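import Cfsg.Statements.S0065
import Mathlib

set_option autoImplicit false
open Cfsg

namespace Cfsg.Agent.S0065

open scoped commutatorElement

/-- A nontrivial normal subgroup of a nilpotent group intersects the centre nontrivially. -/
theorem result {G : Type*} [Group G] [Finite G] [Group.IsNilpotent G]
    (N : Subgroup G) [N.Normal] (hN : N ≠ ⊥) : N ⊓ Subgroup.center G ≠ ⊥ := by
  classical
  have hex : ∃ k, N ⊓ Subgroup.upperCentralSeries G k ≠ ⊥ := by
    refine ⟨Group.nilpotencyClass G, ?_⟩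
    rw [Subgroup.upperCentralSeries_nilpotencyClass, inf_top_eq]; exact hN
  set k := Nat.find hex with hk
  have hk1 : N ⊓ Subgroup.upperCentralSeries G k ≠ ⊥ := Nat.find_spec hex
  have hk0 : k ≠ 0 := by
    intro h0
    rw [h0, Subgroup.upperCentralSeries_zero, inf_bot_eq] at hk1
    exact hk1 rfl
  obtain ⟨j, hj⟩ := Nat.exists_eq_succ_of_ne_zero hk0
  have hjmin : N ⊓ Subgroup.upperCentralSeries G j = ⊥ := by
    by_contra h
    have := Nat.find_min' hex h
    omega
  rw [Ne, Subgroup.eq_bot_iff_forall] at hk1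
  push Not at hk1
  obtain ⟨x, hx, hx1⟩ := hk1
  rw [hj] at hx
  obtain ⟨hxN, hxZ⟩ := Subgroup.mem_inf.mp hx
  rw [Subgroup.mem_upperCentralSeries_succ_iff] at hxZ
  have hxc : x ∈ Subgroup.center G := by
    rw [Subgroup.mem_center_iff]
    intro g
    have h1 : ⁅x, g⁆ ∈ N ⊓ Subgroup.upperCentralSeries G j := by
      refine Subgroup.mem_inf.mpr ⟨?_, hxZ g⟩
      rw [commutatorElement_def]
      have : x * g * x⁻¹ * g⁻¹ = x * (g * x⁻¹ * g⁻¹) := by group
      rw [this]
      exact N.mul_mem hxN (‹N.Normal›.conj_mem _ (N.inv_mem hxN) g)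
    rw [hjmin, Subgroup.mem_bot, commutatorElement_eq_one_iff_mul_comm] at h1
    exact h1.symm
  intro h
  have : x ∈ N ⊓ Subgroup.center G := Subgroup.mem_inf.mpr ⟨hxN, hxc⟩
  rw [h, Subgroup.mem_bot] at this
  exact hx1 this

end Cfsg.Agent.S0065
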