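import Cfsg.Statements.S0015
import Mathlib
import Cfsg.Agent.S0065

set_option autoImplicit false
open Cfsg

namespace Cfsg.Agent.S0015

/-- In a finite nilpotent group, an abelian normal subgroup that is maximal among abelian normal subgroups equals its own centralizer. -/
theorem result {G : Type*} [Group G] [Finite G] [Group.IsNilpotent G]
    (N : Subgroup G) [N.Normal] [IsMulCommutative N]
    (hmax : ∀ M : Subgroup G, M.Normal → IsMulCommutative M → N ≤ M → M = N) :
    Subgroup.centralizer (N : Set G) = N := by
  have hNC : N ≤ Subgroup.centralizer (N : Set G) := by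
    intro n hn
    rw [Subgroup.mem_centralizer_iff]
    intro m hm
    exact setLike_mul_comm hm hn
  by_contra hne
  have hlt : ¬ Subgroup.centralizer (N : Set G) ≤ N := fun h => hne (le_antisymm h hNC)
  set C := Subgroup.centralizer (N : Set G) with hC
  have hCn : C.Normal := Subgroup.normal_centralizer
  have hC'n : (C.map (QuotientGroup.mk' N)).Normal :=
    hCn.map _ (QuotientGroup.mk'_surjective N)
  have hC'ne : C.map (QuotientGroup.mk' N) ≠ ⊥ := by
    intro h
    apply hlt
    intro c hc
    have : QuotientGroup.mk' N c ∈ C.map (QuotientGroup.mk' N) := ⟨c, hc, rfl⟩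
    rw [h, Subgroup.mem_bot] at this
    exact (QuotientGroup.eq_one_iff c).mp this
  have h65 := Cfsg.Agent.S0065.result (C.map (QuotientGroup.mk' N)) hC'ne
  rw [Ne, Subgroup.eq_bot_iff_forall] at h65
  push Not at h65
  obtain ⟨xbar, hxbar, hxbar1⟩ := h65
  obtain ⟨⟨x, hxC, rfl⟩, hxZ⟩ := Subgroup.mem_inf.mp hxbar
  have hxN : x ∉ N := fun h => hxbar1 ((QuotientGroup.eq_one_iff x).mpr h)
  -- M
  set M := N ⊔ Subgroup.zpowers x with hM
  have hMcomm : IsMulCommutative M := by
    have : M = Subgroup.closure ((N : Set G) ∪ {x}) := by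
      rw [Subgroup.closure_union, Subgroup.closure_eq, ← Subgroup.zpowers_eq_closure]
    rw [this]
    apply Subgroup.isMulCommutative_closure
    rintro a (ha | ha) b (hb | hb)
    · exact setLike_mul_comm ha hb
    · rw [Set.mem_singleton_iff] at hb; subst hb
      have hxC' : b ∈ Subgroup.centralizer (N : Set G) := hxC
      rw [Subgroup.mem_centralizer_iff] at hxC'
      exact hxC' a ha
    · rw [Set.mem_singleton_iff] at ha; subst ha
      have hxC' : a ∈ Subgroup.centralizer (N : Set G) := hxC
      rw [Subgroup.mem_centralizer_iff] at hxC'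
      exact (hxC' b hb).symm
    · rw [Set.mem_singleton_iff] at ha hb; rw [ha, hb]
  have hMn : M.Normal := by
    have h1 : (Subgroup.zpowers (QuotientGroup.mk' N x)).Normal := by
      constructor
      intro n hn g
      obtain ⟨k, rfl⟩ := Subgroup.mem_zpowers_iff.mp hn
      have hc : Commute g (QuotientGroup.mk' N x) := Subgroup.mem_center_iff.mp hxZ g
      have hcomm : g * (QuotientGroup.mk' N x) ^ k = (QuotientGroup.mk' N x) ^ k * g :=
        (hc.zpow_right k).eq
      rw [hcomm, mul_assoc, mul_inv_cancel, mul_one]
      exact Subgroup.zpow_mem_zpowers _ k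
    have h2 : M = (Subgroup.zpowers (QuotientGroup.mk' N x)).comap (QuotientGroup.mk' N) := by
      rw [← MonoidHom.map_zpowers, Subgroup.comap_map_eq, QuotientGroup.ker_mk', sup_comm]
    rw [h2]
    exact h1.comap _
  have := hmax M hMn hMcomm le_sup_left
  apply hxN
  rw [← this]
  exact le_sup_right (a := N) (Subgroup.mem_zpowers x)

end Cfsg.Agent.S0015
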