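import Mathlib
import Cfsg.Statements.S4253
import Cfsg.Agent.H2.ConjMap

set_option autoImplicit false
open Cfsg

namespace Cfsg.Agent.S4253

open Cfsg.Agent.H2
open scoped Pointwise

theorem result {G : Type*} [Group G] [Finite G] (H : Subgroup G) (hH : Cfsg.IsFrobeniusComplement H)
    (g : G) (hg : g ≠ 1) (a b : G ⧸ H) (ha : g • a = a) (hb : g • b = b) : a = b := by
  obtain ⟨u, rfl⟩ := QuotientGroup.mk_surjective a
  obtain ⟨v, rfl⟩ := QuotientGroup.mk_surjective b
  have hu : u⁻¹ * g * u ∈ H := by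
    have : (QuotientGroup.mk (g * u) : G ⧸ H) = QuotientGroup.mk u := ha
    rw [QuotientGroup.eq] at this
    have h2 := H.inv_mem this
    convert h2 using 1
    group
  have hv : v⁻¹ * g * v ∈ H := by
    have : (QuotientGroup.mk (g * v) : G ⧸ H) = QuotientGroup.mk v := hb
    rw [QuotientGroup.eq] at this
    have h2 := H.inv_mem this
    convert h2 using 1
    group
  rw [QuotientGroup.eq]
  by_contra hne
  have h1 := hH.2.2 (u⁻¹ * v) hne
  have h2 : u⁻¹ * g * u ∈ H ⊓ (MulAut.conj (u⁻¹ * v) • H) := by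
    refine Subgroup.mem_inf.2 ⟨hu, ?_⟩
    rw [mem_conj_smul_iff]
    convert hv using 1
    group
  rw [h1, Subgroup.mem_bot] at h2
  apply hg
  calc g = u * (u⁻¹ * g * u) * u⁻¹ := by group
    _ = 1 := by rw [h2]; group

end Cfsg.Agent.S4253
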