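import Cfsg.Statements.S0002
import Mathlib
import Cfsg.Agent.H1.Basic

set_option autoImplicit false
open Pointwise
open Cfsg

namespace Cfsg.Agent.S0002

open Cfsg.Agent.H1
open scoped Pointwise

/-- Schur's Theorem, conjugacy part, for an abelian normal subgroup of coprime order and index: any two complements are conjugate by an element of the normal subgroup. -/
theorem result {G : Type*} [Group G] [Finite G] (A : Subgroup G) [A.Normal] [IsMulCommutative A]
    (hA : (Nat.card A).Coprime A.index)
    (H K : Subgroup G) (hH : Subgroup.IsComplement' A H) (hK : Subgroup.IsComplement' A K) :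
    ∃ a ∈ A, MulAut.conj a • H = K := by
  let mk : A.LeftTransversal → A.QuotientDiff := fun α => Quotient.mk'' α
  have hmk : ∀ (g : G) (α : A.LeftTransversal), g • mk α = mk (MulOpposite.op g⁻¹ • α) := fun g α => rfl
  have key : ∀ (L : Subgroup G) (hL : Subgroup.IsComplement' A L),
      MulAction.stabilizer G (mk ⟨L, hL.symm⟩) = L := by
    intro L hL
    have hle : L ≤ MulAction.stabilizer G (mk ⟨L, hL.symm⟩) := by
      intro h hh
      rw [MulAction.mem_stabilizer_iff, hmk]
      congr 1
      apply Subtype.ext
      show MulOpposite.op h⁻¹ • (L : Set G) = L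
      ext x
      rw [Set.mem_smul_set_iff_inv_smul_mem]
      simp only [MulOpposite.smul_eq_mul_unop, MulOpposite.unop_inv, MulOpposite.unop_op, inv_inv, SetLike.mem_coe]
      exact L.mul_mem_cancel_right hh
    have hc := Subgroup.isComplement'_stabilizer_of_coprime (α := mk ⟨L, hL.symm⟩) hA
    have h1 := hc.card_mul_card
    have h2 := hL.card_mul_card
    have hApos : 0 < Nat.card A := Nat.card_pos
    have h3 : Nat.card (MulAction.stabilizer G (mk ⟨L, hL.symm⟩)) = Nat.card L :=
      Nat.eq_of_mul_eq_mul_left hApos (h1.trans h2.symm)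
    exact (Subgroup.eq_of_le_of_card_ge hle h3.le).symm
  obtain ⟨a, ha⟩ := Subgroup.exists_smul_eq hA (mk ⟨H, hH.symm⟩) (mk ⟨K, hK.symm⟩)
  refine ⟨a, a.2, ?_⟩
  rw [← key K hK, ← ha, Subgroup.smul_def, MulAction.stabilizer_smul_eq_stabilizer_map_conj, key H hH]
  rfl

end Cfsg.Agent.S0002
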