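import Cfsg.Statements.S0043
import Mathlib
import Cfsg.Agent.H1.Basic

set_option autoImplicit false
open Cfsg

namespace Cfsg.Agent.S0043

open Cfsg.Agent.H1

/-- A minimal normal subgroup of a finite solvable group is abelian, and for some prime p all of its elements have order dividing p. -/
theorem result {G : Type*} [Group G] [Finite G] [Group.IsSolvable G]
    (N : Subgroup G) [N.Normal] (hN : N ≠ ⊥) (hmin : ∀ M : Subgroup G, M.Normal → M ≤ N → M = ⊥ ∨ M = N) :
    IsMulCommutative N ∧ ∃ p : ℕ, p.Prime ∧ ∀ x ∈ N, x ^ p = 1 := by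
  have hlt : ⁅N, N⁆ < N := Group.IsSolvable.commutator_lt_of_ne_bot hN
  have hcomm : ⁅N, N⁆ = ⊥ := by
    rcases hmin ⁅N, N⁆ inferInstance hlt.le with h | h
    · exact h
    · exact absurd h hlt.ne
  have hab : IsMulCommutative N := Subgroup.commutator_self_eq_bot_iff.mp hcomm
  refine ⟨hab, ?_⟩
  -- a prime dividing |N|
  have hcard : Nat.card N ≠ 1 := by
    intro h
    exact hN ((Subgroup.card_eq_one).mp h)
  obtain ⟨p, hp, hpd⟩ := Nat.exists_prime_and_dvd hcard
  refine ⟨p, hp, ?_⟩
  have : Fact p.Prime := ⟨hp⟩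
  -- Ω
  let S : Subgroup G :=
    { carrier := {x | x ∈ N ∧ x ^ p = 1}
      mul_mem' := by
        rintro a b ⟨ha, ha'⟩ ⟨hb, hb'⟩
        refine ⟨mul_mem ha hb, ?_⟩
        have : Commute a b := setLike_mul_comm ha hb
        rw [this.mul_pow, ha', hb', one_mul]
      one_mem' := ⟨one_mem N, one_pow p⟩
      inv_mem' := by
        rintro a ⟨ha, ha'⟩
        exact ⟨inv_mem ha, by rw [inv_pow, ha', inv_one]⟩ }
  have hSmem : ∀ x, x ∈ S ↔ x ∈ N ∧ x ^ p = 1 := fun x => Iff.rfl
  have hSn : S.Normal := by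
    constructor
    intro x hx g
    rw [hSmem] at hx ⊢
    refine ⟨(inferInstance : N.Normal).conj_mem x hx.1 g, ?_⟩
    rw [conj_pow, hx.2]; group
  have hSN : S ≤ N := fun x hx => ((hSmem x).mp hx).1
  have hSne : S ≠ ⊥ := by
    obtain ⟨x, hx⟩ := exists_prime_orderOf_dvd_card' p hpd
    intro hS
    have hxS : (x : G) ∈ S := by
      rw [hSmem]
      refine ⟨x.2, ?_⟩
      have : x ^ p = 1 := by rw [← hx]; exact pow_orderOf_eq_one x
      have := congrArg Subtype.val this
      simpa using this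
    rw [hS, Subgroup.mem_bot] at hxS
    have hx1 : x = 1 := Subtype.ext hxS
    rw [hx1, orderOf_one] at hx
    exact hp.one_lt.ne hx
  rcases hmin S hSn hSN with h | h
  · exact absurd h hSne
  · intro x hx
    have : x ∈ S := by rw [h]; exact hx
    exact ((hSmem x).mp this).2

end Cfsg.Agent.S0043
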