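import Cfsg.Statements.S0023
import Mathlib
import Cfsg.Agent.H1.CoprimeAction
import Cfsg.Agent.H1.SylowMore

set_option autoImplicit false
open Cfsg

namespace Cfsg.Agent.S0023

open Cfsg.Agent.H1
open scoped Pointwise commutatorElement

/-- Under coprime action there is an invariant Sylow subgroup: with A normalising K, coprime orders and A or K solvable, some Sylow p-subgroup of K is normalised by A. -/
theorem result {G : Type*} [Group G] [Finite G] (A K : Subgroup G) (hAK : A ≤ Subgroup.normalizer (K : Set G))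
    (hcop : (Nat.card A).Coprime (Nat.card K)) (hsolv : Group.IsSolvable A ∨ Group.IsSolvable K)
    (p : ℕ) [Fact p.Prime] :
    ∃ P : Sylow p K, A ≤ Subgroup.normalizer ((P : Subgroup K).map K.subtype : Set G) := by
  obtain P₀ : Sylow p K := default
  obtain ⟨P, hPdef⟩ : ∃ P : Subgroup G, P = (P₀ : Subgroup K).map K.subtype := ⟨_, rfl⟩
  have hPK : P ≤ K := by rw [hPdef]; exact Subgroup.map_subtype_le _
  have hPp : IsPGroup p P := by rw [hPdef]; exact P₀.isPGroup'.map _
  have hPidx : ¬ p ∣ P.relIndex K := by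
    have : P.subgroupOf K = (P₀ : Subgroup K) := by
      rw [hPdef]; exact Subgroup.comap_map_eq_self_of_injective K.subtype_injective _
    show ¬ p ∣ (P.subgroupOf K).index
    rw [this]; exact P₀.not_dvd_index
  have hdisj : K ⊓ A = ⊥ := (Subgroup.disjoint_of_coprime_natCard hcop.symm).eq_bot
  have hLn : K ⊔ A ≤ Subgroup.normalizer (K : Set G) := sup_le Subgroup.le_normalizer hAK
  -- Frattini
  have hfrat : ∀ a ∈ A, ∃ k ∈ K, k⁻¹ * a ∈ Subgroup.normalizer (P : Set G) := by
    intro a ha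
    have hQK : P.map (MulAut.conj a).toMonoidHom ≤ K := by
      rintro _ ⟨x, hx, rfl⟩
      exact (Subgroup.mem_normalizer_iff.mp (hAK ha) x).mp (hPK hx)
    obtain ⟨k, hk, hle⟩ := exists_le_map_conj_of_pgroup K P _ hPK hPp hPidx hQK (hPp.map _)
    refine ⟨k, hk, ?_⟩
    apply mem_normalizer_of_map_conj_le
    have := Subgroup.map_mono (f := (MulAut.conj k⁻¹).toMonoidHom) hle
    rw [map_conj_map_conj, map_conj_map_conj k k⁻¹, inv_mul_cancel, map_conj_one] at this
    exact this
  obtain ⟨NL, hNL⟩ : ∃ NL : Subgroup G, NL = Subgroup.normalizer (P : Set G) ⊓ (K ⊔ A) := ⟨_, rfl⟩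
  have hNLle : NL ≤ K ⊔ A := by rw [hNL]; exact inf_le_right
  have hsup : NL ⊔ K = K ⊔ A := by
    apply le_antisymm (sup_le hNLle le_sup_left)
    apply sup_le le_sup_right
    intro a ha
    obtain ⟨k, hk, hka⟩ := hfrat a ha
    have e : a = k * (k⁻¹ * a) := by group
    rw [e]
    refine mul_mem (Subgroup.mem_sup_right hk) (Subgroup.mem_sup_left ?_)
    rw [hNL]
    exact Subgroup.mem_inf.mpr ⟨hka, mul_mem (Subgroup.mem_sup_left (inv_mem hk)) (Subgroup.mem_sup_right ha)⟩
  have hinf : NL ⊓ K = Subgroup.normalizer (P : Set G) ⊓ K := by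
    rw [hNL, inf_assoc, inf_eq_right.mpr (le_sup_left : K ≤ K ⊔ A)]
  have hcardNL : Nat.card NL = Nat.card A * Nat.card (NL ⊓ K : Subgroup G) := by
    have h1 := card_sup_mul_card_inf NL K (hNLle.trans hLn)
    have h2 := card_sup_mul_card_inf A K hAK
    rw [inf_comm A K, hdisj, Subgroup.card_bot, mul_one, sup_comm] at h2
    rw [hsup, h2] at h1
    have hpos : 0 < Nat.card K := Nat.card_pos
    have : Nat.card K * (Nat.card A * Nat.card (NL ⊓ K : Subgroup G)) = Nat.card K * Nat.card NL := by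
      rw [mul_comm (Nat.card K) (Nat.card NL), ← h1]; ring
    exact (Nat.eq_of_mul_eq_mul_left hpos this).symm
  -- the normal Hall subgroup of NL
  have hDn : ((NL ⊓ K).subgroupOf NL).Normal := by
    rw [Subgroup.inf_subgroupOf_left]
    exact Subgroup.normal_subgroupOf_of_le_normalizer (hNLle.trans hLn)
  have hDidx : ((NL ⊓ K).subgroupOf NL).index = Nat.card A := by
    have h1 := Subgroup.card_mul_index ((NL ⊓ K).subgroupOf NL)
    rw [card_subgroupOf_of_le inf_le_left, hcardNL, mul_comm] at h1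
    exact Nat.eq_of_mul_eq_mul_right Nat.card_pos h1
  have hDcop : (Nat.card ((NL ⊓ K).subgroupOf NL)).Coprime ((NL ⊓ K).subgroupOf NL).index := by
    rw [hDidx, card_subgroupOf_of_le inf_le_left]
    exact (Nat.Coprime.coprime_dvd_right (Subgroup.card_dvd_of_le inf_le_right) hcop).symm
  obtain ⟨B', hB'⟩ := Subgroup.exists_right_complement'_of_coprime hDcop
  have hcardB : Nat.card (B'.map NL.subtype) = Nat.card A := by
    rw [Subgroup.card_map_of_injective NL.subtype_injective, ← hB'.symm.index_eq_card, hDidx]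
  have hBNL : B'.map NL.subtype ≤ NL := Subgroup.map_subtype_le _
  obtain ⟨n, hn, hnA⟩ := coprime_conj A K (B'.map NL.subtype) hAK hcop hsolv (hBNL.trans hNLle) hcardB
  -- the Sylow subgroup n⁻¹ P n
  refine ⟨(⟨n, hn⟩ : K)⁻¹ • P₀, ?_⟩
  rw [sylow_smul_map_subtype, ← hPdef]
  intro a ha
  have h1 : n * a * n⁻¹ ∈ B'.map NL.subtype := by
    rw [← hnA]; exact (conj_mem_conj_smul n a A).mpr ha
  have h2 : n * a * n⁻¹ ∈ Subgroup.normalizer (P : Set G) := by
    have := hBNL h1
    rw [hNL] at this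
    exact (Subgroup.mem_inf.mp this).1
  rw [← map_conj_eq_self_iff] at h2 ⊢
  show (P.map (MulAut.conj (n⁻¹ : G)).toMonoidHom).map (MulAut.conj a).toMonoidHom = P.map (MulAut.conj (n⁻¹ : G)).toMonoidHom
  rw [map_conj_map_conj]
  have e : a * n⁻¹ = n⁻¹ * (n * a * n⁻¹) := by group
  rw [e, ← map_conj_map_conj, h2]

end Cfsg.Agent.S0023
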