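import Cfsg.Statements.S1963
import Mathlib
import Cfsg.Agent.Lib.Helper7.SylowLib
import Cfsg.Agent.Lib.Lead.Conj

set_option autoImplicit false
set_option linter.style.haveILetI false
set_option linter.unusedSectionVars false
open Cfsg Cfsg.Agent.Lib.Helper7 Cfsg.Agent.Lib.Lead.Conj

namespace Cfsg.Agent.S1963

variable {G : Type*} [Group G]

/-- conjugate of a subgroup. -/
abbrev cj (g : G) (U : Subgroup G) : Subgroup G := U.map (MulAut.conj g).toMonoidHom

theorem cj_cj (g h : G) (U : Subgroup G) : cj g (cj h U) = cj (g * h) U := by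
  unfold cj
  rw [Subgroup.map_map]
  congr 1
  ext x
  simp [MulAut.conj_apply, mul_assoc]

theorem cj_one (U : Subgroup G) : cj 1 U = U := by
  unfold cj
  ext x
  rw [mem_map_conj]
  simp

theorem cj_mono (g : G) {U V : Subgroup G} (h : U ≤ V) : cj g U ≤ cj g V := Subgroup.map_mono h

theorem cj_inf (g : G) (U V : Subgroup G) : cj g (U ⊓ V) = cj g U ⊓ cj g V :=
  Subgroup.map_inf_eq _ _ _ (MulAut.conj g).injective

theorem cj_normalizer (g : G) (U : Subgroup G) :
    cj g (Subgroup.normalizer (U : Set G)) = Subgroup.normalizer ((cj g U : Subgroup G) : Set G) := by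
  have := Subgroup.map_equiv_normalizer_eq U (MulAut.conj g)
  exact this

theorem card_cj (g : G) (U : Subgroup G) : Nat.card ↥(cj g U) = Nat.card ↥U := card_map_conj U g

theorem isSylowIn_cj {p : ℕ} (g : G) {R N : Subgroup G} (h : IsSylowIn p R N) : IsSylowIn p (cj g R) (cj g N) := by
  refine ⟨cj_mono g h.1, ?_⟩
  rw [card_cj, card_cj]
  exact h.2

/-- a `p`-subgroup between a Sylow subgroup of `N` and `N` is that Sylow subgroup. -/
theorem eq_of_isSylowIn_le [Finite G] {p : ℕ} [hp : Fact p.Prime] {R R' N : Subgroup G} (h : IsSylowIn p R N)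
    (hRR' : R ≤ R') (hR'N : R' ≤ N) (hR' : IsPGroup p ↥R') : R' = R := by
  symm
  apply Subgroup.eq_of_le_of_card_ge hRR'
  obtain ⟨k, hk⟩ := IsPGroup.iff_card.mp hR'
  rw [h.2, hk]
  have hdvd : p ^ k ∣ Nat.card ↥N := hk ▸ Subgroup.card_dvd_of_le hR'N
  have hpos : Nat.card ↥N ≠ 0 := Nat.card_pos.ne'
  have := (hp.out.pow_dvd_iff_le_factorization hpos).mp hdvd
  exact Nat.pow_le_pow_right hp.out.pos this

/-- bridge to the relative index formulation. -/
theorem not_dvd_relIndex_of_isSylowIn [Finite G] {p : ℕ} [hp : Fact p.Prime] {R N : Subgroup G}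
    (h : IsSylowIn p R N) : ¬ p ∣ R.relIndex N := by
  intro hdvd
  have h1 := (R.subgroupOf N).card_mul_index
  rw [card_subgroupOf_of_le h.1, h.2] at h1
  obtain ⟨f, hf⟩ : ∃ f, f = (Nat.card ↥N).factorization p := ⟨_, rfl⟩
  rw [← hf] at h1
  have h2 : p ^ (f + 1) ∣ Nat.card ↥N := by
    rw [pow_succ, ← h1]
    exact Nat.mul_dvd_mul_left _ hdvd
  have hpos : Nat.card ↥N ≠ 0 := Nat.card_pos.ne'
  have := (hp.out.pow_dvd_iff_le_factorization hpos).mp h2
  omega

section tower

variable [Finite G] {p : ℕ} [hp : Fact p.Prime] (S : Sylow p G) (W : Subgroup G → Subgroup G)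

/-- `N_S(U)`. -/
abbrev NS (U : Subgroup G) : Subgroup G := (S : Subgroup G) ⊓ Subgroup.normalizer (U : Set G)

theorem isPGroup_NS (U : Subgroup G) : IsPGroup p ↥(NS S U) := S.isPGroup'.to_le inf_le_left

theorem tower_succ (T : Subgroup G) (i : ℕ) :
    functorTower W (S : Subgroup G) T (i + 1) = W (NS S (functorTower W (S : Subgroup G) T i)) := rfl

theorem tower_zero (T : Subgroup G) : functorTower W (S : Subgroup G) T 0 = T := rfl

variable {W}

/-- `N_S(W_i) ≤ N_S(W_{i+1})`. -/
theorem NS_mono (hW : IsConjugacyFunctor p W) (T : Subgroup G) (i : ℕ) :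
    NS S (functorTower W (S : Subgroup G) T i) ≤ NS S (functorTower W (S : Subgroup G) T (i + 1)) := by
  refine le_inf inf_le_left ?_
  intro x hx
  rw [tower_succ]
  set Q := NS S (functorTower W (S : Subgroup G) T i) with hQ
  have hQp : IsPGroup p ↥Q := isPGroup_NS S _
  have h3 := (hW Q hQp).2.2 x
  have h4 : cj x Q = Q := by
    apply map_conj_eq_of_le
    rintro _ ⟨q, hq, rfl⟩
    exact Q.mul_mem (Q.mul_mem hx hq) (Q.inv_mem hx)
  unfold cj at h4
  rw [h4] at h3
  -- `x` normalizes `W Q`
  rw [Subgroup.mem_normalizer_iff]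
  intro y
  constructor
  · intro hy
    rw [h3]
    exact conj_mem_map_conj _ x hy
  · intro hy
    rw [h3, mem_map_conj] at hy
    have e : x⁻¹ * (x * y * x⁻¹) * x = y := by group
    rwa [e] at hy

theorem NS_mono_le (hW : IsConjugacyFunctor p W) (T : Subgroup G) {i j : ℕ} (hij : i ≤ j) :
    NS S (functorTower W (S : Subgroup G) T i) ≤ NS S (functorTower W (S : Subgroup G) T j) := by
  induction hij with
  | refl => exact le_rfl
  | step _ ih => exact ih.trans (NS_mono S hW T _)

/-- The Sylow condition at level `i`. -/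
def Good (T : Subgroup G) (i : ℕ) : Prop :=
  IsSylowIn p (NS S (functorTower W (S : Subgroup G) T i))
    (Subgroup.normalizer ((functorTower W (S : Subgroup G) T i : Subgroup G) : Set G))

/-- The inductive step. -/
theorem step (hW : IsConjugacyFunctor p W) (T : Subgroup G) (hT : T ≤ (S : Subgroup G)) (n : ℕ)
    (hgood : ∀ i < n, Good S (W := W) T i) :
    ∃ g : G, cj g T ≤ (S : Subgroup G) ∧ ∀ i ≤ n, Good S (W := W) (cj g T) i := by
  set tw := functorTower W (S : Subgroup G) T with htw
  -- a Sylow subgroup `R` of `N_G(W_n)` containing `N_S(W_n)`, and `g` conjugating it into `S`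
  obtain ⟨R, hR, hQR⟩ := exists_isSylowIn_ge (isPGroup_NS S (tw n)) (inf_le_right : NS S (tw n) ≤ _)
  obtain ⟨S', hS'⟩ := hR.isPGroup.exists_le_sylow
  obtain ⟨g, hg⟩ := MulAction.exists_smul_eq G S' S
  have hgR : cj g R ≤ (S : Subgroup G) := by
    rw [← hg, Sylow.coe_subgroup_smul]
    rintro _ ⟨r, hr, rfl⟩
    exact Subgroup.smul_mem_pointwise_smul _ _ _ (hS' hr)
  have hle : ∀ i ≤ n, cj g (NS S (tw i)) ≤ (S : Subgroup G) := fun i hi =>
    (cj_mono g ((NS_mono_le S hW T hi).trans hQR)).trans hgR
  have hTg : cj g T ≤ (S : Subgroup G) := by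
    refine (cj_mono g ?_).trans (hle 0 (Nat.zero_le n))
    exact le_inf hT Subgroup.le_normalizer
  refine ⟨g, hTg, ?_⟩
  -- the tower of the conjugate is the conjugate of the tower, up to level `n`
  have key : ∀ i ≤ n, functorTower W (S : Subgroup G) (cj g T) i = cj g (tw i) := by
    intro i
    induction i with
    | zero => intro _; rfl
    | succ i ih =>
      intro hi
      have hi' : i ≤ n := Nat.le_of_succ_le hi
      have hilt : i < n := hi
      rw [tower_succ, ih hi']
      -- `N_S(cj g W_i) = cj g (N_S(W_i))`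
      have h1 : NS S (cj g (tw i)) = cj g (NS S (tw i)) := by
        apply eq_of_isSylowIn_le (p := p) (N := Subgroup.normalizer ((cj g (tw i) : Subgroup G) : Set G))
        · rw [← cj_normalizer]
          exact isSylowIn_cj g (hgood i hilt)
        · refine le_inf (hle i hi') ?_
          rw [← cj_normalizer]
          exact cj_mono g inf_le_right
        · exact inf_le_right
        · exact isPGroup_NS S _
      rw [h1]
      exact (hW _ (isPGroup_NS S (tw i))).2.2 g
  intro i hi
  unfold Good
  rw [key i hi]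
  rcases Nat.lt_or_eq_of_le hi with hlt | rfl
  · have h1 : NS S (cj g (tw i)) = cj g (NS S (tw i)) := by
      apply eq_of_isSylowIn_le (p := p) (N := Subgroup.normalizer ((cj g (tw i) : Subgroup G) : Set G))
      · rw [← cj_normalizer]
        exact isSylowIn_cj g (hgood i hlt)
      · refine le_inf (hle i hi) ?_
        rw [← cj_normalizer]
        exact cj_mono g inf_le_right
      · exact inf_le_right
      · exact isPGroup_NS S _
    rw [h1, ← cj_normalizer]
    exact isSylowIn_cj g (hgood i hlt)
  · have h1 : NS S (cj g (tw i)) = cj g R := by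
      apply eq_of_isSylowIn_le (p := p) (N := Subgroup.normalizer ((cj g (tw i) : Subgroup G) : Set G))
      · rw [← cj_normalizer]
        exact isSylowIn_cj g hR
      · refine le_inf hgR ?_
        rw [← cj_normalizer]
        exact cj_mono g hR.1
      · exact inf_le_right
      · exact isPGroup_NS S _
    rw [h1, ← cj_normalizer]
    exact isSylowIn_cj g hR

/-- Iterating the step. -/
theorem iterate (hW : IsConjugacyFunctor p W) (T : Subgroup G) (hT : T ≤ (S : Subgroup G)) (n : ℕ) :
    ∃ g : G, cj g T ≤ (S : Subgroup G) ∧ ∀ i < n, Good S (W := W) (cj g T) i := by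
  induction n with
  | zero => exact ⟨1, by rw [cj_one]; exact hT, fun i hi => absurd hi (Nat.not_lt_zero i)⟩
  | succ n ih =>
    obtain ⟨g, hg, hgood⟩ := ih
    obtain ⟨g', hg', hgood'⟩ := step S hW (cj g T) hg n hgood
    refine ⟨g' * g, ?_, ?_⟩
    · rw [← cj_cj]; exact hg'
    · intro i hi
      rw [← cj_cj]
      exact hgood' i (Nat.lt_succ_iff.mp hi)

/-- Once two consecutive `N_S(W_i)` agree, the tower is constant. -/
theorem tower_const (T : Subgroup G) {i : ℕ}
    (h : NS S (functorTower W (S : Subgroup G) T i) = NS S (functorTower W (S : Subgroup G) T (i + 1))) :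
    ∀ j, functorTower W (S : Subgroup G) T (i + 1 + j) = functorTower W (S : Subgroup G) T (i + 1) := by
  intro j
  induction j with
  | zero => rfl
  | succ j ih =>
    have e : i + 1 + (j + 1) = (i + 1 + j) + 1 := by omega
    rw [e, tower_succ, ih, ← h]
    exact (tower_succ S W T i).symm

/-- The tower of any subgroup is constant from level `|S| + 1` on. -/
theorem tower_stable (hW : IsConjugacyFunctor p W) (T : Subgroup G) :
    ∀ j, Nat.card ↥(S : Subgroup G) + 1 ≤ j →
      functorTower W (S : Subgroup G) T j = functorTower W (S : Subgroup G) T (Nat.card ↥(S : Subgroup G) + 1) := by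
  set m := Nat.card ↥(S : Subgroup G) with hm
  -- some `i ≤ m` with `N_S(W_i) = N_S(W_{i+1})`
  have hex : ∃ i ≤ m, NS S (functorTower W (S : Subgroup G) T i) = NS S (functorTower W (S : Subgroup G) T (i + 1)) := by
    by_contra hcon
    push Not at hcon
    have hlt : ∀ i ≤ m + 1, i + 1 ≤ Nat.card ↥(NS S (functorTower W (S : Subgroup G) T i)) := by
      intro i
      induction i with
      | zero => intro _; exact Nat.card_pos
      | succ i ih =>
        intro hi
        have hi' : i ≤ m := by omega
        have h1 := ih (by omega)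
        have hle := NS_mono S hW T i
        have hne := hcon i hi'
        have hlt : NS S (functorTower W (S : Subgroup G) T i) < NS S (functorTower W (S : Subgroup G) T (i + 1)) :=
          lt_of_le_of_ne hle hne
        have : Nat.card ↥(NS S (functorTower W (S : Subgroup G) T i)) <
            Nat.card ↥(NS S (functorTower W (S : Subgroup G) T (i + 1))) :=
          Set.ncard_lt_ncard (SetLike.coe_ssubset_coe.mpr hlt) (Set.toFinite _)
        omega
    have h1 := hlt (m + 1) le_rfl
    have h2 : Nat.card ↥(NS S (functorTower W (S : Subgroup G) T (m + 1))) ≤ m :=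
      Subgroup.card_le_of_le inf_le_left
    omega
  obtain ⟨i, hi, heq⟩ := hex
  have hc := tower_const S T heq
  intro j hj
  have e1 : j = i + 1 + (j - (i + 1)) := by omega
  have e2 : m + 1 = i + 1 + (m + 1 - (i + 1)) := by omega
  rw [e1, hc, e2, hc]

end tower

/-- Let p be a prime, G a finite group with Sylow p-subgroup S, W a conjugacy functor for p on G and T a subgroup of S. Then some G-conjugate of T is well placed in S with respect to W. -/
theorem result {G : Type*} [Group G] [Finite G] {p : ℕ} [Fact p.Prime] (S : Sylow p G) (W : Subgroup G → Subgroup G) (hW : Cfsg.IsConjugacyFunctor p W) (T : Subgroup G) (hT : T ≤ (S : Subgroup G)) : ∃ g : G, Cfsg.IsWellPlaced p W (S : Subgroup G) (T.map (MulAut.conj g).toMonoidHom) := by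
  obtain ⟨g, hg, hgood⟩ := iterate S hW T hT (Nat.card ↥(S : Subgroup G) + 2)
  refine ⟨g, hg, fun i => ?_⟩
  by_cases hi : i < Nat.card ↥(S : Subgroup G) + 2
  · exact not_dvd_relIndex_of_isSylowIn (hgood i hi)
  · have hst := tower_stable S hW (T.map (MulAut.conj g).toMonoidHom) i (by omega)
    rw [hst]
    exact not_dvd_relIndex_of_isSylowIn (hgood _ (by omega))

end Cfsg.Agent.S1963
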