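import Cfsg.Statements.S1965
import Mathlib
import Cfsg.Agent.Lib.Lead.ConjFamily
import Cfsg.Agent.S1963

set_option autoImplicit false
set_option linter.style.haveILetI false
open Cfsg Cfsg.Agent.Lib.Helper7 Cfsg.Agent.Lib.Lead.Conj Cfsg.Agent.Lib.Lead.ConjFamily Cfsg.Agent.S1963

namespace Cfsg.Agent.S1965

variable {G : Type*} [Group G]

theorem cj_eq_of_mem_normalizer {n : G} {U : Subgroup G} (hn : n ∈ Subgroup.normalizer (U : Set G)) :
    cj n U = U := by
  ext x
  unfold cj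
  rw [mem_map_conj]
  have h1 : n⁻¹ ∈ Subgroup.normalizer (U : Set G) := Subgroup.inv_mem _ hn
  have := (Subgroup.mem_normalizer_iff.mp h1) x
  rw [inv_inv] at this
  exact this.symm

/-- bridge from the relative index formulation. -/
theorem isSylowIn_of_not_dvd_relIndex [Finite G] {p : ℕ} [hp : Fact p.Prime] {R N : Subgroup G} (hRN : R ≤ N)
    (hR : IsPGroup p ↥R) (h : ¬ p ∣ R.relIndex N) : IsSylowIn p R N := by
  refine ⟨hRN, ?_⟩
  have h1 := (R.subgroupOf N).card_mul_index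
  rw [card_subgroupOf_of_le hRN] at h1
  obtain ⟨k, hk⟩ := IsPGroup.iff_card.mp hR
  have hidx : (R.subgroupOf N).index ≠ 0 := by
    intro h0
    rw [h0, mul_zero] at h1
    exact Nat.card_pos.ne' h1.symm
  have h2 : (Nat.card ↥N).factorization p = k := by
    have h3 : (R.subgroupOf N).index.factorization p = 0 := Nat.factorization_eq_zero_of_not_dvd h
    rw [← h1, hk, Nat.factorization_mul (pow_ne_zero k hp.out.ne_zero) hidx]
    simp only [Finsupp.coe_add, Pi.add_apply]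
    rw [hp.out.factorization_pow, h3]
    simp
  rw [h2, hk]

/-- the normalizer of a proper subgroup of a `p`-group grows. -/
theorem exists_mem_normalizer_not_mem [Finite G] {p : ℕ} [hp : Fact p.Prime] (S : Sylow p G) {T : Subgroup G}
    (hTS : T ≤ (S : Subgroup G)) (hne : T ≠ (S : Subgroup G)) :
    T < (S : Subgroup G) ⊓ Subgroup.normalizer (T : Set G) := by
  have hnil : Group.IsNilpotent ↥(S : Subgroup G) := S.isPGroup'.isNilpotent
  have hnc := Group.normalizerCondition_of_isNilpotent (G := ↥(S : Subgroup G))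
  have hlt : T.subgroupOf (S : Subgroup G) < ⊤ := by
    rw [lt_top_iff_ne_top, Ne, Subgroup.subgroupOf_eq_top]
    intro h
    exact hne (le_antisymm hTS h)
  have h2 := hnc _ hlt
  obtain ⟨s, hsN, hsT⟩ := SetLike.exists_of_lt h2
  refine lt_of_le_of_ne (le_inf hTS Subgroup.le_normalizer) ?_
  intro heq
  apply hsT
  rw [Subgroup.mem_subgroupOf, heq]
  refine ⟨s.2, ?_⟩
  show (s : G) ∈ Subgroup.normalizer (T : Set G)
  rw [Subgroup.mem_normalizer_iff]
  intro y
  have hsN' := Subgroup.mem_normalizer_iff.mp hsN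
  constructor
  · intro hy
    have := (hsN' ⟨y, hTS hy⟩).mp (Subgroup.mem_subgroupOf.mpr hy)
    exact Subgroup.mem_subgroupOf.mp this
  · intro hy
    have hyS : y ∈ (S : Subgroup G) := by
      have h3 : y = (s : G)⁻¹ * ((s : G) * y * (s : G)⁻¹) * s := by group
      rw [h3]
      exact Subgroup.mul_mem _ (Subgroup.mul_mem _ (Subgroup.inv_mem _ s.2) (hTS hy)) s.2
    have := (hsN' ⟨y, hyS⟩).mpr (Subgroup.mem_subgroupOf.mpr hy)
    exact Subgroup.mem_subgroupOf.mp this

/-- Claim 1: a conjugating element can be chosen to carry `N_S(T₀)` into `N_S(U)`. -/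
theorem claim1 [Finite G] {p : ℕ} [hp : Fact p.Prime] (S : Sylow p G) {U T₀ : Subgroup G}
    (hU : IsSylowIn p ((S : Subgroup G) ⊓ Subgroup.normalizer (U : Set G)) (Subgroup.normalizer (U : Set G)))
    (h0 : G) (hT₀U : cj h0 T₀ = U) :
    ∃ h : G, cj h T₀ = U ∧ cj h ((S : Subgroup G) ⊓ Subgroup.normalizer (T₀ : Set G)) ≤
      (S : Subgroup G) ⊓ Subgroup.normalizer (U : Set G) := by
  set X := cj h0 ((S : Subgroup G) ⊓ Subgroup.normalizer (T₀ : Set G)) with hX
  have hXp : IsPGroup p ↥X := (S.isPGroup'.to_le inf_le_left).map _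
  have hXN : X ≤ Subgroup.normalizer (U : Set G) := by
    rw [← hT₀U, ← cj_normalizer]
    exact cj_mono h0 inf_le_right
  obtain ⟨R', hR', hXR'⟩ := exists_isSylowIn_ge hXp hXN
  obtain ⟨n, hn, hnR'⟩ := hR'.conj hU
  refine ⟨n * h0, ?_, ?_⟩
  · rw [← cj_cj, hT₀U]
    exact cj_eq_of_mem_normalizer hn
  · rw [← cj_cj, hnR']
    exact cj_mono n hXR'

/-- The main induction. -/
theorem main [Finite G] {p : ℕ} [hp : Fact p.Prime] (S : Sylow p G) (𝓕 : Set (Subgroup G))
    (h𝓕 : ∀ U ∈ 𝓕, U ≤ (S : Subgroup G))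
    (h : ∀ T : Subgroup G, T ≤ (S : Subgroup G) → ∃ U ∈ 𝓕, (∃ g : G, T.map (MulAut.conj g).toMonoidHom = U) ∧
      ¬ p ∣ ((S : Subgroup G) ⊓ Subgroup.normalizer ((U : Subgroup G) : Set G)).relIndex
        (Subgroup.normalizer ((U : Subgroup G) : Set G))) :
    ∀ (m : ℕ) (A : Set G) (g : G), A ⊆ ((S : Subgroup G) : Set G) → rc g A ⊆ ((S : Subgroup G) : Set G) →
      Nat.card ↥(S : Subgroup G) - Nat.card ↥(Subgroup.closure A) = m →
      ∃ l : List (Subgroup G × G), prodL l = g ∧ DecL 𝓕 l A := by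
  intro m
  induction m using Nat.strong_induction_on with
  | _ m ih =>
  intro A g hA hAg hm
  set T := Subgroup.closure A with hT
  have hAT : A ⊆ (T : Set G) := Subgroup.subset_closure
  have hTS : T ≤ (S : Subgroup G) := (Subgroup.closure_le _).mpr hA
  -- `T' = g⁻¹ T g`
  have hT'coe : ((cj g⁻¹ T : Subgroup G) : Set G) = rc g (T : Set G) := (rc_coe g T).symm
  have hT'S : cj g⁻¹ T ≤ (S : Subgroup G) := by
    unfold cj
    rw [hT, MonoidHom.map_closure, Subgroup.closure_le]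
    rintro _ ⟨a, ha, rfl⟩
    apply hAg
    refine ⟨a, ha, ?_⟩
    simp
  obtain ⟨U, hU𝓕, ⟨h0, hh0⟩, hUrel⟩ := h T hTS
  have hUS : U ≤ (S : Subgroup G) := h𝓕 U hU𝓕
  have hUsyl : IsSylowIn p ((S : Subgroup G) ⊓ Subgroup.normalizer (U : Set G))
      (Subgroup.normalizer (U : Set G)) :=
    isSylowIn_of_not_dvd_relIndex inf_le_right (S.isPGroup'.to_le inf_le_left) hUrel
  have hcardU : Nat.card ↥U = Nat.card ↥T := by rw [← hh0]; exact card_cj h0 T
  by_cases hTeq : T = (S : Subgroup G)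
  · -- `U = S` and `g` normalizes `S`
    have hUeq : U = (S : Subgroup G) := by
      apply Subgroup.eq_of_le_of_card_ge hUS
      rw [hcardU, hTeq]
    have hgN : g ∈ Subgroup.normalizer (((S : Subgroup G) : Subgroup G) : Set G) := by
      have h1 : g⁻¹ ∈ Subgroup.normalizer (((S : Subgroup G) : Subgroup G) : Set G) := by
        apply mem_normalizer_of_conj_mem
        intro r hr
        apply hT'S
        rw [hTeq]
        exact conj_mem_map_conj _ g⁻¹ hr
      simpa using Subgroup.inv_mem _ h1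
    refine ⟨[((S : Subgroup G), g)], by simp [prodL], ?_⟩
    exact ⟨hUeq ▸ hU𝓕, hgN, hA, trivial⟩
  · -- `T < S`
    have hltT := exists_mem_normalizer_not_mem S hTS hTeq
    have hcardT' : Nat.card ↥(cj g⁻¹ T) = Nat.card ↥T := card_cj g⁻¹ T
    have hT'ne : cj g⁻¹ T ≠ (S : Subgroup G) := by
      intro heq
      apply hTeq
      apply Subgroup.eq_of_le_of_card_ge hTS
      rw [← hcardT', heq]
    have hltT' := exists_mem_normalizer_not_mem S hT'S hT'ne
    obtain ⟨h₁, hh₁U, hh₁N⟩ := claim1 S hUsyl h0 hh0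
    have hh0' : cj (h0 * g) (cj g⁻¹ T) = U := by
      rw [cj_cj, mul_assoc, mul_inv_cancel, mul_one]; exact hh0
    obtain ⟨h₂, hh₂U, hh₂N⟩ := claim1 S hUsyl (h0 * g) hh0'
    -- the two inductive calls
    have hcardlt : ∀ {T₀ : Subgroup G}, T₀ ≤ (S : Subgroup G) → Nat.card ↥T₀ = Nat.card ↥T →
        T₀ < (S : Subgroup G) ⊓ Subgroup.normalizer (T₀ : Set G) →
        Nat.card ↥(S : Subgroup G) -
          Nat.card ↥(Subgroup.closure ((((S : Subgroup G) ⊓ Subgroup.normalizer (T₀ : Set G) : Subgroup G)) : Set G)) < m := by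
      intro T₀ hT₀S hc hlt
      rw [Subgroup.closure_eq]
      have h1 : Nat.card ↥T₀ < Nat.card ↥((S : Subgroup G) ⊓ Subgroup.normalizer (T₀ : Set G)) :=
        Set.ncard_lt_ncard (SetLike.coe_ssubset_coe.mpr hlt) (Set.toFinite _)
      have h2 : Nat.card ↥((S : Subgroup G) ⊓ Subgroup.normalizer (T₀ : Set G)) ≤ Nat.card ↥(S : Subgroup G) :=
        Subgroup.card_le_of_le inf_le_left
      omega
    -- first call: `y₁ = h₁⁻¹` on `N_S(T)`
    obtain ⟨l₁, hl₁, hdec₁⟩ := ih _ (hcardlt hTS rfl hltT)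
      ((((S : Subgroup G) ⊓ Subgroup.normalizer (T : Set G) : Subgroup G)) : Set G) h₁⁻¹
      (fun x hx => (Subgroup.mem_inf.mp hx).1)
      (by
        rw [rc_coe, inv_inv]
        exact fun x hx => (Subgroup.mem_inf.mp (hh₁N hx)).1) rfl
    -- second call: `y₂ = h₂⁻¹` on `N_S(T')`
    obtain ⟨l₂, hl₂, hdec₂⟩ := ih _ (hcardlt hT'S hcardT' hltT')
      ((((S : Subgroup G) ⊓ Subgroup.normalizer ((cj g⁻¹ T : Subgroup G) : Set G) : Subgroup G)) : Set G) h₂⁻¹
      (fun x hx => (Subgroup.mem_inf.mp hx).1)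
      (by
        rw [rc_coe, inv_inv]
        exact fun x hx => (Subgroup.mem_inf.mp (hh₂N hx)).1) rfl
    have hdec₁A : DecL 𝓕 l₁ A :=
      hdec₁.mono (hAT.trans (fun x hx => hltT.le hx))
    have hdec₂T' : DecL 𝓕 l₂ ((cj g⁻¹ T : Subgroup G) : Set G) :=
      hdec₂.mono (fun x hx => hltT'.le hx)
    have hrev := hdec₂T'.rev
    rw [hl₂, rc_coe, inv_inv] at hrev
    have hrevU : DecL 𝓕 (revL l₂) (U : Set G) := by
      have : (cj g⁻¹ T).map (MulAut.conj h₂).toMonoidHom = U := hh₂U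
      rw [this] at hrev
      exact hrev
    -- the middle element
    set x := h₁ * g * h₂⁻¹ with hx
    have hxN : x ∈ Subgroup.normalizer (U : Set G) := by
      apply mem_normalizer_of_conj_mem'
      intro r hr
      rw [← hh₁U] at hr
      unfold cj at hr
      rw [mem_map_conj] at hr
      rw [← hh₂U]
      unfold cj
      rw [mem_map_conj, mem_map_conj, inv_inv]
      have e : g * (h₂⁻¹ * (x⁻¹ * r * x) * h₂) * g⁻¹ = h₁⁻¹ * r * h₁ := by
        rw [hx]; group
      rw [e]; exact hr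
    have hy₁A : rc h₁⁻¹ A ⊆ (U : Set G) := by
      calc rc h₁⁻¹ A ⊆ rc h₁⁻¹ (T : Set G) := rc_mono _ hAT
        _ = ((T.map (MulAut.conj h₁⁻¹⁻¹).toMonoidHom : Subgroup G) : Set G) := rc_coe _ _
        _ = (U : Set G) := by rw [inv_inv]; exact congrArg _ hh₁U
    refine ⟨l₁ ++ ((U, x) :: revL l₂), ?_, ?_⟩
    · rw [prodL_append, prodL_cons, prodL_revL, hl₁, hl₂, hx]
      group
    · apply DecL.append hdec₁A
      rw [hl₁]
      refine ⟨hU𝓕, hxN, hy₁A, ?_⟩
      apply hrevU.mono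
      calc rc x (rc h₁⁻¹ A) ⊆ rc x (U : Set G) := rc_mono x hy₁A
        _ = (U : Set G) := rc_normalizer hxN

/-- Let p be a prime, G a finite group with Sylow p-subgroup S and 𝓕 a set of subgroups of S. Suppose that every subgroup T of S is G-conjugate to some member U of 𝓕 for which N_S(U) is a Sylow p-subgroup of N_G(U). Then 𝓕 is a conjugation family for S in G. -/
theorem result {G : Type*} [Group G] [Finite G] {p : ℕ} [Fact p.Prime] (S : Sylow p G) (𝓕 : Set (Subgroup G)) (h𝓕 : ∀ U ∈ 𝓕, U ≤ (S : Subgroup G)) (h : ∀ T : Subgroup G, T ≤ (S : Subgroup G) → ∃ U ∈ 𝓕, (∃ g : G, T.map (MulAut.conj g).toMonoidHom = U) ∧ ¬ p ∣ ((S : Subgroup G) ⊓ Subgroup.normalizer ((U : Subgroup G) : Set G)).relIndex (Subgroup.normalizer ((U : Subgroup G) : Set G))) : Cfsg.IsConjugationFamily 𝓕 (S : Subgroup G) := by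
  apply isConjugationFamily_of_decL (S : Subgroup G) h𝓕
  intro A g hA hAg
  exact main S 𝓕 h𝓕 h _ A g hA hAg rfl

end Cfsg.Agent.S1965
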