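import Cfsg.Statements.S1961
import Mathlib
import Cfsg.Agent.Lib.Lead.ConjFamily
import Cfsg.Agent.S1963
import Cfsg.Agent.S1965

set_option autoImplicit false
set_option linter.style.haveILetI false
set_option linter.unusedSectionVars false
open Cfsg Cfsg.Agent.Lib.Helper7 Cfsg.Agent.Lib.Lead.Conj Cfsg.Agent.Lib.Lead.ConjFamily Cfsg.Agent.S1963
  Cfsg.Agent.S1965

namespace Cfsg.Agent.S1961

variable {G : Type*} [Group G]

/-- left conjugation of a set. -/
def lc (g : G) (A : Set G) : Set G := (fun a => g * a * g⁻¹) '' A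

theorem lc_eq_rc (g : G) (A : Set G) : lc g A = rc g⁻¹ A := by
  unfold lc rc
  rw [inv_inv]

theorem mem_cj {g : G} {U : Subgroup G} {x : G} : x ∈ cj g U ↔ g⁻¹ * x * g ∈ U := mem_map_conj U g x

/-- `x ∈ N(U)` gives `c x c⁻¹ ∈ N(c U c⁻¹)`. -/
theorem conj_mem_normalizer_cj {c x : G} {U : Subgroup G} (hx : x ∈ Subgroup.normalizer (U : Set G)) :
    c * x * c⁻¹ ∈ Subgroup.normalizer ((cj c U : Subgroup G) : Set G) := by
  rw [← cj_normalizer]
  exact conj_mem_map_conj _ c hx

section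

variable [Finite G] {p : ℕ} [hp : Fact p.Prime] (S : Sylow p G) {W : Subgroup G → Subgroup G}

/-- L1: control of strong fusion in `H` holds with respect to any Sylow `p`-subgroup `N` of `H`. -/
theorem control_any_sylow (hW : IsConjugacyFunctor p W) {H N : Subgroup G} (hc : ControlsStrongFusionIn p W H)
    (hN : IsSylowIn p N H) (B : Set G) (h : G) (hh : h ∈ H) (hB : B ⊆ (N : Set G))
    (hhB : lc h B ⊆ (N : Set G)) :
    ∃ x ∈ H ⊓ Subgroup.normalizer ((W N : Subgroup G) : Set G), ∀ b ∈ B, x * b * x⁻¹ = h * b * h⁻¹ := by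
  obtain ⟨T₁, hT₁H, hT₁p, hT₁rel, hctrl⟩ := hc
  have hT₁syl : IsSylowIn p T₁ H := isSylowIn_of_not_dvd_relIndex hT₁H hT₁p hT₁rel
  obtain ⟨c, hcH, hcN⟩ := hT₁syl.conj hN
  -- `N = c T₁ c⁻¹`
  have hB' : lc c⁻¹ B ⊆ (T₁ : Set G) := by
    rintro _ ⟨b, hb, rfl⟩
    have := hB hb
    rw [hcN] at this
    have h2 := (mem_cj.mp this)
    simpa using h2
  have hh' : c⁻¹ * h * c ∈ H := H.mul_mem (H.mul_mem (H.inv_mem hcH) hh) hcH
  have hhB' : lc (c⁻¹ * h * c) (lc c⁻¹ B) ⊆ (T₁ : Set G) := by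
    rintro _ ⟨_, ⟨b, hb, rfl⟩, rfl⟩
    have h1 : h * b * h⁻¹ ∈ (N : Set G) := hhB ⟨b, hb, rfl⟩
    rw [hcN] at h1
    have h2 := (mem_cj.mp h1)
    have e : c⁻¹ * h * c * (c⁻¹ * b * c⁻¹⁻¹) * (c⁻¹ * h * c)⁻¹ = c⁻¹ * (h * b * h⁻¹) * c := by group
    show c⁻¹ * h * c * (c⁻¹ * b * c⁻¹⁻¹) * (c⁻¹ * h * c)⁻¹ ∈ T₁
    rw [e]; exact h2
  obtain ⟨x', hx', hact⟩ := hctrl (lc c⁻¹ B) (c⁻¹ * h * c) hh' hB' hhB'
  refine ⟨c * x' * c⁻¹, ⟨H.mul_mem (H.mul_mem hcH hx'.1) (H.inv_mem hcH), ?_⟩, ?_⟩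
  · rw [hcN]
    have := (hW T₁ hT₁p).2.2 c
    show c * x' * c⁻¹ ∈ Subgroup.normalizer ((W (cj c T₁) : Subgroup G) : Set G)
    unfold cj
    rw [this]
    exact conj_mem_normalizer_cj hx'.2
  · intro b hb
    have := hact (c⁻¹ * b * c⁻¹⁻¹) ⟨b, hb, rfl⟩
    have e1 : c * x' * c⁻¹ * b * (c * x' * c⁻¹)⁻¹ = c * (x' * (c⁻¹ * b * c⁻¹⁻¹) * x'⁻¹) * c⁻¹ := by group
    rw [e1, this]
    group

/-- the tower of a term of the tower is the shifted tower. -/
theorem tower_shift (T : Subgroup G) (i j : ℕ) :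
    functorTower W (S : Subgroup G) (functorTower W (S : Subgroup G) T i) j =
      functorTower W (S : Subgroup G) T (i + j) := by
  induction j with
  | zero => rfl
  | succ j ih =>
    rw [tower_succ, ih]
    rfl

theorem tower_le (hW : IsConjugacyFunctor p W) (T : Subgroup G) (hT : T ≤ (S : Subgroup G)) (i : ℕ) :
    functorTower W (S : Subgroup G) T i ≤ (S : Subgroup G) := by
  cases i with
  | zero => exact hT
  | succ i =>
    rw [tower_succ]
    exact ((hW _ (isPGroup_NS S _)).1).trans inf_le_left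

theorem wellPlaced_tower (hW : IsConjugacyFunctor p W) {T : Subgroup G} (hT : IsWellPlaced p W (S : Subgroup G) T)
    (i : ℕ) : IsWellPlaced p W (S : Subgroup G) (functorTower W (S : Subgroup G) T i) := by
  refine ⟨tower_le S hW T hT.1 i, fun j => ?_⟩
  rw [tower_shift]
  exact hT.2 (i + j)

theorem tower_ne_bot (hW : IsConjugacyFunctor p W) {T : Subgroup G} (hT : T ≤ (S : Subgroup G)) (hne : T ≠ ⊥)
    (i : ℕ) : functorTower W (S : Subgroup G) T i ≠ ⊥ := by
  cases i with
  | zero => exact hne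
  | succ i =>
    rw [tower_succ]
    apply (hW _ (isPGroup_NS S _)).2.1
    intro hbot
    apply hne
    have h1 : T ≤ NS S (functorTower W (S : Subgroup G) T 0) := le_inf hT Subgroup.le_normalizer
    have h2 := NS_mono_le S hW T (Nat.zero_le i)
    have h3 := h1.trans h2
    rw [hbot] at h3
    exact le_bot_iff.mp h3

/-- when the tower is stable at level `k`, `N_S(W_k) = S`. -/
theorem NS_eq_of_stable (hW : IsConjugacyFunctor p W) (T : Subgroup G) (k : ℕ)
    (hst : functorTower W (S : Subgroup G) T (k + 1) = functorTower W (S : Subgroup G) T k) :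
    NS S (functorTower W (S : Subgroup G) T k) = (S : Subgroup G) := by
  by_contra hne
  set N := NS S (functorTower W (S : Subgroup G) T k) with hN
  have hNS : N ≤ (S : Subgroup G) := inf_le_left
  have hlt := exists_mem_normalizer_not_mem S hNS hne
  obtain ⟨s, hs, hsN⟩ := SetLike.exists_of_lt hlt
  apply hsN
  refine ⟨hs.1, ?_⟩
  -- `s` normalizes `W N = W_{k+1} = W_k`
  have hNp : IsPGroup p ↥N := isPGroup_NS S _
  have h3 := (hW N hNp).2.2 s
  have h4 : cj s N = N := cj_eq_of_mem_normalizer hs.2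
  unfold cj at h4
  rw [h4] at h3
  have h5 : W N = functorTower W (S : Subgroup G) T k := by rw [← hst]; rfl
  rw [h5] at h3
  show s ∈ Subgroup.normalizer ((functorTower W (S : Subgroup G) T k : Subgroup G) : Set G)
  apply mem_normalizer_of_conj_mem
  intro r hr
  rw [h3]
  exact conj_mem_map_conj _ s hr

end

section

variable [Finite G] {p : ℕ} [hp : Fact p.Prime] (S : Sylow p G) {W : Subgroup G → Subgroup G}

/-- climbing the tower. -/
theorem climb (hW : IsConjugacyFunctor p W)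
    (hloc : ∀ T : Subgroup G, T ≠ ⊥ → IsWellPlaced p W (S : Subgroup G) T →
      ControlsStrongFusionIn p W (Subgroup.normalizer ((T : Subgroup G) : Set G)))
    {T : Subgroup G} (hT : IsWellPlaced p W (S : Subgroup G) T) (hne : T ≠ ⊥) (B : Set G) (x : G)
    (hx : x ∈ Subgroup.normalizer (T : Set G)) (hB : B ⊆ ((NS S T : Subgroup G) : Set G))
    (hxB : lc x B ⊆ ((NS S T : Subgroup G) : Set G)) :
    ∀ j : ℕ, ∃ z ∈ Subgroup.normalizer ((functorTower W (S : Subgroup G) T j : Subgroup G) : Set G),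
      ∀ b ∈ B, z * b * z⁻¹ = x * b * x⁻¹ := by
  intro j
  induction j with
  | zero => exact ⟨x, hx, fun b _ => rfl⟩
  | succ j ih =>
    obtain ⟨z, hz, hzact⟩ := ih
    have hmono : NS S T ≤ NS S (functorTower W (S : Subgroup G) T j) := NS_mono_le S hW T (Nat.zero_le j)
    have hBj : B ⊆ ((NS S (functorTower W (S : Subgroup G) T j) : Subgroup G) : Set G) :=
      fun b hb => hmono (hB hb)
    have hzB : lc z B ⊆ ((NS S (functorTower W (S : Subgroup G) T j) : Subgroup G) : Set G) := by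
      rintro _ ⟨b, hb, rfl⟩
      show z * b * z⁻¹ ∈ _
      rw [hzact b hb]
      exact hmono (hxB ⟨b, hb, rfl⟩)
    have hsyl : IsSylowIn p (NS S (functorTower W (S : Subgroup G) T j))
        (Subgroup.normalizer ((functorTower W (S : Subgroup G) T j : Subgroup G) : Set G)) :=
      isSylowIn_of_not_dvd_relIndex inf_le_right (isPGroup_NS S _) (hT.2 j)
    have hc := hloc _ (tower_ne_bot S hW hT.1 hne j) (wellPlaced_tower S hW hT j)
    obtain ⟨z', hz', hz'act⟩ := control_any_sylow hW hc hsyl B z hz hBj hzB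
    refine ⟨z', ?_, fun b hb => (hz'act b hb).trans (hzact b hb)⟩
    rw [tower_succ]
    exact hz'.2

/-- one step of a chain can be realised inside `N_G(W(S))`. -/
theorem step_in_normalizer (hW : IsConjugacyFunctor p W)
    (hloc : ∀ T : Subgroup G, T ≠ ⊥ → IsWellPlaced p W (S : Subgroup G) T →
      ControlsStrongFusionIn p W (Subgroup.normalizer ((T : Subgroup G) : Set G)))
    {T : Subgroup G} (hT : IsWellPlaced p W (S : Subgroup G) T) (A : Set G) (hA : A ⊆ (T : Set G)) (x : G)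
    (hx : x ∈ Subgroup.normalizer (T : Set G)) :
    ∃ y ∈ Subgroup.normalizer ((W (S : Subgroup G) : Subgroup G) : Set G), ∀ a ∈ A, y * a * y⁻¹ = x * a * x⁻¹ := by
  by_cases hne : T = ⊥
  · refine ⟨1, Subgroup.one_mem _, fun a ha => ?_⟩
    have : a = 1 := by
      have := hA ha
      rw [hne] at this
      exact this
    rw [this]; simp
  · set k := Nat.card ↥(S : Subgroup G) + 1 with hk
    have hst : functorTower W (S : Subgroup G) T (k + 1) = functorTower W (S : Subgroup G) T k :=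
      tower_stable S hW T (k + 1) (by omega)
    have hNS := NS_eq_of_stable S hW T k hst
    have hTN : T ≤ NS S T := le_inf hT.1 Subgroup.le_normalizer
    have hB : A ⊆ ((NS S T : Subgroup G) : Set G) := fun a ha => hTN (hA ha)
    have hxB : lc x A ⊆ ((NS S T : Subgroup G) : Set G) := by
      rintro _ ⟨a, ha, rfl⟩
      exact hTN ((Subgroup.mem_normalizer_iff.mp hx a).mp (hA ha))
    obtain ⟨z, hz, hzact⟩ := climb S hW hloc hT hne A x hx hB hxB (k + 1)
    refine ⟨z, ?_, hzact⟩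
    rw [tower_succ, hNS] at hz
    exact hz

/-- a whole chain can be realised inside `N_G(W(S))`. -/
theorem chain_in_normalizer (hW : IsConjugacyFunctor p W)
    (hloc : ∀ T : Subgroup G, T ≠ ⊥ → IsWellPlaced p W (S : Subgroup G) T →
      ControlsStrongFusionIn p W (Subgroup.normalizer ((T : Subgroup G) : Set G)))
    (l : List (Subgroup G × G)) :
    ∀ A : Set G, DecL {T : Subgroup G | IsWellPlaced p W (S : Subgroup G) T} l A →
      ∃ y ∈ Subgroup.normalizer ((W (S : Subgroup G) : Subgroup G) : Set G),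
        ∀ a ∈ A, y⁻¹ * a * y = (prodL l)⁻¹ * a * prodL l := by
  induction l with
  | nil =>
    intro A _
    exact ⟨1, Subgroup.one_mem _, fun a _ => by simp⟩
  | cons c l ih =>
    obtain ⟨T, x⟩ := c
    rintro A ⟨hT, hx, hA, hdec⟩
    obtain ⟨y₁, hy₁, hy₁act⟩ := step_in_normalizer S hW hloc hT A hA x⁻¹ (Subgroup.inv_mem _ hx)
    obtain ⟨y₂, hy₂, hy₂act⟩ := ih (rc x A) hdec
    refine ⟨y₁⁻¹ * y₂, Subgroup.mul_mem _ (Subgroup.inv_mem _ hy₁) hy₂, fun a ha => ?_⟩
    have h1 := hy₁act a ha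
    rw [inv_inv] at h1
    have h2 := hy₂act (x⁻¹ * a * x) ⟨a, ha, rfl⟩
    rw [prodL_cons]
    calc (y₁⁻¹ * y₂)⁻¹ * a * (y₁⁻¹ * y₂) = y₂⁻¹ * (y₁ * a * y₁⁻¹) * y₂ := by group
      _ = y₂⁻¹ * (x⁻¹ * a * x) * y₂ := by rw [h1]
      _ = (prodL l)⁻¹ * (x⁻¹ * a * x) * prodL l := h2
      _ = (x * prodL l)⁻¹ * a * (x * prodL l) := by group

end

/-- Local-to-global control of strong fusion through well-placed subgroups. Let p be a prime, G a finite group with Sylow p-subgroup S, and W a conjugacy functor for p on G. If W controls strong fusion in N_G(T) for every nonidentity subgroup T of S that is well placed in S with respect to W, then W controls strong fusion in G. -/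
theorem result {G : Type*} [Group G] [Finite G] {p : ℕ} [Fact p.Prime] (S : Sylow p G) (W : Subgroup G → Subgroup G) (hW : Cfsg.IsConjugacyFunctor p W) (hloc : ∀ T : Subgroup G, T ≠ ⊥ → Cfsg.IsWellPlaced p W (S : Subgroup G) T → Cfsg.ControlsStrongFusionIn p W (Subgroup.normalizer ((T : Subgroup G) : Set G))) : Cfsg.ControlsStrongFusionIn p W ⊤ := by
  refine ⟨(S : Subgroup G), le_top, S.isPGroup', ?_, ?_⟩
  · rw [Subgroup.relIndex_top_right]
    exact S.not_dvd_index
  · intro A h _ hA hhA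
    have hrc : rc h⁻¹ A ⊆ ((S : Subgroup G) : Set G) := by
      rw [← lc_eq_rc]; exact hhA
    obtain ⟨l, hl, hdec⟩ := Cfsg.Agent.S1965.main S {T : Subgroup G | IsWellPlaced p W (S : Subgroup G) T}
      (fun U hU => hU.1)
      (fun T hT => by
        obtain ⟨g, hg⟩ := Cfsg.Agent.S1963.result S W hW T hT
        exact ⟨T.map (MulAut.conj g).toMonoidHom, hg, ⟨g, rfl⟩, hg.2 0⟩)
      _ A h⁻¹ hA hrc rfl
    obtain ⟨y, hy, hyact⟩ := chain_in_normalizer S hW hloc l A hdec
    refine ⟨y⁻¹, ⟨Subgroup.mem_top _, Subgroup.inv_mem _ hy⟩, fun a ha => ?_⟩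
    have := hyact a ha
    rw [hl, inv_inv] at this
    rw [inv_inv]
    exact this

end Cfsg.Agent.S1961
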