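import Cfsg.Statements.S1959
import Mathlib
import Cfsg.Agent.Lib.Lead.ConjFamily
import Cfsg.Agent.S1963
import Cfsg.Agent.S1965
import Cfsg.Agent.S1961

set_option autoImplicit false
set_option linter.style.haveILetI false
set_option linter.unusedSectionVars false
open Cfsg Cfsg.Agent.Lib.Helper7 Cfsg.Agent.Lib.Lead.Conj Cfsg.Agent.Lib.Lead.ConjFamily Cfsg.Agent.S1963
  Cfsg.Agent.S1965 Cfsg.Agent.S1961

namespace Cfsg.Agent.S1959

variable {G : Type*} [Group G]

theorem lc_one (A : Set G) : lc 1 A = A := by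
  unfold lc; ext y; simp

theorem lc_mul (g h : G) (A : Set G) : lc (g * h) A = lc g (lc h A) := by
  unfold lc
  rw [Set.image_image]
  congr 1
  ext a
  group

theorem lc_mono (g : G) {A B : Set G} (h : A ⊆ B) : lc g A ⊆ lc g B := Set.image_mono h

theorem lc_coe (g : G) (U : Subgroup G) : lc g (U : Set G) = ((cj g U : Subgroup G) : Set G) := by
  ext y
  constructor
  · rintro ⟨a, ha, rfl⟩
    exact conj_mem_map_conj U g ha
  · intro hy
    have := (mem_map_conj U g y).mp hy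
    exact ⟨g⁻¹ * y * g, this, by group⟩

/-- chains of conjugations in the normalizers `N_G(W(S))`, `W ∈ 𝓦`. -/
inductive Ch (𝓦 : Set (Subgroup G → Subgroup G)) (S : Subgroup G) : Set G → G → Prop
  | refl (A : Set G) (hA : A ⊆ (S : Set G)) : Ch 𝓦 S A 1
  | step {A : Set G} {h : G} (s : G) (W : Subgroup G → Subgroup G) (hW : W ∈ 𝓦)
      (hs : s ∈ Subgroup.normalizer ((W S : Subgroup G) : Set G)) (hsA : lc (s * h) A ⊆ (S : Set G)) :
      Ch 𝓦 S A h → Ch 𝓦 S A (s * h)
  | congr {A : Set G} {h h' : G} : Ch 𝓦 S A h → (∀ a ∈ A, h' * a * h'⁻¹ = h * a * h⁻¹) → Ch 𝓦 S A h'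

variable {𝓦 : Set (Subgroup G → Subgroup G)} {S : Subgroup G}

theorem lc_congr {A : Set G} {h h' : G} (hh : ∀ a ∈ A, h' * a * h'⁻¹ = h * a * h⁻¹) : lc h' A = lc h A := by
  unfold lc
  exact Set.image_congr hh

theorem Ch.sub {A : Set G} {h : G} (hc : Ch 𝓦 S A h) : A ⊆ (S : Set G) := by
  induction hc with
  | refl hA => exact hA
  | step s W hW hs hsA _ ih => exact ih
  | congr _ _ ih => exact ih

theorem Ch.lc_sub {A : Set G} {h : G} (hc : Ch 𝓦 S A h) : lc h A ⊆ (S : Set G) := by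
  induction hc with
  | refl hA => rw [lc_one]; exact hA
  | step s W hW hs hsA _ _ => exact hsA
  | congr _ hh ih => rw [lc_congr hh]; exact ih

theorem Ch.mono {A A' : Set G} {h : G} (hA : A' ⊆ A) (hc : Ch 𝓦 S A h) : Ch 𝓦 S A' h := by
  induction hc with
  | refl hA' => exact Ch.refl A' (hA.trans hA')
  | step s W hW hs hsA _ ih => exact Ch.step s W hW hs ((lc_mono _ hA).trans hsA) ih
  | congr _ hh ih => exact Ch.congr ih (fun a ha => hh a (hA ha))

theorem Ch.comp {A : Set G} {h₁ h₂ : G} (hc₁ : Ch 𝓦 S A h₁) (hc₂ : Ch 𝓦 S (lc h₁ A) h₂) :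
    Ch 𝓦 S A (h₂ * h₁) := by
  generalize hB : lc h₁ A = B at hc₂
  induction hc₂ with
  | refl hB' => rw [one_mul]; exact hc₁
  | step s W hW hs hsA _ ih =>
    rw [mul_assoc]
    refine Ch.step s W hW hs ?_ ih
    rw [← mul_assoc, lc_mul, hB]
    exact hsA
  | congr _ hh ih =>
    refine Ch.congr ih ?_
    intro a ha
    have := hh (h₁ * a * h₁⁻¹) (by rw [← hB]; exact ⟨a, ha, rfl⟩)
    rename_i h h' _
    calc h' * h₁ * a * (h' * h₁)⁻¹ = h' * (h₁ * a * h₁⁻¹) * h'⁻¹ := by group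
      _ = h * (h₁ * a * h₁⁻¹) * h⁻¹ := this
      _ = h * h₁ * a * (h * h₁)⁻¹ := by group

theorem Ch.toFin {A : Set G} {h : G} (hc : Ch 𝓦 S A h) :
    ∃ (n : ℕ) (c : Fin (n + 1) → G), c 0 = 1 ∧
      (∀ i : Fin n, ∃ W ∈ 𝓦,
        c i.succ * (c i.castSucc)⁻¹ ∈ (⊤ : Subgroup G) ⊓ Subgroup.normalizer ((W S : Subgroup G) : Set G)) ∧
      (∀ i : Fin (n + 1), (fun a => c i * a * (c i)⁻¹) '' A ⊆ (S : Set G)) ∧
      ∀ a ∈ A, c (Fin.last n) * a * (c (Fin.last n))⁻¹ = h * a * h⁻¹ := by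
  induction hc with
  | refl hA =>
    refine ⟨0, fun _ => 1, rfl, fun i => i.elim0, fun i => ?_, fun a _ => rfl⟩
    rintro _ ⟨a, ha, rfl⟩
    simpa using hA ha
  | @step h s W hW hs hsA _ ih =>
    obtain ⟨n, c, hc0, hstep, hsub, hlast⟩ := ih
    have hact : ∀ a ∈ A, s * c (Fin.last n) * a * (s * c (Fin.last n))⁻¹ = s * h * a * (s * h)⁻¹ := by
      intro a ha
      calc s * c (Fin.last n) * a * (s * c (Fin.last n))⁻¹
          = s * (c (Fin.last n) * a * (c (Fin.last n))⁻¹) * s⁻¹ := by group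
        _ = s * (h * a * h⁻¹) * s⁻¹ := by rw [hlast a ha]
        _ = s * h * a * (s * h)⁻¹ := by group
    refine ⟨n + 1, Fin.snoc c (s * c (Fin.last n)), ?_, ?_, ?_, ?_⟩
    · rw [← Fin.castSucc_zero, Fin.snoc_castSucc]; exact hc0
    · intro i
      induction i using Fin.lastCases with
      | last =>
        refine ⟨W, hW, Subgroup.mem_top _, ?_⟩
        rw [Fin.succ_last, Fin.snoc_last, Fin.snoc_castSucc]
        have : s * c (Fin.last n) * (c (Fin.last n))⁻¹ = s := by group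
        rw [this]; exact hs
      | cast j =>
        obtain ⟨W', hW', hj⟩ := hstep j
        refine ⟨W', hW', ?_⟩
        rw [← Fin.castSucc_succ, Fin.snoc_castSucc, Fin.snoc_castSucc]
        exact hj
    · intro i
      induction i using Fin.lastCases with
      | last =>
        rw [Fin.snoc_last]
        rintro _ ⟨a, ha, rfl⟩
        apply hsA
        exact ⟨a, ha, (hact a ha).symm⟩
      | cast j =>
        rw [Fin.snoc_castSucc]; exact hsub j
    · intro a ha
      rw [Fin.snoc_last]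
      exact hact a ha
  | congr _ hh ih =>
    obtain ⟨n, c, hc0, hstep, hsub, hlast⟩ := ih
    exact ⟨n, c, hc0, hstep, hsub, fun a ha => (hlast a ha).trans (hh a ha).symm⟩

section

variable [Finite G] {p : ℕ} [hp : Fact p.Prime] (S : Sylow p G)

/-- extremal conjugate -/
theorem extremal (V : Subgroup G) (hV : V ≤ (S : Subgroup G)) :
    ∃ g : G, cj g V ≤ (S : Subgroup G) ∧
      IsSylowIn p (NS S (cj g V)) (Subgroup.normalizer ((cj g V : Subgroup G) : Set G)) ∧
      cj g (NS S V) ≤ NS S (cj g V) := by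
  obtain ⟨R, hR, hQR⟩ := exists_isSylowIn_ge (isPGroup_NS S V)
    (inf_le_right : NS S V ≤ Subgroup.normalizer (V : Set G))
  obtain ⟨S', hS'⟩ := hR.isPGroup.exists_le_sylow
  obtain ⟨g, hg⟩ := MulAction.exists_smul_eq G S' S
  have hgR : cj g R ≤ (S : Subgroup G) := by
    rw [← hg, Sylow.coe_subgroup_smul]
    rintro _ ⟨r, hr, rfl⟩
    exact Subgroup.smul_mem_pointwise_smul _ _ _ (hS' hr)
  have hVN : V ≤ NS S V := le_inf hV Subgroup.le_normalizer
  have hTg : cj g V ≤ (S : Subgroup G) := (cj_mono g (hVN.trans hQR)).trans hgR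
  have h1 : NS S (cj g V) = cj g R := by
    apply eq_of_isSylowIn_le (p := p) (N := Subgroup.normalizer ((cj g V : Subgroup G) : Set G))
    · rw [← cj_normalizer]; exact isSylowIn_cj g hR
    · refine le_inf hgR ?_
      rw [← cj_normalizer]; exact cj_mono g hR.1
    · exact inf_le_right
    · exact isPGroup_NS S _
  refine ⟨g, hTg, ?_, ?_⟩
  · rw [h1, ← cj_normalizer]; exact isSylowIn_cj g hR
  · rw [h1]; exact cj_mono g hQR

/-- control of strong fusion by a family in `H` holds with respect to any Sylow `p`-subgroup `N` of `H`. -/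
theorem family_control_any_sylow (h𝓦 : ∀ W ∈ 𝓦, IsConjugacyFunctor p W) {H N : Subgroup G}
    (hc : FamilyControlsStrongFusionIn p 𝓦 H) (hN : IsSylowIn p N H) (B : Set G) (h : G) (hh : h ∈ H)
    (hB : B ⊆ (N : Set G)) (hhB : lc h B ⊆ (N : Set G)) :
    ∃ (n : ℕ) (c : Fin (n + 1) → G), c 0 = 1 ∧
      (∀ i : Fin n, ∃ W ∈ 𝓦,
        c i.succ * (c i.castSucc)⁻¹ ∈ H ⊓ Subgroup.normalizer ((W N : Subgroup G) : Set G)) ∧
      (∀ i : Fin (n + 1), lc (c i) B ⊆ (N : Set G)) ∧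
      ∀ a ∈ B, c (Fin.last n) * a * (c (Fin.last n))⁻¹ = h * a * h⁻¹ := by
  obtain ⟨T₁, hT₁H, hT₁p, hT₁rel, hctrl⟩ := hc
  have hT₁syl : IsSylowIn p T₁ H := isSylowIn_of_not_dvd_relIndex hT₁H hT₁p hT₁rel
  obtain ⟨c₀, hcH, hcN⟩ := hT₁syl.conj hN
  have hB' : lc c₀⁻¹ B ⊆ (T₁ : Set G) := by
    rintro _ ⟨b, hb, rfl⟩
    have := hB hb
    rw [hcN] at this
    have h2 := (mem_cj.mp this)
    simpa using h2
  have hh' : c₀⁻¹ * h * c₀ ∈ H := H.mul_mem (H.mul_mem (H.inv_mem hcH) hh) hcH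
  have hhB' : lc (c₀⁻¹ * h * c₀) (lc c₀⁻¹ B) ⊆ (T₁ : Set G) := by
    rintro _ ⟨_, ⟨b, hb, rfl⟩, rfl⟩
    have h1 : h * b * h⁻¹ ∈ (N : Set G) := hhB ⟨b, hb, rfl⟩
    rw [hcN] at h1
    have h2 := (mem_cj.mp h1)
    have e : c₀⁻¹ * h * c₀ * (c₀⁻¹ * b * c₀⁻¹⁻¹) * (c₀⁻¹ * h * c₀)⁻¹ = c₀⁻¹ * (h * b * h⁻¹) * c₀ := by group
    show c₀⁻¹ * h * c₀ * (c₀⁻¹ * b * c₀⁻¹⁻¹) * (c₀⁻¹ * h * c₀)⁻¹ ∈ T₁
    rw [e]; exact h2
  obtain ⟨n, c', hc0, hstep, hsub, hlast⟩ := hctrl (lc c₀⁻¹ B) (c₀⁻¹ * h * c₀) hh' hB' hhB'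
  refine ⟨n, fun i => c₀ * c' i * c₀⁻¹, ?_, ?_, ?_, ?_⟩
  · simp only [hc0]; group
  · intro i
    obtain ⟨W, hW, hi⟩ := hstep i
    refine ⟨W, hW, ?_⟩
    have e : c₀ * c' i.succ * c₀⁻¹ * (c₀ * c' i.castSucc * c₀⁻¹)⁻¹ =
        c₀ * (c' i.succ * (c' i.castSucc)⁻¹) * c₀⁻¹ := by group
    simp only
    rw [e]
    refine ⟨H.mul_mem (H.mul_mem hcH hi.1) (H.inv_mem hcH), ?_⟩
    rw [hcN]
    have := (h𝓦 W hW T₁ hT₁p).2.2 c₀
    show c₀ * _ * c₀⁻¹ ∈ Subgroup.normalizer ((W (cj c₀ T₁) : Subgroup G) : Set G)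
    unfold cj
    rw [this]
    exact conj_mem_normalizer_cj hi.2
  · intro i
    rintro _ ⟨b, hb, rfl⟩
    have h1 : c' i * (c₀⁻¹ * b * c₀⁻¹⁻¹) * (c' i)⁻¹ ∈ T₁ := hsub i ⟨_, ⟨b, hb, rfl⟩, rfl⟩
    show c₀ * c' i * c₀⁻¹ * b * (c₀ * c' i * c₀⁻¹)⁻¹ ∈ N
    rw [hcN, mem_cj]
    convert h1 using 1
    group
  · intro b hb
    have := hlast (c₀⁻¹ * b * c₀⁻¹⁻¹) ⟨b, hb, rfl⟩
    have e1 : c₀ * c' (Fin.last n) * c₀⁻¹ * b * (c₀ * c' (Fin.last n) * c₀⁻¹)⁻¹ =
        c₀ * (c' (Fin.last n) * (c₀⁻¹ * b * c₀⁻¹⁻¹) * (c' (Fin.last n))⁻¹) * c₀⁻¹ := by group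
    simp only
    rw [e1, this]
    group

/-- the family of subgroups `U ≤ S` with `N_S(U)` Sylow in `N_G(U)` -/
def F0 : Set (Subgroup G) :=
  {U | U ≤ (S : Subgroup G) ∧ ¬ p ∣ (NS S U).relIndex (Subgroup.normalizer (U : Set G))}

/-- the property `P(U)` -/
def PP (𝓦 : Set (Subgroup G → Subgroup G)) (U : Subgroup G) : Prop :=
  ∀ (A : Set G) (s : G), s ∈ Subgroup.normalizer (U : Set G) → A ⊆ ((NS S U : Subgroup G) : Set G) →
    lc s A ⊆ ((NS S U : Subgroup G) : Set G) → Ch 𝓦 (S : Subgroup G) A s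

theorem card_eq_ncard (H : Subgroup G) : Nat.card ↥H = (H : Set G).ncard := rfl

theorem ncard_rc (x : G) (A : Set G) : (rc x A).ncard = A.ncard := by
  unfold rc
  apply Set.ncard_image_of_injective
  intro a b hab
  simpa using hab

theorem ch_of_decL (m : ℕ) (hPP : ∀ T ∈ F0 S, m < Nat.card ↥T → PP S 𝓦 T) :
    ∀ (l : List (Subgroup G × G)) (A : Set G), m < A.ncard → A ⊆ ((S : Subgroup G) : Set G) →
      DecL (F0 S) l A → Ch 𝓦 (S : Subgroup G) A (prodL l)⁻¹ := by
  intro l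
  induction l with
  | nil =>
    intro A _ hA _
    rw [prodL_nil, inv_one]
    exact Ch.refl A hA
  | cons c l ih =>
    obtain ⟨T, x⟩ := c
    rintro A hm hA ⟨hT, hx, hAT, hdec⟩
    have hmT : m < Nat.card ↥T := by
      rw [card_eq_ncard]
      exact lt_of_lt_of_le hm (Set.ncard_le_ncard hAT (Set.toFinite _))
    have hTN : T ≤ NS S T := le_inf hT.1 Subgroup.le_normalizer
    have hrcT : rc x A ⊆ (T : Set G) := by
      rw [← rc_normalizer hx]; exact rc_mono x hAT
    have hlc : lc x⁻¹ A = rc x A := by rw [lc_eq_rc, inv_inv]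
    have h1 : Ch 𝓦 (S : Subgroup G) A x⁻¹ := by
      apply hPP T hT hmT A x⁻¹ (Subgroup.inv_mem _ hx) (fun a ha => hTN (hAT ha))
      rw [hlc]
      exact fun a ha => hTN (hrcT ha)
    have h2 : Ch 𝓦 (S : Subgroup G) (rc x A) (prodL l)⁻¹ :=
      ih (rc x A) (by rw [ncard_rc]; exact hm) (fun a ha => hT.1 (hrcT ha)) hdec
    rw [← hlc] at h2
    have := Ch.comp h1 h2
    rw [prodL_cons, mul_inv_rev]
    exact this

theorem mem_F0_of_extremal {U : Subgroup G} (hU : U ≤ (S : Subgroup G))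
    (h : IsSylowIn p (NS S U) (Subgroup.normalizer ((U : Subgroup G) : Set G))) : U ∈ F0 S :=
  ⟨hU, not_dvd_relIndex_of_isSylowIn h⟩

theorem ch_of_conj (m : ℕ) (hPP : ∀ T ∈ F0 S, m < Nat.card ↥T → PP S 𝓦 T) (A : Set G) (g : G)
    (hm : m < A.ncard) (hA : A ⊆ ((S : Subgroup G) : Set G)) (hgA : lc g A ⊆ ((S : Subgroup G) : Set G)) :
    Ch 𝓦 (S : Subgroup G) A g := by
  have hrc : rc g⁻¹ A ⊆ ((S : Subgroup G) : Set G) := by rw [← lc_eq_rc]; exact hgA
  obtain ⟨l, hl, hdec⟩ := Cfsg.Agent.S1965.main S (F0 S) (fun U hU => hU.1)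
    (fun T hT => by
      obtain ⟨g, hg1, hg2, -⟩ := extremal S T hT
      exact ⟨cj g T, mem_F0_of_extremal S hg1 hg2, ⟨g, rfl⟩, not_dvd_relIndex_of_isSylowIn hg2⟩)
    _ A g⁻¹ hA hrc rfl
  have := ch_of_decL S m hPP l A hm hA hdec
  rwa [hl, inv_inv] at this

theorem big (h𝓦 : ∀ W ∈ 𝓦, IsConjugacyFunctor p W)
    (hloc : ∀ T : Subgroup G, T ≤ (S : Subgroup G) → T ≠ ⊥ →
      ¬ p ∣ ((S : Subgroup G) ⊓ Subgroup.normalizer ((T : Subgroup G) : Set G)).relIndex
        (Subgroup.normalizer ((T : Subgroup G) : Set G)) →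
      FamilyControlsStrongFusionIn p 𝓦 (Subgroup.normalizer ((T : Subgroup G) : Set G))) :
    ∀ (k : ℕ) (U : Subgroup G), U ∈ F0 S → U ≠ ⊥ →
      Nat.card ↥(S : Subgroup G) - Nat.card ↥(NS S U) = k → PP S 𝓦 U := by
  intro k
  induction k using Nat.strong_induction_on with
  | _ k ih =>
  intro U hU hne hk
  have hRS : NS S U ≤ (S : Subgroup G) := inf_le_left
  have hUR : U ≤ NS S U := le_inf hU.1 Subgroup.le_normalizer
  have hRne : NS S U ≠ ⊥ := fun h => hne (le_bot_iff.mp (h ▸ hUR))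
  have hRp : IsPGroup p ↥(NS S U) := isPGroup_NS S U
  have hcardle : ∀ T : Subgroup G, T ≤ (S : Subgroup G) → Nat.card ↥T ≤ Nat.card ↥(S : Subgroup G) :=
    fun T hT => Nat.le_of_dvd Nat.card_pos (Subgroup.card_dvd_of_le hT)
  -- the induction hypothesis in usable form
  have hPPm : ∀ T ∈ F0 S, Nat.card ↥(NS S U) < Nat.card ↥T → PP S 𝓦 T := by
    intro T hT hlt
    have hTN : T ≤ NS S T := le_inf hT.1 Subgroup.le_normalizer
    have h1 : Nat.card ↥T ≤ Nat.card ↥(NS S T) :=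
      Nat.le_of_dvd Nat.card_pos (Subgroup.card_dvd_of_le hTN)
    have h2 : Nat.card ↥(NS S T) ≤ Nat.card ↥(S : Subgroup G) := hcardle _ inf_le_left
    have hTne : T ≠ ⊥ := by
      rintro rfl
      have : Nat.card ↥(⊥ : Subgroup G) = 1 := Subgroup.card_bot
      have hpos : 0 < Nat.card ↥(NS S U) := Nat.card_pos
      omega
    exact ih (Nat.card ↥(S : Subgroup G) - Nat.card ↥(NS S T)) (by omega) T hT hTne rfl
  have hsyl : IsSylowIn p (NS S U) (Subgroup.normalizer ((U : Subgroup G) : Set G)) :=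
    isSylowIn_of_not_dvd_relIndex inf_le_right hRp hU.2
  -- the key step: conjugations in `N_G(W(R))`
  have hQ : ∀ W ∈ 𝓦, ∀ s' ∈ Subgroup.normalizer ((W (NS S U) : Subgroup G) : Set G), ∀ A' : Set G,
      A' ⊆ ((NS S U : Subgroup G) : Set G) → lc s' A' ⊆ ((NS S U : Subgroup G) : Set G) →
      Ch 𝓦 (S : Subgroup G) A' s' := by
    intro W hW s' hs' A' hA' hsA'
    have hWc := h𝓦 W hW
    by_cases hRS' : NS S U = (S : Subgroup G)
    · rw [hRS'] at hs' hA' hsA'
      have := Ch.step (h := 1) s' W hW hs' (by rw [mul_one]; exact hsA') (Ch.refl A' hA')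
      rwa [mul_one] at this
    · -- `V = W(R)`
      have hV := hWc (NS S U) hRp
      have hVne : W (NS S U) ≠ ⊥ := hV.2.1 hRne
      have hVS : W (NS S U) ≤ (S : Subgroup G) := hV.1.trans hRS
      -- `N_S(R) ≤ N_S(V)`
      have hNN : NS S (NS S U) ≤ NS S (W (NS S U)) := by
        refine le_inf inf_le_left ?_
        intro x hx
        have h3 := hV.2.2 x
        have h4 : cj x (NS S U) = NS S U := cj_eq_of_mem_normalizer hx.2
        unfold cj at h4
        rw [h4] at h3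
        apply mem_normalizer_of_conj_mem
        intro r hr
        rw [h3]
        exact conj_mem_map_conj _ x hr
      have hlt : NS S U < NS S (NS S U) := exists_mem_normalizer_not_mem S hRS hRS'
      have hRV : NS S U ≤ NS S (W (NS S U)) := hlt.le.trans hNN
      have hcardlt : Nat.card ↥(NS S U) < Nat.card ↥(NS S (W (NS S U))) := by
        rw [card_eq_ncard, card_eq_ncard]
        exact Set.ncard_lt_ncard (SetLike.coe_ssubset_coe.mpr (lt_of_lt_of_le hlt hNN)) (Set.toFinite _)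
      obtain ⟨g, hg1, hg2, hg3⟩ := extremal S (W (NS S U)) hVS
      have hV'F : cj g (W (NS S U)) ∈ F0 S := mem_F0_of_extremal S hg1 hg2
      have hcard' : Nat.card ↥(NS S U) < Nat.card ↥(NS S (cj g (W (NS S U)))) := by
        have : Nat.card ↥(cj g (NS S (W (NS S U)))) ≤ Nat.card ↥(NS S (cj g (W (NS S U)))) :=
          Nat.le_of_dvd Nat.card_pos (Subgroup.card_dvd_of_le hg3)
        rw [card_cj] at this
        omega
      have hV'ne : cj g (W (NS S U)) ≠ ⊥ := by
        intro h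
        apply hVne
        have := card_cj g (W (NS S U))
        rw [h, Subgroup.card_bot] at this
        exact (Subgroup.card_eq_one).mp this.symm
      have hPPV' : PP S 𝓦 (cj g (W (NS S U))) := by
        have h2 : Nat.card ↥(NS S (cj g (W (NS S U)))) ≤ Nat.card ↥(S : Subgroup G) :=
          hcardle _ inf_le_left
        exact ih (Nat.card ↥(S : Subgroup G) - Nat.card ↥(NS S (cj g (W (NS S U))))) (by omega) _
          hV'F hV'ne rfl
      -- `D = N_S(V)` and its conjugate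
      have hD1 : Ch 𝓦 (S : Subgroup G) ((NS S (W (NS S U)) : Subgroup G) : Set G) g := by
        apply ch_of_conj S _ hPPm _ g
        · rw [← card_eq_ncard]; exact hcardlt
        · exact fun a ha => (inf_le_left : NS S (W (NS S U)) ≤ _) ha
        · rw [lc_coe]
          exact fun a ha => (inf_le_left : NS S (cj g (W (NS S U))) ≤ _) (hg3 ha)
      have hD2 : Ch 𝓦 (S : Subgroup G) ((cj g (NS S (W (NS S U))) : Subgroup G) : Set G) g⁻¹ := by
        apply ch_of_conj S _ hPPm _ g⁻¹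
        · rw [← card_eq_ncard, card_cj]; exact hcardlt
        · exact fun a ha => (inf_le_left : NS S (cj g (W (NS S U))) ≤ _) (hg3 ha)
        · rw [lc_coe, cj_cj, inv_mul_cancel, cj_one]
          exact fun a ha => (inf_le_left : NS S (W (NS S U)) ≤ _) ha
      -- assemble
      have hA'D : A' ⊆ ((NS S (W (NS S U)) : Subgroup G) : Set G) := fun a ha => hRV (hA' ha)
      have c1 : Ch 𝓦 (S : Subgroup G) A' g := Ch.mono hA'D hD1
      have hgR : ∀ B : Set G, B ⊆ ((NS S U : Subgroup G) : Set G) →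
          lc g B ⊆ ((cj g (NS S (W (NS S U))) : Subgroup G) : Set G) := by
        intro B hB
        rw [← lc_coe]
        exact lc_mono g (fun a ha => hRV (hB ha))
      have c2 : Ch 𝓦 (S : Subgroup G) (lc g A') (g * s' * g⁻¹) := by
        apply hPPV' (lc g A') (g * s' * g⁻¹) (conj_mem_normalizer_cj hs')
        · exact fun a ha => hg3 (hgR A' hA' ha)
        · have e : lc (g * s' * g⁻¹) (lc g A') = lc g (lc s' A') := by
            rw [← lc_mul, ← lc_mul]
            congr 1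
            group
          rw [e]
          exact fun a ha => hg3 (hgR _ hsA' ha)
      have c3 : Ch 𝓦 (S : Subgroup G) (lc (g * s' * g⁻¹) (lc g A')) g⁻¹ := by
        have e : lc (g * s' * g⁻¹) (lc g A') = lc g (lc s' A') := by
          rw [← lc_mul, ← lc_mul]
          congr 1
          group
        rw [e]
        exact Ch.mono (hgR _ hsA') hD2
      have c4 := Ch.comp (Ch.comp c1 c2) (by rw [lc_mul]; exact c3)
      have e : g⁻¹ * (g * s' * g⁻¹ * g) = s' := by group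
      rw [e] at c4
      exact c4
  -- now `P(U)`
  intro A s hs hA hsA
  have hc := hloc U hU.1 hne hU.2
  obtain ⟨n, c, hc0, hstep, hsub, hlast⟩ := family_control_any_sylow h𝓦 hc hsyl A s hs hA hsA
  have hall : ∀ i : Fin (n + 1), Ch 𝓦 (S : Subgroup G) A (c i) := by
    intro i
    induction i using Fin.induction with
    | zero => rw [hc0]; exact Ch.refl A (fun a ha => hRS (hA ha))
    | succ i ih' =>
      obtain ⟨W, hW, hi⟩ := hstep i
      have h1 : Ch 𝓦 (S : Subgroup G) (lc (c i.castSucc) A) (c i.succ * (c i.castSucc)⁻¹) := by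
        apply hQ W hW _ hi.2 _ (hsub i.castSucc)
        rw [← lc_mul]
        have e : c i.succ * (c i.castSucc)⁻¹ * c i.castSucc = c i.succ := by group
        rw [e]
        exact hsub i.succ
      have := Ch.comp ih' h1
      have e : c i.succ * (c i.castSucc)⁻¹ * c i.castSucc = c i.succ := by group
      rwa [e] at this
  exact Ch.congr (hall (Fin.last n)) (fun a ha => (hlast a ha).symm)

end

theorem result {G : Type*} [Group G] [Finite G] {p : ℕ} [Fact p.Prime] (S : Sylow p G) (𝓦 : Set (Subgroup G → Subgroup G)) (h𝓦 : ∀ W ∈ 𝓦, Cfsg.IsConjugacyFunctor p W) (hloc : ∀ T : Subgroup G, T ≤ (S : Subgroup G) → T ≠ ⊥ → ¬ p ∣ ((S : Subgroup G) ⊓ Subgroup.normalizer ((T : Subgroup G) : Set G)).relIndex (Subgroup.normalizer ((T : Subgroup G) : Set G)) → Cfsg.FamilyControlsStrongFusionIn p 𝓦 (Subgroup.normalizer ((T : Subgroup G) : Set G))) : Cfsg.FamilyControlsStrongFusionIn p 𝓦 ⊤ := by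
  refine ⟨(S : Subgroup G), le_top, S.isPGroup', ?_, ?_⟩
  · rw [Subgroup.relIndex_top_right]
    exact S.not_dvd_index
  · intro A h _ hA hhA
    -- enlarge `A` by the identity
    have hPP : ∀ T ∈ F0 S, 1 < Nat.card ↥T → PP S 𝓦 T := by
      intro T hT hlt
      have hTne : T ≠ ⊥ := by
        rintro rfl
        rw [Subgroup.card_bot] at hlt
        omega
      exact big S h𝓦 hloc _ T hT hTne rfl
    by_cases htriv : A ⊆ {1}
    · have hc : Ch 𝓦 (S : Subgroup G) A h := by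
        refine Ch.congr (Ch.refl A hA) ?_
        intro a ha
        have : a = 1 := htriv ha
        rw [this]; group
      exact hc.toFin
    · have hA1 : insert (1 : G) A ⊆ ((S : Subgroup G) : Set G) := by
        intro a ha
        rcases ha with rfl | ha
        · exact (S : Subgroup G).one_mem
        · exact hA ha
      have hhA1 : lc h (insert (1 : G) A) ⊆ ((S : Subgroup G) : Set G) := by
        rintro _ ⟨a, ha, rfl⟩
        rcases ha with rfl | ha
        · simp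
        · exact hhA ⟨a, ha, rfl⟩
      have hcard : 1 < (insert (1 : G) A).ncard := by
        rw [Set.subset_singleton_iff] at htriv
        push Not at htriv
        obtain ⟨a, ha, ha1⟩ := htriv
        rw [Set.one_lt_ncard_iff (Set.toFinite _)]
        exact ⟨1, a, Set.mem_insert _ _, Set.mem_insert_of_mem _ ha, fun h => ha1 h.symm⟩
      have hc := ch_of_conj S 1 hPP (insert (1 : G) A) h hcard hA1 hhA1
      exact (Ch.mono (Set.subset_insert _ _) hc).toFin

end Cfsg.Agent.S1959
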