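import Cfsg.Statements.S0079
import Mathlib
import Cfsg.Agent.Lib.Lead.NormalPComplement
import Cfsg.Agent.Lib.Helper4.Nilpotent

set_option autoImplicit false
set_option linter.style.haveILetI false
set_option linter.unusedVariables false
open Cfsg

namespace Cfsg.Agent.S0079

open Cfsg.Agent.Lib.Lead.Frobenius Cfsg.Agent.Lib.Lead.NormalPComplement Cfsg.Agent.Lib.Helper4.Nilpotent

universe u
variable {G : Type u} [Group G]

/-- decomposition of an element into commuting `p`- and `p'`-parts -/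
theorem exists_parts {H : Type*} [Group H] [Finite H] (p : ℕ) [hp : Fact p.Prime] (h : H) :
    ∃ (s c : H) (k m : ℕ), h = s * c ∧ s ^ p ^ k = 1 ∧ c ^ m = 1 ∧ ¬ p ∣ m := by
  obtain ⟨k, m, hm, hn⟩ := Nat.exists_eq_pow_mul_and_not_dvd (orderOf_pos h).ne' p hp.out.ne_one
  have hcop : Nat.Coprime (p ^ k) m :=
    Nat.Coprime.pow_left k ((Nat.Prime.coprime_iff_not_dvd hp.out).2 hm)
  have hb := Nat.gcd_eq_gcd_ab (p ^ k) m
  rw [Nat.Coprime] at hcop
  rw [hcop] at hb
  set a := Nat.gcdA (p ^ k) m with ha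
  set b := Nat.gcdB (p ^ k) m with hbdef
  refine ⟨h ^ ((m : ℤ) * b), h ^ (((p ^ k : ℕ) : ℤ) * a), k, m, ?_, ?_, ?_, hm⟩
  · rw [← zpow_add, add_comm, ← hb]
    simp
  · rw [← zpow_natCast, ← zpow_mul]
    have e : (m : ℤ) * b * ((p ^ k : ℕ) : ℤ) = ((p ^ k * m : ℕ) : ℤ) * b := by push_cast; ring
    rw [e, zpow_mul, zpow_natCast, ← hn, pow_orderOf_eq_one, one_zpow]
  · rw [← zpow_natCast, ← zpow_mul]
    have e : ((p ^ k : ℕ) : ℤ) * a * (m : ℤ) = ((p ^ k * m : ℕ) : ℤ) * a := by push_cast; ring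
    rw [e, zpow_mul, zpow_natCast, ← hn, pow_orderOf_eq_one, one_zpow]

/-- the family of normal `p`-complements, intersected -/
theorem exists_normal_inf (s : Finset ℕ) (hs : ∀ p ∈ s, p.Prime ∧ ∃ N : Subgroup G, N.Normal ∧
    (Nat.card ↥N).Coprime p ∧ ∃ k : ℕ, N.index = p ^ k) :
    ∃ N : Subgroup G, N.Normal ∧ (∀ p ∈ s, (Nat.card ↥N).Coprime p) ∧
      ∀ q : ℕ, q.Prime → q ∣ N.index → q ∈ s := by
  classical
  induction s using Finset.induction_on with
  | empty =>
    refine ⟨⊤, inferInstance, fun p hp => absurd hp (Finset.notMem_empty p), fun q hq hd => ?_⟩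
    rw [Subgroup.index_top] at hd
    exact absurd (Nat.dvd_one.1 hd) hq.ne_one
  | insert p s hps ih =>
    obtain ⟨Ns, hNs, h1, h2⟩ := ih (fun q hq => hs q (Finset.mem_insert_of_mem hq))
    obtain ⟨hp, Np, hNp, h3, k, h4⟩ := hs p (Finset.mem_insert_self p s)
    haveI := hNs
    haveI := hNp
    refine ⟨Np ⊓ Ns, inferInstance, ?_, ?_⟩
    · intro q hq
      rcases Finset.mem_insert.1 hq with rfl | hq
      · exact Nat.Coprime.coprime_dvd_left (Subgroup.card_dvd_of_le inf_le_left) h3
      · exact Nat.Coprime.coprime_dvd_left (Subgroup.card_dvd_of_le inf_le_right) (h1 q hq)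
    · intro q hq hd
      have e : (Np ⊓ Ns).index = Ns.relIndex Np * Np.index := by
        rw [← Subgroup.inf_relIndex_left, Subgroup.relIndex_mul_index inf_le_left]
      rw [e] at hd
      rcases (Nat.Prime.dvd_mul hq).1 hd with hd | hd
      · exact Finset.mem_insert_of_mem (h2 q hq (hd.trans (Subgroup.relIndex_dvd_index_of_normal Ns Np)))
      · rw [h4] at hd
        have := (Nat.prime_dvd_prime_iff_eq hq hp).1 (hq.dvd_of_dvd_pow hd)
        rw [this]
        exact Finset.mem_insert_self p s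

/-- A nilpotent Hall subgroup H of a finite group G has a normal complement iff H controls its own fusion. -/
theorem result {G : Type*} [Group G] [Finite G] (H : Subgroup G) (hH : Group.IsNilpotent H) (hHall : Nat.Coprime (Nat.card H) H.index) : (∃ N : Subgroup G, N.Normal ∧ N.IsComplement' H) ↔ ∀ x ∈ H, ∀ y ∈ H, (∃ g : G, g * x * g⁻¹ = y) → ∃ h ∈ H, h * x * h⁻¹ = y := by
  constructor
  · rintro ⟨N, hN, hc⟩ x hx y hy ⟨g, rfl⟩
    obtain ⟨⟨⟨n, hn⟩, ⟨h, hh⟩⟩, hnh⟩ := hc.existsUnique g |>.exists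
    have hg : g = n * h := by simpa using hnh.symm
    refine ⟨h, hh, ?_⟩
    set x' := h * x * h⁻¹ with hx'
    have hx'H : x' ∈ H := H.mul_mem (H.mul_mem hh hx) (H.inv_mem hh)
    have e : g * x * g⁻¹ = n * x' * n⁻¹ := by rw [hg, hx']; group
    rw [e] at hy ⊢
    have h1 : n * x' * n⁻¹ * x'⁻¹ ∈ N := by
      have : n * x' * n⁻¹ * x'⁻¹ = n * (x' * n⁻¹ * x'⁻¹) := by group
      rw [this]
      exact N.mul_mem hn (hN.conj_mem _ (N.inv_mem hn) x')
    have h2 : n * x' * n⁻¹ * x'⁻¹ ∈ H := H.mul_mem hy (H.inv_mem hx'H)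
    have h3 : n * x' * n⁻¹ * x'⁻¹ = 1 := by
      have := hc.disjoint.le_bot ⟨h1, h2⟩
      exact Subgroup.mem_bot.1 this
    calc x' = (n * x' * n⁻¹ * x'⁻¹)⁻¹ * (n * x' * n⁻¹) := by group
      _ = n * x' * n⁻¹ := by rw [h3]; group
  · intro hfus
    -- a normal `p`-complement for each prime dividing `|H|`
    have hstep : ∀ p ∈ (Nat.card ↥H).primeFactors, p.Prime ∧ ∃ N : Subgroup G, N.Normal ∧
        (Nat.card ↥N).Coprime p ∧ ∃ k : ℕ, N.index = p ^ k := by
      intro p hp
      have hpp : p.Prime := Nat.prime_of_mem_primeFactors hp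
      haveI : Fact p.Prime := ⟨hpp⟩
      refine ⟨hpp, ?_⟩
      have hpH : p ∣ Nat.card ↥H := Nat.dvd_of_mem_primeFactors hp
      obtain ⟨PH⟩ : Nonempty (Sylow p ↥H) := inferInstance
      set P0 : Subgroup G := (PH : Subgroup ↥H).map H.subtype with hP0
      have hidx : ¬ p ∣ H.index := by
        intro hd
        have := Nat.Coprime.eq_one_of_dvd (Nat.Coprime.coprime_dvd_left hpH hHall) hd
        exact hpp.ne_one this
      have hfac : (Nat.card G).factorization p = (Nat.card ↥H).factorization p := by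
        rw [← H.card_mul_index, Nat.factorization_mul Nat.card_pos.ne' Subgroup.index_ne_zero_of_finite]
        simp [Nat.factorization_eq_zero_of_not_dvd hidx]
      have hcard : Nat.card ↥P0 = p ^ (Nat.card G).factorization p := by
        rw [hP0, Subgroup.card_map_of_injective H.subtype_injective, hfac]
        exact PH.card_eq_multiplicity
      set P : Sylow p G := Sylow.ofCard P0 hcard with hP
      have hPcoe : (P : Subgroup G) = P0 := Sylow.coe_ofCard P0 hcard
      have hctl : Controls (P : Subgroup G) := by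
        intro x hx g hgx
        rw [hPcoe] at hx hgx ⊢
        obtain ⟨x', hx', rfl⟩ := hx
        obtain ⟨y', hy', hy'e⟩ := hgx
        obtain ⟨h, hh, hhx⟩ := hfus (x' : G) x'.2 (g * (x' : G) * g⁻¹) (hy'e ▸ y'.2) ⟨g, rfl⟩
        obtain ⟨s, c, k, m, hsc, hs, hc, hm⟩ := exists_parts p (⟨h, hh⟩ : ↥H)
        have hsP : s ∈ (PH : Subgroup ↥H) := mem_sylow_of_pow_eq_one PH s k hs
        -- `c` commutes with `x'`
        have hcx : c * x' = x' * c := by
          apply commute_of_coprime_orderOf ↥H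
          obtain ⟨j, hj⟩ := (IsPGroup.iff_orderOf.mp PH.isPGroup') ⟨x', hx'⟩
          rw [Subgroup.orderOf_mk] at hj
          rw [hj]
          apply Nat.Coprime.pow_right
          exact Nat.Coprime.coprime_dvd_left (orderOf_dvd_of_pow_eq_one hc)
            ((Nat.Prime.coprime_iff_not_dvd hpp).2 hm).symm
        refine ⟨(s : G), ⟨s, hsP, rfl⟩, ?_⟩
        change (s : G) * (x' : G) * (s : G)⁻¹ = g * (x' : G) * g⁻¹
        rw [← hhx]
        have e1 : h = (s : G) * (c : G) := by
          have := congrArg Subtype.val hsc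
          simpa using this
        have e2 : (c : G) * (x' : G) = (x' : G) * (c : G) := by
          have := congrArg Subtype.val hcx
          simpa using this
        rw [e1]
        calc (s : G) * (x' : G) * (s : G)⁻¹ = (s : G) * ((x' : G) * (c : G)) * (c : G)⁻¹ * (s : G)⁻¹ := by
              group
          _ = (s : G) * ((c : G) * (x' : G)) * (c : G)⁻¹ * (s : G)⁻¹ := by rw [e2]
          _ = (s : G) * (c : G) * (x' : G) * ((s : G) * (c : G))⁻¹ := by group
      exact exists_normal_of_hasNormalPComplement (hasNormalPComplement_of_controls P hctl)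
    obtain ⟨N, hN, h1, h2⟩ := exists_normal_inf _ hstep
    refine ⟨N, hN, ?_⟩
    have hcop : Nat.Coprime (Nat.card ↥N) (Nat.card ↥H) := by
      apply Nat.coprime_of_dvd
      intro q hq hqN hqH
      have hmem : q ∈ (Nat.card ↥H).primeFactors :=
        Nat.mem_primeFactors.2 ⟨hq, hqH, Nat.card_pos.ne'⟩
      have := Nat.Coprime.eq_one_of_dvd (Nat.Coprime.coprime_dvd_left hqN (h1 q hmem)) (dvd_refl q)
      exact hq.ne_one this
    have hcop2 : Nat.Coprime N.index H.index := by
      apply Nat.coprime_of_dvd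
      intro q hq hqN hqH
      have hmem := h2 q hq hqN
      have hqH' : q ∣ Nat.card ↥H := Nat.dvd_of_mem_primeFactors hmem
      have := Nat.Coprime.eq_one_of_dvd (Nat.Coprime.coprime_dvd_left hqH' hHall) hqH
      exact hq.ne_one this
    have e1 := N.card_mul_index
    have e2 := H.card_mul_index
    have d1 : Nat.card ↥N ∣ H.index := by
      have : Nat.card ↥N ∣ Nat.card ↥H * H.index := by rw [e2, ← e1]; exact dvd_mul_right _ _
      exact hcop.dvd_of_dvd_mul_left this
    have d2 : H.index ∣ Nat.card ↥N := by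
      have : H.index ∣ Nat.card ↥N * N.index := by rw [e1, ← e2]; exact dvd_mul_left _ _
      exact hcop2.symm.dvd_of_dvd_mul_right this
    have e3 : Nat.card ↥N = H.index := Nat.dvd_antisymm d1 d2
    apply Subgroup.isComplement'_of_coprime
    · rw [e3, mul_comm]; exact e2
    · exact hcop

end Cfsg.Agent.S0079
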