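import Cfsg.Statements.S0087
import Mathlib
import Cfsg.Agent.H1.WielandtHall
import Cfsg.Agent.S0079

set_option autoImplicit false
open Cfsg

namespace Cfsg.Agent.S0087

set_option autoImplicit false
open scoped Pointwise commutatorElement
open Cfsg.Agent.H1

/-- A Hall subgroup that is central in its normalizer has a normal complement. -/
theorem result {G : Type*} [Group G] [Finite G] (H : Subgroup G) (hHall : Nat.Coprime (Nat.card H) H.index) (h : Subgroup.normalizer (H : Set G) ≤ Subgroup.centralizer (H : Set G)) : ∃ N : Subgroup G, N.Normal ∧ N.IsComplement' H := by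
  have hHcent : H ≤ Subgroup.centralizer (H : Set G) := Subgroup.le_normalizer.trans h
  have hab : IsMulCommutative H := by
    refine ⟨⟨fun a b => ?_⟩⟩
    apply Subtype.ext
    have := Subgroup.mem_centralizer_iff.mp (hHcent a.2) b b.2
    simpa using this.symm
  have hnil : Group.IsNilpotent H := by
    have : IsMulCommutative H := hab
    let _ : CommGroup H := { (inferInstance : Group H) with mul_comm := hab.is_comm.comm }
    exact CommGroup.isNilpotent
  rw [Cfsg.Agent.S0079.result H hnil hHall]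
  intro x hx y hy ⟨g, hg⟩
  refine ⟨1, one_mem H, ?_⟩
  rw [one_mul, inv_one, mul_one]
  -- work in C = C_G(y)
  obtain ⟨C, hC⟩ : ∃ C : Subgroup G, C = Subgroup.centralizer ({y} : Set G) := ⟨_, rfl⟩
  have hHC : H ≤ C := by
    intro z hz
    rw [hC, Subgroup.mem_centralizer_singleton_iff]
    exact (Subgroup.mem_centralizer_iff.mp (hHcent hz) y hy).symm
  obtain ⟨K, hK⟩ : ∃ K : Subgroup G, K = MulAut.conj g • H := ⟨_, rfl⟩
  have hKC : K ≤ C := by
    intro z hz
    rw [hK, mem_conj_smul] at hz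
    rw [hC, Subgroup.mem_centralizer_singleton_iff]
    have h1 := Subgroup.mem_centralizer_iff.mp (hHcent hz) x hx
    -- x * (g⁻¹ z g) = (g⁻¹ z g) * x ; y = g x g⁻¹
    rw [← hg]
    calc z * (g * x * g⁻¹) = g * ((g⁻¹ * z * g) * x) * g⁻¹ := by group
      _ = g * (x * (g⁻¹ * z * g)) * g⁻¹ := by rw [h1]
      _ = g * x * g⁻¹ * z := by group
  have hKcard : Nat.card K = Nat.card H := by rw [hK]; exact card_conj_smul g H
  have hnil' : Group.IsNilpotent (H.subgroupOf C) :=
    (Group.isNilpotent_congr (Subgroup.subgroupOfEquivOfLe hHC)).mpr hnil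
  have hHall' : (Nat.card (H.subgroupOf C)).Coprime (H.subgroupOf C).index := by
    rw [card_subgroupOf_of_le hHC]
    exact Nat.Coprime.coprime_dvd_right (Subgroup.relIndex_dvd_index_of_le hHC) hHall
  obtain ⟨c, hc⟩ := wielandt_nilpotent_hall_aux _ C (H.subgroupOf C) (K.subgroupOf C) rfl hnil' hHall'
    (by
      intro p hp hpd
      rw [card_subgroupOf_of_le hKC, hKcard] at hpd
      rw [card_subgroupOf_of_le hHC]; exact hpd)
  -- K ≤ c H c⁻¹
  have hle : K ≤ MulAut.conj (c : G) • H := by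
    intro z hz
    have : (⟨z, hKC hz⟩ : C) ∈ MulAut.conj c • H.subgroupOf C := hc (Subgroup.mem_subgroupOf.mpr hz)
    rw [mem_conj_smul, Subgroup.mem_subgroupOf] at this
    rw [mem_conj_smul]
    simpa using this
  have heq : K = MulAut.conj (c : G) • H :=
    Subgroup.eq_of_le_of_card_ge hle (by rw [card_conj_smul, hKcard])
  -- c⁻¹ g normalizes H
  have hnorm : (c : G)⁻¹ * g ∈ Subgroup.normalizer (H : Set G) := by
    rw [Subgroup.mem_normalizer_iff]
    intro z
    have h1 : z ∈ H ↔ g * z * g⁻¹ ∈ K := by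
      rw [hK]; exact (conj_mem_conj_smul g z H).symm
    rw [h1, heq, mem_conj_smul]
    have e : (c : G)⁻¹ * (g * z * g⁻¹) * c = (c : G)⁻¹ * g * z * ((c : G)⁻¹ * g)⁻¹ := by group
    rw [e]
  have hcent := Subgroup.mem_centralizer_iff.mp (h hnorm) x hx
  have hcm : ∀ z ∈ C, z * y = y * z := by
    intro z hz
    rw [hC, Subgroup.mem_centralizer_singleton_iff] at hz
    exact hz
  have hcy : (c : G) * y = y * c := hcm c c.2
  have e1 : x = ((c : G)⁻¹ * g) * x * ((c : G)⁻¹ * g)⁻¹ := by
    rw [← hcent]; group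
  have e2 : ((c : G)⁻¹ * g) * x * ((c : G)⁻¹ * g)⁻¹ = (c : G)⁻¹ * (g * x * g⁻¹) * c := by group
  rw [e2, hg] at e1
  rw [e1]
  calc (c : G)⁻¹ * y * c = (c : G)⁻¹ * (y * c) := by group
    _ = (c : G)⁻¹ * (c * y) := by rw [hcy]
    _ = y := by group

end Cfsg.Agent.S0087
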