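import Cfsg.Statements.S0022
import Mathlib
import Cfsg.Agent.H1.CoprimeAction

set_option autoImplicit false
open Cfsg

namespace Cfsg.Agent.S0022

open Cfsg.Agent.H1
open scoped Pointwise commutatorElement

/-- Under coprime action fixed points pass to quotients: with A normalising K, coprime orders, A or K solvable, and N an A-invariant normal subgroup of K, every coset of N in K fixed by conjugation by A contains an element centralised by A. -/
theorem result {G : Type*} [Group G] [Finite G] (A K : Subgroup G) (hAK : A ≤ Subgroup.normalizer (K : Set G))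
    (hcop : (Nat.card A).Coprime (Nat.card K)) (hsolv : Group.IsSolvable A ∨ Group.IsSolvable K)
    (N : Subgroup G) (hNK : N ≤ K) (hNnormal : K ≤ Subgroup.normalizer (N : Set G)) (hNA : A ≤ Subgroup.normalizer (N : Set G))
    (k : G) (hk : k ∈ K) (hfix : ∀ a ∈ A, a * k * a⁻¹ * k⁻¹ ∈ N) :
    ∃ c ∈ K ⊓ Subgroup.centralizer (A : Set G), k⁻¹ * c ∈ N := by
  have hB : MulAut.conj k⁻¹ • A ≤ N ⊔ A := by
    intro x hx
    rw [mem_conj_smul, inv_inv] at hx
    have h1 := hfix _ hx
    have h2 : k⁻¹ * ((k * x * k⁻¹) * k * (k * x * k⁻¹)⁻¹ * k⁻¹) * k ∈ N := by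
      have := (Subgroup.mem_normalizer_iff.mp (hNnormal (inv_mem hk)) _).mp h1
      rwa [inv_inv] at this
    have e : x = (k⁻¹ * ((k * x * k⁻¹) * k * (k * x * k⁻¹)⁻¹ * k⁻¹) * k) * (k * x * k⁻¹) := by group
    rw [e]
    exact mul_mem (Subgroup.mem_sup_left h2) (Subgroup.mem_sup_right hx)
  have hcopN : (Nat.card A).Coprime (Nat.card N) := Nat.Coprime.coprime_dvd_right (Subgroup.card_dvd_of_le hNK) hcop
  have hsolvN : Group.IsSolvable A ∨ Group.IsSolvable N := by
    rcases hsolv with h | h
    · exact Or.inl h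
    · right
      exact Group.isSolvable_of_isSolvable_injective (f := Subgroup.inclusion hNK) (Subgroup.inclusion_injective _)
  obtain ⟨n, hn, hnA⟩ := coprime_conj A N (MulAut.conj k⁻¹ • A) hNA hcopN hsolvN hB (card_conj_smul _ _)
  have hc : MulAut.conj (k * n) • A = A := by
    rw [map_mul, mul_smul, hnA, ← mul_smul, ← map_mul, mul_inv_cancel, map_one, one_smul]
  have hdisj : K ⊓ A = ⊥ := (Subgroup.disjoint_of_coprime_natCard hcop.symm).eq_bot
  refine ⟨k * n, Subgroup.mem_inf.mpr ⟨mul_mem hk (hNK hn), ?_⟩, ?_⟩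
  · exact mem_centralizer_of_conj_eq A K hAK hdisj _ (mul_mem hk (hNK hn)) hc
  · rw [inv_mul_cancel_left]; exact hn

end Cfsg.Agent.S0022
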