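import Cfsg.Statements.S0026
import Mathlib
import Cfsg.Agent.H1.CoprimeAction
import Cfsg.Agent.S0022

set_option autoImplicit false
open Cfsg

namespace Cfsg.Agent.S0026

open Cfsg.Agent.H1
open scoped Pointwise commutatorElement

/-- Under coprime action the acted-on group factorises as the commutator with A times the fixed points: K = [K, A] C_K(A). -/
theorem result {G : Type*} [Group G] [Finite G] (A K : Subgroup G) (hAK : A ≤ Subgroup.normalizer (K : Set G))
    (hcop : (Nat.card A).Coprime (Nat.card K)) (hsolv : Group.IsSolvable A ∨ Group.IsSolvable K) :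
    ⁅K, A⁆ ⊔ (K ⊓ Subgroup.centralizer (A : Set G)) = K := by
  have hNK : ⁅K, A⁆ ≤ K := Subgroup.le_normalizer_iff_commutator_le_left.mp hAK
  apply le_antisymm (sup_le hNK inf_le_left)
  intro k hk
  have hfix : ∀ a ∈ A, a * k * a⁻¹ * k⁻¹ ∈ ⁅K, A⁆ := by
    intro a ha
    rw [Subgroup.commutator_comm]
    exact Subgroup.commutator_mem_commutator ha hk
  obtain ⟨c, hc, hkc⟩ := Cfsg.Agent.S0022.result A K hAK hcop hsolv ⁅K, A⁆ hNK
    (Subgroup.normalizer_commutator_ge_left K A) (Subgroup.normalizer_commutator_ge_right K A) k hk hfix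
  have e : k = (c * (k⁻¹ * c)⁻¹) := by group
  rw [e]
  -- c * n⁻¹ = (c n⁻¹ c⁻¹) * c
  have hcn : c ∈ Subgroup.normalizer ((⁅K, A⁆ : Subgroup G) : Set G) :=
    Subgroup.normalizer_commutator_ge_left K A (Subgroup.mem_inf.mp hc).1
  have h2 : c * (k⁻¹ * c)⁻¹ * c⁻¹ ∈ ⁅K, A⁆ := (Subgroup.mem_normalizer_iff.mp hcn _).mp (inv_mem hkc)
  have e2 : c * (k⁻¹ * c)⁻¹ = (c * (k⁻¹ * c)⁻¹ * c⁻¹) * c := by group
  rw [e2]
  exact mul_mem (Subgroup.mem_sup_left h2) (Subgroup.mem_sup_right hc)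

end Cfsg.Agent.S0026
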