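import Cfsg.Statements.S0027
import Mathlib
import Cfsg.Agent.H1.CoprimeAction
import Cfsg.Agent.S0022
import Cfsg.Agent.S0026

set_option autoImplicit false
open Cfsg

namespace Cfsg.Agent.S0027

open Cfsg.Agent.H1
open scoped Pointwise commutatorElement

/-- Under coprime action the commutator subgroup with A is stable: taking the commutator with A twice gives the same subgroup as once. -/
theorem result {G : Type*} [Group G] [Finite G] (A K : Subgroup G) (hAK : A ≤ Subgroup.normalizer (K : Set G))
    (hcop : (Nat.card A).Coprime (Nat.card K)) (hsolv : Group.IsSolvable A ∨ Group.IsSolvable K) :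
    ⁅⁅K, A⁆, A⁆ = ⁅K, A⁆ := by
  apply le_antisymm
  · exact Subgroup.le_normalizer_iff_commutator_le_left.mp (Subgroup.normalizer_commutator_ge_right K A)
  · rw [Subgroup.commutator_le]
    intro k hk a ha
    have h26 := Cfsg.Agent.S0026.result A K hAK hcop hsolv
    have hk' : k ∈ ⁅K, A⁆ ⊔ (K ⊓ Subgroup.centralizer (A : Set G)) := by rw [h26]; exact hk
    have hnorm : K ⊓ Subgroup.centralizer (A : Set G) ≤ Subgroup.normalizer ((⁅K, A⁆ : Subgroup G) : Set G) :=
      inf_le_left.trans (Subgroup.normalizer_commutator_ge_left K A)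
    obtain ⟨x, hx, c, hc, rfl⟩ := (mem_sup_of_le_normalizer _ _ hnorm).mp hk'
    have hca : c * a = a * c := by
      have := (Subgroup.mem_inf.mp hc).2
      rw [Subgroup.mem_centralizer_iff] at this
      exact (this a ha).symm
    have e : ⁅x * c, a⁆ = ⁅x, a⁆ := by
      rw [commutatorElement_def, commutatorElement_def]
      have : x * c * a * (x * c)⁻¹ * a⁻¹ = x * (c * a) * c⁻¹ * x⁻¹ * a⁻¹ := by group
      rw [this, hca]; group
    rw [e]
    exact Subgroup.commutator_mem_commutator hx ha

end Cfsg.Agent.S0027
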