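import Cfsg.Statements.S0055
import Cfsg.Agent.Lib.Lead.Avg
import Cfsg.Agent.Lib.Lead.ConjAut

set_option autoImplicit false
open Cfsg

namespace Cfsg.Agent.S0055

open Cfsg.Agent.Lib.Lead.Avg Cfsg.Agent.Lib.Lead.ConjAut
open scoped IsMulCommutative commutatorElement



/-- If A normalises an abelian subgroup V of coprime order, then V is the internal direct product of its A-fixed points and its commutator with A: the two meet trivially and generate V. -/
theorem result {G : Type*} [Group G] [Finite G] (A V : Subgroup G) [IsMulCommutative V]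
    (hAV : A ≤ Subgroup.normalizer (V : Set G)) (hcop : (Nat.card A).Coprime (Nat.card V)) :
    (V ⊓ Subgroup.centralizer (A : Set G)) ⊓ ⁅V, A⁆ = ⊥ ∧ (V ⊓ Subgroup.centralizer (A : Set G)) ⊔ ⁅V, A⁆ = V := by
  classical
  haveI : Fintype ↥A := Fintype.ofFinite _
  set φ : ↥A →* MulAut ↥V := (conjAut V).comp (Subgroup.inclusion hAV) with hφ
  have hφv : ∀ (a : ↥A) (v : ↥V), ((φ a v : ↥V) : G) = (a : G) * v * (a : G)⁻¹ := fun a v => rfl
  set θ := avg φ with hθ
  have hcomm : ∀ (v : ↥V) (a : ↥A), ((v * (φ a v)⁻¹ : ↥V) : G) = ⁅(v : G), (a : G)⁆ := by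
    intro v a
    rw [Subgroup.coe_mul, Subgroup.coe_inv, hφv, commutatorElement_def]; group
  have hVA : ⁅V, A⁆ ≤ V := by
    rw [Subgroup.commutator_le]
    intro v hv a ha
    have := hcomm ⟨v, hv⟩ ⟨a, ha⟩
    rw [← this]; exact (⟨v,hv⟩ * (φ ⟨a,ha⟩ ⟨v,hv⟩)⁻¹ : ↥V).2
  have hker : ⁅V, A⁆ ≤ (θ.ker).map V.subtype := by
    rw [Subgroup.commutator_le]
    intro v hv a ha
    refine ⟨⟨v, hv⟩ * (φ ⟨a, ha⟩ ⟨v, hv⟩)⁻¹, ?_, hcomm ⟨v,hv⟩ ⟨a,ha⟩⟩
    rw [SetLike.mem_coe, MonoidHom.mem_ker]; exact avg_comm_eq_one φ _ _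
  have hcardA : Fintype.card ↥A = Nat.card ↥A := (Nat.card_eq_fintype_card).symm
  have hord : ∀ w : ↥V, w ^ Nat.card ↥A = 1 → w = 1 := by
    intro w hw
    have d1 : orderOf w ∣ Nat.card ↥A := orderOf_dvd_of_pow_eq_one hw
    have d2 : orderOf w ∣ Nat.card ↥V := orderOf_dvd_natCard w
    exact orderOf_eq_one_iff.1 (Nat.Coprime.eq_one_of_dvd (hcop.coprime_dvd_left d1) d2)
  constructor
  · rw [eq_bot_iff]
    rintro x ⟨⟨hxV, hxC⟩, hxc⟩
    obtain ⟨w, hw, hwx⟩ := hker hxc
    have hwx' : (w : G) = x := hwx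
    have hfix : ∀ a : ↥A, φ a w = w := by
      intro a
      apply Subtype.ext
      rw [hφv, hwx']
      have := Subgroup.mem_centralizer_iff.1 hxC a a.2
      rw [this]; group
    have h1 : θ w = w ^ Fintype.card ↥A := avg_fixed φ hfix
    rw [SetLike.mem_coe, MonoidHom.mem_ker] at hw
    rw [hw, hcardA] at h1
    have := hord w h1.symm
    rw [Subgroup.mem_bot, ← hwx', this]; rfl
  · apply le_antisymm
    · exact sup_le inf_le_left hVA
    · intro x hxV
      set w : ↥V := ⟨x, hxV⟩ with hw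
      set S' : Subgroup ↥V := ((V ⊓ Subgroup.centralizer (A : Set G)) ⊔ ⁅V, A⁆).subgroupOf V with hS'
      have h1 : θ w ∈ S' := by
        rw [hS', Subgroup.mem_subgroupOf]
        apply (le_sup_left : _ ≤ (V ⊓ Subgroup.centralizer (A : Set G)) ⊔ ⁅V, A⁆)
        refine ⟨(θ w).2, ?_⟩
        show ((θ w : ↥V) : G) ∈ Subgroup.centralizer (A : Set G)
        rw [Subgroup.mem_centralizer_iff]
        intro a ha
        have := congrArg Subtype.val (map_avg φ ⟨a, ha⟩ w)
        rw [hφv] at this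
        have this' : a * ((θ w : ↥V) : G) * a⁻¹ = ((θ w : ↥V) : G) := this
        calc a * ((θ w : ↥V) : G) = (a * ((θ w : ↥V) : G) * a⁻¹) * a := by group
          _ = ((θ w : ↥V) : G) * a := by rw [this']
      have h2 : ∏ a : ↥A, (w * (φ a w)⁻¹) ∈ S' := by
        apply Subgroup.prod_mem
        intro a _
        rw [hS', Subgroup.mem_subgroupOf, hcomm]
        apply (le_sup_right : ⁅V, A⁆ ≤ _)
        exact Subgroup.commutator_mem_commutator hxV a.2
      have h3 : w ^ Fintype.card ↥A ∈ S' := by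
        rw [pow_card_eq_avg_mul φ w]; exact S'.mul_mem h1 h2
      have hcw : (Fintype.card ↥A).Coprime (orderOf w) := by
        rw [hcardA]; exact hcop.coprime_dvd_right (orderOf_dvd_natCard w)
      obtain ⟨m, hm⟩ := exists_pow_eq_self_of_coprime hcw
      have h4 : w ∈ S' := by rw [← hm]; exact S'.pow_mem h3 m
      exact Subgroup.mem_subgroupOf.1 h4

end Cfsg.Agent.S0055
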