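import Cfsg.Statements.S0056
import Cfsg.Agent.S0055

set_option autoImplicit false
open Cfsg

namespace Cfsg.Agent.S0056

open scoped commutatorElement



/-- A coprime action on an abelian group that fixes all elements of prime order is trivial. -/
theorem result {G : Type*} [Group G] [Finite G] (A V : Subgroup G) [IsMulCommutative V]
    (hAV : A ≤ Subgroup.normalizer (V : Set G)) (hcop : (Nat.card A).Coprime (Nat.card V))
    (hΩ : ∀ v ∈ V, (orderOf v).Prime → ∀ a ∈ A, a * v = v * a) : A ≤ Subgroup.centralizer (V : Set G) := by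
  classical
  obtain ⟨h1, h2⟩ := Cfsg.Agent.S0055.result A V hAV hcop
  have hbot : ⁅V, A⁆ = ⊥ := by
    by_contra hne
    obtain ⟨x, hx, hx1⟩ : ∃ x ∈ ⁅V, A⁆, x ≠ 1 := by
      by_contra h
      push Not at h
      exact hne (eq_bot_iff.2 fun x hx => Subgroup.mem_bot.2 (h x hx))
    have hox : orderOf x ≠ 1 := fun h => hx1 (orderOf_eq_one_iff.1 h)
    have hp : (orderOf x).minFac.Prime := Nat.minFac_prime hox
    set y := x ^ (orderOf x / (orderOf x).minFac) with hy
    have hoy : orderOf y = (orderOf x).minFac :=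
      orderOf_pow_orderOf_div (orderOf_pos x).ne' (Nat.minFac_dvd _)
    have hyc : y ∈ ⁅V, A⁆ := Subgroup.pow_mem _ hx _
    have hyV : y ∈ V := by
      rw [← h2]; exact (le_sup_right : ⁅V, A⁆ ≤ _) hyc
    have hyC : y ∈ Subgroup.centralizer (A : Set G) := by
      rw [Subgroup.mem_centralizer_iff]
      intro a ha
      exact hΩ y hyV (by rw [hoy]; exact hp) a ha
    have hmem : y ∈ (V ⊓ Subgroup.centralizer (A : Set G)) ⊓ ⁅V, A⁆ := ⟨⟨hyV, hyC⟩, hyc⟩
    rw [h1, Subgroup.mem_bot] at hmem
    rw [hmem, orderOf_one] at hoy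
    exact hp.one_lt.ne hoy
  intro a ha
  rw [Subgroup.mem_centralizer_iff]
  intro v hv
  have := Subgroup.commutator_mem_commutator hv ha
  rw [hbot, Subgroup.mem_bot, commutatorElement_eq_one_iff_mul_comm] at this
  exact this

end Cfsg.Agent.S0056
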