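import Mathlib
import Cfsg.Statements.S1264
import Cfsg.Agent.H2.Layer

set_option autoImplicit false
open Cfsg

namespace Cfsg.Agent.S1264

open Cfsg.Agent.H2
open scoped commutatorElement

/-- the derived series of a subgroup, computed in the ambient group -/
def dser {G : Type*} [Group G] (N : Subgroup G) : ℕ → Subgroup G
  | 0 => N
  | (k + 1) => ⁅dser N k, dser N k⁆

theorem dser_eq {G : Type*} [Group G] (N : Subgroup G) (k : ℕ) :
    (derivedSeries N k).map N.subtype = dser N k := by
  induction k with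
  | zero =>
    show (⊤ : Subgroup N).map N.subtype = N
    rw [← MonoidHom.range_eq_map, Subgroup.range_subtype]
  | succ k ih =>
    show (⁅derivedSeries N k, derivedSeries N k⁆).map N.subtype = ⁅dser N k, dser N k⁆
    rw [Subgroup.map_commutator, ih]

theorem dser_le {G : Type*} [Group G] (N : Subgroup G) (k : ℕ) : dser N k ≤ N := by
  rw [← dser_eq]; exact map_subtype_le _ _

theorem dser_normalizer {G : Type*} [Group G] (N : Subgroup G) (k : ℕ) :
    Subgroup.normalizer (N : Set G) ≤ Subgroup.normalizer ((dser N k : Subgroup G) : Set G) := by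
  induction k with
  | zero => exact le_rfl
  | succ k ih => exact ih.trans (normalizer_le_normalizer_commutator _)

/-- Let G be finite, C = C_G(F(G)) the centralizer of the Fitting subgroup, and N a solvable subgroup of C normalized by C. Then N ≤ Z(F(G)). -/
theorem result {G : Type*} [Group G] [Finite G] (N : Subgroup G) (hN : N ≤ Subgroup.centralizer (Cfsg.fittingSubgroup G : Set G)) (hnorm : Subgroup.centralizer (Cfsg.fittingSubgroup G : Set G) ≤ Subgroup.normalizer (N : Set G)) (hsolv : Group.IsSolvable ↥N) : N ≤ (Subgroup.center ↥(Cfsg.fittingSubgroup G)).map (Cfsg.fittingSubgroup G).subtype := by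
  set F := Cfsg.fittingSubgroup G with hF
  set C := Subgroup.centralizer (F : Set G) with hC
  set Z := C ⊓ F with hZ
  have hCn : C.Normal := inferInstance
  have hZn : Z.Normal := inferInstance
  -- Z is central in C
  have hZC : ∀ z ∈ Z, ∀ c ∈ C, z * c = c * z := by
    intro z hz c hc
    exact (Subgroup.mem_centralizer_iff.1 hc z hz.2)
  have hZle : Z ≤ (Subgroup.center F).map F.subtype := by
    intro z hz
    rw [mem_map_subtype_center_iff]
    refine ⟨hz.2, fun f hf => ?_⟩
    exact (Subgroup.mem_centralizer_iff.1 hz.1 f hf)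
  suffices h : ∀ k, dser N k ≤ Z from (h 0).trans hZle
  obtain ⟨n, hn⟩ := (Group.isSolvable_def N).1 hsolv
  have hn' : dser N n = ⊥ := by rw [← dser_eq, hn, Subgroup.map_bot]
  -- downward induction
  have key : ∀ j, j ≤ n → dser N (n - j) ≤ Z := by
    intro j
    induction j with
    | zero => intro _; rw [Nat.sub_zero, hn']; exact bot_le
    | succ j ih =>
      intro hj
      have hj' : j ≤ n := Nat.le_of_succ_le hj
      have h1 := ih hj'
      have e : n - j = (n - (j + 1)) + 1 := by omega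
      rw [e] at h1
      set D := dser N (n - (j + 1)) with hD
      have hDD : ⁅D, D⁆ ≤ Z := h1
      have hDC : D ≤ C := (dser_le N _).trans hN
      -- A = D ⊔ Z is nilpotent, subnormal
      have hAC : D ⊔ Z ≤ C := sup_le hDC inf_le_left
      have hAA : ⁅D ⊔ Z, D ⊔ Z⁆ ≤ Z := by
        rw [Subgroup.commutator_le]
        intro a ha b hb
        obtain ⟨d₁, hd₁, z₁, hz₁, rfl⟩ := Subgroup.mem_sup_of_normal_right.1 ha
        obtain ⟨d₂, hd₂, z₂, hz₂, rfl⟩ := Subgroup.mem_sup_of_normal_right.1 hb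
        have e1 : ⁅d₁ * z₁, d₂ * z₂⁆ = ⁅d₁, d₂⁆ := by
          have c1 : ∀ g ∈ C, z₁ * g = g * z₁ := fun g hg => hZC z₁ hz₁ g hg
          have c2 : ∀ g ∈ C, z₂ * g = g * z₂ := fun g hg => hZC z₂ hz₂ g hg
          have hd₁C : d₁ ∈ C := hDC hd₁
          have hd₂C : d₂ ∈ C := hDC hd₂
          have hz₁C : z₁ ∈ C := hz₁.1
          have hz₂C : z₂ ∈ C := hz₂.1
          simp only [commutatorElement_def, mul_inv_rev]
          have a1 : z₁ * (d₂ * z₂) = (d₂ * z₂) * z₁ := c1 _ (C.mul_mem hd₂C hz₂C)
          have a2 : z₂ * d₁⁻¹ = d₁⁻¹ * z₂ := c2 _ (C.inv_mem hd₁C)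
          calc d₁ * z₁ * (d₂ * z₂) * (z₁⁻¹ * d₁⁻¹) * (z₂⁻¹ * d₂⁻¹)
              = d₁ * (z₁ * (d₂ * z₂)) * z₁⁻¹ * d₁⁻¹ * z₂⁻¹ * d₂⁻¹ := by group
            _ = d₁ * ((d₂ * z₂) * z₁) * z₁⁻¹ * d₁⁻¹ * z₂⁻¹ * d₂⁻¹ := by rw [a1]
            _ = d₁ * d₂ * (z₂ * d₁⁻¹) * z₂⁻¹ * d₂⁻¹ := by group
            _ = d₁ * d₂ * (d₁⁻¹ * z₂) * z₂⁻¹ * d₂⁻¹ := by rw [a2]
            _ = d₁ * d₂ * d₁⁻¹ * d₂⁻¹ := by group
        rw [e1]
        exact hDD (Subgroup.commutator_mem_commutator hd₁ hd₂)
      have hnil : Group.IsNilpotent (D ⊔ Z : Subgroup G) := by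
        apply isNilpotent_of_commutator_commutator_eq_bot
        rw [commutator_eq_bot_iff_forall_commute]
        intro a ha b hb
        exact hZC a (hAA ha) b (hAC hb)
      have hAn : C ≤ Subgroup.normalizer ((D ⊔ Z : Subgroup G) : Set G) := by
        have h1 : C ≤ Subgroup.normalizer ((D : Subgroup G) : Set G) :=
          hnorm.trans (dser_normalizer N _)
        have h2 : C ≤ Subgroup.normalizer ((Z : Subgroup G) : Set G) := by
          rw [Subgroup.normalizer_eq_top_iff.2 hZn]; exact le_top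
        exact (le_inf h1 h2).trans (normalizer_inf_le_normalizer_sup _ _)
      have hAsn : (D ⊔ Z).IsSubnormal :=
        Subgroup.IsSubnormal.step _ C hAC hCn.isSubnormal
          ((Subgroup.normal_subgroupOf_iff_le_normalizer hAC).2 hAn)
      have hAF : D ⊔ Z ≤ F := le_fittingSubgroup_of_isSubnormal_of_isNilpotent hAsn hnil
      exact le_sup_left.trans (le_inf hAC hAF)
  intro k
  by_cases hk : k ≤ n
  · have := key (n - k) (Nat.sub_le _ _)
    rwa [Nat.sub_sub_self hk] at this
  · push Not at hk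
    -- dser is antitone; beyond n it is ⊥
    have : ∀ m, dser N (n + m) = ⊥ := by
      intro m
      induction m with
      | zero => exact hn'
      | succ m ih =>
        show ⁅dser N (n + m), dser N (n + m)⁆ = ⊥
        rw [ih, Subgroup.commutator_bot_left]
    have e : k = n + (k - n) := by omega
    rw [e, this]; exact bot_le

end Cfsg.Agent.S1264
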