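import Cfsg.Statements.S3800
import Mathlib
import Cfsg.Agent.H1.Basic
import Cfsg.Agent.H1.SylowMore

set_option autoImplicit false
open Cfsg

namespace Cfsg.Agent.S3800

open Cfsg.Agent.H1
open scoped commutatorElement

/-- Let G be a finite group, N a normal subgroup of G whose order is prime to p, and P a p-subgroup of G. Then in G/N the normalizer of the image of P is the image of N_G(P), and the centralizer of the image of P is the image of C_G(P). -/
theorem result {G : Type*} [Group G] [Finite G] {p : ℕ} [Fact p.Prime] (N : Subgroup G) [N.Normal] (hN : (Nat.card N).Coprime p) (P : Subgroup G) (hP : IsPGroup p P) : Subgroup.normalizer ((P.map (QuotientGroup.mk' N)) : Set (G ⧸ N)) = (Subgroup.normalizer (P : Set G)).map (QuotientGroup.mk' N) ∧ Subgroup.centralizer ((P.map (QuotientGroup.mk' N)) : Set (G ⧸ N)) = (Subgroup.centralizer (P : Set G)).map (QuotientGroup.mk' N) := by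
  have hpp : p.Prime := Fact.out
  -- P ∩ N = ⊥
  have hPN : P ⊓ N = ⊥ := by
    rw [← Subgroup.card_eq_one]
    have h1 : Nat.card (P ⊓ N : Subgroup G) ∣ Nat.card N := Subgroup.card_dvd_of_le inf_le_right
    have h2 : IsPGroup p (P ⊓ N : Subgroup G) := hP.to_le inf_le_left
    obtain ⟨n, hn⟩ := h2.exists_card_eq
    rw [hn] at h1 ⊢
    rcases Nat.eq_zero_or_pos n with h0 | hpos
    · rw [h0, pow_zero]
    · exfalso
      have : p ∣ Nat.card N := (dvd_pow_self p hpos.ne').trans h1
      have := Nat.Coprime.eq_one_of_dvd hN.symm this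
      exact hpp.one_lt.ne' this
  have hPnorm : P ≤ Subgroup.normalizer (N : Set G) := by
    rw [Subgroup.normalizer_eq_top]; exact le_top
  have hidx : ¬ p ∣ P.relIndex (P ⊔ N) := by
    rw [← relIndex_inf_eq_relIndex_sup P N hPnorm]
    intro hdvd
    have : p ∣ Nat.card N := hdvd.trans (Subgroup.relIndex_dvd_card _ _)
    have := Nat.Coprime.eq_one_of_dvd hN.symm this
    exact hpp.one_lt.ne' this
  have hcomap : (P.map (QuotientGroup.mk' N)).comap (QuotientGroup.mk' N) = P ⊔ N := by
    rw [Subgroup.comap_map_eq, QuotientGroup.ker_mk']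
  -- normalizer part, as a lemma
  have hnorm : ∀ g : G, QuotientGroup.mk' N g ∈ Subgroup.normalizer ((P.map (QuotientGroup.mk' N)) : Set (G ⧸ N)) →
      ∃ m ∈ N, m⁻¹ * g ∈ Subgroup.normalizer (P : Set G) := by
    intro g hg
    have hQK : P.map (MulAut.conj g).toMonoidHom ≤ P ⊔ N := by
      rintro _ ⟨x, hx, rfl⟩
      rw [← hcomap, Subgroup.mem_comap]
      have := (Subgroup.mem_normalizer_iff.mp hg (QuotientGroup.mk' N x)).mp (Subgroup.mem_map_of_mem _ hx)
      simpa using this
    have hQ : IsPGroup p (P.map (MulAut.conj g).toMonoidHom) := hP.map _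
    obtain ⟨k, hk, hle⟩ := exists_le_map_conj_of_pgroup (P ⊔ N) P _ le_sup_left hP hidx hQK hQ
    rw [sup_comm, Subgroup.mem_sup_of_normal_left] at hk
    obtain ⟨m, hm, x, hx, rfl⟩ := hk
    refine ⟨m, hm, ?_⟩
    apply mem_normalizer_of_map_conj_le
    rw [← map_conj_map_conj, map_conj_of_mem P x hx] at hle
    have := Subgroup.map_mono (f := (MulAut.conj m⁻¹).toMonoidHom) hle
    rw [map_conj_map_conj m m⁻¹, inv_mul_cancel, map_conj_one] at this
    rw [← map_conj_map_conj]
    exact this
  constructor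
  · apply le_antisymm
    · intro q hq
      obtain ⟨g, rfl⟩ := QuotientGroup.mk'_surjective N q
      obtain ⟨m, hm, hmg⟩ := hnorm g hq
      refine ⟨m⁻¹ * g, hmg, ?_⟩
      have hm1 : QuotientGroup.mk' N m = 1 := (QuotientGroup.eq_one_iff m).mpr hm
      rw [map_mul, map_inv, hm1, inv_one, one_mul]
    · exact Subgroup.le_normalizer_map _
  · apply le_antisymm
    · intro q hq
      obtain ⟨g, rfl⟩ := QuotientGroup.mk'_surjective N q
      have hq' : QuotientGroup.mk' N g ∈ Subgroup.normalizer ((P.map (QuotientGroup.mk' N)) : Set (G ⧸ N)) :=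
        Subgroup.centralizer_le_normalizer _ hq
      obtain ⟨m, hm, hmg⟩ := hnorm g hq'
      have himg : QuotientGroup.mk' N (m⁻¹ * g) = QuotientGroup.mk' N g := by
        have hm1 : QuotientGroup.mk' N m = 1 := (QuotientGroup.eq_one_iff m).mpr hm
        rw [map_mul, map_inv, hm1, inv_one, one_mul]
      refine ⟨m⁻¹ * g, ?_, himg⟩
      show m⁻¹ * g ∈ Subgroup.centralizer (P : Set G)
      rw [Subgroup.mem_centralizer_iff]
      intro x hx
      have h1 : ⁅m⁻¹ * g, x⁆ ∈ P := by
        rw [commutatorElement_def]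
        have := (Subgroup.mem_normalizer_iff.mp hmg x).mp hx
        exact mul_mem this (inv_mem hx)
      have h2 : ⁅m⁻¹ * g, x⁆ ∈ N := by
        rw [← QuotientGroup.eq_one_iff, ← QuotientGroup.mk'_apply, map_commutatorElement, himg,
          commutatorElement_eq_one_iff_mul_comm]
        rw [Subgroup.mem_centralizer_iff] at hq
        exact (hq _ (Subgroup.mem_map_of_mem _ hx)).symm
      have h3 : ⁅m⁻¹ * g, x⁆ ∈ P ⊓ N := Subgroup.mem_inf.mpr ⟨h1, h2⟩
      rw [hPN, Subgroup.mem_bot, commutatorElement_eq_one_iff_mul_comm] at h3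
      exact h3.symm
    · rintro _ ⟨g, hg, rfl⟩
      rw [Subgroup.mem_centralizer_iff]
      rintro _ ⟨x, hx, rfl⟩
      have hg : g ∈ Subgroup.centralizer (P : Set G) := hg
      rw [Subgroup.mem_centralizer_iff] at hg
      rw [← map_mul, ← map_mul, hg x hx]

end Cfsg.Agent.S3800
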