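import Cfsg.Statements.S0630
import Mathlib
import Cfsg.Agent.Lib.Lead.PSolvable
import Cfsg.Agent.Lib.Helper7.Core

set_option autoImplicit false
open Cfsg

namespace Cfsg.Agent.S0630

open Cfsg.Agent.Lib.Lead.PSolvable

/-- `G` is `p`-constrained iff `C(O_p) ≤ O_p` in `G / O_{p'}(G)` -/
theorem isPConstrained_iff {G : Type*} [Group G] [Finite G] {p : ℕ} [hp : Fact p.Prime] :
    Cfsg.IsPConstrained p G ↔
      Subgroup.centralizer ((Cfsg.pCore p (G ⧸ Cfsg.pPrimeCore p G) : Subgroup _) : Set _) ≤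
        Cfsg.pCore p (G ⧸ Cfsg.pPrimeCore p G) := by
  haveI hKn : (Cfsg.pPrimeCore p G).Normal := Cfsg.Agent.H1.pPrimeCore_normal p
  have hKc : (Nat.card ↥(Cfsg.pPrimeCore p G)).Coprime p := Cfsg.Agent.H1.pPrimeCore_coprime p
  obtain ⟨P⟩ : Nonempty (Sylow p ↥(Cfsg.pPrimePCore p G)) := inferInstance
  have hP₁ : IsPGroup p ↥((P : Subgroup ↥(Cfsg.pPrimePCore p G)).map (Cfsg.pPrimePCore p G).subtype) :=
    P.isPGroup'.map _
  have h3800 := (Cfsg.Agent.S3800.result (Cfsg.pPrimeCore p G) hKc _ hP₁).2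
  rw [map_sylow_eq_pCore P] at h3800
  constructor
  · intro hc
    rw [h3800]
    rintro _ ⟨x, hx, rfl⟩
    exact (mem_pPrimePCore_iff x).1 (hc P hx)
  · intro h
    apply isPConstrained_of_sylow P
    intro x hx
    rw [mem_pPrimePCore_iff]
    apply h
    rw [h3800]
    exact Subgroup.mem_map_of_mem _ hx

/-- transport of `C(O_p) ≤ O_p` along an isomorphism -/
theorem transport {A B : Type*} [Group A] [Group B] {p : ℕ} (e : A ≃* B)
    (hA : Subgroup.centralizer ((Cfsg.pCore p A : Subgroup A) : Set A) ≤ Cfsg.pCore p A) :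
    Subgroup.centralizer ((Cfsg.pCore p B : Subgroup B) : Set B) ≤ Cfsg.pCore p B := by
  intro y hy
  have hx : e.symm y ∈ Subgroup.centralizer ((Cfsg.pCore p A : Subgroup A) : Set A) := by
    rw [Subgroup.mem_centralizer_iff]
    intro a ha
    have haB : e a ∈ Cfsg.pCore p B := by
      rw [← Cfsg.Agent.Lib.Helper7.pCore_map_equiv e]
      exact ⟨a, ha, rfl⟩
    have := Subgroup.mem_centralizer_iff.1 hy _ haB
    apply e.injective
    rw [map_mul, map_mul, MulEquiv.apply_symm_apply]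
    exact this
  have := hA hx
  rw [← Cfsg.Agent.Lib.Helper7.pCore_map_equiv e]
  exact ⟨e.symm y, this, by simp⟩

/-- p-constraint passes to and from the quotient by the largest normal subgroup of order prime to p. -/
theorem result {G : Type*} [Group G] [Finite G] {p : ℕ} [Fact p.Prime] : Cfsg.IsPConstrained p G ↔ Cfsg.IsPConstrained p (G ⧸ Cfsg.pPrimeCore p G) := by
  rw [isPConstrained_iff, isPConstrained_iff (G := G ⧸ Cfsg.pPrimeCore p G)]
  have hbot : Cfsg.pPrimeCore p (G ⧸ Cfsg.pPrimeCore p G) = ⊥ := Cfsg.Agent.H2.pPrimeCore_quotient_eq_bot p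
  haveI hn : (Cfsg.pPrimeCore p (G ⧸ Cfsg.pPrimeCore p G)).Normal := Cfsg.Agent.H1.pPrimeCore_normal p
  have hbij : Function.Bijective (QuotientGroup.mk' (Cfsg.pPrimeCore p (G ⧸ Cfsg.pPrimeCore p G))) := by
    refine ⟨?_, QuotientGroup.mk'_surjective _⟩
    rw [← MonoidHom.ker_eq_bot_iff, QuotientGroup.ker_mk', hbot]
  let e : (G ⧸ Cfsg.pPrimeCore p G) ≃* ((G ⧸ Cfsg.pPrimeCore p G) ⧸ Cfsg.pPrimeCore p (G ⧸ Cfsg.pPrimeCore p G)) :=
    MulEquiv.ofBijective _ hbij
  exact ⟨transport e, transport e.symm⟩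

end Cfsg.Agent.S0630
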