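import Cfsg.Statements.S0649
import Cfsg.Agent.S2013

set_option autoImplicit false
open Cfsg

namespace Cfsg.Agent.S0649



/-- In the Glauberman replacement situation, if B does not normalize A then some element of B normalizes N_S(A) without normalizing A. -/
theorem result {S : Type*} [Group S] [Finite S] {p : ℕ} [Fact p.Prime] (hS : IsPGroup p S) (B : Subgroup S) [B.Normal] (hB2 : p = 2 → IsMulCommutative B) (A : Subgroup S) (hA : IsMulCommutative A) (hBA : ⁅B, B⁆ ≤ A) (hnot : ¬ B ≤ Subgroup.normalizer (A : Set S)) : ∃ b ∈ B, b ∈ Subgroup.normalizer ((Subgroup.normalizer (A : Set S)) : Set S) ∧ b ∉ Subgroup.normalizer (A : Set S) := by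
  classical
  set N := Subgroup.normalizer (A : Set S) with hN
  have hNB : N ≠ N ⊔ B := by
    intro h
    apply hnot
    rw [h]
    exact le_sup_right
  have hp : IsPGroup p ↥(N ⊔ B) := hS.to_subgroup _
  have hgrow := Cfsg.Agent.S2013.normalizer_grow (p := p) hp (le_sup_left : N ≤ N ⊔ B) hNB
  obtain ⟨g, hg, hgN⟩ := SetLike.exists_of_lt hgrow
  have hg1 : g ∈ N ⊔ B := hg.1
  have hg2 : g ∈ Subgroup.normalizer (N : Set S) := hg.2
  obtain ⟨n, hn, b, hb, rfl⟩ := Subgroup.mem_sup_of_normal_right.1 hg1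
  refine ⟨b, hb, ?_, ?_⟩
  · have : b = n⁻¹ * (n * b) := by group
    rw [this]
    exact Subgroup.mul_mem _ (Subgroup.inv_mem _ (Subgroup.le_normalizer hn)) hg2
  · intro hbN
    exact hgN (Subgroup.mul_mem _ hn hbN)

end Cfsg.Agent.S0649
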