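import Cfsg.Statements.S0648
import Mathlib

set_option autoImplicit false
open Cfsg
open scoped commutatorElement

namespace Cfsg.Agent.S0648

variable {G : Type*} [Group G]

/-- an element `f` commuting with `a` such that `⁅f, b⁆` commutes with `a` commutes with
`b⁻¹ a b a⁻¹`. -/
theorem step1 (f b a : G) (hfa : f * a = a * f) (hwa : ⁅f, b⁆ * a = a * ⁅f, b⁆) :
    f * (b⁻¹ * a * b * a⁻¹) = (b⁻¹ * a * b * a⁻¹) * f := by
  obtain ⟨X, hX⟩ : ∃ X, X = b⁻¹ * a * b * a⁻¹ := ⟨_, rfl⟩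
  rw [← hX]
  have h1 : a * f * a⁻¹ = f := by rw [← hfa, mul_inv_cancel_right]
  have h2 : a * ⁅f, b⁆ * a⁻¹ = ⁅f, b⁆ := by rw [← hwa, mul_inv_cancel_right]
  have h3 : a * ⁅f, b⁆ * a⁻¹ = ⁅a * f * a⁻¹, a * b * a⁻¹⁆ := by
    simp only [commutatorElement_def]; group
  rw [h2, h1] at h3
  have e1 : b⁻¹ * f⁻¹ * ⁅f, b⁆ * b = f⁻¹ := by simp only [commutatorElement_def]; group
  have e2 : b⁻¹ * f⁻¹ * ⁅f, a * b * a⁻¹⁆ * b = X * f⁻¹ * X⁻¹ := by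
    rw [hX]; simp only [commutatorElement_def]; group
  have h4 : f⁻¹ = X * f⁻¹ * X⁻¹ := by
    calc f⁻¹ = b⁻¹ * f⁻¹ * ⁅f, b⁆ * b := e1.symm
      _ = b⁻¹ * f⁻¹ * ⁅f, a * b * a⁻¹⁆ * b := by rw [h3]
      _ = X * f⁻¹ * X⁻¹ := e2
  have h5 : Commute f⁻¹ X := by
    show f⁻¹ * X = X * f⁻¹
    calc f⁻¹ * X = (X * f⁻¹ * X⁻¹) * X := by rw [← h4]
      _ = X * f⁻¹ := by group
  exact (Commute.inv_left_iff.mp h5).eq

theorem rel_aux (b xa xc y c : G) (h_cb : c * b * c⁻¹ = b * xc) (h_cxa : c * xa * c⁻¹ = xa * y)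
    (hv : c * ⁅b, xa⁆ * c⁻¹ = ⁅b, xa⁆) (hy : y * xc⁻¹ = xc⁻¹ * y)
    (hk : ⁅xc, xa⁆ * xa = xa * ⁅xc, xa⁆) : y * b⁻¹ * y⁻¹ * b = ⁅xc, xa⁆⁻¹ := by
  have h1 : c * ⁅b, xa⁆ * c⁻¹ = ⁅c * b * c⁻¹, c * xa * c⁻¹⁆ := by
    simp only [commutatorElement_def]; group
  rw [hv, h_cb, h_cxa] at h1
  have h2 : ⁅b * xc, xa * y⁆ = b * xc * xa * (y * xc⁻¹) * b⁻¹ * y⁻¹ * xa⁻¹ := by
    simp only [commutatorElement_def]; group
  rw [hy] at h2
  obtain ⟨k, hk'⟩ : ∃ k, k = ⁅xc, xa⁆ := ⟨_, rfl⟩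
  rw [← hk'] at hk ⊢
  have h3 : b * xc * xa * (xc⁻¹ * y) * b⁻¹ * y⁻¹ * xa⁻¹ =
      b * (k * xa) * ((y * b⁻¹ * y⁻¹ * b) * b⁻¹) * xa⁻¹ := by
    rw [hk']; simp only [commutatorElement_def]; group
  rw [h3, hk] at h2
  have h4 : b * xa * b⁻¹ * xa⁻¹ = b * (xa * k) * ((y * b⁻¹ * y⁻¹ * b) * b⁻¹) * xa⁻¹ := by
    have h5 := h1.trans h2
    rw [commutatorElement_def b xa] at h5
    exact h5
  have h6 : k * (y * b⁻¹ * y⁻¹ * b) = 1 := by
    have e : xa⁻¹ * b⁻¹ * (b * xa * b⁻¹ * xa⁻¹) * xa * b =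
        xa⁻¹ * b⁻¹ * (b * (xa * k) * ((y * b⁻¹ * y⁻¹ * b) * b⁻¹) * xa⁻¹) * xa * b := by
      rw [h4]
    have e1 : xa⁻¹ * b⁻¹ * (b * xa * b⁻¹ * xa⁻¹) * xa * b = 1 := by group
    have e2 : xa⁻¹ * b⁻¹ * (b * (xa * k) * ((y * b⁻¹ * y⁻¹ * b) * b⁻¹) * xa⁻¹) * xa * b =
        k * (y * b⁻¹ * y⁻¹ * b) := by group
    rw [e1, e2] at e
    exact e.symm
  exact eq_inv_of_mul_eq_one_right h6

theorem comm_eq_aux (b a c xa xc y z : G) (hxa : xa = b⁻¹ * a * b * a⁻¹)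
    (hxc : xc = b⁻¹ * c * b * c⁻¹) (hac : a * c = c * a) (h_cxa : c * xa * c⁻¹ = xa * y)
    (h_axc : a * xc * a⁻¹ = xc * z) (hyc : Commute y xc) (hya : Commute y xa)
    (hzc : Commute z xc) (hza : Commute z xa) : ⁅xc, xa⁆ = z * y⁻¹ := by
  have e : xc * xa * y = xa * xc * z := by
    have e1 : xc * (c * xa * c⁻¹) = b⁻¹ * (c * a) * b * (c * a)⁻¹ := by rw [hxa, hxc]; group
    have e2 : xa * (a * xc * a⁻¹) = b⁻¹ * (a * c) * b * (a * c)⁻¹ := by rw [hxa, hxc]; group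
    rw [h_cxa] at e1
    rw [h_axc, hac] at e2
    calc xc * xa * y = xc * (xa * y) := mul_assoc _ _ _
      _ = b⁻¹ * (c * a) * b * (c * a)⁻¹ := e1
      _ = xa * (xc * z) := e2.symm
      _ = xa * xc * z := (mul_assoc _ _ _).symm
  have hw_c : Commute (z * y⁻¹) xc := hzc.mul_left hyc.inv_left
  have hw_a : Commute (z * y⁻¹) xa := hza.mul_left hya.inv_left
  obtain ⟨w, hw⟩ : ∃ w, w = z * y⁻¹ := ⟨_, rfl⟩
  rw [← hw] at hw_c hw_a ⊢
  calc ⁅xc, xa⁆ = (xc * xa * y) * y⁻¹ * xc⁻¹ * xa⁻¹ := by rw [commutatorElement_def]; group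
    _ = (xa * xc * z) * y⁻¹ * xc⁻¹ * xa⁻¹ := by rw [e]
    _ = xa * (xc * w) * xc⁻¹ * xa⁻¹ := by rw [hw]; group
    _ = xa * (w * xc) * xc⁻¹ * xa⁻¹ := by rw [hw_c.eq]
    _ = (xa * w) * xa⁻¹ := by group
    _ = (w * xa) * xa⁻¹ := by rw [hw_a.eq]
    _ = w := by group

theorem sq_aux (b y z k : G) (hk : k = z * y⁻¹) (hRy : y * b⁻¹ * y⁻¹ * b = k⁻¹)
    (hRz : z * b⁻¹ * z⁻¹ * b = k) (hkb : k * b = b * k) : k ^ 2 = 1 := by
  have hz : z = k * y := by rw [hk]; group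
  have hkb' : k⁻¹ * b = b * k⁻¹ := by
    have h1 : Commute k b := hkb
    exact h1.inv_left.eq
  have h7 : (k * y) * b⁻¹ * (k * y)⁻¹ * b = k * (y * b⁻¹ * y⁻¹ * b) * k⁻¹ := by
    calc (k * y) * b⁻¹ * (k * y)⁻¹ * b = k * y * b⁻¹ * y⁻¹ * (k⁻¹ * b) := by group
      _ = k * y * b⁻¹ * y⁻¹ * (b * k⁻¹) := by rw [hkb']
      _ = k * (y * b⁻¹ * y⁻¹ * b) * k⁻¹ := by group
  rw [hz] at hRz
  rw [h7, hRy] at hRz
  have h8 : k⁻¹ = k := by
    rw [mul_inv_cancel, one_mul] at hRz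
    exact hRz
  rw [sq]
  calc k * k = k⁻¹ * k := by rw [h8]
    _ = 1 := inv_mul_cancel k

/-- the elements of the centre of `B` with square one -/
def sqOne (B : Subgroup G) : Subgroup G where
  carrier := {w | w ∈ B ⊓ Subgroup.centralizer (B : Set G) ∧ w ^ 2 = 1}
  one_mem' := ⟨Subgroup.one_mem _, one_pow 2⟩
  mul_mem' := by
    rintro u v ⟨hu, hu2⟩ ⟨hv, hv2⟩
    refine ⟨Subgroup.mul_mem _ hu hv, ?_⟩
    have hcomm : v * u = u * v :=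
      Subgroup.mem_centralizer_iff.mp (Subgroup.mem_inf.mp hu).2 v (Subgroup.mem_inf.mp hv).1
    have h1 : Commute u v := hcomm.symm
    rw [h1.mul_pow, hu2, hv2, one_mul]
  inv_mem' := by
    rintro u ⟨hu, hu2⟩
    exact ⟨Subgroup.inv_mem _ hu, by rw [inv_pow, hu2, inv_one]⟩

theorem mem_sqOne (B : Subgroup G) (w : G) :
    w ∈ sqOne B ↔ (w ∈ B ⊓ Subgroup.centralizer (B : Set G) ∧ w ^ 2 = 1) := Iff.rfl

theorem comm_induction (B T : Subgroup G) (s : Set G) (x : G)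
    (hsB : Subgroup.closure s ≤ B)
    (hZ : ∀ e ∈ Subgroup.closure s, ∀ h ∈ B, h * ⁅e, x⁆ = ⁅e, x⁆ * h)
    (hgen : ∀ g ∈ s, ⁅g, x⁆ ∈ T) :
    ∀ e ∈ Subgroup.closure s, ⁅e, x⁆ ∈ T := by
  intro e he
  induction he using Subgroup.closure_induction with
  | mem g hg => exact hgen g hg
  | one => rw [commutatorElement_one_left]; exact T.one_mem
  | mul u v hu hv ihu ihv =>
    have h1 : ⁅u * v, x⁆ = u * ⁅v, x⁆ * u⁻¹ * ⁅u, x⁆ := by
      simp only [commutatorElement_def]; group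
    have h2 : u * ⁅v, x⁆ = ⁅v, x⁆ * u := hZ v hv u (hsB hu)
    rw [h1, h2, mul_inv_cancel_right]
    exact T.mul_mem ihv ihu
  | inv u hu ihu =>
    have h1 : ⁅u⁻¹, x⁆ = u⁻¹ * ⁅u, x⁆⁻¹ * u := by
      simp only [commutatorElement_def]; group
    have h2 : Commute u⁻¹ ⁅u, x⁆ := hZ u hu u⁻¹ (B.inv_mem (hsB hu))
    have h3 : u⁻¹ * ⁅u, x⁆⁻¹ = ⁅u, x⁆⁻¹ * u⁻¹ := h2.inv_right.eq
    rw [h1, h3, inv_mul_cancel_right]
    exact T.inv_mem ihu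

theorem part2 (A B : Subgroup G) (hc : ⁅⁅B, B⁆, A⁆ = ⊥)
    (hii : ⁅⁅B, A⁆, ⁅B, A⁆⁆ ≤ B ⊓ Subgroup.centralizer (B : Set G)) (hDB : ⁅B, A⁆ ≤ B)
    (hAc : IsMulCommutative A) (b : G) (hb : b ∈ B) (s : Set G)
    (hs : s = {g : G | ∃ a ∈ A, g = b⁻¹ * a * b * a⁻¹})
    (hEAA : ⁅⁅Subgroup.closure s, A⁆, A⁆ = ⊥) :
    ∀ w ∈ ⁅Subgroup.closure s, Subgroup.closure s⁆, w ^ 2 = 1 := by
  have hcomm : ∀ a ∈ A, ∀ c ∈ A, a * c = c * a := by
    intro a ha c hc'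
    have h1 := hAc.is_comm.comm ⟨a, ha⟩ ⟨c, hc'⟩
    have h2 : a * c = c * a := congrArg Subtype.val h1
    exact h2
  have hx_mem_s : ∀ a ∈ A, b⁻¹ * a * b * a⁻¹ ∈ s := by
    intro a ha
    rw [hs]
    exact ⟨a, ha, rfl⟩
  have hx_D : ∀ a ∈ A, b⁻¹ * a * b * a⁻¹ ∈ ⁅B, A⁆ := by
    intro a ha
    have h1 : b⁻¹ * a * b * a⁻¹ = ⁅b⁻¹, a⁆ := by rw [commutatorElement_def, inv_inv]
    rw [h1]
    exact Subgroup.commutator_mem_commutator (B.inv_mem hb) ha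
  have hED : Subgroup.closure s ≤ ⁅B, A⁆ := by
    rw [Subgroup.closure_le, hs]
    rintro g ⟨a, ha, rfl⟩
    exact hx_D a ha
  have hEB : Subgroup.closure s ≤ B := hED.trans hDB
  have hF1 : ∀ g ∈ ⁅B, B⁆, ∀ a ∈ A, g * a = a * g := by
    intro g hg a ha
    have h1 : ⁅g, a⁆ ∈ ⁅⁅B, B⁆, A⁆ := Subgroup.commutator_mem_commutator hg ha
    rw [hc, Subgroup.mem_bot] at h1
    exact commutatorElement_eq_one_iff_mul_comm.mp h1
  have hF2 : ∀ f ∈ ⁅Subgroup.closure s, A⁆, ∀ a ∈ A, f * a = a * f := by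
    intro f hf a ha
    have h1 : ⁅f, a⁆ ∈ ⁅⁅Subgroup.closure s, A⁆, A⁆ := Subgroup.commutator_mem_commutator hf ha
    rw [hEAA, Subgroup.mem_bot] at h1
    exact commutatorElement_eq_one_iff_mul_comm.mp h1
  have hFB : ⁅Subgroup.closure s, A⁆ ≤ B := (Subgroup.commutator_mono hEB le_rfl).trans hDB
  have hstep1 : ∀ f ∈ ⁅Subgroup.closure s, A⁆, ∀ a ∈ A,
      f * (b⁻¹ * a * b * a⁻¹) = (b⁻¹ * a * b * a⁻¹) * f := by
    intro f hf a ha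
    apply step1 f b a (hF2 f hf a ha)
    exact hF1 _ (Subgroup.commutator_mem_commutator (hFB hf) hb) a ha
  have hcen : ∀ e₁ ∈ Subgroup.closure s, ∀ e₂ ∈ Subgroup.closure s, ∀ h ∈ B,
      h * ⁅e₁, e₂⁆ = ⁅e₁, e₂⁆ * h := by
    intro e₁ h1 e₂ h2 h hh
    have h3 : ⁅e₁, e₂⁆ ∈ B ⊓ Subgroup.centralizer (B : Set G) :=
      hii (Subgroup.commutator_mem_commutator (hED h1) (hED h2))
    exact Subgroup.mem_centralizer_iff.mp (Subgroup.mem_inf.mp h3).2 h hh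
  have hA : ∀ a ∈ A, ∀ c ∈ A, ⁅b⁻¹ * c * b * c⁻¹, b⁻¹ * a * b * a⁻¹⁆ ^ 2 = 1 := by
    intro a ha c hc'
    obtain ⟨xa, hxa⟩ : ∃ xa, xa = b⁻¹ * a * b * a⁻¹ := ⟨_, rfl⟩
    obtain ⟨xc, hxc⟩ : ∃ xc, xc = b⁻¹ * c * b * c⁻¹ := ⟨_, rfl⟩
    rw [← hxa, ← hxc]
    have hxaE : xa ∈ Subgroup.closure s := by
      rw [hxa]; exact Subgroup.subset_closure (hx_mem_s a ha)
    have hxcE : xc ∈ Subgroup.closure s := by
      rw [hxc]; exact Subgroup.subset_closure (hx_mem_s c hc')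
    obtain ⟨y, hy⟩ : ∃ y, y = xa⁻¹ * (c * xa * c⁻¹) := ⟨_, rfl⟩
    obtain ⟨z, hz⟩ : ∃ z, z = xc⁻¹ * (a * xc * a⁻¹) := ⟨_, rfl⟩
    have hyF : y ∈ ⁅Subgroup.closure s, A⁆ := by
      have h1 : y = ⁅xa⁻¹, c⁆ := by rw [hy, commutatorElement_def, inv_inv]; group
      rw [h1]
      exact Subgroup.commutator_mem_commutator (Subgroup.inv_mem _ hxaE) hc'
    have hzF : z ∈ ⁅Subgroup.closure s, A⁆ := by
      have h1 : z = ⁅xc⁻¹, a⁆ := by rw [hz, commutatorElement_def, inv_inv]; group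
      rw [h1]
      exact Subgroup.commutator_mem_commutator (Subgroup.inv_mem _ hxcE) ha
    have h_cxa : c * xa * c⁻¹ = xa * y := by rw [hy]; group
    have h_axc : a * xc * a⁻¹ = xc * z := by rw [hz]; group
    have h_cb : c * b * c⁻¹ = b * xc := by rw [hxc]; group
    have h_ab : a * b * a⁻¹ = b * xa := by rw [hxa]; group
    have hy_a : Commute y xa := by
      show y * xa = xa * y
      rw [hxa]; exact hstep1 y hyF a ha
    have hy_c : Commute y xc := by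
      show y * xc = xc * y
      rw [hxc]; exact hstep1 y hyF c hc'
    have hz_a : Commute z xa := by
      show z * xa = xa * z
      rw [hxa]; exact hstep1 z hzF a ha
    have hz_c : Commute z xc := by
      show z * xc = xc * z
      rw [hxc]; exact hstep1 z hzF c hc'
    obtain ⟨k, hk⟩ : ∃ k, k = ⁅xc, xa⁆ := ⟨_, rfl⟩
    have hkcen : ∀ h ∈ B, h * k = k * h := by
      intro h hh
      rw [hk]
      exact hcen xc hxcE xa hxaE h hh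
    have hxaB : xa ∈ B := hEB hxaE
    have hxcB : xc ∈ B := hEB hxcE
    have hRy : y * b⁻¹ * y⁻¹ * b = ⁅xc, xa⁆⁻¹ := by
      apply rel_aux b xa xc y c h_cb h_cxa
      · have h1 := hF1 ⁅b, xa⁆ (Subgroup.commutator_mem_commutator hb hxaB) c hc'
        rw [← h1, mul_inv_cancel_right]
      · exact hy_c.inv_right.eq
      · rw [← hk]
        exact (hkcen xa hxaB).symm
    have hRz : z * b⁻¹ * z⁻¹ * b = ⁅xa, xc⁆⁻¹ := by
      apply rel_aux b xc xa z a h_ab h_axc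
      · have h1 := hF1 ⁅b, xc⁆ (Subgroup.commutator_mem_commutator hb hxcB) a ha
        rw [← h1, mul_inv_cancel_right]
      · exact hz_a.inv_right.eq
      · exact (hcen xa hxaE xc hxcE xc hxcB).symm
    have hkeq : ⁅xc, xa⁆ = z * y⁻¹ :=
      comm_eq_aux b a c xa xc y z hxa hxc (hcomm a ha c hc') h_cxa h_axc hy_c hy_a hz_c hz_a
    rw [commutatorElement_inv] at hRz
    rw [← hk] at hRy hRz hkeq ⊢
    exact sq_aux b y z k hkeq hRy hRz (hkcen b hb).symm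
  have hBstage : ∀ a ∈ A, ∀ e ∈ Subgroup.closure s, ⁅e, b⁻¹ * a * b * a⁻¹⁆ ∈ sqOne B := by
    intro a ha
    apply comm_induction B (sqOne B) s (b⁻¹ * a * b * a⁻¹) hEB
    · intro e he h hh
      exact hcen e he _ (Subgroup.subset_closure (hx_mem_s a ha)) h hh
    · intro g hg
      rw [hs] at hg
      obtain ⟨c, hc', rfl⟩ := hg
      exact (mem_sqOne B _).mpr
        ⟨hii (Subgroup.commutator_mem_commutator (hx_D c hc') (hx_D a ha)), hA a ha c hc'⟩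
  have hCstage : ∀ e₁ ∈ Subgroup.closure s, ∀ e₂ ∈ Subgroup.closure s, ⁅e₂, e₁⁆ ∈ sqOne B := by
    intro e₁ h1
    apply comm_induction B (sqOne B) s e₁ hEB
    · intro e he h hh
      exact hcen e he e₁ h1 h hh
    · intro g hg
      rw [hs] at hg
      obtain ⟨a, ha, rfl⟩ := hg
      have h2 := hBstage a ha e₁ h1
      rw [← commutatorElement_inv]
      exact (sqOne B).inv_mem h2
  intro w hw
  have h3 : ⁅Subgroup.closure s, Subgroup.closure s⁆ ≤ sqOne B := by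
    rw [Subgroup.commutator_le]
    intro g₁ h1 g₂ h2
    exact hCstage g₂ h2 g₁ h1
  exact ((mem_sqOne B w).mp (h3 hw)).2

/-- If A acts on B centralizing [B, B], then [B, A] has derived subgroup central in B, and for abelian A and b ∈ B with [[b, A], A, A] = 1 the derived subgroup of the subgroup [b, A] generated by the commutators of b with A has exponent dividing 2. -/
theorem result {G : Type*} [Group G] [Finite G] (A B : Subgroup G) (hAB : A ≤ Subgroup.normalizer (B : Set G)) (hc : ⁅⁅B, B⁆, A⁆ = ⊥) : ⁅⁅B, A⁆, ⁅B, A⁆⁆ ≤ B ⊓ Subgroup.centralizer (B : Set G) ∧ (IsMulCommutative A → ∀ b ∈ B, ⁅⁅(Subgroup.closure {g : G | ∃ a ∈ A, g = b⁻¹ * a * b * a⁻¹}), A⁆, A⁆ = ⊥ → ∀ w ∈ ⁅(Subgroup.closure {g : G | ∃ a ∈ A, g = b⁻¹ * a * b * a⁻¹}), (Subgroup.closure {g : G | ∃ a ∈ A, g = b⁻¹ * a * b * a⁻¹})⁆, w ^ 2 = 1) := by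
  have hDB : ⁅B, A⁆ ≤ B := by
    rw [Subgroup.commutator_le]
    intro g hg a ha
    have h1 : a * g⁻¹ * a⁻¹ ∈ B :=
      (Subgroup.mem_set_normalizer_iff.mp (hAB ha) g⁻¹).mp (B.inv_mem hg)
    have h2 : ⁅g, a⁆ = g * (a * g⁻¹ * a⁻¹) := by simp only [commutatorElement_def]; group
    rw [h2]
    exact B.mul_mem hg h1
  have hBB : ⁅B, B⁆ ≤ B := by
    rw [Subgroup.commutator_le]
    intro g hg h hh
    rw [commutatorElement_def]
    exact B.mul_mem (B.mul_mem (B.mul_mem hg hh) (B.inv_mem hg)) (B.inv_mem hh)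
  have hi : ⁅⁅B, A⁆, ⁅B, B⁆⁆ = ⊥ := by
    apply Subgroup.commutator_commutator_eq_bot_of_rotate
    · rw [Subgroup.commutator_comm A ⁅B, B⁆, hc, Subgroup.commutator_bot_left]
    · rw [eq_bot_iff, ← hc]
      exact Subgroup.commutator_mono (Subgroup.commutator_mono hBB le_rfl) le_rfl
  have hi' : ⁅⁅B, B⁆, ⁅B, A⁆⁆ = ⊥ := by
    rw [Subgroup.commutator_comm]; exact hi
  have hii : ⁅⁅B, A⁆, ⁅B, A⁆⁆ ≤ B ⊓ Subgroup.centralizer (B : Set G) := by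
    apply le_inf
    · exact (Subgroup.commutator_mono hDB hDB).trans hBB
    · rw [← Subgroup.commutator_eq_bot_iff_le_centralizer]
      apply Subgroup.commutator_commutator_eq_bot_of_rotate
      · exact le_bot_iff.mp ((Subgroup.commutator_mono
          (Subgroup.commutator_mono hDB le_rfl) le_rfl).trans hi'.le)
      · exact le_bot_iff.mp ((Subgroup.commutator_mono
          (Subgroup.commutator_mono le_rfl hDB) le_rfl).trans hi'.le)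
  refine ⟨hii, ?_⟩
  intro hAc b hb hEAA w hw
  exact part2 A B hc hii hDB hAc b hb {g : G | ∃ a ∈ A, g = b⁻¹ * a * b * a⁻¹} rfl hEAA w hw

end Cfsg.Agent.S0648
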