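import Cfsg.Statements.S0650
import Mathlib
import Cfsg.Agent.S0648
import Cfsg.Agent.H1.Card
import Cfsg.Agent.Lib.Lead.Conj

set_option autoImplicit false
open Cfsg
open scoped commutatorElement

namespace Cfsg.Agent.S0650

open Cfsg.Agent.Lib.Lead.Conj

section general
variable {G : Type*} [Group G]

theorem conj_mem_of_gens (f : G →* G) (T D : Subgroup G) (s : Set G)
    (hD : ∀ x ∈ D, f x ∈ T) (hs : ∀ x ∈ s, f x ∈ T) :
    ∀ x ∈ D ⊔ Subgroup.closure s, f x ∈ T := by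
  have h : D ⊔ Subgroup.closure s ≤ T.comap f := by
    apply sup_le
    · intro x hx
      rw [Subgroup.mem_comap]
      exact hD x hx
    · rw [Subgroup.closure_le]
      intro x hx
      rw [SetLike.mem_coe, Subgroup.mem_comap]
      exact hs x hx
  intro x hx
  exact Subgroup.mem_comap.mp (h hx)

theorem mul_formula (a a' b : G)
    (hev : ((b⁻¹ * a * b) * a'⁻¹ * (b⁻¹ * a * b)⁻¹ * a') * (b⁻¹ * a' * b)⁻¹ =
      (b⁻¹ * a' * b)⁻¹ * ((b⁻¹ * a * b) * a'⁻¹ * (b⁻¹ * a * b)⁻¹ * a'))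
    (huv : (b⁻¹ * a * b)⁻¹ * (b⁻¹ * a' * b)⁻¹ = (b⁻¹ * a' * b)⁻¹ * (b⁻¹ * a * b)⁻¹) :
    (a * b⁻¹ * a⁻¹ * b) * (a' * b⁻¹ * a'⁻¹ * b) =
      ((a * a') * b⁻¹ * (a * a')⁻¹ * b) * ((b⁻¹ * a * b) * a'⁻¹ * (b⁻¹ * a * b)⁻¹ * a') := by
  obtain ⟨e, he⟩ : ∃ e, e = (b⁻¹ * a * b) * a'⁻¹ * (b⁻¹ * a * b)⁻¹ * a' := ⟨_, rfl⟩
  rw [← he] at hev ⊢
  calc (a * b⁻¹ * a⁻¹ * b) * (a' * b⁻¹ * a'⁻¹ * b)
      = a * a' * (b⁻¹ * a * b)⁻¹ * (e * (b⁻¹ * a' * b)⁻¹) := by rw [he]; group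
    _ = a * a' * (b⁻¹ * a * b)⁻¹ * ((b⁻¹ * a' * b)⁻¹ * e) := by rw [hev]
    _ = a * a' * ((b⁻¹ * a * b)⁻¹ * (b⁻¹ * a' * b)⁻¹) * e := by group
    _ = a * a' * ((b⁻¹ * a' * b)⁻¹ * (b⁻¹ * a * b)⁻¹) * e := by rw [huv]
    _ = ((a * a') * b⁻¹ * (a * a')⁻¹ * b) * e := by group

theorem conj_formula (a a' b : G) (hc : a' * a = a * a') :
    a' * (a * b⁻¹ * a⁻¹ * b) * a'⁻¹ =
      (a * b⁻¹ * a⁻¹ * b) * ((b⁻¹ * a * b) * a' * (b⁻¹ * a * b)⁻¹ * a'⁻¹) := by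
  calc a' * (a * b⁻¹ * a⁻¹ * b) * a'⁻¹ = (a' * a) * (b⁻¹ * a⁻¹ * b * a'⁻¹) := by group
    _ = (a * a') * (b⁻¹ * a⁻¹ * b * a'⁻¹) := by rw [hc]
    _ = (a * b⁻¹ * a⁻¹ * b) * ((b⁻¹ * a * b) * a' * (b⁻¹ * a * b)⁻¹ * a'⁻¹) := by group

theorem pow_mul_comm_class2 (x y c : G) (h : y * x = x * y * c) (hcy : Commute c y) :
    ∀ n : ℕ, y ^ n * x = x * y ^ n * c ^ n := by
  intro n
  induction n with
  | zero => simp
  | succ n ih =>
    have h1 : Commute (c ^ n) y := hcy.pow_left n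
    calc y ^ (n + 1) * x = y ^ n * (y * x) := by rw [pow_succ, mul_assoc]
      _ = y ^ n * (x * y * c) := by rw [h]
      _ = (y ^ n * x) * y * c := by simp only [mul_assoc]
      _ = (x * y ^ n * c ^ n) * y * c := by rw [ih]
      _ = x * y ^ n * (c ^ n * y) * c := by simp only [mul_assoc]
      _ = x * y ^ n * (y * c ^ n) * c := by rw [h1.eq]
      _ = x * (y ^ n * y) * (c ^ n * c) := by simp only [mul_assoc]
      _ = x * y ^ (n + 1) * c ^ (n + 1) := by rw [pow_succ y n, pow_succ c n]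

theorem mul_pow_class2 (x y c : G) (h : y * x = x * y * c) (hcy : Commute c y)
    (hcx : Commute c x) :
    ∀ n : ℕ, ∃ m : ℕ, 2 * m + n = n * n ∧ (x * y) ^ n = x ^ n * y ^ n * c ^ m := by
  intro n
  induction n with
  | zero => exact ⟨0, by norm_num, by simp⟩
  | succ n ih =>
    obtain ⟨m, hm, hpow⟩ := ih
    have harith : 2 * (n + m) + (n + 1) = (n + 1) * (n + 1) := by
      have e : (n + 1) * (n + 1) = n * n + 2 * n + 1 := by ring
      omega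
    refine ⟨n + m, harith, ?_⟩
    have h1 := pow_mul_comm_class2 x y c h hcy n
    have h2 : Commute (c ^ n) y := hcy.pow_left n
    have h3 : Commute (c ^ m) y := hcy.pow_left m
    have h4 : Commute (c ^ m) x := hcx.pow_left m
    calc (x * y) ^ (n + 1) = (x * y) ^ n * (x * y) := pow_succ _ _
      _ = x ^ n * y ^ n * c ^ m * (x * y) := by rw [hpow]
      _ = x ^ n * y ^ n * (c ^ m * x) * y := by simp only [mul_assoc]
      _ = x ^ n * y ^ n * (x * c ^ m) * y := by rw [h4.eq]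
      _ = x ^ n * (y ^ n * x) * (c ^ m * y) := by simp only [mul_assoc]
      _ = x ^ n * (x * y ^ n * c ^ n) * (y * c ^ m) := by rw [h1, h3.eq]
      _ = x ^ n * x * y ^ n * (c ^ n * y) * c ^ m := by simp only [mul_assoc]
      _ = x ^ n * x * y ^ n * (y * c ^ n) * c ^ m := by rw [h2.eq]
      _ = (x ^ n * x) * (y ^ n * y) * (c ^ n * c ^ m) := by simp only [mul_assoc]
      _ = x ^ (n + 1) * y ^ (n + 1) * c ^ (n + m) := by
        rw [pow_succ x n, pow_succ y n, pow_add c n m]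

end general

theorem aux {S : Type*} [Group S] [Finite S] {p : ℕ} [Fact p.Prime] (hS : IsPGroup p S)
    (B : Subgroup S) [B.Normal] (hB2 : p = 2 → IsMulCommutative B) (A : Subgroup S)
    (hA : IsMulCommutative A) (hBA : ⁅B, B⁆ ≤ A)
    (b : S) (hb : b ∈ B)
    (N : Subgroup S) (hN : N = Subgroup.normalizer (A : Set S))
    (hbN : b ∈ Subgroup.normalizer (N : Set S)) (hbA : b ∉ N)
    (A₁ : Subgroup S) (hA₁ : A₁ = A.map (MulAut.conj (b⁻¹)).toMonoidHom)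
    (s : Set S) (hs : s = {g : S | ∃ a ∈ A, g = a * b⁻¹ * a⁻¹ * b})
    (T : Subgroup S) (hT : T = (A ⊓ A₁) ⊔ Subgroup.closure s) :
    Nat.card T = Nat.card A ∧ IsMulCommutative T ∧ ⁅B, B⁆ ≤ T ∧ A ⊓ B < T ⊓ B ∧ T ⊓ B < B ∧
    A ≤ Subgroup.normalizer (T : Set S) ∧ T ≤ N ∧ b ∈ Subgroup.normalizer (T : Set S) ∧
    N < Subgroup.normalizer (T : Set S) ∧ (p ≠ 2 → Monoid.exponent T ∣ Monoid.exponent A) := by
  have hp : p.Prime := Fact.out
  have hBn : B.Normal := inferInstance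
  have hcommA : ∀ a ∈ A, ∀ c ∈ A, a * c = c * a := by
    intro a ha c hc'
    have h1 := hA.is_comm.comm ⟨a, ha⟩ ⟨c, hc'⟩
    have h2 : a * c = c * a := congrArg Subtype.val h1
    exact h2
  have hAleN : A ≤ N := by rw [hN]; exact Subgroup.le_normalizer
  have hAN : ∀ n ∈ N, ∀ x, x ∈ A ↔ n * x * n⁻¹ ∈ A := by
    intro n hn
    rw [hN] at hn
    exact Subgroup.mem_set_normalizer_iff.mp hn
  have hN1 : ∀ n ∈ N, b * n * b⁻¹ ∈ N := fun n hn =>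
    (Subgroup.mem_set_normalizer_iff.mp hbN n).mp hn
  have hN2 : ∀ n ∈ N, b⁻¹ * n * b ∈ N := by
    intro n hn
    apply (Subgroup.mem_set_normalizer_iff.mp hbN (b⁻¹ * n * b)).mpr
    have e : b * (b⁻¹ * n * b) * b⁻¹ = n := by group
    rw [e]; exact hn
  have hmem1 : ∀ x, x ∈ A₁ ↔ b * x * b⁻¹ ∈ A := by
    intro x
    rw [hA₁, mem_map_conj, inv_inv]
  have hcommA1 : ∀ x ∈ A₁, ∀ y ∈ A₁, x * y = y * x := by
    intro x hx y hy
    have h1 := hcommA _ ((hmem1 x).mp hx) _ ((hmem1 y).mp hy)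
    calc x * y = b⁻¹ * (b * x * b⁻¹ * (b * y * b⁻¹)) * b := by group
      _ = b⁻¹ * (b * y * b⁻¹ * (b * x * b⁻¹)) * b := by rw [h1]
      _ = y * x := by group
  have hA1N : A₁ ≤ N := by
    intro x hx
    have h1 : b * x * b⁻¹ ∈ N := hAleN ((hmem1 x).mp hx)
    have h2 := hN2 _ h1
    have e : b⁻¹ * (b * x * b⁻¹) * b = x := by group
    rw [e] at h2; exact h2
  have hNA1 : ∀ n ∈ N, ∀ x ∈ A₁, n * x * n⁻¹ ∈ A₁ := by
    intro n hn x hx
    rw [hmem1]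
    have h1 := (hAN _ (hN1 n hn) _).mp ((hmem1 x).mp hx)
    have e : b * n * b⁻¹ * (b * x * b⁻¹) * (b * n * b⁻¹)⁻¹ = b * (n * x * n⁻¹) * b⁻¹ := by group
    rw [e] at h1; exact h1
  have hσA1 : ∀ a ∈ A, b⁻¹ * a * b ∈ A₁ := by
    intro a ha
    rw [hmem1]
    have e : b * (b⁻¹ * a * b) * b⁻¹ = a := by group
    rw [e]; exact ha
  have hcomD2 : ∀ x ∈ A₁, ∀ a ∈ A, x * a * x⁻¹ * a⁻¹ ∈ A ⊓ A₁ := by
    intro x hx a ha
    refine Subgroup.mem_inf.mpr ⟨?_, ?_⟩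
    · have h1 : x * a * x⁻¹ ∈ A := (hAN x (hA1N hx) a).mp ha
      exact A.mul_mem h1 (A.inv_mem ha)
    · have h1 : a * x⁻¹ * a⁻¹ ∈ A₁ := hNA1 a (hAleN ha) x⁻¹ (A₁.inv_mem hx)
      have e : x * a * x⁻¹ * a⁻¹ = x * (a * x⁻¹ * a⁻¹) := by group
      rw [e]; exact A₁.mul_mem hx h1
  have hHcenD : A ⊔ A₁ ≤ Subgroup.centralizer ((A ⊓ A₁ : Subgroup S) : Set S) := by
    apply sup_le
    · intro a ha
      rw [Subgroup.mem_centralizer_iff]
      intro d hd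
      exact hcommA d (Subgroup.mem_inf.mp (SetLike.mem_coe.mp hd)).1 a ha
    · intro x hx
      rw [Subgroup.mem_centralizer_iff]
      intro d hd
      exact hcommA1 d (Subgroup.mem_inf.mp (SetLike.mem_coe.mp hd)).2 x hx
  have hDcen : ∀ d ∈ A ⊓ A₁, ∀ h ∈ A ⊔ A₁, d * h = h * d := by
    intro d hd h hh
    exact Subgroup.mem_centralizer_iff.mp (hHcenD hh) d hd
  have hBBmem : ∀ x ∈ B, ∀ y ∈ B, x * y * x⁻¹ * y⁻¹ ∈ A := by
    intro x hx y hy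
    have h1 : ⁅x, y⁆ ∈ ⁅B, B⁆ := Subgroup.commutator_mem_commutator hx hy
    rw [commutatorElement_def] at h1
    exact hBA h1
  have hABconj1 : ∀ c ∈ A, c ∈ B → b⁻¹ * c * b ∈ A := by
    intro c hcA hcB
    have h1 := hBBmem c⁻¹ (B.inv_mem hcB) b⁻¹ (B.inv_mem hb)
    have e : b⁻¹ * c * b = c * (c⁻¹ * b⁻¹ * c⁻¹⁻¹ * b⁻¹⁻¹) := by group
    rw [e]; exact A.mul_mem hcA h1
  have hABconj2 : ∀ c ∈ A, c ∈ B → b * c * b⁻¹ ∈ A := by
    intro c hcA hcB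
    have h1 := hBBmem c⁻¹ (B.inv_mem hcB) b hb
    have e : b * c * b⁻¹ = c * (c⁻¹ * b * c⁻¹⁻¹ * b⁻¹) := by group
    rw [e]; exact A.mul_mem hcA h1
  have hABD : A ⊓ B ≤ A ⊓ A₁ := by
    intro c hc
    obtain ⟨hcA, hcB⟩ := Subgroup.mem_inf.mp hc
    exact Subgroup.mem_inf.mpr ⟨hcA, (hmem1 c).mpr (hABconj2 c hcA hcB)⟩
  have hBB_B : ⁅B, B⁆ ≤ B := Subgroup.commutator_le_right B B
  have hBpD : ⁅B, B⁆ ≤ A ⊓ A₁ := (le_inf hBA hBB_B).trans hABD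
  have hBBD : ∀ x ∈ B, ∀ y ∈ B, x * y * x⁻¹ * y⁻¹ ∈ A ⊓ A₁ := by
    intro x hx y hy
    have h1 : ⁅x, y⁆ ∈ ⁅B, B⁆ := Subgroup.commutator_mem_commutator hx hy
    rw [commutatorElement_def] at h1
    exact hBpD h1
  have hDσ : ∀ x ∈ A ⊓ A₁, b⁻¹ * x * b ∈ A ⊓ A₁ := by
    intro x hx
    obtain ⟨hxA, hxA1⟩ := Subgroup.mem_inf.mp hx
    have hy : b * x * b⁻¹ ∈ A := (hmem1 x).mp hxA1
    have hcA : (b * x * b⁻¹)⁻¹ * x ∈ A := A.mul_mem (A.inv_mem hy) hxA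
    have hcB : (b * x * b⁻¹)⁻¹ * x ∈ B := by
      have h1 : x⁻¹ * b⁻¹ * x⁻¹⁻¹ ∈ B := hBn.conj_mem b⁻¹ (B.inv_mem hb) x⁻¹
      have e : (b * x * b⁻¹)⁻¹ * x = b * (x⁻¹ * b⁻¹ * x⁻¹⁻¹) := by group
      rw [e]; exact B.mul_mem hb h1
    have h2 := hABconj1 _ hcA hcB
    refine Subgroup.mem_inf.mpr ⟨?_, ?_⟩
    · have e : b⁻¹ * x * b = x * (b⁻¹ * ((b * x * b⁻¹)⁻¹ * x) * b) := by group
      rw [e]; exact A.mul_mem hxA h2
    · rw [hmem1]
      have e : b * (b⁻¹ * x * b) * b⁻¹ = x := by group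
      rw [e]; exact hxA
  have hbND : b ∈ Subgroup.normalizer ((A ⊓ A₁ : Subgroup S) : Set S) :=
    mem_normalizer_of_conj_mem' _ b hDσ
  have hDσ' : ∀ x ∈ A ⊓ A₁, b * x * b⁻¹ ∈ A ⊓ A₁ := fun x hx =>
    (Subgroup.mem_set_normalizer_iff.mp hbND x).mp hx
  have hmA : ∀ a ∈ A, a * b⁻¹ * a⁻¹ * b ∈ s := by
    intro a ha; rw [hs]; exact ⟨a, ha, rfl⟩
  have hmH : ∀ a ∈ A, a * b⁻¹ * a⁻¹ * b ∈ A ⊔ A₁ := by
    intro a ha
    have h1 : b⁻¹ * a⁻¹ * b ∈ A₁ := hσA1 a⁻¹ (A.inv_mem ha)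
    have e : a * b⁻¹ * a⁻¹ * b = a * (b⁻¹ * a⁻¹ * b) := by group
    rw [e]
    exact Subgroup.mul_mem _ (Subgroup.mem_sup_left ha) (Subgroup.mem_sup_right h1)
  have hmB : ∀ a : S, a * b⁻¹ * a⁻¹ * b ∈ B := by
    intro a
    exact B.mul_mem (hBn.conj_mem b⁻¹ (B.inv_mem hb) a) hb
  have hMH : Subgroup.closure s ≤ A ⊔ A₁ := by
    rw [Subgroup.closure_le, hs]
    rintro g ⟨a, ha, rfl⟩
    exact hmH a ha
  have hMB : Subgroup.closure s ≤ B := by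
    rw [Subgroup.closure_le, hs]
    rintro g ⟨a, ha, rfl⟩
    exact hmB a
  have hDT : A ⊓ A₁ ≤ T := by rw [hT]; exact le_sup_left
  have hMT : Subgroup.closure s ≤ T := by rw [hT]; exact le_sup_right
  have hTH : T ≤ A ⊔ A₁ := by
    rw [hT]; exact sup_le (inf_le_left.trans le_sup_left) hMH
  have hHN : A ⊔ A₁ ≤ N := sup_le hAleN hA1N
  have hTN : T ≤ N := hTH.trans hHN
  have hmT : ∀ a ∈ A, a * b⁻¹ * a⁻¹ * b ∈ T := fun a ha =>
    hMT (Subgroup.subset_closure (hmA a ha))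
  -- `M` is abelian
  have hcommM : ∀ x ∈ Subgroup.closure s, ∀ y ∈ Subgroup.closure s, x * y = y * x := by
    by_cases hp2 : p = 2
    · intro x hx y hy
      have h1 := (hB2 hp2).is_comm.comm ⟨x, hMB hx⟩ ⟨y, hMB hy⟩
      have h2 : x * y = y * x := congrArg Subtype.val h1
      exact h2
    · have hAA : ⁅A, A⁆ = ⊥ := by
        rw [Subgroup.commutator_eq_bot_iff_le_centralizer]
        intro a ha
        rw [Subgroup.mem_centralizer_iff]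
        intro h hh
        exact hcommA h hh a ha
      have hAB' : A ≤ Subgroup.normalizer (B : Set S) := Subgroup.le_normalizer_of_normal
      have hc : ⁅⁅B, B⁆, A⁆ = ⊥ := by
        rw [eq_bot_iff, ← hAA]
        exact Subgroup.commutator_mono hBA le_rfl
      have hcl : Subgroup.closure {g : S | ∃ a ∈ A, g = b⁻¹ * a * b * a⁻¹} =
          Subgroup.closure s := by
        apply le_antisymm
        · rw [Subgroup.closure_le]
          rintro g ⟨a, ha, rfl⟩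
          have h1 : a * b⁻¹ * a⁻¹ * b ∈ Subgroup.closure s :=
            Subgroup.subset_closure (hmA a ha)
          have e : b⁻¹ * a * b * a⁻¹ = (a * b⁻¹ * a⁻¹ * b)⁻¹ := by group
          rw [SetLike.mem_coe, e]; exact Subgroup.inv_mem _ h1
        · rw [Subgroup.closure_le, hs]
          rintro g ⟨a, ha, rfl⟩
          have h1 : b⁻¹ * a * b * a⁻¹ ∈
              Subgroup.closure {g : S | ∃ a ∈ A, g = b⁻¹ * a * b * a⁻¹} :=
            Subgroup.subset_closure ⟨a, ha, rfl⟩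
          have e : a * b⁻¹ * a⁻¹ * b = (b⁻¹ * a * b * a⁻¹)⁻¹ := by group
          rw [SetLike.mem_coe, e]; exact Subgroup.inv_mem _ h1
      have hMA : ⁅Subgroup.closure s, A⁆ ≤ A := by
        rw [Subgroup.commutator_le]
        intro m hm a ha
        have h1 : m * a * m⁻¹ ∈ A := (hAN m (hHN (hMH hm)) a).mp ha
        rw [commutatorElement_def]
        exact A.mul_mem h1 (A.inv_mem ha)
      have hMAA : ⁅⁅Subgroup.closure s, A⁆, A⁆ = ⊥ := by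
        rw [eq_bot_iff, ← hAA]
        exact Subgroup.commutator_mono hMA le_rfl
      have hsq := (Cfsg.Agent.S0648.result A B hAB' hc).2 hA b hb
      rw [hcl] at hsq
      have hsq' := hsq hMAA
      intro x hx y hy
      have h1 : ⁅x, y⁆ ^ 2 = 1 := hsq' _ (Subgroup.commutator_mem_commutator hx hy)
      obtain ⟨k, hk⟩ := hS ⁅x, y⁆
      have hcop : Nat.Coprime 2 (p ^ k) := by
        apply Nat.Coprime.pow_right
        exact (Nat.coprime_primes Nat.prime_two hp).mpr (Ne.symm hp2)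
      have h2 : orderOf ⁅x, y⁆ ∣ 2 := orderOf_dvd_of_pow_eq_one h1
      have h3 : orderOf ⁅x, y⁆ ∣ p ^ k := orderOf_dvd_of_pow_eq_one hk
      have h4 : orderOf ⁅x, y⁆ ∣ 1 := by
        have h5 := Nat.dvd_gcd h2 h3
        rwa [hcop.gcd_eq_one] at h5
      have h5 : ⁅x, y⁆ = 1 := orderOf_eq_one_iff.mp (Nat.dvd_one.mp h4)
      exact commutatorElement_eq_one_iff_mul_comm.mp h5
  -- `T` is abelian
  have hcommT : ∀ x ∈ T, ∀ y ∈ T, x * y = y * x := by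
    intro x hx
    have h1 : ∀ d ∈ A ⊓ A₁, d * x = x * d := fun d hd => hDcen d hd x (hTH hx)
    have h2 : ∀ m ∈ Subgroup.closure s, m * x = x * m := by
      have h3 : T ≤ Subgroup.centralizer ((Subgroup.closure s : Subgroup S) : Set S) := by
        rw [hT]
        apply sup_le
        · intro d hd
          rw [Subgroup.mem_centralizer_iff]
          intro m hm
          exact (hDcen d hd m (hMH hm)).symm
        · intro m' hm'
          rw [Subgroup.mem_centralizer_iff]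
          intro m hm
          exact hcommM m hm m' hm'
      intro m hm
      exact Subgroup.mem_centralizer_iff.mp (h3 hx) m hm
    have h4 : T ≤ Subgroup.centralizer ({x} : Set S) := by
      rw [hT]
      apply sup_le
      · intro d hd
        rw [Subgroup.mem_centralizer_iff]
        intro k hk
        rw [Set.mem_singleton_iff.mp hk]
        exact (h1 d hd).symm
      · intro m hm
        rw [Subgroup.mem_centralizer_iff]
        intro k hk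
        rw [Set.mem_singleton_iff.mp hk]
        exact (h2 m hm).symm
    intro y hy
    exact Subgroup.mem_centralizer_iff.mp (h4 hy) x (Set.mem_singleton x)
  -- normal form
  have hnf : ∀ x ∈ T, ∃ a ∈ A, ∃ d ∈ A ⊓ A₁, x = (a * b⁻¹ * a⁻¹ * b) * d := by
    intro x hx
    have hT' : T = Subgroup.closure (((A ⊓ A₁ : Subgroup S) : Set S) ∪ s) := by
      rw [hT, Subgroup.closure_union, Subgroup.closure_eq]
    rw [hT'] at hx
    induction hx using Subgroup.closure_induction with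
    | mem x hx =>
      rcases hx with hx | hx
      · refine ⟨1, A.one_mem, x, hx, ?_⟩
        simp
      · rw [hs] at hx
        obtain ⟨a, ha, rfl⟩ := hx
        exact ⟨a, ha, 1, Subgroup.one_mem _, (mul_one _).symm⟩
    | one => exact ⟨1, A.one_mem, 1, Subgroup.one_mem _, by simp⟩
    | mul x y hx hy ihx ihy =>
      obtain ⟨a, ha, d, hd, rfl⟩ := ihx
      obtain ⟨a', ha', d', hd', rfl⟩ := ihy
      have hm' : a' * b⁻¹ * a'⁻¹ * b ∈ A ⊔ A₁ := hmH a' ha'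
      have hdc : d * (a' * b⁻¹ * a'⁻¹ * b) = (a' * b⁻¹ * a'⁻¹ * b) * d := hDcen d hd _ hm'
      have hu : b⁻¹ * a * b ∈ A₁ := hσA1 a ha
      have hv : b⁻¹ * a' * b ∈ A₁ := hσA1 a' ha'
      have he : (b⁻¹ * a * b) * a'⁻¹ * (b⁻¹ * a * b)⁻¹ * a' ∈ A ⊓ A₁ := by
        have h1 := hcomD2 _ hu a'⁻¹ (A.inv_mem ha')
        simp only [inv_inv] at h1
        exact h1
      have hev := hDcen _ he (b⁻¹ * a' * b)⁻¹
        (Subgroup.inv_mem _ (Subgroup.mem_sup_right hv))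
      have huv := hcommA1 _ (A₁.inv_mem hu) _ (A₁.inv_mem hv)
      have hmf := mul_formula a a' b hev huv
      refine ⟨a * a', A.mul_mem ha ha', _ * (d * d'),
        Subgroup.mul_mem _ he (Subgroup.mul_mem _ hd hd'), ?_⟩
      calc a * b⁻¹ * a⁻¹ * b * d * (a' * b⁻¹ * a'⁻¹ * b * d')
          = (a * b⁻¹ * a⁻¹ * b) * (d * (a' * b⁻¹ * a'⁻¹ * b)) * d' := by
            simp only [mul_assoc]
        _ = (a * b⁻¹ * a⁻¹ * b) * ((a' * b⁻¹ * a'⁻¹ * b) * d) * d' := by rw [hdc]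
        _ = ((a * b⁻¹ * a⁻¹ * b) * (a' * b⁻¹ * a'⁻¹ * b)) * (d * d') := by
            simp only [mul_assoc]
        _ = ((a * a') * b⁻¹ * (a * a')⁻¹ * b *
              ((b⁻¹ * a * b) * a'⁻¹ * (b⁻¹ * a * b)⁻¹ * a')) * (d * d') := by rw [hmf]
        _ = (a * a') * b⁻¹ * (a * a')⁻¹ * b *
              (((b⁻¹ * a * b) * a'⁻¹ * (b⁻¹ * a * b)⁻¹ * a') * (d * d')) := mul_assoc _ _ _
    | inv x hx ih =>
      obtain ⟨a, ha, d, hd, rfl⟩ := ih
      have hu : b⁻¹ * a * b ∈ A₁ := hσA1 a ha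
      have he : (b⁻¹ * a * b)⁻¹ * a * (b⁻¹ * a * b) * a⁻¹ ∈ A ⊓ A₁ := by
        have h1 := hcomD2 _ (A₁.inv_mem hu) a ha
        simp only [inv_inv] at h1
        exact h1
      have hdc : d⁻¹ * (a * b⁻¹ * a⁻¹ * b)⁻¹ = (a * b⁻¹ * a⁻¹ * b)⁻¹ * d⁻¹ :=
        hDcen d⁻¹ (Subgroup.inv_mem _ hd) _ (Subgroup.inv_mem _ (hmH a ha))
      refine ⟨a⁻¹, A.inv_mem ha, _ * d⁻¹,
        Subgroup.mul_mem _ he (Subgroup.inv_mem _ hd), ?_⟩
      calc (a * b⁻¹ * a⁻¹ * b * d)⁻¹ = d⁻¹ * (a * b⁻¹ * a⁻¹ * b)⁻¹ := mul_inv_rev _ _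
        _ = (a * b⁻¹ * a⁻¹ * b)⁻¹ * d⁻¹ := hdc
        _ = a⁻¹ * b⁻¹ * a⁻¹⁻¹ * b *
              ((b⁻¹ * a * b)⁻¹ * a * (b⁻¹ * a * b) * a⁻¹ * d⁻¹) := by group
  -- intersections and joins with `A`
  have hTA : T ⊓ A = A ⊓ A₁ := by
    apply le_antisymm
    · intro x hx
      obtain ⟨hxT, hxA⟩ := Subgroup.mem_inf.mp hx
      obtain ⟨a, ha, d, hd, hxe⟩ := hnf x hxT
      have hdA : d ∈ A := (Subgroup.mem_inf.mp hd).1
      have hm : a * b⁻¹ * a⁻¹ * b ∈ A := by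
        have e : a * b⁻¹ * a⁻¹ * b = x * d⁻¹ := by rw [hxe]; group
        rw [e]; exact A.mul_mem hxA (A.inv_mem hdA)
      have hw : b⁻¹ * a⁻¹ * b ∈ A ⊓ A₁ := by
        refine Subgroup.mem_inf.mpr ⟨?_, hσA1 a⁻¹ (A.inv_mem ha)⟩
        have e : b⁻¹ * a⁻¹ * b = a⁻¹ * (a * b⁻¹ * a⁻¹ * b) := by group
        rw [e]; exact A.mul_mem (A.inv_mem ha) hm
      have ha' : a⁻¹ ∈ A ⊓ A₁ := by
        have h1 := hDσ' _ hw
        have e : b * (b⁻¹ * a⁻¹ * b) * b⁻¹ = a⁻¹ := by group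
        rw [e] at h1; exact h1
      have haD : a ∈ A ⊓ A₁ := by
        have h1 := Subgroup.inv_mem _ ha'
        rwa [inv_inv] at h1
      have h2 : a * (b⁻¹ * a⁻¹ * b) * d ∈ A ⊓ A₁ :=
        Subgroup.mul_mem _ (Subgroup.mul_mem _ haD hw) hd
      have e : a * (b⁻¹ * a⁻¹ * b) * d = x := by rw [hxe]; group
      rw [e] at h2; exact h2
    · exact le_inf hDT inf_le_left
  have hTsupA : T ⊔ A = A₁ ⊔ A := by
    apply le_antisymm
    · apply sup_le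
      · exact hTH.trans (sup_comm A A₁).le
      · exact le_sup_right
    · apply sup_le
      · intro x hx
        have hxa : b * x * b⁻¹ ∈ A := (hmem1 x).mp hx
        have hm := hmT _ (A.inv_mem hxa)
        have h2 : (b * x * b⁻¹) * ((b * x * b⁻¹)⁻¹ * b⁻¹ * (b * x * b⁻¹)⁻¹⁻¹ * b) ∈ T ⊔ A :=
          Subgroup.mul_mem _ (Subgroup.mem_sup_right hxa) (Subgroup.mem_sup_left hm)
        have e : (b * x * b⁻¹) * ((b * x * b⁻¹)⁻¹ * b⁻¹ * (b * x * b⁻¹)⁻¹⁻¹ * b) = x := by group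
        rw [e] at h2; exact h2
      · exact le_sup_right
  have hcard : Nat.card T = Nat.card A := by
    have h1 := Cfsg.Agent.H1.card_sup_mul_card_inf T A (by rw [← hN]; exact hTN)
    have h2 := Cfsg.Agent.H1.card_sup_mul_card_inf A₁ A (by rw [← hN]; exact hA1N)
    have h3 : A₁ ⊓ A = A ⊓ A₁ := inf_comm _ _
    have h4 : Nat.card A₁ = Nat.card A := by rw [hA₁]; exact card_map_conj A b⁻¹
    rw [hTA, hTsupA] at h1
    rw [h3, h4] at h2
    have h5 : Nat.card T * Nat.card A = Nat.card A * Nat.card A := h1.symm.trans h2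
    exact Nat.eq_of_mul_eq_mul_right Nat.card_pos h5
  have h4 : A ⊓ B < T ⊓ B := by
    rw [SetLike.lt_iff_le_and_exists]
    refine ⟨le_inf (hABD.trans hDT) inf_le_right, ?_⟩
    have hex : ∃ r ∈ A, b⁻¹ * r * b ∉ A := by
      by_contra hcon
      push Not at hcon
      apply hbA
      rw [hN]
      exact mem_normalizer_of_conj_mem' A b hcon
    obtain ⟨r, hr, hrb⟩ := hex
    refine ⟨r⁻¹ * b⁻¹ * r⁻¹⁻¹ * b, Subgroup.mem_inf.mpr ⟨hmT _ (A.inv_mem hr), hmB _⟩, ?_⟩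
    intro hcon
    apply hrb
    have h1 := (Subgroup.mem_inf.mp hcon).1
    have e : b⁻¹ * r * b = r * (r⁻¹ * b⁻¹ * r⁻¹⁻¹ * b) := by group
    rw [e]; exact A.mul_mem hr h1
  have h5 : T ⊓ B < B := by
    rw [SetLike.lt_iff_le_and_exists]
    refine ⟨inf_le_right, b, hb, ?_⟩
    intro hcon
    exact hbA (hTN (Subgroup.mem_inf.mp hcon).1)
  have h6 : A ≤ Subgroup.normalizer (T : Set S) := by
    intro a' ha'
    apply mem_normalizer_of_conj_mem T a'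
    have hD' : ∀ x ∈ A ⊓ A₁, (MulAut.conj a').toMonoidHom x ∈ T := by
      intro x hx
      show a' * x * a'⁻¹ ∈ T
      have h1 : x * a' = a' * x := hDcen x hx a' (Subgroup.mem_sup_left ha')
      rw [← h1, mul_inv_cancel_right]
      exact hDT hx
    have hs' : ∀ x ∈ s, (MulAut.conj a').toMonoidHom x ∈ T := by
      intro x hx
      rw [hs] at hx
      obtain ⟨a, ha, rfl⟩ := hx
      show a' * (a * b⁻¹ * a⁻¹ * b) * a'⁻¹ ∈ T
      rw [conj_formula a a' b (hcommA a' ha' a ha)]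
      have hu := hσA1 a ha
      exact T.mul_mem (hmT a ha) (hDT (hcomD2 _ hu a' ha'))
    intro x hx
    rw [hT] at hx
    exact conj_mem_of_gens _ T _ s hD' hs' x hx
  have h8 : b ∈ Subgroup.normalizer (T : Set S) := by
    apply mem_normalizer_of_conj_mem' T b
    have hD' : ∀ x ∈ A ⊓ A₁, (MulAut.conj b⁻¹).toMonoidHom x ∈ T := by
      intro x hx
      show b⁻¹ * x * b⁻¹⁻¹ ∈ T
      rw [inv_inv]
      exact hDT (hDσ x hx)
    have hs' : ∀ x ∈ s, (MulAut.conj b⁻¹).toMonoidHom x ∈ T := by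
      intro x hx
      show b⁻¹ * x * b⁻¹⁻¹ ∈ T
      rw [inv_inv]
      have hxT : x ∈ T := hMT (Subgroup.subset_closure hx)
      have hxB : x ∈ B := hMB (Subgroup.subset_closure hx)
      have h1 := hBBD x⁻¹ (B.inv_mem hxB) b⁻¹ (B.inv_mem hb)
      simp only [inv_inv] at h1
      have e : b⁻¹ * x * b = x * (x⁻¹ * b⁻¹ * x * b) := by group
      rw [e]
      exact T.mul_mem hxT (hDT h1)
    intro x hx
    rw [hT] at hx
    have h2 := conj_mem_of_gens _ T _ s hD' hs' x hx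
    have h3 : b⁻¹ * x * b⁻¹⁻¹ ∈ T := h2
    rw [inv_inv] at h3
    exact h3
  have h9 : N < Subgroup.normalizer (T : Set S) := by
    rw [SetLike.lt_iff_le_and_exists]
    refine ⟨?_, b, h8, hbA⟩
    intro n hn
    apply mem_normalizer_of_conj_mem T n
    have hD' : ∀ x ∈ A ⊓ A₁, (MulAut.conj n).toMonoidHom x ∈ T := by
      intro x hx
      show n * x * n⁻¹ ∈ T
      obtain ⟨hxA, hxA1⟩ := Subgroup.mem_inf.mp hx
      exact hDT (Subgroup.mem_inf.mpr ⟨(hAN n hn x).mp hxA, hNA1 n hn x hxA1⟩)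
    have hs' : ∀ x ∈ s, (MulAut.conj n).toMonoidHom x ∈ T := by
      intro x hx
      rw [hs] at hx
      obtain ⟨a, ha, rfl⟩ := hx
      show n * (a * b⁻¹ * a⁻¹ * b) * n⁻¹ ∈ T
      have ha2 : n * a * n⁻¹ ∈ A := (hAN n hn a).mp ha
      have ha3 : (b * n * b⁻¹) * a⁻¹ * (b * n * b⁻¹)⁻¹ ∈ A :=
        (hAN _ (hN1 n hn) a⁻¹).mp (A.inv_mem ha)
      have hcA : (n * a * n⁻¹) * ((b * n * b⁻¹) * a⁻¹ * (b * n * b⁻¹)⁻¹) ∈ A :=
        A.mul_mem ha2 ha3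
      have hcB : (n * a * n⁻¹) * ((b * n * b⁻¹) * a⁻¹ * (b * n * b⁻¹)⁻¹) ∈ B := by
        have hβ : (n⁻¹ * b * n⁻¹⁻¹) * b⁻¹ ∈ B :=
          B.mul_mem (hBn.conj_mem b hb n⁻¹) (B.inv_mem hb)
        have h1 : a * ((n⁻¹ * b * n⁻¹⁻¹) * b⁻¹) * a⁻¹ * ((n⁻¹ * b * n⁻¹⁻¹) * b⁻¹)⁻¹ ∈ B :=
          B.mul_mem (hBn.conj_mem _ hβ a) (B.inv_mem hβ)
        have h2 := hBn.conj_mem _ h1 n
        have e : (n * a * n⁻¹) * ((b * n * b⁻¹) * a⁻¹ * (b * n * b⁻¹)⁻¹) =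
            n * (a * ((n⁻¹ * b * n⁻¹⁻¹) * b⁻¹) * a⁻¹ * ((n⁻¹ * b * n⁻¹⁻¹) * b⁻¹)⁻¹) * n⁻¹ := by
          group
        rw [e]; exact h2
      have hσc : b⁻¹ * ((n * a * n⁻¹) * ((b * n * b⁻¹) * a⁻¹ * (b * n * b⁻¹)⁻¹)) * b ∈
          A ⊓ A₁ :=
        Subgroup.mem_inf.mpr ⟨hABconj1 _ hcA hcB, hσA1 _ hcA⟩
      have e : n * (a * b⁻¹ * a⁻¹ * b) * n⁻¹ =
          ((n * a * n⁻¹) * b⁻¹ * (n * a * n⁻¹)⁻¹ * b) *
            (b⁻¹ * ((n * a * n⁻¹) * ((b * n * b⁻¹) * a⁻¹ * (b * n * b⁻¹)⁻¹)) * b) := by group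
      rw [e]
      exact T.mul_mem (hmT _ ha2) (hDT hσc)
    intro x hx
    rw [hT] at hx
    exact conj_mem_of_gens _ T _ s hD' hs' x hx
  have h10 : p ≠ 2 → Monoid.exponent T ∣ Monoid.exponent A := by
    intro hp2
    obtain ⟨e, he⟩ : ∃ e, e = Monoid.exponent A := ⟨_, rfl⟩
    rw [← he]
    have hpowA : ∀ a ∈ A, a ^ e = 1 := by
      intro a ha
      have h1 : (⟨a, ha⟩ : A) ^ Monoid.exponent A = 1 := Monoid.pow_exponent_eq_one _
      have h2 := congrArg Subtype.val h1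
      rw [he]
      simpa using h2
    have hpowA1 : ∀ x ∈ A₁, x ^ e = 1 := by
      intro x hx
      have h1 := hpowA _ ((hmem1 x).mp hx)
      rw [conj_pow] at h1
      exact conj_eq_one_iff.mp h1
    have hodd : Nat.Coprime e 2 := by
      obtain ⟨k, hk⟩ := (hS.to_subgroup A).exists_card_eq
      have h1 : e ∣ p ^ k := by
        rw [he, ← hk]
        exact Group.exponent_dvd_nat_card
      have h2 : Nat.Coprime (p ^ k) 2 := by
        apply Nat.Coprime.pow_left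
        exact (Nat.coprime_primes hp Nat.prime_two).mpr hp2
      exact Nat.Coprime.coprime_dvd_left h1 h2
    have hpowT : ∀ x ∈ T, x ^ e = 1 := by
      intro x hx
      obtain ⟨a, ha, d, hd, rfl⟩ := hnf x hx
      have hw : b⁻¹ * a⁻¹ * b ∈ A₁ := hσA1 a⁻¹ (A.inv_mem ha)
      have hcD : (b⁻¹ * a⁻¹ * b)⁻¹ * a⁻¹ * (b⁻¹ * a⁻¹ * b) * a ∈ A ⊓ A₁ := by
        have h1 := hcomD2 _ (A₁.inv_mem hw) a⁻¹ (A.inv_mem ha)
        simp only [inv_inv] at h1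
        exact h1
      obtain ⟨w, hwdef⟩ : ∃ w, w = b⁻¹ * a⁻¹ * b := ⟨_, rfl⟩
      rw [← hwdef] at hw hcD
      obtain ⟨c, hcdef⟩ : ∃ c, c = w⁻¹ * a⁻¹ * w * a := ⟨_, rfl⟩
      rw [← hcdef] at hcD
      have hwH : w ∈ A ⊔ A₁ := Subgroup.mem_sup_right hw
      have haH : a ∈ A ⊔ A₁ := Subgroup.mem_sup_left ha
      have hcw : Commute c w := hDcen c hcD w hwH
      have hca : Commute c a := hDcen c hcD a haH
      have hrel : w * a = a * w * c := by rw [hcdef]; group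
      obtain ⟨m, hm, hpow⟩ := mul_pow_class2 a w c hrel hcw hca e
      have hem : e ∣ m := by
        have h1 : e ∣ 2 * m + e := by rw [hm]; exact dvd_mul_right e e
        have h2 : e ∣ 2 * m := (Nat.dvd_add_left (dvd_refl e)).mp h1
        exact Nat.Coprime.dvd_of_dvd_mul_left hodd h2
      have hcm : c ^ m = 1 := by
        obtain ⟨t, rfl⟩ := hem
        rw [pow_mul, hpowA c (Subgroup.mem_inf.mp hcD).1, one_pow]
      have hma : (a * b⁻¹ * a⁻¹ * b) ^ e = 1 := by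
        have e1 : a * b⁻¹ * a⁻¹ * b = a * w := by rw [hwdef]; group
        rw [e1, hpow, hpowA a ha, hpowA1 w hw, hcm, one_mul, one_mul]
      have hdm : Commute (a * b⁻¹ * a⁻¹ * b) d := (hDcen d hd _ (hmH a ha)).symm
      rw [hdm.mul_pow, hma, hpowA d (Subgroup.mem_inf.mp hd).1, one_mul]
    apply Monoid.exponent_dvd_of_forall_pow_eq_one
    intro g
    apply Subtype.ext
    rw [Subgroup.coe_pow, Subgroup.coe_one]
    exact hpowT g.1 g.2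
  exact ⟨hcard, ⟨⟨fun x y => Subtype.ext (hcommT x.1 x.2 y.1 y.2)⟩⟩, hBpD.trans hDT, h4, h5, h6,
    hTN, h8, h9, h10⟩

/-- The Glauberman replacement Theorem: from an abelian A ⊇ [B, B] not normalized by the normal subgroup B and a suitable b ∈ B one gets the abelian subgroup A* = (A ∩ b⁻¹Ab)[A, b] of the same order, containing [B, B], meeting B strictly more than A does but not containing B, mutually normalizing with A, with strictly larger normalizer containing b, and (p odd) of no larger exponent. -/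
theorem result {S : Type*} [Group S] [Finite S] {p : ℕ} [Fact p.Prime] (hS : IsPGroup p S) (B : Subgroup S) [B.Normal] (hB2 : p = 2 → IsMulCommutative B) (A : Subgroup S) (hA : IsMulCommutative A) (hBA : ⁅B, B⁆ ≤ A) (hnot : ¬ B ≤ Subgroup.normalizer (A : Set S)) (b : S) (hb : b ∈ B) (hbN : b ∈ Subgroup.normalizer ((Subgroup.normalizer (A : Set S)) : Set S)) (hbA : b ∉ Subgroup.normalizer (A : Set S)) : Nat.card ↥((A ⊓ A.map (MulAut.conj (b⁻¹)).toMonoidHom) ⊔ Subgroup.closure {g : S | ∃ a ∈ A, g = a * b⁻¹ * a⁻¹ * b}) = Nat.card A ∧ IsMulCommutative ↥((A ⊓ A.map (MulAut.conj (b⁻¹)).toMonoidHom) ⊔ Subgroup.closure {g : S | ∃ a ∈ A, g = a * b⁻¹ * a⁻¹ * b}) ∧ ⁅B, B⁆ ≤ ((A ⊓ A.map (MulAut.conj (b⁻¹)).toMonoidHom) ⊔ Subgroup.closure {g : S | ∃ a ∈ A, g = a * b⁻¹ * a⁻¹ * b}) ∧ A ⊓ B < ((A ⊓ A.map (MulAut.conj (b⁻¹)).toMonoidHom) ⊔ Subgroup.closure {g : S | ∃ a ∈ A, g = a * b⁻¹ * a⁻¹ *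 b}) ⊓ B ∧ ((A ⊓ A.map (MulAut.conj (b⁻¹)).toMonoidHom) ⊔ Subgroup.closure {g : S | ∃ a ∈ A, g = a * b⁻¹ * a⁻¹ * b}) ⊓ B < B ∧ A ≤ Subgroup.normalizer (((A ⊓ A.map (MulAut.conj (b⁻¹)).toMonoidHom) ⊔ Subgroup.closure {g : S | ∃ a ∈ A, g = a * b⁻¹ * a⁻¹ * b} : Subgroup S) : Set S) ∧ ((A ⊓ A.map (MulAut.conj (b⁻¹)).toMonoidHom) ⊔ Subgroup.closure {g : S | ∃ a ∈ A, g = a * b⁻¹ * a⁻¹ * b}) ≤ Subgroup.normalizer (A : Set S) ∧ b ∈ Subgroup.normalizer (((A ⊓ A.map (MulAut.conj (b⁻¹)).toMonoidHom) ⊔ Subgroup.closure {g : S | ∃ a ∈ A, g = a * b⁻¹ * a⁻¹ * b} : Subgroup S) : Set S) ∧ Subgroup.normalizer (A : Set S) < Subgroup.normalizer (((A ⊓ A.map (MulAut.conj (b⁻¹)).toMonoidHom) ⊔ Subgroup.closure {g : S | ∃ a ∈ A, g = a * b⁻¹ * a⁻¹ * b} : Subgroup S) : Set S) ∧ (p ≠ 2 → Monoid.exponent ↥((A ⊓ A.map (MulAut.conj (b⁻¹)).toMonoidHom) ⊔ Subgroup.closure {g : S | ∃ a ∈ A, g = a * b⁻¹ * a⁻¹ *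 b}) ∣ Monoid.exponent A) := by
  exact aux hS B hB2 A hA hBA b hb _ rfl hbN hbA _ rfl _ rfl _ rfl

end Cfsg.Agent.S0650
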