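import Cfsg.Statements.S0651
import Mathlib
import Cfsg.Agent.S0649
import Cfsg.Agent.S0650

set_option autoImplicit false
open Cfsg
open scoped commutatorElement

namespace Cfsg.Agent.S0651

theorem card_lt_of_lt {G : Type*} [Group G] [Finite G] {H K : Subgroup G} (h : H < K) :
    Nat.card H < Nat.card K := by
  by_contra hcon
  push Not at hcon
  exact h.ne (Subgroup.eq_of_le_of_card_ge h.le hcon)

/-- iterating the Glauberman replacement theorem inside a family of abelian subgroups of the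
normal subgroup `D` closed under "same order, abelian, exponent not larger" -/
theorem replacement_iter {S : Type*} [Group S] [Finite S] {p : ℕ} [Fact p.Prime]
    (hS : IsPGroup p S) (hp : p ≠ 2) (D : Subgroup S) [D.Normal] (F : Set (Subgroup S))
    (hFD : ∀ A ∈ F, A ≤ D) (hFab : ∀ A ∈ F, IsMulCommutative A)
    (hFcl : ∀ A ∈ F, ∀ T : Subgroup S, T ≤ D → IsMulCommutative T → Nat.card T = Nat.card A →
      Monoid.exponent T ∣ Monoid.exponent A → T ∈ F)
    (B : Subgroup S) [B.Normal]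
    (hU : ∃ U ∈ F, ⁅B, B⁆ ≤ U ∧ ¬ B ≤ U) :
    ∃ A ∈ F, ⁅B, B⁆ ≤ A ∧ ¬ B ≤ A ∧ B ≤ Subgroup.normalizer (A : Set S) := by
  have hDn : D.Normal := inferInstance
  have key : ∀ n : ℕ, ∀ A ∈ F, ⁅B, B⁆ ≤ A → ¬ B ≤ A → Nat.card B - Nat.card ↥(A ⊓ B) = n →
      ∃ A ∈ F, ⁅B, B⁆ ≤ A ∧ ¬ B ≤ A ∧ B ≤ Subgroup.normalizer (A : Set S) := by
    intro n
    induction n using Nat.strong_induction_on with
    | _ n ih =>
      intro A hAF hBA hnB hn
      by_cases hnorm : B ≤ Subgroup.normalizer (A : Set S)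
      · exact ⟨A, hAF, hBA, hnB, hnorm⟩
      · have hAab := hFab A hAF
        have hB2 : p = 2 → IsMulCommutative B := fun h => absurd h hp
        obtain ⟨b, hb, hbN, hbA⟩ := Cfsg.Agent.S0649.result hS B hB2 A hAab hBA hnorm
        have hres := Cfsg.Agent.S0650.result hS B hB2 A hAab hBA hnorm b hb hbN hbA
        obtain ⟨T, hT⟩ : ∃ T, T = (A ⊓ A.map (MulAut.conj (b⁻¹)).toMonoidHom) ⊔
            Subgroup.closure {g : S | ∃ a ∈ A, g = a * b⁻¹ * a⁻¹ * b} := ⟨_, rfl⟩
        rw [← hT] at hres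
        obtain ⟨h1, h2, h3, h4, h5, -, -, -, -, h10⟩ := hres
        have hTD : T ≤ D := by
          rw [hT]
          apply sup_le
          · exact inf_le_left.trans (hFD A hAF)
          · rw [Subgroup.closure_le]
            rintro g ⟨a, ha, rfl⟩
            have haD : a ∈ D := hFD A hAF ha
            have h6 : b⁻¹ * a⁻¹ * b⁻¹⁻¹ ∈ D := hDn.conj_mem a⁻¹ (D.inv_mem haD) b⁻¹
            have e : a * b⁻¹ * a⁻¹ * b = a * (b⁻¹ * a⁻¹ * b⁻¹⁻¹) := by group
            rw [SetLike.mem_coe, e]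
            exact D.mul_mem haD h6
        have hTF : T ∈ F := hFcl A hAF T hTD h2 h1 (h10 hp)
        have hnT : ¬ B ≤ T := by
          intro h
          have h6 : B ≤ T ⊓ B := le_inf h le_rfl
          exact lt_irrefl _ (lt_of_lt_of_le h5 h6)
        have hlt : Nat.card ↥(A ⊓ B) < Nat.card ↥(T ⊓ B) := card_lt_of_lt h4
        have hlt2 : Nat.card ↥(T ⊓ B) < Nat.card B := card_lt_of_lt h5
        exact ih (Nat.card B - Nat.card ↥(T ⊓ B)) (by omega) T hTF h3 hnT rfl
  obtain ⟨U, hUF, hBU, hnU⟩ := hU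
  exact key _ U hUF hBU hnU rfl

/-- transport of cardinalities between `D` and `S` -/
theorem card_transport {S : Type*} [Group S] (D : Subgroup S) (A₀ : Subgroup ↥D)
    (T : Subgroup S) (hTD : T ≤ D) (hcard : Nat.card T = Nat.card ↥(A₀.map D.subtype)) :
    Nat.card ↥(T.subgroupOf D) = Nat.card A₀ := by
  have h1 : Nat.card ↥(T.subgroupOf D) = Nat.card T :=
    Nat.card_congr (Subgroup.subgroupOfEquivOfLe hTD).toEquiv
  have h2 : Nat.card A₀ = Nat.card ↥(A₀.map D.subtype) :=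
    Nat.card_congr (A₀.equivMapOfInjective D.subtype D.subtype_injective).toEquiv
  rw [h1, hcard, h2]

/-- For odd p and D normal in the p-group S, the abelian subgroups of D of largest order satisfy the replacement property: a class-2 normal subgroup B of S with a member containing [B, B] but not B normalizes some such member. -/
theorem result {S : Type*} [Group S] [Finite S] {p : ℕ} [Fact p.Prime] (hS : IsPGroup p S) (hp : p ≠ 2) (D : Subgroup S) [D.Normal] : ∀ (B : Subgroup S) [B.Normal], ⁅⁅B, B⁆, B⁆ = ⊥ → (∃ U ∈ (Set.image (fun A : Subgroup ↥D => A.map D.subtype) (Cfsg.maxAbelianSubgroups ↥D)), ⁅B, B⁆ ≤ U ∧ ¬ B ≤ U) → ∃ A ∈ (Set.image (fun A : Subgroup ↥D => A.map D.subtype) (Cfsg.maxAbelianSubgroups ↥D)), ⁅B, B⁆ ≤ A ∧ ¬ B ≤ A ∧ B ≤ Subgroup.normalizer (A : Set S) := by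
  intro B _ _ hU
  apply replacement_iter hS hp D _ ?_ ?_ ?_ B hU
  · rintro _ ⟨A₀, -, rfl⟩
    exact Subgroup.map_subtype_le A₀
  · rintro _ ⟨A₀, hA₀, rfl⟩
    haveI : IsMulCommutative A₀ := hA₀.1
    exact Subgroup.map_isMulCommutative A₀ D.subtype
  · rintro _ ⟨A₀, hA₀, rfl⟩ T hTD hTab hcard _
    haveI : IsMulCommutative T := hTab
    have hc := card_transport D A₀ T hTD hcard
    refine ⟨T.subgroupOf D, ⟨inferInstance, ?_⟩, Subgroup.map_subgroupOf_eq_of_le hTD⟩
    intro B₀ hB₀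
    rw [hc]
    exact hA₀.2 B₀ hB₀

end Cfsg.Agent.S0651
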