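import Cfsg.Statements.S0653
import Mathlib
import Cfsg.Agent.Lib.Helper4.ZJ

set_option autoImplicit false
open Cfsg
open scoped commutatorElement

namespace Cfsg.Agent.S0653

open Cfsg.Agent.Lib.Helper4.ZJ

section bridge
variable {G : Type*} [Group G]

theorem goodAb : GoodProp (fun A : Subgroup G => IsMulCommutative A) where
  ab := fun _ h => h
  map := fun φ A h => by
    haveI : IsMulCommutative A := h
    exact Subgroup.map_isMulCommutative A φ.toMonoidHom
  bot := by
    refine ⟨⟨fun x y => Subtype.ext ?_⟩⟩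
    show (x : G) * (y : G) = (y : G) * (x : G)
    rw [Subgroup.mem_bot.mp x.2, Subgroup.mem_bot.mp y.2]
  repl := fun _ _ _ hT _ _ => hT

theorem mem_of_commute [Finite G] {P A : Subgroup G}
    (hA : A ∈ fam (fun A : Subgroup G => IsMulCommutative A) P)
    {x : G} (hxP : x ∈ P) (hx : ∀ a ∈ A, a * x = x * a) : x ∈ A := by
  obtain ⟨hAP, hAab, hmax⟩ := mem_fam.mp hA
  have hcommA : ∀ a ∈ A, ∀ c ∈ A, a * c = c * a := by
    intro a ha c hc
    have h1 := hAab.is_comm.comm ⟨a, ha⟩ ⟨c, hc⟩
    have h2 : a * c = c * a := congrArg Subtype.val h1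
    exact h2
  have h1 : A ⊔ Subgroup.zpowers x ≤ Subgroup.centralizer ({x} : Set G) := by
    apply sup_le
    · intro a ha
      rw [Subgroup.mem_centralizer_iff]
      intro k hk
      rw [Set.mem_singleton_iff.mp hk]
      exact (hx a ha).symm
    · rw [Subgroup.zpowers_le, Subgroup.mem_centralizer_iff]
      intro k hk
      rw [Set.mem_singleton_iff.mp hk]
  have h2 : A ⊔ Subgroup.zpowers x ≤ Subgroup.centralizer (A : Set G) := by
    apply sup_le
    · intro a ha
      rw [Subgroup.mem_centralizer_iff]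
      intro c hc
      exact hcommA c hc a ha
    · rw [Subgroup.zpowers_le, Subgroup.mem_centralizer_iff]
      intro a ha
      exact hx a ha
  have hKab : IsMulCommutative ↥(A ⊔ Subgroup.zpowers x) := by
    refine ⟨⟨fun u v => Subtype.ext ?_⟩⟩
    have h3 : A ⊔ Subgroup.zpowers x ≤ Subgroup.centralizer ({(u : G)} : Set G) := by
      apply sup_le
      · intro a ha
        rw [Subgroup.mem_centralizer_iff]
        intro k hk
        rw [Set.mem_singleton_iff.mp hk]
        exact (Subgroup.mem_centralizer_iff.mp (h2 u.2) a ha).symm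
      · rw [Subgroup.zpowers_le, Subgroup.mem_centralizer_iff]
        intro k hk
        rw [Set.mem_singleton_iff.mp hk]
        exact (Subgroup.mem_centralizer_iff.mp (h1 u.2) x (Set.mem_singleton x)).symm
    have h4 := Subgroup.mem_centralizer_iff.mp (h3 v.2) (u : G) (Set.mem_singleton _)
    exact h4
  have hKP : A ⊔ Subgroup.zpowers x ≤ P := sup_le hAP (Subgroup.zpowers_le.mpr hxP)
  have hcard := hmax _ hKP hKab
  have hAK : A = A ⊔ Subgroup.zpowers x := Subgroup.eq_of_le_of_card_ge le_sup_left hcard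
  have h5 : x ∈ A ⊔ Subgroup.zpowers x := Subgroup.mem_sup_right (Subgroup.mem_zpowers x)
  rw [← hAK] at h5
  exact h5

theorem center_eq_zj [Finite G] (P : Subgroup G) :
    Cfsg.centerThompsonAOf P = zj (fun A : Subgroup G => IsMulCommutative A) P := by
  have hg := goodAb (G := G)
  have hinj : Function.Injective P.subtype := P.subtype_injective
  have hB2 : ∀ A₀ ∈ Cfsg.maxAbelianSubgroups ↥P,
      A₀.map P.subtype ∈ fam (fun A : Subgroup G => IsMulCommutative A) P := by
    intro A₀ hA₀
    obtain ⟨hab, hmax⟩ := hA₀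
    haveI : IsMulCommutative A₀ := hab
    refine mem_fam.mpr ⟨Subgroup.map_subtype_le A₀, inferInstance, fun B hB hBab => ?_⟩
    haveI : IsMulCommutative B := hBab
    have h1 := hmax (B.subgroupOf P) inferInstance
    rw [Nat.card_congr (Subgroup.subgroupOfEquivOfLe hB).toEquiv] at h1
    rw [← Nat.card_congr (A₀.equivMapOfInjective P.subtype hinj).toEquiv]
    exact h1
  have hB1 : ∀ A ∈ fam (fun A : Subgroup G => IsMulCommutative A) P,
      A.subgroupOf P ∈ Cfsg.maxAbelianSubgroups ↥P := by
    intro A hA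
    obtain ⟨hAP, hAab, hmax⟩ := mem_fam.mp hA
    haveI : IsMulCommutative A := hAab
    refine ⟨inferInstance, fun B₀ hB₀ => ?_⟩
    haveI : IsMulCommutative B₀ := hB₀
    have h1 := hmax (B₀.map P.subtype) (Subgroup.map_subtype_le B₀) inferInstance
    rw [← Nat.card_congr (B₀.equivMapOfInjective P.subtype hinj).toEquiv] at h1
    rw [Nat.card_congr (Subgroup.subgroupOfEquivOfLe hAP).toEquiv]
    exact h1
  obtain ⟨J, hJ⟩ : ∃ J, J = Cfsg.thompsonSubgroupAOf P := ⟨_, rfl⟩
  have hJdef : J = (sSup (Cfsg.maxAbelianSubgroups ↥P)).map P.subtype := by rw [hJ]; rfl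
  have hAJ : ∀ A ∈ fam (fun A : Subgroup G => IsMulCommutative A) P, A ≤ J := by
    intro A hA
    have h1 := hB1 A hA
    have h2 : (A.subgroupOf P).map P.subtype ≤ J := by
      rw [hJdef]; exact Subgroup.map_mono (le_sSup h1)
    rw [Subgroup.map_subgroupOf_eq_of_le (mem_fam.mp hA).1] at h2
    exact h2
  have hJle : ∀ K : Subgroup G,
      (∀ A ∈ fam (fun A : Subgroup G => IsMulCommutative A) P, A ≤ K) → J ≤ K := by
    intro K hK
    rw [hJdef, Subgroup.map_le_iff_le_comap]
    apply sSup_le
    intro A₀ hA₀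
    rw [← Subgroup.map_le_iff_le_comap]
    exact hK _ (hB2 A₀ hA₀)
  have hJP : J ≤ P := by rw [hJdef]; exact Subgroup.map_subtype_le _
  show Cfsg.thompsonSubgroupAOf P ⊓ Subgroup.centralizer (Cfsg.thompsonSubgroupAOf P : Set G) = _
  rw [← hJ]
  apply le_antisymm
  · intro x hx
    obtain ⟨hxJ, hxC⟩ := Subgroup.mem_inf.mp hx
    unfold zj
    rw [Subgroup.mem_sInf]
    intro A hA
    apply mem_of_commute hA (hJP hxJ)
    intro a ha
    exact Subgroup.mem_centralizer_iff.mp hxC a (hAJ A hA ha)
  · intro x hx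
    unfold zj at hx
    rw [Subgroup.mem_sInf] at hx
    obtain ⟨A, hA⟩ := fam_nonempty hg P
    refine Subgroup.mem_inf.mpr ⟨hAJ A hA (hx A hA), ?_⟩
    have h1 : J ≤ Subgroup.centralizer ({x} : Set G) := by
      apply hJle
      intro A' hA'
      have hab := (mem_fam.mp hA').2.1
      intro a ha
      rw [Subgroup.mem_centralizer_iff]
      intro k hk
      rw [Set.mem_singleton_iff.mp hk]
      have h2 := hab.is_comm.comm ⟨x, hx A' hA'⟩ ⟨a, ha⟩
      have h3 : x * a = a * x := congrArg Subtype.val h2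
      exact h3
    rw [Subgroup.mem_centralizer_iff]
    intro h hh
    exact (Subgroup.mem_centralizer_iff.mp (h1 hh) x (Set.mem_singleton x)).symm

end bridge

/-- Glauberman's ZJ-Theorem: for odd p, if the largest normal p-subgroup of G contains its centralizer and G acts p-stably on every normal p-subgroup, then the centre of the abelian-version Thompson subgroup of a Sylow p-subgroup is a characteristic subgroup of G. -/
theorem result {G : Type*} [Group G] [Finite G] {p : ℕ} [Fact p.Prime] (hp : p ≠ 2) (hc : Subgroup.centralizer (Cfsg.pCore p G : Set G) ≤ Cfsg.pCore p G) (hst : ∀ (P : Subgroup G) [P.Normal], IsPGroup p P → Cfsg.IsPStableOn p P) (S : Sylow p G) : (Cfsg.centerThompsonAOf ((S : Subgroup G))).Characteristic := by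
  rw [center_eq_zj]
  exact zj_characteristic hp hc hst S goodAb

end Cfsg.Agent.S0653
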