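import Cfsg.Statements.S3781
import Mathlib
import Cfsg.Agent.S0651
import Cfsg.Agent.H2.ThreeSubgroups

set_option autoImplicit false
open Cfsg
open scoped commutatorElement

namespace Cfsg.Agent.S3781


set_option linter.unusedVariables false
set_option linter.style.haveILetI false

/-- `X ↦ [X, G]` -/
def cg {Q : Type*} [Group Q] (X : Subgroup Q) : Subgroup Q := ⁅X, (⊤ : Subgroup Q)⁆

theorem cg_normal {Q : Type*} [Group Q] (X : Subgroup Q) [X.Normal] : (cg X).Normal := by
  unfold cg; infer_instance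

theorem iter_normal {Q : Type*} [Group Q] : ∀ (k : ℕ) (X : Subgroup Q) [X.Normal],
    (cg^[k] X).Normal := by
  intro k
  induction k with
  | zero => intro X hX; simpa using hX
  | succ k ih =>
    intro X hX
    rw [Function.iterate_succ_apply]
    haveI := cg_normal X
    exact ih (cg X)

theorem lcs_normal {Q : Type*} [Group Q] (N : Subgroup Q) [hN : N.Normal] :
    ∀ j : ℕ, (N.lowerCentralSeries j).Normal := by
  intro j
  induction j with
  | zero => simpa using hN
  | succ j ih =>
    rw [Subgroup.lowerCentralSeries_succ]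
    haveI := ih
    infer_instance

/-- in a nilpotent group `[M, G] = M` forces `M = 1` -/
theorem eq_bot_of_cg_eq {Q : Type*} [Group Q] [hnil : Group.IsNilpotent Q] (M : Subgroup Q)
    (h : cg M = M) : M = ⊥ := by
  obtain ⟨c, hc⟩ := Subgroup.nilpotent_iff_lowerCentralSeries.mp hnil
  have key : ∀ j : ℕ, M ≤ (⊤ : Subgroup Q).lowerCentralSeries j := by
    intro j
    induction j with
    | zero => simp
    | succ j ih =>
      calc M = ⁅M, (⊤ : Subgroup Q)⁆ := h.symm
        _ ≤ ⁅(⊤ : Subgroup Q).lowerCentralSeries j, (⊤ : Subgroup Q)⁆ :=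
            Subgroup.commutator_mono ih le_rfl
        _ = (⊤ : Subgroup Q).lowerCentralSeries (j + 1) := rfl
  have := key c
  rw [hc] at this
  exact le_bot_iff.mp this

/-- a normal subgroup of order at most `p ^ k` is killed by `k` commutations with `G` -/
theorem iter_eq_bot {Q : Type*} [Group Q] [Finite Q] {p : ℕ} [Fact p.Prime] (hQ : IsPGroup p Q) :
    ∀ (k : ℕ) (M : Subgroup Q) [M.Normal], Nat.card M ≤ p ^ k → cg^[k] M = ⊥ := by
  have hp : p.Prime := Fact.out
  haveI hnil : Group.IsNilpotent Q := hQ.isNilpotent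
  intro k
  induction k with
  | zero =>
    intro M hM hc
    rw [pow_zero] at hc
    rw [Function.iterate_zero, id_eq]
    exact Subgroup.eq_bot_of_card_le M hc
  | succ k ih =>
    intro M hM hc
    rw [Function.iterate_succ_apply]
    haveI := cg_normal M
    apply ih (cg M)
    by_cases hM0 : M = ⊥
    · have : cg M = ⊥ := by rw [hM0]; exact Subgroup.commutator_bot_left _
      rw [this, Subgroup.card_bot]
      exact Nat.one_le_pow _ _ hp.pos
    · have hle : cg M ≤ M := Subgroup.commutator_le_left M ⊤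
      have hne : cg M ≠ M := fun h => hM0 (eq_bot_of_cg_eq M h)
      have hlt : cg M < M := lt_of_le_of_ne hle hne
      obtain ⟨a, ha⟩ := IsPGroup.iff_card.mp (hQ.to_subgroup M)
      obtain ⟨b, hb⟩ := IsPGroup.iff_card.mp (hQ.to_subgroup (cg M))
      have hcl : Nat.card ↥(cg M) < Nat.card ↥M := Cfsg.Agent.S0651.card_lt_of_lt hlt
      rw [ha, hb] at hcl
      have hba : b < a := (Nat.pow_lt_pow_iff_right hp.one_lt).mp hcl
      have h1 : p ^ (b + 1) ≤ p ^ a := Nat.pow_le_pow_right hp.pos hba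
      rw [ha] at hc
      have h2 : p ^ b * p ≤ p ^ k * p := by
        rw [← pow_succ, ← pow_succ]; exact h1.trans hc
      rw [hb]
      exact Nat.le_of_mul_le_mul_right h2 hp.pos

theorem map_iter {G : Type*} [Group G] (L : Subgroup G) [L.Normal] :
    ∀ (k : ℕ) (M : Subgroup G), (cg^[k] M).map (QuotientGroup.mk' L) =
      cg^[k] (M.map (QuotientGroup.mk' L)) := by
  intro k
  induction k with
  | zero => intro M; rfl
  | succ k ih =>
    intro M
    rw [Function.iterate_succ_apply, Function.iterate_succ_apply, ih]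
    congr 1
    unfold cg
    rw [Subgroup.map_commutator, Subgroup.map_top_of_surjective _ (QuotientGroup.mk'_surjective L)]

/-- Lemma A -/
theorem iter_le {G : Type*} [Group G] [Finite G] {p : ℕ} [Fact p.Prime] (hG : IsPGroup p G)
    (M L : Subgroup G) [hM : M.Normal] [hL : L.Normal] (k : ℕ) (h : L.relIndex M ≤ p ^ k) :
    cg^[k] M ≤ L := by
  have hQ : IsPGroup p (G ⧸ L) := hG.to_quotient L
  haveI : (M.map (QuotientGroup.mk' L)).Normal :=
    Subgroup.Normal.map hM _ (QuotientGroup.mk'_surjective L)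
  have hcard : Nat.card ↥(M.map (QuotientGroup.mk' L)) ≤ p ^ k := by
    have h1 := Subgroup.relIndex_ker (K := M) (f := QuotientGroup.mk' L)
    rw [QuotientGroup.ker_mk'] at h1
    rw [← h1]; exact h
  have h2 := iter_eq_bot hQ k (M.map (QuotientGroup.mk' L)) hcard
  rw [← map_iter, Subgroup.map_eq_bot_iff, QuotientGroup.ker_mk'] at h2
  exact h2

/-- Lemma B -/
theorem comm_lcs_le {G : Type*} [Group G] : ∀ (j : ℕ) (M : Subgroup G) [M.Normal],
    ⁅M, (⊤ : Subgroup G).lowerCentralSeries j⁆ ≤ cg^[j + 1] M := by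
  intro j
  induction j with
  | zero =>
    intro M hM
    exact le_rfl
  | succ j ih =>
    intro M hM
    haveI hN : (cg^[j + 1 + 1] M).Normal := iter_normal _ M
    haveI hM1 : (cg M).Normal := cg_normal M
    rw [Subgroup.lowerCentralSeries_succ, Subgroup.commutator_comm]
    apply Cfsg.Agent.H2.commutator_commutator_le_of_rotate
    · -- ⁅⁅⊤, M⁆, Γ j⁆ ≤ N
      have h1 : ⁅(⊤ : Subgroup G), M⁆ = cg M := Subgroup.commutator_comm _ _
      rw [h1]
      have h2 := ih (cg M)
      rw [← Function.iterate_succ_apply] at h2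
      exact h2
    · -- ⁅⁅M, Γ j⁆, ⊤⁆ ≤ N
      have h2 := ih M
      rw [Function.iterate_succ_apply' cg (j + 1) M]
      exact Subgroup.commutator_mono h2 le_rfl

/-- Let G be a finite p-group and n ≥ 1, and write γ_1(G) = G, γ_{k+1}(G) = [γ_k(G), G], and likewise γ_k(N) for a subgroup N. Let N be a normal subgroup of G contained in γ_n(G). If i > 1 and γ_{i+1}(N) ≠ 1, then |γ_i(N) : γ_{i+1}(N)| ≥ p^n. -/
theorem result {G : Type*} [Group G] [Finite G] {p : ℕ} [Fact p.Prime] (hG : IsPGroup p G) (n : ℕ) (hn : 1 ≤ n) (N : Subgroup G) [N.Normal] (hN : N ≤ (⊤ : Subgroup G).lowerCentralSeries (n - 1)) (i : ℕ) (hi : 1 < i) (hne : N.lowerCentralSeries i ≠ ⊥) : p ^ n ≤ (N.lowerCentralSeries i).relIndex (N.lowerCentralSeries (i - 1)) := by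
  have hp : p.Prime := Fact.out
  haveI hnil : Group.IsNilpotent G := hG.isNilpotent
  obtain ⟨j, rfl⟩ : ∃ j, i = j + 1 := ⟨i - 1, by omega⟩
  rw [Nat.add_sub_cancel]
  haveI hMn : (N.lowerCentralSeries j).Normal := lcs_normal N j
  haveI hLn : (N.lowerCentralSeries (j + 1)).Normal := lcs_normal N (j + 1)
  by_contra hcon
  push Not at hcon
  -- the index is a power of p
  obtain ⟨a, ha⟩ := IsPGroup.iff_card.mp (hG.to_subgroup (N.lowerCentralSeries j))
  have hdvd : (N.lowerCentralSeries (j + 1)).relIndex (N.lowerCentralSeries j) ∣ p ^ a :=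
    ha ▸ Subgroup.relIndex_dvd_card _ _
  obtain ⟨k, -, hk⟩ := (Nat.dvd_prime_pow hp).mp hdvd
  rw [hk] at hcon
  have hkn : k < n := (Nat.pow_lt_pow_iff_right hp.one_lt).mp hcon
  have hA : cg^[k] (N.lowerCentralSeries j) ≤ N.lowerCentralSeries (j + 1) :=
    iter_le hG _ _ k (le_of_eq hk)
  have hNk : N ≤ (⊤ : Subgroup G).lowerCentralSeries k :=
    hN.trans (Subgroup.lowerCentralSeries_antitone _ (by omega))
  have h1 : N.lowerCentralSeries (j + 1) ≤ cg (N.lowerCentralSeries (j + 1)) := by
    calc N.lowerCentralSeries (j + 1) = ⁅N.lowerCentralSeries j, N⁆ := rfl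
      _ ≤ ⁅N.lowerCentralSeries j, (⊤ : Subgroup G).lowerCentralSeries k⁆ :=
          Subgroup.commutator_mono le_rfl hNk
      _ ≤ cg^[k + 1] (N.lowerCentralSeries j) := comm_lcs_le k _
      _ = cg (cg^[k] (N.lowerCentralSeries j)) := Function.iterate_succ_apply' cg k _
      _ ≤ cg (N.lowerCentralSeries (j + 1)) := Subgroup.commutator_mono hA le_rfl
  have h2 : cg (N.lowerCentralSeries (j + 1)) = N.lowerCentralSeries (j + 1) :=
    le_antisymm (Subgroup.commutator_le_left _ _) h1
  exact hne (eq_bot_of_cg_eq _ h2)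

end Cfsg.Agent.S3781
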