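import Cfsg.Statements.S0655
import Mathlib
import Cfsg.Agent.H1.ElemAbelian

set_option autoImplicit false
open Cfsg

namespace Cfsg.Agent.S0655

set_option autoImplicit false
open scoped Pointwise commutatorElement
open Cfsg.Agent.H1

/-- In a p-group the intersection of all elementary abelian subgroups of largest order is the subgroup generated by the elements of order dividing p in the centre (equivalently the centralizer) of the elementary-version Thompson subgroup. -/
theorem result {S : Type*} [Group S] [Finite S] {p : ℕ} [Fact p.Prime] (hS : IsPGroup p S) : sInf (Cfsg.maxElementaryAbelianSubgroups p S) = Cfsg.omegaCenterThompson p S ∧ Cfsg.omegaCenterThompson p S = Cfsg.omegaOne p (Subgroup.centralizer (Cfsg.thompsonSubgroup p S : Set S)) := by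
  -- the family is nonempty
  have hne : ∃ A : Subgroup S, A ∈ Cfsg.maxElementaryAbelianSubgroups p S := by
    have hfin : Finite {B : Subgroup S // Cfsg.IsElementaryAbelian p B} := inferInstance
    have hnonempty : Nonempty {B : Subgroup S // Cfsg.IsElementaryAbelian p B} :=
      ⟨⟨⊥, ⟨inferInstance, fun a ha => by rw [Subgroup.mem_bot.mp ha, one_pow]⟩⟩⟩
    obtain ⟨A, hA⟩ := Finite.exists_max (fun B : {B : Subgroup S // Cfsg.IsElementaryAbelian p B} => Nat.card B.1)
    exact ⟨A.1, A.2, fun B hB => hA ⟨B, hB⟩⟩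
  -- step (i)
  have h1 : Cfsg.omegaOne p (Subgroup.centralizer (Cfsg.thompsonSubgroup p S : Set S)) ≤
      sInf (Cfsg.maxElementaryAbelianSubgroups p S) := by
    unfold Cfsg.omegaOne
    rw [Subgroup.closure_le]
    rintro x ⟨hxC, hxp⟩
    rw [SetLike.mem_coe, Subgroup.mem_sInf]
    intro A hA
    have hAJ : A ≤ Cfsg.thompsonSubgroup p S := le_sSup hA
    have hxA : x ∈ Subgroup.centralizer (A : Set S) := Subgroup.centralizer_le (by exact_mod_cast hAJ) hxC
    have hB := isElementaryAbelian_sup_zpowers p A hA.1 x hxA hxp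
    have hcard := hA.2 _ hB
    have heq : A = A ⊔ Subgroup.zpowers x := Subgroup.eq_of_le_of_card_ge le_sup_left hcard
    rw [heq]
    exact Subgroup.mem_sup_right (Subgroup.mem_zpowers x)
  have h2 : sInf (Cfsg.maxElementaryAbelianSubgroups p S) ≤ Cfsg.omegaCenterThompson p S := by
    intro x hx
    rw [Subgroup.mem_sInf] at hx
    unfold Cfsg.omegaCenterThompson Cfsg.omegaOne
    apply Subgroup.subset_closure
    obtain ⟨A₀, hA₀⟩ := hne
    refine ⟨Subgroup.mem_inf.mpr ⟨le_sSup hA₀ (hx A₀ hA₀), ?_⟩, hA₀.1.2 x (hx A₀ hA₀)⟩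
    -- x centralizes J
    have : Cfsg.thompsonSubgroup p S ≤ Subgroup.centralizer ({x} : Set S) := by
      apply sSup_le
      intro A hA y hy
      rw [Subgroup.mem_centralizer_singleton_iff]
      have := hA.1.1.is_comm.comm (⟨y, hy⟩ : A) ⟨x, hx A hA⟩
      exact congrArg Subtype.val this
    rw [Subgroup.mem_centralizer_iff]
    intro y hy
    have := this hy
    rw [Subgroup.mem_centralizer_singleton_iff] at this
    exact this
  have h3 : Cfsg.omegaCenterThompson p S ≤ Cfsg.omegaOne p (Subgroup.centralizer (Cfsg.thompsonSubgroup p S : Set S)) := by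
    unfold Cfsg.omegaCenterThompson Cfsg.omegaOne
    apply Subgroup.closure_mono
    rintro x ⟨hx1, hx2⟩
    exact ⟨(Subgroup.mem_inf.mp hx1).2, hx2⟩
  exact ⟨le_antisymm h2 (h3.trans h1), le_antisymm h3 (h1.trans h2)⟩

end Cfsg.Agent.S0655
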