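import Cfsg.Statements.S0654
import Mathlib
import Cfsg.Agent.Lib.Helper4.ZJ
import Cfsg.Agent.S0655

set_option autoImplicit false
open Cfsg
open scoped commutatorElement

namespace Cfsg.Agent.S0654

open Cfsg.Agent.Lib.Helper4.ZJ

section bridge
variable {G : Type*} [Group G]

theorem goodEl (p : ℕ) : GoodProp (fun A : Subgroup G => Cfsg.IsElementaryAbelian p A) where
  ab := fun _ h => h.1
  map := fun φ A h => by
    haveI : IsMulCommutative A := h.1
    refine ⟨Subgroup.map_isMulCommutative A φ.toMonoidHom, ?_⟩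
    rintro _ ⟨a, ha, rfl⟩
    show (φ a) ^ p = 1
    rw [← map_pow, h.2 a ha, map_one]
  bot := by
    refine ⟨⟨⟨fun x y => Subtype.ext ?_⟩⟩, fun a ha => ?_⟩
    · show (x : G) * (y : G) = (y : G) * (x : G)
      rw [Subgroup.mem_bot.mp x.2, Subgroup.mem_bot.mp y.2]
    · rw [Subgroup.mem_bot.mp ha, one_pow]
  repl := fun A T hA hT _ hexp => by
    refine ⟨hT, fun t ht => ?_⟩
    have hAexp : Monoid.exponent A ∣ p := by
      apply Monoid.exponent_dvd_of_forall_pow_eq_one
      intro g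
      apply Subtype.ext
      rw [Subgroup.coe_pow, Subgroup.coe_one]
      exact hA.2 g.1 g.2
    obtain ⟨k, hk⟩ := dvd_trans hexp hAexp
    have h1 : (⟨t, ht⟩ : T) ^ Monoid.exponent T = 1 := Monoid.pow_exponent_eq_one _
    have h2 : t ^ Monoid.exponent T = 1 := by
      have h3 := congrArg Subtype.val h1
      simpa using h3
    calc t ^ p = t ^ (Monoid.exponent T * k) := by rw [← hk]
      _ = 1 := by rw [pow_mul, h2, one_pow]

theorem elem_map {p : ℕ} (P : Subgroup G) (A₀ : Subgroup ↥P)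
    (h : Cfsg.IsElementaryAbelian p A₀) : Cfsg.IsElementaryAbelian p (A₀.map P.subtype) := by
  obtain ⟨hab, hpow⟩ := h
  haveI : IsMulCommutative A₀ := hab
  refine ⟨inferInstance, ?_⟩
  rintro _ ⟨a, ha, rfl⟩
  have h1 := hpow a ha
  have h2 : ((a ^ p : ↥P) : G) = ((1 : ↥P) : G) := congrArg Subtype.val h1
  rw [Subgroup.coe_pow, Subgroup.coe_one] at h2
  exact h2

theorem elem_subgroupOf {p : ℕ} (P A : Subgroup G)
    (h : Cfsg.IsElementaryAbelian p A) : Cfsg.IsElementaryAbelian p (A.subgroupOf P) := by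
  haveI : IsMulCommutative A := h.1
  refine ⟨inferInstance, ?_⟩
  intro b hb
  apply Subtype.ext
  rw [Subgroup.coe_pow, Subgroup.coe_one]
  exact h.2 _ (Subgroup.mem_subgroupOf.mp hb)

theorem omega_eq_zj [Finite G] {p : ℕ} [Fact p.Prime] (P : Subgroup G) (hP : IsPGroup p P) :
    (Cfsg.omegaCenterThompson p ↥P).map P.subtype =
      zj (fun A : Subgroup G => Cfsg.IsElementaryAbelian p A) P := by
  have hg := goodEl (G := G) p
  rw [← (Cfsg.Agent.S0655.result hP).1]
  have hinj : Function.Injective P.subtype := P.subtype_injective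
  have hB2 : ∀ A₀ ∈ Cfsg.maxElementaryAbelianSubgroups p ↥P,
      A₀.map P.subtype ∈ fam (fun A : Subgroup G => Cfsg.IsElementaryAbelian p A) P := by
    intro A₀ hA₀
    obtain ⟨hel₀, hmax⟩ := hA₀
    refine mem_fam.mpr ⟨Subgroup.map_subtype_le A₀, elem_map P A₀ hel₀, fun B hB hBel => ?_⟩
    have h1 := hmax (B.subgroupOf P) (elem_subgroupOf P B hBel)
    rw [Nat.card_congr (Subgroup.subgroupOfEquivOfLe hB).toEquiv] at h1
    rw [← Nat.card_congr (A₀.equivMapOfInjective P.subtype hinj).toEquiv]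
    exact h1
  have hB1 : ∀ A ∈ fam (fun A : Subgroup G => Cfsg.IsElementaryAbelian p A) P,
      A.subgroupOf P ∈ Cfsg.maxElementaryAbelianSubgroups p ↥P := by
    intro A hA
    obtain ⟨hAP, hAel, hmax⟩ := mem_fam.mp hA
    refine ⟨elem_subgroupOf P A hAel, fun B₀ hB₀ => ?_⟩
    have h1 := hmax (B₀.map P.subtype) (Subgroup.map_subtype_le B₀) (elem_map P B₀ hB₀)
    rw [← Nat.card_congr (B₀.equivMapOfInjective P.subtype hinj).toEquiv] at h1
    rw [Nat.card_congr (Subgroup.subgroupOfEquivOfLe hAP).toEquiv]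
    exact h1
  ext x
  unfold zj
  rw [Subgroup.mem_sInf]
  constructor
  · intro hx A hA
    obtain ⟨y, hy, rfl⟩ := Subgroup.mem_map.mp hx
    have h1 : y ∈ A.subgroupOf P := (Subgroup.mem_sInf.mp hy) _ (hB1 A hA)
    exact Subgroup.mem_subgroupOf.mp h1
  · intro hx
    obtain ⟨A, hA⟩ := fam_nonempty hg P
    have hxP : x ∈ P := (mem_fam.mp hA).1 (hx A hA)
    refine Subgroup.mem_map.mpr ⟨⟨x, hxP⟩, ?_, rfl⟩
    rw [Subgroup.mem_sInf]
    intro A₀ hA₀
    obtain ⟨y, hy, hyx⟩ := Subgroup.mem_map.mp (hx _ (hB2 A₀ hA₀))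
    have hyx' : y = ⟨x, hxP⟩ := Subtype.ext hyx
    rw [← hyx']; exact hy

end bridge

/-- The ZJ-Theorem for the elementary-abelian Thompson subgroup: for an odd prime p, a finite group G with C_G(O_p(G)) ≤ O_p(G) acting p-stably on its normal p-subgroups, and a Sylow p-subgroup S of G, the subgroup generated by the elements of order dividing p in Z(J_e(S)) is characteristic in G. -/
theorem result {G : Type*} [Group G] [Finite G] {p : ℕ} [Fact p.Prime] (hp : p ≠ 2) (hc : Subgroup.centralizer (Cfsg.pCore p G : Set G) ≤ Cfsg.pCore p G) (hst : ∀ (P : Subgroup G) [P.Normal], IsPGroup p P → Cfsg.IsPStableOn p P) (S : Sylow p G) : ((Cfsg.omegaCenterThompson p ↥(S : Subgroup G)).map (S : Subgroup G).subtype).Characteristic := by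
  rw [omega_eq_zj _ S.isPGroup']
  exact zj_characteristic hp hc hst S (goodEl p)

end Cfsg.Agent.S0654
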