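import Cfsg.Statements.S0039
import Cfsg.Agent.Lib.Lead.TISylow

set_option autoImplicit false
open Cfsg

namespace Cfsg.Agent.S0039

open Cfsg.Agent.Lib.Lead.TISylow
open scoped Pointwise



/-- In a finite group that is a semidirect product of a normal subgroup K by a nontrivial subgroup H, H is a Frobenius complement exactly when each nonidentity element of H acts without nonidentity fixed points on K by conjugation. -/
theorem result {G : Type*} [Group G] [Finite G] (K H : Subgroup G) [K.Normal]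
    (hc : Subgroup.IsComplement' K H) (hK : K ≠ ⊥) (hH : H ≠ ⊥) :
    Cfsg.IsFrobeniusComplement H ↔ ∀ h ∈ H, h ≠ 1 → K ⊓ Subgroup.centralizer {h} = ⊥ := by
  have hdisj : K ⊓ H = ⊥ := disjoint_iff.1 hc.disjoint
  have hsup : K ⊔ H = ⊤ := hc.sup_eq_top
  constructor
  · rintro ⟨-, -, hF⟩ h hh hh1
    rw [eq_bot_iff]
    rintro x ⟨hxK, hxC⟩
    rw [Subgroup.mem_bot]
    by_contra hx1
    have hxH : x ∉ H := by
      intro hxH
      have : x ∈ K ⊓ H := ⟨hxK, hxH⟩
      rw [hdisj, Subgroup.mem_bot] at this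
      exact hx1 this
    have h0 := hF x hxH
    have hxC' : x * h = h * x := Subgroup.mem_centralizer_singleton_iff.1 hxC
    have h1 : h ∈ MulAut.conj x • H := by
      rw [mem_conj_smul]
      have e : x⁻¹ * h * x = h := by rw [mul_assoc, ← hxC']; group
      rw [e]; exact hh
    have : h ∈ H ⊓ MulAut.conj x • H := ⟨hh, h1⟩
    rw [h0, Subgroup.mem_bot] at this
    exact hh1 this
  · intro hfpf
    refine ⟨hH, ?_, ?_⟩
    · intro htop
      apply hK
      rw [← hdisj, htop, inf_top_eq]
    · intro g hg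
      rw [eq_bot_iff]
      rintro y ⟨hyH, hyg⟩
      rw [Subgroup.mem_bot]
      by_contra hy1
      have hgtop : g ∈ K ⊔ H := by rw [hsup]; exact Subgroup.mem_top g
      obtain ⟨k, hk, h₀, hh₀, rfl⟩ := Subgroup.mem_sup_of_normal_left.1 hgtop
      have hk1 : k ≠ 1 := by
        rintro rfl
        apply hg
        rw [one_mul]; exact hh₀
      have hyH : y ∈ H := hyH
      have hyg : y ∈ MulAut.conj (k * h₀) • H := hyg
      rw [mem_conj_smul] at hyg
      -- y' = k⁻¹ y k ∈ H
      have hy' : k⁻¹ * y * k ∈ H := by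
        have : k⁻¹ * y * k = h₀ * ((k * h₀)⁻¹ * y * (k * h₀)) * h₀⁻¹ := by group
        rw [this]
        exact H.mul_mem (H.mul_mem hh₀ hyg) (H.inv_mem hh₀)
      have hK' : y * (k⁻¹ * y * k)⁻¹ ∈ K := by
        have : y * (k⁻¹ * y * k)⁻¹ = (y * k⁻¹ * y⁻¹) * k := by group
        rw [this]
        exact K.mul_mem (‹K.Normal›.conj_mem _ (K.inv_mem hk) y) hk
      have hH' : y * (k⁻¹ * y * k)⁻¹ ∈ H := H.mul_mem hyH (H.inv_mem hy')
      have h1 : y * (k⁻¹ * y * k)⁻¹ ∈ K ⊓ H := ⟨hK', hH'⟩
      rw [hdisj, Subgroup.mem_bot] at h1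
      have hcomm : k * y = y * k := by
        have : y = k⁻¹ * y * k := by
          have := mul_inv_eq_one.1 h1
          exact this
        calc k * y = k * (k⁻¹ * y * k) := by rw [← this]
          _ = y * k := by group
      have hkC : k ∈ K ⊓ Subgroup.centralizer {y} :=
        ⟨hk, Subgroup.mem_centralizer_singleton_iff.2 hcomm⟩
      rw [hfpf y hyH hy1, Subgroup.mem_bot] at hkC
      exact hk1 hkC

end Cfsg.Agent.S0039
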