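import Cfsg.Statements.S0041
import Cfsg.Agent.Lib.Lead.Avg
import Cfsg.Agent.Lib.Lead.ConjAut
import Cfsg.Agent.Lib.Helper7.CoprimeGen3

set_option autoImplicit false
open Cfsg

namespace Cfsg.Agent.S0041

open Cfsg.Agent.Lib.Lead.Avg Cfsg.Agent.Lib.Lead.ConjAut
open scoped IsMulCommutative

section
variable {G : Type*} [Group G] [Finite G] (A V : Subgroup G) [IsMulCommutative V]
  (hAV : A ≤ Subgroup.normalizer (V : Set G))

/-- the conjugation action of `A` on `V` -/
noncomputable def act : ↥A →* MulAut ↥V := (conjAut V).comp (Subgroup.inclusion hAV)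

omit [Finite G] [IsMulCommutative ↥V] in
theorem act_coe (a : ↥A) (v : ↥V) : ((act A V hAV a v : ↥V) : G) = (a : G) * v * (a : G)⁻¹ := rfl

omit [Finite G] [IsMulCommutative ↥V] in
theorem fix_eq_one (hfpf : ∀ a ∈ A, a ≠ 1 → V ⊓ Subgroup.centralizer {a} = ⊥) (a : ↥A)
    (ha : a ≠ 1) (w : ↥V) (hw : act A V hAV a w = w) : w = 1 := by
  have h1 : (a : G) ≠ 1 := fun h => ha (Subtype.ext h)
  have h3 : (w : G) ∈ Subgroup.centralizer {(a : G)} := by
    rw [Subgroup.mem_centralizer_singleton_iff]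
    have := congrArg Subtype.val hw
    rw [act_coe] at this
    calc (w : G) * a = ((a : G) * w * (a : G)⁻¹) * a := by rw [this]
      _ = a * w := by group
  have h2 : (w : G) ∈ V ⊓ Subgroup.centralizer {(a : G)} := ⟨w.2, h3⟩
  rw [hfpf a a.2 h1, Subgroup.mem_bot] at h2
  exact Subtype.ext h2

include hAV in
theorem no_pgroup (hfpf : ∀ a ∈ A, a ≠ 1 → V ⊓ Subgroup.centralizer {a} = ⊥) {r : ℕ}
    [hr : Fact r.Prime] (c : ↥A) (hc1 : c ≠ 1) (hcr : c ^ r = 1) (hrV : r ∣ Nat.card ↥V) : False := by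
  set f := act A V hAV c with hf
  have hfr : f ^ r = 1 := by rw [hf, ← map_pow, hcr, map_one]
  have hZ : IsPGroup r ↥(Subgroup.zpowers f) := by
    rw [IsPGroup.iff_card]
    have : orderOf f ∣ r := orderOf_dvd_of_pow_eq_one hfr
    rcases (Nat.dvd_prime hr.out).1 this with h | h
    · exact ⟨0, by rw [Nat.card_zpowers, h, pow_zero]⟩
    · exact ⟨1, by rw [Nat.card_zpowers, h, pow_one]⟩
  have h1fix : (1 : ↥V) ∈ MulAction.fixedPoints ↥(Subgroup.zpowers f) ↥V := by
    intro z
    show (z : MulAut ↥V) (1 : ↥V) = 1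
    exact map_one _
  obtain ⟨b, hb, hb1⟩ := hZ.exists_fixed_point_of_prime_dvd_card_of_fixed_point ↥V hrV h1fix
  have : f b = b := hb ⟨f, Subgroup.mem_zpowers f⟩
  exact hb1 (fix_eq_one A V hAV hfpf c hc1 b this).symm

include hAV in
theorem abelian_case (hV : V ≠ ⊥) (hfpf : ∀ a ∈ A, a ≠ 1 → V ⊓ Subgroup.centralizer {a} = ⊥)
    (hcommA : ∀ x y : ↥A, x * y = y * x) (hnc : ¬ IsCyclic ↥A) : False := by
  classical
  haveI : Fintype ↥A := Fintype.ofFinite _
  obtain ⟨p, hpp, a, b, hap, hbp, hb1, hab⟩ :=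
    Cfsg.Agent.Lib.Helper7.exists_prime_rank_two_of_not_isCyclic hcommA hnc
  haveI : Fact p.Prime := ⟨hpp⟩
  set φ := act A V hAV with hφ
  have hfix := fix_eq_one A V hAV hfpf
  have hcyc : ∀ c : ↥A, c ≠ 1 → c ^ p = 1 → ∀ w : ↥V, ∏ i : ZMod p, φ (c ^ i.val) w = 1 := by
    intro c hc1 hcp w
    exact hfix c hc1 _ (map_cyc_norm φ hcp w)
  have hpow : ∀ w : ↥V, w ^ p = 1 := by
    intro w
    have key := Cfsg.Agent.Lib.Helper7.prod_lines_identity (p := p)
      (fun i j : ZMod p => φ (a ^ i.val * b ^ j.val) w)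
    have e1 : ∀ k : ZMod p, ∏ i : ZMod p, φ (a ^ i.val * b ^ (k * i).val) w = 1 := by
      intro k
      have hc1 : a * b ^ k.val ≠ 1 := hab k.val
      have hcm : Commute a (b ^ k.val) := hcommA _ _
      have hcp : (a * b ^ k.val) ^ p = 1 := by
        rw [hcm.mul_pow, hap, ← pow_mul, mul_comm, pow_mul, hbp, one_pow, one_mul]
      have := hcyc _ hc1 hcp w
      rw [← this]
      apply Finset.prod_congr rfl
      intro i _
      rw [hcm.mul_pow, Cfsg.Agent.Lib.Helper7.pow_val_mul hbp]
    have e2 : ∏ j : ZMod p, φ (a ^ (0 : ZMod p).val * b ^ j.val) w = 1 := by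
      have := hcyc b hb1 hbp w
      rw [← this]
      apply Finset.prod_congr rfl
      intro j _
      rw [ZMod.val_zero, pow_zero, one_mul]
    have e3 : ∏ i : ZMod p, ∏ j : ZMod p, φ (a ^ i.val * b ^ j.val) w = 1 := by
      have hi : ∀ i : ZMod p, ∏ j : ZMod p, φ (a ^ i.val * b ^ j.val) w = 1 := by
        intro i
        have h := hcyc b hb1 hbp w
        have : ∏ j : ZMod p, φ (a ^ i.val * b ^ j.val) w
            = φ (a ^ i.val) (∏ j : ZMod p, φ (b ^ j.val) w) := by
          rw [map_prod]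
          apply Finset.prod_congr rfl
          intro j _
          rw [map_mul, MulAut.mul_apply]
        rw [this, h, map_one]
      rw [Finset.prod_congr rfl (fun i _ => hi i), Finset.prod_const_one]
    have e4 : φ (a ^ (0 : ZMod p).val * b ^ (0 : ZMod p).val) w = w := by
      rw [ZMod.val_zero, pow_zero, pow_zero, one_mul, map_one, MulAut.one_apply]
    beta_reduce at key
    rw [Finset.prod_congr rfl (fun k _ => e1 k), Finset.prod_const_one, e2, e3, e4, mul_one,
      mul_one] at key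
    exact key.symm
  have hVp : IsPGroup p ↥V := fun w => ⟨1, by rw [pow_one]; exact hpow w⟩
  haveI : Nontrivial ↥V := (Subgroup.nontrivial_iff_ne_bot V).2 hV
  obtain ⟨n, hn0, hn⟩ := hVp.nontrivial_iff_card.1 inferInstance
  have hdvd : p ∣ Nat.card ↥V := by rw [hn]; exact dvd_pow_self p hn0.ne'
  exact no_pgroup A V hAV hfpf b hb1 hbp hdvd

include hAV in
theorem pq_case (hV : V ≠ ⊥) (hfpf : ∀ a ∈ A, a ≠ 1 → V ⊓ Subgroup.centralizer {a} = ⊥)
    {p q : ℕ} (hp : p.Prime) (hq : q.Prime) (hpq : p < q)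
    (hcard : Nat.card ↥A = p * q) (hnc : ¬ IsCyclic ↥A) : False := by
  classical
  haveI : Fact p.Prime := ⟨hp⟩
  haveI : Fact q.Prime := ⟨hq⟩
  haveI : Fintype ↥A := Fintype.ofFinite _
  haveI : Fintype (Sylow p ↥A) := Fintype.ofFinite _
  set φ := act A V hAV with hφ
  have hfix := fix_eq_one A V hAV hfpf
  have hpne : p ≠ q := hpq.ne
  have hfp : (p * q).factorization p = 1 := by
    rw [Nat.factorization_mul hp.ne_zero hq.ne_zero, Finsupp.add_apply, hp.factorization_self,
      Nat.factorization_eq_zero_of_not_dvd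
        (fun h => hpne ((Nat.prime_dvd_prime_iff_eq hp hq).1 h)), add_zero]
  have hfq : (p * q).factorization q = 1 := by
    rw [Nat.factorization_mul hp.ne_zero hq.ne_zero, Finsupp.add_apply, hq.factorization_self,
      Nat.factorization_eq_zero_of_not_dvd
        (fun h => hpne ((Nat.prime_dvd_prime_iff_eq hq hp).1 h).symm), zero_add]
  have hcP : ∀ P : Sylow p ↥A, Nat.card ↥(P : Subgroup ↥A) = p := by
    intro P; rw [P.card_eq_multiplicity, hcard, hfp, pow_one]
  have hcQ : ∀ Q : Sylow q ↥A, Nat.card ↥(Q : Subgroup ↥A) = q := by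
    intro Q; rw [Q.card_eq_multiplicity, hcard, hfq, pow_one]
  obtain ⟨Q⟩ : Nonempty (Sylow q ↥A) := inferInstance
  have hQidx : (Q : Subgroup ↥A).index = p := by
    have := (Q : Subgroup ↥A).card_mul_index
    rw [hcQ Q, hcard, mul_comm p q] at this
    exact Nat.eq_of_mul_eq_mul_left hq.pos this
  have hnq : Nat.card (Sylow q ↥A) = 1 := by
    have h1 : Nat.card (Sylow q ↥A) ∣ p := hQidx ▸ Q.card_dvd_index
    have h2 : Nat.card (Sylow q ↥A) ≡ 1 [MOD q] := card_sylow_modEq_one q ↥A
    rcases (Nat.dvd_prime hp).1 h1 with h | h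
    · exact h
    · exfalso
      rw [h] at h2
      have : p % q = 1 % q := h2
      rw [Nat.mod_eq_of_lt hpq, Nat.mod_eq_of_lt hq.one_lt] at this
      exact hp.one_lt.ne' this
  have hQuniq : ∀ Q' : Sylow q ↥A, Q' = Q := by
    intro Q'
    haveI : Subsingleton (Sylow q ↥A) := (Nat.card_eq_one_iff_unique.1 hnq).1
    exact Subsingleton.elim _ _
  set B : Option (Sylow p ↥A) → Subgroup ↥A :=
    fun o => o.elim (Q : Subgroup ↥A) (fun P => (P : Subgroup ↥A)) with hB
  have hord : ∀ a : ↥A, a ≠ 1 → orderOf a = p ∨ orderOf a = q := by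
    intro a ha
    have hd : orderOf a ∣ p * q := hcard ▸ orderOf_dvd_natCard a
    have h1 : orderOf a ≠ 1 := fun h => ha (orderOf_eq_one_iff.1 h)
    have hpq' : orderOf a ≠ p * q :=
      fun h => hnc (isCyclic_of_orderOf_eq_card a (h.trans hcard.symm))
    rcases (Nat.dvd_prime hp).1 (Nat.gcd_dvd_right (orderOf a) p) with hg | hg
    · have : orderOf a ∣ q := (Nat.Coprime.dvd_mul_left hg).1 hd
      rcases (Nat.dvd_prime hq).1 this with h | h
      · exact absurd h h1
      · exact Or.inr h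
    · have hpd : p ∣ orderOf a := hg ▸ Nat.gcd_dvd_left _ _
      obtain ⟨d, hd'⟩ := hpd
      rw [hd'] at hd
      have : d ∣ q := Nat.dvd_of_mul_dvd_mul_left hp.pos hd
      rcases (Nat.dvd_prime hq).1 this with h | h
      · left; rw [hd', h, mul_one]
      · exact absurd (by rw [hd', h]) hpq'
  have hpart : ∀ a : ↥A, a ≠ 1 → ∃! i, a ∈ B i := by
    intro a ha
    have hz : ∀ (H : Subgroup ↥A), a ∈ H → Nat.card ↥H = orderOf a → H = Subgroup.zpowers a := by
      intro H haH hc
      symm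
      apply Subgroup.eq_of_le_of_card_ge (Subgroup.zpowers_le.2 haH)
      rw [Nat.card_zpowers, hc]
    have hdvd : ∀ (H : Subgroup ↥A), a ∈ H → orderOf a ∣ Nat.card ↥H := by
      intro H haH
      have := orderOf_dvd_natCard (⟨a, haH⟩ : ↥H)
      rwa [Subgroup.orderOf_mk] at this
    rcases hord a ha with ho | ho
    · have hzp : IsPGroup p ↥(Subgroup.zpowers a) :=
        IsPGroup.of_card (n := 1) (by rw [Nat.card_zpowers, ho, pow_one])
      obtain ⟨P₀, hP₀⟩ := hzp.exists_le_sylow
      refine ⟨some P₀, hP₀ (Subgroup.mem_zpowers a), ?_⟩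
      intro i hi
      cases i with
      | none =>
        exfalso
        have := hdvd (Q : Subgroup ↥A) hi
        rw [ho, hcQ Q] at this
        exact hpne ((Nat.prime_dvd_prime_iff_eq hp hq).1 this)
      | some P =>
        congr 1
        apply Sylow.ext
        have hi' : a ∈ (P : Subgroup ↥A) := hi
        rw [hz (P : Subgroup ↥A) hi' (by rw [hcP, ho]),
          hz (P₀ : Subgroup ↥A) (hP₀ (Subgroup.mem_zpowers a)) (by rw [hcP, ho])]
    · have hzq : IsPGroup q ↥(Subgroup.zpowers a) :=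
        IsPGroup.of_card (n := 1) (by rw [Nat.card_zpowers, ho, pow_one])
      obtain ⟨Q₀, hQ₀⟩ := hzq.exists_le_sylow
      rw [hQuniq Q₀] at hQ₀
      refine ⟨none, hQ₀ (Subgroup.mem_zpowers a), ?_⟩
      intro i hi
      cases i with
      | none => rfl
      | some P =>
        exfalso
        have := hdvd (P : Subgroup ↥A) hi
        rw [ho, hcP P] at this
        exact hpne ((Nat.prime_dvd_prime_iff_eq hq hp).1 this).symm
  have hnorm : ∀ i, ∀ w : ↥V, normOn φ (B i) w = 1 := by
    intro i w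
    have hc : 1 < Nat.card ↥(B i) := by
      cases i with
      | none =>
        show 1 < Nat.card ↥(Q : Subgroup ↥A)
        rw [hcQ]; exact hq.one_lt
      | some P =>
        show 1 < Nat.card ↥(P : Subgroup ↥A)
        rw [hcP]; exact hp.one_lt
    haveI : Nontrivial ↥(B i) := Finite.one_lt_card_iff_nontrivial.1 hc
    obtain ⟨b, hb⟩ := exists_ne (1 : ↥(B i))
    exact hfix b (fun h => hb (Subtype.ext h)) _ (map_normOn φ (B i) b.2 w)
  obtain ⟨c, hc⟩ := exists_prime_orderOf_dvd_card' (G := ↥A) q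
    (by rw [hcard]; exact dvd_mul_left q p)
  have hc1 : c ≠ 1 := by
    rintro rfl
    rw [orderOf_one] at hc
    exact hq.one_lt.ne hc
  have hcq : c ^ q = 1 := by rw [← hc]; exact pow_orderOf_eq_one c
  have havg : ∀ w : ↥V, avg φ w = 1 := fun w => hfix c hc1 _ (map_avg φ c w)
  have hpow : ∀ w : ↥V, w ^ q = 1 := by
    intro w
    have key := partition_identity φ B hpart w
    rw [Finset.prod_congr rfl (fun i _ => hnorm i w), Finset.prod_const_one, one_mul, havg,
      mul_one, Fintype.card_option, pow_succ] at key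
    have h1 : w ^ Fintype.card (Sylow p ↥A) = 1 := by
      have : 1 * w = w ^ Fintype.card (Sylow p ↥A) * w := by rw [one_mul]; exact key
      exact (mul_right_cancel this).symm
    obtain ⟨P⟩ : Nonempty (Sylow p ↥A) := inferInstance
    have hPidx : (P : Subgroup ↥A).index = q := by
      have := (P : Subgroup ↥A).card_mul_index
      rw [hcP P, hcard] at this
      exact Nat.eq_of_mul_eq_mul_left hp.pos this
    have hdq : Nat.card (Sylow p ↥A) ∣ q := hPidx ▸ P.card_dvd_index
    rw [Nat.card_eq_fintype_card] at hdq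
    obtain ⟨t, ht⟩ := hdq
    rw [ht, pow_mul, h1, one_pow]
  have hVp : IsPGroup q ↥V := fun w => ⟨1, by rw [pow_one]; exact hpow w⟩
  haveI : Nontrivial ↥V := (Subgroup.nontrivial_iff_ne_bot V).2 hV
  obtain ⟨n, hn0, hn⟩ := hVp.nontrivial_iff_card.1 inferInstance
  have hdvd : q ∣ Nat.card ↥V := by rw [hn]; exact dvd_pow_self q hn0.ne'
  exact no_pgroup A V hAV hfpf c hc1 hcq hdvd

end

/-- A group acting on a nontrivial abelian group so that no nonidentity element has a nonidentity fixed point is cyclic, provided it is abelian or its order is a product of two (possibly equal) primes. -/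
theorem result {G : Type*} [Group G] [Finite G] (A V : Subgroup G) [IsMulCommutative V]
    (hV : V ≠ ⊥) (hAV : A ≤ Subgroup.normalizer (V : Set G)) (hfpf : ∀ a ∈ A, a ≠ 1 → V ⊓ Subgroup.centralizer {a} = ⊥)
    (hA : IsMulCommutative A ∨ ∃ p q : ℕ, p.Prime ∧ q.Prime ∧ Nat.card A = p * q) : IsCyclic A := by
  classical
  by_contra hnc
  rcases hA with hab | ⟨p, q, hp, hq, hcard⟩
  · exact abelian_case A V hAV hV hfpf (fun x y => IsMulCommutative.is_comm.comm x y) hnc
  · rcases lt_trichotomy p q with h | h | h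
    · exact pq_case A V hAV hV hfpf hp hq h hcard hnc
    · subst h
      haveI : Fact p.Prime := ⟨hp⟩
      haveI hcomm : IsMulCommutative ↥A :=
        IsPGroup.isMulCommutative_of_card_eq_prime_sq (p := p) (by rw [hcard, pow_two])
      exact abelian_case A V hAV hV hfpf (fun x y => IsMulCommutative.is_comm.comm x y) hnc
    · exact pq_case A V hAV hV hfpf hq hp h (by rw [hcard, mul_comm]) hnc

end Cfsg.Agent.S0041
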