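import Cfsg.Statements.S0042
import Mathlib
import Cfsg.Prelude.Def_Transfer
import Cfsg.Prelude.Def_PLocal
import Cfsg.Agent.S0659
import Cfsg.Agent.Lib.Helper4.GTZJ
import Cfsg.Agent.Lib.Helper4.Nilpotent
import Cfsg.Agent.Lib.Lead.NormalPComplement
import Cfsg.Agent.Lib.Lead.Conj
import Cfsg.Agent.H2.ConjMap
import Cfsg.Agent.S0035
import Cfsg.Prelude.Def_Solvable
import Cfsg.Agent.H1.Splitting

set_option autoImplicit false
open Cfsg

namespace Cfsg.Agent.S0042

set_option autoImplicit false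
open H1
open scoped Pointwise

/-- In a finite Frobenius group, the Frobenius kernel is (the carrier of) a normal subgroup which is nilpotent. -/
theorem result {G : Type*} [Group G] [Finite G] (H : Subgroup G) (hH : Cfsg.IsFrobeniusComplement H) :
    ∃ N : Subgroup G, (N : Set G) = Cfsg.frobeniusKernel H ∧ N.Normal ∧ Group.IsNilpotent N := by
  obtain ⟨N, hNk, hNn, -⟩ := Cfsg.Agent.S0035.result H hH
  refine ⟨N, hNk, hNn, ?_⟩
  haveI := hNn
  obtain ⟨hH1, hH2, hH3⟩ := hH
  -- an element of prime order in `H`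
  obtain ⟨r, hr, hrd⟩ : ∃ r, r.Prime ∧ r ∣ Nat.card ↥H := by
    apply Nat.exists_prime_and_dvd
    intro h1
    exact hH1 (Subgroup.card_eq_one.mp h1)
  haveI : Fact r.Prime := ⟨hr⟩
  obtain ⟨h, hh⟩ := exists_prime_orderOf_dvd_card' r hrd
  have hh1 : (h : G) ≠ 1 := by
    intro h1
    have h2 : h = 1 := Subtype.ext h1
    rw [h2, orderOf_one] at hh
    exact hr.one_lt.ne hh
  have hhr : (h : G) ^ r = 1 := by
    have h1 : h ^ r = 1 := by rw [← hh]; exact pow_orderOf_eq_one h
    have h2 := congrArg Subtype.val h1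
    rw [Subgroup.coe_pow] at h2
    exact h2
  have hα : (MulAut.conjNormal (h : G) : MulAut ↥N) ^ r = 1 := by
    rw [← map_pow, hhr, map_one]
  apply splits_isNilpotent hr _ (splits_of_fixedPointFree (MulAut.conjNormal (h : G) : MulAut ↥N) hα ?_)
  intro n hn
  by_contra hn1
  have hnG : (n : G) ≠ 1 := fun h1 => hn1 (Subtype.ext h1)
  have hnk : (n : G) ∈ Cfsg.frobeniusKernel H := by rw [← hNk]; exact n.2
  have hnH : (n : G) ∉ H := by
    rcases hnk with h1 | h1
    · exact absurd h1 hnG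
    · have h2 := h1 1
      intro h3
      apply h2
      rw [map_one, one_smul]
      exact h3
  have hcomm : (h : G) * n * (h : G)⁻¹ = n := by
    have h1 := congrArg Subtype.val hn
    rw [MulAut.conjNormal_apply] at h1
    exact h1
  have hmem : (h : G) ∈ H ⊓ (MulAut.conj (n : G) • H) := by
    rw [Subgroup.mem_inf]
    refine ⟨h.2, ?_⟩
    rw [Cfsg.Agent.H2.mem_conj_smul_iff]
    have e : (n : G)⁻¹ * (h : G) * n = h := by
      calc (n : G)⁻¹ * (h : G) * n = (n : G)⁻¹ * ((h : G) * n * (h : G)⁻¹) * h := by group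
        _ = h := by rw [hcomm]; group
    rw [e]; exact h.2
  rw [hH3 n hnH, Subgroup.mem_bot] at hmem
  exact hh1 hmem

end Cfsg.Agent.S0042
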