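import Cfsg.Statements.S0068
import Mathlib


set_option autoImplicit false
open Cfsg

namespace Cfsg.Agent.S0068

theorem inverts {G : Type*} [Group G] [Finite G] (K H : Subgroup G) [hKn : K.Normal]
    (hfpf : ∀ h ∈ H, h ≠ 1 → K ⊓ Subgroup.centralizer {h} = ⊥) {t : G} (ht : t ∈ H)
    (hot : orderOf t = 2) : ∀ k ∈ K, t * k * t⁻¹ = k⁻¹ := by
  have ht1 : t ≠ 1 := by
    rintro rfl
    rw [orderOf_one] at hot
    omega
  have ht2 : t * t = 1 := by
    have := pow_orderOf_eq_one t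
    rwa [hot, pow_two] at this
  have htinv : t⁻¹ = t := inv_eq_of_mul_eq_one_left ht2
  set f : ↥K → ↥K := fun k => ⟨(k : G)⁻¹ * (t * k * t⁻¹), K.mul_mem (K.inv_mem k.2) (hKn.conj_mem k k.2 t)⟩
    with hf
  have hinj : Function.Injective f := by
    intro k k' hkk
    have h1 : (k : G)⁻¹ * (t * k * t⁻¹) = (k' : G)⁻¹ * (t * k' * t⁻¹) := congrArg Subtype.val hkk
    have h2 : ((k' : G) * (k : G)⁻¹) * t = t * ((k' : G) * (k : G)⁻¹) := by
      have e1 : ((k' : G) * (k : G)⁻¹) * t = (k' : G) * ((k : G)⁻¹ * (t * k * t⁻¹)) * t * (k : G)⁻¹ := by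
        group
      rw [e1, h1]; group
    have h3 : (k' : G) * (k : G)⁻¹ ∈ K ⊓ Subgroup.centralizer {t} :=
      ⟨K.mul_mem k'.2 (K.inv_mem k.2), Subgroup.mem_centralizer_singleton_iff.2 h2⟩
    rw [hfpf t ht ht1, Subgroup.mem_bot] at h3
    apply Subtype.ext
    exact (mul_inv_eq_one.1 h3).symm
  have hsurj : Function.Surjective f := Finite.injective_iff_surjective.1 hinj
  intro x hx
  obtain ⟨k, hk⟩ := hsurj ⟨x, hx⟩
  have hx' : x = (k : G)⁻¹ * (t * k * t⁻¹) := (congrArg Subtype.val hk).symm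
  rw [hx', htinv]
  have e1 : t * ((k : G)⁻¹ * (t * ↑k * t)) * t = t * (k : G)⁻¹ * t * k * (t * t) := by group
  have e2 : ((k : G)⁻¹ * (t * ↑k * t))⁻¹ = t⁻¹ * (k : G)⁻¹ * t⁻¹ * k := by group
  rw [e1, e2, ht2, htinv, mul_one]

/-- Frobenius complements of even order: if H complements a nontrivial normal subgroup K, each nonidentity element of H has trivial centraliser in K, and H has even order, then H contains a unique involution s, K is abelian, and s inverts every element of K. -/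
theorem result {G : Type*} [Group G] [Finite G] (K H : Subgroup G) [K.Normal]
    (hc : Subgroup.IsComplement' K H) (hK : K ≠ ⊥) (hfpf : ∀ h ∈ H, h ≠ 1 → K ⊓ Subgroup.centralizer {h} = ⊥)
    (heven : 2 ∣ Nat.card H) :
    (∃ s ∈ H, orderOf s = 2 ∧ (∀ t ∈ H, orderOf t = 2 → t = s) ∧ ∀ k ∈ K, s * k * s⁻¹ = k⁻¹) ∧ IsMulCommutative K := by
  classical
  have hdisj : K ⊓ H = ⊥ := disjoint_iff.1 hc.disjoint
  obtain ⟨s', hs'⟩ := exists_prime_orderOf_dvd_card' (G := ↥H) 2 heven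
  have hs : (s' : G) ∈ H := s'.2
  have hos : orderOf (s' : G) = 2 := by rw [Subgroup.orderOf_coe]; exact hs'
  have hinv := inverts K H hfpf hs hos
  obtain ⟨k₀, hk₀, hk₀1⟩ : ∃ k ∈ K, k ≠ 1 := by
    by_contra h
    push Not at h
    exact hK (eq_bot_iff.2 fun x hx => Subgroup.mem_bot.2 (h x hx))
  refine ⟨⟨s', hs, hos, ?_, hinv⟩, ?_⟩
  · intro t ht hot
    have hinvt := inverts K H hfpf ht hot
    by_contra hne
    have hne' : (s' : G) * t⁻¹ ≠ 1 := by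
      intro h
      apply hne
      exact (mul_inv_eq_one.1 h).symm
    have hmem : (s' : G) * t⁻¹ ∈ H := H.mul_mem hs (H.inv_mem ht)
    have hcomm : k₀ * ((s' : G) * t⁻¹) = ((s' : G) * t⁻¹) * k₀ := by
      have h1 : t⁻¹ * k₀ * t = k₀⁻¹ := by
        have := hinvt k₀⁻¹ (K.inv_mem hk₀)
        rw [inv_inv] at this
        calc t⁻¹ * k₀ * t = t⁻¹ * (t * k₀⁻¹ * t⁻¹) * t := by rw [this]
          _ = k₀⁻¹ := by group
      have h2 := hinv k₀⁻¹ (K.inv_mem hk₀)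
      rw [inv_inv] at h2
      have h3 : ((s' : G) * t⁻¹) * k₀ * ((s' : G) * t⁻¹)⁻¹ = k₀ := by
        calc ((s' : G) * t⁻¹) * k₀ * ((s' : G) * t⁻¹)⁻¹ = (s' : G) * (t⁻¹ * k₀ * t) * (s' : G)⁻¹ := by group
          _ = k₀ := by rw [h1, h2]
      calc k₀ * ((s' : G) * t⁻¹) = (((s' : G) * t⁻¹) * k₀ * ((s' : G) * t⁻¹)⁻¹) * ((s' : G) * t⁻¹) := by rw [h3]
        _ = ((s' : G) * t⁻¹) * k₀ := by group
    have : k₀ ∈ K ⊓ Subgroup.centralizer {(s' : G) * t⁻¹} :=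
      ⟨hk₀, Subgroup.mem_centralizer_singleton_iff.2 hcomm⟩
    rw [hfpf _ hmem hne', Subgroup.mem_bot] at this
    exact hk₀1 this
  · refine ⟨⟨?_⟩⟩
    rintro ⟨x, hx⟩ ⟨y, hy⟩
    apply Subtype.ext
    show x * y = y * x
    have h1 := hinv (x * y) (K.mul_mem hx hy)
    have h2 := hinv x hx
    have h3 := hinv y hy
    have h4 : (s' : G) * (x * y) * (s' : G)⁻¹ = ((s' : G) * x * (s' : G)⁻¹) * ((s' : G) * y * (s' : G)⁻¹) := by
      group
    rw [h4, h2, h3, mul_inv_rev] at h1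
    have h5 : (x⁻¹ * y⁻¹)⁻¹ = (y⁻¹ * x⁻¹)⁻¹ := by rw [h1]
    rw [mul_inv_rev, mul_inv_rev, inv_inv, inv_inv] at h5
    exact h5.symm

end Cfsg.Agent.S0068
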