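import Mathlib
import Cfsg.Statements.S3769
import Cfsg.Agent.H2.HHe
import Cfsg.Agent.H1.CoprimeSylow
import Cfsg.Agent.H1.Card

set_option autoImplicit false
open Cfsg
open scoped commutatorElement

namespace Cfsg.Agent.S3769

/-- Let G and V be subgroups of a finite group with G solvable of odd order normalizing V, V an elementary abelian ℓ-group for a prime ℓ not dividing the order of G, and suppose G has a normal Hall subgroup K with a complement R of prime order. If C_V(R) = 1, then [R, K] centralizes V. -/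
theorem result {X : Type*} [Group X] [Finite X] (G : Subgroup X) (hsolv : Group.IsSolvable G) (hodd : Odd (Nat.card G)) (V : Subgroup X) {ℓ : ℕ} (hℓ : ℓ.Prime) (hV : Cfsg.IsElementaryAbelian ℓ V) (hℓG : ¬ ℓ ∣ Nat.card G) (hGV : G ≤ Subgroup.normalizer (V : Set X)) (K R : Subgroup X) (hKG : K ≤ G) (hKn : G ≤ Subgroup.normalizer (K : Set X)) (hHall : (Nat.card K).Coprime (K.relIndex G)) (hRG : R ≤ G) (hR : (Nat.card R).Prime) (hKR : K ⊓ R = ⊥) (hKRG : K ⊔ R = G) (hCV : V ⊓ Subgroup.centralizer (R : Set X) = ⊥) : ⁅R, K⁆ ≤ Subgroup.centralizer (V : Set X) := by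
  classical
  set r := Nat.card R with hrdef
  haveI : Fact r.Prime := ⟨hR⟩
  -- a generator of R
  have hRnt : Nontrivial R := by
    rw [← Finite.one_lt_card_iff_nontrivial]
    exact hR.one_lt
  obtain ⟨⟨x, hxR⟩, hx1⟩ := exists_ne (1 : R)
  have hx1' : x ≠ 1 := fun h => hx1 (Subtype.ext h)
  have hxr : x ^ r = 1 := by
    have h3 : (⟨x, hxR⟩ : R) ^ Nat.card R = 1 := pow_card_eq_one'
    have h4 := congrArg Subtype.val h3
    rwa [Subgroup.coe_pow] at h4
  have hord : orderOf x = r := orderOf_eq_prime hxr hx1'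
  have hzp : Subgroup.zpowers x = R := by
    apply Subgroup.eq_of_le_of_card_ge (Subgroup.zpowers_le.2 hxR)
    rw [Nat.card_zpowers, hord]
  -- cardinalities
  have hRK : R ≤ Subgroup.normalizer (K : Set X) := hRG.trans hKn
  have hcardG : Nat.card G = r * Nat.card K := by
    have h3 := Cfsg.Agent.H1.card_sup_mul_card_inf R K hRK
    rw [sup_comm, hKRG, inf_comm, hKR, Subgroup.card_bot, mul_one] at h3
    exact h3
  have hrel : K.relIndex G = r := by
    have h3 := Cfsg.Agent.H1.card_eq_relIndex_mul_card hKG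
    rw [hcardG] at h3
    exact (Nat.eq_of_mul_eq_mul_right Nat.card_pos h3).symm
  have hcop : (Nat.card R).Coprime (Nat.card K) := by
    rw [hrel] at hHall
    exact hHall.symm
  have hrG : r ∣ Nat.card G := ⟨Nat.card K, hcardG⟩
  have hKdvdG : Nat.card K ∣ Nat.card G := ⟨r, by rw [hcardG, mul_comm]⟩
  have hℓr : ℓ ≠ r := fun h => hℓG (h ▸ hrG)
  have hKsolv : Group.IsSolvable K :=
    Group.isSolvable_of_isSolvable_injective (Subgroup.inclusion_injective hKG)
  -- the action on V
  set L := Subgroup.normalizer (V : Set X) with hLdef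
  have hxL : x ∈ L := hGV (hRG hxR)
  have hCVx : ∀ v ∈ V, x * v = v * x → v = 1 := by
    intro v hv hxv
    have h3 : v ∈ V ⊓ Subgroup.centralizer (R : Set X) := by
      refine ⟨hv, ?_⟩
      rw [← hzp]
      change v ∈ Subgroup.centralizer _
      rw [Subgroup.mem_centralizer_iff]
      intro y hy
      obtain ⟨n, rfl⟩ := Subgroup.mem_zpowers_iff.1 hy
      have hc : Commute x v := hxv
      exact (hc.zpow_left n).eq
    rw [hCV, Subgroup.mem_bot] at h3
    exact h3
  have hVcomm : ∀ a ∈ V, ∀ b ∈ V, a * b = b * a := fun a ha b hb => by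
    have := hV.1.is_comm.comm (⟨a, ha⟩ : V) ⟨b, hb⟩
    exact congrArg Subtype.val this
  -- the subgroup of elements whose commutator with x centralizes V
  have hL : ∀ y ∈ L, ∀ h ∈ V, y * h * y⁻¹ ∈ V :=
    fun y hy h hh => (Subgroup.mem_normalizer_iff.1 hy h).1 hh
  set φ := Cfsg.Agent.H1.FrobFix.conjAct L V hL with hφ
  set x₀ : L := ⟨x, hxL⟩ with hx₀
  set M : Subgroup L := (Subgroup.centralizer {φ x₀}).comap φ with hM
  have hMmem : ∀ g : L, g ∈ M ↔ φ x₀ * φ g = φ g * φ x₀ := by
    intro g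
    rw [hM, Subgroup.mem_comap, Subgroup.mem_centralizer_singleton_iff]
    exact eq_comm
  have hMiff : ∀ g : L, g ∈ M ↔ ∀ v ∈ V, ((g : X) * x) * v * ((g : X) * x)⁻¹ = (x * (g : X)) * v * (x * (g : X))⁻¹ := by
    intro g
    rw [hMmem, ← map_mul, ← map_mul]
    constructor
    · intro h v hv
      have h3 := congrArg (fun e => ((e ⟨v, hv⟩ : V) : X)) h
      exact h3.symm
    · intro h
      ext v
      exact (h v v.2).symm
  -- K lies in M
  have hKM : ∀ g (hg : g ∈ K), (⟨g, hGV (hKG hg)⟩ : L) ∈ M := by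
    set T : Subgroup X := (M.map L.subtype) ⊓ K with hT
    have hTK : T ≤ K := inf_le_right
    have hTone : T.relIndex K = 1 := by
      by_contra hne
      obtain ⟨q, hq, hqdvd⟩ := Nat.exists_prime_and_dvd hne
      haveI : Fact q.Prime := ⟨hq⟩
      obtain ⟨S, hSK, -, hSq, hRS, hSrel⟩ :=
        Cfsg.Agent.H1.invariant_pgroup_le_invariant_sylow_aux R K hRK hcop (Or.inr hKsolv) q _ ⊥
          bot_le IsPGroup.of_bot
          (by
            intro y _
            rw [Subgroup.mem_normalizer_iff]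
            intro h
            rw [Subgroup.mem_bot, Subgroup.mem_bot, conj_eq_one_iff])
          rfl
      apply hSrel
      have hST : S ≤ T := by
        by_cases hSbot : S = ⊥
        · rw [hSbot]; exact bot_le
        -- q divides |K|
        have hqS : q ∣ Nat.card S := by
          obtain ⟨a, ha⟩ := IsPGroup.iff_card.1 hSq
          rcases Nat.eq_zero_or_pos a with h0 | h0
          · exfalso
            apply hSbot
            rw [h0, pow_zero] at ha
            exact Subgroup.card_eq_one.1 ha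
          · rw [ha]
            exact dvd_pow_self q h0.ne'
        have hqK : q ∣ Nat.card K := hqS.trans (Subgroup.card_dvd_of_le hSK)
        have hqG : q ∣ Nat.card G := hqK.trans hKdvdG
        have hℓq : ℓ ≠ q := fun h => hℓG (h ▸ hqG)
        have hqr : q ≠ r := by
          intro h
          have h3 : q ∣ Nat.gcd (Nat.card R) (Nat.card K) := Nat.dvd_gcd (h ▸ dvd_rfl) hqK
          rw [hcop] at h3
          exact hq.one_lt.ne' (Nat.dvd_one.1 h3)
        have hq2 : q ≠ 2 := by
          intro h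
          rw [h] at hqG
          exact (Nat.not_even_iff_odd.2 hodd) (even_iff_two_dvd.2 hqG)
        have hxS : ∀ g ∈ S, x * g * x⁻¹ ∈ S := fun g hg =>
          (Subgroup.mem_normalizer_iff.1 (hRS hxR) g).1 hg
        have key := Cfsg.Agent.H2.HH.internal_T hℓ hq hR hℓq hℓr hqr S V x hxr hSq hxS hVcomm hV.2
          hxL (hSK.trans (hKG.trans hGV)) hCVx (fun h2 => absurd h2 hq2)
        intro g hg
        refine ⟨?_, hSK hg⟩
        refine ⟨⟨g, hGV (hKG (hSK hg))⟩, ?_, rfl⟩
        rw [SetLike.mem_coe, hMiff]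
        exact key g hg
      exact dvd_trans hqdvd (Subgroup.relIndex_dvd_of_le_left K hST)
    intro g hg
    have h3 : g ∈ T := (Subgroup.relIndex_eq_one.1 hTone) hg
    obtain ⟨⟨g', hg'M, hg'⟩, -⟩ := h3
    have : g' = ⟨g, hGV (hKG hg)⟩ := Subtype.ext hg'
    rw [← this]
    exact hg'M
  -- conclusion
  rw [Subgroup.commutator_le]
  intro y hy g hg
  rw [← hzp] at hy
  obtain ⟨n, rfl⟩ := Subgroup.mem_zpowers_iff.1 hy
  have hgM := (hMmem _).1 (hKM g hg)
  set g₀ : L := ⟨g, hGV (hKG hg)⟩ with hg₀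
  have hcomm : Commute (φ x₀) (φ g₀) := hgM
  have hcomm' : Commute (φ (x₀ ^ n)) (φ g₀) := by
    rw [map_zpow]
    exact hcomm.zpow_left n
  have h5 : φ ⁅x₀ ^ n, g₀⁆ = 1 := by
    rw [map_commutatorElement, commutatorElement_eq_one_iff_commute]
    exact hcomm'
  change _ ∈ Subgroup.centralizer _
  rw [Subgroup.mem_centralizer_iff]
  intro v hv
  have h6 := congrArg (fun e => ((e ⟨v, hv⟩ : V) : X)) h5
  have h7 : ⁅x ^ n, g⁆ * v * ⁅x ^ n, g⁆⁻¹ = v := h6
  calc v * ⁅x ^ n, g⁆ = (⁅x ^ n, g⁆ * v * ⁅x ^ n, g⁆⁻¹) * ⁅x ^ n, g⁆ := by rw [h7]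
    _ = ⁅x ^ n, g⁆ * v := by group

end Cfsg.Agent.S3769
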