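import Cfsg.Statements.S0044
import Mathlib
import Cfsg.Prelude.Def_Solvable
import Cfsg.Agent.H1.Basic
import Cfsg.Agent.H1.Cores

set_option autoImplicit false
open Cfsg

namespace Cfsg.Agent.S0044

open Cfsg.Agent.H1

/-- In a finite solvable group, the centraliser of the Fitting subgroup is contained in the Fitting subgroup. -/
theorem result {G : Type*} [Group G] [Finite G] [Group.IsSolvable G] :
    Subgroup.centralizer (Cfsg.fittingSubgroup G : Set G) ≤ Cfsg.fittingSubgroup G := by
  by_contra hle
  obtain ⟨C, hC⟩ : ∃ C : Subgroup G, C = Subgroup.centralizer (Cfsg.fittingSubgroup G : Set G) := ⟨_, rfl⟩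
  rw [← hC] at hle
  have hCn : C.Normal := by rw [hC]; infer_instance
  have hDn : ∀ j, ((fun K : Subgroup G => ⁅K, K⁆)^[j] C).Normal := by
    intro j
    induction j with
    | zero => exact hCn
    | succ j ih =>
      rw [Function.iterate_succ_apply']
      infer_instance
  have hDC : ∀ j, (fun K : Subgroup G => ⁅K, K⁆)^[j] C ≤ C := by
    intro j
    induction j with
    | zero => exact le_rfl
    | succ j ih =>
      rw [Function.iterate_succ_apply']
      exact (Subgroup.commutator_le_self _).trans ih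
  have hDder : ∀ j, (fun K : Subgroup G => ⁅K, K⁆)^[j] C ≤ derivedSeries G j := by
    intro j
    induction j with
    | zero => exact le_top
    | succ j ih =>
      rw [Function.iterate_succ_apply', derivedSeries_succ]
      exact Subgroup.commutator_mono ih ih
  obtain ⟨n, hn⟩ := (inferInstance : Group.IsSolvable G).solvable
  have hex : ∃ j, (fun K : Subgroup G => ⁅K, K⁆)^[j] C ≤ Cfsg.fittingSubgroup G :=
    ⟨n, (hDder n).trans (hn ▸ bot_le)⟩
  classical
  have hj := Nat.find_spec hex
  have hjmin := fun m => Nat.find_min hex (m := m)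
  obtain ⟨j, hjdef⟩ : ∃ j, j = Nat.find hex := ⟨_, rfl⟩
  rw [← hjdef] at hj hjmin
  cases j with
  | zero => exact hle hj
  | succ k =>
    have hk : ¬ (fun K : Subgroup G => ⁅K, K⁆)^[k] C ≤ Cfsg.fittingSubgroup G := hjmin k (Nat.lt_succ_self k)
    apply hk
    rw [Function.iterate_succ_apply'] at hj
    apply le_fittingSubgroup (hDn k)
    apply (Subgroup.isNilpotent_iff_lowerCentralSeries _).mpr
    refine ⟨2, ?_⟩
    show ⁅⁅(fun K : Subgroup G => ⁅K, K⁆)^[k] C, (fun K : Subgroup G => ⁅K, K⁆)^[k] C⁆, (fun K : Subgroup G => ⁅K, K⁆)^[k] C⁆ = ⊥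
    rw [eq_bot_iff]
    have h1 : ⁅Cfsg.fittingSubgroup G, C⁆ = ⊥ := by
      rw [Subgroup.commutator_comm, Subgroup.commutator_eq_bot_iff_le_centralizer, hC]
    rw [← h1]
    exact Subgroup.commutator_mono hj (hDC k)

end Cfsg.Agent.S0044
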