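import Cfsg.Statements.S1242
import Mathlib
import Cfsg.Agent.Lib.Lead.PResidual

set_option autoImplicit false
set_option linter.style.haveILetI false
open Cfsg

namespace Cfsg.Agent.S1242

open scoped commutatorElement

/-- Let G be a finite group, p a prime and H a subgroup of index prime to p such that any two elements of H of p-power order that are conjugate in G are conjugate in H. Then (O^p(G)·G') ∩ H = O^p(H)·H', where O^p denotes the subgroup generated by the elements of order prime to p. -/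
theorem result {G : Type*} [Group G] [Finite G] {p : ℕ} [Fact p.Prime] (H : Subgroup G) (hidx : Nat.Coprime p H.index) (hfus : ∀ g ∈ H, (∃ k : ℕ, orderOf g = p ^ k) → ∀ a : G, a * g * a⁻¹ ∈ H → ∃ h ∈ H, h * g * h⁻¹ = a * g * a⁻¹) : (Cfsg.pResidual p G ⊔ commutator G) ⊓ H = (Cfsg.pResidual p ↥H ⊔ commutator ↥H).map H.subtype := by
  classical
  have hp : p.Prime := Fact.out
  haveI hRn : (Cfsg.pResidual p ↥H).Normal := Cfsg.Agent.Lib.Lead.PResidual.normal p ↥H
  set B : Subgroup ↥H := Cfsg.pResidual p ↥H ⊔ commutator ↥H with hB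
  haveI hBn : B.Normal := Subgroup.sup_normal _ _
  letI : CommGroup (↥H ⧸ B) :=
    { (inferInstance : Group (↥H ⧸ B)) with
      mul_comm := by
        intro a b
        induction a using QuotientGroup.induction_on with
        | H a =>
        induction b using QuotientGroup.induction_on with
        | H b =>
        rw [← QuotientGroup.mk_mul, ← QuotientGroup.mk_mul]
        apply QuotientGroup.eq.2
        apply (le_sup_right : commutator ↥H ≤ B)
        have e : (a * b)⁻¹ * (b * a) = ⁅b⁻¹, a⁻¹⁆ := by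
          rw [commutatorElement_def]; group
        rw [e, commutator_def]
        exact Subgroup.commutator_mem_commutator (Subgroup.mem_top _) (Subgroup.mem_top _) }
  let ψ : ↥H →* ↥H ⧸ B := QuotientGroup.mk' B
  have hQp : ∀ q : ↥H ⧸ B, ∃ k : ℕ, q ^ p ^ k = 1 := by
    intro q
    obtain ⟨h, rfl⟩ := QuotientGroup.mk_surjective q
    obtain ⟨k, hk⟩ := Cfsg.Agent.Lib.Lead.PResidual.exists_pow_mem (p := p) h
    refine ⟨k, ?_⟩
    rw [← QuotientGroup.mk_pow]
    exact (QuotientGroup.eq_one_iff _).mpr ((le_sup_left : Cfsg.pResidual p ↥H ≤ B) hk)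
  -- coprime powers are injective on the p-group quotient
  have hQinj : ∀ (q : ↥H ⧸ B) (m : ℕ), m.Coprime p → q ^ m = 1 → q = 1 := by
    intro q m hm hq
    obtain ⟨k, hk⟩ := hQp q
    have h1 : orderOf q ∣ m := orderOf_dvd_of_pow_eq_one hq
    have h2 : orderOf q ∣ p ^ k := orderOf_dvd_of_pow_eq_one hk
    have h3 : orderOf q = 1 :=
      Nat.Coprime.eq_one_of_dvd (Nat.Coprime.coprime_dvd_left h1 (hm.pow_right k)) h2
    exact orderOf_eq_one_iff.1 h3
  let V : G →* ↥H ⧸ B := MonoidHom.transfer ψ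
  -- V on p-elements of H
  have hVp : ∀ g : G, ∀ hg : g ∈ H, (∃ k : ℕ, orderOf g = p ^ k) → V g = ψ ⟨g, hg⟩ ^ H.index := by
    intro g hgH hgp
    have : Fintype (Quotient (MulAction.orbitRel (Subgroup.zpowers g) (G ⧸ H))) := Fintype.ofFinite _
    have hval : ∀ q : Quotient (MulAction.orbitRel (Subgroup.zpowers g) (G ⧸ H)),
        ψ ⟨q.out.out⁻¹ * g ^ Function.minimalPeriod (g • ·) q.out * q.out.out,
              QuotientGroup.out_conj_pow_minimalPeriod_mem H g q.out⟩
          = ψ ⟨g, hgH⟩ ^ Function.minimalPeriod (g • ·) q.out := by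
      intro q
      have hmem := QuotientGroup.out_conj_pow_minimalPeriod_mem H g q.out
      set n := Function.minimalPeriod (g • ·) q.out with hn
      obtain ⟨k, hk⟩ := hgp
      have hgnp : ∃ j : ℕ, orderOf (g ^ n) = p ^ j := by
        have h1 : orderOf (g ^ n) ∣ p ^ k := by
          apply orderOf_dvd_of_pow_eq_one
          rw [← pow_mul, mul_comm, pow_mul, ← hk, pow_orderOf_eq_one, one_pow]
        obtain ⟨j, -, hj⟩ := (Nat.dvd_prime_pow hp).1 h1
        exact ⟨j, hj⟩
      have hgnH : g ^ n ∈ H := H.pow_mem hgH n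
      obtain ⟨h, hhH, hh⟩ := hfus (g ^ n) hgnH hgnp (q.out.out⁻¹) (by rw [inv_inv]; exact hmem)
      rw [inv_inv] at hh
      have e1 : (⟨q.out.out⁻¹ * g ^ n * q.out.out, hmem⟩ : ↥H) =
          ⟨h, hhH⟩ * ⟨g, hgH⟩ ^ n * ⟨h, hhH⟩⁻¹ := by
        apply Subtype.ext
        simp only [Subgroup.coe_mul, Subgroup.coe_inv, Subgroup.coe_pow]
        exact hh.symm
      rw [e1, map_mul, map_mul, map_inv, map_pow]
      rw [mul_comm (ψ ⟨h, hhH⟩), mul_assoc, mul_inv_cancel, mul_one]
    show MonoidHom.transfer ψ g = _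
    rw [MonoidHom.transfer_eq_prod_quotient_orbitRel_zpowers_quot,
      Finset.prod_congr rfl (fun q _ => hval q), Finset.prod_pow_eq_pow_sum,
      ← Subgroup.index_eq_sum_minimalPeriod]
  -- V kills O^p(G) and G'
  have hVres : Cfsg.pResidual p G ⊔ commutator G ≤ V.ker := by
    apply sup_le
    · unfold Cfsg.pResidual
      rw [Subgroup.closure_le]
      intro g hg
      have hg' : Nat.Coprime (orderOf g) p := hg
      rw [SetLike.mem_coe, MonoidHom.mem_ker]
      apply hQinj _ (orderOf g) hg'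
      rw [← map_pow, pow_orderOf_eq_one, map_one]
    · exact Abelianization.commutator_subset_ker V
  apply le_antisymm
  · intro z hz
    obtain ⟨hz1, hzH⟩ := hz
    have hVz : V z = 1 := hVres hz1
    have hpos : orderOf z ≠ 0 := (orderOf_pos z).ne'
    obtain ⟨k, m, hm, hkm⟩ := Nat.exists_eq_pow_mul_and_not_dvd hpos p hp.ne_one
    have hzm : ∃ j : ℕ, orderOf (z ^ m) = p ^ j := by
      have h1 : orderOf (z ^ m) ∣ p ^ k := by
        apply orderOf_dvd_of_pow_eq_one
        rw [← pow_mul, mul_comm, ← hkm, pow_orderOf_eq_one]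
      obtain ⟨j, -, hj⟩ := (Nat.dvd_prime_pow hp).1 h1
      exact ⟨j, hj⟩
    have h2 := hVp (z ^ m) (H.pow_mem hzH m) hzm
    rw [map_pow, hVz, one_pow] at h2
    have h3 : (ψ ⟨z, hzH⟩) ^ (m * H.index) = 1 := by
      rw [pow_mul, ← map_pow]
      exact h2.symm
    have hcop : (m * H.index).Coprime p :=
      Nat.Coprime.mul_left ((Nat.Prime.coprime_iff_not_dvd hp).2 hm).symm hidx.symm
    have h4 := hQinj _ _ hcop h3
    have h5 : (⟨z, hzH⟩ : ↥H) ∈ B := (QuotientGroup.eq_one_iff _).1 h4
    exact ⟨⟨z, hzH⟩, h5, rfl⟩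
  · rw [Subgroup.map_sup]
    apply sup_le
    · refine le_inf ?_ (by rintro _ ⟨x, _, rfl⟩; exact x.2)
      refine le_trans ?_ le_sup_left
      unfold Cfsg.pResidual
      rw [Subgroup.map_le_iff_le_comap, Subgroup.closure_le]
      intro h hh
      have hh' : Nat.Coprime (orderOf h) p := hh
      rw [SetLike.mem_coe, Subgroup.mem_comap]
      apply Subgroup.subset_closure
      show Nat.Coprime (orderOf ((H.subtype h) : G)) p
      rw [Subgroup.coe_subtype, Subgroup.orderOf_coe]
      exact hh'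
    · refine le_inf ?_ (by rintro _ ⟨x, _, rfl⟩; exact x.2)
      refine le_trans ?_ le_sup_right
      rw [commutator_def, commutator_def, Subgroup.map_commutator]
      exact Subgroup.commutator_mono le_top le_top

end Cfsg.Agent.S1242
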