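import Cfsg.Statements.S3836
import Mathlib
import Cfsg.Agent.H1.Cores

set_option autoImplicit false
open Cfsg

namespace Cfsg.Agent.S3836

/-- Let G be a finite group that is p-stable in the normalizer form: for every p-subgroup Q and every x ∈ N_G(Q) with [Q, x, x] = 1, the image of x in N_G(Q)/C_G(Q) lies in O_p(N_G(Q)/C_G(Q)). Then every subgroup of G is p-stable in the same sense. -/
theorem result {G : Type*} [Group G] [Finite G] {p : ℕ} [Fact p.Prime] (hst : Cfsg.IsNormalizerPStable p G) (H : Subgroup G) : Cfsg.IsNormalizerPStable p ↥H := by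
  intro P' hP' g hg hquad
  -- transport to `G`
  have hP : IsPGroup p ↥(P'.map H.subtype) := hP'.map H.subtype
  have hgG : (g : G) ∈ Subgroup.normalizer ((P'.map H.subtype : Subgroup G) : Set G) :=
    Subgroup.le_normalizer_map H.subtype ⟨g, hg, rfl⟩
  have hquadG : ⁅⁅P'.map H.subtype, Subgroup.zpowers (g : G)⁆, Subgroup.zpowers (g : G)⁆ = ⊥ := by
    have e : Subgroup.zpowers (g : G) = (Subgroup.zpowers g).map H.subtype := by
      rw [MonoidHom.map_zpowers]; rfl
    rw [e, ← Subgroup.map_commutator, ← Subgroup.map_commutator, hquad, Subgroup.map_bot]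
  have key := hst (P'.map H.subtype) hP (g : G) hgG hquadG
  -- the inclusion of normalizers
  have hmemN : ∀ n : ↥(Subgroup.normalizer (P' : Set ↥H)),
      ((n : ↥H) : G) ∈ Subgroup.normalizer ((P'.map H.subtype : Subgroup G) : Set G) :=
    fun n => Subgroup.le_normalizer_map H.subtype ⟨n, n.2, rfl⟩
  let φ : ↥(Subgroup.normalizer (P' : Set ↥H)) →*
      ↥(Subgroup.normalizer ((P'.map H.subtype : Subgroup G) : Set G)) :=
    { toFun := fun n => ⟨((n : ↥H) : G), hmemN n⟩
      map_one' := rfl
      map_mul' := fun _ _ => rfl }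
  have hle : (Subgroup.centralizer (P' : Set ↥H)).subgroupOf (Subgroup.normalizer (P' : Set ↥H)) ≤
      ((Subgroup.centralizer ((P'.map H.subtype : Subgroup G) : Set G)).subgroupOf
        (Subgroup.normalizer ((P'.map H.subtype : Subgroup G) : Set G))).comap φ := by
    intro n hn
    rw [Subgroup.mem_comap, Subgroup.mem_subgroupOf]
    rw [Subgroup.mem_subgroupOf, Subgroup.mem_centralizer_iff] at hn
    rw [Subgroup.mem_centralizer_iff]
    rintro _ ⟨x, hx, rfl⟩
    exact congrArg Subtype.val (hn x hx)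
  let ψ := QuotientGroup.map _ _ φ hle
  have hψinj : Function.Injective ψ := by
    rw [← MonoidHom.ker_eq_bot_iff, eq_bot_iff]
    intro q hq
    obtain ⟨n, rfl⟩ := QuotientGroup.mk_surjective q
    rw [MonoidHom.mem_ker] at hq
    change QuotientGroup.mk (φ n) = 1 at hq
    rw [QuotientGroup.eq_one_iff, Subgroup.mem_subgroupOf, Subgroup.mem_centralizer_iff] at hq
    rw [Subgroup.mem_bot, QuotientGroup.eq_one_iff, Subgroup.mem_subgroupOf,
      Subgroup.mem_centralizer_iff]
    intro x hx
    apply Subtype.ext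
    exact hq (x : G) ⟨x, hx, rfl⟩
  have hMp : IsPGroup p ↥((Cfsg.pCore p _).comap ψ) :=
    (Cfsg.Agent.H1.pCore_isPGroup p).comap_of_injective ψ hψinj
  have hMn : ((Cfsg.pCore p _).comap ψ).Normal := inferInstance
  exact Cfsg.Agent.H1.le_pCore hMn hMp (Subgroup.mem_comap.mpr key)

end Cfsg.Agent.S3836
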