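import Cfsg.Statements.S3079
import Mathlib
import Cfsg.Agent.Lib.Helper4.ZJ2
import Cfsg.Agent.S0653
import Cfsg.Agent.S0654

set_option autoImplicit false
open Cfsg
open scoped commutatorElement

namespace Cfsg.Agent.S3079

open Cfsg.Agent.Lib.Helper4.ZJ Cfsg.Agent.Lib.Helper4.ZJ2

theorem pstableOn_of_normalizerPStable {G : Type*} [Group G] {p : ℕ}
    (h : Cfsg.IsNormalizerPStable p G) (P : Subgroup G) [hPn : P.Normal] (hP : IsPGroup p P) :
    Cfsg.IsPStableOn p P := by
  intro a hq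
  have hN : Subgroup.normalizer (P : Set G) = ⊤ := Subgroup.normalizer_eq_top P
  have hmemN : ∀ g : G, g ∈ Subgroup.normalizer (P : Set G) := by
    intro g; rw [hN]; exact Subgroup.mem_top g
  have h1 := h P hP a (hmemN a) hq
  haveI hPcn : (Cfsg.pCore p (↥(Subgroup.normalizer (P : Set G)) ⧸
      (Subgroup.centralizer (P : Set G)).subgroupOf (Subgroup.normalizer (P : Set G)))).Normal :=
    Cfsg.Agent.H9.pCore_normal p _
  have hPcp := Cfsg.Agent.H9.pCore_isPGroup p (↥(Subgroup.normalizer (P : Set G)) ⧸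
      (Subgroup.centralizer (P : Set G)).subgroupOf (Subgroup.normalizer (P : Set G)))
  obtain ⟨D', hD'⟩ : ∃ D', D' = (Cfsg.pCore p (↥(Subgroup.normalizer (P : Set G)) ⧸
      (Subgroup.centralizer (P : Set G)).subgroupOf (Subgroup.normalizer (P : Set G)))).comap
      (QuotientGroup.mk' ((Subgroup.centralizer (P : Set G)).subgroupOf
        (Subgroup.normalizer (P : Set G)))) := ⟨_, rfl⟩
  haveI hD'n : D'.Normal := by rw [hD']; exact hPcn.comap _
  have hD'p : ∀ d' ∈ D', ∃ k : ℕ, ((d' : ↥(Subgroup.normalizer (P : Set G))) : G) ^ (p ^ k) ∈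
      Subgroup.centralizer (P : Set G) := by
    intro d' hd'
    rw [hD'] at hd'
    have hd'' : (QuotientGroup.mk d' : ↥(Subgroup.normalizer (P : Set G)) ⧸
        (Subgroup.centralizer (P : Set G)).subgroupOf (Subgroup.normalizer (P : Set G))) ∈
        Cfsg.pCore p (↥(Subgroup.normalizer (P : Set G)) ⧸
          (Subgroup.centralizer (P : Set G)).subgroupOf (Subgroup.normalizer (P : Set G))) := hd'
    obtain ⟨k, hk⟩ := hPcp ⟨_, hd''⟩
    have hk' : (QuotientGroup.mk d' : ↥(Subgroup.normalizer (P : Set G)) ⧸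
        (Subgroup.centralizer (P : Set G)).subgroupOf (Subgroup.normalizer (P : Set G))) ^
        (p ^ k) = 1 := by
      have h2 := congrArg Subtype.val hk
      simpa using h2
    rw [← QuotientGroup.mk_pow, QuotientGroup.eq_one_iff, Subgroup.mem_subgroupOf,
      Subgroup.coe_pow] at hk'
    exact ⟨k, hk'⟩
  haveI hDn : (D'.map (Subgroup.normalizer (P : Set G)).subtype).Normal := by
    refine ⟨fun d hd g => ?_⟩
    obtain ⟨d', hd', rfl⟩ := hd
    have h2 := hD'n.conj_mem d' hd' ⟨g, hmemN g⟩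
    exact ⟨_, h2, rfl⟩
  haveI hEn : ((D'.map (Subgroup.normalizer (P : Set G)).subtype).map
      (QuotientGroup.mk' (Subgroup.centralizer (P : Set G)))).Normal :=
    hDn.map _ (QuotientGroup.mk'_surjective _)
  have hEp : IsPGroup p ↥((D'.map (Subgroup.normalizer (P : Set G)).subtype).map
      (QuotientGroup.mk' (Subgroup.centralizer (P : Set G)))) := by
    intro ⟨x, hx⟩
    obtain ⟨d, hd, rfl⟩ := hx
    obtain ⟨d', hd', rfl⟩ := hd
    obtain ⟨k, hk⟩ := hD'p d' hd'
    refine ⟨k, Subtype.ext ?_⟩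
    rw [Subgroup.coe_pow, Subgroup.coe_one]
    show (QuotientGroup.mk' (Subgroup.centralizer (P : Set G))
      ((Subgroup.normalizer (P : Set G)).subtype d')) ^ (p ^ k) = 1
    rw [← map_pow]
    exact (QuotientGroup.eq_one_iff _).mpr hk
  have hle := Cfsg.Agent.H9.le_pCore _ hEp
  apply hle
  have ha' : (⟨a, hmemN a⟩ : ↥(Subgroup.normalizer (P : Set G))) ∈ D' := by
    rw [hD']; exact h1
  exact ⟨a, ⟨⟨a, hmemN a⟩, ha', rfl⟩, rfl⟩

theorem omegaOne_center_eq {G : Type*} [Group G] (p : ℕ) (D : Subgroup G) :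
    Cfsg.omegaOne p (Cfsg.centerThompsonOf p D) =
      (Cfsg.omegaCenterThompson p ↥D).map D.subtype := by
  unfold Cfsg.omegaCenterThompson Cfsg.omegaOne Cfsg.centerThompsonOf Cfsg.thompsonSubgroupOf
  rw [MonoidHom.map_closure]
  congr 1
  ext x
  simp only [Set.mem_setOf_eq, Set.mem_image]
  constructor
  · rintro ⟨hx, hxp⟩
    obtain ⟨hxJ, hxC⟩ := Subgroup.mem_inf.mp hx
    obtain ⟨y, hy, rfl⟩ := Subgroup.mem_map.mp hxJ
    refine ⟨y, ⟨Subgroup.mem_inf.mpr ⟨hy, ?_⟩, ?_⟩, rfl⟩
    · rw [Subgroup.mem_centralizer_iff]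
      intro w hw
      have h1 := Subgroup.mem_centralizer_iff.mp hxC (D.subtype w)
        (Subgroup.mem_map_of_mem _ hw)
      exact Subtype.ext h1
    · apply Subtype.ext
      rw [Subgroup.coe_pow, Subgroup.coe_one]
      exact hxp
  · rintro ⟨y, ⟨hy, hyp⟩, rfl⟩
    obtain ⟨hyJ, hyC⟩ := Subgroup.mem_inf.mp hy
    refine ⟨Subgroup.mem_inf.mpr ⟨Subgroup.mem_map_of_mem _ hyJ, ?_⟩, ?_⟩
    · rw [Subgroup.mem_centralizer_iff]
      rintro _ ⟨w, hw, rfl⟩
      have h1 := Subgroup.mem_centralizer_iff.mp hyC w hw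
      exact congrArg Subtype.val h1
    · have h1 := congrArg Subtype.val hyp
      rw [Subgroup.coe_pow, Subgroup.coe_one] at h1
      exact h1

/-- Glauberman's ZJ-Theorem for strongly closed subgroups, p odd. Let G be a finite group that is p-stable in the normalizer form (for every p-subgroup U and g ∈ N_G(U) with [U, g, g] = 1, the image of g lies in O_p(N_G(U)/C_G(U))), with C_G(O_p(G)) ≤ O_p(G), let P be a Sylow p-subgroup and D a subgroup of P strongly closed in P with respect to G. Then Z(J(D)) is normal in G, where J(D) is generated by the abelian subgroups of D of largest order; and so is Ω₁(Z(J_e(D))), where J_e(D) is generated by the elementary abelian subgroups of D of largest order. -/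
theorem result {G : Type*} [Group G] [Finite G] {p : ℕ} [Fact p.Prime] (hp : p ≠ 2) (P : Sylow p G) (D : Subgroup G) (hD : Cfsg.IsStronglyClosed D (P : Subgroup G)) (hst : Cfsg.IsNormalizerPStable p G) (hc : Subgroup.centralizer ((Cfsg.pCore p G : Subgroup G) : Set G) ≤ Cfsg.pCore p G) : (Cfsg.centerThompsonAOf D).Normal ∧ (Cfsg.omegaOne p (Cfsg.centerThompsonOf p D)).Normal := by
  have hst' : ∀ (Q : Subgroup G) [Q.Normal], IsPGroup p Q → Cfsg.IsPStableOn p Q :=
    fun Q _ hQ => pstableOn_of_normalizerPStable hst Q hQ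
  constructor
  · rw [Cfsg.Agent.S0653.center_eq_zj]
    exact zj_normal' hp hc hst' P D hD Cfsg.Agent.S0653.goodAb
  · have hDp : IsPGroup p ↥D := P.isPGroup'.to_le hD.1
    rw [omegaOne_center_eq, Cfsg.Agent.S0654.omega_eq_zj D hDp]
    exact zj_normal' hp hc hst' P D hD (Cfsg.Agent.S0654.goodEl p)

end Cfsg.Agent.S3079
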