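import Cfsg.Statements.S1442
import Mathlib
import Cfsg.Agent.Lib.Helper4.Stability

namespace Cfsg.Agent.S1442

open Cfsg.Agent.Lib.Helper4.Stability

/-- Let G be a finite group, H a nilpotent subgroup and A a subgroup normalizing H with the orders of A and H coprime. Put C = H ∩ C_G(A). If H ∩ C_G(C) ≤ C then A centralizes H. -/
theorem result {G : Type*} [Group G] [Finite G] (H A : Subgroup G) (hH : Group.IsNilpotent H) (hA : (A ≤ Subgroup.normalizer (H : Set G))) (hcop : (Nat.card A).Coprime (Nat.card H))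
    (hC : H ⊓ Subgroup.centralizer (((H ⊓ Subgroup.centralizer (A : Set G)) : Subgroup G) : Set G) ≤ (H ⊓ Subgroup.centralizer (A : Set G))) :
    A ≤ Subgroup.centralizer (H : Set G) := by
  set C : Subgroup G := H ⊓ Subgroup.centralizer (A : Set G) with hCdef
  have hCH : C ≤ H := inf_le_left
  have hCA : C ≤ Subgroup.centralizer (A : Set G) := inf_le_right
  have hAC : A ≤ Subgroup.centralizer (C : Set G) := Subgroup.le_centralizer_iff.mp hCA
  -- key: the normalizer of `C` in `H` lies in `C`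
  have key : ∀ n ∈ H, (∀ c ∈ C, n⁻¹ * c * n ∈ C) → n ∈ C := by
    intro n hn hnorm
    refine ⟨hn, ?_⟩
    show n ∈ Subgroup.centralizer (A : Set G)
    rw [Subgroup.mem_centralizer_iff]
    intro a ha
    have haH : a * n⁻¹ * a⁻¹ ∈ H :=
      (Subgroup.mem_normalizer_iff.mp (hA ha) n⁻¹).mp (H.inv_mem hn)
    have hyH : n * a * n⁻¹ * a⁻¹ ∈ H := by
      have := H.mul_mem hn haH
      have e : n * (a * n⁻¹ * a⁻¹) = n * a * n⁻¹ * a⁻¹ := by group
      rwa [e] at this
    have hyC : n * a * n⁻¹ * a⁻¹ ∈ Subgroup.centralizer (C : Set G) := by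
      rw [Subgroup.mem_centralizer_iff]
      intro c hc
      have hc' := hnorm c hc
      have h1 : a * c = c * a := Subgroup.mem_centralizer_iff.mp (hCA hc) a ha
      have h2 : a * (n⁻¹ * c * n) = (n⁻¹ * c * n) * a :=
        Subgroup.mem_centralizer_iff.mp (hCA hc') a ha
      have h1' : a⁻¹ * c = c * a⁻¹ := by
        have : c = a * c * a⁻¹ := by rw [h1]; group
        calc a⁻¹ * c = a⁻¹ * (a * c * a⁻¹) := by rw [← this]
          _ = c * a⁻¹ := by group
      symm
      calc n * a * n⁻¹ * a⁻¹ * c = n * a * n⁻¹ * (a⁻¹ * c) := by group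
        _ = n * a * n⁻¹ * (c * a⁻¹) := by rw [h1']
        _ = n * (a * (n⁻¹ * c * n)) * n⁻¹ * a⁻¹ := by group
        _ = n * ((n⁻¹ * c * n) * a) * n⁻¹ * a⁻¹ := by rw [h2]
        _ = c * (n * a * n⁻¹ * a⁻¹) := by group
    have hy : n * a * n⁻¹ * a⁻¹ ∈ C := hC ⟨hyH, hyC⟩
    have hord : (orderOf a).Coprime (Nat.card C) := by
      have h1 : orderOf a ∣ Nat.card A := by
        have := orderOf_dvd_natCard (⟨a, ha⟩ : A)
        rwa [Subgroup.orderOf_mk] at this
      exact Nat.Coprime.coprime_dvd_left h1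
        (hcop.coprime_dvd_right (Subgroup.card_dvd_of_le hCH))
    exact (commute_of_commutator_mem C a n (hAC ha) hy hord).symm
  -- normalizer condition in the nilpotent group `H`
  have htop : C.subgroupOf H = ⊤ := by
    by_contra hne
    have hlt : C.subgroupOf H < ⊤ := lt_top_iff_ne_top.mpr hne
    have hnc := Group.normalizerCondition_of_isNilpotent (G := H) (C.subgroupOf H) hlt
    obtain ⟨n, hn1, hn2⟩ := SetLike.exists_of_lt hnc
    apply hn2
    rw [Subgroup.mem_subgroupOf]
    apply key n n.2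
    intro c hc
    have := (Subgroup.mem_normalizer_iff''.mp hn1 ⟨c, hCH hc⟩).mp (Subgroup.mem_subgroupOf.mpr hc)
    rw [Subgroup.mem_subgroupOf] at this
    simpa using this
  have hHC : H ≤ C := by
    intro h hh
    have : (⟨h, hh⟩ : H) ∈ C.subgroupOf H := by rw [htop]; trivial
    exact Subgroup.mem_subgroupOf.mp this
  exact Subgroup.le_centralizer_iff.mp (hHC.trans hCA)

end Cfsg.Agent.S1442
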