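import Cfsg.Statements.S1467
import Mathlib

set_option autoImplicit false
open Cfsg

namespace Cfsg.Agent.S1467

open Cfsg

theorem puigStep_antitone {G : Type*} [Group G] {X Y : Subgroup G} (h : X ≤ Y) :
    puigStep Y ≤ puigStep X := by
  unfold puigStep
  apply sSup_le_sSup
  rintro A ⟨hA, hYA⟩
  exact ⟨hA, h.trans hYA⟩

theorem puigSeq_one {G : Type*} [Group G] : puigSeq G 1 = ⊤ := by
  show puigStep (puigSeq G 0) = ⊤
  rw [eq_top_iff]
  intro g _
  have hmem : Subgroup.zpowers g ∈ {A : Subgroup G | IsMulCommutative A ∧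
      puigSeq G 0 ≤ Subgroup.normalizer (A : Set G)} := by
    refine ⟨inferInstance, ?_⟩
    show (⊥ : Subgroup G) ≤ _
    exact bot_le
  exact (le_sSup hmem) (Subgroup.mem_zpowers g)

theorem puigSeq_succ {G : Type*} [Group G] (n : ℕ) : puigSeq G (n + 1) = puigStep (puigSeq G n) := rfl

/-- the basic inequalities -/
theorem puigSeq_ineq {G : Type*} [Group G] (n : ℕ) :
    puigSeq G (2 * n) ≤ puigSeq G (2 * n + 1) ∧ puigSeq G (2 * n + 2) ≤ puigSeq G (2 * n + 1) ∧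
      puigSeq G (2 * n) ≤ puigSeq G (2 * n + 2) ∧ puigSeq G (2 * n + 3) ≤ puigSeq G (2 * n + 1) := by
  induction n with
  | zero =>
    have h0 : puigSeq G 0 = ⊥ := rfl
    have h1 : puigSeq G 1 = ⊤ := puigSeq_one
    refine ⟨by rw [h0]; exact bot_le, by rw [h1]; exact le_top, by rw [h0]; exact bot_le,
      by rw [h1]; exact le_top⟩
  | succ k ih =>
    obtain ⟨h1, h2, h3, h4⟩ := ih
    have e1 : 2 * (k + 1) = 2 * k + 2 := by ring
    rw [e1]
    show puigSeq G (2 * k + 2) ≤ puigSeq G (2 * k + 3) ∧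
      puigSeq G (2 * k + 4) ≤ puigSeq G (2 * k + 3) ∧
      puigSeq G (2 * k + 2) ≤ puigSeq G (2 * k + 4) ∧ puigSeq G (2 * k + 5) ≤ puigSeq G (2 * k + 3)
    -- L_{2k+2} ≤ L_{2k+3}: from L_{2k+2} ≤ L_{2k+1}
    have a1 : puigSeq G (2 * k + 2) ≤ puigSeq G (2 * k + 3) := puigStep_antitone h2
    -- L_{2k+4} ≤ L_{2k+3}: from L_{2k+2} ≤ L_{2k+3}
    have a2 : puigSeq G (2 * k + 4) ≤ puigSeq G (2 * k + 3) := puigStep_antitone a1
    -- L_{2k+2} ≤ L_{2k+4}: from L_{2k+3} ≤ L_{2k+1}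
    have a3 : puigSeq G (2 * k + 2) ≤ puigSeq G (2 * k + 4) := puigStep_antitone h4
    -- L_{2k+5} ≤ L_{2k+3}: from L_{2k+2} ≤ L_{2k+4}
    have a4 : puigSeq G (2 * k + 5) ≤ puigSeq G (2 * k + 3) := puigStep_antitone a3
    exact ⟨a1, a2, a3, a4⟩

theorem puigSeq_even_mono {G : Type*} [Group G] : Monotone (fun n => puigSeq G (2 * n)) :=
  monotone_nat_of_le_succ (fun n => (puigSeq_ineq n).2.2.1)

theorem puigSeq_odd_anti {G : Type*} [Group G] : Antitone (fun n => puigSeq G (2 * n + 1)) :=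
  antitone_nat_of_succ_le (fun n => (puigSeq_ineq n).2.2.2)

theorem puigSeq_even_le_odd {G : Type*} [Group G] (n m : ℕ) :
    puigSeq G (2 * n) ≤ puigSeq G (2 * m + 1) := by
  rcases le_total n m with h | h
  · exact (puigSeq_even_mono h).trans (puigSeq_ineq m).1
  · exact (puigSeq_ineq n).1.trans (puigSeq_odd_anti h)

/-- Let G be a finite group with Puig series L_n(G). Then L_0 = 1, L_1 = G; L_{2n} ≤ L_{2n+2} ≤ L_{2m+3} ≤ L_{2m+1} for all n, m; there is k with L_{2n}(G) = L_*(G) and L_{2n+1}(G) = L(G) for all n ≥ k; L_*(G) ≤ L(G); and applying one Puig step to L_*(G) gives L(G) and to L(G) gives L_*(G). -/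
theorem result {G : Type*} [Group G] [Finite G] :
    Cfsg.puigSeq G 0 = ⊥ ∧ Cfsg.puigSeq G 1 = ⊤ ∧
      (∀ n m : ℕ, Cfsg.puigSeq G (2 * n) ≤ Cfsg.puigSeq G (2 * n + 2) ∧ Cfsg.puigSeq G (2 * n) ≤ Cfsg.puigSeq G (2 * m + 1) ∧
        Cfsg.puigSeq G (2 * m + 3) ≤ Cfsg.puigSeq G (2 * m + 1)) ∧
      (∃ k : ℕ, ∀ n : ℕ, k ≤ n → Cfsg.puigSeq G (2 * n) = Cfsg.puigLower G ∧ Cfsg.puigSeq G (2 * n + 1) = Cfsg.puigSubgroup G) ∧
      Cfsg.puigLower G ≤ Cfsg.puigSubgroup G ∧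
      Cfsg.puigStep (Cfsg.puigLower G) = Cfsg.puigSubgroup G ∧ Cfsg.puigStep (Cfsg.puigSubgroup G) = Cfsg.puigLower G := by
  refine ⟨rfl, puigSeq_one, ?_, ?_⟩
  · intro n m
    exact ⟨(puigSeq_ineq n).2.2.1, puigSeq_even_le_odd n m, (puigSeq_ineq m).2.2.2⟩
  -- stabilisation
  have hfin : Finite (Subgroup G) := inferInstance
  obtain ⟨k₁, hk₁⟩ := WellFoundedGT.monotone_chain_condition
    (⟨fun n => puigSeq G (2 * n), puigSeq_even_mono⟩ : ℕ →o Subgroup G)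
  obtain ⟨k₂, hk₂⟩ := WellFoundedLT.antitone_chain_condition (puigSeq_odd_anti (G := G))
  have hk₁' : ∀ m, k₁ ≤ m → puigSeq G (2 * k₁) = puigSeq G (2 * m) := hk₁
  have hlow : ∀ n, k₁ ≤ n → puigSeq G (2 * n) = puigLower G := by
    intro n hn
    apply le_antisymm
    · exact le_iSup (fun n => puigSeq G (2 * n)) n
    · apply iSup_le
      intro m
      rcases le_total m n with h | h
      · exact puigSeq_even_mono h
      · rw [← hk₁' n hn, hk₁' m (hn.trans h)]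
  have hup : ∀ n, k₂ ≤ n → puigSeq G (2 * n + 1) = puigSubgroup G := by
    intro n hn
    apply le_antisymm
    · apply le_iInf
      intro m
      rcases le_total m n with h | h
      · exact puigSeq_odd_anti h
      · rw [← hk₂ n hn, hk₂ m (hn.trans h)]
    · exact iInf_le (fun n => puigSeq G (2 * n + 1)) n
  set k := max k₁ k₂ with hk
  have hkk₁ : k₁ ≤ k := le_max_left _ _
  have hkk₂ : k₂ ≤ k := le_max_right _ _
  refine ⟨⟨k, fun n hn => ⟨hlow n (hkk₁.trans hn), hup n (hkk₂.trans hn)⟩⟩, ?_, ?_, ?_⟩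
  · rw [← hlow k hkk₁, ← hup k hkk₂]
    exact (puigSeq_ineq k).1
  · rw [← hlow k hkk₁, ← hup k hkk₂]
    rfl
  · rw [← hup k hkk₂, ← hlow (k + 1) (hkk₁.trans (Nat.le_succ k))]
    rfl

end Cfsg.Agent.S1467
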