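import Cfsg.Statements.S1466
import Mathlib
import Cfsg.Agent.S1467

set_option autoImplicit false
open Cfsg

namespace Cfsg.Agent.S1466

open Cfsg

/-- In a finite `p`-group, a non-trivial normal subgroup meets the centre non-trivially. -/
theorem exists_mem_center_of_normal {P : Type*} [Group P] [Finite P] {p : ℕ} [hp : Fact p.Prime]
    (hP : IsPGroup p P) (N : Subgroup P) [hN : N.Normal] (hNb : N ≠ ⊥) :
    ∃ z ∈ N, z ≠ 1 ∧ z ∈ Subgroup.center P := by
  have hntN : Nontrivial N := (Subgroup.nontrivial_iff_ne_bot N).mpr hNb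
  have hNp : IsPGroup p N := hP.to_subgroup N
  have dvd : p ∣ Nat.card N := by
    obtain ⟨n, hn0, hn⟩ := hNp.nontrivial_iff_card.mp inferInstance
    exact hn.symm ▸ dvd_pow_self _ (ne_of_gt hn0)
  have h1 : (1 : N) ∈ MulAction.fixedPoints (ConjAct P) N := by
    intro g
    apply Subtype.ext
    rw [ConjAct.Subgroup.val_conj_smul]
    simp
  obtain ⟨b, hb, hb1⟩ :=
    (hP.of_equiv ConjAct.toConjAct).exists_fixed_point_of_prime_dvd_card_of_fixed_point N dvd h1
  refine ⟨b.1, b.2, fun h => hb1 (Subtype.ext h.symm), ?_⟩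
  rw [Subgroup.mem_center_iff]
  intro g
  have := hb (ConjAct.toConjAct g)
  have h2 : g * b.1 * g⁻¹ = b.1 := by
    have h3 := congrArg Subtype.val this
    rw [ConjAct.Subgroup.val_conj_smul, ConjAct.smul_def] at h3
    simpa using h3
  calc g * b.1 = g * b.1 * g⁻¹ * g := by group
    _ = b.1 * g := by rw [h2]


/-- Lemma K: a normal subgroup of a finite `p`-group containing every abelian normal subgroup
contains its own centraliser. -/
theorem centralizer_le_of_abelian_normal_le {R : Type*} [Group R] [Finite R] {p : ℕ}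
    [hp : Fact p.Prime] (hR : IsPGroup p R) (N : Subgroup R) [hN : N.Normal]
    (hab : ∀ A : Subgroup R, A.Normal → IsMulCommutative A → A ≤ N) :
    Subgroup.centralizer (N : Set R) ≤ N := by
  by_contra hcon
  set C := Subgroup.centralizer (N : Set R) with hC
  have hCn : C.Normal := Subgroup.normal_centralizer
  -- the image of `C` in the quotient
  let π := QuotientGroup.mk' N
  have hπs : Function.Surjective π := QuotientGroup.mk'_surjective N
  set Cbar := C.map π with hCbar
  have hCbarn : Cbar.Normal := hCn.map π hπs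
  have hCbarb : Cbar ≠ ⊥ := by
    intro h
    apply hcon
    intro c hc
    have : π c ∈ Cbar := ⟨c, hc, rfl⟩
    rw [h, Subgroup.mem_bot] at this
    exact (QuotientGroup.eq_one_iff c).mp this
  have hQ : IsPGroup p (R ⧸ N) := hR.to_quotient N
  obtain ⟨zbar, hz1, hz2, hz3⟩ := exists_mem_center_of_normal hQ Cbar hCbarb
  obtain ⟨c, hcC, rfl⟩ := hz1
  have hcN : c ∉ N := fun h => hz2 ((QuotientGroup.eq_one_iff c).mpr h)
  -- `c` is central modulo `N`
  have hcent : ∀ x : R, x * c * x⁻¹ * c⁻¹ ∈ N := by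
    intro x
    have h1 := (Subgroup.mem_center_iff.mp hz3) (π x)
    rw [← QuotientGroup.eq_one_iff]
    show π (x * c * x⁻¹ * c⁻¹) = 1
    rw [map_mul, map_mul, map_mul, map_inv, map_inv, h1]
    group
  set Z : Subgroup R := N ⊓ C with hZ
  have hZn : Z.Normal := inferInstance
  have hcomm_gen : ∀ x ∈ ({c} ∪ (Z : Set R)), ∀ y ∈ ({c} ∪ (Z : Set R)), x * y = y * x := by
    have hcz : ∀ z ∈ Z, c * z = z * c := by
      intro z hz
      exact ((Subgroup.mem_centralizer_iff.mp hcC) z hz.1).symm
    have hzz : ∀ z ∈ Z, ∀ w ∈ Z, z * w = w * z := by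
      intro z hz w hw
      exact ((Subgroup.mem_centralizer_iff.mp hw.2) z hz.1)
    rintro x (hx | hx) y (hy | hy)
    · rw [Set.mem_singleton_iff] at hx hy; rw [hx, hy]
    · rw [Set.mem_singleton_iff] at hx; rw [hx]; exact hcz y hy
    · rw [Set.mem_singleton_iff] at hy; rw [hy]; exact (hcz x hx).symm
    · exact hzz x hx y hy
  set A := Subgroup.closure ({c} ∪ (Z : Set R)) with hA
  have hAcomm : IsMulCommutative A := Subgroup.isMulCommutative_closure hcomm_gen
  have hZA : Z ≤ A := by
    intro z hz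
    exact Subgroup.subset_closure (Or.inr hz)
  have hcA : c ∈ A := Subgroup.subset_closure (Or.inl rfl)
  have hAn : A.Normal := by
    constructor
    intro a ha x
    induction ha using Subgroup.closure_induction with
    | mem y hy =>
      rcases hy with hy | hy
      · rw [Set.mem_singleton_iff] at hy
        subst hy
        have h1 : x * y * x⁻¹ * y⁻¹ ∈ Z := ⟨hcent x, C.mul_mem (hCn.conj_mem y hcC x) (C.inv_mem hcC)⟩
        have h2 : x * y * x⁻¹ = (x * y * x⁻¹ * y⁻¹) * y := by group
        rw [h2]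
        exact A.mul_mem (hZA h1) hcA
      · exact hZA (hZn.conj_mem y hy x)
    | one => simp
    | mul y z _ _ hy hz =>
      have : x * (y * z) * x⁻¹ = (x * y * x⁻¹) * (x * z * x⁻¹) := by group
      rw [this]; exact A.mul_mem hy hz
    | inv y _ hy =>
      have : x * y⁻¹ * x⁻¹ = (x * y * x⁻¹)⁻¹ := by group
      rw [this]; exact A.inv_mem hy
  exact hcN (hab A hAn hAcomm hcA)


theorem puigStep_normal {G : Type*} [Group G] (X : Subgroup G) [hX : X.Normal] :
    (puigStep X).Normal := by
  constructor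
  intro a ha x
  unfold puigStep at ha ⊢
  rw [sSup_eq_iSup'] at ha ⊢
  refine Subgroup.iSup_induction
    (C := fun a => x * a * x⁻¹ ∈ ⨆ A : {A : Subgroup G | IsMulCommutative A ∧
      X ≤ Subgroup.normalizer (A : Set G)}, (A : Subgroup G)) _ ha ?_ ?_ ?_
  · intro A y hy
    -- the conjugate of `A`
    obtain ⟨A, hAc, hAX⟩ := A
    let B : Subgroup G := A.map (MulAut.conj x).toMonoidHom
    have hBmem : B ∈ {A : Subgroup G | IsMulCommutative A ∧ X ≤ Subgroup.normalizer (A : Set G)} := by
      constructor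
      · exact Subgroup.map_isMulCommutative A _
      · intro g hg
        have hg' : x⁻¹ * g * x ∈ X := by
          have := hX.conj_mem g hg x⁻¹
          rwa [inv_inv] at this
        have h1 := hAX hg'
        rw [Subgroup.mem_normalizer_iff] at h1 ⊢
        intro b
        constructor
        · rintro ⟨a, ha, rfl⟩
          refine ⟨(x⁻¹ * g * x) * a * (x⁻¹ * g * x)⁻¹, (h1 a).mp ha, ?_⟩
          simp only [MulEquiv.coe_toMonoidHom, MulAut.conj_apply]
          group
        · rintro ⟨a, ha, hab⟩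
          refine ⟨(x⁻¹ * g * x)⁻¹ * a * (x⁻¹ * g * x), ?_, ?_⟩
          · have := (h1 ((x⁻¹ * g * x)⁻¹ * a * (x⁻¹ * g * x))).mpr
            apply this
            have e : x⁻¹ * g * x * ((x⁻¹ * g * x)⁻¹ * a * (x⁻¹ * g * x)) * (x⁻¹ * g * x)⁻¹ = a := by
              group
            rw [e]; exact ha
          · simp only [MulEquiv.coe_toMonoidHom, MulAut.conj_apply] at hab ⊢
            have e : b = g⁻¹ * (g * b * g⁻¹) * g := by group
            rw [e, ← hab]
            group
    have : x * y * x⁻¹ ∈ B := ⟨y, hy, rfl⟩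
    exact Subgroup.mem_iSup_of_mem ⟨B, hBmem⟩ this
  · simp
  · intro y z hy hz
    have : x * (y * z) * x⁻¹ = (x * y * x⁻¹) * (x * z * x⁻¹) := by group
    rw [this]; exact Subgroup.mul_mem _ hy hz

theorem puigSeq_normal {G : Type*} [Group G] (i : ℕ) : (puigSeq G i).Normal := by
  induction i with
  | zero => exact Subgroup.normal_bot
  | succ k ih => exact @puigStep_normal G _ (puigSeq G k) ih


/-- Let p be a prime and R a nontrivial finite p-group. Then for every i > 0, Z(R) ≤ C_R(L_i(R)) ≤ L_i(R); likewise Z(R) ≤ C_R(L_*(R)) ≤ L_*(R) and Z(R) ≤ C_R(L(R)) ≤ L(R); and L(R) ≠ 1, L_*(R) ≠ 1. -/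
theorem result {R : Type*} [Group R] [Finite R] (p : ℕ) [Fact p.Prime] (hR : IsPGroup p R) [Nontrivial R] :
    (∀ i : ℕ, 0 < i → Subgroup.center R ≤ Subgroup.centralizer ((Cfsg.puigSeq R i : Subgroup R) : Set R) ∧
        Subgroup.centralizer ((Cfsg.puigSeq R i : Subgroup R) : Set R) ≤ Cfsg.puigSeq R i) ∧
      (Subgroup.center R ≤ Subgroup.centralizer ((Cfsg.puigLower R : Subgroup R) : Set R) ∧ Subgroup.centralizer ((Cfsg.puigLower R : Subgroup R) : Set R) ≤ Cfsg.puigLower R) ∧
      (Subgroup.center R ≤ Subgroup.centralizer ((Cfsg.puigSubgroup R : Subgroup R) : Set R) ∧ Subgroup.centralizer ((Cfsg.puigSubgroup R : Subgroup R) : Set R) ≤ Cfsg.puigSubgroup R) ∧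
      Cfsg.puigSubgroup R ≠ ⊥ ∧ Cfsg.puigLower R ≠ ⊥ := by
  have key : ∀ i : ℕ, 0 < i →
      Subgroup.centralizer ((Cfsg.puigSeq R i : Subgroup R) : Set R) ≤ Cfsg.puigSeq R i := by
    intro i hi
    obtain ⟨k, rfl⟩ : ∃ k, i = k + 1 := ⟨i - 1, by omega⟩
    have hn : (puigSeq R (k + 1)).Normal := puigSeq_normal (k + 1)
    apply centralizer_le_of_abelian_normal_le hR
    intro A hAn hAc
    show A ≤ puigStep (puigSeq R k)
    apply le_sSup
    refine ⟨hAc, ?_⟩
    rw [Subgroup.normalizer_eq_top_iff.mpr hAn]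
    exact le_top
  obtain ⟨_, _, _, ⟨k, hk⟩, _, _, _⟩ := Cfsg.Agent.S1467.result (G := R)
  have hlow : puigSeq R (2 * (k + 1)) = puigLower R := (hk (k + 1) (Nat.le_succ k)).1
  have hup : puigSeq R (2 * k + 1) = puigSubgroup R := (hk k le_rfl).2
  have klow : Subgroup.centralizer ((Cfsg.puigLower R : Subgroup R) : Set R) ≤ Cfsg.puigLower R := by
    rw [← hlow]; exact key _ (by omega)
  have kup : Subgroup.centralizer ((Cfsg.puigSubgroup R : Subgroup R) : Set R) ≤ Cfsg.puigSubgroup R := by
    rw [← hup]; exact key _ (by omega)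
  have hne : ∀ L : Subgroup R, Subgroup.centralizer (L : Set R) ≤ L → L ≠ ⊥ := by
    intro L hL h
    rw [h] at hL
    have htop : (⊤ : Subgroup R) ≤ ⊥ := by
      refine le_trans ?_ hL
      intro x _
      rw [Subgroup.mem_centralizer_iff]
      intro y hy
      rw [Subgroup.coe_bot, Set.mem_singleton_iff] at hy
      rw [hy, one_mul, mul_one]
    have : (⊤ : Subgroup R) = ⊥ := le_antisymm htop bot_le
    exact top_ne_bot this
  exact ⟨fun i hi => ⟨Subgroup.center_le_centralizer _, key i hi⟩,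
    ⟨Subgroup.center_le_centralizer _, klow⟩, ⟨Subgroup.center_le_centralizer _, kup⟩,
    hne _ kup, hne _ klow⟩

end Cfsg.Agent.S1466
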