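import Cfsg.Statements.S1477
import Mathlib
import Cfsg.Agent.Lib.Helper4.Nilpotent
import Cfsg.Agent.S1466
import Cfsg.Agent.S1442

namespace Cfsg.Agent.S1477

open Cfsg.Agent.Lib.Helper4.Nilpotent

variable {G : Type*} [Group G] [Finite G]

/-- the Sylow `p`-subgroup of a subgroup `H`, as a subgroup of `G` -/
noncomputable def pPart (H : Subgroup G) (p : ℕ) [Fact p.Prime] : Subgroup G :=
  ((Classical.choice (inferInstance : Nonempty (Sylow p H)) : Sylow p H) : Subgroup H).map H.subtype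

lemma pPart_le (H : Subgroup G) (p : ℕ) [Fact p.Prime] : pPart H p ≤ H :=
  Subgroup.map_subtype_le _

lemma pPart_isPGroup (H : Subgroup G) (p : ℕ) [Fact p.Prime] : IsPGroup p (pPart H p) :=
  (Sylow.isPGroup' _).map _

lemma mem_pPart_iff (H : Subgroup G) (hH : Group.IsNilpotent H) (p : ℕ) [Fact p.Prime] (x : G) :
    x ∈ pPart H p ↔ x ∈ H ∧ ∃ k : ℕ, x ^ p ^ k = 1 := by
  constructor
  · intro hx
    refine ⟨pPart_le H p hx, ?_⟩
    obtain ⟨k, hk⟩ := pPart_isPGroup H p ⟨x, hx⟩
    exact ⟨k, congrArg Subtype.val hk⟩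
  · rintro ⟨hxH, k, hk⟩
    refine ⟨⟨x, hxH⟩, ?_, rfl⟩
    exact mem_sylow_of_pow_eq_one _ _ k (Subtype.ext hk)

lemma pPart_ne_bot (H : Subgroup G) (p : ℕ) [Fact p.Prime] (hp : p ∣ Nat.card H) :
    pPart H p ≠ ⊥ := by
  intro h
  have h1 := Sylow.ne_bot_of_dvd_card
    (Classical.choice (inferInstance : Nonempty (Sylow p H)) : Sylow p H) hp
  apply h1
  rw [eq_bot_iff]
  intro y hy
  have : (y : G) ∈ pPart H p := ⟨y, hy, rfl⟩
  rw [h, Subgroup.mem_bot] at this
  rw [Subgroup.mem_bot]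
  exact Subtype.ext this

lemma pPart_index_not_dvd (H : Subgroup G) (p : ℕ) [Fact p.Prime] (hidx : ¬ p ∣ H.index) :
    ¬ p ∣ (pPart H p).index := by
  unfold pPart
  rw [Subgroup.index_map_subtype]
  intro h
  rcases (Nat.Prime.dvd_mul Fact.out).mp h with h | h
  · exact (Sylow.not_dvd_index _) h
  · exact hidx h

/-- central elements of the `p`-part are central in `H` -/
lemma center_pPart (H : Subgroup G) (hH : Group.IsNilpotent H) (p : ℕ) [Fact p.Prime] (z : G)
    (hz : z ∈ pPart H p) (hzc : ∀ w ∈ pPart H p, w * z = z * w) : ∀ h ∈ H, h * z = z * h := by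
  obtain ⟨y, hy, rfl⟩ := hz
  have := mem_center_of_mem_center_sylow _ y hy (by
    intro w hw
    have := hzc (w : G) ⟨w, hw, rfl⟩
    exact Subtype.ext this)
  intro h hh
  have := (Subgroup.mem_center_iff.mp this) ⟨h, hh⟩
  exact congrArg Subtype.val this

lemma exists_center_pPart (H : Subgroup G) (p : ℕ) [Fact p.Prime] (hp : p ∣ Nat.card H) :
    ∃ z ∈ pPart H p, z ≠ 1 ∧ ∀ w ∈ pPart H p, w * z = z * w := by
  have hne := pPart_ne_bot H p hp
  have htop : (⊤ : Subgroup (pPart H p)) ≠ ⊥ := by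
    intro h
    apply hne
    rw [eq_bot_iff]
    intro x hx
    have : (⟨x, hx⟩ : pPart H p) ∈ (⊤ : Subgroup (pPart H p)) := trivial
    rw [h, Subgroup.mem_bot] at this
    rw [Subgroup.mem_bot]
    exact congrArg Subtype.val this
  obtain ⟨z, -, hz1, hzc⟩ := Cfsg.Agent.S1466.exists_mem_center_of_normal (pPart_isPGroup H p) ⊤ htop
  refine ⟨(z : G), z.2, fun h => hz1 (Subtype.ext h), ?_⟩
  intro w hw
  have := (Subgroup.mem_center_iff.mp hzc) ⟨w, hw⟩
  exact congrArg Subtype.val this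

lemma commute_of_mem_nilpotent (L : Subgroup G) (hL : Group.IsNilpotent L) {x y : G}
    (hx : x ∈ L) (hy : y ∈ L) (hc : (orderOf x).Coprime (orderOf y)) : x * y = y * x := by
  have := commute_of_coprime_orderOf L ⟨x, hx⟩ ⟨y, hy⟩ (by
    rw [Subgroup.orderOf_mk, Subgroup.orderOf_mk]; exact hc)
  exact congrArg Subtype.val this


/-- the centralizer of a nonidentity central element of a maximal nilpotent subgroup -/
lemma centralizer_eq (hCN : Cfsg.IsCNGroup G) (H : Subgroup G)
    (hmax : ∀ L : Subgroup G, Group.IsNilpotent L → H ≤ L → L = H) (z : G) (hz1 : z ≠ 1)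
    (hzc : ∀ h ∈ H, h * z = z * h) : Subgroup.centralizer ({z} : Set G) = H := by
  apply hmax _ (hCN z hz1)
  intro h hh
  exact Subgroup.mem_centralizer_singleton_iff.mpr (hzc h hh)

lemma part1 (hCN : Cfsg.IsCNGroup G) (H : Subgroup G) (hH : Group.IsNilpotent H)
    (hmax : ∀ L : Subgroup G, Group.IsNilpotent L → H ≤ L → L = H) :
    (Nat.card H).Coprime H.index := by
  by_contra hnc
  obtain ⟨p, hp, hpH, hpI⟩ := Nat.Prime.not_coprime_iff_dvd.mp hnc
  have hpf := Fact.mk hp
  have hPp := pPart_isPGroup H p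
  obtain ⟨S, hS⟩ := hPp.exists_le_sylow
  -- the `p`-part is not Sylow in `G`
  have hne : pPart H p ≠ (S : Subgroup G) := by
    intro h
    have h1 : p ∣ (pPart H p).index := by
      unfold pPart
      rw [Subgroup.index_map_subtype]
      exact Dvd.dvd.mul_left hpI _
    rw [h] at h1
    exact S.not_dvd_index h1
  have hlt : (pPart H p).subgroupOf (S : Subgroup G) < ⊤ := by
    rw [lt_top_iff_ne_top]
    intro h
    apply hne
    apply le_antisymm hS
    intro s hs
    have : (⟨s, hs⟩ : (S : Subgroup G)) ∈ (pPart H p).subgroupOf (S : Subgroup G) := by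
      rw [h]; trivial
    exact Subgroup.mem_subgroupOf.mp this
  have hSn : Group.IsNilpotent (S : Subgroup G) := S.isPGroup'.isNilpotent
  have hnc := Group.normalizerCondition_of_isNilpotent (G := (S : Subgroup G)) _ hlt
  obtain ⟨t, ht1, ht2⟩ := SetLike.exists_of_lt hnc
  have htP : (t : G) ∉ pPart H p := fun h => ht2 (Subgroup.mem_subgroupOf.mpr h)
  -- the `p`-group `T` generated inside `S` by the normalizer of the `p`-part
  set T : Subgroup G := (S : Subgroup G) ⊓ Subgroup.normalizer ((pPart H p : Subgroup G) : Set G)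
    with hT
  have htT : (t : G) ∈ T := by
    refine ⟨t.2, ?_⟩
    show (t : G) ∈ Subgroup.normalizer ((pPart H p : Subgroup G) : Set G)
    rw [Subgroup.mem_normalizer_iff]
    intro x
    have h1 := Subgroup.mem_normalizer_iff.mp ht1
    constructor
    · intro hx
      have hxS : x ∈ (S : Subgroup G) := hS hx
      have := (h1 ⟨x, hxS⟩).mp (Subgroup.mem_subgroupOf.mpr hx)
      rw [Subgroup.mem_subgroupOf] at this
      simpa using this
    · intro hx
      have hxS : x ∈ (S : Subgroup G) := by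
        have h2 : (t : G)⁻¹ * ((t : G) * x * (t : G)⁻¹) * (t : G) ∈ (S : Subgroup G) :=
          Subgroup.mul_mem _ (Subgroup.mul_mem _ (Subgroup.inv_mem _ t.2) (hS hx)) t.2
        have e : (t : G)⁻¹ * ((t : G) * x * (t : G)⁻¹) * (t : G) = x := by group
        rwa [e] at h2
      have := (h1 ⟨x, hxS⟩).mpr (by
        rw [Subgroup.mem_subgroupOf]
        simpa using hx)
      exact Subgroup.mem_subgroupOf.mp this
  have hPT : pPart H p ≤ T := le_inf hS Subgroup.le_normalizer
  have hTp : IsPGroup p T := S.isPGroup'.to_le inf_le_left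
  have hNn : ((pPart H p).subgroupOf T).Normal :=
    Subgroup.normal_subgroupOf_of_le_normalizer inf_le_right
  have hNb : (pPart H p).subgroupOf T ≠ ⊥ := by
    intro h
    apply pPart_ne_bot H p hpH
    rw [eq_bot_iff]
    intro x hx
    have : (⟨x, hPT hx⟩ : T) ∈ (pPart H p).subgroupOf T := Subgroup.mem_subgroupOf.mpr hx
    rw [h, Subgroup.mem_bot] at this
    rw [Subgroup.mem_bot]
    exact congrArg Subtype.val this
  obtain ⟨z, hzN, hz1, hzc⟩ := Cfsg.Agent.S1466.exists_mem_center_of_normal hTp _ hNb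
  have hzP : (z : G) ∈ pPart H p := Subgroup.mem_subgroupOf.mp hzN
  have hz1' : (z : G) ≠ 1 := fun h => hz1 (Subtype.ext h)
  have hzcT : ∀ w ∈ T, w * (z : G) = (z : G) * w := by
    intro w hw
    have := (Subgroup.mem_center_iff.mp hzc) ⟨w, hw⟩
    exact congrArg Subtype.val this
  have hzH := center_pPart H hH p (z : G) hzP (fun w hw => hzcT w (hPT hw))
  have hC := centralizer_eq hCN H hmax (z : G) hz1' hzH
  have htH : (t : G) ∈ H := by
    rw [← hC]
    exact Subgroup.mem_centralizer_singleton_iff.mpr (hzcT _ htT)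
  apply htP
  rw [mem_pPart_iff H hH]
  refine ⟨htH, ?_⟩
  obtain ⟨k, hk⟩ := S.isPGroup' t
  exact ⟨k, congrArg Subtype.val hk⟩


/-- by part 1 the `p`-part of `H` is a Sylow subgroup of `G` -/
lemma eq_pPart_of_le (H : Subgroup G) (hcop : (Nat.card H).Coprime H.index) (p : ℕ)
    [hpf : Fact p.Prime] (hp : p ∣ Nat.card H) (R : Subgroup G) (hR : IsPGroup p R)
    (hle : pPart H p ≤ R) : R = pPart H p := by
  have hidx : ¬ p ∣ H.index := by
    intro h
    have := Nat.dvd_gcd hp h
    rw [hcop.gcd_eq_one] at this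
    exact hpf.out.one_lt.ne' (Nat.dvd_one.mp this)
  have h2 := pPart_index_not_dvd H p hidx
  have := ((pPart_isPGroup H p).toSylow h2).is_maximal' hR (by
    rw [IsPGroup.toSylow_coe]; exact hle)
  rw [this, IsPGroup.toSylow_coe]

lemma mem_map_conj_iff (H : Subgroup G) (g y : G) :
    y ∈ H.map (MulAut.conj g).toMonoidHom ↔ g⁻¹ * y * g ∈ H := by
  constructor
  · rintro ⟨h, hh, rfl⟩
    have e : g⁻¹ * ((MulAut.conj g).toMonoidHom h) * g = h := by
      show g⁻¹ * (g * h * g⁻¹) * g = h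
      group
    rw [e]; exact hh
  · intro hy
    refine ⟨g⁻¹ * y * g, hy, ?_⟩
    show g * (g⁻¹ * y * g) * g⁻¹ = y
    group

lemma part2 (hCN : Cfsg.IsCNGroup G) (H : Subgroup G) (hH : Group.IsNilpotent H)
    (hmax : ∀ L : Subgroup G, Group.IsNilpotent L → H ≤ L → L = H)
    (hnpp : ¬ IsPrimePow (Nat.card H)) (hne1 : Nat.card H ≠ 1) (g : G)
    (hg : H.map (MulAut.conj g).toMonoidHom ≠ H) :
    H ⊓ H.map (MulAut.conj g).toMonoidHom = ⊥ := by
  have hcop := part1 hCN H hH hmax
  by_contra hnb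
  obtain ⟨x, hx, hx1⟩ : ∃ x ∈ H ⊓ H.map (MulAut.conj g).toMonoidHom, x ≠ 1 := by
    by_contra hcon
    push Not at hcon
    exact hnb ((Subgroup.eq_bot_iff_forall _).mpr hcon)
  -- an element of prime order `p` in the intersection
  have hox : orderOf x ≠ 1 := fun h => hx1 (orderOf_eq_one_iff.mp h)
  obtain ⟨p, hp, hpx⟩ := Nat.exists_prime_and_dvd hox
  have hpf := Fact.mk hp
  set x' := x ^ (orderOf x / p) with hx'
  have hox' : orderOf x' = p := orderOf_pow_orderOf_div (orderOf_pos x).ne' hpx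
  have hx'1 : x' ≠ 1 := by
    intro h; rw [h, orderOf_one] at hox'; exact hp.one_lt.ne hox'
  have hx'm : x' ∈ H ⊓ H.map (MulAut.conj g).toMonoidHom := Subgroup.pow_mem _ hx _
  -- a second prime `q`
  obtain ⟨q, hq, hqH, hqp⟩ : ∃ q : ℕ, q.Prime ∧ q ∣ Nat.card H ∧ q ≠ p := by
    by_contra hcon
    push Not at hcon
    apply hnpp
    have hpos : Nat.card H ≠ 0 := Nat.card_pos.ne'
    have hall : ∀ {r : ℕ}, r.Prime → r ∣ Nat.card H → r = p := fun hr hrd => hcon _ hr hrd
    have := Nat.eq_prime_pow_of_unique_prime_dvd hpos hall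
    rw [this]
    refine ⟨p, (Nat.card H).primeFactorsList.length, hp.prime, ?_, rfl⟩
    rcases Nat.eq_zero_or_pos (Nat.card H).primeFactorsList.length with h0 | h0
    · rw [h0, pow_zero] at this; exact absurd this hne1
    · exact h0
  have hqf := Fact.mk hq
  -- `x'` commutes with the `q`-part of `H` and with its conjugate
  have hcomm1 : ∀ w ∈ pPart H q, w * x' = x' * w := by
    intro w hw
    obtain ⟨k, hk⟩ := ((mem_pPart_iff H hH q w).mp hw).2
    apply commute_of_mem_nilpotent H hH (pPart_le H q hw) hx'm.1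
    rw [hox']
    obtain ⟨i, -, hi⟩ := (Nat.dvd_prime_pow hq).mp (orderOf_dvd_of_pow_eq_one hk)
    rw [hi]
    exact Nat.Coprime.pow_left _ ((Nat.coprime_primes hq hp).mpr hqp)
  have hx'' : g⁻¹ * x' * g ∈ H := (mem_map_conj_iff H g x').mp hx'm.2
  have hox'' : orderOf (g⁻¹ * x' * g) = p := by
    have := (MulAut.conj g⁻¹).orderOf_eq x'
    rw [MulAut.conj_apply, inv_inv] at this
    rw [this, hox']
  have hcomm2 : ∀ w ∈ pPart H q, (g * w * g⁻¹) * x' = x' * (g * w * g⁻¹) := by
    intro w hw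
    obtain ⟨k, hk⟩ := ((mem_pPart_iff H hH q w).mp hw).2
    have h1 : w * (g⁻¹ * x' * g) = (g⁻¹ * x' * g) * w := by
      apply commute_of_mem_nilpotent H hH (pPart_le H q hw) hx''
      rw [hox'']
      obtain ⟨i, -, hi⟩ := (Nat.dvd_prime_pow hq).mp (orderOf_dvd_of_pow_eq_one hk)
      rw [hi]
      exact Nat.Coprime.pow_left _ ((Nat.coprime_primes hq hp).mpr hqp)
    calc g * w * g⁻¹ * x' = g * (w * (g⁻¹ * x' * g)) * g⁻¹ := by group
      _ = g * ((g⁻¹ * x' * g) * w) * g⁻¹ := by rw [h1]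
      _ = x' * (g * w * g⁻¹) := by group
  -- inside the nilpotent centralizer of `x'`
  set C := Subgroup.centralizer ({x'} : Set G) with hC
  have hCn : Group.IsNilpotent C := hCN x' hx'1
  have hQC : pPart H q ≤ pPart C q := by
    intro w hw
    rw [mem_pPart_iff C hCn]
    exact ⟨Subgroup.mem_centralizer_singleton_iff.mpr (hcomm1 w hw),
      ((mem_pPart_iff H hH q w).mp hw).2⟩
  have hQgC : (pPart H q).map (MulAut.conj g).toMonoidHom ≤ pPart C q := by
    rintro _ ⟨w, hw, rfl⟩
    rw [mem_pPart_iff C hCn]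
    refine ⟨Subgroup.mem_centralizer_singleton_iff.mpr (hcomm2 w hw), ?_⟩
    obtain ⟨k, hk⟩ := ((mem_pPart_iff H hH q w).mp hw).2
    refine ⟨k, ?_⟩
    show (g * w * g⁻¹) ^ q ^ k = 1
    rw [conj_pow, hk]; group
  have hR : pPart C q = pPart H q :=
    eq_pPart_of_le H hcop q hqH _ (pPart_isPGroup C q) hQC
  have hQg : (pPart H q).map (MulAut.conj g).toMonoidHom = pPart H q := by
    apply Subgroup.eq_of_le_of_card_ge (hR ▸ hQgC)
    rw [Subgroup.card_map_of_injective (MulAut.conj g).injective]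
  -- a central element of the `q`-part
  obtain ⟨z, hzQ, hz1, hzc⟩ := exists_center_pPart H q hqH
  have hzH := center_pPart H hH q z hzQ hzc
  have hCz := centralizer_eq hCN H hmax z hz1 hzH
  have hzg : z ∈ (pPart H q).map (MulAut.conj g).toMonoidHom := by rw [hQg]; exact hzQ
  obtain ⟨w, hwQ, hwz⟩ := hzg
  have hwz' : g * w * g⁻¹ = z := hwz
  have hw1 : w ≠ 1 := by
    rintro rfl
    apply hz1
    rw [← hwz']; group
  have hwc : ∀ u ∈ pPart H q, u * w = w * u := by
    intro u hu
    have hgu : g * u * g⁻¹ ∈ pPart H q := by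
      rw [← hQg]; exact ⟨u, hu, rfl⟩
    have := hzc _ hgu
    rw [← hwz'] at this
    have e1 : g * (u * w) * g⁻¹ = g * (w * u) * g⁻¹ := by
      calc g * (u * w) * g⁻¹ = (g * u * g⁻¹) * (g * w * g⁻¹) := by group
        _ = (g * w * g⁻¹) * (g * u * g⁻¹) := this
        _ = g * (w * u) * g⁻¹ := by group
    exact mul_left_cancel (mul_right_cancel e1)
  have hwH := center_pPart H hH q w hwQ hwc
  -- then `H` is normalized by `g`
  apply hg
  apply Subgroup.eq_of_le_of_card_ge
  · rintro _ ⟨y, hy, rfl⟩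
    show g * y * g⁻¹ ∈ H
    rw [← hCz]
    apply Subgroup.mem_centralizer_singleton_iff.mpr
    rw [← hwz']
    have := hwH y hy
    calc g * y * g⁻¹ * (g * w * g⁻¹) = g * (y * w) * g⁻¹ := by group
      _ = g * (w * y) * g⁻¹ := by rw [this]
      _ = g * w * g⁻¹ * (g * y * g⁻¹) := by group
  · rw [Subgroup.card_map_of_injective (MulAut.conj g).injective]


lemma isPGroup_zpowers (p : ℕ) (c : G) (k : ℕ) (hk : c ^ p ^ k = 1) :
    IsPGroup p (Subgroup.zpowers c) := by
  rintro ⟨y, hy⟩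
  obtain ⟨m, rfl⟩ := Subgroup.mem_zpowers_iff.mp hy
  refine ⟨k, Subtype.ext ?_⟩
  show (c ^ m) ^ p ^ k = 1
  rw [← zpow_natCast, ← zpow_mul, mul_comm, zpow_mul, zpow_natCast, hk, one_zpow]

lemma zpowers_le_normalizer (P K : Subgroup G) (hconj : ∀ c ∈ K, ∀ w ∈ P, c * w * c⁻¹ ∈ P)
    (c : G) (hc : c ∈ K) : Subgroup.zpowers c ≤ Subgroup.normalizer (P : Set G) := by
  rw [Subgroup.zpowers_le, Subgroup.mem_normalizer_iff]
  intro w
  constructor
  · exact hconj c hc w
  · intro hw
    have := hconj c⁻¹ (K.inv_mem hc) _ hw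
    have e : c⁻¹ * (c * w * c⁻¹) * c⁻¹⁻¹ = w := by group
    rwa [e] at this

lemma part3 (hCN : Cfsg.IsCNGroup G) (H : Subgroup G) (hH : Group.IsNilpotent H)
    (hmax : ∀ L : Subgroup G, Group.IsNilpotent L → H ≤ L → L = H)
    (hTI : ∀ g : G, H.map (MulAut.conj g).toMonoidHom ≠ H →
      H ⊓ H.map (MulAut.conj g).toMonoidHom = ⊥)
    (x : G) (hx : x ∈ H) (hx1 : x ≠ 1) : Subgroup.centralizer ({x} : Set G) ≤ H := by
  have hcop := part1 hCN H hH hmax
  have hox : orderOf x ≠ 1 := fun h => hx1 (orderOf_eq_one_iff.mp h)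
  obtain ⟨p, hp, hpx⟩ := Nat.exists_prime_and_dvd hox
  have hpf := Fact.mk hp
  set x' := x ^ (orderOf x / p) with hx'
  have hox' : orderOf x' = p := orderOf_pow_orderOf_div (orderOf_pos x).ne' hpx
  have hx'1 : x' ≠ 1 := by
    intro h; rw [h, orderOf_one] at hox'; exact hp.one_lt.ne hox'
  have hx'H : x' ∈ H := H.pow_mem hx _
  have hpH : p ∣ Nat.card H := by
    have := orderOf_dvd_natCard (⟨x', hx'H⟩ : H)
    rwa [Subgroup.orderOf_mk, hox'] at this
  have hx'P : x' ∈ pPart H p :=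
    (mem_pPart_iff H hH p x').mpr ⟨hx'H, 1, by rw [pow_one, ← hox']; exact pow_orderOf_eq_one x'⟩
  suffices h : Subgroup.centralizer ({x'} : Set G) ≤ H by
    intro c hc
    apply h
    rw [Subgroup.mem_centralizer_singleton_iff] at hc ⊢
    exact (show Commute c x from hc).pow_right _
  set K := Subgroup.centralizer ({x'} : Set G) with hK
  have hKn : Group.IsNilpotent K := hCN x' hx'1
  have hKN : ∀ c ∈ K, H.map (MulAut.conj c).toMonoidHom = H := by
    intro c hc
    by_contra hne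
    have hbot := hTI c hne
    have hmem : x' ∈ H ⊓ H.map (MulAut.conj c).toMonoidHom := by
      refine ⟨hx'H, ?_⟩
      show x' ∈ H.map (MulAut.conj c).toMonoidHom
      rw [mem_map_conj_iff]
      have hcx : c * x' = x' * c := Subgroup.mem_centralizer_singleton_iff.mp hc
      have e : c⁻¹ * x' * c = x' := by
        calc c⁻¹ * x' * c = c⁻¹ * (x' * c) := by group
          _ = c⁻¹ * (c * x') := by rw [hcx]
          _ = x' := by group
      rw [e]; exact hx'H
    rw [hbot, Subgroup.mem_bot] at hmem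
    exact hx'1 hmem
  have hconjH : ∀ c ∈ K, ∀ h ∈ H, c * h * c⁻¹ ∈ H := by
    intro c hc h hh
    rw [← hKN c hc]; exact ⟨h, hh, rfl⟩
  have hconjP : ∀ c ∈ K, ∀ w ∈ pPart H p, c * w * c⁻¹ ∈ pPart H p := by
    intro c hc w hw
    rw [mem_pPart_iff H hH] at hw ⊢
    refine ⟨hconjH c hc w hw.1, ?_⟩
    obtain ⟨k, hk⟩ := hw.2
    exact ⟨k, by rw [conj_pow, hk]; group⟩
  obtain ⟨z, hzP, hz1, hzc⟩ := exists_center_pPart H p hpH
  have hzH := center_pPart H hH p z hzP hzc
  have hCz := centralizer_eq hCN H hmax z hz1 hzH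
  -- `p`-elements of `K` lie in `H`
  have B1 : ∀ c ∈ K, (∃ k : ℕ, c ^ p ^ k = 1) → c ∈ H := by
    rintro c hc ⟨k, hk⟩
    have hzp := isPGroup_zpowers p c k hk
    have hnorm := zpowers_le_normalizer (pPart H p) K hconjP c hc
    have hsup : IsPGroup p (Subgroup.zpowers c ⊔ pPart H p : Subgroup G) :=
      IsPGroup.to_sup_of_normal_right' hzp (pPart_isPGroup H p) hnorm
    have := eq_pPart_of_le H hcop p hpH _ hsup le_sup_right
    have hcm : c ∈ pPart H p := by
      rw [← this]; exact Subgroup.mem_sup_left (Subgroup.mem_zpowers c)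
    exact pPart_le H p hcm
  -- `p'`-elements of `K` lie in `H`
  have B2 : ∀ d ∈ K, (orderOf d).Coprime p → d ∈ H := by
    intro d hd hdp
    have hA := zpowers_le_normalizer (pPart H p) K hconjP d hd
    have hPn : Group.IsNilpotent (pPart H p) := (pPart_isPGroup H p).isNilpotent
    have hcopA : (Nat.card (Subgroup.zpowers d)).Coprime (Nat.card (pPart H p)) := by
      rw [Nat.card_zpowers]
      obtain ⟨n, hn⟩ := (pPart_isPGroup H p).exists_card_eq
      rw [hn]; exact Nat.Coprime.pow_right _ hdp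
    have hdx : d * x' = x' * d := Subgroup.mem_centralizer_singleton_iff.mp hd
    have hx'C : x' ∈ pPart H p ⊓ Subgroup.centralizer (Subgroup.zpowers d : Set G) := by
      refine ⟨hx'P, ?_⟩
      show x' ∈ Subgroup.centralizer (Subgroup.zpowers d : Set G)
      rw [Subgroup.mem_centralizer_iff]
      intro y hy
      obtain ⟨m, rfl⟩ := Subgroup.mem_zpowers_iff.mp hy
      exact ((show Commute d x' from hdx).zpow_left m)
    have hCond : pPart H p ⊓ Subgroup.centralizer
        ((pPart H p ⊓ Subgroup.centralizer (Subgroup.zpowers d : Set G) : Subgroup G) : Set G) ≤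
        pPart H p ⊓ Subgroup.centralizer (Subgroup.zpowers d : Set G) := by
      rintro w ⟨hwP, hwC⟩
      refine ⟨hwP, ?_⟩
      have hwx : x' * w = w * x' := Subgroup.mem_centralizer_iff.mp hwC x' hx'C
      have hwK : w ∈ K := Subgroup.mem_centralizer_singleton_iff.mpr hwx.symm
      obtain ⟨k, hk⟩ := ((mem_pPart_iff H hH p w).mp hwP).2
      have hwd : w * d = d * w := by
        apply commute_of_mem_nilpotent K hKn hwK hd
        exact Nat.Coprime.coprime_dvd_left (orderOf_dvd_of_pow_eq_one hk)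
          (Nat.Coprime.pow_left _ hdp.symm)
      show w ∈ Subgroup.centralizer (Subgroup.zpowers d : Set G)
      rw [Subgroup.mem_centralizer_iff]
      intro y hy
      obtain ⟨m, rfl⟩ := Subgroup.mem_zpowers_iff.mp hy
      exact ((show Commute d w from hwd.symm).zpow_left m)
    have hres := Cfsg.Agent.S1442.result (pPart H p) (Subgroup.zpowers d) hPn hA hcopA hCond
    have hdz : d * z = z * d :=
      (Subgroup.mem_centralizer_iff.mp (hres (Subgroup.mem_zpowers d)) z hzP).symm
    rw [← hCz]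
    exact Subgroup.mem_centralizer_singleton_iff.mpr hdz
  have htop : H.subgroupOf K = ⊤ := by
    apply Cfsg.Agent.H1.eq_top_of_forall_sylow_le
    intro q hq
    obtain ⟨Q⟩ : Nonempty (Sylow q K) := inferInstance
    refine ⟨Q, ?_⟩
    intro c hc
    rw [Subgroup.mem_subgroupOf]
    obtain ⟨k, hk⟩ := Q.isPGroup' ⟨c, hc⟩
    have hck : (c : G) ^ q ^ k = 1 := by
      have := congrArg (fun y : (Q : Subgroup K) => ((y : K) : G)) hk
      simpa using this
    by_cases hqp : q = p
    · subst hqp; exact B1 c c.2 ⟨k, hck⟩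
    · apply B2 c c.2
      exact Nat.Coprime.coprime_dvd_left (orderOf_dvd_of_pow_eq_one hck)
        (Nat.Coprime.pow_left _ ((Nat.coprime_primes hq.out hp).mpr hqp))
  intro c hc
  have : (⟨c, hc⟩ : K) ∈ H.subgroupOf K := by rw [htop]; trivial
  exact Subgroup.mem_subgroupOf.mp this

/-- Let G be a finite group in which every non-identity element has nilpotent centralizer, and H a nilpotent subgroup not properly contained in any nilpotent subgroup. Then the order of H is coprime to its index; if the order of H is not a prime power then H ∩ gHg⁻¹ = 1 whenever gHg⁻¹ ≠ H; and if H ∩ gHg⁻¹ = 1 whenever gHg⁻¹ ≠ H, then C_G(x) ≤ H for every non-identity x ∈ H. -/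
theorem result {G : Type*} [Group G] [Finite G] (hCN : Cfsg.IsCNGroup G) (H : Subgroup G) (hH : Group.IsNilpotent H)
    (hmax : ∀ L : Subgroup G, Group.IsNilpotent L → H ≤ L → L = H) :
    (Nat.card H).Coprime H.index ∧
      (¬ IsPrimePow (Nat.card H) → Nat.card H ≠ 1 → ∀ g : G, H.map (MulAut.conj g).toMonoidHom ≠ H → H ⊓ H.map (MulAut.conj g).toMonoidHom = ⊥) ∧
      ((∀ g : G, H.map (MulAut.conj g).toMonoidHom ≠ H → H ⊓ H.map (MulAut.conj g).toMonoidHom = ⊥) → ∀ x ∈ H, x ≠ 1 → Subgroup.centralizer ({x} : Set G) ≤ H) :=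
  ⟨part1 hCN H hH hmax, fun h1 h2 g hg => part2 hCN H hH hmax h1 h2 g hg,
    fun hTI x hx hx1 => part3 hCN H hH hmax hTI x hx hx1⟩

end Cfsg.Agent.S1477
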