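import Cfsg.Statements.S0024
import Mathlib
import Cfsg.Agent.H1.CoprimeAction
import Cfsg.Agent.H1.SylowMore

set_option autoImplicit false
open Pointwise
open Cfsg

namespace Cfsg.Agent.S0024

open Cfsg.Agent.H1
open scoped Pointwise commutatorElement

/-- Under coprime action (A normalising K, coprime orders, A or K solvable), any two A-invariant Sylow p-subgroups of K are conjugate by an element of the centraliser of A in K. -/
theorem result {G : Type*} [Group G] [Finite G] (A K : Subgroup G) (hAK : A ≤ Subgroup.normalizer (K : Set G))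
    (hcop : (Nat.card A).Coprime (Nat.card K)) (hsolv : Group.IsSolvable A ∨ Group.IsSolvable K)
    (p : ℕ) [Fact p.Prime] (P Q : Sylow p K)
    (hP : A ≤ Subgroup.normalizer ((P : Subgroup K).map K.subtype : Set G))
    (hQ : A ≤ Subgroup.normalizer ((Q : Subgroup K).map K.subtype : Set G)) :
    ∃ c : K, (c : G) ∈ Subgroup.centralizer (A : Set G) ∧ MulAut.conj c • P = Q := by
  obtain ⟨k, hk⟩ := MulAction.exists_smul_eq K P Q
  obtain ⟨P', hP'⟩ : ∃ P' : Subgroup G, P' = (P : Subgroup K).map K.subtype := ⟨_, rfl⟩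
  have hQ' : (Q : Subgroup K).map K.subtype = P'.map (MulAut.conj (k : G)).toMonoidHom := by
    rw [← hk, sylow_smul_map_subtype, hP']
  rw [← hP'] at hP
  rw [hQ'] at hQ
  have hdisj : K ⊓ A = ⊥ := (Subgroup.disjoint_of_coprime_natCard hcop.symm).eq_bot
  -- B = k⁻¹ A k normalizes P'
  have hBn : ∀ a ∈ A, (k : G)⁻¹ * a * k ∈ Subgroup.normalizer (P' : Set G) := by
    intro a ha
    rw [← map_conj_eq_self_iff]
    have h1 := (map_conj_eq_self_iff a _).mpr (hQ ha)
    rw [map_conj_map_conj] at h1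
    have h2 := congrArg (Subgroup.map (MulAut.conj (k : G)⁻¹).toMonoidHom) h1
    rw [map_conj_map_conj, map_conj_map_conj, inv_mul_cancel, map_conj_one] at h2
    rw [← h2]
    congr 2
    group
  have hB : MulAut.conj (k : G)⁻¹ • A ≤ (Subgroup.normalizer (P' : Set G) ⊓ K) ⊔ A := by
    intro b hb
    rw [mem_conj_smul, inv_inv] at hb
    have hb' := hBn _ hb
    have e1 : (k : G)⁻¹ * ((k : G) * b * (k : G)⁻¹) * k = b := by group
    rw [e1] at hb'
    have e : b = (b * ((k : G) * b * (k : G)⁻¹)⁻¹) * ((k : G) * b * (k : G)⁻¹) := by group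
    rw [e]
    refine mul_mem (Subgroup.mem_sup_left (Subgroup.mem_inf.mpr ⟨?_, ?_⟩)) (Subgroup.mem_sup_right hb)
    · exact mul_mem hb' (inv_mem (hP hb))
    · have h3 : ((k : G) * b * (k : G)⁻¹) * (k : G)⁻¹ * ((k : G) * b * (k : G)⁻¹)⁻¹ ∈ K :=
        (Subgroup.mem_normalizer_iff.mp (hAK hb) _).mp (inv_mem k.2)
      have e2 : b * ((k : G) * b * (k : G)⁻¹)⁻¹ = (k : G)⁻¹ * ((k : G) * b * (k : G)⁻¹ * (k : G)⁻¹ * ((k : G) * b * (k : G)⁻¹)⁻¹)⁻¹ := by group
      rw [e2]
      exact mul_mem (inv_mem k.2) (inv_mem h3)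
  have hAN : A ≤ Subgroup.normalizer ((Subgroup.normalizer (P' : Set G) ⊓ K : Subgroup G) : Set G) :=
    le_trans (le_inf (hP.trans Subgroup.le_normalizer) hAK) Subgroup.inf_normalizer_le_normalizer_inf
  have hcopN : (Nat.card A).Coprime (Nat.card (Subgroup.normalizer (P' : Set G) ⊓ K : Subgroup G)) :=
    Nat.Coprime.coprime_dvd_right (Subgroup.card_dvd_of_le inf_le_right) hcop
  have hsolvN : Group.IsSolvable A ∨ Group.IsSolvable (Subgroup.normalizer (P' : Set G) ⊓ K : Subgroup G) := by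
    rcases hsolv with h | h
    · exact Or.inl h
    · right
      exact Group.isSolvable_of_isSolvable_injective (f := Subgroup.inclusion (inf_le_right : Subgroup.normalizer (P' : Set G) ⊓ K ≤ K))
        (Subgroup.inclusion_injective _)
  obtain ⟨n, hn, hnA⟩ := coprime_conj A _ (MulAut.conj (k : G)⁻¹ • A) hAN hcopN hsolvN hB (card_conj_smul _ _)
  have hnK : n ∈ K := (Subgroup.mem_inf.mp hn).2
  have hnP : n ∈ Subgroup.normalizer (P' : Set G) := (Subgroup.mem_inf.mp hn).1
  have hc : MulAut.conj ((k : G) * n) • A = A := by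
    rw [map_mul, mul_smul, hnA, ← mul_smul, ← map_mul, mul_inv_cancel, map_one, one_smul]
  refine ⟨k * ⟨n, hnK⟩, ?_, ?_⟩
  · exact mem_centralizer_of_conj_eq A K hAK hdisj _ (mul_mem k.2 hnK) hc
  · rw [← Sylow.smul_def]
    apply Sylow.ext
    apply Subgroup.map_injective K.subtype_injective
    rw [sylow_smul_map_subtype, ← hP', hQ']
    show P'.map (MulAut.conj ((k : G) * n)).toMonoidHom = _
    rw [← map_conj_map_conj, (map_conj_eq_self_iff n P').mpr hnP]

end Cfsg.Agent.S0024
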