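import Cfsg.Statements.S0119
import Cfsg.Agent.H1.PGroup
import Cfsg.Agent.H1.Frattini
import Mathlib

set_option autoImplicit false
open Cfsg

namespace Cfsg.Agent.S0119

open Cfsg.Agent.H1
open scoped commutatorElement


/-- If a p'-group A of automorphisms of a p-group G satisfies G = [G, A] and acts trivially on every characteristic abelian subgroup, then G is special with centre equal to the fixed points of A. -/
theorem result {G : Type*} [Group G] [Finite G] {p : ℕ} [Fact p.Prime] (hG : IsPGroup p G) (A : Subgroup (MulAut G)) (hA : Nat.Coprime (Nat.card A) p) (hGA : Subgroup.closure {x : G | ∃ g : G, ∃ a ∈ A, x = g⁻¹ * a g} = ⊤) (hchar : ∀ H : Subgroup G, H.Characteristic → IsMulCommutative H → ∀ a ∈ A, ∀ h ∈ H, a h = h) : Cfsg.IsSpecial p G ∧ (∀ g : G, (g ∈ Subgroup.center G ↔ ∀ a ∈ A, a g = g)) := by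

  classical
  haveI : Fintype A := Fintype.ofFinite A
  -- (a) characteristic abelian subgroups are central
  have stepA : ∀ H : Subgroup G, H.Characteristic → IsMulCommutative H →
      H ≤ Subgroup.center G := by
    intro H hHc hHab m hm
    have hcent : (⊤ : Subgroup G) ≤ Subgroup.centralizer {m} := by
      rw [← hGA, Subgroup.closure_le]
      rintro x ⟨g, a, ha, rfl⟩
      rw [SetLike.mem_coe, Subgroup.mem_centralizer_iff]
      intro h hh
      rw [Set.mem_singleton_iff] at hh
      rw [hh]
      have hHn : H.Normal := inferInstance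
      have h1 : g * m * g⁻¹ ∈ H := hHn.conj_mem m hm g
      have h2 := hchar H hHc hHab a ha _ h1
      have h3 := hchar H hHc hHab a ha m hm
      rw [map_mul, map_mul, map_inv, h3] at h2
      have e : g⁻¹ * a g * m = g⁻¹ * (a g * m * (a g)⁻¹) * a g := by group
      rw [e, h2]; group
    rw [Subgroup.mem_center_iff]
    intro g
    have := Subgroup.mem_centralizer_iff.mp (hcent (Subgroup.mem_top g)) m rfl
    exact this.symm
  -- (b) class at most two
  have hnil : Group.IsNilpotent G := hG.isNilpotent
  have hex : ∃ n, (⊤ : Subgroup G).lowerCentralSeries n = ⊥ :=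
    Subgroup.nilpotent_iff_lowerCentralSeries.mp hnil
  have hclass : commutator G ≤ Subgroup.center G := by
    have hn2 : Nat.find hex ≤ 2 := by
      by_contra hlt
      push Not at hlt
      obtain ⟨m, hm⟩ : ∃ m, Nat.find hex = m + 3 := ⟨Nat.find hex - 3, by omega⟩
      have hspec := Nat.find_spec hex
      rw [hm] at hspec
      obtain ⟨L, hL⟩ : ∃ L : Subgroup G, L = (⊤ : Subgroup G).lowerCentralSeries (m + 1) :=
        ⟨_, rfl⟩
      have hL2 : ⁅⁅L, (⊤ : Subgroup G)⁆, (⊤ : Subgroup G)⁆ = ⊥ := by
        rw [hL, ← Subgroup.lowerCentralSeries_succ, ← Subgroup.lowerCentralSeries_succ]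
        exact hspec
      have hLG' : L ≤ commutator G := by
        rw [hL, ← Subgroup.top_lowerCentralSeries_one]
        exact Subgroup.lowerCentralSeries_antitone ⊤ (by omega)
      have h3 : ⁅⁅(⊤ : Subgroup G), ⊤⁆, L⁆ = ⊥ :=
        Subgroup.commutator_commutator_eq_bot_of_rotate
          (by rw [Subgroup.commutator_comm ⊤ L]; exact hL2) hL2
      have hLcent : L ≤ Subgroup.centralizer (commutator G : Set G) := by
        rw [Subgroup.le_centralizer_iff, commutator_def]
        exact Subgroup.commutator_eq_bot_iff_le_centralizer.mp h3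
      obtain ⟨N, hN⟩ : ∃ N : Subgroup G,
        N = commutator G ⊓ Subgroup.centralizer (commutator G : Set G) := ⟨_, rfl⟩
      have hNc : N.Characteristic := by rw [hN]; infer_instance
      have hNab : IsMulCommutative N := by
        constructor; constructor
        rintro ⟨a, ha⟩ ⟨b, hb⟩
        apply Subtype.ext
        rw [hN] at ha hb
        have := Subgroup.mem_centralizer_iff.mp ha.2 b hb.1
        exact this.symm
      have hNZ := stepA N hNc hNab
      have hLZ : L ≤ Subgroup.center G :=
        fun x hx => hNZ (by rw [hN]; exact ⟨hLG' hx, hLcent hx⟩)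
      have hbot : (⊤ : Subgroup G).lowerCentralSeries (m + 2) = ⊥ := by
        rw [Subgroup.lowerCentralSeries_succ, ← hL,
          Subgroup.commutator_eq_bot_iff_le_centralizer, Subgroup.coe_top,
          Subgroup.centralizer_univ]
        exact hLZ
      have := Nat.find_min' hex hbot
      omega
    have h2 : (⊤ : Subgroup G).lowerCentralSeries 2 = ⊥ := by
      rw [eq_bot_iff, ← Nat.find_spec hex]
      exact Subgroup.lowerCentralSeries_antitone ⊤ hn2
    rw [Subgroup.lowerCentralSeries_succ, Subgroup.top_lowerCentralSeries_one,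
      Subgroup.commutator_eq_bot_iff_le_centralizer, Subgroup.coe_top,
      Subgroup.centralizer_univ] at h2
    exact h2
  have hcomm_central : ∀ x y : G, ⁅x, y⁆ ∈ Subgroup.center G := fun x y =>
    hclass (by
      rw [commutator_def]
      exact Subgroup.commutator_mem_commutator (Subgroup.mem_top x) (Subgroup.mem_top y))
  -- (c) fixed points lie in the derived subgroup
  obtain ⟨τ, hτdef⟩ : ∃ τ : Abelianization G →* Abelianization G,
    τ = ∏ a : A, Abelianization.map (a : MulAut G).toMonoidHom := ⟨_, rfl⟩
  have hτ : ∀ g : G, τ (Abelianization.of g) = ∏ a : A, Abelianization.of ((a : MulAut G) g) := by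
    intro g
    rw [hτdef, MonoidHom.finsetProd_apply]
    apply Finset.prod_congr rfl
    intro a _
    rw [Abelianization.map_of]; rfl
  have hτ1 : ∀ g : G, τ (Abelianization.of g) = 1 := by
    have hle : (⊤ : Subgroup G) ≤ (τ.comp Abelianization.of).ker := by
      rw [← hGA, Subgroup.closure_le]
      rintro x ⟨g, a, ha, rfl⟩
      rw [SetLike.mem_coe, MonoidHom.mem_ker, MonoidHom.comp_apply, map_mul, map_mul, map_inv,
        map_inv, hτ, hτ]
      have : ∏ b : A, Abelianization.of ((b : MulAut G) (a g))
          = ∏ b : A, Abelianization.of ((b : MulAut G) g) := by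
        apply Fintype.prod_equiv (Equiv.mulRight (⟨a, ha⟩ : A))
        intro b
        rfl
      rw [this, inv_mul_cancel]
    intro g
    have := hle (Subgroup.mem_top g)
    rwa [MonoidHom.mem_ker, MonoidHom.comp_apply] at this
  have stepC : ∀ x : G, (∀ a ∈ A, a x = x) → x ∈ commutator G := by
    intro x hx
    have h1 : (Abelianization.of x) ^ (Nat.card A) = 1 := by
      have := hτ1 x
      rw [hτ] at this
      have h2 : ∏ a : A, Abelianization.of ((a : MulAut G) x) = ∏ _a : A, Abelianization.of x := by
        apply Finset.prod_congr rfl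
        intro a _
        rw [hx a a.2]
      rw [h2, Finset.prod_const, Finset.card_univ, ← Nat.card_eq_fintype_card] at this
      exact this
    obtain ⟨k, hk⟩ := hG x
    have h3 : (Abelianization.of x) ^ (p ^ k) = 1 := by rw [← map_pow, hk, map_one]
    have hd1 : orderOf (Abelianization.of x) ∣ Nat.card A := orderOf_dvd_of_pow_eq_one h1
    have hd2 : orderOf (Abelianization.of x) ∣ p ^ k := orderOf_dvd_of_pow_eq_one h3
    have hco : Nat.Coprime (Nat.card A) (p ^ k) := Nat.Coprime.pow_right k hA
    have := Nat.eq_one_of_dvd_coprimes hco hd1 hd2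
    rw [orderOf_eq_one_iff] at this
    rw [← Abelianization.ker_of, MonoidHom.mem_ker]
    exact this
  -- (d) exponent
  have hexp : ∃ e, ∀ x : G, x ^ (p ^ e) ∈ Subgroup.center G := by
    obtain ⟨k, hk⟩ := IsPGroup.iff_card.mp hG
    exact ⟨k, fun x => by rw [← hk, pow_card_eq_one']; exact Subgroup.one_mem _⟩
  have he1 : Nat.find hexp ≤ 1 := by
    by_contra hlt
    push Not at hlt
    obtain ⟨d, hd⟩ : ∃ d, Nat.find hexp = d + 2 := ⟨Nat.find hexp - 2, by omega⟩
    have hspec := Nat.find_spec hexp
    rw [hd] at hspec
    have hkey : ∀ x y : G, ⁅x, y⁆ ^ (p ^ (d + 2)) = 1 := by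
      intro x y
      rw [← commutator_pow_of_central x y (hcomm_central x y)]
      have := hspec x
      rw [Subgroup.mem_center_iff] at this
      rw [commutatorElement_def, ← this y]; group
    obtain ⟨W, hW⟩ : ∃ W : Subgroup G,
      W = Subgroup.closure {y : G | ∃ x : G, y = x ^ (p ^ (d + 1))} := ⟨_, rfl⟩
    have hWc : W.Characteristic := by
      rw [Subgroup.characteristic_iff_map_le]
      intro φ
      rw [hW, MonoidHom.map_closure, Subgroup.closure_le]
      rintro _ ⟨_, ⟨x, rfl⟩, rfl⟩
      apply Subgroup.subset_closure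
      exact ⟨φ x, by simp⟩
    have hWab : IsMulCommutative W := by
      rw [hW]
      apply Subgroup.isMulCommutative_closure
      rintro _ ⟨x, rfl⟩ _ ⟨y, rfl⟩
      have h1 : ⁅x ^ (p ^ (d + 1)), y ^ (p ^ (d + 1))⁆ = 1 := by
        rw [commutator_pow_of_central x _ (hcomm_central x _)]
        rw [← commutatorElement_inv (y ^ (p ^ (d + 1))) x]
        rw [commutator_pow_of_central y x (hcomm_central y x), inv_pow, ← pow_mul, inv_eq_one]
        have : p ^ (d + 1) * p ^ (d + 1) = p ^ (d + 2) * p ^ d := by ring
        rw [this, pow_mul, hkey, one_pow]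
      exact commutatorElement_eq_one_iff_mul_comm.mp h1
    have hWZ := stepA W hWc hWab
    have hall : ∀ x : G, x ^ (p ^ (d + 1)) ∈ Subgroup.center G :=
      fun x => hWZ (by rw [hW]; exact Subgroup.subset_closure ⟨x, rfl⟩)
    have := Nat.find_min' hexp hall
    omega
  have hpow : ∀ x : G, x ^ p ∈ Subgroup.center G := by
    intro x
    have h1 := Nat.find_spec hexp
    have h2 : x ^ (p ^ (Nat.find hexp) * p ^ (1 - Nat.find hexp)) ∈ Subgroup.center G := by
      rw [pow_mul]; exact Subgroup.pow_mem _ (h1 x) _
    have h3 : p ^ (Nat.find hexp) * p ^ (1 - Nat.find hexp) = p := by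
      rw [← pow_add]
      have : Nat.find hexp + (1 - Nat.find hexp) = 1 := by omega
      rw [this, pow_one]
    rwa [h3] at h2
  -- (e) conclusion
  have hZfix : ∀ g ∈ Subgroup.center G, ∀ a ∈ A, a g = g := fun g hg a ha =>
    hchar _ inferInstance inferInstance a ha g hg
  have hG'Z : commutator G = Subgroup.center G :=
    le_antisymm hclass (fun g hg => stepC g (hZfix g hg))
  have hΦle : frattini G ≤ Subgroup.center G := by
    have h1 := frattini_le_comap_frattini_of_surjective
      (QuotientGroup.mk'_surjective (Subgroup.center G))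
    have h2 : frattini (G ⧸ Subgroup.center G) = ⊥ := by
      have hab : IsMulCommutative (G ⧸ Subgroup.center G) :=
        Subgroup.Normal.quotient_commutative_iff_commutator_le.mpr hclass
      apply frattini_eq_bot_of_elementary_abelian (p := p)
      · intro a b
        exact hab.is_comm.comm a b
      · intro v
        induction v using QuotientGroup.induction_on with
        | H x =>
          rw [← QuotientGroup.mk_pow, QuotientGroup.eq_one_iff]; exact hpow x
    rw [h2] at h1
    intro x hx
    have := h1 hx
    rw [Subgroup.mem_comap, Subgroup.mem_bot, QuotientGroup.mk'_apply,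
      QuotientGroup.eq_one_iff] at this
    exact this
  have hΦge : Subgroup.center G ≤ frattini G := by
    rw [← hG'Z]; exact commutator_le_frattini hG
  exact ⟨⟨hG, le_antisymm hΦle hΦge, hG'Z⟩,
    fun g => ⟨fun hg a ha => hZfix g hg a ha, fun hfix => hclass (stepC g hfix)⟩⟩

end Cfsg.Agent.S0119
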