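import Cfsg.Statements.S3078
import Mathlib
import Cfsg.Agent.S0650
import Cfsg.Agent.H1.CoprimeAction
import Cfsg.Agent.Lib.Helper7.WeaklyClosed

set_option autoImplicit false
open Cfsg
open scoped commutatorElement

namespace Cfsg.Agent.S3078

open Cfsg.Agent.Lib.Lead.Conj Cfsg.Agent.S0650

theorem mem_omegaOne_iff_of_comm {S : Type*} [Group S] (p : ℕ) (X : Subgroup S)
    (hX : ∀ x ∈ X, ∀ y ∈ X, x * y = y * x) (x : S) :
    x ∈ Cfsg.omegaOne p X ↔ x ∈ X ∧ x ^ p = 1 := by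
  constructor
  · intro hx
    unfold Cfsg.omegaOne at hx
    induction hx using Subgroup.closure_induction with
    | mem x hx => exact hx
    | one => exact ⟨X.one_mem, one_pow p⟩
    | mul x y _ _ ihx ihy =>
      refine ⟨X.mul_mem ihx.1 ihy.1, ?_⟩
      have hc : Commute x y := hX x ihx.1 y ihy.1
      rw [hc.mul_pow, ihx.2, ihy.2, one_mul]
    | inv x _ ih =>
      refine ⟨X.inv_mem ih.1, ?_⟩
      rw [inv_pow, ih.2, inv_one]
  · intro hx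
    exact Subgroup.subset_closure hx

theorem aux2 {S : Type*} [Group S] [Finite S] {p : ℕ} [Fact p.Prime] (hS : IsPGroup p S)
    (hp2 : p ≠ 2) (B A : Subgroup S) (hAB : A ≤ Subgroup.normalizer (B : Set S))
    (hA : IsMulCommutative A) (hBA : ⁅B, B⁆ ≤ A)
    (b : S) (hb : b ∈ B)
    (N : Subgroup S) (hAleN : A ≤ N) (hNA : N ≤ Subgroup.normalizer (A : Set S))
    (hbN : b ∈ Subgroup.normalizer (N : Set S)) (hbA : b ∉ Subgroup.normalizer (A : Set S))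
    (A₁ : Subgroup S) (hA₁ : A₁ = A.map (MulAut.conj (b⁻¹)).toMonoidHom)
    (s : Set S) (hs : s = {g : S | ∃ a ∈ A, g = a * b⁻¹ * a⁻¹ * b})
    (T : Subgroup S) (hT : T = (A ⊓ A₁) ⊔ Subgroup.closure s) :
    Nat.card T = Nat.card A ∧ IsMulCommutative T ∧ A ⊓ B < T ⊓ B ∧ T ≤ N ∧
    T ≤ Subgroup.normalClosure (A : Set S) ∧ Monoid.exponent T ∣ Monoid.exponent A ∧
    Nat.card (Cfsg.omegaOne p A) ≤ Nat.card (Cfsg.omegaOne p T) := by
  have hp : p.Prime := Fact.out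
  have hBconj : ∀ a ∈ A, ∀ y ∈ B, a * y * a⁻¹ ∈ B := fun a ha y hy =>
    (Subgroup.mem_set_normalizer_iff.mp (hAB ha) y).mp hy
  have hcommA : ∀ a ∈ A, ∀ c ∈ A, a * c = c * a := by
    intro a ha c hc'
    have h1 := hA.is_comm.comm ⟨a, ha⟩ ⟨c, hc'⟩
    have h2 : a * c = c * a := congrArg Subtype.val h1
    exact h2
  have hAN : ∀ n ∈ N, ∀ x, x ∈ A ↔ n * x * n⁻¹ ∈ A := by
    intro n hn
    exact Subgroup.mem_set_normalizer_iff.mp (hNA hn)
  have hN1 : ∀ n ∈ N, b * n * b⁻¹ ∈ N := fun n hn =>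
    (Subgroup.mem_set_normalizer_iff.mp hbN n).mp hn
  have hN2 : ∀ n ∈ N, b⁻¹ * n * b ∈ N := by
    intro n hn
    apply (Subgroup.mem_set_normalizer_iff.mp hbN (b⁻¹ * n * b)).mpr
    have e : b * (b⁻¹ * n * b) * b⁻¹ = n := by group
    rw [e]; exact hn
  have hmem1 : ∀ x, x ∈ A₁ ↔ b * x * b⁻¹ ∈ A := by
    intro x
    rw [hA₁, mem_map_conj, inv_inv]
  have hcommA1 : ∀ x ∈ A₁, ∀ y ∈ A₁, x * y = y * x := by
    intro x hx y hy
    have h1 := hcommA _ ((hmem1 x).mp hx) _ ((hmem1 y).mp hy)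
    calc x * y = b⁻¹ * (b * x * b⁻¹ * (b * y * b⁻¹)) * b := by group
      _ = b⁻¹ * (b * y * b⁻¹ * (b * x * b⁻¹)) * b := by rw [h1]
      _ = y * x := by group
  have hA1N : A₁ ≤ N := by
    intro x hx
    have h1 : b * x * b⁻¹ ∈ N := hAleN ((hmem1 x).mp hx)
    have h2 := hN2 _ h1
    have e : b⁻¹ * (b * x * b⁻¹) * b = x := by group
    rw [e] at h2; exact h2
  have hNA1 : ∀ n ∈ N, ∀ x ∈ A₁, n * x * n⁻¹ ∈ A₁ := by
    intro n hn x hx
    rw [hmem1]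
    have h1 := (hAN _ (hN1 n hn) _).mp ((hmem1 x).mp hx)
    have e : b * n * b⁻¹ * (b * x * b⁻¹) * (b * n * b⁻¹)⁻¹ = b * (n * x * n⁻¹) * b⁻¹ := by group
    rw [e] at h1; exact h1
  have hσA1 : ∀ a ∈ A, b⁻¹ * a * b ∈ A₁ := by
    intro a ha
    rw [hmem1]
    have e : b * (b⁻¹ * a * b) * b⁻¹ = a := by group
    rw [e]; exact ha
  have hcomD2 : ∀ x ∈ A₁, ∀ a ∈ A, x * a * x⁻¹ * a⁻¹ ∈ A ⊓ A₁ := by
    intro x hx a ha
    refine Subgroup.mem_inf.mpr ⟨?_, ?_⟩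
    · have h1 : x * a * x⁻¹ ∈ A := (hAN x (hA1N hx) a).mp ha
      exact A.mul_mem h1 (A.inv_mem ha)
    · have h1 : a * x⁻¹ * a⁻¹ ∈ A₁ := hNA1 a (hAleN ha) x⁻¹ (A₁.inv_mem hx)
      have e : x * a * x⁻¹ * a⁻¹ = x * (a * x⁻¹ * a⁻¹) := by group
      rw [e]; exact A₁.mul_mem hx h1
  have hHcenD : A ⊔ A₁ ≤ Subgroup.centralizer ((A ⊓ A₁ : Subgroup S) : Set S) := by
    apply sup_le
    · intro a ha
      rw [Subgroup.mem_centralizer_iff]
      intro d hd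
      exact hcommA d (Subgroup.mem_inf.mp (SetLike.mem_coe.mp hd)).1 a ha
    · intro x hx
      rw [Subgroup.mem_centralizer_iff]
      intro d hd
      exact hcommA1 d (Subgroup.mem_inf.mp (SetLike.mem_coe.mp hd)).2 x hx
  have hDcen : ∀ d ∈ A ⊓ A₁, ∀ h ∈ A ⊔ A₁, d * h = h * d := by
    intro d hd h hh
    exact Subgroup.mem_centralizer_iff.mp (hHcenD hh) d hd
  have hBBmem : ∀ x ∈ B, ∀ y ∈ B, x * y * x⁻¹ * y⁻¹ ∈ A := by
    intro x hx y hy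
    have h1 : ⁅x, y⁆ ∈ ⁅B, B⁆ := Subgroup.commutator_mem_commutator hx hy
    rw [commutatorElement_def] at h1
    exact hBA h1
  have hABconj1 : ∀ c ∈ A, c ∈ B → b⁻¹ * c * b ∈ A := by
    intro c hcA hcB
    have h1 := hBBmem c⁻¹ (B.inv_mem hcB) b⁻¹ (B.inv_mem hb)
    have e : b⁻¹ * c * b = c * (c⁻¹ * b⁻¹ * c⁻¹⁻¹ * b⁻¹⁻¹) := by group
    rw [e]; exact A.mul_mem hcA h1
  have hABconj2 : ∀ c ∈ A, c ∈ B → b * c * b⁻¹ ∈ A := by
    intro c hcA hcB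
    have h1 := hBBmem c⁻¹ (B.inv_mem hcB) b hb
    have e : b * c * b⁻¹ = c * (c⁻¹ * b * c⁻¹⁻¹ * b⁻¹) := by group
    rw [e]; exact A.mul_mem hcA h1
  have hABD : A ⊓ B ≤ A ⊓ A₁ := by
    intro c hc
    obtain ⟨hcA, hcB⟩ := Subgroup.mem_inf.mp hc
    exact Subgroup.mem_inf.mpr ⟨hcA, (hmem1 c).mpr (hABconj2 c hcA hcB)⟩
  have hBB_B : ⁅B, B⁆ ≤ B := by
    rw [Subgroup.commutator_le]
    intro x hx y hy
    rw [commutatorElement_def]
    exact B.mul_mem (B.mul_mem (B.mul_mem hx hy) (B.inv_mem hx)) (B.inv_mem hy)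
  have hBpD : ⁅B, B⁆ ≤ A ⊓ A₁ := (le_inf hBA hBB_B).trans hABD
  have hBBD : ∀ x ∈ B, ∀ y ∈ B, x * y * x⁻¹ * y⁻¹ ∈ A ⊓ A₁ := by
    intro x hx y hy
    have h1 : ⁅x, y⁆ ∈ ⁅B, B⁆ := Subgroup.commutator_mem_commutator hx hy
    rw [commutatorElement_def] at h1
    exact hBpD h1
  have hDσ : ∀ x ∈ A ⊓ A₁, b⁻¹ * x * b ∈ A ⊓ A₁ := by
    intro x hx
    obtain ⟨hxA, hxA1⟩ := Subgroup.mem_inf.mp hx
    have hy : b * x * b⁻¹ ∈ A := (hmem1 x).mp hxA1
    have hcA : (b * x * b⁻¹)⁻¹ * x ∈ A := A.mul_mem (A.inv_mem hy) hxA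
    have hcB : (b * x * b⁻¹)⁻¹ * x ∈ B := by
      have h1 : x⁻¹ * b⁻¹ * x⁻¹⁻¹ ∈ B := hBconj x⁻¹ (A.inv_mem hxA) b⁻¹ (B.inv_mem hb)
      have e : (b * x * b⁻¹)⁻¹ * x = b * (x⁻¹ * b⁻¹ * x⁻¹⁻¹) := by group
      rw [e]; exact B.mul_mem hb h1
    have h2 := hABconj1 _ hcA hcB
    refine Subgroup.mem_inf.mpr ⟨?_, ?_⟩
    · have e : b⁻¹ * x * b = x * (b⁻¹ * ((b * x * b⁻¹)⁻¹ * x) * b) := by group
      rw [e]; exact A.mul_mem hxA h2
    · rw [hmem1]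
      have e : b * (b⁻¹ * x * b) * b⁻¹ = x := by group
      rw [e]; exact hxA
  have hbND : b ∈ Subgroup.normalizer ((A ⊓ A₁ : Subgroup S) : Set S) :=
    mem_normalizer_of_conj_mem' _ b hDσ
  have hDσ' : ∀ x ∈ A ⊓ A₁, b * x * b⁻¹ ∈ A ⊓ A₁ := fun x hx =>
    (Subgroup.mem_set_normalizer_iff.mp hbND x).mp hx
  have hmA : ∀ a ∈ A, a * b⁻¹ * a⁻¹ * b ∈ s := by
    intro a ha; rw [hs]; exact ⟨a, ha, rfl⟩
  have hmH : ∀ a ∈ A, a * b⁻¹ * a⁻¹ * b ∈ A ⊔ A₁ := by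
    intro a ha
    have h1 : b⁻¹ * a⁻¹ * b ∈ A₁ := hσA1 a⁻¹ (A.inv_mem ha)
    have e : a * b⁻¹ * a⁻¹ * b = a * (b⁻¹ * a⁻¹ * b) := by group
    rw [e]
    exact Subgroup.mul_mem _ (Subgroup.mem_sup_left ha) (Subgroup.mem_sup_right h1)
  have hmB : ∀ a ∈ A, a * b⁻¹ * a⁻¹ * b ∈ B := by
    intro a ha
    exact B.mul_mem (hBconj a ha b⁻¹ (B.inv_mem hb)) hb
  have hMH : Subgroup.closure s ≤ A ⊔ A₁ := by
    rw [Subgroup.closure_le, hs]
    rintro g ⟨a, ha, rfl⟩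
    exact hmH a ha
  have hMB : Subgroup.closure s ≤ B := by
    rw [Subgroup.closure_le, hs]
    rintro g ⟨a, ha, rfl⟩
    exact hmB a ha
  have hDT : A ⊓ A₁ ≤ T := by rw [hT]; exact le_sup_left
  have hMT : Subgroup.closure s ≤ T := by rw [hT]; exact le_sup_right
  have hTH : T ≤ A ⊔ A₁ := by
    rw [hT]; exact sup_le (inf_le_left.trans le_sup_left) hMH
  have hHN : A ⊔ A₁ ≤ N := sup_le hAleN hA1N
  have hTN : T ≤ N := hTH.trans hHN
  have hmT : ∀ a ∈ A, a * b⁻¹ * a⁻¹ * b ∈ T := fun a ha =>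
    hMT (Subgroup.subset_closure (hmA a ha))
  -- `M` is abelian
  have hcommM : ∀ x ∈ Subgroup.closure s, ∀ y ∈ Subgroup.closure s, x * y = y * x := by
    have hAA : ⁅A, A⁆ = ⊥ := by
      rw [Subgroup.commutator_eq_bot_iff_le_centralizer]
      intro a ha
      rw [Subgroup.mem_centralizer_iff]
      intro h hh
      exact hcommA h hh a ha
    have hAB' : A ≤ Subgroup.normalizer (B : Set S) := hAB
    have hc : ⁅⁅B, B⁆, A⁆ = ⊥ := by
      rw [eq_bot_iff, ← hAA]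
      exact Subgroup.commutator_mono hBA le_rfl
    have hcl : Subgroup.closure {g : S | ∃ a ∈ A, g = b⁻¹ * a * b * a⁻¹} =
        Subgroup.closure s := by
      apply le_antisymm
      · rw [Subgroup.closure_le]
        rintro g ⟨a, ha, rfl⟩
        have h1 : a * b⁻¹ * a⁻¹ * b ∈ Subgroup.closure s :=
          Subgroup.subset_closure (hmA a ha)
        have e : b⁻¹ * a * b * a⁻¹ = (a * b⁻¹ * a⁻¹ * b)⁻¹ := by group
        rw [SetLike.mem_coe, e]; exact Subgroup.inv_mem _ h1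
      · rw [Subgroup.closure_le, hs]
        rintro g ⟨a, ha, rfl⟩
        have h1 : b⁻¹ * a * b * a⁻¹ ∈
            Subgroup.closure {g : S | ∃ a ∈ A, g = b⁻¹ * a * b * a⁻¹} :=
          Subgroup.subset_closure ⟨a, ha, rfl⟩
        have e : a * b⁻¹ * a⁻¹ * b = (b⁻¹ * a * b * a⁻¹)⁻¹ := by group
        rw [SetLike.mem_coe, e]; exact Subgroup.inv_mem _ h1
    have hMA : ⁅Subgroup.closure s, A⁆ ≤ A := by
      rw [Subgroup.commutator_le]
      intro m hm a ha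
      have h1 : m * a * m⁻¹ ∈ A := (hAN m (hHN (hMH hm)) a).mp ha
      rw [commutatorElement_def]
      exact A.mul_mem h1 (A.inv_mem ha)
    have hMAA : ⁅⁅Subgroup.closure s, A⁆, A⁆ = ⊥ := by
      rw [eq_bot_iff, ← hAA]
      exact Subgroup.commutator_mono hMA le_rfl
    have hsq := (Cfsg.Agent.S0648.result A B hAB' hc).2 hA b hb
    rw [hcl] at hsq
    have hsq' := hsq hMAA
    intro x hx y hy
    have h1 : ⁅x, y⁆ ^ 2 = 1 := hsq' _ (Subgroup.commutator_mem_commutator hx hy)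
    obtain ⟨k, hk⟩ := hS ⁅x, y⁆
    have hcop : Nat.Coprime 2 (p ^ k) := by
      apply Nat.Coprime.pow_right
      exact (Nat.coprime_primes Nat.prime_two hp).mpr (Ne.symm hp2)
    have h2 : orderOf ⁅x, y⁆ ∣ 2 := orderOf_dvd_of_pow_eq_one h1
    have h3 : orderOf ⁅x, y⁆ ∣ p ^ k := orderOf_dvd_of_pow_eq_one hk
    have h4 : orderOf ⁅x, y⁆ ∣ 1 := by
      have h5 := Nat.dvd_gcd h2 h3
      rwa [hcop.gcd_eq_one] at h5
    have h5 : ⁅x, y⁆ = 1 := orderOf_eq_one_iff.mp (Nat.dvd_one.mp h4)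
    exact commutatorElement_eq_one_iff_mul_comm.mp h5
  -- `T` is abelian
  have hcommT : ∀ x ∈ T, ∀ y ∈ T, x * y = y * x := by
    intro x hx
    have h1 : ∀ d ∈ A ⊓ A₁, d * x = x * d := fun d hd => hDcen d hd x (hTH hx)
    have h2 : ∀ m ∈ Subgroup.closure s, m * x = x * m := by
      have h3 : T ≤ Subgroup.centralizer ((Subgroup.closure s : Subgroup S) : Set S) := by
        rw [hT]
        apply sup_le
        · intro d hd
          rw [Subgroup.mem_centralizer_iff]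
          intro m hm
          exact (hDcen d hd m (hMH hm)).symm
        · intro m' hm'
          rw [Subgroup.mem_centralizer_iff]
          intro m hm
          exact hcommM m hm m' hm'
      intro m hm
      exact Subgroup.mem_centralizer_iff.mp (h3 hx) m hm
    have h4 : T ≤ Subgroup.centralizer ({x} : Set S) := by
      rw [hT]
      apply sup_le
      · intro d hd
        rw [Subgroup.mem_centralizer_iff]
        intro k hk
        rw [Set.mem_singleton_iff.mp hk]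
        exact (h1 d hd).symm
      · intro m hm
        rw [Subgroup.mem_centralizer_iff]
        intro k hk
        rw [Set.mem_singleton_iff.mp hk]
        exact (h2 m hm).symm
    intro y hy
    exact Subgroup.mem_centralizer_iff.mp (h4 hy) x (Set.mem_singleton x)
  -- normal form
  have hnf : ∀ x ∈ T, ∃ a ∈ A, ∃ d ∈ A ⊓ A₁, x = (a * b⁻¹ * a⁻¹ * b) * d := by
    intro x hx
    have hT' : T = Subgroup.closure (((A ⊓ A₁ : Subgroup S) : Set S) ∪ s) := by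
      rw [hT, Subgroup.closure_union, Subgroup.closure_eq]
    rw [hT'] at hx
    induction hx using Subgroup.closure_induction with
    | mem x hx =>
      rcases hx with hx | hx
      · refine ⟨1, A.one_mem, x, hx, ?_⟩
        simp
      · rw [hs] at hx
        obtain ⟨a, ha, rfl⟩ := hx
        exact ⟨a, ha, 1, Subgroup.one_mem _, (mul_one _).symm⟩
    | one => exact ⟨1, A.one_mem, 1, Subgroup.one_mem _, by simp⟩
    | mul x y hx hy ihx ihy =>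
      obtain ⟨a, ha, d, hd, rfl⟩ := ihx
      obtain ⟨a', ha', d', hd', rfl⟩ := ihy
      have hm' : a' * b⁻¹ * a'⁻¹ * b ∈ A ⊔ A₁ := hmH a' ha'
      have hdc : d * (a' * b⁻¹ * a'⁻¹ * b) = (a' * b⁻¹ * a'⁻¹ * b) * d := hDcen d hd _ hm'
      have hu : b⁻¹ * a * b ∈ A₁ := hσA1 a ha
      have hv : b⁻¹ * a' * b ∈ A₁ := hσA1 a' ha'
      have he : (b⁻¹ * a * b) * a'⁻¹ * (b⁻¹ * a * b)⁻¹ * a' ∈ A ⊓ A₁ := by
        have h1 := hcomD2 _ hu a'⁻¹ (A.inv_mem ha')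
        simp only [inv_inv] at h1
        exact h1
      have hev := hDcen _ he (b⁻¹ * a' * b)⁻¹
        (Subgroup.inv_mem _ (Subgroup.mem_sup_right hv))
      have huv := hcommA1 _ (A₁.inv_mem hu) _ (A₁.inv_mem hv)
      have hmf := mul_formula a a' b hev huv
      refine ⟨a * a', A.mul_mem ha ha', _ * (d * d'),
        Subgroup.mul_mem _ he (Subgroup.mul_mem _ hd hd'), ?_⟩
      calc a * b⁻¹ * a⁻¹ * b * d * (a' * b⁻¹ * a'⁻¹ * b * d')
          = (a * b⁻¹ * a⁻¹ * b) * (d * (a' * b⁻¹ * a'⁻¹ * b)) * d' := by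
            simp only [mul_assoc]
        _ = (a * b⁻¹ * a⁻¹ * b) * ((a' * b⁻¹ * a'⁻¹ * b) * d) * d' := by rw [hdc]
        _ = ((a * b⁻¹ * a⁻¹ * b) * (a' * b⁻¹ * a'⁻¹ * b)) * (d * d') := by
            simp only [mul_assoc]
        _ = ((a * a') * b⁻¹ * (a * a')⁻¹ * b *
              ((b⁻¹ * a * b) * a'⁻¹ * (b⁻¹ * a * b)⁻¹ * a')) * (d * d') := by rw [hmf]
        _ = (a * a') * b⁻¹ * (a * a')⁻¹ * b *
              (((b⁻¹ * a * b) * a'⁻¹ * (b⁻¹ * a * b)⁻¹ * a') * (d * d')) := mul_assoc _ _ _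
    | inv x hx ih =>
      obtain ⟨a, ha, d, hd, rfl⟩ := ih
      have hu : b⁻¹ * a * b ∈ A₁ := hσA1 a ha
      have he : (b⁻¹ * a * b)⁻¹ * a * (b⁻¹ * a * b) * a⁻¹ ∈ A ⊓ A₁ := by
        have h1 := hcomD2 _ (A₁.inv_mem hu) a ha
        simp only [inv_inv] at h1
        exact h1
      have hdc : d⁻¹ * (a * b⁻¹ * a⁻¹ * b)⁻¹ = (a * b⁻¹ * a⁻¹ * b)⁻¹ * d⁻¹ :=
        hDcen d⁻¹ (Subgroup.inv_mem _ hd) _ (Subgroup.inv_mem _ (hmH a ha))
      refine ⟨a⁻¹, A.inv_mem ha, _ * d⁻¹,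
        Subgroup.mul_mem _ he (Subgroup.inv_mem _ hd), ?_⟩
      calc (a * b⁻¹ * a⁻¹ * b * d)⁻¹ = d⁻¹ * (a * b⁻¹ * a⁻¹ * b)⁻¹ := mul_inv_rev _ _
        _ = (a * b⁻¹ * a⁻¹ * b)⁻¹ * d⁻¹ := hdc
        _ = a⁻¹ * b⁻¹ * a⁻¹⁻¹ * b *
              ((b⁻¹ * a * b)⁻¹ * a * (b⁻¹ * a * b) * a⁻¹ * d⁻¹) := by group
  -- intersections and joins with `A`
  have hTA : T ⊓ A = A ⊓ A₁ := by
    apply le_antisymm
    · intro x hx
      obtain ⟨hxT, hxA⟩ := Subgroup.mem_inf.mp hx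
      obtain ⟨a, ha, d, hd, hxe⟩ := hnf x hxT
      have hdA : d ∈ A := (Subgroup.mem_inf.mp hd).1
      have hm : a * b⁻¹ * a⁻¹ * b ∈ A := by
        have e : a * b⁻¹ * a⁻¹ * b = x * d⁻¹ := by rw [hxe]; group
        rw [e]; exact A.mul_mem hxA (A.inv_mem hdA)
      have hw : b⁻¹ * a⁻¹ * b ∈ A ⊓ A₁ := by
        refine Subgroup.mem_inf.mpr ⟨?_, hσA1 a⁻¹ (A.inv_mem ha)⟩
        have e : b⁻¹ * a⁻¹ * b = a⁻¹ * (a * b⁻¹ * a⁻¹ * b) := by group
        rw [e]; exact A.mul_mem (A.inv_mem ha) hm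
      have ha' : a⁻¹ ∈ A ⊓ A₁ := by
        have h1 := hDσ' _ hw
        have e : b * (b⁻¹ * a⁻¹ * b) * b⁻¹ = a⁻¹ := by group
        rw [e] at h1; exact h1
      have haD : a ∈ A ⊓ A₁ := by
        have h1 := Subgroup.inv_mem _ ha'
        rwa [inv_inv] at h1
      have h2 : a * (b⁻¹ * a⁻¹ * b) * d ∈ A ⊓ A₁ :=
        Subgroup.mul_mem _ (Subgroup.mul_mem _ haD hw) hd
      have e : a * (b⁻¹ * a⁻¹ * b) * d = x := by rw [hxe]; group
      rw [e] at h2; exact h2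
    · exact le_inf hDT inf_le_left
  have hTsupA : T ⊔ A = A₁ ⊔ A := by
    apply le_antisymm
    · apply sup_le
      · exact hTH.trans (sup_comm A A₁).le
      · exact le_sup_right
    · apply sup_le
      · intro x hx
        have hxa : b * x * b⁻¹ ∈ A := (hmem1 x).mp hx
        have hm := hmT _ (A.inv_mem hxa)
        have h2 : (b * x * b⁻¹) * ((b * x * b⁻¹)⁻¹ * b⁻¹ * (b * x * b⁻¹)⁻¹⁻¹ * b) ∈ T ⊔ A :=
          Subgroup.mul_mem _ (Subgroup.mem_sup_right hxa) (Subgroup.mem_sup_left hm)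
        have e : (b * x * b⁻¹) * ((b * x * b⁻¹)⁻¹ * b⁻¹ * (b * x * b⁻¹)⁻¹⁻¹ * b) = x := by group
        rw [e] at h2; exact h2
      · exact le_sup_right
  have hcard : Nat.card T = Nat.card A := by
    have h1 := Cfsg.Agent.H1.card_sup_mul_card_inf T A (hTN.trans hNA)
    have h2 := Cfsg.Agent.H1.card_sup_mul_card_inf A₁ A (hA1N.trans hNA)
    have h3 : A₁ ⊓ A = A ⊓ A₁ := inf_comm _ _
    have h4 : Nat.card A₁ = Nat.card A := by rw [hA₁]; exact card_map_conj A b⁻¹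
    rw [hTA, hTsupA] at h1
    rw [h3, h4] at h2
    have h5 : Nat.card T * Nat.card A = Nat.card A * Nat.card A := h1.symm.trans h2
    exact Nat.eq_of_mul_eq_mul_right Nat.card_pos h5
  have h4 : A ⊓ B < T ⊓ B := by
    rw [SetLike.lt_iff_le_and_exists]
    refine ⟨le_inf (hABD.trans hDT) inf_le_right, ?_⟩
    have hex : ∃ r ∈ A, b⁻¹ * r * b ∉ A := by
      by_contra hcon
      push Not at hcon
      apply hbA
      exact mem_normalizer_of_conj_mem' A b hcon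
    obtain ⟨r, hr, hrb⟩ := hex
    refine ⟨r⁻¹ * b⁻¹ * r⁻¹⁻¹ * b, Subgroup.mem_inf.mpr ⟨hmT _ (A.inv_mem hr), hmB _ (A.inv_mem hr)⟩, ?_⟩
    intro hcon
    apply hrb
    have h1 := (Subgroup.mem_inf.mp hcon).1
    have e : b⁻¹ * r * b = r * (r⁻¹ * b⁻¹ * r⁻¹⁻¹ * b) := by group
    rw [e]; exact A.mul_mem hr h1
  have hpowc : ∀ e : ℕ, Nat.Coprime e 2 → ∀ a ∈ A, a ^ e = 1 →
      (a * b⁻¹ * a⁻¹ * b) ^ e = 1 := by
    intro e hodd a ha hae
    have hw : b⁻¹ * a⁻¹ * b ∈ A₁ := hσA1 a⁻¹ (A.inv_mem ha)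
    have hcD : (b⁻¹ * a⁻¹ * b)⁻¹ * a⁻¹ * (b⁻¹ * a⁻¹ * b) * a ∈ A ⊓ A₁ := by
      have h1 := hcomD2 _ (A₁.inv_mem hw) a⁻¹ (A.inv_mem ha)
      simp only [inv_inv] at h1
      exact h1
    have hwe : (b⁻¹ * a⁻¹ * b) ^ e = 1 := by
      have h1 : (b⁻¹ * a⁻¹ * b⁻¹⁻¹) ^ e = b⁻¹ * a⁻¹ ^ e * b⁻¹⁻¹ := conj_pow
      rw [inv_inv] at h1
      rw [h1, inv_pow, hae, inv_one, mul_one, inv_mul_cancel]
    obtain ⟨w, hwdef⟩ : ∃ w, w = b⁻¹ * a⁻¹ * b := ⟨_, rfl⟩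
    rw [← hwdef] at hw hcD hwe
    obtain ⟨c, hcdef⟩ : ∃ c, c = w⁻¹ * a⁻¹ * w * a := ⟨_, rfl⟩
    rw [← hcdef] at hcD
    have hwH : w ∈ A ⊔ A₁ := Subgroup.mem_sup_right hw
    have haH : a ∈ A ⊔ A₁ := Subgroup.mem_sup_left ha
    have hcw : Commute c w := hDcen c hcD w hwH
    have hca : Commute c a := hDcen c hcD a haH
    have hrel : w * a = a * w * c := by rw [hcdef]; group
    have hce : c ^ e = 1 := by
      have h1 := pow_mul_comm_class2 a w c hrel hcw e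
      rw [hwe, one_mul, mul_one] at h1
      have h2 : a * c ^ e = a * 1 := by rw [mul_one]; exact h1.symm
      exact mul_left_cancel h2
    obtain ⟨m, hm, hpow⟩ := mul_pow_class2 a w c hrel hcw hca e
    have hem : e ∣ m := by
      have h1 : e ∣ 2 * m + e := by rw [hm]; exact dvd_mul_right e e
      have h2 : e ∣ 2 * m := (Nat.dvd_add_left (dvd_refl e)).mp h1
      exact Nat.Coprime.dvd_of_dvd_mul_left hodd h2
    have hcm : c ^ m = 1 := by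
      obtain ⟨t, rfl⟩ := hem
      rw [pow_mul, hce, one_pow]
    have e1 : a * b⁻¹ * a⁻¹ * b = a * w := by rw [hwdef]; group
    rw [e1, hpow, hae, hwe, hcm, one_mul, one_mul]
  have h10 : Monoid.exponent T ∣ Monoid.exponent A := by
    obtain ⟨e, he⟩ : ∃ e, e = Monoid.exponent A := ⟨_, rfl⟩
    rw [← he]
    have hpowA : ∀ a ∈ A, a ^ e = 1 := by
      intro a ha
      have h1 : (⟨a, ha⟩ : A) ^ Monoid.exponent A = 1 := Monoid.pow_exponent_eq_one _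
      have h2 := congrArg Subtype.val h1
      rw [he]
      simpa using h2
    have hodd : Nat.Coprime e 2 := by
      obtain ⟨k, hk⟩ := (hS.to_subgroup A).exists_card_eq
      have h1 : e ∣ p ^ k := by
        rw [he, ← hk]
        exact Group.exponent_dvd_nat_card
      have h2 : Nat.Coprime (p ^ k) 2 := by
        apply Nat.Coprime.pow_left
        exact (Nat.coprime_primes hp Nat.prime_two).mpr hp2
      exact Nat.Coprime.coprime_dvd_left h1 h2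
    have hpowT : ∀ x ∈ T, x ^ e = 1 := by
      intro x hx
      obtain ⟨a, ha, d, hd, rfl⟩ := hnf x hx
      have hdm : Commute (a * b⁻¹ * a⁻¹ * b) d := (hDcen d hd _ (hmH a ha)).symm
      rw [hdm.mul_pow, hpowc e hodd a ha (hpowA a ha), hpowA d (Subgroup.mem_inf.mp hd).1,
        one_mul]
    apply Monoid.exponent_dvd_of_forall_pow_eq_one
    intro g
    apply Subtype.ext
    rw [Subgroup.coe_pow, Subgroup.coe_one]
    exact hpowT g.1 g.2
  have h11 : T ≤ Subgroup.normalClosure (A : Set S) := by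
    rw [hT]
    apply sup_le
    · exact inf_le_left.trans Subgroup.le_normalClosure
    · rw [Subgroup.closure_le, hs]
      rintro g ⟨a, ha, rfl⟩
      have h1 : a ∈ Subgroup.normalClosure (A : Set S) := Subgroup.le_normalClosure ha
      have h2 : b⁻¹ * a⁻¹ * b⁻¹⁻¹ ∈ Subgroup.normalClosure (A : Set S) :=
        Subgroup.normalClosure_normal.conj_mem _ (Subgroup.inv_mem _ h1) b⁻¹
      rw [inv_inv] at h2
      have e : a * b⁻¹ * a⁻¹ * b = a * (b⁻¹ * a⁻¹ * b) := by group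
      rw [SetLike.mem_coe, e]
      exact Subgroup.mul_mem _ h1 h2
  have hmulc : ∀ a ∈ A, ∀ a' ∈ A, ∃ e ∈ A ⊓ A₁,
      (a * b⁻¹ * a⁻¹ * b) * (a' * b⁻¹ * a'⁻¹ * b) =
        ((a * a') * b⁻¹ * (a * a')⁻¹ * b) * e := by
    intro a ha a' ha'
    have hu : b⁻¹ * a * b ∈ A₁ := hσA1 a ha
    have hv : b⁻¹ * a' * b ∈ A₁ := hσA1 a' ha'
    have he : (b⁻¹ * a * b) * a'⁻¹ * (b⁻¹ * a * b)⁻¹ * a' ∈ A ⊓ A₁ := by
      have h1 := hcomD2 _ hu a'⁻¹ (A.inv_mem ha')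
      simp only [inv_inv] at h1
      exact h1
    have hev := hDcen _ he (b⁻¹ * a' * b)⁻¹
      (Subgroup.inv_mem _ (Subgroup.mem_sup_right hv))
    have huv := hcommA1 _ (A₁.inv_mem hu) _ (A₁.inv_mem hv)
    exact ⟨_, he, mul_formula a a' b hev huv⟩
  have hkerc : ∀ a ∈ A, a * b⁻¹ * a⁻¹ * b ∈ A ⊓ A₁ → a ∈ A ⊓ A₁ := by
    intro a ha hm'
    have hm : a * b⁻¹ * a⁻¹ * b ∈ A := (Subgroup.mem_inf.mp hm').1
    have hw : b⁻¹ * a⁻¹ * b ∈ A ⊓ A₁ := by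
      refine Subgroup.mem_inf.mpr ⟨?_, hσA1 a⁻¹ (A.inv_mem ha)⟩
      have e : b⁻¹ * a⁻¹ * b = a⁻¹ * (a * b⁻¹ * a⁻¹ * b) := by group
      rw [e]; exact A.mul_mem (A.inv_mem ha) hm
    have ha' : a⁻¹ ∈ A ⊓ A₁ := by
      have h1 := hDσ' _ hw
      have e : b * (b⁻¹ * a⁻¹ * b) * b⁻¹ = a⁻¹ := by group
      rw [e] at h1; exact h1
    have h1 := Subgroup.inv_mem _ ha'
    rwa [inv_inv] at h1
  have hcount : Nat.card (Cfsg.omegaOne p A) ≤ Nat.card (Cfsg.omegaOne p T) := by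
    have hpodd : Nat.Coprime p 2 := (Nat.coprime_primes hp Nat.prime_two).mpr hp2
    have hmemE : ∀ x, x ∈ Cfsg.omegaOne p A ↔ x ∈ A ∧ x ^ p = 1 :=
      mem_omegaOne_iff_of_comm p A hcommA
    have hmemF : ∀ x, x ∈ Cfsg.omegaOne p T ↔ x ∈ T ∧ x ^ p = 1 :=
      mem_omegaOne_iff_of_comm p T hcommT
    obtain ⟨E, hE⟩ : ∃ E, E = Cfsg.omegaOne p A := ⟨_, rfl⟩
    obtain ⟨F, hF⟩ : ∃ F, F = Cfsg.omegaOne p T := ⟨_, rfl⟩
    rw [← hE, ← hF]
    rw [← hE] at hmemE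
    rw [← hF] at hmemF
    obtain ⟨R, hR, -⟩ := Subgroup.exists_isComplement_right ((A ⊓ A₁).subgroupOf E) 1
    have hcardE : Nat.card ((A ⊓ A₁).subgroupOf E) * Nat.card R = Nat.card E :=
      hR.card_mul_card
    have hfmem : ∀ (h : ((A ⊓ A₁).subgroupOf E)) (r : R),
        (r.1.1 * b⁻¹ * r.1.1⁻¹ * b) * h.1.1 ∈ F := by
      intro h r
      have hrE := (hmemE r.1.1).mp r.1.2
      have hhE := (hmemE h.1.1).mp h.1.2
      have hhD : h.1.1 ∈ A ⊓ A₁ := Subgroup.mem_subgroupOf.mp h.2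
      rw [hmemF]
      have hcT := hmT _ hrE.1
      refine ⟨T.mul_mem hcT (hDT hhD), ?_⟩
      have hc : Commute (r.1.1 * b⁻¹ * r.1.1⁻¹ * b) h.1.1 := hcommT _ hcT _ (hDT hhD)
      rw [hc.mul_pow, hpowc p hpodd _ hrE.1 hrE.2, hhE.2, one_mul]
    obtain ⟨f, hf⟩ : ∃ f : ((A ⊓ A₁).subgroupOf E) × R → F,
        ∀ x, (f x).1 = (x.2.1.1 * b⁻¹ * x.2.1.1⁻¹ * b) * x.1.1.1 :=
      ⟨fun x => ⟨_, hfmem x.1 x.2⟩, fun _ => rfl⟩
    have hfinj : Function.Injective f := by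
      rintro ⟨h, r⟩ ⟨h', r'⟩ hff
      have heq : (r.1.1 * b⁻¹ * r.1.1⁻¹ * b) * h.1.1 =
          (r'.1.1 * b⁻¹ * r'.1.1⁻¹ * b) * h'.1.1 := by
        have h1 := congrArg Subtype.val hff
        rw [hf, hf] at h1
        exact h1
      have hrE := (hmemE r.1.1).mp r.1.2
      have hr'E := (hmemE r'.1.1).mp r'.1.2
      have hhD : h.1.1 ∈ A ⊓ A₁ := Subgroup.mem_subgroupOf.mp h.2
      have hh'D : h'.1.1 ∈ A ⊓ A₁ := Subgroup.mem_subgroupOf.mp h'.2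
      have haA : r.1.1 * r'.1.1⁻¹ ∈ A := A.mul_mem hrE.1 (A.inv_mem hr'E.1)
      obtain ⟨e, heD, hmul⟩ := hmulc _ haA _ hr'E.1
      rw [inv_mul_cancel_right] at hmul
      have hmr' := hmH _ hr'E.1
      obtain ⟨X, hX⟩ : ∃ X, X = r.1.1 * b⁻¹ * r.1.1⁻¹ * b := ⟨_, rfl⟩
      obtain ⟨Y, hY⟩ : ∃ Y, Y = r'.1.1 * b⁻¹ * r'.1.1⁻¹ * b := ⟨_, rfl⟩
      obtain ⟨Z, hZ⟩ : ∃ Z, Z = (r.1.1 * r'.1.1⁻¹) * b⁻¹ * (r.1.1 * r'.1.1⁻¹)⁻¹ * b :=
        ⟨_, rfl⟩
      rw [← hX, ← hY] at heq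
      rw [← hX, ← hY, ← hZ] at hmul
      rw [← hY] at hmr'
      have hdD : h'.1.1 * h.1.1⁻¹ * e ∈ A ⊓ A₁ :=
        Subgroup.mul_mem _ (Subgroup.mul_mem _ hh'D (Subgroup.inv_mem _ hhD)) heD
      have hcen : (h'.1.1 * h.1.1⁻¹ * e) * Y = Y * (h'.1.1 * h.1.1⁻¹ * e) :=
        hDcen _ hdD _ hmr'
      have hX' : X = Y * h'.1.1 * h.1.1⁻¹ := eq_mul_inv_of_mul_eq heq
      have hZ' : Z = X * e * Y⁻¹ := eq_mul_inv_of_mul_eq hmul
      have hZD : Z = h'.1.1 * h.1.1⁻¹ * e := by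
        rw [hZ', hX']
        have e1 : Y * h'.1.1 * h.1.1⁻¹ * e * Y⁻¹ = Y * (h'.1.1 * h.1.1⁻¹ * e) * Y⁻¹ := by
          simp only [mul_assoc]
        rw [e1, ← hcen, mul_inv_cancel_right]
      have haD : r.1.1 * r'.1.1⁻¹ ∈ A ⊓ A₁ := by
        apply hkerc _ haA
        rw [← hZ, hZD]
        exact hdD
      have hy : r.1 * r'.1⁻¹ ∈ (A ⊓ A₁).subgroupOf E := Subgroup.mem_subgroupOf.mpr haD
      have hinj := hR.1 (a₁ := (⟨1, Subgroup.one_mem _⟩, r)) (a₂ := (⟨r.1 * r'.1⁻¹, hy⟩, r'))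
        (by simp)
      have hrr : r = r' := (Prod.ext_iff.mp hinj).2
      subst hrr
      have hXY : X = Y := hX.trans hY.symm
      rw [hXY] at heq
      have hhh : h.1.1 = h'.1.1 := mul_left_cancel heq
      have : h = h' := Subtype.ext (Subtype.ext hhh)
      rw [this]
    have h1 := Nat.card_le_card_of_injective f hfinj
    rw [Nat.card_prod] at h1
    rw [← hcardE]
    exact h1
  exact ⟨hcard, ⟨⟨fun x y => Subtype.ext (hcommT x.1 x.2 y.1 y.2)⟩⟩, h4, hTN, h11, h10, hcount⟩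

/-- A replacement Theorem for abelian subgroups of p-groups, p odd. Let G be a finite p-group with p odd, A an abelian subgroup of G, and B a subgroup of nilpotency class at most 2 with [B, B] ≤ A, such that A normalizes B but B does not normalize A. Then there is an abelian subgroup A* of G of the same order as A with A ∩ B strictly contained in A* ∩ B, A* contained in N_G(A) and in the normal closure of A, the exponent of A* dividing the exponent of A, and with the subgroup generated by the elements of order dividing p in A of order at most that of the corresponding subgroup of A* (the rank of A is at most the rank of A*). -/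
theorem result {G : Type*} [Group G] [Finite G] {p : ℕ} [Fact p.Prime] (hp : p ≠ 2) (hG : IsPGroup p G) (A B : Subgroup G) (hA : IsMulCommutative A) (hB2 : ⁅⁅B, B⁆, B⁆ = ⊥) (hBA : ⁅B, B⁆ ≤ A) (hAB : A ≤ Subgroup.normalizer (B : Set G)) (hBnA : ¬ B ≤ Subgroup.normalizer (A : Set G)) : ∃ Astar : Subgroup G, IsMulCommutative Astar ∧ Nat.card Astar = Nat.card A ∧ A ⊓ B < Astar ⊓ B ∧ Astar ≤ Subgroup.normalizer (A : Set G) ∧ Astar ≤ Subgroup.normalClosure (A : Set G) ∧ Monoid.exponent Astar ∣ Monoid.exponent A ∧ Nat.card (Cfsg.omegaOne p A) ≤ Nat.card (Cfsg.omegaOne p Astar) := by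
  obtain ⟨K, hK⟩ : ∃ K, K = A ⊔ B := ⟨_, rfl⟩
  obtain ⟨N, hN⟩ : ∃ N, N = Subgroup.normalizer (A : Set G) ⊓ K := ⟨_, rfl⟩
  have hAK : A ≤ K := by rw [hK]; exact le_sup_left
  have hBK : B ≤ K := by rw [hK]; exact le_sup_right
  have hAN : A ≤ N := by rw [hN]; exact le_inf Subgroup.le_normalizer hAK
  have hNK : N ≤ K := by rw [hN]; exact inf_le_right
  have hNA : N ≤ Subgroup.normalizer (A : Set G) := by rw [hN]; exact inf_le_left
  have hNne : N ≠ K := by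
    intro h
    apply hBnA
    intro x hx
    have h1 : x ∈ N := by rw [h]; exact hBK hx
    exact hNA h1
  obtain ⟨x, hxK, hxN, hxc⟩ := Cfsg.Agent.Lib.Helper7.exists_mem_normalizer_not_mem (p := p)
    (hG.to_subgroup K) hNK hNne
  rw [hK, sup_comm] at hxK
  obtain ⟨b₀, hb₀, a, ha, rfl⟩ := (Cfsg.Agent.H1.mem_sup_of_le_normalizer B A hAB).mp hxK
  have hxnorm : b₀ * a ∈ Subgroup.normalizer (N : Set G) := by
    apply mem_normalizer_of_conj_mem N (b₀ * a)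
    intro r hr
    have h1 : (b₀ * a) * r * (b₀ * a)⁻¹ ∈ Cfsg.Agent.Lib.Helper7.cj (b₀ * a) N := ⟨r, hr, rfl⟩
    rw [hxc] at h1
    exact h1
  have hanorm : a ∈ Subgroup.normalizer (N : Set G) := Subgroup.le_normalizer (hAN ha)
  have hbN : b₀ ∈ Subgroup.normalizer (N : Set G) := by
    have h1 := Subgroup.mul_mem _ hxnorm (Subgroup.inv_mem _ hanorm)
    rwa [mul_inv_cancel_right] at h1
  have hbA : b₀ ∉ Subgroup.normalizer (A : Set G) := by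
    intro hcon
    apply hxN
    have h1 : b₀ ∈ N := by rw [hN]; exact Subgroup.mem_inf.mpr ⟨hcon, hBK hb₀⟩
    exact N.mul_mem h1 (hAN ha)
  obtain ⟨h1, h2, h3, h4, h5, h6, h7⟩ := aux2 hG hp B A hAB hA hBA b₀ hb₀ N hAN hNA hbN hbA
    _ rfl _ rfl _ rfl
  exact ⟨_, h2, h1, h3, h4.trans hNA, h5, h6, h7⟩

end Cfsg.Agent.S3078
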