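import Cfsg.Statements.S1453
import Mathlib
import Cfsg.Agent.S3078
import Cfsg.Agent.S0651
import Cfsg.Agent.H1.ElemAbelian
import Cfsg.Agent.H1.NormalRankTwo
import Cfsg.Agent.H1.CentralizerIndexBound

set_option autoImplicit false
open Cfsg
open scoped commutatorElement

namespace Cfsg.Agent.S1453


/-- Let p be an odd prime and R a finite p-group with an elementary abelian subgroup of order p ^ 3 and an elementary abelian subgroup E of order p ^ 2 contained in no larger elementary abelian subgroup. Let Z₂ be the second centre of R, W the subgroup generated by the elements of Z₂ of order dividing p, and T = C_R(W). Then E is not contained in T; the elements of order dividing p of the centre of R generate a group of order p; W is elementary abelian of order p ^ 2; and T is characteristic in R of index p. -/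
theorem result {R : Type*} [Group R] [Finite R] (p : ℕ) [Fact p.Prime] (hp : p ≠ 2) (hR : IsPGroup p R) (hr : ¬ Cfsg.PRankLE p 2 R)
    (E : Subgroup R) (hE : Cfsg.IsElementaryAbelian p E) (hE2 : Nat.card E = p ^ 2)
    (hEmax : ∀ B : Subgroup R, Cfsg.IsElementaryAbelian p B → E ≤ B → B = E) :
    ¬ E ≤ Subgroup.centralizer ((Subgroup.closure {x : R | x ∈ Subgroup.upperCentralSeries R 2 ∧ x ^ p = 1} : Subgroup R) : Set R) ∧
      Nat.card ↥(Subgroup.closure {x : R | x ∈ Subgroup.center R ∧ x ^ p = 1}) = p ∧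
      (Cfsg.IsElementaryAbelian p (Subgroup.closure {x : R | x ∈ Subgroup.upperCentralSeries R 2 ∧ x ^ p = 1}) ∧
        Nat.card ↥(Subgroup.closure {x : R | x ∈ Subgroup.upperCentralSeries R 2 ∧ x ^ p = 1}) = p ^ 2) ∧
      (Subgroup.centralizer ((Subgroup.closure {x : R | x ∈ Subgroup.upperCentralSeries R 2 ∧ x ^ p = 1} : Subgroup R) : Set R)).Characteristic ∧
      (Subgroup.centralizer ((Subgroup.closure {x : R | x ∈ Subgroup.upperCentralSeries R 2 ∧ x ^ p = 1} : Subgroup R) : Set R)).index = p := by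
  have hpp : p.Prime := Fact.out
  obtain ⟨W, hW⟩ : ∃ W, W = Subgroup.closure
      {x : R | x ∈ Subgroup.upperCentralSeries R 2 ∧ x ^ p = 1} := ⟨_, rfl⟩
  obtain ⟨Z, hZ⟩ : ∃ Z, Z = Subgroup.closure {x : R | x ∈ Subgroup.center R ∧ x ^ p = 1} :=
    ⟨_, rfl⟩
  rw [← hW, ← hZ]
  have hEc : ∀ a ∈ E, ∀ b ∈ E, a * b = b * a := by
    intro a ha b hb
    have h1 := hE.1.is_comm.comm ⟨a, ha⟩ ⟨b, hb⟩
    exact congrArg Subtype.val h1
  have L1 : ∀ x : R, x ^ p = 1 → (∀ e ∈ E, e * x = x * e) → x ∈ E := by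
    intro x hxp hx
    have hxc : x ∈ Subgroup.centralizer (E : Set R) := by
      rw [Subgroup.mem_centralizer_iff]
      intro e he
      exact hx e he
    have hB := Cfsg.Agent.H1.isElementaryAbelian_sup_zpowers p E hE x hxc hxp
    have hBE := hEmax _ hB le_sup_left
    have h1 : x ∈ E ⊔ Subgroup.zpowers x := Subgroup.mem_sup_right (Subgroup.mem_zpowers x)
    rw [hBE] at h1
    exact h1
  have hmemZ : ∀ x, x ∈ Z ↔ x ∈ Subgroup.center R ∧ x ^ p = 1 := by
    intro x
    have hcc : ∀ a ∈ Subgroup.center R, ∀ b ∈ Subgroup.center R, a * b = b * a :=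
      fun a ha b _ => (Subgroup.mem_center_iff.mp ha b).symm
    have h1 := Cfsg.Agent.S3078.mem_omegaOne_iff_of_comm p (Subgroup.center R) hcc x
    unfold Cfsg.omegaOne at h1
    rw [hZ]
    exact h1
  have hZcen : ∀ z ∈ Z, ∀ g : R, g * z = z * g := fun z hz g =>
    Subgroup.mem_center_iff.mp ((hmemZ z).mp hz).1 g
  have hZE : Z ≤ E := by
    intro x hx
    obtain ⟨hxc, hxp⟩ := (hmemZ x).mp hx
    exact L1 x hxp (fun e _ => Subgroup.mem_center_iff.mp hxc e)
  obtain ⟨X, hXc, hXp, hXcard⟩ : ∃ X : Subgroup R, IsMulCommutative X ∧ (∀ a ∈ X, a ^ p = 1) ∧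
      p ^ 2 < Nat.card X := by
    unfold Cfsg.PRankLE at hr
    push Not at hr
    exact hr
  have hnotall : ¬ ∀ x : R, x ^ p = 1 → x ∈ E := by
    intro h
    have hXE : X ≤ E := fun x hx => h x (hXp x hx)
    have h1 := Subgroup.card_le_of_le hXE
    rw [hE2] at h1
    exact absurd h1 (not_le.mpr hXcard)
  have hp2gt : 1 < p ^ 2 := Nat.one_lt_pow (by norm_num) hpp.one_lt
  have hEne : E ≠ ⊥ := by
    intro h
    rw [h, Subgroup.card_bot] at hE2
    rw [← hE2] at hp2gt
    exact lt_irrefl 1 hp2gt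
  have htop : (⊤ : Subgroup R) ≠ ⊥ := by
    intro h
    apply hEne
    rw [eq_bot_iff, ← h]
    exact le_top
  have hord1 : ∀ z : R, orderOf z = p → z ≠ 1 := by
    intro z hz h
    rw [h, orderOf_one] at hz
    exact hpp.one_lt.ne hz
  have hordp : ∀ z : R, orderOf z = p → z ^ p = 1 := by
    intro z hz
    rw [← hz]; exact pow_orderOf_eq_one z
  obtain ⟨z₀, -, hz₀c, hz₀o⟩ := Cfsg.Agent.H1.exists_central_order_p hR (⊤ : Subgroup R) htop
  have hz₀Z : z₀ ∈ Z := (hmemZ z₀).mpr ⟨hz₀c, hordp z₀ hz₀o⟩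
  have hz₀1 : z₀ ≠ 1 := hord1 z₀ hz₀o
  have hcardZ : Nat.card Z = p := by
    have h1 : Nat.card Z ∣ p ^ 2 := by rw [← hE2]; exact Subgroup.card_dvd_of_le hZE
    obtain ⟨k, hk, hkc⟩ := (Nat.dvd_prime_pow hpp).mp h1
    interval_cases k
    · exfalso
      rw [pow_zero, Subgroup.card_eq_one] at hkc
      rw [hkc, Subgroup.mem_bot] at hz₀Z
      exact hz₀1 hz₀Z
    · rw [pow_one] at hkc; exact hkc
    · exfalso
      have hZeq : Z = E := Subgroup.eq_of_le_of_card_ge hZE (by rw [hE2, hkc])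
      apply hnotall
      intro x hxp
      apply L1 x hxp
      intro e he
      rw [← hZeq] at he
      exact (hZcen e he x).symm
  have hEtop : ∀ K : Subgroup R, K ≤ E → p < Nat.card K → K = E := by
    intro K hKE hlt
    have h2 : Nat.card K ∣ p ^ 2 := by rw [← hE2]; exact Subgroup.card_dvd_of_le hKE
    obtain ⟨k, hk, hkc⟩ := (Nat.dvd_prime_pow hpp).mp h2
    have hk2 : k = 2 := by
      by_contra hne
      have hk1 : k ≤ 1 := by omega
      have h3 : p ^ k ≤ p ^ 1 := Nat.pow_le_pow_right hpp.pos hk1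
      rw [pow_one, ← hkc] at h3
      exact absurd h3 (not_le.mpr hlt)
    rw [hk2] at hkc
    exact Subgroup.eq_of_le_of_card_ge hKE (by rw [hE2, hkc])
  have hsum : ∑ i ∈ Finset.range 2, i = 1 := by decide
  have hEnn : ¬ ∀ r : R, ∀ e ∈ E, r * e * r⁻¹ ∈ E := by
    intro hn
    have hEn : E.Normal := ⟨fun e he r => hn r e he⟩
    have h1 := Cfsg.Agent.H1.index_centralizer_le_of_normal hR 2 E hEn hE2
    rw [hsum, pow_one] at h1
    obtain ⟨C, hC⟩ : ∃ C, C = Subgroup.centralizer (E : Set R) := ⟨_, rfl⟩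
    rw [← hC] at h1
    have h3 : C.relIndex X ≤ p := by
      have h4 : C.relIndex X ≤ C.relIndex ⊤ := Subgroup.relIndex_le_of_le_right le_top (by
        rw [Subgroup.relIndex_top_right]; exact Subgroup.index_ne_zero_of_finite)
      rw [Subgroup.relIndex_top_right] at h4
      exact h4.trans h1
    have h5 : Nat.card X = (C ⊓ X).relIndex X * Nat.card (C ⊓ X : Subgroup R) :=
      Cfsg.Agent.H1.card_eq_relIndex_mul_card inf_le_right
    rw [Subgroup.inf_relIndex_right] at h5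
    have hCXE : C ⊓ X ≤ E := by
      intro y hy
      obtain ⟨hyC, hyX⟩ := Subgroup.mem_inf.mp hy
      apply L1 y (hXp y hyX)
      intro e he
      rw [hC, Subgroup.mem_centralizer_iff] at hyC
      exact hyC e he
    have hCX : C ⊓ X = E := by
      apply hEtop _ hCXE
      by_contra hcon
      push Not at hcon
      have h8 : Nat.card X ≤ p * p := by
        rw [h5]
        exact Nat.mul_le_mul h3 hcon
      rw [← pow_two] at h8
      exact absurd h8 (not_le.mpr hXcard)
    have hEX : E ≤ X := by rw [← hCX]; exact inf_le_right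
    have hXE := hEmax X ⟨hXc, hXp⟩ hEX
    rw [hXE, hE2] at hXcard
    exact lt_irrefl _ hXcard
  have hncyc : ¬ IsCyclic ↥(⊤ : Subgroup R) := by
    intro hc
    apply hnotall
    intro x hxp
    apply L1 x hxp
    intro e _
    have h1 := (IsCyclic.isMulCommutative (α := ↥(⊤ : Subgroup R))).is_comm.comm
      ⟨e, Subgroup.mem_top e⟩ ⟨x, Subgroup.mem_top x⟩
    exact congrArg Subtype.val h1
  obtain ⟨U, -, hUn, hUe, hU2⟩ :=
    Cfsg.Agent.H1.normal_elem_abelian_sq_le hp hR (⊤ : Subgroup R) hncyc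
  have hUne : U ≠ ⊥ := by
    intro h
    rw [h, Subgroup.card_bot] at hU2
    rw [← hU2] at hp2gt
    exact lt_irrefl 1 hp2gt
  have hUp : ∀ u ∈ U, u ^ p = 1 := hUe.2
  have hZU : Z ≤ U := by
    obtain ⟨z₁, hz₁U, hz₁c, hz₁o⟩ := Cfsg.Agent.H1.exists_central_order_p hR U hUne
    have hz₁Z : z₁ ∈ Z := (hmemZ z₁).mpr ⟨hz₁c, hordp z₁ hz₁o⟩
    have hz₁1 : z₁ ≠ 1 := hord1 z₁ hz₁o
    have h1 : Nat.card (Z ⊓ U : Subgroup R) ∣ p := by
      rw [← hcardZ]; exact Subgroup.card_dvd_of_le inf_le_left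
    rcases (Nat.dvd_prime hpp).mp h1 with h2 | h2
    · exfalso
      rw [Subgroup.card_eq_one] at h2
      have h3 : z₁ ∈ Z ⊓ U := Subgroup.mem_inf.mpr ⟨hz₁Z, hz₁U⟩
      rw [h2, Subgroup.mem_bot] at h3
      exact hz₁1 h3
    · have h3 : Z ⊓ U = Z := Subgroup.eq_of_le_of_card_ge inf_le_left (by rw [h2, hcardZ])
      rw [← h3]; exact inf_le_right
  have hZ2 : ∀ x : R, x ∈ Subgroup.upperCentralSeries R 2 ↔
      ∀ y : R, x * y * x⁻¹ * y⁻¹ ∈ Subgroup.center R := by
    intro x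
    have h1 : x ∈ Subgroup.upperCentralSeries R 2 ↔
        ∀ y : R, ⁅x, y⁆ ∈ Subgroup.upperCentralSeries R 1 :=
      Subgroup.mem_upperCentralSeries_succ_iff
    rw [h1, Subgroup.upperCentralSeries_one]
    simp only [commutatorElement_def]
  have hcenZ2 : Subgroup.center R ≤ Subgroup.upperCentralSeries R 2 := by
    rw [← Subgroup.upperCentralSeries_one]
    exact Subgroup.upperCentralSeries_mono R (by norm_num)
  have hcomZ : ∀ w ∈ Subgroup.upperCentralSeries R 2, w ^ p = 1 →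
      ∀ g : R, w⁻¹ * g⁻¹ * w * g ∈ Z := by
    intro w hw hwp g
    have hwi : w⁻¹ ∈ Subgroup.upperCentralSeries R 2 := Subgroup.inv_mem _ hw
    have h1 := (hZ2 w⁻¹).mp hwi g⁻¹
    rw [inv_inv, inv_inv] at h1
    rw [hmemZ]
    refine ⟨h1, ?_⟩
    obtain ⟨c, hc⟩ : ∃ c, c = w⁻¹ * g⁻¹ * w * g := ⟨_, rfl⟩
    rw [← hc] at h1 ⊢
    have hrel : w * g = g * w * c := by rw [hc]; group
    have hcw : Commute c w := (Subgroup.mem_center_iff.mp h1 w).symm
    have h2 := Cfsg.Agent.S0650.pow_mul_comm_class2 g w c hrel hcw p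
    rw [hwp, one_mul, mul_one] at h2
    have h3 : g * c ^ p = g * 1 := by rw [mul_one]; exact h2.symm
    exact mul_left_cancel h3
  have hUZ2 : U ≤ Subgroup.upperCentralSeries R 2 := by
    haveI := hUn
    obtain ⟨B, x, hBn, hBU, hxU, hxB, hUeq, hxg, hcardUB⟩ :=
      Cfsg.Agent.H1.exists_normal_index_p_le hR U hUne
    have hcardB : Nat.card B = p := by
      rw [hU2, pow_two] at hcardUB
      exact (Nat.eq_of_mul_eq_mul_left hpp.pos hcardUB).symm
    have hBne : B ≠ ⊥ := by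
      intro h
      rw [h, Subgroup.card_bot] at hcardB
      exact hpp.one_lt.ne hcardB
    haveI := hBn
    obtain ⟨B', y, hB'n, hB'B, hyB, hyB', hBeq, hyg, hcardBB'⟩ :=
      Cfsg.Agent.H1.exists_normal_index_p_le hR B hBne
    have hcardB' : Nat.card B' = 1 := by
      rw [hcardB] at hcardBB'
      have h1 : p * 1 = p * Nat.card B' := by rw [mul_one]; exact hcardBB'
      exact (Nat.eq_of_mul_eq_mul_left hpp.pos h1).symm
    rw [Subgroup.card_eq_one] at hcardB'
    have hycen : y ∈ Subgroup.center R := by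
      rw [Subgroup.mem_center_iff]
      intro g
      have h1 := hyg g
      rw [hcardB', Subgroup.mem_bot] at h1
      have h2 : y * g * y⁻¹ = g := mul_inv_eq_one.mp h1
      have h3 : y * g = g * y := mul_inv_eq_iff_eq_mul.mp h2
      exact h3.symm
    have hBcen : B ≤ Subgroup.center R := by
      rw [hBeq, hcardB', bot_sup_eq, Subgroup.zpowers_le]
      exact hycen
    rw [hUeq]
    apply sup_le (hBcen.trans hcenZ2)
    rw [Subgroup.zpowers_le, hZ2]
    intro g
    exact hBcen (hxg g)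
  have hUE : U ≠ E := by
    intro h
    apply hEnn
    intro r e he
    rw [← h] at he ⊢
    exact hUn.conj_mem e he r
  obtain ⟨e₀, he₀, u₀, hu₀, hne₀⟩ : ∃ e₀ ∈ E, ∃ u₀ ∈ U, u₀ * e₀ ≠ e₀ * u₀ := by
    by_contra hcon
    push Not at hcon
    apply hUE
    have hUleE : U ≤ E := fun u hu => L1 u (hUp u hu) (fun e he => (hcon e he u hu).symm)
    exact Subgroup.eq_of_le_of_card_ge hUleE (by rw [hE2, hU2])
  obtain ⟨c₀, hc₀⟩ : ∃ c₀, c₀ = u₀⁻¹ * e₀⁻¹ * u₀ * e₀ := ⟨_, rfl⟩
  have hu₀Z2 := hUZ2 hu₀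
  have hc₀Z : c₀ ∈ Z := by rw [hc₀]; exact hcomZ u₀ hu₀Z2 (hUp u₀ hu₀) e₀
  have hrel₀ : u₀ * e₀ = e₀ * u₀ * c₀ := by rw [hc₀]; group
  have hc₀1 : c₀ ≠ 1 := by
    intro h
    apply hne₀
    rw [h, mul_one] at hrel₀
    exact hrel₀
  have hc₀cen : ∀ g : R, g * c₀ = c₀ * g := hZcen c₀ hc₀Z
  have hZpow : ∀ z ∈ Z, ∃ m : ℕ, c₀ ^ m = z := by
    intro z hz
    have h1 : (⟨z, hz⟩ : ↥Z) ∈ Submonoid.powers (⟨c₀, hc₀Z⟩ : ↥Z) :=
      mem_powers_of_prime_card hcardZ (by
        intro h; apply hc₀1; exact congrArg Subtype.val h)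
    obtain ⟨m, hm⟩ := (Submonoid.mem_powers_iff _ _).mp h1
    refine ⟨m, ?_⟩
    have h2 := congrArg Subtype.val hm
    simpa using h2
  have hEZ2 : E ⊓ Subgroup.upperCentralSeries R 2 = Z := by
    have hle : Z ≤ E ⊓ Subgroup.upperCentralSeries R 2 := by
      apply le_inf hZE
      intro z hz
      exact hcenZ2 ((hmemZ z).mp hz).1
    by_contra hne
    have hlt : Z < E ⊓ Subgroup.upperCentralSeries R 2 := lt_of_le_of_ne hle (Ne.symm hne)
    have h1 := Cfsg.Agent.S0651.card_lt_of_lt hlt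
    rw [hcardZ] at h1
    have h3 := hEtop _ inf_le_left h1
    have hEle : E ≤ Subgroup.upperCentralSeries R 2 := by
      rw [← h3]; exact inf_le_right
    apply hEnn
    intro r e he
    have h4 := hcomZ e (hEle he) (hE.2 e he) r⁻¹
    rw [inv_inv] at h4
    have h5 : r * e * r⁻¹ = e * (e⁻¹ * r * e * r⁻¹) := by group
    rw [h5]
    exact E.mul_mem he (hZE h4)
  have hWU : W ≤ U := by
    rw [hW, Subgroup.closure_le]
    rintro w ⟨hwZ2, hwp⟩
    rw [SetLike.mem_coe]
    obtain ⟨c, hc⟩ : ∃ c, c = w⁻¹ * e₀⁻¹ * w * e₀ := ⟨_, rfl⟩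
    have hcZ : c ∈ Z := by rw [hc]; exact hcomZ w hwZ2 hwp e₀
    obtain ⟨m, hm⟩ := hZpow c⁻¹ (Z.inv_mem hcZ)
    obtain ⟨t, ht⟩ : ∃ t, t = u₀ ^ m := ⟨_, rfl⟩
    have htU : t ∈ U := by rw [ht]; exact U.pow_mem hu₀ m
    have htZ2 : t ∈ Subgroup.upperCentralSeries R 2 := hUZ2 htU
    have htp : t ^ p = 1 := hUp t htU
    have hrelw : w * e₀ = e₀ * w * c := by rw [hc]; group
    have hccen : ∀ g : R, g * c = c * g := hZcen c hcZ
    have hrelt : t * e₀ = e₀ * t * c⁻¹ := by
      have h1 := Cfsg.Agent.S0650.pow_mul_comm_class2 e₀ u₀ c₀ hrel₀ (hc₀cen u₀).symm m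
      rw [hm, ← ht] at h1
      exact h1
    have hve : (w * t) * e₀ = e₀ * (w * t) := by
      calc (w * t) * e₀ = w * (t * e₀) := mul_assoc _ _ _
        _ = w * (e₀ * t * c⁻¹) := by rw [hrelt]
        _ = (w * e₀) * t * c⁻¹ := by simp only [mul_assoc]
        _ = (e₀ * w * c) * t * c⁻¹ := by rw [hrelw]
        _ = e₀ * w * (c * t) * c⁻¹ := by simp only [mul_assoc]
        _ = e₀ * w * (t * c) * c⁻¹ := by rw [← hccen t]
        _ = e₀ * (w * t) := by simp only [mul_assoc, mul_inv_cancel, mul_one]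
    obtain ⟨v, hv⟩ : ∃ v, v = w * t := ⟨_, rfl⟩
    rw [← hv] at hve
    have hvE : ∀ e ∈ E, e * v = v * e := by
      obtain ⟨K, hK⟩ : ∃ K, K = E ⊓ Subgroup.centralizer ({v} : Set R) := ⟨_, rfl⟩
      have hmemK : ∀ x, x ∈ K ↔ x ∈ E ∧ x * v = v * x := by
        intro x
        rw [hK, Subgroup.mem_inf, Subgroup.mem_centralizer_singleton_iff]
      have hZK : Z ≤ K := fun z hz => (hmemK z).mpr ⟨hZE hz, (hZcen z hz v).symm⟩
      have he₀K : e₀ ∈ K := (hmemK e₀).mpr ⟨he₀, hve.symm⟩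
      have he₀Z : e₀ ∉ Z := by
        intro h
        apply hne₀
        exact hZcen e₀ h u₀
      have hlt : Z < K := by
        rw [SetLike.lt_iff_le_and_exists]
        exact ⟨hZK, e₀, he₀K, he₀Z⟩
      have h1 := Cfsg.Agent.S0651.card_lt_of_lt hlt
      rw [hcardZ] at h1
      have hKE : K ≤ E := by rw [hK]; exact inf_le_left
      have hKeq := hEtop K hKE h1
      intro e he
      rw [← hKeq] at he
      exact ((hmemK e).mp he).2
    have hvp : v ^ p = 1 := by
      obtain ⟨d, hd⟩ : ∃ d, d = t⁻¹ * w⁻¹ * t * w := ⟨_, rfl⟩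
      have hdZ : d ∈ Z := by rw [hd]; exact hcomZ t htZ2 htp w
      have hdcen := hZcen d hdZ
      have hreld : t * w = w * t * d := by rw [hd]; group
      obtain ⟨m', hm', hpow⟩ := Cfsg.Agent.S0650.mul_pow_class2 w t d hreld (hdcen t).symm
        (hdcen w).symm p
      have hdp : d ^ p = 1 := ((hmemZ d).mp hdZ).2
      have hpm : p ∣ m' := by
        have h1 : p ∣ 2 * m' + p := by rw [hm']; exact dvd_mul_right p p
        have h2 : p ∣ 2 * m' := (Nat.dvd_add_left (dvd_refl p)).mp h1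
        have hcop : Nat.Coprime p 2 := (Nat.coprime_primes hpp Nat.prime_two).mpr hp
        exact Nat.Coprime.dvd_of_dvd_mul_left hcop h2
      obtain ⟨q, rfl⟩ := hpm
      rw [hv, hpow, hwp, htp, pow_mul, hdp]
      simp
    have hvE' : v ∈ E := L1 v hvp hvE
    have hvZ2 : v ∈ Subgroup.upperCentralSeries R 2 := by
      rw [hv]; exact Subgroup.mul_mem _ hwZ2 htZ2
    have hvZ : v ∈ Z := by rw [← hEZ2]; exact Subgroup.mem_inf.mpr ⟨hvE', hvZ2⟩
    have hvU : v ∈ U := hZU hvZ
    have hw_eq : w = v * t⁻¹ := by rw [hv]; group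
    rw [hw_eq]
    exact U.mul_mem hvU (U.inv_mem htU)
  have hUW : U ≤ W := by
    intro u hu
    rw [hW]
    exact Subgroup.subset_closure ⟨hUZ2 hu, hUp u hu⟩
  have hWeq : W = U := le_antisymm hWU hUW
  refine ⟨?_, hcardZ, ?_, ?_, ?_⟩
  · intro hcon
    apply hne₀
    have h1 := hcon he₀
    rw [Subgroup.mem_centralizer_iff] at h1
    exact h1 u₀ (hUW hu₀)
  · rw [hWeq]; exact ⟨hUe, hU2⟩
  · have hWchar : W.Characteristic := by
      rw [hW, Subgroup.characteristic_iff_map_eq]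
      intro φ
      rw [MonoidHom.map_closure]
      congr 1
      ext y
      constructor
      · rintro ⟨x, ⟨hx, hxp⟩, rfl⟩
        refine ⟨?_, ?_⟩
        · have h := (inferInstance : (Subgroup.upperCentralSeries R 2).Characteristic).fixed φ
          have hx' : x ∈ (Subgroup.upperCentralSeries R 2).comap φ.toMonoidHom := by
            rw [h]; exact hx
          exact Subgroup.mem_comap.mp hx'
        · show (φ x) ^ p = 1
          rw [← map_pow, hxp, map_one]
      · rintro ⟨hy, hyp⟩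
        refine ⟨φ.symm y, ⟨?_, ?_⟩, by simp⟩
        · have h := (inferInstance : (Subgroup.upperCentralSeries R 2).Characteristic).fixed
            φ.symm
          have hy' : y ∈ (Subgroup.upperCentralSeries R 2).comap φ.symm.toMonoidHom := by
            rw [h]; exact hy
          exact Subgroup.mem_comap.mp hy'
        · show (φ.symm y) ^ p = 1
          rw [← map_pow, hyp, map_one]
    exact inferInstance
  · rw [hWeq]
    have h1 := Cfsg.Agent.H1.index_centralizer_le_of_normal hR 2 U hUn hU2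
    rw [hsum, pow_one] at h1
    obtain ⟨n, hn⟩ := hR.index (Subgroup.centralizer (U : Set R))
    have hn0 : n ≠ 0 := by
      intro h0
      rw [h0, pow_zero, Subgroup.index_eq_one] at hn
      apply hne₀
      have h3 : e₀ ∈ Subgroup.centralizer (U : Set R) := by rw [hn]; exact Subgroup.mem_top _
      rw [Subgroup.mem_centralizer_iff] at h3
      exact h3 u₀ hu₀
    rw [hn] at h1 ⊢
    have hn1 : n ≤ 1 := by
      by_contra hcon
      push Not at hcon
      have h4 : p ^ 2 ≤ p ^ n := Nat.pow_le_pow_right hpp.pos hcon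
      have h5 : p ^ 2 ≤ p := h4.trans h1
      have h6 : p < p ^ 2 := by nlinarith [hpp.one_lt]
      exact absurd h5 (not_le.mpr h6)
    have hn' : n = 1 := by omega
    rw [hn', pow_one]

end Cfsg.Agent.S1453
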