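import Cfsg.Statements.S0634
import Mathlib
import Cfsg.Agent.Lib.Lead.PSolvable

set_option autoImplicit false
open Cfsg

namespace Cfsg.Agent.S0634

open Cfsg.Agent.Lib.Lead.PSolvable

/-- if `L / N = O_{p'}(G / N)` then `O_{p'}(G / L) = 1` -/
theorem pPrimeCore_quotient_comap_eq_bot {G : Type*} [Group G] [Finite G] {p : ℕ} [hp : Fact p.Prime]
    (N : Subgroup G) [hN : N.Normal] (L : Subgroup G) [hL : L.Normal]
    (hLeq : L = (Cfsg.pPrimeCore p (G ⧸ N)).comap (QuotientGroup.mk' N)) :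
    Cfsg.pPrimeCore p (G ⧸ L) = ⊥ := by
  have hNL : N ≤ L := by
    intro x hx
    rw [hLeq, Subgroup.mem_comap]
    have : QuotientGroup.mk' N x = 1 := (QuotientGroup.eq_one_iff x).2 hx
    rw [this]; exact one_mem _
  set X := (Cfsg.pPrimeCore p (G ⧸ L)).comap (QuotientGroup.mk' L) with hX
  haveI hXn : X.Normal := Subgroup.Normal.comap (Cfsg.Agent.H1.pPrimeCore_normal p) _
  have hLX : L ≤ X := by
    intro x hx
    rw [hX, Subgroup.mem_comap]
    have : QuotientGroup.mk' L x = 1 := (QuotientGroup.eq_one_iff x).2 hx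
    rw [this]; exact one_mem _
  -- cardinalities
  have c1 : Nat.card ↥X = Nat.card ↥(Cfsg.pPrimeCore p (G ⧸ L)) * Nat.card ↥L :=
    Cfsg.Agent.H2.card_comap_mk' L _
  have c2 : Nat.card ↥L = Nat.card ↥(Cfsg.pPrimeCore p (G ⧸ N)) * Nat.card ↥N := by
    rw [hLeq]; exact Cfsg.Agent.H2.card_comap_mk' N _
  have c3 : Nat.card ↥X = Nat.card ↥(X.map (QuotientGroup.mk' N)) * Nat.card ↥N := by
    have := Cfsg.Agent.H2.card_comap_mk' N (X.map (QuotientGroup.mk' N))
    rwa [Subgroup.comap_map_eq_self (by rw [QuotientGroup.ker_mk']; exact hNL.trans hLX)] at this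
  have c4 : Nat.card ↥(X.map (QuotientGroup.mk' N)) =
      Nat.card ↥(Cfsg.pPrimeCore p (G ⧸ L)) * Nat.card ↥(Cfsg.pPrimeCore p (G ⧸ N)) := by
    have : Nat.card ↥(X.map (QuotientGroup.mk' N)) * Nat.card ↥N =
        Nat.card ↥(Cfsg.pPrimeCore p (G ⧸ L)) * Nat.card ↥(Cfsg.pPrimeCore p (G ⧸ N)) * Nat.card ↥N := by
      rw [← c3, c1, c2, mul_assoc]
    exact Nat.eq_of_mul_eq_mul_right Nat.card_pos this
  have hcop : (Nat.card ↥(X.map (QuotientGroup.mk' N))).Coprime p := by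
    rw [c4]
    exact Nat.Coprime.mul_left (Cfsg.Agent.H1.pPrimeCore_coprime p) (Cfsg.Agent.H1.pPrimeCore_coprime p)
  have hXmapn : (X.map (QuotientGroup.mk' N)).Normal := hXn.map _ (QuotientGroup.mk'_surjective N)
  have hle : X.map (QuotientGroup.mk' N) ≤ Cfsg.pPrimeCore p (G ⧸ N) :=
    Cfsg.Agent.H1.le_pPrimeCore hXmapn hcop
  have hXL : X ≤ L := by
    intro x hx
    rw [hLeq, Subgroup.mem_comap]
    exact hle (Subgroup.mem_map_of_mem _ hx)
  rw [eq_bot_iff]
  intro y hy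
  obtain ⟨x, rfl⟩ := QuotientGroup.mk'_surjective L y
  have hxX : x ∈ X := by rw [hX, Subgroup.mem_comap]; exact hy
  rw [Subgroup.mem_bot]
  exact (QuotientGroup.eq_one_iff x).2 (hXL hxX)

theorem general {G : Type*} [Group G] [Finite G] {p : ℕ} [hp : Fact p.Prime] (hsol : Cfsg.IsPSolvable p G)
    (N : Subgroup G) [hN : N.Normal] (L : Subgroup G) [hL : L.Normal]
    (hLeq : L = (Cfsg.pPrimeCore p (G ⧸ N)).comap (QuotientGroup.mk' N)) (W : Subgroup G)
    (hW : W = (Cfsg.pCore p (G ⧸ L)).comap (QuotientGroup.mk' L)) :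
    Subgroup.centralizer ((W.map (QuotientGroup.mk' L) : Subgroup (G ⧸ L)) : Set (G ⧸ L)) ≤
      W.map (QuotientGroup.mk' L) := by
  have h1 : W.map (QuotientGroup.mk' L) = Cfsg.pCore p (G ⧸ L) := by
    rw [hW]
    exact Subgroup.map_comap_eq_self_of_surjective (QuotientGroup.mk'_surjective L) _
  rw [h1]
  exact centralizer_pCore_le (IsPSolvable.quotient L hsol) (pPrimeCore_quotient_comap_eq_bot N L hLeq)

theorem upper_odd {G : Type*} [Group G] (p k : ℕ) :
    (Cfsg.upperPSeries p G (2 * k + 1)).1 =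
      (Cfsg.pPrimeCore p (G ⧸ (Cfsg.upperPSeries p G (2 * k)).1)).comap (QuotientGroup.mk' _) := by
  rw [Cfsg.upperPSeries]
  simp only [even_two_mul, if_true]

theorem upper_even {G : Type*} [Group G] (p k : ℕ) :
    (Cfsg.upperPSeries p G (2 * k + 2)).1 =
      (Cfsg.pCore p (G ⧸ (Cfsg.upperPSeries p G (2 * k + 1)).1)).comap (QuotientGroup.mk' _) := by
  show (Cfsg.upperPSeries p G ((2 * k + 1) + 1)).1 = _
  rw [Cfsg.upperPSeries]
  have h : ¬ Even (2 * k + 1) := by
    rw [Nat.even_add_one, not_not]; exact even_two_mul k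
  simp only [h, if_false]

/-- In a p-soluble group each p-factor of the upper p-series contains its own centralizer in the corresponding quotient. -/
theorem result {G : Type*} [Group G] [Finite G] {p : ℕ} [Fact p.Prime] (hsol : Cfsg.IsPSolvable p G) (k : ℕ) : Subgroup.centralizer ((((Cfsg.upperPSeries p G (2 * k + 2)).1.map (QuotientGroup.mk' (Cfsg.upperPSeries p G (2 * k + 1)).1)) : Subgroup (G ⧸ (Cfsg.upperPSeries p G (2 * k + 1)).1)) : Set (G ⧸ (Cfsg.upperPSeries p G (2 * k + 1)).1)) ≤ (Cfsg.upperPSeries p G (2 * k + 2)).1.map (QuotientGroup.mk' (Cfsg.upperPSeries p G (2 * k + 1)).1) := by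
  exact general hsol (Cfsg.upperPSeries p G (2 * k)).1 (Cfsg.upperPSeries p G (2 * k + 1)).1 (upper_odd p k)
    (Cfsg.upperPSeries p G (2 * k + 2)).1 (upper_even p k)

end Cfsg.Agent.S0634
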