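import Cfsg.Statements.S1460
import Mathlib
import Cfsg.Agent.H1.Basic
import Cfsg.Agent.H1.CoprimeAction
import Cfsg.Agent.H1.SZConj

set_option autoImplicit false
open Cfsg

namespace Cfsg.Agent.S1460

open Cfsg.Agent.H1
open scoped Pointwise

section lemmas

variable {G : Type*} [Group G]

theorem inf_eq_bot_of_coprime (K H : Subgroup G) (hcop : (Nat.card H).Coprime (Nat.card K)) :
    H ⊓ K = ⊥ := (Subgroup.disjoint_of_coprime_natCard hcop).eq_bot

/-- elements of `K` normalizing `H` centralize it -/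
theorem mem_centralizer_of_normalizes (K H : Subgroup G) [K.Normal]
    (hcop : (Nat.card H).Coprime (Nat.card K)) (c : G) (hcK : c ∈ K)
    (hcH : ∀ h ∈ H, c * h * c⁻¹ ∈ H) : c ∈ Subgroup.centralizer (H : Set G) := by
  rw [Subgroup.mem_centralizer_iff]
  intro h hh
  have h1 : c * h * c⁻¹ * h⁻¹ ∈ H := H.mul_mem (hcH h hh) (H.inv_mem hh)
  have h2 : c * h * c⁻¹ * h⁻¹ ∈ K := by
    have : c * h * c⁻¹ * h⁻¹ = c * (h * c⁻¹ * h⁻¹) := by group
    rw [this]
    exact K.mul_mem hcK (Subgroup.Normal.conj_mem inferInstance _ (K.inv_mem hcK) h)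
  have h3 : c * h * c⁻¹ * h⁻¹ ∈ H ⊓ K := ⟨h1, h2⟩
  rw [inf_eq_bot_of_coprime K H hcop, Subgroup.mem_bot] at h3
  calc h * c = (c * h * c⁻¹ * h⁻¹)⁻¹ * (c * h) := by group
    _ = c * h := by rw [h3, inv_one, one_mul]

theorem part3 [Finite G] [Group.IsSolvable G] (K U H : Subgroup G) [K.Normal] (hKU : K ⊔ U = ⊤)
    (hH : H ≤ U) (hcop : (Nat.card H).Coprime (Nat.card K)) (g : G)
    (hg : H.map (MulAut.conj g).toMonoidHom ≤ U) :
    ∃ u ∈ U, ∃ c ∈ K ⊓ Subgroup.centralizer (H : Set G), g = u * c := by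
  have hg_mem : g ∈ ((U ⊔ K : Subgroup G) : Set G) := by
    rw [sup_comm, hKU]; trivial
  rw [Subgroup.mul_normal U K] at hg_mem
  obtain ⟨u, hu, k, hk, rfl⟩ := Set.mem_mul.mp hg_mem
  have hu : u ∈ U := hu
  have hk : k ∈ K := hk
  have hH₁U : ∀ h ∈ H, k * h * k⁻¹ ∈ U := by
    intro h hh
    have h1 : (u * k) * h * (u * k)⁻¹ ∈ U :=
      hg (Subgroup.mem_map.mpr ⟨h, hh, by simp [MulAut.conj_apply]; group⟩)
    have h2 : k * h * k⁻¹ = u⁻¹ * ((u * k) * h * (u * k)⁻¹) * u := by group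
    rw [h2]; exact U.mul_mem (U.mul_mem (U.inv_mem hu) h1) hu
  have hHD : H ≤ Subgroup.normalizer ((K ⊓ U : Subgroup G) : Set G) := by
    intro h hh
    have hhU := hH hh
    rw [Subgroup.mem_normalizer_iff]
    intro x
    constructor
    · rintro ⟨hxK, hxU⟩
      exact ⟨Subgroup.Normal.conj_mem inferInstance _ hxK h,
        U.mul_mem (U.mul_mem hhU hxU) (U.inv_mem hhU)⟩
    · rintro ⟨hxK, hxU⟩
      have e : x = h⁻¹ * (h * x * h⁻¹) * h⁻¹⁻¹ := by group
      rw [e]
      exact ⟨Subgroup.Normal.conj_mem inferInstance _ hxK h⁻¹,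
        U.mul_mem (U.mul_mem (U.inv_mem hhU) hxU) (U.inv_mem (U.inv_mem hhU))⟩
  have hcopD : (Nat.card H).Coprime (Nat.card (K ⊓ U : Subgroup G)) :=
    Nat.Coprime.coprime_dvd_right (Subgroup.card_dvd_of_le inf_le_left) hcop
  have hB : MulAut.conj k • H ≤ (K ⊓ U) ⊔ H := by
    intro x hx
    rw [mem_conj_smul] at hx
    -- x = k * y * k⁻¹ with y ∈ H
    have e : x = (k * (k⁻¹ * x * k) * k⁻¹ * (k⁻¹ * x * k)⁻¹) * (k⁻¹ * x * k) := by group
    rw [e]
    refine Subgroup.mul_mem _ (Subgroup.mem_sup_left ⟨?_, ?_⟩) (Subgroup.mem_sup_right hx)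
    · have : k * (k⁻¹ * x * k) * k⁻¹ * (k⁻¹ * x * k)⁻¹ =
          k * ((k⁻¹ * x * k) * k⁻¹ * (k⁻¹ * x * k)⁻¹) := by group
      rw [this]
      exact K.mul_mem hk (Subgroup.Normal.conj_mem inferInstance _ (K.inv_mem hk) _)
    · exact U.mul_mem (hH₁U _ hx) (U.inv_mem (hH hx))
  obtain ⟨n, hn, hnH⟩ := coprime_conj H (K ⊓ U) (MulAut.conj k • H) hHD hcopD
    (Or.inl inferInstance) hB (card_conj_smul _ _)
  refine ⟨u * n, U.mul_mem hu hn.2, n⁻¹ * k, ⟨K.mul_mem (K.inv_mem hn.1) hk, ?_⟩, by group⟩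
  apply mem_centralizer_of_normalizes K H hcop _ (K.mul_mem (K.inv_mem hn.1) hk)
  intro h hh
  -- k h k⁻¹ ∈ conj k • H = conj n • H
  have h1 : k * h * k⁻¹ ∈ MulAut.conj k • H := (conj_mem_conj_smul k h H).mpr hh
  rw [← hnH, mem_conj_smul] at h1
  have e : n⁻¹ * k * h * (n⁻¹ * k)⁻¹ = n⁻¹ * (k * h * k⁻¹) * n := by group
  rw [e]; exact h1

theorem pow_card_eq_one_of_mem [Finite G] (H : Subgroup G) {x : G} (hx : x ∈ H) :
    x ^ Nat.card H = 1 := by
  have := pow_card_eq_one' (G := H) (x := ⟨x, hx⟩)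
  have h2 := congrArg Subtype.val this
  rw [Subgroup.coe_pow] at h2
  exact h2

theorem commutator_le_sup [Finite G] (K U : Subgroup G) [K.Normal] (hKU : K ⊔ U = ⊤) :
    commutator G ≤ ⁅U, U⁆ ⊔ K := by
  have hker : (QuotientGroup.mk' K).ker = K := QuotientGroup.ker_mk' K
  have hUtop : U.map (QuotientGroup.mk' K) = ⊤ := by
    have h1 : (K ⊔ U).map (QuotientGroup.mk' K) = ⊤ := by
      rw [hKU]
      exact Subgroup.map_top_of_surjective _ (QuotientGroup.mk'_surjective K)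
    rw [Subgroup.map_sup] at h1
    have h2 : K.map (QuotientGroup.mk' K) = ⊥ := by
      rw [Subgroup.map_eq_bot_iff, hker]
    rw [h2, bot_sup_eq] at h1
    exact h1
  have h3 : (commutator G).map (QuotientGroup.mk' K) ≤ (⁅U, U⁆).map (QuotientGroup.mk' K) := by
    rw [Subgroup.map_commutator, hUtop, commutator_def, Subgroup.map_commutator]
    exact Subgroup.commutator_mono le_top le_top
  have h4 := (Subgroup.map_le_map_iff).mp h3
  rwa [hker] at h4

theorem part1 [Finite G] (K U H : Subgroup G) [K.Normal] (hKU : K ⊔ U = ⊤)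
    (hH : H ≤ U) (hcop : (Nat.card H).Coprime (Nat.card K)) :
    H ⊓ commutator G = H ⊓ ⁅U, U⁆ := by
  apply le_antisymm
  · rintro x ⟨hxH, hxG⟩
    refine ⟨hxH, ?_⟩
    have hx1 : x ∈ ((⁅U, U⁆ ⊔ K : Subgroup G) : Set G) := commutator_le_sup K U hKU hxG
    rw [Subgroup.mul_normal ⁅U, U⁆ K] at hx1
    obtain ⟨w, hw, k, hk, hwk⟩ := Set.mem_mul.mp hx1
    have hw : w ∈ ⁅U, U⁆ := hw
    have hk : k ∈ K := hk
    have hUU : ⁅U, U⁆ ≤ U := by
      rw [Subgroup.commutator_le]
      intro a ha b hb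
      rw [commutatorElement_def]
      exact U.mul_mem (U.mul_mem (U.mul_mem ha hb) (U.inv_mem ha)) (U.inv_mem hb)
    have hwU : w ∈ U := hUU hw
    have hxU : x ∈ U := hH hxH
    have hkU : k ∈ U := by
      have : k = w⁻¹ * x := by rw [← hwk]; group
      rw [this]; exact U.mul_mem (U.inv_mem hwU) hxU
    rw [← Subgroup.map_subtype_commutator] at hw ⊢
    obtain ⟨wU, hwU', hwe⟩ := Subgroup.mem_map.mp hw
    refine Subgroup.mem_map.mpr ⟨⟨x, hxU⟩, ?_, rfl⟩
    have hprod : (⟨x, hxU⟩ : U) = wU * ⟨k, hkU⟩ := by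
      apply Subtype.ext
      simp only [Subgroup.coe_mul]
      rw [← hwk]
      congr 1
      exact hwe.symm
    -- pass to the abelianization
    have hof : Abelianization.of (⟨x, hxU⟩ : U) = Abelianization.of (⟨k, hkU⟩ : U) := by
      rw [hprod, map_mul]
      have : Abelianization.of wU = 1 := by
        rw [← MonoidHom.mem_ker, Abelianization.ker_of]
        exact hwU'
      rw [this, one_mul]
    have h1 : (Abelianization.of (⟨x, hxU⟩ : U)) ^ Nat.card H = 1 := by
      rw [← map_pow]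
      have : (⟨x, hxU⟩ : U) ^ Nat.card H = 1 := by
        apply Subtype.ext
        simp only [Subgroup.coe_pow, Subgroup.coe_one]
        exact pow_card_eq_one_of_mem H hxH
      rw [this, map_one]
    have h2 : (Abelianization.of (⟨x, hxU⟩ : U)) ^ Nat.card K = 1 := by
      rw [hof, ← map_pow]
      have : (⟨k, hkU⟩ : U) ^ Nat.card K = 1 := by
        apply Subtype.ext
        simp only [Subgroup.coe_pow, Subgroup.coe_one]
        exact pow_card_eq_one_of_mem K hk
      rw [this, map_one]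
    have h3 : orderOf (Abelianization.of (⟨x, hxU⟩ : U)) = 1 :=
      Nat.eq_one_of_dvd_coprimes hcop (orderOf_dvd_of_pow_eq_one h1) (orderOf_dvd_of_pow_eq_one h2)
    rw [orderOf_eq_one_iff, ← MonoidHom.mem_ker, Abelianization.ker_of] at h3
    exact h3
  · refine inf_le_inf_left H ?_
    rw [commutator_def]
    exact Subgroup.commutator_mono le_top le_top

theorem part2 [Finite G] [Group.IsSolvable G] (K U H : Subgroup G) [K.Normal] (hKU : K ⊔ U = ⊤)
    (hH : H ≤ U) (hcop : (Nat.card H).Coprime (Nat.card K)) :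
    Subgroup.normalizer (H : Set G) =
      (K ⊓ Subgroup.centralizer (H : Set G)) ⊔ (U ⊓ Subgroup.normalizer (H : Set G)) := by
  apply le_antisymm
  · intro g hg
    have hgU : H.map (MulAut.conj g).toMonoidHom ≤ U := by
      intro x hx
      obtain ⟨h, hh, rfl⟩ := Subgroup.mem_map.mp hx
      apply hH
      have := (Subgroup.mem_normalizer_iff.mp hg h).mp hh
      simpa [MulAut.conj_apply] using this
    obtain ⟨u, hu, c, hc, rfl⟩ := part3 K U H hKU hH hcop g hgU
    have hcN : c ∈ Subgroup.normalizer (H : Set G) := Subgroup.centralizer_le_normalizer _ hc.2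
    have huN : u ∈ Subgroup.normalizer (H : Set G) := by
      have : u = (u * c) * c⁻¹ := by group
      rw [this]
      exact Subgroup.mul_mem _ hg (Subgroup.inv_mem _ hcN)
    exact Subgroup.mul_mem _ (Subgroup.mem_sup_right ⟨hu, huN⟩) (Subgroup.mem_sup_left hc)
  · exact sup_le (inf_le_right.trans (Subgroup.centralizer_le_normalizer _)) inf_le_right

end lemmas

/-- Let G be a finite solvable group, K a normal subgroup and U a subgroup with G = KU, and H ≤ U a subgroup whose order is coprime to that of K. Then H ∩ G' = H ∩ U'; N_G(H) is generated by K ∩ C_G(H) and U ∩ N_G(H); and if gHg⁻¹ ≤ U for some g ∈ G then g = u c with u ∈ U and c ∈ K ∩ C_G(H). -/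
theorem result {G : Type*} [Group G] [Finite G] [Group.IsSolvable G] (K U H : Subgroup G) [K.Normal] (hKU : K ⊔ U = ⊤) (hH : H ≤ U) (hcop : (Nat.card H).Coprime (Nat.card K)) :
    H ⊓ commutator G = H ⊓ ⁅U, U⁆ ∧
      Subgroup.normalizer (H : Set G) = (K ⊓ Subgroup.centralizer (H : Set G)) ⊔ (U ⊓ Subgroup.normalizer (H : Set G)) ∧
      ∀ g : G, H.map (MulAut.conj g).toMonoidHom ≤ U → ∃ u ∈ U, ∃ c ∈ K ⊓ Subgroup.centralizer (H : Set G), g = u * c := by
  exact ⟨part1 K U H hKU hH hcop, part2 K U H hKU hH hcop, fun g hg => part3 K U H hKU hH hcop g hg⟩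

end Cfsg.Agent.S1460
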