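import Cfsg.Statements.S0666
import Mathlib
import Cfsg.Agent.Lib.Helper4.FrobAction

set_option autoImplicit false
set_option linter.style.haveILetI false

namespace Cfsg.Agent.S0666

open Cfsg

/-- conjugation action of a normalizing subgroup on a subgroup -/
def conjAut {G : Type*} [Group G] (V F : Subgroup G)
    (hFV : F ≤ Subgroup.normalizer (V : Set G)) : F →* MulAut V where
  toFun x :=
    { toFun := fun v => ⟨(x : G) * v * (x : G)⁻¹,
        ((Subgroup.mem_normalizer_iff.1 (hFV x.2)) v).1 v.2⟩
      invFun := fun v => ⟨(x : G)⁻¹ * v * (x : G), by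
        have := ((Subgroup.mem_normalizer_iff.1 (hFV (F.inv_mem x.2))) v).1 v.2
        rwa [inv_inv] at this⟩
      left_inv := fun v => by
        apply Subtype.ext
        show (x : G)⁻¹ * ((x : G) * v * (x : G)⁻¹) * (x : G) = v
        group
      right_inv := fun v => by
        apply Subtype.ext
        show (x : G) * ((x : G)⁻¹ * v * (x : G)) * (x : G)⁻¹ = v
        group
      map_mul' := fun v w => by
        apply Subtype.ext
        show (x : G) * ((v : G) * w) * (x : G)⁻¹ = ((x : G) * v * (x : G)⁻¹) * ((x : G) * w * (x : G)⁻¹)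
        group }
  map_one' := by
    ext v
    show ((1 : F) : G) * v * ((1 : F) : G)⁻¹ = v
    simp
  map_mul' x y := by
    ext v
    show ((x * y : F) : G) * v * ((x * y : F) : G)⁻¹ = (x : G) * ((y : G) * v * (y : G)⁻¹) * (x : G)⁻¹
    simp only [Subgroup.coe_mul]
    group

theorem conjAut_apply {G : Type*} [Group G] (V F : Subgroup G)
    (hFV : F ≤ Subgroup.normalizer (V : Set G)) (x : F) (v : V) :
    ((conjAut V F hFV x v : V) : G) = (x : G) * v * (x : G)⁻¹ := rfl

/-- A Frobenius group acting on a nontrivial abelian group of order prime to that of its kernel, with the kernel acting without nontrivial fixed points, has a complement with a nontrivial fixed point. -/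
theorem result {G : Type*} [Group G] [Finite G] (V F : Subgroup G) (hVab : IsMulCommutative V) (hV1 : V ≠ ⊥) (hFV : F ≤ Subgroup.normalizer (V : Set G)) (H : Subgroup ↥F) (hH : Cfsg.IsFrobeniusComplement H) (hcop : (Nat.card V).Coprime (Nat.card (Cfsg.frobeniusKernel H))) (hCK : V ⊓ Subgroup.centralizer (Subtype.val '' Cfsg.frobeniusKernel H : Set G) = ⊥) : V ⊓ Subgroup.centralizer ((H.map F.subtype : Subgroup G) : Set G) ≠ ⊥ := by
  classical
  intro hbot
  haveI : Fintype F := Fintype.ofFinite F
  letI : CommGroup V := { (inferInstance : Group V) with mul_comm := hVab.is_comm.comm }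
  have hfix : ∀ (x : F) (a : V), conjAut V F hFV x a = a → (x : G) * a = a * x := by
    intro x a h
    have h1 : (x : G) * a * (x : G)⁻¹ = a := by
      rw [← conjAut_apply V F hFV x a, h]
    calc (x : G) * a = ((x : G) * a * (x : G)⁻¹) * x := by group
      _ = a * x := by rw [h1]
  have key := Cfsg.Agent.Lib.Helper4.FrobAction.pow_index_eq_one (conjAut V F hFV) H hH ?_ ?_
  · apply hV1
    rw [eq_bot_iff]
    intro v hv
    rw [Subgroup.mem_bot]
    have h1 := key ⟨v, hv⟩
    have h2 : (⟨v, hv⟩ : V) ^ Nat.card V = 1 := pow_card_eq_one'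
    rw [Cfsg.Agent.H1.card_frobeniusKernel H hH] at hcop
    have h3 := pow_gcd_eq_one.2 ⟨h2, h1⟩
    rw [Nat.Coprime.gcd_eq_one hcop, pow_one] at h3
    exact congrArg Subtype.val h3
  · intro a ha
    have : (a : G) ∈ V ⊓ Subgroup.centralizer (Subtype.val '' Cfsg.frobeniusKernel H : Set G) := by
      refine Subgroup.mem_inf.2 ⟨a.2, ?_⟩
      rw [Subgroup.mem_centralizer_iff]
      rintro _ ⟨x, hx, rfl⟩
      exact hfix x a (ha x hx)
    rw [hCK, Subgroup.mem_bot] at this
    exact Subtype.ext this
  · intro a ha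
    have : (a : G) ∈ V ⊓ Subgroup.centralizer ((H.map F.subtype : Subgroup G) : Set G) := by
      refine Subgroup.mem_inf.2 ⟨a.2, ?_⟩
      rw [Subgroup.mem_centralizer_iff]
      rintro _ ⟨x, hx, rfl⟩
      exact hfix x a (ha x hx)
    rw [hbot, Subgroup.mem_bot] at this
    exact Subtype.ext this

end Cfsg.Agent.S0666
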