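import Cfsg.Statements.S1475
import Mathlib
import Cfsg.Agent.S0666
import Cfsg.Agent.H2.FrobeniusInternal

namespace Cfsg.Agent.S1475

universe u

/-- every element has prime power order -/
def EPPO (G : Type*) [Group G] : Prop := ∀ g : G, IsPrimePow (orderOf g) ∨ g = 1

theorem no_coprime_commute {G : Type*} [Group G] (h : EPPO G) {x y : G} (hxy : Commute x y)
    (hx : x ≠ 1) (hy : y ≠ 1) (hco : (orderOf x).Coprime (orderOf y)) : False := by
  have ho := hxy.orderOf_mul_eq_mul_orderOf_of_coprime hco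
  have hx1 : orderOf x ≠ 1 := fun h1 => hx (orderOf_eq_one_iff.mp h1)
  have hy1 : orderOf y ≠ 1 := fun h1 => hy (orderOf_eq_one_iff.mp h1)
  rcases h (x * y) with hpp | h1
  · rw [ho, isPrimePow_nat_iff] at hpp
    obtain ⟨p, k, hp, hk, hpk⟩ := hpp
    have h1 : orderOf x ∣ p ^ k := hpk ▸ dvd_mul_right _ _
    have h2 : orderOf y ∣ p ^ k := hpk ▸ dvd_mul_left _ _
    obtain ⟨i, _, hi⟩ := (Nat.dvd_prime_pow hp).mp h1
    obtain ⟨j, _, hj⟩ := (Nat.dvd_prime_pow hp).mp h2
    have hi0 : i ≠ 0 := by rintro rfl; exact hx1 (by rw [hi, pow_zero])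
    have hj0 : j ≠ 0 := by rintro rfl; exact hy1 (by rw [hj, pow_zero])
    have h3 : p ∣ Nat.gcd (orderOf x) (orderOf y) :=
      Nat.dvd_gcd (hi ▸ dvd_pow_self p hi0) (hj ▸ dvd_pow_self p hj0)
    rw [hco] at h3
    exact hp.one_lt.ne' (Nat.dvd_one.mp h3)
  · rw [h1, orderOf_one] at ho
    have : orderOf x = 1 := Nat.eq_one_of_mul_eq_one_right ho.symm
    exact hx1 this

theorem EPPO.subgroup {G : Type*} [Group G] (h : EPPO G) (Q : Subgroup G) : EPPO Q := by
  intro g
  rcases h (g : G) with h1 | h1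
  · left; rwa [Subgroup.orderOf_coe] at h1
  · right; exact Subtype.ext h1

theorem EPPO.quotient {G : Type*} [Group G] (h : EPPO G) (N : Subgroup G) [N.Normal] :
    EPPO (G ⧸ N) := by
  intro g
  obtain ⟨x, rfl⟩ := QuotientGroup.mk_surjective g
  rcases h x with h1 | h1
  · rw [isPrimePow_nat_iff] at h1
    obtain ⟨p, k, hp, hk, hpk⟩ := h1
    have hd : orderOf (QuotientGroup.mk' N x) ∣ p ^ k := hpk ▸ orderOf_map_dvd _ x
    obtain ⟨i, _, hi⟩ := (Nat.dvd_prime_pow hp).mp hd
    rcases Nat.eq_zero_or_pos i with h0 | h0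
    · right
      rw [h0, pow_zero, orderOf_eq_one_iff] at hi
      exact hi
    · left
      rw [isPrimePow_nat_iff]
      exact ⟨p, i, hp, h0, hi.symm⟩
  · right; rw [h1]; rfl

theorem isPGroup_of_abelian {G : Type*} [Group G] [Finite G] (h : EPPO G) (hc : IsMulCommutative G)
    [Nontrivial G] : ∃ p : ℕ, p.Prime ∧ IsPGroup p G := by
  have hcard : 1 < Nat.card G := Finite.one_lt_card
  obtain ⟨p, hp, hpd⟩ := Nat.exists_prime_and_dvd hcard.ne'
  refine ⟨p, hp, ?_⟩
  haveI : Fact p.Prime := ⟨hp⟩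
  rw [IsPGroup.iff_card]
  refine ⟨_, Nat.eq_prime_pow_of_unique_prime_dvd (by omega) ?_⟩
  intro q hq hqd
  by_contra hne
  haveI : Fact q.Prime := ⟨hq⟩
  obtain ⟨x, hx⟩ := exists_prime_orderOf_dvd_card' (G := G) p hpd
  obtain ⟨y, hy⟩ := exists_prime_orderOf_dvd_card' (G := G) q hqd
  apply no_coprime_commute h (show Commute x y from hc.is_comm.comm x y)
  · rintro rfl; rw [orderOf_one] at hx; exact hp.one_lt.ne' hx.symm
  · rintro rfl; rw [orderOf_one] at hy; exact hq.one_lt.ne' hy.symm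
  · rw [hx, hy]; exact (Nat.coprime_primes hp hq).mpr (fun h => hne h.symm)

theorem exists_normal_abelian {G : Type*} [Group G] [Nontrivial G] (hs : Group.IsSolvable G) :
    ∃ A : Subgroup G, A.Normal ∧ A ≠ ⊥ ∧ IsMulCommutative A := by
  classical
  have hex : ∃ n, derivedSeries G n = ⊥ := hs.solvable
  have hk := Nat.find_spec hex
  have hmin := fun m => Nat.find_min hex (m := m)
  obtain ⟨k, hkdef⟩ : ∃ k, k = Nat.find hex := ⟨_, rfl⟩
  rw [← hkdef] at hk hmin
  have hk0 : k ≠ 0 := by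
    intro h0
    rw [h0, derivedSeries_zero] at hk
    exact top_ne_bot hk
  obtain ⟨j, rfl⟩ := Nat.exists_eq_succ_of_ne_zero hk0
  refine ⟨derivedSeries G j, derivedSeries_normal G j, hmin j (Nat.lt_succ_self j), ?_⟩
  rw [derivedSeries_succ, Subgroup.commutator_eq_bot_iff_le_centralizer] at hk
  refine ⟨⟨fun a b => ?_⟩⟩
  apply Subtype.ext
  have := hk a.2 b b.2
  exact this.symm

theorem no_commute_pp {G : Type*} [Group G] (h : EPPO G) {x y : G} (hxy : Commute x y)
    (hx : x ≠ 1) (hy : y ≠ 1) {s t k l : ℕ} (hs : s.Prime) (ht : t.Prime) (hst : s ≠ t)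
    (hxs : orderOf x ∣ s ^ k) (hyt : orderOf y ∣ t ^ l) : False :=
  no_coprime_commute h hxy hx hy
    (Nat.Coprime.coprime_dvd_left hxs
      (Nat.Coprime.coprime_dvd_right hyt (Nat.coprime_pow_primes k l hs ht hst)))

theorem orderOf_dvd_of_isPGroup {G : Type*} [Group G] {p : ℕ} {A : Subgroup G}
    (hA : IsPGroup p A) {a : G} (ha : a ∈ A) : ∃ k, orderOf a ∣ p ^ k := by
  obtain ⟨k, hk⟩ := hA ⟨a, ha⟩
  refine ⟨k, orderOf_dvd_of_pow_eq_one ?_⟩
  have := congrArg Subtype.val hk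
  simpa using this

theorem key {G : Type*} [Group G] [Finite G] (h : EPPO G) (A Q : Subgroup G) [A.Normal]
    (hAc : IsMulCommutative A) (hA1 : A ≠ ⊥) (p : ℕ) (hp : p.Prime) (hAp : IsPGroup p A)
    (hQp : (Nat.card Q).Coprime p) (hQs : Group.IsSolvable Q)
    (q r : ℕ) (hq : q.Prime) (hr : r.Prime) (hqr : q ≠ r) (hqQ : q ∣ Nat.card Q)
    (hrQ : r ∣ Nat.card Q) : False := by
  classical
  haveI : Fact p.Prime := ⟨hp⟩
  have hQ : EPPO Q := h.subgroup Q
  haveI : Nontrivial Q := by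
    rw [← Finite.one_lt_card_iff_nontrivial]
    exact lt_of_lt_of_le hq.one_lt (Nat.le_of_dvd Nat.card_pos hqQ)
  obtain ⟨W0, hW0n, hW01, hW0c⟩ := exists_normal_abelian hQs
  haveI : Nontrivial W0 := (Subgroup.nontrivial_iff_ne_bot W0).mpr hW01
  obtain ⟨s, hs, hW0s⟩ := isPGroup_of_abelian (hQ.subgroup W0) hW0c
  haveI : Fact s.Prime := ⟨hs⟩
  obtain ⟨t, ht, hts, htQ⟩ : ∃ t : ℕ, t.Prime ∧ t ≠ s ∧ t ∣ Nat.card Q := by
    by_cases hqs : q = s
    · exact ⟨r, hr, fun h => hqr (hqs.trans h.symm), hrQ⟩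
    · exact ⟨q, hq, hqs, hqQ⟩
  haveI : Fact t.Prime := ⟨ht⟩
  obtain ⟨y0, hy0⟩ := exists_prime_orderOf_dvd_card' (G := Q) t htQ
  have hsQ : s ∣ Nat.card Q := by
    obtain ⟨n, hn⟩ := IsPGroup.iff_card.mp hW0s
    have hn0 : n ≠ 0 := by
      rintro rfl
      rw [pow_zero] at hn
      have : 1 < Nat.card W0 := Finite.one_lt_card
      omega
    have : s ∣ Nat.card W0 := hn ▸ dvd_pow_self s hn0
    exact dvd_trans this (Subgroup.card_subgroup_dvd_card W0)
  have hsp : s ≠ p := by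
    rintro rfl
    have := Nat.dvd_gcd hsQ (dvd_refl s)
    rw [hQp] at this
    exact hs.one_lt.ne' (Nat.dvd_one.mp this)
  have htp : t ≠ p := by
    rintro rfl
    have := Nat.dvd_gcd htQ (dvd_refl t)
    rw [hQp] at this
    exact ht.one_lt.ne' (Nat.dvd_one.mp this)
  -- move to G
  set W : Subgroup G := W0.map Q.subtype with hW
  set y : G := (y0 : G) with hy
  have hyo : orderOf y = t := by rw [hy, Subgroup.orderOf_coe, hy0]
  have hy1 : y ≠ 1 := by
    rintro h1; rw [h1, orderOf_one] at hyo; exact ht.one_lt.ne' hyo.symm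
  have hWs : IsPGroup s W := hW0s.map Q.subtype
  have hW1 : W ≠ ⊥ := by
    rw [hW, Ne, Subgroup.map_eq_bot_iff_of_injective _ Q.subtype_injective]; exact hW01
  obtain ⟨w, hwW, hw1⟩ : ∃ w : G, w ∈ W ∧ w ≠ 1 := by
    obtain ⟨a, ha⟩ := Subgroup.ne_bot_iff_exists_ne_one.mp hW1
    exact ⟨(a : G), a.2, fun h => ha (Subtype.ext h)⟩
  have hQW : Q ≤ Subgroup.normalizer (W : Set G) := by
    have h1 := Subgroup.le_normalizer_map (H := W0) Q.subtype
    rw [Subgroup.normalizer_eq_top, ← MonoidHom.range_eq_map, Subgroup.range_subtype] at h1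
    exact h1
  set F : Subgroup G := W ⊔ Subgroup.zpowers y with hF
  have hWF : W ≤ F := le_sup_left
  have hyF : Subgroup.zpowers y ≤ F := le_sup_right
  have hnorm : F ≤ Subgroup.normalizer (W : Set G) :=
    sup_le Subgroup.le_normalizer (by rw [Subgroup.zpowers_le]; exact hQW y0.2)
  haveI : (W.subgroupOf F).Normal := (Subgroup.normal_subgroupOf_iff_le_normalizer hWF).mpr hnorm
  have hzt : ∀ x ∈ Subgroup.zpowers y, orderOf x ∣ t ^ 1 := by
    intro x hx
    rw [pow_one, ← hyo]; exact orderOf_dvd_of_mem_zpowers hx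
  have hfrob := Cfsg.Agent.H2.FrobInt.frobenius_of_fpf (K := F) (W.subgroupOf F)
    ((Subgroup.zpowers y).subgroupOf F) ?_ ?_ ?_ ?_ ?_
  · obtain ⟨hHfrob, hker⟩ := hfrob
    have hne := Cfsg.Agent.S0666.result (G := G) A F hAc hA1
      (by rw [Subgroup.normalizer_eq_top]; exact le_top) ((Subgroup.zpowers y).subgroupOf F)
      hHfrob ?_ ?_
    · obtain ⟨⟨a, ha⟩, ha1⟩ := Subgroup.ne_bot_iff_exists_ne_one.mp hne
      obtain ⟨haA, hac⟩ := Subgroup.mem_inf.mp ha
      have hya : y * a = a * y := by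
        apply Subgroup.mem_centralizer_iff.mp hac y
        exact ⟨⟨y, hyF (Subgroup.mem_zpowers y)⟩, Subgroup.mem_subgroupOf.mpr (Subgroup.mem_zpowers y), rfl⟩
      obtain ⟨k, hk⟩ := orderOf_dvd_of_isPGroup hAp haA
      exact no_commute_pp h (show Commute y a from hya) hy1 (fun h1 => ha1 (Subtype.ext h1))
        ht hp htp (hzt y (Subgroup.mem_zpowers y)) hk
    · -- coprimality
      rw [hker]
      have h1 : IsPGroup s (W.subgroupOf F) := hWs.comap_subtype
      obtain ⟨n, hn⟩ := IsPGroup.iff_card.mp h1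
      obtain ⟨m, hm⟩ := IsPGroup.iff_card.mp hAp
      rw [hm]
      change (p ^ m).Coprime (Nat.card (W.subgroupOf F))
      rw [hn]
      exact Nat.coprime_pow_primes m n hp hs (Ne.symm hsp)
    · rw [hker, eq_bot_iff]
      intro a ha
      obtain ⟨haA, hac⟩ := Subgroup.mem_inf.mp ha
      rw [Subgroup.mem_bot]
      by_contra ha1
      have hwa : w * a = a * w := by
        apply Subgroup.mem_centralizer_iff.mp hac w
        exact ⟨⟨w, hWF hwW⟩, Subgroup.mem_subgroupOf.mpr hwW, rfl⟩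
      obtain ⟨k, hk⟩ := orderOf_dvd_of_isPGroup hAp haA
      obtain ⟨l, hl⟩ := orderOf_dvd_of_isPGroup hWs hwW
      exact no_commute_pp h (show Commute w a from hwa) hw1 ha1 hs hp hsp hl hk
  · rw [← Subgroup.subgroupOf_sup hWF hyF, Subgroup.subgroupOf_self]
  · rw [eq_bot_iff]
    intro x hx
    obtain ⟨h1, h2⟩ := Subgroup.mem_inf.1 hx
    rw [Subgroup.mem_subgroupOf] at h1 h2
    rw [Subgroup.mem_bot]
    apply Subtype.ext
    show (x : G) = 1
    obtain ⟨l, hl⟩ := orderOf_dvd_of_isPGroup hWs h1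
    have h3 := hzt _ h2
    have h4 : orderOf (x : G) = 1 :=
      Nat.eq_one_of_dvd_coprimes (Nat.coprime_pow_primes l 1 hs ht (Ne.symm hts)) hl h3
    exact orderOf_eq_one_iff.mp h4
  · intro hbot
    have : (⟨y, hyF (Subgroup.mem_zpowers y)⟩ : F) ∈ (Subgroup.zpowers y).subgroupOf F :=
      Subgroup.mem_subgroupOf.mpr (Subgroup.mem_zpowers y)
    rw [hbot, Subgroup.mem_bot] at this
    exact hy1 (congrArg Subtype.val this)
  · intro hbot
    have : (⟨w, hWF hwW⟩ : F) ∈ W.subgroupOf F := Subgroup.mem_subgroupOf.mpr hwW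
    rw [hbot, Subgroup.mem_bot] at this
    exact hw1 (congrArg Subtype.val this)
  · intro x hx hx1 n hn hcomm
    rw [Subgroup.mem_subgroupOf] at hx hn
    apply Subtype.ext
    show (n : G) = 1
    by_contra hn1
    obtain ⟨l, hl⟩ := orderOf_dvd_of_isPGroup hWs hn
    exact no_commute_pp h (show Commute (x : G) (n : G) from congrArg Subtype.val hcomm)
      (fun h1 => hx1 (Subtype.ext h1)) hn1 ht hs hts (hzt _ hx) hl

theorem aux : ∀ (n : ℕ) (G : Type u) [Group G] [Finite G] [Group.IsSolvable G],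
    Nat.card G = n → EPPO G → (Nat.card G).primeFactors.card ≤ 2 := by
  intro n
  induction n using Nat.strong_induction_on with
  | _ n IH =>
  intro G _ _ hsol hGn h
  classical
  rcases subsingleton_or_nontrivial G with hsub | hnt
  · rw [Nat.card_unique]; simp
  obtain ⟨A, hAn, hA1, hAc⟩ := exists_normal_abelian hsol
  haveI := hAn
  haveI : Nontrivial A := (Subgroup.nontrivial_iff_ne_bot A).mpr hA1
  obtain ⟨p, hp, hAp⟩ := isPGroup_of_abelian (h.subgroup A) hAc
  haveI : Fact p.Prime := ⟨hp⟩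
  obtain ⟨a, ha⟩ := IsPGroup.iff_card.mp hAp
  have ha0 : a ≠ 0 := by
    rintro rfl
    rw [pow_zero] at ha
    have : 1 < Nat.card A := Finite.one_lt_card
    omega
  have hmul : Nat.card G = Nat.card A * Nat.card (G ⧸ A) := by
    rw [mul_comm]; exact Subgroup.card_eq_card_quotient_mul_card_subgroup A
  have hqpos : 0 < Nat.card (G ⧸ A) := Nat.card_pos
  have hlt : Nat.card (G ⧸ A) < n := by
    rw [← hGn, hmul]
    have : 2 ≤ Nat.card A := Finite.one_lt_card
    nlinarith
  have ih := IH _ hlt (G ⧸ A) rfl (h.quotient A)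
  by_contra hcon
  push Not at hcon
  rw [hmul, ha, Nat.primeFactors_mul (pow_ne_zero a hp.ne_zero) hqpos.ne',
    Nat.primeFactors_prime_pow ha0 hp] at hcon
  have hpS : p ∉ (Nat.card (G ⧸ A)).primeFactors := by
    intro hmem
    rw [Finset.union_eq_right.mpr (Finset.singleton_subset_iff.mpr hmem)] at hcon
    omega
  have hS2 : (Nat.card (G ⧸ A)).primeFactors.card = 2 := by
    have := Finset.card_union_le {p} (Nat.card (G ⧸ A)).primeFactors
    rw [Finset.card_singleton] at this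
    omega
  obtain ⟨q, r, hqr, hS⟩ := Finset.card_eq_two.mp hS2
  have hqm : q ∈ (Nat.card (G ⧸ A)).primeFactors := by rw [hS]; simp
  have hrm : r ∈ (Nat.card (G ⧸ A)).primeFactors := by rw [hS]; simp
  rw [Nat.mem_primeFactors] at hqm hrm
  have hcop : (Nat.card (G ⧸ A)).Coprime p := by
    apply Nat.Coprime.symm
    rw [Nat.Prime.coprime_iff_not_dvd hp]
    intro hd
    exact hpS (Nat.mem_primeFactors.mpr ⟨hp, hd, hqpos.ne'⟩)
  have hidx : A.index = Nat.card (G ⧸ A) := rfl
  have hcopA : (Nat.card A).Coprime A.index := by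
    rw [hidx, ha]; exact Nat.Coprime.pow_left a hcop.symm
  obtain ⟨Q, hQ⟩ := Subgroup.exists_right_complement'_of_coprime hcopA
  have hQcard : Nat.card Q = Nat.card (G ⧸ A) := by
    have h1 := hQ.card_mul_card
    rw [hmul] at h1
    exact Nat.eq_of_mul_eq_mul_left Nat.card_pos h1
  exact key h A Q hAc hA1 p hp hAp (hQcard ▸ hcop) inferInstance q r hqm.1 hrm.1 hqr
    (hQcard ▸ hqm.2.1) (hQcard ▸ hrm.2.1)

/-- Let G be a finite solvable group such that the order of every element is a prime power (1 included). Then at most two distinct primes divide the order of G. -/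
theorem result {G : Type*} [Group G] [Finite G] [Group.IsSolvable G] (h : ∀ g : G, IsPrimePow (orderOf g) ∨ g = 1) :
    (Nat.card G).primeFactors.card ≤ 2 := by
  exact aux (Nat.card G) G rfl h

end Cfsg.Agent.S1475
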