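import Cfsg.Statements.S4213
import Mathlib
import Cfsg.Agent.Lib.Helper4.FrobDiv
import Cfsg.Agent.S1475

namespace Cfsg.Agent.S4213

universe u

open Cfsg.Agent.Lib.Helper4.FrobDiv

/-- a nontrivial finite solvable group has a nontrivial normal subgroup of exponent `p`. -/
theorem exists_normal_elementary {G : Type*} [Group G] [Finite G] [Nontrivial G]
    (hs : Group.IsSolvable G) :
    ∃ (N : Subgroup G) (p : ℕ), p.Prime ∧ N.Normal ∧ N ≠ ⊥ ∧ (∀ x ∈ N, x ^ p = 1) := by
  obtain ⟨A, hAn, hA1, hAc⟩ := Cfsg.Agent.S1475.exists_normal_abelian hs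
  haveI : Nontrivial A := (Subgroup.nontrivial_iff_ne_bot A).mpr hA1
  have hcard : 1 < Nat.card A := Finite.one_lt_card
  obtain ⟨p, hp, hpd⟩ := Nat.exists_prime_and_dvd hcard.ne'
  haveI : Fact p.Prime := ⟨hp⟩
  have hcomm : ∀ x ∈ A, ∀ y ∈ A, x * y = y * x := by
    intro x hx y hy
    exact congrArg Subtype.val (hAc.is_comm.comm ⟨x, hx⟩ ⟨y, hy⟩)
  let N : Subgroup G :=
    { carrier := {x | x ∈ A ∧ x ^ p = 1}
      mul_mem' := by
        rintro x y ⟨hx, hxp⟩ ⟨hy, hyp⟩
        refine ⟨A.mul_mem hx hy, ?_⟩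
        rw [(show Commute x y from hcomm x hx y hy).mul_pow, hxp, hyp, one_mul]
      one_mem' := ⟨A.one_mem, one_pow p⟩
      inv_mem' := by
        rintro x ⟨hx, hxp⟩
        exact ⟨A.inv_mem hx, by rw [inv_pow, hxp, inv_one]⟩ }
  refine ⟨N, p, hp, ⟨?_⟩, ?_, fun x hx => hx.2⟩
  · rintro x ⟨hx, hxp⟩ g
    refine ⟨hAn.conj_mem x hx g, ?_⟩
    rw [conj_pow, hxp, mul_one, mul_inv_cancel]
  · obtain ⟨a, ha⟩ := exists_prime_orderOf_dvd_card' (G := A) p hpd
    intro hbot
    have hmem : (a : G) ∈ N := by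
      refine ⟨a.2, ?_⟩
      have : a ^ p = 1 := by rw [← ha]; exact pow_orderOf_eq_one a
      have := congrArg Subtype.val this
      simpa using this
    rw [hbot, Subgroup.mem_bot] at hmem
    have : a = 1 := Subtype.ext hmem
    rw [this, orderOf_one] at ha
    exact hp.one_lt.ne' ha.symm

/-- cardinality of a preimage of a subgroup under the quotient map -/
theorem card_comap_mk {G : Type*} [Group G] [Finite G] (N : Subgroup G) [N.Normal]
    (Hb : Subgroup (G ⧸ N)) :
    Nat.card (Hb.comap (QuotientGroup.mk' N)) = Nat.card N * Nat.card Hb := by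
  have h1 := Subgroup.index_comap_of_surjective Hb (QuotientGroup.mk'_surjective N)
  have h2 := (Hb.comap (QuotientGroup.mk' N)).card_mul_index
  have h3 := Hb.card_mul_index
  have h4 : Nat.card G = Nat.card N * Nat.card (G ⧸ N) := by
    rw [mul_comm]; exact Subgroup.card_eq_card_quotient_mul_card_subgroup N
  rw [h1] at h2
  have hi : 0 < Hb.index := Nat.pos_of_ne_zero Subgroup.index_ne_zero_of_finite
  have : Nat.card (Hb.comap (QuotientGroup.mk' N)) * Hb.index =
      (Nat.card N * Nat.card Hb) * Hb.index := by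
    rw [h2, mul_assoc, h3, h4]
  exact Nat.eq_of_mul_eq_mul_right hi this

/-- the number of solutions of `x ^ m = 1` in the quotient, times `|N|`, is at most the number of
elements whose `m`-th power lies in `N`. -/
theorem card_mul_le {G : Type*} [Group G] [Finite G] (N : Subgroup G) [N.Normal] (m n : ℕ)
    (hsub : ∀ x : G, x ^ m ∈ N → x ^ n = 1) :
    Nat.card N * Nat.card {y : G ⧸ N // y ^ m = 1} ≤ Nat.card {x : G // x ^ n = 1} := by
  rw [← Nat.card_prod]
  apply Nat.card_le_card_of_injective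
    (fun z : N × {y : G ⧸ N // y ^ m = 1} => (⟨z.2.1.out * (z.1 : G), by
      apply hsub
      rw [← QuotientGroup.eq_one_iff, QuotientGroup.mk_pow, QuotientGroup.mk_mul,
        (QuotientGroup.eq_one_iff (z.1 : G)).mpr z.1.2, mul_one, QuotientGroup.out_eq']
      exact z.2.2⟩ : {x : G // x ^ n = 1}))
  rintro ⟨u, y, hy⟩ ⟨u', y', hy'⟩ h
  have h1 : y.out * (u : G) = y'.out * (u' : G) := congrArg Subtype.val h
  have h2 : y = y' := by
    have := congrArg (QuotientGroup.mk (s := N)) h1
    rw [QuotientGroup.mk_mul, QuotientGroup.mk_mul, (QuotientGroup.eq_one_iff (u : G)).mpr u.2,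
      (QuotientGroup.eq_one_iff (u' : G)).mpr u'.2, mul_one, mul_one, QuotientGroup.out_eq',
      QuotientGroup.out_eq'] at this
    exact this
  subst h2
  have h3 : (u : G) = u' := mul_left_cancel h1
  have h4 : u = u' := Subtype.ext h3
  subst h4
  rfl

theorem aux : ∀ (g : ℕ) (G : Type u) [Group G] [Finite G] [Group.IsSolvable G], Nat.card G = g →
    ∀ n, n ∣ g → Nat.card {x : G // x ^ n = 1} = n →
    ∃ H : Subgroup G, (H : Set G) = {x : G | x ^ n = 1} := by
  intro g
  induction g using Nat.strong_induction_on with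
  | _ g IH =>
  intro G _ _ hsol hGg n hn hcount
  classical
  rcases subsingleton_or_nontrivial G with hsub | hnt
  · refine ⟨⊤, ?_⟩
    ext x
    simp [Subsingleton.elim x 1]
  obtain ⟨N, p, hp, hNn, hN1, hNp⟩ := exists_normal_elementary hsol
  haveI := hNn
  haveI : Fact p.Prime := ⟨hp⟩
  have hNpg : IsPGroup p N := fun x => ⟨1, by
    rw [pow_one]; exact Subtype.ext (by simpa using hNp x x.2)⟩
  obtain ⟨i, hi⟩ := IsPGroup.iff_card.mp hNpg
  haveI : Nontrivial N := (Subgroup.nontrivial_iff_ne_bot N).mpr hN1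
  have hi0 : i ≠ 0 := by
    rintro rfl
    rw [pow_zero] at hi
    have : 1 < Nat.card N := Finite.one_lt_card
    omega
  have hmul : Nat.card G = Nat.card N * Nat.card (G ⧸ N) := by
    rw [mul_comm]; exact Subgroup.card_eq_card_quotient_mul_card_subgroup N
  have hqpos : 0 < Nat.card (G ⧸ N) := Nat.card_pos
  have hgpos : 0 < g := hGg ▸ Nat.card_pos
  have hnpos : 0 < n := Nat.pos_of_dvd_of_pos hn hgpos
  have hpipos : 0 < p ^ i := pow_pos hp.pos i
  have hlt : Nat.card (G ⧸ N) < g := by
    rw [← hGg, hmul]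
    have : 2 ≤ Nat.card N := Finite.one_lt_card
    nlinarith
  have hg' : g = p ^ i * Nat.card (G ⧸ N) := by rw [← hGg, hmul, hi]
  -- final step
  have finish : ∀ H : Subgroup G, (∀ x ∈ H, x ^ n = 1) → Nat.card H = n →
      (H : Set G) = {x : G | x ^ n = 1} := by
    intro H hH hcard
    apply Set.eq_of_subset_of_ncard_le (fun x hx => hH x hx) _ (Set.toFinite _)
    have h1 : ({x : G | x ^ n = 1} : Set G).ncard = n := by
      have := Nat.card_coe_set_eq ({x : G | x ^ n = 1} : Set G)
      rw [← this]; exact hcount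
    have h2 : (H : Set G).ncard = n := by
      have := Nat.card_coe_set_eq (H : Set G)
      rw [← this]; exact hcard
    rw [h2]
    exact h1.le
  have hone : ∀ m : ℕ, 0 < Nat.card {y : G ⧸ N // y ^ m = 1} := fun m =>
    Nat.card_pos_iff.mpr ⟨⟨⟨1, one_pow m⟩⟩, inferInstance⟩
  have hcardHb : ∀ (m : ℕ) (Hb : Subgroup (G ⧸ N)), (Hb : Set (G ⧸ N)) = {y | y ^ m = 1} →
      Nat.card Hb = Nat.card {y : G ⧸ N // y ^ m = 1} := by
    intro m Hb h
    have e1 := Nat.card_coe_set_eq (Hb : Set (G ⧸ N))
    have e2 := Nat.card_coe_set_eq ({y : G ⧸ N | y ^ m = 1} : Set (G ⧸ N))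
    calc Nat.card Hb = (Hb : Set (G ⧸ N)).ncard := e1
      _ = ({y : G ⧸ N | y ^ m = 1} : Set (G ⧸ N)).ncard := by rw [h]
      _ = Nat.card {y : G ⧸ N // y ^ m = 1} := e2.symm
  by_cases hpn : p ∣ n
  · by_cases hpin : p ^ i ∣ n
    · -- case 1a
      obtain ⟨n', hn'⟩ := hpin
      have hn'dvd : n' ∣ Nat.card (G ⧸ N) := by
        rw [hg', hn'] at hn
        exact Nat.dvd_of_mul_dvd_mul_left hpipos hn
      have hsubN : ∀ x : G, x ^ n' ∈ N → x ^ n = 1 := by
        intro x hx
        have h1 := hNp _ hx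
        obtain ⟨j, rfl⟩ := Nat.exists_eq_succ_of_ne_zero hi0
        rw [hn', show p ^ (j + 1) * n' = n' * p * p ^ j by ring, pow_mul, pow_mul, h1, one_pow]
      have hle := card_mul_le N n' n hsubN
      have hfrob := frobenius_dvd (G := G ⧸ N) n' hn'dvd
      have heq : Nat.card {y : G ⧸ N // y ^ n' = 1} = n' := by
        rw [hcount, hi, hn'] at hle
        have h1 := Nat.le_of_mul_le_mul_left hle hpipos
        have h2 := Nat.le_of_dvd (hone n') hfrob
        omega
      obtain ⟨Hb, hHb⟩ := IH _ hlt (G ⧸ N) rfl n' hn'dvd heq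
      refine ⟨Hb.comap (QuotientGroup.mk' N), finish _ ?_ ?_⟩
      · intro x hx
        apply hsubN
        rw [Subgroup.mem_comap] at hx
        have h1 : QuotientGroup.mk' N x ∈ (Hb : Set (G ⧸ N)) := hx
        rw [hHb] at h1
        rw [← QuotientGroup.eq_one_iff, QuotientGroup.mk_pow]
        exact h1
      · rw [card_comap_mk, hi, hcardHb n' Hb hHb, heq, hn']
    · -- case 1b
      exfalso
      obtain ⟨a, m, hpm, hnam⟩ := Nat.exists_eq_pow_mul_and_not_dvd hnpos.ne' p hp.ne_one
      have ha0 : a ≠ 0 := by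
        rintro rfl
        rw [pow_zero, one_mul] at hnam
        exact hpm (hnam ▸ hpn)
      have hai : a < i := by
        by_contra hcon
        push Not at hcon
        apply hpin
        rw [hnam]
        exact dvd_mul_of_dvd_left (pow_dvd_pow p hcon) m
      have hmdvd : m ∣ Nat.card (G ⧸ N) := by
        have h1 : m ∣ p ^ i * Nat.card (G ⧸ N) := by
          rw [← hg']; exact dvd_trans (hnam ▸ dvd_mul_left m (p ^ a)) hn
        exact (Nat.Coprime.pow_right i
          ((Nat.Prime.coprime_iff_not_dvd hp).mpr hpm).symm).dvd_of_dvd_mul_left h1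
      have hsubN : ∀ x : G, x ^ m ∈ N → x ^ n = 1 := by
        intro x hx
        have h1 := hNp _ hx
        obtain ⟨j, rfl⟩ := Nat.exists_eq_succ_of_ne_zero ha0
        rw [hnam, show p ^ (j + 1) * m = m * p * p ^ j by ring, pow_mul, pow_mul, h1, one_pow]
      have hle := card_mul_le N m n hsubN
      have hfrob := frobenius_dvd (G := G ⧸ N) m hmdvd
      have h2 := Nat.le_of_dvd (hone m) hfrob
      rw [hcount, hi, hnam] at hle
      have h3 : p ^ i * m ≤ p ^ a * m := le_trans (Nat.mul_le_mul_left _ h2) hle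
      have hmpos : 0 < m := by
        rcases Nat.eq_zero_or_pos m with h0 | h0
        · rw [h0, mul_zero] at hnam; omega
        · exact h0
      have h4 : p ^ i ≤ p ^ a := Nat.le_of_mul_le_mul_right h3 hmpos
      have h5 := (Nat.pow_le_pow_iff_right hp.one_lt).mp h4
      omega
  · -- case 2
    have hcop : n.Coprime p := ((Nat.Prime.coprime_iff_not_dvd hp).mpr hpn).symm
    have hndvd : n ∣ Nat.card (G ⧸ N) := by
      have h1 : n ∣ p ^ i * Nat.card (G ⧸ N) := by rw [← hg']; exact hn
      exact (Nat.Coprime.pow_right i hcop).dvd_of_dvd_mul_left h1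
    obtain ⟨s, hs1, hs0⟩ := Nat.chineseRemainder hcop 1 0
    have hps : p ∣ s := (Nat.modEq_zero_iff_dvd).mp hs0
    have hinj : Nat.card {y : G ⧸ N // y ^ n = 1} ≤ Nat.card {x : G // x ^ n = 1} := by
      have hkey : ∀ y : {y : G ⧸ N // y ^ n = 1}, (y.1.out ^ s) ^ n = 1 := by
        intro y
        have h1 : (y.1.out) ^ n ∈ N := by
          rw [← QuotientGroup.eq_one_iff, QuotientGroup.mk_pow, QuotientGroup.out_eq']
          exact y.2
        have h2 := hNp _ h1
        obtain ⟨t, rfl⟩ := hps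
        rw [← pow_mul, show p * t * n = n * p * t by ring, pow_mul, pow_mul, h2, one_pow]
      apply Nat.card_le_card_of_injective
        (fun y : {y : G ⧸ N // y ^ n = 1} => (⟨y.1.out ^ s, hkey y⟩ : {x : G // x ^ n = 1}))
      intro y y' h
      have h1 : y.1.out ^ s = y'.1.out ^ s := congrArg Subtype.val h
      have h2 := congrArg (QuotientGroup.mk (s := N)) h1
      rw [QuotientGroup.mk_pow, QuotientGroup.mk_pow, QuotientGroup.out_eq',
        QuotientGroup.out_eq'] at h2
      have h3 : ∀ z : {y : G ⧸ N // y ^ n = 1}, z.1 ^ s = z.1 := by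
        intro z
        have := pow_eq_of_modEq z.2 hs1
        rwa [pow_one] at this
      rw [h3 y, h3 y'] at h2
      exact Subtype.ext h2
    have hfrob := frobenius_dvd (G := G ⧸ N) n hndvd
    have heq : Nat.card {y : G ⧸ N // y ^ n = 1} = n := by
      have h2 := Nat.le_of_dvd (hone n) hfrob
      omega
    obtain ⟨Hb, hHb⟩ := IH _ hlt (G ⧸ N) rfl n hndvd heq
    set H' := Hb.comap (QuotientGroup.mk' N) with hH'
    have hH'card : Nat.card H' = p ^ i * n := by
      rw [hH', card_comap_mk, hi, hcardHb n Hb hHb, heq]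
    have hNH' : N ≤ H' := by
      intro x hx
      rw [hH', Subgroup.mem_comap]
      have : QuotientGroup.mk' N x = 1 := (QuotientGroup.eq_one_iff x).mpr hx
      rw [this]; exact Hb.one_mem
    have hcardN' : Nat.card (N.subgroupOf H') = p ^ i := by
      rw [← hi]; exact Nat.card_congr (Subgroup.subgroupOfEquivOfLe hNH').toEquiv
    have hidx : (N.subgroupOf H').index = n := by
      have h1 := (N.subgroupOf H').card_mul_index
      rw [hcardN', hH'card] at h1
      exact Nat.eq_of_mul_eq_mul_left hpipos h1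
    have hcop' : (Nat.card (N.subgroupOf H')).Coprime (N.subgroupOf H').index := by
      rw [hcardN', hidx]; exact Nat.Coprime.pow_left i hcop.symm
    obtain ⟨Q0, hQ0⟩ := Subgroup.exists_right_complement'_of_coprime hcop'
    have hQ0card : Nat.card Q0 = n := by
      have h1 := hQ0.card_mul_card
      rw [hcardN', hH'card] at h1
      exact Nat.eq_of_mul_eq_mul_left hpipos h1
    have hQcard : Nat.card (Q0.map H'.subtype) = n := by
      rw [Subgroup.card_map_of_injective H'.subtype_injective, hQ0card]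
    refine ⟨Q0.map H'.subtype, finish _ ?_ hQcard⟩
    intro x hx
    have h1 := pow_card_eq_one' (G := (Q0.map H'.subtype)) (x := ⟨x, hx⟩)
    rw [hQcard] at h1
    have := congrArg Subtype.val h1
    simpa using this

/-- If `G` is a finite solvable group and `n` divides the order of `G` and exactly `n` elements `x` of `G` satisfy `x^n = 1`, then these elements form a normal subgroup. -/
theorem result {G : Type*} [Group G] [Finite G] [Group.IsSolvable G] (n : ℕ) (hn : n ∣ Nat.card G) (hcount : Nat.card {x : G // x ^ n = 1} = n) : ∃ H : Subgroup G, H.Normal ∧ (H : Set G) = {x : G | x ^ n = 1} := by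
  obtain ⟨H, hH⟩ := aux (Nat.card G) G rfl n hn hcount
  refine ⟨H, ⟨?_⟩, hH⟩
  intro x hx g
  have h1 : x ∈ (H : Set G) := hx
  rw [hH] at h1
  have h2 : g * x * g⁻¹ ∈ {x : G | x ^ n = 1} := by
    show (g * x * g⁻¹) ^ n = 1
    rw [conj_pow, h1, mul_one, mul_inv_cancel]
  rw [← hH] at h2
  exact h2

end Cfsg.Agent.S4213
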