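import Cfsg.Statements.S1461
import Mathlib
import Cfsg.Agent.S1460
import Cfsg.Agent.S0634
import Cfsg.Agent.S4213
import Cfsg.Agent.H1.Cores
import Cfsg.Agent.H1.Card
import Cfsg.Agent.H1.SchmidtStructure
import Cfsg.Agent.Lib.Helper4.Sylow

set_option autoImplicit false
open Cfsg

namespace Cfsg.Agent.S1461

open Cfsg.Agent.H1
open scoped Pointwise

section lemmas

variable {G : Type*} [Group G]

/-- numerical structure of a group of `p`-length at most one -/
theorem struct [Finite G] (p : ℕ) [Fact p.Prime] (hpl : Cfsg.PLengthLE p 1 G) :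
    ∃ K M : Subgroup G, K.Normal ∧ M.Normal ∧ K ≤ M ∧ (Nat.card K).Coprime p ∧
      (∃ a, Nat.card M = Nat.card K * p ^ a) ∧ (∃ c, c.Coprime p ∧ Nat.card G = Nat.card M * c) := by
  have h1 := Cfsg.Agent.S0634.upper_odd (G := G) p 0
  have h2 := Cfsg.Agent.S0634.upper_even (G := G) p 0
  have h3 := Cfsg.Agent.S0634.upper_odd (G := G) p 1
  have h0 : (Cfsg.upperPSeries p G (2 * 0)).1 = ⊥ := rfl
  have htop : (Cfsg.upperPSeries p G (2 * 1 + 1)).1 = ⊤ := hpl
  refine ⟨(Cfsg.upperPSeries p G (2 * 0 + 1)).1, (Cfsg.upperPSeries p G (2 * 0 + 2)).1,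
    inferInstance, inferInstance, ?_, ?_, ?_, ?_⟩
  · rw [h2]
    intro x hx
    rw [Subgroup.mem_comap]
    have : (QuotientGroup.mk' (Cfsg.upperPSeries p G (2 * 0 + 1)).1) x = 1 :=
      (QuotientGroup.eq_one_iff x).mpr hx
    rw [this]; exact Subgroup.one_mem _
  · rw [h1, Cfsg.Agent.S4213.card_comap_mk]
    have : Nat.card (Cfsg.upperPSeries p G (2 * 0)).1 = 1 := by
      rw [h0]; exact Subgroup.card_bot
    rw [this, one_mul]
    exact pPrimeCore_coprime p
  · obtain ⟨a, ha⟩ := (pCore_isPGroup (G := G ⧸ (Cfsg.upperPSeries p G (2 * 0 + 1)).1) p).exists_card_eq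
    refine ⟨a, ?_⟩
    rw [h2, Cfsg.Agent.S4213.card_comap_mk, ha]
  · refine ⟨Nat.card (Cfsg.pPrimeCore p (G ⧸ (Cfsg.upperPSeries p G (2 * 1)).1)),
      pPrimeCore_coprime p, ?_⟩
    have h4 := Cfsg.Agent.S4213.card_comap_mk (Cfsg.upperPSeries p G (2 * 1)).1
      (Cfsg.pPrimeCore p (G ⧸ (Cfsg.upperPSeries p G (2 * 1)).1))
    rw [← h3, htop, Subgroup.card_top] at h4
    exact h4

theorem main [Finite G] (p : ℕ) [hp : Fact p.Prime]
    (hpl : Cfsg.PLengthLE p 1 G) (S : Sylow p G) :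
    ∃ K : Subgroup G, K.Normal ∧ (Nat.card K).Coprime p ∧
      K ⊔ Subgroup.normalizer ((S : Subgroup G) : Set G) = ⊤ := by
  obtain ⟨K, M, hKn, hMn, hKM, hKp, ⟨a, hMa⟩, ⟨c, hc, hGc⟩⟩ := struct p hpl
  refine ⟨K, hKn, hKp, ?_⟩
  haveI := hKn
  haveI := hMn
  have hGa : Nat.card G = p ^ a * (Nat.card K * c) := by rw [hGc, hMa]; ring
  have hpm : ¬ p ∣ Nat.card K * c := by
    intro h
    rcases (Nat.Prime.dvd_mul hp.out).mp h with h | h
    · exact (Nat.Prime.coprime_iff_not_dvd hp.out).mp hKp.symm h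
    · exact (Nat.Prime.coprime_iff_not_dvd hp.out).mp hc.symm h
  have hSc : Nat.card (S : Subgroup G) = p ^ a :=
    Cfsg.Agent.Lib.Helper4.Sylow.card_sylow_of_card_eq hGa hpm S
  have hMi : M.index.Coprime p := by
    have h1 := M.card_mul_index
    rw [hGc] at h1
    have h2 : M.index = c := Nat.eq_of_mul_eq_mul_left Nat.card_pos h1
    rw [h2]; exact hc
  have hSM : (S : Subgroup G) ≤ M :=
    pgroup_le_normal_of_coprime_index (S : Subgroup G) M S.isPGroup' hMi
  have hKS : K ⊔ (S : Subgroup G) = M := by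
    apply Subgroup.eq_of_le_of_card_ge (sup_le hKM hSM)
    have h5 := card_sup_mul_card_inf (S : Subgroup G) K
      (by rw [Subgroup.normalizer_eq_top]; exact le_top)
    have h6 : (S : Subgroup G) ⊓ K = ⊥ :=
      (Subgroup.disjoint_of_coprime_natCard
        (by rw [hSc]; exact Nat.Coprime.pow_left a hKp.symm)).eq_bot
    rw [h6, Subgroup.card_bot, mul_one, sup_comm] at h5
    rw [h5, hMa, hSc, mul_comm]
  have hfr := Sylow.normalizer_sup_eq_top' S hSM
  rw [← hKS] at hfr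
  rw [eq_top_iff, ← hfr]
  exact sup_le le_sup_right (sup_le le_sup_left (Subgroup.le_normalizer.trans le_sup_right))

end lemmas

/-- Let G be a finite solvable group, p a prime with G = O_{p',p,p'}(G), and S a Sylow p-subgroup. Then: if S ≤ G' then S ≤ [N_G(S), N_G(S)]; if Y ⊆ S and xYx⁻¹ ⊆ S then x = g c for some g ∈ N_G(S) and c centralizing Y; and for every p-subgroup Q there is x ∈ C_G(Q ∩ S) with xQx⁻¹ ≤ S. -/
theorem result {G : Type*} [Group G] [Finite G] [Group.IsSolvable G] (p : ℕ) [Fact p.Prime] (hpl : Cfsg.PLengthLE p 1 G) (S : Sylow p G) :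
    ((S : Subgroup G) ≤ commutator G → (S : Subgroup G) ≤ ⁅Subgroup.normalizer ((S : Subgroup G) : Set G), Subgroup.normalizer ((S : Subgroup G) : Set G)⁆) ∧
      (∀ (Y : Set G) (x : G), Y ⊆ (S : Subgroup G) → (fun y => x * y * x⁻¹) '' Y ⊆ (S : Subgroup G) →
        ∃ g ∈ Subgroup.normalizer ((S : Subgroup G) : Set G), ∃ c ∈ Subgroup.centralizer Y, g * c = x) ∧
      ∀ Q : Subgroup G, IsPGroup p Q → ∃ x ∈ Subgroup.centralizer ((Q ⊓ (S : Subgroup G) : Subgroup G) : Set G), Q.map (MulAut.conj x).toMonoidHom ≤ (S : Subgroup G) := by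
  obtain ⟨K, hKn, hKp, hKU⟩ := main p hpl S
  haveI := hKn
  have hSU : (S : Subgroup G) ≤ Subgroup.normalizer ((S : Subgroup G) : Set G) :=
    Subgroup.le_normalizer
  have hcopS : ∀ H : Subgroup G, H ≤ (S : Subgroup G) → (Nat.card H).Coprime (Nat.card K) := by
    intro H hH
    obtain ⟨k, hk⟩ := (S.isPGroup'.to_le hH).exists_card_eq
    rw [hk]; exact Nat.Coprime.pow_left k hKp.symm
  refine ⟨?_, ?_, ?_⟩
  · intro hSG
    have h1 := Cfsg.Agent.S1460.part1 K _ (S : Subgroup G) hKU hSU (hcopS _ le_rfl)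
    have h2 : (S : Subgroup G) ≤ (S : Subgroup G) ⊓ commutator G := le_inf le_rfl hSG
    rw [h1] at h2
    exact h2.trans inf_le_right
  · intro Y x hY hxY
    have hH : Subgroup.closure Y ≤ (S : Subgroup G) := (Subgroup.closure_le _).mpr hY
    have hmap : (Subgroup.closure Y).map (MulAut.conj x).toMonoidHom ≤
        Subgroup.normalizer ((S : Subgroup G) : Set G) := by
      rw [MonoidHom.map_closure]
      refine ((Subgroup.closure_le _).mpr ?_).trans hSU
      rintro _ ⟨y, hy, rfl⟩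
      apply hxY
      exact ⟨y, hy, by simp [MulAut.conj_apply]⟩
    obtain ⟨u, hu, c, hc, rfl⟩ := Cfsg.Agent.S1460.part3 K _ (Subgroup.closure Y) hKU
      (hH.trans hSU) (hcopS _ hH) x hmap
    refine ⟨u, hu, c, ?_, rfl⟩
    have h3 : c ∈ Subgroup.centralizer ((Subgroup.closure Y : Subgroup G) : Set G) := hc.2
    rw [Subgroup.mem_centralizer_iff] at h3 ⊢
    intro y hy
    exact h3 y (Subgroup.subset_closure hy)
  · intro Q hQ
    obtain ⟨P, hP⟩ := hQ.exists_le_sylow
    obtain ⟨g, hg⟩ := MulAction.exists_smul_eq G P S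
    have hgQ : ∀ q ∈ Q, g * q * g⁻¹ ∈ (S : Subgroup G) := by
      intro q hq
      have : g * q * g⁻¹ ∈ g • P := (conj_mem_sylow_smul g q P).mpr (hP hq)
      rw [hg] at this
      exact this
    have hY : Q ⊓ (S : Subgroup G) ≤ (S : Subgroup G) := inf_le_right
    have hmap : (Q ⊓ (S : Subgroup G)).map (MulAut.conj g).toMonoidHom ≤
        Subgroup.normalizer ((S : Subgroup G) : Set G) := by
      rintro _ ⟨y, hy, rfl⟩
      apply hSU
      simpa [MulAut.conj_apply] using hgQ y hy.1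
    obtain ⟨u, hu, c, hc, hguc⟩ := Cfsg.Agent.S1460.part3 K _ _ hKU (hY.trans hSU)
      (hcopS _ hY) g hmap
    refine ⟨c, hc.2, ?_⟩
    rintro _ ⟨q, hq, rfl⟩
    have e : (MulAut.conj c).toMonoidHom q = u⁻¹ * (g * q * g⁻¹) * u⁻¹⁻¹ := by
      simp only [MulEquiv.coe_toMonoidHom, MulAut.conj_apply]
      rw [hguc]; group
    rw [e]
    have hu' : u⁻¹ ∈ Subgroup.normalizer ((S : Subgroup G) : Set G) := Subgroup.inv_mem _ hu
    exact (Subgroup.mem_normalizer_iff.mp hu' (g * q * g⁻¹)).mp (hgQ q hq)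

end Cfsg.Agent.S1461
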