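import Cfsg.Statements.S0111
import Mathlib
import Cfsg.Agent.H1.Basic

set_option autoImplicit false
open Cfsg

namespace Cfsg.Agent.S0111

open Cfsg.Agent.H1
open scoped commutatorElement
open MulAction

/-- The Thompson transfer lemma states that an involution of a Sylow 2-subgroup P lying outside a subgroup Q of index 2 in P either lies outside some normal subgroup of index 2 in G or is conjugate to an element of Q. -/
theorem result {G : Type*} [Group G] [Finite G] (P : Sylow 2 G) (Q : Subgroup G) (hQP : Q ≤ (P : Subgroup G)) (hQi : Q.relIndex (P : Subgroup G) = 2) (u : G) (hu : orderOf u = 2) (huP : u ∈ (P : Subgroup G)) (huQ : u ∉ Q) : (∃ M : Subgroup G, M.Normal ∧ M.index = 2 ∧ u ∉ M) ∨ ∃ g : G, g * u * g⁻¹ ∈ Q := by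
  classical
  by_contra hcon
  push Not at hcon
  obtain ⟨hM, hconj⟩ := hcon
  have huu : u ^ 2 = 1 := by rw [← hu, pow_orderOf_eq_one]
  have hidx : (Q.subgroupOf (P : Subgroup G)).index = 2 := hQi
  -- the sign homomorphism P → ℤˣ with kernel Q
  let ϕ : (P : Subgroup G) →* ℤˣ :=
    { toFun := fun x => if (x : G) ∈ Q then 1 else -1
      map_one' := by simp [one_mem]
      map_mul' := by
        intro a b
        have h := Subgroup.mul_mem_iff_of_index_two hidx (a := a) (b := b)
        simp only [Subgroup.mem_subgroupOf, Subgroup.coe_mul] at h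
        by_cases ha : (a : G) ∈ Q <;> by_cases hb : (b : G) ∈ Q <;> simp_all }
  have hϕ : ∀ x : (P : Subgroup G), ϕ x = if (x : G) ∈ Q then 1 else -1 := fun x => rfl
  have : Fintype (Quotient (orbitRel (Subgroup.zpowers u) (G ⧸ (P : Subgroup G)))) := Fintype.ofFinite _
  have hV := MonoidHom.transfer_eq_prod_quotient_orbitRel_zpowers_quot (H := (P : Subgroup G)) ϕ u
  have hsum := Subgroup.index_eq_sum_minimalPeriod (P : Subgroup G) u
  -- each factor is (-1)^(minimal period)
  have hfac : ∀ q : Quotient (orbitRel (Subgroup.zpowers u) (G ⧸ (P : Subgroup G))),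
      ϕ ⟨q.out.out⁻¹ * u ^ Function.minimalPeriod (u • ·) q.out * q.out.out,
        QuotientGroup.out_conj_pow_minimalPeriod_mem (P : Subgroup G) u q.out⟩ =
      (-1 : ℤˣ) ^ Function.minimalPeriod (u • ·) q.out := by
    intro q
    have hper : Function.minimalPeriod (u • ·) q.out ∣ 2 := by
      apply Function.IsPeriodicPt.minimalPeriod_dvd
      show (u • ·)^[2] q.out = q.out
      simp only [Function.iterate_succ, Function.iterate_zero, Function.comp_apply, id_eq]
      rw [smul_smul, ← pow_two, huu, one_smul]
    have hcases : Function.minimalPeriod (u • ·) q.out = 1 ∨ Function.minimalPeriod (u • ·) q.out = 2 := by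
      have := (Nat.dvd_prime Nat.prime_two).mp hper
      exact this
    rw [hϕ]
    rcases hcases with h1 | h2
    · simp only [h1, pow_one]
      have hnot : q.out.out⁻¹ * u * q.out.out ∉ Q := by
        have := hconj (q.out.out⁻¹)
        rwa [inv_inv] at this
      rw [if_neg hnot]
    · simp only [h2, huu]
      have hin : q.out.out⁻¹ * 1 * q.out.out ∈ Q := by simp [one_mem]
      rw [if_pos hin]
      norm_num
  rw [Finset.prod_congr rfl (fun q _ => hfac q), Finset.prod_pow_eq_pow_sum, ← hsum] at hV
  have hodd : Odd (P : Subgroup G).index := by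
    rw [← Nat.not_even_iff_odd, even_iff_two_dvd]
    exact P.not_dvd_index
  rw [hodd.neg_one_pow] at hV
  -- the kernel of the transfer
  set V := MonoidHom.transfer ϕ with hVdef
  have hidx2 : V.ker.index = 2 := by
    rw [Subgroup.index_ker]
    have h1 : Nat.card V.range ∣ 2 := by
      have := Subgroup.card_subgroup_dvd_card V.range
      rwa [Nat.card_eq_fintype_card (α := ℤˣ), Fintype.card_units_int] at this
    rcases (Nat.dvd_prime Nat.prime_two).mp h1 with h | h
    · exfalso
      rw [Subgroup.card_eq_one] at h
      have : V u ∈ V.range := ⟨u, rfl⟩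
      rw [h, Subgroup.mem_bot, hV] at this
      exact absurd this (by decide)
    · exact h
  have hk := hM V.ker inferInstance hidx2
  rw [MonoidHom.mem_ker, hV] at hk
  exact absurd hk (by decide)

end Cfsg.Agent.S0111
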