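import Cfsg.Statements.S1452
import Mathlib
import Cfsg.Agent.H1.NormalRankThree
import Cfsg.Agent.H1.CentralizerIndexBound
import Cfsg.Agent.H1.Card
import Cfsg.Agent.H1.Thompson
import Cfsg.Agent.S0651

set_option autoImplicit false
open Cfsg
open scoped commutatorElement

namespace Cfsg.Agent.S1452


/-- Let p be an odd prime and R a finite p-group containing an elementary abelian subgroup of order p ^ 3. If E is a normal elementary abelian subgroup of R of order p ^ 2, then E ≤ A for some normal subgroup A of R with C_R(A) = A that contains an elementary abelian subgroup of order p ^ 3. -/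
theorem result {R : Type*} [Group R] [Finite R] (p : ℕ) [Fact p.Prime] (hp : p ≠ 2) (hR : IsPGroup p R) (hr : ¬ Cfsg.PRankLE p 2 R)
    (E : Subgroup R) [E.Normal] (hE : Cfsg.IsElementaryAbelian p E) (hE2 : Nat.card E = p ^ 2) :
    ∃ A : Subgroup R, E ≤ A ∧ A.Normal ∧ Subgroup.centralizer (A : Set R) = A ∧ ¬ Cfsg.PRankLE p 2 A := by
  have hpf := (inferInstance : Fact p.Prime)
  have hpp : p.Prime := hpf.out
  obtain ⟨B, hBn, hBc, hBe, hBcard⟩ : ∃ B : Subgroup R, B.Normal ∧ IsMulCommutative B ∧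
      (∀ a ∈ B, a ^ p = 1) ∧ Nat.card B = p ^ 3 := by
    by_contra hcon
    exact hr (fun A hA hAe => Cfsg.Agent.H1.p_rank_le_two_of_no_normal_rank_three' hp hR
      (fun B hBn hBc hBe hcard => hcon ⟨B, hBn, hBc, hBe, hcard⟩) A hA hAe)
  haveI := hBn
  obtain ⟨C, hC⟩ : ∃ C, C = Subgroup.centralizer (E : Set R) := ⟨_, rfl⟩
  haveI hCn : C.Normal := by rw [hC]; infer_instance
  have hCidx : C.index ≤ p := by
    have h := Cfsg.Agent.H1.index_centralizer_le_of_normal hR 2 E inferInstance hE2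
    rw [← hC] at h
    have e : ∑ i ∈ Finset.range 2, i = 1 := by simp [Finset.sum_range_succ]
    rwa [e, pow_one] at h
  obtain ⟨X, hX⟩ : ∃ X, X = B ⊓ C := ⟨_, rfl⟩
  haveI hXn : X.Normal := by rw [hX]; infer_instance
  have hXcard : p ^ 2 ≤ Nat.card X := by
    have h1 : Nat.card B = X.relIndex B * Nat.card X :=
      Cfsg.Agent.H1.card_eq_relIndex_mul_card (by rw [hX]; exact inf_le_left)
    have h2 : X.relIndex B = C.relIndex B := by rw [hX, Subgroup.inf_relIndex_left]
    have h3 : C.relIndex B ∣ C.index := Subgroup.relIndex_dvd_index_of_normal C B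
    have h4 : C.relIndex B ≤ p :=
      (Nat.le_of_dvd (Nat.pos_of_ne_zero Subgroup.index_ne_zero_of_finite) h3).trans hCidx
    rw [hBcard, h2] at h1
    by_contra hlt
    push Not at hlt
    have h5 : C.relIndex B * Nat.card X < p * p ^ 2 :=
      calc C.relIndex B * Nat.card X ≤ p * Nat.card X := Nat.mul_le_mul_right _ h4
        _ < p * p ^ 2 := (Nat.mul_lt_mul_left hpp.pos).2 hlt
    rw [← h1] at h5
    have e : p * p ^ 2 = p ^ 3 := by ring
    omega
  have hXe : Cfsg.IsElementaryAbelian p X :=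
    Cfsg.Agent.H1.isElementaryAbelian_of_le ⟨hBc, hBe⟩ (by rw [hX]; exact inf_le_left)
  have hXE : X ≤ Subgroup.centralizer (E : Set R) := by rw [hX, hC]; exact inf_le_right
  have hDe : Cfsg.IsElementaryAbelian p (E ⊔ X) := Cfsg.Agent.H1.isElementaryAbelian_sup hE hXe hXE
  haveI hDn : (E ⊔ X).Normal := inferInstance
  have hED : E < E ⊔ X := by
    refine lt_of_le_of_ne le_sup_left ?_
    intro heq
    have hXleE : X ≤ E := by rw [heq]; exact le_sup_right
    have hXeqE : X = E := Subgroup.eq_of_le_of_card_ge hXleE (by rw [hE2]; exact hXcard)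
    have hEB : E ≤ B := by rw [← hXeqE, hX]; exact inf_le_left
    have hBC : B ≤ C := by
      rw [hC]; intro b hb
      rw [Subgroup.mem_centralizer_iff]
      intro e he
      have h := congrArg Subtype.val (hBc.is_comm.comm ⟨e, hEB he⟩ ⟨b, hb⟩)
      simpa using h
    have hXB : X = B := by rw [hX]; exact inf_eq_left.2 hBC
    have h6 : Nat.card X = p ^ 3 := by rw [hXB, hBcard]
    rw [hXeqE, hE2] at h6
    have h23 : 2 = 3 := Nat.pow_right_injective hpp.two_le h6
    omega
  obtain ⟨A, hDA, hAmax⟩ := Finite.exists_le_maximal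
    (p := fun A : Subgroup R => A.Normal ∧ IsMulCommutative A) (a := E ⊔ X) ⟨hDn, hDe.1⟩
  obtain ⟨⟨hAn, hAc⟩, hAmax'⟩ := hAmax
  haveI := hAn
  have hself := Cfsg.Agent.H1.centralizer_eq_of_maximal_normal_abelian hR A hAc
    (fun B' hB'n hB'c hAB' => le_antisymm (hAmax' ⟨hB'n, hB'c⟩ hAB') hAB')
  refine ⟨A, le_sup_left.trans hDA, hAn, hself, ?_⟩
  intro hrk
  haveI := hDe.1
  have h1 := hrk ((E ⊔ X).subgroupOf A) inferInstance (fun a ha => by
    rw [Subgroup.mem_subgroupOf] at ha
    apply Subtype.ext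
    rw [Subgroup.coe_pow, Subgroup.coe_one]
    exact hDe.2 _ ha)
  have h2 : Nat.card ((E ⊔ X).subgroupOf A) = Nat.card (E ⊔ X : Subgroup R) :=
    Nat.card_congr (Subgroup.subgroupOfEquivOfLe hDA).toEquiv
  have h3 := Cfsg.Agent.S0651.card_lt_of_lt hED
  rw [hE2] at h3
  rw [h2] at h1
  omega

end Cfsg.Agent.S1452
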