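import Cfsg.Statements.S0064


set_option autoImplicit false
open Cfsg

namespace Cfsg.Agent.S0064



/-- A finite group is nilpotent exactly when each of its subgroups is subnormal. -/
theorem result {G : Type*} [Group G] [Finite G] :
    Group.IsNilpotent G ↔ ∀ H : Subgroup G, H.IsSubnormal := by
  constructor
  · intro hnil
    haveI := hnil
    have hnc : NormalizerCondition G := Group.normalizerCondition_of_isNilpotent
    have key : ∀ n, ∀ H : Subgroup G, Nat.card G - Nat.card ↥H = n → H.IsSubnormal := by
      intro n
      induction n using Nat.strong_induction_on with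
      | _ n ih =>
        intro H hn
        by_cases htop : H = ⊤
        · rw [htop]; exact Subgroup.IsSubnormal.top
        · have hlt : H < Subgroup.normalizer (H : Set G) := hnc H (lt_top_iff_ne_top.2 htop)
          have hc1 : Nat.card ↥H < Nat.card ↥(Subgroup.normalizer (H : Set G)) :=
            Set.ncard_lt_ncard (SetLike.coe_ssubset_coe.2 hlt) (Set.toFinite _)
          have hc2 : Nat.card ↥(Subgroup.normalizer (H : Set G)) ≤ Nat.card G :=
            Subgroup.card_le_card_group _
          have hK := ih (Nat.card G - Nat.card ↥(Subgroup.normalizer (H : Set G))) (by omega) _ rfl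
          exact Subgroup.IsSubnormal.step H _ hlt.le hK Subgroup.normal_in_normalizer
    intro H
    exact key _ H rfl
  · intro h
    apply (Group.isNilpotent_of_finite_tfae (G := G)).out 2 0 |>.mp
    intro H hH
    rcases (h H).lt_normal with htop | ⟨K, hKn, hHK, hKtop⟩
    · exact absurd htop hH.1
    · have : H = K := by
        by_contra hne
        exact hKtop.ne (hH.2 K (lt_of_le_of_ne hHK hne))
      rw [this]; exact hKn

end Cfsg.Agent.S0064
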