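import Cfsg.Statements.S0539
import Mathlib
import Cfsg.Agent.Lib.Lead.Subnormal2

set_option autoImplicit false
open Pointwise
open Cfsg

namespace Cfsg.Agent.S0539

open scoped Pointwise
open Cfsg.Agent.Lib.Lead

universe u

theorem map_conj_smul_subtype {G : Type u} [Group G] (N : Subgroup G) (g : ↥N) (U : Subgroup ↥N) :
    (MulAut.conj g • U).map N.subtype = MulAut.conj (g : G) • (U.map N.subtype) := by
  show (U.map (MulAut.conj g).toMonoidHom).map N.subtype
    = (U.map N.subtype).map (MulAut.conj (g : G)).toMonoidHom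
  rw [Subgroup.map_map, Subgroup.map_map]
  congr 1

theorem aux (n : ℕ) : ∀ (G : Type u) [Group G] [Finite G], Nat.card G = n →
    ∀ (S S₀ : Set (Subgroup G)), (∀ U ∈ S, U.IsSubnormal) →
    (∀ U ∈ S, ∀ g : G, MulAut.conj g • U ∈ S) → S₀ ⊂ S →
    ∃ X ∈ S, X ∉ S₀ ∧ X ≤ Subgroup.normalizer ((sSup S₀ : Subgroup G) : Set G) := by
  induction n using Nat.strong_induction_on with
  | _ n ih =>
  intro G _ _ hcard S S₀ hS hconj h₀
  obtain ⟨X₀, hX₀S, hX₀⟩ := Set.exists_of_ssubset h₀
  have hsn : (sSup S₀).IsSubnormal := Subnormal.sSup_isSubnormal S₀ (fun U hU => hS U (h₀.subset hU))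
  by_cases hnorm : (sSup S₀).Normal
  · refine ⟨X₀, hX₀S, hX₀, ?_⟩
    rw [Subgroup.normalizer_eq_top_iff.mpr hnorm]
    exact le_top
  have hne : sSup S₀ ≠ ⊤ := by
    intro h
    apply hnorm
    rw [h]; infer_instance
  obtain ⟨N, hNn, hGN, hNtop⟩ := hsn.exists_normal_and_le_and_lt_top_of_ne hne
  have hcardN : Nat.card ↥N < n := by
    rw [← hcard]; exact Subnormal.card_lt_of_ne_top hNtop.ne
  set S' : Set (Subgroup ↥N) := {X' | X'.map N.subtype ∈ S} with hS'
  set S₀' : Set (Subgroup ↥N) := {X' | X'.map N.subtype ∈ S₀} with hS₀'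
  have hsub : S₀' ⊆ S' := fun X' hX' => h₀.subset hX'
  have hback : ∀ X : Subgroup G, X ≤ N → (X.subgroupOf N).map N.subtype = X := fun X hX =>
    Subgroup.map_subgroupOf_eq_of_le hX
  by_cases heq : S' ⊆ S₀'
  · -- then `S₀ = {X ∈ S | X ≤ N}` is conjugation closed
    exfalso
    apply hnorm
    have hmem : ∀ X ∈ S, X ≤ N → X ∈ S₀ := by
      intro X hX hXN
      have h1 : X.subgroupOf N ∈ S' := by
        show (X.subgroupOf N).map N.subtype ∈ S
        rw [hback X hXN]; exact hX
      have h2 := heq h1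
      have h3 : (X.subgroupOf N).map N.subtype ∈ S₀ := h2
      rwa [hback X hXN] at h3
    have hle : ∀ g : G, sSup S₀ ≤ (sSup S₀).comap (MulAut.conj g).toMonoidHom := by
      intro g
      apply sSup_le
      intro X hX
      rw [← Subgroup.map_le_iff_le_comap]
      apply le_sSup
      apply hmem _ (hconj X (h₀.subset hX) g)
      intro z hz
      have hz' := (Subnormal.mem_conj_smul _ _ _).mp hz
      have h1 : g⁻¹ * z * g ∈ N := hGN (le_sSup hX hz')
      have h2 := hNn.conj_mem _ h1 g
      have e : g * (g⁻¹ * z * g) * g⁻¹ = z := by group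
      rwa [e] at h2
    exact ⟨fun x hx g => hle g hx⟩
  · have hss : S₀' ⊂ S' := ⟨hsub, heq⟩
    have hS'sn : ∀ U ∈ S', U.IsSubnormal := by
      intro U hU
      have h1 : (U.map N.subtype).IsSubnormal := hS _ hU
      have h2 := h1.subgroupOf (K := N)
      have h3 : (U.map N.subtype).subgroupOf N = U :=
        Subgroup.comap_map_eq_self_of_injective N.subtype_injective U
      rwa [h3] at h2
    have hS'conj : ∀ U ∈ S', ∀ g : ↥N, MulAut.conj g • U ∈ S' := by
      intro U hU g
      show (MulAut.conj g • U).map N.subtype ∈ S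
      rw [map_conj_smul_subtype]
      exact hconj _ hU _
    obtain ⟨X', hX'S, hX'0, hX'n⟩ := ih _ hcardN ↥N rfl S' S₀' hS'sn hS'conj hss
    have hmap : (sSup S₀').map N.subtype = sSup S₀ := by
      apply le_antisymm
      · rw [Subgroup.map_le_iff_le_comap]
        apply sSup_le
        intro Y hY
        rw [← Subgroup.map_le_iff_le_comap]
        exact le_sSup hY
      · apply sSup_le
        intro X hX
        have hXN : X ≤ N := (le_sSup hX).trans hGN
        have h1 : X.subgroupOf N ∈ S₀' := by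
          show (X.subgroupOf N).map N.subtype ∈ S₀
          rw [hback X hXN]; exact hX
        calc X = (X.subgroupOf N).map N.subtype := (hback X hXN).symm
          _ ≤ (sSup S₀').map N.subtype := Subgroup.map_mono (le_sSup h1)
    refine ⟨X'.map N.subtype, hX'S, hX'0, ?_⟩
    have h2 := Subgroup.le_normalizer_map (H := sSup S₀') N.subtype
    rw [hmap] at h2
    exact (Subgroup.map_mono hX'n).trans h2

/-- Let S be a family of subnormal subgroups of a finite group that is closed under conjugation, and S₀ a proper subfamily. Then some member of S not in S₀ normalizes the join of S₀. -/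
theorem result {G : Type*} [Group G] [Finite G] (S S₀ : Set (Subgroup G)) (hS : ∀ U ∈ S, U.IsSubnormal) (hconj : ∀ U ∈ S, ∀ g : G, MulAut.conj g • U ∈ S) (h₀ : S₀ ⊂ S) : ∃ X ∈ S, X ∉ S₀ ∧ X ≤ Subgroup.normalizer ((sSup S₀ : Subgroup G) : Set G) := by
  exact aux _ G rfl S S₀ hS hconj h₀

end Cfsg.Agent.S0539
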