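import Cfsg.Statements.S0544
import Mathlib

set_option autoImplicit false
open Cfsg

namespace Cfsg.Agent.S0544

/-- An element normalizing `K` whose order is prime to the index of `K` lies in `K`. -/
theorem mem_of_coprime_index {G : Type*} [Group G] [Finite G] (K : Subgroup G) {x : G}
    (hx : x ∈ Subgroup.normalizer (K : Set G)) (hc : Nat.Coprime (orderOf x) K.index) :
    x ∈ K := by
  set N := Subgroup.normalizer (K : Set G) with hN
  haveI : (K.subgroupOf N).Normal := Subgroup.normal_in_normalizer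
  set q : ↥N ⧸ K.subgroupOf N := QuotientGroup.mk' _ ⟨x, hx⟩ with hq
  have h1 : orderOf q ∣ orderOf x := by
    have := orderOf_map_dvd (QuotientGroup.mk' (K.subgroupOf N)) (⟨x, hx⟩ : ↥N)
    rwa [Subgroup.orderOf_mk] at this
  have h2 : orderOf q ∣ K.index := by
    have h3 : orderOf q ∣ Nat.card (↥N ⧸ K.subgroupOf N) := orderOf_dvd_natCard q
    have h4 : Nat.card (↥N ⧸ K.subgroupOf N) = K.relIndex N := rfl
    rw [h4] at h3
    exact h3.trans (Subgroup.relIndex_dvd_index_of_le Subgroup.le_normalizer)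
  have h5 : orderOf q = 1 := Nat.eq_one_of_dvd_coprimes hc h1 h2
  have h6 : q = 1 := orderOf_eq_one_iff.mp h5
  have h7 := (QuotientGroup.eq_one_iff (⟨x, hx⟩ : ↥N)).mp h6
  exact Subgroup.mem_subgroupOf.mp h7

/-- The order of a Hall `r`-complement is prime to `r`. -/
theorem not_dvd_card_complement {G : Type*} [Group G] [Finite G] (K : Nat.Primes → Subgroup G)
    (hK : Cfsg.IsComplementSystem K) (r : Nat.Primes) : ¬ (r : ℕ) ∣ Nat.card ↥(K r) := by
  intro hd
  have h1 : Nat.card ↥(K r) * (K r).index = Nat.card G := (K r).card_mul_index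
  rw [hK r] at h1
  have h2 : (r : ℕ) ^ ((Nat.card G).factorization r + 1) ∣ Nat.card G := by
    obtain ⟨k, hk⟩ := hd
    refine ⟨k, ?_⟩
    generalize (Nat.card G).factorization r = v at h1 ⊢
    calc Nat.card G = Nat.card ↥(K r) * (r : ℕ) ^ v := h1.symm
      _ = (r : ℕ) ^ (v + 1) * k := by rw [hk, pow_succ]; ring
  exact Nat.pow_succ_factorization_not_dvd (Nat.card_pos.ne') r.2 h2

/-- In a finite solvable group the intersection of the normalizers of the members of a Hall complement system is a nilpotent subgroup. -/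
theorem result {G : Type*} [Group G] [Finite G] [Group.IsSolvable G] (K : Nat.Primes → Subgroup G) (hK : Cfsg.IsComplementSystem K) : Group.IsNilpotent (Cfsg.systemNormalizer K) := by
  classical
  set D := Cfsg.systemNormalizer K with hD
  have hmemD : ∀ x : G, x ∈ D ↔ ∀ q : Nat.Primes, x ∈ Subgroup.normalizer (K q : Set G) := by
    intro x
    rw [hD]; unfold Cfsg.systemNormalizer
    exact Subgroup.mem_iInf
  apply ((Group.isNilpotent_of_finite_tfae (G := ↥D)).out 0 3).mpr
  intro p hp P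
  haveI := hp
  set T : Subgroup G := D ⊓ ⨅ (q : Nat.Primes) (_ : (q : ℕ) ≠ p), K q with hT
  have hmemT : ∀ x : G, x ∈ T ↔ x ∈ D ∧ ∀ q : Nat.Primes, (q : ℕ) ≠ p → x ∈ K q := by
    intro x
    rw [hT, Subgroup.mem_inf]
    simp only [Subgroup.mem_iInf]
  have hTnormal : (T.subgroupOf D).Normal := by
    constructor
    intro t ht d
    rw [Subgroup.mem_subgroupOf] at ht ⊢
    rw [hmemT] at ht ⊢
    refine ⟨(d * t * d⁻¹).2, ?_⟩
    intro q hq
    have hdN := (hmemD d.1).mp d.2 q
    have := (Subgroup.mem_normalizer_iff.mp hdN (t : G)).mp (ht.2 q hq)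
    simpa using this
  have hTp : IsPGroup p ↥(T.subgroupOf D) := by
    rw [IsPGroup.iff_orderOf]
    intro t
    have ht := (hmemT (t : ↥D)).mp (Subgroup.mem_subgroupOf.mp t.2)
    have hord : orderOf t = orderOf ((t : ↥D) : G) := by
      rw [Subgroup.orderOf_coe, Subgroup.orderOf_coe]
    refine ⟨(orderOf t).primeFactorsList.length, ?_⟩
    apply Nat.eq_prime_pow_of_unique_prime_dvd (orderOf_pos t).ne'
    intro r hr hrd
    by_contra hne
    have hmem := ht.2 ⟨r, hr⟩ hne
    have h1 : orderOf ((t : ↥D) : G) ∣ Nat.card ↥(K ⟨r, hr⟩) := by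
      have := orderOf_dvd_natCard (⟨((t : ↥D) : G), hmem⟩ : ↥(K ⟨r, hr⟩))
      rwa [Subgroup.orderOf_mk] at this
    rw [hord] at hrd
    exact not_dvd_card_complement K hK ⟨r, hr⟩ (hrd.trans h1)
  have hPle : (P : Subgroup ↥D) ≤ T.subgroupOf D := by
    intro x hx
    rw [Subgroup.mem_subgroupOf, hmemT]
    refine ⟨x.2, ?_⟩
    intro q hq
    apply mem_of_coprime_index (K q) ((hmemD x.1).mp x.2 q)
    obtain ⟨e, he⟩ := (IsPGroup.iff_orderOf.mp P.2) ⟨x, hx⟩
    rw [Subgroup.orderOf_mk] at he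
    rw [← Subgroup.orderOf_coe] at he
    rw [he, hK q]
    apply Nat.Coprime.pow
    exact (Nat.coprime_primes hp.out q.2).mpr (Ne.symm hq)
  have heq : T.subgroupOf D = (P : Subgroup ↥D) := P.is_maximal' hTp hPle
  rw [← heq]
  exact hTnormal

end Cfsg.Agent.S0544
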