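import Cfsg.Statements.S0543
import Mathlib
import Cfsg.Agent.Lib.Lead.HallSystem
import Cfsg.Agent.Lib.Lead.Subnormal
import Cfsg.Agent.S0004
import Cfsg.Agent.S0544

set_option autoImplicit false
open Pointwise
open Cfsg

namespace Cfsg.Agent.S0543

open scoped Pointwise
open Cfsg.Agent.Lib.Lead

theorem conj_smul_top {G : Type*} [Group G] (g : G) : MulAut.conj g • (⊤ : Subgroup G) = ⊤ := by
  ext y
  rw [Subnormal.mem_conj_smul]
  simp

theorem complement_eq_top {G : Type*} [Group G] [Finite G] (K : Nat.Primes → Subgroup G)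
    (hK : Cfsg.IsComplementSystem K) (p : Nat.Primes) (hp : ¬ (p : ℕ) ∣ Nat.card G) :
    K p = ⊤ := by
  rw [← Subgroup.index_eq_one, hK p, Nat.factorization_eq_zero_of_not_dvd hp, pow_zero]

theorem card_complement {G : Type*} [Group G] [Finite G] (K : Nat.Primes → Subgroup G)
    (hK : Cfsg.IsComplementSystem K) (p : Nat.Primes) :
    Nat.card ↥(K p) * (p : ℕ) ^ (Nat.card G).factorization p = Nat.card G := by
  rw [← hK p]; exact (K p).card_mul_index

/-- Two Hall `p`-complements of a solvable group are conjugate. -/
theorem complement_conj {G : Type*} [Group G] [Finite G] [Group.IsSolvable G]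
    (K L : Nat.Primes → Subgroup G) (hK : Cfsg.IsComplementSystem K)
    (hL : Cfsg.IsComplementSystem L) (p : Nat.Primes) : ∃ g : G, MulAut.conj g • K p = L p := by
  have h1 := card_complement K hK p
  have h2 := card_complement L hL p
  have hpos : 0 < (p : ℕ) ^ (Nat.card G).factorization p := pow_pos p.2.pos _
  have hcard : Nat.card ↥(L p) = Nat.card ↥(K p) :=
    Nat.eq_of_mul_eq_mul_right hpos (h2.trans h1.symm)
  have hcop : (Nat.card ↥(K p)).Coprime ((p : ℕ) ^ (Nat.card G).factorization p) := by
    apply Nat.Coprime.pow_right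
    exact ((Nat.Prime.coprime_iff_not_dvd p.2).mpr
      (Cfsg.Agent.S0544.not_dvd_card_complement K hK p)).symm
  exact Cfsg.Agent.S0004.result _ _ h1.symm hcop (K p) (L p) rfl hcard

/-- In a finite solvable group any two Hall complement systems are simultaneously conjugate: one element conjugates every member of the first system to the corresponding member of the second. -/
theorem result {G : Type*} [Group G] [Finite G] [Group.IsSolvable G] (K L : Nat.Primes → Subgroup G) (hK : Cfsg.IsComplementSystem K) (hL : Cfsg.IsComplementSystem L) : ∃ g : G, ∀ p : Nat.Primes, MulAut.conj g • K p = L p := by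
  classical
  set I : Finset ℕ := (Nat.card G).primeFactors with hI
  have hIprime : ∀ p ∈ I, p.Prime := fun p hp => Nat.prime_of_mem_primeFactors hp
  -- data indexed by naturals
  let N : ℕ → Subgroup G := fun p =>
    if hp : p.Prime then Subgroup.normalizer ((K ⟨p, hp⟩ : Subgroup G) : Set G) else ⊤
  have hNidx : ∀ p ∈ I, ∃ e : ℕ, (N p).index = p ^ e := by
    intro p hp
    have hpp := hIprime p hp
    have h1 : (N p).index ∣ (K ⟨p, hpp⟩).index := by
      have : N p = Subgroup.normalizer ((K ⟨p, hpp⟩ : Subgroup G) : Set G) := by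
        simp only [N, dif_pos hpp]
      rw [this]
      exact Subgroup.index_dvd_of_le Subgroup.le_normalizer
    rw [hK ⟨p, hpp⟩] at h1
    obtain ⟨e, -, he⟩ := (Nat.dvd_prime_pow hpp).mp h1
    exact ⟨e, he⟩
  let e : ℕ → ℕ := fun p => if hp : p ∈ I then Classical.choose (hNidx p hp) else 0
  have he : ∀ p ∈ I, (N p).index = p ^ e p := by
    intro p hp
    simp only [e, dif_pos hp]
    exact Classical.choose_spec (hNidx p hp)
  let x : ℕ → G := fun p =>
    if hp : p.Prime then Classical.choose (complement_conj K L hK hL ⟨p, hp⟩) else 1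
  have hx : ∀ p : Nat.Primes, MulAut.conj (x p) • K p = L p := by
    intro p
    have : x p = Classical.choose (complement_conj K L hK hL ⟨p, p.2⟩) := by
      simp only [x, dif_pos p.2]
    rw [this]
    exact Classical.choose_spec (complement_conj K L hK hL ⟨p, p.2⟩)
  obtain ⟨⟨g, hg⟩, -⟩ := HallSystem.exists_common I hIprime N e he x
  refine ⟨g, ?_⟩
  intro p
  by_cases hpI : (p : ℕ) ∈ I
  · have hmem := hg p hpI
    have hNp : N p = Subgroup.normalizer ((K p : Subgroup G) : Set G) := by
      simp only [N, dif_pos p.2]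
      rfl
    rw [hNp] at hmem
    have h1 := Subnormal.conj_smul_eq_of_mem_normalizer _ _ hmem
    have h2 : g = x p * ((x p)⁻¹ * g) := by group
    rw [h2, map_mul, mul_smul, h1]
    exact hx p
  · have hnd : ¬ (p : ℕ) ∣ Nat.card G := by
      intro hd
      apply hpI
      rw [hI, Nat.mem_primeFactors]
      exact ⟨p.2, hd, Nat.card_pos.ne'⟩
    rw [complement_eq_top K hK p hnd, complement_eq_top L hL p hnd, conj_smul_top]

end Cfsg.Agent.S0543
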