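import Cfsg.Statements.S0545
import Mathlib
import Cfsg.Agent.Lib.Lead.HallSystem
import Cfsg.Agent.Lib.Lead.Subnormal
import Cfsg.Agent.Lib.Lead.Conj
import Cfsg.Agent.S0004
import Cfsg.Agent.S0544
import Cfsg.Agent.S0543
import Cfsg.Agent.S0539

set_option autoImplicit false
open Cfsg

namespace Cfsg.Agent.S0545

open scoped Pointwise
open Cfsg.Agent.Lib.Lead

universe u

/-- `|N : N ∩ K|` divides `|G : K|` for a normal subgroup `N`. -/
theorem relIndex_dvd_of_normal {G : Type*} [Group G] [Finite G] (K N : Subgroup G) [N.Normal] :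
    K.relIndex N ∣ K.index := by
  have h1 : K.relIndex N * Nat.card ↥(K ⊓ N) = Nat.card ↥N := by
    have := (K.subgroupOf N).card_mul_index
    have e : Nat.card ↥(K.subgroupOf N) = Nat.card ↥(K ⊓ N) := by
      rw [← Subgroup.inf_subgroupOf_right]
      exact Nat.card_congr (Subgroup.subgroupOfEquivOfLe (inf_le_right : K ⊓ N ≤ N)).toEquiv
    rw [e] at this
    rw [mul_comm]; exact this
  have h2 : K.relIndex (N ⊔ K) * Nat.card ↥K = Nat.card ↥(N ⊔ K) := by
    have := (K.subgroupOf (N ⊔ K)).card_mul_index
    have e : Nat.card ↥(K.subgroupOf (N ⊔ K)) = Nat.card ↥K :=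
      Nat.card_congr (Subgroup.subgroupOfEquivOfLe (le_sup_right : K ≤ N ⊔ K)).toEquiv
    rw [e] at this
    rw [mul_comm]; exact this
  have h3 := ProdCard.card_mul_card_eq N K
  have h4 : ((N : Set G) * (K : Set G)).ncard = Nat.card ↥(N ⊔ K) := by
    rw [← Subgroup.normal_mul]
    exact (_root_.Nat.card_coe_set_eq _).symm
  rw [h4, inf_comm] at h3
  have h5 : K.relIndex N = K.relIndex (N ⊔ K) := by
    have hpos1 : 0 < Nat.card ↥(K ⊓ N) := Nat.card_pos
    have hpos2 : 0 < Nat.card ↥K := Nat.card_pos
    have : K.relIndex N * (Nat.card ↥(K ⊓ N) * Nat.card ↥K) =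
        K.relIndex (N ⊔ K) * (Nat.card ↥(K ⊓ N) * Nat.card ↥K) := by
      calc K.relIndex N * (Nat.card ↥(K ⊓ N) * Nat.card ↥K)
          = (K.relIndex N * Nat.card ↥(K ⊓ N)) * Nat.card ↥K := by ring
        _ = Nat.card ↥N * Nat.card ↥K := by rw [h1]
        _ = Nat.card ↥(N ⊔ K) * Nat.card ↥(K ⊓ N) := h3
        _ = (K.relIndex (N ⊔ K) * Nat.card ↥K) * Nat.card ↥(K ⊓ N) := by rw [h2]
        _ = _ := by ring
    exact Nat.eq_of_mul_eq_mul_right (Nat.mul_pos hpos1 hpos2) this
  rw [h5]
  exact Subgroup.relIndex_dvd_index_of_le le_sup_right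

/-- In a solvable group, if `x` normalizes `K N` for a Hall subgroup `K` and a normal subgroup `N`,
then `K^x = K^n` for some `n ∈ N`. -/
theorem hall_conj_in_sup {G : Type u} [Group G] [Finite G] [Group.IsSolvable G]
    (K N : Subgroup G) [hN : N.Normal] (hHall : (Nat.card ↥K).Coprime K.index) (x : G)
    (hx : x ∈ Subgroup.normalizer ((K ⊔ N : Subgroup G) : Set G)) :
    ∃ n ∈ N, MulAut.conj n • K = MulAut.conj x • K := by
  set H := K ⊔ N with hH
  have hKH : K ≤ H := le_sup_left
  have hxK : MulAut.conj x • K ≤ H := by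
    have h1 : MulAut.conj x • K ≤ MulAut.conj x • H :=
      Subgroup.pointwise_smul_le_pointwise_smul_iff.mpr hKH
    rw [Subnormal.conj_smul_eq_of_mem_normalizer x H hx] at h1
    exact h1
  have hcard1 : Nat.card ↥(K.subgroupOf H) = Nat.card ↥K :=
    Nat.card_congr (Subgroup.subgroupOfEquivOfLe hKH).toEquiv
  have hcard2 : Nat.card ↥((MulAut.conj x • K).subgroupOf H) = Nat.card ↥K := by
    rw [Nat.card_congr (Subgroup.subgroupOfEquivOfLe hxK).toEquiv, Subnormal.card_conj_smul]
  have hcardH : Nat.card ↥H = Nat.card ↥K * K.relIndex H := by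
    have := (K.subgroupOf H).card_mul_index
    rw [hcard1] at this
    exact this.symm
  have hcop : (Nat.card ↥K).Coprime (K.relIndex H) :=
    Nat.Coprime.coprime_dvd_right (Subgroup.relIndex_dvd_index_of_le hKH) hHall
  obtain ⟨h, hh⟩ := Cfsg.Agent.S0004.result (G := ↥H) _ _ hcardH hcop (K.subgroupOf H)
    ((MulAut.conj x • K).subgroupOf H) hcard1 hcard2
  have h1 := congrArg (Subgroup.map H.subtype) hh
  rw [Cfsg.Agent.S0539.map_conj_smul_subtype, Subgroup.map_subgroupOf_eq_of_le hKH,
    Subgroup.map_subgroupOf_eq_of_le hxK] at h1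
  have hmem0 : (h : G) ∈ K ⊔ N := h.2
  have hle : K ⊔ N ≤ N ⊔ K := by rw [sup_comm]
  have hmem : (h : G) ∈ ((N ⊔ K : Subgroup G) : Set G) := hle hmem0
  rw [Subgroup.normal_mul] at hmem
  obtain ⟨n, hn, k, hk, hnk⟩ := hmem
  refine ⟨n, hn, ?_⟩
  rw [← h1, ← hnk, map_mul, mul_smul,
    Subnormal.conj_smul_eq_of_mem_normalizer k K (Subgroup.le_normalizer hk)]

/-- Let K be a Hall complement system of a finite solvable group G and N a normal subgroup. Then the images of the K p in G modulo N form a Hall complement system of the quotient, and its system normalizer is the image of the system normalizer of K. -/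
theorem result {G : Type*} [Group G] [Finite G] [Group.IsSolvable G] (K : Nat.Primes → Subgroup G) (hK : Cfsg.IsComplementSystem K) (N : Subgroup G) [N.Normal] : Cfsg.IsComplementSystem (fun p => (K p).map (QuotientGroup.mk' N)) ∧ Cfsg.systemNormalizer (fun p => (K p).map (QuotientGroup.mk' N)) = (Cfsg.systemNormalizer K).map (QuotientGroup.mk' N) := by
  classical
  set π := QuotientGroup.mk' N with hπ
  have hπsurj : Function.Surjective π := QuotientGroup.mk'_surjective N
  have hcopK : ∀ p : Nat.Primes, (Nat.card ↥(K p)).Coprime ((p : ℕ) ^ (Nat.card G).factorization p) :=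
    fun p => Nat.Coprime.pow_right _ ((Nat.Prime.coprime_iff_not_dvd p.2).mpr
      (Cfsg.Agent.S0544.not_dvd_card_complement K hK p)).symm
  constructor
  · intro p
    have h1 : ((K p).map π).index ∣ (p : ℕ) ^ (Nat.card G).factorization p := by
      rw [← hK p]; exact Subgroup.index_map_dvd (K p) hπsurj
    obtain ⟨b, -, hb⟩ := (Nat.dvd_prime_pow p.2).mp h1
    have h2 : Nat.card ↥((K p).map π) * ((K p).map π).index = Nat.card (G ⧸ N) :=
      ((K p).map π).card_mul_index
    have h3 : ¬ (p : ℕ) ∣ Nat.card ↥((K p).map π) := fun hd =>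
      Cfsg.Agent.S0544.not_dvd_card_complement K hK p (hd.trans (Subgroup.card_map_dvd (K p) π))
    rw [hb] at h2
    have hfac : (Nat.card (G ⧸ N)).factorization p = b := by
      rw [← h2, Nat.factorization_mul Nat.card_pos.ne' (pow_pos p.2.pos b).ne',
        Nat.Prime.factorization_pow p.2, Finsupp.add_apply, Finsupp.single_eq_same,
        Nat.factorization_eq_zero_of_not_dvd h3, zero_add]
    show ((K p).map π).index = (p : ℕ) ^ (Nat.card (G ⧸ N)).factorization p
    rw [hb, hfac]
  · apply le_antisymm
    · -- the hard inclusion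
      intro ybar hy
      obtain ⟨x, rfl⟩ := hπsurj ybar
      have hy' : ∀ p : Nat.Primes, π x ∈ Subgroup.normalizer (((K p).map π : Subgroup (G ⧸ N)) : Set (G ⧸ N)) := by
        intro p
        have : π x ∈ Cfsg.systemNormalizer (fun p => (K p).map π) := hy
        unfold Cfsg.systemNormalizer at this
        exact Subgroup.mem_iInf.mp this p
      -- `x` normalizes `K p ⊔ N`
      have hxN : ∀ p : Nat.Primes, x ∈ Subgroup.normalizer ((K p ⊔ N : Subgroup G) : Set G) := by
        intro p
        apply Cfsg.Agent.Lib.Lead.Conj.mem_normalizer_of_conj_mem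
        intro r hr
        have hr' : π r ∈ (K p).map π := by
          have : r ∈ ((K p).map π).comap π := by
            rw [Subgroup.comap_map_eq, QuotientGroup.ker_mk']; exact hr
          exact this
        have h1 := (Subgroup.mem_normalizer_iff.mp (hy' p) (π r)).mp hr'
        have h2 : x * r * x⁻¹ ∈ ((K p).map π).comap π := by
          show π (x * r * x⁻¹) ∈ (K p).map π
          rw [map_mul, map_mul, map_inv]; exact h1
        rw [Subgroup.comap_map_eq, QuotientGroup.ker_mk'] at h2
        exact h2
      -- conjugating elements in `N`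
      have hn : ∀ p : Nat.Primes, ∃ n ∈ N, MulAut.conj n • K p = MulAut.conj x • K p := by
        intro p
        apply hall_conj_in_sup (K p) N _ x (hxN p)
        rw [hK p]; exact hcopK p
      set I : Finset ℕ := (Nat.card G).primeFactors with hI
      have hIprime : ∀ p ∈ I, p.Prime := fun p hp => Nat.prime_of_mem_primeFactors hp
      let M : ℕ → Subgroup ↥N := fun p =>
        if hp : p.Prime then (Subgroup.normalizer ((K ⟨p, hp⟩ : Subgroup G) : Set G)).subgroupOf N
        else ⊤
      have hMidx : ∀ p ∈ I, ∃ e : ℕ, (M p).index = p ^ e := by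
        intro p hp
        have hpp := hIprime p hp
        have hM : M p = (Subgroup.normalizer ((K ⟨p, hpp⟩ : Subgroup G) : Set G)).subgroupOf N := by
          simp only [M, dif_pos hpp]
        have h1 : (M p).index ∣ ((K ⟨p, hpp⟩).subgroupOf N).index := by
          rw [hM]
          apply Subgroup.index_dvd_of_le
          intro y hy
          rw [Subgroup.mem_subgroupOf] at hy ⊢
          exact Subgroup.le_normalizer hy
        have h2 : ((K ⟨p, hpp⟩).subgroupOf N).index ∣ p ^ (Nat.card G).factorization p := by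
          have := relIndex_dvd_of_normal (K ⟨p, hpp⟩) N
          rw [hK ⟨p, hpp⟩] at this
          exact this
        obtain ⟨e, -, he⟩ := (Nat.dvd_prime_pow hpp).mp (h1.trans h2)
        exact ⟨e, he⟩
      let e : ℕ → ℕ := fun p => if hp : p ∈ I then Classical.choose (hMidx p hp) else 0
      have he : ∀ p ∈ I, (M p).index = p ^ e p := by
        intro p hp
        simp only [e, dif_pos hp]
        exact Classical.choose_spec (hMidx p hp)
      let xs : ℕ → ↥N := fun p =>
        if hp : p.Prime then ⟨Classical.choose (hn ⟨p, hp⟩), (Classical.choose_spec (hn ⟨p, hp⟩)).1⟩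
        else 1
      have hxs : ∀ p : Nat.Primes, MulAut.conj ((xs p : ↥N) : G) • K p = MulAut.conj x • K p := by
        intro p
        have : ((xs p : ↥N) : G) = Classical.choose (hn ⟨p, p.2⟩) := by
          simp only [xs, dif_pos p.2]
        rw [this]
        exact (Classical.choose_spec (hn ⟨p, p.2⟩)).2
      obtain ⟨⟨n, hnI⟩, -⟩ := HallSystem.exists_common (G := ↥N) I hIprime M e he xs
      have hnK : ∀ p : Nat.Primes, MulAut.conj (n : G) • K p = MulAut.conj x • K p := by
        intro p
        by_cases hpI : (p : ℕ) ∈ I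
        · have hmem := hnI p hpI
          have hM : M p = (Subgroup.normalizer ((K p : Subgroup G) : Set G)).subgroupOf N := by
            simp only [M, dif_pos p.2]
            rfl
          rw [hM, Subgroup.mem_subgroupOf] at hmem
          have hmem' : ((xs p : ↥N) : G)⁻¹ * (n : G) ∈
              Subgroup.normalizer ((K p : Subgroup G) : Set G) := by
            simpa using hmem
          have h1 := Subnormal.conj_smul_eq_of_mem_normalizer _ _ hmem'
          have h2 : (n : G) = ((xs p : ↥N) : G) * (((xs p : ↥N) : G)⁻¹ * (n : G)) := by group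
          rw [h2, map_mul, mul_smul, h1]
          exact hxs p
        · have hnd : ¬ (p : ℕ) ∣ Nat.card G := by
            intro hd
            apply hpI
            rw [hI, Nat.mem_primeFactors]
            exact ⟨p.2, hd, Nat.card_pos.ne'⟩
          rw [Cfsg.Agent.S0543.complement_eq_top K hK p hnd, Cfsg.Agent.S0543.conj_smul_top,
            Cfsg.Agent.S0543.conj_smul_top]
      -- `n⁻¹ x ∈ D`
      have hD : (n : G)⁻¹ * x ∈ Cfsg.systemNormalizer K := by
        unfold Cfsg.systemNormalizer
        rw [Subgroup.mem_iInf]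
        intro p
        apply Subnormal.mem_normalizer_of_conj_smul_le
        rw [map_mul, mul_smul, ← hnK p, ← mul_smul, ← map_mul, inv_mul_cancel, map_one, one_smul]
      refine ⟨(n : G)⁻¹ * x, hD, ?_⟩
      rw [map_mul, map_inv]
      have : π (n : G) = 1 := (QuotientGroup.eq_one_iff (n : G)).mpr n.2
      rw [this, inv_one, one_mul]
    · -- the easy inclusion
      rintro _ ⟨x, hx0, rfl⟩
      have hx : x ∈ Cfsg.systemNormalizer K := hx0
      unfold Cfsg.systemNormalizer at hx ⊢
      rw [Subgroup.mem_iInf] at hx ⊢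
      intro p
      apply Cfsg.Agent.Lib.Lead.Conj.mem_normalizer_of_conj_mem
      rintro _ ⟨k, hk, rfl⟩
      refine ⟨x * k * x⁻¹, (Subgroup.mem_normalizer_iff.mp (hx p) k).mp hk, ?_⟩
      rw [map_mul, map_mul, map_inv]

end Cfsg.Agent.S0545
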