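import Cfsg.Statements.S0568
import Mathlib
import Cfsg.Agent.S0545
import Cfsg.Agent.Lib.Lead.SysNorm

set_option autoImplicit false
open Cfsg

namespace Cfsg.Agent.S0568

open scoped commutatorElement


/-- Let D be the system normalizer of a Hall complement system of a finite solvable group G, and let A < B be normal subgroups with no normal subgroup of G strictly between them (a chief factor). If G centralizes B modulo A then B ≤ A ⊔ D (D covers the factor); otherwise B ∩ D ≤ A (D avoids it). -/
theorem result {G : Type*} [Group G] [Finite G] [Group.IsSolvable G] (K : Nat.Primes → Subgroup G) (hK : Cfsg.IsComplementSystem K) (A B : Subgroup G) [A.Normal] [B.Normal] (hAB : A < B) (hchief : ∀ N : Subgroup G, N.Normal → A ≤ N → N ≤ B → N = A ∨ N = B) : (⁅B, (⊤ : Subgroup G)⁆ ≤ A → B ≤ A ⊔ Cfsg.systemNormalizer K) ∧ (¬ ⁅B, (⊤ : Subgroup G)⁆ ≤ A → B ⊓ Cfsg.systemNormalizer K ≤ A) := by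
  classical
  obtain ⟨π, hπ⟩ : ∃ π : G →* G ⧸ A, π = QuotientGroup.mk' A := ⟨_, rfl⟩
  have hπs : Function.Surjective π := by rw [hπ]; exact QuotientGroup.mk'_surjective A
  have hker : ∀ g, π g = 1 ↔ g ∈ A := by
    intro g; rw [hπ]; exact QuotientGroup.eq_one_iff g
  obtain ⟨hL, hDmap⟩ := Cfsg.Agent.S0545.result K hK A
  rw [← hπ] at hL hDmap
  constructor
  · intro hcent b hb
    have hbc : ∀ h : G ⧸ A, π b * h = h * π b := by
      intro h
      obtain ⟨g, rfl⟩ := hπs h
      have h1 : ⁅b, g⁆ ∈ A := hcent (Subgroup.commutator_mem_commutator hb (Subgroup.mem_top g))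
      have h2 : π ⁅b, g⁆ = 1 := (hker _).mpr h1
      rw [map_commutatorElement] at h2
      exact commutatorElement_eq_one_iff_mul_comm.mp h2
    have hbD : π b ∈ Cfsg.systemNormalizer (fun p => (K p).map π) := by
      show π b ∈ ⨅ q : Nat.Primes, Subgroup.normalizer (((K q).map π : Subgroup (G ⧸ A)) : Set (G ⧸ A))
      rw [Subgroup.mem_iInf]
      intro p
      rw [Subgroup.mem_normalizer_iff]
      intro h
      have : π b * h * (π b)⁻¹ = h := by rw [hbc h]; group
      rw [this]
    rw [hDmap] at hbD
    obtain ⟨d, hd, hdb⟩ := hbD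
    have h3 : d⁻¹ * b ∈ A := by
      rw [← hker, map_mul, map_inv, hdb]; group
    have : b = d * (d⁻¹ * b) := by group
    rw [this]
    exact Subgroup.mul_mem _ (Subgroup.mem_sup_right hd) (Subgroup.mem_sup_left h3)
  · intro hnc x hx
    obtain ⟨hxB, hxD⟩ := hx
    obtain ⟨M, hM⟩ : ∃ M, M = B.map π := ⟨_, rfl⟩
    haveI hMn : M.Normal := by rw [hM]; exact Subgroup.Normal.map inferInstance π hπs
    have hMmem : ∀ b ∈ B, π b ∈ M := by
      intro b hb; rw [hM]; exact Subgroup.mem_map_of_mem π hb
    have hMne : M ≠ ⊥ := by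
      intro h
      apply hAB.not_ge
      intro b hb
      have := hMmem b hb
      rw [h, Subgroup.mem_bot] at this
      exact (hker b).mp this
    have hmin : ∀ N : Subgroup (G ⧸ A), N.Normal → N ≤ M → N = ⊥ ∨ N = M := by
      intro N hN hNM
      have h1 : A ≤ N.comap π := by
        intro a ha
        show π a ∈ N
        rw [(hker a).mpr ha]; exact N.one_mem
      have h2 : N.comap π ≤ B := by
        intro g hg
        have : π g ∈ M := hNM hg
        rw [hM] at this
        obtain ⟨b, hb, hbg⟩ := this
        have h3 : b⁻¹ * g ∈ A := by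
          rw [← hker, map_mul, map_inv, hbg]; group
        have : g = b * (b⁻¹ * g) := by group
        rw [this]; exact B.mul_mem hb (hAB.le h3)
      rcases hchief (N.comap π) (hN.comap π) h1 h2 with h | h
      · left
        rw [← Subgroup.map_comap_eq_self_of_surjective hπs N, h]
        rw [eq_bot_iff]
        rintro _ ⟨a, ha, rfl⟩
        rw [Subgroup.mem_bot]; exact (hker a).mpr ha
      · right
        rw [← Subgroup.map_comap_eq_self_of_surjective hπs N, h, hM]
    have hncM : ¬ M ≤ Subgroup.center (G ⧸ A) := by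
      intro h
      apply hnc
      rw [Subgroup.commutator_le]
      intro b hb g _
      rw [← hker, map_commutatorElement]
      have : π b ∈ Subgroup.center (G ⧸ A) := h (hMmem b hb)
      rw [Subgroup.mem_center_iff] at this
      rw [commutatorElement_eq_one_iff_mul_comm]
      exact (this (π g)).symm
    have hbot := Cfsg.Agent.Lib.Lead.SysNorm.minimal_normal_avoid
      (fun p => (K p).map π) hL M hMne hmin hncM
    have : π x ∈ M ⊓ Cfsg.systemNormalizer (fun p => (K p).map π) := by
      refine ⟨hMmem x hxB, ?_⟩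
      rw [hDmap]; exact Subgroup.mem_map_of_mem π hxD
    rw [hbot, Subgroup.mem_bot] at this
    exact (hker x).mp this

end Cfsg.Agent.S0568
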