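import Cfsg.Statements.S1401
import Cfsg.Agent.Lib.Helper4.BGUniqD
import Cfsg.Agent.S1397
import Cfsg.Agent.S1399
import Cfsg.Agent.S1400

set_option autoImplicit false
open Cfsg

namespace Cfsg.Agent.S1401

/-- Let G be a minimal simple group of odd order, p a prime, and M a maximal subgroup whose Fitting subgroup contains an elementary abelian subgroup of order p ^ 3. Then every abelian p-subgroup of G containing an elementary abelian subgroup of order p ^ 3 lies in exactly one maximal subgroup of G. -/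
theorem result {G : Type*} [Group G] [Finite G] (hG : Cfsg.IsMinSimpleOddOrder G)
    (M : Subgroup G) (hM : IsCoatom M) (p : ℕ) [Fact p.Prime] (hF : ¬ Cfsg.PRankLE p 2 ↥(Cfsg.fittingOf M))
    (A : Subgroup G) (hAp : IsPGroup p A) (hAc : IsMulCommutative A) (hA3 : ¬ Cfsg.PRankLE p 2 ↥A) :
    Cfsg.InUniqueMaximal A := by
  exact Cfsg.Agent.Lib.Helper4.BGUniq.lemma94 hG
    (fun M hM p hp A₀ hA₀ hA₀e hA₀3 hA₀max =>
      haveI : Fact p.Prime := ⟨hp⟩
      ⟨(Cfsg.Agent.S1397.result hG M hM p A₀ hA₀ hA₀e hA₀3 hA₀max).1,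
        fun hFp P A hA hA3 =>
          (((Cfsg.Agent.S1397.result hG M hM p A₀ hA₀ hA₀e hA₀3 hA₀max).2 hFp P).2 A hA hA3).2⟩)
    (fun L K hL hK hKr => Cfsg.Agent.S1399.result hG L K hL hK hKr)
    (fun p hp A B hAp hAc hA3 hAU hBp hBnc hB3 =>
      haveI : Fact p.Prime := ⟨hp⟩
      Cfsg.Agent.S1400.result hG p A B hAp hAc hA3 hAU hBp hBnc hB3)
    M hM p Fact.out hF A hAp hAc hA3

end Cfsg.Agent.S1401
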