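import Mathlib
import Cfsg.Statements.S1402
import Cfsg.Agent.S1396
import Cfsg.Agent.H2.BGU.T81b2
import Cfsg.Agent.Lib.Helper5.BG95I
import Cfsg.Agent.Lib.helper3.BG95E
import Cfsg.Agent.H1.BG95D

set_option autoImplicit false
open Cfsg

namespace Cfsg.Agent.S1402

/-- Let G be a minimal simple group of odd order, p a prime, P a Sylow p-subgroup of G and A a normal subgroup of P with C_P(A) = A containing an elementary abelian subgroup of order p ^ 3. Then A lies in exactly one maximal subgroup of G. -/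
theorem result {G : Type*} [Group G] [Finite G] (hG : Cfsg.IsMinSimpleOddOrder G)
    (p : ℕ) [Fact p.Prime] (P : Sylow p G) (A : Subgroup G) (hA : Cfsg.IsSCN (P : Subgroup G) A) (hA3 : ¬ Cfsg.PRankLE p 2 ↥A) :
    Cfsg.InUniqueMaximal A := by
  by_cases hI : ∀ H : Subgroup G, IsCoatom H → A ≤ H → ⁅H, H⁆ ≤ Cfsg.fittingOf H
  · exact Cfsg.Agent.Lib.Helper5.BG95I.typeI_case hG p P A hA hA3 hI
  · push Not at hI
    obtain ⟨H₀, hH₀, hAH₀, hstar₀⟩ := hI
    by_contra hnU
    have hpp : p.Prime := Fact.out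
    have hAp : IsPGroup p ↥A := P.isPGroup'.to_le hA.1
    have hAc : IsMulCommutative ↥A := by
      refine ⟨⟨fun x y => ?_⟩⟩
      have := Subgroup.mem_centralizer_iff.mp
        (Cfsg.Agent.H2.BGU.H81b.scn_comm hA y.2) _ x.2
      exact Subtype.ext this
    obtain ⟨E, hEA, hE, hEcard⟩ := Cfsg.Agent.H2.BGU.exists_elementary_of_not_pRankLE hA3
    have hAne : A ≠ ⊥ := by
      rintro rfl
      have h1 : Nat.card ↥E = 1 := by
        rw [le_bot_iff.mp hEA]; exact Subgroup.card_bot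
      rw [h1] at hEcard
      have : 1 < p ^ (2 + 1) := Nat.one_lt_pow (by norm_num) hpp.one_lt
      omega
    have hpG : p ∣ Nat.card G := by
      obtain ⟨k, hk⟩ := hAp.exists_card_eq
      have hk0 : k ≠ 0 := by
        rintro rfl
        rw [pow_zero] at hk
        exact hAne (Subgroup.card_eq_one.mp hk)
      exact (hk ▸ dvd_pow_self p hk0 : p ∣ Nat.card ↥A).trans (Subgroup.card_subgroup_dvd_card A)
    have hTA : Cfsg.TransitivityHypothesis A :=
      Cfsg.Agent.S1396.result hG p hpG A hAp hAc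
        (Or.inr ⟨P, hA, fun h1 => hA3 (Cfsg.Agent.H2.BGU.pRankLE_mono hpp (by norm_num) h1)⟩)
    have hEcard' : p ^ 3 ≤ Nat.card ↥E := hEcard
    have c : Cfsg.Agent.Lib.helper3.BG95.Ctx G p A E :=
      ⟨hG, hTA, hAp, hAc, hE, hEA, hEcard', hnU⟩
    have hC := Cfsg.Agent.Lib.helper3.BG95.star_centralizer_le c hH₀ hAH₀ hstar₀
    have hN : ∀ Y : Subgroup G, Y ≤ Cfsg.fittingOf H₀ → Y ≠ ⊥ →
        Subgroup.normalizer (Y : Set G) ≤ H₀ := fun Y hY hY1 =>
      Cfsg.Agent.Lib.helper3.BG95.star_normalizer_le hG hH₀ hstar₀ hY hY1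
    have hd := Cfsg.Agent.Lib.helper3.BG95.star_exists_prime c hH₀ hAH₀ hstar₀
    have hI' : ∀ H : Subgroup G, IsCoatom H → A ≤ H → H ≠ H₀ → ⁅H, H⁆ ≤ Cfsg.fittingOf H := by
      intro H hH hAH hne
      by_contra hstar
      exact hne (Cfsg.Agent.Lib.helper3.BG95.star_unique c hH₀ hAH₀ hstar₀ hH hAH hstar).symm
    exact hnU (Cfsg.Agent.H1.BG95D.part4' hG hAp hAc hE hEA hEcard' hH₀ hAH₀ hC hN hI' hd)

end Cfsg.Agent.S1402
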