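import Cfsg.Statements.S0206
import Mathlib
import Cfsg.Agent.H1.Dihedral

set_option autoImplicit false
open Cfsg

namespace Cfsg.Agent.S0206

open Cfsg.Agent.H1

/-- Two distinct involutions x, y of a finite group generate a subgroup isomorphic to the dihedral group of order 2·|xy|. -/
theorem result {G : Type*} [Group G] [Finite G] (x y : G) (hx : orderOf x = 2) (hy : orderOf y = 2) (hxy : x ≠ y) : Nonempty (↥(Subgroup.closure ({x, y} : Set G)) ≃* DihedralGroup (orderOf (x * y))) := by
  set f := dihedralHom (x * y) (orderOf (x * y)) (pow_orderOf_eq_one _) x (invol_mul_self hx) (pair_conj hx hy) with hf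
  have hinj : Function.Injective f := by
    rw [injective_iff_map_eq_one]
    rintro (i | i) hi
    · rw [hf, dihedralHom_r, zmodPow_eq_one_iff _ _ _ rfl] at hi
      rw [hi]; rfl
    · exfalso
      rw [hf, dihedralHom_sr] at hi
      obtain ⟨k, -, hk⟩ := zmodPow_exists_zpow (x * y) (orderOf (x * y)) (pow_orderOf_eq_one _) i
      rw [hk] at hi
      exact pair_mul_zpow_ne_one hx hy k hi
  have hrange : f.range = Subgroup.closure ({x, y} : Set G) := by
    apply le_antisymm
    · rintro _ ⟨(i | i), rfl⟩
      · obtain ⟨k, -, hk⟩ := zmodPow_exists_zpow (x * y) (orderOf (x * y)) (pow_orderOf_eq_one _) i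
        rw [hf, dihedralHom_r, hk, mem_closure_pair_iff hx hy]
        exact ⟨k, Or.inl rfl⟩
      · obtain ⟨k, -, hk⟩ := zmodPow_exists_zpow (x * y) (orderOf (x * y)) (pow_orderOf_eq_one _) i
        rw [hf, dihedralHom_sr, hk, mem_closure_pair_iff hx hy]
        exact ⟨k, Or.inr rfl⟩
    · rw [Subgroup.closure_le]
      rintro z (rfl | hz)
      · exact ⟨.sr 0, by rw [hf, dihedralHom_sr, zmodPow_zero, mul_one]⟩
      · rw [Set.mem_singleton_iff] at hz
        subst hz
        exact ⟨.sr 1, by rw [hf, dihedralHom_sr, zmodPow_one, ← mul_assoc, invol_mul_self hx, one_mul]⟩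
  exact ⟨((MonoidHom.ofInjective hinj).trans (MulEquiv.subgroupCongr hrange)).symm⟩

end Cfsg.Agent.S0206
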