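import Cfsg.Statements.S1459
import Mathlib
import Cfsg.Agent.H1.CoprimeAction
import Cfsg.Agent.H1.WielandtHall
import Cfsg.Agent.H2.MaxClassLCS

set_option autoImplicit false
open Cfsg
open scoped commutatorElement

namespace Cfsg.Agent.S1459

/-- A subgroup of a solvable group contained in its own derived subgroup is trivial. -/
theorem eq_bot_of_le_commutator_self {Q : Type*} [Group Q] [Group.IsSolvable Q] (A : Subgroup Q)
    (hA : A ≤ ⁅A, A⁆) : A = ⊥ := by
  have h : ∀ n : ℕ, A ≤ derivedSeries Q n := by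
    intro n
    induction n with
    | zero => exact le_top
    | succ n ih =>
      rw [derivedSeries_succ]
      exact hA.trans (Subgroup.commutator_mono ih ih)
  obtain ⟨n, hn⟩ := (Group.isSolvable_def Q).mp inferInstance
  exact le_bot_iff.mp (hn ▸ h n)

/-- Part (a), first half: a normal subgroup `H` with a complement `K`, contained in the derived
subgroup of the solvable group `G`, equals `[H, K]`. -/
theorem eq_commutator_of_le_commutator {G : Type*} [Group G] [Group.IsSolvable G]
    (H K : Subgroup G) [H.Normal] (hc : Subgroup.IsComplement' H K) (hH : H ≤ commutator G) :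
    H = ⁅H, K⁆ := by
  have htop : H ⊔ K = ⊤ := hc.sup_eq_top
  have hdisj : H ⊓ K = ⊥ := hc.disjoint.eq_bot
  have hNn : (⁅H, K⁆ : Subgroup G).Normal := by
    rw [← Subgroup.normalizer_eq_top_iff]
    apply top_le_iff.mp
    rw [← htop]
    exact sup_le (Subgroup.normalizer_commutator_ge_left H K) (Subgroup.normalizer_commutator_ge_right H K)
  have hNH : ⁅H, K⁆ ≤ H := Subgroup.commutator_le_left H K
  have hMn : (⁅H, K⁆ ⊔ ⁅H, H⁆ : Subgroup G).Normal := inferInstance
  have hMH : ⁅H, K⁆ ⊔ ⁅H, H⁆ ≤ H := sup_le hNH (Subgroup.commutator_le_left H H)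
  -- decomposition of elements
  have hdec : ∀ g : G, ∃ h ∈ H, ∃ k ∈ K, g = h * k := by
    intro g
    have hg : g ∈ H ⊔ K := by rw [htop]; exact Subgroup.mem_top g
    exact (Cfsg.Agent.H1.mem_sup_of_le_normalizer H K
      (by rw [Subgroup.normalizer_eq_top]; exact le_top)).mp hg
  have hmemL : ∀ x : G, x ∈ (⁅H, K⁆ ⊔ ⁅H, H⁆) ⊔ K ↔
      ∃ m ∈ (⁅H, K⁆ ⊔ ⁅H, H⁆ : Subgroup G), ∃ k ∈ K, x = m * k := by
    intro x
    exact Cfsg.Agent.H1.mem_sup_of_le_normalizer _ K
      (by rw [Subgroup.normalizer_eq_top]; exact le_top)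
  -- `L = M ⊔ K` is normal
  have hLn : ((⁅H, K⁆ ⊔ ⁅H, H⁆) ⊔ K : Subgroup G).Normal := by
    rw [← Subgroup.normalizer_eq_top_iff]
    apply top_le_iff.mp
    rw [← htop]
    refine sup_le ?_ (le_trans le_sup_right Subgroup.le_normalizer)
    rw [Subgroup.le_normalizer_iff_commutator_le_right, Subgroup.commutator_le]
    intro h hh x hx
    obtain ⟨m, hm, k, hk, rfl⟩ := (hmemL x).mp hx
    have e : ⁅h, m * k⁆ = (h * m * h⁻¹) * ⁅h, k⁆ * m⁻¹ := by
      simp only [commutatorElement_def]; group
    rw [e]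
    apply Subgroup.mem_sup_left
    refine mul_mem (mul_mem (hMn.conj_mem m hm h) ?_) (inv_mem hm)
    exact Subgroup.mem_sup_left (Subgroup.commutator_mem_commutator hh hk)
  -- `G / L` is commutative
  have hGL : commutator G ≤ (⁅H, K⁆ ⊔ ⁅H, H⁆) ⊔ K := by
    rw [commutator_def, Subgroup.commutator_le]
    intro g₁ _ g₂ _
    obtain ⟨h₁, hh₁, k₁, hk₁, rfl⟩ := hdec g₁
    obtain ⟨h₂, hh₂, k₂, hk₂, rfl⟩ := hdec g₂
    rw [← QuotientGroup.eq_one_iff (N := (⁅H, K⁆ ⊔ ⁅H, H⁆) ⊔ K)]
    have hk1 : (QuotientGroup.mk' ((⁅H, K⁆ ⊔ ⁅H, H⁆) ⊔ K)) k₁ = 1 :=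
      (QuotientGroup.eq_one_iff _).mpr (Subgroup.mem_sup_right hk₁)
    have hk2 : (QuotientGroup.mk' ((⁅H, K⁆ ⊔ ⁅H, H⁆) ⊔ K)) k₂ = 1 :=
      (QuotientGroup.eq_one_iff _).mpr (Subgroup.mem_sup_right hk₂)
    have hh : (QuotientGroup.mk' ((⁅H, K⁆ ⊔ ⁅H, H⁆) ⊔ K)) ⁅h₁, h₂⁆ = 1 :=
      (QuotientGroup.eq_one_iff _).mpr (Subgroup.mem_sup_left (Subgroup.mem_sup_right
        (Subgroup.commutator_mem_commutator hh₁ hh₂)))
    show (QuotientGroup.mk' ((⁅H, K⁆ ⊔ ⁅H, H⁆) ⊔ K)) ⁅h₁ * k₁, h₂ * k₂⁆ = 1
    rw [map_commutatorElement, map_mul, map_mul, hk1, hk2, mul_one, mul_one,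
      ← map_commutatorElement, hh]
  -- `H ≤ M`
  have hHM : H ≤ ⁅H, K⁆ ⊔ ⁅H, H⁆ := by
    intro x hx
    obtain ⟨m, hm, k, hk, rfl⟩ := (hmemL x).mp (hGL (hH hx))
    have hkH : k ∈ H := by
      have : k = m⁻¹ * (m * k) := by group
      rw [this]
      exact mul_mem (inv_mem (hMH hm)) hx
    have hk1 : k = 1 := by
      have : k ∈ H ⊓ K := Subgroup.mem_inf.mpr ⟨hkH, hk⟩
      rw [hdisj] at this
      exact Subgroup.mem_bot.mp this
    rw [hk1, mul_one]; exact hm
  -- pass to `G / N`
  have hperf : H.map (QuotientGroup.mk' ⁅H, K⁆) ≤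
      ⁅H.map (QuotientGroup.mk' ⁅H, K⁆), H.map (QuotientGroup.mk' ⁅H, K⁆)⁆ := by
    rw [← Subgroup.map_commutator]
    calc H.map (QuotientGroup.mk' ⁅H, K⁆) ≤ (⁅H, K⁆ ⊔ ⁅H, H⁆).map (QuotientGroup.mk' ⁅H, K⁆) :=
          Subgroup.map_mono hHM
      _ = ⁅H, H⁆.map (QuotientGroup.mk' ⁅H, K⁆) := by
          rw [Subgroup.map_sup, QuotientGroup.map_mk'_self, bot_sup_eq]
  have hbot := eq_bot_of_le_commutator_self _ hperf
  rw [Subgroup.map_eq_bot_iff, QuotientGroup.ker_mk'] at hbot
  exact le_antisymm hbot hNH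

/-- Part (a), second half: if `H = [H, K]` with coprime orders, then `C_H(K) ≤ H'`. -/
theorem centralizer_le_commutator {G : Type*} [Group G] [Finite G]
    (H K : Subgroup G) [hHn : H.Normal] (hcop : (Nat.card H).Coprime (Nat.card K))
    (hHK : H = ⁅H, K⁆) :
    H ⊓ Subgroup.centralizer (K : Set G) ≤ ⁅H, H⁆ := by
  classical
  haveI : Fintype K := Fintype.ofFinite K
  -- the conjugation action of `K` on `H`
  let cj : K → H → H := fun k h => ⟨(k : G) * h * (k : G)⁻¹, hHn.conj_mem _ h.2 _⟩
  have cj_mul : ∀ (k : K) (a b : H), cj k (a * b) = cj k a * cj k b := by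
    intro k a b
    apply Subtype.ext
    show (k : G) * ((a : G) * b) * (k : G)⁻¹ = ((k : G) * a * (k : G)⁻¹) * ((k : G) * b * (k : G)⁻¹)
    group
  have cj_cj : ∀ (k k₀ : K) (a : H), cj k (cj k₀ a) = cj (k * k₀) a := by
    intro k k₀ a
    apply Subtype.ext
    show (k : G) * ((k₀ : G) * a * (k₀ : G)⁻¹) * (k : G)⁻¹ = ((k : G) * k₀) * a * ((k : G) * k₀)⁻¹
    group
  -- the "trace" map
  let T : H →* Abelianization H :=
    { toFun := fun h => ∏ k : K, Abelianization.of (cj k h)
      map_one' := by
        apply Finset.prod_eq_one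
        intro k _
        have : cj k 1 = 1 := by
          apply Subtype.ext
          show (k : G) * ((1 : H) : G) * (k : G)⁻¹ = 1
          simp
        rw [this, map_one]
      map_mul' := by
        intro a b
        rw [← Finset.prod_mul_distrib]
        apply Finset.prod_congr rfl
        intro k _
        rw [cj_mul, map_mul] }
  have T_apply : ∀ h : H, T h = ∏ k : K, Abelianization.of (cj k h) := fun _ => rfl
  have T_cj : ∀ (k₀ : K) (h : H), T (cj k₀ h) = T h := by
    intro k₀ h
    rw [T_apply, T_apply]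
    refine Fintype.prod_equiv (Equiv.mulRight k₀) _ _ ?_
    intro k
    rw [cj_cj]; rfl
  -- `T` kills `[H, K] = H`
  have hker : ∀ x : H, T x = 1 := by
    have hle : ⁅H, K⁆ ≤ (T.ker).map H.subtype := by
      rw [Subgroup.commutator_le]
      intro h hh k hk
      refine ⟨⟨h, hh⟩ * cj ⟨k, hk⟩ (⟨h, hh⟩⁻¹), ?_, ?_⟩
      · show T _ = 1
        rw [map_mul, T_cj, map_inv, mul_inv_cancel]
      · show h * (k * h⁻¹ * k⁻¹) = ⁅h, k⁆
        rw [commutatorElement_def]; group
    intro x
    have hx : (x : G) ∈ (T.ker).map H.subtype := hle (hHK ▸ x.2)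
    obtain ⟨y, hy, hyx⟩ := hx
    have : y = x := Subtype.ext hyx
    rw [← this]; exact hy
  intro c hc
  obtain ⟨hcH, hcK⟩ := Subgroup.mem_inf.mp hc
  have hfix : ∀ k : K, cj k ⟨c, hcH⟩ = ⟨c, hcH⟩ := by
    intro k
    apply Subtype.ext
    show (k : G) * c * (k : G)⁻¹ = c
    have := (Subgroup.mem_centralizer_iff.mp hcK) k k.2
    rw [this]; group
  have h1 : (Abelianization.of (⟨c, hcH⟩ : H)) ^ Nat.card K = 1 := by
    have := hker ⟨c, hcH⟩
    rw [T_apply] at this
    simp only [hfix, Finset.prod_const, Finset.card_univ] at this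
    rwa [Nat.card_eq_fintype_card]
  have h2 : (Abelianization.of (⟨c, hcH⟩ : H)) ^ Nat.card H = 1 := by
    rw [← map_pow, pow_card_eq_one', map_one]
  have h3 : Abelianization.of (⟨c, hcH⟩ : H) = 1 := by
    rw [← orderOf_eq_one_iff]
    exact Nat.eq_one_of_dvd_coprimes hcop (orderOf_dvd_of_pow_eq_one h2)
      (orderOf_dvd_of_pow_eq_one h1)
  have h4 : (⟨c, hcH⟩ : H) ∈ commutator H := by
    rw [← Abelianization.ker_of]; exact h3
  rw [← Subgroup.map_subtype_commutator]
  exact ⟨⟨c, hcH⟩, h4, rfl⟩

/-- In a finite nilpotent group with Sylow `q`-subgroup `S` and a subgroup `T` of order coprime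
to `q` commuting with `S` and with `|S| |T| = |D|`, every element of order coprime to `q` lies in
`T`. -/
theorem mem_of_coprime_orderOf {D : Type*} [Group D] [Finite D] (q : ℕ) [Fact q.Prime]
    (S : Sylow q D) (T : Subgroup D) (hcard : Nat.card (S : Subgroup D) * Nat.card T = Nat.card D)
    (hTq : (Nat.card T).Coprime q) (hcomm : ∀ t ∈ T, ∀ s ∈ (S : Subgroup D), t * s = s * t)
    (x : D) (hx : (orderOf x).Coprime q) : x ∈ T := by
  obtain ⟨n, hn⟩ := S.isPGroup'.exists_card_eq
  have hcop : (Nat.card (S : Subgroup D)).Coprime (Nat.card T) := by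
    rw [hn]; exact (hTq.symm).pow_left n
  have hc : Subgroup.IsComplement' (S : Subgroup D) T := Subgroup.isComplement'_of_coprime hcard hcop
  obtain ⟨⟨s, t⟩, hst, -⟩ := hc.existsUnique x
  simp only at hst
  -- `t` commutes with `x`
  have hts : (t : D) * s = s * t := hcomm t t.2 s s.2
  have hxt : Commute x ((t : D)⁻¹) := by
    rw [← hst]
    apply Commute.inv_right
    show (s : D) * t * t = t * (s * t)
    rw [← mul_assoc, hts]
  have hs : (s : D) = x * (t : D)⁻¹ := by rw [← hst]; group
  have hpow1 : (s : D) ^ (orderOf x * Nat.card T) = 1 := by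
    rw [hs, hxt.mul_pow, pow_mul, pow_orderOf_eq_one, one_pow, one_mul, mul_comm, pow_mul,
      inv_pow]
    have : (t : D) ^ Nat.card T = 1 := by
      have := pow_card_eq_one' (G := T) (x := t)
      exact_mod_cast congrArg Subtype.val this
    rw [this, inv_one, one_pow]
  have hpow2 : (s : D) ^ (q ^ n) = 1 := by
    have := pow_card_eq_one' (G := (S : Subgroup D)) (x := s)
    rw [hn] at this
    exact_mod_cast congrArg Subtype.val this
  have hs1 : (s : D) = 1 := by
    rw [← orderOf_eq_one_iff]
    refine Nat.eq_one_of_dvd_coprimes ?_ (orderOf_dvd_of_pow_eq_one hpow1)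
      (orderOf_dvd_of_pow_eq_one hpow2)
    exact (Nat.Coprime.mul_left hx hTq).pow_right n
  rw [← hst, hs1, one_mul]
  exact t.2

/-- Part (b), first half. -/
theorem coprime_of_nilpotent_prime_index {G : Type*} [Group G] [Finite G]
    (hnil : Group.IsNilpotent ↥(commutator G)) (hq : (commutator G).index.Prime) :
    (Nat.card ↥(commutator G)).Coprime (commutator G).index := by
  haveI : Fact (commutator G).index.Prime := ⟨hq⟩
  -- q'-elements lie in D
  have hqD : ∀ g : G, (orderOf g).Coprime (commutator G).index → g ∈ commutator G := by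
    intro g hg
    rw [← QuotientGroup.eq_one_iff (N := commutator G), ← orderOf_eq_one_iff]
    have h1 : orderOf ((g : G ⧸ commutator G)) ∣ orderOf g :=
      orderOf_map_dvd (QuotientGroup.mk' (commutator G)) g
    have h2 : orderOf ((g : G ⧸ commutator G)) ∣ (commutator G).index := by
      have := orderOf_dvd_natCard (g : G ⧸ commutator G)
      rwa [← Subgroup.index_eq_card] at this
    exact Nat.eq_one_of_dvd_coprimes hg h1 h2
  have hXD : Subgroup.normalClosure {g : G | (orderOf g).Coprime (commutator G).index} ≤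
      commutator G := Subgroup.normalClosure_le_normal (fun g hg => hqD g hg)
  -- G/X is a q-group
  have hPG : IsPGroup (commutator G).index
      (G ⧸ Subgroup.normalClosure {g : G | (orderOf g).Coprime (commutator G).index}) := by
    intro x
    obtain ⟨g, rfl⟩ := QuotientGroup.mk_surjective x
    obtain ⟨k, m, hm, hkm⟩ := Nat.exists_eq_pow_mul_and_not_dvd (orderOf_pos g).ne'
      (commutator G).index hq.ne_one
    refine ⟨k, ?_⟩
    rw [← QuotientGroup.mk_pow, QuotientGroup.eq_one_iff]
    apply Subgroup.subset_normalClosure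
    show (orderOf (g ^ (commutator G).index ^ k)).Coprime (commutator G).index
    rw [orderOf_pow_of_dvd (pow_ne_zero _ hq.ne_zero) (by rw [hkm]; exact dvd_mul_right _ _), hkm,
      Nat.mul_div_cancel_left _ (pow_pos hq.pos k)]
    exact ((Nat.Prime.coprime_iff_not_dvd hq).mpr hm).symm
  -- the derived subgroup of G/X has index q
  have hmapc : commutator
      (G ⧸ Subgroup.normalClosure {g : G | (orderOf g).Coprime (commutator G).index}) =
      (commutator G).map (QuotientGroup.mk'
        (Subgroup.normalClosure {g : G | (orderOf g).Coprime (commutator G).index})) := by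
    rw [commutator_def, commutator_def, Subgroup.map_commutator,
      Subgroup.map_top_of_surjective _ (QuotientGroup.mk'_surjective _)]
  have hidx : (commutator
      (G ⧸ Subgroup.normalClosure {g : G | (orderOf g).Coprime (commutator G).index})).index =
      (commutator G).index := by
    rw [hmapc]
    exact Subgroup.index_map_eq _ (QuotientGroup.mk'_surjective _)
      (by rw [QuotientGroup.ker_mk']; exact hXD)
  haveI hcyc : IsCyclic
      ((G ⧸ Subgroup.normalClosure {g : G | (orderOf g).Coprime (commutator G).index}) ⧸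
        commutator
          (G ⧸ Subgroup.normalClosure {g : G | (orderOf g).Coprime (commutator G).index})) := by
    apply isCyclic_of_prime_card (p := (commutator G).index)
    rw [← Subgroup.index_eq_card, hidx]
  have hcomm := Cfsg.Agent.H2.MaxClassLCS.comm_of_cyclic_abelianization
    (commutator G).index hPG hcyc
  -- hence D ≤ X
  have hDX : commutator G ≤
      Subgroup.normalClosure {g : G | (orderOf g).Coprime (commutator G).index} := by
    have h : ∀ g₁ g₂ : G, ⁅g₁, g₂⁆ ∈
        Subgroup.normalClosure {g : G | (orderOf g).Coprime (commutator G).index} := by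
      intro g₁ g₂
      rw [← QuotientGroup.eq_one_iff
        (N := Subgroup.normalClosure {g : G | (orderOf g).Coprime (commutator G).index})]
      show (QuotientGroup.mk' _) ⁅g₁, g₂⁆ = 1
      rw [map_commutatorElement, commutatorElement_eq_one_iff_mul_comm]
      exact hcomm _ _
    intro x hx
    rw [commutator_def] at hx
    exact (Subgroup.commutator_le.mpr (fun g₁ _ g₂ _ => h g₁ g₂)) hx
  -- the Sylow decomposition of D
  obtain ⟨S⟩ : Nonempty (Sylow (commutator G).index ↥(commutator G)) := inferInstance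
  obtain ⟨T, hcard, hTq, hTcomm⟩ := Cfsg.Agent.H1.nilpotent_sylow_complement
    (commutator G).index S
  have hXT : Subgroup.normalClosure {g : G | (orderOf g).Coprime (commutator G).index} ≤
      T.map (commutator G).subtype := by
    show Subgroup.closure (Group.conjugatesOfSet _) ≤ _
    rw [Subgroup.closure_le]
    intro y hy
    obtain ⟨a, ha, hay⟩ := Group.mem_conjugatesOfSet_iff.mp hy
    obtain ⟨c, rfl⟩ := isConj_iff.mp hay
    have hy' : (orderOf (c * a * c⁻¹)).Coprime (commutator G).index := by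
      have : orderOf (c * a * c⁻¹) = orderOf a := by
        have := MulEquiv.orderOf_eq (MulAut.conj c) a
        rwa [MulAut.conj_apply] at this
      rw [this]; exact ha
    have hyD : c * a * c⁻¹ ∈ commutator G := hqD _ hy'
    refine ⟨⟨c * a * c⁻¹, hyD⟩, ?_, rfl⟩
    apply mem_of_coprime_orderOf (commutator G).index S T hcard hTq hTcomm
    rw [← Subgroup.orderOf_coe]
    exact hy'
  have hTtop : T = ⊤ := by
    rw [eq_top_iff]
    intro x _
    obtain ⟨t, ht, htx⟩ := hXT (hDX x.2)
    have : t = x := Subtype.ext htx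
    rw [← this]; exact ht
  have : Nat.card T = Nat.card ↥(commutator G) := by
    rw [hTtop]; exact Subgroup.card_top
  rw [← this]; exact hTq

/-- Let G be a finite solvable group. (a) If H is a normal subgroup of order coprime to its index, K is a complement to H, and H ≤ G', then H = [H, K] and H ∩ C_G(K) ≤ [H, H]. (b) If G' is nilpotent and has prime index in G, then the order of G' is coprime to its index and G' = [G, K] (the subgroup generated by commutators of elements of G with elements of K) for every complement K of G'. -/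
theorem result {G : Type*} [Group G] [Finite G] [Group.IsSolvable G] :
    (∀ (H K : Subgroup G), H.Normal → (Nat.card H).Coprime H.index → Subgroup.IsComplement' H K → H ≤ commutator G →
        H = ⁅H, K⁆ ∧ H ⊓ Subgroup.centralizer (K : Set G) ≤ ⁅H, H⁆) ∧
      (Group.IsNilpotent ↥(commutator G) → (commutator G).index.Prime →
        (Nat.card ↥(commutator G)).Coprime (commutator G).index ∧
        ∀ K : Subgroup G, Subgroup.IsComplement' (commutator G) K → commutator G = ⁅(⊤ : Subgroup G), K⁆) := by
  refine ⟨?_, ?_⟩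
  · intro H K hHn hcop hc hHG
    haveI := hHn
    have h1 := eq_commutator_of_le_commutator H K hc hHG
    refine ⟨h1, ?_⟩
    apply centralizer_le_commutator H K ?_ h1
    rwa [← hc.symm.index_eq_card] at *
  · intro hnil hq
    have hcop := coprime_of_nilpotent_prime_index hnil hq
    refine ⟨hcop, ?_⟩
    intro K hK
    have h1 := eq_commutator_of_le_commutator (commutator G) K hK le_rfl
    apply le_antisymm
    · calc commutator G = ⁅commutator G, K⁆ := h1
        _ ≤ ⁅(⊤ : Subgroup G), K⁆ := Subgroup.commutator_mono le_top le_rfl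
    · calc ⁅(⊤ : Subgroup G), K⁆ ≤ ⁅(⊤ : Subgroup G), ⊤⁆ := Subgroup.commutator_mono le_rfl le_top
        _ = commutator G := (commutator_def G).symm

end Cfsg.Agent.S1459
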