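import Cfsg.Statements.S0593
import Mathlib
import Cfsg.Prelude.Def_Transfer
import Cfsg.Prelude.Def_PLocal
import Cfsg.Agent.H1.QuadPair
import Cfsg.Agent.Lib.Helper4.GL2Odd
import Cfsg.Agent.H1.QuadSL2

set_option autoImplicit false
open Cfsg

namespace Cfsg.Agent.S0593

set_option autoImplicit false
open H1

/-- For odd p, a faithful group on an elementary abelian p-group generated by two quadratically acting elements is a p-group or has non-abelian Sylow 2-subgroups. -/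
theorem result {G : Type*} [Group G] [Finite G] {p : ℕ} [Fact p.Prime] (hp : p ≠ 2) (V H : Subgroup G) (hV : Cfsg.IsElementaryAbelian p V) (hHV : H ≤ Subgroup.normalizer (V : Set G)) (hf : H ⊓ Subgroup.centralizer (V : Set G) = ⊥) (a b : G) (hab : H = Subgroup.closure {a, b}) (ha : ⁅⁅V, Subgroup.zpowers a⁆, Subgroup.zpowers a⁆ = ⊥) (hb : ⁅⁅V, Subgroup.zpowers b⁆, Subgroup.zpowers b⁆ = ⊥) (hnp : ¬ IsPGroup p H) (T : Sylow 2 H) : ¬ IsMulCommutative T := by
  classical
  have hpp : p.Prime := Fact.out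
  have haH : a ∈ H := by rw [hab]; exact Subgroup.subset_closure (Set.mem_insert _ _)
  have hbH : b ∈ H := by rw [hab]; exact Subgroup.subset_closure (Set.mem_insert_of_mem _ rfl)
  by_cases hV1 : V = ⊥
  · exfalso
    apply hnp
    have h1 : H = ⊥ := by
      rw [← hf, hV1, Subgroup.coe_bot, Subgroup.centralizer_eq_top_iff_subset.mpr, inf_top_eq]
      intro x hx
      rw [Set.mem_singleton_iff] at hx
      rw [hx]
      exact Subgroup.one_mem _
    rw [h1]
    exact IsPGroup.of_bot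
  obtain ⟨n, hn, Ψ, hΨinj, hΨq⟩ := exists_linear_rep V H hV hHV hf hV1
  haveI : CharP (AlgebraicClosure (ZMod p)) p :=
    charP_of_injective_algebraMap (algebraMap (ZMod p) (AlgebraicClosure (ZMod p))).injective p
  haveI : Nontrivial (Fin n → AlgebraicClosure (ZMod p)) := inferInstance
  obtain ⟨a', ha'⟩ : ∃ a', a' = Ψ ⟨a, haH⟩ := ⟨_, rfl⟩
  obtain ⟨b', hb'⟩ : ∃ b', b' = Ψ ⟨b, hbH⟩ := ⟨_, rfl⟩
  obtain ⟨x, hxdef⟩ : ∃ x : Module.End (AlgebraicClosure (ZMod p)) (Fin n → AlgebraicClosure (ZMod p)),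
    x = (a' : (Fin n → AlgebraicClosure (ZMod p)) →ₗ[AlgebraicClosure (ZMod p)]
      (Fin n → AlgebraicClosure (ZMod p))) - 1 := ⟨_, rfl⟩
  obtain ⟨y, hydef⟩ : ∃ y : Module.End (AlgebraicClosure (ZMod p)) (Fin n → AlgebraicClosure (ZMod p)),
    y = (b' : (Fin n → AlgebraicClosure (ZMod p)) →ₗ[AlgebraicClosure (ZMod p)]
      (Fin n → AlgebraicClosure (ZMod p))) - 1 := ⟨_, rfl⟩
  have hxa : ∀ w, a' w = w + x w := by
    intro w; rw [hxdef, LinearMap.sub_apply, LinearEquiv.coe_coe, Module.End.one_apply]; abel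
  have hyb : ∀ w, b' w = w + y w := by
    intro w; rw [hydef, LinearMap.sub_apply, LinearEquiv.coe_coe, Module.End.one_apply]; abel
  have hx : x * x = 0 := by rw [hxdef, ha']; exact hΨq ⟨a, haH⟩ ha
  have hy : y * y = 0 := by rw [hydef, hb']; exact hΨq ⟨b, hbH⟩ hb
  have hrange : Ψ.range = Subgroup.closure {a', b'} := by
    rw [ha', hb']
    exact range_eq_closure_pair H a b hab haH hbH Ψ
  have hnp' : ¬ IsPGroup p ↥(Subgroup.closure ({a', b'} : Set ((Fin n → AlgebraicClosure (ZMod p)) ≃ₗ[AlgebraicClosure (ZMod p)] (Fin n → AlgebraicClosure (ZMod p))))) := by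
    intro h
    apply hnp
    rw [← hrange] at h
    exact h.of_equiv (MonoidHom.ofInjective hΨinj).symm
  rcases exists_eigenvector_or_unipotent_algClosed
      (((a' * b' : (Fin n → AlgebraicClosure (ZMod p)) ≃ₗ[AlgebraicClosure (ZMod p)] (Fin n → AlgebraicClosure (ZMod p))) :
        (Fin n → AlgebraicClosure (ZMod p)) →ₗ[AlgebraicClosure (ZMod p)] (Fin n → AlgebraicClosure (ZMod p))))
    with ⟨w, hw, l, hl, hgw⟩ | ⟨N, hN⟩
  swap
  · exfalso
    apply hnp'
    exact isPGroup_closure_of_quad_nilpotent a' b' x y hxa hyb hx hy N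
      (quad_t_nilpotent a' b' x y hxa hyb hx hy N hN)
  obtain ⟨φ, hφ⟩ := exists_sl2_hom_of_eigenvector (p := p) a' b' x y hxa hyb hx hy w hw l hl hgw
  have hmem : ∀ h : ↥H, Ψ h ∈ Subgroup.closure ({a', b'} : Set ((Fin n → AlgebraicClosure (ZMod p)) ≃ₗ[AlgebraicClosure (ZMod p)] (Fin n → AlgebraicClosure (ZMod p)))) := by
    intro h
    rw [← hrange]
    exact ⟨h, rfl⟩
  obtain ⟨θ, hθ⟩ : ∃ θ : ↥H →* Matrix.SpecialLinearGroup (Fin 2) (AlgebraicClosure (ZMod p)),
    θ = φ.comp (Ψ.codRestrict _ hmem) := ⟨_, rfl⟩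
  have ha'mem : a' ∈ Subgroup.closure ({a', b'} : Set ((Fin n → AlgebraicClosure (ZMod p)) ≃ₗ[AlgebraicClosure (ZMod p)] (Fin n → AlgebraicClosure (ZMod p)))) :=
    Subgroup.subset_closure (Set.mem_insert _ _)
  have hb'mem : b' ∈ Subgroup.closure ({a', b'} : Set ((Fin n → AlgebraicClosure (ZMod p)) ≃ₗ[AlgebraicClosure (ZMod p)] (Fin n → AlgebraicClosure (ZMod p)))) :=
    Subgroup.subset_closure (Set.mem_insert_of_mem _ rfl)
  have hθa : θ ⟨a, haH⟩ = φ ⟨a', ha'mem⟩ := by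
    rw [hθ, MonoidHom.comp_apply]
    congr 1
    apply Subtype.ext
    rw [MonoidHom.codRestrict_apply]
    exact ha'.symm
  have hθb : θ ⟨b, hbH⟩ = φ ⟨b', hb'mem⟩ := by
    rw [hθ, MonoidHom.comp_apply]
    congr 1
    apply Subtype.ext
    rw [MonoidHom.codRestrict_apply]
    exact hb'.symm
  have hL1 : θ.range = Subgroup.closure {θ ⟨a, haH⟩, θ ⟨b, hbH⟩} :=
    range_eq_closure_pair H a b hab haH hbH θ
  have hL2 : φ.range = Subgroup.closure {φ ⟨a', ha'mem⟩, φ ⟨b', hb'mem⟩} :=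
    range_eq_closure_pair _ a' b' rfl ha'mem hb'mem φ
  have hL3 : θ.range = φ.range := by rw [hL1, hL2, hθa, hθb]
  haveI : Finite ↥θ.range := Finite.of_surjective θ.rangeRestrict θ.rangeRestrict_surjective
  have hA : (θ ⟨a, haH⟩) ^ p = 1 := by
    rw [hθa, ← map_pow]
    have : (⟨a', ha'mem⟩ : ↥(Subgroup.closure ({a', b'} : Set ((Fin n → AlgebraicClosure (ZMod p)) ≃ₗ[AlgebraicClosure (ZMod p)] (Fin n → AlgebraicClosure (ZMod p)))))) ^ p = 1 := by
      apply Subtype.ext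
      rw [Subgroup.coe_pow, Subgroup.coe_one]
      exact quad_pow_char (p := p) a' x hxa hx
    rw [this, map_one]
  have hB : (θ ⟨b, hbH⟩) ^ p = 1 := by
    rw [hθb, ← map_pow]
    have : (⟨b', hb'mem⟩ : ↥(Subgroup.closure ({a', b'} : Set ((Fin n → AlgebraicClosure (ZMod p)) ≃ₗ[AlgebraicClosure (ZMod p)] (Fin n → AlgebraicClosure (ZMod p)))))) ^ p = 1 := by
      apply Subtype.ext
      rw [Subgroup.coe_pow, Subgroup.coe_one]
      exact quad_pow_char (p := p) b' y hyb hy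
    rw [this, map_one]
  have hnpL : ¬ IsPGroup p ↥θ.range := by rw [hL3]; exact hφ
  intro hT
  haveI : Fact (Nat.Prime 2) := ⟨Nat.prime_two⟩
  haveI hT' : IsMulCommutative ↥(T : Subgroup ↥H) := ⟨⟨fun u v => hT.is_comm.comm u v⟩⟩
  have hsurj : Function.Surjective θ.rangeRestrict := θ.rangeRestrict_surjective
  have h1 := sl2_sylow2_not_comm (p := p) hp θ.range _ _ hL1 hA hB hnpL (T.mapSurjective hsurj)
  apply h1
  rw [Sylow.coe_mapSurjective]
  exact Subgroup.map_isMulCommutative _ _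

end Cfsg.Agent.S0593
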