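import Cfsg.Statements.S0242

set_option autoImplicit false
open Cfsg

namespace Cfsg.Agent.S0242

/-- The kernel of `det` on `GL n F` is equivalent to `SL n F`. -/
theorem card_ker_det_eq_card_sl {n : Type*} [Fintype n] [DecidableEq n] {R : Type*} [CommRing R] :
    Nat.card (Matrix.GeneralLinearGroup.det (n := n) (R := R)).ker
      = Nat.card (Matrix.SpecialLinearGroup n R) := by
  refine Nat.card_congr ?_
  refine
    { toFun := fun g => ⟨g.1.1, by
        have := g.2
        rw [MonoidHom.mem_ker] at this
        have h2 := congrArg Units.val this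
        simpa using h2⟩
      invFun := fun A => ⟨Matrix.SpecialLinearGroup.toGL A, by
        rw [MonoidHom.mem_ker]
        ext
        simp⟩
      left_inv := fun g => by
        ext
        rfl
      right_inv := fun A => by
        ext
        simp }

/-- Order of the special linear group: (q - 1) |SL_n(q)| = prod_{i<n} (q^n - q^i) = |GL_n(q)|, for n at least 1. -/
theorem result {F : Type*} [Field F] [Fintype F] {q : ℕ} (hF : Fintype.card F = q) (n : ℕ) (hn : 1 ≤ n) : (q - 1) * Nat.card (Matrix.SpecialLinearGroup (Fin n) F) = ∏ i : Fin n, (q ^ n - q ^ (i : ℕ)) := by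
  subst hF
  rw [← Matrix.card_GL_field]
  have : Nonempty (Fin n) := ⟨⟨0, hn⟩⟩
  have hsurj := Matrix.GeneralLinearGroup.det_surjective (n := Fin n) (R := F)
  have h1 := Subgroup.card_eq_card_quotient_mul_card_subgroup
    (Matrix.GeneralLinearGroup.det (n := Fin n) (R := F)).ker
  have h2 : Nat.card (Matrix.GeneralLinearGroup (Fin n) F ⧸
      (Matrix.GeneralLinearGroup.det (n := Fin n) (R := F)).ker) = Nat.card Fˣ :=
    Nat.card_congr (QuotientGroup.quotientKerEquivOfSurjective _ hsurj).toEquiv
  rw [h1, h2, card_ker_det_eq_card_sl, Nat.card_units]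
  simp [Nat.card_eq_fintype_card]

end Cfsg.Agent.S0242
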