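import Mathlib
import Cfsg.Statements.S0257
import Cfsg.Agent.S0243

set_option autoImplicit false
open Cfsg

namespace Cfsg.Agent.S0257

open Matrix

abbrev SL3 := Matrix.SpecialLinearGroup (Fin 2) (ZMod 3)

def mA : SL3 := ⟨!![0, -1; 1, 0], by decide⟩
def mB : SL3 := ⟨!![1, 1; 1, -1], by decide⟩

def qf : QuaternionGroup 2 → SL3
  | QuaternionGroup.a i => mA ^ i.val
  | QuaternionGroup.xa i => mB * mA ^ i.val

theorem qf_mul : ∀ x y : QuaternionGroup 2, qf (x * y) = qf x * qf y := by
  decide +kernel

theorem qf_inj : ∀ x y : QuaternionGroup 2, qf x = qf y → x = y := by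
  decide +kernel

theorem qf_one : qf 1 = 1 := by decide +kernel

def qfHom : QuaternionGroup 2 →* SL3 where
  toFun := qf
  map_one' := qf_one
  map_mul' := qf_mul

theorem qf_normal : ∀ g : SL3, ∀ x : QuaternionGroup 2, ∃ y : QuaternionGroup 2, qf y = g * qf x * g⁻¹ := by
  decide +kernel

theorem card_SL3 : Fintype.card SL3 = 24 := by decide +kernel

theorem qfHom_injective : Function.Injective qfHom := fun x y h => qf_inj x y h

instance range_normal : (qfHom.range).Normal := by
  constructor
  rintro _ ⟨x, rfl⟩ g
  obtain ⟨y, hy⟩ := qf_normal g x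
  exact ⟨y, hy⟩

theorem card_range : Nat.card qfHom.range = 8 := by
  rw [← Nat.card_congr (MonoidHom.ofInjective qfHom_injective).toEquiv]
  rw [Nat.card_eq_fintype_card, QuaternionGroup.card]

theorem index_range : qfHom.range.index = 3 := by
  have h := qfHom.range.card_mul_index
  rw [card_range, Nat.card_eq_fintype_card, card_SL3] at h
  omega

/-- the transport isomorphism -/
noncomputable def slEquiv {R S : Type*} [CommRing R] [CommRing S] (e : R ≃+* S) :
    Matrix.SpecialLinearGroup (Fin 2) R ≃* Matrix.SpecialLinearGroup (Fin 2) S where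
  toFun := Matrix.SpecialLinearGroup.map e.toRingHom
  invFun := Matrix.SpecialLinearGroup.map e.symm.toRingHom
  left_inv g := by
    ext i j
    simp
  right_inv g := by
    ext i j
    simp
  map_mul' := map_mul _

theorem result {F : Type*} [Field F] [Fintype F] (hF : Fintype.card F = 3) : (∃ Q : Subgroup (Matrix.SpecialLinearGroup (Fin 2) F), Q.Normal ∧ Q.index = 3 ∧ Nonempty (Q ≃* QuaternionGroup 2)) ∧ Nat.card (Subgroup.center (Matrix.SpecialLinearGroup (Fin 2) F)) = 2 := by
  refine ⟨?_, ?_⟩
  · have e0 : ZMod 3 ≃+* F := ZMod.ringEquivOfPrime F Nat.prime_three hF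
    let e : Matrix.SpecialLinearGroup (Fin 2) F ≃* SL3 := slEquiv e0.symm
    refine ⟨qfHom.range.comap e.toMonoidHom, ?_, ?_, ?_⟩
    · exact Subgroup.Normal.comap range_normal _
    · have h := Subgroup.index_comap_of_surjective qfHom.range (f := e.toMonoidHom) e.surjective
      rw [h]
      exact index_range
    · have e1 : (qfHom.range.comap e.toMonoidHom) ≃* qfHom.range :=
        (MulEquiv.subgroupCongr (by
          ext x
          simp)).trans (e.subgroupMap (qfHom.range.comap e.toMonoidHom)) |>.trans
          (MulEquiv.subgroupCongr (Subgroup.map_comap_eq_self_of_surjective e.surjective _))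
      exact ⟨e1.trans (MonoidHom.ofInjective qfHom_injective).symm⟩
  · have h := Cfsg.Agent.S0243.card_center_sl (F := F) 2 (by norm_num)
    rw [h, hF]
    rfl

end Cfsg.Agent.S0257
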