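import Cfsg.Statements.S2427
import Cfsg.Agent.S0257

set_option autoImplicit false
open Cfsg
open scoped commutatorElement

namespace Cfsg.Agent.S2427

open Matrix Cfsg.Agent.S0257

/-- non-central elements of the quaternion group -/
def NC (x : QuaternionGroup 2) : Prop := x ≠ QuaternionGroup.a 0 ∧ x ≠ QuaternionGroup.a 2

instance : DecidablePred NC := fun x => by unfold NC; infer_instance

theorem d_trans : ∀ x y : QuaternionGroup 2, NC x → NC y → ∃ g : SL3, g * qf x * g⁻¹ = qf y := by
  decide +kernel

theorem d_comm : ∀ g : SL3, (∀ y : QuaternionGroup 2, qf y ≠ g) →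
    ∃ x : SL3, ∃ y : QuaternionGroup 2, NC y ∧ qf y = g * x * g⁻¹ * x⁻¹ := by
  decide +kernel

theorem d_sq : ∀ x : QuaternionGroup 2, NC x → x * x = QuaternionGroup.a 2 := by
  decide +kernel

theorem d_center : ∀ g : SL3, (∀ h : SL3, h * g = g * h) ↔
    (g = qf (QuaternionGroup.a 0) ∨ g = qf (QuaternionGroup.a 2)) := by
  decide +kernel

theorem d_commutator : ∀ x : QuaternionGroup 2, ∃ a b : SL3, a * b * a⁻¹ * b⁻¹ = qf x := by
  decide +kernel

theorem comm_eq : commutator SL3 = qfHom.range := by
  apply le_antisymm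
  · have hcard : Nat.card (SL3 ⧸ qfHom.range) = 3 := by
      rw [← Subgroup.index_eq_card]; exact index_range
    have : Fact (Nat.Prime 3) := ⟨Nat.prime_three⟩
    have : IsCyclic (SL3 ⧸ qfHom.range) := isCyclic_of_prime_card hcard
    rw [← Subgroup.Normal.quotient_commutative_iff_commutator_le]
    exact IsCyclic.isMulCommutative (α := SL3 ⧸ qfHom.range)
  · rintro _ ⟨x, rfl⟩
    obtain ⟨a, b, hab⟩ := d_commutator x
    show qf x ∈ commutator SL3
    rw [← hab, commutator_def]
    exact Subgroup.commutator_mem_commutator (Subgroup.mem_top a) (Subgroup.mem_top b)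

theorem nc_cases (x : QuaternionGroup 2) : NC x ∨ x = QuaternionGroup.a 0 ∨ x = QuaternionGroup.a 2 := by
  unfold NC
  by_cases h0 : x = QuaternionGroup.a 0
  · exact Or.inr (Or.inl h0)
  · by_cases h2 : x = QuaternionGroup.a 2
    · exact Or.inr (Or.inr h2)
    · exact Or.inl ⟨h0, h2⟩

theorem range_le_of_nc (N : Subgroup SL3) [hN : N.Normal] (y : QuaternionGroup 2) (hy : NC y)
    (hyN : qf y ∈ N) : qfHom.range ≤ N := by
  have hall : ∀ y' : QuaternionGroup 2, NC y' → qf y' ∈ N := by
    intro y' hy'
    obtain ⟨g, hg⟩ := d_trans y y' hy hy'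
    rw [← hg]
    exact hN.conj_mem _ hyN g
  have h2 : qf (QuaternionGroup.a 2) ∈ N := by
    rw [← d_sq y hy, qf_mul]
    exact N.mul_mem hyN hyN
  rintro _ ⟨x, rfl⟩
  show qf x ∈ N
  rcases nc_cases x with h | h | h
  · exact hall x h
  · rw [h]
    have : (QuaternionGroup.a 0 : QuaternionGroup 2) = 1 := rfl
    rw [this, qf_one]; exact N.one_mem
  · rw [h]; exact h2

theorem center_eq (g : SL3) : g ∈ Subgroup.center SL3 ↔
    (g = qf (QuaternionGroup.a 0) ∨ g = qf (QuaternionGroup.a 2)) := by
  rw [Subgroup.mem_center_iff, d_center]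

theorem normal_cases (N : Subgroup SL3) (hN : N.Normal) :
    N = ⊥ ∨ N = ⊤ ∨ N = Subgroup.center SL3 ∨ N = qfHom.range := by
  by_cases hNQ : N ≤ qfHom.range
  · by_cases hex : ∃ y : QuaternionGroup 2, NC y ∧ qf y ∈ N
    · obtain ⟨y, hy, hyN⟩ := hex
      exact Or.inr (Or.inr (Or.inr (le_antisymm hNQ (range_le_of_nc N y hy hyN))))
    · push Not at hex
      have hsub : ∀ g ∈ N, g = qf (QuaternionGroup.a 0) ∨ g = qf (QuaternionGroup.a 2) := by
        intro g hg
        obtain ⟨x, rfl⟩ := hNQ hg
        show qf x = _ ∨ qf x = _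
        rcases nc_cases x with h | h | h
        · exact absurd hg (hex x h)
        · exact Or.inl (by rw [h])
        · exact Or.inr (by rw [h])
      by_cases h2 : qf (QuaternionGroup.a 2) ∈ N
      · refine Or.inr (Or.inr (Or.inl ?_))
        ext g
        rw [center_eq]
        constructor
        · exact hsub g
        · rintro (h | h)
          · rw [h]
            have : (QuaternionGroup.a 0 : QuaternionGroup 2) = 1 := rfl
            rw [this, qf_one]; exact N.one_mem
          · rw [h]; exact h2
      · refine Or.inl ?_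
        rw [Subgroup.eq_bot_iff_forall]
        intro g hg
        rcases hsub g hg with h | h
        · rw [h]
          have : (QuaternionGroup.a 0 : QuaternionGroup 2) = 1 := rfl
          rw [this, qf_one]
        · rw [h] at hg; exact absurd hg h2
  · refine Or.inr (Or.inl ?_)
    obtain ⟨g, hgN, hgQ⟩ := SetLike.not_le_iff_exists.mp hNQ
    have hg' : ∀ y : QuaternionGroup 2, qf y ≠ g := by
      intro y hy
      exact hgQ ⟨y, hy⟩
    obtain ⟨x, y, hy, hxy⟩ := d_comm g hg'
    have hyN : qf y ∈ N := by
      rw [hxy, mul_assoc, mul_assoc]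
      refine N.mul_mem hgN ?_
      rw [← mul_assoc]
      exact hN.conj_mem _ (N.inv_mem hgN) x
    have hQN : qfHom.range ≤ N := range_le_of_nc N y hy hyN
    have h1 := Subgroup.relIndex_mul_index hQN
    rw [index_range] at h1
    have h3 : N.index = 1 ∨ N.index = 3 := by
      have : N.index ∣ 3 := Dvd.intro_left _ h1
      exact (Nat.dvd_prime Nat.prime_three).mp this
    rcases h3 with h3 | h3
    · exact Subgroup.index_eq_one.mp h3
    · rw [h3] at h1
      have : qfHom.range.relIndex N = 1 := by omega
      exact absurd (Subgroup.relIndex_eq_one.mp this) hNQ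

/-- The group SL₂ over the field with 3 elements has order 24 and centre of order 2; its commutator subgroup has order 8, is isomorphic to the quaternion group of order 8 and is complemented by every Sylow 3-subgroup (so the group is a semidirect product of a quaternion group of order 8 by a cyclic group of order 3); and its only normal subgroups besides the trivial subgroup and the whole group are the centre and the commutator subgroup. -/
theorem result :
    Nat.card (Matrix.SpecialLinearGroup (Fin 2) (ZMod 3)) = 24 ∧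
    Nat.card (Subgroup.center (Matrix.SpecialLinearGroup (Fin 2) (ZMod 3))) = 2 ∧
    Nat.card (commutator (Matrix.SpecialLinearGroup (Fin 2) (ZMod 3))) = 8 ∧
    Nonempty (commutator (Matrix.SpecialLinearGroup (Fin 2) (ZMod 3)) ≃* QuaternionGroup 2) ∧
    (∀ P : Sylow 3 (Matrix.SpecialLinearGroup (Fin 2) (ZMod 3)),
      Subgroup.IsComplement' (commutator (Matrix.SpecialLinearGroup (Fin 2) (ZMod 3)))
        (P : Subgroup (Matrix.SpecialLinearGroup (Fin 2) (ZMod 3)))) ∧
    ∀ N : Subgroup (Matrix.SpecialLinearGroup (Fin 2) (ZMod 3)), N.Normal →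
      N = ⊥ ∨ N = ⊤ ∨ N = Subgroup.center (Matrix.SpecialLinearGroup (Fin 2) (ZMod 3)) ∨
        N = commutator (Matrix.SpecialLinearGroup (Fin 2) (ZMod 3)) := by
  have hcard : Nat.card SL3 = 24 := by rw [Nat.card_eq_fintype_card]; exact card_SL3
  have hcomm : commutator SL3 = qfHom.range := comm_eq
  refine ⟨hcard, ?_, ?_, ?_, ?_, ?_⟩
  · have h := Cfsg.Agent.S0243.card_center_sl (F := ZMod 3) 2 (by norm_num)
    rw [h, ZMod.card]
    rfl
  · show Nat.card (commutator SL3) = 8
    rw [hcomm]; exact card_range
  · show Nonempty (commutator SL3 ≃* QuaternionGroup 2)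
    rw [hcomm]
    exact ⟨(MonoidHom.ofInjective qfHom_injective).symm⟩
  · intro P
    show Subgroup.IsComplement' (commutator SL3) (P : Subgroup SL3)
    rw [hcomm]
    have : Fact (Nat.Prime 3) := ⟨Nat.prime_three⟩
    have hP : Nat.card (P : Subgroup SL3) = 3 := by
      rw [Sylow.card_eq_multiplicity, hcard]
      have : (24 : ℕ).factorization 3 = 1 := by
        rw [show (24 : ℕ) = 3 ^ 1 * 8 from rfl, Nat.factorization_mul (by norm_num) (by norm_num),
          Finsupp.add_apply, Nat.Prime.factorization_pow Nat.prime_three,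
          Nat.factorization_eq_zero_of_not_dvd (by norm_num)]
        simp
      rw [this]; rfl
    apply Subgroup.isComplement'_of_coprime
    · rw [card_range, hP, hcard]
    · rw [card_range, hP]; decide
  · intro N hN
    show N = ⊥ ∨ N = ⊤ ∨ N = Subgroup.center SL3 ∨ N = commutator SL3
    rw [hcomm]
    exact normal_cases N hN

end Cfsg.Agent.S2427
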