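import Cfsg.Statements.S1303
import Cfsg.Agent.S2427

set_option autoImplicit false
open Cfsg

namespace Cfsg.Agent.S1303

open Matrix Cfsg.Agent.S0257 Cfsg.Agent.S2427

theorem d_invol : ∀ t : SL3, t * t = 1 → t = 1 ∨ t = qf (QuaternionGroup.a 2) := by
  decide +kernel

theorem d_cent : ∀ g : SL3, (∀ x : QuaternionGroup 2, qf x * g = g * qf x) →
    ∃ y : QuaternionGroup 2, qf y = g := by
  decide +kernel

def u3 : SL3 := ⟨!![1, 1; 0, 1], by decide⟩

theorem u3_order : orderOf u3 = 3 := by
  have h1 : u3 ^ 3 = 1 := by decide +kernel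
  have h2 : u3 ≠ 1 := by decide +kernel
  have : Fact (Nat.Prime 3) := ⟨Nat.prime_three⟩
  exact orderOf_eq_prime h1 h2

theorem card_top' : Nat.card (⊤ : Subgroup SL3) = 24 := by
  rw [Subgroup.card_top, Nat.card_eq_fintype_card]; exact card_SL3

theorem card_center' : Nat.card (Subgroup.center SL3) = 2 := by
  have h := Cfsg.Agent.S0243.card_center_sl (F := ZMod 3) 2 (by norm_num)
  rw [h, ZMod.card]
  rfl

theorem core_eq_bot : pPrimeCore 2 SL3 = ⊥ := by
  unfold pPrimeCore
  rw [sSup_eq_bot]
  rintro N ⟨hN, hc⟩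
  rcases normal_cases N hN with h | h | h | h
  · exact h
  · exfalso; rw [h, card_top'] at hc; revert hc; decide
  · exfalso; rw [h, card_center'] at hc; revert hc; decide
  · exfalso; rw [h, card_range] at hc; revert hc; decide

theorem range_isPGroup : IsPGroup 2 qfHom.range := by
  have : Fact (Nat.Prime 2) := ⟨Nat.prime_two⟩
  exact IsPGroup.of_card (n := 3) card_range

theorem range_le_pPrimePCore : qfHom.range ≤ pPrimePCore 2 SL3 := by
  unfold pPrimePCore
  rw [← Subgroup.map_le_iff_le_comap]
  unfold pCore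
  apply le_sSup
  refine ⟨?_, ?_⟩
  · exact Subgroup.Normal.map range_normal _ (QuotientGroup.mk'_surjective _)
  · exact range_isPGroup.map _

theorem constrained_aux (K : Subgroup SL3) (hK : K = ⊤ ∨ K = qfHom.range) (P : Sylow 2 K) :
    Subgroup.centralizer (((P : Subgroup K).map K.subtype : Subgroup SL3) : Set SL3) ≤ K := by
  rcases hK with rfl | rfl
  · exact le_top
  · have hP : (P : Subgroup qfHom.range) = ⊤ := by
      have h1 : IsPGroup 2 (⊤ : Subgroup qfHom.range) :=
        range_isPGroup.of_equiv Subgroup.topEquiv.symm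
      exact (P.is_maximal' h1 le_top).symm
    rw [hP]
    intro g hg
    obtain ⟨y, hy⟩ := d_cent g (fun x => by
      have := hg (qf x) ⟨⟨qf x, ⟨x, rfl⟩⟩, Subgroup.mem_top _, rfl⟩
      exact this)
    exact ⟨y, hy⟩

theorem result : Cfsg.IsPConstrained 2 (Matrix.SpecialLinearGroup (Fin 2) (ZMod 3)) ∧ Cfsg.pPrimeCore 2 (Matrix.SpecialLinearGroup (Fin 2) (ZMod 3)) = ⊥ ∧ (∀ t : Matrix.SpecialLinearGroup (Fin 2) (ZMod 3), orderOf t = 2 → t ∈ Subgroup.center (Matrix.SpecialLinearGroup (Fin 2) (ZMod 3))) ∧ ∃ Q : Subgroup (Matrix.SpecialLinearGroup (Fin 2) (ZMod 3)), Nat.card ↥Q = 3 ∧ ¬ (Q ≤ Cfsg.pPrimeCore 2 (Matrix.SpecialLinearGroup (Fin 2) (ZMod 3))) := by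
  refine ⟨?_, core_eq_bot, ?_, ?_⟩
  · intro P
    apply constrained_aux
    have hn : (pPrimePCore 2 SL3).Normal := by
      unfold pPrimePCore
      have : (pCore 2 (SL3 ⧸ pPrimeCore 2 SL3)).Normal := by
        unfold pCore
        exact Subgroup.sSup_normal _ (fun N hN => hN.1)
      exact Subgroup.Normal.comap this _
    have hle := range_le_pPrimePCore
    rcases normal_cases _ hn with h | h | h | h
    · exfalso
      rw [h] at hle
      have := Subgroup.card_le_of_le hle
      rw [card_range, Subgroup.card_bot] at this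
      omega
    · exact Or.inl h
    · exfalso
      rw [h] at hle
      have := Subgroup.card_le_of_le hle
      rw [card_range, card_center'] at this
      omega
    · exact Or.inr h
  · intro t ht
    show t ∈ Subgroup.center SL3
    rw [center_eq]
    have h1 : t * t = 1 := by
      have := pow_orderOf_eq_one t
      rw [ht, pow_two] at this
      exact this
    rcases d_invol t h1 with h | h
    · rw [h, orderOf_one] at ht; omega
    · exact Or.inr h
  · refine ⟨Subgroup.zpowers u3, ?_, ?_⟩
    · rw [Nat.card_zpowers, u3_order]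
    · intro hle
      have h1 : pPrimeCore 2 SL3 = ⊥ := core_eq_bot
      have h2 : Subgroup.zpowers u3 ≤ ⊥ := by rw [← h1]; exact hle
      have := Subgroup.card_le_of_le h2
      rw [Nat.card_zpowers, u3_order, Subgroup.card_bot] at this
      omega

end Cfsg.Agent.S1303
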