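import Cfsg.Statements.S1446
import Cfsg.Agent.H1.FrobAbE

set_option autoImplicit false
open Cfsg

namespace Cfsg.Agent.S1446

/-- Let X be a finite group with subgroups K, R, M such that: K and R are nontrivial, K ∩ R = 1, R normalizes K, no non-identity element of R centralizes a non-identity element of K, K ⊔ R is solvable of odd order; M is nilpotent and nontrivial, normalized by K and by R, with order coprime to that of K ⊔ R, M ∩ C(K) = 1, and M ∩ C(x) = M ∩ C(R) for all non-identity x ∈ R. Then R has prime order p, #M = #(M ∩ C(R)) ^ p, and if M ∩ C(R) is cyclic then [K, K] centralizes M. -/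
theorem result {X : Type*} [Group X] [Finite X] (K R M : Subgroup X) (hK1 : K ≠ ⊥) (hR1 : R ≠ ⊥) (hKR : K ⊓ R = ⊥)
    (hRK : R ≤ Subgroup.normalizer (K : Set X)) (hfrob : ∀ r ∈ R, r ≠ 1 → K ⊓ Subgroup.centralizer ({r} : Set X) = ⊥)
    (hsolv : Group.IsSolvable ↥(K ⊔ R)) (hodd : Odd (Nat.card ↥(K ⊔ R)))
    (hM1 : M ≠ ⊥) (hMn : Group.IsNilpotent M) (hKM : K ≤ Subgroup.normalizer (M : Set X)) (hRM : R ≤ Subgroup.normalizer (M : Set X))
    (hcop : (Nat.card ↥(K ⊔ R)).Coprime (Nat.card M)) (hCK : M ⊓ Subgroup.centralizer (K : Set X) = ⊥)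
    (hpr : ∀ x ∈ R, x ≠ 1 → M ⊓ Subgroup.centralizer ({x} : Set X) = M ⊓ Subgroup.centralizer (R : Set X)) :
    (Nat.card R).Prime ∧ Nat.card M = Nat.card ↥(M ⊓ Subgroup.centralizer (R : Set X)) ^ Nat.card R ∧
      (IsCyclic ↥(M ⊓ Subgroup.centralizer (R : Set X)) → ⁅K, K⁆ ≤ Subgroup.centralizer (M : Set X)) := by
  classical
  haveI := hMn
  have hsolvM : Group.IsSolvable M := IsNilpotent.to_isSolvable
  have hUn : ∀ e ∈ R, ∀ u ∈ K, e * u * e⁻¹ ∈ K := by
    intro e he u hu
    exact (Subgroup.mem_normalizer_iff.1 (hRK he) u).1 hu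
  have hfpf : ∀ e ∈ R, e ≠ 1 → ∀ u ∈ K, e * u = u * e → u = 1 := by
    intro e he hne u hu hcomm
    have h1 : u ∈ K ⊓ Subgroup.centralizer {e} := by
      refine ⟨hu, ?_⟩
      show u ∈ Subgroup.centralizer {e}
      rw [Subgroup.mem_centralizer_iff]
      intro h hh
      rw [Set.mem_singleton_iff] at hh
      rw [hh]
      exact hcomm
    rw [hfrob e he hne, Subgroup.mem_bot] at h1
    exact h1
  have hLM : K ⊔ R ≤ Subgroup.normalizer (M : Set X) := sup_le hKM hRM
  have hHn : ∀ x ∈ K ⊔ R, ∀ h ∈ M, x * h * x⁻¹ ∈ M := by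
    intro x hx h hh
    exact (Subgroup.mem_normalizer_iff.1 (hLM hx) h).1 hh
  -- the counting formula for a complement E ≤ R
  have hcount : ∀ E : Subgroup X, E ≤ R → E ≠ ⊥ →
      Nat.card M = Nat.card ↥(M ⊓ Subgroup.centralizer (E : Set X)) ^ Nat.card E := by
    intro E hER hE1
    have hle : K ⊔ E ≤ K ⊔ R := sup_le_sup_left hER K
    have hKE : K ⊓ E = ⊥ := by
      rw [eq_bot_iff, ← hKR]
      exact inf_le_inf_left K hER
    have hcop' : Nat.Coprime (Nat.card M) (Nat.card ↥(K ⊔ E)) :=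
      Nat.Coprime.coprime_dvd_right (Subgroup.card_dvd_of_le hle) hcop.symm
    have key := Cfsg.Agent.H1.FrobFix.frobenius_fix_internal K E M hK1 hE1 hKE
      (fun e he => hUn e (hER he)) (fun e he => hfpf e (hER he))
      (fun x hx => hHn x (hle hx)) hsolvM hcop'
    have h1 : M ⊓ Subgroup.centralizer ((K ⊔ E : Subgroup X) : Set X) = ⊥ := by
      rw [eq_bot_iff, ← hCK]
      apply inf_le_inf_left
      apply Subgroup.centralizer_le
      exact (le_sup_left : K ≤ K ⊔ E)
    rw [h1, hCK, Subgroup.card_bot, one_pow, one_mul, mul_one] at key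
    exact key
  have hb := hcount R le_rfl hR1
  -- a subgroup of prime order
  have hRcard : Nat.card R ≠ 1 := by
    intro h
    exact hR1 (Subgroup.card_eq_one.1 h)
  obtain ⟨p, hp, hpdvd⟩ := Nat.exists_prime_and_dvd hRcard
  haveI : Fact p.Prime := ⟨hp⟩
  obtain ⟨x, hx⟩ := exists_prime_orderOf_dvd_card' (G := R) p hpdvd
  have hx' : orderOf (x : X) = p := by rw [Subgroup.orderOf_coe, hx]
  have hx1 : (x : X) ≠ 1 := by
    intro h
    rw [h, orderOf_one] at hx'
    exact hp.one_lt.ne hx'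
  set E : Subgroup X := Subgroup.zpowers (x : X) with hE
  have hER : E ≤ R := by
    rw [hE, Subgroup.zpowers_le]
    exact x.2
  have hE1 : E ≠ ⊥ := by
    intro h
    rw [hE, Subgroup.zpowers_eq_bot] at h
    exact hx1 h
  have hEcard : Nat.card E = p := by rw [hE, Nat.card_zpowers, hx']
  have hEcent : M ⊓ Subgroup.centralizer (E : Set X) = M ⊓ Subgroup.centralizer (R : Set X) := by
    rw [hE, Subgroup.zpowers_eq_closure, Subgroup.centralizer_closure]
    exact hpr x x.2 hx1
  have ha := hcount E hER hE1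
  rw [hEcent, hEcard] at ha
  have hC1 : 1 < Nat.card ↥(M ⊓ Subgroup.centralizer (R : Set X)) := by
    by_contra hle
    have h0 : 0 < Nat.card ↥(M ⊓ Subgroup.centralizer (R : Set X)) := Nat.card_pos
    have h1 : Nat.card ↥(M ⊓ Subgroup.centralizer (R : Set X)) = 1 := by omega
    rw [h1, one_pow] at hb
    exact hM1 (Subgroup.card_eq_one.1 hb)
  have hRp : Nat.card R = p := by
    have : Nat.card ↥(M ⊓ Subgroup.centralizer (R : Set X)) ^ Nat.card R
        = Nat.card ↥(M ⊓ Subgroup.centralizer (R : Set X)) ^ p := by rw [← hb, ← ha]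
    exact Nat.pow_right_injective hC1 this
  refine ⟨hRp ▸ hp, hb, ?_⟩
  intro hcyc
  exact Cfsg.Agent.H1.FrobAb.internal_ab K R M hK1 hR1 hKR hUn hfpf (hRp ▸ hp) hHn hsolvM hcop.symm hcyc

end Cfsg.Agent.S1446
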