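import Cfsg.Statements.S3766
import Mathlib
import Cfsg.Agent.H1.Cores
import Cfsg.Agent.H2.Equivariant
import Cfsg.Agent.H2.ThreeSubgroups
import Cfsg.Agent.S1264
import Cfsg.Agent.Lib.Lead.Subnormal2

set_option autoImplicit false
open Cfsg

namespace Cfsg.Agent.S3766

open scoped commutatorElement Pointwise

section aux

variable {G : Type*} [Group G]

/-- centralizer of the factor `U/V` -/
def centFactor (U V : Subgroup G) [V.Normal] : Subgroup G :=
  (Subgroup.centralizer ((U.map (QuotientGroup.mk' V) : Subgroup (G ⧸ V)) : Set (G ⧸ V))).comap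
    (QuotientGroup.mk' V)

theorem mem_centFactor {U V : Subgroup G} [V.Normal] {x : G} :
    x ∈ centFactor U V ↔ ∀ u ∈ U, u * x * u⁻¹ * x⁻¹ ∈ V := by
  unfold centFactor
  rw [Subgroup.mem_comap, Subgroup.mem_centralizer_iff]
  constructor
  · intro h u hu
    have h1 := h (QuotientGroup.mk' V u) (Subgroup.mem_map_of_mem _ hu)
    rw [← QuotientGroup.eq_one_iff]
    show QuotientGroup.mk' V (u * x * u⁻¹ * x⁻¹) = 1
    rw [map_mul, map_mul, map_mul, map_inv, map_inv, h1]
    group
  · rintro h _ ⟨u, hu, rfl⟩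
    have h1 : QuotientGroup.mk' V (u * x * u⁻¹ * x⁻¹) = 1 :=
      (QuotientGroup.eq_one_iff _).mpr (h u hu)
    rw [map_mul, map_mul, map_mul, map_inv, map_inv] at h1
    have h2 : QuotientGroup.mk' V u * QuotientGroup.mk' V x
        = (QuotientGroup.mk' V u * QuotientGroup.mk' V x * (QuotientGroup.mk' V u)⁻¹ *
          (QuotientGroup.mk' V x)⁻¹) * (QuotientGroup.mk' V x * QuotientGroup.mk' V u) := by
      group
    rw [h2, h1, one_mul]

instance centFactor_normal (U V : Subgroup G) [U.Normal] [V.Normal] :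
    (centFactor U V).Normal := by
  unfold centFactor
  haveI : (U.map (QuotientGroup.mk' V)).Normal :=
    Subgroup.Normal.map inferInstance _ (QuotientGroup.mk'_surjective V)
  infer_instance

theorem iter_normal (F K : Subgroup G) [F.Normal] [K.Normal] :
    ∀ i, (Cfsg.iterCommutator F K i).Normal
  | 0 => (inferInstance : F.Normal)
  | i + 1 => by
    haveI := iter_normal F K i
    show (⁅Cfsg.iterCommutator F K i, K⁆).Normal
    infer_instance

theorem iter_le (F K : Subgroup G) [F.Normal] [K.Normal] :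
    ∀ i, Cfsg.iterCommutator F K i ≤ F
  | 0 => le_rfl
  | i + 1 => by
    haveI := iter_normal F K i
    show ⁅Cfsg.iterCommutator F K i, K⁆ ≤ F
    exact (Subgroup.commutator_le_left _ _).trans (iter_le F K i)

theorem exists_max_normal_lt [Finite G] {M : Subgroup G} (hMn : M.Normal) (hM : M ≠ ⊥) :
    ∃ M' : Subgroup G, M'.Normal ∧ M' < M ∧
      ∀ W : Subgroup G, W.Normal → M' ≤ W → W ≤ M → W = M' ∨ W = M := by
  obtain ⟨M', hM', hmax⟩ := (wellFounded_gt (α := Subgroup G)).has_min
    {W : Subgroup G | W.Normal ∧ W < M} ⟨⊥, inferInstance, bot_lt_iff_ne_bot.mpr hM⟩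
  refine ⟨M', hM'.1, hM'.2, ?_⟩
  intro W hW h1 h2
  by_cases hWM : W = M
  · exact Or.inr hWM
  · left
    by_contra hne
    exact hmax W ⟨hW, lt_of_le_of_ne h2 hWM⟩ (lt_of_le_of_ne h1 (Ne.symm hne))

theorem iter_eq_bot [Finite G] (F K : Subgroup G) [F.Normal] [K.Normal]
    (hK : ∀ U V : Subgroup G, (U.Normal ∧ V.Normal ∧ V < U ∧
      ∀ W : Subgroup G, W.Normal → V ≤ W → W ≤ U → W = V ∨ W = U) → U ≤ F → ⁅U, K⁆ ≤ V) :
    ∃ m, Cfsg.iterCommutator F K m = ⊥ := by
  have key : ∀ i, Cfsg.iterCommutator F K i = ⊥ ∨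
      Nat.card (Cfsg.iterCommutator F K i) + i ≤ Nat.card F := by
    intro i
    induction i with
    | zero =>
      right
      show Nat.card F + 0 ≤ Nat.card F
      omega
    | succ i ih =>
      by_cases hb : Cfsg.iterCommutator F K i = ⊥
      · left
        show ⁅Cfsg.iterCommutator F K i, K⁆ = ⊥
        rw [hb, Subgroup.commutator_bot_left]
      · right
        rcases ih with h | h
        · exact absurd h hb
        obtain ⟨M', hM'n, hM'lt, hM'max⟩ := exists_max_normal_lt (iter_normal F K i) hb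
        have h1 : ⁅Cfsg.iterCommutator F K i, K⁆ ≤ M' :=
          hK _ _ ⟨iter_normal F K i, hM'n, hM'lt, hM'max⟩ (iter_le F K i)
        have h2 : Nat.card ↥(Cfsg.iterCommutator F K (i + 1))
            < Nat.card ↥(Cfsg.iterCommutator F K i) :=
          Cfsg.Agent.Lib.Lead.Subnormal.card_lt_card_of_lt (lt_of_le_of_lt h1 hM'lt)
        omega
  refine ⟨Nat.card F, ?_⟩
  rcases key (Nat.card F) with h | h
  · exact h
  · exfalso
    have h3 := Nat.card_pos (α := ↥(Cfsg.iterCommutator F K (Nat.card F)))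
    omega

theorem comm_iter_lcs (F K : Subgroup G) [F.Normal] [K.Normal] : ∀ j i,
    ⁅Cfsg.iterCommutator F K i, K.lowerCentralSeries j⁆ ≤ Cfsg.iterCommutator F K (i + j + 1)
  | 0, i => le_of_eq rfl
  | j + 1, i => by
    rw [Subgroup.lowerCentralSeries_succ, Subgroup.commutator_comm]
    haveI := iter_normal F K (i + (j + 1) + 1)
    apply Cfsg.Agent.H2.commutator_commutator_le_of_rotate
    · rw [Subgroup.commutator_comm K]
      have h1 := comm_iter_lcs F K j (i + 1)
      have e : i + 1 + j + 1 = i + (j + 1) + 1 := by omega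
      rw [e] at h1
      exact h1
    · have h1 := comm_iter_lcs F K j i
      exact Subgroup.commutator_mono h1 le_rfl

theorem commutator_sup_le (A V F : Subgroup G) [V.Normal] : ⁅A ⊔ V, F⁆ ≤ ⁅A, F⁆ ⊔ V := by
  rw [Subgroup.commutator_le]
  intro x hx f hf
  have hx' : x ∈ ((A ⊔ V : Subgroup G) : Set G) := hx
  rw [Subgroup.mul_normal] at hx'
  obtain ⟨a, ha, v, hv, rfl⟩ := Set.mem_mul.mp hx'
  have e : ⁅a * v, f⁆ = (a * ⁅v, f⁆ * a⁻¹) * ⁅a, f⁆ := by
    simp only [commutatorElement_def]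
    group
  rw [e]
  apply Subgroup.mul_mem
  · apply (le_sup_right : V ≤ ⁅A, F⁆ ⊔ V)
    apply Subgroup.Normal.conj_mem inferInstance
    rw [commutatorElement_def]
    have h1 : v * f * v⁻¹ * f⁻¹ = v * (f * v⁻¹ * f⁻¹) := by group
    rw [h1]
    exact V.mul_mem hv (Subgroup.Normal.conj_mem inferInstance _ (V.inv_mem hv) f)
  · exact (le_sup_left : ⁅A, F⁆ ≤ _) (Subgroup.commutator_mem_commutator ha hf)

theorem fwd (F : Subgroup G) [F.Normal] (hFnil : ∃ c, F.lowerCentralSeries c = ⊥)
    {U V : Subgroup G} (hU : U.Normal) (hV : V.Normal) (hVU : V < U)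
    (hch : ∀ W : Subgroup G, W.Normal → V ≤ W → W ≤ U → W = V ∨ W = U) : ⁅U, F⁆ ≤ V := by
  haveI := hU
  haveI := hV
  rcases hch (⁅U, F⁆ ⊔ V) inferInstance le_sup_right
    (sup_le (Subgroup.commutator_le_left _ _) hVU.le) with h | h
  · rw [← h]
    exact le_sup_left
  · exfalso
    obtain ⟨c, hc⟩ := hFnil
    have key : ∀ k, U ≤ F.lowerCentralSeries k ⊔ V := by
      intro k
      induction k with
      | zero =>
        calc U = ⁅U, F⁆ ⊔ V := h.symm
          _ ≤ F ⊔ V := sup_le_sup_right (Subgroup.commutator_le_right _ _) V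
      | succ k ih =>
        calc U = ⁅U, F⁆ ⊔ V := h.symm
          _ ≤ (⁅F.lowerCentralSeries k, F⁆ ⊔ V) ⊔ V :=
            sup_le_sup_right ((Subgroup.commutator_mono ih le_rfl).trans
              (commutator_sup_le _ _ _)) V
          _ = F.lowerCentralSeries (k + 1) ⊔ V := by
            rw [sup_assoc, sup_idem, Subgroup.lowerCentralSeries_succ]
    have h1 := key c
    rw [hc, bot_sup_eq] at h1
    exact absurd h1 (not_le_of_gt hVU)

end aux

/-- Let G be a finite solvable group and N a normal subgroup of G. Call a pair V < U of normal subgroups of G a chief factor of G when no normal subgroup of G lies strictly between them; an element g centralizes the chief factor U/V when u g u⁻¹ g⁻¹ ∈ V for all u ∈ U. Then an element of G lies in the Fitting subgroup F(N) if and only if it lies in N and centralizes every chief factor of G; and also if and only if it lies in N and centralizes every chief factor U/V of G with U ≤ F(N). -/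
theorem result {G : Type*} [Group G] [Finite G] (hG : Group.IsSolvable G) (N : Subgroup G) [N.Normal] (g : G) : (g ∈ (Cfsg.fittingSubgroup ↥N).map N.subtype ↔ g ∈ N ∧ ∀ U V : Subgroup G, (U.Normal ∧ V.Normal ∧ V < U ∧ ∀ W : Subgroup G, W.Normal → V ≤ W → W ≤ U → W = V ∨ W = U) → ∀ u ∈ U, u * g * u⁻¹ * g⁻¹ ∈ V) ∧ (g ∈ (Cfsg.fittingSubgroup ↥N).map N.subtype ↔ g ∈ N ∧ ∀ U V : Subgroup G, (U.Normal ∧ V.Normal ∧ V < U ∧ ∀ W : Subgroup G, W.Normal → V ≤ W → W ≤ U → W = V ∨ W = U) → U ≤ (Cfsg.fittingSubgroup ↥N).map N.subtype → ∀ u ∈ U, u * g * u⁻¹ * g⁻¹ ∈ V) := by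
  classical
  haveI := hG
  obtain ⟨F, hFdef⟩ : ∃ F, F = (Cfsg.fittingSubgroup ↥N).map N.subtype := ⟨_, rfl⟩
  rw [← hFdef]
  have hFN : F ≤ N := hFdef ▸ Subgroup.map_subtype_le _
  haveI hFn : F.Normal := by
    rw [← Subgroup.normalizer_eq_top_iff, eq_top_iff, hFdef]
    have h1 := Cfsg.Agent.H2.normalizer_le_normalizer_fittingSubgroup N
    rwa [Subgroup.normalizer_eq_top_iff.mpr inferInstance] at h1
  have hFnil : Group.IsNilpotent F := by
    rw [hFdef]
    haveI := Cfsg.Agent.H1.fittingSubgroup_nilpotent (G := ↥N)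
    exact Group.nilpotent_of_mulEquiv
      (Subgroup.equivMapOfInjective _ N.subtype N.subtype_injective)
  have hFlcs := (Subgroup.isNilpotent_iff_lowerCentralSeries F).mp hFnil
  have hA : ∀ x ∈ F, ∀ U V : Subgroup G, (U.Normal ∧ V.Normal ∧ V < U ∧
      ∀ W : Subgroup G, W.Normal → V ≤ W → W ≤ U → W = V ∨ W = U) →
      ∀ u ∈ U, u * x * u⁻¹ * x⁻¹ ∈ V := by
    intro x hx U V hch u hu
    obtain ⟨hU, hV, hVU, hch'⟩ := hch
    exact fwd F hFlcs hU hV hVU hch' (Subgroup.commutator_mem_commutator hu hx)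
  have hCF : ∀ x ∈ N, x ∈ Subgroup.centralizer (F : Set G) → x ∈ F := by
    intro x hxN hxC
    have h1 := Cfsg.Agent.S1264.result (G := ↥N)
      (Subgroup.centralizer (Cfsg.fittingSubgroup ↥N : Set ↥N)) le_rfl Subgroup.le_normalizer
      inferInstance
    have h2 : (⟨x, hxN⟩ : ↥N) ∈ Subgroup.centralizer (Cfsg.fittingSubgroup ↥N : Set ↥N) := by
      rw [Subgroup.mem_centralizer_iff]
      intro y hy
      apply Subtype.ext
      have hyF : (y : G) ∈ F := by
        rw [hFdef]
        exact ⟨y, hy, rfl⟩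
      exact Subgroup.mem_centralizer_iff.mp hxC (y : G) hyF
    obtain ⟨z, -, hz⟩ := h1 h2
    rw [hFdef]
    refine ⟨⟨x, hxN⟩, ?_, rfl⟩
    rw [← hz]
    exact z.2
  have hB : g ∈ N → (∀ U V : Subgroup G, (U.Normal ∧ V.Normal ∧ V < U ∧
      ∀ W : Subgroup G, W.Normal → V ≤ W → W ≤ U → W = V ∨ W = U) → U ≤ F →
      ∀ u ∈ U, u * g * u⁻¹ * g⁻¹ ∈ V) → g ∈ F := by
    intro hgN hcent
    obtain ⟨K, hKdef⟩ : ∃ K, K = Subgroup.normalClosure ({g} : Set G) := ⟨_, rfl⟩
    haveI hKn : K.Normal := hKdef ▸ Subgroup.normalClosure_normal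
    have hgK : g ∈ K := hKdef ▸ Subgroup.subset_normalClosure (Set.mem_singleton g)
    have hKN : K ≤ N :=
      hKdef ▸ Subgroup.normalClosure_le_normal (Set.singleton_subset_iff.mpr hgN)
    have hKc : ∀ U V : Subgroup G, (U.Normal ∧ V.Normal ∧ V < U ∧
        ∀ W : Subgroup G, W.Normal → V ≤ W → W ≤ U → W = V ∨ W = U) → U ≤ F → ⁅U, K⁆ ≤ V := by
      intro U V hch hUF
      haveI := hch.1
      haveI := hch.2.1
      have h1 : K ≤ centFactor U V := by
        rw [hKdef]
        apply Subgroup.normalClosure_le_normal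
        rw [Set.singleton_subset_iff]
        exact mem_centFactor.mpr (hcent U V hch hUF)
      rw [Subgroup.commutator_le]
      intro u hu k hk
      exact mem_centFactor.mp (h1 hk) u hu
    obtain ⟨m, hm⟩ := iter_eq_bot F K hKc
    have h2 : ⁅F, K.lowerCentralSeries m⁆ ≤ Cfsg.iterCommutator F K (0 + m + 1) :=
      comm_iter_lcs F K m 0
    have hm1 : Cfsg.iterCommutator F K (0 + m + 1) = ⊥ := by
      rw [zero_add]
      show ⁅Cfsg.iterCommutator F K m, K⁆ = ⊥
      rw [hm, Subgroup.commutator_bot_left]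
    rw [hm1, le_bot_iff, Subgroup.commutator_comm,
      Subgroup.commutator_eq_bot_iff_le_centralizer] at h2
    have h3 : K.lowerCentralSeries m ≤ N := (Subgroup.lowerCentralSeries_le_self K m).trans hKN
    have h4 : K.lowerCentralSeries m ≤ F := fun x hx => hCF x (h3 hx) (h2 hx)
    have h5 : ∀ j, K.lowerCentralSeries (m + j) ≤ Cfsg.iterCommutator F K j := by
      intro j
      induction j with
      | zero => exact h4
      | succ j ih => exact Subgroup.commutator_mono ih le_rfl
    have h6 : K.lowerCentralSeries (m + m) = ⊥ := le_bot_iff.mp (hm ▸ h5 m)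
    have hKnil : Group.IsNilpotent K :=
      (Subgroup.isNilpotent_iff_lowerCentralSeries K).mpr ⟨_, h6⟩
    have hKF : K ≤ F := by
      have h7 : K.subgroupOf N ≤ Cfsg.fittingSubgroup ↥N := by
        apply Cfsg.Agent.H1.le_fittingSubgroup (hKn.subgroupOf N)
        exact Group.nilpotent_of_mulEquiv (Subgroup.subgroupOfEquivOfLe hKN).symm
      have h8 := Subgroup.map_mono (f := N.subtype) h7
      rwa [Subgroup.map_subgroupOf_eq_of_le hKN, ← hFdef] at h8
    exact hKF hgK
  exact ⟨⟨fun h => ⟨hFN h, fun U V hch => hA g h U V hch⟩,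
    fun h => hB h.1 (fun U V hch _ => h.2 U V hch)⟩,
    ⟨fun h => ⟨hFN h, fun U V hch _ => hA g h U V hch⟩, fun h => hB h.1 h.2⟩⟩

end Cfsg.Agent.S3766
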