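import Mathlib
import Cfsg.Statements.S1445
import Cfsg.Agent.H2.BG37b
import Cfsg.Agent.S3766
import Cfsg.Agent.H2.CNQuotient
import Cfsg.Agent.H2.Equivariant

set_option autoImplicit false
open Cfsg
open scoped commutatorElement

namespace Cfsg.Agent.S1445

/-- Let G be a solvable group of odd order, K a normal subgroup and R a subgroup with G = KR and the orders of K and R coprime. Suppose K ∩ C_G(x) = K ∩ C_G(R) for every non-identity x ∈ R, and F(K) ∩ C_G(R) = 1. Then [K, R] is contained in the Fitting subgroup of K. -/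
theorem result {G : Type*} [Group G] [Finite G] [Group.IsSolvable G] (hodd : Odd (Nat.card G)) (K R : Subgroup G) [K.Normal] (hKR : K ⊔ R = ⊤) (hcop : (Nat.card K).Coprime (Nat.card R))
    (hprime : ∀ x ∈ R, x ≠ 1 → K ⊓ Subgroup.centralizer ({x} : Set G) = (K ⊓ Subgroup.centralizer (R : Set G)))
    (hF : Cfsg.fittingOf K ⊓ Subgroup.centralizer (R : Set G) = ⊥) :
    ⁅K, R⁆ ≤ Cfsg.fittingOf K := by
  classical
  set F := Cfsg.fittingOf K with hFdef
  have hFeq : F = (Cfsg.fittingSubgroup ↥K).map K.subtype := rfl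
  have hFn : F.Normal := by
    rw [← Subgroup.normalizer_eq_top_iff, eq_top_iff, ← Subgroup.normalizer_eq_top K]
    exact Cfsg.Agent.H2.normalizer_le_normalizer_fittingSubgroup K
  have hFK : F ≤ K := by
    rintro _ ⟨k, _, rfl⟩
    exact k.2
  have hFcard : Nat.card F ∣ Nat.card K := Subgroup.card_dvd_of_le hFK
  -- Claim A
  have claimA : ∀ x ∈ R, ∀ r : ℕ, r.Prime → x ^ r = 1 → x ≠ 1 → ∀ g ∈ K, ⁅g, x⁆ ∈ F := by
    intro x hxR r hr hxr hx1 g hg
    haveI : Fact r.Prime := ⟨hr⟩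
    have hord : orderOf x = r := orderOf_eq_prime hxr hx1
    have hrR : r ∣ Nat.card R := by
      rw [← hord]
      have := orderOf_dvd_natCard (⟨x, hxR⟩ : R)
      rwa [Subgroup.orderOf_mk] at this
    have hrK : r.Coprime (Nat.card K) := (Nat.Coprime.coprime_dvd_right hrR hcop).symm
    have hcK : ⁅g, x⁆ ∈ K := by
      rw [commutatorElement_def]
      have h3 : x * g⁻¹ * x⁻¹ ∈ K := ‹K.Normal›.conj_mem g⁻¹ (K.inv_mem hg) x
      have e : g * x * g⁻¹ * x⁻¹ = g * (x * g⁻¹ * x⁻¹) := by group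
      rw [e]
      exact K.mul_mem hg h3
    have h3766 := (Cfsg.Agent.S3766.result (G := G) inferInstance K ⁅g, x⁆).2
    rw [hFeq]
    apply h3766.2
    refine ⟨hcK, ?_⟩
    rintro U V ⟨hUn, hVn, hlt, hmin⟩ hUF u hu
    haveI := hVn
    haveI := hUn
    set π := QuotientGroup.mk' V with hπ
    have hπsurj : Function.Surjective π := QuotientGroup.mk'_surjective V
    have hker : π.ker = V := QuotientGroup.ker_mk' V
    set M := U.map π with hM
    set K' := K.map π with hK'
    haveI hMn : M.Normal := Subgroup.Normal.map hUn π hπsurj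
    haveI hK'n : K'.Normal := Subgroup.Normal.map inferInstance π hπsurj
    have hVU : V ≤ U := hlt.le
    have hUK : U ≤ K := hUF.trans hFK
    have hoddq : Odd (Nat.card (G ⧸ V)) :=
      Odd.of_dvd_nat hodd (Subgroup.card_quotient_dvd_card V)
    have hM1 : M ≠ ⊥ := by
      intro h
      rw [hM, Subgroup.map_eq_bot_iff, hker] at h
      exact hlt.not_ge h
    have hMmin : ∀ B : Subgroup (G ⧸ V), B.Normal → B ≤ M → B = ⊥ ∨ B = M := by
      intro B hBn hBM
      set W := B.comap π with hW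
      have hWn : W.Normal := Subgroup.Normal.comap hBn π
      have hVW : V ≤ W := by
        rw [← hker]
        exact Subgroup.ker_le_comap π B
      have hWU : W ≤ U := by
        have h3 : W ≤ M.comap π := Subgroup.comap_mono hBM
        rw [hM, Subgroup.comap_map_eq, hker, sup_eq_left.2 hVU] at h3
        exact h3
      have hBW : B = W.map π := (Subgroup.map_comap_eq_self_of_surjective hπsurj B).symm
      rcases hmin W hWn hVW hWU with h3 | h3
      · left
        rw [hBW, h3, Subgroup.map_eq_bot_iff, hker]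
      · right
        rw [hBW, h3]
    have hMK : M ≤ K' := Subgroup.map_mono hUK
    have hxr' : (π x) ^ r = 1 := by rw [← map_pow, hxr, map_one]
    have hcop' : r.Coprime (Nat.card K') :=
      Nat.Coprime.coprime_dvd_right (Subgroup.card_map_dvd (H := K) π) hrK
    have hCM : ∀ m ∈ M, π x * m = m * π x → m = 1 := by
      rintro _ ⟨u₀, hu₀, rfl⟩ hcomm
      have hcomm' : Commute (QuotientGroup.mk x : G ⧸ V) (QuotientGroup.mk u₀) := hcomm
      have hcopV : (orderOf x).Coprime (Nat.card V) := by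
        rw [hord]
        exact Nat.Coprime.coprime_dvd_right (Subgroup.card_dvd_of_le (hVU.trans hUK)) hrK
      obtain ⟨d, hd, hcd⟩ := Cfsg.Agent.H2.CNQ.exists_mul_commute V x u₀ hcopV
        (Cfsg.Agent.H2.CNQ.commutator_pow_mem_of_commute_mk V x u₀ hcomm')
      have hudU : u₀ * d ∈ U := U.mul_mem hu₀ (hVU hd)
      have hudK : u₀ * d ∈ K ⊓ Subgroup.centralizer ({x} : Set G) := by
        refine ⟨hUK hudU, ?_⟩
        change _ ∈ Subgroup.centralizer _
        rw [Subgroup.mem_centralizer_singleton_iff]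
        exact hcd.eq
      rw [hprime x hxR hx1] at hudK
      have hud1 : u₀ * d ∈ F ⊓ Subgroup.centralizer (R : Set G) := ⟨hUF hudU, hudK.2⟩
      rw [hF, Subgroup.mem_bot] at hud1
      have hu₀V : u₀ ∈ V := by
        have : u₀ = d⁻¹ := eq_inv_of_mul_eq_one_left hud1
        rw [this]
        exact V.inv_mem hd
      exact (QuotientGroup.eq_one_iff u₀).2 hu₀V
    have hZ := Cfsg.Agent.H2.BG37.Z (Y := G ⧸ V) hoddq M K' hM1 hMmin hMK (π x) r hr hxr' hcop' hCM
      (π g) (Subgroup.mem_map_of_mem π hg)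
    rw [← map_commutatorElement] at hZ
    have h4 := Subgroup.mem_centralizer_iff.1 hZ (π u) (Subgroup.mem_map_of_mem π hu)
    rw [← QuotientGroup.eq_one_iff]
    show π (u * ⁅g, x⁆ * u⁻¹ * ⁅g, x⁆⁻¹) = 1
    rw [map_mul, map_mul, map_mul, map_inv, map_inv, h4]
    group
  -- Claim B
  rw [Subgroup.commutator_le]
  intro g hg y hy
  by_cases hRbot : R = ⊥
  · rw [hRbot, Subgroup.mem_bot] at hy
    rw [hy, commutatorElement_one_right]
    exact F.one_mem
  have hRcard : Nat.card R ≠ 1 := fun h => hRbot (Subgroup.card_eq_one.1 h)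
  obtain ⟨r, hr, hrR⟩ := Nat.exists_prime_and_dvd hRcard
  haveI : Fact r.Prime := ⟨hr⟩
  obtain ⟨⟨x, hxR⟩, hxord⟩ := exists_prime_orderOf_dvd_card' (G := R) r hrR
  rw [Subgroup.orderOf_mk] at hxord
  have hx1 : x ≠ 1 := by
    intro h
    rw [h, orderOf_one] at hxord
    exact hr.one_lt.ne hxord
  have hxr : x ^ r = 1 := by rw [← hxord]; exact pow_orderOf_eq_one x
  have hall : ∀ i : ℤ, ⁅x ^ i, g⁆ ∈ F := by
    intro i
    by_cases hxi : x ^ i = 1
    · rw [hxi, commutatorElement_one_left]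
      exact F.one_mem
    · have h3 := claimA (x ^ i) (R.zpow_mem hxR i) r hr
        (by rw [← zpow_natCast, ← zpow_mul, mul_comm, zpow_mul, zpow_natCast, hxr, one_zpow]) hxi g hg
      rw [← commutatorElement_inv]
      exact F.inv_mem h3
  have hcopF : (orderOf x).Coprime (Nat.card F) := by
    rw [hxord]
    exact (Nat.Coprime.coprime_dvd_right hrR (Nat.Coprime.coprime_dvd_left hFcard hcop)).symm
  obtain ⟨d, hd, hcd⟩ := Cfsg.Agent.H2.CNQ.exists_mul_commute F x g hcopF hall
  have hgd : g * d ∈ K ⊓ Subgroup.centralizer ({x} : Set G) := by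
    refine ⟨K.mul_mem hg (hFK hd), ?_⟩
    change _ ∈ Subgroup.centralizer _
    rw [Subgroup.mem_centralizer_singleton_iff]
    exact hcd.eq
  rw [hprime x hxR hx1] at hgd
  have hgdy : y * (g * d) = (g * d) * y := Subgroup.mem_centralizer_iff.1 hgd.2 y hy
  -- ⁅g, y⁆ = (g d) ⁅d⁻¹, y⁆ (g d)⁻¹
  have h5 : ⁅d⁻¹, y⁆ ∈ F := by
    rw [commutatorElement_def]
    have h6 : y * d * y⁻¹ ∈ F := hFn.conj_mem d hd y
    have e : d⁻¹ * y * d⁻¹⁻¹ * y⁻¹ = d⁻¹ * (y * d * y⁻¹) := by group
    rw [e]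
    exact F.mul_mem (F.inv_mem hd) h6
  have h6 : ⁅g, y⁆ = (g * d) * ⁅d⁻¹, y⁆ * (g * d)⁻¹ := by
    have hinv : (g * d)⁻¹ * y⁻¹ = y⁻¹ * (g * d)⁻¹ := by
      have hc : Commute y (g * d) := hgdy
      exact (hc.inv_inv).symm.eq
    rw [commutatorElement_def, commutatorElement_def]
    calc g * y * g⁻¹ * y⁻¹ = (g * d) * d⁻¹ * y * d * ((g * d)⁻¹ * y⁻¹) := by group
      _ = (g * d) * d⁻¹ * y * d * (y⁻¹ * (g * d)⁻¹) := by rw [hinv]
      _ = (g * d) * (d⁻¹ * y * d⁻¹⁻¹ * y⁻¹) * (g * d)⁻¹ := by group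
  rw [h6]
  exact hFn.conj_mem _ h5 _

end Cfsg.Agent.S1445
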