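import Cfsg.Statements.S1444
import Cfsg.Agent.Lib.Helper4.BGZK
import Cfsg.Agent.Lib.Helper8.BGZCaseA

set_option autoImplicit false
open Cfsg

namespace Cfsg.Agent.S1444

universe u

/-- the minimal situation of Bender–Glauberman Theorem 3.6 is impossible: Case A (helper8) and
Case B (helper4) -/
theorem core_holds (p : ℕ) [Fact p.Prime] : Cfsg.Agent.Lib.Helper8.BGZ.Core.{u} p := by
  intro G _ _ _ _ hodd H R R₀ c hHR hQ
  by_contra hnot
  by_cases hA : (Cfsg.pCore p ↥H).map H.subtype ⊓ Subgroup.centralizer (R₀ : Set G) = ⊥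
  · exact hnot (Cfsg.Agent.Lib.Helper8.BGZ.caseA hodd c hHR hQ hA)
  · have hcop : (Nat.card H).Coprime (Nat.card R₀) :=
      Nat.Coprime.coprime_dvd_right (Subgroup.card_dvd_of_le c.le) c.coprime
    have ctx : Cfsg.Agent.Lib.Helper4.BGZ.Ctx p H R₀ :=
      { normal := c.normal
        cop := hcop
        prime := c.prime
        zgroup := c.zgroup
        hQ := hQ
        hnot := hnot }
    exact ctx.caseB_false hodd hA

/-- Let G be a solvable group of odd order, H a normal subgroup of order coprime to its index, R a complement to H in G, and R₀ ≤ R a subgroup of prime order such that every Sylow subgroup of H ∩ C_G(R₀) is cyclic. Then for every prime p the commutator subgroup [H, R] satisfies [H,R] = O_{p',p,p'}([H,R]). -/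
theorem result {G : Type*} [Group G] [Finite G] [Group.IsSolvable G] (hodd : Odd (Nat.card G)) (H R R₀ : Subgroup G) [H.Normal] (hHall : (Nat.card H).Coprime H.index)
    (hR : Subgroup.IsComplement' H R) (hR₀ : R₀ ≤ R) (hR₀p : (Nat.card R₀).Prime) (hZ : IsZGroup ↥(H ⊓ Subgroup.centralizer (R₀ : Set G)))
    (p : ℕ) [Fact p.Prime] :
    Cfsg.PLengthLE p 1 ↥⁅H, R⁆ :=
  Cfsg.Agent.Lib.Helper8.BGZ.s1444_of_core (core_holds p) hodd H R R₀ hHall hR hR₀ hR₀p hZ

end Cfsg.Agent.S1444
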