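import Cfsg.Statements.S0033
import Mathlib
import Cfsg.Prelude.Def_Transfer
import Cfsg.Prelude.Def_PLocal
import Cfsg.Agent.S0659
import Cfsg.Agent.Lib.Helper4.GTZJ
import Cfsg.Agent.Lib.Helper4.Nilpotent
import Cfsg.Agent.Lib.Lead.NormalPComplement
import Cfsg.Agent.Lib.Lead.Conj
import Cfsg.Agent.H2.ConjMap
import Cfsg.Agent.S0035
import Cfsg.Prelude.Def_Solvable
import Cfsg.Agent.H1.Splitting

set_option autoImplicit false
open Cfsg

namespace Cfsg.Agent.S0033

set_option autoImplicit false
open H1
open scoped Pointwise

/-- Thompson's Theorem on fixed-point-free automorphisms: a finite group with an automorphism of prime order fixing only the identity is nilpotent. -/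
theorem result {G : Type*} [Group G] [Finite G] (φ : G ≃* G)
    (hφ : MonoidHom.FixedPointFree (φ : G →* G)) (p : ℕ) (hp : p.Prime) (hord : orderOf φ = p) :
    Group.IsNilpotent G := by
  have h1 : (φ : MulAut G) ^ p = 1 := by rw [← hord]; exact pow_orderOf_eq_one φ
  exact splits_isNilpotent hp (φ : MulAut G).toMonoidHom
    (splits_of_fixedPointFree (φ : MulAut G) h1 (fun x hx => hφ x hx))

end Cfsg.Agent.S0033
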