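import Cfsg.Statements.S4209
import Cfsg.Agent.Lib.Lead.HallPet
import Cfsg.Agent.H2.RegularLevel

set_option autoImplicit false
open Cfsg

namespace Cfsg.Agent.S4209

open Cfsg.Agent.Lib.Lead.HallPet Cfsg.Agent.H2
open scoped commutatorElement

universe u

theorem lcs_subtype_eq_bot {G : Type*} [Group G] (K : Subgroup G) (n : ℕ)
    (h : (⊤ : Subgroup G).lowerCentralSeries n = ⊥) :
    (⊤ : Subgroup K).lowerCentralSeries n = ⊥ := by
  have h1 : ((⊤ : Subgroup K).lowerCentralSeries n).map K.subtype = K.lowerCentralSeries n :=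
    Subgroup.top_subtype_lowerCentralSeries K n
  have h2 : K.lowerCentralSeries n ≤ (⊤ : Subgroup G).lowerCentralSeries n :=
    Subgroup.lowerCentralSeries_mono n le_top
  rw [h, le_bot_iff] at h2
  rw [h2] at h1
  exact (Subgroup.map_eq_bot_iff_of_injective _ K.subtype_injective).mp h1

/-- regularity at level one, from the weak Hall–Petrescu formula -/
theorem regAt_one {G : Type*} [Group G] {p : ℕ} (hp : p.Prime)
    (hcl : (⊤ : Subgroup G).lowerCentralSeries (p - 1) = ⊥) (a b : G) :
    ∃ c ∈ Cfsg.powerClosure p 1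
        ⁅Subgroup.closure ({a, b} : Set G), Subgroup.closure ({a, b} : Set G)⁆,
      (a * b) ^ p = a ^ p * b ^ p * c := by
  obtain ⟨K, hK⟩ : ∃ K : Subgroup G, K = Subgroup.closure ({a, b} : Set G) := ⟨_, rfl⟩
  rw [← hK]
  have haK : a ∈ K := by rw [hK]; exact Subgroup.subset_closure (Set.mem_insert _ _)
  have hbK : b ∈ K := by
    rw [hK]; exact Subgroup.subset_closure (Set.mem_insert_of_mem _ rfl)
  obtain ⟨c, hc, heq⟩ := weak_hall_petrescu hp (lcs_subtype_eq_bot K _ hcl)
    (⟨a, haK⟩ : K) ⟨b, hbK⟩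
  refine ⟨(c : G), ?_, ?_⟩
  · have h1 : (c : G) ∈ (Subgroup.closure
        {z : K | ∃ u ∈ _root_.commutator K, z = u ^ p}).map K.subtype :=
      Subgroup.mem_map_of_mem _ hc
    rw [MonoidHom.map_closure] at h1
    unfold Cfsg.powerClosure
    refine Subgroup.closure_mono ?_ h1
    rintro _ ⟨z, ⟨u, hu, rfl⟩, rfl⟩
    refine ⟨(u : G), ?_, by simp⟩
    have h2 : (_root_.commutator K).map K.subtype = ⁅K, K⁆ := by
      rw [commutator_def, Subgroup.map_commutator, ← MonoidHom.range_eq_map,
        Subgroup.range_subtype]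
    rw [← h2]
    exact Subgroup.mem_map_of_mem _ hu
  · have := congrArg (fun z : K => (z : G)) heq
    simpa using this

theorem regular_of_class_lt (p : ℕ) [Fact p.Prime] : ∀ N : ℕ, ∀ (G : Type u) [Group G] [Finite G],
    Nat.card G ≤ N → IsPGroup p G → (⊤ : Subgroup G).lowerCentralSeries (p - 1) = ⊥ →
    Cfsg.IsRegularPGroup p G := by
  intro N
  induction N with
  | zero =>
    intro G _ _ hc
    exfalso
    have := Nat.card_pos (α := G)
    omega
  | succ N ih =>
    intro G _ _ hcard hG hcl
    have hp : p.Prime := Fact.out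
    apply (RegL.regular_iff_wCond hG).mpr
    intro a b
    rcases subsingleton_or_nontrivial G with hsub | hnt
    · exact ⟨1, one_mem _, Subsingleton.elim _ _⟩
    obtain ⟨c, hc, heq⟩ := regAt_one hp hcl a b
    obtain ⟨K, hK⟩ : ∃ K : Subgroup G, K = Subgroup.closure ({a, b} : Set G) := ⟨_, rfl⟩
    rw [← hK] at hc ⊢
    obtain ⟨D, hD⟩ : ∃ D : Subgroup G, D = ⁅K, K⁆ := ⟨_, rfl⟩
    rw [← hD] at hc ⊢
    have hDcard : Nat.card D ≤ N := by
      have h4 : D ≤ _root_.commutator G := by
        rw [hD, commutator_def]; exact Subgroup.commutator_mono le_top le_top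
      have : Group.IsNilpotent G := hG.isNilpotent
      have h5 : _root_.commutator G < ⊤ := Group.IsSolvable.commutator_lt_top_of_nontrivial G
      have h6 : Nat.card (_root_.commutator G) < Nat.card G := by
        by_contra h7
        exact h5.ne (Subgroup.eq_top_of_le_card _ (not_lt.mp h7))
      have h8 := Subgroup.card_le_of_le h4
      omega
    have hregD : Cfsg.IsRegularPGroup p D :=
      ih D hDcard (hG.to_subgroup D) (lcs_subtype_eq_bot D _ hcl)
    have h1 : Cfsg.powerClosure p 1 D =
        (Cfsg.powerClosure p 1 (⊤ : Subgroup D)).map D.subtype := by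
      rw [RegP.map_powerClosure, ← MonoidHom.range_eq_map, Subgroup.range_subtype]
    rw [h1] at hc
    obtain ⟨c', hc', rfl⟩ := hc
    obtain ⟨t, -, ht⟩ := (RegP.mem_powerClosure_iff hregD 1 ⊤ c').mp hc'
    refine ⟨(t : G), t.2, ?_⟩
    rw [heq, ht]
    simp

/-- A finite `p`-group of nilpotency class less than `p` (the term of index `p - 1` of the lower central series of the whole group, indexed from `0`, is trivial) is a regular `p`-group. -/
theorem result {G : Type*} [Group G] [Finite G] {p : ℕ} [Fact p.Prime] (hG : IsPGroup p G) (hcl : (⊤ : Subgroup G).lowerCentralSeries (p - 1) = ⊥) : Cfsg.IsRegularPGroup p G := by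
  exact regular_of_class_lt p (Nat.card G) G le_rfl hG hcl

end Cfsg.Agent.S4209
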