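import Cfsg.Statements.S0638
import Mathlib
import Cfsg.Agent.H1.CyclicMaximal
import Cfsg.Agent.H1.CyclicSub
import Cfsg.Agent.H2.UniqueOrderP
import Cfsg.Prelude.Def_OddOrderLocal
import Cfsg.Prelude.Def_PLocal

set_option autoImplicit false
open Cfsg

namespace Cfsg.Agent.S0638

set_option autoImplicit false
open scoped Pointwise commutatorElement
open H1

/-- For odd p, in a non-cyclic metacyclic p-group the elements of order dividing p generate an elementary abelian subgroup of order p². -/
theorem result {R : Type*} [Group R] [Finite R] {p : ℕ} [Fact p.Prime] (hp : p ≠ 2) (hR : IsPGroup p R) (hm : Cfsg.IsMetacyclic R) (hnc : ¬ IsCyclic R) : Cfsg.IsElementaryAbelian p (Cfsg.omegaOne p (⊤ : Subgroup R)) ∧ Nat.card ↥(Cfsg.omegaOne p (⊤ : Subgroup R)) = p ^ 2 := by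
  classical
  have hpp : p.Prime := Fact.out
  obtain ⟨N, hNn, hNc, hQc⟩ := hm
  letI : CommGroup (R ⧸ N) := IsCyclic.commGroup
  set Ω : Subgroup (R ⧸ N) := (powMonoidHom p : (R ⧸ N) →* (R ⧸ N)).ker with hΩ
  set K : Subgroup R := Ω.comap (QuotientGroup.mk' N) with hK
  have hmemK : ∀ x : R, x ∈ K ↔ x ^ p ∈ N := by
    intro x
    rw [hK, Subgroup.mem_comap, hΩ, MonoidHom.mem_ker, powMonoidHom_apply, QuotientGroup.mk'_apply,
      ← QuotientGroup.mk_pow, QuotientGroup.eq_one_iff]
  have hNK : N ≤ K := by
    intro x hx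
    rw [hmemK]
    exact N.pow_mem hx p
  have hpK : ∀ x : R, x ^ p = 1 → x ∈ K := by
    intro x hx
    rw [hmemK, hx]
    exact N.one_mem
  -- card Ω ≤ p
  have hΩle : Nat.card Ω ≤ p := by
    have := Fintype.ofFinite (R ⧸ N)
    have hS := IsCyclic.card_pow_eq_one_le (α := R ⧸ N) hpp.pos
    have h1 : Nat.card Ω = ((Ω : Set (R ⧸ N))).ncard := rfl
    have h2 : (Ω : Set (R ⧸ N)) = {x | x ^ p = 1} := by
      ext x
      rw [hΩ]
      simp [MonoidHom.mem_ker]
    rw [h1, h2, Set.ncard_eq_toFinset_card', Set.toFinset_ofPred]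
    exact hS
  have hΩp : Nat.card Ω = 1 ∨ Nat.card Ω = p := by
    have hQ : IsPGroup p (R ⧸ N) := hR.to_quotient N
    have hΩ' : IsPGroup p Ω := hQ.to_subgroup Ω
    obtain ⟨k, hk⟩ := IsPGroup.iff_card.mp hΩ'
    rw [hk] at hΩle ⊢
    rcases k with _ | _ | k
    · left; simp
    · right; simp
    · exfalso
      have : p ^ 2 ≤ p ^ (k + 1 + 1) := Nat.pow_le_pow_right hpp.pos (by omega)
      have h3 : p < p ^ 2 := by
        have := hpp.one_lt
        nlinarith
      omega
  -- card K = card N * card Ω
  have hcardK : Nat.card K = Nat.card N * Nat.card Ω := by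
    have h1 : K.index = Ω.index := by
      rw [hK]
      exact Subgroup.index_comap_of_surjective _ (QuotientGroup.mk'_surjective N)
    have h2 := Subgroup.card_mul_index K
    have h3 := Subgroup.card_mul_index Ω
    have h4 := Subgroup.card_mul_index N
    rw [Subgroup.index_eq_card] at h4
    rw [h1, ← h4, ← h3, ← mul_assoc] at h2
    have hpos : 0 < Ω.index := Nat.pos_of_ne_zero Subgroup.index_ne_zero_of_finite
    exact Nat.eq_of_mul_eq_mul_right hpos h2
  have hidx : (N.subgroupOf K).index = Nat.card Ω := by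
    have h1 := Subgroup.card_mul_index (N.subgroupOf K)
    have h2 : Nat.card (N.subgroupOf K) = Nat.card N :=
      Nat.card_congr (Subgroup.subgroupOfEquivOfLe hNK).toEquiv
    rw [h2, hcardK] at h1
    exact Nat.eq_of_mul_eq_mul_left Nat.card_pos h1
  have hNKc : IsCyclic (N.subgroupOf K) :=
    isCyclic_of_surjective (Subgroup.subgroupOfEquivOfLe hNK).symm.toMonoidHom
      (Subgroup.subgroupOfEquivOfLe hNK).symm.surjective
  by_cases hKc : IsCyclic K
  · exfalso
    apply hnc
    have huniq : ∀ A B : Subgroup R, Nat.card A = p → Nat.card B = p → A = B := by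
      intro A B hA hB
      have hAK : A ≤ K := by
        intro x hx
        apply hpK
        have := pow_card_eq_one' (G := A) (x := ⟨x, hx⟩)
        rw [hA] at this
        exact congrArg Subtype.val this
      have hBK : B ≤ K := by
        intro x hx
        apply hpK
        have := pow_card_eq_one' (G := B) (x := ⟨x, hx⟩)
        rw [hB] at this
        exact congrArg Subtype.val this
      have h1 : A.subgroupOf K = B.subgroupOf K := by
        apply eq_of_card_eq_of_isCyclic
        rw [Nat.card_congr (Subgroup.subgroupOfEquivOfLe hAK).toEquiv,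
          Nat.card_congr (Subgroup.subgroupOfEquivOfLe hBK).toEquiv, hA, hB]
      have h2 := congrArg (Subgroup.map K.subtype) h1
      rwa [Subgroup.map_subgroupOf_eq_of_le hAK, Subgroup.map_subgroupOf_eq_of_le hBK] at h2
    rcases H2.UOP.main p hR huniq with h | ⟨h2, -⟩
    · exact h
    · exact absurd h2 hp
  · have hidxp : (N.subgroupOf K).index = p := by
      rcases hΩp with h | h
      · exfalso
        apply hKc
        rw [h] at hidx
        have h1 : N.subgroupOf K = ⊤ := Subgroup.index_eq_one.mp hidx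
        have h2 : K ≤ N := Subgroup.subgroupOf_eq_top.mp h1
        have h3 : K = N := le_antisymm h2 hNK
        rw [h3]; exact hNc
      · rw [hidx, h]
    have hKp : IsPGroup p K := hR.to_subgroup K
    obtain ⟨hE1, hE2⟩ := omega_one_of_cyclic_index_p hp hKp hKc (N.subgroupOf K) hNKc hidxp
    have hmap : Cfsg.omegaOne p (⊤ : Subgroup R) = (Subgroup.closure {x : K | x ^ p = 1}).map K.subtype := by
      rw [MonoidHom.map_closure]
      unfold Cfsg.omegaOne
      congr 1
      ext x
      constructor
      · rintro ⟨-, hx⟩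
        refine ⟨⟨x, hpK x hx⟩, ?_, rfl⟩
        show (⟨x, hpK x hx⟩ : K) ^ p = 1
        apply Subtype.ext
        simpa using hx
      · rintro ⟨y, hy, rfl⟩
        refine ⟨Subgroup.mem_top _, ?_⟩
        have := congrArg Subtype.val hy
        simpa using this
    rw [hmap]
    refine ⟨⟨?_, ?_⟩, ?_⟩
    · haveI := hE1.1
      exact Subgroup.map_isMulCommutative _ _
    · rintro e ⟨y, hy, rfl⟩
      have := hE1.2 y hy
      have h2 := congrArg Subtype.val this
      simpa using h2
    · rw [← hE2]
      exact (Nat.card_congr ((Subgroup.closure {x : K | x ^ p = 1}).equivMapOfInjective K.subtype K.subtype_injective).toEquiv).symm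

end Cfsg.Agent.S0638
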