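import Mathlib
import Cfsg.Statements.S1448
import Cfsg.Agent.H2.RankTwoCommC
import Cfsg.Agent.Lib.Helper4.Rank2Aut2
import Cfsg.Agent.Lib.Helper4.MetaActAmb
import Cfsg.Agent.H1.MetaOmega
import Cfsg.Agent.H1.RankTwoOmega

set_option autoImplicit false
open Cfsg

namespace Cfsg.Agent.S1448

/-- Let G be a finite group, p an odd prime, R a nontrivial p-subgroup with no elementary abelian subgroup of order p ^ 3, and A a subgroup of odd order coprime to p normalizing R with [R, A] = R. Then 3 < p, and either R is abelian or R is generated by two elementwise-commuting subgroups R₁, R₂ with R₁ non-abelian of order p ^ 3 and exponent p, R₂ cyclic, and the elements of R₂ of order dividing p generating exactly [R₁, R₁]. -/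
theorem result {G : Type*} [Group G] [Finite G] (p : ℕ) [Fact p.Prime] (hp : p ≠ 2) (R A : Subgroup G) (hR : IsPGroup p R) (hR1 : R ≠ ⊥) (hr : Cfsg.PRankLE p 2 R)
    (hA : (A ≤ Subgroup.normalizer (R : Set G))) (hcop : (Nat.card A).Coprime p) (hAodd : Odd (Nat.card A)) (hRA : ⁅R, A⁆ = R) :
    3 < p ∧ (IsMulCommutative R ∨ ∃ R₁ R₂ : Subgroup G, R₁ ⊔ R₂ = R ∧ (∀ a ∈ R₁, ∀ b ∈ R₂, a * b = b * a) ∧
        ¬ IsMulCommutative R₁ ∧ Nat.card R₁ = p ^ 3 ∧ Monoid.exponent R₁ = p ∧ IsCyclic R₂ ∧
        Subgroup.closure {x : G | x ∈ R₂ ∧ x ^ p = 1} = ⁅R₁, R₁⁆) := by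
  classical
  have hpp : p.Prime := Fact.out
  have hRp : IsPGroup p ↥R := hR
  -- the conjugation action
  set c := Cfsg.Agent.Lib.Helper4.Rank2Aut.conjHom R A hA with hc
  have hcapp : ∀ (a : ↥A) (r : ↥R), ((c a r : ↥R) : G) = a.1 * r.1 * a.1⁻¹ :=
    fun a r => Cfsg.Agent.Lib.Helper4.Rank2Aut.conjHom_apply R A hA a r
  -- Step A: 3 < p
  have hp3 : 3 < p := by
    by_contra hle
    have hp3' : p = 3 := by
      have h2 := hpp.two_le
      have h3 : p ≤ 3 := by omega
      interval_cases p
      · exact absurd rfl hp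
      · rfl
    have htriv : ∀ a : ↥A, c a = 1 := by
      intro a
      by_contra hne
      set σ := c a with hσ
      have hn1 : orderOf σ ≠ 1 := by rwa [Ne, orderOf_eq_one_iff]
      have hnpos : 0 < orderOf σ := orderOf_pos σ
      have hdvdA : orderOf σ ∣ Nat.card A := (orderOf_map_dvd c a).trans (orderOf_dvd_natCard a)
      set q := (orderOf σ).minFac with hq
      have hqp : q.Prime := Nat.minFac_prime hn1
      have hqn : q ∣ orderOf σ := Nat.minFac_dvd _
      have hqA : q ∣ Nat.card A := hqn.trans hdvdA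
      have hq2 : q ≠ 2 := by
        intro h
        rw [h] at hqA
        exact (Nat.not_even_iff_odd.mpr hAodd) (even_iff_two_dvd.mpr hqA)
      have hq3 : q ≠ 3 := by
        intro h
        rw [h] at hqA
        rw [hp3'] at hcop
        have := Nat.Coprime.eq_one_of_dvd hcop.symm hqA
        omega
      have hq5 : p < q := by
        have := hqp.two_le
        rw [hp3']
        by_contra hlt
        have : q ≤ 3 := by omega
        interval_cases q
        · exact hq2 rfl
        · exact hq3 rfl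
      obtain ⟨d, hd⟩ := hqn
      have hdpos : 0 < d := by
        rcases Nat.eq_zero_or_pos d with h | h
        · rw [h, mul_zero] at hd; omega
        · exact h
      have hτq : (σ ^ d) ^ q = 1 := by
        rw [← pow_mul, mul_comm, ← hd, pow_orderOf_eq_one]
      have hτ1 : σ ^ d ≠ 1 := by
        apply pow_ne_one_of_lt_orderOf hdpos.ne'
        rw [hd]
        have := hqp.one_lt
        nlinarith
      exact hτ1 (Cfsg.Agent.Lib.Helper4.Rank2Aut2.eq_one_of_prime_gt hp hRp hr (σ ^ d) hqp hq5 hτq)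
    apply hR1
    rw [← hRA, Subgroup.commutator_eq_bot_iff_le_centralizer]
    intro r hr'
    rw [Subgroup.mem_centralizer_iff]
    intro a ha
    have h1 := htriv ⟨a, ha⟩
    have h2 := congrArg (fun σ : MulAut ↥R => ((σ ⟨r, hr'⟩ : ↥R) : G)) h1
    simp only [hcapp, MulAut.one_apply] at h2
    -- a * r * a⁻¹ = r
    calc a * r = a * r * a⁻¹ * a := by group
      _ = r * a := by rw [h2]
  refine ⟨hp3, ?_⟩
  -- Step B: the subgroup E = Ω₁(R)
  have hrk' : ∀ E' : Subgroup ↥R, Cfsg.IsElementaryAbelian p E' → Nat.card E' ≤ p ^ 2 :=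
    fun E' h => hr E' h.1 h.2
  have hmul := Cfsg.Agent.H1.RankTwoOmega.mul_pow_eq_one p hp3 (Nat.card ↥R) ↥R le_rfl hRp hrk'
  let E : Subgroup ↥R :=
    { carrier := {x | x ^ p = 1}
      mul_mem' := fun {x y} hx hy => hmul x y hx hy
      one_mem' := one_pow p
      inv_mem' := fun {x} hx => by
        show x⁻¹ ^ p = 1
        rw [inv_pow, show x ^ p = 1 from hx, inv_one] }
  have hE : ∀ x, x ∈ E ↔ x ^ p = 1 := fun x => Iff.rfl
  have hEp : IsPGroup p ↥E := hRp.to_subgroup E
  have hEle : Nat.card ↥E ≤ p ^ 3 := by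
    apply Cfsg.Agent.H1.RankTwoOmega.card_le_cube hEp
    intro B hB
    have h1 : IsMulCommutative ↥(B.map E.subtype) := by
      refine ⟨⟨?_⟩⟩
      rintro ⟨_, ⟨x, hx, rfl⟩⟩ ⟨_, ⟨y, hy, rfl⟩⟩
      apply Subtype.ext
      have := hB.is_comm.comm ⟨x, hx⟩ ⟨y, hy⟩
      have h2 := congrArg (fun u : ↥B => ((u : ↥E) : ↥R)) this
      simpa using h2
    have h2 : ∀ a ∈ B.map E.subtype, a ^ p = 1 := by
      rintro _ ⟨x, -, rfl⟩
      exact (hE _).mp x.2
    have := hr _ h1 h2
    rwa [Subgroup.card_map_of_injective E.subtype_injective] at this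
  obtain ⟨j, hj⟩ := hEp.exists_card_eq
  have hj3 : j ≤ 3 := by
    rw [hj] at hEle
    exact (Nat.pow_le_pow_iff_right hpp.one_lt).mp hEle
  rcases Nat.lt_or_ge j 3 with hlt | hge
  · -- Step C: metacyclic case
    left
    have hO : Nat.card (Cfsg.omegaOne p (⊤ : Subgroup ↥R)) ≤ p ^ 2 := by
      have h1 : Cfsg.omegaOne p (⊤ : Subgroup ↥R) = E := by
        unfold Cfsg.omegaOne
        have : {x : ↥R | x ∈ (⊤ : Subgroup ↥R) ∧ x ^ p = 1} = (E : Set ↥R) := by
          ext x
          simp only [Subgroup.mem_top, true_and, Set.mem_ofPred_eq]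
          exact (hE x).symm
        rw [this, Subgroup.closure_eq]
      rw [h1, hj]
      exact Nat.pow_le_pow_right hpp.pos (by omega)
    have hRm : Cfsg.IsMetacyclic ↥R :=
      Cfsg.Agent.H1.MetaOmega.metacyclic_of_omegaOne p hp3 (Nat.card ↥R) ↥R le_rfl hRp hO
    have h1 := (Cfsg.Agent.Lib.Helper4.MetaActAmb.meta_coprime hp R A hR hRm hA hcop).1
    rwa [hRA] at h1
  · -- Step D: the case |E| = p³
    right
    have hEcard : Nat.card ↥E = p ^ 3 := by
      have : j = 3 := by omega
      rw [hj, this]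
    have hodd : ∀ σ ∈ Set.range c, ∃ k, Odd k ∧ σ ^ k = 1 := by
      rintro _ ⟨a, rfl⟩
      refine ⟨orderOf a, ?_, ?_⟩
      · exact Odd.of_dvd_nat hAodd (orderOf_dvd_natCard a)
      · rw [← map_pow, pow_orderOf_eq_one, map_one]
    have hgen : ∀ N : Subgroup ↥R, (∀ σ ∈ Set.range c, ∀ x : ↥R, σ x * x⁻¹ ∈ N) → N = ⊤ := by
      intro N hN
      have h1 : ⁅R, A⁆ ≤ N.map R.subtype := by
        rw [Subgroup.commutator_le]
        intro r hr' a ha
        have h2 := hN (c ⟨a, ha⟩) ⟨⟨a, ha⟩, rfl⟩ ⟨r, hr'⟩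
        have h3 : r * a * r⁻¹ * a⁻¹ = (R.subtype ((c ⟨a, ha⟩ ⟨r, hr'⟩) * (⟨r, hr'⟩ : ↥R)⁻¹))⁻¹ := by
          rw [map_mul, map_inv]
          simp only [Subgroup.subtype_apply, hcapp]
          group
        rw [commutatorElement_def, h3]
        exact Subgroup.inv_mem _ (Subgroup.mem_map_of_mem _ h2)
      rw [hRA] at h1
      rw [eq_top_iff]
      intro x _
      obtain ⟨y, hy, hyx⟩ := h1 x.2
      have : y = x := Subtype.ext hyx
      rw [← this]; exact hy
    obtain ⟨hnc, hZcyc, hdec, hclo⟩ :=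
      Cfsg.Agent.H2.RankTwoComm.main_struct hp3 hRp hr E hE hEcard (Set.range c) hodd hgen
    set Z : Subgroup ↥R := Subgroup.centralizer (E : Set ↥R) with hZdef
    have hinj : Function.Injective R.subtype := R.subtype_injective
    refine ⟨E.map R.subtype, Z.map R.subtype, ?_, ?_, ?_, ?_, ?_, ?_, ?_⟩
    · -- R₁ ⊔ R₂ = R
      apply le_antisymm
      · exact sup_le (Subgroup.map_subtype_le _) (Subgroup.map_subtype_le _)
      · intro x hx
        obtain ⟨e, he, z, hz, hxe⟩ := hdec ⟨x, hx⟩
        have h1 : x = (e : G) * (z : G) := by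
          have := congrArg Subtype.val hxe
          simpa using this
        rw [h1]
        exact Subgroup.mul_mem_sup (Subgroup.mem_map_of_mem R.subtype he)
          (Subgroup.mem_map_of_mem R.subtype hz)
    · -- commute
      rintro _ ⟨e, he, rfl⟩ _ ⟨z, hz, rfl⟩
      have := Subgroup.mem_centralizer_iff.mp hz e he
      have h2 := congrArg Subtype.val this
      simpa using h2
    · -- not commutative
      intro hcomm
      obtain ⟨a, ha, b, hb, hab⟩ := hnc
      apply hab
      have h1 := hcomm.is_comm.comm ⟨R.subtype a, Subgroup.mem_map_of_mem _ ha⟩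
        ⟨R.subtype b, Subgroup.mem_map_of_mem _ hb⟩
      have h2 := congrArg Subtype.val h1
      apply Subtype.ext
      simpa using h2
    · rw [Subgroup.card_map_of_injective hinj, hEcard]
    · -- exponent
      have h1 : Monoid.exponent ↥(E.map R.subtype) ∣ p := by
        apply Monoid.exponent_dvd_of_forall_pow_eq_one
        rintro ⟨_, ⟨x, hx, rfl⟩⟩
        apply Subtype.ext
        have := (hE x).mp hx
        have h2 := congrArg Subtype.val this
        simpa using h2
      rcases (Nat.dvd_prime hpp).mp h1 with h | h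
      · exfalso
        rw [Monoid.exp_eq_one_iff] at h
        have h3 : Nat.card ↥(E.map R.subtype) = 1 := Nat.card_unique
        rw [Subgroup.card_map_of_injective hinj, hEcard] at h3
        have : 1 < p ^ 3 := Nat.one_lt_pow (by norm_num) hpp.one_lt
        omega
      · exact h
    · -- cyclic
      exact isCyclic_of_surjective (Z.equivMapOfInjective R.subtype hinj) (MulEquiv.surjective _)
    · -- the elements of order p
      have h1 : {x : G | x ∈ Z.map R.subtype ∧ x ^ p = 1} =
          R.subtype '' {x : ↥R | x ∈ Z ∧ x ^ p = 1} := by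
        ext x
        constructor
        · rintro ⟨⟨y, hy, rfl⟩, hxp⟩
          refine ⟨y, ⟨hy, ?_⟩, rfl⟩
          apply Subtype.ext
          simpa using hxp
        · rintro ⟨y, ⟨hy, hyp⟩, rfl⟩
          refine ⟨Subgroup.mem_map_of_mem _ hy, ?_⟩
          rw [← map_pow, hyp, map_one]
      rw [h1, ← MonoidHom.map_closure, hclo, Subgroup.map_commutator]

end Cfsg.Agent.S1448
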