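import Cfsg.Statements.S0559
import Mathlib
import Cfsg.Agent.H1.Basic

set_option autoImplicit false
open Pointwise
open Cfsg

namespace Cfsg.Agent.S0559

open Cfsg.Agent.H1
open scoped Pointwise

/-- Let G = HK be a finite group (every element a product of an element of H and an element of K), and let A and B be conjugates of H and K. Then every element is a product of an element of A and one of B, and there is g with A = gHg⁻¹ and B = gKg⁻¹ simultaneously. -/
theorem result {G : Type*} [Group G] [Finite G] (H K A B : Subgroup G) (hHK : ∀ g : G, ∃ h ∈ H, ∃ k ∈ K, g = h * k) (hA : ∃ x : G, A = MulAut.conj x • H) (hB : ∃ y : G, B = MulAut.conj y • K) : (∀ g : G, ∃ a ∈ A, ∃ b ∈ B, g = a * b) ∧ ∃ g : G, A = MulAut.conj g • H ∧ B = MulAut.conj g • K := by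
  obtain ⟨x, rfl⟩ := hA
  obtain ⟨y, rfl⟩ := hB
  obtain ⟨h, hh, k, hk, hxy⟩ := hHK (x⁻¹ * y)
  have hmem : ∀ (L : Subgroup G) (g t : G), t ∈ MulAut.conj g • L ↔ g⁻¹ * t * g ∈ L := by
    intro L g t
    rw [Subgroup.mem_pointwise_smul_iff_inv_smul_mem]
    simp [MulAut.smul_def, MulAut.conj_inv_apply]
  have hg : x * h = y * k⁻¹ := by
    have : y = x * (h * k) := by rw [← hxy]; group
    rw [this]; group
  have hAeq : MulAut.conj x • H = MulAut.conj (x * h) • H := by
    ext t
    rw [hmem, hmem]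
    have : (x * h)⁻¹ * t * (x * h) = h⁻¹ * (x⁻¹ * t * x) * h := by group
    rw [this]
    constructor
    · intro ht; exact mul_mem (mul_mem (inv_mem hh) ht) hh
    · intro ht
      have : x⁻¹ * t * x = h * (h⁻¹ * (x⁻¹ * t * x) * h) * h⁻¹ := by group
      rw [this]; exact mul_mem (mul_mem hh ht) (inv_mem hh)
  have hBeq : MulAut.conj y • K = MulAut.conj (x * h) • K := by
    ext t
    rw [hmem, hmem, hg]
    have : (y * k⁻¹)⁻¹ * t * (y * k⁻¹) = k * (y⁻¹ * t * y) * k⁻¹ := by group
    rw [this]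
    constructor
    · intro ht; exact mul_mem (mul_mem hk ht) (inv_mem hk)
    · intro ht
      have : y⁻¹ * t * y = k⁻¹ * (k * (y⁻¹ * t * y) * k⁻¹) * k := by group
      rw [this]; exact mul_mem (mul_mem (inv_mem hk) ht) hk
  refine ⟨?_, x * h, hAeq, hBeq⟩
  intro t
  rw [hAeq, hBeq]
  obtain ⟨h', hh', k', hk', e⟩ := hHK ((x * h)⁻¹ * t * (x * h))
  refine ⟨(x * h) * h' * (x * h)⁻¹, ?_, (x * h) * k' * (x * h)⁻¹, ?_, ?_⟩
  · rw [hmem]
    have : (x * h)⁻¹ * (x * h * h' * (x * h)⁻¹) * (x * h) = h' := by group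
    rw [this]; exact hh'
  · rw [hmem]
    have : (x * h)⁻¹ * (x * h * k' * (x * h)⁻¹) * (x * h) = k' := by group
    rw [this]; exact hk'
  · have : x * h * h' * (x * h)⁻¹ * (x * h * k' * (x * h)⁻¹) = (x * h) * (h' * k') * (x * h)⁻¹ := by group
    rw [this, ← e]; group

end Cfsg.Agent.S0559
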