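import Cfsg.Statements.S0561
import Mathlib
import Cfsg.Agent.S0004
import Cfsg.Agent.S0005
import Cfsg.Agent.Lib.Lead.Subnormal
import Cfsg.Agent.Lib.Lead.ProdCard

set_option autoImplicit false
open Pointwise
open Cfsg

namespace Cfsg.Agent.S0561

open scoped Pointwise
open Cfsg.Agent.Lib.Lead

theorem unitary_lcm (N a a' b b' : ℕ) (hN : 0 < N) (ha : N = a * a') (hca : a.Coprime a')
    (hb : N = b * b') (hcb : b.Coprime b') :
    ∃ n, N = Nat.lcm a b * n ∧ (Nat.lcm a b).Coprime n := by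
  have hm : Nat.lcm a b ∣ N := Nat.lcm_dvd ⟨a', ha⟩ ⟨b', hb⟩
  obtain ⟨n, hn⟩ := hm
  refine ⟨n, hn, ?_⟩
  by_contra hnc
  obtain ⟨p, hp, hpm, hpn⟩ := Nat.Prime.not_coprime_iff_dvd.mp hnc
  have hpab : p ∣ a * b := hpm.trans (Nat.lcm_dvd_mul a b)
  have apos : 0 < a := by
    rcases Nat.eq_zero_or_pos a with h | h
    · rw [h, zero_mul] at ha; omega
    · exact h
  have bpos : 0 < b := by
    rcases Nat.eq_zero_or_pos b with h | h
    · rw [h, zero_mul] at hb; omega
    · exact h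
  rcases (Nat.Prime.dvd_mul hp).mp hpab with h | h
  · obtain ⟨c, hc⟩ := Nat.dvd_lcm_left a b
    have h1 : a' = c * n := by
      have : a * a' = a * (c * n) := by rw [← ha, hn, hc]; ring
      exact Nat.eq_of_mul_eq_mul_left apos this
    have hpa' : p ∣ a' := by rw [h1]; exact Dvd.dvd.mul_left hpn c
    exact hp.one_lt.ne' (Nat.eq_one_of_dvd_coprimes hca h hpa')
  · obtain ⟨c, hc⟩ := Nat.dvd_lcm_right a b
    have h1 : b' = c * n := by
      have : b * b' = b * (c * n) := by rw [← hb, hn, hc]; ring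
      exact Nat.eq_of_mul_eq_mul_left bpos this
    have hpb' : p ∣ b' := by rw [h1]; exact Dvd.dvd.mul_left hpn c
    exact hp.one_lt.ne' (Nat.eq_one_of_dvd_coprimes hcb h hpb')

theorem conj_mul_set {G : Type*} [Group G] (S A' B' : Subgroup G) (g : G)
    (hS : (S : Set G) = (A' : Set G) * (B' : Set G)) :
    ((MulAut.conj g • S : Subgroup G) : Set G) =
      ((MulAut.conj g • A' : Subgroup G) : Set G) * ((MulAut.conj g • B' : Subgroup G) : Set G) := by
  ext z
  rw [SetLike.mem_coe, Subnormal.mem_conj_smul, ← SetLike.mem_coe, hS, Set.mem_mul, Set.mem_mul]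
  constructor
  · rintro ⟨a, ha, b, hb, e⟩
    refine ⟨g * a * g⁻¹, ?_, g * b * g⁻¹, ?_, ?_⟩
    · rw [SetLike.mem_coe, Subnormal.mem_conj_smul]
      have : g⁻¹ * (g * a * g⁻¹) * g = a := by group
      rw [this]; exact ha
    · rw [SetLike.mem_coe, Subnormal.mem_conj_smul]
      have : g⁻¹ * (g * b * g⁻¹) * g = b := by group
      rw [this]; exact hb
    · calc g * a * g⁻¹ * (g * b * g⁻¹) = g * (a * b) * g⁻¹ := by group
        _ = g * (g⁻¹ * z * g) * g⁻¹ := by rw [e]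
        _ = z := by group
  · rintro ⟨a, ha, b, hb, e⟩
    rw [SetLike.mem_coe, Subnormal.mem_conj_smul] at ha hb
    refine ⟨g⁻¹ * a * g, ha, g⁻¹ * b * g, hb, ?_⟩
    rw [← e]; group

theorem conj_inv_of_normal {G : Type*} [Group G] [Finite G] (H A : Subgroup G) (hA : A ≤ H)
    (hAn : (A.subgroupOf H).Normal) : ∀ h ∈ H, MulAut.conj h • A = A := by
  intro h hh
  apply Subnormal.conj_smul_eq_of_le
  intro z hz
  rw [Subnormal.mem_conj_smul] at hz
  have := hAn.conj_mem ⟨h⁻¹ * z * h, hA hz⟩ (Subgroup.mem_subgroupOf.mpr hz) ⟨h, hh⟩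
  rw [Subgroup.mem_subgroupOf] at this
  have e : ((⟨h, hh⟩ * ⟨h⁻¹ * z * h, hA hz⟩ * (⟨h, hh⟩ : ↥H)⁻¹ : ↥H) : G) = z := by
    show h * (h⁻¹ * z * h) * h⁻¹ = z
    group
  rwa [e] at this

/-- Let the finite solvable group G be the product HK of subgroups, and let A be normal in H and B normal in K, where A and B are Hall subgroups of G (order coprime to index). Then for all x, y the product set of xAx⁻¹ and yBy⁻¹ is a subgroup of G. -/
theorem result {G : Type*} [Group G] [Finite G] [Group.IsSolvable G] (H K A B : Subgroup G) (hHK : ∀ g : G, ∃ h ∈ H, ∃ k ∈ K, g = h * k) (hA : A ≤ H) (hAn : (A.subgroupOf H).Normal) (hB : B ≤ K) (hBn : (B.subgroupOf K).Normal) (hAh : (Nat.card A).Coprime A.index) (hBh : (Nat.card B).Coprime B.index) (x y : G) : ∃ S : Subgroup G, (S : Set G) = ((MulAut.conj x • A : Subgroup G) : Set G) * ((MulAut.conj y • B : Subgroup G) : Set G) := by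
  classical
  have hAinv := conj_inv_of_normal H A hA hAn
  have hBinv := conj_inv_of_normal K B hB hBn
  -- Step A: `A * B^g` is a subgroup for some `g`
  have hstepA : ∃ g₀ : G, ∃ S₀ : Subgroup G,
      (S₀ : Set G) = (A : Set G) * ((MulAut.conj g₀ • B : Subgroup G) : Set G) := by
    have hGpos : 0 < Nat.card G := Nat.card_pos
    obtain ⟨n, hn, hcop⟩ := unitary_lcm (Nat.card G) (Nat.card ↥A) A.index (Nat.card ↥B) B.index
      hGpos A.card_mul_index.symm hAh B.card_mul_index.symm hBh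
    obtain ⟨m, hm⟩ : ∃ m, m = Nat.lcm (Nat.card ↥A) (Nat.card ↥B) := ⟨_, rfl⟩
    rw [← hm] at hn hcop
    have hA' : (Nat.card ↥A).Coprime n :=
      Nat.Coprime.coprime_dvd_left (by rw [hm]; exact Nat.dvd_lcm_left _ _) hcop
    have hB' : (Nat.card ↥B).Coprime n :=
      Nat.Coprime.coprime_dvd_left (by rw [hm]; exact Nat.dvd_lcm_right _ _) hcop
    obtain ⟨T, hT, hAT⟩ := Cfsg.Agent.S0005.result m n hn hcop A hA'
    obtain ⟨T', hT', hBT'⟩ := Cfsg.Agent.S0005.result m n hn hcop B hB'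
    obtain ⟨g, hg⟩ := Cfsg.Agent.S0004.result m n hn hcop T' T hT' hT
    refine ⟨g, T, ?_⟩
    have hB'T : MulAut.conj g • B ≤ T := by
      rw [← hg]; exact Subgroup.pointwise_smul_le_pointwise_smul_iff.mpr hBT'
    have hsub : (A : Set G) * ((MulAut.conj g • B : Subgroup G) : Set G) ⊆ (T : Set G) := by
      rintro _ ⟨a, ha, b, hb, rfl⟩
      exact T.mul_mem (hAT ha) (hB'T hb)
    have hcard := ProdCard.card_mul_card_eq A (MulAut.conj g • B)
    rw [Subnormal.card_conj_smul] at hcard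
    have hd : Nat.card ↥(A ⊓ MulAut.conj g • B) ∣ Nat.gcd (Nat.card ↥A) (Nat.card ↥B) := by
      apply Nat.dvd_gcd
      · exact Subgroup.card_dvd_of_le inf_le_left
      · have := Subgroup.card_dvd_of_le (inf_le_right : A ⊓ MulAut.conj g • B ≤ MulAut.conj g • B)
        rwa [Subnormal.card_conj_smul] at this
    obtain ⟨e, he⟩ := hd
    have hgl := Nat.gcd_mul_lcm (Nat.card ↥A) (Nat.card ↥B)
    have hdpos : 0 < Nat.card ↥(A ⊓ MulAut.conj g • B) := Nat.card_pos
    have hncard : ((A : Set G) * ((MulAut.conj g • B : Subgroup G) : Set G)).ncard = e * m := by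
      have : ((A : Set G) * ((MulAut.conj g • B : Subgroup G) : Set G)).ncard *
          Nat.card ↥(A ⊓ MulAut.conj g • B) = (e * m) * Nat.card ↥(A ⊓ MulAut.conj g • B) := by
        rw [← hcard, ← hgl, he, ← hm]; ring
      exact Nat.eq_of_mul_eq_mul_right hdpos this
    have hepos : 0 < e := by
      rcases Nat.eq_zero_or_pos e with h0 | h0
      · exfalso
        rw [h0, mul_zero] at he
        have : 0 < Nat.gcd (Nat.card ↥A) (Nat.card ↥B) := Nat.gcd_pos_of_pos_left _ Nat.card_pos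
        omega
      · exact h0
    have hTn : (T : Set G).ncard = Nat.card ↥T := (_root_.Nat.card_coe_set_eq _).symm
    have hge : (T : Set G).ncard ≤
        ((A : Set G) * ((MulAut.conj g • B : Subgroup G) : Set G)).ncard := by
      rw [hncard, hTn, hT]; nlinarith
    exact (Set.eq_of_subset_of_ncard_le hsub hge (Set.toFinite _)).symm
  -- Step B: `A * B` is a subgroup
  have hstepB : ∃ S₁ : Subgroup G, (S₁ : Set G) = (A : Set G) * (B : Set G) := by
    obtain ⟨g₀, S₀, hS₀⟩ := hstepA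
    obtain ⟨h, hh, k, hk, e⟩ := hHK g₀
    have h1 : MulAut.conj g₀ • B = MulAut.conj h • B := by
      rw [e, map_mul, mul_smul, hBinv k hk]
    rw [h1] at hS₀
    refine ⟨MulAut.conj h⁻¹ • S₀, ?_⟩
    rw [conj_mul_set S₀ A (MulAut.conj h • B) h⁻¹ hS₀, hAinv h⁻¹ (H.inv_mem hh), map_inv,
      inv_smul_smul]
  obtain ⟨S₁, hS₁⟩ := hstepB
  -- Step C
  obtain ⟨h', hh', k', hk', ex⟩ := hHK x⁻¹
  have ex' : x = k'⁻¹ * h'⁻¹ := by
    have : x = (x⁻¹)⁻¹ := by group
    rw [this, ex]; group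
  obtain ⟨h₂, hh₂, k₂, hk₂, ey⟩ := hHK y
  obtain ⟨h₃, hh₃, k₃, hk₃, e3⟩ := hHK (k' * h₂)
  have ey' : y = (k'⁻¹ * h₃) * (k₃ * k₂) := by
    have : h₂ = k'⁻¹ * (k' * h₂) := by group
    rw [ey, this, e3]; group
  have hxA : MulAut.conj x • A = MulAut.conj (k'⁻¹ * h₃) • A := by
    rw [ex', map_mul, mul_smul, hAinv h'⁻¹ (H.inv_mem hh'), map_mul, mul_smul, hAinv h₃ hh₃]
  have hyB : MulAut.conj y • B = MulAut.conj (k'⁻¹ * h₃) • B := by
    rw [ey', map_mul (MulAut.conj) (k'⁻¹ * h₃) (k₃ * k₂), mul_smul, hBinv (k₃ * k₂) (K.mul_mem hk₃ hk₂)]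
  refine ⟨MulAut.conj (k'⁻¹ * h₃) • S₁, ?_⟩
  rw [conj_mul_set S₁ A B (k'⁻¹ * h₃) hS₁, hxA, hyB]

end Cfsg.Agent.S0561
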