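import Cfsg.Statements.S0562
import Mathlib
import Cfsg.Agent.H1.Basic
import Cfsg.Agent.H1.ConjMap

set_option autoImplicit false
open Cfsg

namespace Cfsg.Agent.S0562

open Cfsg.Agent.H1

/-- Let the finite group G be the product HK of subgroups, A normal in H, B normal in K, and L the normalizer of the subgroup generated by A and B. Then every element of L is a product of an element of L ∩ H and an element of L ∩ K. -/
theorem result {G : Type*} [Group G] [Finite G] (H K A B : Subgroup G) (hHK : ∀ g : G, ∃ h ∈ H, ∃ k ∈ K, g = h * k) (hA : A ≤ H) (hAn : (A.subgroupOf H).Normal) (hB : B ≤ K) (hBn : (B.subgroupOf K).Normal) : ∀ g ∈ Subgroup.normalizer ((A ⊔ B : Subgroup G) : Set G), ∃ h ∈ Subgroup.normalizer ((A ⊔ B : Subgroup G) : Set G) ⊓ H, ∃ k ∈ Subgroup.normalizer ((A ⊔ B : Subgroup G) : Set G) ⊓ K, g = h * k := by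
  intro g hg
  obtain ⟨h, hh, k, hk, rfl⟩ := hHK g
  have hAc : ∀ t ∈ H, ∀ a ∈ A, t * a * t⁻¹ ∈ A := by
    intro t ht a ha
    have := hAn.conj_mem ⟨a, hA ha⟩ (Subgroup.mem_subgroupOf.mpr ha) ⟨t, ht⟩
    exact Subgroup.mem_subgroupOf.mp this
  have hBc : ∀ t ∈ K, ∀ b ∈ B, t * b * t⁻¹ ∈ B := by
    intro t ht b hb
    have := hBn.conj_mem ⟨b, hB hb⟩ (Subgroup.mem_subgroupOf.mpr hb) ⟨t, ht⟩
    exact Subgroup.mem_subgroupOf.mp this
  have e1 : ((A ⊔ B).map (MulAut.conj k).toMonoidHom).map (MulAut.conj h).toMonoidHom = A ⊔ B := by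
    rw [map_conj_map_conj, map_conj_eq_self_iff]; exact hg
  have e2 : (A ⊔ B).map (MulAut.conj k).toMonoidHom = (A ⊔ B).map (MulAut.conj h⁻¹).toMonoidHom := by
    have := congrArg (fun S => Subgroup.map (MulAut.conj h⁻¹).toMonoidHom S) e1
    rw [map_conj_map_conj, inv_mul_cancel, map_conj_one] at this
    exact this
  have hle : A ⊔ B ≤ (A ⊔ B).map (MulAut.conj k).toMonoidHom := by
    apply sup_le
    · rw [e2]
      intro a ha
      rw [mem_map_conj_iff]
      have := hAc h hh a ha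
      rw [inv_inv]
      exact Subgroup.mem_sup_left this
    · intro b hb
      rw [mem_map_conj_iff]
      have := hBc k⁻¹ (inv_mem hk) b hb
      rw [inv_inv] at this
      exact Subgroup.mem_sup_right this
  have hcard : Nat.card ((A ⊔ B).map (MulAut.conj k).toMonoidHom) = Nat.card (A ⊔ B : Subgroup G) :=
    Subgroup.card_map_of_injective (MulAut.conj k).injective
  have hkN : k ∈ Subgroup.normalizer ((A ⊔ B : Subgroup G) : Set G) := by
    rw [← map_conj_eq_self_iff]
    exact (Subgroup.eq_of_le_of_card_ge hle hcard.le).symm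
  have hhN : h ∈ Subgroup.normalizer ((A ⊔ B : Subgroup G) : Set G) := by
    have : h = (h * k) * k⁻¹ := by group
    rw [this]
    exact mul_mem hg (inv_mem hkN)
  exact ⟨h, Subgroup.mem_inf.mpr ⟨hhN, hh⟩, k, Subgroup.mem_inf.mpr ⟨hkN, hk⟩, rfl⟩

end Cfsg.Agent.S0562
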