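import Cfsg.Statements.S0566
import Mathlib
import Cfsg.Agent.Lib.Lead.Subnormal
import Cfsg.Agent.Lib.Lead.Subnormal2

set_option autoImplicit false
open Pointwise
open Cfsg

namespace Cfsg.Agent.S0566

open scoped Pointwise
open Cfsg.Agent.Lib.Lead

theorem swap_of_eq {G : Type*} [Group G] (X Z S : Subgroup G)
    (hS : (S : Set G) = (X : Set G) * (Z : Set G)) :
    ∀ z ∈ Z, ∀ x ∈ X, ∃ x' ∈ X, ∃ z' ∈ Z, z * x = x' * z' := by
  intro z hz x hx
  have h1 : x⁻¹ * z⁻¹ ∈ (S : Set G) := by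
    rw [hS]; exact Set.mem_mul.mpr ⟨x⁻¹, X.inv_mem hx, z⁻¹, Z.inv_mem hz, rfl⟩
  have h2 : z * x ∈ (S : Set G) := by
    have := S.inv_mem h1
    rwa [mul_inv_rev, inv_inv, inv_inv] at this
  rw [hS] at h2
  obtain ⟨x', hx', z', hz', e⟩ := Set.mem_mul.mp h2
  exact ⟨x', hx', z', hz', e.symm⟩

theorem sup_perm {G : Type*} [Group G] (X Y Z : Subgroup G)
    (hX : ∀ z ∈ Z, ∀ x ∈ X, ∃ x' ∈ X, ∃ z' ∈ Z, z * x = x' * z')
    (hY : ∀ z ∈ Z, ∀ y ∈ Y, ∃ y' ∈ Y, ∃ z' ∈ Z, z * y = y' * z') :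
    ∀ w ∈ X ⊔ Y, (∀ z ∈ Z, ∃ w' ∈ X ⊔ Y, ∃ z' ∈ Z, z * w = w' * z') ∧
      (∀ z ∈ Z, ∃ w' ∈ X ⊔ Y, ∃ z' ∈ Z, w * z = z' * w') := by
  intro w hw
  rw [Subgroup.sup_eq_closure] at hw
  induction hw using Subgroup.closure_induction with
  | mem w hw =>
    rcases hw with hx | hy
    · constructor
      · intro z hz
        obtain ⟨x', hx', z', hz', e⟩ := hX z hz w hx
        exact ⟨x', Subgroup.mem_sup_left hx', z', hz', e⟩
      · intro z hz
        obtain ⟨x', hx', z', hz', e⟩ := hX z⁻¹ (Z.inv_mem hz) w⁻¹ (X.inv_mem hx)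
        refine ⟨x'⁻¹, Subgroup.mem_sup_left (X.inv_mem hx'), z'⁻¹, Z.inv_mem hz', ?_⟩
        rw [← mul_inv_rev, ← e, mul_inv_rev, inv_inv, inv_inv]
    · constructor
      · intro z hz
        obtain ⟨x', hx', z', hz', e⟩ := hY z hz w hy
        exact ⟨x', Subgroup.mem_sup_right hx', z', hz', e⟩
      · intro z hz
        obtain ⟨x', hx', z', hz', e⟩ := hY z⁻¹ (Z.inv_mem hz) w⁻¹ (Y.inv_mem hy)
        refine ⟨x'⁻¹, Subgroup.mem_sup_right (Y.inv_mem hx'), z'⁻¹, Z.inv_mem hz', ?_⟩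
        rw [← mul_inv_rev, ← e, mul_inv_rev, inv_inv, inv_inv]
  | one =>
    constructor
    · intro z hz
      exact ⟨1, Subgroup.one_mem _, z, hz, by rw [mul_one, one_mul]⟩
    · intro z hz
      exact ⟨1, Subgroup.one_mem _, z, hz, by rw [mul_one, one_mul]⟩
  | mul a b ha hb iha ihb =>
    constructor
    · intro z hz
      obtain ⟨a', ha', z', hz', e⟩ := iha.1 z hz
      obtain ⟨b', hb', z'', hz'', e'⟩ := ihb.1 z' hz'
      refine ⟨a' * b', Subgroup.mul_mem _ ha' hb', z'', hz'', ?_⟩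
      calc z * (a * b) = z * a * b := by group
        _ = a' * (z' * b) := by rw [e]; group
        _ = a' * b' * z'' := by rw [e']; group
    · intro z hz
      obtain ⟨b', hb', z', hz', e⟩ := ihb.2 z hz
      obtain ⟨a', ha', z'', hz'', e'⟩ := iha.2 z' hz'
      refine ⟨a' * b', Subgroup.mul_mem _ ha' hb', z'', hz'', ?_⟩
      calc a * b * z = a * (b * z) := by group
        _ = a * z' * b' := by rw [e]; group
        _ = z'' * (a' * b') := by rw [e']; group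
  | inv a ha iha =>
    constructor
    · intro z hz
      obtain ⟨a', ha', z', hz', e⟩ := iha.2 z⁻¹ (Z.inv_mem hz)
      refine ⟨a'⁻¹, Subgroup.inv_mem _ ha', z'⁻¹, Z.inv_mem hz', ?_⟩
      rw [← mul_inv_rev, ← e, mul_inv_rev, inv_inv]
    · intro z hz
      obtain ⟨a', ha', z', hz', e⟩ := iha.1 z⁻¹ (Z.inv_mem hz)
      refine ⟨a'⁻¹, Subgroup.inv_mem _ ha', z'⁻¹, Z.inv_mem hz', ?_⟩
      rw [← mul_inv_rev, ← e, mul_inv_rev, inv_inv]

theorem exists_subgroup_mul {G : Type*} [Group G] (W Z : Subgroup G)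
    (h : ∀ w ∈ W, ∀ z ∈ Z, ∃ w' ∈ W, ∃ z' ∈ Z, z * w = w' * z') :
    ∃ S : Subgroup G, (S : Set G) = (W : Set G) * (Z : Set G) := by
  refine ⟨{ carrier := (W : Set G) * (Z : Set G), mul_mem' := ?_, one_mem' := ?_,
            inv_mem' := ?_ }, rfl⟩
  · rintro _ _ ⟨w₁, hw₁, z₁, hz₁, rfl⟩ ⟨w₂, hw₂, z₂, hz₂, rfl⟩
    obtain ⟨w', hw', z', hz', e⟩ := h w₂ hw₂ z₁ hz₁
    refine Set.mem_mul.mpr ⟨w₁ * w', W.mul_mem hw₁ hw', z' * z₂, Z.mul_mem hz' hz₂, ?_⟩
    calc w₁ * w' * (z' * z₂) = w₁ * (w' * z') * z₂ := by group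
      _ = w₁ * (z₁ * w₂) * z₂ := by rw [e]
      _ = w₁ * z₁ * (w₂ * z₂) := by group
  · exact Set.mem_mul.mpr ⟨1, W.one_mem, 1, Z.one_mem, mul_one 1⟩
  · rintro _ ⟨w, hw, z, hz, rfl⟩
    obtain ⟨w', hw', z', hz', e⟩ := h w⁻¹ (W.inv_mem hw) z⁻¹ (Z.inv_mem hz)
    exact Set.mem_mul.mpr ⟨w', hw', z', hz', by rw [← e, mul_inv_rev]⟩

theorem kegel {G : Type*} [Group G] [Finite G] : ∀ (k : ℕ) (A B : Subgroup G),
    2 * Nat.card G - (Nat.card ↥A + Nat.card ↥B) = k →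
    (∀ x : G, ∃ S : Subgroup G, S ≠ ⊤ ∧
      (S : Set G) = (A : Set G) * ((MulAut.conj x • B : Subgroup G) : Set G)) →
    Subgroup.normalClosure (A : Set G) ≠ ⊤ ∨ Subgroup.normalClosure (B : Set G) ≠ ⊤ := by
  intro k
  induction k using Nat.strong_induction_on with
  | _ k ih =>
  intro A B hk h
  by_contra hcon
  push Not at hcon
  obtain ⟨hA, hB⟩ := hcon
  have h1 : ∃ x : G, ∃ b ∈ MulAut.conj x • B, b ∉ Subgroup.normalizer (A : Set G) := by
    by_contra hno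
    push Not at hno
    have hle : Subgroup.normalClosure (B : Set G) ≤ Subgroup.normalizer (A : Set G) := by
      unfold Subgroup.normalClosure
      rw [Subgroup.closure_le]
      intro g hg
      rw [Group.mem_conjugatesOfSet_iff] at hg
      obtain ⟨b, hb, hbg⟩ := hg
      rw [isConj_iff] at hbg
      obtain ⟨c, hc⟩ := hbg
      apply hno c
      rw [Subnormal.mem_conj_smul, ← hc]
      have : c⁻¹ * (c * b * c⁻¹) * c = b := by group
      rw [this]; exact hb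
    rw [hB, top_le_iff] at hle
    haveI : A.Normal := Subgroup.normalizer_eq_top_iff.mp hle
    have hA' : A = ⊤ := by rw [← hA]; exact (Subgroup.normalClosure_eq_self A).symm
    obtain ⟨S, hS, hSe⟩ := h 1
    apply hS
    rw [eq_top_iff]
    intro g _
    show g ∈ (S : Set G)
    rw [hSe]
    exact Set.mem_mul.mpr ⟨g, by rw [hA']; trivial, 1, Subgroup.one_mem _, mul_one g⟩
  obtain ⟨x, b, hbB, hbA⟩ := h1
  obtain ⟨A₁, hA₁⟩ : ∃ A₁, A₁ = A ⊔ MulAut.conj b • A := ⟨_, rfl⟩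
  have hAA₁ : A ≤ A₁ := by rw [hA₁]; exact le_sup_left
  have hlt : A < A₁ := by
    refine lt_of_le_of_ne hAA₁ ?_
    intro heq
    apply hbA
    apply Subnormal.mem_normalizer_of_conj_smul_le b A
    have : MulAut.conj b • A ≤ A₁ := by rw [hA₁]; exact le_sup_right
    rw [← heq] at this
    exact this
  have hcard : Nat.card ↥A < Nat.card ↥A₁ := Subnormal.card_lt_card_of_lt hlt
  obtain ⟨H, hHtop, hHe⟩ := h x
  have hAH : A ≤ H := by
    intro a ha
    show a ∈ (H : Set G)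
    rw [hHe]
    exact Set.mem_mul.mpr ⟨a, ha, 1, Subgroup.one_mem _, mul_one a⟩
  have hBH : MulAut.conj x • B ≤ H := by
    intro c hc
    show c ∈ (H : Set G)
    rw [hHe]
    exact Set.mem_mul.mpr ⟨1, Subgroup.one_mem _, c, hc, one_mul c⟩
  have hbH : b ∈ H := hBH hbB
  have hA₁H : A₁ ≤ H := by
    rw [hA₁]
    apply sup_le hAH
    intro t ht
    rw [Subnormal.mem_conj_smul] at ht
    have : t = b * (b⁻¹ * t * b) * b⁻¹ := by group
    rw [this]
    exact H.mul_mem (H.mul_mem hbH (hAH ht)) (H.inv_mem hbH)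
  -- permutability of `A₁` with every conjugate of `B`
  have hperm : ∀ y : G, ∃ S : Subgroup G,
      (S : Set G) = (A₁ : Set G) * ((MulAut.conj y • B : Subgroup G) : Set G) := by
    intro y
    obtain ⟨S₁, -, hS₁⟩ := h y
    obtain ⟨S₂, -, hS₂⟩ := h (b⁻¹ * y)
    have hX := swap_of_eq A (MulAut.conj y • B) S₁ hS₁
    have hX' := swap_of_eq A (MulAut.conj (b⁻¹ * y) • B) S₂ hS₂
    have hY : ∀ z ∈ MulAut.conj y • B, ∀ t ∈ MulAut.conj b • A,
        ∃ t' ∈ MulAut.conj b • A, ∃ z' ∈ MulAut.conj y • B, z * t = t' * z' := by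
      intro z hz t ht
      rw [Subnormal.mem_conj_smul] at hz ht
      have hz2 : b⁻¹ * z * b ∈ MulAut.conj (b⁻¹ * y) • B := by
        rw [Subnormal.mem_conj_smul]
        have : (b⁻¹ * y)⁻¹ * (b⁻¹ * z * b) * (b⁻¹ * y) = y⁻¹ * z * y := by group
        rw [this]; exact hz
      obtain ⟨a', ha', z'', hz'', e⟩ := hX' _ hz2 _ ht
      rw [Subnormal.mem_conj_smul] at hz''
      refine ⟨b * a' * b⁻¹, ?_, b * z'' * b⁻¹, ?_, ?_⟩
      · rw [Subnormal.mem_conj_smul]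
        have : b⁻¹ * (b * a' * b⁻¹) * b = a' := by group
        rw [this]; exact ha'
      · rw [Subnormal.mem_conj_smul]
        have : y⁻¹ * (b * z'' * b⁻¹) * y = (b⁻¹ * y)⁻¹ * z'' * (b⁻¹ * y) := by group
        rw [this]; exact hz''
      · calc z * t = b * ((b⁻¹ * z * b) * (b⁻¹ * t * b)) * b⁻¹ := by group
          _ = b * (a' * z'') * b⁻¹ := by rw [e]
          _ = b * a' * b⁻¹ * (b * z'' * b⁻¹) := by group
    have hsp := sup_perm A (MulAut.conj b • A) (MulAut.conj y • B) hX hY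
    rw [← hA₁] at hsp
    exact exists_subgroup_mul A₁ (MulAut.conj y • B) (fun w hw z hz => (hsp w hw).1 z hz)
  by_cases hall : ∀ y : G, ∃ S : Subgroup G, S ≠ ⊤ ∧
      (S : Set G) = (A₁ : Set G) * ((MulAut.conj y • B : Subgroup G) : Set G)
  · have hA₁G : Nat.card ↥A₁ ≤ Nat.card G := Subgroup.card_le_card_group A₁
    have hBG : Nat.card ↥B ≤ Nat.card G := Subgroup.card_le_card_group B
    have hm : 2 * Nat.card G - (Nat.card ↥A₁ + Nat.card ↥B) < k := by omega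
    rcases ih _ hm A₁ B rfl hall with h' | h'
    · apply h'
      rw [eq_top_iff, ← hA]
      exact Subgroup.normalClosure_mono hAA₁
    · exact h' hB
  · push Not at hall
    obtain ⟨y, hy⟩ := hall
    obtain ⟨S₃, hS₃⟩ := hperm y
    have hS₃top : S₃ = ⊤ := by
      by_contra hne
      exact hy S₃ hne hS₃
    have hg : x * y⁻¹ ∈ (S₃ : Set G) := by rw [hS₃top]; trivial
    rw [hS₃] at hg
    obtain ⟨w, hw, c, hc, e⟩ := Set.mem_mul.mp hg
    have hc' : c = w⁻¹ * x * y⁻¹ := by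
      have : c = w⁻¹ * (w * c) := by group
      rw [this, e]; group
    have hcB : y⁻¹ * c * y ∈ B := by
      have := hc
      rw [SetLike.mem_coe, Subnormal.mem_conj_smul] at this
      exact this
    have hwH : w ∈ H := hA₁H hw
    have hZH : MulAut.conj y • B ≤ H := by
      intro z hz
      rw [Subnormal.mem_conj_smul] at hz
      have hβ : (y⁻¹ * c * y)⁻¹ * (y⁻¹ * z * y) * (y⁻¹ * c * y) ∈ B :=
        B.mul_mem (B.mul_mem (B.inv_mem hcB) hz) hcB
      have hxβ : x * ((y⁻¹ * c * y)⁻¹ * (y⁻¹ * z * y) * (y⁻¹ * c * y)) * x⁻¹ ∈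
          MulAut.conj x • B := by
        rw [Subnormal.mem_conj_smul]
        have : x⁻¹ * (x * ((y⁻¹ * c * y)⁻¹ * (y⁻¹ * z * y) * (y⁻¹ * c * y)) * x⁻¹) * x =
            (y⁻¹ * c * y)⁻¹ * (y⁻¹ * z * y) * (y⁻¹ * c * y) := by group
        rw [this]; exact hβ
      have hz' : z = w⁻¹ * (x * ((y⁻¹ * c * y)⁻¹ * (y⁻¹ * z * y) * (y⁻¹ * c * y)) * x⁻¹) * w := by
        rw [hc']; group
      rw [hz']
      exact H.mul_mem (H.mul_mem (H.inv_mem hwH) (hBH hxβ)) hwH
    apply hHtop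
    rw [eq_top_iff]
    intro g _
    have hg' : g ∈ (S₃ : Set G) := by rw [hS₃top]; trivial
    rw [hS₃] at hg'
    obtain ⟨w', hw', c', hc', rfl⟩ := Set.mem_mul.mp hg'
    exact H.mul_mem (hA₁H hw') (hZH hc')

/-- Let A and B be nontrivial subgroups of a finite group G such that for every x the product set of A and xBx⁻¹ is a proper subgroup of G. Then there is a proper normal subgroup of G containing A or containing B. -/
theorem result {G : Type*} [Group G] [Finite G] (A B : Subgroup G) (hA : A ≠ ⊥) (hB : B ≠ ⊥) (h : ∀ x : G, ∃ S : Subgroup G, S ≠ ⊤ ∧ (S : Set G) = (A : Set G) * ((MulAut.conj x • B : Subgroup G) : Set G)) : ∃ N : Subgroup G, N.Normal ∧ N ≠ ⊤ ∧ (A ≤ N ∨ B ≤ N) := by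
  rcases kegel _ A B rfl h with h' | h'
  · exact ⟨Subgroup.normalClosure (A : Set G), Subgroup.normalClosure_normal, h',
      Or.inl Subgroup.le_normalClosure⟩
  · exact ⟨Subgroup.normalClosure (B : Set G), Subgroup.normalClosure_normal, h',
      Or.inr Subgroup.le_normalClosure⟩

end Cfsg.Agent.S0566
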