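import Cfsg.Statements.S1378
import Cfsg.Agent.H2.BG13.E
-- import your own Cfsg.Agent.* helpers here

set_option autoImplicit false
open Cfsg

namespace Cfsg.Agent.S1378

/-- Let G be a minimal simple group of odd order. Then every prime dividing the order of G belongs to σ(M) for some maximal subgroup M, and if σ(M) and σ(N) have a prime in common for maximal subgroups M, N then N is conjugate to M; so the sets σ(M_i) over representatives of the conjugacy classes of maximal subgroups partition the prime divisors of #G. -/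
theorem result {G : Type*} [Group G] [Finite G] (hG : Cfsg.IsMinSimpleOddOrder G) :
    (∀ p : ℕ, p.Prime → p ∣ Nat.card G → ∃ M : Subgroup G, IsCoatom M ∧ p ∈ Cfsg.sigma M) ∧
      ∀ M N : Subgroup G, IsCoatom M → IsCoatom N → (Cfsg.sigma M ∩ Cfsg.sigma N).Nonempty → ∃ g : G, N = M.map (MulAut.conj g).toMonoidHom := by
  refine ⟨?_, ?_⟩
  · intro p hp hpd
    haveI : Fact p.Prime := ⟨hp⟩
    obtain ⟨P, hP, -⟩ := Cfsg.Agent.Lib.Helper7.exists_isSylowIn_ge (p := p) (Q := ⊥)
      (H := (⊤ : Subgroup G)) IsPGroup.of_bot bot_le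
    have hP1 : P ≠ ⊥ := by
      apply Cfsg.Agent.H2.BG11.sylIn_ne_bot hP
      rw [Subgroup.card_top]
      exact hpd
    have hPt : P ≠ ⊤ := by
      intro h
      apply Cfsg.Agent.Lib.Helper4.ThreeStep.not_isSolvable hG.2
      have hpg : IsPGroup p (⊤ : Subgroup G) := h ▸ hP.isPGroup
      have hpG : IsPGroup p G := hpg.of_equiv Subgroup.topEquiv
      haveI : Group.IsNilpotent G := hpG.isNilpotent
      infer_instance
    have hN : Subgroup.normalizer (P : Set G) ≠ ⊤ :=
      Cfsg.Agent.Lib.Helper4.BGUniq.normalizer_ne_top hG hP1 hPt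
    obtain ⟨M, hM, hNM⟩ := Cfsg.Agent.H2.BGU.exists_coatom_ge hN
    have hPM : P ≤ M := le_trans Subgroup.le_normalizer hNM
    exact ⟨M, hM, Cfsg.Agent.Lib.helper3.BG11.mem_sigma_of_sylIn
      (Cfsg.Agent.H2.BG11.sylIn_of_sylIn_top hP hPM) hP1 hNM⟩
  · intro M N hM hN hne
    obtain ⟨t, htM, htN⟩ := hne
    by_contra hcon
    push Not at hcon
    have hnc : ∀ g : G, Cfsg.Agent.Lib.Helper8.BGTen.cj g N ≠ M := by
      intro g hg
      apply hcon g⁻¹
      rw [← hg]
      exact (Cfsg.Agent.Lib.Helper8.BGTen.cj_inv_cj g N).symm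
    obtain ⟨g, T, hcfg⟩ := Cfsg.Agent.H2.BG13.exists_cfg hG hM hN hnc htM htN
    exact hcfg.elim hG

end Cfsg.Agent.S1378
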