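import Mathlib
import Cfsg.Statements.S0873
import Cfsg.Agent.Lib.helper3.Lin
import Cfsg.Agent.S0026

set_option autoImplicit false
open Cfsg

namespace Cfsg.Agent.S0873

/-- Let C be a normal subgroup of the finite group G of order prime to p and P a p-subgroup with C ⊔ P = G. Let λ be a character of C of degree 1 invariant under conjugation by G and equal to 1 at every element of C centralized by P. Then λ is identically 1. -/
theorem result {G : Type*} [Group G] [Finite G] (p : ℕ) [Fact p.Prime] (C P : Subgroup G) [hC : C.Normal] (hP : IsPGroup p P) (hcop : Nat.Coprime (Nat.card C) p) (hCP : C ⊔ P = ⊤) (lam : C → ℂ) (hlam : Cfsg.IsCharacter C lam ∧ lam 1 = 1) (hinv : ∀ (g : G) (c : C), lam ⟨g * c * g⁻¹, hC.conj_mem (c : G) c.2 g⟩ = lam c) (hker : ∀ c : C, (c : G) ∈ Subgroup.centralizer (P : Set G) → lam c = 1) : lam = fun _ => 1 := by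
  classical
  have hmul := Cfsg.Agent.Lib.helper3.Lin.map_mul_of_apply_one_eq_one hlam.1 hlam.2
  -- the kernel of lam as a subgroup of G
  let K : Subgroup G :=
    { carrier := {g | ∃ h : g ∈ C, lam ⟨g, h⟩ = 1}
      one_mem' := ⟨C.one_mem, hlam.2⟩
      mul_mem' := by
        rintro a b ⟨ha, ha1⟩ ⟨hb, hb1⟩
        refine ⟨C.mul_mem ha hb, ?_⟩
        have := hmul ⟨a, ha⟩ ⟨b, hb⟩
        rw [ha1, hb1, mul_one] at this
        exact this
      inv_mem' := by
        rintro a ⟨ha, ha1⟩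
        refine ⟨C.inv_mem ha, ?_⟩
        have := hmul ⟨a, ha⟩ ⟨a⁻¹, C.inv_mem ha⟩
        have e : (⟨a, ha⟩ : C) * ⟨a⁻¹, C.inv_mem ha⟩ = 1 := by
          ext; simp
        rw [e, hlam.2, ha1, one_mul] at this
        exact this.symm }
  have hPsolv : Group.IsSolvable P := by
    have : Group.IsNilpotent P := hP.isNilpotent
    infer_instance
  have hcop' : (Nat.card P).Coprime (Nat.card C) := by
    obtain ⟨n, hn⟩ := IsPGroup.iff_card.mp hP
    rw [hn]
    exact (Nat.Coprime.pow_right n hcop).symm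
  have hAK : P ≤ Subgroup.normalizer (C : Set G) := by
    rw [Subgroup.normalizer_eq_top]; exact le_top
  have hdec := Cfsg.Agent.S0026.result P C hAK hcop' (Or.inl hPsolv)
  have h1 : ⁅C, P⁆ ≤ K := by
    rw [Subgroup.commutator_le]
    intro c hc g hg
    have hgc : g * c⁻¹ * g⁻¹ ∈ C := hC.conj_mem _ (C.inv_mem hc) g
    rw [commutatorElement_def]
    have hmem : c * g * c⁻¹ * g⁻¹ ∈ C := by
      have : c * g * c⁻¹ * g⁻¹ = c * (g * c⁻¹ * g⁻¹) := by
        simp [mul_assoc]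
      rw [this]; exact C.mul_mem hc hgc
    refine ⟨hmem, ?_⟩
    have e : (⟨c * g * c⁻¹ * g⁻¹, hmem⟩ : C) = ⟨c, hc⟩ * ⟨g * c⁻¹ * g⁻¹, hgc⟩ := by
      ext; simp [mul_assoc]
    rw [e, hmul]
    have h2 := hinv g ⟨c⁻¹, C.inv_mem hc⟩
    simp only at h2
    rw [h2, ← hmul]
    have e2 : (⟨c, hc⟩ : C) * ⟨c⁻¹, C.inv_mem hc⟩ = 1 := by ext; simp
    rw [e2, hlam.2]
  have h2 : C ⊓ Subgroup.centralizer (P : Set G) ≤ K := by
    intro c hc
    exact ⟨hc.1, hker ⟨c, hc.1⟩ hc.2⟩
  have hCK : C ≤ K := by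
    rw [← hdec]; exact sup_le h1 h2
  funext c
  obtain ⟨h, hh⟩ := hCK c.2
  exact hh

end Cfsg.Agent.S0873
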