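import Cfsg.Statements.S0549
import Mathlib
import Cfsg.Agent.H1.Basic
import Cfsg.Agent.H1.CoreFree

set_option autoImplicit false
open Cfsg

namespace Cfsg.Agent.S0549

open Cfsg.Agent.H1
open scoped Pointwise commutatorElement

/-- Let U be a maximal subgroup of a finite group G whose normal core is trivial, and N a nontrivial normal subgroup with centralizer C. Then C ∩ U = 1, and either C = 1 or C is a minimal normal subgroup of G. -/
theorem result {G : Type*} [Group G] [Finite G] (U : Subgroup G) (hU : IsCoatom U) (hcore : U.normalCore = ⊥) (N : Subgroup G) [N.Normal] (hN : N ≠ ⊥) : Subgroup.centralizer (N : Set G) ⊓ U = ⊥ ∧ (Subgroup.centralizer (N : Set G) = ⊥ ∨ (Subgroup.centralizer (N : Set G) ≠ ⊥ ∧ ∀ K : Subgroup G, K.Normal → K ≤ Subgroup.centralizer (N : Set G) → K = ⊥ ∨ K = Subgroup.centralizer (N : Set G))) := by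
  have h1 := centralizer_inf_corefree U hU hcore N hN
  refine ⟨h1, ?_⟩
  by_cases hC : Subgroup.centralizer (N : Set G) = ⊥
  · exact Or.inl hC
  · right
    refine ⟨hC, ?_⟩
    intro K hK hKC
    by_cases hK0 : K = ⊥
    · exact Or.inl hK0
    · right
      apply le_antisymm hKC
      intro c hc
      have hsup := sup_eq_top_of_normal_corefree U hU hcore K hK hK0
      have hc' : c ∈ K ⊔ U := by rw [hsup]; trivial
      obtain ⟨k, hk, u, hu, rfl⟩ := Subgroup.mem_sup_of_normal_left.mp hc'
      have hu' : u ∈ Subgroup.centralizer (N : Set G) ⊓ U := by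
        refine Subgroup.mem_inf.mpr ⟨?_, hu⟩
        have : u = k⁻¹ * (k * u) := by group
        rw [this]; exact mul_mem (inv_mem (hKC hk)) hc
      rw [h1, Subgroup.mem_bot] at hu'
      rw [hu', mul_one]; exact hk

end Cfsg.Agent.S0549
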