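import Cfsg.Statements.S0754
import Mathlib

set_option autoImplicit false
open Cfsg

namespace Cfsg.Agent.S0754

/-- In a field F with q^2 elements, every non-zero μ with μ^q = μ (that is, μ in the subfield of order q) has exactly q + 1 solutions λ of λ^(q+1) = μ. -/
theorem result {F : Type*} [Field F] [Fintype F] {q : ℕ} (hF : Fintype.card F = q ^ 2) (μ : F) (hμ : μ ≠ 0) (hμq : μ ^ q = μ) : Nat.card {x : F // x ^ (q + 1) = μ} = q + 1 := by
  have hq1 : 1 < q := by
    have := Fintype.one_lt_card (α := F)
    rw [hF] at this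
    by_contra h
    push Not at h
    interval_cases q <;> simp at this
  have hcardU : Nat.card Fˣ = q ^ 2 - 1 := by
    rw [Nat.card_units, Nat.card_eq_fintype_card, hF]
  have hfact : q ^ 2 - 1 = (q - 1) * (q + 1) := by
    zify [show 1 ≤ q ^ 2 from Nat.one_le_pow _ _ (by omega), show 1 ≤ q by omega]
    ring
  let f : Fˣ →* Fˣ := powMonoidHom (q + 1)
  let g : Fˣ →* Fˣ := powMonoidHom (q - 1)
  have hker : Nat.card f.ker = q + 1 := by
    rw [IsCyclic.card_powMonoidHom_ker, hcardU, hfact]
    exact Nat.gcd_eq_right (Dvd.intro_left _ rfl)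
  have hrange : Nat.card f.range = q - 1 := by
    rw [IsCyclic.card_powMonoidHom_range, hcardU, hfact, Nat.gcd_eq_right (Dvd.intro_left _ rfl)]
    exact Nat.mul_div_cancel _ (by omega)
  have hgker : Nat.card g.ker = q - 1 := by
    rw [IsCyclic.card_powMonoidHom_ker, hcardU, hfact]
    exact Nat.gcd_eq_right (Dvd.intro _ rfl)
  have hle : f.range ≤ g.ker := by
    rintro _ ⟨x, rfl⟩
    rw [MonoidHom.mem_ker]
    change (x ^ (q + 1)) ^ (q - 1) = 1
    rw [← pow_mul, mul_comm, ← hfact, ← hcardU]
    exact pow_card_eq_one'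
  have heq : f.range = g.ker := by
    apply Subgroup.eq_of_le_of_card_ge hle
    rw [hrange, hgker]
  have hμmem : Units.mk0 μ hμ ∈ g.ker := by
    rw [MonoidHom.mem_ker]
    change (Units.mk0 μ hμ) ^ (q - 1) = 1
    ext
    simp only [Units.val_pow_eq_pow_val, Units.val_mk0, Units.val_one]
    have h1 : μ ^ (q - 1) * μ = μ := by
      rw [← pow_succ, Nat.sub_add_cancel (by omega), hμq]
    exact mul_right_cancel₀ hμ (by rw [h1, one_mul])
  rw [← heq] at hμmem
  obtain ⟨x0, hx0⟩ := hμmem
  -- the fibre over μ in the units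
  have hfib : Nat.card (f ⁻¹' {f x0}) = q + 1 := by
    rw [Nat.card_congr (f.fiberEquivKer x0), hker]
  refine (Nat.card_congr ?_).trans hfib
  refine
    { toFun := fun x => ⟨Units.mk0 x.1 (by
          intro h0
          have := x.2
          rw [h0, zero_pow (by omega)] at this
          exact hμ this.symm), by
          rw [Set.mem_preimage, Set.mem_singleton_iff, hx0]
          ext
          change ((Units.mk0 x.1 _) ^ (q + 1) : Fˣ).1 = μ
          simp only [Units.val_pow_eq_pow_val, Units.val_mk0]
          exact x.2⟩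
      invFun := fun y => ⟨(y.1 : F), by
          have hy : f y.1 = f x0 := y.2
          have hy' : f y.1 = Units.mk0 μ hμ := hy.trans hx0
          have h2 := congrArg Units.val hy'
          change ((y.1 ^ (q + 1) : Fˣ) : F) = _ at h2
          simpa using h2⟩
      left_inv := fun x => by simp
      right_inv := fun y => by
        apply Subtype.ext
        apply Units.ext
        simp }

end Cfsg.Agent.S0754
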