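import Cfsg.Statements.S0755
import Mathlib

set_option autoImplicit false
open Cfsg

namespace Cfsg.Agent.S0755

universe u v

/-- Norm surjectivity for an involution of a finite field (via Hilbert 90 and counting). -/
theorem exists_norm_eq {F : Type v} [Field F] [Finite F] (σ : F →+* F) (hσ : σ ≠ RingHom.id F)
    (hσ2 : ∀ a : F, σ (σ a) = a) (c : F) (hc : σ c = c) : ∃ a : F, a * σ a = c := by
  by_cases hc0 : c = 0
  · exact ⟨0, by simp [hc0]⟩
  let S : Fˣ →* Fˣ := Units.map (σ : F →* F)
  have hS : ∀ a : Fˣ, ((S a : Fˣ) : F) = σ (a : F) := fun a => rfl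
  have hSS : ∀ a : Fˣ, S (S a) = a := fun a => Units.ext (by simp [hS, hσ2])
  let N : Fˣ →* Fˣ := MonoidHom.id Fˣ * S
  let φ : Fˣ →* Fˣ := MonoidHom.id Fˣ / S
  have hN : ∀ a, N a = a * S a := fun a => rfl
  have hφ : ∀ a, φ a = a / S a := fun a => rfl
  obtain ⟨t, ht⟩ : ∃ t : F, σ t ≠ t := by
    by_contra h
    push Not at h
    exact hσ (RingHom.ext h)
  have h1 : φ.range = N.ker := by
    ext a
    rw [MonoidHom.mem_range, MonoidHom.mem_ker]
    constructor
    · rintro ⟨b, rfl⟩
      rw [hN, hφ, map_div, hSS]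
      rw [div_mul_div_comm, mul_comm, div_self']
    · intro ha
      rw [hN] at ha
      have ha' : (a : F) * σ (a : F) = 1 := by
        have := congrArg (fun u : Fˣ => (u : F)) ha
        simpa [hS] using this
      by_cases h : (1 : F) + a = 0
      · -- a = -1
        have hb : t - σ t ≠ 0 := fun h0 => ht (sub_eq_zero.mp h0).symm
        refine ⟨Units.mk0 _ hb, ?_⟩
        apply Units.ext
        rw [hφ]
        simp only [Units.val_div_eq_div_val, hS, Units.val_mk0, map_sub, hσ2]
        have hnz : σ t - t ≠ 0 := fun h0 => ht (sub_eq_zero.mp h0)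
        rw [div_eq_iff hnz]
        have : (a : F) = -1 := by linear_combination h
        rw [this]; ring
      · refine ⟨Units.mk0 _ h, ?_⟩
        apply Units.ext
        rw [hφ]
        simp only [Units.val_div_eq_div_val, hS, Units.val_mk0, map_add, map_one]
        have ha0 : (a : F) ≠ 0 := a.ne_zero
        have hσa : σ (a : F) = (a : F)⁻¹ := by
          field_simp
          linear_combination ha'
        rw [hσa]
        have : (1 : F) + (a : F)⁻¹ ≠ 0 := by
          intro h0
          apply h
          field_simp at h0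
          linear_combination h0
        rw [div_eq_iff this]
        field_simp
        ring
  have h2 : N.range ≤ φ.ker := by
    rintro _ ⟨a, rfl⟩
    rw [MonoidHom.mem_ker, hφ, hN, map_mul, hSS, mul_comm, div_self']
  have c1 : Nat.card φ.ker * Nat.card φ.range = Nat.card Fˣ := by
    rw [← Subgroup.index_ker, Subgroup.card_mul_index]
  have c2 : Nat.card N.ker * Nat.card N.range = Nat.card Fˣ := by
    rw [← Subgroup.index_ker, Subgroup.card_mul_index]
  have c3 : Nat.card φ.ker = Nat.card N.range := by
    rw [h1] at c1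
    have hpos : 0 < Nat.card N.ker := Nat.card_pos
    have : Nat.card N.ker * Nat.card φ.ker = Nat.card N.ker * Nat.card N.range := by
      rw [c2, mul_comm, c1]
    exact Nat.eq_of_mul_eq_mul_left hpos this
  have h3 : N.range = φ.ker := Subgroup.eq_of_le_of_card_ge h2 c3.le
  have hcm : Units.mk0 c hc0 ∈ φ.ker := by
    rw [MonoidHom.mem_ker, hφ]
    apply Units.ext
    simp [hS, hc, hc0]
  rw [← h3] at hcm
  obtain ⟨a, ha⟩ := hcm
  refine ⟨a, ?_⟩
  have := congrArg (fun u : Fˣ => (u : F)) ha
  simpa [hN, hS] using this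

/-- a symmetric sesquilinear form which is left separating is right separating -/
theorem sepRight_of_sepLeft {F : Type v} {V : Type u} [Field F] [AddCommGroup V] [Module F V]
    {σ : F →+* F} (B : V →ₛₗ[σ] V →ₗ[F] F) (hS : B.IsSymm) (hB : B.SeparatingLeft) :
    B.SeparatingRight := by
  intro y hy
  apply hB y
  intro x
  rw [← hS.eq x y, hy x, map_zero]

/-- existence of an anisotropic vector -/
theorem exists_anisotropic {F : Type v} {V : Type u} [Field F] [AddCommGroup V] [Module F V]
    [Nontrivial V] (σ : F →+* F) (hσ : σ ≠ RingHom.id F)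
    (B : V →ₛₗ[σ] V →ₗ[F] F) (hS : B.IsSymm) (hB : B.SeparatingLeft) :
    ∃ v : V, B v v ≠ 0 := by
  by_contra hall
  push Not at hall
  obtain ⟨x, hx⟩ := exists_ne (0 : V)
  obtain ⟨y, hy⟩ : ∃ y, B x y ≠ 0 := by
    by_contra h
    push Not at h
    exact hx (hB x h)
  have key : ∀ t : F, t + σ t = 0 := by
    intro t
    have h := hall (x + (t / B x y) • y)
    simp only [map_add, LinearMap.add_apply, hall x, hall, zero_add, add_zero] at h
    rw [← hS.eq x ((t / B x y) • y), map_smul, smul_eq_mul, div_mul_cancel₀ _ hy] at h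
    rw [add_comm]; exact h
  apply hσ
  ext t
  have h1 := key 1
  rw [map_one] at h1
  have h2 := key t
  simp only [RingHom.id_apply]
  have : t + t = 0 := by
    have : (1 + 1) * t = 0 := by rw [h1, zero_mul]
    linear_combination this
  linear_combination h2 - this

/-- orthonormal families -/
theorem exists_orthonormal {F : Type v} [Field F] [Finite F] (σ : F →+* F) (hσ : σ ≠ RingHom.id F)
    (hσ2 : ∀ a : F, σ (σ a) = a) :
    ∀ (n : ℕ) (V : Type u) [AddCommGroup V] [Module F V] [FiniteDimensional F V]
      (B : V →ₛₗ[σ] V →ₗ[F] F), B.IsSymm → B.SeparatingLeft → Module.finrank F V = n →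
      ∃ v : Fin n → V, ∀ i j, B (v i) (v j) = if i = j then 1 else 0 := by
  intro n
  induction n with
  | zero =>
    intro V _ _ _ B _ _ _
    exact ⟨Fin.elim0, fun i => i.elim0⟩
  | succ n ih =>
    intro V _ _ _ B hS hB hn
    have : Nontrivial V := Module.nontrivial_of_finrank_pos (R := F) (by omega)
    obtain ⟨v0, hv0⟩ := exists_anisotropic σ hσ B hS hB
    obtain ⟨a, ha⟩ := exists_norm_eq σ hσ hσ2 (B v0 v0)⁻¹ (by rw [map_inv₀, hS.eq])
    obtain ⟨u, hu⟩ : ∃ u : V, u = a • v0 := ⟨_, rfl⟩
    have huu : B u u = 1 := by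
      rw [hu, LinearMap.map_smulₛₗ₂, map_smul, smul_eq_mul, smul_eq_mul, ← mul_assoc,
        mul_comm (σ a), ha, inv_mul_cancel₀ hv0]
    let W : Submodule F V := LinearMap.ker (B u)
    have hWmem : ∀ x, x ∈ W ↔ B u x = 0 := fun x => LinearMap.mem_ker
    have hWmem' : ∀ x, x ∈ W → B x u = 0 := by
      intro x hx
      rw [← hS.eq u x, (hWmem x).1 hx, map_zero]
    have hsurj : Function.Surjective (B u) := by
      intro c
      exact ⟨c • u, by rw [map_smul, huu, smul_eq_mul, mul_one]⟩
    have hrank : Module.finrank F W = n := by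
      have := LinearMap.finrank_range_add_finrank_ker (B u)
      rw [LinearMap.range_eq_top.2 hsurj] at this
      simp at this
      change 1 + Module.finrank F W = Module.finrank F V at this
      omega
    have hS' : (B.domRestrict₁₂ W W).IsSymm := hS.domRestrict W
    have hB' : (B.domRestrict₁₂ W W).SeparatingLeft := by
      intro w hw
      have hw' : ∀ y ∈ W, B w y = 0 := by
        intro y hy
        have := hw ⟨y, hy⟩
        rw [LinearMap.domRestrict₁₂_apply] at this
        exact this
      have : (w : V) = 0 := by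
        apply hB
        intro x
        have hx : x - (B u x) • u ∈ W := by
          rw [hWmem, map_sub, map_smul, huu, smul_eq_mul, mul_one, sub_self]
        have h1 := hw' _ hx
        rw [map_sub, map_smul, hWmem' w w.2, smul_zero, sub_zero] at h1
        exact h1
      exact Subtype.ext this
    obtain ⟨w, hw⟩ := ih W (B.domRestrict₁₂ W W) hS' hB' hrank
    refine ⟨Fin.cons u (fun i => (w i : V)), ?_⟩
    intro i j
    refine Fin.cases ?_ (fun i => ?_) i <;> refine Fin.cases ?_ (fun j => ?_) j
    · simpa using huu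
    · simp only [Fin.cons_zero, Fin.cons_succ]
      rw [(hWmem _).1 (w j).2, if_neg (Fin.succ_ne_zero j).symm]
    · simp only [Fin.cons_zero, Fin.cons_succ]
      rw [hWmem' _ (w i).2, if_neg (Fin.succ_ne_zero i)]
    · simp only [Fin.cons_succ, Fin.succ_inj]
      have := hw i j
      rw [LinearMap.domRestrict₁₂_apply] at this
      exact this

theorem result {F V : Type*} [Field F] [Finite F] [AddCommGroup V] [Module F V] [FiniteDimensional F V] (σ : F →+* F) (hσ : σ ≠ RingHom.id F) (hσ2 : ∀ a : F, σ (σ a) = a) (B : V →ₛₗ[σ] V →ₗ[F] F) (hS : B.IsSymm) (hB : B.Nondegenerate) : ∃ b : Module.Basis (Fin (Module.finrank F V)) F V, ∀ i j, B (b i) (b j) = if i = j then 1 else 0 := by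
  obtain ⟨v, hv⟩ := exists_orthonormal σ hσ hσ2 (Module.finrank F V) V B hS hB.1 rfl
  have hli : LinearIndependent F v := by
    rw [Fintype.linearIndependent_iff]
    intro g hg j
    have := congrArg (B (v j)) hg
    simp only [map_sum, map_smul, hv, smul_eq_mul, map_zero] at this
    simpa using this
  have hsp := hli.span_eq_top_of_card_eq_finrank' (by simp)
  refine ⟨Module.Basis.mk hli hsp.ge, ?_⟩
  simp only [Module.Basis.coe_mk]
  exact hv

end Cfsg.Agent.S0755
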