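import Cfsg.Statements.S0277
import Mathlib
import Cfsg.Agent.Lib.Helper5.Herm
import Cfsg.Agent.Lib.Helper5.HermCount
import Cfsg.Agent.Lib.Helper5.UnitaryCount

set_option autoImplicit false
open Cfsg

namespace Cfsg.Agent.S0277

open Matrix Cfsg.Agent.Lib.Helper5.Herm Cfsg.Agent.Lib.Helper5.HermCount
  Cfsg.Agent.Lib.Helper5.UnitaryCount

section
variable {F : Type*} [Field F]

/-- the standard Hermitian form as a sesquilinear map (semilinear in the first variable) -/
noncomputable def stdB (n : ℕ) (σ : F →+* F) : (Fin n → F) →ₛₗ[σ] (Fin n → F) →ₗ[F] F :=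
  LinearMap.mk₂'ₛₗ σ (RingHom.id F) (fun x y => ∑ i, σ (x i) * y i)
    (fun x x' y => by
      simp only [Pi.add_apply, map_add, add_mul, Finset.sum_add_distrib])
    (fun c x y => by
      simp only [Pi.smul_apply, smul_eq_mul, map_mul, Finset.mul_sum, mul_assoc])
    (fun x y y' => by
      simp only [Pi.add_apply, mul_add, Finset.sum_add_distrib])
    (fun c x y => by
      simp only [Pi.smul_apply, smul_eq_mul, RingHom.id_apply, Finset.mul_sum]
      exact Finset.sum_congr rfl (fun i _ => by ring))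

theorem stdB_apply (n : ℕ) (σ : F →+* F) (x y : Fin n → F) :
    stdB n σ x y = ∑ i, σ (x i) * y i := rfl

theorem stdB_isSymm (n : ℕ) (σ : F →+* F) (hσ2 : ∀ a : F, σ (σ a) = a) : (stdB n σ).IsSymm := by
  constructor
  intro x y
  rw [stdB_apply, stdB_apply, map_sum]
  exact Finset.sum_congr rfl (fun i _ => by rw [map_mul, hσ2, mul_comm])

theorem stdB_sepLeft (n : ℕ) (σ : F →+* F) : (stdB n σ).SeparatingLeft := by
  intro x hx
  funext i
  have := hx (Pi.single i 1)
  rw [stdB_apply, Finset.sum_eq_single i] at this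
  · simpa using this
  · intro j _ hj
    simp [hj]
  · intro h
    exact absurd (Finset.mem_univ i) h

theorem stdB_eq_hermForm (n : ℕ) (σ : F →+* F) {q : ℕ} (hσ : ∀ x, σ x = x ^ q)
    (x y : Fin n → F) : stdB n σ x y = hermForm n F q y x := by
  rw [stdB_apply]
  unfold hermForm
  exact Finset.sum_congr rfl (fun i _ => by rw [hσ, mul_comm])

theorem mulVec_eq_sum_col (n : ℕ) (M : Matrix (Fin n) (Fin n) F) (u : Fin n → F) :
    M *ᵥ u = ∑ j, u j • (fun i => M i j) := by
  funext i
  simp [Matrix.mulVec, dotProduct, mul_comm]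

theorem stdB_mulVec (n : ℕ) (σ : F →+* F) (M : Matrix (Fin n) (Fin n) F)
    (hM : ∀ i j, stdB n σ (fun k => M k i) (fun k => M k j) = if i = j then 1 else 0)
    (u w : Fin n → F) : stdB n σ (M *ᵥ u) (M *ᵥ w) = stdB n σ u w := by
  rw [mulVec_eq_sum_col, mulVec_eq_sum_col]
  simp only [map_sum, LinearMap.sum_apply, LinearMap.map_smulₛₗ₂, map_smul, hM, smul_eq_mul,
    mul_ite, mul_one, mul_zero]
  rw [stdB_apply]
  refine Finset.sum_congr rfl (fun i _ => ?_)
  rw [Finset.sum_ite_eq' Finset.univ i, if_pos (Finset.mem_univ _), mul_comm]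

end

section
variable {F : Type*} [Field F] [Fintype F] {q : ℕ}

theorem exists_frob (hF : Fintype.card F = q ^ 2) :
    ∃ σ : F →+* F, (∀ x, σ x = x ^ q) ∧ σ ≠ RingHom.id F ∧ ∀ a, σ (σ a) = a := by
  classical
  obtain ⟨p, j, hp, hchar, hq⟩ := exists_char_pow hF
  have : Fact p.Prime := ⟨hp⟩
  have h1 : ∀ x, iterateFrobenius F p j x = x ^ q := fun x => by
    rw [iterateFrobenius_def, hq]
  refine ⟨iterateFrobenius F p j, h1, ?_, ?_⟩
  · intro hid
    have hall : ∀ x : F, x ^ q = x := fun x => by rw [← h1, hid]; rfl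
    have hK := card_Kx hF
    have : (Finset.univ.filter (fun d : F => d ≠ 0 ∧ d ^ q = d)) = Finset.univ.erase 0 := by
      ext d
      simp [hall]
    rw [this, Finset.card_erase_of_mem (Finset.mem_univ _), Finset.card_univ, hF] at hK
    have hq1 := one_lt_q hF
    have : q < q ^ 2 := by nlinarith
    omega
  · intro a
    rw [h1, h1, frob_frob hF]

/-- the unitary group is in bijection with orthonormal bases -/
noncomputable def equivON (hF : Fintype.card F = q ^ 2) (n : ℕ) (σ : F →+* F)
    (hσ : ∀ x, σ x = x ^ q) : GU n F q ≃ ON (stdB n σ) n where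
  toFun g := ⟨fun j i => (g.1 : Matrix (Fin n) (Fin n) F) i j, by
    intro i j
    have hq : q ≠ 0 := by have := one_lt_q hF; omega
    have h := g.2 (Pi.single j 1) (Pi.single i 1)
    rw [stdB_eq_hermForm n σ hσ]
    simp only [Units.coeHom_apply, Matrix.mulVec_single_one] at h
    rw [hermForm_single_left] at h
    have h2 : hermForm n F q (fun k => (g.1 : Matrix (Fin n) (Fin n) F) k j)
        (fun k => (g.1 : Matrix (Fin n) (Fin n) F) k i) = ((Pi.single i 1 : Fin n → F) j) ^ q := h
    rw [h2, Pi.single_apply]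
    split_ifs with h1 h3 h3
    · simp
    · exact absurd h1.symm h3
    · exact absurd h3.symm h1
    · simp [hq]⟩
  invFun v :=
    let M : Matrix (Fin n) (Fin n) F := Matrix.of (fun i j => v.1 j i)
    let N : Matrix (Fin n) (Fin n) F := Matrix.of (fun i j => σ (v.1 i j))
    have hNM : N * M = 1 := by
      ext i j
      rw [Matrix.mul_apply, Matrix.one_apply]
      have := v.2 i j
      rw [stdB_apply] at this
      exact this
    ⟨⟨M, N, mul_eq_one_comm.1 hNM, hNM⟩, by
      intro u w
      change hermForm n F q (M *ᵥ u) (M *ᵥ w) = hermForm n F q u w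
      rw [← stdB_eq_hermForm n σ hσ, ← stdB_eq_hermForm n σ hσ]
      exact stdB_mulVec n σ M (fun i j => v.2 i j) w u⟩
  left_inv g := by
    apply Subtype.ext
    apply Units.ext
    rfl
  right_inv v := by
    apply Subtype.ext
    rfl

theorem unitCount_eq (hF : Fintype.card F = q ^ 2) (σ : F →+* F) (hσ : ∀ x, σ x = x ^ q) (k : ℕ) :
    unitCount σ k = (uz q k).1 := by
  rw [← (cnt_eq_uz hF k).1 1 one_ne_zero (one_pow q)]
  unfold unitCount cnt
  simp only [hσ, ← pow_succ]

theorem uz_formula (hq : 2 ≤ q) (i : ℕ) :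
    (uz q (i + 1)).1 = q ^ i * (if Even i then q ^ (i + 1) + 1 else q ^ (i + 1) - 1) := by
  have h := (uz_closed hq (i + 1)).1
  have hq0 : (q : ℤ) ≠ 0 := by
    have : (2 : ℤ) ≤ q := by exact_mod_cast hq
    omega
  have h1 : 1 ≤ q ^ (i + 1) := Nat.one_le_pow _ _ (by omega)
  apply Nat.cast_injective (R := ℤ)
  apply mul_left_cancel₀ hq0
  rw [h]
  split_ifs with he
  · have ho : Odd (i + 1) := he.add_one
    rw [ho.neg_one_pow]
    push_cast
    ring
  · have he' : Even (i + 1) := by
      rw [Nat.even_add_one]; exact he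
    rw [he'.neg_one_pow]
    push_cast [h1]
    ring

end

theorem result {F : Type*} [Field F] [Fintype F] {q : ℕ} (hF : Fintype.card F = q ^ 2) (n : ℕ) : Nat.card (Cfsg.GU n F q) = q ^ (n * (n - 1) / 2) * ∏ i ∈ Finset.range n, (if Even i then q ^ (i + 1) + 1 else q ^ (i + 1) - 1) := by
  obtain ⟨σ, hσ, hne, hσ2⟩ := exists_frob hF
  have hq := one_lt_q hF
  rw [Nat.card_congr (equivON hF n σ hσ), card_ON hne hσ2 n _ (stdB n σ) (stdB_isSymm n σ hσ2)
    (stdB_sepLeft n σ) (by simp)]
  rw [Finset.prod_congr rfl (fun i _ => (unitCount_eq hF σ hσ (i + 1)).trans (uz_formula hq i)),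
    Finset.prod_mul_distrib, Finset.prod_pow_eq_pow_sum, Finset.sum_range_id]

end Cfsg.Agent.S0277
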