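import Cfsg.Statements.S0278
import Mathlib
import Cfsg.Agent.Lib.Helper5.Herm
import Cfsg.Agent.Lib.Helper5.HermCount
import Cfsg.Agent.Lib.Helper5.UnitaryCount
import Cfsg.Agent.S0277

set_option autoImplicit false
open Cfsg

namespace Cfsg.Agent.S0278

open Matrix Cfsg.Agent.Lib.Helper5.Herm Cfsg.Agent.Lib.Helper5.HermCount
  Cfsg.Agent.Lib.Helper5.UnitaryCount Cfsg.Agent.S0277

variable {F : Type*} [Field F] [Fintype F] {q : ℕ}

/-- the determinant on `GU` -/
noncomputable def detGU (n : ℕ) (F : Type*) [Field F] (q : ℕ) : GU n F q →* Fˣ :=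
  Matrix.GeneralLinearGroup.det.comp (GU n F q).subtype

/-- elements of norm one -/
def N1 (F : Type*) [Field F] (q : ℕ) : Subgroup Fˣ := (powMonoidHom (q + 1) : Fˣ →* Fˣ).ker

theorem mem_N1 (a : Fˣ) : a ∈ N1 F q ↔ (a : F) ^ (q + 1) = 1 := by
  rw [N1, MonoidHom.mem_ker, powMonoidHom_apply, ← Units.val_pow_eq_pow_val, Units.val_eq_one]

theorem card_N1 (hF : Fintype.card F = q ^ 2) : Nat.card (N1 F q) = q + 1 := by
  rw [← Cfsg.Agent.S0754.result hF 1 one_ne_zero (one_pow q)]
  apply Nat.card_congr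
  exact
    { toFun := fun a => ⟨(a.1 : F), (mem_N1 a.1).1 a.2⟩
      invFun := fun x => ⟨Units.mk0 x.1 (by
        intro h
        have := x.2
        rw [h, zero_pow (by omega)] at this
        exact zero_ne_one this), (mem_N1 _).2 x.2⟩
      left_inv := fun a => Subtype.ext (Units.ext rfl)
      right_inv := fun x => Subtype.ext rfl }

theorem det_mem_N1 (hF : Fintype.card F = q ^ 2) (n : ℕ) (g : GU n F q) :
    detGU n F q g ∈ N1 F q := by
  obtain ⟨σ, hσ, hne, hσ2⟩ := exists_frob hF
  rw [mem_N1]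
  set M : Matrix (Fin n) (Fin n) F := (g.1 : Matrix (Fin n) (Fin n) F) with hM
  have hNM : (σ.mapMatrix M)ᵀ * M = 1 := by
    ext i j
    rw [Matrix.mul_apply, Matrix.one_apply]
    have := (equivON hF n σ hσ g).2 i j
    rw [stdB_apply] at this
    exact this
  have hdet := congrArg Matrix.det hNM
  rw [Matrix.det_mul, Matrix.det_transpose, ← RingHom.map_det, Matrix.det_one, hσ] at hdet
  change (M.det) ^ (q + 1) = 1
  rw [pow_succ]
  exact hdet

theorem exists_det_eq (n : ℕ) (hn : 1 ≤ n) (a : Fˣ)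
    (ha : a ∈ N1 F q) : ∃ g : GU n F q, detGU n F q g = a := by
  rw [mem_N1] at ha
  let i0 : Fin n := ⟨0, hn⟩
  let d : Fin n → F := Function.update (fun _ => (1 : F)) i0 (a : F)
  have hd : ∀ i, d i ^ (q + 1) = 1 := by
    intro i
    by_cases h : i = i0
    · subst h; simp [d, ha]
    · simp [d, h]
  have hdet : (Matrix.diagonal d).det = (a : F) := by
    rw [Matrix.det_diagonal]
    simp only [d]
    rw [Finset.prod_update_of_mem (Finset.mem_univ _)]
    simp
  have hne : (Matrix.diagonal d).det ≠ 0 := by rw [hdet]; exact a.ne_zero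
  refine ⟨⟨Matrix.GeneralLinearGroup.mkOfDetNeZero (Matrix.diagonal d) hne, ?_⟩, ?_⟩
  · intro u w
    change hermForm n F q (Matrix.diagonal d *ᵥ u) (Matrix.diagonal d *ᵥ w) = hermForm n F q u w
    unfold hermForm
    refine Finset.sum_congr rfl (fun i _ => ?_)
    rw [Matrix.mulVec_diagonal, Matrix.mulVec_diagonal, mul_pow]
    have := hd i
    rw [pow_succ] at this
    calc d i * u i * (d i ^ q * w i ^ q) = (d i ^ q * d i) * (u i * w i ^ q) := by ring
      _ = u i * w i ^ q := by rw [this, one_mul]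
  · apply Units.ext
    exact hdet

/-- the kernel of the determinant on `GU` is `SU` -/
noncomputable def equivKer (n : ℕ) : SU n F q ≃ (detGU n F q).ker where
  toFun s := ⟨⟨Matrix.SpecialLinearGroup.toGL s.1, s.2⟩, by
    rw [MonoidHom.mem_ker]
    apply Units.ext
    exact s.1.2⟩
  invFun g := ⟨⟨(g.1.1 : Matrix (Fin n) (Fin n) F), by
    have := g.2
    rw [MonoidHom.mem_ker] at this
    exact congrArg Units.val this⟩, g.1.2⟩
  left_inv s := by
    apply Subtype.ext
    apply Subtype.ext
    rfl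
  right_inv g := by
    apply Subtype.ext
    apply Subtype.ext
    apply Units.ext
    rfl

theorem result {F : Type*} [Field F] [Fintype F] {q : ℕ} (hF : Fintype.card F = q ^ 2) (n : ℕ) (hn : 1 ≤ n) : (q + 1) * Nat.card (Cfsg.SU n F q) = q ^ (n * (n - 1) / 2) * ∏ i ∈ Finset.range n, (if Even i then q ^ (i + 1) + 1 else q ^ (i + 1) - 1) := by
  rw [← Cfsg.Agent.S0277.result hF n, Nat.card_congr (equivKer n),
    ← Subgroup.card_mul_index (detGU n F q).ker, Subgroup.index_ker, mul_comm]
  congr 1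
  have hr : (detGU n F q).range = N1 F q := by
    ext a
    constructor
    · rintro ⟨g, rfl⟩
      exact det_mem_N1 hF n g
    · intro ha
      exact exists_det_eq n hn a ha
  rw [hr, card_N1 hF]

end Cfsg.Agent.S0278
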