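import Cfsg.Statements.S0279
import Mathlib
import Cfsg.Agent.Lib.Helper5.Herm
import Cfsg.Agent.Lib.Helper5.HermCount
import Cfsg.Agent.S0278

set_option autoImplicit false
open Cfsg

namespace Cfsg.Agent.S0279

open Matrix Cfsg.Agent.Lib.Helper5.Herm Cfsg.Agent.Lib.Helper5.HermCount Cfsg.Agent.S0278

variable {F : Type*} [Field F] [Fintype F] {q : ℕ}

theorem diag_pres (n : ℕ) (d : Fin n → F) (hd : ∀ i, d i ^ (q + 1) = 1) (u w : Fin n → F) :
    hermForm n F q (Matrix.diagonal d *ᵥ u) (Matrix.diagonal d *ᵥ w) = hermForm n F q u w := by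
  unfold hermForm
  refine Finset.sum_congr rfl (fun i _ => ?_)
  rw [Matrix.mulVec_diagonal, Matrix.mulVec_diagonal, mul_pow]
  have := hd i
  rw [pow_succ] at this
  calc d i * u i * (d i ^ q * w i ^ q) = (d i ^ q * d i) * (u i * w i ^ q) := by ring
    _ = u i * w i ^ q := by rw [this, one_mul]

theorem swap_pres (n : ℕ) (i j : Fin n) (u w : Fin n → F) :
    hermForm n F q (Matrix.swap F i j *ᵥ u) (Matrix.swap F i j *ᵥ w) = hermForm n F q u w := by
  rw [Matrix.swap_mulVec, Matrix.swap_mulVec]
  unfold hermForm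
  exact Equiv.sum_comp (Equiv.swap i j) (fun k => u k * w k ^ q)

theorem exists_norm_one_sq_ne (hF : Fintype.card F = q ^ 2) :
    ∃ a : F, a ^ (q + 1) = 1 ∧ a * a ≠ 1 := by
  classical
  by_contra hcon
  push Not at hcon
  have hq := one_lt_q hF
  have h1 := card_norm_fiber hF (1 : F)
  rw [if_neg one_ne_zero, if_pos (one_pow q)] at h1
  have hsub : (Finset.univ.filter (fun x : F => x ^ (q + 1) = 1)) ⊆ {1, -1} := by
    intro x hx
    have hx2 := hcon x (Finset.mem_filter.1 hx).2
    have : (x - 1) * (x + 1) = 0 := by linear_combination hx2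
    rcases mul_eq_zero.1 this with h | h
    · simp [sub_eq_zero.1 h]
    · simp [eq_neg_of_add_eq_zero_left h]
  have := Finset.card_le_card hsub
  have h2 : ({1, -1} : Finset F).card ≤ 2 := Finset.card_le_two
  omega

theorem neg_one_pow_q (hF : Fintype.card F = q ^ 2) : (-1 : F) ^ (q + 1) = 1 := by
  rw [pow_succ, frob_neg hF, one_pow]; ring

/-- central elements are scalar -/
theorem central_scalar (hF : Fintype.card F = q ^ 2) (n : ℕ) (z : SU n F q)
    (hz : ∀ s : SU n F q, s * z = z * s) :
    (∀ i j, i ≠ j → (z.1.1 : Matrix (Fin n) (Fin n) F) i j = 0) ∧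
      ∀ i j, (z.1.1 : Matrix (Fin n) (Fin n) F) i i = z.1.1 j j := by
  classical
  have hcomm : ∀ (M : Matrix (Fin n) (Fin n) F) (hdet : M.det = 1)
      (hM : ∀ u w, hermForm n F q (M *ᵥ u) (M *ᵥ w) = hermForm n F q u w),
      M * z.1.1 = z.1.1 * M := by
    intro M hdet hM
    have := hz ⟨⟨M, hdet⟩, hM⟩
    exact congrArg (fun t : SU n F q => (t.1.1 : Matrix (Fin n) (Fin n) F)) this
  constructor
  · intro i j hij
    obtain ⟨a, ha, ha2⟩ := exists_norm_one_sq_ne hF
    have ha0 : a ≠ 0 := by
      intro h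
      rw [h, zero_pow (by omega)] at ha
      exact zero_ne_one ha
    let d : Fin n → F := fun k => if k = i then a else if k = j then a⁻¹ else 1
    have hdi : d i = a := by simp [d]
    have hdj : d j = a⁻¹ := by simp [d, hij.symm]
    have hd : ∀ k, d k ^ (q + 1) = 1 := by
      intro k
      simp only [d]
      split_ifs
      · exact ha
      · rw [inv_pow, ha, inv_one]
      · exact one_pow _
    have hdet : (Matrix.diagonal d).det = 1 := by
      rw [Matrix.det_diagonal, Finset.prod_eq_mul i j hij, hdi, hdj, mul_inv_cancel₀ ha0]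
      · intro k _ hk
        simp [d, hk.1, hk.2]
      · intro h; exact absurd (Finset.mem_univ _) h
      · intro h; exact absurd (Finset.mem_univ _) h
    have h := hcomm _ hdet (diag_pres n d hd)
    have h2 := congrFun (congrFun h i) j
    rw [Matrix.diagonal_mul, Matrix.mul_diagonal, hdi, hdj] at h2
    have h3 : (z.1.1 : Matrix (Fin n) (Fin n) F) i j * (a * a - 1) = 0 := by
      have : a * (z.1.1 : Matrix (Fin n) (Fin n) F) i j * a = z.1.1 i j := by
        rw [h2, mul_assoc, inv_mul_cancel₀ ha0, mul_one]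
      linear_combination this
    rcases mul_eq_zero.1 h3 with h4 | h4
    · exact h4
    · exact absurd (sub_eq_zero.1 h4) ha2
  · intro i j
    by_cases hij : i = j
    · subst hij; rfl
    let e : Fin n → F := fun k => if k = i then -1 else 1
    have hei : e i = -1 := by simp [e]
    have hej : e j = 1 := by simp [e, Ne.symm hij]
    have he : ∀ k, e k ^ (q + 1) = 1 := by
      intro k
      simp only [e]
      split_ifs
      · exact neg_one_pow_q hF
      · exact one_pow _
    have hdet : (Matrix.swap F i j * Matrix.diagonal e).det = 1 := by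
      rw [Matrix.det_mul, Matrix.det_diagonal, Finset.prod_eq_single i, hei, Matrix.swap,
        Matrix.det_permutation, Equiv.Perm.sign_swap hij]
      · simp
      · intro k _ hk
        simp [e, hk]
      · intro h; exact absurd (Finset.mem_univ _) h
    have hpres : ∀ u w, hermForm n F q ((Matrix.swap F i j * Matrix.diagonal e) *ᵥ u)
        ((Matrix.swap F i j * Matrix.diagonal e) *ᵥ w) = hermForm n F q u w := by
      intro u w
      rw [← Matrix.mulVec_mulVec, ← Matrix.mulVec_mulVec, swap_pres, diag_pres n e he]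
    have h := hcomm _ hdet hpres
    have h2 := congrFun (congrFun h i) j
    rw [Matrix.mul_assoc, Matrix.swap_mul_apply_left, Matrix.diagonal_mul, hej, one_mul,
      ← Matrix.mul_assoc, Matrix.mul_diagonal, hej, mul_one, Matrix.mul_swap_apply_right] at h2
    exact h2.symm

/-- scalar matrices in `SU` -/
def scalarSU (n : ℕ) (a : F) (h1 : a ^ (q + 1) = 1) (hn : a ^ n = 1) : SU n F q :=
  ⟨⟨a • (1 : Matrix (Fin n) (Fin n) F), by
    rw [Matrix.det_smul, Matrix.det_one, Fintype.card_fin, hn, mul_one]⟩, by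
    intro u w
    change hermForm n F q ((a • (1 : Matrix (Fin n) (Fin n) F)) *ᵥ u)
      ((a • (1 : Matrix (Fin n) (Fin n) F)) *ᵥ w) = _
    rw [Matrix.smul_mulVec, Matrix.one_mulVec, Matrix.smul_mulVec, Matrix.one_mulVec,
      hermForm_smul_left, hermForm_smul_right, ← mul_assoc, ← pow_succ', h1, one_mul]⟩

theorem scalarSU_central (n : ℕ) (a : F) (h1 : a ^ (q + 1) = 1) (hn : a ^ n = 1) :
    scalarSU n a h1 hn ∈ Subgroup.center (SU n F q) := by
  rw [Subgroup.mem_center_iff]
  intro s
  apply Subtype.ext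
  apply Subtype.ext
  change (s.1.1 : Matrix (Fin n) (Fin n) F) * (a • (1 : Matrix (Fin n) (Fin n) F)) =
    (a • (1 : Matrix (Fin n) (Fin n) F)) * s.1.1
  rw [Matrix.mul_smul, Matrix.smul_mul, Matrix.mul_one, Matrix.one_mul]

theorem mem_ker_pow (n : ℕ) (a : N1 F q) :
    a ∈ (powMonoidHom n : N1 F q →* N1 F q).ker ↔ ((a : Fˣ) : F) ^ n = 1 := by
  rw [MonoidHom.mem_ker, powMonoidHom_apply, ← Units.val_pow_eq_pow_val, Units.val_eq_one,
    ← Subgroup.coe_pow]
  exact OneMemClass.coe_eq_one.symm

theorem card_center (hF : Fintype.card F = q ^ 2) (n : ℕ) (hn : 1 ≤ n) :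
    Nat.card (Subgroup.center (SU n F q)) = Nat.gcd n (q + 1) := by
  classical
  have hq := one_lt_q hF
  rw [Nat.gcd_comm, ← card_N1 hF, ← IsCyclic.card_powMonoidHom_ker (N1 F q) n]
  symm
  let i0 : Fin n := ⟨0, hn⟩
  let ψ : (powMonoidHom n : N1 F q →* N1 F q).ker → Subgroup.center (SU n F q) := fun a =>
    ⟨scalarSU n ((a.1 : Fˣ) : F) ((mem_N1 _).1 a.1.2) ((mem_ker_pow n a.1).1 a.2),
      scalarSU_central n _ _ _⟩
  apply Nat.card_congr
  refine Equiv.ofBijective ψ ⟨?_, ?_⟩
  · intro a b hab
    have h1 := congrArg (fun t : Subgroup.center (SU n F q) =>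
      (t.1.1.1 : Matrix (Fin n) (Fin n) F) i0 i0) hab
    simp only [ψ, scalarSU, Matrix.smul_apply, Matrix.one_apply_eq, smul_eq_mul, mul_one] at h1
    exact Subtype.ext (Subtype.ext (Units.ext h1))
  · intro z
    obtain ⟨h0, hd⟩ := central_scalar hF n z.1 (fun s => Subgroup.mem_center_iff.1 z.2 s)
    set a : F := (z.1.1.1 : Matrix (Fin n) (Fin n) F) i0 i0 with ha
    have hz : (z.1.1.1 : Matrix (Fin n) (Fin n) F) = a • 1 := by
      ext i j
      rw [Matrix.smul_apply, Matrix.one_apply, smul_eq_mul]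
      split_ifs with hij
      · subst hij
        rw [mul_one, ha]
        exact hd i i0
      · rw [mul_zero]
        exact h0 i j hij
    have hdet : a ^ n = 1 := by
      have := z.1.1.2
      rw [hz, Matrix.det_smul, Matrix.det_one, Fintype.card_fin, mul_one] at this
      exact this
    have h1 : a ^ (q + 1) = 1 := by
      have := z.1.2 (Pi.single i0 1) (Pi.single i0 1)
      change hermForm n F q ((z.1.1.1 : Matrix (Fin n) (Fin n) F) *ᵥ _)
        ((z.1.1.1 : Matrix (Fin n) (Fin n) F) *ᵥ _) = _ at this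
      rw [hz, Matrix.smul_mulVec, Matrix.one_mulVec, hermForm_smul_left, hermForm_smul_right,
        ← mul_assoc, ← pow_succ', hermForm_single_left, Pi.single_eq_same, one_pow, mul_one] at this
      exact this
    have ha0 : a ≠ 0 := by
      intro h
      rw [h, zero_pow (by omega)] at h1
      exact zero_ne_one h1
    refine ⟨⟨⟨Units.mk0 a ha0, (mem_N1 _).2 h1⟩, (mem_ker_pow n _).2 hdet⟩, ?_⟩
    apply Subtype.ext
    apply Subtype.ext
    apply Subtype.ext
    exact hz.symm

theorem result {F : Type*} [Field F] [Fintype F] {q : ℕ} (hF : Fintype.card F = q ^ 2) (n : ℕ) (hn : 3 ≤ n) : Nat.card (Subgroup.center (Cfsg.SU n F q)) = Nat.gcd n (q + 1) :=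
  card_center hF n (by omega)

end Cfsg.Agent.S0279
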