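import Cfsg.Statements.S0751
import Mathlib
import Cfsg.Agent.S0755

set_option autoImplicit false
open Cfsg

namespace Cfsg.Agent.S0751

universe u v

section
variable {F : Type v} {V : Type u} [Field F] [AddCommGroup V] [Module F V]
  {σ : F →+* F} (B : V →ₛₗ[σ] V →ₗ[F] F)

/-- sesquilinear expansion -/
theorem apply_sum_sum {ι κ : Type*} [Fintype ι] [Fintype κ] (x : ι → V) (y : κ → V) (c : ι → F)
    (d : κ → F) :
    B (∑ a, c a • x a) (∑ b, d b • y b) = ∑ a, ∑ b, σ (c a) * d b * B (x a) (y b) := by
  simp only [map_sum, LinearMap.sum_apply, LinearMap.map_smulₛₗ₂, map_smul, smul_eq_mul,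
    Finset.mul_sum]
  rw [Finset.sum_comm]
  apply Finset.sum_congr rfl
  intro a _
  apply Finset.sum_congr rfl
  intro b _
  ring

theorem apply_sum_left {ι : Type*} [Fintype ι] (x : ι → V) (c : ι → F) (w : V) :
    B (∑ a, c a • x a) w = ∑ a, σ (c a) * B (x a) w := by
  simp only [map_sum, LinearMap.sum_apply, LinearMap.map_smulₛₗ₂, smul_eq_mul]

theorem apply_sum_right {ι : Type*} [Fintype ι] (x : ι → V) (c : ι → F) (w : V) :
    B w (∑ a, c a • x a) = ∑ a, c a * B w (x a) := by
  simp only [map_sum, map_smul, smul_eq_mul]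

end

/-- trace surjectivity -/
theorem exists_trace_one {F : Type v} [Field F] (σ : F →+* F) (hσ : σ ≠ RingHom.id F)
    (hσ2 : ∀ a : F, σ (σ a) = a) :
    ∃ t : F, t + σ t = 1 := by
  by_cases h2 : (2 : F) = 0
  · obtain ⟨a, ha⟩ : ∃ a : F, σ a ≠ a := by
      by_contra h
      push Not at h
      exact hσ (RingHom.ext h)
    have hne : a + σ a ≠ 0 := by
      intro h0
      apply ha
      have : a + a = 0 := by linear_combination a * h2
      linear_combination h0 - this
    refine ⟨a / (a + σ a), ?_⟩
    rw [map_div₀, map_add, hσ2, add_comm (σ a) a, ← add_div, div_self hne]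
  · refine ⟨2⁻¹, ?_⟩
    rw [map_inv₀, map_ofNat]
    field_simp
    norm_num

section
variable {F : Type v} {V : Type u} [Field F] [Finite F] [AddCommGroup V] [Module F V]
  [FiniteDimensional F V] (σ : F →+* F) (hσ : σ ≠ RingHom.id F) (hσ2 : ∀ a : F, σ (σ a) = a)
  (B : V →ₛₗ[σ] V →ₗ[F] F) (hS : B.IsSymm) (hB : B.Nondegenerate)

include hσ hσ2 hS hB in
/-- Riesz representation -/
theorem exists_riesz (Λ : V →ₗ[F] F) : ∃ v, ∀ w, B v w = Λ w := by
  obtain ⟨b, hb⟩ := Cfsg.Agent.S0755.result σ hσ hσ2 B hS hB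
  refine ⟨∑ i, σ (Λ (b i)) • b i, fun w => ?_⟩
  have hw : w = ∑ i, b.repr w i • b i := (b.sum_repr w).symm
  conv_lhs => rw [hw]
  conv_rhs => rw [hw]
  rw [apply_sum_sum, map_sum]
  apply Finset.sum_congr rfl
  intro a _
  rw [Finset.sum_eq_single a]
  · rw [hb, if_pos rfl, hσ2, map_smul, smul_eq_mul]; ring
  · intro c _ hca
    rw [hb, if_neg (Ne.symm hca)]; ring
  · intro h; exact absurd (Finset.mem_univ a) h

omit [Finite F] [FiniteDimensional F V] in
/-- a functional with prescribed values on a linearly independent family -/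
theorem exists_functional {k : ℕ} (x : Fin k → V) (hx : LinearIndependent F x) (μ : Fin k → F) :
    ∃ Λ : V →ₗ[F] F, ∀ b, Λ (x b) = μ b := by
  let bX := Module.Basis.span hx
  obtain ⟨Λ, hΛ⟩ := LinearMap.exists_extend (bX.constr F μ)
  refine ⟨Λ, fun b => ?_⟩
  have h1 : (bX b : V) = x b := congrArg Subtype.val (Module.Basis.span_apply hx b)
  have h2 := congrArg (fun f => f (bX b)) hΛ
  simp only [LinearMap.comp_apply, Submodule.subtype_apply, Module.Basis.constr_basis] at h2
  rw [← h1]; exact h2

include hσ hσ2 hS hB in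
theorem extend_degenerate {k : ℕ} (x y : Fin k → V) (hx : LinearIndependent F x)
    (hy : LinearIndependent F y) (hG : ∀ a b, B (x a) (x b) = B (y a) (y b))
    (c : Fin k → F) (hc : c ≠ 0) (hrad : ∀ b, B (∑ a, c a • x a) (x b) = 0) :
    ∃ r s : V, (∀ b, B r (x b) = B s (y b)) ∧ B r r = B s s ∧
      r ∉ Submodule.span F (Set.range x) ∧ s ∉ Submodule.span F (Set.range y) := by
  classical
  obtain ⟨a₀, ha₀⟩ : ∃ a₀, c a₀ ≠ 0 := by
    by_contra h
    push Not at h
    exact hc (funext h)
  set μ : Fin k → F := Pi.single a₀ (c a₀)⁻¹ with hμ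
  have hcμ : ∑ b, c b * μ b = 1 := by
    rw [Finset.sum_eq_single a₀]
    · rw [hμ, Pi.single_eq_same, mul_inv_cancel₀ ha₀]
    · intro b _ hb; rw [hμ, Pi.single_eq_of_ne hb, mul_zero]
    · intro h; exact absurd (Finset.mem_univ a₀) h
  obtain ⟨Λx, hΛx⟩ := exists_functional x hx μ
  obtain ⟨Λy, hΛy⟩ := exists_functional y hy μ
  obtain ⟨r, hr⟩ := exists_riesz σ hσ hσ2 B hS hB Λx
  obtain ⟨s0, hs0⟩ := exists_riesz σ hσ hσ2 B hS hB Λy
  set rx := ∑ a, c a • x a with hrx
  set ry := ∑ a, c a • y a with hry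
  have hrad' : ∀ b, B ry (y b) = 0 := by
    intro b
    rw [hry, apply_sum_left]
    rw [← hrad b, hrx, apply_sum_left]
    apply Finset.sum_congr rfl
    intro a _
    rw [hG]
  have h1 : B r rx = 1 := by
    rw [hrx, apply_sum_right, ← hcμ]
    apply Finset.sum_congr rfl
    intro b _
    rw [hr, hΛx]
  have h2 : B s0 ry = 1 := by
    rw [hry, apply_sum_right, ← hcμ]
    apply Finset.sum_congr rfl
    intro b _
    rw [hs0, hΛy]
  have h2' : B ry s0 = 1 := by rw [← hS.eq, h2, map_one]
  have h3 : B ry ry = 0 := by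
    conv_lhs => rw [hry]
    rw [apply_sum_right]
    apply Finset.sum_eq_zero
    intro b _
    rw [hrad' b, mul_zero]
  set δ := B r r - B s0 s0 with hδ
  have hσδ : σ δ = δ := by rw [hδ, map_sub, hS.eq, hS.eq]
  obtain ⟨t, ht⟩ := exists_trace_one σ hσ hσ2
  refine ⟨r, s0 + (δ * t) • ry, ?_, ?_, ?_, ?_⟩
  · intro b
    rw [map_add, LinearMap.add_apply, LinearMap.map_smulₛₗ₂, hrad' b, smul_zero, add_zero, hr, hs0,
      hΛx, hΛy]
  · simp only [map_add, LinearMap.add_apply, LinearMap.map_smulₛₗ₂, map_smul, smul_eq_mul, h2, h2',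
      h3, map_mul, hσδ]
    rw [hδ]
    linear_combination (-(B r r - B s0 s0)) * ht
  · intro hmem
    obtain ⟨d, hd⟩ := (Submodule.mem_span_range_iff_exists_fun F).1 hmem
    have : B rx r = 0 := by
      rw [← hd, apply_sum_right]
      apply Finset.sum_eq_zero
      intro b _
      rw [hrad b, mul_zero]
    have h1' : B r rx = 0 := by rw [← hS.eq, this, map_zero]
    rw [h1] at h1'
    exact one_ne_zero h1'
  · intro hmem
    obtain ⟨d, hd⟩ := (Submodule.mem_span_range_iff_exists_fun F).1 hmem
    have h4 : B (s0 + (δ * t) • ry) ry = 1 := by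
      rw [map_add, LinearMap.add_apply, LinearMap.map_smulₛₗ₂, h3, smul_zero, add_zero, h2]
    have : B ry (s0 + (δ * t) • ry) = 0 := by
      rw [← hd, apply_sum_right]
      apply Finset.sum_eq_zero
      intro b _
      rw [hrad' b, mul_zero]
    have h4' : B (s0 + (δ * t) • ry) ry = 0 := by rw [← hS.eq, this, map_zero]
    rw [h4] at h4'
    exact one_ne_zero h4'

include hσ hσ2 hS hB in
theorem exists_unit_perp {k : ℕ} (x : Fin k → V) (hx : LinearIndependent F x)
    (hnd : ∀ c : Fin k → F, (∀ b, B (∑ a, c a • x a) (x b) = 0) → c = 0)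
    (hk : k < Module.finrank F V) :
    ∃ r : V, (∀ b, B r (x b) = 0) ∧ B r r = 1 := by
  let L : V →ₗ[F] (Fin k → F) := LinearMap.pi (fun a => B (x a))
  let Xp : Submodule F V := LinearMap.ker L
  have hXp : ∀ v, v ∈ Xp ↔ ∀ a, B (x a) v = 0 := by
    intro v
    simp only [Xp, L, LinearMap.mem_ker]
    constructor
    · intro h a
      exact congrFun h a
    · intro h
      funext a
      exact h a
  have hXp' : ∀ v, v ∈ Xp → ∀ a, B v (x a) = 0 := by
    intro v hv a
    rw [← hS.eq, (hXp v).1 hv a, map_zero]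
  set X : Submodule F V := Submodule.span F (Set.range x) with hX
  have hXk : Module.finrank F X = k := by
    rw [hX, finrank_span_eq_card hx]; simp
  have hdisj : X ⊓ Xp = ⊥ := by
    rw [eq_bot_iff]
    rintro v ⟨hvX, hvp⟩
    obtain ⟨c, rfl⟩ := (Submodule.mem_span_range_iff_exists_fun F).1 hvX
    have := hnd c (fun b => hXp' _ hvp b)
    rw [this]
    simp
  have hker : Module.finrank F V ≤ k + Module.finrank F Xp := by
    have h1 := LinearMap.finrank_range_add_finrank_ker L
    have h2 : Module.finrank F (LinearMap.range L) ≤ k := by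
      have := Submodule.finrank_le (LinearMap.range L)
      simpa using this
    change Module.finrank F (LinearMap.range L) + Module.finrank F Xp = Module.finrank F V at h1
    omega
  have hsup : X ⊔ Xp = ⊤ := by
    apply Submodule.eq_top_of_finrank_eq
    have h1 := Submodule.finrank_sup_add_finrank_inf_eq X Xp
    rw [hdisj, finrank_bot, add_zero, hXk] at h1
    have h2 := Submodule.finrank_le (X ⊔ Xp)
    omega
  have hB' : (B.domRestrict₁₂ Xp Xp).SeparatingLeft := by
    intro v hv
    have hv' : ∀ w ∈ Xp, B v w = 0 := by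
      intro w hw
      have := hv ⟨w, hw⟩
      rw [LinearMap.domRestrict₁₂_apply] at this
      exact this
    have : (v : V) = 0 := by
      apply hB.1
      intro u
      have hu : u ∈ X ⊔ Xp := by rw [hsup]; trivial
      obtain ⟨x', hx', w, hw, rfl⟩ := Submodule.mem_sup.1 hu
      rw [map_add, hv' w hw, add_zero]
      obtain ⟨c, rfl⟩ := (Submodule.mem_span_range_iff_exists_fun F).1 hx'
      rw [apply_sum_right]
      apply Finset.sum_eq_zero
      intro a _
      rw [hXp' _ v.2 a, mul_zero]
    exact Subtype.ext this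
  have hpos : 0 < Module.finrank F Xp := by omega
  obtain ⟨w, hw⟩ := Cfsg.Agent.S0755.exists_orthonormal σ hσ hσ2 (Module.finrank F Xp) Xp
    (B.domRestrict₁₂ Xp Xp) (hS.domRestrict Xp) hB' rfl
  refine ⟨(w ⟨0, hpos⟩ : V), fun b => hXp' _ (w ⟨0, hpos⟩).2 b, ?_⟩
  have := hw ⟨0, hpos⟩ ⟨0, hpos⟩
  rw [LinearMap.domRestrict₁₂_apply, if_pos rfl] at this
  exact this

include hσ hσ2 hS hB in
theorem witt_family : ∀ (d k : ℕ) (x y : Fin k → V), LinearIndependent F x →
    LinearIndependent F y → (∀ a b, B (x a) (x b) = B (y a) (y b)) →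
    k + d = Module.finrank F V →
    ∃ g : V ≃ₗ[F] V, (∀ u v, B (g u) (g v) = B u v) ∧ ∀ a, g (x a) = y a := by
  intro d
  induction d with
  | zero =>
    intro k x y hx hy hG hk
    have hspx := hx.span_eq_top_of_card_eq_finrank' (by simpa using hk)
    have hspy := hy.span_eq_top_of_card_eq_finrank' (by simpa using hk)
    let bx := Module.Basis.mk hx hspx.ge
    let bY := Module.Basis.mk hy hspy.ge
    have hbx : ∀ a, bx a = x a := fun a => by simp [bx]
    have hbY : ∀ a, bY a = y a := fun a => by simp [bY]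
    let g := bx.equiv bY (Equiv.refl _)
    have hg : ∀ u, g u = ∑ a, bx.repr u a • y a := by
      intro u
      conv_lhs => rw [← bx.sum_repr u]
      rw [map_sum]
      apply Finset.sum_congr rfl
      intro a _
      rw [map_smul, Module.Basis.equiv_apply, Equiv.refl_apply, hbY]
    refine ⟨g, ?_, ?_⟩
    · intro u v
      rw [hg u, hg v, apply_sum_sum]
      have hu : u = ∑ a, bx.repr u a • x a := by
        conv_lhs => rw [← bx.sum_repr u]
        simp only [hbx]
      have hv : v = ∑ a, bx.repr v a • x a := by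
        conv_lhs => rw [← bx.sum_repr v]
        simp only [hbx]
      conv_rhs => rw [hu, hv]
      rw [apply_sum_sum]
      apply Finset.sum_congr rfl
      intro a _
      apply Finset.sum_congr rfl
      intro b _
      rw [hG]
    · intro a
      rw [← hbx a, Module.Basis.equiv_apply, Equiv.refl_apply, hbY]
  | succ d ih =>
    intro k x y hx hy hG hk
    have key : ∃ r s : V, (∀ b, B r (x b) = B s (y b)) ∧ B r r = B s s ∧
        r ∉ Submodule.span F (Set.range x) ∧ s ∉ Submodule.span F (Set.range y) := by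
      by_cases hdeg : ∃ c : Fin k → F, c ≠ 0 ∧ ∀ b, B (∑ a, c a • x a) (x b) = 0
      · obtain ⟨c, hc, hrad⟩ := hdeg
        exact extend_degenerate σ hσ hσ2 B hS hB x y hx hy hG c hc hrad
      · push Not at hdeg
        have hndx : ∀ c : Fin k → F, (∀ b, B (∑ a, c a • x a) (x b) = 0) → c = 0 := by
          intro c hc
          by_contra h
          obtain ⟨b, hb⟩ := hdeg c h
          exact hb (hc b)
        have hndy : ∀ c : Fin k → F, (∀ b, B (∑ a, c a • y a) (y b) = 0) → c = 0 := by
          intro c hc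
          apply hndx c
          intro b
          rw [apply_sum_left]
          rw [← hc b, apply_sum_left]
          apply Finset.sum_congr rfl
          intro a _
          rw [hG]
        obtain ⟨r, hr1, hr2⟩ := exists_unit_perp σ hσ hσ2 B hS hB x hx hndx (by omega)
        obtain ⟨s, hs1, hs2⟩ := exists_unit_perp σ hσ hσ2 B hS hB y hy hndy (by omega)
        refine ⟨r, s, fun b => by rw [hr1, hs1], by rw [hr2, hs2], ?_, ?_⟩
        · intro hmem
          obtain ⟨c, hc⟩ := (Submodule.mem_span_range_iff_exists_fun F).1 hmem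
          have : B r r = 0 := by
            conv_lhs => rw [← hc]
            rw [apply_sum_right]
            apply Finset.sum_eq_zero
            intro b _
            rw [hc, hr1 b, mul_zero]
          rw [hr2] at this
          exact one_ne_zero this
        · intro hmem
          obtain ⟨c, hc⟩ := (Submodule.mem_span_range_iff_exists_fun F).1 hmem
          have : B s s = 0 := by
            conv_lhs => rw [← hc]
            rw [apply_sum_right]
            apply Finset.sum_eq_zero
            intro b _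
            rw [hc, hs1 b, mul_zero]
          rw [hs2] at this
          exact one_ne_zero this
    obtain ⟨r, s, h1, h2, h3, h4⟩ := key
    have hx' : LinearIndependent F (Fin.cons r x : Fin (k + 1) → V) :=
      linearIndependent_finCons.2 ⟨hx, h3⟩
    have hy' : LinearIndependent F (Fin.cons s y : Fin (k + 1) → V) :=
      linearIndependent_finCons.2 ⟨hy, h4⟩
    have hG' : ∀ a b, B ((Fin.cons r x : Fin (k + 1) → V) a) ((Fin.cons r x : Fin (k + 1) → V) b) =
        B ((Fin.cons s y : Fin (k + 1) → V) a) ((Fin.cons s y : Fin (k + 1) → V) b) := by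
      intro a b
      refine Fin.cases ?_ (fun a => ?_) a <;> refine Fin.cases ?_ (fun b => ?_) b
      · simpa using h2
      · simpa using h1 b
      · simp only [Fin.cons_zero, Fin.cons_succ]
        rw [← hS.eq, ← hS.eq s, h1 a]
      · simpa using hG a b
    obtain ⟨g, hg1, hg2⟩ := ih (k + 1) _ _ hx' hy' hG' (by omega)
    refine ⟨g, hg1, fun a => ?_⟩
    have := hg2 a.succ
    simpa using this

end

theorem result {F V : Type*} [Field F] [Finite F] [AddCommGroup V] [Module F V] [FiniteDimensional F V] (σ : F →+* F) (hσ : σ ≠ RingHom.id F) (hσ2 : ∀ a : F, σ (σ a) = a) (B : V →ₛₗ[σ] V →ₗ[F] F) (hS : B.IsSymm) (hB : B.Nondegenerate) (X Y : Submodule F V) (φ : X ≃ₗ[F] Y) (hφ : ∀ x x' : X, B (φ x : V) (φ x' : V) = B (x : V) (x' : V)) : ∃ g : V ≃ₗ[F] V, (∀ u v : V, B (g u) (g v) = B u v) ∧ ∀ x : X, g (x : V) = (φ x : V) := by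
  let b := Module.finBasis F X
  set k := Module.finrank F X with hk
  let x : Fin k → V := fun a => (b a : V)
  let y : Fin k → V := fun a => (φ (b a) : V)
  have hx : LinearIndependent F x := by
    have := b.linearIndependent
    exact this.map' X.subtype (Submodule.ker_subtype X)
  have hy : LinearIndependent F y := by
    have := b.linearIndependent
    have h2 := this.map' (Y.subtype ∘ₗ φ.toLinearMap) (by
      rw [LinearMap.ker_comp, Submodule.ker_subtype, Submodule.comap_bot]
      exact LinearEquiv.ker φ)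
    exact h2
  have hG : ∀ a c, B (x a) (x c) = B (y a) (y c) := fun a c => (hφ (b a) (b c)).symm
  have hle : k ≤ Module.finrank F V := Submodule.finrank_le X
  obtain ⟨g, hg1, hg2⟩ := witt_family σ hσ hσ2 B hS hB (Module.finrank F V - k) k x y hx hy hG
    (by omega)
  refine ⟨g, hg1, fun v => ?_⟩
  have hv : v = ∑ a, b.repr v a • b a := (b.sum_repr v).symm
  conv_lhs => rw [hv]
  conv_rhs => rw [hv]
  simp only [map_sum, map_smul, Submodule.coe_sum, Submodule.coe_smul]
  apply Finset.sum_congr rfl
  intro a _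
  rw [hg2 a]

end Cfsg.Agent.S0751
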