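import Cfsg.Statements.S0245
import Mathlib
import Cfsg.Agent.Lib.Helper5.Symp
import Cfsg.Agent.Lib.Helper5.SympCount

set_option autoImplicit false
open Cfsg

namespace Cfsg.Agent.S0245

open Matrix Cfsg.Agent.Lib.Helper5.Symp Cfsg.Agent.Lib.Helper5.SympCount

variable {F : Type*} [Field F] (m : ℕ)

/-- the symplectic form as a bilinear form -/
def sympBilin : LinearMap.BilinForm F (Fin m ⊕ Fin m → F) := Matrix.toBilin' (Matrix.J (Fin m) F)

theorem sympBilin_apply (u v : Fin m ⊕ Fin m → F) : sympBilin m u v = sympForm m F u v := by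
  rw [sympBilin, Matrix.toBilin'_apply']
  rfl

theorem sympBilin_isAlt : (sympBilin (F := F) m).IsAlt := fun v => by
  rw [sympBilin_apply, sympForm_self]

theorem sympBilin_nondegenerate : (sympBilin (F := F) m).Nondegenerate := by
  constructor
  · intro v hv
    by_contra h
    obtain ⟨x, hx⟩ := exists_sympForm_ne_zero m h
    apply hx
    rw [← sympBilin_apply]; exact hv x
  · intro v hv
    by_contra h
    obtain ⟨x, hx⟩ := exists_sympForm_ne_zero m h
    apply hx
    rw [sympForm_swap, ← sympBilin_apply, hv x, neg_zero]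

theorem sympForm_single (c c' : Fin m ⊕ Fin m) :
    sympForm m F (Pi.single c 1) (Pi.single c' 1) = Matrix.J (Fin m) F c c' := by
  unfold sympForm
  rw [Matrix.mulVec_single_one, single_one_dotProduct]
  rfl

theorem mem_of_basis {M : Matrix (Fin m ⊕ Fin m) (Fin m ⊕ Fin m) F}
    (h : ∀ c c', sympForm m F (M *ᵥ Pi.single c 1) (M *ᵥ Pi.single c' 1) =
      Matrix.J (Fin m) F c c') : M ∈ symplecticGroup (Fin m) F := by
  rw [SymplecticGroup.mem_iff']
  ext c c'
  have h1 := h c c'
  rw [sympForm_mulVec_mulVec, Matrix.mulVec_single_one, single_one_dotProduct] at h1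
  exact h1

theorem J_inr_inl (i j : Fin m) : Matrix.J (Fin m) F (Sum.inr i) (Sum.inl j) = if i = j then 1 else 0 := by
  simp [Matrix.J, Matrix.one_apply]
theorem J_inl_inr (i j : Fin m) : Matrix.J (Fin m) F (Sum.inl i) (Sum.inr j) = if i = j then -1 else 0 := by
  simp [Matrix.J, Matrix.one_apply]
  split_ifs <;> simp
theorem J_inl_inl (i j : Fin m) : Matrix.J (Fin m) F (Sum.inl i) (Sum.inl j) = 0 := by
  simp [Matrix.J]
theorem J_inr_inr (i j : Fin m) : Matrix.J (Fin m) F (Sum.inr i) (Sum.inr j) = 0 := by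
  simp [Matrix.J]

/-- the columns of a matrix -/
def colE (M : Matrix (Fin m ⊕ Fin m) (Fin m ⊕ Fin m) F) (i : Fin m) : Fin m ⊕ Fin m → F :=
  fun r => M r (Sum.inr i)
def colF (M : Matrix (Fin m ⊕ Fin m) (Fin m ⊕ Fin m) F) (j : Fin m) : Fin m ⊕ Fin m → F :=
  fun r => M r (Sum.inl j)

theorem colE_eq (M : Matrix (Fin m ⊕ Fin m) (Fin m ⊕ Fin m) F) (i : Fin m) :
    colE m M i = M *ᵥ Pi.single (Sum.inr i) 1 := by
  rw [Matrix.mulVec_single_one]; rfl
theorem colF_eq (M : Matrix (Fin m ⊕ Fin m) (Fin m ⊕ Fin m) F) (j : Fin m) :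
    colF m M j = M *ᵥ Pi.single (Sum.inl j) 1 := by
  rw [Matrix.mulVec_single_one]; rfl

theorem isSB_cols (A : symplecticGroup (Fin m) F) :
    IsSB (sympBilin (F := F) m) m (colE m A.1, colF m A.1) := by
  refine ⟨fun i j => ?_, fun i j => ?_, fun i j => ?_⟩
  · change sympBilin m (colE m A.1 i) (colF m A.1 j) = _
    rw [sympBilin_apply, colE_eq, colF_eq, sympForm_of_mem m A.2, sympForm_single, J_inr_inl]
  · change sympBilin m (colE m A.1 i) (colE m A.1 j) = _
    rw [sympBilin_apply, colE_eq, colE_eq, sympForm_of_mem m A.2, sympForm_single, J_inr_inr]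
  · change sympBilin m (colF m A.1 i) (colF m A.1 j) = _
    rw [sympBilin_apply, colF_eq, colF_eq, sympForm_of_mem m A.2, sympForm_single, J_inl_inl]

/-- the matrix with given columns -/
def ofCols (e f : Fin m → (Fin m ⊕ Fin m → F)) : Matrix (Fin m ⊕ Fin m) (Fin m ⊕ Fin m) F :=
  Matrix.of (fun r c => Sum.elim (fun j => f j r) (fun i => e i r) c)

theorem colE_ofCols (e f : Fin m → (Fin m ⊕ Fin m → F)) (i : Fin m) :
    colE m (ofCols m e f) i = e i := rfl
theorem colF_ofCols (e f : Fin m → (Fin m ⊕ Fin m → F)) (j : Fin m) :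
    colF m (ofCols m e f) j = f j := rfl

theorem ofCols_mem (e f : Fin m → (Fin m ⊕ Fin m → F)) (h : IsSB (sympBilin (F := F) m) m (e, f)) :
    ofCols m e f ∈ symplecticGroup (Fin m) F := by
  apply mem_of_basis
  obtain ⟨h1, h2, h3⟩ := h
  rintro (j | i) (j' | i')
  · rw [← colF_eq, ← colF_eq, colF_ofCols, colF_ofCols, J_inl_inl]
    have := h3 j j'
    rw [sympBilin_apply] at this
    exact this
  · rw [← colF_eq, ← colE_eq, colF_ofCols, colE_ofCols, J_inl_inr]
    have := h1 i' j
    rw [sympBilin_apply] at this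
    change sympForm m F (e i') (f j) = _ at this
    rw [sympForm_swap, this]
    by_cases h : i' = j
    · subst h; simp
    · rw [if_neg h, if_neg (Ne.symm h), neg_zero]
  · rw [← colE_eq, ← colF_eq, colE_ofCols, colF_ofCols, J_inr_inl]
    have := h1 i j'
    rw [sympBilin_apply] at this
    exact this
  · rw [← colE_eq, ← colE_eq, colE_ofCols, colE_ofCols, J_inr_inr]
    have := h2 i i'
    rw [sympBilin_apply] at this
    exact this

/-- symplectic matrices are symplectic bases -/
def equivSB : symplecticGroup (Fin m) F ≃ SB (sympBilin (F := F) m) m where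
  toFun A := ⟨(colE m A.1, colF m A.1), isSB_cols m A⟩
  invFun p := ⟨ofCols m p.1.1 p.1.2, ofCols_mem m p.1.1 p.1.2 p.2⟩
  left_inv := by
    intro A
    apply Subtype.ext
    ext r c
    rcases c with j | i <;> rfl
  right_inv := by
    rintro ⟨⟨e, f⟩, hp⟩
    rfl

theorem result {F : Type*} [Field F] [Fintype F] {q : ℕ} (hF : Fintype.card F = q) (m : ℕ) : Nat.card (Matrix.symplecticGroup (Fin m) F) = q ^ (m ^ 2) * ∏ i ∈ Finset.range m, (q ^ (2 * (i + 1)) - 1) := by
  rw [Nat.card_congr (equivSB m), card_SB m _ _ (sympBilin_nondegenerate m) (sympBilin_isAlt m)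
    (by simp; ring), Nat.card_eq_fintype_card, hF, Finset.prod_mul_distrib, mul_comm]
  congr 1
  rw [Finset.prod_pow_eq_pow_sum]
  congr 1
  clear hF
  induction m with
  | zero => simp
  | succ m ih => rw [Finset.sum_range_succ, ih]; ring

end Cfsg.Agent.S0245
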