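import Cfsg.Statements.S0828
import Mathlib
import Cfsg.Agent.Lib.Helper5.Symp
import Cfsg.Agent.Lib.Helper5.SympCount
import Cfsg.Agent.S0245

set_option autoImplicit false
open Cfsg

namespace Cfsg.Agent.S0828

open Matrix Cfsg.Agent.Lib.Helper5.Symp Cfsg.Agent.Lib.Helper5.SympCount Cfsg.Agent.S0245

section
variable {F : Type*} {V : Type*} [Field F] [AddCommGroup V] [Module F V]
  (B : LinearMap.BilinForm F V)

/-- a span of pairwise orthogonal vectors is totally isotropic -/
theorem ti_span (s : Set V) (h : ∀ x ∈ s, ∀ y ∈ s, B x y = 0) :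
    ∀ x ∈ Submodule.span F s, ∀ y ∈ Submodule.span F s, B x y = 0 := by
  intro x hx y hy
  induction hx using Submodule.span_induction with
  | mem x hx =>
    induction hy using Submodule.span_induction with
    | mem y hy => exact h x hx y hy
    | zero => simp
    | add y z _ _ h1 h2 => rw [map_add, h1, h2, add_zero]
    | smul a y _ h1 => rw [map_smul, h1, smul_zero]
  | zero => simp
  | add x z _ _ h1 h2 => rw [map_add, LinearMap.add_apply, h1, h2, add_zero]
  | smul a x _ h1 => rw [map_smul, LinearMap.smul_apply, h1, smul_zero]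

variable [Finite F] [FiniteDimensional F V]

theorem card_diff (W U : Submodule F V) (h : U ≤ W) :
    Nat.card {w : V // w ∈ W ∧ w ∉ U} = Nat.card W - Nat.card U := by
  classical
  have : Finite V := Module.finite_of_finite F
  have := Fintype.ofFinite V
  rw [Nat.card_eq_fintype_card, Nat.card_eq_fintype_card, Nat.card_eq_fintype_card,
    Fintype.card_subtype, Fintype.card_subtype, Fintype.card_subtype]
  have : (Finset.univ.filter (fun w : V => w ∈ W ∧ w ∉ U)) =
      (Finset.univ.filter (fun w : V => w ∈ W)) \ (Finset.univ.filter (fun w : V => w ∈ U)) := by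
    ext w
    simp
  rw [this, Finset.card_sdiff_of_subset]
  intro w hw
  simp only [Finset.mem_filter, Finset.mem_univ, true_and] at hw ⊢
  exact h hw

/-- totally isotropic planes -/
def IsTIP (W : Submodule F V) : Prop :=
  Module.finrank F W = 2 ∧ ∀ u ∈ W, ∀ w ∈ W, B u w = 0

theorem card_planes_through (hB : B.Nondegenerate) (hA : B.IsAlt)
    (hV : Module.finrank F V = 4) (v : V) (hv : v ≠ 0) :
    Nat.card {W : Submodule F V // IsTIP B W ∧ v ∈ W} = Nat.card F + 1 := by
  classical
  have : Finite V := Module.finite_of_finite F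
  have := Fintype.ofFinite V
  have := Fintype.ofFinite (Submodule F V)
  set q := Nat.card F with hq
  have hq2 : 2 ≤ q := by
    have := Fintype.ofFinite F
    rw [hq, Nat.card_eq_fintype_card]
    exact Fintype.one_lt_card
  let U : Submodule F V := Submodule.span F {v}
  let K : Submodule F V := LinearMap.ker (B v)
  have hUK : U ≤ K := by
    rw [Submodule.span_le]
    intro x hx
    rw [Set.mem_singleton_iff] at hx
    subst hx
    exact LinearMap.mem_ker.2 (hA x)
  have hcardU : Nat.card U = q := by
    rw [Module.natCard_eq_pow_finrank (K := F), finrank_span_singleton hv, pow_one]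
  have hcardK : Nat.card K = q ^ 3 := by
    have hne : B v ≠ 0 := fun h0 => hv (hB.1 v (fun y => by rw [h0]; rfl))
    have h1 := card_fiber (B v) hne 0
    rw [Module.natCard_eq_pow_finrank (K := F) (V := V), hV] at h1
    have h2 : Nat.card K = Nat.card {f : V // B v f = 0} :=
      Nat.card_congr (Equiv.subtypeEquivRight (fun x => LinearMap.mem_ker))
    rw [h2]
    have : q ^ 4 = q ^ 3 * q := by ring
    rw [this] at h1
    exact Nat.eq_of_mul_eq_mul_right (by omega) h1
  let s : Finset (Submodule F V) := Finset.univ.filter (fun W => IsTIP B W ∧ v ∈ W)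
  let t : Finset V := Finset.univ.filter (fun w => w ∈ K ∧ w ∉ U)
  have hdc := Finset.sum_card_bipartiteAbove_eq_sum_card_bipartiteBelow
    (fun (W : Submodule F V) (w : V) => w ∈ W) (s := s) (t := t)
  have hL : ∀ W ∈ s, (Finset.bipartiteAbove (fun (W : Submodule F V) (w : V) => w ∈ W) t W).card =
      q ^ 2 - q := by
    intro W hW
    obtain ⟨⟨hfr, hti⟩, hvW⟩ := (Finset.mem_filter.1 hW).2
    have hUW : U ≤ W := by
      rw [Submodule.span_le]
      intro x hx
      rw [Set.mem_singleton_iff] at hx
      subst hx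
      exact hvW
    have h1 := card_diff W U hUW
    rw [Module.natCard_eq_pow_finrank (K := F) (V := W), hfr, hcardU, Nat.card_eq_fintype_card,
      Fintype.card_subtype] at h1
    rw [← h1]
    congr 1
    ext w
    simp only [Finset.bipartiteAbove, Finset.mem_filter, Finset.mem_univ, true_and, t]
    constructor
    · rintro ⟨⟨_, h2⟩, h3⟩
      exact ⟨h3, h2⟩
    · rintro ⟨h3, h2⟩
      exact ⟨⟨LinearMap.mem_ker.2 (hti v hvW w h3), h2⟩, h3⟩
  have hR : ∀ w ∈ t, (Finset.bipartiteBelow (fun (W : Submodule F V) (w : V) => w ∈ W) s w).card =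
      1 := by
    intro w hw
    obtain ⟨hwK, hwU⟩ := (Finset.mem_filter.1 hw).2
    have hvw : B v w = 0 := LinearMap.mem_ker.1 hwK
    have hwv : B w v = 0 := by rw [← hA.neg_eq, hvw, neg_zero]
    have hli : LinearIndependent F ![w, v] := by
      rw [LinearIndependent.pair_iff]
      intro a b hab
      have ha : a = 0 := by
        by_contra ha
        apply hwU
        rw [Submodule.mem_span_singleton]
        refine ⟨-(b / a), ?_⟩
        have : a • w = -(b • v) := eq_neg_of_add_eq_zero_left hab
        calc (-(b / a)) • v = a⁻¹ • (-(b • v)) := by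
              rw [smul_neg, neg_smul, div_eq_inv_mul, mul_smul]
          _ = a⁻¹ • (a • w) := by rw [this]
          _ = w := by rw [smul_smul, inv_mul_cancel₀ ha, one_smul]
      refine ⟨ha, ?_⟩
      rw [ha, zero_smul, zero_add] at hab
      exact (smul_eq_zero.1 hab).resolve_right hv
    have hfr : Module.finrank F (Submodule.span F (Set.range ![w, v])) = 2 := by
      rw [finrank_span_eq_card hli, Fintype.card_fin]
    have hwmem : w ∈ Submodule.span F (Set.range ![w, v]) := Submodule.subset_span ⟨0, rfl⟩
    have hvmem : v ∈ Submodule.span F (Set.range ![w, v]) := Submodule.subset_span ⟨1, rfl⟩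
    rw [Finset.card_eq_one]
    refine ⟨Submodule.span F (Set.range ![w, v]), ?_⟩
    ext W
    simp only [Finset.bipartiteBelow, Finset.mem_filter, Finset.mem_singleton, s, Finset.mem_univ,
      true_and]
    constructor
    · rintro ⟨⟨⟨hWfr, hWti⟩, hvW⟩, hwW⟩
      symm
      apply Submodule.eq_of_le_of_finrank_eq
      · rw [Submodule.span_le]
        rintro _ ⟨i, rfl⟩
        fin_cases i
        · exact hwW
        · exact hvW
      · rw [hfr, hWfr]
    · rintro rfl
      refine ⟨⟨⟨hfr, ?_⟩, hvmem⟩, hwmem⟩
      apply ti_span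
      rintro _ ⟨i, rfl⟩ _ ⟨j, rfl⟩
      fin_cases i <;> fin_cases j
      · exact hA w
      · exact hwv
      · exact hvw
      · exact hA v
  rw [Finset.sum_congr rfl hL, Finset.sum_congr rfl hR, Finset.sum_const, Finset.sum_const,
    smul_eq_mul, smul_eq_mul, mul_one] at hdc
  have ht : t.card = q ^ 3 - q := by
    have h1 := card_diff K U hUK
    rw [hcardK, hcardU, Nat.card_eq_fintype_card, Fintype.card_subtype] at h1
    exact h1
  rw [ht] at hdc
  rw [Nat.card_eq_fintype_card, Fintype.card_subtype]
  change s.card = q + 1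
  have hpos : 0 < q ^ 2 - q := by
    have : q < q ^ 2 := by nlinarith
    omega
  apply Nat.eq_of_mul_eq_mul_right hpos
  rw [hdc]
  have h3 : q ^ 3 = q ^ 2 * q := by ring
  have hle : q ≤ q ^ 2 := by nlinarith
  rw [Nat.mul_sub, h3]
  have : (q + 1) * q ^ 2 = q ^ 2 * q + q ^ 2 := by ring
  have h4 : (q + 1) * q = q ^ 2 + q := by ring
  rw [this, h4]
  omega

theorem card_planes (hB : B.Nondegenerate) (hA : B.IsAlt)
    (hV : Module.finrank F V = 4) :
    Nat.card {W : Submodule F V // IsTIP B W} = (Nat.card F + 1) * (Nat.card F ^ 2 + 1) := by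
  classical
  have : Finite V := Module.finite_of_finite F
  have := Fintype.ofFinite V
  have := Fintype.ofFinite (Submodule F V)
  set q := Nat.card F with hq
  have hq2 : 2 ≤ q := by
    have := Fintype.ofFinite F
    rw [hq, Nat.card_eq_fintype_card]
    exact Fintype.one_lt_card
  let s : Finset (Submodule F V) := Finset.univ.filter (fun W => IsTIP B W)
  let t : Finset V := Finset.univ.filter (fun w => w ≠ 0)
  have hdc := Finset.sum_card_bipartiteAbove_eq_sum_card_bipartiteBelow
    (fun (W : Submodule F V) (w : V) => w ∈ W) (s := s) (t := t)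
  have hL : ∀ W ∈ s, (Finset.bipartiteAbove (fun (W : Submodule F V) (w : V) => w ∈ W) t W).card =
      q ^ 2 - 1 := by
    intro W hW
    obtain ⟨hfr, hti⟩ := (Finset.mem_filter.1 hW).2
    have h1 := card_diff W ⊥ bot_le
    rw [Module.natCard_eq_pow_finrank (K := F) (V := W), hfr, Nat.card_eq_fintype_card,
      Fintype.card_subtype] at h1
    have hbot : Nat.card (⊥ : Submodule F V) = 1 := by
      rw [Module.natCard_eq_pow_finrank (K := F), finrank_bot, pow_zero]
    rw [hbot] at h1
    rw [← h1]
    congr 1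
    ext w
    simp only [Finset.bipartiteAbove, Finset.mem_filter, Finset.mem_univ, true_and, t,
      Submodule.mem_bot]
    tauto
  have hR : ∀ w ∈ t, (Finset.bipartiteBelow (fun (W : Submodule F V) (w : V) => w ∈ W) s w).card =
      q + 1 := by
    intro w hw
    have hw0 : w ≠ 0 := (Finset.mem_filter.1 hw).2
    have h1 := card_planes_through B hB hA hV w hw0
    rw [Nat.card_eq_fintype_card, Fintype.card_subtype] at h1
    rw [← h1]
    congr 1
    ext W
    simp only [Finset.bipartiteBelow, Finset.mem_filter, Finset.mem_univ, true_and, s]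
  rw [Finset.sum_congr rfl hL, Finset.sum_congr rfl hR, Finset.sum_const, Finset.sum_const,
    smul_eq_mul, smul_eq_mul] at hdc
  have ht : t.card = q ^ 4 - 1 := by
    have h1 : t = Finset.univ.erase 0 := by
      ext w
      simp [t]
    rw [h1, Finset.card_erase_of_mem (Finset.mem_univ _), Finset.card_univ,
      ← Nat.card_eq_fintype_card, Module.natCard_eq_pow_finrank (K := F) (V := V), hV]
  rw [ht] at hdc
  rw [Nat.card_eq_fintype_card, Fintype.card_subtype]
  change s.card = (q + 1) * (q ^ 2 + 1)
  have h1 : 1 ≤ q ^ 2 := Nat.one_le_pow _ _ (by omega)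
  have hpos : 0 < q ^ 2 - 1 := by
    have : q < q ^ 2 := by nlinarith
    omega
  apply Nat.eq_of_mul_eq_mul_right hpos
  rw [hdc]
  have h4 : q ^ 4 - 1 = (q ^ 2 + 1) * (q ^ 2 - 1) := by
    zify [h1, Nat.one_le_pow 4 q (by omega)]
    ring
  rw [h4]
  ring

end

theorem result {F : Type*} [Field F] [Fintype F] {q : ℕ} (hF : Fintype.card F = q) : Nat.card {W : Submodule F (Fin 2 ⊕ Fin 2 → F) // Module.finrank F W = 2 ∧ ∀ u ∈ W, ∀ v ∈ W, Cfsg.sympForm 2 F u v = 0} = (q + 1) * (q ^ 2 + 1) ∧ ∀ v : Fin 2 ⊕ Fin 2 → F, v ≠ 0 → Nat.card {W : Submodule F (Fin 2 ⊕ Fin 2 → F) // Module.finrank F W = 2 ∧ v ∈ W ∧ ∀ u ∈ W, ∀ w ∈ W, Cfsg.sympForm 2 F u w = 0} = q + 1 := by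
  have hqF : Nat.card F = q := by rw [Nat.card_eq_fintype_card, hF]
  have hV : Module.finrank F (Fin 2 ⊕ Fin 2 → F) = 4 := by simp
  constructor
  · rw [← hqF, ← card_planes (sympBilin (F := F) 2) (sympBilin_nondegenerate 2)
      (sympBilin_isAlt 2) hV]
    apply Nat.card_congr
    exact Equiv.subtypeEquivRight (fun W => by simp only [IsTIP, sympBilin_apply])
  · intro v hv
    rw [← hqF, ← card_planes_through (sympBilin (F := F) 2) (sympBilin_nondegenerate 2)
      (sympBilin_isAlt 2) hV v hv]
    apply Nat.card_congr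
    refine Equiv.subtypeEquivRight (fun W => ?_)
    simp only [IsTIP, sympBilin_apply]
    tauto

end Cfsg.Agent.S0828
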