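import Cfsg.Statements.S0281
import Mathlib
import Cfsg.Agent.Lib.Helper5.Herm
import Cfsg.Agent.Lib.Helper5.HermCount
import Cfsg.Agent.Lib.Helper5.UnitaryCount
import Cfsg.Agent.Lib.Helper5.HermPlanes
import Cfsg.Agent.S0242
import Cfsg.Agent.S0277
import Cfsg.Agent.S0278

set_option autoImplicit false
open Cfsg

namespace Cfsg.Agent.S0281

open Matrix Cfsg.Agent.Lib.Helper5.Herm Cfsg.Agent.Lib.Helper5.HermCount
  Cfsg.Agent.Lib.Helper5.UnitaryCount Cfsg.Agent.Lib.Helper5.HermPlanes Cfsg.Agent.S0277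

section
variable {F K : Type*} [Field F] [Fintype F] [Field K] [Fintype K] {q : ℕ}

/-- the field with `q` elements embeds in the field with `q²` elements -/
theorem exists_embedding (hF : Fintype.card F = q ^ 2) (hK : Fintype.card K = q) :
    Nonempty (K →+* F) := by
  obtain ⟨p, j, hp, hchar, hq⟩ := exists_char_pow hF
  have : Fact p.Prime := ⟨hp⟩
  have hq1 := one_lt_q hF
  have hj : j ≠ 0 := by
    rintro rfl
    rw [pow_zero] at hq
    omega
  have hcharK : CharP K p := by
    obtain ⟨p', hp'⟩ := CharP.exists K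
    have hp'prime : p'.Prime := by
      rcases CharP.char_is_prime_or_zero K p' with h | h
      · exact h
      · subst h
        have := CharP.charP_to_charZero K
        exact absurd (Nat.cast_injective (R := K)) (not_injective_infinite_finite _)
    have h0 : ((p : ℕ) : K) = 0 := by
      have h1 : ((Fintype.card K : ℕ) : K) = 0 := Nat.cast_card_eq_zero K
      rw [hK, hq, Nat.cast_pow] at h1
      exact pow_eq_zero_iff hj |>.1 h1
    rw [CharP.cast_eq_zero_iff K p'] at h0
    have : p' = p := (Nat.prime_dvd_prime_iff_eq hp'prime hp).1 h0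
    rw [← this]; exact hp'
  let _ : Algebra (ZMod p) K := ZMod.algebra K p
  let _ : Algebra (ZMod p) F := ZMod.algebra F p
  have h1 : Module.finrank (ZMod p) K = j := by
    have := FiniteField.pow_finrank_eq_card p K
    rw [hK, hq] at this
    exact Nat.pow_right_injective hp.two_le this
  have h2 : Module.finrank (ZMod p) F = 2 * j := by
    have := FiniteField.pow_finrank_eq_card p F
    rw [hF, hq, ← pow_mul, mul_comm] at this
    exact Nat.pow_right_injective hp.two_le this
  obtain ⟨f⟩ := FiniteField.nonempty_algHom_of_finrank_dvd (F := ZMod p) (K := K) (L := F)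
    (by rw [h1, h2]; exact dvd_mul_left _ _)
  exact ⟨f.toRingHom⟩

/-- a nonzero element of trace zero -/
theorem exists_beta (hF : Fintype.card F = q ^ 2) : ∃ β : F, β ≠ 0 ∧ β ^ q = -β := by
  classical
  have hq := one_lt_q hF
  have h := card_trace_fiber hF (0 : F) (zero_pow (by omega))
  obtain ⟨β, hβ, hβ0⟩ : ∃ β ∈ Finset.univ.filter (fun t : F => t + t ^ q = 0), β ≠ 0 := by
    by_contra hcon
    push Not at hcon
    have hsub : Finset.univ.filter (fun t : F => t + t ^ q = 0) ⊆ {0} := fun t ht => by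
      simp [hcon t ht]
    have := Finset.card_le_card hsub
    rw [h, Finset.card_singleton] at this
    omega
  exact ⟨β, hβ0, eq_neg_of_add_eq_zero_right (Finset.mem_filter.1 hβ).2⟩

/-- the Hermitian form `β (y₀ σ(x₁) - y₁ σ(x₀))` -/
noncomputable def altB (σ : F →+* F) (β : F) : (Fin 2 → F) →ₛₗ[σ] (Fin 2 → F) →ₗ[F] F :=
  LinearMap.mk₂'ₛₗ σ (RingHom.id F) (fun x y => β * (y 0 * σ (x 1) - y 1 * σ (x 0)))
    (fun x x' y => by simp only [Pi.add_apply, map_add]; ring)
    (fun c x y => by simp only [Pi.smul_apply, smul_eq_mul, map_mul]; ring)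
    (fun x y y' => by simp only [Pi.add_apply]; ring)
    (fun c x y => by simp only [Pi.smul_apply, smul_eq_mul, RingHom.id_apply]; ring)

theorem altB_apply (σ : F →+* F) (β : F) (x y : Fin 2 → F) :
    altB σ β x y = β * (y 0 * σ (x 1) - y 1 * σ (x 0)) := rfl

theorem altB_isSymm (σ : F →+* F) (β : F) (hβ : σ β = -β) (hσ2 : ∀ a, σ (σ a) = a) :
    (altB σ β).IsSymm := by
  constructor
  intro x y
  rw [altB_apply, altB_apply, map_mul, map_sub, map_mul, map_mul, hσ2, hσ2, hβ]
  ring

theorem altB_sepLeft (σ : F →+* F) (β : F) (hβ0 : β ≠ 0) : (altB σ β).SeparatingLeft := by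
  intro x hx
  have h0 := hx ![1, 0]
  have h1 := hx ![0, 1]
  rw [altB_apply] at h0 h1
  simp only [Matrix.cons_val_zero, Matrix.cons_val_one, one_mul, zero_mul, sub_zero, zero_sub,
    mul_neg, neg_eq_zero, mul_eq_zero, hβ0, false_or, map_eq_zero] at h0 h1
  funext i
  fin_cases i
  · exact h1
  · exact h0

theorem altB_mulVec (σ : F →+* F) (β : F) (G : Matrix (Fin 2) (Fin 2) F)
    (hG : ∀ i j, σ (G i j) = G i j) (hdet : G.det = 1) (x y : Fin 2 → F) :
    altB σ β (G *ᵥ x) (G *ᵥ y) = altB σ β x y := by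
  rw [altB_apply, altB_apply]
  rw [Matrix.det_fin_two] at hdet
  simp only [Matrix.mulVec, dotProduct, Fin.sum_univ_two, map_add, map_mul, hG]
  linear_combination (β * (y 0 * σ (x 1) - y 1 * σ (x 0))) * hdet

/-- the form in a basis-change matrix with orthonormal columns -/
theorem altB_basis (σ : F →+* F) (β : F) (b : Module.Basis (Fin 2) F (Fin 2 → F))
    (hb : ∀ i j, altB σ β (b i) (b j) = if i = j then 1 else 0) (u w : Fin 2 → F) :
    altB σ β (((Pi.basisFun F (Fin 2)).toMatrix b) *ᵥ u) (((Pi.basisFun F (Fin 2)).toMatrix b) *ᵥ w) =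
      stdB 2 σ u w := by
  have hcol : ∀ j, (fun i => ((Pi.basisFun F (Fin 2)).toMatrix b) i j) = b j := by
    intro j
    funext i
    rw [Module.Basis.toMatrix_apply, Pi.basisFun_repr]
  rw [mulVec_eq_sum_col, mulVec_eq_sum_col]
  simp only [hcol, map_sum, LinearMap.sum_apply, LinearMap.map_smulₛₗ₂, map_smul, hb, smul_eq_mul,
    mul_ite, mul_one, mul_zero]
  rw [stdB_apply]
  refine Finset.sum_congr rfl (fun i _ => ?_)
  rw [Finset.sum_ite_eq' Finset.univ i, if_pos (Finset.mem_univ _), mul_comm]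

theorem result_aux (hF : Fintype.card F = q ^ 2) (hK : Fintype.card K = q) :
    Nonempty (Matrix.SpecialLinearGroup (Fin 2) K ≃* Cfsg.SU 2 F q) := by
  classical
  have hq := one_lt_q hF
  obtain ⟨ι⟩ := exists_embedding hF hK
  obtain ⟨σ, hσ, hne, hσ2⟩ := exists_frob hF
  obtain ⟨β, hβ0, hβ⟩ := exists_beta hF
  have hσβ : σ β = -β := by rw [hσ, hβ]
  have hσι : ∀ k : K, σ (ι k) = ι k := by
    intro k
    rw [hσ, ← map_pow, ← hK, FiniteField.pow_card]
  obtain ⟨b, hb⟩ := exists_basis (B := altB σ β) hne hσ2 (altB_isSymm σ β hσβ hσ2)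
    (altB_sepLeft σ β hβ0) (n := 2) (by simp)
  set P : Matrix (Fin 2) (Fin 2) F := (Pi.basisFun F (Fin 2)).toMatrix b with hP
  set Pinv : Matrix (Fin 2) (Fin 2) F := b.toMatrix (Pi.basisFun F (Fin 2)) with hPinv
  have hPP : P * Pinv = 1 := Module.Basis.toMatrix_mul_toMatrix_flip _ _
  have hPP' : Pinv * P = 1 := Module.Basis.toMatrix_mul_toMatrix_flip _ _
  have hdetP : Pinv.det * P.det = 1 := by rw [← Matrix.det_mul, hPP', Matrix.det_one]
  -- the map on matrices
  let Φ₀ : Matrix.SpecialLinearGroup (Fin 2) K →* Matrix.SpecialLinearGroup (Fin 2) F :=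
    { toFun := fun g => ⟨Pinv * (ι.mapMatrix g.1) * P, by
        rw [Matrix.det_mul, Matrix.det_mul, ← RingHom.map_det, g.2, map_one, mul_one, hdetP]⟩
      map_one' := by
        apply Subtype.ext
        change Pinv * (ι.mapMatrix (1 : Matrix (Fin 2) (Fin 2) K)) * P = 1
        rw [map_one, Matrix.mul_one, hPP']
      map_mul' := by
        intro g h
        apply Subtype.ext
        change Pinv * (ι.mapMatrix (g.1 * h.1)) * P =
          (Pinv * (ι.mapMatrix g.1) * P) * (Pinv * (ι.mapMatrix h.1) * P)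
        rw [map_mul]
        calc Pinv * (ι.mapMatrix g.1 * ι.mapMatrix h.1) * P
            = Pinv * ι.mapMatrix g.1 * 1 * ι.mapMatrix h.1 * P := by
              rw [Matrix.mul_one]; simp only [Matrix.mul_assoc]
          _ = (Pinv * (ι.mapMatrix g.1) * P) * (Pinv * (ι.mapMatrix h.1) * P) := by
              rw [← hPP]; simp only [Matrix.mul_assoc] }
  have hΦmem : ∀ g, Φ₀ g ∈ Cfsg.SU 2 F q := by
    intro g u w
    change hermForm 2 F q ((Pinv * (ι.mapMatrix g.1) * P) *ᵥ u)
      ((Pinv * (ι.mapMatrix g.1) * P) *ᵥ w) = hermForm 2 F q u w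
    have hG : ∀ i j, σ ((ι.mapMatrix g.1) i j) = (ι.mapMatrix g.1) i j := fun i j => hσι _
    have hdet : (ι.mapMatrix g.1).det = 1 := by rw [← RingHom.map_det, g.2, map_one]
    have key : ∀ x : Fin 2 → F, P *ᵥ ((Pinv * (ι.mapMatrix g.1) * P) *ᵥ x) =
        (ι.mapMatrix g.1) *ᵥ (P *ᵥ x) := by
      intro x
      rw [Matrix.mulVec_mulVec, Matrix.mulVec_mulVec, ← Matrix.mul_assoc, ← Matrix.mul_assoc, hPP,
        Matrix.one_mul]
    rw [← stdB_eq_hermForm 2 σ hσ, ← stdB_eq_hermForm 2 σ hσ, ← altB_basis σ β b hb,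
      ← altB_basis σ β b hb, key, key, altB_mulVec σ β _ hG hdet]
  let Φ : Matrix.SpecialLinearGroup (Fin 2) K →* Cfsg.SU 2 F q :=
    Φ₀.codRestrict (Cfsg.SU 2 F q) hΦmem
  have hinj : Function.Injective Φ := by
    intro g h hgh
    have h1 : Pinv * (ι.mapMatrix g.1) * P = Pinv * (ι.mapMatrix h.1) * P :=
      congrArg (fun t : Cfsg.SU 2 F q => (t.1.1 : Matrix (Fin 2) (Fin 2) F)) hgh
    have h2 : ι.mapMatrix g.1 = ι.mapMatrix h.1 := by
      have := congrArg (fun M => P * M * Pinv) h1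
      beta_reduce at this
      rw [← Matrix.mul_assoc, ← Matrix.mul_assoc, hPP, Matrix.one_mul, Matrix.mul_assoc, hPP,
        Matrix.mul_one, ← Matrix.mul_assoc, ← Matrix.mul_assoc, hPP, Matrix.one_mul,
        Matrix.mul_assoc, hPP, Matrix.mul_one] at this
      exact this
    apply Subtype.ext
    ext i j
    have := congrFun (congrFun h2 i) j
    exact ι.injective this
  have hcard : Nat.card (Cfsg.SU 2 F q) ≤ Nat.card (Matrix.SpecialLinearGroup (Fin 2) K) := by
    have h1 := Cfsg.Agent.S0278.result hF 2 (by norm_num)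
    have h2 := Cfsg.Agent.S0242.result hK 2 (by norm_num)
    rw [Fin.prod_univ_two] at h2
    have h3 : ∏ i ∈ Finset.range 2, (if Even i then q ^ (i + 1) + 1 else q ^ (i + 1) - 1) =
        (q + 1) * (q ^ 2 - 1) := by
      rw [Finset.prod_range_succ, Finset.prod_range_one]
      simp
    rw [h3] at h1
    generalize Nat.card (Cfsg.SU 2 F q) = s at h1 ⊢
    generalize Nat.card (Matrix.SpecialLinearGroup (Fin 2) K) = l at h2 ⊢
    norm_num at h1 h2
    have h4 : q ^ 2 - q = q * (q - 1) := by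
      rw [Nat.mul_sub, mul_one, sq]
    rw [h4] at h2
    have e1 : s = q * (q ^ 2 - 1) := by
      apply Nat.eq_of_mul_eq_mul_left (show 0 < q + 1 by omega)
      rw [h1]; ring
    have e2 : l = q * (q ^ 2 - 1) := by
      apply Nat.eq_of_mul_eq_mul_left (show 0 < q - 1 by omega)
      rw [h2]; ring
    rw [e1, e2]
  have : Finite (Cfsg.SU 2 F q) := inferInstance
  exact ⟨MulEquiv.ofBijective Φ (hinj.bijective_of_nat_card_le hcard)⟩

end

theorem result {F K : Type*} [Field F] [Fintype F] [Field K] [Fintype K] {q : ℕ} (hF : Fintype.card F = q ^ 2) (hK : Fintype.card K = q) : Nonempty (Cfsg.SU 2 F q ≃* Matrix.SpecialLinearGroup (Fin 2) K) := by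
  obtain ⟨e⟩ := result_aux hF hK
  exact ⟨e.symm⟩

end Cfsg.Agent.S0281
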