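import Cfsg.Statements.S0262
import Mathlib
import Cfsg.Agent.Lib.Helper5.Herm
import Cfsg.Agent.S0242
import Cfsg.Agent.S0278
import Cfsg.Agent.S0279
import Cfsg.Agent.S0281

set_option autoImplicit false
open Cfsg

namespace Cfsg.Agent.S0262

open Matrix Cfsg.Agent.Lib.Helper5.Herm Cfsg.Agent.S0278

/-- Sylow subgroups are cyclic when a cyclic subgroup has index prime to `r` -/
theorem sylow_cyclic_of_cyclic {G : Type*} [Group G] [Finite G] (r : ℕ) [Fact r.Prime]
    (C : Subgroup G) [IsCyclic C] (h : ¬ r ∣ C.index) (R : Sylow r G) :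
    IsCyclic (R : Subgroup G) := by
  obtain ⟨Q₀⟩ : Nonempty (Sylow r C) := inferInstance
  have hcardQ₀ := Sylow.card_eq_multiplicity Q₀
  have hidx := Subgroup.card_mul_index C
  have hfac : (Nat.card G).factorization r = (Nat.card C).factorization r := by
    rw [← hidx, Nat.factorization_mul Nat.card_pos.ne' (Subgroup.index_ne_zero_of_finite),
      Finsupp.add_apply, Nat.factorization_eq_zero_of_not_dvd h, add_zero]
  let Q : Subgroup G := (Q₀ : Subgroup C).map C.subtype
  have e1 : (Q₀ : Subgroup C) ≃* Q :=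
    Subgroup.equivMapOfInjective _ C.subtype C.subtype_injective
  have hcardQ : Nat.card Q = r ^ (Nat.card G).factorization r := by
    rw [← Nat.card_congr e1.toEquiv, hcardQ₀, hfac]
  let Q' : Sylow r G := Sylow.ofCard Q hcardQ
  have e2 : (R : Subgroup G) ≃* (Q' : Subgroup G) := Sylow.equiv R Q'
  have hcyc : IsCyclic (Q₀ : Subgroup C) := inferInstance
  have hcycQ : IsCyclic Q := isCyclic_of_surjective e1 e1.surjective
  have hcycQ' : IsCyclic ((Q' : Sylow r G) : Subgroup G) := hcycQ
  exact isCyclic_of_surjective e2.symm e2.symm.surjective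

/-- from an injective homomorphism out of a cyclic group of the right order -/
theorem sylow_cyclic_of_hom {G A : Type*} [Group G] [Finite G] [Group A] [IsCyclic A]
    (r : ℕ) [Fact r.Prime] (ψ : A →* G) (hψ : Function.Injective ψ) (m : ℕ)
    (hm : Nat.card G = Nat.card A * m) (hr : ¬ r ∣ m) (R : Sylow r G) :
    IsCyclic (R : Subgroup G) := by
  have hcyc : IsCyclic ψ.range :=
    isCyclic_of_surjective ψ.rangeRestrict ψ.rangeRestrict_surjective
  apply sylow_cyclic_of_cyclic r ψ.range _ R
  have h1 := Subgroup.card_mul_index ψ.range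
  rw [← Nat.card_congr (MonoidHom.ofInjective hψ).toEquiv, hm] at h1
  have hA : 0 < Nat.card A := by
    rcases Nat.eq_zero_or_pos (Nat.card A) with h | h
    · rw [h, zero_mul] at hm
      exact absurd hm Nat.card_pos.ne'
    · exact h
  rw [Nat.eq_of_mul_eq_mul_left hA h1]
  exact hr

section
variable {F : Type*} [Field F]

/-- the split torus -/
def torus : Fˣ →* Matrix.SpecialLinearGroup (Fin 2) F where
  toFun a := ⟨!![(a : F), 0; 0, ((a⁻¹ : Fˣ) : F)], by
    rw [Matrix.det_fin_two_of]; simp⟩
  map_one' := by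
    apply Subtype.ext
    ext i j
    fin_cases i <;> fin_cases j <;> simp
  map_mul' a b := by
    apply Subtype.ext
    change (!![((a * b : Fˣ) : F), 0; 0, (((a * b)⁻¹ : Fˣ) : F)] : Matrix (Fin 2) (Fin 2) F) =
      !![(a : F), 0; 0, ((a⁻¹ : Fˣ) : F)] * !![(b : F), 0; 0, ((b⁻¹ : Fˣ) : F)]
    rw [Matrix.mul_fin_two]
    simp [mul_comm]

theorem torus_injective : Function.Injective (torus (F := F)) := by
  intro a b hab
  have h1 : ((torus a).1 0 0 : F) = (torus b).1 0 0 := by rw [hab]
  exact Units.ext h1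

end

section
variable {E : Type*} [Field E] [Fintype E] {q : ℕ}

theorem torus_mem_SU (a : N1 E q) : torus (F := E) (a : Eˣ) ∈ Cfsg.SU 2 E q := by
  intro u w
  have hM : slToMat 2 E (torus (F := E) (a : Eˣ)) =
      Matrix.diagonal ![((a : Eˣ) : E), (((a : Eˣ)⁻¹ : Eˣ) : E)] := by
    change (!![((a : Eˣ) : E), 0; 0, (((a : Eˣ)⁻¹ : Eˣ) : E)] : Matrix (Fin 2) (Fin 2) E) = _
    ext i j
    fin_cases i <;> fin_cases j <;> simp
  rw [hM]
  apply Cfsg.Agent.S0279.diag_pres
  intro i
  have h1 := (mem_N1 (a : Eˣ)).1 a.2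
  fin_cases i
  · simpa using h1
  · simp only [Fin.mk_one, Matrix.cons_val_one, Matrix.cons_val_zero]
    rw [Units.val_inv_eq_inv_val, inv_pow, h1, inv_one]

/-- the non-split torus, inside `SU_2` -/
def nstorus : N1 E q →* Cfsg.SU 2 E q :=
  ((torus (F := E)).comp (N1 E q).subtype).codRestrict (Cfsg.SU 2 E q) torus_mem_SU

theorem nstorus_injective : Function.Injective (nstorus (E := E) (q := q)) := by
  intro a b hab
  have h1 : torus (F := E) (a : Eˣ) = torus (F := E) (b : Eˣ) := congrArg Subtype.val hab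
  exact Subtype.ext (torus_injective h1)

end

theorem card_sl_two {F : Type*} [Field F] [Fintype F] :
    Nat.card (Matrix.SpecialLinearGroup (Fin 2) F) =
      Fintype.card F * (Fintype.card F - 1) * (Fintype.card F + 1) := by
  have h := Cfsg.Agent.S0242.result (F := F) rfl 2 (by norm_num)
  have hq : 2 ≤ Fintype.card F := Fintype.one_lt_card
  obtain ⟨t, ht⟩ : ∃ t, Fintype.card F = t + 2 := ⟨Fintype.card F - 2, by omega⟩
  rw [ht] at h ⊢
  rw [Fin.prod_univ_two] at h
  have h1 : (t + 2) ^ 2 - (t + 2) ^ ((0 : Fin 2) : ℕ) = (t + 1) * (t + 3) := by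
    apply Nat.sub_eq_of_eq_add; simp; ring
  have h2 : (t + 2) ^ 2 - (t + 2) ^ ((1 : Fin 2) : ℕ) = (t + 2) * (t + 1) := by
    apply Nat.sub_eq_of_eq_add; simp; ring
  rw [h1, h2] at h
  have h3 : t + 2 - 1 = t + 1 := by omega
  rw [h3] at h ⊢
  apply Nat.eq_of_mul_eq_mul_left (show 0 < t + 1 by omega)
  rw [h]; ring

theorem result {F : Type*} [Field F] [Fintype F] (p : ℕ) [Fact p.Prime] [CharP F p] (r : ℕ) [Fact r.Prime] (hr : r ≠ 2) (hrp : r ≠ p) (R : Sylow r (Matrix.SpecialLinearGroup (Fin 2) F)) : IsCyclic (R : Subgroup (Matrix.SpecialLinearGroup (Fin 2) F)) := by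
  classical
  have hrprime : r.Prime := Fact.out
  obtain ⟨k, hprime, hk⟩ := FiniteField.card F p
  have hq2 : 2 ≤ Fintype.card F := Fintype.one_lt_card
  have hG := card_sl_two (F := F)
  have hrq : ¬ r ∣ Fintype.card F := by
    rw [hk]
    intro h
    exact hrp ((Nat.prime_dvd_prime_iff_eq hrprime hprime).1 (hrprime.dvd_of_dvd_pow h))
  have hnot_both : ¬ (r ∣ Fintype.card F - 1 ∧ r ∣ Fintype.card F + 1) := by
    rintro ⟨h1, h2⟩
    have h3 : r ∣ (Fintype.card F + 1) - (Fintype.card F - 1) := Nat.dvd_sub h2 h1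
    have h4 : (Fintype.card F + 1) - (Fintype.card F - 1) = 2 := by omega
    rw [h4] at h3
    exact hr ((Nat.prime_dvd_prime_iff_eq hrprime Nat.prime_two).1 h3)
  by_cases h1 : r ∣ Fintype.card F - 1
  · have h2 : ¬ r ∣ Fintype.card F + 1 := fun h => hnot_both ⟨h1, h⟩
    apply sylow_cyclic_of_hom r (torus (F := F)) torus_injective
      (Fintype.card F * (Fintype.card F + 1)) _ _ R
    · rw [hG, Nat.card_units, Nat.card_eq_fintype_card]; ring
    · intro h
      rcases (Nat.Prime.dvd_mul hrprime).1 h with h | h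
      · exact hrq h
      · exact h2 h
  · by_cases h2 : r ∣ Fintype.card F + 1
    · have hfin : Finite (GaloisField p (2 * (k : ℕ))) := inferInstance
      have := Fintype.ofFinite (GaloisField p (2 * (k : ℕ)))
      have hE : Fintype.card (GaloisField p (2 * (k : ℕ))) = Fintype.card F ^ 2 := by
        rw [← Nat.card_eq_fintype_card, GaloisField.card p _ (by
          have := k.pos; omega), hk, ← pow_mul, mul_comm]
      obtain ⟨e⟩ := Cfsg.Agent.S0281.result (F := GaloisField p (2 * (k : ℕ))) (K := F) hE rfl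
      apply sylow_cyclic_of_hom r (e.toMonoidHom.comp nstorus)
        (e.injective.comp nstorus_injective) (Fintype.card F * (Fintype.card F - 1)) _ _ R
      · rw [hG, card_N1 hE]; ring
      · intro h
        rcases (Nat.Prime.dvd_mul hrprime).1 h with h | h
        · exact hrq h
        · exact h1 h
    · apply sylow_cyclic_of_hom r (1 : PUnit →* Matrix.SpecialLinearGroup (Fin 2) F)
        (Function.injective_of_subsingleton _) (Nat.card (Matrix.SpecialLinearGroup (Fin 2) F)) _ _ R
      · simp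
      · rw [hG]
        intro h
        rcases (Nat.Prime.dvd_mul hrprime).1 h with h | h
        · rcases (Nat.Prime.dvd_mul hrprime).1 h with h | h
          · exact hrq h
          · exact h1 h
        · exact h2 h

end Cfsg.Agent.S0262
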