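import Cfsg.Statements.S0260
import Mathlib
import Cfsg.Agent.S0262
import Cfsg.Agent.Lib.Helper5.SLn

set_option autoImplicit false
open Cfsg

namespace Cfsg.Agent.S0260

open Matrix Matrix.SpecialLinearGroup
open scoped Pointwise

section
variable {F : Type*} [Field F]

/-- the root group attached to the `i`-th coordinate line -/
def T (i : Fin 2) : Subgroup (SpecialLinearGroup (Fin 2) F) :=
  lineStab (Submodule.span F {(Pi.single i 1 : Fin 2 → F)})

theorem sup_T_eq_top : (T 0 ⊔ T 1 : Subgroup (SpecialLinearGroup (Fin 2) F)) = ⊤ := by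
  refine le_antisymm le_top (fun A _ ↦ ?_)
  have key : ∀ (i j : Fin 2) (hij : i ≠ j) (b : F),
      SpecialLinearGroup.transvection hij b ∈ (T 0 ⊔ T 1 : Subgroup (SpecialLinearGroup (Fin 2) F)) := by
    intro i j hij b
    have h1 := SL2Gen.transvection_mem_lineStab (F := F) hij b
    fin_cases i
    · exact Subgroup.mem_sup_left h1
    · exact Subgroup.mem_sup_right h1
  refine diagonal_transvection_induction'
    (fun A => A ∈ (T 0 ⊔ T 1 : Subgroup (SpecialLinearGroup (Fin 2) F))) A ?_
    (fun i j hij a => key i j hij a) (fun _ _ ↦ mul_mem)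
  intro i j hij c hc
  rw [Cfsg.Agent.Lib.Helper5.SLn.diag2n_decompose hij c hc]
  exact mul_mem (mul_mem (mul_mem (mul_mem (mul_mem (key _ _ _ _)
    (key _ _ _ _)) (key _ _ _ _)) (key _ _ _ _)) (key _ _ _ _)) (key _ _ _ _)

theorem mem_T_zero (g : SpecialLinearGroup (Fin 2) F) (hg : g ∈ (T 0 : Subgroup _)) :
    g = SpecialLinearGroup.transvection (zero_ne_one : (0 : Fin 2) ≠ 1) (g 0 1) := by
  have hne : (Pi.single 0 1 : Fin 2 → F) ≠ 0 := Pi.single_ne_zero_iff.2 one_ne_zero
  have h1 := lineStab_fix_of_span _ hne g hg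
  have h2 := hg (Pi.single 1 1)
  rw [Submodule.mem_span_singleton] at h2
  obtain ⟨c, hc⟩ := h2
  rw [Matrix.SpecialLinearGroup.smul_def] at h1 hc
  have h00 := congrFun h1 0
  have h10 := congrFun h1 1
  have h11 := congrFun hc 1
  simp [Matrix.mulVec, dotProduct, Fin.sum_univ_two] at h00 h10 h11
  apply Subtype.ext
  rw [transvection_coe]
  ext i j
  fin_cases i <;> fin_cases j <;> simp [Matrix.single]
  · exact h00
  · exact h10
  · linear_combination -h11

theorem card_T_zero [Fintype F] :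
    Nat.card (T 0 : Subgroup (SpecialLinearGroup (Fin 2) F)) = Fintype.card F := by
  rw [← Nat.card_eq_fintype_card]
  symm
  refine Nat.card_congr (Equiv.ofBijective
    (fun b : F => (⟨SpecialLinearGroup.transvection (zero_ne_one : (0 : Fin 2) ≠ 1) b,
      SL2Gen.transvection_mem_lineStab _ b⟩ : (T 0 : Subgroup (SpecialLinearGroup (Fin 2) F))))
    ⟨?_, ?_⟩)
  · intro b b' hbb
    have h1 := congrArg (fun x : (T 0 : Subgroup (SpecialLinearGroup (Fin 2) F)) => x.1.1 0 1) hbb
    simpa [transvection_coe] using h1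
  · rintro ⟨g, hg⟩
    exact ⟨g 0 1, Subtype.ext (mem_T_zero g hg).symm⟩

end

theorem result {F : Type*} [Field F] [Fintype F] (p : ℕ) [Fact p.Prime] [CharP F p] (P Q : Sylow p (Matrix.SpecialLinearGroup (Fin 2) F)) (h : P ≠ Q) : (P : Subgroup (Matrix.SpecialLinearGroup (Fin 2) F)) ⊔ (Q : Subgroup (Matrix.SpecialLinearGroup (Fin 2) F)) = ⊤ := by
  classical
  have hprime : p.Prime := Fact.out
  obtain ⟨k, -, hk⟩ := FiniteField.card F p
  set q := Fintype.card F with hq
  have hq2 : 2 ≤ q := Fintype.one_lt_card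
  -- the order of a Sylow p-subgroup
  have hfac : (Nat.card (SpecialLinearGroup (Fin 2) F)).factorization p = k := by
    rw [Cfsg.Agent.S0262.card_sl_two, ← hq]
    have hpq : p ∣ q := by rw [hk]; exact dvd_pow_self p k.ne_zero
    have h1 : ¬ p ∣ q - 1 := by
      intro h1
      have := (Nat.dvd_sub hpq h1)
      rw [show q - (q - 1) = 1 by omega] at this
      exact hprime.one_lt.ne' (Nat.dvd_one.1 this)
    have h2 : ¬ p ∣ q + 1 := by
      intro h1
      have := (Nat.dvd_sub h1 hpq)
      rw [show q + 1 - q = 1 by omega] at this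
      exact hprime.one_lt.ne' (Nat.dvd_one.1 this)
    rw [Nat.factorization_mul (Nat.mul_ne_zero (by omega) (by omega)) (by omega : q + 1 ≠ 0),
      Nat.factorization_mul (by omega) (by omega), Finsupp.add_apply, Finsupp.add_apply,
      Nat.factorization_eq_zero_of_not_dvd h1, Nat.factorization_eq_zero_of_not_dvd h2, hk,
      Nat.Prime.factorization_pow hprime]
    simp
  let P₀ : Sylow p (SpecialLinearGroup (Fin 2) F) := Sylow.ofCard (T 0) (by
    rw [card_T_zero, hfac, ← hk])
  have hP₀ : (P₀ : Subgroup (SpecialLinearGroup (Fin 2) F)) = T 0 := Sylow.coe_ofCard _ _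
  set L0 : Submodule F (Fin 2 → F) := Submodule.span F {(Pi.single 0 1 : Fin 2 → F)} with hL0
  set L1 : Submodule F (Fin 2 → F) := Submodule.span F {(Pi.single 1 1 : Fin 2 → F)} with hL1
  have hall : ∀ R : Sylow p (SpecialLinearGroup (Fin 2) F), ∃ g : SpecialLinearGroup (Fin 2) F,
      (R : Subgroup (SpecialLinearGroup (Fin 2) F)) = lineStab (g • L0) := by
    intro R
    obtain ⟨g, hg⟩ := MulAction.exists_smul_eq (SpecialLinearGroup (Fin 2) F) P₀ R
    refine ⟨g, ?_⟩
    rw [← hg, Sylow.coe_subgroup_smul, hP₀, lineStab_smul]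
    rfl
  obtain ⟨g, hg⟩ := hall P
  obtain ⟨g', hg'⟩ := hall Q
  set m : SpecialLinearGroup (Fin 2) F := g⁻¹ * g' with hm
  have hg'm : g' = g * m := by rw [hm, mul_inv_cancel_left]
  have hmL0 : m • L0 = Submodule.span F {(![m 0 0, m 1 0] : Fin 2 → F)} := by
    rw [hL0, Submodule.smul_span, Set.smul_set_singleton]
    congr 2
    rw [Matrix.SpecialLinearGroup.smul_def]
    ext i
    fin_cases i <;> simp [Matrix.mulVec, dotProduct, Fin.sum_univ_two]
  have hdet : m 0 0 * m 1 1 - m 0 1 * m 1 0 = 1 := by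
    have := m.2
    rw [Matrix.det_fin_two] at this
    exact this
  have hm10 : m 1 0 ≠ 0 := by
    intro h0
    apply h
    apply Sylow.ext
    rw [hg, hg', hg'm, mul_smul]
    congr 2
    rw [hmL0, hL0, h0]
    have h00 : m 0 0 ≠ 0 := by
      intro h00
      rw [h00, h0] at hdet
      simp at hdet
    have : (![m 0 0, 0] : Fin 2 → F) = m 0 0 • (Pi.single 0 1 : Fin 2 → F) := by
      ext i
      fin_cases i <;> simp
    rw [this, Submodule.span_singleton_smul_eq (isUnit_iff_ne_zero.2 h00)]
  set a : F := m 0 0 / m 1 0 with ha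
  set t : SpecialLinearGroup (Fin 2) F :=
    SpecialLinearGroup.transvection (zero_ne_one : (0 : Fin 2) ≠ 1) a with ht
  have ht0 : t • L0 = L0 := by
    rw [hL0, Submodule.smul_span, Set.smul_set_singleton, ht, transvection_smul_single_fst]
  have ht1 : t • L1 = m • L0 := by
    rw [hmL0, hL1, Submodule.smul_span, Set.smul_set_singleton, ht, transvection_smul_single_snd]
    have : (![m 0 0, m 1 0] : Fin 2 → F) = m 1 0 • ((Pi.single 1 1 : Fin 2 → F) + a • Pi.single 0 1) := by
      ext i
      fin_cases i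
      · simp [ha]; field_simp
      · simp
    rw [this, Submodule.span_singleton_smul_eq (isUnit_iff_ne_zero.2 hm10)]
  have hPeq : (P : Subgroup (SpecialLinearGroup (Fin 2) F)) = MulAut.conj (g * t) • T 0 := by
    rw [hg, T, ← lineStab_smul, mul_smul, ← hL0, ht0]
  have hQeq : (Q : Subgroup (SpecialLinearGroup (Fin 2) F)) = MulAut.conj (g * t) • T 1 := by
    rw [hg', T, ← lineStab_smul, mul_smul, ← hL1, ht1, hg'm, mul_smul]
  rw [hPeq, hQeq, ← Subgroup.smul_sup, sup_T_eq_top]
  ext x
  simp [Subgroup.mem_pointwise_smul_iff_inv_smul_mem]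

end Cfsg.Agent.S0260
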