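import Cfsg.Statements.S0600
import Mathlib
import Cfsg.Agent.H1.Cores

set_option autoImplicit false
open Cfsg

namespace Cfsg.Agent.S0600



/-- A normal elementary abelian p-subgroup generated by the fixed points of the Sylow p-subgroups admits no nontrivial normal p-subgroup of G modulo its centralizer. -/
theorem result {G : Type*} [Group G] [Finite G] {p : ℕ} [Fact p.Prime] (V : Subgroup G) [V.Normal] (hV : Cfsg.IsElementaryAbelian p V) (hgen : V = ⨆ S : Sylow p G, V ⊓ Subgroup.centralizer ((S : Subgroup G) : Set G)) : Cfsg.pCore p (G ⧸ Subgroup.centralizer (V : Set G)) = ⊥ := by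
  classical
  set C : Subgroup G := Subgroup.centralizer (V : Set G) with hC
  rw [eq_bot_iff]
  intro xbar hx
  obtain ⟨k, rfl⟩ := QuotientGroup.mk'_surjective C xbar
  rw [Subgroup.mem_bot]
  apply (QuotientGroup.eq_one_iff k).2
  -- `k` centralizes `V`
  have hVk : V ≤ Subgroup.centralizer ({k} : Set G) := by
    rw [hgen]
    apply iSup_le
    intro S
    rintro v ⟨hvV, hvS⟩
    set Sbar : Sylow p (G ⧸ C) := S.mapSurjective (QuotientGroup.mk'_surjective C) with hSbar
    have h1 : (QuotientGroup.mk' C k) ∈ (Sbar : Subgroup (G ⧸ C)) :=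
      Cfsg.Agent.H1.pCore_le_sylow Sbar hx
    rw [hSbar, Sylow.coe_mapSurjective] at h1
    obtain ⟨s, hs, hsk⟩ := h1
    have hc : s⁻¹ * k ∈ C := by
      apply (QuotientGroup.eq_one_iff _).1
      have : (QuotientGroup.mk' C) (s⁻¹ * k) = 1 := by
        rw [map_mul, map_inv, hsk, inv_mul_cancel]
      exact this
    have hsv : s * v = v * s := (Subgroup.mem_centralizer_iff.1 hvS) s hs
    rw [Subgroup.mem_centralizer_singleton_iff]
    have hcv : ∀ c ∈ C, v * c = c * v := fun c hc' => (Subgroup.mem_centralizer_iff.1 hc') v hvV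
    have key : ∀ c ∈ C, v * (s * c) = (s * c) * v := by
      intro c hc'
      rw [← mul_assoc, ← hsv, mul_assoc, hcv c hc', ← mul_assoc]
    have e : k = s * (s⁻¹ * k) := by group
    rw [e]
    exact key _ hc
  show k ∈ C
  rw [hC, Subgroup.mem_centralizer_iff]
  intro v hv
  exact Subgroup.mem_centralizer_singleton_iff.1 (hVk hv)

end Cfsg.Agent.S0600
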