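import Cfsg.Statements.S4066
import Cfsg.Agent.Lib.Lead.Conj

set_option autoImplicit false
open Cfsg

namespace Cfsg.Agent.S4066

/-- A subgroup generated by pairwise commuting elements of exponent `m` has exponent `m`. -/
theorem closure_pow_eq_one {G : Type*} [Group G] (S : Set G) (m : ℕ)
    (hcomm : ∀ a ∈ S, ∀ b ∈ S, a * b = b * a) (hpow : ∀ a ∈ S, a ^ m = 1) :
    ∀ y ∈ Subgroup.closure S, y ^ m = 1 := by
  have h1 : S ⊆ (Subgroup.centralizer S : Set G) := by
    intro a ha
    rw [SetLike.mem_coe, Subgroup.mem_centralizer_iff]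
    intro b hb
    exact hcomm b hb a ha
  have h2 : Subgroup.closure S ≤ Subgroup.centralizer S := (Subgroup.closure_le _).2 h1
  have h3 : Subgroup.closure S ≤ Subgroup.centralizer (Subgroup.closure S : Set G) :=
    (Subgroup.closure_le_centralizer_centralizer S).trans (Subgroup.centralizer_le h2)
  intro y hy
  induction hy using Subgroup.closure_induction with
  | mem a ha => exact hpow a ha
  | one => exact one_pow m
  | mul a b ha hb iha ihb =>
    have hc : Commute a b := by
      have := Subgroup.mem_centralizer_iff.1 (h3 hb) a ha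
      exact this
    rw [hc.mul_pow, iha, ihb, one_mul]
  | inv a ha iha => rw [inv_pow, iha, inv_one]

/-- Let G be a finite group in which the centralizer of every element meets each of its conjugates by elements outside its normalizer trivially. Then any two distinct Sylow p-subgroups of G, for any prime p, intersect trivially. -/
theorem result {G : Type*} [Group G] [Finite G] (hTI : ∀ x : G, Cfsg.IsTISubset (Subgroup.centralizer ({x} : Set G) : Set G))
    {p : ℕ} [Fact p.Prime] (P Q : Sylow p G) (hPQ : P ≠ Q) : (P : Subgroup G) ⊓ (Q : Subgroup G) = ⊥ := by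
  classical
  by_contra hne
  obtain ⟨d, hd, hd1⟩ : ∃ d ∈ (P : Subgroup G) ⊓ (Q : Subgroup G), d ≠ 1 := by
    by_contra h
    push Not at h
    exact hne (eq_bot_iff.2 fun x hx => Subgroup.mem_bot.2 (h x hx))
  have hdP : d ∈ (P : Subgroup G) := hd.1
  have hdQ : d ∈ (Q : Subgroup G) := hd.2
  haveI : Nontrivial ↥(P : Subgroup G) :=
    ⟨⟨⟨d, hdP⟩, 1, fun h => hd1 (congrArg Subtype.val h)⟩⟩
  haveI := P.isPGroup'.center_nontrivial
  obtain ⟨z, hz⟩ := exists_ne (1 : Subgroup.center ↥(P : Subgroup G))
  set z0 : G := z.val.val with hz0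
  have hz0P : z0 ∈ (P : Subgroup G) := z.val.2
  have hz01 : z0 ≠ 1 := by
    intro h
    apply hz
    apply Subtype.ext
    apply Subtype.ext
    exact h
  have hz0c : ∀ a ∈ (P : Subgroup G), a * z0 = z0 * a := by
    intro a ha
    have := Subgroup.mem_center_iff.1 z.2 ⟨a, ha⟩
    exact congrArg Subtype.val this
  -- every Sylow subgroup containing `d` centralizes `z0`
  have key : ∀ R : Sylow p G, d ∈ (R : Subgroup G) → ∀ a ∈ (R : Subgroup G), a * z0 = z0 * a := by
    intro R hdR
    obtain ⟨g, hg⟩ := MulAction.exists_smul_eq G P R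
    have hmem : ∀ a : G, a ∈ (R : Subgroup G) ↔ g⁻¹ * a * g ∈ (P : Subgroup G) := by
      intro a
      rw [← hg, Sylow.coe_subgroup_smul, Subgroup.mem_pointwise_smul_iff_inv_smul_mem]
      have h2 : (MulAut.conj g)⁻¹ • a = g⁻¹ * a * g := by
        simp [MulAut.smul_def]
      rw [h2]
    have hgN : g ∈ Subgroup.normalizer ((Subgroup.centralizer ({z0} : Set G) : Subgroup G) : Set G) := by
      by_contra hgN
      have hy : g⁻¹ * d * g ∈ (Subgroup.centralizer ({z0} : Set G) : Set G) := by
        rw [SetLike.mem_coe, Subgroup.mem_centralizer_singleton_iff]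
        exact (hz0c _ ((hmem d).1 hdR))
      have hy2 : g * (g⁻¹ * d * g) * g⁻¹ ∈ (Subgroup.centralizer ({z0} : Set G) : Set G) := by
        have e : g * (g⁻¹ * d * g) * g⁻¹ = d := by group
        rw [e, SetLike.mem_coe, Subgroup.mem_centralizer_singleton_iff]
        exact (hz0c d hdP)
      have := hTI z0 g hgN _ hy hy2
      apply hd1
      have e : d = g * (g⁻¹ * d * g) * g⁻¹ := by group
      rw [e, this]; group
    intro a ha
    have h1 : g⁻¹ * a * g ∈ Subgroup.centralizer ({z0} : Set G) := by
      rw [Subgroup.mem_centralizer_singleton_iff]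
      exact (hz0c _ ((hmem a).1 ha))
    have h2 := (Subgroup.mem_normalizer_iff.1 hgN _).1 h1
    have e : g * (g⁻¹ * a * g) * g⁻¹ = a := by group
    rw [e, Subgroup.mem_centralizer_singleton_iff] at h2
    exact h2
  set H : Subgroup G := (P : Subgroup G) ⊔ (Q : Subgroup G) with hH
  have hHc : ∀ h ∈ H, h * z0 = z0 * h := by
    have : H ≤ Subgroup.centralizer ({z0} : Set G) := by
      apply sup_le
      · intro a ha
        rw [Subgroup.mem_centralizer_singleton_iff]; exact hz0c a ha
      · intro a ha
        rw [Subgroup.mem_centralizer_singleton_iff]; exact key Q hdQ a ha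
    intro h hh
    exact Subgroup.mem_centralizer_singleton_iff.1 (this hh)
  -- every element of `H` commutes with its `H`-conjugates
  have claimA : ∀ x ∈ H, ∀ h ∈ H, x * (h * x * h⁻¹) = (h * x * h⁻¹) * x := by
    intro x hx h hh
    have hhN : h ∈ Subgroup.normalizer ((Subgroup.centralizer ({x} : Set G) : Subgroup G) : Set G) := by
      by_contra hhN
      have hy : z0 ∈ (Subgroup.centralizer ({x} : Set G) : Set G) := by
        rw [SetLike.mem_coe, Subgroup.mem_centralizer_singleton_iff]
        exact (hHc x hx).symm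
      have hy2 : h * z0 * h⁻¹ ∈ (Subgroup.centralizer ({x} : Set G) : Set G) := by
        have e : h * z0 * h⁻¹ = z0 := by rw [hHc h hh]; group
        rw [e]; exact hy
      exact hz01 (hTI x h hhN z0 hy hy2)
    have hxx : x ∈ Subgroup.centralizer ({x} : Set G) := by
      rw [Subgroup.mem_centralizer_singleton_iff]
    have := (Subgroup.mem_normalizer_iff.1 hhN x).1 hxx
    rw [Subgroup.mem_centralizer_singleton_iff] at this
    exact this.symm
  -- every element of `Q` lies in `P`
  have hQP : (Q : Subgroup G) ≤ (P : Subgroup G) := by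
    intro x hxQ
    have hxH : x ∈ H := (le_sup_right : (Q : Subgroup G) ≤ H) hxQ
    set S : Set G := {y | ∃ h ∈ H, y = h * x * h⁻¹} with hS
    have hSH : ∀ y ∈ S, y ∈ H := by
      rintro y ⟨h, hh, rfl⟩
      exact H.mul_mem (H.mul_mem hh hxH) (H.inv_mem hh)
    have hcomm : ∀ a ∈ S, ∀ b ∈ S, a * b = b * a := by
      rintro a ⟨h, hh, rfl⟩ b ⟨h', hh', rfl⟩
      have := claimA (h * x * h⁻¹) (H.mul_mem (H.mul_mem hh hxH) (H.inv_mem hh)) (h' * h⁻¹)
        (H.mul_mem hh' (H.inv_mem hh))
      have e : h' * h⁻¹ * (h * x * h⁻¹) * (h' * h⁻¹)⁻¹ = h' * x * h'⁻¹ := by group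
      rw [e] at this
      exact this
    have hxm : x ^ Nat.card ↥(Q : Subgroup G) = 1 := by
      have := pow_card_eq_one' (G := ↥(Q : Subgroup G)) (x := ⟨x, hxQ⟩)
      exact congrArg Subtype.val this
    have hpow : ∀ a ∈ S, a ^ Nat.card ↥(Q : Subgroup G) = 1 := by
      rintro a ⟨h, hh, rfl⟩
      rw [conj_pow, hxm]; group
    have hexp := closure_pow_eq_one S _ hcomm hpow
    have hNp : IsPGroup p ↥(Subgroup.closure S) := by
      obtain ⟨n, hn⟩ := Q.isPGroup'.exists_card_eq
      intro y
      refine ⟨n, ?_⟩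
      apply Subtype.ext
      have := hexp y.1 y.2
      rw [hn] at this
      simpa using this
    have hnorm : (P : Subgroup G) ≤ Subgroup.normalizer ((Subgroup.closure S : Subgroup G) : Set G) := by
      intro g hg
      apply Cfsg.Agent.Lib.Lead.Conj.mem_normalizer_of_conj_mem
      intro r hr
      have hgH : g ∈ H := (le_sup_left : (P : Subgroup G) ≤ H) hg
      induction hr using Subgroup.closure_induction with
      | mem a ha =>
        obtain ⟨h, hh, rfl⟩ := ha
        apply Subgroup.subset_closure
        refine ⟨g * h, H.mul_mem hgH hh, ?_⟩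
        group
      | one => simp
      | mul a b _ _ iha ihb =>
        have e : g * (a * b) * g⁻¹ = (g * a * g⁻¹) * (g * b * g⁻¹) := by group
        rw [e]; exact Subgroup.mul_mem _ iha ihb
      | inv a _ iha =>
        have e : g * a⁻¹ * g⁻¹ = (g * a * g⁻¹)⁻¹ := by group
        rw [e]; exact Subgroup.inv_mem _ iha
    have hsup : IsPGroup p ↥((Subgroup.closure S : Subgroup G) ⊔ (P : Subgroup G)) :=
      IsPGroup.to_sup_of_normal_left' hNp P.isPGroup' hnorm
    have heq := P.is_maximal' hsup le_sup_right
    have hxS : x ∈ Subgroup.closure S := by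
      apply Subgroup.subset_closure
      refine ⟨1, H.one_mem, ?_⟩
      group
    rw [← heq]
    exact (le_sup_left : Subgroup.closure S ≤ _) hxS
  apply hPQ
  apply Sylow.ext
  exact (Q.is_maximal' P.isPGroup' hQP)

end Cfsg.Agent.S4066
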