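import Cfsg.Statements.S0601
import Mathlib
import Cfsg.Agent.H1.Cores
import Cfsg.Agent.S0600
import Cfsg.Agent.S4066
import Cfsg.Agent.Lib.Lead.TISylow

set_option autoImplicit false
open Cfsg

namespace Cfsg.Agent.S0601

open Cfsg.Agent.Lib.Lead.TISylow
open scoped Pointwise



/-- When O_p(G) contains its centralizer, the normal closure of Ω₁(Z(S)) is elementary abelian and G has no nontrivial normal p-subgroup modulo its centralizer. -/
theorem result {G : Type*} [Group G] [Finite G] {p : ℕ} [Fact p.Prime] (hc : Subgroup.centralizer (Cfsg.pCore p G : Set G) ≤ Cfsg.pCore p G) : (⨆ S : Sylow p G, Cfsg.omegaOne p (((S : Subgroup G)) ⊓ Subgroup.centralizer ((S : Subgroup G) : Set G))).Normal ∧ Cfsg.IsElementaryAbelian p (⨆ S : Sylow p G, Cfsg.omegaOne p (((S : Subgroup G)) ⊓ Subgroup.centralizer ((S : Subgroup G) : Set G))) ∧ ∀ D : Subgroup G, D.Normal → Subgroup.centralizer ((⨆ S : Sylow p G, Cfsg.omegaOne p (((S : Subgroup G)) ⊓ Subgroup.centralizer ((S : Subgroup G) : Set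 G)) : Subgroup G) : Set G) ≤ D → (∃ k : ℕ, (Subgroup.centralizer ((⨆ S : Sylow p G, Cfsg.omegaOne p (((S : Subgroup G)) ⊓ Subgroup.centralizer ((S : Subgroup G) : Set G)) : Subgroup G) : Set G)).relIndex D = p ^ k) → D = Subgroup.centralizer ((⨆ S : Sylow p G, Cfsg.omegaOne p (((S : Subgroup G)) ⊓ Subgroup.centralizer ((S : Subgroup G) : Set G)) : Subgroup G) : Set G) := by
  classical
  set W : Subgroup G := ⨆ S : Sylow p G, Cfsg.omegaOne p (((S : Subgroup G)) ⊓
    Subgroup.centralizer ((S : Subgroup G) : Set G)) with hW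
  set Q : Subgroup G := Cfsg.pCore p G with hQ
  -- (1) normality
  have hWn : W.Normal := by
    constructor
    intro n hn g
    have hle : W ≤ W.comap (MulAut.conj g).toMonoidHom := by
      rw [hW]
      apply iSup_le
      intro S
      rw [Cfsg.omegaOne, Subgroup.closure_le]
      rintro x ⟨⟨hxS, hxC⟩, hxp⟩
      rw [SetLike.mem_coe, Subgroup.mem_comap]
      show g * x * g⁻¹ ∈ _
      have h1 : g * x * g⁻¹ ∈ Cfsg.omegaOne p ((((g • S : Sylow p G) : Subgroup G)) ⊓
          Subgroup.centralizer (((g • S : Sylow p G) : Subgroup G) : Set G)) := by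
        apply Subgroup.subset_closure
        have hxS' : x ∈ (S : Subgroup G) := hxS
        have hxC' : x ∈ Subgroup.centralizer ((S : Subgroup G) : Set G) := hxC
        have m1 : g * x * g⁻¹ ∈ ((g • S : Sylow p G) : Subgroup G) := by
          rw [mem_sylow_smul]
          have e : g⁻¹ * (g * x * g⁻¹) * g = x := by group
          rw [e]; exact hxS'
        have m2 : g * x * g⁻¹ ∈ Subgroup.centralizer (((g • S : Sylow p G) : Subgroup G) : Set G) := by
          rw [Subgroup.mem_centralizer_iff]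
          intro h hh
          rw [SetLike.mem_coe, mem_sylow_smul] at hh
          have := (Subgroup.mem_centralizer_iff.1 hxC') _ hh
          calc h * (g * x * g⁻¹) = g * ((g⁻¹ * h * g) * x) * g⁻¹ := by group
            _ = g * (x * (g⁻¹ * h * g)) * g⁻¹ := by rw [this]
            _ = g * x * g⁻¹ * h := by group
        have m3 : (g * x * g⁻¹) ^ p = 1 := by rw [conj_pow, hxp]; group
        exact ⟨⟨m1, m2⟩, m3⟩
      exact (le_iSup (fun S : Sylow p G => Cfsg.omegaOne p (((S : Subgroup G)) ⊓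
        Subgroup.centralizer ((S : Subgroup G) : Set G))) (g • S)) h1
    exact hle hn
  -- (2) `W ≤ Z(Q)` and exponent `p`
  have hZS : ∀ S : Sylow p G, (S : Subgroup G) ⊓ Subgroup.centralizer ((S : Subgroup G) : Set G) ≤
      Q ⊓ Subgroup.centralizer (Q : Set G) := by
    intro S x hx
    have hQS : Q ≤ (S : Subgroup G) := Cfsg.Agent.H1.pCore_le_sylow S
    have hxCQ : x ∈ Subgroup.centralizer (Q : Set G) := Subgroup.centralizer_le hQS hx.2
    exact ⟨hc hxCQ, hxCQ⟩
  set T : Set G := {x : G | x ∈ Q ⊓ Subgroup.centralizer (Q : Set G) ∧ x ^ p = 1} with hT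
  have hWT : W ≤ Subgroup.closure T := by
    rw [hW]
    apply iSup_le
    intro S
    rw [Cfsg.omegaOne]
    apply Subgroup.closure_mono
    rintro x ⟨hx, hxp⟩
    exact ⟨hZS S hx, hxp⟩
  have hTcomm : ∀ a ∈ T, ∀ b ∈ T, a * b = b * a := by
    rintro a ⟨ha, -⟩ b ⟨hb, -⟩
    exact ((Subgroup.mem_centralizer_iff.1 hb.2) a ha.1)
  have hTZ : Subgroup.closure T ≤ Q ⊓ Subgroup.centralizer (Q : Set G) := by
    rw [Subgroup.closure_le]
    rintro x ⟨hx, -⟩
    exact hx
  have hexp : ∀ a ∈ W, a ^ p = 1 := fun a ha =>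
    Cfsg.Agent.S4066.closure_pow_eq_one T p hTcomm (fun a ha => ha.2) a (hWT ha)
  have hWcomm : IsMulCommutative ↥W := by
    refine ⟨⟨?_⟩⟩
    rintro ⟨a, ha⟩ ⟨b, hb⟩
    apply Subtype.ext
    show a * b = b * a
    have ha' := hTZ (hWT ha)
    have hb' := hTZ (hWT hb)
    exact ((Subgroup.mem_centralizer_iff.1 hb'.2) a ha'.1)
  have hEA : Cfsg.IsElementaryAbelian p W := ⟨hWcomm, hexp⟩
  refine ⟨hWn, hEA, ?_⟩
  -- (3)
  intro D hDn hCD hidx
  obtain ⟨k, hk⟩ := hidx
  haveI := hWn
  have hgen : W = ⨆ S : Sylow p G, W ⊓ Subgroup.centralizer ((S : Subgroup G) : Set G) := by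
    apply le_antisymm
    · conv_lhs => rw [hW]
      apply iSup_le
      intro S
      refine le_trans ?_ (le_iSup (fun S : Sylow p G => W ⊓ Subgroup.centralizer ((S : Subgroup G) : Set G)) S)
      apply le_inf
      · exact le_iSup (fun S : Sylow p G => Cfsg.omegaOne p (((S : Subgroup G)) ⊓
          Subgroup.centralizer ((S : Subgroup G) : Set G))) S
      · rw [Cfsg.omegaOne, Subgroup.closure_le]
        rintro x ⟨hx, -⟩
        exact hx.2
    · exact iSup_le fun S => inf_le_left
  have hcore := Cfsg.Agent.S0600.result W hEA hgen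
  set C : Subgroup G := Subgroup.centralizer (W : Set G) with hC
  apply le_antisymm _ hCD
  intro d hd
  have hDp : IsPGroup p ↥(D.map (QuotientGroup.mk' C)) := by
    rintro ⟨_, ⟨e, he, rfl⟩⟩
    refine ⟨k, ?_⟩
    apply Subtype.ext
    show (QuotientGroup.mk' C e) ^ p ^ k = 1
    rw [← map_pow]
    apply (QuotientGroup.eq_one_iff _).2
    haveI : (C.subgroupOf D).Normal := by
      have : C.Normal := inferInstance
      exact this.subgroupOf D
    have h1 := Subgroup.pow_index_mem (C.subgroupOf D) (⟨e, he⟩ : ↥D)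
    have h2 : (C.subgroupOf D).index = p ^ k := hk
    rw [h2, Subgroup.mem_subgroupOf] at h1
    simpa using h1
  haveI hDmn : (D.map (QuotientGroup.mk' C)).Normal :=
    hDn.map _ (QuotientGroup.mk'_surjective C)
  have hle := Cfsg.Agent.H1.le_pCore hDmn hDp
  rw [hcore] at hle
  have : QuotientGroup.mk' C d ∈ (⊥ : Subgroup (G ⧸ C)) := hle ⟨d, hd, rfl⟩
  rw [Subgroup.mem_bot] at this
  exact (QuotientGroup.eq_one_iff d).1 this

end Cfsg.Agent.S0601
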