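import Cfsg.Statements.S0602
import Mathlib
import Cfsg.Agent.H1.Basic
import Cfsg.Agent.H1.Thompson
import Cfsg.Prelude.Def_Transfer

set_option autoImplicit false
open Cfsg

namespace Cfsg.Agent.S0602

open Cfsg.Agent.H1

/-- The Thompson subgroup is characteristic, and nontrivial as soon as p divides the group order. -/
theorem result {G : Type*} [Group G] [Finite G] {p : ℕ} [Fact p.Prime] : (Cfsg.thompsonSubgroup p G).Characteristic ∧ (p ∣ Nat.card G → Cfsg.thompsonSubgroup p G ≠ ⊥) := by
  have hp : p.Prime := Fact.out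
  constructor
  · rw [Subgroup.characteristic_iff_map_le]
    intro φ
    rw [Subgroup.map_le_iff_le_comap]
    unfold Cfsg.thompsonSubgroup
    apply sSup_le
    intro A hA
    rw [← Subgroup.map_le_iff_le_comap]
    apply le_sSup
    refine ⟨isElementaryAbelian_map _ hA.1, ?_⟩
    intro B hB
    rw [Subgroup.card_map_of_injective φ.injective]
    exact hA.2 B hB
  · intro hdvd
    obtain ⟨x, hxo⟩ := exists_prime_orderOf_dvd_card' p hdvd
    obtain ⟨A, hA⟩ := maxElementaryAbelian_nonempty (G := G) p
    have hxp : x ^ p = 1 := by rw [← hxo, pow_orderOf_eq_one]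
    have h1 := hA.2 _ (isElementaryAbelian_zpowers x hxp)
    rw [Nat.card_zpowers, hxo] at h1
    intro hbot
    have hAJ := le_thompsonSubgroup hA
    rw [hbot, le_bot_iff] at hAJ
    rw [hAJ, Subgroup.card_bot] at h1
    exact absurd h1 (by have := hp.two_le; omega)

end Cfsg.Agent.S0602
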