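import Cfsg.Statements.S0606
import Mathlib
import Cfsg.Agent.H1.Basic
import Cfsg.Agent.H1.Thompson
import Cfsg.Agent.H1.Card
import Cfsg.Prelude.Def_Transfer
import Cfsg.Prelude.Def_PLocal

set_option autoImplicit false
open Cfsg

namespace Cfsg.Agent.S0606

open Cfsg.Agent.H1

/-- Elementary abelian p-subgroups of maximal order are best offenders on any normal elementary abelian p-subgroup. -/
theorem result {G : Type*} [Group G] [Finite G] {p : ℕ} [Fact p.Prime] (V : Subgroup G) [V.Normal] (hV : Cfsg.IsElementaryAbelian p V) (A : Subgroup G) (hA : A ∈ Cfsg.maxElementaryAbelianSubgroups p G) : Cfsg.IsBestOffenderOn p V A := by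
  have hAc := le_centralizer_of_isMulCommutative A hA.1.1
  refine ⟨?_, ?_, ?_⟩
  · intro B hBA
    set C := V ⊓ Subgroup.centralizer (B : Set G) with hC
    have hBel : Cfsg.IsElementaryAbelian p B := isElementaryAbelian_of_le hA.1 hBA
    have hCel : Cfsg.IsElementaryAbelian p C := isElementaryAbelian_of_le hV inf_le_left
    have hCB : C ≤ Subgroup.centralizer (B : Set G) := inf_le_right
    have hBC : B ≤ Subgroup.centralizer (C : Set G) := Subgroup.le_centralizer_iff.mp hCB
    have hD := isElementaryAbelian_sup hBel hCel hCB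
    have h1 := hA.2 _ hD
    have h2 := card_sup_mul_card_inf B C (hBC.trans (Subgroup.centralizer_le_normalizer _))
    have h3 : B ⊓ C ≤ V ⊓ Subgroup.centralizer (A : Set G) := by
      intro x hx
      obtain ⟨hxB, hxC⟩ := Subgroup.mem_inf.mp hx
      exact Subgroup.mem_inf.mpr ⟨(Subgroup.mem_inf.mp hxC).1, hAc (hBA hxB)⟩
    have h4 : Nat.card (B ⊓ C : Subgroup G) ≤ Nat.card (V ⊓ Subgroup.centralizer (A : Set G) : Subgroup G) :=
      Subgroup.card_le_of_le h3
    rw [← h2]
    exact Nat.mul_le_mul h1 h4
  · rw [(Subgroup.commutator_eq_bot_iff_le_centralizer).mpr hAc]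
    exact bot_le
  · intro a ha
    rw [hA.1.2 a ha]
    exact one_mem _

end Cfsg.Agent.S0606
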