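import Cfsg.Statements.S0604
import Mathlib
import Cfsg.Agent.H1.Basic
import Cfsg.Agent.H1.Thompson
import Cfsg.Prelude.Def_Transfer

set_option autoImplicit false
open Cfsg

namespace Cfsg.Agent.S0604

open Cfsg.Agent.H1

/-- The Thompson subgroup of G is the join of the Thompson subgroups of its Sylow p-subgroups. -/
theorem result {G : Type*} [Group G] [Finite G] {p : ℕ} [Fact p.Prime] : Cfsg.thompsonSubgroup p G = ⨆ S : Sylow p G, Cfsg.thompsonSubgroupOf p (S : Subgroup G) := by
  have hpg : ∀ A : Subgroup G, Cfsg.IsElementaryAbelian p A → IsPGroup p A := by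
    intro A hA a
    refine ⟨1, ?_⟩
    apply Subtype.ext
    rw [pow_one, Subgroup.coe_pow, Subgroup.coe_one]
    exact hA.2 _ a.2
  apply le_antisymm
  · apply sSup_le
    intro A hA
    obtain ⟨S, hS⟩ := (hpg A hA.1).exists_le_sylow
    have h1 := subgroupOf_mem_maxElementaryAbelian (S : Subgroup G) hA hS
    have h2 : (A.subgroupOf (S : Subgroup G)).map (S : Subgroup G).subtype = A := Subgroup.map_subgroupOf_eq_of_le hS
    rw [← h2]
    refine le_trans ?_ (le_iSup _ S)
    exact Subgroup.map_mono (le_thompsonSubgroup h1)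
  · apply iSup_le
    intro S
    obtain ⟨A₀, hA₀⟩ := maxElementaryAbelian_nonempty (G := G) p
    obtain ⟨S₀, hS₀⟩ := (hpg A₀ hA₀.1).exists_le_sylow
    obtain ⟨g, rfl⟩ := MulAction.exists_smul_eq G S₀ S
    -- conjugate A₀ into g • S₀
    have hA₁ : A₀.map (MulAut.conj g).toMonoidHom ∈ Cfsg.maxElementaryAbelianSubgroups p G := by
      refine ⟨isElementaryAbelian_map _ hA₀.1, ?_⟩
      intro B hB
      rw [Subgroup.card_map_of_injective (MulAut.conj g).injective]
      exact hA₀.2 B hB
    have hA₁S : A₀.map (MulAut.conj g).toMonoidHom ≤ ((g • S₀ : Sylow p G) : Subgroup G) := by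
      rintro _ ⟨a, ha, rfl⟩
      show (MulAut.conj g) a ∈ g • S₀
      rw [MulAut.conj_apply, conj_mem_sylow_smul]
      exact hS₀ ha
    unfold Cfsg.thompsonSubgroupOf
    rw [Subgroup.map_le_iff_le_comap]
    apply sSup_le
    intro B hB
    rw [← Subgroup.map_le_iff_le_comap]
    exact le_thompsonSubgroup (map_mem_maxElementaryAbelian _ hB hA₁ hA₁S)

end Cfsg.Agent.S0604
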