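import Cfsg.Statements.S0608
import Mathlib
import Cfsg.Agent.H1.Basic
import Cfsg.Agent.H1.Card
import Cfsg.Agent.H1.Thompson
import Cfsg.Agent.H1.CoprimeAction
import Cfsg.Agent.H1.ConjMap
import Cfsg.Agent.Lib.Lead.TISylow
import Cfsg.Agent.Lib.Helper7.Thompson
import Cfsg.Agent.S0604
import Cfsg.Prelude.Def_PLocal
import Cfsg.Agent.H1.ThompsonFact

set_option autoImplicit false
open Cfsg

namespace Cfsg.Agent.S0608

set_option autoImplicit false
open H1

/-- With trivial p'-core, Thompson factorizability is equivalent to J(G) centralizing the subgroup generated by all Ω₁(Z(S)), S Sylow. -/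
theorem result {G : Type*} [Group G] [Finite G] {p : ℕ} [Fact p.Prime] (hO : Cfsg.pPrimeCore p G = ⊥) : Cfsg.IsThompsonFactorizable p G ↔ Cfsg.thompsonSubgroup p G ≤ Subgroup.centralizer ((⨆ S : Sylow p G, Cfsg.omegaOne p (((S : Subgroup G)) ⊓ Subgroup.centralizer ((S : Subgroup G) : Set G)) : Subgroup G) : Set G) := by
  constructor
  · intro hF
    rw [S0604.result (G := G) (p := p)]
    apply iSup_le
    intro S
    rw [Subgroup.le_centralizer_iff]
    apply iSup_le
    intro T
    rw [Cfsg.omegaOne, Subgroup.closure_le]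
    rintro z ⟨⟨hzT, hzC⟩, hzp⟩
    obtain ⟨g, hg⟩ := MulAction.exists_smul_eq G S T
    obtain ⟨x, hx, c, hc, n, hn, hgcn⟩ := hF S g⁻¹
    rw [hO, Subgroup.mem_bot] at hx
    subst hx
    rw [one_mul] at hgcn
    have hzT' : z ∈ (T : Subgroup G) := hzT
    have hzC' : z ∈ Subgroup.centralizer ((T : Subgroup G) : Set G) := hzC
    obtain ⟨w, hwdef⟩ : ∃ w, w = g⁻¹ * z * g := ⟨_, rfl⟩
    have hwS : w ∈ (S : Subgroup G) := by
      rw [← hg, Lib.Lead.TISylow.mem_sylow_smul] at hzT'
      rw [hwdef]; exact hzT'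
    have hwC : w ∈ Subgroup.centralizer ((S : Subgroup G) : Set G) := by
      rw [Subgroup.mem_centralizer_iff]
      intro h hh
      have h1 : g * h * g⁻¹ ∈ (T : Subgroup G) := by
        rw [← hg, Lib.Lead.TISylow.mem_sylow_smul]
        have e : g⁻¹ * (g * h * g⁻¹) * g = h := by group
        rw [e]; exact hh
      have h2 := Subgroup.mem_centralizer_iff.1 hzC' _ h1
      rw [hwdef]
      calc h * (g⁻¹ * z * g) = g⁻¹ * ((g * h * g⁻¹) * z) * g := by group
        _ = g⁻¹ * (z * (g * h * g⁻¹)) * g := by rw [h2]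
        _ = g⁻¹ * z * g * h := by group
    have hwp : w ^ p = 1 := by
      have e : w = g⁻¹ * z * (g⁻¹)⁻¹ := by rw [hwdef, inv_inv]
      rw [e, conj_pow, hzp]; group
    have hw : w ∈ Cfsg.omegaOne p ((S : Subgroup G) ⊓ Subgroup.centralizer ((S : Subgroup G) : Set G)) :=
      Subgroup.subset_closure ⟨⟨hwS, hwC⟩, hwp⟩
    have hcw : w * c = c * w := Subgroup.mem_centralizer_iff.1 hc w hw
    have hz : z = n⁻¹ * w * n := by
      calc z = (g⁻¹)⁻¹ * (g⁻¹ * z * g) * g⁻¹ := by group
        _ = (c * n)⁻¹ * w * (c * n) := by rw [← hwdef, hgcn]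
        _ = n⁻¹ * (c⁻¹ * (w * c)) * n := by group
        _ = n⁻¹ * (c⁻¹ * (c * w)) * n := by rw [hcw]
        _ = n⁻¹ * w * n := by group
    rw [SetLike.mem_coe, Subgroup.mem_centralizer_iff]
    intro j hj
    have hj' : n * j * n⁻¹ ∈ Cfsg.thompsonSubgroupOf p (S : Subgroup G) :=
      (Subgroup.mem_normalizer_iff.1 hn j).1 hj
    have h3 := Subgroup.mem_centralizer_iff.1 hwC _ (Lib.Helper7.thompsonSubgroupOf_le _ hj')
    rw [hz]
    calc j * (n⁻¹ * w * n) = n⁻¹ * ((n * j * n⁻¹) * w) * n := by group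
      _ = n⁻¹ * (w * (n * j * n⁻¹)) * n := by rw [h3]
      _ = n⁻¹ * w * n * j := by group
  · intro hJ S g
    have hVn := iSup_omegaOne_center_sylow_normal (G := G) (p := p)
    set C : Subgroup G := Subgroup.centralizer ((⨆ S : Sylow p G, Cfsg.omegaOne p (((S : Subgroup G)) ⊓
      Subgroup.centralizer ((S : Subgroup G) : Set G)) : Subgroup G) : Set G) with hC
    have hCn : C.Normal := Subgroup.normal_centralizer
    have htop := sylow_inf_normalizer_sup_eq_top S C
    have hg : g ∈ C ⊔ Subgroup.normalizer (((S : Subgroup G) ⊓ C : Subgroup G) : Set G) := by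
      rw [sup_comm, htop]; trivial
    rw [mem_sup_of_le_normalizer C _ (Subgroup.normalizer_eq_top C ▸ le_top)] at hg
    obtain ⟨c, hc, n, hn, rfl⟩ := hg
    refine ⟨1, one_mem _, c, ?_, n, ?_, by rw [one_mul]⟩
    · refine Subgroup.centralizer_le ?_ hc
      exact (le_iSup (fun S : Sylow p G => Cfsg.omegaOne p (((S : Subgroup G)) ⊓
        Subgroup.centralizer ((S : Subgroup G) : Set G))) S)
    · have hJS : Cfsg.thompsonSubgroupOf p (S : Subgroup G) ≤ (S : Subgroup G) ⊓ C := by
        apply le_inf (Lib.Helper7.thompsonSubgroupOf_le _)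
        refine le_trans ?_ hJ
        rw [S0604.result (G := G) (p := p)]
        exact le_iSup (fun S : Sylow p G => Cfsg.thompsonSubgroupOf p (S : Subgroup G)) S
      have h5 := thompsonSubgroupOf_eq_of_le hJS inf_le_left
      rw [← h5]
      exact normalizer_le_normalizer_thompsonSubgroupOf _ hn

end Cfsg.Agent.S0608
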