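import Mathlib
import Cfsg.Statements.S0862
import Cfsg.Agent.Lib.helper3.Det
import Cfsg.Agent.Lib.helper3.Gallagher3

set_option autoImplicit false
open Cfsg

namespace Cfsg.Agent.S0862

open Cfsg.Agent.Lib.helper3.Lin Cfsg.Agent.Lib.helper3.Irr Cfsg.Agent.Lib.helper3.Det

/-- Let N be a normal subgroup of the finite group G and ϑ an irreducible character of N of degree d coprime to the index of N, which is the restriction of some irreducible character of G. Let μ be a character of G of degree 1 whose restriction to N is the determinantal character of ϑ. Then there is exactly one irreducible character χ of G restricting to ϑ whose determinantal character is μ. -/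
theorem result {G : Type*} [Group G] [Finite G] (N : Subgroup G) [N.Normal] (ϑ : N → ℂ) (hϑ : Cfsg.IsIrrCharacter N ϑ) (d : ℕ) (hd : ϑ 1 = d) (hcop : Nat.Coprime N.index d) (hext : ∃ η : G → ℂ, Cfsg.IsIrrCharacter G η ∧ (∀ n : N, η n = ϑ n)) (μ : G → ℂ) (hμ : Cfsg.IsCharacter G μ ∧ μ 1 = 1) (hμN : ∀ n : N, μ n = Cfsg.detChar ϑ n) : ∃! χ : G → ℂ, Cfsg.IsIrrCharacter G χ ∧ (∀ n : N, χ n = ϑ n) ∧ Cfsg.detChar χ = μ := by
  classical
  letI : Fintype G := Fintype.ofFinite G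
  letI : Fintype N := Fintype.ofFinite N
  obtain ⟨η, hη, hηres⟩ := hext
  have hηc := isCharacter_of_isIrrCharacter hη
  obtain ⟨n, ρ, hirr, hρ⟩ := id hη
  have hϑeq : ϑ = fun x : N => η x := funext (fun x => (hηres x).symm)
  have hn : n = d := by
    have h1 : η 1 = (n : ℂ) := by
      rw [← hρ, Representation.char_one]
      simp
    have h2 : η 1 = (d : ℂ) := by
      rw [← hd]
      exact hηres 1
    rw [h1] at h2
    exact_mod_cast h2
  set ν : G →* ℂˣ := detHom ρ with hνdef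
  have hν : ∀ g, ((ν g : ℂˣ) : ℂ) = Cfsg.detChar η g := by
    intro g
    rw [detHom_apply, ← hρ, detChar_character]
  set M : G →* ℂˣ := toUnitsHom hμ.1 hμ.2 with hMdef
  have hM : ∀ g, ((M g : ℂˣ) : ℂ) = μ g := toUnitsHom_apply hμ.1 hμ.2
  have hMν : ∀ x : N, M (x : G) = ν (x : G) := by
    intro x
    apply Units.ext
    rw [hM, hν, hμN, hϑeq, detChar_restrict N hηc x]
  set δ : G →* ℂˣ := M * ν⁻¹ with hδdef
  have hδv : ∀ g, δ g = M g * (ν g)⁻¹ := fun g => rfl
  have hδN : ∀ g : G, g ∈ N → δ g = 1 := by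
    intro g hg
    rw [hδv, hMν ⟨g, hg⟩, mul_inv_cancel]
  have hδpow : δ ^ N.index = 1 := by
    ext g
    rw [MonoidHom.pow_apply, ← map_pow, hδN _ (Subgroup.pow_index_mem N g)]
    rfl
  have hcop' : Nat.Coprime d (orderOf δ) :=
    Nat.Coprime.coprime_dvd_right (orderOf_dvd_of_pow_eq_one hδpow) hcop.symm
  obtain ⟨m, hm⟩ := exists_pow_eq_self_of_coprime hcop'
  set β : G →* ℂˣ := δ ^ m with hβdef
  have hβv : ∀ g, β g = δ g ^ m := fun g => rfl
  have hβd : ∀ g, β g ^ d = δ g := by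
    intro g
    have h1 : ((δ ^ d) ^ m) g = δ g := by rw [hm]
    rw [MonoidHom.pow_apply, MonoidHom.pow_apply] at h1
    rw [hβv, ← pow_mul, mul_comm, pow_mul]
    exact h1
  have hβN : ∀ g : G, g ∈ N → β g = 1 := by
    intro g hg
    rw [hβv, hδN g hg, one_pow]
  have hβpow : ∀ g : G, β g ^ N.index = 1 := by
    intro g
    rw [← map_pow]
    exact hβN _ (Subgroup.pow_index_mem N g)
  -- determinant of a twist of `η`
  have hdet : ∀ (γ : G →* ℂˣ) (g : G),
      Cfsg.detChar ((fun g => ((γ g : ℂˣ) : ℂ)) * η) g = ((γ g : ℂˣ) : ℂ) ^ d * ((ν g : ℂˣ) : ℂ) := by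
    intro γ g
    rw [hν, ← hρ, detChar_twist γ ρ g]
    congr 2
    rw [← hn]
    simp
  have hδνM : ∀ g, ((δ g : ℂˣ) : ℂ) * ((ν g : ℂˣ) : ℂ) = μ g := by
    intro g
    rw [← hM, ← Units.val_mul, hδv, inv_mul_cancel_right]
  refine ⟨(fun g => ((β g : ℂˣ) : ℂ)) * η, ⟨?_, ?_, ?_⟩, ?_⟩
  · exact isIrrCharacter_linear_mul (isCharacter_of_hom β) (by simp) hη
  · intro x
    rw [Pi.mul_apply, hβN _ x.2, hηres]
    simp
  · funext g
    rw [hdet β g, ← Units.val_pow_eq_pow_val, hβd, hδνM]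
  · rintro χ' ⟨hχ', hres', hdet'⟩
    obtain ⟨B, hB, hB1, hBN, hχ'eq⟩ := exists_linear_mul_of_restrict_eq N η χ' hη hχ'
      (hϑeq ▸ hϑ) (fun x => (hres' x).trans (hηres x).symm)
    set Bu : G →* ℂˣ := toUnitsHom hB hB1 with hBudef
    have hBu : ∀ g, ((Bu g : ℂˣ) : ℂ) = B g := toUnitsHom_apply hB hB1
    have hBeq : B = fun g => ((Bu g : ℂˣ) : ℂ) := funext (fun g => (hBu g).symm)
    rw [hχ'eq]
    funext g
    rw [Pi.mul_apply, Pi.mul_apply]
    congr 1
    -- compare determinants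
    have h1 : ((Bu g : ℂˣ) : ℂ) ^ d * ((ν g : ℂˣ) : ℂ) = μ g := by
      rw [← hdet Bu g, ← hBeq, ← hχ'eq, hdet']
    have h2 : ((β g : ℂˣ) : ℂ) ^ d * ((ν g : ℂˣ) : ℂ) = μ g := by
      rw [← Units.val_pow_eq_pow_val, hβd, hδνM]
    have h3 : ((Bu g : ℂˣ) : ℂ) ^ d = ((β g : ℂˣ) : ℂ) ^ d :=
      mul_right_cancel₀ (Units.ne_zero (ν g)) (h1.trans h2.symm)
    have h4 : Bu g ^ d = β g ^ d := by
      apply Units.ext
      rw [Units.val_pow_eq_pow_val, Units.val_pow_eq_pow_val, h3]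
    have hBN' : ∀ g : G, g ∈ N → Bu g = 1 := by
      intro g hg
      apply Units.ext
      rw [hBu]
      exact hBN ⟨g, hg⟩
    have h5 : Bu g ^ N.index = 1 := by
      rw [← map_pow]
      exact hBN' _ (Subgroup.pow_index_mem N g)
    have h6 : (Bu g / β g) ^ d = 1 := by
      rw [div_pow, h4, div_self']
    have h7 : (Bu g / β g) ^ N.index = 1 := by
      rw [div_pow, h5, hβpow, div_self']
    have h8 := pow_gcd_eq_one.mpr ⟨h7, h6⟩
    rw [hcop.gcd_eq_one, pow_one] at h8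
    have h9 : Bu g = β g := div_eq_one.mp h8
    rw [← hBu, h9]

end Cfsg.Agent.S0862
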