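import Mathlib
import Cfsg.Statements.S0865
import Cfsg.Agent.Lib.helper3.TransferChar

set_option autoImplicit false
open Cfsg

namespace Cfsg.Agent.S0865

open Cfsg.Agent.Lib.helper3.Lin

/-- Let N be a normal subgroup of the finite group G and λ a character of N of degree 1, invariant under conjugation by G, whose order (under pointwise multiplication) is coprime to the index of N. Then there is a character μ of G of degree 1 restricting to λ with the same order as λ, and μ is the only degree-1 character of G restricting to λ whose order is coprime to the index of N. -/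
theorem result {G : Type*} [Group G] [Finite G] (N : Subgroup G) [hN : N.Normal] (lam : N → ℂ) (hlam : Cfsg.IsCharacter N lam ∧ lam 1 = 1) (hinv : ∀ (g : G) (n : N), lam ⟨g * n * g⁻¹, hN.conj_mem (n : G) n.2 g⟩ = lam n) (hcop : Nat.Coprime N.index (orderOf lam)) : ∃ μ : G → ℂ, (Cfsg.IsCharacter G μ ∧ μ 1 = 1 ∧ (∀ n : N, μ n = lam n) ∧ orderOf μ = orderOf lam) ∧ ∀ μ' : G → ℂ, Cfsg.IsCharacter G μ' ∧ μ' 1 = 1 → (∀ n : N, μ' n = lam n) → Nat.Coprime N.index (orderOf μ') → μ' = μ := by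
  classical
  set L : N →* ℂ := toHom hlam.1 hlam.2 with hL
  have hLv : ∀ x : N, L x = lam x := toHom_apply hlam.1 hlam.2
  set ϕ : N →* ℂˣ := toUnitsHom hlam.1 hlam.2 with hϕ
  have hϕv : ∀ x : N, ((ϕ x : ℂˣ) : ℂ) = lam x := toUnitsHom_apply hlam.1 hlam.2
  obtain ⟨n', hn'⟩ := exists_pow_eq_self_of_coprime hcop
  have htr : ∀ x : N, MonoidHom.transfer ϕ (x : G) = ϕ x ^ N.index := by
    intro x
    apply transfer_eq_pow_of_invariant
    intro k g₀ hk
    apply Units.ext
    rw [hϕv, Units.val_pow_eq_pow_val, hϕv]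
    have h1 := hinv g₀⁻¹ (x ^ k)
    have h2 : lam (x ^ k) = lam x ^ k := by
      rw [← hLv, map_pow, hLv]
    rw [← h2, ← h1]
    congr 1
    apply Subtype.ext
    simp
  set μ₀ : G →* ℂˣ := (powMonoidHom n').comp (MonoidHom.transfer ϕ) with hμ₀
  have hμ₀v : ∀ g : G, μ₀ g = MonoidHom.transfer ϕ g ^ n' := fun g => rfl
  have hres : ∀ x : N, ((μ₀ (x : G) : ℂˣ) : ℂ) = lam x := by
    intro x
    rw [hμ₀v, htr, Units.val_pow_eq_pow_val, Units.val_pow_eq_pow_val, hϕv]
    have := congrFun hn' x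
    simpa using this
  have hpow1 : (fun g : G => ((μ₀ g : ℂˣ) : ℂ)) ^ orderOf lam = 1 := by
    funext g
    obtain ⟨h, hh⟩ := transfer_mem_range ϕ g
    rw [Pi.pow_apply, hμ₀v, ← hh, Units.val_pow_eq_pow_val, hϕv, ← pow_mul, mul_comm, pow_mul]
    have := congrFun (pow_orderOf_eq_one lam) h
    rw [Pi.pow_apply, Pi.one_apply] at this
    rw [this, one_pow]
    rfl
  have hpow2 : lam ^ orderOf (fun g : G => ((μ₀ g : ℂˣ) : ℂ)) = 1 := by
    funext x
    have := congrFun (pow_orderOf_eq_one (fun g : G => ((μ₀ g : ℂˣ) : ℂ))) (x : G)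
    rw [Pi.pow_apply] at this ⊢
    rw [← hres x]
    exact this
  have hord : orderOf (fun g : G => ((μ₀ g : ℂˣ) : ℂ)) = orderOf lam :=
    Nat.dvd_antisymm (orderOf_dvd_of_pow_eq_one hpow1) (orderOf_dvd_of_pow_eq_one hpow2)
  refine ⟨fun g => ((μ₀ g : ℂˣ) : ℂ), ⟨isCharacter_of_hom μ₀, by simp, hres, hord⟩, ?_⟩
  intro μ' hμ' hres' hcop'
  funext g
  set L' : G →* ℂ := toHom hμ'.1 hμ'.2 with hL'
  have hL'v : ∀ x : G, L' x = μ' x := toHom_apply hμ'.1 hμ'.2
  have hgN : g ^ N.index ∈ N := Subgroup.pow_index_mem N g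
  have hne : ((μ₀ g : ℂˣ) : ℂ) ≠ 0 := Units.ne_zero _
  -- the ratio has order dividing both `N.index` and `orderOf μ' * orderOf lam`
  have h1 : (μ' g / ((μ₀ g : ℂˣ) : ℂ)) ^ N.index = 1 := by
    rw [div_pow, ← Units.val_pow_eq_pow_val, ← map_pow, ← hL'v, ← map_pow, hL'v]
    have e1 := hres' ⟨g ^ N.index, hgN⟩
    have e2 := hres ⟨g ^ N.index, hgN⟩
    simp only at e1 e2
    rw [e1, e2]
    apply div_self
    rw [← e2]
    exact Units.ne_zero _
  have h2 : (μ' g / ((μ₀ g : ℂˣ) : ℂ)) ^ (orderOf μ' * orderOf lam) = 1 := by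
    rw [div_pow]
    have e1 : μ' g ^ (orderOf μ' * orderOf lam) = 1 := by
      have := congrFun (pow_orderOf_eq_one μ') g
      rw [Pi.pow_apply, Pi.one_apply] at this
      rw [pow_mul, this, one_pow]
    have e2 : ((μ₀ g : ℂˣ) : ℂ) ^ (orderOf μ' * orderOf lam) = 1 := by
      have := congrFun hpow1 g
      rw [Pi.pow_apply, Pi.one_apply] at this
      rw [mul_comm, pow_mul, this, one_pow]
    rw [e1, e2, div_one]
  have hc : Nat.Coprime N.index (orderOf μ' * orderOf lam) := Nat.Coprime.mul_right hcop' hcop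
  have h3 := pow_gcd_eq_one.mpr ⟨h1, h2⟩
  rw [hc.gcd_eq_one, pow_one] at h3
  exact (div_eq_one_iff_eq hne).mp h3

end Cfsg.Agent.S0865
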