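import Mathlib
import Cfsg.Statements.S0887
import Cfsg.Agent.Lib.helper3.CExt6
import Cfsg.Agent.Lib.helper3.CliffCorr
import Cfsg.Agent.Lib.helper3.Ito
import Cfsg.Agent.Lib.helper3.Irr10

set_option autoImplicit false
open Cfsg

namespace Cfsg.Agent.S0887

open Cfsg.Agent.Lib.helper3.Irr Cfsg.Agent.Lib.helper3.IndFun

/-- Let N be a normal subgroup of the finite group G, χ an irreducible character of G and ϑ an irreducible character of N having nonzero inner product with the restriction of χ. If χ 1 = c and ϑ 1 = d as natural numbers, then d divides c and c / d divides the index of N. -/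
theorem result {G : Type*} [Group G] [Fintype G] (N : Subgroup G) [N.Normal] [Fintype N] (χ : G → ℂ) (hχ : Cfsg.IsIrrCharacter G χ) (ϑ : N → ℂ) (hϑ : Cfsg.IsIrrCharacter N ϑ) (hcon : Cfsg.classInner (fun n : N => χ n) ϑ ≠ 0) (c d : ℕ) (hc : χ 1 = c) (hd : ϑ 1 = d) : d ∣ c ∧ c / d ∣ N.index := by
  classical
  have hdc : d ∣ c := constituent_degree_dvd N χ hχ ϑ hϑ hcon c d hc hd
  refine ⟨hdc, ?_⟩
  have hϑcf := isClassFunction_of_isCharacter (isCharacter_of_isIrrCharacter hϑ)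
  obtain ⟨T, hTdef⟩ : ∃ T : Subgroup G, T = inertia N ϑ := ⟨_, rfl⟩
  have hT : ∀ g : G, g ∈ T ↔ ∀ h : N, ϑ ⟨g * h * g⁻¹, ‹N.Normal›.conj_mem h h.2 g⟩ = ϑ h := by
    intro g; rw [hTdef]; exact mem_inertia_iff N ϑ g
  have hNT : N ≤ T := by rw [hTdef]; exact le_inertia N ϑ hϑcf
  letI : Fintype T := Fintype.ofFinite _
  obtain ⟨ψ, hψ, hind, hmult⟩ := clifford_corr_surjective N ϑ hϑ T hT hNT χ hχ hcon
  letI : Fintype (N.subgroupOf T) := Fintype.ofFinite _
  haveI hN'n : (N.subgroupOf T).Normal := inferInstance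
  obtain ⟨ϑ', hϑ'def⟩ : ∃ ϑ' : N.subgroupOf T → ℂ, ϑ' = subFun N T ϑ := ⟨_, rfl⟩
  have hϑ'irr : Cfsg.IsIrrCharacter (N.subgroupOf T) ϑ' := by
    rw [hϑ'def]; exact isIrrCharacter_subFun hNT hϑ
  have hϑ'app : ∀ n' : N.subgroupOf T,
      ϑ' n' = ϑ ⟨((n' : T) : G), Subgroup.mem_subgroupOf.mp n'.2⟩ := by
    intro n'; rw [hϑ'def]; rfl
  have hϑ'inv : ∀ (t : T) (n' : N.subgroupOf T),
      ϑ' ⟨t * n' * t⁻¹, hN'n.conj_mem n' n'.2 t⟩ = ϑ' n' := by
    intro t n'
    rw [hϑ'app, hϑ'app]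
    have h1 := (hT t).mp t.2 ⟨((n' : T) : G), Subgroup.mem_subgroupOf.mp n'.2⟩
    rw [← h1]
    apply congrArg ϑ
    apply Subtype.ext
    simp
  have hψc := isCharacter_of_isIrrCharacter hψ
  obtain ⟨e, he⟩ := exists_nat_classInner_of_isCharacter
    (isCharacter_restrict hψc (N.subgroupOf T)) ⟨ϑ', hϑ'irr⟩
  simp only at he
  have hcon' : Cfsg.classInner (fun n : N => ψ ⟨(n : G), hNT n.2⟩) ϑ ≠ 0 := by
    rw [hmult]; exact hcon
  have hrel : Cfsg.classInner (fun n' : N.subgroupOf T => ψ (n' : T)) ϑ'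
      = Cfsg.classInner (fun n : N => ψ ⟨(n : G), hNT n.2⟩) ϑ := by
    rw [hϑ'def]
    exact classInner_subFun hNT (fun n : N => ψ ⟨(n : G), hNT n.2⟩) ϑ
  have he0 : Cfsg.classInner (fun n' : N.subgroupOf T => ψ (n' : T)) ϑ' ≠ 0 := by
    rw [hrel]; exact hcon'
  have hres : ∀ n' : N.subgroupOf T, ψ (n' : T) = (e : ℂ) * ϑ' n' := by
    have h := clifford (N.subgroupOf T) ψ hψ ϑ' hϑ'irr he0
    have hset : {φ : N.subgroupOf T → ℂ | ∃ t : T, φ = fun n' : N.subgroupOf T =>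
        ϑ' ⟨t * n' * t⁻¹, hN'n.conj_mem n' n'.2 t⟩} = {ϑ'} := by
      ext φ
      constructor
      · rintro ⟨t, rfl⟩
        show _ = ϑ'
        funext n'
        exact hϑ'inv t n'
      · intro hφ
        refine ⟨1, ?_⟩
        rw [Set.mem_singleton_iff.mp hφ]
        funext n'
        apply congrArg ϑ'
        apply Subtype.ext
        simp
    rw [hset, finsum_mem_singleton, he] at h
    intro n'
    have := congrFun h n'
    simpa using this
  have hram : e ∣ (N.subgroupOf T).index :=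
    Cfsg.Agent.Lib.helper3.CExt.ramification_dvd_index (N.subgroupOf T) ϑ' hϑ'irr hϑ'inv ψ hψ e hres
  -- degrees
  have hdpos : 0 < d := by
    have h1 := apply_one_ne_zero hϑ
    rw [hd] at h1
    exact Nat.pos_of_ne_zero (fun h0 => h1 (by rw [h0, Nat.cast_zero]))
  have hψ1 : ψ 1 = (e : ℂ) * (d : ℂ) := by
    have h1 := hres 1
    rw [hϑ'app] at h1
    have h2 : (⟨(((1 : N.subgroupOf T) : T) : G), Subgroup.mem_subgroupOf.mp
        (1 : N.subgroupOf T).2⟩ : N) = 1 := by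
      apply Subtype.ext; simp
    rw [h2, hd] at h1
    exact h1
  have hcval : c = T.index * e * d := by
    have h1 := congrFun hind 1
    rw [indFun_apply_one, hψ1, hc] at h1
    have : ((T.index * e * d : ℕ) : ℂ) = (c : ℂ) := by
      push_cast; rw [← h1]; ring
    exact_mod_cast this.symm
  have hquot : c / d = T.index * e := by
    rw [hcval]; exact Nat.mul_div_cancel _ hdpos
  rw [hquot]
  have hidx : (N.subgroupOf T).index * T.index = N.index := Subgroup.relIndex_mul_index hNT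
  rw [← hidx, mul_comm]
  exact Nat.mul_dvd_mul_right hram _

end Cfsg.Agent.S0887
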