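import Mathlib
import Cfsg.Statements.S0912
import Cfsg.Agent.Lib.helper3.BlockNil
import Cfsg.Agent.H1.Cores

set_option autoImplicit false
open Cfsg

set_option linter.style.haveILetI false

namespace Cfsg.Agent.S0912

open Cfsg.Agent.Lib.helper3.LocalM Cfsg.Agent.Lib.helper3.Block Cfsg.Agent.Lib.helper3.Irr Cfsg.Agent.Lib.helper3.CharBasic Cfsg.Agent.Lib.helper3.Central

/-- Let B be a block of the finite group G relative to a maximal ideal M of the algebraic integers containing the prime p. Every defect group of B contains the largest normal p-subgroup O_p(G). -/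
theorem result {G : Type*} [Group G] [Finite G] (p : ℕ) [Fact p.Prime] (M : Ideal Cfsg.AlgInt) (hM : Cfsg.IsPModular p M) (B : Set (Cfsg.IrrCharacter G)) (hB : Cfsg.IsPBlock M B) (D : Subgroup G) (hD : Cfsg.IsDefectGroup p M B D) : Cfsg.pCore p G ≤ D := by
  classical
  letI : Fintype G := Fintype.ofFinite G
  have hp : p.Prime := Fact.out
  haveI hMp : M.IsPrime := hM.2.1.isPrime
  have hMtop : M ≠ ⊤ := hM.2.1.ne_top
  haveI hnorm : (Cfsg.pCore p G).Normal := Cfsg.Agent.H1.pCore_normal p
  have hPG : IsPGroup p (Cfsg.pCore p G) := Cfsg.Agent.H1.pCore_isPGroup p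
  obtain ⟨g, hg, P', rfl⟩ := hD
  obtain ⟨χ₀, hB'⟩ := hB
  have hχ₀ : χ₀ ∈ B := by
    rw [hB']
    exact sameBlock_refl hMtop _
  have h1 := hg.2.2 χ₀ hχ₀
  -- some conjugate of `g` centralizes `O_p(G)`
  have h2 : ∃ x : G, IsConj g x ∧ x ∈ Subgroup.centralizer (Cfsg.pCore p G : Set G) := by
    by_contra hcon
    push Not at hcon
    exact h1 (memLocalIdeal_centralChar_of_not_centralizer hM (Cfsg.pCore p G) hPG g hcon χ₀)
  obtain ⟨x, hgx, hx⟩ := h2
  obtain ⟨t, ht⟩ := isConj_iff.mp hgx
  -- hence `g` does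
  have hle : Cfsg.pCore p G ≤ Subgroup.centralizer ({g} : Set G) := by
    intro u hu
    rw [Subgroup.mem_centralizer_iff]
    intro b hb
    rw [Set.mem_singleton_iff] at hb
    subst hb
    rw [Subgroup.mem_centralizer_iff] at hx
    have hu' : t * u * t⁻¹ ∈ Cfsg.pCore p G := hnorm.conj_mem u hu t
    have h3 := hx (t * u * t⁻¹) hu'
    rw [← ht] at h3
    have h4 : t * (u * b) * t⁻¹ = t * (b * u) * t⁻¹ := by
      calc t * (u * b) * t⁻¹ = t * u * t⁻¹ * (t * b * t⁻¹) := by group
        _ = t * b * t⁻¹ * (t * u * t⁻¹) := h3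
        _ = t * (b * u) * t⁻¹ := by group
    have h5 : u * b = b * u := mul_left_cancel (mul_right_cancel h4)
    exact h5.symm
  haveI hQn : ((Cfsg.pCore p G).subgroupOf (Subgroup.centralizer ({g} : Set G))).Normal :=
    Subgroup.Normal.subgroupOf hnorm _
  have hQp : IsPGroup p ((Cfsg.pCore p G).subgroupOf (Subgroup.centralizer ({g} : Set G))) :=
    hPG.comap_subtype
  have hQle := hQp.le_sylow_of_normal P'
  calc Cfsg.pCore p G = ((Cfsg.pCore p G).subgroupOf (Subgroup.centralizer ({g} : Set G))).map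
        (Subgroup.centralizer ({g} : Set G)).subtype := (Subgroup.map_subgroupOf_eq_of_le hle).symm
    _ ≤ _ := Subgroup.map_mono hQle

end Cfsg.Agent.S0912
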