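import Mathlib
import Cfsg.Statements.S0959
import Cfsg.Agent.Lib.helper3.BlockMinMax3

set_option autoImplicit false
open Cfsg

set_option linter.style.haveILetI false

namespace Cfsg.Agent.S0959

open Cfsg.Agent.Lib.helper3.LocalM Cfsg.Agent.Lib.helper3.Block Cfsg.Agent.Lib.helper3.Irr Cfsg.Agent.Lib.helper3.CharBasic Cfsg.Agent.Lib.helper3.Central

/-- Let B be a block of the finite group G with defect group D (relative to a maximal ideal M of the algebraic integers containing the prime p), and let P be a p-subgroup. Then there is an element g whose idempotent coefficient for B is a local integer outside the local ideal at M and which has a conjugate centralizing P, if and only if some conjugate of P is contained in D. -/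
theorem result {G : Type*} [Group G] [Finite G] (p : ℕ) [Fact p.Prime] (M : Ideal Cfsg.AlgInt) (hM : Cfsg.IsPModular p M) (B : Set (Cfsg.IrrCharacter G)) (hB : Cfsg.IsPBlock M B) (D : Subgroup G) (hD : Cfsg.IsDefectGroup p M B D) (P : Subgroup G) (hP : IsPGroup p P) : (∃ g : G, Cfsg.MemLocalRing M (Cfsg.blockCoeff B g) ∧ ¬ Cfsg.MemLocalIdeal M (Cfsg.blockCoeff B g) ∧ ∃ c : G, IsConj g c ∧ c ∈ Subgroup.centralizer (P : Set G)) ↔ ∃ x : G, P.map (MulAut.conj x).toMonoidHom ≤ D := by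
  classical
  letI : Fintype G := Fintype.ofFinite G
  haveI hMp : M.IsPrime := hM.2.1.isPrime
  have hMtop : M ≠ ⊤ := hM.2.1.ne_top
  obtain ⟨g₀, hg₀, D₀, rfl⟩ := hD
  obtain ⟨χ₀, hB'⟩ := id hB
  have hχ₀ : χ₀ ∈ B := by
    rw [hB']
    exact sameBlock_refl hMtop _
  constructor
  · rintro ⟨g, -, hgunit, c, hgc, hc⟩
    have hcunit : ¬ Cfsg.MemLocalIdeal M (Cfsg.blockCoeff B c) := by
      obtain ⟨t, rfl⟩ := isConj_iff.mp hgc
      rw [blockCoeff_conj]
      exact hgunit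
    have hPc : P ≤ Subgroup.centralizer ({c} : Set G) := by
      intro u hu
      rw [Subgroup.mem_centralizer_iff] at hc ⊢
      intro b hb
      rw [Set.mem_singleton_iff] at hb
      subst hb
      exact (hc u hu).symm
    obtain ⟨y, hy, hPy⟩ := exists_conj_centralized hM B hB g₀ c ⟨χ₀, hχ₀, hg₀.2.2 χ₀ hχ₀⟩ hcunit P hP hPc
    obtain ⟨t, rfl⟩ := isConj_iff.mp hy
    have h1 := centralizer_conj_le g₀ t P hPy
    have hP1 : IsPGroup p (P.map (MulAut.conj t⁻¹).toMonoidHom) := hP.map _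
    obtain ⟨c', hc', hle⟩ := exists_le_conj_sylow (Subgroup.centralizer ({g₀} : Set G)) D₀ _ hP1 h1
    refine ⟨c'⁻¹ * t⁻¹, ?_⟩
    intro q hq
    obtain ⟨u, hu, rfl⟩ := Subgroup.mem_map.mp hq
    have hq1 : t⁻¹ * u * t ∈ P.map (MulAut.conj t⁻¹).toMonoidHom := by
      rw [Subgroup.mem_map]
      exact ⟨u, hu, by simp⟩
    have hq2 := hle hq1
    rw [Subgroup.mem_map] at hq2
    obtain ⟨d, hd, hdq⟩ := hq2
    simp only [MulEquiv.coe_toMonoidHom, MulAut.conj_apply] at hdq ⊢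
    have e : c'⁻¹ * t⁻¹ * u * (c'⁻¹ * t⁻¹)⁻¹ = d := by
      calc c'⁻¹ * t⁻¹ * u * (c'⁻¹ * t⁻¹)⁻¹ = c'⁻¹ * (t⁻¹ * u * t) * c' := by group
        _ = c'⁻¹ * (c' * d * c'⁻¹) * c' := by rw [hdq]
        _ = d := by group
    rw [e]
    exact hd
  · rintro ⟨x, hx⟩
    refine ⟨g₀, hg₀.1, hg₀.2.1, x⁻¹ * g₀ * x, isConj_iff.mpr ⟨x⁻¹, by simp⟩, ?_⟩
    rw [Subgroup.mem_centralizer_iff]
    intro u hu
    have h1 : x * u * x⁻¹ ∈ (D₀ : Subgroup (Subgroup.centralizer ({g₀} : Set G))).map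
        (Subgroup.centralizer ({g₀} : Set G)).subtype := by
      apply hx
      rw [Subgroup.mem_map]
      exact ⟨u, hu, by simp⟩
    have h2 : x * u * x⁻¹ ∈ Subgroup.centralizer ({g₀} : Set G) :=
      Subgroup.map_subtype_le _ h1
    rw [Subgroup.mem_centralizer_iff] at h2
    have h3 := h2 g₀ (Set.mem_singleton g₀)
    calc u * (x⁻¹ * g₀ * x) = x⁻¹ * ((x * u * x⁻¹) * g₀) * x := by group
      _ = x⁻¹ * (g₀ * (x * u * x⁻¹)) * x := by rw [h3]
      _ = x⁻¹ * g₀ * x * u := by group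

end Cfsg.Agent.S0959
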