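import Mathlib
import Cfsg.Statements.S0958
import Cfsg.Agent.Lib.helper3.IndBlockLocal
import Cfsg.Agent.Lib.helper3.SubpairBlock
import Cfsg.Agent.S0912
import Cfsg.Agent.S0917
import Cfsg.Agent.S0919
import Cfsg.Agent.S0959

set_option autoImplicit false
open Cfsg

set_option linter.style.haveILetI false

namespace Cfsg.Agent.S0958

open Cfsg.Agent.Lib.helper3.Block Cfsg.Agent.Lib.helper3.LocalM Cfsg.Agent.Lib.helper3.Irr Cfsg.Agent.Lib.helper3.CharBasic

/-- Let P be a p-subgroup of the finite group G and H a subgroup with P ⊔ C_G(P) ≤ H ≤ N_G(P); fix a maximal ideal M of the algebraic integers containing p. Then a block B of G is induced by some block of H if and only if some conjugate of P is contained in a defect group of B. -/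
theorem result {G : Type*} [Group G] [Finite G] (p : ℕ) [Fact p.Prime] (M : Ideal Cfsg.AlgInt) (hM : Cfsg.IsPModular p M) (P H : Subgroup G) (hP : IsPGroup p P) (hPH : P ⊔ Subgroup.centralizer (P : Set G) ≤ H) (hHN : H ≤ Subgroup.normalizer (P : Set G)) (B : Set (Cfsg.IrrCharacter G)) (hB : Cfsg.IsPBlock M B) : (∃ b : Set (Cfsg.IrrCharacter H), Cfsg.IsInducedBlock M H b B) ↔ ∃ D : Subgroup G, Cfsg.IsDefectGroup p M B D ∧ ∃ x : G, P.map (MulAut.conj x).toMonoidHom ≤ D := by
  classical
  letI : Fintype G := Fintype.ofFinite G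
  haveI : Fintype H := Fintype.ofFinite H
  haveI : Fintype (Subgroup.centralizer (P : Set G)) := Fintype.ofFinite _
  haveI hMp := isPrime_of_isPModular hM
  have hMtop : M ≠ ⊤ := hM.2.1.ne_top
  have hPleH : P ≤ H := le_trans le_sup_left hPH
  have hCH : Subgroup.centralizer (P : Set G) ≤ H := le_trans le_sup_right hPH
  constructor
  · -- an induced block has a defect group containing `P`
    rintro ⟨b, hind⟩
    have hb := hind.1
    obtain ⟨g₀, hg₀⟩ := exists_defectClass hM b hb
    obtain ⟨S₀⟩ : Nonempty (Sylow p (Subgroup.centralizer ({g₀} : Set H))) := inferInstance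
    have hDb : Cfsg.IsDefectGroup p M b
        ((S₀ : Subgroup (Subgroup.centralizer ({g₀} : Set H))).map
          (Subgroup.centralizer ({g₀} : Set H)).subtype) := ⟨g₀, hg₀, S₀, rfl⟩
    have hcore := Cfsg.Agent.S0912.result p M hM b hb _ hDb
    obtain ⟨E, hE, hDE⟩ := Cfsg.Agent.S0917.result p M hM H b hb B hB hind _ hDb
    refine ⟨E, hE, 1, ?_⟩
    have hP' : P.subgroupOf H ≤ Cfsg.pCore p H := by
      apply le_sSup
      refine ⟨?_, hP.comap_subtype⟩
      exact (Subgroup.normal_subgroupOf_iff_le_normalizer hPleH).mpr hHN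
    intro y hy
    obtain ⟨u, hu, rfl⟩ := hy
    have hu' : u ∈ P := hu
    apply hDE
    refine ⟨⟨u, hPleH hu'⟩, hcore (hP' ?_), ?_⟩
    · rw [Subgroup.mem_subgroupOf]
      exact hu'
    · simp
  · rintro ⟨D, hD, x, hx⟩
    obtain ⟨g, -, hgnot, c, hgc, hc⟩ :=
      (Cfsg.Agent.S0959.result p M hM B hB D hD P hP).mpr ⟨x, hx⟩
    have hcnot : ¬ Cfsg.MemLocalIdeal M (Cfsg.blockCoeff B c) := by
      obtain ⟨t, rfl⟩ := isConj_iff.mp hgc
      rw [blockCoeff_conj' B g t]
      exact hgnot
    by_contra hno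
    push Not at hno
    apply hcnot
    have haloc : ∀ g, Cfsg.MemLocalRing M (Cfsg.blockCoeff B g) := fun g => osima hM B hB g
    have hacl : ∀ g x : G, Cfsg.blockCoeff B (x * g * x⁻¹) = Cfsg.blockCoeff B g :=
      fun g x => blockCoeff_conj' B g x
    -- all central characters of `H` vanish on the truncation
    have hcH : ∀ ξ : Cfsg.IrrCharacter H, Cfsg.MemLocalIdeal M
        (∑ h : H, Cfsg.blockCoeff B (h : G) * ((ξ : H → ℂ) h / (ξ : H → ℂ) 1)) := by
      intro ξ
      obtain ⟨B', hB'⟩ := Cfsg.Agent.S0919.result p M hM P H hP hPleH hCH hHN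
        (Cfsg.blockOf M (ξ : H → ℂ)) ⟨ξ, rfl⟩
      obtain ⟨χ', hχ'⟩ : ∃ χ', χ' ∈ B' := by
        obtain ⟨χ, hχ⟩ := hB'.2.1
        exact ⟨χ, hχ ▸ sameBlock_refl hMtop _⟩
      have hχ'B : χ' ∉ B := by
        intro h
        have := block_eq_of_mem hB'.2.1 hB χ' hχ' h
        rw [this] at hB'
        exact hno _ hB'
      have h1 := memLocalIdeal_sum_sub_of_induced H _ B' hB' ξ (sameBlock_refl hMtop _) χ' hχ'
        (Cfsg.blockCoeff B) haloc hacl
      rw [sum_blockCoeff_mul_div, if_neg hχ'B, sub_zero] at h1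
      exact h1
    -- the truncation
    obtain ⟨z, hz⟩ : ∃ z : G → ℂ, z = fun g => if g ∈ H then Cfsg.blockCoeff B g else 0 :=
      ⟨_, rfl⟩
    have hz_mem : ∀ g, g ∈ H → z g = Cfsg.blockCoeff B g := by
      intro g hg
      rw [hz]
      beta_reduce
      rw [if_pos hg]
    have hz_supp : ∀ g, g ∉ H → z g = 0 := by
      intro g hg
      rw [hz]
      beta_reduce
      rw [if_neg hg]
    have hz_loc : ∀ g, Cfsg.MemLocalRing M (z g) := by
      intro g
      by_cases hg : g ∈ H
      · rw [hz_mem g hg]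
        exact haloc g
      · rw [hz_supp g hg]
        exact memLocalRing_of_integral isIntegral_zero
    have hz_H : ∀ h ∈ H, ∀ g, z (h * g * h⁻¹) = z g := by
      intro h hh g
      have hiff : g ∈ H ↔ h * g * h⁻¹ ∈ H := by
        constructor
        · intro hg
          exact H.mul_mem (H.mul_mem hh hg) (H.inv_mem hh)
        · intro hg
          have := H.mul_mem (H.mul_mem (H.inv_mem hh) hg) hh
          rwa [show h⁻¹ * (h * g * h⁻¹) * h = g by group] at this
      by_cases hg : g ∈ H
      · rw [hz_mem g hg, hz_mem _ (hiff.mp hg), hacl]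
      · rw [hz_supp g hg, hz_supp _ (fun h' => hg (hiff.mpr h'))]
    have hcz : ∀ ξ : Cfsg.IrrCharacter H, Cfsg.MemLocalIdeal M
        (∑ h : H, z (h : G) * ((ξ : H → ℂ) h / (ξ : H → ℂ) 1)) := by
      intro ξ
      have := hcH ξ
      convert this using 1
      apply Finset.sum_congr rfl
      intro h _
      rw [hz_mem _ h.2]
    have hΛ : ∀ ξ' : Cfsg.IrrCharacter (Subgroup.centralizer (P : Set G)),
        Cfsg.MemLocalIdeal M (Cfsg.brauerOmega P (Cfsg.blockCoeff B)
          (ξ' : Subgroup.centralizer (P : Set G) → ℂ)) := by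
      intro ξ'
      have h1 := memLocalIdeal_brauerOmega_of_centralChar hM P hP H z hz_loc
        (fun u hu => hz_H u (hPleH hu)) (fun c hc => hz_H c (hCH hc)) hz_supp hz_H hcz ξ'
      rw [brauerOmega_eq_sum] at h1 ⊢
      convert h1 using 1
      apply Finset.sum_congr rfl
      intro y _
      rw [hz_mem _ (hCH y.2)]
    exact memLocalIdeal_blockCoeff_of_brauerOmega hM P hP B hB hΛ c hc

end Cfsg.Agent.S0958
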