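import Mathlib
import Cfsg.Statements.S0933
import Cfsg.Agent.Lib.helper3.BlockInd

set_option autoImplicit false
open Cfsg

set_option linter.style.haveILetI false

namespace Cfsg.Agent.S0933

open Cfsg.Agent.Lib.helper3.LocalM Cfsg.Agent.Lib.helper3.Block Cfsg.Agent.Lib.helper3.Irr Cfsg.Agent.Lib.helper3.CharBasic Cfsg.Agent.Lib.helper3.Central

/-- Let H be a subgroup of the finite group G and ξ an irreducible character of H such that the induced function ξ^G is an irreducible character of G. Then, relative to any maximal ideal M of the algebraic integers containing the prime p, the block of ξ induces the block of ξ^G. -/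
theorem result {G : Type*} [Group G] [Fintype G] (p : ℕ) [Fact p.Prime] (M : Ideal Cfsg.AlgInt) (hM : Cfsg.IsPModular p M) (H : Subgroup G) (ξ : Cfsg.IrrCharacter H) (hind : Cfsg.IsIrrCharacter G (Cfsg.indFun H (ξ : H → ℂ))) : Cfsg.IsInducedBlock M H (Cfsg.blockOf M (ξ : H → ℂ)) (Cfsg.blockOf M (Cfsg.indFun H (ξ : H → ℂ))) := by
  classical
  haveI hMp : M.IsPrime := hM.2.1.isPrime
  refine ⟨⟨ξ, rfl⟩, ⟨⟨Cfsg.indFun H (ξ : H → ℂ), hind⟩, rfl⟩, ?_⟩
  intro ξ' hξ' χ' hχ' g
  have h1 : Cfsg.SameBlock M (ξ : H → ℂ) (ξ' : H → ℂ) := hξ'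
  have h2 : Cfsg.SameBlock M (Cfsg.indFun H (ξ : H → ℂ)) (χ' : G → ℂ) := hχ'
  have h3 := memLocalIdeal_inducedCentralChar_sub H ξ' ξ (sameBlock_symm h1) g
  have h4 := h2 g
  rw [centralChar_indFun H (ξ : H → ℂ) (apply_one_ne_zero ξ.2) g] at h4
  have := memLocalIdeal_add h3 h4
  rwa [sub_add_sub_cancel] at this

end Cfsg.Agent.S0933
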