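import Mathlib
import Cfsg.Statements.S0970
import Cfsg.Agent.Lib.helper3.Fong4
import Cfsg.Agent.Lib.helper3.BlockMinMax3
import Cfsg.Agent.S0908

set_option autoImplicit false
open Cfsg

namespace Cfsg.Agent.S0970

set_option linter.style.haveILetI false

open Cfsg Cfsg.Agent.Lib.helper3.Block Cfsg.Agent.Lib.helper3.LocalM Cfsg.Agent.Lib.helper3.Irr Cfsg.Agent.Lib.helper3.CharBasic

/-- Let N be a normal subgroup of the finite group G and fix a maximal ideal M of the algebraic integers containing the prime p. Let b be a block of N that is invariant under conjugation by G, and B a block of G covering b (some χ ∈ B has a constituent in b) whose defect is at least that of every block covering b. If P is a defect group of B, then p does not divide the index of P ⊔ N, the subgroup P ∩ N of N is a defect group of b, and the defect of B equals the defect of b plus the exponent of p in the index of N. -/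
theorem result {G : Type*} [Group G] [Fintype G] (p : ℕ) [Fact p.Prime] (M : Ideal Cfsg.AlgInt) (hM : Cfsg.IsPModular p M) (N : Subgroup G) [hN : N.Normal] [Fintype N] (b : Set (Cfsg.IrrCharacter N)) (hb : Cfsg.IsPBlock M b) (hinv : ∀ g : G, ∀ θ ∈ b, ∀ θ' : Cfsg.IrrCharacter N, (∀ n : N, (θ' : N → ℂ) n = (θ : N → ℂ) ⟨g * n * g⁻¹, hN.conj_mem n n.2 g⟩) → θ' ∈ b) (B : Set (Cfsg.IrrCharacter G)) (hB : Cfsg.IsPBlock M B) (hcov : ∃ χ ∈ B, ∃ θ ∈ b, Cfsg.classInner (fun n : N => (χ : G → ℂ) n) (θ : N → ℂ) ≠ 0) (hmax : ∀ B' : Set (Cfsg.IrrCharacter G), Cfsg.IsPBlock M B' → (∃ χ ∈ B', ∃ θ ∈ b, Cfsg.classInner (fun n : N => (χ : G → ℂ) n) (θ : N → ℂ) ≠ 0) → Cfsg.blockDefect p B' ≤ Cfsg.blockDefect p B) (P : Subgroup G) (hP : Cfsg.IsDefectGroup p M B P) : ¬ p ∣ (P ⊔ N).index ∧ Cfsg.IsDefectGroup p M b ((P ⊓ N).subgroupOf N) ∧ Cfsg.blockDefect p B = Cfsg.blockDefect p b + N.index.factorization p := by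
  classical
  haveI hMp := isPrime_of_isPModular hM
  have hMtop : M ≠ ⊤ := hMp.ne_top
  have hS : ConjStable N b := by
    intro θ hθ g θ' hθ'
    apply hinv g θ hθ θ'
    intro n
    rw [hθ']
    rfl
  obtain ⟨χ, hχB, θ₀, hθ₀, hover⟩ := hcov
  have hχover : ∃ θ ∈ b, Cfsg.classInner (fun n : N => (χ : G → ℂ) n) (θ : N → ℂ) ≠ 0 :=
    ⟨θ₀, hθ₀, hover⟩
  obtain ⟨n₀, hn₀1, hn₀2⟩ := exists_coeff_centralChar_notMem hM N b hb hS χ hχover
  obtain ⟨g, hg, D, hPD⟩ := hP
  obtain ⟨x, Q, hxQ⟩ := (min_max hM B hB g hg D (n₀ : G)).2 ⟨χ, hχB, hn₀2⟩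
  -- the conjugated element
  obtain ⟨n, hn⟩ : ∃ n : N, n = ⟨x⁻¹ * (n₀ : G) * x⁻¹⁻¹, hN.conj_mem n₀ n₀.2 x⁻¹⟩ := ⟨_, rfl⟩
  have hncoe : (n : G) = x⁻¹ * (n₀ : G) * x⁻¹⁻¹ := by rw [hn]
  have hn1 : ¬ MemLocalIdeal M (blockCoeff b n) := by
    rw [hn, blockCoeff_conj_of_stable N b hS x⁻¹ n₀]
    exact hn₀1
  have hn2 : ¬ MemLocalIdeal M (centralChar (χ : G → ℂ) (n : G)) := by
    rw [hncoe, centralChar_conj]
    exact hn₀2
  have hPC : P ≤ Subgroup.centralizer ({(n : G)} : Set G) := by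
    intro u hu
    have h1 : x * u * x⁻¹ ∈ ((D : Subgroup (Subgroup.centralizer ({g} : Set G))).map
        (Subgroup.centralizer ({g} : Set G)).subtype).map (MulAut.conj x).toMonoidHom := by
      rw [← hPD]
      exact ⟨u, hu, by simp⟩
    have h2 := hxQ h1
    obtain ⟨c, -, hc⟩ := h2
    have hc' : x * u * x⁻¹ ∈ Subgroup.centralizer ({(n₀ : G)} : Set G) := by
      rw [← hc]
      exact c.2
    rw [Subgroup.mem_centralizer_singleton_iff] at hc' ⊢
    rw [hncoe, inv_inv]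
    calc u * (x⁻¹ * (n₀ : G) * x) = x⁻¹ * ((x * u * x⁻¹) * (n₀ : G)) * x := by group
      _ = x⁻¹ * ((n₀ : G) * (x * u * x⁻¹)) * x := by rw [hc']
      _ = x⁻¹ * (n₀ : G) * x * u := by group
  -- the detecting class is a defect class
  obtain ⟨hnum, hdc⟩ := isDefectClass_of_notMem hM N b hb hS χ hχover n hn1 hn2
  obtain ⟨hrel, hfac⟩ := factorization_centralizer_of_numClasses (p := p) N n hnum
  have hdb := factorization_centralizer_of_isDefectClass hM b hb n hdc
  rw [hdb] at hfac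
  -- the defect of `B`
  have hle : Cfsg.blockDefect p B
      ≤ (Nat.card (Subgroup.centralizer ({(n : G)} : Set G))).factorization p := by
    by_contra hlt
    push Not at hlt
    exact hn2 (memLocalIdeal_centralChar_of_lt hM B hB χ hχB (n : G) hlt)
  have hge : (Nat.card (Subgroup.centralizer ({(n : G)} : Set G))).factorization p
      ≤ Cfsg.blockDefect p B := by
    apply le_of_forall_degree hM N b hb hS n hn1
    intro χ' hχ'
    have hB' : Cfsg.IsPBlock M (Cfsg.blockOf M (χ' : G → ℂ)) := ⟨χ', rfl⟩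
    have hχ'mem : χ' ∈ Cfsg.blockOf M (χ' : G → ℂ) := sameBlock_refl hMtop _
    obtain ⟨θ', hθ', hover'⟩ := hχ'
    have h1 := hmax _ hB' ⟨χ', hχ'mem, θ', hθ', hover'⟩
    have h2 : sInf ((fun ψ : Cfsg.IrrCharacter G =>
        (Cfsg.charDegree (ψ : G → ℂ)).factorization p) '' Cfsg.blockOf M (χ' : G → ℂ))
        ≤ (Cfsg.charDegree (χ' : G → ℂ)).factorization p := Nat.sInf_le ⟨χ', hχ'mem, rfl⟩
    unfold Cfsg.blockDefect at h1 ⊢
    omega
  have hdef : Cfsg.blockDefect p B = Cfsg.blockDefect p b + N.index.factorization p := by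
    rw [← hfac]
    exact le_antisymm hle hge
  -- the defect group
  have hPcard : Nat.card P
      = p ^ (Nat.card (Subgroup.centralizer ({(n : G)} : Set G))).factorization p := by
    rw [Cfsg.Agent.S0908.result p M hM B hB P ⟨g, hg, D, hPD⟩, le_antisymm hle hge]
  obtain ⟨hidx, hcard⟩ := sylow_count' N (Subgroup.centralizer ({(n : G)} : Set G)) P hrel hPC
    hPcard
  obtain ⟨Q', hQ'⟩ := exists_sylow_centralizer N n P hPC hcard
  exact ⟨hidx, ⟨n, hdc, Q', hQ'⟩, hdef⟩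

end Cfsg.Agent.S0970
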