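import Mathlib
import Cfsg.Statements.S0971
import Cfsg.Agent.Lib.helper3.BlockCover2
import Cfsg.Agent.Lib.helper3.BlockNil

set_option autoImplicit false
open Cfsg

namespace Cfsg.Agent.S0971

set_option linter.style.haveILetI false

open Cfsg Cfsg.Agent.Lib.helper3.Block Cfsg.Agent.Lib.helper3.Central Cfsg.Agent.Lib.helper3.LocalM Cfsg.Agent.Lib.helper3.Irr Cfsg.Agent.Lib.helper3.GalPow

/-- Let Q be a normal p-subgroup of the finite group G, let N = Q ⊔ C_G(Q) (a normal subgroup) and let b be a block of N relative to a maximal ideal M of the algebraic integers containing p. Then b induces some block of G, and every block B of G containing a character whose restriction to N has a constituent in b is induced by b. -/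
theorem result {G : Type*} [Group G] [Fintype G] (p : ℕ) [Fact p.Prime] (M : Ideal Cfsg.AlgInt) (hM : Cfsg.IsPModular p M) (Q : Subgroup G) [Q.Normal] (hQ : IsPGroup p Q) [Fintype ↥(Q ⊔ Subgroup.centralizer (Q : Set G))] (b : Set (Cfsg.IrrCharacter ↥(Q ⊔ Subgroup.centralizer (Q : Set G)))) (hb : Cfsg.IsPBlock M b) : Cfsg.InducedBlockDefined M (Q ⊔ Subgroup.centralizer (Q : Set G)) b ∧ ∀ B : Set (Cfsg.IrrCharacter G), Cfsg.IsPBlock M B → (∃ χ ∈ B, ∃ θ ∈ b, Cfsg.classInner (fun n : ↥(Q ⊔ Subgroup.centralizer (Q : Set G)) => (χ : G → ℂ) n) (θ : ↥(Q ⊔ Subgroup.centralizer (Q : Set G)) → ℂ) ≠ 0) → Cfsg.IsInducedBlock M (Q ⊔ Subgroup.centralizer (Q : Set G)) b B := by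
  classical
  haveI hMp := isPrime_of_isPModular hM
  have hMtop : M ≠ ⊤ := hM.2.1.ne_top
  obtain ⟨N, hNdef⟩ : ∃ N : Subgroup G, N = Q ⊔ Subgroup.centralizer (Q : Set G) := ⟨_, rfl⟩
  haveI hNn : (Q ⊔ Subgroup.centralizer (Q : Set G)).Normal := inferInstance
  have hCN : Subgroup.centralizer (Q : Set G) ≤ Q ⊔ Subgroup.centralizer (Q : Set G) := le_sup_right
  -- every covering block is induced
  have hcover : ∀ B : Set (Cfsg.IrrCharacter G), Cfsg.IsPBlock M B →
      (∃ χ ∈ B, ∃ θ ∈ b, Cfsg.classInner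
        (fun n : ↥(Q ⊔ Subgroup.centralizer (Q : Set G)) => (χ : G → ℂ) n)
        (θ : ↥(Q ⊔ Subgroup.centralizer (Q : Set G)) → ℂ) ≠ 0) →
      Cfsg.IsInducedBlock M (Q ⊔ Subgroup.centralizer (Q : Set G)) b B := by
    intro B hB hcov
    refine ⟨hb, hB, ?_⟩
    intro ξ hξ χ hχ g
    by_cases hg : g ∈ Q ⊔ Subgroup.centralizer (Q : Set G)
    · obtain ⟨χ₀, hχ₀, θ₀, hθ₀, hne⟩ := hcov
      obtain ⟨χ₁, rfl⟩ := hB
      obtain ⟨θ₁, rfl⟩ := hb
      have h1 : SameBlock M (χ₀ : G → ℂ) (χ : G → ℂ) := sameBlock_trans (sameBlock_symm hχ₀) hχ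
      have h2 : SameBlock M (ξ : ↥(Q ⊔ Subgroup.centralizer (Q : Set G)) → ℂ)
          (θ₀ : ↥(Q ⊔ Subgroup.centralizer (Q : Set G)) → ℂ) :=
        sameBlock_trans (sameBlock_symm hξ) hθ₀
      have h3 := centralChar_eq_of_over _ χ₀ θ₀ hne ⟨g, hg⟩
      have h4 := memLocalIdeal_inducedCentralChar_sub _ ξ θ₀ h2 g
      have h5 := memLocalIdeal_add h4 (h1 g)
      simp only at h3
      rw [← h3] at h5
      convert h5 using 1
      ring
    · have h1 : inducedCentralChar (Q ⊔ Subgroup.centralizer (Q : Set G))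
          (ξ : ↥(Q ⊔ Subgroup.centralizer (Q : Set G)) → ℂ) g = 0 := by
        rw [inducedCentralChar_eq_sum]
        apply Finset.sum_eq_zero
        intro h _
        rw [if_neg]
        intro hc
        obtain ⟨t, ht⟩ := isConj_iff.mp hc
        apply hg
        have h2 : g = t⁻¹ * (h : G) * t⁻¹⁻¹ := by
          rw [← ht]; group
        rw [h2]
        exact hNn.conj_mem _ h.2 _
      rw [h1, zero_sub]
      apply memLocalIdeal_neg
      apply memLocalIdeal_centralChar_of_not_centralizer hM Q hQ g _ χ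
      intro x hx hxC
      obtain ⟨t, ht⟩ := isConj_iff.mp hx
      apply hg
      have h2 : g = t⁻¹ * x * t⁻¹⁻¹ := by
        rw [← ht]; group
      rw [h2]
      exact hNn.conj_mem _ (hCN hxC) _
  refine ⟨?_, hcover⟩
  obtain ⟨θ₁, hθ₁⟩ := hb
  have hθ₁b : θ₁ ∈ b := by
    rw [hθ₁]
    exact sameBlock_refl hMtop _
  obtain ⟨χ₂, hχ₂⟩ := exists_irr_over (Q ⊔ Subgroup.centralizer (Q : Set G))
    (θ₁ : ↥(Q ⊔ Subgroup.centralizer (Q : Set G)) → ℂ) θ₁.2
  exact ⟨blockOf M (χ₂ : G → ℂ), hcover _ ⟨χ₂, rfl⟩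
    ⟨χ₂, sameBlock_refl hMtop _, θ₁, hθ₁b, hχ₂⟩⟩

end Cfsg.Agent.S0971
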