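import Mathlib
import Cfsg.Statements.S4492
import Cfsg.Agent.Lib.helper3.FongB6
import Cfsg.Agent.Lib.Lead.PSolvable

set_option autoImplicit false
set_option maxHeartbeats 400000
open Cfsg

namespace Cfsg.Agent.S4492

/-- Let G be a finite p-solvable group, N = O_{p'}(G) its largest normal subgroup of order prime to p, and θ an irreducible character of N invariant under conjugation by G; fix a maximal ideal M of the algebraic integers containing p. Then the irreducible characters of G lying over θ (those whose restriction to N contains θ) form a single p-block of G, and the defect groups of that block are exactly the Sylow p-subgroups of G. -/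
theorem result {G : Type*} [Group G] [Fintype G] (p : ℕ) [Fact p.Prime] (M : Ideal Cfsg.AlgInt) (hM : Cfsg.IsPModular p M) (hsolv : Cfsg.IsPSolvable p G) (N : Subgroup G) [hN : N.Normal] [Fintype N] (hNdef : N = Cfsg.pPrimeCore p G) (θ : Cfsg.IrrCharacter N) (hinv : ∀ (g : G) (n : N), (θ : N → ℂ) ⟨g * n * g⁻¹, hN.conj_mem n n.2 g⟩ = (θ : N → ℂ) n) : ∃ B : Set (Cfsg.IrrCharacter G), Cfsg.IsPBlock M B ∧ (∀ χ : Cfsg.IrrCharacter G, χ ∈ B ↔ Cfsg.classInner (fun n : N => (χ : G → ℂ) n) (θ : N → ℂ) ≠ 0) ∧ (∀ P : Sylow p G, Cfsg.IsDefectGroup p M B (P : Subgroup G)) ∧ ∀ D : Subgroup G, Cfsg.IsDefectGroup p M B D → ∃ P : Sylow p G, D = (P : Subgroup G) := by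
  classical
  subst hNdef
  haveI hMp := Cfsg.Agent.Lib.helper3.LocalM.isPrime_of_isPModular hM
  have hKc : (Nat.card ↥(Cfsg.pPrimeCore p G)).Coprime p := Cfsg.Agent.H1.pPrimeCore_coprime p
  have hNp : ¬ p ∣ Nat.card ↥(Cfsg.pPrimeCore p G) :=
    (Nat.Prime.coprime_iff_not_dvd (Fact.out : p.Prime)).1 hKc.symm
  have hNL : Cfsg.pPrimeCore p G ≤ Cfsg.pPrimePCore p G :=
    Cfsg.Agent.Lib.Lead.PSolvable.pPrimeCore_le_pPrimePCore
  obtain ⟨a, ha⟩ := IsPGroup.iff_card.mp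
    (Cfsg.Agent.H1.pCore_isPGroup (G := G ⧸ Cfsg.pPrimeCore p G) p)
  have hMcard : Nat.card ↥(Cfsg.pPrimePCore p G) =
      Nat.card ↥(Cfsg.pCore p (G ⧸ Cfsg.pPrimeCore p G)) * Nat.card ↥(Cfsg.pPrimeCore p G) :=
    Cfsg.Agent.H2.card_comap_mk' (Cfsg.pPrimeCore p G) (Cfsg.pCore p (G ⧸ Cfsg.pPrimeCore p G))
  have hidx : (Cfsg.pPrimeCore p G).relIndex (Cfsg.pPrimePCore p G) = p ^ a := by
    have h1 := Subgroup.card_mul_index ((Cfsg.pPrimeCore p G).subgroupOf (Cfsg.pPrimePCore p G))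
    have h2 : Nat.card ↥((Cfsg.pPrimeCore p G).subgroupOf (Cfsg.pPrimePCore p G))
        = Nat.card ↥(Cfsg.pPrimeCore p G) :=
      Nat.card_congr (Subgroup.subgroupOfEquivOfLe hNL).toEquiv
    rw [h2, hMcard, ha, mul_comm] at h1
    exact Nat.eq_of_mul_eq_mul_right Nat.card_pos h1
  obtain ⟨P⟩ : Nonempty (Sylow p ↥(Cfsg.pPrimePCore p G)) := inferInstance
  have hcon := Cfsg.Agent.Lib.Lead.PSolvable.IsPSolvable.isPConstrained hsolv P
  have hQ : IsPGroup p ↥((P : Subgroup ↥(Cfsg.pPrimePCore p G)).map (Cfsg.pPrimePCore p G).subtype) :=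
    P.isPGroup'.map _
  have hB := Cfsg.Agent.Lib.helper3.FongB.isPBlock_irrOver hM (Cfsg.pPrimeCore p G)
    (Cfsg.pPrimePCore p G)
    ((P : Subgroup ↥(Cfsg.pPrimePCore p G)).map (Cfsg.pPrimePCore p G).subtype) hNL hNp a hidx
    (Subgroup.map_subtype_le _) hQ hcon θ hinv
  have hcard := Cfsg.Agent.Lib.helper3.FongB.card_of_isDefectGroup_irrOver hM
    (Cfsg.pPrimeCore p G) hNp θ hinv hB
  refine ⟨_, hB, fun χ => Iff.rfl, ?_, ?_⟩
  · intro S
    exact Cfsg.Agent.Lib.helper3.FongB.isDefectGroup_sylow hM _ hB hcard S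
  · intro D hD
    exact ⟨Sylow.ofCard D (hcard D hD), rfl⟩


end Cfsg.Agent.S4492
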