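import Mathlib
import Cfsg.Statements.S3380
import Cfsg.Agent.S0519
import Cfsg.Agent.H1.CriticalSubgroup
import Cfsg.Agent.H1.NormalRankTwo
import Cfsg.Agent.H2.UniqueOrderP

set_option autoImplicit false
open Cfsg

namespace Cfsg.Agent.S3380


section Part0

universe u

section CyclicUnique

/-- in a finite cyclic group, two elements of the same prime order generate the same subgroup -/
theorem mem_zpowers_of_isCyclic {B : Type*} [Group B] [Finite B] [IsCyclic B] (p : ℕ)
    [hp : Fact p.Prime] (x z : B) (hx : orderOf x = p) (hz : orderOf z = p) :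
    x ∈ Subgroup.zpowers z := by
  classical
  haveI : Fintype B := Fintype.ofFinite B
  by_contra hx'
  have h1 : (Finset.univ.filter (fun a : B => a ^ p = 1)).card ≤ p :=
    IsCyclic.card_pow_eq_one_le hp.out.pos
  have h2 : insert x ((Subgroup.zpowers z : Set B).toFinset) ⊆
      Finset.univ.filter (fun a : B => a ^ p = 1) := by
    intro a ha
    rw [Finset.mem_insert] at ha
    rw [Finset.mem_filter]
    refine ⟨Finset.mem_univ _, ?_⟩
    rcases ha with rfl | ha
    · rw [← hx]; exact pow_orderOf_eq_one _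
    · rw [Set.mem_toFinset] at ha
      obtain ⟨k, rfl⟩ := Subgroup.mem_zpowers_iff.1 ha
      rw [← zpow_natCast, ← zpow_mul, mul_comm, zpow_mul, zpow_natCast, ← hz,
        pow_orderOf_eq_one, one_zpow]
  have h3 : (insert x ((Subgroup.zpowers z : Set B).toFinset)).card = p + 1 := by
    rw [Finset.card_insert_of_notMem]
    · congr 1
      rw [Set.toFinset_card, ← Nat.card_eq_fintype_card]
      change Nat.card (Subgroup.zpowers z) = p
      rw [Nat.card_zpowers, hz]
    · rw [Set.mem_toFinset]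
      exact hx'
  have := Finset.card_le_card h2
  omega

end CyclicUnique

section GroupPart

variable {G : Type u} [Group G] [Finite G] {p : ℕ} [hp : Fact p.Prime]

theorem exists_normal_abelian_noncyclic (hG : IsPGroup p G)
    (hnc : ¬ IsCyclic G) (hnq : ∀ n : ℕ, ¬ Nonempty (G ≃* QuaternionGroup n))
    (hnd : ∀ n : ℕ, ¬ Nonempty (G ≃* DihedralGroup n)) (hnsd : ¬ Cfsg.IsQuasiDihedral G) :
    ∃ A : Subgroup G, A.Normal ∧ IsMulCommutative A ∧ ¬ IsCyclic A := by
  by_contra h
  have hn : ∀ A : Subgroup G, A.Normal → IsMulCommutative A → IsCyclic A := by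
    intro A h1 h2
    by_contra h3
    exact h ⟨A, h1, h2, h3⟩
  by_cases hm : ∃ B : Subgroup G, IsMulCommutative B ∧ ¬ IsCyclic B
  · obtain ⟨-, h3⟩ := Cfsg.Agent.S0519.result p hG hn hm
    rcases h3 with ⟨n, ⟨e⟩⟩ | ⟨n, -, ⟨e⟩⟩ | h4
    · exact hnq n ⟨e⟩
    · exact hnd n ⟨e⟩
    · exact hnsd h4
  · have hall : ∀ B : Subgroup G, IsMulCommutative B → IsCyclic B := by
      intro B h1
      by_contra h2
      exact hm ⟨B, h1, h2⟩
    haveI : Nontrivial G := by
      by_contra hnt
      rw [not_nontrivial_iff_subsingleton] at hnt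
      exact hnc inferInstance
    -- a central element of order p
    obtain ⟨z, -, hzc, hzo⟩ := Cfsg.Agent.H1.exists_central_order_p hG (⊤ : Subgroup G)
      (by
        intro h
        have : Nat.card (⊤ : Subgroup G) = 1 := by rw [h, Subgroup.card_bot]
        rw [Subgroup.card_top] at this
        have := Finite.one_lt_card (α := G)
        omega)
    have key : ∀ H : Subgroup G, Nat.card H = p → H = Subgroup.zpowers z := by
      intro H hH
      haveI : Fact (Nat.card H).Prime := ⟨by rw [hH]; exact hp.out⟩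
      have hne : ∃ x : H, x ≠ 1 := by
        have : 1 < Nat.card H := by rw [hH]; exact hp.out.one_lt
        haveI : Nontrivial H := (Finite.one_lt_card_iff_nontrivial).1 this
        exact exists_ne 1
      obtain ⟨x, hx1⟩ := hne
      have hxo : orderOf (x : G) = p := by
        rw [Subgroup.orderOf_coe]
        have hd : orderOf x ∣ p := by rw [← hH]; exact orderOf_dvd_natCard x
        rcases (Nat.dvd_prime hp.out).1 hd with h | h
        · exact absurd (orderOf_eq_one_iff.1 h) hx1
        · exact h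
      have hcomm : ∀ a ∈ ({(x : G), z} : Set G), ∀ b ∈ ({(x : G), z} : Set G), a * b = b * a := by
        intro a ha b hb
        rw [Subgroup.mem_center_iff] at hzc
        rcases ha with rfl | rfl <;> rcases hb with rfl | rfl
        · rfl
        · exact hzc _
        · exact (hzc _).symm
        · rfl
      have hBc := Subgroup.isMulCommutative_closure hcomm
      haveI := hall _ hBc
      have hxB : (x : G) ∈ Subgroup.closure ({(x : G), z} : Set G) :=
        Subgroup.subset_closure (by simp)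
      have hzB : z ∈ Subgroup.closure ({(x : G), z} : Set G) :=
        Subgroup.subset_closure (by simp)
      have hmem := mem_zpowers_of_isCyclic p
        (⟨x, hxB⟩ : Subgroup.closure ({(x : G), z} : Set G)) ⟨z, hzB⟩
        (by rw [← Subgroup.orderOf_coe]; exact hxo) (by rw [← Subgroup.orderOf_coe]; exact hzo)
      obtain ⟨k, hk⟩ := Subgroup.mem_zpowers_iff.1 hmem
      have hk' : z ^ k = (x : G) := by
        have := congrArg Subtype.val hk
        simpa using this
      have hle : Subgroup.zpowers (x : G) ≤ Subgroup.zpowers z := by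
        rw [Subgroup.zpowers_le, ← hk']
        exact Subgroup.zpow_mem_zpowers z k
      have hxH : Subgroup.zpowers (x : G) ≤ H := by
        rw [Subgroup.zpowers_le]; exact x.2
      have e1 : Subgroup.zpowers (x : G) = Subgroup.zpowers z := by
        apply Subgroup.eq_of_le_of_card_ge hle
        rw [Nat.card_zpowers, Nat.card_zpowers, hxo, hzo]
      have e2 : Subgroup.zpowers (x : G) = H := by
        apply Subgroup.eq_of_le_of_card_ge hxH
        rw [Nat.card_zpowers, hxo, hH]
      rw [← e2, e1]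
    have huniq : ∀ H K : Subgroup G, Nat.card H = p → Nat.card K = p → H = K := by
      intro H K hH hK
      rw [key H hH, key K hK]
    rcases Cfsg.Agent.H2.UOP.main p hG huniq with h | ⟨-, n, ⟨e⟩⟩
    · exact hnc h
    · exact hnq _ ⟨e⟩

end GroupPart

end Part0

section Part1

universe u

section Pair

variable {G : Type u} [Group G] [Finite G] {p : ℕ} [hp : Fact p.Prime]

/-- `Ω₁` of an abelian subgroup -/
def omega1 (p : ℕ) (A : Subgroup G) [hA : IsMulCommutative A] : Subgroup G where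
  carrier := {a | a ∈ A ∧ a ^ p = 1}
  mul_mem' := by
    rintro a b ⟨ha, ha'⟩ ⟨hb, hb'⟩
    refine ⟨mul_mem ha hb, ?_⟩
    have hc : Commute a b := Subgroup.mul_comm_of_mem_isMulCommutative A ha hb
    rw [hc.mul_pow, ha', hb', one_mul]
  one_mem' := ⟨one_mem _, one_pow _⟩
  inv_mem' := by
    rintro a ⟨ha, ha'⟩
    exact ⟨inv_mem ha, by rw [inv_pow, ha', inv_one]⟩

theorem mem_omega1 (A : Subgroup G) [hA : IsMulCommutative A] (a : G) :
    a ∈ omega1 p A ↔ a ∈ A ∧ a ^ p = 1 := Iff.rfl

instance omega1_normal (A : Subgroup G) [hA : IsMulCommutative A] [hAn : A.Normal] :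
    (omega1 p A).Normal := by
  constructor
  intro a ha g
  rw [mem_omega1] at ha ⊢
  exact ⟨hAn.conj_mem a ha.1 g, by rw [conj_pow, ha.2, mul_one, mul_inv_cancel]⟩

theorem zpowers_normal_of_center (z : G) (hz : z ∈ Subgroup.center G) :
    (Subgroup.zpowers z).Normal := by
  constructor
  intro n hn g
  obtain ⟨j, rfl⟩ := Subgroup.mem_zpowers_iff.mp hn
  have hc0 : Commute g z := Subgroup.mem_center_iff.mp hz g
  have hc : Commute g (z ^ j) := hc0.zpow_right j
  rw [hc.eq, mul_inv_cancel_right]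
  exact Subgroup.zpow_mem_zpowers z j

theorem exists_pair (hG : IsPGroup p G) (A : Subgroup G) (hAn : A.Normal)
    (hAc : IsMulCommutative A) (hAnc : ¬ IsCyclic A) :
    ∃ z e : G, z ∈ Subgroup.center G ∧ orderOf z = p ∧ orderOf e = p ∧
      e ∉ Subgroup.zpowers z ∧ ∀ g : G, e⁻¹ * (g * e * g⁻¹) ∈ Subgroup.zpowers z := by
  -- two distinct subgroups of order p in A
  have hex : ∃ H K : Subgroup A, Nat.card H = p ∧ Nat.card K = p ∧ H ≠ K := by
    by_contra hcon
    apply hAnc
    apply Cfsg.Agent.H2.UOP.isCyclic_of_comm p (hG.to_subgroup A) (fun x y => mul_comm' x y)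
    intro H K hH hK
    by_contra hne
    exact hcon ⟨H, K, hH, hK, hne⟩
  obtain ⟨H, K, hH, hK, hHK⟩ := hex
  have hmapcard : ∀ L : Subgroup A, Nat.card (L.map A.subtype) = Nat.card L := by
    intro L
    exact Subgroup.card_map_of_injective A.subtype_injective
  have hmaple : ∀ L : Subgroup A, Nat.card L = p → L.map A.subtype ≤ omega1 p A := by
    intro L hL x hx
    obtain ⟨y, hy, rfl⟩ := Subgroup.mem_map.1 hx
    rw [mem_omega1]
    refine ⟨y.2, ?_⟩
    have h1 : (⟨y, hy⟩ : L) ^ p = 1 := by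
      rw [← hL]; exact pow_card_eq_one'
    have h2 := congrArg (fun w : L => ((w : A) : G)) h1
    simpa using h2
  have hN : omega1 p A ≠ ⊥ := by
    intro h
    have h1 := hmaple H hH
    rw [h, le_bot_iff] at h1
    have h2 := hmapcard H
    rw [h1, Subgroup.card_bot, hH] at h2
    exact hp.out.one_lt.ne h2
  obtain ⟨z, hzN, hzc, hzo⟩ := Cfsg.Agent.H1.exists_central_order_p hG (omega1 p A) hN
  haveI hZn : (Subgroup.zpowers z).Normal := zpowers_normal_of_center z hzc
  have hne : ¬ omega1 p A ≤ Subgroup.zpowers z := by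
    intro hle
    apply hHK
    have e1 : H.map A.subtype = Subgroup.zpowers z := by
      apply Subgroup.eq_of_le_of_card_ge ((hmaple H hH).trans hle)
      rw [hmapcard, hH, Nat.card_zpowers, hzo]
    have e2 : K.map A.subtype = Subgroup.zpowers z := by
      apply Subgroup.eq_of_le_of_card_ge ((hmaple K hK).trans hle)
      rw [hmapcard, hK, Nat.card_zpowers, hzo]
    exact Subgroup.map_injective A.subtype_injective (e1.trans e2.symm)
  obtain ⟨x, hxN, hxZ, -, hxc⟩ :=
    Cfsg.Agent.H1.exists_central_order_p_mod hG (Subgroup.zpowers z) (omega1 p A) hne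
  refine ⟨z, x, hzc, hzo, ?_, hxZ, ?_⟩
  · apply orderOf_eq_prime ((mem_omega1 A x).1 hxN).2
    intro h
    apply hxZ
    rw [h]
    exact one_mem _
  · intro g
    have h1 := inv_mem (hxc g)
    have h2 : (x * g * x⁻¹ * g⁻¹)⁻¹ = g * x * g⁻¹ * x⁻¹ := by group
    rw [h2] at h1
    have h3 := hZn.conj_mem _ h1 x⁻¹
    have h4 : x⁻¹ * (g * x * g⁻¹ * x⁻¹) * x⁻¹⁻¹ = x⁻¹ * (g * x * g⁻¹) := by group
    rw [h4] at h3
    exact h3

end Pair

end Part1

section Part2

universe u

section Pw

variable {G : Type u} [Group G] {p : ℕ} [hp : Fact p.Prime]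

/-- powers indexed by `ZMod p` -/
def pw (x : G) (i : ZMod p) : G := x ^ i.val

theorem pow_mod_of (x : G) (hx : x ^ p = 1) (n : ℕ) : x ^ (n % p) = x ^ n := by
  conv_rhs => rw [← Nat.div_add_mod n p, pow_add, pow_mul, hx, one_pow, one_mul]

theorem pw_zero (x : G) : pw x (0 : ZMod p) = 1 := by
  unfold pw
  rw [ZMod.val_zero, pow_zero]

theorem pw_one (x : G) : pw x (1 : ZMod p) = x := by
  haveI : Fact (1 < p) := ⟨hp.out.one_lt⟩
  unfold pw
  rw [ZMod.val_one, pow_one]

theorem pw_add (x : G) (hx : x ^ p = 1) (i j : ZMod p) : pw x (i + j) = pw x i * pw x j := by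
  unfold pw
  rw [ZMod.val_add, pow_mod_of x hx, pow_add]

theorem pw_mul (x : G) (hx : x ^ p = 1) (i j : ZMod p) : pw x (i * j) = (pw x i) ^ j.val := by
  unfold pw
  rw [ZMod.val_mul, pow_mod_of x hx, pow_mul]

theorem pw_neg_mul (x : G) (hx : x ^ p = 1) (i : ZMod p) : pw x (-i) * pw x i = 1 := by
  rw [← pw_add x hx, neg_add_cancel, pw_zero]

theorem pw_mem_zpowers (x : G) (i : ZMod p) : pw x i ∈ Subgroup.zpowers x :=
  Subgroup.npow_mem_zpowers x _

theorem pw_injective (x : G) (hx : orderOf x = p) : Function.Injective (pw (p := p) x) := by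
  intro i j h
  unfold pw at h
  have h1 : i.val < orderOf x := by rw [hx]; exact ZMod.val_lt i
  have h2 : j.val < orderOf x := by rw [hx]; exact ZMod.val_lt j
  exact ZMod.val_injective p (pow_injOn_Iio_orderOf h1 h2 h)

theorem exists_pw_of_mem_zpowers (x : G) (hx : orderOf x = p) (y : G)
    (hy : y ∈ Subgroup.zpowers x) : ∃ c : ZMod p, y = pw x c := by
  obtain ⟨k, rfl⟩ := Subgroup.mem_zpowers_iff.1 hy
  refine ⟨(k : ZMod p), ?_⟩
  unfold pw
  have h1 : x ^ p = 1 := by rw [← hx]; exact pow_orderOf_eq_one x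
  have h2 : ((k : ZMod p).val : ℤ) = k % (p : ℤ) := ZMod.val_intCast k
  rw [← zpow_natCast, h2]
  have h3 : k = (p : ℤ) * (k / p) + k % p := (Int.mul_ediv_add_emod k p).symm
  conv_lhs => rw [h3, zpow_add, zpow_mul, zpow_natCast, h1, one_zpow, one_mul]

end Pw

end Part2

section Part3

universe u

section Lin

variable {q : ℕ} [hq : Fact q.Prime] {V : Type*} [AddCommGroup V] [Module (ZMod q) V]
  {G : Type u} [Group G] {p : ℕ} [hp : Fact p.Prime] (ρ : G →* (V ≃ₗ[ZMod q] V))

instance neZero_p : NeZero p := ⟨hp.out.ne_zero⟩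

theorem rho_mul (a b : G) (v : V) : ρ (a * b) v = ρ a (ρ b v) := by
  rw [map_mul, LinearEquiv.mul_apply]

theorem rho_one (v : V) : ρ 1 v = v := by
  rw [map_one]
  rfl

theorem fixed_pow {u : G} {v : V} (h : ρ u v = v) (n : ℕ) : ρ (u ^ n) v = v := by
  induction n with
  | zero => rw [pow_zero, rho_one]
  | succ n ih => rw [pow_succ, rho_mul, h, ih]

/-- averaging operator over `⟨u⟩` -/
noncomputable def Sop (p : ℕ) [Fact p.Prime] (u : G) : V →ₗ[ZMod q] V :=
  ∑ k : ZMod p, ((ρ (pw u k) : V ≃ₗ[ZMod q] V) : V →ₗ[ZMod q] V)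

theorem Sop_apply (u : G) (v : V) : Sop ρ p u v = ∑ k : ZMod p, ρ (pw u k) v := by
  unfold Sop
  rw [LinearMap.sum_apply]
  rfl

theorem Sop_fixed (u : G) (hu : u ^ p = 1) (v : V) : ρ u (Sop ρ p u v) = Sop ρ p u v := by
  rw [Sop_apply, map_sum]
  have h1 : ∀ k : ZMod p, ρ u (ρ (pw u k) v) = ρ (pw u (1 + k)) v := by
    intro k
    rw [← rho_mul, pw_add u hu, pw_one]
  rw [Finset.sum_congr rfl (fun k _ => h1 k)]
  exact Equiv.sum_comp (Equiv.addLeft (1 : ZMod p)) (fun k => ρ (pw u k) v)

theorem Sop_of_fixed (u : G) (v : V) (h : ρ u v = v) : Sop ρ p u v = (p : ZMod q) • v := by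
  rw [Sop_apply]
  have h1 : ∀ k : ZMod p, ρ (pw u k) v = v := fun k => fixed_pow ρ h _
  rw [Finset.sum_congr rfl (fun k _ => h1 k), Finset.sum_const, Finset.card_univ, ZMod.card,
    Nat.cast_smul_eq_nsmul]

end Lin

section Decomp

variable {q : ℕ} [hq : Fact q.Prime] {V : Type*} [AddCommGroup V] [Module (ZMod q) V]
  {G : Type u} [Group G] {p : ℕ} [hp : Fact p.Prime] (ρ : G →* (V ≃ₗ[ZMod q] V))
  (z e : G) (hz : z ^ p = 1) (he : e ^ p = 1) (hez : e * z = z * e)
  (hz0 : ∀ v : V, ρ z v = v → v = 0)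

/-- the elements `e zⁱ` -/
def uu (z e : G) (i : ZMod p) : G := e * pw z i

include hez in
theorem comm_e_pw (i : ZMod p) : Commute e (pw z i) := by
  unfold pw
  exact (show Commute e z from hez).pow_right _

include hz he hez in
theorem uu_pow (i k : ZMod p) : pw (uu z e i) k = pw e k * pw z (i * k) := by
  unfold uu
  rw [pw_mul z hz]
  unfold pw
  exact (comm_e_pw z e hez i).mul_pow _

include hz he hez in
theorem uu_pow_p (i : ZMod p) : (uu z e i) ^ p = 1 := by
  unfold uu
  rw [(comm_e_pw z e hez i).mul_pow, he, one_mul]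
  unfold pw
  rw [← pow_mul, mul_comm, pow_mul, hz, one_pow]

include hz hz0 in
theorem Sop_z (v : V) : Sop ρ p z v = 0 := hz0 _ (Sop_fixed ρ z hz v)

include hz he hez hz0 in
theorem total (v : V) : ∑ i : ZMod p, Sop ρ p (uu z e i) v = (p : ZMod q) • v := by
  have h1 : ∀ i : ZMod p, Sop ρ p (uu z e i) v = ∑ k : ZMod p, ρ (pw e k) (ρ (pw z (i * k)) v) := by
    intro i
    rw [Sop_apply]
    apply Finset.sum_congr rfl
    intro k _
    rw [uu_pow z e hz he hez, rho_mul]
  rw [Finset.sum_congr rfl (fun i _ => h1 i), Finset.sum_comm]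
  rw [Finset.sum_eq_single (0 : ZMod p)]
  · have h2 : ∀ i : ZMod p, ρ (pw e (0 : ZMod p)) (ρ (pw z (i * 0)) v) = v := by
      intro i
      rw [mul_zero, pw_zero, pw_zero, rho_one, rho_one]
    rw [Finset.sum_congr rfl (fun i _ => h2 i), Finset.sum_const, Finset.card_univ, ZMod.card,
      Nat.cast_smul_eq_nsmul]
  · intro k _ hk
    rw [← map_sum]
    have h3 : ∑ i : ZMod p, ρ (pw z (i * k)) v = Sop ρ p z v := by
      rw [Sop_apply]
      exact Equiv.sum_comp (Equiv.mulRight₀ k hk) (fun b => ρ (pw z b) v)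
    rw [h3, Sop_z ρ z hz hz0, map_zero]
  · intro h
    exact absurd (Finset.mem_univ _) h

include hz he hez hz0 in
theorem cross (i j : ZMod p) (hij : i ≠ j) (w : V) (hw : ρ (uu z e j) w = w) :
    Sop ρ p (uu z e i) w = 0 := by
  have h1 : ∀ k : ZMod p, ρ (pw (uu z e i) k) w = ρ (pw z ((i - j) * k)) w := by
    intro k
    have h2 : ρ (pw (uu z e j) (-k)) w = w := fixed_pow ρ hw _
    conv_lhs => rw [← h2]
    rw [← rho_mul, uu_pow z e hz he hez, uu_pow z e hz he hez]
    congr 2
    have c1 : Commute (pw z (i * k)) (pw e (-k)) := (comm_e_pw z e hez _).symm.pow_right _ |>.symm.symm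
    calc pw e k * pw z (i * k) * (pw e (-k) * pw z (j * -k))
        = pw e k * (pw z (i * k) * pw e (-k)) * pw z (j * -k) := by group
      _ = pw e k * (pw e (-k) * pw z (i * k)) * pw z (j * -k) := by rw [c1.eq]
      _ = (pw e k * pw e (-k)) * (pw z (i * k) * pw z (j * -k)) := by group
      _ = pw z ((i - j) * k) := by
        rw [← pw_add e he, ← pw_add z hz, add_neg_cancel, pw_zero, one_mul]
        congr 1
        ring
  rw [Sop_apply, Finset.sum_congr rfl (fun k _ => h1 k)]
  have h3 : ∑ k : ZMod p, ρ (pw z ((i - j) * k)) w = Sop ρ p z w := by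
    rw [Sop_apply]
    exact Equiv.sum_comp (Equiv.mulLeft₀ (i - j) (sub_ne_zero.2 hij)) (fun b => ρ (pw z b) w)
  rw [h3, Sop_z ρ z hz hz0]

/-- the fixed space of `e zⁱ` -/
def Wz (z e : G) (i : ZMod p) : Submodule (ZMod q) V where
  carrier := {v | ρ (uu z e i) v = v}
  add_mem' := by
    intro a b ha hb
    simp only [Set.mem_setOf_eq] at ha hb ⊢
    rw [map_add, ha, hb]
  zero_mem' := by
    simp only [Set.mem_setOf_eq]
    rw [map_zero]
  smul_mem' := by
    intro c a ha
    simp only [Set.mem_setOf_eq] at ha ⊢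
    rw [map_smul, ha]

theorem mem_Wz (i : ZMod p) (v : V) : v ∈ Wz ρ z e i ↔ ρ (uu z e i) v = v := Iff.rfl

include hz he hez hz0 in
theorem iSup_Wz (hpq : (p : ZMod q) ≠ 0) : ⨆ i : ZMod p, Wz ρ z e i = ⊤ := by
  rw [eq_top_iff]
  intro v _
  have h1 := total ρ z e hz he hez hz0 v
  have h2 : v = (p : ZMod q)⁻¹ • ∑ i : ZMod p, Sop ρ p (uu z e i) v := by
    rw [h1, smul_smul, inv_mul_cancel₀ hpq, one_smul]
  rw [h2]
  apply Submodule.smul_mem
  apply Submodule.sum_mem
  intro i _
  apply Submodule.mem_iSup_of_mem i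
  rw [mem_Wz]
  exact Sop_fixed ρ _ (uu_pow_p z e hz he hez i) v

include hz he hez hz0 in
theorem indep_Wz (hpq : (p : ZMod q) ≠ 0) : iSupIndep (fun i : ZMod p => Wz ρ z e i) := by
  rw [iSupIndep_def]
  intro i
  rw [Submodule.disjoint_def]
  intro x hx hx'
  have h1 : Sop ρ p (uu z e i) x = (p : ZMod q) • x := Sop_of_fixed ρ _ x ((mem_Wz ρ z e i x).1 hx)
  have h2 : (⨆ j, ⨆ (_ : j ≠ i), Wz ρ z e j) ≤ LinearMap.ker (Sop ρ p (uu z e i)) := by
    apply iSup₂_le
    intro j hj w hw
    rw [LinearMap.mem_ker]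
    exact cross ρ z e hz he hez hz0 i j (Ne.symm hj) w ((mem_Wz ρ z e j w).1 hw)
  have h3 := h2 hx'
  rw [LinearMap.mem_ker, h1] at h3
  rcases smul_eq_zero.1 h3 with h | h
  · exact absurd h hpq
  · exact h

end Decomp

end Part3

section Part4

universe u

section Irr

variable {q : ℕ} [hq : Fact q.Prime] {V : Type*} [AddCommGroup V] [Module (ZMod q) V]
  {G : Type u} [Group G] (ρ : G →* (V ≃ₗ[ZMod q] V)) (hρ : Function.Injective ρ)
  (hirr : ∀ W : Submodule (ZMod q) V, (∀ g : G, ∀ w ∈ W, ρ g w ∈ W) → W = ⊥ ∨ W = ⊤)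

include hρ hirr in
/-- a nontrivial central element acts without nonzero fixed vectors -/
theorem fixed_eq_zero (c : G) (hc : c ∈ Subgroup.center G) (hc1 : c ≠ 1) (v : V)
    (hv : ρ c v = v) : v = 0 := by
  let F : Submodule (ZMod q) V :=
    { carrier := {v | ρ c v = v}
      add_mem' := by
        intro a b ha hb
        simp only [Set.mem_setOf_eq] at ha hb ⊢
        rw [map_add, ha, hb]
      zero_mem' := by
        simp only [Set.mem_setOf_eq]
        rw [map_zero]
      smul_mem' := by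
        intro r a ha
        simp only [Set.mem_setOf_eq] at ha ⊢
        rw [map_smul, ha] }
  have hF : ∀ w, w ∈ F ↔ ρ c w = w := fun w => Iff.rfl
  have hinv : ∀ g : G, ∀ w ∈ F, ρ g w ∈ F := by
    intro g w hw
    rw [hF] at hw ⊢
    rw [← rho_mul, ← (Subgroup.mem_center_iff.1 hc g), rho_mul, hw]
  rcases hirr F hinv with h | h
  · have : v ∈ F := (hF v).2 hv
    rw [h, Submodule.mem_bot] at this
    exact this
  · exfalso
    apply hc1
    apply hρ
    rw [map_one]
    ext w
    have : w ∈ F := by rw [h]; exact Submodule.mem_top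
    exact (hF w).1 this

end Irr

section PneQ

variable {q : ℕ} [hq : Fact q.Prime] {V : Type*} [AddCommGroup V] [Module (ZMod q) V] [Finite V]
  [Nontrivial V]
  {G : Type u} [Group G] [Finite G] (ρ : G →* (V ≃ₗ[ZMod q] V)) (hρ : Function.Injective ρ)
  (hirr : ∀ W : Submodule (ZMod q) V, (∀ g : G, ∀ w ∈ W, ρ g w ∈ W) → W = ⊥ ∨ W = ⊤)

include hρ hirr in
theorem subsingleton_of_qgroup (hG : IsPGroup q G) : Subsingleton G := by
  letI : MulAction G V := MulAction.compHom V ρ
  have hsmul : ∀ (g : G) (v : V), g • v = ρ g v := fun g v => rfl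
  -- q divides the cardinality of V
  have hdvd : q ∣ Nat.card V := by
    obtain ⟨v, hv⟩ := exists_ne (0 : V)
    have h1 : q • v = 0 := by
      rw [← Nat.cast_smul_eq_nsmul (ZMod q), ZMod.natCast_self, zero_smul]
    have h2 : addOrderOf v ∣ q := addOrderOf_dvd_of_nsmul_eq_zero h1
    rcases (Nat.dvd_prime hq.out).1 h2 with h | h
    · exact absurd (AddMonoid.addOrderOf_eq_one_iff.1 h) hv
    · rw [← h]; exact addOrderOf_dvd_natCard v
  have h0 : (0 : V) ∈ MulAction.fixedPoints G V := by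
    intro g
    rw [hsmul, map_zero]
  obtain ⟨b, hb, hb0⟩ := hG.exists_fixed_point_of_prime_dvd_card_of_fixed_point V hdvd h0
  let F : Submodule (ZMod q) V :=
    { carrier := {v | ∀ g : G, ρ g v = v}
      add_mem' := by
        intro a b ha hb g
        rw [map_add, ha g, hb g]
      zero_mem' := by
        intro g
        rw [map_zero]
      smul_mem' := by
        intro r a ha g
        rw [map_smul, ha g] }
  have hF : ∀ w, w ∈ F ↔ ∀ g : G, ρ g w = w := fun w => Iff.rfl
  have hinv : ∀ g : G, ∀ w ∈ F, ρ g w ∈ F := by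
    intro g w hw
    rw [hF] at hw
    rw [hw g]
    exact (hF w).2 hw
  have hbF : b ∈ F := by
    rw [hF]
    intro g
    exact hb g
  rcases hirr F hinv with h | h
  · rw [h, Submodule.mem_bot] at hbF
    exact absurd hbF.symm hb0
  · constructor
    intro x y
    apply hρ
    ext w
    have hw : w ∈ F := by rw [h]; exact Submodule.mem_top
    rw [(hF w).1 hw x, (hF w).1 hw y]

end PneQ

section Phi

variable {G : Type u} [Group G] (z e : G) (hzc : z ∈ Subgroup.center G)
  (hcomm : ∀ g : G, e⁻¹ * (g * e * g⁻¹) ∈ Subgroup.zpowers z)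

theorem zpowers_le_center_of_mem {z : G} (hzc : z ∈ Subgroup.center G) :
    Subgroup.zpowers z ≤ Subgroup.center G := by
  rw [Subgroup.zpowers_le]
  exact hzc

/-- the commutator map `g ↦ e⁻¹ (g e g⁻¹)`, a homomorphism when its values are central -/
def phi (z e : G) (hzc : z ∈ Subgroup.center G)
    (hcomm : ∀ g : G, e⁻¹ * (g * e * g⁻¹) ∈ Subgroup.zpowers z) : G →* G where
  toFun g := e⁻¹ * (g * e * g⁻¹)
  map_one' := by group
  map_mul' := by
    intro g h
    have hc : e⁻¹ * (h * e * h⁻¹) ∈ Subgroup.center G :=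
      zpowers_le_center_of_mem hzc (hcomm h)
    have h1 : h * e * h⁻¹ = e * (e⁻¹ * (h * e * h⁻¹)) := by group
    have h2 := Subgroup.mem_center_iff.1 hc g⁻¹
    calc e⁻¹ * (g * h * e * (g * h)⁻¹) = e⁻¹ * (g * (h * e * h⁻¹) * g⁻¹) := by group
      _ = e⁻¹ * (g * (e * (e⁻¹ * (h * e * h⁻¹))) * g⁻¹) := by rw [← h1]
      _ = e⁻¹ * (g * e) * ((e⁻¹ * (h * e * h⁻¹)) * g⁻¹) := by group
      _ = e⁻¹ * (g * e) * (g⁻¹ * (e⁻¹ * (h * e * h⁻¹))) := by rw [h2]
      _ = e⁻¹ * (g * e * g⁻¹) * (e⁻¹ * (h * e * h⁻¹)) := by group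

theorem phi_apply (g : G) : phi z e hzc hcomm g = e⁻¹ * (g * e * g⁻¹) := rfl

theorem mem_ker_phi (g : G) : g ∈ (phi z e hzc hcomm).ker ↔ g * e = e * g := by
  rw [MonoidHom.mem_ker, phi_apply]
  constructor
  · intro h
    have : g * e * g⁻¹ = e := by
      have := congrArg (fun w => e * w) h
      simpa using this
    calc g * e = g * e * g⁻¹ * g := by group
      _ = e * g := by rw [this]
  · intro h
    rw [h]
    group

theorem conj_e (g : G) : g * e * g⁻¹ = e * phi z e hzc hcomm g := by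
  rw [phi_apply]
  group

end Phi

end Part4

section Part5

universe u

section Final

theorem conj_uu {G : Type u} [Group G] {p : ℕ} [hp : Fact p.Prime] (z e : G)
    (hz : z ^ p = 1) (hzc : z ∈ Subgroup.center G)
    (hcomm : ∀ g : G, e⁻¹ * (g * e * g⁻¹) ∈ Subgroup.zpowers z) (g : G) (c : ZMod p)
    (hc : phi z e hzc hcomm g = pw z c) (j : ZMod p) :
    g * uu z e j = uu z e (c + j) * g := by
  unfold uu
  have h1 := conj_e z e hzc hcomm g
  rw [hc] at h1
  have hcen : pw z j ∈ Subgroup.center G :=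
    zpowers_le_center_of_mem hzc (pw_mem_zpowers z j)
  have h2 := Subgroup.mem_center_iff.1 hcen g
  calc g * (e * pw z j) = (g * e * g⁻¹) * (g * pw z j) := by group
    _ = (e * pw z c) * (pw z j * g) := by rw [h1, h2]
    _ = e * (pw z c * pw z j) * g := by group
    _ = e * pw z (c + j) * g := by rw [pw_add z hz]

theorem result
    (q : ℕ) [Fact q.Prime] {V : Type*} [AddCommGroup V] [Module (ZMod q) V] [Finite V] [Nontrivial V]
    {G : Type*} [Group G] [Finite G] (p : ℕ) [Fact p.Prime] (hG : IsPGroup p G)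
    (ρ : G →* (V ≃ₗ[ZMod q] V)) (hρ : Function.Injective ρ)
    (hirr : ∀ W : Submodule (ZMod q) V, (∀ g : G, ∀ w ∈ W, ρ g w ∈ W) → W = ⊥ ∨ W = ⊤)
    (hnc : ¬ IsCyclic G) (hnq : ∀ n : ℕ, ¬ Nonempty (G ≃* QuaternionGroup n))
    (hnd : ∀ n : ℕ, ¬ Nonempty (G ≃* DihedralGroup n)) (hnsd : ¬ Cfsg.IsQuasiDihedral G) :
    ∃ (H : Subgroup G) (W : Fin p → Submodule (ZMod q) V), H.index = p ∧
      iSup W = ⊤ ∧ iSupIndep W ∧
      (∀ h ∈ H, ∀ i, ∀ w ∈ W i, ρ h w ∈ W i) ∧
      (∀ i, ∃ h ∈ H, h ≠ 1 ∧ ∀ w ∈ W i, ρ h w = w) ∧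
      ∀ g : G, g ∉ H → ∃ σ : Equiv.Perm (Fin p), orderOf σ = p ∧ ∀ i, (W i).map (ρ g : V →ₗ[ZMod q] V) = W (σ i) := by
  have hp : p.Prime := Fact.out
  have hqp : q.Prime := Fact.out
  have hpq : p ≠ q := by
    intro h
    subst h
    haveI := subsingleton_of_qgroup ρ hρ hirr hG
    exact hnc inferInstance
  have hpq' : (p : ZMod q) ≠ 0 := by
    intro h
    rw [ZMod.natCast_eq_zero_iff] at h
    exact hpq ((Nat.prime_dvd_prime_iff_eq hqp hp).1 h).symm
  obtain ⟨A, hAn, hAc, hAnc⟩ := exists_normal_abelian_noncyclic hG hnc hnq hnd hnsd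
  obtain ⟨z, e, hzc, hzo, heo, hez', hcomm⟩ := exists_pair hG A hAn hAc hAnc
  have hz : z ^ p = 1 := by rw [← hzo]; exact pow_orderOf_eq_one z
  have he : e ^ p = 1 := by rw [← heo]; exact pow_orderOf_eq_one e
  have hez : e * z = z * e := Subgroup.mem_center_iff.1 hzc e
  have hz1 : z ≠ 1 := by
    intro h
    rw [h, orderOf_one] at hzo
    exact hp.one_lt.ne hzo
  have hz0 : ∀ v : V, ρ z v = v → v = 0 := fixed_eq_zero ρ hρ hirr z hzc hz1
  have hsup := iSup_Wz ρ z e hz he hez hz0 hpq'
  have hind := indep_Wz ρ z e hz he hez hz0 hpq'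
  have hpwc : ∀ j : ZMod p, pw z j ∈ Subgroup.center G := fun j =>
    zpowers_le_center_of_mem hzc (pw_mem_zpowers z j)
  have huu1 : ∀ i : ZMod p, uu z e i ≠ 1 := by
    intro i h
    apply hez'
    unfold uu at h
    have : e = (pw z i)⁻¹ := eq_inv_of_mul_eq_one_left h
    rw [this]
    exact inv_mem (pw_mem_zpowers z i)
  have hidx : (phi z e hzc hcomm).ker.index = p := by
    rw [Subgroup.index_ker]
    have hle : (phi z e hzc hcomm).range ≤ Subgroup.zpowers z := by
      rintro _ ⟨g, rfl⟩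
      exact hcomm g
    have hd : Nat.card (phi z e hzc hcomm).range ∣ p := by
      have := Subgroup.card_dvd_of_le hle
      rwa [Nat.card_zpowers, hzo] at this
    rcases (Nat.dvd_prime hp).1 hd with h | h
    · exfalso
      have hr : (phi z e hzc hcomm).range = ⊥ := Subgroup.card_eq_one.1 h
      have hec : e ∈ Subgroup.center G := by
        rw [Subgroup.mem_center_iff]
        intro g
        have h1 : phi z e hzc hcomm g ∈ (phi z e hzc hcomm).range := ⟨g, rfl⟩
        rw [hr, Subgroup.mem_bot] at h1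
        exact (mem_ker_phi z e hzc hcomm g).1 h1
      have hall : ∀ i : ZMod p, Wz ρ z e i = ⊥ := by
        intro i
        rw [eq_bot_iff]
        intro v hv
        rw [Submodule.mem_bot]
        exact fixed_eq_zero ρ hρ hirr (uu z e i) (mul_mem hec (hpwc i)) (huu1 i) v
          ((mem_Wz ρ z e i v).1 hv)
      have : (⊤ : Submodule (ZMod q) V) = ⊥ := by
        rw [← hsup]
        simp [hall]
      exact top_ne_bot this
    · exact h
  let ε : Fin p ≃ ZMod p := (ZMod.finEquiv p).toEquiv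
  refine ⟨(phi z e hzc hcomm).ker, fun i => Wz ρ z e (ε i), hidx, ?_, ?_, ?_, ?_, ?_⟩
  · rw [← hsup]
    exact ε.iSup_comp (g := fun j => Wz ρ z e j)
  · exact hind.comp ε.injective
  · intro h hh i w hw
    rw [mem_Wz] at hw ⊢
    have hh' : phi z e hzc hcomm h = pw z (0 : ZMod p) := by
      rw [pw_zero]; exact hh
    have h1 := conj_uu z e hz hzc hcomm h 0 hh' (ε i)
    rw [zero_add] at h1
    rw [← rho_mul, ← h1, rho_mul, hw]
  · intro i
    refine ⟨uu z e (ε i), ?_, huu1 _, ?_⟩
    · rw [mem_ker_phi]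
      unfold uu
      have := Subgroup.mem_center_iff.1 (hpwc (ε i)) e
      calc e * pw z (ε i) * e = e * (pw z (ε i) * e) := by group
        _ = e * (e * pw z (ε i)) := by rw [this]
    · intro w hw
      exact (mem_Wz ρ z e _ w).1 hw
  · intro g hg
    obtain ⟨c, hc⟩ := exists_pw_of_mem_zpowers z hzo _ (hcomm g)
    have hc' : phi z e hzc hcomm g = pw z c := hc
    have hc0 : c ≠ 0 := by
      intro h
      apply hg
      rw [MonoidHom.mem_ker, hc', h, pw_zero]
    let σ : Equiv.Perm (Fin p) := ε.trans ((Equiv.addLeft c).trans ε.symm)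
    have hσ : ∀ i, ε (σ i) = c + ε i := by
      intro i
      simp [σ]
    have hσn : ∀ (n : ℕ) (i : Fin p), ε ((σ ^ n) i) = n • c + ε i := by
      intro n
      induction n with
      | zero => intro i; simp
      | succ n ih =>
        intro i
        rw [pow_succ', Equiv.Perm.mul_apply, hσ, ih, succ_nsmul]
        ring
    refine ⟨σ, ?_, ?_⟩
    · apply orderOf_eq_prime
      · ext i
        apply congrArg Fin.val
        apply ε.injective
        rw [hσn p i]
        simp
      · intro h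
        have h1 := hσ (ε.symm 0)
        rw [h] at h1
        simp at h1
        exact hc0 h1.symm
    · intro i
      show Submodule.map (ρ g : V →ₗ[ZMod q] V) (Wz ρ z e (ε i)) = Wz ρ z e (ε (σ i))
      rw [hσ]
      ext w
      rw [Submodule.mem_map]
      constructor
      · rintro ⟨v, hv, rfl⟩
        rw [mem_Wz] at hv ⊢
        have h1 := conj_uu z e hz hzc hcomm g c hc' (ε i)
        show ρ (uu z e (c + ε i)) (ρ g v) = ρ g v
        rw [← rho_mul, ← h1, rho_mul, hv]
      · intro hw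
        rw [mem_Wz] at hw
        refine ⟨ρ g⁻¹ w, ?_, ?_⟩
        · rw [mem_Wz]
          have h1 := conj_uu z e hz hzc hcomm g c hc' (ε i)
          have h2 : uu z e (ε i) * g⁻¹ = g⁻¹ * uu z e (c + ε i) := by
            calc uu z e (ε i) * g⁻¹ = g⁻¹ * (g * uu z e (ε i)) * g⁻¹ := by group
              _ = g⁻¹ * (uu z e (c + ε i) * g) * g⁻¹ := by rw [h1]
              _ = g⁻¹ * uu z e (c + ε i) := by group
          rw [← rho_mul, h2, rho_mul, hw]
        · show ρ g (ρ g⁻¹ w) = w
          rw [← rho_mul, mul_inv_cancel, rho_one]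

end Final

end Part5

end Cfsg.Agent.S3380
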