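import Mathlib
import Cfsg.Statements.S0868
import Cfsg.Agent.Lib.helper3.Gallagher2
import Cfsg.Agent.Lib.Helper4.CosetAvg

set_option autoImplicit false
open scoped ComplexConjugate
open Cfsg

namespace Cfsg.Agent.S0868

open Cfsg.Agent.Lib.helper3.Irr Cfsg.Agent.Lib.helper3.IndFun Cfsg.Agent.Lib.Helper4.CosetAvg

/-- Let N be a normal subgroup of the finite group G, χ an irreducible character of G whose restriction ϑ to N is irreducible, and ψ an irreducible character of G. Define η on G by η g = (1 / order of N) * Σ over n in N of ψ (n * g) * conj (χ (n * g)). Then: if the restriction of ψ to N has nonzero inner product with ϑ, η is an irreducible character of G; if that inner product is zero, η vanishes identically; and if ψ = χ then η is identically 1. -/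
theorem result {G : Type*} [Group G] [Fintype G] (N : Subgroup G) [N.Normal] [Fintype N] (χ : G → ℂ) (hχ : Cfsg.IsIrrCharacter G χ) (hχN : Cfsg.IsIrrCharacter N (fun n : N => χ n)) (ψ : G → ℂ) (hψ : Cfsg.IsIrrCharacter G ψ) (η : G → ℂ) (hη : η = fun g => (Nat.card N : ℂ)⁻¹ * ∑ n : N, ψ ((n : G) * g) * conj (χ ((n : G) * g))) : (Cfsg.classInner (fun n : N => ψ n) (fun n : N => χ n) ≠ 0 → Cfsg.IsIrrCharacter G η) ∧ (Cfsg.classInner (fun n : N => ψ n) (fun n : N => χ n) = 0 → η = 0) ∧ (ψ = χ → η = fun _ => 1) := by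
  classical
  letI : Fintype (G ⧸ N) := Fintype.ofFinite _
  have hχc := isCharacter_of_isIrrCharacter hχ
  have hψc := isCharacter_of_isIrrCharacter hψ
  obtain ⟨hGirr, hGinj⟩ := gallagher_inflate N χ hχc (apply_one_ne_zero hχ) hχN
  set Ψ : G → ℂ := ψ * (fun g => conj (χ g)) with hΨdef
  have hΨ : Cfsg.IsCharacter G Ψ := isCharacter_mul hψc (isCharacter_conj hχc)
  have hηeq : η = inflate N (cosetAvg N Ψ) := by
    rw [hη]
    funext g
    rw [inflate_apply, cosetAvg_mk]
    rfl
  have hηbar : Cfsg.IsCharacter (G ⧸ N) (cosetAvg N Ψ) := isCharacter_cosetAvg N hΨ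
  have hc : ∀ β : Cfsg.IrrCharacter (G ⧸ N),
      Cfsg.classInner (cosetAvg N Ψ) (β : G ⧸ N → ℂ)
        = if ψ = inflate N (β : G ⧸ N → ℂ) * χ then 1 else 0 := by
    intro β
    rw [classInner_cosetAvg, ← irr_classInner_eq hψ (hGirr β), classInner_apply, classInner_apply]
    congr 1
    apply Finset.sum_congr rfl
    intro g _
    rw [hΨdef, Pi.mul_apply, Pi.mul_apply, map_mul]
    ring
  have hdec := isCharacter_eq_sum_classInner hηbar
  have hkey : ∀ β₀ : Cfsg.IrrCharacter (G ⧸ N), ψ = inflate N (β₀ : G ⧸ N → ℂ) * χ →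
      η = inflate N (β₀ : G ⧸ N → ℂ) := by
    intro β₀ h0
    rw [hηeq]
    congr 1
    rw [hdec, Finset.sum_eq_single β₀]
    · rw [hc, if_pos h0, one_smul]
    · intro β _ hne
      rw [hc, if_neg, zero_smul]
      intro h1
      apply hne
      exact hGinj β β₀ (h1.symm.trans h0)
    · intro h; exact absurd (Finset.mem_univ β₀) h
  have hzero : (¬ ∃ β₀ : Cfsg.IrrCharacter (G ⧸ N), ψ = inflate N (β₀ : G ⧸ N → ℂ) * χ) →
      η = 0 := by
    intro h0
    push Not at h0
    rw [hηeq]
    have : cosetAvg N Ψ = 0 := by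
      rw [hdec]
      apply Finset.sum_eq_zero
      intro β _
      rw [hc, if_neg (h0 β), zero_smul]
    rw [this]
    rfl
  have hη1 : η 1 = Cfsg.classInner (fun n : N => ψ n) (fun n : N => χ n) := by
    rw [hη, classInner_apply]
    simp only [mul_one]
  refine ⟨?_, ?_, ?_⟩
  · intro hne
    by_cases hex : ∃ β₀ : Cfsg.IrrCharacter (G ⧸ N), ψ = inflate N (β₀ : G ⧸ N → ℂ) * χ
    · obtain ⟨β₀, h0⟩ := hex
      rw [hkey β₀ h0]
      exact isIrrCharacter_inflate N β₀.2
    · exfalso
      apply hne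
      rw [← hη1, hzero hex]
      rfl
  · intro h0
    by_cases hex : ∃ β₀ : Cfsg.IrrCharacter (G ⧸ N), ψ = inflate N (β₀ : G ⧸ N → ℂ) * χ
    · exfalso
      obtain ⟨β₀, h1⟩ := hex
      have h2 : Cfsg.IsIrrCharacter G η := by
        rw [hkey β₀ h1]
        exact isIrrCharacter_inflate N β₀.2
      exact apply_one_ne_zero h2 (hη1.trans h0)
    · exact hzero hex
  · intro hψχ
    have h1 : ψ = inflate N ((⟨fun _ => 1, isIrrCharacter_one⟩ : Cfsg.IrrCharacter (G ⧸ N)) :
        G ⧸ N → ℂ) * χ := by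
      rw [hψχ]
      funext g
      rw [Pi.mul_apply, inflate_apply, one_mul]
    rw [hkey _ h1]
    rfl

end Cfsg.Agent.S0868
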