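import Mathlib
import Cfsg.Statements.S0867
import Cfsg.Agent.Lib.helper3.GalExt2

set_option autoImplicit false
open Cfsg

set_option linter.style.haveILetI false

namespace Cfsg.Agent.S0867

open Cfsg.Agent.Lib.helper3.GalExt Cfsg.Agent.Lib.helper3.Irr Cfsg.Agent.Lib.helper3.Det Cfsg.Agent.Lib.helper3.SolvExt

/-- Let N be a normal subgroup of the finite group G and ϑ an irreducible character of N of degree d, invariant under conjugation by G, such that the index of N is coprime to the product of d and the determinantal order of ϑ. Then there is an irreducible character χ of G restricting to ϑ whose determinantal order equals that of ϑ, and χ is the only irreducible character of G restricting to ϑ whose determinantal order is coprime to the index of N. -/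
theorem result {G : Type*} [Group G] [Finite G] (N : Subgroup G) [hN : N.Normal] (ϑ : N → ℂ) (hϑ : Cfsg.IsIrrCharacter N ϑ) (hinv : ∀ (g : G) (n : N), ϑ ⟨g * n * g⁻¹, hN.conj_mem (n : G) n.2 g⟩ = ϑ n) (d : ℕ) (hd : ϑ 1 = d) (hcop : Nat.Coprime N.index (Cfsg.detOrder ϑ * d)) : ∃ χ : G → ℂ, (Cfsg.IsIrrCharacter G χ ∧ (∀ n : N, χ n = ϑ n) ∧ Cfsg.detOrder χ = Cfsg.detOrder ϑ) ∧ ∀ χ' : G → ℂ, Cfsg.IsIrrCharacter G χ' → (∀ n : N, χ' n = ϑ n) → Nat.Coprime N.index (Cfsg.detOrder χ') → χ' = χ := by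
  classical
  letI : Fintype G := Fintype.ofFinite G
  have hϑc := isCharacter_of_isIrrCharacter hϑ
  obtain ⟨hc, h1⟩ := isCharacter_detChar hϑc
  have hcop1 : Nat.Coprime N.index (orderOf (Cfsg.detChar ϑ)) :=
    Nat.Coprime.coprime_dvd_right (Dvd.intro _ rfl) hcop
  have hcop2 : Nat.Coprime N.index d :=
    Nat.Coprime.coprime_dvd_right (Dvd.intro_left _ rfl) hcop
  obtain ⟨μ, ⟨hμ, hμ1, hμN, hμord⟩, huniqμ⟩ := Cfsg.Agent.S0865.result N (Cfsg.detChar ϑ) ⟨hc, h1⟩
    (detChar_invariant N ϑ hϑc hinv) hcop1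
  obtain ⟨χ, hχ, hχN, hχdet⟩ := exists_extension_of_det N ϑ μ hϑ hinv hμ hμ1 hμN d hd hcop2
  refine ⟨χ, ⟨hχ, hχN, ?_⟩, ?_⟩
  · unfold Cfsg.detOrder
    rw [hχdet, hμord]
  · intro χ' hχ' hχ'N hcop'
    have hχ'c := isCharacter_of_isIrrCharacter hχ'
    obtain ⟨hc', h1'⟩ := isCharacter_detChar hχ'c
    have hres : ∀ n : N, Cfsg.detChar χ' n = Cfsg.detChar ϑ n := by
      intro n
      rw [← detChar_restrict N hχ'c n]
      congr 1
      funext m
      exact hχ'N m
    have hdet' : Cfsg.detChar χ' = μ := huniqμ (Cfsg.detChar χ') ⟨hc', h1'⟩ hres hcop'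
    have huniq := Cfsg.Agent.S0862.result N ϑ hϑ d hd hcop2 ⟨χ, hχ, hχN⟩ μ ⟨hμ, hμ1⟩ hμN
    exact huniq.unique ⟨hχ', hχ'N, hdet'⟩ ⟨hχ, hχN, hχdet⟩

end Cfsg.Agent.S0867
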