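import Cfsg.Statements.S0250
import Mathlib
import Cfsg.Agent.S0243

set_option autoImplicit false
open Cfsg

namespace Cfsg.Agent.S0250

open Matrix
open scoped LinearAlgebra.Projectivization

/-- SL_2(2) is isomorphic to S_3. -/
theorem result {F : Type*} [Field F] [Fintype F] (hF : Fintype.card F = 2) : Nonempty (Matrix.SpecialLinearGroup (Fin 2) F ≃* Equiv.Perm (Fin 3)) := by
  classical
  -- the action on the projective line
  let φ : SpecialLinearGroup (Fin 2) F →* Equiv.Perm (ℙ F (Fin 2 → F)) :=
    MulAction.toPermHom (SpecialLinearGroup (Fin 2) F) (ℙ F (Fin 2 → F))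
  have hker : φ.ker = ⊥ := by
    rw [Projectivization.SL_mulAction_ker]
    have hc := Cfsg.Agent.S0243.card_center_sl (F := F) 2 (by norm_num)
    rw [hF] at hc
    have hc' : Nat.card (Subgroup.center (SpecialLinearGroup (Fin 2) F)) = 1 := by
      rw [hc]; norm_num
    exact (Subgroup.card_eq_one).1 hc'
  have hinj : Function.Injective φ := (MonoidHom.ker_eq_bot_iff φ).1 hker
  have hcardP : Nat.card (ℙ F (Fin 2 → F)) = 3 := by
    rw [Projectivization.card_of_finrank_two F (Fin 2 → F) (by simp), Nat.card_eq_fintype_card, hF]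
  have hfin : Finite (ℙ F (Fin 2 → F)) := Nat.finite_of_card_ne_zero (by omega)
  have e : ℙ F (Fin 2 → F) ≃ Fin 3 := hcardP ▸ Finite.equivFin (ℙ F (Fin 2 → F))
  let ψ : SpecialLinearGroup (Fin 2) F →* Equiv.Perm (Fin 3) :=
    (Equiv.permCongrHom e).toMonoidHom.comp φ
  have hψinj : Function.Injective ψ := (Equiv.permCongrHom e).injective.comp hinj
  have hcardSL : Nat.card (SpecialLinearGroup (Fin 2) F) = 6 := by
    have := Cfsg.Agent.S0242.result (F := F) hF 2 (by norm_num)
    simpa [Fin.prod_univ_two] using this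
  have hbij : Function.Bijective ψ := by
    apply hψinj.bijective_of_nat_card_le
    rw [hcardSL, Nat.card_perm]
    simp [Nat.factorial]
  exact ⟨MulEquiv.ofBijective ψ hbij⟩

end Cfsg.Agent.S0250
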