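import Cfsg.Statements.S0607
import Mathlib
import Cfsg.Agent.Lib.Lead.Replacement

set_option autoImplicit false
open Cfsg

namespace Cfsg.Agent.S0607

open scoped Pointwise commutatorElement
open Cfsg.Agent.Lib.Lead

theorem elemAb_comm {G : Type*} [Group G] {p : ℕ} {X : Subgroup G}
    (hX : Cfsg.IsElementaryAbelian p X) : X ≤ Subgroup.centralizer (X : Set G) :=
  Subgroup.le_centralizer_iff_isMulCommutative.mpr hX.1

theorem elemAb_mono {G : Type*} [Group G] {p : ℕ} {X Y : Subgroup G}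
    (hY : Cfsg.IsElementaryAbelian p Y) (h : X ≤ Y) : Cfsg.IsElementaryAbelian p X :=
  ⟨Subgroup.le_centralizer_iff_isMulCommutative.mp
    (h.trans ((elemAb_comm hY).trans (Subgroup.centralizer_le h))), fun a ha => hY.2 a (h ha)⟩

theorem elemAb_sup {G : Type*} [Group G] {p : ℕ} {X Y : Subgroup G}
    (hX : Cfsg.IsElementaryAbelian p X) (hY : Cfsg.IsElementaryAbelian p Y)
    (hXY : X ≤ Subgroup.centralizer (Y : Set G)) : Cfsg.IsElementaryAbelian p (X ⊔ Y) := by
  have hYX : Y ≤ Subgroup.centralizer (X : Set G) := Subgroup.le_centralizer_iff.mp hXY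
  have hc : X ⊔ Y ≤ Subgroup.centralizer ((X ⊔ Y : Subgroup G) : Set G) := by
    rw [Replacement.centralizer_sup]
    exact sup_le (le_inf (elemAb_comm hX) hXY) (le_inf hYX (elemAb_comm hY))
  refine ⟨Subgroup.le_centralizer_iff_isMulCommutative.mp hc, ?_⟩
  let E : Subgroup G :=
    { carrier := {z | z ∈ X ⊔ Y ∧ z ^ p = 1}
      mul_mem' := by
        rintro z w ⟨hz, hzp⟩ ⟨hw, hwp⟩
        refine ⟨Subgroup.mul_mem _ hz hw, ?_⟩
        have hcomm : Commute z w := Subgroup.mem_centralizer_iff.mp (hc hw) z hz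
        rw [hcomm.mul_pow, hzp, hwp, one_mul]
      one_mem' := ⟨Subgroup.one_mem _, one_pow _⟩
      inv_mem' := by
        rintro z ⟨hz, hzp⟩
        exact ⟨Subgroup.inv_mem _ hz, by rw [inv_pow, hzp, inv_one]⟩ }
  have hle : X ⊔ Y ≤ E :=
    sup_le (fun x hx => ⟨(le_sup_left : X ≤ X ⊔ Y) hx, hX.2 x hx⟩)
      (fun y hy => ⟨(le_sup_right : Y ≤ X ⊔ Y) hy, hY.2 y hy⟩)
  intro a ha
  exact (hle ha).2

theorem mem_sup_of_commute {G : Type*} [Group G] {X Y : Subgroup G}
    (hXY : X ≤ Subgroup.centralizer (Y : Set G)) {z : G} (hz : z ∈ X ⊔ Y) :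
    ∃ x ∈ X, ∃ y ∈ Y, z = x * y := by
  rw [Subgroup.sup_eq_closure] at hz
  induction hz using Subgroup.closure_induction with
  | mem z hz =>
    rcases hz with hz | hz
    · exact ⟨z, hz, 1, Subgroup.one_mem _, (mul_one _).symm⟩
    · exact ⟨1, Subgroup.one_mem _, z, hz, (one_mul _).symm⟩
  | one => exact ⟨1, Subgroup.one_mem _, 1, Subgroup.one_mem _, (one_mul _).symm⟩
  | mul a b _ _ iha ihb =>
    obtain ⟨x, hx, y, hy, rfl⟩ := iha
    obtain ⟨x', hx', y', hy', rfl⟩ := ihb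
    refine ⟨x * x', Subgroup.mul_mem _ hx hx', y * y', Subgroup.mul_mem _ hy hy', ?_⟩
    have h1 : y * x' = x' * y := Subgroup.mem_centralizer_iff.mp (hXY hx') y hy
    calc x * y * (x' * y') = x * (y * x') * y' := by group
      _ = x * (x' * y) * y' := by rw [h1]
      _ = x * x' * (y * y') := by group
  | inv a _ iha =>
    obtain ⟨x, hx, y, hy, rfl⟩ := iha
    refine ⟨x⁻¹, Subgroup.inv_mem _ hx, y⁻¹, Subgroup.inv_mem _ hy, ?_⟩
    have h1 : y * x = x * y := Subgroup.mem_centralizer_iff.mp (hXY hx) y hy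
    rw [← mul_inv_rev, h1]

/-- The replacement Theorem for the Thompson subgroup: from A of maximal order among elementary abelian p-subgroups one obtains A₀ = [V, A] C_A([V, A]) of the same kind, quadratic on V and nontrivial on V when A is. -/
theorem result {G : Type*} [Group G] [Finite G] {p : ℕ} [Fact p.Prime] (V : Subgroup G) [V.Normal] (hV : Cfsg.IsElementaryAbelian p V) (A : Subgroup G) (hA : A ∈ Cfsg.maxElementaryAbelianSubgroups p G) : (⁅V, A⁆ ⊔ (A ⊓ Subgroup.centralizer ((⁅V, A⁆ : Subgroup G) : Set G))) ∈ Cfsg.maxElementaryAbelianSubgroups p G ∧ ⁅⁅V, ⁅V, A⁆ ⊔ (A ⊓ Subgroup.centralizer ((⁅V, A⁆ : Subgroup G) : Set G))⁆, ⁅V, A⁆ ⊔ (A ⊓ Subgroup.centralizer ((⁅V, A⁆ : Subgroup G) : Set G))⁆ = ⊥ ∧ (⁅V, A⁆ ≠ ⊥ → ⁅V, ⁅V, A⁆ ⊔ (A ⊓ Subgroup.centralizer ((⁅V, A⁆ : Subgroup G) : Set G))⁆ ≠ ⊥) := by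
  classical
  obtain ⟨hAe, hAmax⟩ := hA
  have habV : ∀ x ∈ V, ∀ y ∈ V, x * y = y * x := fun x hx y hy =>
    Subgroup.mem_centralizer_iff.mp (elemAb_comm hV hy) x hx
  have habA : ∀ x ∈ A, ∀ y ∈ A, x * y = y * x := fun x hx y hy =>
    Subgroup.mem_centralizer_iff.mp (elemAb_comm hAe hy) x hx
  have hAV : A ≤ Subgroup.normalizer (V : Set G) := by
    rw [Subgroup.normalizer_eq_top]; exact le_top
  have hAA : ⁅A, A⁆ ≤ Subgroup.centralizer (V : Set G) := by
    rw [Subgroup.commutator_le]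
    intro a ha b hb
    have : ⁅a, b⁆ = 1 := by
      rw [commutatorElement_eq_one_iff_mul_comm]; exact habA a ha b hb
    rw [this]; exact Subgroup.one_mem _
  have hWV : ⁅V, A⁆ ≤ V := Subgroup.commutator_le_left V A
  have hCe : Cfsg.IsElementaryAbelian p (Replacement.cv V A) := elemAb_mono hV inf_le_left
  have hCA : Replacement.cv V A ≤ A := by
    have h1 : Cfsg.IsElementaryAbelian p (A ⊔ Replacement.cv V A) :=
      elemAb_sup hAe hCe (Subgroup.le_centralizer_iff.mp inf_le_right)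
    have h2 := hAmax _ h1
    have h3 : A = A ⊔ Replacement.cv V A := Subgroup.eq_of_le_of_card_ge le_sup_left h2
    exact (le_sup_right : Replacement.cv V A ≤ A ⊔ Replacement.cv V A).trans (le_of_eq h3.symm)
  have hVA : V ⊓ A ≤ Replacement.cv V A := fun z hz =>
    ⟨hz.1, Subgroup.mem_centralizer_iff.mpr (fun h hh => habA h hh z hz.2)⟩
  have hmax : ∀ B : Subgroup G, B ≤ A → Replacement.mm V B ≤ Replacement.mm V A := by
    intro B hBA
    have hBe := elemAb_mono hAe hBA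
    have hDe : Cfsg.IsElementaryAbelian p (Replacement.cv V B) := elemAb_mono hV inf_le_left
    have h1 : Cfsg.IsElementaryAbelian p (B ⊔ Replacement.cv V B) :=
      elemAb_sup hBe hDe (Subgroup.le_centralizer_iff.mp inf_le_right)
    have h2 := hAmax _ h1
    have h3 := Replacement.card_mul_card_le B (Replacement.cv V B)
    have h4 : Nat.card ↥(B ⊓ Replacement.cv V B) ≤ Nat.card ↥(Replacement.cv V A) :=
      Subgroup.card_le_of_le (fun z hz => hVA ⟨hz.2.1, hBA hz.1⟩)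
    unfold Replacement.mm
    calc Nat.card ↥B * Nat.card ↥(Replacement.cv V B)
        ≤ Nat.card ↥(B ⊓ Replacement.cv V B) * Nat.card ↥(B ⊔ Replacement.cv V B) := h3
      _ ≤ Nat.card ↥(Replacement.cv V A) * Nat.card ↥A := Nat.mul_le_mul h4 h2
      _ = Nat.card ↥A * Nat.card ↥(Replacement.cv V A) := mul_comm _ _
  obtain ⟨h1, h2⟩ := Replacement.all_sets habV hAV hAA hmax (V : Set G) (le_refl _)
  have hW : Replacement.WW A (V : Set G) = ⁅V, A⁆ := rfl
  have hB : Replacement.BB A (V : Set G) =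
      A ⊓ Subgroup.centralizer ((⁅V, A⁆ : Subgroup G) : Set G) := by
    rw [Replacement.BB_eq, hW]
  rw [hW, hB] at h2
  rw [hB] at h1
  set W : Subgroup G := ⁅V, A⁆ with hWdef
  set B₀ : Subgroup G := A ⊓ Subgroup.centralizer (W : Set G) with hB₀
  set C : Subgroup G := Replacement.cv V A with hC
  have hWe : Cfsg.IsElementaryAbelian p W := elemAb_mono hV hWV
  have hB₀A : B₀ ≤ A := inf_le_left
  have hB₀e : Cfsg.IsElementaryAbelian p B₀ := elemAb_mono hAe hB₀A
  have hB₀W : B₀ ≤ Subgroup.centralizer (W : Set G) := inf_le_right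
  have hWB₀ : W ≤ Subgroup.centralizer (B₀ : Set G) := Subgroup.le_centralizer_iff.mp hB₀W
  have hWW : W ≤ Subgroup.centralizer (W : Set G) := elemAb_comm hWe
  have hCB₀ : C ≤ B₀ := by
    refine le_inf hCA ?_
    intro z hz
    apply Subgroup.mem_centralizer_iff.mpr
    intro w hw
    exact habV w (hWV hw) z hz.1
  have hA₀ : W ⊔ B₀ = Replacement.cv V B₀ ⊔ B₀ := by
    rw [h2, sup_assoc, sup_eq_right.mpr hCB₀]
  have hA₀e : Cfsg.IsElementaryAbelian p (W ⊔ B₀) := elemAb_sup hWe hB₀e hWB₀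
  have hcard : Nat.card ↥A ≤ Nat.card ↥(W ⊔ B₀) := by
    have h3 := Replacement.card_mul_card_le B₀ (Replacement.cv V B₀)
    have h4 : Nat.card ↥(B₀ ⊓ Replacement.cv V B₀) ≤ Nat.card ↥C :=
      Subgroup.card_le_of_le (fun z hz => hVA ⟨hz.2.1, hB₀A hz.1⟩)
    have h5 : B₀ ⊔ Replacement.cv V B₀ = W ⊔ B₀ := by rw [hA₀, sup_comm]
    rw [h5] at h3
    have h6 : Nat.card ↥A * Nat.card ↥C = Nat.card ↥B₀ * Nat.card ↥(Replacement.cv V B₀) :=
      h1.symm
    have hpos : 0 < Nat.card ↥C := Nat.card_pos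
    have h7 : Nat.card ↥C * Nat.card ↥A ≤ Nat.card ↥C * Nat.card ↥(W ⊔ B₀) := by
      calc Nat.card ↥C * Nat.card ↥A = Nat.card ↥A * Nat.card ↥C := mul_comm _ _
        _ = Nat.card ↥B₀ * Nat.card ↥(Replacement.cv V B₀) := h6
        _ ≤ Nat.card ↥(B₀ ⊓ Replacement.cv V B₀) * Nat.card ↥(W ⊔ B₀) := h3
        _ ≤ Nat.card ↥C * Nat.card ↥(W ⊔ B₀) := Nat.mul_le_mul_right _ h4
    exact Nat.le_of_mul_le_mul_left h7 hpos
  -- commutators with A₀
  have hcomm : ∀ v ∈ V, ∀ y ∈ W ⊔ B₀, ∃ b ∈ B₀, ⁅v, y⁆ = ⁅v, b⁆ := by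
    intro v hv y hy
    obtain ⟨w, hw, b, hb, rfl⟩ := mem_sup_of_commute hWB₀ hy
    refine ⟨b, hb, ?_⟩
    have e1 : v * w = w * v := habV v hv w (hWV hw)
    have hvb : ⁅v, b⁆ ∈ V := hWV (Subgroup.commutator_mem_commutator hv (hB₀A hb))
    have e2 : w * ⁅v, b⁆ = ⁅v, b⁆ * w := habV w (hWV hw) _ hvb
    calc ⁅v, w * b⁆ = (v * w) * b * v⁻¹ * b⁻¹ * w⁻¹ := by
          rw [commutatorElement_def]; group
      _ = (w * v) * b * v⁻¹ * b⁻¹ * w⁻¹ := by rw [e1]
      _ = (w * ⁅v, b⁆) * w⁻¹ := by rw [commutatorElement_def]; group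
      _ = ⁅v, b⁆ * w * w⁻¹ := by rw [e2]
      _ = ⁅v, b⁆ := by group
  have hVA₀W : ⁅V, W ⊔ B₀⁆ ≤ W := by
    rw [Subgroup.commutator_le]
    intro v hv y hy
    obtain ⟨b, hb, e⟩ := hcomm v hv y hy
    rw [e]
    exact Subgroup.commutator_mem_commutator hv (hB₀A hb)
  refine ⟨⟨hA₀e, fun B hB => (hAmax B hB).trans hcard⟩, ?_, ?_⟩
  · rw [Subgroup.commutator_eq_bot_iff_le_centralizer]
    refine hVA₀W.trans ?_
    apply Subgroup.le_centralizer_iff.mp
    exact sup_le hWW hB₀W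
  · intro hne hbot
    apply hne
    rw [Subgroup.commutator_eq_bot_iff_le_centralizer] at hbot
    have hVB₀ : V ≤ Subgroup.centralizer (B₀ : Set G) :=
      hbot.trans (Subgroup.centralizer_le (le_sup_right : B₀ ≤ W ⊔ B₀))
    have hVeq : V = W ⊔ C := by
      rw [← h2]
      exact (inf_eq_left.mpr hVB₀).symm
    have hWC : W ≤ Subgroup.centralizer (C : Set G) := by
      intro w hw
      apply Subgroup.mem_centralizer_iff.mpr
      intro c hc
      exact habV c hc.1 w (hWV hw)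
    have hWle : W ≤ ⁅W, A⁆ := by
      rw [hWdef, Subgroup.commutator_le]
      intro v hv a ha
      rw [hVeq] at hv
      obtain ⟨w, hw, c, hc, rfl⟩ := mem_sup_of_commute hWC hv
      have e1 : c * a = a * c := (Subgroup.mem_centralizer_iff.mp hc.2 a ha).symm
      have e2 : ⁅w * c, a⁆ = ⁅w, a⁆ := by
        calc ⁅w * c, a⁆ = w * (c * a) * c⁻¹ * w⁻¹ * a⁻¹ := by
              rw [commutatorElement_def]; group
          _ = w * (a * c) * c⁻¹ * w⁻¹ * a⁻¹ := by rw [e1]
          _ = ⁅w, a⁆ := by rw [commutatorElement_def]; group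
      rw [e2]
      exact Subgroup.commutator_mem_commutator hw ha
    -- nilpotency of the p-group `A ⊔ V`
    have hpA : IsPGroup p ↥A := by
      intro a
      exact ⟨1, Subtype.ext (by simpa using hAe.2 a.1 a.2)⟩
    have hpV : IsPGroup p ↥V := by
      intro a
      exact ⟨1, Subtype.ext (by simpa using hV.2 a.1 a.2)⟩
    have hpP : IsPGroup p ↥(A ⊔ V) := IsPGroup.to_sup_of_normal_right hpA hpV
    haveI : Group.IsNilpotent ↥(A ⊔ V) := hpP.isNilpotent
    have hlcs : ∀ n : ℕ, W ≤ (A ⊔ V).lowerCentralSeries n := by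
      intro n
      induction n with
      | zero =>
        rw [Subgroup.lowerCentralSeries_zero]
        exact hWV.trans le_sup_right
      | succ n ih =>
        rw [Subgroup.lowerCentralSeries_succ]
        exact hWle.trans (Subgroup.commutator_mono ih le_sup_left)
    obtain ⟨n, hn⟩ := (Subgroup.isNilpotent_iff_lowerCentralSeries (A ⊔ V)).mp inferInstance
    have := hlcs n
    rw [hn] at this
    exact le_bot_iff.mp this

end Cfsg.Agent.S0607
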