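import Cfsg.Statements.S0029
import Mathlib
import Cfsg.Agent.H1.CoprimeAction
import Cfsg.Agent.H1.CoprimeFix

set_option autoImplicit false
open Cfsg

namespace Cfsg.Agent.S0029

open Cfsg.Agent.H1
open scoped Pointwise commutatorElement

/-- An action that is trivial on the Frattini quotient and coprime on the Frattini subgroup is trivial: if A normalises K, the orders of A and of the Frattini subgroup of K are coprime, and every commutator of an element of A with an element of K lies in the Frattini subgroup of K, then A centralises K. -/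
theorem result {G : Type*} [Group G] [Finite G] (A K : Subgroup G)
    (hAK : A ≤ Subgroup.normalizer (K : Set G))
    (hcop : (Nat.card A).Coprime (Nat.card (frattini K)))
    (htriv : ∀ a ∈ A, ∀ k ∈ K, a * k * a⁻¹ * k⁻¹ ∈ (frattini K).map K.subtype) :
    A ≤ Subgroup.centralizer (K : Set G) := by
  obtain ⟨Φ, hΦ⟩ : ∃ Φ : Subgroup G, Φ = (frattini K).map K.subtype := ⟨_, rfl⟩
  rw [← hΦ] at htriv
  have hΦK : Φ ≤ K := by rw [hΦ]; exact Subgroup.map_subtype_le _
  have hcardΦ : Nat.card Φ = Nat.card (frattini K) := by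
    rw [hΦ, Subgroup.card_map_of_injective K.subtype_injective]
  have hAΦ : A ≤ Subgroup.normalizer (Φ : Set G) := by
    have key : ∀ a ∈ A, ∀ h ∈ Φ, a * h * a⁻¹ ∈ Φ := by
      intro a ha h hh
      have := mul_mem (htriv a ha h (hΦK hh)) hh
      rwa [inv_mul_cancel_right] at this
    intro a ha
    rw [Subgroup.mem_normalizer_iff]
    intro h
    refine ⟨key a ha h, fun hh => ?_⟩
    have := key a⁻¹ (inv_mem ha) _ hh
    rw [inv_inv] at this
    have e : a⁻¹ * (a * h * a⁻¹) * a = h := by group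
    rwa [e] at this
  intro a ha
  -- the cyclic group generated by a
  have hZA : Subgroup.zpowers a ≤ A := (Subgroup.zpowers_le).mpr ha
  have hZΦ : Subgroup.zpowers a ≤ Subgroup.normalizer (Φ : Set G) := hZA.trans hAΦ
  have hcopZ : (Nat.card (Subgroup.zpowers a)).Coprime (Nat.card Φ) := by
    rw [hcardΦ]
    exact Nat.Coprime.coprime_dvd_left (Subgroup.card_dvd_of_le hZA) hcop
  have hsolvZ : Group.IsSolvable (Subgroup.zpowers a) ∨ Group.IsSolvable Φ := Or.inl inferInstance
  have hdisj : Subgroup.zpowers a ⊓ Φ = ⊥ := (Subgroup.disjoint_of_coprime_natCard hcopZ).eq_bot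
  have hmain : ∀ k ∈ K, ∃ d ∈ Φ, k * d ∈ Subgroup.centralizer {a} := by
    intro k hk
    have hfix : ∀ z ∈ Subgroup.zpowers a, k⁻¹ * (z * k * z⁻¹) ∈ Φ := by
      intro z hz
      have := inv_mem (htriv z (hZA hz) k⁻¹ (inv_mem hk))
      have e : (z * k⁻¹ * z⁻¹ * k⁻¹⁻¹)⁻¹ = k⁻¹ * (z * k * z⁻¹) := by group
      rwa [e] at this
    obtain ⟨d, hd, hdZ⟩ := exists_mul_normalizes_of_coset_fixed (Subgroup.zpowers a) Φ hZΦ hcopZ hsolvZ k hfix
    refine ⟨d, hd, ?_⟩
    have hcK : k * d ∈ K := mul_mem hk (hΦK hd)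
    have h1 : (k * d) * a * (k * d)⁻¹ ∈ Subgroup.zpowers a := by
      have : (k * d) * a * (k * d)⁻¹ ∈ MulAut.conj (k * d) • Subgroup.zpowers a :=
        (conj_mem_conj_smul _ _ _).mpr (Subgroup.mem_zpowers a)
      rwa [hdZ] at this
    have h2 : (k * d) * a * (k * d)⁻¹ * a⁻¹ ∈ Subgroup.zpowers a :=
      mul_mem h1 (inv_mem (Subgroup.mem_zpowers a))
    have h3 : (k * d) * a * (k * d)⁻¹ * a⁻¹ ∈ Φ := by
      have := inv_mem (htriv a ha (k * d) hcK)
      have e : (a * (k * d) * a⁻¹ * (k * d)⁻¹)⁻¹ = (k * d) * a * (k * d)⁻¹ * a⁻¹ := by group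
      rwa [e] at this
    have h4 : (k * d) * a * (k * d)⁻¹ * a⁻¹ ∈ Subgroup.zpowers a ⊓ Φ := Subgroup.mem_inf.mpr ⟨h2, h3⟩
    rw [hdisj, Subgroup.mem_bot] at h4
    rw [mem_centralizer_singleton_iff]
    have : (k * d) * a = a * (k * d) := by
      have h5 := h4
      rw [mul_inv_eq_one, mul_inv_eq_iff_eq_mul] at h5
      exact h5
    exact this
  -- Frattini argument inside K
  have htop : (Subgroup.centralizer {a}).subgroupOf K = ⊤ := by
    apply frattini_nongenerating
    rw [eq_top_iff]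
    intro k _
    obtain ⟨d, hd, hkd⟩ := hmain k k.2
    rw [hΦ] at hd
    obtain ⟨d', hd', rfl⟩ := hd
    have e : k = (k * d') * d'⁻¹ := by group
    rw [e]
    exact mul_mem (Subgroup.mem_sup_left (Subgroup.mem_subgroupOf.mpr (by simpa using hkd)))
      (Subgroup.mem_sup_right (inv_mem hd'))
  rw [Subgroup.mem_centralizer_iff]
  intro k hk
  have h1 : (⟨k, hk⟩ : K) ∈ (Subgroup.centralizer {a}).subgroupOf K := by rw [htop]; trivial
  have h2 : k ∈ Subgroup.centralizer {a} := Subgroup.mem_subgroupOf.mp h1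
  rw [mem_centralizer_singleton_iff] at h2
  exact h2

end Cfsg.Agent.S0029
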