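import Cfsg.Statements.S0444
import Mathlib

set_option autoImplicit false
set_option linter.style.haveILetI false
open Cfsg

namespace Cfsg.Agent.S0444

open scoped Classical in
/-- the six elements of `⟨d, e⟩`. -/
noncomputable def six {G : Type*} [Group G] (d e : G) : Finset G := {1, d, e, d * e, e * d, d * e * d}

theorem mul_mem_six {G : Type*} [Group G] {d e : G} (hd2 : d * d = 1) (he2 : e * e = 1)
    (hbraid : e * d * e = d * e * d) {y : G} (hy : y ∈ six d e) : d * y ∈ six d e ∧ e * y ∈ six d e := by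
  classical
  unfold six at hy ⊢
  simp only [Finset.mem_insert, Finset.mem_singleton] at hy ⊢
  rcases hy with rfl | rfl | rfl | rfl | rfl | rfl
  · refine ⟨Or.inr (Or.inl (mul_one d)), Or.inr (Or.inr (Or.inl (mul_one e)))⟩
  · refine ⟨Or.inl hd2, Or.inr (Or.inr (Or.inr (Or.inr (Or.inl rfl))))⟩
  · refine ⟨Or.inr (Or.inr (Or.inr (Or.inl rfl))), Or.inl he2⟩
  · refine ⟨Or.inr (Or.inr (Or.inl ?_)), Or.inr (Or.inr (Or.inr (Or.inr (Or.inr ?_))))⟩
    · rw [← mul_assoc, hd2, one_mul]
    · rw [← mul_assoc, hbraid]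
  · refine ⟨Or.inr (Or.inr (Or.inr (Or.inr (Or.inr ?_)))), Or.inr (Or.inl ?_)⟩
    · rw [← mul_assoc]
    · rw [← mul_assoc, he2, one_mul]
  · refine ⟨Or.inr (Or.inr (Or.inr (Or.inr (Or.inl ?_)))), Or.inr (Or.inr (Or.inr (Or.inl ?_)))⟩
    · rw [mul_assoc d e d, ← mul_assoc d d, hd2, one_mul]
    · rw [← mul_assoc, ← mul_assoc, hbraid, mul_assoc (d * e), hd2, mul_one]

theorem mem_zpowers_of_sq {H : Type*} [Group H] {a x : H} (ha : a * a = 1) (hx : x ∈ Subgroup.zpowers a) :
    x = 1 ∨ x = a := by
  obtain ⟨k, rfl⟩ := Subgroup.mem_zpowers_iff.mp hx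
  have ha2 : a ^ (2 : ℤ) = 1 := by
    rw [zpow_ofNat, pow_two, ha]
  rcases Int.even_or_odd' k with ⟨m, rfl | rfl⟩
  · left
    rw [zpow_mul, ha2, one_zpow]
  · right
    rw [zpow_add, zpow_mul, ha2, one_zpow, one_mul, zpow_one]

/-- Two members of a set of 3-transpositions which do not commute generate a subgroup isomorphic to the symmetric group on three letters. -/
theorem result {G : Type*} [Group G] {E : Set G} (hE : Cfsg.IsThreeTranspositionSet E) {d e : G} (hd : d ∈ E) (he : e ∈ E) (h : ¬ Commute d e) : Nonempty (Subgroup.closure ({d, e} : Set G) ≃* Equiv.Perm (Fin 3)) := by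
  classical
  obtain ⟨hord, hprod⟩ := hE
  have hd2 : d * d = 1 := by
    have := hord d hd
    rw [← pow_two, ← this]; exact pow_orderOf_eq_one d
  have he2 : e * e = 1 := by
    have := hord e he
    rw [← pow_two, ← this]; exact pow_orderOf_eq_one e
  have hdinv : d⁻¹ = d := inv_eq_of_mul_eq_one_right hd2
  have heinv : e⁻¹ = e := inv_eq_of_mul_eq_one_right he2
  have h3 : (d * e) ^ 3 = 1 := by
    rcases hprod d hd e he with h2 | h3
    · exfalso
      apply h
      have h4 : d * e * (d * e) = 1 := by rw [← pow_two]; exact h2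
      show d * e = e * d
      calc d * e = (d * e)⁻¹ := eq_inv_of_mul_eq_one_left h4
        _ = e⁻¹ * d⁻¹ := mul_inv_rev d e
        _ = e * d := by rw [hdinv, heinv]
    · exact h3
  have hbraid : e * d * e = d * e * d := by
    have h5 : d * e * d * (e * d * e) = 1 := by
      rw [← h3]; simp only [pow_succ, pow_zero, one_mul, mul_assoc]
    have h6 := eq_inv_of_mul_eq_one_right h5
    rw [h6, mul_inv_rev, mul_inv_rev, hdinv, heinv, mul_assoc]
  have hd1 : d ≠ 1 := by
    rintro rfl
    exact h (Commute.one_left e)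
  have hde1 : d * e ≠ 1 := by
    intro h1
    apply h
    have : e = d⁻¹ := eq_inv_of_mul_eq_one_right h1
    rw [this]
    exact (Commute.refl d).inv_right
  set H := Subgroup.closure ({d, e} : Set G) with hH
  have hdH : d ∈ H := Subgroup.subset_closure (by simp)
  have heH : e ∈ H := Subgroup.subset_closure (by simp)
  -- `H` is contained in the six-element set
  have hsub : ∀ x ∈ H, x ∈ six d e := by
    intro x hx
    induction hx using Subgroup.closure_induction_left with
    | one => unfold six; simp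
    | mul_left x hx y hy ih =>
      rcases hx with rfl | rfl
      · exact (mul_mem_six hd2 he2 hbraid ih).1
      · exact (mul_mem_six hd2 he2 hbraid ih).2
    | inv_mul_cancel x hx y hy ih =>
      rcases hx with rfl | rfl
      · rw [hdinv]; exact (mul_mem_six hd2 he2 hbraid ih).1
      · rw [heinv]; exact (mul_mem_six hd2 he2 hbraid ih).2
  have hfin : (H : Set G).Finite := (six d e).finite_toSet.subset hsub
  haveI : Finite ↥H := hfin.to_subtype
  have hle6 : Nat.card ↥H ≤ 6 := by
    have h1 : Nat.card ↥H = (H : Set G).ncard := rfl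
    rw [h1]
    calc (H : Set G).ncard ≤ ((six d e : Finset G) : Set G).ncard :=
          Set.ncard_le_ncard hsub (six d e).finite_toSet
      _ = (six d e).card := Set.ncard_coe_finset _
      _ ≤ 6 := Finset.card_le_six
  -- `6 ∣ |H|`
  set d' : ↥H := ⟨d, hdH⟩ with hd'
  set e' : ↥H := ⟨e, heH⟩ with he'
  have hd'2 : d' * d' = 1 := Subtype.ext hd2
  have hod : orderOf d' = 2 := by
    rw [Subgroup.orderOf_mk]; exact hord d hd
  have hode : orderOf (d' * e') = 3 := by
    have h1 : (d' * e') ^ 3 = 1 := Subtype.ext (by simpa using h3)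
    have h2 : d' * e' ≠ 1 := fun hc => hde1 (congrArg Subtype.val hc)
    exact orderOf_eq_prime h1 h2
  have h6 : 6 ∣ Nat.card ↥H := by
    have h2 : 2 ∣ Nat.card ↥H := hod ▸ orderOf_dvd_natCard d'
    have h3 : 3 ∣ Nat.card ↥H := hode ▸ orderOf_dvd_natCard (d' * e')
    exact Nat.Coprime.mul_dvd_of_dvd_of_dvd (by norm_num) h2 h3
  have hcard : Nat.card ↥H = 6 := by
    have := Nat.le_of_dvd Nat.card_pos h6
    omega
  -- the action on the cosets of `K = ⟨d⟩`
  set K : Subgroup ↥H := Subgroup.zpowers d' with hK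
  have hKcard : Nat.card ↥K = 2 := by rw [Nat.card_zpowers, hod]
  have hidx : K.index = 3 := by
    have := K.card_mul_index
    rw [hKcard, hcard] at this
    omega
  have hq : Nat.card (↥H ⧸ K) = 3 := by rw [← Subgroup.index_eq_card, hidx]
  haveI : Finite (↥H ⧸ K) := Nat.finite_of_card_ne_zero (by rw [hq]; norm_num)
  have hcore : K.normalCore = ⊥ := by
    rw [eq_bot_iff]
    intro x hx
    rw [Subgroup.mem_bot]
    have hxK : x ∈ K := K.normalCore_le hx
    rcases mem_zpowers_of_sq hd'2 hxK with rfl | rfl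
    · rfl
    · exfalso
      have h1 : e' * d' * e'⁻¹ ∈ K := hx e'
      rcases mem_zpowers_of_sq hd'2 h1 with h2 | h2
      · apply hd1
        have : d' = 1 := by
          have := congrArg (fun t => e'⁻¹ * t * e') h2
          simpa [mul_assoc] using this
        exact congrArg Subtype.val this
      · apply h
        have : e' * d' = d' * e' := by
          rw [mul_inv_eq_iff_eq_mul] at h2
          exact h2
        exact (congrArg Subtype.val this).symm
  have hinj : Function.Injective (MulAction.toPermHom ↥H (↥H ⧸ K)) := by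
    rw [← MonoidHom.ker_eq_bot_iff, ← Subgroup.normalCore_eq_ker, hcore]
  have hbij : Function.Bijective (MulAction.toPermHom ↥H (↥H ⧸ K)) := by
    apply hinj.bijective_of_nat_card_le
    rw [Nat.card_perm, hq, hcard]
    rfl
  let e1 : ↥H ≃* Equiv.Perm (↥H ⧸ K) := MulEquiv.ofBijective _ hbij
  haveI : Fintype (↥H ⧸ K) := Fintype.ofFinite _
  have hq' : Fintype.card (↥H ⧸ K) = 3 := by rw [← Nat.card_eq_fintype_card, hq]
  let e2 : Equiv.Perm (↥H ⧸ K) ≃* Equiv.Perm (Fin 3) := (Fintype.equivFinOfCardEq hq').permCongrHom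
  exact ⟨e1.trans e2⟩

end Cfsg.Agent.S0444
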