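import Cfsg.Statements.S3979
import Mathlib

set_option autoImplicit false
open Cfsg

namespace Cfsg.Agent.S3979



/-- A finite cyclic group has trivial Schur multiplier: every finite stem extension of it is an isomorphism, said through `HasCyclicSchurMultiplier G 1`. -/
theorem result {G : Type*} [Group G] [Finite G] [IsCyclic G] : Cfsg.HasCyclicSchurMultiplier G 1 := by

  constructor
  · refine ⟨G, inferInstance, inferInstance, MonoidHom.id G, ⟨Function.surjective_id, ?_, ?_⟩, ?_⟩
    · rw [MonoidHom.ker_id]; exact bot_le
    · rw [MonoidHom.ker_id]; exact bot_le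
    · have h1 : ∀ x : (MonoidHom.id G).ker, x = 1 := by
        intro x
        apply Subtype.ext
        have h := x.2
        rw [MonoidHom.mem_ker] at h
        exact h
      have h2 : ∀ x : Multiplicative (ZMod 1), x = 1 := by
        intro x
        exact Subsingleton.elim (α := Fin 1) _ _
      exact ⟨{ toFun := fun _ => 1, invFun := fun _ => 1,
               left_inv := fun x => (h1 x).symm, right_inv := fun x => (h2 x).symm,
               map_mul' := fun _ _ => (one_mul 1).symm }⟩
  · intro Γ _ _ σ hσ
    obtain ⟨hsurj, hcen, hcomm⟩ := hσ
    have hab : ∀ a b : Γ, a * b = b * a := by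
      have := MonoidHom.isMulCommutative_of_isCyclic_of_ker_le_center σ hcen
      intro a b
      exact this.is_comm.comm a b
    have hc : commutator Γ = ⊥ := by
      rw [commutator_eq_bot_iff_center_eq_top, Subgroup.eq_top_iff']
      intro z
      rw [Subgroup.mem_center_iff]
      intro g
      exact hab g z
    have hker : ∀ y : σ.ker, y = 1 := by
      intro y
      apply Subtype.ext
      have := hcomm y.2
      rw [hc, Subgroup.mem_bot] at this
      exact this
    refine ⟨1, ?_⟩
    intro y
    exact ⟨1, (hker y).symm⟩

end Cfsg.Agent.S3979
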