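import Mathlib
import Cfsg.Statements.S4433
import Cfsg.Agent.Lib.helper3.QuotDefect

set_option autoImplicit false
open Cfsg

namespace Cfsg.Agent.S4433

open Cfsg.Agent.Lib.helper3.Block Cfsg.Agent.Lib.helper3.LocalM Cfsg.Agent.Lib.helper3.Irr

set_option linter.style.haveILetI false

/-- Let N be a normal subgroup of the finite group G and write Ḡ = G/N; fix a maximal ideal M of the algebraic integers containing p. Let B̄ be a block of Ḡ contained in the block B of G, in the sense that the inflation of every member of B̄ lies in B, and let D̄ be a defect group of B̄. Then B has a defect group P whose image in Ḡ contains D̄. -/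
theorem result {G : Type*} [Group G] [Finite G] (p : ℕ) [Fact p.Prime] (M : Ideal Cfsg.AlgInt) (hM : Cfsg.IsPModular p M) (N : Subgroup G) [N.Normal] (Bbar : Set (Cfsg.IrrCharacter (G ⧸ N))) (hBbar : Cfsg.IsPBlock M Bbar) (B : Set (Cfsg.IrrCharacter G)) (hB : Cfsg.IsPBlock M B) (hsub : ∀ χ ∈ Bbar, ∀ ψ : Cfsg.IrrCharacter G, (ψ : G → ℂ) = (χ : G ⧸ N → ℂ) ∘ QuotientGroup.mk → ψ ∈ B) (Dbar : Subgroup (G ⧸ N)) (hDbar : Cfsg.IsDefectGroup p M Bbar Dbar) : ∃ P : Subgroup G, Cfsg.IsDefectGroup p M B P ∧ Dbar ≤ P.map (QuotientGroup.mk' N) := by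
  classical
  letI : Fintype G := Fintype.ofFinite G
  letI : Fintype (G ⧸ N) := Fintype.ofFinite _
  haveI hMp := isPrime_of_isPModular hM
  have hMtop : M ≠ ⊤ := hM.2.1.ne_top
  obtain ⟨gbar, hgbar, S, rfl⟩ := hDbar
  obtain ⟨g, rfl⟩ := QuotientGroup.mk_surjective gbar
  have hDp : IsPGroup p ((S : Subgroup (Subgroup.centralizer ({(g : G ⧸ N)} : Set (G ⧸ N)))).map
      (Subgroup.centralizer ({(g : G ⧸ N)} : Set (G ⧸ N))).subtype) := S.2.map _
  obtain ⟨D, hDp', hDeq⟩ := exists_pgroup_map_eq N _ hDp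
  -- elements of `D` centralize the image of `g`
  have hDcent : ∀ u ∈ D, (u : G ⧸ N) * (g : G ⧸ N) = (g : G ⧸ N) * (u : G ⧸ N) := by
    intro u hu
    have h1 : (u : G ⧸ N) ∈ D.map (QuotientGroup.mk' N) := ⟨u, hu, rfl⟩
    rw [hDeq] at h1
    have h2 := Subgroup.map_subtype_le _ h1
    exact Subgroup.mem_centralizer_singleton_iff.mp h2
  have hsub' : inflIrr N '' Bbar ⊆ B := by
    rintro _ ⟨χ, hχ, rfl⟩
    exact hsub χ hχ _ rfl
  have hstar := blockCoeff_quot_eq_sum N Bbar B hsub' g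
  have hnot : ¬ Cfsg.MemLocalIdeal M (∑ x : G,
      Cfsg.blockCoeff Bbar ((g : G ⧸ N) * (x : G ⧸ N)⁻¹) * Cfsg.blockCoeff B x) := by
    rw [← hstar]
    exact hgbar.2.1
  letI : MulAction D G :=
    { smul := fun u x => (u : G) * x * (u : G)⁻¹
      one_smul := fun x => by
        show ((1 : D) : G) * x * ((1 : D) : G)⁻¹ = x
        simp
      mul_smul := fun u u' x => by
        show ((u * u' : D) : G) * x * ((u * u' : D) : G)⁻¹
          = (u : G) * ((u' : G) * x * (u' : G)⁻¹) * (u : G)⁻¹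
        push_cast
        group }
  have hsmul : ∀ (u : D) (x : G), u • x = (u : G) * x * (u : G)⁻¹ := fun _ _ => rfl
  obtain ⟨m, hmfix, hm⟩ := exists_fixed_of_sum_notMem (P := D) hM hDp'
    (fun x : G => Cfsg.blockCoeff Bbar ((g : G ⧸ N) * (x : G ⧸ N)⁻¹) * Cfsg.blockCoeff B x)
    (fun x => memLocalRing_mul (osima hM Bbar hBbar _) (osima hM B hB _))
    (by
      intro u x
      rw [hsmul, blockCoeff_conj' B x (u : G)]
      congr 1
      have e : (g : G ⧸ N) * (((u : G) * x * (u : G)⁻¹ : G) : G ⧸ N)⁻¹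
          = ((u : G) : G ⧸ N) * ((g : G ⧸ N) * (x : G ⧸ N)⁻¹) * ((u : G) : G ⧸ N)⁻¹ := by
        have hc := hDcent u u.2
        rw [QuotientGroup.mk_mul, QuotientGroup.mk_mul, QuotientGroup.mk_inv]
        calc (g : G ⧸ N) * (((u : G) : G ⧸ N) * (x : G ⧸ N) * ((u : G) : G ⧸ N)⁻¹)⁻¹
            = ((g : G ⧸ N) * ((u : G) : G ⧸ N)) * (x : G ⧸ N)⁻¹ * ((u : G) : G ⧸ N)⁻¹ := by group
          _ = (((u : G) : G ⧸ N) * (g : G ⧸ N)) * (x : G ⧸ N)⁻¹ * ((u : G) : G ⧸ N)⁻¹ := by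
              rw [hc]
          _ = _ := by group
      rw [e, blockCoeff_conj' Bbar])
    hnot
  have hmB : ¬ Cfsg.MemLocalIdeal M (Cfsg.blockCoeff B m) := by
    intro h
    apply hm
    exact memLocalIdeal_mul_localRing (osima hM Bbar hBbar _) h
  have hDm : D ≤ Subgroup.centralizer ({m} : Set G) := by
    intro u hu
    rw [Subgroup.mem_centralizer_singleton_iff]
    have h1 := hmfix ⟨u, hu⟩
    rw [hsmul] at h1
    have h2 : u * m * u⁻¹ = m := h1
    calc u * m = u * m * u⁻¹ * u := by group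
      _ = m * u := by rw [h2]
  obtain ⟨g₀, hg₀⟩ := exists_defectClass hM B hB
  obtain ⟨χ₀, hB'⟩ := id hB
  have hχ₀ : χ₀ ∈ B := by
    rw [hB']
    exact sameBlock_refl hMtop _
  obtain ⟨y, hy, hDy⟩ := exists_conj_centralized hM B hB g₀ m ⟨χ₀, hχ₀, hg₀.2.2 χ₀ hχ₀⟩ hmB D hDp'
    hDm
  have hydef := isDefectClass_of_isConj hg₀ hy
  obtain ⟨E₀, hE₀⟩ := exists_le_sylow_map (Subgroup.centralizer ({y} : Set G)) D hDp' hDy
  refine ⟨_, ⟨y, hydef, E₀, rfl⟩, ?_⟩
  rw [← hDeq]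
  exact Subgroup.map_mono hE₀


end Cfsg.Agent.S4433
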