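import Mathlib
import Cfsg.Statements.S4434
import Cfsg.Agent.Lib.helper3.QuotDefect3
import Cfsg.Agent.S4433
import Cfsg.Agent.S4653
import Cfsg.Agent.Lib.helper3.BlockPGroup
import Cfsg.Agent.Lib.helper3.DefectOrder3

set_option autoImplicit false
open Cfsg

namespace Cfsg.Agent.S4434

open Cfsg.Agent.Lib.helper3.Block Cfsg.Agent.Lib.helper3.LocalM Cfsg.Agent.Lib.helper3.Irr

set_option linter.style.haveILetI false

/-- Let N be a normal p-subgroup of the finite group G and write Ḡ = G/N; fix a maximal ideal M of the algebraic integers containing p. Then every block B of G contains a block B̄ of Ḡ (the inflation of every member of B̄ lies in B) whose defect groups are exactly the images in Ḡ of the defect groups of B. -/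
theorem result {G : Type*} [Group G] [Finite G] (p : ℕ) [Fact p.Prime] (M : Ideal Cfsg.AlgInt) (hM : Cfsg.IsPModular p M) (N : Subgroup G) [N.Normal] (hN : IsPGroup p N) (B : Set (Cfsg.IrrCharacter G)) (hB : Cfsg.IsPBlock M B) : ∃ Bbar : Set (Cfsg.IrrCharacter (G ⧸ N)), Cfsg.IsPBlock M Bbar ∧ (∀ χ ∈ Bbar, ∀ ψ : Cfsg.IrrCharacter G, (ψ : G → ℂ) = (χ : G ⧸ N → ℂ) ∘ QuotientGroup.mk → ψ ∈ B) ∧ ∀ Dbar : Subgroup (G ⧸ N), Cfsg.IsDefectGroup p M Bbar Dbar ↔ ∃ P : Subgroup G, Cfsg.IsDefectGroup p M B P ∧ Dbar = P.map (QuotientGroup.mk' N) := by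
  classical
  letI : Fintype G := Fintype.ofFinite G
  letI : Fintype (G ⧸ N) := Fintype.ofFinite _
  letI : Fintype N := Fintype.ofFinite _
  haveI hMp := isPrime_of_isPModular hM
  have hMtop : M ≠ ⊤ := hM.2.1.ne_top
  have hp : p.Prime := Fact.out
  have hmapconj : ∀ (K : Subgroup G) (y : G),
      (K.map (MulAut.conj y).toMonoidHom).map (QuotientGroup.mk' N)
        = (K.map (QuotientGroup.mk' N)).map (MulAut.conj (y : G ⧸ N)).toMonoidHom := by
    intro K y
    rw [Subgroup.map_map, Subgroup.map_map]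
    congr 1
  obtain ⟨g₀, hg₀⟩ := exists_defectClass hM B hB
  obtain ⟨χ₀, hB'⟩ := id hB
  have hreg : ¬ p ∣ orderOf g₀ := by
    intro h
    apply hg₀.2.1
    rw [blockCoeff_eq_zero_of_dvd hM B hB g₀ h]
    exact memLocalIdeal_zero hMtop
  have hcent : g₀ ∈ Subgroup.centralizer (N : Set G) := by
    by_contra h
    apply hg₀.2.1
    rw [Cfsg.Agent.S4653.result p M hM N hN B hB g₀ h]
    exact memLocalIdeal_zero hMtop
  obtain ⟨Bstar, hBstar⟩ : ∃ Bstar : Set (Cfsg.IrrCharacter (G ⧸ N)),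
      Bstar = {ψ | inflIrr N ψ ∈ B} := ⟨_, rfl⟩
  have hclosed : ∀ θ ∈ Bstar, Cfsg.blockOf M (θ : G ⧸ N → ℂ) ⊆ Bstar := by
    intro θ hθ θ' hθ'
    rw [hBstar] at hθ ⊢
    have h1 := sameBlock_inflate (M := M) N θ θ' hθ'
    have h2 : inflIrr N θ ∈ B := hθ
    rw [hB'] at h2
    show inflIrr N θ' ∈ B
    rw [hB']
    exact sameBlock_trans h2 h1
  -- the coset sum
  have hsum := sum_coset_blockCoeff N B g₀
  rw [← hBstar] at hsum
  have hsingle : ∑ n : N, Cfsg.blockCoeff B (g₀ * (n : G)) = Cfsg.blockCoeff B g₀ := by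
    rw [Finset.sum_eq_single (1 : N)]
    · rw [Subgroup.coe_one, mul_one]
    · intro n _ hn
      apply blockCoeff_eq_zero_of_dvd hM B hB
      have hcomm : Commute g₀ (n : G) := (Subgroup.mem_centralizer_iff.mp hcent n n.2).symm
      obtain ⟨j, hj⟩ := hN n
      have h1 : orderOf n ∣ p ^ j := orderOf_dvd_of_pow_eq_one hj
      obtain ⟨i, -, hi⟩ := (Nat.dvd_prime_pow hp).mp h1
      have hi0 : i ≠ 0 := by
        rintro rfl
        rw [pow_zero, orderOf_eq_one_iff] at hi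
        exact hn hi
      have h2 : ((n : G)) ^ (orderOf (g₀ * (n : G)) * orderOf g₀) = 1 := by
        have h3 : (g₀ * (n : G)) ^ (orderOf (g₀ * (n : G)) * orderOf g₀) = 1 := by
          rw [pow_mul, pow_orderOf_eq_one, one_pow]
        rw [hcomm.mul_pow] at h3
        have h4 : g₀ ^ (orderOf (g₀ * (n : G)) * orderOf g₀) = 1 := by
          rw [mul_comm, pow_mul, pow_orderOf_eq_one, one_pow]
        rw [h4, one_mul] at h3
        exact h3
      have h5 : orderOf (n : G) ∣ orderOf (g₀ * (n : G)) * orderOf g₀ :=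
        orderOf_dvd_of_pow_eq_one h2
      rw [Subgroup.orderOf_coe, hi] at h5
      have h6 : p ∣ orderOf (g₀ * (n : G)) * orderOf g₀ := (dvd_pow_self p hi0).trans h5
      rcases hp.dvd_mul.mp h6 with h7 | h7
      · exact h7
      · exact absurd h7 hreg
    · intro h
      exact absurd (Finset.mem_univ _) h
  have hstar : ¬ Cfsg.MemLocalIdeal M (Cfsg.blockCoeff Bstar (g₀ : G ⧸ N)) := by
    rw [← hsum, hsingle]
    exact hg₀.2.1
  rw [blockCoeff_eq_sum_blocks Bstar hclosed] at hstar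
  obtain ⟨Bbar, hBbarmem, hBbar0⟩ : ∃ Bbar ∈ (blocksFinset M (G ⧸ N)).filter (fun B' => B' ⊆ Bstar),
      ¬ Cfsg.MemLocalIdeal M (Cfsg.blockCoeff Bbar (g₀ : G ⧸ N)) := by
    by_contra hcon
    push Not at hcon
    exact hstar (memLocalIdeal_sum _ _ hcon)
  rw [Finset.mem_filter] at hBbarmem
  have hBbar : Cfsg.IsPBlock M Bbar := (mem_blocksFinset Bbar).mp hBbarmem.1
  have hBbarsub : Bbar ⊆ Bstar := hBbarmem.2
  have hsub : ∀ χ ∈ Bbar, ∀ ψ : Cfsg.IrrCharacter G,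
      (ψ : G → ℂ) = (χ : G ⧸ N → ℂ) ∘ QuotientGroup.mk → ψ ∈ B := by
    intro χ hχ ψ hψ
    have h1 : inflIrr N χ ∈ B := by
      have := hBbarsub hχ
      rw [hBstar] at this
      exact this
    have h2 : ψ = inflIrr N χ := Subtype.ext hψ
    rw [h2]
    exact h1
  -- the defect group `P₀`
  obtain ⟨S₀⟩ : Nonempty (Sylow p (Subgroup.centralizer ({g₀} : Set G))) := inferInstance
  obtain ⟨P₀, hP₀def⟩ : ∃ P₀ : Subgroup G,
      P₀ = (S₀ : Subgroup (Subgroup.centralizer ({g₀} : Set G))).map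
        (Subgroup.centralizer ({g₀} : Set G)).subtype := ⟨_, rfl⟩
  have hP₀ : Cfsg.IsDefectGroup p M B P₀ := ⟨g₀, hg₀, S₀, hP₀def⟩
  have hP₀p : IsPGroup p P₀ := by
    rw [hP₀def]
    exact S₀.2.map _
  have hP₀le : P₀ ≤ Subgroup.centralizer ({g₀} : Set G) := by
    rw [hP₀def]
    exact Subgroup.map_subtype_le _
  have hPbarp : IsPGroup p (P₀.map (QuotientGroup.mk' N)) := hP₀p.map _
  have hPbarcent : (g₀ : G ⧸ N) ∈ Subgroup.centralizer ((P₀.map (QuotientGroup.mk' N) : Subgroup (G ⧸ N)) : Set (G ⧸ N)) := by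
    rw [Subgroup.mem_centralizer_iff]
    rintro _ ⟨u, hu, rfl⟩
    have h1 := Subgroup.mem_centralizer_singleton_iff.mp (hP₀le hu)
    show (u : G ⧸ N) * (g₀ : G ⧸ N) = (g₀ : G ⧸ N) * (u : G ⧸ N)
    rw [← QuotientGroup.mk_mul, ← QuotientGroup.mk_mul, h1]
  have hkey : ∀ Dbar : Subgroup (G ⧸ N), Cfsg.IsDefectGroup p M Bbar Dbar →
      ∃ x : G, (P₀.map (QuotientGroup.mk' N)).map (MulAut.conj (x : G ⧸ N)).toMonoidHom = Dbar := by
    intro Dbar hDbar
    have h1 := (Cfsg.Agent.S0959.result p M hM Bbar hBbar Dbar hDbar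
      (P₀.map (QuotientGroup.mk' N)) hPbarp).mp
      ⟨(g₀ : G ⧸ N), osima hM Bbar hBbar _, hBbar0, (g₀ : G ⧸ N), IsConj.refl _, hPbarcent⟩
    obtain ⟨xbar, hxbar⟩ := h1
    obtain ⟨x, rfl⟩ := QuotientGroup.mk_surjective xbar
    refine ⟨x, ?_⟩
    apply Subgroup.eq_of_le_of_card_ge hxbar
    obtain ⟨P', hP', hle⟩ := Cfsg.Agent.S4433.result p M hM N Bbar hBbar B hB hsub Dbar hDbar
    obtain ⟨y, hy⟩ := defectGroup_conj_eq hM hB hP' hP₀
    have h2 : Nat.card (P'.map (QuotientGroup.mk' N))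
        = Nat.card (P₀.map (QuotientGroup.mk' N)) := by
      rw [← hy, hmapconj, Subgroup.card_map_of_injective (MulAut.conj (y : G ⧸ N)).injective]
    rw [Subgroup.card_map_of_injective (MulAut.conj (x : G ⧸ N)).injective, ← h2]
    exact Subgroup.card_le_of_le hle
  refine ⟨Bbar, hBbar, hsub, ?_⟩
  intro Dbar
  constructor
  · intro hDbar
    obtain ⟨x, hx⟩ := hkey Dbar hDbar
    refine ⟨P₀.map (MulAut.conj x).toMonoidHom, isDefectGroup_conj hP₀ x, ?_⟩
    rw [hmapconj, hx]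
  · rintro ⟨P, hP, rfl⟩
    obtain ⟨y, hy⟩ := defectGroup_conj_eq hM hB hP hP₀
    obtain ⟨gb, hgb⟩ := exists_defectClass hM Bbar hBbar
    obtain ⟨Sb⟩ : Nonempty (Sylow p (Subgroup.centralizer ({gb} : Set (G ⧸ N)))) := inferInstance
    have hD₁ : Cfsg.IsDefectGroup p M Bbar
        ((Sb : Subgroup (Subgroup.centralizer ({gb} : Set (G ⧸ N)))).map
          (Subgroup.centralizer ({gb} : Set (G ⧸ N))).subtype) := ⟨gb, hgb, Sb, rfl⟩
    obtain ⟨x, hx⟩ := hkey _ hD₁
    have h1 := isDefectGroup_conj hD₁ ((x : G ⧸ N))⁻¹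
    rw [← hx, Subgroup.map_map] at h1
    have h2 : ((MulAut.conj ((x : G ⧸ N))⁻¹).toMonoidHom.comp (MulAut.conj (x : G ⧸ N)).toMonoidHom)
        = MonoidHom.id _ := by
      ext u
      simp
    rw [h2, Subgroup.map_id] at h1
    have h3 := isDefectGroup_conj h1 (y : G ⧸ N)
    rw [← hmapconj, hy] at h3
    exact h3


end Cfsg.Agent.S4434
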