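import Mathlib
import Cfsg.Statements.S4654
import Cfsg.Agent.Lib.helper3.TraceBlock2
import Cfsg.Agent.Lib.helper3.DefectOrder4

set_option autoImplicit false
open Cfsg

set_option linter.style.haveILetI false

namespace Cfsg.Agent.S4654

open Cfsg.Agent.Lib.helper3.Block Cfsg.Agent.Lib.helper3.LocalM Cfsg.Agent.Lib.helper3.Irr Cfsg.Agent.Lib.helper3.CharBasic

/-- Fix a prime p and a maximal ideal M of the algebraic integers containing p. Let P be a normal p-subgroup of the finite group G, B a p-block of G and e a p-block of C_G(P) such that (P, e) is a Brauer pair of B (as P is normal, this says that e occurs in the idempotent of B, which is supported on C_G(P)). Let T be the stabilizer of e in G under conjugation. Then the idempotent of e is a block idempotent of T: some block E of T has, at every element of T, the same idempotent coefficient as e (zero off C_G(P)); and the idempotent of B is the sum of the distinct G-conjugates of the idempotent of e: its coefficient at g is the sum over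 all x in G of the coefficient of e at x⁻¹ g x, divided by the order of T. -/
theorem result {G : Type*} [Group G] [Fintype G] (p : ℕ) [Fact p.Prime] (M : Ideal Cfsg.AlgInt) (hM : Cfsg.IsPModular p M) (P : Subgroup G) [P.Normal] (hP : IsPGroup p P) (B : Set (Cfsg.IrrCharacter G)) (e : Set (Cfsg.IrrCharacter (Subgroup.centralizer (P : Set G)))) (hBe : Cfsg.IsBrauerPairOf p M B P e) (T : Subgroup G) (hT : ∀ x : G, x ∈ T ↔ Cfsg.StabilizesBlock (Subgroup.centralizer (P : Set G)) e x) : (∃ E : Set (Cfsg.IrrCharacter T), Cfsg.IsPBlock M E ∧ ∀ t : T, Cfsg.blockCoeff E t = Cfsg.subgroupBlockCoeff (Subgroup.centralizer (P : Set G)) e (t : G)) ∧ ∀ g : G, Cfsg.blockCoeff B g = (Nat.card T : ℂ)⁻¹ * ∑ x : G, Cfsg.subgroupBlockCoeff (Subgroup.centralizer (P : Set G)) e (x⁻¹ * g * x) := by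
  classical
  haveI : Fintype (Subgroup.centralizer (P : Set G)) := Fintype.ofFinite _
  haveI hMp := isPrime_of_isPModular hM
  have hMtop : M ≠ ⊤ := hM.2.1.ne_top
  obtain ⟨⟨-, he⟩, hB, hω⟩ := hBe
  have hnorm : ∀ x : G, x ∈ Subgroup.normalizer
      ((Subgroup.centralizer (P : Set G) : Subgroup G) : Set G) := by
    intro x
    rw [Subgroup.normalizer_eq_top]
    exact Subgroup.mem_top _
  have hNT : Subgroup.centralizer (P : Set G) ≤ T := by
    intro x hx
    rw [hT]
    refine ⟨hnorm x, fun χ hχ => ⟨χ, hχ, ?_⟩⟩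
    intro k k' hk
    have : k' = (⟨x, hx⟩ : Subgroup.centralizer (P : Set G)) * k
        * (⟨x, hx⟩ : Subgroup.centralizer (P : Set G))⁻¹ := Subtype.ext hk
    rw [this]
    exact isClassFunction_of_isCharacter (isCharacter_of_isIrrCharacter χ.2) k _
  have hPT : P ≤ T := by
    intro x hx
    rw [hT]
    refine ⟨hnorm x, fun χ hχ => ⟨χ, hχ, ?_⟩⟩
    intro k k' hk
    have h1 := (Subgroup.mem_centralizer_iff.mp k.2) x hx
    have : k' = k := by
      apply Subtype.ext
      rw [hk, h1, mul_inv_cancel_right]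
    rw [this]
  have hcent : ∀ t ∈ T, (∀ u ∈ P, u ∈ T → u * t = t * u) →
      t ∈ Subgroup.centralizer (P : Set G) := by
    intro t _ h
    rw [Subgroup.mem_centralizer_iff]
    intro u hu
    exact h u hu (hPT hu)
  refine ⟨exists_block_of_stabilizer hM P hP (Subgroup.centralizer (P : Set G)) e he T hT hNT
    hcent, ?_⟩
  have hsupp : ∀ B' : Set (Cfsg.IrrCharacter G), Cfsg.IsPBlock M B' →
      ∀ g, g ∉ Subgroup.centralizer (P : Set G) → Cfsg.blockCoeff B' g = 0 := by
    intro B' hB' g hg
    exact blockCoeff_eq_zero_of_vanish hM (Subgroup.centralizer (P : Set G))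
      (fun χ x hx => memLocalIdeal_centralChar_of_notMem_centralizer hM P hP χ x hx) B' hB' g hg
  obtain ⟨ξ₀, hξ₀⟩ : ∃ ξ₀, ξ₀ ∈ e := by
    obtain ⟨χ, rfl⟩ := he
    exact ⟨χ, sameBlock_refl hMtop _⟩
  obtain ⟨χ₁, hχ₁⟩ := exists_irr_over (Subgroup.centralizer (P : Set G))
    (ξ₀ : Subgroup.centralizer (P : Set G) → ℂ) ξ₀.2
  have hX := overSet_conjOrbit_eq_blockOf hM (Subgroup.centralizer (P : Set G)) hsupp e he ξ₀ hξ₀
    χ₁ hχ₁
  have hχ₁B : χ₁ ∈ B := by
    by_contra hcon
    have h1 := sum_blockCoeff_mul_div_of_over (Subgroup.centralizer (P : Set G)) B (hsupp B hB)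
      χ₁ ξ₀ hχ₁
    rw [if_neg hcon] at h1
    have h2 := hω ξ₀ hξ₀
    rw [brauerOmega_eq_sum, h1, zero_sub] at h2
    apply not_memLocalIdeal_one (M := M)
    have := memLocalIdeal_neg h2
    rwa [neg_neg] at this
  have hBeq : B = Cfsg.blockOf M (χ₁ : G → ℂ) :=
    block_eq_of_mem hB ⟨χ₁, rfl⟩ χ₁ hχ₁B (sameBlock_refl hMtop _)
  intro g
  rw [hBeq, ← hX, blockCoeff_overSet _ _ (conjStable_conjOrbit _ e) g]
  exact subgroupBlockCoeff_conjOrbit (Subgroup.centralizer (P : Set G)) e he T hT g

end Cfsg.Agent.S4654
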