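import Mathlib
import Cfsg.Statements.S4657
import Cfsg.Agent.Lib.helper3.BrauerMap3

set_option autoImplicit false
open Cfsg

namespace Cfsg.Agent.S4657

open Cfsg.Agent.Lib.helper3.Block Cfsg.Agent.Lib.helper3.LocalM Cfsg.Agent.Lib.helper3.Irr

set_option linter.style.haveILetI false

/-- Fix a prime p and a maximal ideal M of the algebraic integers containing p. Every Brauer pair (P, e) of the finite group G is a Brauer pair of exactly one p-block B of G. -/
theorem result {G : Type*} [Group G] [Fintype G] (p : ℕ) [Fact p.Prime] (M : Ideal Cfsg.AlgInt) (hM : Cfsg.IsPModular p M) (P : Subgroup G) (e : Set (Cfsg.IrrCharacter (Subgroup.centralizer (P : Set G)))) (hPe : Cfsg.IsBrauerPair p M P e) : ∃! B : Set (Cfsg.IrrCharacter G), Cfsg.IsBrauerPairOf p M B P e := by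
  classical
  haveI : Fintype (Subgroup.centralizer (P : Set G)) := Fintype.ofFinite _
  haveI hMp := isPrime_of_isPModular hM
  have hMtop : M ≠ ⊤ := hM.2.1.ne_top
  obtain ⟨hPp, ξ₀, he⟩ := hPe
  have hξ₀ : ξ₀ ∈ e := by
    rw [he]
    exact sameBlock_refl hMtop _
  have hclosed : ∀ B : Set (Cfsg.IrrCharacter G), Cfsg.IsPBlock M B →
      ∀ θ ∈ B, Cfsg.blockOf M (θ : G → ℂ) ⊆ B := by
    rintro B ⟨χ₀, rfl⟩ θ hθ ψ hψ
    exact sameBlock_trans hθ hψ
  have hloc : ∀ B : Set (Cfsg.IrrCharacter G), Cfsg.IsPBlock M B →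
      ∀ g, Cfsg.MemLocalRing M (Cfsg.blockCoeff B g) :=
    fun B hB g => memLocalRing_blockCoeff_of_closed hM B (hclosed B hB) g
  have hconj : ∀ (B : Set (Cfsg.IrrCharacter G)) (c g : G),
      Cfsg.blockCoeff B (c * g * c⁻¹) = Cfsg.blockCoeff B g := fun B c g => blockCoeff_conj' B g c
  have hΛloc : ∀ (B : Set (Cfsg.IrrCharacter G)), Cfsg.IsPBlock M B →
      ∀ ξ : Cfsg.IrrCharacter (Subgroup.centralizer (P : Set G)),
      Cfsg.MemLocalRing M (Cfsg.brauerOmega P (Cfsg.blockCoeff B)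
        (ξ : Subgroup.centralizer (P : Set G) → ℂ)) :=
    fun B hB ξ => memLocalRing_brauerOmega P _ (hloc B hB) (fun c _ g => hconj B c g) ξ
  have hmul : ∀ (B B' : Set (Cfsg.IrrCharacter G)), Cfsg.IsPBlock M B → Cfsg.IsPBlock M B' →
      ∀ ξ : Cfsg.IrrCharacter (Subgroup.centralizer (P : Set G)),
      Cfsg.MemLocalIdeal M (Cfsg.brauerOmega P (conv (Cfsg.blockCoeff B) (Cfsg.blockCoeff B'))
        (ξ : Subgroup.centralizer (P : Set G) → ℂ)
        - Cfsg.brauerOmega P (Cfsg.blockCoeff B) (ξ : Subgroup.centralizer (P : Set G) → ℂ)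
          * Cfsg.brauerOmega P (Cfsg.blockCoeff B') (ξ : Subgroup.centralizer (P : Set G) → ℂ)) :=
    fun B B' hB hB' ξ => memLocalIdeal_brauerOmega_conv hM P hPp _ _ (hloc B hB) (hloc B' hB')
      (fun u _ g => hconj B u g) (fun u _ g => hconj B' u g)
      (fun c _ g => hconj B c g) (fun c _ g => hconj B' c g) ξ
  -- the dichotomy
  have hdich : ∀ B : Set (Cfsg.IrrCharacter G), Cfsg.IsPBlock M B →
      Cfsg.MemLocalIdeal M (Cfsg.brauerOmega P (Cfsg.blockCoeff B)
        (ξ₀ : Subgroup.centralizer (P : Set G) → ℂ))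
      ∨ Cfsg.MemLocalIdeal M (Cfsg.brauerOmega P (Cfsg.blockCoeff B)
        (ξ₀ : Subgroup.centralizer (P : Set G) → ℂ) - 1) := by
    intro B hB
    have h1 := hmul B B hB hB ξ₀
    rw [conv_blockCoeff_self] at h1
    have h2 := memLocalIdeal_neg h1
    apply memLocalIdeal_or_of_mul_local (hΛloc B hB ξ₀)
    · obtain ⟨a1, a2, ha2, ha⟩ := hΛloc B hB ξ₀
      refine ⟨a1 - a2, a2, ha2, ?_⟩
      rw [← ha]
      have := coe_ne_zero_of_notMem ha2
      push_cast
      field_simp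
    · convert h2 using 1
      ring
  -- existence
  have hex : ∃ B : Set (Cfsg.IrrCharacter G), Cfsg.IsPBlock M B ∧
      Cfsg.MemLocalIdeal M (Cfsg.brauerOmega P (Cfsg.blockCoeff B)
        (ξ₀ : Subgroup.centralizer (P : Set G) → ℂ) - 1) := by
    by_contra hcon
    push Not at hcon
    apply not_memLocalIdeal_one (M := M)
    rw [← sum_blocks_brauerOmega (M := M) P ξ₀]
    apply memLocalIdeal_sum
    intro B hB
    have hB' := (mem_blocksFinset B).mp hB
    rcases hdich B hB' with h | h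
    · exact h
    · exact absurd h (hcon B hB')
  obtain ⟨B, hB, hBΛ⟩ := hex
  have hall : ∀ (B' : Set (Cfsg.IrrCharacter G)), Cfsg.IsPBlock M B' →
      Cfsg.MemLocalIdeal M (Cfsg.brauerOmega P (Cfsg.blockCoeff B')
        (ξ₀ : Subgroup.centralizer (P : Set G) → ℂ) - 1) →
      ∀ ξ ∈ e, Cfsg.MemLocalIdeal M (Cfsg.brauerOmega P (Cfsg.blockCoeff B')
        (ξ : Subgroup.centralizer (P : Set G) → ℂ) - 1) := by
    intro B' hB' h ξ hξ
    rw [he] at hξ
    have h1 := memLocalIdeal_brauerOmega_sub hM P _ (hloc B' hB') (fun c _ g => hconj B' c g)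
      ξ ξ₀ (sameBlock_symm hξ)
    have h2 := memLocalIdeal_add h1 h
    convert h2 using 1
    ring
  refine ⟨B, ⟨⟨hPp, ξ₀, he⟩, hB, hall B hB hBΛ⟩, ?_⟩
  rintro B' ⟨-, hB', h'⟩
  by_contra hne
  have hdisj : ∀ χ ∈ B', χ ∉ B := by
    intro χ hχ hχ'
    exact hne (block_eq_of_mem hB' hB χ hχ hχ')
  have h1 := hmul B' B hB' hB ξ₀
  rw [conv_blockCoeff_of_disjoint B' B hdisj, brauerOmega_zero, zero_sub] at h1
  have h2 := memLocalIdeal_neg h1
  rw [neg_neg] at h2
  have h3 := memLocalIdeal_mul_localRing (hΛloc B hB ξ₀) (h' ξ₀ hξ₀)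
  apply not_memLocalIdeal_one (M := M)
  have h4 := memLocalIdeal_sub (memLocalIdeal_sub h2 h3) hBΛ
  convert h4 using 1
  ring


end Cfsg.Agent.S4657
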