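import Mathlib
import Cfsg.Statements.S4658
import Cfsg.Agent.Lib.helper3.SubpairBlock

set_option autoImplicit false
open Cfsg

set_option linter.style.haveILetI false

namespace Cfsg.Agent.S4658

open Cfsg.Agent.Lib.helper3.Block Cfsg.Agent.Lib.helper3.LocalM Cfsg.Agent.Lib.helper3.Irr Cfsg.Agent.Lib.helper3.CharBasic

/-- Fix a prime p and a maximal ideal M of the algebraic integers containing p. Let (Q, f) ≤ (P, e) be Brauer pairs of the finite group G and B a p-block of G. Then (P, e) is a Brauer pair of B if and only if (Q, f) is. -/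
theorem result {G : Type*} [Group G] [Fintype G] (p : ℕ) [Fact p.Prime] (M : Ideal Cfsg.AlgInt) (hM : Cfsg.IsPModular p M) (P Q : Subgroup G) (e : Set (Cfsg.IrrCharacter (Subgroup.centralizer (P : Set G)))) (f : Set (Cfsg.IrrCharacter (Subgroup.centralizer (Q : Set G)))) (hPe : Cfsg.IsBrauerPair p M P e) (hQf : Cfsg.IsBrauerPair p M Q f) (hle : Cfsg.SubpairLE p M Q f P e) (B : Set (Cfsg.IrrCharacter G)) (hB : Cfsg.IsPBlock M B) : Cfsg.IsBrauerPairOf p M B P e ↔ Cfsg.IsBrauerPairOf p M B Q f := by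
  classical
  haveI hMp := isPrime_of_isPModular hM
  have hMtop : M ≠ ⊤ := hM.2.1.ne_top
  have hnonempty : ∀ {K : Type _} [Group K] (c : Set (Cfsg.IrrCharacter K)),
      Cfsg.IsPBlock M c → ∃ χ, χ ∈ c := by
    intro K _ c hc
    obtain ⟨χ, rfl⟩ := hc
    exact ⟨χ, sameBlock_refl hMtop _⟩
  have hloc : ∀ g, Cfsg.MemLocalRing M (Cfsg.blockCoeff B g) := fun g => osima hM B hB g
  have hconj : ∀ g x : G, Cfsg.blockCoeff B (x * g * x⁻¹) = Cfsg.blockCoeff B g :=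
    fun g x => blockCoeff_conj' B g x
  -- one normal step
  have step : ∀ (Q₁ P₁ : Subgroup G)
      (f₁ : Set (Cfsg.IrrCharacter (Subgroup.centralizer (Q₁ : Set G))))
      (e₁ : Set (Cfsg.IrrCharacter (Subgroup.centralizer (P₁ : Set G)))),
      Cfsg.IsNormalSubpair p M Q₁ f₁ P₁ e₁ →
      (Cfsg.IsBrauerPairOf p M B P₁ e₁ ↔ Cfsg.IsBrauerPairOf p M B Q₁ f₁) := by
    intro Q₁ P₁ f₁ e₁ hsub
    haveI : Fintype (Subgroup.centralizer (P₁ : Set G)) := Fintype.ofFinite _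
    haveI : Fintype (Subgroup.centralizer (Q₁ : Set G)) := Fintype.ofFinite _
    obtain ⟨⟨hQp, hf⟩, ⟨hPp, he⟩, hQP, hPN, hst, hω⟩ := hsub
    have hCH : Subgroup.centralizer (P₁ : Set G) ≤ Subgroup.centralizer (Q₁ : Set G) :=
      Subgroup.centralizer_le (by exact_mod_cast hQP)
    have key : ∀ ξ ∈ e₁, ∀ θ₀ ∈ f₁, Cfsg.MemLocalIdeal M
        (Cfsg.brauerOmega P₁ (Cfsg.blockCoeff B)
          (ξ : Subgroup.centralizer (P₁ : Set G) → ℂ)
        - Cfsg.brauerOmega Q₁ (Cfsg.blockCoeff B)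
          (θ₀ : Subgroup.centralizer (Q₁ : Set G) → ℂ)) := by
      intro ξ hξ θ₀ hθ₀
      have := memLocalIdeal_brauerOmega_sub_sum hM P₁ hPp (Subgroup.centralizer (Q₁ : Set G))
        hCH f₁ hf hst ξ (hω ξ hξ) (Cfsg.blockCoeff B) hloc hconj θ₀ hθ₀
      rw [brauerOmega_eq_sum Q₁]
      exact this
    obtain ⟨ξ₁, hξ₁⟩ := hnonempty e₁ he
    obtain ⟨θ₁, hθ₁⟩ := hnonempty f₁ hf
    constructor
    · rintro ⟨-, -, h⟩
      refine ⟨⟨hQp, hf⟩, hB, ?_⟩
      intro θ hθ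
      have h1 := key ξ₁ hξ₁ θ hθ
      have h2 := memLocalIdeal_sub (h ξ₁ hξ₁) h1
      convert h2 using 1
      ring
    · rintro ⟨-, -, h⟩
      refine ⟨⟨hPp, he⟩, hB, ?_⟩
      intro ξ hξ
      have h1 := key ξ hξ θ₁ hθ₁
      have h2 := memLocalIdeal_add h1 (h θ₁ hθ₁)
      convert h2 using 1
      ring
  -- induction along the chain
  have chain : ∀ a b : Cfsg.BrauerPairIdx G,
      Relation.ReflTransGen (Cfsg.NormalSubpairRel p M) a b →
      (Cfsg.IsBrauerPairOf p M B b.1 b.2 ↔ Cfsg.IsBrauerPairOf p M B a.1 a.2) := by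
    intro a b hab
    induction hab with
    | refl => exact Iff.rfl
    | tail _ hbc ih => exact (step _ _ _ _ hbc).trans ih
  exact chain ⟨Q, f⟩ ⟨P, e⟩ hle

end Cfsg.Agent.S4658
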