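import Mathlib
import Cfsg.Statements.S0969
import Cfsg.Agent.Lib.helper3.CentralDefect5

set_option autoImplicit false
open Cfsg

namespace Cfsg.Agent.S0969

open Cfsg.Agent.Lib.helper3.Block

set_option linter.style.haveILetI false

/-- Let D be a central p-subgroup of the finite group G and χ an irreducible character with the exponent of p in χ(1) equal to the exponent of p in the index of D; fix a maximal ideal M of the algebraic integers containing p. Then D is a defect group of the block of χ, and χ g = 0 whenever the p-part of g does not lie in D. -/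
theorem result {G : Type*} [Group G] [Finite G] (p : ℕ) [Fact p.Prime] (M : Ideal Cfsg.AlgInt) (hM : Cfsg.IsPModular p M) (D : Subgroup G) (hD : IsPGroup p D) (hDZ : D ≤ Subgroup.center G) (χ : Cfsg.IrrCharacter G) (hdeg : (Cfsg.charDegree (χ : G → ℂ)).factorization p = D.index.factorization p) : Cfsg.IsDefectGroup p M (Cfsg.blockOf M (χ : G → ℂ)) D ∧ ∀ g x : G, Cfsg.IsPPart p g x → x ∉ D → (χ : G → ℂ) g = 0 := by
  classical
  letI : Fintype G := Fintype.ofFinite G
  have hp : p.Prime := Fact.out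
  refine ⟨isDefectGroup_of_central_defect hM D hD hDZ χ hdeg, ?_⟩
  intro g x hgx hxD
  apply apply_eq_zero_of_central_defect D hD hDZ χ hdeg g
  intro d s hs hds
  obtain ⟨y, hxy, hcomm, ⟨k, hk⟩, hy⟩ := hgx
  apply hxD
  obtain ⟨j, hj⟩ := hD d
  have hdc : ∀ a : G, a * (d : G) = (d : G) * a :=
    fun a => Subgroup.mem_center_iff.mp (hDZ d.2) a
  have hdic : ∀ a : G, a * (d : G)⁻¹ = (d : G)⁻¹ * a := by
    intro a
    have := hdc ((d : G)⁻¹ * a * (d : G)⁻¹)
    calc a * (d : G)⁻¹ = (d : G) * ((d : G)⁻¹ * a * (d : G)⁻¹) := by group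
      _ = (d : G)⁻¹ * a * (d : G)⁻¹ * (d : G) := (hdc _).symm
      _ = (d : G)⁻¹ * a := by group
  have hs_eq : s = (d : G)⁻¹ * x * y := by
    rw [mul_assoc, hxy, ← hds, inv_mul_cancel_left]
  have hsy : Commute s y⁻¹ := by
    have h1 : Commute s y := by
      show s * y = y * s
      rw [hs_eq]
      have e1 : x * y = y * x := hcomm
      calc (d : G)⁻¹ * x * y * y = (d : G)⁻¹ * (x * y) * y := by group
        _ = (d : G)⁻¹ * (y * x) * y := by rw [e1]
        _ = (d : G)⁻¹ * y * x * y := by group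
        _ = y * (d : G)⁻¹ * x * y := by rw [hdic y]
        _ = y * ((d : G)⁻¹ * x * y) := by group
    exact h1.inv_right
  have hu : (d : G)⁻¹ * x = s * y⁻¹ := by
    rw [hs_eq, mul_inv_cancel_right]
  have hdx : Commute ((d : G)⁻¹) x := (hdic x).symm
  have hpow : ((d : G)⁻¹ * x) ^ (p ^ (j + k)) = 1 := by
    rw [hdx.mul_pow]
    have h1 : ((d : G)⁻¹) ^ (p ^ (j + k)) = 1 := by
      rw [inv_pow, pow_add, pow_mul]
      have : (d : G) ^ p ^ j = 1 := by
        rw [← Subgroup.coe_pow, hj]; rfl
      rw [this, one_pow, inv_one]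
    have h2 : x ^ (p ^ (j + k)) = 1 := by
      rw [pow_add, mul_comm, pow_mul, ← hk, pow_orderOf_eq_one, one_pow]
    rw [h1, h2, one_mul]
  have hone := eq_one_of_ppow_of_preg hp hpow hsy hs (by rwa [orderOf_inv]) hu
  have hxd : x = (d : G) := by
    rw [inv_mul_eq_one] at hone
    exact hone.symm
  rw [hxd]
  exact d.2

end Cfsg.Agent.S0969
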