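import Mathlib
import Cfsg.Statements.S4672
import Cfsg.Agent.Lib.helper3.StableBlock2

set_option autoImplicit false
open Cfsg

set_option linter.style.haveILetI false

namespace Cfsg.Agent.S4672

open Cfsg.Agent.Lib.helper3.Block Cfsg.Agent.Lib.helper3.LocalM Cfsg.Agent.Lib.helper3.Irr Cfsg.Agent.Lib.helper3.Central

/-- Fix a prime p and a maximal ideal M of the algebraic integers containing p. Let N be a normal subgroup of the finite group G of p-power index and c a p-block of N stable under conjugation by G. Then the idempotent of c is a block idempotent of G: there is a p-block B of G whose idempotent coefficients agree with those of c on N and vanish off N; and for every defect group P of such a block B, G = NP and P ∩ N is a defect group of c. -/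
theorem result {G : Type*} [Group G] [Fintype G] (p : ℕ) [Fact p.Prime] (M : Ideal Cfsg.AlgInt) (hM : Cfsg.IsPModular p M) (N : Subgroup G) [N.Normal] (hN : ∃ k : ℕ, N.index = p ^ k) (c : Set (Cfsg.IrrCharacter N)) (hc : Cfsg.IsPBlock M c) (hst : ∀ x : G, Cfsg.StabilizesBlock N c x) : (∃ B : Set (Cfsg.IrrCharacter G), Cfsg.IsPBlock M B ∧ ∀ g : G, Cfsg.blockCoeff B g = Cfsg.subgroupBlockCoeff N c g) ∧ ∀ B : Set (Cfsg.IrrCharacter G), Cfsg.IsPBlock M B → (∀ g : G, Cfsg.blockCoeff B g = Cfsg.subgroupBlockCoeff N c g) → ∀ P : Subgroup G, Cfsg.IsDefectGroup p M B P → N ⊔ P = ⊤ ∧ Cfsg.IsDefectGroup p M c ((P ⊓ N).subgroupOf N) := by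
  classical
  haveI : Fintype N := Fintype.ofFinite N
  haveI hMp := isPrime_of_isPModular hM
  have hMtop : M ≠ ⊤ := hM.2.1.ne_top
  have hp1 := (Fact.out : p.Prime)
  have hS := conjStable_of_stabilizes N c hst
  have hblock := isPBlock_overSet hM N hN c hc hS
  have hcoef := blockCoeff_overSet N c hS
  refine ⟨⟨overSet N c, hblock, hcoef⟩, ?_⟩
  intro B hB hBc P hP
  have hBeq : B = overSet N c := by
    apply eq_of_blockCoeff_eq
    intro g
    rw [hBc, hcoef]
  obtain ⟨g, ⟨hloc, hnot, hω⟩, Q, hPQ⟩ := hP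
  -- `g ∈ N`
  have hgN : g ∈ N := by
    by_contra hg
    apply hnot
    rw [hBc]
    unfold Cfsg.subgroupBlockCoeff
    rw [dif_neg hg]
    exact memLocalIdeal_zero hMtop
  obtain ⟨g', hg'⟩ : ∃ g' : N, g' = ⟨g, hgN⟩ := ⟨_, rfl⟩
  have hgg' : (g' : G) = g := by rw [hg']
  have hcoef' : Cfsg.blockCoeff B g = Cfsg.blockCoeff c g' := by
    rw [hBc]
    unfold Cfsg.subgroupBlockCoeff
    rw [dif_pos hgN, hg']
  -- central characters
  have hcong : ∀ θ ∈ c, ¬ Cfsg.MemLocalIdeal M
      ((numClasses N g' : ℂ) * Cfsg.centralChar ((θ : Cfsg.IrrCharacter N) : N → ℂ) g') := by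
    intro θ hθ hmem
    obtain ⟨χ, hχ⟩ := exists_irr_over N (θ : N → ℂ) θ.2
    have hχB : χ ∈ B := by
      rw [hBeq]
      exact ⟨θ, hθ, hχ⟩
    apply hω χ hχB
    have h1 := centralChar_eq_of_over N χ θ hχ g'
    rw [hgg'] at h1
    rw [h1]
    have h2 := memLocalIdeal_inducedCentralChar_sub_numClasses N c hc hS θ hθ g'
    rw [hgg'] at h2
    have h3 := memLocalIdeal_add h2 hmem
    rw [sub_add_cancel] at h3
    exact h3
  obtain ⟨ξ, hcdef⟩ := id hc
  have hξ : ξ ∈ c := by
    rw [hcdef]
    exact sameBlock_refl hMtop _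
  -- the number of classes is prime to `p`
  have hpt : ¬ p ∣ numClasses N g' := by
    intro hdvd
    apply hcong ξ hξ
    have h1 : Cfsg.MemLocalIdeal M ((numClasses N g' : ℂ)) := by
      have := memLocalIdeal_of_mem ((natCast_mem_iff hM (numClasses N g')).mpr hdvd) hMtop
      push_cast at this
      exact this
    rw [mul_comm]
    exact memLocalIdeal_mul_localRing
      (memLocalRing_of_integral (isIntegral_centralChar ξ.2 g')) h1
  obtain ⟨k, hk⟩ := hN
  have hmul := numClasses_mul_relIndex N g'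
  rw [hgg', hk] at hmul
  have ht1 : numClasses N g' = 1 := by
    have hdvd : numClasses N g' ∣ p ^ k := ⟨_, hmul.symm⟩
    obtain ⟨j, -, hj⟩ := (Nat.dvd_prime_pow hp1).mp hdvd
    rcases Nat.eq_zero_or_pos j with h0 | hpos
    · rw [hj, h0, pow_zero]
    · exfalso
      apply hpt
      rw [hj]
      exact dvd_pow_self p hpos.ne'
  rw [ht1, one_mul] at hmul
  -- the defect class of `c`
  have hdefc : Cfsg.IsDefectClass M c g' := by
    refine ⟨?_, ?_, ?_⟩
    · rw [← hcoef']
      exact hloc
    · rw [← hcoef']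
      exact hnot
    · intro θ hθ hmem
      apply hcong θ hθ
      rw [ht1, Nat.cast_one, one_mul]
      exact hmem
  -- counting
  have hPC : P ≤ Subgroup.centralizer ({g} : Set G) := by
    rw [hPQ]
    exact Subgroup.map_subtype_le _
  have hcardP : Nat.card P = p ^ (Nat.card (Subgroup.centralizer ({g} : Set G))).factorization p := by
    rw [hPQ, Subgroup.card_map_of_injective (Subgroup.subtype_injective _)]
    exact Q.card_eq_multiplicity
  obtain ⟨hsup, hcardPN⟩ := sylow_count N (Subgroup.centralizer ({g} : Set G)) P k hk hmul hPC hcardP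
  refine ⟨hsup, g', hdefc, ?_⟩
  apply exists_sylow_centralizer N g' P
  · rw [hgg']
    exact hPC
  · rw [hgg']
    exact hcardPN

end Cfsg.Agent.S4672
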