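import Mathlib
import Cfsg.Statements.S4656
import Cfsg.Agent.Lib.helper3.AutBlock3

set_option autoImplicit false
open Cfsg

set_option linter.style.haveILetI false

namespace Cfsg.Agent.S4656

open Cfsg.Agent.Lib.helper3.Block Cfsg.Agent.Lib.helper3.LocalM Cfsg.Agent.Lib.helper3.Irr

/-- Fix a prime p and a maximal ideal M of the algebraic integers containing p. Let (P, e) be a Brauer pair of the finite group G and Q a normal subgroup of P. Then there is exactly one p-block f of C_G(Q) that is stable under conjugation by P and such that e occurs in the Brauer-map image at P of the idempotent of f; that is, exactly one f with (Q, f) normally below (P, e). -/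
theorem result {G : Type*} [Group G] [Fintype G] (p : ℕ) [Fact p.Prime] (M : Ideal Cfsg.AlgInt) (hM : Cfsg.IsPModular p M) (P Q : Subgroup G) (e : Set (Cfsg.IrrCharacter (Subgroup.centralizer (P : Set G)))) (hPe : Cfsg.IsBrauerPair p M P e) (hQP : Q ≤ P) (hPN : P ≤ Subgroup.normalizer (Q : Set G)) : ∃! f : Set (Cfsg.IrrCharacter (Subgroup.centralizer (Q : Set G))), Cfsg.IsNormalSubpair p M Q f P e := by
  classical
  obtain ⟨hPp, he⟩ := id hPe
  have hQp : IsPGroup p Q := hPp.to_le hQP
  have hCH : Subgroup.centralizer (P : Set G) ≤ Subgroup.centralizer (Q : Set G) :=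
    Subgroup.centralizer_le (by exact_mod_cast hQP)
  have hPH : P ≤ Subgroup.normalizer ((Subgroup.centralizer (Q : Set G) : Subgroup G) : Set G) := by
    intro u hu
    have hu' := hPN hu
    rw [Subgroup.mem_normalizer_iff] at hu' ⊢
    have key : ∀ (v : G), (∀ q, q ∈ Q ↔ v * q * v⁻¹ ∈ Q) → ∀ h,
        h ∈ Subgroup.centralizer (Q : Set G) → v * h * v⁻¹ ∈ Subgroup.centralizer (Q : Set G) := by
      intro v hv h hh
      rw [Subgroup.mem_centralizer_iff] at hh ⊢
      intro q hq
      have hq' : v⁻¹ * q * v ∈ Q := by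
        rw [hv]
        have : v * (v⁻¹ * q * v) * v⁻¹ = q := by group
        rw [this]
        exact hq
      have h1 := hh _ hq'
      calc q * (v * h * v⁻¹) = v * ((v⁻¹ * q * v) * h) * v⁻¹ := by group
        _ = v * (h * (v⁻¹ * q * v)) * v⁻¹ := by rw [h1]
        _ = v * h * v⁻¹ * q := by group
    intro h
    constructor
    · exact key u hu' h
    · intro hh
      have hinv : ∀ q, q ∈ Q ↔ u⁻¹ * q * u⁻¹⁻¹ ∈ Q := by
        intro q
        rw [hu' (u⁻¹ * q * u⁻¹⁻¹)]
        have : u * (u⁻¹ * q * u⁻¹⁻¹) * u⁻¹ = q := by group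
        rw [this]
      have := key u⁻¹ hinv _ hh
      have e : u⁻¹ * (u * h * u⁻¹) * u⁻¹⁻¹ = h := by group
      rwa [e] at this
  obtain ⟨f, ⟨hf, hst, hω⟩, huniq⟩ := exists_unique_stable_block hM P hPp
    (Subgroup.centralizer (Q : Set G)) hCH hPH e he
  refine ⟨f, ⟨⟨hQp, hf⟩, hPe, hQP, hPN, hst, hω⟩, ?_⟩
  rintro f' ⟨⟨-, hf'⟩, -, -, -, hst', hω'⟩
  exact huniq f' ⟨hf', hst', hω'⟩

end Cfsg.Agent.S4656
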