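import Mathlib
import Cfsg.Statements.S4660
import Cfsg.Agent.Lib.helper3.SP5
import Cfsg.Agent.Lib.helper3.QuotDefect3
import Cfsg.Agent.S4659

set_option autoImplicit false
open Cfsg

namespace Cfsg.Agent.S4660

set_option linter.style.haveILetI false

open Cfsg Cfsg.Agent.Lib.helper3.Block Cfsg.Agent.Lib.helper3.LocalM

/-- Fix a prime p and a maximal ideal M of the algebraic integers containing p. Let (P, e) be a maximal Brauer pair of the p-block B of the finite group G and (Q, f) any Brauer pair of B. Then some conjugate of (Q, f) lies below (P, e): there is x in G such that (x Q x⁻¹, conjugate of f by x) ≤ (P, e). -/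
theorem result {G : Type*} [Group G] [Fintype G] (p : ℕ) [Fact p.Prime] (M : Ideal Cfsg.AlgInt) (hM : Cfsg.IsPModular p M) (B : Set (Cfsg.IrrCharacter G)) (P Q : Subgroup G) (e : Set (Cfsg.IrrCharacter (Subgroup.centralizer (P : Set G)))) (f : Set (Cfsg.IrrCharacter (Subgroup.centralizer (Q : Set G)))) (hmax : Cfsg.IsMaximalBrauerPair p M B P e) (hQf : Cfsg.IsBrauerPairOf p M B Q f) : ∃ x : G, Cfsg.SubpairLE p M (Q.map (MulAut.conj x).toMonoidHom) (Cfsg.conjBlock Q x f) P e := by
  classical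
  haveI hMp := isPrime_of_isPModular hM
  obtain ⟨hPe, -⟩ := id hmax
  have hB : IsPBlock M B := hPe.2.1
  obtain ⟨b, hb, hle⟩ := exists_maximal_above B _ ⟨Q, f⟩ rfl hQf
  have hPD := Cfsg.Agent.S4659.result p M hM B P e hmax
  have hbD := Cfsg.Agent.S4659.result p M hM B b.1 b.2 hb
  obtain ⟨y, hy⟩ := defectGroup_conj_eq hM hB hPD hbD
  have hfst : (conjIdx y b).1 = P := hy
  obtain ⟨e₃, he₃⟩ := exists_snd_of_fst_eq _ P hfst
  have hb3 : IsBrauerPairOf p M B P e₃ := by
    have h1 : IsBrauerPairOf p M B (conjIdx y b).1 (conjIdx y b).2 :=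
      isBrauerPairOf_conj B b.1 b.2 y hb.1
    rw [he₃] at h1
    exact h1
  obtain ⟨n, hn, hconj⟩ := conj_of_isBrauerPairOf_defectGroup hM B P hPD e₃ e hb3 hPe
  refine ⟨n * y, ?_⟩
  have h2 := reflTransGen_conjIdx (M := M) (p := p) n (reflTransGen_conjIdx y hle)
  rw [he₃, hconj, conjIdx_mul] at h2
  exact h2

end Cfsg.Agent.S4660
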