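import Cfsg.Statements.S0071
import Mathlib
import Cfsg.Agent.Lib.Lead.LocalControl

set_option autoImplicit false
set_option linter.style.haveILetI false
open Cfsg

namespace Cfsg.Agent.S0071

open Cfsg.Agent.Lib.Lead.Frobenius Cfsg.Agent.Lib.Lead.LocalControl

/-- a normal complement of a Sylow `p`-subgroup contains all `p'`-elements and meets `P` trivially -/
theorem centralizes_of_complement {G : Type*} [Group G] [Finite G] {p : ℕ} [Fact p.Prime] (P : Sylow p G)
    (N : Subgroup G) (hN : N.Normal) (hc : N.IsComplement' (P : Subgroup G))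
    (Q : Subgroup G) (hQ : Q ≤ (P : Subgroup G)) (g : G) (hg : g ∈ Subgroup.normalizer (Q : Set G))
    (hgp : Nat.Coprime (orderOf g) p) : g ∈ Subgroup.centralizer (Q : Set G) := by
  haveI := hN
  have hq : IsPGroup p (G ⧸ N) := by
    obtain ⟨k, hk⟩ := IsPGroup.iff_card.mp P.isPGroup'
    apply IsPGroup.of_card (n := k)
    rw [← Subgroup.index_eq_card]
    have h1 := hc.card_mul_card
    have h2 := N.card_mul_index
    rw [← h1] at h2
    rw [← hk]
    exact Nat.eq_of_mul_eq_mul_left Nat.card_pos h2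
  have hgN : g ∈ N := mem_of_coprime_of_isPGroup_quotient N hq hgp
  rw [Subgroup.mem_centralizer_iff]
  intro q hqQ
  have h1 : g * q * g⁻¹ * q⁻¹ ∈ N := by
    have : g * q * g⁻¹ * q⁻¹ = g * (q * g⁻¹ * q⁻¹) := by group
    rw [this]
    exact N.mul_mem hgN (hN.conj_mem _ (N.inv_mem hgN) q)
  have h2 : g * q * g⁻¹ * q⁻¹ ∈ (P : Subgroup G) := by
    apply hQ
    exact Q.mul_mem ((Subgroup.mem_normalizer_iff.1 hg q).1 hqQ) (Q.inv_mem hqQ)
  have h3 : g * q * g⁻¹ * q⁻¹ = 1 := by
    have := hc.disjoint.le_bot ⟨h1, h2⟩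
    exact Subgroup.mem_bot.1 this
  calc q * g = (g * q * g⁻¹ * q⁻¹)⁻¹ * (g * q) := by group
    _ = g * q := by rw [h3]; group

/-- The Frobenius normal p-complement theorem. -/
theorem result {G : Type*} [Group G] [Finite G] {p : ℕ} [Fact p.Prime] (P : Sylow p G) : (∃ N : Subgroup G, N.Normal ∧ N.IsComplement' (P : Subgroup G)) ↔ ∀ Q : Subgroup G, Q ≤ (P : Subgroup G) → ∀ g ∈ Subgroup.normalizer (Q : Set G), Nat.Coprime (orderOf g) p → g ∈ Subgroup.centralizer (Q : Set G) := by
  constructor
  · rintro ⟨N, hN, hc⟩ Q hQ g hg hgp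
    exact centralizes_of_complement P N hN hc Q hQ g hg hgp
  · intro h
    have hctl := controls_of_p'_centralize P h
    obtain ⟨P', N, hN, hc⟩ := hasNormalPComplement_of_controls P hctl
    refine ⟨N, hN, ?_⟩
    -- pass from `P'` to `P` by cardinality
    have h1 := hc.card_mul_card
    apply Subgroup.isComplement'_of_coprime
    · rw [← h1]
      congr 1
      rw [P.card_eq_multiplicity, P'.card_eq_multiplicity]
    · have h2 : (P' : Subgroup G).index = Nat.card ↥N := by
        have h3 := (P' : Subgroup G).card_mul_index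
        rw [← h1, mul_comm] at h3
        exact Nat.eq_of_mul_eq_mul_right Nat.card_pos h3
      obtain ⟨k, hk⟩ := IsPGroup.iff_card.mp P.isPGroup'
      rw [hk, ← h2]
      apply Nat.Coprime.pow_right
      exact (Nat.Coprime.symm ((Nat.Prime.coprime_iff_not_dvd Fact.out).mpr P'.not_dvd_index))

end Cfsg.Agent.S0071
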