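import Cfsg.Statements.S0086
import Mathlib
import Cfsg.Agent.H1.Basic

set_option autoImplicit false
open Cfsg

namespace Cfsg.Agent.S0086

/-- A normal complement to a Sylow p-subgroup is exactly the set of elements of order prime to p. -/
theorem result {G : Type*} [Group G] [Finite G] {p : ℕ} [Fact p.Prime] (P : Sylow p G) (N : Subgroup G) [N.Normal] (hN : N.IsComplement' (P : Subgroup G)) (x : G) : x ∈ N ↔ Nat.Coprime (orderOf x) p := by
  have hp : p.Prime := Fact.out
  have hcard : Nat.card N = (P : Subgroup G).index := by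
    have h1 := hN.card_mul_card
    have h2 := (P : Subgroup G).card_mul_index
    have hpos : 0 < Nat.card (P : Subgroup G) := Nat.card_pos
    rw [← h2, mul_comm] at h1
    exact Nat.eq_of_mul_eq_mul_left hpos h1
  constructor
  · intro hx
    have h1 : orderOf x ∣ Nat.card N := by
      have := orderOf_dvd_natCard (⟨x, hx⟩ : N)
      rwa [Subgroup.orderOf_mk] at this
    rw [hcard] at h1
    have h2 : Nat.Coprime (P : Subgroup G).index p := by
      rw [Nat.coprime_comm, hp.coprime_iff_not_dvd]
      exact P.not_dvd_index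
    exact Nat.Coprime.coprime_dvd_left h1 h2
  · intro hx
    -- G/N is a p-group
    have hindex : N.index = Nat.card (P : Subgroup G) := by
      have h1 := hN.card_mul_card
      have h2 := N.card_mul_index
      have hpos : 0 < Nat.card N := Nat.card_pos
      rw [← h2] at h1
      exact (Nat.eq_of_mul_eq_mul_left hpos h1).symm
    obtain ⟨k, hk⟩ := (IsPGroup.iff_card.mp P.isPGroup')
    have h3 : (QuotientGroup.mk' N x) ^ (p ^ k) = 1 := by
      have : Nat.card (G ⧸ N) = p ^ k := by
        rw [← hk, ← hindex]; rfl
      rw [← this]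
      exact pow_card_eq_one'
    have h4 : (QuotientGroup.mk' N x) ^ (orderOf x) = 1 := by
      rw [← map_pow, pow_orderOf_eq_one, map_one]
    have h5 : orderOf (QuotientGroup.mk' N x) ∣ Nat.gcd (orderOf x) (p ^ k) :=
      Nat.dvd_gcd (orderOf_dvd_of_pow_eq_one h4) (orderOf_dvd_of_pow_eq_one h3)
    have h6 : Nat.gcd (orderOf x) (p ^ k) = 1 := Nat.Coprime.pow_right k hx
    rw [h6, Nat.dvd_one, orderOf_eq_one_iff] at h5
    exact (QuotientGroup.eq_one_iff x).mp h5

end Cfsg.Agent.S0086
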