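import Cfsg.Statements.S4866
import Mathlib
import Cfsg.Agent.Lib.Helper4.OrbitCount
import Cfsg.Agent.Lib.helper3.Brauer
import Cfsg.Agent.Lib.helper3.Irr12
import Cfsg.Agent.Lib.helper3.Irr13

set_option autoImplicit false
open Cfsg

namespace Cfsg.Agent.S4866

open Cfsg Module Cfsg.Agent.Lib.helper3.IndFun Cfsg.Agent.Lib.helper3.CharBasic
open Cfsg.Agent.Lib.helper3.Irr Cfsg.Agent.Lib.Helper4.OrbitCount
open scoped ComplexConjugate

section actions

variable {G : Type*} [Group G] [Finite G] (K : Subgroup G) [hKn : K.Normal]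

/-- the action of `G` on the irreducible characters of the normal subgroup `K` -/
noncomputable def aI (g : G) (θ : IrrCharacter K) : IrrCharacter K :=
  ⟨conjFun K (θ : K → ℂ) g⁻¹, isIrrCharacter_conjFun K θ.2 g⁻¹⟩

theorem aI_apply (g : G) (θ : IrrCharacter K) (k : K) :
    (aI K g θ : K → ℂ) k = (θ : K → ℂ) ⟨g⁻¹ * k * g, by
      have := hKn.conj_mem k k.2 g⁻¹
      rwa [inv_inv] at this⟩ := by
  unfold aI conjFun
  simp only [inv_inv]

theorem aI_apply' (g : G) (θ : IrrCharacter K) (k : K) :
    (aI K g θ : K → ℂ) ⟨g * k * g⁻¹, hKn.conj_mem k k.2 g⟩ = (θ : K → ℂ) k := by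
  rw [aI_apply]
  apply congrArg (θ : K → ℂ)
  apply Subtype.ext
  simp only
  group

theorem aI_one (θ : IrrCharacter K) : aI K 1 θ = θ := by
  apply Subtype.ext
  funext k
  rw [aI_apply]
  apply congrArg (θ : K → ℂ)
  apply Subtype.ext
  simp

theorem aI_mul (g h : G) (θ : IrrCharacter K) : aI K (g * h) θ = aI K g (aI K h θ) := by
  apply Subtype.ext
  funext k
  rw [aI_apply, aI_apply, aI_apply]
  apply congrArg (θ : K → ℂ)
  apply Subtype.ext
  simp only
  group

theorem aI_of_mem {x : G} (hx : x ∈ K) (θ : IrrCharacter K) : aI K x θ = θ := by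
  apply Subtype.ext
  funext k
  rw [aI_apply]
  have hcf := isClassFunction_of_isCharacter (isCharacter_of_isIrrCharacter θ.2)
  have := hcf k (⟨x, hx⟩⁻¹ : K)
  rw [← this]
  apply congrArg (θ : K → ℂ)
  apply Subtype.ext
  simp

theorem aI_iterate (g : G) (n : ℕ) (θ : IrrCharacter K) : (aI K g)^[n] θ = aI K (g ^ n) θ := by
  induction n generalizing θ with
  | zero => rw [Function.iterate_zero, id, pow_zero, aI_one]
  | succ n ih =>
    rw [Function.iterate_succ_apply, ih, pow_succ, aI_mul]

/-- complex conjugation on irreducible characters -/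
noncomputable def cI (θ : IrrCharacter K) : IrrCharacter K :=
  ⟨fun k => conj ((θ : K → ℂ) k), isIrrCharacter_conj θ.2⟩

theorem cI_apply (θ : IrrCharacter K) (k : K) : (cI K θ : K → ℂ) k = conj ((θ : K → ℂ) k) := rfl

theorem cI_involutive : Function.Involutive (cI K) := by
  intro θ
  apply Subtype.ext
  funext k
  rw [cI_apply, cI_apply, Complex.conj_conj]

theorem cI_aI (g : G) (θ : IrrCharacter K) : cI K (aI K g θ) = aI K g (cI K θ) := by
  apply Subtype.ext
  funext k
  rw [cI_apply, aI_apply, aI_apply, cI_apply]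

theorem cI_eq_iff (θ : IrrCharacter K) : cI K θ = θ ↔ ∀ k : K, ((θ : K → ℂ) k).im = 0 := by
  constructor
  · intro h k
    have := congrFun (congrArg Subtype.val h) k
    rw [cI_apply] at this
    exact Complex.conj_eq_iff_im.mp this
  · intro h
    apply Subtype.ext
    funext k
    rw [cI_apply]
    exact Complex.conj_eq_iff_im.mpr (h k)

/-- the action of `G` on the classes of `K` -/
noncomputable def aC (g : G) : Equiv.Perm (ConjClasses K) :=
  conjClassesPerm (MulAut.conjNormal g : K ≃* K)

theorem aC_mk (g : G) (k : K) :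
    aC K g (ConjClasses.mk k) = ConjClasses.mk ⟨g * k * g⁻¹, hKn.conj_mem k k.2 g⟩ := by
  unfold aC
  rw [conjClassesPerm_mk]
  congr 1

theorem aC_one (C : ConjClasses K) : aC K 1 C = C := by
  obtain ⟨k, rfl⟩ := ConjClasses.mk_surjective C
  rw [aC_mk]
  congr 1
  apply Subtype.ext
  simp

theorem aC_mul (g h : G) (C : ConjClasses K) : aC K (g * h) C = aC K g (aC K h C) := by
  obtain ⟨k, rfl⟩ := ConjClasses.mk_surjective C
  rw [aC_mk, aC_mk, aC_mk]
  congr 1
  apply Subtype.ext
  simp only
  group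

theorem aC_of_mem {x : G} (hx : x ∈ K) (C : ConjClasses K) : aC K x C = C := by
  obtain ⟨k, rfl⟩ := ConjClasses.mk_surjective C
  rw [aC_mk, ConjClasses.mk_eq_mk_iff_isConj, isConj_comm, isConj_iff]
  exact ⟨⟨x, hx⟩, Subtype.ext rfl⟩

theorem aC_iterate (g : G) (n : ℕ) (C : ConjClasses K) : (aC K g)^[n] C = aC K (g ^ n) C := by
  induction n generalizing C with
  | zero => rw [Function.iterate_zero, id, pow_zero, aC_one]
  | succ n ih =>
    rw [Function.iterate_succ_apply, ih, pow_succ, aC_mul]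

/-- inversion on conjugacy classes -/
noncomputable def cC : ConjClasses K → ConjClasses K :=
  Quotient.map (fun k : K => k⁻¹) (by
    intro a b hab
    obtain ⟨c, hc⟩ := isConj_iff.mp hab
    exact isConj_iff.mpr ⟨c, by rw [← hc]; group⟩)

theorem cC_mk (k : K) : cC K (ConjClasses.mk k) = ConjClasses.mk k⁻¹ := rfl

theorem cC_involutive : Function.Involutive (cC K) := by
  intro C
  obtain ⟨k, rfl⟩ := ConjClasses.mk_surjective C
  rw [cC_mk, cC_mk, inv_inv]

theorem cC_aC (g : G) (C : ConjClasses K) : cC K (aC K g C) = aC K g (cC K C) := by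
  obtain ⟨k, rfl⟩ := ConjClasses.mk_surjective C
  rw [aC_mk, cC_mk, cC_mk, aC_mk]
  congr 1
  apply Subtype.ext
  simp only [Subgroup.coe_inv, InvMemClass.coe_inv]
  group

theorem cC_mk_eq_iff (k : K) : cC K (ConjClasses.mk k) = ConjClasses.mk k ↔ IsConj k k⁻¹ := by
  rw [cC_mk, ConjClasses.mk_eq_mk_iff_isConj, isConj_comm]

/-- Brauer's permutation lemma for `g` composed with conjugation / inversion -/
theorem card_fixed_eq (g : G) :
    Nat.card {θ : IrrCharacter K // cI K (aI K g θ) = θ}
      = Nat.card {C : ConjClasses K // cC K (aC K g C) = C} := by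
  have key := brauer_permutation (G := K) (fun θ => cI K (aI K g θ))
    ((cC_involutive K).toPerm * aC K g) (by
      intro χ k k' hk
      rw [Equiv.Perm.mul_apply, aC_mk] at hk
      have hk2 : ConjClasses.mk k'
          = ConjClasses.mk (⟨g * k * g⁻¹, hKn.conj_mem k k.2 g⟩ : K)⁻¹ := hk
      have hcf := isClassFunction_of_isCharacter
        (isCharacter_of_isIrrCharacter (cI K (aI K g χ)).2)
      rw [(isClassFunction_iff_isConj.mp hcf) _ _ (ConjClasses.mk_eq_mk_iff_isConj.mp hk2)]
      rw [cI_apply, isCharacter_apply_inv (isCharacter_of_isIrrCharacter (aI K g χ).2),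
        Complex.conj_conj, aI_apply'])
  exact key

end actions

/-- Let K be a normal subgroup of odd index in the finite group G. Then G has as many orbits on the real-valued irreducible complex characters of K (acting by conjugation) as it has orbits on the conjugacy classes of K that are real in K; equivalently, the number of G-orbits of real-valued irreducible characters of K equals the number of G-conjugacy classes of elements of K that are conjugate in K to their inverses. -/
theorem result {G : Type*} [Group G] [Finite G] (K : Subgroup G) [K.Normal] (hodd : Odd K.index) : Nat.card (Quot (fun θ η : {θ : Cfsg.IrrCharacter ↥K // (∀ k : ↥K, ((θ : ↥K → ℂ) k).im = 0)} => ∃ g : G, ∀ k k' : ↥K, (k' : G) = g * (k : G) * g⁻¹ → (η.1 : ↥K → ℂ) k' = (θ.1 : ↥K → ℂ) k)) = Nat.card (Quot (fun x y : {x : ↥K // IsConj x x⁻¹} => ∃ g : G, (y.1 : G) = g * x.1 * g⁻¹)) := by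
  classical
  letI : Fintype G := Fintype.ofFinite G
  have hGpos : 0 < Nat.card G := Nat.card_pos
  -- the action on real characters
  have hrealX : ∀ (g : G) (θ : IrrCharacter K), (∀ k : K, ((θ : K → ℂ) k).im = 0) →
      ∀ k : K, ((aI K g θ : K → ℂ) k).im = 0 := by
    intro g θ hθ
    rw [← cI_eq_iff, cI_aI, (cI_eq_iff K θ).mpr hθ]
  let actX : G → {θ : IrrCharacter K // ∀ k : K, ((θ : K → ℂ) k).im = 0} →
      {θ : IrrCharacter K // ∀ k : K, ((θ : K → ℂ) k).im = 0} :=
    fun g θ => ⟨aI K g θ.1, hrealX g θ.1 θ.2⟩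
  have hactX1 : ∀ θ, actX 1 θ = θ := fun θ => Subtype.ext (aI_one K θ.1)
  have hactXmul : ∀ g h θ, actX (g * h) θ = actX g (actX h θ) :=
    fun g h θ => Subtype.ext (aI_mul K g h θ.1)
  have hL : Nat.card (Quot (fun θ η : {θ : Cfsg.IrrCharacter ↥K //
      (∀ k : ↥K, ((θ : ↥K → ℂ) k).im = 0)} => ∃ g : G, ∀ k k' : ↥K, (k' : G) = g * (k : G) * g⁻¹ →
        (η.1 : ↥K → ℂ) k' = (θ.1 : ↥K → ℂ) k))
      = Nat.card (Quot (fun θ η : {θ : IrrCharacter K // ∀ k : K, ((θ : K → ℂ) k).im = 0} =>
        ∃ g : G, η = actX g θ)) := by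
    apply Nat.card_congr
    apply Quot.congrRight
    intro θ η
    constructor
    · rintro ⟨g, hg⟩
      refine ⟨g, ?_⟩
      apply Subtype.ext
      apply Subtype.ext
      funext k'
      show (η.1 : K → ℂ) k' = (aI K g θ.1 : K → ℂ) k'
      rw [aI_apply]
      apply hg
      simp only
      group
    · rintro ⟨g, rfl⟩
      refine ⟨g, ?_⟩
      intro k k' hk
      have hk' : k' = ⟨g * k * g⁻¹, (inferInstance : K.Normal).conj_mem k k.2 g⟩ :=
        Subtype.ext hk
      rw [hk']
      exact aI_apply' K g θ.1 k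
  -- the action on real classes
  let actC : G → {C : ConjClasses K // cC K C = C} → {C : ConjClasses K // cC K C = C} :=
    fun g C => ⟨aC K g C.1, by rw [cC_aC, C.2]⟩
  have hactC1 : ∀ C, actC 1 C = C := fun C => Subtype.ext (aC_one K C.1)
  have hactCmul : ∀ g h C, actC (g * h) C = actC g (actC h C) :=
    fun g h C => Subtype.ext (aC_mul K g h C.1)
  have hR : Nat.card (Quot (fun x y : {x : ↥K // IsConj x x⁻¹} =>
      ∃ g : G, (y.1 : G) = g * x.1 * g⁻¹))
      = Nat.card (Quot (fun C D : {C : ConjClasses K // cC K C = C} =>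
        ∃ g : G, D = actC g C)) := by
    let f : {x : ↥K // IsConj x x⁻¹} → {C : ConjClasses K // cC K C = C} :=
      fun x => ⟨ConjClasses.mk x.1, (cC_mk_eq_iff K x.1).mpr x.2⟩
    have hf : ∀ x y : {x : ↥K // IsConj x x⁻¹}, (∃ g : G, (y.1 : G) = g * x.1 * g⁻¹) →
        ∃ g : G, f y = actC g (f x) := by
      rintro x y ⟨g, hg⟩
      refine ⟨g, ?_⟩
      apply Subtype.ext
      show ConjClasses.mk y.1 = aC K g (ConjClasses.mk x.1)
      rw [aC_mk]
      congr 1
      exact Subtype.ext hg
    apply Nat.card_congr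
    apply Equiv.ofBijective (Quot.map f hf)
    constructor
    · intro a b
      induction a using Quot.ind with | _ x => ?_
      induction b using Quot.ind with | _ y => ?_
      intro hab
      have h1 : Quot.mk (fun C D : {C : ConjClasses K // cC K C = C} => ∃ g : G, D = actC g C)
          (f x) = Quot.mk _ (f y) := hab
      rw [Quot.eq, (equivalence_orbit actC hactC1 hactCmul).eqvGen_iff] at h1
      obtain ⟨g, hg⟩ := h1
      have h2 : ConjClasses.mk y.1 = aC K g (ConjClasses.mk x.1) := congrArg Subtype.val hg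
      rw [aC_mk, ConjClasses.mk_eq_mk_iff_isConj, isConj_comm, isConj_iff] at h2
      obtain ⟨c, hc⟩ := h2
      apply Quot.sound
      refine ⟨(c : G) * g, ?_⟩
      have := congrArg Subtype.val hc
      simp only [Subgroup.coe_mul, InvMemClass.coe_inv] at this
      rw [← this]
      group
    · intro b
      induction b using Quot.ind with | _ C => ?_
      obtain ⟨k, hk⟩ := ConjClasses.mk_surjective C.1
      have hkreal : IsConj k k⁻¹ := by
        rw [← cC_mk_eq_iff, hk]
        exact C.2
      refine ⟨Quot.mk _ ⟨k, hkreal⟩, ?_⟩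
      show Quot.mk _ (f ⟨k, hkreal⟩) = Quot.mk _ C
      congr 1
      exact Subtype.ext hk
  rw [hL, hR]
  have hX := card_quot_mul_card actX hactX1 hactXmul
  have hC := card_quot_mul_card actC hactC1 hactCmul
  -- fixed points
  have hpow : ∀ g : G, g ^ K.index ∈ K := fun g => K.pow_index_mem g
  have hfixX : ∀ g : G, Nat.card {θ : {θ : IrrCharacter K // ∀ k : K, ((θ : K → ℂ) k).im = 0} //
      actX g θ = θ} = Nat.card {θ : IrrCharacter K // cI K (aI K g θ) = θ} := by
    intro g
    have hiff : ∀ θ : IrrCharacter K, cI K (aI K g θ) = θ ↔ cI K θ = θ ∧ aI K g θ = θ :=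
      fun θ => fixed_comp_iff (cI K) (aI K g) (cI_involutive K) (cI_aI K g) K.index hodd
        (fun θ => by rw [aI_iterate, aI_of_mem K (hpow g)]) θ
    apply Nat.card_congr
    refine ⟨fun t => ⟨t.1.1, (hiff _).mpr ⟨(cI_eq_iff K _).mpr t.1.2, congrArg Subtype.val t.2⟩⟩,
      fun s => ⟨⟨s.1, (cI_eq_iff K _).mp ((hiff _).mp s.2).1⟩, Subtype.ext ((hiff _).mp s.2).2⟩,
      fun t => rfl, fun s => rfl⟩
  have hfixC : ∀ g : G, Nat.card {C : {C : ConjClasses K // cC K C = C} // actC g C = C}
      = Nat.card {C : ConjClasses K // cC K (aC K g C) = C} := by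
    intro g
    have hiff : ∀ C : ConjClasses K, cC K (aC K g C) = C ↔ cC K C = C ∧ aC K g C = C :=
      fun C => fixed_comp_iff (cC K) (aC K g) (cC_involutive K) (cC_aC K g) K.index hodd
        (fun C => by rw [aC_iterate, aC_of_mem K (hpow g)]) C
    apply Nat.card_congr
    refine ⟨fun t => ⟨t.1.1, (hiff _).mpr ⟨t.1.2, congrArg Subtype.val t.2⟩⟩,
      fun s => ⟨⟨s.1, ((hiff _).mp s.2).1⟩, Subtype.ext ((hiff _).mp s.2).2⟩,
      fun t => rfl, fun s => rfl⟩
  have hsum : ∑ g : G, Nat.card {θ : {θ : IrrCharacter K // ∀ k : K, ((θ : K → ℂ) k).im = 0} //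
      actX g θ = θ} = ∑ g : G, Nat.card {C : {C : ConjClasses K // cC K C = C} // actC g C = C} := by
    apply Finset.sum_congr rfl
    intro g _
    rw [hfixX g, hfixC g, card_fixed_eq K g]
  rw [← hsum, ← hX] at hC
  exact (Nat.eq_of_mul_eq_mul_right hGpos hC).symm

end Cfsg.Agent.S4866
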