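import Mathlib
import Cfsg.Statements.S4062
import Cfsg.Agent.S0043

set_option autoImplicit false
open Cfsg

namespace Cfsg.Agent.S4062


section Part0

/-- elements of the same order are conjugate -/
def SOC (G : Type*) [Group G] : Prop := ∀ x y : G, orderOf x = orderOf y → IsConj x y

/-- a nontrivial normal abelian subgroup of prime exponent -/
structure Setup {G : Type*} [Group G] (M : Subgroup G) (r : ℕ) : Prop where
  ne_bot : M ≠ ⊥
  prime : r.Prime
  comm : ∀ a ∈ M, ∀ b ∈ M, a * b = b * a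
  exp : ∀ a ∈ M, a ^ r = 1

section basic

variable {G : Type*} [Group G] [Finite G]

theorem exists_setup [Group.IsSolvable G] [Nontrivial G] :
    ∃ (M : Subgroup G) (_ : M.Normal) (r : ℕ), Setup M r := by
  classical
  let P : ℕ → Prop := fun n => ∃ N : Subgroup G, N.Normal ∧ N ≠ ⊥ ∧ Nat.card N = n
  have hP : ∃ n, P n := ⟨_, ⊤, inferInstance, top_ne_bot, rfl⟩
  obtain ⟨N, hNn, hN, hcard⟩ := Nat.find_spec hP
  have := hNn
  have hmin : ∀ M : Subgroup G, M.Normal → M ≤ N → M = ⊥ ∨ M = N := by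
    intro M hM hle
    by_cases hb : M = ⊥
    · exact Or.inl hb
    · right
      have h1 : Nat.find hP ≤ Nat.card M := Nat.find_min' hP ⟨M, hM, hb, rfl⟩
      rw [← hcard] at h1
      exact Subgroup.eq_of_le_of_card_ge hle h1
  obtain ⟨hcomm, p, hp, hexp⟩ := Cfsg.Agent.S0043.result N hN hmin
  refine ⟨N, hNn, p, hN, hp, ?_, hexp⟩
  intro a ha b hb
  have := hcomm.is_comm.comm (⟨a, ha⟩ : N) ⟨b, hb⟩
  exact congrArg Subtype.val this

variable {M : Subgroup G} [hMn : M.Normal] {r : ℕ}

theorem mem_of_pow (h : SOC G) (hs : Setup M r) (g : G) (hg : g ^ r = 1) : g ∈ M := by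
  by_cases h1 : g = 1
  · rw [h1]; exact one_mem _
  · have := Fact.mk hs.prime
    have hog : orderOf g = r := orderOf_eq_prime hg h1
    obtain ⟨x0, hx0, hx01⟩ : ∃ x ∈ M, x ≠ 1 := by
      by_contra hcon
      apply hs.ne_bot
      rw [eq_bot_iff]
      intro x hx
      rw [Subgroup.mem_bot]
      by_contra hx1
      exact hcon ⟨x, hx, hx1⟩
    have hox : orderOf x0 = r := orderOf_eq_prime (hs.exp x0 hx0) hx01
    obtain ⟨c, hc⟩ := isConj_iff.1 (h x0 g (by rw [hox, hog]))
    rw [← hc]
    exact hMn.conj_mem x0 hx0 c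

theorem mk_pow_eq_one_iff (h : SOC G) (hs : Setup M r) (g : G) (k : ℕ) :
    (QuotientGroup.mk g : G ⧸ M) ^ k = 1 ↔ orderOf g ∣ k * r := by
  rw [← QuotientGroup.mk_pow, QuotientGroup.eq_one_iff, orderOf_dvd_iff_pow_eq_one, pow_mul]
  exact ⟨fun hm => hs.exp _ hm, fun hp => mem_of_pow h hs _ hp⟩

theorem orderOf_mk_of_dvd (h : SOC G) (hs : Setup M r) (g : G) (hd : r ∣ orderOf g) :
    orderOf g = r * orderOf (QuotientGroup.mk g : G ⧸ M) := by
  obtain ⟨n', hn'⟩ := hd
  have hr := hs.prime.pos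
  have key : ∀ k, orderOf (QuotientGroup.mk g : G ⧸ M) ∣ k ↔ n' ∣ k := by
    intro k
    rw [orderOf_dvd_iff_pow_eq_one, mk_pow_eq_one_iff h hs, hn', mul_comm k r]
    exact Nat.mul_dvd_mul_iff_left hr
  rw [hn']
  congr 1
  exact Nat.dvd_antisymm ((key _).1 dvd_rfl) ((key _).2 dvd_rfl)

theorem orderOf_mk_of_not_dvd (h : SOC G) (hs : Setup M r) (g : G) (hd : ¬ r ∣ orderOf g) :
    orderOf (QuotientGroup.mk g : G ⧸ M) = orderOf g := by
  have hcop : Nat.Coprime (orderOf g) r :=
    ((Nat.Prime.coprime_iff_not_dvd hs.prime).2 hd).symm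
  have key : ∀ k, orderOf (QuotientGroup.mk g : G ⧸ M) ∣ k ↔ orderOf g ∣ k := by
    intro k
    rw [orderOf_dvd_iff_pow_eq_one, mk_pow_eq_one_iff h hs]
    exact hcop.dvd_mul_right
  exact Nat.dvd_antisymm ((key _).2 dvd_rfl) ((key _).1 dvd_rfl)

theorem exists_lift (h : SOC G) (hs : Setup M r) (q : G ⧸ M) :
    ∃ g : G, (QuotientGroup.mk g : G ⧸ M) = q ∧
      orderOf g = if r ∣ orderOf q then r * orderOf q else orderOf q := by
  obtain ⟨g0, rfl⟩ := QuotientGroup.mk_surjective q
  set m := orderOf (QuotientGroup.mk g0 : G ⧸ M) with hm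
  by_cases hrm : r ∣ m
  · rw [if_pos hrm]
    refine ⟨g0, rfl, ?_⟩
    by_cases hd : r ∣ orderOf g0
    · exact orderOf_mk_of_dvd h hs g0 hd
    · exfalso
      have := orderOf_mk_of_not_dvd h hs g0 hd
      rw [← hm] at this
      rw [this] at hrm
      exact hd hrm
  · rw [if_neg hrm]
    by_cases hd : r ∣ orderOf g0
    · have hn0 : orderOf g0 = r * m := orderOf_mk_of_dvd h hs g0 hd
      have hmpos : 0 < m := orderOf_pos _
      have hcop : Nat.Coprime r m := (Nat.Prime.coprime_iff_not_dvd hs.prime).2 hrm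
      -- an inverse of r modulo m
      obtain ⟨j, hj⟩ : ∃ j : ℕ, r * j ≡ 1 [MOD m] := by
        have : NeZero m := ⟨hmpos.ne'⟩
        refine ⟨((ZMod.unitOfCoprime r hcop)⁻¹ : (ZMod m)ˣ).val.val, ?_⟩
        rw [← ZMod.natCast_eq_natCast_iff]
        push_cast
        rw [ZMod.natCast_zmod_val]
        have := (ZMod.unitOfCoprime r hcop).mul_inv
        rwa [ZMod.coe_unitOfCoprime] at this
      refine ⟨g0 ^ (r * j), ?_, ?_⟩
      · rw [QuotientGroup.mk_pow]
        conv_rhs => rw [← pow_one (QuotientGroup.mk g0 : G ⧸ M)]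
        rw [pow_eq_pow_iff_modEq]
        exact hj
      · have h1 : (g0 ^ (r * j)) ^ m = 1 := by
          rw [← pow_mul, mul_right_comm, ← hn0, pow_mul, pow_orderOf_eq_one, one_pow]
        have hdm : orderOf (g0 ^ (r * j)) ∣ m := orderOf_dvd_of_pow_eq_one h1
        have hnd : ¬ r ∣ orderOf (g0 ^ (r * j)) := fun hx => hrm (hx.trans hdm)
        have h2 := orderOf_mk_of_not_dvd h hs _ hnd
        rw [← h2, QuotientGroup.mk_pow]
        congr 1
        conv_rhs => rw [← pow_one (QuotientGroup.mk g0 : G ⧸ M)]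
        rw [pow_eq_pow_iff_modEq]
        exact hj
    · exact ⟨g0, rfl, (orderOf_mk_of_not_dvd h hs g0 hd).symm⟩

theorem soc_quotient (h : SOC G) (hs : Setup M r) : SOC (G ⧸ M) := by
  intro x y hxy
  obtain ⟨gx, rfl, hgx⟩ := exists_lift h hs x
  obtain ⟨gy, rfl, hgy⟩ := exists_lift h hs y
  rw [hxy] at hgx
  have := h gx gy (by rw [hgx, hgy])
  exact (QuotientGroup.mk' M).map_isConj this

end basic

end Part0

section Part1

section tools

variable {G : Type*} [Group G] [Finite G]

/-- if the non-identity elements of `M` are conjugates of `x0` and `H` centralizes `x0`,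
then `|M| ≤ [G : H] + 1` -/
theorem card_le_of_conj (M H : Subgroup G) (x0 : G)
    (hH : ∀ h ∈ H, h * x0 = x0 * h)
    (hM : ∀ y ∈ M, y ≠ 1 → ∃ g : G, g * x0 * g⁻¹ = y) : Nat.card M ≤ H.index + 1 := by
  classical
  choose! f hf using hM
  let φ : M → Option (G ⧸ H) :=
    fun y => if (y : G) = 1 then none else some (QuotientGroup.mk (f y))
  have hφ : Function.Injective φ := by
    intro y y' hyy
    by_cases h1 : (y : G) = 1 <;> by_cases h2 : (y' : G) = 1
    · exact Subtype.ext (h1.trans h2.symm)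
    · simp only [φ, if_pos h1, if_neg h2] at hyy
      cases hyy
    · simp only [φ, if_neg h1, if_pos h2] at hyy
      cases hyy
    · simp only [φ, if_neg h1, if_neg h2, Option.some.injEq] at hyy
      rw [QuotientGroup.eq] at hyy
      have hc := hH _ hyy
      apply Subtype.ext
      rw [← hf y y.2 h1, ← hf y' y'.2 h2]
      have hb : f y' = f y * ((f y)⁻¹ * f y') := by group
      rw [hb]
      generalize (f y)⁻¹ * f y' = c at hc
      have : c * x0 * c⁻¹ = x0 := by rw [hc]; group
      calc f y * x0 * (f y)⁻¹ = f y * (c * x0 * c⁻¹) * (f y)⁻¹ := by rw [this]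
        _ = f y * c * x0 * (f y * c)⁻¹ := by group
  calc Nat.card M ≤ Nat.card (Option (G ⧸ H)) := Nat.card_le_card_of_injective φ hφ
    _ = H.index + 1 := by rw [Finite.card_option, Subgroup.index]

/-- a non-abelian group of order 6 is `S_3` -/
theorem mulEquiv_perm_three (hcard : Nat.card G = 6)
    (hnc : ∃ a b : G, a * b ≠ b * a) : Nonempty (G ≃* Equiv.Perm (Fin 3)) := by
  classical
  have : Fact (Nat.Prime 2) := ⟨Nat.prime_two⟩
  have : Fact (Nat.Prime 3) := ⟨Nat.prime_three⟩
  obtain ⟨t, ht⟩ := exists_prime_orderOf_dvd_card' (G := G) 2 (by rw [hcard]; norm_num)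
  obtain ⟨u, hu⟩ := exists_prime_orderOf_dvd_card' (G := G) 3 (by rw [hcard]; norm_num)
  set T := Subgroup.zpowers t with hTdef
  have hT : Nat.card T = 2 := by rw [Nat.card_zpowers, ht]
  have hidx : T.index = 3 := by
    have := T.card_mul_index
    rw [hT, hcard] at this; omega
  have hmemT : ∀ g ∈ T, g = 1 ∨ g = t := by
    intro g hg
    obtain ⟨k, rfl⟩ := Subgroup.mem_zpowers_iff.1 hg
    rcases Int.emod_two_eq_zero_or_one k with hk | hk
    · left
      have : k = 2 * (k / 2) := by omega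
      rw [this, zpow_mul, zpow_ofNat, ← ht, pow_orderOf_eq_one, one_zpow]
    · right
      have : k = 2 * (k / 2) + 1 := by omega
      rw [this, zpow_add, zpow_mul, zpow_ofNat, ← ht, pow_orderOf_eq_one, one_zpow, one_mul,
        zpow_one]
  have ht1 : t ≠ 1 := by
    intro h; rw [h, orderOf_one] at ht; omega
  let φ : G →* Equiv.Perm (G ⧸ T) := MulAction.toPermHom G (G ⧸ T)
  have hinj : Function.Injective φ := by
    rw [← MonoidHom.ker_eq_bot_iff, ← Subgroup.normalCore_eq_ker, eq_bot_iff]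
    intro g hg
    rw [Subgroup.mem_bot]
    by_contra hg1
    have hgT : g ∈ T := Subgroup.normalCore_le T hg
    have hgt : g = t := (hmemT g hgT).resolve_left hg1
    subst hgt
    -- t is central
    have hcen : ∀ c : G, c * g = g * c := by
      intro c
      have h1 : c * g * c⁻¹ ∈ T.normalCore := (Subgroup.normalCore_normal T).conj_mem g hg c
      have h2 := hmemT _ (Subgroup.normalCore_le T h1)
      rcases h2 with h2 | h2
      · exfalso
        apply hg1
        have : g = c⁻¹ * (c * g * c⁻¹) * c := by group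
        rw [this, h2]; group
      · calc c * g = (c * g * c⁻¹) * c := by group
          _ = g * c := by rw [h2]
    -- then `g * u` has order 6 and `G` is cyclic
    have hcomm : Commute g u := (hcen u).symm
    have ho : orderOf (g * u) = 6 := by
      rw [hcomm.orderOf_mul_eq_mul_orderOf_of_coprime (by rw [ht, hu]; norm_num), ht, hu]
    have hcyc : IsCyclic G := isCyclic_of_orderOf_eq_card (g * u) (by rw [ho, hcard])
    obtain ⟨a, b, hab⟩ := hnc
    obtain ⟨w, hw⟩ := hcyc.exists_generator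
    obtain ⟨i, rfl⟩ := Subgroup.mem_zpowers_iff.1 (hw a)
    obtain ⟨j, rfl⟩ := Subgroup.mem_zpowers_iff.1 (hw b)
    apply hab
    rw [← zpow_add, ← zpow_add, add_comm]
  have hbij : Function.Bijective φ := by
    rw [Nat.bijective_iff_injective_and_card]
    refine ⟨hinj, ?_⟩
    rw [Nat.card_perm, hcard]
    have : Nat.card (G ⧸ T) = 3 := hidx
    rw [this]; rfl
  have e1 : G ≃* Equiv.Perm (G ⧸ T) := MulEquiv.ofBijective φ hbij
  have e2 : (G ⧸ T) ≃ Fin 3 := Finite.equivFinOfCardEq hidx
  exact ⟨e1.trans e2.permCongrHom⟩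

/-- elements of the preimage of a cyclic subgroup of the quotient -/
theorem exists_of_mk_mem_zpowers (M : Subgroup G) [M.Normal] (s g : G)
    (hg : (QuotientGroup.mk g : G ⧸ M) ∈ Subgroup.zpowers (QuotientGroup.mk s : G ⧸ M)) :
    ∃ (k : ℤ) (m : G), m ∈ M ∧ g = s ^ k * m := by
  obtain ⟨k, hk⟩ := Subgroup.mem_zpowers_iff.1 hg
  refine ⟨k, (s ^ k)⁻¹ * g, ?_, by group⟩
  rw [← QuotientGroup.eq, QuotientGroup.mk_zpow]
  exact hk

end tools

end Part1

section Part2

section cases

variable {G : Type*} [Group G] [Finite G] {M : Subgroup G} [hMn : M.Normal] {r : ℕ}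

theorem exists_ne_one (hs : Setup M r) : ∃ x ∈ M, x ≠ 1 := by
  by_contra hcon
  apply hs.ne_bot
  rw [eq_bot_iff]
  intro x hx
  rw [Subgroup.mem_bot]
  by_contra hx1
  exact hcon ⟨x, hx, hx1⟩

theorem orderOf_of_mem (hs : Setup M r) {x : G} (hx : x ∈ M) (hx1 : x ≠ 1) : orderOf x = r := by
  have := Fact.mk hs.prime
  exact orderOf_eq_prime (hs.exp x hx) hx1

theorem conj_of_mem (h : SOC G) (hs : Setup M r) {x0 : G} (hx0 : x0 ∈ M) (hx01 : x0 ≠ 1) :
    ∀ y ∈ M, y ≠ 1 → ∃ g : G, g * x0 * g⁻¹ = y := by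
  intro y hy hy1
  exact isConj_iff.1 (h x0 y (by rw [orderOf_of_mem hs hx0 hx01, orderOf_of_mem hs hy hy1]))

/-- the case where `r` divides the order of the quotient -/
theorem caseB (h : SOC G) (hs : Setup M r)
    (hcent : ∀ q c : G ⧸ M, q ≠ 1 → c * q = q * c → c ∈ Subgroup.zpowers q)
    (hcard : Nat.card (G ⧸ M) = 2 ∨ Nat.card (G ⧸ M) = 6)
    (hr : r ∣ Nat.card (G ⧸ M)) : False := by
  have hrp := hs.prime
  have := Fact.mk hrp
  obtain ⟨s', hs'⟩ := exists_prime_orderOf_dvd_card' (G := G ⧸ M) r hr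
  obtain ⟨s, hsmk, hso⟩ := exists_lift h hs s'
  rw [hs', if_pos dvd_rfl] at hso
  have hs'1 : s' ≠ 1 := by
    intro h1; rw [h1, orderOf_one] at hs'; exact hrp.one_lt.ne hs'
  -- `s` is conjugate to `s ^ (1 + r)`
  have hcop : Nat.Coprime (orderOf s) (1 + r) := by
    rw [hso]
    have : Nat.Coprime r (1 + r) := by
      rw [Nat.coprime_add_self_right]; exact Nat.coprime_one_right r
    exact Nat.Coprime.mul_left this this
  obtain ⟨g, hg⟩ := isConj_iff.1 (h s (s ^ (1 + r)) hcop.orderOf_pow.symm)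
  -- the image of `g` centralizes `s'`
  have hgq : (QuotientGroup.mk g : G ⧸ M) * s' = s' * QuotientGroup.mk g := by
    have h1 := congrArg (QuotientGroup.mk : G → G ⧸ M) hg
    rw [QuotientGroup.mk_mul, QuotientGroup.mk_mul, QuotientGroup.mk_inv, QuotientGroup.mk_pow,
      hsmk, pow_add, pow_one, ← hs', pow_orderOf_eq_one, mul_one] at h1
    calc (QuotientGroup.mk g : G ⧸ M) * s' = ((QuotientGroup.mk g : G ⧸ M) * s' * (QuotientGroup.mk g : G ⧸ M)⁻¹) * QuotientGroup.mk g := by group
      _ = s' * QuotientGroup.mk g := by rw [h1]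
  have hmem := hcent s' _ hs'1 hgq
  rw [← hsmk] at hmem
  obtain ⟨k, m, hm, hgk⟩ := exists_of_mk_mem_zpowers M s g hmem
  have hms : m * s * m⁻¹ = s ^ (1 + r) := by
    have : m * s * m⁻¹ = (s ^ k)⁻¹ * (g * s * g⁻¹) * s ^ k := by rw [hgk]; group
    rw [this, hg]
    have hc : Commute (s ^ k) (s ^ (1 + r)) := (Commute.refl s).zpow_left k |>.pow_right _
    rw [mul_assoc, ← hc.eq]; group
  have hs9 : s ^ (r * r) = 1 := by rw [← hso]; exact pow_orderOf_eq_one s
  have hsM : s ∉ M := by
    intro hsm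
    apply hs'1
    rw [← hsmk]; exact (QuotientGroup.eq_one_iff s).2 hsm
  rcases hcard with hcard | hcard
  · -- `r = 2`
    rw [hcard] at hr
    have hr2 : r = 2 := (Nat.prime_dvd_prime_iff_eq hrp Nat.prime_two).1 hr
    subst hr2
    have hmm : m * m = 1 := by rw [← pow_two]; exact hs.exp m hm
    have h2 : (m * s) ^ 2 = 1 := by
      calc (m * s) ^ 2 = (m * s * m⁻¹) * (m * m) * s := by rw [pow_two]; group
        _ = s ^ (2 * 2) := by rw [hms, hmm]; group
        _ = 1 := hs9
    have := mem_of_pow h hs _ h2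
    apply hsM
    have h3 : s = m⁻¹ * (m * s) := by group
    rw [h3]; exact M.mul_mem (M.inv_mem hm) this
  · rw [hcard] at hr
    have hr23 : r = 2 ∨ r = 3 := by
      have : r ∣ 2 * 3 := hr
      rcases (Nat.Prime.dvd_mul hrp).1 this with h1 | h1
      · exact Or.inl ((Nat.prime_dvd_prime_iff_eq hrp Nat.prime_two).1 h1)
      · exact Or.inr ((Nat.prime_dvd_prime_iff_eq hrp Nat.prime_three).1 h1)
    rcases hr23 with hr2 | hr3
    · subst hr2
      have hmm : m * m = 1 := by rw [← pow_two]; exact hs.exp m hm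
      have h2 : (m * s) ^ 2 = 1 := by
        calc (m * s) ^ 2 = (m * s * m⁻¹) * (m * m) * s := by rw [pow_two]; group
          _ = s ^ (2 * 2) := by rw [hms, hmm]; group
          _ = 1 := hs9
      have := mem_of_pow h hs _ h2
      apply hsM
      have h3 : s = m⁻¹ * (m * s) := by group
      rw [h3]; exact M.mul_mem (M.inv_mem hm) this
    · subst hr3
      -- `x0 = s ^ 3`
      have hx0M : s ^ 3 ∈ M := mem_of_pow h hs _ (by rw [← pow_mul]; exact hs9)
      have hx01 : s ^ 3 ≠ 1 := by
        intro h1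
        have := orderOf_dvd_of_pow_eq_one h1
        rw [hso] at this
        have := Nat.le_of_dvd (by norm_num) this
        omega
      let H : Subgroup G := (Subgroup.zpowers s').comap (QuotientGroup.mk' M)
      have hHidx : H.index = 2 := by
        rw [Subgroup.index_comap_of_surjective _ (QuotientGroup.mk'_surjective M)]
        have h1 := (Subgroup.zpowers s').card_mul_index
        rw [Nat.card_zpowers, hs', hcard] at h1
        omega
      have hHc : ∀ x ∈ H, x * s ^ 3 = s ^ 3 * x := by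
        intro x hx
        have hx' : (QuotientGroup.mk x : G ⧸ M) ∈ Subgroup.zpowers (QuotientGroup.mk s : G ⧸ M) := by
          rw [hsmk]; exact hx
        obtain ⟨k', m', hm', rfl⟩ := exists_of_mk_mem_zpowers M s x hx'
        have hc1 : Commute (s ^ k') (s ^ 3) := (Commute.refl s).zpow_left k' |>.pow_right _
        have hc2 : m' * s ^ 3 = s ^ 3 * m' := hs.comm m' hm' _ hx0M
        rw [mul_assoc, hc2, ← mul_assoc, hc1.eq, mul_assoc]
      have hle := card_le_of_conj M H (s ^ 3) hHc (conj_of_mem h hs hx0M hx01)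
      rw [hHidx] at hle
      have hox : orderOf (s ^ 3) = 3 := orderOf_of_mem hs hx0M hx01
      have hzM : Subgroup.zpowers (s ^ 3) = M := by
        apply Subgroup.eq_of_le_of_card_ge
        · rw [Subgroup.zpowers_le]; exact hx0M
        · rw [Nat.card_zpowers, hox]; exact hle
      rw [← hzM] at hm
      obtain ⟨j, rfl⟩ := Subgroup.mem_zpowers_iff.1 hm
      have hc : Commute ((s ^ 3) ^ j) s := ((Commute.refl s).pow_left 3).zpow_left j
      have h4 : s = s ^ (1 + 3) := by
        rw [← hms, hc.eq]; group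
      apply hx01
      have : s * 1 = s * s ^ 3 := by
        rw [mul_one]
        conv_lhs => rw [h4]
        rw [pow_add, pow_one]
      exact (mul_left_cancel this).symm

/-- quotient of order two, `r` odd -/
theorem caseC1 (h : SOC G) (hs : Setup M r) (hcard : Nat.card (G ⧸ M) = 2) (hr : r ≠ 2) :
    Nonempty (G ≃* Equiv.Perm (Fin 3)) := by
  have hrp := hs.prime
  obtain ⟨x0, hx0, hx01⟩ := exists_ne_one hs
  have hox := orderOf_of_mem hs hx0 hx01
  have hidx : M.index = 2 := hcard
  have hle := card_le_of_conj M M x0 (fun y hy => hs.comm y hy x0 hx0) (conj_of_mem h hs hx0 hx01)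
  rw [hidx] at hle
  have hge : r ≤ Nat.card M := by
    rw [← hox, ← Nat.card_zpowers]
    exact Nat.card_le_card_of_injective (Subgroup.inclusion ((Subgroup.zpowers_le).2 hx0))
      (Subgroup.inclusion_injective _)
  have hr3 : r = 3 := by
    have := hrp.two_le
    omega
  have hcM : Nat.card M = 3 := by omega
  have hcG : Nat.card G = 6 := by
    rw [← M.card_mul_index, hcM, hidx]
  apply mulEquiv_perm_three hcG
  obtain ⟨g, hg⟩ := isConj_iff.1 (h x0 x0⁻¹ (orderOf_inv x0).symm)
  refine ⟨g, x0, ?_⟩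
  intro hcomm
  have h1 : x0⁻¹ = x0 := by rw [← hg, hcomm]; group
  have h2 : x0 ^ 2 = 1 := by
    rw [pow_two]
    nth_rewrite 1 [← h1]
    group
  have := orderOf_dvd_of_pow_eq_one h2
  rw [hox, hr3] at this
  omega

/-- quotient `S_3`, `r ≥ 5` -/
theorem caseC2 (h : SOC G) (hs : Setup M r) (hcard : Nat.card (G ⧸ M) = 6)
    (hnc : ∃ a b : G ⧸ M, a * b ≠ b * a)
    (hord : ∀ a b : G ⧸ M, a * b ≠ b * a → orderOf ((b * a)⁻¹ * (a * b)) = 3)
    (hr : ¬ r ∣ 6) : False := by
  have hrp := hs.prime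
  have := Fact.mk hrp
  obtain ⟨x0, hx0, hx01⟩ := exists_ne_one hs
  have hox := orderOf_of_mem hs hx0 hx01
  have hidx : M.index = 6 := hcard
  have hle := card_le_of_conj M M x0 (fun y hy => hs.comm y hy x0 hx0) (conj_of_mem h hs hx0 hx01)
  rw [hidx] at hle
  have hr5 : 5 ≤ r := by
    have h2 : r ≠ 2 := by rintro rfl; exact hr (by norm_num)
    have h3 : r ≠ 3 := by rintro rfl; exact hr (by norm_num)
    have h4 : r ≠ 4 := by rintro rfl; exact absurd hrp (by decide)
    have := hrp.two_le
    omega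
  -- `M` has order `r`
  have hpg : IsPGroup r M := by
    intro x
    refine ⟨1, ?_⟩
    apply Subtype.ext
    rw [pow_one, Subgroup.coe_pow, Subgroup.coe_one]
    exact hs.exp x x.2
  obtain ⟨n, hn⟩ := IsPGroup.iff_card.1 hpg
  have hcM : Nat.card M = r := by
    rcases n with _ | _ | n
    · exfalso
      rw [pow_zero] at hn
      have := (Subgroup.one_lt_card_iff_ne_bot M).2 hs.ne_bot
      omega
    · rw [hn]; simp
    · exfalso
      have : r ^ 2 ≤ r ^ (n + 1 + 1) := Nat.pow_le_pow_right hrp.pos (by omega)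
      have : 25 ≤ r ^ 2 := by nlinarith
      omega
  have hzM : Subgroup.zpowers x0 = M := by
    apply Subgroup.eq_of_le_of_card_ge
    · rw [Subgroup.zpowers_le]; exact hx0
    · rw [Nat.card_zpowers, hox, hcM]
  -- conjugates of `x0` are powers of `x0`
  have hpow : ∀ g : G, ∃ i : ℤ, g * x0 * g⁻¹ = x0 ^ i := by
    intro g
    have : g * x0 * g⁻¹ ∈ M := hMn.conj_mem x0 hx0 g
    rw [← hzM] at this
    obtain ⟨i, hi⟩ := Subgroup.mem_zpowers_iff.1 this
    exact ⟨i, hi.symm⟩
  have hcommut : ∀ a b : G, ((b * a)⁻¹ * (a * b)) * x0 = x0 * ((b * a)⁻¹ * (a * b)) := by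
    intro a b
    obtain ⟨i, hi⟩ := hpow a
    obtain ⟨j, hj⟩ := hpow b
    have h1 : (a * b) * x0 * (a * b)⁻¹ = x0 ^ (j * i) := by
      calc (a * b) * x0 * (a * b)⁻¹ = a * (b * x0 * b⁻¹) * a⁻¹ := by group
        _ = a * x0 ^ j * a⁻¹ := by rw [hj]
        _ = (a * x0 * a⁻¹) ^ j := by rw [conj_zpow]
        _ = x0 ^ (j * i) := by rw [hi, ← zpow_mul, mul_comm]
    have h2 : (b * a) * x0 * (b * a)⁻¹ = x0 ^ (j * i) := by
      calc (b * a) * x0 * (b * a)⁻¹ = b * (a * x0 * a⁻¹) * b⁻¹ := by group
        _ = b * x0 ^ i * b⁻¹ := by rw [hi]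
        _ = (b * x0 * b⁻¹) ^ i := by rw [conj_zpow]
        _ = x0 ^ (j * i) := by rw [hj, ← zpow_mul]
    have h3 : (a * b) * x0 * (a * b)⁻¹ = (b * a) * x0 * (b * a)⁻¹ := by rw [h1, h2]
    calc ((b * a)⁻¹ * (a * b)) * x0
        = (b * a)⁻¹ * ((a * b) * x0 * (a * b)⁻¹) * (a * b) := by group
      _ = (b * a)⁻¹ * ((b * a) * x0 * (b * a)⁻¹) * (a * b) := by rw [h3]
      _ = x0 * ((b * a)⁻¹ * (a * b)) := by group
  obtain ⟨a', b', hab⟩ := hnc
  obtain ⟨a, rfl⟩ := QuotientGroup.mk_surjective a'
  obtain ⟨b, rfl⟩ := QuotientGroup.mk_surjective b'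
  have ho3 := hord _ _ hab
  set c : G := (b * a)⁻¹ * (a * b) with hc
  have hcmk : (QuotientGroup.mk c : G ⧸ M) =
      ((QuotientGroup.mk b : G ⧸ M) * QuotientGroup.mk a)⁻¹ *
        ((QuotientGroup.mk a : G ⧸ M) * QuotientGroup.mk b) := rfl
  rw [← hcmk] at ho3
  let H : Subgroup G := (Subgroup.zpowers (QuotientGroup.mk c : G ⧸ M)).comap (QuotientGroup.mk' M)
  have hHidx : H.index = 2 := by
    rw [Subgroup.index_comap_of_surjective _ (QuotientGroup.mk'_surjective M)]
    have h1 := (Subgroup.zpowers (QuotientGroup.mk c : G ⧸ M)).card_mul_index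
    rw [Nat.card_zpowers, ho3, hcard] at h1
    omega
  have hHc : ∀ x ∈ H, x * x0 = x0 * x := by
    intro x hx
    obtain ⟨k', m', hm', rfl⟩ := exists_of_mk_mem_zpowers M c x hx
    have hc1 : Commute (c ^ k') x0 := (show Commute c x0 from hcommut a b).zpow_left k'
    have hc2 : m' * x0 = x0 * m' := hs.comm m' hm' _ hx0
    rw [mul_assoc, hc2, ← mul_assoc, hc1.eq, mul_assoc]
  have hle2 := card_le_of_conj M H x0 hHc (conj_of_mem h hs hx0 hx01)
  rw [hHidx, hcM] at hle2
  omega

end cases

end Part2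

section Part3

theorem s3_cent : ∀ q c : Equiv.Perm (Fin 3), q ≠ 1 → c * q = q * c →
    c = 1 ∨ c = q ∨ c = q * q := by decide +kernel

theorem s3_comm : ∀ a b : Equiv.Perm (Fin 3), a * b ≠ b * a →
    ((b * a)⁻¹ * (a * b)) ^ 3 = 1 ∧ (b * a)⁻¹ * (a * b) ≠ 1 := by decide +kernel

theorem s3_nc : ∃ a b : Equiv.Perm (Fin 3), a * b ≠ b * a := by decide

theorem main.{u} : ∀ (n : ℕ) (G : Type u) [Group G] [Finite G] [Group.IsSolvable G],
    Nat.card G = n → SOC G →
      (Nat.card G = 1 ∨ Nat.card G = 2 ∨ Nonempty (G ≃* Equiv.Perm (Fin 3))) := by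
  intro n
  induction n using Nat.strong_induction_on with
  | _ n ih =>
    intro G _ _ _ hn h
    by_cases htriv : Nat.card G = 1
    · exact Or.inl htriv
    have hnt : Nontrivial G := by
      rw [← Finite.one_lt_card_iff_nontrivial]
      have := Nat.card_pos (α := G)
      omega
    obtain ⟨M, hMn, r, hs⟩ := exists_setup (G := G)
    have hrp := hs.prime
    have hcM : 1 < Nat.card M := (Subgroup.one_lt_card_iff_ne_bot M).2 hs.ne_bot
    have hmul : Nat.card M * Nat.card (G ⧸ M) = Nat.card G := by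
      have := M.card_mul_index
      rwa [Subgroup.index] at this
    have hQpos : 0 < Nat.card (G ⧸ M) := Nat.card_pos
    have hlt : Nat.card (G ⧸ M) < n := by
      rw [← hn, ← hmul]
      nlinarith
    obtain ⟨x0, hx0, hx01⟩ := exists_ne_one hs
    have hox := orderOf_of_mem hs hx0 hx01
    rcases ih _ hlt (G ⧸ M) rfl (soc_quotient h hs) with h1 | h2 | ⟨⟨e⟩⟩
    · -- `G = M`
      right; left
      have htop : M = ⊤ := Subgroup.index_eq_one.1 h1
      have hall : ∀ g : G, g = 1 ∨ g = x0 := by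
        intro g
        by_cases hg1 : g = 1
        · exact Or.inl hg1
        · right
          have hgM : g ∈ M := by rw [htop]; trivial
          obtain ⟨c, hc⟩ := conj_of_mem h hs hx0 hx01 g hgM hg1
          have hcM' : c ∈ M := by rw [htop]; trivial
          rw [← hc, hs.comm c hcM' x0 hx0]; group
      rw [Nat.card_eq_two_iff]
      refine ⟨1, x0, hx01.symm, ?_⟩
      ext g
      simp only [Set.mem_insert_iff, Set.mem_singleton_iff, Set.mem_univ, iff_true]
      exact hall g
    · -- quotient of order two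
      by_cases hr2 : r = 2
      · exfalso
        refine caseB h hs ?_ (Or.inl h2) (by rw [h2, hr2])
        intro q c hq _
        have hoq : orderOf q = 2 := by
          have hd : orderOf q ∣ 2 := by rw [← h2]; exact orderOf_dvd_natCard q
          rcases (Nat.dvd_prime Nat.prime_two).1 hd with h' | h'
          · exact absurd (orderOf_eq_one_iff.1 h') hq
          · exact h'
        have : Subgroup.zpowers q = ⊤ := by
          apply Subgroup.eq_top_of_card_eq
          rw [Nat.card_zpowers, hoq, h2]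
        rw [this]; trivial
      · right; right
        exact caseC1 h hs h2 hr2
    · -- quotient `S_3`
      exfalso
      have hcard : Nat.card (G ⧸ M) = 6 := by
        rw [Nat.card_congr e.toEquiv, Nat.card_perm, Nat.card_eq_fintype_card, Fintype.card_fin]
        rfl
      have hcent : ∀ q c : G ⧸ M, q ≠ 1 → c * q = q * c → c ∈ Subgroup.zpowers q := by
        intro q c hq hc
        have hq' : e q ≠ 1 := by
          intro h'; apply hq
          exact e.injective (by rw [h', map_one])
        have hc' : e c * e q = e q * e c := by rw [← map_mul, ← map_mul, hc]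
        rcases s3_cent (e q) (e c) hq' hc' with h' | h' | h'
        · have : c = 1 := e.injective (by rw [h', map_one])
          rw [this]; exact one_mem _
        · have : c = q := e.injective h'
          rw [this]; exact Subgroup.mem_zpowers q
        · have : c = q * q := e.injective (by rw [h', map_mul])
          rw [this]
          exact mul_mem (Subgroup.mem_zpowers q) (Subgroup.mem_zpowers q)
      by_cases hr6 : r ∣ 6
      · exact caseB h hs hcent (Or.inr hcard) (by rw [hcard]; exact hr6)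
      · refine caseC2 h hs hcard ?_ ?_ hr6
        · obtain ⟨a, b, hab⟩ := s3_nc
          refine ⟨e.symm a, e.symm b, ?_⟩
          intro h'
          apply hab
          have := congrArg e h'
          simpa using this
        · intro a b hab
          have hab' : e a * e b ≠ e b * e a := by
            intro h'
            apply hab
            apply e.injective
            rw [map_mul, map_mul, h']
          obtain ⟨h3, h1'⟩ := s3_comm (e a) (e b) hab'
          have : Fact (Nat.Prime 3) := ⟨Nat.prime_three⟩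
          have he : e ((b * a)⁻¹ * (a * b)) = (e b * e a)⁻¹ * (e a * e b) := by
            simp only [map_mul, map_inv]
          rw [← MulEquiv.orderOf_eq e, he]
          exact orderOf_eq_prime h3 h1'

theorem result {G : Type*} [Group G] [Finite G] [Group.IsSolvable G]
    (h : ∀ x y : G, orderOf x = orderOf y → IsConj x y) :
    Nat.card G = 1 ∨ Nat.card G = 2 ∨ Nonempty (G ≃* Equiv.Perm (Fin 3)) :=
  main _ G rfl h

end Part3

end Cfsg.Agent.S4062
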