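import Cfsg.Statements.S3868
import Mathlib
import Cfsg.Agent.H1.MinNonPClosed

set_option autoImplicit false
open Cfsg

namespace Cfsg.Agent.S3868

set_option autoImplicit false
open scoped Pointwise commutatorElement
open H1

/-- Structure of the non-simple minimal non-p-closed groups. Call a finite group p-closed when its Sylow p-subgroups are normal, and minimal non-p-closed when it is not p-closed but every proper subgroup and every proper quotient is. If such a group G is not simple, then there is a prime q ≠ p such that G has order p · q^e, where e is the multiplicative order of q modulo p, and G has a normal subgroup A of order q^e that is elementary abelian and is a minimal normal subgroup of G (so G is the semidirect product of A by a group of order p acting irreducibly). -/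
theorem result {G : Type*} [Group G] [Finite G] {p : ℕ} [Fact p.Prime]
    (hnc : ¬ Cfsg.IsPClosed p G) (hsub : ∀ H : Subgroup G, H ≠ ⊤ → Cfsg.IsPClosed p ↥H)
    (hquo : ∀ (N : Subgroup G) [N.Normal], N ≠ ⊥ → Cfsg.IsPClosed p (G ⧸ N)) (hns : ¬ IsSimpleGroup G) :
    ∃ q : ℕ, q.Prime ∧ q ≠ p ∧ Nat.card G = p * q ^ orderOf (q : ZMod p) ∧
      ∃ A : Subgroup G, A.Normal ∧ Nat.card ↥A = q ^ orderOf (q : ZMod p) ∧ Cfsg.IsElementaryAbelian q A ∧
        ∀ B : Subgroup G, B.Normal → B ≤ A → B = ⊥ ∨ B = A := by
  have hp : p.Prime := Fact.out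
  unfold Cfsg.IsPClosed at hnc
  push Not at hnc
  obtain ⟨P, hPn⟩ := hnc
  -- normal subgroups containing P are everything
  have hK : ∀ K : Subgroup G, K.Normal → (P : Subgroup G) ≤ K → K = ⊤ := by
    intro K hKn hPK
    by_contra hKt
    exact hPn (sylow_normal_of_le_normal_pclosed K (hsub K hKt) P hPK)
  have hsup : ∀ N : Subgroup G, N.Normal → N ≠ ⊥ → (P : Subgroup G) ⊔ N = ⊤ := by
    intro N hN hNb
    exact hK _ (sup_normal_of_quotient_pclosed N (hquo N hNb) P) le_sup_left
  have hPtop : (P : Subgroup G) ≠ ⊤ := by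
    intro h; apply hPn; rw [h]; infer_instance
  have hcore : Cfsg.pCore p G = ⊥ := by
    by_contra hc
    have h1 := hsup _ inferInstance hc
    rw [sup_eq_left.mpr (pCore_le_sylow P)] at h1
    exact hPtop h1
  have hp' : ∀ N : Subgroup G, N.Normal → N ≠ ⊤ → ¬ p ∣ Nat.card N := by
    intro N hN hNt
    exact not_dvd_card_of_normal_pclosed N (hsub N hNt) hcore
  have hGnt : Nontrivial G := by
    by_contra h
    rw [not_nontrivial_iff_subsingleton] at h
    apply hPtop
    exact Subsingleton.elim _ _
  obtain ⟨N, hNn, hNb, hNt⟩ : ∃ N : Subgroup G, N.Normal ∧ N ≠ ⊥ ∧ N ≠ ⊤ := by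
    by_contra hcon
    push Not at hcon
    exact hns ⟨fun N hN => by
      by_cases hb : N = ⊥
      · exact Or.inl hb
      · exact Or.inr (hcon N hN hb)⟩
  obtain ⟨kP, hkP⟩ := P.isPGroup'.exists_card_eq
  -- order formula
  have hcard : ∀ B : Subgroup G, B.Normal → B ≠ ⊥ → B ≠ ⊤ → Nat.card G = Nat.card P * Nat.card B := by
    intro B hB hBb hBt
    have hcop : (Nat.card (P : Subgroup G)).Coprime (Nat.card B) := by
      rw [hkP]
      exact Nat.Coprime.pow_left _ ((Nat.Prime.coprime_iff_not_dvd hp).mpr (hp' B hB hBt))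
    have h1 := card_sup_mul_card_inf (P : Subgroup G) B (by rw [Subgroup.normalizer_eq_top]; exact le_top)
    rw [hsup B hB hBb, (Subgroup.disjoint_of_coprime_natCard hcop).eq_bot, Subgroup.card_top, Subgroup.card_bot, mul_one] at h1
    exact h1
  have hPpos : 0 < Nat.card P := Nat.card_pos
  have hmin : ∀ B : Subgroup G, B.Normal → B ≤ N → B = ⊥ ∨ B = N := by
    intro B hB hBN
    by_cases hBb : B = ⊥
    · exact Or.inl hBb
    right
    have hBt : B ≠ ⊤ := fun h => hNt (top_le_iff.mp (h ▸ hBN))
    have h1 := hcard B hB hBb hBt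
    have h2 := hcard N hNn hNb hNt
    rw [h1] at h2
    have h3 : Nat.card B = Nat.card N := Nat.eq_of_mul_eq_mul_left hPpos h2
    exact Subgroup.eq_of_le_of_card_ge hBN h3.ge
  have hNp' := hp' N hNn hNt
  have hcopPN : (Nat.card (P : Subgroup G)).Coprime (Nat.card N) := by
    rw [hkP]
    exact Nat.Coprime.pow_left _ ((Nat.Prime.coprime_iff_not_dvd hp).mpr hNp')
  have hPN : (P : Subgroup G) ⊓ N = ⊥ := (Subgroup.disjoint_of_coprime_natCard hcopPN).eq_bot
  have hPsolv : Group.IsSolvable (P : Subgroup G) := by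
    have := P.isPGroup'.isNilpotent
    infer_instance
  -- N is a q-group
  have hclaim : ∃ q : ℕ, q.Prime ∧ IsPGroup q N := by
    by_contra hcon
    push Not at hcon
    apply hPn
    have hNle : N ≤ Subgroup.normalizer ((P : Subgroup G) : Set G) := by
      have : (Subgroup.normalizer ((P : Subgroup G) : Set G)).subgroupOf N = ⊤ := by
        apply eq_top_of_forall_sylow_le
        intro q hq
        obtain ⟨Q, hQ⟩ := Cfsg.Agent.S0023.result (P : Subgroup G) N
          (by rw [Subgroup.normalizer_eq_top]; exact le_top) hcopPN (Or.inl hPsolv) q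
        refine ⟨Q, ?_⟩
        obtain ⟨Q', hQ'⟩ : ∃ Q' : Subgroup G, Q' = (Q : Subgroup N).map N.subtype := ⟨_, rfl⟩
        rw [← hQ'] at hQ
        have hQ'N : Q' ≤ N := by rw [hQ']; exact Subgroup.map_subtype_le _
        have hQ'q : IsPGroup q Q' := by rw [hQ']; exact Q.isPGroup'.map _
        -- X = P ⊔ Q' is proper
        have hXt : (P : Subgroup G) ⊔ Q' ≠ ⊤ := by
          intro hX
          apply hcon q hq.out
          have h1 := card_sup_mul_card_inf (P : Subgroup G) Q' hQ
          have h2 : (P : Subgroup G) ⊓ Q' = ⊥ := by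
            rw [eq_bot_iff, ← hPN]
            exact inf_le_inf_left _ hQ'N
          rw [hX, h2, Subgroup.card_top, Subgroup.card_bot, mul_one, hcard N hNn hNb hNt] at h1
          have h3 : Nat.card N = Nat.card Q' := Nat.eq_of_mul_eq_mul_left hPpos h1
          have h4 : Q' = N := Subgroup.eq_of_le_of_card_ge hQ'N h3.le
          rw [← h4]; exact hQ'q
        have hXle := le_normalizer_of_pclosed _ (hsub _ hXt) P le_sup_left
        intro y hy
        rw [Subgroup.mem_subgroupOf]
        have hyQ' : (y : G) ∈ Q' := by rw [hQ']; exact ⟨y, hy, rfl⟩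
        exact hXle ((le_sup_right : Q' ≤ _) hyQ')
      rwa [Subgroup.subgroupOf_eq_top] at this
    have h1 : (⊤ : Subgroup G) ≤ Subgroup.normalizer ((P : Subgroup G) : Set G) := by
      rw [← hsup N hNn hNb]
      exact sup_le Subgroup.le_normalizer hNle
    exact Subgroup.normalizer_eq_top_iff.mp (top_le_iff.mp h1)
  obtain ⟨q, hq, hNq⟩ := hclaim
  have : Fact q.Prime := ⟨hq⟩
  have hNel : Cfsg.IsElementaryAbelian q N := isElementaryAbelian_of_minimal_normal_pgroup N hNq hNb hmin
  have hNcomm : ∀ a ∈ N, ∀ b ∈ N, a * b = b * a := by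
    intro a ha b hb
    have := hNel.1.is_comm.comm ⟨a, ha⟩ ⟨b, hb⟩
    exact congrArg Subtype.val this
  -- q ≠ p
  have hqp : q ≠ p := by
    rintro rfl
    apply hNp'
    obtain ⟨n, hn⟩ := hNq.exists_card_eq
    have hn0 : n ≠ 0 := by
      rintro rfl
      rw [pow_zero] at hn
      exact hNb ((Subgroup.card_eq_one).mp hn)
    rw [hn]; exact dvd_pow_self q hn0
  -- centralizer of N
  obtain ⟨C, hC⟩ : ∃ C : Subgroup G, C = Subgroup.centralizer (N : Set G) := ⟨_, rfl⟩
  have hCn : C.Normal := by rw [hC]; infer_instance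
  have hNC : N ≤ C := by
    intro a ha
    rw [hC, Subgroup.mem_centralizer_iff]
    intro b hb
    exact hNcomm b hb a ha
  have hCb : C ≠ ⊥ := fun h => hNb (le_bot_iff.mp (h ▸ hNC))
  have hCt : C ≠ ⊤ := by
    intro h
    apply hPn
    have hNle : N ≤ Subgroup.normalizer ((P : Subgroup G) : Set G) := by
      intro a ha
      rw [Subgroup.mem_normalizer_iff]
      intro b
      have hb : b ∈ C := by rw [h]; trivial
      rw [hC, Subgroup.mem_centralizer_iff] at hb
      rw [hb a ha, mul_inv_cancel_right]
    have h1 : (⊤ : Subgroup G) ≤ Subgroup.normalizer ((P : Subgroup G) : Set G) := by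
      rw [← hsup N hNn hNb]
      exact sup_le Subgroup.le_normalizer hNle
    exact Subgroup.normalizer_eq_top_iff.mp (top_le_iff.mp h1)
  have hPC : (P : Subgroup G) ⊓ C = ⊥ := by
    apply (Subgroup.disjoint_of_coprime_natCard _).eq_bot
    rw [hkP]
    exact Nat.Coprime.pow_left _ ((Nat.Prime.coprime_iff_not_dvd hp).mpr (hp' C hCn hCt))
  -- an element of order p generating P
  have hPb : (P : Subgroup G) ≠ ⊥ := by
    intro h; apply hPn; rw [h]; infer_instance
  have hpP : p ∣ Nat.card (P : Subgroup G) := by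
    have hk0 : kP ≠ 0 := by
      rintro rfl
      rw [pow_zero] at hkP
      exact hPb ((Subgroup.card_eq_one).mp hkP)
    rw [hkP]; exact dvd_pow_self p hk0
  obtain ⟨x', hx'⟩ := exists_prime_orderOf_dvd_card' p hpP
  obtain ⟨x, hxdef⟩ : ∃ x : G, x = (x' : G) := ⟨_, rfl⟩
  have hxP : x ∈ (P : Subgroup G) := by rw [hxdef]; exact x'.2
  have hxo : orderOf x = p := by rw [hxdef, Subgroup.orderOf_coe]; exact hx'
  have hx1 : x ≠ 1 := by
    rintro h; rw [h, orderOf_one] at hxo; exact hp.one_lt.ne hxo
  have hxC : x ∉ C := by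
    intro h
    have : x ∈ (P : Subgroup G) ⊓ C := ⟨hxP, h⟩
    rw [hPC, Subgroup.mem_bot] at this
    exact hx1 this
  have hzP : Subgroup.zpowers x = (P : Subgroup G) := by
    by_contra hne
    have hzle : Subgroup.zpowers x ≤ (P : Subgroup G) := (Subgroup.zpowers_le).mpr hxP
    -- X = ⟨x⟩ N is proper
    obtain ⟨X, hX⟩ : ∃ X : Subgroup G, X = Subgroup.zpowers x ⊔ N := ⟨_, rfl⟩
    have hXt : X ≠ ⊤ := by
      intro hXtop
      have h1 := card_sup_mul_card_inf (Subgroup.zpowers x) N (by rw [Subgroup.normalizer_eq_top]; exact le_top)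
      have h2 : Subgroup.zpowers x ⊓ N = ⊥ := by
        rw [eq_bot_iff, ← hPN]
        exact inf_le_inf_right _ hzle
      rw [← hX, hXtop, h2, Subgroup.card_top, Subgroup.card_bot, mul_one, hcard N hNn hNb hNt] at h1
      have h3 : Nat.card (P : Subgroup G) = Nat.card (Subgroup.zpowers x) :=
        Nat.eq_of_mul_eq_mul_right Nat.card_pos h1
      exact hne (Subgroup.eq_of_le_of_card_ge hzle h3.le)
    have hXcl := hsub X hXt
    have hzX : Subgroup.zpowers x ≤ X := by rw [hX]; exact le_sup_left
    have hNX : N ≤ X := by rw [hX]; exact le_sup_right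
    have hzp : IsPGroup p ((Subgroup.zpowers x).subgroupOf X) :=
      (P.isPGroup'.to_le hzle).comap_subtype
    obtain ⟨S, hS⟩ := hzp.exists_le_sylow
    have hSn : (S : Subgroup X).Normal := hXcl S
    have hNXn : (N.subgroupOf X).Normal := inferInstance
    have hdisj : Disjoint (S : Subgroup X) (N.subgroupOf X) := by
      apply Subgroup.disjoint_of_coprime_natCard
      obtain ⟨j, hj⟩ := S.isPGroup'.exists_card_eq
      rw [hj, card_subgroupOf_of_le hNX]
      exact Nat.Coprime.pow_left _ ((Nat.Prime.coprime_iff_not_dvd hp).mpr hNp')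
    apply hxC
    rw [hC, Subgroup.mem_centralizer_iff]
    intro a ha
    have hxS : (⟨x, hzX (Subgroup.mem_zpowers x)⟩ : X) ∈ (S : Subgroup X) := by
      apply hS
      rw [Subgroup.mem_subgroupOf]
      exact Subgroup.mem_zpowers x
    have haN : (⟨a, hNX ha⟩ : X) ∈ N.subgroupOf X := by
      rw [Subgroup.mem_subgroupOf]; exact ha
    have := Subgroup.commute_of_normal_of_disjoint _ _ hSn hNXn hdisj _ _ hxS haN
    exact (congrArg Subtype.val this.eq).symm
  have hPcard : Nat.card (P : Subgroup G) = p := by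
    rw [← hzP, Nat.card_zpowers, hxo]
  have hNcard : Nat.card N = q ^ orderOf (q : ZMod p) := by
    apply card_of_irreducible_conj hp hq hqp N hNel x
    · rw [← hxo, pow_orderOf_eq_one]; exact one_mem _
    · rw [← hC]; exact hxC
    · intro B hBN hBx
      have hBn : B.Normal := by
        apply Subgroup.normalizer_eq_top_iff.mp
        rw [eq_top_iff, ← hsup N hNn hNb, ← hzP]
        apply sup_le
        · rw [Subgroup.zpowers_le]
          exact mem_normalizer_of_conj_mem B x hBx
        · intro a ha
          rw [Subgroup.mem_normalizer_iff]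
          intro b
          constructor
          · intro hb
            rw [hNcomm a ha b (hBN hb), mul_inv_cancel_right]; exact hb
          · intro hb
            have hb' : b ∈ N := by
              have h1 := hBN hb
              have h2 := hNn.conj_mem _ h1 a⁻¹
              convert h2 using 1
              group
            rw [hNcomm a ha b hb', mul_inv_cancel_right] at hb; exact hb
      exact hmin B hBn hBN
  refine ⟨q, hq, hqp, ?_, N, hNn, hNcard, hNel, hmin⟩
  rw [hcard N hNn hNb hNt, hPcard, hNcard]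

end Cfsg.Agent.S3868
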