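import Cfsg.Statements.S0263
import Mathlib

set_option autoImplicit false
open Cfsg

namespace Cfsg.Agent.S0263

/-- A Sylow p-subgroup of GL_n(q), p the characteristic, has order q^(n(n-1)/2). -/
theorem result {F : Type*} [Field F] [Fintype F] {q : ℕ} (hF : Fintype.card F = q) (p : ℕ) [Fact p.Prime] [CharP F p] (n : ℕ) (P : Sylow p (Matrix.GeneralLinearGroup (Fin n) F)) : Nat.card P = q ^ (n * (n - 1) / 2) := by
  classical
  have hp : p.Prime := Fact.out
  obtain ⟨k, _, hk⟩ := FiniteField.card F p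
  rw [hF] at hk
  have hk1 : 1 ≤ (k : ℕ) := k.pos
  have hq1 : 1 ≤ q := by rw [hk]; exact Nat.one_le_pow _ _ hp.pos
  have hpq : p ∣ q := by rw [hk]; exact dvd_pow_self p (by omega)
  rw [Sylow.card_eq_multiplicity, Matrix.card_GL_field, hF]
  -- split the product
  have hsplit : ∀ i : Fin n, q ^ n - q ^ (i : ℕ) = q ^ (i : ℕ) * (q ^ (n - (i : ℕ)) - 1) := by
    intro i
    rw [Nat.mul_sub, mul_one, ← pow_add]
    congr 2
    have := i.2
    omega
  rw [Finset.prod_congr rfl (fun i _ => hsplit i), Finset.prod_mul_distrib, Finset.prod_pow_eq_pow_sum]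
  have hsum : ∑ i : Fin n, (i : ℕ) = n * (n - 1) / 2 := by
    rw [Fin.sum_univ_eq_sum_range (fun i => i) n, Finset.sum_range_id]
  rw [hsum]
  set m := ∏ i : Fin n, (q ^ (n - (i : ℕ)) - 1) with hm
  have hpm : ¬ p ∣ m := by
    rw [hm, Prime.dvd_finsetProd_iff hp.prime]
    rintro ⟨i, _, hi⟩
    have hi2 := i.2
    have h1 : p ∣ q ^ (n - (i : ℕ)) := dvd_trans hpq (dvd_pow_self q (by omega))
    have h2 : 1 ≤ q ^ (n - (i : ℕ)) := Nat.one_le_pow _ _ hq1
    have h3 : p ∣ q ^ (n - (i : ℕ)) - (q ^ (n - (i : ℕ)) - 1) := Nat.dvd_sub h1 hi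
    have h4 : q ^ (n - (i : ℕ)) - (q ^ (n - (i : ℕ)) - 1) = 1 := by omega
    rw [h4] at h3
    exact hp.one_lt.ne' (Nat.dvd_one.mp h3)
  have hm0 : m ≠ 0 := by
    intro h0
    apply hpm
    rw [h0]; exact dvd_zero p
  have hq0 : q ^ (n * (n - 1) / 2) ≠ 0 := by
    apply pow_ne_zero; omega
  rw [Nat.factorization_mul hq0 hm0, Finsupp.add_apply, Nat.factorization_eq_zero_of_not_dvd hpm,
    add_zero, hk, ← pow_mul, hp.factorization_pow, Finsupp.single_eq_same]

end Cfsg.Agent.S0263
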