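import Mathlib
import Cfsg.Statements.S4911
import Cfsg.Agent.Lib.helper3.RealInv3

set_option autoImplicit false
open Cfsg

namespace Cfsg.Agent.S4911

/-- Let P and K be subgroups of a finite group with P a p-group normalizing K and K of order prime to p. Then the number of P-invariant real-valued irreducible complex characters of K equals the number of conjugacy classes of K that are real (closed under inversion) and P-invariant. Moreover, if every real-valued irreducible character of K is P-invariant, then every real element of K (one conjugate in K to its inverse) is conjugate in K to an element centralized by P. -/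
theorem result {G : Type*} [Group G] [Finite G] (p : ℕ) [Fact p.Prime] (P K : Subgroup G) (hP : IsPGroup p ↥P) (hK : ¬ p ∣ Nat.card ↥K) (hPK : P ≤ Subgroup.normalizer (K : Set G)) : Nat.card {θ : Cfsg.IrrCharacter ↥K // (∀ k : ↥K, ((θ : ↥K → ℂ) k).im = 0) ∧ (∀ x ∈ P, ∀ k k' : ↥K, (k' : G) = x * (k : G) * x⁻¹ → (θ : ↥K → ℂ) k' = (θ : ↥K → ℂ) k)} = Nat.card {c : ConjClasses ↥K // (∀ k : ↥K, ConjClasses.mk k = c → IsConj k k⁻¹) ∧ ∀ k : ↥K, ConjClasses.mk k = c → ∀ x ∈ P, ∀ k' : ↥K, (k' : G) = x * (k : G) * x⁻¹ → ConjClasses.mk k' = c} ∧ ((∀ θ : Cfsg.IrrCharacter ↥K, (∀ k : ↥K, ((θ : ↥K → ℂ) k).im = 0) → (∀ x ∈ P, ∀ k k' : ↥K, (k' : G) = x * (k : G) * x⁻¹ → (θ : ↥K → ℂ) k' = (θ : ↥K → ℂ) k)) → ∀ k : ↥K, IsConj k k⁻¹ → ∃ k' : ↥K, IsConj k k' ∧ ∀ x ∈ P, x * (k' : G) * x⁻¹ = (k' : G)) := by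
  classical
  obtain ⟨C, hC⟩ : ∃ C : Subgroup G, C = K ⊓ Subgroup.centralizer (P : Set G) := ⟨_, rfl⟩
  have hmain : Nat.card {θ : Cfsg.IrrCharacter ↥K // (∀ k : ↥K, ((θ : ↥K → ℂ) k).im = 0) ∧
      (∀ x ∈ P, ∀ k k' : ↥K, (k' : G) = x * (k : G) * x⁻¹ → (θ : ↥K → ℂ) k' = (θ : ↥K → ℂ) k)}
      = Nat.card {c : ConjClasses ↥K // (∀ k : ↥K, ConjClasses.mk k = c → IsConj k k⁻¹) ∧
        ∀ k : ↥K, ConjClasses.mk k = c → ∀ x ∈ P, ∀ k' : ↥K, (k' : G) = x * (k : G) * x⁻¹ →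
          ConjClasses.mk k' = c} := by
    rw [Cfsg.Agent.Lib.helper3.RealInv.card_real_invariant_irr p P K hP hK hPK C hC,
      Cfsg.Agent.Lib.helper3.Irr.card_real_irr_eq_card_real_classes,
      Cfsg.Agent.Lib.helper3.RealInv.card_real_classes p P K hP hK hPK C hC]
  refine ⟨hmain, ?_⟩
  intro hall k hk
  -- all real classes are invariant, by counting
  have hcard1 : Nat.card {θ : Cfsg.IrrCharacter ↥K // (∀ k : ↥K, ((θ : ↥K → ℂ) k).im = 0) ∧
      (∀ x ∈ P, ∀ k k' : ↥K, (k' : G) = x * (k : G) * x⁻¹ → (θ : ↥K → ℂ) k' = (θ : ↥K → ℂ) k)}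
      = Nat.card {θ : Cfsg.IrrCharacter ↥K // ∀ k : ↥K, ((θ : ↥K → ℂ) k).im = 0} := by
    apply Nat.card_congr
    apply Equiv.subtypeEquivRight
    intro θ
    constructor
    · intro h
      exact h.1
    · intro h
      exact ⟨h, hall θ h⟩
  have hcard2 : Nat.card {c : ConjClasses ↥K // (∀ k : ↥K, ConjClasses.mk k = c → IsConj k k⁻¹) ∧
        ∀ k : ↥K, ConjClasses.mk k = c → ∀ x ∈ P, ∀ k' : ↥K, (k' : G) = x * (k : G) * x⁻¹ →
          ConjClasses.mk k' = c}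
      = Nat.card {c : ConjClasses ↥K // Cfsg.Agent.Lib.helper3.Irr.IsRealClass c} := by
    rw [← hmain, hcard1, Cfsg.Agent.Lib.helper3.Irr.card_real_irr_eq_card_real_classes]
  have hinj : Function.Injective (fun c : {c : ConjClasses ↥K //
      (∀ k : ↥K, ConjClasses.mk k = c → IsConj k k⁻¹) ∧
        ∀ k : ↥K, ConjClasses.mk k = c → ∀ x ∈ P, ∀ k' : ↥K, (k' : G) = x * (k : G) * x⁻¹ →
          ConjClasses.mk k' = c} =>
      (⟨c.1, c.2.1⟩ : {c : ConjClasses ↥K // Cfsg.Agent.Lib.helper3.Irr.IsRealClass c})) := by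
    intro c c' h
    have := congrArg Subtype.val h
    exact Subtype.ext this
  have hbij := hinj.bijective_of_nat_card_le (le_of_eq hcard2.symm)
  obtain ⟨⟨c, hc1, hc2⟩, hc⟩ := hbij.2 ⟨ConjClasses.mk k,
    (Cfsg.Agent.Lib.helper3.Irr.isRealClass_mk_iff k).mpr hk⟩
  have hceq : c = ConjClasses.mk k := congrArg Subtype.val hc
  subst hceq
  have hinv' : ∀ x ∈ P, ∀ k' : ↥K, (k' : G) = x * (k : G) * x⁻¹ → IsConj k k' := by
    intro x hx k' hk'
    have := hc2 k rfl x hx k' hk'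
    rw [ConjClasses.mk_eq_mk_iff_isConj] at this
    exact this.symm
  exact Cfsg.Agent.Lib.helper3.RealInv.exists_fixed_in_class p P K hP hK hPK k hinv'


end Cfsg.Agent.S4911
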