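import Mathlib
import Cfsg.Statements.S1280
import Cfsg.Agent.H2.CosetFixedPoint
import Cfsg.Agent.H1.Cores

set_option autoImplicit false
open Cfsg
open scoped Pointwise

namespace Cfsg.Agent.S1280

open Cfsg.Agent.H2

theorem mem_normalizer_of_conj_mem {G : Type*} [Group G] (M : Subgroup G) (b : G)
    (h1 : ∀ x ∈ M, b * x * b⁻¹ ∈ M) (h2 : ∀ x ∈ M, b⁻¹ * x * b⁻¹⁻¹ ∈ M) :
    b ∈ Subgroup.normalizer (M : Set G) := by
  rw [Subgroup.mem_normalizer_iff]
  intro x
  constructor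
  · exact h1 x
  · intro hx
    have := h2 _ hx
    have e : b⁻¹ * (b * x * b⁻¹) * b⁻¹⁻¹ = x := by group
    rwa [e] at this

/-- Let θ be a solvable A-signalizer functor (A a noncyclic elementary abelian p-subgroup of the finite group G), and X, Y members of its family with Y ≤ N_G(X). Then X ⊔ Y (= XY) is again in the family. -/
theorem result {G : Type*} [Group G] [Finite G] (p : ℕ) [Fact p.Prime] (A : Subgroup G) (hA : Cfsg.IsElementaryAbelian p A) (hA2 : p ^ 2 ≤ Nat.card ↥A) (θ : G → Subgroup G) (hθ : Cfsg.IsSolvableSignalizerFunctor p A θ) (X Y : Subgroup G) (hX : X ∈ Cfsg.signalizerFamily p A θ) (hY : Y ∈ Cfsg.signalizerFamily p A θ) (hn : Y ≤ Subgroup.normalizer (X : Set G)) : X ⊔ Y ∈ Cfsg.signalizerFamily p A θ := by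
  obtain ⟨hXs, hXp, hXinv, hXc⟩ := hX
  obtain ⟨hYs, hYp, hYinv, hYc⟩ := hY
  have hXle : X ≤ X ⊔ Y := le_sup_left
  have hYle : Y ≤ X ⊔ Y := le_sup_right
  have hXn : (X.subgroupOf (X ⊔ Y)).Normal :=
    (Subgroup.normal_subgroupOf_iff_le_normalizer hXle).2 (sup_le Subgroup.le_normalizer hn)
  have hcoe : ((X ⊔ Y : Subgroup G) : Set G) = (X : Set G) * (Y : Set G) :=
    Subgroup.coe_mul_of_right_le_normalizer_left X Y hn
  refine ⟨?_, ?_, ?_, ?_⟩
  · -- solvable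
    let f : X →* (X ⊔ Y : Subgroup G) := Subgroup.inclusion hXle
    let g : (X ⊔ Y : Subgroup G) →* (X ⊔ Y : Subgroup G) ⧸ X.subgroupOf (X ⊔ Y) := QuotientGroup.mk' _
    have hquot : Group.IsSolvable ((X ⊔ Y : Subgroup G) ⧸ X.subgroupOf (X ⊔ Y)) := by
      let h : Y →* (X ⊔ Y : Subgroup G) ⧸ X.subgroupOf (X ⊔ Y) := g.comp (Subgroup.inclusion hYle)
      have hh : Function.Surjective h := by
        intro q
        obtain ⟨⟨z, hz⟩, rfl⟩ := QuotientGroup.mk'_surjective _ q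
        have hz' : z ∈ ((X ⊔ Y : Subgroup G) : Set G) := hz
        rw [hcoe] at hz'
        obtain ⟨x, hx, y, hy, rfl⟩ := Set.mem_mul.1 hz'
        refine ⟨⟨y, hy⟩, ?_⟩
        show g ⟨y, _⟩ = g ⟨x * y, hz⟩
        rw [QuotientGroup.mk'_eq_mk']
        refine ⟨⟨y⁻¹ * x * y, ?_⟩, ?_, ?_⟩
        · exact (X ⊔ Y).mul_mem ((X ⊔ Y).mul_mem ((X ⊔ Y).inv_mem (hYle hy)) (hXle hx)) (hYle hy)
        · rw [Subgroup.mem_subgroupOf]
          have := (Subgroup.mem_normalizer_iff.1 (hn (Y.inv_mem hy)) x).1 hx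
          simpa using this
        · apply Subtype.ext
          show y * (y⁻¹ * x * y) = x * y
          group
      exact Group.isSolvable_of_surjective hh
    apply Group.isSolvable_of_ker_le_range f g
    intro z hz
    rw [QuotientGroup.ker_mk', Subgroup.mem_subgroupOf] at hz
    exact ⟨⟨z, hz⟩, Subtype.ext rfl⟩
  · -- order prime to p
    have h1 := Cfsg.Agent.H1.card_sup_dvd_of_normal (Y.subgroupOf (X ⊔ Y)) (X.subgroupOf (X ⊔ Y))
    have h2 : Y.subgroupOf (X ⊔ Y) ⊔ X.subgroupOf (X ⊔ Y) = ⊤ := by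
      rw [sup_comm]
      exact codisjoint_iff.1 (Subgroup.codisjoint_subgroupOf_sup _ _)
    rw [h2, Subgroup.card_top, Nat.card_congr (Subgroup.subgroupOfEquivOfLe hYle).toEquiv,
      Nat.card_congr (Subgroup.subgroupOfEquivOfLe hXle).toEquiv] at h1
    intro hp
    rcases (Nat.Prime.dvd_mul Fact.out).1 (hp.trans h1) with h | h
    · exact hYp h
    · exact hXp h
  · -- A-invariance
    intro b hb u hu
    have hu' : u ∈ ((X ⊔ Y : Subgroup G) : Set G) := hu
    rw [hcoe] at hu'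
    obtain ⟨x, hx, y, hy, rfl⟩ := Set.mem_mul.1 hu'
    have : b * (x * y) * b⁻¹ = (b * x * b⁻¹) * (b * y * b⁻¹) := by group
    rw [this]
    exact (X ⊔ Y).mul_mem (hXle (hXinv b hb x hx)) (hYle (hYinv b hb y hy))
  · -- centralizers
    intro a ha ha1
    rintro g ⟨hg, hga⟩
    have hga : g ∈ Subgroup.centralizer {a} := hga
    rw [Subgroup.mem_centralizer_singleton_iff] at hga
    have hg' : g ∈ ((X ⊔ Y : Subgroup G) : Set G) := hg
    rw [hcoe] at hg'
    obtain ⟨x, hx, y, hy, rfl⟩ := Set.mem_mul.1 hg'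
    have hx : x ∈ X := hx
    have hy : y ∈ Y := hy
    have hainv : a⁻¹ ∈ A := A.inv_mem ha
    set M := X ⊓ Y with hM
    have haM : a ∈ Subgroup.normalizer (M : Set G) := by
      apply mem_normalizer_of_conj_mem
      · intro m hm
        exact ⟨hXinv a ha m hm.1, hYinv a ha m hm.2⟩
      · intro m hm
        exact ⟨hXinv a⁻¹ hainv m hm.1, hYinv a⁻¹ hainv m hm.2⟩
    have hfix : a * (x * y) * a⁻¹ = x * y := by
      calc a * (x * y) * a⁻¹ = (x * y * a) * a⁻¹ := by rw [hga]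
        _ = x * y := by group
    have hay : y⁻¹ * a * y * a⁻¹ ∈ M := by
      have hax : a * x * a⁻¹ ∈ X := hXinv a ha x hx
      have hay' : a * y * a⁻¹ ∈ Y := hYinv a ha y hy
      -- (a y a⁻¹) y⁻¹ = (a x a⁻¹)⁻¹ x ∈ X ∩ Y
      have e1 : (a * y * a⁻¹) * y⁻¹ = (a * x * a⁻¹)⁻¹ * x := by
        have : (a * x * a⁻¹) * (a * y * a⁻¹) = x * y := by rw [← hfix]; group
        calc (a * y * a⁻¹) * y⁻¹ = (a * x * a⁻¹)⁻¹ * ((a * x * a⁻¹) * (a * y * a⁻¹)) * y⁻¹ := by group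
          _ = (a * x * a⁻¹)⁻¹ * (x * y) * y⁻¹ := by rw [this]
          _ = (a * x * a⁻¹)⁻¹ * x := by group
      have h1 : (a * y * a⁻¹) * y⁻¹ ∈ M :=
        ⟨e1 ▸ X.mul_mem (X.inv_mem hax) hx, Y.mul_mem hay' (Y.inv_mem hy)⟩
      have e2 : y⁻¹ * a * y * a⁻¹ = y⁻¹ * ((a * y * a⁻¹) * y⁻¹) * y⁻¹⁻¹ := by group
      rw [e2]
      refine ⟨?_, Y.mul_mem (Y.mul_mem (Y.inv_mem hy) h1.2) (Y.inv_mem (Y.inv_mem hy))⟩
      exact (Subgroup.mem_normalizer_iff.1 (hn (Y.inv_mem hy)) _).1 h1.1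
    have hBle : Subgroup.zpowers a ≤ cosetStab M y := by
      rw [Subgroup.zpowers_le]
      exact ⟨haM, hay⟩
    have hBp : IsPGroup p (Subgroup.zpowers a) := by
      rintro ⟨z, hz⟩
      refine ⟨1, ?_⟩
      apply Subtype.ext
      obtain ⟨k, rfl⟩ := Subgroup.mem_zpowers_iff.1 hz
      show (a ^ k) ^ p ^ 1 = 1
      rw [pow_one, ← zpow_natCast, ← zpow_mul, mul_comm, zpow_mul, zpow_natCast, hA.2 a ha, one_zpow]
    have hMp : ¬ p ∣ Nat.card M := fun h => hXp (h.trans (Subgroup.card_dvd_of_le inf_le_left))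
    obtain ⟨m, hm, hfixm⟩ := exists_mem_coset_fixed (Subgroup.zpowers a) M hBp hMp y hBle
    have hfixa := hfixm a (Subgroup.mem_zpowers a)
    have hy' : y * m ∈ θ a := by
      apply hYc a ha ha1
      refine ⟨Y.mul_mem hy hm.2, ?_⟩
      show y * m ∈ Subgroup.centralizer {a}
      rw [Subgroup.mem_centralizer_singleton_iff]
      symm
      calc a * (y * m) = (a * (y * m) * a⁻¹) * a := by group
        _ = y * m * a := by rw [hfixa]
    have hx' : x * (y * m⁻¹ * y⁻¹) ∈ θ a := by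
      apply hXc a ha ha1
      refine ⟨X.mul_mem hx ?_, ?_⟩
      · have := (Subgroup.mem_normalizer_iff.1 (hn hy) m⁻¹).1 (X.inv_mem hm.1)
        exact this
      · show x * (y * m⁻¹ * y⁻¹) ∈ Subgroup.centralizer {a}
        rw [Subgroup.mem_centralizer_singleton_iff]
        have e : x * (y * m⁻¹ * y⁻¹) = (x * y) * (y * m)⁻¹ := by group
        rw [e]
        have h1 : a * (y * m)⁻¹ = (y * m)⁻¹ * a := by
          calc a * (y * m)⁻¹ = (a * (y * m) * a⁻¹)⁻¹ * a := by group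
            _ = (y * m)⁻¹ * a := by rw [hfixa]
        calc x * y * (y * m)⁻¹ * a = x * y * ((y * m)⁻¹ * a) := by group
          _ = x * y * (a * (y * m)⁻¹) := by rw [h1]
          _ = (x * y * a) * (y * m)⁻¹ := by group
          _ = (a * (x * y)) * (y * m)⁻¹ := by rw [hga]
          _ = a * (x * y * (y * m)⁻¹) := by group
    have e : x * y = (x * (y * m⁻¹ * y⁻¹)) * (y * m) := by group
    rw [e]
    exact (θ a).mul_mem hx' hy'

end Cfsg.Agent.S1280
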