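import Mathlib
import Cfsg.Statements.S1282
import Cfsg.Agent.H2.HyperplaneGen

set_option autoImplicit false
open Cfsg

namespace Cfsg.Agent.S1282

open Cfsg.Agent.H2.HyperGen

/-- an invariant `p'`-subgroup not contained in `D` has fixed points of some hyperplane outside `D` -/
theorem exists_hyperplane_not_le {H : Type*} [Group H] [Finite H] {p : ℕ} [Fact p.Prime]
    (A N D : Subgroup H) (hA : Cfsg.IsElementaryAbelian p A) (hpN : ¬ p ∣ Nat.card N)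
    (hAN : A ≤ Subgroup.normalizer (N : Set H)) (hND : ¬ N ≤ D) :
    ∃ B : Subgroup H, B ≤ A ∧ B.relIndex A ≤ p ∧
      ¬ (N ⊓ Subgroup.centralizer (B : Set H) ≤ D) := by
  by_contra hcon
  push Not at hcon
  apply hND
  rw [eq_hyperGen A N hA hpN hAN]
  unfold hyperGen
  apply iSup_le
  rintro ⟨B, hBA, hBind⟩
  exact hcon B hBA hBind

/-- in a `q`-group `Q`, a proper subgroup `D` is properly contained in its normalizer in `Q` -/
theorem normalizer_inf_not_le {G : Type*} [Group G] [Finite G] (q : ℕ) [Fact q.Prime]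
    (Q D : Subgroup G) (hQ : IsPGroup q ↥Q) (hDQ : D ≤ Q) (hne : D ≠ Q) :
    ¬ (Subgroup.normalizer (D : Set G) ⊓ Q ≤ D) := by
  intro hle
  have hnil : Group.IsNilpotent ↥Q := hQ.isNilpotent
  have hnc := Group.normalizerCondition_of_isNilpotent (G := ↥Q)
  have hlt : D.subgroupOf Q < ⊤ := by
    refine lt_of_le_of_ne le_top ?_
    intro h
    rw [Subgroup.subgroupOf_eq_top] at h
    exact hne (le_antisymm hDQ h)
  have h1 := hnc _ hlt
  rw [← Subgroup.subgroupOf_normalizer_eq hDQ] at h1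
  apply h1.ne'
  apply le_antisymm
  · intro x hx
    rw [Subgroup.mem_subgroupOf] at hx ⊢
    exact hle (Subgroup.mem_inf.2 ⟨hx, x.2⟩)
  · exact h1.le

/-- Let A be an elementary abelian p-subgroup of rank at least 3 of the finite group G, q ≠ p a prime, and Q₁, Q₂ q-subgroups normalized by A with D = Q₁ ∩ Q₂ different from both. Then there is a non-identity a ∈ A such that, for i = 1 and i = 2, N_{Q_i}(D) ∩ C_G(a) is not contained in D. -/
theorem result {G : Type*} [Group G] [Finite G] (p : ℕ) [Fact p.Prime] (A : Subgroup G) (hA : Cfsg.IsElementaryAbelian p A) (hA3 : p ^ 3 ≤ Nat.card ↥A) (q : ℕ) [Fact q.Prime] (hqp : q ≠ p) (Q₁ Q₂ : Subgroup G) (h₁ : IsPGroup q ↥Q₁) (h₂ : IsPGroup q ↥Q₂) (hA₁ : A ≤ Subgroup.normalizer (Q₁ : Set G)) (hA₂ : A ≤ Subgroup.normalizer (Q₂ : Set G)) (hD₁ : Q₁ ⊓ Q₂ ≠ Q₁) (hD₂ : Q₁ ⊓ Q₂ ≠ Q₂) : ∃ a ∈ A, a ≠ 1 ∧ ¬ (Subgroup.normalizer ((Q₁ ⊓ Q₂ : Subgroup G) :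 Set G) ⊓ Q₁ ⊓ Subgroup.centralizer {a} ≤ Q₁ ⊓ Q₂) ∧ ¬ (Subgroup.normalizer ((Q₁ ⊓ Q₂ : Subgroup G) : Set G) ⊓ Q₂ ⊓ Subgroup.centralizer {a} ≤ Q₁ ⊓ Q₂) := by
  classical
  have hp := (Fact.out : p.Prime)
  have hq := (Fact.out : q.Prime)
  -- `A` normalizes `D` and its normalizer
  have hAD : A ≤ Subgroup.normalizer ((Q₁ ⊓ Q₂ : Subgroup G) : Set G) :=
    le_normalizer_inf A Q₁ Q₂ hA₁ hA₂
  have hANN : A ≤ Subgroup.normalizer
      ((Subgroup.normalizer ((Q₁ ⊓ Q₂ : Subgroup G) : Set G) : Subgroup G) : Set G) :=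
    hAD.trans Subgroup.le_normalizer
  have hAN₁ := le_normalizer_inf A _ Q₁ hANN hA₁
  have hAN₂ := le_normalizer_inf A _ Q₂ hANN hA₂
  -- orders prime to `p`
  have hcop : ∀ Q N : Subgroup G, IsPGroup q ↥Q → N ≤ Q → ¬ p ∣ Nat.card ↥N := by
    intro Q N hQ hNQ hdvd
    obtain ⟨n, hn⟩ := IsPGroup.exists_card_eq hQ
    have h1 : p ∣ q ^ n := hn ▸ hdvd.trans (Subgroup.card_dvd_of_le hNQ)
    have h2 := (Nat.prime_dvd_prime_iff_eq hp hq).1 (hp.dvd_of_dvd_pow h1)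
    exact hqp h2.symm
  obtain ⟨B₁, hB₁A, hB₁ind, hB₁⟩ := exists_hyperplane_not_le A _ (Q₁ ⊓ Q₂) hA
    (hcop Q₁ _ h₁ inf_le_right) hAN₁ (normalizer_inf_not_le q Q₁ _ h₁ inf_le_left hD₁)
  obtain ⟨B₂, hB₂A, hB₂ind, hB₂⟩ := exists_hyperplane_not_le A _ (Q₁ ⊓ Q₂) hA
    (hcop Q₂ _ h₂ inf_le_right) hAN₂ (normalizer_inf_not_le q Q₂ _ h₂ inf_le_right hD₂)
  -- `B₁ ⊓ B₂` is nontrivial
  have hne : B₁ ⊓ B₂ ≠ ⊥ := by
    intro hbot
    have h1 : (B₁ ⊓ B₂).relIndex A ≤ p * p :=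
      (Subgroup.relIndex_inf_le).trans (Nat.mul_le_mul hB₁ind hB₂ind)
    rw [hbot, Subgroup.relIndex_bot_left] at h1
    have h2 : p ^ 3 = p * p * p := by ring
    have h3 : p * p < p * p * p := by
      have := hp.one_lt
      have hpp : 0 < p * p := Nat.mul_pos hp.pos hp.pos
      nlinarith
    omega
  obtain ⟨a, ha, ha1⟩ := (Subgroup.bot_or_exists_ne_one (B₁ ⊓ B₂)).resolve_left hne
  have hcent : ∀ B : Subgroup G, (a : G) ∈ B →
      Subgroup.centralizer (B : Set G) ≤ Subgroup.centralizer {(a : G)} := by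
    intro B haB
    apply Subgroup.centralizer_le
    intro x hx
    rw [Set.mem_singleton_iff] at hx
    rw [hx]; exact haB
  refine ⟨a, hB₁A (Subgroup.mem_inf.1 ha).1, ha1, ?_, ?_⟩
  · intro hle
    exact hB₁ (le_trans (inf_le_inf_left _ (hcent B₁ (Subgroup.mem_inf.1 ha).1)) hle)
  · intro hle
    exact hB₂ (le_trans (inf_le_inf_left _ (hcent B₂ (Subgroup.mem_inf.1 ha).2)) hle)

end Cfsg.Agent.S1282
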