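import Cfsg.Statements.S0625
import Mathlib
import Cfsg.Prelude.Def_Transfer
import Cfsg.Prelude.Def_PLocal
import Cfsg.Agent.H1.QuadThree
import Cfsg.Agent.H1.QuadStable5

set_option autoImplicit false
open Cfsg

namespace Cfsg.Agent.S0625

set_option autoImplicit false
set_option linter.style.haveILetI false
set_option linter.unusedVariables false
set_option linter.unusedSectionVars false
open scoped commutatorElement Pointwise
open H1

/-- A p-separable group with p at least 5 is p-stable in the action sense. -/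
theorem result {G : Type*} [Group G] [Finite G] {p : ℕ} [Fact p.Prime] (hp : 5 ≤ p) (hsep : Cfsg.IsPSolvable p G) : Cfsg.IsActionPStable p G := by
  classical
  refine ⟨?_, ?_, ?_⟩
  · intro V _ hV
    exact isPStableOn_of_pSolvable hp hsep V hV
  · have hKp : IsPGroup p ↥(Cfsg.pCore p G) := Cfsg.Agent.H1.pCore_isPGroup p
    apply isPStableOnSection_of_pSolvable hp hsep
    · rw [← Subgroup.map_subtype_commutator]
      apply Subgroup.map_mono
      haveI : Group.IsNilpotent ↥(Cfsg.pCore p G) := hKp.isNilpotent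
      exact commutator_le_frattini_of_nilpotent
    · intro x hx
      exact ⟨⟨x, hx⟩ ^ p, pow_p_mem_frattini hKp ⟨x, hx⟩, rfl⟩
  · intro S V _ hVle
    apply isPStableOn_of_pSolvable hp (Cfsg.Agent.Lib.Lead.PSolvable.IsPSolvable.subgroup _ hsep) V
    have hel := omegaOne_elementary p
      (Cfsg.thompsonSubgroup p ↥(S : Subgroup G) ⊓ Subgroup.centralizer (Cfsg.thompsonSubgroup p ↥(S : Subgroup G) : Set ↥(S : Subgroup G)))
      (fun x hx y hy => (Subgroup.mem_centralizer_iff.mp hy.2 x hx.1))
    have hVmem : ∀ u ∈ V, ∃ z ∈ Cfsg.omegaCenterThompson p ↥(S : Subgroup G), (z : G) = ((u : ↥(Subgroup.normalizer (Cfsg.thompsonSubgroupOf p (S : Subgroup G) : Set G))) : G) := by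
      intro u hu
      obtain ⟨z, hz, hzu⟩ := hVle ⟨u, hu, rfl⟩
      exact ⟨z, hz, hzu⟩
    constructor
    · refine ⟨⟨fun u v => ?_⟩⟩
      obtain ⟨zu, hzu, hu⟩ := hVmem u.1 u.2
      obtain ⟨zv, hzv, hv⟩ := hVmem v.1 v.2
      apply Subtype.ext
      apply Subtype.ext
      show ((u.1 : ↥(Subgroup.normalizer (Cfsg.thompsonSubgroupOf p (S : Subgroup G) : Set G))) : G) * (v.1 : G) = (v.1 : G) * (u.1 : G)
      rw [← hu, ← hv]
      have := hel.1 zu hzu zv hzv
      exact congrArg Subtype.val this
    · intro u hu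
      obtain ⟨zu, hzu, hu'⟩ := hVmem u hu
      apply Subtype.ext
      rw [Subgroup.coe_pow, Subgroup.coe_one, ← hu']
      have := hel.2 zu hzu
      exact congrArg Subtype.val this

end Cfsg.Agent.S0625
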