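import Cfsg.Statements.S3969
import Mathlib
import Cfsg.Agent.H1.AbelianRank
import Cfsg.Prelude.Def_Transfer

set_option autoImplicit false
open Cfsg

namespace Cfsg.Agent.S3969

set_option autoImplicit false
open scoped Pointwise commutatorElement
open H1

/-- Let `P` be an abelian Sylow `p`-subgroup of the finite group `G`, generated by `d` elements (`d` its minimal number of generators). If the order of `G` is coprime to `(p - 1)(p ^ 2 - 1) ⋯ (p ^ d - 1)`, then `G` has a normal `p`-complement. (The classical statement needs only the largest number of cyclic factors of `P` of equal order in place of `d`; the form here follows from it.) -/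
theorem result {G : Type*} [Group G] [Finite G] (p : ℕ) [Fact p.Prime] (P : Sylow p G) (hab : IsMulCommutative (P : Subgroup G)) (hcop : Nat.Coprime (Nat.card G) (∏ i ∈ Finset.Icc 1 (Group.rank (P : Subgroup G)), (p ^ i - 1))) : Cfsg.HasNormalPComplement p G := by
  classical
  have hpp : p.Prime := Fact.out
  have hNC : Subgroup.normalizer ((P : Subgroup G) : Set G) ≤ Subgroup.centralizer ((P : Subgroup G) : Set G) := by
    by_contra hcon
    set N := Subgroup.normalizer ((P : Subgroup G) : Set G) with hN
    set C' : Subgroup N := (Subgroup.centralizer ((P : Subgroup G) : Set G)).subgroupOf N with hC'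
    have hC'ne : C'.index ≠ 1 := by
      intro h
      apply hcon
      exact Subgroup.subgroupOf_eq_top.mp (Subgroup.index_eq_one.mp h)
    set q := C'.index.minFac with hqdef
    have hq : q.Prime := Nat.minFac_prime hC'ne
    haveI : Fact q.Prime := ⟨hq⟩
    have hqdvd : q ∣ C'.index := Nat.minFac_dvd _
    have hPC : (P : Subgroup G) ≤ Subgroup.centralizer ((P : Subgroup G) : Set G) := by
      intro x hx
      rw [Subgroup.mem_centralizer_iff]
      intro y hy
      exact setLike_mul_comm hy hx
    have hqp : q ≠ p := by
      intro h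
      have h1 : C'.index ∣ ((P : Subgroup G).subgroupOf N).index :=
        Subgroup.index_dvd_of_le (Subgroup.subgroupOf_mono N hPC)
      have h2 : ((P : Subgroup G).subgroupOf N).index ∣ (P : Subgroup G).index :=
        Subgroup.relIndex_dvd_index_of_le Subgroup.le_normalizer
      have h3 : ¬ p ∣ (P : Subgroup G).index := P.not_dvd_index
      have h4 : q ∣ (P : Subgroup G).index := hqdvd.trans (h1.trans h2)
      rw [h] at h4
      exact h3 h4
    have hqG : q ∣ Nat.card G :=
      hqdvd.trans ((Subgroup.index_dvd_card C').trans (Subgroup.card_subgroup_dvd_card N))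
    obtain ⟨Q⟩ : Nonempty (Sylow q N) := inferInstance
    set A : Subgroup G := (Q : Subgroup N).map N.subtype with hAdef
    have hA : IsPGroup q A := Q.2.map _
    have hAN : A ≤ N := Subgroup.map_subtype_le _
    have hAnc : ¬ A ≤ Subgroup.centralizer ((P : Subgroup G) : Set G) := by
      intro h
      have h1 : (Q : Subgroup N) ≤ C' := by
        intro x hx
        rw [hC', Subgroup.mem_subgroupOf]
        exact h ⟨x, hx, rfl⟩
      have h2 : C'.index ∣ (Q : Subgroup N).index := Subgroup.index_dvd_of_le h1
      exact Q.not_dvd_index (hqdvd.trans h2)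
    obtain ⟨k, hk1, hkr, hqk⟩ := exists_dvd_pow_sub_one_of_not_centralize hqp (P : Subgroup G) A hab P.2 hA hAN hAnc
      (Group.rank (P : Subgroup G)) (by
        intro W hWP hW
        have h1 := card_le_pow_rank_of_exponent (P := (P : Subgroup G))
          (fun x y => hab.is_comm.comm x y) p (W.subgroupOf (P : Subgroup G)) (by
            intro w hw
            apply Subtype.ext
            rw [Subgroup.mem_subgroupOf] at hw
            simpa using hW _ hw)
        rwa [Nat.card_congr (Subgroup.subgroupOfEquivOfLe hWP).toEquiv] at h1)
    have h1 : p ^ k - 1 ∣ ∏ i ∈ Finset.Icc 1 (Group.rank (P : Subgroup G)), (p ^ i - 1) :=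
      Finset.dvd_prod_of_mem _ (Finset.mem_Icc.mpr ⟨hk1, hkr⟩)
    have h2 : q ∣ 1 := by
      have := Nat.dvd_gcd hqG (hqk.trans h1)
      rwa [Nat.Coprime.gcd_eq_one hcop] at this
    exact hq.one_lt.ne' (Nat.dvd_one.mp h2)
  exact ⟨P, _, inferInstance, MonoidHom.ker_transferSylow_isComplement' P hNC⟩

end Cfsg.Agent.S3969
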