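import Cfsg.Statements.S0624
import Mathlib
import Cfsg.Prelude.Def_PLocal
import Cfsg.Agent.H1.Basic
import Cfsg.Agent.H1.Cores
import Cfsg.Agent.H1.Thompson
import Cfsg.Agent.H1.StableNormalClosure
import Cfsg.Agent.H1.SncQuad
import Cfsg.Agent.H1.ThompsonNPC
import Cfsg.Agent.H1.QuadStable
import Cfsg.Agent.S0607
import Cfsg.Agent.S0029
import Cfsg.Agent.H1.SncNormal

set_option autoImplicit false
open Cfsg

namespace Cfsg.Agent.S0624

set_option autoImplicit false
set_option linter.style.haveILetI false
set_option linter.unusedVariables false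
set_option linter.unusedSectionVars false
open scoped commutatorElement
open H1

/-- The analogue of the ZJ-Theorem: in an action-p-stable group whose largest normal p-subgroup contains its centralizer, the characteristic subgroup W(S) of a Sylow p-subgroup S is normal. -/
theorem result {G : Type*} [Group G] [Finite G] {p : ℕ} [Fact p.Prime] (hst : Cfsg.IsActionPStable p G) (hc : Subgroup.centralizer (Cfsg.pCore p G : Set G) ≤ Cfsg.pCore p G) (S : Sylow p G) : (((Cfsg.stableNormalClosure p ↥(S : Subgroup G)).map (S : Subgroup G).subtype)).Normal := by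
  obtain ⟨h1, h2, h3⟩ := hst
  apply snc_normal_core S hc h1 ?_ (h3 S)
  intro z hz
  apply mem_pCore_of_quad_frattini_section hc h2
  rw [quad_of_mem_omegaCenterThompson S _ (pCore_le_sylow S) z hz]
  exact bot_le

end Cfsg.Agent.S0624
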