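import Mathlib
import Cfsg.Statements.S4456
import Cfsg.Agent.Lib.helper3.PRes2
import Cfsg.Agent.Lib.helper3.Irr8

set_option autoImplicit false
open Cfsg

namespace Cfsg.Agent.S4456

open Cfsg.Agent.Lib.helper3.Irr Cfsg.Agent.Lib.helper3.PRes

/-- Let p be a prime and G a finite group such that p divides the degree of every irreducible character of G of degree greater than one. Then G has a normal p-complement: a normal subgroup of order prime to p whose index is a power of p. -/
theorem result {G : Type*} [Group G] [Finite G] (p : ℕ) (hp : p.Prime) (hdeg : ∀ χ : Cfsg.IrrCharacter G, Cfsg.charDegree (χ : G → ℂ) ≠ 1 → p ∣ Cfsg.charDegree (χ : G → ℂ)) : ∃ N : Subgroup G, N.Normal ∧ (Nat.card N).Coprime p ∧ ∃ k : ℕ, N.index = p ^ k := by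
  classical
  letI : Fintype G := Fintype.ofFinite G
  haveI hHn : (Cfsg.pResidual p G).Normal := Cfsg.Agent.H1.pResidual_normal p
  letI : Fintype (Cfsg.pResidual p G) := Fintype.ofFinite _
  obtain ⟨⟨k, hidx⟩, hcomm⟩ := pResidual_facts p hp (Cfsg.pResidual p G) rfl
  refine ⟨Cfsg.pResidual p G, hHn, ?_, k, hidx⟩
  rw [Nat.coprime_comm, Nat.Prime.coprime_iff_not_dvd hp]
  intro hdvd
  letI := conjAction (Cfsg.pResidual p G)
  choose deg hdegH using fun φ : Cfsg.IrrCharacter (Cfsg.pResidual p G) =>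
    Cfsg.Agent.Lib.helper3.Central.irr_degree_dvd_card φ.2
  have hsum : (∑ φ : Cfsg.IrrCharacter (Cfsg.pResidual p G), (deg φ : ℤ) ^ 2)
      = (Nat.card (Cfsg.pResidual p G) : ℤ) := by
    have h1 := sum_sq_degree (G := Cfsg.pResidual p G)
    have h2 : ((∑ φ : Cfsg.IrrCharacter (Cfsg.pResidual p G), (deg φ : ℤ) ^ 2 : ℤ) : ℂ)
        = ((Nat.card (Cfsg.pResidual p G) : ℤ) : ℂ) := by
      push_cast
      rw [← h1]
      apply Finset.sum_congr rfl
      intro φ _
      rw [(hdegH φ).1]
    exact_mod_cast h2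
  set w : Cfsg.IrrCharacter (Cfsg.pResidual p G) → ℤ :=
    fun φ => if deg φ = 1 then 0 else (deg φ : ℤ) ^ 2 with hw
  have hdeginv : ∀ (g : G) (φ : Cfsg.IrrCharacter (Cfsg.pResidual p G)), deg (g • φ) = deg φ := by
    intro g φ
    have h1 : ((deg (g • φ) : ℕ) : ℂ) = (deg φ : ℂ) := by
      rw [← (hdegH _).1, ← (hdegH _).1]
      exact conjAction_apply_one _ g φ
    exact_mod_cast h1
  have hwdvd : (p : ℤ) ∣ ∑ φ, w φ := by
    apply dvd_sum_of_orbits (Γ := G) p w
    · intro g φ
      simp only [hw, hdeginv]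
    · intro φ
      exact conjAction_card_orbit_pow _ p k hp hidx φ
    · intro φ hφ
      simp only [hw]
      split_ifs with h1
      · exact dvd_zero _
      · have hpd : p ∣ deg φ := by
          by_contra hpd
          obtain ⟨χ, ⟨hχ, hχH, _⟩, _⟩ := existsUnique_extension_pResidual p hp (Cfsg.pResidual p G) rfl
            (φ : Cfsg.pResidual p G → ℂ) φ.2 ((conjAction_fixed_iff _ φ).mp hφ) (deg φ) (hdegH φ).1 hpd
          have hχ1 : χ 1 = (deg φ : ℂ) := by
            rw [← (hdegH φ).1]
            exact hχH 1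
          have hcd : Cfsg.charDegree χ = deg φ := by
            unfold Cfsg.charDegree
            rw [hχ1]
            simp
          have := hdeg ⟨χ, hχ⟩ (by rw [hcd]; exact h1)
          rw [hcd] at this
          exact hpd this
        apply Dvd.dvd.pow _ two_ne_zero
        exact_mod_cast hpd
  have hlin : (∑ φ : Cfsg.IrrCharacter (Cfsg.pResidual p G), (if deg φ = 1 then (1 : ℤ) else 0))
      = ((commutator (Cfsg.pResidual p G)).index : ℤ) := by
    rw [Finset.sum_boole, ← card_linear_eq_index_commutator, Nat.card_eq_fintype_card,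
      Fintype.card_subtype]
    congr 2
    ext φ
    simp only [Finset.mem_filter, Finset.mem_univ, true_and]
    rw [(hdegH φ).1]
    exact_mod_cast Iff.rfl
  have hsplit : ∀ φ : Cfsg.IrrCharacter (Cfsg.pResidual p G),
      (deg φ : ℤ) ^ 2 = w φ + (if deg φ = 1 then (1 : ℤ) else 0) := by
    intro φ
    simp only [hw]
    split_ifs with h1
    · rw [h1]; norm_num
    · simp
  rw [Finset.sum_congr rfl (fun φ _ => hsplit φ), Finset.sum_add_distrib, hlin] at hsum
  apply hcomm
  have h3 : (p : ℤ) ∣ ((commutator (Cfsg.pResidual p G)).index : ℤ) := by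
    have h4 : (p : ℤ) ∣ (Nat.card (Cfsg.pResidual p G) : ℤ) := by exact_mod_cast hdvd
    rw [← hsum] at h4
    exact (dvd_add_right hwdvd).mp h4
  exact_mod_cast h3

end Cfsg.Agent.S4456
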