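import Cfsg.Statements.S0547
import Mathlib

set_option autoImplicit false
open Cfsg

namespace Cfsg.Agent.S0547

/-- Core facts about a minimal normal subgroup of a solvable primitive group. -/
theorem aux {G : Type*} [Group G] [Finite G] [Group.IsSolvable G] {Ω : Type*} [MulAction G Ω] [FaithfulSMul G Ω] (hprim : MulAction.IsPreprimitive G Ω) (M : Subgroup G) [M.Normal] (hM : M ≠ ⊥) (hmin : ∀ K : Subgroup G, K.Normal → K ≤ M → K = ⊥ ∨ K = M) :
    MulAction.IsPretransitive M Ω ∧ (∀ a ∈ M, ∀ b ∈ M, a * b = b * a) ∧ (∀ ω : Ω, MulAction.stabilizer M ω = ⊥) := by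
  classical
  haveI := hprim
  have htr : MulAction.IsPretransitive M Ω := by
    apply MulAction.IsQuasiPreprimitive.isPretransitive_of_normal
    intro hfix
    apply hM
    rw [Subgroup.eq_bot_iff_forall]
    intro m hm
    apply FaithfulSMul.eq_of_smul_eq_smul (α := Ω)
    intro ω
    have h1 : ω ∈ MulAction.fixedPoints M Ω := by rw [hfix]; trivial
    have h2 := h1 ⟨m, hm⟩
    rw [one_smul]
    exact h2
  have hab : ∀ a ∈ M, ∀ b ∈ M, a * b = b * a := by
    have hc : ⁅M, M⁆ = ⊥ := by
      rcases hmin ⁅M, M⁆ inferInstance (Subgroup.commutator_le_right M M) with h | h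
      · exact h
      · exact absurd h (Group.IsSolvable.commutator_lt_of_ne_bot hM).ne
    rw [Subgroup.commutator_eq_bot_iff_le_centralizer] at hc
    intro a ha b hb
    exact (hc ha b hb).symm
  refine ⟨htr, hab, ?_⟩
  intro ω
  rw [Subgroup.eq_bot_iff_forall]
  intro m hm
  rw [MulAction.mem_stabilizer_iff] at hm
  apply Subtype.ext
  apply FaithfulSMul.eq_of_smul_eq_smul (α := Ω)
  intro ω'
  obtain ⟨n, rfl⟩ := MulAction.exists_smul_eq M ω ω'
  rw [Subgroup.coe_one, one_smul]
  change (m : G) • ((n : G) • ω) = (n : G) • ω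
  rw [smul_smul, hab m m.2 n n.2, ← smul_smul]
  congr 1

/-- Let a finite solvable group G act faithfully and primitively on a set, and let M be a minimal normal subgroup of G. Then M is transitive with trivial point stabilizers, and the number of points equals the order of M, which is a prime power p ^ d with d ≥ 1. -/
theorem result {G : Type*} [Group G] [Finite G] [Group.IsSolvable G] {Ω : Type*} [Nonempty Ω] [MulAction G Ω] [FaithfulSMul G Ω] (hprim : MulAction.IsPreprimitive G Ω) (M : Subgroup G) [M.Normal] (hM : M ≠ ⊥) (hmin : ∀ K : Subgroup G, K.Normal → K ≤ M → K = ⊥ ∨ K = M) : MulAction.IsPretransitive M Ω ∧ (∀ ω : Ω, MulAction.stabilizer M ω = ⊥) ∧ ∃ p d : ℕ, p.Prime ∧ 0 < d ∧ Nat.card Ω = p ^ d ∧ Nat.card M = p ^ d := by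

  classical
  obtain ⟨htr, hab, hreg⟩ := aux hprim M hM hmin
  refine ⟨htr, hreg, ?_⟩
  -- M is a p-group
  haveI : Nontrivial M := (Subgroup.nontrivial_iff_ne_bot M).mpr hM
  have hcard : 1 < Nat.card M := Finite.one_lt_card
  obtain ⟨p, hp, hpd⟩ := Nat.exists_prime_and_dvd (by omega : Nat.card M ≠ 1)
  haveI : Fact p.Prime := ⟨hp⟩
  obtain ⟨P⟩ : Nonempty (Sylow p M) := inferInstance
  have hPn : (P : Subgroup M).Normal := by
    constructor
    intro n hn g
    have : g * n * g⁻¹ = n := by
      have h1 : g * n = n * g := Subtype.ext (hab g g.2 n n.2)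
      rw [h1, mul_inv_cancel_right]
    rw [this]; exact hn
  haveI hPc : (P : Subgroup M).Characteristic := Sylow.characteristic_of_normal P hPn
  have hKn : ((P : Subgroup M).map M.subtype).Normal := inferInstance
  have hKle : (P : Subgroup M).map M.subtype ≤ M := Subgroup.map_subtype_le _
  have hPne : (P : Subgroup M) ≠ ⊥ := Sylow.ne_bot_of_dvd_card P hpd
  have hPtop : (P : Subgroup M) = ⊤ := by
    rcases hmin _ hKn hKle with h | h
    · exfalso; apply hPne
      rwa [Subgroup.map_eq_bot_iff_of_injective _ M.subtype_injective] at h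
    · rw [eq_top_iff]
      intro x _
      have hx : (x : G) ∈ (P : Subgroup M).map M.subtype := by rw [h]; exact x.2
      obtain ⟨y, hy, hyx⟩ := hx
      have : y = x := Subtype.ext hyx
      rw [← this]; exact hy
  have hpg : IsPGroup p M := by
    have := P.isPGroup'
    rw [hPtop] at this
    exact IsPGroup.of_surjective this (Subgroup.topEquiv (G := M)).toMonoidHom (Subgroup.topEquiv (G := M)).surjective
  obtain ⟨d, hd⟩ := IsPGroup.iff_card.mp hpg
  obtain ⟨ω⟩ : Nonempty Ω := inferInstance
  have hbij : Function.Bijective (fun m : M => m • ω) := by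
    constructor
    · intro m n hmn
      have h1 : n⁻¹ * m ∈ MulAction.stabilizer M ω := by
        rw [MulAction.mem_stabilizer_iff, mul_smul]
        change n⁻¹ • (m • ω) = ω
        have h2 : m • ω = n • ω := hmn
        rw [h2, inv_smul_smul]
      rw [hreg ω, Subgroup.mem_bot] at h1
      rw [inv_mul_eq_one] at h1
      exact h1.symm
    · intro ω'
      exact MulAction.exists_smul_eq M ω ω'
  have hcardΩ : Nat.card Ω = Nat.card M := (Nat.card_eq_of_bijective _ hbij).symm
  refine ⟨p, d, hp, ?_, ?_, hd⟩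
  · rcases Nat.eq_zero_or_pos d with h0 | h0
    · rw [h0, pow_zero] at hd; omega
    · exact h0
  · rw [hcardΩ, hd]

end Cfsg.Agent.S0547
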