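import Cfsg.Statements.S0548
import Mathlib
import Cfsg.Agent.S0547

set_option autoImplicit false
open Cfsg

namespace Cfsg.Agent.S0548



/-- Let a finite solvable group G act faithfully and primitively on a set, let M be a minimal normal subgroup and H the stabilizer of a point. Then H is a complement to M, no non-identity element of H centralizes M, and the only subgroups of M normalized by H are the trivial subgroup and M. -/
theorem result {G : Type*} [Group G] [Finite G] [Group.IsSolvable G] {Ω : Type*} [MulAction G Ω] [FaithfulSMul G Ω] (hprim : MulAction.IsPreprimitive G Ω) (M : Subgroup G) [M.Normal] (hM : M ≠ ⊥) (hmin : ∀ K : Subgroup G, K.Normal → K ≤ M → K = ⊥ ∨ K = M) (ω : Ω) : Subgroup.IsComplement' M (MulAction.stabilizer G ω) ∧ MulAction.stabilizer G ω ⊓ Subgroup.centralizer (M : Set G) = ⊥ ∧ ∀ K : Subgroup G, K ≤ M → MulAction.stabilizer G ω ≤ Subgroup.normalizer (K : Set G) → K = ⊥ ∨ K = M := by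

  classical
  obtain ⟨htr, hab, hreg⟩ := Cfsg.Agent.S0547.aux hprim M hM hmin
  -- decomposition of any element
  have hdec : ∀ g : G, ∃ m ∈ M, ∃ s ∈ MulAction.stabilizer G ω, g = m * s := by
    intro g
    obtain ⟨m, hm⟩ := MulAction.exists_smul_eq M ω (g • ω)
    refine ⟨(m : G), m.2, (m : G)⁻¹ * g, ?_, ?_⟩
    · rw [MulAction.mem_stabilizer_iff, mul_smul]
      have h2 : (m : G) • ω = g • ω := hm
      rw [← h2, inv_smul_smul]
    · rw [mul_inv_cancel_left]
  refine ⟨?_, ?_, ?_⟩
  · apply Subgroup.isComplement'_of_disjoint_and_mul_eq_univ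
    · rw [Subgroup.disjoint_def]
      intro x hxM hxS
      have h1 : (⟨x, hxM⟩ : M) ∈ MulAction.stabilizer M ω := by
        rw [MulAction.mem_stabilizer_iff]
        rw [MulAction.mem_stabilizer_iff] at hxS
        exact hxS
      rw [hreg ω, Subgroup.mem_bot] at h1
      exact congrArg Subtype.val h1
    · rw [Set.eq_univ_iff_forall]
      intro g
      obtain ⟨m, hm, s, hs, rfl⟩ := hdec g
      exact Set.mul_mem_mul hm hs
  · rw [Subgroup.eq_bot_iff_forall]
    intro g hg
    obtain ⟨hg1, hg2⟩ := Subgroup.mem_inf.mp hg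
    rw [MulAction.mem_stabilizer_iff] at hg1
    rw [Subgroup.mem_centralizer_iff] at hg2
    apply FaithfulSMul.eq_of_smul_eq_smul (α := Ω)
    intro ω'
    obtain ⟨n, rfl⟩ := MulAction.exists_smul_eq M ω ω'
    rw [one_smul]
    change g • ((n : G) • ω) = (n : G) • ω
    rw [smul_smul, ← hg2 (n : G) n.2, ← smul_smul, hg1]
  · intro K hKM hKN
    apply hmin K ?_ hKM
    constructor
    intro k hk g
    obtain ⟨m, hm, s, hs, rfl⟩ := hdec g
    have h1 : s * k * s⁻¹ ∈ K := by
      have := hKN hs
      rw [Subgroup.mem_normalizer_iff] at this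
      exact (this k).mp hk
    have h2 : m * s * k * (m * s)⁻¹ = s * k * s⁻¹ := by
      have h3 : m * (s * k * s⁻¹) = (s * k * s⁻¹) * m := hab m hm _ (hKM h1)
      calc m * s * k * (m * s)⁻¹ = m * (s * k * s⁻¹) * m⁻¹ := by group
        _ = s * k * s⁻¹ := by rw [h3, mul_inv_cancel_right]
    rw [h2]; exact h1

end Cfsg.Agent.S0548
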