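import Cfsg.Statements.S0132
import Mathlib
import Cfsg.Agent.Lib.Lead.NormalPComplement
import Cfsg.Agent.Lib.Helper4.Nilpotent

set_option autoImplicit false
open Cfsg

namespace Cfsg.Agent.S0132

open Cfsg.Agent.Lib.Lead.NormalPComplement

theorem cent_of_sub {G : Type*} [Group G] [Finite G] {p : ℕ} [Fact p.Prime] (H : Subgroup G)
    (hH : Cfsg.HasNormalPComplement p ↥H) (Q : Subgroup G) (hQH : Q ≤ H) (hQ : IsPGroup p ↥Q) (g : G)
    (hgH : g ∈ H) (hgN : g ∈ Subgroup.normalizer (Q : Set G)) (hgp : Nat.Coprime (orderOf g) p) :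
    g ∈ Subgroup.centralizer (Q : Set G) := by
  obtain ⟨N, hN, hc, k, hk⟩ := exists_normal_of_hasNormalPComplement hH
  haveI := hN
  have hQ' : IsPGroup p ↥(Q.subgroupOf H) := hQ.comap_subtype
  have hn : (⟨g, hgH⟩ : ↥H) ∈ Subgroup.normalizer ((Q.subgroupOf H : Subgroup ↥H) : Set ↥H) := by
    rw [Subgroup.mem_normalizer_iff]
    intro h
    rw [Subgroup.mem_subgroupOf, Subgroup.mem_subgroupOf]
    exact (Subgroup.mem_normalizer_iff.1 hgN) (h : G)
  have ho : Nat.Coprime (orderOf (⟨g, hgH⟩ : ↥H)) p := by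
    rw [Subgroup.orderOf_mk]; exact hgp
  have hcz := centralizes_of_normal N hc hk (Q.subgroupOf H) hQ' ⟨g, hgH⟩ hn ho
  rw [Subgroup.mem_centralizer_iff] at hcz ⊢
  intro q hq
  have := hcz ⟨q, hQH hq⟩ (Subgroup.mem_subgroupOf.2 hq)
  exact congrArg Subtype.val this

/-- A minimal non-p-nilpotent finite group is a minimal non-nilpotent group with a normal Sylow p-subgroup. -/
theorem result {G : Type*} [Group G] [Finite G] {p : ℕ} [Fact p.Prime] (h1 : ¬ Cfsg.HasNormalPComplement p G) (h2 : ∀ H : Subgroup G, H ≠ ⊤ → Cfsg.HasNormalPComplement p H) : (∀ H : Subgroup G, H ≠ ⊤ → Group.IsNilpotent H) ∧ ¬ Group.IsNilpotent G ∧ ∀ P : Sylow p G, (P : Subgroup G).Normal := by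
  classical
  obtain ⟨P₀⟩ : Nonempty (Sylow p G) := inferInstance
  have hex : ∃ Q : Subgroup G, Q ≤ (P₀ : Subgroup G) ∧ ∃ g ∈ Subgroup.normalizer (Q : Set G),
      Nat.Coprime (orderOf g) p ∧ g ∉ Subgroup.centralizer (Q : Set G) := by
    by_contra hcon
    push_neg at hcon
    exact h1 (hasNormalPComplement_of_p'_centralize P₀ (fun Q hQ g hg hgp => hcon Q hQ g hg hgp))
  obtain ⟨Q, hQP, g, hgN, hgp, hgC⟩ := hex
  have hQp : IsPGroup p ↥Q := P₀.isPGroup'.to_le hQP
  have hNtop : Subgroup.normalizer (Q : Set G) = ⊤ := by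
    by_contra hne
    exact hgC (cent_of_sub _ (h2 _ hne) Q Subgroup.le_normalizer hQp g hgN hgN hgp)
  haveI hQn : Q.Normal := Subgroup.normalizer_eq_top_iff.mp hNtop
  have hsup : Q ⊔ Subgroup.zpowers g = ⊤ := by
    by_contra hne
    exact hgC (cent_of_sub _ (h2 _ hne) Q le_sup_left hQp g
      ((le_sup_right : Subgroup.zpowers g ≤ Q ⊔ Subgroup.zpowers g) (Subgroup.mem_zpowers g)) hgN hgp)
  have hz : Subgroup.zpowers (QuotientGroup.mk' Q g) = ⊤ := by
    rw [← MonoidHom.map_zpowers]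
    have h3 : (Q ⊔ Subgroup.zpowers g).map (QuotientGroup.mk' Q) = ⊤ := by
      rw [hsup, ← MonoidHom.range_eq_map]
      exact MonoidHom.range_eq_top.2 (QuotientGroup.mk'_surjective Q)
    rw [Subgroup.map_sup, QuotientGroup.map_mk'_self, bot_sup_eq] at h3
    exact h3
  have hmem : ∀ y : G ⧸ Q, y ∈ Subgroup.zpowers (QuotientGroup.mk' Q g) := by
    intro y; rw [hz]; trivial
  haveI hcyc : IsCyclic (G ⧸ Q) := ⟨⟨QuotientGroup.mk' Q g, hmem⟩⟩
  haveI hnilQ : Group.IsNilpotent (G ⧸ Q) := by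
    letI := IsCyclic.commGroup (α := G ⧸ Q)
    exact CommGroup.isNilpotent
  have hidx : ¬ p ∣ Q.index := by
    have e1 : Q.index = orderOf (QuotientGroup.mk' Q g) := by
      rw [Subgroup.index_eq_card]
      exact (orderOf_eq_card_of_forall_mem_zpowers hmem).symm
    have e2 : orderOf (QuotientGroup.mk' Q g) ∣ orderOf g := orderOf_map_dvd _ g
    rw [e1]
    intro hd
    have h3 : p ∣ orderOf g := dvd_trans hd e2
    have h4 : p ∣ Nat.gcd (orderOf g) p := Nat.dvd_gcd h3 dvd_rfl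
    rw [hgp] at h4
    exact (Fact.out : p.Prime).one_lt.ne' (Nat.dvd_one.1 h4)
  refine ⟨?_, ?_, ?_⟩
  · intro H hH
    obtain ⟨K, hK, hKc, k, hk⟩ := exists_normal_of_hasNormalPComplement (h2 H hH)
    haveI := hK
    haveI : Group.IsNilpotent (↥H ⧸ K) := by
      have : IsPGroup p (↥H ⧸ K) := by
        apply IsPGroup.of_card (n := k)
        rw [← Subgroup.index_eq_card, hk]
      exact this.isNilpotent
    let f : ↥H →* (↥H ⧸ K) × (G ⧸ Q) :=
      (QuotientGroup.mk' K).prod ((QuotientGroup.mk' Q).comp H.subtype)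
    apply Subgroup.isNilpotent_of_ker_le_center f
    intro x hx
    have hx1 : f x = 1 := hx
    have hx2 : QuotientGroup.mk' K x = 1 := congrArg Prod.fst hx1
    have hx3 : QuotientGroup.mk' Q (x : G) = 1 := congrArg Prod.snd hx1
    have hxK : x ∈ K := by
      rw [← QuotientGroup.ker_mk' K]; exact hx2
    have hxQ : (x : G) ∈ Q := by
      rw [← QuotientGroup.ker_mk' Q]; exact hx3
    have hx1' : x = 1 := by
      have d1 : orderOf x ∣ Nat.card ↥K := by
        have := orderOf_dvd_natCard (⟨x, hxK⟩ : ↥K)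
        rwa [Subgroup.orderOf_mk] at this
      obtain ⟨j, hj⟩ := hQp ⟨(x : G), hxQ⟩
      have hj' : (x : G) ^ p ^ j = 1 := by
        have := congrArg Subtype.val hj
        simpa using this
      have d2 : orderOf x ∣ p ^ j := by
        rw [← Subgroup.orderOf_coe]
        exact orderOf_dvd_of_pow_eq_one hj'
      have d3 : orderOf x = 1 :=
        Nat.Coprime.eq_one_of_dvd (Nat.Coprime.coprime_dvd_left d1 (hKc.pow_right j)) d2
      exact orderOf_eq_one_iff.1 d3
    rw [hx1']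
    exact Subgroup.one_mem _
  · intro hnil
    apply h1
    apply hasNormalPComplement_of_p'_centralize P₀
    intro R hR x hxN hxp
    rw [Subgroup.mem_centralizer_iff]
    intro r hr
    have hRp : IsPGroup p ↥R := P₀.isPGroup'.to_le hR
    obtain ⟨j, hj⟩ := hRp ⟨r, hr⟩
    have hj' : r ^ p ^ j = 1 := by
      have := congrArg Subtype.val hj
      simpa using this
    have d2 : orderOf r ∣ p ^ j := orderOf_dvd_of_pow_eq_one hj'
    apply Cfsg.Agent.Lib.Helper4.Nilpotent.commute_of_coprime_orderOf G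
    exact Nat.Coprime.coprime_dvd_left d2 ((hxp.symm).pow_left j)
  · intro P
    let Qs : Sylow p G := hQp.toSylow hidx
    haveI : (Qs : Subgroup G).Normal := by
      rw [IsPGroup.toSylow_coe]; exact hQn
    obtain ⟨k, hk⟩ := MulAction.exists_smul_eq G Qs P
    rw [Sylow.smul_eq_of_normal] at hk
    rw [← hk]
    infer_instance

end Cfsg.Agent.S0132
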