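import Cfsg.Statements.S0526
import Mathlib
import Cfsg.Prelude.Def_SolvableStructure
import Cfsg.Agent.H1.Basic
import Cfsg.Agent.H1.Supersolvable
import Cfsg.Agent.H1.Misc
import Cfsg.Agent.H1.SupersolvableMore

set_option autoImplicit false
open Cfsg

namespace Cfsg.Agent.S0526

open Cfsg.Agent.H1
open scoped Pointwise commutatorElement

/-- In a finite supersolvable group the commutator subgroup is nilpotent. -/
theorem result {G : Type*} [Group G] [Finite G] (hG : Cfsg.IsSupersolvable G) : Group.IsNilpotent (commutator G) := by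
  rw [isSupersolvable_iff_reach] at hG
  have key : ∀ K : Subgroup G, SSReach K → ∃ n : ℕ,
      (K ⊓ commutator G).subgroupOf (commutator G) ≤ Subgroup.upperCentralSeries (commutator G) n := by
    intro K hK
    induction hK with
    | bot => exact ⟨0, by rw [bot_inf_eq, Subgroup.bot_subgroupOf]; exact bot_le⟩
    | step K g _ hKn hKgn ih =>
      obtain ⟨n, hn⟩ := ih
      refine ⟨n + 1, ?_⟩
      intro x hx
      rw [Subgroup.mem_upperCentralSeries_succ_iff]
      intro y
      apply hn
      rw [commutatorElement_def]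
      rw [Subgroup.mem_subgroupOf] at hx ⊢
      refine Subgroup.mem_inf.mpr ⟨?_, (x * y * x⁻¹ * y⁻¹).2⟩
      have := commutator_mem_of_cyclic_step K g hKgn x.1 y.1 (Subgroup.mem_inf.mp hx).1 y.2
      simpa using this
  obtain ⟨n, hn⟩ := key ⊤ hG
  rw [top_inf_eq, Subgroup.subgroupOf_self, top_le_iff] at hn
  exact ⟨⟨n, hn⟩⟩

end Cfsg.Agent.S0526
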