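import Mathlib
import Cfsg.Statements.S4667
import Cfsg.Agent.Lib.helper3.ProjVanish8
import Cfsg.Agent.Lib.helper3.BlockBasic
import Cfsg.Agent.Lib.helper3.Irr13

set_option autoImplicit false
open Cfsg

namespace Cfsg.Agent.S4667

open Cfsg.Agent.Lib.helper3.Block Cfsg.Agent.Lib.helper3.LocalM Cfsg.Agent.Lib.helper3.Central
open Cfsg.Agent.Lib.helper3.Irr Cfsg.Agent.Lib.helper3.CharBasic
set_option linter.style.haveILetI false

/-- Fix a prime p and a maximal ideal M of the algebraic integers containing p, and a p-block B of the finite group G. The p-regular rank of B (the number of irreducible Brauer characters in B) times the order of G equals the sum over the p-regular elements x of G of Σ_{χ ∈ B} χ(x) χ(x⁻¹) (written with the restriction of χ to p-regular elements, which vanishes at p-singular x). -/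
theorem result {G : Type*} [Group G] [Fintype G] (p : ℕ) [Fact p.Prime] (M : Ideal Cfsg.AlgInt) (hM : Cfsg.IsPModular p M) (B : Set (Cfsg.IrrCharacter G)) (hB : Cfsg.IsPBlock M B) : (Nat.card G : ℂ) * (Cfsg.blockRank p B : ℂ) = ∑ x : G, ∑ᶠ χ ∈ B, Cfsg.pRegularPart p (χ : G → ℂ) x * (χ : G → ℂ) x⁻¹ := by
  classical
  haveI hMp := isPrime_of_isPModular hM
  obtain ⟨χ₀, rfl⟩ := hB
  have hS : ∀ θ ∈ Cfsg.blockOf M (χ₀ : G → ℂ),
      Cfsg.blockOf M (θ : G → ℂ) ⊆ Cfsg.blockOf M (χ₀ : G → ℂ) := by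
    intro θ hθ ψ hψ
    exact sameBlock_trans hθ hψ
  have hG0 : (Nat.card G : ℂ) ≠ 0 := by
    have : Nat.card G ≠ 0 := Nat.card_pos.ne'
    exact_mod_cast this
  rw [blockRank_eq_sum hM _ hS, Finset.mul_sum]
  have h1 : ∀ x : G, ∑ᶠ χ ∈ Cfsg.blockOf M (χ₀ : G → ℂ),
      Cfsg.pRegularPart p (χ : G → ℂ) x * (χ : G → ℂ) x⁻¹
      = ∑ χ : Cfsg.IrrCharacter G, (if χ ∈ Cfsg.blockOf M (χ₀ : G → ℂ) then (1 : ℂ) else 0)
        * (truncReg p (χ : G → ℂ) x * (starRingEnd ℂ) ((χ : G → ℂ) x)) := by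
    intro x
    rw [finsum_mem_def, finsum_eq_sum_of_fintype]
    apply Finset.sum_congr rfl
    intro χ _
    rw [Set.indicator_apply]
    by_cases h : χ ∈ Cfsg.blockOf M (χ₀ : G → ℂ)
    · rw [if_pos h, if_pos h, one_mul, pRegularPart_eq_truncReg,
        isCharacter_apply_inv (isCharacter_of_isIrrCharacter χ.2)]
    · rw [if_neg h, if_neg h, zero_mul]
  rw [Finset.sum_congr rfl (fun x _ => h1 x), Finset.sum_comm]
  apply Finset.sum_congr rfl
  intro χ _
  rw [← Finset.mul_sum, Cfsg.Agent.Lib.helper3.IndFun.classInner_apply]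
  field_simp

end Cfsg.Agent.S4667
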