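import Cfsg.Statements.S1351
import Cfsg.Agent.Lib.Helper4.BG14L

set_option autoImplicit false
open Cfsg

namespace Cfsg.Agent.S1351

/-- Let G be a minimal simple group of odd order and M a maximal subgroup. Then M possesses a Hall κ(M)-subgroup, and every Hall κ(M)-subgroup of M is cyclic. -/
theorem result {G : Type*} [Group G] [Finite G] (hG : Cfsg.IsMinSimpleOddOrder G)
    (M : Subgroup G) (hM : IsCoatom M) :
    (∃ K : Subgroup G, Cfsg.IsPiHallOf (Cfsg.kappa M) K M) ∧
      ∀ K : Subgroup G, Cfsg.IsPiHallOf (Cfsg.kappa M) K M → IsCyclic K := by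
  refine ⟨?_, fun K hK => Cfsg.Agent.Lib.Helper4.BG14.isCyclic_of_hall_kappa hG hM hK⟩
  have hsolv : Group.IsSolvable ↥M := hG.2.2.2 M hM.1
  obtain ⟨K, hK, -, -⟩ := Cfsg.Agent.H1.coprime_hall_contain (⊥ : Subgroup G) M ⊥ (Cfsg.kappa M)
    bot_le (by rw [Subgroup.card_bot]; exact Nat.coprime_one_left _) hsolv bot_le bot_le
    (fun p hp hd => by
      rw [Subgroup.card_bot] at hd
      exact absurd (Nat.dvd_one.mp hd) hp.one_lt.ne')
  exact ⟨K, hK⟩

end Cfsg.Agent.S1351
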