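import Cfsg.Statements.S1443
import Mathlib
import Cfsg.Agent.S0028
import Cfsg.Agent.Lib.Lead.OmegaFaithful

set_option autoImplicit false

open Cfsg

namespace Cfsg.Agent.S1443

/-- Let G be a finite group, p an odd prime, H a p-subgroup, E an elementary abelian subgroup of H, and A a subgroup of order coprime to p normalizing H. If A centralizes every element of order p in H ∩ C_G(E), then A centralizes H. -/
theorem result {G : Type*} [Group G] [Finite G] (p : ℕ) [Fact p.Prime] (hp : p ≠ 2) (H E A : Subgroup G) (hH : IsPGroup p H) (hE : E ≤ H) (hEe : Cfsg.IsElementaryAbelian p E)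
    (hA : (A ≤ Subgroup.normalizer (H : Set G))) (hcop : (Nat.card A).Coprime p)
    (hfix : ∀ x ∈ (H ⊓ Subgroup.centralizer (E : Set G)), orderOf x = p → A ≤ Subgroup.centralizer ({x} : Set G)) :
    A ≤ Subgroup.centralizer (H : Set G) := by
  have hpp : p.Prime := Fact.out
  obtain ⟨hEc, hEp⟩ := hEe
  -- elements of `E` commute
  have hEcomm : ∀ x ∈ E, ∀ y ∈ E, x * y = y * x := by
    intro x hx y hy
    have := hEc.is_comm.comm (⟨x, hx⟩ : E) ⟨y, hy⟩
    exact congrArg Subtype.val this
  -- order of elements killed by `p`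
  have hord : ∀ x : G, x ^ p = 1 → x ≠ 1 → orderOf x = p := by
    intro x hx hx1
    have h1 : orderOf x ∣ p := orderOf_dvd_of_pow_eq_one hx
    rcases (Nat.dvd_prime hpp).mp h1 with h | h
    · exact absurd (orderOf_eq_one_iff.mp h) hx1
    · exact h
  -- step 1: `A` centralizes `E`
  have hAE : ∀ a ∈ A, ∀ x ∈ E, a * x = x * a := by
    intro a ha x hx
    by_cases hx1 : x = 1
    · rw [hx1, mul_one, one_mul]
    · have hxC : x ∈ H ⊓ Subgroup.centralizer (E : Set G) := by
        refine Subgroup.mem_inf.mpr ⟨hE hx, ?_⟩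
        rw [Subgroup.mem_centralizer_iff]
        intro y hy
        exact hEcomm y hy x hx
      have := hfix x hxC (hord x (hEp x hx) hx1) ha
      rw [Subgroup.mem_centralizer_singleton_iff] at this
      exact this
  -- step 2: `A` normalizes `C = H ⊓ C(E)`
  have hCp : IsPGroup p ↥(H ⊓ Subgroup.centralizer (E : Set G)) := hH.to_le inf_le_left
  have hconjE : ∀ a ∈ A, ∀ x ∈ E, a * x * a⁻¹ = x := by
    intro a ha x hx
    rw [hAE a ha x hx]; group
  have hAmem : ∀ a ∈ A, ∀ c ∈ H ⊓ Subgroup.centralizer (E : Set G),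
      a * c * a⁻¹ ∈ H ⊓ Subgroup.centralizer (E : Set G) := by
    intro a ha c hc
    rw [Subgroup.mem_inf] at hc
    refine Subgroup.mem_inf.mpr ⟨(Subgroup.mem_normalizer_iff.mp (hA ha) c).mp hc.1, ?_⟩
    rw [Subgroup.mem_centralizer_iff]
    intro y hy
    have h1 := (Subgroup.mem_centralizer_iff.mp hc.2) y hy
    have h2 : a⁻¹ * y * a = y := by
      have := hconjE a ha y hy
      calc a⁻¹ * y * a = a⁻¹ * (a * y * a⁻¹) * a := by rw [this]
        _ = y := by group
    calc y * (a * c * a⁻¹) = a * ((a⁻¹ * y * a) * c) * a⁻¹ := by group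
      _ = a * (y * c) * a⁻¹ := by rw [h2]
      _ = a * (c * y) * a⁻¹ := by rw [h1]
      _ = a * c * a⁻¹ * (a * y * a⁻¹) := by group
      _ = a * c * a⁻¹ * y := by rw [hconjE a ha y hy]
  have hAN : A ≤ Subgroup.normalizer ((H ⊓ Subgroup.centralizer (E : Set G) : Subgroup G) : Set G) := by
    intro a ha
    rw [Subgroup.mem_normalizer_iff]
    intro c
    constructor
    · exact hAmem a ha c
    · intro hc
      have := hAmem a⁻¹ (A.inv_mem ha) _ hc
      have e : a⁻¹ * (a * c * a⁻¹) * a⁻¹⁻¹ = c := by group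
      rw [e] at this
      exact this
  -- step 3: `A` centralizes `C`
  have hAC : ∀ a ∈ A, a ∈ Subgroup.centralizer
      ((H ⊓ Subgroup.centralizer (E : Set G) : Subgroup G) : Set G) := by
    intro a ha
    have hcopa : Nat.Coprime (orderOf a) p := by
      have h1 : orderOf a ∣ Nat.card A := by
        have := orderOf_dvd_natCard (⟨a, ha⟩ : A)
        rwa [Subgroup.orderOf_mk] at this
      exact Nat.Coprime.coprime_dvd_left h1 hcop
    apply Cfsg.Agent.Lib.Lead.OmegaFaithful.centralizes_of_fixes_small _ hCp a (hAN ha) hcopa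
    intro x hx hsmall
    rcases hsmall with hxp | ⟨h2, _⟩
    · by_cases hx1 : x = 1
      · rw [hx1]; group
      · have := hfix x hx (hord x hxp hx1) ha
        rw [Subgroup.mem_centralizer_singleton_iff] at this
        rw [this]; group
    · exact absurd h2 hp
  -- step 4: Thompson's lemma
  apply Cfsg.Agent.S0028.result p E A H (hH.to_le hE) hcop hH
  · intro x hx
    rw [Subgroup.mem_centralizer_iff]
    intro a ha
    exact hAE a ha x hx
  · exact hE.trans Subgroup.le_normalizer
  · exact hA
  · intro c hc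
    rw [Subgroup.mem_centralizer_iff]
    intro a ha
    have := Subgroup.mem_centralizer_iff.mp (hAC a ha) c hc
    exact this.symm

end Cfsg.Agent.S1443
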