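import Mathlib
import Cfsg.Statements.S0938
import Cfsg.Agent.Lib.helper3.ProjVanish6
import Cfsg.Agent.Lib.helper3.BlockBasic
import Cfsg.Agent.Lib.helper3.BlockIdem2
import Cfsg.Agent.Lib.helper3.Degrees
import Cfsg.Agent.Lib.helper3.NormalInv

set_option autoImplicit false
open Cfsg

namespace Cfsg.Agent.S0938

open Cfsg.Agent.Lib.helper3.Block Cfsg.Agent.Lib.helper3.LocalM Cfsg.Agent.Lib.helper3.Central
open Cfsg.Agent.Lib.helper3.Irr Cfsg.Agent.Lib.helper3.CharBasic
set_option linter.style.haveILetI false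

/-- Let B be a block of the finite group G relative to a maximal ideal M of the algebraic integers containing the prime p, and let χ ∈ B. Then the kernel of B (the set of g with ψ g = ψ 1 for all ψ ∈ B) is a normal subgroup of order prime to p contained in the kernel of χ, and it contains every normal subgroup of order prime to p on which χ takes the value χ(1); that is, it is O_p' of the kernel of χ. -/
theorem result {G : Type*} [Group G] [Finite G] (p : ℕ) [Fact p.Prime] (M : Ideal Cfsg.AlgInt) (hM : Cfsg.IsPModular p M) (B : Set (Cfsg.IrrCharacter G)) (hB : Cfsg.IsPBlock M B) (χ : Cfsg.IrrCharacter G) (hχ : χ ∈ B) : ∃ K : Subgroup G, K.Normal ∧ (K : Set G) = Cfsg.blockKer B ∧ ¬ p ∣ Nat.card K ∧ (∀ g ∈ K, (χ : G → ℂ) g = (χ : G → ℂ) 1) ∧ ∀ N : Subgroup G, N.Normal → ¬ p ∣ Nat.card N → (∀ g ∈ N, (χ : G → ℂ) g = (χ : G → ℂ) 1) → N ≤ K := by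
  classical
  letI : Fintype G := Fintype.ofFinite G
  haveI hMp := isPrime_of_isPModular hM
  have hMtop : M ≠ ⊤ := hM.2.1.ne_top
  have hp : p.Prime := hM.1
  obtain ⟨χ₀, hBeq⟩ := hB
  have hsame : ∀ ψ ∈ B, Cfsg.SameBlock M (χ : G → ℂ) (ψ : G → ℂ) := by
    intro ψ hψ
    rw [hBeq] at hχ hψ
    exact sameBlock_trans (sameBlock_symm hχ) hψ
  have hS : ∀ θ ∈ B, Cfsg.blockOf M (θ : G → ℂ) ⊆ B := by
    intro θ hθ ψ hψ
    rw [hBeq] at hθ ⊢
    exact sameBlock_trans hθ hψ
  choose n ρ hirr hρ hker using fun ψ : Cfsg.IrrCharacter G => exists_rep_ker_iff ψ.2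
  have hone : (1 : G) ∈ Cfsg.blockKer B := fun ψ _ => rfl
  have hmul : ∀ {a b : G}, a ∈ Cfsg.blockKer B → b ∈ Cfsg.blockKer B →
      a * b ∈ Cfsg.blockKer B := by
    intro a b ha hb ψ hψ
    rw [hker ψ, map_mul, (hker ψ a).mp (ha ψ hψ), (hker ψ b).mp (hb ψ hψ)]
    rfl
  have hinv : ∀ {a : G}, a ∈ Cfsg.blockKer B → a⁻¹ ∈ Cfsg.blockKer B := by
    intro a ha ψ hψ
    have h1 := (hker ψ a).mp (ha ψ hψ)
    rw [hker ψ]
    have h2 : ρ ψ a⁻¹ * ρ ψ a = 1 := by rw [← map_mul, inv_mul_cancel, map_one]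
    rw [h1] at h2
    exact h2
  obtain ⟨K, hK⟩ : ∃ K : Subgroup G, (K : Set G) = Cfsg.blockKer B :=
    ⟨{ carrier := Cfsg.blockKer B, one_mem' := hone, mul_mem' := hmul, inv_mem' := hinv }, rfl⟩
  have hKmem : ∀ g : G, g ∈ K ↔ ∀ ψ ∈ B, (ψ : G → ℂ) g = (ψ : G → ℂ) 1 := by
    intro g
    rw [← SetLike.mem_coe, hK]
    rfl
  refine ⟨K, ?_, hK, ?_, ?_, ?_⟩
  · constructor
    intro k hk g
    rw [hKmem] at hk ⊢
    intro ψ hψ
    rw [isClassFunction_of_isCharacter (isCharacter_of_isIrrCharacter ψ.2) k g]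
    exact hk ψ hψ
  · intro hdiv
    obtain ⟨k, hk⟩ := exists_prime_orderOf_dvd_card' (G := K) p hdiv
    have hk' : orderOf (k : G) = p := by
      rw [Subgroup.orderOf_coe]
      exact hk
    have h1 := weak_block_orthogonality hM B hS 1 (k : G)
      (by rw [orderOf_one]; exact hp.one_lt.ne' ∘ Nat.dvd_one.mp) (by rw [hk'])
    have h2 : ∀ ψ : Cfsg.IrrCharacter G, (if ψ ∈ B then (1 : ℂ) else 0)
        * ((ψ : G → ℂ) 1 * (starRingEnd ℂ) ((ψ : G → ℂ) (k : G)))
        = (((if ψ ∈ B then (Cfsg.charDegree (ψ : G → ℂ)) ^ 2 else 0 : ℕ)) : ℂ) := by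
      intro ψ
      obtain ⟨d, hd, -, hpos⟩ := irr_degree_dvd_card ψ.2
      have hcd : Cfsg.charDegree (ψ : G → ℂ) = d := by
        unfold Cfsg.charDegree
        rw [hd, Complex.natCast_re, Nat.floor_natCast]
      by_cases hψ : ψ ∈ B
      · rw [if_pos hψ, if_pos hψ, (hKmem k).mp k.2 ψ hψ, hd, hcd, Complex.conj_natCast]
        push_cast
        ring
      · rw [if_neg hψ, if_neg hψ, zero_mul, Nat.cast_zero]
    rw [Finset.sum_congr rfl (fun ψ _ => h2 ψ), ← Nat.cast_sum] at h1
    have h3 : ∑ ψ : Cfsg.IrrCharacter G,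
        (if ψ ∈ B then (Cfsg.charDegree (ψ : G → ℂ)) ^ 2 else 0 : ℕ) = 0 := by
      exact_mod_cast h1
    have h4 := (Finset.sum_eq_zero_iff.mp h3) χ (Finset.mem_univ _)
    rw [if_pos hχ] at h4
    obtain ⟨d, hd, -, hpos⟩ := irr_degree_dvd_card χ.2
    have hcd : Cfsg.charDegree (χ : G → ℂ) = d := by
      unfold Cfsg.charDegree
      rw [hd, Complex.natCast_re, Nat.floor_natCast]
    rw [hcd] at h4
    have := pow_eq_zero_iff (two_ne_zero) |>.mp h4
    omega
  · intro g hg
    exact (hKmem g).mp hg χ hχ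
  · intro N hNn hpN hNχ g hgN
    haveI := hNn
    letI : Fintype N := Fintype.ofFinite N
    rw [hKmem]
    intro ψ hψ
    haveI := hirr ψ
    rcases normal_trivial_or_sum_eq_zero (ρ ψ) N with h | h
    · exact (hker ψ g).mpr (h g hgN)
    · exfalso
      rw [← hρ ψ] at h
      obtain ⟨F, hFdef⟩ : ∃ F : G → ℂ, F = fun g => if g ∈ N
          then (χ : G → ℂ) g / (χ : G → ℂ) 1 - (ψ : G → ℂ) g / (ψ : G → ℂ) 1 else 0 := ⟨_, rfl⟩
      have hFcl : ∀ g h : G, F (h * g * h⁻¹) = F g := by
        intro g h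
        rw [hFdef]
        beta_reduce
        have hiff : h * g * h⁻¹ ∈ N ↔ g ∈ N := by
          constructor
          · intro hh
            have := hNn.conj_mem _ hh h⁻¹
            rw [inv_inv] at this
            convert this using 1
            group
          · intro hh
            exact hNn.conj_mem g hh h
        by_cases hg : g ∈ N
        · rw [if_pos hg, if_pos (hiff.mpr hg),
            isClassFunction_of_isCharacter (isCharacter_of_isIrrCharacter χ.2) g h,
            isClassFunction_of_isCharacter (isCharacter_of_isIrrCharacter ψ.2) g h]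
        · rw [if_neg hg, if_neg (fun hh => hg (hiff.mp hh))]
      have hFloc : ∀ g : G, MemLocalIdeal M
          (((Subgroup.centralizer ({g} : Set G)).index : ℂ) * F g) := by
        intro g
        rw [hFdef]
        beta_reduce
        by_cases hg : g ∈ N
        · rw [if_pos hg]
          have := hsame ψ hψ g
          unfold Cfsg.centralChar at this
          convert this using 1
          ring
        · rw [if_neg hg, mul_zero]
          exact memLocalIdeal_zero hMtop
      have h5 := memLocalIdeal_sum_class_fun F hFcl hFloc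
      have h6 : ∑ g : G, F g = (Nat.card N : ℂ) := by
        rw [hFdef]
        beta_reduce
        rw [← Finset.sum_filter, Finset.sum_subtype (p := fun g => g ∈ N)
          (Finset.univ.filter (fun g => g ∈ N)) (by intro x; simp)]
        rw [Finset.sum_sub_distrib, ← Finset.sum_div (f := fun x : N => (ψ : G → ℂ) (x : G)), h,
          zero_div, sub_zero]
        have h7 : ∀ n : N, (χ : G → ℂ) (n : G) / (χ : G → ℂ) 1 = 1 := by
          intro n
          rw [hNχ n n.2]
          exact div_self (apply_one_ne_zero χ.2)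
        rw [Finset.sum_congr rfl (fun n _ => h7 n), Finset.sum_const, Finset.card_univ,
          nsmul_eq_mul, mul_one, Nat.card_eq_fintype_card]
      rw [h6] at h5
      have h8 : MemLocalIdeal M (((Nat.card N : Cfsg.AlgInt) : Cfsg.AlgInt) : ℂ) := by
        convert h5 using 1
        simp
      have h9 := mem_of_memLocalIdeal h8
      rw [natCast_mem_iff hM] at h9
      exact hpN h9

end Cfsg.Agent.S0938
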