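import Cfsg.Statements.S0950
import Mathlib
import Cfsg.Agent.Lib.Lead.Conj
import Cfsg.Agent.Lib.Lead.Frobenius
import Cfsg.Agent.Lib.Helper7.SylowLib

set_option autoImplicit false
open Cfsg

namespace Cfsg.Agent.S0950

open Cfsg.Agent.Lib.Lead.Conj Cfsg.Agent.Lib.Helper7 Cfsg.Agent.Lib.Lead.Frobenius QuaternionGroup

set_option linter.unusedVariables false

theorem q1 : ∀ w : QuaternionGroup 2, w^2 = 1 → w = 1 ∨ w = a 2 := by decide
theorem q2 : ∀ w : QuaternionGroup 2, w^4 = 1 := by decide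
theorem q3 : ∀ w : QuaternionGroup 2, w^2 ≠ 1 → ∃ s : QuaternionGroup 2, s * w * s⁻¹ = w⁻¹ := by decide
theorem q4 : ∀ w1 w2 w : QuaternionGroup 2, w1^2 ≠ 1 → w2^2 ≠ 1 → w^2 ≠ 1 →
   w1 ≠ w2 → w1 ≠ w2⁻¹ → w ≠ w1 → w ≠ w1⁻¹ → w ≠ w2 → w ≠ w2⁻¹ →
   (w = w1 * w2 ∨ w = (w1 * w2)⁻¹) := by decide

/-- the first-order facts about `Q₈` that we need, for a subgroup of `G` -/
structure Q8Like {G : Type*} [Group G] (Sg : Subgroup G) : Prop where
  z_ex : ∃ z ∈ Sg, ∀ w ∈ Sg, w^2 = 1 → w = 1 ∨ w = z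
  pow4 : ∀ w ∈ Sg, w^4 = 1
  inv : ∀ w ∈ Sg, w^2 ≠ 1 → ∃ s ∈ Sg, s * w * s⁻¹ = w⁻¹
  three : ∀ w1 ∈ Sg, ∀ w2 ∈ Sg, ∀ w ∈ Sg, w1^2 ≠ 1 → w2^2 ≠ 1 → w^2 ≠ 1 →
     w1 ≠ w2 → w1 ≠ w2⁻¹ → w ≠ w1 → w ≠ w1⁻¹ → w ≠ w2 → w ≠ w2⁻¹ →
     (w = w1 * w2 ∨ w = (w1 * w2)⁻¹)

theorem q8Like_of_equiv {G : Type*} [Group G] {Sg : Subgroup G} (e : ↥Sg ≃* QuaternionGroup 2) :
    Q8Like Sg := by
  have hsq : ∀ (w : G) (hw : w ∈ Sg), w^2 ≠ 1 → (e ⟨w, hw⟩)^2 ≠ 1 := by
    intro w hw h2 h
    rw [← map_pow, MulEquiv.map_eq_one_iff] at h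
    apply h2
    have := congrArg Subtype.val h
    simpa using this
  refine ⟨?_, ?_, ?_, ?_⟩
  · refine ⟨(e.symm (a 2) : G), (e.symm (a 2)).2, ?_⟩
    intro w hw hw2
    have hw2' : (⟨w, hw⟩ : ↥Sg)^2 = 1 := Subtype.ext (by simpa using hw2)
    have h := q1 (e ⟨w, hw⟩) (by rw [← map_pow, hw2', map_one])
    rcases h with h | h
    · left
      have := (MulEquiv.map_eq_one_iff e).1 h
      exact congrArg Subtype.val this
    · right
      have : (⟨w, hw⟩ : ↥Sg) = e.symm (a 2) := by rw [← h, e.symm_apply_apply]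
      exact congrArg Subtype.val this
  · intro w hw
    have h := q2 (e ⟨w, hw⟩)
    rw [← map_pow, MulEquiv.map_eq_one_iff] at h
    have := congrArg Subtype.val h
    simpa using this
  · intro w hw hw2
    obtain ⟨s, hs⟩ := q3 (e ⟨w, hw⟩) (hsq w hw hw2)
    refine ⟨(e.symm s : G), (e.symm s).2, ?_⟩
    have h1 : e.symm s * ⟨w, hw⟩ * (e.symm s)⁻¹ = (⟨w, hw⟩ : ↥Sg)⁻¹ := by
      apply e.injective
      rw [map_mul, map_mul, map_inv, map_inv, e.apply_symm_apply]
      exact hs
    have := congrArg Subtype.val h1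
    simpa using this
  · intro w1 hw1 w2 hw2 w hw h1 h2 h n1 n2 n3 n4 n5 n6
    have key := q4 (e ⟨w1, hw1⟩) (e ⟨w2, hw2⟩) (e ⟨w, hw⟩) (hsq w1 hw1 h1) (hsq w2 hw2 h2)
      (hsq w hw h)
      (fun hh => n1 (congrArg Subtype.val (e.injective hh)))
      (fun hh => n2 (by
        have := e.injective (hh.trans (map_inv e _).symm)
        have := congrArg Subtype.val this
        simpa using this))
      (fun hh => n3 (congrArg Subtype.val (e.injective hh)))
      (fun hh => n4 (by
        have := e.injective (hh.trans (map_inv e _).symm)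
        have := congrArg Subtype.val this
        simpa using this))
      (fun hh => n5 (congrArg Subtype.val (e.injective hh)))
      (fun hh => n6 (by
        have := e.injective (hh.trans (map_inv e _).symm)
        have := congrArg Subtype.val this
        simpa using this))
    rcases key with k | k
    · left
      have := e.injective (k.trans (map_mul e _ _).symm)
      have := congrArg Subtype.val this
      simpa using this
    · right
      have k' : e ⟨w, hw⟩ = e ((⟨w1, hw1⟩ * ⟨w2, hw2⟩ : ↥Sg)⁻¹) := by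
        rw [map_inv, map_mul]; exact k
      have := e.injective k'
      have := congrArg Subtype.val this
      simpa using this

theorem orderOf_eq_four {G : Type*} [Group G] {w : G} (h4 : w^4 = 1) (h2 : w^2 ≠ 1) :
    orderOf w = 4 := by
  have hd : orderOf w ∣ 4 := orderOf_dvd_of_pow_eq_one h4
  have hm : orderOf w ∈ Nat.divisors 4 := Nat.mem_divisors.2 ⟨hd, by norm_num⟩
  have hdiv : Nat.divisors 4 = {1, 2, 4} := by decide
  rw [hdiv] at hm
  simp only [Finset.mem_insert, Finset.mem_singleton] at hm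
  rcases hm with h | h | h
  · exfalso; apply h2; rw [orderOf_eq_one_iff] at h; rw [h, one_pow]
  · exfalso; apply h2; rw [← h]; exact pow_orderOf_eq_one w
  · exact h

theorem card_zpowers_four {G : Type*} [Group G] {Sg : Subgroup G} (hQ : Q8Like Sg) {w : G}
    (hw : w ∈ Sg) (h2 : w^2 ≠ 1) : Nat.card (Subgroup.zpowers w) = 4 := by
  rw [Nat.card_zpowers]
  exact orderOf_eq_four (hQ.pow4 w hw) h2

theorem exists_gen {G : Type*} [Group G] [Finite G] {Sg : Subgroup G} (hQ : Q8Like Sg)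
    {D : Subgroup G} (hD : D ≤ Sg) (hD4 : Nat.card D = 4) :
    ∃ w ∈ D, w^2 ≠ 1 ∧ D = Subgroup.zpowers w := by
  obtain ⟨z, hz, hzu⟩ := hQ.z_ex
  have hex : ∃ w ∈ D, w^2 ≠ 1 := by
    by_contra hcon
    push Not at hcon
    have hsub : (D : Set G) ⊆ {1, z} := by
      intro w hw
      rcases hzu w (hD hw) (hcon w hw) with h | h
      · left; exact h
      · right; exact h
    have h0 : Nat.card D = Set.ncard (D : Set G) := Nat.card_coe_set_eq (D : Set G)
    have h1 : Set.ncard (D : Set G) ≤ Set.ncard ({1, z} : Set G) :=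
      Set.ncard_le_ncard hsub (Set.toFinite _)
    have h2 : Set.ncard ({1, z} : Set G) ≤ 2 := by
      have := Set.ncard_insert_le (1 : G) ({z} : Set G)
      rw [Set.ncard_singleton] at this
      exact this
    omega
  obtain ⟨w, hw, hw2⟩ := hex
  refine ⟨w, hw, hw2, ?_⟩
  have hle : Subgroup.zpowers w ≤ D := Subgroup.zpowers_le.2 hw
  exact (Subgroup.eq_of_le_of_card_ge hle
    (by rw [hD4, card_zpowers_four hQ (hD hw) hw2])).symm

theorem third_unique {G : Type*} [Group G] [Finite G] {Sg : Subgroup G} (hQ : Q8Like Sg)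
    {D1 D2 D D' : Subgroup G}
    (h1 : D1 ≤ Sg) (h2 : D2 ≤ Sg) (h : D ≤ Sg) (h' : D' ≤ Sg)
    (c1 : Nat.card D1 = 4) (c2 : Nat.card D2 = 4) (c : Nat.card D = 4) (c' : Nat.card D' = 4)
    (n12 : D1 ≠ D2) (n1 : D ≠ D1) (n2 : D ≠ D2) (n1' : D' ≠ D1) (n2' : D' ≠ D2) : D = D' := by
  obtain ⟨w1, hw1, hw1s, e1⟩ := exists_gen hQ h1 c1
  obtain ⟨w2, hw2, hw2s, e2⟩ := exists_gen hQ h2 c2
  obtain ⟨w, hw, hws, e0⟩ := exists_gen hQ h c
  obtain ⟨w', hw', hws', e0'⟩ := exists_gen hQ h' c'
  have key : ∀ u v : G, Subgroup.zpowers u ≠ Subgroup.zpowers v → u ≠ v ∧ u ≠ v⁻¹ :=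
    fun u v hne => ⟨fun e => hne (by rw [e]), fun e => hne (by rw [e, Subgroup.zpowers_inv])⟩
  rw [e1, e2] at n12
  rw [e0, e1] at n1
  rw [e0, e2] at n2
  rw [e0', e1] at n1'
  rw [e0', e2] at n2'
  have k1 := hQ.three w1 (h1 hw1) w2 (h2 hw2) w (h hw) hw1s hw2s hws (key _ _ n12).1 (key _ _ n12).2
    (key _ _ n1).1 (key _ _ n1).2 (key _ _ n2).1 (key _ _ n2).2
  have k2 := hQ.three w1 (h1 hw1) w2 (h2 hw2) w' (h' hw') hw1s hw2s hws' (key _ _ n12).1 (key _ _ n12).2
    (key _ _ n1').1 (key _ _ n1').2 (key _ _ n2').1 (key _ _ n2').2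
  have z1 : Subgroup.zpowers w = Subgroup.zpowers (w1 * w2) := by
    rcases k1 with k | k
    · rw [k]
    · rw [k, Subgroup.zpowers_inv]
  have z2 : Subgroup.zpowers w' = Subgroup.zpowers (w1 * w2) := by
    rcases k2 with k | k
    · rw [k]
    · rw [k, Subgroup.zpowers_inv]
  rw [e0, e0', z1, z2]

/-- a subgroup of index two in `Sg` is normalised by `Sg` -/
theorem map_conj_eq_of_card {G : Type*} [Group G] [Finite G] {Sg D : Subgroup G} (hS8 : Nat.card Sg = 8)
    (hD : D ≤ Sg) (hD4 : Nat.card D = 4) (s : G) (hs : s ∈ Sg) :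
    D.map (MulAut.conj s).toMonoidHom = D := by
  have hidx : (D.subgroupOf Sg).index = 2 := by
    have h1 := Subgroup.card_mul_index (D.subgroupOf Sg)
    rw [card_subgroupOf_of_le hD, hD4, hS8] at h1
    omega
  have hnorm : (D.subgroupOf Sg).Normal := Subgroup.normal_of_index_eq_two hidx
  apply map_conj_eq_of_le
  rintro _ ⟨d, hd, rfl⟩
  have := hnorm.conj_mem ⟨d, hD hd⟩ (Subgroup.mem_subgroupOf.2 hd) ⟨s, hs⟩
  rw [Subgroup.mem_subgroupOf] at this
  simpa using this

theorem map_conj_le_of_normalizer {G : Type*} [Group G] {Sg D : Subgroup G} (hD : D ≤ Sg) (n : G)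
    (hn : n ∈ Subgroup.normalizer (Sg : Set G)) : D.map (MulAut.conj n).toMonoidHom ≤ Sg := by
  rintro _ ⟨d, hd, rfl⟩
  exact (Subgroup.mem_normalizer_iff.1 hn d).1 (hD hd)

theorem map_conj_mul {G : Type*} [Group G] (D : Subgroup G) (a b : G) :
    (D.map (MulAut.conj a).toMonoidHom).map (MulAut.conj b).toMonoidHom
      = D.map (MulAut.conj (b * a)).toMonoidHom := by
  ext x
  rw [mem_map_conj, mem_map_conj, mem_map_conj]
  have : a⁻¹ * (b⁻¹ * x * b) * a = (b * a)⁻¹ * x * (b * a) := by group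
  rw [this]

theorem conj_fixed {G : Type*} [Group G] [Finite G] (S : Sylow 2 G)
    (hQ : Q8Like (S : Subgroup G)) (hS8 : Nat.card (S : Subgroup G) = 8)
    {A B : Subgroup G} (hA : A ≤ S) (hB : B ≤ S) (hA4 : Nat.card A = 4) (hB4 : Nat.card B = 4)
    (hcon : ∀ n ∈ Subgroup.normalizer ((S : Subgroup G) : Set G),
      B ≠ A.map (MulAut.conj n).toMonoidHom)
    (n : G) (hn : n ∈ Subgroup.normalizer ((S : Subgroup G) : Set G)) (D : Subgroup G)
    (hD : D ≤ S) (hD4 : Nat.card D = 4) :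
    D.map (MulAut.conj n).toMonoidHom = D := by
  haveI : Fact (Nat.Prime 2) := ⟨Nat.prime_two⟩
  set N := Subgroup.normalizer ((S : Subgroup G) : Set G) with hN
  have hSN : (S : Subgroup G) ≤ N := Subgroup.le_normalizer
  -- an odd power of n lies in S
  obtain ⟨m, hmodd, hm⟩ : ∃ m : ℕ, Odd m ∧ n ^ m ∈ (S : Subgroup G) := by
    haveI : ((S : Subgroup G).subgroupOf N).Normal := Subgroup.normal_in_normalizer
    refine ⟨((S : Subgroup G).subgroupOf N).index, ?_, ?_⟩
    · have h1 : (S : Subgroup G).relIndex N ∣ (S : Subgroup G).index :=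
        Subgroup.relIndex_dvd_index_of_le hSN
      have h2 := S.not_dvd_index
      rw [← Nat.not_even_iff_odd, even_iff_two_dvd]
      intro h3
      exact h2 (h3.trans h1)
    · have := Subgroup.pow_index_mem ((S : Subgroup G).subgroupOf N) (⟨n, hn⟩ : ↥N)
      rw [Subgroup.mem_subgroupOf] at this
      simpa using this
  -- the conjugation map on subgroups
  set f : Subgroup G → Subgroup G := fun X => X.map (MulAut.conj n).toMonoidHom with hf
  have hfinj : Function.Injective f := Subgroup.map_injective (MulAut.conj n).injective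
  have hiter : ∀ i : ℕ, f^[i] D = D.map (MulAut.conj (n ^ i)).toMonoidHom := by
    intro i
    induction i with
    | zero =>
      ext x
      rw [mem_map_conj]
      simp
    | succ i ih =>
      rw [Function.iterate_succ_apply', ih, hf]
      show (D.map (MulAut.conj (n ^ i)).toMonoidHom).map (MulAut.conj n).toMonoidHom = _
      rw [map_conj_mul, ← pow_succ']
  have hpres : ∀ X : Subgroup G, X ≤ (S : Subgroup G) → Nat.card X = 4 →
      f X ≤ (S : Subgroup G) ∧ Nat.card (f X) = 4 := by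
    intro X hX hX4
    exact ⟨map_conj_le_of_normalizer hX n hn, by rw [hf]; show Nat.card (X.map _) = 4; rw [card_map_conj, hX4]⟩
  have hm' : f^[m] D = D := by
    rw [hiter]
    exact map_conj_eq_of_card hS8 hD hD4 _ hm
  show f D = D
  by_contra hne
  have h2ne : f (f D) ≠ D := by
    intro h2
    have hk : ∀ k : ℕ, f^[2 * k] D = D := by
      intro k
      induction k with
      | zero => rfl
      | succ k ih =>
        rw [show 2 * (k + 1) = (2 * k + 1) + 1 by ring, Function.iterate_succ_apply',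
          Function.iterate_succ_apply', ih]
        exact h2
    obtain ⟨k, hk'⟩ := hmodd
    rw [hk'] at hm'
    rw [show f^[2 * k + 1] D = f (f^[2 * k] D) from Function.iterate_succ_apply' f (2 * k) D,
      hk k] at hm'
    exact hne hm'
  have h21 : f (f D) ≠ f D := fun h => hne (hfinj h)
  obtain ⟨hfD, hfD4⟩ := hpres D hD hD4
  obtain ⟨hffD, hffD4⟩ := hpres (f D) hfD hfD4
  -- every subgroup of order four is one of the three
  have htri : ∀ X : Subgroup G, X ≤ (S : Subgroup G) → Nat.card X = 4 →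
      ∃ i : ℕ, X = D.map (MulAut.conj (n ^ i)).toMonoidHom := by
    intro X hX hX4
    by_cases e0 : X = D
    · exact ⟨0, by rw [← hiter 0]; exact e0⟩
    by_cases e1 : X = f D
    · exact ⟨1, by rw [← hiter 1]; exact e1⟩
    refine ⟨2, ?_⟩
    rw [← hiter 2]
    have := third_unique hQ hD hfD hffD hX hD4 hfD4 hffD4 hX4 (Ne.symm hne) h2ne h21 e0 e1
    exact this.symm
  obtain ⟨i, hi⟩ := htri A hA hA4
  obtain ⟨j, hj⟩ := htri B hB hB4
  have hmem : n ^ j * (n ^ i)⁻¹ ∈ N := N.mul_mem (N.pow_mem hn j) (N.inv_mem (N.pow_mem hn i))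
  apply hcon _ hmem
  rw [hi, hj, map_conj_mul]
  have : n ^ j * (n ^ i)⁻¹ * n ^ i = n ^ j := by group
  rw [this]

theorem controls_of_fixed {G : Type*} [Group G] [Finite G] (S : Sylow 2 G)
    (hQ : Q8Like (S : Subgroup G)) (hS8 : Nat.card (S : Subgroup G) = 8)
    (hfix : ∀ n ∈ Subgroup.normalizer ((S : Subgroup G) : Set G), ∀ D : Subgroup G,
      D ≤ (S : Subgroup G) → Nat.card D = 4 → D.map (MulAut.conj n).toMonoidHom = D) :
    Controls (S : Subgroup G) := by
  classical
  haveI : Fact (Nat.Prime 2) := ⟨Nat.prime_two⟩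
  intro x hx g hy
  obtain ⟨z, hz, hzu⟩ := hQ.z_ex
  by_cases hx2 : x^2 = 1
  · have hy2 : (g * x * g⁻¹)^2 = 1 := by rw [conj_pow, hx2]; group
    rcases hzu x hx hx2 with h | h
    · refine ⟨1, one_mem _, ?_⟩
      rw [h]; group
    · rcases hzu _ hy hy2 with h' | h'
      · have hx1 : x = 1 := conj_eq_one_iff.1 h'
        refine ⟨1, one_mem _, ?_⟩
        rw [hx1]; group
      · refine ⟨1, one_mem _, ?_⟩
        rw [h', one_mul, inv_one, mul_one, h]
  · have hy2 : (g * x * g⁻¹)^2 ≠ 1 := by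
      intro h
      rw [conj_pow] at h
      exact hx2 (conj_eq_one_iff.1 h)
    obtain ⟨y, hydef⟩ : ∃ y, y = g * x * g⁻¹ := ⟨_, rfl⟩
    rw [← hydef] at hy hy2 ⊢
    have hDS : Subgroup.zpowers x ≤ (S : Subgroup G) := Subgroup.zpowers_le.2 hx
    have hD4 : Nat.card (Subgroup.zpowers x) = 4 := card_zpowers_four hQ hx hx2
    have hD'S : Subgroup.zpowers y ≤ (S : Subgroup G) := Subgroup.zpowers_le.2 hy
    have hD'4 : Nat.card (Subgroup.zpowers y) = 4 := card_zpowers_four hQ hy hy2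
    -- S normalises D'
    have hSN : (S : Subgroup G) ≤ Subgroup.normalizer ((Subgroup.zpowers y : Subgroup G) : Set G) := by
      intro s hs
      apply mem_normalizer_of_conj_mem
      intro r hr
      have := map_conj_eq_of_card hS8 hD'S hD'4 s hs
      rw [← this]
      exact conj_mem_map_conj _ s hr
    -- S^g normalises D'
    have hS'N : (S : Subgroup G).map (MulAut.conj g).toMonoidHom ≤
        Subgroup.normalizer ((Subgroup.zpowers y : Subgroup G) : Set G) := by
      rintro _ ⟨s, hs, rfl⟩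
      apply mem_normalizer_of_conj_mem
      intro r hr
      show g * s * g⁻¹ * r * (g * s * g⁻¹)⁻¹ ∈ Subgroup.zpowers y
      -- g⁻¹ r g ∈ zpowers x
      have h1 : g⁻¹ * r * g ∈ Subgroup.zpowers x := by
        obtain ⟨k, rfl⟩ := Subgroup.mem_zpowers_iff.1 hr
        rw [hydef, conj_zpow]
        have : g⁻¹ * (g * x ^ k * g⁻¹) * g = x ^ k := by group
        rw [this]
        exact Subgroup.zpow_mem_zpowers x k
      have h2 : s * (g⁻¹ * r * g) * s⁻¹ ∈ Subgroup.zpowers x := by
        have := map_conj_eq_of_card hS8 hDS hD4 s hs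
        rw [← this]
        exact conj_mem_map_conj _ s h1
      obtain ⟨k, hk⟩ := Subgroup.mem_zpowers_iff.1 h2
      have : g * s * g⁻¹ * r * (g * s * g⁻¹)⁻¹ = g * (s * (g⁻¹ * r * g) * s⁻¹) * g⁻¹ := by group
      rw [this, ← hk, ← conj_zpow, ← hydef]
      exact Subgroup.zpow_mem_zpowers y k
    have s1 : IsSylowIn 2 (S : Subgroup G)
        (Subgroup.normalizer ((Subgroup.zpowers y : Subgroup G) : Set G)) :=
      IsSylowIn.of_sylow_le S hSN
    have s2 : IsSylowIn 2 ((S : Subgroup G).map (MulAut.conj g).toMonoidHom)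
        (Subgroup.normalizer ((Subgroup.zpowers y : Subgroup G) : Set G)) :=
      ⟨hS'N, by rw [card_map_conj]; exact s1.2⟩
    obtain ⟨k, hk, hkS⟩ := s2.conj s1
    rw [map_conj_mul] at hkS
    have hn : k * g ∈ Subgroup.normalizer ((S : Subgroup G) : Set G) := by
      apply mem_normalizer_of_conj_mem
      intro r hr
      have := conj_mem_map_conj (S : Subgroup G) (k * g) hr
      rw [← hkS] at this
      exact this
    have hfx := hfix (k * g) hn _ hDS hD4
    -- k y k⁻¹ ∈ zpowers x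
    have h1 : k * y * k⁻¹ ∈ Subgroup.zpowers x := by
      have := conj_mem_map_conj (Subgroup.zpowers x) (k * g) (Subgroup.mem_zpowers x)
      rw [hfx] at this
      have e : k * g * x * (k * g)⁻¹ = k * y * k⁻¹ := by rw [hydef]; group
      rwa [e] at this
    have h2 : k * y * k⁻¹ ∈ Subgroup.zpowers y :=
      (Subgroup.mem_normalizer_iff.1 hk y).1 (Subgroup.mem_zpowers y)
    have hky2 : (k * y * k⁻¹)^2 ≠ 1 := by
      intro h
      rw [conj_pow] at h
      exact hy2 (conj_eq_one_iff.1 h)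
    have hc4 : Nat.card (Subgroup.zpowers (k * y * k⁻¹)) = 4 :=
      card_zpowers_four hQ (hD'S h2) hky2
    have e1 : Subgroup.zpowers (k * y * k⁻¹) = Subgroup.zpowers x :=
      Subgroup.eq_of_le_of_card_ge (Subgroup.zpowers_le.2 h1) (by rw [hD4, hc4])
    have e2 : Subgroup.zpowers (k * y * k⁻¹) = Subgroup.zpowers y :=
      Subgroup.eq_of_le_of_card_ge (Subgroup.zpowers_le.2 h2) (by rw [hD'4, hc4])
    have hyx : y ∈ Subgroup.zpowers x := by
      rw [← e1, e2]; exact Subgroup.mem_zpowers y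
    have hord : orderOf x = 4 := orderOf_eq_four (hQ.pow4 x hx) hx2
    have hx4 : x^4 = 1 := hQ.pow4 x hx
    rw [mem_zpowers_iff_mem_range_orderOf, hord] at hyx
    obtain ⟨i, hi, hiy⟩ := Finset.mem_image.1 hyx
    rw [Finset.mem_range] at hi
    have hiy' : x ^ i = y := hiy
    interval_cases i
    · exfalso; apply hy2; rw [← hiy']; simp
    · refine ⟨1, one_mem _, ?_⟩
      rw [← hiy']; group
    · exfalso; apply hy2; rw [← hiy', ← pow_mul]; exact hx4
    · obtain ⟨s, hs, hsx⟩ := hQ.inv x hx hx2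
      refine ⟨s, hs, ?_⟩
      rw [hsx, ← hiy']
      apply inv_eq_of_mul_eq_one_right
      rw [← pow_succ', hx4]

/-- Let S be a Sylow 2-subgroup of the finite group G that is isomorphic to the quaternion group of order 8, and suppose S has no normal complement in G. Then any two subgroups of order 4 of S are conjugate by an element of the normalizer of S. -/
theorem result {G : Type*} [Group G] [Finite G] (S : Sylow 2 G) (e : (S : Subgroup G) ≃* QuaternionGroup 2) (hnc : ∀ N : Subgroup G, N.Normal → ¬ Subgroup.IsComplement' N (S : Subgroup G)) (A B : Subgroup G) (hA : A ≤ S) (hB : B ≤ S) (hA4 : Nat.card A = 4) (hB4 : Nat.card B = 4) : ∃ n ∈ Subgroup.normalizer ((S : Subgroup G) : Set G), B = A.map (MulAut.conj n).toMonoidHom := by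
  classical
  haveI : Fact (Nat.Prime 2) := ⟨Nat.prime_two⟩
  by_contra hcon
  push Not at hcon
  have hQ : Q8Like (S : Subgroup G) := q8Like_of_equiv e
  have hS8 : Nat.card (S : Subgroup G) = 8 := by
    rw [Nat.card_congr e.toEquiv, Nat.card_eq_fintype_card, QuaternionGroup.card]
  have hfix := fun n hn D hD hD4 => conj_fixed S hQ hS8 hA hB hA4 hB4 hcon n hn D hD hD4
  have hctl := controls_of_fixed S hQ hS8 hfix
  obtain ⟨P, N, hN, hc⟩ := hasNormalPComplement_of_controls S hctl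
  apply hnc N hN
  have h1 := hc.card_mul_card
  have h3 := (P : Subgroup G).card_mul_index
  have hidx : (P : Subgroup G).index = Nat.card N := by
    rw [← h1, mul_comm] at h3
    exact Nat.eq_of_mul_eq_mul_right Nat.card_pos h3
  have hcard : Nat.card (S : Subgroup G) = Nat.card (P : Subgroup G) := by
    rw [S.card_eq_multiplicity, P.card_eq_multiplicity]
  apply Subgroup.isComplement'_of_coprime
  · rw [hcard]; exact h1
  · rw [hS8, ← hidx]
    have h2 := P.not_dvd_index
    have : Nat.Coprime (P : Subgroup G).index 2 :=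
      (Nat.Coprime.symm ((Nat.Prime.coprime_iff_not_dvd Nat.prime_two).mpr h2))
    exact Nat.Coprime.pow_right 3 this

end Cfsg.Agent.S0950
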