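import Mathlib
import Cfsg.Statements.S0947
import Cfsg.Agent.Lib.helper3.PrincSection2
import Cfsg.Agent.Lib.Lead.PiCore

set_option autoImplicit false
open Cfsg

namespace Cfsg.Agent.S0947

set_option linter.style.haveILetI false

open Cfsg Cfsg.Agent.Lib.helper3.Block Cfsg.Agent.Lib.helper3.LocalM Cfsg.Agent.Lib.helper3.Irr Cfsg.Agent.Lib.helper3.CharBasic

/-- Let z ≠ 1 be a p-element of the finite group G with centralizer H, and fix a maximal ideal M of the algebraic integers containing p. (i) For every y ∈ H of order prime to p, the sum over ζ in the principal block of G of |ζ (z * y)|² equals the sum over χ in the principal block of H of |χ y|². (ii) If moreover H has a normal p-complement (its largest normal subgroup of order prime to p has p-power index), that common value is the largest power of p dividing the order of H. -/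
theorem result {G : Type*} [Group G] [Finite G] (p : ℕ) [Fact p.Prime] (M : Ideal Cfsg.AlgInt) (hM : Cfsg.IsPModular p M) (z : G) (hz : ∃ k : ℕ, orderOf z = p ^ k) (hz1 : z ≠ 1) (y : Subgroup.centralizer ({z} : Set G)) (hy : ¬ p ∣ orderOf y) : (∑ᶠ ζ ∈ Cfsg.principalBlock M G, ‖(ζ : G → ℂ) (z * (y : G))‖ ^ 2 = ∑ᶠ χ ∈ Cfsg.principalBlock M (Subgroup.centralizer ({z} : Set G)), ‖(χ : Subgroup.centralizer ({z} : Set G) → ℂ) y‖ ^ 2) ∧ ((∃ k : ℕ, (Cfsg.pPrimeCore p (Subgroup.centralizer ({z} : Set G))).index = p ^ k) → ∑ᶠ ζ ∈ Cfsg.principalBlock M G, ‖(ζ : G → ℂ) (z * (y : G))‖ ^ 2 = ((p ^ (Nat.card (Subgroup.centralizer ({z} : Set G))).factorization p : ℕ) : ℝ)) := by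
  classical
  letI : Fintype G := Fintype.ofFinite G
  letI : Fintype (Subgroup.centralizer ({z} : Set G)) := Fintype.ofFinite _
  have hp : p.Prime := Fact.out
  obtain ⟨k, hk⟩ := hz
  have h1 := sum_principal_section_sq hM z k hk y hy
  have hfirst : ∑ᶠ ζ ∈ Cfsg.principalBlock M G, ‖(ζ : G → ℂ) (z * (y : G))‖ ^ 2
      = ∑ᶠ χ ∈ Cfsg.principalBlock M (Subgroup.centralizer ({z} : Set G)),
        ‖(χ : Subgroup.centralizer ({z} : Set G) → ℂ) y‖ ^ 2 := by
    apply Complex.ofReal_injective
    rw [ofReal_finsum_mem_norm_sq (Cfsg.principalBlock M G)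
      (fun ζ : Cfsg.IrrCharacter G => (ζ : G → ℂ) (z * (y : G))),
      ofReal_finsum_mem_norm_sq (Cfsg.principalBlock M (Subgroup.centralizer ({z} : Set G)))
      (fun χ : Cfsg.IrrCharacter (Subgroup.centralizer ({z} : Set G)) =>
        (χ : Subgroup.centralizer ({z} : Set G) → ℂ) y)]
    exact h1
  refine ⟨hfirst, ?_⟩
  rintro ⟨j, hj⟩
  rw [hfirst]
  apply Complex.ofReal_injective
  rw [ofReal_finsum_mem_norm_sq (Cfsg.principalBlock M (Subgroup.centralizer ({z} : Set G)))
      (fun χ : Cfsg.IrrCharacter (Subgroup.centralizer ({z} : Set G)) =>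
        (χ : Subgroup.centralizer ({z} : Set G) → ℂ) y)]
  have hcop := Cfsg.Agent.Lib.Lead.PiCore.pPrimeCore_coprime
    (G := Subgroup.centralizer ({z} : Set G)) hp
  haveI := Cfsg.Agent.Lib.Lead.PiCore.pPrimeCore_normal
    (G := Subgroup.centralizer ({z} : Set G)) p
  rw [sum_principal_sq_of_normal_pcomplement hM
    (Cfsg.pPrimeCore p (Subgroup.centralizer ({z} : Set G))) hcop j hj y hy]
  have hmul : Nat.card (Subgroup.centralizer ({z} : Set G))
      = Nat.card (Cfsg.pPrimeCore p (Subgroup.centralizer ({z} : Set G)))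
        * (Cfsg.pPrimeCore p (Subgroup.centralizer ({z} : Set G))).index :=
    (Subgroup.card_mul_index _).symm
  have hpK : ¬ p ∣ Nat.card (Cfsg.pPrimeCore p (Subgroup.centralizer ({z} : Set G))) := by
    intro h
    exact hp.one_lt.ne' (Nat.Coprime.eq_one_of_dvd hcop.symm h)
  have hfac : (Nat.card (Subgroup.centralizer ({z} : Set G))).factorization p = j := by
    rw [hmul, hj, Nat.factorization_mul Nat.card_pos.ne' (pow_pos hp.pos j).ne']
    simp only [Finsupp.coe_add, Pi.add_apply]
    rw [Nat.factorization_eq_zero_of_not_dvd hpK, hp.factorization_pow, zero_add]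
    simp
  rw [hfac, hj]
  push_cast
  rfl


end Cfsg.Agent.S0947
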