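import Cfsg.Statements.S2308
import Cfsg.Agent.H9.PrincipalSeries
import Cfsg.Agent.Lib.helper3.PermChar2

set_option autoImplicit false
open Cfsg

namespace Cfsg.Agent.S2308

open Matrix Cfsg.Agent.H9.PrincipalSeries Cfsg.Agent.Lib.helper3.IndFun

variable {F : Type*} [Field F]

local notation "GL2" => Matrix.GeneralLinearGroup (Fin 2) F
local notation "SL2" => Matrix.SpecialLinearGroup (Fin 2) F

theorem mem_BGL (g : GL2) : g ∈ Cfsg.upperTriangularGL 2 F ↔ (g : Matrix (Fin 2) (Fin 2) F) 1 0 = 0 := by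
  change (g : Matrix (Fin 2) (Fin 2) F).BlockTriangular id ↔ _
  constructor
  · intro h
    exact h (show (id (0 : Fin 2) : Fin 2) < id 1 by decide)
  · intro h i j hij
    fin_cases i <;> fin_cases j
    · exact absurd hij (by decide)
    · exact absurd hij (by decide)
    · exact h
    · exact absurd hij (by decide)

/-- the representatives in GL₂ -/
noncomputable def repsGL (i : Option F) : GL2 := Matrix.SpecialLinearGroup.toGL (reps i)

theorem coe_inv_repsGL (i : Option F) :
    (((repsGL i)⁻¹ : GL2) : Matrix (Fin 2) (Fin 2) F) = ((reps i)⁻¹ : SL2).1 := by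
  unfold repsGL
  rw [← map_inv]
  rfl

theorem coe_repsGL (i : Option F) :
    ((repsGL i : GL2) : Matrix (Fin 2) (Fin 2) F) = (reps i : SL2).1 := rfl

theorem inv_xc (c : F) : ((xc c)⁻¹ : SL2).1 = !![1, 0; -c, 1] := by
  obtain ⟨e00, e01, e10, e11⟩ := inv_entries (xc c)
  ext i j
  fin_cases i <;> fin_cases j
  · simpa [xc] using e00
  · simpa [xc] using e01
  · simpa [xc] using e10
  · simpa [xc] using e11

theorem inv_ww : ((ww : SL2)⁻¹ : SL2).1 = !![0, 1; -1, 0] := by
  obtain ⟨e00, e01, e10, e11⟩ := inv_entries (ww : SL2)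
  ext i j
  fin_cases i <;> fin_cases j
  · simpa [ww] using e00
  · simpa [ww] using e01
  · simpa [ww] using e10
  · simpa [ww] using e11

theorem conj_some (g : GL2) (c : F) :
    (((repsGL (some c))⁻¹ * g * repsGL (some c) : GL2) : Matrix (Fin 2) (Fin 2) F) 1 0
      = (g : Matrix (Fin 2) (Fin 2) F) 1 0 + ((g : Matrix (Fin 2) (Fin 2) F) 1 1
        - (g : Matrix (Fin 2) (Fin 2) F) 0 0) * c - (g : Matrix (Fin 2) (Fin 2) F) 0 1 * c ^ 2 := by
  rw [Units.val_mul, Units.val_mul, coe_inv_repsGL, coe_repsGL]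
  simp only [reps]
  rw [inv_xc, Matrix.mul_apply, Fin.sum_univ_two, Matrix.mul_apply, Matrix.mul_apply,
    Fin.sum_univ_two, Fin.sum_univ_two]
  simp [xc]
  ring

theorem conj_none (g : GL2) :
    (((repsGL none)⁻¹ * g * repsGL none : GL2) : Matrix (Fin 2) (Fin 2) F) 1 0
      = -(g : Matrix (Fin 2) (Fin 2) F) 0 1 := by
  rw [Units.val_mul, Units.val_mul, coe_inv_repsGL, coe_repsGL]
  simp only [reps]
  rw [inv_ww, Matrix.mul_apply, Fin.sum_univ_two, Matrix.mul_apply, Matrix.mul_apply,
    Fin.sum_univ_two, Fin.sum_univ_two]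
  simp [ww]

theorem repsGL_bijective : Function.Bijective
    (fun i : Option F => ((repsGL i : GL2) : GL2 ⧸ Cfsg.upperTriangularGL 2 F)) := by
  constructor
  · intro i j hij
    simp only at hij
    rw [QuotientGroup.eq] at hij
    apply (reps_bijective (F := F)).1
    simp only
    rw [QuotientGroup.eq]
    rw [Subgroup.mem_comap, map_mul, map_inv]
    exact hij
  · intro q
    obtain ⟨g, rfl⟩ := QuotientGroup.mk_surjective q
    by_cases h0 : (g : Matrix (Fin 2) (Fin 2) F) 0 0 = 0
    · refine ⟨none, ?_⟩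
      simp only
      rw [QuotientGroup.eq, mem_BGL, Units.val_mul, coe_inv_repsGL]
      simp only [reps]
      rw [inv_ww, Matrix.mul_apply, Fin.sum_univ_two]
      simp [h0]
    · refine ⟨some ((g : Matrix (Fin 2) (Fin 2) F) 1 0 / (g : Matrix (Fin 2) (Fin 2) F) 0 0), ?_⟩
      simp only
      rw [QuotientGroup.eq, mem_BGL, Units.val_mul, coe_inv_repsGL]
      simp only [reps]
      rw [inv_xc, Matrix.mul_apply, Fin.sum_univ_two]
      simp
      field_simp
      ring

theorem fpc_eq [Fintype F] [DecidableEq F] (g : GL2) :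
    Cfsg.fixedPointCharacter (Cfsg.upperTriangularGL 2 F) g =
      (∑ c : F, if (g : Matrix (Fin 2) (Fin 2) F) 1 0 + ((g : Matrix (Fin 2) (Fin 2) F) 1 1
        - (g : Matrix (Fin 2) (Fin 2) F) 0 0) * c - (g : Matrix (Fin 2) (Fin 2) F) 0 1 * c ^ 2 = 0
        then (1 : ℂ) else 0) + (if (g : Matrix (Fin 2) (Fin 2) F) 0 1 = 0 then 1 else 0) := by
  classical
  letI : Fintype GL2 := Fintype.ofFinite _
  have h1 := congrFun (Cfsg.Agent.Lib.helper3.PermChar.indFun_one_eq_card_fixedBy
    (Cfsg.upperTriangularGL 2 F)) g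
  unfold fixedPointCharacter
  rw [← h1, indFun_eq_sum_reps _ _ (fun _ _ => rfl) repsGL repsGL_bijective, Fintype.sum_option,
    add_comm]
  congr 1
  · apply Finset.sum_congr rfl
    intro c _
    rw [extendByZero_eq_ite, mem_BGL, conj_some]
    split_ifs <;> rfl
  · rw [extendByZero_eq_ite, mem_BGL, conj_none, neg_eq_zero]
    split_ifs <;> rfl

/-- Values of the permutation character of GL₂ over a finite field F with q elements on the cosets of its upper triangular subgroup (equivalently, the number of lines of F² that an element maps to themselves): q + 1 at a scalar matrix, 2 at a diagonal matrix with two different diagonal entries, 0 at an element with no eigenvector in F², and 1 at an upper triangular matrix with equal diagonal entries and non-zero upper right entry. -/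
theorem result {F : Type*} [Field F] [Fintype F] (g : Matrix.GeneralLinearGroup (Fin 2) F) :
    ((∃ a : F, (g : Matrix (Fin 2) (Fin 2) F) = a • (1 : Matrix (Fin 2) (Fin 2) F)) → Cfsg.fixedPointCharacter (Cfsg.upperTriangularGL 2 F) g = Fintype.card F + 1) ∧
    ((g : Matrix (Fin 2) (Fin 2) F) 0 1 = 0 → (g : Matrix (Fin 2) (Fin 2) F) 1 0 = 0 → (g : Matrix (Fin 2) (Fin 2) F) 0 0 ≠ (g : Matrix (Fin 2) (Fin 2) F) 1 1 →
      Cfsg.fixedPointCharacter (Cfsg.upperTriangularGL 2 F) g = 2) ∧
    ((∀ (c : F) (v : Fin 2 → F), v ≠ 0 → (g : Matrix (Fin 2) (Fin 2) F).mulVec v ≠ c • v) → Cfsg.fixedPointCharacter (Cfsg.upperTriangularGL 2 F) g = 0) ∧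
    ((g : Matrix (Fin 2) (Fin 2) F) 1 0 = 0 → (g : Matrix (Fin 2) (Fin 2) F) 0 0 = (g : Matrix (Fin 2) (Fin 2) F) 1 1 → (g : Matrix (Fin 2) (Fin 2) F) 0 1 ≠ 0 →
      Cfsg.fixedPointCharacter (Cfsg.upperTriangularGL 2 F) g = 1) := by
  classical
  have key := fpc_eq g
  refine ⟨?_, ?_, ?_, ?_⟩
  · rintro ⟨a, ha⟩
    rw [key, ha]
    simp
  · intro h01 h10 hne
    rw [key, h01, h10]
    have hd : (g : Matrix (Fin 2) (Fin 2) F) 1 1 - (g : Matrix (Fin 2) (Fin 2) F) 0 0 ≠ 0 :=
      sub_ne_zero.mpr (Ne.symm hne)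
    have : ∀ c : F, (if (0 : F) + ((g : Matrix (Fin 2) (Fin 2) F) 1 1
        - (g : Matrix (Fin 2) (Fin 2) F) 0 0) * c - 0 * c ^ 2 = 0 then (1 : ℂ) else 0)
        = if c = 0 then 1 else 0 := by
      intro c
      have hiff : (0 : F) + ((g : Matrix (Fin 2) (Fin 2) F) 1 1
          - (g : Matrix (Fin 2) (Fin 2) F) 0 0) * c - 0 * c ^ 2 = 0 ↔ c = 0 := by
        constructor
        · intro h
          have : ((g : Matrix (Fin 2) (Fin 2) F) 1 1 - (g : Matrix (Fin 2) (Fin 2) F) 0 0) * c = 0 := by
            linear_combination h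
          rcases mul_eq_zero.mp this with h | h
          · exact absurd h hd
          · exact h
        · intro h; rw [h]; ring
      by_cases hc : c = 0
      · rw [if_pos (hiff.mpr hc), if_pos hc]
      · rw [if_neg (fun h => hc (hiff.mp h)), if_neg hc]
    simp only [this]
    simp
    norm_num
  · intro hno
    rw [key]
    have h1 : ∀ c : F, (if (g : Matrix (Fin 2) (Fin 2) F) 1 0 + ((g : Matrix (Fin 2) (Fin 2) F) 1 1
        - (g : Matrix (Fin 2) (Fin 2) F) 0 0) * c - (g : Matrix (Fin 2) (Fin 2) F) 0 1 * c ^ 2 = 0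
        then (1 : ℂ) else 0) = 0 := by
      intro c
      rw [if_neg]
      intro h
      apply hno ((g : Matrix (Fin 2) (Fin 2) F) 0 0 + (g : Matrix (Fin 2) (Fin 2) F) 0 1 * c) ![1, c]
      · intro hv
        have := congrFun hv 0
        simp at this
      · ext i
        fin_cases i
        · simp [Matrix.mulVec, dotProduct, Fin.sum_univ_two]
        · simp [Matrix.mulVec, dotProduct, Fin.sum_univ_two]
          linear_combination h
    have h2 : (g : Matrix (Fin 2) (Fin 2) F) 0 1 ≠ 0 := by
      intro h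
      apply hno ((g : Matrix (Fin 2) (Fin 2) F) 1 1) ![0, 1]
      · intro hv
        have := congrFun hv 1
        simp at this
      · ext i
        fin_cases i
        · simp [Matrix.mulVec, dotProduct, Fin.sum_univ_two, h]
        · simp [Matrix.mulVec, dotProduct, Fin.sum_univ_two]
    simp only [h1, if_neg h2]
    simp
  · intro h10 heq hne
    rw [key, h10, heq]
    have : ∀ c : F, (if (0 : F) + ((g : Matrix (Fin 2) (Fin 2) F) 1 1
        - (g : Matrix (Fin 2) (Fin 2) F) 1 1) * c - (g : Matrix (Fin 2) (Fin 2) F) 0 1 * c ^ 2 = 0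
        then (1 : ℂ) else 0) = if c = 0 then 1 else 0 := by
      intro c
      have hiff : (0 : F) + ((g : Matrix (Fin 2) (Fin 2) F) 1 1
          - (g : Matrix (Fin 2) (Fin 2) F) 1 1) * c - (g : Matrix (Fin 2) (Fin 2) F) 0 1 * c ^ 2 = 0
          ↔ c = 0 := by
        constructor
        · intro h
          have : (g : Matrix (Fin 2) (Fin 2) F) 0 1 * c ^ 2 = 0 := by linear_combination -h
          rcases mul_eq_zero.mp this with h | h
          · exact absurd h hne
          · exact pow_eq_zero_iff (two_ne_zero) |>.mp h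
        · intro h; rw [h]; ring
      by_cases hc : c = 0
      · rw [if_pos (hiff.mpr hc), if_pos hc]
      · rw [if_neg (fun h => hc (hiff.mp h)), if_neg hc]
    simp only [this, if_neg hne]
    simp


end Cfsg.Agent.S2308
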