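import Cfsg.Statements.S2306
import Cfsg.Agent.H9.PrincipalSeriesInner
import Cfsg.Agent.Lib.helper3.Irr9
import Cfsg.Agent.Lib.helper3.TransferChar

set_option autoImplicit false
open Cfsg

namespace Cfsg.Agent.S2306

open Matrix Cfsg.Agent.H9.PrincipalSeries

variable {F : Type*} [Field F]

local notation "SL2" => Matrix.SpecialLinearGroup (Fin 2) F

/-- the diagonal entry homomorphism of the Borel subgroup -/
noncomputable def dHom : ↥(Bor : Subgroup SL2) →* Fˣ where
  toFun b := Units.mkOfMulEqOne ((b : SL2).1 0 0) ((b : SL2).1 1 1) (by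
    have hb : (b : SL2).1 1 0 = 0 := (mem_Bor _).mp b.2
    have hdet := det_entries (b : SL2)
    rw [hb, mul_zero, sub_zero] at hdet
    exact hdet)
  map_one' := by
    apply Units.ext
    simp
  map_mul' b b' := by
    apply Units.ext
    have hb : (b' : SL2).1 1 0 = 0 := (mem_Bor _).mp b'.2
    change ((b : SL2) * (b' : SL2)).1 0 0 = (b : SL2).1 0 0 * (b' : SL2).1 0 0
    rw [mul_entries, hb, mul_zero, add_zero]

theorem theta_isCharacter (α : MulChar F ℂ) : IsCharacter ↥(Bor : Subgroup SL2) (theta α) := by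
  have := Cfsg.Agent.Lib.helper3.Lin.isCharacter_of_hom ((MulChar.toUnitHom α).comp dHom)
  convert this using 1
  funext b
  rw [MonoidHom.comp_apply, MulChar.coe_toUnitHom]
  rfl

/-- Over a finite field F, for a multiplicative character α of F, the function induced to SL₂ from the linear character b ↦ α(b₁₁) of the upper triangular subgroup is an irreducible character if and only if α² ≠ 1. -/
theorem result {F : Type*} [Field F] [Fintype F] [DecidableEq F] (α : MulChar F ℂ) :
    Cfsg.IsIrrCharacter (Matrix.SpecialLinearGroup (Fin 2) F) (Cfsg.indFun ((Cfsg.upperTriangularGL 2 F).comap Matrix.SpecialLinearGroup.toGL) (fun b => α (((b : Matrix.SpecialLinearGroup (Fin 2) F) : Matrix (Fin 2) (Fin 2) F) 0 0))) ↔ α ^ 2 ≠ 1 := by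
  classical
  have hchar : IsCharacter (Matrix.SpecialLinearGroup (Fin 2) F)
      (indFun (Bor : Subgroup (Matrix.SpecialLinearGroup (Fin 2) F)) (theta α)) :=
    Cfsg.Agent.Lib.helper3.Irr.isCharacter_indFun _ _ (theta_isCharacter α)
  have hin := classInner_R α α
  change IsIrrCharacter _ (indFun (Bor : Subgroup (Matrix.SpecialLinearGroup (Fin 2) F)) (theta α)) ↔ _
  rw [Cfsg.Agent.Lib.helper3.Irr.isIrrCharacter_iff, hin, if_pos rfl]
  constructor
  · rintro ⟨-, h⟩ h2
    have : α = α⁻¹ := by
      rw [eq_inv_iff_mul_eq_one, ← pow_two]; exact h2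
    rw [if_pos this] at h
    norm_num at h
  · intro h
    refine ⟨hchar, ?_⟩
    have : ¬ α = α⁻¹ := by
      intro h2
      apply h
      rw [pow_two, ← eq_inv_iff_mul_eq_one]; exact h2
    rw [if_neg this, add_zero]


end Cfsg.Agent.S2306
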