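import Cfsg.Statements.S2307
import Cfsg.Agent.S2306
import Cfsg.Agent.Lib.helper3.Inflate2
import Cfsg.Agent.Lib.helper3.NormTwo
import Cfsg.Agent.Lib.helper3.Irr12

set_option autoImplicit false
open Cfsg

namespace Cfsg.Agent.S2307

open Matrix Cfsg.Agent.H9.PrincipalSeries Cfsg.Agent.Lib.helper3.IndFun Cfsg.Agent.Lib.helper3.Irr
open scoped ComplexConjugate

section general

variable {G : Type*} [Group G] [Fintype G]

/-- a character of norm two is the sum of two distinct irreducible characters -/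
theorem exists_two_of_norm_two {χ : G → ℂ} (hχ : IsCharacter G χ)
    (h2 : classInner χ χ = 2) :
    ∃ ψ₁ ψ₂ : G → ℂ, IsIrrCharacter G ψ₁ ∧ IsIrrCharacter G ψ₂ ∧ ψ₁ ≠ ψ₂ ∧ χ = ψ₁ + ψ₂ := by
  classical
  obtain ⟨m, hm⟩ := exists_decomposition_of_isCharacter hχ
  have h3 := classInner_self_decomposition m
  rw [← hm, h2] at h3
  have h4 : ∑ ψ, ((m ψ : ℤ)) ^ 2 = 2 := by
    have : ((∑ ψ, m ψ ^ 2 : ℕ) : ℂ) = ((2 : ℕ) : ℂ) := by rw [← h3]; norm_num
    have := Nat.cast_injective this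
    exact_mod_cast this
  obtain ⟨a, b, hab, ha, hb, hc⟩ := int_sq_sum_two (fun ψ => (m ψ : ℤ)) h4
  have ha1 : m a = 1 := by omega
  have hb1 : m b = 1 := by omega
  refine ⟨a, b, a.2, b.2, fun h => hab (Subtype.ext h), ?_⟩
  rw [hm, ← Finset.add_sum_erase _ _ (Finset.mem_univ a),
    ← Finset.add_sum_erase _ _ (Finset.mem_erase.mpr ⟨hab.symm, Finset.mem_univ b⟩),
    Finset.sum_eq_zero, ha1, hb1]
  · simp
  · intro c hc'
    rw [Finset.mem_erase, Finset.mem_erase] at hc'
    have := hc c hc'.2.1 hc'.1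

    have : m c = 0 := by omega
    rw [this]
    simp

end general


section fourier

variable {F : Type*} [Field F] [Fintype F] [DecidableEq F]

theorem conj_mul_psi (ψ : AddChar F ℂ) (c b b₀ : F) :
    conj (ψ (c * b)) * ψ (c * b₀) = ψ (c * (b₀ - b)) := by
  rw [← AddChar.map_neg_eq_conj, ← AddChar.map_add_eq_mul]
  congr 1
  ring

/-- if all nontrivial Fourier coefficients vanish, the function is constant -/
theorem const_of_fourier (ψ : AddChar F ℂ) (hψ : ψ.IsPrimitive) (f : F → ℂ)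
    (h : ∀ c : F, c ≠ 0 → ∑ b, f b * conj (ψ (c * b)) = 0) (b₀ : F) : f b₀ = f 0 := by
  have hq : (Fintype.card F : ℂ) ≠ 0 := by
    exact_mod_cast Fintype.card_ne_zero
  have key : ∀ b₀ : F, (Fintype.card F : ℂ) * f b₀ = ∑ b, f b := by
    intro b₀
    have h1 : ∑ c : F, (∑ b, f b * conj (ψ (c * b))) * ψ (c * b₀)
        = (Fintype.card F : ℂ) * f b₀ := by
      simp_rw [Finset.sum_mul]
      rw [Finset.sum_comm]
      have h3 : ∀ b, ∑ c, f b * conj (ψ (c * b)) * ψ (c * b₀)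
          = f b * (if b₀ - b = 0 then (Fintype.card F : ℂ) else 0) := by
        intro b
        have h4 := AddChar.sum_mulShift (b₀ - b) hψ
        have h5 : ∀ c, f b * conj (ψ (c * b)) * ψ (c * b₀) = f b * ψ (c * (b₀ - b)) := by
          intro c
          rw [mul_assoc, conj_mul_psi]
        simp_rw [h5]
        rw [← Finset.mul_sum, h4]
        split_ifs <;> simp
      simp_rw [h3]
      rw [Finset.sum_eq_single b₀]
      · rw [sub_self, if_pos rfl, mul_comm]
      · intro b _ hb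
        rw [if_neg (sub_ne_zero.mpr (Ne.symm hb)), mul_zero]
      · intro h; exact absurd (Finset.mem_univ _) h
    have h2 : ∑ c : F, (∑ b, f b * conj (ψ (c * b))) * ψ (c * b₀) = ∑ b, f b := by
      rw [Finset.sum_eq_single 0]
      · simp
      · intro c _ hc
        rw [h c hc, zero_mul]
      · intro h; exact absurd (Finset.mem_univ _) h
    rw [← h1, h2]
  have := (key b₀).trans (key 0).symm
  exact mul_left_cancel₀ hq this

end fourier


section mats

variable {F : Type*} [Field F]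

local notation "SL2" => Matrix.SpecialLinearGroup (Fin 2) F
local notation "GL2" => Matrix.GeneralLinearGroup (Fin 2) F

/-- upper unitriangular matrices -/
def uu (b : F) : SL2 := ⟨!![1, b; 0, 1], by simp [Matrix.det_fin_two]⟩

theorem uu_add (a b : F) : uu (a + b) = uu a * uu b := by
  apply ext_entries <;> rw [mul_entries] <;> simp [uu]
  ring

theorem uu_zero : uu (0 : F) = 1 := by
  apply ext_entries <;> simp [uu]

/-- the unipotent subgroup as a homomorphism -/
def uuHom : Multiplicative F →* SL2 where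
  toFun x := uu x.toAdd
  map_one' := uu_zero
  map_mul' x y := uu_add _ _

/-- conjugation by diag(ν, 1) -/
def cxFun (ν : Fˣ) (g : SL2) : SL2 :=
  ⟨!![g.1 0 0, ν * g.1 0 1; (ν : F)⁻¹ * g.1 1 0, g.1 1 1], by
    rw [Matrix.det_fin_two_of]
    have := det_entries g
    have hν : (ν : F) ≠ 0 := ν.ne_zero
    field_simp
    linear_combination this⟩

theorem cxFun_entries (ν : Fˣ) (g : SL2) :
    (cxFun ν g).1 0 0 = g.1 0 0 ∧ (cxFun ν g).1 0 1 = ν * g.1 0 1 ∧
    (cxFun ν g).1 1 0 = (ν : F)⁻¹ * g.1 1 0 ∧ (cxFun ν g).1 1 1 = g.1 1 1 := by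
  refine ⟨?_, ?_, ?_, ?_⟩ <;> simp [cxFun]

theorem cxFun_mul (ν : Fˣ) (g h : SL2) : cxFun ν (g * h) = cxFun ν g * cxFun ν h := by
  obtain ⟨a1, a2, a3, a4⟩ := cxFun_entries ν (g * h)
  obtain ⟨b1, b2, b3, b4⟩ := cxFun_entries ν g
  obtain ⟨c1, c2, c3, c4⟩ := cxFun_entries ν h
  have hν : (ν : F) ≠ 0 := ν.ne_zero
  apply ext_entries
  · rw [a1, mul_entries, mul_entries, b1, b2, c1, c3]
    field_simp
  · rw [a2, mul_entries, mul_entries, b1, b2, c2, c4]
    ring
  · rw [a3, mul_entries, mul_entries, b3, b4, c1, c3]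
    ring
  · rw [a4, mul_entries, mul_entries, b3, b4, c2, c4]
    field_simp

theorem cxFun_cxFun (ν μ : Fˣ) (h : (ν : F) * μ = 1) (g : SL2) : cxFun ν (cxFun μ g) = g := by
  obtain ⟨a1, a2, a3, a4⟩ := cxFun_entries ν (cxFun μ g)
  obtain ⟨b1, b2, b3, b4⟩ := cxFun_entries μ g
  have hν : (ν : F) ≠ 0 := ν.ne_zero
  have hμ : (μ : F) ≠ 0 := μ.ne_zero
  apply ext_entries
  · rw [a1, b1]
  · rw [a2, b2, ← mul_assoc, h, one_mul]
  · rw [a3, b3, ← mul_assoc, ← mul_inv, h, inv_one, one_mul]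
  · rw [a4, b4]

/-- conjugation by diag(ν, 1) as an automorphism -/
def cx (ν : Fˣ) : SL2 ≃* SL2 where
  toFun := cxFun ν
  invFun := cxFun ν⁻¹
  left_inv g := cxFun_cxFun _ _ (by simp) g
  right_inv g := cxFun_cxFun _ _ (by simp) g
  map_mul' := cxFun_mul ν

theorem cx_entries (ν : Fˣ) (g : SL2) :
    (cx ν g).1 0 0 = g.1 0 0 ∧ (cx ν g).1 0 1 = ν * g.1 0 1 ∧
    (cx ν g).1 1 0 = (ν : F)⁻¹ * g.1 1 0 ∧ (cx ν g).1 1 1 = g.1 1 1 := cxFun_entries ν g

theorem cx_uu (ν : Fˣ) (b : F) : cx ν (uu b) = uu (ν * b) := by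
  obtain ⟨a1, a2, a3, a4⟩ := cx_entries ν (uu b)
  apply ext_entries
  · rw [a1]; simp [uu]
  · rw [a2]; simp [uu]
  · rw [a3]; simp [uu]
  · rw [a4]; simp [uu]

/-- diag(ν, 1) in GL₂ -/
def dg (ν : Fˣ) : GL2 :=
  ⟨!![(ν : F), 0; 0, 1], !![(ν : F)⁻¹, 0; 0, 1], by
    ext i j; fin_cases i <;> fin_cases j <;> simp [Matrix.mul_apply, Fin.sum_univ_two],
   by
    ext i j; fin_cases i <;> fin_cases j <;> simp [Matrix.mul_apply, Fin.sum_univ_two]⟩

theorem eq_cx_of_conj (ν : Fˣ) (g h : SL2)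
    (hc : Matrix.SpecialLinearGroup.toGL h = dg ν * Matrix.SpecialLinearGroup.toGL g * (dg ν)⁻¹) :
    h = cx ν g := by
  have h1 : Matrix.SpecialLinearGroup.toGL h * dg ν = dg ν * Matrix.SpecialLinearGroup.toGL g := by
    rw [hc]; group
  have h2 : h.1 * !![(ν : F), 0; 0, 1] = !![(ν : F), 0; 0, 1] * g.1 := by
    have := congrArg (fun x : GL2 => (x : Matrix (Fin 2) (Fin 2) F)) h1
    simpa [dg] using this
  have hν : (ν : F) ≠ 0 := ν.ne_zero
  obtain ⟨a1, a2, a3, a4⟩ := cx_entries ν g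
  have e00 := congrFun (congrFun h2 0) 0
  have e01 := congrFun (congrFun h2 0) 1
  have e10 := congrFun (congrFun h2 1) 0
  have e11 := congrFun (congrFun h2 1) 1
  simp [Matrix.mul_apply, Fin.sum_univ_two] at e00 e01 e10 e11
  apply ext_entries
  · rw [a1]
    exact mul_right_cancel₀ hν (e00.trans (mul_comm _ _))
  · rw [a2]; exact e01
  · rw [a3, ← e10]; field_simp
  · rw [a4]; exact e11

/-- decomposition of an element with nonzero lower-left entry -/
theorem eq_uu_xc_uu (g : SL2) (hc : g.1 1 0 ≠ 0) :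
    g = uu ((g.1 0 0 - 1) / g.1 1 0) * xc (g.1 1 0) * uu ((g.1 1 1 - 1) / g.1 1 0) := by
  have hd := det_entries g
  apply ext_entries
  · rw [mul_entries, mul_entries, mul_entries]
    simp [uu, xc]
    field_simp
    ring
  · rw [mul_entries, mul_entries, mul_entries]
    simp [uu, xc]
    field_simp
    linear_combination (-1 : F) * hd
  · rw [mul_entries, mul_entries, mul_entries]
    simp [uu, xc]
  · rw [mul_entries, mul_entries, mul_entries]
    simp [uu, xc]
    field_simp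
    ring

theorem xc_eq_conj (c : F) : xc c = ww * uu (-c) * (ww : SL2)⁻¹ := by
  obtain ⟨e00, e01, e10, e11⟩ := inv_entries (ww : SL2)
  apply ext_entries
  · rw [mul_entries, mul_entries, mul_entries, e00, e10]
    simp [uu, xc, ww]
  · rw [mul_entries, mul_entries, mul_entries, e01, e11]
    simp [uu, xc, ww]
  · rw [mul_entries, mul_entries, mul_entries, e00, e10]
    simp [uu, xc, ww]
  · rw [mul_entries, mul_entries, mul_entries, e01, e11]
    simp [uu, xc, ww]

end mats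


section chars

variable {F : Type*} [Field F] [Fintype F] [DecidableEq F]

local notation "SL2" => Matrix.SpecialLinearGroup (Fin 2) F

/-- a character trivial on the upper unitriangular matrices is trivial -/
theorem const_of_uu {χ : SL2 → ℂ} (hχ : IsCharacter SL2 χ) (h : ∀ b, χ (uu b) = χ 1) (g : SL2) :
    χ g = χ 1 := by
  have hcf := isClassFunction_of_isCharacter hχ
  have hxc : ∀ c, χ (xc c) = χ 1 := by
    intro c
    rw [xc_eq_conj, hcf, h]
  have main : ∀ g : SL2, g.1 1 0 ≠ 0 → χ g = χ 1 := by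
    intro g hc
    rw [eq_uu_xc_uu g hc, apply_mul_of_apply_eq_one hχ (h _),
      apply_mul_of_apply_eq_one hχ (hxc _), h]
  by_cases hc : g.1 1 0 = 0
  · have h1 : (g * xc 1).1 1 0 ≠ 0 := by
      rw [mul_entries]
      have hd := det_entries g
      rw [hc, mul_zero, sub_zero] at hd
      have : g.1 1 1 ≠ 0 := right_ne_zero_of_mul_eq_one hd
      simpa [xc, hc] using this
    rw [← apply_mul_of_apply_eq_one hχ (hxc 1) g]
    exact main _ h1
  · exact main g hc

/-- Fourier coefficient of the restriction to the unipotent subgroup -/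
noncomputable def NN (ψ : AddChar F ℂ) (χ : SL2 → ℂ) (c : F) : ℂ :=
  (Fintype.card F : ℂ)⁻¹ * ∑ b : F, χ (uu b) * conj (ψ (c * b))

theorem NN_nat (ψ : AddChar F ℂ) {χ : SL2 → ℂ} (hχ : IsCharacter SL2 χ) (c : F) :
    ∃ n : ℕ, NN ψ χ c = n := by
  have h1 : IsCharacter (Multiplicative F) (fun x => χ (uuHom x)) := isCharacter_comp hχ uuHom
  have h2 : IsCharacter (Multiplicative F) (fun x => ψ (c * x.toAdd)) := by
    have := Cfsg.Agent.Lib.helper3.Lin.isCharacter_of_hom
      ((AddChar.toMonoidHom (AddChar.mulShift ψ c)).toHomUnits)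
    convert this using 1
    funext x
    rw [MonoidHom.coe_toHomUnits, AddChar.toMonoidHom_apply, AddChar.mulShift_apply]
  obtain ⟨n, hn⟩ := exists_nat_classInner_of_isCharacter_of_isCharacter h1 h2
  refine ⟨n, ?_⟩
  rw [← hn, classInner_apply]
  unfold NN
  congr 1
  · simp [Nat.card_eq_fintype_card]
  · exact Fintype.sum_equiv Multiplicative.ofAdd _ _ (fun b => rfl)

theorem NN_add (ψ : AddChar F ℂ) (χ₁ χ₂ : SL2 → ℂ) (c : F) :
    NN ψ (χ₁ + χ₂) c = NN ψ χ₁ c + NN ψ χ₂ c := by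
  unfold NN
  rw [← mul_add, ← Finset.sum_add_distrib]
  congr 1
  apply Finset.sum_congr rfl
  intro b _
  rw [Pi.add_apply, add_mul]

theorem NN_cx (ψ : AddChar F ℂ) (χ : SL2 → ℂ) (ν : Fˣ) (c : F) :
    NN ψ (fun g => χ (cx ν g)) c = NN ψ χ ((ν : F)⁻¹ * c) := by
  unfold NN
  congr 1
  apply Fintype.sum_equiv (Equiv.mulLeft₀ (ν : F) ν.ne_zero)
  intro b
  simp only [cx_uu, Equiv.mulLeft₀_apply]
  congr 3
  have hν : (ν : F) ≠ 0 := ν.ne_zero
  field_simp

theorem R_uu (α : MulChar F ℂ) (b : F) :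
    indFun (Bor : Subgroup SL2) (theta α) (uu b) = 1 + (if b = 0 then (Fintype.card F : ℂ) else 0) := by
  rw [Cfsg.Agent.H9.PrincipalSeries.R_apply]
  have e00 : (uu b : SL2).1 0 0 = 1 := by simp [uu]
  have e01 : (uu b : SL2).1 0 1 = b := by simp [uu]
  have e10 : (uu b : SL2).1 1 0 = 0 := by simp [uu]
  have e11 : (uu b : SL2).1 1 1 = 1 := by simp [uu]
  rw [e00, e01, e10, e11]
  by_cases hb : b = 0
  · subst hb
    simp
    ring
  · rw [if_neg hb, if_neg hb, add_zero, add_zero, Finset.sum_eq_single 0]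
    · simp
    · intro c _ hc
      rw [if_neg]
      simp [hb, hc]
    · intro h; exact absurd (Finset.mem_univ _) h

theorem NN_R (ψ : AddChar F ℂ) (hψ : ψ.IsPrimitive) (α : MulChar F ℂ) (c : F) (hc : c ≠ 0) :
    NN ψ (indFun (Bor : Subgroup SL2) (theta α)) c = 1 := by
  unfold NN
  have hq : (Fintype.card F : ℂ) ≠ 0 := by
    exact_mod_cast Fintype.card_ne_zero
  simp_rw [R_uu, add_mul, one_mul]
  rw [Finset.sum_add_distrib]
  have h1 : ∑ b : F, conj (ψ (c * b)) = 0 := by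
    have := AddChar.sum_mulShift c hψ
    rw [if_neg hc, Nat.cast_zero] at this
    rw [← map_sum]
    simp_rw [mul_comm c]
    rw [this, map_zero]
  rw [h1, zero_add, Finset.sum_eq_single 0]
  · simp [hq]
  · intro b _ hb
    rw [if_neg hb, zero_mul]
  · intro h; exact absurd (Finset.mem_univ _) h

theorem R_cx (α : MulChar F ℂ) (ν : Fˣ) (g : SL2) :
    indFun (Bor : Subgroup SL2) (theta α) (cx ν g) = indFun (Bor : Subgroup SL2) (theta α) g := by
  rw [Cfsg.Agent.H9.PrincipalSeries.R_apply, Cfsg.Agent.H9.PrincipalSeries.R_apply]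
  obtain ⟨a1, a2, a3, a4⟩ := cx_entries ν g
  have hν : (ν : F) ≠ 0 := ν.ne_zero
  rw [a1, a2, a3, a4]
  congr 1
  · apply Fintype.sum_equiv (Equiv.mulLeft₀ (ν : F) ν.ne_zero)
    intro c
    simp only [Equiv.mulLeft₀_apply]
    have hiff : ((ν : F)⁻¹ * g.1 1 0 + (g.1 1 1 - g.1 0 0) * c - ν * g.1 0 1 * c ^ 2 = 0) ↔
        (g.1 1 0 + (g.1 1 1 - g.1 0 0) * (ν * c) - g.1 0 1 * (ν * c) ^ 2 = 0) := by
      have : g.1 1 0 + (g.1 1 1 - g.1 0 0) * (ν * c) - g.1 0 1 * (ν * c) ^ 2 =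
          ν * ((ν : F)⁻¹ * g.1 1 0 + (g.1 1 1 - g.1 0 0) * c - ν * g.1 0 1 * c ^ 2) := by
        field_simp
      rw [this, mul_eq_zero]
      constructor
      · intro h; exact Or.inr h
      · intro h; exact h.resolve_left hν
    by_cases h : (ν : F)⁻¹ * g.1 1 0 + (g.1 1 1 - g.1 0 0) * c - ν * g.1 0 1 * c ^ 2 = 0
    · rw [if_pos h, if_pos (hiff.mp h)]
      congr 2
      ring
    · rw [if_neg h, if_neg (fun h' => h (hiff.mpr h'))]
  · by_cases h : g.1 0 1 = 0
    · rw [if_pos h, if_pos (by rw [h, mul_zero])]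
    · rw [if_neg h, if_neg (mul_ne_zero hν h)]

theorem inner_const (α : MulChar F ℂ) (hα : α ≠ 1) {χ : SL2 → ℂ} (hχ : IsClassFunction SL2 χ)
    (hc : ∀ g, χ g = χ 1) :
    classInner (indFun (Bor : Subgroup SL2) (theta α)) χ = 0 := by
  classical
  letI : Fintype ↥(Bor : Subgroup SL2) := Fintype.ofFinite _
  rw [frobenius_reciprocity _ _ _ hχ, classInner_apply]
  rw [← mkB_bijective.sum_comp (fun b => theta α b * conj (χ (b : SL2))), Fintype.sum_prod_type]
  have hterm : ∀ (a : Fˣ) (x : F), theta α (mkB (a, x)) *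
      conj (χ ((mkB (a, x) : ↥(Bor : Subgroup SL2)) : SL2)) = α a * conj (χ 1) := by
    intro a x
    rw [hc]
    simp [theta, mkB]
  simp_rw [hterm]
  have h2 : ∀ a : Fˣ, ∑ _x : F, α (a : F) * conj (χ 1) = (Fintype.card F : ℂ) * conj (χ 1) * α (a : F) := by
    intro a
    rw [Finset.sum_const, Finset.card_univ, nsmul_eq_mul]
    ring
  simp_rw [h2]
  rw [← Finset.mul_sum, sum_units_eq, if_neg hα]
  simp

end chars


section main

variable {F : Type*} [Field F] [Fintype F] [DecidableEq F]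

local notation "SL2" => Matrix.SpecialLinearGroup (Fin 2) F

/-- an irreducible constituent fixed by all diagonal conjugations has a nonzero coefficient -/
theorem NN_ne_zero (ψ : AddChar F ℂ) (hψ : ψ.IsPrimitive) (α : MulChar F ℂ) (hα : α ≠ 1)
    {χ : SL2 → ℂ} (hχ : IsCharacter SL2 χ)
    (hR : classInner (indFun (Bor : Subgroup SL2) (theta α)) χ = 1)
    (hfix : ∀ ν : Fˣ, (fun g => χ (cx ν g)) = χ) : NN ψ χ 1 ≠ 0 := by
  intro h0
  have hq : (Fintype.card F : ℂ) ≠ 0 := by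
    exact_mod_cast Fintype.card_ne_zero
  have h1 : ∀ c : F, c ≠ 0 → NN ψ χ c = 0 := by
    intro c hc
    have := NN_cx ψ χ (Units.mk0 c hc) c
    rw [hfix] at this
    rw [this, Units.val_mk0, inv_mul_cancel₀ hc, h0]
  have h2 : ∀ b, χ (uu b) = χ (uu 0) := by
    apply const_of_fourier ψ hψ (fun b => χ (uu b))
    intro c hc
    have := h1 c hc
    unfold NN at this
    rcases mul_eq_zero.mp this with h | h
    · exact absurd (inv_eq_zero.mp h) hq
    · exact h
  rw [uu_zero] at h2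
  have h3 := const_of_uu hχ h2
  have h4 := inner_const α hα (isClassFunction_of_isCharacter hχ) h3
  rw [hR] at h4
  exact one_ne_zero h4

end main

/-- Over a finite field F with q elements, q odd, let α be the multiplicative character of F of order 2. The character of SL₂ induced from the linear character b ↦ α(b₁₁) of the upper triangular subgroup is the sum of two distinct irreducible characters, each of degree (q + 1)/2, which are conjugate under GL₂: some fixed element of GL₂ conjugates the one into the other. -/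
theorem result {F : Type*} [Field F] [Fintype F] [DecidableEq F] (hodd : Odd (Fintype.card F)) (α : MulChar F ℂ)
    (hα : α ^ 2 = 1) (hα1 : α ≠ 1) :
    ∃ χ₁ χ₂ : Matrix.SpecialLinearGroup (Fin 2) F → ℂ, Cfsg.IsIrrCharacter (Matrix.SpecialLinearGroup (Fin 2) F) χ₁ ∧ Cfsg.IsIrrCharacter (Matrix.SpecialLinearGroup (Fin 2) F) χ₂ ∧ χ₁ ≠ χ₂ ∧
      Cfsg.indFun ((Cfsg.upperTriangularGL 2 F).comap Matrix.SpecialLinearGroup.toGL) (fun b => α (((b : Matrix.SpecialLinearGroup (Fin 2) F) : Matrix (Fin 2) (Fin 2) F) 0 0)) = χ₁ + χ₂ ∧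
      χ₁ 1 = (((Fintype.card F + 1) / 2 : ℕ) : ℂ) ∧ χ₂ 1 = (((Fintype.card F + 1) / 2 : ℕ) : ℂ) ∧
      ∃ x : Matrix.GeneralLinearGroup (Fin 2) F, ∀ g h : Matrix.SpecialLinearGroup (Fin 2) F,
        Matrix.SpecialLinearGroup.toGL h = x * Matrix.SpecialLinearGroup.toGL g * x⁻¹ → χ₂ h = χ₁ g := by
  classical
  have hchar : IsCharacter (Matrix.SpecialLinearGroup (Fin 2) F)
      (indFun (Bor : Subgroup (Matrix.SpecialLinearGroup (Fin 2) F)) (theta α)) :=
    isCharacter_indFun _ _ (Cfsg.Agent.S2306.theta_isCharacter α)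
  have hαinv : α = α⁻¹ := by
    rw [eq_inv_iff_mul_eq_one, ← pow_two]; exact hα
  have hnorm : classInner (indFun (Bor : Subgroup (Matrix.SpecialLinearGroup (Fin 2) F)) (theta α))
      (indFun (Bor : Subgroup (Matrix.SpecialLinearGroup (Fin 2) F)) (theta α)) = 2 := by
    rw [classInner_R α α, if_pos rfl, if_pos hαinv]; norm_num
  obtain ⟨ψ₁, ψ₂, h1, h2, hne, hsum⟩ := exists_two_of_norm_two hchar hnorm
  have hc1 := isCharacter_of_isIrrCharacter h1
  have hc2 := isCharacter_of_isIrrCharacter h2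
  have hR1 : classInner (indFun (Bor : Subgroup (Matrix.SpecialLinearGroup (Fin 2) F)) (theta α)) ψ₁ = 1 := by
    rw [hsum, classInner_add_left, irr_classInner_self h1, irr_classInner_eq_zero h2 h1 (Ne.symm hne),
      add_zero]
  have hR2 : classInner (indFun (Bor : Subgroup (Matrix.SpecialLinearGroup (Fin 2) F)) (theta α)) ψ₂ = 1 := by
    rw [hsum, classInner_add_left, irr_classInner_self h2, irr_classInner_eq_zero h1 h2 hne,
      zero_add]
  have hRcx : ∀ ν : Fˣ, (fun g => indFun (Bor : Subgroup (Matrix.SpecialLinearGroup (Fin 2) F))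
      (theta α) (cx ν g)) = indFun (Bor : Subgroup (Matrix.SpecialLinearGroup (Fin 2) F)) (theta α) :=
    fun ν => funext (R_cx α ν)
  have hmove : ∀ ν : Fˣ, (fun g => ψ₁ (cx ν g)) = ψ₁ ∨ (fun g => ψ₁ (cx ν g)) = ψ₂ := by
    intro ν
    have hirr : IsIrrCharacter _ (fun g => ψ₁ (cx ν g)) := isIrrCharacter_comp_mulEquiv (cx ν) h1
    have hin := classInner_comp_mulEquiv (cx ν)
      (indFun (Bor : Subgroup (Matrix.SpecialLinearGroup (Fin 2) F)) (theta α)) ψ₁
    rw [hRcx ν, hR1, hsum, classInner_add_left, irr_classInner_eq h1 hirr,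
      irr_classInner_eq h2 hirr] at hin
    by_contra hno
    push Not at hno
    rw [if_neg (Ne.symm hno.1), if_neg (Ne.symm hno.2)] at hin
    norm_num at hin
  have hex : ∃ ν : Fˣ, (fun g => ψ₁ (cx ν g)) = ψ₂ := by
    by_contra hno
    push Not at hno
    have hfix1 : ∀ ν : Fˣ, (fun g => ψ₁ (cx ν g)) = ψ₁ := fun ν => (hmove ν).resolve_right (hno ν)
    have hfix2 : ∀ ν : Fˣ, (fun g => ψ₂ (cx ν g)) = ψ₂ := by
      intro ν
      funext g
      have h3 : indFun (Bor : Subgroup (Matrix.SpecialLinearGroup (Fin 2) F)) (theta α) (cx ν g)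
          = indFun (Bor : Subgroup (Matrix.SpecialLinearGroup (Fin 2) F)) (theta α) g := R_cx α ν g
      have h4 : ψ₁ (cx ν g) = ψ₁ g := congrFun (hfix1 ν) g
      rw [hsum, Pi.add_apply, Pi.add_apply, h4] at h3
      exact add_left_cancel h3
    set ψ := AddChar.FiniteField.primitiveChar_to_Complex F with hψdef
    have hψ : ψ.IsPrimitive := AddChar.FiniteField.primitiveChar_to_Complex_isPrimitive F
    have hn1 := NN_ne_zero ψ hψ α hα1 hc1 hR1 hfix1
    have hn2 := NN_ne_zero ψ hψ α hα1 hc2 hR2 hfix2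
    obtain ⟨n1, hn1'⟩ := NN_nat ψ hc1 1
    obtain ⟨n2, hn2'⟩ := NN_nat ψ hc2 1
    have htot := NN_R ψ hψ α 1 one_ne_zero
    rw [hsum, NN_add, hn1', hn2'] at htot
    rw [hn1'] at hn1
    rw [hn2'] at hn2
    have h5 : n1 + n2 = 1 := by exact_mod_cast htot
    have h6 : n1 ≠ 0 := by exact_mod_cast hn1
    have h7 : n2 ≠ 0 := by exact_mod_cast hn2
    omega
  obtain ⟨ν, hν⟩ := hex
  have hdeg : ψ₂ 1 = ψ₁ 1 := by
    have := congrFun hν 1
    simp only [map_one] at this
    exact this.symm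
  have hR1' := R_uu α (0 : F)
  rw [uu_zero, if_pos rfl, hsum, Pi.add_apply, hdeg] at hR1'
  have hdeg1 : ψ₁ 1 = (((Fintype.card F + 1) / 2 : ℕ) : ℂ) := by
    obtain ⟨k, hk⟩ := hodd
    have : (Fintype.card F + 1) / 2 = k + 1 := by omega
    rw [this]
    rw [hk] at hR1'
    push_cast at hR1' ⊢
    linear_combination (1 / 2 : ℂ) * hR1'
  refine ⟨ψ₂, ψ₁, h2, h1, Ne.symm hne, ?_, hdeg.trans hdeg1, hdeg1, dg ν, ?_⟩
  · rw [add_comm]
    exact hsum
  · intro g h hgh
    rw [eq_cx_of_conj ν g h hgh]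
    exact congrFun hν g

end Cfsg.Agent.S2307
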