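import Cfsg.Statements.S2330
import Mathlib
import Cfsg.Agent.H9.Mat2

set_option autoImplicit false
open Cfsg

namespace Cfsg.Agent.S2330

open Matrix Cfsg.Agent.H9.Mat2

section

variable {F : Type*} [Field F]

/-- scalar matrices -/
def IsSc (g : GL (Fin 2) F) : Prop := ∃ a : Fˣ, (g : Matrix (Fin 2) (Fin 2) F) = (a : F) • 1

theorem isSc_iff (g : GL (Fin 2) F) :
    IsSc g ↔ ∃ a : F, (g : Matrix (Fin 2) (Fin 2) F) = a • (1 : Matrix (Fin 2) (Fin 2) F) := by
  constructor
  · rintro ⟨a, ha⟩
    exact ⟨a, ha⟩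
  · rintro ⟨a, ha⟩
    have ha0 : a ≠ 0 := by
      rintro rfl
      rw [zero_smul] at ha
      have h1 := (Matrix.isUnits_det_units g).ne_zero
      rw [ha, Matrix.det_zero] at h1
      exact h1 rfl
    exact ⟨Units.mk0 a ha0, ha⟩

theorem smul_one_injective {a b : F}
    (h : a • (1 : Matrix (Fin 2) (Fin 2) F) = b • (1 : Matrix (Fin 2) (Fin 2) F)) : a = b := by
  have := congrFun (congrFun h 0) 0
  simpa using this

open Classical in
/-- the complete invariant -/
noncomputable def Psi (g : GL (Fin 2) F) : Fˣ ⊕ (F × Fˣ) :=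
  if h : IsSc g then Sum.inl (Classical.choose h)
  else Sum.inr ((g : Matrix (Fin 2) (Fin 2) F).trace, Matrix.GeneralLinearGroup.det g)

theorem Psi_sc (g : GL (Fin 2) F) (a : Fˣ) (h : (g : Matrix (Fin 2) (Fin 2) F) = (a : F) • 1) :
    Psi g = Sum.inl a := by
  have hs : IsSc g := ⟨a, h⟩
  unfold Psi
  rw [dif_pos hs]
  congr 1
  have h1 := Classical.choose_spec hs
  have h2 : (a : F) • (1 : Matrix (Fin 2) (Fin 2) F) = ((Classical.choose hs : Fˣ) : F) • 1 :=
    h.symm.trans h1
  exact Units.ext (smul_one_injective h2).symm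

theorem Psi_nsc (g : GL (Fin 2) F) (h : ¬ IsSc g) :
    Psi g = Sum.inr ((g : Matrix (Fin 2) (Fin 2) F).trace, Matrix.GeneralLinearGroup.det g) := by
  unfold Psi
  rw [dif_neg h]

theorem isSc_conj (c g : GL (Fin 2) F) (h : IsSc g) : c * g * c⁻¹ = g := by
  obtain ⟨a, ha⟩ := h
  have h1 : c * g = g * c := by
    apply Units.ext
    rw [Units.val_mul, Units.val_mul, ha, Matrix.mul_smul, Matrix.smul_mul, Matrix.mul_one,
      Matrix.one_mul]
  rw [h1, mul_inv_cancel_right]

theorem Psi_conj (c g : GL (Fin 2) F) : Psi (c * g * c⁻¹) = Psi g := by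
  by_cases h : IsSc g
  · rw [isSc_conj c g h]
  · have h' : ¬ IsSc (c * g * c⁻¹) := by
      intro h2
      apply h
      have := isSc_conj c⁻¹ _ h2
      have h3 : c⁻¹ * (c * g * c⁻¹) * c⁻¹⁻¹ = g := by group
      rw [h3] at this
      rw [this]
      exact h2
    rw [Psi_nsc _ h, Psi_nsc _ h']
    congr 2
    · rw [Units.val_mul, Units.val_mul]
      exact Matrix.trace_units_conj c _
    · rw [map_mul, map_mul, map_inv, mul_comm, ← mul_assoc, inv_mul_cancel, one_mul]

theorem isConj_iff_Psi (g h : GL (Fin 2) F) : IsConj g h ↔ Psi g = Psi h := by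
  constructor
  · intro hc
    rw [isConj_iff] at hc
    obtain ⟨c, rfl⟩ := hc
    exact (Psi_conj c g).symm
  · intro hP
    by_cases hg : IsSc g
    · obtain ⟨a, ha⟩ := hg
      rw [Psi_sc g a ha] at hP
      by_cases hh : IsSc h
      · obtain ⟨b, hb⟩ := hh
        rw [Psi_sc h b hb] at hP
        have hab : a = b := Sum.inl_injective hP
        have : g = h := by
          apply Units.ext
          rw [ha, hb, hab]
        rw [this]
      · rw [Psi_nsc h hh] at hP
        exact absurd hP Sum.inl_ne_inr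
    · rw [Psi_nsc g hg] at hP
      by_cases hh : IsSc h
      · obtain ⟨b, hb⟩ := hh
        rw [Psi_sc h b hb] at hP
        exact absurd hP Sum.inr_ne_inl
      · rw [Psi_nsc h hh] at hP
        have h1 := Sum.inr_injective hP
        have ht : (g : Matrix (Fin 2) (Fin 2) F).trace = (h : Matrix (Fin 2) (Fin 2) F).trace :=
          (Prod.ext_iff.1 h1).1
        have hd : (g : Matrix (Fin 2) (Fin 2) F).det = (h : Matrix (Fin 2) (Fin 2) F).det := by
          have := congrArg Units.val (Prod.ext_iff.1 h1).2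
          exact this
        obtain ⟨P, hP⟩ := exists_conj _ _ (fun hs => hg ((isSc_iff g).2 hs))
          (fun hs => hh ((isSc_iff h).2 hs)) ht hd
        rw [isConj_iff]
        refine ⟨P, ?_⟩
        rw [mul_inv_eq_iff_eq_mul]
        exact Units.ext hP

theorem Psi_surjective : Function.Surjective (Psi : GL (Fin 2) F → Fˣ ⊕ (F × Fˣ)) := by
  rintro (a | ⟨t, d⟩)
  · have hdet : ((a : F) • (1 : Matrix (Fin 2) (Fin 2) F)).det ≠ 0 := by
      rw [Matrix.det_smul, Matrix.det_one, mul_one]
      exact pow_ne_zero _ a.ne_zero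
    refine ⟨Matrix.GeneralLinearGroup.mkOfDetNeZero _ hdet, ?_⟩
    exact Psi_sc _ a rfl
  · have hdet : (comp t (d : F)).det ≠ 0 := by
      rw [det_comp]
      exact d.ne_zero
    refine ⟨Matrix.GeneralLinearGroup.mkOfDetNeZero _ hdet, ?_⟩
    have hns : ¬ IsSc (Matrix.GeneralLinearGroup.mkOfDetNeZero _ hdet) := by
      intro hs
      exact comp_not_scalar t (d : F) ((isSc_iff _).1 hs)
    rw [Psi_nsc _ hns]
    congr 2
    · exact trace_comp t d
    · apply Units.ext
      rw [Matrix.GeneralLinearGroup.val_det_apply]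
      exact det_comp t d

end

/-- Over a finite field with q elements, the general linear group GL₂ has exactly q² − 1 conjugacy classes. -/
theorem result {F : Type*} [Field F] [Fintype F] :
    Nat.card (ConjClasses (Matrix.GeneralLinearGroup (Fin 2) F)) = Fintype.card F ^ 2 - 1 := by
  classical
  rw [card_conjClasses_eq Psi isConj_iff_Psi Psi_surjective, Nat.card_sum, Nat.card_prod,
    Nat.card_eq_fintype_card, Nat.card_eq_fintype_card, Fintype.card_units]
  have h1 : 1 ≤ Fintype.card F := Fintype.card_pos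
  obtain ⟨k, hk⟩ : ∃ k, Fintype.card F = k + 1 := ⟨Fintype.card F - 1, by omega⟩
  rw [hk, Nat.add_sub_cancel]
  have : (k + 1) ^ 2 = k + (k + 1) * k + 1 := by ring
  rw [this, Nat.add_sub_cancel]

end Cfsg.Agent.S2330
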