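import Cfsg.Statements.S2300
import Cfsg.Agent.H9.SL2Even
import Cfsg.Agent.H9.SL2Chars
import Cfsg.Agent.S0242

set_option autoImplicit false
open Cfsg

namespace Cfsg.Agent.S2300

open Cfsg.Agent.H9.GL2Chars Cfsg.Agent.H9.PrincipalSeriesGL Cfsg.Agent.Lib.helper3.IndFun Cfsg.Agent.Lib.helper3.Irr
open Cfsg.Agent.H9.SL2Even Cfsg.Agent.H9.SL2Chars
open scoped ComplexConjugate

section aux

variable {F : Type*} [Field F] [Fintype F]

local notation "SL2" => Matrix.SpecialLinearGroup (Fin 2) F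

theorem card_SL2_cast : (Nat.card SL2 : ℂ) =
    (Fintype.card F : ℂ) * ((Fintype.card F : ℂ) - 1) * ((Fintype.card F : ℂ) + 1) := by
  have h := Cfsg.Agent.S0242.result (F := F) rfl 2 (by norm_num)
  rw [Fin.prod_univ_two] at h
  simp only [Fin.val_zero, pow_zero, Fin.val_one, pow_one] at h
  have hq : 2 ≤ Fintype.card F := Fintype.one_lt_card
  have h1 : 1 ≤ Fintype.card F ^ 2 := Nat.one_le_pow _ _ (by omega)
  have h2 : Fintype.card F ≤ Fintype.card F ^ 2 := by nlinarith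
  have h3 : (((Fintype.card F - 1) * Nat.card SL2 : ℕ) : ℂ)
      = (((Fintype.card F ^ 2 - 1) * (Fintype.card F ^ 2 - Fintype.card F) : ℕ) : ℂ) := by rw [h]
  push_cast [Nat.cast_sub h1, Nat.cast_sub h2, Nat.cast_sub (show 1 ≤ Fintype.card F by omega)] at h3
  have hq1 : ((Fintype.card F : ℂ) - 1) ≠ 0 := by
    have : (Fintype.card F : ℂ) ≠ 1 := by
      have : Fintype.card F ≠ 1 := by omega
      exact_mod_cast this
    exact sub_ne_zero.mpr this
  apply mul_left_cancel₀ hq1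
  rw [h3]
  ring

/-- splitting a sum over irreducible characters according to four possible degrees -/
theorem sum_by_degree {G : Type*} [Group G] [Fintype G] (d₁ d₂ d₃ d₄ : ℂ)
    (h12 : d₁ ≠ d₂) (h13 : d₁ ≠ d₃) (h14 : d₁ ≠ d₄) (h23 : d₂ ≠ d₃) (h24 : d₂ ≠ d₄) (h34 : d₃ ≠ d₄)
    (hdeg : ∀ χ : IrrCharacter G, (χ : G → ℂ) 1 = d₁ ∨ (χ : G → ℂ) 1 = d₂ ∨ (χ : G → ℂ) 1 = d₃ ∨
      (χ : G → ℂ) 1 = d₄)
    (f : IrrCharacter G → ℂ) (v₁ v₂ v₃ v₄ : ℂ)
    (hv₁ : ∀ χ : IrrCharacter G, (χ : G → ℂ) 1 = d₁ → f χ = v₁)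
    (hv₂ : ∀ χ : IrrCharacter G, (χ : G → ℂ) 1 = d₂ → f χ = v₂)
    (hv₃ : ∀ χ : IrrCharacter G, (χ : G → ℂ) 1 = d₃ → f χ = v₃)
    (hv₄ : ∀ χ : IrrCharacter G, (χ : G → ℂ) 1 = d₄ → f χ = v₄) :
    ∑ χ, f χ = (Nat.card {χ : IrrCharacter G // (χ : G → ℂ) 1 = d₁} : ℂ) * v₁ +
      (Nat.card {χ : IrrCharacter G // (χ : G → ℂ) 1 = d₂} : ℂ) * v₂ +
      (Nat.card {χ : IrrCharacter G // (χ : G → ℂ) 1 = d₃} : ℂ) * v₃ +
      (Nat.card {χ : IrrCharacter G // (χ : G → ℂ) 1 = d₄} : ℂ) * v₄ := by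
  classical
  have hcard : ∀ d : ℂ, (Nat.card {χ : IrrCharacter G // (χ : G → ℂ) 1 = d} : ℂ)
      = ((Finset.univ.filter (fun χ : IrrCharacter G => (χ : G → ℂ) 1 = d)).card : ℂ) := by
    intro d
    rw [Nat.card_eq_fintype_card, Fintype.card_subtype]
  have hpart : ∀ (d v : ℂ), (∀ χ : IrrCharacter G, (χ : G → ℂ) 1 = d → f χ = v) →
      ∑ χ ∈ Finset.univ.filter (fun χ : IrrCharacter G => (χ : G → ℂ) 1 = d), f χ
      = ((Finset.univ.filter (fun χ : IrrCharacter G => (χ : G → ℂ) 1 = d)).card : ℂ) * v := by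
    intro d v hv
    rw [Finset.sum_congr rfl (fun χ hχ => hv χ (Finset.mem_filter.mp hχ).2), Finset.sum_const,
      nsmul_eq_mul]
  rw [hcard, hcard, hcard, hcard, ← hpart d₁ v₁ hv₁, ← hpart d₂ v₂ hv₂, ← hpart d₃ v₃ hv₃,
    ← hpart d₄ v₄ hv₄]
  have hD : ∀ χ ∈ (Finset.univ : Finset (IrrCharacter G)),
      (χ : G → ℂ) 1 ∈ ({d₁, d₂, d₃, d₄} : Finset ℂ) := by
    intro χ _
    simp only [Finset.mem_insert, Finset.mem_singleton]
    exact hdeg χ
  rw [← Finset.sum_fiberwise_of_maps_to hD f]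
  rw [Finset.sum_insert, Finset.sum_insert, Finset.sum_insert, Finset.sum_singleton]
  · ring
  · simp only [Finset.mem_singleton]; exact h34
  · simp only [Finset.mem_insert, Finset.mem_singleton, not_or]; exact ⟨h23, h24⟩
  · simp only [Finset.mem_insert, Finset.mem_singleton, not_or]; exact ⟨h12, h13, h14⟩

end aux

/-- Over a finite field F with q elements, q even, every irreducible complex character of SL₂ has degree 1, q − 1, q or q + 1; and when q ≥ 4 (so that these four numbers are distinct) there are exactly one irreducible character of degree 1, one of degree q, (q − 2)/2 of degree q + 1 and q/2 of degree q − 1. -/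
theorem result {F : Type*} [Field F] [Fintype F] [CharP F 2] :
    (∀ χ : Matrix.SpecialLinearGroup (Fin 2) F → ℂ, Cfsg.IsIrrCharacter (Matrix.SpecialLinearGroup (Fin 2) F) χ →
      χ 1 = 1 ∨ χ 1 = (Fintype.card F : ℂ) - 1 ∨ χ 1 = (Fintype.card F : ℂ) ∨ χ 1 = (Fintype.card F : ℂ) + 1) ∧
    (4 ≤ Fintype.card F →
      Nat.card {χ : Cfsg.IrrCharacter (Matrix.SpecialLinearGroup (Fin 2) F) // (χ : Matrix.SpecialLinearGroup (Fin 2) F → ℂ) 1 = 1} = 1 ∧
      Nat.card {χ : Cfsg.IrrCharacter (Matrix.SpecialLinearGroup (Fin 2) F) // (χ : Matrix.SpecialLinearGroup (Fin 2) F → ℂ) 1 = (Fintype.card F : ℂ)} = 1 ∧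
      Nat.card {χ : Cfsg.IrrCharacter (Matrix.SpecialLinearGroup (Fin 2) F) // (χ : Matrix.SpecialLinearGroup (Fin 2) F → ℂ) 1 = (Fintype.card F : ℂ) + 1} = (Fintype.card F - 2) / 2 ∧
      Nat.card {χ : Cfsg.IrrCharacter (Matrix.SpecialLinearGroup (Fin 2) F) // (χ : Matrix.SpecialLinearGroup (Fin 2) F → ℂ) 1 = (Fintype.card F : ℂ) - 1} = Fintype.card F / 2) := by
  classical
  have hq2 : 2 ≤ Fintype.card F := Fintype.one_lt_card
  have hdeg : ∀ χ : Matrix.SpecialLinearGroup (Fin 2) F → ℂ,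
      Cfsg.IsIrrCharacter (Matrix.SpecialLinearGroup (Fin 2) F) χ →
      χ 1 = 1 ∨ χ 1 = (Fintype.card F : ℂ) - 1 ∨ χ 1 = (Fintype.card F : ℂ) ∨
        χ 1 = (Fintype.card F : ℂ) + 1 := by
    intro χ hχ
    rcases even_cases hχ with h | h | h | h
    · exact Or.inl h.1
    · exact Or.inr (Or.inr (Or.inl h.1))
    · exact Or.inr (Or.inr (Or.inr h.1))
    · exact Or.inr (Or.inl h.1)
  refine ⟨hdeg, ?_⟩
  intro hq
  have c1 : (1 : ℂ) ≠ (Fintype.card F : ℂ) := by
    have : (1 : ℕ) ≠ Fintype.card F := by omega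
    exact_mod_cast this
  have c2 : (1 : ℂ) ≠ (Fintype.card F : ℂ) + 1 := by
    have : (1 : ℕ) ≠ Fintype.card F + 1 := by omega
    exact_mod_cast this
  have c3 : (Fintype.card F : ℂ) ≠ (Fintype.card F : ℂ) + 1 := by
    have : Fintype.card F ≠ Fintype.card F + 1 := by omega
    exact_mod_cast this
  have c4 : (Fintype.card F : ℂ) - 1 ≠ 1 := by
    intro h
    have : (Fintype.card F : ℂ) = ((2 : ℕ) : ℂ) := by push_cast; linear_combination h
    have := Nat.cast_injective this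
    omega
  have c5 : (Fintype.card F : ℂ) - 1 ≠ (Fintype.card F : ℂ) := by
    intro h
    have : (1 : ℂ) = 0 := by linear_combination -h
    exact one_ne_zero this
  have c6 : (Fintype.card F : ℂ) - 1 ≠ (Fintype.card F : ℂ) + 1 := by
    intro h
    have : (2 : ℂ) = 0 := by linear_combination -h
    exact two_ne_zero this
  -- degree one
  have hN1 : Nat.card {χ : Cfsg.IrrCharacter (Matrix.SpecialLinearGroup (Fin 2) F) //
      (χ : Matrix.SpecialLinearGroup (Fin 2) F → ℂ) 1 = 1} = 1 := by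
    rw [Nat.card_eq_one_iff_exists]
    refine ⟨⟨⟨fun _ => 1, isIrrCharacter_one⟩, rfl⟩, ?_⟩
    rintro ⟨χ, hχ⟩
    apply Subtype.ext
    apply Subtype.ext
    rcases even_cases χ.2 with h | h | h | h
    · funext s; exact h.2.2 s
    · rw [h.1] at hχ; exact absurd hχ.symm c1
    · rw [h.1] at hχ; exact absurd hχ.symm c2
    · rw [h.1] at hχ; exact absurd hχ c4
  -- degree q
  have hNq : Nat.card {χ : Cfsg.IrrCharacter (Matrix.SpecialLinearGroup (Fin 2) F) //
      (χ : Matrix.SpecialLinearGroup (Fin 2) F → ℂ) 1 = (Fintype.card F : ℂ)} = 1 := by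
    rw [Nat.card_eq_one_iff_exists]
    refine ⟨⟨⟨StSL, StSL_isIrr.1⟩, StSL_one⟩, ?_⟩
    have huniq : ∀ χ : Matrix.SpecialLinearGroup (Fin 2) F → ℂ,
        Cfsg.IsIrrCharacter (Matrix.SpecialLinearGroup (Fin 2) F) χ → χ 1 = (Fintype.card F : ℂ) →
        ∀ s, χ s = indFun (Cfsg.upperTriangularGL 2 F) (thetaGL 1 1)
          (Matrix.SpecialLinearGroup.toGL s) - 1 := by
      intro χ hχ hd
      rcases even_cases hχ with h | h | h | h
      · rw [h.1] at hd; exact absurd hd c1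
      · exact h.2.2
      · rw [h.1] at hd; exact absurd hd.symm c3
      · rw [h.1] at hd; exact absurd hd c5
    rintro ⟨χ, hχ⟩
    apply Subtype.ext
    apply Subtype.ext
    funext s
    change (χ : Matrix.SpecialLinearGroup (Fin 2) F → ℂ) s = StSL s
    rw [huniq _ χ.2 hχ s, huniq _ StSL_isIrr.1 StSL_one s]
  refine ⟨hN1, hNq, ?_, ?_⟩
  all_goals
    have hdeg' : ∀ χ : Cfsg.IrrCharacter (Matrix.SpecialLinearGroup (Fin 2) F),
        (χ : Matrix.SpecialLinearGroup (Fin 2) F → ℂ) 1 = 1 ∨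
        (χ : Matrix.SpecialLinearGroup (Fin 2) F → ℂ) 1 = (Fintype.card F : ℂ) ∨
        (χ : Matrix.SpecialLinearGroup (Fin 2) F → ℂ) 1 = (Fintype.card F : ℂ) + 1 ∨
        (χ : Matrix.SpecialLinearGroup (Fin 2) F → ℂ) 1 = (Fintype.card F : ℂ) - 1 := by
      intro χ
      rcases hdeg _ χ.2 with h | h | h | h
      · exact Or.inl h
      · exact Or.inr (Or.inr (Or.inr h))
      · exact Or.inr (Or.inl h)
      · exact Or.inr (Or.inr (Or.inl h))
    have hu : ∀ χ : Cfsg.IrrCharacter (Matrix.SpecialLinearGroup (Fin 2) F),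
        ((χ : Matrix.SpecialLinearGroup (Fin 2) F → ℂ) 1 = 1 →
          (χ : Matrix.SpecialLinearGroup (Fin 2) F → ℂ) (Cfsg.Agent.S2307.uu 1) = 1) ∧
        ((χ : Matrix.SpecialLinearGroup (Fin 2) F → ℂ) 1 = (Fintype.card F : ℂ) →
          (χ : Matrix.SpecialLinearGroup (Fin 2) F → ℂ) (Cfsg.Agent.S2307.uu 1) = 0) ∧
        ((χ : Matrix.SpecialLinearGroup (Fin 2) F → ℂ) 1 = (Fintype.card F : ℂ) + 1 →
          (χ : Matrix.SpecialLinearGroup (Fin 2) F → ℂ) (Cfsg.Agent.S2307.uu 1) = 1) ∧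
        ((χ : Matrix.SpecialLinearGroup (Fin 2) F → ℂ) 1 = (Fintype.card F : ℂ) - 1 →
          (χ : Matrix.SpecialLinearGroup (Fin 2) F → ℂ) (Cfsg.Agent.S2307.uu 1) = -1) := by
      intro χ
      rcases even_cases χ.2 with h | h | h | h
      · refine ⟨fun _ => h.2.1, fun h' => ?_, fun h' => ?_, fun h' => ?_⟩
        · rw [h.1] at h'; exact absurd h' c1
        · rw [h.1] at h'; exact absurd h' c2
        · rw [h.1] at h'; exact absurd h'.symm c4
      · refine ⟨fun h' => ?_, fun _ => h.2.1, fun h' => ?_, fun h' => ?_⟩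
        · rw [h.1] at h'; exact absurd h'.symm c1
        · rw [h.1] at h'; exact absurd h' c3
        · rw [h.1] at h'; exact absurd h'.symm c5
      · refine ⟨fun h' => ?_, fun h' => ?_, fun _ => h.2.1, fun h' => ?_⟩
        · rw [h.1] at h'; exact absurd h'.symm c2
        · rw [h.1] at h'; exact absurd h'.symm c3
        · rw [h.1] at h'; exact absurd h'.symm c6
      · refine ⟨fun h' => ?_, fun h' => ?_, fun h' => ?_, fun _ => h.2⟩
        · rw [h.1] at h'; exact absurd h' c4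
        · rw [h.1] at h'; exact absurd h' c5
        · rw [h.1] at h'; exact absurd h' c6
    have Ea := sum_by_degree (G := Matrix.SpecialLinearGroup (Fin 2) F) 1 (Fintype.card F : ℂ)
      ((Fintype.card F : ℂ) + 1) ((Fintype.card F : ℂ) - 1) c1 c2 c4.symm c3 c5.symm c6.symm hdeg'
      (fun χ => (χ : Matrix.SpecialLinearGroup (Fin 2) F → ℂ) 1 ^ 2) (1 ^ 2)
      ((Fintype.card F : ℂ) ^ 2) (((Fintype.card F : ℂ) + 1) ^ 2) (((Fintype.card F : ℂ) - 1) ^ 2)
      (fun χ h => by simp only [h]) (fun χ h => by simp only [h]) (fun χ h => by simp only [h])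
      (fun χ h => by simp only [h])
    rw [sum_sq_degree, card_SL2_cast, hN1, hNq] at Ea
    have hnc : ¬ IsConj (Cfsg.Agent.S2307.uu (1 : F)) 1 := by
      intro h
      have h1 : Cfsg.Agent.S2307.uu (1 : F) = 1 := isConj_one_left.mp h
      have := congrArg (fun s : Matrix.SpecialLinearGroup (Fin 2) F => s.1 0 1) h1
      simp [Cfsg.Agent.S2307.uu] at this
    have Eb0 := (column_orthogonality (Cfsg.Agent.S2307.uu (1 : F)) 1).2 hnc
    have Eb := sum_by_degree (G := Matrix.SpecialLinearGroup (Fin 2) F) 1 (Fintype.card F : ℂ)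
      ((Fintype.card F : ℂ) + 1) ((Fintype.card F : ℂ) - 1) c1 c2 c4.symm c3 c5.symm c6.symm hdeg'
      (fun χ => (χ : Matrix.SpecialLinearGroup (Fin 2) F → ℂ) (Cfsg.Agent.S2307.uu 1) *
        conj ((χ : Matrix.SpecialLinearGroup (Fin 2) F → ℂ) 1)) (1 * 1)
      (0 * (Fintype.card F : ℂ)) (1 * ((Fintype.card F : ℂ) + 1)) ((-1) * ((Fintype.card F : ℂ) - 1))
      (fun χ h => by simp only [(hu χ).1 h, h, map_one])
      (fun χ h => by simp only [(hu χ).2.1 h, h, Complex.conj_natCast])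
      (fun χ h => by simp only [(hu χ).2.2.1 h, h, map_add, map_one, Complex.conj_natCast])
      (fun χ h => by simp only [(hu χ).2.2.2 h, h, map_sub, map_one, Complex.conj_natCast])
    rw [Eb0, hN1, hNq] at Eb
    have hq0 : (Fintype.card F : ℂ) ≠ 0 := by
      have : Fintype.card F ≠ 0 := by omega
      exact_mod_cast this
    have hq1' : (Fintype.card F : ℂ) + 1 ≠ 0 := by
      have : Fintype.card F + 1 ≠ 0 := by omega
      exact_mod_cast this
    have hq1 : ((Fintype.card F : ℂ) - 1) ≠ 0 := by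
      have : (Fintype.card F : ℂ) ≠ 1 := by
        have : Fintype.card F ≠ 1 := by omega
        exact_mod_cast this
      exact sub_ne_zero.mpr this
    have hx : 2 * (Nat.card {χ : Cfsg.IrrCharacter (Matrix.SpecialLinearGroup (Fin 2) F) //
        (χ : Matrix.SpecialLinearGroup (Fin 2) F → ℂ) 1 = (Fintype.card F : ℂ) + 1} : ℂ)
        = (Fintype.card F : ℂ) - 2 := by
      have h1 : (Fintype.card F : ℂ) * ((Fintype.card F : ℂ) + 1) *
          (2 * (Nat.card {χ : Cfsg.IrrCharacter (Matrix.SpecialLinearGroup (Fin 2) F) //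
          (χ : Matrix.SpecialLinearGroup (Fin 2) F → ℂ) 1 = (Fintype.card F : ℂ) + 1} : ℂ))
          = (Fintype.card F : ℂ) * ((Fintype.card F : ℂ) + 1) * ((Fintype.card F : ℂ) - 2) := by
        push_cast at Ea Eb
        linear_combination (-1 : ℂ) * Ea - ((Fintype.card F : ℂ) - 1) * Eb
      exact mul_left_cancel₀ (mul_ne_zero hq0 hq1') h1
    have hy : 2 * (Nat.card {χ : Cfsg.IrrCharacter (Matrix.SpecialLinearGroup (Fin 2) F) //
        (χ : Matrix.SpecialLinearGroup (Fin 2) F → ℂ) 1 = (Fintype.card F : ℂ) - 1} : ℂ)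
        = (Fintype.card F : ℂ) := by
      have h1 : ((Fintype.card F : ℂ) - 1) *
          (2 * (Nat.card {χ : Cfsg.IrrCharacter (Matrix.SpecialLinearGroup (Fin 2) F) //
          (χ : Matrix.SpecialLinearGroup (Fin 2) F → ℂ) 1 = (Fintype.card F : ℂ) - 1} : ℂ))
          = ((Fintype.card F : ℂ) - 1) * (Fintype.card F : ℂ) := by
        push_cast at Eb
        linear_combination (2 : ℂ) * Eb + ((Fintype.card F : ℂ) + 1) * hx
      exact mul_left_cancel₀ hq1 h1
  · have h2 : 2 * Nat.card {χ : Cfsg.IrrCharacter (Matrix.SpecialLinearGroup (Fin 2) F) //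
        (χ : Matrix.SpecialLinearGroup (Fin 2) F → ℂ) 1 = (Fintype.card F : ℂ) + 1} + 2
        = Fintype.card F := by
      have : ((2 * Nat.card {χ : Cfsg.IrrCharacter (Matrix.SpecialLinearGroup (Fin 2) F) //
        (χ : Matrix.SpecialLinearGroup (Fin 2) F → ℂ) 1 = (Fintype.card F : ℂ) + 1} + 2 : ℕ) : ℂ)
        = ((Fintype.card F : ℕ) : ℂ) := by
        push_cast
        linear_combination hx
      exact Nat.cast_injective this
    omega
  · have h2 : 2 * Nat.card {χ : Cfsg.IrrCharacter (Matrix.SpecialLinearGroup (Fin 2) F) //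
        (χ : Matrix.SpecialLinearGroup (Fin 2) F → ℂ) 1 = (Fintype.card F : ℂ) - 1}
        = Fintype.card F := by
      have : ((2 * Nat.card {χ : Cfsg.IrrCharacter (Matrix.SpecialLinearGroup (Fin 2) F) //
        (χ : Matrix.SpecialLinearGroup (Fin 2) F → ℂ) 1 = (Fintype.card F : ℂ) - 1} : ℕ) : ℂ)
        = ((Fintype.card F : ℕ) : ℂ) := by
        push_cast
        linear_combination hy
      exact Nat.cast_injective this
    omega

end Cfsg.Agent.S2300
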