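import Cfsg.Statements.S2325
import Mathlib
import Cfsg.Agent.H9.Mat2
import Cfsg.Agent.H9.SL2OddCls

set_option autoImplicit false
open Cfsg

namespace Cfsg.Agent.S2325

open Matrix Cfsg.Agent.H9.Mat2 Cfsg.Agent.H9.SL2OddCls

section

variable {F : Type*} [Field F] [Fintype F]

local notation "SL2" => Matrix.SpecialLinearGroup (Fin 2) F

/-- standard unipotent -/
def up : SL2 := U 1 (one_mul 1) 1

/-- minus the standard unipotent -/
def um : SL2 := U (-1) (by ring) 1

/-- `-1` -/
def negOne : SL2 := U (-1) (by ring) 0

theorem tr_U (ε : F) (hε : ε * ε = 1) (b : F) :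
    ((U ε hε b : SL2) : Matrix (Fin 2) (Fin 2) F).trace = 2 * ε := by
  rw [coe_U, Matrix.trace_fin_two_of]; ring

/-- the target of the complete invariant -/
abbrev T (F : Type*) [Field F] := Bool ⊕ ({t : F // t ^ 2 ≠ 4} ⊕ (Bool × Bool))

open Classical in
/-- the invariant as a function of conjugation-invariant data -/
noncomputable def psi (b1 b2 : Bool) (t : F) (s : Bool) : T F :=
  if b1 then Sum.inl true
  else if b2 then Sum.inl false
  else if h : t ^ 2 ≠ 4 then Sum.inr (Sum.inl ⟨t, h⟩)
  else Sum.inr (Sum.inr (decide (t = 2), s))

open Classical in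
/-- the complete invariant -/
noncomputable def Psi (g : SL2) : T F :=
  psi (decide (g = 1)) (decide (g = negOne)) (g : Matrix (Fin 2) (Fin 2) F).trace
    (decide (IsConj g up ∨ IsConj g um))

theorem negOne_comm (c : SL2) : c * negOne = negOne * c := by
  apply Subtype.ext
  rw [Matrix.SpecialLinearGroup.coe_mul, Matrix.SpecialLinearGroup.coe_mul]
  have : ((negOne : SL2) : Matrix (Fin 2) (Fin 2) F) = (-1 : F) • 1 := by
    unfold negOne
    rw [coe_U]
    ext i j
    fin_cases i <;> fin_cases j <;> simp
  rw [this, Matrix.mul_smul, Matrix.smul_mul, Matrix.mul_one, Matrix.one_mul]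

theorem Psi_conj (c g : SL2) : Psi (c * g * c⁻¹) = Psi g := by
  classical
  unfold Psi
  have h1 : (c * g * c⁻¹ = 1) ↔ g = 1 := by
    constructor
    · intro h
      have : g = c⁻¹ * (c * g * c⁻¹) * c := by group
      rw [this, h, mul_one, inv_mul_cancel]
    · rintro rfl
      rw [mul_one, mul_inv_cancel]
  have h2 : (c * g * c⁻¹ = negOne) ↔ g = negOne := by
    constructor
    · intro h
      have : g = c⁻¹ * (c * g * c⁻¹) * c := by group
      rw [this, h, negOne_comm c⁻¹, mul_assoc, inv_mul_cancel, mul_one]
    · rintro rfl
      rw [negOne_comm, mul_inv_cancel_right]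
  have h3 : ((c * g * c⁻¹ : SL2) : Matrix (Fin 2) (Fin 2) F).trace =
      (g : Matrix (Fin 2) (Fin 2) F).trace := by
    rw [Matrix.SpecialLinearGroup.coe_mul, Matrix.SpecialLinearGroup.coe_mul, Matrix.trace_mul_comm,
      ← Matrix.mul_assoc, ← Matrix.SpecialLinearGroup.coe_mul, inv_mul_cancel,
      Matrix.SpecialLinearGroup.coe_one, Matrix.one_mul]
  have hcg : IsConj (c * g * c⁻¹) g := by
    rw [isConj_comm, isConj_iff]
    exact ⟨c, rfl⟩
  have h4 : (IsConj (c * g * c⁻¹) up ∨ IsConj (c * g * c⁻¹) um) ↔ (IsConj g up ∨ IsConj g um) := by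
    constructor
    · rintro (h | h)
      · left; exact hcg.symm.trans h
      · right; exact hcg.symm.trans h
    · rintro (h | h)
      · left; exact hcg.trans h
      · right; exact hcg.trans h
  rw [h3]
  congr 1
  · exact decide_eq_decide.2 h1
  · exact decide_eq_decide.2 h2
  · exact decide_eq_decide.2 h4

end

section Eval

variable {F : Type*} [Field F] [Fintype F]

local notation "SL2" => Matrix.SpecialLinearGroup (Fin 2) F

theorem two_ne_zero_of_odd (hodd : Fintype.card F % 2 = 1) : (2 : F) ≠ 0 := by
  apply Ring.two_ne_zero
  intro h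
  have := FiniteField.even_card_iff_char_two.1 h
  omega

theorem one_ne_negOne (h2 : (2 : F) ≠ 0) : (1 : SL2) ≠ negOne := by
  intro h
  have := congrArg (fun A : SL2 => (A : Matrix (Fin 2) (Fin 2) F) 0 0) h
  simp [negOne, coe_U] at this
  apply h2
  linear_combination this

theorem U_ne_one (ε : F) (hε : ε * ε = 1) {b : F} (hb : b ≠ 0) : (U ε hε b : SL2) ≠ 1 := by
  intro h
  have := congrArg (fun A : SL2 => (A : Matrix (Fin 2) (Fin 2) F) 0 1) h
  simp [coe_U] at this
  exact hb this

theorem U_ne_negOne (ε : F) (hε : ε * ε = 1) {b : F} (hb : b ≠ 0) : (U ε hε b : SL2) ≠ negOne := by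
  intro h
  have := congrArg (fun A : SL2 => (A : Matrix (Fin 2) (Fin 2) F) 0 1) h
  simp [negOne, coe_U] at this
  exact hb this

theorem nonscalar_of_ne {g : SL2} (h1 : g ≠ 1) (h2 : g ≠ negOne) :
    ¬ ∃ a : F, (g : Matrix (Fin 2) (Fin 2) F) = a • (1 : Matrix (Fin 2) (Fin 2) F) := by
  rintro ⟨a, ha⟩
  have hdet := g.2
  rw [ha, Matrix.det_smul, Matrix.det_one, mul_one, Fintype.card_fin] at hdet
  have : a = 1 ∨ a = -1 := by
    rw [sq] at hdet
    exact mul_self_eq_one_iff.1 hdet
  rcases this with rfl | rfl
  · apply h1
    apply Subtype.ext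
    rw [ha, one_smul, Matrix.SpecialLinearGroup.coe_one]
  · apply h2
    apply Subtype.ext
    rw [ha]
    unfold negOne
    rw [coe_U]
    ext i j
    fin_cases i <;> fin_cases j <;> simp

theorem Psi_one : Psi (1 : SL2) = Sum.inl true := by
  classical
  unfold Psi psi
  simp

theorem Psi_negOne (h2 : (2 : F) ≠ 0) : Psi (negOne : SL2) = Sum.inl false := by
  classical
  unfold Psi psi
  have := (one_ne_negOne h2).symm
  simp [this]

theorem Psi_reg {g : SL2} (h1 : g ≠ 1) (h2 : g ≠ negOne)
    (ht : (g : Matrix (Fin 2) (Fin 2) F).trace ^ 2 ≠ 4) :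
    Psi g = Sum.inr (Sum.inl ⟨(g : Matrix (Fin 2) (Fin 2) F).trace, ht⟩) := by
  classical
  unfold Psi psi
  simp [h1, h2, ht]

open Classical in
theorem Psi_unip {g : SL2} (h1 : g ≠ 1) (h2 : g ≠ negOne)
    (ht : ¬ (g : Matrix (Fin 2) (Fin 2) F).trace ^ 2 ≠ 4) :
    Psi g = Sum.inr (Sum.inr (decide ((g : Matrix (Fin 2) (Fin 2) F).trace = 2),
      decide (IsConj g up ∨ IsConj g um))) := by
  unfold Psi psi
  simp only [h1, h2, decide_false, Bool.false_eq_true, if_false, dif_neg ht]

theorem trace_eq_of_isConj {g h : SL2} (hc : IsConj g h) :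
    (g : Matrix (Fin 2) (Fin 2) F).trace = (h : Matrix (Fin 2) (Fin 2) F).trace := by
  rw [isConj_iff] at hc
  obtain ⟨c, rfl⟩ := hc
  rw [Matrix.SpecialLinearGroup.coe_mul, Matrix.SpecialLinearGroup.coe_mul, Matrix.trace_mul_comm,
    ← Matrix.mul_assoc, ← Matrix.SpecialLinearGroup.coe_mul, inv_mul_cancel,
    Matrix.SpecialLinearGroup.coe_one, Matrix.one_mul]

theorem std_iff (h2 : (2 : F) ≠ 0) (ε : F) (hε : ε * ε = 1) {b : F} (hb : b ≠ 0) :
    (IsConj (U ε hε b : SL2) up ∨ IsConj (U ε hε b : SL2) um) ↔ IsSquare b := by
  have h4 : (4 : F) ≠ 0 := by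
    have : (4 : F) = 2 * 2 := by norm_num
    rw [this]
    exact mul_ne_zero h2 h2
  rcases mul_self_eq_one_iff.1 hε with rfl | rfl
  · constructor
    · rintro (h | h)
      · have := isSquare_of_U_conj 1 hε hb one_ne_zero h
        rwa [mul_one] at this
      · exfalso
        have := trace_eq_of_isConj h
        unfold um at this
        rw [tr_U, tr_U] at this
        apply h4
        linear_combination this
    · intro h
      left
      exact U_conj_of_isSquare 1 hε hb one_ne_zero (by rwa [mul_one])
  · constructor
    · rintro (h | h)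
      · exfalso
        have := trace_eq_of_isConj h
        unfold up at this
        rw [tr_U, tr_U] at this
        apply h4
        linear_combination -this
      · have := isSquare_of_U_conj (-1) hε hb one_ne_zero h
        rwa [mul_one] at this
    · intro h
      right
      exact U_conj_of_isSquare (-1) hε hb one_ne_zero (by rwa [mul_one])

theorem isSquare_mul_of_iff {b b' : F} (hb : b ≠ 0) (hb' : b' ≠ 0)
    (h : IsSquare b ↔ IsSquare b') : IsSquare (b * b') := by
  classical
  by_cases hs : IsSquare b
  · exact hs.mul (h.1 hs)
  · have hs' : ¬ IsSquare b' := fun h' => hs (h.2 h')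
    rw [← quadraticChar_neg_one_iff_not_isSquare] at hs hs'
    rw [← quadraticChar_one_iff_isSquare (mul_ne_zero hb hb'), map_mul, hs, hs']
    norm_num

end Eval

section Main

variable {F : Type*} [Field F] [Fintype F]

local notation "SL2" => Matrix.SpecialLinearGroup (Fin 2) F

theorem sq_eq_four_cases {t : F} (h : ¬ (t : F) ^ 2 ≠ 4) : t = 2 ∨ t = -2 := by
  rw [not_not] at h
  have : t ^ 2 = 2 ^ 2 := by rw [h]; norm_num
  exact sq_eq_sq_iff_eq_or_eq_neg.1 this

theorem isConj_iff_Psi (hodd : Fintype.card F % 2 = 1) (g h : SL2) :
    IsConj g h ↔ Psi g = Psi h := by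
  classical
  have h2 := two_ne_zero_of_odd hodd
  have h4 : (4 : F) ≠ 0 := by
    have : (4 : F) = 2 * 2 := by norm_num
    rw [this]
    exact mul_ne_zero h2 h2
  constructor
  · intro hc
    rw [isConj_iff] at hc
    obtain ⟨c, rfl⟩ := hc
    exact (Psi_conj c g).symm
  · intro hP
    by_cases hg1 : g = 1
    · subst hg1
      rw [Psi_one] at hP
      by_cases hh1 : h = 1
      · rw [hh1]
      · by_cases hh2 : h = negOne
        · rw [hh2, Psi_negOne h2] at hP
          simp at hP
        · by_cases hth : (h : Matrix (Fin 2) (Fin 2) F).trace ^ 2 ≠ 4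
          · rw [Psi_reg hh1 hh2 hth] at hP
            simp at hP
          · rw [Psi_unip hh1 hh2 hth] at hP
            simp at hP
    · by_cases hg2 : g = negOne
      · subst hg2
        rw [Psi_negOne h2] at hP
        by_cases hh1 : h = 1
        · rw [hh1, Psi_one] at hP
          simp at hP
        · by_cases hh2 : h = negOne
          · rw [hh2]
          · by_cases hth : (h : Matrix (Fin 2) (Fin 2) F).trace ^ 2 ≠ 4
            · rw [Psi_reg hh1 hh2 hth] at hP
              simp at hP
            · rw [Psi_unip hh1 hh2 hth] at hP
              simp at hP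
      · by_cases htg : (g : Matrix (Fin 2) (Fin 2) F).trace ^ 2 ≠ 4
        · rw [Psi_reg hg1 hg2 htg] at hP
          by_cases hh1 : h = 1
          · rw [hh1, Psi_one] at hP
            simp at hP
          · by_cases hh2 : h = negOne
            · rw [hh2, Psi_negOne h2] at hP
              simp at hP
            · by_cases hth : (h : Matrix (Fin 2) (Fin 2) F).trace ^ 2 ≠ 4
              · rw [Psi_reg hh1 hh2 hth] at hP
                have ht : (g : Matrix (Fin 2) (Fin 2) F).trace =
                    (h : Matrix (Fin 2) (Fin 2) F).trace := by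
                  have := Sum.inl_injective (Sum.inr_injective hP)
                  exact congrArg Subtype.val this
                exact isConj_of_trace_eq hodd g h (nonscalar_of_ne hg1 hg2)
                  (nonscalar_of_ne hh1 hh2) ht hth
              · rw [Psi_unip hh1 hh2 hth] at hP
                simp at hP
        · rw [Psi_unip hg1 hg2 htg] at hP
          by_cases hh1 : h = 1
          · rw [hh1, Psi_one] at hP
            simp at hP
          · by_cases hh2 : h = negOne
            · rw [hh2, Psi_negOne h2] at hP
              simp at hP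
            · by_cases hth : (h : Matrix (Fin 2) (Fin 2) F).trace ^ 2 ≠ 4
              · rw [Psi_reg hh1 hh2 hth] at hP
                simp at hP
              · rw [Psi_unip hh1 hh2 hth] at hP
                have hP' := Sum.inr_injective (Sum.inr_injective hP)
                have hd1 : ((g : Matrix (Fin 2) (Fin 2) F).trace = 2) ↔
                    ((h : Matrix (Fin 2) (Fin 2) F).trace = 2) :=
                  decide_eq_decide.1 (Prod.ext_iff.1 hP').1
                have hd2 : (IsConj g up ∨ IsConj g um) ↔ (IsConj h up ∨ IsConj h um) :=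
                  decide_eq_decide.1 (Prod.ext_iff.1 hP').2
                have hne : (2 : F) ≠ -2 := by
                  intro h'
                  apply h4
                  linear_combination h'
                have htt : (g : Matrix (Fin 2) (Fin 2) F).trace =
                    (h : Matrix (Fin 2) (Fin 2) F).trace := by
                  rcases sq_eq_four_cases htg with h' | h'
                  · rw [h', (hd1.1 h')]
                  · rcases sq_eq_four_cases hth with h'' | h''
                    · have := hd1.2 h''
                      rw [h'] at this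
                      exact absurd this.symm hne
                    · rw [h', h'']
                set ε : F := (g : Matrix (Fin 2) (Fin 2) F).trace / 2 with hε
                have hεε : ε * ε = 1 := by
                  rw [hε]
                  have := not_not.1 htg
                  field_simp
                  linear_combination this
                have htg' : (g : Matrix (Fin 2) (Fin 2) F).trace = 2 * ε := by
                  rw [hε]; field_simp
                obtain ⟨b, hb, hgb⟩ := exists_conj_U ε hεε g (nonscalar_of_ne hg1 hg2) htg'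
                obtain ⟨b', hb', hhb⟩ := exists_conj_U ε hεε h (nonscalar_of_ne hh1 hh2)
                  (by rw [← htt]; exact htg')
                have e1 : (IsConj g up ∨ IsConj g um) ↔ IsSquare b := by
                  rw [← std_iff h2 ε hεε hb]
                  constructor
                  · rintro (h' | h')
                    · left; exact hgb.symm.trans h'
                    · right; exact hgb.symm.trans h'
                  · rintro (h' | h')
                    · left; exact hgb.trans h'
                    · right; exact hgb.trans h'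
                have e2 : (IsConj h up ∨ IsConj h um) ↔ IsSquare b' := by
                  rw [← std_iff h2 ε hεε hb']
                  constructor
                  · rintro (h' | h')
                    · left; exact hhb.symm.trans h'
                    · right; exact hhb.symm.trans h'
                  · rintro (h' | h')
                    · left; exact hhb.trans h'
                    · right; exact hhb.trans h'
                have hsq : IsSquare (b * b') :=
                  isSquare_mul_of_iff hb hb' (e1.symm.trans (hd2.trans e2))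
                exact hgb.trans ((U_conj_of_isSquare ε hεε hb hb' hsq).trans hhb.symm)

theorem Psi_surjective (hodd : Fintype.card F % 2 = 1) : Function.Surjective (Psi : SL2 → T F) := by
  classical
  have h2 := two_ne_zero_of_odd hodd
  have h4 : (4 : F) ≠ 0 := by
    have : (4 : F) = 2 * 2 := by norm_num
    rw [this]
    exact mul_ne_zero h2 h2
  have hne : (2 : F) ≠ -2 := by
    intro h'
    apply h4
    linear_combination h'
  rintro (b | ⟨t, ht⟩ | ⟨e, s⟩)
  · cases b
    · exact ⟨negOne, Psi_negOne h2⟩
    · exact ⟨1, Psi_one⟩
  · let g : SL2 := ⟨comp t 1, det_comp t 1⟩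
    have hns : ¬ ∃ a : F, (g : Matrix (Fin 2) (Fin 2) F) = a • (1 : Matrix (Fin 2) (Fin 2) F) :=
      comp_not_scalar t 1
    have hg1 : g ≠ 1 := by
      intro h
      apply hns
      refine ⟨1, ?_⟩
      rw [h, one_smul, Matrix.SpecialLinearGroup.coe_one]
    have hg2 : g ≠ negOne := by
      intro h
      apply hns
      refine ⟨-1, ?_⟩
      rw [h]
      unfold negOne
      rw [coe_U]
      ext i j
      fin_cases i <;> fin_cases j <;> simp
    have htr : (g : Matrix (Fin 2) (Fin 2) F).trace = t := trace_comp t 1
    refine ⟨g, ?_⟩
    rw [Psi_reg hg1 hg2 (by rw [htr]; exact ht)]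
    congr 2
    exact Subtype.ext htr
  · have hchar : ringChar F ≠ 2 := by
      intro h
      have := FiniteField.even_card_iff_char_two.1 h
      omega
    obtain ⟨ν, hν⟩ := FiniteField.exists_nonsquare hchar
    have hν0 : ν ≠ 0 := by
      rintro rfl
      exact hν ⟨0, by simp⟩
    set ε : F := if e then 1 else -1 with hε
    have hεε : ε * ε = 1 := by
      rw [hε]; cases e <;> simp
    set b : F := if s then 1 else ν with hb
    have hb0 : b ≠ 0 := by
      rw [hb]; cases s <;> simp [hν0]
    have hbs : IsSquare b ↔ s = true := by
      rw [hb]; cases s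
      · simp [hν]
      · simp
    refine ⟨U ε hεε b, ?_⟩
    have htr : ((U ε hεε b : SL2) : Matrix (Fin 2) (Fin 2) F).trace = 2 * ε := tr_U ε hεε b
    have ht4 : ¬ ((U ε hεε b : SL2) : Matrix (Fin 2) (Fin 2) F).trace ^ 2 ≠ 4 := by
      rw [not_not, htr]
      linear_combination 4 * hεε
    rw [Psi_unip (U_ne_one ε hεε hb0) (U_ne_negOne ε hεε hb0) ht4]
    congr 3
    · rw [htr]
      cases e
      · simp only [hε, Bool.false_eq_true, if_false]
        rw [decide_eq_false_iff_not]
        intro h
        apply hne
        linear_combination -h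
      · simp [hε]
    · have hiff := (std_iff h2 ε hεε hb0).trans hbs
      cases s
      · rw [decide_eq_false_iff_not, hiff]; simp
      · rw [decide_eq_true_iff, hiff]

theorem card_T (hodd : Fintype.card F % 2 = 1) : Nat.card (T F) = Fintype.card F + 4 := by
  classical
  have h2 := two_ne_zero_of_odd hodd
  have h4 : (4 : F) ≠ 0 := by
    have : (4 : F) = 2 * 2 := by norm_num
    rw [this]
    exact mul_ne_zero h2 h2
  have hne : (2 : F) ≠ -2 := by
    intro h'
    apply h4
    linear_combination h'
  have hsub : Fintype.card {t : F // t ^ 2 ≠ 4} = Fintype.card F - 2 := by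
    rw [Fintype.card_subtype_compl]
    congr 1
    rw [Fintype.card_subtype]
    have : (Finset.univ.filter fun t : F => t ^ 2 = 4) = {2, -2} := by
      ext t
      simp only [Finset.mem_filter, Finset.mem_univ, true_and, Finset.mem_insert,
        Finset.mem_singleton]
      constructor
      · intro h
        exact sq_eq_four_cases (not_not.2 h)
      · rintro (rfl | rfl) <;> norm_num
    rw [this, Finset.card_pair hne]
  have hq : 2 ≤ Fintype.card F := by
    have := Fintype.one_lt_card (α := F)
    omega
  rw [Nat.card_eq_fintype_card, Fintype.card_sum, Fintype.card_sum, Fintype.card_prod,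
    Fintype.card_bool, hsub]
  omega

end Main

/-- Over a finite field with q elements, q odd, the special linear group SL₂ has exactly q + 4 conjugacy classes. -/
theorem result {F : Type*} [Field F] [Fintype F] (hodd : Odd (Fintype.card F)) :
    Nat.card (ConjClasses (Matrix.SpecialLinearGroup (Fin 2) F)) = Fintype.card F + 4 := by
  have hodd' : Fintype.card F % 2 = 1 := Nat.odd_iff.1 hodd
  rw [card_conjClasses_eq Psi (isConj_iff_Psi hodd') (Psi_surjective hodd'), card_T hodd']

end Cfsg.Agent.S2325
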