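import Cfsg.Statements.S2299
import Cfsg.Agent.H9.SL2OddExport

set_option autoImplicit false
open Cfsg

namespace Cfsg.Agent.S2299

open Cfsg.Agent.Lib.helper3.IndFun Cfsg.Agent.Lib.helper3.Irr
open Cfsg.Agent.H9.SL2Chars Cfsg.Agent.H9.PrincipalSeries Cfsg.Agent.S2307
open scoped ComplexConjugate

section aux

/-- splitting a sum over irreducible characters according to a finite set of possible degrees -/
theorem sum_by_degree_nat {G : Type*} [Group G] [Fintype G] (D : Finset ℕ)
    (hdeg : ∀ χ : IrrCharacter G, ∃ d ∈ D, (χ : G → ℂ) 1 = (d : ℂ)) (f : IrrCharacter G → ℂ) :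
    ∑ χ, f χ = ∑ d ∈ D, ∑ χ ∈ Finset.univ.filter
      (fun χ : IrrCharacter G => (χ : G → ℂ) 1 = (d : ℂ)), f χ := by
  classical
  have hD : ∀ χ ∈ (Finset.univ : Finset (IrrCharacter G)),
      (χ : G → ℂ) 1 ∈ D.image (Nat.cast : ℕ → ℂ) := by
    intro χ _
    obtain ⟨d, hd, h⟩ := hdeg χ
    rw [Finset.mem_image]
    exact ⟨d, hd, h.symm⟩
  rw [← Finset.sum_fiberwise_of_maps_to hD f, Finset.sum_image]
  intro a _ b _ h
  exact Nat.cast_injective h

variable {F : Type*} [Field F] [Fintype F] [DecidableEq F]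

local notation "SL2" => Matrix.SpecialLinearGroup (Fin 2) F

/-- the degree of an irreducible character of SL₂(F), `q` odd, by type -/
theorem degree_type (H : Halves F) (hodd : Odd (Fintype.card F)) (χ : IrrCharacter SL2) :
    (χ = trivc ∧ (χ : SL2 → ℂ) 1 = ((1 : ℕ) : ℂ)) ∨
    (χ = Stc ∧ (χ : SL2 → ℂ) 1 = ((Fintype.card F : ℕ) : ℂ)) ∨
    (χ = p1c H ∧ (χ : SL2 → ℂ) 1 = (((Fintype.card F + 1) / 2 : ℕ) : ℂ)) ∨
    (χ = p2c H ∧ (χ : SL2 → ℂ) 1 = (((Fintype.card F + 1) / 2 : ℕ) : ℂ)) ∨
    (χ ∈ K3 (F := F) ∧ (χ : SL2 → ℂ) 1 = ((Fintype.card F + 1 : ℕ) : ℂ)) ∨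
    (χ ∈ cuspSetSL H ∧ ((χ : SL2 → ℂ) 1 = ((Fintype.card F - 1 : ℕ) : ℂ) ∨
      (χ : SL2 → ℂ) 1 = (((Fintype.card F - 1) / 2 : ℕ) : ℂ))) := by
  classical
  set ψ := AddChar.FiniteField.primitiveChar_to_Complex F with hψdef
  have hψ : ψ.IsPrimitive := AddChar.FiniteField.primitiveChar_to_Complex_isPrimitive F
  obtain ⟨ν, hν⟩ := exists_nonsquare (F := F) hodd
  rcases irr_cases_SL H χ with h | h | h | h | h | h
  · left; refine ⟨h, ?_⟩; rw [h]; simp [trivc]
  · right; left; refine ⟨h, ?_⟩; rw [h]; exact StSL_one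
  · right; right; left; refine ⟨h, ?_⟩; rw [h]; exact H.deg₁
  · right; right; right; left; refine ⟨h, ?_⟩; rw [h]; exact H.deg₂
  · right; right; right; right; left
    refine ⟨h, ?_⟩
    rw [K3_deg χ h]; push_cast; ring
  · right; right; right; right; right
    refine ⟨h, ?_⟩
    have hd := cusp_data H hodd ψ hψ hν χ h
    have hcf := isClassFunction_of_isCharacter (isCharacter_of_isIrrCharacter χ.2)
    have hdeg := cusp_degree_SL hodd ψ hψ hν hcf hd.1
    have hq : 1 ≤ Fintype.card F := Fintype.card_pos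
    rcases hd.2 with h1 | h1 | h1
    · left
      rw [hdeg.1 h1]
      push_cast [Nat.cast_sub hq]
      ring
    · right; exact hdeg.2 (Or.inl h1)
    · right; exact hdeg.2 (Or.inr h1)

end aux

/-- Over a finite field F with q elements, q odd, every irreducible complex character of SL₂ has degree 1, q, q + 1, q − 1, (q + 1)/2 or (q − 1)/2; and when q ≥ 5 (so that these six numbers are distinct) there are exactly one irreducible character of degree 1, one of degree q, (q − 3)/2 of degree q + 1, (q − 1)/2 of degree q − 1, two of degree (q + 1)/2 and two of degree (q − 1)/2. -/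
theorem result {F : Type*} [Field F] [Fintype F] (hodd : Odd (Fintype.card F)) :
    (∀ χ : Matrix.SpecialLinearGroup (Fin 2) F → ℂ, Cfsg.IsIrrCharacter (Matrix.SpecialLinearGroup (Fin 2) F) χ →
      χ 1 = 1 ∨ χ 1 = (Fintype.card F : ℂ) ∨ χ 1 = (Fintype.card F : ℂ) + 1 ∨ χ 1 = (Fintype.card F : ℂ) - 1 ∨
        χ 1 = (((Fintype.card F + 1) / 2 : ℕ) : ℂ) ∨ χ 1 = (((Fintype.card F - 1) / 2 : ℕ) : ℂ)) ∧
    (5 ≤ Fintype.card F →
      Nat.card {χ : Cfsg.IrrCharacter (Matrix.SpecialLinearGroup (Fin 2) F) // (χ : Matrix.SpecialLinearGroup (Fin 2) F → ℂ) 1 = 1} = 1 ∧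
      Nat.card {χ : Cfsg.IrrCharacter (Matrix.SpecialLinearGroup (Fin 2) F) // (χ : Matrix.SpecialLinearGroup (Fin 2) F → ℂ) 1 = (Fintype.card F : ℂ)} = 1 ∧
      Nat.card {χ : Cfsg.IrrCharacter (Matrix.SpecialLinearGroup (Fin 2) F) // (χ : Matrix.SpecialLinearGroup (Fin 2) F → ℂ) 1 = (Fintype.card F : ℂ) + 1} = (Fintype.card F - 3) / 2 ∧
      Nat.card {χ : Cfsg.IrrCharacter (Matrix.SpecialLinearGroup (Fin 2) F) // (χ : Matrix.SpecialLinearGroup (Fin 2) F → ℂ) 1 = (Fintype.card F : ℂ) - 1} = (Fintype.card F - 1) / 2 ∧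
      Nat.card {χ : Cfsg.IrrCharacter (Matrix.SpecialLinearGroup (Fin 2) F) // (χ : Matrix.SpecialLinearGroup (Fin 2) F → ℂ) 1 = (((Fintype.card F + 1) / 2 : ℕ) : ℂ)} = 2 ∧
      Nat.card {χ : Cfsg.IrrCharacter (Matrix.SpecialLinearGroup (Fin 2) F) // (χ : Matrix.SpecialLinearGroup (Fin 2) F → ℂ) 1 = (((Fintype.card F - 1) / 2 : ℕ) : ℂ)} = 2) := by
  classical
  obtain ⟨H⟩ := exists_halves (F := F) hodd
  have hq1 : 1 ≤ Fintype.card F := Fintype.card_pos
  have hcm1 : (Fintype.card F : ℂ) - 1 = ((Fintype.card F - 1 : ℕ) : ℂ) := by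
    push_cast [Nat.cast_sub hq1]; ring
  have hcp1 : (Fintype.card F : ℂ) + 1 = ((Fintype.card F + 1 : ℕ) : ℂ) := by
    push_cast; ring
  constructor
  · intro χ hχ
    rcases degree_type H hodd ⟨χ, hχ⟩ with h | h | h | h | h | h
    · left; simpa using h.2
    · right; left; simpa using h.2
    · right; right; right; right; left; exact h.2
    · right; right; right; right; left; exact h.2
    · right; right; left; rw [hcp1]; exact h.2
    · rcases h.2 with h2 | h2
      · right; right; right; left; rw [hcm1]; exact h2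
      · right; right; right; right; right; exact h2
  · intro hq
    obtain ⟨k, hk⟩ := hodd
    have hk2 : 2 ≤ k := by omega
    -- degrees as natural numbers
    have key : ∀ (χ : Cfsg.IrrCharacter (Matrix.SpecialLinearGroup (Fin 2) F)) (d : ℕ),
        (χ : Matrix.SpecialLinearGroup (Fin 2) F → ℂ) 1 = (d : ℂ) →
        (χ = trivc ∧ d = 1) ∨ (χ = Stc ∧ d = Fintype.card F) ∨
        (χ = p1c H ∧ d = (Fintype.card F + 1) / 2) ∨ (χ = p2c H ∧ d = (Fintype.card F + 1) / 2) ∨
        (χ ∈ K3 (F := F) ∧ d = Fintype.card F + 1) ∨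
        (χ ∈ cuspSetSL H ∧ (d = Fintype.card F - 1 ∨ d = (Fintype.card F - 1) / 2)) := by
      intro χ d hd
      rcases degree_type H (⟨k, hk⟩ : Odd (Fintype.card F)) χ with h | h | h | h | h | h
      · left; exact ⟨h.1, (Nat.cast_injective (h.2.symm.trans hd)).symm⟩
      · right; left; exact ⟨h.1, (Nat.cast_injective (h.2.symm.trans hd)).symm⟩
      · right; right; left; exact ⟨h.1, (Nat.cast_injective (h.2.symm.trans hd)).symm⟩
      · right; right; right; left; exact ⟨h.1, (Nat.cast_injective (h.2.symm.trans hd)).symm⟩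
      · right; right; right; right; left
        exact ⟨h.1, (Nat.cast_injective (h.2.symm.trans hd)).symm⟩
      · right; right; right; right; right
        refine ⟨h.1, ?_⟩
        rcases h.2 with h2 | h2
        · left; exact (Nat.cast_injective (h2.symm.trans hd)).symm
        · right; exact (Nat.cast_injective (h2.symm.trans hd)).symm
    have hne12 : p1c H ≠ p2c H := fun e => H.ne12 (congrArg Subtype.val e)
    have hcusp_not : ∀ χ : Cfsg.IrrCharacter (Matrix.SpecialLinearGroup (Fin 2) F),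
        χ ∈ cuspSetSL H → χ ≠ trivc ∧ χ ≠ Stc ∧ χ ≠ p1c H ∧ χ ≠ p2c H ∧ χ ∉ K3 (F := F) := by
      intro χ hχ
      unfold cuspSetSL knownSet at hχ
      rw [Finset.mem_compl] at hχ
      simp only [Finset.mem_insert, not_or] at hχ
      exact hχ
    -- the filters
    have hf1 : Finset.univ.filter (fun χ : Cfsg.IrrCharacter (Matrix.SpecialLinearGroup (Fin 2) F) =>
        (χ : Matrix.SpecialLinearGroup (Fin 2) F → ℂ) 1 = ((1 : ℕ) : ℂ)) = {trivc} := by
      ext χ
      simp only [Finset.mem_filter, Finset.mem_univ, true_and, Finset.mem_singleton]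
      constructor
      · intro h
        rcases key χ 1 h with h | h | h | h | h | h
        · exact h.1
        · omega
        · omega
        · omega
        · omega
        · omega
      · rintro rfl; simp [trivc]
    have hfq : Finset.univ.filter (fun χ : Cfsg.IrrCharacter (Matrix.SpecialLinearGroup (Fin 2) F) =>
        (χ : Matrix.SpecialLinearGroup (Fin 2) F → ℂ) 1 = ((Fintype.card F : ℕ) : ℂ)) = {Stc} := by
      ext χ
      simp only [Finset.mem_filter, Finset.mem_univ, true_and, Finset.mem_singleton]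
      constructor
      · intro h
        rcases key χ _ h with h | h | h | h | h | h
        · omega
        · exact h.1
        · omega
        · omega
        · omega
        · omega
      · rintro rfl; exact StSL_one
    have hfh : Finset.univ.filter (fun χ : Cfsg.IrrCharacter (Matrix.SpecialLinearGroup (Fin 2) F) =>
        (χ : Matrix.SpecialLinearGroup (Fin 2) F → ℂ) 1 = (((Fintype.card F + 1) / 2 : ℕ) : ℂ))
        = {p1c H, p2c H} := by
      ext χ
      simp only [Finset.mem_filter, Finset.mem_univ, true_and, Finset.mem_insert,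
        Finset.mem_singleton]
      constructor
      · intro h
        rcases key χ _ h with h | h | h | h | h | h
        · omega
        · omega
        · exact Or.inl h.1
        · exact Or.inr h.1
        · omega
        · omega
      · rintro (rfl | rfl)
        · exact H.deg₁
        · exact H.deg₂
    have hfp : Finset.univ.filter (fun χ : Cfsg.IrrCharacter (Matrix.SpecialLinearGroup (Fin 2) F) =>
        (χ : Matrix.SpecialLinearGroup (Fin 2) F → ℂ) 1 = ((Fintype.card F + 1 : ℕ) : ℂ))
        = K3 (F := F) := by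
      ext χ
      simp only [Finset.mem_filter, Finset.mem_univ, true_and]
      constructor
      · intro h
        rcases key χ _ h with h | h | h | h | h | h
        · omega
        · omega
        · omega
        · omega
        · exact h.1
        · omega
      · intro h
        rw [K3_deg χ h]; push_cast; ring
    have hcardN : ∀ d : ℕ, Nat.card {χ : Cfsg.IrrCharacter (Matrix.SpecialLinearGroup (Fin 2) F) //
        (χ : Matrix.SpecialLinearGroup (Fin 2) F → ℂ) 1 = (d : ℂ)}
        = (Finset.univ.filter (fun χ : Cfsg.IrrCharacter (Matrix.SpecialLinearGroup (Fin 2) F) =>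
        (χ : Matrix.SpecialLinearGroup (Fin 2) F → ℂ) 1 = (d : ℂ))).card := by
      intro d
      rw [Nat.card_eq_fintype_card, Fintype.card_subtype]
    have hK := two_mul_card_K3 (F := F) (⟨k, hk⟩ : Odd (Fintype.card F))
    -- the two equations
    have hD : ∀ χ : Cfsg.IrrCharacter (Matrix.SpecialLinearGroup (Fin 2) F),
        ∃ d ∈ ({1, Fintype.card F, Fintype.card F + 1, Fintype.card F - 1,
          (Fintype.card F + 1) / 2, (Fintype.card F - 1) / 2} : Finset ℕ),
          (χ : Matrix.SpecialLinearGroup (Fin 2) F → ℂ) 1 = (d : ℂ) := by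
      intro χ
      rcases degree_type H (⟨k, hk⟩ : Odd (Fintype.card F)) χ with h | h | h | h | h | h
      · exact ⟨1, by simp, h.2⟩
      · exact ⟨_, by simp, h.2⟩
      · exact ⟨_, by simp, h.2⟩
      · exact ⟨_, by simp, h.2⟩
      · exact ⟨_, by simp, h.2⟩
      · rcases h.2 with h2 | h2
        · exact ⟨_, by simp, h2⟩
        · exact ⟨_, by simp, h2⟩
    have hexp : ∀ f : Cfsg.IrrCharacter (Matrix.SpecialLinearGroup (Fin 2) F) → ℂ,
        ∑ χ, f χ = f trivc + f Stc + ∑ χ ∈ K3 (F := F), f χ +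
          ∑ χ ∈ Finset.univ.filter (fun χ : Cfsg.IrrCharacter (Matrix.SpecialLinearGroup (Fin 2) F) =>
            (χ : Matrix.SpecialLinearGroup (Fin 2) F → ℂ) 1 = ((Fintype.card F - 1 : ℕ) : ℂ)), f χ
          + (f (p1c H) + f (p2c H)) +
          ∑ χ ∈ Finset.univ.filter (fun χ : Cfsg.IrrCharacter (Matrix.SpecialLinearGroup (Fin 2) F) =>
            (χ : Matrix.SpecialLinearGroup (Fin 2) F → ℂ) 1 = (((Fintype.card F - 1) / 2 : ℕ) : ℂ)), f χ := by
      intro f
      rw [sum_by_degree_nat _ hD f]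
      rw [Finset.sum_insert (by simp; omega), Finset.sum_insert (by simp; omega),
        Finset.sum_insert (by simp; omega), Finset.sum_insert (by simp; omega),
        Finset.sum_insert (by simp; omega), Finset.sum_singleton]
      rw [hf1, hfq, hfp, hfh, Finset.sum_singleton, Finset.sum_singleton, Finset.sum_pair hne12]
      ring
    have E1 := hexp (fun _ => (1 : ℂ))
    have E2 := hexp (fun χ => (χ : Matrix.SpecialLinearGroup (Fin 2) F → ℂ) 1 ^ 2)
    rw [sum_sq_degree, Cfsg.Agent.S2300.card_SL2_cast] at E2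
    simp only [Finset.sum_const, Finset.card_univ, nsmul_eq_mul, mul_one] at E1
    rw [card_irr_SL2 (⟨k, hk⟩ : Odd (Fintype.card F))] at E1
    have hK2 : ∑ φ ∈ K3 (F := F), (φ : Matrix.SpecialLinearGroup (Fin 2) F → ℂ) 1 ^ 2
        = ((K3 (F := F)).card : ℂ) * ((Fintype.card F : ℂ) + 1) ^ 2 := by
      rw [Finset.sum_congr rfl (fun φ hφ => by rw [K3_deg φ hφ]), Finset.sum_const, nsmul_eq_mul]
    have hY2 : ∀ d : ℕ, ∑ χ ∈ Finset.univ.filter
        (fun χ : Cfsg.IrrCharacter (Matrix.SpecialLinearGroup (Fin 2) F) =>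
          (χ : Matrix.SpecialLinearGroup (Fin 2) F → ℂ) 1 = (d : ℂ)),
          (χ : Matrix.SpecialLinearGroup (Fin 2) F → ℂ) 1 ^ 2
        = ((Finset.univ.filter (fun χ : Cfsg.IrrCharacter (Matrix.SpecialLinearGroup (Fin 2) F) =>
          (χ : Matrix.SpecialLinearGroup (Fin 2) F → ℂ) 1 = (d : ℂ))).card : ℂ) * (d : ℂ) ^ 2 := by
      intro d
      rw [Finset.sum_congr rfl (fun φ hφ => by rw [(Finset.mem_filter.mp hφ).2]), Finset.sum_const,
        nsmul_eq_mul]
    rw [hK2, hY2, hY2] at E2
    have ht : (trivc : Cfsg.IrrCharacter (Matrix.SpecialLinearGroup (Fin 2) F)).1 1 = 1 := rfl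
    have hs : (Stc : Cfsg.IrrCharacter (Matrix.SpecialLinearGroup (Fin 2) F)).1 1
        = (Fintype.card F : ℂ) := StSL_one
    have h1 : (p1c H).1 1 = (((Fintype.card F + 1) / 2 : ℕ) : ℂ) := H.deg₁
    have h2 : (p2c H).1 1 = (((Fintype.card F + 1) / 2 : ℕ) : ℂ) := H.deg₂
    rw [ht, hs, h1, h2] at E2
    set y := (Finset.univ.filter (fun χ : Cfsg.IrrCharacter (Matrix.SpecialLinearGroup (Fin 2) F) =>
          (χ : Matrix.SpecialLinearGroup (Fin 2) F → ℂ) 1 = ((Fintype.card F - 1 : ℕ) : ℂ))).card with hy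
    set w := (Finset.univ.filter (fun χ : Cfsg.IrrCharacter (Matrix.SpecialLinearGroup (Fin 2) F) =>
          (χ : Matrix.SpecialLinearGroup (Fin 2) F → ℂ) 1 = (((Fintype.card F - 1) / 2 : ℕ) : ℂ))).card with hw
    have e1 : (Fintype.card F + 1) / 2 = k + 1 := by omega
    have e2 : (Fintype.card F - 1) / 2 = k := by omega
    have e3 : Fintype.card F - 1 = 2 * k := by omega
    rw [e1, e2, e3, hk] at E2
    rw [hk] at E1
    have hK' : (K3 (F := F)).card = k - 1 := by omega
    rw [hK'] at E1 E2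
    push_cast [Nat.cast_sub (show 1 ≤ k by omega)] at E1 E2
    have hkc : (k : ℂ) ≠ 0 := by
      have : k ≠ 0 := by omega
      exact_mod_cast this
    have hy2 : (y : ℂ) = (k : ℂ) := by
      have h3 : 3 * (k : ℂ) ^ 2 * (y : ℂ) = 3 * (k : ℂ) ^ 2 * (k : ℂ) := by
        linear_combination (-1 : ℂ) * E2 + (k : ℂ) ^ 2 * E1
      exact mul_left_cancel₀ (mul_ne_zero (by norm_num) (pow_ne_zero 2 hkc)) h3
    have hw2 : (w : ℂ) = 2 := by
      linear_combination (-1 : ℂ) * E1 - hy2
    have hyN : y = k := by exact_mod_cast hy2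
    have hwN : w = 2 := by exact_mod_cast hw2
    refine ⟨?_, ?_, ?_, ?_, ?_, ?_⟩
    · have := hcardN 1
      rw [hf1, Finset.card_singleton] at this
      simpa using this
    · have := hcardN (Fintype.card F)
      rw [hfq, Finset.card_singleton] at this
      exact this
    · have := hcardN (Fintype.card F + 1)
      rw [hfp, hK'] at this
      rw [hcp1, this]
      omega
    · have := hcardN (Fintype.card F - 1)
      rw [← hy, hyN] at this
      rw [hcm1, this]
      omega
    · have := hcardN ((Fintype.card F + 1) / 2)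
      rw [hfh, Finset.card_pair hne12] at this
      exact this
    · have := hcardN ((Fintype.card F - 1) / 2)
      rw [← hw, hwN] at this
      exact this

end Cfsg.Agent.S2299
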