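import Cfsg.Statements.S2331
import Mathlib
import Cfsg.Agent.H9.Mat2

set_option autoImplicit false
open Cfsg

namespace Cfsg.Agent.S2331

open Matrix Cfsg.Agent.H9.Mat2

section

variable {F : Type*} [Field F]

open Classical in
/-- the complete invariant -/
noncomputable def Psi (g : Matrix.SpecialLinearGroup (Fin 2) F) : Option F :=
  if g = 1 then none else some (g : Matrix (Fin 2) (Fin 2) F).trace

theorem Psi_one : Psi (1 : Matrix.SpecialLinearGroup (Fin 2) F) = none := by
  unfold Psi
  rw [if_pos rfl]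

theorem Psi_ne {g : Matrix.SpecialLinearGroup (Fin 2) F} (h : g ≠ 1) :
    Psi g = some (g : Matrix (Fin 2) (Fin 2) F).trace := by
  unfold Psi
  rw [if_neg h]

theorem trace_conj (c g : Matrix.SpecialLinearGroup (Fin 2) F) :
    ((c * g * c⁻¹ : Matrix.SpecialLinearGroup (Fin 2) F) : Matrix (Fin 2) (Fin 2) F).trace =
      (g : Matrix (Fin 2) (Fin 2) F).trace := by
  rw [Matrix.SpecialLinearGroup.coe_mul, Matrix.SpecialLinearGroup.coe_mul, Matrix.trace_mul_comm,
    ← Matrix.mul_assoc, ← Matrix.SpecialLinearGroup.coe_mul, inv_mul_cancel,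
    Matrix.SpecialLinearGroup.coe_one, Matrix.one_mul]

theorem not_scalar [CharP F 2] {g : Matrix.SpecialLinearGroup (Fin 2) F} (h : g ≠ 1) :
    ¬ ∃ a : F, (g : Matrix (Fin 2) (Fin 2) F) = a • (1 : Matrix (Fin 2) (Fin 2) F) := by
  rintro ⟨a, ha⟩
  apply h
  have hdet := g.2
  rw [ha, Matrix.det_smul, Matrix.det_one, mul_one, Fintype.card_fin] at hdet
  have h1 : (a + 1) ^ 2 = 0 := by
    have h2 : (2 : F) = 0 := CharP.cast_eq_zero F 2
    calc (a + 1) ^ 2 = a ^ 2 + 2 * a + 1 := by ring
      _ = 0 := by rw [hdet, h2, zero_mul, add_zero]; rw [← two_mul, h2, zero_mul]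
  have h3 : a + 1 = 0 := pow_eq_zero_iff (two_ne_zero) |>.1 h1
  have ha1 : a = 1 := by
    have h2 : (2 : F) = 0 := CharP.cast_eq_zero F 2
    calc a = (a + 1) + 1 - 2 := by ring
      _ = 1 := by rw [h3, h2]; ring
  apply Subtype.ext
  rw [ha, ha1, one_smul, Matrix.SpecialLinearGroup.coe_one]

theorem isConj_iff_Psi [CharP F 2] [Finite F] (g h : Matrix.SpecialLinearGroup (Fin 2) F) :
    IsConj g h ↔ Psi g = Psi h := by
  constructor
  · intro hc
    rw [isConj_iff] at hc
    obtain ⟨c, rfl⟩ := hc
    by_cases hg : g = 1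
    · subst hg
      rw [mul_one, mul_inv_cancel]
    · have h' : c * g * c⁻¹ ≠ 1 := by
        intro h1
        apply hg
        have : g = c⁻¹ * (c * g * c⁻¹) * c := by group
        rw [this, h1, mul_one, inv_mul_cancel]
      rw [Psi_ne hg, Psi_ne h', trace_conj]
  · intro hP
    by_cases hg : g = 1
    · subst hg
      by_cases hh : h = 1
      · subst hh
        exact IsConj.refl _
      · rw [Psi_one, Psi_ne hh] at hP
        exact absurd hP (by simp)
    · by_cases hh : h = 1
      · subst hh
        rw [Psi_one, Psi_ne hg] at hP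
        exact absurd hP (by simp)
      · rw [Psi_ne hg, Psi_ne hh] at hP
        have ht := Option.some_injective _ hP
        obtain ⟨P, hP⟩ := exists_conj _ _ (not_scalar hg) (not_scalar hh) ht (by rw [g.2, h.2])
        have hchar : ringChar F = 2 := ringChar.eq F 2
        obtain ⟨s, hs⟩ := FiniteField.isSquare_of_char_two hchar (P : Matrix (Fin 2) (Fin 2) F).det
        have hdet0 : (P : Matrix (Fin 2) (Fin 2) F).det ≠ 0 := (Matrix.isUnits_det_units P).ne_zero
        have hs0 : s ≠ 0 := by
          rintro rfl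
          rw [mul_zero] at hs
          exact hdet0 hs
        have hdet1 : (s⁻¹ • (P : Matrix (Fin 2) (Fin 2) F)).det = 1 := by
          rw [Matrix.det_smul, Fintype.card_fin, hs]
          field_simp
        rw [isConj_iff]
        set c : Matrix.SpecialLinearGroup (Fin 2) F :=
          ⟨s⁻¹ • (P : Matrix (Fin 2) (Fin 2) F), hdet1⟩ with hc
        refine ⟨c, ?_⟩
        rw [mul_inv_eq_iff_eq_mul]
        apply Subtype.ext
        rw [Matrix.SpecialLinearGroup.coe_mul, Matrix.SpecialLinearGroup.coe_mul]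
        change s⁻¹ • (P : Matrix (Fin 2) (Fin 2) F) * (g : Matrix (Fin 2) (Fin 2) F) =
          (h : Matrix (Fin 2) (Fin 2) F) * s⁻¹ • (P : Matrix (Fin 2) (Fin 2) F)
        rw [Matrix.smul_mul, Matrix.mul_smul, hP]

theorem Psi_surjective [CharP F 2] :
    Function.Surjective (Psi : Matrix.SpecialLinearGroup (Fin 2) F → Option F) := by
  intro x
  cases x with
  | none => exact ⟨1, Psi_one⟩
  | some t =>
    have hdet : (comp t (1 : F)).det = 1 := det_comp t 1
    set c : Matrix.SpecialLinearGroup (Fin 2) F := ⟨comp t 1, hdet⟩ with hc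
    refine ⟨c, ?_⟩
    have hne : c ≠ 1 := by
      intro h1
      apply comp_not_scalar t (1 : F)
      refine ⟨1, ?_⟩
      have : (c : Matrix (Fin 2) (Fin 2) F) = ((1 : Matrix.SpecialLinearGroup (Fin 2) F) :
          Matrix (Fin 2) (Fin 2) F) := by rw [h1]
      rw [one_smul, ← Matrix.SpecialLinearGroup.coe_one]
      exact this
    rw [Psi_ne hne]
    congr 1
    exact trace_comp t 1

end

/-- Over a finite field with q elements, q even, the special linear group SL₂ has exactly q + 1 conjugacy classes. -/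
theorem result {F : Type*} [Field F] [Fintype F] [CharP F 2] :
    Nat.card (ConjClasses (Matrix.SpecialLinearGroup (Fin 2) F)) = Fintype.card F + 1 := by
  classical
  rw [card_conjClasses_eq Psi isConj_iff_Psi Psi_surjective, Nat.card_eq_fintype_card,
    Fintype.card_option]

end Cfsg.Agent.S2331
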