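import Cfsg.Statements.S2507
import Mathlib
import Cfsg.Agent.H9.ClassSize
import Cfsg.Agent.H9.PSL2Spec
import Cfsg.Agent.S2331

set_option autoImplicit false
open Cfsg

namespace Cfsg.Agent.S2507

open Matrix Finset Cfsg.Agent.H9.ClassSize Cfsg.Agent.H9.PSL2Spec

section

variable {F : Type*} [Field F] [Fintype F]

local notation "SL2" => Matrix.SpecialLinearGroup (Fin 2) F

/-- elements of trace `t` as triples -/
def trEquiv (t : F) : {B : SL2 // (B : Matrix (Fin 2) (Fin 2) F).trace = t} ≃
    {x : F × F × F // x.1 * (t - x.1) - x.2.1 * x.2.2 = 1} where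
  toFun B := ⟨((B.1 : Matrix (Fin 2) (Fin 2) F) 0 0, (B.1 : Matrix (Fin 2) (Fin 2) F) 0 1,
    (B.1 : Matrix (Fin 2) (Fin 2) F) 1 0), by
      have h1 := B.1.2
      have h2 := B.2
      rw [Matrix.det_fin_two] at h1
      rw [Matrix.trace_fin_two] at h2
      simp only
      linear_combination h1 - ((B.1 : Matrix (Fin 2) (Fin 2) F) 0 0) * h2⟩
  invFun x := ⟨⟨!![x.1.1, x.1.2.1; x.1.2.2, t - x.1.1], by
      rw [Matrix.det_fin_two_of]
      exact x.2⟩, by
      change (!![x.1.1, x.1.2.1; x.1.2.2, t - x.1.1] : Matrix (Fin 2) (Fin 2) F).trace = t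
      rw [Matrix.trace_fin_two_of]
      ring⟩
  left_inv B := by
    apply Subtype.ext
    apply Subtype.ext
    have h2 := B.2
    rw [Matrix.trace_fin_two] at h2
    ext i j
    fin_cases i <;> fin_cases j
    · rfl
    · rfl
    · rfl
    · change t - (B.1 : Matrix (Fin 2) (Fin 2) F) 0 0 = (B.1 : Matrix (Fin 2) (Fin 2) F) 1 1
      linear_combination -h2
  right_inv x := by
    apply Subtype.ext
    rfl

theorem card_trace [DecidableEq F] (t : F) :
    Nat.card {B : SL2 // (B : Matrix (Fin 2) (Fin 2) F).trace = t} =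
      Fintype.card F * (Fintype.card F - 1) +
        Fintype.card F * (univ.filter (fun a : F => a * (t - a) = 1)).card := by
  rw [Nat.card_congr (trEquiv t), Nat.card_eq_fintype_card, Fintype.card_subtype, card_trace_eq]

end

section Char2

variable {F : Type*} [Field F] [Fintype F] [CharP F 2]

local notation "SL2" => Matrix.SpecialLinearGroup (Fin 2) F

theorem two_eq_zero' : (2 : F) = 0 := CharP.cast_eq_zero F 2

theorem neg_eq_self (a : F) : -a = a := by
  have : a + a = 0 := by rw [← two_mul, two_eq_zero', zero_mul]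
  exact neg_eq_of_add_eq_zero_left this

theorem isConj_iff_of_ne_one {A : SL2} (hA : A ≠ 1) (B : SL2) :
    IsConj A B ↔ B ≠ 1 ∧ (B : Matrix (Fin 2) (Fin 2) F).trace =
      (A : Matrix (Fin 2) (Fin 2) F).trace := by
  rw [Cfsg.Agent.S2331.isConj_iff_Psi, Cfsg.Agent.S2331.Psi_ne hA]
  constructor
  · intro h
    by_cases hB : B = 1
    · subst hB
      rw [Cfsg.Agent.S2331.Psi_one] at h
      exact absurd h (by simp)
    · rw [Cfsg.Agent.S2331.Psi_ne hB] at h
      exact ⟨hB, (Option.some_injective _ h).symm⟩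
  · rintro ⟨hB, ht⟩
    rw [Cfsg.Agent.S2331.Psi_ne hB, ht]

theorem trace_one_sl : ((1 : SL2) : Matrix (Fin 2) (Fin 2) F).trace = 0 := by
  rw [Matrix.SpecialLinearGroup.coe_one, Matrix.trace_one, Fintype.card_fin]
  exact_mod_cast two_eq_zero' (F := F)

theorem roots_zero [DecidableEq F] : univ.filter (fun a : F => a * (0 - a) = 1) = {1} := by
  ext a
  rw [mem_filter, mem_singleton]
  constructor
  · rintro ⟨-, h⟩
    have h1 : (a - 1) ^ 2 = 0 := by
      have : a * a = 1 := by
        rw [zero_sub, neg_eq_self] at h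
        exact h
      have h2 := two_eq_zero' (F := F)
      calc (a - 1) ^ 2 = a * a - 2 * a + 1 := by ring
        _ = 0 := by rw [this, h2, zero_mul, sub_zero, ← two_eq_zero' (F := F)]; norm_num
    exact sub_eq_zero.1 (pow_eq_zero_iff (two_ne_zero) |>.1 h1)
  · rintro rfl
    refine ⟨mem_univ _, ?_⟩
    rw [zero_sub, neg_eq_self, mul_one]

theorem roots_ne_zero [DecidableEq F] {t : F} (ht : t ≠ 0) :
    (univ.filter (fun a : F => a * (t - a) = 1)).card = 0 ∨
      (univ.filter (fun a : F => a * (t - a) = 1)).card = 2 := by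
  by_cases hex : ∃ a₀ : F, a₀ * (t - a₀) = 1
  · right
    obtain ⟨a₀, h₀⟩ := hex
    have hne : a₀ ≠ t - a₀ := by
      intro h
      apply ht
      have : t = a₀ + a₀ := by linear_combination -h
      rw [this, ← two_mul, two_eq_zero', zero_mul]
    have : univ.filter (fun a : F => a * (t - a) = 1) = {a₀, t - a₀} := by
      ext a
      rw [mem_filter, mem_insert, mem_singleton]
      constructor
      · rintro ⟨-, h⟩
        have h1 : (a - a₀) * (a - (t - a₀)) = 0 := by linear_combination h₀ - h
        rcases mul_eq_zero.1 h1 with h2 | h2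
        · left; exact sub_eq_zero.1 h2
        · right; exact sub_eq_zero.1 h2
      · rintro (rfl | rfl)
        · exact ⟨mem_univ _, h₀⟩
        · refine ⟨mem_univ _, ?_⟩
          linear_combination h₀
    rw [this, card_pair hne]
  · left
    rw [card_eq_zero]
    ext a
    simp only [mem_filter, mem_univ, true_and, notMem_empty, iff_false]
    exact fun h => hex ⟨a, h⟩

theorem index_of_trace_zero [DecidableEq F] {A : SL2} (hA : A ≠ 1)
    (ht : (A : Matrix (Fin 2) (Fin 2) F).trace = 0) :
    (Subgroup.centralizer ({A} : Set SL2)).index = Fintype.card F ^ 2 - 1 := by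
  rw [index_centralizer_eq_card_conj]
  have h1 : Nat.card {B : SL2 // (B : Matrix (Fin 2) (Fin 2) F).trace = 0} =
      Nat.card {B : SL2 // IsConj A B} + 1 := by
    have e : {B : SL2 // (B : Matrix (Fin 2) (Fin 2) F).trace = 0} ≃
        Option {B : SL2 // IsConj A B} :=
      { toFun := fun B => if h : B.1 = 1 then none else
          some ⟨B.1, (isConj_iff_of_ne_one hA B.1).2 ⟨h, by rw [B.2, ht]⟩⟩
        invFun := fun x => match x with
          | none => ⟨1, trace_one_sl⟩
          | some B => ⟨B.1, by rw [((isConj_iff_of_ne_one hA B.1).1 B.2).2, ht]⟩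
        left_inv := by
          intro B
          by_cases h : B.1 = 1
          · simp only [dif_pos h]
            exact Subtype.ext h.symm
          · simp only [dif_neg h]
        right_inv := by
          intro x
          cases x with
          | none => simp
          | some B =>
            have hB : B.1 ≠ 1 := ((isConj_iff_of_ne_one hA B.1).1 B.2).1
            simp only [dif_neg hB] }
    rw [Nat.card_congr e, Nat.card_eq_fintype_card, Fintype.card_option, Nat.card_eq_fintype_card]
  rw [card_trace, roots_zero, card_singleton, mul_one] at h1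
  have hq : 1 ≤ Fintype.card F := Fintype.card_pos
  have h2 : Fintype.card F * (Fintype.card F - 1) + Fintype.card F = Fintype.card F ^ 2 := by
    obtain ⟨k, hk⟩ : ∃ k, Fintype.card F = k + 1 := ⟨Fintype.card F - 1, by omega⟩
    rw [hk, Nat.add_sub_cancel]; ring
  omega

theorem index_of_trace_ne_zero {A : SL2} (hA : A ≠ 1)
    (ht : (A : Matrix (Fin 2) (Fin 2) F).trace ≠ 0) [DecidableEq F] :
    (Subgroup.centralizer ({A} : Set SL2)).index = Fintype.card F * (Fintype.card F - 1) +
      Fintype.card F * (univ.filter (fun a : F => a *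
        ((A : Matrix (Fin 2) (Fin 2) F).trace - a) = 1)).card := by
  rw [index_centralizer_eq_card_conj, ← card_trace]
  apply Nat.card_congr
  refine Equiv.subtypeEquivRight (fun B => ?_)
  rw [isConj_iff_of_ne_one hA]
  constructor
  · intro h; exact h.2
  · intro h
    refine ⟨?_, h⟩
    rintro rfl
    rw [trace_one_sl] at h
    exact ht h.symm

end Char2

section Main

variable {F : Type*} [Field F] [Fintype F] [CharP F 2]

local notation "SL2" => Matrix.SpecialLinearGroup (Fin 2) F

theorem center_eq_bot : Subgroup.center SL2 = ⊥ := by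
  rw [Subgroup.eq_bot_iff_forall]
  intro A hA
  rw [Matrix.SpecialLinearGroup.mem_center_iff] at hA
  obtain ⟨r, hr, hrA⟩ := hA
  rw [Fintype.card_fin] at hr
  have h1 : (r - 1) ^ 2 = 0 := by
    have h2 := two_eq_zero' (F := F)
    calc (r - 1) ^ 2 = r ^ 2 - 2 * r + 1 := by ring
      _ = 0 := by rw [hr, h2, zero_mul, sub_zero, ← two_eq_zero' (F := F)]; norm_num
  have hr1 : r = 1 := sub_eq_zero.1 (pow_eq_zero_iff (two_ne_zero) |>.1 h1)
  apply Subtype.ext
  rw [← hrA, hr1, map_one, Matrix.SpecialLinearGroup.coe_one]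

/-- in characteristic 2, `SL₂ ≃ PSL₂`. -/
noncomputable def slEquiv : SL2 ≃* Matrix.ProjectiveSpecialLinearGroup (Fin 2) F :=
  MulEquiv.ofBijective (QuotientGroup.mk' (Subgroup.center SL2)) (by
    constructor
    · rw [← MonoidHom.ker_eq_bot_iff, QuotientGroup.ker_mk', center_eq_bot]
    · exact QuotientGroup.mk'_surjective _)

theorem card_ge_of_dvd (h2 : 2 ∣ Fintype.card F) : Nat.gcd 2 (Fintype.card F - 1) = 1 := by
  have hq : 1 ≤ Fintype.card F := Fintype.card_pos
  obtain ⟨k, hk⟩ := h2
  rw [hk]
  have : 2 * k - 1 = 2 * (k - 1) + 1 := by omega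
  rw [this]
  simp

theorem index_mem (h4 : 4 ≤ Fintype.card F) (A : SL2) :
    (Subgroup.centralizer ({A} : Set SL2)).index ∈
      ({1, Fintype.card F * (Fintype.card F - 1), Fintype.card F ^ 2 - 1,
        Fintype.card F * (Fintype.card F + 1)} : Set ℕ) := by
  classical
  by_cases hA : A = 1
  · subst hA
    left
    have : Subgroup.centralizer ({1} : Set SL2) = ⊤ := by
      rw [eq_top_iff]
      intro x _
      rw [Subgroup.mem_centralizer_iff]
      intro y hy
      rw [Set.mem_singleton_iff] at hy
      rw [hy, one_mul, mul_one]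
    rw [this, Subgroup.index_top]
  · by_cases ht : (A : Matrix (Fin 2) (Fin 2) F).trace = 0
    · right; right; left
      exact index_of_trace_zero hA ht
    · rw [index_of_trace_ne_zero hA ht]
      rcases roots_ne_zero ht with h | h
      · right; left
        rw [h, mul_zero, add_zero]
      · right; right; right
        rw [h]
        obtain ⟨k, hk⟩ : ∃ k, Fintype.card F = k + 1 := ⟨Fintype.card F - 1, by omega⟩
        rw [hk, Nat.add_sub_cancel]
        change (k + 1) * k + (k + 1) * 2 = (k + 1) * (k + 1 + 1)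
        ring

end Main

section Exists

variable {F : Type*} [Field F] [Fintype F] [CharP F 2]

local notation "SL2" => Matrix.SpecialLinearGroup (Fin 2) F

theorem exists_index_unip :
    ∃ A : SL2, (Subgroup.centralizer ({A} : Set SL2)).index = Fintype.card F ^ 2 - 1 := by
  classical
  set u : SL2 := ⟨uMat, det_uMat⟩ with hu
  have hu1 : u ≠ 1 := by
    intro h
    have := congrArg (fun B : SL2 => (B : Matrix (Fin 2) (Fin 2) F) 0 1) h
    simp [hu, uMat] at this
  have htr : (u : Matrix (Fin 2) (Fin 2) F).trace = 0 := by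
    change (uMat : Matrix (Fin 2) (Fin 2) F).trace = 0
    rw [uMat, Matrix.trace_fin_two_of]
    rw [← two_eq_zero' (F := F)]; norm_num
  exact ⟨u, index_of_trace_zero hu1 htr⟩

theorem exists_index_split (h4 : 4 ≤ Fintype.card F) :
    ∃ A : SL2, (Subgroup.centralizer ({A} : Set SL2)).index =
      Fintype.card F * (Fintype.card F + 1) := by
  classical
  have hcard : 1 < Fintype.card Fˣ := by
    rw [Fintype.card_units]; omega
  obtain ⟨a, ha⟩ := Fintype.exists_ne_of_one_lt_card hcard (1 : Fˣ)
  have ha0 : (a : F) ≠ 0 := a.ne_zero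
  have ha1 : (a : F) ≠ 1 := fun h => ha (Units.ext h)
  have htr : ((dg a : SL2) : Matrix (Fin 2) (Fin 2) F).trace = (a : F) + ((a⁻¹ : Fˣ) : F) := by
    rw [coe_dg, dgMat, Matrix.trace_fin_two_of]
  have hne : ((dg a : SL2) : Matrix (Fin 2) (Fin 2) F).trace ≠ 0 := by
    rw [htr]
    intro h
    apply ha1
    have h1 : (a : F) * (a : F) = 1 := by
      have h2 : ((a⁻¹ : Fˣ) : F) = (a : F) := by
        have : ((a⁻¹ : Fˣ) : F) = -(a : F) := by linear_combination h
        rw [this, neg_eq_self]
      have h3 : (a : F) * ((a⁻¹ : Fˣ) : F) = 1 := by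
        rw [← Units.val_mul, mul_inv_cancel, Units.val_one]
      rw [h2] at h3
      exact h3
    have h4 : ((a : F) - 1) ^ 2 = 0 := by
      have h2 := two_eq_zero' (F := F)
      calc ((a : F) - 1) ^ 2 = (a : F) * a - 2 * a + 1 := by ring
        _ = 0 := by rw [h1, h2, zero_mul, sub_zero, ← two_eq_zero' (F := F)]; norm_num
    exact sub_eq_zero.1 (pow_eq_zero_iff (two_ne_zero) |>.1 h4)
  have hdg1 : (dg a : SL2) ≠ 1 := by
    intro h
    rw [h, trace_one_sl] at hne
    exact hne rfl
  refine ⟨dg a, ?_⟩
  rw [index_of_trace_ne_zero hdg1 hne]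
  rcases roots_ne_zero hne with h | h
  · exfalso
    rw [card_eq_zero] at h
    have : (a : F) ∈ univ.filter (fun x : F => x *
        (((dg a : SL2) : Matrix (Fin 2) (Fin 2) F).trace - x) = 1) := by
      rw [mem_filter, htr]
      refine ⟨mem_univ _, ?_⟩
      rw [add_sub_cancel_left, ← Units.val_mul, mul_inv_cancel, Units.val_one]
    rw [h] at this
    exact absurd this (notMem_empty _)
  · rw [h]
    obtain ⟨k, hk⟩ : ∃ k, Fintype.card F = k + 1 := ⟨Fintype.card F - 1, by omega⟩
    rw [hk, Nat.add_sub_cancel]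
    ring

theorem exists_index_nonsplit (h4 : 4 ≤ Fintype.card F) (h2 : 2 ∣ Fintype.card F) :
    ∃ A : SL2, (Subgroup.centralizer ({A} : Set SL2)).index =
      Fintype.card F * (Fintype.card F - 1) := by
  classical
  obtain ⟨g, hg⟩ := exists_orderOf_eq_nonsplit (F := F) 2
  rw [card_ge_of_dvd h2, Nat.div_one] at hg
  obtain ⟨A, rfl⟩ := (slEquiv (F := F)).surjective g
  have hoA : orderOf A = Fintype.card F + 1 := by
    rw [← hg]
    exact (orderOf_injective (slEquiv (F := F)).toMonoidHom (slEquiv (F := F)).injective A).symm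
  have hA1 : A ≠ 1 := by
    rintro rfl
    rw [orderOf_one] at hoA
    omega
  -- no power `≤ q` kills `A`
  have hnopow : ∀ N : ℕ, 0 < N → N ≤ Fintype.card F → A ^ N ≠ 1 := by
    intro N hN hNq h
    have := Nat.le_of_dvd hN (orderOf_dvd_of_pow_eq_one h)
    omega
  have hpow_of : ∀ N : ℕ, (A : Matrix (Fin 2) (Fin 2) F) ^ N = (1 : F) • 1 → A ^ N = 1 := by
    intro N h
    apply Subtype.ext
    rw [Matrix.SpecialLinearGroup.coe_pow, h, one_smul, Matrix.SpecialLinearGroup.coe_one]
  have hroot_none : ∀ a : F, ¬ (fpoly (A : Matrix (Fin 2) (Fin 2) F).trace).IsRoot a := by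
    intro a ha
    by_cases ha1 : a ^ 2 = 1
    · have h1 := pow_char_of_root 2 A ha1 ha
      rw [ha1] at h1
      exact hnopow 2 (by norm_num) (by omega) (hpow_of 2 h1)
    · have ha0 : a ≠ 0 := by
        rintro rfl
        have := ha
        unfold fpoly at this
        simp at this
      have h1 := dvd_of_root ha ha1 (Fintype.card F - 1) 1 (one_pow 2)
        (FiniteField.pow_card_sub_one_eq_one a ha0)
      have h2 := pow_eq_of_dvd A _ _ h1
      exact hnopow _ (by omega) (by omega) (hpow_of _ h2)
  have ht : (A : Matrix (Fin 2) (Fin 2) F).trace ≠ 0 := by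
    intro h0
    apply hroot_none 1
    rw [h0]
    unfold fpoly
    simp
    rw [← two_eq_zero' (F := F)]; norm_num
  refine ⟨A, ?_⟩
  rw [index_of_trace_ne_zero hA1 ht]
  rcases roots_ne_zero ht with h | h
  · rw [h, mul_zero, add_zero]
  · exfalso
    have hpos : 0 < (univ.filter (fun a : F => a *
        ((A : Matrix (Fin 2) (Fin 2) F).trace - a) = 1)).card := by rw [h]; norm_num
    obtain ⟨a, ha⟩ := card_pos.1 hpos
    rw [mem_filter] at ha
    apply hroot_none a
    unfold fpoly
    simp
    linear_combination -ha.2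

end Exists

/-- Let F be a finite field with q = 2^f ≥ 4 elements. The conjugacy class sizes of PSL(2,F) are exactly 1, q(q − 1), q² − 1 and q(q + 1). -/
theorem result {F : Type*} [Field F] [Fintype F]
    (h2 : 2 ∣ Fintype.card F) (h4 : 4 ≤ Fintype.card F) :
    Set.range (fun g : (Matrix.ProjectiveSpecialLinearGroup (Fin 2) F) => (Subgroup.centralizer ({g} : Set (Matrix.ProjectiveSpecialLinearGroup (Fin 2) F))).index) =
      {1, Fintype.card F * (Fintype.card F - 1), Fintype.card F ^ 2 - 1, Fintype.card F * (Fintype.card F + 1)} := by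
  have hchar : CharP F 2 := by
    obtain ⟨p, hp⟩ := CharP.exists F
    have hpp : p.Prime := CharP.char_is_prime F p
    have : Fact p.Prime := ⟨hpp⟩
    obtain ⟨n, -, hn⟩ := FiniteField.card F p
    rw [hn] at h2
    have h3 : 2 ∣ p := Nat.Prime.dvd_of_dvd_pow Nat.prime_two h2
    have h5 : 2 = p := (Nat.prime_dvd_prime_iff_eq Nat.prime_two hpp).1 h3
    rw [h5]
    exact hp
  have key : ∀ A : Matrix.SpecialLinearGroup (Fin 2) F,
      (Subgroup.centralizer ({slEquiv A} : Set (Matrix.ProjectiveSpecialLinearGroup (Fin 2) F))).index =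
      (Subgroup.centralizer ({A} : Set (Matrix.SpecialLinearGroup (Fin 2) F))).index :=
    fun A => index_centralizer_equiv slEquiv A
  apply Set.eq_of_subset_of_subset
  · rintro _ ⟨g, rfl⟩
    obtain ⟨A, rfl⟩ := (slEquiv (F := F)).surjective g
    change (Subgroup.centralizer ({slEquiv A} : Set _)).index ∈ _
    rw [key]
    exact index_mem h4 A
  · rintro m (rfl | rfl | rfl | rfl)
    · refine ⟨slEquiv 1, ?_⟩
      change (Subgroup.centralizer ({slEquiv 1} : Set _)).index = 1
      rw [key]
      have : Subgroup.centralizer ({1} : Set (Matrix.SpecialLinearGroup (Fin 2) F)) = ⊤ := by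
        rw [eq_top_iff]
        intro x _
        rw [Subgroup.mem_centralizer_iff]
        intro y hy
        rw [Set.mem_singleton_iff] at hy
        rw [hy, one_mul, mul_one]
      rw [this, Subgroup.index_top]
    · obtain ⟨A, hA⟩ := exists_index_nonsplit h4 h2
      refine ⟨slEquiv A, ?_⟩
      change (Subgroup.centralizer ({slEquiv A} : Set _)).index = _
      rw [key, hA]
    · obtain ⟨A, hA⟩ := exists_index_unip (F := F)
      refine ⟨slEquiv A, ?_⟩
      change (Subgroup.centralizer ({slEquiv A} : Set _)).index = _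
      rw [key, hA]
    · obtain ⟨A, hA⟩ := exists_index_split h4
      refine ⟨slEquiv A, ?_⟩
      change (Subgroup.centralizer ({slEquiv A} : Set _)).index = _
      rw [key, hA]

end Cfsg.Agent.S2507
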