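import Cfsg.Statements.S2301
import Mathlib
import Cfsg.Agent.H9.ClassSize
import Cfsg.Agent.H9.PSL2Spec
import Cfsg.Agent.H9.SL2OddCls
import Cfsg.Agent.S2507
import Cfsg.Agent.S2325

set_option autoImplicit false
open Cfsg

namespace Cfsg.Agent.S2301

open Matrix Finset Cfsg.Agent.H9.ClassSize Cfsg.Agent.H9.PSL2Spec Cfsg.Agent.H9.SL2OddCls

section

variable {F : Type*} [Field F] [Fintype F]

local notation "SL2" => Matrix.SpecialLinearGroup (Fin 2) F

/-- conjugation by `diag(ν, μ)` with `ν μ = 1`... as a map -/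
def tw (ν μ : F) (h : ν * μ = 1) (g : SL2) : SL2 :=
  ⟨!![(g : Matrix (Fin 2) (Fin 2) F) 0 0, ν * (g : Matrix (Fin 2) (Fin 2) F) 0 1;
      μ * (g : Matrix (Fin 2) (Fin 2) F) 1 0, (g : Matrix (Fin 2) (Fin 2) F) 1 1], by
    have hg := g.2
    rw [Matrix.det_fin_two] at hg
    rw [Matrix.det_fin_two_of]
    linear_combination hg - ((g : Matrix (Fin 2) (Fin 2) F) 0 1 *
      (g : Matrix (Fin 2) (Fin 2) F) 1 0) * h⟩

theorem coe_tw (ν μ : F) (h : ν * μ = 1) (g : SL2) :
    ((tw ν μ h g : SL2) : Matrix (Fin 2) (Fin 2) F) =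
      !![(g : Matrix (Fin 2) (Fin 2) F) 0 0, ν * (g : Matrix (Fin 2) (Fin 2) F) 0 1;
      μ * (g : Matrix (Fin 2) (Fin 2) F) 1 0, (g : Matrix (Fin 2) (Fin 2) F) 1 1] := rfl

theorem tw_tw (ν μ : F) (h : ν * μ = 1) (h' : μ * ν = 1) (g : SL2) :
    tw μ ν h' (tw ν μ h g) = g := by
  apply Subtype.ext
  rw [coe_tw, coe_tw]
  ext i j
  fin_cases i <;> fin_cases j <;> simp
  · rw [← mul_assoc, h', one_mul]
  · rw [← mul_assoc, h, one_mul]

theorem tw_mul (ν μ : F) (h : ν * μ = 1) (g k : SL2) :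
    tw ν μ h (g * k) = tw ν μ h g * tw ν μ h k := by
  apply Subtype.ext
  rw [Matrix.SpecialLinearGroup.coe_mul, coe_tw, coe_tw, coe_tw, Matrix.SpecialLinearGroup.coe_mul]
  ext i j
  fin_cases i <;> fin_cases j <;>
    simp [Matrix.mul_apply, Fin.sum_univ_two]
  · linear_combination (-((g : Matrix (Fin 2) (Fin 2) F) 0 1 *
      (k : Matrix (Fin 2) (Fin 2) F) 1 0)) * h
  · ring
  · ring
  · linear_combination (-((g : Matrix (Fin 2) (Fin 2) F) 1 0 *
      (k : Matrix (Fin 2) (Fin 2) F) 0 1)) * h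

/-- conjugation by `diag(ν, 1)` as an automorphism of `SL₂` -/
def twist (ν : F) (hν : ν ≠ 0) : SL2 ≃* SL2 where
  toFun := tw ν ν⁻¹ (mul_inv_cancel₀ hν)
  invFun := tw ν⁻¹ ν (inv_mul_cancel₀ hν)
  left_inv g := tw_tw _ _ _ _ g
  right_inv g := tw_tw _ _ _ _ g
  map_mul' g h := tw_mul _ _ _ g h

theorem twist_U (ν : F) (hν : ν ≠ 0) (b : F) :
    twist ν hν (U 1 (one_mul 1) b) = U 1 (one_mul 1) (ν * b) := by
  apply Subtype.ext
  change ((tw ν ν⁻¹ (mul_inv_cancel₀ hν) _ : SL2) : Matrix (Fin 2) (Fin 2) F) = _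
  rw [coe_tw, coe_U, coe_U]
  ext i j
  fin_cases i <;> fin_cases j <;> simp

end

section Main

variable {F : Type*} [Field F] [Fintype F] (p : ℕ) [Fact p.Prime] [CharP F p]

local notation "SL2" => Matrix.SpecialLinearGroup (Fin 2) F

/-- the standard unipotent with entry `b` -/
abbrev u (b : F) : SL2 := U 1 (one_mul 1) b

theorem trace_eq_two_of_orderOf (g : SL2) (hg : orderOf g = p) :
    (g : Matrix (Fin 2) (Fin 2) F).trace = 2 := by
  have hgp : g ^ p = 1 := by rw [← hg]; exact pow_orderOf_eq_one g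
  have hM : (g : Matrix (Fin 2) (Fin 2) F) ^ p = 1 := by
    rw [← Matrix.SpecialLinearGroup.coe_pow, hgp, Matrix.SpecialLinearGroup.coe_one]
  have hnil : ((g : Matrix (Fin 2) (Fin 2) F) - 1) ^ p = 0 := by
    rw [sub_pow_char_of_commute (p := p) (Commute.one_right _), hM, one_pow, sub_self]
  have hN : IsNilpotent ((g : Matrix (Fin 2) (Fin 2) F) - 1) := ⟨p, hnil⟩
  have h0 := (Matrix.isNilpotent_trace_of_isNilpotent hN).eq_zero
  rw [Matrix.trace_sub, Matrix.trace_one, Fintype.card_fin] at h0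
  push_cast at h0
  linear_combination h0

theorem orderOf_eq_of_trace (g : SL2) (h1 : g ≠ 1)
    (ht : (g : Matrix (Fin 2) (Fin 2) F).trace = 2) : orderOf g = p := by
  apply orderOf_eq_prime _ h1
  apply Subtype.ext
  rw [Matrix.SpecialLinearGroup.coe_pow, Matrix.SpecialLinearGroup.coe_one,
    pow_char_of_root p g (ε := 1) (by norm_num), one_pow, one_smul]
  rw [ht]
  unfold fpoly
  simp
  norm_num

theorem nonscalar_of_trace_two (h2 : (2 : F) ≠ 0) (g : SL2) (h1 : g ≠ 1)
    (ht : (g : Matrix (Fin 2) (Fin 2) F).trace = 2) :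
    ¬ ∃ a : F, (g : Matrix (Fin 2) (Fin 2) F) = a • (1 : Matrix (Fin 2) (Fin 2) F) := by
  rintro ⟨a, ha⟩
  rw [ha, Matrix.trace_smul, Matrix.trace_one, Fintype.card_fin, smul_eq_mul] at ht
  push_cast at ht
  have ha1 : a = 1 := by
    apply mul_right_cancel₀ h2
    rw [ht, one_mul]
  apply h1
  apply Subtype.ext
  rw [ha, ha1, one_smul, Matrix.SpecialLinearGroup.coe_one]

theorem u_ne_one {b : F} (hb : b ≠ 0) : (u b : SL2) ≠ 1 := by
  intro h
  have := congrArg (fun A : SL2 => (A : Matrix (Fin 2) (Fin 2) F) 0 1) h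
  simp [coe_U] at this
  exact hb this

theorem trace_u (b : F) : ((u b : SL2) : Matrix (Fin 2) (Fin 2) F).trace = 2 := by
  rw [coe_U, Matrix.trace_fin_two_of]; norm_num

theorem trace_eq_of_isConj {g h : SL2} (hc : IsConj g h) :
    (g : Matrix (Fin 2) (Fin 2) F).trace = (h : Matrix (Fin 2) (Fin 2) F).trace :=
  Cfsg.Agent.S2325.trace_eq_of_isConj hc

theorem ne_one_of_isConj {g h : SL2} (hc : IsConj g h) (hg : g ≠ 1) : h ≠ 1 := by
  rintro rfl
  rw [isConj_one_left] at hc
  exact hg hc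

/-- the dichotomy -/
theorem cases_conj (h2 : (2 : F) ≠ 0) {ν : F} (hν : ¬ IsSquare ν) (g : SL2) (h1 : g ≠ 1)
    (ht : (g : Matrix (Fin 2) (Fin 2) F).trace = 2) :
    IsConj (u 1) g ∨ IsConj (u ν) g := by
  have hν0 : ν ≠ 0 := by
    rintro rfl
    exact hν ⟨0, by simp⟩
  obtain ⟨b, hb, hgb⟩ := exists_conj_U 1 (one_mul 1) g (nonscalar_of_trace_two h2 g h1 ht)
    (by rw [ht, mul_one])
  by_cases hs : IsSquare b
  · left
    exact (U_conj_of_isSquare 1 (one_mul 1) one_ne_zero hb (by rwa [one_mul])).trans hgb.symm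
  · right
    refine (U_conj_of_isSquare 1 (one_mul 1) hν0 hb ?_).trans hgb.symm
    exact Cfsg.Agent.S2325.isSquare_mul_of_iff hν0 hb (by simp [hν, hs])

theorem not_conj {ν : F} (hν : ¬ IsSquare ν) : ¬ IsConj (u 1 : SL2) (u ν) := by
  have hν0 : ν ≠ 0 := by
    rintro rfl
    exact hν ⟨0, by simp⟩
  intro h
  have := isSquare_of_U_conj 1 (one_mul 1) one_ne_zero hν0 h
  rw [one_mul] at this
  exact hν this

theorem card_conj_twist {ν : F} (hν0 : ν ≠ 0) :
    Nat.card {h : SL2 // IsConj (u ν) h} = Nat.card {h : SL2 // IsConj (u 1) h} := by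
  rw [← index_centralizer_eq_card_conj, ← index_centralizer_eq_card_conj]
  have := index_centralizer_equiv (twist ν hν0) (u 1)
  rw [twist_U, mul_one] at this
  exact this

theorem card_trace_two [DecidableEq F] (h2 : (2 : F) ≠ 0) :
    Nat.card {B : SL2 // (B : Matrix (Fin 2) (Fin 2) F).trace = 2} = Fintype.card F ^ 2 := by
  rw [Cfsg.Agent.S2507.card_trace]
  have : univ.filter (fun a : F => a * (2 - a) = 1) = {1} := by
    ext a
    simp only [mem_filter, mem_univ, true_and, mem_singleton]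
    constructor
    · intro h
      have h' : (a - 1) ^ 2 = 0 := by linear_combination -h
      have := pow_eq_zero_iff (two_ne_zero) |>.1 h'
      linear_combination this
    · rintro rfl
      norm_num
  rw [this, card_singleton, mul_one]
  obtain ⟨k, hk⟩ : ∃ k, Fintype.card F = k + 1 := ⟨Fintype.card F - 1, by
    have := Fintype.card_pos (α := F); omega⟩
  rw [hk, Nat.add_sub_cancel]; ring

end Main

section Final

variable {F : Type*} [Field F] [Fintype F]

local notation "SL2" => Matrix.SpecialLinearGroup (Fin 2) F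

theorem card_classes (h2 : (2 : F) ≠ 0) {ν : F} (hν : ¬ IsSquare ν) :
    Nat.card {h : SL2 // IsConj (u 1) h} + Nat.card {h : SL2 // IsConj (u ν) h} =
      Fintype.card F ^ 2 - 1 := by
  classical
  have hν0 : ν ≠ 0 := by
    rintro rfl
    exact hν ⟨0, by simp⟩
  rw [← card_trace_two h2]
  have e : {B : SL2 // (B : Matrix (Fin 2) (Fin 2) F).trace = 2} ≃
      Option ({h : SL2 // IsConj (u 1) h} ⊕ {h : SL2 // IsConj (u ν) h}) :=
    { toFun := fun B => if h : B.1 = 1 then none else
        if hc : IsConj (u 1) B.1 then some (Sum.inl ⟨B.1, hc⟩)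
        else some (Sum.inr ⟨B.1, (cases_conj h2 hν B.1 h B.2).resolve_left hc⟩)
      invFun := fun x => match x with
        | none => ⟨1, by rw [Matrix.SpecialLinearGroup.coe_one, Matrix.trace_one, Fintype.card_fin]; norm_num⟩
        | some (Sum.inl B) => ⟨B.1, by rw [← trace_eq_of_isConj B.2, trace_u]⟩
        | some (Sum.inr B) => ⟨B.1, by rw [← trace_eq_of_isConj B.2, trace_u]⟩
      left_inv := by
        intro B
        by_cases h : B.1 = 1
        · simp only [dif_pos h]
          exact Subtype.ext h.symm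
        · by_cases hc : IsConj (u 1) B.1
          · simp only [dif_neg h, dif_pos hc]
          · simp only [dif_neg h, dif_neg hc]
      right_inv := by
        intro x
        rcases x with _ | B | B
        · simp
        · have hB : B.1 ≠ 1 := ne_one_of_isConj B.2 (u_ne_one one_ne_zero)
          simp only [dif_neg hB, dif_pos B.2]
        · have hB : B.1 ≠ 1 := ne_one_of_isConj B.2 (u_ne_one hν0)
          have hc : ¬ IsConj (u 1) B.1 := fun hc => not_conj hν (hc.trans B.2.symm)
          simp only [dif_neg hB, dif_neg hc] }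
  rw [Nat.card_congr e]
  simp only [Nat.card_eq_fintype_card, Fintype.card_option, Fintype.card_sum]
  omega

end Final

/-- Over a finite field with q elements of odd characteristic p, the elements of order p of SL₂ (the non-identity unipotent elements) fall into exactly two conjugacy classes, each of size (q² − 1)/2; two upper unitriangular matrices with non-zero off-diagonal entries b and b′ are conjugate exactly when bb′ is a square. -/
theorem result {F : Type*} [Field F] [Fintype F] (p : ℕ) [Fact p.Prime] [CharP F p] (hp : p ≠ 2) :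
    Nat.card {C : ConjClasses (Matrix.SpecialLinearGroup (Fin 2) F) // ∃ g : Matrix.SpecialLinearGroup (Fin 2) F, orderOf g = p ∧ ConjClasses.mk g = C} = 2 ∧
    (∀ g : Matrix.SpecialLinearGroup (Fin 2) F, orderOf g = p → Nat.card (ConjClasses.mk g).carrier = (Fintype.card F ^ 2 - 1) / 2) ∧
    ∀ g h : Matrix.SpecialLinearGroup (Fin 2) F, (g : Matrix (Fin 2) (Fin 2) F) 0 0 = 1 → (g : Matrix (Fin 2) (Fin 2) F) 1 1 = 1 → (g : Matrix (Fin 2) (Fin 2) F) 1 0 = 0 → (g : Matrix (Fin 2) (Fin 2) F) 0 1 ≠ 0 →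
      (h : Matrix (Fin 2) (Fin 2) F) 0 0 = 1 → (h : Matrix (Fin 2) (Fin 2) F) 1 1 = 1 → (h : Matrix (Fin 2) (Fin 2) F) 1 0 = 0 → (h : Matrix (Fin 2) (Fin 2) F) 0 1 ≠ 0 →
      (IsConj g h ↔ IsSquare ((g : Matrix (Fin 2) (Fin 2) F) 0 1 * (h : Matrix (Fin 2) (Fin 2) F) 0 1)) := by
  classical
  have hchar : ringChar F ≠ 2 := by
    rw [ringChar.eq F p]
    exact hp
  have h2 : (2 : F) ≠ 0 := Ring.two_ne_zero hchar
  obtain ⟨ν, hν⟩ := FiniteField.exists_nonsquare hchar
  have hν0 : ν ≠ 0 := by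
    rintro rfl
    exact hν ⟨0, by simp⟩
  have hcard := card_classes h2 hν
  rw [card_conj_twist hν0] at hcard
  have hcarrier : ∀ g : Matrix.SpecialLinearGroup (Fin 2) F,
      Nat.card (ConjClasses.mk g).carrier =
        Nat.card {h : Matrix.SpecialLinearGroup (Fin 2) F // IsConj g h} := by
    intro g
    apply Nat.card_congr
    refine Equiv.subtypeEquivRight (fun h => ?_)
    rw [ConjClasses.mem_carrier_iff_mk_eq, ConjClasses.mk_eq_mk_iff_isConj]
    exact ⟨IsConj.symm, IsConj.symm⟩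
  have hcongr : ∀ g g' : Matrix.SpecialLinearGroup (Fin 2) F, IsConj g g' →
      Nat.card {h : Matrix.SpecialLinearGroup (Fin 2) F // IsConj g' h} =
        Nat.card {h : Matrix.SpecialLinearGroup (Fin 2) F // IsConj g h} := by
    intro g g' hc
    apply Nat.card_congr
    refine Equiv.subtypeEquivRight (fun h => ?_)
    exact ⟨fun h' => hc.trans h', fun h' => hc.symm.trans h'⟩
  refine ⟨?_, ?_, ?_⟩
  · rw [Nat.card_eq_two_iff]
    refine ⟨⟨ConjClasses.mk (u 1), u 1, orderOf_eq_of_trace p _ (u_ne_one one_ne_zero) (trace_u 1),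
      rfl⟩, ⟨ConjClasses.mk (u ν), u ν, orderOf_eq_of_trace p _ (u_ne_one hν0) (trace_u ν), rfl⟩,
      ?_, ?_⟩
    · intro h
      have := congrArg Subtype.val h
      simp only at this
      rw [ConjClasses.mk_eq_mk_iff_isConj] at this
      exact not_conj hν this
    · rw [Set.eq_univ_iff_forall]
      rintro ⟨C, g, hg, rfl⟩
      have hg1 : g ≠ 1 := by
        rintro rfl
        rw [orderOf_one] at hg
        exact (Fact.out : p.Prime).one_lt.ne hg
      rcases cases_conj h2 hν g hg1 (trace_eq_two_of_orderOf p g hg) with hc | hc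
      · left
        apply Subtype.ext
        exact (ConjClasses.mk_eq_mk_iff_isConj.2 hc).symm
      · right
        rw [Set.mem_singleton_iff]
        apply Subtype.ext
        exact (ConjClasses.mk_eq_mk_iff_isConj.2 hc).symm
  · intro g hg
    have hg1 : g ≠ 1 := by
      rintro rfl
      rw [orderOf_one] at hg
      exact (Fact.out : p.Prime).one_lt.ne hg
    rw [hcarrier]
    rcases cases_conj h2 hν g hg1 (trace_eq_two_of_orderOf p g hg) with hc | hc
    · rw [hcongr _ _ hc]
      omega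
    · rw [hcongr _ _ hc, card_conj_twist hν0]
      omega
  · intro g h g00 g11 g10 g01 h00 h11 h10 h01
    have hg : g = u ((g : Matrix (Fin 2) (Fin 2) F) 0 1) := by
      apply Subtype.ext
      rw [coe_U]
      ext i j
      fin_cases i <;> fin_cases j <;> simp [g00, g11, g10]
    have hh : h = u ((h : Matrix (Fin 2) (Fin 2) F) 0 1) := by
      apply Subtype.ext
      rw [coe_U]
      ext i j
      fin_cases i <;> fin_cases j <;> simp [h00, h11, h10]
    constructor
    · intro hc
      rw [hg, hh] at hc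
      exact isSquare_of_U_conj 1 (one_mul 1) g01 h01 hc
    · intro hs
      rw [hg, hh]
      exact U_conj_of_isSquare 1 (one_mul 1) g01 h01 hs

end Cfsg.Agent.S2301
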