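import Cfsg.Statements.S2508
import Mathlib
import Cfsg.Agent.H9.ClassSize
import Cfsg.Agent.H9.CentralQuot
import Cfsg.Agent.H9.SL2OddCls
import Cfsg.Agent.S2507
import Cfsg.Agent.S2325
import Cfsg.Agent.S2301

set_option autoImplicit false
open Cfsg

namespace Cfsg.Agent.S2508

open Matrix Finset Cfsg.Agent.H9.ClassSize Cfsg.Agent.H9.CentralQuot Cfsg.Agent.H9.SL2OddCls
  Cfsg.Agent.H9.Mat2

section Roots

variable {F : Type*} [Field F] [Fintype F] [DecidableEq F]

/-- number of roots of `X² - tX + 1` -/
def r (t : F) : ℕ := (univ.filter (fun a : F => a * (t - a) = 1)).card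

theorem r_eq_of_root {t a : F} (ht : t ^ 2 ≠ 4) (ha : a * (t - a) = 1) : r t = 2 := by
  unfold r
  have hne : a ≠ t - a := by
    intro h
    apply ht
    have h1 : t = 2 * a := by linear_combination -h
    rw [← h] at ha
    rw [h1]
    linear_combination 4 * ha
  have : univ.filter (fun b : F => b * (t - b) = 1) = {a, t - a} := by
    ext b
    simp only [mem_filter, mem_univ, true_and, mem_insert, mem_singleton]
    constructor
    · intro hb
      have : (b - a) * (b - (t - a)) = 0 := by linear_combination ha - hb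
      rcases mul_eq_zero.1 this with h | h
      · left; exact sub_eq_zero.1 h
      · right; exact sub_eq_zero.1 h
    · rintro (rfl | rfl)
      · exact ha
      · linear_combination ha
  rw [this, card_pair hne]

theorem r_cases {t : F} (ht : t ^ 2 ≠ 4) : r t = 0 ∨ r t = 2 := by
  by_cases h : ∃ a : F, a * (t - a) = 1
  · obtain ⟨a, ha⟩ := h
    right
    exact r_eq_of_root ht ha
  · left
    unfold r
    rw [card_eq_zero]
    ext a
    simp only [mem_filter, mem_univ, true_and, notMem_empty, iff_false]
    exact fun ha => h ⟨a, ha⟩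

theorem four_ne_zero_of_odd (hodd : Fintype.card F % 2 = 1) : (4 : F) ≠ 0 := by
  have h2 := Cfsg.Agent.S2325.two_ne_zero_of_odd hodd
  have : (4 : F) = 2 * 2 := by norm_num
  rw [this]
  exact mul_ne_zero h2 h2

theorem r_zero (hodd : Fintype.card F % 2 = 1) :
    r (0 : F) = if Fintype.card F % 4 = 1 then 2 else 0 := by
  have h4 := four_ne_zero_of_odd hodd
  have h04 : (0 : F) ^ 2 ≠ 4 := by
    rw [zero_pow two_ne_zero]
    exact h4.symm
  have hsq := FiniteField.isSquare_neg_one_iff (F := F)
  by_cases h : Fintype.card F % 4 = 1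
  · rw [if_pos h]
    have : IsSquare (-1 : F) := hsq.2 (by omega)
    obtain ⟨a, ha⟩ := this
    exact r_eq_of_root h04 (a := a) (by linear_combination ha)
  · rw [if_neg h]
    rcases r_cases h04 with h0 | h2
    · exact h0
    · exfalso
      have h3 : Fintype.card F % 4 = 3 := by omega
      have hpos : 0 < r (0 : F) := by omega
      unfold r at hpos
      rw [card_pos] at hpos
      obtain ⟨a, ha⟩ := hpos
      rw [mem_filter] at ha
      exact (hsq.1 ⟨a, by linear_combination ha.2⟩) h3

theorem exists_split (hodd : Fintype.card F % 2 = 1) (h7 : 7 ≤ Fintype.card F) :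
    ∃ t : F, t ≠ 0 ∧ t ^ 2 ≠ 4 ∧ r t = 2 := by
  have h4 := four_ne_zero_of_odd hodd
  have h04 : (0 : F) ^ 2 ≠ 4 := by
    rw [zero_pow two_ne_zero]
    exact h4.symm
  -- the bad set
  have hbad : (({0, 1, -1} : Finset F) ∪ univ.filter (fun a : F => a * (0 - a) = 1)).card < 
      Fintype.card F := by
    have h1 : ({0, 1, -1} : Finset F).card ≤ 3 := card_le_three
    have h2 : (univ.filter (fun a : F => a * (0 - a) = 1)).card ≤ 2 := by
      rcases r_cases h04 with h | h <;> unfold r at h <;> omega
    have := card_union_le ({0, 1, -1} : Finset F) (univ.filter (fun a : F => a * (0 - a) = 1))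
    omega
  obtain ⟨a, -, ha⟩ : ∃ a ∈ (univ : Finset F),
      a ∉ (({0, 1, -1} : Finset F) ∪ univ.filter (fun a : F => a * (0 - a) = 1)) :=
    exists_mem_notMem_of_card_lt_card (by rwa [card_univ])
  simp only [mem_union, mem_insert, mem_singleton, mem_filter, mem_univ, true_and, not_or] at ha
  obtain ⟨⟨ha0, ha1, ha2⟩, ha3⟩ := ha
  refine ⟨a + a⁻¹, ?_, ?_, ?_⟩
  · intro h
    apply ha3
    field_simp at h
    linear_combination -h
  · intro h
    have : (a - 1) * (a + 1) = 0 := by
      field_simp at h
      have h' : (a ^ 2 - 1) ^ 2 = 0 := by linear_combination h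
      have := pow_eq_zero_iff (two_ne_zero) |>.1 h'
      linear_combination this
    rcases mul_eq_zero.1 this with h' | h'
    · exact ha1 (sub_eq_zero.1 h')
    · exact ha2 (eq_neg_of_add_eq_zero_left h')
  · have hroot : a * (a + a⁻¹ - a) = 1 := by
      rw [add_sub_cancel_left, mul_inv_cancel₀ ha0]
    by_contra hne
    have h42 : (a + a⁻¹) ^ 2 ≠ 4 := by
      intro h
      have : (a - 1) * (a + 1) = 0 := by
        field_simp at h
        have h' : (a ^ 2 - 1) ^ 2 = 0 := by linear_combination h
        have := pow_eq_zero_iff (two_ne_zero) |>.1 h'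
        linear_combination this
      rcases mul_eq_zero.1 this with h' | h'
      · exact ha1 (sub_eq_zero.1 h')
      · exact ha2 (eq_neg_of_add_eq_zero_left h')
    exact hne (r_eq_of_root h42 hroot)

theorem sum_r : ∑ t : F, r t = Fintype.card F - 1 := by
  have h := Finset.card_eq_sum_card_fiberwise (s := (univ : Finset F).erase 0) (t := univ)
    (f := fun a => a + a⁻¹) (fun _ _ => mem_univ _)
  rw [card_erase_of_mem (mem_univ _), card_univ] at h
  rw [h]
  refine sum_congr rfl (fun t _ => ?_)
  unfold r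
  congr 1
  ext a
  simp only [mem_filter, mem_erase, mem_univ, and_true, true_and]
  constructor
  · intro ha
    have ha0 : a ≠ 0 := by
      rintro rfl
      simp at ha
    refine ⟨ha0, ?_⟩
    field_simp
    linear_combination -ha
  · rintro ⟨ha0, rfl⟩
    rw [add_sub_cancel_left, mul_inv_cancel₀ ha0]

theorem exists_nonsplit (h7 : 7 ≤ Fintype.card F) :
    ∃ t : F, t ≠ 0 ∧ t ^ 2 ≠ 4 ∧ r t = 0 := by
  by_contra hcon
  push Not at hcon
  have h2 : ∀ t ∈ (univ : Finset F) \ {0, 2, -2}, r t = 2 := by
    intro t ht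
    simp only [mem_sdiff, mem_univ, mem_insert, mem_singleton, true_and, not_or] at ht
    have ht4 : t ^ 2 ≠ 4 := by
      intro h
      have : (t - 2) * (t + 2) = 0 := by linear_combination h
      rcases mul_eq_zero.1 this with h' | h'
      · exact ht.2.1 (sub_eq_zero.1 h')
      · exact ht.2.2 (eq_neg_of_add_eq_zero_left h')
    rcases r_cases ht4 with h | h
    · exact absurd h (hcon t ht.1 ht4)
    · exact h
  have hsum := sum_r (F := F)
  have hle : ∑ t ∈ (univ : Finset F) \ {0, 2, -2}, r t ≤ ∑ t : F, r t :=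
    sum_le_sum_of_subset (subset_univ _)
  rw [sum_congr rfl h2, sum_const, smul_eq_mul, hsum] at hle
  have hc : Fintype.card F - 3 ≤ ((univ : Finset F) \ {0, 2, -2}).card := by
    rw [card_sdiff_of_subset (subset_univ _), card_univ]
    have : ({0, 2, -2} : Finset F).card ≤ 3 := card_le_three
    omega
  have : (Fintype.card F - 3) * 2 ≤ ((univ : Finset F) \ {0, 2, -2}).card * 2 :=
    Nat.mul_le_mul_right 2 hc
  omega

end Roots

section SL

variable {F : Type*} [Field F] [Fintype F]

local notation "SL2" => Matrix.SpecialLinearGroup (Fin 2) F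

local notation "negOne" => (Cfsg.Agent.S2325.negOne : Matrix.SpecialLinearGroup (Fin 2) F)

theorem coe_negOne : ((negOne : SL2) : Matrix (Fin 2) (Fin 2) F) = -1 := by
  unfold Cfsg.Agent.S2325.negOne
  rw [coe_U]
  ext i j
  fin_cases i <;> fin_cases j <;> simp

theorem coe_negOne_mul (g : SL2) :
    ((negOne * g : SL2) : Matrix (Fin 2) (Fin 2) F) = -(g : Matrix (Fin 2) (Fin 2) F) := by
  rw [Matrix.SpecialLinearGroup.coe_mul, coe_negOne, neg_one_mul]

theorem trace_negOne_mul (g : SL2) :
    ((negOne * g : SL2) : Matrix (Fin 2) (Fin 2) F).trace =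
      -(g : Matrix (Fin 2) (Fin 2) F).trace := by
  rw [coe_negOne_mul, Matrix.trace_neg]

theorem negOne_mem_center : (negOne : SL2) ∈ Subgroup.center SL2 := by
  rw [Subgroup.mem_center_iff]
  intro c
  exact Cfsg.Agent.S2325.negOne_comm c

theorem mem_center_iff' (x : SL2) : x ∈ Subgroup.center SL2 ↔ x = 1 ∨ x = negOne := by
  constructor
  · intro hx
    rw [Matrix.SpecialLinearGroup.mem_center_iff] at hx
    obtain ⟨a, ha, hx⟩ := hx
    rw [Fintype.card_fin] at ha
    have : a = 1 ∨ a = -1 := by
      rw [sq] at ha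
      exact mul_self_eq_one_iff.1 ha
    rcases this with rfl | rfl
    · left
      apply Subtype.ext
      rw [← hx, map_one, Matrix.SpecialLinearGroup.coe_one]
    · right
      apply Subtype.ext
      rw [← hx, coe_negOne, map_neg, map_one]
  · rintro (rfl | rfl)
    · exact Subgroup.one_mem _
    · exact negOne_mem_center

theorem negOne_mul_negOne : (negOne : SL2) * negOne = 1 := by
  apply Subtype.ext
  rw [coe_negOne_mul, coe_negOne, neg_neg, Matrix.SpecialLinearGroup.coe_one]

theorem nonscalar_negOne_mul {g : SL2}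
    (hns : ¬ ∃ a : F, (g : Matrix (Fin 2) (Fin 2) F) = a • (1 : Matrix (Fin 2) (Fin 2) F)) :
    ¬ ∃ a : F, ((negOne * g : SL2) : Matrix (Fin 2) (Fin 2) F) =
      a • (1 : Matrix (Fin 2) (Fin 2) F) := by
  rintro ⟨a, ha⟩
  apply hns
  refine ⟨-a, ?_⟩
  rw [coe_negOne_mul] at ha
  rw [neg_smul, ← ha, neg_neg]

theorem index_reg [DecidableEq F] (hodd : Fintype.card F % 2 = 1) (g : SL2)
    (hns : ¬ ∃ a : F, (g : Matrix (Fin 2) (Fin 2) F) = a • (1 : Matrix (Fin 2) (Fin 2) F))
    (ht : (g : Matrix (Fin 2) (Fin 2) F).trace ^ 2 ≠ 4) :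
    (Subgroup.centralizer ({g} : Set SL2)).index =
      Fintype.card F * (Fintype.card F - 1) +
        Fintype.card F * r (g : Matrix (Fin 2) (Fin 2) F).trace := by
  have h2 := Cfsg.Agent.S2325.two_ne_zero_of_odd hodd
  rw [index_centralizer_eq_card_conj, r, ← Cfsg.Agent.S2507.card_trace]
  apply Nat.card_congr
  refine Equiv.subtypeEquivRight (fun h => ?_)
  constructor
  · intro hc
    exact (Cfsg.Agent.S2325.trace_eq_of_isConj hc).symm
  · intro hh
    refine isConj_of_trace_eq hodd g h hns ?_ hh.symm (by rw [hh]; exact ht)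
    rintro ⟨a, ha⟩
    apply ht
    have hdet := h.2
    rw [ha, Matrix.det_smul, Matrix.det_one, mul_one, Fintype.card_fin] at hdet
    rw [← hh, ha, Matrix.trace_smul, Matrix.trace_one, Fintype.card_fin, smul_eq_mul]
    push_cast
    linear_combination 4 * hdet

theorem index_unip_one (hodd : Fintype.card F % 2 = 1) (g : SL2) (h1 : g ≠ 1)
    (ht : (g : Matrix (Fin 2) (Fin 2) F).trace = 2) :
    (Subgroup.centralizer ({g} : Set SL2)).index = (Fintype.card F ^ 2 - 1) / 2 := by
  obtain ⟨p, hp⟩ := CharP.exists F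
  have hpp : p.Prime := by
    rcases CharP.char_is_prime_or_zero F p with h | h
    · exact h
    · exfalso
      subst h
      have := CharP.charP_to_charZero F
      exact not_finite F
  have : Fact p.Prime := ⟨hpp⟩
  have hp2 : p ≠ 2 := by
    rintro rfl
    have := FiniteField.even_card_of_char_two (F := F) (ringChar.eq F 2)
    omega
  have hres := (Cfsg.Agent.S2301.result (F := F) p hp2).2.1 g
    (Cfsg.Agent.S2301.orderOf_eq_of_trace p g h1 ht)
  rw [index_centralizer_eq_card_conj, ← hres]
  apply Nat.card_congr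
  refine Equiv.subtypeEquivRight (fun h => ?_)
  rw [ConjClasses.mem_carrier_iff_mk_eq, ConjClasses.mk_eq_mk_iff_isConj]
  exact ⟨IsConj.symm, IsConj.symm⟩

theorem index_unip (hodd : Fintype.card F % 2 = 1) (g : SL2)
    (hns : ¬ ∃ a : F, (g : Matrix (Fin 2) (Fin 2) F) = a • (1 : Matrix (Fin 2) (Fin 2) F))
    (ht : (g : Matrix (Fin 2) (Fin 2) F).trace ^ 2 = 4) :
    (Subgroup.centralizer ({g} : Set SL2)).index = (Fintype.card F ^ 2 - 1) / 2 := by
  rcases Cfsg.Agent.S2325.sq_eq_four_cases (not_not.2 ht) with h | h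
  · refine index_unip_one hodd g ?_ h
    rintro rfl
    apply hns
    exact ⟨1, by rw [one_smul, Matrix.SpecialLinearGroup.coe_one]⟩
  · rw [← centralizer_mul_central negOne negOne_mem_center g]
    refine index_unip_one hodd _ ?_ ?_
    · intro h1
      apply nonscalar_negOne_mul hns
      exact ⟨1, by rw [h1, one_smul, Matrix.SpecialLinearGroup.coe_one]⟩
    · rw [trace_negOne_mul, h, neg_neg]

end SL

section PSL

variable {F : Type*} [Field F] [Fintype F]

local notation "SL2" => Matrix.SpecialLinearGroup (Fin 2) F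

local notation "PSL2" => Matrix.ProjectiveSpecialLinearGroup (Fin 2) F

local notation "negOne" => (Cfsg.Agent.S2325.negOne : Matrix.SpecialLinearGroup (Fin 2) F)

/-- class size in `PSL₂` -/
noncomputable def idx (x : PSL2) : ℕ := (Subgroup.centralizer ({x} : Set PSL2)).index

/-- the projection -/
def proj (g : SL2) : PSL2 := QuotientGroup.mk g

theorem proj_surjective : Function.Surjective (proj : SL2 → PSL2) := QuotientGroup.mk_surjective

theorem card_center (hodd : Fintype.card F % 2 = 1) : Nat.card (Subgroup.center SL2) = 2 :=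
  card_eq_two (Subgroup.center SL2) negOne
    (Cfsg.Agent.S2325.one_ne_negOne (Cfsg.Agent.S2325.two_ne_zero_of_odd hodd)).symm
    mem_center_iff'

theorem idx_scalar (g : SL2) (hg : g = 1 ∨ g = negOne) : idx (proj g) = 1 := by
  have : proj g = 1 := by
    unfold proj
    rw [QuotientGroup.eq_one_iff, mem_center_iff']
    exact hg
  rw [this]
  unfold idx
  rw [Subgroup.index_eq_one]
  rw [eq_top_iff]
  intro c _
  rw [Subgroup.mem_centralizer_iff]
  intro h hh
  rw [Set.mem_singleton_iff] at hh
  rw [hh, one_mul, mul_one]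

theorem not_conj_of_trace_ne (hodd : Fintype.card F % 2 = 1) (g : SL2)
    (ht : (g : Matrix (Fin 2) (Fin 2) F).trace ≠ 0) : ¬ IsConj g (negOne * g) := by
  intro hc
  have h2 := Cfsg.Agent.S2325.two_ne_zero_of_odd hodd
  have := Cfsg.Agent.S2325.trace_eq_of_isConj hc
  rw [trace_negOne_mul] at this
  apply ht
  have h' : 2 * (g : Matrix (Fin 2) (Fin 2) F).trace = 0 := by linear_combination this
  rcases mul_eq_zero.1 h' with h | h
  · exact absurd h h2
  · exact h

theorem nonscalar_of_trace_zero (hodd : Fintype.card F % 2 = 1) (g : SL2)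
    (ht : (g : Matrix (Fin 2) (Fin 2) F).trace = 0) :
    ¬ ∃ a : F, (g : Matrix (Fin 2) (Fin 2) F) = a • (1 : Matrix (Fin 2) (Fin 2) F) := by
  have h2 := Cfsg.Agent.S2325.two_ne_zero_of_odd hodd
  rintro ⟨a, ha⟩
  have hdet := g.2
  rw [ha, Matrix.det_smul, Matrix.det_one, mul_one, Fintype.card_fin] at hdet
  rw [ha, Matrix.trace_smul, Matrix.trace_one, Fintype.card_fin, smul_eq_mul] at ht
  push_cast at ht
  rcases mul_eq_zero.1 ht with h | h
  · rw [h] at hdet
    simp at hdet
  · exact h2 h

theorem conj_of_trace_zero (hodd : Fintype.card F % 2 = 1) (g : SL2)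
    (ht : (g : Matrix (Fin 2) (Fin 2) F).trace = 0) : IsConj g (negOne * g) := by
  classical
  have h4 := four_ne_zero_of_odd hodd
  have hns := nonscalar_of_trace_zero hodd g ht
  refine isConj_of_trace_eq hodd g (negOne * g) hns (nonscalar_negOne_mul hns) ?_ ?_
  · rw [trace_negOne_mul, ht, neg_zero]
  · rw [trace_negOne_mul, ht, neg_zero, zero_pow two_ne_zero]
    exact h4.symm

theorem idx_of_trace_ne (hodd : Fintype.card F % 2 = 1) (g : SL2)
    (ht : (g : Matrix (Fin 2) (Fin 2) F).trace ≠ 0) :
    idx (proj g) = (Subgroup.centralizer ({g} : Set SL2)).index := by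
  have h := index_mk_of_not_conj (Subgroup.center SL2) negOne negOne_mem_center mem_center_iff' g
    (not_conj_of_trace_ne hodd g ht)
  rw [card_center hodd] at h
  exact Nat.eq_of_mul_eq_mul_left two_pos h

theorem idx_of_trace_eq (hodd : Fintype.card F % 2 = 1) (g : SL2)
    (ht : (g : Matrix (Fin 2) (Fin 2) F).trace = 0) :
    2 * idx (proj g) = (Subgroup.centralizer ({g} : Set SL2)).index := by
  have h := index_mk_of_conj (Subgroup.center SL2) negOne negOne_mem_center mem_center_iff' g
    (conj_of_trace_zero hodd g ht)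
  rw [card_center hodd] at h
  exact h

/-- companion element of trace `t` -/
def cm (t : F) : SL2 := ⟨comp t 1, det_comp t 1⟩

theorem trace_cm (t : F) : ((cm t : SL2) : Matrix (Fin 2) (Fin 2) F).trace = t := trace_comp t 1

theorem cm_nonscalar (t : F) :
    ¬ ∃ a : F, ((cm t : SL2) : Matrix (Fin 2) (Fin 2) F) = a • (1 : Matrix (Fin 2) (Fin 2) F) :=
  comp_not_scalar t 1

theorem arith1 (q : ℕ) (hq : 1 ≤ q) : q * (q - 1) + q * 2 = q * (q + 1) := by
  obtain ⟨k, rfl⟩ : ∃ k, q = k + 1 := ⟨q - 1, by omega⟩
  rw [Nat.add_sub_cancel]; ring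

/-- the list of class sizes, in terms of `r 0` -/
theorem range_idx [DecidableEq F] (hodd : Fintype.card F % 2 = 1) (h7 : 7 ≤ Fintype.card F) :
    Set.range (idx : PSL2 → ℕ) =
      {1, (Fintype.card F ^ 2 - 1) / 2,
        (Fintype.card F * (Fintype.card F - 1) + Fintype.card F * r (0 : F)) / 2,
        Fintype.card F * (Fintype.card F - 1), Fintype.card F * (Fintype.card F + 1)} := by
  have h4 := four_ne_zero_of_odd (F := F) hodd
  have hq1 : 1 ≤ Fintype.card F := by omega
  ext n
  simp only [Set.mem_range, Set.mem_insert_iff, Set.mem_singleton_iff]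
  constructor
  · rintro ⟨x, rfl⟩
    obtain ⟨g, rfl⟩ := proj_surjective x
    by_cases hsc : g = 1 ∨ g = negOne
    · left
      exact idx_scalar g hsc
    · have hns := Cfsg.Agent.S2325.nonscalar_of_ne (fun h => hsc (Or.inl h))
        (fun h => hsc (Or.inr h))
      by_cases ht0 : (g : Matrix (Fin 2) (Fin 2) F).trace = 0
      · right; right; left
        have h := idx_of_trace_eq hodd g ht0
        rw [index_reg hodd g hns (by rw [ht0, zero_pow two_ne_zero]; exact h4.symm), ht0] at h
        omega
      · rw [idx_of_trace_ne hodd g ht0]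
        by_cases ht4 : (g : Matrix (Fin 2) (Fin 2) F).trace ^ 2 = 4
        · right; left
          exact index_unip hodd g hns ht4
        · rw [index_reg hodd g hns ht4]
          rcases r_cases ht4 with h | h
          · right; right; right; left
            rw [h, mul_zero, add_zero]
          · right; right; right; right
            rw [h, arith1 _ hq1]
  · rintro (rfl | rfl | rfl | rfl | rfl)
    · exact ⟨proj 1, idx_scalar 1 (Or.inl rfl)⟩
    · refine ⟨proj (U 1 (one_mul 1) 1), ?_⟩
      have htr : ((U 1 (one_mul 1) 1 : SL2) : Matrix (Fin 2) (Fin 2) F).trace = 2 := by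
        rw [Cfsg.Agent.S2325.tr_U, mul_one]
      have h2 := Cfsg.Agent.S2325.two_ne_zero_of_odd hodd
      rw [idx_of_trace_ne hodd _ (by rw [htr]; exact h2)]
      refine index_unip_one hodd _ ?_ htr
      exact Cfsg.Agent.S2325.U_ne_one 1 (one_mul 1) one_ne_zero
    · refine ⟨proj (cm 0), ?_⟩
      have h := idx_of_trace_eq hodd (cm (0 : F)) (trace_cm 0)
      rw [index_reg hodd _ (cm_nonscalar 0)
        (by rw [trace_cm, zero_pow two_ne_zero]; exact h4.symm), trace_cm] at h
      omega
    · obtain ⟨t, ht0, ht4, hr⟩ := exists_nonsplit (F := F) h7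
      refine ⟨proj (cm t), ?_⟩
      rw [idx_of_trace_ne hodd _ (by rw [trace_cm]; exact ht0),
        index_reg hodd _ (cm_nonscalar t) (by rw [trace_cm]; exact ht4), trace_cm, hr, mul_zero,
        add_zero]
    · obtain ⟨t, ht0, ht4, hr⟩ := exists_split (F := F) hodd h7
      refine ⟨proj (cm t), ?_⟩
      rw [idx_of_trace_ne hodd _ (by rw [trace_cm]; exact ht0),
        index_reg hodd _ (cm_nonscalar t) (by rw [trace_cm]; exact ht4), trace_cm, hr,
        arith1 _ hq1]

end PSL

/-- Let F be a finite field with q elements, q odd and q ≥ 7. If q ≡ 1 (mod 4) the conjugacy class sizes of PSL(2,F) are exactly 1, (q² − 1)/2, q(q + 1)/2, q(q − 1) and q(q + 1); if q ≡ 3 (mod 4) they are exactly 1, (q² − 1)/2, q(q − 1)/2, q(q + 1) and q(q − 1). -/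
theorem result {F : Type*} [Field F] [Fintype F]
    (hodd : ¬ 2 ∣ Fintype.card F) (h7 : 7 ≤ Fintype.card F) :
    (Fintype.card F % 4 = 1 →
      Set.range (fun g : (Matrix.ProjectiveSpecialLinearGroup (Fin 2) F) => (Subgroup.centralizer ({g} : Set (Matrix.ProjectiveSpecialLinearGroup (Fin 2) F))).index) =
        {1, (Fintype.card F ^ 2 - 1) / 2, Fintype.card F * (Fintype.card F + 1) / 2,
          Fintype.card F * (Fintype.card F - 1), Fintype.card F * (Fintype.card F + 1)}) ∧
    (Fintype.card F % 4 = 3 →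
      Set.range (fun g : (Matrix.ProjectiveSpecialLinearGroup (Fin 2) F) => (Subgroup.centralizer ({g} : Set (Matrix.ProjectiveSpecialLinearGroup (Fin 2) F))).index) =
        {1, (Fintype.card F ^ 2 - 1) / 2, Fintype.card F * (Fintype.card F - 1) / 2,
          Fintype.card F * (Fintype.card F + 1), Fintype.card F * (Fintype.card F - 1)}) := by
  classical
  have hodd' : Fintype.card F % 2 = 1 := by omega
  have hq1 : 1 ≤ Fintype.card F := by omega
  have hr := range_idx (F := F) hodd' h7
  unfold idx at hr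
  constructor
  · intro h41
    rw [hr, r_zero hodd', if_pos h41, arith1 _ hq1]
  · intro h43
    rw [hr, r_zero hodd', if_neg (by omega), mul_zero, add_zero]
    ext n
    simp only [Set.mem_insert_iff, Set.mem_singleton_iff]
    tauto

end Cfsg.Agent.S2508
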