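import Cfsg.Statements.S2428
import Cfsg.Agent.H9.Dicyclic
import Cfsg.Agent.H9.PSL2Spec
import Cfsg.Agent.Lib.Helper8.SL2Odd

set_option autoImplicit false
open Cfsg

namespace Cfsg.Agent.S2428

open Matrix
open Cfsg.Agent.Lib.Helper8.SL2Odd

variable {F : Type*} [Field F]

local notation "SL2" => Matrix.SpecialLinearGroup (Fin 2) F

theorem mul_entries (g h : SL2) (i j : Fin 2) :
    (g * h).1 i j = g.1 i 0 * h.1 0 j + g.1 i 1 * h.1 1 j := by
  change (g.1 * h.1) i j = _
  rw [Matrix.mul_apply, Fin.sum_univ_two]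

theorem inv_entries (g : SL2) :
    (g⁻¹).1 0 0 = g.1 1 1 ∧ (g⁻¹).1 0 1 = -g.1 0 1 ∧ (g⁻¹).1 1 0 = -g.1 1 0 ∧
      (g⁻¹).1 1 1 = g.1 0 0 := by
  have : (g⁻¹).1 = adjugate g.1 := Matrix.SpecialLinearGroup.coe_inv g
  rw [this, Matrix.adjugate_fin_two]
  simp

theorem ext_entries {g h : SL2} (h00 : g.1 0 0 = h.1 0 0) (h01 : g.1 0 1 = h.1 0 1)
    (h10 : g.1 1 0 = h.1 1 0) (h11 : g.1 1 1 = h.1 1 1) : g = h := by
  apply Subtype.ext
  ext i j
  fin_cases i <;> fin_cases j <;> assumption

/-- the diagonal subgroup -/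
def D : Subgroup SL2 where
  carrier := {g | g.1 0 1 = 0 ∧ g.1 1 0 = 0}
  one_mem' := by simp
  mul_mem' := by
    rintro g h ⟨g1, g2⟩ ⟨h1, h2⟩
    refine ⟨?_, ?_⟩
    · rw [mul_entries, g1, h1]; ring
    · rw [mul_entries, g2, h2]; ring
  inv_mem' := by
    rintro g ⟨g1, g2⟩
    obtain ⟨-, e01, e10, -⟩ := inv_entries g
    exact ⟨by rw [e01, g1, neg_zero], by rw [e10, g2, neg_zero]⟩

theorem mem_D (g : SL2) : g ∈ (D : Subgroup SL2) ↔ g.1 0 1 = 0 ∧ g.1 1 0 = 0 := Iff.rfl

theorem D_comm (g h : SL2) (hg : g ∈ (D : Subgroup SL2)) (hh : h ∈ (D : Subgroup SL2)) :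
    g * h = h * g := by
  obtain ⟨g1, g2⟩ := hg
  obtain ⟨h1, h2⟩ := hh
  apply ext_entries <;> simp only [mul_entries, g1, g2, h1, h2] <;> ring

theorem D_eq_range : (D : Subgroup SL2) = (Cfsg.Agent.H9.PSL2Spec.dg (F := F)).range := by
  ext g
  rw [mem_D, MonoidHom.mem_range]
  constructor
  · rintro ⟨g1, g2⟩
    have hdet := entries g
    rw [g1, zero_mul, sub_zero] at hdet
    have h0 : g.1 0 0 ≠ 0 := left_ne_zero_of_mul_eq_one hdet
    refine ⟨Units.mk0 _ h0, ?_⟩
    apply ext_entries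
    · simp [Cfsg.Agent.H9.PSL2Spec.coe_dg, Cfsg.Agent.H9.PSL2Spec.dgMat]
    · simp [Cfsg.Agent.H9.PSL2Spec.coe_dg, Cfsg.Agent.H9.PSL2Spec.dgMat, g1]
    · simp [Cfsg.Agent.H9.PSL2Spec.coe_dg, Cfsg.Agent.H9.PSL2Spec.dgMat, g2]
    · simp only [Cfsg.Agent.H9.PSL2Spec.coe_dg, Cfsg.Agent.H9.PSL2Spec.dgMat]
      simp only [Matrix.of_apply, Matrix.cons_val', Matrix.cons_val_one,
        Matrix.empty_val', Matrix.cons_val_fin_one, Units.val_inv_eq_inv_val, Units.val_mk0]
      exact (eq_inv_of_mul_eq_one_right hdet).symm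
  · rintro ⟨u, rfl⟩
    simp [Cfsg.Agent.H9.PSL2Spec.coe_dg, Cfsg.Agent.H9.PSL2Spec.dgMat]

theorem card_D [Fintype F] : Nat.card (D : Subgroup SL2) = Fintype.card F - 1 := by
  rw [D_eq_range]
  have hinj : Function.Injective (Cfsg.Agent.H9.PSL2Spec.dg (F := F)) := by
    intro u v huv
    have := congrArg (fun A : SL2 => A.1 0 0) huv
    simp [Cfsg.Agent.H9.PSL2Spec.coe_dg, Cfsg.Agent.H9.PSL2Spec.dgMat] at this
    exact Units.ext this
  rw [Nat.card_congr (MonoidHom.ofInjective hinj).symm.toEquiv, Nat.card_units,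
    Nat.card_eq_fintype_card]

/-- the monomial subgroup -/
def M : Subgroup SL2 where
  carrier := {g | (g.1 0 1 = 0 ∧ g.1 1 0 = 0) ∨ (g.1 0 0 = 0 ∧ g.1 1 1 = 0)}
  one_mem' := Or.inl (by simp)
  mul_mem' := by
    rintro g h (⟨g1, g2⟩ | ⟨g1, g2⟩) (⟨h1, h2⟩ | ⟨h1, h2⟩)
    · left
      exact ⟨by rw [mul_entries, g1, h1]; ring, by rw [mul_entries, g2, h2]; ring⟩
    · right
      exact ⟨by rw [mul_entries, g1, h1]; ring, by rw [mul_entries, g2, h2]; ring⟩
    · right
      exact ⟨by rw [mul_entries, g1, h2]; ring, by rw [mul_entries, g2, h1]; ring⟩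
    · left
      exact ⟨by rw [mul_entries, g1, h2]; ring, by rw [mul_entries, g2, h1]; ring⟩
  inv_mem' := by
    rintro g (⟨g1, g2⟩ | ⟨g1, g2⟩)
    · left
      obtain ⟨-, e01, e10, -⟩ := inv_entries g
      exact ⟨by rw [e01, g1, neg_zero], by rw [e10, g2, neg_zero]⟩
    · right
      obtain ⟨e00, -, -, e11⟩ := inv_entries g
      exact ⟨by rw [e00, g2], by rw [e11, g1]⟩

theorem mem_M (g : SL2) : g ∈ (M : Subgroup SL2) ↔
    (g.1 0 1 = 0 ∧ g.1 1 0 = 0) ∨ (g.1 0 0 = 0 ∧ g.1 1 1 = 0) := Iff.rfl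

theorem D_le_M : (D : Subgroup SL2) ≤ M := fun _ hg => Or.inl hg

/-- off-diagonal elements have square `-1` -/
theorem sq_of_anti (g : SL2) (g1 : g.1 0 0 = 0) (g2 : g.1 1 1 = 0) : (g * g).1 = -1 := by
  have hdet := entries g
  rw [g1, zero_mul, zero_sub] at hdet
  ext i j
  fin_cases i <;> fin_cases j
  · simp only [Fin.zero_eta, Fin.isValue, mul_entries, g1, Matrix.neg_apply, Matrix.one_apply_eq]
    linear_combination -hdet
  · simp [mul_entries, g1, g2]
  · simp [mul_entries, g1, g2]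
  · simp only [Fin.mk_one, Fin.isValue, mul_entries, g2, Matrix.neg_apply, Matrix.one_apply_eq]
    linear_combination -hdet

/-- off-diagonal monomial elements invert the diagonal subgroup -/
theorem anti_inverts (g a : SL2) (g1 : g.1 0 0 = 0) (g2 : g.1 1 1 = 0)
    (ha : a ∈ (D : Subgroup SL2)) : g * a * g⁻¹ = a⁻¹ := by
  obtain ⟨a1, a2⟩ := ha
  rw [mul_inv_eq_iff_eq_mul]
  obtain ⟨e00, e01, e10, e11⟩ := inv_entries a
  apply ext_entries <;> simp only [mul_entries, g1, g2, a1, a2, e00, e01, e10, e11] <;> ring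

theorem index_D_in_M : ((D : Subgroup SL2).subgroupOf M).index = 2 := by
  rw [Subgroup.index_eq_two_iff]
  have hwM : (w : SL2) ∈ (M : Subgroup SL2) := Or.inr (by simp [w])
  refine ⟨⟨w, hwM⟩, ?_⟩
  rintro ⟨b, hb⟩
  have e01 : (b * w).1 0 1 = -b.1 0 0 := by rw [mul_entries]; simp [w]
  have e10 : (b * w).1 1 0 = b.1 1 1 := by rw [mul_entries]; simp [w]
  have hdet := entries b
  rcases hb with ⟨b1, b2⟩ | ⟨b1, b2⟩
  · right
    refine ⟨?_, ?_⟩
    · rw [Subgroup.mem_subgroupOf]
      exact ⟨b1, b2⟩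
    · rw [Subgroup.mem_subgroupOf]
      rintro ⟨h1, -⟩
      change (b * w).1 0 1 = 0 at h1
      rw [e01, neg_eq_zero] at h1
      rw [h1, b1] at hdet
      simp at hdet
  · left
    refine ⟨?_, ?_⟩
    · rw [Subgroup.mem_subgroupOf]
      change (b * w).1 0 1 = 0 ∧ (b * w).1 1 0 = 0
      rw [e01, e10, b1, b2, neg_zero]
      exact ⟨rfl, rfl⟩
    · rw [Subgroup.mem_subgroupOf]
      rintro ⟨h1, -⟩
      change b.1 0 1 = 0 at h1
      rw [h1, b1] at hdet
      simp at hdet

theorem card_M [Fintype F] : Nat.card (M : Subgroup SL2) = 2 * (Fintype.card F - 1) := by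
  have h1 := ((D : Subgroup SL2).subgroupOf M).card_mul_index
  rw [index_D_in_M, Nat.card_congr (Subgroup.subgroupOfEquivOfLe D_le_M).toEquiv, card_D] at h1
  rw [← h1, mul_comm]

theorem card_conjClasses_M [Fintype F] (hodd : Odd (Fintype.card F)) :
    Nat.card (ConjClasses (M : Subgroup SL2)) = (Fintype.card F + 5) / 2 := by
  have h2 : (2 : F) ≠ 0 := two_ne_zero' hodd
  have hnegM : (-1 : SL2) ∈ (M : Subgroup SL2) := Or.inl (by simp)
  have key := Cfsg.Agent.H9.Dicyclic.two_mul_card_conjClasses (N := (M : Subgroup SL2))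
    ((D : Subgroup SL2).subgroupOf M) ⟨-1, hnegM⟩ ?_ ?_ ?_ ?_ ?_ index_D_in_M ?_
  · rw [Nat.card_congr (Subgroup.subgroupOfEquivOfLe D_le_M).toEquiv, card_D] at key
    have hq : 3 ≤ Fintype.card F := by
      have h1 : 1 < Fintype.card F := Fintype.one_lt_card
      rcases hodd with ⟨k, hk⟩
      omega
    omega
  · intro h
    have := congrArg (fun x : (M : Subgroup SL2) => x.1.1 0 0) h
    simp only [Matrix.SpecialLinearGroup.coe_neg, Matrix.SpecialLinearGroup.coe_one,
      Matrix.neg_apply, Matrix.one_apply_eq, Subgroup.coe_one] at this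
    apply h2
    linear_combination -this
  · rw [Subgroup.mem_subgroupOf]
    exact ⟨by simp, by simp⟩
  · apply Subtype.ext
    change (-1 : SL2) * (-1) = 1
    simp
  · rintro ⟨g, hg⟩ hgg
    have hgg' : g ^ 2 = 1 := by
      have := congrArg Subtype.val hgg
      rw [pow_two]
      exact this
    rcases eq_one_or_neg_one hodd g hgg' with h | h
    · left; exact Subtype.ext h
    · right; exact Subtype.ext h
  · rintro ⟨a, ha⟩ haD ⟨b, hb⟩ hbD
    rw [Subgroup.mem_subgroupOf] at haD hbD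
    exact Subtype.ext (D_comm a b haD hbD)
  · rintro ⟨g, hg⟩ hgD ⟨a, ha⟩ haD
    rw [Subgroup.mem_subgroupOf] at hgD haD
    rcases hg with hg | ⟨g1, g2⟩
    · exact absurd hg hgD
    · exact Subtype.ext (anti_inverts g a g1 g2 haD)

/-- Let F be a finite field with q elements, q odd, and let d be a diagonal element of SL₂ over F whose diagonal entry a has a² ≠ 1 (such d exist exactly when q > 3). Then the centraliser of d is precisely the diagonal subgroup T; the normaliser of T has order 2(q − 1) and exactly (q + 5)/2 conjugacy classes; and every element of that normaliser outside T has square equal to −1. -/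
theorem result {F : Type*} [Field F] [Fintype F] (hodd : Odd (Fintype.card F))
    (d : Matrix.SpecialLinearGroup (Fin 2) F) (hd01 : (d : Matrix (Fin 2) (Fin 2) F) 0 1 = 0) (hd10 : (d : Matrix (Fin 2) (Fin 2) F) 1 0 = 0) (hda : (d : Matrix (Fin 2) (Fin 2) F) 0 0 ^ 2 ≠ 1) :
    (∀ g : Matrix.SpecialLinearGroup (Fin 2) F, g ∈ Subgroup.centralizer ({d} : Set (Matrix.SpecialLinearGroup (Fin 2) F)) ↔ ((g : Matrix (Fin 2) (Fin 2) F) 0 1 = 0 ∧ (g : Matrix (Fin 2) (Fin 2) F) 1 0 = 0)) ∧
    Nat.card (Subgroup.normalizer ((Subgroup.centralizer ({d} : Set (Matrix.SpecialLinearGroup (Fin 2) F))) : Set (Matrix.SpecialLinearGroup (Fin 2) F))) = 2 * (Fintype.card F - 1) ∧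
    Nat.card (ConjClasses (Subgroup.normalizer ((Subgroup.centralizer ({d} : Set (Matrix.SpecialLinearGroup (Fin 2) F))) : Set (Matrix.SpecialLinearGroup (Fin 2) F)))) = (Fintype.card F + 5) / 2 ∧
    ∀ g : Matrix.SpecialLinearGroup (Fin 2) F, g ∈ Subgroup.normalizer ((Subgroup.centralizer ({d} : Set (Matrix.SpecialLinearGroup (Fin 2) F))) : Set (Matrix.SpecialLinearGroup (Fin 2) F)) →
      g ∉ Subgroup.centralizer ({d} : Set (Matrix.SpecialLinearGroup (Fin 2) F)) → ((g * g) : Matrix (Fin 2) (Fin 2) F) = -1 := by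
  have hdet := entries d
  rw [hd01, zero_mul, sub_zero] at hdet
  have hne : d.1 0 0 ≠ d.1 1 1 := by
    intro h
    apply hda
    rw [pow_two]
    nth_rewrite 2 [h]
    exact hdet
  have hne' : d.1 0 0 - d.1 1 1 ≠ 0 := sub_ne_zero.2 hne
  -- the centralizer is the diagonal subgroup
  have hT : Subgroup.centralizer ({d} : Set (Matrix.SpecialLinearGroup (Fin 2) F)) = D := by
    ext g
    rw [Subgroup.mem_centralizer_iff, mem_D]
    constructor
    · intro h
      have h1 := h d rfl
      have e01 := congrArg (fun A : Matrix.SpecialLinearGroup (Fin 2) F => A.1 0 1) h1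
      have e10 := congrArg (fun A : Matrix.SpecialLinearGroup (Fin 2) F => A.1 1 0) h1
      simp only [mul_entries, hd01, hd10] at e01 e10
      constructor
      · have : g.1 0 1 * (d.1 0 0 - d.1 1 1) = 0 := by linear_combination e01
        exact (mul_eq_zero.1 this).resolve_right hne'
      · have : g.1 1 0 * (d.1 0 0 - d.1 1 1) = 0 := by linear_combination -e10
        exact (mul_eq_zero.1 this).resolve_right hne'
    · rintro hg h rfl
      exact D_comm h g ⟨hd01, hd10⟩ hg
  -- its normalizer is the monomial subgroup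
  have hN : Subgroup.normalizer ((D : Subgroup (Matrix.SpecialLinearGroup (Fin 2) F)) :
      Set (Matrix.SpecialLinearGroup (Fin 2) F)) = M := by
    ext g
    constructor
    · intro hg
      have hdD : d ∈ (D : Subgroup (Matrix.SpecialLinearGroup (Fin 2) F)) := ⟨hd01, hd10⟩
      have he : g * d * g⁻¹ ∈ (D : Subgroup (Matrix.SpecialLinearGroup (Fin 2) F)) :=
        (Subgroup.mem_set_normalizer_iff.1 hg d).1 hdD
      set e := g * d * g⁻¹ with hedef
      have heg : e * g = g * d := by rw [hedef]; group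
      obtain ⟨e1, e2⟩ := he
      have c00 := congrArg (fun A : Matrix.SpecialLinearGroup (Fin 2) F => A.1 0 0) heg
      have c01 := congrArg (fun A : Matrix.SpecialLinearGroup (Fin 2) F => A.1 0 1) heg
      have c10 := congrArg (fun A : Matrix.SpecialLinearGroup (Fin 2) F => A.1 1 0) heg
      have c11 := congrArg (fun A : Matrix.SpecialLinearGroup (Fin 2) F => A.1 1 1) heg
      simp only [mul_entries, hd01, hd10, e1, e2] at c00 c01 c10 c11
      have hgdet := entries g
      rw [mem_M]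
      by_cases h00 : g.1 0 0 = 0
      · right
        refine ⟨h00, ?_⟩
        rw [h00, zero_mul, zero_sub] at hgdet
        have h01 : g.1 0 1 ≠ 0 := by
          intro h; rw [h, zero_mul, neg_zero] at hgdet; exact zero_ne_one hgdet
        have h10 : g.1 1 0 ≠ 0 := by
          intro h; rw [h, mul_zero, neg_zero] at hgdet; exact zero_ne_one hgdet
        -- e 0 0 = d 1 1, e 1 1 = d 0 0
        have he00 : e.1 0 0 = d.1 1 1 := by
          have : g.1 0 1 * (e.1 0 0 - d.1 1 1) = 0 := by linear_combination c01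
          exact sub_eq_zero.1 ((mul_eq_zero.1 this).resolve_left h01)
        have he11 : e.1 1 1 = d.1 0 0 := by
          have : g.1 1 0 * (e.1 1 1 - d.1 0 0) = 0 := by linear_combination c10
          exact sub_eq_zero.1 ((mul_eq_zero.1 this).resolve_left h10)
        have : g.1 1 1 * (d.1 0 0 - d.1 1 1) = 0 := by
          rw [he11] at c11
          linear_combination c11
        exact (mul_eq_zero.1 this).resolve_right hne'
      · left
        have he00 : e.1 0 0 = d.1 0 0 := by
          have : g.1 0 0 * (e.1 0 0 - d.1 0 0) = 0 := by linear_combination c00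
          exact sub_eq_zero.1 ((mul_eq_zero.1 this).resolve_left h00)
        have h01 : g.1 0 1 = 0 := by
          have : g.1 0 1 * (d.1 0 0 - d.1 1 1) = 0 := by
            rw [he00] at c01
            linear_combination c01
          exact (mul_eq_zero.1 this).resolve_right hne'
        refine ⟨h01, ?_⟩
        rw [h01, zero_mul, sub_zero] at hgdet
        have h11 : g.1 1 1 ≠ 0 := right_ne_zero_of_mul_eq_one hgdet
        have he11 : e.1 1 1 = d.1 1 1 := by
          have : g.1 1 1 * (e.1 1 1 - d.1 1 1) = 0 := by linear_combination c11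
          exact sub_eq_zero.1 ((mul_eq_zero.1 this).resolve_left h11)
        have : g.1 1 0 * (d.1 0 0 - d.1 1 1) = 0 := by
          rw [he11] at c10
          linear_combination -c10
        exact (mul_eq_zero.1 this).resolve_right hne'
    · intro hg
      apply Subgroup.mem_normalizer_fintype
      intro n hn
      rcases hg with hg | ⟨g1, g2⟩
      · exact Subgroup.mul_mem _ (Subgroup.mul_mem _ hg hn) (Subgroup.inv_mem _ hg)
      · rw [SetLike.mem_coe, anti_inverts g n g1 g2 hn]
        exact Subgroup.inv_mem _ hn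
  rw [hT, hN]
  refine ⟨fun g => mem_D g, card_M, card_conjClasses_M hodd, ?_⟩
  intro g hg hgD
  rcases hg with hg | ⟨g1, g2⟩
  · exact absurd hg hgD
  · exact sq_of_anti g g1 g2

end Cfsg.Agent.S2428
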