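import Cfsg.Statements.S2430
import Cfsg.Agent.H9.SylowTorus
import Cfsg.Agent.H9.NonsplitTorus

set_option autoImplicit false
open Cfsg

namespace Cfsg.Agent.S2430

open Matrix
open Cfsg.Agent.S2428 Cfsg.Agent.H9.NonsplitTorus Cfsg.Agent.Lib.Helper8.SL2Odd

variable {F : Type*} [Field F] [Fintype F]

local notation "SL2" => Matrix.SpecialLinearGroup (Fin 2) F

theorem three_le (hodd : Odd (Fintype.card F)) : 3 ≤ Fintype.card F := by
  have h1 : 1 < Fintype.card F := Fintype.one_lt_card
  rcases hodd with ⟨k, hk⟩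
  omega

theorem card_SL2' (hodd : Odd (Fintype.card F)) :
    Nat.card SL2 = Fintype.card F * (Fintype.card F - 1) * (Fintype.card F + 1) := by
  have := Cfsg.Agent.S0242.result (F := F) rfl 2 (by norm_num)
  rw [Fin.prod_univ_two] at this
  simp only [Fin.val_zero, pow_zero, Fin.val_one, pow_one] at this
  have hq := three_le hodd
  obtain ⟨n, hn⟩ : ∃ n, Fintype.card F = n + 1 := ⟨Fintype.card F - 1, by omega⟩
  rw [hn] at this ⊢
  simp only [Nat.add_sub_cancel] at this ⊢
  have e1 : (n + 1) ^ 2 - 1 = n * (n + 2) := by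
    have : (n + 1) ^ 2 = n * (n + 2) + 1 := by ring
    rw [this, Nat.add_sub_cancel]
  have e2 : (n + 1) ^ 2 - (n + 1) = (n + 1) * n := by
    have : (n + 1) ^ 2 = (n + 1) * n + (n + 1) := by ring
    rw [this, Nat.add_sub_cancel]
  rw [e1, e2] at this
  have hpos : 0 < n := by omega
  apply Nat.eq_of_mul_eq_mul_left hpos
  rw [this]
  ring

/-- the `ℓ`-part of `|SL₂(q)|` when `ℓ ∣ q - 1` -/
theorem factorization_split (hodd : Odd (Fintype.card F)) (ℓ : ℕ) [Fact ℓ.Prime] (hℓ : ℓ ≠ 2)
    (h : ℓ ∣ Fintype.card F - 1) :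
    (Nat.card SL2).factorization ℓ = (Fintype.card F - 1).factorization ℓ := by
  have hℓp : ℓ.Prime := Fact.out
  have hq := three_le hodd
  have hne : Fintype.card F * (Fintype.card F - 1) ≠ 0 :=
    Nat.mul_ne_zero (by omega) (by omega)
  rw [card_SL2' hodd, Nat.factorization_mul hne (by omega),
    Nat.factorization_mul (by omega) (by omega)]
  simp only [Finsupp.add_apply]
  have h1 : ¬ ℓ ∣ Fintype.card F := by
    intro h'
    have := Nat.dvd_sub h' h
    have e : Fintype.card F - (Fintype.card F - 1) = 1 := by omega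
    rw [e] at this
    exact hℓp.one_lt.ne' (Nat.dvd_one.1 this)
  have h2 : ¬ ℓ ∣ Fintype.card F + 1 := by
    intro h'
    have := Nat.dvd_sub h' h
    have e : Fintype.card F + 1 - (Fintype.card F - 1) = 2 := by omega
    rw [e] at this
    exact hℓ ((Nat.prime_dvd_prime_iff_eq hℓp Nat.prime_two).1 this)
  rw [Nat.factorization_eq_zero_of_not_dvd h1, Nat.factorization_eq_zero_of_not_dvd h2]
  ring

/-- the `ℓ`-part of `|SL₂(q)|` when `ℓ ∣ q + 1` -/
theorem factorization_nonsplit (hodd : Odd (Fintype.card F)) (ℓ : ℕ) [Fact ℓ.Prime] (hℓ : ℓ ≠ 2)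
    (h : ℓ ∣ Fintype.card F + 1) :
    (Nat.card SL2).factorization ℓ = (Fintype.card F + 1).factorization ℓ := by
  have hℓp : ℓ.Prime := Fact.out
  have hq := three_le hodd
  have hne : Fintype.card F * (Fintype.card F - 1) ≠ 0 :=
    Nat.mul_ne_zero (by omega) (by omega)
  rw [card_SL2' hodd, Nat.factorization_mul hne (by omega),
    Nat.factorization_mul (by omega) (by omega)]
  simp only [Finsupp.add_apply]
  have h1 : ¬ ℓ ∣ Fintype.card F := by
    intro h'
    have := Nat.dvd_sub h h'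
    have e : Fintype.card F + 1 - Fintype.card F = 1 := by omega
    rw [e] at this
    exact hℓp.one_lt.ne' (Nat.dvd_one.1 this)
  have h2 : ¬ ℓ ∣ Fintype.card F - 1 := by
    intro h'
    have := Nat.dvd_sub h h'
    have e : Fintype.card F + 1 - (Fintype.card F - 1) = 2 := by omega
    rw [e] at this
    exact hℓ ((Nat.prime_dvd_prime_iff_eq hℓp Nat.prime_two).1 this)
  rw [Nat.factorization_eq_zero_of_not_dvd h1, Nat.factorization_eq_zero_of_not_dvd h2]
  ring

theorem isCyclic_D : IsCyclic (D : Subgroup SL2) := by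
  rw [D_eq_range]
  exact isCyclic_of_surjective (Cfsg.Agent.H9.PSL2Spec.dg (F := F)).rangeRestrict
    (MonoidHom.rangeRestrict_surjective _)

theorem D_cent (hodd : Odd (Fintype.card F)) (g : SL2) (hg : g ∈ (D : Subgroup SL2))
    (hgg : g * g ≠ 1) : Subgroup.centralizer ({g} : Set SL2) = D := by
  obtain ⟨g1, g2⟩ := hg
  have ha : g.1 0 0 ^ 2 ≠ 1 := by
    intro h
    apply hgg
    have hdet := entries g
    rw [g1, zero_mul, sub_zero] at hdet
    have h11 : g.1 1 1 * g.1 1 1 = 1 := by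
      have : g.1 1 1 * g.1 1 1 = (g.1 0 0 * g.1 1 1) ^ 2 * (g.1 0 0 ^ 2)⁻¹ := by
        have h0 : g.1 0 0 ≠ 0 := left_ne_zero_of_mul_eq_one hdet
        field_simp
      rw [this, hdet, h]
      simp
    apply ext_entries
    · rw [mul_entries, g1, zero_mul, add_zero, ← pow_two, h]; simp
    · rw [mul_entries, g1]; simp
    · rw [mul_entries, g2]; simp
    · rw [mul_entries, g2, zero_mul, zero_add, h11]; simp
  ext h
  rw [(Cfsg.Agent.S2428.result hodd g g1 g2 ha).1 h, mem_D]

theorem card_normalizer_D (hodd : Odd (Fintype.card F)) (x : SL2) (hx : x ∈ (D : Subgroup SL2))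
    (hxx : x * x ≠ 1) :
    Nat.card (Subgroup.normalizer ((D : Subgroup SL2) : Set SL2)) = 2 * (Fintype.card F - 1) := by
  have hc := D_cent hodd x hx hxx
  obtain ⟨g1, g2⟩ := hx
  have ha : x.1 0 0 ^ 2 ≠ 1 := by
    intro h
    apply hxx
    have hdet := entries x
    rw [g1, zero_mul, sub_zero] at hdet
    have h11 : x.1 1 1 * x.1 1 1 = 1 := by
      have : x.1 1 1 * x.1 1 1 = (x.1 0 0 * x.1 1 1) ^ 2 * (x.1 0 0 ^ 2)⁻¹ := by
        have h0 : x.1 0 0 ≠ 0 := left_ne_zero_of_mul_eq_one hdet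
        field_simp
      rw [this, hdet, h]
      simp
    apply ext_entries
    · rw [mul_entries, g1, zero_mul, add_zero, ← pow_two, h]; simp
    · rw [mul_entries, g1]; simp
    · rw [mul_entries, g2]; simp
    · rw [mul_entries, g2, zero_mul, zero_add, h11]; simp
  have := (Cfsg.Agent.S2428.result hodd x g1 g2 ha).2.1
  rwa [hc] at this

theorem exists_of_dvd {G : Type*} [Group G] [Finite G] (A : Subgroup G) (ℓ : ℕ) [Fact ℓ.Prime]
    (hℓ : ℓ ≠ 2) (h : ℓ ∣ Nat.card A) : ∃ x ∈ A, x * x ≠ 1 := by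
  obtain ⟨x, hx⟩ := exists_prime_orderOf_dvd_card' ℓ h
  refine ⟨x.1, x.2, ?_⟩
  intro hxx
  have h2 : x ^ 2 = 1 := by
    apply Subtype.ext
    rw [pow_two]
    exact hxx
  have := orderOf_dvd_of_pow_eq_one h2
  rw [hx] at this
  exact hℓ ((Nat.prime_dvd_prime_iff_eq Fact.out Nat.prime_two).1 this)

/-- Let F be a finite field with q elements, q odd, ℓ an odd prime, and P a Sylow ℓ-subgroup of SL₂ over F. If ℓ divides q − 1, the centraliser of P is cyclic of order q − 1 (a split torus) and the normaliser of P has order 2(q − 1); if ℓ divides q + 1, the centraliser of P is cyclic of order q + 1 (a non-split torus) and the normaliser of P has order 2(q + 1). -/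
theorem result {F : Type*} [Field F] [Fintype F] (hodd : Odd (Fintype.card F)) (ℓ : ℕ) [Fact ℓ.Prime] (hℓ : ℓ ≠ 2)
    (P : Sylow ℓ (Matrix.SpecialLinearGroup (Fin 2) F)) :
    (ℓ ∣ Fintype.card F - 1 →
      Nat.card (Subgroup.centralizer ((P : Subgroup (Matrix.SpecialLinearGroup (Fin 2) F)) : Set (Matrix.SpecialLinearGroup (Fin 2) F))) = Fintype.card F - 1 ∧
      IsCyclic (Subgroup.centralizer ((P : Subgroup (Matrix.SpecialLinearGroup (Fin 2) F)) : Set (Matrix.SpecialLinearGroup (Fin 2) F))) ∧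
      Nat.card (Subgroup.normalizer ((P : Subgroup (Matrix.SpecialLinearGroup (Fin 2) F)) : Set (Matrix.SpecialLinearGroup (Fin 2) F))) = 2 * (Fintype.card F - 1)) ∧
    (ℓ ∣ Fintype.card F + 1 →
      Nat.card (Subgroup.centralizer ((P : Subgroup (Matrix.SpecialLinearGroup (Fin 2) F)) : Set (Matrix.SpecialLinearGroup (Fin 2) F))) = Fintype.card F + 1 ∧
      IsCyclic (Subgroup.centralizer ((P : Subgroup (Matrix.SpecialLinearGroup (Fin 2) F)) : Set (Matrix.SpecialLinearGroup (Fin 2) F))) ∧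
      Nat.card (Subgroup.normalizer ((P : Subgroup (Matrix.SpecialLinearGroup (Fin 2) F)) : Set (Matrix.SpecialLinearGroup (Fin 2) F))) = 2 * (Fintype.card F + 1)) := by
  constructor
  · intro h
    have hcD : Nat.card (D : Subgroup (Matrix.SpecialLinearGroup (Fin 2) F)) = Fintype.card F - 1 :=
      card_D
    obtain ⟨x, hxD, hxx⟩ := exists_of_dvd (D : Subgroup (Matrix.SpecialLinearGroup (Fin 2) F)) ℓ hℓ
      (by rw [hcD]; exact h)
    obtain ⟨h1, h2, h3⟩ := Cfsg.Agent.H9.SylowTorus.main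
      (D : Subgroup (Matrix.SpecialLinearGroup (Fin 2) F)) isCyclic_D
      (fun g hg hgg => D_cent hodd g hg hgg) ℓ hℓ (by rw [hcD]; exact h)
      (by rw [hcD]; exact factorization_split hodd ℓ hℓ h) P
    exact ⟨h1.trans hcD, h2, h3.trans (card_normalizer_D hodd x hxD hxx)⟩
  · intro h
    have hchar : ringChar F ≠ 2 := by
      intro h'
      have := FiniteField.even_card_of_char_two h'
      rw [Nat.odd_iff] at hodd
      omega
    obtain ⟨δ, hδ⟩ := FiniteField.exists_nonsquare hchar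
    obtain ⟨g₀, hg₀, hy₀⟩ := exists_nonscalar hδ hodd
    have hcT := card_Tn hδ hodd g₀ hg₀ hy₀
    obtain ⟨h1, h2, h3⟩ := Cfsg.Agent.H9.SylowTorus.main
      (Tn δ : Subgroup (Matrix.SpecialLinearGroup (Fin 2) F)) (isCyclic_Tn hδ)
      (fun g hg hgg => by
        refine centralizer_eq δ g hg (y_ne_zero hδ g hg ?_ ?_)
        · intro h1
          apply hgg
          have : g = 1 := Subtype.ext h1
          rw [this, mul_one]
        · intro h1
          apply hgg
          have : g = -1 := Subtype.ext h1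
          rw [this]
          simp) ℓ hℓ (by rw [hcT]; exact h)
      (by rw [hcT]; exact factorization_nonsplit hodd ℓ hℓ h) P
    refine ⟨h1.trans hcT, h2, h3.trans ?_⟩
    rw [normalizer_eq hδ hodd]
    exact card_Mn hδ hodd

end Cfsg.Agent.S2430
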