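import Cfsg.Statements.S2437
import Cfsg.Agent.S2428
import Cfsg.Agent.S2325
import Cfsg.Agent.H9.Mat2

set_option autoImplicit false
open Cfsg

namespace Cfsg.Agent.S2437

open Matrix
open Cfsg.Agent.S2428 Cfsg.Agent.Lib.Helper8.SL2Odd

variable {F : Type*} [Field F]

local notation "SL2" => Matrix.SpecialLinearGroup (Fin 2) F

/-- the Borel subgroup -/
abbrev B : Subgroup SL2 := (Cfsg.upperTriangularGL 2 F).comap Matrix.SpecialLinearGroup.toGL

theorem mem_B (g : SL2) : g ∈ (B : Subgroup SL2) ↔ g.1 1 0 = 0 := by
  change (g.1).BlockTriangular id ↔ _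
  constructor
  · intro h
    exact h (show (id (0 : Fin 2) : Fin 2) < id 1 by decide)
  · intro h i j hij
    fin_cases i <;> fin_cases j
    · exact absurd hij (by decide)
    · exact absurd hij (by decide)
    · exact h
    · exact absurd hij (by decide)

/-- entries of a conjugate inside the Borel subgroup -/
theorem conj_entries (h g : SL2) (hh : h.1 1 0 = 0) (hg : g.1 1 0 = 0) :
    (h * g * h⁻¹).1 0 0 = g.1 0 0 ∧
      (h * g * h⁻¹).1 0 1 = h.1 0 0 ^ 2 * g.1 0 1 + h.1 0 0 * h.1 0 1 * (g.1 1 1 - g.1 0 0) ∧
      (h * g * h⁻¹).1 1 0 = 0 ∧ (h * g * h⁻¹).1 1 1 = g.1 1 1 := by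
  obtain ⟨e00, e01, e10, e11⟩ := inv_entries h
  have hdet := entries h
  rw [hh, mul_zero, sub_zero] at hdet
  refine ⟨?_, ?_, ?_, ?_⟩
  · rw [mul_entries, mul_entries, mul_entries, e00, e10, hh, hg]
    linear_combination g.1 0 0 * hdet
  · rw [mul_entries, mul_entries, mul_entries, e01, e11, hg]
    ring
  · rw [mul_entries, mul_entries, mul_entries, e00, e10, hh, hg]
    ring
  · rw [mul_entries, mul_entries, mul_entries, e01, e11, hh, hg]
    linear_combination g.1 1 1 * hdet

section SqClass

variable [Fintype F] [DecidableEq F]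

/-- the square class of an element, `none` for zero -/
noncomputable def sqClass (b : F) : Option Bool :=
  open Classical in if b = 0 then none else some (decide (IsSquare b))

theorem sqClass_eq_iff (b b' : F) :
    sqClass b = sqClass b' ↔ ∃ c : F, c ≠ 0 ∧ b' = c ^ 2 * b := by
  classical
  unfold sqClass
  constructor
  · intro h
    by_cases hb : b = 0
    · rw [if_pos hb] at h
      by_cases hb' : b' = 0
      · exact ⟨1, one_ne_zero, by rw [hb, hb']; ring⟩
      · rw [if_neg hb'] at h
        exact absurd h (by simp)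
    · rw [if_neg hb] at h
      by_cases hb' : b' = 0
      · rw [if_pos hb'] at h
        exact absurd h (by simp)
      · rw [if_neg hb'] at h
        have hiff : IsSquare b ↔ IsSquare b' := by
          have := Option.some.inj h
          simpa using this
        obtain ⟨u, hu⟩ := Cfsg.Agent.S2325.isSquare_mul_of_iff hb hb' hiff
        have hu0 : u ≠ 0 := by
          rintro rfl
          rw [mul_zero] at hu
          exact (mul_ne_zero hb hb') hu
        refine ⟨u / b, div_ne_zero hu0 hb, ?_⟩
        calc b' = (b * b') / b := by field_simp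
          _ = (u * u) / b := by rw [hu]
          _ = (u / b) ^ 2 * b := by field_simp
  · rintro ⟨c, hc, rfl⟩
    by_cases hb : b = 0
    · rw [if_pos hb, if_pos (by rw [hb, mul_zero])]
    · have hcb : c ^ 2 * b ≠ 0 := mul_ne_zero (pow_ne_zero 2 hc) hb
      rw [if_neg hb, if_neg hcb]
      congr 1
      have : IsSquare b ↔ IsSquare (c ^ 2 * b) := by
        constructor
        · rintro ⟨s, rfl⟩
          exact ⟨c * s, by ring⟩
        · rintro ⟨s, hs⟩
          refine ⟨s / c, ?_⟩
          field_simp
          linear_combination hs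
      simp [this]

end SqClass

section Main

variable [Fintype F] [DecidableEq F]

/-- the target of the invariant -/
abbrev T (F : Type*) [Field F] := {a : F // a ≠ 0 ∧ a ^ 2 ≠ 1} ⊕ (Bool × Option Bool)

theorem diag_mul (g : SL2) (hg : g.1 1 0 = 0) : g.1 0 0 * g.1 1 1 = 1 := by
  have hdet := entries g
  rw [hg, mul_zero, sub_zero] at hdet
  exact hdet

/-- the complete invariant -/
noncomputable def Psi (g : (B : Subgroup SL2)) : T F :=
  if h : g.1.1 0 0 ^ 2 ≠ 1 then
    Sum.inl ⟨g.1.1 0 0, left_ne_zero_of_mul_eq_one (diag_mul g.1 ((mem_B g.1).1 g.2)), h⟩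
  else Sum.inr (decide (g.1.1 0 0 = 1), sqClass (g.1.1 0 1))

theorem eq_of_sq_eq_one (g : SL2) (hg : g.1 1 0 = 0) (h : g.1 0 0 ^ 2 = 1) : g.1 1 1 = g.1 0 0 := by
  have := diag_mul g hg
  have h0 : g.1 0 0 ≠ 0 := left_ne_zero_of_mul_eq_one this
  apply mul_left_cancel₀ h0
  rw [this, ← pow_two, h]

theorem isConj_iff_Psi (g h : (B : Subgroup SL2)) : IsConj g h ↔ Psi g = Psi h := by
  have hgB := (mem_B g.1).1 g.2
  have hhB := (mem_B h.1).1 h.2
  constructor
  · intro hc
    obtain ⟨c, hc⟩ := isConj_iff.1 hc
    have hcB := (mem_B c.1).1 c.2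
    have hc' : c.1 * g.1 * c.1⁻¹ = h.1 := congrArg Subtype.val hc
    obtain ⟨e00, e01, -, -⟩ := conj_entries c.1 g.1 hcB hgB
    rw [hc'] at e00 e01
    unfold Psi
    by_cases hg : g.1.1 0 0 ^ 2 ≠ 1
    · have hh : h.1.1 0 0 ^ 2 ≠ 1 := by rw [e00]; exact hg
      rw [dif_pos hg, dif_pos hh]
      congr 1
      exact Subtype.ext e00.symm
    · have hh : ¬ h.1.1 0 0 ^ 2 ≠ 1 := by rw [e00]; exact hg
      rw [dif_neg hg, dif_neg hh, e00]
      congr 2
      rw [sqClass_eq_iff]
      refine ⟨c.1.1 0 0, left_ne_zero_of_mul_eq_one (diag_mul c.1 hcB), ?_⟩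
      rw [e01, eq_of_sq_eq_one g.1 hgB (not_not.1 hg)]
      ring
  · intro hP
    unfold Psi at hP
    by_cases hg : g.1.1 0 0 ^ 2 ≠ 1
    · rw [dif_pos hg] at hP
      by_cases hh : h.1.1 0 0 ^ 2 ≠ 1
      · rw [dif_pos hh] at hP
        have h00 : g.1.1 0 0 = h.1.1 0 0 := congrArg Subtype.val (Sum.inl.inj hP)
        have hne : g.1.1 1 1 - g.1.1 0 0 ≠ 0 := by
          intro h0
          apply hg
          have := diag_mul g.1 hgB
          rw [sub_eq_zero.1 h0, ← pow_two] at this
          exact this
        set e := (h.1.1 0 1 - g.1.1 0 1) / (g.1.1 1 1 - g.1.1 0 0) with he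
        let c : SL2 := ⟨!![1, e; 0, 1], by simp [Matrix.det_fin_two_of]⟩
        have hcB : c ∈ (B : Subgroup SL2) := (mem_B c).2 (by simp [c])
        rw [isConj_iff]
        refine ⟨⟨c, hcB⟩, Subtype.ext ?_⟩
        change c * g.1 * c⁻¹ = h.1
        obtain ⟨e00, e01, e10, e11⟩ := conj_entries c g.1 (by simp [c]) hgB
        have h11 : g.1.1 1 1 = h.1.1 1 1 := by
          have h1 := diag_mul g.1 hgB
          have h2 := diag_mul h.1 hhB
          have h0 : h.1.1 0 0 ≠ 0 := left_ne_zero_of_mul_eq_one h2
          apply mul_left_cancel₀ h0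
          rw [h2, ← h00, h1]
        apply ext_entries
        · rw [e00, h00]
        · rw [e01]
          simp only [c, Matrix.of_apply, Matrix.cons_val', Matrix.cons_val_zero, Matrix.cons_val_one,
            Matrix.empty_val', Matrix.cons_val_fin_one]
          rw [he]
          field_simp
          ring
        · rw [e10, hhB]
        · rw [e11, h11]
      · rw [dif_neg hh] at hP
        exact absurd hP (by simp)
    · rw [dif_neg hg] at hP
      by_cases hh : h.1.1 0 0 ^ 2 ≠ 1
      · rw [dif_pos hh] at hP
        exact absurd hP (by simp)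
      · rw [dif_neg hh] at hP
        have hP' := Sum.inr.inj hP
        have hd : decide (g.1.1 0 0 = 1) = decide (h.1.1 0 0 = 1) := (Prod.ext_iff.1 hP').1
        have hs : sqClass (g.1.1 0 1) = sqClass (h.1.1 0 1) := (Prod.ext_iff.1 hP').2
        have hg1 := not_not.1 hg
        have hh1 := not_not.1 hh
        have h00 : g.1.1 0 0 = h.1.1 0 0 := by
          have hiff : g.1.1 0 0 = 1 ↔ h.1.1 0 0 = 1 := by simpa using hd
          have cg : (g.1.1 0 0 - 1) * (g.1.1 0 0 + 1) = 0 := by linear_combination hg1
          have ch : (h.1.1 0 0 - 1) * (h.1.1 0 0 + 1) = 0 := by linear_combination hh1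
          rcases mul_eq_zero.1 cg with h1 | h1
          · have e1 : g.1.1 0 0 = 1 := by linear_combination h1
            rw [e1, hiff.1 e1]
          · have e1 : g.1.1 0 0 = -1 := by linear_combination h1
            rcases mul_eq_zero.1 ch with h2 | h2
            · have e2 : h.1.1 0 0 = 1 := by linear_combination h2
              rw [hiff.2 e2, e2]
            · have e2 : h.1.1 0 0 = -1 := by linear_combination h2
              rw [e1, e2]
        obtain ⟨u, hu0, hu⟩ := (sqClass_eq_iff _ _).1 hs
        let c : SL2 := ⟨!![u, 0; 0, u⁻¹], by simp [Matrix.det_fin_two_of, hu0]⟩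
        have hcB : c ∈ (B : Subgroup SL2) := (mem_B c).2 (by simp [c])
        rw [isConj_iff]
        refine ⟨⟨c, hcB⟩, Subtype.ext ?_⟩
        change c * g.1 * c⁻¹ = h.1
        obtain ⟨e00, e01, e10, e11⟩ := conj_entries c g.1 (by simp [c]) hgB
        apply ext_entries
        · rw [e00, h00]
        · rw [e01, hu]
          simp [c]
        · rw [e10, hhB]
        · rw [e11, eq_of_sq_eq_one g.1 hgB hg1, eq_of_sq_eq_one h.1 hhB hh1, h00]

theorem Psi_surjective (hodd : Odd (Fintype.card F)) :
    Function.Surjective (Psi : ↥(B : Subgroup SL2) → T F) := by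
  have h2 : (2 : F) ≠ 0 := two_ne_zero' hodd
  have hchar : ringChar F ≠ 2 := by
    intro h'
    have := FiniteField.even_card_of_char_two h'
    rw [Nat.odd_iff] at hodd
    omega
  obtain ⟨ν, hν⟩ := FiniteField.exists_nonsquare hchar
  have hν0 : ν ≠ 0 := by
    rintro rfl
    exact hν ⟨0, by simp⟩
  rintro (⟨a, ha0, ha⟩ | ⟨ε, s⟩)
  · let g : SL2 := ⟨!![a, 0; 0, a⁻¹], by simp [Matrix.det_fin_two_of, ha0]⟩
    have hgB : g ∈ (B : Subgroup SL2) := (mem_B g).2 (by simp [g])
    refine ⟨⟨g, hgB⟩, ?_⟩
    unfold Psi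
    have h00 : g.1 0 0 = a := by simp [g]
    rw [dif_pos (by rw [h00]; exact ha)]
    congr 1
  · -- the diagonal entry and the off-diagonal entry
    set a : F := if ε then 1 else -1 with ha
    have haa : a * a = 1 := by
      rw [ha]; split_ifs <;> ring
    set b : F := match s with
      | none => 0
      | some true => 1
      | some false => ν with hb
    let g : SL2 := ⟨!![a, b; 0, a], by rw [Matrix.det_fin_two_of]; linear_combination haa⟩
    have hgB : g ∈ (B : Subgroup SL2) := (mem_B g).2 (by simp [g])
    refine ⟨⟨g, hgB⟩, ?_⟩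
    unfold Psi
    have h00 : g.1 0 0 = a := by simp [g]
    have h01 : g.1 0 1 = b := by simp [g]
    rw [dif_neg (by rw [h00, pow_two, haa]; simp)]
    congr 2
    · rw [h00, ha]
      cases ε
      · simp only [Bool.false_eq_true, if_false, decide_eq_false_iff_not]
        intro h
        apply h2
        linear_combination -h
      · simp
    · rw [h01, hb]
      unfold sqClass
      rcases s with _ | s
      · simp
      · cases s
        · simp [hν0, hν]
        · simp

theorem card_T (hodd : Odd (Fintype.card F)) : Nat.card (T F) = Fintype.card F + 3 := by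
  classical
  have h2 : (2 : F) ≠ 0 := two_ne_zero' hodd
  have hsub : Fintype.card {a : F // a ≠ 0 ∧ a ^ 2 ≠ 1} = Fintype.card F - 3 := by
    have hcompl : Fintype.card {a : F // ¬ (a = 0 ∨ a = 1 ∨ a = -1)} = Fintype.card F - 3 := by
      rw [Fintype.card_subtype_compl]
      congr 1
      rw [Fintype.card_subtype]
      have : (Finset.univ.filter fun a : F => a = 0 ∨ a = 1 ∨ a = -1) = {0, 1, -1} := by
        ext a
        simp
      have h1ne : (1 : F) ≠ -1 := fun h => h2 (by linear_combination h)
      rw [this, Finset.card_insert_of_notMem (by simp), Finset.card_pair h1ne]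
    rw [← hcompl]
    apply Fintype.card_congr
    refine Equiv.subtypeEquivRight (fun a => ?_)
    constructor
    · rintro ⟨h0, h1⟩ (h | h | h)
      · exact h0 h
      · exact h1 (by rw [h]; ring)
      · exact h1 (by rw [h]; ring)
    · intro h
      refine ⟨fun h0 => h (Or.inl h0), fun h1 => ?_⟩
      have : (a - 1) * (a + 1) = 0 := by linear_combination h1
      rcases mul_eq_zero.1 this with h' | h'
      · exact h (Or.inr (Or.inl (by linear_combination h')))
      · exact h (Or.inr (Or.inr (by linear_combination h')))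
  have hq : 3 ≤ Fintype.card F := by
    have h1 : 1 < Fintype.card F := Fintype.one_lt_card
    rcases hodd with ⟨k, hk⟩
    omega
  rw [Nat.card_eq_fintype_card, Fintype.card_sum, Fintype.card_prod, Fintype.card_bool,
    Fintype.card_option, Fintype.card_bool, hsub]
  omega

end Main

/-- Over a finite field F with q elements, q odd, the upper triangular subgroup of SL₂ (a Borel subgroup, of order q(q − 1)) has exactly q + 3 conjugacy classes. -/
theorem result {F : Type*} [Field F] [Fintype F] (hodd : Odd (Fintype.card F)) :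
    Nat.card (ConjClasses ((Cfsg.upperTriangularGL 2 F).comap Matrix.SpecialLinearGroup.toGL)) = Fintype.card F + 3 := by
  classical
  rw [Cfsg.Agent.H9.Mat2.card_conjClasses_eq Psi isConj_iff_Psi (Psi_surjective hodd), card_T hodd]

end Cfsg.Agent.S2437
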