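import Cfsg.Statements.S2431
import Cfsg.Agent.S2430
import Cfsg.Agent.H9.Hurwitz
import Cfsg.Agent.H9.SylowTwoDicyclic

set_option autoImplicit false
open Cfsg

namespace Cfsg.Agent.S2431

open Matrix
open Cfsg.Agent.S2428 Cfsg.Agent.H9.NonsplitTorus Cfsg.Agent.Lib.Helper8.SL2Odd
open Cfsg.Agent.H9.SylowTwoDicyclic

section aux

variable {F : Type*} [Field F] [Fintype F]

local notation "SL2" => Matrix.SpecialLinearGroup (Fin 2) F

theorem negOne_mem_center : (-1 : SL2) ∈ Subgroup.center SL2 := by
  rw [Subgroup.mem_center_iff]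
  intro g
  rw [mul_neg, neg_mul, mul_one, one_mul]

theorem negOne_ne_one (h2 : (2 : F) ≠ 0) : (-1 : SL2) ≠ 1 := by
  intro h
  have := congrArg (fun A : SL2 => A.1 0 0) h
  simp only [Matrix.SpecialLinearGroup.coe_neg, Matrix.SpecialLinearGroup.coe_one,
    Matrix.neg_apply, Matrix.one_apply_eq] at this
  apply h2
  linear_combination -this

theorem negOne_mul_negOne : (-1 : SL2) * (-1) = 1 := by
  rw [neg_mul_neg, one_mul]

theorem eq_of_sq_eq_one (h2 : (2 : F) ≠ 0) (a : SL2) (ha : a * a = 1) : a = 1 ∨ a = -1 := by
  have hinv : a⁻¹ = a := inv_eq_of_mul_eq_one_left ha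
  obtain ⟨i00, i01, i10, i11⟩ := inv_entries a
  rw [hinv] at i00 i01 i10 i11
  have hdet := entries a
  have h01 : a.1 0 1 = 0 := by
    have : (2 : F) * a.1 0 1 = 0 := by linear_combination i01
    exact (mul_eq_zero.1 this).resolve_left h2
  have h10 : a.1 1 0 = 0 := by
    have : (2 : F) * a.1 1 0 = 0 := by linear_combination i10
    exact (mul_eq_zero.1 this).resolve_left h2
  rw [h01, zero_mul, sub_zero, ← i00] at hdet
  have : (a.1 0 0 - 1) * (a.1 0 0 + 1) = 0 := by linear_combination hdet
  rcases mul_eq_zero.1 this with h | h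
  · left
    apply ext_entries
    · rw [Matrix.SpecialLinearGroup.coe_one, Matrix.one_apply_eq]; linear_combination h
    · rw [Matrix.SpecialLinearGroup.coe_one, h01]; simp
    · rw [Matrix.SpecialLinearGroup.coe_one, h10]; simp
    · rw [Matrix.SpecialLinearGroup.coe_one, Matrix.one_apply_eq, ← i00]; linear_combination h
  · right
    apply ext_entries
    · rw [Matrix.SpecialLinearGroup.coe_neg, Matrix.SpecialLinearGroup.coe_one, Matrix.neg_apply,
        Matrix.one_apply_eq]; linear_combination h
    · rw [Matrix.SpecialLinearGroup.coe_neg, Matrix.SpecialLinearGroup.coe_one, h01]; simp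
    · rw [Matrix.SpecialLinearGroup.coe_neg, Matrix.SpecialLinearGroup.coe_one, h10]; simp
    · rw [Matrix.SpecialLinearGroup.coe_neg, Matrix.SpecialLinearGroup.coe_one, Matrix.neg_apply,
        Matrix.one_apply_eq, ← i00]; linear_combination h

/-- the `2`-part of `|SL₂(q)|` when `4 ∣ q - 1` -/
theorem factorization_two_split (hodd : Odd (Fintype.card F)) (h : Fintype.card F % 4 = 1) :
    (Nat.card SL2).factorization 2 = (Fintype.card F - 1).factorization 2 + 1 := by
  have hq := Cfsg.Agent.S2430.three_le hodd
  have hne : Fintype.card F * (Fintype.card F - 1) ≠ 0 :=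
    Nat.mul_ne_zero (by omega) (by omega)
  rw [Cfsg.Agent.S2430.card_SL2' hodd, Nat.factorization_mul hne (by omega),
    Nat.factorization_mul (by omega) (by omega)]
  simp only [Finsupp.add_apply]
  have h1 : ¬ 2 ∣ Fintype.card F := by omega
  obtain ⟨m, hm⟩ : ∃ m, Fintype.card F + 1 = 2 * m := ⟨(Fintype.card F + 1) / 2, by omega⟩
  have hm2 : ¬ 2 ∣ m := by omega
  have hm0 : m ≠ 0 := by omega
  rw [Nat.factorization_eq_zero_of_not_dvd h1, hm, Nat.factorization_mul two_ne_zero hm0,
    Finsupp.add_apply, Nat.Prime.factorization_self Nat.prime_two,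
    Nat.factorization_eq_zero_of_not_dvd hm2]
  ring

/-- the `2`-part of `|SL₂(q)|` when `4 ∣ q + 1` -/
theorem factorization_two_nonsplit (hodd : Odd (Fintype.card F)) (h : Fintype.card F % 4 = 3) :
    (Nat.card SL2).factorization 2 = (Fintype.card F + 1).factorization 2 + 1 := by
  have hq := Cfsg.Agent.S2430.three_le hodd
  have hne : Fintype.card F * (Fintype.card F - 1) ≠ 0 :=
    Nat.mul_ne_zero (by omega) (by omega)
  rw [Cfsg.Agent.S2430.card_SL2' hodd, Nat.factorization_mul hne (by omega),
    Nat.factorization_mul (by omega) (by omega)]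
  simp only [Finsupp.add_apply]
  have h1 : ¬ 2 ∣ Fintype.card F := by omega
  obtain ⟨m, hm⟩ : ∃ m, Fintype.card F - 1 = 2 * m := ⟨(Fintype.card F - 1) / 2, by omega⟩
  have hm2 : ¬ 2 ∣ m := by omega
  have hm0 : m ≠ 0 := by omega
  rw [Nat.factorization_eq_zero_of_not_dvd h1, hm, Nat.factorization_mul two_ne_zero hm0,
    Finsupp.add_apply, Nat.Prime.factorization_self Nat.prime_two,
    Nat.factorization_eq_zero_of_not_dvd hm2]
  ring

/-- the quaternion relations give an element cyclically permuting the three generators -/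
theorem hurwitz_of_rel (h2 : (2 : F) ≠ 0) (t w : SL2) (ht : t * t = -1) (hw : w * w = -1)
    (hinv : w * t * w⁻¹ = t⁻¹) : ∃ x : SL2, x * t = t * w * x ∧ x * w = t * x := by
  have htinv : t⁻¹ = -t := by
    apply inv_eq_of_mul_eq_one_right
    rw [mul_neg, ht, neg_neg]
  have hanti : t * w = -(w * t) := by
    have h1 : w * t = t⁻¹ * w := by
      rw [← hinv]; group
    rw [h1, htinv, neg_mul, neg_neg]
  refine Cfsg.Agent.H9.Hurwitz.exists_hurwitz h2 t w ?_ ?_ ?_
  · have := congrArg (fun A : SL2 => A.1) ht
    simpa using this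
  · have := congrArg (fun A : SL2 => A.1) hw
    simpa using this
  · have := congrArg (fun A : SL2 => A.1) hanti
    simpa using this

theorem M_le_normalizer_D : (M : Subgroup SL2) ≤ Subgroup.normalizer ((D : Subgroup SL2) : Set SL2) := by
  intro g hg
  rcases hg with hg | ⟨g1, g2⟩
  · exact Subgroup.le_normalizer hg
  · apply Subgroup.mem_normalizer_fintype
    intro a ha
    rw [SetLike.mem_coe, anti_inverts g a g1 g2 ha]
    exact Subgroup.inv_mem _ ha

theorem normalizer_D_eq (hodd : Odd (Fintype.card F)) (h : Fintype.card F % 4 = 1) :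
    Subgroup.normalizer ((D : Subgroup SL2) : Set SL2) = M := by
  symm
  apply Subgroup.eq_of_le_of_card_ge M_le_normalizer_D
  obtain ⟨a, ha⟩ := (Cfsg.Agent.S2430.isCyclic_D (F := F)).exists_generator
  have hord : orderOf a = Nat.card (D : Subgroup SL2) := orderOf_eq_card_of_forall_mem_zpowers ha
  rw [card_D] at hord
  have hq := Cfsg.Agent.S2430.three_le hodd
  have haa : (a : SL2) * a ≠ 1 := by
    intro h'
    have h2 : a ^ 2 = 1 := by
      apply Subtype.ext
      rw [pow_two]
      exact h'
    have := orderOf_dvd_of_pow_eq_one h2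
    rw [hord] at this
    have := Nat.le_of_dvd (by norm_num) this
    omega
  rw [Cfsg.Agent.S2430.card_normalizer_D hodd a.1 a.2 haa, card_M]

end aux

/-- Let F be a finite field with q elements, q odd, and S a Sylow 2-subgroup of SL₂ over F. The centraliser of S is the centre of SL₂ (of order 2); S is its own normaliser when q ≡ ±1 mod 8, and has index 3 in its normaliser when q ≡ ±3 mod 8. -/
theorem result {F : Type*} [Field F] [Fintype F] (hodd : Odd (Fintype.card F)) (S : Sylow 2 (Matrix.SpecialLinearGroup (Fin 2) F)) :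
    Subgroup.centralizer ((S : Subgroup (Matrix.SpecialLinearGroup (Fin 2) F)) : Set (Matrix.SpecialLinearGroup (Fin 2) F)) = Subgroup.center (Matrix.SpecialLinearGroup (Fin 2) F) ∧
    ((Fintype.card F % 8 = 1 ∨ Fintype.card F % 8 = 7) →
      Subgroup.normalizer ((S : Subgroup (Matrix.SpecialLinearGroup (Fin 2) F)) : Set (Matrix.SpecialLinearGroup (Fin 2) F)) = (S : Subgroup (Matrix.SpecialLinearGroup (Fin 2) F))) ∧
    ((Fintype.card F % 8 = 3 ∨ Fintype.card F % 8 = 5) →
      Nat.card (Subgroup.normalizer ((S : Subgroup (Matrix.SpecialLinearGroup (Fin 2) F)) : Set (Matrix.SpecialLinearGroup (Fin 2) F))) = 3 * Nat.card S) := by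
  have h2 : (2 : F) ≠ 0 := two_ne_zero' hodd
  have hq := Cfsg.Agent.S2430.three_le hodd
  have hmod : Fintype.card F % 4 = 1 ∨ Fintype.card F % 4 = 3 := by
    rcases hodd with ⟨k, hk⟩
    omega
  -- the abstract statement in both cases
  have key : ∃ (A N : Subgroup (Matrix.SpecialLinearGroup (Fin 2) F)),
      Setup A N (-1 : Matrix.SpecialLinearGroup (Fin 2) F) ∧
      ((Fintype.card F % 8 = 1 ∨ Fintype.card F % 8 = 7) → 8 ∣ Nat.card A) ∧
      ((Fintype.card F % 8 = 3 ∨ Fintype.card F % 8 = 5) → ¬ 8 ∣ Nat.card A) := by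
    rcases hmod with hmod | hmod
    · refine ⟨D, M, ?_, ?_, ?_⟩
      · refine
        { cyc := Cfsg.Agent.S2430.isCyclic_D
          le := D_le_M
          norm := normalizer_D_eq hodd hmod
          cent := fun g hg hgg => Cfsg.Agent.S2430.D_cent hodd g hg hgg
          inv := ?_
          sq := ?_
          zc := negOne_mem_center
          z1 := negOne_ne_one h2
          zz := negOne_mul_negOne
          invol := fun a _ haa => eq_of_sq_eq_one h2 a haa
          cardN := by rw [card_M, card_D]
          four := by rw [card_D]; omega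
          part := by rw [card_D]; exact factorization_two_split hodd hmod }
        · intro g hg hgD a ha
          rcases hg with hg | ⟨g1, g2⟩
          · exact absurd hg hgD
          · exact anti_inverts g a g1 g2 ha
        · intro g hg hgD
          rcases hg with hg | ⟨g1, g2⟩
          · exact absurd hg hgD
          · apply Subtype.ext
            rw [sq_of_anti g g1 g2]
            simp
      · intro h8
        rw [card_D]
        omega
      · intro h8
        rw [card_D]
        omega
    · have hchar : ringChar F ≠ 2 := by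
        intro h'
        have := FiniteField.even_card_of_char_two h'
        rw [Nat.odd_iff] at hodd
        omega
      obtain ⟨δ, hδ⟩ := FiniteField.exists_nonsquare hchar
      obtain ⟨g₀, hg₀, hy₀⟩ := exists_nonscalar hδ hodd
      have hcT := card_Tn hδ hodd g₀ hg₀ hy₀
      refine ⟨Tn δ, Mn δ, ?_, ?_, ?_⟩
      · refine
        { cyc := isCyclic_Tn hδ
          le := Tn_le_Mn δ
          norm := normalizer_eq hδ hodd
          cent := ?_
          inv := ?_
          sq := ?_
          zc := negOne_mem_center
          z1 := negOne_ne_one h2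
          zz := negOne_mul_negOne
          invol := fun a _ haa => eq_of_sq_eq_one h2 a haa
          cardN := by rw [card_Mn hδ hodd, hcT]
          four := by rw [hcT]; omega
          part := by rw [hcT]; exact factorization_two_nonsplit hodd hmod }
        · intro g hg hgg
          refine centralizer_eq δ g hg (y_ne_zero hδ g hg ?_ ?_)
          · intro h1
            apply hgg
            have : g = 1 := Subtype.ext h1
            rw [this, mul_one]
          · intro h1
            apply hgg
            have : g = -1 := Subtype.ext h1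
            rw [this]
            simp
        · intro g hg hgT a ha
          rcases hg with hg | ⟨g1, g2⟩
          · exact absurd hg hgT
          · exact Cfsg.Agent.H9.NonsplitTorus.anti_inverts δ g a g1 g2 ha
        · intro g hg hgT
          rcases hg with hg | ⟨g1, g2⟩
          · exact absurd hg hgT
          · apply Subtype.ext
            rw [Cfsg.Agent.H9.NonsplitTorus.sq_of_anti δ g g1 g2]
            simp
      · intro h8
        rw [hcT]
        omega
      · intro h8
        rw [hcT]
        omega
  obtain ⟨A, N, hset, hA8, hA4⟩ := key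
  have hH : ¬ 8 ∣ Nat.card A → ∀ t w : Matrix.SpecialLinearGroup (Fin 2) F, t ∈ A → t * t = -1 →
      w ∈ N → w ∉ A → ∃ x : Matrix.SpecialLinearGroup (Fin 2) F, x * t = t * w * x ∧ x * w = t * x := by
    intro _ t w htA htt hwN hwA
    exact hurwitz_of_rel h2 t w htt (hset.sq w hwN hwA) (hset.inv w hwN hwA t htA)
  obtain ⟨r1, r2, r3⟩ := main hset hH S
  refine ⟨?_, fun h => r2 (hA8 h), fun h => r3 (hA4 h)⟩
  apply le_antisymm
  · intro c hc
    rcases (r1 c).1 hc with rfl | rfl
    · exact Subgroup.one_mem _
    · exact negOne_mem_center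
  · exact Subgroup.center_le_centralizer _

end Cfsg.Agent.S2431
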