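import Cfsg.Statements.S2436
import Cfsg.Agent.S2431
import Cfsg.Agent.H9.SylowTwoDicyclic2
import Cfsg.Agent.H9.SL2DegreeCount
import Cfsg.Agent.H9.SL2McKayP
import Cfsg.Agent.H9.McKayTorus

set_option autoImplicit false
open Cfsg

namespace Cfsg.Agent.S2436

open Matrix
open Cfsg.Agent.S2428 Cfsg.Agent.H9.NonsplitTorus Cfsg.Agent.Lib.Helper8.SL2Odd
open Cfsg.Agent.H9.SylowTwoDicyclic Cfsg.Agent.H9.McKayTools Cfsg.Agent.S2431

section aux

variable {F : Type*} [Field F] [Fintype F]

local notation "SL2" => Matrix.SpecialLinearGroup (Fin 2) F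

theorem normalizer_D_eq' (hodd : Odd (Fintype.card F)) (h : 5 ≤ Fintype.card F) :
    Subgroup.normalizer ((D : Subgroup SL2) : Set SL2) = M := by
  symm
  apply Subgroup.eq_of_le_of_card_ge M_le_normalizer_D
  obtain ⟨a, ha⟩ := (Cfsg.Agent.S2430.isCyclic_D (F := F)).exists_generator
  have hord : orderOf a = Nat.card (D : Subgroup SL2) := orderOf_eq_card_of_forall_mem_zpowers ha
  rw [card_D] at hord
  have haa : (a : SL2) * a ≠ 1 := by
    intro h'
    have h2 : a ^ 2 = 1 := by
      apply Subtype.ext
      rw [pow_two]
      exact h'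
    have := orderOf_dvd_of_pow_eq_one h2
    rw [hord] at this
    have := Nat.le_of_dvd (by norm_num) this
    omega
  rw [Cfsg.Agent.S2430.card_normalizer_D hodd a.1 a.2 haa, card_M]

/-- the dicyclic setup for `SL₂(q)`, `q` odd -/
theorem exists_setup (hodd : Odd (Fintype.card F)) :
    ∃ (A N : Subgroup SL2), Setup A N (-1 : SL2) ∧
      (¬ 8 ∣ Nat.card A → ∀ t w : SL2, t ∈ A → t * t = -1 → w ∈ N → w ∉ A →
        ∃ x : SL2, x * t = t * w * x ∧ x * w = t * x) := by
  have h2 : (2 : F) ≠ 0 := two_ne_zero' hodd
  have hq := Cfsg.Agent.S2430.three_le hodd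
  have hmod : Fintype.card F % 4 = 1 ∨ Fintype.card F % 4 = 3 := by
    rcases hodd with ⟨k, hk⟩
    omega
  have key : ∃ (A N : Subgroup SL2), Setup A N (-1 : SL2) := by
    rcases hmod with hmod | hmod
    · refine ⟨D, M, ?_⟩
      refine
        { cyc := Cfsg.Agent.S2430.isCyclic_D
          le := D_le_M
          norm := normalizer_D_eq hodd hmod
          cent := fun g hg hgg => Cfsg.Agent.S2430.D_cent hodd g hg hgg
          inv := ?_
          sq := ?_
          zc := negOne_mem_center
          z1 := negOne_ne_one h2
          zz := negOne_mul_negOne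
          invol := fun a _ haa => eq_of_sq_eq_one h2 a haa
          cardN := by rw [card_M, card_D]
          four := by rw [card_D]; omega
          part := by rw [card_D]; exact factorization_two_split hodd hmod }
      · intro g hg hgD a ha
        rcases hg with hg | ⟨g1, g2⟩
        · exact absurd hg hgD
        · exact Cfsg.Agent.S2428.anti_inverts g a g1 g2 ha
      · intro g hg hgD
        rcases hg with hg | ⟨g1, g2⟩
        · exact absurd hg hgD
        · apply Subtype.ext
          rw [Cfsg.Agent.S2428.sq_of_anti g g1 g2]
          simp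
    · have hchar : ringChar F ≠ 2 := by
        intro h'
        have := FiniteField.even_card_of_char_two h'
        rw [Nat.odd_iff] at hodd
        omega
      obtain ⟨δ, hδ⟩ := FiniteField.exists_nonsquare hchar
      obtain ⟨g₀, hg₀, hy₀⟩ := exists_nonscalar hδ hodd
      have hcT := card_Tn hδ hodd g₀ hg₀ hy₀
      refine ⟨Tn δ, Mn δ, ?_⟩
      refine
        { cyc := isCyclic_Tn hδ
          le := Tn_le_Mn δ
          norm := normalizer_eq hδ hodd
          cent := ?_
          inv := ?_
          sq := ?_
          zc := negOne_mem_center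
          z1 := negOne_ne_one h2
          zz := negOne_mul_negOne
          invol := fun a _ haa => eq_of_sq_eq_one h2 a haa
          cardN := by rw [card_Mn hδ hodd, hcT]
          four := by rw [hcT]; omega
          part := by rw [hcT]; exact factorization_two_nonsplit hodd hmod }
      · intro g hg hgg
        refine centralizer_eq δ g hg (y_ne_zero hδ g hg ?_ ?_)
        · intro h1
          apply hgg
          have : g = 1 := Subtype.ext h1
          rw [this, mul_one]
        · intro h1
          apply hgg
          have : g = -1 := Subtype.ext h1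
          rw [this]
          simp
      · intro g hg hgT a ha
        rcases hg with hg | ⟨g1, g2⟩
        · exact absurd hg hgT
        · exact Cfsg.Agent.H9.NonsplitTorus.anti_inverts δ g a g1 g2 ha
      · intro g hg hgT
        rcases hg with hg | ⟨g1, g2⟩
        · exact absurd hg hgT
        · apply Subtype.ext
          rw [Cfsg.Agent.H9.NonsplitTorus.sq_of_anti δ g g1 g2]
          simp
  obtain ⟨A, N, hset⟩ := key
  refine ⟨A, N, hset, ?_⟩
  intro _ t w htA htt hwN hwA
  exact hurwitz_of_rel h2 t w htt (hset.sq w hwN hwA) (hset.inv w hwN hwA t htA)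

end aux

/-- Let F be a finite field with q elements, q odd, ℓ any prime and S a Sylow ℓ-subgroup of SL₂ over F with normaliser N. Then SL₂ and N have the same number of irreducible complex characters of degree not divisible by ℓ (the McKay equality holds for SL₂ over F at every prime). -/
theorem result {F : Type*} [Field F] [Fintype F] (hodd : Odd (Fintype.card F)) (ℓ : ℕ) [Fact ℓ.Prime] (S : Sylow ℓ (Matrix.SpecialLinearGroup (Fin 2) F)) :
    Nat.card {χ : Cfsg.IrrCharacter (Matrix.SpecialLinearGroup (Fin 2) F) // ¬ ℓ ∣ Cfsg.charDegree (χ : Matrix.SpecialLinearGroup (Fin 2) F → ℂ)} =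
      Nat.card {ψ : Cfsg.IrrCharacter (Subgroup.normalizer ((S : Subgroup (Matrix.SpecialLinearGroup (Fin 2) F)) : Set (Matrix.SpecialLinearGroup (Fin 2) F))) //
        ¬ ℓ ∣ Cfsg.charDegree (ψ : Subgroup.normalizer ((S : Subgroup (Matrix.SpecialLinearGroup (Fin 2) F)) : Set (Matrix.SpecialLinearGroup (Fin 2) F)) → ℂ)} := by
  classical
  have hℓ : ℓ.Prime := Fact.out
  have hq := Cfsg.Agent.S2430.three_le hodd
  obtain ⟨k, hk⟩ := id hodd
  have hcount := Cfsg.Agent.H9.SL2Chars.card_by_degree hodd (fun d => ¬ ℓ ∣ d)
  have hcount' : Nat.card {χ : Cfsg.IrrCharacter (Matrix.SpecialLinearGroup (Fin 2) F) //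
      ¬ ℓ ∣ Cfsg.charDegree (χ : Matrix.SpecialLinearGroup (Fin 2) F → ℂ)} = _ := hcount
  rw [hcount']
  have h1 : ¬ ℓ ∣ 1 := fun h => hℓ.one_lt.ne' (Nat.dvd_one.1 h)
  have hhalfp : 2 * ((Fintype.card F + 1) / 2) = Fintype.card F + 1 := by omega
  have hhalfm : 2 * ((Fintype.card F - 1) / 2) = Fintype.card F - 1 := by omega
  by_cases hdvd : ℓ ∣ Nat.card (Matrix.SpecialLinearGroup (Fin 2) F)
  · by_cases hℓ2 : ℓ = 2
    · subst hℓ2
      obtain ⟨A, N, hset, hH⟩ := exists_setup hodd
      rw [main_card_odd hset hH S]
      have hmod : Fintype.card F % 4 = 1 ∨ Fintype.card F % 4 = 3 := by omega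
      have e1 : ¬ (2 ∣ Fintype.card F) := by omega
      have e2 : (2 ∣ Fintype.card F + 1) := by omega
      have e3 : (2 ∣ Fintype.card F - 1) := by omega
      rw [if_pos h1, if_pos e1, if_neg (not_not.2 e2), if_neg (not_not.2 e3)]
      rcases hmod with hmod | hmod
      · have e4 : ¬ (2 ∣ (Fintype.card F + 1) / 2) := by omega
        have e5 : (2 ∣ (Fintype.card F - 1) / 2) := by omega
        rw [if_pos e4, if_neg (not_not.2 e5)]
        omega
      · have e4 : (2 ∣ (Fintype.card F + 1) / 2) := by omega
        have e5 : ¬ (2 ∣ (Fintype.card F - 1) / 2) := by omega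
        rw [if_neg (not_not.2 e4), if_pos e5]
        omega
    · rw [Cfsg.Agent.S2430.card_SL2' hodd] at hdvd
      have hodd' : ∀ m : ℕ, ℓ ∣ 2 * m → ℓ ∣ m := by
        intro m hm
        rcases (Nat.Prime.dvd_mul hℓ).1 hm with h | h
        · exact absurd ((Nat.prime_dvd_prime_iff_eq hℓ Nat.prime_two).1 h) hℓ2
        · exact h
      have hℓ3 : 3 ≤ ℓ := by
        have := hℓ.two_le
        omega
      rcases (Nat.Prime.dvd_mul hℓ).1 hdvd with hd | hd
      · rcases (Nat.Prime.dvd_mul hℓ).1 hd with hd | hd
        · -- the characteristic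
          obtain ⟨p, hp⟩ := CharP.exists F
          haveI := hp
          haveI : Fact p.Prime := ⟨CharP.char_is_prime F p⟩
          obtain ⟨n, hn⟩ := FiniteField.card F p
          have hℓp : ℓ = p := by
            rw [hn.2] at hd
            exact (Nat.prime_dvd_prime_iff_eq hℓ hn.1).1 (hℓ.dvd_of_dvd_pow hd)
          subst hℓp
          rw [Cfsg.Agent.H9.SL2McKayP.card_pdeg_normalizer hodd ℓ S]
          have e2 : ¬ (ℓ ∣ Fintype.card F + 1) := by
            intro h
            have := (Nat.dvd_add_right hd).1 h
            exact h1 this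
          have e3 : ¬ (ℓ ∣ Fintype.card F - 1) := by
            intro h
            have h' : ℓ ∣ Fintype.card F - (Fintype.card F - 1) := Nat.dvd_sub hd h
            have e : Fintype.card F - (Fintype.card F - 1) = 1 := by omega
            rw [e] at h'
            exact h1 h'
          have e4 : ¬ (ℓ ∣ (Fintype.card F + 1) / 2) := by
            intro h
            apply e2
            rw [← hhalfp]
            exact Dvd.dvd.mul_left h 2
          have e5 : ¬ (ℓ ∣ (Fintype.card F - 1) / 2) := by
            intro h
            apply e3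
            rw [← hhalfm]
            exact Dvd.dvd.mul_left h 2
          rw [if_pos h1, if_neg (not_not.2 hd), if_pos e2, if_pos e3, if_pos e4, if_pos e5]
          omega
        · -- the split torus
          have hq7 : 5 ≤ Fintype.card F := by
            have := Nat.le_of_dvd (by omega) hd
            omega
          have hcD : Nat.card (D : Subgroup (Matrix.SpecialLinearGroup (Fin 2) F))
              = Fintype.card F - 1 := card_D
          have hN := normalizer_D_eq' hodd (by omega : 5 ≤ Fintype.card F)
          rw [Cfsg.Agent.H9.McKayTorus.card_pdeg_normalizer_torus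
            (D : Subgroup (Matrix.SpecialLinearGroup (Fin 2) F)) Cfsg.Agent.S2430.isCyclic_D
            (fun g hg hgg => Cfsg.Agent.S2430.D_cent hodd g hg hgg) ℓ hℓ2 (by rw [hcD]; exact hd)
            (by rw [hcD]; exact Cfsg.Agent.S2430.factorization_split hodd ℓ hℓ2 hd)
            (by rw [hN]; exact index_D_in_M) S, hN, card_conjClasses_M hodd]
          have e1 : ¬ (ℓ ∣ Fintype.card F) := by
            intro h
            have h' : ℓ ∣ Fintype.card F - (Fintype.card F - 1) := Nat.dvd_sub h hd
            have e : Fintype.card F - (Fintype.card F - 1) = 1 := by omega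
            rw [e] at h'
            exact h1 h'
          have e2 : ¬ (ℓ ∣ Fintype.card F + 1) := by
            intro h
            have h' : ℓ ∣ Fintype.card F + 1 - (Fintype.card F - 1) := Nat.dvd_sub h hd
            have e : Fintype.card F + 1 - (Fintype.card F - 1) = 2 := by omega
            rw [e] at h'
            exact hℓ2 ((Nat.prime_dvd_prime_iff_eq hℓ Nat.prime_two).1 h')
          have e4 : ¬ (ℓ ∣ (Fintype.card F + 1) / 2) := by
            intro h
            apply e2
            rw [← hhalfp]
            exact Dvd.dvd.mul_left h 2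
          have e5 : (ℓ ∣ (Fintype.card F - 1) / 2) := by
            apply hodd'
            rw [hhalfm]
            exact hd
          rw [if_pos h1, if_pos e1, if_pos e2, if_neg (not_not.2 hd), if_pos e4,
            if_neg (not_not.2 e5)]
          omega
      · -- the non-split torus
        have hchar : ringChar F ≠ 2 := by
          intro h'
          have := FiniteField.even_card_of_char_two h'
          rw [Nat.odd_iff] at hodd
          omega
        obtain ⟨δ, hδ⟩ := FiniteField.exists_nonsquare hchar
        obtain ⟨g₀, hg₀, hy₀⟩ := exists_nonscalar hδ hodd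
        have hcT := card_Tn hδ hodd g₀ hg₀ hy₀
        have hN := normalizer_eq hδ hodd
        rw [Cfsg.Agent.H9.McKayTorus.card_pdeg_normalizer_torus
          (Tn δ : Subgroup (Matrix.SpecialLinearGroup (Fin 2) F)) (isCyclic_Tn hδ)
          (fun g hg hgg => by
            refine centralizer_eq δ g hg (y_ne_zero hδ g hg ?_ ?_)
            · intro h1
              apply hgg
              have : g = 1 := Subtype.ext h1
              rw [this, mul_one]
            · intro h1
              apply hgg
              have : g = -1 := Subtype.ext h1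
              rw [this]
              simp) ℓ hℓ2 (by rw [hcT]; exact hd)
          (by rw [hcT]; exact Cfsg.Agent.S2430.factorization_nonsplit hodd ℓ hℓ2 hd)
          (by rw [hN]; exact index_Tn_in_Mn hδ hodd) S, hN, card_conjClasses_Mn hδ hodd]
        have e1 : ¬ (ℓ ∣ Fintype.card F) := by
          intro h
          have := (Nat.dvd_add_right h).1 hd
          exact h1 this
        have e3 : ¬ (ℓ ∣ Fintype.card F - 1) := by
          intro h
          have h' : ℓ ∣ Fintype.card F + 1 - (Fintype.card F - 1) := Nat.dvd_sub hd h
          have e : Fintype.card F + 1 - (Fintype.card F - 1) = 2 := by omega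
          rw [e] at h'
          exact hℓ2 ((Nat.prime_dvd_prime_iff_eq hℓ Nat.prime_two).1 h')
        have e4 : (ℓ ∣ (Fintype.card F + 1) / 2) := by
          apply hodd'
          rw [hhalfp]
          exact hd
        have e5 : ¬ (ℓ ∣ (Fintype.card F - 1) / 2) := by
          intro h
          apply e3
          rw [← hhalfm]
          exact Dvd.dvd.mul_left h 2
        rw [if_pos h1, if_pos e1, if_neg (not_not.2 e4), if_neg (not_not.2 hd), if_pos e3,
          if_pos e5]
        omega
  · rw [← hcount']
    exact mckay_of_not_dvd ℓ S hdvd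

end Cfsg.Agent.S2436
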