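import Mathlib
import Cfsg.Statements.S0228
import Cfsg.Agent.Lib.Helper4.Sylow
import Cfsg.Agent.H1.Card

set_option autoImplicit false
open Cfsg

namespace Cfsg.Agent.S0228

open Cfsg.Agent.Lib.Helper4.Sylow

theorem sylow_count {n : ℕ} (h1 : n ∣ 4) (h2 : n % 3 = 1) : n = 1 ∨ n = 4 := by
  have := Nat.le_of_dvd (by norm_num) h1
  interval_cases n <;> omega

/-- normal Sylow `3`-subgroup: a central involution exists -/
theorem case_normal {G : Type*} [Group G] [Finite G] (hG : Nat.card G = 12)
    (h1 : Nat.card (Sylow 3 G) = 1) : ∃ z : G, orderOf z = 2 ∧ z ∈ Subgroup.center G := by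
  have hG12 : Nat.card G = 3 ^ 1 * 4 := by rw [hG]; norm_num
  have hG12' : Nat.card G = 2 ^ 2 * 3 := by rw [hG]; norm_num
  obtain ⟨P⟩ : Nonempty (Sylow 3 G) := inferInstance
  obtain ⟨Q⟩ : Nonempty (Sylow 2 G) := inferInstance
  have hPc : Nat.card P = 3 ^ 1 := card_sylow_of_card_eq hG12 (by norm_num) P
  have hQc : Nat.card Q = 2 ^ 2 := card_sylow_of_card_eq hG12' (by norm_num) Q
  have hsub : Subsingleton (Sylow 3 G) := (Nat.card_eq_one_iff_unique.mp h1).1
  have hPn : (P : Subgroup G).Normal := P.normal_of_subsingleton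
  -- generator of P
  have hp3 : Fact (Nat.Prime 3) := ⟨Nat.prime_three⟩
  obtain ⟨c, hcP, hc1⟩ : ∃ c ∈ (P : Subgroup G), c ≠ 1 := by
    have : (P : Subgroup G) ≠ ⊥ := by
      intro h
      rw [h, Subgroup.card_bot] at hPc
      norm_num at hPc
    obtain ⟨a, ha⟩ := Subgroup.ne_bot_iff_exists_ne_one.mp this
    exact ⟨a, a.2, fun h => ha (Subtype.ext h)⟩
  have hco : orderOf c = 3 := by
    have h1 : orderOf c ∣ 3 := by
      have := Subgroup.orderOf_dvd_natCard _ hcP
      rwa [hPc, pow_one] at this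
    rcases (Nat.dvd_prime Nat.prime_three).mp h1 with h | h
    · exact absurd (orderOf_eq_one_iff.mp h) hc1
    · exact h
  have hPz : (P : Subgroup G) = Subgroup.zpowers c := by
    symm
    apply Subgroup.eq_of_le_of_card_ge
    · rw [Subgroup.zpowers_le]; exact hcP
    · rw [Nat.card_zpowers, hco, hPc, pow_one]
  -- every element conjugates c to c or c⁻¹
  have hconj : ∀ g : G, g * c * g⁻¹ = c ∨ g * c * g⁻¹ = c⁻¹ := by
    intro g
    have hm : g * c * g⁻¹ ∈ Subgroup.zpowers c := by
      rw [← hPz]; exact hPn.conj_mem c hcP g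
    obtain ⟨k, hk⟩ := Subgroup.mem_zpowers_iff.mp hm
    have hk3 : c ^ (k % 3) = c ^ k := by
      have : c ^ (k % (orderOf c : ℤ)) = c ^ k := zpow_mod_orderOf c k
      rwa [hco] at this
    have hlt : 0 ≤ k % 3 ∧ k % 3 < 3 := ⟨Int.emod_nonneg _ (by norm_num), Int.emod_lt_of_pos _ (by norm_num)⟩
    have hc3 : c ^ (3 : ℕ) = 1 := by rw [← hco]; exact pow_orderOf_eq_one c
    have hcases : k % 3 = 0 ∨ k % 3 = 1 ∨ k % 3 = 2 := by omega
    rcases hcases with h | h | h
    · exfalso
      rw [h, zpow_zero] at hk3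
      rw [← hk3] at hk
      apply hc1
      have : c = g⁻¹ * (g * c * g⁻¹) * g := by group
      rw [this, ← hk]; group
    · left
      rw [h, zpow_one] at hk3
      rw [← hk, ← hk3]
    · right
      rw [← hk, ← hk3, h]
      apply eq_inv_of_mul_eq_one_left
      have : c ^ (2 : ℤ) * c = c ^ (3 : ℕ) := by
        rw [show (2 : ℤ) = ((2 : ℕ) : ℤ) from rfl, zpow_natCast, ← pow_succ]
      rw [this, hc3]
  -- the centralizer of c in Q has at least two elements
  have hQab : ∀ a ∈ (Q : Subgroup G), ∀ b ∈ (Q : Subgroup G), a * b = b * a := by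
    have hp2 : Fact (Nat.Prime 2) := ⟨Nat.prime_two⟩
    have hcomm : IsMulCommutative (Q : Subgroup G) := IsPGroup.isMulCommutative_of_card_eq_prime_sq hQc
    intro a ha b hb
    have := hcomm.is_comm.comm (⟨a, ha⟩ : (Q : Subgroup G)) ⟨b, hb⟩
    exact congrArg Subtype.val this
  obtain ⟨z, hzQ, hz1, hzc⟩ : ∃ z ∈ (Q : Subgroup G), z ≠ 1 ∧ z * c * z⁻¹ = c := by
    -- pick q ≠ 1 in Q
    have hQne : (Q : Subgroup G) ≠ ⊥ := by
      intro h
      rw [h, Subgroup.card_bot] at hQc
      norm_num at hQc
    by_contra hcon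
    have hinv : ∀ q ∈ (Q : Subgroup G), q ≠ 1 → q * c * q⁻¹ = c⁻¹ := by
      intro q hq hq1
      rcases hconj q with h | h
      · exact absurd ⟨q, hq, hq1, h⟩ hcon
      · exact h
    -- any two nonidentity elements have product centralizing c, hence product is 1
    have hprod : ∀ q ∈ (Q : Subgroup G), q ≠ 1 → ∀ q' ∈ (Q : Subgroup G), q' ≠ 1 → q * q' = 1 := by
      intro q hq hq1 q' hq' hq'1
      by_contra hne
      have h1 := hinv q hq hq1
      have h2 := hinv q' hq' hq'1
      have h3 := hinv (q * q') (mul_mem hq hq') hne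
      have : q * q' * c * (q * q')⁻¹ = q * (q' * c * q'⁻¹) * q⁻¹ := by group
      rw [this, h2] at h3
      have h4 : q * c⁻¹ * q⁻¹ = (q * c * q⁻¹)⁻¹ := by group
      rw [h4, h1, inv_inv] at h3
      -- c = c⁻¹ → c² = 1, contradiction with order 3
      have : c ^ 2 = 1 := by rw [pow_two]; exact mul_eq_one_iff_eq_inv.mpr h3
      have hd := orderOf_dvd_of_pow_eq_one this
      rw [hco] at hd
      norm_num at hd
    -- then Q has at most 2 elements
    obtain ⟨q, hq1⟩ := Subgroup.ne_bot_iff_exists_ne_one.mp hQne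
    have hqq : ∀ q' : (Q : Subgroup G), q' = 1 ∨ q' = q⁻¹ := by
      intro q'
      by_cases h : q' = 1
      · left; exact h
      · right
        have := hprod q q.2 (fun h => hq1 (Subtype.ext h)) q' q'.2 (fun h' => h (Subtype.ext h'))
        apply Subtype.ext
        exact (eq_inv_of_mul_eq_one_right this)
    have hle : Nat.card (Q : Subgroup G) ≤ 2 := by
      have hfin : Finite (Q : Subgroup G) := inferInstance
      have : (Set.univ : Set (Q : Subgroup G)) ⊆ {1, q⁻¹} := by
        intro x _
        rcases hqq x with h | h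
        · left; exact h
        · right; exact h
      calc Nat.card (Q : Subgroup G) = (Set.univ : Set (Q : Subgroup G)).ncard := by
            rw [Set.ncard_univ]
        _ ≤ ({1, q⁻¹} : Set (Q : Subgroup G)).ncard := Set.ncard_le_ncard this (Set.toFinite _)
        _ ≤ 2 := (Set.ncard_insert_le _ _).trans (by rw [Set.ncard_singleton])
    rw [hQc] at hle
    norm_num at hle
  -- z commutes with P and with Q, hence is central
  have hzcomm : z * c = c * z := by
    have := congrArg (· * z) hzc
    simpa [mul_assoc] using this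
  have hsup : (P : Subgroup G) ⊔ (Q : Subgroup G) = ⊤ := by
    apply Subgroup.eq_top_of_card_eq
    have h1 := Cfsg.Agent.H1.card_sup_mul_card_inf (Q : Subgroup G) (P : Subgroup G)
      (by rw [Subgroup.normalizer_eq_top]; exact le_top)
    have hinf : Nat.card ((Q : Subgroup G) ⊓ (P : Subgroup G) : Subgroup G) = 1 := by
      have d1 : Nat.card ((Q : Subgroup G) ⊓ (P : Subgroup G) : Subgroup G) ∣ 4 := by
        have := Subgroup.card_dvd_of_le (inf_le_left : (Q : Subgroup G) ⊓ (P : Subgroup G) ≤ Q)
        rwa [hQc] at this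
      have d2 : Nat.card ((Q : Subgroup G) ⊓ (P : Subgroup G) : Subgroup G) ∣ 3 := by
        have := Subgroup.card_dvd_of_le (inf_le_right : (Q : Subgroup G) ⊓ (P : Subgroup G) ≤ P)
        rwa [hPc, pow_one] at this
      have := Nat.dvd_gcd d1 d2
      norm_num at this
      exact this
    rw [hinf, mul_one, hQc, hPc] at h1
    rw [sup_comm, h1, hG]
    norm_num
  have hzcen : z ∈ Subgroup.center G := by
    rw [Subgroup.mem_center_iff]
    have hle : (P : Subgroup G) ⊔ (Q : Subgroup G) ≤ Subgroup.centralizer {z} := by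
      apply sup_le
      · rw [hPz, Subgroup.zpowers_le, Subgroup.mem_centralizer_iff]
        intro h hh
        rw [Set.mem_singleton_iff.mp hh]
        exact hzcomm
      · intro q hq
        rw [Subgroup.mem_centralizer_iff]
        intro h hh
        rw [Set.mem_singleton_iff.mp hh]
        exact hQab z hzQ q hq
    intro g
    have hg : g ∈ Subgroup.centralizer {z} := hle (by rw [hsup]; trivial)
    rw [Subgroup.mem_centralizer_iff] at hg
    exact (hg z rfl).symm
  -- some power of z is an involution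
  have hzo : orderOf z ∣ 4 := by
    have := Subgroup.orderOf_dvd_natCard _ hzQ
    rwa [hQc] at this
  have hzo1 : orderOf z ≠ 1 := fun h => hz1 (orderOf_eq_one_iff.mp h)
  have hle4 := Nat.le_of_dvd (by norm_num) hzo
  have hpos : 0 < orderOf z := orderOf_pos z
  have h24 : orderOf z = 2 ∨ orderOf z = 4 := by
    interval_cases (orderOf z) <;> simp_all
  rcases h24 with h | h
  · exact ⟨z, h, hzcen⟩
  · refine ⟨z ^ 2, ?_, Subgroup.pow_mem _ hzcen 2⟩
    rw [orderOf_pow' z (by norm_num), h]
    rfl

/-- four Sylow `3`-subgroups: `G ≅ A₄` -/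
theorem case_four {G : Type*} [Group G] [Finite G] (hG : Nat.card G = 12)
    (h4 : Nat.card (Sylow 3 G) = 4) : Nonempty (G ≃* alternatingGroup (Fin 4)) := by
  classical
  have hG12 : Nat.card G = 3 ^ 1 * 4 := by rw [hG]; norm_num
  have hp3 : Fact (Nat.Prime 3) := ⟨Nat.prime_three⟩
  have hPc : ∀ P : Sylow 3 G, Nat.card P = 3 := fun P => by
    have := card_sylow_of_card_eq hG12 (by norm_num) P
    rwa [pow_one] at this
  have hnorm : ∀ P : Sylow 3 G, Subgroup.normalizer ((P : Subgroup G) : Set G) = P := by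
    intro P
    symm
    apply Subgroup.eq_of_le_of_card_ge Subgroup.le_normalizer
    have h := P.card_eq_index_normalizer
    rw [h4] at h
    have hmul := (Subgroup.normalizer ((P : Subgroup G) : Set G)).card_mul_index
    rw [hG] at hmul
    have h' : (Subgroup.normalizer ((P : Subgroup G) : Set G)).index = 4 := h.symm
    rw [h'] at hmul
    rw [hPc P]
    omega
  have hfin : Fintype (Sylow 3 G) := Fintype.ofFinite _
  obtain ⟨φ, hφ⟩ : ∃ φ : G →* Equiv.Perm (Sylow 3 G), φ = MulAction.toPermHom G (Sylow 3 G) :=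
    ⟨_, rfl⟩
  have hnt : Nontrivial (Sylow 3 G) := by
    rw [← Finite.one_lt_card_iff_nontrivial, h4]; norm_num
  obtain ⟨P, P', hPP'⟩ := exists_pair_ne (Sylow 3 G)
  have hinj : Function.Injective φ := by
    rw [← MonoidHom.ker_eq_bot_iff, eq_bot_iff]
    intro g hg
    rw [MonoidHom.mem_ker] at hg
    have hfix : ∀ R : Sylow 3 G, g • R = R := by
      intro R
      have := congrArg (fun σ : Equiv.Perm (Sylow 3 G) => σ R) hg
      rw [hφ] at this
      exact this
    have hgP : g ∈ (P : Subgroup G) := by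
      rw [← hnorm P]; exact Sylow.smul_eq_iff_mem_normalizer.mp (hfix P)
    have hgP' : g ∈ (P' : Subgroup G) := by
      rw [← hnorm P']; exact Sylow.smul_eq_iff_mem_normalizer.mp (hfix P')
    have hcard : Nat.card ((P : Subgroup G) ⊓ (P' : Subgroup G) : Subgroup G) = 1 := by
      have d : Nat.card ((P : Subgroup G) ⊓ (P' : Subgroup G) : Subgroup G) ∣ 3 := by
        have := Subgroup.card_dvd_of_le (inf_le_left : (P : Subgroup G) ⊓ (P' : Subgroup G) ≤ P)
        rwa [hPc P] at this
      rcases (Nat.dvd_prime Nat.prime_three).mp d with h | h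
      · exact h
      · exfalso
        apply hPP'
        have e1 : (P : Subgroup G) ⊓ (P' : Subgroup G) = P :=
          Subgroup.eq_of_le_of_card_ge inf_le_left (by rw [h, hPc P])
        have e2 : (P : Subgroup G) ⊓ (P' : Subgroup G) = P' :=
          Subgroup.eq_of_le_of_card_ge inf_le_right (by rw [h, hPc P'])
        exact Sylow.ext (e1.symm.trans e2)
    have := Subgroup.card_eq_one.mp hcard
    rw [Subgroup.mem_bot]
    have hm : g ∈ ((P : Subgroup G) ⊓ (P' : Subgroup G) : Subgroup G) := Subgroup.mem_inf.mpr ⟨hgP, hgP'⟩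
    rw [this] at hm
    exact Subgroup.mem_bot.mp hm
  have hrc : Nat.card φ.range = 12 := by
    rw [← Nat.card_congr (MonoidHom.ofInjective hinj).toEquiv, hG]
  have hperm : Nat.card (Equiv.Perm (Sylow 3 G)) = 24 := by
    rw [Nat.card_eq_fintype_card, Fintype.card_perm, ← Nat.card_eq_fintype_card, h4]
    rfl
  have hidx : φ.range.index = 2 := by
    have := φ.range.card_mul_index
    rw [hrc, hperm] at this
    omega
  have hrange : φ.range = alternatingGroup (Sylow 3 G) :=
    Equiv.Perm.eq_alternatingGroup_of_index_eq_two hidx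
  have e1 : G ≃* φ.range := MonoidHom.ofInjective hinj
  have e2 : φ.range ≃* alternatingGroup (Sylow 3 G) := MulEquiv.subgroupCongr hrange
  have e3 : Sylow 3 G ≃ Fin 4 := Fintype.equivFinOfCardEq (by rw [← Nat.card_eq_fintype_card, h4])
  exact ⟨e1.trans (e2.trans e3.altCongrHom)⟩

/-- A group of order 12 in which no involution is central is isomorphic to the alternating group on four letters. -/
theorem result {G : Type*} [Group G] [Finite G] (hG : Nat.card G = 12) (hz : ∀ z : G, orderOf z = 2 → z ∉ Subgroup.center G) : Nonempty (G ≃* alternatingGroup (Fin 4)) := by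
  have hG12 : Nat.card G = 3 ^ 1 * 4 := by rw [hG]; norm_num
  have hp3 : Fact (Nat.Prime 3) := ⟨Nat.prime_three⟩
  have hdvd : Nat.card (Sylow 3 G) ∣ 4 := card_sylow_dvd_of_card_eq hG12 (by norm_num)
  have hmod : Nat.card (Sylow 3 G) ≡ 1 [MOD 3] := card_sylow_modEq_one 3 G
  rcases sylow_count hdvd hmod with h | h
  · obtain ⟨z, hz2, hzc⟩ := case_normal hG h
    exact absurd hzc (hz z hz2)
  · exact case_four hG h

end Cfsg.Agent.S0228
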