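import Mathlib
import Cfsg.Statements.S3377

set_option autoImplicit false
open Cfsg

namespace Cfsg.Agent.S3377

/-- Words in two letters. -/
abbrev Wd := List (Fin 2 × Bool)

/-- A certificate: a list of conjugates `g * r^{±1} * g⁻¹` of relators. -/
abbrev Cert := List (Wd × Fin 3 × Bool)

/-- The three relator words. -/
def relW : Fin 3 → Wd := ![
  [(0, true), (0, true), (0, true)],
  [(1, true), (1, true), (1, true), (1, true), (1, true)],
  [(0, true), (1, true), (0, true), (1, true)]]

/-- The word spelled by a certificate. -/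
def certW : Cert → Wd
  | [] => []
  | (g, k, s) :: C => g ++ ((if s then relW k else FreeGroup.invRev (relW k)) ++
      (FreeGroup.invRev g ++ certW C))

def W : Fin 12 → Wd := ![
  [],
  [(0, true)],
  [(0, true), (0, true)],
  [(0, true), (0, true), (1, true)],
  [(0, true), (0, true), (1, true), (0, true)],
  [(0, true), (0, true), (1, true), (1, true)],
  [(0, true), (0, true), (1, true), (0, true), (0, true)],
  [(0, true), (0, true), (1, true), (1, true), (0, true)],
  [(0, true), (0, true), (1, true), (0, true), (0, true), (1, true)],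
  [(0, true), (0, true), (1, true), (0, true), (0, true), (1, true), (1, true)],
  [(0, true), (0, true), (1, true), (0, true), (0, true), (1, true), (1, true), (0, true)],
  [(0, true), (0, true), (1, true), (0, true), (0, true), (1, true), (1, true), (0, true), (0, true)]]

def nx : Fin 12 → Fin 12 := ![1, 2, 0, 4, 6, 7, 3, 8, 5, 10, 11, 9]

def ax : Fin 12 → ℕ := ![0, 0, 0, 0, 0, 0, 0, 1, 4, 0, 0, 0]

def cx : Fin 12 → Cert := ![
  [],
  [],
  [([], 0, true)],
  [],
  [],
  [],
  [([(0, true), (0, true), (1, true)], 0, true)],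
  [([(1, false), (0, true), (0, true), (1, true), (1, true)], 0, true), ([(1, false)], 0, true), ([], 2, false), ([(0, true)], 1, true), ([(0, true)], 2, false), ([(0, true), (0, true), (1, true), (0, true)], 2, false)],
  [([], 1, false), ([(1, true), (0, true), (0, true), (1, true), (0, true)], 2, true), ([(1, true), (0, true)], 2, true), ([(1, true), (0, true)], 1, false), ([(1, true)], 2, true), ([], 0, false)],
  [],
  [],
  [([(0, true), (0, true), (1, true), (0, true), (0, true), (1, true), (1, true)], 0, true)]]

def ny : Fin 12 → Fin 12 := ![0, 2, 3, 5, 1, 4, 8, 6, 9, 10, 7, 11]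

def ay : Fin 12 → ℕ := ![1, 4, 0, 0, 0, 1, 0, 0, 0, 1, 4, 4]

def cy : Fin 12 → Cert := ![
  [],
  [([], 1, false), ([(1, true)], 2, true), ([], 0, false)],
  [],
  [],
  [([(0, true)], 2, true)],
  [([(1, false)], 0, true), ([], 2, false), ([(0, true)], 1, true), ([(0, true)], 2, false)],
  [],
  [([(0, true), (0, true), (1, true), (1, true)], 2, true), ([(0, true), (0, true), (1, true)], 0, false)],
  [],
  [([(1, false), (0, true), (0, true), (1, true), (0, true), (0, true)], 1, true), ([(1, false), (0, true), (0, true), (1, true)], 0, true), ([(1, false), (0, true), (0, true), (1, true), (1, true)], 2, false), ([(1, false), (0, true), (0, true), (1, true), (1, true), (0, true)], 2, false), ([(1, false), (0, true), (0, true), (1, true), (1, true)], 0, true), ([(1, false)], 0, true), ([], 2, false), ([(0, true)], 1, true), ([(0, true)], 2, false), ([(0, true), (0, true), (1, true), (0, true)], 2, false)],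
  [([], 1, false), ([(1, true), (0, true), (0, true), (1, true), (0, true)], 2, true), ([(1, true), (0, true)], 2, true), ([(1, true), (0, true)], 1, false), ([(1, true)], 2, true), ([], 0, false), ([(0, true), (0, true), (1, true), (1, true)], 0, false), ([(0, true), (0, true), (1, true), (1, true), (0, true)], 2, true)],
  [([], 1, false), ([(1, true), (0, true), (0, true), (1, true), (0, true), (0, true), (1, true), (1, true), (0, true)], 2, true), ([(1, true), (0, true), (0, true), (1, true), (0, true)], 2, true), ([(1, true), (0, true)], 2, true), ([(1, true), (0, true)], 1, false), ([(1, true)], 2, true), ([], 0, false), ([(0, true), (0, true), (1, true), (1, true)], 0, false), ([(0, true), (0, true), (1, true), (1, true), (0, true)], 2, true), ([(0, true), (0, true), (1, true), (1, true)], 2, true), ([(0, true), (0, true), (1, true)], 0, false), ([(0, true), (0, true), (1, true), (0, true), (0, true)], 1, false), ([(0, true), (0, true), (1, true), (0, true), (0, true), (1, true), (1, true)], 0, false)]]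

/-- The coset-table identities, checked in the free group. -/
theorem check_x : ∀ i : Fin 12, FreeGroup.reduce (W i ++ [(0, true)]) =
    FreeGroup.reduce (List.replicate (ax i) (1, true) ++ (certW (cx i) ++ W (nx i))) := by
  decide +kernel

theorem check_y : ∀ i : Fin 12, FreeGroup.reduce (W i ++ [(1, true)]) =
    FreeGroup.reduce (List.replicate (ay i) (1, true) ++ (certW (cy i) ++ W (ny i))) := by
  decide +kernel

section General

variable {G : Type*} [Group G] (x y : G)

/-- Evaluation of a word at `x, y`. -/
def ev (L : Wd) : G := FreeGroup.lift ![x, y] (FreeGroup.mk L)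

theorem ev_nil : ev x y [] = 1 := by
  simp [ev, FreeGroup.lift_mk]

theorem ev_append (L₁ L₂ : Wd) : ev x y (L₁ ++ L₂) = ev x y L₁ * ev x y L₂ := by
  unfold ev
  rw [← FreeGroup.mul_mk, map_mul]

theorem ev_invRev (L : Wd) : ev x y (FreeGroup.invRev L) = (ev x y L)⁻¹ := by
  unfold ev
  rw [← FreeGroup.inv_mk, map_inv]

theorem ev_congr {L₁ L₂ : Wd} (h : FreeGroup.reduce L₁ = FreeGroup.reduce L₂) :
    ev x y L₁ = ev x y L₂ := by
  unfold ev
  rw [FreeGroup.reduce.exact h]

theorem ev_x : ev x y [(0, true)] = x := by
  simp [ev, FreeGroup.lift_mk]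

theorem ev_y : ev x y [(1, true)] = y := by
  simp [ev, FreeGroup.lift_mk]

theorem ev_replicate (a : ℕ) : ev x y (List.replicate a (1, true)) = y ^ a := by
  induction a with
  | zero => simp [ev_nil]
  | succ a ih =>
    rw [List.replicate_succ, ← List.singleton_append, ev_append, ih, ev_y, pow_succ']

variable (hx : x ^ 3 = 1) (hy : y ^ 5 = 1) (hxy : (x * y) ^ 2 = 1)

include hx hy hxy

theorem ev_relW (k : Fin 3) : ev x y (relW k) = 1 := by
  fin_cases k
  · simp only [relW, ev, FreeGroup.lift_mk]
    simp
    rw [← hx]; simp [pow_succ, mul_assoc]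
  · simp only [relW, ev, FreeGroup.lift_mk]
    simp
    rw [← hy]; simp [pow_succ, mul_assoc]
  · simp only [relW, ev, FreeGroup.lift_mk]
    simp
    rw [← hxy]; simp [pow_succ, mul_assoc]

theorem ev_certW (C : Cert) : ev x y (certW C) = 1 := by
  induction C with
  | nil => simp [certW, ev_nil]
  | cons c C ih =>
    obtain ⟨g, k, s⟩ := c
    simp only [certW]
    rw [ev_append, ev_append, ev_append, ev_invRev, ih]
    have : ev x y (if s then relW k else FreeGroup.invRev (relW k)) = 1 := by
      cases s
      · simp [ev_invRev, ev_relW x y hx hy hxy]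
      · simp [ev_relW x y hx hy hxy]
    rw [this]
    simp

theorem step_x (i : Fin 12) : ev x y (W i) * x = y ^ (ax i) * ev x y (W (nx i)) := by
  have := ev_congr x y (check_x i)
  rw [ev_append, ev_x, ev_append, ev_append, ev_replicate, ev_certW x y hx hy hxy, one_mul] at this
  exact this

theorem step_y (i : Fin 12) : ev x y (W i) * y = y ^ (ay i) * ev x y (W (ny i)) := by
  have := ev_congr x y (check_y i)
  rw [ev_append, ev_y, ev_append, ev_append, ev_replicate, ev_certW x y hx hy hxy, one_mul] at this
  exact this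

/-- The enumeration map. -/
def enum (p : Fin 5 × Fin 12) : G := y ^ (p.1 : ℕ) * ev x y (W p.2)

omit hx hxy in
theorem pow_mul_mem_range (a : ℕ) (j : Fin 12) : y ^ a * ev x y (W j) ∈ Set.range (enum x y) := by
  refine ⟨(⟨a % 5, Nat.mod_lt _ (by norm_num)⟩, j), ?_⟩
  simp only [enum]
  rw [← pow_eq_pow_mod a hy]

theorem range_mul_x (s : G) (hs : s ∈ Set.range (enum x y)) : s * x ∈ Set.range (enum x y) := by
  obtain ⟨⟨k, i⟩, rfl⟩ := hs
  simp only [enum]
  rw [mul_assoc, step_x x y hx hy hxy, ← mul_assoc, ← pow_add]
  exact pow_mul_mem_range x y hy _ _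

theorem range_mul_y (s : G) (hs : s ∈ Set.range (enum x y)) : s * y ∈ Set.range (enum x y) := by
  obtain ⟨⟨k, i⟩, rfl⟩ := hs
  simp only [enum]
  rw [mul_assoc, step_y x y hx hy hxy, ← mul_assoc, ← pow_add]
  exact pow_mul_mem_range x y hy _ _

theorem enum_surjective (hgen : Subgroup.closure ({x, y} : Set G) = ⊤) :
    Function.Surjective (enum x y) := by
  have hxinv : x⁻¹ = x * x := by
    apply inv_eq_of_mul_eq_one_right
    rw [← hx]; simp [pow_succ, mul_assoc]
  have hyinv : y⁻¹ = y * y * y * y := by
    apply inv_eq_of_mul_eq_one_right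
    rw [← hy]; simp [pow_succ, mul_assoc]
  have key : ∀ g : G, ∀ s ∈ Set.range (enum x y),
      s * g ∈ Set.range (enum x y) ∧ s * g⁻¹ ∈ Set.range (enum x y) := by
    intro g
    have hg : g ∈ Subgroup.closure ({x, y} : Set G) := by rw [hgen]; trivial
    induction hg using Subgroup.closure_induction with
    | mem g hg =>
      intro s hs
      simp only [Set.mem_insert_iff, Set.mem_singleton_iff] at hg
      rcases hg with hg | hg
      · rw [hg]
        refine ⟨range_mul_x x y hx hy hxy s hs, ?_⟩
        rw [hxinv, ← mul_assoc]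
        exact range_mul_x x y hx hy hxy _ (range_mul_x x y hx hy hxy s hs)
      · rw [hg]
        refine ⟨range_mul_y x y hx hy hxy s hs, ?_⟩
        rw [hyinv, ← mul_assoc, ← mul_assoc, ← mul_assoc]
        exact range_mul_y x y hx hy hxy _ (range_mul_y x y hx hy hxy _
          (range_mul_y x y hx hy hxy _ (range_mul_y x y hx hy hxy s hs)))
    | one =>
      intro s hs
      simpa using hs
    | mul a b _ _ iha ihb =>
      intro s hs
      refine ⟨?_, ?_⟩
      · rw [← mul_assoc]
        exact (ihb _ (iha s hs).1).1
      · rw [mul_inv_rev, ← mul_assoc]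
        exact (iha _ (ihb s hs).2).2
    | inv a _ iha =>
      intro s hs
      refine ⟨(iha s hs).2, ?_⟩
      rw [inv_inv]
      exact (iha s hs).1
  intro g
  have h1 : (1 : G) ∈ Set.range (enum x y) := by
    refine ⟨(0, 0), ?_⟩
    simp [enum, W, ev_nil]
  have := (key g 1 h1).1
  rwa [one_mul] at this

theorem finite_and_card_le (hgen : Subgroup.closure ({x, y} : Set G) = ⊤) :
    Finite G ∧ Nat.card G ≤ 60 := by
  have hs := enum_surjective x y hx hy hxy hgen
  have hfin : Finite G := Finite.of_surjective _ hs
  refine ⟨hfin, ?_⟩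
  have := Nat.card_le_card_of_surjective _ hs
  simpa using this

end General

/-- The relators. -/
abbrev R : Set (FreeGroup (Fin 2)) := {FreeGroup.of (0 : Fin 2) ^ 3, FreeGroup.of (1 : Fin 2) ^ 5,
        (FreeGroup.of (0 : Fin 2) * FreeGroup.of 1) ^ 2}

theorem closure_P : Subgroup.closure
    ({PresentedGroup.of 0, PresentedGroup.of 1} : Set (PresentedGroup R)) = ⊤ := by
  rw [← PresentedGroup.closure_range_of]
  congr 1
  ext g
  constructor
  · rintro (rfl | rfl)
    · exact ⟨0, rfl⟩
    · exact ⟨1, rfl⟩
  · rintro ⟨i, rfl⟩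
    fin_cases i
    · left; rfl
    · right; rfl

theorem P_finite_card : Finite (PresentedGroup R) ∧ Nat.card (PresentedGroup R) ≤ 60 := by
  refine finite_and_card_le (PresentedGroup.of 0) (PresentedGroup.of 1) ?_ ?_ ?_ closure_P
  · have : (PresentedGroup.mk R) (FreeGroup.of (0 : Fin 2) ^ 3) = 1 :=
      PresentedGroup.one_of_mem (by simp)
    rwa [map_pow] at this
  · have : (PresentedGroup.mk R) (FreeGroup.of (1 : Fin 2) ^ 5) = 1 :=
      PresentedGroup.one_of_mem (by simp)
    rwa [map_pow] at this
  · have : (PresentedGroup.mk R) ((FreeGroup.of (0 : Fin 2) * FreeGroup.of 1) ^ 2) = 1 :=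
      PresentedGroup.one_of_mem (by simp)
    rwa [map_pow, map_mul] at this

/-- A `3`-cycle in `A₅`. -/
def px : Equiv.Perm (Fin 5) := Equiv.swap 0 1 * Equiv.swap 1 2

/-- A `5`-cycle in `A₅`. -/
def py : Equiv.Perm (Fin 5) := Equiv.swap 0 2 * Equiv.swap 2 4 * Equiv.swap 4 1 * Equiv.swap 1 3

theorem px_mem : px ∈ alternatingGroup (Fin 5) := by
  rw [Equiv.Perm.mem_alternatingGroup]; decide

theorem py_mem : py ∈ alternatingGroup (Fin 5) := by
  rw [Equiv.Perm.mem_alternatingGroup]; decide

/-- `px` as an element of `A₅`. -/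
def ax' : alternatingGroup (Fin 5) := ⟨px, px_mem⟩

/-- `py` as an element of `A₅`. -/
def ay' : alternatingGroup (Fin 5) := ⟨py, py_mem⟩

theorem ax'_pow : ax' ^ 3 = 1 := by
  apply Subtype.ext
  simp only [ax', Subgroup.coe_pow, Subgroup.coe_one]
  decide

theorem ay'_pow : ay' ^ 5 = 1 := by
  apply Subtype.ext
  simp only [ay', Subgroup.coe_pow, Subgroup.coe_one]
  decide

theorem axy'_pow : (ax' * ay') ^ 2 = 1 := by
  apply Subtype.ext
  simp only [ax', ay', Subgroup.coe_pow, Subgroup.coe_one, Subgroup.coe_mul]
  decide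

theorem ax'_ne : ax' ≠ 1 := by
  intro h
  have := congrArg Subtype.val h
  simp only [ax', Subgroup.coe_one] at this
  revert this
  decide

theorem ay'_ne : ay' ≠ 1 := by
  intro h
  have := congrArg Subtype.val h
  simp only [ay', Subgroup.coe_one] at this
  revert this
  decide

theorem axy'_ne : ax' * ay' ≠ 1 := by
  intro h
  have := congrArg Subtype.val h
  simp only [ax', ay', Subgroup.coe_one, Subgroup.coe_mul] at this
  revert this
  decide

theorem lift_rel : ∀ r ∈ R, FreeGroup.lift ![ax', ay'] r = 1 := by
  intro r hr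
  rcases hr with rfl | rfl | rfl
  · simp [ax'_pow]
  · simp [ay'_pow]
  · simp [axy'_pow]

/-- The homomorphism onto `A₅`. -/
def phi : PresentedGroup R →* alternatingGroup (Fin 5) := PresentedGroup.toGroup lift_rel

theorem phi_x : phi (PresentedGroup.of 0) = ax' := by
  simp [phi, PresentedGroup.toGroup.of]

theorem phi_y : phi (PresentedGroup.of 1) = ay' := by
  simp [phi, PresentedGroup.toGroup.of]

theorem phi_surjective : Function.Surjective phi := by
  rw [← MonoidHom.range_eq_top]
  have hcard : Nat.card (alternatingGroup (Fin 5)) = 60 := by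
    rw [nat_card_alternatingGroup]; simp [Nat.factorial]
  have hxm : ax' ∈ phi.range := ⟨_, phi_x⟩
  have hym : ay' ∈ phi.range := ⟨_, phi_y⟩
  have hxym : ax' * ay' ∈ phi.range := mul_mem hxm hym
  have h3 : 3 ∣ Nat.card phi.range := by
    have := Subgroup.orderOf_dvd_natCard _ hxm
    rwa [orderOf_eq_prime ax'_pow ax'_ne] at this
  have h5 : 5 ∣ Nat.card phi.range := by
    have hp5 : Fact (Nat.Prime 5) := ⟨by norm_num⟩
    have := Subgroup.orderOf_dvd_natCard _ hym
    rwa [orderOf_eq_prime ay'_pow ay'_ne] at this
  have h2 : 2 ∣ Nat.card phi.range := by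
    have := Subgroup.orderOf_dvd_natCard _ hxym
    rwa [orderOf_eq_prime axy'_pow axy'_ne] at this
  have hdvd : Nat.card phi.range ∣ 60 := hcard ▸ Subgroup.card_subgroup_dvd_card _
  have hci := phi.range.card_mul_index
  rw [hcard] at hci
  have h30 : 30 ∣ Nat.card phi.range := by omega
  obtain ⟨t, ht⟩ := h30
  have hidx : phi.range.index = 1 ∨ phi.range.index = 2 := by
    rw [ht] at hci
    have : t * phi.range.index = 2 := by
      have : 30 * (t * phi.range.index) = 30 * 2 := by rw [← mul_assoc, hci]
      exact Nat.eq_of_mul_eq_mul_left (by norm_num) this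
    have h1 : phi.range.index ∣ 2 := Dvd.intro_left _ this
    have h2 := Nat.le_of_dvd (by norm_num) h1
    have h3 : phi.range.index ≠ 0 := by
      intro h0; rw [h0] at this; omega
    omega
  rcases hidx with h1 | h2'
  · exact Subgroup.index_eq_one.mp h1
  · have hn : phi.range.Normal := Subgroup.normal_of_index_eq_two h2'
    have hs : IsSimpleGroup (alternatingGroup (Fin 5)) := alternatingGroup.isSimpleGroup (by simp)
    rcases hn.eq_bot_or_eq_top with hb | ht'
    · exfalso
      rw [hb] at hxm
      exact ax'_ne (Subgroup.mem_bot.mp hxm)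
    · exact ht'

/-- The alternating group of degree 5 has the presentation ⟨x, y | x³ = 1, y⁵ = 1, (xy)² = 1⟩: the group so presented is isomorphic to Alt(5). -/
theorem result :
    Nonempty (PresentedGroup ({FreeGroup.of (0 : Fin 2) ^ 3, FreeGroup.of (1 : Fin 2) ^ 5,
        (FreeGroup.of (0 : Fin 2) * FreeGroup.of 1) ^ 2} : Set (FreeGroup (Fin 2))) ≃* alternatingGroup (Fin 5)) := by
  obtain ⟨hfin, hle⟩ := P_finite_card
  have hcard : Nat.card (alternatingGroup (Fin 5)) = 60 := by
    rw [nat_card_alternatingGroup]; simp [Nat.factorial]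
  have hbij : Function.Bijective phi :=
    phi_surjective.bijective_of_nat_card_le (by rw [hcard]; exact hle)
  exact ⟨MulEquiv.ofBijective phi hbij⟩

end Cfsg.Agent.S3377
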