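import Cfsg.Statements.S0804
import Mathlib
import Cfsg.Agent.H9.A5inPSL2

set_option autoImplicit false
open Cfsg

namespace Cfsg.Agent.S0804

theorem card_SL2_gen {F : Type*} [Field F] [Fintype F] :
    Nat.card (Matrix.SpecialLinearGroup (Fin 2) F) = Fintype.card F * (Fintype.card F ^ 2 - 1) := by
  have := Cfsg.Agent.S0242.result (F := F) rfl 2 (by norm_num)
  rw [Fin.prod_univ_two] at this
  simp only [Fin.val_zero, pow_zero, Fin.val_one, pow_one] at this
  have hq : 1 < Fintype.card F := Fintype.one_lt_card
  obtain ⟨n, hn⟩ : ∃ n, Fintype.card F = n + 1 := ⟨Fintype.card F - 1, by omega⟩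
  rw [hn] at this ⊢
  simp only [Nat.add_sub_cancel] at this
  have e2 : (n + 1) ^ 2 - (n + 1) = (n + 1) * n := by
    have : (n + 1) ^ 2 = (n + 1) * n + (n + 1) := by ring
    rw [this, Nat.add_sub_cancel]
  rw [e2] at this
  have hpos : 0 < n := by omega
  apply Nat.eq_of_mul_eq_mul_left hpos
  rw [this]
  ring

/-- PSL_2(q) has a subgroup isomorphic to A_5 iff 5 ∣ q(q² − 1). -/
theorem result {F : Type*} [Field F] [Fintype F] {q : ℕ} (hF : Fintype.card F = q) : (∃ H : Subgroup (Matrix.ProjectiveSpecialLinearGroup (Fin 2) F), Nonempty (H ≃* alternatingGroup (Fin 5))) ↔ 5 ∣ q * (q ^ 2 - 1) := by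
  classical
  subst hF
  constructor
  · rintro ⟨H, ⟨e⟩⟩
    have hcardH : Nat.card H = 60 := by
      rw [Nat.card_congr e.toEquiv, nat_card_alternatingGroup, Nat.card_fin]
      rfl
    have h1 : 60 ∣ Nat.card (Matrix.ProjectiveSpecialLinearGroup (Fin 2) F) := by
      rw [← hcardH]
      exact Subgroup.card_subgroup_dvd_card H
    have h2 := Subgroup.card_eq_card_quotient_mul_card_subgroup
      (Subgroup.center (Matrix.SpecialLinearGroup (Fin 2) F))
    rw [card_SL2_gen] at h2
    rw [h2]
    have h5 : 5 ∣ Nat.card (Matrix.ProjectiveSpecialLinearGroup (Fin 2) F) :=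
      Dvd.dvd.trans (by norm_num) h1
    exact Dvd.dvd.mul_right h5 _
  · intro h5
    by_cases h2 : (2 : F) = 0
    · haveI : CharP F 2 := CharTwo.of_one_ne_zero_of_two_eq_zero one_ne_zero h2
      obtain ⟨n, -, hn⟩ := FiniteField.card F 2
      have hq2 : 5 ∣ Fintype.card F ^ 2 - 1 := by
        rcases (Nat.Prime.dvd_mul (by norm_num : Nat.Prime 5)).1 h5 with h | h
        · exfalso
          rw [hn] at h
          have := (Nat.Prime.dvd_of_dvd_pow (by norm_num : Nat.Prime 5) h)
          omega
        · exact h
      have hneven : Even (n : ℕ) := by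
        rw [← Nat.not_odd_iff_even]
        rintro ⟨k, hk⟩
        rw [hn, hk, ← pow_mul] at hq2
        have h4 : 2 ^ ((2 * k + 1) * 2) % 5 = 4 := by
          have : (2 * k + 1) * 2 = 4 * k + 2 := by ring
          rw [this, pow_add, pow_mul, Nat.mul_mod, Nat.pow_mod]
          norm_num
        have hpos : 0 < 2 ^ ((2 * k + 1) * 2) := by positivity
        omega
      have hdvd : 3 ∣ Fintype.card Fˣ := by
        rw [Fintype.card_units, hn]
        obtain ⟨k, hk⟩ := hneven
        rw [hk]
        have h4 : 2 ^ (k + k) % 3 = 1 := by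
          rw [← two_mul, pow_mul, Nat.pow_mod]
          norm_num
        have hpos : 0 < 2 ^ (k + k) := by positivity
        omega
      haveI : Fact (Nat.Prime 3) := ⟨Nat.prime_three⟩
      obtain ⟨x, hx⟩ := exists_prime_orderOf_dvd_card 3 hdvd
      have hx3 : (x : F) ^ 3 = 1 := by
        have : x ^ 3 = 1 := by rw [← hx]; exact pow_orderOf_eq_one x
        have := congrArg Units.val this
        simpa using this
      have hx1 : (x : F) ≠ 1 := by
        intro h
        have : x = 1 := Units.ext h
        rw [this, orderOf_one] at hx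
        omega
      have hω : (x : F) ^ 2 + (x : F) + 1 = 0 := by
        have : ((x : F) - 1) * ((x : F) ^ 2 + (x : F) + 1) = 0 := by linear_combination hx3
        rcases mul_eq_zero.1 this with h | h
        · exact absurd (sub_eq_zero.1 h) hx1
        · exact h
      exact Cfsg.Agent.H9.A5inPSL2.exists_A5_even h2 (x : F) hω
    · have hodd : Odd (Fintype.card F) := by
        rw [Nat.odd_iff]
        apply FiniteField.odd_card_of_char_ne_two
        intro h'
        apply h2
        have := CharP.cast_eq_zero F (ringChar F)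
        rw [h'] at this
        exact_mod_cast this
      exact Cfsg.Agent.H9.A5inPSL2.exists_A5_odd hodd h5

end Cfsg.Agent.S0804
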