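import Mathlib
import Cfsg.Statements.S1181
import Cfsg.Agent.H2.Isolated

set_option autoImplicit false
open Cfsg

namespace Cfsg.Agent.S1181

/-- Let z be an isolated involution of the finite group G and N a normal subgroup with z ∉ N. Then the centralizer of zN in G/N is the image of C_G(z), and zN is an isolated involution of G/N. -/
theorem result {G : Type*} [Group G] [Finite G] (z : G) (hz : Cfsg.IsIsolatedInvolution z) (N : Subgroup G) [N.Normal] (hzN : z ∉ N) : Subgroup.centralizer ({(QuotientGroup.mk z : G ⧸ N)} : Set (G ⧸ N)) = (Subgroup.centralizer ({z} : Set G)).map (QuotientGroup.mk' N) ∧ Cfsg.IsIsolatedInvolution (QuotientGroup.mk z : G ⧸ N) := by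
  have hzz := Cfsg.Agent.H2.IsIsolatedInvolution.mul_self hz
  have hz' : z⁻¹ = z := inv_eq_of_mul_eq_one_left hzz
  constructor
  · ext x
    rw [Subgroup.mem_centralizer_singleton_iff, Subgroup.mem_map]
    constructor
    · intro hx
      obtain ⟨g, rfl⟩ := QuotientGroup.mk_surjective x
      obtain ⟨j, hj⟩ := Cfsg.Agent.H2.IsIsolatedInvolution.exists_pow_conj hz g
      have hrN : g * z * g⁻¹ * z ∈ N := by
        rw [← QuotientGroup.eq_one_iff]
        have h1 : ((g * z * g⁻¹ * z : G) : G ⧸ N) = (g : G ⧸ N) * (z : G ⧸ N) * (g : G ⧸ N)⁻¹ * (z : G ⧸ N) := by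
          simp
        rw [h1, hx]
        have h2 : (z : G ⧸ N) * (z : G ⧸ N) = 1 := by
          rw [← QuotientGroup.mk_mul, hzz]; rfl
        rw [mul_assoc ((z : G ⧸ N)), mul_inv_cancel, mul_one, h2]
      set r := g * z * g⁻¹ * z with hr
      clear_value r
      refine ⟨(r ^ j)⁻¹ * g, ?_, ?_⟩
      · rw [Subgroup.mem_centralizer_singleton_iff]
        calc (r ^ j)⁻¹ * g * z = (r ^ j)⁻¹ * (g * z * g⁻¹) * g := by group
          _ = (r ^ j)⁻¹ * (r ^ j * z * (r ^ j)⁻¹) * g := by rw [hj]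
          _ = z * ((r ^ j)⁻¹ * g) := by group
      · have : (r ^ j)⁻¹ ∈ N := N.inv_mem (N.pow_mem hrN j)
        show (((r ^ j)⁻¹ * g : G) : G ⧸ N) = (g : G ⧸ N)
        rw [QuotientGroup.mk_mul, (QuotientGroup.eq_one_iff _).2 this, one_mul]
    · rintro ⟨c, hc, rfl⟩
      rw [Subgroup.mem_centralizer_singleton_iff] at hc
      show ((c : G) : G ⧸ N) * (z : G ⧸ N) = (z : G ⧸ N) * ((c : G) : G ⧸ N)
      rw [← QuotientGroup.mk_mul, ← QuotientGroup.mk_mul, hc]
  · have h2 : (z : G ⧸ N) * (z : G ⧸ N) = 1 := by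
      rw [← QuotientGroup.mk_mul, hzz]; rfl
    refine ⟨?_, ?_⟩
    · haveI : Fact (Nat.Prime 2) := ⟨Nat.prime_two⟩
      apply orderOf_eq_prime
      · rw [pow_two]; exact h2
      · intro h
        exact hzN ((QuotientGroup.eq_one_iff z).1 h)
    · intro x hx
      obtain ⟨g, rfl⟩ := QuotientGroup.mk_surjective x
      have hodd := Cfsg.Agent.H2.IsIsolatedInvolution.odd_orderOf_conj_mul hz g
      set w : G ⧸ N := (g : G ⧸ N) * (z : G ⧸ N) * (g : G ⧸ N)⁻¹ with hw
      have hw2 : w * w = 1 := by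
        rw [hw]
        calc (g : G ⧸ N) * (z : G ⧸ N) * (g : G ⧸ N)⁻¹ * ((g : G ⧸ N) * (z : G ⧸ N) * (g : G ⧸ N)⁻¹)
            = (g : G ⧸ N) * ((z : G ⧸ N) * (z : G ⧸ N)) * (g : G ⧸ N)⁻¹ := by group
          _ = 1 := by rw [h2]; group
      have hrw : ((g * z * g⁻¹ * z : G) : G ⧸ N) = w * (z : G ⧸ N) := by
        rw [hw]; simp
      clear_value w
      -- (w z)^2 = 1
      have hsq : (w * (z : G ⧸ N)) ^ 2 = 1 := by
        rw [hx.symm.mul_pow, pow_two, pow_two, hw2, h2, one_mul]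
      have hn : (w * (z : G ⧸ N)) ^ orderOf (g * z * g⁻¹ * z) = 1 := by
        rw [← hrw, ← QuotientGroup.mk_pow, pow_orderOf_eq_one]; rfl
      have hd1 := orderOf_dvd_of_pow_eq_one hsq
      have hd2 := orderOf_dvd_of_pow_eq_one hn
      have hd3 : orderOf (w * (z : G ⧸ N)) ∣ Nat.gcd 2 (orderOf (g * z * g⁻¹ * z)) :=
        Nat.dvd_gcd hd1 hd2
      have hcop : Nat.gcd 2 (orderOf (g * z * g⁻¹ * z)) = 1 := by
        rw [← Nat.coprime_iff_gcd_eq_one]
        exact (Odd.coprime_two_right hodd).symm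
      rw [hcop, Nat.dvd_one, orderOf_eq_one_iff] at hd3
      have hzinv : (z : G ⧸ N)⁻¹ = (z : G ⧸ N) := inv_eq_of_mul_eq_one_left h2
      calc w = w * (z : G ⧸ N) * (z : G ⧸ N)⁻¹ := by group
        _ = (z : G ⧸ N) := by rw [hd3, one_mul, hzinv]

end Cfsg.Agent.S1181
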