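import Mathlib
import Cfsg.Statements.S0942
import Cfsg.Agent.Lib.helper3.PrincSection
import Cfsg.Agent.Lib.Lead.PiCore

set_option autoImplicit false
open Cfsg

namespace Cfsg.Agent.S0942

set_option linter.style.haveILetI false

open Cfsg Cfsg.Agent.Lib.helper3.Block Cfsg.Agent.Lib.helper3.LocalM Cfsg.Agent.Lib.helper3.Irr Cfsg.Agent.Lib.helper3.CharBasic

/-- Let u be a p-element of the finite group G, let v lie in the largest normal subgroup of C_G(u) of order prime to p, and let χ belong to the principal block (relative to a maximal ideal M of the algebraic integers containing p). Then χ (u * v) = χ u. -/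
theorem result {G : Type*} [Group G] [Finite G] (p : ℕ) [Fact p.Prime] (M : Ideal Cfsg.AlgInt) (hM : Cfsg.IsPModular p M) (u : G) (hu : ∃ k : ℕ, orderOf u = p ^ k) (v : G) (hv : v ∈ Cfsg.centralizerPPrimeCore p u) (χ : Cfsg.IrrCharacter G) (hχ : χ ∈ Cfsg.principalBlock M G) : (χ : G → ℂ) (u * v) = (χ : G → ℂ) u := by
  classical
  letI : Fintype G := Fintype.ofFinite G
  letI : Fintype (Subgroup.centralizer ({u} : Set G)) := Fintype.ofFinite _
  have hp : p.Prime := Fact.out
  obtain ⟨k, hk⟩ := hu
  unfold Cfsg.centralizerPPrimeCore at hv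
  obtain ⟨v', hv', rfl⟩ := Subgroup.mem_map.mp hv
  have hcop := Cfsg.Agent.Lib.Lead.PiCore.pPrimeCore_coprime
    (G := Subgroup.centralizer ({u} : Set G)) hp
  haveI := Cfsg.Agent.Lib.Lead.PiCore.pPrimeCore_normal
    (G := Subgroup.centralizer ({u} : Set G)) p
  have hv'reg : ¬ p ∣ orderOf v' := by
    intro h
    have h1 : orderOf v' ∣ Nat.card (pPrimeCore p (Subgroup.centralizer ({u} : Set G))) :=
      Subgroup.orderOf_dvd_natCard _ hv'
    have := Nat.Coprime.eq_one_of_dvd hcop.symm (dvd_trans h h1)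
    exact hp.one_lt.ne' this
  have h1 := principal_section hM u k hk χ v' hv'reg
  have h2 := principal_section hM u k hk χ 1 (by rw [orderOf_one]; exact hp.not_dvd_one)
  rw [if_pos hχ] at h1 h2
  have h3 : (χ : G → ℂ) (u * ((1 : Subgroup.centralizer ({u} : Set G)) : G)) = (χ : G → ℂ) u := by
    simp
  show (χ : G → ℂ) (u * (v' : G)) = (χ : G → ℂ) u
  rw [← h1, ← h3, ← h2]
  apply Finset.sum_congr rfl
  intro ψ _
  by_cases hψ : ψ ∈ principalBlock M (Subgroup.centralizer ({u} : Set G))
  · rw [apply_eq_of_mem_normal_coprime hM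
      (pPrimeCore p (Subgroup.centralizer ({u} : Set G))) hcop ψ hψ v' hv']
  · rw [if_neg hψ, zero_mul, zero_mul]


end Cfsg.Agent.S0942
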