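import Mathlib
import Cfsg.Statements.S0943
import Cfsg.Agent.Lib.helper3.ClassMul

set_option autoImplicit false
open Cfsg

namespace Cfsg.Agent.S0943

/-- Let χ be an irreducible character of the finite group G and u, v ∈ G. If χ (x * y) = χ (u * v) whenever x is conjugate to u and y is conjugate to v, then χ u * χ v = χ 1 * χ (u * v). (Multiply the class sums of u and v and apply the central character of χ.) -/
theorem result {G : Type*} [Group G] [Finite G] (χ : Cfsg.IrrCharacter G) (u v : G) (hc : ∀ x y : G, IsConj u x → IsConj v y → (χ : G → ℂ) (x * y) = (χ : G → ℂ) (u * v)) : (χ : G → ℂ) u * (χ : G → ℂ) v = (χ : G → ℂ) 1 * (χ : G → ℂ) (u * v) := by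
  classical
  let _ : Fintype G := Fintype.ofFinite G
  open Cfsg.Agent.Lib.helper3.Central in
  have h := sum_irr_mul χ.2 u v
  open Cfsg.Agent.Lib.helper3.Central in
  have h2 : ∑ x ∈ cls u, ∑ y ∈ cls v, (χ : G → ℂ) (x * y)
      = ((cls u).card : ℂ) * ((cls v).card : ℂ) * (χ : G → ℂ) (u * v) := by
    have : ∀ x ∈ cls u, ∑ y ∈ cls v, (χ : G → ℂ) (x * y)
        = ((cls v).card : ℂ) * (χ : G → ℂ) (u * v) := by
      intro x hx
      rw [Finset.sum_congr rfl (fun y hy => hc x y (mem_cls.mp hx) (mem_cls.mp hy))]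
      rw [Finset.sum_const, nsmul_eq_mul]
    rw [Finset.sum_congr rfl this, Finset.sum_const, nsmul_eq_mul]
    ring
  rw [h2] at h
  obtain ⟨n, hn, hn1⟩ := Cfsg.Agent.Lib.helper3.Irr.exists_pos_nat_apply_one χ.2
  have hχ1 : (χ : G → ℂ) 1 ≠ 0 := by
    rw [hn1]
    exact_mod_cast hn.ne'
  open Cfsg.Agent.Lib.helper3.Central in
  have hu : ((cls u).card : ℂ) ≠ 0 := by
    have : u ∈ cls u := mem_cls.mpr (IsConj.refl u)
    exact_mod_cast (Finset.card_pos.mpr ⟨u, this⟩).ne'
  open Cfsg.Agent.Lib.helper3.Central in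
  have hv : ((cls v).card : ℂ) ≠ 0 := by
    have : v ∈ cls v := mem_cls.mpr (IsConj.refl v)
    exact_mod_cast (Finset.card_pos.mpr ⟨v, this⟩).ne'
  field_simp at h
  rw [← h]; ring

end Cfsg.Agent.S0943
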