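import Mathlib
import Cfsg.Statements.S1182
import Cfsg.Agent.H2.Isolated

set_option autoImplicit false
open Cfsg

namespace Cfsg.Agent.S1182

/-- Let z be an isolated involution of the finite group G and H a subgroup normalized by z. If x, y ∈ H both commute with z and y = h x h⁻¹ for some h ∈ H, then y = c x c⁻¹ for some c ∈ H commuting with z. -/
theorem result {G : Type*} [Group G] [Finite G] (z : G) (hz : Cfsg.IsIsolatedInvolution z) (H : Subgroup G) (hzH : z ∈ Subgroup.normalizer (H : Set G)) (x y : G) (hx : x ∈ H) (hy : y ∈ H) (hxz : Commute x z) (hyz : Commute y z) (h : G) (hh : h ∈ H) (hconj : h * x * h⁻¹ = y) : ∃ c ∈ H, Commute c z ∧ c * x * c⁻¹ = y := by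
  have hzz := Cfsg.Agent.H2.IsIsolatedInvolution.mul_self hz
  have hz' : z⁻¹ = z := inv_eq_of_mul_eq_one_left hzz
  obtain ⟨j, hj⟩ := Cfsg.Agent.H2.IsIsolatedInvolution.exists_pow_conj hz h
  -- r = h z h⁻¹ z ∈ H
  have hrH : h * z * h⁻¹ * z ∈ H := by
    have h1 : z * h⁻¹ * z⁻¹ ∈ H := (Subgroup.mem_normalizer_iff.1 hzH h⁻¹).1 (H.inv_mem hh)
    have : h * z * h⁻¹ * z = h * (z * h⁻¹ * z⁻¹) := by rw [hz']; group
    rw [this]
    exact H.mul_mem hh h1
  -- w commutes with y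
  have hwy : Commute (h * z * h⁻¹) y := by
    rw [← hconj]
    unfold Commute SemiconjBy
    have := hxz.eq
    calc h * z * h⁻¹ * (h * x * h⁻¹) = h * (z * x) * h⁻¹ := by group
      _ = h * (x * z) * h⁻¹ := by rw [this]
      _ = h * x * h⁻¹ * (h * z * h⁻¹) := by group
  have hry : Commute (h * z * h⁻¹ * z) y := hwy.mul_left hyz.symm
  set r := h * z * h⁻¹ * z with hr
  clear_value r
  have huy : Commute (r ^ j) y := hry.pow_left j
  refine ⟨(r ^ j)⁻¹ * h, H.mul_mem (H.inv_mem (H.pow_mem hrH j)) hh, ?_, ?_⟩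
  · unfold Commute SemiconjBy
    calc (r ^ j)⁻¹ * h * z = (r ^ j)⁻¹ * (h * z * h⁻¹) * h := by group
      _ = (r ^ j)⁻¹ * (r ^ j * z * (r ^ j)⁻¹) * h := by rw [hj]
      _ = z * ((r ^ j)⁻¹ * h) := by group
  · have := huy.eq
    calc (r ^ j)⁻¹ * h * x * ((r ^ j)⁻¹ * h)⁻¹ = (r ^ j)⁻¹ * (h * x * h⁻¹) * r ^ j := by group
      _ = (r ^ j)⁻¹ * (y * r ^ j) := by rw [hconj]; group
      _ = (r ^ j)⁻¹ * (r ^ j * y) := by rw [this]
      _ = y := by group

end Cfsg.Agent.S1182
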