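import Mathlib
import Cfsg.Statements.S0944
import Cfsg.Agent.Lib.helper3.CharBasic

set_option autoImplicit false
open Cfsg

namespace Cfsg.Agent.S0944

/-- Let χ be an irreducible character of the finite group G and u an involution. Then χ u is a rational integer n with n ≡ χ 1 (mod 2). -/
theorem result {G : Type*} [Group G] [Finite G] (χ : Cfsg.IrrCharacter G) (u : G) (hu : orderOf u = 2) : ∃ n : ℤ, (χ : G → ℂ) u = (n : ℂ) ∧ (2 : ℤ) ∣ (Cfsg.charDegree (χ : G → ℂ) : ℤ) - n := by
  classical
  obtain ⟨χf, d, ρ, hirr, rfl⟩ := χ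
  open Cfsg.Agent.Lib.helper3.CharBasic in
  obtain ⟨I, _, v, μ, hf, hμ⟩ := exists_eigenbasis ρ u
  rw [hu] at hμ
  have hμ' : ∀ i, μ i = 1 ∨ μ i = -1 := by
    intro i
    have := hμ i
    have h2 : (μ i - 1) * (μ i + 1) = 0 := by linear_combination this
    rcases mul_eq_zero.mp h2 with h | h
    · left; linear_combination h
    · right; linear_combination h
  set s : I → ℤ := fun i => if μ i = 1 then 1 else -1 with hs
  have hμs : ∀ i, μ i = (s i : ℂ) := by
    intro i
    rcases hμ' i with h | h
    · simp [hs, h]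
    · have hne : μ i ≠ 1 := by
        rw [h]; norm_num
      simp [hs, hne, h]
  have hdeg : Cfsg.charDegree (ρ.character) = Fintype.card I := by
    unfold Cfsg.charDegree
    rw [Representation.char_one, Cfsg.Agent.Lib.helper3.CharBasic.card_eq_finrank_of_basis v]
    simp
  refine ⟨∑ i, s i, ?_, ?_⟩
  · show ρ.character u = _
    rw [Cfsg.Agent.Lib.helper3.CharBasic.character_eq_sum_of_eigenbasis ρ u v μ hf]
    push_cast
    exact Finset.sum_congr rfl (fun i _ => hμs i)
  · show (2 : ℤ) ∣ (Cfsg.charDegree (ρ.character) : ℤ) - _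
    rw [hdeg]
    have : ((Fintype.card I : ℕ) : ℤ) - ∑ i, s i = ∑ i : I, (1 - s i) := by
      rw [Finset.sum_sub_distrib]
      simp
    rw [this]
    apply Finset.dvd_sum
    intro i _
    simp only [hs]
    split_ifs <;> norm_num

end Cfsg.Agent.S0944
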