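import Cfsg.Statements.S0203
import Mathlib
import Cfsg.Agent.Lib.Lead.Frobenius
import Cfsg.Agent.Lib.Lead.KleinFour

set_option autoImplicit false
open Cfsg

namespace Cfsg.Agent.S0203

open Cfsg.Agent.Lib.Lead.Frobenius

theorem card_ne_one {A : Type*} [Group A] [Finite A] (h4 : Nat.card A = 4) :
    Nat.card {x : A // x ≠ 1} = 3 := by
  classical
  haveI := Fintype.ofFinite A
  rw [Nat.card_eq_fintype_card] at h4 ⊢
  have h1 : Fintype.card {x : A // ¬ (x = 1)} = Fintype.card A - Fintype.card {x : A // x = 1} :=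
    Fintype.card_subtype_compl _
  rw [Fintype.card_subtype_eq, h4] at h1
  exact h1

/-- If a Sylow 2-subgroup P of a finite group G is a Klein four-group, then G has three classes of involutions if and only if P has a normal complement in G. -/
theorem result {G : Type*} [Group G] [Finite G] (P : Sylow 2 G) (hP : IsKleinFour (P : Subgroup G)) : Nat.card {C : ConjClasses G // ∃ t : G, orderOf t = 2 ∧ ConjClasses.mk t = C} = 3 ↔ ∃ N : Subgroup G, N.Normal ∧ Subgroup.IsComplement' N (P : Subgroup G) := by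
  classical
  haveI hK : IsKleinFour ↥(P : Subgroup G) := hP
  have h4 : Nat.card ↥(P : Subgroup G) = 4 := IsKleinFour.card_four
  have hcardI : Nat.card {x : ↥(P : Subgroup G) // x ≠ 1} = 3 := card_ne_one h4
  have hord : ∀ x : ↥(P : Subgroup G), x ≠ 1 → orderOf (x : G) = 2 := by
    intro x hx
    rw [Subgroup.orderOf_coe]
    apply orderOf_eq_prime
    · rw [sq]; exact IsKleinFour.mul_self x
    · exact hx
  have hcommP : ∀ u ∈ (P : Subgroup G), ∀ v ∈ (P : Subgroup G), u * v = v * u := fun u hu v hv =>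
    Cfsg.Agent.Lib.Lead.KleinFour.KleinFourSub.comm hP hu hv
  let f : {x : ↥(P : Subgroup G) // x ≠ 1} →
      {C : ConjClasses G // ∃ t : G, orderOf t = 2 ∧ ConjClasses.mk t = C} :=
    fun x => ⟨ConjClasses.mk ((x : ↥(P : Subgroup G)) : G), (x : ↥(P : Subgroup G)), hord x.1 x.2, rfl⟩
  have hsurj : Function.Surjective f := by
    rintro ⟨C, t, ht, rfl⟩
    have hzp : IsPGroup 2 ↥(Subgroup.zpowers t) := by
      apply IsPGroup.of_card (n := 1)
      rw [Nat.card_zpowers, ht, pow_one]
    obtain ⟨g, hg⟩ := exists_conj_mem_sylow P hzp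
    have hgt := hg t (Subgroup.mem_zpowers t)
    have hne : (⟨g * t * g⁻¹, hgt⟩ : ↥(P : Subgroup G)) ≠ 1 := by
      intro h1
      have h2 : g * t * g⁻¹ = 1 := congrArg Subtype.val h1
      have h3 : t = 1 := by
        calc t = g⁻¹ * (g * t * g⁻¹) * g := by group
          _ = 1 := by rw [h2]; group
      rw [h3, orderOf_one] at ht
      exact absurd ht (by norm_num)
    refine ⟨⟨⟨g * t * g⁻¹, hgt⟩, hne⟩, ?_⟩
    apply Subtype.ext
    show ConjClasses.mk (g * t * g⁻¹) = ConjClasses.mk t
    rw [ConjClasses.mk_eq_mk_iff_isConj]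
    exact (isConj_iff.2 ⟨g, rfl⟩).symm
  constructor
  · intro h3
    have hbij : Function.Bijective f :=
      (Nat.bijective_iff_surjective_and_card f).2 ⟨hsurj, by rw [hcardI, h3]⟩
    have hctrl : Controls (P : Subgroup G) := by
      intro x hx g hgx
      by_cases hx1 : x = 1
      · refine ⟨1, Subgroup.one_mem _, ?_⟩
        rw [hx1]; group
      · have hy1 : g * x * g⁻¹ ≠ 1 := by
          intro h2
          apply hx1
          calc x = g⁻¹ * (g * x * g⁻¹) * g := by group
            _ = 1 := by rw [h2]; group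
        have hxne : (⟨x, hx⟩ : ↥(P : Subgroup G)) ≠ 1 := fun h => hx1 (congrArg Subtype.val h)
        have hyne : (⟨g * x * g⁻¹, hgx⟩ : ↥(P : Subgroup G)) ≠ 1 := fun h => hy1 (congrArg Subtype.val h)
        have hfeq : f ⟨⟨x, hx⟩, hxne⟩ = f ⟨⟨g * x * g⁻¹, hgx⟩, hyne⟩ := by
          apply Subtype.ext
          show ConjClasses.mk x = ConjClasses.mk (g * x * g⁻¹)
          rw [ConjClasses.mk_eq_mk_iff_isConj]
          exact isConj_iff.2 ⟨g, rfl⟩
        have h5 := hbij.1 hfeq
        have h6 : x = g * x * g⁻¹ := congrArg (fun z : {x : ↥(P : Subgroup G) // x ≠ 1} => ((z : ↥(P : Subgroup G)) : G)) h5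
        refine ⟨1, Subgroup.one_mem _, ?_⟩
        rw [← h6]; group
    obtain ⟨P', N, hN, hc⟩ := hasNormalPComplement_of_controls P hctrl
    refine ⟨N, hN, ?_⟩
    have hcard : Nat.card ↥(P' : Subgroup G) = Nat.card ↥(P : Subgroup G) := by
      rw [Sylow.card_eq_multiplicity, Sylow.card_eq_multiplicity]
    apply Subgroup.isComplement'_of_coprime
    · rw [← hcard]; exact hc.card_mul_card
    · have h1 := hc.card_mul_card
      have h2 : (P' : Subgroup G).index = Nat.card ↥N := by
        have h3 := (P' : Subgroup G).card_mul_index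
        rw [← h1, mul_comm] at h3
        exact Nat.eq_of_mul_eq_mul_right Nat.card_pos h3
      rw [h4]
      have h5 : ¬ 2 ∣ Nat.card ↥N := by rw [← h2]; exact P'.not_dvd_index
      have h6 : Nat.Coprime (Nat.card ↥N) 2 :=
        (Nat.Coprime.symm ((Nat.Prime.coprime_iff_not_dvd Nat.prime_two).mpr h5))
      exact Nat.Coprime.pow_right 2 h6
  · rintro ⟨N, hN, hc⟩
    have hinj : Function.Injective f := by
      rintro ⟨⟨x, hx⟩, hx1⟩ ⟨⟨y, hy⟩, hy1⟩ hxy
      have h1 : ConjClasses.mk x = ConjClasses.mk y := congrArg Subtype.val hxy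
      rw [ConjClasses.mk_eq_mk_iff_isConj, isConj_iff] at h1
      obtain ⟨g, hg⟩ := h1
      -- g = n * u
      obtain ⟨⟨⟨n, hn⟩, ⟨u, hu⟩⟩, hnu⟩ := hc.2 g
      have hg' : n * u = g := hnu
      have hy' : y = n * x * n⁻¹ := by
        rw [← hg, ← hg']
        have : u * x = x * u := hcommP u hu x hx
        calc n * u * x * (n * u)⁻¹ = n * (u * x) * u⁻¹ * n⁻¹ := by group
          _ = n * (x * u) * u⁻¹ * n⁻¹ := by rw [this]
          _ = n * x * n⁻¹ := by group
      have hmemN : y * x⁻¹ ∈ N := by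
        rw [hy']
        have : n * x * n⁻¹ * x⁻¹ = n * (x * n⁻¹ * x⁻¹) := by group
        rw [this]
        exact N.mul_mem hn (hN.conj_mem _ (N.inv_mem hn) x)
      have hmemP : y * x⁻¹ ∈ (P : Subgroup G) := Subgroup.mul_mem _ hy (Subgroup.inv_mem _ hx)
      have hdisj := hc.disjoint
      have h2 : y * x⁻¹ = 1 := by
        have : y * x⁻¹ ∈ N ⊓ (P : Subgroup G) := ⟨hmemN, hmemP⟩
        rw [hdisj.eq_bot, Subgroup.mem_bot] at this
        exact this
      have h3 : y = x := by
        calc y = y * x⁻¹ * x := by group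
          _ = x := by rw [h2, one_mul]
      subst h3
      rfl
    rw [← Nat.card_eq_of_bijective f ⟨hinj, hsurj⟩, hcardI]

end Cfsg.Agent.S0203
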