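import Cfsg.Statements.S1244
import Mathlib
import Cfsg.Agent.Lib.Lead.Conj
import Cfsg.Agent.Lib.Helper7.SylowLib

set_option autoImplicit false
set_option linter.style.haveILetI false
set_option linter.unusedVariables false
open Cfsg

namespace Cfsg.Agent.S1244

open Cfsg.Agent.Lib.Lead.Conj Cfsg.Agent.Lib.Helper7

universe u
variable {G : Type u} [Group G]


/-- a group without subgroups of index 2 has no nontrivial homomorphism to a 2-group -/
theorem hom_trivial [Finite G] (hG : ∀ H : Subgroup G, H.index ≠ 2) {A : Type*} [Group A] [Finite A]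
    (hA : IsPGroup 2 A) (f : G →* A) (g : G) : f g = 1 := by
  haveI : Fact (Nat.Prime 2) := ⟨Nat.prime_two⟩
  by_contra hne
  have hR : IsPGroup 2 ↥f.range := hA.to_subgroup f.range
  obtain ⟨k, hk⟩ := (IsPGroup.iff_card).1 hR
  have hk0 : k ≠ 0 := by
    rintro rfl
    rw [pow_zero] at hk
    have : f.range = ⊥ := Subgroup.card_eq_one.1 hk
    apply hne
    have hm : f g ∈ f.range := ⟨g, rfl⟩
    rw [this] at hm
    exact Subgroup.mem_bot.1 hm
  obtain ⟨K, hK⟩ := Sylow.exists_subgroup_card_pow_prime (G := ↥f.range) 2 (n := k - 1)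
    (by rw [hk]; exact pow_dvd_pow 2 (Nat.sub_le k 1))
  have hidx : K.index = 2 := by
    have h1 := K.card_mul_index
    rw [hK, hk] at h1
    have h2 : (2 : ℕ) ^ k = 2 ^ (k - 1) * 2 := by
      rw [← pow_succ]; congr 1; omega
    rw [h2] at h1
    exact Nat.eq_of_mul_eq_mul_left (pow_pos (by norm_num) _) h1
  have hsurj : Function.Surjective f.rangeRestrict := f.rangeRestrict_surjective
  have := Subgroup.index_comap_of_surjective K hsurj
  exact hG _ (this.trans hidx)

/-- Burnside: in an abelian Sylow subgroup, fusion is controlled by the normalizer -/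
theorem burnside_fusion [Finite G] {p : ℕ} [Fact p.Prime] (S : Sylow p G)
    (hS : ∀ a ∈ (S : Subgroup G), ∀ b ∈ (S : Subgroup G), a * b = b * a) {t g : G}
    (ht : t ∈ (S : Subgroup G)) (hg : g * t * g⁻¹ ∈ (S : Subgroup G)) :
    ∃ n ∈ Subgroup.normalizer ((S : Subgroup G) : Set G), n * t * n⁻¹ = g * t * g⁻¹ := by
  set u := g * t * g⁻¹ with hu
  set C := Subgroup.centralizer ({u} : Set G) with hC
  have h1 : (S : Subgroup G) ≤ C := by
    intro s hs
    rw [hC, Subgroup.mem_centralizer_singleton_iff]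
    exact hS s hs u hg
  have h2 : (S : Subgroup G).map (MulAut.conj g).toMonoidHom ≤ C := by
    intro x hx
    rw [mem_map_conj] at hx
    rw [hC, Subgroup.mem_centralizer_singleton_iff]
    have := hS _ hx t ht
    calc x * u = g * ((g⁻¹ * x * g) * t) * g⁻¹ := by rw [hu]; group
      _ = g * (t * (g⁻¹ * x * g)) * g⁻¹ := by rw [this]
      _ = u * x := by rw [hu]; group
  have hS1 : IsSylowIn p (S : Subgroup G) C := IsSylowIn.of_sylow_le S h1
  have hS2 : IsSylowIn p ((S : Subgroup G).map (MulAut.conj g).toMonoidHom) C := by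
    refine ⟨h2, ?_⟩
    rw [card_map_conj]
    exact hS1.2
  obtain ⟨c, hc, hcS⟩ := hS2.conj hS1
  refine ⟨c * g, ?_, ?_⟩
  · apply mem_normalizer_of_conj_mem
    intro r hr
    rw [hcS, mem_map_conj, mem_map_conj]
    have : g⁻¹ * (c⁻¹ * (c * g * r * (c * g)⁻¹) * c) * g = r := by group
    rw [this]; exact hr
  · rw [hC, Subgroup.mem_centralizer_singleton_iff] at hc
    calc c * g * t * (c * g)⁻¹ = c * u * c⁻¹ := by rw [hu]; group
      _ = u * c * c⁻¹ := by rw [hc]
      _ = u := by group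



/-- the involutions (and 1) of a commutative subgroup -/
def Om (S : Subgroup G) (hS : ∀ a ∈ S, ∀ b ∈ S, a * b = b * a) : Subgroup G where
  carrier := {s | s ∈ S ∧ s ^ 2 = 1}
  one_mem' := ⟨S.one_mem, one_pow 2⟩
  mul_mem' := by
    rintro a b ⟨ha, ha2⟩ ⟨hb, hb2⟩
    refine ⟨S.mul_mem ha hb, ?_⟩
    have : Commute a b := hS a ha b hb
    rw [this.mul_pow, ha2, hb2, one_mul]
  inv_mem' := by
    rintro a ⟨ha, ha2⟩
    exact ⟨S.inv_mem ha, by rw [inv_pow, ha2, inv_one]⟩

theorem mem_Om {S : Subgroup G} {hS : ∀ a ∈ S, ∀ b ∈ S, a * b = b * a} {x : G} :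
    x ∈ Om S hS ↔ x ∈ S ∧ x ^ 2 = 1 := Iff.rfl

/-- rank computation: the index two statement -/
theorem index_two [Finite G] (S : Sylow 2 G)
    (hS : ∀ a ∈ (S : Subgroup G), ∀ b ∈ (S : Subgroup G), a * b = b * a)
    (r : ℕ) (hr1 : 1 ≤ r)
    (hSr : Cfsg.PRankLE 2 r (S : Subgroup G) ∧ ¬ Cfsg.PRankLE 2 (r - 1) (S : Subgroup G))
    (R : Subgroup G) (hRS : R ≤ S)
    (hRr : Cfsg.PRankLE 2 (r - 1) R ∧ (r = 1 ∨ ¬ Cfsg.PRankLE 2 (r - 2) R)) :
    ((Om (S : Subgroup G) hS ⊓ R).subgroupOf (Om (S : Subgroup G) hS)).index = 2 := by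
  haveI : Fact (Nat.Prime 2) := ⟨Nat.prime_two⟩
  set Ω := Om (S : Subgroup G) hS with hΩ
  have hΩS : Ω ≤ S := fun x hx => hx.1
  -- card Ω = 2 ^ r
  have hΩp : IsPGroup 2 ↥Ω := S.isPGroup'.to_le hΩS
  obtain ⟨k, hk⟩ := (IsPGroup.iff_card).1 hΩp
  have hcomm : ∀ (T : Subgroup G) (hT : T ≤ S) (A : Subgroup ↥T), IsMulCommutative ↥A := by
    intro T hT A
    refine ⟨⟨?_⟩⟩
    rintro ⟨⟨a, haT⟩, ha⟩ ⟨⟨b, hbT⟩, hb⟩
    apply Subtype.ext; apply Subtype.ext
    exact hS a (hT haT) b (hT hbT)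
  have hΩle : Nat.card ↥Ω ≤ 2 ^ r := by
    have := hSr.1 (Ω.subgroupOf S) (hcomm _ le_rfl _) (by
      rintro ⟨a, haS⟩ ha
      apply Subtype.ext
      exact (Subgroup.mem_subgroupOf.1 ha).2)
    rwa [card_subgroupOf_of_le hΩS] at this
  have hΩgt : 2 ^ (r - 1) < Nat.card ↥Ω := by
    have h := hSr.2
    unfold Cfsg.PRankLE at h
    push_neg at h
    obtain ⟨A, -, hA2, hAc⟩ := h
    have hle : A.map (S : Subgroup G).subtype ≤ Ω := by
      rintro _ ⟨a, ha, rfl⟩
      refine ⟨a.2, ?_⟩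
      have := hA2 a ha
      have h3 := congrArg Subtype.val this
      simpa using h3
    have h4 := Subgroup.card_le_of_le hle
    rw [Subgroup.card_map_of_injective (Subgroup.subtype_injective _)] at h4
    omega
  have hkr : k = r := by
    rw [hk] at hΩle hΩgt
    have h1 : k ≤ r := (Nat.pow_le_pow_iff_right (by norm_num)).1 hΩle
    have h2 : r - 1 < k := (Nat.pow_lt_pow_iff_right (by norm_num)).1 hΩgt
    omega
  -- card H₀ = 2 ^ (r - 1)
  set H₀ := Ω ⊓ R with hH₀
  have hH₀p : IsPGroup 2 ↥H₀ := hΩp.to_le inf_le_left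
  obtain ⟨j, hj⟩ := (IsPGroup.iff_card).1 hH₀p
  have hH₀le : Nat.card ↥H₀ ≤ 2 ^ (r - 1) := by
    have := hRr.1 (H₀.subgroupOf R) (hcomm _ hRS _) (by
      rintro ⟨a, haR⟩ ha
      apply Subtype.ext
      exact (Subgroup.mem_subgroupOf.1 ha).1.2)
    rwa [card_subgroupOf_of_le inf_le_right] at this
  have hjr : j = r - 1 := by
    rw [hj] at hH₀le
    have h1 : j ≤ r - 1 := (Nat.pow_le_pow_iff_right (by norm_num)).1 hH₀le
    rcases hRr.2 with h | h
    · omega
    · unfold Cfsg.PRankLE at h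
      push_neg at h
      obtain ⟨A, -, hA2, hAc⟩ := h
      have hle : A.map R.subtype ≤ H₀ := by
        rintro _ ⟨a, ha, rfl⟩
        refine ⟨⟨hRS a.2, ?_⟩, a.2⟩
        have := hA2 a ha
        have h3 := congrArg Subtype.val this
        simpa using h3
      have h4 := Subgroup.card_le_of_le hle
      rw [Subgroup.card_map_of_injective (Subgroup.subtype_injective _), hj] at h4
      have h2 : r - 2 < j := (Nat.pow_lt_pow_iff_right (by norm_num)).1 (lt_of_lt_of_le hAc h4)
      omega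
  have h1 := (H₀.subgroupOf Ω).card_mul_index
  rw [card_subgroupOf_of_le inf_le_left, hj, hk, hjr, hkr] at h1
  have h2 : (2 : ℕ) ^ r = 2 ^ (r - 1) * 2 := by
    rw [← pow_succ]; congr 1; omega
  rw [h2] at h1
  exact Nat.eq_of_mul_eq_mul_left (pow_pos (by norm_num) _) h1


/-- Let G be a finite group with no subgroup of index 2 whose Sylow 2-subgroup S is commutative, and let R ≤ S be a subgroup whose 2-rank is exactly one less than the 2-rank r of S. Then every involution of S is conjugate, by an element of N_G(S), to an element of R. -/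
theorem result {G : Type*} [Group G] [Finite G] (hG : ∀ H : Subgroup G, H.index ≠ 2) (S : Sylow 2 G) (hS : IsMulCommutative (S : Subgroup G)) (r : ℕ) (hr1 : 1 ≤ r) (hSr : Cfsg.PRankLE 2 r (S : Subgroup G) ∧ ¬ Cfsg.PRankLE 2 (r - 1) (S : Subgroup G)) (R : Subgroup G) (hRS : R ≤ S) (hRr : Cfsg.PRankLE 2 (r - 1) R ∧ (r = 1 ∨ ¬ Cfsg.PRankLE 2 (r - 2) R)) (t : G) (ht : orderOf t = 2) (htS : t ∈ S) : ∃ n ∈ Subgroup.normalizer ((S : Subgroup G) : Set G), n * t * n⁻¹ ∈ R := by
  classical
  haveI : Fact (Nat.Prime 2) := ⟨Nat.prime_two⟩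
  have hSc : ∀ a ∈ (S : Subgroup G), ∀ b ∈ (S : Subgroup G), a * b = b * a := by
    intro a ha b hb
    have := hS.is_comm.comm ⟨a, ha⟩ ⟨b, hb⟩
    exact congrArg Subtype.val this
  by_contra hcon
  push_neg at hcon
  have hout : ∀ g : G, g * t * g⁻¹ ∈ (S : Subgroup G) → g * t * g⁻¹ ∉ R := by
    intro g hg hR
    obtain ⟨n, hn, hnt⟩ := burnside_fusion S hSc htS hg
    exact hcon n hn (hnt ▸ hR)
  have ht2 : t ^ 2 = 1 := by rw [← ht]; exact pow_orderOf_eq_one t
  have hidx := index_two S hSc r hr1 hSr R hRS hRr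
  set Ω := Om (S : Subgroup G) hSc with hΩ
  set H₀ := Ω ⊓ R with hH₀
  have key : ∀ x ∈ Ω, ∀ y ∈ Ω, (x * y ∈ H₀ ↔ (x ∈ H₀ ↔ y ∈ H₀)) := by
    intro x hx y hy
    have := Subgroup.mul_mem_iff_of_index_two hidx (a := ⟨x, hx⟩) (b := ⟨y, hy⟩)
    simpa [Subgroup.mem_subgroupOf] using this
  letI : CommGroup ↥(S : Subgroup G) :=
    { (inferInstance : Group ↥(S : Subgroup G)) with
      mul_comm := fun a b => Subtype.ext (hSc a a.2 b b.2) }
  let ϕ : ↥(S : Subgroup G) →* ↥(S : Subgroup G) := ⟨⟨id, rfl⟩, fun _ _ => rfl⟩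
  let V : G →* ↥(S : Subgroup G) := MonoidHom.transfer (H := (S : Subgroup G)) ϕ
  have hV : V t = 1 := hom_trivial hG S.isPGroup' V t
  haveI : Fintype (Quotient (MulAction.orbitRel (Subgroup.zpowers t) (G ⧸ (S : Subgroup G)))) :=
    Fintype.ofFinite _
  -- minimal periods
  have hper : ∀ q : G ⧸ (S : Subgroup G),
      Function.minimalPeriod (t • ·) q = 1 ∨ Function.minimalPeriod (t • ·) q = 2 := by
    intro q
    have hp : Function.IsPeriodicPt (t • · : G ⧸ (S : Subgroup G) → _) 2 q := by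
      show (t • · : G ⧸ (S : Subgroup G) → _)^[2] q = q
      rw [smul_iterate, ht2]
      exact one_smul _ q
    exact (Nat.dvd_prime Nat.prime_two).1 hp.minimalPeriod_dvd
  let f : Quotient (MulAction.orbitRel (Subgroup.zpowers t) (G ⧸ (S : Subgroup G))) →
      ↥(S : Subgroup G) := fun q =>
    ⟨q.out.out⁻¹ * t ^ Function.minimalPeriod (t • ·) q.out * q.out.out,
      QuotientGroup.out_conj_pow_minimalPeriod_mem (S : Subgroup G) t q.out⟩
  have hf1 : ∀ q, Function.minimalPeriod (t • ·) q.out = 1 →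
      ((f q : G) ∈ Ω ∧ (f q : G) ∉ H₀) := by
    intro q h1
    have hmem : (f q : G) ∈ (S : Subgroup G) := (f q).2
    have e : (f q : G) = q.out.out⁻¹ * t * (q.out.out⁻¹)⁻¹ := by
      show q.out.out⁻¹ * t ^ Function.minimalPeriod (t • ·) q.out * q.out.out = _
      rw [h1, pow_one, inv_inv]
    refine ⟨⟨hmem, ?_⟩, ?_⟩
    · rw [e]
      have : (q.out.out⁻¹ * t * (q.out.out⁻¹)⁻¹) ^ 2
          = q.out.out⁻¹ * (t ^ 2) * (q.out.out⁻¹)⁻¹ := by
        rw [pow_two, pow_two]; group
      rw [this, ht2]; group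
    · intro h
      rw [e] at hmem h
      exact hout _ hmem h.2
  have hf2 : ∀ q, Function.minimalPeriod (t • ·) q.out = 2 → f q = 1 := by
    intro q h2
    apply Subtype.ext
    show q.out.out⁻¹ * t ^ Function.minimalPeriod (t • ·) q.out * q.out.out = 1
    rw [h2, ht2]; group
  have hVt : V t = ∏ q, f q := by
    show MonoidHom.transfer ϕ t = _
    rw [MonoidHom.transfer_eq_prod_quotient_orbitRel_zpowers_quot]
    rfl
  have hind : ∀ s : Finset (Quotient (MulAction.orbitRel (Subgroup.zpowers t)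
      (G ⧸ (S : Subgroup G)))),
      (((∏ q ∈ s, f q : ↥(S : Subgroup G)) : G) ∈ Ω) ∧
      ((((∏ q ∈ s, f q : ↥(S : Subgroup G)) : G) ∈ H₀) ↔
        Even (s.filter (fun q => Function.minimalPeriod (t • ·) q.out = 1)).card) := by
    intro s
    induction s using Finset.induction_on with
    | empty =>
      simp only [Finset.prod_empty, Finset.filter_empty, Finset.card_empty]
      exact ⟨Ω.one_mem, by simp [H₀.one_mem]⟩
    | insert a s ha ih =>
      rw [Finset.prod_insert ha, Finset.filter_insert]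
      rcases hper a.out with h1 | h2
      · obtain ⟨hΩa, hHa⟩ := hf1 a h1
        rw [if_pos h1, Finset.card_insert_of_notMem (by
          intro h; exact ha (Finset.mem_filter.1 h).1)]
        refine ⟨?_, ?_⟩
        · rw [Subgroup.coe_mul]
          exact Ω.mul_mem hΩa ih.1
        · rw [Subgroup.coe_mul, key _ hΩa _ ih.1, ih.2, Nat.even_add_one]
          tauto
      · rw [if_neg (by omega), hf2 a h2, one_mul]
        exact ih
  have hfin := (hind Finset.univ).2
  rw [← hVt, hV] at hfin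
  have hev := hfin.1 (by
    show ((1 : ↥(S : Subgroup G)) : G) ∈ H₀
    rw [Subgroup.coe_one]; exact H₀.one_mem)
  -- total number of fixed orbits is odd
  have hodd : Odd (Finset.univ.filter (fun q : Quotient (MulAction.orbitRel (Subgroup.zpowers t)
      (G ⧸ (S : Subgroup G))) => Odd (Function.minimalPeriod (t • ·) q.out))).card := by
    rw [← Finset.odd_sum_iff_odd_card_odd, ← Subgroup.index_eq_sum_minimalPeriod]
    have := S.not_dvd_index
    exact Nat.not_even_iff_odd.1 (fun h => this (even_iff_two_dvd.1 h))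
  have hsame : (Finset.univ.filter (fun q : Quotient (MulAction.orbitRel (Subgroup.zpowers t)
      (G ⧸ (S : Subgroup G))) => Odd (Function.minimalPeriod (t • ·) q.out))) =
      (Finset.univ.filter (fun q : Quotient (MulAction.orbitRel (Subgroup.zpowers t)
      (G ⧸ (S : Subgroup G))) => Function.minimalPeriod (t • ·) q.out = 1)) := by
    ext q
    simp only [Finset.mem_filter, Finset.mem_univ, true_and]
    rcases hper q.out with h1 | h2
    · rw [h1]; simp
    · rw [h2]; simp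
  rw [hsame] at hodd
  exact (Nat.not_even_iff_odd.2 hodd) hev

end Cfsg.Agent.S1244
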