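import Cfsg.Statements.S0202
import Mathlib
import Cfsg.Agent.Lib.Lead.Frobenius
import Cfsg.Agent.Lib.Lead.KleinFour
import Cfsg.Agent.S0203
import Cfsg.Agent.S1244

set_option autoImplicit false
open Cfsg

namespace Cfsg.Agent.S0202

open Cfsg.Agent.Lib.Lead.Frobenius

theorem conj_pow_fix {G : Type*} [Group G] {m y : G} (h : m * y * m⁻¹ = y) (j : ℕ) :
    m ^ j * y * (m ^ j)⁻¹ = y := by
  have hc : Commute m y := by
    show m * y = y * m
    calc m * y = (m * y * m⁻¹) * m := by group
      _ = y * m := by rw [h]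
  have hc' : Commute (m ^ j) y := hc.pow_left j
  calc m ^ j * y * (m ^ j)⁻¹ = y * m ^ j * (m ^ j)⁻¹ := by rw [hc'.eq]
    _ = y := by group

/-- If a Sylow 2-subgroup of a finite group is a Klein four-group, the group has one or three conjugacy classes of involutions. -/
theorem result {G : Type*} [Group G] [Finite G] (P : Sylow 2 G) (hP : IsKleinFour (P : Subgroup G)) : Nat.card {C : ConjClasses G // ∃ t : G, orderOf t = 2 ∧ ConjClasses.mk t = C} = 1 ∨ Nat.card {C : ConjClasses G // ∃ t : G, orderOf t = 2 ∧ ConjClasses.mk t = C} = 3 := by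
  classical
  haveI hK : IsKleinFour ↥(P : Subgroup G) := hP
  have h4 : Nat.card ↥(P : Subgroup G) = 4 := IsKleinFour.card_four
  have hcardI : Nat.card {x : ↥(P : Subgroup G) // x ≠ 1} = 3 := Cfsg.Agent.S0203.card_ne_one h4
  have hord : ∀ x : ↥(P : Subgroup G), x ≠ 1 → orderOf (x : G) = 2 := by
    intro x hx
    rw [Subgroup.orderOf_coe]
    apply orderOf_eq_prime
    · rw [sq]; exact IsKleinFour.mul_self x
    · exact hx
  have hcommP : ∀ u ∈ (P : Subgroup G), ∀ v ∈ (P : Subgroup G), u * v = v * u := fun u hu v hv =>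
    Cfsg.Agent.Lib.Lead.KleinFour.KleinFourSub.comm hP hu hv
  let f : {x : ↥(P : Subgroup G) // x ≠ 1} →
      {C : ConjClasses G // ∃ t : G, orderOf t = 2 ∧ ConjClasses.mk t = C} :=
    fun x => ⟨ConjClasses.mk ((x : ↥(P : Subgroup G)) : G), (x : ↥(P : Subgroup G)), hord x.1 x.2, rfl⟩
  have hinto : ∀ t : G, orderOf t = 2 → ∃ g : G, g * t * g⁻¹ ∈ (P : Subgroup G) ∧ g * t * g⁻¹ ≠ 1 := by
    intro t ht
    have hzp : IsPGroup 2 ↥(Subgroup.zpowers t) := by
      apply IsPGroup.of_card (n := 1)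
      rw [Nat.card_zpowers, ht, pow_one]
    obtain ⟨g, hg⟩ := exists_conj_mem_sylow P hzp
    refine ⟨g, hg t (Subgroup.mem_zpowers t), ?_⟩
    intro h2
    have h3 : t = 1 := by
      calc t = g⁻¹ * (g * t * g⁻¹) * g := by group
        _ = 1 := by rw [h2]; group
    rw [h3, orderOf_one] at ht
    exact absurd ht (by norm_num)
  have hsurj : Function.Surjective f := by
    rintro ⟨C, t, ht, rfl⟩
    obtain ⟨g, hgt, hne⟩ := hinto t ht
    refine ⟨⟨⟨g * t * g⁻¹, hgt⟩, fun h1 => hne (congrArg Subtype.val h1)⟩, ?_⟩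
    apply Subtype.ext
    show ConjClasses.mk (g * t * g⁻¹) = ConjClasses.mk t
    rw [ConjClasses.mk_eq_mk_iff_isConj]
    exact (isConj_iff.2 ⟨g, rfl⟩).symm
  by_cases hinj : Function.Injective f
  · right
    rw [← Nat.card_eq_of_bijective f ⟨hinj, hsurj⟩, hcardI]
  · left
    rw [Function.Injective] at hinj
    push Not at hinj
    obtain ⟨⟨⟨x, hx⟩, hx1⟩, ⟨⟨y, hy⟩, hy1⟩, hfxy, hne⟩ := hinj
    have hxy : x ≠ y := by
      intro h; apply hne; subst h; rfl
    have hx1' : x ≠ 1 := fun h => hx1 (Subtype.ext h)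
    have hy1' : y ≠ 1 := fun h => hy1 (Subtype.ext h)
    have hconj : IsConj x y := (ConjClasses.mk_eq_mk_iff_isConj).1 (congrArg Subtype.val hfxy)
    obtain ⟨g, hg⟩ := isConj_iff.1 hconj
    obtain ⟨n, hn, hnx⟩ := Cfsg.Agent.S1244.burnside_fusion P hcommP hx (show g * x * g⁻¹ ∈ (P : Subgroup G) by rw [hg]; exact hy)
    rw [hg] at hnx
    -- elements of P
    have hall : ∀ w ∈ (P : Subgroup G), w = 1 ∨ w = x ∨ w = y ∨ w = x * y := by
      intro w hw
      haveI := Fintype.ofFinite ↥(P : Subgroup G)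
      have hu := IsKleinFour.eq_finset_univ (G := ↥(P : Subgroup G)) (x := ⟨x, hx⟩) (y := ⟨y, hy⟩)
        hx1 hy1 (fun h => hxy (congrArg Subtype.val h))
      have hw' : (⟨w, hw⟩ : ↥(P : Subgroup G)) ∈ (Finset.univ : Finset ↥(P : Subgroup G)) := Finset.mem_univ _
      rw [← hu] at hw'
      simp only [Finset.mem_insert, Finset.mem_singleton] at hw'
      rcases hw' with h | h | h | h
      · right; right; right; exact congrArg Subtype.val h
      · right; left; exact congrArg Subtype.val h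
      · right; right; left; exact congrArg Subtype.val h
      · left; exact congrArg Subtype.val h
    have hny : n * y * n⁻¹ ∈ (P : Subgroup G) := (Subgroup.mem_normalizer_iff.1 hn y).1 hy
    have hxx : x * x = 1 := Cfsg.Agent.Lib.Lead.KleinFour.KleinFourSub.sq_eq_one hP hx
    have hyy : y * y = 1 := Cfsg.Agent.Lib.Lead.KleinFour.KleinFourSub.sq_eq_one hP hy
    have hnyz : n * y * n⁻¹ = x * y := by
      rcases hall _ hny with h | h | h | h
      · exfalso; apply hy1'
        calc y = n⁻¹ * (n * y * n⁻¹) * n := by group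
          _ = 1 := by rw [h]; group
      · exfalso
        -- odd index argument
        set N := Subgroup.normalizer ((P : Subgroup G) : Set G) with hN
        set C := Subgroup.centralizer ((P : Subgroup G) : Set G) with hC
        haveI : (C.subgroupOf N).Normal := Subgroup.normal_subgroupOf_centralizer_normalizer _
        have hPC : (P : Subgroup G) ≤ C := by
          intro u hu
          rw [hC, Subgroup.mem_centralizer_iff]
          intro v hv
          exact hcommP v hv u hu
        have hCN : C ≤ N := Subgroup.centralizer_le_normalizer _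
        have hodd : ¬ 2 ∣ C.relIndex N := by
          intro hd
          have d1 : C.relIndex N ∣ (P : Subgroup G).relIndex N := Subgroup.relIndex_dvd_of_le_left N hPC
          have d2 : (P : Subgroup G).relIndex N ∣ (P : Subgroup G).index :=
            Subgroup.relIndex_dvd_index_of_le (hPC.trans hCN)
          exact P.not_dvd_index (dvd_trans hd (dvd_trans d1 d2))
        have hpow : (⟨n, hn⟩ : ↥N) ^ (C.subgroupOf N).index ∈ C.subgroupOf N :=
          Subgroup.pow_index_mem _ _
        have hpow' : n ^ C.relIndex N ∈ C := by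
          have := Subgroup.mem_subgroupOf.1 hpow
          simpa [Subgroup.relIndex] using this
        obtain ⟨j, hj⟩ : ∃ j, C.relIndex N = 2 * j + 1 := by
          have : C.relIndex N % 2 = 1 := by omega
          exact ⟨C.relIndex N / 2, by omega⟩
        have hn2y : n ^ 2 * y * (n ^ 2)⁻¹ = y := by
          calc n ^ 2 * y * (n ^ 2)⁻¹ = n * (n * y * n⁻¹) * n⁻¹ := by rw [pow_two]; group
            _ = n * x * n⁻¹ := by rw [h]
            _ = y := hnx
        have h5 : n ^ C.relIndex N * x * (n ^ C.relIndex N)⁻¹ = y := by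
          rw [hj, pow_succ, pow_mul]
          calc (n ^ 2) ^ j * n * x * ((n ^ 2) ^ j * n)⁻¹ = (n ^ 2) ^ j * (n * x * n⁻¹) * ((n ^ 2) ^ j)⁻¹ := by group
            _ = (n ^ 2) ^ j * y * ((n ^ 2) ^ j)⁻¹ := by rw [hnx]
            _ = y := conj_pow_fix hn2y j
        have h6 : n ^ C.relIndex N * x * (n ^ C.relIndex N)⁻¹ = x := by
          have := (Subgroup.mem_centralizer_iff.1 hpow') x hx
          calc n ^ C.relIndex N * x * (n ^ C.relIndex N)⁻¹ = (x * n ^ C.relIndex N) * (n ^ C.relIndex N)⁻¹ := by rw [this]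
            _ = x := by group
        exact hxy (h6.symm.trans h5)
      · exfalso; apply hxy
        have : n * x * n⁻¹ = n * y * n⁻¹ := by rw [hnx, h]
        calc x = n⁻¹ * (n * x * n⁻¹) * n := by group
          _ = n⁻¹ * (n * y * n⁻¹) * n := by rw [this]
          _ = y := by group
      · exact h
    have hcx : ∀ w ∈ (P : Subgroup G), w ≠ 1 → IsConj w x := by
      intro w hw hw1
      rcases hall w hw with h | h | h | h
      · exact absurd h hw1
      · rw [h]
      · rw [h]; exact (isConj_iff.2 ⟨n, hnx⟩).symm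
      · rw [h]
        have h1 : IsConj y (x * y) := isConj_iff.2 ⟨n, hnyz⟩
        exact (IsConj.trans (isConj_iff.2 ⟨n, hnx⟩) h1).symm
    rw [Nat.card_eq_one_iff_unique]
    refine ⟨⟨?_⟩, ⟨f ⟨⟨x, hx⟩, hx1⟩⟩⟩
    rintro ⟨C1, t1, ht1, rfl⟩ ⟨C2, t2, ht2, rfl⟩
    apply Subtype.ext
    show ConjClasses.mk t1 = ConjClasses.mk t2
    rw [ConjClasses.mk_eq_mk_iff_isConj]
    obtain ⟨g1, hg1, hne1⟩ := hinto t1 ht1
    obtain ⟨g2, hg2, hne2⟩ := hinto t2 ht2
    have c1 : IsConj t1 x := IsConj.trans (isConj_iff.2 ⟨g1, rfl⟩) (hcx _ hg1 hne1)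
    have c2 : IsConj t2 x := IsConj.trans (isConj_iff.2 ⟨g2, rfl⟩) (hcx _ hg2 hne2)
    exact c1.trans c2.symm

end Cfsg.Agent.S0202
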