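import Cfsg.Statements.S0514
import Mathlib
import Cfsg.Agent.Lib.Lead.DihShape
import Cfsg.Agent.Lib.Lead.NormalPComplement
import Cfsg.Agent.Lib.Lead.TISylow
import Cfsg.Agent.Lib.Lead.Subnormal2
import Cfsg.Agent.S0607

set_option autoImplicit false
open Cfsg

namespace Cfsg.Agent.S0514

open scoped Pointwise
open Cfsg.Agent.Lib.Lead

/-- A subgroup of exponent two is elementary abelian. -/
theorem elemAb_of_exp_two {Y : Type*} [Group Y] (Q : Subgroup Y) (h : ∀ q ∈ Q, q * q = 1) :
    Cfsg.IsElementaryAbelian 2 Q := by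
  refine ⟨⟨⟨fun a b => ?_⟩⟩, fun a ha => by rw [pow_two]; exact h a ha⟩
  apply Subtype.ext
  show (a : Y) * (b : Y) = (b : Y) * (a : Y)
  have ha := h a a.2
  have hb := h b b.2
  have hab := h ((a : Y) * (b : Y)) (Q.mul_mem a.2 b.2)
  have e1 : (a : Y)⁻¹ = a := inv_eq_of_mul_eq_one_right ha
  have e2 : (b : Y)⁻¹ = b := inv_eq_of_mul_eq_one_right hb
  have e3 : ((a : Y) * (b : Y))⁻¹ = (a : Y) * (b : Y) := inv_eq_of_mul_eq_one_right hab
  rw [← e3, mul_inv_rev, e1, e2]

/-- The Klein four case: an odd-order element normalizing a four-group and centralizing one of its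
involutions centralizes it. -/
theorem klein_case {Y : Type*} [Group Y] [Finite Y] (Q : Subgroup Y) (hcard : Nat.card ↥Q = 4)
    (t' : Y) (ht'Q : t' ∈ Q) (ht'1 : t' ≠ 1) (g : Y) (hg : g ∈ Subgroup.normalizer (Q : Set Y))
    (hgt : g * t' = t' * g) (hodd : Nat.Coprime (orderOf g) 2) :
    g ∈ Subgroup.centralizer (Q : Set Y) := by
  classical
  have hconjQ : ∀ q ∈ Q, g * q * g⁻¹ ∈ Q := fun q hq =>
    (Subgroup.mem_normalizer_iff.mp hg q).mp hq
  have hpair : ({1, t'} : Set Y) ⊆ (Q : Set Y) := by
    intro y hy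
    rcases hy with rfl | rfl
    · exact Q.one_mem
    · exact ht'Q
  have hn2 : ((Q : Set Y) \ {1, t'}).ncard = 2 := by
    have h1 := Set.ncard_sdiff_add_ncard_of_subset hpair
    rw [Set.ncard_pair (Ne.symm ht'1)] at h1
    have h2 : (Q : Set Y).ncard = 4 := by
      rw [← hcard]; exact (_root_.Nat.card_coe_set_eq _).symm
    omega
  have hout : ∀ q, q ∈ (Q : Set Y) \ {1, t'} → g * q * g⁻¹ ∈ (Q : Set Y) \ {1, t'} := by
    rintro q ⟨hq, hqn⟩
    refine ⟨hconjQ q hq, ?_⟩
    intro h
    apply hqn
    rcases h with h | h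
    · left
      have : q = g⁻¹ * (g * q * g⁻¹) * g := by group
      rw [this, h]; group
    · right
      have h' : g * q * g⁻¹ = t' := h
      have : q = t' := by
        calc q = g⁻¹ * (g * q * g⁻¹) * g := by group
          _ = g⁻¹ * t' * g := by rw [h']
          _ = g⁻¹ * (t' * g) := by group
          _ = g⁻¹ * (g * t') := by rw [hgt]
          _ = t' := by group
      rw [this]; exact Set.mem_singleton _
  obtain ⟨j, hj⟩ : ∃ j, orderOf g = 2 * j + 1 := Nat.coprime_two_right.mp hodd
  rw [Subgroup.mem_centralizer_iff]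
  intro q hq
  by_cases hq1 : q ∈ ({1, t'} : Set Y)
  · rcases hq1 with rfl | rfl
    · simp
    · exact hgt.symm
  have hqs : q ∈ (Q : Set Y) \ {1, t'} := ⟨hq, hq1⟩
  by_cases hqv : g * q * g⁻¹ = q
  · calc q * g = (g * q * g⁻¹) * g := by rw [hqv]
      _ = g * q := by group
  have hvs := hout q hqs
  have hws := hout _ hvs
  have hwv : g * (g * q * g⁻¹) * g⁻¹ ≠ g * q * g⁻¹ := by
    intro h
    apply hqv
    have : g * q * g⁻¹ = g⁻¹ * (g * (g * q * g⁻¹) * g⁻¹) * g := by group
    rw [this, h]; group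
  have hsub : ({q, g * q * g⁻¹} : Set Y) ⊆ (Q : Set Y) \ {1, t'} := by
    intro y hy
    rcases hy with rfl | rfl
    · exact hqs
    · exact hvs
  have heq : ({q, g * q * g⁻¹} : Set Y) = (Q : Set Y) \ {1, t'} := by
    apply Set.eq_of_subset_of_ncard_le hsub
    rw [hn2, Set.ncard_pair (Ne.symm hqv)]
  have hw : g * (g * q * g⁻¹) * g⁻¹ = q := by
    have := hws
    rw [← heq] at this
    rcases this with h | h
    · exact h
    · exact absurd h hwv
  have hcomm : Commute (g * g) q := by
    show g * g * q = q * (g * g)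
    calc g * g * q = (g * (g * q * g⁻¹) * g⁻¹) * (g * g) := by group
      _ = q * (g * g) := by rw [hw]
  have hgpow : (g * g) ^ (j + 1) = g := by
    have h1 : g ^ (2 * j + 1) = 1 := by rw [← hj]; exact pow_orderOf_eq_one g
    calc (g * g) ^ (j + 1) = g ^ (2 * j + 1) * g := by
          rw [← pow_two, ← pow_mul, ← pow_succ]
          congr 1
      _ = g := by rw [h1, one_mul]
  have := (hcomm.pow_left (j + 1)).eq
  rw [hgpow] at this
  exact this.symm

/-- In a finite group whose Sylow 2-subgroups are dihedral of order at least 4, the centralizer of any involution has a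
normal subgroup of odd order whose index in the centralizer is a power of 2. -/
theorem result {X : Type*} [Group X] [Finite X]
    (S : Sylow 2 X) (n : ℕ) (hn : 2 ≤ n) (hS : Nonempty ((S : Subgroup X) ≃* DihedralGroup n)) (t : X)
    (ht : orderOf t = 2) :
    ∃ N : Subgroup (Subgroup.centralizer ({t} : Set X)), N.Normal ∧ Odd (Nat.card N) ∧ ∃ k : ℕ, N.index = 2 ^ k := by
  classical
  haveI : Fact (Nat.Prime 2) := ⟨Nat.prime_two⟩
  obtain ⟨eS⟩ := hS
  set C := Subgroup.centralizer ({t} : Set X) with hC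
  obtain ⟨T⟩ := (inferInstance : Nonempty (Sylow 2 ↥C))
  have hTp : IsPGroup 2 ↥((T : Subgroup ↥C).map C.subtype) := T.2.map _
  obtain ⟨S', hS'⟩ := hTp.exists_le_sylow
  obtain ⟨x, hx⟩ := MulAction.exists_smul_eq X S S'
  have hmem : ∀ y : ↥(T : Subgroup ↥C), x⁻¹ * ((y : ↥C) : X) * x ∈ (S : Subgroup X) := by
    intro y
    have h1 : ((y : ↥C) : X) ∈ (S' : Subgroup X) := hS' ⟨(y : ↥C), y.2, rfl⟩
    rw [← hx, TISylow.mem_sylow_smul] at h1
    exact h1
  let ψ₀ : ↥(T : Subgroup ↥C) →* ↥(S : Subgroup X) :=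
    { toFun := fun y => ⟨x⁻¹ * ((y : ↥C) : X) * x, hmem y⟩
      map_one' := by
        apply Subtype.ext
        simp
      map_mul' := fun a b => by
        apply Subtype.ext
        show x⁻¹ * (((a * b : ↥(T : Subgroup ↥C)) : ↥C) : X) * x =
          (x⁻¹ * ((a : ↥C) : X) * x) * (x⁻¹ * ((b : ↥C) : X) * x)
        rw [Subgroup.coe_mul, Subgroup.coe_mul]
        group }
  have hψ₀ : Function.Injective ψ₀ := by
    intro a b hab
    have h1 : x⁻¹ * ((a : ↥C) : X) * x = x⁻¹ * ((b : ↥C) : X) * x := congrArg Subtype.val hab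
    have h2 : ((a : ↥C) : X) = ((b : ↥C) : X) := by
      have := mul_right_cancel h1
      exact mul_left_cancel this
    exact Subtype.ext (Subtype.ext h2)
  let ψ : ↥(T : Subgroup ↥C) →* DihedralGroup n := eS.toMonoidHom.comp ψ₀
  have hψ : Function.Injective ψ := eS.injective.comp hψ₀
  obtain ⟨R₀, hshape⟩ := DihShape.shape_of_injective (T : Subgroup ↥C) ψ hψ
  have htC : t ∈ C := by
    rw [hC, Subgroup.mem_centralizer_iff]
    intro h hh
    rw [Set.mem_singleton_iff.mp hh]
  let t' : ↥C := ⟨t, htC⟩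
  have ht'c : ∀ c : ↥C, c * t' = t' * c := by
    intro c
    apply Subtype.ext
    show (c : X) * t = t * (c : X)
    have := Subgroup.mem_centralizer_iff.mp c.2 t rfl
    exact this.symm
  have ht'ord : orderOf t' = 2 := by
    rw [Subgroup.orderOf_mk]; exact ht
  have ht'1 : t' ≠ 1 := by
    intro h
    rw [h, orderOf_one] at ht'ord
    norm_num at ht'ord
  have ht'sq : t' * t' = 1 := by
    rw [← pow_two, ← ht'ord]; exact pow_orderOf_eq_one t'
  have ht'T : t' ∈ (T : Subgroup ↥C) := by
    have hp : IsPGroup 2 ↥(Subgroup.zpowers t') := by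
      apply IsPGroup.of_card (n := 1)
      rw [pow_one, Nat.card_zpowers, ht'ord]
    obtain ⟨T', hT'⟩ := hp.exists_le_sylow
    obtain ⟨c, hc⟩ := MulAction.exists_smul_eq ↥C T T'
    have h1 : t' ∈ (T' : Subgroup ↥C) := hT' (Subgroup.mem_zpowers t')
    rw [← hc, TISylow.mem_sylow_smul] at h1
    have h2 : c⁻¹ * t' * c = t' := by
      rw [mul_assoc, ← ht'c c]; group
    rwa [h2] at h1
  have hfrob : Cfsg.HasNormalPComplement 2 ↥C := by
    apply NormalPComplement.hasNormalPComplement_of_p'_centralize T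
    intro Q hQT g hg hodd
    rcases DihShape.main hshape T.2 Q hQT g hg hodd with h | ⟨hcard, hexp⟩
    · exact h
    · have ht'Q : t' ∈ Q := by
        by_contra hn
        have hZe : Cfsg.IsElementaryAbelian 2 (Subgroup.zpowers t') := by
          apply elemAb_of_exp_two
          intro q hq
          obtain ⟨k, rfl⟩ := Subgroup.mem_zpowers_iff.mp hq
          rcases DihShape.zpow_of_sq_eq_one ht'sq k with h | h
          · rw [h, one_mul]
          · rw [h, ht'sq]
        have hQe := elemAb_of_exp_two Q hexp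
        have hcent : Q ≤ Subgroup.centralizer ((Subgroup.zpowers t' : Subgroup ↥C) : Set ↥C) := by
          intro q _
          rw [Subgroup.mem_centralizer_iff]
          intro z hz
          obtain ⟨k, rfl⟩ := Subgroup.mem_zpowers_iff.mp hz
          have : Commute t' q := (ht'c q).symm
          exact (this.zpow_left k).eq
        have hE := Cfsg.Agent.S0607.elemAb_sup hQe hZe hcent
        have hET : Q ⊔ Subgroup.zpowers t' ≤ (T : Subgroup ↥C) :=
          sup_le hQT (by rw [Subgroup.zpowers_le]; exact ht'T)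
        have hle := DihShape.card_le_four hshape _ hET (fun q hq => by
          have := hE.2 q hq
          rwa [pow_two] at this)
        have hlt : Q < Q ⊔ Subgroup.zpowers t' := by
          refine lt_of_le_of_ne le_sup_left ?_
          intro h
          apply hn
          rw [h]
          exact (le_sup_right : Subgroup.zpowers t' ≤ Q ⊔ Subgroup.zpowers t')
            (Subgroup.mem_zpowers t')
        have := Subnormal.card_lt_card_of_lt hlt
        omega
      exact klein_case Q hcard t' ht'Q ht'1 g hg (ht'c g) hodd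
  obtain ⟨N, hN, hc, k, hk⟩ := NormalPComplement.exists_normal_of_hasNormalPComplement hfrob
  exact ⟨N, hN, Nat.coprime_two_right.mp hc, k, hk⟩

end Cfsg.Agent.S0514
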