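import Mathlib
import Cfsg.Statements.S0907
import Cfsg.Agent.Lib.helper3.ProjVanish6
import Cfsg.Agent.Lib.helper3.BlockBasic

set_option autoImplicit false
open scoped ComplexConjugate
open Cfsg

namespace Cfsg.Agent.S0907

open Cfsg.Agent.Lib.helper3.Block Cfsg.Agent.Lib.helper3.LocalM
set_option linter.style.haveILetI false

/-- Weak block orthogonality. Let B be a block of the finite group G relative to a maximal ideal M of the algebraic integers containing the prime p. If the order of x is prime to p and the order of y is divisible by p, then the sum over χ ∈ B of χ x * conj (χ y) is zero. -/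
theorem result {G : Type*} [Group G] [Finite G] (p : ℕ) [Fact p.Prime] (M : Ideal Cfsg.AlgInt) (hM : Cfsg.IsPModular p M) (B : Set (Cfsg.IrrCharacter G)) (hB : Cfsg.IsPBlock M B) (x y : G) (hx : ¬ p ∣ orderOf x) (hy : p ∣ orderOf y) : ∑ᶠ χ ∈ B, (χ : G → ℂ) x * conj ((χ : G → ℂ) y) = 0 := by
  classical
  letI : Fintype G := Fintype.ofFinite G
  haveI hMp := isPrime_of_isPModular hM
  obtain ⟨χ₀, rfl⟩ := hB
  have hS : ∀ θ ∈ blockOf M (χ₀ : G → ℂ), blockOf M (θ : G → ℂ) ⊆ blockOf M (χ₀ : G → ℂ) := by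
    intro θ hθ ψ hψ
    exact sameBlock_trans hθ hψ
  have h1 := weak_block_orthogonality hM (blockOf M (χ₀ : G → ℂ)) hS x y hx hy
  rw [finsum_mem_def, finsum_eq_sum_of_fintype, ← h1]
  apply Finset.sum_congr rfl
  intro χ _
  rw [Set.indicator_apply]
  by_cases h : χ ∈ blockOf M (χ₀ : G → ℂ)
  · rw [if_pos h, if_pos h, one_mul]
  · rw [if_neg h, if_neg h, zero_mul]

end Cfsg.Agent.S0907
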