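import Mathlib
import Cfsg.Statements.S0925
import Cfsg.Agent.Lib.helper3.SecMain5

set_option autoImplicit false
open Cfsg

namespace Cfsg.Agent.S0925

set_option linter.style.haveILetI false

open Cfsg Cfsg.Agent.Lib.helper3.Block Cfsg.Agent.Lib.helper3.CharBasic Cfsg.Agent.Lib.helper3.Irr Cfsg.Agent.Lib.helper3.Central Cfsg.Agent.Lib.helper3.IndFun

/-- (i) Let ϑ be a class function on the finite group G and x a p-element, and suppose ϑ vanishes at every element whose p-part is conjugate to x. Then for every block B (relative to a maximal ideal M of the algebraic integers containing p) the B-part of ϑ — the sum over χ ∈ B of the inner product of ϑ with χ, times χ — also vanishes at every such element. (ii) Block orthogonality, its corollary: if the p-parts of g and h are not conjugate, then the sum over χ ∈ B of χ g * χ h⁻¹ is zero for every block B. -/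
theorem result {G : Type*} [Group G] [Finite G] (p : ℕ) [Fact p.Prime] (M : Ideal Cfsg.AlgInt) (hM : Cfsg.IsPModular p M) : (∀ (ϑ : G → ℂ), Cfsg.IsClassFunction G ϑ → ∀ x : G, (∃ k : ℕ, orderOf x = p ^ k) → (∀ u z : G, Cfsg.IsPPart p u z → IsConj x z → ϑ u = 0) → ∀ B : Set (Cfsg.IrrCharacter G), Cfsg.IsPBlock M B → ∀ u z : G, Cfsg.IsPPart p u z → IsConj x z → Cfsg.blockPart B ϑ u = 0) ∧ (∀ g h x y : G, Cfsg.IsPPart p g x → Cfsg.IsPPart p h y → ¬ IsConj x y → ∀ B : Set (Cfsg.IrrCharacter G), Cfsg.IsPBlock M B → ∑ᶠ χ ∈ B, (χ : G → ℂ) g * (χ : G → ℂ) h⁻¹ = 0) := by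
  classical
  letI : Fintype G := Fintype.ofFinite G
  have hp : p.Prime := Fact.out
  have hG0 : (Nat.card G : ℂ) ≠ 0 := card_ne_zero_complex G
  have key : ∀ g h x y : G, Cfsg.IsPPart p g x → Cfsg.IsPPart p h y → ¬ IsConj x y →
      ∀ B : Set (Cfsg.IrrCharacter G), Cfsg.IsPBlock M B →
      ∑ χ : Cfsg.IrrCharacter G, (if χ ∈ B then (1 : ℂ) else 0)
        * ((χ : G → ℂ) g * (χ : G → ℂ) h⁻¹) = 0 := by
    intro g h x y hx hy hxy B hB
    exact block_orthogonality hM B hB g h x y hx hy hxy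
  constructor
  · intro ϑ hϑ x hx hvan B hB u z hu hxz
    unfold Cfsg.blockPart
    show ∑ᶠ χ ∈ B, Cfsg.classInner ϑ (χ : G → ℂ) * (χ : G → ℂ) u = 0
    rw [finsum_mem_set_eq_sum_ite]
    have h1 : ∀ χ : Cfsg.IrrCharacter G, (if χ ∈ B then (1 : ℂ) else 0)
        * (Cfsg.classInner ϑ (χ : G → ℂ) * (χ : G → ℂ) u)
        = ∑ g : G, (Nat.card G : ℂ)⁻¹ * ϑ g * ((if χ ∈ B then (1 : ℂ) else 0)
          * ((χ : G → ℂ) u * (χ : G → ℂ) g⁻¹)) := by
      intro χ
      have hχc := isCharacter_of_isIrrCharacter χ.2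
      rw [classInner_apply, Finset.mul_sum, Finset.sum_mul, Finset.mul_sum]
      apply Finset.sum_congr rfl
      intro g _
      rw [isCharacter_apply_inv hχc]
      ring
    rw [Finset.sum_congr rfl (fun χ _ => h1 χ), Finset.sum_comm]
    apply Finset.sum_eq_zero
    intro g _
    rw [← Finset.mul_sum]
    obtain ⟨zg, hzg⟩ := exists_isPPart p hp g
    by_cases hc : IsConj x zg
    · rw [hvan g zg hzg hc, mul_zero, zero_mul]
    · rw [key u g z zg hu hzg (fun h => hc (hxz.trans h)) B hB, mul_zero]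
  · intro g h x y hx hy hxy B hB
    rw [finsum_mem_set_eq_sum_ite]
    exact key g h x y hx hy hxy B hB


end Cfsg.Agent.S0925
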