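import Mathlib
import Cfsg.Statements.S3116

set_option autoImplicit false
open Cfsg

namespace Cfsg.Agent.S3116

open Subgroup

/-- An automorphism sending `c` into `zpowers c` maps `zpowers c` into itself. -/
theorem map_mem_zpowers {X : Type*} [Group X] (c : X) (γ : MulAut X) (h : γ c ∈ zpowers c)
    (g : X) (hg : g ∈ zpowers c) : γ g ∈ zpowers c := by
  obtain ⟨a, rfl⟩ := mem_zpowers_iff.mp hg
  rw [map_zpow]
  exact zpow_mem h a

/-- Iterating an automorphism with `α c = c ^ j`. -/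
theorem pow_apply_gen {X : Type*} [Group X] (c : X) (α : MulAut X) (j : ℕ) (hj : α c = c ^ j)
    (t : ℕ) : (α ^ t) c = c ^ (j ^ t) := by
  induction t with
  | zero => simp
  | succ t ih =>
    rw [pow_succ, MulAut.mul_apply, hj, map_pow, ih, ← pow_mul, pow_succ]

/-- Iterating an automorphism with `β g = g * w`, `β w = w`. -/
theorem pow_apply_mul {X : Type*} [Group X] (β : MulAut X) (g w : X) (hg : β g = g * w)
    (hw : β w = w) (t : ℕ) : (β ^ t) g = g * w ^ t := by
  have hwt : ∀ t : ℕ, (β ^ t) w = w := by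
    intro t
    induction t with
    | zero => simp
    | succ t ih => rw [pow_succ, MulAut.mul_apply, hw, ih]
  induction t with
  | zero => simp
  | succ t ih =>
    rw [pow_succ, MulAut.mul_apply, hg, map_mul, ih, hwt, pow_succ, mul_assoc]

/-- Key lemma: a group with a cyclic subgroup `⟨c⟩` of index two and order `2 ^ k`, none of
whose outside elements has order `2 ^ k`, has only automorphisms of `2`-power order. -/
theorem aut_pow_eq_one {X : Type*} [Group X] [Finite X] (c : X) (k : ℕ) (hk : 1 ≤ k)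
    (hc : orderOf c = 2 ^ k) (hidx : (zpowers c).index = 2)
    (hout : ∀ g : X, g ∉ zpowers c → orderOf g ≠ 2 ^ k) (α : MulAut X) :
    α ^ (2 ^ (k - 1) * 2 ^ k) = 1 := by
  have h1 : α c ∈ zpowers c := by
    by_contra hcon
    exact hout _ hcon (by rw [MulEquiv.orderOf_eq]; exact hc)
  obtain ⟨j, hj⟩ : ∃ j : ℕ, c ^ j = α c := by
    have := (isOfFinOrder_of_finite c).mem_powers_iff_mem_zpowers.mpr h1
    exact Submonoid.mem_powers_iff _ _ |>.mp this
  have hcop : Nat.Coprime j (2 ^ k) := by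
    have h2 : orderOf (c ^ j) = 2 ^ k := by rw [hj, MulEquiv.orderOf_eq]; exact hc
    rw [orderOf_pow, hc] at h2
    have h3 : Nat.gcd (2 ^ k) j ∣ 2 ^ k := Nat.gcd_dvd_left _ _
    have h4 := Nat.div_mul_cancel h3
    rw [h2] at h4
    have h5 : Nat.gcd (2 ^ k) j = 1 := by
      have hpos : 0 < 2 ^ k := by positivity
      have : 2 ^ k * Nat.gcd (2 ^ k) j = 2 ^ k * 1 := by rw [h4, mul_one]
      exact Nat.eq_of_mul_eq_mul_left hpos this
    rw [Nat.coprime_comm]
    exact h5
  have htot : Nat.totient (2 ^ k) = 2 ^ (k - 1) := by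
    rw [Nat.totient_prime_pow Nat.prime_two (by omega)]
    simp
  obtain ⟨β, hβ⟩ : ∃ β : MulAut X, β = α ^ (2 ^ (k - 1)) := ⟨_, rfl⟩
  have hβc : β c = c := by
    rw [hβ, pow_apply_gen c α j hj.symm]
    have h6 : j ^ (2 ^ (k - 1)) ≡ 1 [MOD orderOf c] := by
      rw [hc, ← htot]
      exact Nat.ModEq.pow_totient hcop
    have := (pow_eq_pow_iff_modEq (x := c)).mpr h6
    rw [this, pow_one]
  have hβinv : β⁻¹ c = c := by
    conv_lhs => rw [← hβc]
    simp
  have hβC : ∀ g ∈ zpowers c, β g = g := by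
    intro g hg
    obtain ⟨a, rfl⟩ := mem_zpowers_iff.mp hg
    rw [map_zpow, hβc]
  have hpowC : ∀ w ∈ zpowers c, w ^ (2 ^ k) = 1 := by
    intro w hw
    obtain ⟨a, rfl⟩ := mem_zpowers_iff.mp hw
    rw [← zpow_natCast, ← zpow_mul, mul_comm, zpow_mul, zpow_natCast, ← hc, pow_orderOf_eq_one,
      one_zpow]
  rw [pow_mul, ← hβ]
  ext g
  rw [MulAut.one_apply]
  by_cases hg : g ∈ zpowers c
  · have : ∀ t : ℕ, (β ^ t) g = g := by
      intro t
      induction t with
      | zero => simp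
      | succ t ih => rw [pow_succ, MulAut.mul_apply, hβC g hg, ih]
    exact this _
  · have hβg : β g ∉ zpowers c := by
      intro hcon
      apply hg
      have := map_mem_zpowers c β⁻¹ (by rw [hβinv]; exact mem_zpowers c) _ hcon
      simpa using this
    have hw : g⁻¹ * β g ∈ zpowers c := by
      rw [mul_mem_iff_of_index_two hidx, inv_mem_iff]
      exact ⟨fun h => absurd h hg, fun h => absurd h hβg⟩
    have hgw : β g = g * (g⁻¹ * β g) := by group
    rw [pow_apply_mul β g _ hgw (hβC _ hw), hpowC _ hw, mul_one]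

theorem isPGroup_aut {X : Type*} [Group X] [Finite X] (c : X) (k : ℕ) (hk : 1 ≤ k)
    (hc : orderOf c = 2 ^ k) (hidx : (zpowers c).index = 2)
    (hout : ∀ g : X, g ∉ zpowers c → orderOf g ≠ 2 ^ k) : IsPGroup 2 (MulAut X) := by
  intro α
  refine ⟨(k - 1) + k, ?_⟩
  rw [pow_add]
  exact aut_pow_eq_one c k hk hc hidx hout α

theorem index_zpowers_eq_two {X : Type*} [Group X] [Finite X] (c : X) (N : ℕ) (hN : 0 < N)
    (hc : orderOf c = N) (hcard : Nat.card X = 2 * N) : (zpowers c).index = 2 := by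
  have h := (zpowers c).card_mul_index
  rw [Nat.card_zpowers, hc, hcard] at h
  have : N * (zpowers c).index = N * 2 := by rw [h, mul_comm]
  exact Nat.eq_of_mul_eq_mul_left hN this

theorem dihedral_case {X : Type*} [Group X] [Finite X] (h2 : IsPGroup 2 X) (n : ℕ) (hn : 4 ≤ n)
    (e : X ≃* DihedralGroup n) : IsPGroup 2 (MulAut X) := by
  have hcard : Nat.card X = 2 * n := by
    rw [Nat.card_congr e.toEquiv, DihedralGroup.nat_card]
  obtain ⟨m, hm⟩ := IsPGroup.iff_card.mp h2
  rw [hcard] at hm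
  have hm1 : 1 ≤ m := by
    rcases m with _ | m
    · omega
    · omega
  have hnk : n = 2 ^ (m - 1) := by
    obtain ⟨m', rfl⟩ : ∃ m', m = m' + 1 := ⟨m - 1, by omega⟩
    rw [pow_succ] at hm
    simp only [Nat.add_sub_cancel]
    omega
  have hk1 : 1 ≤ m - 1 := by
    by_contra hcon
    have : m - 1 = 0 := by omega
    rw [this] at hnk
    omega
  obtain ⟨c, hcdef⟩ : ∃ c : X, c = e.symm (DihedralGroup.r 1) := ⟨_, rfl⟩
  have hc : orderOf c = n := by
    rw [hcdef, MulEquiv.orderOf_eq, DihedralGroup.orderOf_r_one]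
  have hidx := index_zpowers_eq_two c n (by omega) hc hcard
  refine isPGroup_aut c (m - 1) hk1 (by rw [hc]; exact hnk) hidx ?_
  intro g hg
  have hne : ∀ i : ZMod n, e g ≠ DihedralGroup.r i := by
    intro i hi
    apply hg
    have hn0 : NeZero n := ⟨by omega⟩
    have : g = c ^ (i.val) := by
      apply e.injective
      rw [map_pow, hcdef, MulEquiv.apply_symm_apply, DihedralGroup.r_one_pow, hi]
      simp
    rw [this]
    exact pow_mem (mem_zpowers c) _
  have : orderOf g = 2 := by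
    rw [← MulEquiv.orderOf_eq e]
    rcases hge : e g with i | i
    · exact absurd hge (hne i)
    · exact DihedralGroup.orderOf_sr i
  rw [this, ← hnk]
  omega

theorem quasi_case {X : Type*} [Group X] [Finite X] (h : Cfsg.IsQuasiDihedral X) :
    IsPGroup 2 (MulAut X) := by
  obtain ⟨n, hn, hcard, x, y, hx, hy, hyx⟩ := h
  have hidx := index_zpowers_eq_two x (2 ^ n) (by positivity) hx (by rw [hcard, pow_succ, mul_comm])
  have hy2 : y * y = 1 := by
    have := pow_orderOf_eq_one y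
    rwa [hy, pow_two] at this
  have hyinv : y⁻¹ = y := inv_eq_of_mul_eq_one_right hy2
  have hpow8 : 8 ≤ 2 ^ n := by
    calc 8 = 2 ^ 3 := by norm_num
      _ ≤ 2 ^ n := Nat.pow_le_pow_right (by norm_num) hn
  have hpow4 : 4 ≤ 2 ^ (n - 1) := by
    calc 4 = 2 ^ 2 := by norm_num
      _ ≤ 2 ^ (n - 1) := Nat.pow_le_pow_right (by norm_num) (by omega)
  have hpp : 2 ^ n = 2 * 2 ^ (n - 1) := by
    obtain ⟨n', rfl⟩ : ∃ n', n = n' + 1 := ⟨n - 1, by omega⟩
    simp only [Nat.add_sub_cancel]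
    rw [pow_succ, mul_comm]
  -- y ∉ ⟨x⟩
  have hyC : y ∉ zpowers x := by
    intro hcon
    obtain ⟨a, ha⟩ := mem_zpowers_iff.mp hcon
    have hcomm : y * x = x * y := by
      rw [← ha, ← zpow_add_one, ← zpow_one_add, add_comm]
    have h1 : x = x ^ (2 ^ (n - 1) - 1) := by
      rw [← hyx, hcomm, mul_assoc, mul_inv_cancel, mul_one]
    have h2 : x ^ 1 = x ^ (2 ^ (n - 1) - 1) := by rw [pow_one]; exact h1
    rw [pow_eq_pow_iff_modEq, hx] at h2
    have h3 := (Nat.modEq_iff_dvd' (by omega)).mp h2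
    have h4 := Nat.le_of_dvd (by omega) h3
    omega
  refine isPGroup_aut x n (by omega) hx hidx ?_
  intro g hg
  have hw : y⁻¹ * g ∈ zpowers x := by
    rw [mul_mem_iff_of_index_two hidx, inv_mem_iff]
    exact ⟨fun h => absurd h hyC, fun h => absurd h hg⟩
  obtain ⟨i, hi⟩ : ∃ i : ℕ, x ^ i = y⁻¹ * g := by
    have := (isOfFinOrder_of_finite x).mem_powers_iff_mem_zpowers.mpr hw
    exact Submonoid.mem_powers_iff _ _ |>.mp this
  have hg' : g = y * x ^ i := by rw [hi]; group
  have hconj : y * x ^ i * y⁻¹ = x ^ ((2 ^ (n - 1) - 1) * i) := by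
    rw [pow_mul, ← hyx, conj_pow]
  have hg2 : g ^ 2 = x ^ (2 ^ (n - 1) * i) := by
    have : g ^ 2 = (y * x ^ i * y⁻¹) * x ^ i := by
      rw [hg', pow_two, hyinv]; group
    rw [this, hconj, ← pow_add]
    congr 1
    have : 2 ^ (n - 1) = (2 ^ (n - 1) - 1) + 1 := by omega
    conv_rhs => rw [this, add_mul, one_mul]
  have hg4 : g ^ 4 = 1 := by
    have : g ^ 4 = (g ^ 2) ^ 2 := by rw [← pow_mul]
    rw [this, hg2, ← pow_mul]
    have : 2 ^ (n - 1) * i * 2 = 2 ^ n * i := by rw [hpp]; ring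
    rw [this, pow_mul, ← hx, pow_orderOf_eq_one, one_pow]
  intro hcon
  have := orderOf_dvd_of_pow_eq_one hg4
  rw [hcon] at this
  have := Nat.le_of_dvd (by norm_num) this
  omega

/-- The automorphism group of a dihedral 2-group of order at least 8, or of a quasi-dihedral (semidihedral) 2-group of order at least 16, is a 2-group. -/
theorem result {X : Type*} [Group X] [Finite X] (h2 : IsPGroup 2 X)
    (h : (∃ n : ℕ, 4 ≤ n ∧ Nonempty (X ≃* DihedralGroup n)) ∨ Cfsg.IsQuasiDihedral X) : IsPGroup 2 (MulAut X) := by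
  rcases h with ⟨n, hn, ⟨e⟩⟩ | h
  · exact dihedral_case h2 n hn e
  · exact quasi_case h

end Cfsg.Agent.S3116
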