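import Mathlib
import Cfsg.Statements.S4189
import Cfsg.Agent.H2.MaxClassTwo
import Cfsg.Agent.S3116

set_option autoImplicit false
open Cfsg

namespace Cfsg.Agent.S4189

open Cfsg.Agent.H2 Cfsg.Agent.H2.MaxClassTwo

/-- Let P be a finite non-abelian 2-group whose commutator subgroup has index 4 and whose automorphism group is not a 2-group (some automorphism has order that is not a power of 2). Then P is isomorphic to the quaternion group of order 8. -/
theorem result {P : Type*} [Group P] [Finite P] (hP : IsPGroup 2 P) (hna : ¬ IsMulCommutative P) (h4 : (commutator P).index = 4) (haut : ¬ IsPGroup 2 (MulAut P)) : Nonempty (P ≃* QuaternionGroup 2) := by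
  haveI : Fact (Nat.Prime 2) := ⟨Nat.prime_two⟩
  obtain ⟨n, hn⟩ := IsPGroup.iff_card.mp hP
  have hd4 : 4 ∣ 2 ^ n := by
    rw [← hn, ← h4]; exact Subgroup.index_dvd_card _
  have hn2 : 2 ≤ n := by
    by_contra hlt
    have : n = 0 ∨ n = 1 := by omega
    rcases this with rfl | rfl <;> omega
  have hn3 : 3 ≤ n := by
    by_contra hlt
    have hn' : n = 2 := by omega
    apply hna
    rw [isMulCommutative_iff]
    have h1 := (commutator P).card_mul_index
    rw [h4, hn, hn'] at h1
    have h2 : Nat.card (commutator P) = 1 := by omega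
    have h3 : commutator P = ⊥ := Subgroup.card_eq_one.mp h2
    rw [commutator_eq_bot_iff_center_eq_top] at h3
    intro x y
    have : y ∈ Subgroup.center P := h3 ▸ Subgroup.mem_top y
    exact Subgroup.mem_center_iff.mp this x
  obtain ⟨a, ha⟩ := Taussky.exists_orderOf n hn3 P hn h4
  have hA2 := index_zpowers n hn3 hn a ha
  -- some element outside `⟨a⟩` has the order of `a`
  obtain ⟨g, hg, hgo⟩ : ∃ g : P, g ∉ Subgroup.zpowers a ∧ orderOf g = 2 ^ (n - 1) := by
    by_contra hcon
    push_neg at hcon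
    apply haut
    intro α
    refine ⟨(n - 1 - 1) + (n - 1), ?_⟩
    rw [pow_add]
    exact Cfsg.Agent.S3116.aut_pow_eq_one a (n - 1) (by omega) ha hA2 hcon α
  have hg4 : g ^ 4 = 1 := by
    have hz := z_sq n hn3 a ha
    rcases sq_or n hn3 hn h4 a ha g hg hA2 with h | h
    · calc g ^ 4 = (g * g) * (g * g) := by rw [show (4 : ℕ) = 2 + 2 from rfl, pow_add, pow_two]
        _ = 1 := by rw [h, one_mul]
    · calc g ^ 4 = (g * g) * (g * g) := by rw [show (4 : ℕ) = 2 + 2 from rfl, pow_add, pow_two]
        _ = 1 := by rw [h, hz]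
  have hn' : n = 3 := by
    have h1 := orderOf_dvd_of_pow_eq_one hg4
    rw [hgo] at h1
    have h2 : (2 : ℕ) ^ (n - 1) ∣ 2 ^ 2 := by norm_num; exact h1
    have := (Nat.pow_dvd_pow_iff_le_right (by norm_num)).mp h2
    omega
  subst hn'
  have ha' : orderOf a = 4 := by rw [ha]; norm_num
  have hgo' : orderOf g = 4 := by rw [hgo]; norm_num
  have hgg : g * g = a ^ 2 := by
    rcases sq_or 3 hn3 hn h4 a ha g hg hA2 with h | h
    · exfalso
      have h1 : orderOf g ∣ 2 := orderOf_dvd_of_pow_eq_one (by rw [pow_two]; exact h)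
      rw [hgo'] at h1
      omega
    · rw [h]; norm_num
  have hinv : g * a * g⁻¹ = a⁻¹ := by
    rcases inv_or 3 hn3 hn h4 a ha g hg hA2 with h | h
    · exact (inv_eq_of_mul_eq_one_right h).symm
    · exfalso
      apply not_comm 3 hn3 hn h4 a ha g hg
      have h5 : a * (g * a * g⁻¹) = a * a := by rw [h]; norm_num [pow_two]
      exact mul_left_cancel h5
  have hxy : a * g = g * a⁻¹ := by
    have h1 : g * a⁻¹ * g⁻¹ = a := by
      calc g * a⁻¹ * g⁻¹ = (g * a * g⁻¹)⁻¹ := by group
        _ = a := by rw [hinv, inv_inv]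
    calc a * g = (g * a⁻¹ * g⁻¹) * g := by rw [h1]
      _ = g * a⁻¹ := by group
  have ha2 : a ^ (2 * 2) = 1 := by
    have := pow_orderOf_eq_one a
    rw [ha'] at this
    exact this
  obtain ⟨f, hfa, hfxa⟩ := UOP.quatHom 2 a g ha2 hgg hxy
  have hinj := UOP.quatHom_injective 2 a g f hfa hfxa ha' hg
  have hbij : Function.Bijective f := by
    apply hinj.bijective_of_nat_card_le
    rw [Nat.card_eq_fintype_card (α := QuaternionGroup 2), QuaternionGroup.card, hn]
    norm_num
  exact ⟨(MulEquiv.ofBijective f hbij).symm⟩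

end Cfsg.Agent.S4189
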