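import Cfsg.Statements.S0060
import Mathlib
import Cfsg.Prelude.Def_Solvable
import Cfsg.Agent.H1.Basic
import Cfsg.Agent.H1.Cores
import Cfsg.Agent.H1.SylowMore

set_option autoImplicit false
open Pointwise
open Cfsg

namespace Cfsg.Agent.S0060

open Cfsg.Agent.H1
open scoped Pointwise

/-- Brodkey's Theorem: in a finite group with abelian Sylow p-subgroups and no nontrivial normal p-subgroup, some conjugate of a Sylow p-subgroup meets it trivially. -/
theorem result {G : Type*} [Group G] [Finite G] (p : ℕ) [Fact p.Prime]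
    (S : Sylow p G) (hS : IsMulCommutative S) (hOp : Cfsg.pCore p G = ⊥) :
    ∃ g : G, (S : Subgroup G) ⊓ MulAut.conj g • (S : Subgroup G) = ⊥ := by
  -- all Sylow subgroups are abelian
  have hab : ∀ T : Sylow p G, IsMulCommutative (T : Subgroup G) := by
    intro T
    obtain ⟨g, rfl⟩ := MulAction.exists_smul_eq G S T
    apply IsMulCommutative.of_setLike_mul_comm
    intro a ha b hb
    have ha' : g⁻¹ * a * g ∈ (S : Subgroup G) := (mem_sylow_smul g a S).mp ha
    have hb' : g⁻¹ * b * g ∈ (S : Subgroup G) := (mem_sylow_smul g b S).mp hb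
    have hSab : IsMulCommutative (S : Subgroup G) := hS
    have := setLike_mul_comm ha' hb'
    have e1 : a * b = g * ((g⁻¹ * a * g) * (g⁻¹ * b * g)) * g⁻¹ := by group
    have e2 : b * a = g * ((g⁻¹ * b * g) * (g⁻¹ * a * g)) * g⁻¹ := by group
    rw [e1, e2, this]
  -- choose T with |S ∩ T| minimal
  obtain ⟨T, hTmin⟩ : ∃ T : Sylow p G, ∀ T' : Sylow p G,
      Nat.card ((S : Subgroup G) ⊓ (T : Subgroup G) : Subgroup G) ≤ Nat.card ((S : Subgroup G) ⊓ (T' : Subgroup G) : Subgroup G) := by
    have := Finite.exists_min (fun T : Sylow p G => Nat.card ((S : Subgroup G) ⊓ (T : Subgroup G) : Subgroup G))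
    exact this
  -- minimality over all pairs
  have hmin2 : ∀ R' T' : Sylow p G,
      Nat.card ((S : Subgroup G) ⊓ (T : Subgroup G) : Subgroup G) ≤ Nat.card ((R' : Subgroup G) ⊓ (T' : Subgroup G) : Subgroup G) := by
    intro R' T'
    obtain ⟨g, hg⟩ := MulAction.exists_smul_eq G R' S
    have h1 := hTmin (g • T')
    have h2 : ((R' : Subgroup G) ⊓ (T' : Subgroup G)).map (MulAut.conj g).toMonoidHom =
        (S : Subgroup G) ⊓ ((g • T' : Sylow p G) : Subgroup G) := by
      rw [Subgroup.map_inf _ _ _ (MulAut.conj g).injective, ← hg, Sylow.coe_subgroup_smul, Sylow.coe_subgroup_smul]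
      rfl
    rw [← h2, Subgroup.card_map_of_injective (MulAut.conj g).injective] at h1
    exact h1
  obtain ⟨D, hD⟩ : ∃ D : Subgroup G, D = (S : Subgroup G) ⊓ (T : Subgroup G) := ⟨_, rfl⟩
  rw [← hD] at hmin2
  -- D lies in every Sylow
  have hDall : ∀ R : Sylow p G, D ≤ (R : Subgroup G) := by
    intro R
    -- N = N_G(D) contains S and T
    have hSN : (S : Subgroup G) ≤ Subgroup.normalizer (D : Set G) := by
      refine le_trans ?_ (Subgroup.centralizer_le_normalizer (D : Set G))
      intro x hx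
      rw [Subgroup.mem_centralizer_iff]
      intro d hd
      have := hab S
      exact setLike_mul_comm (hD ▸ hd : d ∈ (S : Subgroup G) ⊓ (T : Subgroup G)).1 hx
    have hTN : (T : Subgroup G) ≤ Subgroup.normalizer (D : Set G) := by
      refine le_trans ?_ (Subgroup.centralizer_le_normalizer (D : Set G))
      intro x hx
      rw [Subgroup.mem_centralizer_iff]
      intro d hd
      have := hab T
      exact setLike_mul_comm (hD ▸ hd : d ∈ (S : Subgroup G) ⊓ (T : Subgroup G)).2 hx
    have hidx : ¬ p ∣ (S : Subgroup G).relIndex (Subgroup.normalizer (D : Set G)) :=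
      fun h => S.not_dvd_index (h.trans (Subgroup.relIndex_dvd_index_of_le hSN))
    obtain ⟨n, hn, hle⟩ := exists_le_map_conj_of_pgroup (Subgroup.normalizer (D : Set G)) (S : Subgroup G)
      ((R : Subgroup G) ⊓ Subgroup.normalizer (D : Set G)) hSN S.isPGroup' hidx inf_le_right (R.isPGroup'.to_le inf_le_left)
    -- R' = n⁻¹ • R
    have h1 : ((n⁻¹ • R : Sylow p G) : Subgroup G) ⊓ (T : Subgroup G) ≤ D := by
      intro x hx
      have hxR : x ∈ (n⁻¹ • R : Sylow p G) := (Subgroup.mem_inf.mp hx).1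
      have hxT : x ∈ (T : Subgroup G) := (Subgroup.mem_inf.mp hx).2
      rw [mem_sylow_smul, inv_inv] at hxR
      have hxN : x ∈ Subgroup.normalizer (D : Set G) := hTN hxT
      have h2 : n * x * n⁻¹ ∈ (R : Subgroup G) ⊓ Subgroup.normalizer (D : Set G) :=
        Subgroup.mem_inf.mpr ⟨hxR, mul_mem (mul_mem hn hxN) (inv_mem hn)⟩
      have h3 := hle h2
      rw [conj_mem_map_conj_iff] at h3
      rw [hD]
      exact Subgroup.mem_inf.mpr ⟨h3, hxT⟩
    have h2 : ((n⁻¹ • R : Sylow p G) : Subgroup G) ⊓ (T : Subgroup G) = D :=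
      Subgroup.eq_of_le_of_card_ge h1 (hmin2 _ _)
    intro d hd
    have hdR : n⁻¹ * d * n ∈ (n⁻¹ • R : Sylow p G) := by
      have : n⁻¹ * d * n ∈ D := by
        have := (Subgroup.mem_normalizer_iff.mp (inv_mem hn) d).mp hd
        rwa [inv_inv] at this
      rw [← h2] at this
      exact (Subgroup.mem_inf.mp this).1
    rw [mem_sylow_smul, inv_inv] at hdR
    have e : n * (n⁻¹ * d * n) * n⁻¹ = d := by group
    rw [e] at hdR
    exact hdR
  -- the intersection of all Sylows
  have hKn : (⨅ R : Sylow p G, (R : Subgroup G)).Normal := by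
    constructor
    intro x hx g
    rw [Subgroup.mem_iInf] at hx ⊢
    intro R
    have := hx (g⁻¹ • R)
    have h1 : x ∈ (g⁻¹ • R : Sylow p G) := this
    rw [mem_sylow_smul, inv_inv] at h1
    exact h1
  have hKp : IsPGroup p (⨅ R : Sylow p G, (R : Subgroup G) : Subgroup G) := S.isPGroup'.to_le (iInf_le _ S)
  have hK : (⨅ R : Sylow p G, (R : Subgroup G)) ≤ Cfsg.pCore p G := le_pCore hKn hKp
  have hDbot : D = ⊥ := by
    rw [eq_bot_iff, ← hOp]
    exact le_trans (le_iInf hDall) hK
  obtain ⟨g, hg⟩ := MulAction.exists_smul_eq G S T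
  refine ⟨g, ?_⟩
  rw [← Sylow.coe_subgroup_smul, hg, ← hD, hDbot]

end Cfsg.Agent.S0060
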