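import Mathlib
import Cfsg.Statements.S3383
-- import your own Cfsg.Agent.* helpers here

set_option autoImplicit false
open Cfsg

namespace Cfsg.Agent.S3383

open scoped Pointwise

theorem mem_conj_smul {L : Type*} [Group L] (H : Subgroup L) (g x : L) :
    x ∈ MulAut.conj g • H ↔ g⁻¹ * x * g ∈ H := by
  rw [Subgroup.mem_pointwise_smul_iff_inv_smul_mem, MulAut.smul_def, MulAut.conj_inv_apply]

theorem mem_kernel_iff {L : Type*} [Group L] (H : Subgroup L) (x : L) :
    x ∈ Cfsg.frobeniusKernel H ↔ x = 1 ∨ ∀ g : L, g⁻¹ * x * g ∉ H := by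
  unfold Cfsg.frobeniusKernel
  show (x = 1 ∨ ∀ g : L, x ∉ MulAut.conj g • H) ↔ _
  simp only [mem_conj_smul]

theorem result {L : Type*} [Group L] [Finite L]
    (H : Subgroup L) (hH : Cfsg.IsFrobeniusComplement H)
    (K : Subgroup L) (hK : (K : Set L) = Cfsg.frobeniusKernel H) :
    K.Characteristic ∧ ∀ N : Subgroup L, N.Normal → K ≤ N ∨ N ≤ K := by
  obtain ⟨hbot, htop, hfrob⟩ := hH
  have memK : ∀ x : L, x ∈ K ↔ x = 1 ∨ ∀ g : L, g⁻¹ * x * g ∉ H := by
    intro x
    rw [← mem_kernel_iff, ← hK]; rfl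
  -- K is normal
  have hKn : K.Normal := by
    constructor
    intro k hk g
    rw [memK] at hk ⊢
    rcases hk with rfl | hk
    · left; simp
    · right
      intro a
      have := hk (g⁻¹ * a)
      convert this using 1
      simp [mul_assoc]
  -- centralizer in K of nontrivial h ∈ H is trivial
  have hcent : ∀ h ∈ H, h ≠ 1 → ∀ k ∈ K, h * k = k * h → k = 1 := by
    intro h hh hh1 k hk hcomm
    by_contra hk1
    have hkH : k ∉ H := by
      rcases (memK k).mp hk with h1 | h2
      · exact absurd h1 hk1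
      · have := h2 1
        simpa using this
    have hinf := hfrob k hkH
    have : h ∈ H ⊓ (MulAut.conj k • H) := by
      rw [Subgroup.mem_inf]
      refine ⟨hh, ?_⟩
      rw [mem_conj_smul]
      have : k⁻¹ * h * k = h := by
        rw [mul_assoc, hcomm, ← mul_assoc, inv_mul_cancel, one_mul]
      rw [this]; exact hh
    rw [hinf, Subgroup.mem_bot] at this
    exact hh1 this
  have part2 : ∀ N : Subgroup L, N.Normal → K ≤ N ∨ N ≤ K := by
    intro N hN
    by_cases hNH : N ⊓ H = ⊥
    · right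
      intro x hx
      rw [memK]
      by_cases hx1 : x = 1
      · left; exact hx1
      · right
        intro g hg
        have h1 : g⁻¹ * x * g ∈ N := by
          have := hN.conj_mem x hx g⁻¹
          simpa using this
        have h2 : g⁻¹ * x * g ∈ N ⊓ H := ⟨h1, hg⟩
        rw [hNH, Subgroup.mem_bot] at h2
        apply hx1
        have : x = g * (g⁻¹ * x * g) * g⁻¹ := by group
        rw [this, h2]; simp
    · left
      obtain ⟨h, hhNH, hh1⟩ := (N ⊓ H).bot_or_exists_ne_one.resolve_left hNH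
      obtain ⟨hhN, hhH⟩ := Subgroup.mem_inf.mp hhNH
      let f : K → K := fun k =>
        ⟨h * (k : L) * h⁻¹ * (k : L)⁻¹, K.mul_mem (hKn.conj_mem _ k.2 h) (K.inv_mem k.2)⟩
      have hf : Function.Injective f := by
        intro a b hab
        have h1 : h * (a : L) * h⁻¹ * (a : L)⁻¹ = h * (b : L) * h⁻¹ * (b : L)⁻¹ :=
          congrArg Subtype.val hab
        -- (b⁻¹ a) commutes with h
        have h2 : h * ((b : L)⁻¹ * a) = ((b : L)⁻¹ * a) * h := by
          have e1 : (a : L) * h⁻¹ * (a : L)⁻¹ = (b : L) * h⁻¹ * (b : L)⁻¹ := by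
            have := congrArg (fun x => h⁻¹ * x) h1
            simpa [mul_assoc] using this
          have e2 : ((b : L)⁻¹ * a) * h⁻¹ = h⁻¹ * ((b : L)⁻¹ * a) := by
            calc ((b : L)⁻¹ * a) * h⁻¹ = (b : L)⁻¹ * ((a : L) * h⁻¹ * (a : L)⁻¹) * a := by group
              _ = (b : L)⁻¹ * ((b : L) * h⁻¹ * (b : L)⁻¹) * a := by rw [e1]
              _ = h⁻¹ * ((b : L)⁻¹ * a) := by group
          calc h * ((b : L)⁻¹ * a) = h * (((b : L)⁻¹ * a) * h⁻¹) * h := by group
            _ = h * (h⁻¹ * ((b : L)⁻¹ * a)) * h := by rw [e2]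
            _ = ((b : L)⁻¹ * a) * h := by group
        have h3 := hcent h hhH hh1 _ (K.mul_mem (K.inv_mem b.2) a.2) h2
        apply Subtype.ext
        have : (a : L) = (b : L) * ((b : L)⁻¹ * a) := by group
        rw [this, h3, mul_one]
      have hsurj := Finite.surjective_of_injective hf
      intro k' hk'
      obtain ⟨k, hk⟩ := hsurj ⟨k', hk'⟩
      have h4 : h * (k : L) * h⁻¹ * (k : L)⁻¹ = k' := congrArg Subtype.val hk
      rw [← h4]
      have : h * (k : L) * h⁻¹ * (k : L)⁻¹ = h * ((k : L) * h⁻¹ * (k : L)⁻¹) := by group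
      rw [this]
      exact N.mul_mem hhN (hN.conj_mem _ (N.inv_mem hhN) k)
  refine ⟨?_, part2⟩
  rw [Subgroup.characteristic_iff_map_le]
  intro φ
  have hn : (K.map φ.toMonoidHom).Normal := hKn.map _ φ.surjective
  have hcard : Nat.card (K.map φ.toMonoidHom) = Nat.card K :=
    Subgroup.card_map_of_injective φ.injective
  rcases part2 _ hn with h | h
  · exact (Subgroup.eq_of_le_of_card_ge h hcard.le).symm.le
  · exact h

end Cfsg.Agent.S3383
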