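import Cfsg.Statements.S0037
import Mathlib
import Cfsg.Agent.H1.FrobeniusDominance
import Cfsg.Agent.Lib.Helper4.FrobThm
import Cfsg.Agent.S3383

set_option autoImplicit false
open Pointwise
open Cfsg

namespace Cfsg.Agent.S0037

set_option autoImplicit false
open scoped Pointwise commutatorElement
open Cfsg.Agent.H1

/-- Of two Frobenius complements in one finite group, the one of smaller (or equal) order is conjugate to a subgroup of the other. -/
theorem result {G : Type*} [Group G] [Finite G] (H H₀ : Subgroup G)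
    (hH : Cfsg.IsFrobeniusComplement H) (hH₀ : Cfsg.IsFrobeniusComplement H₀) (hle : Nat.card H₀ ≤ Nat.card H) :
    ∃ g : G, MulAut.conj g • H₀ ≤ H := by
  obtain ⟨N, hN, hNn, hNc⟩ := Cfsg.Agent.Lib.Helper4.FrobThm.frobenius_theorem H hH
  obtain ⟨N₀, hN₀, hN₀n, hN₀c⟩ := Cfsg.Agent.Lib.Helper4.FrobThm.frobenius_theorem H₀ hH₀
  have h1 := hNc.card_mul_card
  have h2 := hN₀c.card_mul_card
  have hdvd : Nat.card H₀ ∣ Nat.card H := by
    rcases (Cfsg.Agent.S3383.result H hH N hN).2 N₀ hN₀n with h | h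
    · -- N ≤ N₀
      obtain ⟨d, hd⟩ := Subgroup.card_dvd_of_le h
      refine ⟨d, ?_⟩
      have : Nat.card N * Nat.card H = Nat.card N * (Nat.card H₀ * d) := by
        rw [h1, ← h2, hd]; ring
      exact Nat.eq_of_mul_eq_mul_left Nat.card_pos this
    · -- N₀ ≤ N
      have hc : Nat.card N₀ ≤ Nat.card N := Nat.le_of_dvd Nat.card_pos (Subgroup.card_dvd_of_le h)
      have hc2 : Nat.card N ≤ Nat.card N₀ := by
        by_contra hlt
        rw [not_le] at hlt
        have : Nat.card N₀ * Nat.card H₀ < Nat.card N * Nat.card H :=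
          Nat.mul_lt_mul_of_lt_of_le hlt hle Nat.card_pos
        rw [h1, h2] at this
        exact lt_irrefl _ this
      have heq : Nat.card N₀ = Nat.card N := le_antisymm hc hc2
      rw [heq, ← h1] at h2
      rw [Nat.eq_of_mul_eq_mul_left Nat.card_pos h2]
  obtain ⟨x, hx⟩ := frobenius_dominance H hH H₀ hdvd
  refine ⟨x⁻¹, ?_⟩
  intro y hy
  rw [mem_conj_smul, inv_inv] at hy
  have := hx hy
  rw [mem_conj_smul] at this
  have e : x⁻¹ * (x * y * x⁻¹) * x = y := by group
  rwa [e] at this

end Cfsg.Agent.S0037
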