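import Cfsg.Statements.S0542
import Mathlib
import Cfsg.Agent.H1.Basic
import Cfsg.Agent.H1.Card

set_option autoImplicit false
open Cfsg

namespace Cfsg.Agent.S0542

open Cfsg.Agent.H1

/-- A Sylow p-subgroup of a finite group meets every subnormal subgroup H in a Sylow p-subgroup of H. -/
theorem result {G : Type*} [Group G] [Finite G] (p : ℕ) [Fact p.Prime] (H : Subgroup G) (hH : H.IsSubnormal) (S : Sylow p G) : ∃ Q : Sylow p H, (Q : Subgroup H) = (S : Subgroup G).subgroupOf H := by
  have key : ¬ p ∣ (S : Subgroup G).relIndex H := by
    induction hH with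
    | top => rw [Subgroup.relIndex_top_right]; exact S.not_dvd_index
    | step H K hle hK hN ih =>
      intro hdvd
      apply ih
      have h1 : K ≤ Subgroup.normalizer (H : Set G) := (Subgroup.normal_subgroupOf_iff_le_normalizer hle).mp hN
      exact hdvd.trans (relIndex_dvd_relIndex_of_normal _ H K hle h1)
  have hp : IsPGroup p ((S : Subgroup G).subgroupOf H) := by
    have := S.isPGroup'
    exact this.comap_subtype
  exact ⟨hp.toSylow key, hp.toSylow_coe key⟩

end Cfsg.Agent.S0542
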