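import Cfsg.Statements.S1946
import Cfsg.Agent.Lib.Lead.NormalPComplement
import Cfsg.Agent.Lib.Lead.OmegaFaithful
import Cfsg.Agent.S0027
import Cfsg.Agent.H1.CoprimeAction
import Cfsg.Agent.Lib.Lead.Conj

set_option autoImplicit false
open Cfsg

namespace Cfsg.Agent.S1946

open scoped commutatorElement
open Cfsg.Agent.Lib.Lead.OmegaFaithful in
theorem fwd {G : Type*} [Group G] [Finite G] {p : ℕ} [Fact p.Prime] (P : Sylow p G)
    (h : Cfsg.HasNormalPComplement p G) :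
    ∀ a ∈ (P : Subgroup G), ∀ g : G, g * a * g⁻¹ ∈ (P : Subgroup G) →
      ∃ x ∈ (P : Subgroup G), g * a * g⁻¹ = x * a * x⁻¹ := by
  have hp : p.Prime := Fact.out
  obtain ⟨N, hN, hc, k, hk⟩ :=
    Cfsg.Agent.Lib.Lead.NormalPComplement.exists_normal_of_hasNormalPComplement h
  haveI := hN
  have htop : N ⊔ (P : Subgroup G) = ⊤ := by
    rw [← Subgroup.index_eq_one]
    have h1 : (N ⊔ (P : Subgroup G)).index ∣ p ^ k := by
      rw [← hk]; exact Subgroup.index_dvd_of_le le_sup_left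
    have h2 : (N ⊔ (P : Subgroup G)).index ∣ (P : Subgroup G).index :=
      Subgroup.index_dvd_of_le le_sup_right
    obtain ⟨j, hj, hidx⟩ := (Nat.dvd_prime_pow hp).mp h1
    rcases Nat.eq_zero_or_pos j with h0 | hpos
    · rw [hidx, h0, pow_zero]
    · exfalso
      apply P.not_dvd_index
      refine dvd_trans ?_ h2
      rw [hidx]; exact dvd_pow_self p hpos.ne'
  have hdisj : N ⊓ (P : Subgroup G) = ⊥ := by
    obtain ⟨m, hm⟩ := P.isPGroup'.exists_card_eq
    apply (Subgroup.disjoint_of_coprime_natCard _).eq_bot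
    rw [hm]; exact Nat.Coprime.pow_right m hc
  intro a ha g hg
  have hg' : g ∈ N ⊔ (P : Subgroup G) := by rw [htop]; exact Subgroup.mem_top g
  obtain ⟨n, hn, x, hx, rfl⟩ := (Cfsg.Agent.H1.mem_sup_of_le_normalizer N (P : Subgroup G)
    (by rw [Subgroup.normalizer_eq_top]; exact le_top)).mp hg'
  refine ⟨x, hx, ?_⟩
  have hb : x * a * x⁻¹ ∈ (P : Subgroup G) := mul_mem (mul_mem hx ha) (inv_mem hx)
  have hcomm : n * (x * a * x⁻¹) * n⁻¹ * (x * a * x⁻¹)⁻¹ ∈ N ⊓ (P : Subgroup G) := by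
    refine Subgroup.mem_inf.mpr ⟨?_, ?_⟩
    · have h1 : (x * a * x⁻¹) * n⁻¹ * (x * a * x⁻¹)⁻¹ ∈ N := hN.conj_mem _ (N.inv_mem hn) _
      have e : n * (x * a * x⁻¹) * n⁻¹ * (x * a * x⁻¹)⁻¹ =
          n * ((x * a * x⁻¹) * n⁻¹ * (x * a * x⁻¹)⁻¹) := by group
      rw [e]; exact N.mul_mem hn h1
    · have e : n * (x * a * x⁻¹) * n⁻¹ = n * x * a * (n * x)⁻¹ := by group
      rw [e]; exact mul_mem hg (inv_mem hb)
  rw [hdisj, Subgroup.mem_bot] at hcomm
  have h3 := mul_inv_eq_one.mp hcomm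
  rw [← h3]; group

open Cfsg.Agent.Lib.Lead.OmegaFaithful in
theorem bwd {G : Type*} [Group G] [Finite G] {p : ℕ} [hp : Fact p.Prime] (P : Sylow p G)
    (H : ∀ a ∈ (P : Subgroup G), (a ^ p = 1 ∨ (p = 2 ∧ a ^ 4 = 1)) → ∀ g : G,
        g * a * g⁻¹ ∈ (P : Subgroup G) → ∃ x ∈ (P : Subgroup G), g * a * g⁻¹ = x * a * x⁻¹) :
    ∀ n : ℕ, ∀ Q : Subgroup G, Nat.card Q = n → Q ≤ (P : Subgroup G) →
      ∀ y ∈ Subgroup.normalizer (Q : Set G),
      Nat.Coprime (orderOf y) p → y ∈ Subgroup.centralizer (Q : Set G) := by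
  classical
  intro n
  induction n using Nat.strong_induction_on with
  | _ n ih =>
  intro Q hQn hQP y hyN hyc
  by_contra hyC
  have hQp : IsPGroup p Q := P.isPGroup'.to_le hQP
  have IH : ∀ R : Subgroup G, R ≤ Q → R ≠ Q → y ∈ Subgroup.normalizer (R : Set G) →
      y ∈ Subgroup.centralizer (R : Set G) := by
    intro R hRQ hne hyR
    have hlt : Nat.card R < n := by
      rw [← hQn]
      exact lt_of_le_of_ne (Subgroup.card_le_of_le hRQ)
        (fun h => hne (Subgroup.eq_of_le_of_card_ge hRQ h.ge))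
    exact ih _ hlt R rfl (hRQ.trans hQP) y hyR hyc
  obtain ⟨Y, hY⟩ : ∃ Y, Y = Subgroup.zpowers y := ⟨_, rfl⟩
  have hyY : y ∈ Y := by rw [hY]; exact Subgroup.mem_zpowers y
  have hYN : Y ≤ Subgroup.normalizer (Q : Set G) := by rw [hY]; exact Subgroup.zpowers_le.mpr hyN
  have hcopYQ : (Nat.card Y).Coprime (Nat.card Q) := by
    rw [hY, Nat.card_zpowers]
    obtain ⟨m, hm⟩ := hQp.exists_card_eq
    rw [hm]; exact Nat.Coprime.pow_right m hyc
  have hQsolv : Group.IsSolvable Q := by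
    haveI := hQp.isNilpotent
    exact IsNilpotent.to_isSolvable
  have hcent_iff : ∀ R : Subgroup G, y ∈ Subgroup.centralizer (R : Set G) ↔ ⁅R, Y⁆ = ⊥ := by
    intro R
    rw [Subgroup.commutator_eq_bot_iff_le_centralizer, Subgroup.le_centralizer_iff, hY,
      Subgroup.zpowers_le]
  have hQY : ⁅Q, Y⁆ = Q := by
    by_contra hne
    have hle : ⁅Q, Y⁆ ≤ Q := Subgroup.le_normalizer_iff_commutator_le_left.mp hYN
    have hyR : y ∈ Subgroup.normalizer ((⁅Q, Y⁆ : Subgroup G) : Set G) :=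
      (Subgroup.normalizer_commutator_ge_right Q Y) hyY
    have h1 := (hcent_iff _).mp (IH _ hle hne hyR)
    have h27 := Cfsg.Agent.S0027.result Y Q hYN hcopYQ (Or.inr hQsolv)
    rw [h27] at h1
    exact hyC ((hcent_iff Q).mpr h1)
  have hQne : Q ≠ ⊥ := by
    intro h; apply hyC; rw [h, Subgroup.mem_centralizer_iff]
    intro x hx
    have : x = 1 := by simpa using hx
    rw [this]; simp
  obtain ⟨Φ, hΦ⟩ : ∃ Φ, Φ = agemo p Q := ⟨_, rfl⟩
  have hΦQ : Φ ≤ Q := by rw [hΦ]; exact agemo_le p Q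
  have hΦne : Φ ≠ Q := by
    intro h
    have h1 := card_agemo_lt' Q hQp hQne
    rw [← hΦ, h] at h1; exact lt_irrefl _ h1
  have hconjQ : ∀ x ∈ Q, y * x * y⁻¹ ∈ Q := fun x hx => (Subgroup.mem_normalizer_iff.mp hyN x).mp hx
  have hyΦ : y ∈ Subgroup.normalizer (Φ : Set G) := by
    apply Cfsg.Agent.Lib.Lead.Conj.mem_normalizer_of_conj_mem
    intro r hr
    rw [hΦ] at hr ⊢
    have h1 := agemo_invariant (p := p) (MulAut.conj y) Q
      (fun x hx => by simpa [MulAut.conj_apply] using hconjQ x hx) r hr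
    simpa [MulAut.conj_apply] using h1
  have hΦY : ⁅Φ, Y⁆ = ⊥ := (hcent_iff Φ).mp (IH Φ hΦQ hΦne hyΦ)
  have hQΦn : Q ≤ Subgroup.normalizer (Φ : Set G) := by
    rw [Subgroup.le_normalizer_iff]
    intro x hx f hf
    rw [hΦ] at hf ⊢
    exact conj_mem_agemo hx hf
  have hQΦ : ⁅Q, Φ⁆ = ⊥ := by
    have h1 : ⁅⁅Q, Φ⁆, Y⁆ = ⊥ := by
      rw [eq_bot_iff, ← hΦY]
      apply Subgroup.commutator_mono _ le_rfl
      rw [Subgroup.commutator_comm]
      exact Subgroup.le_normalizer_iff_commutator_le_left.mp hQΦn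
    have h2 : ⁅⁅Φ, Y⁆, Q⁆ = ⊥ := by rw [hΦY]; exact Subgroup.commutator_bot_left Q
    have h3 := Subgroup.commutator_commutator_eq_bot_of_rotate h1 h2
    rw [Subgroup.commutator_comm Y Q, hQY] at h3
    exact h3
  have hΦcent : ∀ a ∈ Q, ∀ f ∈ Φ, f * a = a * f := by
    intro a ha f hf
    have h1 := (Subgroup.commutator_eq_bot_iff_le_centralizer.mp hQΦ) ha
    exact (Subgroup.mem_centralizer_iff.mp h1) f hf
  -- exponent
  obtain ⟨e, he⟩ : ∃ e : ℕ, e = if p = 2 then 4 else p := ⟨_, rfl⟩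
  have hmul : ∀ a ∈ Q, ∀ b ∈ Q, a ^ e = 1 → b ^ e = 1 → (a * b) ^ e = 1 := by
    intro a ha b hb hae hbe
    obtain ⟨z, hz⟩ : ∃ z, z = b⁻¹ * a⁻¹ * b * a := ⟨_, rfl⟩
    have hzΦ : z ∈ Φ := by
      have h1 : z = ⁅b⁻¹, a⁻¹⁆ := by rw [hz, commutatorElement_def]; group
      rw [h1, hΦ]
      exact comm_mem_agemo (Q.inv_mem hb) (Q.inv_mem ha)
    have hza : z * a = a * z := hΦcent a ha z hzΦ
    have hzb : z * b = b * z := hΦcent b hb z hzΦ
    have h : b * a = a * b * z := by rw [hz]; group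
    have hzp : z ^ p = 1 := by
      have h1 := class_two_pow_comm h hza hzb p
      have h2 : b ^ p * a = a * b ^ p := hΦcent a ha _ (by rw [hΦ]; exact pow_mem_agemo hb)
      rw [h2] at h1
      have h3 : a * b ^ p * 1 = a * b ^ p * z ^ p := by rw [mul_one]; exact h1
      exact (mul_left_cancel h3).symm
    have key := class_two_pow h hza hzb e
    rw [key, hae, hbe, one_mul, one_mul]
    by_cases hp2 : p = 2
    · have he4 : e = 4 := by rw [he, if_pos hp2]
      rw [he4]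
      have hs : (∑ i ∈ Finset.range 4, i) = 2 * 3 := by decide
      rw [hs, pow_mul]
      rw [hp2] at hzp
      rw [hzp, one_pow]
    · have hep : e = p := by rw [he, if_neg hp2]
      rw [hep]
      have hodd : p % 2 = 1 := by
        rcases hp.out.eq_two_or_odd with h2 | h2
        · exact absurd h2 hp2
        · exact h2
      rw [sum_range_prime_odd hodd, pow_mul, hzp, one_pow]
  let Ω : Subgroup G :=
    { carrier := {a | a ∈ Q ∧ a ^ e = 1}
      mul_mem' := fun {a b} ha hb => ⟨Q.mul_mem ha.1 hb.1, hmul a ha.1 b hb.1 ha.2 hb.2⟩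
      one_mem' := ⟨Q.one_mem, one_pow e⟩
      inv_mem' := fun {a} ha => ⟨Q.inv_mem ha.1, by rw [inv_pow, ha.2, inv_one]⟩ }
  have hΩmem : ∀ a, a ∈ Ω ↔ a ∈ Q ∧ a ^ e = 1 := fun a => Iff.rfl
  have hΩQ : Ω ≤ Q := fun a ha => ((hΩmem a).mp ha).1
  have hyΩ : y ∈ Subgroup.normalizer (Ω : Set G) := by
    apply Cfsg.Agent.Lib.Lead.Conj.mem_normalizer_of_conj_mem
    intro r hr
    obtain ⟨hr1, hr2⟩ := (hΩmem r).mp hr
    refine (hΩmem _).mpr ⟨hconjQ r hr1, ?_⟩
    rw [conj_pow, hr2]; group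
  have hsmallΩ : ∀ x ∈ Q, (x ^ p = 1 ∨ (p = 2 ∧ x ^ 4 = 1)) → x ∈ Ω := by
    intro x hx hsm
    refine (hΩmem x).mpr ⟨hx, ?_⟩
    by_cases hp2 : p = 2
    · have he4 : e = 4 := by rw [he, if_pos hp2]
      rw [he4]
      rcases hsm with h1 | ⟨_, h1⟩
      · rw [hp2] at h1
        have : x ^ 4 = (x ^ 2) ^ 2 := by rw [← pow_mul]
        rw [this, h1, one_pow]
      · exact h1
    · have hep : e = p := by rw [he, if_neg hp2]
      rw [hep]
      rcases hsm with h1 | ⟨h1, _⟩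
      · exact h1
      · exact absurd h1 hp2
  have hΩeq : Ω = Q := by
    by_contra hne
    have h1 := IH Ω hΩQ hne hyΩ
    apply hyC
    apply centralizes_of_fixes_small Q hQp y hyN hyc
    intro x hx hsm
    have hxΩ := hsmallΩ x hx hsm
    have h2 := (Subgroup.mem_centralizer_iff.mp h1) x hxΩ
    rw [← h2]; group
  have hsmall : ∀ a ∈ Q, (a ^ p = 1 ∨ (p = 2 ∧ a ^ 4 = 1)) := by
    intro a ha
    have h1 : a ∈ Ω := by rw [hΩeq]; exact ha
    have h2 := ((hΩmem a).mp h1).2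
    by_cases hp2 : p = 2
    · right
      refine ⟨hp2, ?_⟩
      rw [he, if_pos hp2] at h2; exact h2
    · left
      rw [he, if_neg hp2] at h2; exact h2
  -- chain argument
  obtain ⟨c₀, hc₀⟩ := (Subgroup.isNilpotent_iff_lowerCentralSeries (P : Subgroup G)).mp
    P.isPGroup'.isNilpotent
  have hbad0 : ∃ a ∈ Q, a ∈ (P : Subgroup G).lowerCentralSeries 0 ∧ y * a ≠ a * y := by
    by_contra hno
    push Not at hno
    apply hyC
    rw [Subgroup.mem_centralizer_iff]
    intro a ha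
    exact (hno a ha (hQP ha)).symm
  have hex : ∃ m : ℕ, ¬ ∃ a ∈ Q, a ∈ (P : Subgroup G).lowerCentralSeries m ∧ y * a ≠ a * y := by
    refine ⟨c₀, ?_⟩
    rintro ⟨a, _, ha, hne⟩
    rw [hc₀, Subgroup.mem_bot] at ha
    apply hne; rw [ha]; simp
  have hm0 : Nat.find hex ≠ 0 := by
    intro h0
    have := Nat.find_spec hex
    rw [h0] at this
    exact this hbad0
  obtain ⟨m, hm⟩ := Nat.exists_eq_succ_of_ne_zero hm0
  have hbadm : ∃ a ∈ Q, a ∈ (P : Subgroup G).lowerCentralSeries m ∧ y * a ≠ a * y := by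
    have := Nat.find_min hex (show m < Nat.find hex by omega)
    push Not at this
    obtain ⟨a, ha1, ha2, ha3⟩ := this
    exact ⟨a, ha1, ha2, ha3⟩
  have hgood : ∀ a ∈ Q, a ∈ (P : Subgroup G).lowerCentralSeries (m + 1) → y * a = a * y := by
    have := Nat.find_spec hex
    rw [hm] at this
    push Not at this
    exact this
  obtain ⟨a, haQ, haL, hane⟩ := hbadm
  obtain ⟨x, hxP, hxa⟩ := H a (hQP haQ) (hsmall a haQ) y (hQP (hconjQ a haQ))
  obtain ⟨c, hc⟩ : ∃ c, c = a⁻¹ * (y * a * y⁻¹) := ⟨_, rfl⟩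
  have hcQ : c ∈ Q := by rw [hc]; exact Q.mul_mem (Q.inv_mem haQ) (hconjQ a haQ)
  have hcL : c ∈ (P : Subgroup G).lowerCentralSeries (m + 1) := by
    have h1 : c = ⁅a⁻¹, x⁆ := by rw [hc, hxa, commutatorElement_def]; group
    rw [h1, Subgroup.lowerCentralSeries_succ]
    exact Subgroup.commutator_mem_commutator (inv_mem haL) hxP
  have hyc' : y * c = c * y := hgood c hcQ hcL
  have hyac : y * a * y⁻¹ = a * c := by rw [hc]; group
  have hpow : ∀ k : ℕ, y ^ k * a * (y ^ k)⁻¹ = a * c ^ k := by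
    intro k
    induction k with
    | zero => simp
    | succ k ih2 =>
      have hyck : y * c ^ k = c ^ k * y := (Commute.pow_right (show Commute y c from hyc') k).eq
      calc y ^ (k + 1) * a * (y ^ (k + 1))⁻¹ = y * (y ^ k * a * (y ^ k)⁻¹) * y⁻¹ := by
            rw [pow_succ']; group
        _ = y * (a * c ^ k) * y⁻¹ := by rw [ih2]
        _ = (y * a * y⁻¹) * ((y * c ^ k) * y⁻¹) := by group
        _ = a * c * (c ^ k * y * y⁻¹) := by rw [hyac, hyck]
        _ = a * c ^ (k + 1) := by rw [pow_succ']; group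
  have h1 := hpow (orderOf y)
  rw [pow_orderOf_eq_one] at h1
  have hck : c ^ (orderOf y) = 1 := by
    have h2 : a * 1 = a * c ^ (orderOf y) := by rw [← h1]; group
    exact (mul_left_cancel h2).symm
  obtain ⟨j, hj⟩ := hQp ⟨c, hcQ⟩
  have hj' : c ^ (p ^ j) = 1 := by simpa using congrArg Subtype.val hj
  have d1 : orderOf c ∣ orderOf y := orderOf_dvd_of_pow_eq_one hck
  have d2 : orderOf c ∣ p ^ j := orderOf_dvd_of_pow_eq_one hj'
  have h4 : orderOf c = 1 :=
    Nat.Coprime.eq_one_of_dvd (Nat.Coprime.coprime_dvd_left d1 (hyc.pow_right j)) d2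
  have hc1 : c = 1 := orderOf_eq_one_iff.mp h4
  apply hane
  rw [hc1, mul_one] at hyac
  calc y * a = (y * a * y⁻¹) * y := by group
    _ = a * y := by rw [hyac]

/-- Let P be a Sylow p-subgroup of the finite group G. Then G has a normal p-complement if and only if P controls the fusion of its elements of order dividing p (dividing 4 when p = 2): whenever such an element a of P has a G-conjugate g a g⁻¹ in P, that conjugate is already x a x⁻¹ for some x in P. -/
theorem result {G : Type*} [Group G] [Finite G] {p : ℕ} [Fact p.Prime] (P : Sylow p G) :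
    Cfsg.HasNormalPComplement p G ↔
      ∀ a ∈ (P : Subgroup G), (a ^ p = 1 ∨ (p = 2 ∧ a ^ 4 = 1)) → ∀ g : G, g * a * g⁻¹ ∈ (P : Subgroup G) →
        ∃ x ∈ (P : Subgroup G), g * a * g⁻¹ = x * a * x⁻¹ := by

  constructor
  · intro h a ha _ g hg
    exact fwd P h a ha g hg
  · intro H
    apply Cfsg.Agent.Lib.Lead.NormalPComplement.hasNormalPComplement_of_p'_centralize P
    intro Q hQP g hg hgc
    exact bwd P H (Nat.card Q) Q rfl hQP g hg hgc

end Cfsg.Agent.S1946
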