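import Cfsg.Statements.S0992
import Mathlib
import Cfsg.Agent.Lib.Helper4.Simple

set_option autoImplicit false
open Cfsg

namespace Cfsg.Agent.S0992

open Cfsg.Agent.Lib.Helper4.Sylow Cfsg.Agent.Lib.Helper4.Simple

/-- the non-identity elements, as a sub-action of the automorphism group -/
def nonOne (T : Type*) [Group T] : SubMulAction (MulAut T) T where
  carrier := {t | t ≠ 1}
  smul_mem' := by
    intro f t ht
    show f t ≠ 1
    intro h
    apply ht
    have : f t = f 1 := by rw [h, map_one]
    exact f.injective this

theorem card_mulAut_dvd_six (T : Type*) [Group T] [IsKleinFour T] : Nat.card (MulAut T) ∣ 6 := by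
  classical
  have hfin : Finite T := IsKleinFour.instFinite
  have : Fintype (nonOne T) := Fintype.ofFinite _
  let φ := MulAction.toPermHom (MulAut T) (nonOne T)
  have hinj : Function.Injective φ := by
    rw [← MonoidHom.ker_eq_bot_iff, eq_bot_iff]
    intro f hf
    rw [MonoidHom.mem_ker] at hf
    rw [Subgroup.mem_bot]
    ext t
    by_cases ht : t = 1
    · rw [ht, map_one]; rfl
    · have := congrArg (fun σ : Equiv.Perm (nonOne T) => ((σ ⟨t, ht⟩ : nonOne T) : T)) hf
      exact this
  have h1 := Subgroup.card_dvd_of_injective φ hinj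
  rw [Nat.card_perm] at h1
  have h2 : Nat.card (nonOne T) = 3 := by
    have h3 : Nat.card (nonOne T) = ({(1 : T)}ᶜ : Set T).ncard := by
      rw [← Nat.card_coe_set_eq]; rfl
    rw [h3, Set.ncard_compl, Set.ncard_singleton, IsKleinFour.card_four]
  rw [h2] at h1
  exact h1



/-- Let G be a non-abelian finite simple group of even order not divisible by 8, and T a Sylow 2-subgroup. Then T is a Klein four-group and the centralizer of T has index 3 in the normalizer of T. -/
theorem result {G : Type*} [Group G] [Finite G] [IsSimpleGroup G] (hG : ¬ IsMulCommutative G) (h2 : Even (Nat.card G)) (h8 : ¬ 8 ∣ Nat.card G) (T : Sylow 2 G) : IsKleinFour ↥(T : Subgroup G) ∧ (Subgroup.centralizer ((T : Subgroup G) : Set G)).relIndex (Subgroup.normalizer ((T : Subgroup G) : Set G)) = 3 := by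
  have : Fact (Nat.Prime 2) := ⟨Nat.prime_two⟩
  have h2dvd : 2 ∣ Nat.card G := even_iff_two_dvd.mp h2
  have hmin : (Nat.card G).minFac = 2 := (Nat.minFac_eq_two_iff _).mpr h2dvd
  have hG0 : Nat.card G ≠ 0 := Nat.card_pos.ne'
  -- order of `T`
  have hTcard := T.card_eq_multiplicity
  set k := (Nat.card G).factorization 2 with hk
  have hk1 : 1 ≤ k := by
    have := (Nat.prime_two.pow_dvd_iff_le_factorization hG0 (k := 1)).mp (by simpa using h2dvd)
    exact this
  have hk2 : k ≤ 2 := by
    by_contra hcon
    push Not at hcon
    apply h8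
    have := (Nat.prime_two.pow_dvd_iff_le_factorization hG0 (k := 3)).mpr hcon
    simpa using this
  -- `T` is not the whole group
  have hTne : Nat.card (T : Subgroup G) ≠ Nat.card G := by
    intro h
    apply hG
    have hGcard : Nat.card G = 2 ^ k := by rw [← h, hTcard]
    have hk' : k = 1 ∨ k = 2 := by omega
    rcases hk' with h1 | h1
    · rw [h1, pow_one] at hGcard
      have : IsCyclic G := isCyclic_of_prime_card hGcard
      exact IsCyclic.isMulCommutative
    · rw [h1] at hGcard
      exact IsPGroup.isMulCommutative_of_card_eq_prime_sq (p := 2) hGcard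
  have hT1 : Nat.card (T : Subgroup G) ≠ 1 := by
    rw [hTcard]
    intro h
    have : 2 ^ 1 ≤ 2 ^ k := Nat.pow_le_pow_right (by norm_num) hk1
    omega
  -- `T` is not cyclic
  have hncyc : ¬ IsCyclic (T : Subgroup G) := by
    intro hcyc
    exact false_of_simple_of_normalizer_le_centralizer T
      (IsCyclic.normalizer_le_centralizer hmin hcyc) hT1 hTne
  have hk' : k = 2 := by
    by_contra hne
    have hk1' : k = 1 := by omega
    apply hncyc
    rw [hk1', pow_one] at hTcard
    exact isCyclic_of_prime_card hTcard
  have hT4 : Nat.card (T : Subgroup G) = 4 := by rw [hTcard, hk']; norm_num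
  -- Klein four
  have hsq : ∀ x : (T : Subgroup G), x ^ 2 = 1 := by
    intro x
    have h1 : orderOf x ∣ 4 := by rw [← hT4]; exact orderOf_dvd_natCard x
    have h4 : orderOf x ≠ 4 := by
      intro h
      exact hncyc (isCyclic_of_orderOf_eq_card x (by rw [h, hT4]))
    have hle := Nat.le_of_dvd (by norm_num) h1
    have h5 : orderOf x ∣ 2 := by
      generalize orderOf x = o at *
      interval_cases o <;> omega
    exact orderOf_dvd_iff_pow_eq_one.mp h5
  have hKlein : IsKleinFour (T : Subgroup G) := by
    refine ⟨hT4, ?_⟩
    have h1 : Monoid.exponent (T : Subgroup G) ∣ 2 :=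
      Monoid.exponent_dvd_of_forall_pow_eq_one hsq
    rcases (Nat.dvd_prime Nat.prime_two).mp h1 with h | h
    · exfalso
      rw [Monoid.exp_eq_one_iff] at h
      have := Finite.card_le_one_iff_subsingleton.mpr h
      omega
    · exact h
  refine ⟨hKlein, ?_⟩
  -- the index
  set N := Subgroup.normalizer ((T : Subgroup G) : Set G) with hN
  set C := Subgroup.centralizer ((T : Subgroup G) : Set G) with hC
  have hd6 : C.relIndex N ∣ 6 :=
    (relIndex_centralizer_normalizer_dvd (T : Subgroup G)).trans (card_mulAut_dvd_six _)
  have hcomm : IsMulCommutative (T : Subgroup G) := IsKleinFour.isMulCommutative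
  have hTC : (T : Subgroup G) ≤ C := Subgroup.le_centralizer (T : Subgroup G)
  have hodd : ¬ 2 ∣ C.relIndex N := by
    intro h
    have h1 : C.relIndex N ∣ (T : Subgroup G).relIndex N := Subgroup.relIndex_dvd_of_le_left N hTC
    have h2' : (T : Subgroup G).relIndex N ∣ (T : Subgroup G).index :=
      Subgroup.relIndex_dvd_index_of_le Subgroup.le_normalizer
    exact T.not_dvd_index (h.trans (h1.trans h2'))
  have hne1 : C.relIndex N ≠ 1 := by
    intro h
    rw [Subgroup.relIndex_eq_one] at h
    exact false_of_simple_of_normalizer_le_centralizer T h hT1 hTne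
  have hle := Nat.le_of_dvd (by norm_num) hd6
  generalize C.relIndex N = r at *
  interval_cases r <;> omega

end Cfsg.Agent.S0992
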