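import Mathlib
import Cfsg.Statements.S3742
import Cfsg.Agent.H9.CoxA3Perm

set_option autoImplicit false
open Cfsg

namespace Cfsg.Agent.S3742

open QuaternionGroup

abbrev Q := QuaternionGroup 2

/-- the map determined by the images of the two generators -/
def mk (A X : Q) : Q → Q
  | a i => A ^ i.val
  | xa i => X * A ^ i.val

theorem mk_self (φ : MulAut Q) (g : Q) : φ g = mk (φ (a 1)) (φ (xa 0)) g := by
  cases g with
  | a i =>
    have h : (a i : Q) = (a 1) ^ i.val := by revert i; decide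
    show φ (a i) = (φ (a 1)) ^ i.val
    rw [← map_pow, ← h]
  | xa i =>
    have h : (xa i : Q) = xa 0 * (a 1) ^ i.val := by revert i; decide
    show φ (xa i) = φ (xa 0) * (φ (a 1)) ^ i.val
    rw [← map_pow, ← map_mul, ← h]

/-- admissible pairs of images -/
def S : Finset (Q × Q) :=
  Finset.univ.filter (fun p => p.1 ^ 4 = 1 ∧ p.1 ^ 2 ≠ 1 ∧ p.2 ^ 4 = 1 ∧ p.2 ^ 2 ≠ 1 ∧ p.2 ≠ p.1 ∧ p.2 ≠ p.1⁻¹)

theorem card_S : S.card = 24 := by decide +kernel

theorem card_aut_le : Nat.card (MulAut Q) ≤ 24 := by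
  have hmem : ∀ φ : MulAut Q, (φ (a 1), φ (xa 0)) ∈ S := by
    intro φ
    unfold S
    rw [Finset.mem_filter]
    refine ⟨Finset.mem_univ _, ?_, ?_, ?_, ?_, ?_, ?_⟩
    · show (φ (a 1)) ^ 4 = 1
      rw [← map_pow]
      have : (a 1 : Q) ^ 4 = 1 := by decide
      rw [this, map_one]
    · show (φ (a 1)) ^ 2 ≠ 1
      rw [← map_pow]
      intro h
      have h2 : (a 1 : Q) ^ 2 = 1 := φ.injective (h.trans (map_one φ).symm)
      revert h2; decide
    · show (φ (xa 0)) ^ 4 = 1
      rw [← map_pow]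
      have : (xa 0 : Q) ^ 4 = 1 := by decide
      rw [this, map_one]
    · show (φ (xa 0)) ^ 2 ≠ 1
      rw [← map_pow]
      intro h
      have h2 : (xa 0 : Q) ^ 2 = 1 := φ.injective (h.trans (map_one φ).symm)
      revert h2; decide
    · show φ (xa 0) ≠ φ (a 1)
      intro h
      have h2 : (xa 0 : Q) = a 1 := φ.injective h
      revert h2; decide
    · show φ (xa 0) ≠ (φ (a 1))⁻¹
      rw [← map_inv]
      intro h
      have h2 : (xa 0 : Q) = (a 1)⁻¹ := φ.injective h
      revert h2; decide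
  have hinj : Function.Injective (fun φ : MulAut Q => (⟨(φ (a 1), φ (xa 0)), hmem φ⟩ : S)) := by
    intro φ ψ h
    have h' : (φ (a 1), φ (xa 0)) = (ψ (a 1), ψ (xa 0)) := congrArg (fun z : S => z.1) h
    have h1 : φ (a 1) = ψ (a 1) := congrArg Prod.fst h'
    have h2 : φ (xa 0) = ψ (xa 0) := congrArg Prod.snd h'
    apply MulEquiv.ext
    intro g
    rw [mk_self φ g, mk_self ψ g, h1, h2]
  have h1 := Nat.card_le_card_of_injective _ hinj
  have h2 : Nat.card S = 24 := by rw [Nat.card_eq_fintype_card, Fintype.card_coe, card_S]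
  rwa [h2] at h1

/-- an involutory automorphism from a pair of images -/
def mkAut (A X : Q) (h1 : ∀ g, mk A X (mk A X g) = g) (h2 : ∀ g h, mk A X (g * h) = mk A X g * mk A X h) :
    MulAut Q where
  toFun := mk A X
  invFun := mk A X
  left_inv := h1
  right_inv := h1
  map_mul' := h2

def fA : MulAut Q := mkAut (a 3) (xa 1) (by decide) (by decide)
def fB : MulAut Q := mkAut (xa 0) (a 1) (by decide) (by decide)
def fC : MulAut Q := mkAut (a 3) (xa 3) (by decide) (by decide)

theorem ext_of (φ ψ : MulAut Q) (h : ∀ g : Q, φ g = ψ g) : φ = ψ := MulEquiv.ext h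

theorem ne_of (φ ψ : MulAut Q) (g : Q) (h : φ g ≠ ψ g) : φ ≠ ψ := fun e => h (by rw [e])

/-- The automorphism group of the quaternion group of order 8 is isomorphic to the symmetric group of degree 4. -/
theorem result : Nonempty (MulAut (QuaternionGroup 2) ≃* Equiv.Perm (Fin 4)) := by
  have haa : fA * fA = 1 := ext_of _ _ (by decide)
  have hbb : fB * fB = 1 := ext_of _ _ (by decide)
  have hcc : fC * fC = 1 := ext_of _ _ (by decide)
  have hab : (fA * fB) ^ 3 = 1 := ext_of _ _ (by decide)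
  have hbc : (fB * fC) ^ 3 = 1 := ext_of _ _ (by decide)
  have hac : fA * fC = fC * fA := ext_of _ _ (by decide)
  have h1 : fA ≠ 1 := ne_of _ _ (a 1) (by decide)
  have h2 : fA * fC ≠ 1 := ne_of _ _ (xa 0) (by decide)
  have h3 : fA * fB ≠ 1 := ne_of _ _ (a 1) (by decide)
  have h4 : fA * fB * fC ≠ 1 := ne_of _ _ (a 1) (by decide)
  obtain ⟨φ, hφ, -, -, -⟩ := Cfsg.Agent.H9.CoxA3.exists_embedding haa hbb hcc hab hbc hac h1 h2 h3 h4
  have hbij : Function.Bijective φ := by
    apply hφ.bijective_of_nat_card_le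
    have h24 : Nat.card (Equiv.Perm (Fin 4)) = 24 := by
      rw [Nat.card_eq_fintype_card, Fintype.card_perm, Fintype.card_fin]; rfl
    rw [h24]
    exact card_aut_le
  exact ⟨(MulEquiv.ofBijective φ hbij).symm⟩

end Cfsg.Agent.S3742
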