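import Mathlib
import Cfsg.Statements.S1184
import Cfsg.Agent.H2.Isolated

set_option autoImplicit false
open Cfsg

namespace Cfsg.Agent.S1184

theorem odd_pow_inverts {G : Type*} [Group G] {u r : G} (h : u * r * u⁻¹ = r⁻¹) (k : ℕ) :
    u ^ (2 * k + 1) * r * (u ^ (2 * k + 1))⁻¹ = r⁻¹ := by
  induction k with
  | zero => simpa using h
  | succ k ih =>
    have e : u ^ (2 * (k + 1) + 1) = u * u * u ^ (2 * k + 1) := by
      rw [show 2 * (k + 1) + 1 = 2 + (2 * k + 1) by ring, pow_add, pow_two]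
    rw [e]
    have h' : u * r⁻¹ * u⁻¹ = r := by
      have := congrArg (·⁻¹) h
      simp only [mul_inv_rev, inv_inv] at this
      rw [← mul_assoc] at this
      exact this
    calc u * u * u ^ (2 * k + 1) * r * (u * u * u ^ (2 * k + 1))⁻¹
        = u * (u * (u ^ (2 * k + 1) * r * (u ^ (2 * k + 1))⁻¹) * u⁻¹) * u⁻¹ := by group
      _ = u * (u * r⁻¹ * u⁻¹) * u⁻¹ := by rw [ih]
      _ = r⁻¹ := by rw [h', h]

/-- Let z be an isolated involution of the finite group G. If s and t are distinct conjugates of z, then st does not commute with z. -/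
theorem result {G : Type*} [Group G] [Finite G] (z : G) (hz : Cfsg.IsIsolatedInvolution z) (g h : G) (hne : g * z * g⁻¹ ≠ h * z * h⁻¹) : ¬ Commute (g * z * g⁻¹ * (h * z * h⁻¹)) z := by
  intro hcomm
  set s := g * z * g⁻¹ with hs
  set t := h * z * h⁻¹ with ht
  have hsI : Cfsg.IsIsolatedInvolution s := Cfsg.Agent.H2.IsIsolatedInvolution.conj hz g
  have htI : Cfsg.IsIsolatedInvolution t := Cfsg.Agent.H2.IsIsolatedInvolution.conj hz h
  have hss := Cfsg.Agent.H2.IsIsolatedInvolution.mul_self hsI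
  have htt := Cfsg.Agent.H2.IsIsolatedInvolution.mul_self htI
  have hzz := Cfsg.Agent.H2.IsIsolatedInvolution.mul_self hz
  -- r = s * t has odd order
  have hodd_r : Odd (orderOf (s * t)) := by
    have := Cfsg.Agent.H2.IsIsolatedInvolution.odd_orderOf_conj_mul htI (g * h⁻¹)
    have e : g * h⁻¹ * t * (g * h⁻¹)⁻¹ = s := by rw [ht, hs]; group
    rwa [e] at this
  -- u = s * z has odd order
  have hodd_u : Odd (orderOf (s * z)) := Cfsg.Agent.H2.IsIsolatedInvolution.odd_orderOf_conj_mul hz g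
  clear_value s t
  set r := s * t with hr
  clear_value r
  -- s inverts r
  have hsr : s * r * s⁻¹ = r⁻¹ := by
    have hs' : s⁻¹ = s := inv_eq_of_mul_eq_one_left hss
    have ht' : t⁻¹ = t := inv_eq_of_mul_eq_one_left htt
    rw [hr, mul_inv_rev, hs', ht', ← mul_assoc, hss, one_mul]
  -- z centralizes r
  have hzr : z * r * z⁻¹ = r := by
    have := hcomm.eq
    calc z * r * z⁻¹ = (r * z) * z⁻¹ := by rw [this]
      _ = r := by group
  have hur : (s * z) * r * (s * z)⁻¹ = r⁻¹ := by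
    calc (s * z) * r * (s * z)⁻¹ = s * (z * r * z⁻¹) * s⁻¹ := by group
      _ = r⁻¹ := by rw [hzr, hsr]
  obtain ⟨k, hk⟩ := hodd_u
  have h1 := odd_pow_inverts hur k
  rw [← hk, pow_orderOf_eq_one] at h1
  simp only [one_mul, inv_one, mul_one] at h1
  -- r = r⁻¹ so r^2 = 1
  have hr2 : r ^ 2 = 1 := by
    rw [pow_two]
    nth_rewrite 1 [h1]
    simp
  have hd := orderOf_dvd_of_pow_eq_one hr2
  have hr1 : orderOf r = 1 := by
    rcases (Nat.dvd_prime Nat.prime_two).1 hd with h | h
    · exact h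
    · rw [h] at hodd_r; exact absurd hodd_r (by decide)
  rw [orderOf_eq_one_iff] at hr1
  apply hne
  have ht' : t⁻¹ = t := inv_eq_of_mul_eq_one_left htt
  calc s = s * t * t⁻¹ := by group
    _ = t := by rw [← hr, hr1, one_mul, ht']

end Cfsg.Agent.S1184
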