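import Mathlib
import Cfsg.Statements.S1185
import Cfsg.Agent.H2.Isolated

set_option autoImplicit false
open Cfsg

namespace Cfsg.Agent.S1185

theorem odd_of_dvd_odd {a b : ℕ} (h : a ∣ b) (hb : Odd b) : Odd a := by
  rcases Nat.even_or_odd a with ha | ha
  · exfalso
    have : Even b := ha.trans_dvd h
    exact (Nat.not_even_iff_odd.2 hb) this
  · exact ha

/-- if `k` has odd order, it is a power of `k^2`. -/
theorem eq_pow_sq_of_odd {G : Type*} [Group G] {k : G} (h : Odd (orderOf k)) :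
    ∃ m : ℕ, k = (k ^ 2) ^ m := by
  obtain ⟨m, hm⟩ := h
  refine ⟨m + 1, ?_⟩
  rw [← pow_mul, show 2 * (m + 1) = orderOf k + 1 by omega, pow_succ, pow_orderOf_eq_one, one_mul]

/-- Let z be an isolated involution of the finite group G with centralizer C. Then for every g ∈ G there is exactly one element k in the coset gC that has odd order and is inverted by z. -/
theorem result {G : Type*} [Group G] [Finite G] (z : G) (hz : Cfsg.IsIsolatedInvolution z) (g : G) : ∃! k : G, (Odd (orderOf k) ∧ z * k * z⁻¹ = k⁻¹) ∧ g⁻¹ * k ∈ Subgroup.centralizer ({z} : Set G) := by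
  have hzz := Cfsg.Agent.H2.IsIsolatedInvolution.mul_self hz
  have hz' : z⁻¹ = z := inv_eq_of_mul_eq_one_left hzz
  obtain ⟨j, hj⟩ := Cfsg.Agent.H2.IsIsolatedInvolution.exists_pow_conj hz g
  have hodd := Cfsg.Agent.H2.IsIsolatedInvolution.odd_orderOf_conj_mul hz g
  set w := g * z * g⁻¹ with hw
  have hw2 : w * w = 1 := by
    rw [hw]; calc g * z * g⁻¹ * (g * z * g⁻¹) = g * (z * z) * g⁻¹ := by group
      _ = 1 := by rw [hzz]; group
  have hinv := Cfsg.Agent.H2.inv_conj_of_invol hzz hw2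
  clear_value w
  set r := w * z with hr
  clear_value r
  -- general fact: membership in centralizer coset
  have hcent : ∀ k : G, g⁻¹ * k ∈ Subgroup.centralizer ({z} : Set G) ↔ k * z * k⁻¹ = w := by
    intro k
    rw [Subgroup.mem_centralizer_singleton_iff]
    constructor
    · intro h
      rw [hw]
      calc k * z * k⁻¹ = g * ((g⁻¹ * k) * z) * (g⁻¹ * k)⁻¹ * g⁻¹ := by group
        _ = g * (z * (g⁻¹ * k)) * (g⁻¹ * k)⁻¹ * g⁻¹ := by rw [h]
        _ = g * z * g⁻¹ := by group
    · intro h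
      rw [hw] at h
      calc g⁻¹ * k * z = g⁻¹ * (k * z * k⁻¹) * k := by group
        _ = g⁻¹ * (g * z * g⁻¹) * k := by rw [h]
        _ = z * (g⁻¹ * k) := by group
  -- general fact: if z inverts k then k z k⁻¹ = k^2 z
  have hsq : ∀ k : G, z * k * z⁻¹ = k⁻¹ → k * z * k⁻¹ = k ^ 2 * z := by
    intro k hk
    have := Cfsg.Agent.H2.pow_conj_of_inverts hk 1
    simpa using this
  refine ⟨r ^ j, ⟨⟨?_, ?_⟩, ?_⟩, ?_⟩
  · exact odd_of_dvd_odd (orderOf_pow_dvd j) hodd
  · exact Cfsg.Agent.H2.conj_pow_of_inverts hinv j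
  · rw [hcent]; exact hj
  · rintro k ⟨⟨hko, hkinv⟩, hkc⟩
    rw [hcent] at hkc
    -- k^2 = r
    have hk2 : k ^ 2 = r := by
      have := hsq k hkinv
      rw [hkc] at this
      calc k ^ 2 = k ^ 2 * z * z⁻¹ := by group
        _ = w * z⁻¹ := by rw [← this]
        _ = r := by rw [hz', hr]
    have hk2' : (r ^ j) ^ 2 = r := by
      have h1 := hsq (r ^ j) (Cfsg.Agent.H2.conj_pow_of_inverts hinv j)
      rw [hj] at h1
      calc (r ^ j) ^ 2 = (r ^ j) ^ 2 * z * z⁻¹ := by group
        _ = w * z⁻¹ := by rw [← h1]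
        _ = r := by rw [hz', hr]
    obtain ⟨m, hm⟩ := eq_pow_sq_of_odd hko
    rw [hk2] at hm
    -- k = r^m, r^j commute
    have hcomm : Commute k ((r ^ j)⁻¹) := by
      rw [hm]
      exact ((Commute.refl r).pow_pow m j).inv_right
    have h2 : (k * (r ^ j)⁻¹) ^ 2 = 1 := by
      rw [hcomm.mul_pow, inv_pow, hk2, hk2', mul_inv_cancel]
    have h3 : Odd (orderOf (k * (r ^ j)⁻¹)) := by
      have h4 := hcomm.orderOf_mul_dvd_lcm
      rw [orderOf_inv] at h4
      have h5 : Odd (orderOf (r ^ j)) := odd_of_dvd_odd (orderOf_pow_dvd j) hodd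
      have h6 : Odd (Nat.lcm (orderOf k) (orderOf (r ^ j))) :=
        odd_of_dvd_odd (Nat.lcm_dvd_mul _ _) (hko.mul h5)
      exact odd_of_dvd_odd h4 h6
    have h7 := orderOf_dvd_of_pow_eq_one h2
    have h8 : orderOf (k * (r ^ j)⁻¹) = 1 := by
      rcases (Nat.dvd_prime Nat.prime_two).1 h7 with h | h
      · exact h
      · rw [h] at h3; exact absurd h3 (by decide)
    rw [orderOf_eq_one_iff] at h8
    exact mul_inv_eq_one.1 h8

end Cfsg.Agent.S1185
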