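import Mathlib
import Cfsg.Statements.S0941
import Cfsg.Agent.Lib.helper3.QuotBlock

set_option autoImplicit false
open Cfsg

namespace Cfsg.Agent.S0941

open Cfsg.Agent.Lib.helper3.Block Cfsg.Agent.Lib.helper3.LocalM Cfsg.Agent.Lib.helper3.Irr

set_option linter.style.haveILetI false

/-- Let P be a normal p-subgroup of the finite group G such that the index of C_G(P) is a power of p, and fix a maximal ideal M of the algebraic integers containing p. Then (i) two irreducible characters of G ⧸ P lie in the same block if and only if their inflations to G do, and (ii) every block of G contains the inflation of some irreducible character of G ⧸ P; so inflation induces a bijection between the blocks of G ⧸ P and the blocks of G. -/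
theorem result {G : Type*} [Group G] [Finite G] (p : ℕ) [Fact p.Prime] (M : Ideal Cfsg.AlgInt) (hM : Cfsg.IsPModular p M) (P : Subgroup G) [P.Normal] (hP : IsPGroup p P) (hC : ∃ k : ℕ, (Subgroup.centralizer (P : Set G)).index = p ^ k) : (∀ χ ψ : Cfsg.IrrCharacter (G ⧸ P), Cfsg.SameBlock M (χ : G ⧸ P → ℂ) (ψ : G ⧸ P → ℂ) ↔ Cfsg.SameBlock M ((χ : G ⧸ P → ℂ) ∘ QuotientGroup.mk) ((ψ : G ⧸ P → ℂ) ∘ QuotientGroup.mk)) ∧ ∀ B : Set (Cfsg.IrrCharacter G), Cfsg.IsPBlock M B → ∃ χ : Cfsg.IrrCharacter (G ⧸ P), ∃ θ ∈ B, (θ : G → ℂ) = (χ : G ⧸ P → ℂ) ∘ QuotientGroup.mk := by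
  classical
  letI : Fintype G := Fintype.ofFinite G
  letI : Fintype (G ⧸ P) := Fintype.ofFinite _
  haveI hMp := isPrime_of_isPModular hM
  have hMtop : M ≠ ⊤ := hM.2.1.ne_top
  refine ⟨?_, ?_⟩
  · intro χ ψ
    constructor
    · intro h g
      rw [centralChar_comp_mk, centralChar_comp_mk, ← mul_sub]
      exact memLocalIdeal_mul_localRing (memLocalRing_of_integral (isIntegral_algebraMap
        (R := ℤ) (A := ℂ) (x := ((_ : ℕ) : ℤ)) |> fun h => by simpa using h)) (h _)
    · intro h
      apply sameBlock_of_pregular hM χ ψ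
      intro x hx
      obtain ⟨g, rfl, hg⟩ := exists_pregular_lift p P x hx
      have h1 := h g
      rw [centralChar_comp_mk, centralChar_comp_mk] at h1
      have hgC : g ∈ Subgroup.centralizer (P : Set G) :=
        mem_of_pregular_of_index (Subgroup.centralizer (P : Set G)) hC g hg
      have h2 := Subgroup.relIndex_eq_one.mpr (comap_centralizer_le_of_pregular P hP g hgC hg)
      rw [h2, Nat.cast_one, one_mul, one_mul] at h1
      exact h1
  · intro B hB
    obtain ⟨θ, hθB, n, ρ, hirr, hρ, hker⟩ := exists_mem_block_ker hM B hB P hP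
    have hconst : ∀ g u : G, u ∈ P → (θ : G → ℂ) (g * u) = (θ : G → ℂ) g := by
      intro g u hu
      rw [← hρ]
      unfold Representation.character
      rw [map_mul, hker u hu]
      rfl
    obtain ⟨ψ, hψ, hθψ⟩ := Cfsg.Agent.Lib.helper3.Irr.exists_eq_inflate θ.2 P hconst
    exact ⟨⟨ψ, hψ⟩, θ, hθB, hθψ⟩


end Cfsg.Agent.S0941
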