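import Mathlib
import Cfsg.Statements.S4669
import Cfsg.Agent.Lib.helper3.CentralDefect6
import Cfsg.Agent.Lib.helper3.DefectOrder4

set_option autoImplicit false
open Cfsg

namespace Cfsg.Agent.S4669

open Cfsg.Agent.Lib.helper3.Block Cfsg.Agent.Lib.helper3.LocalM Cfsg.Agent.Lib.helper3.Irr Cfsg.Agent.Lib.helper3.Central

set_option linter.style.haveILetI false

/-- Fix a prime p and a maximal ideal M of the algebraic integers containing p. If the p-block B of the finite group G has a defect group P contained in the centre of G, then B has p-regular rank one (a single irreducible Brauer character). -/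
theorem result {G : Type*} [Group G] [Fintype G] (p : ℕ) [Fact p.Prime] (M : Ideal Cfsg.AlgInt) (hM : Cfsg.IsPModular p M) (B : Set (Cfsg.IrrCharacter G)) (hB : Cfsg.IsPBlock M B) (P : Subgroup G) (hD : Cfsg.IsDefectGroup p M B P) (hPZ : P ≤ Subgroup.center G) : Cfsg.blockRank p B = 1 := by
  classical
  haveI hMp := isPrime_of_isPModular hM
  have hMtop : M ≠ ⊤ := hM.2.1.ne_top
  have hp : p.Prime := Fact.out
  obtain ⟨g, hg, Q, hQ⟩ := hD
  have hPp : IsPGroup p P := by
    rw [hQ]
    exact Q.isPGroup'.map _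
  have hfac := factorization_centralizer_of_isDefectClass hM B hB g hg
  have hcardP : Nat.card P = p ^ blockDefect p B := by
    rw [hQ, Subgroup.card_map_of_injective (Subgroup.subtype_injective _),
      Sylow.card_eq_multiplicity Q, hfac]
  have hνP : (Nat.card P).factorization p = blockDefect p B := by
    rw [hcardP, Nat.Prime.factorization_pow hp]
    simp
  obtain ⟨χ₀, hχ₀⟩ := hB
  have hχ₀B : χ₀ ∈ B := by
    rw [hχ₀]
    exact sameBlock_refl hMtop _
  obtain ⟨S, hS⟩ : ∃ S : Set ℕ, S = (fun χ : Cfsg.IrrCharacter G =>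
      (Cfsg.charDegree (χ : G → ℂ)).factorization p) '' B := ⟨_, rfl⟩
  have hSne : S.Nonempty := by
    rw [hS]
    exact ⟨_, ⟨χ₀, hχ₀B, rfl⟩⟩
  have hmem := Nat.sInf_mem hSne
  rw [hS] at hmem
  obtain ⟨χ, hχB, hχdeg⟩ := hmem
  rw [← hS] at hχdeg
  beta_reduce at hχdeg
  have hdef : Cfsg.blockDefect p B = (Nat.card G).factorization p - sInf S := by
    unfold Cfsg.blockDefect
    rw [hS]
  obtain ⟨d, hd1, hddvd, hdpos⟩ := irr_degree_dvd_card χ.2
  have hcd : Cfsg.charDegree (χ : G → ℂ) = d := charDegree_eq hd1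
  have hle : sInf S ≤ (Nat.card G).factorization p := by
    rw [← hχdeg, hcd]
    exact (Nat.factorization_le_iff_dvd hdpos.ne' Nat.card_pos.ne').2 hddvd p
  have h1 : Nat.card P * P.index = Nat.card G := Subgroup.card_mul_index P
  have h2 : (Nat.card G).factorization p
      = (Nat.card P).factorization p + P.index.factorization p := by
    rw [← h1, Nat.factorization_mul Nat.card_pos.ne' Subgroup.index_ne_zero_of_finite]
    rfl
  have hdeg : (Cfsg.charDegree (χ : G → ℂ)).factorization p = P.index.factorization p := by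
    rw [hχdeg]
    rw [hνP, hdef] at h2
    omega
  have hBeq : B = Cfsg.blockOf M (χ : G → ℂ) :=
    block_eq_of_mem ⟨χ₀, hχ₀⟩ ⟨χ, rfl⟩ χ hχB (sameBlock_refl hMtop _)
  have himg : (fun ψ : Cfsg.IrrCharacter G => Cfsg.pRegularPart p (ψ : G → ℂ)) '' B
      = {Cfsg.pRegularPart p (χ : G → ℂ)} := by
    ext v
    simp only [Set.mem_image, Set.mem_singleton_iff]
    constructor
    · rintro ⟨ψ, hψ, rfl⟩
      rw [hBeq] at hψ
      funext x
      unfold Cfsg.pRegularPart Cfsg.IsPRegular
      by_cases hx : p ∣ orderOf x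
      · rw [if_neg (not_not.mpr hx), if_neg (not_not.mpr hx)]
      · rw [if_pos hx, if_pos hx]
        exact apply_eq_of_sameBlock_central_defect hM P hPp hPZ χ hdeg ψ hψ x hx
    · intro hv
      exact ⟨χ, hχB, hv.symm⟩
  unfold Cfsg.blockRank
  rw [himg]
  apply finrank_span_singleton
  intro h0
  have h3 := congrFun h0 1
  unfold Cfsg.pRegularPart Cfsg.IsPRegular at h3
  rw [orderOf_one, if_pos hp.not_dvd_one] at h3
  exact apply_one_ne_zero χ.2 h3

end Cfsg.Agent.S4669
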