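import Mathlib
import Cfsg.Statements.S4710
import Cfsg.Agent.Lib.helper3.DefOne4

set_option autoImplicit false
open Cfsg

namespace Cfsg.Agent.S4710

/-- Let p be a prime, M a maximal ideal of the algebraic integers containing p, and B a p-block of defect d of the finite group G containing k irreducible characters. If B contains a character of positive height then 2k ≤ p^(2d − 2); and every character in B has height 0 when d ≤ 1 and height at most d − 2 when d ≥ 2. -/
theorem result {G : Type*} [Group G] [Finite G] (p : ℕ) [Fact p.Prime] (M : Ideal Cfsg.AlgInt) (hM : Cfsg.IsPModular p M) (B : Set (Cfsg.IrrCharacter G)) (hB : Cfsg.IsPBlock M B) (d : ℕ) (hd : Cfsg.blockDefect p B = d) : ((∃ χ ∈ B, 0 < Cfsg.blockHeight p B (χ : G → ℂ)) → 2 * Nat.card B ≤ p ^ (2 * d - 2)) ∧ ∀ χ ∈ B, (d ≤ 1 → Cfsg.blockHeight p B (χ : G → ℂ) = 0) ∧ (2 ≤ d → Cfsg.blockHeight p B (χ : G → ℂ) ≤ d - 2) := by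
  classical
  letI : Fintype G := Fintype.ofFinite G
  refine ⟨?_, ?_⟩
  · rintro ⟨χ, hχ, hpos⟩
    rw [Cfsg.Agent.Lib.helper3.Block.blockHeight_eq] at hpos
    have hlt : Cfsg.Agent.Lib.helper3.Block.minExp p B
        < (Cfsg.charDegree (χ : G → ℂ)).factorization p := by omega
    have h1 := Cfsg.Agent.Lib.helper3.Block.brauer_feit_pos_height hM B hB χ hχ hlt
    have h2 := Cfsg.Agent.Lib.helper3.Block.factorization_degree_le_card p χ
    rw [Cfsg.Agent.Lib.helper3.Block.blockDefect_eq] at hd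
    obtain ⟨t, ht⟩ : ∃ t : ℕ, t = 2 * Cfsg.Agent.Lib.helper3.Block.minExp p B + 2 := ⟨_, rfl⟩
    rw [← ht] at h1
    have e : 2 * (Nat.card G).factorization p = (2 * d - 2) + t := by omega
    rw [e, pow_add] at h1
    exact Nat.le_of_mul_le_mul_right h1 (pow_pos (Fact.out : p.Prime).pos _)
  · intro χ hχ
    have h := Cfsg.Agent.Lib.helper3.Block.height_bounds hM B hB χ hχ
    rw [hd] at h
    exact h

end Cfsg.Agent.S4710
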