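import Cfsg.Statements.S2387
import Mathlib
import Cfsg.Agent.H9.SemisimpleConj
import Cfsg.Agent.H9.SemisimpleExists

set_option autoImplicit false
open Cfsg

namespace Cfsg.Agent.S2387

open Polynomial Matrix

section Poly

variable {F : Type*} [Field F]

/-- the monic polynomial with given lower coefficients -/
noncomputable def poly (n : ℕ) (a : Fin n → F) : F[X] :=
  X ^ n + ∑ i : Fin n, C (a i) * X ^ (i : ℕ)

theorem poly_monic (n : ℕ) (a : Fin n → F) : (poly n a).Monic :=
  monic_X_pow_add (degree_sum_fin_lt a)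

theorem poly_natDegree (n : ℕ) (a : Fin n → F) : (poly n a).natDegree = n := by
  unfold poly
  rw [natDegree_add_eq_left_of_degree_lt, natDegree_X_pow]
  rw [degree_X_pow]
  exact degree_sum_fin_lt a

theorem poly_coeff (n : ℕ) (a : Fin n → F) (i : Fin n) : (poly n a).coeff i = a i := by
  unfold poly
  rw [coeff_add, coeff_X_pow, if_neg i.2.ne, zero_add, finsetSum_coeff]
  rw [Finset.sum_eq_single i]
  · rw [coeff_C_mul_X_pow, if_pos rfl]
  · intro j _ hj
    rw [coeff_C_mul_X_pow, if_neg]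
    intro h
    exact hj (Fin.ext h.symm)
  · intro h
    exact absurd (Finset.mem_univ i) h

theorem monic_ext {f g : F[X]} (hf : f.Monic) (hg : g.Monic) (n : ℕ) (hfd : f.natDegree = n)
    (hgd : g.natDegree = n) (h : ∀ i < n, f.coeff i = g.coeff i) : f = g := by
  ext i
  rcases lt_trichotomy i n with hi | hi | hi
  · exact h i hi
  · subst hi
    have h1 := hf.coeff_natDegree
    have h2 := hg.coeff_natDegree
    rw [hfd] at h1
    rw [hgd, ← hfd] at h2
    rw [hfd] at h2
    rw [h1, h2]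
  · rw [coeff_eq_zero_of_natDegree_lt (by omega), coeff_eq_zero_of_natDegree_lt (by omega)]

end Poly

section Main

variable {F : Type*} [Field F] [Fintype F]

theorem ne_zero_of_coprime (p : ℕ) [Fact p.Prime] [CharP F p] (k : ℕ)
    (hk : k.Coprime p) : (k : F) ≠ 0 := by
  intro h0
  rw [CharP.cast_eq_zero_iff F p] at h0
  have := Nat.Coprime.eq_one_of_dvd hk.symm h0
  exact (Fact.out : p.Prime).one_lt.ne' this

theorem ss_of_coprime (p : ℕ) [Fact p.Prime] [CharP F p] {n : ℕ} (g : GL (Fin n) F)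
    (hg : (orderOf g).Coprime p) :
    Module.End.IsSemisimple (Matrix.toLin' (g : Matrix (Fin n) (Fin n) F)) := by
  apply Cfsg.Agent.H9.SemisimpleConj.isSemisimple_of_pow_eq_one _ (orderOf g)
    (ne_zero_of_coprime p _ hg)
  rw [← Units.val_pow_eq_pow_val, pow_orderOf_eq_one, Units.val_one]

theorem conj_of_charpoly (p : ℕ) [Fact p.Prime] [CharP F p] {n : ℕ} (g h : GL (Fin n) F)
    (hg : (orderOf g).Coprime p) (hh : (orderOf h).Coprime p)
    (hc : (g : Matrix (Fin n) (Fin n) F).charpoly = (h : Matrix (Fin n) (Fin n) F).charpoly) :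
    IsConj g h := by
  obtain ⟨P, hP⟩ := Cfsg.Agent.H9.SemisimpleConj.exists_gl_conj _ _ (ss_of_coprime p g hg)
    (ss_of_coprime p h hh) hc
  rw [isConj_iff]
  refine ⟨P, ?_⟩
  rw [mul_inv_eq_iff_eq_mul]
  exact Units.ext hP

theorem charpoly_of_conj {n : ℕ} (g h : GL (Fin n) F) (hc : IsConj g h) :
    (g : Matrix (Fin n) (Fin n) F).charpoly = (h : Matrix (Fin n) (Fin n) F).charpoly := by
  rw [isConj_iff] at hc
  obtain ⟨P, rfl⟩ := hc
  rw [Units.val_mul, Units.val_mul, Matrix.coe_units_inv, Matrix.charpoly_units_conj]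

theorem coeff_zero_ne {n : ℕ} (g : GL (Fin n) F) :
    (g : Matrix (Fin n) (Fin n) F).charpoly.coeff 0 ≠ 0 := by
  intro h0
  have h1 := Matrix.det_eq_sign_charpoly_coeff (g : Matrix (Fin n) (Fin n) F)
  rw [h0, mul_zero] at h1
  exact (Matrix.isUnits_det_units g).ne_zero h1

theorem card_target (n : ℕ) (hn : 1 ≤ n) :
    Nat.card {a : Fin n → F // a ⟨0, hn⟩ ≠ 0} = (Fintype.card F - 1) * Fintype.card F ^ (n - 1) := by
  classical
  obtain ⟨m, rfl⟩ : ∃ m, n = m + 1 := ⟨n - 1, by omega⟩
  have e1 : {a : Fin (m + 1) → F // a ⟨0, hn⟩ ≠ 0} ≃ {x : F × (Fin m → F) // x.1 ≠ 0} :=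
    Equiv.subtypeEquiv (Fin.consEquiv (fun _ => F)).symm (by
      intro a
      rfl)
  have e2 : {x : F × (Fin m → F) // x.1 ≠ 0} ≃ {a : F // a ≠ 0} × (Fin m → F) :=
    Equiv.prodSubtypeFstEquivSubtypeProd (p := fun a : F => a ≠ 0)
  rw [Nat.card_congr e1, Nat.card_congr e2, Nat.card_prod,
    Nat.card_congr unitsEquivNeZero.symm, Nat.card_eq_fintype_card, Fintype.card_units,
    Nat.card_fun, Nat.card_eq_fintype_card, Nat.card_eq_fintype_card, Fintype.card_fin,
    Nat.add_sub_cancel]

/-- In `GL_n(q)` with `n ≥ 1`, `q` a power of the prime `p`, the number of conjugacy classes of elements of order prime to `p` (diagonalisable over the algebraic closure; determined by the characteristic polynomial) is `(q - 1) q^(n-1)`. -/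
theorem result {F : Type*} [Field F] [Fintype F] {q : ℕ} (hq : Fintype.card F = q) (p : ℕ) [Fact p.Prime] [CharP F p] (n : ℕ) (hn : 1 ≤ n) :
    Nat.card {c : ConjClasses (GL (Fin n) F) // ∃ g : GL (Fin n) F, ConjClasses.mk g = c ∧ (orderOf g).Coprime p} = (q - 1) * q ^ (n - 1) := by
  classical
  subst hq
  have rep : ∀ c : {c : ConjClasses (GL (Fin n) F) // ∃ g : GL (Fin n) F,
      ConjClasses.mk g = c ∧ (orderOf g).Coprime p},
      ∃ g : GL (Fin n) F, ConjClasses.mk g = c.1 ∧ (orderOf g).Coprime p := fun c => c.2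
  choose r hr1 hr2 using rep
  let Ψ : {c : ConjClasses (GL (Fin n) F) // ∃ g : GL (Fin n) F,
      ConjClasses.mk g = c ∧ (orderOf g).Coprime p} → {a : Fin n → F // a ⟨0, hn⟩ ≠ 0} :=
    fun c => ⟨fun i => (r c : Matrix (Fin n) (Fin n) F).charpoly.coeff i, coeff_zero_ne _⟩
  have hΨ : Function.Bijective Ψ := by
    constructor
    · intro c₁ c₂ h
      have h1 : (r c₁ : Matrix (Fin n) (Fin n) F).charpoly =
          (r c₂ : Matrix (Fin n) (Fin n) F).charpoly := by
        refine monic_ext (Matrix.charpoly_monic _) (Matrix.charpoly_monic _) n ?_ ?_ ?_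
        · rw [Matrix.charpoly_natDegree_eq_dim, Fintype.card_fin]
        · rw [Matrix.charpoly_natDegree_eq_dim, Fintype.card_fin]
        · intro i hi
          have := congrFun (congrArg Subtype.val h) ⟨i, hi⟩
          exact this
      have h2 := conj_of_charpoly p (r c₁) (r c₂) (hr2 c₁) (hr2 c₂) h1
      apply Subtype.ext
      rw [← hr1 c₁, ← hr1 c₂, ConjClasses.mk_eq_mk_iff_isConj]
      exact h2
    · intro a
      obtain ⟨g, hg, hgc⟩ := Cfsg.Agent.H9.SemisimpleExists.exists_gl p n (poly n a.1)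
        (poly_monic n a.1) (poly_natDegree n a.1) (by
          have := poly_coeff n a.1 ⟨0, hn⟩
          rw [this]
          exact a.2)
      refine ⟨⟨ConjClasses.mk g, g, rfl, hg⟩, ?_⟩
      apply Subtype.ext
      funext i
      change (r ⟨ConjClasses.mk g, g, rfl, hg⟩ : Matrix (Fin n) (Fin n) F).charpoly.coeff i = a.1 i
      have h1 : IsConj (r ⟨ConjClasses.mk g, g, rfl, hg⟩) g := by
        rw [← ConjClasses.mk_eq_mk_iff_isConj]
        exact hr1 _
      rw [charpoly_of_conj _ _ h1, hgc, poly_coeff]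
  rw [Nat.card_congr (Equiv.ofBijective Ψ hΨ), card_target n hn]

end Main

end Cfsg.Agent.S2387

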