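import Mathlib
import Cfsg.Statements.S1498
import Cfsg.Agent.Lib.helper3.CoprimeConj

set_option autoImplicit false
open Cfsg

namespace Cfsg.Agent.S1498

/-- Under the Dade hypothesis for (A, L, H): for a ∈ A and x ∈ L, the subgroup attached to x * a * x⁻¹ is the conjugate of H a by x. -/
theorem result {G : Type*} [Group G] [Finite G] (A : Set G) (L : Subgroup G) (H : G → Subgroup G) (hD : Cfsg.DadeHypothesis A L H) (a : G) (ha : a ∈ A) (x : G) (hx : x ∈ L) : H (x * a * x⁻¹) = (H a).map (MulAut.conj x).toMonoidHom := by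
  have claim : ∀ (a : G), a ∈ A → ∀ x : G, x ∈ L →
      (H a).map (MulAut.conj x).toMonoidHom ≤ H (x * a * x⁻¹) := by
    intro a ha x hx
    have ha' : x * a * x⁻¹ ∈ A := hD.conj_mem x hx a ha
    set a' := x * a * x⁻¹ with ha'def
    set N := H a' with hNdef
    set K := (H a).map (MulAut.conj x).toMonoidHom with hKdef
    set Q := L ⊓ Subgroup.centralizer ({a'} : Set G) with hQdef
    have hKC : K ≤ Subgroup.centralizer ({a'} : Set G) := by
      rintro k ⟨u, hu, rfl⟩
      have huc := hD.le_centralizer a ha hu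
      rw [Subgroup.mem_centralizer_iff] at huc ⊢
      intro w hw
      rw [Set.mem_singleton_iff] at hw
      have h1 := huc a rfl
      rw [hw, ha'def]
      simp only [MulEquiv.coe_toMonoidHom, MulAut.conj_apply]
      calc x * a * x⁻¹ * (x * u * x⁻¹) = x * (a * u) * x⁻¹ := by group
        _ = x * (u * a) * x⁻¹ := by rw [h1]
        _ = x * u * x⁻¹ * (x * a * x⁻¹) := by group
    have hcard : Nat.card K = Nat.card (H a) := by
      rw [hKdef]
      exact Subgroup.card_map_of_injective (MulAut.conj x).injective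
    have hcopK : Nat.Coprime (Nat.card K) (Nat.card Q) := by
      rw [hcard]
      exact hD.coprime a ha a' ha'
    have hQN : Q ≤ Subgroup.normalizer (N : Set G) := by
      rw [Subgroup.le_normalizer_iff]
      intro q hq n hn
      exact hD.conj_mem_H a' ha' q hq.2 n hn
    intro k hk
    have hkC := hKC hk
    rw [← hD.sup_eq a' ha'] at hkC
    have hk2 : k ∈ (↑(N ⊔ Q) : Set G) := hkC
    rw [Subgroup.coe_mul_of_right_le_normalizer_left N Q hQN] at hk2
    obtain ⟨n, hn, q, hq, hnq⟩ := hk2
    have hnq' : n * q = k := hnq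
    subst hnq'
    have hq1 : q = 1 := by
      have h1 := Cfsg.Agent.Lib.helper3.CoprimeConj.zpow_congr N q (n * q) (hQN hq)
        (by simpa using hn) (Nat.card K)
      have h2 : (n * q) ^ (Nat.card K) = 1 := by
        have : (⟨n * q, hk⟩ : K) ^ (Nat.card K) = 1 := pow_card_eq_one'
        have h := congrArg Subtype.val this
        rw [Subgroup.coe_pow, Subgroup.coe_one] at h
        exact h
      rw [zpow_natCast, zpow_natCast, h2, one_mul] at h1
      have h3 : q ^ (Nat.card K) ∈ N := by
        have := N.inv_mem h1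
        simpa using this
      have h4 : q ^ (Nat.card K) ∈ N ⊓ Q := ⟨h3, Q.pow_mem hq _⟩
      rw [hD.inf_eq_bot a' ha', Subgroup.mem_bot] at h4
      have h5 : orderOf q ∣ Nat.card K := orderOf_dvd_of_pow_eq_one h4
      have h6 : orderOf q ∣ Nat.card Q := Subgroup.orderOf_dvd_natCard Q hq
      have h7 : orderOf q ∣ 1 := by
        have := Nat.dvd_gcd h5 h6
        rwa [hcopK] at this
      exact orderOf_eq_one_iff.mp (Nat.dvd_one.mp h7)
    rw [hq1, mul_one]
    exact hn
  apply le_antisymm
  · have h1 := claim (x * a * x⁻¹) (hD.conj_mem x hx a ha) x⁻¹ (L.inv_mem hx)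
    have h2 : x⁻¹ * (x * a * x⁻¹) * x⁻¹⁻¹ = a := by group
    rw [h2] at h1
    intro u hu
    have h3 : (MulAut.conj x⁻¹).toMonoidHom u ∈ H a := h1 ⟨u, hu, rfl⟩
    refine ⟨(MulAut.conj x⁻¹).toMonoidHom u, h3, ?_⟩
    simp only [MulEquiv.coe_toMonoidHom, MulAut.conj_apply, inv_inv]
    group
  · exact claim a ha x hx

end Cfsg.Agent.S1498
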