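import Mathlib
import Cfsg.Statements.S1523
import Cfsg.Agent.Lib.helper3.Pf6a
import Cfsg.Agent.Lib.helper3.Dade4

set_option autoImplicit false
open Cfsg

namespace Cfsg.Agent.S1523

set_option linter.style.haveILetI false

open Cfsg Cfsg.Agent.Lib.helper3.Irr Cfsg.Agent.Lib.helper3.Pf6 Cfsg.Agent.Lib.helper3.GalPow

/-- Let G be a finite group, p a prime, P a Sylow p-subgroup whose underlying set is a TI-subset of G, with L the set normaliser of P of odd order. Let Z ≠ ⊥ be a subgroup of P, normal in L and central in P, such that the centralisers in L of any two non-identity elements of Z have the same order. If ψ is an irreducible character of G taking the same value at all non-identity elements of Z, then for z ∈ Z, z ≠ 1, the value ψ z is an integer n with Nat.card P dividing ψ(1) − n (as integers, ψ 1 being the degree). -/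
theorem result {G : Type*} [Group G] [Finite G] (p : ℕ) [Fact p.Prime] (P : Sylow p G) (hTI : Cfsg.IsTISubset ((P : Subgroup G) : Set G)) (hodd : Odd (Nat.card (Subgroup.normalizer ((P : Subgroup G) : Set G)))) (Z : Subgroup G) (hZ1 : Z ≠ ⊥) (hZP : Z ≤ P) (hZn : ∀ x ∈ Subgroup.normalizer ((P : Subgroup G) : Set G), ∀ z ∈ Z, x * z * x⁻¹ ∈ Z) (hZc : ∀ z ∈ Z, ∀ y ∈ (P : Subgroup G), z * y = y * z) (hCL : ∀ z ∈ Z, ∀ z' ∈ Z, z ≠ 1 → z' ≠ 1 → Nat.card ↥(Subgroup.normalizer ((P : Subgroup G) : Set G) ⊓ Subgroup.centralizer ({z} : Set G)) = Nat.card ↥(Subgroup.normalizer ((P : Subgroup G) : Set G) ⊓ Subgroup.centralizer ({z'} : Set G))) (ψ : G → ℂ) (hψ : Cfsg.IsIrrCharacter G ψ) (hconst : ∀ z ∈ Z, ∀ z' ∈ Z, z ≠ 1 → z' ≠ 1 → ψ z = ψ z') (z : G) (hz : z ∈ Z) (hz1 : z ≠ 1) : ∃ n d : ℤ, ψ z = n ∧ ψ 1 = d ∧ (Nat.card (P : Subgroup G) : ℤ) ∣ d - n := by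
  classical
  haveI : Fintype G := Fintype.ofFinite G
  have hp : p.Prime := Fact.out
  set L := Subgroup.normalizer ((P : Subgroup G) : Set G) with hL
  have hψc : IsCharacter G ψ := isCharacter_of_isIrrCharacter hψ
  have hcf : IsClassFunction G ψ := isClassFunction_of_isCharacter hψc
  -- P ≤ L
  have hPL : ∀ u ∈ (P : Subgroup G), u ∈ L := by
    intro u hu
    rw [hL, Subgroup.mem_normalizer_iff]
    intro h
    constructor
    · intro hh
      exact (P : Subgroup G).mul_mem ((P : Subgroup G).mul_mem hu hh) ((P : Subgroup G).inv_mem hu)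
    · intro hh
      have : h = u⁻¹ * (u * h * u⁻¹) * u := by group
      rw [this]
      exact (P : Subgroup G).mul_mem ((P : Subgroup G).mul_mem ((P : Subgroup G).inv_mem hu) hh) hu
  -- odd order: no element of L inverts z' ≠ 1 in L
  have hzL : ∀ y ∈ Z, y ∈ L := fun y hy => hPL y (hZP hy)
  have hnoinv : ∀ g ∈ L, ∀ y ∈ Z, y ≠ 1 → g * y * g⁻¹ ≠ y⁻¹ := by
    intro g hg y hy hy1 hgy
    -- g^2 commutes with y
    have hodd_ord : ∀ x ∈ L, Odd (orderOf x) := by
      intro x hx
      have h1 : orderOf (⟨x, hx⟩ : L) ∣ Nat.card L := orderOf_dvd_natCard _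
      have h2 : orderOf (⟨x, hx⟩ : L) = orderOf x := by
        rw [← Subgroup.orderOf_coe]
      rw [h2] at h1
      exact Odd.of_dvd_nat hodd h1
    have hconj_pow : ∀ k : ℕ, g ^ k * y * (g ^ k)⁻¹ = y ^ ((-1 : ℤ) ^ k) := by
      intro k
      induction k with
      | zero => simp
      | succ k ih =>
        have : g ^ (k + 1) * y * (g ^ (k + 1))⁻¹ = g * (g ^ k * y * (g ^ k)⁻¹) * g⁻¹ := by
          rw [pow_succ']; group
        rw [this, ih]
        have h3 : g * y ^ ((-1 : ℤ) ^ k) * g⁻¹ = (g * y * g⁻¹) ^ ((-1 : ℤ) ^ k) := by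
          have := map_zpow (MulAut.conj g) y ((-1 : ℤ) ^ k)
          simpa [MulAut.conj_apply] using this
        rw [h3, hgy, pow_succ, ← zpow_neg_one, ← zpow_mul]
        congr 1
        ring
    obtain ⟨k, hk⟩ := hodd_ord g hg
    have h4 := hconj_pow (orderOf g)
    rw [pow_orderOf_eq_one, hk] at h4
    have h5 : ((-1 : ℤ)) ^ (2 * k + 1) = -1 := by
      rw [pow_succ, pow_mul]; simp
    rw [h5] at h4
    simp only [one_mul, inv_one, mul_one, zpow_neg, zpow_one] at h4
    -- y = y⁻¹ so y^2 = 1, y odd order so y = 1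
    have hy2 : y ^ 2 = 1 := by
      rw [pow_two]
      nth_rewrite 1 [h4]
      simp
    obtain ⟨j, hj⟩ := hodd_ord y (hzL y hy)
    have hdvd : orderOf y ∣ 2 := orderOf_dvd_of_pow_eq_one hy2
    have hord1 : orderOf y = 1 := by
      have hle : orderOf y ≤ 2 := Nat.le_of_dvd (by norm_num) hdvd
      interval_cases h : orderOf y
      · omega
      · rfl
      · omega
    exact hy1 (orderOf_eq_one_iff.mp hord1)
  -- facts about z
  have hzinv : z⁻¹ ∈ Z := Z.inv_mem hz
  have hzinv1 : z⁻¹ ≠ 1 := by simpa using hz1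
  -- the integer value
  obtain ⟨n, hn⟩ : ∃ n : ℤ, ψ z = n := by
    apply exists_int_of_pow_invariant hψc z
    intro t ht
    apply hconst _ (Z.pow_mem hz t) _ hz _ hz1
    intro hzt
    apply hz1
    have h1 : orderOf z ∣ t := orderOf_dvd_of_pow_eq_one hzt
    have h2 : orderOf z ∣ Nat.card G := orderOf_dvd_natCard z
    have h3 : orderOf z ∣ Nat.gcd t (Nat.card G) := Nat.dvd_gcd h1 h2
    rw [ht] at h3
    exact orderOf_eq_one_iff.mp (Nat.dvd_one.mp h3)
  obtain ⟨d, hd0, hd⟩ := exists_pos_nat_apply_one hψ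
  have hninv : ψ z⁻¹ = n := by rw [← hn]; exact hconst _ hzinv _ hz hzinv1 hz1
  refine ⟨n, (d : ℤ), hn, by rw [hd]; simp, ?_⟩
  -- values on Z
  have hvalZ : ∀ y ∈ Z, y ≠ 1 → ψ y = n := by
    intro y hy hy1
    rw [← hn]; exact hconst _ hy _ hz hy1 hz1
  -- the two sums agree
  have hS : ∑ g : G, ψ (z * (g * z * g⁻¹)) = ∑ g : G, ψ (z * (g * z⁻¹ * g⁻¹)) := by
    have h1 := sum_irr_conj_mul hψ z z
    have h2 := sum_irr_conj_mul hψ z z⁻¹
    rw [hninv, ← hn] at h2
    have hd' : ψ 1 ≠ 0 := by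
      rw [hd]; exact_mod_cast hd0.ne'
    apply mul_left_cancel₀ hd'
    rw [h1, h2]
  -- the free action part
  have hfreeP : ∀ y ∈ Z, ∃ t : Finset G,
      ∑ g ∈ Finset.univ.filter (fun g : G => g ∉ L), ψ (z * (g * y * g⁻¹)) =
        (Nat.card (P : Subgroup G) : ℂ) ^ 2 * ∑ g ∈ t, ψ (z * (g * y * g⁻¹)) := by
    intro y hy
    obtain ⟨t, -, ht⟩ := free_sum (Γ := ↥(P : Subgroup G) × ↥(P : Subgroup G))
      (fun γ (g : G) => (γ.1 : G) * g * (γ.2 : G)⁻¹)
      (by intro x; simp)
      (by intro a b x; simp [mul_assoc])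
      (fun g => ψ (z * (g * y * g⁻¹)))
      (Finset.univ.filter (fun g : G => g ∉ L))
      (by
        intro γ g hg
        rw [Finset.mem_filter] at hg ⊢
        refine ⟨Finset.mem_univ _, ?_⟩
        intro hmem
        apply hg.2
        have : g = (γ.1 : G)⁻¹ * ((γ.1 : G) * g * (γ.2 : G)⁻¹) * (γ.2 : G) := by group
        rw [this]
        exact L.mul_mem (L.mul_mem (L.inv_mem (hPL _ γ.1.2)) hmem) (hPL _ γ.2.2))
      (by
        intro γ g hg hfix
        rw [Finset.mem_filter] at hg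
        have hfix' : (γ.1 : G) * g * (γ.2 : G)⁻¹ = g := hfix
        have h1 : g * (γ.2 : G) * g⁻¹ = (γ.1 : G) := by
          have : (γ.1 : G) = ((γ.1 : G) * g * (γ.2 : G)⁻¹) * (γ.2 : G) * g⁻¹ := by group
          rw [this, hfix']
        have h2 : (γ.2 : G) = 1 := by
          apply hTI g hg.2 _ γ.2.2
          rw [h1]; exact γ.1.2
        have h3 : (γ.1 : G) = 1 := by
          rw [← h1, h2]; group
        apply Prod.ext
        · exact Subtype.ext h3
        · exact Subtype.ext h2)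
      (by
        intro γ g hg
        show ψ (z * ((γ.1 : G) * g * (γ.2 : G)⁻¹ * y * ((γ.1 : G) * g * (γ.2 : G)⁻¹)⁻¹)) =
          ψ (z * (g * y * g⁻¹))
        have hcy : (γ.2 : G)⁻¹ * y * (γ.2 : G) = y := by
          have := hZc y hy (γ.2 : G) γ.2.2
          calc (γ.2 : G)⁻¹ * y * (γ.2 : G) = (γ.2 : G)⁻¹ * (y * (γ.2 : G)) := by group
            _ = (γ.2 : G)⁻¹ * ((γ.2 : G) * y) := by rw [this]
            _ = y := by group
        have hcz : z * (γ.1 : G) = (γ.1 : G) * z := hZc z hz (γ.1 : G) γ.1.2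
        have e1 : z * ((γ.1 : G) * g * (γ.2 : G)⁻¹ * y * ((γ.1 : G) * g * (γ.2 : G)⁻¹)⁻¹) =
            z * ((γ.1 : G) * (g * ((γ.2 : G)⁻¹ * y * (γ.2 : G)) * g⁻¹) * (γ.1 : G)⁻¹) := by group
        rw [e1, hcy]
        have e2 : z * ((γ.1 : G) * (g * y * g⁻¹) * (γ.1 : G)⁻¹) =
            (z * (γ.1 : G)) * (g * y * g⁻¹) * (γ.1 : G)⁻¹ := by group
        rw [e2, hcz]
        have e3 : (γ.1 : G) * z * (g * y * g⁻¹) * (γ.1 : G)⁻¹ =
            (γ.1 : G) * (z * (g * y * g⁻¹)) * (γ.1 : G)⁻¹ := by group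
        rw [e3, hcf])
    refine ⟨t, ?_⟩
    rw [ht, Fintype.card_prod, ← Nat.card_eq_fintype_card]
    push_cast
    ring
  obtain ⟨t₁, ht₁⟩ := hfreeP z hz
  obtain ⟨t₂, ht₂⟩ := hfreeP z⁻¹ hzinv
  -- the L part for y = z
  have hL1 : ∑ g ∈ Finset.univ.filter (fun g : G => g ∈ L), ψ (z * (g * z * g⁻¹)) =
      (Nat.card L : ℂ) * n := by
    rw [Finset.sum_congr rfl (g := fun _ => (n : ℂ))]
    · rw [Finset.sum_const, Cfsg.Agent.Lib.helper3.Dade.card_filter_mem]
      simp
    · intro g hg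
      rw [Finset.mem_filter] at hg
      have hgz : g * z * g⁻¹ ∈ Z := hZn g hg.2 z hz
      apply hvalZ _ (Z.mul_mem hz hgz)
      intro h1
      apply hnoinv g hg.2 z hz hz1
      exact (eq_inv_of_mul_eq_one_right h1)
  -- the L part for y = z⁻¹
  set CL : Subgroup G := L ⊓ Subgroup.centralizer ({z} : Set G) with hCL'
  have hL2 : ∑ g ∈ Finset.univ.filter (fun g : G => g ∈ L), ψ (z * (g * z⁻¹ * g⁻¹)) =
      (Nat.card CL : ℂ) * d + ((Nat.card L : ℂ) - (Nat.card CL : ℂ)) * n := by
    rw [← Finset.sum_filter_add_sum_filter_not _ (fun g : G => g ∈ CL)]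
    have hA : ∑ g ∈ (Finset.univ.filter (fun g : G => g ∈ L)).filter (fun g : G => g ∈ CL),
        ψ (z * (g * z⁻¹ * g⁻¹)) = (Nat.card CL : ℂ) * d := by
      rw [Finset.sum_congr rfl (g := fun _ => (d : ℂ))]
      · rw [Finset.sum_const]
        have : (Finset.univ.filter (fun g : G => g ∈ L)).filter (fun g : G => g ∈ CL) =
            Finset.univ.filter (fun g : G => g ∈ CL) := by
          ext g
          simp only [Finset.mem_filter, Finset.mem_univ, true_and]
          constructor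
          · intro h; exact h.2
          · intro h; exact ⟨h.1, h⟩
        rw [this, Cfsg.Agent.Lib.helper3.Dade.card_filter_mem]
        simp
      · intro g hg
        simp only [Finset.mem_filter, Finset.mem_univ, true_and] at hg
        have hgc : g * z = z * g := by
          have : g ∈ Subgroup.centralizer ({z} : Set G) := hg.2.2
          rw [Subgroup.mem_centralizer_iff] at this
          exact (this z (Set.mem_singleton z)).symm
        have : z * (g * z⁻¹ * g⁻¹) = 1 := by
          have e : g * z⁻¹ * g⁻¹ = z⁻¹ := by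
            have : g * z⁻¹ = z⁻¹ * g := by
              calc g * z⁻¹ = z⁻¹ * (z * g) * z⁻¹ := by group
                _ = z⁻¹ * (g * z) * z⁻¹ := by rw [hgc]
                _ = z⁻¹ * g := by group
            rw [this]; group
          rw [e]; group
        rw [this, hd]
    have hB : ∑ g ∈ (Finset.univ.filter (fun g : G => g ∈ L)).filter (fun g : G => ¬ g ∈ CL),
        ψ (z * (g * z⁻¹ * g⁻¹)) = ((Nat.card L : ℂ) - (Nat.card CL : ℂ)) * n := by
      rw [Finset.sum_congr rfl (g := fun _ => (n : ℂ))]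
      · rw [Finset.sum_const]
        have hcard : ((Finset.univ.filter (fun g : G => g ∈ L)).filter
            (fun g : G => ¬ g ∈ CL)).card + Nat.card CL = Nat.card L := by
          rw [← Cfsg.Agent.Lib.helper3.Dade.card_filter_mem L,
            ← Finset.card_filter_add_card_filter_not (s := Finset.univ.filter (fun g : G => g ∈ L))
              (fun g : G => g ∈ CL), add_comm]
          congr 1
          rw [← Cfsg.Agent.Lib.helper3.Dade.card_filter_mem CL]
          congr 1
          ext g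
          simp only [Finset.mem_filter, Finset.mem_univ, true_and]
          constructor
          · intro h; exact ⟨h.1, h⟩
          · intro h; exact h.2
        have : (((Finset.univ.filter (fun g : G => g ∈ L)).filter
            (fun g : G => ¬ g ∈ CL)).card : ℂ) = (Nat.card L : ℂ) - (Nat.card CL : ℂ) := by
          rw [← hcard]; push_cast; ring
        rw [nsmul_eq_mul, this]
      · intro g hg
        simp only [Finset.mem_filter, Finset.mem_univ, true_and] at hg
        have hgz : g * z⁻¹ * g⁻¹ ∈ Z := hZn g hg.1 z⁻¹ hzinv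
        apply hvalZ _ (Z.mul_mem hz hgz)
        intro h1
        apply hg.2
        refine ⟨hg.1, ?_⟩
        show g ∈ Subgroup.centralizer ({z} : Set G)
        rw [Subgroup.mem_centralizer_iff]
        intro y hy
        rw [Set.mem_singleton_iff] at hy
        subst hy
        have h2 : g * y⁻¹ * g⁻¹ = y⁻¹ := (eq_inv_of_mul_eq_one_right h1)
        have h3 : g * y * g⁻¹ = y := by
          have : g * y * g⁻¹ = (g * y⁻¹ * g⁻¹)⁻¹ := by group
          rw [this, h2, inv_inv]
        calc y * g = (g * y * g⁻¹) * g := by rw [h3]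
          _ = g * y := by group
    rw [hA, hB]
  -- combine
  have hsplit : ∀ y : G, ∑ g : G, ψ (z * (g * y * g⁻¹)) =
      ∑ g ∈ Finset.univ.filter (fun g : G => g ∈ L), ψ (z * (g * y * g⁻¹)) +
      ∑ g ∈ Finset.univ.filter (fun g : G => g ∉ L), ψ (z * (g * y * g⁻¹)) := by
    intro y
    exact (Finset.sum_filter_add_sum_filter_not _ _ _).symm
  rw [hsplit z, hsplit z⁻¹, hL1, hL2, ht₁, ht₂] at hS
  set A₁ := ∑ g ∈ t₁, ψ (z * (g * z * g⁻¹)) with hA₁
  set A₂ := ∑ g ∈ t₂, ψ (z * (g * z⁻¹ * g⁻¹)) with hA₂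
  have hA₁int : IsIntegral ℤ A₁ :=
    IsIntegral.sum _ (fun g _ => Cfsg.Agent.Lib.helper3.Lin.isIntegral_of_isCharacter hψc _)
  have hA₂int : IsIntegral ℤ A₂ :=
    IsIntegral.sum _ (fun g _ => Cfsg.Agent.Lib.helper3.Lin.isIntegral_of_isCharacter hψc _)
  have hkey : (((Nat.card CL : ℤ) * ((d : ℤ) - n) : ℤ) : ℂ) =
      (((Nat.card (P : Subgroup G) : ℤ) ^ 2 : ℤ) : ℂ) * (A₁ - A₂) := by
    push_cast
    linear_combination -hS
  have hPpos : 0 < Nat.card (P : Subgroup G) := Nat.card_pos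
  have hdvd1 : ((Nat.card (P : Subgroup G) : ℤ) ^ 2) ∣ (Nat.card CL : ℤ) * ((d : ℤ) - n) := by
    apply Cfsg.Agent.Lib.helper3.AlgInt.int_dvd_of_eq_mul_isIntegral (hA₁int.sub hA₂int) hkey
    positivity
  -- arithmetic
  have hPCL : (P : Subgroup G) ≤ CL := by
    intro u hu
    refine ⟨hPL u hu, ?_⟩
    show u ∈ Subgroup.centralizer ({z} : Set G)
    rw [Subgroup.mem_centralizer_iff]
    intro y hy
    rw [Set.mem_singleton_iff] at hy
    subst hy
    exact hZc y hz u hu
  obtain ⟨c', hc'⟩ : Nat.card (P : Subgroup G) ∣ Nat.card CL := Subgroup.card_dvd_of_le hPCL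
  have hcop : Nat.Coprime (Nat.card (P : Subgroup G)) c' := by
    have h1 : Nat.card CL ∣ Nat.card G := Subgroup.card_subgroup_dvd_card CL
    have h2 : Nat.card (P : Subgroup G) * (P : Subgroup G).index = Nat.card G :=
      (P : Subgroup G).card_mul_index
    rw [hc', ← h2] at h1
    have h3 : c' ∣ (P : Subgroup G).index := Nat.dvd_of_mul_dvd_mul_left hPpos h1
    exact Nat.Coprime.coprime_dvd_right h3 P.card_coprime_index
  rw [hc'] at hdvd1
  push_cast at hdvd1
  have hdvd2 : (Nat.card (P : Subgroup G) : ℤ) ∣ (c' : ℤ) * ((d : ℤ) - n) := by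
    have hP0 : (Nat.card (P : Subgroup G) : ℤ) ≠ 0 := by exact_mod_cast hPpos.ne'
    apply (mul_dvd_mul_iff_left hP0).mp
    rw [← mul_assoc, ← pow_two]
    exact hdvd1
  have hcopZ : IsCoprime (Nat.card (P : Subgroup G) : ℤ) (c' : ℤ) :=
    Nat.isCoprime_iff_coprime.mpr hcop
  exact hcopZ.dvd_of_dvd_mul_left hdvd2

end Cfsg.Agent.S1523
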