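import Mathlib
import Cfsg.Statements.S1529
import Cfsg.Agent.Lib.helper3.NormOne
import Cfsg.Agent.Lib.helper3.Degrees

set_option autoImplicit false
open Cfsg

namespace Cfsg.Agent.S1529

open Cfsg.Agent.Lib.helper3.Irr

/-- Let N be a subgroup of the finite group G, S a set of irreducible characters of N with at least two members, and τ₁ a linear isometry on the integer combinations of S with virtual-character values such that τ₁ α vanishes at 1 whenever α ∈ ℤ[S] does. Then there is ε ∈ {1, −1} such that ε • τ₁ χ is an irreducible character of G for every χ ∈ S, and distinct members of S give distinct characters. -/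
theorem result {G : Type*} [Group G] [Fintype G] (N : Subgroup G) [Fintype N] (S : Set (N → ℂ)) (hirr : ∀ χ ∈ S, Cfsg.IsIrrCharacter N χ) (htwo : ∃ χ ∈ S, ∃ ψ ∈ S, χ ≠ ψ) (τ₁ : (N → ℂ) → (G → ℂ)) (hτ₁ : Cfsg.IsLinearIsometryOn (Cfsg.zspan S) τ₁) (h0 : ∀ α ∈ Cfsg.zspan S, α 1 = 0 → τ₁ α 1 = 0) : ∃ ε : ℂ, (ε = 1 ∨ ε = -1) ∧ (∀ χ ∈ S, Cfsg.IsIrrCharacter G (ε • τ₁ χ)) ∧ (∀ χ ∈ S, ∀ ψ ∈ S, τ₁ χ = τ₁ ψ → χ = ψ) := by
  classical
  obtain ⟨hadd, hsmul, hinner, hgen⟩ := hτ₁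
  have hmem : ∀ χ ∈ S, χ ∈ Cfsg.zspan S := fun χ hχ => Submodule.subset_span hχ
  have hsign : ∀ χ ∈ S, ∃ (e : ℂ) (a : Cfsg.IrrCharacter G), (e = 1 ∨ e = -1) ∧ τ₁ χ = e • (a : G → ℂ) := by
    intro χ hχ
    have h1 : Cfsg.classInner (τ₁ χ) (τ₁ χ) = 1 := by
      rw [hinner χ (hmem χ hχ) χ (hmem χ hχ), irr_classInner_self (hirr χ hχ)]
    obtain ⟨a, ha | ha⟩ := exists_irr_of_norm_one (hgen χ (hmem χ hχ)) h1
    · exact ⟨1, a, Or.inl rfl, by rw [ha, one_smul]⟩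
    · exact ⟨-1, a, Or.inr rfl, by rw [ha, neg_one_smul]⟩
  have key : ∀ χ ∈ S, ∀ ψ ∈ S, ∀ (e₁ e₂ : ℂ) (a₁ a₂ : Cfsg.IrrCharacter G),
      (e₁ = 1 ∨ e₁ = -1) → (e₂ = 1 ∨ e₂ = -1) → τ₁ χ = e₁ • (a₁ : G → ℂ) →
      τ₁ ψ = e₂ • (a₂ : G → ℂ) → e₁ = e₂ := by
    intro χ hχ ψ hψ e₁ e₂ a₁ a₂ he₁ he₂ h₁ h₂
    obtain ⟨dχ, hdχ, -, hdχ0⟩ := Cfsg.Agent.Lib.helper3.Central.irr_degree_dvd_card (hirr χ hχ)
    obtain ⟨dψ, hdψ, -, hdψ0⟩ := Cfsg.Agent.Lib.helper3.Central.irr_degree_dvd_card (hirr ψ hψ)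
    obtain ⟨m₁, hm₁, -, hm₁0⟩ := Cfsg.Agent.Lib.helper3.Central.irr_degree_dvd_card a₁.2
    obtain ⟨m₂, hm₂, -, hm₂0⟩ := Cfsg.Agent.Lib.helper3.Central.irr_degree_dvd_card a₂.2
    have hA : ((dψ : ℤ) • χ) ∈ Cfsg.zspan S := Submodule.smul_mem _ _ (hmem χ hχ)
    have hB : ((-(dχ : ℤ)) • ψ) ∈ Cfsg.zspan S := Submodule.smul_mem _ _ (hmem ψ hψ)
    have hAB : ((dψ : ℤ) • χ + (-(dχ : ℤ)) • ψ) ∈ Cfsg.zspan S := Submodule.add_mem _ hA hB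
    have hval : ((dψ : ℤ) • χ + (-(dχ : ℤ)) • ψ) 1 = 0 := by
      rw [Pi.add_apply, Pi.smul_apply, Pi.smul_apply, zsmul_eq_mul, zsmul_eq_mul, hdχ, hdψ]
      push_cast
      ring
    have h3 := h0 _ hAB hval
    rw [hadd _ hA _ hB, hsmul χ (hmem χ hχ), hsmul ψ (hmem ψ hψ), h₁, h₂] at h3
    rw [Pi.add_apply, Pi.smul_apply, Pi.smul_apply, Pi.smul_apply, Pi.smul_apply, zsmul_eq_mul,
      zsmul_eq_mul, smul_eq_mul, smul_eq_mul, hm₁, hm₂] at h3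
    push_cast at h3
    have hpos1 : (0 : ℝ) < (dψ : ℝ) * (m₁ : ℝ) := by positivity
    have hpos2 : (0 : ℝ) < (dχ : ℝ) * (m₂ : ℝ) := by positivity
    rcases he₁ with rfl | rfl <;> rcases he₂ with rfl | rfl
    · rfl
    · exfalso
      have h4 : ((dψ : ℝ) * (m₁ : ℝ) + (dχ : ℝ) * (m₂ : ℝ) : ℝ) = 0 := by
        have : (((dψ : ℝ) * (m₁ : ℝ) + (dχ : ℝ) * (m₂ : ℝ) : ℝ) : ℂ) = 0 := by
          push_cast
          linear_combination h3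
        exact_mod_cast this
      linarith
    · exfalso
      have h4 : ((dψ : ℝ) * (m₁ : ℝ) + (dχ : ℝ) * (m₂ : ℝ) : ℝ) = 0 := by
        have : (((dψ : ℝ) * (m₁ : ℝ) + (dχ : ℝ) * (m₂ : ℝ) : ℝ) : ℂ) = 0 := by
          push_cast
          linear_combination -h3
        exact_mod_cast this
      linarith
    · rfl
  obtain ⟨χ₀, hχ₀, ψ₀, hψ₀, hne⟩ := htwo
  obtain ⟨ε, a₀, hε, ha₀⟩ := hsign χ₀ hχ₀
  refine ⟨ε, hε, ?_, ?_⟩
  · intro χ hχ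
    obtain ⟨e, a, he, ha⟩ := hsign χ hχ
    have hee : e = ε := key χ hχ χ₀ hχ₀ e ε a a₀ he hε ha ha₀
    rw [ha, hee, smul_smul]
    have : ε * ε = 1 := by rcases hε with rfl | rfl <;> norm_num
    rw [this, one_smul]
    exact a.2
  · intro χ hχ ψ hψ heq
    by_contra hne'
    have h1 := hinner χ (hmem χ hχ) ψ (hmem ψ hψ)
    rw [← heq, hinner χ (hmem χ hχ) χ (hmem χ hχ), irr_classInner_self (hirr χ hχ),
      irr_classInner_eq_zero (hirr χ hχ) (hirr ψ hψ) hne'] at h1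
    exact one_ne_zero h1

end Cfsg.Agent.S1529
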