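import Mathlib
import Cfsg.Statements.S0170
import Cfsg.Agent.Lib.helper3.Exceptional
import Cfsg.Agent.Lib.helper3.IndFunTI
import Cfsg.Agent.Lib.helper3.IndLin
import Cfsg.Agent.Lib.helper3.Irr10
import Cfsg.Agent.Lib.helper3.Irr8

set_option autoImplicit false
open Cfsg

namespace Cfsg.Agent.S0170

open Cfsg.Agent.Lib.helper3.Irr Cfsg.Agent.Lib.helper3.IndFun Cfsg.Agent.Lib.helper3.IndFunTI

/-- Exceptional characters. Let S be a subset of a finite group contained in its normalizer N and meeting its conjugates by elements outside N only in the identity. Given n ≥ 2 distinct irreducible characters of N of equal degree that vanish on N away from S, there exist a sign ε and n distinct irreducible characters θ_i of G such that inducing χ_i − χ_j to G gives ε (θ_i − θ_j) for all i, j. -/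
theorem result {G : Type*} [Group G] [Fintype G] (S : Set G) (hSN : S ⊆ Subgroup.normalizer S) (hTI : ∀ g : G, g ∉ Subgroup.normalizer S → ∀ s ∈ S, g * s * g⁻¹ ∈ S → s = 1) (n : ℕ) (hn : 2 ≤ n) (χ : Fin n → (Subgroup.normalizer S → ℂ)) (hirr : ∀ i, Cfsg.IsIrrCharacter (Subgroup.normalizer S) (χ i)) (hinj : Function.Injective χ) (hvan : ∀ i, ∀ x : Subgroup.normalizer S, (x : G) ∉ S → χ i x = 0) (hdeg : ∀ i j, χ i 1 = χ j 1) : ∃ ε : ℂ, (ε = 1 ∨ ε = -1) ∧ ∃ θ : Fin n → (G → ℂ), (∀ i, Cfsg.IsIrrCharacter G (θ i)) ∧ Function.Injective θ ∧ ∀ i j, Cfsg.indFun (Subgroup.normalizer S) (χ i) - Cfsg.indFun (Subgroup.normalizer S) (χ j) = ε • (θ i - θ j) := by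
  classical
  letI : Fintype (Subgroup.normalizer S) := Fintype.ofFinite _
  set i₀ : Fin n := ⟨0, by omega⟩ with hi₀
  set τ : Fin n → (G → ℂ) := fun i => Cfsg.indFun (Subgroup.normalizer S) (χ i) - Cfsg.indFun (Subgroup.normalizer S) (χ i₀) with hτ
  have hτeq : ∀ i, τ i = Cfsg.indFun (Subgroup.normalizer S) (χ i - χ i₀) := by
    intro i
    have h1 : χ i - χ i₀ = χ i + (-1 : ℂ) • χ i₀ := by
      rw [neg_one_smul, sub_eq_add_neg]
    rw [h1, indFun_add, indFun_smul, neg_one_smul, ← sub_eq_add_neg]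
  have hc : ∀ i, Cfsg.IsCharacter (Subgroup.normalizer S) (χ i) := fun i => isCharacter_of_isIrrCharacter (hirr i)
  have hcf : ∀ i, Cfsg.IsClassFunction (Subgroup.normalizer S) (χ i - χ i₀) := by
    intro i g h
    simp only [Pi.sub_apply]
    rw [isClassFunction_of_isCharacter (hc i) g h, isClassFunction_of_isCharacter (hc i₀) g h]
  have hvan' : ∀ i, ∀ x : (Subgroup.normalizer S), (x : G) ∉ S → (χ i - χ i₀) x = 0 := by
    intro i x hx
    rw [Pi.sub_apply, hvan i x hx, hvan i₀ x hx, sub_zero]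
  have hone' : ∀ i, (χ i - χ i₀) 1 = 0 := by
    intro i
    rw [Pi.sub_apply, hdeg i i₀, sub_self]
  have h0 : τ i₀ = 0 := by
    simp [hτ]
  have hgen : ∀ i, Cfsg.IsGeneralizedCharacter G (τ i) := by
    intro i
    exact ⟨_, _, isCharacter_indFun (Subgroup.normalizer S) _ (hc i), isCharacter_indFun (Subgroup.normalizer S) _ (hc i₀), rfl⟩
  have hone : ∀ i, τ i 1 = 0 := by
    intro i
    rw [hτeq, indFun_apply_one, hone' i, mul_zero]
  have hgram : ∀ i j, i ≠ i₀ → j ≠ i₀ →
      Cfsg.classInner (τ i) (τ j) = if i = j then 2 else 1 := by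
    intro i j hi hj
    rw [hτeq i, hτeq j, classInner_indFun_TI S hTI _ _ (hcf j) (hvan' i) (hvan' j) (hone' i)]
    rw [classInner_sub_left, classInner_sub_right, classInner_sub_right,
      irr_classInner_eq (hirr i) (hirr j), irr_classInner_eq (hirr i) (hirr i₀),
      irr_classInner_eq (hirr i₀) (hirr j), irr_classInner_eq (hirr i₀) (hirr i₀)]
    have e1 : χ i ≠ χ i₀ := fun h => hi (hinj h)
    have e2 : χ i₀ ≠ χ j := fun h => hj (hinj h.symm)
    rw [if_neg e1, if_neg e2, if_pos rfl]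
    by_cases hij : i = j
    · rw [if_pos hij, if_pos (by rw [hij])]
      norm_num
    · rw [if_neg hij, if_neg (fun h => hij (hinj h))]
      norm_num
  obtain ⟨ε, hε, μ, hμirr, hμinj, hμ⟩ := exceptional_isometry n i₀ τ h0 hgen hone hgram
  refine ⟨ε, hε, μ, hμirr, hμinj, ?_⟩
  intro i j
  have h1 : Cfsg.indFun (Subgroup.normalizer S) (χ i) - Cfsg.indFun (Subgroup.normalizer S) (χ j) = τ i - τ j := by
    simp only [hτ]
    abel
  rw [h1, hμ i, hμ j, ← smul_sub]
  congr 1
  abel

end Cfsg.Agent.S0170
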