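import Mathlib
import Cfsg.Statements.S1514
import Cfsg.Agent.Lib.helper3.NormTwo
import Cfsg.Agent.Lib.helper3.Degrees
import Cfsg.Agent.Lib.helper3.Irr11

set_option autoImplicit false
open Cfsg

namespace Cfsg.Agent.S1514

open Cfsg.Agent.Lib.helper3.Irr Cfsg.Agent.Lib.helper3.IndFun

/-- Let S be a nonempty set of irreducible characters of the finite group L, closed under complex conjugation and containing no real-valued member, and τ a linear isometry on the integer combinations of S vanishing at 1, with values virtual characters of G vanishing at 1. Then there is a choice R making (S, τ, R) a coherence system. -/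
theorem result {L : Type*} [Group L] [Fintype L] {G : Type*} [Group G] [Fintype G] (S : Set (L → ℂ)) (hS : S.Nonempty) (hirr : ∀ χ ∈ S, Cfsg.IsIrrCharacter L χ) (hconj : ∀ χ ∈ S, Cfsg.conjFun χ ∈ S ∧ Cfsg.conjFun χ ≠ χ) (τ : (L → ℂ) → (G → ℂ)) (hτ : Cfsg.IsLinearIsometryOn (Cfsg.zspanOn S {1}ᶜ) τ) (hτ1 : ∀ α ∈ Cfsg.zspanOn S {1}ᶜ, τ α 1 = 0) : ∃ R : (L → ℂ) → Finset (G → ℂ), Cfsg.IsCoherenceSystem S τ R := by
  classical
  obtain ⟨hadd, hsmul, hinner, hgen⟩ := hτ
  haveI : Nonempty (Cfsg.IrrCharacter G) := ⟨⟨fun _ => 1, isIrrCharacter_one⟩⟩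
  have hconjinner : ∀ α β : L → ℂ, Cfsg.classInner (Cfsg.conjFun α) (Cfsg.conjFun β)
      = (starRingEnd ℂ) (Cfsg.classInner α β) := by
    intro α β
    rw [classInner_apply, classInner_apply, map_mul, map_inv₀, Complex.conj_natCast, map_sum]
    congr 1
    apply Finset.sum_congr rfl
    intro g _
    simp [Cfsg.conjFun]
  have hconjconj : ∀ α : L → ℂ, Cfsg.conjFun (Cfsg.conjFun α) = α := by
    intro α
    funext x
    simp [Cfsg.conjFun]
  have hsub : ∀ χ ∈ S, χ - Cfsg.conjFun χ ∈ Cfsg.zspanOn S {1}ᶜ := by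
    intro χ hχ
    refine ⟨Submodule.sub_mem _ (Submodule.subset_span hχ)
      (Submodule.subset_span (hconj χ hχ).1), ?_⟩
    intro x hx
    have hx1 : x = 1 := by simpa using hx
    subst hx1
    obtain ⟨d, hd, -, -⟩ := Cfsg.Agent.Lib.helper3.Central.irr_degree_dvd_card (hirr χ hχ)
    simp [Cfsg.conjFun, hd]
  have hχχbar : ∀ χ ∈ S, Cfsg.classInner χ (Cfsg.conjFun χ) = 0 := fun χ hχ =>
    irr_classInner_eq_zero (hirr χ hχ) (hirr _ (hconj χ hχ).1) (hconj χ hχ).2.symm
  have hχbarχ : ∀ χ ∈ S, Cfsg.classInner (Cfsg.conjFun χ) χ = 0 := fun χ hχ =>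
    irr_classInner_eq_zero (hirr _ (hconj χ hχ).1) (hirr χ hχ) (hconj χ hχ).2
  have hdec : ∀ χ ∈ S, ∃ a b : Cfsg.IrrCharacter G, a ≠ b ∧
      τ (χ - Cfsg.conjFun χ) = (a : G → ℂ) - (b : G → ℂ) := by
    intro χ hχ
    apply exists_sub_of_norm_two (hgen _ (hsub χ hχ)) _ (hτ1 _ (hsub χ hχ))
    rw [hinner _ (hsub χ hχ) _ (hsub χ hχ), classInner_sub_left, classInner_sub_right,
      classInner_sub_right, irr_classInner_self (hirr χ hχ),
      irr_classInner_self (hirr _ (hconj χ hχ).1), hχχbar χ hχ, hχbarχ χ hχ]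
    norm_num
  choose! a b hab using hdec
  refine ⟨fun χ => {(a χ : G → ℂ), -(b χ : G → ℂ)}, ?_⟩
  have hne : ∀ χ ∈ S, (a χ : G → ℂ) ≠ -(b χ : G → ℂ) := by
    intro χ hχ h
    have h1 := congrFun h 1
    obtain ⟨m₁, hm₁, -, hm₁0⟩ := Cfsg.Agent.Lib.helper3.Central.irr_degree_dvd_card (a χ).2
    obtain ⟨m₂, hm₂, -, hm₂0⟩ := Cfsg.Agent.Lib.helper3.Central.irr_degree_dvd_card (b χ).2
    rw [Pi.neg_apply, hm₁, hm₂] at h1
    have h2 : ((m₁ + m₂ : ℕ) : ℂ) = 0 := by
      push_cast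
      linear_combination h1
    have h3 : m₁ + m₂ = 0 := by exact_mod_cast h2
    omega
  have hab0 : ∀ χ ∈ S, Cfsg.classInner (a χ : G → ℂ) (b χ : G → ℂ) = 0 := fun χ hχ =>
    irr_classInner_eq_zero (a χ).2 (b χ).2 (fun h => (hab χ hχ).1 (Subtype.ext h))
  have hba0 : ∀ χ ∈ S, Cfsg.classInner (b χ : G → ℂ) (a χ : G → ℂ) = 0 := fun χ hχ =>
    irr_classInner_eq_zero (b χ).2 (a χ).2 (fun h => (hab χ hχ).1 (Subtype.ext h.symm))
  constructor
  · exact hS
  · exact fun χ hχ => isCharacter_of_isIrrCharacter (hirr χ hχ)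
  · exact fun χ hχ => (hconj χ hχ).1
  · exact fun χ hχ => (hconj χ hχ).2
  · exact ⟨hadd, hsmul, hinner, hgen⟩
  · exact hτ1
  · exact fun χ hχ φ hφ hne' => irr_classInner_eq_zero (hirr χ hχ) (hirr φ hφ) hne'
  · intro χ hχ α hα β hβ
    simp only [Finset.mem_insert, Finset.mem_singleton] at hα hβ
    rcases hα with rfl | rfl <;> rcases hβ with rfl | rfl
    · rw [if_pos rfl, irr_classInner_self (a χ).2]
    · rw [if_neg (hne χ hχ), classInner_neg_right, hab0 χ hχ, neg_zero]
    · rw [if_neg (hne χ hχ).symm, classInner_neg_left, hba0 χ hχ, neg_zero]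
    · rw [if_pos rfl, classInner_neg_left, classInner_neg_right, irr_classInner_self (b χ).2,
        neg_neg]
  · intro χ hχ α hα
    simp only [Finset.mem_insert, Finset.mem_singleton] at hα
    rcases hα with rfl | rfl
    · exact ⟨(a χ : G → ℂ), 0, isCharacter_of_isIrrCharacter (a χ).2, isCharacter_zero, by simp⟩
    · exact ⟨0, (b χ : G → ℂ), isCharacter_zero, isCharacter_of_isIrrCharacter (b χ).2, by simp⟩
  · intro χ hχ
    rw [(hab χ hχ).2, Finset.sum_pair (hne χ hχ), sub_eq_add_neg]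
  · intro χ hχ φ hφ h1 h2
    -- inner product of the two differences vanishes
    have hχbar := (hconj χ hχ).1
    have hφbar := (hconj φ hφ).1
    have e1 : Cfsg.classInner (Cfsg.conjFun φ) (Cfsg.conjFun χ) = 0 := by
      rw [hconjinner, h1, map_zero]
    have e2 : Cfsg.classInner (Cfsg.conjFun φ) χ = 0 := by
      have := hconjinner φ (Cfsg.conjFun χ)
      rw [hconjconj, h2, map_zero] at this
      exact this
    have h0 : Cfsg.classInner (τ (φ - Cfsg.conjFun φ)) (τ (χ - Cfsg.conjFun χ)) = 0 := by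
      rw [hinner _ (hsub φ hφ) _ (hsub χ hχ), classInner_sub_left, classInner_sub_right,
        classInner_sub_right, h1, h2, e1, e2]
      norm_num
    rw [(hab φ hφ).2, (hab χ hχ).2, classInner_sub_left, classInner_sub_right,
      classInner_sub_right, irr_classInner_eq (a φ).2 (a χ).2, irr_classInner_eq (a φ).2 (b χ).2,
      irr_classInner_eq (b φ).2 (a χ).2, irr_classInner_eq (b φ).2 (b χ).2] at h0
    have hneφ : (a φ : G → ℂ) ≠ (b φ : G → ℂ) := fun h => (hab φ hφ).1 (Subtype.ext h)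
    have hneχ : (a χ : G → ℂ) ≠ (b χ : G → ℂ) := fun h => (hab χ hχ).1 (Subtype.ext h)
    -- no coincidences
    have hc1 : (a φ : G → ℂ) ≠ (a χ : G → ℂ) := by
      intro h
      have k1 : (a φ : G → ℂ) ≠ (b χ : G → ℂ) := fun h' => hneχ (h.symm.trans h')
      have k2 : (b φ : G → ℂ) ≠ (a χ : G → ℂ) := fun h' => hneφ (h.trans h'.symm)
      rw [if_pos h, if_neg k1, if_neg k2] at h0
      split_ifs at h0 <;> norm_num at h0
    have hc2 : (b φ : G → ℂ) ≠ (b χ : G → ℂ) := by
      intro h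
      have k1 : (a φ : G → ℂ) ≠ (b χ : G → ℂ) := fun h' => hneφ (h'.trans h.symm)
      have k2 : (b φ : G → ℂ) ≠ (a χ : G → ℂ) := fun h' => hneχ (h'.symm.trans h)
      rw [if_neg hc1, if_neg k1, if_neg k2, if_pos h] at h0
      norm_num at h0
    have hc3 : (a φ : G → ℂ) ≠ (b χ : G → ℂ) := by
      intro h
      rw [if_neg hc1, if_pos h, if_neg hc2] at h0
      split_ifs at h0 <;> norm_num at h0
    have hc4 : (b φ : G → ℂ) ≠ (a χ : G → ℂ) := by
      intro h
      rw [if_neg hc1, if_neg hc3, if_pos h, if_neg hc2] at h0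
      norm_num at h0
    intro α hα β hβ
    simp only [Finset.mem_insert, Finset.mem_singleton] at hα hβ
    rcases hα with rfl | rfl <;> rcases hβ with rfl | rfl
    · exact irr_classInner_eq_zero (a φ).2 (a χ).2 hc1
    · rw [classInner_neg_right, irr_classInner_eq_zero (a φ).2 (b χ).2 hc3, neg_zero]
    · rw [classInner_neg_left, irr_classInner_eq_zero (b φ).2 (a χ).2 hc4, neg_zero]
    · rw [classInner_neg_left, classInner_neg_right, irr_classInner_eq_zero (b φ).2 (b χ).2 hc2]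
      simp

end Cfsg.Agent.S1514
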