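import Mathlib
import Cfsg.Statements.S4455
import Cfsg.Agent.Lib.helper3.PRes3
import Cfsg.Agent.Lib.helper3.Irr8

set_option autoImplicit false
open Cfsg

namespace Cfsg.Agent.S4455

open Cfsg.Agent.Lib.helper3.Irr Cfsg.Agent.Lib.helper3.PRes

/-- Fix a prime p and a finite group G. Let s be the sum of χ(1)² over the irreducible characters χ of G whose degree is not divisible by p and whose determinantal order o(χ) is not divisible by p. Then the order of O^p(G), the subgroup generated by the elements of order prime to p, is congruent to s modulo p. -/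
theorem result {G : Type*} [Group G] [Finite G] (p : ℕ) (hp : p.Prime) : (Nat.card (Cfsg.pResidual p G) : ℤ) ≡ (∑ᶠ χ ∈ {χ : Cfsg.IrrCharacter G | ¬ p ∣ Cfsg.charDegree (χ : G → ℂ) ∧ ¬ p ∣ Cfsg.detOrder (χ : G → ℂ)}, (Cfsg.charDegree (χ : G → ℂ) : ℤ) ^ 2) [ZMOD p] := by
  classical
  letI : Fintype G := Fintype.ofFinite G
  obtain ⟨H, hH⟩ : ∃ H : Subgroup G, H = Cfsg.pResidual p G := ⟨_, rfl⟩
  rw [← hH]
  haveI hHn : H.Normal := by rw [hH]; exact Cfsg.Agent.H1.pResidual_normal p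
  letI : Fintype H := Fintype.ofFinite H
  obtain ⟨⟨k, hidx⟩, hcomm⟩ := pResidual_facts p hp H hH
  letI := conjAction H
  choose deg hdegH using fun φ : Cfsg.IrrCharacter H =>
    Cfsg.Agent.Lib.helper3.Central.irr_degree_dvd_card φ.2
  choose degG hdegG using fun χ : Cfsg.IrrCharacter G =>
    Cfsg.Agent.Lib.helper3.Central.irr_degree_dvd_card χ.2
  have hcdG : ∀ χ : Cfsg.IrrCharacter G, Cfsg.charDegree (χ : G → ℂ) = degG χ := by
    intro χ
    unfold Cfsg.charDegree
    rw [(hdegG χ).1]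
    simp
  have hsum : (∑ φ : Cfsg.IrrCharacter H, (deg φ : ℤ) ^ 2) = (Nat.card H : ℤ) := by
    have h1 := sum_sq_degree (G := H)
    have h2 : ((∑ φ : Cfsg.IrrCharacter H, (deg φ : ℤ) ^ 2 : ℤ) : ℂ) = ((Nat.card H : ℤ) : ℂ) := by
      push_cast
      rw [← h1]
      apply Finset.sum_congr rfl
      intro φ _
      rw [(hdegH φ).1]
    exact_mod_cast h2
  have hdeginv : ∀ (g : G) (φ : Cfsg.IrrCharacter H), deg (g • φ) = deg φ := by
    intro g φ
    have h1 : ((deg (g • φ) : ℕ) : ℂ) = (deg φ : ℂ) := by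
      rw [← (hdegH _).1, ← (hdegH _).1]
      exact conjAction_apply_one _ g φ
    exact_mod_cast h1
  have hfixinv : ∀ (g : G) (φ : Cfsg.IrrCharacter H),
      (∀ g' : G, g' • (g • φ) = g • φ) ↔ (∀ g' : G, g' • φ = φ) := by
    intro g φ
    constructor
    · intro h
      have h1 : g • φ = φ := by
        have := h g⁻¹
        rw [inv_smul_smul] at this
        exact this.symm
      intro g'
      have := h g'
      rw [h1] at this
      exact this
    · intro h g'
      rw [h g]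
      exact h g'
  set B : Finset (Cfsg.IrrCharacter H) :=
    Finset.univ.filter (fun φ => (∀ g : G, g • φ = φ) ∧ ¬ p ∣ deg φ) with hB
  have hBmem : ∀ φ, φ ∈ B ↔ ((∀ g : G, g • φ = φ) ∧ ¬ p ∣ deg φ) := by
    intro φ; simp [hB]
  set w : Cfsg.IrrCharacter H → ℤ := fun φ => if φ ∈ B then 0 else (deg φ : ℤ) ^ 2 with hw
  have hwdvd : (p : ℤ) ∣ ∑ φ, w φ := by
    apply dvd_sum_of_orbits (Γ := G) p w
    · intro g φ
      have : g • φ ∈ B ↔ φ ∈ B := by
        rw [hBmem, hBmem, hfixinv, hdeginv]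
      simp only [hw, this, hdeginv]
    · intro φ
      exact conjAction_card_orbit_pow _ p k hp hidx φ
    · intro φ hφ
      simp only [hw]
      split_ifs with h1
      · exact dvd_zero _
      · have hpd : p ∣ deg φ := by
          by_contra hpd
          exact h1 ((hBmem φ).mpr ⟨hφ, hpd⟩)
        apply Dvd.dvd.pow _ two_ne_zero
        exact_mod_cast hpd
  have hsplit : (∑ φ : Cfsg.IrrCharacter H, (deg φ : ℤ) ^ 2)
      = (∑ φ ∈ B, (deg φ : ℤ) ^ 2) + ∑ φ, w φ := by
    have h1 : ∀ φ : Cfsg.IrrCharacter H,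
        (deg φ : ℤ) ^ 2 = (if φ ∈ B then (deg φ : ℤ) ^ 2 else 0) + w φ := by
      intro φ
      simp only [hw]
      split_ifs <;> simp
    rw [Finset.sum_congr rfl (fun φ _ => h1 φ), Finset.sum_add_distrib, Finset.sum_ite_mem,
      Finset.univ_inter]
  -- the bijection between the two index sets
  set A : Finset (Cfsg.IrrCharacter G) :=
    Finset.univ.filter (fun χ => ¬ p ∣ Cfsg.charDegree (χ : G → ℂ) ∧ ¬ p ∣ Cfsg.detOrder (χ : G → ℂ))
    with hA
  have hAmem : ∀ χ, χ ∈ A ↔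
      (¬ p ∣ Cfsg.charDegree (χ : G → ℂ) ∧ ¬ p ∣ Cfsg.detOrder (χ : G → ℂ)) := by
    intro χ; simp [hA]
  have hAset : {χ : Cfsg.IrrCharacter G | ¬ p ∣ Cfsg.charDegree (χ : G → ℂ) ∧
      ¬ p ∣ Cfsg.detOrder (χ : G → ℂ)} = ↑A := by
    ext χ
    simp [hA]
  rw [hAset, finsum_mem_coe_finset]
  have hresirr : ∀ χ : Cfsg.IrrCharacter G, χ ∈ A →
      Cfsg.IsIrrCharacter H (fun n : H => (χ : G → ℂ) n) := by
    intro χ hχ
    have h1 := ((hAmem χ).mp hχ).1
    rw [hcdG] at h1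
    exact restrict_irr_pResidual p hp H hH (χ : G → ℂ) χ.2 (degG χ) (hdegG χ).1 h1
  have hbij : (∑ χ ∈ A, (Cfsg.charDegree (χ : G → ℂ) : ℤ) ^ 2) = ∑ φ ∈ B, (deg φ : ℤ) ^ 2 := by
    apply Finset.sum_bij (fun (χ : Cfsg.IrrCharacter G) (hχ : χ ∈ A) =>
      (⟨fun n : H => (χ : G → ℂ) n, hresirr χ hχ⟩ : Cfsg.IrrCharacter H))
    · intro χ hχ
      rw [hBmem]
      have hcf := isClassFunction_of_isCharacter (isCharacter_of_isIrrCharacter χ.2)
      constructor
      · rw [conjAction_fixed_iff]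
        intro g n
        exact hcf n g
      · have h1 := ((hAmem χ).mp hχ).1
        rw [hcdG] at h1
        have h2 : deg ⟨fun n : H => (χ : G → ℂ) n, hresirr χ hχ⟩ = degG χ := by
          have h3 : ((deg ⟨fun n : H => (χ : G → ℂ) n, hresirr χ hχ⟩ : ℕ) : ℂ) = (degG χ : ℂ) := by
            rw [← (hdegH _).1, ← (hdegG χ).1]
            rfl
          exact_mod_cast h3
        rw [h2]
        exact h1
    · intro χ hχ χ' hχ' heq
      have hφ : (⟨fun n : H => (χ : G → ℂ) n, hresirr χ hχ⟩ : Cfsg.IrrCharacter H) ∈ B := by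
        rw [hBmem]
        have hcf := isClassFunction_of_isCharacter (isCharacter_of_isIrrCharacter χ.2)
        constructor
        · rw [conjAction_fixed_iff]
          intro g n
          exact hcf n g
        · have h1 := ((hAmem χ).mp hχ).1
          rw [hcdG] at h1
          have h2 : deg ⟨fun n : H => (χ : G → ℂ) n, hresirr χ hχ⟩ = degG χ := by
            have h3 : ((deg ⟨fun n : H => (χ : G → ℂ) n, hresirr χ hχ⟩ : ℕ) : ℂ) = (degG χ : ℂ) := by
              rw [← (hdegH _).1, ← (hdegG χ).1]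
              rfl
            exact_mod_cast h3
          rw [h2]
          exact h1
      obtain ⟨hfix, hpd⟩ := (hBmem _).mp hφ
      obtain ⟨χ₁, _, huniq⟩ := existsUnique_extension_pResidual p hp H hH
        (fun n : H => (χ : G → ℂ) n) (hresirr χ hχ) ((conjAction_fixed_iff _ _).mp hfix) _
        (hdegH ⟨fun n : H => (χ : G → ℂ) n, hresirr χ hχ⟩).1 hpd
      have e1 := huniq (χ : G → ℂ) χ.2 (fun n => rfl) ((hAmem χ).mp hχ).2
      have e2 := huniq (χ' : G → ℂ) χ'.2
        (fun n => (congrFun (congrArg Subtype.val heq) n).symm) ((hAmem χ').mp hχ').2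
      exact Subtype.ext (e1.trans e2.symm)
    · intro φ hφ
      obtain ⟨hfix, hpd⟩ := (hBmem φ).mp hφ
      obtain ⟨χ₁, ⟨hχ₁, hχ₁H, hχ₁ord⟩, _⟩ := existsUnique_extension_pResidual p hp H hH
        (φ : H → ℂ) φ.2 ((conjAction_fixed_iff _ _).mp hfix) (deg φ) (hdegH φ).1 hpd
      have hχ11 : χ₁ 1 = (deg φ : ℂ) := by
        rw [← (hdegH φ).1]
        exact hχ₁H 1
      have hcd : Cfsg.charDegree χ₁ = deg φ := by
        unfold Cfsg.charDegree
        rw [hχ11]
        simp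
      have hmem : (⟨χ₁, hχ₁⟩ : Cfsg.IrrCharacter G) ∈ A := by
        rw [hAmem]
        exact ⟨by rw [hcd]; exact hpd, hχ₁ord⟩
      refine ⟨⟨χ₁, hχ₁⟩, hmem, ?_⟩
      apply Subtype.ext
      funext n
      exact hχ₁H n
    · intro χ hχ
      rw [hcdG]
      have h2 : deg ⟨fun n : H => (χ : G → ℂ) n, hresirr χ hχ⟩ = degG χ := by
        have h3 : ((deg ⟨fun n : H => (χ : G → ℂ) n, hresirr χ hχ⟩ : ℕ) : ℂ) = (degG χ : ℂ) := by
          rw [← (hdegH _).1, ← (hdegG χ).1]
          rfl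
        exact_mod_cast h3
      rw [h2]
  rw [hbij, ← hsum, hsplit]
  apply Int.ModEq.symm
  rw [Int.modEq_iff_dvd]
  have : (∑ φ ∈ B, (deg φ : ℤ) ^ 2) + ∑ φ, w φ - ∑ φ ∈ B, (deg φ : ℤ) ^ 2 = ∑ φ, w φ := by ring
  rw [this]
  exact hwdvd

end Cfsg.Agent.S4455
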