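import Mathlib
import Cfsg.Statements.S4713
import Cfsg.Agent.Lib.helper3.NormalSylow2
import Cfsg.Agent.Lib.Lead.PSolvable
import Cfsg.Agent.Lib.Helper4.Codegree

set_option autoImplicit false
open Cfsg

set_option linter.style.haveILetI false

namespace Cfsg.Agent.S4713

open Cfsg.Agent.Lib.helper3.NormalSylow

/-- Let p be a prime and G a finite p-solvable group. Then G has a normal abelian Sylow p-subgroup if and only if the degree of every irreducible character of G is prime to p. -/
theorem result {G : Type*} [Group G] [Finite G] (p : ℕ) [Fact p.Prime] (hsolv : Cfsg.IsPSolvable p G) (P : Sylow p G) : ((P : Subgroup G).Normal ∧ IsMulCommutative P) ↔ ∀ χ : Cfsg.IrrCharacter G, ¬ p ∣ Cfsg.charDegree (χ : G → ℂ) := by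
  classical
  letI : Fintype G := Fintype.ofFinite G
  have hconv : (∀ χ : Cfsg.IrrCharacter G, ¬ p ∣ Cfsg.charDegree (χ : G → ℂ)) ↔ PDeg p G := by
    constructor
    · intro h χ d hd hpd
      apply h χ
      rw [Cfsg.Agent.Lib.Helper4.Codegree.charDegree_eq hd]
      exact hpd
    · intro h χ hpd
      obtain ⟨n, hn, -, -⟩ := Cfsg.Agent.Lib.helper3.Central.irr_degree_dvd_card χ.2
      rw [Cfsg.Agent.Lib.Helper4.Codegree.charDegree_eq hn] at hpd
      exact h χ n hn hpd
  rw [hconv]
  constructor
  · rintro ⟨hn, hc⟩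
    haveI := hn
    apply pdeg_of_normal_abelian p (P : Subgroup G) _ P.not_dvd_index
    intro a ha b hb
    have := hc.is_comm.comm (⟨a, ha⟩ : (P : Subgroup G)) ⟨b, hb⟩
    exact congrArg Subtype.val this
  · intro hdeg
    have hn : (P : Subgroup G).Normal := by
      refine normal_sylow_aux p (fun H _ => Cfsg.IsPSolvable p H) ?_ ?_ ?_ _ G rfl hsolv hdeg P
      · intro H _ N _ hH
        exact Cfsg.Agent.Lib.Lead.PSolvable.IsPSolvable.quotient N hH
      · intro H _ K hH
        exact Cfsg.Agent.Lib.Lead.PSolvable.IsPSolvable.subgroup K hH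
      · intro H _ _ _ hH
        exact Cfsg.Agent.Lib.Lead.PSolvable.IsPSolvable.exists_normal hH
    haveI := hn
    exact ⟨hn, ⟨⟨fun a b => comm_of_pdeg p hdeg P a b⟩⟩⟩

end Cfsg.Agent.S4713
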