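import Cfsg.Statements.S1204
import Cfsg.Agent.Lib.Lead.QDClasses
import Mathlib

set_option autoImplicit false
set_option linter.style.haveILetI false
set_option linter.unusedVariables false
open Cfsg

namespace Cfsg.Agent.S1204

open Cfsg.Agent.Lead.QD

/-- Let G be a finite group with quasi-dihedral Sylow 2-subgroup S, T a Klein four-subgroup and Q a quaternion subgroup of order 8 of S, with |N_G(T) : C_G(T)| = 6 and |N_G(Q) : Q C_G(Q)| = 6. Then G has no subgroup of index 2, exactly one conjugacy class of involutions and exactly one conjugacy class of elements of order 4. -/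
theorem result {G : Type*} [Group G] [Finite G] (S : Sylow 2 G) (hS : Cfsg.IsQuasiDihedral (S : Subgroup G)) (T : Subgroup G) (hT : IsKleinFour T) (hTS : T ≤ S) (Q : Subgroup G) (hQS : Q ≤ S) (eQ : Q ≃* QuaternionGroup 2) (h₁ : (Subgroup.centralizer (T : Set G)).relIndex (Subgroup.normalizer (T : Set G)) = 6) (h₂ : (Q ⊔ Subgroup.centralizer (Q : Set G)).relIndex (Subgroup.normalizer (Q : Set G)) = 6) : (∀ H : Subgroup G, H.index ≠ 2) ∧ Nat.card {C : ConjClasses G // ∃ t : G, orderOf t = 2 ∧ ConjClasses.mk t = C} = 1 ∧ Nat.card {C : ConjClasses G // ∃ t : G, orderOf t = 4 ∧ ConjClasses.mk t = C} = 1 := by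
  obtain ⟨n, x, y, h⟩ := exists_dat_sub (S : Subgroup G) hS
  haveI := hT
  obtain ⟨hc, he⟩ := klein_facts T hT
  obtain ⟨i, hi, hTi⟩ := four_eq h T hTS hc he
  obtain ⟨hcQ, hexpQ, hncQ, huQ, hAut⟩ := quat_facts Q eQ
  obtain ⟨j, hj, hQj⟩ := quat_eq h Q hQS hcQ hexpQ hncQ huQ
  have hTf := T_allfuse S h T hTS he i hi hTi h₁
  have hQf := Q_allfuse S h Q hQS j hj hQj h₂
  refine ⟨?_, ?_, ?_⟩
  · intro H hH
    haveI hHn : H.Normal := Subgroup.normal_of_index_eq_two hH
    have hsq : ∀ a : G, a * a ∈ H := fun a => by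
      rw [← pow_two]; exact Subgroup.sq_mem_of_index_two hH a
    have hu : P n x (d n) ∈ H := by
      rw [← two_d' h.hn, two_mul, P_add h]; exact hsq _
    have hz : P n x (c n) ∈ H := by
      rw [← two_d h.hn, two_mul, P_add h]; exact hsq _
    have hyP : ∀ j0, y * P n x j0 ∈ H := by
      intro j0
      rcases c_mul_cases h.hn j0 with h0 | h0
      · obtain ⟨g, hg⟩ := hTf j0 h0
        have : y * P n x j0 = g⁻¹ * P n x (c n) * g⁻¹⁻¹ := by rw [← hg]; group
        rw [this]; exact hHn.conj_mem _ hz _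
      · obtain ⟨g, hg⟩ := hQf j0 h0
        have : y * P n x j0 = g⁻¹ * P n x (d n) * g⁻¹⁻¹ := by rw [← hg]; group
        rw [this]; exact hHn.conj_mem _ hu _
    have hSH : (S : Subgroup G) ≤ H := by
      intro s hs
      rcases mem_cases h s hs with ⟨j0, rfl⟩ | ⟨j0, rfl⟩
      · have := yP_mul_yP h 0 j0
        rw [mul_zero, zero_add] at this
        rw [← this]; exact H.mul_mem (hyP 0) (hyP j0)
      · exact hyP j0
    have h1 := Subgroup.index_dvd_of_le hSH
    rw [hH] at h1
    exact S.not_dvd_index h1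
  · apply card_classes_one 2 (P n x (c n)) (orderOf_z h)
    intro t ht
    rcases invol_cases S h t ht with hg | ⟨g, hg⟩
    · exact hg
    · obtain ⟨g', hg'⟩ := hTf 0 (mul_zero _)
      exact ⟨g' * g, by rw [← hg', ← hg]; group⟩
  · apply card_classes_one 4 (P n x (d n)) ((orderOf_P_four h _).2 (Or.inl rfl))
    intro t ht
    rcases four_cases S h t ht with hg | ⟨g, hg⟩
    · exact hg
    · obtain ⟨g', hg'⟩ := hQf 1 (mul_one _)
      exact ⟨g' * g, by rw [← hg', ← hg]; group⟩

end Cfsg.Agent.S1204
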