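import Cfsg.Statements.S1206
import Cfsg.Agent.Lib.Lead.QDGlobal
import Mathlib

set_option autoImplicit false
set_option linter.style.haveILetI false
set_option linter.unusedVariables false
open Cfsg

namespace Cfsg.Agent.S1206

open Cfsg.Agent.Lead.QD Cfsg.Agent.Lib.Lead.Conj

/-- Let G be a finite group with quasi-dihedral Sylow 2-subgroup S, T a Klein four-subgroup and Q a quaternion subgroup of order 8 of S, with |N_G(T) : C_G(T)| = 6 and |N_G(Q) : Q C_G(Q)| = 2. Then G has a normal subgroup K of index 2 whose Sylow 2-subgroups are dihedral and which has no subgroup of index 2, and G has exactly one class of involutions and two classes of elements of order 4. -/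
theorem result {G : Type*} [Group G] [Finite G] (S : Sylow 2 G) (hS : Cfsg.IsQuasiDihedral (S : Subgroup G)) (T : Subgroup G) (hT : IsKleinFour T) (hTS : T ≤ S) (Q : Subgroup G) (hQS : Q ≤ S) (eQ : Q ≃* QuaternionGroup 2) (h₁ : (Subgroup.centralizer (T : Set G)).relIndex (Subgroup.normalizer (T : Set G)) = 6) (h₂ : (Q ⊔ Subgroup.centralizer (Q : Set G)).relIndex (Subgroup.normalizer (Q : Set G)) = 2) : (∃ K : Subgroup G, K.Normal ∧ K.index = 2 ∧ (∀ P : Sylow 2 ↥K, ∃ m : ℕ, Nonempty ((P : Subgroup ↥K) ≃* DihedralGroup m)) ∧ (∀ H : Subgroup ↥K, H.index ≠ 2)) ∧ Nat.card {C : ConjClasses G // ∃ t : G, orderOf t = 2 ∧ ConjClasses.mk t = C} = 1 ∧ Nat.card {C : ConjClasses G // ∃ t : G, orderOf t = 4 ∧ ConjClasses.mk t = C} = 2 := by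
  obtain ⟨n, x, y, h⟩ := exists_dat_sub (S : Subgroup G) hS
  haveI := hT
  obtain ⟨hc, he⟩ := klein_facts T hT
  obtain ⟨i, hi, hTi⟩ := four_eq h T hTS hc he
  obtain ⟨hcQ, hexpQ, hncQ, huQ, hAut⟩ := quat_facts Q eQ
  obtain ⟨j, hj, hQj⟩ := quat_eq h Q hQS hcQ hexpQ hncQ huQ
  have hTf := T_allfuse S h T hTS he i hi hTi h₁
  have hQn := Q_nofuse S h Q hQS j hj hQj eQ h₂
  obtain ⟨M, hMn, hM2, hMS⟩ := exists_M S h 0 (Or.inl rfl) (closed_dih S h hQn)
  have hRM : Mx h 0 (Or.inl rfl) ≤ M := fun r hr => (hMS r (Mx_le h 0 _ hr)).2 hr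
  obtain ⟨-, hiso⟩ := sylow_iso_of_inf S M hM2 _ (Mx_le h 0 _) (Mx_relIndex h 0 _) hRM
  refine ⟨⟨M, hMn, hM2, ?_, no_index_two_dih S h M hMn hM2 hMS hTf⟩, ?_, ?_⟩
  · intro P'
    obtain ⟨e1⟩ := hiso P'
    obtain ⟨e2⟩ := Mx_zero_dihedral h
    exact ⟨2 ^ (n - 1), ⟨e1.trans e2⟩⟩
  · apply card_classes_one 2 (P n x (c n)) (orderOf_z h)
    intro t ht
    rcases invol_cases S h t ht with hg | ⟨g, hg⟩
    · exact hg
    · obtain ⟨g', hg'⟩ := hTf 0 (mul_zero _)
      exact ⟨g' * g, by rw [← hg', ← hg]; group⟩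
  · apply card_classes_two 4 (P n x (d n)) (y * P n x 1) ((orderOf_P_four h _).2 (Or.inl rfl))
      (orderOf_yP_odd h 1 (mul_one _))
    · intro g hg
      exact (hQn g⁻¹ 1 (mul_one _)).1 (by rw [← hg]; group)
    · exact four_cases S h

end Cfsg.Agent.S1206
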