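import Cfsg.Statements.S1207
import Cfsg.Agent.Lib.Lead.QDClasses
import Cfsg.Agent.S1946
import Mathlib

set_option autoImplicit false
set_option linter.style.haveILetI false
set_option linter.unusedVariables false
open Cfsg

namespace Cfsg.Agent.S1207

open Cfsg.Agent.Lead.QD Cfsg.Agent.Lib.Lead.Conj

/-- Let G be a finite group with quasi-dihedral Sylow 2-subgroup S, T a Klein four-subgroup and Q a quaternion subgroup of order 8 of S, with |N_G(T) : C_G(T)| = 2 and |N_G(Q) : Q C_G(Q)| = 2. Then G has a normal 2-complement, exactly two classes of involutions and exactly two classes of elements of order 4. -/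
theorem result {G : Type*} [Group G] [Finite G] (S : Sylow 2 G) (hS : Cfsg.IsQuasiDihedral (S : Subgroup G)) (T : Subgroup G) (hT : IsKleinFour T) (hTS : T ≤ S) (Q : Subgroup G) (hQS : Q ≤ S) (eQ : Q ≃* QuaternionGroup 2) (h₁ : (Subgroup.centralizer (T : Set G)).relIndex (Subgroup.normalizer (T : Set G)) = 2) (h₂ : (Q ⊔ Subgroup.centralizer (Q : Set G)).relIndex (Subgroup.normalizer (Q : Set G)) = 2) : Cfsg.HasNormalPComplement 2 G ∧ Nat.card {C : ConjClasses G // ∃ t : G, orderOf t = 2 ∧ ConjClasses.mk t = C} = 2 ∧ Nat.card {C : ConjClasses G // ∃ t : G, orderOf t = 4 ∧ ConjClasses.mk t = C} = 2 := by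
  obtain ⟨n, x, y, h⟩ := exists_dat_sub (S : Subgroup G) hS
  haveI := hT
  obtain ⟨hc, he⟩ := klein_facts T hT
  obtain ⟨i, hi, hTi⟩ := four_eq h T hTS hc he
  obtain ⟨hcQ, hexpQ, hncQ, huQ, hAut⟩ := quat_facts Q eQ
  obtain ⟨j, hj, hQj⟩ := quat_eq h Q hQS hcQ hexpQ hncQ huQ
  have hTn := T_nofuse S h T hTS he i hi hTi hc h₁
  have hQn := Q_nofuse S h Q hQS j hj hQj eQ h₂
  have hctl : ∀ a ∈ (S : Subgroup G), a ^ 4 = 1 → ∀ g : G, g * a * g⁻¹ ∈ (S : Subgroup G) →
      ∃ s ∈ (S : Subgroup G), g * a * g⁻¹ = s * a * s⁻¹ := by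
    intro a ha ha4 g hg
    have hord : orderOf (g * a * g⁻¹) = orderOf a := orderOf_conj g a
    rcases mem_cases h a ha with ⟨j, rfl⟩ | ⟨j, rfl⟩
    · have h4j : 4 * j = 0 := by
        rw [P_pow h] at ha4
        have := (P_eq_one h).1 ha4
        simpa using this
      rcases mem_cases h _ hg with ⟨j', hj'⟩ | ⟨j', hj'⟩
      · rcases (four_mul_eq_zero h.hn j).1 h4j with rfl | rfl | rfl | rfl
        · refine ⟨1, Subgroup.one_mem _, ?_⟩
          rw [P_zero]; group
        · have ho : orderOf (P n x j') = 4 := by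
            rw [← hj', hord, orderOf_P_four h]; left; rfl
          rcases (orderOf_P_four h j').1 ho with rfl | rfl
          · exact ⟨1, Subgroup.one_mem _, by rw [hj']; group⟩
          · refine ⟨y, h.yS, ?_⟩
            rw [hj', conj_P h, r_mul_d h.hn, d_add_c h.hn]
        · have ho : orderOf (P n x j') = 2 := by rw [← hj', hord, orderOf_z h]
          rw [orderOf_P_two h] at ho
          subst ho
          exact ⟨1, Subgroup.one_mem _, by rw [hj']; group⟩
        · have ho : orderOf (P n x j') = 4 := by
            rw [← hj', hord, orderOf_P_four h]; right; rfl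
          rcases (orderOf_P_four h j').1 ho with rfl | rfl
          · refine ⟨y, h.yS, ?_⟩
            rw [hj', conj_P h, d_add_c h.hn, mul_neg, r_mul_d h.hn, neg_neg]
          · exact ⟨1, Subgroup.one_mem _, by rw [hj']; group⟩
      · exfalso
        have hinv : g⁻¹ * (y * P n x j') * g⁻¹⁻¹ = P n x j := by rw [← hj']; group
        rcases (four_mul_eq_zero h.hn j).1 h4j with rfl | rfl | rfl | rfl
        · have : y * P n x j' = 1 := by
            rw [← hj', P_zero]; group
          exact (y_ne_P h j' 0) (by rw [P_zero]; exact this)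
        · rcases orderOf_yP_cases h j' with ⟨_, ho'⟩ | ⟨hj'', _⟩
          · have : orderOf (y * P n x j') = 4 := by
              rw [← hj', hord, orderOf_P_four h]; left; rfl
            omega
          · exact (hQn g⁻¹ j' hj'').1 hinv
        · rcases orderOf_yP_cases h j' with ⟨hj'', _⟩ | ⟨_, ho'⟩
          · exact hTn g⁻¹ j' hj'' hinv
          · have : orderOf (y * P n x j') = 2 := by rw [← hj', hord, orderOf_z h]
            omega
        · rcases orderOf_yP_cases h j' with ⟨_, ho'⟩ | ⟨hj'', _⟩
          · have : orderOf (y * P n x j') = 4 := by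
              rw [← hj', hord, orderOf_P_four h]; right; rfl
            omega
          · exact (hQn g⁻¹ j' hj'').2 hinv
    · rcases mem_cases h _ hg with ⟨j', hj'⟩ | ⟨j', hj'⟩
      · exfalso
        rcases orderOf_yP_cases h j with ⟨hj0, ho⟩ | ⟨hj0, ho⟩
        · have ho2 : orderOf (P n x j') = 2 := by rw [← hj', hord, ho]
          rw [orderOf_P_two h] at ho2
          subst ho2
          exact hTn g j hj0 hj'
        · have ho4 : orderOf (P n x j') = 4 := by rw [← hj', hord, ho]
          rcases (orderOf_P_four h j').1 ho4 with rfl | rfl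
          · exact (hQn g j hj0).1 hj'
          · exact (hQn g j hj0).2 hj'
      · have hoo : orderOf (y * P n x j') = orderOf (y * P n x j) := by rw [← hj', hord]
        have hpar : c n * (j' - j) = 0 := by
          rcases orderOf_yP_cases h j with ⟨hj0, ho⟩ | ⟨hj0, ho⟩ <;>
            rcases orderOf_yP_cases h j' with ⟨hj0', ho'⟩ | ⟨hj0', ho'⟩
          · linear_combination hj0' - hj0
          · exfalso; omega
          · exfalso; omega
          · linear_combination hj0' - hj0
        obtain ⟨j1, hj1⟩ := exists_conj_yP h j j' hpar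
        exact ⟨P n x j1, P_mem h _, by rw [hj', hj1]⟩
  refine ⟨?_, ?_, ?_⟩
  · rw [Cfsg.Agent.S1946.result S]
    intro a ha hpow g hg
    apply hctl a ha _ g hg
    rcases hpow with h2 | ⟨-, h4⟩
    · calc a ^ 4 = (a ^ 2) ^ 2 := by rw [← pow_mul]
        _ = 1 := by rw [h2, one_pow]
    · exact h4
  · apply card_classes_two 2 (P n x (c n)) (y * P n x 0) (orderOf_z h)
      (orderOf_yP_even h 0 (mul_zero _))
    · intro g hg
      exact hTn g⁻¹ 0 (mul_zero _) (by rw [← hg]; group)
    · exact invol_cases S h
  · apply card_classes_two 4 (P n x (d n)) (y * P n x 1) ((orderOf_P_four h _).2 (Or.inl rfl))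
      (orderOf_yP_odd h 1 (mul_one _))
    · intro g hg
      exact (hQn g⁻¹ 1 (mul_one _)).1 (by rw [← hg]; group)
    · exact four_cases S h

end Cfsg.Agent.S1207
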