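import Cfsg.Statements.S0219
import Mathlib

set_option autoImplicit false
open Cfsg

namespace Cfsg.Agent.S0219

/-- If a finite group has even order and a cyclic Sylow 2-subgroup, then it has a subgroup of index 2 (consider the parity of permutations in the regular representation). -/
theorem result {G : Type*} [Group G] [Finite G] (heven : Even (Nat.card G)) (T : Sylow 2 G) (hT : IsCyclic (T : Subgroup G)) : ∃ H : Subgroup G, H.index = 2 := by
  have h2 : (Nat.card G).minFac = 2 := by
    rw [Nat.minFac_eq_two_iff]; exact even_iff_two_dvd.mp heven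
  have hc := IsCyclic.isComplement' h2 (P := T) hT
  set f := MonoidHom.transferSylow T (hT.normalizer_le_centralizer h2) with hf
  -- f is surjective
  have hsurj : Function.Surjective f := by
    rw [← MonoidHom.range_eq_top, ← Subgroup.card_eq_iff_eq_top, ← Subgroup.index_ker]
    exact hc.symm.index_eq_card
  -- T has a subgroup of index 2
  have hTcard : Nat.card T = 2 ^ (Nat.card G).factorization 2 := T.card_eq_multiplicity
  have hk : 0 < (Nat.card G).factorization 2 := by
    apply Nat.Prime.factorization_pos_of_dvd Nat.prime_two Nat.card_pos.ne' (even_iff_two_dvd.mp heven)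
  obtain ⟨k, hk'⟩ := Nat.exists_eq_succ_of_ne_zero hk.ne'
  rw [hk'] at hTcard
  obtain ⟨K, hK⟩ := Sylow.exists_subgroup_card_pow_prime (G := T) 2 (n := k) (by rw [hTcard]; exact pow_dvd_pow 2 (Nat.le_succ k))
  have hKidx : K.index = 2 := by
    have := K.card_mul_index
    rw [hTcard, hK, pow_succ] at this
    exact Nat.eq_of_mul_eq_mul_left (by positivity) this
  refine ⟨K.comap f, ?_⟩
  rw [Subgroup.index_comap_of_surjective K hsurj, hKidx]

end Cfsg.Agent.S0219
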