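import Cfsg.Statements.S5344
import Cfsg.Agent.H9.CoxA3Perm

set_option autoImplicit false
open Cfsg

namespace Cfsg.Agent.S5344

theorem result {G : Type*} [Group G] {D : Set G} (hD : Cfsg.IsThreeTranspositionSet D) {a b c : G} (ha : a ∈ D) (hb : b ∈ D) (hc : c ∈ D) (hac : a ≠ c) (hac' : Commute a c) (hab : ¬ Commute a b) (hbc : ¬ Commute b c) : ∃ φ : Equiv.Perm (Fin 4) →* G, Function.Injective φ ∧ φ (Equiv.swap 0 1) = a ∧ φ (Equiv.swap 1 2) = b ∧ φ (Equiv.swap 2 3) = c := by
  obtain ⟨hord, h23⟩ := hD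
  have hsq : ∀ d ∈ D, d * d = 1 := fun d hd => by rw [← pow_two, ← hord d hd, pow_orderOf_eq_one]
  have haa := hsq a ha
  have hbb := hsq b hb
  have hcc := hsq c hc
  have hainv : a⁻¹ = a := inv_eq_of_mul_eq_one_right haa
  have hbinv : b⁻¹ = b := inv_eq_of_mul_eq_one_right hbb
  have hcinv : c⁻¹ = c := inv_eq_of_mul_eq_one_right hcc
  -- a product of two involutions squaring to one means they commute
  have hcomm_of_sq : ∀ d e : G, d * d = 1 → e * e = 1 → (d * e) ^ 2 = 1 → Commute d e := by
    intro d e hdd hee h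
    have h3 : d * e * (d * e) = 1 := by rw [← pow_two]; exact h
    have : d * e = (d * e)⁻¹ := (inv_eq_of_mul_eq_one_right h3).symm
    unfold Commute SemiconjBy
    rw [this, mul_inv_rev, inv_eq_of_mul_eq_one_right hdd, inv_eq_of_mul_eq_one_right hee]
  have hab3 : (a * b) ^ 3 = 1 := by
    rcases h23 a ha b hb with h | h
    · exact absurd (hcomm_of_sq a b haa hbb h) hab
    · exact h
  have hbc3 : (b * c) ^ 3 = 1 := by
    rcases h23 b hb c hc with h | h
    · exact absurd (hcomm_of_sq b c hbb hcc h) hbc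
    · exact h
  have h1 : a ≠ 1 := by
    intro h
    have := hord a ha
    rw [h, orderOf_one] at this
    norm_num at this
  have h2 : a * c ≠ 1 := by
    intro h
    apply hac
    have : a = c⁻¹ := eq_inv_of_mul_eq_one_left h
    rw [this, hcinv]
  have h3 : a * b ≠ 1 := by
    intro h
    apply hab
    have : a = b⁻¹ := eq_inv_of_mul_eq_one_left h
    rw [this, hbinv]
  have h4 : a * b * c ≠ 1 := by
    intro h
    apply hab
    have h5 : a * b = c := by
      have : a * b = c⁻¹ := eq_inv_of_mul_eq_one_left h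
      rw [this, hcinv]
    -- c commutes with a
    have h6 : a * (a * b) = (a * b) * a := by rw [h5]; exact hac'.eq
    unfold Commute SemiconjBy
    calc a * b = a * (a * (a * b)) := by rw [← mul_assoc a a, haa, one_mul]
      _ = a * (a * b * a) := by rw [h6]
      _ = (a * a) * b * a := by group
      _ = b * a := by rw [haa, one_mul]
  exact Cfsg.Agent.H9.CoxA3.exists_embedding haa hbb hcc hab3 hbc3 hac'.eq h1 h2 h3 h4

end Cfsg.Agent.S5344
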