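import Cfsg.Statements.S0084
import Mathlib
import Cfsg.Agent.H1.Basic
import Cfsg.Agent.H1.PComplement
import Cfsg.Prelude.Def_Transfer

set_option autoImplicit false
open Cfsg

namespace Cfsg.Agent.S0084

open Cfsg.Agent.H1

/-- A group whose Sylow 2-subgroups are Klein four-groups and whose order is prime to 3 has a normal 2-complement. -/
theorem result {G : Type*} [Group G] [Finite G] (T : Sylow 2 G) (hT : IsKleinFour T) (h3 : ¬ 3 ∣ Nat.card G) : Cfsg.HasNormalPComplement 2 G := by
  have hcomm : IsMulCommutative T := by
    constructor; constructor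
    intro a b
    exact mul_comm_of_exponent_two hT.exponent_two a b
  have h4 : Nat.card (MulAut T) ∣ 24 := by
    have := card_mulAut_dvd_factorial T
    rw [hT.card_four] at this
    exact this
  apply hasNormalPComplement_of_coprime_aut T hcomm 24 h4
  have h2' : Nat.Coprime 2 (T : Subgroup G).index := by
    rw [Nat.Prime.coprime_iff_not_dvd Nat.prime_two]
    exact T.not_dvd_index
  have h3' : Nat.Coprime 3 (T : Subgroup G).index := by
    rw [Nat.Prime.coprime_iff_not_dvd Nat.prime_three]
    intro h
    exact h3 (h.trans (Subgroup.index_dvd_card _))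
  have : (24 : ℕ) = 2 ^ 3 * 3 := by norm_num
  rw [this]
  exact Nat.Coprime.mul_left (Nat.Coprime.pow_left 3 h2') h3'

end Cfsg.Agent.S0084
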