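import Cfsg.Statements.S0494
import Mathlib
import Cfsg.Agent.Lib.Helper4.AltEmbed
import Cfsg.Agent.Lib.Helper4.Simple

set_option autoImplicit false
set_option linter.style.haveILetI false
open Cfsg

namespace Cfsg.Agent.S0494

open Cfsg.Agent.Lib.Helper4.Sylow Cfsg.Agent.Lib.Helper4.Simple Cfsg.Agent.Lib.Helper4.AltEmbed

/-- A simple group of order 60 has a subgroup of index 5. -/
theorem exists_index_five {G : Type*} [Group G] [Finite G] [IsSimpleGroup G]
    (h : Nat.card G = 60) : ∃ H : Subgroup G, H.index = 5 := by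
  haveI : Fact (Nat.Prime 2) := ⟨Nat.prime_two⟩
  obtain ⟨P⟩ : Nonempty (Sylow 2 G) := inferInstance
  have h60 : Nat.card G = 2 ^ 2 * 15 := by rw [h]; norm_num
  have hP : Nat.card P = 2 ^ 2 := card_sylow_of_card_eq h60 (by norm_num) P
  have hdvd : Nat.card (Sylow 2 G) ∣ 15 := card_sylow_dvd_of_card_eq h60 (by norm_num)
  have hmul := card_sylow_mul_card_normalizer P
  have hidx : (Subgroup.normalizer ((P : Subgroup G) : Set G)).index = Nat.card (Sylow 2 G) :=
    (P.card_eq_index_normalizer).symm
  have hne1 : Nat.card (Sylow 2 G) ≠ 1 :=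
    card_sylow_ne_one_of_simple P (by rw [hP]; norm_num) (by rw [hP, h]; norm_num)
  have hcases : Nat.card (Sylow 2 G) = 1 ∨ Nat.card (Sylow 2 G) = 3 ∨ Nat.card (Sylow 2 G) = 5 ∨
      Nat.card (Sylow 2 G) = 15 := by
    have hle : Nat.card (Sylow 2 G) ≤ 15 := Nat.le_of_dvd (by norm_num) hdvd
    have hpos : 0 < Nat.card (Sylow 2 G) := Nat.card_pos
    generalize Nat.card (Sylow 2 G) = n at *
    interval_cases n <;> simp_all <;> omega
  rcases hcases with h1 | h3 | h5 | h15
  · exact absurd h1 hne1
  · exfalso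
    have hNtop : Subgroup.normalizer ((P : Subgroup G) : Set G) ≠ ⊤ := by
      intro ht
      rw [ht, Subgroup.index_top] at hidx
      omega
    have := card_dvd_factorial_of_simple _ hNtop
    rw [hidx, h3, h] at this
    norm_num [Nat.factorial] at this
  · exact ⟨_, hidx.trans h5⟩
  · exfalso
    rw [h15, h] at hmul
    have hN4 : Nat.card (Subgroup.normalizer ((P : Subgroup G) : Set G)) = 4 := by omega
    have hNP : Subgroup.normalizer ((P : Subgroup G) : Set G) = (P : Subgroup G) := by
      symm
      apply Subgroup.eq_of_le_of_card_ge Subgroup.le_normalizer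
      rw [hN4]
      have : Nat.card (P : Subgroup G) = 2 ^ 2 := hP
      omega
    have hcomm : IsMulCommutative (P : Subgroup G) :=
      IsPGroup.isMulCommutative_of_card_eq_prime_sq (p := 2) hP
    have hle : Subgroup.normalizer ((P : Subgroup G) : Set G) ≤
        Subgroup.centralizer ((P : Subgroup G) : Set G) := by
      rw [hNP]
      exact Subgroup.le_centralizer (P : Subgroup G)
    exact false_of_simple_of_normalizer_le_centralizer P hle (by rw [hP]; norm_num)
      (by rw [hP, h]; norm_num)

/-- A simple group of order 60 is isomorphic to the alternating group of degree 5. -/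
theorem result {G : Type*} [Group G] [Finite G] [IsSimpleGroup G]
    (h : Nat.card G = 60) : Nonempty (G ≃* alternatingGroup (Fin 5)) := by
  classical
  obtain ⟨H, hH⟩ := exists_index_five h
  have hHtop : H ≠ ⊤ := by
    intro ht
    rw [ht, Subgroup.index_top] at hH
    omega
  haveI : Fintype (G ⧸ H) := Fintype.ofFinite _
  obtain ⟨hinj, hrange⟩ := toPermHom_injective_and_range_le (by rw [h]; norm_num) H hHtop
  have hcard5 : Fintype.card (G ⧸ H) = 5 := by
    rw [← Nat.card_eq_fintype_card, ← Subgroup.index_eq_card, hH]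
  haveI : Nontrivial (G ⧸ H) := by
    rw [← Fintype.one_lt_card_iff_nontrivial, hcard5]; norm_num
  have hA : Nat.card (alternatingGroup (G ⧸ H)) = 60 := by
    rw [nat_card_alternatingGroup, Nat.card_eq_fintype_card, hcard5]
    norm_num [Nat.factorial]
  have hR : Nat.card (MulAction.toPermHom G (G ⧸ H)).range = 60 := by
    rw [← h]
    exact (Nat.card_congr (MonoidHom.ofInjective hinj).toEquiv).symm
  have heq : (MulAction.toPermHom G (G ⧸ H)).range = alternatingGroup (G ⧸ H) := by
    apply Subgroup.eq_of_le_of_card_ge hrange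
    rw [hA, hR]
  have e1 : G ≃* (MulAction.toPermHom G (G ⧸ H)).range := MonoidHom.ofInjective hinj
  have e2 : (MulAction.toPermHom G (G ⧸ H)).range ≃* alternatingGroup (G ⧸ H) :=
    MulEquiv.subgroupCongr heq
  have e3 : (G ⧸ H) ≃ Fin 5 := Fintype.equivFinOfCardEq hcard5
  exact ⟨(e1.trans e2).trans (Equiv.altCongrHom e3)⟩

end Cfsg.Agent.S0494
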