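import Cfsg.Statements.S0112
import Mathlib
import Cfsg.Agent.Lib.Lead.Subnormal2
import Cfsg.Agent.Lib.Lead.SysNorm

set_option autoImplicit false
open Cfsg

namespace Cfsg.Agent.S0112

universe u

theorem maxclass_aux {p : ℕ} [Fact p.Prime] (n : ℕ) : ∀ (X : Type u) [Group X] [Finite X],
    Nat.card X = p ^ n → ∀ A : Subgroup X, Nat.card A = p ^ 2 →
    Subgroup.centralizer (A : Set X) = A → Group.nilpotencyClass X = n - 1 := by
  induction n using Nat.strong_induction_on with
  | _ n ih =>
    intro X _ _ hX A hA hC
    have hp := (Fact.out : p.Prime)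
    have hXp : IsPGroup p X := IsPGroup.of_card hX
    haveI : Group.IsNilpotent X := hXp.isNilpotent
    have hn2 : 2 ≤ n := by
      have h1 : p ^ 2 ∣ p ^ n := by
        rw [← hA, ← hX]
        exact Subgroup.card_subgroup_dvd_card A
      exact (Nat.pow_dvd_pow_iff_le_right hp.one_lt).mp h1
    haveI : Nontrivial X := by
      rw [← Finite.one_lt_card_iff_nontrivial, hX]
      exact Nat.one_lt_pow (by omega) hp.one_lt
    rw [Group.nilpotencyClass_eq_quotient_center_plus_one]
    by_cases hAtop : A = ⊤
    · have hn : n = 2 := by
        have h1 : p ^ 2 = p ^ n := by rw [← hA, ← hX, hAtop, Subgroup.card_top]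
        exact (Nat.pow_right_injective hp.two_le h1).symm
      have hcen : Subgroup.center X = ⊤ := by
        rw [eq_top_iff]
        intro x _
        rw [Subgroup.mem_center_iff]
        intro g
        have hx : x ∈ Subgroup.centralizer (A : Set X) := by
          rw [hC, hAtop]
          trivial
        exact Subgroup.mem_centralizer_iff.mp hx g (by rw [hAtop]; trivial)
      haveI : Subsingleton (X ⧸ Subgroup.center X) := by
        rw [hcen]
        exact QuotientGroup.subsingleton_quotient_top
      rw [Group.nilpotencyClass_zero_iff_subsingleton.mpr inferInstance, hn]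
    · have hZA : Subgroup.center X ≤ A := by
        rw [← hC]
        exact Subgroup.center_le_centralizer _
      have hZbot : Subgroup.center X ≠ ⊥ := (hXp.bot_lt_center).ne'
      have hZneA : Subgroup.center X ≠ A := by
        intro h
        apply hAtop
        rw [← hC, eq_top_iff]
        intro x _
        rw [Subgroup.mem_centralizer_iff]
        intro y hy
        have h1 : y ∈ Subgroup.center X := by
          rw [h]
          exact hy
        exact (Subgroup.mem_center_iff.mp h1 x).symm
      have hZcard : Nat.card (Subgroup.center X) = p := by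
        have h1 : Nat.card (Subgroup.center X) ∣ p ^ 2 := hA ▸ Subgroup.card_dvd_of_le hZA
        obtain ⟨k, hk2, hk⟩ := (Nat.dvd_prime_pow hp).mp h1
        interval_cases k
        · exfalso
          apply hZbot
          rw [pow_zero] at hk
          exact (Subgroup.card_le_one_iff_eq_bot _).mp hk.le
        · rw [hk, pow_one]
        · exfalso
          apply hZneA
          exact Subgroup.eq_of_le_of_card_ge hZA (by rw [hA, hk])
      have hn3 : 3 ≤ n := by
        by_contra hlt
        have hn : n = 2 := by omega
        apply hAtop
        apply Subgroup.eq_top_of_card_eq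
        rw [hA, hX, hn]
      obtain ⟨a, haA, haZ⟩ := SetLike.exists_of_lt (lt_of_le_of_ne hZA hZneA)
      have hgen : Subgroup.center X ⊔ Subgroup.zpowers a = A := by
        have hle : Subgroup.center X ⊔ Subgroup.zpowers a ≤ A :=
          sup_le hZA (Subgroup.zpowers_le.mpr haA)
        apply Subgroup.eq_of_le_of_card_ge hle
        have h1 : Nat.card ↥(Subgroup.center X ⊔ Subgroup.zpowers a) ∣ p ^ 2 :=
          hA ▸ Subgroup.card_dvd_of_le hle
        obtain ⟨k, hk2, hk⟩ := (Nat.dvd_prime_pow hp).mp h1
        have hlt : Subgroup.center X < Subgroup.center X ⊔ Subgroup.zpowers a := by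
          apply lt_of_le_of_ne le_sup_left
          intro h
          apply haZ
          rw [h]
          exact (le_sup_right : Subgroup.zpowers a ≤ _) (Subgroup.mem_zpowers a)
        have h2 := Cfsg.Agent.Lib.Lead.Subnormal.card_lt_card_of_lt hlt
        rw [hZcard, hk] at h2
        rw [hA, hk]
        interval_cases k
        · exfalso
          rw [pow_zero] at h2
          exact absurd h2 (by have := hp.one_lt; omega)
        · exfalso
          rw [pow_one] at h2
          exact lt_irrefl _ h2
        · exact le_rfl
      have hCa : Subgroup.centralizer ({a} : Set X) = A := by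
        apply le_antisymm
        · intro x hx
          rw [← hC, Subgroup.mem_centralizer_iff]
          intro y hy
          rw [← hgen] at hy
          have hxa : a * x = x * a := Subgroup.mem_centralizer_iff.mp hx a rfl
          refine Cfsg.Agent.Lib.Lead.SysNorm.commute_of_mem_sup (Subgroup.center X)
            (Subgroup.zpowers a) x (fun z hz => (Subgroup.mem_center_iff.mp hz x).symm) ?_ y hy
          intro w hw
          obtain ⟨k, rfl⟩ := Subgroup.mem_zpowers_iff.mp hw
          exact Commute.zpow_left hxa k
        · rw [← hC]
          exact Subgroup.centralizer_le (Set.singleton_subset_iff.mpr haA)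
      -- the quotient
      obtain ⟨π, hπ⟩ : ∃ π : X →* X ⧸ Subgroup.center X, π = QuotientGroup.mk' _ := ⟨_, rfl⟩
      have hπs : Function.Surjective π := by
        rw [hπ]
        exact QuotientGroup.mk'_surjective _
      have hπ1 : ∀ x : X, π x = 1 ↔ x ∈ Subgroup.center X := by
        intro x
        rw [hπ]
        exact QuotientGroup.eq_one_iff x
      have hXb : Nat.card (X ⧸ Subgroup.center X) = p ^ (n - 1) := by
        have h1 := Subgroup.card_eq_card_quotient_mul_card_subgroup (Subgroup.center X)
        rw [hX, hZcard] at h1
        have h2 : p ^ n = p ^ (n - 1) * p := by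
          rw [← pow_succ]
          congr 1
          omega
        rw [h2] at h1
        exact (Nat.eq_of_mul_eq_mul_right hp.pos h1).symm
      have hXbp : IsPGroup p (X ⧸ Subgroup.center X) := IsPGroup.of_card hXb
      haveI : Nontrivial (X ⧸ Subgroup.center X) := by
        rw [← Finite.one_lt_card_iff_nontrivial, hXb]
        exact Nat.one_lt_pow (by omega) hp.one_lt
      have hπa : π a ≠ 1 := fun h => haZ ((hπ1 a).mp h)
      obtain ⟨Bb, hBb⟩ : ∃ Bb : Subgroup (X ⧸ Subgroup.center X),
          Bb = Subgroup.centralizer ({π a} : Set (X ⧸ Subgroup.center X)) := ⟨_, rfl⟩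
      have haBb : π a ∈ Bb := by
        rw [hBb, Subgroup.mem_centralizer_iff]
        intro h hh
        rw [Set.mem_singleton_iff] at hh
        rw [hh]
      have hBmem : ∀ x : X, x ∈ Bb.comap π → a⁻¹ * x⁻¹ * a * x ∈ Subgroup.center X := by
        intro x hx
        have hx' : π x ∈ Bb := hx
        rw [hBb] at hx'
        have h1 : π a * π x = π x * π a := Subgroup.mem_centralizer_iff.mp hx' (π a) rfl
        rw [← hπ1, map_mul, map_mul, map_mul, map_inv, map_inv, mul_assoc, h1]
        group
      let φ : ↥(Bb.comap π) →* ↥(Subgroup.center X) :=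
        MonoidHom.mk' (fun x => ⟨a⁻¹ * (x : X)⁻¹ * a * x, hBmem x x.2⟩) (by
          intro x y
          apply Subtype.ext
          have hc := hBmem x x.2
          show a⁻¹ * ((x : X) * y)⁻¹ * a * ((x : X) * y)
            = (a⁻¹ * (x : X)⁻¹ * a * x) * (a⁻¹ * (y : X)⁻¹ * a * y)
          have e1 : a⁻¹ * ((x : X) * y)⁻¹ * a * ((x : X) * y)
              = (a⁻¹ * (y : X)⁻¹ * a) * (a⁻¹ * (x : X)⁻¹ * a * x) * y := by group
          rw [e1, Subgroup.mem_center_iff.mp hc (a⁻¹ * (y : X)⁻¹ * a)]
          group)
      have hker : Nat.card φ.ker ∣ p ^ 2 := by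
        have h1 : φ.ker.map (Bb.comap π).subtype ≤ A := by
          rintro _ ⟨x, hx, rfl⟩
          rw [← hCa, Subgroup.mem_centralizer_iff]
          intro h hh
          rw [Set.mem_singleton_iff] at hh
          rw [hh]
          have h2 : a⁻¹ * (x : X)⁻¹ * a * x = 1 := congrArg Subtype.val (MonoidHom.mem_ker.mp hx)
          have h3 : a * (x : X) = x * a * (a⁻¹ * (x : X)⁻¹ * a * x) := by group
          show a * (x : X) = (x : X) * a
          rw [h3, h2, mul_one]
        have h4 := Subgroup.card_dvd_of_le h1
        rwa [Subgroup.card_map_of_injective (Subgroup.subtype_injective _), hA] at h4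
      have hBcard : Nat.card ↥(Bb.comap π) ∣ p ^ 2 * p := by
        have h1 := φ.ker.card_mul_index
        rw [Subgroup.index_ker] at h1
        rw [← h1]
        apply Nat.mul_dvd_mul hker
        rw [← hZcard]
        exact Subgroup.card_subgroup_dvd_card _
      have hBB : Nat.card ↥(Bb.comap π) = p * Nat.card Bb := by
        have h1 := (Bb.comap π).card_mul_index
        have h2 := Bb.card_mul_index
        rw [Subgroup.index_comap_of_surjective Bb hπs, hX] at h1
        rw [hXb] at h2
        have h3 : p ^ n = p * p ^ (n - 1) := by
          rw [← pow_succ']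
          congr 1
          omega
        rw [h3, ← h2, ← mul_assoc] at h1
        have hidx : 0 < Bb.index := Nat.pos_of_ne_zero Bb.index_ne_zero_of_finite
        exact Nat.eq_of_mul_eq_mul_right hidx h1
      have hBb2 : Nat.card Bb ∣ p ^ 2 := by
        rw [hBB, mul_comm] at hBcard
        exact Nat.dvd_of_mul_dvd_mul_right hp.pos hBcard
      have hBbcard : Nat.card Bb = p ^ 2 := by
        obtain ⟨k, hk2, hk⟩ := (Nat.dvd_prime_pow hp).mp hBb2
        interval_cases k
        · exfalso
          rw [pow_zero] at hk
          have h1 := (Subgroup.card_le_one_iff_eq_bot _).mp hk.le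
          rw [h1, Subgroup.mem_bot] at haBb
          exact hπa haBb
        · exfalso
          rw [pow_one] at hk
          have hcle : Subgroup.center (X ⧸ Subgroup.center X) ≤ Bb := by
            rw [hBb]
            exact Subgroup.center_le_centralizer _
          have hcne : Subgroup.center (X ⧸ Subgroup.center X) ≠ ⊥ := (hXbp.bot_lt_center).ne'
          have hceq : Subgroup.center (X ⧸ Subgroup.center X) = Bb := by
            apply Subgroup.eq_of_le_of_card_ge hcle
            have h1 : Nat.card (Subgroup.center (X ⧸ Subgroup.center X)) ∣ p :=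
              hk ▸ Subgroup.card_dvd_of_le hcle
            rcases (Nat.dvd_prime hp).mp h1 with h2 | h2
            · exfalso
              exact hcne ((Subgroup.card_le_one_iff_eq_bot _).mp h2.le)
            · rw [hk, h2]
          have hBtop : Bb = ⊤ := by
            rw [eq_top_iff]
            intro x _
            rw [hBb, Subgroup.mem_centralizer_iff]
            intro h hh
            rw [Set.mem_singleton_iff] at hh
            rw [hh]
            have h3 : π a ∈ Subgroup.center (X ⧸ Subgroup.center X) := by
              rw [hceq]
              exact haBb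
            exact (Subgroup.mem_center_iff.mp h3 x).symm
          rw [hBtop, Subgroup.card_top, hXb] at hk
          have h4 : p ^ (n - 1) = p ^ 1 := by rw [hk, pow_one]
          have h5 := Nat.pow_right_injective hp.two_le h4
          omega
        · exact hk
      have hself : Subgroup.centralizer (Bb : Set (X ⧸ Subgroup.center X)) = Bb := by
        apply le_antisymm
        · intro x hx
          rw [hBb, Subgroup.mem_centralizer_iff]
          intro h hh
          rw [Set.mem_singleton_iff] at hh
          rw [hh]
          exact Subgroup.mem_centralizer_iff.mp hx (π a) haBb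
        · intro x hx
          rw [Subgroup.mem_centralizer_iff]
          intro h hh
          have h1 := IsPGroup.commutative_of_card_eq_prime_sq hBbcard
            (⟨h, hh⟩ : ↥Bb) ⟨x, hx⟩
          exact congrArg Subtype.val h1
      have hIH := ih (n - 1) (by omega) (X ⧸ Subgroup.center X) hXb Bb hBbcard hself
      rw [hIH]
      omega

/-- A p-group with a self-centralizing subgroup of order p^2 is of maximal class. -/
theorem result {X : Type*} [Group X] [Finite X] {p : ℕ} [Fact p.Prime] (n : ℕ) (hX : Nat.card X = p ^ n) (A : Subgroup X) (hA : Nat.card A = p ^ 2) (hC : Subgroup.centralizer (A : Set X) = A) : Group.nilpotencyClass X = n - 1 := by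
  exact maxclass_aux n X hX A hA hC

end Cfsg.Agent.S0112
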