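import Mathlib
import Cfsg.Statements.S4219
import Cfsg.Agent.Lib.Helper7.SylowLib
import Cfsg.Agent.H2.ConjMap

set_option autoImplicit false
open Cfsg

namespace Cfsg.Agent.S4219

open Cfsg.Agent.Lib.Helper7 Cfsg.Agent.H2

/-- Let a finite group `G` act `t`-fold transitively on a finite set, let `H` be the stabilizer of `t` distinct points and `P` a Sylow `p`-subgroup of `H`. Then the normalizer of `P` in `G` is `t`-fold transitive on the fixed points of `P`: any `t` distinct fixed points of `P` can be carried to any other `t` distinct fixed points of `P` by an element normalizing `P`. -/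
theorem result {G : Type*} [Group G] [Finite G] {α : Type*} [Fintype α] [MulAction G α] {t : ℕ} (hG : MulAction.IsMultiplyPretransitive G α t) (x : Fin t ↪ α) {p : ℕ} [Fact p.Prime] (P : Sylow p (MulAction.stabilizer G x)) (a b : Fin t ↪ α) (ha : ∀ i, a i ∈ MulAction.fixedPoints ((P : Subgroup (MulAction.stabilizer G x)).map (MulAction.stabilizer G x).subtype) α) (hb : ∀ i, b i ∈ MulAction.fixedPoints ((P : Subgroup (MulAction.stabilizer G x)).map (MulAction.stabilizer G x).subtype) α) : ∃ g ∈ Subgroup.normalizer ((((P : Subgroup (MulAction.stabilizer G x)).map (MulAction.stabilizer G x).subtype) : Subgroup G) : Set G), g • a = b := by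
  classical
  have hP0 : IsSylowIn p ((P : Subgroup (MulAction.stabilizer G x)).map
      (MulAction.stabilizer G x).subtype) (MulAction.stabilizer G x) := IsSylowIn.of_sylow P
  -- `P` is a Sylow subgroup of the stabilizer of any tuple of its fixed points
  have key : ∀ c : Fin t ↪ α, (∀ i, c i ∈ MulAction.fixedPoints
      ((P : Subgroup (MulAction.stabilizer G x)).map (MulAction.stabilizer G x).subtype) α) →
      IsSylowIn p ((P : Subgroup (MulAction.stabilizer G x)).map
        (MulAction.stabilizer G x).subtype) (MulAction.stabilizer G c) := by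
    intro c hc
    refine ⟨?_, ?_⟩
    · intro g hg
      rw [MulAction.mem_stabilizer_iff]
      ext i
      exact hc i ⟨g, hg⟩
    · rw [hP0.2]
      obtain ⟨g, hg⟩ := MulAction.exists_smul_eq G x c
      rw [← hg, MulAction.stabilizer_smul_eq_stabilizer_map_conj, card_map_conj]
  have hPa := key a ha
  have hPb := key b hb
  obtain ⟨h, hh⟩ := MulAction.exists_smul_eq G a b
  -- the conjugate of `P` by `h` is Sylow in the stabilizer of `b`
  have hPb' : IsSylowIn p (((P : Subgroup (MulAction.stabilizer G x)).map
      (MulAction.stabilizer G x).subtype).map (MulAut.conj h).toMonoidHom)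
      (MulAction.stabilizer G b) := by
    refine ⟨?_, ?_⟩
    · rw [← hh, MulAction.stabilizer_smul_eq_stabilizer_map_conj]
      exact map_conj_mono hPa.1 h
    · rw [card_map_conj, hPb.2]
  obtain ⟨c, hc, hconj⟩ := hPb'.conj hPb
  refine ⟨c * h, ?_, ?_⟩
  · rw [← map_conj_eq_self_iff_mem_normalizer, map_conj_mul]
    exact hconj.symm
  · rw [mul_smul, hh]
    exact MulAction.mem_stabilizer_iff.1 hc

end Cfsg.Agent.S4219
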