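import Cfsg.Statements.S0713
import Mathlib
import Cfsg.Agent.H1.SylowMore
import Cfsg.Agent.H1.Card

set_option autoImplicit false
open Cfsg

namespace Cfsg.Agent.S0713

open MulAction Equiv

section lemmas

variable {α : Type*} [Fintype α] [DecidableEq α]

/-- step 1: `G` is `(N - p)`-transitive -/
theorem step1 (G : Subgroup (Equiv.Perm α)) (hG : MulAction.IsPreprimitive G α) {p : ℕ}
    (hp : p.Prime) (hpn : p + 3 ≤ Fintype.card α) {g : Equiv.Perm α} (hgc : g.IsCycle)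
    (hgp : g.support.card = p) (hg : g ∈ G) :
    MulAction.IsMultiplyPretransitive G α (Fintype.card α - p) := by
  classical
  obtain ⟨n, hn⟩ : ∃ n, Fintype.card α = p + (n + 1) := ⟨Fintype.card α - p - 1, by omega⟩
  have hsc : Set.ncard ((g.support : Set α)ᶜ) = n + 1 := by
    apply Nat.add_left_cancel (n := (g.support : Set α).ncard)
    rw [Set.ncard_add_ncard_compl, Set.ncard_coe_finset, hgp, Nat.card_eq_fintype_card, hn]
  have h1 : MulAction.IsMultiplyPreprimitive G α (n + 2) := by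
    apply hG.isMultiplyPreprimitive hsc
    · rw [Nat.card_eq_fintype_card, hn]; have := hp.two_le; omega
    have := Equiv.Perm.isPretransitive_of_isCycle_mem hgc hg
    apply MulAction.IsPreprimitive.of_prime_card
    convert hp
    rw [Nat.card_eq_fintype_card, Fintype.card_subtype, ← hgp]
    apply congr_arg
    ext x
    simp [SubMulAction.mem_ofFixingSubgroup_iff]
  have h2 : MulAction.IsMultiplyPretransitive G α (n + 2) := h1.isMultiplyPretransitive
  have h3 : Fintype.card α - p = n + 1 := by omega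
  rw [h3]
  exact MulAction.isMultiplyPretransitive_of_le (n := n + 2) (by omega)
    (by rw [Nat.card_eq_fintype_card, hn]; have := hp.two_le; omega)

/-- commutators of elements normalizing a cyclic subgroup centralize it -/
theorem comm_mem_centralizer {X : Type*} [Group X] (H : Subgroup X) [IsCyclic H] (u₁ u₂ : X)
    (h₁ : u₁ ∈ Subgroup.normalizer (H : Set X)) (h₂ : u₂ ∈ Subgroup.normalizer (H : Set X)) :
    u₁ * u₂ * u₁⁻¹ * u₂⁻¹ ∈ Subgroup.centralizer (H : Set X) := by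
  have hcomm : ∀ a b : MulAut H, a * b = b * a := by
    intro a b
    apply (IsCyclic.mulAutMulEquiv H).injective
    rw [map_mul, map_mul, mul_comm]
  let v₁ : Subgroup.normalizer (H : Set X) := ⟨u₁, h₁⟩
  let v₂ : Subgroup.normalizer (H : Set X) := ⟨u₂, h₂⟩
  have h3 : H.normalizerMonoidHom (v₁ * v₂ * v₁⁻¹ * v₂⁻¹) = 1 := by
    rw [map_mul, map_mul, map_mul, map_inv, map_inv]
    rw [hcomm (H.normalizerMonoidHom v₁) (H.normalizerMonoidHom v₂)]
    group
  have h4 : v₁ * v₂ * v₁⁻¹ * v₂⁻¹ ∈ H.normalizerMonoidHom.ker := h3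
  rw [Subgroup.normalizerMonoidHom_ker, Subgroup.mem_subgroupOf] at h4
  exact h4


/-- step 2: realize a given permutation on a finite set of the right size -/
theorem step2 (G : Subgroup (Equiv.Perm α)) (Δ : Finset α)
    (hG : MulAction.IsMultiplyPretransitive G α Δ.card) (σ : Equiv.Perm α) :
    ∃ x ∈ G, ∀ y ∈ Δ, x y = σ y := by
  let e0 : Δ ≃ Fin Δ.card := Finset.equivFin Δ
  let e : Fin Δ.card ↪ α := e0.symm.toEmbedding.trans (Function.Embedding.subtype _)
  let e' : Fin Δ.card ↪ α := e.trans σ.toEmbedding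
  obtain ⟨x, hx⟩ := MulAction.exists_smul_eq G e e'
  refine ⟨x.1, x.2, ?_⟩
  intro y hy
  have h1 := congrArg (fun f : Fin Δ.card ↪ α => f (e0 ⟨y, hy⟩)) hx
  have h2 : x • y = σ y := by simpa [e, e'] using h1
  exact h2

theorem mapsTo_iff (x : Equiv.Perm α) (Δ : Finset α) (h : ∀ y ∈ Δ, x y ∈ Δ) :
    ∀ y, x y ∈ Δ ↔ y ∈ Δ := by
  have himg : Δ.image x = Δ := by
    apply Finset.eq_of_subset_of_card_le
    · intro z hz
      obtain ⟨y, hy, rfl⟩ := Finset.mem_image.mp hz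
      exact h y hy
    · rw [Finset.card_image_of_injective _ x.injective]
  intro y
  constructor
  · intro hy
    rw [← himg] at hy
    obtain ⟨y', hy', he⟩ := Finset.mem_image.mp hy
    rwa [← x.injective he]
  · exact h y

/-- permutations fixing the complement of the support of `g` pointwise -/
def Rg (g : Equiv.Perm α) : Subgroup (Equiv.Perm α) :=
  (Equiv.Perm.ofSubtype : Equiv.Perm {y // y ∈ g.support} →* Equiv.Perm α).range

theorem mem_Rg (g x : Equiv.Perm α) : x ∈ Rg g ↔ ∀ y, y ∉ g.support → x y = y := by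
  unfold Rg
  rw [Equiv.Perm.mem_range_ofSubtype_iff]
  constructor
  · intro h y hy
    by_contra hne
    exact hy (h (Equiv.Perm.mem_support.mpr hne))
  · intro h y hy
    by_contra hne
    exact (Equiv.Perm.mem_support.mp hy) (h y hne)

theorem card_Rg (g : Equiv.Perm α) : Nat.card (Rg g) = (g.support.card).factorial := by
  unfold Rg
  rw [← Nat.card_congr (MonoidHom.ofInjective
    (Equiv.Perm.ofSubtype_injective (p := fun y => y ∈ g.support))).toEquiv,
    Nat.card_perm, Nat.card_eq_fintype_card, Fintype.card_coe]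

theorem not_sq_dvd_factorial {p : ℕ} (hp : p.Prime) : ¬ p ^ 2 ∣ p.factorial := by
  intro h
  obtain ⟨m, rfl⟩ : ∃ m, p = m + 1 := ⟨p - 1, by have := hp.two_le; omega⟩
  rw [Nat.factorial_succ, pow_two] at h
  have h2 : (m + 1) ∣ m.factorial := Nat.dvd_of_mul_dvd_mul_left (Nat.succ_pos m) h
  have := (Nat.Prime.dvd_factorial hp).mp h2
  omega

/-- step 3: lift a permutation of the fixed point set to the normalizer of `⟨g⟩`. -/
theorem step3 (G : Subgroup (Equiv.Perm α)) {p : ℕ} [hp : Fact p.Prime] {g : Equiv.Perm α}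
    (hgc : g.IsCycle) (hgp : g.support.card = p) (hg : g ∈ G) (x : Equiv.Perm α) (hx : x ∈ G)
    (hxΔ : ∀ y ∈ g.supportᶜ, x y ∈ g.supportᶜ) :
    ∃ u ∈ G, u ∈ Subgroup.normalizer ((Subgroup.zpowers g : Subgroup (Equiv.Perm α)) : Set (Equiv.Perm α)) ∧
      ∀ y ∈ g.supportᶜ, u y = x y := by
  have hiff := mapsTo_iff x g.supportᶜ hxΔ
  have hgfix : ∀ y, y ∉ g.support → g y = y := fun y hy => Equiv.Perm.notMem_support.mp hy
  -- P ≤ F
  have hPF : Subgroup.zpowers g ≤ G ⊓ Rg g := by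
    rw [Subgroup.zpowers_le]
    exact ⟨hg, (mem_Rg g g).mpr hgfix⟩
  have hPcard : Nat.card (Subgroup.zpowers g) = p := by
    rw [Nat.card_zpowers, hgc.orderOf, hgp]
  have hP : IsPGroup p (Subgroup.zpowers g) := IsPGroup.of_card (n := 1) (by rw [hPcard, pow_one])
  have hFdvd : Nat.card (G ⊓ Rg g : Subgroup (Equiv.Perm α)) ∣ p.factorial := by
    rw [← hgp, ← card_Rg]
    exact Subgroup.card_dvd_of_le inf_le_right
  have hidx : ¬ p ∣ (Subgroup.zpowers g).relIndex (G ⊓ Rg g) := by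
    intro h
    have h1 := Cfsg.Agent.H1.card_eq_relIndex_mul_card hPF
    rw [hPcard] at h1
    apply not_sq_dvd_factorial hp.out
    refine dvd_trans ?_ hFdvd
    rw [h1, pow_two]
    exact Nat.mul_dvd_mul_right h p
  -- Q = x P x⁻¹ ≤ F
  have hQF : (Subgroup.zpowers g).map (MulAut.conj x).toMonoidHom ≤ G ⊓ Rg g := by
    rw [MonoidHom.map_zpowers, Subgroup.zpowers_le]
    refine ⟨?_, ?_⟩
    · simp only [MulEquiv.coe_toMonoidHom, MulAut.conj_apply]
      exact G.mul_mem (G.mul_mem hx hg) (G.inv_mem hx)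
    · show (MulEquiv.toMonoidHom (MulAut.conj x)) g ∈ Rg g
      rw [mem_Rg]
      intro y hy
      simp only [MulEquiv.coe_toMonoidHom, MulAut.conj_apply, Equiv.Perm.coe_mul,
        Function.comp_apply]
      have hy' : y ∈ g.supportᶜ := Finset.mem_compl.mpr hy
      have h1 : x⁻¹ y ∈ g.supportᶜ := by
        rw [← hiff]; simpa using hy'
      rw [hgfix _ (Finset.mem_compl.mp h1)]
      simp
  have hQ : IsPGroup p ((Subgroup.zpowers g).map (MulAut.conj x).toMonoidHom) := hP.map _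
  obtain ⟨k, hk, hQk⟩ := Cfsg.Agent.H1.exists_le_map_conj_of_pgroup (G ⊓ Rg g) (Subgroup.zpowers g)
    ((Subgroup.zpowers g).map (MulAut.conj x).toMonoidHom) hPF hP hidx hQF hQ
  refine ⟨k⁻¹ * x, G.mul_mem (G.inv_mem hk.1) hx, ?_, ?_⟩
  · apply Cfsg.Agent.H1.mem_normalizer_of_map_conj_le
    rintro _ ⟨h, hh, rfl⟩
    have h1 : x * h * x⁻¹ ∈ (Subgroup.zpowers g).map (MulAut.conj k).toMonoidHom :=
      hQk ⟨h, hh, by simp [MulAut.conj_apply]⟩
    obtain ⟨h', hh', he⟩ := h1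
    simp only [MulEquiv.coe_toMonoidHom, MulAut.conj_apply] at he ⊢
    have : k⁻¹ * x * h * (k⁻¹ * x)⁻¹ = k⁻¹ * (x * h * x⁻¹) * k := by group
    rw [this, ← he]
    have : k⁻¹ * (k * h' * k⁻¹) * k = h' := by group
    rw [this]; exact hh'
  · intro y hy
    have h1 : x y ∈ g.supportᶜ := hxΔ y hy
    have h2 := (mem_Rg g k⁻¹).mp ((Rg g).inv_mem hk.2) (x y) (Finset.mem_compl.mp h1)
    simpa using h2

theorem swap_mem (Δ : Finset α) {a b : α} (ha : a ∈ Δ) (hb : b ∈ Δ) (y : α) (hy : y ∈ Δ) :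
    Equiv.swap a b y ∈ Δ := by
  by_cases h1 : y = a
  · rw [h1, Equiv.swap_apply_left]; exact hb
  · by_cases h2 : y = b
    · rw [h2, Equiv.swap_apply_right]; exact ha
    · rw [Equiv.swap_apply_of_ne_of_ne h1 h2]; exact hy

/-- an element acting as a swap on `Δ` has inverse acting as the same swap -/
theorem inv_apply_of_swap (Δ : Finset α) {a b : α} (ha : a ∈ Δ) (hb : b ∈ Δ) (u : Equiv.Perm α)
    (hu : ∀ y ∈ Δ, u y = Equiv.swap a b y) : ∀ y ∈ Δ, u⁻¹ y = Equiv.swap a b y := by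
  intro y hy
  rw [Equiv.Perm.inv_eq_iff_eq]
  rw [hu _ (swap_mem Δ ha hb y hy), Equiv.swap_apply_self]

end lemmas

/-- Jordan's Theorem: a primitive permutation group of degree `n ≥ 5` containing a `p`-cycle for a prime `p ≤ n - 3` contains the alternating group. -/
theorem result {α : Type*} [Fintype α] [DecidableEq α] (G : Subgroup (Equiv.Perm α)) (hG : MulAction.IsPreprimitive G α) {p : ℕ} (hp : p.Prime) (hn : 5 ≤ Fintype.card α) (hpn : p + 3 ≤ Fintype.card α) {g : Equiv.Perm α} (hgc : g.IsCycle) (hgp : g.support.card = p) (hg : g ∈ G) : alternatingGroup α ≤ G := by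
  haveI : Fact p.Prime := ⟨hp⟩
  have h1 := step1 G hG hp hpn hgc hgp hg
  have hΔcard : (g.supportᶜ).card = Fintype.card α - p := by
    rw [Finset.card_compl, hgp]
  rw [← hΔcard] at h1
  have h3 : 2 < (g.supportᶜ).card := by rw [hΔcard]; omega
  obtain ⟨a, ha, b, hb, c, hc, hab, hac, hbc⟩ := Finset.two_lt_card.mp h3
  -- elements of `G` acting as swaps on Δ
  obtain ⟨x₁, hx₁G, hx₁⟩ := step2 G g.supportᶜ h1 (Equiv.swap a b)
  obtain ⟨x₂, hx₂G, hx₂⟩ := step2 G g.supportᶜ h1 (Equiv.swap b c)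
  obtain ⟨u₁, hu₁G, hu₁N, hu₁'⟩ := step3 G hgc hgp hg x₁ hx₁G
    (fun y hy => by rw [hx₁ y hy]; exact swap_mem _ ha hb y hy)
  obtain ⟨u₂, hu₂G, hu₂N, hu₂'⟩ := step3 G hgc hgp hg x₂ hx₂G
    (fun y hy => by rw [hx₂ y hy]; exact swap_mem _ hb hc y hy)
  have hu₁ : ∀ y ∈ g.supportᶜ, u₁ y = Equiv.swap a b y := fun y hy => by rw [hu₁' y hy, hx₁ y hy]
  have hu₂ : ∀ y ∈ g.supportᶜ, u₂ y = Equiv.swap b c y := fun y hy => by rw [hu₂' y hy, hx₂ y hy]
  have hu₁i := inv_apply_of_swap _ ha hb u₁ hu₁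
  have hu₂i := inv_apply_of_swap _ hb hc u₂ hu₂
  -- the commutator
  have hzG : u₁ * u₂ * u₁⁻¹ * u₂⁻¹ ∈ G :=
    G.mul_mem (G.mul_mem (G.mul_mem hu₁G hu₂G) (G.inv_mem hu₁G)) (G.inv_mem hu₂G)
  have hzC := comm_mem_centralizer (Subgroup.zpowers g) u₁ u₂ hu₁N hu₂N
  have hzg : Commute (u₁ * u₂ * u₁⁻¹ * u₂⁻¹) g := by
    have := (Subgroup.mem_centralizer_iff.mp hzC) g (Subgroup.mem_zpowers g)
    exact this.symm
  have hzΔ : ∀ y ∈ g.supportᶜ, (u₁ * u₂ * u₁⁻¹ * u₂⁻¹) y =
      (Equiv.swap a b * Equiv.swap b c * Equiv.swap a b * Equiv.swap b c) y := by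
    intro y hy
    simp only [Equiv.Perm.coe_mul, Function.comp_apply]
    have hy1 := swap_mem _ hb hc y hy
    have hy2 := swap_mem _ ha hb _ hy1
    have hy3 := swap_mem _ hb hc _ hy2
    rw [hu₂i y hy, hu₁i _ hy1, hu₂ _ hy2, hu₁ _ hy3]
  obtain ⟨hc', hmem⟩ := (hgc.commute_iff).mp hzg
  obtain ⟨k, hk⟩ := Subgroup.mem_zpowers_iff.mp hmem
  have hzsupp : ∀ y ∈ g.support, (u₁ * u₂ * u₁⁻¹ * u₂⁻¹) y = (g ^ k) y := by
    intro y hy
    rw [hk]
    exact (Equiv.Perm.ofSubtype_subtypePerm_of_mem hc' hy).symm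
  -- the three-cycle
  have hw : (u₁ * u₂ * u₁⁻¹ * u₂⁻¹) * (g ^ k)⁻¹ =
      Equiv.swap a b * Equiv.swap b c * Equiv.swap a b * Equiv.swap b c := by
    ext y
    by_cases hy : y ∈ g.support
    · have hy2 : (g ^ k)⁻¹ y ∈ g.support := by
        rw [← zpow_neg]
        exact Equiv.Perm.zpow_apply_mem_support.mpr hy
      rw [Equiv.Perm.mul_apply, hzsupp _ hy2]
      have hya : y ≠ a := fun h => (Finset.mem_compl.mp ha) (h ▸ hy)
      have hyb : y ≠ b := fun h => (Finset.mem_compl.mp hb) (h ▸ hy)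
      have hyc : y ≠ c := fun h => (Finset.mem_compl.mp hc) (h ▸ hy)
      simp only [Equiv.Perm.coe_mul, Function.comp_apply]
      rw [Equiv.swap_apply_of_ne_of_ne hyb hyc, Equiv.swap_apply_of_ne_of_ne hya hyb,
        Equiv.swap_apply_of_ne_of_ne hyb hyc, Equiv.swap_apply_of_ne_of_ne hya hyb]
      exact Equiv.apply_symm_apply (g ^ k) y
    · have hgy : g y = y := Equiv.Perm.notMem_support.mp hy
      have h5 : (g ^ k)⁻¹ y = y := by
        rw [← zpow_neg]
        exact Equiv.Perm.zpow_apply_eq_self_of_apply_eq_self hgy _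
      rw [Equiv.Perm.mul_apply, h5]
      exact hzΔ y (Finset.mem_compl.mpr hy)
  have hwG : (u₁ * u₂ * u₁⁻¹ * u₂⁻¹) * (g ^ k)⁻¹ ∈ G :=
    G.mul_mem hzG (G.inv_mem (G.zpow_mem hg k))
  have h3c : (Equiv.swap a b * Equiv.swap b c * Equiv.swap a b * Equiv.swap b c).IsThreeCycle := by
    have h6 : (Equiv.swap a b * Equiv.swap b c).IsThreeCycle := by
      rw [Equiv.swap_comm a b]
      exact Equiv.Perm.isThreeCycle_swap_mul_swap_same hab.symm hbc hac
    have := h6.isThreeCycle_sq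
    rwa [← mul_assoc] at this
  rw [← hw] at h3c
  exact Equiv.Perm.alternatingGroup_le_of_isPreprimitive_of_isThreeCycle_mem hG h3c hwG

end Cfsg.Agent.S0713
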