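import Mathlib
import Cfsg.Statements.S2530

set_option autoImplicit false
open Cfsg

namespace Cfsg.Agent.S2530

open CoxeterSystem

theorem A_apply (n : ℕ) (i j : Fin n) : CoxeterMatrix.A n i j =
    if i = j then 1 else (if (j : ℕ) + 1 = i ∨ (i : ℕ) + 1 = j then 3 else 2) := rfl

/-- the Coxeter group of type `A n` -/
abbrev Wn (n : ℕ) := (CoxeterMatrix.A n).Group

/-- its canonical Coxeter system -/
abbrev cs (n : ℕ) : CoxeterSystem (CoxeterMatrix.A n) (Wn n) := (CoxeterMatrix.A n).toCoxeterSystem

section Step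

variable (n : ℕ)

/-- the generators of `W (n+1)`, indexed by naturals (trivial out of range) -/
noncomputable def t (i : ℕ) : Wn (n + 1) := if h : i < n + 1 then (cs (n + 1)).simple ⟨i, h⟩ else 1

theorem t_of_lt (i : ℕ) (h : i < n + 1) : t n i = (cs (n + 1)).simple ⟨i, h⟩ := by
  unfold t; rw [dif_pos h]

theorem t_sq (i : ℕ) : t n i * t n i = 1 := by
  unfold t
  split_ifs with h
  · exact (cs (n + 1)).simple_mul_simple_self _
  · exact one_mul 1

theorem t_comm (i j : ℕ) (hij : i + 2 ≤ j) : t n i * t n j = t n j * t n i := by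
  by_cases hj : j < n + 1
  · have hi : i < n + 1 := by omega
    rw [t_of_lt n i hi, t_of_lt n j hj]
    have h := (cs (n + 1)).simple_mul_simple_pow ⟨i, hi⟩ ⟨j, hj⟩
    have hM : CoxeterMatrix.A (n + 1) ⟨i, hi⟩ ⟨j, hj⟩ = 2 := by
      rw [A_apply]
      have h1 : (⟨i, hi⟩ : Fin (n + 1)) ≠ ⟨j, hj⟩ := by
        intro e; have := congrArg Fin.val e; simp at this; omega
      rw [if_neg h1, if_neg]
      simp; omega
    rw [hM] at h
    have ha := (cs (n + 1)).simple_mul_simple_self ⟨i, hi⟩
    have hb := (cs (n + 1)).simple_mul_simple_self ⟨j, hj⟩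
    generalize (cs (n + 1)).simple ⟨i, hi⟩ = a at *
    generalize (cs (n + 1)).simple ⟨j, hj⟩ = b at *
    have h1 : a * b = (a * b)⁻¹ := eq_inv_of_mul_eq_one_left (by rw [← pow_two]; exact h)
    rw [h1, mul_inv_rev, inv_eq_of_mul_eq_one_right ha, inv_eq_of_mul_eq_one_right hb]
  · unfold t
    rw [dif_neg hj, mul_one, one_mul]

theorem t_braid (j : ℕ) (hj : j + 1 < n + 1) :
    t n j * t n (j + 1) * t n j = t n (j + 1) * t n j * t n (j + 1) := by
  have hj0 : j < n + 1 := by omega
  rw [t_of_lt n j hj0, t_of_lt n (j + 1) hj]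
  have h := (cs (n + 1)).simple_mul_simple_pow ⟨j, hj0⟩ ⟨j + 1, hj⟩
  have hM : CoxeterMatrix.A (n + 1) ⟨j, hj0⟩ ⟨j + 1, hj⟩ = 3 := by
    rw [A_apply]
    have h1 : (⟨j, hj0⟩ : Fin (n + 1)) ≠ ⟨j + 1, hj⟩ := by
      intro e; have := congrArg Fin.val e; simp at this
    rw [if_neg h1, if_pos]
    right; rfl
  rw [hM] at h
  have ha := (cs (n + 1)).simple_mul_simple_self ⟨j, hj0⟩
  have hb := (cs (n + 1)).simple_mul_simple_self ⟨j + 1, hj⟩
  generalize (cs (n + 1)).simple ⟨j, hj0⟩ = a at *
  generalize (cs (n + 1)).simple ⟨j + 1, hj⟩ = b at *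
  have ha' : a⁻¹ = a := inv_eq_of_mul_eq_one_right ha
  have hb' : b⁻¹ = b := inv_eq_of_mul_eq_one_right hb
  have h1 : a * b * a * (b * a * b) = 1 := by
    rw [← h, pow_succ, pow_two]; group
  have h2 : a * b * a = (b * a * b)⁻¹ := eq_inv_of_mul_eq_one_left h1
  rw [h2, mul_inv_rev, mul_inv_rev, ha', hb', mul_assoc]

/-- `u m = t n * t (n-1) * ⋯ * t (n-m+1)` -/
noncomputable def u : ℕ → Wn (n + 1)
  | 0 => 1
  | m + 1 => u m * t n (n - m)

theorem u_comm (m : ℕ) : ∀ i : ℕ, i + m + 1 ≤ n → u n m * t n i = t n i * u n m := by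
  induction m with
  | zero => intro i _; simp [u]
  | succ m ih =>
    intro i hi
    show u n m * t n (n - m) * t n i = t n i * (u n m * t n (n - m))
    have h1 : t n (n - m) * t n i = t n i * t n (n - m) := (t_comm n i (n - m) (by omega)).symm
    rw [mul_assoc, h1, ← mul_assoc, ih i (by omega), mul_assoc]

theorem u_braid (m : ℕ) : ∀ j : ℕ, m ≤ n + 1 → n + 2 ≤ j + m → j ≤ n →
    u n m * t n j = t n (j - 1) * u n m := by
  induction m with
  | zero => intro j _ h1 h2; omega
  | succ m ih =>
    intro j hm h1 h2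
    by_cases hc : n + 2 ≤ j + m
    · show u n m * t n (n - m) * t n j = t n (j - 1) * (u n m * t n (n - m))
      have h3 : t n (n - m) * t n j = t n j * t n (n - m) := t_comm n (n - m) j (by omega)
      rw [mul_assoc, h3, ← mul_assoc, ih j (by omega) hc h2, mul_assoc]
    · have hjm : j + m = n + 1 := by omega
      obtain ⟨m', rfl⟩ : ∃ m', m = m' + 1 := ⟨m - 1, by omega⟩
      show u n m' * t n (n - m') * t n (n - (m' + 1)) * t n j = t n (j - 1) * (u n m' * t n (n - m') * t n (n - (m' + 1)))
      have e1 : n - m' = j := by omega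
      have e2 : n - (m' + 1) = j - 1 := by omega
      rw [e1, e2]
      obtain ⟨k, rfl⟩ : ∃ k, j = k + 1 := ⟨j - 1, by omega⟩
      simp only [Nat.add_sub_cancel]
      have hb := t_braid n k (by omega)
      have hcm := u_comm n m' k (by omega)
      calc u n m' * t n (k + 1) * t n k * t n (k + 1)
          = u n m' * (t n (k + 1) * t n k * t n (k + 1)) := by group
        _ = u n m' * (t n k * t n (k + 1) * t n k) := by rw [hb]
        _ = u n m' * t n k * (t n (k + 1) * t n k) := by group
        _ = t n k * u n m' * (t n (k + 1) * t n k) := by rw [hcm]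
        _ = t n k * (u n m' * t n (k + 1) * t n k) := by group

/-- the inclusion of `W n` into `W (n+1)` -/
theorem iota_liftable : (CoxeterMatrix.A n).IsLiftable (fun i : Fin n => (cs (n + 1)).simple i.castSucc) := by
  intro i j
  have h := (cs (n + 1)).simple_mul_simple_pow i.castSucc j.castSucc
  have hM : CoxeterMatrix.A (n + 1) i.castSucc j.castSucc = CoxeterMatrix.A n i j := by
    rw [A_apply, A_apply]
    simp only [Fin.castSucc_inj, Fin.val_castSucc]
  rw [hM] at h
  exact h

noncomputable def iota : Wn n →* Wn (n + 1) :=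
  (cs n).lift ⟨fun i => (cs (n + 1)).simple i.castSucc, iota_liftable n⟩

theorem iota_simple (i : Fin n) : iota n ((cs n).simple i) = (cs (n + 1)).simple i.castSucc :=
  (cs n).lift_apply_simple (iota_liftable n) i

theorem t_mem (i : ℕ) (hi : i < n) : t n i ∈ (iota n).range := by
  rw [t_of_lt n i (by omega)]
  exact ⟨(cs n).simple ⟨i, hi⟩, iota_simple n ⟨i, hi⟩⟩

/-- the union of the cosets `W' * u m` -/
def T : Set (Wn (n + 1)) := {w | ∃ m, m ≤ n + 1 ∧ ∃ x ∈ (iota n).range, w = x * u n m}

theorem T_mul (w : Wn (n + 1)) (hw : w ∈ T n) (j : ℕ) (hj : j ≤ n) : w * t n j ∈ T n := by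
  obtain ⟨m, hm, x, hx, rfl⟩ := hw
  by_cases h1 : j + m + 1 ≤ n
  · refine ⟨m, hm, x * t n j, (iota n).range.mul_mem hx (t_mem n j (by omega)), ?_⟩
    rw [mul_assoc, u_comm n m j h1, mul_assoc]
  · by_cases h2 : j + m = n
    · refine ⟨m + 1, by omega, x, hx, ?_⟩
      have : n - m = j := by omega
      show x * u n m * t n j = x * (u n m * t n (n - m))
      rw [this, mul_assoc]
    · by_cases h3 : j + m = n + 1
      · obtain ⟨m', rfl⟩ : ∃ m', m = m' + 1 := ⟨m - 1, by omega⟩
        refine ⟨m', by omega, x, hx, ?_⟩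
        have : n - m' = j := by omega
        show x * (u n m' * t n (n - m')) * t n j = x * u n m'
        rw [this, mul_assoc, mul_assoc, t_sq, mul_one]
      · have h4 : n + 2 ≤ j + m := by omega
        refine ⟨m, hm, x * t n (j - 1), (iota n).range.mul_mem hx (t_mem n (j - 1) (by omega)), ?_⟩
        rw [mul_assoc, u_braid n m j hm h4 hj, mul_assoc]

theorem T_univ (w : Wn (n + 1)) : w ∈ T n := by
  induction w using (cs (n + 1)).simple_induction_right with
  | one => exact ⟨0, by omega, 1, one_mem _, by simp [u]⟩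
  | mul_simple_right w i hw =>
    have := T_mul n w hw i.val (by have := i.isLt; omega)
    rwa [t_of_lt n i.val i.isLt] at this

theorem step (hfin : Finite (Wn n)) (hcard : Nat.card (Wn n) ≤ (n + 1).factorial) :
    Finite (Wn (n + 1)) ∧ Nat.card (Wn (n + 1)) ≤ (n + 2).factorial := by
  have hfin' : Finite (iota n).range :=
    Finite.of_surjective (iota n).rangeRestrict (iota n).rangeRestrict_surjective
  have hsurj : Function.Surjective (fun p : (iota n).range × Fin (n + 2) => (p.1 : Wn (n + 1)) * u n p.2.val) := by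
    intro w
    obtain ⟨m, hm, x, hx, rfl⟩ := T_univ n w
    exact ⟨(⟨x, hx⟩, ⟨m, by omega⟩), rfl⟩
  have hF : Finite (Wn (n + 1)) := Finite.of_surjective _ hsurj
  refine ⟨hF, ?_⟩
  have h1 := Nat.card_le_card_of_surjective _ hsurj
  rw [Nat.card_prod, Nat.card_fin] at h1
  have h2 : Nat.card (iota n).range ≤ Nat.card (Wn n) :=
    Nat.card_le_card_of_surjective _ (iota n).rangeRestrict_surjective
  calc Nat.card (Wn (n + 1)) ≤ Nat.card (iota n).range * (n + 2) := h1
    _ ≤ (n + 1).factorial * (n + 2) := Nat.mul_le_mul_right _ (h2.trans hcard)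
    _ = (n + 2).factorial := by rw [Nat.factorial_succ (n + 1)]; ring

end Step

theorem card_le (n : ℕ) : Finite (Wn n) ∧ Nat.card (Wn n) ≤ (n + 1).factorial := by
  induction n with
  | zero =>
    have hsub : ∀ w : Wn 0, w = 1 := by
      intro w
      induction w using (cs 0).simple_induction_right with
      | one => rfl
      | mul_simple_right w i _ => exact i.elim0
    have : Subsingleton (Wn 0) := ⟨fun a b => by rw [hsub a, hsub b]⟩
    refine ⟨inferInstance, ?_⟩
    rw [Nat.card_unique]
    decide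
  | succ n ih => exact step n ih.1 ih.2

theorem swap_liftable (n : ℕ) : (CoxeterMatrix.A n).IsLiftable
    (fun i : Fin n => (Equiv.swap i.castSucc i.succ : Equiv.Perm (Fin (n + 1)))) := by
  intro i j
  show (Equiv.swap i.castSucc i.succ * Equiv.swap j.castSucc j.succ) ^ (CoxeterMatrix.A n i j) = 1
  rw [A_apply]
  by_cases hij : i = j
  · rw [if_pos hij, pow_one, hij, Equiv.swap_mul_self]
  · rw [if_neg hij]
    have hv : i.val ≠ j.val := fun h => hij (Fin.ext h)
    by_cases hadj : (j : ℕ) + 1 = i ∨ (i : ℕ) + 1 = j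
    · rw [if_pos hadj]
      rcases hadj with h | h
      · -- i = j + 1
        have e : i.castSucc = j.succ := by
          apply Fin.ext; simp [← h]
        have h3 : (Equiv.swap i.castSucc i.succ * Equiv.swap j.castSucc j.succ).IsThreeCycle := by
          rw [e, Equiv.swap_comm j.castSucc j.succ]
          apply Equiv.Perm.isThreeCycle_swap_mul_swap_same
          · intro h'; have := congrArg Fin.val h'; simp at this; omega
          · intro h'; have := congrArg Fin.val h'; simp at this
          · intro h'; have := congrArg Fin.val h'; simp at this; omega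
        rw [← h3.orderOf]; exact pow_orderOf_eq_one _
      · -- j = i + 1
        have e : j.castSucc = i.succ := by
          apply Fin.ext; simp [← h]
        have h3 : (Equiv.swap i.castSucc i.succ * Equiv.swap j.castSucc j.succ).IsThreeCycle := by
          rw [e, Equiv.swap_comm i.castSucc i.succ]
          apply Equiv.Perm.isThreeCycle_swap_mul_swap_same
          · intro h'; have := congrArg Fin.val h'; simp at this
          · intro h'; have := congrArg Fin.val h'; simp at this; omega
          · intro h'; have := congrArg Fin.val h'; simp at this; omega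
        rw [← h3.orderOf]; exact pow_orderOf_eq_one _
    · rw [if_neg hadj]
      have hd : (Equiv.swap i.castSucc i.succ).Disjoint (Equiv.swap j.castSucc j.succ) := by
        apply Equiv.Perm.disjoint_swap_swap
        simp only [List.nodup_cons, List.mem_cons, List.not_mem_nil, or_false, not_or, List.nodup_nil,
          and_true, not_false_eq_true]
        refine ⟨⟨?_, ?_, ?_⟩, ⟨?_, ?_⟩, ?_⟩ <;>
          (intro h'; have := congrArg Fin.val h'; simp at this <;> omega)
      rw [pow_two, hd.commute.symm.mul_mul_mul_comm, Equiv.swap_mul_self, Equiv.swap_mul_self, one_mul]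

/-- the hom to the symmetric group -/
noncomputable def toPerm (n : ℕ) : Wn n →* Equiv.Perm (Fin (n + 1)) :=
  (cs n).lift ⟨_, swap_liftable n⟩

theorem toPerm_simple (n : ℕ) (i : Fin n) : toPerm n ((cs n).simple i) = Equiv.swap i.castSucc i.succ :=
  (cs n).lift_apply_simple (swap_liftable n) i

theorem toPerm_surjective (n : ℕ) : Function.Surjective (toPerm n) := by
  rw [← MonoidHom.mrange_eq_top, eq_top_iff, ← Equiv.Perm.mclosure_swap_castSucc_succ n,
    Submonoid.closure_le]
  rintro _ ⟨i, rfl⟩
  exact ⟨(cs n).simple i, toPerm_simple n i⟩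

theorem toPerm_bijective (n : ℕ) : Function.Bijective (toPerm n) := by
  obtain ⟨hfin, hcard⟩ := card_le n
  apply (toPerm_surjective n).bijective_of_nat_card_le
  rw [Nat.card_eq_fintype_card (α := Equiv.Perm (Fin (n + 1))), Fintype.card_perm, Fintype.card_fin]
  exact hcard

theorem result (n : ℕ) :
    ∃ cs : CoxeterSystem (CoxeterMatrix.A n) (Equiv.Perm (Fin (n + 1))), ∀ i : Fin n, cs.simple i = Equiv.swap i.castSucc i.succ := by
  let e : Wn n ≃* Equiv.Perm (Fin (n + 1)) := MulEquiv.ofBijective (toPerm n) (toPerm_bijective n)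
  refine ⟨⟨e.symm⟩, fun i => ?_⟩
  show e.symm.symm ((cs n).simple i) = _
  exact toPerm_simple n i

end Cfsg.Agent.S2530
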