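import Mathlib
import Cfsg.Statements.S3335
import Cfsg.Agent.S2530

set_option autoImplicit false
open Cfsg

namespace Cfsg.Agent.S3335

open Cfsg.Agent.S2530

/-- Carmichael's relators on `k + 1` generators -/
def rels (k : ℕ) : Set (FreeGroup (Fin (k + 1))) :=
  {g : FreeGroup (Fin (k + 1)) | ∃ i : Fin (k + 1), i.val = 0 ∧ g = FreeGroup.of i ^ 3} ∪
   {g | ∃ i : Fin (k + 1), 1 ≤ i.val ∧ g = FreeGroup.of i ^ 2} ∪
   {g | ∃ i j : Fin (k + 1), j.val = i.val + 1 ∧ g = (FreeGroup.of i * FreeGroup.of j) ^ 3} ∪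
   {g | ∃ i j : Fin (k + 1), i.val + 1 < j.val ∧ g = (FreeGroup.of i * FreeGroup.of j) ^ 2}

/-- the presented group -/
abbrev G (k : ℕ) := PresentedGroup (rels k)

variable (k : ℕ)

theorem rels_lift {H : Type*} [Group H] (y : ℕ → H) (h0 : y 0 ^ 3 = 1)
    (h1 : ∀ i, 1 ≤ i → i ≤ k → y i ^ 2 = 1)
    (h2 : ∀ i, i + 1 ≤ k → (y i * y (i + 1)) ^ 3 = 1)
    (h3 : ∀ i j, i + 1 < j → j ≤ k → (y i * y j) ^ 2 = 1) :
    ∀ r ∈ rels k, FreeGroup.lift (fun i : Fin (k + 1) => y i.val) r = 1 := by
  intro r hr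
  rcases hr with ((⟨i, hi, rfl⟩ | ⟨i, hi, rfl⟩) | ⟨i, j, hij, rfl⟩) | ⟨i, j, hij, rfl⟩
  · rw [map_pow, FreeGroup.lift_apply_of, hi]; exact h0
  · rw [map_pow, FreeGroup.lift_apply_of]; exact h1 _ hi (by have := i.2; omega)
  · rw [map_pow, map_mul, FreeGroup.lift_apply_of, FreeGroup.lift_apply_of, hij]
    exact h2 _ (by have := j.2; omega)
  · rw [map_pow, map_mul, FreeGroup.lift_apply_of, FreeGroup.lift_apply_of]
    exact h3 _ _ hij (by have := j.2; omega)

/-- the homomorphism out of the presented group defined by images satisfying the relations -/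
noncomputable def homOf {H : Type*} [Group H] (y : ℕ → H) (h0 : y 0 ^ 3 = 1)
    (h1 : ∀ i, 1 ≤ i → i ≤ k → y i ^ 2 = 1)
    (h2 : ∀ i, i + 1 ≤ k → (y i * y (i + 1)) ^ 3 = 1)
    (h3 : ∀ i j, i + 1 < j → j ≤ k → (y i * y j) ^ 2 = 1) : G k →* H :=
  PresentedGroup.toGroup (rels_lift k y h0 h1 h2 h3)

theorem homOf_of {H : Type*} [Group H] (y : ℕ → H) (h0 : y 0 ^ 3 = 1)
    (h1 : ∀ i, 1 ≤ i → i ≤ k → y i ^ 2 = 1)
    (h2 : ∀ i, i + 1 ≤ k → (y i * y (i + 1)) ^ 3 = 1)
    (h3 : ∀ i j, i + 1 < j → j ≤ k → (y i * y j) ^ 2 = 1) (i : Fin (k + 1)) :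
    homOf k y h0 h1 h2 h3 (PresentedGroup.of i) = y i.val :=
  PresentedGroup.toGroup.of _

/-- the generators, indexed by naturals -/
noncomputable def x (i : ℕ) : G k := if h : i < k + 1 then PresentedGroup.of ⟨i, h⟩ else 1

theorem x_of_lt (i : ℕ) (h : i < k + 1) : x k i = PresentedGroup.of ⟨i, h⟩ := by
  unfold x; rw [dif_pos h]

theorem x_val (i : Fin (k + 1)) : x k i.val = PresentedGroup.of i := by
  rw [x_of_lt k i.val i.2]

theorem x_cube : x k 0 ^ 3 = 1 := by
  rw [x_of_lt k 0 (by omega)]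
  have : (FreeGroup.of (⟨0, by omega⟩ : Fin (k + 1))) ^ 3 ∈ rels k :=
    Or.inl (Or.inl (Or.inl ⟨⟨0, by omega⟩, rfl, rfl⟩))
  have h := PresentedGroup.one_of_mem this
  rwa [map_pow] at h

theorem x_sq (i : ℕ) (h1 : 1 ≤ i) (h2 : i ≤ k) : x k i ^ 2 = 1 := by
  rw [x_of_lt k i (by omega)]
  have : (FreeGroup.of (⟨i, by omega⟩ : Fin (k + 1))) ^ 2 ∈ rels k :=
    Or.inl (Or.inl (Or.inr ⟨⟨i, by omega⟩, h1, rfl⟩))
  have h := PresentedGroup.one_of_mem this
  rwa [map_pow] at h

theorem x_braid (i : ℕ) (h2 : i + 1 ≤ k) : (x k i * x k (i + 1)) ^ 3 = 1 := by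
  rw [x_of_lt k i (by omega), x_of_lt k (i + 1) (by omega)]
  have : (FreeGroup.of (⟨i, by omega⟩ : Fin (k + 1)) * FreeGroup.of (⟨i + 1, by omega⟩ : Fin (k + 1))) ^ 3
      ∈ rels k :=
    Or.inl (Or.inr ⟨⟨i, by omega⟩, ⟨i + 1, by omega⟩, rfl, rfl⟩)
  have h := PresentedGroup.one_of_mem this
  rwa [map_pow, map_mul] at h

theorem x_far (i j : ℕ) (h1 : i + 1 < j) (h2 : j ≤ k) : (x k i * x k j) ^ 2 = 1 := by
  rw [x_of_lt k i (by omega), x_of_lt k j (by omega)]
  have : (FreeGroup.of (⟨i, by omega⟩ : Fin (k + 1)) * FreeGroup.of (⟨j, by omega⟩ : Fin (k + 1))) ^ 2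
      ∈ rels k :=
    Or.inr ⟨⟨i, by omega⟩, ⟨j, by omega⟩, h1, rfl⟩
  have h := PresentedGroup.one_of_mem this
  rwa [map_pow, map_mul] at h

/-! ### consequences of the relations -/

theorem x_inv (i : ℕ) (h1 : 1 ≤ i) (h2 : i ≤ k) : (x k i)⁻¹ = x k i := by
  have h := x_sq k i h1 h2
  rw [pow_two] at h
  exact inv_eq_of_mul_eq_one_right h

/-- `(x₀⁻¹ x₁)³ = 1` -/
theorem x_braid_inv (h : 1 ≤ k) : ((x k 0)⁻¹ * x k 1) ^ 3 = 1 := by
  have hb := x_braid k 0 h
  have hi := x_inv k 1 le_rfl h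
  -- x₀⁻¹ x₁ = (x₁ x₀)⁻¹ and x₁ x₀ is conjugate to x₀ x₁
  have e : (x k 0)⁻¹ * x k 1 = (x k 0)⁻¹ * (x k 0 * x k 1)⁻¹ * ((x k 0)⁻¹)⁻¹ := by
    rw [mul_inv_rev, hi]; group
  rw [e, conj_pow, inv_pow, hb]; group

/-- `(x₀⁻¹ x_j)² = 1` for `j ≥ 2` -/
theorem x_far_inv (j : ℕ) (h1 : 2 ≤ j) (h2 : j ≤ k) : ((x k 0)⁻¹ * x k j) ^ 2 = 1 := by
  have hf := x_far k 0 j (by omega) h2
  have hi := x_inv k j (by omega) h2
  have e : (x k 0)⁻¹ * x k j = (x k 0)⁻¹ * (x k 0 * x k j)⁻¹ * ((x k 0)⁻¹)⁻¹ := by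
    rw [mul_inv_rev, hi]; group
  rw [e, conj_pow, inv_pow, hf]; group

/-! ### the inverting automorphism -/

/-- images of the generators under the automorphism induced by conjugation with `(0 1)` -/
noncomputable def sy (i : ℕ) : G k := if i = 0 then (x k 0)⁻¹ else x k i

/-- the endomorphism `x₀ ↦ x₀⁻¹`, `x_i ↦ x_i` -/
noncomputable def sigma : G k →* G k :=
  homOf k (sy k)
    (by unfold sy; rw [if_pos rfl, inv_pow, x_cube, inv_one])
    (by
      intro i h1 h2
      unfold sy; rw [if_neg (by omega)]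
      exact x_sq k i h1 h2)
    (by
      intro i h2
      unfold sy
      by_cases hi : i = 0
      · subst hi
        rw [if_pos rfl, if_neg (by omega)]
        exact x_braid_inv k h2
      · rw [if_neg hi, if_neg (by omega)]
        exact x_braid k i h2)
    (by
      intro i j h1 h2
      unfold sy
      by_cases hi : i = 0
      · subst hi
        rw [if_pos rfl, if_neg (by omega)]
        exact x_far_inv k j (by omega) h2
      · rw [if_neg hi, if_neg (by omega)]
        exact x_far k i j h1 h2)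

theorem sigma_x (i : ℕ) (hi : i ≤ k) : sigma k (x k i) = sy k i := by
  rw [x_of_lt k i (by omega)]
  exact homOf_of k _ _ _ _ _ ⟨i, by omega⟩

theorem sigma_sigma (g : G k) : sigma k (sigma k g) = g := by
  have h : (sigma k).comp (sigma k) = MonoidHom.id (G k) := by
    apply PresentedGroup.ext
    intro i
    rw [MonoidHom.comp_apply, MonoidHom.id_apply, ← x_val, sigma_x k i.val (by have := i.2; omega)]
    unfold sy
    by_cases hi : i.val = 0
    · rw [if_pos hi, map_inv, sigma_x k 0 (by omega)]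
      unfold sy
      rw [if_pos rfl, inv_inv, hi]
    · rw [if_neg hi, sigma_x k i.val (by have := i.2; omega)]
      unfold sy
      rw [if_neg hi]
  exact DFunLike.congr_fun h g

/-- `sigma` as an automorphism -/
noncomputable def sigmaAut : MulAut (G k) :=
  { toFun := sigma k
    invFun := sigma k
    left_inv := sigma_sigma k
    right_inv := sigma_sigma k
    map_mul' := map_mul _ }

theorem sigmaAut_apply (g : G k) : sigmaAut k g = sigma k g := rfl

theorem sigmaAut_sq : sigmaAut k * sigmaAut k = 1 := by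
  ext g
  show sigma k (sigma k g) = g
  exact sigma_sigma k g

/-- the action of `ℤˣ` on the presented group -/
noncomputable def phi : ℤˣ →* MulAut (G k) where
  toFun u := if u = 1 then 1 else sigmaAut k
  map_one' := if_pos rfl
  map_mul' := by
    intro u v
    rcases Int.units_eq_one_or u with rfl | rfl <;> rcases Int.units_eq_one_or v with rfl | rfl
    · simp
    · simp
    · simp
    · have h1 : ((-1 : ℤˣ) * -1) = 1 := by decide
      have h2 : ((-1 : ℤˣ)) ≠ 1 := by decide
      rw [h1, if_pos rfl, if_neg h2, sigmaAut_sq]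

theorem phi_neg_one : phi k (-1) = sigmaAut k := by
  have h2 : ((-1 : ℤˣ)) ≠ 1 := by decide
  show (if (-1 : ℤˣ) = 1 then 1 else sigmaAut k) = sigmaAut k
  rw [if_neg h2]

/-! ### the semidirect product and the map from the Coxeter group -/

/-- the extension of the presented group by the inverting automorphism -/
abbrev P := G k ⋊[phi k] ℤˣ

/-- the involution acting -/
noncomputable def s : P k := SemidirectProduct.inr (-1)

/-- the generators inside the semidirect product -/
noncomputable def y (i : ℕ) : P k := SemidirectProduct.inl (x k i)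

theorem s_mul_s : s k * s k = 1 := by
  unfold s
  rw [← map_mul]
  have h1 : ((-1 : ℤˣ) * -1) = 1 := by decide
  rw [h1, map_one]

theorem s_conj (g : G k) : s k * SemidirectProduct.inl g * s k = SemidirectProduct.inl (sigma k g) := by
  have h := SemidirectProduct.inl_aut (φ := phi k) (-1 : ℤˣ) g
  have h1 : ((-1 : ℤˣ))⁻¹ = -1 := by decide
  rw [h1, phi_neg_one] at h
  exact h.symm

/-- the images of the simple reflections -/
noncomputable def r (i : ℕ) : P k := if i = 0 then s k else s k * y k (i - 1)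

theorem r_zero : r k 0 = s k := if_pos rfl

theorem r_succ (i : ℕ) : r k (i + 1) = s k * y k i := by
  unfold r; rw [if_neg (by omega)]; rfl

theorem r_zero_mul (j : ℕ) : r k 0 * r k (j + 1) = y k j := by
  rw [r_zero, r_succ, ← mul_assoc, s_mul_s, one_mul]

theorem r_succ_mul (i j : ℕ) (hi : i ≤ k) :
    r k (i + 1) * r k (j + 1) = SemidirectProduct.inl (sy k i * x k j) := by
  rw [r_succ, r_succ]
  unfold y
  rw [← mul_assoc, s_conj, sigma_x k i hi, ← map_mul]

/-- the exponents of the Coxeter matrix -/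
def pw (i j : ℕ) : ℕ := if i = j then 1 else if j + 1 = i ∨ i + 1 = j then 3 else 2

theorem pw_comm (i j : ℕ) : pw i j = pw j i := by
  unfold pw
  by_cases h : i = j
  · rw [if_pos h, if_pos h.symm]
  · rw [if_neg h, if_neg (Ne.symm h)]
    by_cases h2 : j + 1 = i ∨ i + 1 = j
    · rw [if_pos h2, if_pos (Or.symm h2)]
    · rw [if_neg h2, if_neg (fun h3 => h2 (Or.symm h3))]

theorem r_sq (i : ℕ) (hi : i ≤ k + 1) : r k i * r k i = 1 := by
  rcases Nat.eq_zero_or_pos i with rfl | hpos
  · rw [r_zero]; exact s_mul_s k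
  · obtain ⟨i, rfl⟩ : ∃ i', i = i' + 1 := ⟨i - 1, by omega⟩
    rw [r_succ_mul k i i (by omega)]
    have : sy k i * x k i = 1 := by
      unfold sy
      by_cases h0 : i = 0
      · rw [if_pos h0, h0, inv_mul_cancel]
      · rw [if_neg h0, ← pow_two]
        exact x_sq k i (by omega) (by omega)
    rw [this, map_one]

theorem pw_adj (i : ℕ) : pw i (i + 1) = 3 := by
  unfold pw
  rw [if_neg (by omega), if_pos (Or.inr rfl)]

theorem pw_far (i j : ℕ) (h : i + 1 < j) : pw i j = 2 := by
  unfold pw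
  rw [if_neg (by omega), if_neg (by omega)]

theorem sy_zero : sy k 0 = (x k 0)⁻¹ := if_pos rfl

theorem sy_pos (i : ℕ) (h : i ≠ 0) : sy k i = x k i := if_neg h

theorem r_lt (i j : ℕ) (hij : i < j) (hj : j ≤ k + 1) : (r k i * r k j) ^ pw i j = 1 := by
  obtain ⟨j, rfl⟩ : ∃ j', j = j' + 1 := ⟨j - 1, by omega⟩
  rcases Nat.eq_zero_or_pos i with rfl | hpos
  · rw [r_zero_mul]
    unfold y
    rw [← map_pow]
    by_cases hj0 : j = 0
    · subst hj0
      rw [pw_adj, x_cube, map_one]
    · rw [pw_far 0 (j + 1) (by omega), x_sq k j (by omega) (by omega), map_one]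
  · obtain ⟨i, rfl⟩ : ∃ i', i = i' + 1 := ⟨i - 1, by omega⟩
    rw [r_succ_mul k i j (by omega), ← map_pow]
    by_cases hadj : j = i + 1
    · subst hadj
      rw [pw_adj]
      by_cases h0 : i = 0
      · subst h0
        rw [sy_zero, x_braid_inv k (by omega), map_one]
      · rw [sy_pos k i h0, x_braid k i (by omega), map_one]
    · rw [pw_far (i + 1) (j + 1) (by omega)]
      by_cases h0 : i = 0
      · subst h0
        rw [sy_zero, x_far_inv k j (by omega) (by omega), map_one]
      · rw [sy_pos k i h0, x_far k i j (by omega) (by omega), map_one]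

theorem r_rel (i j : ℕ) (hi : i ≤ k + 1) (hj : j ≤ k + 1) : (r k i * r k j) ^ pw i j = 1 := by
  rcases lt_trichotomy i j with h | h | h
  · exact r_lt k i j h hj
  · subst h
    rw [r_sq k i hi, one_pow]
  · have h1 := r_lt k j i h hi
    have e : r k i * r k j = (r k j * r k i)⁻¹ := by
      rw [mul_inv_rev, inv_eq_of_mul_eq_one_right (r_sq k i hi), inv_eq_of_mul_eq_one_right (r_sq k j hj)]
    rw [e, inv_pow, pw_comm, h1, inv_one]

theorem r_liftable : (CoxeterMatrix.A (k + 1 + 1)).IsLiftable (fun i : Fin (k + 1 + 1) => r k i.val) := by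
  intro i j
  have h := r_rel k i.val j.val (by have := i.2; omega) (by have := j.2; omega)
  have e : CoxeterMatrix.A (k + 1 + 1) i j = pw i.val j.val := by
    rw [A_apply]
    unfold pw
    by_cases hij : i = j
    · rw [if_pos hij, if_pos (congrArg Fin.val hij)]
    · rw [if_neg hij, if_neg (fun h => hij (Fin.ext h))]
  rw [e]
  exact h

/-- the homomorphism from the Coxeter group of type `A (k+2)` -/
noncomputable def psi : Wn (k + 1 + 1) →* P k := (cs (k + 1 + 1)).lift ⟨_, r_liftable k⟩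

theorem psi_simple (i : Fin (k + 1 + 1)) : psi k ((cs (k + 1 + 1)).simple i) = r k i.val :=
  (cs (k + 1 + 1)).lift_apply_simple (r_liftable k) i

theorem psi_t (i : ℕ) (hi : i ≤ k + 1) : psi k (t (k + 1) i) = r k i := by
  rw [t_of_lt (k + 1) i (by omega)]
  exact psi_simple k ⟨i, by omega⟩

/-! ### word identities in groups generated by involutions -/

section Words

variable {H : Type*} [Group H]

theorem L1 {a b : H} (ha : a * a = 1) (hb : b * b = 1) (hab : a * b * a = b * a * b) :
    (a * b) ^ 3 = 1 := by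
  have ha' : a⁻¹ = a := inv_eq_of_mul_eq_one_right ha
  have hb' : b⁻¹ = b := inv_eq_of_mul_eq_one_right hb
  have e : (a * b) ^ 3 = (a * b * a) * (b * a * b) := by
    rw [pow_succ, pow_two]; group
  rw [e, hab]
  have : b * a * b * (b * a * b) = b * a * (b * b) * a * b := by group
  rw [this, hb, mul_one]
  have : b * a * a * b = b * (a * a) * b := by group
  rw [this, ha, mul_one, hb]

theorem L2 {a b : H} (ha : a * a = 1) (hb : b * b = 1) (hab : a * b = b * a) :
    (a * b) ^ 2 = 1 := by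
  rw [pow_two]
  have : a * b * (a * b) = a * (b * a) * b := by group
  rw [this, ← hab]
  have : a * (a * b) * b = (a * a) * (b * b) := by group
  rw [this, ha, hb, one_mul]

/-- `a b a c` is conjugate to `a b` -/
theorem L3 {a b c : H} (ha : a * a = 1) (hb : b * b = 1) (hc : c * c = 1)
    (hab : a * b * a = b * a * b) (hbc : b * c * b = c * b * c) (hac : a * c = c * a) :
    (a * b * (a * c)) ^ 3 = 1 := by
  have hb' : b⁻¹ = b := inv_eq_of_mul_eq_one_right hb
  have hc' : c⁻¹ = c := inv_eq_of_mul_eq_one_right hc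
  have e : a * b * (a * c) = (b * c) * (a * b) * (b * c)⁻¹ := by
    rw [mul_inv_rev, hb', hc']
    -- b c a b c b = b a c b c b = b a b c b b = b a b c = a b a c
    have h1 : b * c * (a * b) * (c * b) = b * (c * a) * (b * c * b) := by group
    rw [h1, ← hac, hbc]
    have h2 : b * (a * c) * (c * b * c) = b * a * (c * c) * b * c := by group
    rw [h2, hc, mul_one, ← hab]
    group
  rw [e, conj_pow, L1 ha hb hab]
  group

theorem L4 {a b d : H} (ha : a * a = 1) (hb : b * b = 1) (hd : d * d = 1)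
    (had : a * d = d * a) (hbd : b * d = d * b) : (a * b * (a * d)) ^ 2 = 1 := by
  rw [pow_two]
  -- a b a d a b a d = a b a a d b a d = a b d b a d = a b b d a d = a d a d = a a d d = 1
  have h1 : a * b * (a * d) * (a * b * (a * d)) = a * b * a * (d * a) * b * (a * d) := by group
  rw [h1, ← had]
  have h2 : a * b * a * (a * d) * b * (a * d) = a * b * (a * a) * (d * b) * (a * d) := by group
  rw [h2, ha, mul_one, ← hbd]
  have h3 : a * b * (b * d) * (a * d) = a * (b * b) * (d * a) * d := by group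
  rw [h3, hb, mul_one, ← had]
  have h4 : a * (a * d) * d = (a * a) * (d * d) := by group
  rw [h4, ha, hd, one_mul]

theorem L5 {a b c : H} (ha : a * a = 1) (hab : a * b = b * a) : a * b * (a * c) = b * c := by
  rw [hab]
  have : b * a * (a * c) = b * (a * a) * c := by group
  rw [this, ha, mul_one]


end Words

/-! ### the map to the Coxeter group -/

/-- the generators of the Coxeter group of type `A (k+2)` -/
noncomputable abbrev tt (i : ℕ) : Wn (k + 1 + 1) := t (k + 1) i

/-- images of the generators: `x₀ ↦ t₀ t₁`, `x_i ↦ t₀ t_{i+1}` -/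
noncomputable def fy (i : ℕ) : Wn (k + 1 + 1) := tt k 0 * tt k (i + 1)

theorem tt_braid (j : ℕ) (hj : j + 1 ≤ k + 1) :
    tt k j * tt k (j + 1) * tt k j = tt k (j + 1) * tt k j * tt k (j + 1) :=
  t_braid (k + 1) j (by omega)

/-- the homomorphism to the Coxeter group -/
noncomputable def f : G k →* Wn (k + 1 + 1) :=
  homOf k (fy k)
    (L1 (t_sq _ 0) (t_sq _ 1) (tt_braid k 0 (by omega)))
    (fun i h1 _ => L2 (t_sq _ 0) (t_sq _ (i + 1)) (t_comm _ 0 (i + 1) (by omega)))
    (by
      intro i h2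
      unfold fy
      by_cases h0 : i = 0
      · subst h0
        exact L3 (t_sq _ 0) (t_sq _ 1) (t_sq _ 2) (tt_braid k 0 (by omega)) (tt_braid k 1 (by omega))
          (t_comm _ 0 2 (by omega))
      · rw [L5 (t_sq _ 0) (t_comm _ 0 (i + 1) (by omega))]
        exact L1 (t_sq _ (i + 1)) (t_sq _ (i + 1 + 1)) (tt_braid k (i + 1) (by omega)))
    (by
      intro i j h1 h2
      unfold fy
      by_cases h0 : i = 0
      · subst h0
        exact L4 (t_sq _ 0) (t_sq _ 1) (t_sq _ (j + 1)) (t_comm _ 0 (j + 1) (by omega))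
          (t_comm _ 1 (j + 1) (by omega))
      · rw [L5 (t_sq _ 0) (t_comm _ 0 (i + 1) (by omega))]
        exact L2 (t_sq _ (i + 1)) (t_sq _ (j + 1)) (t_comm _ (i + 1) (j + 1) (by omega)))

theorem f_x (i : ℕ) (hi : i ≤ k) : f k (x k i) = fy k i := by
  rw [x_of_lt k i (by omega)]
  exact homOf_of k _ _ _ _ _ ⟨i, by omega⟩

/-- the image of `ℤˣ` -/
noncomputable def g2 : ℤˣ →* Wn (k + 1 + 1) where
  toFun u := if u = 1 then 1 else tt k 0
  map_one' := if_pos rfl
  map_mul' := by
    intro u v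
    rcases Int.units_eq_one_or u with rfl | rfl <;> rcases Int.units_eq_one_or v with rfl | rfl
    · simp
    · simp
    · simp
    · have h1 : ((-1 : ℤˣ) * -1) = 1 := by decide
      have h2 : ((-1 : ℤˣ)) ≠ 1 := by decide
      rw [h1, if_pos rfl, if_neg h2]
      exact (t_sq _ 0).symm

theorem g2_neg_one : g2 k (-1) = tt k 0 := by
  have h2 : ((-1 : ℤˣ)) ≠ 1 := by decide
  show (if (-1 : ℤˣ) = 1 then 1 else tt k 0) = tt k 0
  rw [if_neg h2]

theorem tt_inv (i : ℕ) : (tt k i)⁻¹ = tt k i := inv_eq_of_mul_eq_one_right (t_sq _ i)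

theorem f_sigma (g : G k) : f k (sigma k g) = tt k 0 * f k g * (tt k 0)⁻¹ := by
  have h : (f k).comp (sigma k) = (MulAut.conj (tt k 0)).toMonoidHom.comp (f k) := by
    apply PresentedGroup.ext
    intro i
    have hi : i.val ≤ k := by have := i.2; omega
    rw [MonoidHom.comp_apply, MonoidHom.comp_apply, ← x_val, sigma_x k i.val hi, f_x k i.val hi]
    show f k (sy k i.val) = tt k 0 * fy k i.val * (tt k 0)⁻¹
    rw [tt_inv]
    unfold fy
    by_cases h0 : i.val = 0
    · rw [h0, sy_zero, map_inv, f_x k 0 (by omega)]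
      unfold fy
      rw [mul_inv_rev, tt_inv, tt_inv]
      have : tt k 0 * (tt k 0 * tt k (0 + 1)) * tt k 0 = (tt k 0 * tt k 0) * tt k (0 + 1) * tt k 0 := by
        group
      rw [this, t_sq, one_mul]
    · rw [sy_pos k i.val h0, f_x k i.val hi]
      unfold fy
      have : tt k 0 * (tt k 0 * tt k (i.val + 1)) * tt k 0 = (tt k 0 * tt k 0) * (tt k (i.val + 1) * tt k 0) := by
        group
      rw [this, t_sq, one_mul]
      exact t_comm _ 0 (i.val + 1) (by omega)
  exact DFunLike.congr_fun h g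

/-- the homomorphism from the semidirect product back to the Coxeter group -/
noncomputable def FF : P k →* Wn (k + 1 + 1) :=
  SemidirectProduct.lift (f k) (g2 k) (by
    intro u
    rcases Int.units_eq_one_or u with rfl | rfl
    · apply MonoidHom.ext
      intro g
      simp
    · apply MonoidHom.ext
      intro g
      rw [MonoidHom.comp_apply, MonoidHom.comp_apply, phi_neg_one, g2_neg_one]
      exact f_sigma k g)

theorem FF_s : FF k (s k) = tt k 0 := by
  unfold FF s
  rw [SemidirectProduct.lift_inr, g2_neg_one]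

theorem FF_y (i : ℕ) (hi : i ≤ k) : FF k (y k i) = fy k i := by
  unfold FF y
  rw [SemidirectProduct.lift_inl, f_x k i hi]

theorem FF_r (i : ℕ) (hi : i ≤ k + 1) : FF k (r k i) = tt k i := by
  rcases Nat.eq_zero_or_pos i with rfl | hpos
  · rw [r_zero, FF_s]
  · obtain ⟨i, rfl⟩ : ∃ i', i = i' + 1 := ⟨i - 1, by omega⟩
    rw [r_succ, map_mul, FF_s, FF_y k i (by omega)]
    unfold fy
    rw [← mul_assoc, t_sq, one_mul]

theorem FF_psi (w : Wn (k + 1 + 1)) : FF k (psi k w) = w := by
  have h : (FF k).comp (psi k) = MonoidHom.id _ := by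
    apply (cs (k + 1 + 1)).ext_simple
    intro i
    rw [MonoidHom.comp_apply, MonoidHom.id_apply, psi_simple, FF_r k i.val (by have := i.2; omega)]
    exact t_of_lt (k + 1) i.val i.2
  exact DFunLike.congr_fun h w

theorem psi_surjective : Function.Surjective (psi k) := by
  intro p
  have hs : s k ∈ (psi k).range := ⟨tt k 0, by rw [psi_t k 0 (by omega), r_zero]⟩
  have hl : ∀ g : G k, SemidirectProduct.inl g ∈ (psi k).range := by
    intro g
    have := PresentedGroup.generated_by (rels k)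
      ((psi k).range.comap (SemidirectProduct.inl : G k →* P k)) (fun j => by
        rw [Subgroup.mem_comap]
        have hj : j.val ≤ k := by have := j.2; omega
        refine ⟨tt k 0 * tt k (j.val + 1), ?_⟩
        rw [map_mul, psi_t k 0 (by omega), psi_t k (j.val + 1) (by omega), r_zero_mul]
        unfold y
        rw [x_val]) g
    exact this
  have hr : ∀ u : ℤˣ, SemidirectProduct.inr u ∈ (psi k).range := by
    intro u
    rcases Int.units_eq_one_or u with rfl | rfl
    · rw [map_one]; exact Subgroup.one_mem _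
    · exact hs
  rw [← SemidirectProduct.inl_left_mul_inr_right p]
  exact Subgroup.mul_mem _ (hl _) (hr _)

theorem FF_injective : Function.Injective (FF k) := by
  intro p q h
  obtain ⟨w, rfl⟩ := psi_surjective k p
  obtain ⟨w', rfl⟩ := psi_surjective k q
  rw [FF_psi, FF_psi] at h
  rw [h]

theorem f_injective : Function.Injective (f k) := by
  intro g g' h
  apply SemidirectProduct.inl_injective (φ := phi k)
  apply FF_injective k
  unfold FF
  rw [SemidirectProduct.lift_inl, SemidirectProduct.lift_inl, h]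

/-! ### the isomorphism with the alternating group -/

/-- the homomorphism to the symmetric group -/
noncomputable def hh : G k →* Equiv.Perm (Fin (k + 1 + 1 + 1)) := (toPerm (k + 1 + 1)).comp (f k)

theorem toPerm_tt (j : ℕ) (hj : j ≤ k + 1) :
    toPerm (k + 1 + 1) (tt k j) =
      Equiv.swap (⟨j, by omega⟩ : Fin (k + 1 + 1)).castSucc (⟨j, by omega⟩ : Fin (k + 1 + 1)).succ := by
  have : tt k j = (cs (k + 1 + 1)).simple ⟨j, by omega⟩ := t_of_lt (k + 1) j (by omega)
  rw [this, toPerm_simple]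

theorem sign_toPerm_tt (j : ℕ) (hj : j ≤ k + 1) :
    Equiv.Perm.sign (toPerm (k + 1 + 1) (tt k j)) = -1 := by
  rw [toPerm_tt k j hj]
  apply Equiv.Perm.sign_swap
  intro h
  have := congrArg Fin.val h
  simp at this

theorem sign_hh (g : G k) : Equiv.Perm.sign (hh k g) = 1 := by
  have h : (Equiv.Perm.sign).comp (hh k) = 1 := by
    apply PresentedGroup.ext
    intro i
    have hi : i.val ≤ k := by have := i.2; omega
    rw [MonoidHom.comp_apply, MonoidHom.one_apply]
    show Equiv.Perm.sign (toPerm (k + 1 + 1) (f k (PresentedGroup.of i))) = 1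
    rw [← x_val, f_x k i.val hi]
    unfold fy
    rw [map_mul, map_mul, sign_toPerm_tt k 0 (by omega), sign_toPerm_tt k (i.val + 1) (by omega)]
    decide
  exact DFunLike.congr_fun h g

theorem hh_injective : Function.Injective (hh k) := by
  intro g g' h
  exact f_injective k ((toPerm_bijective (k + 1 + 1)).1 h)

theorem hh_surjective (π : Equiv.Perm (Fin (k + 1 + 1 + 1))) (hπ : Equiv.Perm.sign π = 1) :
    ∃ g, hh k g = π := by
  obtain ⟨w, rfl⟩ := (toPerm_bijective (k + 1 + 1)).2 π
  have h1 := FF_psi k w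
  rw [← SemidirectProduct.inl_left_mul_inr_right (psi k w), map_mul] at h1
  unfold FF at h1
  rw [SemidirectProduct.lift_inl, SemidirectProduct.lift_inr] at h1
  rcases Int.units_eq_one_or (psi k w).right with hu | hu
  · rw [hu, map_one, mul_one] at h1
    exact ⟨(psi k w).left, by show toPerm (k + 1 + 1) (f k _) = _; rw [h1]⟩
  · exfalso
    rw [hu, g2_neg_one] at h1
    rw [← h1, map_mul, map_mul] at hπ
    have h2 : Equiv.Perm.sign (toPerm (k + 1 + 1) (f k (psi k w).left)) = 1 := sign_hh k _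
    rw [h2, sign_toPerm_tt k 0 (by omega)] at hπ
    revert hπ
    decide

/-- the isomorphism -/
noncomputable def iso : G k ≃* alternatingGroup (Fin (k + 1 + 1 + 1)) :=
  MulEquiv.ofBijective ((hh k).codRestrict (alternatingGroup (Fin (k + 1 + 1 + 1)))
    (fun g => Equiv.Perm.mem_alternatingGroup.2 (sign_hh k g)))
    ⟨fun g g' h => hh_injective k (congrArg Subtype.val h),
     fun π => by
      obtain ⟨g, hg⟩ := hh_surjective k π.1 (Equiv.Perm.mem_alternatingGroup.1 π.2)
      exact ⟨g, Subtype.ext hg⟩⟩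

/-- For n ≥ 3 the group ⟨x_1,…,x_{n−2} : x_1^3 = x_i^2 = 1 (i ≥ 2), (x_i x_{i+1})^3 = 1, (x_i x_j)^2 = 1 (j > i+1)⟩ is isomorphic to the alternating group of degree n. -/
theorem result (n : ℕ) (hn : 3 ≤ n) :
    Nonempty (PresentedGroup
      ({g : FreeGroup (Fin (n - 2)) | ∃ i : Fin (n - 2), i.val = 0 ∧ g = FreeGroup.of i ^ 3} ∪
       {g | ∃ i : Fin (n - 2), 1 ≤ i.val ∧ g = FreeGroup.of i ^ 2} ∪
       {g | ∃ i j : Fin (n - 2), j.val = i.val + 1 ∧ g = (FreeGroup.of i * FreeGroup.of j) ^ 3} ∪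
       {g | ∃ i j : Fin (n - 2), i.val + 1 < j.val ∧ g = (FreeGroup.of i * FreeGroup.of j) ^ 2})
      ≃* alternatingGroup (Fin n)) := by
  obtain ⟨k, rfl⟩ : ∃ k, n = k + 3 := ⟨n - 3, by omega⟩
  exact ⟨iso k⟩

end Cfsg.Agent.S3335
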