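import Mathlib
import Cfsg.Statements.S0256
import Cfsg.Agent.Lib.Helper8.AltPresentation
import Cfsg.Agent.S0243

set_option autoImplicit false
open Cfsg

namespace Cfsg.Agent.S0256

open Matrix

/-- the six Carmichael generators of `A_8` inside `SL_4(2)` (as raw matrices) -/
def rawList : List (Matrix (Fin 4) (Fin 4) (ZMod 2)) :=
  [!![0,1,0,0; 1,1,0,0; 0,0,0,1; 0,0,1,1],
   !![1,0,0,0; 0,1,0,0; 1,0,1,0; 1,1,0,1],
   !![0,0,1,0; 0,0,1,1; 1,0,0,0; 1,1,0,0],
   !![1,0,0,0; 1,1,0,0; 1,0,1,0; 1,1,1,1],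
   !![0,1,0,0; 1,0,0,0; 0,0,1,1; 0,0,0,1],
   !![1,0,0,0; 1,1,0,0; 0,0,1,0; 0,0,1,1]]

def raw (i : ℕ) : Matrix (Fin 4) (Fin 4) (ZMod 2) := rawList.getD i 1

theorem raw_det (i : ℕ) : (raw i).det = 1 := by
  by_cases h : i < 6
  · interval_cases i <;> decide +kernel
  · have : raw i = 1 := by
      unfold raw
      rw [List.getD_eq_default]
      simp [rawList]; omega
    rw [this, det_one]

def M (i : ℕ) : SpecialLinearGroup (Fin 4) (ZMod 2) := ⟨raw i, raw_det i⟩

theorem M_ext (A B : SpecialLinearGroup (Fin 4) (ZMod 2)) (h : A.1 = B.1) : A = B := Subtype.ext h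

theorem M0 : M 0 ^ 3 = 1 := by
  apply M_ext
  simp only [SpecialLinearGroup.coe_pow, SpecialLinearGroup.coe_one, M]
  decide +kernel

theorem M1 (i : ℕ) (h1 : 1 ≤ i) (h2 : i ≤ 5) : M i ^ 2 = 1 := by
  apply M_ext
  simp only [SpecialLinearGroup.coe_pow, SpecialLinearGroup.coe_one, M]
  interval_cases i <;> decide +kernel

theorem M2 (i : ℕ) (h2 : i + 1 ≤ 5) : (M i * M (i + 1)) ^ 3 = 1 := by
  apply M_ext
  have hi : i ≤ 4 := by omega
  simp only [SpecialLinearGroup.coe_pow, SpecialLinearGroup.coe_mul, SpecialLinearGroup.coe_one, M]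
  interval_cases i <;> decide +kernel

theorem M3 (i j : ℕ) (h1 : i + 1 < j) (h2 : j ≤ 5) : (M i * M j) ^ 2 = 1 := by
  apply M_ext
  simp only [SpecialLinearGroup.coe_pow, SpecialLinearGroup.coe_mul, SpecialLinearGroup.coe_one, M]
  have hi : i ≤ 3 := by omega
  interval_cases i <;> interval_cases j <;> decide +kernel

/-- PSL_4(2) is isomorphic to A_8. -/
theorem result {F : Type*} [Field F] [Fintype F] (hF : Fintype.card F = 2) : Nonempty (Matrix.ProjectiveSpecialLinearGroup (Fin 4) F ≃* alternatingGroup (Fin 8)) := by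
  have e : ZMod 2 ≃+* F := ZMod.ringEquivOfPrime F Nat.prime_two hF
  let ψ : SpecialLinearGroup (Fin 4) (ZMod 2) →* Matrix.ProjectiveSpecialLinearGroup (Fin 4) F :=
    (QuotientGroup.mk' _).comp (SpecialLinearGroup.map e.toRingHom)
  have hcard : 2 * Nat.card (Matrix.ProjectiveSpecialLinearGroup (Fin 4) F) = (5 + 3).factorial := by
    have := Cfsg.Agent.S0243.result hF 4 (by norm_num)
    simp [Fin.prod_univ_four] at this
    rw [this]
    decide
  refine Cfsg.Agent.Lib.Helper8.AltPresentation.iso_of_gens 5 (by norm_num) (fun i => ψ (M i))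
    ?_ ?_ ?_ ?_ ?_ hcard
  · rw [← map_pow, M0, map_one]
  · intro i h1 h2
    rw [← map_pow, M1 i h1 h2, map_one]
  · intro i h2
    rw [← map_mul, ← map_pow, M2 i h2, map_one]
  · intro i j h1 h2
    rw [← map_mul, ← map_pow, M3 i j h1 h2, map_one]
  · intro h
    have h' : SpecialLinearGroup.map e.toRingHom (M 0) ∈
        Subgroup.center (SpecialLinearGroup (Fin 4) F) := by
      have : ψ (M 0) = 1 := h
      exact (QuotientGroup.eq_one_iff _).1 this
    rw [Matrix.SpecialLinearGroup.mem_center_iff] at h'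
    obtain ⟨r, -, hr⟩ := h'
    have h01 := congrFun (congrFun hr 0) 1
    rw [SpecialLinearGroup.map_apply_coe, RingHom.mapMatrix_apply] at h01
    simp [M, raw, rawList] at h01

end Cfsg.Agent.S0256
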