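import Cfsg.Statements.S0264
import Mathlib
import Cfsg.Agent.Lib.Helper5.SLn

set_option autoImplicit false
open Cfsg

namespace Cfsg.Agent.S0264

open Matrix Matrix.SpecialLinearGroup
open scoped commutatorElement


variable {F : Type*} [Field F] {ι : Type*} [Fintype ι] [DecidableEq ι]

/-- the diagonal matrix with `a` at position `i` and ones elsewhere, in `GL`. -/
noncomputable def diagOne (i : ι) (a : F) (ha : a ≠ 0) : GL ι F :=
  Matrix.GeneralLinearGroup.mkOfDetNeZero (Matrix.diagonal (Function.update (fun _ => (1 : F)) i a)) (by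
    rw [Matrix.det_diagonal, Finset.prod_update_of_mem (Finset.mem_univ i)]
    simpa using ha)

theorem diagOne_coe (i : ι) (a : F) (ha : a ≠ 0) :
    (diagOne i a ha : Matrix ι ι F) = Matrix.diagonal (Function.update (fun _ => (1 : F)) i a) := rfl

theorem commutator_diagOne_transvection {i j : ι} (hij : i ≠ j) (a : F) (ha : a ≠ 0) (b : F) :
    ⁅diagOne i a ha, toGL (SpecialLinearGroup.transvection hij b)⁆ =
      toGL (SpecialLinearGroup.transvection hij ((a - 1) * b)) := by
  rw [commutatorElement_def, mul_inv_eq_iff_eq_mul, mul_inv_eq_iff_eq_mul]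
  apply Units.ext
  rw [Matrix.ext_iff_mulVec]
  intro v
  simp only [Units.val_mul, coe_GL_coe_matrix, diagOne_coe]
  simp only [← Matrix.mulVec_mulVec]
  simp only [Cfsg.Agent.Lib.Helper5.SLn.transvection_mulVec']
  ext k
  have hji := hij.symm
  by_cases hki : k = i
  · subst hki
    simp [Matrix.mulVec_diagonal, hji]
    ring
  · simp [Matrix.mulVec_diagonal, hki]




theorem exists_third {n : ℕ} (hn : 3 ≤ n) (i j : Fin n) : ∃ k : Fin n, k ≠ i ∧ k ≠ j := by
  by_contra h
  push Not at h
  have hsub : (Finset.univ : Finset (Fin n)) ⊆ {i, j} := by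
    intro k _
    by_cases hk : k = i
    · simp [hk]
    · simp [h k hk]
  have h1 := Finset.card_le_card hsub
  have h2 : ({i, j} : Finset (Fin n)).card ≤ 2 := Finset.card_le_two
  simp at h1
  omega

theorem toGL_transvection_mem (n : ℕ) (h : n = 2 → ∃ a : F, a ≠ 0 ∧ a ≠ 1) {i j : Fin n}
    (hij : i ≠ j) (c : F) :
    toGL (SpecialLinearGroup.transvection hij c) ∈ commutator (GL (Fin n) F) := by
  by_cases hF : ∃ a : F, a ≠ 0 ∧ a ≠ 1
  · obtain ⟨a, ha0, ha1⟩ := hF
    have hne : a - 1 ≠ 0 := sub_ne_zero_of_ne ha1
    have := commutator_diagOne_transvection hij a ha0 (c / (a - 1))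
    rw [mul_div_cancel₀ c hne] at this
    rw [← this]
    exact Subgroup.commutator_mem_commutator (Subgroup.mem_top _) (Subgroup.mem_top _)
  · have hn2 : n ≠ 2 := fun h2 => hF (h h2)
    have hn3 : 3 ≤ n := by
      have h2 : 2 ≤ n := by
        by_contra hlt
        push Not at hlt
        have hi := i.2
        have hj := j.2
        apply hij
        apply Fin.ext
        omega
      omega
    have hmem : SpecialLinearGroup.transvection hij c ∈
        commutator (SpecialLinearGroup (Fin n) F) := by
      rw [commutator_eq_closure]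
      apply Subgroup.subset_closure
      exact Cfsg.Agent.Lib.Helper5.SLn.transvection_mem_commutatorSet
        (Or.inl (exists_third hn3 i j)) hij c
    have hle : (commutator (SpecialLinearGroup (Fin n) F)).map toGL ≤ commutator (GL (Fin n) F) := by
      rw [commutator_def, commutator_def, Subgroup.map_commutator]
      exact Subgroup.commutator_mono le_top le_top
    exact hle (Subgroup.mem_map_of_mem _ hmem)

/-- GL_n(F)' = SL_n(F) (as the kernel of det), for every field F and every n, except n = 2 over the field of two elements. -/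
theorem result {F : Type*} [Field F] (n : ℕ) (h : n = 2 → ∃ a : F, a ≠ 0 ∧ a ≠ 1) : commutator (Matrix.GeneralLinearGroup (Fin n) F) = (Matrix.GeneralLinearGroup.det : Matrix.GeneralLinearGroup (Fin n) F →* Fˣ).ker := by
  apply le_antisymm
  · exact Abelianization.commutator_subset_ker _
  · intro g hg
    rw [MonoidHom.mem_ker] at hg
    have hdet : (g : Matrix (Fin n) (Fin n) F).det = 1 := by
      have := congrArg Units.val hg
      simpa using this
    obtain ⟨A, rfl⟩ : ∃ A : SpecialLinearGroup (Fin n) F, g = toGL A :=
      ⟨⟨g.1, hdet⟩, by ext; rfl⟩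
    by_cases hn : 2 ≤ n
    · have hnt : Nontrivial (Fin n) := Fin.nontrivial_iff_two_le.2 hn
      refine diagonal_transvection_induction'
        (fun A => toGL A ∈ commutator (GL (Fin n) F)) A ?_
        (fun i j hij a => toGL_transvection_mem n h hij a)
        (fun A B hA hB => by
          rw [map_mul]
          exact mul_mem hA hB)
      intro i j hij c hc
      rw [Cfsg.Agent.Lib.Helper5.SLn.diag2n_decompose hij c hc]
      simp only [map_mul]
      exact mul_mem (mul_mem (mul_mem (mul_mem (mul_mem (toGL_transvection_mem n h _ _)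
        (toGL_transvection_mem n h _ _)) (toGL_transvection_mem n h _ _))
        (toGL_transvection_mem n h _ _)) (toGL_transvection_mem n h _ _))
        (toGL_transvection_mem n h _ _)
    · have hss : Subsingleton (Fin n) := by
        rw [Fin.subsingleton_iff_le_one]
        omega
      have : A = 1 := Subsingleton.elim _ _
      rw [this, map_one]
      exact one_mem _

end Cfsg.Agent.S0264
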