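import Cfsg.Statements.S0750
import Mathlib

set_option autoImplicit false
open Cfsg

namespace Cfsg.Agent.S0750

open Module

universe u v

section basic
variable {F : Type v} {V : Type u} [Field F] [AddCommGroup V] [Module F V]
variable (Q : QuadraticForm F V)

theorem B_apply (x y : V) : QuadraticMap.polarBilin Q x y = Q (x + y) - Q x - Q y := by
  rw [QuadraticMap.polarBilin_apply_apply]; rfl

theorem B_comm (x y : V) : QuadraticMap.polarBilin Q x y = QuadraticMap.polarBilin Q y x := by
  rw [B_apply, B_apply, add_comm]; ring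

theorem Q_add (x y : V) : Q (x + y) = Q x + Q y + QuadraticMap.polarBilin Q x y := by
  rw [B_apply]; ring

theorem B_self (x : V) : QuadraticMap.polarBilin Q x x = 2 * Q x := by
  rw [QuadraticMap.polarBilin_apply_apply, QuadraticMap.polar_self]
  simp [two_mul]

theorem Q_smul (c : F) (x : V) : Q (c • x) = c * c * Q x := by
  rw [QuadraticMap.map_smul]; rfl

theorem Q_add_smul (x p : V) (c : F) :
    Q (x + c • p) = Q x + c * QuadraticMap.polarBilin Q x p + c * c * Q p := by
  rw [Q_add, Q_smul, map_smul, smul_eq_mul]; ring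

theorem Q_neg (x : V) : Q (-x) = Q x := by
  have := Q_smul Q (-1) x
  rw [neg_one_smul] at this
  rw [this]; ring

theorem Q_sub (x y : V) : Q (x - y) = Q x + Q y - QuadraticMap.polarBilin Q x y := by
  rw [sub_eq_add_neg, Q_add, Q_neg, map_neg]; ring

/-- isometries preserve the polar form -/
theorem polar_of_isometry (g : V →ₗ[F] V) (hg : ∀ v, Q (g v) = Q v) (a b : V) :
    QuadraticMap.polarBilin Q (g a) (g b) = QuadraticMap.polarBilin Q a b := by
  rw [B_apply, B_apply, ← map_add, hg, hg, hg]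

variable [FiniteDimensional F V]

omit [FiniteDimensional F V] in
theorem injective_of_isometry (hQ : (QuadraticMap.polarBilin Q).Nondegenerate)
    (g : V →ₗ[F] V) (hg : ∀ v, Q (g v) = Q v) : Function.Injective g := by
  rw [injective_iff_map_eq_zero]
  intro a ha
  apply hQ.1
  intro b
  rw [← polar_of_isometry Q g hg, ha, map_zero, LinearMap.zero_apply]

/-- an isometric endomorphism is an equivalence -/
theorem exists_equiv (hQ : (QuadraticMap.polarBilin Q).Nondegenerate)
    (g : V →ₗ[F] V) (hg : ∀ v, Q (g v) = Q v) : ∃ e : V ≃ₗ[F] V, ∀ v, e v = g v :=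
  ⟨LinearEquiv.ofInjectiveEndo g (injective_of_isometry Q hQ g hg), fun _ => rfl⟩

/-- a functional vanishing on `W` and equal to one at `x ∉ W` -/
theorem exists_functional (W : Submodule F V) {x : V} (hx : x ∉ W) :
    ∃ f : V →ₗ[F] F, (∀ z ∈ W, f z = 0) ∧ f x = 1 := by
  obtain ⟨f, hfx, hfW⟩ := Submodule.exists_dual_map_eq_bot_of_notMem hx inferInstance
  refine ⟨(f x)⁻¹ • f, fun z hz => ?_, ?_⟩
  · have : f z ∈ Submodule.map f W := ⟨z, hz, rfl⟩
    rw [hfW, Submodule.mem_bot] at this
    rw [LinearMap.smul_apply, this, smul_zero]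
  · rw [LinearMap.smul_apply, smul_eq_mul, inv_mul_cancel₀ hfx]

/-- the reflection case -/
theorem step_reflection (hQ : (QuadraticMap.polarBilin Q).Nondegenerate)
    (X0 : Submodule F V) {x p : V} (hQp : Q p ≠ 0)
    (hX0p : ∀ z ∈ X0, QuadraticMap.polarBilin Q z p = 0)
    (hxp : QuadraticMap.polarBilin Q x p = -Q p) :
    ∃ g : V ≃ₗ[F] V, (∀ v, Q (g v) = Q v) ∧ (∀ z ∈ X0, g z = z) ∧ g x = x + p := by
  set r : V →ₗ[F] V :=
    LinearMap.id - ((Q p)⁻¹ • ((QuadraticMap.polarBilin Q).flip p)).smulRight p with hr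
  have hr_apply : ∀ w, r w = w - ((Q p)⁻¹ * QuadraticMap.polarBilin Q w p) • p := by
    intro w
    simp [hr, LinearMap.smulRight_apply]
  have hiso : ∀ w, Q (r w) = Q w := by
    intro w
    rw [hr_apply, sub_eq_add_neg, ← neg_smul, Q_add_smul]
    field_simp
    ring
  obtain ⟨e, he⟩ := exists_equiv Q hQ r hiso
  refine ⟨e, fun w => by rw [he, hiso], fun z hz => ?_, ?_⟩
  · rw [he, hr_apply, hX0p z hz, mul_zero, zero_smul, sub_zero]
  · rw [he, hr_apply, hxp]
    rw [mul_neg, inv_mul_cancel₀ hQp, neg_smul, one_smul, sub_neg_eq_add]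

/-- the choice of the functional `lam` in the singular case -/
theorem exists_lam (X0 : Submodule F V) {x p : V} (hx : x ∉ X0) (hy : x + p ∉ X0) :
    ∃ lam : V →ₗ[F] F, (∀ z ∈ X0, lam z = 0) ∧ lam x = 1 ∧ 1 + lam p ≠ 0 := by
  by_cases hp : p ∈ X0 ⊔ Submodule.span F {x}
  · obtain ⟨lam, h1, h2⟩ := exists_functional X0 hx
    refine ⟨lam, h1, h2, ?_⟩
    obtain ⟨z₀, hz₀, w, hw, rfl⟩ := Submodule.mem_sup.1 hp
    obtain ⟨c, rfl⟩ := Submodule.mem_span_singleton.1 hw
    rw [map_add, h1 z₀ hz₀, map_smul, h2, zero_add, smul_eq_mul, mul_one]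
    intro hc
    apply hy
    have : x + (z₀ + c • x) = z₀ + (1 + c) • x := by rw [add_smul, one_smul]; abel
    rw [this, hc, zero_smul, add_zero]
    exact hz₀
  · have hx' : x ∉ X0 ⊔ Submodule.span F {p} := by
      intro hxm
      obtain ⟨z, hz, w, hw, hzw⟩ := Submodule.mem_sup.1 hxm
      obtain ⟨d, rfl⟩ := Submodule.mem_span_singleton.1 hw
      by_cases hd : d = 0
      · rw [hd, zero_smul, add_zero] at hzw
        exact hx (hzw ▸ hz)
      · apply hp
        have : p = (-d⁻¹) • z + d⁻¹ • x := by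
          rw [← hzw, smul_add, smul_smul, inv_mul_cancel₀ hd, one_smul, neg_smul]
          abel
        rw [this]
        exact Submodule.add_mem_sup (X0.smul_mem _ hz)
          (Submodule.smul_mem _ _ (Submodule.mem_span_singleton_self x))
    obtain ⟨lam, h1, h2⟩ := exists_functional _ hx'
    refine ⟨lam, fun z hz => h1 z (Submodule.mem_sup_left hz), h2, ?_⟩
    rw [h1 p (Submodule.mem_sup_right (Submodule.mem_span_singleton_self p)), add_zero]
    exact one_ne_zero

/-- the singular case -/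
theorem step_singular (hQ : (QuadraticMap.polarBilin Q).Nondegenerate)
    (X0 : Submodule F V) {x p : V} (hx : x ∉ X0) (hy : x + p ∉ X0) (hp : p ≠ 0) (hQp : Q p = 0)
    (hX0p : ∀ z ∈ X0, QuadraticMap.polarBilin Q z p = 0)
    (hxp : QuadraticMap.polarBilin Q x p = 0) :
    ∃ g : V ≃ₗ[F] V, (∀ v, Q (g v) = Q v) ∧ (∀ z ∈ X0, g z = z) ∧ g x = x + p := by
  obtain ⟨lam, hlam0, hlamx, hlamp⟩ := exists_lam X0 hx hy
  -- a vector `v₀` with `B p v₀ = 1`
  obtain ⟨v₀, hv₀⟩ : ∃ v₀, QuadraticMap.polarBilin Q p v₀ = 1 := by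
    have : ∃ w, QuadraticMap.polarBilin Q p w ≠ 0 := by
      by_contra hcon
      push Not at hcon
      exact hp (hQ.1 p hcon)
    obtain ⟨w, hw⟩ := this
    refine ⟨(QuadraticMap.polarBilin Q p w)⁻¹ • w, ?_⟩
    rw [map_smul, smul_eq_mul, inv_mul_cancel₀ hw]
  have hpp : QuadraticMap.polarBilin Q p p = 0 := by rw [B_self, hQp, mul_zero]
  set κ : F := (1 + lam p)⁻¹ with hκ
  have hκ1 : κ * (1 + lam p) = 1 := inv_mul_cancel₀ hlamp
  set μ : V →ₗ[F] F := QuadraticMap.polarBilin Q v₀ - κ • lam with hμ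
  set v₁' : V := (LinearMap.BilinForm.toDual (QuadraticMap.polarBilin Q) hQ).symm μ with hv₁'
  have hv₁'B : ∀ w, QuadraticMap.polarBilin Q v₁' w = μ w := fun w =>
    LinearMap.BilinForm.apply_toDual_symm_apply μ w
  have hμ_apply : ∀ w, μ w = QuadraticMap.polarBilin Q v₀ w - κ * lam w := by
    intro w
    simp [hμ]
  have hv₀p : QuadraticMap.polarBilin Q v₀ p = 1 := by rw [B_comm, hv₀]
  have hμp : μ p = κ := by
    rw [hμ_apply, hv₀p]
    linear_combination -hκ1
  set t : F := (Q v₀ - Q v₁') * (1 + lam p) with ht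
  set v₁ : V := v₁' + t • p with hv₁
  have hQv₁ : Q v₁ = Q v₀ := by
    rw [hv₁, Q_add_smul, hQp, hv₁'B, hμp, ht]
    linear_combination (Q v₀ - Q v₁') * hκ1
  -- the map
  set g : V →ₗ[F] V :=
    (LinearMap.id + lam.smulRight p).comp
      (LinearMap.id - (QuadraticMap.polarBilin Q p).smulRight v₀) +
      (QuadraticMap.polarBilin Q p).smulRight v₁ with hg
  have hg_apply : ∀ w, g w = (w - QuadraticMap.polarBilin Q p w • v₀) +
      lam (w - QuadraticMap.polarBilin Q p w • v₀) • p + QuadraticMap.polarBilin Q p w • v₁ := by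
    intro w
    simp [hg, LinearMap.smulRight_apply]
  have hiso : ∀ w, Q (g w) = Q w := by
    intro w
    rw [hg_apply]
    set c := QuadraticMap.polarBilin Q p w with hc
    set h := w - c • v₀ with hh
    have hph : QuadraticMap.polarBilin Q p h = 0 := by
      rw [hh, map_sub, map_smul, hv₀, smul_eq_mul, mul_one, ← hc, sub_self]
    have hhp : QuadraticMap.polarBilin Q h p = 0 := by rw [B_comm, hph]
    have h1 : Q (h + lam h • p) = Q h := by
      rw [Q_add_smul, hhp, hQp]; ring
    have h2 : QuadraticMap.polarBilin Q (h + lam h • p) v₁ = QuadraticMap.polarBilin Q v₀ h := by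
      rw [B_comm]
      have e1 : ∀ w', QuadraticMap.polarBilin Q v₁ w' = μ w' + t * QuadraticMap.polarBilin Q p w' := by
        intro w'
        rw [hv₁, map_add, LinearMap.add_apply, map_smul, LinearMap.smul_apply, hv₁'B, smul_eq_mul]
      rw [map_add, map_smul, smul_eq_mul, e1, e1, hph, hpp, hμp, hμ_apply]
      ring
    have hw : w = h + c • v₀ := by rw [hh]; abel
    rw [Q_add_smul, h1, h2, hQv₁]
    conv_rhs => rw [hw, Q_add_smul]
    rw [B_comm Q h v₀]
  obtain ⟨e, he⟩ := exists_equiv Q hQ g hiso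
  refine ⟨e, fun w => by rw [he, hiso], fun z hz => ?_, ?_⟩
  · rw [he, hg_apply]
    have : QuadraticMap.polarBilin Q p z = 0 := by rw [B_comm, hX0p z hz]
    rw [this, zero_smul, sub_zero, zero_smul, add_zero, hlam0 z hz, zero_smul, add_zero]
  · rw [he, hg_apply]
    have : QuadraticMap.polarBilin Q p x = 0 := by rw [B_comm, hxp]
    rw [this, zero_smul, sub_zero, zero_smul, add_zero, hlamx, one_smul]

/-- the key step -/
theorem step (hQ : (QuadraticMap.polarBilin Q).Nondegenerate)
    (X0 : Submodule F V) {x y : V} (hx : x ∉ X0) (hy : y ∉ X0)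
    (hxy : ∀ z ∈ X0, QuadraticMap.polarBilin Q z y = QuadraticMap.polarBilin Q z x)
    (hQxy : Q y = Q x) :
    ∃ g : V ≃ₗ[F] V, (∀ v, Q (g v) = Q v) ∧ (∀ z ∈ X0, g z = z) ∧ g x = y := by
  set p := y - x with hp
  have hyp : y = x + p := by rw [hp]; abel
  have hX0p : ∀ z ∈ X0, QuadraticMap.polarBilin Q z p = 0 := by
    intro z hz
    rw [hp, map_sub, hxy z hz, sub_self]
  have hQp : Q p = 2 * Q x - QuadraticMap.polarBilin Q x y := by
    rw [hp, Q_sub, hQxy, B_comm]; ring
  have hxp : QuadraticMap.polarBilin Q x p = -Q p := by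
    rw [hQp, hp, map_sub, B_self]; ring
  by_cases hp0 : p = 0
  · refine ⟨LinearEquiv.refl F V, fun v => rfl, fun z _ => rfl, ?_⟩
    rw [hyp, hp0, add_zero]; rfl
  by_cases hQp0 : Q p = 0
  · rw [hyp] at hy ⊢
    exact step_singular Q hQ X0 hx hy hp0 hQp0 hX0p (by rw [hxp, hQp0, neg_zero])
  · rw [hyp]
    exact step_reflection Q hQ X0 hQp0 hX0p hxp

/-- Witt's lemma for a linear map defined on the whole space, injective and isometric on `X` -/
theorem witt_aux (hQ : (QuadraticMap.polarBilin Q).Nondegenerate) :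
    ∀ (n : ℕ) (X : Submodule F V) (f : V →ₗ[F] V), finrank F X = n →
      (∀ x ∈ X, f x = 0 → x = 0) → (∀ x ∈ X, Q (f x) = Q x) →
      ∃ g : V ≃ₗ[F] V, (∀ v, Q (g v) = Q v) ∧ ∀ x ∈ X, g x = f x := by
  intro n
  induction n with
  | zero =>
    intro X f hX _ _
    have hbot : X = ⊥ := Submodule.finrank_eq_zero.mp hX
    refine ⟨LinearEquiv.refl F V, fun v => rfl, ?_⟩
    intro x hx
    rw [hbot, Submodule.mem_bot] at hx
    rw [hx, map_zero, map_zero]
  | succ n ih =>
    intro X f hX hinj hiso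
    have hne : X ≠ ⊥ := by
      intro h
      rw [h, finrank_bot] at hX
      omega
    obtain ⟨x, hxX, hx0⟩ := Submodule.exists_mem_ne_zero_of_ne_bot hne
    obtain ⟨q, hq⟩ := Submodule.exists_isCompl (Submodule.span F {x})
    set X0 := X ⊓ q with hX0
    have hspan_le : Submodule.span F {x} ≤ X := by
      rw [Submodule.span_singleton_le_iff_mem]; exact hxX
    have hsup : Submodule.span F {x} ⊔ X0 = X := by
      rw [hX0, inf_comm X q, ← sup_inf_assoc_of_le q hspan_le, hq.sup_eq_top, top_inf_eq]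
    have hinf : Submodule.span F {x} ⊓ X0 = ⊥ := by
      rw [hX0, ← inf_assoc, inf_comm (Submodule.span F {x}) X, inf_assoc, hq.inf_eq_bot, inf_bot_eq]
    have hxX0 : x ∉ X0 := by
      intro h
      have : x ∈ Submodule.span F {x} ⊓ X0 := ⟨Submodule.mem_span_singleton_self x, h⟩
      rw [hinf, Submodule.mem_bot] at this
      exact hx0 this
    have hfin : finrank F X0 = n := by
      have h1 := Submodule.finrank_sup_add_finrank_inf_eq (Submodule.span F {x}) X0
      rw [hsup, hinf, finrank_bot, hX, finrank_span_singleton hx0] at h1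
      omega
    have hX0X : X0 ≤ X := inf_le_left
    obtain ⟨g0, hg0iso, hg0⟩ := ih X0 f hfin (fun z hz => hinj z (hX0X hz))
      (fun z hz => hiso z (hX0X hz))
    set f' : V →ₗ[F] V := g0.symm.toLinearMap.comp f with hf'
    have hf'X0 : ∀ z ∈ X0, f' z = z := by
      intro z hz
      rw [hf', LinearMap.comp_apply, ← hg0 z hz]
      exact g0.symm_apply_apply z
    have hg0symm : ∀ v, Q (g0.symm v) = Q v := by
      intro v
      have := hg0iso (g0.symm v)
      rw [g0.apply_symm_apply] at this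
      exact this.symm
    have hf'iso : ∀ a ∈ X, Q (f' a) = Q a := by
      intro a ha
      rw [hf', LinearMap.comp_apply]
      exact (hg0symm _).trans (hiso a ha)
    have hf'inj : ∀ a ∈ X, f' a = 0 → a = 0 := by
      intro a ha h0
      apply hinj a ha
      rw [hf', LinearMap.comp_apply] at h0
      exact (LinearEquiv.map_eq_zero_iff g0.symm).mp h0
    have hyX0 : f' x ∉ X0 := by
      intro h
      have h1 : f' (x - f' x) = 0 := by rw [map_sub, hf'X0 _ h, sub_self]
      have h2 := hf'inj (x - f' x) (sub_mem hxX (hX0X h)) h1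
      rw [sub_eq_zero] at h2
      rw [← h2] at h
      exact hxX0 h
    have hxy : ∀ z ∈ X0, QuadraticMap.polarBilin Q z (f' x) = QuadraticMap.polarBilin Q z x := by
      intro z hz
      have h1 := hf'iso (z + x) (add_mem (hX0X hz) hxX)
      rw [map_add, hf'X0 z hz] at h1
      rw [B_apply, B_apply, h1, hf'iso x hxX]
    obtain ⟨h, hhiso, hhfix, hhx⟩ := step Q hQ X0 hxX0 hyX0 hxy (hf'iso x hxX)
    refine ⟨h.trans g0, ?_, ?_⟩
    · intro v
      simp only [LinearEquiv.trans_apply]
      rw [hg0iso, hhiso]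
    · intro a ha
      rw [← hsup, Submodule.mem_sup] at ha
      obtain ⟨a1, ha1, a2, ha2, rfl⟩ := ha
      rw [Submodule.mem_span_singleton] at ha1
      obtain ⟨c, rfl⟩ := ha1
      simp only [LinearEquiv.trans_apply, map_add, map_smul]
      rw [hhx, hhfix a2 ha2, hg0 a2 ha2]
      congr 2
      rw [hf', LinearMap.comp_apply]
      exact g0.apply_symm_apply _

end basic

theorem result {F V : Type*} [Field F] [Finite F] [AddCommGroup V] [Module F V] [FiniteDimensional F V] (Q : QuadraticForm F V) (hQ : (QuadraticMap.polarBilin Q).Nondegenerate) (X Y : Submodule F V) (φ : X ≃ₗ[F] Y) (hφ : ∀ x : X, Q (φ x : V) = Q (x : V)) : ∃ g : V ≃ₗ[F] V, (∀ v : V, Q (g v) = Q v) ∧ ∀ x : X, g (x : V) = (φ x : V) := by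
  obtain ⟨f, hf⟩ := LinearMap.exists_extend (Y.subtype.comp φ.toLinearMap)
  have hfx : ∀ x : X, f (x : V) = (φ x : V) := by
    intro x
    have := congrArg (fun g => g x) hf
    simpa using this
  obtain ⟨g, hg1, hg2⟩ := witt_aux Q hQ (finrank F X) X f rfl
    (by
      intro x hx h0
      have h1 := hfx ⟨x, hx⟩
      rw [h0] at h1
      have h2 : φ ⟨x, hx⟩ = 0 := Subtype.ext h1.symm
      have h3 := (LinearEquiv.map_eq_zero_iff φ).mp h2
      exact congrArg Subtype.val h3)
    (by
      intro x hx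
      have := hφ ⟨x, hx⟩
      rw [← hfx] at this
      exact this)
  exact ⟨g, hg1, fun x => (hg2 x x.2).trans (hfx x)⟩

end Cfsg.Agent.S0750
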