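import Cfsg.Statements.S0291
import Mathlib
import Cfsg.Agent.Lib.Helper5.Count

set_option autoImplicit false
open Cfsg

namespace Cfsg.Agent.S0291

open Matrix

/-- For q odd, the form x_0^2 + sum_{i<m} x_i y_i on F^(2m+1) has exactly q^(2m) zeros. -/
theorem result {F : Type*} [Field F] [Fintype F] {q : ℕ} (hF : Fintype.card F = q) (hodd : Odd q) (m : ℕ) : Nat.card {v : Unit ⊕ (Fin m ⊕ Fin m) → F // Cfsg.quadFormOdd m F v = 0} = q ^ (2 * m) := by
  classical
  have e : {v : Unit ⊕ (Fin m ⊕ Fin m) → F // Cfsg.quadFormOdd m F v = 0} ≃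
      {p : (Fin m → F) × (Fin m → F) × F // p.1 ⬝ᵥ p.2.1 = (fun z : F => -z ^ 2) p.2.2} :=
    { toFun := fun v => ⟨(fun i => v.1 (Sum.inr (Sum.inl i)), fun i => v.1 (Sum.inr (Sum.inr i)),
          v.1 (Sum.inl ())), by
        have := v.2
        unfold Cfsg.quadFormOdd at this
        change (∑ i, v.1 (Sum.inr (Sum.inl i)) * v.1 (Sum.inr (Sum.inr i))) = -(v.1 (Sum.inl ())) ^ 2
        linear_combination this⟩
      invFun := fun p => ⟨Sum.elim (fun _ => p.1.2.2) (Sum.elim p.1.1 p.1.2.1), by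
        have := p.2
        unfold Cfsg.quadFormOdd
        change p.1.2.2 ^ 2 + ∑ i, p.1.1 i * p.1.2.1 i = 0
        change (∑ i, p.1.1 i * p.1.2.1 i) = -(p.1.2.2) ^ 2 at this
        linear_combination this⟩
      left_inv := fun v => by
        apply Subtype.ext
        funext i
        rcases i with i | i | i <;> rfl
      right_inv := fun p => by rfl }
  rw [Nat.card_congr e, Cfsg.Agent.Lib.Helper5.Count.card_triples m (fun z : F => -z ^ 2)]
  have hz : Nat.card {z : F // (fun z : F => -z ^ 2) z = 0} = 1 := by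
    rw [Nat.card_eq_one_iff_unique]
    refine ⟨⟨fun a b => Subtype.ext ?_⟩, ⟨⟨0, by simp⟩⟩⟩
    have ha := a.2
    have hb := b.2
    simp only [neg_eq_zero, pow_eq_zero_iff (two_ne_zero)] at ha hb
    rw [ha, hb]
  rw [hz, hF, one_mul]
  have hq : 1 ≤ q := by
    rw [← hF]; exact Fintype.card_pos
  rcases Nat.eq_zero_or_pos m with rfl | hm
  · simp
  · obtain ⟨k, rfl⟩ : ∃ k, m = k + 1 := ⟨m - 1, by omega⟩
    simp only [Nat.add_sub_cancel]
    have h2 : 1 ≤ q ^ (k + 1) := Nat.one_le_pow _ _ hq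
    have h3 : q * (q ^ (k + 1) - 1) * q ^ k + q ^ (k + 1) = q ^ (k + 1) * q ^ (k + 1) := by
      have : q * (q ^ (k + 1) - 1) * q ^ k = (q ^ (k + 1) - 1) * q ^ (k + 1) := by
        rw [pow_succ q k]; ring
      rw [this, ← Nat.succ_mul, Nat.succ_eq_add_one, Nat.sub_add_cancel h2]
    rw [h3, ← pow_add]
    congr 1
    omega

end Cfsg.Agent.S0291
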