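import Cfsg.Statements.S0286
import Mathlib
import Cfsg.Agent.Lib.Helper5.QuadCount
import Cfsg.Agent.Lib.Helper5.QuadFrames
import Cfsg.Agent.Lib.Helper5.QuadWitt
import Cfsg.Agent.S0291

set_option autoImplicit false
open Cfsg

namespace Cfsg.Agent.S0286

open Matrix Cfsg.Agent.S0750 Cfsg.Agent.Lib.Helper5.QuadCount Cfsg.Agent.Lib.Helper5.QuadFrames
  Cfsg.Agent.Lib.Helper5.QuadWitt

section
variable {F : Type*} [Field F] (m : ℕ)

/-- the bilinear form `u₀ v₀ + Σ u_i v'_i` -/
def betaO : LinearMap.BilinForm F (Unit ⊕ (Fin m ⊕ Fin m) → F) :=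
  Matrix.toBilin' (Matrix.fromBlocks 1 0 0 (Matrix.fromBlocks 0 1 0 0))

theorem betaO_apply (u v : Unit ⊕ (Fin m ⊕ Fin m) → F) :
    betaO m u v = u (Sum.inl ()) * v (Sum.inl ()) +
      ∑ i, u (Sum.inr (Sum.inl i)) * v (Sum.inr (Sum.inr i)) := by
  unfold betaO
  rw [Matrix.toBilin'_apply']
  simp [dotProduct, Fintype.sum_sum_type, Matrix.mulVec, Matrix.fromBlocks, Matrix.one_apply]

/-- the quadratic form -/
def QO : QuadraticForm F (Unit ⊕ (Fin m ⊕ Fin m) → F) := (betaO m).toQuadraticMap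

theorem QO_apply (v : Unit ⊕ (Fin m ⊕ Fin m) → F) : QO m v = quadFormOdd m F v := by
  unfold QO
  rw [LinearMap.BilinMap.toQuadraticMap_apply, betaO_apply, ← pow_two]
  rfl

theorem QO_coe : ⇑(QO (F := F) m) = quadFormOdd m F := funext (QO_apply m)

theorem polar_apply (u v : Unit ⊕ (Fin m ⊕ Fin m) → F) :
    QuadraticMap.polarBilin (QO m) u v = 2 * u (Sum.inl ()) * v (Sum.inl ()) +
      ∑ i, (u (Sum.inr (Sum.inl i)) * v (Sum.inr (Sum.inr i)) +
        u (Sum.inr (Sum.inr i)) * v (Sum.inr (Sum.inl i))) := by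
  unfold QO
  rw [LinearMap.BilinMap.polarBilin_toQuadraticMap, LinearMap.add_apply, LinearMap.add_apply,
    LinearMap.flip_apply, betaO_apply, betaO_apply, Finset.sum_add_distrib]
  have : ∑ i, v (Sum.inr (Sum.inl i)) * u (Sum.inr (Sum.inr i)) =
      ∑ i, u (Sum.inr (Sum.inr i)) * v (Sum.inr (Sum.inl i)) :=
    Finset.sum_congr rfl (fun i _ => mul_comm _ _)
  rw [this]
  ring

theorem nondegenerate (h2 : (2 : F) ≠ 0) :
    (QuadraticMap.polarBilin (QO (F := F) m)).Nondegenerate := by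
  have key : ∀ x : Unit ⊕ (Fin m ⊕ Fin m) → F,
      (∀ y, QuadraticMap.polarBilin (QO m) x y = 0) → x = 0 := by
    intro x hx
    funext c
    rcases c with ⟨⟨⟩⟩ | i | i
    · have := hx (Pi.single (Sum.inl ()) 1)
      rw [polar_apply] at this
      simp [Pi.single_apply] at this
      rcases this with h | h
      · exact absurd h h2
      · exact h
    · have := hx (Pi.single (Sum.inr (Sum.inr i)) 1)
      rw [polar_apply] at this
      simpa [Pi.single_apply] using this
    · have := hx (Pi.single (Sum.inr (Sum.inl i)) 1)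
      rw [polar_apply] at this
      simpa [Pi.single_apply] using this
  constructor
  · exact key
  · intro y hy
    apply key
    intro x
    rw [B_comm]
    exact hy x

theorem QO_single_inl : QO (F := F) m (Pi.single (Sum.inl ()) 1) = 1 := by
  rw [QO_apply]
  unfold quadFormOdd
  simp

theorem QO_single_inr (c : Fin m ⊕ Fin m) : QO (F := F) m (Pi.single (Sum.inr c) 1) = 0 := by
  rw [QO_apply]
  unfold quadFormOdd
  rw [Finset.sum_eq_zero]
  · simp
  · intro i _
    rcases c with j | j <;> simp [Pi.single_apply]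

theorem polar_single_inr (c c' : Fin m ⊕ Fin m) :
    QuadraticMap.polarBilin (QO (F := F) m) (Pi.single (Sum.inr c) 1) (Pi.single (Sum.inr c') 1) =
      if c = Sum.swap c' then 1 else 0 := by
  classical
  rw [polar_apply]
  rcases c with i | i <;> rcases c' with j | j <;>
    simp [Pi.single_apply, Finset.sum_ite_eq, eq_comm]

theorem polar_inr_right (u : Unit ⊕ (Fin m ⊕ Fin m) → F) (c : Fin m ⊕ Fin m) :
    QuadraticMap.polarBilin (QO (F := F) m) u (Pi.single (Sum.inr c) 1) = u (Sum.inr (Sum.swap c)) := by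
  classical
  rw [polar_apply]
  rcases c with i | i <;> simp [Pi.single_apply, Finset.sum_ite_eq, eq_comm]

theorem polar_inl_inl :
    QuadraticMap.polarBilin (QO (F := F) m) (Pi.single (Sum.inl ()) 1) (Pi.single (Sum.inl ()) 1) = 2 := by
  rw [B_self, QO_single_inl, mul_one]

theorem polar_inl_inr (c : Fin m ⊕ Fin m) :
    QuadraticMap.polarBilin (QO (F := F) m) (Pi.single (Sum.inl ()) 1) (Pi.single (Sum.inr c) 1) = 0 := by
  rw [polar_inr_right]
  simp

/-- the extra vector of a frame -/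
abbrev Fib (φ : HB (QO (F := F) m) m) : Type _ :=
  {u : Unit ⊕ (Fin m ⊕ Fin m) → F // QO m u = 1 ∧
    ∀ c, QuadraticMap.polarBilin (QO m) u (Sum.elim φ.1.1 φ.1.2 c) = 0}

/-- frames decompose into a hyperbolic frame and one more vector -/
def frameEquiv : {x : Unit ⊕ (Fin m ⊕ Fin m) → (Unit ⊕ (Fin m ⊕ Fin m) → F) // IsFrame (QO m) x} ≃
    Σ φ : HB (QO (F := F) m) m, Fib m φ where
  toFun x := ⟨⟨(fun i => x.1 (Sum.inr (Sum.inl i)), fun i => x.1 (Sum.inr (Sum.inr i))), by
      obtain ⟨h1, h2⟩ := x.2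
      refine ⟨fun i j => ?_, fun i j => ?_, fun i j => ?_, fun i => ?_, fun i => ?_⟩
      · rw [h2, polar_single_inr]; simp
      · rw [h2, polar_single_inr]; simp
      · rw [h2, polar_single_inr]; simp
      · rw [h1, QO_single_inr]
      · rw [h1, QO_single_inr]⟩,
    ⟨x.1 (Sum.inl ()), by
      obtain ⟨h1, h2⟩ := x.2
      refine ⟨by rw [h1, QO_single_inl], ?_⟩
      rintro (i | i)
      · change QuadraticMap.polarBilin (QO m) (x.1 (Sum.inl ())) (x.1 (Sum.inr (Sum.inl i))) = 0
        rw [h2, polar_inl_inr]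
      · change QuadraticMap.polarBilin (QO m) (x.1 (Sum.inl ())) (x.1 (Sum.inr (Sum.inr i))) = 0
        rw [h2, polar_inl_inr]⟩⟩
  invFun s := ⟨Sum.elim (fun _ => s.2.1) (Sum.elim s.1.1.1 s.1.1.2), by
    obtain ⟨hu1, hu2⟩ := s.2.2
    refine ⟨?_, ?_⟩
    · rintro (⟨⟨⟩⟩ | c)
      · rw [QO_single_inl]; exact hu1
      · rw [QO_single_inr]; exact HB_Q (QO (F := F) m) s.1 c
    · rintro (⟨⟨⟩⟩ | c) (⟨⟨⟩⟩ | c')
      · rw [polar_inl_inl]
        change QuadraticMap.polarBilin (QO m) s.2.1 s.2.1 = 2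
        rw [B_self, hu1, mul_one]
      · rw [polar_inl_inr]; exact hu2 c'
      · rw [B_comm (QO (F := F) m) (Pi.single (Sum.inr c) 1) (Pi.single (Sum.inl ()) 1),
          polar_inl_inr, B_comm]
        exact hu2 c
      · rw [polar_single_inr]
        change QuadraticMap.polarBilin (QO m) (Sum.elim s.1.1.1 s.1.1.2 c)
          (Sum.elim s.1.1.1 s.1.1.2 c') = _
        exact HB_polar (QO (F := F) m) s.1 c c'⟩
  left_inv x := by
    apply Subtype.ext
    funext c
    rcases c with ⟨⟨⟩⟩ | i | i <;> rfl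
  right_inv s := rfl

/-- the standard hyperbolic frame -/
def stdHB : HB (QO (F := F) m) m :=
  ⟨(fun i => Pi.single (Sum.inr (Sum.inl i)) 1, fun i => Pi.single (Sum.inr (Sum.inr i)) 1), by
    refine ⟨fun i j => ?_, fun i j => ?_, fun i j => ?_, fun i => ?_, fun i => ?_⟩
    · rw [polar_single_inr]; simp
    · rw [polar_single_inr]; simp
    · rw [polar_single_inr]; simp
    · rw [QO_single_inr]
    · rw [QO_single_inr]⟩

theorem stdHB_elim (c : Fin m ⊕ Fin m) :
    Sum.elim (stdHB (F := F) m).1.1 (stdHB (F := F) m).1.2 c = Pi.single (Sum.inr c) 1 := by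
  rcases c with i | i <;> rfl

/-- the fibre over the standard frame -/
def fibStd : Fib m (stdHB (F := F) m) ≃ {t : F // t ^ 2 = 1} where
  toFun u := ⟨u.1 (Sum.inl ()), by
    obtain ⟨h1, h2⟩ := u.2
    have h0 : ∀ c, u.1 (Sum.inr c) = 0 := by
      intro c
      have := h2 (Sum.swap c)
      rw [stdHB_elim, polar_inr_right, Sum.swap_swap] at this
      exact this
    rw [QO_apply] at h1
    unfold quadFormOdd at h1
    rw [Finset.sum_eq_zero (fun i _ => by rw [h0, zero_mul]), add_zero] at h1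
    exact h1⟩
  invFun t := ⟨Pi.single (Sum.inl ()) t.1, by
    constructor
    · rw [QO_apply]
      unfold quadFormOdd
      simp [t.2]
    · intro c
      rw [stdHB_elim, polar_inr_right]
      simp⟩
  left_inv u := by
    obtain ⟨h1, h2⟩ := u.2
    have h0 : ∀ c, u.1 (Sum.inr c) = 0 := by
      intro c
      have := h2 (Sum.swap c)
      rw [stdHB_elim, polar_inr_right, Sum.swap_swap] at this
      exact this
    apply Subtype.ext
    funext c
    rcases c with ⟨⟨⟩⟩ | c
    · simp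
    · simp [h0]
  right_inv t := by
    apply Subtype.ext
    simp

theorem card_sq_eq_one [Fintype F] (h2 : (2 : F) ≠ 0) : Nat.card {t : F // t ^ 2 = 1} = 2 := by
  classical
  rw [Nat.card_eq_fintype_card, Fintype.card_subtype]
  have : (Finset.univ.filter (fun t : F => t ^ 2 = 1)) = {1, -1} := by
    ext t
    simp only [Finset.mem_filter, Finset.mem_univ, true_and, Finset.mem_insert,
      Finset.mem_singleton]
    exact sq_eq_one_iff
  rw [this, Finset.card_pair]
  intro h
  apply h2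
  linear_combination h

/-- transport of fibres along an isometry -/
def fibTransport (φ φ' : HB (QO (F := F) m) m) (g : (Unit ⊕ (Fin m ⊕ Fin m) → F) ≃ₗ[F]
      (Unit ⊕ (Fin m ⊕ Fin m) → F)) (hg : ∀ v, QO m (g v) = QO m v)
    (h1 : ∀ i, g (φ.1.1 i) = φ'.1.1 i) (h2 : ∀ i, g (φ.1.2 i) = φ'.1.2 i) :
    Fib m φ ≃ Fib m φ' where
  toFun u := ⟨g u.1, by
    have hc : ∀ c, g (Sum.elim φ.1.1 φ.1.2 c) = Sum.elim φ'.1.1 φ'.1.2 c := by
      rintro (i | i)
      · exact h1 i
      · exact h2 i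
    refine ⟨by rw [hg]; exact u.2.1, fun c => ?_⟩
    rw [← hc]
    exact (polar_of_isometry (QO m) g.toLinearMap hg u.1 _).trans (u.2.2 c)⟩
  invFun u := ⟨g.symm u.1, by
    have hc : ∀ c, g (Sum.elim φ.1.1 φ.1.2 c) = Sum.elim φ'.1.1 φ'.1.2 c := by
      rintro (i | i)
      · exact h1 i
      · exact h2 i
    have hgs : ∀ v, QO m (g.symm v) = QO m v := by
      intro v
      have := hg (g.symm v)
      rw [g.apply_symm_apply] at this
      exact this.symm
    refine ⟨by rw [hgs]; exact u.2.1, fun c => ?_⟩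
    have := polar_of_isometry (QO m) g.toLinearMap hg (g.symm u.1) (Sum.elim φ.1.1 φ.1.2 c)
    rw [← this]
    change QuadraticMap.polarBilin (QO m) (g (g.symm u.1)) (g (Sum.elim φ.1.1 φ.1.2 c)) = 0
    rw [g.apply_symm_apply, hc]
    exact u.2.2 c⟩
  left_inv u := Subtype.ext (g.symm_apply_apply u.1)
  right_inv u := Subtype.ext (g.apply_symm_apply u.1)

end

theorem prod_eq (q m : ℕ) :
    ∏ i ∈ Finset.range m, ((q ^ (2 * (m - i)) - 1) * q ^ (1 + 2 * (m - i - 1))) =
      q ^ (m ^ 2) * ∏ i ∈ Finset.range m, (q ^ (2 * (i + 1)) - 1) := by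
  have h1 : ∏ i ∈ Finset.range m, ((q ^ (2 * (m - i)) - 1) * q ^ (1 + 2 * (m - i - 1))) =
      ∏ l ∈ Finset.range m, ((q ^ (2 * (l + 1)) - 1) * q ^ (2 * l + 1)) := by
    rw [← Finset.prod_range_reflect]
    apply Finset.prod_congr rfl
    intro i hi
    rw [Finset.mem_range] at hi
    have e1 : m - (m - 1 - i) = i + 1 := by omega
    have e2 : m - (m - 1 - i) - 1 = i := by omega
    rw [e2, e1, add_comm 1]
  rw [h1, Finset.prod_mul_distrib, mul_comm]
  congr 1
  rw [Finset.prod_pow_eq_pow_sum]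
  congr 1
  clear h1
  induction m with
  | zero => simp
  | succ m ih => rw [Finset.sum_range_succ, ih]; ring

theorem result {F : Type*} [Field F] [Fintype F] {q : ℕ} (hF : Fintype.card F = q) (hodd : Odd q) (m : ℕ) : Nat.card (Cfsg.isometryGroup F (Cfsg.quadFormOdd m F)) = 2 * q ^ (m ^ 2) * ∏ i ∈ Finset.range m, (q ^ (2 * (i + 1)) - 1) := by
  classical
  have hq : 1 ≤ q := by rw [← hF]; exact Fintype.card_pos
  have hcardF : Nat.card F = q := by rw [Nat.card_eq_fintype_card, hF]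
  have h2 : (2 : F) ≠ 0 := by
    obtain ⟨p, hp⟩ := CharP.exists F
    have hprime : p.Prime := CharP.char_is_prime F p
    have hfact : Fact p.Prime := ⟨hprime⟩
    obtain ⟨k, -, hk⟩ := FiniteField.card F p
    have hqp : q = p ^ (k : ℕ) := by rw [← hF, hk]
    obtain ⟨t, ht⟩ := hodd
    have hp2 : p ≠ 2 := by
      rintro rfl
      have : 2 ∣ q := by rw [hqp]; exact dvd_pow_self 2 k.ne_zero
      omega
    intro h
    have h2 : ((2 : ℕ) : F) = 0 := by exact_mod_cast h
    rw [CharP.cast_eq_zero_iff F p 2] at h2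
    exact hp2 ((Nat.prime_dvd_prime_iff_eq hprime Nat.prime_two).1 h2)
  have := Fintype.ofFinite (HB (QO (F := F) m) m)
  rw [← QO_coe, Nat.card_congr (equivFrame (QO m) (nondegenerate m h2)),
    Nat.card_congr (frameEquiv m), Nat.card_sigma]
  have hfib : ∀ φ : HB (QO (F := F) m) m, Nat.card (Fib m φ) = 2 := by
    intro φ
    obtain ⟨g, hg, h1, h2'⟩ := exists_isometry_HB (F := F) (V := Unit ⊕ (Fin m ⊕ Fin m) → F)
      (QO (F := F) m) (nondegenerate (F := F) m h2) (stdHB (F := F) m) φ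
    rw [← Nat.card_congr (fibTransport m (stdHB m) φ g hg h1 h2'), Nat.card_congr (fibStd m),
      card_sq_eq_one h2]
  rw [Finset.sum_congr rfl (fun φ _ => hfib φ), Finset.sum_const, Finset.card_univ, smul_eq_mul,
    ← Nat.card_eq_fintype_card]
  have h := card_HB (F := F) 1 (fun j => q ^ (2 * j)) (by
    intro j
    rw [hcardF]
    obtain ⟨t, rfl⟩ : ∃ t, q = t + 1 := ⟨q - 1, by omega⟩
    simp only [Nat.add_sub_cancel]
    ring) m m le_rfl (Unit ⊕ (Fin m ⊕ Fin m) → F) (QO m) (nondegenerate m h2)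
    (by simp [two_mul])
    (by
      rw [← Cfsg.Agent.S0291.result hF hodd m]
      apply Nat.card_congr
      exact Equiv.subtypeEquivRight (fun v => by rw [QO_apply]))
  rw [h, hcardF, prod_eq]
  ring

end Cfsg.Agent.S0286
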