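import Cfsg.Statements.S1012
import Mathlib
import Cfsg.Agent.Lib.Helper4.Simple
import Cfsg.Agent.Lib.Helper4.SylowPrime

set_option autoImplicit false
open Cfsg

namespace Cfsg.Agent.S1012

open Cfsg.Agent.Lib.Helper4.Sylow Cfsg.Agent.Lib.Helper4.Simple Cfsg.Agent.Lib.Helper4.SylowPrime

/-- commuting elements of orders 2 and 3 give an element of order 6 -/
theorem orderOf_mul_eq_six {G : Type*} [Group G] (t z : G) (ht : orderOf t = 2) (hz : orderOf z = 3)
    (hc : Commute t z) : orderOf (t * z) = 6 := by
  rw [hc.orderOf_mul_eq_mul_orderOf_of_coprime (by rw [ht, hz]; decide), ht, hz]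

/-- A group of order 24 containing no element of order 6 is isomorphic to the symmetric group of degree 4. -/
theorem result {G : Type*} [Group G] [Finite G] (h : Nat.card G = 24) (h6 : ∀ g : G, orderOf g ≠ 6) : Nonempty (G ≃* Equiv.Perm (Fin 4)) := by
  classical
  have : Fact (Nat.Prime 3) := ⟨by norm_num⟩
  have : Fact (Nat.Prime 2) := ⟨by norm_num⟩
  have hG' : Nat.card G = 3 ^ 1 * 8 := by rw [h]; norm_num
  have hm : ¬ 3 ∣ 8 := by norm_num
  obtain ⟨P⟩ : Nonempty (Sylow 3 G) := inferInstance
  have hPall : ∀ Q : Sylow 3 G, Nat.card (Q : Subgroup G) = 3 := fun Q => by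
    simpa using card_sylow_of_card_eq hG' hm Q
  have hP := hPall P
  have hdvd : Nat.card (Sylow 3 G) ∣ 8 := card_sylow_dvd_of_card_eq hG' hm
  have hmod : Nat.card (Sylow 3 G) ≡ 1 [MOD 3] := card_sylow_modEq_one 3 G
  have hn : Nat.card (Sylow 3 G) = 1 ∨ Nat.card (Sylow 3 G) = 4 := by
    have hle := Nat.le_of_dvd (by norm_num) hdvd
    unfold Nat.ModEq at hmod
    generalize Nat.card (Sylow 3 G) = n at *
    interval_cases n <;> omega
  -- an element of order 3
  have hnt : Nontrivial (P : Subgroup G) := by
    rw [← Finite.one_lt_card_iff_nontrivial, hP]; norm_num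
  obtain ⟨⟨z, hzP⟩, hz1'⟩ := exists_ne (1 : (P : Subgroup G))
  have hz1 : z ≠ 1 := fun h => hz1' (Subtype.ext h)
  have hzo : orderOf z = 3 := by
    have h1 : orderOf z ∣ 3 := by
      have := Subgroup.orderOf_dvd_natCard (P : Subgroup G) hzP
      rwa [hP] at this
    rcases (Nat.dvd_prime (by norm_num)).mp h1 with h | h
    · exact absurd (orderOf_eq_one_iff.mp h) hz1
    · exact h
  have hPz : (P : Subgroup G) = Subgroup.zpowers z := sylow_eq_zpowers P hP z hz1 hzP
  rcases hn with hn | hn
  · -- normal Sylow 3-subgroup
    exfalso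
    have hsub : Subsingleton (Sylow 3 G) := (Nat.card_eq_one_iff_unique.mp hn).1
    have hnorm : (P : Subgroup G).Normal := P.normal_of_subsingleton
    have hNtop : Subgroup.normalizer ((P : Subgroup G) : Set G) = ⊤ :=
      Subgroup.normalizer_eq_top_iff.mpr hnorm
    have h1 := relIndex_centralizer_normalizer_dvd (P : Subgroup G)
    have hcyc : IsCyclic (P : Subgroup G) := isCyclic_of_prime_card hP
    rw [hcyc.card_mulAut, hP, hNtop, Subgroup.relIndex_top_right] at h1
    have h2 : Nat.totient 3 = 2 := by decide
    rw [h2] at h1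
    set C := Subgroup.centralizer ((P : Subgroup G) : Set G) with hC
    have h3 := C.card_mul_index
    rw [h] at h3
    have h4 : 2 ∣ Nat.card C := by
      have hle := Nat.le_of_dvd (by norm_num) h1
      have hpos : 0 < C.index := Nat.pos_of_ne_zero Subgroup.index_ne_zero_of_finite
      generalize C.index = i at *
      generalize Nat.card C = c at *
      interval_cases i <;> omega
    obtain ⟨t, ht⟩ := exists_prime_orderOf_dvd_card' (G := C) 2 h4
    have ht' : orderOf (t : G) = 2 := by rw [Subgroup.orderOf_coe]; exact ht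
    have hcomm : Commute (t : G) z := by
      have := (Subgroup.mem_centralizer_iff.mp t.2) z hzP
      exact this.symm
    exact h6 _ (orderOf_mul_eq_six _ _ ht' hzo hcomm)
  · -- four Sylow 3-subgroups: the conjugation action
    have hNcard : ∀ Q : Sylow 3 G, Nat.card (Subgroup.normalizer ((Q : Subgroup G) : Set G)) = 6 := by
      intro Q
      have := card_sylow_mul_card_normalizer Q
      rw [hn, h] at this
      omega
    set φ := MulAction.toPermHom G (Sylow 3 G) with hφ
    set K := φ.ker with hK
    have hKN : ∀ Q : Sylow 3 G, K ≤ Subgroup.normalizer ((Q : Subgroup G) : Set G) := by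
      intro Q k hk
      rw [hK, MonoidHom.mem_ker] at hk
      have : k • Q = Q := by
        have := congrArg (fun σ : Equiv.Perm (Sylow 3 G) => σ Q) hk
        exact this
      exact Sylow.smul_eq_iff_mem_normalizer.mp this
    have hK3 : ∀ k ∈ K, orderOf k ≠ 3 := by
      intro k hk hk3
      have hk1 : k ≠ 1 := by
        rintro rfl
        rw [orderOf_one] at hk3
        omega
      have hpg : IsPGroup 3 (Subgroup.zpowers k) := by
        apply IsPGroup.of_card (n := 1)
        rw [Nat.card_zpowers, hk3, pow_one]
      have hkQ : ∀ Q : Sylow 3 G, k ∈ (Q : Subgroup G) := fun Q =>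
        mem_sylow_of_mem_normalizer Q k (hKN Q hk) _ hpg (Subgroup.mem_zpowers k)
      have hall : ∀ Q : Sylow 3 G, Q = P := fun Q =>
        sylow_eq_of_mem Q P (hPall Q) k hk1 (hkQ Q) (hkQ P)
      have : Nat.card (Sylow 3 G) ≤ 1 := by
        rw [Finite.card_le_one_iff_subsingleton]
        exact ⟨fun Q R => (hall Q).trans (hall R).symm⟩
      omega
    have hKsq : ∀ k ∈ K, k ^ 2 = 1 := by
      intro k hk
      have h1 : orderOf k ∣ 6 := by
        have := Subgroup.orderOf_dvd_natCard _ (hKN P hk)
        rwa [hNcard P] at this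
      have h2 := hK3 k hk
      have h3 := h6 k
      have hle := Nat.le_of_dvd (by norm_num) h1
      have h4 : orderOf k ∣ 2 := by
        generalize orderOf k = o at *
        interval_cases o <;> omega
      exact orderOf_dvd_iff_pow_eq_one.mp h4
    have hKpg : IsPGroup 2 K := by
      intro k
      refine ⟨1, ?_⟩
      rw [pow_one]
      apply Subtype.ext
      exact hKsq k k.2
    obtain ⟨j, hj⟩ := (IsPGroup.iff_card (G := K)).mp hKpg
    have hKdvd : Nat.card K ∣ 6 := by
      have := Subgroup.card_dvd_of_le (hKN P)
      rwa [hNcard P] at this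
    have hKcard : Nat.card K = 1 ∨ Nat.card K = 2 := by
      rw [hj] at hKdvd ⊢
      have hle := Nat.le_of_dvd (by norm_num) hKdvd
      have hj2 : j < 3 := by
        by_contra hcon
        push Not at hcon
        have : 2 ^ 3 ≤ 2 ^ j := Nat.pow_le_pow_right (by norm_num) hcon
        omega
      interval_cases j
      · left; rfl
      · right; rfl
      · omega
    have hKbot : K = ⊥ := by
      rcases hKcard with h1 | h2
      · exact Subgroup.card_eq_one.mp h1
      · exfalso
        have hntK : Nontrivial K := by
          rw [← Finite.one_lt_card_iff_nontrivial, h2]; norm_num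
        obtain ⟨⟨k, hkK⟩, hk1'⟩ := exists_ne (1 : K)
        have hk1 : k ≠ 1 := fun h => hk1' (Subtype.ext h)
        have hko : orderOf k = 2 := by
          have h3 : orderOf k ∣ 2 := orderOf_dvd_iff_pow_eq_one.mpr (hKsq k hkK)
          rcases (Nat.dvd_prime (by norm_num)).mp h3 with h | h
          · exact absurd (orderOf_eq_one_iff.mp h) hk1
          · exact h
        -- `k` is central
        have hcen : ∀ g : G, g * k * g⁻¹ = k := by
          intro g
          have hKnorm : K.Normal := MonoidHom.normal_ker φ
          have hmem : g * k * g⁻¹ ∈ K := hKnorm.conj_mem k hkK g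
          have hne1 : g * k * g⁻¹ ≠ 1 := by
            intro h
            apply hk1
            have : k = g⁻¹ * (g * k * g⁻¹) * g := by group
            rw [this, h]; group
          -- `K` has exactly two elements
          have hcard2 : Nat.card K = 2 := h2
          rw [Nat.card_eq_two_iff' (1 : K)] at hcard2
          obtain ⟨y, _, hyuniq⟩ := hcard2
          have e1 := hyuniq ⟨k, hkK⟩ hk1'
          have e2 := hyuniq ⟨g * k * g⁻¹, hmem⟩ (fun h => hne1 (congrArg Subtype.val h))
          exact congrArg Subtype.val (e2.trans e1.symm)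
        have hcomm : Commute k z := by
          have := hcen z⁻¹
          rw [inv_inv] at this
          show k * z = z * k
          calc k * z = z * (z⁻¹ * k * z) := by group
            _ = z * k := by rw [this]
        exact h6 _ (orderOf_mul_eq_six _ _ hko hzo hcomm)
    have hinj : Function.Injective φ := (MonoidHom.ker_eq_bot_iff φ).mp hKbot
    have hfin : Fintype (Sylow 3 G) := Fintype.ofFinite _
    have hcard4 : Fintype.card (Sylow 3 G) = 4 := by
      rw [← Nat.card_eq_fintype_card]; exact hn
    have hbij : Function.Bijective φ := by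
      rw [Nat.bijective_iff_injective_and_card]
      refine ⟨hinj, ?_⟩
      rw [h, Nat.card_perm, hn]
      rfl
    let e1 : G ≃* Equiv.Perm (Sylow 3 G) := MulEquiv.ofBijective φ hbij
    let e2 : Equiv.Perm (Sylow 3 G) ≃* Equiv.Perm (Fin 4) :=
      (Fintype.equivFinOfCardEq hcard4).permCongrHom
    exact ⟨e1.trans e2⟩

end Cfsg.Agent.S1012
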