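import Cfsg.Statements.S0800
import Mathlib

set_option autoImplicit false
open Cfsg

namespace Cfsg.Agent.S0800

open Matrix

section
variable {F : Type*} [Field F]

/-- Cayley–Hamilton for `2 × 2` matrices of determinant one -/
theorem cayley (g : Matrix (Fin 2) (Fin 2) F) (hdet : g.det = 1) :
    g * g + 1 = g.trace • g := by
  rw [Matrix.det_fin_two] at hdet
  ext i j
  fin_cases i <;> fin_cases j <;>
    simp [Matrix.mul_apply, Fin.sum_univ_two, Matrix.trace_fin_two] <;>
    first | ring1 | linear_combination (-1 : F) * hdet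

/-- a unipotent-looking element of order prime to `p` is trivial -/
theorem eq_one_of_det_sub_one (p : ℕ) [Fact p.Prime] [CharP F p]
    (w : Matrix (Fin 2) (Fin 2) F) (hdet : w.det = 1) (h0 : (w - 1).det = 0) (o : ℕ)
    (ho : Nat.Coprime o p) (hwo : w ^ o = 1) : w = 1 := by
  have htr : w.trace = 2 := by
    rw [Matrix.det_fin_two] at hdet h0
    rw [Matrix.trace_fin_two]
    simp at h0
    linear_combination hdet - h0
  have hch := cayley w hdet
  rw [htr] at hch
  have hN : (w - 1) * (w - 1) = 0 := by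
    have : (w - 1) * (w - 1) = w * w + 1 - (2 : F) • w := by
      rw [two_smul]; noncomm_ring
    rw [this, hch, sub_self]
  have hp : 2 ≤ p := (Fact.out : p.Prime).two_le
  have hNp : (w - 1) ^ p = 0 := by
    obtain ⟨k, rfl⟩ : ∃ k, p = k + 2 := ⟨p - 2, by omega⟩
    rw [pow_add, pow_two, hN, mul_zero]
  have hwp : w ^ p = 1 := by
    have h1 : w = (w - 1) + 1 := by abel
    have hcomm : Commute (w - 1) (1 : Matrix (Fin 2) (Fin 2) F) := Commute.one_right _
    rw [h1, add_pow_char_of_commute _ hcomm, hNp, one_pow, zero_add]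
  have h1 : w ^ (Nat.gcd o p) = 1 := pow_gcd_eq_one.2 ⟨hwo, hwp⟩
  rw [ho.gcd_eq_one, pow_one] at h1
  exact h1

end

theorem result {F : Type*} [Field F] [Fintype F] {q : ℕ} (hF : Fintype.card F = q) (p : ℕ) [Fact p.Prime] [CharP F p] (g : Matrix.SpecialLinearGroup (Fin 2) F) (hg : Nat.Coprime (orderOf g) p) : orderOf g ∣ q - 1 ∨ orderOf g ∣ q + 1 := by
  classical
  set G : Matrix (Fin 2) (Fin 2) F := g.1 with hG
  have hdet : G.det = 1 := g.2
  have hch := cayley G hdet
  obtain ⟨k, hprime, hk⟩ := FiniteField.card F p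
  have hq : q = p ^ (k : ℕ) := by rw [← hF, hk]
  have hq1 : 1 ≤ q := by rw [← hF]; exact Fintype.card_pos
  have htq : G.trace ^ q = G.trace := by rw [← hF, FiniteField.pow_card]
  have hfrob : G ^ (2 * q) + 1 = G.trace • G ^ q := by
    have h1 : (G * G + 1) ^ q = (G.trace • G) ^ q := by rw [hch]
    rw [smul_pow, htq] at h1
    rw [← h1, hq, add_pow_char_pow_of_commute p _ (Commute.one_right _), one_pow, ← pow_two,
      ← pow_mul]
  have hGo : G ^ orderOf g = 1 := by
    have := congrArg Subtype.val (pow_orderOf_eq_one g)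
    rw [Matrix.SpecialLinearGroup.coe_pow] at this
    exact this
  have key : (G ^ (q - 1) - 1) * (G ^ (q + 1) - 1) = 0 := by
    have h2 : G ^ (q - 1) * G ^ (q + 1) = G ^ (2 * q) := by
      rw [← pow_add]; congr 1; omega
    have h3 : G ^ (q - 1) + G ^ (q + 1) = G.trace • G ^ q := by
      have : G ^ (q + 1) = G ^ (q - 1) * (G * G) := by
        rw [← pow_two, ← pow_add]; congr 1; omega
      rw [this]
      have h4 : G ^ (q - 1) + G ^ (q - 1) * (G * G) = G ^ (q - 1) * (G * G + 1) := by
        rw [mul_add, mul_one, add_comm]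
      rw [h4, hch, Matrix.mul_smul, ← pow_succ]
      congr 2; omega
    calc (G ^ (q - 1) - 1) * (G ^ (q + 1) - 1)
        = G ^ (q - 1) * G ^ (q + 1) + 1 - (G ^ (q - 1) + G ^ (q + 1)) := by noncomm_ring
      _ = 0 := by rw [h2, h3, hfrob, sub_self]
  by_cases h0 : (G ^ (q - 1) - 1).det = 0
  · left
    have hu : G ^ (q - 1) = 1 := by
      apply eq_one_of_det_sub_one p _ _ h0 (orderOf g) hg
      · rw [← pow_mul, mul_comm, pow_mul, hGo, one_pow]
      · rw [Matrix.det_pow, hdet, one_pow]
    apply orderOf_dvd_of_pow_eq_one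
    apply Subtype.ext
    rw [Matrix.SpecialLinearGroup.coe_pow]
    exact hu
  · right
    have hv : G ^ (q + 1) - 1 = 0 := by
      have := congrArg (fun M => (G ^ (q - 1) - 1)⁻¹ * M) key
      simp only [mul_zero] at this
      rw [← Matrix.mul_assoc, Matrix.nonsing_inv_mul _ (isUnit_iff_ne_zero.2 h0),
        Matrix.one_mul] at this
      exact this
    apply orderOf_dvd_of_pow_eq_one
    apply Subtype.ext
    rw [Matrix.SpecialLinearGroup.coe_pow]
    exact sub_eq_zero.1 hv

end Cfsg.Agent.S0800
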