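import Mathlib
import Cfsg.Statements.S3669
import Cfsg.Agent.Lib.helper3.Ito
import Cfsg.Agent.Lib.helper3.TwoTrans
import Cfsg.Agent.Lib.helper3.Burnside
import Cfsg.Agent.Lib.Helper4.Sylow
import Cfsg.Agent.Lib.Helper4.Codegree
import Cfsg.Agent.H1.Hall
import Cfsg.Agent.S0494

set_option autoImplicit false
open Cfsg

namespace Cfsg.Agent.S3669

open scoped Pointwise
open MulAction

/-- orbit size divides group order -/
theorem card_orbit_dvd {P X : Type*} [Group P] [Finite P] [MulAction P X] (x : X) :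
    Nat.card (orbit P x) ∣ Nat.card P := by
  classical
  have e := MulAction.orbitEquivQuotientStabilizer P x
  rw [Nat.card_congr e, ← Subgroup.index_eq_card]
  exact Subgroup.index_dvd_card _

/-- a group with `p + 1` Sylow `p`-subgroups of order `p` acts 2-transitively on them -/
theorem sylow_two_trans {G : Type*} [Group G] [Finite G] (p : ℕ) [Fact p.Prime]
    (hP : ∀ P : Sylow p G, Nat.card P = p) (hn : Nat.card (Sylow p G) = p + 1) :
    IsMultiplyPretransitive G (Sylow p G) 2 := by
  have hp : p.Prime := Fact.out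
  have key : ∀ P Q Q' : Sylow p G, Q ≠ P → Q' ≠ P → ∃ g : G, g • P = P ∧ g • Q = Q' := by
    intro P Q Q' hQ hQ'
    -- the orbit of Q under P
    have hdvd : Nat.card (orbit (P : Subgroup G) Q) ∣ p := by
      have := card_orbit_dvd (P := (P : Subgroup G)) Q
      rwa [hP P] at this
    have hne1 : Nat.card (orbit (P : Subgroup G) Q) ≠ 1 := by
      intro h1
      have hfix : Q ∈ fixedPoints (P : Subgroup G) (Sylow p G) := by
        intro g
        have hsub := (Nat.card_eq_one_iff_unique.mp h1).1
        have := hsub.elim ⟨g • Q, mem_orbit Q g⟩ ⟨Q, mem_orbit_self Q⟩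
        exact congrArg Subtype.val this
      rw [P.2.sylow_mem_fixedPoints_iff] at hfix
      apply hQ
      symm
      apply Sylow.ext
      exact Subgroup.eq_of_le_of_card_ge hfix (by rw [hP P, hP Q])
    have hcard : Nat.card (orbit (P : Subgroup G) Q) = p := by
      rcases (Nat.dvd_prime hp).mp hdvd with h | h
      · exact absurd h hne1
      · exact h
    have hsub : orbit (P : Subgroup G) Q ⊆ ({P}ᶜ : Set (Sylow p G)) := by
      rintro _ ⟨g, rfl⟩ hmem
      rw [Set.mem_singleton_iff] at hmem
      apply hQ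
      have hgP : (g : G) • P = P := Sylow.smul_eq_iff_mem_normalizer.mpr
        (Subgroup.le_normalizer g.2)
      have : (g : G) • Q = (g : G) • P := by rw [hgP]; exact hmem
      exact smul_left_cancel _ this
    have hcompl : ({P}ᶜ : Set (Sylow p G)).ncard = p := by
      have := Set.ncard_add_ncard_compl ({P} : Set (Sylow p G))
      rw [Set.ncard_singleton, hn] at this
      omega
    have heq : orbit (P : Subgroup G) Q = ({P}ᶜ : Set (Sylow p G)) := by
      apply Set.eq_of_subset_of_ncard_le hsub
      rw [hcompl, ← _root_.Nat.card_coe_set_eq, hcard]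
    have hmem : Q' ∈ orbit (P : Subgroup G) Q := by
      rw [heq]; exact hQ'
    obtain ⟨g, hg⟩ := hmem
    exact ⟨(g : G), Sylow.smul_eq_iff_mem_normalizer.mpr (Subgroup.le_normalizer g.2), hg⟩
  rw [is_two_pretransitive_iff]
  intro a b c d hab hcd
  obtain ⟨g, hg⟩ := exists_smul_eq G a c
  have hgb : g • b ≠ c := by
    rw [← hg]; intro h; exact hab (smul_left_cancel _ h).symm
  obtain ⟨h, hh1, hh2⟩ := key c (g • b) d hgb (Ne.symm hcd)
  exact ⟨h * g, by rw [mul_smul, hg, hh1], by rw [mul_smul, hh2]⟩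


open Cfsg.Agent.Lib.Helper4.Sylow in
theorem five_mem_degreePrimes :
    5 ∈ degreePrimes (alternatingGroup (Fin 5)) := by
  have : Fact (Nat.Prime 5) := ⟨by norm_num⟩
  have hsimple : IsSimpleGroup (alternatingGroup (Fin 5)) := inferInstance
  have hcard : Nat.card (alternatingGroup (Fin 5)) = 5 ^ 1 * 12 := by
    rw [nat_card_alternatingGroup, Nat.card_eq_fintype_card, Fintype.card_fin]
    decide
  have hP : ∀ P : Sylow 5 (alternatingGroup (Fin 5)), Nat.card P = 5 := by
    intro P
    have := card_sylow_of_card_eq hcard (by norm_num) P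
    simpa using this
  have hdvd : Nat.card (Sylow 5 (alternatingGroup (Fin 5))) ∣ 12 :=
    card_sylow_dvd_of_card_eq hcard (by norm_num)
  have hmod : Nat.card (Sylow 5 (alternatingGroup (Fin 5))) ≡ 1 [MOD 5] :=
    card_sylow_modEq_one 5 _
  have hne1 : Nat.card (Sylow 5 (alternatingGroup (Fin 5))) ≠ 1 := by
    obtain ⟨P⟩ : Nonempty (Sylow 5 (alternatingGroup (Fin 5))) := inferInstance
    apply card_sylow_ne_one_of_simple P
    · rw [hP P]; norm_num
    · rw [hP P, hcard]; norm_num
  have hn : Nat.card (Sylow 5 (alternatingGroup (Fin 5))) = 5 + 1 := by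
    have hle : Nat.card (Sylow 5 (alternatingGroup (Fin 5))) ≤ 12 := Nat.le_of_dvd (by norm_num) hdvd
    have hpos : 0 < Nat.card (Sylow 5 (alternatingGroup (Fin 5))) := Nat.card_pos
    unfold Nat.ModEq at hmod
    generalize Nat.card (Sylow 5 (alternatingGroup (Fin 5))) = n at *
    interval_cases n <;> simp_all
  have h2t := sylow_two_trans 5 hP hn
  have hirr := (Cfsg.Agent.Lib.helper3.PermChar.isIrrCharacter_permChar_sub_one_iff
    (G := alternatingGroup (Fin 5)) (Sylow 5 (alternatingGroup (Fin 5))) (by rw [hn]; norm_num)).mpr h2t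
  have hdeg : charDegree (fun g : alternatingGroup (Fin 5) =>
      (Nat.card (MulAction.fixedBy (Sylow 5 (alternatingGroup (Fin 5))) g) : ℂ) - 1) = 5 := by
    apply Cfsg.Agent.Lib.Helper4.Codegree.charDegree_eq
    have : Nat.card (MulAction.fixedBy (Sylow 5 (alternatingGroup (Fin 5))) (1 : alternatingGroup (Fin 5))) = 6 := by
      rw [MulAction.fixedBy_one_eq_univ, Nat.card_congr (Equiv.Set.univ _), hn]
    rw [this]
    norm_num
  exact ⟨by norm_num, 5, ⟨⟨_, hirr⟩, hdeg⟩, dvd_refl 5⟩


open Cfsg.Agent.Lib.Helper4.Sylow in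
/-- if `H ≤ G` has order `5 m` with `m < 5`, then `n_5(G)` divides `[G : H]` (where `|G| = 60`) -/
theorem card_sylow_dvd_index {G : Type*} [Group G] [Finite G] (hcard : Nat.card G = 60)
    (H : Subgroup G) (m : ℕ) (hH : Nat.card H = 5 ^ 1 * m) (hm : m < 5) (hm0 : 0 < m) :
    Nat.card (Sylow 5 G) ∣ H.index := by
  have : Fact (Nat.Prime 5) := ⟨by norm_num⟩
  have hndvd : ¬ 5 ∣ m := fun h => by have := Nat.le_of_dvd hm0 h; omega
  have hdvd : Nat.card (Sylow 5 H) ∣ m := card_sylow_dvd_of_card_eq hH hndvd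
  have hmod : Nat.card (Sylow 5 H) ≡ 1 [MOD 5] := card_sylow_modEq_one 5 _
  have h1 : Nat.card (Sylow 5 H) = 1 := by
    have hle : Nat.card (Sylow 5 H) ≤ m := Nat.le_of_dvd hm0 hdvd
    have hpos : 0 < Nat.card (Sylow 5 H) := Nat.card_pos
    unfold Nat.ModEq at hmod
    omega
  have hsub : Subsingleton (Sylow 5 H) := (Nat.card_eq_one_iff_unique.mp h1).1
  obtain ⟨QH⟩ : Nonempty (Sylow 5 H) := inferInstance
  have hQn : (QH : Subgroup H).Normal := QH.normal_of_subsingleton
  have hQcard : Nat.card (QH : Subgroup H) = 5 := by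
    have := card_sylow_of_card_eq hH hndvd QH
    simpa using this
  set P0 : Subgroup G := (QH : Subgroup H).map H.subtype with hP0
  have hP0card : Nat.card P0 = 5 := by
    rw [hP0, Subgroup.card_map_of_injective H.subtype_injective, hQcard]
  have hHle : H ≤ Subgroup.normalizer (P0 : Set G) := by
    have := Subgroup.le_normalizer_map (H := (QH : Subgroup H)) H.subtype
    rw [Subgroup.normalizer_eq_top, ← MonoidHom.range_eq_map, Subgroup.range_subtype] at this
    exact this
  have hP0p : IsPGroup 5 P0 := IsPGroup.of_card (n := 1) (by rw [hP0card]; norm_num)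
  obtain ⟨S, hS⟩ := hP0p.exists_le_sylow
  have hG60 : Nat.card G = 5 ^ 1 * 12 := by rw [hcard]; norm_num
  have hScard : Nat.card S = 5 := by
    have := card_sylow_of_card_eq hG60 (by norm_num) S
    simpa using this
  have hSeq : P0 = (S : Subgroup G) := Subgroup.eq_of_le_of_card_ge hS (by rw [hP0card]; exact hScard.le)
  rw [S.card_eq_index_normalizer]
  have hHle' : H ≤ Subgroup.normalizer ((S : Subgroup G) : Set G) := by rw [← hSeq]; exact hHle
  exact Subgroup.index_dvd_of_le hHle'

/-- a solvable group of order 60 has a normal Sylow 5-subgroup -/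
theorem card_sylow_five_of_solvable {G : Type*} [Group G] [Finite G] (hcard : Nat.card G = 60)
    [hsol : Group.IsSolvable G] : Nat.card (Sylow 5 G) = 1 := by
  obtain ⟨H1, hH1⟩ := Cfsg.Agent.H1.hall_exists (G := G) 20 3 (by rw [hcard]) (by norm_num)
  obtain ⟨H2, hH2⟩ := Cfsg.Agent.H1.hall_exists (G := G) 15 4 (by rw [hcard]) (by norm_num)
  have d1 := card_sylow_dvd_index hcard H1 4 (by rw [hH1]; norm_num) (by norm_num) (by norm_num)
  have d2 := card_sylow_dvd_index hcard H2 3 (by rw [hH2]; norm_num) (by norm_num) (by norm_num)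
  have i1 : H1.index = 3 := by
    have := Subgroup.card_mul_index H1
    rw [hH1, hcard] at this
    omega
  have i2 : H2.index = 4 := by
    have := Subgroup.card_mul_index H2
    rw [hH2, hcard] at this
    omega
  rw [i1] at d1
  rw [i2] at d2
  have : Nat.card (Sylow 5 G) ∣ Nat.gcd 3 4 := Nat.dvd_gcd d1 d2
  simpa using this


open Cfsg.Agent.Lib.Helper4.Sylow in
/-- a group of order 60 with an irreducible character of degree divisible by 5 is not solvable -/
theorem not_solvable {G : Type*} [Group G] [Finite G] (hcard : Nat.card G = 60)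
    (χ : IrrCharacter G) (h5 : 5 ∣ charDegree (χ : G → ℂ)) : ¬ Group.IsSolvable G := by
  classical
  intro hsol
  have : Fact (Nat.Prime 5) := ⟨by norm_num⟩
  have : Fintype G := Fintype.ofFinite G
  have h1 := card_sylow_five_of_solvable hcard
  have hsub : Subsingleton (Sylow 5 G) := (Nat.card_eq_one_iff_unique.mp h1).1
  obtain ⟨P⟩ : Nonempty (Sylow 5 G) := inferInstance
  have hPn : (P : Subgroup G).Normal := P.normal_of_subsingleton
  have hG60 : Nat.card G = 5 ^ 1 * 12 := by rw [hcard]; norm_num
  have hPcard : Nat.card (P : Subgroup G) = 5 := by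
    have := card_sylow_of_card_eq hG60 (by norm_num) P
    simpa using this
  have hPidx : (P : Subgroup G).index = 12 := index_sylow_of_card_eq hG60 (by norm_num) P
  have hcyc : IsCyclic (P : Subgroup G) := isCyclic_of_prime_card (p := 5) hPcard
  have hcomm : ∀ a ∈ (P : Subgroup G), ∀ b ∈ (P : Subgroup G), a * b = b * a := by
    intro a ha b hb
    have := (IsCyclic.isMulCommutative (α := (P : Subgroup G))).is_comm.comm ⟨a, ha⟩ ⟨b, hb⟩
    exact congrArg Subtype.val this
  obtain ⟨n, ρ, hirr, hchar⟩ := χ.2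
  have hdvd := Cfsg.Agent.Lib.helper3.Irr.ito ρ (P : Subgroup G) hcomm
  rw [Module.finrank_fin_fun, hPidx] at hdvd
  have hdeg : charDegree (χ : G → ℂ) = n := by
    apply Cfsg.Agent.Lib.Helper4.Codegree.charDegree_eq
    rw [← hchar, Representation.char_one, Module.finrank_fin_fun]
  rw [hdeg] at h5
  have : 5 ∣ 12 := h5.trans hdvd
  omega


universe u

theorem solvable_of_card_dvd {X : Type u} [Group X] [Finite X] (h : Nat.card X ∣ 60)
    (hne : Nat.card X ≠ 60) : Group.IsSolvable X := by
  have hmem : Nat.card X ∈ Nat.divisors 60 := Nat.mem_divisors.mpr ⟨h, by norm_num⟩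
  have hdiv : Nat.divisors 60 = {1, 2, 3, 4, 5, 6, 10, 12, 15, 20, 30, 60} := by decide
  rw [hdiv] at hmem
  simp only [Finset.mem_insert, Finset.mem_singleton] at hmem
  have B := fun (p q : ℕ) (hp : p.Prime) (hq : q.Prime) (a b : ℕ) (hc : Nat.card X = p ^ a * q ^ b) =>
    Cfsg.Agent.Lib.helper3.Burnside.isSolvable_of_card_eq p q hp hq (Nat.card X) X rfl ⟨a, b, hc⟩
  rcases hmem with h | h | h | h | h | h | h | h | h | h | h | h
  · exact B 2 3 Nat.prime_two Nat.prime_three 0 0 (by rw [h]; norm_num)
  · exact B 2 3 Nat.prime_two Nat.prime_three 1 0 (by rw [h]; norm_num)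
  · exact B 2 3 Nat.prime_two Nat.prime_three 0 1 (by rw [h]; norm_num)
  · exact B 2 3 Nat.prime_two Nat.prime_three 2 0 (by rw [h]; norm_num)
  · exact B 2 5 Nat.prime_two Nat.prime_five 0 1 (by rw [h]; norm_num)
  · exact B 2 3 Nat.prime_two Nat.prime_three 1 1 (by rw [h]; norm_num)
  · exact B 2 5 Nat.prime_two Nat.prime_five 1 1 (by rw [h]; norm_num)
  · exact B 2 3 Nat.prime_two Nat.prime_three 2 1 (by rw [h]; norm_num)
  · exact B 3 5 Nat.prime_three Nat.prime_five 1 1 (by rw [h]; norm_num)
  · exact B 2 5 Nat.prime_two Nat.prime_five 2 1 (by rw [h]; norm_num)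
  · have hsq : Squarefree (Nat.card X) := by rw [h]; decide +kernel
    have := IsZGroup.of_squarefree hsq
    infer_instance
  · exact absurd h hne

theorem simple_of_not_solvable {G : Type u} [Group G] [Finite G] (hcard : Nat.card G = 60)
    (hns : ¬ Group.IsSolvable G) : IsSimpleGroup G := by
  have hnt : Nontrivial G := by
    rw [← Finite.one_lt_card_iff_nontrivial, hcard]; norm_num
  refine { exists_pair_ne := hnt.exists_pair_ne, eq_bot_or_eq_top_of_normal := ?_ }
  intro N hN
  by_contra hcon
  rw [not_or] at hcon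
  obtain ⟨hbot, htop⟩ := hcon
  apply hns
  have hmul := Subgroup.card_mul_index N
  rw [hcard] at hmul
  have s1 : Group.IsSolvable N := by
    apply solvable_of_card_dvd (Dvd.intro _ hmul)
    intro h
    apply htop
    rw [← Subgroup.card_eq_iff_eq_top, h, hcard]
  have s2 : Group.IsSolvable (G ⧸ N) := by
    apply solvable_of_card_dvd
    · rw [← Subgroup.index_eq_card]; exact Dvd.intro_left _ hmul
    · rw [← Subgroup.index_eq_card]
      intro h
      apply hbot
      rw [h] at hmul
      have : Nat.card N = 1 := by omega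
      exact Subgroup.card_eq_one.mp this
  refine Group.isSolvable_of_ker_le_range N.subtype (QuotientGroup.mk' N) ?_
  rw [QuotientGroup.ker_mk', Subgroup.range_subtype]

theorem result {G : Type*} [Group G] [Finite G] (hcard : Nat.card G = 60)
    (hΓ : Cfsg.degreePrimes G = Cfsg.degreePrimes (alternatingGroup (Fin 5)) ∧ Cfsg.degreeGraph G = Cfsg.degreeGraph (alternatingGroup (Fin 5))) : Nonempty (G ≃* alternatingGroup (Fin 5)) := by
  have h5 : 5 ∈ degreePrimes G := by rw [hΓ.1]; exact five_mem_degreePrimes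
  obtain ⟨_, d, ⟨χ, hχ⟩, hd⟩ := h5
  have hns := not_solvable hcard χ (hχ ▸ hd)
  have := simple_of_not_solvable hcard hns
  exact Cfsg.Agent.S0494.result hcard

end Cfsg.Agent.S3669
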