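import Cfsg.Statements.S2163
import Mathlib

set_option autoImplicit false

namespace Cfsg.Agent.S2163

open Matrix

variable {F : Type*} [Field F]

/-- the nilpotent part `N`. -/
def NN (F : Type*) [Field F] (n ℓ : ℕ) : Matrix (Fin n) (Fin n) F :=
  Matrix.of (fun i j : Fin n => if j.val < ℓ ∧ i.val = j.val + (n - ℓ) then (1 : F) else 0)

theorem NN_apply (n ℓ : ℕ) (i j : Fin n) :
    NN F n ℓ i j = if j.val < ℓ ∧ i.val = j.val + (n - ℓ) then (1 : F) else 0 := rfl

theorem NN_sq {n ℓ : ℕ} (h2 : 2 * ℓ ≤ n) : NN F n ℓ * NN F n ℓ = 0 := by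
  ext i k
  rw [Matrix.mul_apply, Matrix.zero_apply]
  apply Finset.sum_eq_zero
  intro j _
  rw [NN_apply, NN_apply]
  by_cases h : k.val < ℓ ∧ j.val = k.val + (n - ℓ)
  · have : ¬ (j.val < ℓ ∧ i.val = j.val + (n - ℓ)) := by
      rintro ⟨h3, -⟩
      omega
    rw [if_neg this, zero_mul]
  · rw [if_neg h, mul_zero]

theorem NN_lower {n ℓ : ℕ} (h1 : 1 ≤ ℓ) (h2 : 2 * ℓ ≤ n) :
    (1 + NN F n ℓ).BlockTriangular OrderDual.toDual := by
  intro i j hij
  have hij' : i < j := hij
  rw [Matrix.add_apply, Matrix.one_apply_ne (ne_of_lt hij'), zero_add, NN_apply]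
  apply if_neg
  rintro ⟨h3, h4⟩
  have : i.val < j.val := hij'
  omega

theorem det_one_add_NN {n ℓ : ℕ} (h1 : 1 ≤ ℓ) (h2 : 2 * ℓ ≤ n) : (1 + NN F n ℓ).det = 1 := by
  rw [Matrix.det_of_isLowerTriangular _ (NN_lower h1 h2)]
  apply Finset.prod_eq_one
  intro i _
  rw [Matrix.add_apply, Matrix.one_apply_eq, NN_apply, if_neg, add_zero]
  rintro ⟨h3, h4⟩
  omega

/-- the inclusion into the last `ℓ` coordinates. -/
def AA (F : Type*) [Field F] (n ℓ : ℕ) : Matrix (Fin n) (Fin ℓ) F :=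
  Matrix.of (fun (i : Fin n) (k : Fin ℓ) => if i.val = k.val + (n - ℓ) then (1 : F) else 0)

/-- the projection onto the first `ℓ` coordinates. -/
def BB (F : Type*) [Field F] (n ℓ : ℕ) : Matrix (Fin ℓ) (Fin n) F :=
  Matrix.of (fun (k : Fin ℓ) (j : Fin n) => if j.val = k.val then (1 : F) else 0)

theorem NN_eq {n ℓ : ℕ} (h2 : ℓ ≤ n) : NN F n ℓ = AA F n ℓ * BB F n ℓ := by
  ext i j
  rw [Matrix.mul_apply, NN_apply]
  simp only [AA, BB, Matrix.of_apply]
  by_cases h : j.val < ℓ ∧ i.val = j.val + (n - ℓ)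
  · rw [if_pos h, Finset.sum_eq_single ⟨j.val, h.1⟩]
    · rw [if_pos h.2, if_pos rfl, one_mul]
    · intro k _ hk
      have : ¬ (j.val = k.val) := by
        intro h3
        apply hk
        exact Fin.ext h3.symm
      rw [if_neg this, mul_zero]
    · intro h3
      exact absurd (Finset.mem_univ _) h3
  · rw [if_neg h]
    symm
    apply Finset.sum_eq_zero
    intro k _
    by_cases h3 : j.val = k.val
    · have : ¬ (i.val = k.val + (n - ℓ)) := by
        intro h4
        apply h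
        refine ⟨by rw [h3]; exact k.2, by rw [h3]; exact h4⟩
      rw [if_neg this, zero_mul]
    · rw [if_neg h3, mul_zero]

theorem AA_tr_mul (n ℓ : ℕ) (h2 : ℓ ≤ n) : (AA F n ℓ)ᵀ * AA F n ℓ = 1 := by
  ext k k'
  rw [Matrix.mul_apply]
  simp only [AA, Matrix.of_apply, Matrix.transpose_apply]
  have hk : k.val + (n - ℓ) < n := by have := k.2; omega
  rw [Finset.sum_eq_single ⟨k.val + (n - ℓ), hk⟩]
  · rw [if_pos rfl, one_mul]
    by_cases h : k = k'
    · subst h
      rw [Matrix.one_apply_eq, if_pos rfl]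
    · rw [Matrix.one_apply_ne h, if_neg]
      intro h3
      apply h
      apply Fin.ext
      have : k.val + (n - ℓ) = k'.val + (n - ℓ) := h3
      omega
  · intro i _ hi
    have : ¬ (i.val = k.val + (n - ℓ)) := by
      intro h3
      apply hi
      exact Fin.ext h3
    rw [if_neg this, zero_mul]
  · intro h3
    exact absurd (Finset.mem_univ _) h3

theorem BB_mul_tr (n ℓ : ℕ) (h2 : ℓ ≤ n) : BB F n ℓ * (BB F n ℓ)ᵀ = 1 := by
  ext k k'
  rw [Matrix.mul_apply]
  simp only [BB, Matrix.of_apply, Matrix.transpose_apply]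
  have hk : k.val < n := by have := k.2; omega
  rw [Finset.sum_eq_single ⟨k.val, hk⟩]
  · rw [if_pos rfl, one_mul]
    by_cases h : k = k'
    · subst h
      rw [Matrix.one_apply_eq, if_pos rfl]
    · rw [Matrix.one_apply_ne h, if_neg]
      intro h3
      apply h
      apply Fin.ext
      exact h3
  · intro j _ hj
    have : ¬ (j.val = k.val) := by
      intro h3
      apply hj
      exact Fin.ext h3
    rw [if_neg this, zero_mul]
  · intro h3
    exact absurd (Finset.mem_univ _) h3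

theorem rank_NN {n ℓ : ℕ} (h2 : ℓ ≤ n) : (NN F n ℓ).rank = ℓ := by
  apply le_antisymm
  · rw [NN_eq h2]
    calc (AA F n ℓ * BB F n ℓ).rank ≤ (AA F n ℓ).rank := Matrix.rank_mul_le_left _ _
      _ ≤ Fintype.card (Fin ℓ) := Matrix.rank_le_card_width _
      _ = ℓ := Fintype.card_fin ℓ
  · have h1 : (AA F n ℓ)ᵀ * NN F n ℓ * (BB F n ℓ)ᵀ = 1 := by
      rw [NN_eq h2, ← Matrix.mul_assoc, AA_tr_mul n ℓ h2, Matrix.one_mul, BB_mul_tr n ℓ h2]
    calc ℓ = Fintype.card (Fin ℓ) := (Fintype.card_fin ℓ).symm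
      _ = (1 : Matrix (Fin ℓ) (Fin ℓ) F).rank := (Matrix.rank_one).symm
      _ = ((AA F n ℓ)ᵀ * NN F n ℓ * (BB F n ℓ)ᵀ).rank := by rw [h1]
      _ ≤ ((AA F n ℓ)ᵀ * NN F n ℓ).rank := Matrix.rank_mul_le_left _ _
      _ ≤ (NN F n ℓ).rank := Matrix.rank_mul_le_right _ _

/-- Over a finite field of characteristic two and for n ≥ 3: for every ℓ with 1 ≤ ℓ and 2ℓ ≤ n, the matrix j_ℓ that is the identity plus the entries 1 in positions (n − ℓ + i, i) for i < ℓ (an identity block of size ℓ in the lower left corner) lies in SL_n(F), has order 2, and j_ℓ − 1 has rank ℓ. Together with the conjugacy criterion by rank, these matrices represent the conjugacy classes of involutions of SL_n(F). -/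
theorem result {F : Type*} [Field F] [Fintype F] [CharP F 2] {n : ℕ} (hn : 3 ≤ n) (ℓ : ℕ) (h1 : 1 ≤ ℓ) (h2 : 2 * ℓ ≤ n) :
    ∃ a : Matrix.SpecialLinearGroup (Fin n) F, (a : Matrix (Fin n) (Fin n) F) = 1 + Matrix.of (fun i j : Fin n => if j.val < ℓ ∧ i.val = j.val + (n - ℓ) then (1 : F) else 0) ∧ orderOf a = 2 ∧ ((a : Matrix (Fin n) (Fin n) F) - 1).rank = ℓ := by
  have hl : ℓ ≤ n := by omega
  set a : Matrix.SpecialLinearGroup (Fin n) F := ⟨1 + NN F n ℓ, det_one_add_NN h1 h2⟩ with ha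
  refine ⟨a, rfl, ?_, ?_⟩
  · apply orderOf_eq_prime
    · rw [pow_two]
      apply Subtype.ext
      change (1 + NN F n ℓ) * (1 + NN F n ℓ) = 1
      have hNN : NN F n ℓ + NN F n ℓ = 0 := by
        ext i j
        exact CharTwo.add_self_eq_zero _
      rw [Matrix.add_mul, Matrix.mul_add, Matrix.mul_add, NN_sq h2, Matrix.one_mul, Matrix.mul_one,
        add_zero, add_assoc, Matrix.one_mul, hNN, add_zero]
    · intro h
      have h3 : (1 + NN F n ℓ : Matrix (Fin n) (Fin n) F) = 1 := congrArg Subtype.val h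
      have h4 : NN F n ℓ = 0 := by
        have := congrArg (fun M => M - 1) h3
        simpa using this
      have h5 := rank_NN (F := F) hl
      rw [h4, Matrix.rank_zero] at h5
      omega
  · change ((1 + NN F n ℓ : Matrix (Fin n) (Fin n) F) - 1).rank = ℓ
    rw [add_sub_cancel_left]
    exact rank_NN hl

end Cfsg.Agent.S2163
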