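import Mathlib
import Cfsg.Statements.S2573
import Cfsg.Agent.H9.RegNil

set_option autoImplicit false

namespace Cfsg.Agent.S2573

open Module

/-- matrix version of the hypotheses: the nullity of a corank-one matrix is at most one. -/
theorem finrank_ker_le_one {F : Type*} [Field F] {n : ℕ} (N : Matrix (Fin n) (Fin n) F) (hreg : N.rank = n - 1) :
    finrank F (LinearMap.ker N.mulVecLin) ≤ 1 := by
  have h := LinearMap.finrank_range_add_finrank_ker N.mulVecLin
  rw [finrank_fintype_fun_eq_card, Fintype.card_fin] at h
  have h2 : finrank F (LinearMap.range N.mulVecLin) = n - 1 := hreg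
  omega

theorem mulVecLin_pow {F : Type*} [Field F] {n : ℕ} (N : Matrix (Fin n) (Fin n) F) (k : ℕ) :
    (N ^ k).mulVecLin = N.mulVecLin ^ k := by
  exact Matrix.toLin'_pow N k

/-- The invariant subspaces of a regular unipotent matrix form a chain: over a finite field, if u is an n × n matrix with (u − 1)^n = 0 and rank(u − 1) = n − 1, then every subspace W of F^n with u W ⊆ W is the kernel of (u − 1)^(dim W); so u has at most one invariant subspace of each dimension. -/
theorem result {F : Type*} [Field F] [Finite F] {n : ℕ} (u : Matrix (Fin n) (Fin n) F) (hnil : (u - 1) ^ n = 0) (hreg : (u - 1).rank = n - 1) (W : Submodule F (Fin n → F)) (hW : ∀ v ∈ W, u.mulVec v ∈ W) : W = LinearMap.ker (Matrix.mulVecLin ((u - 1) ^ Module.finrank F W)) := by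
  rw [mulVecLin_pow]
  have hV : finrank F (Fin n → F) = n := by rw [finrank_fintype_fun_eq_card, Fintype.card_fin]
  apply Cfsg.Agent.H9.RegNil.invariant_eq_ker_pow hV (u - 1).mulVecLin
  · rw [← mulVecLin_pow, hnil]; simp
  · exact finrank_ker_le_one _ hreg
  · intro v hv
    rw [Matrix.mulVecLin_apply, Matrix.sub_mulVec, Matrix.one_mulVec]
    exact W.sub_mem (hW v hv) hv

end Cfsg.Agent.S2573
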