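import Mathlib
import Cfsg.Statements.S5631
import Cfsg.Agent.Lib.Helper5.SLn

set_option autoImplicit false
open Cfsg

namespace Cfsg.Agent.S5631


section Part0
open Cfsg Matrix

section Tv

variable {n : ℕ} {F : Type*} [Field F]

/-- the matrix of the transvection `x ↦ x + (f ⬝ x) v` -/
def tvM (v f : Fin n → F) : Matrix (Fin n) (Fin n) F := 1 + Matrix.vecMulVec v f

lemma tvM_mulVec (v f x : Fin n → F) : tvM v f *ᵥ x = x + (f ⬝ᵥ x) • v := by
  rw [tvM, Matrix.add_mulVec, Matrix.one_mulVec, Matrix.vecMulVec_mulVec]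
  congr 1
  ext i
  simp [mul_comm]

lemma tvM_mul (v v' f : Fin n → F) (h : f ⬝ᵥ v' = 0) : tvM v f * tvM v' f = tvM (v + v') f := by
  rw [tvM, tvM, tvM, add_mul, mul_add, mul_add, one_mul, one_mul, mul_one,
    Matrix.vecMulVec_mul_vecMulVec, h]
  rw [Matrix.add_vecMulVec]
  simp only [zero_smul, Matrix.vecMulVec_zero, add_zero]
  abel

lemma tvM_zero (f : Fin n → F) : tvM (0 : Fin n → F) f = 1 := by
  rw [tvM, Matrix.zero_vecMulVec, add_zero]

/-- the transvection as an element of `GL` -/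
def tv (v f : Fin n → F) (h : f ⬝ᵥ v = 0) : GL (Fin n) F where
  val := tvM v f
  inv := tvM (-v) f
  val_inv := by
    rw [tvM_mul _ _ _ (by rw [dotProduct_neg, h, neg_zero]), add_neg_cancel, tvM_zero]
  inv_val := by
    rw [tvM_mul _ _ _ h, neg_add_cancel, tvM_zero]

lemma tv_coe (v f : Fin n → F) (h : f ⬝ᵥ v = 0) : ((tv v f h : GL (Fin n) F) : Matrix (Fin n) (Fin n) F) = tvM v f := rfl

lemma det_tvM (v f : Fin n → F) (h : f ⬝ᵥ v = 0) : (tvM v f).det = 1 := by
  rw [tvM, Matrix.vecMulVec_eq (Fin 1), Matrix.det_one_add_replicateCol_mul_replicateRow, h, add_zero]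

lemma tv_mem_specialLinear (v f : Fin n → F) (h : f ⬝ᵥ v = 0) :
    tv v f h ∈ Cfsg.Geo.specialLinear (Fin n) F := by
  rw [Cfsg.Geo.specialLinear, MonoidHom.mem_ker]
  apply Units.ext
  rw [Matrix.GeneralLinearGroup.val_det_apply, tv_coe, det_tvM v f h]
  rfl

/-- conjugation of a transvection -/
lemma conj_tvM (g : GL (Fin n) F) (v f : Fin n → F) :
    (g : Matrix (Fin n) (Fin n) F) * tvM v f * ((g⁻¹ : GL (Fin n) F) : Matrix (Fin n) (Fin n) F) =
      tvM ((g : Matrix (Fin n) (Fin n) F) *ᵥ v)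
        (f ᵥ* ((g⁻¹ : GL (Fin n) F) : Matrix (Fin n) (Fin n) F)) := by
  rw [tvM, tvM, mul_add, add_mul, mul_one, Matrix.mul_vecMulVec, Matrix.vecMulVec_mul]
  congr 1
  rw [← Units.val_mul, mul_inv_cancel]
  rfl

lemma tvM_smul (c : F) (v f : Fin n → F) : tvM (c • v) f = tvM v (c • f) := by
  rw [tvM, tvM]
  congr 1
  ext i j
  simp only [Matrix.vecMulVec_apply, Pi.smul_apply, smul_eq_mul]
  ring

end Tv

end Part0

section Part1
open Cfsg Matrix

section Main

variable {n : ℕ} {F : Type*} [Field F]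

/-- a functional (as a vector) separating a vector from a subspace -/
lemma exists_functional (U : Submodule F (Fin n → F)) (x : Fin n → F) (hx : x ∉ U) :
    ∃ f : Fin n → F, f ⬝ᵥ x = 1 ∧ ∀ u ∈ U, f ⬝ᵥ u = 0 := by
  obtain ⟨φ, hφ, hU⟩ := Submodule.exists_dual_map_eq_bot_of_notMem hx inferInstance
  set f := (dotProductEquiv F (Fin n)).symm φ with hfdef
  have hf : ∀ y, f ⬝ᵥ y = φ y := fun y => by
    have h1 := LinearEquiv.apply_symm_apply (dotProductEquiv F (Fin n)) φ
    have h2 := congrArg (fun ψ : Module.Dual F (Fin n → F) => ψ y) h1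
    exact h2
  refine ⟨(φ x)⁻¹ • f, ?_, ?_⟩
  · rw [smul_dotProduct, hf, smul_eq_mul, inv_mul_cancel₀ hφ]
  · intro u hu
    rw [smul_dotProduct, hf]
    have : φ u ∈ U.map φ := ⟨u, hu, rfl⟩
    rw [hU] at this
    rw [(Submodule.mem_bot F).1 this, smul_zero]

lemma tv_mem_of_eq_zero (M : Subgroup (GL (Fin n) F)) (v f : Fin n → F) (h : f ⬝ᵥ v = 0)
    (hv : v = 0) : tv v f h ∈ M := by
  subst hv
  have : tv 0 f h = 1 := Units.ext (tvM_zero f)
  rw [this]; exact M.one_mem

/-- conjugating a transvection -/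
lemma conj_tv (g : GL (Fin n) F) (v f : Fin n → F)
    (h : f ⬝ᵥ ((g : Matrix (Fin n) (Fin n) F) *ᵥ v) = 0) :
    ∃ h' : (f ᵥ* (g : Matrix (Fin n) (Fin n) F)) ⬝ᵥ v = 0,
      g * tv v (f ᵥ* (g : Matrix (Fin n) (Fin n) F)) h' * g⁻¹ =
        tv ((g : Matrix (Fin n) (Fin n) F) *ᵥ v) f h := by
  have h' : (f ᵥ* (g : Matrix (Fin n) (Fin n) F)) ⬝ᵥ v = 0 := by
    rw [← Matrix.dotProduct_mulVec, h]
  refine ⟨h', ?_⟩
  apply Units.ext
  rw [Units.val_mul, Units.val_mul, tv_coe, conj_tvM, tv_coe]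
  congr 1
  rw [Matrix.vecMul_vecMul, ← Units.val_mul, mul_inv_cancel, Units.val_one, Matrix.vecMul_one]

/-- the set of centres all of whose transvections lie in `M` is a subspace -/
def SS (M : Subgroup (GL (Fin n) F)) : Submodule F (Fin n → F) where
  carrier := {v | ∀ f (h : f ⬝ᵥ v = 0), tv v f h ∈ M}
  zero_mem' := by
    intro f h
    exact tv_mem_of_eq_zero M 0 f h rfl
  smul_mem' := by
    intro c v hv f h
    have h' : (c • f) ⬝ᵥ v = 0 := by
      rw [smul_dotProduct, ← dotProduct_smul]; exact h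
    have : tv (c • v) f h = tv v (c • f) h' := Units.ext (tvM_smul c v f)
    rw [this]; exact hv _ h'
  add_mem' := by
    intro v w hv hw f h
    by_cases h0 : f ⬝ᵥ v = 0
    · have hw0 : f ⬝ᵥ w = 0 := by
        rw [dotProduct_add, h0, zero_add] at h; exact h
      have : tv (v + w) f h = tv v f h0 * tv w f hw0 := Units.ext (tvM_mul v w f hw0).symm
      rw [this]; exact M.mul_mem (hv _ _) (hw _ _)
    · by_cases hvw : v ∈ Submodule.span F {w}
      · obtain ⟨c, rfl⟩ := Submodule.mem_span_singleton.1 hvw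
        apply tv_mem_of_eq_zero
        rw [dotProduct_smul, smul_eq_mul] at h0
        have hw0 : f ⬝ᵥ w ≠ 0 := fun h' => h0 (by rw [h', mul_zero])
        rw [dotProduct_add, dotProduct_smul, smul_eq_mul] at h
        have hc : c + 1 = 0 := by
          have : (c + 1) * (f ⬝ᵥ w) = 0 := by linear_combination h
          exact (mul_eq_zero.1 this).resolve_right hw0
        have : c • w + w = (c + 1) • w := by rw [add_smul, one_smul]
        rw [this, hc, zero_smul]
      · obtain ⟨ψ, hψv, hψw⟩ := exists_functional (Submodule.span F {w}) v hvw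
        have hψw' : ψ ⬝ᵥ w = 0 := hψw w (Submodule.mem_span_singleton_self w)
        have hgM : tv w ψ hψw' ∈ M := hw ψ hψw'
        have hgv : ((tv w ψ hψw' : GL (Fin n) F) : Matrix (Fin n) (Fin n) F) *ᵥ v = v + w := by
          rw [tv_coe, tvM_mulVec, hψv, one_smul]
        have h2 : f ⬝ᵥ (((tv w ψ hψw' : GL (Fin n) F) : Matrix (Fin n) (Fin n) F) *ᵥ v) = 0 := by
          rw [hgv]; exact h
        obtain ⟨h', e⟩ := conj_tv (tv w ψ hψw') v f h2
        have h3 : tv w ψ hψw' * tv v _ h' * (tv w ψ hψw')⁻¹ ∈ M :=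
          M.mul_mem (M.mul_mem hgM (hv _ h')) (M.inv_mem hgM)
        rw [e] at h3
        have e2 : tv (((tv w ψ hψw' : GL (Fin n) F) : Matrix (Fin n) (Fin n) F) *ᵥ v) f h2 =
            tv (v + w) f h := by
          apply Units.ext
          show tvM _ f = tvM (v + w) f
          rw [hgv]
        rw [← e2]; exact h3

lemma mem_SS (M : Subgroup (GL (Fin n) F)) (v : Fin n → F) :
    v ∈ SS M ↔ ∀ f (h : f ⬝ᵥ v = 0), tv v f h ∈ M := Iff.rfl

/-- `SS M` is `M`-invariant -/
lemma mulVec_mem_SS (M : Subgroup (GL (Fin n) F)) (g : GL (Fin n) F) (hg : g ∈ M)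
    (v : Fin n → F) (hv : v ∈ SS M) : (g : Matrix (Fin n) (Fin n) F) *ᵥ v ∈ SS M := by
  intro f h
  obtain ⟨h', e⟩ := conj_tv g v f h
  rw [← e]
  exact M.mul_mem (M.mul_mem hg (hv _ h')) (M.inv_mem hg)

lemma mem_stab_iff (W : Submodule F (Fin n → F)) (g : GL (Fin n) F) :
    g ∈ Cfsg.Geo.subspaceStabilizer W ↔
      ∀ v, v ∈ W ↔ (g : Matrix (Fin n) (Fin n) F) *ᵥ v ∈ W := Iff.rfl

/-- transvections with centre in `W` stabilize `W` -/
lemma tv_mem_stab_of_mem (W : Submodule F (Fin n → F)) (v f : Fin n → F) (h : f ⬝ᵥ v = 0)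
    (hv : v ∈ W) : tv v f h ∈ Cfsg.Geo.subspaceStabilizer W := by
  rw [mem_stab_iff]
  intro x
  rw [tv_coe, tvM_mulVec]
  exact (Submodule.add_mem_iff_left W (W.smul_mem _ hv)).symm

/-- transvections with functional vanishing on `W` stabilize `W` -/
lemma tv_mem_stab_of_ann (W : Submodule F (Fin n → F)) (v f : Fin n → F) (h : f ⬝ᵥ v = 0)
    (hf : ∀ w ∈ W, f ⬝ᵥ w = 0) : tv v f h ∈ Cfsg.Geo.subspaceStabilizer W := by
  rw [mem_stab_iff]
  intro x
  rw [tv_coe, tvM_mulVec]
  constructor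
  · intro hx
    rw [hf x hx, zero_smul, add_zero]; exact hx
  · intro hx
    have h1 := hf _ hx
    rw [dotProduct_add, dotProduct_smul, h, smul_zero, add_zero] at h1
    rw [h1, zero_smul, add_zero] at hx
    exact hx

lemma le_SS (W : Submodule F (Fin n → F)) (M : Subgroup (GL (Fin n) F))
    (hPM : Cfsg.Geo.subspaceStabilizer W ⊓ Cfsg.Geo.specialLinear (Fin n) F ≤ M) : W ≤ SS M := by
  intro v hv f h
  exact hPM ⟨tv_mem_stab_of_mem W v f h hv, tv_mem_specialLinear v f h⟩

lemma SS_eq_top (W : Submodule F (Fin n → F)) (M : Subgroup (GL (Fin n) F))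
    (hPM : Cfsg.Geo.subspaceStabilizer W ⊓ Cfsg.Geo.specialLinear (Fin n) F ≤ M)
    (s : Fin n → F) (hs : s ∈ SS M) (hsW : s ∉ W) : SS M = ⊤ := by
  obtain ⟨φ, hφs, hφW⟩ := exists_functional W s hsW
  rw [eq_top_iff]
  intro x _
  set u := x - (φ ⬝ᵥ x) • s with hu
  have hφu : φ ⬝ᵥ u = 0 := by
    rw [hu, dotProduct_sub, dotProduct_smul, hφs, smul_eq_mul, mul_one, sub_self]
  have h1 : tv u φ hφu ∈ M := hPM ⟨tv_mem_stab_of_ann W u φ hφu hφW, tv_mem_specialLinear u φ hφu⟩
  have h2 := mulVec_mem_SS M _ h1 s hs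
  rw [tv_coe, tvM_mulVec, hφs, one_smul] at h2
  have h3 : u ∈ SS M := by
    have := (SS M).sub_mem h2 hs
    rwa [add_sub_cancel_left] at this
  have h4 : x = u + (φ ⬝ᵥ x) • s := by rw [hu]; abel
  rw [h4]
  exact (SS M).add_mem h3 ((SS M).smul_mem _ hs)

end Main

end Part1

section Part2
open Cfsg Matrix

section Gen

variable {n : ℕ} {F : Type*} [Field F]

lemma single_eq_vecMulVec (i j : Fin n) (c : F) :
    Matrix.single i j c = Matrix.vecMulVec (Pi.single i c) (Pi.single j (1 : F)) := by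
  ext a b
  rw [Matrix.vecMulVec_apply, Matrix.single_apply, Pi.single_apply, Pi.single_apply]
  by_cases ha : a = i <;> by_cases hb : b = j
  · subst ha; subst hb; simp
  · subst ha; simp [hb, Ne.symm hb]
  · subst hb; simp [ha, Ne.symm ha]
  · simp [ha, hb, Ne.symm ha]

/-- a subgroup of `GL` containing all transvections contains `SL` -/
lemma specialLinear_le [Nontrivial (Fin n)] (M : Subgroup (GL (Fin n) F))
    (hM : ∀ (v f : Fin n → F) (h : f ⬝ᵥ v = 0), tv v f h ∈ M) :
    Cfsg.Geo.specialLinear (Fin n) F ≤ M := by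
  have htr : ∀ (i j : Fin n) (hij : i ≠ j) (c : F),
      Matrix.SpecialLinearGroup.toGL (Matrix.SpecialLinearGroup.transvection hij c) ∈ M := by
    intro i j hij c
    have h0 : (Pi.single j (1 : F) : Fin n → F) ⬝ᵥ Pi.single i c = 0 := by
      rw [single_dotProduct, Pi.single_apply, if_neg (Ne.symm hij), mul_zero]
    have : Matrix.SpecialLinearGroup.toGL (Matrix.SpecialLinearGroup.transvection hij c) =
        tv (Pi.single i c) (Pi.single j 1) h0 := by
      apply Units.ext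
      show (Matrix.SpecialLinearGroup.transvection hij c).1 = tvM _ _
      rw [Matrix.SpecialLinearGroup.transvection_coe, tvM, single_eq_vecMulVec]
    rw [this]; exact hM _ _ _
  have hall : ∀ A : Matrix.SpecialLinearGroup (Fin n) F, Matrix.SpecialLinearGroup.toGL A ∈ M := by
    intro A
    refine Matrix.SpecialLinearGroup.diagonal_transvection_induction'
      (fun A => Matrix.SpecialLinearGroup.toGL A ∈ M) A ?_ htr
      (fun A B hA hB => by rw [map_mul]; exact M.mul_mem hA hB)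
    intro i j hij c hc
    rw [Cfsg.Agent.Lib.Helper5.SLn.diag2n_decompose hij c hc]
    simp only [map_mul]
    exact mul_mem (mul_mem (mul_mem (mul_mem (mul_mem (htr _ _ _ _) (htr _ _ _ _)) (htr _ _ _ _))
      (htr _ _ _ _)) (htr _ _ _ _)) (htr _ _ _ _)
  intro g hg
  rw [Cfsg.Geo.specialLinear, MonoidHom.mem_ker] at hg
  have hdet : (g : Matrix (Fin n) (Fin n) F).det = 1 := by
    have := congrArg Units.val hg
    rwa [Matrix.GeneralLinearGroup.val_det_apply] at this
  have : g = Matrix.SpecialLinearGroup.toGL ⟨(g : Matrix (Fin n) (Fin n) F), hdet⟩ := Units.ext rfl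
  rw [this]
  exact hall _

end Gen

theorem result {F : Type*} [Field F] [Fintype F] (n : ℕ) (hn : 13 ≤ n) (W : Submodule F (Fin n → F)) (hW0 : W ≠ ⊥) (hW1 : W ≠ ⊤) : Cfsg.Geo.IsMaximalIn (Cfsg.Geo.specialLinear (Fin n) F) (Cfsg.Geo.subspaceStabilizer W ⊓ Cfsg.Geo.specialLinear (Fin n) F) := by
  haveI : Nontrivial (Fin n) := Fin.nontrivial_iff_two_le.2 (by omega)
  refine ⟨lt_of_le_of_ne inf_le_right ?_, ?_⟩
  · intro heq
    obtain ⟨w, hwW, hw0⟩ := Submodule.exists_mem_ne_zero_of_ne_bot hW0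
    obtain ⟨y, hy⟩ : ∃ y, y ∉ W := by
      by_contra hcon
      apply hW1
      rw [eq_top_iff]
      intro x _
      by_contra hx
      exact hcon ⟨x, hx⟩
    obtain ⟨φ, hφw, -⟩ := exists_functional (⊥ : Submodule F (Fin n → F)) w
      (by rw [Submodule.mem_bot]; exact hw0)
    set y' := y - (φ ⬝ᵥ y) • w with hy'
    have hφy' : φ ⬝ᵥ y' = 0 := by
      rw [hy', dotProduct_sub, dotProduct_smul, hφw, smul_eq_mul, mul_one, sub_self]
    have hy'W : y' ∉ W := by
      intro h
      apply hy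
      have : y = y' + (φ ⬝ᵥ y) • w := by rw [hy']; abel
      rw [this]
      exact W.add_mem h (W.smul_mem _ hwW)
    have h1 : tv y' φ hφy' ∈ Cfsg.Geo.subspaceStabilizer W ⊓ Cfsg.Geo.specialLinear (Fin n) F := by
      rw [heq]; exact tv_mem_specialLinear _ _ _
    have h2 := ((mem_stab_iff W _).1 h1.1 w).1 hwW
    rw [tv_coe, tvM_mulVec, hφw, one_smul] at h2
    exact hy'W ((Submodule.add_mem_iff_right W hwW).1 h2)
  · intro M hPM hMS
    by_cases hMP : M ≤ Cfsg.Geo.subspaceStabilizer W ⊓ Cfsg.Geo.specialLinear (Fin n) F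
    · left; exact le_antisymm hMP hPM
    · right
      apply le_antisymm hMS
      rw [SetLike.not_le_iff_exists] at hMP
      obtain ⟨h, hhM, hhP⟩ := hMP
      have hhS : h ∉ Cfsg.Geo.subspaceStabilizer W := fun hh => hhP ⟨hh, hMS hhM⟩
      -- find h' ∈ M and w ∈ W with h' w ∉ W
      have hex : ∃ h' ∈ M, ∃ w ∈ W, (h' : Matrix (Fin n) (Fin n) F) *ᵥ w ∉ W := by
        rw [mem_stab_iff] at hhS
        rw [not_forall] at hhS
        obtain ⟨v, hv⟩ := hhS
        by_cases hvW : v ∈ W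
        · refine ⟨h, hhM, v, hvW, ?_⟩
          intro h'
          exact hv ⟨fun _ => h', fun _ => hvW⟩
        · have hhv : (h : Matrix (Fin n) (Fin n) F) *ᵥ v ∈ W := by
            by_contra h'
            exact hv ⟨fun h'' => absurd h'' hvW, fun h'' => absurd h'' h'⟩
          refine ⟨h⁻¹, M.inv_mem hhM, _, hhv, ?_⟩
          rw [Matrix.mulVec_mulVec, ← Units.val_mul, inv_mul_cancel, Units.val_one,
            Matrix.one_mulVec]
          exact hvW
      obtain ⟨h', hh'M, w, hwW, hw'⟩ := hex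
      have hs : (h' : Matrix (Fin n) (Fin n) F) *ᵥ w ∈ SS M :=
        mulVec_mem_SS M h' hh'M w (le_SS W M hPM hwW)
      have htop := SS_eq_top W M hPM _ hs hw'
      apply specialLinear_le
      intro v f hvf
      have : v ∈ SS M := by rw [htop]; trivial
      exact this f hvf

end Part2

end Cfsg.Agent.S5631
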