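import Mathlib
import Cfsg.Statements.S5642
import Cfsg.Agent.S5631

set_option autoImplicit false
open Cfsg

namespace Cfsg.Agent.S5642


section Part0
open Cfsg Matrix
open Cfsg.Agent.S5631

section Form

variable {n : ℕ} {F : Type*} [Field F] {f : (Fin n → F) → (Fin n → F) → F}

lemma f_zero_left (hf : Cfsg.Geo.IsSymplecticForm f) (v : Fin n → F) : f 0 v = 0 := by
  have := hf.bilinear.smul_left 0 0 v
  rwa [zero_smul, zero_mul] at this

lemma f_zero_right (hf : Cfsg.Geo.IsSymplecticForm f) (v : Fin n → F) : f v 0 = 0 := by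
  have := hf.bilinear.smul_right 0 v 0
  rwa [zero_smul, zero_mul] at this

lemma f_sub_right (hf : Cfsg.Geo.IsSymplecticForm f) (v x y : Fin n → F) :
    f v (x - y) = f v x - f v y := by
  have h1 := hf.bilinear.add_right v (x - y) y
  rw [sub_add_cancel] at h1
  rw [h1]; ring

lemma f_sub_left (hf : Cfsg.Geo.IsSymplecticForm f) (x y v : Fin n → F) :
    f (x - y) v = f x v - f y v := by
  have h1 := hf.bilinear.add_left (x - y) y v
  rw [sub_add_cancel] at h1
  rw [h1]; ring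

/-- `x ↦ f x y` as a linear map -/
def leftLin (hf : Cfsg.Geo.IsSymplecticForm f) (y : Fin n → F) : (Fin n → F) →ₗ[F] F where
  toFun x := f x y
  map_add' x x' := hf.bilinear.add_left x x' y
  map_smul' c x := by rw [hf.bilinear.smul_left]; rfl

/-- the vector representing `x ↦ f x y` -/
def flat (hf : Cfsg.Geo.IsSymplecticForm f) : (Fin n → F) →ₗ[F] (Fin n → F) where
  toFun y := fun i => f (Pi.single i 1) y
  map_add' y y' := by
    funext i
    exact hf.bilinear.add_right _ y y'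
  map_smul' c y := by
    funext i
    rw [hf.bilinear.smul_right]; rfl

lemma flat_dot (hf : Cfsg.Geo.IsSymplecticForm f) (x y : Fin n → F) :
    flat hf y ⬝ᵥ x = f x y := by
  have h1 := LinearMap.pi_apply_eq_sum_univ (leftLin hf y) x
  have h2 : f x y = leftLin hf y x := rfl
  rw [h2, h1, dotProduct]
  apply Finset.sum_congr rfl
  intro i _
  rw [smul_eq_mul, mul_comm]
  congr 1
  show f (Pi.single i 1) y = f _ y
  congr 1
  funext j
  rw [Pi.single_apply]
  by_cases h : j = i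
  · subst h; simp
  · rw [if_neg h, if_neg (Ne.symm h)]

lemma flat_injective (hf : Cfsg.Geo.IsSymplecticForm f) : Function.Injective (flat hf) := by
  rw [← LinearMap.ker_eq_bot, LinearMap.ker_eq_bot']
  intro y hy
  by_contra hne
  obtain ⟨⟨x, hx⟩, -⟩ := hf.nondegenerate y hne
  apply hx
  rw [← flat_dot hf, hy, zero_dotProduct]

lemma flat_surjective (hf : Cfsg.Geo.IsSymplecticForm f) : Function.Surjective (flat hf) :=
  LinearMap.injective_iff_surjective.1 (flat_injective hf)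

lemma flat_dot_self (hf : Cfsg.Geo.IsSymplecticForm f) (w : Fin n → F) (c : F) :
    (c • flat hf w) ⬝ᵥ w = 0 := by
  rw [smul_dotProduct, flat_dot, hf.alternating, smul_zero]

/-- the symplectic transvection `x ↦ x + c f(x,w) w` -/
def st (hf : Cfsg.Geo.IsSymplecticForm f) (w : Fin n → F) (c : F) : GL (Fin n) F :=
  tv w (c • flat hf w) (flat_dot_self hf w c)

lemma st_mulVec (hf : Cfsg.Geo.IsSymplecticForm f) (w : Fin n → F) (c : F) (x : Fin n → F) :
    ((st hf w c : GL (Fin n) F) : Matrix (Fin n) (Fin n) F) *ᵥ x = x + (c * f x w) • w := by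
  rw [st, tv_coe, tvM_mulVec, smul_dotProduct, flat_dot, smul_eq_mul]

lemma st_isometry (hf : Cfsg.Geo.IsSymplecticForm f) (w : Fin n → F) (c : F) (x y : Fin n → F) :
    f (((st hf w c : GL (Fin n) F) : Matrix (Fin n) (Fin n) F) *ᵥ x)
      (((st hf w c : GL (Fin n) F) : Matrix (Fin n) (Fin n) F) *ᵥ y) = f x y := by
  rw [st_mulVec, st_mulVec, hf.bilinear.add_left, hf.bilinear.add_right, hf.bilinear.add_right,
    hf.bilinear.smul_left, hf.bilinear.smul_left, hf.bilinear.smul_right, hf.bilinear.smul_right,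
    hf.alternating, hf.skew w y]
  ring

lemma st_mem (hf : Cfsg.Geo.IsSymplecticForm f) (w : Fin n → F) (c : F) :
    st hf w c ∈ Cfsg.Geo.similarityGroup f ⊓ Cfsg.Geo.specialLinear (Fin n) F := by
  refine ⟨⟨1, fun u v => ?_⟩, tv_mem_specialLinear _ _ _⟩
  rw [st_isometry hf, Units.val_one, one_mul]

end Form

end Part0

section Part1
open Cfsg Matrix
open Cfsg.Agent.S5631

section Sim

variable {n : ℕ} {F : Type*} [Field F] {f : (Fin n → F) → (Fin n → F) → F}

/-- two nonzero vectors have a common non-perpendicular vector -/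
lemma exists_both_ne (hf : Cfsg.Geo.IsSymplecticForm f) (u w : Fin n → F) (hu : u ≠ 0)
    (hw : w ≠ 0) : ∃ v, f u v ≠ 0 ∧ f w v ≠ 0 := by
  obtain ⟨-, a, ha⟩ := hf.nondegenerate u hu
  obtain ⟨-, b, hb⟩ := hf.nondegenerate w hw
  by_cases h1 : f w a = 0
  · by_cases h2 : f u b = 0
    · refine ⟨a + b, ?_, ?_⟩
      · rw [hf.bilinear.add_right, h2, add_zero]; exact ha
      · rw [hf.bilinear.add_right, h1, zero_add]; exact hb
    · exact ⟨b, h2, hb⟩
  · exact ⟨a, ha, h1⟩

/-- a matrix preserving perpendicularity scales `f(u, ·)` -/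
lemma exists_scale (hf : Cfsg.Geo.IsSymplecticForm f) (A : Matrix (Fin n) (Fin n) F)
    (h : ∀ v x, f v x = 0 → f (A *ᵥ v) (A *ᵥ x) = 0) (u : Fin n → F) (hu : u ≠ 0) :
    ∃ c : F, ∀ v, f (A *ᵥ u) (A *ᵥ v) = c * f u v := by
  obtain ⟨-, a, ha⟩ := hf.nondegenerate u hu
  set us := (f u a)⁻¹ • a with hus
  have h1 : f u us = 1 := by
    rw [hus, hf.bilinear.smul_right, inv_mul_cancel₀ ha]
  refine ⟨f (A *ᵥ u) (A *ᵥ us), fun v => ?_⟩
  have h2 : f u (v - (f u v) • us) = 0 := by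
    rw [f_sub_right hf, hf.bilinear.smul_right, h1, mul_one, sub_self]
  have h3 := h _ _ h2
  rw [Matrix.mulVec_sub, Matrix.mulVec_smul, f_sub_right hf, hf.bilinear.smul_right] at h3
  linear_combination h3

lemma scale_unique (hf : Cfsg.Geo.IsSymplecticForm f) (A : Matrix (Fin n) (Fin n) F)
    (h : ∀ v x, f v x = 0 → f (A *ᵥ v) (A *ᵥ x) = 0)
    (u w : Fin n → F) (hu : u ≠ 0) (hw : w ≠ 0) (c d : F)
    (hc : ∀ v, f (A *ᵥ u) (A *ᵥ v) = c * f u v) (hd : ∀ v, f (A *ᵥ w) (A *ᵥ v) = d * f w v) :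
    c = d := by
  -- first the case of non-perpendicular vectors
  have key : ∀ (u w : Fin n → F) (c d : F), f u w ≠ 0 →
      (∀ v, f (A *ᵥ u) (A *ᵥ v) = c * f u v) → (∀ v, f (A *ᵥ w) (A *ᵥ v) = d * f w v) → c = d := by
    intro u w c d huw hc hd
    have h1 := hc w
    have h2 := hd u
    rw [hf.skew (A *ᵥ w) (A *ᵥ u), h1, hf.skew w u] at h2
    have h3 : (c - d) * f u w = 0 := by linear_combination -h2
    rcases mul_eq_zero.1 h3 with h4 | h4
    · exact sub_eq_zero.1 h4
    · exact absurd h4 huw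
  obtain ⟨v, hv1, hv2⟩ := exists_both_ne hf u w hu hw
  have hv0 : v ≠ 0 := by
    rintro rfl
    exact hv1 (f_zero_right hf u)
  obtain ⟨e, he⟩ := exists_scale hf A h v hv0
  have h1 : c = e := key u v c e hv1 hc he
  have h2 : d = e := key w v d e hv2 hd he
  rw [h1, h2]

/-- an invertible matrix preserving perpendicularity is a similarity -/
lemma similarity_of_perp (hf : Cfsg.Geo.IsSymplecticForm f) (hn : 1 ≤ n) (g : GL (Fin n) F)
    (h : ∀ v x, f v x = 0 →
      f ((g : Matrix (Fin n) (Fin n) F) *ᵥ v) ((g : Matrix (Fin n) (Fin n) F) *ᵥ x) = 0) :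
    g ∈ Cfsg.Geo.similarityGroup f := by
  set u₀ : Fin n → F := Pi.single ⟨0, hn⟩ 1 with hu₀
  have hu₀ne : u₀ ≠ 0 := by
    rw [hu₀]; exact Pi.single_ne_zero_iff.2 one_ne_zero
  obtain ⟨c, hc⟩ := exists_scale hf _ h u₀ hu₀ne
  have hinj : ∀ x : Fin n → F, (g : Matrix (Fin n) (Fin n) F) *ᵥ x = 0 → x = 0 := by
    intro x hx
    have := congrArg (fun y => ((g⁻¹ : GL (Fin n) F) : Matrix (Fin n) (Fin n) F) *ᵥ y) hx
    simp only [Matrix.mulVec_mulVec, Matrix.mulVec_zero] at this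
    rwa [← Units.val_mul, inv_mul_cancel, Units.val_one, Matrix.one_mulVec] at this
  have hc0 : c ≠ 0 := by
    intro hc0
    have hgu : (g : Matrix (Fin n) (Fin n) F) *ᵥ u₀ ≠ 0 := fun h' => hu₀ne (hinj _ h')
    obtain ⟨-, y, hy⟩ := hf.nondegenerate _ hgu
    apply hy
    have : y = (g : Matrix (Fin n) (Fin n) F) *ᵥ
        (((g⁻¹ : GL (Fin n) F) : Matrix (Fin n) (Fin n) F) *ᵥ y) := by
      rw [Matrix.mulVec_mulVec, ← Units.val_mul, mul_inv_cancel, Units.val_one, Matrix.one_mulVec]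
    rw [this, hc, hc0, zero_mul]
  refine ⟨Units.mk0 c hc0, fun u v => ?_⟩
  rw [Units.val_mk0]
  by_cases hu : u = 0
  · subst hu
    rw [Matrix.mulVec_zero, f_zero_left hf, f_zero_left hf, mul_zero]
  · obtain ⟨d, hd⟩ := exists_scale hf _ h u hu
    have := scale_unique hf _ h u₀ u hu₀ne hu c d hc hd
    rw [this]; exact hd v

end Sim

end Part1

section Part2
open Cfsg Matrix
open Cfsg.Agent.S5631

section Y

variable {n : ℕ} {F : Type*} [Field F] {f : (Fin n → F) → (Fin n → F) → F}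

lemma vec_ext (a b : Fin n → F) (h : ∀ x, a ⬝ᵥ x = b ⬝ᵥ x) : a = b := by
  funext i
  have := h (Pi.single i 1)
  rwa [dotProduct_single_one, dotProduct_single_one] at this

lemma tvM_zero_right (v : Fin n → F) : tvM v (0 : Fin n → F) = 1 := by
  rw [tvM, Matrix.vecMulVec_zero, add_zero]

lemma tvM_mul_right (v φ φ' : Fin n → F) (h : φ ⬝ᵥ v = 0) :
    tvM v φ * tvM v φ' = tvM v (φ + φ') := by
  rw [tvM, tvM, tvM, add_mul, mul_add, mul_add, one_mul, one_mul, mul_one,
    Matrix.vecMulVec_mul_vecMulVec, h, Matrix.vecMulVec_add]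
  simp only [zero_smul, Matrix.vecMulVec_zero, add_zero]
  abel

/-- conjugating a transvection, second form -/
lemma conj_tv' (g : GL (Fin n) F) (v φ : Fin n → F) (h : φ ⬝ᵥ v = 0) :
    ∃ h' : (φ ᵥ* ((g⁻¹ : GL (Fin n) F) : Matrix (Fin n) (Fin n) F)) ⬝ᵥ
        ((g : Matrix (Fin n) (Fin n) F) *ᵥ v) = 0,
      g * tv v φ h * g⁻¹ =
        tv ((g : Matrix (Fin n) (Fin n) F) *ᵥ v)
          (φ ᵥ* ((g⁻¹ : GL (Fin n) F) : Matrix (Fin n) (Fin n) F)) h' := by
  have h' : (φ ᵥ* ((g⁻¹ : GL (Fin n) F) : Matrix (Fin n) (Fin n) F)) ⬝ᵥ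
      ((g : Matrix (Fin n) (Fin n) F) *ᵥ v) = 0 := by
    rw [Matrix.dotProduct_mulVec, Matrix.vecMul_vecMul, ← Units.val_mul, inv_mul_cancel,
      Units.val_one, Matrix.vecMul_one, h]
  refine ⟨h', ?_⟩
  apply Units.ext
  rw [Units.val_mul, Units.val_mul, tv_coe, conj_tvM, tv_coe]

variable (hf : Cfsg.Geo.IsSymplecticForm f) (M : Subgroup (GL (Fin n) F))

/-- the vectors `y ⟂ u` such that all transvections `x ↦ x + c f(x,y) u` lie in `M` -/
def YY (u : Fin n → F) : Submodule F (Fin n → F) where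
  carrier := {y | f u y = 0 ∧ ∀ (c : F) (h : (c • flat hf y) ⬝ᵥ u = 0), tv u (c • flat hf y) h ∈ M}
  zero_mem' := by
    refine ⟨f_zero_right hf u, fun c h => ?_⟩
    have : tv u (c • flat hf 0) h = 1 := by
      apply Units.ext
      rw [tv_coe, map_zero, smul_zero, tvM_zero_right]
      rfl
    rw [this]; exact M.one_mem
  add_mem' := by
    rintro y y' ⟨hy0, hy⟩ ⟨hy0', hy'⟩
    refine ⟨by rw [hf.bilinear.add_right, hy0, hy0', add_zero], fun c h => ?_⟩
    have h1 : (c • flat hf y) ⬝ᵥ u = 0 := by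
      rw [smul_dotProduct, flat_dot, hy0, smul_zero]
    have h2 : (c • flat hf y') ⬝ᵥ u = 0 := by
      rw [smul_dotProduct, flat_dot, hy0', smul_zero]
    have : tv u (c • flat hf (y + y')) h = tv u (c • flat hf y) h1 * tv u (c • flat hf y') h2 := by
      apply Units.ext
      rw [Units.val_mul, tv_coe, tv_coe, tv_coe, tvM_mul_right _ _ _ h1, map_add, smul_add]
    rw [this]; exact M.mul_mem (hy c h1) (hy' c h2)
  smul_mem' := by
    rintro a y ⟨hy0, hy⟩
    refine ⟨by rw [hf.bilinear.smul_right, hy0, mul_zero], fun c h => ?_⟩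
    have h1 : ((c * a) • flat hf y) ⬝ᵥ u = 0 := by
      rw [smul_dotProduct, flat_dot, hy0, smul_zero]
    have : tv u (c • flat hf (a • y)) h = tv u ((c * a) • flat hf y) h1 := by
      apply Units.ext
      rw [tv_coe, tv_coe, map_smul, smul_smul]
    rw [this]; exact hy _ h1

lemma mem_YY (u y : Fin n → F) : y ∈ YY hf M u ↔
    f u y = 0 ∧ ∀ (c : F) (h : (c • flat hf y) ⬝ᵥ u = 0), tv u (c • flat hf y) h ∈ M := Iff.rfl

variable (hΓM : Cfsg.Geo.similarityGroup f ⊓ Cfsg.Geo.specialLinear (Fin n) F ≤ M)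
include hΓM

lemma self_mem_YY (u : Fin n → F) : u ∈ YY hf M u := by
  refine ⟨hf.alternating u, fun c h => ?_⟩
  exact hΓM (st_mem hf u c)

/-- `YY u` is invariant under the symplectic transvections fixing `u` -/
lemma st_mem_YY (u w y : Fin n → F) (huw : f u w = 0) (hy : y ∈ YY hf M u) (c' : F) :
    y + (c' * f y w) • w ∈ YY hf M u := by
  obtain ⟨hy0, hyM⟩ := hy
  have hhM : st hf w c' ∈ M := hΓM (st_mem hf w c')
  have hhu : ((st hf w c' : GL (Fin n) F) : Matrix (Fin n) (Fin n) F) *ᵥ u = u := by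
    rw [st_mulVec, huw, mul_zero, zero_smul, add_zero]
  have hhy : ((st hf w c' : GL (Fin n) F) : Matrix (Fin n) (Fin n) F) *ᵥ y = y + (c' * f y w) • w :=
    st_mulVec hf w c' y
  rw [← hhy]
  have hfu : f u (((st hf w c' : GL (Fin n) F) : Matrix (Fin n) (Fin n) F) *ᵥ y) = 0 := by
    have := st_isometry hf w c' u y
    rw [hhu] at this
    rw [this, hy0]
  refine ⟨hfu, fun c h => ?_⟩
  have h1 : (c • flat hf y) ⬝ᵥ u = 0 := by
    rw [smul_dotProduct, flat_dot, hy0, smul_zero]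
  obtain ⟨h', e⟩ := conj_tv' (st hf w c') u (c • flat hf y) h1
  have h3 : st hf w c' * tv u (c • flat hf y) h1 * (st hf w c')⁻¹ ∈ M :=
    M.mul_mem (M.mul_mem hhM (hyM c h1)) (M.inv_mem hhM)
  rw [e] at h3
  have e2 : tv (((st hf w c' : GL (Fin n) F) : Matrix (Fin n) (Fin n) F) *ᵥ u)
      ((c • flat hf y) ᵥ* (((st hf w c')⁻¹ : GL (Fin n) F) : Matrix (Fin n) (Fin n) F)) h' =
      tv u (c • flat hf (((st hf w c' : GL (Fin n) F) : Matrix (Fin n) (Fin n) F) *ᵥ y)) h := by
    apply Units.ext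
    show tvM _ _ = tvM _ _
    rw [hhu]
    congr 1
    apply vec_ext
    intro x
    rw [← Matrix.dotProduct_mulVec, smul_dotProduct, smul_dotProduct, flat_dot, flat_dot]
    congr 1
    have := st_isometry hf w c'
      ((((st hf w c')⁻¹ : GL (Fin n) F) : Matrix (Fin n) (Fin n) F) *ᵥ x) y
    rw [Matrix.mulVec_mulVec, ← Units.val_mul, mul_inv_cancel, Units.val_one,
      Matrix.one_mulVec] at this
    exact this.symm
  rw [e2] at h3
  exact h3

/-- if `YY u` contains a vector outside `span u` then it is all of `u^⊥` -/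
lemma YY_eq_perp (u y₀ : Fin n → F) (hu : u ≠ 0) (hy₀ : y₀ ∈ YY hf M u)
    (hspan : y₀ ∉ Submodule.span F {u}) (y : Fin n → F) (hy : f u y = 0) : y ∈ YY hf M u := by
  -- a vector of `u^⊥` not perpendicular to `y₀`
  have hex : ∃ w₁, f u w₁ = 0 ∧ f y₀ w₁ ≠ 0 := by
    by_contra hcon
    have hcon' : ∀ w, f u w = 0 → f y₀ w = 0 := by
      intro w hw
      by_contra h'
      exact hcon ⟨w, hw, h'⟩
    apply hspan
    obtain ⟨us, h1⟩ : ∃ us, f u us = 1 := by
      obtain ⟨-, a, ha⟩ := hf.nondegenerate u hu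
      exact ⟨(f u a)⁻¹ • a, by rw [hf.bilinear.smul_right, inv_mul_cancel₀ ha]⟩
    have hz0 : y₀ - (f y₀ us) • u = 0 := by
      by_contra hzne
      obtain ⟨-, x, hx⟩ := hf.nondegenerate _ hzne
      apply hx
      have hx' : f u (x - (f u x) • us) = 0 := by
        rw [f_sub_right hf, hf.bilinear.smul_right, h1, mul_one, sub_self]
      have h2 := hcon' _ hx'
      have e1 : f y₀ x = f u x * f y₀ us := by
        have : f y₀ x = f y₀ (x - f u x • us) + f y₀ (f u x • us) := by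
          rw [← hf.bilinear.add_right, sub_add_cancel]
        rw [this, h2, zero_add, hf.bilinear.smul_right]
      have e2 : f (y₀ - (f y₀ us) • u) x = f y₀ x - f y₀ us * f u x := by
        rw [f_sub_left hf, hf.bilinear.smul_left]
      rw [e2, e1]; ring
    rw [Submodule.mem_span_singleton]
    refine ⟨f y₀ us, ?_⟩
    rw [sub_eq_zero] at hz0
    exact hz0.symm
  -- vectors of `u^⊥` not perpendicular to `y₀` lie in `YY`
  have hstep : ∀ w, f u w = 0 → f y₀ w ≠ 0 → w ∈ YY hf M u := by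
    intro w hw hne
    have h1 := st_mem_YY hf M hΓM u w y₀ hw hy₀ 1
    have h2 : (1 * f y₀ w) • w ∈ YY hf M u := by
      have := (YY hf M u).sub_mem h1 hy₀
      rwa [add_sub_cancel_left] at this
    rw [one_mul] at h2
    have h3 := (YY hf M u).smul_mem (f y₀ w)⁻¹ h2
    rwa [smul_smul, inv_mul_cancel₀ hne, one_smul] at h3
  obtain ⟨w₁, hw₁, hw₁'⟩ := hex
  by_cases hne : f y₀ y = 0
  · have h1 : y + w₁ ∈ YY hf M u := by
      apply hstep
      · rw [hf.bilinear.add_right, hy, hw₁, add_zero]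
      · rw [hf.bilinear.add_right, hne, zero_add]; exact hw₁'
    have h2 := (YY hf M u).sub_mem h1 (hstep w₁ hw₁ hw₁')
    rwa [add_sub_cancel_right] at h2
  · exact hstep y hy hne

end Y

end Part2

section Part3
open Cfsg Matrix
open Cfsg.Agent.S5631

section Final

variable {n : ℕ} {F : Type*} [Field F] {f : (Fin n → F) → (Fin n → F) → F}
variable (hf : Cfsg.Geo.IsSymplecticForm f) (M : Subgroup (GL (Fin n) F))
variable (hΓM : Cfsg.Geo.similarityGroup f ⊓ Cfsg.Geo.specialLinear (Fin n) F ≤ M)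
include hf hΓM

/-- from an element of `M` not preserving perpendicularity we get a nonzero centre all of whose
transvections lie in `M` -/
lemma mem_SS_of_not_perp (g : GL (Fin n) F) (hgM : g ∈ M) (v x : Fin n → F) (hvx : f v x = 0)
    (hne : f ((g : Matrix (Fin n) (Fin n) F) *ᵥ v) ((g : Matrix (Fin n) (Fin n) F) *ᵥ x) ≠ 0) :
    (g : Matrix (Fin n) (Fin n) F) *ᵥ v ∈ SS M ∧ (g : Matrix (Fin n) (Fin n) F) *ᵥ v ≠ 0 := by
  set u := (g : Matrix (Fin n) (Fin n) F) *ᵥ v with hu_def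
  have hu : u ≠ 0 := by
    intro h
    apply hne
    rw [h]; exact f_zero_left hf _
  have hv : v ≠ 0 := by
    rintro rfl
    apply hu
    rw [hu_def, Matrix.mulVec_zero]
  have hginv : ∀ z : Fin n → F, ((g⁻¹ : GL (Fin n) F) : Matrix (Fin n) (Fin n) F) *ᵥ
      ((g : Matrix (Fin n) (Fin n) F) *ᵥ z) = z := by
    intro z
    rw [Matrix.mulVec_mulVec, ← Units.val_mul, inv_mul_cancel, Units.val_one, Matrix.one_mulVec]
  obtain ⟨y₀, hy₀⟩ := flat_surjective hf
    (flat hf v ᵥ* ((g⁻¹ : GL (Fin n) F) : Matrix (Fin n) (Fin n) F))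
  have hdot : ∀ z, flat hf y₀ ⬝ᵥ z =
      flat hf v ⬝ᵥ (((g⁻¹ : GL (Fin n) F) : Matrix (Fin n) (Fin n) F) *ᵥ z) := by
    intro z
    rw [hy₀, Matrix.dotProduct_mulVec]
  have hfu : f u y₀ = 0 := by
    rw [← flat_dot hf, hdot, hu_def, hginv, flat_dot, hf.alternating]
  have hy₀Y : y₀ ∈ YY hf M u := by
    refine ⟨hfu, fun c h => ?_⟩
    obtain ⟨h', e⟩ := conj_tv' g v (c • flat hf v) (flat_dot_self hf v c)
    have h3 : g * tv v (c • flat hf v) (flat_dot_self hf v c) * g⁻¹ ∈ M :=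
      M.mul_mem (M.mul_mem hgM (hΓM (st_mem hf v c))) (M.inv_mem hgM)
    rw [e] at h3
    have e2 : tv ((g : Matrix (Fin n) (Fin n) F) *ᵥ v)
        ((c • flat hf v) ᵥ* ((g⁻¹ : GL (Fin n) F) : Matrix (Fin n) (Fin n) F)) h' =
        tv u (c • flat hf y₀) h := by
      apply Units.ext
      show tvM _ _ = tvM _ _
      rw [Matrix.smul_vecMul, ← hy₀]
    rw [e2] at h3
    exact h3
  have hspan : y₀ ∉ Submodule.span F {u} := by
    intro hmem
    obtain ⟨a, ha⟩ := Submodule.mem_span_singleton.1 hmem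
    have h1 : flat hf y₀ ⬝ᵥ ((g : Matrix (Fin n) (Fin n) F) *ᵥ x) = 0 := by
      rw [hdot, hginv, flat_dot, hf.skew, hvx, neg_zero]
    rw [flat_dot, ← ha, hf.bilinear.smul_right, hf.skew] at h1
    have ha0 : a = 0 := by
      rcases mul_eq_zero.1 h1 with h | h
      · exact h
      · exact absurd (neg_eq_zero.1 h) hne
    have hy0 : y₀ = 0 := by rw [← ha, ha0, zero_smul]
    have h2 : flat hf v = 0 := by
      have := congrArg (fun φ => φ ᵥ* (g : Matrix (Fin n) (Fin n) F)) hy₀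
      simp only [Matrix.vecMul_vecMul] at this
      rw [← Units.val_mul, inv_mul_cancel, Units.val_one, Matrix.vecMul_one, hy0, map_zero,
        Matrix.zero_vecMul] at this
      exact this.symm
    exact hv (flat_injective hf (by rw [h2, map_zero]))
  refine ⟨?_, hu⟩
  intro φ h
  obtain ⟨y, rfl⟩ := flat_surjective hf φ
  have hy : f u y = 0 := by rw [← flat_dot hf]; exact h
  have hyY := YY_eq_perp hf M hΓM u y₀ hu hy₀Y hspan y hy
  have h1 : ((1 : F) • flat hf y) ⬝ᵥ u = 0 := by rw [one_smul]; exact h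
  have := hyY.2 1 h1
  have e : tv u ((1 : F) • flat hf y) h1 = tv u (flat hf y) h := by
    apply Units.ext
    show tvM _ _ = tvM _ _
    rw [one_smul]
  rw [e] at this
  exact this

lemma SS_top_of_mem (u : Fin n → F) (hu : u ≠ 0) (huS : u ∈ SS M) : SS M = ⊤ := by
  have hstep : ∀ w, f u w ≠ 0 → w ∈ SS M := by
    intro w hw
    have h1 := mulVec_mem_SS M _ (hΓM (st_mem hf w 1)) u huS
    rw [st_mulVec, one_mul] at h1
    have h2 : (f u w) • w ∈ SS M := by
      have := (SS M).sub_mem h1 huS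
      rwa [add_sub_cancel_left] at this
    have h3 := (SS M).smul_mem (f u w)⁻¹ h2
    rwa [smul_smul, inv_mul_cancel₀ hw, one_smul] at h3
  obtain ⟨-, w₁, hw₁⟩ := hf.nondegenerate u hu
  rw [eq_top_iff]
  intro w _
  by_cases hw : f u w = 0
  · have h1 : w + w₁ ∈ SS M := by
      apply hstep
      rw [hf.bilinear.add_right, hw, zero_add]; exact hw₁
    have h2 := (SS M).sub_mem h1 (hstep w₁ hw₁)
    rwa [add_sub_cancel_right] at h2
  · exact hstep w hw

end Final

end Part3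

section Part4
open Cfsg Matrix
open Cfsg.Agent.S5631

lemma exists_notMem_span_pair {n : ℕ} {F : Type*} [Field F] (hn : 3 ≤ n) (v w : Fin n → F) :
    ∃ x, x ∉ Submodule.span F ({v, w} : Set (Fin n → F)) := by
  classical
  by_contra hcon
  have htop : Submodule.span F ({v, w} : Set (Fin n → F)) = ⊤ := by
    rw [eq_top_iff]
    intro x _
    by_contra hx
    exact hcon ⟨x, hx⟩
  have h1 := finrank_span_finset_le_card (R := F) ({v, w} : Finset (Fin n → F))
  rw [Set.finrank, Finset.coe_insert, Finset.coe_singleton, htop, finrank_top,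
    Module.finrank_fin_fun] at h1
  have h2 : ({v, w} : Finset (Fin n → F)).card ≤ 2 := Finset.card_le_two
  omega

theorem result {F : Type*} [Field F] [Fintype F] (n : ℕ) (hn : 13 ≤ n) (f : (Fin n → F) → (Fin n → F) → F) (hf : Cfsg.Geo.IsSymplecticForm f) : Cfsg.Geo.IsMaximalIn (Cfsg.Geo.specialLinear (Fin n) F) (Cfsg.Geo.similarityGroup f ⊓ Cfsg.Geo.specialLinear (Fin n) F) := by
  haveI : Nontrivial (Fin n) := Fin.nontrivial_iff_two_le.2 (by omega)
  refine ⟨lt_of_le_of_ne inf_le_right ?_, ?_⟩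
  · intro heq
    set v : Fin n → F := Pi.single ⟨0, by omega⟩ 1 with hv_def
    have hv : v ≠ 0 := by
      rw [hv_def]; exact Pi.single_ne_zero_iff.2 one_ne_zero
    obtain ⟨w, hvw⟩ : ∃ w, f v w = 1 := by
      obtain ⟨-, a, ha⟩ := hf.nondegenerate v hv
      exact ⟨(f v a)⁻¹ • a, by rw [hf.bilinear.smul_right, inv_mul_cancel₀ ha]⟩
    obtain ⟨x, hx⟩ := exists_notMem_span_pair (F := F) (by omega : 3 ≤ n) v w
    obtain ⟨φ, hφx, hφU⟩ := exists_functional _ x hx
    have hφv : φ ⬝ᵥ v = 0 := hφU v (Submodule.subset_span (by simp))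
    have hφw : φ ⬝ᵥ w = 0 := hφU w (Submodule.subset_span (by simp))
    have h1 : tv w φ hφw ∈ Cfsg.Geo.similarityGroup f ⊓ Cfsg.Geo.specialLinear (Fin n) F := by
      rw [heq]; exact tv_mem_specialLinear _ _ _
    obtain ⟨c, hc⟩ := h1.1
    have e1 := hc v w
    have e2 := hc v x
    rw [tv_coe, tvM_mulVec, tvM_mulVec, hφv, hφw, zero_smul, add_zero, add_zero, hvw, mul_one] at e1
    rw [tv_coe, tvM_mulVec, tvM_mulVec, hφv, hφx, zero_smul, add_zero, one_smul,
      hf.bilinear.add_right, hvw, ← e1, one_mul] at e2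
    have : (1 : F) = 0 := by linear_combination e2
    exact one_ne_zero this
  · intro M hΓM hMS
    by_cases hMΓ : M ≤ Cfsg.Geo.similarityGroup f ⊓ Cfsg.Geo.specialLinear (Fin n) F
    · left; exact le_antisymm hMΓ hΓM
    · right
      apply le_antisymm hMS
      rw [SetLike.not_le_iff_exists] at hMΓ
      obtain ⟨g, hgM, hgΓ⟩ := hMΓ
      have hgS : g ∉ Cfsg.Geo.similarityGroup f := fun hh => hgΓ ⟨hh, hMS hgM⟩
      have hex : ∃ v x, f v x = 0 ∧
          f ((g : Matrix (Fin n) (Fin n) F) *ᵥ v) ((g : Matrix (Fin n) (Fin n) F) *ᵥ x) ≠ 0 := by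
        by_contra hcon
        apply hgS
        apply similarity_of_perp hf (by omega)
        intro v x hvx
        by_contra h'
        exact hcon ⟨v, x, hvx, h'⟩
      obtain ⟨v, x, hvx, hne⟩ := hex
      obtain ⟨huS, hu⟩ := mem_SS_of_not_perp hf M hΓM g hgM v x hvx hne
      have htop := SS_top_of_mem hf M hΓM _ hu huS
      apply specialLinear_le
      intro v' φ hφ
      have : v' ∈ SS M := by rw [htop]; trivial
      exact this φ hφ

end Part4

end Cfsg.Agent.S5642
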