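import Mathlib
import Cfsg.Statements.S5643
import Cfsg.Agent.S5642
import Cfsg.Agent.Lib.Helper8.UnitaryC
import Cfsg.Agent.Lib.Helper8.UnitaryD

set_option autoImplicit false
open Cfsg

namespace Cfsg.Agent.S5643


section Part0

section PartA
open Cfsg Matrix Cfsg.Agent.S5631 Cfsg.Agent.Lib.Helper8.Unitary

variable {n : ℕ} {F : Type*} [Field F] {σ : F ≃+* F} {f : (Fin n → F) → (Fin n → F) → F}
variable (hf : Cfsg.Geo.IsUnitaryForm σ f)

/-- the transvection `x ↦ x + f(x,y) u`, for `f u y = 0` -/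
def tvf (u y : Fin n → F) (h : f u y = 0) : GL (Fin n) F :=
  tv u (flatU f y) (by rw [flatU_dot hf]; exact h)

lemma tvf_mulVec (u y : Fin n → F) (h : f u y = 0) (x : Fin n → F) :
    ((tvf hf u y h : GL (Fin n) F) : Matrix (Fin n) (Fin n) F) *ᵥ x = x + f x y • u := by
  rw [tvf, tv_coe, tvM_mulVec, flatU_dot hf]

lemma tvf_mem_SL (u y : Fin n → F) (h : f u y = 0) :
    tvf hf u y h ∈ Cfsg.Geo.specialLinear (Fin n) F := tv_mem_specialLinear _ _ _

lemma GL_ext (a b : GL (Fin n) F)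
    (h : ∀ x, (a : Matrix (Fin n) (Fin n) F) *ᵥ x = (b : Matrix (Fin n) (Fin n) F) *ᵥ x) :
    a = b := by
  apply Units.ext
  rw [Matrix.ext_iff_mulVec]
  exact h

lemma inv_mulVec_mulVec (g : GL (Fin n) F) (x : Fin n → F) :
    ((g⁻¹ : GL (Fin n) F) : Matrix (Fin n) (Fin n) F) *ᵥ
      ((g : Matrix (Fin n) (Fin n) F) *ᵥ x) = x := by
  rw [Matrix.mulVec_mulVec, ← Units.val_mul, inv_mul_cancel, Units.val_one, Matrix.one_mulVec]

lemma mulVec_inv_mulVec (g : GL (Fin n) F) (x : Fin n → F) :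
    (g : Matrix (Fin n) (Fin n) F) *ᵥ
      (((g⁻¹ : GL (Fin n) F) : Matrix (Fin n) (Fin n) F) *ᵥ x) = x := by
  rw [Matrix.mulVec_mulVec, ← Units.val_mul, mul_inv_cancel, Units.val_one, Matrix.one_mulVec]

lemma tvf_add (u y y' : Fin n → F) (h : f u y = 0) (h' : f u y' = 0)
    (h'' : f u (y + y') = 0) : tvf hf u (y + y') h'' = tvf hf u y h * tvf hf u y' h' := by
  apply GL_ext
  intro x
  rw [Units.val_mul, ← Matrix.mulVec_mulVec, tvf_mulVec, tvf_mulVec, tvf_mulVec, hf.add_left,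
    hf.smul_left, h, mul_zero, add_zero, f_add_right hf, add_smul]
  abel

lemma tvf_zero (u : Fin n → F) (h : f u 0 = 0) : tvf hf u 0 h = 1 := by
  apply GL_ext
  intro x
  rw [tvf_mulVec, f_zero_right hf, zero_smul, add_zero, Units.val_one, Matrix.one_mulVec]

lemma tvf_neg (u y : Fin n → F) (h : f u y = 0) (h' : f u (-y) = 0) :
    tvf hf u (-y) h' = (tvf hf u y h)⁻¹ := by
  rw [eq_inv_iff_mul_eq_one, ← tvf_add hf u (-y) y h' h (by rw [neg_add_cancel]; exact f_zero_right hf u)]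
  have : tvf hf u (-y + y) (by rw [neg_add_cancel]; exact f_zero_right hf u) =
      tvf hf u 0 (f_zero_right hf u) := by
    apply GL_ext
    intro x
    rw [tvf_mulVec, tvf_mulVec, neg_add_cancel]
  rw [this, tvf_zero]

/-- conjugation by an isometry -/
lemma conj_tvf_iso (s : GL (Fin n) F)
    (hs : ∀ x y, f ((s : Matrix (Fin n) (Fin n) F) *ᵥ x) ((s : Matrix (Fin n) (Fin n) F) *ᵥ y) = f x y)
    (u y : Fin n → F) (h : f u y = 0)
    (h' : f ((s : Matrix (Fin n) (Fin n) F) *ᵥ u) ((s : Matrix (Fin n) (Fin n) F) *ᵥ y) = 0) :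
    s * tvf hf u y h * s⁻¹ =
      tvf hf ((s : Matrix (Fin n) (Fin n) F) *ᵥ u) ((s : Matrix (Fin n) (Fin n) F) *ᵥ y) h' := by
  apply GL_ext
  intro x
  rw [Units.val_mul, Units.val_mul, ← Matrix.mulVec_mulVec, ← Matrix.mulVec_mulVec, tvf_mulVec,
    tvf_mulVec, Matrix.mulVec_add, Matrix.mulVec_smul, mulVec_inv_mulVec]
  congr 2
  have := hs (((s⁻¹ : GL (Fin n) F) : Matrix (Fin n) (Fin n) F) *ᵥ x) y
  rw [mulVec_inv_mulVec] at this
  exact this.symm

/-- conjugation by an arbitrary element -/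
lemma conj_tvf (g : GL (Fin n) F) (u y y' : Fin n → F) (h : f u y = 0)
    (hy' : ∀ x, f x y' = f (((g⁻¹ : GL (Fin n) F) : Matrix (Fin n) (Fin n) F) *ᵥ x) y)
    (h' : f ((g : Matrix (Fin n) (Fin n) F) *ᵥ u) y' = 0) :
    g * tvf hf u y h * g⁻¹ = tvf hf ((g : Matrix (Fin n) (Fin n) F) *ᵥ u) y' h' := by
  apply GL_ext
  intro x
  rw [Units.val_mul, Units.val_mul, ← Matrix.mulVec_mulVec, ← Matrix.mulVec_mulVec, tvf_mulVec,
    tvf_mulVec, Matrix.mulVec_add, Matrix.mulVec_smul, mulVec_inv_mulVec, hy']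

/-- the unitary transvections `x ↦ x + σ(z) f(x,u) u` are isometries -/
lemma tvf_isometry (hinv : ∀ a : F, σ (σ a) = a) (u : Fin n → F) (hu : f u u = 0) (z : F)
    (hz : z + σ z = 0) (h : f u (z • u) = 0) (x y : Fin n → F) :
    f (((tvf hf u (z • u) h : GL (Fin n) F) : Matrix (Fin n) (Fin n) F) *ᵥ x)
      (((tvf hf u (z • u) h : GL (Fin n) F) : Matrix (Fin n) (Fin n) F) *ᵥ y) = f x y := by
  rw [tvf_mulVec, tvf_mulVec, hf.add_left, f_add_right hf, f_add_right hf, hf.smul_left,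
    hf.smul_left, f_smul_right hf, f_smul_right hf, f_smul_right hf, f_smul_right hf, hu, map_mul,
    hinv, hf.herm u y]
  have : σ z = -z := by linear_combination hz
  rw [this]
  ring

lemma tvf_self_mem (hinv : ∀ a : F, σ (σ a) = a) (u : Fin n → F) (hu : f u u = 0) (z : F)
    (hz : z + σ z = 0) (h : f u (z • u) = 0) :
    tvf hf u (z • u) h ∈ Cfsg.Geo.similarityGroup f ⊓ Cfsg.Geo.specialLinear (Fin n) F := by
  refine ⟨⟨1, fun x y => ?_⟩, tvf_mem_SL hf _ _ _⟩
  rw [tvf_isometry hf hinv u hu z hz h, Units.val_one, one_mul]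

end PartA

end Part0

section Part1

section PartB
open Cfsg Matrix Cfsg.Agent.S5631 Cfsg.Agent.Lib.Helper8.Unitary

variable {n : ℕ} {F : Type*} [Field F] {σ : F ≃+* F} {f : (Fin n → F) → (Fin n → F) → F}
variable (hf : Cfsg.Geo.IsUnitaryForm σ f) (M : Subgroup (GL (Fin n) F))

/-- the vectors `y ⟂ u` such that the transvection `x ↦ x + f(x,y) u` lies in `M` -/
def YU (u : Fin n → F) : AddSubgroup (Fin n → F) where
  carrier := {y | f u y = 0 ∧ ∀ h : f u y = 0, tvf hf u y h ∈ M}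
  zero_mem' := ⟨f_zero_right hf u, fun h => by rw [tvf_zero]; exact M.one_mem⟩
  add_mem' := by
    rintro y y' ⟨h0, hy⟩ ⟨h0', hy'⟩
    have h'' : f u (y + y') = 0 := by rw [f_add_right hf, h0, h0', add_zero]
    exact ⟨h'', fun h => by rw [tvf_add hf u y y' h0 h0' h]; exact M.mul_mem (hy h0) (hy' h0')⟩
  neg_mem' := by
    rintro y ⟨h0, hy⟩
    have h' : f u (-y) = 0 := by rw [f_neg_right hf, h0, neg_zero]
    exact ⟨h', fun h => by rw [tvf_neg hf u y h0 h]; exact M.inv_mem (hy h0)⟩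

lemma mem_YU (u y : Fin n → F) :
    y ∈ YU hf M u ↔ f u y = 0 ∧ ∀ h : f u y = 0, tvf hf u y h ∈ M := Iff.rfl

variable (hΓM : Cfsg.Geo.similarityGroup f ⊓ Cfsg.Geo.specialLinear (Fin n) F ≤ M)
variable (hinv : ∀ a : F, σ (σ a) = a)
include hΓM hinv

lemma YU_self (u : Fin n → F) (hu : f u u = 0) (z : F) (hz : z + σ z = 0) :
    z • u ∈ YU hf M u := by
  have h0 : f u (z • u) = 0 := by rw [f_smul_right hf, hu, mul_zero]
  exact ⟨h0, fun h => hΓM (tvf_self_mem hf hinv u hu z hz h)⟩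

/-- `YU u` is invariant under the unitary transvections fixing `u` -/
lemma YU_step (u w y : Fin n → F) (c : F) (hw : f w w = 0) (huw : f u w = 0)
    (hc : c + σ c = 0) (hy : y ∈ YU hf M u) : y + (c * f y w) • w ∈ YU hf M u := by
  obtain ⟨h0, hyM⟩ := hy
  have hz : σ c + σ (σ c) = 0 := Z_sigma hinv c hc
  have hw0 : f w (σ c • w) = 0 := by rw [f_smul_right hf, hw, mul_zero]
  have hsM : tvf hf w (σ c • w) hw0 ∈ M := hΓM (tvf_self_mem hf hinv w hw _ hz hw0)
  have hsu : ((tvf hf w (σ c • w) hw0 : GL (Fin n) F) : Matrix (Fin n) (Fin n) F) *ᵥ u = u := by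
    rw [tvf_mulVec, f_smul_right hf, huw, mul_zero, zero_smul, add_zero]
  have hsy : ((tvf hf w (σ c • w) hw0 : GL (Fin n) F) : Matrix (Fin n) (Fin n) F) *ᵥ y =
      y + (c * f y w) • w := by
    rw [tvf_mulVec, f_smul_right hf, hinv]
  have hiso := tvf_isometry hf hinv w hw _ hz hw0
  have h' : f (((tvf hf w (σ c • w) hw0 : GL (Fin n) F) : Matrix (Fin n) (Fin n) F) *ᵥ u)
      (((tvf hf w (σ c • w) hw0 : GL (Fin n) F) : Matrix (Fin n) (Fin n) F) *ᵥ y) = 0 := by
    rw [hiso, h0]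
  have h1 := conj_tvf_iso hf _ hiso u y h0 h'
  have h2 : tvf hf w (σ c • w) hw0 * tvf hf u y h0 * (tvf hf w (σ c • w) hw0)⁻¹ ∈ M :=
    M.mul_mem (M.mul_mem hsM (hyM h0)) (M.inv_mem hsM)
  rw [h1] at h2
  have h0' : f u (y + (c * f y w) • w) = 0 := by
    rw [f_add_right hf, h0, f_smul_right hf, huw, mul_zero, add_zero]
  refine ⟨h0', fun h => ?_⟩
  have e : tvf hf u (y + (c * f y w) • w) h = tvf hf _ _ h' := by
    apply GL_ext
    intro x
    rw [tvf_mulVec, tvf_mulVec, hsu, hsy]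
  rw [e]; exact h2

/-- conjugating a unitary transvection by an element of `M` -/
lemma YU_of_conj (g : GL (Fin n) F) (hg : g ∈ M) (v y₁ : Fin n → F) (hv : f v v = 0)
    (hy₁ : ∀ x, f x y₁ = f (((g⁻¹ : GL (Fin n) F) : Matrix (Fin n) (Fin n) F) *ᵥ x) v)
    (z : F) (hz : z + σ z = 0) :
    z • y₁ ∈ YU hf M ((g : Matrix (Fin n) (Fin n) F) *ᵥ v) := by
  have h0 : f v (z • v) = 0 := by rw [f_smul_right hf, hv, mul_zero]
  have hsM : tvf hf v (z • v) h0 ∈ M := hΓM (tvf_self_mem hf hinv v hv z hz h0)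
  have hy' : ∀ x, f x (z • y₁) =
      f (((g⁻¹ : GL (Fin n) F) : Matrix (Fin n) (Fin n) F) *ᵥ x) (z • v) := by
    intro x
    rw [f_smul_right hf, f_smul_right hf, hy₁]
  have h' : f ((g : Matrix (Fin n) (Fin n) F) *ᵥ v) (z • y₁) = 0 := by
    rw [hy', inv_mulVec_mulVec, h0]
  have h1 := conj_tvf hf g v (z • v) (z • y₁) h0 hy' h'
  have h2 : g * tvf hf v (z • v) h0 * g⁻¹ ∈ M := M.mul_mem (M.mul_mem hg hsM) (M.inv_mem hg)
  rw [h1] at h2
  exact ⟨h', fun _ => h2⟩

end PartB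

end Part1

section Part2

section PartC
open Cfsg Matrix Cfsg.Agent.S5631 Cfsg.Agent.Lib.Helper8.Unitary

variable {n : ℕ} {F : Type*} [Field F] [Fintype F] {σ : F ≃+* F}
variable {f : (Fin n → F) → (Fin n → F) → F}
variable (hf : Cfsg.Geo.IsUnitaryForm σ f) (M : Subgroup (GL (Fin n) F))
variable (hΓM : Cfsg.Geo.similarityGroup f ⊓ Cfsg.Geo.specialLinear (Fin n) F ≤ M)
variable (hinv : ∀ a : F, σ (σ a) = a)
variable (u y₀ : Fin n → F) (hy₀ : ∀ z : F, z + σ z = 0 → z • y₀ ∈ YU hf M u)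
include hΓM hinv hy₀

lemma C1 (w : Fin n → F) (hw : f w w = 0) (huw : f u w = 0) (r : F) (hr : σ r = r) :
    (r * f y₀ w) • w ∈ YU hf M u := by
  obtain ⟨z₀, hz₀, hz₀'⟩ := exists_Z hf.ne_refl hinv
  have hc : r * z₀⁻¹ + σ (r * z₀⁻¹) = 0 := Z_mul_fix r z₀⁻¹ hr (Z_inv z₀ hz₀')
  have h1 := YU_step hf M hΓM hinv u w (z₀ • y₀) (r * z₀⁻¹) hw huw hc (hy₀ z₀ hz₀')
  have h2 := (YU hf M u).sub_mem h1 (hy₀ z₀ hz₀')
  rw [add_sub_cancel_left, hf.smul_left] at h2
  have e : r * z₀⁻¹ * (z₀ * f y₀ w) = r * f y₀ w := by field_simp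
  rw [e] at h2
  exact h2

omit hy₀ in
lemma C2 (w w' : Fin n → F) (a c : F) (hw' : f w' w' = 0) (huw' : f u w' = 0)
    (ha : a • w ∈ YU hf M u) (hc : c + σ c = 0) : (c * a * f w w') • w' ∈ YU hf M u := by
  have h1 := YU_step hf M hΓM hinv u w' (a • w) c hw' huw' hc ha
  have h2 := (YU hf M u).sub_mem h1 ha
  rw [add_sub_cancel_left, hf.smul_left, ← mul_assoc] at h2
  exact h2

lemma C3 (hn : 9 ≤ n) (w' : Fin n → F) (hw' : f w' w' = 0) (huw' : f u w' = 0)
    (hli : LinearIndependent F ![w', u, y₀]) (b : F) : b • w' ∈ YU hf M u := by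
  obtain ⟨θ, hθ⟩ := exists_not_fix hf.ne_refl
  obtain ⟨w₁, hw₁, h1⟩ := prescribe hf hinv ![w', u, y₀] hli ![1, 0, 1] (by omega)
  obtain ⟨w₂, hw₂, h2⟩ := prescribe hf hinv ![w', u, y₀] hli ![θ, 0, 1] (by omega)
  have h10 := h1 0
  have h11 := h1 1
  have h12 := h1 2
  have h20 := h2 0
  have h21 := h2 1
  have h22 := h2 2
  simp only [Matrix.cons_val_zero, Matrix.cons_val_one, Matrix.cons_val_two, Matrix.head_cons,
    Matrix.tail_cons] at h10 h11 h12 h20 h21 h22
  have huw₁ : f u w₁ = 0 := f_swap_eq_zero hf _ _ h11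
  have huw₂ : f u w₂ = 0 := f_swap_eq_zero hf _ _ h21
  have hy₀w₁ : f y₀ w₁ = 1 := by rw [hf.herm, h12, map_one]
  have hy₀w₂ : f y₀ w₂ = 1 := by rw [hf.herm, h22, map_one]
  have hA1 : (1 : F) • w₁ ∈ YU hf M u := by
    have := C1 hf M hΓM hinv u y₀ hy₀ w₁ hw₁ huw₁ 1 (map_one σ)
    rwa [hy₀w₁, mul_one] at this
  have hA2 : (1 : F) • w₂ ∈ YU hf M u := by
    have := C1 hf M hΓM hinv u y₀ hy₀ w₂ hw₂ huw₂ 1 (map_one σ)
    rwa [hy₀w₂, mul_one] at this
  have hZ1 : ∀ c : F, c + σ c = 0 → c • w' ∈ YU hf M u := by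
    intro c hc
    have := C2 hf M hΓM hinv u w₁ w' 1 c hw' huw' hA1 hc
    rwa [h10, mul_one, mul_one] at this
  have hZ2 : ∀ c : F, c + σ c = 0 → (c * θ) • w' ∈ YU hf M u := by
    intro c hc
    have := C2 hf M hΓM hinv u w₂ w' 1 c hw' huw' hA2 hc
    rwa [h20, mul_one] at this
  obtain ⟨z₁, z₂, hz₁, hz₂, hb⟩ := span_Z hf.ne_refl hinv θ 1 one_ne_zero
    (by rwa [div_one]) b
  rw [hb, add_smul, mul_one]
  exact (YU hf M u).add_mem (hZ2 z₁ hz₁) (hZ1 z₂ hz₂)

end PartC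

end Part2

section Part3

section PartD
open Cfsg Matrix Cfsg.Agent.S5631 Cfsg.Agent.Lib.Helper8.Unitary

variable {n : ℕ} {F : Type*} [Field F] [Fintype F] {σ : F ≃+* F}
variable {f : (Fin n → F) → (Fin n → F) → F}
variable (hf : Cfsg.Geo.IsUnitaryForm σ f) (M : Subgroup (GL (Fin n) F))
variable (hΓM : Cfsg.Geo.similarityGroup f ⊓ Cfsg.Geo.specialLinear (Fin n) F ≤ M)
variable (hinv : ∀ a : F, σ (σ a) = a)
variable (u y₀ : Fin n → F) (hy₀ : ∀ z : F, z + σ z = 0 → z • y₀ ∈ YU hf M u)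

omit [Fintype F] in
lemma li_cons (a b c : Fin n → F) (hbc : LinearIndependent F ![b, c])
    (ha : ∀ α β : F, a ≠ α • b + β • c) : LinearIndependent F ![a, b, c] := by
  have : (![a, b, c] : Fin 3 → Fin n → F) = Fin.cons a ![b, c] := rfl
  rw [this, linearIndependent_finCons]
  refine ⟨hbc, ?_⟩
  intro hmem
  have hr : Set.range (![b, c] : Fin 2 → Fin n → F) = {b, c} := by
    ext x
    simp only [Set.mem_range, Set.mem_insert_iff, Set.mem_singleton_iff]
    constructor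
    · rintro ⟨i, rfl⟩
      fin_cases i
      · left; rfl
      · right; rfl
    · rintro (rfl | rfl)
      · exact ⟨0, rfl⟩
      · exact ⟨1, rfl⟩
  rw [hr, Submodule.mem_span_pair] at hmem
  obtain ⟨α, β, h⟩ := hmem
  exact ha α β h.symm

include hΓM hinv hy₀ in
/-- the good vectors span a subspace inside `YU` -/
lemma span_good_le (hn : 9 ≤ n) (s : Fin n → F)
    (hs : s ∈ Submodule.span F {w' : Fin n → F | f w' w' = 0 ∧ f u w' = 0 ∧
      LinearIndependent F ![w', u, y₀]}) : ∀ a : F, a • s ∈ YU hf M u := by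
  induction hs using Submodule.span_induction with
  | mem w' hw' => exact fun a => C3 hf M hΓM hinv u y₀ hy₀ hn w' hw'.1 hw'.2.1 hw'.2.2 a
  | zero => intro a; rw [smul_zero]; exact (YU hf M u).zero_mem
  | add x y _ _ hx hy => intro a; rw [smul_add]; exact (YU hf M u).add_mem (hx a) (hy a)
  | smul c x _ hx => intro a; rw [smul_smul]; exact hx _

include hΓM hinv hy₀ in
lemma C4 (hn : 13 ≤ n) (hu : u ≠ 0) (hli₀ : LinearIndependent F ![u, y₀]) (y : Fin n → F)
    (hy : f u y = 0) : y ∈ YU hf M u := by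
  set S := Submodule.span F {w' : Fin n → F | f w' w' = 0 ∧ f u w' = 0 ∧
      LinearIndependent F ![w', u, y₀]} with hS
  suffices hyS : y ∈ S by
    have := span_good_le hf M hΓM hinv u y₀ hy₀ (by omega) y hyS 1
    rwa [one_smul] at this
  by_contra hyS
  obtain ⟨c, hc1, hc0⟩ := exists_functional S y hyS
  obtain ⟨x₂, hx₂⟩ := exists_rep hf c
  rw [hx₂] at hc1
  -- x₂ ∉ span {u}
  have hx₂u : ∀ a : F, a • u ≠ x₂ := by
    intro a ha
    rw [← ha, f_smul_right hf, f_swap_eq_zero hf u y hy, mul_zero] at hc1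
    exact zero_ne_one hc1
  -- x₁ in the kernel, outside span {u, x₂}
  have hk := finrank_ker_ge (evalLin hf ![u, y₀])
  rw [Module.finrank_fintype_fun_eq_card, Fintype.card_fin] at hk
  obtain ⟨x₁, hx₁K, hx₁⟩ : ∃ x₁ ∈ LinearMap.ker (evalLin hf ![u, y₀]),
      x₁ ∉ Submodule.span F ({u, x₂} : Set (Fin n → F)) := by
    by_contra hcon
    push Not at hcon
    have hle : LinearMap.ker (evalLin hf ![u, y₀]) ≤ Submodule.span F ({u, x₂} : Set (Fin n → F)) :=
      hcon
    have h1 := Submodule.finrank_mono hle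
    have h2 : Module.finrank F (Submodule.span F ({u, x₂} : Set (Fin n → F))) ≤ 2 := by
      classical
      have h3 : ({u, x₂} : Finset (Fin n → F)).card ≤ 2 := Finset.card_le_two
      have h4 : Module.finrank F (Submodule.span F
          (({u, x₂} : Finset (Fin n → F)) : Set (Fin n → F))) ≤
          ({u, x₂} : Finset (Fin n → F)).card := finrank_span_finset_le_card _
      rw [Finset.coe_insert, Finset.coe_singleton] at h4
      omega
    omega
  rw [LinearMap.mem_ker] at hx₁K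
  have hx₁u : f x₁ u = 0 := by
    have := congrFun hx₁K 0
    exact this
  have hx₁y₀ : f x₁ y₀ = 0 := by
    have := congrFun hx₁K 1
    exact this
  have hli1 : LinearIndependent F ![x₁, u, x₂] := by
    apply li_cons
    · exact (LinearIndependent.pair_iff' hu).2 hx₂u
    · intro α β h
      apply hx₁
      rw [h, Submodule.mem_span_pair]
      exact ⟨α, β, rfl⟩
  obtain ⟨w', hw', hp⟩ := prescribe hf hinv ![x₁, u, x₂] hli1 ![1, 0, 1] (by omega)
  have hp0 := hp 0
  have hp1 := hp 1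
  have hp2 := hp 2
  simp only [Matrix.cons_val_zero, Matrix.cons_val_one, Matrix.cons_val_two, Matrix.head_cons,
    Matrix.tail_cons] at hp0 hp1 hp2
  have hgood : w' ∈ S := by
    apply Submodule.subset_span
    refine ⟨hw', f_swap_eq_zero hf _ _ hp1, ?_⟩
    apply li_cons _ _ _ hli₀
    intro α β h
    rw [h, hf.add_left, hf.smul_left, hf.smul_left, f_swap_eq_zero hf _ _ hx₁u,
      f_swap_eq_zero hf _ _ hx₁y₀, mul_zero, mul_zero, add_zero] at hp0
    exact zero_ne_one hp0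
  have := hc0 w' hgood
  rw [hx₂, hp2] at this
  exact one_ne_zero this

include hΓM hinv hy₀ in
/-- Key lemma: a centre `u` with a second, independent family of transvections lies in `SS M` -/
lemma key (hn : 13 ≤ n) (hu : u ≠ 0) (hli₀ : LinearIndependent F ![u, y₀]) : u ∈ SS M := by
  intro φ h
  obtain ⟨y, hy⟩ := exists_rep hf φ
  have hy0 : f u y = 0 := by rw [← hy]; exact h
  have := (C4 hf M hΓM hinv u y₀ hy₀ hn hu hli₀ y hy0).2 hy0
  have e : tv u φ h = tvf hf u y hy0 := by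
    apply GL_ext
    intro x
    rw [tv_coe, tvM_mulVec, tvf_mulVec, hy]
  rw [e]; exact this

end PartD

end Part3

section Part4

section PartE
open Cfsg Matrix Cfsg.Agent.S5631 Cfsg.Agent.Lib.Helper8.Unitary

variable {n : ℕ} {F : Type*} [Field F] [Fintype F] {σ : F ≃+* F}
variable {f : (Fin n → F) → (Fin n → F) → F}
variable (hf : Cfsg.Geo.IsUnitaryForm σ f) (hinv : ∀ a : F, σ (σ a) = a)
include hf hinv

/-- a matrix that rescales `f(·, v)` for every isotropic `v` is a similarity -/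
lemma similarity_of_iso (hn : 7 ≤ n) (g : GL (Fin n) F)
    (hg : ∀ v : Fin n → F, v ≠ 0 → f v v = 0 → ∃ l : F, l ≠ 0 ∧ ∀ x,
      f ((g : Matrix (Fin n) (Fin n) F) *ᵥ x) ((g : Matrix (Fin n) (Fin n) F) *ᵥ v) = l * f x v) :
    g ∈ Cfsg.Geo.similarityGroup f := by
  -- step 2: non-perpendicular isotropic vectors have the same scalar
  have step2 : ∀ v w : Fin n → F, v ≠ 0 → w ≠ 0 → f v v = 0 → f w w = 0 → f v w ≠ 0 →
      ∀ lv lw : F, (∀ x, f ((g : Matrix (Fin n) (Fin n) F) *ᵥ x)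
        ((g : Matrix (Fin n) (Fin n) F) *ᵥ v) = lv * f x v) →
      (∀ x, f ((g : Matrix (Fin n) (Fin n) F) *ᵥ x)
        ((g : Matrix (Fin n) (Fin n) F) *ᵥ w) = lw * f x w) → lv = lw := by
    intro v w hv hw hv0 hw0 hvw lv lw hlv hlw
    obtain ⟨z₀, hz₀, hz₀'⟩ := exists_Z hf.ne_refl hinv
    set c := σ (z₀ / f v w) with hc
    have hσc : σ c * f v w = z₀ := by
      rw [hc, hinv]; field_simp
    have hc0 : σ c ≠ 0 := by
      intro h; rw [h, zero_mul] at hσc; exact hz₀ hσc.symm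
    have hs0 : f (v + c • w) (v + c • w) = 0 := by
      rw [f_add_self hf, hv0, hf.smul_left, f_smul_right hf, hw0, f_smul_right hf, hσc]
      linear_combination hz₀'
    have hsne : v + c • w ≠ 0 := by
      intro h
      apply hvw
      have h1 : v = -(c • w) := eq_neg_of_add_eq_zero_left h
      rw [h1, f_neg_left hf, hf.smul_left, hw0, mul_zero, neg_zero]
    obtain ⟨ls, -, hls⟩ := hg _ hsne hs0
    have hli : LinearIndependent F ![v, w] := by
      rw [LinearIndependent.pair_iff' hv]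
      intro a ha
      apply hvw
      rw [← ha, f_smul_right hf, hv0, mul_zero]
    have key : ∀ x, (ls - lv) * f x v + σ c * (ls - lw) * f x w = 0 := by
      intro x
      have h1 := hls x
      rw [Matrix.mulVec_add, Matrix.mulVec_smul, f_add_right hf, f_smul_right hf, hlv, hlw,
        f_add_right hf, f_smul_right hf] at h1
      linear_combination -h1
    obtain ⟨x₁, hx₁⟩ := exists_dual hf hinv ![v, w] hli ![1, 0]
    obtain ⟨x₂, hx₂⟩ := exists_dual hf hinv ![v, w] hli ![0, 1]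
    have a1 := hx₁ 0
    have a2 := hx₁ 1
    have b1 := hx₂ 0
    have b2 := hx₂ 1
    simp only [Matrix.cons_val_zero, Matrix.cons_val_one] at a1 a2 b1 b2
    have k1 := key x₁
    rw [a1, a2, mul_one, mul_zero, add_zero] at k1
    have k2 := key x₂
    rw [b1, b2, mul_zero, zero_add, mul_one] at k2
    have k3 : ls - lw = 0 := (mul_eq_zero.1 k2).resolve_left hc0
    linear_combination -k1 + k3
  obtain ⟨v₀, hv₀, hv₀0⟩ := exists_iso_ne_zero hf hinv (by omega)
  obtain ⟨l, hl0, hl⟩ := hg v₀ hv₀ hv₀0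
  -- all isotropic vectors have scalar l
  have hall : ∀ w : Fin n → F, f w w = 0 → ∀ x, f ((g : Matrix (Fin n) (Fin n) F) *ᵥ x)
      ((g : Matrix (Fin n) (Fin n) F) *ᵥ w) = l * f x w := by
    intro w hw0 x
    by_cases hw : w = 0
    · rw [hw, Matrix.mulVec_zero, f_zero_right hf, f_zero_right hf, mul_zero]
    obtain ⟨lw, -, hlw⟩ := hg w hw hw0
    obtain ⟨t, ht0, htv, htw⟩ := exists_iso_both hf hinv hn v₀ w hv₀ hw
    have ht : t ≠ 0 := by
      rintro rfl
      exact htv (f_zero_left hf _)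
    obtain ⟨lt, -, hlt⟩ := hg t ht ht0
    have e1 : l = lt := step2 v₀ t hv₀ ht hv₀0 ht0 (f_swap_ne_zero hf _ _ htv) l lt hl hlt
    have e2 : lt = lw := step2 t w ht hw ht0 hw0 htw lt lw hlt hlw
    rw [hlw, e1, e2]
  refine ⟨Units.mk0 l hl0, fun x y => ?_⟩
  obtain ⟨s₁, s₂, hs₁, hs₂, hy⟩ := iso_decomp hf hinv (by omega) y
  rw [hy, Matrix.mulVec_add, f_add_right hf, hall s₁ hs₁, hall s₂ hs₂, f_add_right hf]
  simp only [Units.val_mk0]
  ring

end PartE

end Part4

section Part5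

section PartF
open Cfsg Matrix Cfsg.Agent.S5631 Cfsg.Agent.Lib.Helper8.Unitary

variable {n : ℕ} {F : Type*} [Field F] [Fintype F] {σ : F ≃+* F}
variable {f : (Fin n → F) → (Fin n → F) → F}
variable (hf : Cfsg.Geo.IsUnitaryForm σ f) (hinv : ∀ a : F, σ (σ a) = a)
variable (M : Subgroup (GL (Fin n) F))
variable (hΓM : Cfsg.Geo.similarityGroup f ⊓ Cfsg.Geo.specialLinear (Fin n) F ≤ M)

include hf hinv hΓM in
lemma SS_rule (s w : Fin n → F) (hs : s ∈ SS M) (hw : f w w = 0) (hsw : f s w ≠ 0) :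
    w ∈ SS M := by
  obtain ⟨z₀, hz₀, hz₀'⟩ := exists_Z hf.ne_refl hinv
  have hw0 : f w (z₀ • w) = 0 := by rw [f_smul_right hf, hw, mul_zero]
  have htM : tvf hf w (z₀ • w) hw0 ∈ M := hΓM (tvf_self_mem hf hinv w hw z₀ hz₀' hw0)
  have h1 := mulVec_mem_SS M _ htM s hs
  rw [tvf_mulVec, f_smul_right hf] at h1
  have h2 := (SS M).sub_mem h1 hs
  rw [add_sub_cancel_left] at h2
  have hne : σ z₀ * f s w ≠ 0 := mul_ne_zero ((map_ne_zero σ).2 hz₀) hsw
  have := (SS M).smul_mem (σ z₀ * f s w)⁻¹ h2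
  rwa [smul_smul, inv_mul_cancel₀ hne, one_smul] at this

include hf hinv hΓM in
lemma SS_top (hn : 7 ≤ n) (u : Fin n → F) (hu : u ≠ 0) (huS : u ∈ SS M) : SS M = ⊤ := by
  rw [eq_top_iff]
  intro y _
  have hiso : ∀ w : Fin n → F, f w w = 0 → w ∈ SS M := by
    intro w hw0
    by_cases hw : w = 0
    · rw [hw]; exact (SS M).zero_mem
    obtain ⟨t, ht0, htu, htw⟩ := exists_iso_both hf hinv hn u w hu hw
    have ht : t ∈ SS M :=
      SS_rule hf hinv M hΓM u t huS ht0 (f_swap_ne_zero hf _ _ htu)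
    exact SS_rule hf hinv M hΓM t w ht hw0 htw
  obtain ⟨s₁, s₂, hs₁, hs₂, hy⟩ := iso_decomp hf hinv (by omega) y
  rw [hy]
  exact (SS M).add_mem (hiso s₁ hs₁) (hiso s₂ hs₂)

include hf hinv in
lemma exists_not_similarity (hn : 5 ≤ n) :
    ∃ t ∈ Cfsg.Geo.specialLinear (Fin n) F, t ∉ Cfsg.Geo.similarityGroup f := by
  obtain ⟨u, -, hu⟩ := exists_aniso hf hinv ⊤ (by
    rw [finrank_top, Module.finrank_fintype_fun_eq_card, Fintype.card_fin]; omega)
  have hk := finrank_ker_ge (leftLin hf u)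
  rw [Module.finrank_self] at hk
  have hpos : 0 < Module.finrank F (LinearMap.ker (leftLin hf u)) := by omega
  obtain ⟨⟨y, hyK⟩, hy⟩ := Module.finrank_pos_iff_exists_ne_zero.1 hpos
  have hy0 : y ≠ 0 := fun h => hy (Subtype.ext h)
  have hyu : f y u = 0 := hyK
  have huy : f u y = 0 := f_swap_eq_zero hf _ _ hyu
  refine ⟨tvf hf u y huy, tvf_mem_SL hf _ _ _, ?_⟩
  rintro ⟨c, hc⟩
  have htu : ((tvf hf u y huy : GL (Fin n) F) : Matrix (Fin n) (Fin n) F) *ᵥ u = u := by
    rw [tvf_mulVec, huy, zero_smul, add_zero]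
  have h1 := hc u u
  rw [htu] at h1
  have hc1 : (c : F) = 1 := by
    have : (1 - (c : F)) * f u u = 0 := by linear_combination h1
    rcases mul_eq_zero.1 this with h | h
    · linear_combination -h
    · exact absurd h hu
  apply hy0
  apply eq_zero_of_forall hf
  intro x
  have h2 := hc x u
  rw [htu, tvf_mulVec, hf.add_left, hf.smul_left, hc1, one_mul] at h2
  have : f x y * f u u = 0 := by linear_combination h2
  exact (mul_eq_zero.1 this).resolve_right hu

end PartF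

section PartG
open Cfsg Matrix Cfsg.Agent.S5631 Cfsg.Agent.Lib.Helper8.Unitary

theorem result {F : Type*} [Field F] [Fintype F] (n : ℕ) (hn : 13 ≤ n) (σ : F ≃+* F) (f : (Fin n → F) → (Fin n → F) → F) (hf : Cfsg.Geo.IsUnitaryForm σ f) : Cfsg.Geo.IsMaximalIn (Cfsg.Geo.specialLinear (Fin n) F) (Cfsg.Geo.similarityGroup f ⊓ Cfsg.Geo.specialLinear (Fin n) F) := by
  have hinv := hf.involutive
  haveI : Nontrivial (Fin n) := Fin.nontrivial_iff_two_le.2 (by omega)
  refine ⟨lt_of_le_of_ne inf_le_right ?_, ?_⟩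
  · intro heq
    obtain ⟨t, htS, htn⟩ := exists_not_similarity hf hinv (by omega)
    apply htn
    have : t ∈ Cfsg.Geo.similarityGroup f ⊓ Cfsg.Geo.specialLinear (Fin n) F := by
      rw [heq]; exact htS
    exact this.1
  · intro M hΓM hMS
    by_cases hMP : M ≤ Cfsg.Geo.similarityGroup f ⊓ Cfsg.Geo.specialLinear (Fin n) F
    · left; exact le_antisymm hMP hΓM
    · right
      apply le_antisymm hMS
      obtain ⟨g, hgM, hgP⟩ := SetLike.not_le_iff_exists.1 hMP
      have hgS : g ∉ Cfsg.Geo.similarityGroup f := fun hh => hgP ⟨hh, hMS hgM⟩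
      have hex : ∃ u : Fin n → F, u ≠ 0 ∧ u ∈ SS M := by
        by_contra hcon
        apply hgS
        apply similarity_of_iso hf hinv (by omega) g
        intro v hv hv0
        obtain ⟨y₁, hy₁⟩ := exists_rep hf
          (flatU f v ᵥ* ((g⁻¹ : GL (Fin n) F) : Matrix (Fin n) (Fin n) F))
        have hy₁' : ∀ x, f x y₁ =
            f (((g⁻¹ : GL (Fin n) F) : Matrix (Fin n) (Fin n) F) *ᵥ x) v := by
          intro x
          rw [← hy₁, ← Matrix.dotProduct_mulVec, flatU_dot hf]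
        have hu : (g : Matrix (Fin n) (Fin n) F) *ᵥ v ≠ 0 := by
          intro h0
          apply hv
          have := congrArg (fun z => ((g⁻¹ : GL (Fin n) F) : Matrix (Fin n) (Fin n) F) *ᵥ z) h0
          simpa [inv_mulVec_mulVec] using this
        have hY := YU_of_conj hf M hΓM hinv g hgM v y₁ hv0 hy₁'
        by_cases hli : LinearIndependent F ![(g : Matrix (Fin n) (Fin n) F) *ᵥ v, y₁]
        · exfalso
          exact hcon ⟨_, hu, key hf M hΓM hinv _ y₁ hY hn hu hli⟩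
        · rw [LinearIndependent.pair_iff' hu] at hli
          push Not at hli
          obtain ⟨μ, hμ⟩ := hli
          have hrel : ∀ x, f x v = σ μ * f ((g : Matrix (Fin n) (Fin n) F) *ᵥ x)
              ((g : Matrix (Fin n) (Fin n) F) *ᵥ v) := by
            intro x
            have := hy₁' ((g : Matrix (Fin n) (Fin n) F) *ᵥ x)
            rw [inv_mulVec_mulVec, ← hμ, f_smul_right hf] at this
            exact this.symm
          have hμ0 : σ μ ≠ 0 := by
            intro h0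
            apply hv
            apply eq_zero_of_forall hf
            intro x
            rw [hrel, h0, zero_mul]
          refine ⟨(σ μ)⁻¹, inv_ne_zero hμ0, fun x => ?_⟩
          rw [hrel x]
          field_simp
      obtain ⟨u, hu, huS⟩ := hex
      have htop := SS_top hf hinv M hΓM (by omega) u hu huS
      apply specialLinear_le
      intro v φ h
      have : v ∈ SS M := by rw [htop]; trivial
      exact this φ h

end PartG

end Part5

end Cfsg.Agent.S5643
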