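import Mathlib
import Cfsg.Statements.S0781
import Cfsg.Agent.Lib.Helper8.SUGenI

set_option autoImplicit false
open Cfsg

namespace Cfsg.Agent.S0781


section Part0

open Matrix Cfsg.Agent.S5631 Cfsg.Agent.S5643 Cfsg.Agent.Lib.Helper8.Unitary
  Cfsg.Agent.Lib.Helper8.SUGen Cfsg.Agent.Lib.Helper5.Herm

section Abstract

variable {n : ℕ} {F : Type*} [Field F] {σ : F ≃+* F} {f : (Fin n → F) → (Fin n → F) → F}
variable (hf : Cfsg.Geo.IsUnitaryForm σ f)
include hf

/-- the Heisenberg-type element `x ↦ x + c f(x,u) a + (β f(x,u) - σ c f(x,a)) u` -/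
noncomputable def QQ (u a : Fin n → F) (hu : f u u = 0) (hau : f a u = 0) (c β : F) : GL (Fin n) F :=
  tvf hf u (σ β • u - c • a) (by
    rw [f_sub_right hf, f_smul_right hf, f_smul_right hf, hu, f_swap_eq_zero hf _ _ hau]; ring) *
  tvf hf a (σ c • u) (by rw [f_smul_right hf, hau, mul_zero])

lemma QQ_mulVec (u a : Fin n → F) (hu : f u u = 0) (hau : f a u = 0) (haa : f a a = 1) (c β : F)
    (x : Fin n → F) :
    ((QQ hf u a hu hau c β : GL (Fin n) F) : Matrix (Fin n) (Fin n) F) *ᵥ x =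
      x + (c * f x u) • a + ((β - c * σ c) * f x u - σ c * f x a) • u := by
  rw [QQ, mul_mulVec, tvf_mulVec, tvf_mulVec]
  simp only [hf.add_left, f_add_right hf, f_sub_right hf, hf.smul_left, f_smul_right hf, hu, hau,
    haa, hf.involutive]
  match_scalars <;> ring

lemma QQ_mem (u a : Fin n → F) (hu : f u u = 0) (hau : f a u = 0) (haa : f a a = 1) (c β : F)
    (hβ : β + σ β = c * σ c) : QQ hf u a hu hau c β ∈ SUf f := by
  refine ⟨fun x y => ?_, ?_⟩
  · show f (((QQ hf u a hu hau c β : GL (Fin n) F) : Matrix (Fin n) (Fin n) F) *ᵥ x)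
      (((QQ hf u a hu hau c β : GL (Fin n) F) : Matrix (Fin n) (Fin n) F) *ᵥ y) = f x y
    rw [QQ_mulVec hf u a hu hau haa, QQ_mulVec hf u a hu hau haa]
    have hua : f u a = 0 := f_swap_eq_zero hf _ _ hau
    have h1 : f u y = σ (f y u) := hf.herm u y
    have h2 : f a y = σ (f y a) := hf.herm a y
    simp only [hf.add_left, f_add_right hf, hf.smul_left, f_smul_right hf, hu, hau, haa, hua,
      map_sub, map_mul, hf.involutive, h1, h2]
    have hσβ : σ β = c * σ c - β := by linear_combination hβ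
    rw [hσβ]
    ring
  · exact (Cfsg.Geo.specialLinear (Fin n) F).mul_mem (tvf_mem_SL hf _ _ _) (tvf_mem_SL hf _ _ _)

/-- the Heisenberg commutator relation -/
lemma QQ_comm (u a : Fin n → F) (hu : f u u = 0) (hau : f a u = 0) (haa : f a a = 1)
    (c₁ β₁ c₂ β₂ z : F) (hz : σ z = c₁ * σ c₂ - c₂ * σ c₁) :
    QQ hf u a hu hau c₁ β₁ * QQ hf u a hu hau c₂ β₂ =
      ut hf u hu z * (QQ hf u a hu hau c₂ β₂ * QQ hf u a hu hau c₁ β₁) := by
  apply GL_ext
  intro x
  rw [mul_mulVec, mul_mulVec, mul_mulVec, ut_mulVec, QQ_mulVec hf u a hu hau haa,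
    QQ_mulVec hf u a hu hau haa, QQ_mulVec hf u a hu hau haa, QQ_mulVec hf u a hu hau haa, hz]
  have hua : f u a = 0 := f_swap_eq_zero hf _ _ hau
  simp only [hf.add_left, hf.smul_left, hu, hau, haa, hua]
  match_scalars <;> ring

end Abstract

end Part0

section Part1

open Matrix Cfsg.Agent.S5631 Cfsg.Agent.S5643 Cfsg.Agent.Lib.Helper8.Unitary
  Cfsg.Agent.Lib.Helper8.SUGen Cfsg.Agent.Lib.Helper5.Herm

section Concrete

variable {F : Type*} [Field F] [Fintype F] {q : ℕ}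

/-- the inclusion of `SU_n(q)` in `GL_n` -/
noncomputable def phi (n : ℕ) : ↥(Cfsg.SU n F q) →* GL (Fin n) F :=
  Matrix.SpecialLinearGroup.toGL.comp (Subgroup.subtype _)

lemma phi_coe (n : ℕ) (B : ↥(Cfsg.SU n F q)) :
    ((phi n B : GL (Fin n) F) : Matrix (Fin n) (Fin n) F) =
      ((B : Matrix.SpecialLinearGroup (Fin n) F) : Matrix (Fin n) (Fin n) F) := rfl

lemma phi_injective (n : ℕ) : Function.Injective (phi (F := F) (q := q) n) := by
  intro B C h
  apply Subtype.ext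
  apply Subtype.ext
  have := congrArg (fun g : GL (Fin n) F => (g : Matrix (Fin n) (Fin n) F)) h
  exact this

lemma phi_mem (n : ℕ) (B : ↥(Cfsg.SU n F q)) : phi n B ∈ SUf (hermForm n F q) := by
  refine ⟨fun x y => B.2 x y, ?_⟩
  show phi n B ∈ (Matrix.GeneralLinearGroup.det : GL (Fin n) F →* Fˣ).ker
  rw [MonoidHom.mem_ker]
  apply Units.ext
  rw [Matrix.GeneralLinearGroup.val_det_apply, phi_coe,
    (B : Matrix.SpecialLinearGroup (Fin n) F).2]
  rfl

lemma exists_lift (n : ℕ) (g : GL (Fin n) F) (hg : g ∈ SUf (hermForm n F q)) :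
    ∃ B : ↥(Cfsg.SU n F q), phi n B = g :=
  ⟨⟨⟨(g : Matrix (Fin n) (Fin n) F), SUf_det g hg⟩, fun x y => SUf_iso g hg x y⟩, Units.ext rfl⟩

lemma ut_coe' (hF : Fintype.card F = q ^ 2) (n : ℕ)
    (u : Fin n → F) (hu : hermForm n F q u u = 0) (z : F) :
    ((ut (herm_unitary hF n) u hu z : GL (Fin n) F) : Matrix (Fin n) (Fin n) F) =
      Cfsg.unitaryTransvection n q u (z ^ q) := by
  rw [Matrix.ext_iff_mulVec]
  intro x
  rw [ut_mulVec, unitaryTransvection_mulVec, frobEquiv_apply]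

theorem main (hF : Fintype.card F = q ^ 2) (n : ℕ) (hn : 4 ≤ n ∨ (n = 3 ∧ 3 ≤ q))
    (A : ↥(Cfsg.SU n F q)) (v : Fin n → F) (c : F) (hv0 : Cfsg.hermForm n F q v v = 0)
    (hA : ((A : Matrix.SpecialLinearGroup (Fin n) F) : Matrix (Fin n) (Fin n) F) =
      Cfsg.unitaryTransvection n q v c) : A ∈ commutatorSet ↥(Cfsg.SU n F q) := by
  have hn3 : 3 ≤ n := by omega
  have hf := herm_unitary hF n
  by_cases hdeg : v = 0 ∨ c = 0
  · have h1 : ((A : Matrix.SpecialLinearGroup (Fin n) F) : Matrix (Fin n) (Fin n) F) = 1 := by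
      rw [hA, Cfsg.unitaryTransvection]
      rcases hdeg with rfl | rfl
      · have hq := one_lt_q hF
        have : (fun j : Fin n => ((0 : Fin n → F) j) ^ q) = 0 := by
          funext j; simp; omega
        rw [this, Matrix.vecMulVec_zero, smul_zero, add_zero]
      · rw [zero_smul, add_zero]
    have : A = 1 := by
      apply Subtype.ext
      apply Subtype.ext
      exact h1
    rw [this]
    exact ⟨1, 1, by simp⟩
  push Not at hdeg
  obtain ⟨hv, hc⟩ := hdeg
  -- c is trace-zero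
  have hcZ : c + c ^ q = 0 := by
    obtain ⟨x₁, h2⟩ : ∃ x₁, hermForm n F q x₁ v = 1 := by
      obtain ⟨x, hx⟩ := (hf.nondegenerate v hv).1
      exact ⟨(hermForm n F q x v)⁻¹ • x, by rw [hf.smul_left, inv_mul_cancel₀ hx]⟩
    have h1 := A.2 x₁ x₁
    have h3 : (slToMat n F) (A : Matrix.SpecialLinearGroup (Fin n) F) *ᵥ x₁ = x₁ + c • v := by
      show ((A : Matrix.SpecialLinearGroup (Fin n) F) : Matrix (Fin n) (Fin n) F) *ᵥ x₁ = _
      rw [hA, unitaryTransvection_mulVec, h2, mul_one]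
    rw [h3] at h1
    have h4 : hermForm n F q v x₁ = 1 := by
      rw [hf.herm, h2]; exact map_one _
    rw [hf.add_left, f_add_right hf, f_add_right hf, hf.smul_left, hf.smul_left,
      f_smul_right hf, f_smul_right hf, hv0, h2, h4, frobEquiv_apply] at h1
    linear_combination h1
  obtain ⟨v₀, hp⟩ := exists_HP_of_iso hf v hv hv0
  obtain ⟨a, haa, hau, hav⟩ := exists_unit_perp hf hn3 hp
  obtain ⟨a₀, ha₀⟩ := tr_surj hf.ne_refl hf.involutive 1 (map_one _)
  have hσc : (frobEquiv hF) c = -c := by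
    rw [frobEquiv_apply]; linear_combination hcZ
  obtain ⟨β₁, hβ₁⟩ := tr_surj hf.ne_refl hf.involutive ((c * a₀) * (frobEquiv hF) (c * a₀))
    (by rw [map_mul, hf.involutive]; ring)
  obtain ⟨β₂, hβ₂⟩ := tr_surj hf.ne_refl hf.involutive ((1 : F) * (frobEquiv hF) 1)
    (by rw [map_mul, hf.involutive]; ring)
  have hQ₁ := QQ_mem hf v a hv0 hau haa (c * a₀) β₁ hβ₁
  have hQ₂ := QQ_mem hf v a hv0 hau haa 1 β₂ hβ₂
  have hz : (frobEquiv hF) ((frobEquiv hF) c) =
      (c * a₀) * (frobEquiv hF) 1 - 1 * (frobEquiv hF) (c * a₀) := by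
    rw [hf.involutive, map_one, map_mul, hσc]
    linear_combination (-c) * ha₀
  have hcomm := QQ_comm hf v a hv0 hau haa (c * a₀) β₁ 1 β₂ ((frobEquiv hF) c) hz
  obtain ⟨B, hB⟩ := exists_lift n _ hQ₁
  obtain ⟨C, hC⟩ := exists_lift n _ hQ₂
  refine ⟨B, C, ?_⟩
  apply phi_injective n
  rw [map_commutatorElement, hB, hC, commutatorElement_def, hcomm]
  have : phi n A = ut hf v hv0 ((frobEquiv hF) c) := by
    apply Units.ext
    rw [phi_coe, hA, ut_coe' hF]
    rw [← frobEquiv_apply hF, hf.involutive]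
  rw [this]
  group

end Concrete

/-- In SU_n(q) with n ≥ 4, or n = 3 and q > 2, every element whose matrix is a unitary transvection x ↦ x + c h(x, v) v (v isotropic) is a commutator ⁅B, C⁆ of two elements of SU_n(q). -/
theorem result {F : Type*} [Field F] [Fintype F] {q : ℕ} (hF : Fintype.card F = q ^ 2) (n : ℕ) (hn : 4 ≤ n ∨ (n = 3 ∧ 3 ≤ q)) (A : ↥(Cfsg.SU n F q)) (v : Fin n → F) (c : F) (hv0 : Cfsg.hermForm n F q v v = 0) (hA : ((A : Matrix.SpecialLinearGroup (Fin n) F) : Matrix (Fin n) (Fin n) F) = Cfsg.unitaryTransvection n q v c) : A ∈ commutatorSet ↥(Cfsg.SU n F q) := by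
  exact main hF n hn A v c hv0 hA

end Part1

end Cfsg.Agent.S0781
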