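import Cfsg.Statements.S2578
import Mathlib
import Cfsg.Agent.H9.RegUni

set_option autoImplicit false

namespace Cfsg.Agent.S2578

open Module Matrix Cfsg.Agent.H9.RegUni

variable {F : Type*} [Field F] {n : ℕ}

theorem IsReg.conj (g : GL (Fin n) F) {u : Matrix (Fin n) (Fin n) F} (hu : IsReg u) :
    IsReg ((g : Matrix (Fin n) (Fin n) F) * u * ((g⁻¹ : GL (Fin n) F) : Matrix (Fin n) (Fin n) F)) := by
  have h1 : (g : Matrix (Fin n) (Fin n) F) * u * ((g⁻¹ : GL (Fin n) F) : Matrix (Fin n) (Fin n) F) - 1 =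
      (g : Matrix (Fin n) (Fin n) F) * (u - 1) * ((g⁻¹ : GL (Fin n) F) : Matrix (Fin n) (Fin n) F) := by
    rw [Matrix.mul_sub, Matrix.sub_mul, Matrix.mul_one, ← Units.val_mul, mul_inv_cancel, Units.val_one]
  refine ⟨?_, ?_⟩
  · rw [h1, Units.conj_pow, hu.1, Matrix.mul_zero, Matrix.zero_mul]
  · rw [h1, Matrix.rank_mul_eq_left_of_isUnit_det _ _ (Matrix.isUnits_det_units g⁻¹),
      Matrix.rank_mul_eq_right_of_isUnit_det _ _ (Matrix.isUnits_det_units g)]
    exact hu.2

/-- `diag(d,1,…,1)`. -/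
noncomputable def gd (hn : 1 ≤ n) (d : Fˣ) : GL (Fin n) F :=
  Matrix.GeneralLinearGroup.mkOfDetNeZero
    (Matrix.diagonal (fun i : Fin n => if i = ⟨0, hn⟩ then (d : F) else 1)) (by
      rw [Matrix.det_diagonal, Finset.prod_ite_eq' Finset.univ (⟨0, hn⟩ : Fin n) (fun _ => (d : F)),
        if_pos (Finset.mem_univ _)]
      exact d.ne_zero)

theorem det_gd (hn : 1 ≤ n) (d : Fˣ) : Matrix.GeneralLinearGroup.det (gd hn d) = d := by
  apply Units.ext
  change (Matrix.diagonal (fun i : Fin n => if i = ⟨0, hn⟩ then (d : F) else 1)).det = d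
  rw [Matrix.det_diagonal, Finset.prod_ite_eq' Finset.univ (⟨0, hn⟩ : Fin n) (fun _ => (d : F)),
    if_pos (Finset.mem_univ _)]

/-- scalar matrices in `GL`. -/
noncomputable def sc (a : Fˣ) : GL (Fin n) F :=
  Units.map ((Matrix.scalar (Fin n) : F →+* Matrix (Fin n) (Fin n) F) : F →* Matrix (Fin n) (Fin n) F) a

theorem sc_comm (a : Fˣ) (g : GL (Fin n) F) : sc a * g = g * sc a := by
  apply Units.ext
  change Matrix.scalar (Fin n) (a : F) * (g : Matrix (Fin n) (Fin n) F) = g * Matrix.scalar (Fin n) (a : F)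
  exact (Matrix.scalar_commute (a : F) (fun r => Commute.all _ r) _).eq

theorem det_sc (a : Fˣ) : Matrix.GeneralLinearGroup.det (sc (n := n) a) = a ^ n := by
  apply Units.ext
  change (Matrix.scalar (Fin n) (a : F)).det = _
  rw [Matrix.scalar_apply, Matrix.det_diagonal, Finset.prod_const, Finset.card_univ, Fintype.card_fin,
    Units.val_pow_eq_pow_val]

theorem slconj (u u' : Matrix.SpecialLinearGroup (Fin n) F) (k : GL (Fin n) F)
    (hk : Matrix.GeneralLinearGroup.det k = 1)
    (h : k * Matrix.SpecialLinearGroup.toGL u = Matrix.SpecialLinearGroup.toGL u' * k) :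
    IsConj u u' := by
  have hk' : (k : Matrix (Fin n) (Fin n) F).det = 1 := by
    have := congrArg Units.val hk
    exact this
  set kS : Matrix.SpecialLinearGroup (Fin n) F := ⟨(k : Matrix (Fin n) (Fin n) F), hk'⟩ with hkS
  rw [isConj_iff]
  refine ⟨kS, ?_⟩
  rw [mul_inv_eq_iff_eq_mul]
  apply Subtype.ext
  have := congrArg Units.val h
  exact this

/-- Regular unipotent classes of SL_n(q): for n ≥ 2 over the field with q elements, the matrices u of determinant one with (u − 1)^n = 0 and rank(u − 1) = n − 1 form a single GL_n(q)-class which splits into exactly gcd(n, q − 1) conjugacy classes of SL_n(q). -/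
theorem result {F : Type*} [Field F] [Fintype F] {q : ℕ} (hF : Fintype.card F = q) {n : ℕ} (hn : 2 ≤ n) : Nat.card {C : ConjClasses (Matrix.SpecialLinearGroup (Fin n) F) // ∃ u : Matrix.SpecialLinearGroup (Fin n) F, ConjClasses.mk u = C ∧ ((u : Matrix (Fin n) (Fin n) F) - 1) ^ n = 0 ∧ ((u : Matrix (Fin n) (Fin n) F) - 1).rank = n - 1} = Nat.gcd n (q - 1) := by
  classical
  have hn1 : 1 ≤ n := by omega
  obtain ⟨U0, hU0det, hU0⟩ := exists_isReg (F := F) hn1
  set u₀ : Matrix.SpecialLinearGroup (Fin n) F := ⟨U0, hU0det⟩ with hu₀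
  set U0G : GL (Fin n) F := Matrix.SpecialLinearGroup.toGL u₀ with hU0G
  set P : Subgroup Fˣ := (powMonoidHom n : Fˣ →* Fˣ).range with hP
  -- the conjugates
  have hdetconj : ∀ d : Fˣ, (((gd hn1 d : GL (Fin n) F) : Matrix (Fin n) (Fin n) F) * U0 *
      (((gd hn1 d)⁻¹ : GL (Fin n) F) : Matrix (Fin n) (Fin n) F)).det = 1 := by
    intro d
    rw [Matrix.det_units_conj, hU0det]
  let ud : Fˣ → Matrix.SpecialLinearGroup (Fin n) F := fun d => ⟨_, hdetconj d⟩
  have hudG : ∀ d, Matrix.SpecialLinearGroup.toGL (ud d) = gd hn1 d * U0G * (gd hn1 d)⁻¹ := by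
    intro d
    apply Units.ext
    rfl
  have hudreg : ∀ d, IsReg ((ud d : Matrix.SpecialLinearGroup (Fin n) F) : Matrix (Fin n) (Fin n) F) :=
    fun d => IsReg.conj (gd hn1 d) hU0
  -- the key equivalence
  have key : ∀ d d' : Fˣ, IsConj (ud d) (ud d') ↔ d⁻¹ * d' ∈ P := by
    intro d d'
    constructor
    · intro hconj
      obtain ⟨h, hh⟩ := isConj_iff.1 hconj
      have hh' : Matrix.SpecialLinearGroup.toGL h * (gd hn1 d * U0G * (gd hn1 d)⁻¹) *
          (Matrix.SpecialLinearGroup.toGL h)⁻¹ = gd hn1 d' * U0G * (gd hn1 d')⁻¹ := by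
        rw [← hudG, ← hudG, ← map_inv, ← map_mul, ← map_mul, hh]
      set H := Matrix.SpecialLinearGroup.toGL h with hH
      set A := gd hn1 d with hA
      set B := gd hn1 d' with hB
      set c : GL (Fin n) F := B⁻¹ * H * A with hc
      have hcU : c * U0G = U0G * c := by
        calc c * U0G = B⁻¹ * (H * (A * U0G * A⁻¹) * H⁻¹) * H * A := by rw [hc]; group
          _ = B⁻¹ * (B * U0G * B⁻¹) * H * A := by rw [hh']
          _ = U0G * c := by rw [hc]; group
      have hcU' : (c : Matrix (Fin n) (Fin n) F) * U0 = U0 * (c : Matrix (Fin n) (Fin n) F) := by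
        have := congrArg Units.val hcU
        exact this
      obtain ⟨a, ha⟩ := det_of_commute hn1 U0 hU0 _ hcU'
      have hdetc : Matrix.GeneralLinearGroup.det c = d'⁻¹ * d := by
        rw [hc, map_mul, map_mul, map_inv, hA, hB, det_gd, det_gd]
        have : Matrix.GeneralLinearGroup.det H = 1 := by
          apply Units.ext
          change (h : Matrix (Fin n) (Fin n) F).det = 1
          exact h.2
        rw [this, mul_one]
      have ha' : ((d'⁻¹ * d : Fˣ) : F) = a ^ n := by
        rw [← hdetc]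
        exact ha
      have ha0 : a ≠ 0 := by
        rintro rfl
        rw [zero_pow (by omega)] at ha'
        exact (d'⁻¹ * d).ne_zero ha'
      refine ⟨(Units.mk0 a ha0)⁻¹, ?_⟩
      rw [powMonoidHom_apply, inv_pow]
      have h3 : (Units.mk0 a ha0) ^ n = d'⁻¹ * d := by
        apply Units.ext
        rw [Units.val_pow_eq_pow_val, Units.val_mk0, ha']
      rw [h3, _root_.mul_inv_rev, inv_inv]
    · rintro ⟨a, ha⟩
      rw [powMonoidHom_apply] at ha
      set A := gd hn1 d with hA
      set B := gd hn1 d' with hB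
      set k : GL (Fin n) F := B * sc a⁻¹ * A⁻¹ with hk
      apply slconj (ud d) (ud d') k
      · rw [hk, map_mul, map_mul, map_inv, det_sc, hA, hB, det_gd, det_gd, inv_pow, ha]
        rw [_root_.mul_inv_rev, inv_inv]
        group
      · rw [hudG, hudG, hk]
        have hs := sc_comm (a⁻¹ : Fˣ) U0G
        calc B * sc a⁻¹ * A⁻¹ * (A * U0G * A⁻¹) = B * (sc a⁻¹ * U0G) * A⁻¹ := by group
          _ = B * (U0G * sc a⁻¹) * A⁻¹ := by rw [hs]
          _ = B * U0G * B⁻¹ * (B * sc a⁻¹ * A⁻¹) := by group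
  -- the map
  let T := {C : ConjClasses (Matrix.SpecialLinearGroup (Fin n) F) //
    ∃ u : Matrix.SpecialLinearGroup (Fin n) F, ConjClasses.mk u = C ∧
      ((u : Matrix (Fin n) (Fin n) F) - 1) ^ n = 0 ∧ ((u : Matrix (Fin n) (Fin n) F) - 1).rank = n - 1}
  let Φ : Fˣ → T := fun d => ⟨ConjClasses.mk (ud d), ⟨ud d, rfl, hudreg d⟩⟩
  have hΦ : ∀ d d' : Fˣ, Φ d = Φ d' ↔ d⁻¹ * d' ∈ P := by
    intro d d'
    rw [← key]
    constructor
    · intro h
      have := congrArg Subtype.val h
      exact ConjClasses.mk_eq_mk_iff_isConj.1 this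
    · intro h
      apply Subtype.ext
      exact ConjClasses.mk_eq_mk_iff_isConj.2 h
  have hΦsurj : Function.Surjective Φ := by
    rintro ⟨C, u, rfl, hu⟩
    obtain ⟨g, hg⟩ := exists_conj hn1 U0 (u : Matrix (Fin n) (Fin n) F) hU0 hu
    set d := Matrix.GeneralLinearGroup.det g with hd
    refine ⟨d, ?_⟩
    apply Subtype.ext
    apply ConjClasses.mk_eq_mk_iff_isConj.2
    have hgG : g * U0G = Matrix.SpecialLinearGroup.toGL u * g := by
      apply Units.ext
      exact hg
    apply slconj (ud d) u (g * (gd hn1 d)⁻¹)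
    · rw [map_mul, map_inv, det_gd, hd, mul_inv_cancel]
    · rw [hudG]
      calc g * (gd hn1 d)⁻¹ * (gd hn1 d * U0G * (gd hn1 d)⁻¹) = (g * U0G) * (gd hn1 d)⁻¹ := by group
        _ = Matrix.SpecialLinearGroup.toGL u * g * (gd hn1 d)⁻¹ := by rw [hgG]
        _ = Matrix.SpecialLinearGroup.toGL u * (g * (gd hn1 d)⁻¹) := by group
  -- the quotient
  let Ψ : Fˣ ⧸ P → T := Quotient.lift Φ (by
    intro a b hab
    rw [hΦ]
    exact QuotientGroup.leftRel_apply.1 hab)
  have hΨbij : Function.Bijective Ψ := by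
    constructor
    · intro x y
      induction x using QuotientGroup.induction_on with
      | H a =>
        induction y using QuotientGroup.induction_on with
        | H b =>
          intro h
          have h' : Φ a = Φ b := h
          rw [hΦ] at h'
          exact QuotientGroup.eq.2 h'
    · intro t
      obtain ⟨d, hd⟩ := hΦsurj t
      exact ⟨QuotientGroup.mk d, hd⟩
  change Nat.card T = _
  rw [← Nat.card_congr (Equiv.ofBijective Ψ hΨbij)]
  change P.index = _
  rw [hP, IsCyclic.index_powMonoidHom_range, Nat.card_units, Nat.card_eq_fintype_card, hF,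
    Nat.gcd_comm]

end Cfsg.Agent.S2578
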