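import Mathlib
import Cfsg.Statements.S2587
import Cfsg.Agent.Lib.Helper8.GUConjD

set_option autoImplicit false
open Cfsg

namespace Cfsg.Agent.S2587

open Matrix Cfsg.Agent.S0277 Cfsg.Agent.Lib.Helper8.SUReg Cfsg.Agent.Lib.Helper8.GUConj

/-- Conjugacy in the finite general unitary group is controlled by the general linear group: two elements of GU_n(q) (the invertible matrices over the field with q² elements preserving the Hermitian form Σ u_i v_i^q) are conjugate in GU_n(q) if and only if they are conjugate in GL_n(q²). -/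
theorem result {K : Type*} [Field K] [Fintype K] {q n : ℕ} (hK : Fintype.card K = q ^ 2) (A B : ↥(Cfsg.GU n K q)) : IsConj A B ↔ IsConj (A : GL (Fin n) K) (B : GL (Fin n) K) := by
  classical
  obtain ⟨σ, hσ, hσne, hσ2⟩ := Cfsg.Agent.S0277.exists_frob hK
  set σe : K ≃+* K := RingEquiv.ofRingHom σ σ (RingHom.ext hσ2) (RingHom.ext hσ2) with hσe
  have hσe_ne : σe ≠ RingEquiv.refl K := by
    intro h
    apply hσne
    ext x
    have := congrArg (fun f : K ≃+* K => f x) h
    exact this
  have htr : ∀ b : K, σ b = b → ∃ y : K, y + σ y = b := fun b hb =>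
    Cfsg.Agent.Lib.Helper8.Unitary.tr_surj (σ := σe) hσe_ne hσ2 b hb
  constructor
  · intro h
    exact (Subgroup.subtype (Cfsg.GU n K q)).map_isConj h
  · intro h
    obtain ⟨g, hg⟩ := isConj_iff.1 h
    have hAU := (mem_GU_iff σ hσ (A : GL (Fin n) K)).1 A.2
    have hBU := (mem_GU_iff σ hσ (B : GL (Fin n) K)).1 B.2
    have hgAB : (g : Matrix (Fin n) (Fin n) K) * ((A : GL (Fin n) K) : Matrix (Fin n) (Fin n) K) =
        ((B : GL (Fin n) K) : Matrix (Fin n) (Fin n) K) * (g : Matrix (Fin n) (Fin n) K) := by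
      have e : g * (A : GL (Fin n) K) = (B : GL (Fin n) K) * g := by
        rw [← hg]
        group
      exact congrArg Units.val e
    have hgdet : (g : Matrix (Fin n) (Fin n) K).det ≠ 0 := by
      have := (Matrix.isUnits_det_units g)
      exact this.ne_zero
    obtain ⟨h', hU, hc⟩ := exists_unitary_conj_of_conj σ hσ2 hσne htr _ _ _ hAU hBU hgdet hgAB
    have hdet : (adj σ h').det * h'.det = 1 := by
      rw [← Matrix.det_mul, hU, Matrix.det_one]
    set hG : GL (Fin n) K := Matrix.GeneralLinearGroup.mkOfDetNeZero h'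
      (right_ne_zero_of_mul_eq_one hdet) with hhG
    have hGU : hG ∈ Cfsg.GU n K q := (mem_GU_iff σ hσ hG).2 hU
    rw [isConj_iff]
    refine ⟨⟨hG, hGU⟩, ?_⟩
    rw [mul_inv_eq_iff_eq_mul]
    apply Subtype.ext
    apply Units.ext
    exact hc

end Cfsg.Agent.S2587
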