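import Cfsg.Statements.S0249
import Mathlib
import Cfsg.Agent.Lib.Helper5.SLn

set_option autoImplicit false
open Cfsg

namespace Cfsg.Agent.S0249

open Matrix Matrix.SpecialLinearGroup
open scoped MatrixGroups LinearAlgebra.Projectivization
open MulAction

variable {F : Type*} [Field F] {ι : Type*} [DecidableEq ι] [Fintype ι]

/-- Every transvection lies in the supremum of the line stabilisers. -/
theorem transvection_mem_iSup {i j : ι} (hij : i ≠ j) (b : F) :
    SpecialLinearGroup.transvection hij b ∈
      (⨆ p : ℙ F (ι → F), lineStab p.submodule : Subgroup (SpecialLinearGroup ι F)) := by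
  have h1 := SL2Gen.transvection_mem_lineStab (F := F) hij b
  have hne : (Pi.single i (1 : F) : ι → F) ≠ 0 := Pi.single_ne_zero_iff.2 one_ne_zero
  rw [← Projectivization.submodule_mk (K := F) _ hne] at h1
  exact (le_iSup (fun p : ℙ F (ι → F) => lineStab p.submodule) _) h1

theorem iSup_lineStab_eq_top [Nontrivial ι] :
    (⨆ p : ℙ F (ι → F), lineStab p.submodule) = (⊤ : Subgroup (SpecialLinearGroup ι F)) := by
  refine le_antisymm le_top (fun A _ ↦ ?_)
  refine diagonal_transvection_induction'
    (fun A => A ∈ (⨆ p : ℙ F (ι → F), lineStab p.submodule : Subgroup (SpecialLinearGroup ι F))) A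
    ?_ (fun i j hij a => transvection_mem_iSup hij a) (fun _ _ ↦ mul_mem)
  intro i j hij c hc
  rw [Cfsg.Agent.Lib.Helper5.SLn.diag2n_decompose hij c hc]
  exact mul_mem (mul_mem (mul_mem (mul_mem (mul_mem (transvection_mem_iSup _ _)
    (transvection_mem_iSup _ _)) (transvection_mem_iSup _ _))
    (transvection_mem_iSup _ _)) (transvection_mem_iSup _ _)) (transvection_mem_iSup _ _)

theorem iSup_iwasawaT_eq_top [Nontrivial ι] :
    iSup (PSL.iwasawaT (F := F) (ι := ι)) = ⊤ := by
  have step1 : iSup (PSL.iwasawaT (F := F) (ι := ι)) =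
      Subgroup.map (QuotientGroup.mk' (Subgroup.center (Matrix.SpecialLinearGroup ι F)))
        (⨆ p : ℙ F (ι → F),
          Matrix.SpecialLinearGroup.lineStab (F := F) (ι := ι) p.submodule) := by
    rw [Subgroup.map_iSup]
  rw [step1, iSup_lineStab_eq_top]
  exact Subgroup.map_top_of_surjective _ (QuotientGroup.mk'_surjective _)

/-- The Iwasawa structure on PSL(ι, F). -/
noncomputable def iwasawa [Nontrivial ι] :
    IwasawaStructure (Matrix.ProjectiveSpecialLinearGroup ι F) (ℙ F (ι → F)) where
  T := PSL.iwasawaT
  is_comm p := by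
    have hSL : IsMulCommutative (lineStab (F := F) (ι := ι) p.submodule) := by
      rw [← Projectivization.mk_rep p, Projectivization.submodule_mk]
      exact lineStab_isMulCommutative_of_span p.rep p.rep_nonzero
    exact Subgroup.map_isMulCommutative _ _
  is_conj g p := by
    obtain ⟨g_SL, rfl⟩ := QuotientGroup.mk_surjective g
    rw [Matrix.ProjectiveSpecialLinearGroup.smul_proj_mk]
    change Subgroup.map _ _ = _
    rw [PSL.smul_submodule, Matrix.SpecialLinearGroup.lineStab_smul,
      PSL.iwasawaT_map_conj]
  is_generator := iSup_iwasawaT_eq_top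

theorem exists_third {n : ℕ} (hn : 3 ≤ n) (i j : Fin n) : ∃ k : Fin n, k ≠ i ∧ k ≠ j := by
  by_contra h
  push Not at h
  have hsub : (Finset.univ : Finset (Fin n)) ⊆ {i, j} := by
    intro k _
    by_cases hk : k = i
    · simp [hk]
    · simp [h k hk]
  have h1 := Finset.card_le_card hsub
  have h2 : ({i, j} : Finset (Fin n)).card ≤ 2 := Finset.card_le_two
  simp at h1
  omega

/-- For any field and n at least 3, the projective special linear group PSL_n is simple. -/
theorem result {F : Type*} [Field F] (n : ℕ) (hn : 3 ≤ n) : IsSimpleGroup (Matrix.ProjectiveSpecialLinearGroup (Fin n) F) := by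
  have hnt : Nontrivial (Fin n) := Fin.nontrivial_iff_two_le.2 (by omega)
  have hperf : commutator (SpecialLinearGroup (Fin n) F) = ⊤ :=
    Cfsg.Agent.Lib.Helper5.SLn.commutator_eq_top (Or.inl (exists_third hn))
  have : Group.IsPerfect (SpecialLinearGroup (Fin n) F) := ⟨hperf⟩
  have : Group.IsPerfect (Matrix.ProjectiveSpecialLinearGroup (Fin n) F) := inferInstance
  exact MulAction.IwasawaStructure.isSimpleGroup this.commutator_eq_top iwasawa inferInstance

end Cfsg.Agent.S0249
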