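import Cfsg.Statements.S0253
import Mathlib
import Cfsg.Agent.Lib.Helper5.SLn
import Cfsg.Agent.S0243
import Cfsg.Agent.S0249
import Cfsg.Agent.S0494

set_option autoImplicit false
open Cfsg

namespace Cfsg.Agent.S0253

open Matrix Matrix.SpecialLinearGroup

/-- `PSL_2(F)` is simple as soon as `F` has an element `x ≠ 0` with `x² ≠ 1`. -/
theorem psl_two_simple {F : Type*} [Field F] (h : ∃ x : F, x ≠ 0 ∧ x ^ 2 ≠ 1) :
    IsSimpleGroup (Matrix.ProjectiveSpecialLinearGroup (Fin 2) F) := by
  have hperf : commutator (SpecialLinearGroup (Fin 2) F) = ⊤ :=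
    Cfsg.Agent.Lib.Helper5.SLn.commutator_eq_top (Or.inr h)
  have : Group.IsPerfect (SpecialLinearGroup (Fin 2) F) := ⟨hperf⟩
  have : Group.IsPerfect (Matrix.ProjectiveSpecialLinearGroup (Fin 2) F) := inferInstance
  exact MulAction.IwasawaStructure.isSimpleGroup this.commutator_eq_top
    Cfsg.Agent.S0249.iwasawa inferInstance

theorem result {F : Type*} [Field F] [Fintype F] (hF : Fintype.card F = 5) : Nonempty (Matrix.ProjectiveSpecialLinearGroup (Fin 2) F ≃* alternatingGroup (Fin 5)) := by
  have hsimple : IsSimpleGroup (Matrix.ProjectiveSpecialLinearGroup (Fin 2) F) := by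
    apply psl_two_simple
    have hchar : CharP F 5 := by
      obtain ⟨p, hp⟩ := CharP.exists F
      obtain ⟨n, hprime, hcard⟩ := FiniteField.card F p
      rw [hF] at hcard
      have : p = 5 := by
        have h5 : Nat.Prime 5 := by norm_num
        have hdvd : p ∣ 5 := by
          have : p ∣ p ^ (n : ℕ) := dvd_pow_self p n.ne_zero
          rw [← hcard] at this
          exact this
        exact (Nat.prime_dvd_prime_iff_eq hprime h5).1 hdvd
      rw [← this]; exact hp
    refine ⟨2, ?_, ?_⟩
    · intro h2
      have : ((2 : ℕ) : F) = 0 := by exact_mod_cast h2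
      rw [CharP.cast_eq_zero_iff F 5] at this
      omega
    · intro h2
      have : ((3 : ℕ) : F) = 0 := by
        push_cast
        linear_combination h2
      rw [CharP.cast_eq_zero_iff F 5] at this
      omega
  have hcard : Nat.card (Matrix.ProjectiveSpecialLinearGroup (Fin 2) F) = 60 := by
    have := Cfsg.Agent.S0243.result hF 2 le_rfl
    simp [Fin.prod_univ_two] at this
    omega
  have : Finite (Matrix.ProjectiveSpecialLinearGroup (Fin 2) F) :=
    Nat.finite_of_card_ne_zero (by rw [hcard]; norm_num)
  exact Cfsg.Agent.S0494.result hcard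

end Cfsg.Agent.S0253
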