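import Cfsg.Statements.S0289
import Mathlib
import Cfsg.Agent.Lib.Helper5.Count

set_option autoImplicit false
open Cfsg

namespace Cfsg.Agent.S0289

open Matrix

/-- The hyperbolic quadratic form on F^(2m), m at least 1, has q^(2m-1) + q^m - q^(m-1) zeros (that is, (q^m - 1)(q^(m-1) + 1) non-zero isotropic vectors). -/
theorem result {F : Type*} [Field F] [Fintype F] {q : ℕ} (hF : Fintype.card F = q) (m : ℕ) (hm : 1 ≤ m) : Nat.card {v : Fin m ⊕ Fin m → F // Cfsg.quadFormPlus m F v = 0} = q ^ (2 * m - 1) + q ^ m - q ^ (m - 1) := by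
  classical
  have e : {v : Fin m ⊕ Fin m → F // Cfsg.quadFormPlus m F v = 0} ≃
      {p : (Fin m → F) × (Fin m → F) × Unit // p.1 ⬝ᵥ p.2.1 = (fun _ : Unit => (0 : F)) p.2.2} :=
    { toFun := fun v => ⟨(fun i => v.1 (Sum.inl i), fun i => v.1 (Sum.inr i), ()), v.2⟩
      invFun := fun p => ⟨Sum.elim p.1.1 p.1.2.1, p.2⟩
      left_inv := fun v => by
        apply Subtype.ext
        funext i
        rcases i with i | i <;> rfl
      right_inv := fun p => by rfl }
  rw [Nat.card_congr e, Cfsg.Agent.Lib.Helper5.Count.card_triples m (fun _ : Unit => (0 : F))]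
  have hz : Nat.card {z : Unit // (fun _ : Unit => (0 : F)) z = 0} = 1 := by
    rw [Nat.card_eq_one_iff_unique]
    exact ⟨⟨fun a b => Subtype.ext rfl⟩, ⟨⟨(), rfl⟩⟩⟩
  rw [hz, hF, Fintype.card_unit, one_mul, one_mul]
  have hq : 1 ≤ q := by
    rw [← hF]; exact Fintype.card_pos
  obtain ⟨k, rfl⟩ : ∃ k, m = k + 1 := ⟨m - 1, by omega⟩
  have h1 : q ^ (2 * (k + 1) - 1) = q ^ (k + 1) * q ^ k := by
    rw [← pow_add]; congr 1; omega
  have h2 : 1 ≤ q ^ (k + 1) := Nat.one_le_pow _ _ hq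
  simp only [Nat.add_sub_cancel]
  rw [h1]
  have h3 : (q ^ (k + 1) - 1) * q ^ k + q ^ k = q ^ (k + 1) * q ^ k := by
    rw [← Nat.succ_mul, Nat.succ_eq_add_one, Nat.sub_add_cancel h2]
  omega

end Cfsg.Agent.S0289
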