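import Cfsg.Statements.S0287
import Mathlib
import Cfsg.Agent.Lib.Helper5.QuadCount
import Cfsg.Agent.Lib.Helper5.QuadFrames
import Cfsg.Agent.S0289

set_option autoImplicit false
open Cfsg

namespace Cfsg.Agent.S0287

open Matrix Cfsg.Agent.S0750 Cfsg.Agent.Lib.Helper5.QuadCount Cfsg.Agent.Lib.Helper5.QuadFrames

section
variable {F : Type*} [Field F] (m : ℕ)

/-- the bilinear form `Σ u_i v'_i` -/
def betaP : LinearMap.BilinForm F (Fin m ⊕ Fin m → F) :=
  Matrix.toBilin' (Matrix.fromBlocks 0 1 0 0)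

theorem betaP_apply (u v : Fin m ⊕ Fin m → F) :
    betaP m u v = ∑ i, u (Sum.inl i) * v (Sum.inr i) := by
  unfold betaP
  rw [Matrix.toBilin'_apply']
  simp [dotProduct, Fintype.sum_sum_type, Matrix.mulVec, Matrix.fromBlocks, Matrix.one_apply]

/-- the hyperbolic quadratic form -/
def QP : QuadraticForm F (Fin m ⊕ Fin m → F) := (betaP m).toQuadraticMap

theorem QP_apply (v : Fin m ⊕ Fin m → F) : QP m v = quadFormPlus m F v := by
  unfold QP
  rw [LinearMap.BilinMap.toQuadraticMap_apply, betaP_apply]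
  rfl

theorem QP_coe : ⇑(QP (F := F) m) = quadFormPlus m F := funext (QP_apply m)

theorem polar_apply (u v : Fin m ⊕ Fin m → F) :
    QuadraticMap.polarBilin (QP m) u v =
      ∑ i, (u (Sum.inl i) * v (Sum.inr i) + u (Sum.inr i) * v (Sum.inl i)) := by
  unfold QP
  rw [LinearMap.BilinMap.polarBilin_toQuadraticMap, LinearMap.add_apply, LinearMap.add_apply,
    LinearMap.flip_apply, betaP_apply, betaP_apply, ← Finset.sum_add_distrib]
  apply Finset.sum_congr rfl
  intro i _
  ring

theorem nondegenerate : (QuadraticMap.polarBilin (QP (F := F) m)).Nondegenerate := by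
  have key : ∀ x : Fin m ⊕ Fin m → F,
      (∀ y, QuadraticMap.polarBilin (QP m) x y = 0) → x = 0 := by
    intro x hx
    funext c
    rcases c with i | i
    · have := hx (Pi.single (Sum.inr i) 1)
      rw [polar_apply] at this
      simpa [Pi.single_apply] using this
    · have := hx (Pi.single (Sum.inl i) 1)
      rw [polar_apply] at this
      simpa [Pi.single_apply] using this
  constructor
  · exact key
  · intro y hy
    apply key
    intro x
    rw [B_comm]
    exact hy x

theorem QP_single (c : Fin m ⊕ Fin m) : QP (F := F) m (Pi.single c 1) = 0 := by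
  rw [QP_apply]
  unfold quadFormPlus
  apply Finset.sum_eq_zero
  intro i _
  rcases c with j | j <;> simp [Pi.single_apply]

theorem polar_single (c c' : Fin m ⊕ Fin m) :
    QuadraticMap.polarBilin (QP (F := F) m) (Pi.single c 1) (Pi.single c' 1) =
      if c = Sum.swap c' then 1 else 0 := by
  classical
  rw [polar_apply]
  rcases c with i | i <;> rcases c' with j | j <;>
    simp [Pi.single_apply, Finset.sum_ite_eq, eq_comm]

/-- frames are hyperbolic bases -/
def frameEquiv : {x : Fin m ⊕ Fin m → (Fin m ⊕ Fin m → F) // IsFrame (QP m) x} ≃ HB (QP (F := F) m) m where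
  toFun x := ⟨(fun i => x.1 (Sum.inl i), fun i => x.1 (Sum.inr i)), by
    obtain ⟨h1, h2⟩ := x.2
    refine ⟨fun i j => ?_, fun i j => ?_, fun i j => ?_, fun i => ?_, fun i => ?_⟩
    · rw [h2, polar_single]; simp
    · rw [h2, polar_single]; simp
    · rw [h2, polar_single]; simp
    · rw [h1, QP_single]
    · rw [h1, QP_single]⟩
  invFun p := ⟨Sum.elim p.1.1 p.1.2, by
    obtain ⟨h1, h2, h3, h4, h5⟩ := p.2
    refine ⟨?_, ?_⟩
    · rintro (i | i)
      · rw [QP_single]; exact h4 i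
      · rw [QP_single]; exact h5 i
    · rintro (i | i) (j | j)
      · rw [polar_single]; simpa using h2 i j
      · rw [polar_single]; simpa using h1 i j
      · rw [polar_single, B_comm]
        simp only [Sum.elim_inr, Sum.elim_inl, Sum.swap_inl, Sum.inr.injEq]
        rw [h1 j i]
        simp [eq_comm]
      · rw [polar_single]; simpa using h3 i j⟩
  left_inv x := by
    apply Subtype.ext
    funext c
    rcases c with i | i <;> rfl
  right_inv p := rfl

end

section arith
variable (q : ℕ)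

/-- number of singular vectors of the hyperbolic form -/
def zP : ℕ → ℕ
  | 0 => 1
  | (l + 1) => (q ^ (l + 1) - 1) * (q ^ l + 1) + 1

theorem zP_rec (hq : 1 ≤ q) (j : ℕ) :
    zP q (j + 1) = q * zP q j + (q - 1) * q ^ (0 + 2 * j) := by
  cases j with
  | zero =>
    simp only [zP]
    obtain ⟨t, rfl⟩ : ∃ t, q = t + 1 := ⟨q - 1, by omega⟩
    simp
    ring
  | succ l =>
    simp only [zP]
    have h1 : 1 ≤ q ^ (l + 1 + 1) := Nat.one_le_pow _ _ hq
    have h2 : 1 ≤ q ^ (l + 1) := Nat.one_le_pow _ _ hq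
    zify [h1, h2, hq]
    ring

theorem zP_eq (hq : 1 ≤ q) (m : ℕ) (hm : 1 ≤ m) :
    q ^ (2 * m - 1) + q ^ m - q ^ (m - 1) = zP q m := by
  obtain ⟨l, rfl⟩ : ∃ l, m = l + 1 := ⟨m - 1, by omega⟩
  simp only [zP, Nat.add_sub_cancel]
  have h1 : 1 ≤ q ^ (l + 1) := Nat.one_le_pow _ _ hq
  have h2 : q ^ l ≤ q ^ (2 * (l + 1) - 1) + q ^ (l + 1) := by
    have : q ^ l ≤ q ^ (l + 1) := Nat.pow_le_pow_right hq (by omega)
    omega
  have h3 : 2 * (l + 1) - 1 = 2 * l + 1 := by omega
  rw [h3] at h2 ⊢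
  zify [h1, h2]
  ring

theorem prod_eq (hq : 1 ≤ q) (m : ℕ) (hm : 1 ≤ m) :
    ∏ i ∈ Finset.range m, ((zP q (m - i) - 1) * q ^ (0 + 2 * (m - i - 1))) =
      2 * q ^ (m * (m - 1)) * (q ^ m - 1) * ∏ i ∈ Finset.range (m - 1), (q ^ (2 * (i + 1)) - 1) := by
  have h1 : ∏ i ∈ Finset.range m, ((zP q (m - i) - 1) * q ^ (0 + 2 * (m - i - 1))) =
      ∏ l ∈ Finset.range m, ((q ^ (l + 1) - 1) * (q ^ l + 1) * q ^ (2 * l)) := by
    rw [← Finset.prod_range_reflect]
    apply Finset.prod_congr rfl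
    intro i hi
    rw [Finset.mem_range] at hi
    have e1 : m - (m - 1 - i) = i + 1 := by omega
    have e2 : m - (m - 1 - i) - 1 = i := by omega
    rw [e2, e1]
    simp only [zP, Nat.add_sub_cancel, zero_add]
  rw [h1]
  obtain ⟨k, rfl⟩ : ∃ k, m = k + 1 := ⟨m - 1, by omega⟩
  simp only [Nat.add_sub_cancel]
  clear h1 hm
  induction k with
  | zero => simp; ring
  | succ k ih =>
    rw [Finset.prod_range_succ, ih, Finset.prod_range_succ (fun i => q ^ (2 * (i + 1)) - 1)]
    have h2 : 1 ≤ q ^ (k + 1) := Nat.one_le_pow _ _ hq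
    have h3 : 1 ≤ q ^ (k + 1 + 1) := Nat.one_le_pow _ _ hq
    have h4 : 1 ≤ q ^ (2 * (k + 1)) := Nat.one_le_pow _ _ hq
    have h5 : (q ^ (k + 1) - 1) * (q ^ (k + 1) + 1) = q ^ (2 * (k + 1)) - 1 := by
      zify [h2, h4]
      ring
    have h6 : q ^ ((k + 1 + 1) * (k + 1)) = q ^ ((k + 1) * k) * q ^ (2 * (k + 1)) := by
      rw [← pow_add]; congr 1; ring
    rw [h6, ← h5]
    ring

end arith

theorem result {F : Type*} [Field F] [Fintype F] {q : ℕ} (hF : Fintype.card F = q) (m : ℕ) (hm : 1 ≤ m) : Nat.card (Cfsg.isometryGroup F (Cfsg.quadFormPlus m F)) = 2 * q ^ (m * (m - 1)) * (q ^ m - 1) * ∏ i ∈ Finset.range (m - 1), (q ^ (2 * (i + 1)) - 1) := by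
  classical
  have hq : 1 ≤ q := by rw [← hF]; exact Fintype.card_pos
  have hcardF : Nat.card F = q := by rw [Nat.card_eq_fintype_card, hF]
  rw [← QP_coe, Nat.card_congr (equivFrame (QP m) (nondegenerate m)),
    Nat.card_congr (frameEquiv m)]
  have h := card_HB (F := F) 0 (zP q) (by
    intro j
    rw [hcardF]
    exact zP_rec q hq j) m m le_rfl (Fin m ⊕ Fin m → F) (QP m) (nondegenerate m)
    (by simp [two_mul])
    (by
      rw [← zP_eq q hq m hm, ← Cfsg.Agent.S0289.result hF m hm]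
      apply Nat.card_congr
      exact Equiv.subtypeEquivRight (fun v => by rw [QP_apply]))
  rw [h, hcardF]
  exact prod_eq q hq m hm

end Cfsg.Agent.S0287
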