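import Mathlib
import Cfsg.Statements.S2572
import Cfsg.Agent.H9.TvCount

set_option autoImplicit false

namespace Cfsg.Agent.S2572

open Module Cfsg.Agent.H9.TvCount

/-- the order formula for `GL_(m+2)(q)` with the first two factors split off. -/
theorem prod_identity (q m : ℕ) (hq : 1 ≤ q) :
    ∏ i : Fin (m + 2), (q ^ (m + 2) - q ^ (i : ℕ)) =
      (q ^ (m + 2) - 1) * (q ^ (m + 1) - 1) * (q ^ (2 * m + 1) * ∏ i : Fin m, (q ^ m - q ^ (i : ℕ))) := by
  rw [Fin.prod_univ_succ, Fin.prod_univ_succ]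
  simp only [Fin.val_zero, pow_zero, Fin.val_succ, zero_add, pow_one]
  have h1 : q ^ (m + 2) - q = q * (q ^ (m + 1) - 1) := by
    rw [Nat.mul_sub, mul_one, ← pow_succ']
  have h2 : ∀ i : Fin m, q ^ (m + 2) - q ^ ((i : ℕ) + 1 + 1) = q ^ 2 * (q ^ m - q ^ (i : ℕ)) := by
    intro i
    rw [Nat.mul_sub, ← pow_add, ← pow_add]
    congr 1 <;> ring_nf
  rw [h1, Finset.prod_congr rfl (fun i _ => h2 i), Finset.prod_mul_distrib, Finset.prod_const, Finset.card_univ,
    Fintype.card_fin, ← pow_mul]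
  have h3 : q ^ (2 * m + 1) = q * q ^ (2 * m) := by rw [pow_succ']
  rw [h3]
  ring

/-- Centraliser of a transvection in GL_n(q), n ≥ 2: if t − 1 has rank one and square zero, the centraliser of t in GL_n(q) has order q^(2n−3) (q − 1) |GL_(n−2)(q)| (a group of order q^(2n−3) extended by GL_1(q) × GL_(n−2)(q)). -/
theorem result {F : Type*} [Field F] [Fintype F] {q n : ℕ} (hF : Fintype.card F = q) (hn : 2 ≤ n) (t : GL (Fin n) F) (ht : Cfsg.IsTransvection (t : Matrix (Fin n) (Fin n) F)) : Nat.card ↥(Subgroup.centralizer ({t} : Set (GL (Fin n) F))) = q ^ (2 * n - 3) * (q - 1) * ∏ i : Fin (n - 2), (q ^ (n - 2) - q ^ (i : ℕ)) := by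
  obtain ⟨m, rfl⟩ : ∃ m, n = m + 2 := ⟨n - 2, by omega⟩
  have hq : 2 ≤ q := by rw [← hF]; exact Fintype.one_lt_card
  have h1 := card_transvections_mul_card_centralizer t ht
  have h2 := card_data_eq (F := F) (n := m + 2)
  have h3 := card_data (F := F) (n := m + 2) (by omega)
  have h4 := Matrix.card_GL_field (𝔽 := F) (m + 2)
  rw [hF] at h2 h3 h4
  rw [prod_identity q m (by omega)] at h4
  have e1 : m + 2 - 1 = m + 1 := by omega
  have e2 : m + 2 - 2 = m := by omega
  have e3 : 2 * (m + 2) - 3 = 2 * m + 1 := by omega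
  rw [e1] at h3
  rw [e3]
  simp only [e2]
  set C := Nat.card ↥(Subgroup.centralizer ({t} : Set (GL (Fin (m + 2)) F))) with hC
  set T := Nat.card {y : GL (Fin (m + 2)) F // Cfsg.IsTransvection (y : Matrix (Fin (m + 2)) (Fin (m + 2)) F)}
  set R := ∏ i : Fin m, (q ^ m - q ^ (i : ℕ)) with hR
  set X := (q ^ (m + 2) - 1) * (q ^ (m + 1) - 1) with hX
  have hXpos : 0 < X := by
    have ha : 1 < q ^ (m + 2) := Nat.one_lt_pow (by omega) hq
    have hb : 1 < q ^ (m + 1) := Nat.one_lt_pow (by omega) hq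
    exact Nat.mul_pos (by omega) (by omega)
  -- X * C = (q - 1) * |GL| = (q-1) * X * (q^(2m+1) * R)
  have h5 : X * C = X * (q ^ (2 * m + 1) * (q - 1) * R) := by
    have : X * C = T * (q - 1) * C := by rw [← h3, h2]
    rw [this]
    have : T * (q - 1) * C = (q - 1) * (T * C) := by ring
    rw [this, h1, h4]
    ring
  exact Nat.eq_of_mul_eq_mul_left hXpos h5

end Cfsg.Agent.S2572
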