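import Mathlib
import Cfsg.Statements.S0445
import Cfsg.Agent.H9.TvCount
import Cfsg.Agent.S2572

set_option autoImplicit false

namespace Cfsg.Agent.S0445

open Module Cfsg.Agent.H9.TvCount

theorem transvection_eq_tvm :
    (Matrix.transvection (0 : Fin 5) 1 (1 : ZMod 2)) = tvm (Pi.single 0 1) (Pi.single 1 1) := by
  unfold tvm Matrix.transvection
  congr 1
  ext i j
  simp only [Matrix.vecMulVec_apply, Matrix.single_apply, Pi.single_apply]
  by_cases hi : i = 0 <;> by_cases hj : j = 1 <;> simp [hi, hj, eq_comm]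

theorem det_eq_one (g : GL (Fin 5) (ZMod 2)) : (g : Matrix (Fin 5) (Fin 5) (ZMod 2)).det = 1 := by
  have h := Matrix.isUnits_det_units g
  have key : ∀ x : ZMod 2, IsUnit x → x = 1 := by decide
  exact key _ h

/-- In the special linear group of dimension 5 over the field with two elements, the centraliser of a transvection has order 21504 = 2 ^ 7 · 168 (it is an extension of an extraspecial group of order 2 ^ 7 by the simple group of order 168). -/
theorem result (s : Matrix.SpecialLinearGroup (Fin 5) (ZMod 2)) (hs : (s : Matrix (Fin 5) (Fin 5) (ZMod 2)) = Matrix.transvection 0 1 1) : Nat.card (Subgroup.centralizer ({s} : Set (Matrix.SpecialLinearGroup (Fin 5) (ZMod 2)))) = 21504 := by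
  set t : GL (Fin 5) (ZMod 2) := Matrix.SpecialLinearGroup.toGL s with ht
  have htv : Cfsg.IsTransvection (t : Matrix (Fin 5) (Fin 5) (ZMod 2)) := by
    have h1 : (t : Matrix (Fin 5) (Fin 5) (ZMod 2)) = tvm (Pi.single 0 1) (Pi.single 1 1) := by
      rw [← transvection_eq_tvm, ← hs]
      rfl
    rw [h1]
    apply tvm_isTransvection
    · intro h; have := congrFun h 0; simp at this
    · intro h; have := congrFun h 1; simp at this
    · simp [dotProduct, Pi.single_apply]
  have hcard := Cfsg.Agent.S2572.result (F := ZMod 2) (q := 2) (n := 5) (by simp) (by norm_num) t htv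
  have hval : 2 ^ (2 * 5 - 3) * (2 - 1) * ∏ i : Fin (5 - 2), (2 ^ (5 - 2) - 2 ^ (i : ℕ)) = 21504 := by
    decide
  rw [hval] at hcard
  rw [← hcard]
  apply Nat.card_congr
  refine Equiv.ofBijective (fun g => ⟨Matrix.SpecialLinearGroup.toGL g.1, ?_⟩) ⟨?_, ?_⟩
  · rw [Subgroup.mem_centralizer_iff]
    intro h hh
    rw [Set.mem_singleton_iff] at hh
    subst hh
    have h1 := Subgroup.mem_centralizer_iff.1 g.2 s rfl
    rw [ht, ← map_mul, ← map_mul, h1]
  · intro g g' h
    have h1 : Matrix.SpecialLinearGroup.toGL g.1 = Matrix.SpecialLinearGroup.toGL g'.1 := congrArg Subtype.val h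
    apply Subtype.ext
    apply Subtype.ext
    have := congrArg (fun z : GL (Fin 5) (ZMod 2) => (z : Matrix (Fin 5) (Fin 5) (ZMod 2))) h1
    exact this
  · rintro ⟨g, hg⟩
    obtain ⟨g', hg'⟩ : ∃ g' : Matrix.SpecialLinearGroup (Fin 5) (ZMod 2),
        (g' : Matrix (Fin 5) (Fin 5) (ZMod 2)) = g := ⟨⟨g, det_eq_one g⟩, rfl⟩
    have hgg : Matrix.SpecialLinearGroup.toGL g' = g := Units.ext hg'
    refine ⟨⟨g', ?_⟩, ?_⟩
    · rw [Subgroup.mem_centralizer_iff]
      intro h hh
      rw [Set.mem_singleton_iff] at hh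
      subst hh
      have h1 := Subgroup.mem_centralizer_iff.1 hg t rfl
      apply Subtype.ext
      have h2 := congrArg (fun z : GL (Fin 5) (ZMod 2) => (z : Matrix (Fin 5) (Fin 5) (ZMod 2))) h1
      simp only [Units.val_mul] at h2
      rw [Matrix.SpecialLinearGroup.coe_mul, Matrix.SpecialLinearGroup.coe_mul, hg']
      exact h2
    · apply Subtype.ext
      exact hgg

end Cfsg.Agent.S0445
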