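import Cfsg.Statements.S0290
import Mathlib
import Cfsg.Agent.Lib.Helper5.Count

set_option autoImplicit false
open Cfsg

namespace Cfsg.Agent.S0290

open Matrix

/-- The minus-type quadratic form on F^(2m), m at least 1, has q^(2m-1) + q^(m-1) - q^m zeros (that is, (q^m + 1)(q^(m-1) - 1) non-zero isotropic vectors). -/
theorem result {F : Type*} [Field F] [Fintype F] {q : ℕ} (hF : Fintype.card F = q) (m : ℕ) (hm : 1 ≤ m) (a b : F) (hab : ∀ z₁ z₂ : F, z₁ ^ 2 + a * z₁ * z₂ + b * z₂ ^ 2 = 0 → z₁ = 0 ∧ z₂ = 0) : Nat.card {v : (Fin (m - 1) ⊕ Fin (m - 1)) ⊕ Fin 2 → F // Cfsg.quadFormMinus (m - 1) F a b v = 0} = q ^ (2 * m - 1) + q ^ (m - 1) - q ^ m := by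
  classical
  obtain ⟨k, rfl⟩ : ∃ k, m = k + 1 := ⟨m - 1, by omega⟩
  show Nat.card {v : (Fin k ⊕ Fin k) ⊕ Fin 2 → F // Cfsg.quadFormMinus k F a b v = 0} =
    q ^ (2 * (k + 1) - 1) + q ^ k - q ^ (k + 1)
  let g : (Fin 2 → F) → F := fun z => -(z 0 ^ 2 + a * z 0 * z 1 + b * z 1 ^ 2)
  have e : {v : (Fin k ⊕ Fin k) ⊕ Fin 2 → F // Cfsg.quadFormMinus k F a b v = 0} ≃
      {p : (Fin k → F) × (Fin k → F) × (Fin 2 → F) // p.1 ⬝ᵥ p.2.1 = g p.2.2} :=
    { toFun := fun v => ⟨(fun i => v.1 (Sum.inl (Sum.inl i)), fun i => v.1 (Sum.inl (Sum.inr i)),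
          fun j => v.1 (Sum.inr j)), by
        have := v.2
        unfold Cfsg.quadFormMinus at this
        change (∑ i, v.1 (Sum.inl (Sum.inl i)) * v.1 (Sum.inl (Sum.inr i))) =
          -(v.1 (Sum.inr 0) ^ 2 + a * v.1 (Sum.inr 0) * v.1 (Sum.inr 1) + b * v.1 (Sum.inr 1) ^ 2)
        linear_combination this⟩
      invFun := fun p => ⟨Sum.elim (Sum.elim p.1.1 p.1.2.1) p.1.2.2, by
        have := p.2
        unfold Cfsg.quadFormMinus
        change (∑ i, p.1.1 i * p.1.2.1 i) + (p.1.2.2 0 ^ 2 + a * p.1.2.2 0 * p.1.2.2 1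
          + b * p.1.2.2 1 ^ 2) = 0
        change (∑ i, p.1.1 i * p.1.2.1 i) =
          -(p.1.2.2 0 ^ 2 + a * p.1.2.2 0 * p.1.2.2 1 + b * p.1.2.2 1 ^ 2) at this
        linear_combination this⟩
      left_inv := fun v => by
        apply Subtype.ext
        funext i
        rcases i with (i | i) | i <;> rfl
      right_inv := fun p => by rfl }
  rw [Nat.card_congr e, Cfsg.Agent.Lib.Helper5.Count.card_triples k g]
  have hz : Nat.card {z : Fin 2 → F // g z = 0} = 1 := by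
    rw [Nat.card_eq_one_iff_unique]
    refine ⟨⟨fun x y => Subtype.ext ?_⟩, ⟨⟨0, by simp [g]⟩⟩⟩
    have hx := x.2
    have hy := y.2
    simp only [g, neg_eq_zero] at hx hy
    obtain ⟨hx0, hx1⟩ := hab _ _ hx
    obtain ⟨hy0, hy1⟩ := hab _ _ hy
    funext j
    fin_cases j
    · simp only [Fin.zero_eta]; rw [hx0, hy0]
    · simp only [Fin.mk_one]; rw [hx1, hy1]
  rw [hz, hF, one_mul, Fintype.card_fun, Fintype.card_fin, hF]
  have hq : 1 ≤ q := by
    rw [← hF]; exact Fintype.card_pos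
  rcases Nat.eq_zero_or_pos k with rfl | hk
  · simp
  · obtain ⟨j, rfl⟩ : ∃ j, k = j + 1 := ⟨k - 1, by omega⟩
    simp only [Nat.add_sub_cancel]
    have h2 : 1 ≤ q ^ (j + 1) := Nat.one_le_pow _ _ hq
    have e1 : 2 * (j + 1 + 1) - 1 = (j + 1) + (j + 2) := by omega
    have h3 : q ^ 2 * (q ^ (j + 1) - 1) * q ^ j + q ^ (j + 2) = q ^ (j + 1) * q ^ (j + 2) := by
      have : q ^ 2 * (q ^ (j + 1) - 1) * q ^ j = (q ^ (j + 1) - 1) * q ^ (j + 2) := by
        rw [pow_add q j 2]; ring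
      rw [this, ← Nat.succ_mul, Nat.succ_eq_add_one, Nat.sub_add_cancel h2]
    rw [e1, pow_add q (j + 1) (j + 2)]
    have h4 : q ^ (j + 1 + 1) = q ^ (j + 2) := rfl
    omega

end Cfsg.Agent.S0290
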