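import Cfsg.Statements.S0288
import Mathlib
import Cfsg.Agent.Lib.Helper5.QuadCount
import Cfsg.Agent.Lib.Helper5.QuadFrames
import Cfsg.Agent.Lib.Helper5.QuadWitt
import Cfsg.Agent.S0290

set_option autoImplicit false
open Cfsg

namespace Cfsg.Agent.S0288

open Matrix Cfsg.Agent.S0750 Cfsg.Agent.Lib.Helper5.QuadCount Cfsg.Agent.Lib.Helper5.QuadFrames
  Cfsg.Agent.Lib.Helper5.QuadWitt

section plane
variable {F : Type*} [Field F] (a b : F)

/-- the binary form -/
def q₀ (p : F × F) : F := p.1 ^ 2 + a * p.1 * p.2 + b * p.2 ^ 2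

/-- its polar form -/
def b₀ (p p' : F × F) : F :=
  2 * p.1 * p'.1 + a * (p.1 * p'.2 + p.2 * p'.1) + 2 * b * p.2 * p'.2

/-- multiplication in `F[θ]`, `θ² = aθ − b` -/
def mul₀ (p p' : F × F) : F × F :=
  (p.1 * p'.1 - b * p.2 * p'.2, p.1 * p'.2 + p.2 * p'.1 + a * p.2 * p'.2)

/-- conjugation -/
def conj₀ (p : F × F) : F × F := (p.1 + a * p.2, -p.2)

theorem q₀_mul (p p' : F × F) : q₀ a b (mul₀ a b p p') = q₀ a b p * q₀ a b p' := by
  unfold q₀ mul₀
  ring

theorem q₀_conj (p : F × F) : q₀ a b (conj₀ a p) = q₀ a b p := by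
  unfold q₀ conj₀
  ring

theorem mul₀_conj (p p' : F × F) :
    mul₀ a b (conj₀ a p) (mul₀ a b p p') = (q₀ a b p * p'.1, q₀ a b p * p'.2) := by
  unfold q₀ conj₀ mul₀
  ext <;> simp <;> ring

theorem mul₀_conj' (p p' : F × F) :
    mul₀ a b p (mul₀ a b (conj₀ a p) p') = (q₀ a b p * p'.1, q₀ a b p * p'.2) := by
  unfold q₀ conj₀ mul₀
  ext <;> simp <;> ring

theorem b₀_mul (p u v : F × F) :
    b₀ a b (mul₀ a b p u) (mul₀ a b p v) = q₀ a b p * b₀ a b u v := by
  unfold q₀ b₀ mul₀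
  ring

variable [Fintype F]
set_option linter.unusedSectionVars false

theorem disc_ne_zero
    (hab : ∀ z₁ z₂ : F, z₁ ^ 2 + a * z₁ * z₂ + b * z₂ ^ 2 = 0 → z₁ = 0 ∧ z₂ = 0) :
    4 * b - a ^ 2 ≠ 0 := by
  intro h
  by_cases h2 : (2 : F) = 0
  · have ha : a = 0 := by
      have h4 : (4 : F) = 0 := by linear_combination 2 * h2
      rw [h4, zero_mul, zero_sub, neg_eq_zero] at h
      exact pow_eq_zero_iff two_ne_zero |>.1 h
    have hchar : ringChar F = 2 := CharP.ringChar_of_prime_eq_zero Nat.prime_two (by exact_mod_cast h2)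
    obtain ⟨s, hs⟩ := FiniteField.isSquare_of_char_two hchar b
    have := (hab s 1 (by rw [ha, hs]; linear_combination (s * s) * h2)).2
    exact one_ne_zero this
  · have := (hab (-a / 2) 1 (by field_simp; linear_combination h)).2
    exact one_ne_zero this

theorem exists_q₀_eq
    (hab : ∀ z₁ z₂ : F, z₁ ^ 2 + a * z₁ * z₂ + b * z₂ ^ 2 = 0 → z₁ = 0 ∧ z₂ = 0) (c : F) :
    ∃ p : F × F, q₀ a b p = c := by
  by_cases h2 : (2 : F) = 0
  · have hchar : ringChar F = 2 := CharP.ringChar_of_prime_eq_zero Nat.prime_two (by exact_mod_cast h2)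
    obtain ⟨s, hs⟩ := FiniteField.isSquare_of_char_two hchar c
    exact ⟨(s, 0), by unfold q₀; simp [hs, pow_two]⟩
  · have hchar : ringChar F ≠ 2 := by
      intro hc
      have : CharP F 2 := ringChar.of_eq hc
      exact h2 (by exact_mod_cast CharP.cast_eq_zero F 2)
    have hD := disc_ne_zero a b hab
    have h2' : (2 : F) ≠ 0 := h2
    have hD' : b - (a / 2) ^ 2 ≠ 0 := by
      intro h
      apply hD
      field_simp at h
      linear_combination h
    obtain ⟨X, Y, hXY⟩ := FiniteField.exists_root_sum_quadratic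
      (f := Polynomial.X ^ 2)
      (g := Polynomial.C (b - (a / 2) ^ 2) * Polynomial.X ^ 2 - Polynomial.C c)
      (Polynomial.degree_X_pow 2) (by
        rw [Polynomial.degree_sub_eq_left_of_degree_lt]
        · rw [Polynomial.degree_C_mul_X_pow 2 hD']; rfl
        · rw [Polynomial.degree_C_mul_X_pow 2 hD']
          exact lt_of_le_of_lt Polynomial.degree_C_le (by norm_num))
      (FiniteField.odd_card_of_char_ne_two hchar)
    simp only [Polynomial.eval_pow, Polynomial.eval_X, Polynomial.eval_sub, Polynomial.eval_mul,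
      Polynomial.eval_C] at hXY
    refine ⟨(X - a / 2 * Y, Y), ?_⟩
    unfold q₀
    simp only
    have e : a = 2 * (a / 2) := by field_simp
    generalize a / 2 = a' at e hXY
    subst e
    linear_combination hXY


theorem mul₀_one (p : F × F) : mul₀ a b p (1, 0) = p := by
  unfold mul₀
  ext <;> simp

theorem mul₀_smul_left (t : F) (p p' : F × F) :
    mul₀ a b (t • p) p' = t • mul₀ a b p p' := by
  unfold mul₀
  ext <;> simp <;> ring

theorem mul₀_smul_right (t : F) (p p' : F × F) :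
    mul₀ a b p (t • p') = t • mul₀ a b p p' := by
  unfold mul₀
  ext <;> simp <;> ring

theorem q₀_smul (t : F) (p : F × F) : q₀ a b (t • p) = t ^ 2 * q₀ a b p := by
  unfold q₀
  simp
  ring

/-- vectors of given norm -/
abbrev N (c : F) : Type _ := {p : F × F // q₀ a b p = c}

/-- all nonzero norms are taken equally often -/
def mulEquiv (p₀ : F × F) (c : F) (hc : c ≠ 0) (h : q₀ a b p₀ = c) : N a b 1 ≃ N a b c where
  toFun w := ⟨mul₀ a b p₀ w.1, by rw [q₀_mul, h, w.2, mul_one]⟩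
  invFun w := ⟨c⁻¹ • mul₀ a b (conj₀ a p₀) w.1, by
    rw [q₀_smul, q₀_mul, q₀_conj, h, w.2]
    field_simp⟩
  left_inv w := by
    apply Subtype.ext
    change c⁻¹ • mul₀ a b (conj₀ a p₀) (mul₀ a b p₀ w.1) = w.1
    rw [mul₀_conj, h]
    ext <;> simp [hc]
  right_inv w := by
    apply Subtype.ext
    change mul₀ a b p₀ (c⁻¹ • mul₀ a b (conj₀ a p₀) w.1) = w.1
    rw [mul₀_smul_right, mul₀_conj', h]
    ext <;> simp [hc]

theorem card_N_zero
    (hab : ∀ z₁ z₂ : F, z₁ ^ 2 + a * z₁ * z₂ + b * z₂ ^ 2 = 0 → z₁ = 0 ∧ z₂ = 0) :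
    Nat.card (N a b 0) = 1 := by
  have : Unique (N a b 0) :=
    { default := ⟨(0, 0), by unfold q₀; simp⟩
      uniq := by
        rintro ⟨⟨x, y⟩, h⟩
        apply Subtype.ext
        obtain ⟨h1, h2⟩ := hab x y h
        simp [h1, h2] }
  exact Nat.card_unique

theorem card_N_one {q : ℕ} (hF : Fintype.card F = q)
    (hab : ∀ z₁ z₂ : F, z₁ ^ 2 + a * z₁ * z₂ + b * z₂ ^ 2 = 0 → z₁ = 0 ∧ z₂ = 0) :
    Nat.card (N a b 1) = q + 1 := by
  classical
  have hq : 2 ≤ q := by rw [← hF]; exact Fintype.one_lt_card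
  have hc : ∀ c : F, c ≠ 0 → Nat.card (N a b c) = Nat.card (N a b 1) := by
    intro c hc
    obtain ⟨p₀, hp₀⟩ := exists_q₀_eq a b hab c
    exact (Nat.card_congr (mulEquiv a b p₀ c hc hp₀)).symm
  have h1 : Nat.card (Σ c : F, N a b c) = Nat.card (F × F) :=
    Nat.card_congr (Equiv.sigmaFiberEquiv (q₀ a b))
  rw [Nat.card_sigma, Nat.card_prod, Nat.card_eq_fintype_card, hF,
    ← Finset.add_sum_erase Finset.univ _ (Finset.mem_univ (0 : F)), card_N_zero a b hab,
    Finset.sum_congr rfl (fun c hc' => hc c (Finset.ne_of_mem_erase hc')), Finset.sum_const,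
    Finset.card_erase_of_mem (Finset.mem_univ _), Finset.card_univ, hF, smul_eq_mul] at h1
  generalize Nat.card (N a b 1) = n at h1 ⊢
  obtain ⟨t, rfl⟩ : ∃ t, q = t + 1 := ⟨q - 1, by omega⟩
  simp only [Nat.add_sub_cancel] at h1
  have ht : 0 < t := by omega
  have : t * n = t * (t + 2) := by nlinarith
  have := Nat.eq_of_mul_eq_mul_left ht this
  omega

/-- pairs forming a standard basis of the plane -/
abbrev P : Type _ :=
  {w : (F × F) × (F × F) // q₀ a b w.1 = 1 ∧ q₀ a b w.2 = b ∧ b₀ a b w.1 w.2 = a}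

/-- second vectors for the first vector `1` -/
abbrev P₀ : Type _ := {v : F × F // q₀ a b v = b ∧ b₀ a b (1, 0) v = a}

/-- reduce to the first vector being `1` -/
def pairEquiv : P a b ≃ N a b 1 × P₀ a b where
  toFun w := (⟨w.1.1, w.2.1⟩, ⟨mul₀ a b (conj₀ a w.1.1) w.1.2, by
    obtain ⟨h1, h2, h3⟩ := w.2
    refine ⟨by rw [q₀_mul, q₀_conj, h1, h2, one_mul], ?_⟩
    have := b₀_mul a b (conj₀ a w.1.1) (mul₀ a b w.1.1 (1, 0)) w.1.2
    rw [mul₀_conj, h1, q₀_conj, h1, mul₀_one, h3] at this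
    simpa using this⟩)
  invFun s := ⟨(s.1.1, mul₀ a b s.1.1 s.2.1), by
    obtain ⟨h2, h3⟩ := s.2.2
    refine ⟨s.1.2, by rw [q₀_mul, s.1.2, h2, one_mul], ?_⟩
    have := b₀_mul a b s.1.1 (1, 0) s.2.1
    rw [mul₀_one, s.1.2, h3, one_mul] at this
    exact this⟩
  left_inv w := by
    obtain ⟨h1, h2, h3⟩ := w.2
    apply Subtype.ext
    apply Prod.ext
    · rfl
    · change mul₀ a b w.1.1 (mul₀ a b (conj₀ a w.1.1) w.1.2) = w.1.2
      rw [mul₀_conj', h1]
      simp
  right_inv s := by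
    apply Prod.ext
    · rfl
    · apply Subtype.ext
      change mul₀ a b (conj₀ a s.1.1) (mul₀ a b s.1.1 s.2.1) = s.2.1
      rw [mul₀_conj, s.1.2]
      simp

theorem card_P₀
    (hab : ∀ z₁ z₂ : F, z₁ ^ 2 + a * z₁ * z₂ + b * z₂ ^ 2 = 0 → z₁ = 0 ∧ z₂ = 0) :
    Nat.card (P₀ a b) = 2 := by
  classical
  have hD := disc_ne_zero a b hab
  rw [Nat.card_eq_fintype_card, Fintype.card_subtype]
  have : (Finset.univ.filter (fun v : F × F => q₀ a b v = b ∧ b₀ a b (1, 0) v = a)) =
      {(0, 1), (a, -1)} := by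
    ext ⟨x, y⟩
    simp only [Finset.mem_filter, Finset.mem_univ, true_and, Finset.mem_insert,
      Finset.mem_singleton, Prod.mk.injEq]
    unfold q₀ b₀
    simp only
    constructor
    · rintro ⟨h1, h2⟩
      set t : F := -(a * x + 2 * b * (y - 1)) / (4 * b - a ^ 2) with ht
      have hx : x = t * a := by
        rw [ht, div_mul_eq_mul_div, eq_div_iff hD]
        linear_combination (2 * b) * h2
      have hy : y = 1 - 2 * t := by
        rw [ht, mul_div_assoc', eq_sub_iff_add_eq, ← eq_sub_iff_add_eq', div_eq_iff hD]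
        linear_combination (-a) * h2
      have h3 : (4 * b - a ^ 2) * (t * (t - 1)) = 0 := by
        rw [hx, hy] at h1
        linear_combination h1
      rcases mul_eq_zero.1 h3 with h | h
      · exact absurd h hD
      · rcases mul_eq_zero.1 h with h | h
        · left
          rw [hx, hy, h]
          simp
        · right
          have : t = 1 := by linear_combination h
          rw [hx, hy, this]
          constructor <;> ring
    · rintro (⟨rfl, rfl⟩ | ⟨rfl, rfl⟩)
      · constructor <;> ring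
      · constructor <;> ring
  rw [this, Finset.card_pair]
  intro h
  rw [Prod.mk.injEq] at h
  apply hD
  have h2 : (2 : F) = 0 := by linear_combination h.2
  rw [← h.1]
  linear_combination (2 * b) * h2

theorem card_P {q : ℕ} (hF : Fintype.card F = q)
    (hab : ∀ z₁ z₂ : F, z₁ ^ 2 + a * z₁ * z₂ + b * z₂ ^ 2 = 0 → z₁ = 0 ∧ z₂ = 0) :
    Nat.card (P a b) = 2 * (q + 1) := by
  rw [Nat.card_congr (pairEquiv a b), Nat.card_prod, card_N_one a b hF hab, card_P₀ a b hab,
    mul_comm]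

end plane


section space
variable {F : Type*} [Field F] (n : ℕ) (a b : F)

/-- the bilinear form `Σ u_i v'_i + u₀v₀ + a u₀v₁ + b u₁v₁` -/
def betaM : LinearMap.BilinForm F ((Fin n ⊕ Fin n) ⊕ Fin 2 → F) :=
  Matrix.toBilin' (Matrix.fromBlocks (Matrix.fromBlocks 0 1 0 0) 0 0 !![1, a; 0, b])

/-- the plane part of a vector -/
def pl (v : (Fin n ⊕ Fin n) ⊕ Fin 2 → F) : F × F := (v (Sum.inr 0), v (Sum.inr 1))

theorem betaM_apply (u v : (Fin n ⊕ Fin n) ⊕ Fin 2 → F) :
    betaM n a b u v = ∑ i, u (Sum.inl (Sum.inl i)) * v (Sum.inl (Sum.inr i)) +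
      (u (Sum.inr 0) * v (Sum.inr 0) + a * u (Sum.inr 0) * v (Sum.inr 1) +
        b * u (Sum.inr 1) * v (Sum.inr 1)) := by
  unfold betaM
  rw [Matrix.toBilin'_apply']
  simp [dotProduct, Fintype.sum_sum_type, Matrix.mulVec, Matrix.fromBlocks, Matrix.one_apply,
    Fin.sum_univ_two]
  ring

/-- the quadratic form -/
def QM : QuadraticForm F ((Fin n ⊕ Fin n) ⊕ Fin 2 → F) := (betaM n a b).toQuadraticMap

theorem QM_apply (v : (Fin n ⊕ Fin n) ⊕ Fin 2 → F) : QM n a b v = quadFormMinus n F a b v := by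
  unfold QM
  rw [LinearMap.BilinMap.toQuadraticMap_apply, betaM_apply]
  unfold quadFormMinus
  ring

theorem QM_coe : ⇑(QM (F := F) n a b) = quadFormMinus n F a b := funext (QM_apply n a b)

theorem QM_apply' (v : (Fin n ⊕ Fin n) ⊕ Fin 2 → F) :
    QM n a b v = ∑ i, v (Sum.inl (Sum.inl i)) * v (Sum.inl (Sum.inr i)) + q₀ a b (pl n v) := by
  rw [QM_apply]
  rfl

theorem polar_apply (u v : (Fin n ⊕ Fin n) ⊕ Fin 2 → F) :
    QuadraticMap.polarBilin (QM n a b) u v =
      ∑ i, (u (Sum.inl (Sum.inl i)) * v (Sum.inl (Sum.inr i)) +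
        u (Sum.inl (Sum.inr i)) * v (Sum.inl (Sum.inl i))) + b₀ a b (pl n u) (pl n v) := by
  unfold QM
  rw [LinearMap.BilinMap.polarBilin_toQuadraticMap, LinearMap.add_apply, LinearMap.add_apply,
    LinearMap.flip_apply, betaM_apply, betaM_apply, Finset.sum_add_distrib]
  have : ∑ i, v (Sum.inl (Sum.inl i)) * u (Sum.inl (Sum.inr i)) =
      ∑ i, u (Sum.inl (Sum.inr i)) * v (Sum.inl (Sum.inl i)) :=
    Finset.sum_congr rfl (fun i _ => mul_comm _ _)
  rw [this]
  unfold b₀ pl
  ring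

theorem pl_single_inl (c : Fin n ⊕ Fin n) (t : F) :
    pl n (Pi.single (Sum.inl c) t : (Fin n ⊕ Fin n) ⊕ Fin 2 → F) = (0, 0) := by
  unfold pl
  simp

theorem pl_single_inr (k : Fin 2) (t : F) :
    pl n (Pi.single (Sum.inr k) t : (Fin n ⊕ Fin n) ⊕ Fin 2 → F) =
      (if k = 0 then t else 0, if k = 1 then t else 0) := by
  unfold pl
  fin_cases k <;> simp

theorem polar_inl_right (u : (Fin n ⊕ Fin n) ⊕ Fin 2 → F) (c : Fin n ⊕ Fin n) :
    QuadraticMap.polarBilin (QM n a b) u (Pi.single (Sum.inl c) 1) =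
      u (Sum.inl (Sum.swap c)) := by
  classical
  rw [polar_apply, pl_single_inl]
  unfold b₀
  rcases c with i | i <;> simp [Pi.single_apply, Finset.sum_ite_eq, eq_comm]

theorem polar_inr_right (u : (Fin n ⊕ Fin n) ⊕ Fin 2 → F) (k : Fin 2) :
    QuadraticMap.polarBilin (QM n a b) u (Pi.single (Sum.inr k) 1) =
      b₀ a b (pl n u) (if k = 0 then 1 else 0, if k = 1 then 1 else 0) := by
  classical
  rw [polar_apply, pl_single_inr]
  simp

theorem QM_single_inl (c : Fin n ⊕ Fin n) : QM n a b (Pi.single (Sum.inl c) 1) = 0 := by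
  rw [QM_apply', pl_single_inl]
  unfold q₀
  rw [Finset.sum_eq_zero]
  · simp
  · intro i _
    rcases c with j | j <;> simp [Pi.single_apply]

theorem QM_single_inr (k : Fin 2) :
    QM n a b (Pi.single (Sum.inr k) 1) = if k = 0 then 1 else b := by
  rw [QM_apply', pl_single_inr]
  unfold q₀
  fin_cases k <;> simp


theorem nondegenerate (hD : 4 * b - a ^ 2 ≠ 0) :
    (QuadraticMap.polarBilin (QM (F := F) n a b)).Nondegenerate := by
  have key : ∀ x : (Fin n ⊕ Fin n) ⊕ Fin 2 → F,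
      (∀ y, QuadraticMap.polarBilin (QM n a b) x y = 0) → x = 0 := by
    intro x hx
    have h0 := hx (Pi.single (Sum.inr 0) 1)
    have h1 := hx (Pi.single (Sum.inr 1) 1)
    rw [polar_inr_right] at h0 h1
    unfold b₀ pl at h0 h1
    simp only [if_true, one_ne_zero, zero_ne_one, if_false, Fin.isValue] at h0 h1
    have e0 : (4 * b - a ^ 2) * x (Sum.inr 0) = 0 := by
      linear_combination (2 * b) * h0 - a * h1
    have e1 : (4 * b - a ^ 2) * x (Sum.inr 1) = 0 := by
      linear_combination 2 * h1 - a * h0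
    funext c
    rcases c with c | k
    · have := hx (Pi.single (Sum.inl (Sum.swap c)) 1)
      rw [polar_inl_right, Sum.swap_swap] at this
      exact this
    · fin_cases k
      · exact (mul_eq_zero.1 e0).resolve_left hD
      · exact (mul_eq_zero.1 e1).resolve_left hD
  constructor
  · exact key
  · intro y hy
    apply key
    intro x
    rw [B_comm]
    exact hy x

/-- the two extra vectors of a frame -/
abbrev Fib (φ : HB (QM (F := F) n a b) n) : Type _ :=
  {u : ((Fin n ⊕ Fin n) ⊕ Fin 2 → F) × ((Fin n ⊕ Fin n) ⊕ Fin 2 → F) //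
    QM n a b u.1 = 1 ∧ QM n a b u.2 = b ∧ QuadraticMap.polarBilin (QM n a b) u.1 u.2 = a ∧
    ∀ c, QuadraticMap.polarBilin (QM n a b) u.1 (Sum.elim φ.1.1 φ.1.2 c) = 0 ∧
      QuadraticMap.polarBilin (QM n a b) u.2 (Sum.elim φ.1.1 φ.1.2 c) = 0}

theorem polar_single_inl_inl (c c' : Fin n ⊕ Fin n) :
    QuadraticMap.polarBilin (QM (F := F) n a b) (Pi.single (Sum.inl c) 1)
      (Pi.single (Sum.inl c') 1) = if c = Sum.swap c' then 1 else 0 := by
  classical
  rw [polar_inl_right]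
  simp [Pi.single_apply, eq_comm]

theorem polar_single_inr_inl (k : Fin 2) (c' : Fin n ⊕ Fin n) :
    QuadraticMap.polarBilin (QM (F := F) n a b) (Pi.single (Sum.inr k) 1)
      (Pi.single (Sum.inl c') 1) = 0 := by
  rw [polar_inl_right]
  simp

theorem polar_single_inl_inr (c : Fin n ⊕ Fin n) (k : Fin 2) :
    QuadraticMap.polarBilin (QM (F := F) n a b) (Pi.single (Sum.inl c) 1)
      (Pi.single (Sum.inr k) 1) = 0 := by
  rw [B_comm, polar_single_inr_inl]

theorem polar_single_00 :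
    QuadraticMap.polarBilin (QM (F := F) n a b) (Pi.single (Sum.inr 0) 1)
      (Pi.single (Sum.inr 0) 1) = 2 := by
  rw [B_self, QM_single_inr]; simp

theorem polar_single_11 :
    QuadraticMap.polarBilin (QM (F := F) n a b) (Pi.single (Sum.inr 1) 1)
      (Pi.single (Sum.inr 1) 1) = 2 * b := by
  rw [B_self, QM_single_inr]; simp

theorem polar_single_01 :
    QuadraticMap.polarBilin (QM (F := F) n a b) (Pi.single (Sum.inr 0) 1)
      (Pi.single (Sum.inr 1) 1) = a := by
  rw [polar_inr_right, pl_single_inr]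
  unfold b₀
  simp

theorem polar_single_10 :
    QuadraticMap.polarBilin (QM (F := F) n a b) (Pi.single (Sum.inr 1) 1)
      (Pi.single (Sum.inr 0) 1) = a := by
  rw [B_comm, polar_single_01]


theorem fin2_cases (k : Fin 2) : k = 0 ∨ k = 1 := by
  fin_cases k <;> simp

/-- frames decompose into a hyperbolic frame and two more vectors -/
def frameEquiv : {x : (Fin n ⊕ Fin n) ⊕ Fin 2 → ((Fin n ⊕ Fin n) ⊕ Fin 2 → F) //
      IsFrame (QM n a b) x} ≃ Σ φ : HB (QM (F := F) n a b) n, Fib n a b φ where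
  toFun x := ⟨⟨(fun i => x.1 (Sum.inl (Sum.inl i)), fun i => x.1 (Sum.inl (Sum.inr i))), by
      obtain ⟨h1, h2⟩ := x.2
      refine ⟨fun i j => ?_, fun i j => ?_, fun i j => ?_, fun i => ?_, fun i => ?_⟩
      · rw [h2, polar_single_inl_inl]; simp
      · rw [h2, polar_single_inl_inl]; simp
      · rw [h2, polar_single_inl_inl]; simp
      · rw [h1, QM_single_inl]
      · rw [h1, QM_single_inl]⟩,
    ⟨(x.1 (Sum.inr 0), x.1 (Sum.inr 1)), by
      obtain ⟨h1, h2⟩ := x.2
      refine ⟨by rw [h1, QM_single_inr]; simp, by rw [h1, QM_single_inr]; simp,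
        by rw [h2, polar_single_01], ?_⟩
      rintro (i | i)
      · exact ⟨by
          change QuadraticMap.polarBilin (QM n a b) (x.1 (Sum.inr 0)) (x.1 (Sum.inl (Sum.inl i))) = 0
          rw [h2, polar_single_inr_inl], by
          change QuadraticMap.polarBilin (QM n a b) (x.1 (Sum.inr 1)) (x.1 (Sum.inl (Sum.inl i))) = 0
          rw [h2, polar_single_inr_inl]⟩
      · exact ⟨by
          change QuadraticMap.polarBilin (QM n a b) (x.1 (Sum.inr 0)) (x.1 (Sum.inl (Sum.inr i))) = 0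
          rw [h2, polar_single_inr_inl], by
          change QuadraticMap.polarBilin (QM n a b) (x.1 (Sum.inr 1)) (x.1 (Sum.inl (Sum.inr i))) = 0
          rw [h2, polar_single_inr_inl]⟩⟩⟩
  invFun s := ⟨Sum.elim (Sum.elim s.1.1.1 s.1.1.2) ![s.2.1.1, s.2.1.2], by
    obtain ⟨hu1, hu2, hu3, hu4⟩ := s.2.2
    refine ⟨?_, ?_⟩
    · rintro (c | k)
      · rw [QM_single_inl]; exact HB_Q (QM (F := F) n a b) s.1 c
      · rw [QM_single_inr]
        fin_cases k
        · exact hu1
        · exact hu2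
    · rintro (c | k) (c' | k')
      · rw [polar_single_inl_inl]
        exact HB_polar (QM (F := F) n a b) s.1 c c'
      · rw [polar_single_inl_inr, B_comm]
        fin_cases k'
        · exact (hu4 c).1
        · exact (hu4 c).2
      · rw [polar_single_inr_inl]
        fin_cases k
        · exact (hu4 c').1
        · exact (hu4 c').2
      · rcases fin2_cases k with rfl | rfl <;> rcases fin2_cases k' with rfl | rfl
        · rw [polar_single_00]
          change QuadraticMap.polarBilin (QM n a b) s.2.1.1 s.2.1.1 = 2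
          rw [B_self, hu1, mul_one]
        · rw [polar_single_01]; exact hu3
        · rw [polar_single_10, B_comm]; exact hu3
        · rw [polar_single_11]
          change QuadraticMap.polarBilin (QM n a b) s.2.1.2 s.2.1.2 = 2 * b
          rw [B_self, hu2]⟩
  left_inv x := by
    apply Subtype.ext
    funext c
    rcases c with (i | i) | k
    · rfl
    · rfl
    · fin_cases k <;> rfl
  right_inv s := rfl


/-- the standard hyperbolic frame -/
def stdHB : HB (QM (F := F) n a b) n :=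
  ⟨(fun i => Pi.single (Sum.inl (Sum.inl i)) 1, fun i => Pi.single (Sum.inl (Sum.inr i)) 1), by
    refine ⟨fun i j => ?_, fun i j => ?_, fun i j => ?_, fun i => ?_, fun i => ?_⟩
    · rw [polar_single_inl_inl]; simp
    · rw [polar_single_inl_inl]; simp
    · rw [polar_single_inl_inl]; simp
    · rw [QM_single_inl]
    · rw [QM_single_inl]⟩

theorem stdHB_elim (c : Fin n ⊕ Fin n) :
    Sum.elim (stdHB (F := F) n a b).1.1 (stdHB (F := F) n a b).1.2 c =
      Pi.single (Sum.inl c) 1 := by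
  rcases c with i | i <;> rfl

/-- embedding of the plane -/
def emb (w : F × F) : (Fin n ⊕ Fin n) ⊕ Fin 2 → F := Sum.elim 0 ![w.1, w.2]

theorem pl_emb (w : F × F) : pl n (emb n w) = w := rfl

theorem emb_pl (u : (Fin n ⊕ Fin n) ⊕ Fin 2 → F) (h : ∀ c, u (Sum.inl c) = 0) :
    emb n (pl n u) = u := by
  funext c
  rcases c with c | k
  · rw [h]; rfl
  · rcases fin2_cases k with rfl | rfl <;> rfl

theorem QM_of_zero (u : (Fin n ⊕ Fin n) ⊕ Fin 2 → F) (h : ∀ c, u (Sum.inl c) = 0) :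
    QM n a b u = q₀ a b (pl n u) := by
  rw [QM_apply', Finset.sum_eq_zero (fun i _ => by rw [h, zero_mul]), zero_add]

theorem polar_of_zero (u v : (Fin n ⊕ Fin n) ⊕ Fin 2 → F) (h : ∀ c, u (Sum.inl c) = 0) :
    QuadraticMap.polarBilin (QM n a b) u v = b₀ a b (pl n u) (pl n v) := by
  rw [polar_apply, Finset.sum_eq_zero (fun i _ => by rw [h, h, zero_mul, zero_mul, add_zero]),
    zero_add]

theorem emb_inl (w : F × F) (c : Fin n ⊕ Fin n) : emb n w (Sum.inl c) = 0 := rfl

/-- the fibre over the standard frame -/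
def fibStd : Fib n a b (stdHB (F := F) n a b) ≃ P a b where
  toFun u := ⟨(pl n u.1.1, pl n u.1.2), by
    obtain ⟨h1, h2, h3, h4⟩ := u.2
    have h0 : ∀ c, u.1.1 (Sum.inl c) = 0 := by
      intro c
      have := (h4 (Sum.swap c)).1
      rw [stdHB_elim, polar_inl_right, Sum.swap_swap] at this
      exact this
    have h0' : ∀ c, u.1.2 (Sum.inl c) = 0 := by
      intro c
      have := (h4 (Sum.swap c)).2
      rw [stdHB_elim, polar_inl_right, Sum.swap_swap] at this
      exact this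
    rw [QM_of_zero n a b _ h0] at h1
    rw [QM_of_zero n a b _ h0'] at h2
    rw [polar_of_zero n a b _ _ h0] at h3
    exact ⟨h1, h2, h3⟩⟩
  invFun w := ⟨(emb n w.1.1, emb n w.1.2), by
    obtain ⟨h1, h2, h3⟩ := w.2
    refine ⟨by rw [QM_of_zero n a b _ (emb_inl n _), pl_emb]; exact h1,
      by rw [QM_of_zero n a b _ (emb_inl n _), pl_emb]; exact h2,
      by rw [polar_of_zero n a b _ _ (emb_inl n _), pl_emb, pl_emb]; exact h3, ?_⟩
    intro c
    rw [stdHB_elim, polar_inl_right, polar_inl_right]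
    exact ⟨rfl, rfl⟩⟩
  left_inv u := by
    obtain ⟨h1, h2, h3, h4⟩ := u.2
    have h0 : ∀ c, u.1.1 (Sum.inl c) = 0 := by
      intro c
      have := (h4 (Sum.swap c)).1
      rw [stdHB_elim, polar_inl_right, Sum.swap_swap] at this
      exact this
    have h0' : ∀ c, u.1.2 (Sum.inl c) = 0 := by
      intro c
      have := (h4 (Sum.swap c)).2
      rw [stdHB_elim, polar_inl_right, Sum.swap_swap] at this
      exact this
    apply Subtype.ext
    exact Prod.ext (emb_pl n _ h0) (emb_pl n _ h0')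
  right_inv w := rfl

/-- transport of fibres along an isometry -/
def fibTransport (φ φ' : HB (QM (F := F) n a b) n) (g : ((Fin n ⊕ Fin n) ⊕ Fin 2 → F) ≃ₗ[F]
      ((Fin n ⊕ Fin n) ⊕ Fin 2 → F)) (hg : ∀ v, QM n a b (g v) = QM n a b v)
    (h1 : ∀ i, g (φ.1.1 i) = φ'.1.1 i) (h2 : ∀ i, g (φ.1.2 i) = φ'.1.2 i) :
    Fib n a b φ ≃ Fib n a b φ' where
  toFun u := ⟨(g u.1.1, g u.1.2), by
    have hc : ∀ c, g (Sum.elim φ.1.1 φ.1.2 c) = Sum.elim φ'.1.1 φ'.1.2 c := by
      rintro (i | i)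
      · exact h1 i
      · exact h2 i
    obtain ⟨k1, k2, k3, k4⟩ := u.2
    refine ⟨by rw [hg]; exact k1, by rw [hg]; exact k2,
      (polar_of_isometry (QM n a b) g.toLinearMap hg u.1.1 u.1.2).trans k3, fun c => ?_⟩
    rw [← hc]
    exact ⟨(polar_of_isometry (QM n a b) g.toLinearMap hg u.1.1 _).trans (k4 c).1,
      (polar_of_isometry (QM n a b) g.toLinearMap hg u.1.2 _).trans (k4 c).2⟩⟩
  invFun u := ⟨(g.symm u.1.1, g.symm u.1.2), by
    have hc : ∀ c, g (Sum.elim φ.1.1 φ.1.2 c) = Sum.elim φ'.1.1 φ'.1.2 c := by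
      rintro (i | i)
      · exact h1 i
      · exact h2 i
    have hgs : ∀ v, QM n a b (g.symm v) = QM n a b v := by
      intro v
      have := hg (g.symm v)
      rw [g.apply_symm_apply] at this
      exact this.symm
    have hps : ∀ v w, QuadraticMap.polarBilin (QM n a b) (g.symm v) w =
        QuadraticMap.polarBilin (QM n a b) v (g w) := by
      intro v w
      have := polar_of_isometry (QM n a b) g.toLinearMap hg (g.symm v) w
      rw [← this]
      change QuadraticMap.polarBilin (QM n a b) (g (g.symm v)) (g w) = _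
      rw [g.apply_symm_apply]
    obtain ⟨k1, k2, k3, k4⟩ := u.2
    refine ⟨by rw [hgs]; exact k1, by rw [hgs]; exact k2, ?_, fun c => ?_⟩
    · rw [hps, g.apply_symm_apply]; exact k3
    · rw [hps, hps, hc]; exact k4 c⟩
  left_inv u := Subtype.ext (Prod.ext (g.symm_apply_apply u.1.1) (g.symm_apply_apply u.1.2))
  right_inv u := Subtype.ext (Prod.ext (g.apply_symm_apply u.1.1) (g.apply_symm_apply u.1.2))

end space

section arith
variable (q : ℕ)

/-- number of singular vectors in dimension `2j+2` -/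
def zM : ℕ → ℕ
  | 0 => 1
  | (l + 1) => (q ^ (l + 2) + 1) * (q ^ (l + 1) - 1) + 1

theorem zM_rec (hq : 1 ≤ q) (j : ℕ) :
    zM q (j + 1) = q * zM q j + (q - 1) * q ^ (2 + 2 * j) := by
  cases j with
  | zero =>
    simp only [zM]
    obtain ⟨t, rfl⟩ : ∃ t, q = t + 1 := ⟨q - 1, by omega⟩
    simp
    ring
  | succ l =>
    simp only [zM]
    have h1 : 1 ≤ q ^ (l + 1 + 1) := Nat.one_le_pow _ _ hq
    have h2 : 1 ≤ q ^ (l + 1) := Nat.one_le_pow _ _ hq
    zify [h1, h2, hq]
    ring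

theorem zM_eq (hq : 1 ≤ q) (n : ℕ) :
    q ^ (2 * (n + 1) - 1) + q ^ (n + 1 - 1) - q ^ (n + 1) = zM q n := by
  cases n with
  | zero => simp [zM]
  | succ l =>
    simp only [zM, Nat.add_sub_cancel]
    have h1 : 1 ≤ q ^ (l + 1) := Nat.one_le_pow _ _ hq
    have h3 : 2 * (l + 1 + 1) - 1 = 2 * l + 3 := by omega
    have h2 : q ^ (l + 1 + 1) ≤ q ^ (2 * l + 3) + q ^ (l + 1) := by
      have : q ^ (l + 1 + 1) ≤ q ^ (2 * l + 3) := Nat.pow_le_pow_right hq (by omega)
      omega
    rw [h3]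
    zify [h1, h2]
    ring

theorem prod_eq (hq : 1 ≤ q) (n : ℕ) :
    (∏ i ∈ Finset.range n, ((zM q (n - i) - 1) * q ^ (2 + 2 * (n - i - 1)))) * (2 * (q + 1)) =
      2 * q ^ ((n + 1) * n) * (q ^ (n + 1) + 1) *
        ∏ i ∈ Finset.range n, (q ^ (2 * (i + 1)) - 1) := by
  have h1 : ∏ i ∈ Finset.range n, ((zM q (n - i) - 1) * q ^ (2 + 2 * (n - i - 1))) =
      ∏ l ∈ Finset.range n, ((q ^ (l + 2) + 1) * (q ^ (l + 1) - 1) * q ^ (2 * l + 2)) := by
    rw [← Finset.prod_range_reflect]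
    apply Finset.prod_congr rfl
    intro i hi
    rw [Finset.mem_range] at hi
    have e1 : n - (n - 1 - i) = i + 1 := by omega
    have e2 : n - (n - 1 - i) - 1 = i := by omega
    rw [e2, e1]
    simp only [zM, Nat.add_sub_cancel]
    rw [add_comm 2]
  rw [h1]
  clear h1
  induction n with
  | zero => simp
  | succ k ih =>
    rw [Finset.prod_range_succ, Finset.prod_range_succ (fun i => q ^ (2 * (i + 1)) - 1),
      mul_right_comm, ih]
    have h2 : 1 ≤ q ^ (k + 1) := Nat.one_le_pow _ _ hq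
    have h4 : 1 ≤ q ^ (2 * (k + 1)) := Nat.one_le_pow _ _ hq
    have h5 : (q ^ (k + 1) - 1) * (q ^ (k + 1) + 1) = q ^ (2 * (k + 1)) - 1 := by
      zify [h2, h4]
      ring
    have h6 : q ^ ((k + 1 + 1) * (k + 1)) = q ^ ((k + 1) * k) * q ^ (2 * k + 2) := by
      rw [← pow_add]; congr 1; ring
    rw [h6, ← h5]
    ring

end arith

theorem result {F : Type*} [Field F] [Fintype F] {q : ℕ} (hF : Fintype.card F = q) (m : ℕ) (hm : 1 ≤ m) (a b : F) (hab : ∀ z₁ z₂ : F, z₁ ^ 2 + a * z₁ * z₂ + b * z₂ ^ 2 = 0 → z₁ = 0 ∧ z₂ = 0) : Nat.card (Cfsg.isometryGroup F (Cfsg.quadFormMinus (m - 1) F a b)) = 2 * q ^ (m * (m - 1)) * (q ^ m + 1) * ∏ i ∈ Finset.range (m - 1), (q ^ (2 * (i + 1)) - 1) := by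
  classical
  have hq : 1 ≤ q := by rw [← hF]; exact Fintype.card_pos
  have hcardF : Nat.card F = q := by rw [Nat.card_eq_fintype_card, hF]
  have hD := disc_ne_zero a b hab
  obtain ⟨n, rfl⟩ : ∃ n, m = n + 1 := ⟨m - 1, by omega⟩
  show Nat.card (Cfsg.isometryGroup F (Cfsg.quadFormMinus n F a b)) =
    2 * q ^ ((n + 1) * n) * (q ^ (n + 1) + 1) * ∏ i ∈ Finset.range n, (q ^ (2 * (i + 1)) - 1)
  have := Fintype.ofFinite (HB (QM (F := F) n a b) n)
  rw [← QM_coe, Nat.card_congr (equivFrame (QM n a b) (nondegenerate n a b hD)),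
    Nat.card_congr (frameEquiv n a b), Nat.card_sigma]
  have hfib : ∀ φ : HB (QM (F := F) n a b) n, Nat.card (Fib n a b φ) = 2 * (q + 1) := by
    intro φ
    obtain ⟨g, hg, h1, h2'⟩ := exists_isometry_HB (F := F)
      (V := (Fin n ⊕ Fin n) ⊕ Fin 2 → F)
      (QM (F := F) n a b) (nondegenerate (F := F) n a b hD) (stdHB (F := F) n a b) φ
    rw [← Nat.card_congr (fibTransport n a b (stdHB n a b) φ g hg h1 h2'),
      Nat.card_congr (fibStd n a b), card_P a b hF hab]
  rw [Finset.sum_congr rfl (fun φ _ => hfib φ), Finset.sum_const, Finset.card_univ, smul_eq_mul,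
    ← Nat.card_eq_fintype_card]
  have h := card_HB (F := F) 2 (zM q) (by
    intro j
    rw [hcardF]
    exact zM_rec q hq j) n n le_rfl ((Fin n ⊕ Fin n) ⊕ Fin 2 → F) (QM n a b)
    (nondegenerate n a b hD)
    (by simp; ring)
    (by
      rw [← zM_eq q hq n, ← Cfsg.Agent.S0290.result hF (n + 1) (by omega) a b hab]
      apply Nat.card_congr
      exact Equiv.subtypeEquivRight (fun v => by rw [QM_apply]; rfl))
  rw [h, hcardF]
  exact prod_eq q hq n

end Cfsg.Agent.S0288
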