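import Mathlib
import Cfsg.Statements.S0255
import Cfsg.Agent.Lib.Helper8.PSL27Table
import Cfsg.Agent.S0242
import Cfsg.Agent.S0243

set_option autoImplicit false
open Cfsg

namespace Cfsg.Agent.S0255

open Matrix Cfsg.Agent.Lib.Helper8.PSL27Table

abbrev M3 := Matrix (Fin 3) (Fin 3) (ZMod 2)
abbrev M2 := Matrix (Fin 2) (Fin 2) (ZMod 7)

/-- entries as naturals -/
def v (A : M3) (i j : Fin 3) : ℕ := (A i j).val

theorem v_lt (A : M3) (i j : Fin 3) : v A i j < 2 := ZMod.val_lt _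

theorem cast_v (A : M3) (i j : Fin 3) : ((v A i j : ℕ) : ZMod 2) = A i j :=
  ZMod.natCast_zmod_val _

/-- the code of a matrix -/
def mcode (A : M3) : ℕ :=
  ncode (v A 0 0) (v A 0 1) (v A 0 2) (v A 1 0) (v A 1 1) (v A 1 2) (v A 2 0) (v A 2 1) (v A 2 2)

/-- the image matrix (a representative modulo sign) -/
def T (A : M3) : M2 :=
  !![((look (mcode A) % 7 : ℕ) : ZMod 7), ((look (mcode A) / 7 % 7 : ℕ) : ZMod 7);
     ((look (mcode A) / 49 % 7 : ℕ) : ZMod 7), ((look (mcode A) / 343 % 7 : ℕ) : ZMod 7)]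

theorem det_eq (A : M3) : A.det = ((ndet3 (v A 0 0) (v A 0 1) (v A 0 2) (v A 1 0) (v A 1 1)
    (v A 1 2) (v A 2 0) (v A 2 1) (v A 2 2) : ℕ) : ZMod 2) := by
  rw [Matrix.det_fin_three]
  unfold ndet3
  rw [ZMod.natCast_mod]
  push_cast
  simp only [cast_v]
  have h2 : (2 : ZMod 2) = 0 := rfl
  linear_combination (-(A 0 0 * A 1 2 * A 2 1) - A 0 1 * A 1 0 * A 2 2 - A 0 2 * A 1 1 * A 2 0) * h2

theorem ndet_of_det {A : M3} (h : A.det = 1) : ndet3 (v A 0 0) (v A 0 1) (v A 0 2) (v A 1 0)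
    (v A 1 1) (v A 1 2) (v A 2 0) (v A 2 1) (v A 2 2) = 1 := by
  rw [det_eq] at h
  have h1 : ndet3 (v A 0 0) (v A 0 1) (v A 0 2) (v A 1 0)
    (v A 1 1) (v A 1 2) (v A 2 0) (v A 2 1) (v A 2 2) < 2 := by
    unfold ndet3; exact Nat.mod_lt _ (by norm_num)
  have h2 := congrArg ZMod.val h
  rw [ZMod.val_natCast, Nat.mod_eq_of_lt h1] at h2
  rw [h2]; rfl

theorem mul_v (A B : M3) (i j : Fin 3) :
    v (A * B) i j = (v A i 0 * v B 0 j + v A i 1 * v B 1 j + v A i 2 * v B 2 j) % 2 := by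
  unfold v
  rw [Matrix.mul_apply, Fin.sum_univ_three, ← ZMod.val_natCast]
  congr 1
  push_cast
  simp only [ZMod.natCast_zmod_val]

theorem mcode_mul (A B : M3) : mcode (A * B) =
    ncode ((v A 0 0 * v B 0 0 + v A 0 1 * v B 1 0 + v A 0 2 * v B 2 0) % 2)
      ((v A 0 0 * v B 0 1 + v A 0 1 * v B 1 1 + v A 0 2 * v B 2 1) % 2)
      ((v A 0 0 * v B 0 2 + v A 0 1 * v B 1 2 + v A 0 2 * v B 2 2) % 2)
      ((v A 1 0 * v B 0 0 + v A 1 1 * v B 1 0 + v A 1 2 * v B 2 0) % 2)
      ((v A 1 0 * v B 0 1 + v A 1 1 * v B 1 1 + v A 1 2 * v B 2 1) % 2)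
      ((v A 1 0 * v B 0 2 + v A 1 1 * v B 1 2 + v A 1 2 * v B 2 2) % 2)
      ((v A 2 0 * v B 0 0 + v A 2 1 * v B 1 0 + v A 2 2 * v B 2 0) % 2)
      ((v A 2 0 * v B 0 1 + v A 2 1 * v B 1 1 + v A 2 2 * v B 2 1) % 2)
      ((v A 2 0 * v B 0 2 + v A 2 1 * v B 1 2 + v A 2 2 * v B 2 2) % 2) := by
  unfold mcode
  simp only [mul_v]

theorem cast7_eq {a b : ℕ} (h : Nat.beq a (b % 7) = true) :
    ((a : ℕ) : ZMod 7) = ((b : ℕ) : ZMod 7) := by
  rw [Nat.eq_of_beq_eq_true h, ZMod.natCast_mod]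

theorem cast7_neg {a b : ℕ} (h : Nat.beq ((a + b) % 7) 0 = true) :
    ((a : ℕ) : ZMod 7) = -((b : ℕ) : ZMod 7) := by
  have : ((a + b : ℕ) : ZMod 7) = 0 := by
    rw [← ZMod.natCast_mod, Nat.eq_of_beq_eq_true h]; rfl
  push_cast at this
  exact eq_neg_of_add_eq_zero_left this

/-- multiplicativity up to sign -/
theorem T_mul {A B : M3} (hA : A.det = 1) (hB : B.det = 1) :
    T (A * B) = T A * T B ∨ T (A * B) = -(T A * T B) := by
  have h := check_hom (v_lt A 0 0) (v_lt A 0 1) (v_lt A 0 2) (v_lt A 1 0) (v_lt A 1 1)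
    (v_lt A 1 2) (v_lt A 2 0) (v_lt A 2 1) (v_lt A 2 2) (ndet_of_det hA)
    (v_lt B 0 0) (v_lt B 0 1) (v_lt B 0 2) (v_lt B 1 0) (v_lt B 1 1)
    (v_lt B 1 2) (v_lt B 2 0) (v_lt B 2 1) (v_lt B 2 2) (ndet_of_det hB)
  unfold nhomOK at h
  simp only [← mcode_mul] at h
  change (_ && _ && _ && _ || _ && _ && _ && _) = true at h
  simp only [Bool.or_eq_true, Bool.and_eq_true] at h
  rcases h with ⟨⟨⟨h0, h1⟩, h2⟩, h3⟩ | ⟨⟨⟨h0, h1⟩, h2⟩, h3⟩
  · left
    unfold T
    rw [Matrix.mul_fin_two]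
    rw [cast7_eq h0, cast7_eq h1, cast7_eq h2, cast7_eq h3]
    push_cast
    rfl
  · right
    unfold T
    rw [Matrix.mul_fin_two]
    rw [cast7_neg h0, cast7_neg h1, cast7_neg h2, cast7_neg h3]
    push_cast
    ext i j
    fin_cases i <;> fin_cases j <;> simp <;> rfl

theorem det_aux (x y z w : ℕ) (h : Nat.beq ((x * w) % 7) ((y * z + 1) % 7) = true) :
    (x : ZMod 7) * w - y * z = 1 := by
  have := cast7_eq h
  rw [ZMod.natCast_mod] at this
  push_cast at this
  linear_combination this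

theorem det_T {A : M3} (hA : A.det = 1) : (T A).det = 1 := by
  have h := (check_row (v_lt A 0 0) (v_lt A 0 1) (v_lt A 0 2) (v_lt A 1 0) (v_lt A 1 1)
    (v_lt A 1 2) (v_lt A 2 0) (v_lt A 2 1) (v_lt A 2 2) (ndet_of_det hA)).1
  unfold nrowOK at h
  change (_ && _) = true at h
  simp only [Bool.and_eq_true] at h
  obtain ⟨h1, -⟩ := h
  unfold T
  rw [Matrix.det_fin_two_of]
  exact det_aux _ _ _ _ h1

theorem T_entries (A : M3) (c : M2) (h : T A = c) :
    look (mcode A) % 7 = (c 0 0).val ∧ look (mcode A) / 7 % 7 = (c 0 1).val ∧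
    look (mcode A) / 49 % 7 = (c 1 0).val ∧ look (mcode A) / 343 % 7 = (c 1 1).val := by
  subst h
  unfold T
  refine ⟨?_, ?_, ?_, ?_⟩ <;> simp [ZMod.val_natCast]

theorem look_lt (n : ℕ) : look n < 2401 := Nat.mod_lt _ (by norm_num)

/-- the kernel is trivial -/
theorem T_ker {A : M3} (hA : A.det = 1) (h : T A = 1 ∨ T A = -1) : A = 1 := by
  have h0 := (check_row (v_lt A 0 0) (v_lt A 0 1) (v_lt A 0 2) (v_lt A 1 0) (v_lt A 1 1)
    (v_lt A 1 2) (v_lt A 2 0) (v_lt A 2 1) (v_lt A 2 2) (ndet_of_det hA)).2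
  have h0 := (check_row (v_lt A 0 0) (v_lt A 0 1) (v_lt A 0 2) (v_lt A 1 0) (v_lt A 1 1)
    (v_lt A 1 2) (v_lt A 2 0) (v_lt A 2 1) (v_lt A 2 2) (ndet_of_det hA)).1
  unfold nrowOK at h0
  change (_ && _) = true at h0
  simp only [Bool.and_eq_true] at h0
  obtain ⟨-, h1⟩ := h0
  have hm : look (mcode A) = 344 ∨ look (mcode A) = 2064 := by
    have hlt := look_lt (mcode A)
    rcases h with h | h
    · obtain ⟨e0, e1, e2, e3⟩ := T_entries A 1 h
      have f0 : ((1 : M2) 0 0).val = 1 := by decide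
      have f1 : ((1 : M2) 0 1).val = 0 := by decide
      have f2 : ((1 : M2) 1 0).val = 0 := by decide
      have f3 : ((1 : M2) 1 1).val = 1 := by decide
      rw [f0] at e0; rw [f1] at e1; rw [f2] at e2; rw [f3] at e3
      left; omega
    · obtain ⟨e0, e1, e2, e3⟩ := T_entries A (-1) h
      have f0 : ((-1 : M2) 0 0).val = 6 := by decide
      have f1 : ((-1 : M2) 0 1).val = 0 := by decide
      have f2 : ((-1 : M2) 1 0).val = 0 := by decide
      have f3 : ((-1 : M2) 1 1).val = 6 := by decide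
      rw [f0] at e0; rw [f1] at e1; rw [f2] at e2; rw [f3] at e3
      right; omega
  have h2 : mcode A = 273 := by
    have h1' : (!(Nat.beq (look (mcode A)) 344 || Nat.beq (look (mcode A)) 2064) ||
      Nat.beq (mcode A) 273) = true := h1
    rcases hm with hm | hm
    · rw [hm] at h1'
      exact Nat.eq_of_beq_eq_true (by simpa using h1')
    · rw [hm] at h1'
      exact Nat.eq_of_beq_eq_true (by simpa using h1')
  unfold mcode ncode at h2
  have b00 := v_lt A 0 0
  have b01 := v_lt A 0 1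
  have b02 := v_lt A 0 2
  have b10 := v_lt A 1 0
  have b11 := v_lt A 1 1
  have b12 := v_lt A 1 2
  have b20 := v_lt A 2 0
  have b21 := v_lt A 2 1
  have b22 := v_lt A 2 2
  have c00 : v A 0 0 = 1 := by omega
  have c01 : v A 0 1 = 0 := by omega
  have c02 : v A 0 2 = 0 := by omega
  have c10 : v A 1 0 = 0 := by omega
  have c11 : v A 1 1 = 1 := by omega
  have c12 : v A 1 2 = 0 := by omega
  have c20 : v A 2 0 = 0 := by omega
  have c21 : v A 2 1 = 0 := by omega
  have c22 : v A 2 2 = 1 := by omega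
  ext i j
  rw [← cast_v A i j]
  fin_cases i <;> fin_cases j <;> simp [c00, c01, c02, c10, c11, c12, c20, c21, c22]

abbrev S3 := SpecialLinearGroup (Fin 3) (ZMod 2)
abbrev S2 := SpecialLinearGroup (Fin 2) (ZMod 7)

/-- the image in `SL_2(7)` -/
def TS (A : S3) : S2 := ⟨T A.1, det_T A.2⟩

section maps

variable {F : Type*} [Field F] (e : ZMod 7 ≃+* F)

/-- `SL_2(7) → PSL_2(F)` -/
def psi1 : S2 →* Matrix.ProjectiveSpecialLinearGroup (Fin 2) F :=
  (QuotientGroup.mk' _).comp (SpecialLinearGroup.map e.toRingHom)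

theorem map_coe (X : S2) (i j : Fin 2) :
    (SpecialLinearGroup.map e.toRingHom X : Matrix (Fin 2) (Fin 2) F) i j = e ((X : M2) i j) := by
  rw [SpecialLinearGroup.map_apply_coe, RingHom.mapMatrix_apply]
  rfl

theorem psi1_eq_one_iff (X : S2) : psi1 e X = 1 ↔ (X : M2) = 1 ∨ (X : M2) = -1 := by
  unfold psi1
  rw [MonoidHom.comp_apply, QuotientGroup.mk'_apply, QuotientGroup.eq_one_iff,
    Matrix.SpecialLinearGroup.mem_center_iff]
  constructor
  · rintro ⟨r, hr1, hr2⟩
    have hr : r = 1 ∨ r = -1 := by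
      have : r ^ 2 = 1 := by simpa using hr1
      exact sq_eq_one_iff.1 this
    have hent : ∀ i j, e ((X : M2) i j) = if i = j then r else 0 := by
      intro i j
      rw [← map_coe, ← hr2, Matrix.scalar_apply, Matrix.diagonal_apply]
    rcases hr with rfl | rfl
    · left
      ext i j
      apply e.injective
      rw [hent, Matrix.one_apply]
      split_ifs <;> simp
    · right
      ext i j
      apply e.injective
      rw [hent, Matrix.neg_apply, Matrix.one_apply]
      split_ifs <;> simp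
  · rintro (h | h)
    · refine ⟨1, one_pow _, ?_⟩
      ext i j
      rw [map_coe, h, Matrix.scalar_apply, Matrix.diagonal_apply, Matrix.one_apply]
      split_ifs <;> simp
    · refine ⟨-1, by simp, ?_⟩
      ext i j
      rw [map_coe, h, Matrix.scalar_apply, Matrix.diagonal_apply, Matrix.neg_apply,
        Matrix.one_apply]
      split_ifs <;> simp

theorem psi1_eq (X Y : S2) (h : (X : M2) = (Y : M2) ∨ (X : M2) = -(Y : M2)) :
    psi1 e X = psi1 e Y := by
  rw [← mul_inv_eq_one, ← map_inv, ← map_mul, psi1_eq_one_iff]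
  rcases h with h | h
  · left
    have : X = Y := Subtype.ext h
    rw [this, mul_inv_cancel]; rfl
  · right
    have hX : X = -Y := Subtype.ext (by rw [SpecialLinearGroup.coe_neg]; exact h)
    rw [hX, neg_mul, mul_inv_cancel]
    simp

/-- the homomorphism `SL_3(2) → PSL_2(F)` -/
def psi : S3 →* Matrix.ProjectiveSpecialLinearGroup (Fin 2) F :=
  MonoidHom.mk' (fun A => psi1 e (TS A)) (by
    intro A B
    rw [← map_mul]
    apply psi1_eq
    exact T_mul A.2 B.2)

theorem psi_injective : Function.Injective (psi e) := by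
  rw [injective_iff_map_eq_one]
  intro A hA
  have h1 : psi1 e (TS A) = 1 := hA
  rw [psi1_eq_one_iff] at h1
  exact Subtype.ext (T_ker A.2 h1)

end maps

theorem card_S3 : Nat.card S3 = 168 := by
  have h := Cfsg.Agent.S0242.result (F := ZMod 2) (q := 2) (ZMod.card 2) 3 (by norm_num)
  rw [Fin.prod_univ_three] at h
  simpa using h

section chi

variable {K : Type*} [Field K] (e' : ZMod 2 ≃+* K)

/-- `SL_3(2) → PSL_3(K)` -/
def chi : S3 →* Matrix.ProjectiveSpecialLinearGroup (Fin 3) K :=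
  (QuotientGroup.mk' _).comp (SpecialLinearGroup.map e'.toRingHom)

theorem map_coe3 (X : S3) (i j : Fin 3) :
    (SpecialLinearGroup.map e'.toRingHom X : Matrix (Fin 3) (Fin 3) K) i j = e' ((X : M3) i j) := by
  rw [SpecialLinearGroup.map_apply_coe, RingHom.mapMatrix_apply]
  rfl

theorem chi_injective : Function.Injective (chi e') := by
  rw [injective_iff_map_eq_one]
  intro A hA
  unfold chi at hA
  rw [MonoidHom.comp_apply, QuotientGroup.mk'_apply, QuotientGroup.eq_one_iff,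
    Matrix.SpecialLinearGroup.mem_center_iff] at hA
  obtain ⟨r, hr1, hr2⟩ := hA
  have hr : r = 1 := by
    have h0 : r ≠ 0 := by
      rintro rfl
      simp at hr1
    have h1 : e'.symm r ≠ 0 := by
      intro h
      apply h0
      rw [← e'.apply_symm_apply r, h, map_zero]
    have h2 : e'.symm r = 1 := by
      revert h1
      generalize e'.symm r = x
      revert x
      decide
    rw [← e'.apply_symm_apply r, h2, map_one]
  subst hr
  apply Subtype.ext
  ext i j
  show (A : M3) i j = (1 : M3) i j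
  apply e'.injective
  rw [← map_coe3, ← hr2, Matrix.scalar_apply, Matrix.diagonal_apply, Matrix.one_apply]
  split_ifs <;> simp

end chi

/-- PSL_2(7) is isomorphic to PSL_3(2). -/
theorem result {F K : Type*} [Field F] [Fintype F] [Field K] [Fintype K] (hF : Fintype.card F = 7) (hK : Fintype.card K = 2) : Nonempty (Matrix.ProjectiveSpecialLinearGroup (Fin 2) F ≃* Matrix.ProjectiveSpecialLinearGroup (Fin 3) K) := by
  have : Fact (Nat.Prime 7) := ⟨by norm_num⟩
  have e : ZMod 7 ≃+* F := ZMod.ringEquivOfPrime F (by norm_num) hF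
  have e' : ZMod 2 ≃+* K := ZMod.ringEquivOfPrime K Nat.prime_two hK
  have hc2 : Nat.card (Matrix.ProjectiveSpecialLinearGroup (Fin 2) F) = 168 := by
    have h := Cfsg.Agent.S0243.result hF 2 le_rfl
    simp [Fin.prod_univ_two] at h
    omega
  have hc3 : Nat.card (Matrix.ProjectiveSpecialLinearGroup (Fin 3) K) = 168 := by
    have h := Cfsg.Agent.S0243.result hK 3 (by norm_num)
    simp [Fin.prod_univ_three] at h
    omega
  have f2 : Finite (Matrix.ProjectiveSpecialLinearGroup (Fin 2) F) :=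
    Nat.finite_of_card_ne_zero (by rw [hc2]; norm_num)
  have f3 : Finite (Matrix.ProjectiveSpecialLinearGroup (Fin 3) K) :=
    Nat.finite_of_card_ne_zero (by rw [hc3]; norm_num)
  have b2 : Function.Bijective (psi e) :=
    (psi_injective e).bijective_of_nat_card_le (by rw [hc2, card_S3])
  have b3 : Function.Bijective (chi e') :=
    (chi_injective e').bijective_of_nat_card_le (by rw [hc3, card_S3])
  exact ⟨(MulEquiv.ofBijective (psi e) b2).symm.trans (MulEquiv.ofBijective (chi e') b3)⟩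

end Cfsg.Agent.S0255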