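import Cfsg.Statements.S3965
import Mathlib
import Cfsg.Agent.H1.Basic
import Cfsg.Agent.H1.StemMeta
import Cfsg.Prelude.Def_KGroupFacts
import Cfsg.Agent.H1.DihCover

set_option autoImplicit false
open Cfsg

namespace Cfsg.Agent.S3965

set_option autoImplicit false
open H1

/-- For even `n ≥ 2` the dihedral group of order `2 n` has Schur multiplier cyclic of order `2`. -/
theorem result (n : ℕ) [NeZero n] (hn : Even n) : Cfsg.HasCyclicSchurMultiplier (DihedralGroup n) 2 := by
  constructor
  · have : NeZero (2 * n) := ⟨Nat.mul_ne_zero (by norm_num) (NeZero.ne n)⟩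
    refine ⟨DihedralGroup (2 * n), inferInstance, inferInstance, dihCover n, dihCover_isStem n hn, ?_⟩
    have hcard := card_ker_dihCover n
    have : Fact (Nat.Prime 2) := ⟨Nat.prime_two⟩
    have hcyc : IsCyclic (dihCover n).ker := isCyclic_of_prime_card hcard
    have e := zmodCyclicMulEquiv hcyc
    rw [hcard] at e
    exact ⟨e.symm⟩
  · intro Γ _ _ σ hσ
    obtain ⟨hsurj, hcen, hcomm⟩ := hσ
    obtain ⟨at', hat⟩ := hsurj (DihedralGroup.r 1)
    obtain ⟨xt, hxt⟩ := hsurj (DihedralGroup.sr 0)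
    have hgen : Subgroup.closure {σ at', σ xt} = ⊤ := by
      rw [hat, hxt, eq_top_iff]
      intro g _
      have hr : ∀ i : ZMod n, DihedralGroup.r i ∈ Subgroup.closure {DihedralGroup.r (1 : ZMod n), DihedralGroup.sr 0} := by
        intro i
        have : DihedralGroup.r i = (DihedralGroup.r (1 : ZMod n)) ^ i.val := by
          rw [DihedralGroup.r_one_pow, ZMod.natCast_zmod_val]
        rw [this]
        exact pow_mem (Subgroup.subset_closure (Set.mem_insert _ _)) _
      cases g with
      | r i => exact hr i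
      | sr i =>
        have : DihedralGroup.sr i = DihedralGroup.sr 0 * DihedralGroup.r i := by
          rw [DihedralGroup.sr_mul_r, zero_add]
        rw [this]
        exact mul_mem (Subgroup.subset_closure (Set.mem_insert_of_mem _ rfl)) (hr i)
    have hinv : σ (xt * at' * xt⁻¹) = (σ at')⁻¹ := by
      rw [map_mul, map_mul, map_inv, hat, hxt]
      simp
    obtain ⟨h1, h2, -⟩ := stem_metacyclic σ hcen hcomm at' xt hgen hinv
    obtain ⟨c, hcdef⟩ : ∃ c, c = at'⁻¹ * (xt * at' * xt⁻¹) := ⟨_, rfl⟩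
    rw [← hcdef] at h1 h2
    obtain ⟨m, hm⟩ := hn
    have hcn : c ^ n = 1 := h2 n (by rw [hat]; exact DihedralGroup.r_one_pow_n)
    have hw2 : (c ^ m) ^ 2 = 1 := by rw [← pow_mul, ← hcn]; congr 1; omega
    have hwker : c ^ m ∈ σ.ker := by
      rw [MonoidHom.mem_ker, map_pow, hcdef, map_mul, map_inv, hinv, hat]
      have : (DihedralGroup.r (1 : ZMod n))⁻¹ * (DihedralGroup.r (1 : ZMod n))⁻¹ =
          ((DihedralGroup.r (1 : ZMod n)) ^ 2)⁻¹ := by group
      rw [this, inv_pow, inv_eq_one, ← pow_mul]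
      have : 2 * m = n := by omega
      rw [this]; exact DihedralGroup.r_one_pow_n
    obtain ⟨W, hWdef⟩ : ∃ W : σ.ker, W = ⟨c ^ m, hwker⟩ := ⟨_, rfl⟩
    have hW2 : W ^ 2 = 1 := by
      apply Subtype.ext
      rw [hWdef, Subgroup.coe_pow, Subgroup.coe_one]
      exact hw2
    let π : Multiplicative (ZMod 2) →* σ.ker :=
      { toFun := fun t => W ^ (Multiplicative.toAdd t).val
        map_one' := by simp
        map_mul' := by
          intro a b
          rw [toAdd_mul, ZMod.val_add, ← pow_add, ← pow_eq_pow_mod _ hW2] }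
    refine ⟨π, ?_⟩
    intro y
    obtain ⟨j, hyj, hj⟩ := h1 y y.2
    rw [hat] at hj
    have hdvd : n ∣ 2 * j := by
      have := orderOf_dvd_of_pow_eq_one hj
      rwa [DihedralGroup.orderOf_r_one] at this
    have hdvd' : m ∣ j := by
      have h3 : 2 * m ∣ 2 * j := by
        have : 2 * m = n := by omega
        rw [this]; exact hdvd
      exact Nat.dvd_of_mul_dvd_mul_left (by norm_num) h3
    obtain ⟨q, rfl⟩ := hdvd'
    refine ⟨Multiplicative.ofAdd ((q : ℕ) : ZMod 2), ?_⟩
    apply Subtype.ext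
    show ((W ^ (Multiplicative.toAdd (Multiplicative.ofAdd ((q : ℕ) : ZMod 2))).val : σ.ker) : Γ) = y
    rw [toAdd_ofAdd, ZMod.val_natCast, ← pow_eq_pow_mod _ hW2, hyj, hWdef, Subgroup.coe_pow, pow_mul]

end Cfsg.Agent.S3965
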