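import Cfsg.Statements.S5638
import Mathlib

set_option autoImplicit false
open Cfsg

namespace Cfsg.Agent.S5638

open Matrix
open scoped Kronecker

/-- The elements conjugating `t` to `t` or `t⁻¹`. -/
def extCent {G : Type*} [Group G] (t : G) : Subgroup G where
  carrier := {g | g * t * g⁻¹ = t ∨ g * t * g⁻¹ = t⁻¹}
  mul_mem' := by
    rintro g h hg hh
    have e : g * h * t * (g * h)⁻¹ = g * (h * t * h⁻¹) * g⁻¹ := by group
    rcases hh with hh | hh <;> rcases hg with hg | hg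
    · left; rw [e, hh, hg]
    · right; rw [e, hh, hg]
    · right
      rw [e, hh]
      have : g * t⁻¹ * g⁻¹ = (g * t * g⁻¹)⁻¹ := by group
      rw [this, hg]
    · left
      rw [e, hh]
      have : g * t⁻¹ * g⁻¹ = (g * t * g⁻¹)⁻¹ := by group
      rw [this, hg, inv_inv]
  one_mem' := by left; group
  inv_mem' := by
    rintro g hg
    rcases hg with hg | hg
    · left
      have : g⁻¹ * (g * t * g⁻¹) * g⁻¹⁻¹ = t := by group
      rw [hg] at this; exact this
    · right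
      have : g⁻¹ * (g * t * g⁻¹)⁻¹ * g⁻¹⁻¹ = t⁻¹ := by group
      rw [hg, inv_inv] at this; exact this

theorem mem_extCent_iff {G : Type*} [Group G] (t g : G) :
    g ∈ extCent t ↔ g * t = t * g ∨ g * t = t⁻¹ * g := by
  change (g * t * g⁻¹ = t ∨ g * t * g⁻¹ = t⁻¹) ↔ _
  rw [mul_inv_eq_iff_eq_mul, mul_inv_eq_iff_eq_mul]

theorem map_mem_extCent_iff {G H : Type*} [Group G] [Group H] (φ : G →* H) (hφ : Function.Injective φ)
    (t g : G) : φ g ∈ extCent (φ t) ↔ g ∈ extCent t := by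
  rw [mem_extCent_iff, mem_extCent_iff, ← map_mul, ← map_mul, ← map_inv, ← map_mul, hφ.eq_iff, hφ.eq_iff]

section field2
variable {F : Type*} [Field F] [Fintype F] (hq : Fintype.card F = 2)
include hq

theorem h01 (x : F) : x = 0 ∨ x = 1 := by
  classical
  have huniv : (Finset.univ : Finset F) = {0, 1} := by
    symm
    apply Finset.eq_univ_of_card
    rw [Finset.card_pair zero_ne_one, hq]
  have := Finset.mem_univ x
  rw [huniv] at this
  simpa using this

theorem h11 : (1 : F) + 1 = 0 := by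
  rcases h01 hq ((1 : F) + 1) with h | h
  · exact h
  · exfalso
    have : (1 : F) = 0 := by simp at h
    exact one_ne_zero this

variable (F) in
def om : Matrix (Fin 2) (Fin 2) F := !![0, 1; 1, 1]
variable (F) in
def om2 : Matrix (Fin 2) (Fin 2) F := !![1, 1; 1, 0]

theorem om_mul_om2 : om F * om2 F = 1 := by
  have := h11 hq
  ext i j
  fin_cases i <;> fin_cases j <;> simp [om, om2, Matrix.mul_apply, Fin.sum_univ_two, this]

theorem om2_mul_om : om2 F * om F = 1 := by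
  have := h11 hq
  ext i j
  fin_cases i <;> fin_cases j <;> simp [om, om2, Matrix.mul_apply, Fin.sum_univ_two, this]

theorem om_mul_om : om F * om F = om2 F := by
  have := h11 hq
  ext i j
  fin_cases i <;> fin_cases j <;> simp [om, om2, Matrix.mul_apply, Fin.sum_univ_two, this]

/-- Every invertible `2 × 2` matrix over the field with two elements normalises `⟨ω⟩`. -/
theorem two_by_two (A : Matrix (Fin 2) (Fin 2) F) (hA : A.det ≠ 0) :
    A * om F = om F * A ∨ A * om F = om2 F * A := by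
  have h1 := h11 hq
  rw [Matrix.det_fin_two] at hA
  have hA' : A = !![A 0 0, A 0 1; A 1 0, A 1 1] := Matrix.eta_fin_two A
  rcases h01 hq (A 0 0) with hp | hp <;> rcases h01 hq (A 0 1) with hq' | hq' <;>
    rcases h01 hq (A 1 0) with hr | hr <;> rcases h01 hq (A 1 1) with hs | hs <;>
    rw [hp, hq', hr, hs] at hA hA' <;>
    first
    | (exfalso; simp at hA; done)
    | (left; rw [hA']; ext i j; fin_cases i <;> fin_cases j <;>
        simp [om, Matrix.mul_apply, Fin.sum_univ_two, h1]; done)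
    | (right; rw [hA']; ext i j; fin_cases i <;> fin_cases j <;>
        simp [om, om2, Matrix.mul_apply, Fin.sum_univ_two, h1]; done)

end field2

section kron
variable {F : Type*} [Field F] [Fintype F] (hq : Fintype.card F = 2) (n₂ : ℕ)

/-- `ω ⊗ 1` as an element of the general linear group. -/
def Om0 : Matrix.GeneralLinearGroup (Fin 2 × Fin n₂) F :=
  ⟨om F ⊗ₖ (1 : Matrix (Fin n₂) (Fin n₂) F), om2 F ⊗ₖ (1 : Matrix (Fin n₂) (Fin n₂) F),
    by rw [← Matrix.mul_kronecker_mul, om_mul_om2 hq, mul_one, Matrix.one_kronecker_one],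
    by rw [← Matrix.mul_kronecker_mul, om2_mul_om hq, mul_one, Matrix.one_kronecker_one]⟩

theorem Om0_val : ((Om0 hq n₂ : Matrix.GeneralLinearGroup (Fin 2 × Fin n₂) F) : Matrix _ _ F) =
    om F ⊗ₖ (1 : Matrix (Fin n₂) (Fin n₂) F) := rfl

theorem Om0_inv_val : (((Om0 hq n₂)⁻¹ : Matrix.GeneralLinearGroup (Fin 2 × Fin n₂) F) : Matrix _ _ F) =
    om2 F ⊗ₖ (1 : Matrix (Fin n₂) (Fin n₂) F) := rfl

theorem kron_le : Cfsg.Geo.kroneckerSubgroup 2 n₂ F ≤ extCent (Om0 hq n₂) := by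
  rintro k ⟨a, b, hab⟩
  have hdet : (a : Matrix (Fin 2) (Fin 2) F).det ≠ 0 :=
    ((Matrix.isUnit_iff_isUnit_det _).1 a.isUnit).ne_zero
  rw [mem_extCent_iff]
  rcases two_by_two hq _ hdet with h | h
  · left
    apply Units.ext
    rw [Units.val_mul, Units.val_mul, hab, Om0_val, ← Matrix.mul_kronecker_mul, ← Matrix.mul_kronecker_mul,
      h, mul_one, one_mul]
  · right
    apply Units.ext
    rw [Units.val_mul, Units.val_mul, hab, Om0_val, Om0_inv_val, ← Matrix.mul_kronecker_mul,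
      ← Matrix.mul_kronecker_mul, h, mul_one, one_mul]

section elements
variable (i0 i1 : Fin n₂) (h01' : i0 ≠ i1)

/-- The idempotent `E = e_{i0 i0}`. -/
def EE : Matrix (Fin n₂) (Fin n₂) F := Matrix.single i0 i0 1

omit [Fintype F] in
theorem EE_mul_EE : EE (F := F) n₂ i0 * EE n₂ i0 = EE n₂ i0 := by
  unfold EE
  rw [Matrix.single_mul_single_same, mul_one]

omit [Fintype F] in
theorem EE_mul_compl : EE (F := F) n₂ i0 * (1 - EE n₂ i0) = 0 := by
  rw [mul_sub, mul_one, EE_mul_EE, sub_self]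

omit [Fintype F] in
theorem compl_mul_EE : (1 - EE (F := F) n₂ i0) * EE n₂ i0 = 0 := by
  rw [sub_mul, one_mul, EE_mul_EE, sub_self]

omit [Fintype F] in
theorem compl_mul_compl : (1 - EE (F := F) n₂ i0) * (1 - EE n₂ i0) = 1 - EE n₂ i0 := by
  rw [mul_sub, mul_one, compl_mul_EE, sub_zero]

/-- The block-diagonal matrix with `ω` in the block `i0` and identity blocks elsewhere. -/
def g0 : Matrix.GeneralLinearGroup (Fin 2 × Fin n₂) F :=
  ⟨om F ⊗ₖ EE n₂ i0 + (1 : Matrix (Fin 2) (Fin 2) F) ⊗ₖ (1 - EE n₂ i0),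
    om2 F ⊗ₖ EE n₂ i0 + (1 : Matrix (Fin 2) (Fin 2) F) ⊗ₖ (1 - EE n₂ i0),
    by
      rw [add_mul, mul_add, mul_add, ← Matrix.mul_kronecker_mul, ← Matrix.mul_kronecker_mul,
        ← Matrix.mul_kronecker_mul, ← Matrix.mul_kronecker_mul, om_mul_om2 hq, EE_mul_EE, EE_mul_compl,
        compl_mul_EE, compl_mul_compl, Matrix.kronecker_zero, Matrix.kronecker_zero, add_zero, zero_add,
        mul_one, ← Matrix.kronecker_add, add_sub_cancel, Matrix.one_kronecker_one],
    by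
      rw [add_mul, mul_add, mul_add, ← Matrix.mul_kronecker_mul, ← Matrix.mul_kronecker_mul,
        ← Matrix.mul_kronecker_mul, ← Matrix.mul_kronecker_mul, om2_mul_om hq, EE_mul_EE, EE_mul_compl,
        compl_mul_EE, compl_mul_compl, Matrix.kronecker_zero, Matrix.kronecker_zero, add_zero, zero_add,
        mul_one, ← Matrix.kronecker_add, add_sub_cancel, Matrix.one_kronecker_one]⟩

theorem g0_mem : g0 hq n₂ i0 ∈ extCent (Om0 hq n₂) := by
  rw [mem_extCent_iff]
  left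
  apply Units.ext
  rw [Units.val_mul, Units.val_mul, Om0_val]
  change (om F ⊗ₖ EE n₂ i0 + (1 : Matrix (Fin 2) (Fin 2) F) ⊗ₖ (1 - EE n₂ i0)) * (om F ⊗ₖ 1) =
    (om F ⊗ₖ 1) * (om F ⊗ₖ EE n₂ i0 + (1 : Matrix (Fin 2) (Fin 2) F) ⊗ₖ (1 - EE n₂ i0))
  rw [add_mul, mul_add, ← Matrix.mul_kronecker_mul, ← Matrix.mul_kronecker_mul,
    ← Matrix.mul_kronecker_mul, ← Matrix.mul_kronecker_mul, mul_one, one_mul, mul_one, one_mul, mul_one, one_mul]

include h01' in
theorem g0_not_kron : g0 hq n₂ i0 ∉ Cfsg.Geo.kroneckerSubgroup 2 n₂ F := by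
  rintro ⟨a, b, hab⟩
  have hval : ∀ (i i' : Fin 2) (j j' : Fin n₂),
      ((om F ⊗ₖ EE n₂ i0 + (1 : Matrix (Fin 2) (Fin 2) F) ⊗ₖ (1 - EE n₂ i0) :
        Matrix (Fin 2 × Fin n₂) (Fin 2 × Fin n₂) F)) (i, j) (i', j') =
        (a : Matrix (Fin 2) (Fin 2) F) i i' * (b : Matrix (Fin n₂) (Fin n₂) F) j j' := by
    intro i i' j j'
    have := congrFun (congrFun hab (i, j)) (i', j')
    rw [Matrix.kroneckerMap_apply] at this
    exact this
  have e1 := hval 0 0 i1 i1
  have e2 := hval 0 0 i0 i0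
  have e3 := hval 0 1 i0 i0
  simp only [Matrix.add_apply, Matrix.kroneckerMap_apply, EE, Matrix.sub_apply, Matrix.one_apply,
    Matrix.single_apply, om] at e1 e2 e3
  simp [h01'] at e1 e2 e3
  rcases e2 with h | h
  · rw [h, zero_mul] at e1; exact one_ne_zero e1
  · rw [h, mul_zero] at e3; exact one_ne_zero e3

/-- The elementary nilpotent matrix `e₀₀ ⊗ e_{i0 i1}`. -/
def Xm : Matrix (Fin 2 × Fin n₂) (Fin 2 × Fin n₂) F :=
  (Matrix.single 0 0 1 : Matrix (Fin 2) (Fin 2) F) ⊗ₖ (Matrix.single i0 i1 1 : Matrix (Fin n₂) (Fin n₂) F)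

include hq h01' in
theorem t0_sq : (1 + Xm (F := F) n₂ i0 i1) * (1 + Xm n₂ i0 i1) = 1 := by
  have hXX : Xm (F := F) n₂ i0 i1 * Xm n₂ i0 i1 = 0 := by
    unfold Xm
    rw [← Matrix.mul_kronecker_mul, Matrix.single_mul_single_of_ne _ _ _ _ h01'.symm, Matrix.kronecker_zero]
  have h2X : Xm (F := F) n₂ i0 i1 + Xm n₂ i0 i1 = 0 := by
    rw [← two_smul F (Xm n₂ i0 i1)]
    have : (2 : F) = 0 := by rw [← one_add_one_eq_two]; exact h11 hq
    rw [this, zero_smul]
  calc (1 + Xm (F := F) n₂ i0 i1) * (1 + Xm n₂ i0 i1)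
      = 1 + (Xm n₂ i0 i1 + Xm n₂ i0 i1) + Xm n₂ i0 i1 * Xm n₂ i0 i1 := by noncomm_ring
    _ = 1 := by rw [h2X, hXX, add_zero, add_zero]

/-- A transvection not normalising `⟨ω ⊗ 1⟩`. -/
def t0 : Matrix.GeneralLinearGroup (Fin 2 × Fin n₂) F :=
  ⟨1 + Xm n₂ i0 i1, 1 + Xm n₂ i0 i1, t0_sq hq n₂ i0 i1 h01', t0_sq hq n₂ i0 i1 h01'⟩

theorem t0_not_mem : t0 hq n₂ i0 i1 h01' ∉ extCent (Om0 hq n₂) := by
  rw [mem_extCent_iff]
  have h1 := h11 hq
  have hXo : Xm (F := F) n₂ i0 i1 * (om F ⊗ₖ (1 : Matrix (Fin n₂) (Fin n₂) F)) =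
      ((Matrix.single 0 0 1 : Matrix (Fin 2) (Fin 2) F) * om F) ⊗ₖ
        (Matrix.single i0 i1 1 : Matrix (Fin n₂) (Fin n₂) F) := by
    unfold Xm; rw [← Matrix.mul_kronecker_mul, mul_one]
  have hoX : (om F ⊗ₖ (1 : Matrix (Fin n₂) (Fin n₂) F)) * Xm (F := F) n₂ i0 i1 =
      (om F * (Matrix.single 0 0 1 : Matrix (Fin 2) (Fin 2) F)) ⊗ₖ
        (Matrix.single i0 i1 1 : Matrix (Fin n₂) (Fin n₂) F) := by
    unfold Xm; rw [← Matrix.mul_kronecker_mul, one_mul]
  have ho2X : (om2 F ⊗ₖ (1 : Matrix (Fin n₂) (Fin n₂) F)) * Xm (F := F) n₂ i0 i1 =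
      (om2 F * (Matrix.single 0 0 1 : Matrix (Fin 2) (Fin 2) F)) ⊗ₖ
        (Matrix.single i0 i1 1 : Matrix (Fin n₂) (Fin n₂) F) := by
    unfold Xm; rw [← Matrix.mul_kronecker_mul, one_mul]
  rintro (h | h)
  · have h' : (1 + Xm (F := F) n₂ i0 i1) * (om F ⊗ₖ (1 : Matrix (Fin n₂) (Fin n₂) F)) =
        (om F ⊗ₖ (1 : Matrix (Fin n₂) (Fin n₂) F)) * (1 + Xm n₂ i0 i1) :=
      congrArg Units.val h
    rw [add_mul, mul_add, one_mul, mul_one, hXo, hoX] at h'
    have := congrFun (congrFun h' (0, i0)) (1, i1)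
    simp [Matrix.kroneckerMap_apply, om, Matrix.single_apply, Matrix.mul_apply, h01', Matrix.vecMul,
      dotProduct] at this
  · have h' : (1 + Xm (F := F) n₂ i0 i1) * (om F ⊗ₖ (1 : Matrix (Fin n₂) (Fin n₂) F)) =
        (om2 F ⊗ₖ (1 : Matrix (Fin n₂) (Fin n₂) F)) * (1 + Xm n₂ i0 i1) :=
      congrArg Units.val h
    rw [add_mul, mul_add, one_mul, mul_one, hXo, ho2X] at h'
    have := congrFun (congrFun h' (0, i1)) (0, i1)
    simp [Matrix.kroneckerMap_apply, om, om2, Matrix.single_apply, Matrix.mul_apply, h01'] at this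

end elements

end kron

/-- Over the field with 2 elements, for n = 2 n₂ ≥ 13, the stabiliser in SL_n of a tensor decomposition with factors of dimensions 2 and n₂ (the conjugate by any P of the Kronecker-product subgroup transported along any bijection Fin n ≃ Fin 2 × Fin n₂, intersected with SL_n) is not a maximal subgroup: some subgroup lies strictly between it and SL_n. -/
theorem result {F : Type*} [Field F] [Fintype F] (n : ℕ) (hn : 13 ≤ n) (hq : Fintype.card F = 2) (n₂ : ℕ) (e : Fin n ≃ Fin 2 × Fin n₂) (P : Matrix.GeneralLinearGroup (Fin n) F) : ∃ K : Subgroup (Matrix.GeneralLinearGroup (Fin n) F), Cfsg.Geo.tensorProductSubgroup 2 n₂ e P ⊓ Cfsg.Geo.specialLinear (Fin n) F < K ∧ K < Cfsg.Geo.specialLinear (Fin n) F := by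
  classical
  have hn₂ : 2 ≤ n₂ := by
    have := Fintype.card_congr e
    simp only [Fintype.card_fin, Fintype.card_prod] at this
    omega
  let i0 : Fin n₂ := ⟨0, by omega⟩
  let i1 : Fin n₂ := ⟨1, by omega⟩
  have h01' : i0 ≠ i1 := by
    intro h
    have := congrArg Fin.val h
    simp [i0, i1] at this
  have hSL : Cfsg.Geo.specialLinear (Fin n) F = ⊤ := by
    rw [Subgroup.eq_top_iff']
    intro g
    unfold Cfsg.Geo.specialLinear
    rw [MonoidHom.mem_ker]
    have : Subsingleton Fˣ := by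
      rw [← Fintype.card_le_one_iff_subsingleton, Fintype.card_units, hq]
    exact Subsingleton.elim _ _
  let c : Matrix.GeneralLinearGroup (Fin 2 × Fin n₂) F →* Matrix.GeneralLinearGroup (Fin n) F :=
    (MulAut.conj P).toMonoidHom.comp (Cfsg.Geo.glReindex (F := F) e.symm).toMonoidHom
  have hc : Function.Injective c := by
    intro x y h
    have h' : (MulAut.conj P) ((Cfsg.Geo.glReindex (F := F) e.symm) x) =
        (MulAut.conj P) ((Cfsg.Geo.glReindex (F := F) e.symm) y) := h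
    exact (Cfsg.Geo.glReindex (F := F) e.symm).injective ((MulAut.conj P).injective h')
  have htens : Cfsg.Geo.tensorProductSubgroup 2 n₂ e P = (Cfsg.Geo.kroneckerSubgroup 2 n₂ F).map c := by
    unfold Cfsg.Geo.tensorProductSubgroup
    rw [Subgroup.map_map]
  refine ⟨extCent (c (Om0 hq n₂)), ?_, ?_⟩
  · rw [hSL, inf_top_eq, htens]
    refine lt_of_le_of_ne ?_ ?_
    · rintro _ ⟨k, hk, rfl⟩
      exact (map_mem_extCent_iff c hc _ _).2 (kron_le hq n₂ hk)
    · intro h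
      have h1 : c (g0 hq n₂ i0) ∈ extCent (c (Om0 hq n₂)) :=
        (map_mem_extCent_iff c hc _ _).2 (g0_mem hq n₂ i0)
      rw [← h] at h1
      exact g0_not_kron hq n₂ i0 i1 h01' ((Subgroup.mem_map_iff_mem hc).1 h1)
  · rw [hSL, lt_top_iff_ne_top]
    intro h
    have h1 : c (t0 hq n₂ i0 i1 h01') ∈ extCent (c (Om0 hq n₂)) := by
      rw [h]; exact Subgroup.mem_top _
    exact t0_not_mem hq n₂ i0 i1 h01' ((map_mem_extCent_iff c hc _ _).1 h1)

end Cfsg.Agent.S5638
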