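import Cfsg.Statements.S5648
import Mathlib
import Cfsg.Agent.H9.SympInv
import Cfsg.Agent.H9.SympForm
import Cfsg.Agent.H9.GLTransvection

set_option autoImplicit false
open Cfsg

namespace Cfsg.Agent.S5648

open Cfsg.Agent.H9 Cfsg.Agent.H9.SympInv Cfsg.Agent.H9.SympForm

section field2
variable {F : Type*} [Field F] [Fintype F] (hq : Fintype.card F = 2)
include hq

theorem h01 (x : F) : x = 0 ∨ x = 1 := by
  classical
  have huniv : (Finset.univ : Finset F) = {0, 1} := by
    symm
    apply Finset.eq_univ_of_card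
    rw [Finset.card_pair zero_ne_one, hq]
  have := Finset.mem_univ x
  rw [huniv] at this
  simpa using this

theorem h11 : (1 : F) + 1 = 0 := by
  rcases h01 hq ((1 : F) + 1) with h | h
  · exact h
  · exfalso
    have : (1 : F) = 0 := by
      have h2 : (1 : F) + 1 - 1 = 1 - 1 := by rw [h]
      simpa using h2
    exact one_ne_zero this

theorem neg2 (a : F) : -a = a := by
  apply neg_eq_of_add_eq_zero_left
  have : a + a = a * (1 + 1) := by ring
  rw [this, h11 hq, mul_zero]

end field2

section abstract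
variable {F : Type*} [Field F] [Fintype F] (hq : Fintype.card F = 2)
variable {V : Type*} [AddCommGroup V] [Module F V] (B : LinearMap.BilinForm F V)
variable {ι : Type*} [Fintype ι] [DecidableEq ι] (e : ι → Fin 2 → V)

/-- The local indicator of "x is not orthogonal to the i-th pair". -/
def qi (x : V) (i : ι) : F := B x (e i 0) + B x (e i 1) + B x (e i 0) * B x (e i 1)

/-- The weight-parity form. -/
def NN (x : V) : F := ∑ i, qi B e x i

variable {B e}
include hq

theorem expand (halt : ∀ v, B v v = 0) (he : IsHyp B e) (hfull : ∀ u, u ∈ perp B e → u = 0) (x y : V) :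
    B x y = ∑ i, (B x (e i 1) * B y (e i 0) + B x (e i 0) * B y (e i 1)) := by
  have hx : x = proj B e x := sub_eq_zero.1 (hfull _ (sub_proj_mem halt e he x))
  conv_lhs => rw [hx]
  unfold proj
  rw [map_sum, LinearMap.sum_apply]
  apply Finset.sum_congr rfl
  intro i _
  have h1 : B (e i 0) (e i 1) = 1 := (h01 hq _).resolve_left (he.g1 i)
  rw [map_sub, LinearMap.sub_apply, map_smul, map_smul, LinearMap.smul_apply, LinearMap.smul_apply,
    smul_eq_mul, smul_eq_mul, h1, div_one, div_one, skew halt (e i 0) y, skew halt (e i 1) y,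
    neg2 hq, neg2 hq, sub_eq_add_neg, neg2 hq]

theorem NN_add (halt : ∀ v, B v v = 0) (he : IsHyp B e) (hfull : ∀ u, u ∈ perp B e → u = 0) (x y : V) :
    NN B e (x + y) = NN B e x + NN B e y + B x y := by
  rw [expand hq halt he hfull x y]
  unfold NN
  rw [← Finset.sum_add_distrib, ← Finset.sum_add_distrib]
  apply Finset.sum_congr rfl
  intro i _
  unfold qi
  rw [map_add, LinearMap.add_apply, LinearMap.add_apply]
  ring

open Classical in
theorem qi_eq (x : V) (i : ι) :
    qi B e x i = if (B x (e i 0) ≠ 0 ∨ B x (e i 1) ≠ 0) then 1 else 0 := by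
  unfold qi
  rcases h01 hq (B x (e i 0)) with h | h <;> rcases h01 hq (B x (e i 1)) with h' | h' <;> rw [h, h']
  · simp
  · simp
  · simp
  · simp [h11 hq]

open Classical in
theorem NN_eq_card (x : V) :
    NN B e x = ((Finset.univ.filter fun i => (B x (e i 0) ≠ 0 ∨ B x (e i 1) ≠ 0)).card : F) := by
  unfold NN
  simp_rw [qi_eq hq]
  rw [Finset.sum_boole]

theorem NN_basis (halt : ∀ v, B v v = 0) (he : IsHyp B e) (i : ι) (k : Fin 2) : NN B e (e i k) = 1 := by
  unfold NN
  rw [Finset.sum_eq_single i]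
  · unfold qi
    have h1 : B (e i 0) (e i 1) = 1 := (h01 hq _).resolve_left (he.g1 i)
    fin_cases k
    · simp only [Fin.zero_eta, Fin.isValue, halt, h1]; ring
    · simp only [Fin.mk_one, Fin.isValue, halt]
      rw [skew halt (e i 1) (e i 0), h1, neg2 hq]; ring
  · intro j _ hji
    unfold qi
    rw [he.g2 i j (Ne.symm hji), he.g2 i j (Ne.symm hji)]; ring
  · intro h; exact absurd (Finset.mem_univ i) h

end abstract

section concrete
open Matrix
variable {F : Type*} [Field F] [Fintype F] (m : ℕ)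

local notation "VV" => (Fin m ⊕ Fin m → F)
local notation "BB" => sympB m F

/-- The symplectic transvection `x ↦ x + B(x,u) u`. -/
noncomputable def tau (u : VV) : Matrix.GeneralLinearGroup (Fin m ⊕ Fin m) F :=
  tv (LinearMap.flip BB u) u (by rw [LinearMap.flip_apply]; exact sympB_self m F u)

theorem tau_mulVec (u x : VV) :
    ((tau m u : Matrix.GeneralLinearGroup (Fin m ⊕ Fin m) F) : Matrix _ _ F) *ᵥ x = x + BB x u • u := by
  unfold tau
  rw [tv_mulVec, LinearMap.flip_apply]

theorem mem_spGL_iff (g : Matrix.GeneralLinearGroup (Fin m ⊕ Fin m) F) :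
    g ∈ Cfsg.spGL m F ↔ ∀ x y : VV, BB ((g : Matrix _ _ F) *ᵥ x) ((g : Matrix _ _ F) *ᵥ y) = BB x y := by
  simp only [sympB_apply]
  rfl

theorem tau_mem_spGL (u : VV) : tau m u ∈ Cfsg.spGL m F := by
  rw [mem_spGL_iff]
  intro x y
  rw [tau_mulVec, tau_mulVec]
  simp only [map_add, map_smul, LinearMap.add_apply, LinearMap.smul_apply, smul_eq_mul, sympB_self, mul_zero,
    add_zero]
  rw [skew (sympB_self m F) u y]
  ring

open Classical in
/-- The number of members of `D` not orthogonal to `x`. -/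
noncomputable def wtD {t : ℕ} (D : Fin t → Submodule F VV) (x : VV) : ℕ :=
  (Finset.univ.filter fun i => ∃ y ∈ D i, BB x y ≠ 0).card

theorem wtD_stab {t : ℕ} (D : Fin t → Submodule F VV) (g : Matrix.GeneralLinearGroup (Fin m ⊕ Fin m) F)
    (hg : g ∈ Cfsg.Geo.decompositionStabilizer D) (hs : g ∈ Cfsg.spGL m F) (x : VV) :
    wtD m D ((g : Matrix _ _ F) *ᵥ x) = wtD m D x := by
  classical
  obtain ⟨σ, hσ⟩ := hg
  rw [mem_spGL_iff] at hs
  unfold wtD
  symm
  apply Finset.card_equiv σ
  intro i
  simp only [Finset.mem_filter, Finset.mem_univ, true_and]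
  constructor
  · rintro ⟨y, hy, hne⟩
    refine ⟨(g : Matrix _ _ F) *ᵥ y, ?_, ?_⟩
    · rw [← hσ i]
      exact ⟨y, hy, Matrix.toLin'_apply _ _⟩
    · rw [hs]; exact hne
  · rintro ⟨y', hy', hne⟩
    rw [← hσ i] at hy'
    obtain ⟨y, hy, rfl⟩ := hy'
    rw [Matrix.toLin'_apply, hs] at hne
    exact ⟨y, hy, hne⟩

/-- The intermediate subgroup: symplectic maps preserving the weight parity. -/
noncomputable def KK {t : ℕ} (D : Fin t → Submodule F VV) : Subgroup (Matrix.GeneralLinearGroup (Fin m ⊕ Fin m) F) where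
  carrier := {g | g ∈ Cfsg.spGL m F ∧ ∀ x : VV, ((wtD m D ((g : Matrix _ _ F) *ᵥ x) : ℕ) : F) = wtD m D x}
  mul_mem' := by
    rintro a b ⟨ha, ha'⟩ ⟨hb, hb'⟩
    refine ⟨mul_mem ha hb, fun x => ?_⟩
    rw [Units.val_mul, ← Matrix.mulVec_mulVec, ha', hb']
  one_mem' := ⟨one_mem _, fun x => by rw [Units.val_one, Matrix.one_mulVec]⟩
  inv_mem' := by
    rintro a ⟨ha, ha'⟩
    refine ⟨inv_mem ha, fun x => ?_⟩
    have := ha' (((a⁻¹ : Matrix.GeneralLinearGroup (Fin m ⊕ Fin m) F) : Matrix _ _ F) *ᵥ x)
    rw [Matrix.mulVec_mulVec, ← Units.val_mul, mul_inv_cancel, Units.val_one, Matrix.one_mulVec] at this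
    exact this.symm

end concrete

open Matrix in
theorem result {F : Type*} [Field F] [Fintype F] (m : ℕ) (hm : 7 ≤ m) (hq : Fintype.card F = 2) {t : ℕ} (D : Fin t → Submodule F (Fin m ⊕ Fin m → F)) (hD : Cfsg.Geo.IsNondegenerateMDecomposition (Cfsg.sympForm m F) 2 D) : ∃ K : Subgroup (Matrix.GeneralLinearGroup (Fin m ⊕ Fin m) F), Cfsg.Geo.decompositionStabilizer D ⊓ Cfsg.spGL m F < K ∧ K < Cfsg.spGL m F := by
  classical
  have halt := sympB_self m F
  have hpair : ∀ i, ∃ p : Fin 2 → (Fin m ⊕ Fin m → F), (∀ k, p k ∈ D i) ∧ sympB m F (p 0) (p 1) ≠ 0 := by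
    intro i
    have hne : D i ≠ ⊥ := by
      intro h
      have := hD.decomp.finrank_eq i
      rw [h, finrank_bot] at this
      omega
    obtain ⟨w, hw, hw0⟩ := Submodule.exists_mem_ne_zero_of_ne_bot hne
    obtain ⟨-, x, hx, hne⟩ := hD.nondegenerate i w hw hw0
    refine ⟨![w, x], ?_, ?_⟩
    · intro k; fin_cases k
      · simpa using hw
      · simpa using hx
    · rw [sympB_apply]; simpa using hne
  choose e heD he1 using hpair
  have he : IsHyp (sympB m F) e :=
    ⟨he1, fun i j hij k l => by rw [sympB_apply]; exact hD.orthogonal i j hij _ (heD i k) _ (heD j l)⟩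
  have he' : ∀ i, IsHyp (sympB m F) (fun _ : Unit => e i) := fun i =>
    ⟨fun _ => he1 i, fun a b hab => absurd (Subsingleton.elim a b) hab⟩
  have hspan : ∀ i, spn F (fun _ : Unit => e i) = D i := by
    intro i
    apply Submodule.eq_of_le_of_finrank_eq
    · apply Submodule.span_le.2
      rintro _ ⟨⟨_, k⟩, rfl⟩
      exact heD i k
    · rw [finrank_spn halt (he' i), hD.decomp.finrank_eq i]; simp
  have hperpD : ∀ u i, (∀ k, sympB m F u (e i k) = 0) → ∀ y ∈ D i, sympB m F u y = 0 := by
    intro u i hu y hy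
    rw [← hspan i] at hy
    exact perp_spn (fun _ : Unit => e i) (fun _ k => hu k) hy
  have hfull : ∀ u, u ∈ perp (sympB m F) e → u = 0 := by
    intro u hu
    by_contra hu0
    obtain ⟨v, hv⟩ := sympB_nondeg m F u hu0
    apply hv
    have hvtop : v ∈ ⨆ i, D i := by rw [hD.decomp.iSup_eq_top]; trivial
    refine Submodule.iSup_induction D (motive := fun v => sympB m F u v = 0) hvtop ?_ ?_ ?_
    · intro i y hy
      exact hperpD u i (fun k => hu i k) y hy
    · rw [map_zero]
    · intro a b ha hb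
      rw [map_add, ha, hb, add_zero]
  have hlink : ∀ x, ((wtD m D x : ℕ) : F) = NN (sympB m F) e x := by
    intro x
    rw [NN_eq_card hq]
    congr 1
    unfold wtD
    congr 1
    apply Finset.filter_congr
    intro i _
    constructor
    · rintro ⟨y, hy, hne⟩
      by_contra hcon
      push Not at hcon
      apply hne
      apply hperpD x i _ y hy
      intro k
      fin_cases k
      · exact hcon.1
      · exact hcon.2
    · rintro (h | h)
      · exact ⟨_, heD i 0, h⟩
      · exact ⟨_, heD i 1, h⟩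
  have ht : t = m := by
    have htop : spn F e = ⊤ := by
      rw [eq_top_iff, ← hD.decomp.iSup_eq_top]
      apply iSup_le
      intro i
      rw [← hspan i]
      apply Submodule.span_mono
      rintro _ ⟨⟨_, k⟩, rfl⟩
      exact ⟨(i, k), rfl⟩
    have h1 := finrank_spn halt he
    rw [htop, finrank_top, Module.finrank_fintype_fun_eq_card, Fintype.card_sum, Fintype.card_fin,
      Fintype.card_fin] at h1
    omega
  have h3 : 3 ≤ t := by omega
  set i0 : Fin t := ⟨0, by omega⟩ with hi0
  set i1 : Fin t := ⟨1, by omega⟩ with hi1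
  set i2 : Fin t := ⟨2, by omega⟩ with hi2
  have h01' : i0 ≠ i1 := by rw [hi0, hi1]; intro h; simp [Fin.ext_iff] at h
  have h02' : i0 ≠ i2 := by rw [hi0, hi2]; intro h; simp [Fin.ext_iff] at h
  have h12' : i1 ≠ i2 := by rw [hi1, hi2]; intro h; simp [Fin.ext_iff] at h
  have hNb := NN_basis hq halt he
  have hNa := NN_add hq halt he hfull
  have hone : sympB m F (e i0 1) (e i0 0) = 1 := (h01 hq _).resolve_left (isHyp_mate halt he i0 1)
  refine ⟨KK m D, ?_, ?_⟩
  · -- first strict inclusion
    rw [SetLike.lt_iff_le_and_exists]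
    constructor
    · rintro g ⟨hg1, hg2⟩
      exact ⟨hg2, fun x => by rw [wtD_stab m D g hg1 hg2 x]⟩
    · set u := e i0 0 + e i1 0 + e i2 0 with hu
      have hNu : NN (sympB m F) e u = 1 := by
        rw [hu, hNa, hNa, hNb, hNb, hNb]
        simp only [map_add, LinearMap.add_apply, he.g2 i0 i1 h01', he.g2 i0 i2 h02', he.g2 i1 i2 h12']
        rw [h11 hq]; ring
      refine ⟨tau m u, ⟨tau_mem_spGL m u, fun x => ?_⟩, ?_⟩
      · rw [hlink, hlink, tau_mulVec]
        rcases h01 hq (sympB m F x u) with h | h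
        · rw [h, zero_smul, add_zero]
        · rw [h, one_smul, hNa, hNu, h, add_assoc, h11 hq, add_zero]
      · rintro ⟨⟨σ, hσ⟩, -⟩
        have hmem : ((tau m u : Matrix.GeneralLinearGroup (Fin m ⊕ Fin m) F) : Matrix _ _ F) *ᵥ (e i0 1) ∈ D (σ i0) := by
          rw [← hσ i0]
          exact ⟨_, heD i0 1, Matrix.toLin'_apply _ _⟩
        have hval : sympB m F (e i0 1) u = 1 := by
          rw [hu]
          simp only [map_add, he.g2 i0 i1 h01', he.g2 i0 i2 h02', hone, add_zero]
        rw [tau_mulVec, hval, one_smul] at hmem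
        have hj : ∀ j, j ≠ i0 → sympB m F (e i0 1 + u) (e j 1) ≠ 0 → σ i0 = j := by
          intro j _ hne
          by_contra hjne
          apply hne
          rw [sympB_apply]
          exact hD.orthogonal (σ i0) j hjne _ hmem _ (heD j 1)
        have e1 : σ i0 = i1 := by
          apply hj i1 (Ne.symm h01')
          rw [hu]
          simp only [map_add, LinearMap.add_apply, he.g2 i0 i1 h01', he.g2 i2 i1 (Ne.symm h12'), zero_add, add_zero]
          exact he1 i1
        have e2 : σ i0 = i2 := by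
          apply hj i2 (Ne.symm h02')
          rw [hu]
          simp only [map_add, LinearMap.add_apply, he.g2 i0 i2 h02', he.g2 i1 i2 h12', zero_add, add_zero]
          exact he1 i2
        exact h12' (e1.symm.trans e2)
  · -- second strict inclusion
    rw [SetLike.lt_iff_le_and_exists]
    refine ⟨fun g hg => hg.1, ?_⟩
    set u := e i0 0 + e i1 0 with hu
    have hNu : NN (sympB m F) e u = 0 := by
      rw [hu, hNa, hNb, hNb, he.g2 i0 i1 h01', h11 hq, add_zero]
    refine ⟨tau m u, tau_mem_spGL m u, ?_⟩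
    rintro ⟨-, h⟩
    have h1 := h (e i0 1)
    have hval : sympB m F (e i0 1) u = 1 := by
      rw [hu]
      simp only [map_add, he.g2 i0 i1 h01', hone, add_zero]
    rw [hlink, hlink, tau_mulVec, hval, one_smul, hNa, hNb, hNu, hval, add_zero, h11 hq] at h1
    exact one_ne_zero h1.symm

end Cfsg.Agent.S5648
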