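import Cfsg.Statements.S5667
import Mathlib
import Cfsg.Agent.H9.Decomp
import Cfsg.Agent.S5648

set_option autoImplicit false
open Cfsg

namespace Cfsg.Agent.S5667

open Cfsg.Agent.H9
open scoped MatrixGroups Matrix Kronecker

section F3
variable {F : Type*} [Field F] [Fintype F] (hq : Fintype.card F = 3)
include hq

theorem three0 : (3 : F) = 0 := by
  have hc : ((Fintype.card F : ℕ) : F) = 0 := FiniteField.cast_card_eq_zero F
  rw [hq] at hc
  exact_mod_cast hc

theorem two_ne0 : (2 : F) ≠ 0 := by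
  intro h
  have h3 := three0 hq
  have : (1 : F) = 3 - 2 := by norm_num
  rw [h3, h, sub_zero] at this
  exact one_ne_zero this

theorem sq1 (a : F) (ha : a ≠ 0) : a ^ 2 = 1 := by
  have := FiniteField.pow_card_sub_one_eq_one a ha
  rwa [hq] at this

theorem sq01 (a : F) : a ^ 2 = 0 ∨ a ^ 2 = 1 := by
  by_cases h : a = 0
  · left; rw [h]; ring
  · right; exact sq1 hq a h

end F3

section frame
variable {F : Type*} [Field F] [Fintype F] (hq : Fintype.card F = 3)
  (f : (Fin 3 → F) → (Fin 3 → F) → F) (hf : Cfsg.Geo.IsSymmetricForm f)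

/-- The form as a Mathlib bilinear form. -/
def toB : LinearMap.BilinForm F (Fin 3 → F) :=
  LinearMap.mk₂ F f hf.bilinear.add_left hf.bilinear.smul_left hf.bilinear.add_right hf.bilinear.smul_right

include hf

omit [Fintype F] in
theorem toB_apply (x y : Fin 3 → F) : toB f hf x y = f x y := rfl

omit [Fintype F] in
theorem f_sum_left {ι : Type*} (s : Finset ι) (g : ι → (Fin 3 → F)) (y : Fin 3 → F) :
    f (∑ i ∈ s, g i) y = ∑ i ∈ s, f (g i) y := by
  rw [← toB_apply f hf, map_sum, LinearMap.sum_apply]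
  rfl

omit [Fintype F] in
theorem f_zero_left (y : Fin 3 → F) : f 0 y = 0 := by
  rw [← toB_apply f hf, map_zero, LinearMap.zero_apply]

omit [Fintype F] in
theorem f_sub_left (x x' y : Fin 3 → F) : f (x - x') y = f x y - f x' y := by
  rw [← toB_apply f hf, map_sub, LinearMap.sub_apply]
  rfl

omit [Fintype F] in
/-- Orthogonal triples of equal non-zero norm give expansions. -/
theorem expansion (ε : F) (hε : ε ≠ 0) (w : Fin 3 → (Fin 3 → F))
    (hw : ∀ k l, f (w k) (w l) = if k = l then ε else 0) (u : Fin 3 → F) :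
    u = ∑ k, (ε⁻¹ * f u (w k)) • w k := by
  have hortho : (toB f hf).IsOrthoᵢ w := by
    rw [LinearMap.isOrthoᵢ_def]
    intro i j hij
    rw [toB_apply, hw, if_neg hij]
  have hli : LinearIndependent F w := by
    apply LinearMap.linearIndependent_of_isOrthoᵢ hortho
    intro i
    rw [toB_apply, hw, if_pos rfl]
    exact hε
  have hspan : Submodule.span F (Set.range w) = ⊤ :=
    hli.span_eq_top_of_card_eq_finrank' (by simp)
  by_contra hne
  have hz : u - ∑ k, (ε⁻¹ * f u (w k)) • w k ≠ 0 := fun h => hne (sub_eq_zero.1 h)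
  have hperp : ∀ l, f (u - ∑ k, (ε⁻¹ * f u (w k)) • w k) (w l) = 0 := by
    intro l
    rw [f_sub_left f hf, f_sum_left f hf, Finset.sum_eq_single l]
    · rw [hf.bilinear.smul_left, hw, if_pos rfl]
      field_simp
      ring
    · intro k _ hkl
      rw [hf.bilinear.smul_left, hw, if_neg hkl, mul_zero]
    · intro h; exact absurd (Finset.mem_univ l) h
  have hall : ∀ y, f (u - ∑ k, (ε⁻¹ * f u (w k)) • w k) y = 0 := by
    intro y
    have hyspan : y ∈ Submodule.span F (Set.range w) := by rw [hspan]; trivial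
    induction hyspan using Submodule.span_induction with
    | mem y hy => obtain ⟨l, rfl⟩ := hy; exact hperp l
    | zero => rw [hf.symm, f_zero_left f hf]
    | add a b _ _ ha hb => rw [hf.bilinear.add_right, ha, hb, add_zero]
    | smul c a _ ha => rw [hf.bilinear.smul_right, ha, mul_zero]
  obtain ⟨-, y, hy⟩ := hf.nondegenerate _ hz
  exact hy (hall y)

omit [Fintype F] in
/-- From an orthogonal triple with norms `d, d, -d` to one with equal norms `-d` (characteristic three). -/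
theorem triple_frame (h3 : (3 : F) = 0) (x y z : Fin 3 → F) (d : F) (hxy : f x y = 0) (hxz : f x z = 0)
    (hyz : f y z = 0) (hxx : f x x = d) (hyy : f y y = d) (hzz : f z z = -d) :
    ∀ k l, f (![x + y, x - y, z] k) (![x + y, x - y, z] l) = if k = l then -d else 0 := by
  have hyx : f y x = 0 := by rw [hf.symm, hxy]
  have hzx : f z x = 0 := by rw [hf.symm, hxz]
  have hzy : f z y = 0 := by rw [hf.symm, hyz]
  have hsub : x - y = x + (-1 : F) • y := by rw [neg_smul, one_smul, sub_eq_add_neg]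
  have e2 : d + d = -d := by linear_combination d * h3
  have haa : f (x + y) (x + y) = -d := by
    rw [hf.bilinear.add_left, hf.bilinear.add_right, hf.bilinear.add_right, hxx, hxy, hyx, hyy]
    linear_combination e2
  have hbb : f (x - y) (x - y) = -d := by
    rw [hsub, hf.bilinear.add_left, hf.bilinear.add_right, hf.bilinear.add_right, hf.bilinear.smul_left,
      hf.bilinear.smul_left, hf.bilinear.smul_right, hf.bilinear.smul_right, hxx, hxy, hyx, hyy]
    linear_combination e2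
  have hab : f (x + y) (x - y) = 0 := by
    rw [hsub, hf.bilinear.add_left, hf.bilinear.add_right, hf.bilinear.add_right,
      hf.bilinear.smul_right, hf.bilinear.smul_right, hxx, hxy, hyx, hyy]
    ring
  have hba : f (x - y) (x + y) = 0 := by rw [hf.symm, hab]
  have hac : f (x + y) z = 0 := by rw [hf.bilinear.add_left, hxz, hyz, add_zero]
  have hca : f z (x + y) = 0 := by rw [hf.symm, hac]
  have hbc : f (x - y) z = 0 := by rw [hsub, hf.bilinear.add_left, hf.bilinear.smul_left, hxz, hyz]; ring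
  have hcb : f z (x - y) = 0 := by rw [hf.symm, hbc]
  intro k l
  fin_cases k <;> fin_cases l
  · exact haa
  · exact hab
  · exact hac
  · exact hba
  · exact hbb
  · exact hbc
  · exact hca
  · exact hcb
  · exact hzz

include hq in
theorem exists_frame3 : ∃ (ε : F) (w : Fin 3 → (Fin 3 → F)), ε ≠ 0 ∧
    (∀ k l, f (w k) (w l) = if k = l then ε else 0) := by
  have : Invertible (2 : F) := invertibleOfNonzero (two_ne0 hq)
  have h3 := three0 hq
  have hsymm : (toB f hf).IsSymm := ⟨fun x y => hf.symm x y⟩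
  have hsep : (toB f hf).SeparatingLeft := by
    intro x hx
    by_contra hne
    obtain ⟨-, y, hy⟩ := hf.nondegenerate x hne
    exact hy (hx y)
  have hex := LinearMap.BilinForm.exists_orthogonal_basis (LinearMap.BilinForm.isSymm_iff.1 hsymm)
  have hfr : Module.finrank F (Fin 3 → F) = 3 := by simp
  rw [hfr] at hex
  obtain ⟨v, hv⟩ := hex
  have hd : ∀ i, f (v i) (v i) ≠ 0 := fun i => hv.not_isOrtho_basis_self_of_separatingLeft hsep i
  have hvo : ∀ i j, i ≠ j → f (v i) (v j) = 0 := fun i j hij => LinearMap.isOrthoᵢ_def.1 hv i j hij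
  have hpm : ∀ a : F, a ≠ 0 → a = 1 ∨ a = -1 := by
    intro a ha
    have := sq1 hq a ha
    have h' : (a - 1) * (a + 1) = 0 := by linear_combination this
    rcases mul_eq_zero.1 h' with h | h
    · left; exact sub_eq_zero.1 h
    · right; exact eq_neg_of_add_eq_zero_left h
  have hneg : ∀ a b : F, a ≠ 0 → b ≠ 0 → a ≠ b → b = -a := by
    intro a b ha hb hab
    rcases hpm a ha with h | h <;> rcases hpm b hb with h' | h'
    · exact absurd (h.trans h'.symm) hab
    · rw [h, h']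
    · rw [h, h', neg_neg]
    · exact absurd (h.trans h'.symm) hab
  by_cases h01 : f (v 0) (v 0) = f (v 1) (v 1)
  · by_cases h02 : f (v 0) (v 0) = f (v 2) (v 2)
    · refine ⟨f (v 0) (v 0), v, hd 0, fun k l => ?_⟩
      by_cases hkl : k = l
      · subst hkl
        rw [if_pos rfl]
        fin_cases k
        · rfl
        · exact h01.symm
        · exact h02.symm
      · rw [if_neg hkl]; exact hvo k l hkl
    · have hzz := hneg _ _ (hd 0) (hd 2) h02
      refine ⟨-f (v 0) (v 0), _, neg_ne_zero.2 (hd 0),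
        triple_frame f hf h3 (v 0) (v 1) (v 2) _ (hvo 0 1 (by decide)) (hvo 0 2 (by decide)) (hvo 1 2 (by decide))
          rfl h01.symm hzz⟩
  · by_cases h02 : f (v 0) (v 0) = f (v 2) (v 2)
    · have hzz := hneg _ _ (hd 0) (hd 1) h01
      refine ⟨-f (v 0) (v 0), _, neg_ne_zero.2 (hd 0),
        triple_frame f hf h3 (v 0) (v 2) (v 1) _ (hvo 0 2 (by decide)) (hvo 0 1 (by decide)) (hvo 2 1 (by decide))
          rfl h02.symm hzz⟩
    · have h1 := hneg _ _ (hd 0) (hd 1) h01
      have h2 := hneg _ _ (hd 0) (hd 2) h02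
      have hzz : f (v 0) (v 0) = - f (v 1) (v 1) := by rw [h1, neg_neg]
      refine ⟨-f (v 1) (v 1), _, neg_ne_zero.2 (hd 1),
        triple_frame f hf h3 (v 1) (v 2) (v 0) _ (hvo 1 2 (by decide)) (hvo 1 0 (by decide)) (hvo 2 0 (by decide))
          rfl (by rw [h2, h1]) hzz⟩

end frame

section coef
variable {F : Type*} [Field F] [Fintype F] (hq : Fintype.card F = 3)
include hq

theorem coef_aniso (c : Fin 3 → F) (k : Fin 3) (hk : c k = 0) (h : ∑ l, c l ^ 2 = 0) : c = 0 := by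
  have h3 := three0 hq
  have h2 := two_ne0 hq
  rw [Fin.sum_univ_three] at h
  have key : ∀ x y : F, x ^ 2 + y ^ 2 = 0 → x = 0 ∧ y = 0 := by
    intro x y hxy
    rcases sq01 hq x with hx | hx <;> rcases sq01 hq y with hy | hy
    · exact ⟨pow_eq_zero_iff (two_ne_zero) |>.1 hx, pow_eq_zero_iff (two_ne_zero) |>.1 hy⟩
    · rw [hx, hy, zero_add] at hxy; exact absurd hxy one_ne_zero
    · rw [hx, hy, add_zero] at hxy; exact absurd hxy one_ne_zero
    · rw [hx, hy] at hxy
      exfalso; apply h2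
      rw [← hxy]; norm_num
  funext l
  fin_cases k
  · simp only [Fin.zero_eta] at hk
    rw [hk] at h
    have := key (c 1) (c 2) (by linear_combination h)
    fin_cases l
    · exact hk
    · exact this.1
    · exact this.2
  · simp only [Fin.mk_one] at hk
    rw [hk] at h
    have := key (c 0) (c 2) (by linear_combination h)
    fin_cases l
    · exact this.1
    · exact hk
    · exact this.2
  · simp only [Fin.reduceFinMk] at hk
    rw [hk] at h
    have := key (c 0) (c 1) (by linear_combination h)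
    fin_cases l
    · exact this.1
    · exact this.2
    · exact hk

theorem coef_classify (a : Fin 3 → F) (hne : ∑ l, a l ^ 2 ≠ 0)
    (han : ∀ c : Fin 3 → F, ∑ l, c l * a l = 0 → ∑ l, c l ^ 2 = 0 → c = 0) :
    ∃ k, ∀ l, l ≠ k → a l = 0 := by
  have h3 := three0 hq
  rw [Fin.sum_univ_three] at hne
  by_cases h0 : a 0 = 0 <;> by_cases h1 : a 1 = 0 <;> by_cases h2 : a 2 = 0
  · exfalso; apply hne; rw [h0, h1, h2]; ring
  · refine ⟨2, fun l hl => ?_⟩
    fin_cases l
    · exact h0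
    · exact h1
    · exact absurd rfl hl
  · refine ⟨1, fun l hl => ?_⟩
    fin_cases l
    · exact h0
    · exact absurd rfl hl
    · exact h2
  · exfalso
    have := han ![1, a 2, - a 1] (by rw [Fin.sum_univ_three]; simp [h0]; ring)
      (by rw [Fin.sum_univ_three]; simp; rw [sq1 hq _ h1, sq1 hq _ h2]; linear_combination h3)
    have h' := congrFun this 0
    simp at h'
  · refine ⟨0, fun l hl => ?_⟩
    fin_cases l
    · exact absurd rfl hl
    · exact h1
    · exact h2
  · exfalso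
    have := han ![a 2, 1, - a 0] (by rw [Fin.sum_univ_three]; simp [h1]; ring)
      (by rw [Fin.sum_univ_three]; simp; rw [sq1 hq _ h0, sq1 hq _ h2]; linear_combination h3)
    have h' := congrFun this 1
    simp at h'
  · exfalso
    have := han ![a 1, - a 0, 1] (by rw [Fin.sum_univ_three]; simp [h2]; ring)
      (by rw [Fin.sum_univ_three]; simp; rw [sq1 hq _ h0, sq1 hq _ h1]; linear_combination h3)
    have h' := congrFun this 2
    simp at h'
  · exfalso; apply hne
    rw [sq1 hq _ h0, sq1 hq _ h1, sq1 hq _ h2]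
    linear_combination h3

end coef

section classify
variable {F : Type*} [Field F] [Fintype F] (hq : Fintype.card F = 3)
  (f : (Fin 3 → F) → (Fin 3 → F) → F) (hf : Cfsg.Geo.IsSymmetricForm f)
  (ε : F) (hε : ε ≠ 0) (w : Fin 3 → (Fin 3 → F))
  (hw : ∀ k l, f (w k) (w l) = if k = l then ε else 0)

/-- Linear combinations of the frame. -/
def lin (c : Fin 3 → F) : Fin 3 → F := ∑ k, c k • w k

include hf hw

omit [Fintype F] in
theorem f_lin_w (c : Fin 3 → F) (l : Fin 3) : f (lin w c) (w l) = ε * c l := by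
  unfold lin
  rw [f_sum_left f hf, Finset.sum_eq_single l]
  · rw [hf.bilinear.smul_left, hw, if_pos rfl, mul_comm]
  · intro k _ hkl
    rw [hf.bilinear.smul_left, hw, if_neg hkl, mul_zero]
  · intro h; exact absurd (Finset.mem_univ l) h

omit [Fintype F] in
theorem f_lin_lin (c c' : Fin 3 → F) : f (lin w c) (lin w c') = ε * ∑ k, c k * c' k := by
  have h1 : lin w c = ∑ k, c k • w k := rfl
  rw [h1, f_sum_left f hf, Finset.mul_sum]
  apply Finset.sum_congr rfl
  intro k _
  rw [hf.bilinear.smul_left, hf.symm, f_lin_w f hf ε w hw]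
  ring

include hε

omit [Fintype F] in
theorem eq_lin (u : Fin 3 → F) : u = lin w (fun k => ε⁻¹ * f u (w k)) :=
  expansion f hf ε hε w hw u

omit [Fintype F] in
theorem lin_eq_zero (c : Fin 3 → F) (h : lin w c = 0) : c = 0 := by
  funext l
  have := f_lin_w f hf ε w hw c l
  rw [h, f_zero_left f hf] at this
  exact (mul_eq_zero.1 this.symm).resolve_left hε

include hq

theorem w_perp_aniso (k : Fin 3) (z : Fin 3 → F) (h1 : f z (w k) = 0) (h2 : f z z = 0) : z = 0 := by
  have hz := eq_lin f hf ε hε w hw z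
  obtain ⟨c, hc⟩ : ∃ c : Fin 3 → F, c = fun k => ε⁻¹ * f z (w k) := ⟨_, rfl⟩
  rw [← hc] at hz
  have hck : c k = 0 := by rw [hc]; simp only; rw [h1, mul_zero]
  have hsum : ∑ l, c l ^ 2 = 0 := by
    rw [hz, f_lin_lin f hf ε w hw] at h2
    have := (mul_eq_zero.1 h2).resolve_left hε
    rw [← this]
    apply Finset.sum_congr rfl
    intro l _
    ring
  rw [hz, coef_aniso hq c k hck hsum]
  unfold lin
  simp

theorem classify (u : Fin 3 → F) (hne : f u u ≠ 0) (han : ∀ z, f z u = 0 → f z z = 0 → z = 0) :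
    ∃ (d : F) (k : Fin 3), d ≠ 0 ∧ u = d • w k := by
  have hu := eq_lin f hf ε hε w hw u
  obtain ⟨a, ha⟩ : ∃ a : Fin 3 → F, a = fun k => ε⁻¹ * f u (w k) := ⟨_, rfl⟩
  rw [← ha] at hu
  have hne' : ∑ l, a l ^ 2 ≠ 0 := by
    intro h
    apply hne
    rw [hu, f_lin_lin f hf ε w hw]
    have : ∑ k, a k * a k = ∑ l, a l ^ 2 := Finset.sum_congr rfl (fun l _ => by ring)
    rw [this, h, mul_zero]
  have han' : ∀ c : Fin 3 → F, ∑ l, c l * a l = 0 → ∑ l, c l ^ 2 = 0 → c = 0 := by
    intro c h1 h2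
    apply lin_eq_zero f hf ε hε w hw
    apply han
    · rw [hu, f_lin_lin f hf ε w hw, h1, mul_zero]
    · rw [f_lin_lin f hf ε w hw]
      have : ∑ k, c k * c k = ∑ l, c l ^ 2 := Finset.sum_congr rfl (fun l _ => by ring)
      rw [this, h2, mul_zero]
  obtain ⟨k, hk⟩ := coef_classify hq a hne' han'
  have huk : u = a k • w k := by
    conv_lhs => rw [hu]
    unfold lin
    rw [Finset.sum_eq_single k]
    · intro l _ hl
      rw [hk l hl, zero_smul]
    · intro h; exact absurd (Finset.mem_univ k) h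
  refine ⟨a k, k, ?_, huk⟩
  intro h0
  apply hne
  rw [huk, h0, zero_smul, f_zero_left f hf]

end classify

section gram
variable {F : Type*} [Field F] {κ : Type} [Fintype κ] [DecidableEq κ]

theorem form_eq_gram {f : (κ → F) → (κ → F) → F} (hf : Cfsg.Geo.IsBilinearForm f) (u v : κ → F) :
    f u v = Cfsg.Geo.formOfGram id (Cfsg.Geo.gramMatrix f) u v := by
  let B : LinearMap.BilinForm F (κ → F) := LinearMap.mk₂ F f hf.add_left hf.smul_left hf.add_right hf.smul_right
  have hB : ∀ x y, B x y = f x y := fun _ _ => rfl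
  have hsingle : ∀ a : κ, (fun j => if a = j then (1 : F) else 0) = Pi.single a 1 := by
    intro a
    funext j
    rw [Pi.single_apply]
    simp [eq_comm]
  unfold Cfsg.Geo.formOfGram Cfsg.Geo.gramMatrix
  have h1 : f u v = ∑ a, u a * f (Pi.single a 1) v := by
    have := LinearMap.pi_apply_eq_sum_univ (LinearMap.flip B v) u
    simp only [LinearMap.flip_apply, hB, smul_eq_mul, hsingle] at this
    exact this
  have h2 : ∀ a, f (Pi.single a 1) v = ∑ b, v b * f (Pi.single a 1) (Pi.single b 1) := by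
    intro a
    have := LinearMap.pi_apply_eq_sum_univ (B (Pi.single a 1)) v
    simp only [hB, smul_eq_mul, hsingle] at this
    exact this
  rw [h1]
  apply Finset.sum_congr rfl
  intro a _
  rw [h2, Finset.mul_sum]
  apply Finset.sum_congr rfl
  intro b _
  simp only [id]
  ring

end gram

section tensor
variable {F : Type*} [Field F] {n₁ : ℕ}

/-- Pure tensors in coordinates. -/
def ptens (r : Fin n₁ → F) (u : Fin 3 → F) : Fin n₁ × Fin 3 → F := fun p => r p.1 * u p.2

theorem ptens_add_right (r : Fin n₁ → F) (u v : Fin 3 → F) : ptens r (u + v) = ptens r u + ptens r v := by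
  funext p; simp only [ptens, Pi.add_apply]; ring

theorem ptens_add_left (r r' : Fin n₁ → F) (u : Fin 3 → F) : ptens (r + r') u = ptens r u + ptens r' u := by
  funext p; simp only [ptens, Pi.add_apply]; ring

theorem ptens_smul_right (c : F) (r : Fin n₁ → F) (u : Fin 3 → F) : ptens r (c • u) = c • ptens r u := by
  funext p; simp only [ptens, Pi.smul_apply, smul_eq_mul]; ring

theorem ptens_smul_left (c : F) (r : Fin n₁ → F) (u : Fin 3 → F) : ptens (c • r) u = c • ptens r u := by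
  funext p; simp only [ptens, Pi.smul_apply, smul_eq_mul]; ring

theorem kron_mulVec_ptens (a : Matrix (Fin n₁) (Fin n₁) F) (b : Matrix (Fin 3) (Fin 3) F)
    (r : Fin n₁ → F) (u : Fin 3 → F) : (a ⊗ₖ b) *ᵥ ptens r u = ptens (a *ᵥ r) (b *ᵥ u) := by
  funext ⟨i, j⟩
  simp only [Matrix.mulVec, dotProduct, ptens, Matrix.kroneckerMap_apply, Fintype.sum_prod_type]
  rw [Finset.sum_mul_sum]
  apply Finset.sum_congr rfl
  intro k _
  apply Finset.sum_congr rfl
  intro l _
  ring

theorem gram_ptens (G₁ : Matrix (Fin n₁) (Fin n₁) F) (G₂ : Matrix (Fin 3) (Fin 3) F)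
    (r r' : Fin n₁ → F) (u v : Fin 3 → F) :
    Cfsg.Geo.formOfGram id (G₁ ⊗ₖ G₂) (ptens r u) (ptens r' v) =
      Cfsg.Geo.formOfGram id G₁ r r' * Cfsg.Geo.formOfGram id G₂ u v := by
  unfold Cfsg.Geo.formOfGram
  simp only [ptens, Matrix.kroneckerMap_apply, Fintype.sum_prod_type, id]
  rw [Finset.sum_mul_sum]
  apply Finset.sum_congr rfl
  intro i _
  rw [Finset.sum_comm]
  simp_rw [Finset.sum_mul_sum]
  rw [Finset.sum_comm]
  apply Finset.sum_congr rfl
  intro j _
  apply Finset.sum_congr rfl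
  intro k _
  apply Finset.sum_congr rfl
  intro l _
  ring

end tensor

section transport
variable {F : Type*} [Field F] {ι : Type} [Fintype ι] [DecidableEq ι] {n₁ : ℕ}
  (e : ι ≃ Fin n₁ × Fin 3) (P : GL ι F)

/-- The coordinate change. -/
def Psi (x : Fin n₁ × Fin 3 → F) : ι → F := (P : Matrix ι ι F) *ᵥ (x ∘ e)

theorem Psi_add (x y : Fin n₁ × Fin 3 → F) : Psi e P (x + y) = Psi e P x + Psi e P y := by
  unfold Psi
  rw [show (x + y) ∘ e = x ∘ e + y ∘ e from rfl, Matrix.mulVec_add]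

theorem Psi_smul (c : F) (x : Fin n₁ × Fin 3 → F) : Psi e P (c • x) = c • Psi e P x := by
  unfold Psi
  rw [show (c • x) ∘ e = c • (x ∘ e) from rfl, Matrix.mulVec_smul]

theorem Psi_injective : Function.Injective (Psi e P) := by
  intro x y h
  unfold Psi at h
  have h1 := congrArg (fun z => ((P⁻¹ : GL ι F) : Matrix ι ι F) *ᵥ z) h
  simp only [Cfsg.Agent.H9.Decomp.inv_mulVec_cancel] at h1
  funext p
  have h2 := congrFun h1 (e.symm p)
  simpa using h2

theorem mem_tensor (g : GL ι F) (hg : g ∈ Cfsg.Geo.tensorProductSubgroup n₁ 3 e P) :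
    ∃ (a : GL (Fin n₁) F) (b : GL (Fin 3) F), ∀ x, (g : Matrix ι ι F) *ᵥ Psi e P x =
      Psi e P (((a : Matrix (Fin n₁) (Fin n₁) F) ⊗ₖ (b : Matrix (Fin 3) (Fin 3) F)) *ᵥ x) := by
  unfold Cfsg.Geo.tensorProductSubgroup at hg
  obtain ⟨k, ⟨k₀, ⟨a, b, hab⟩, rfl⟩, rfl⟩ := hg
  refine ⟨a, b, fun x => ?_⟩
  unfold Psi
  have hR : ((Cfsg.Geo.glReindex e.symm k₀ : GL ι F) : Matrix ι ι F) =
      (k₀ : Matrix (Fin n₁ × Fin 3) (Fin n₁ × Fin 3) F).submatrix e e := by
    unfold Cfsg.Geo.glReindex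
    rfl
  simp only [MulEquiv.coe_toMonoidHom, MulAut.conj_apply, Units.val_mul]
  rw [hR, ← Matrix.mulVec_mulVec, ← Matrix.mulVec_mulVec, Cfsg.Agent.H9.Decomp.inv_mulVec_cancel,
    Matrix.submatrix_mulVec_equiv, hab]
  have : (x ∘ ⇑e) ∘ ⇑e.symm = x := by
    funext p
    simp
  rw [this]

end transport

section setup
variable {F : Type*} [Field F] {ι : Type} [Fintype ι] [DecidableEq ι] {n₁ : ℕ}
  (e : ι ≃ Fin n₁ × Fin 3) (P : GL ι F)
  (f₂ : (Fin 3 → F) → (Fin 3 → F) → F) (w : Fin 3 → (Fin 3 → F))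

/-- The embedding of the `l`-th summand. -/
def emb (l : Fin 3) : (Fin n₁ → F) →ₗ[F] (ι → F) where
  toFun r := Psi e P (ptens r (w l))
  map_add' r r' := by rw [ptens_add_left, Psi_add]
  map_smul' c r := by rw [ptens_smul_left, Psi_smul]; rfl

theorem emb_apply (l : Fin 3) (r : Fin n₁ → F) : emb e P w l r = Psi e P (ptens r (w l)) := rfl

/-- The three summands. -/
def DD (l : Fin 3) : Submodule F (ι → F) := LinearMap.range (emb e P w l)

/-- Contraction against the `l`-th frame vector. -/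
def CC (l : Fin 3) (x : Fin n₁ × Fin 3 → F) : Fin n₁ → F := fun i => f₂ (fun k => x (i, k)) (w l)

theorem CC_ptens (hf : Cfsg.Geo.IsBilinearForm f₂) (l : Fin 3) (r : Fin n₁ → F) (u : Fin 3 → F) :
    CC f₂ w l (ptens r u) = f₂ u (w l) • r := by
  funext i
  unfold CC ptens
  have : (fun k => r i * u k) = r i • u := by
    funext k
    simp
  simp only
  rw [this, hf.smul_left, Pi.smul_apply, smul_eq_mul, mul_comm]

theorem CC_add (hf : Cfsg.Geo.IsBilinearForm f₂) (l : Fin 3) (x y : Fin n₁ × Fin 3 → F) :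
    CC f₂ w l (x + y) = CC f₂ w l x + CC f₂ w l y := by
  funext i
  unfold CC
  have : (fun k => (x + y) (i, k)) = (fun k => x (i, k)) + (fun k => y (i, k)) := rfl
  rw [this, hf.add_left]
  rfl

end setup

open Cfsg.Agent.S5648 Cfsg.Agent.H9.SympForm Cfsg.Agent.H9.SympInv in
theorem result {F : Type*} [Field F] [Fintype F] (m : ℕ) (hm : 7 ≤ m) (hq : Fintype.card F = 3) (n₁ : ℕ) (e : (Fin m ⊕ Fin m) ≃ Fin n₁ × Fin 3) (P : Matrix.GeneralLinearGroup (Fin m ⊕ Fin m) F) (f₁ : (Fin n₁ → F) → (Fin n₁ → F) → F) (f₂ : (Fin 3 → F) → (Fin 3 → F) → F) (hf₁ : Cfsg.Geo.IsSymplecticForm f₁) (hf₂ : Cfsg.Geo.IsSymmetricForm f₂) (hT : Cfsg.Geo.IsTensorFormStructure id (Cfsg.sympForm m F) f₁ f₂ e P) : ∃ K : Subgroup (Matrix.GeneralLinearGroup (Fin m ⊕ Fin m) F), Cfsg.Geo.tensorProductSubgroup n₁ 3 e P ⊓ Cfsg.spGL m F < K ∧ K < Cfsg.spGL m F := by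
  classical
  obtain ⟨c, hc, hform⟩ := hT
  have h3 := three0 hq
  have hb₁ := hf₁.bilinear
  have hb₂ := hf₂.bilinear
  have hn₁ : 0 < n₁ := by
    have := Fintype.card_congr e
    simp at this
    omega
  have star : ∀ r r' u v, sympB m F (Psi e P (ptens r u)) (Psi e P (ptens r' v)) = c * (f₁ r r' * f₂ u v) := by
    intro r r' u v
    have := hform (ptens r u) (ptens r' v)
    rw [gram_ptens, ← form_eq_gram hb₁, ← form_eq_gram hb₂] at this
    rw [sympB_apply]
    exact this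
  obtain ⟨ε, w, hε, hw⟩ := exists_frame3 hq f₂ hf₂
  have hw00 : f₂ (w 0) (w 0) = ε := by rw [hw]; simp
  have hw11 : f₂ (w 1) (w 1) = ε := by rw [hw]; simp
  have hw01 : f₂ (w 0) (w 1) = 0 := by rw [hw]; simp
  have hw10 : f₂ (w 1) (w 0) = 0 := by rw [hw]; simp
  -- a non-degenerate pair for f₁
  obtain ⟨r₀, hr₀⟩ : ∃ r₀ : Fin n₁ → F, r₀ ≠ 0 := by
    refine ⟨Pi.single ⟨0, hn₁⟩ 1, fun h => ?_⟩
    have := congrFun h ⟨0, hn₁⟩
    simp at this
  obtain ⟨⟨r₁, hr₁⟩, -⟩ := hf₁.nondegenerate r₀ hr₀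
  obtain ⟨κ₀, hκ₀⟩ : ∃ κ₀, κ₀ = f₁ r₁ r₀ := ⟨_, rfl⟩
  rw [← hκ₀] at hr₁
  have hr₁0 : r₁ ≠ 0 := by
    intro h
    apply hr₁
    rw [hκ₀, h]
    have := hb₁.smul_left 0 0 r₀
    rwa [zero_smul, zero_mul] at this
  obtain ⟨μ, hμ⟩ : ∃ μ, μ = c * (κ₀ * ε) := ⟨_, rfl⟩
  have hμ0 : μ ≠ 0 := by rw [hμ]; exact mul_ne_zero hc (mul_ne_zero hr₁ hε)
  have hCC0 : ∀ r r' : Fin n₁ → F, CC f₂ w 0 (ptens r (w 0) + ptens r' (w 1)) = ε • r := by
    intro r r'
    rw [CC_add f₂ w hb₂, CC_ptens f₂ w hb₂, CC_ptens f₂ w hb₂, hw00, hw10, zero_smul, add_zero]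
  have hCC1 : ∀ r r' : Fin n₁ → F, CC f₂ w 1 (ptens r (w 0) + ptens r' (w 1)) = ε • r' := by
    intro r r'
    rw [CC_add f₂ w hb₂, CC_ptens f₂ w hb₂, CC_ptens f₂ w hb₂, hw01, hw11, zero_smul, zero_add]
  have htau3 : ∀ u x : Fin m ⊕ Fin m → F,
      ((tau m u : GL (Fin m ⊕ Fin m) F) : Matrix (Fin m ⊕ Fin m) (Fin m ⊕ Fin m) F) *ᵥ (((tau m u : GL (Fin m ⊕ Fin m) F) : Matrix (Fin m ⊕ Fin m) (Fin m ⊕ Fin m) F) *ᵥ
        (((tau m u : GL (Fin m ⊕ Fin m) F) : Matrix (Fin m ⊕ Fin m) (Fin m ⊕ Fin m) F) *ᵥ x)) = x := by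
    intro u x
    simp only [tau_mulVec, map_add, map_smul, LinearMap.add_apply, LinearMap.smul_apply, sympB_self, smul_eq_mul,
      mul_zero, add_zero]
    have : x + (sympB m F x) u • u + (sympB m F x) u • u + (sympB m F x) u • u = x + ((3 : F) * (sympB m F x) u) • u := by
      rw [add_assoc, add_assoc, ← add_smul, ← add_smul]
      congr 2
      ring
    rw [this, h3, zero_mul, zero_smul, add_zero]
  refine ⟨Cfsg.Geo.decompositionStabilizer (DD e P w) ⊓ Cfsg.spGL m F, ?_, ?_⟩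
  · rw [SetLike.lt_iff_le_and_exists]
    constructor
    · rintro g ⟨hgT, hgS⟩
      refine ⟨?_, hgS⟩
      obtain ⟨a, b, hab⟩ := mem_tensor e P g hgT
      have hS := (mem_spGL_iff m g).1 hgS
      have hpt : ∀ r u, (g : Matrix (Fin m ⊕ Fin m) (Fin m ⊕ Fin m) F) *ᵥ Psi e P (ptens r u) =
          Psi e P (ptens ((a : Matrix (Fin n₁) (Fin n₁) F) *ᵥ r) ((b : Matrix (Fin 3) (Fin 3) F) *ᵥ u)) := by
        intro r u
        rw [hab, kron_mulVec_ptens]
      have sim : ∀ r r' u v, f₁ ((a : Matrix (Fin n₁) (Fin n₁) F) *ᵥ r) ((a : Matrix (Fin n₁) (Fin n₁) F) *ᵥ r') *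
          f₂ ((b : Matrix (Fin 3) (Fin 3) F) *ᵥ u) ((b : Matrix (Fin 3) (Fin 3) F) *ᵥ v) = f₁ r r' * f₂ u v := by
        intro r r' u v
        have := hS (Psi e P (ptens r u)) (Psi e P (ptens r' v))
        rw [hpt, hpt, star, star] at this
        exact mul_left_cancel₀ hc this
      obtain ⟨lam, hlam⟩ : ∃ lam, lam = f₁ ((a : Matrix (Fin n₁) (Fin n₁) F) *ᵥ r₁)
          ((a : Matrix (Fin n₁) (Fin n₁) F) *ᵥ r₀) := ⟨_, rfl⟩
      have hlam0 : lam ≠ 0 := by
        intro h
        have := sim r₁ r₀ (w 0) (w 0)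
        rw [← hlam, h, zero_mul, ← hκ₀, hw00] at this
        exact mul_ne_zero hr₁ hε this.symm
      obtain ⟨ν, hν⟩ : ∃ ν, ν = κ₀ / lam := ⟨_, rfl⟩
      have hν0 : ν ≠ 0 := by rw [hν]; exact div_ne_zero hr₁ hlam0
      have hsim2 : ∀ u v, f₂ ((b : Matrix (Fin 3) (Fin 3) F) *ᵥ u) ((b : Matrix (Fin 3) (Fin 3) F) *ᵥ v) = ν * f₂ u v := by
        intro u v
        have := sim r₁ r₀ u v
        rw [← hlam, ← hκ₀] at this
        rw [hν]
        field_simp
        linear_combination this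
      have hch : ∀ k, ∃ (d : F) (k' : Fin 3), d ≠ 0 ∧ (b : Matrix (Fin 3) (Fin 3) F) *ᵥ w k = d • w k' := by
        intro k
        apply classify hq f₂ hf₂ ε hε w hw
        · rw [hsim2, hw, if_pos rfl]
          exact mul_ne_zero hν0 hε
        · intro z hz1 hz2
          have hzb : z = (b : Matrix (Fin 3) (Fin 3) F) *ᵥ (((b⁻¹ : GL (Fin 3) F) : Matrix (Fin 3) (Fin 3) F) *ᵥ z) := by
            rw [Cfsg.Agent.H9.Decomp.mulVec_inv_cancel]
          have h0 : ((b⁻¹ : GL (Fin 3) F) : Matrix (Fin 3) (Fin 3) F) *ᵥ z = 0 := by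
            apply w_perp_aniso hq f₂ hf₂ ε hε w hw k
            · rw [hzb, hsim2] at hz1
              exact (mul_eq_zero.1 hz1).resolve_left hν0
            · rw [hzb, hsim2] at hz2
              exact (mul_eq_zero.1 hz2).resolve_left hν0
          rw [hzb, h0, Matrix.mulVec_zero]
      choose dd π hd hπ using hch
      have hinj : Function.Injective π := by
        intro k k' h
        by_contra hkk
        have h1 := hsim2 (w k) (w k')
        rw [hπ k, hπ k', h, hb₂.smul_left, hb₂.smul_right, hw, if_pos rfl, hw, if_neg hkk, mul_zero] at h1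
        exact mul_ne_zero (hd k) (mul_ne_zero (hd k') hε) h1
      refine ⟨Equiv.ofBijective π (Finite.injective_iff_bijective.1 hinj), fun l => ?_⟩
      change Submodule.map (Matrix.toLin' (g : Matrix (Fin m ⊕ Fin m) (Fin m ⊕ Fin m) F)) (DD e P w l) = DD e P w (π l)
      apply le_antisymm
      · rintro _ ⟨y, ⟨r, rfl⟩, rfl⟩
        rw [Matrix.toLin'_apply, emb_apply, hpt, hπ l, ptens_smul_right, Psi_smul]
        exact (DD e P w (π l)).smul_mem _ ⟨_, rfl⟩
      · rintro _ ⟨r, rfl⟩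
        refine ⟨emb e P w l ((dd l)⁻¹ • (((a⁻¹ : GL (Fin n₁) F) : Matrix (Fin n₁) (Fin n₁) F) *ᵥ r)), ⟨_, rfl⟩, ?_⟩
        rw [Matrix.toLin'_apply, emb_apply, hpt, hπ l, Matrix.mulVec_smul, Cfsg.Agent.H9.Decomp.mulVec_inv_cancel,
          ptens_smul_left, ptens_smul_right, smul_smul, inv_mul_cancel₀ (hd l), one_smul, emb_apply]
    · -- an element of K outside the tensor group
      obtain ⟨u, hu⟩ : ∃ u, u = Psi e P (ptens r₀ (w 0)) := ⟨_, rfl⟩
      have hfwd : ∀ l y, y ∈ DD e P w l →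
          ((tau m u : GL (Fin m ⊕ Fin m) F) : Matrix (Fin m ⊕ Fin m) (Fin m ⊕ Fin m) F) *ᵥ y ∈ DD e P w l := by
        rintro l _ ⟨r, rfl⟩
        rw [tau_mulVec, emb_apply, hu, star, hw]
        by_cases hl : l = 0
        · subst hl
          exact (DD e P w 0).add_mem ⟨r, rfl⟩ ((DD e P w 0).smul_mem _ ⟨r₀, rfl⟩)
        · rw [if_neg hl, mul_zero, mul_zero, zero_smul, add_zero]
          exact ⟨r, rfl⟩
      refine ⟨tau m u, ⟨⟨1, fun l => ?_⟩, tau_mem_spGL m u⟩, ?_⟩
      · rw [Equiv.Perm.one_apply]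
        apply le_antisymm
        · rintro _ ⟨y, hy, rfl⟩
          rw [Matrix.toLin'_apply]
          exact hfwd l y hy
        · intro y hy
          refine ⟨_, hfwd l _ (hfwd l y hy), ?_⟩
          rw [Matrix.toLin'_apply, htau3]
      · rintro ⟨hT', -⟩
        obtain ⟨a, b, hab⟩ := mem_tensor e P _ hT'
        have h1 := hab (ptens r₁ (w 0 + w 1))
        rw [kron_mulVec_ptens, tau_mulVec, hu, star, hb₂.add_left, hw00, hw10, add_zero, ← hκ₀, ← hμ,
          ← Psi_smul, ← Psi_add] at h1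
        have h2' := Psi_injective e P h1
        have h4 : ptens r₁ (w 0 + w 1) + μ • ptens r₀ (w 0) = ptens (r₁ + μ • r₀) (w 0) + ptens r₁ (w 1) := by
          rw [ptens_add_right, ptens_add_left, ptens_smul_left]
          abel
        rw [h4] at h2'
        have e0 := congrArg (CC f₂ w 0) h2'
        have e1 := congrArg (CC f₂ w 1) h2'
        rw [hCC0, CC_ptens f₂ w hb₂] at e0
        rw [hCC1, CC_ptens f₂ w hb₂] at e1
        obtain ⟨β', hβ'⟩ : ∃ β', β' = f₂ ((b : Matrix (Fin 3) (Fin 3) F) *ᵥ (w 0 + w 1)) (w 0) := ⟨_, rfl⟩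
        obtain ⟨α', hα'⟩ : ∃ α', α' = f₂ ((b : Matrix (Fin 3) (Fin 3) F) *ᵥ (w 0 + w 1)) (w 1) := ⟨_, rfl⟩
        obtain ⟨r'', hr''⟩ : ∃ r'', r'' = (a : Matrix (Fin n₁) (Fin n₁) F) *ᵥ r₁ := ⟨_, rfl⟩
        rw [← hβ', ← hr''] at e0
        rw [← hα', ← hr''] at e1
        have hα0 : α' ≠ 0 := by
          intro h
          rw [h, zero_smul] at e1
          rcases smul_eq_zero.1 e1 with h | h
          · exact hε h
          · exact hr₁0 h
        have hr''' : r'' = (α'⁻¹ * ε) • r₁ := by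
          rw [mul_smul, e1, smul_smul, inv_mul_cancel₀ hα0, one_smul]
        have hr₀' : r₀ = ((ε * μ)⁻¹ * (β' * (α'⁻¹ * ε) - ε)) • r₁ := by
          have : (ε * μ) • r₀ = (β' * (α'⁻¹ * ε) - ε) • r₁ := by
            rw [sub_smul, mul_smul β', ← hr''', ← e0, smul_add, smul_smul]
            abel
          rw [mul_smul, ← this, smul_smul, inv_mul_cancel₀ (mul_ne_zero hε hμ0), one_smul]
        apply hr₁
        rw [hκ₀, hr₀', hb₁.smul_right, hf₁.alternating, mul_zero]
  · rw [SetLike.lt_iff_le_and_exists]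
    refine ⟨inf_le_right, ?_⟩
    obtain ⟨u, hu⟩ : ∃ u, u = Psi e P (ptens r₀ (w 0 + w 1)) := ⟨_, rfl⟩
    refine ⟨tau m u, tau_mem_spGL m u, ?_⟩
    rintro ⟨⟨σ, hσ⟩, -⟩
    have hmem : ((tau m u : GL (Fin m ⊕ Fin m) F) : Matrix (Fin m ⊕ Fin m) (Fin m ⊕ Fin m) F) *ᵥ (emb e P w 0 r₁) ∈ DD e P w (σ 0) := by
      rw [← hσ 0]
      exact ⟨_, ⟨r₁, rfl⟩, Matrix.toLin'_apply _ _⟩
    obtain ⟨r, hr⟩ := hmem
    rw [tau_mulVec, emb_apply, emb_apply, hu, star, hb₂.add_right, hw00, hw01, add_zero, ← hκ₀, ← hμ,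
      ← Psi_smul, ← Psi_add] at hr
    have h2' := Psi_injective e P hr
    have h4 : ptens r₁ (w 0) + μ • ptens r₀ (w 0 + w 1) = ptens (r₁ + μ • r₀) (w 0) + ptens (μ • r₀) (w 1) := by
      rw [ptens_add_right, ptens_add_left, ptens_smul_left, ptens_smul_left, smul_add]
      abel
    rw [h4] at h2'
    have e0 := congrArg (CC f₂ w 0) h2'
    have e1 := congrArg (CC f₂ w 1) h2'
    rw [hCC0, CC_ptens f₂ w hb₂, hw] at e0
    rw [hCC1, CC_ptens f₂ w hb₂, hw] at e1
    by_cases hσ1 : σ 0 = 1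
    · rw [if_neg (by rw [hσ1]; exact one_ne_zero), zero_smul] at e0
      have h5 : r₁ + μ • r₀ = 0 := (smul_eq_zero.1 e0.symm).resolve_left hε
      apply hr₁
      have : r₁ = (-μ) • r₀ := by rw [neg_smul]; exact eq_neg_of_add_eq_zero_left h5
      rw [hκ₀, this, hb₁.smul_left, hf₁.alternating, mul_zero]
    · rw [if_neg hσ1, zero_smul] at e1
      rcases smul_eq_zero.1 e1.symm with h | h
      · exact hε h
      · rcases smul_eq_zero.1 h with h | h
        · exact hμ0 h
        · exact hr₀ h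

end Cfsg.Agent.S5667
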