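import Cfsg.Statements.S5892
import Cfsg.Agent.H9.QCases2
import Cfsg.Agent.H9.DicksonMain

set_option autoImplicit false
open Cfsg

namespace Cfsg.Agent.S5892

/-- Let F be a finite field of odd order q ≥ 5 and characteristic p, and let M be a maximal subgroup of PSL₂(F). Then one of the following holds: |M| = q(q − 1)/2 (the stabiliser of a point of the projective line); q ≥ 13 and M is dihedral of order q − 1; q ∉ {7, 9} and M is dihedral of order q + 1; q = q₀² and M ≅ PGL₂(F₀) with |F₀| = q₀; q = q₀^r for an odd prime r and M ≅ PSL₂(F₀) with |F₀| = q₀; q ≡ ±1 (mod 10) with q = p or q = p², p ≡ ±3 (mod 10), and M ≅ A₅; q = p ≡ ±3 (mod 8), q ≢ ±1 (mod 10), and M ≅ A₄; or q = p ≡ ±1 (mod 8) and M ≅ S₄. -/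
theorem result {F : Type*} [Field F] [Fintype F] (p : ℕ)
    [Fact p.Prime] [CharP F p] (hodd : Odd (Fintype.card F)) (h5 : 5 ≤ Fintype.card F)
    (M : Subgroup (Matrix.ProjectiveSpecialLinearGroup (Fin 2) F)) (hM : IsCoatom M) :
    2 * Nat.card M = Fintype.card F * (Fintype.card F - 1) ∨
    (13 ≤ Fintype.card F ∧ (∃ k : ℕ, 2 * k = Fintype.card F - 1 ∧ Nonempty (M ≃* DihedralGroup k))) ∨
    (Fintype.card F ≠ 7 ∧ Fintype.card F ≠ 9 ∧ (∃ k : ℕ, 2 * k = Fintype.card F + 1 ∧ Nonempty (M ≃* DihedralGroup k))) ∨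
    (∃ (F₀ : Type) (_ : Field F₀) (_ : Fintype F₀), Fintype.card F = Fintype.card F₀ ^ 2 ∧
        Nonempty (M ≃* Matrix.ProjGenLinGroup (Fin 2) F₀)) ∨
    (∃ (F₀ : Type) (_ : Field F₀) (_ : Fintype F₀) (r : ℕ), r.Prime ∧ Odd r ∧ Fintype.card F = Fintype.card F₀ ^ r ∧
        Nonempty (M ≃* Matrix.ProjectiveSpecialLinearGroup (Fin 2) F₀)) ∨
    ((Fintype.card F % 10 = 1 ∨ Fintype.card F % 10 = 9) ∧
        (Fintype.card F = p ∨ (Fintype.card F = p ^ 2 ∧ (p % 10 = 3 ∨ p % 10 = 7))) ∧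
        Nonempty (M ≃* alternatingGroup (Fin 5))) ∨
    (Fintype.card F = p ∧ (p % 8 = 3 ∨ p % 8 = 5) ∧ ¬ (p % 10 = 1 ∨ p % 10 = 9) ∧
        Nonempty (M ≃* alternatingGroup (Fin 4))) ∨
    (Fintype.card F = p ∧ (p % 8 = 1 ∨ p % 8 = 7) ∧ Nonempty (M ≃* Equiv.Perm (Fin 4))) := by
  classical
  have hsimple := Cfsg.Agent.H9.PSL2MinSimple.isSimple (F := F) (by omega)
  have hg : Nat.gcd 2 (Fintype.card F - 1) = 2 := by
    obtain ⟨r, hr⟩ := hodd
    have : Fintype.card F - 1 = 2 * r := by omega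
    rw [this, Nat.gcd_mul_right_right]
  have hnab : ∃ a b : M, a * b ≠ b * a := by
    by_contra hcon
    push Not at hcon
    apply Cfsg.Agent.H9.PSL2MaxGen.no_abelian_maximal Cfsg.Agent.H9.PSL2MaxGen.hna M hM
    intro a ha b hb
    exact congrArg Subtype.val (hcon ⟨a, ha⟩ ⟨b, hb⟩)
  have hD := Cfsg.Agent.H9.DicksonUN.dickson (Fintype.card F) p rfl M
  rcases hD with ⟨k, hk, ⟨hc, hck⟩ | ⟨⟨e⟩⟩⟩ | ⟨P, K', hK', ⟨e⟩⟩ | ⟨⟨e⟩⟩ | ⟨⟨e⟩⟩ | ⟨⟨e⟩⟩ |
    ⟨K', i1, i2, m, hm, ⟨⟨e⟩⟩ | ⟨⟨e⟩⟩⟩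
  · -- cyclic
    exfalso
    obtain ⟨a, b, hab⟩ := hnab
    exact Cfsg.Agent.H9.DicksonMax.no_cyclic a b hab (MonoidHom.id M) Function.injective_id
  · -- dihedral
    rcases Cfsg.Agent.H9.QDih.dih_case hodd h5 p M hM k hk e with ⟨h13, h2k⟩ | ⟨h7, h9, h2k⟩
    · right; left
      exact ⟨h13, k, h2k, ⟨e⟩⟩
    · right; right; left
      exact ⟨h7, h9, k, h2k, ⟨e⟩⟩
  · -- Borel
    left
    have := Cfsg.Agent.H9.PSL2MaxGen.borel_type p (by omega) M hM P K' hK' e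
    rw [hg] at this
    rw [← this]; ring
  · -- A4
    rcases Cfsg.Agent.H9.QCases.a4_case hodd h5 p M hM e with ⟨hq, hmod, h10⟩ | h
    · right; right; right; right; right; right; left
      exact ⟨hq, hmod, h10, ⟨e⟩⟩
    · right; right; right; right; left
      exact h
  · -- S4
    rcases Cfsg.Agent.H9.QCases.s4_case hodd h5 p M hM e with ⟨hq, hmod⟩ | h
    · right; right; right; right; right; right; right
      exact ⟨hq, hmod, ⟨e⟩⟩
    · right; right; right; left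
      exact h
  · -- A5
    rcases Cfsg.Agent.H9.QCases.a5_case hodd h5 p M hM e with ⟨hmod, hq⟩ | h
    · right; right; right; right; right; left
      exact ⟨hmod, hq, ⟨e⟩⟩
    · right; right; right; right; left
      exact h
  · -- PSL2(K')
    obtain ⟨hmp, hmo⟩ := Cfsg.Agent.H9.QCases.psl_case hodd h5 p M hM K' m hm e
    right; right; right; right; left
    exact ⟨K', i1, i2, m, hmp, hmo, hm.symm, ⟨e⟩⟩
  · -- PGL2(K')
    have hm2 := Cfsg.Agent.H9.QCases.pgl_case hodd h5 p M hM K' m hm e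
    subst hm2
    right; right; right; left
    exact ⟨K', i1, i2, hm.symm, ⟨e⟩⟩

end Cfsg.Agent.S5892
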