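import Cfsg.Statements.S0246
import Mathlib
import Cfsg.Agent.Lib.Helper5.Symp

set_option autoImplicit false
open Cfsg

namespace Cfsg.Agent.S0246

open Matrix
open Cfsg.Agent.Lib.Helper5.Symp


variable {F : Type*} [Field F] (m : ℕ)

theorem center_mulVec_collinear (Z : symplecticGroup (Fin m) F)
    (hZ : Z ∈ Subgroup.center (symplecticGroup (Fin m) F)) (v : Fin m ⊕ Fin m → F) (hv : v ≠ 0) :
    ∃ c : F, (Z : Matrix (Fin m ⊕ Fin m) (Fin m ⊕ Fin m) F) *ᵥ v = c • v := by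
  obtain ⟨y, hy⟩ := exists_sympForm_ne_zero m hv
  have hy' : sympForm m F y v ≠ 0 := by
    rw [sympForm_swap]; exact neg_ne_zero.2 hy
  have hcomm := (Subgroup.mem_center_iff.1 hZ (sympT m v 1))
  have hcomm' : sympTransvection m v 1 * (Z : Matrix (Fin m ⊕ Fin m) (Fin m ⊕ Fin m) F)
      = (Z : Matrix (Fin m ⊕ Fin m) (Fin m ⊕ Fin m) F) * sympTransvection m v 1 :=
    congrArg Subtype.val hcomm
  rw [mul_sympTransvection m Z.2] at hcomm'
  have h1 := congrArg (fun M => M *ᵥ y) hcomm'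
  simp only [← Matrix.mulVec_mulVec, sympTransvection_mulVec, one_mul] at h1
  rw [sympForm_of_mem m Z.2] at h1
  have h2 : sympForm m F ((Z : Matrix (Fin m ⊕ Fin m) (Fin m ⊕ Fin m) F) *ᵥ y) v • v
      = sympForm m F y v • ((Z : Matrix (Fin m ⊕ Fin m) (Fin m ⊕ Fin m) F) *ᵥ v) :=
    add_left_cancel h1
  refine ⟨(sympForm m F y v)⁻¹ * sympForm m F ((Z : Matrix (Fin m ⊕ Fin m) (Fin m ⊕ Fin m) F) *ᵥ y) v, ?_⟩
  rw [mul_smul, h2, smul_smul, inv_mul_cancel₀ hy', one_smul]

theorem center_eq_smul_one (Z : symplecticGroup (Fin m) F)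
    (hZ : Z ∈ Subgroup.center (symplecticGroup (Fin m) F)) :
    ∃ a : F, (Z : Matrix (Fin m ⊕ Fin m) (Fin m ⊕ Fin m) F) = a • 1 := by
  set f : ((Fin m ⊕ Fin m) → F) →ₗ[F] ((Fin m ⊕ Fin m) → F) :=
    Matrix.toLin' (Z : Matrix (Fin m ⊕ Fin m) (Fin m ⊕ Fin m) F) with hf
  obtain ⟨a, ha⟩ := f.exists_eq_smul_id_of_forall_notLinearIndependent fun v ↦ by
    by_cases hv : v = 0
    · simp [hv, linearIndependent_fin2]
    · obtain ⟨c, hc⟩ := center_mulVec_collinear m Z hZ v hv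
      rw [LinearIndependent.pair_iff' hv]
      push Not
      exact ⟨c, by rw [hf, Matrix.toLin'_apply, hc]⟩
  refine ⟨a, ?_⟩
  have : (Z : Matrix (Fin m ⊕ Fin m) (Fin m ⊕ Fin m) F) = LinearMap.toMatrix' f := by
    rw [hf, LinearMap.toMatrix'_toLin']
  rw [this, ha]
  simp


theorem smul_one_mem (a : F) (ha : a ^ 2 = 1) :
    (a • (1 : Matrix (Fin m ⊕ Fin m) (Fin m ⊕ Fin m) F)) ∈ symplecticGroup (Fin m) F := by
  rw [SymplecticGroup.mem_iff]
  simp only [Matrix.smul_mul, Matrix.one_mul, Matrix.transpose_smul, Matrix.transpose_one,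
    Matrix.mul_smul, Matrix.mul_one, smul_smul, ← sq, ha, one_smul]

/-- the map from square roots of unity to the centre -/
noncomputable def phi (a : rootsOfUnity 2 F) : Subgroup.center (symplecticGroup (Fin m) F) :=
  ⟨⟨((a : Fˣ) : F) • (1 : Matrix (Fin m ⊕ Fin m) (Fin m ⊕ Fin m) F), smul_one_mem m _ (by
      have := a.2
      rw [mem_rootsOfUnity'] at this
      exact this)⟩, by
    rw [Subgroup.mem_center_iff]
    intro B
    apply Subtype.ext
    simp⟩

theorem phi_bijective (hm : 1 ≤ m) : Function.Bijective (phi (F := F) m) := by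
  constructor
  · intro a b hab
    have h1 := congrArg (fun Z : Subgroup.center (symplecticGroup (Fin m) F) =>
      (Z : Matrix (Fin m ⊕ Fin m) (Fin m ⊕ Fin m) F) (Sum.inl ⟨0, hm⟩) (Sum.inl ⟨0, hm⟩)) hab
    simp [phi] at h1
    exact Subtype.ext (Units.ext h1)
  · intro Z
    obtain ⟨a, ha⟩ := center_eq_smul_one m Z.1 Z.2
    have hmem := Z.1.2
    rw [ha, SymplecticGroup.mem_iff] at hmem
    simp only [Matrix.smul_mul, Matrix.one_mul, Matrix.transpose_smul, Matrix.transpose_one,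
      Matrix.mul_smul, Matrix.mul_one, smul_smul] at hmem
    have h2 := congrFun (congrFun hmem (Sum.inr ⟨0, hm⟩)) (Sum.inl ⟨0, hm⟩)
    simp [Matrix.J, Matrix.fromBlocks] at h2
    have ha2 : a ^ 2 = 1 := by rw [sq]; exact h2
    have ha0 : a ≠ 0 := by
      rintro rfl
      simp at ha2
    refine ⟨⟨Units.mk0 a ha0, ?_⟩, ?_⟩
    · rw [mem_rootsOfUnity']
      exact ha2
    · apply Subtype.ext
      apply Subtype.ext
      simp [phi, ha]

/-- The centre of Sp_{2m}(q), m at least 1, is {1, -1}: it has order gcd(2, q-1). -/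
theorem result {F : Type*} [Field F] [Fintype F] {q : ℕ} (hF : Fintype.card F = q) (m : ℕ) (hm : 1 ≤ m) : Nat.card (Subgroup.center (Matrix.symplecticGroup (Fin m) F)) = Nat.gcd 2 (q - 1) := by
  rw [← Nat.card_congr (Equiv.ofBijective _ (phi_bijective (F := F) m hm))]
  rw [rootsOfUnity_eq_ker, IsCyclic.card_powMonoidHom_ker, Nat.card_units, Nat.card_eq_fintype_card,
    hF, Nat.gcd_comm]

end Cfsg.Agent.S0246
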