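import Cfsg.Statements.S4010
import Mathlib

set_option autoImplicit false
open Cfsg

namespace Cfsg.Agent.S4010

open scoped commutatorElement

section Chain
variable {K : Type*} [Field K] {V : Type*} [AddCommGroup V] [Module K V]
variable {P : Type*} [Group P]

/-- the ascending fixed-point chain -/
def Wch (ρ : P →* Module.End K V) : ℕ → Submodule K V
  | 0 => ⊥
  | (i + 1) => ⨅ g : P, (Wch ρ i).comap (ρ g - 1)

theorem Wch_zero (ρ : P →* Module.End K V) : Wch ρ 0 = ⊥ := rfl

theorem mem_Wch_succ (ρ : P →* Module.End K V) (i : ℕ) (v : V) :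
    v ∈ Wch ρ (i + 1) ↔ ∀ g : P, ρ g v - v ∈ Wch ρ i := by
  change v ∈ (⨅ g : P, (Wch ρ i).comap (ρ g - 1)) ↔ _
  rw [Submodule.mem_iInf]
  simp only [Submodule.mem_comap, LinearMap.sub_apply, Module.End.one_apply]

theorem Wch_le_succ (ρ : P →* Module.End K V) (i : ℕ) : Wch ρ i ≤ Wch ρ (i + 1) := by
  induction i with
  | zero => rw [Wch_zero]; exact bot_le
  | succ i ih =>
    intro v hv
    rw [mem_Wch_succ] at hv ⊢
    intro g
    exact ih (hv g)

theorem Wch_mono (ρ : P →* Module.End K V) {i j : ℕ} (h : i ≤ j) : Wch ρ i ≤ Wch ρ j :=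
  monotone_nat_of_le_succ (Wch_le_succ ρ) h

theorem Wch_shift (ρ : P →* Module.End K V) (g : P) (j : ℕ) (v : V) (hv : v ∈ Wch ρ j) :
    ρ g v - v ∈ Wch ρ (j - 1) := by
  cases j with
  | zero =>
    rw [Wch_zero, Submodule.mem_bot] at hv
    subst hv
    simp
  | succ j => exact (mem_Wch_succ ρ j v).1 hv g

theorem Wch_inv (ρ : P →* Module.End K V) (g : P) (j : ℕ) (v : V) (hv : v ∈ Wch ρ j) :
    ρ g v ∈ Wch ρ j := by
  have h1 := Wch_mono ρ (Nat.sub_le j 1) (Wch_shift ρ g j v hv)
  have : ρ g v = (ρ g v - v) + v := by abel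
  rw [this]
  exact Submodule.add_mem _ h1 hv

theorem rho_mul_apply (ρ : P →* Module.End K V) (g h : P) (v : V) :
    ρ (g * h) v = ρ g (ρ h v) := by
  rw [map_mul]; rfl

theorem rho_one_apply (ρ : P →* Module.End K V) (v : V) : ρ 1 v = v := by
  rw [map_one]; rfl

theorem rho_inv_apply (ρ : P →* Module.End K V) (g : P) (v : V) : ρ g⁻¹ (ρ g v) = v := by
  rw [← rho_mul_apply, inv_mul_cancel, rho_one_apply]

theorem rho_apply_inv (ρ : P →* Module.End K V) (g : P) (v : V) : ρ g (ρ g⁻¹ v) = v := by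
  rw [← rho_mul_apply, mul_inv_cancel, rho_one_apply]

/-- the filtration of `P` by how far elements shift the chain -/
def Fil (ρ : P →* Module.End K V) (i : ℕ) : Subgroup P where
  carrier := {g | ∀ j v, v ∈ Wch ρ j → ρ g v - v ∈ Wch ρ (j - i)}
  one_mem' := by
    intro j v _
    rw [rho_one_apply, sub_self]
    exact Submodule.zero_mem _
  mul_mem' := by
    intro g h hg hh j v hv
    have h1 : ρ h v ∈ Wch ρ j := Wch_inv ρ h j v hv
    have e : ρ (g * h) v - v = (ρ g (ρ h v) - ρ h v) + (ρ h v - v) := by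
      rw [rho_mul_apply]; abel
    rw [e]
    exact Submodule.add_mem _ (hg j _ h1) (hh j v hv)
  inv_mem' := by
    intro g hg j v hv
    have h1 : ρ g⁻¹ v ∈ Wch ρ j := Wch_inv ρ g⁻¹ j v hv
    have e : ρ g⁻¹ v - v = -(ρ g (ρ g⁻¹ v) - ρ g⁻¹ v) := by
      rw [rho_apply_inv]; abel
    rw [e]
    exact Submodule.neg_mem _ (hg j _ h1)

theorem mem_Fil (ρ : P →* Module.End K V) (i : ℕ) (g : P) :
    g ∈ Fil ρ i ↔ ∀ j v, v ∈ Wch ρ j → ρ g v - v ∈ Wch ρ (j - i) := Iff.rfl

theorem Fil_one (ρ : P →* Module.End K V) : Fil ρ 1 = ⊤ := by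
  rw [eq_top_iff]
  intro g _
  rw [mem_Fil]
  intro j v hv
  exact Wch_shift ρ g j v hv

theorem Fil_comm (ρ : P →* Module.End K V) (i j : ℕ) : ⁅Fil ρ i, Fil ρ j⁆ ≤ Fil ρ (i + j) := by
  rw [Subgroup.commutator_le]
  intro g hg h hh
  rw [mem_Fil] at hg hh ⊢
  intro l v hv
  obtain ⟨u, hu⟩ : ∃ u, u = ρ g⁻¹ (ρ h⁻¹ v) := ⟨_, rfl⟩
  have huW : u ∈ Wch ρ l := by
    rw [hu]
    exact Wch_inv ρ _ _ _ (Wch_inv ρ _ _ _ hv)
  have hv' : v = ρ h (ρ g u) := by
    rw [hu, rho_apply_inv, rho_apply_inv]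
  have e1 : ρ ⁅g, h⁆ v = ρ g (ρ h u) := by
    rw [commutatorElement_def, rho_mul_apply, rho_mul_apply, rho_mul_apply, hu]
  have e : ρ ⁅g, h⁆ v - v = (ρ g (ρ h u - u) - (ρ h u - u)) - (ρ h (ρ g u - u) - (ρ g u - u)) := by
    rw [e1]
    have e0 : ρ g (ρ h u) - v = ρ g (ρ h u) - ρ h (ρ g u) := by rw [← hv']
    rw [e0, map_sub, map_sub]
    abel
  rw [e]
  have h1 : ρ h u - u ∈ Wch ρ (l - j) := hh l u huW
  have h2 : ρ g (ρ h u - u) - (ρ h u - u) ∈ Wch ρ (l - j - i) := hg _ _ h1
  have h3 : ρ g u - u ∈ Wch ρ (l - i) := hg l u huW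
  have h4 : ρ h (ρ g u - u) - (ρ g u - u) ∈ Wch ρ (l - i - j) := hh _ _ h3
  have e2 : l - j - i = l - (i + j) := by omega
  have e3 : l - i - j = l - (i + j) := by omega
  rw [e2] at h2
  rw [e3] at h4
  exact Submodule.sub_mem _ h2 h4

theorem derived_le_Fil (ρ : P →* Module.End K V) (k : ℕ) : derivedSeries P k ≤ Fil ρ (2 ^ k) := by
  induction k with
  | zero =>
    rw [pow_zero, Fil_one]
    exact le_top
  | succ k ih =>
    rw [derivedSeries_succ]
    refine le_trans (Subgroup.commutator_mono ih ih) ?_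
    have : 2 ^ (k + 1) = 2 ^ k + 2 ^ k := by ring
    rw [this]
    exact Fil_comm ρ _ _

theorem derived_le_ker_of_chain (ρ : P →* Module.End K V) (m k : ℕ) (hm : Wch ρ m = ⊤)
    (hk : m ≤ 2 ^ k) : derivedSeries P k ≤ ρ.ker := by
  intro g hg
  have h1 := derived_le_Fil ρ k hg
  rw [mem_Fil] at h1
  rw [MonoidHom.mem_ker]
  apply LinearMap.ext
  intro v
  have h2 := h1 m v (by rw [hm]; exact Submodule.mem_top)
  have e : m - 2 ^ k = 0 := by omega
  rw [e, Wch_zero, Submodule.mem_bot, sub_eq_zero] at h2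
  rw [h2]
  rfl

end Chain

section FixedPoint
variable {K : Type*} [Field K] {V : Type*} [AddCommGroup V] [Module K V]
variable {P : Type*} [Group P] [Finite P]

theorem exists_fixed_mod (p : ℕ) [Fact p.Prime] [CharP K p] (hP : IsPGroup p P)
    (ρ : P →* Module.End K V) (W : Submodule K V) (hW : ∀ g, W ≤ W.comap (ρ g)) (hne : W ≠ ⊤) :
    ∃ v, v ∉ W ∧ ∀ g, ρ g v - v ∈ W := by
  classical
  obtain ⟨v₀, hv₀⟩ : ∃ v₀, v₀ ∉ W := by
    by_contra hcon
    push Not at hcon
    exact hne (eq_top_iff.2 fun v _ => hcon v)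
  obtain ⟨rb, hrb⟩ : ∃ rb : P → (V ⧸ W) →ₗ[K] (V ⧸ W), rb = fun g => W.mapQ W (ρ g) (hW g) :=
    ⟨_, rfl⟩
  have rb_mk : ∀ g v, rb g (Submodule.Quotient.mk v) = Submodule.Quotient.mk (ρ g v) := by
    intro g v
    rw [hrb]
    rfl
  have rb_mul : ∀ g h x, rb (g * h) x = rb g (rb h x) := by
    intro g h x
    obtain ⟨v, rfl⟩ := Submodule.Quotient.mk_surjective W x
    rw [rb_mk, rb_mk, rb_mk, rho_mul_apply]
  have rb_one : ∀ x, rb 1 x = x := by
    intro x
    obtain ⟨v, rfl⟩ := Submodule.Quotient.mk_surjective W x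
    rw [rb_mk, rho_one_apply]
  obtain ⟨x₀, hx₀⟩ : ∃ x₀ : V ⧸ W, x₀ = Submodule.Quotient.mk v₀ := ⟨_, rfl⟩
  have hx₀ne : x₀ ≠ 0 := by
    rw [hx₀, Ne, Submodule.Quotient.mk_eq_zero]
    exact hv₀
  obtain ⟨T, hT⟩ : ∃ T : Set (V ⧸ W), T = Set.range (fun g : P => rb g x₀) := ⟨_, rfl⟩
  obtain ⟨S, hS⟩ : ∃ S : AddSubgroup (V ⧸ W), S = AddSubgroup.closure T := ⟨_, rfl⟩
  have hx₀S : x₀ ∈ S := by
    rw [hS]
    apply AddSubgroup.subset_closure
    rw [hT]
    exact ⟨1, rb_one x₀⟩
  have hstab : ∀ g, ∀ s ∈ S, rb g s ∈ S := by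
    intro g s hs
    rw [hS] at hs ⊢
    induction hs using AddSubgroup.closure_induction with
    | mem y hy =>
      rw [hT] at hy
      obtain ⟨h, rfl⟩ := hy
      apply AddSubgroup.subset_closure
      rw [hT]
      exact ⟨g * h, rb_mul g h x₀⟩
    | zero => rw [map_zero]; exact AddSubgroup.zero_mem _
    | add a b _ _ ha hb => rw [map_add]; exact AddSubgroup.add_mem _ ha hb
    | neg a _ ha => rw [map_neg]; exact AddSubgroup.neg_mem _ ha
  have hpS : ∀ s : S, p • s = 0 := by
    intro s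
    apply Subtype.ext
    rw [AddSubgroup.coe_nsmul, AddSubgroup.coe_zero, ← Nat.cast_smul_eq_nsmul K,
      CharP.cast_eq_zero, zero_smul]
  haveI hSfin : Finite S := by
    haveI : AddGroup.FG S := by
      rw [AddGroup.fg_iff_addSubgroup_fg, AddSubgroup.fg_iff]
      refine ⟨T, hS.symm, ?_⟩
      rw [hT]
      exact Set.finite_range _
    apply AddCommGroup.finite_of_fg_isAddTorsion
    intro s
    rw [isOfFinAddOrder_iff_nsmul_eq_zero]
    exact ⟨p, (Fact.out : p.Prime).pos, hpS s⟩
  letI act : MulAction P S :=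
    { smul := fun g s => ⟨rb g s.1, hstab g s.1 s.2⟩
      one_smul := fun s => Subtype.ext (rb_one s.1)
      mul_smul := fun g h s => Subtype.ext (rb_mul g h s.1) }
  have hsmul : ∀ (g : P) (s : S), ((g • s : S) : V ⧸ W) = rb g s.1 := fun g s => rfl
  have h0fix : (0 : S) ∈ MulAction.fixedPoints P S := by
    intro g
    apply Subtype.ext
    rw [hsmul, AddSubgroup.coe_zero, map_zero]
  have hpdvd : p ∣ Nat.card S := by
    have hne : (⟨x₀, hx₀S⟩ : S) ≠ 0 := by
      intro e
      exact hx₀ne (congrArg Subtype.val e)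
    have h1 : addOrderOf (⟨x₀, hx₀S⟩ : S) ∣ p := addOrderOf_dvd_of_nsmul_eq_zero (hpS _)
    rcases (Nat.dvd_prime (Fact.out : p.Prime)).1 h1 with h2 | h2
    · exact absurd (AddMonoid.addOrderOf_eq_one_iff.1 h2) hne
    · rw [← h2]
      exact addOrderOf_dvd_natCard _
  obtain ⟨b, hbfix, hb0⟩ := hP.exists_fixed_point_of_prime_dvd_card_of_fixed_point S hpdvd h0fix
  obtain ⟨v, hv⟩ := Submodule.Quotient.mk_surjective W b.1
  refine ⟨v, ?_, ?_⟩
  · intro hvW
    apply hb0
    apply Subtype.ext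
    rw [AddSubgroup.coe_zero, ← hv]
    exact ((Submodule.Quotient.mk_eq_zero W).2 hvW).symm
  · intro g
    have h1 : rb g b.1 = b.1 := by
      have := hbfix g
      rw [← hsmul, this]
    rw [← hv, rb_mk] at h1
    exact (Submodule.Quotient.eq W).1 h1

end FixedPoint

section CharPMain
variable {K : Type*} [Field K] {V : Type*} [AddCommGroup V] [Module K V] [FiniteDimensional K V]
variable {P : Type*} [Group P] [Finite P]

theorem Wch_invariant (ρ : P →* Module.End K V) (i : ℕ) (g : P) :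
    Wch ρ i ≤ (Wch ρ i).comap (ρ g) := fun v hv => Wch_inv ρ g i v hv

theorem Wch_strict (p : ℕ) [Fact p.Prime] [CharP K p] (hP : IsPGroup p P)
    (ρ : P →* Module.End K V) (i : ℕ) (hne : Wch ρ i ≠ ⊤) : Wch ρ i < Wch ρ (i + 1) := by
  obtain ⟨v, hvW, hv⟩ := exists_fixed_mod p hP ρ (Wch ρ i) (Wch_invariant ρ i) hne
  refine lt_of_le_of_ne (Wch_le_succ ρ i) ?_
  intro e
  apply hvW
  rw [e, mem_Wch_succ]
  exact hv

theorem Wch_finrank (p : ℕ) [Fact p.Prime] [CharP K p] (hP : IsPGroup p P)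
    (ρ : P →* Module.End K V) (i : ℕ) :
    Wch ρ i = ⊤ ∨ i ≤ Module.finrank K (Wch ρ i) := by
  induction i with
  | zero => right; exact Nat.zero_le _
  | succ i ih =>
    by_cases h : Wch ρ (i + 1) = ⊤
    · left; exact h
    · right
      have hi : Wch ρ i ≠ ⊤ := fun e => h (eq_top_iff.2 (e ▸ Wch_le_succ ρ i))
      have := Submodule.finrank_lt_finrank_of_lt (Wch_strict p hP ρ i hi)
      rcases ih with ih | ih
      · exact absurd ih hi
      · omega

theorem Wch_top (p : ℕ) [Fact p.Prime] [CharP K p] (hP : IsPGroup p P)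
    (ρ : P →* Module.End K V) : Wch ρ (Module.finrank K V) = ⊤ := by
  rcases Wch_finrank p hP ρ (Module.finrank K V) with h | h
  · exact h
  · exact Submodule.eq_top_of_finrank_eq (le_antisymm (Submodule.finrank_le _) h)

theorem charp_main (p : ℕ) [Fact p.Prime] [CharP K p] (hP : IsPGroup p P)
    (ρ : P →* Module.End K V) (k : ℕ) (hk : Module.finrank K V ≤ 2 ^ k) :
    derivedSeries P k ≤ ρ.ker :=
  derived_le_ker_of_chain ρ _ k (Wch_top p hP ρ) hk

end CharPMain

section Basic
variable {K : Type*} [Field K] {V : Type*} [AddCommGroup V] [Module K V]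
variable {P : Type*} [Group P]

theorem one_add_pow_of_sq_zero (u : Module.End K V) (hu : u * u = 0) (m : ℕ) :
    (1 + u) ^ m = 1 + (m : K) • u := by
  induction m with
  | zero => simp
  | succ m ih =>
    rw [pow_succ, ih, add_mul, mul_add, mul_add, one_mul, mul_one, one_mul, smul_mul_assoc, hu,
      smul_zero, add_zero, Nat.cast_succ, add_smul, one_smul]
    abel

theorem eq_one_of_sq_zero (p : ℕ) (hp : (p : K) ≠ 0) (f : Module.End K V) (k : ℕ)
    (h1 : f ^ (p ^ k) = 1) (h2 : (f - 1) * (f - 1) = 0) : f = 1 := by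
  have e : f = 1 + (f - 1) := by abel
  have h3 := one_add_pow_of_sq_zero (f - 1) h2 (p ^ k)
  rw [← e, h1] at h3
  have h4 : ((p ^ k : ℕ) : K) • (f - 1) = 0 := by
    have := h3
    rwa [left_eq_add] at this
  have h5 : ((p ^ k : ℕ) : K) ≠ 0 := by
    rw [Nat.cast_pow]
    exact pow_ne_zero _ hp
  have h6 : f - 1 = 0 := by
    apply LinearMap.ext
    intro v
    have := congrArg (fun g : Module.End K V => g v) h4
    simp only [LinearMap.smul_apply, LinearMap.zero_apply] at this
    rcases smul_eq_zero.1 this with h | h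
    · exact absurd h h5
    · exact h
  exact sub_eq_zero.1 h6

/-- restriction of a representation to an invariant subspace -/
def resRep (ρ : P →* Module.End K V) (W : Submodule K V) (hW : ∀ g, W ≤ W.comap (ρ g)) :
    P →* Module.End K W where
  toFun g := (ρ g).restrict (hW g)
  map_one' := by
    apply LinearMap.ext
    intro w
    apply Subtype.ext
    rw [LinearMap.restrict_coe_apply, rho_one_apply]
    rfl
  map_mul' g h := by
    apply LinearMap.ext
    intro w
    apply Subtype.ext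
    rw [LinearMap.restrict_coe_apply, rho_mul_apply]
    rfl

theorem resRep_apply (ρ : P →* Module.End K V) (W : Submodule K V)
    (hW : ∀ g, W ≤ W.comap (ρ g)) (g : P) (w : W) :
    ((resRep ρ W hW g w : W) : V) = ρ g w := rfl

/-- quotient of a representation by an invariant subspace -/
def quotRep (ρ : P →* Module.End K V) (W : Submodule K V) (hW : ∀ g, W ≤ W.comap (ρ g)) :
    P →* Module.End K (V ⧸ W) where
  toFun g := W.mapQ W (ρ g) (hW g)
  map_one' := by
    apply LinearMap.ext
    intro x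
    obtain ⟨v, rfl⟩ := Submodule.Quotient.mk_surjective W x
    rw [Submodule.mapQ_apply, rho_one_apply]
    rfl
  map_mul' g h := by
    apply LinearMap.ext
    intro x
    obtain ⟨v, rfl⟩ := Submodule.Quotient.mk_surjective W x
    rw [Submodule.mapQ_apply, rho_mul_apply]
    rfl

theorem quotRep_mk (ρ : P →* Module.End K V) (W : Submodule K V)
    (hW : ∀ g, W ≤ W.comap (ρ g)) (g : P) (v : V) :
    quotRep ρ W hW g (Submodule.Quotient.mk v) = Submodule.Quotient.mk (ρ g v) := rfl

theorem rho_pow (ρ : P →* Module.End K V) (g : P) (m : ℕ) : ρ (g ^ m) = ρ g ^ m := map_pow ρ g m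

theorem ker_of_res_quot (p : ℕ) [Fact p.Prime] (hp : (p : K) ≠ 0) (hP : IsPGroup p P)
    (ρ : P →* Module.End K V) (W : Submodule K V) (hW : ∀ g, W ≤ W.comap (ρ g)) (g : P)
    (h1 : g ∈ (resRep ρ W hW).ker) (h2 : g ∈ (quotRep ρ W hW).ker) : g ∈ ρ.ker := by
  rw [MonoidHom.mem_ker] at h1 h2 ⊢
  obtain ⟨k, hk⟩ := hP g
  apply eq_one_of_sq_zero p hp (ρ g) k
  · rw [← rho_pow, hk, map_one]
  · apply LinearMap.ext
    intro v
    have hvW : ρ g v - v ∈ W := by
      have := congrArg (fun f : Module.End K (V ⧸ W) => f (Submodule.Quotient.mk v)) h2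
      simp only [quotRep_mk, Module.End.one_apply] at this
      exact (Submodule.Quotient.eq W).1 this
    have := congrArg (fun f : Module.End K W => ((f ⟨_, hvW⟩ : W) : V)) h1
    simp only [resRep_apply, Module.End.one_apply] at this
    rw [Module.End.mul_apply, LinearMap.sub_apply, LinearMap.sub_apply, Module.End.one_apply,
      LinearMap.zero_apply, sub_eq_zero]
    exact this

theorem log_half (d n : ℕ) (hd : 1 ≤ d) (h : 2 * d ≤ n) : Nat.log 2 d + 1 ≤ Nat.log 2 n := by
  rw [← Nat.log_mul_base (by norm_num) (by omega)]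
  exact Nat.log_mono_right (by omega)

theorem derived_succ_le_map (M : Subgroup P) (hM : derivedSeries P 1 ≤ M) (k : ℕ) :
    derivedSeries P (k + 1) ≤ (derivedSeries M k).map M.subtype := by
  induction k with
  | zero =>
    rw [derivedSeries_zero, ← MonoidHom.range_eq_map, Subgroup.range_subtype]
    exact hM
  | succ k ih =>
    rw [derivedSeries_succ, derivedSeries_succ (G := M), Subgroup.map_commutator]
    exact Subgroup.commutator_mono ih ih

end Basic

open scoped commutatorElement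

section Irred
variable {K : Type*} [Field K] {V : Type*} [AddCommGroup V] [Module K V]
variable {P : Type*} [Group P]

/-- irreducibility of a representation -/
def Irr (ρ : P →* Module.End K V) : Prop :=
  ∀ W : Submodule K V, (∀ g, W ≤ W.comap (ρ g)) → W = ⊥ ∨ W = ⊤

theorem rho_inv_mul (ρ : P →* Module.End K V) (g : P) : ρ g⁻¹ * ρ g = 1 := by
  rw [← map_mul, inv_mul_cancel, map_one]

theorem rho_mul_inv (ρ : P →* Module.End K V) (g : P) : ρ g * ρ g⁻¹ = 1 := by
  rw [← map_mul, mul_inv_cancel, map_one]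

/-- the preimage of the centre of the image -/
def Zsub (ρ : P →* Module.End K V) : Subgroup P where
  carrier := {z | ∀ h, ρ h * ρ z = ρ z * ρ h}
  one_mem' := by
    intro h
    rw [map_one, mul_one, one_mul]
  mul_mem' := by
    intro a b ha hb h
    rw [map_mul, ← mul_assoc, ha h, mul_assoc, hb h, mul_assoc]
  inv_mem' := by
    intro a ha h
    calc ρ h * ρ a⁻¹ = ρ a⁻¹ * ρ a * (ρ h * ρ a⁻¹) := by rw [rho_inv_mul, one_mul]
      _ = ρ a⁻¹ * (ρ a * ρ h) * ρ a⁻¹ := by simp only [mul_assoc]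
      _ = ρ a⁻¹ * (ρ h * ρ a) * ρ a⁻¹ := by rw [ha h]
      _ = ρ a⁻¹ * ρ h * (ρ a * ρ a⁻¹) := by simp only [mul_assoc]
      _ = ρ a⁻¹ * ρ h := by rw [rho_mul_inv, mul_one]

theorem mem_Zsub (ρ : P →* Module.End K V) (z : P) :
    z ∈ Zsub ρ ↔ ∀ h, ρ h * ρ z = ρ z * ρ h := Iff.rfl

theorem Zsub_normal (ρ : P →* Module.End K V) : (Zsub ρ).Normal := by
  constructor
  intro z hz g
  rw [mem_Zsub] at hz ⊢
  intro h
  have e : ρ (g * z * g⁻¹) = ρ z := by
    rw [map_mul, map_mul, hz g, mul_assoc, rho_mul_inv, mul_one]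
  rw [e]
  exact hz h

theorem exists_second_center [Finite P] (p : ℕ) [Fact p.Prime] (hP : IsPGroup p P)
    (ρ : P →* Module.End K V) (hne : Zsub ρ ≠ ⊤) :
    ∃ a : P, a ∉ Zsub ρ ∧ ∀ g : P, ⁅g, a⁆ ∈ Zsub ρ := by
  haveI := Zsub_normal ρ
  haveI : Nontrivial (P ⧸ Zsub ρ) := by
    obtain ⟨g, hg⟩ : ∃ g, g ∉ Zsub ρ := by
      by_contra hcon
      push Not at hcon
      exact hne (eq_top_iff.2 fun g _ => hcon g)
    refine ⟨⟨(g : P ⧸ Zsub ρ), 1, ?_⟩⟩
    intro e
    exact hg ((QuotientGroup.eq_one_iff g).1 e)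
  have hPq : IsPGroup p (P ⧸ Zsub ρ) := hP.to_quotient (Zsub ρ)
  haveI : Nontrivial (Subgroup.center (P ⧸ Zsub ρ)) := hPq.center_nontrivial
  obtain ⟨⟨c, hc⟩, hc1⟩ := exists_ne (1 : Subgroup.center (P ⧸ Zsub ρ))
  obtain ⟨a, rfl⟩ := QuotientGroup.mk_surjective c
  refine ⟨a, ?_, ?_⟩
  · intro ha
    apply hc1
    apply Subtype.ext
    exact (QuotientGroup.eq_one_iff a).2 ha
  · intro g
    rw [← QuotientGroup.eq_one_iff, commutatorElement_def]
    have h1 := Subgroup.mem_center_iff.1 hc (g : P ⧸ Zsub ρ)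
    rw [QuotientGroup.mk_mul, QuotientGroup.mk_mul, QuotientGroup.mk_mul, QuotientGroup.mk_inv,
      QuotientGroup.mk_inv, h1, mul_assoc ((a : P) : P ⧸ Zsub ρ), mul_inv_cancel, mul_one,
      mul_inv_cancel]

theorem scale_mul (ρ : P →* Module.End K V) (A : Module.End K V) (g h : P) (l l' : K)
    (hg : ρ g * A = l • (A * ρ g)) (hh : ρ h * A = l' • (A * ρ h)) :
    ρ (g * h) * A = (l * l') • (A * ρ (g * h)) := by
  rw [map_mul, mul_assoc, hh, mul_smul_comm, ← mul_assoc, hg, smul_mul_assoc, smul_smul,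
    mul_assoc, mul_comm l' l]

theorem scale_inv (ρ : P →* Module.End K V) (A : Module.End K V) (g : P) (l : K) (hl : l ≠ 0)
    (hg : ρ g * A = l • (A * ρ g)) : ρ g⁻¹ * A = l⁻¹ • (A * ρ g⁻¹) := by
  have h3 : A * ρ g⁻¹ = l • (ρ g⁻¹ * A) := by
    calc A * ρ g⁻¹ = ρ g⁻¹ * (ρ g * A) * ρ g⁻¹ := by rw [← mul_assoc, rho_inv_mul, one_mul]
      _ = ρ g⁻¹ * (l • (A * ρ g)) * ρ g⁻¹ := by rw [hg]
      _ = l • (ρ g⁻¹ * A * (ρ g * ρ g⁻¹)) := by
        simp only [mul_smul_comm, smul_mul_assoc, mul_assoc]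
      _ = l • (ρ g⁻¹ * A) := by rw [rho_mul_inv, mul_one]
  rw [h3, smul_smul, inv_mul_cancel₀ hl, one_smul]

/-- the centraliser of `ρ a` pulled back to `P` -/
def Msub (ρ : P →* Module.End K V) (a : P) : Subgroup P where
  carrier := {g | ρ g * ρ a = ρ a * ρ g}
  one_mem' := by
    change ρ 1 * ρ a = ρ a * ρ 1
    rw [map_one, mul_one, one_mul]
  mul_mem' := by
    intro g h hg hh
    have := scale_mul ρ (ρ a) g h 1 1 (by rw [one_smul]; exact hg) (by rw [one_smul]; exact hh)
    rw [one_mul, one_smul] at this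
    exact this
  inv_mem' := by
    intro g hg
    have := scale_inv ρ (ρ a) g 1 one_ne_zero (by rw [one_smul]; exact hg)
    rw [inv_one, one_smul] at this
    exact this

theorem mem_Msub (ρ : P →* Module.End K V) (a g : P) :
    g ∈ Msub ρ a ↔ ρ g * ρ a = ρ a * ρ g := Iff.rfl

theorem eig_map (ρ : P →* Module.End K V) (A : Module.End K V) (g : P) (l : K) (hl : l ≠ 0)
    (hg : ρ g * A = l • (A * ρ g)) (μ : K) (v : V) (hv : A v = μ • v) :
    A (ρ g v) = (l⁻¹ * μ) • ρ g v := by
  have := congrArg (fun f : Module.End K V => f v) hg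
  simp only [Module.End.mul_apply, LinearMap.smul_apply] at this
  rw [hv, map_smul] at this
  rw [mul_smul, this, smul_smul, inv_mul_cancel₀ hl, one_smul]

end Irred

section IrredClosed
variable {K : Type*} [Field K] [IsAlgClosed K] {V : Type*} [AddCommGroup V] [Module K V]
  [FiniteDimensional K V] [Nontrivial V]
variable {P : Type*} [Group P]

theorem schur (ρ : P →* Module.End K V) (hirr : Irr ρ) (z : Module.End K V)
    (hz : ∀ g, ρ g * z = z * ρ g) : ∃ μ : K, z = μ • (1 : Module.End K V) := by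
  obtain ⟨μ, hμ⟩ := Module.End.exists_eigenvalue z
  refine ⟨μ, ?_⟩
  have hE : Module.End.eigenspace z μ ≠ ⊥ := hμ
  have hinv : ∀ g, Module.End.eigenspace z μ ≤ (Module.End.eigenspace z μ).comap (ρ g) := by
    intro g v hv
    rw [Submodule.mem_comap, Module.End.mem_eigenspace_iff]
    rw [Module.End.mem_eigenspace_iff] at hv
    have := congrArg (fun f : Module.End K V => f v) (hz g)
    simp only [Module.End.mul_apply] at this
    rw [← this, hv, map_smul]
  rcases hirr _ hinv with h | h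
  · exact absurd h hE
  · apply LinearMap.ext
    intro v
    have hv : v ∈ Module.End.eigenspace z μ := by rw [h]; exact Submodule.mem_top
    rw [Module.End.mem_eigenspace_iff] at hv
    rw [hv, LinearMap.smul_apply, Module.End.one_apply]

theorem scale_exists (ρ : P →* Module.End K V) (hirr : Irr ρ) (a : P)
    (ha : ∀ g : P, ⁅g, a⁆ ∈ Zsub ρ) (g : P) :
    ∃ l : K, l ≠ 0 ∧ ρ g * ρ a = l • (ρ a * ρ g) := by
  obtain ⟨l, hl⟩ := schur ρ hirr (ρ ⁅g, a⁆) (ha g)
  refine ⟨l, ?_, ?_⟩
  · intro h0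
    rw [h0, zero_smul] at hl
    have h1 : ρ ⁅g, a⁆⁻¹ * ρ ⁅g, a⁆ = 1 := rho_inv_mul ρ _
    rw [hl, mul_zero] at h1
    obtain ⟨v, hv⟩ := exists_ne (0 : V)
    have := congrArg (fun f : Module.End K V => f v) h1
    simp only [LinearMap.zero_apply, Module.End.one_apply] at this
    exact hv this.symm
  · have e : g * a = ⁅g, a⁆ * (a * g) := by
      rw [commutatorElement_def]; group
    rw [← map_mul, e, map_mul, hl, smul_mul_assoc, one_mul, map_mul]

theorem derived_le_Msub (ρ : P →* Module.End K V) (hirr : Irr ρ) (a : P)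
    (ha : ∀ g : P, ⁅g, a⁆ ∈ Zsub ρ) : derivedSeries P 1 ≤ Msub ρ a := by
  rw [derivedSeries_one, commutator_def, Subgroup.commutator_le]
  intro g _ h _
  obtain ⟨l, hl0, hl⟩ := scale_exists ρ hirr a ha g
  obtain ⟨l', hl'0, hl'⟩ := scale_exists ρ hirr a ha h
  have h1 := scale_mul ρ (ρ a) g h l l' hl hl'
  have h2 := scale_inv ρ (ρ a) g l hl0 hl
  have h3 := scale_inv ρ (ρ a) h l' hl'0 hl'
  have h4 := scale_mul ρ (ρ a) (g * h) g⁻¹ _ _ h1 h2
  have h5 := scale_mul ρ (ρ a) (g * h * g⁻¹) h⁻¹ _ _ h4 h3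
  rw [commutatorElement_def, mem_Msub, h5]
  have : l * l' * l⁻¹ * l'⁻¹ = 1 := by field_simp
  rw [this, one_smul]

theorem iSup_eigenspace_top (ρ : P →* Module.End K V) (hirr : Irr ρ) (a : P)
    (ha : ∀ g : P, ⁅g, a⁆ ∈ Zsub ρ) : ⨆ μ : K, Module.End.eigenspace (ρ a) μ = ⊤ := by
  obtain ⟨μ₀, hμ₀⟩ := Module.End.exists_eigenvalue (ρ a)
  have hinv : ∀ g, (⨆ μ : K, Module.End.eigenspace (ρ a) μ)
      ≤ (⨆ μ : K, Module.End.eigenspace (ρ a) μ).comap (ρ g) := by
    intro g
    rw [← Submodule.map_le_iff_le_comap, Submodule.map_iSup]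
    apply iSup_le
    intro μ
    obtain ⟨l, hl0, hl⟩ := scale_exists ρ hirr a ha g
    refine le_trans ?_ (le_iSup _ (l⁻¹ * μ))
    rintro _ ⟨v, hv, rfl⟩
    rw [SetLike.mem_coe, Module.End.mem_eigenspace_iff] at hv
    rw [Module.End.mem_eigenspace_iff]
    exact eig_map ρ (ρ a) g l hl0 hl μ v hv
  rcases hirr _ hinv with h | h
  · exfalso
    apply hμ₀
    exact eq_bot_iff.2 (h ▸ le_iSup (fun μ : K => Module.End.eigenspace (ρ a) μ) μ₀)
  · exact h

theorem eig_dim_le (ρ : P →* Module.End K V) (hirr : Irr ρ) (a : P)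
    (ha : ∀ g : P, ⁅g, a⁆ ∈ Zsub ρ) (g₀ : P) (hg₀ : g₀ ∉ Msub ρ a) (μ : K) :
    2 * Module.finrank K (Module.End.eigenspace (ρ a) μ) ≤ Module.finrank K V := by
  by_cases hE : Module.End.eigenspace (ρ a) μ = ⊥
  · rw [hE, finrank_bot]
    omega
  obtain ⟨l, hl0, hl⟩ := scale_exists ρ hirr a ha g₀
  have hl1 : l ≠ 1 := by
    intro e
    apply hg₀
    rw [mem_Msub, hl, e, one_smul]
  obtain ⟨v, hvE, hv0⟩ := Submodule.exists_mem_ne_zero_of_ne_bot hE
  rw [Module.End.mem_eigenspace_iff] at hvE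
  have hμ0 : μ ≠ 0 := by
    intro e
    rw [e, zero_smul] at hvE
    apply hv0
    have := rho_inv_apply ρ a v
    rw [hvE, map_zero] at this
    exact this.symm
  have hne : l⁻¹ * μ ≠ μ := by
    intro e
    apply hl1
    have h1 : l⁻¹ = 1 := by
      have := mul_right_cancel₀ hμ0 (e.trans (one_mul μ).symm)
      exact this
    rw [← inv_inv l, h1, inv_one]
  have hdisj : Disjoint (Module.End.eigenspace (ρ a) μ) (Module.End.eigenspace (ρ a) (l⁻¹ * μ)) := by
    rw [Submodule.disjoint_def]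
    intro x hx hx'
    rw [Module.End.mem_eigenspace_iff] at hx hx'
    have h1 : (μ - l⁻¹ * μ) • x = 0 := by
      rw [sub_smul, ← hx, ← hx', sub_self]
    rcases smul_eq_zero.1 h1 with h | h
    · exact absurd (sub_eq_zero.1 h).symm hne
    · exact h
  have hmaps : ∀ x ∈ Module.End.eigenspace (ρ a) μ,
      ρ g₀ x ∈ Module.End.eigenspace (ρ a) (l⁻¹ * μ) := by
    intro x hx
    rw [Module.End.mem_eigenspace_iff] at hx ⊢
    exact eig_map ρ (ρ a) g₀ l hl0 hl μ x hx
  have hinj : Function.Injective ((ρ g₀).restrict hmaps) := by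
    intro x y hxy
    have h1 := congrArg Subtype.val hxy
    rw [LinearMap.restrict_coe_apply, LinearMap.restrict_coe_apply] at h1
    apply Subtype.ext
    have h2 := congrArg (ρ g₀⁻¹) h1
    rw [rho_inv_apply, rho_inv_apply] at h2
    exact h2
  have h1 := LinearMap.finrank_le_finrank_of_injective hinj
  have h2 := Submodule.finrank_add_finrank_le_of_disjoint hdisj
  omega

end IrredClosed

open scoped commutatorElement

universe u v

theorem finrank_sub_pos {K : Type*} [Field K] {V : Type*} [AddCommGroup V] [Module K V]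
    [FiniteDimensional K V] (W : Submodule K V) (hW : W ≠ ⊥) : 1 ≤ Module.finrank K W := by
  haveI : Nontrivial W := Submodule.nontrivial_iff_ne_bot.2 hW
  exact Module.finrank_pos

theorem main_ne (K : Type*) [Field K] [IsAlgClosed K] (p : ℕ) [Fact p.Prime] (hp : (p : K) ≠ 0) :
    ∀ n : ℕ, 1 ≤ n → ∀ (P : Type u) [Group P] [Finite P], IsPGroup p P →
      ∀ (V : Type v) [AddCommGroup V] [Module K V] [FiniteDimensional K V],
        Module.finrank K V = n → ∀ ρ : P →* Module.End K V,
          derivedSeries P (Nat.log 2 n + 1) ≤ ρ.ker := by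
  intro n
  induction n using Nat.strong_induction_on with
  | _ n ih =>
    intro hn P _ _ hP V _ _ _ hV ρ
    haveI : Nontrivial V := Module.finrank_pos_iff.1 (by rw [hV]; omega)
    by_cases hirr : Irr ρ
    · by_cases hZ : Zsub ρ = ⊤
      · have h1 : derivedSeries P 1 ≤ ρ.ker := by
          rw [derivedSeries_one, commutator_def, Subgroup.commutator_le]
          intro g _ h _
          rw [MonoidHom.mem_ker, commutatorElement_def, map_mul, map_mul, map_mul]
          have hg : g ∈ Zsub ρ := hZ ▸ Subgroup.mem_top g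
          have := (mem_Zsub ρ g).1 hg h
          rw [← this, mul_assoc (ρ h), rho_mul_inv, mul_one, rho_mul_inv]
        exact le_trans (derivedSeries_antitone P (by omega)) h1
      · obtain ⟨a, haZ, ha⟩ := exists_second_center p hP ρ hZ
        obtain ⟨g₀, hg₀⟩ : ∃ g₀, g₀ ∉ Msub ρ a := by
          by_contra hcon
          push Not at hcon
          apply haZ
          rw [mem_Zsub]
          intro h
          exact (mem_Msub ρ a h).1 (hcon h)
        have hdim := fun μ => eig_dim_le ρ hirr a ha g₀ hg₀ μ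
        have hM1 := derived_le_Msub ρ hirr a ha
        have key : ∀ m ∈ derivedSeries (Msub ρ a) (Nat.log 2 n), ρ (m : P) = 1 := by
          intro m hm
          have hle : ∀ μ : K, Module.End.eigenspace (ρ a) μ ≤ LinearMap.ker (ρ (m : P) - 1) := by
            intro μ
            by_cases hE : Module.End.eigenspace (ρ a) μ = ⊥
            · rw [hE]; exact bot_le
            · have hd1 : 1 ≤ Module.finrank K (Module.End.eigenspace (ρ a) μ) :=
                finrank_sub_pos _ hE
              have hd2 := hdim μ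
              rw [hV] at hd2
              have hinvE : ∀ g : Msub ρ a, Module.End.eigenspace (ρ a) μ
                  ≤ (Module.End.eigenspace (ρ a) μ).comap ((ρ.comp (Msub ρ a).subtype) g) := by
                intro g v hv
                rw [Submodule.mem_comap, Module.End.mem_eigenspace_iff]
                rw [Module.End.mem_eigenspace_iff] at hv
                have h1 := (mem_Msub ρ a g.1).1 g.2
                have h2 := congrArg (fun f : Module.End K V => f v) h1
                simp only [Module.End.mul_apply] at h2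
                change ρ a (ρ g.1 v) = μ • ρ g.1 v
                rw [← h2, hv, map_smul]
              have h3 := ih (Module.finrank K (Module.End.eigenspace (ρ a) μ)) (by omega) hd1
                (Msub ρ a) (hP.to_subgroup _) (Module.End.eigenspace (ρ a) μ) rfl
                (resRep (ρ.comp (Msub ρ a).subtype) _ hinvE)
              have hm' : m ∈ derivedSeries (Msub ρ a)
                  (Nat.log 2 (Module.finrank K (Module.End.eigenspace (ρ a) μ)) + 1) :=
                derivedSeries_antitone _ (log_half _ _ hd1 hd2) hm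
              have h4 := h3 hm'
              rw [MonoidHom.mem_ker] at h4
              intro v hv
              rw [LinearMap.mem_ker, LinearMap.sub_apply, Module.End.one_apply, sub_eq_zero]
              have h5 := congrArg (fun f : Module.End K (Module.End.eigenspace (ρ a) μ) =>
                ((f ⟨v, hv⟩ : Module.End.eigenspace (ρ a) μ) : V)) h4
              simp only [resRep_apply, Module.End.one_apply] at h5
              exact h5
          have htop : LinearMap.ker (ρ (m : P) - 1) = ⊤ := by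
            rw [eq_top_iff, ← iSup_eigenspace_top ρ hirr a ha]
            exact iSup_le hle
          apply LinearMap.ext
          intro v
          have hv : v ∈ LinearMap.ker (ρ (m : P) - 1) := by rw [htop]; exact Submodule.mem_top
          rw [LinearMap.mem_ker, LinearMap.sub_apply, sub_eq_zero] at hv
          exact hv
        have h5 := derived_succ_le_map (Msub ρ a) hM1 (Nat.log 2 n)
        intro g hg
        obtain ⟨m, hm, rfl⟩ := h5 hg
        rw [MonoidHom.mem_ker]
        exact key m hm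
    · unfold Irr at hirr
      push Not at hirr
      obtain ⟨W, hW, hWb, hWt⟩ := hirr
      have hw1 : 1 ≤ Module.finrank K W := finrank_sub_pos W hWb
      have hw2 : Module.finrank K W < n := hV ▸ Submodule.finrank_lt hWt
      have hq : Module.finrank K (V ⧸ W) + Module.finrank K W = n :=
        hV ▸ Submodule.finrank_quotient_add_finrank W
      have i1 := ih (Module.finrank K W) hw2 hw1 P hP W rfl (resRep ρ W hW)
      have i2 := ih (Module.finrank K (V ⧸ W)) (by omega) (by omega) P hP (V ⧸ W) rfl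
        (quotRep ρ W hW)
      intro g hg
      apply ker_of_res_quot p hp hP ρ W hW g
      · refine i1 (derivedSeries_antitone P ?_ hg)
        have := Nat.log_mono_right (b := 2) hw2.le
        omega
      · refine i2 (derivedSeries_antitone P ?_ hg)
        have := Nat.log_mono_right (b := 2) (show Module.finrank K (V ⧸ W) ≤ n by omega)
        omega

/-- the representation on `K^n` attached to a matrix representation over a subfield -/
noncomputable def matRep {P : Type*} [Group P] (F : Type*) [Field F] (K : Type*) [Field K]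
    [Algebra F K] (n : ℕ) (ρ : P →* Matrix.GeneralLinearGroup (Fin n) F) :
    P →* Module.End K (Fin n → K) :=
  ((Matrix.toLinAlgEquiv' (R := K) (n := Fin n)).toRingEquiv.toRingHom.toMonoidHom.comp
    ((RingHom.mapMatrix (algebraMap F K) : Matrix (Fin n) (Fin n) F →+* _).toMonoidHom.comp
      (Units.coeHom (Matrix (Fin n) (Fin n) F)))).comp ρ

theorem matRep_injective {P : Type*} [Group P] (F : Type*) [Field F] (K : Type*) [Field K]
    [Algebra F K] (n : ℕ) (ρ : P →* Matrix.GeneralLinearGroup (Fin n) F)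
    (hρ : Function.Injective ρ) : Function.Injective (matRep F K n ρ) := by
  intro g h hgh
  apply hρ
  apply Units.ext
  have h1 : (Matrix.toLinAlgEquiv' (R := K) (n := Fin n))
      ((ρ g).1.map (algebraMap F K)) = (Matrix.toLinAlgEquiv' (R := K) (n := Fin n))
      ((ρ h).1.map (algebraMap F K)) := hgh
  have h2 := (Matrix.toLinAlgEquiv' (R := K) (n := Fin n)).injective h1
  exact Matrix.map_injective (algebraMap F K).injective h2

/-- Let F be a field, n ≥ 1, and P a finite p-group (p a prime) admitting an injective homomorphism into the general linear group of degree n over F. Then the derived length of P is at most ⌊log₂ n⌋ + 1: that term of the derived series of P is trivial. -/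
theorem result {P : Type*} [Group P] [Finite P] (p : ℕ) [Fact p.Prime] (hP : IsPGroup p P) (F : Type*) [Field F] (n : ℕ) (hn : 1 ≤ n) (ρ : P →* Matrix.GeneralLinearGroup (Fin n) F) (hρ : Function.Injective ρ) : derivedSeries P (Nat.log 2 n + 1) = ⊥ := by
  have hinj := matRep_injective F (AlgebraicClosure F) n ρ hρ
  have hker : (matRep F (AlgebraicClosure F) n ρ).ker = ⊥ := (MonoidHom.ker_eq_bot_iff _).2 hinj
  have hfin : Module.finrank (AlgebraicClosure F) (Fin n → AlgebraicClosure F) = n :=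
    Module.finrank_fin_fun _
  rw [eq_bot_iff, ← hker]
  by_cases hp : ((p : ℕ) : AlgebraicClosure F) = 0
  · haveI : CharP (AlgebraicClosure F) p :=
      (CharP.charP_iff_prime_eq_zero (Fact.out : p.Prime)).2 hp
    apply charp_main p hP
    rw [hfin]
    exact (Nat.lt_pow_succ_log_self (by norm_num) n).le
  · exact main_ne (AlgebraicClosure F) p hp n hn P hP _ hfin _

end Cfsg.Agent.S4010
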