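import Cfsg.Statements.S2648
import Mathlib
import Cfsg.Agent.S4010
import Cfsg.Agent.Lib.Helper4.WreathC

set_option autoImplicit false
open Cfsg

namespace Cfsg.Agent.S2648

open Matrix Cfsg.Agent.Helper4.Wreath

section Embed
variable {F : Type*} [Field F] {n : ℕ}

/-- the block matrix of a family of `2 × 2` matrices -/
def dMat (a : Fin n → Matrix.SpecialLinearGroup (Fin 2) F) :
    Matrix (Fin n ⊕ Fin n) (Fin n ⊕ Fin n) F :=
  fromBlocks (diagonal fun i => (a i).1 0 0) (diagonal fun i => (a i).1 0 1)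
    (diagonal fun i => (a i).1 1 0) (diagonal fun i => (a i).1 1 1)

theorem dMat_mem (a : Fin n → Matrix.SpecialLinearGroup (Fin 2) F) :
    dMat a ∈ Matrix.symplecticGroup (Fin n) F := by
  unfold dMat
  rw [SymplecticGroup.fromBlocks_mem_iff]
  simp only [diagonal_transpose, diagonal_mul_diagonal]
  refine ⟨?_, ?_, ?_⟩
  · congr 1; funext i; ring
  · congr 1; funext i; ring
  · rw [diagonal_sub, ← diagonal_one]
    congr 1
    funext i
    have := (a i).2
    rw [Matrix.det_fin_two] at this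
    show (a i).1 0 0 * (a i).1 1 1 - (a i).1 1 0 * (a i).1 0 1 = 1
    linear_combination this

theorem dMat_mul (a b : Fin n → Matrix.SpecialLinearGroup (Fin 2) F) :
    dMat (a * b) = dMat a * dMat b := by
  unfold dMat
  rw [fromBlocks_multiply]
  simp only [diagonal_mul_diagonal, diagonal_add]
  congr 1 <;>
  · congr 1
    funext i
    simp [Matrix.mul_apply, Fin.sum_univ_two]

theorem dMat_one : dMat (1 : Fin n → Matrix.SpecialLinearGroup (Fin 2) F) = 1 := by
  unfold dMat
  simp [← fromBlocks_one]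

/-- the diagonal embedding of `SL₂(F)ⁿ` into `Sp₂ₙ(F)` -/
def dHom : (Fin n → Matrix.SpecialLinearGroup (Fin 2) F) →* Matrix.symplecticGroup (Fin n) F where
  toFun a := ⟨dMat a, dMat_mem a⟩
  map_one' := Subtype.ext dMat_one
  map_mul' a b := Subtype.ext (dMat_mul a b)

/-- the permutation matrix sending `e_j` to `e_{σ j}` -/
def pm (σ : Equiv.Perm (Fin n)) : Matrix (Fin n) (Fin n) F := (σ⁻¹).permMatrix F

theorem pm_apply (σ : Equiv.Perm (Fin n)) (i j : Fin n) :
    (pm σ : Matrix (Fin n) (Fin n) F) i j = if i = σ j then 1 else 0 := by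
  unfold pm
  rw [Equiv.Perm.permMatrix, PEquiv.toMatrix_apply]
  simp only [Equiv.toPEquiv_apply, Option.mem_def, Option.some.injEq]
  congr 1
  rw [Equiv.Perm.inv_def, Equiv.symm_apply_eq]

theorem pm_mul (σ τ : Equiv.Perm (Fin n)) : (pm (σ * τ) : Matrix (Fin n) (Fin n) F) = pm σ * pm τ := by
  unfold pm
  rw [_root_.mul_inv_rev, Matrix.permMatrix_mul]

theorem pm_one : (pm (1 : Equiv.Perm (Fin n)) : Matrix (Fin n) (Fin n) F) = 1 := by
  unfold pm
  rw [inv_one]
  exact Matrix.permMatrix_one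

theorem pm_transpose (σ : Equiv.Perm (Fin n)) :
    (pm σ : Matrix (Fin n) (Fin n) F)ᵀ = pm σ⁻¹ := by
  unfold pm
  rw [Matrix.transpose_permMatrix]

/-- the permutation matrices in `Sp₂ₙ(F)` -/
def pMat (σ : Equiv.Perm (Fin n)) : Matrix (Fin n ⊕ Fin n) (Fin n ⊕ Fin n) F :=
  fromBlocks (pm σ) 0 0 (pm σ)

theorem pMat_mem (σ : Equiv.Perm (Fin n)) :
    (pMat σ : Matrix (Fin n ⊕ Fin n) (Fin n ⊕ Fin n) F) ∈ Matrix.symplecticGroup (Fin n) F := by
  unfold pMat
  rw [SymplecticGroup.fromBlocks_mem_iff]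
  refine ⟨by simp, by simp, ?_⟩
  rw [pm_transpose, ← pm_mul, inv_mul_cancel, pm_one]
  simp

theorem pMat_mul (σ τ : Equiv.Perm (Fin n)) :
    (pMat (σ * τ) : Matrix (Fin n ⊕ Fin n) (Fin n ⊕ Fin n) F) = pMat σ * pMat τ := by
  unfold pMat
  rw [fromBlocks_multiply, pm_mul]
  simp

theorem pMat_one :
    (pMat (1 : Equiv.Perm (Fin n)) : Matrix (Fin n ⊕ Fin n) (Fin n ⊕ Fin n) F) = 1 := by
  unfold pMat
  rw [pm_one, fromBlocks_one]

/-- permutation matrices as a homomorphism -/
def pHom : Equiv.Perm (Fin n) →* Matrix.symplecticGroup (Fin n) F where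
  toFun σ := ⟨pMat σ, pMat_mem σ⟩
  map_one' := Subtype.ext pMat_one
  map_mul' σ τ := Subtype.ext (pMat_mul σ τ)

theorem pm_mul_diagonal (σ : Equiv.Perm (Fin n)) (d : Fin n → F) :
    (pm σ : Matrix (Fin n) (Fin n) F) * diagonal d = diagonal (fun i => d (σ.symm i)) * pm σ := by
  ext i j
  rw [Matrix.mul_diagonal, Matrix.diagonal_mul, pm_apply]
  by_cases h : i = σ j
  · rw [if_pos h, h, Equiv.symm_apply_apply, mul_comm]
  · rw [if_neg h, zero_mul, mul_zero]

theorem pMat_mul_dMat (σ : Equiv.Perm (Fin n)) (a : Fin n → Matrix.SpecialLinearGroup (Fin 2) F) :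
    pMat σ * dMat a = dMat (fun i => a (σ.symm i)) * pMat σ := by
  unfold pMat dMat
  rw [fromBlocks_multiply, fromBlocks_multiply]
  simp only [Matrix.zero_mul, Matrix.mul_zero, add_zero, zero_add, pm_mul_diagonal]

/-- the embedding of the wreath product -/
def psi : Wr (Fin n) (Matrix.SpecialLinearGroup (Fin 2) F) →* Matrix.symplecticGroup (Fin n) F :=
  SemidirectProduct.lift dHom pHom (by
    intro σ
    apply MonoidHom.ext
    intro a
    show dHom (permAut _ _ σ a) = pHom σ * dHom a * (pHom σ)⁻¹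
    rw [eq_mul_inv_iff_mul_eq]
    apply Subtype.ext
    exact (pMat_mul_dMat σ a).symm)

theorem psi_apply (w : Wr (Fin n) (Matrix.SpecialLinearGroup (Fin 2) F)) :
    ((psi w : Matrix.symplecticGroup (Fin n) F) : Matrix (Fin n ⊕ Fin n) (Fin n ⊕ Fin n) F)
      = dMat w.left * pMat w.right := rfl

theorem psi_injective : Function.Injective (psi (F := F) (n := n)) := by
  rw [injective_iff_map_eq_one]
  intro w hw
  have h1 : dMat w.left * pMat w.right = (1 : Matrix (Fin n ⊕ Fin n) (Fin n ⊕ Fin n) F) := by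
    rw [← psi_apply, hw]; rfl
  unfold dMat pMat at h1
  rw [fromBlocks_multiply, ← fromBlocks_one, fromBlocks_inj] at h1
  simp only [Matrix.mul_zero, add_zero, zero_add] at h1
  obtain ⟨h00, h01, h10, h11⟩ := h1
  -- the permutation is trivial
  have hσ : ∀ i, w.right i = i := by
    intro i
    by_contra hne
    have e1 := congrFun (congrFun h00 (w.right i)) i
    rw [Matrix.diagonal_mul, pm_apply, if_pos rfl, mul_one, Matrix.one_apply_ne hne] at e1
    have e2 := congrFun (congrFun h00 (w.right i)) (w.right i)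
    rw [Matrix.diagonal_mul, e1, zero_mul, Matrix.one_apply_eq] at e2
    exact zero_ne_one e2
  have hσ1 : w.right = 1 := Equiv.ext hσ
  rw [hσ1, pm_one, Matrix.mul_one] at h00 h01 h10 h11
  apply SemidirectProduct.ext
  · funext i
    apply Matrix.SpecialLinearGroup.ext
    intro x y
    have e00 := congrFun (congrFun h00 i) i
    have e01 := congrFun (congrFun h01 i) i
    have e10 := congrFun (congrFun h10 i) i
    have e11 := congrFun (congrFun h11 i) i
    rw [Matrix.diagonal_apply_eq] at e00 e01 e10 e11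
    rw [Matrix.one_apply_eq] at e00 e11
    rw [Matrix.zero_apply] at e01 e10
    fin_cases x <;> fin_cases y
    · simpa using e00
    · simpa using e01
    · simpa using e10
    · simpa using e11
  · exact hσ1

end Embed

open Matrix Cfsg.Agent.Helper4.Wreath
open scoped commutatorElement

section Quat
variable {F : Type*} [Field F]

theorem exists_sq_add_sq [Finite F] : ∃ a b : F, a ^ 2 + b ^ 2 = -1 := by
  obtain ⟨p, hp⟩ := CharP.exists F
  haveI := hp
  haveI : Fact p.Prime := ⟨CharP.char_is_prime F p⟩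
  obtain ⟨a, b, h⟩ := CharP.sq_add_sq F p (-1)
  exact ⟨a, b, by simpa using h⟩

theorem isPGroup_zpowers {X : Type*} [Group X] (p m : ℕ) (x : X) (h : x ^ (p ^ m) = 1) :
    IsPGroup p (Subgroup.zpowers x) := by
  rintro ⟨y, hy⟩
  obtain ⟨l, rfl⟩ := Subgroup.mem_zpowers_iff.1 hy
  refine ⟨m, Subtype.ext ?_⟩
  show (x ^ l) ^ p ^ m = 1
  rw [← zpow_natCast, ← _root_.zpow_mul, mul_comm, _root_.zpow_mul, zpow_natCast, h, _root_.one_zpow]

/-- the quaternion generators -/
def qi (a b : F) (h : a ^ 2 + b ^ 2 = -1) : Matrix.SpecialLinearGroup (Fin 2) F :=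
  ⟨!![a, b; b, -a], by rw [Matrix.det_fin_two_of]; linear_combination -h⟩

def qj : Matrix.SpecialLinearGroup (Fin 2) F :=
  ⟨!![0, -1; 1, 0], by rw [Matrix.det_fin_two_of]; ring⟩

theorem qi_pow_four (a b : F) (h : a ^ 2 + b ^ 2 = -1) : qi a b h ^ 4 = 1 := by
  apply Subtype.ext
  rw [Matrix.SpecialLinearGroup.coe_pow, Matrix.SpecialLinearGroup.coe_one]
  have h2 : (qi a b h).1 ^ 2 = -1 := by
    unfold qi
    rw [pow_two]
    ext x y
    fin_cases x <;> fin_cases y <;> simp [Matrix.mul_apply, Fin.sum_univ_two] <;>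
      first | ring1 | linear_combination h | linear_combination -h
  have : (qi a b h).1 ^ 4 = ((qi a b h).1 ^ 2) ^ 2 := by rw [← pow_mul]
  rw [this, h2]
  simp

theorem qj_pow_four : (qj : Matrix.SpecialLinearGroup (Fin 2) F) ^ 4 = 1 := by
  apply Subtype.ext
  rw [Matrix.SpecialLinearGroup.coe_pow, Matrix.SpecialLinearGroup.coe_one]
  have h2 : (qj : Matrix.SpecialLinearGroup (Fin 2) F).1 ^ 2 = -1 := by
    unfold qj
    rw [pow_two]
    ext x y
    fin_cases x <;> fin_cases y <;> simp [Matrix.mul_apply, Fin.sum_univ_two]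
  have : (qj : Matrix.SpecialLinearGroup (Fin 2) F).1 ^ 4
      = ((qj : Matrix.SpecialLinearGroup (Fin 2) F).1 ^ 2) ^ 2 := by rw [← pow_mul]
  rw [this, h2]
  simp

theorem qj_mul_qi (a b : F) (h : a ^ 2 + b ^ 2 = -1) :
    qj * qi a b h = (qi a b h) ^ 3 * qj := by
  apply Subtype.ext
  rw [Matrix.SpecialLinearGroup.coe_mul, Matrix.SpecialLinearGroup.coe_mul,
    Matrix.SpecialLinearGroup.coe_pow]
  have h2 : (qi a b h).1 ^ 2 = -1 := by
    unfold qi
    rw [pow_two]
    ext x y
    fin_cases x <;> fin_cases y <;> simp [Matrix.mul_apply, Fin.sum_univ_two] <;>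
      first | ring1 | linear_combination h | linear_combination -h
  have : (qi a b h).1 ^ 3 = -(qi a b h).1 := by
    rw [pow_succ, h2]; simp
  rw [this]
  unfold qi qj
  ext x y
  fin_cases x <;> fin_cases y <;> simp [Matrix.mul_apply, Fin.sum_univ_two]

theorem qi_qj_ne (h2 : (2 : F) ≠ 0) (a b : F) (h : a ^ 2 + b ^ 2 = -1) :
    qi a b h * qj ≠ qj * qi a b h := by
  intro e
  have e' := congrArg Subtype.val e
  rw [Matrix.SpecialLinearGroup.coe_mul, Matrix.SpecialLinearGroup.coe_mul] at e'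
  unfold qi qj at e'
  have e00 := congrFun (congrFun e' 0) 0
  have e01 := congrFun (congrFun e' 0) 1
  simp [Matrix.mul_apply, Fin.sum_univ_two] at e00 e01
  have hb : b = 0 := by
    have : (2 : F) * b = 0 := by linear_combination e00
    rcases mul_eq_zero.1 this with h' | h'
    · exact absurd h' h2
    · exact h'
  have ha : a = 0 := by
    have : (2 : F) * a = 0 := by linear_combination -e01
    rcases mul_eq_zero.1 this with h' | h'
    · exact absurd h' h2
    · exact h'
  rw [ha, hb] at h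
  have : (2 : F) = 0 := by linear_combination 2 * h
  exact h2 this

/-- a nonabelian `2`-subgroup of `SL₂(F)` -/
theorem exists_quat [Finite F] (h2 : (2 : F) ≠ 0) :
    ∃ Q : Subgroup (Matrix.SpecialLinearGroup (Fin 2) F), IsPGroup 2 Q ∧ Dsub Q 1 ≠ ⊥ := by
  obtain ⟨a, b, h⟩ := exists_sq_add_sq (F := F)
  have hi4 : qi a b h ^ (2 ^ 2) = 1 := qi_pow_four a b h
  have hj4 : (qj : Matrix.SpecialLinearGroup (Fin 2) F) ^ (2 ^ 2) = 1 := qj_pow_four
  have hinv : (qi a b h)⁻¹ = qi a b h ^ 3 := by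
    rw [inv_eq_iff_mul_eq_one, ← pow_succ']
    exact qi_pow_four a b h
  have hconj : MulAut.conj qj (qi a b h) = (qi a b h)⁻¹ := by
    rw [MulAut.conj_apply, mul_inv_eq_iff_eq_mul, hinv]
    exact qj_mul_qi a b h
  have hnorm : (qj : Matrix.SpecialLinearGroup (Fin 2) F)
      ∈ Subgroup.normalizer ((Subgroup.zpowers (qi a b h)) : Set _) := by
    apply mem_normalizer_of_map_eq
    rw [MonoidHom.map_zpowers]
    show Subgroup.zpowers (MulAut.conj qj (qi a b h)) = _
    rw [hconj, Subgroup.zpowers_inv]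
  refine ⟨Subgroup.zpowers qj ⊔ Subgroup.zpowers (qi a b h),
    IsPGroup.to_sup_of_normal_right' (isPGroup_zpowers 2 2 _ hj4) (isPGroup_zpowers 2 2 _ hi4)
      (Subgroup.zpowers_le.2 hnorm), ?_⟩
  intro hbot
  have hmem : ⁅qi a b h, qj⁆ ∈ Dsub (Subgroup.zpowers qj ⊔ Subgroup.zpowers (qi a b h)) 1 := by
    rw [Dsub_succ, Dsub_zero]
    exact Subgroup.commutator_mem_commutator
      (Subgroup.mem_sup_right (Subgroup.mem_zpowers _))
      (Subgroup.mem_sup_left (Subgroup.mem_zpowers _))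
  rw [hbot, Subgroup.mem_bot, commutatorElement_eq_one_iff_commute] at hmem
  exact qi_qj_ne h2 a b h hmem.eq

end Quat

open Matrix Cfsg.Agent.Helper4.Wreath
open scoped commutatorElement Pointwise

section Upper
variable {F : Type*} [Field F] {n : ℕ}

/-- the natural representation of a subgroup of `Sp₂ₙ(F)` over an extension field -/
noncomputable def natRep (K : Type*) [Field K] [Algebra F K]
    (R : Subgroup (Matrix.symplecticGroup (Fin n) F)) :
    R →* Module.End K (Fin n ⊕ Fin n → K) :=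
  ((Matrix.toLinAlgEquiv' (R := K) (n := Fin n ⊕ Fin n)).toRingEquiv.toRingHom.toMonoidHom.comp
    ((RingHom.mapMatrix (algebraMap F K) :
        Matrix (Fin n ⊕ Fin n) (Fin n ⊕ Fin n) F →+* _).toMonoidHom.comp
      (Matrix.symplecticGroup (Fin n) F).subtype)).comp R.subtype

theorem natRep_injective (K : Type*) [Field K] [Algebra F K]
    (R : Subgroup (Matrix.symplecticGroup (Fin n) F)) : Function.Injective (natRep K R) := by
  intro g h hgh
  apply Subtype.ext
  apply Subtype.ext
  have h1 : (Matrix.toLinAlgEquiv' (R := K) (n := Fin n ⊕ Fin n))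
      ((g.1.1).map (algebraMap F K)) = (Matrix.toLinAlgEquiv' (R := K) (n := Fin n ⊕ Fin n))
      ((h.1.1).map (algebraMap F K)) := hgh
  have h2 := (Matrix.toLinAlgEquiv' (R := K) (n := Fin n ⊕ Fin n)).injective h1
  exact Matrix.map_injective (algebraMap F K).injective h2

theorem two_ne_zero_of_odd [Fintype F] (hq : Odd (Fintype.card F)) : (2 : F) ≠ 0 := by
  intro h
  have h1 : ringChar F = 2 := by
    have hdvd : ringChar F ∣ 2 := by
      apply ringChar.dvd
      exact_mod_cast h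
    rcases (Nat.dvd_prime Nat.prime_two).1 hdvd with h' | h'
    · exact absurd h' (CharP.ringChar_ne_one)
    · exact h'
  have := FiniteField.even_card_of_char_two h1
  rw [Nat.odd_iff] at hq
  omega

theorem upper [Fintype F] (hq : Odd (Fintype.card F)) (hn : 1 ≤ n)
    (R : Subgroup (Matrix.symplecticGroup (Fin n) F)) (hR : IsPGroup 2 R) :
    derivedSeries R (Nat.log 2 (2 * n) + 1) = ⊥ := by
  have hinj := natRep_injective (AlgebraicClosure F) R
  have hker : (natRep (AlgebraicClosure F) R).ker = ⊥ := (MonoidHom.ker_eq_bot_iff _).2 hinj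
  have hfin : Module.finrank (AlgebraicClosure F) (Fin n ⊕ Fin n → AlgebraicClosure F) = 2 * n := by
    rw [Module.finrank_fintype_fun_eq_card, Fintype.card_sum, Fintype.card_fin]
    ring
  have h2 : ((2 : ℕ) : AlgebraicClosure F) ≠ 0 := by
    have := two_ne_zero_of_odd hq
    intro e
    apply this
    apply (algebraMap F (AlgebraicClosure F)).injective
    rw [map_zero, map_ofNat]
    exact_mod_cast e
  rw [eq_bot_iff, ← hker]
  exact Cfsg.Agent.S4010.main_ne (AlgebraicClosure F) 2 h2 (2 * n) (by omega) R hR _ hfin _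

end Upper

section Lower
variable {F : Type*} [Field F] [Fintype F] [DecidableEq F] {n : ℕ}

theorem lower (hq : Odd (Fintype.card F)) (hn : 1 ≤ n)
    (R : Sylow 2 (Matrix.symplecticGroup (Fin n) F)) :
    derivedSeries (R : Subgroup (Matrix.symplecticGroup (Fin n) F)) (Nat.log 2 (2 * n)) ≠ ⊥ := by
  have h2 := two_ne_zero_of_odd hq
  obtain ⟨Q, hQ, hQd⟩ := exists_quat (F := F) h2
  obtain ⟨k, hk⟩ : ∃ k, Nat.log 2 (2 * n) = k + 1 := by
    have : 1 ≤ Nat.log 2 (2 * n) := by
      have := Nat.log_mono_right (b := 2) (show 2 ≤ 2 * n by omega)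
      have h1 : Nat.log 2 2 = 1 := by
        rw [Nat.log_eq_iff (by norm_num)]; norm_num
      omega
    exact ⟨Nat.log 2 (2 * n) - 1, by omega⟩
  have hkn : 2 ^ k ≤ Fintype.card (Fin n) := by
    rw [Fintype.card_fin]
    have := Nat.pow_log_le_self 2 (show 2 * n ≠ 0 by omega)
    rw [hk, pow_succ] at this
    omega
  obtain ⟨T, hTp, hTd⟩ := exists_tower 2 Q hQ 1 hQd k hkn
  -- transport to the symplectic group
  have hT'p : IsPGroup 2 (T.map psi) := hTp.map _
  have hT'd : Dsub (T.map (psi (F := F) (n := n))) (1 + k) ≠ ⊥ :=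
    Dsub_map_ne_bot _ psi_injective T _ hTd
  obtain ⟨S, hS⟩ := hT'p.exists_le_sylow
  obtain ⟨g, hg⟩ := MulAction.exists_smul_eq (Matrix.symplecticGroup (Fin n) F) S R
  have hle : (T.map psi).map (MulAut.conj g).toMonoidHom ≤ (R : Subgroup _) := by
    rw [← hg, Sylow.coe_subgroup_smul]
    rintro _ ⟨x, hx, rfl⟩
    exact ⟨x, hS hx, rfl⟩
  have h3 : Dsub ((T.map psi).map (MulAut.conj g).toMonoidHom) (1 + k) ≠ ⊥ :=
    Dsub_map_ne_bot _ (MulAut.conj g).injective _ _ hT'd
  have h4 : Dsub (R : Subgroup (Matrix.symplecticGroup (Fin n) F)) (1 + k) ≠ ⊥ := by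
    intro e
    apply h3
    rw [eq_bot_iff, ← e]
    exact Dsub_mono hle _
  rw [hk, add_comm k 1, ← Dsub_ne_bot_iff]
  exact h4

end Lower

/-- Let q be odd, F a field with q elements and n ≥ 1. A Sylow 2-subgroup R of the symplectic group Sp_{2n}(F) has derived length exactly k + 1, where 2^k ≤ 2n < 2^{k+1}: the (k+1)-st term of its derived series is trivial and the k-th is not. -/
theorem result {F : Type*} [Field F] [Fintype F] [DecidableEq F] (q : ℕ) (hF : Fintype.card F = q) (hq : Odd q) (n : ℕ) (hn : 1 ≤ n) (R : Sylow 2 ↥(Matrix.symplecticGroup (Fin n) F)) : derivedSeries ↥(R : Subgroup ↥(Matrix.symplecticGroup (Fin n) F)) (Nat.log 2 (2 * n) + 1) = ⊥ ∧ derivedSeries ↥(R : Subgroup ↥(Matrix.symplecticGroup (Fin n) F)) (Nat.log 2 (2 * n)) ≠ ⊥ := by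
  subst hF
  exact ⟨upper hq hn _ R.isPGroup', lower hq hn R⟩

end Cfsg.Agent.S2648
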