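import Cfsg.Statements.S2250
import Mathlib
import Cfsg.Agent.S2648
import Cfsg.Agent.S0245
import Cfsg.Agent.S0242
import Cfsg.Agent.Lib.Helper5.Symp

set_option autoImplicit false
open Cfsg

namespace Cfsg.Agent.S2250

open Cfsg.Agent.S4010

universe u

section Bound
variable {F : Type*} [Field F] {E : Type*} [Group E] [Finite E]

theorem finrank_ge_two {V : Type*} [AddCommGroup V] [Module F V] [FiniteDimensional F V]
    [Nontrivial V] (B : V → V → F) (hsmul : ∀ (c : F) u v, B u (c • v) = c * B u v)
    (halt : ∀ v, B v v = 0) (hnd : ∀ v, (∀ w, B v w = 0) → v = 0) :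
    2 ≤ Module.finrank F V := by
  by_contra hlt
  have h1 : Module.finrank F V ≤ 1 := by omega
  obtain ⟨v₀, hv₀⟩ := finrank_le_one_iff.1 h1
  obtain ⟨v, hv⟩ := exists_ne (0 : V)
  apply hv
  apply hnd
  intro w
  obtain ⟨c₁, hc₁⟩ := hv₀ v
  obtain ⟨c₂, hc₂⟩ := hv₀ w
  have hc10 : c₁ ≠ 0 := by
    intro e
    rw [e, zero_smul] at hc₁
    exact hv hc₁.symm
  have hw : w = (c₂ * c₁⁻¹) • v := by
    rw [← hc₁, smul_smul, mul_assoc, inv_mul_cancel₀ hc10, mul_one, hc₂]
  rw [hw, hsmul, halt, mul_zero]

theorem ea_bound (h2 : (2 : F) ≠ 0) :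
    ∀ d : ℕ, ∀ (V : Type u) [AddCommGroup V] [Module F V] [FiniteDimensional F V],
      Module.finrank F V = d →
      ∀ (B : V → V → F), (∀ u v w, B u (v + w) = B u v + B u w) →
        (∀ (c : F) u v, B u (c • v) = c * B u v) → (∀ v, B v v = 0) →
        (∀ u v, B u v = -B v u) → (∀ v, (∀ w, B v w = 0) → v = 0) →
      ∀ ρ : E →* Module.End F V, (∀ e, ρ e * ρ e = 1) → (∀ e e', ρ e * ρ e' = ρ e' * ρ e) →
        (∀ e v w, B (ρ e v) (ρ e w) = B v w) →
        ρ.ker.index ≤ 2 ^ (d / 2) := by
  intro d
  induction d using Nat.strong_induction_on with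
  | _ d ih =>
    intro V _ _ _ hV B hadd hsmul halt hskew hnd ρ hsq hcomm hiso
    have hneg : ∀ u v, B u (-v) = -B u v := by
      intro u v
      have := hsmul (-1) u v
      rwa [neg_one_smul, neg_one_mul] at this
    by_cases hcase : ∀ e, ρ e = 1 ∨ ρ e = -1
    · -- the scalar case
      by_cases hker : ρ.ker = ⊤
      · rw [hker, Subgroup.index_top]
        exact Nat.one_le_two_pow
      · obtain ⟨e₀, he₀⟩ : ∃ e₀, e₀ ∉ ρ.ker := by
          by_contra hcon
          push Not at hcon
          exact hker (eq_top_iff.2 fun g _ => hcon g)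
        have he₀' : ρ e₀ = -1 := by
          rcases hcase e₀ with h | h
          · exact absurd (MonoidHom.mem_ker.2 h) he₀
          · exact h
        haveI : Nontrivial V := by
          by_contra hV'
          rw [not_nontrivial_iff_subsingleton] at hV'
          apply he₀
          rw [MonoidHom.mem_ker]
          apply LinearMap.ext
          intro v
          exact Subsingleton.elim _ _
        have hd2 : 2 ≤ d := hV ▸ finrank_ge_two B hsmul halt hnd
        have hinv : ρ e₀⁻¹ = -1 := by
          have h1 : ρ e₀⁻¹ * ρ e₀ = 1 := by rw [← map_mul, inv_mul_cancel, map_one]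
          rw [he₀'] at h1
          have : ρ e₀⁻¹ = -(ρ e₀⁻¹ * -1) := by rw [mul_neg, mul_one, neg_neg]
          rw [this, h1]
        have hidx : ρ.ker.index ≤ 2 := by
          have hsurj : Function.Surjective
              (fun i : Fin 2 => if i = 0 then (1 : E ⧸ ρ.ker) else (e₀ : E ⧸ ρ.ker)) := by
            intro x
            obtain ⟨e, rfl⟩ := QuotientGroup.mk_surjective x
            rcases hcase e with h | h
            · refine ⟨0, ?_⟩
              simp only [if_true]
              exact ((QuotientGroup.eq_one_iff e).2 (MonoidHom.mem_ker.2 h)).symm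
            · refine ⟨1, ?_⟩
              simp only [Fin.isValue, one_ne_zero, if_false]
              rw [QuotientGroup.eq, MonoidHom.mem_ker, map_mul, hinv, h, neg_mul_neg, one_mul]
          have := Nat.card_le_card_of_surjective _ hsurj
          rw [Nat.card_fin] at this
          exact this
        calc ρ.ker.index ≤ 2 := hidx
          _ = 2 ^ 1 := (pow_one 2).symm
          _ ≤ 2 ^ (d / 2) := Nat.pow_le_pow_right (by norm_num) (by omega)
    · push Not at hcase
      obtain ⟨a, ha1, ha2⟩ := hcase
      obtain ⟨A, hA⟩ : ∃ A, A = ρ a := ⟨_, rfl⟩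
      rw [← hA] at ha1 ha2
      have hAA : A * A = 1 := hA ▸ hsq a
      have hAAv : ∀ v, A (A v) = v := by
        intro v
        have := congrArg (fun f : Module.End F V => f v) hAA
        simpa using this
      have hAcomm : ∀ e, ρ e * A = A * ρ e := fun e => hA ▸ hcomm e a
      have hAiso : ∀ v w, B (A v) (A w) = B v w := fun v w => hA ▸ hiso a v w
      -- the eigenspaces
      obtain ⟨Vp, hVp⟩ : ∃ Vp, Vp = LinearMap.ker (A - 1) := ⟨_, rfl⟩
      obtain ⟨Vm, hVm⟩ : ∃ Vm, Vm = LinearMap.ker (A + 1) := ⟨_, rfl⟩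
      have memp : ∀ v, v ∈ Vp ↔ A v = v := by
        intro v
        rw [hVp, LinearMap.mem_ker, LinearMap.sub_apply, Module.End.one_apply, sub_eq_zero]
      have memm : ∀ v, v ∈ Vm ↔ A v = -v := by
        intro v
        rw [hVm, LinearMap.mem_ker, LinearMap.add_apply, Module.End.one_apply,
          add_eq_zero_iff_eq_neg]
      have hdec : ∀ v : V, ∃ x ∈ Vp, ∃ y ∈ Vm, x + y = v := by
        intro v
        refine ⟨(2 : F)⁻¹ • (v + A v), ?_, (2 : F)⁻¹ • (v - A v), ?_, ?_⟩
        · rw [memp, map_smul, map_add, hAAv, add_comm]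
        · rw [memm, map_smul, map_sub, hAAv, ← smul_neg, neg_sub]
        · rw [← smul_add, add_add_sub_cancel, ← two_smul F v, smul_smul, inv_mul_cancel₀ h2,
            one_smul]
      have hcompl : IsCompl Vp Vm := by
        constructor
        · rw [Submodule.disjoint_def]
          intro v hp hm
          rw [memp] at hp
          rw [memm] at hm
          have h3 : (2 : F) • v = 0 := by
            rw [two_smul]
            nth_rewrite 1 [← hp]
            rw [hm, neg_add_cancel]
          rcases smul_eq_zero.1 h3 with h | h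
          · exact absurd h h2
          · exact h
        · rw [codisjoint_iff, eq_top_iff]
          intro v _
          obtain ⟨x, hx, y, hy, rfl⟩ := hdec v
          exact Submodule.add_mem_sup hx hy
      have hVpt : Vp ≠ ⊤ := by
        intro e
        apply ha1
        apply LinearMap.ext
        intro v
        have : v ∈ Vp := e ▸ Submodule.mem_top
        rw [memp] at this
        rw [this, Module.End.one_apply]
      have hVmt : Vm ≠ ⊤ := by
        intro e
        apply ha2
        apply LinearMap.ext
        intro v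
        have : v ∈ Vm := e ▸ Submodule.mem_top
        rw [memm] at this
        rw [this, LinearMap.neg_apply, Module.End.one_apply]
      have hdp : Module.finrank F Vp < d := hV ▸ Submodule.finrank_lt hVpt
      have hdm : Module.finrank F Vm < d := hV ▸ Submodule.finrank_lt hVmt
      have hsum : Module.finrank F Vp + Module.finrank F Vm = d :=
        hV ▸ Submodule.finrank_add_eq_of_isCompl hcompl
      -- orthogonality
      have horth : ∀ x ∈ Vp, ∀ y ∈ Vm, B x y = 0 ∧ B y x = 0 := by
        intro x hx y hy
        rw [memp] at hx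
        rw [memm] at hy
        constructor
        · have h3 := hAiso x y
          rw [hx, hy, hneg] at h3
          have h4 : (2 : F) * B x y = 0 := by rw [two_mul]; nth_rewrite 1 [← h3]; ring
          rcases mul_eq_zero.1 h4 with h | h
          · exact absurd h h2
          · exact h
        · have h3 := hAiso x y
          rw [hx, hy, hneg] at h3
          have h4 : (2 : F) * B x y = 0 := by rw [two_mul]; nth_rewrite 1 [← h3]; ring
          rw [hskew y x]
          rcases mul_eq_zero.1 h4 with h | h
          · exact absurd h h2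
          · rw [h, neg_zero]
      -- invariance
      have hinvp : ∀ e, Vp ≤ Vp.comap (ρ e) := by
        intro e v hv
        rw [Submodule.mem_comap, memp]
        rw [memp] at hv
        have := congrArg (fun f : Module.End F V => f v) (hAcomm e)
        simp only [Module.End.mul_apply] at this
        rw [← this, hv]
      have hinvm : ∀ e, Vm ≤ Vm.comap (ρ e) := by
        intro e v hv
        rw [Submodule.mem_comap, memm]
        rw [memm] at hv
        have := congrArg (fun f : Module.End F V => f v) (hAcomm e)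
        simp only [Module.End.mul_apply] at this
        rw [← this, hv, map_neg]
      -- the restricted forms are nondegenerate
      have hndp : ∀ v : Vp, (∀ w : Vp, B v.1 w.1 = 0) → v = 0 := by
        intro v hv
        apply Subtype.ext
        apply hnd
        intro u
        obtain ⟨x, hx, y, hy, rfl⟩ := hdec u
        rw [hadd, hv ⟨x, hx⟩, (horth v.1 v.2 y hy).1, add_zero]
      have hndm : ∀ v : Vm, (∀ w : Vm, B v.1 w.1 = 0) → v = 0 := by
        intro v hv
        apply Subtype.ext
        apply hnd
        intro u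
        obtain ⟨x, hx, y, hy, rfl⟩ := hdec u
        rw [hadd, hv ⟨y, hy⟩, (horth x hx v.1 v.2).2, add_zero]
      have ip := ih _ hdp Vp rfl (fun v w => B v.1 w.1) (fun u v w => hadd u.1 v.1 w.1)
        (fun c u v => hsmul c u.1 v.1) (fun v => halt v.1) (fun u v => hskew u.1 v.1) hndp
        (resRep ρ Vp hinvp)
        (fun e => by
          apply LinearMap.ext
          intro w
          apply Subtype.ext
          have := congrArg (fun f : Module.End F V => f w.1) (hsq e)
          simpa [resRep_apply] using this)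
        (fun e e' => by
          apply LinearMap.ext
          intro w
          apply Subtype.ext
          have := congrArg (fun f : Module.End F V => f w.1) (hcomm e e')
          simpa [resRep_apply] using this)
        (fun e v w => hiso e v.1 w.1)
      have im := ih _ hdm Vm rfl (fun v w => B v.1 w.1) (fun u v w => hadd u.1 v.1 w.1)
        (fun c u v => hsmul c u.1 v.1) (fun v => halt v.1) (fun u v => hskew u.1 v.1) hndm
        (resRep ρ Vm hinvm)
        (fun e => by
          apply LinearMap.ext
          intro w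
          apply Subtype.ext
          have := congrArg (fun f : Module.End F V => f w.1) (hsq e)
          simpa [resRep_apply] using this)
        (fun e e' => by
          apply LinearMap.ext
          intro w
          apply Subtype.ext
          have := congrArg (fun f : Module.End F V => f w.1) (hcomm e e')
          simpa [resRep_apply] using this)
        (fun e v w => hiso e v.1 w.1)
      have hle : (resRep ρ Vp hinvp).ker ⊓ (resRep ρ Vm hinvm).ker ≤ ρ.ker := by
        intro e he
        obtain ⟨h1, h2'⟩ := Subgroup.mem_inf.1 he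
        rw [MonoidHom.mem_ker] at h1 h2' ⊢
        apply LinearMap.ext
        intro u
        obtain ⟨x, hx, y, hy, rfl⟩ := hdec u
        have e1 : ρ e x = x := by
          have := congrArg (fun f : Module.End F Vp => ((f ⟨x, hx⟩ : Vp) : V)) h1
          simpa [resRep_apply] using this
        have e2 : ρ e y = y := by
          have := congrArg (fun f : Module.End F Vm => ((f ⟨y, hy⟩ : Vm) : V)) h2'
          simpa [resRep_apply] using this
        rw [map_add, e1, e2, Module.End.one_apply]
      have h5 : ρ.ker.index ≤ ((resRep ρ Vp hinvp).ker ⊓ (resRep ρ Vm hinvm).ker).index :=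
        Nat.le_of_dvd (Nat.pos_of_ne_zero Subgroup.index_ne_zero_of_finite)
          (Subgroup.index_dvd_of_le hle)
      have h6 := Subgroup.index_inf_le (H := (resRep ρ Vp hinvp).ker) (K := (resRep ρ Vm hinvm).ker)
      calc ρ.ker.index ≤ _ := h5
        _ ≤ _ := h6
        _ ≤ 2 ^ (Module.finrank F Vp / 2) * 2 ^ (Module.finrank F Vm / 2) :=
            Nat.mul_le_mul ip im
        _ = 2 ^ (Module.finrank F Vp / 2 + Module.finrank F Vm / 2) := (pow_add _ _ _).symm
        _ ≤ 2 ^ (d / 2) := Nat.pow_le_pow_right (by norm_num) (by omega)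

end Bound

open Cfsg Cfsg.Agent.Lib.Helper5.Symp

section Upper
variable {F : Type*} [Field F] [Fintype F] {n : ℕ}

/-- the natural representation -/
noncomputable def vecRep (E : Subgroup (Matrix.symplecticGroup (Fin n) F)) :
    E →* Module.End F (Fin n ⊕ Fin n → F) :=
  (Matrix.toLinAlgEquiv' (R := F) (n := Fin n ⊕ Fin n)).toRingEquiv.toRingHom.toMonoidHom.comp
    ((Matrix.symplecticGroup (Fin n) F).subtype.comp E.subtype)

theorem vecRep_apply (E : Subgroup (Matrix.symplecticGroup (Fin n) F)) (g : E)
    (v : Fin n ⊕ Fin n → F) : vecRep E g v = Matrix.mulVec g.1.1 v := rfl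

theorem vecRep_injective (E : Subgroup (Matrix.symplecticGroup (Fin n) F)) :
    Function.Injective (vecRep E) := by
  intro g h hgh
  apply Subtype.ext
  apply Subtype.ext
  exact (Matrix.toLinAlgEquiv' (R := F) (n := Fin n ⊕ Fin n)).injective hgh

theorem card_le_of_elemAb (h2 : (2 : F) ≠ 0) (E : Subgroup (Matrix.symplecticGroup (Fin n) F))
    (hE : Cfsg.IsElementaryAbelian 2 E) : Nat.card E ≤ 2 ^ n := by
  classical
  have hfin : Module.finrank F (Fin n ⊕ Fin n → F) = 2 * n := by
    rw [Module.finrank_fintype_fun_eq_card, Fintype.card_sum, Fintype.card_fin]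
    ring
  have hker : (vecRep E).ker = ⊥ := (MonoidHom.ker_eq_bot_iff _).2 (vecRep_injective E)
  have key := ea_bound (E := E) h2 (2 * n) (Fin n ⊕ Fin n → F) hfin (sympForm n F)
    (fun u v w => sympForm_add_right n u v w) (fun c u v => sympForm_smul_right n c u v)
    (fun v => sympForm_self n v) (fun u v => sympForm_swap n u v)
    (fun v hv => by
      by_contra hne
      obtain ⟨x, hx⟩ := exists_sympForm_ne_zero n hne
      exact hx (hv x))
    (vecRep E)
    (fun e => by
      rw [← map_mul]
      have : e * e = 1 := by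
        apply Subtype.ext
        have := hE.2 e.1 e.2
        rw [pow_two] at this
        exact this
      rw [this, map_one])
    (fun e e' => by
      rw [← map_mul, ← map_mul]
      congr 1
      exact hE.1.is_comm.comm e e')
    (fun e v w => by
      rw [vecRep_apply, vecRep_apply]
      exact sympForm_of_mem n e.1.2 v w)
  rw [hker, Subgroup.index_bot, Nat.mul_div_cancel_left n (by norm_num)] at key
  exact key

end Upper

open Cfsg Cfsg.Agent.Helper4.Wreath Cfsg.Agent.S2648

section Orders
variable {F : Type*} [Field F] [Fintype F]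

local notation "SL2" => Matrix.SpecialLinearGroup (Fin 2) F

theorem card_SL2 :
    Nat.card SL2 = Fintype.card F * (Fintype.card F ^ 2 - 1) := by
  have := Cfsg.Agent.S0242.result (F := F) rfl 2 (by norm_num)
  rw [Fin.prod_univ_two] at this
  simp only [Fin.val_zero, pow_zero, Fin.val_one, pow_one] at this
  have hq : 1 < Fintype.card F := Fintype.one_lt_card
  obtain ⟨n, hn⟩ : ∃ n, Fintype.card F = n + 1 := ⟨Fintype.card F - 1, by omega⟩
  rw [hn] at this ⊢
  simp only [Nat.add_sub_cancel] at this
  have e2 : (n + 1) ^ 2 - (n + 1) = (n + 1) * n := by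
    have : (n + 1) ^ 2 = (n + 1) * n + (n + 1) := by ring
    rw [this, Nat.add_sub_cancel]
  rw [e2] at this
  have hpos : 0 < n := by omega
  apply Nat.eq_of_mul_eq_mul_left hpos
  rw [this]
  ring

variable (q : ℕ) (hq3 : 3 ≤ q) (hodd : Odd q)

include hq3 hodd in
theorem v2_term (i : ℕ) :
    padicValNat 2 (q ^ (2 * (i + 1)) - 1)
      = padicValNat 2 (q + 1) + padicValNat 2 (q - 1) + padicValNat 2 (i + 1) := by
  have h2q : ¬ 2 ∣ q := by
    rw [Nat.two_dvd_ne_zero]
    exact Nat.odd_iff.1 hodd
  have h1 := padicValNat.pow_two_sub_one (x := q) (n := 2 * (i + 1)) (by omega) h2q (by omega)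
    ⟨i + 1, by ring⟩
  have h3 : padicValNat 2 (2 * (i + 1)) = 1 + padicValNat 2 (i + 1) := by
    rw [padicValNat.mul (by norm_num) (by omega), padicValNat_self]
  omega

include hq3 hodd in
theorem v2_prod (n : ℕ) :
    padicValNat 2 (∏ i ∈ Finset.range n, (q ^ (2 * (i + 1)) - 1))
      = n * (padicValNat 2 (q + 1) + padicValNat 2 (q - 1)) + padicValNat 2 n.factorial := by
  induction n with
  | zero => simp
  | succ n ih =>
    have hpos : ∀ j, q ^ (2 * (j + 1)) - 1 ≠ 0 := by
      intro j
      have : 3 ^ (2 * (j + 1)) ≤ q ^ (2 * (j + 1)) := Nat.pow_le_pow_left hq3 _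
      have h3 : 1 < 3 ^ (2 * (j + 1)) := Nat.one_lt_pow (by omega) (by norm_num)
      omega
    rw [Finset.prod_range_succ, padicValNat.mul, ih, v2_term q hq3 hodd n, Nat.factorial_succ,
      padicValNat.mul (by omega) (Nat.factorial_ne_zero n)]
    · ring
    · exact Finset.prod_ne_zero_iff.mpr fun j _ => hpos j
    · exact hpos n

end Orders

section Sylow
variable {F : Type*} [Field F] [Fintype F] [DecidableEq F]

local notation "SL2" => Matrix.SpecialLinearGroup (Fin 2) F

instance finite_Wr {ι : Type*} {H : Type*} [Group H] [Finite ι] [Finite H] : Finite (Wr ι H) :=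
  Finite.of_equiv _ (SemidirectProduct.equivProd).symm

theorem v2_card_Sp (hodd : Odd (Fintype.card F)) (n : ℕ) :
    (Nat.card (Matrix.symplecticGroup (Fin n) F)).factorization 2
      = (Nat.card (Wr (Fin n) SL2)).factorization 2 := by
  have hq1 : 1 < Fintype.card F := Fintype.one_lt_card
  have hq3 : 3 ≤ Fintype.card F := by
    rcases hodd with ⟨k, hk⟩
    omega
  have h2q : ¬ 2 ∣ Fintype.card F := by
    rw [Nat.two_dvd_ne_zero]
    exact Nat.odd_iff.1 hodd
  have hposq : ∀ j, Fintype.card F ^ (2 * (j + 1)) - 1 ≠ 0 := by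
    intro j
    have : 3 ^ (2 * (j + 1)) ≤ Fintype.card F ^ (2 * (j + 1)) := Nat.pow_le_pow_left hq3 _
    have h3 : 1 < 3 ^ (2 * (j + 1)) := Nat.one_lt_pow (by omega) (by norm_num)
    omega
  rw [Nat.factorization_def _ Nat.prime_two, Nat.factorization_def _ Nat.prime_two,
    Cfsg.Agent.S0245.result rfl n, SemidirectProduct.card, Nat.card_fun, Nat.card_perm,
    Nat.card_eq_fintype_card (α := Fin n), Fintype.card_fin, card_SL2]
  have hsl : padicValNat 2 (Fintype.card F * (Fintype.card F ^ 2 - 1))
      = padicValNat 2 (Fintype.card F + 1) + padicValNat 2 (Fintype.card F - 1) := by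
    rw [padicValNat.mul (by omega) (by simpa using hposq 0),
      padicValNat.eq_zero_of_not_dvd h2q, zero_add]
    have := v2_term (Fintype.card F) hq3 hodd 0
    simpa using this
  rw [padicValNat.mul (pow_ne_zero _ (by omega))
      (Finset.prod_ne_zero_iff.mpr fun j _ => hposq j),
    padicValNat.pow, padicValNat.eq_zero_of_not_dvd h2q, mul_zero, zero_add,
    v2_prod _ hq3 hodd n,
    padicValNat.mul (pow_ne_zero _ (by
      have := hposq 0
      simp only [zero_add, mul_one] at this
      exact Nat.mul_ne_zero (by omega) this)) (Nat.factorial_ne_zero n),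
    padicValNat.pow, hsl]

/-- every Sylow `2`-subgroup of `Sp₂ₙ(F)` is conjugate to the image of one of the wreath product -/
theorem exists_conj (hodd : Odd (Fintype.card F)) (n : ℕ)
    (S : Sylow 2 (Matrix.symplecticGroup (Fin n) F))
    (SW : Sylow 2 (Wr (Fin n) SL2)) :
    ∃ g : Matrix.symplecticGroup (Fin n) F,
      (S : Subgroup (Matrix.symplecticGroup (Fin n) F))
        = ((SW : Subgroup (Wr (Fin n) SL2)).map psi).map (MulAut.conj g).toMonoidHom := by
  have hcard : Nat.card ((SW : Subgroup (Wr (Fin n) SL2)).map (psi (F := F) (n := n)))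
      = 2 ^ (Nat.card (Matrix.symplecticGroup (Fin n) F)).factorization 2 := by
    rw [Subgroup.card_map_of_injective psi_injective, SW.card_eq_multiplicity,
      v2_card_Sp hodd n]
  obtain ⟨g, hg⟩ := MulAction.exists_smul_eq (Matrix.symplecticGroup (Fin n) F)
    (Sylow.ofCard _ hcard) S
  refine ⟨g, ?_⟩
  rw [← hg, Sylow.coe_subgroup_smul]
  rfl

end Sylow

open Cfsg Cfsg.Agent.Helper4.Wreath Cfsg.Agent.S2648

section Transport

theorem transport {X Y : Type*} [Group X] [Group Y] (Φ : X →* Y) (hΦ : Function.Injective Φ)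
    (E₀ SW : Subgroup X) (hle : E₀ ≤ SW) (hn : E₀.Normal) (hE₀ : Cfsg.IsElementaryAbelian 2 E₀) :
    ∃ E : Subgroup ↥(SW.map Φ), E.Normal ∧ Cfsg.IsElementaryAbelian 2 E ∧
      Nat.card E = Nat.card E₀ := by
  have hle' : E₀.map Φ ≤ SW.map Φ := Subgroup.map_mono hle
  refine ⟨(E₀.map Φ).subgroupOf (SW.map Φ), ?_, ⟨?_, ?_⟩, ?_⟩
  · constructor
    rintro ⟨x, hx⟩ hxE ⟨s, hs⟩
    rw [Subgroup.mem_subgroupOf] at hxE ⊢
    obtain ⟨e, he, rfl⟩ := hxE
    obtain ⟨w, _, rfl⟩ := hs
    refine ⟨w * e * w⁻¹, hn.conj_mem e he w, ?_⟩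
    simp
  · constructor
    constructor
    rintro ⟨⟨a, ha⟩, haE⟩ ⟨⟨b, hb⟩, hbE⟩
    rw [Subgroup.mem_subgroupOf] at haE hbE
    obtain ⟨e, he, rfl⟩ := haE
    obtain ⟨e', he', rfl⟩ := hbE
    apply Subtype.ext
    apply Subtype.ext
    show Φ e * Φ e' = Φ e' * Φ e
    rw [← map_mul, ← map_mul]
    congr 1
    have := hE₀.1.is_comm.comm (⟨e, he⟩ : E₀) ⟨e', he'⟩
    exact congrArg Subtype.val this
  · rintro ⟨a, ha⟩ haE
    rw [Subgroup.mem_subgroupOf] at haE
    obtain ⟨e, he, rfl⟩ := haE
    apply Subtype.ext
    show Φ e ^ 2 = 1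
    rw [← map_pow, hE₀.2 e he, map_one]
  · rw [Nat.card_congr (Subgroup.subgroupOfEquivOfLe hle').toEquiv,
      Subgroup.card_map_of_injective hΦ]

end Transport

section Signs
variable {F : Type*} [Field F] {n : ℕ}

local notation "SL2" => Matrix.SpecialLinearGroup (Fin 2) F

/-- scalar sign matrices -/
def sg : ℤˣ →* SL2 where
  toFun u := ⟨Matrix.diagonal (fun _ => ((u : ℤ) : F)), by
    rw [Matrix.det_diagonal, Fin.prod_univ_two, ← Int.cast_mul, Int.units_coe_mul_self,
      Int.cast_one]⟩
  map_one' := by
    apply Subtype.ext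
    simp
  map_mul' u v := by
    apply Subtype.ext
    show Matrix.diagonal (fun _ => (((u * v : ℤˣ) : ℤ) : F))
      = Matrix.diagonal (fun _ => ((u : ℤ) : F)) * Matrix.diagonal (fun _ => ((v : ℤ) : F))
    rw [Matrix.diagonal_mul_diagonal]
    congr 1
    funext _
    push_cast
    rfl

theorem sg_central (u : ℤˣ) (a : SL2) : a * sg u = sg u * a := by
  apply Subtype.ext
  show a.1 * Matrix.diagonal (fun _ => ((u : ℤ) : F)) = Matrix.diagonal (fun _ => ((u : ℤ) : F)) * a.1
  ext i j
  rw [Matrix.mul_diagonal, Matrix.diagonal_mul, mul_comm]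

theorem sg_injective (h2 : (2 : F) ≠ 0) : Function.Injective (sg (F := F)) := by
  rw [injective_iff_map_eq_one]
  intro u hu
  rcases Int.units_eq_one_or u with h | h
  · exact h
  · exfalso
    have h1 := congrArg (fun m : SL2 => m.1 0 0) hu
    rw [h] at h1
    have h3 : (((-1 : ℤˣ) : ℤ) : F) = 1 := by
      have : (sg (F := F) (-1)).1 0 0 = (((-1 : ℤˣ) : ℤ) : F) := Matrix.diagonal_apply_eq _ _
      rw [← this]
      exact h1
    apply h2
    have : (-1 : F) = 1 := by simpa using h3
    linear_combination -this

/-- the diagonal sign subgroup of the wreath product -/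
def sgPi (n : ℕ) : (Fin n → ℤˣ) →* Wr (Fin n) SL2 where
  toFun ε := SemidirectProduct.inl (fun i => sg (ε i))
  map_one' := by
    rw [← map_one (SemidirectProduct.inl)]
    congr 1
    funext i
    simp
  map_mul' ε ε' := by
    rw [← map_mul (SemidirectProduct.inl)]
    congr 1
    funext i
    simp

theorem sgPi_injective (h2 : (2 : F) ≠ 0) : Function.Injective (sgPi (F := F) n) := by
  intro ε ε' h
  have h1 := SemidirectProduct.inl_injective h
  funext i
  exact sg_injective h2 (congrFun h1 i)

theorem sgPi_normal : ((sgPi (F := F) n).range).Normal := by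
  constructor
  rintro _ ⟨ε, rfl⟩ w
  refine ⟨fun i => ε (w.right.symm i), ?_⟩
  apply SemidirectProduct.ext
  · funext i
    have hr : (sgPi (F := F) n ε).right = 1 := rfl
    have hl : (sgPi (F := F) n ε).left = fun i => sg (ε i) := rfl
    show sg (ε (w.right.symm i)) = (w * sgPi n ε * w⁻¹).left i
    simp only [SemidirectProduct.mul_left, SemidirectProduct.inv_left, Pi.mul_apply,
      permAut_apply, SemidirectProduct.mul_right, hr, hl, mul_one, Pi.inv_apply,
      Equiv.Perm.inv_def, Equiv.symm_symm, Equiv.apply_symm_apply]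
    rw [sg_central, mul_assoc, mul_inv_cancel, mul_one]
  · show (1 : Equiv.Perm (Fin n)) = (w * sgPi n ε * w⁻¹).right
    rw [SemidirectProduct.mul_right, SemidirectProduct.mul_right, SemidirectProduct.inv_right]
    have : (sgPi (F := F) n ε).right = 1 := rfl
    rw [this, mul_one, mul_inv_cancel]

theorem sgPi_elemAb : Cfsg.IsElementaryAbelian 2 (sgPi (F := F) n).range := by
  constructor
  · constructor
    constructor
    rintro ⟨_, ⟨ε, rfl⟩⟩ ⟨_, ⟨ε', rfl⟩⟩
    apply Subtype.ext
    show sgPi n ε * sgPi n ε' = sgPi n ε' * sgPi n ε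
    rw [← map_mul, ← map_mul, mul_comm]
  · rintro _ ⟨ε, rfl⟩
    rw [← map_pow]
    have : ε ^ 2 = 1 := by
      funext i
      rw [Pi.pow_apply, Pi.one_apply, Int.units_sq]
    rw [this, map_one]

theorem sgPi_card (h2 : (2 : F) ≠ 0) : Nat.card (sgPi (F := F) n).range = 2 ^ n := by
  rw [Nat.card_congr (MonoidHom.ofInjective (sgPi_injective h2)).toEquiv.symm, Nat.card_fun,
    Nat.card_eq_fintype_card, Nat.card_eq_fintype_card, Fintype.card_units_int, Fintype.card_fin]

end Signs


/-- The normal 2-rank of the symplectic group over a finite field of odd order: for n ≥ 1 and S a Sylow 2-subgroup of Sp_{2n}(F), the largest rank of an elementary abelian subgroup of S that is normal in S equals n. -/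
theorem result {F : Type*} [Field F] [Fintype F] (hF : Odd (Fintype.card F)) (n : ℕ) (hn : 1 ≤ n) (S : Sylow 2 ↥(Matrix.symplecticGroup (Fin n) F)) :
    ((∃ E : Subgroup ↥(S : Subgroup ↥(Matrix.symplecticGroup (Fin n) F)), E.Normal ∧ Cfsg.IsElementaryAbelian 2 E ∧ 2 ^ (n) ≤ Nat.card ↥E) ∧
      ∀ E : Subgroup ↥(S : Subgroup ↥(Matrix.symplecticGroup (Fin n) F)), E.Normal → Cfsg.IsElementaryAbelian 2 E → Nat.card ↥E ≤ 2 ^ (n)) := by
  classical
  have h2 : (2 : F) ≠ 0 := two_ne_zero_of_odd hF
  constructor
  · obtain ⟨SW⟩ : Nonempty (Sylow 2 (Wr (Fin n) (Matrix.SpecialLinearGroup (Fin 2) F))) :=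
      inferInstance
    obtain ⟨g, hg⟩ := exists_conj hF n S SW
    rw [Subgroup.map_map] at hg
    have hp : IsPGroup 2 (sgPi (F := F) n).range :=
      IsPGroup.of_card (sgPi_card h2)
    haveI := sgPi_normal (F := F) (n := n)
    have hle := hp.le_sylow_of_normal SW
    obtain ⟨E, hE1, hE2, hE3⟩ := transport ((MulAut.conj g).toMonoidHom.comp psi)
      ((MulAut.conj g).injective.comp psi_injective) _ _ hle (sgPi_normal) sgPi_elemAb
    rw [hg]
    exact ⟨E, hE1, hE2, by rw [hE3, sgPi_card h2]⟩
  · intro E _ hE
    -- push `E` forward to the symplectic group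
    have hE' : Cfsg.IsElementaryAbelian 2 (E.map (S : Subgroup (Matrix.symplecticGroup (Fin n) F)).subtype) := by
      constructor
      · constructor
        constructor
        rintro ⟨_, ⟨a, ha, rfl⟩⟩ ⟨_, ⟨b, hb, rfl⟩⟩
        apply Subtype.ext
        show (a : Matrix.symplecticGroup (Fin n) F) * b = b * a
        have := hE.1.is_comm.comm (⟨a, ha⟩ : E) ⟨b, hb⟩
        have h3 := congrArg (fun x : E => ((x : S) : Matrix.symplecticGroup (Fin n) F)) this
        exact h3
      · rintro _ ⟨a, ha, rfl⟩
        have := hE.2 a ha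
        have h3 := congrArg (fun x : S => (x : Matrix.symplecticGroup (Fin n) F)) this
        exact h3
    have := card_le_of_elemAb h2 _ hE'
    rwa [Subgroup.card_map_of_injective (Subgroup.subtype_injective _)] at this

end Cfsg.Agent.S2250
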