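import Cfsg.Statements.S2617
import Mathlib
import Cfsg.Agent.S0289
import Cfsg.Agent.S0290

set_option autoImplicit false

namespace Cfsg.Agent.S2617

/-- anisotropy of `z₁² + z₁z₂ + ζ z₂²` from rootlessness of `t² + t + ζ`. -/
theorem aniso_of_rootless {F : Type*} [Field F] {ζ : F} (hζ : ∀ t : F, t ^ 2 + t + ζ ≠ 0)
    (z₁ z₂ : F) (h : z₁ ^ 2 + 1 * z₁ * z₂ + ζ * z₂ ^ 2 = 0) : z₁ = 0 ∧ z₂ = 0 := by
  have hb : z₂ = 0 := by
    by_contra hb
    apply hζ (z₁ / z₂)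
    field_simp
    linear_combination h
  subst hb
  refine ⟨?_, rfl⟩
  have : z₁ ^ 2 = 0 := by linear_combination h
  exact pow_eq_zero_iff (by norm_num) |>.1 this

/-- the zero counts of the two forms differ. -/
theorem counts_ne {q m : ℕ} (hq : 2 ≤ q) (hm : 1 ≤ m) :
    q ^ (2 * m - 1) + q ^ m - q ^ (m - 1) ≠ q ^ (2 * m - 1) + q ^ (m - 1) - q ^ m := by
  obtain ⟨k, rfl⟩ : ∃ k, m = k + 1 := ⟨m - 1, by omega⟩
  simp only [Nat.add_sub_cancel]
  have h1 : q ^ k < q ^ (k + 1) := Nat.pow_lt_pow_right (by omega) (by omega)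
  omega

/-- The two standard quadratic forms of even dimension 2m over a finite field are not isometric: there is no linear isomorphism carrying the elliptic form Σ_(i<m−1) x_i y_i + z₁² + z₁z₂ + ζ z₂² (t² + t + ζ without roots) to the hyperbolic form Σ_(i<m) x_i y_i (they have different Witt index). -/
theorem result {F : Type*} [Field F] [Finite F] {m : ℕ} (hm : 1 ≤ m) (ζ : F) (hζ : ∀ t : F, t ^ 2 + t + ζ ≠ 0) (g : (Fin m ⊕ Fin m → F) ≃ₗ[F] ((Fin (m - 1) ⊕ Fin (m - 1)) ⊕ Fin 2 → F)) : ¬ (∀ v : Fin m ⊕ Fin m → F, Cfsg.quadFormMinus (m - 1) F 1 ζ (g v) = Cfsg.quadFormPlus m F v) := by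
  classical
  have := Fintype.ofFinite F
  intro h
  have hq : 2 ≤ Fintype.card F := Fintype.one_lt_card
  have h1 := Cfsg.Agent.S0289.result (F := F) rfl m hm
  have h2 := Cfsg.Agent.S0290.result (F := F) rfl m hm 1 ζ (aniso_of_rootless hζ)
  have e : {v : Fin m ⊕ Fin m → F // Cfsg.quadFormPlus m F v = 0} ≃
      {v : (Fin (m - 1) ⊕ Fin (m - 1)) ⊕ Fin 2 → F // Cfsg.quadFormMinus (m - 1) F 1 ζ v = 0} :=
    Equiv.subtypeEquiv g.toEquiv (fun v => by
      rw [← h v]; rfl)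
  rw [Nat.card_congr e, h2] at h1
  exact counts_ne hq hm h1.symm

end Cfsg.Agent.S2617
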