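import Mathlib
import Cfsg.Statements.S5357
import Cfsg.Agent.Lib.Helper8.Reflection

set_option autoImplicit false
open Cfsg

namespace Cfsg.Agent.S5357

open Matrix QuadraticMap Cfsg.Agent.Lib.Helper8.Reflection

section Exists

variable {F : Type*} [Field F] {n : ℕ} (Q : QuadraticForm F (Fin n → F))

/-- the Gram–Schmidt projection away from an orthogonal family -/
noncomputable def proj {k : ℕ} (s : Fin k → (Fin n → F)) (y : Fin n → F) : Fin n → F :=
  y - ∑ i, ((polar (⇑Q) (s i) (s i))⁻¹ * polar (⇑Q) (s i) y) • s i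

theorem polar_proj (h2 : (2 : F) ≠ 0) {k : ℕ} (s : Fin k → (Fin n → F))
    (horth : ∀ i j, i ≠ j → polar (⇑Q) (s i) (s j) = 0) (hs : ∀ i, Q (s i) ≠ 0)
    (y : Fin n → F) (j : Fin k) : polar (⇑Q) (s j) (proj Q s y) = 0 := by
  unfold proj
  rw [polar_sub_right]
  have h1 : polar (⇑Q) (s j) (∑ i, ((polar (⇑Q) (s i) (s i))⁻¹ * polar (⇑Q) (s i) y) • s i) =
      ∑ i, ((polar (⇑Q) (s i) (s i))⁻¹ * polar (⇑Q) (s i) y) * polar (⇑Q) (s j) (s i) := by
    rw [show polar (⇑Q) (s j) (∑ i, ((polar (⇑Q) (s i) (s i))⁻¹ * polar (⇑Q) (s i) y) • s i) =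
      polarBilin Q (s j) (∑ i, ((polar (⇑Q) (s i) (s i))⁻¹ * polar (⇑Q) (s i) y) • s i) from rfl,
      map_sum]
    refine Finset.sum_congr rfl (fun i _ => ?_)
    rw [map_smul, smul_eq_mul]
    rfl
  rw [h1, Finset.sum_eq_single j]
  · have hjj : polar (⇑Q) (s j) (s j) ≠ 0 := by
      rw [polar_self]
      simp only [nsmul_eq_mul, Nat.cast_ofNat]
      exact mul_ne_zero h2 (hs j)
    field_simp
    ring
  · intro i _ hij
    rw [horth j i (Ne.symm hij), mul_zero]
  · intro h; exact absurd (Finset.mem_univ j) h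

theorem sub_proj_mem {k : ℕ} (s : Fin k → (Fin n → F)) (y : Fin n → F) :
    y - proj Q s y ∈ Submodule.span F (Set.range s) := by
  unfold proj
  rw [sub_sub_cancel]
  exact Submodule.sum_mem _ (fun i _ => Submodule.smul_mem _ _ (Submodule.subset_span ⟨i, rfl⟩))

theorem polar_span_eq_zero {k : ℕ} (s : Fin k → (Fin n → F)) (w : Fin n → F)
    (hw : ∀ i, polar (⇑Q) (s i) w = 0) (z : Fin n → F)
    (hz : z ∈ Submodule.span F (Set.range s)) : polar (⇑Q) w z = 0 := by
  induction hz using Submodule.span_induction with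
  | mem x hx =>
    obtain ⟨i, rfl⟩ := hx
    rw [polar_comm]; exact hw i
  | zero => exact polar_zero_right _ _
  | add x y _ _ hx hy => rw [polar_add_right, hx, hy, add_zero]
  | smul a x _ hx => rw [polar_smul_right, hx, smul_zero]

theorem exists_anisotropic_orthogonal (h2 : (2 : F) ≠ 0) (hQ : (polarBilin Q).Nondegenerate)
    (k : ℕ) (hk : k < n) (s : Fin k → (Fin n → F))
    (horth : ∀ i j, i ≠ j → polar (⇑Q) (s i) (s j) = 0) (hs : ∀ i, Q (s i) ≠ 0) :
    ∃ x, Q x ≠ 0 ∧ ∀ i, polar (⇑Q) (s i) x = 0 := by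
  by_contra hcon
  have hall : ∀ x, (∀ i, polar (⇑Q) (s i) x = 0) → Q x = 0 := by
    intro x hx
    by_contra h
    exact hcon ⟨x, h, hx⟩
  -- a vector outside the span
  have hne : Submodule.span F (Set.range s) ≠ ⊤ := by
    intro htop
    have h1 : Module.finrank F (Submodule.span F (Set.range s)) ≤ k := by
      have := finrank_range_le_card (R := F) s
      rw [Fintype.card_fin] at this
      exact this
    rw [htop, finrank_top, Module.finrank_fintype_fun_eq_card, Fintype.card_fin] at h1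
    omega
  obtain ⟨y, hy⟩ : ∃ y, y ∉ Submodule.span F (Set.range s) := by
    by_contra h
    apply hne
    rw [eq_top_iff]
    intro y _
    by_contra hy
    exact h ⟨y, hy⟩
  set w := proj Q s y with hw
  have hw0 : w ≠ 0 := by
    intro h0
    apply hy
    have := sub_proj_mem Q s y
    rwa [← hw, h0, sub_zero] at this
  have hworth : ∀ i, polar (⇑Q) (s i) w = 0 := fun i => polar_proj Q h2 s horth hs y i
  apply hw0
  apply hQ.1 w
  intro z
  show polar (⇑Q) w z = 0
  have hz : z = proj Q s z + (z - proj Q s z) := by abel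
  rw [hz, polar_add_right, polar_span_eq_zero Q s w hworth _ (sub_proj_mem Q s z), add_zero]
  have hzorth : ∀ i, polar (⇑Q) (s i) (proj Q s z) = 0 := fun i => polar_proj Q h2 s horth hs z i
  unfold polar
  rw [hall _ hworth, hall _ hzorth, hall]
  · ring
  · intro i
    rw [polar_add_right, hworth, hzorth, add_zero]

end Exists

section F3

variable {n : ℕ} (Q : QuadraticForm (ZMod 3) (Fin n → ZMod 3))

theorem val_cases (a c : ZMod 3) (ha : a ≠ 0) (hc : c ≠ 0) : a = c ∨ a = -c := by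
  revert a c; decide

theorem two_ne_zero3 : (2 : ZMod 3) ≠ 0 := by decide

theorem eps_cases (b c : ZMod 3) (hb : b ≠ 0) (hc : c ≠ 0) :
    (c⁻¹ * b = 1 ∨ c⁻¹ * b = -1) := by
  rcases val_cases b c hb hc with h | h
  · left; rw [h, inv_mul_cancel₀ hc]
  · right; rw [h, mul_neg, inv_mul_cancel₀ hc]

theorem exists_norm (hQ : (polarBilin Q).Nondegenerate) (c : ZMod 3) (hc : c ≠ 0)
    (k : ℕ) (hk : k + 1 < n) (s : Fin k → (Fin n → ZMod 3))
    (horth : ∀ i j, i ≠ j → polar (⇑Q) (s i) (s j) = 0) (hs : ∀ i, Q (s i) ≠ 0) :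
    ∃ x, Q x = c ∧ ∀ i, polar (⇑Q) (s i) x = 0 := by
  obtain ⟨x₁, hx₁, hx₁o⟩ := exists_anisotropic_orthogonal Q two_ne_zero3 hQ k (by omega) s horth hs
  rcases val_cases (Q x₁) c hx₁ hc with h | h
  · exact ⟨x₁, h, hx₁o⟩
  · -- extend the family
    let s' : Fin (k + 1) → (Fin n → ZMod 3) := Fin.snoc (α := fun _ => (Fin n → ZMod 3)) s x₁
    have hs'c : ∀ i : Fin k, s' i.castSucc = s i := fun i => by simp [s']
    have hs'l : s' (Fin.last k) = x₁ := by simp [s']
    have horth' : ∀ i j, i ≠ j → polar (⇑Q) (s' i) (s' j) = 0 := by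
      intro i j
      refine Fin.lastCases ?_ (fun i' => ?_) i <;> refine Fin.lastCases ?_ (fun j' => ?_) j <;>
        intro hij
      · exact absurd rfl hij
      · rw [hs'l, hs'c, polar_comm]; exact hx₁o j'
      · rw [hs'l, hs'c]; exact hx₁o i'
      · rw [hs'c, hs'c]
        exact horth i' j' (fun h => hij (by rw [h]))
    have hs' : ∀ i, Q (s' i) ≠ 0 := by
      intro i
      refine Fin.lastCases ?_ (fun i' => ?_) i
      · rw [hs'l]; exact hx₁
      · rw [hs'c]; exact hs i'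
    obtain ⟨x₂, hx₂, hx₂o⟩ :=
      exists_anisotropic_orthogonal Q two_ne_zero3 hQ (k + 1) hk s' horth' hs'
    have hx₂s : ∀ i, polar (⇑Q) (s i) x₂ = 0 := fun i => by
      have := hx₂o i.castSucc; rwa [hs'c] at this
    have hx₁x₂ : polar (⇑Q) x₁ x₂ = 0 := by
      have := hx₂o (Fin.last k); rwa [hs'l] at this
    rcases val_cases (Q x₂) c hx₂ hc with h' | h'
    · exact ⟨x₂, h', hx₂s⟩
    · refine ⟨x₁ + x₂, ?_, fun i => ?_⟩
      · rw [QuadraticMap.map_add (⇑Q) x₁ x₂, h, h', hx₁x₂]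
        have : ∀ c : ZMod 3, -c + -c + 0 = c := by decide
        exact this c
      · rw [polar_add_right, hx₁o, hx₂s, add_zero]

end F3

section Grp

variable {n : ℕ} (Q : QuadraticForm (ZMod 3) (Fin n → ZMod 3)) (c : ZMod 3) (hc : c ≠ 0)

/-- orthogonal reflections commute -/
theorem refl_comm_of_orth (u v : Fin n → ZMod 3) (hu : Q u ≠ 0) (hv : Q v ≠ 0)
    (huv : polar (⇑Q) u v = 0) :
    refl Q u hu * refl Q v hv * refl Q u hu = refl Q v hv := by
  have h1 := conj_refl Q (refl Q u hu) v hv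
  rw [refl_inv] at h1
  rw [h1]
  apply isometryGroup_ext
  rw [refl_val, refl_val]
  congr 1
  rw [reflectionMatrix_mulVec, huv, mul_zero, zero_smul, sub_zero]

include hc in
/-- the braid relation for non-orthogonal reflections of the same norm -/
theorem refl_braid (u v : Fin n → ZMod 3) (hu : Q u = c) (hv : Q v = c)
    (huv : polar (⇑Q) u v ≠ 0) :
    refl Q u (hu ▸ hc) * refl Q v (hv ▸ hc) * refl Q u (hu ▸ hc) =
      refl Q v (hv ▸ hc) * refl Q u (hu ▸ hc) * refl Q v (hv ▸ hc) := by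
  have h1 := conj_refl Q (refl Q u (hu ▸ hc)) v (hv ▸ hc)
  have h2 := conj_refl Q (refl Q v (hv ▸ hc)) u (hu ▸ hc)
  rw [refl_inv] at h1 h2
  rw [h1, h2]
  have e1 : ((refl Q u (hu ▸ hc) : isometryGroup (ZMod 3) (⇑Q)) : GL (Fin n) (ZMod 3)).1 *ᵥ v =
      v - (c⁻¹ * polar (⇑Q) u v) • u := by rw [refl_apply, hu]
  have e2 : ((refl Q v (hv ▸ hc) : isometryGroup (ZMod 3) (⇑Q)) : GL (Fin n) (ZMod 3)).1 *ᵥ u =
      u - (c⁻¹ * polar (⇑Q) u v) • v := by rw [refl_apply, hv, polar_comm]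
  rcases eps_cases (polar (⇑Q) u v) c huv hc with he | he
  · refine refl_congr Q _ _ _ _ (-1) (by decide) ?_
    rw [e1, e2, he]
    simp only [one_smul, neg_smul, neg_sub]
  · refine refl_congr Q _ _ _ _ 1 one_ne_zero ?_
    rw [e1, e2, he]
    simp only [one_smul, neg_smul, sub_neg_eq_add]
    abel

end Grp

section Abstract

variable {G : Type*} [Group G]

theorem sq_of_comm (a b : G) (hb : b * b = 1) (h : a * b * a = b) :
    (a * b) ^ 2 = 1 := by
  rw [pow_two]
  calc a * b * (a * b) = (a * b * a) * b := by group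
    _ = b * b := by rw [h]
    _ = 1 := hb

theorem cube_of_braid (a b : G) (ha : a * a = 1) (hb : b * b = 1) (h : a * b * a = b * a * b) :
    (a * b) ^ 3 = 1 := by
  rw [pow_succ, pow_two]
  calc a * b * (a * b) * (a * b) = (a * b * a) * (b * a * b) := by group
    _ = (b * a * b) * (b * a * b) := by rw [h]
    _ = b * a * (b * b) * a * b := by group
    _ = b * (a * a) * b := by rw [hb]; group
    _ = 1 := by rw [ha, mul_one, hb]

theorem conj_of_braid (a b : G) (ha : a * a = 1) (hb : b * b = 1) (h : a * b * a = b * a * b) :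
    (a * b) * a * (a * b)⁻¹ = b := by
  have hainv : a⁻¹ = a := inv_eq_of_mul_eq_one_left ha
  have hbinv : b⁻¹ = b := inv_eq_of_mul_eq_one_left hb
  rw [_root_.mul_inv_rev, hainv, hbinv]
  calc a * b * a * (b * a) = (a * b * a) * b * a := by group
    _ = b * a * b * b * a := by rw [h]
    _ = b * a * (b * b) * a := by group
    _ = b * (a * a) := by rw [hb]; group
    _ = b := by rw [ha, mul_one]

end Abstract

section Final

variable {n : ℕ} (Q : QuadraticForm (ZMod 3) (Fin n → ZMod 3)) (c : ZMod 3) (hc : c ≠ 0)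

include hc in
theorem refl_mem (v : Fin n → ZMod 3) (hv : Q v = c) :
    refl Q v (hv ▸ hc) ∈ reflectionSubgroup (⇑Q) c :=
  Subgroup.subset_closure ((mem_reflectionsOfNorm_iff Q c hc _).mpr ⟨v, hv, rfl⟩)

/-- the reflection as an element of the reflection subgroup -/
noncomputable def ρ (v : Fin n → ZMod 3) (hv : Q v = c) : ↥(reflectionSubgroup (⇑Q) c) :=
  ⟨refl Q v (hv ▸ hc), refl_mem Q c hc v hv⟩

theorem ρ_mul_self (v : Fin n → ZMod 3) (hv : Q v = c) : ρ Q c hc v hv * ρ Q c hc v hv = 1 :=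
  Subtype.ext (refl_mul_self Q v (hv ▸ hc))

theorem ρ_ne_one (v : Fin n → ZMod 3) (hv : Q v = c) : ρ Q c hc v hv ≠ 1 := by
  intro h
  have h1 : refl Q v (hv ▸ hc) = 1 := congrArg Subtype.val h
  have h2 : ((refl Q v (hv ▸ hc) : isometryGroup (ZMod 3) (⇑Q)) : GL (Fin n) (ZMod 3)).1 *ᵥ v = v := by
    rw [h1]; simp
  rw [refl_apply, polar_self, hv] at h2
  have h3 : (c⁻¹ * (2 • c)) • v = 0 := by
    have := sub_eq_self.mp h2
    exact this
  have h4 : c⁻¹ * (2 • c) = 2 := by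
    rw [nsmul_eq_mul, Nat.cast_ofNat]; field_simp
  rw [h4] at h3
  have hv0 : v = 0 := by
    rcases smul_eq_zero.mp h3 with h | h
    · exact absurd h (by decide)
    · exact h
  rw [hv0, QuadraticMap.map_zero] at hv
  exact hc hv.symm

theorem ρ_pair (u v : Fin n → ZMod 3) (hu : Q u = c) (hv : Q v = c) :
    (ρ Q c hc u hu * ρ Q c hc v hv) ^ 2 = 1 ∨ (ρ Q c hc u hu * ρ Q c hc v hv) ^ 3 = 1 := by
  by_cases huv : polar (⇑Q) u v = 0
  · left
    apply sq_of_comm _ _ (ρ_mul_self Q c hc v hv)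
    exact Subtype.ext (refl_comm_of_orth Q u v (hu ▸ hc) (hv ▸ hc) huv)
  · right
    apply cube_of_braid _ _ (ρ_mul_self Q c hc u hu) (ρ_mul_self Q c hc v hv)
    exact Subtype.ext (refl_braid Q c hc u v hu hv huv)

theorem ρ_conj_of_ne (u v : Fin n → ZMod 3) (hu : Q u = c) (hv : Q v = c)
    (huv : polar (⇑Q) u v ≠ 0) :
    ∃ h : ↥(reflectionSubgroup (⇑Q) c), h * ρ Q c hc u hu * h⁻¹ = ρ Q c hc v hv :=
  ⟨ρ Q c hc u hu * ρ Q c hc v hv,
    conj_of_braid _ _ (ρ_mul_self Q c hc u hu) (ρ_mul_self Q c hc v hv)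
      (Subtype.ext (refl_braid Q c hc u v hu hv huv))⟩

theorem ρ_conj (hn : 5 ≤ n) (hQ : (polarBilin Q).Nondegenerate)
    (u v : Fin n → ZMod 3) (hu : Q u = c) (hv : Q v = c) :
    ∃ h : ↥(reflectionSubgroup (⇑Q) c), h * ρ Q c hc u hu * h⁻¹ = ρ Q c hc v hv := by
  by_cases huv : polar (⇑Q) u v = 0
  · have horth : ∀ i j : Fin 2, i ≠ j → polar (⇑Q) (![u, v] i) (![u, v] j) = 0 := by
      intro i j hij
      fin_cases i <;> fin_cases j
      · exact absurd rfl hij
      · exact huv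
      · show polar (⇑Q) v u = 0
        rw [polar_comm]; exact huv
      · exact absurd rfl hij
    have hs : ∀ i : Fin 2, Q (![u, v] i) ≠ 0 := by
      intro i
      fin_cases i
      · show Q u ≠ 0
        rw [hu]; exact hc
      · show Q v ≠ 0
        rw [hv]; exact hc
    obtain ⟨z, hz, hzo⟩ := exists_norm Q hQ (-c) (neg_ne_zero.mpr hc) 2 (by omega) ![u, v] horth hs
    have hzu : polar (⇑Q) u z = 0 := hzo 0
    have hzv : polar (⇑Q) v z = 0 := hzo 1
    have hvu : polar (⇑Q) v u = 0 := by rw [polar_comm]; exact huv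
    have hw : Q (u + v + z) = c := by
      rw [QuadraticMap.map_add (⇑Q) (u + v) z, QuadraticMap.map_add (⇑Q) u v, hu, hv, hz, huv,
        polar_add_left, hzu, hzv]
      ring
    have h2c : (2 : ℕ) • c ≠ 0 := by
      rw [nsmul_eq_mul, Nat.cast_ofNat]
      exact mul_ne_zero (by decide) hc
    have huw : polar (⇑Q) u (u + v + z) ≠ 0 := by
      rw [polar_add_right, polar_add_right, huv, hzu, polar_self, hu, add_zero, add_zero]
      exact h2c
    have hwv : polar (⇑Q) (u + v + z) v ≠ 0 := by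
      rw [polar_comm, polar_add_right, polar_add_right, hvu, hzv, polar_self, hv, zero_add,
        add_zero]
      exact h2c
    obtain ⟨h₁, hh₁⟩ := ρ_conj_of_ne Q c hc u (u + v + z) hu hw huw
    obtain ⟨h₂, hh₂⟩ := ρ_conj_of_ne Q c hc (u + v + z) v hw hv hwv
    refine ⟨h₂ * h₁, ?_⟩
    rw [← hh₂, ← hh₁]
    group
  · exact ρ_conj_of_ne Q c hc u v hu hv huv

end Final

/-- Let Q be a non-degenerate quadratic form on the n-dimensional coordinate space over the field with three elements, n ≥ 5, and c a non-zero scalar. In the subgroup of the isometry group of Q generated by the reflections in vectors v with Q(v) = c, these reflections form a single conjugacy class of 3-transpositions generating that subgroup. -/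
theorem result (n : ℕ) (hn : 5 ≤ n) (Q : QuadraticForm (ZMod 3) (Fin n → ZMod 3)) (hQ : (QuadraticMap.polarBilin Q).Nondegenerate) (c : ZMod 3) (hc : c ≠ 0) : Cfsg.IsThreeTranspositionClass {g : ↥(Cfsg.reflectionSubgroup (⇑Q) c) | (g : ↥(Cfsg.isometryGroup (ZMod 3) (⇑Q))) ∈ Cfsg.reflectionsOfNorm (⇑Q) c} := by
  have hD : ∀ g : ↥(reflectionSubgroup (⇑Q) c),
      g ∈ {g : ↥(Cfsg.reflectionSubgroup (⇑Q) c) |
        (g : ↥(Cfsg.isometryGroup (ZMod 3) (⇑Q))) ∈ Cfsg.reflectionsOfNorm (⇑Q) c} ↔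
      ∃ (v : Fin n → ZMod 3) (hv : Q v = c), g = ρ Q c hc v hv := by
    intro g
    show (g : ↥(Cfsg.isometryGroup (ZMod 3) (⇑Q))) ∈ Cfsg.reflectionsOfNorm (⇑Q) c ↔ _
    rw [mem_reflectionsOfNorm_iff Q c hc]
    constructor
    · rintro ⟨v, hv, h⟩
      exact ⟨v, hv, Subtype.ext h⟩
    · rintro ⟨v, hv, rfl⟩
      exact ⟨v, hv, rfl⟩
  refine ⟨⟨?_, ?_⟩, ?_, ?_⟩
  · intro d hd
    obtain ⟨v, hv, rfl⟩ := (hD d).mp hd
    apply orderOf_eq_prime
    · rw [pow_two]; exact ρ_mul_self Q c hc v hv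
    · exact ρ_ne_one Q c hc v hv
  · intro d hd e he
    obtain ⟨u, hu, rfl⟩ := (hD d).mp hd
    obtain ⟨v, hv, rfl⟩ := (hD e).mp he
    exact ρ_pair Q c hc u v hu hv
  · obtain ⟨v₀, hv₀, -⟩ := exists_norm Q hQ c hc 0 (by omega) Fin.elim0
      (fun i => i.elim0) (fun i => i.elim0)
    refine ⟨ρ Q c hc v₀ hv₀, (hD _).mpr ⟨v₀, hv₀, rfl⟩, ?_⟩
    ext g
    rw [hD]
    show _ ↔ IsConj (ρ Q c hc v₀ hv₀) g
    rw [isConj_iff]
    constructor
    · rintro ⟨v, hv, rfl⟩
      exact ρ_conj Q c hc hn hQ v₀ v hv₀ hv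
    · rintro ⟨h, rfl⟩
      refine ⟨((h : isometryGroup (ZMod 3) (⇑Q)) : GL (Fin n) (ZMod 3)).1 *ᵥ v₀, ?_, ?_⟩
      · rw [isometry_apply]; exact hv₀
      · apply Subtype.ext
        exact conj_refl Q (h : isometryGroup (ZMod 3) (⇑Q)) v₀ (hv₀ ▸ hc)
  · exact Subgroup.closure_closure_coe_preimage

end Cfsg.Agent.S5357
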