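import Mathlib
import Cfsg.Statements.S0914
import Cfsg.Agent.Lib.helper3.ProjVanish6
import Cfsg.Agent.Lib.helper3.BlockBasic
import Cfsg.Agent.Lib.helper3.BlockIdem2
import Cfsg.Agent.Lib.helper3.Degrees
import Cfsg.Agent.Lib.helper3.Irr11
import Cfsg.Agent.Lib.helper3.Irr13
import Cfsg.Agent.Lib.helper3.Lin

set_option autoImplicit false
open Cfsg

namespace Cfsg.Agent.S0914

open Cfsg.Agent.Lib.helper3.Block Cfsg.Agent.Lib.helper3.LocalM Cfsg.Agent.Lib.helper3.Central
open Cfsg.Agent.Lib.helper3.Irr Cfsg.Agent.Lib.helper3.Lin Cfsg.Agent.Lib.helper3.CharBasic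
set_option linter.style.haveILetI false

/-- Let χ be an irreducible character of the finite group G, p a prime and M a maximal ideal of the algebraic integers containing p. Then p does not divide the integer (Nat.card G) / χ(1) if and only if the block of χ relative to M consists of χ alone. -/
theorem result {G : Type*} [Group G] [Finite G] (p : ℕ) [Fact p.Prime] (M : Ideal Cfsg.AlgInt) (hM : Cfsg.IsPModular p M) (χ : Cfsg.IrrCharacter G) : ¬ p ∣ Nat.card G / Cfsg.charDegree (χ : G → ℂ) ↔ Cfsg.blockOf M (χ : G → ℂ) = {χ} := by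
  classical
  letI : Fintype G := Fintype.ofFinite G
  haveI hMp := isPrime_of_isPModular hM
  have hMtop : M ≠ ⊤ := hM.2.1.ne_top
  have hp : p.Prime := hM.1
  obtain ⟨d, hd, hdvd, hpos⟩ := irr_degree_dvd_card χ.2
  have hcd : Cfsg.charDegree (χ : G → ℂ) = d := by
    unfold Cfsg.charDegree
    rw [hd, Complex.natCast_re, Nat.floor_natCast]
  rw [hcd]
  have hχmem : χ ∈ Cfsg.blockOf M (χ : G → ℂ) := sameBlock_refl hMtop _
  have hχc := isCharacter_of_isIrrCharacter χ.2
  have hG0 : (Nat.card G : ℂ) ≠ 0 := by
    have : Nat.card G ≠ 0 := Nat.card_pos.ne'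
    exact_mod_cast this
  have hd0 : (d : ℂ) ≠ 0 := by
    have : d ≠ 0 := hpos.ne'
    exact_mod_cast this
  constructor
  · intro hp'
    apply Set.Subset.antisymm
    · apply union_of_blocks hM {χ} ?_ χ rfl
      intro g
      have h1 : Cfsg.blockCoeff ({χ} : Set (Cfsg.IrrCharacter G)) g
          = (χ : G → ℂ) g⁻¹ / ((Nat.card G / d : ℕ) : ℂ) := by
        unfold Cfsg.blockCoeff
        rw [finsum_mem_singleton, isCharacter_apply_inv hχc, hd, Nat.cast_div hdvd hd0]
        field_simp
      rw [h1]
      refine ⟨⟨_, isIntegral_of_isCharacter hχc g⁻¹⟩, ((Nat.card G / d : ℕ) : Cfsg.AlgInt), ?_, ?_⟩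
      · rw [natCast_mem_iff hM]
        exact hp'
      · simp
    · rintro ψ rfl
      exact hχmem
  · intro hB hdiv
    have hS : ∀ θ ∈ ({χ} : Set (Cfsg.IrrCharacter G)),
        Cfsg.blockOf M (θ : G → ℂ) ⊆ ({χ} : Set (Cfsg.IrrCharacter G)) := by
      intro θ hθ
      rw [Set.mem_singleton_iff] at hθ
      rw [hθ, hB]
    have hvan : ∀ y : G, p ∣ orderOf y → (χ : G → ℂ) y = 0 := by
      intro y hy
      have h1 := weak_block_orthogonality hM {χ} hS 1 y
        (by rw [orderOf_one]; exact hp.one_lt.ne' ∘ Nat.dvd_one.mp) hy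
      rw [Finset.sum_eq_single χ] at h1
      · rw [if_pos (Set.mem_singleton χ), one_mul, hd] at h1
        rcases mul_eq_zero.mp h1 with h | h
        · exact absurd h hd0
        · simpa using h
      · intro φ _ hne
        rw [if_neg (by simpa using hne), zero_mul]
      · intro h
        exact absurd (Finset.mem_univ _) h
    obtain ⟨n, ρ, hirr, hρ⟩ := χ.2
    obtain ⟨P⟩ : Nonempty (Sylow p G) := inferInstance
    letI : Fintype (P : Subgroup G) := Fintype.ofFinite _
    have h2 := classInner_restrict_one ρ (P : Subgroup G)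
    rw [Cfsg.Agent.Lib.helper3.IndFun.classInner_apply] at h2
    have h3 : ∑ g : (P : Subgroup G), ρ.character (g : G) * (starRingEnd ℂ) 1 = (d : ℂ) := by
      rw [Finset.sum_eq_single (1 : (P : Subgroup G))]
      · rw [map_one, mul_one, Subgroup.coe_one, hρ, hd]
      · intro h _ hne
        have hy : p ∣ orderOf (h : G) := by
          obtain ⟨k, hk⟩ := (P.2 h)
          have hk' : (h : G) ^ p ^ k = 1 := by
            have := congrArg Subtype.val hk
            simpa using this
          obtain ⟨j, hj, hj'⟩ := (Nat.dvd_prime_pow hp).mp (orderOf_dvd_of_pow_eq_one hk')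
          rw [hj']
          rcases Nat.eq_zero_or_pos j with h0 | h0
          · exfalso
            rw [h0, pow_zero, orderOf_eq_one_iff] at hj'
            exact hne (Subtype.ext hj')
          · exact dvd_pow_self p h0.ne'
        rw [hρ, hvan _ hy, zero_mul]
      · intro h
        exact absurd (Finset.mem_univ _) h
    rw [h3] at h2
    have hP0 : (Nat.card (P : Subgroup G) : ℂ) ≠ 0 := by
      have : Nat.card (P : Subgroup G) ≠ 0 := Nat.card_pos.ne'
      exact_mod_cast this
    have h4 : d = Nat.card (P : Subgroup G)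
        * Module.finrank ℂ (Representation.invariants (ρ.comp (P : Subgroup G).subtype)) := by
      have : (d : ℂ) = (Nat.card (P : Subgroup G) : ℂ)
          * (Module.finrank ℂ (Representation.invariants (ρ.comp (P : Subgroup G).subtype)) : ℂ) := by
        rw [← h2]
        field_simp
      exact_mod_cast this
    have h5 : p ^ (Nat.card G).factorization p ∣ d := by
      rw [← Sylow.card_eq_multiplicity P]
      exact Dvd.intro _ h4.symm
    have h6 : p ^ ((Nat.card G).factorization p + 1) ∣ Nat.card G := by
      have h7 := mul_dvd_mul h5 hdiv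
      rw [Nat.mul_div_cancel' hdvd] at h7
      rw [pow_succ]
      exact h7
    exact Nat.pow_succ_factorization_not_dvd Nat.card_pos.ne' hp h6

end Cfsg.Agent.S0914
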