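import Cfsg.Statements.S0765
import Mathlib
import Cfsg.Agent.Lib.Helper5.Symp

set_option autoImplicit false
open Cfsg

namespace Cfsg.Agent.S0765

open Matrix Cfsg.Agent.Lib.Helper5.Symp Module

variable {F : Type*} [Field F] (m : ℕ)

/-- the symplectic form as a bilinear form -/
noncomputable def sB : LinearMap.BilinForm F (Fin m ⊕ Fin m → F) :=
  LinearMap.mk₂ F (sympForm m F) (sympForm_add_left m) (sympForm_smul_left m)
    (sympForm_add_right m) (sympForm_smul_right m)

theorem sB_apply (x y : Fin m ⊕ Fin m → F) : sB m x y = sympForm m F x y := rfl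

theorem sB_refl : (sB m (F := F)).IsRefl := by
  intro x y h
  rw [sB_apply] at *
  rw [sympForm_swap, h, neg_zero]

theorem sB_nondeg : (sB m (F := F)).Nondegenerate := by
  constructor
  · intro x hx
    by_contra h
    obtain ⟨y, hy⟩ := exists_sympForm_ne_zero m h
    exact hy (hx y)
  · intro y hy
    by_contra h
    obtain ⟨x, hx⟩ := exists_sympForm_ne_zero m h
    apply hx
    rw [sympForm_swap]
    have := hy x
    rw [sB_apply] at this
    rw [this, neg_zero]

/-- separation of a vector from a subspace -/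
theorem exists_orth (W : Submodule F (Fin m ⊕ Fin m → F)) {x : Fin m ⊕ Fin m → F} (hx : x ∉ W) :
    ∃ r, (∀ z ∈ W, sympForm m F z r = 0) ∧ sympForm m F x r ≠ 0 := by
  by_contra hcon
  push Not at hcon
  apply hx
  rw [← LinearMap.BilinForm.orthogonal_orthogonal (sB_nondeg m) (sB_refl m) W]
  rw [LinearMap.BilinForm.mem_orthogonal_iff]
  intro r hr
  rw [sB_apply, sympForm_swap, hcon r (fun z hz => hr z hz), neg_zero]

theorem exists_orth_both (W : Submodule F (Fin m ⊕ Fin m → F)) {x y : Fin m ⊕ Fin m → F}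
    (hx : x ∉ W) (hy : y ∉ W) :
    ∃ r, (∀ z ∈ W, sympForm m F z r = 0) ∧ sympForm m F x r ≠ 0 ∧ sympForm m F y r ≠ 0 := by
  obtain ⟨r1, h1, h1x⟩ := exists_orth m W hx
  obtain ⟨r2, h2, h2y⟩ := exists_orth m W hy
  by_cases hy1 : sympForm m F y r1 = 0
  · by_cases hx2 : sympForm m F x r2 = 0
    · refine ⟨r1 + r2, fun z hz => ?_, ?_, ?_⟩
      · rw [sympForm_add_right, h1 z hz, h2 z hz, add_zero]
      · rw [sympForm_add_right, hx2, add_zero]; exact h1x
      · rw [sympForm_add_right, hy1, zero_add]; exact h2y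
    · exact ⟨r2, h2, hx2, h2y⟩
  · exact ⟨r1, h1, h1x, hy1⟩

/-- fixed subspace -/
def fixSub (g : Matrix (Fin m ⊕ Fin m) (Fin m ⊕ Fin m) F) : Submodule F (Fin m ⊕ Fin m → F) where
  carrier := {x | g *ᵥ x = x}
  add_mem' := by
    intro a b ha hb
    simp only [Set.mem_ofPred_eq] at *
    rw [Matrix.mulVec_add, ha, hb]
  zero_mem' := by simp
  smul_mem' := by
    intro c a ha
    simp only [Set.mem_ofPred_eq] at *
    rw [Matrix.mulVec_smul, ha]

theorem mem_fixSub (g : Matrix (Fin m ⊕ Fin m) (Fin m ⊕ Fin m) F) (x : Fin m ⊕ Fin m → F) :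
    x ∈ fixSub m g ↔ g *ᵥ x = x := Iff.rfl

theorem step (g : symplecticGroup (Fin m) F) (hg : fixSub m g.1 ≠ ⊤) :
    ∃ t ∈ transvectionSubgroup m (F := F), fixSub m g.1 < fixSub m (t * g).1 := by
  obtain ⟨x, hx⟩ : ∃ x, x ∉ fixSub m g.1 := by
    by_contra h
    push Not at h
    exact hg (eq_top_iff.mpr fun x _ => h x)
  set y := g.1 *ᵥ x with hy
  have hinj : ∀ a b : Fin m ⊕ Fin m → F, g.1 *ᵥ a = g.1 *ᵥ b → a = b := by
    intro a b hab
    have h1 : (g⁻¹ * g).1 = 1 := by rw [inv_mul_cancel]; rfl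
    have h2 : (g⁻¹).1 * g.1 = 1 := h1
    have := congrArg (fun v => (g⁻¹).1 *ᵥ v) hab
    simp only [Matrix.mulVec_mulVec, h2, Matrix.one_mulVec] at this
    exact this
  have hyW : y ∉ fixSub m g.1 := by
    intro h
    rw [mem_fixSub] at h
    exact hx (hinj _ _ h)
  have hzy : ∀ z ∈ fixSub m g.1, sympForm m F z y = sympForm m F z x := by
    intro z hz
    rw [mem_fixSub] at hz
    conv_lhs => rw [← hz, hy]
    exact sympForm_of_mem m g.2 z x
  by_cases hyx : sympForm m F y x = 0
  · obtain ⟨r, hr, hxr, hyr⟩ := exists_orth_both m _ hx hyW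
    set w := x + r with hw
    have h1 : sympForm m F y w ≠ 0 := by
      rw [hw, sympForm_add_right, hyx, zero_add]; exact hyr
    have h2 : sympForm m F w x ≠ 0 := by
      rw [hw, sympForm_add_left, sympForm_self, zero_add, sympForm_swap]
      exact neg_ne_zero.mpr hxr
    have hzw : ∀ z ∈ fixSub m g.1, sympForm m F z w = sympForm m F z x := by
      intro z hz
      rw [hw, sympForm_add_right, hr z hz, add_zero]
    refine ⟨sympT m (w - x) (sympForm m F w x)⁻¹ * sympT m (y - w) (sympForm m F y w)⁻¹,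
      mul_mem (sympT_mem m _ _) (sympT_mem m _ _), ?_⟩
    have hcoe : (sympT m (w - x) (sympForm m F w x)⁻¹ * sympT m (y - w) (sympForm m F y w)⁻¹ * g).1
        = sympTransvection m (w - x) (sympForm m F w x)⁻¹ *
          (sympTransvection m (y - w) (sympForm m F y w)⁻¹ * g.1) := by
      rw [mul_assoc]; rfl
    rw [hcoe]
    refine lt_of_le_of_ne ?_ ?_
    · intro z hz
      rw [mem_fixSub, ← Matrix.mulVec_mulVec, ← Matrix.mulVec_mulVec, (mem_fixSub m _ _).1 hz,
        sympTransvection_fix_of_eq m _ ((hzy z hz).trans (hzw z hz).symm),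
        sympTransvection_fix_of_eq m _ (hzw z hz)]
    · intro heq
      apply hx
      rw [heq, mem_fixSub, ← Matrix.mulVec_mulVec, ← Matrix.mulVec_mulVec, ← hy,
        sympTransvection_map_of_ne_zero m h1, sympTransvection_map_of_ne_zero m h2]
  · refine ⟨sympT m (y - x) (sympForm m F y x)⁻¹, sympT_mem m _ _, ?_⟩
    have hcoe : (sympT m (y - x) (sympForm m F y x)⁻¹ * g).1
        = sympTransvection m (y - x) (sympForm m F y x)⁻¹ * g.1 := rfl
    rw [hcoe]
    refine lt_of_le_of_ne ?_ ?_
    · intro z hz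
      rw [mem_fixSub, ← Matrix.mulVec_mulVec, (mem_fixSub m _ _).1 hz,
        sympTransvection_fix_of_eq m _ (hzy z hz)]
    · intro heq
      apply hx
      rw [heq, mem_fixSub, ← Matrix.mulVec_mulVec, ← hy, sympTransvection_map_of_ne_zero m hyx]

theorem mem_transvectionSubgroup (g : symplecticGroup (Fin m) F) :
    g ∈ transvectionSubgroup m (F := F) := by
  suffices H : ∀ n : ℕ, ∀ g : symplecticGroup (Fin m) F,
      finrank F (Fin m ⊕ Fin m → F) - finrank F (fixSub m g.1) ≤ n →
      g ∈ transvectionSubgroup m (F := F) from H _ g le_rfl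
  intro n
  induction n with
  | zero =>
    intro g hg
    have h1 : finrank F (fixSub m g.1) ≤ finrank F (Fin m ⊕ Fin m → F) := Submodule.finrank_le _
    have h2 : fixSub m g.1 = ⊤ := Submodule.eq_top_of_finrank_eq (by omega)
    have h3 : g = 1 := by
      apply Subtype.ext
      rw [Matrix.ext_iff_mulVec]
      intro v
      have : v ∈ fixSub m g.1 := by rw [h2]; trivial
      rw [mem_fixSub] at this
      rw [this]
      exact (Matrix.one_mulVec v).symm
    rw [h3]
    exact one_mem _
  | succ n ih =>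
    intro g hg
    by_cases htop : fixSub m g.1 = ⊤
    · apply ih
      rw [htop, finrank_top]
      omega
    · obtain ⟨t, ht, hlt⟩ := step m g htop
      have h1 := Submodule.finrank_lt_finrank_of_lt hlt
      have h2 : finrank F (fixSub m (t * g).1) ≤ finrank F (Fin m ⊕ Fin m → F) :=
        Submodule.finrank_le _
      have h3 : t * g ∈ transvectionSubgroup m (F := F) := by
        apply ih
        omega
      have : g = t⁻¹ * (t * g) := by group
      rw [this]
      exact mul_mem (inv_mem ht) h3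

/-- Generation of the symplectic group by symplectic transvections: the subgroup of Sp_2m(F) generated by all matrices of maps x ↦ x + c f(x, w) w is the whole group. -/
theorem result {F : Type*} [Field F] (m : ℕ) : Subgroup.closure {A : Matrix.symplecticGroup (Fin m) F | ∃ (w : Fin m ⊕ Fin m → F) (c : F), (A : Matrix (Fin m ⊕ Fin m) (Fin m ⊕ Fin m) F) = Cfsg.sympTransvection m w c} = ⊤ := by
  rw [eq_top_iff]
  intro g _
  exact mem_transvectionSubgroup m g

end Cfsg.Agent.S0765
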