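import Cfsg.Statements.S0269
import Mathlib
import Cfsg.Agent.Lib.Helper5.Symp
import Cfsg.Agent.S0765

set_option autoImplicit false
open Cfsg

namespace Cfsg.Agent.S0269

open Matrix Cfsg.Agent.Lib.Helper5.Symp

variable {F : Type*} [Field F] (m : ℕ)

theorem sympT_mul (v : Fin m ⊕ Fin m → F) (c d : F) :
    sympT m v c * sympT m v d = sympT m v (c + d) :=
  Subtype.ext (sympTransvection_mul m v c d)

theorem sympT_zero (v : Fin m ⊕ Fin m → F) : sympT m v 0 = 1 :=
  Subtype.ext (sympTransvection_zero m v)

theorem sympT_zero_vec (c : F) : sympT m (0 : Fin m ⊕ Fin m → F) c = 1 := by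
  apply Subtype.ext
  change sympTransvection m 0 c = 1
  unfold sympTransvection
  simp

theorem sympT_smul (a : F) (v : Fin m ⊕ Fin m → F) (c : F) :
    sympT m (a • v) c = sympT m v (a ^ 2 * c) :=
  Subtype.ext (sympTransvection_smul m a v c)

/-- relation for two orthogonal vectors -/
theorem rel2 (u v : Fin m ⊕ Fin m → F) (c : F) (huv : sympForm m F u v = 0) :
    sympT m (u + v) c * sympT m (u - v) c = sympT m u (c + c) * sympT m v (c + c) := by
  have hvu : sympForm m F v u = 0 := by rw [sympForm_swap, huv, neg_zero]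
  apply Subtype.ext
  change sympTransvection m (u + v) c * sympTransvection m (u - v) c =
    sympTransvection m u (c + c) * sympTransvection m v (c + c)
  rw [Matrix.ext_iff_mulVec]
  intro x
  simp only [← Matrix.mulVec_mulVec, sympTransvection_mulVec, sympForm_add_left,
    sympForm_add_right, sympForm_sub_left, sympForm_sub_right, sympForm_smul_left,
    sympForm_self, huv, hvu, mul_zero, add_zero, sub_self]
  module

/-- relation for three mutually orthogonal vectors -/
theorem rel3 (u v w : Fin m ⊕ Fin m → F) (c : F) (huv : sympForm m F u v = 0)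
    (huw : sympForm m F u w = 0) (hvw : sympForm m F v w = 0) :
    sympT m (u + v) c * sympT m (v + w) c * sympT m (u + w) c =
      sympT m (u + v + w) c * sympT m u c * sympT m v c * sympT m w c := by
  have hvu : sympForm m F v u = 0 := by rw [sympForm_swap, huv, neg_zero]
  have hwu : sympForm m F w u = 0 := by rw [sympForm_swap, huw, neg_zero]
  have hwv : sympForm m F w v = 0 := by rw [sympForm_swap, hvw, neg_zero]
  apply Subtype.ext
  change sympTransvection m (u + v) c * sympTransvection m (v + w) c *
      sympTransvection m (u + w) c =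
    sympTransvection m (u + v + w) c * sympTransvection m u c * sympTransvection m v c *
      sympTransvection m w c
  rw [Matrix.ext_iff_mulVec]
  intro x
  simp only [← Matrix.mulVec_mulVec, sympTransvection_mulVec, sympForm_add_left,
    sympForm_add_right, sympForm_smul_left,
    sympForm_self, huv, hvu, huw, hwu, hvw, hwv, mul_zero, add_zero]
  module

section hom

variable {A : Type*} [CommGroup A] (φ : symplecticGroup (Fin m) F →* A)

theorem phi_eq {v w : Fin m ⊕ Fin m → F} (hv : v ≠ 0) (hw : w ≠ 0) (c : F) :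
    φ (sympT m v c) = φ (sympT m w c) := by
  obtain ⟨g, _, hg⟩ := exists_transvectionSubgroup_map m hv hw
  have h1 : g * sympT m v c = sympT m w c * g := by
    apply Subtype.ext
    change g.1 * sympTransvection m v c = sympTransvection m w c * g.1
    rw [mul_sympTransvection m g.2, hg]
  have h2 := congrArg φ h1
  rw [map_mul, map_mul, mul_comm] at h2
  exact mul_right_cancel h2

theorem eq_top_of_phi (h : ∀ (v : Fin m ⊕ Fin m → F) (c : F), φ (sympT m v c) = 1) :
    φ.ker = ⊤ := by
  rw [eq_top_iff, ← Cfsg.Agent.S0765.result m, Subgroup.closure_le]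
  rintro B ⟨w, c, hB⟩
  have : B = sympT m w c := Subtype.ext hB
  rw [this]
  exact h w c

end hom

theorem single_ne (i : Fin m ⊕ Fin m) : (Pi.single i (1 : F) : Fin m ⊕ Fin m → F) ≠ 0 := by
  intro h
  have := congrFun h i
  simp at this

theorem sympForm_single_inl (i j : Fin m) :
    sympForm m F (Pi.single (Sum.inl i) 1) (Pi.single (Sum.inl j) 1) = 0 := by
  rw [sympForm_eq_sum]
  simp

/-- Sp_{2m}(q) is perfect except for Sp_2(2), Sp_2(3) and Sp_4(2): stated as m at least 3, or m = 2 and q at least 3, or q at least 4. -/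
theorem result {F : Type*} [Field F] [Fintype F] (m : ℕ) (h : 3 ≤ m ∨ (m = 2 ∧ 3 ≤ Fintype.card F) ∨ 4 ≤ Fintype.card F) : commutator (Matrix.symplecticGroup (Fin m) F) = ⊤ := by
  classical
  rw [← Abelianization.ker_of]
  apply eq_top_of_phi
  intro v c
  by_cases hv : v = 0
  · rw [hv, sympT_zero_vec, map_one]
  set φ := (Abelianization.of : symplecticGroup (Fin m) F →* _) with hφ
  by_cases h3 : 3 ≤ m
  · -- three mutually orthogonal vectors
    let u : Fin m ⊕ Fin m → F := Pi.single (Sum.inl ⟨0, by omega⟩) 1
    let v' : Fin m ⊕ Fin m → F := Pi.single (Sum.inl ⟨1, by omega⟩) 1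
    let w : Fin m ⊕ Fin m → F := Pi.single (Sum.inl ⟨2, by omega⟩) 1
    have hr := rel3 m u v' w c (sympForm_single_inl m _ _) (sympForm_single_inl m _ _)
      (sympForm_single_inl m _ _)
    have e : ∀ x : Fin m ⊕ Fin m → F, x ≠ 0 → φ (sympT m x c) = φ (sympT m v c) :=
      fun x hx => phi_eq m φ hx hv c
    have n1 : u + v' ≠ 0 := by
      intro h0
      have := congrFun h0 (Sum.inl ⟨0, by omega⟩)
      simp [u, v'] at this
    have n2 : v' + w ≠ 0 := by
      intro h0
      have := congrFun h0 (Sum.inl ⟨1, by omega⟩)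
      simp [w, v'] at this
    have n3 : u + w ≠ 0 := by
      intro h0
      have := congrFun h0 (Sum.inl ⟨0, by omega⟩)
      simp [u, w] at this
    have n4 : u + v' + w ≠ 0 := by
      intro h0
      have := congrFun h0 (Sum.inl ⟨0, by omega⟩)
      simp [u, v', w] at this
    have h2 := congrArg φ hr
    simp only [map_mul] at h2
    rw [e _ n1, e _ n2, e _ n3, e _ n4, e _ (single_ne m _), e _ (single_ne m _),
      e _ (single_ne m _)] at h2
    -- τ^3 = τ^4
    have : φ (sympT m v c) * φ (sympT m v c) * φ (sympT m v c) * 1 =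
        φ (sympT m v c) * φ (sympT m v c) * φ (sympT m v c) * φ (sympT m v c) := by
      rw [mul_one]; exact h2
    exact (mul_left_cancel this).symm
  by_cases h4 : 4 ≤ Fintype.card F
  · -- find a with a ≠ 0, a^2 ≠ 1
    obtain ⟨a, ha⟩ : ∃ a : F, a ∉ ({0, 1, -1} : Finset F) := by
      by_contra hcon
      push Not at hcon
      have hsub : (Finset.univ : Finset F) ⊆ {0, 1, -1} := fun x _ => hcon x
      have := Finset.card_le_card hsub
      rw [Finset.card_univ] at this
      have h5 : ({0, 1, -1} : Finset F).card ≤ 3 := Finset.card_le_three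
      omega
    simp only [Finset.mem_insert, Finset.mem_singleton, not_or] at ha
    obtain ⟨ha0, ha1, ha2⟩ := ha
    have ha3 : a ^ 2 - 1 ≠ 0 := by
      intro h0
      have : (a - 1) * (a + 1) = 0 := by rw [← h0]; ring
      rcases mul_eq_zero.mp this with h | h
      · exact ha1 (sub_eq_zero.mp h)
      · exact ha2 (eq_neg_of_add_eq_zero_left h)
    set d := c / (a ^ 2 - 1) with hd
    have hc : a ^ 2 * d = c + d := by
      rw [hd]; field_simp; ring
    have e1 : φ (sympT m (a • v) d) = φ (sympT m v d) :=
      phi_eq m φ (smul_ne_zero ha0 hv) hv d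
    rw [sympT_smul, hc, ← sympT_mul, map_mul] at e1
    exact mul_eq_right.mp e1
  · -- m = 2, card F = 3
    have hm : m = 2 := by omega
    have hF3 : 3 ≤ Fintype.card F := by omega
    have h2ne : (2 : F) ≠ 0 := by
      intro h0
      have hchar : ringChar F = 2 := CharP.ringChar_of_prime_eq_zero Nat.prime_two (by exact_mod_cast h0)
      have := FiniteField.even_card_of_char_two hchar
      have : Fintype.card F = 3 := by omega
      omega
    subst hm
    let u : Fin 2 ⊕ Fin 2 → F := Pi.single (Sum.inl 0) 1
    let v' : Fin 2 ⊕ Fin 2 → F := Pi.single (Sum.inl 1) 1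
    have e : ∀ (x : Fin 2 ⊕ Fin 2 → F) (c' : F), x ≠ 0 → φ (sympT 2 x c') = φ (sympT 2 v c') :=
      fun x c' hx => phi_eq 2 φ hx hv c'
    have hr := rel2 2 u v' (c / 2) (sympForm_single_inl 2 _ _)
    have n1 : u + v' ≠ 0 := by
      intro h0
      have := congrFun h0 (Sum.inl 0)
      simp [u, v'] at this
    have n2 : u - v' ≠ 0 := by
      intro h0
      have := congrFun h0 (Sum.inl 0)
      simp [u, v'] at this
    have hcc : c / 2 + c / 2 = c := by field_simp; ring
    rw [hcc] at hr
    have h2 := congrArg φ hr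
    simp only [map_mul] at h2
    rw [e _ _ n1, e _ _ n2, e _ _ (single_ne 2 _), e _ _ (single_ne 2 _), ← map_mul,
      sympT_mul, hcc] at h2
    exact left_eq_mul.mp h2

end Cfsg.Agent.S0269
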