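import Mathlib
import Cfsg.Statements.S5645
import Cfsg.Agent.Lib.Helper5.Symp
import Cfsg.Agent.S0765

set_option autoImplicit false
open Cfsg

namespace Cfsg.Agent.S5645


section Part0
open Cfsg Matrix Cfsg.Agent.Lib.Helper5.Symp

section Basic

variable {F : Type*} [Field F] (m : ℕ)

/-- the symplectic transvection as an element of `GL` -/
noncomputable def T (v : Fin m ⊕ Fin m → F) (c : F) : GL (Fin m ⊕ Fin m) F :=
  Matrix.GeneralLinearGroup.mk'' (sympTransvection m v c)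
    (SymplecticGroup.symplectic_det (sympTransvection_mem m v c))

lemma T_coe (v : Fin m ⊕ Fin m → F) (c : F) :
    ((T m v c : GL (Fin m ⊕ Fin m) F) : Matrix (Fin m ⊕ Fin m) (Fin m ⊕ Fin m) F) =
      sympTransvection m v c := rfl

lemma T_mulVec (v : Fin m ⊕ Fin m → F) (c : F) (x : Fin m ⊕ Fin m → F) :
    ((T m v c : GL (Fin m ⊕ Fin m) F) : Matrix (Fin m ⊕ Fin m) (Fin m ⊕ Fin m) F) *ᵥ x =
      x + (c * sympForm m F x v) • v := by
  rw [T_coe, sympTransvection_mulVec]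

lemma mem_spGL_iff (g : GL (Fin m ⊕ Fin m) F) : g ∈ spGL m F ↔
    ∀ u v, sympForm m F ((g : Matrix (Fin m ⊕ Fin m) (Fin m ⊕ Fin m) F) *ᵥ u)
      ((g : Matrix (Fin m ⊕ Fin m) (Fin m ⊕ Fin m) F) *ᵥ v) = sympForm m F u v := Iff.rfl

lemma T_mem_spGL (v : Fin m ⊕ Fin m → F) (c : F) : T m v c ∈ spGL m F := by
  rw [mem_spGL_iff]
  intro u w
  rw [T_coe]
  exact sympForm_of_mem m (sympTransvection_mem m v c) u w

lemma inv_mulVec_mulVec (g : GL (Fin m ⊕ Fin m) F) (x : Fin m ⊕ Fin m → F) :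
    ((g⁻¹ : GL (Fin m ⊕ Fin m) F) : Matrix (Fin m ⊕ Fin m) (Fin m ⊕ Fin m) F) *ᵥ
      ((g : Matrix (Fin m ⊕ Fin m) (Fin m ⊕ Fin m) F) *ᵥ x) = x := by
  rw [Matrix.mulVec_mulVec, ← Units.val_mul, inv_mul_cancel, Units.val_one, Matrix.one_mulVec]

lemma mulVec_inv_mulVec (g : GL (Fin m ⊕ Fin m) F) (x : Fin m ⊕ Fin m → F) :
    (g : Matrix (Fin m ⊕ Fin m) (Fin m ⊕ Fin m) F) *ᵥ
      (((g⁻¹ : GL (Fin m ⊕ Fin m) F) : Matrix (Fin m ⊕ Fin m) (Fin m ⊕ Fin m) F) *ᵥ x) = x := by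
  rw [Matrix.mulVec_mulVec, ← Units.val_mul, mul_inv_cancel, Units.val_one, Matrix.one_mulVec]

lemma conj_T (g : GL (Fin m ⊕ Fin m) F) (hg : g ∈ spGL m F) (v : Fin m ⊕ Fin m → F) (c : F) :
    g * T m v c * g⁻¹ = T m ((g : Matrix (Fin m ⊕ Fin m) (Fin m ⊕ Fin m) F) *ᵥ v) c := by
  apply Units.ext
  rw [Units.val_mul, Units.val_mul, Matrix.ext_iff_mulVec]
  intro x
  rw [← Matrix.mulVec_mulVec, ← Matrix.mulVec_mulVec, T_mulVec, T_mulVec, Matrix.mulVec_add,
    Matrix.mulVec_smul, mulVec_inv_mulVec]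
  congr 3
  have := (mem_spGL_iff m g).1 hg
    (((g⁻¹ : GL (Fin m ⊕ Fin m) F) : Matrix (Fin m ⊕ Fin m) (Fin m ⊕ Fin m) F) *ᵥ x) v
  rw [mulVec_inv_mulVec] at this
  exact this.symm

/-- a subgroup of `GL` containing all symplectic transvections contains `spGL` -/
lemma spGL_le (M : Subgroup (GL (Fin m ⊕ Fin m) F)) (hM : ∀ v c, T m v c ∈ M) : spGL m F ≤ M := by
  intro g hg
  have hA : (g : Matrix (Fin m ⊕ Fin m) (Fin m ⊕ Fin m) F) ∈ symplecticGroup (Fin m) F :=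
    mem_of_sympForm m ((mem_spGL_iff m g).1 hg)
  have htop : (⟨_, hA⟩ : symplecticGroup (Fin m) F) ∈
      Subgroup.closure {A : Matrix.symplecticGroup (Fin m) F | ∃ (w : Fin m ⊕ Fin m → F) (c : F),
        (A : Matrix (Fin m ⊕ Fin m) (Fin m ⊕ Fin m) F) = Cfsg.sympTransvection m w c} := by
    rw [Cfsg.Agent.S0765.result m]; trivial
  have key : ∀ X : symplecticGroup (Fin m) F, X ∈ Subgroup.closure
      {A : Matrix.symplecticGroup (Fin m) F | ∃ (w : Fin m ⊕ Fin m → F) (c : F),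
        (A : Matrix (Fin m ⊕ Fin m) (Fin m ⊕ Fin m) F) = Cfsg.sympTransvection m w c} →
      ∀ g' : GL (Fin m ⊕ Fin m) F,
        (g' : Matrix (Fin m ⊕ Fin m) (Fin m ⊕ Fin m) F) = X.1 → g' ∈ M := by
    intro X hX
    induction hX using Subgroup.closure_induction with
    | mem X hX =>
      obtain ⟨w, c, hwc⟩ := hX
      intro g' hg'
      have : g' = T m w c := Units.ext (by rw [hg', hwc, T_coe])
      rw [this]; exact hM w c
    | one =>
      intro g' hg'
      have : g' = 1 := Units.ext (by rw [hg']; rfl)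
      rw [this]; exact M.one_mem
    | mul X Y hX hY ihX ihY =>
      intro g' hg'
      set gX : GL (Fin m ⊕ Fin m) F := Matrix.GeneralLinearGroup.mk'' X.1
        (SymplecticGroup.symplectic_det X.2) with hgX
      set gY : GL (Fin m ⊕ Fin m) F := Matrix.GeneralLinearGroup.mk'' Y.1
        (SymplecticGroup.symplectic_det Y.2) with hgY
      have : g' = gX * gY := Units.ext (by rw [hg']; rfl)
      rw [this]; exact M.mul_mem (ihX gX rfl) (ihY gY rfl)
    | inv X hX ihX =>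
      intro g' hg'
      set gX : GL (Fin m ⊕ Fin m) F := Matrix.GeneralLinearGroup.mk'' X.1
        (SymplecticGroup.symplectic_det X.2) with hgX
      have h1 : g' * gX = 1 := by
        apply Units.ext
        rw [Units.val_mul, hg']
        show (X⁻¹).1 * X.1 = 1
        have := congrArg Subtype.val (inv_mul_cancel X)
        exact this
      have : g' = gX⁻¹ := eq_inv_of_mul_eq_one_left h1
      rw [this]; exact M.inv_mem (ihX gX rfl)
  exact key _ htop g rfl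

end Basic

end Part0

section Part1
open Cfsg Matrix Cfsg.Agent.Lib.Helper5.Symp

section Siegel

variable {F : Type*} [Field F] (m : ℕ)

/-- the Siegel-type element `x ↦ x + f(x,z) w + f(x,w) z` for `f(z,w) = 0` -/
noncomputable def tau (w z : Fin m ⊕ Fin m → F) : GL (Fin m ⊕ Fin m) F :=
  T m (w + z) 1 * T m w (-1) * T m z (-1)

lemma tau_mem_spGL (w z : Fin m ⊕ Fin m → F) : tau m w z ∈ spGL m F :=
  (spGL m F).mul_mem ((spGL m F).mul_mem (T_mem_spGL m _ _) (T_mem_spGL m _ _)) (T_mem_spGL m _ _)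

lemma tau_mulVec (w z : Fin m ⊕ Fin m → F) (h : sympForm m F z w = 0) (x : Fin m ⊕ Fin m → F) :
    ((tau m w z : GL (Fin m ⊕ Fin m) F) : Matrix (Fin m ⊕ Fin m) (Fin m ⊕ Fin m) F) *ᵥ x =
      x + (sympForm m F x z) • w + (sympForm m F x w) • z := by
  have h' : sympForm m F w z = 0 := by rw [sympForm_swap, h, neg_zero]
  rw [tau, Units.val_mul, Units.val_mul, ← Matrix.mulVec_mulVec, ← Matrix.mulVec_mulVec,
    T_mulVec, T_mulVec, T_mulVec]
  simp only [sympForm_add_left, sympForm_add_right, sympForm_smul_left, sympForm_self, h, h',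
    mul_zero, add_zero, zero_add]
  module

end Siegel

section Main

variable {F : Type*} [Field F] (m : ℕ)

/-- a functional (as a vector) separating a vector from a subspace -/
lemma exists_functional' {ι : Type*} [Fintype ι] [DecidableEq ι] (U : Submodule F (ι → F))
    (x : ι → F) (hx : x ∉ U) :
    ∃ f : ι → F, f ⬝ᵥ x = 1 ∧ ∀ u ∈ U, f ⬝ᵥ u = 0 := by
  obtain ⟨φ, hφ, hU⟩ := Submodule.exists_dual_map_eq_bot_of_notMem hx inferInstance
  set f := (dotProductEquiv F ι).symm φ with hfdef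
  have hf : ∀ y, f ⬝ᵥ y = φ y := fun y => by
    have h1 := LinearEquiv.apply_symm_apply (dotProductEquiv F ι) φ
    have h2 := congrArg (fun ψ : Module.Dual F (ι → F) => ψ y) h1
    exact h2
  refine ⟨(φ x)⁻¹ • f, ?_, ?_⟩
  · rw [smul_dotProduct, hf, smul_eq_mul, inv_mul_cancel₀ hφ]
  · intro u hu
    rw [smul_dotProduct, hf]
    have : φ u ∈ U.map φ := ⟨u, hu, rfl⟩
    rw [hU] at this
    rw [(Submodule.mem_bot F).1 this, smul_zero]

/-- a vector outside `W` is non-perpendicular to some vector of `W^⊥` -/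
lemma exists_perp_ne (W : Submodule F (Fin m ⊕ Fin m → F)) (y : Fin m ⊕ Fin m → F) (hy : y ∉ W) :
    ∃ x, (∀ w ∈ W, sympForm m F x w = 0) ∧ sympForm m F x y ≠ 0 := by
  obtain ⟨φ, hφy, hφW⟩ := exists_functional' W y hy
  have key : ∀ z, sympForm m F z (-(J (Fin m) F *ᵥ φ)) = φ ⬝ᵥ z := by
    intro z
    unfold sympForm
    rw [Matrix.mulVec_neg, Matrix.mulVec_mulVec, J_squared, Matrix.neg_mulVec, neg_neg,
      Matrix.one_mulVec, dotProduct_comm]
  refine ⟨-(J (Fin m) F *ᵥ φ), fun w hw => ?_, ?_⟩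
  · rw [sympForm_swap, key, hφW w hw, neg_zero]
  · rw [sympForm_swap, key, hφy]
    exact neg_ne_zero.2 one_ne_zero

variable (W : Submodule F (Fin m ⊕ Fin m → F)) (M : Subgroup (GL (Fin m ⊕ Fin m) F))

/-- centres all of whose symplectic transvections lie in `M` -/
def SS : Set (Fin m ⊕ Fin m → F) := {w | ∀ c, T m w c ∈ M}

lemma mem_SS (w : Fin m ⊕ Fin m → F) : w ∈ SS m M ↔ ∀ c, T m w c ∈ M := Iff.rfl

lemma mem_stab_iff (g : GL (Fin m ⊕ Fin m) F) :
    g ∈ Cfsg.Geo.subspaceStabilizer W ↔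
      ∀ v, v ∈ W ↔ (g : Matrix (Fin m ⊕ Fin m) (Fin m ⊕ Fin m) F) *ᵥ v ∈ W := Iff.rfl

lemma smul_mem_SS (a : F) (w : Fin m ⊕ Fin m → F) (hw : w ∈ SS m M) : a • w ∈ SS m M := by
  intro c
  have : T m (a • w) c = T m w (a ^ 2 * c) := Units.ext (by
    rw [T_coe, T_coe, sympTransvection_smul])
  rw [this]; exact hw _

variable (hW : Cfsg.Geo.IsTotallySingularFor (Cfsg.sympForm m F) W)
variable (hPM : Cfsg.Geo.subspaceStabilizer W ⊓ Cfsg.spGL m F ≤ M) (hMS : M ≤ Cfsg.spGL m F)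

include hW hPM in
/-- L1: `W^⊥ ⊆ SS` -/
lemma perp_mem_SS (x : Fin m ⊕ Fin m → F) (hx : ∀ w ∈ W, sympForm m F x w = 0) : x ∈ SS m M := by
  intro c
  refine hPM ⟨?_, T_mem_spGL m x c⟩
  show T m x c ∈ Cfsg.Geo.subspaceStabilizer W
  rw [mem_stab_iff]
  intro v
  rw [T_mulVec]
  constructor
  · intro hv
    rw [sympForm_swap, hx v hv, neg_zero, mul_zero, zero_smul, add_zero]; exact hv
  · intro hv
    have h1 := hx _ hv
    rw [sympForm_add_right, sympForm_smul_right, sympForm_self, mul_zero, add_zero] at h1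
    rw [sympForm_swap, h1, neg_zero, mul_zero, zero_smul, add_zero] at hv
    exact hv

include hMS in
/-- L2: `SS` is `M`-invariant -/
lemma mulVec_mem_SS (g : GL (Fin m ⊕ Fin m) F) (hg : g ∈ M) (w : Fin m ⊕ Fin m → F)
    (hw : w ∈ SS m M) : (g : Matrix (Fin m ⊕ Fin m) (Fin m ⊕ Fin m) F) *ᵥ w ∈ SS m M := by
  intro c
  rw [← conj_T m g (hMS hg)]
  exact M.mul_mem (M.mul_mem hg (hw c)) (M.inv_mem hg)

include hMS in
/-- L4 -/
lemma add_smul_mem_SS (v w : Fin m ⊕ Fin m → F) (hv : v ∈ SS m M) (hw : w ∈ SS m M)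
    (hvw : sympForm m F v w ≠ 0) (t : F) : v + t • w ∈ SS m M := by
  have h1 := mulVec_mem_SS m M hMS (T m w (t * (sympForm m F v w)⁻¹)) (hw _) v hv
  rw [T_mulVec, mul_assoc, inv_mul_cancel₀ hvw, mul_one] at h1
  exact h1

include hW hPM hMS in
/-- L5 -/
lemma add_perp_mem_SS (s w₀ v : Fin m ⊕ Fin m → F) (hs : s ∈ SS m M) (hw₀ : w₀ ∈ W)
    (hsw : sympForm m F s w₀ ≠ 0) (hv : ∀ w ∈ W, sympForm m F v w = 0) : s + v ∈ SS m M := by
  have hw₀p : ∀ w ∈ W, sympForm m F w₀ w = 0 := fun w hw => hW w₀ hw₀ w hw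
  by_cases h : sympForm m F s v = 0
  · have hv' : ∀ w ∈ W, sympForm m F (v + w₀) w = 0 := by
      intro w hw
      rw [sympForm_add_left, hv w hw, hw₀p w hw, add_zero]
    have h1 : s + (1 : F) • (v + w₀) ∈ SS m M := by
      apply add_smul_mem_SS m M hMS s (v + w₀) hs (perp_mem_SS m W M hW hPM _ hv')
      rw [sympForm_add_right, h, zero_add]; exact hsw
    have h2 : (s + (1 : F) • (v + w₀)) + (-1 : F) • w₀ ∈ SS m M := by
      apply add_smul_mem_SS m M hMS _ w₀ h1 (perp_mem_SS m W M hW hPM _ hw₀p)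
      rw [one_smul, sympForm_add_left, sympForm_add_left, hv w₀ hw₀, sympForm_self, add_zero,
        add_zero]
      exact hsw
    have e : (s + (1 : F) • (v + w₀)) + (-1 : F) • w₀ = s + v := by
      rw [one_smul, neg_one_smul]; abel
    rw [e] at h2; exact h2
  · have := add_smul_mem_SS m M hMS s v hs (perp_mem_SS m W M hW hPM _ hv) h 1
    rwa [one_smul] at this

include hW in
lemma tau_mem_stab (w₁ z : Fin m ⊕ Fin m → F) (hw₁ : w₁ ∈ W) (hz : sympForm m F z w₁ = 0) :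
    tau m w₁ z ∈ Cfsg.Geo.subspaceStabilizer W := by
  rw [mem_stab_iff]
  intro x
  rw [tau_mulVec m w₁ z hz]
  constructor
  · intro hx
    rw [hW x hx w₁ hw₁, zero_smul, add_zero]
    exact W.add_mem hx (W.smul_mem _ hw₁)
  · intro hy
    have h1 := hW _ hy w₁ hw₁
    rw [sympForm_add_left, sympForm_add_left, sympForm_smul_left, sympForm_smul_left,
      sympForm_self, hz, mul_zero, mul_zero, add_zero, add_zero] at h1
    rw [h1, zero_smul, add_zero] at hy
    have := W.sub_mem hy (W.smul_mem (sympForm m F x z) hw₁)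
    rwa [add_sub_cancel_right] at this

include hW hPM hMS in
/-- L7 -/
lemma add_smul_perp_mem_SS (s w₀ z : Fin m ⊕ Fin m → F) (hs : s ∈ SS m M) (hw₀ : w₀ ∈ W)
    (hsw : sympForm m F s w₀ ≠ 0) (hz : sympForm m F z w₀ = 0) :
    s + (sympForm m F s w₀) • z ∈ SS m M := by
  have hτ : tau m w₀ z ∈ M := hPM ⟨tau_mem_stab m W hW w₀ z hw₀ hz, tau_mem_spGL m w₀ z⟩
  have h1 := mulVec_mem_SS m M hMS _ hτ s hs
  rw [tau_mulVec m w₀ z hz] at h1
  have hw₀p : ∀ w ∈ W, sympForm m F (-(sympForm m F s z) • w₀) w = 0 := by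
    intro w hw
    rw [sympForm_smul_left, hW w₀ hw₀ w hw, mul_zero]
  have h2 := add_perp_mem_SS m W M hW hPM hMS _ w₀ _ h1 hw₀ ?_ hw₀p
  · have e : s + sympForm m F s z • w₀ + sympForm m F s w₀ • z + -(sympForm m F s z) • w₀ =
        s + sympForm m F s w₀ • z := by
      rw [neg_smul]; abel
    rw [e] at h2; exact h2
  · rw [sympForm_add_left, sympForm_add_left, sympForm_smul_left, sympForm_smul_left,
      sympForm_self, hz, mul_zero, mul_zero, add_zero, add_zero]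
    exact hsw

include hW hPM hMS in
/-- L8 -/
lemma mem_SS_of_ne (s w₀ x : Fin m ⊕ Fin m → F) (hs : s ∈ SS m M) (hw₀ : w₀ ∈ W)
    (hsw : sympForm m F s w₀ ≠ 0) (hx : sympForm m F x w₀ ≠ 0) : x ∈ SS m M := by
  set c := sympForm m F s w₀ with hc
  set a := sympForm m F x w₀ * c⁻¹ with ha
  have ha0 : a ≠ 0 := mul_ne_zero hx (inv_ne_zero hsw)
  set z := c⁻¹ • (a⁻¹ • x - s) with hz
  have hzw : sympForm m F z w₀ = 0 := by
    rw [hz, sympForm_smul_left, sympForm_sub_left, sympForm_smul_left, ← hc, ha]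
    field_simp
    ring
  have h1 := add_smul_perp_mem_SS m W M hW hPM hMS s w₀ z hs hw₀ hsw hzw
  rw [← hc, hz, smul_smul, mul_inv_cancel₀ hsw, one_smul, add_sub_cancel] at h1
  have h2 := smul_mem_SS m M a _ h1
  rwa [smul_smul, mul_inv_cancel₀ ha0, one_smul] at h2

include hW hPM hMS in
/-- L9 -/
lemma SS_eq_univ (s w₀ : Fin m ⊕ Fin m → F) (hs : s ∈ SS m M) (hw₀ : w₀ ∈ W)
    (hsw : sympForm m F s w₀ ≠ 0) (x : Fin m ⊕ Fin m → F) : x ∈ SS m M := by
  by_cases hx : ∀ w ∈ W, sympForm m F x w = 0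
  · exact perp_mem_SS m W M hW hPM x hx
  · rw [not_forall] at hx
    obtain ⟨w₂, hx⟩ := hx
    rw [Classical.not_imp] at hx
    obtain ⟨hw₂, hxw₂⟩ := hx
    have hw₀0 : w₀ ≠ 0 := by
      rintro rfl
      exact hsw (sympForm_zero_right m s)
    have hw₂0 : w₂ ≠ 0 := by
      rintro rfl
      exact hxw₂ (sympForm_zero_right m x)
    obtain ⟨y, hy1, hy2⟩ := exists_sympForm_ne_zero_both m hw₀0 hw₂0
    have hy1' : sympForm m F y w₀ ≠ 0 := by
      rw [sympForm_swap]; exact neg_ne_zero.2 hy1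
    have hyS := mem_SS_of_ne m W M hW hPM hMS s w₀ y hs hw₀ hsw hy1'
    exact mem_SS_of_ne m W M hW hPM hMS y w₂ x hyS hw₂ hy2 hxw₂

end Main

end Part1

section Part2
open Cfsg Matrix Cfsg.Agent.Lib.Helper5.Symp

theorem result {F : Type*} [Field F] [Fintype F] (m : ℕ) (hm : 7 ≤ m) (W : Submodule F (Fin m ⊕ Fin m → F)) (hW0 : W ≠ ⊥) (hW : Cfsg.Geo.IsTotallySingularFor (Cfsg.sympForm m F) W) : Cfsg.Geo.IsMaximalIn (Cfsg.spGL m F) (Cfsg.Geo.subspaceStabilizer W ⊓ Cfsg.spGL m F) := by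
  refine ⟨lt_of_le_of_ne inf_le_right ?_, ?_⟩
  · intro heq
    obtain ⟨w, hwW, hw0⟩ := Submodule.exists_mem_ne_zero_of_ne_bot hW0
    obtain ⟨y, hy⟩ := exists_sympForm_ne_zero m hw0
    have h1 : T m y 1 ∈ Cfsg.Geo.subspaceStabilizer W ⊓ Cfsg.spGL m F := by
      rw [heq]; exact T_mem_spGL m y 1
    have h2 := ((mem_stab_iff m W _).1 h1.1 w).1 hwW
    rw [T_mulVec, one_mul] at h2
    have h3 : (sympForm m F w y) • y ∈ W := (Submodule.add_mem_iff_right W hwW).1 h2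
    have h4 : y ∈ W := by
      have := W.smul_mem (sympForm m F w y)⁻¹ h3
      rwa [smul_smul, inv_mul_cancel₀ hy, one_smul] at this
    exact hy (hW w hwW y h4)
  · intro M hPM hMS
    by_cases hMP : M ≤ Cfsg.Geo.subspaceStabilizer W ⊓ Cfsg.spGL m F
    · left; exact le_antisymm hMP hPM
    · right
      apply le_antisymm hMS
      rw [SetLike.not_le_iff_exists] at hMP
      obtain ⟨h, hhM, hhP⟩ := hMP
      have hhS : h ∉ Cfsg.Geo.subspaceStabilizer W := fun hh => hhP ⟨hh, hMS hhM⟩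
      have hex : ∃ h' ∈ M, ∃ w ∈ W,
          (h' : Matrix (Fin m ⊕ Fin m) (Fin m ⊕ Fin m) F) *ᵥ w ∉ W := by
        rw [mem_stab_iff] at hhS
        rw [not_forall] at hhS
        obtain ⟨v, hv⟩ := hhS
        by_cases hvW : v ∈ W
        · refine ⟨h, hhM, v, hvW, ?_⟩
          intro h'
          exact hv ⟨fun _ => h', fun _ => hvW⟩
        · have hhv : (h : Matrix (Fin m ⊕ Fin m) (Fin m ⊕ Fin m) F) *ᵥ v ∈ W := by
            by_contra h'
            exact hv ⟨fun h'' => absurd h'' hvW, fun h'' => absurd h'' h'⟩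
          refine ⟨h⁻¹, M.inv_mem hhM, _, hhv, ?_⟩
          rw [inv_mulVec_mulVec]
          exact hvW
      obtain ⟨h', hh'M, w₀, hw₀W, hy⟩ := hex
      obtain ⟨x, hxW, hxy⟩ := exists_perp_ne m W _ hy
      -- s := h'⁻¹ x
      have hxS : x ∈ SS m M := perp_mem_SS m W M hW hPM x hxW
      have hsS := mulVec_mem_SS m M hMS h'⁻¹ (M.inv_mem hh'M) x hxS
      have hsw : sympForm m F
          (((h'⁻¹ : GL (Fin m ⊕ Fin m) F) : Matrix (Fin m ⊕ Fin m) (Fin m ⊕ Fin m) F) *ᵥ x) w₀ ≠ 0 := by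
        have := (mem_spGL_iff m h').1 (hMS hh'M)
          (((h'⁻¹ : GL (Fin m ⊕ Fin m) F) : Matrix (Fin m ⊕ Fin m) (Fin m ⊕ Fin m) F) *ᵥ x) w₀
        rw [mulVec_inv_mulVec] at this
        rw [← this]; exact hxy
      apply spGL_le
      intro v c
      exact SS_eq_univ m W M hW hPM hMS _ w₀ hsS hw₀W hsw v c

end Part2

end Cfsg.Agent.S5645
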