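import Mathlib
import Cfsg.Statements.S5646
import Cfsg.Agent.S5645

set_option autoImplicit false
open Cfsg

namespace Cfsg.Agent.S5646


section Part0
open Cfsg Matrix Cfsg.Agent.Lib.Helper5.Symp
open Cfsg.Agent.S5645

section Decomp

variable {F : Type*} [Field F] (m : ℕ)

/-- the symplectic form as a bilinear map -/
noncomputable def Bl : (Fin m ⊕ Fin m → F) →ₗ[F] (Fin m ⊕ Fin m → F) →ₗ[F] F :=
  LinearMap.mk₂ F (sympForm m F) (sympForm_add_left m) (sympForm_smul_left m)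
    (sympForm_add_right m) (sympForm_smul_right m)

lemma Bl_apply (u v : Fin m ⊕ Fin m → F) : Bl m u v = sympForm m F u v := rfl

/-- the orthogonal complement -/
def perp (W : Submodule F (Fin m ⊕ Fin m → F)) : Submodule F (Fin m ⊕ Fin m → F) where
  carrier := {x | ∀ w ∈ W, sympForm m F x w = 0}
  zero_mem' := fun w _ => sympForm_zero_left m w
  add_mem' := by
    intro a b ha hb w hw
    rw [sympForm_add_left, ha w hw, hb w hw, add_zero]
  smul_mem' := by
    intro c a ha w hw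
    rw [sympForm_smul_left, ha w hw, mul_zero]

lemma mem_perp (W : Submodule F (Fin m ⊕ Fin m → F)) (x : Fin m ⊕ Fin m → F) :
    x ∈ perp m W ↔ ∀ w ∈ W, sympForm m F x w = 0 := Iff.rfl

variable (W : Submodule F (Fin m ⊕ Fin m → F))
variable (hW : Cfsg.Geo.IsNondegenerateOn (Cfsg.sympForm m F) W)

include hW in
/-- `V = W + W^⊥` for nondegenerate `W` -/
lemma exists_decomp (v : Fin m ⊕ Fin m → F) : ∃ a ∈ W, ∃ b ∈ perp m W, v = a + b := by
  set R : W →ₗ[F] Module.Dual F W := (Bl m).domRestrict₁₂ W W with hR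
  have hinj : Function.Injective R := by
    rw [← LinearMap.ker_eq_bot, LinearMap.ker_eq_bot']
    intro a ha
    by_contra hne
    have hne' : (a : Fin m ⊕ Fin m → F) ≠ 0 := fun h => hne (Subtype.ext h)
    obtain ⟨-, x, hxW, hx⟩ := hW a a.2 hne'
    apply hx
    have := congrArg (fun φ : Module.Dual F W => φ ⟨x, hxW⟩) ha
    exact this
  have hsurj : Function.Surjective R :=
    (LinearMap.injective_iff_surjective_of_finrank_eq_finrank
      (Subspace.dual_finrank_eq (K := F) (V := W)).symm).1 hinj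
  obtain ⟨a, ha⟩ := hsurj ((Bl m v).domRestrict W)
  refine ⟨a.1, a.2, v - a.1, ?_, by abel⟩
  intro w hw
  have := congrArg (fun φ : Module.Dual F W => φ ⟨w, hw⟩) ha
  have h2 : sympForm m F a.1 w = sympForm m F v w := this
  rw [sympForm_sub_left, h2, sub_self]

include hW in
lemma inf_perp_eq_bot (x : Fin m ⊕ Fin m → F) (hx : x ∈ W) (hx' : x ∈ perp m W) : x = 0 := by
  by_contra hne
  obtain ⟨-, y, hyW, hy⟩ := hW x hx hne
  exact hy (hx' y hyW)

include hW in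
/-- the form is nondegenerate on `W^⊥` -/
lemma perp_nondeg (b : Fin m ⊕ Fin m → F) (hb : b ∈ perp m W) (hb0 : b ≠ 0) :
    ∃ u ∈ perp m W, sympForm m F b u ≠ 0 := by
  obtain ⟨x, hx⟩ := exists_sympForm_ne_zero m hb0
  obtain ⟨a, haW, u, hu, rfl⟩ := exists_decomp m W hW x
  refine ⟨u, hu, ?_⟩
  rw [sympForm_add_right, hb a haW, zero_add] at hx
  exact hx

end Decomp

end Part0

section Part1
open Cfsg Matrix Cfsg.Agent.Lib.Helper5.Symp
open Cfsg.Agent.S5645

section S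

variable {F : Type*} [Field F] (m : ℕ)
variable (W : Submodule F (Fin m ⊕ Fin m → F)) (M : Subgroup (GL (Fin m ⊕ Fin m) F))
variable (hPM : Cfsg.Geo.subspaceStabilizer W ⊓ Cfsg.spGL m F ≤ M) (hMS : M ≤ Cfsg.spGL m F)

include hPM in
lemma mem_SS_of_mem (w : Fin m ⊕ Fin m → F) (hw : w ∈ W) : w ∈ SS m M := by
  intro c
  refine hPM ⟨?_, T_mem_spGL m w c⟩
  show T m w c ∈ Cfsg.Geo.subspaceStabilizer W
  rw [mem_stab_iff]
  intro v
  rw [T_mulVec]
  exact (Submodule.add_mem_iff_left W (W.smul_mem _ hw)).symm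

include hPM in
lemma mem_SS_of_perp (x : Fin m ⊕ Fin m → F) (hx : x ∈ perp m W) : x ∈ SS m M := by
  intro c
  refine hPM ⟨?_, T_mem_spGL m x c⟩
  show T m x c ∈ Cfsg.Geo.subspaceStabilizer W
  rw [mem_stab_iff]
  intro v
  rw [T_mulVec]
  constructor
  · intro hv
    rw [sympForm_swap, hx v hv, neg_zero, mul_zero, zero_smul, add_zero]; exact hv
  · intro hv
    have h1 := hx _ hv
    rw [sympForm_add_right, sympForm_smul_right, sympForm_self, mul_zero, add_zero] at h1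
    rw [sympForm_swap, h1, neg_zero, mul_zero, zero_smul, add_zero] at hv
    exact hv

include hMS in
/-- moving the `U`-component -/
lemma move (U : Submodule F (Fin m ⊕ Fin m → F)) (hUS : ∀ u ∈ U, u ∈ SS m M)
    (hUnd : ∀ a ∈ U, a ≠ 0 → ∃ x ∈ U, sympForm m F a x ≠ 0)
    (b : Fin m ⊕ Fin m → F) (hb : ∀ u ∈ U, sympForm m F b u = 0)
    (a a' : Fin m ⊕ Fin m → F) (ha : a ∈ U) (ha' : a' ∈ U) (ha0 : a ≠ 0) (ha'0 : a' ≠ 0)
    (hS : a + b ∈ SS m M) : a' + b ∈ SS m M := by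
  have step : ∀ a₁ a₂ : Fin m ⊕ Fin m → F, a₁ ∈ U → a₂ ∈ U → sympForm m F a₁ a₂ ≠ 0 →
      a₁ + b ∈ SS m M → a₂ + b ∈ SS m M := by
    intro a₁ a₂ h1 h2 hne hS1
    have hu : a₂ - a₁ ∈ U := U.sub_mem h2 h1
    have hne' : sympForm m F (a₁ + b) (a₂ - a₁) ≠ 0 := by
      rw [sympForm_add_left, hb _ hu, add_zero, sympForm_sub_right, sympForm_self, sub_zero]
      exact hne
    have := add_smul_mem_SS m M hMS (a₁ + b) (a₂ - a₁) hS1 (hUS _ hu) hne' 1
    have e : a₁ + b + (1 : F) • (a₂ - a₁) = a₂ + b := by rw [one_smul]; abel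
    rwa [e] at this
  by_cases h : sympForm m F a a' = 0
  · obtain ⟨x₁, hx₁U, hx₁⟩ := hUnd a ha ha0
    obtain ⟨x₂, hx₂U, hx₂⟩ := hUnd a' ha' ha'0
    have swapne : ∀ x, sympForm m F a' x ≠ 0 → sympForm m F x a' ≠ 0 := by
      intro x hx
      rw [sympForm_swap]; exact neg_ne_zero.2 hx
    obtain ⟨y, hyU, hy1, hy2⟩ : ∃ y ∈ U, sympForm m F a y ≠ 0 ∧ sympForm m F y a' ≠ 0 := by
      by_cases h3 : sympForm m F a' x₁ = 0
      · by_cases h4 : sympForm m F a x₂ = 0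
        · refine ⟨x₁ + x₂, U.add_mem hx₁U hx₂U, ?_, ?_⟩
          · rw [sympForm_add_right, h4, add_zero]; exact hx₁
          · apply swapne
            rw [sympForm_add_right, h3, zero_add]; exact hx₂
        · exact ⟨x₂, hx₂U, h4, swapne _ hx₂⟩
      · exact ⟨x₁, hx₁U, hx₁, swapne _ h3⟩
    exact step y a' hyU ha' hy2 (step a y ha hyU hy1 hS)
  · exact step a a' ha ha' h hS

variable (hW : Cfsg.Geo.IsNondegenerateOn (Cfsg.sympForm m F) W)

include hPM hMS hW in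
lemma SS_univ_of_mixed (a b : Fin m ⊕ Fin m → F) (ha : a ∈ W) (hb : b ∈ perp m W) (ha0 : a ≠ 0)
    (hb0 : b ≠ 0) (hs : a + b ∈ SS m M) (x : Fin m ⊕ Fin m → F) : x ∈ SS m M := by
  obtain ⟨a', ha', b', hb', rfl⟩ := exists_decomp m W hW x
  by_cases ha'0 : a' = 0
  · rw [ha'0, zero_add]; exact mem_SS_of_perp m W M hPM b' hb'
  by_cases hb'0 : b' = 0
  · rw [hb'0, add_zero]; exact mem_SS_of_mem m W M hPM a' ha'
  have h1 : a' + b ∈ SS m M :=
    move m M hMS W (mem_SS_of_mem m W M hPM)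
      (fun a ha ha0 => by
        obtain ⟨-, x, hxW, hx⟩ := hW a ha ha0
        exact ⟨x, hxW, hx⟩)
      b hb a a' ha ha' ha0 ha'0 hs
  have h2 : b + a' ∈ SS m M := by rw [add_comm]; exact h1
  have h3 : b' + a' ∈ SS m M :=
    move m M hMS (perp m W) (mem_SS_of_perp m W M hPM)
      (fun b hb hb0 => perp_nondeg m W hW b hb hb0)
      a' (fun u hu => by rw [sympForm_swap, hu a' ha', neg_zero])
      b b' hb hb' hb0 hb'0 h2
  rw [add_comm]; exact h3

end S

end Part1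

section Part2
open Cfsg Matrix Cfsg.Agent.Lib.Helper5.Symp
open Cfsg.Agent.S5645

section Mixed

variable {F : Type*} [Field F] (m : ℕ)

/-- a subspace mapped into the union of two subspaces is mapped into one of them -/
lemma union_lemma (A B X : Submodule F (Fin m ⊕ Fin m → F))
    (g : Matrix (Fin m ⊕ Fin m) (Fin m ⊕ Fin m) F)
    (h : ∀ x ∈ X, g *ᵥ x ∈ A ∨ g *ᵥ x ∈ B) :
    (∀ x ∈ X, g *ᵥ x ∈ A) ∨ (∀ x ∈ X, g *ᵥ x ∈ B) := by
  by_contra hcon
  rw [not_or, not_forall, not_forall] at hcon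
  obtain ⟨⟨x₁, h1⟩, ⟨x₂, h2⟩⟩ := hcon
  rw [Classical.not_imp] at h1 h2
  obtain ⟨hx₁, h1⟩ := h1
  obtain ⟨hx₂, h2⟩ := h2
  have h1B : g *ᵥ x₁ ∈ B := (h x₁ hx₁).resolve_left h1
  have h2A : g *ᵥ x₂ ∈ A := (h x₂ hx₂).resolve_right h2
  rcases h (x₁ + x₂) (X.add_mem hx₁ hx₂) with h3 | h3
  · rw [Matrix.mulVec_add] at h3
    exact h1 ((Submodule.add_mem_iff_left A h2A).1 h3)
  · rw [Matrix.mulVec_add] at h3
    exact h2 ((Submodule.add_mem_iff_right B h1B).1 h3)

variable (W : Submodule F (Fin m ⊕ Fin m → F)) (M : Subgroup (GL (Fin m ⊕ Fin m) F))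
variable (hPM : Cfsg.Geo.subspaceStabilizer W ⊓ Cfsg.spGL m F ≤ M) (hMS : M ≤ Cfsg.spGL m F)
variable (hW : Cfsg.Geo.IsNondegenerateOn (Cfsg.sympForm m F) W)

include hW in
lemma finrank_add (hdim : Module.finrank F W < m) : m < Module.finrank F (perp m W) := by
  have htop : W ⊔ perp m W = ⊤ := by
    rw [eq_top_iff]
    intro v _
    obtain ⟨a, ha, b, hb, rfl⟩ := exists_decomp m W hW v
    exact Submodule.add_mem_sup ha hb
  have h1 := Submodule.finrank_add_le_finrank_add_finrank W (perp m W)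
  rw [htop, finrank_top, Module.finrank_fintype_fun_eq_card, Fintype.card_sum, Fintype.card_fin] at h1
  omega

include hPM hMS hW in
lemma exists_mixed (hdim : Module.finrank F W < m) (h' : GL (Fin m ⊕ Fin m) F) (hh' : h' ∈ M)
    (w : Fin m ⊕ Fin m → F) (hw : w ∈ W)
    (hhw : (h' : Matrix (Fin m ⊕ Fin m) (Fin m ⊕ Fin m) F) *ᵥ w ∉ W) :
    ∃ a ∈ W, ∃ b ∈ perp m W, a ≠ 0 ∧ b ≠ 0 ∧ a + b ∈ SS m M := by
  by_contra hcon
  have hS : ∀ s ∈ SS m M, s ∈ W ∨ s ∈ perp m W := by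
    intro s hs
    obtain ⟨a, ha, b, hb, rfl⟩ := exists_decomp m W hW s
    by_cases ha0 : a = 0
    · right; rw [ha0, zero_add]; exact hb
    by_cases hb0 : b = 0
    · left; rw [hb0, add_zero]; exact ha
    exact absurd ⟨a, ha, b, hb, ha0, hb0, hs⟩ hcon
  have hw0 : w ≠ 0 := by
    rintro rfl
    apply hhw
    rw [Matrix.mulVec_zero]; exact W.zero_mem
  -- images of W
  have h1 : ∀ x ∈ W, (h' : Matrix (Fin m ⊕ Fin m) (Fin m ⊕ Fin m) F) *ᵥ x ∈ W ∨
      (h' : Matrix (Fin m ⊕ Fin m) (Fin m ⊕ Fin m) F) *ᵥ x ∈ perp m W := fun x hx =>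
    hS _ (mulVec_mem_SS m M hMS h' hh' x (mem_SS_of_mem m W M hPM x hx))
  have h2 : ∀ x ∈ perp m W, (h' : Matrix (Fin m ⊕ Fin m) (Fin m ⊕ Fin m) F) *ᵥ x ∈ W ∨
      (h' : Matrix (Fin m ⊕ Fin m) (Fin m ⊕ Fin m) F) *ᵥ x ∈ perp m W := fun x hx =>
    hS _ (mulVec_mem_SS m M hMS h' hh' x (mem_SS_of_perp m W M hPM x hx))
  have h1' : ∀ x ∈ W, (h' : Matrix (Fin m ⊕ Fin m) (Fin m ⊕ Fin m) F) *ᵥ x ∈ perp m W := by
    rcases union_lemma m W (perp m W) W _ h1 with h | h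
    · exact absurd (h w hw) hhw
    · exact h
  rcases union_lemma m W (perp m W) (perp m W) _ h2 with h | h
  · -- dimension contradiction
    have hlt := finrank_add m W hW hdim
    let L : perp m W →ₗ[F] W :=
      LinearMap.codRestrict W ((Matrix.mulVecLin (h' : Matrix (Fin m ⊕ Fin m) (Fin m ⊕ Fin m) F)).comp
        (perp m W).subtype) (fun x => h x.1 x.2)
    have hL : Function.Injective L := by
      intro x y hxy
      have h3 : (h' : Matrix (Fin m ⊕ Fin m) (Fin m ⊕ Fin m) F) *ᵥ x.1 =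
          (h' : Matrix (Fin m ⊕ Fin m) (Fin m ⊕ Fin m) F) *ᵥ y.1 := congrArg Subtype.val hxy
      have h4 := congrArg (fun z => ((h'⁻¹ : GL (Fin m ⊕ Fin m) F) :
        Matrix (Fin m ⊕ Fin m) (Fin m ⊕ Fin m) F) *ᵥ z) h3
      simp only [inv_mulVec_mulVec] at h4
      exact Subtype.ext h4
    have := LinearMap.finrank_le_finrank_of_injective hL
    omega
  · -- everything is mapped into perp
    have hall : ∀ v, (h' : Matrix (Fin m ⊕ Fin m) (Fin m ⊕ Fin m) F) *ᵥ v ∈ perp m W := by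
      intro v
      obtain ⟨a, ha, b, hb, rfl⟩ := exists_decomp m W hW v
      rw [Matrix.mulVec_add]
      exact (perp m W).add_mem (h1' a ha) (h b hb)
    have h3 := hall (((h'⁻¹ : GL (Fin m ⊕ Fin m) F) :
      Matrix (Fin m ⊕ Fin m) (Fin m ⊕ Fin m) F) *ᵥ w)
    rw [mulVec_inv_mulVec] at h3
    exact hw0 (inf_perp_eq_bot m W hW w hw h3)

end Mixed

theorem result {F : Type*} [Field F] [Fintype F] (m : ℕ) (hm : 7 ≤ m) (W : Submodule F (Fin m ⊕ Fin m → F)) (hW0 : W ≠ ⊥) (hW : Cfsg.Geo.IsNondegenerateOn (Cfsg.sympForm m F) W) (hdim : Module.finrank F W < m) : Cfsg.Geo.IsMaximalIn (Cfsg.spGL m F) (Cfsg.Geo.subspaceStabilizer W ⊓ Cfsg.spGL m F) := by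
  refine ⟨lt_of_le_of_ne inf_le_right ?_, ?_⟩
  · intro heq
    obtain ⟨w, hwW, hw0⟩ := Submodule.exists_mem_ne_zero_of_ne_bot hW0
    -- a vector outside W
    obtain ⟨y, hy⟩ : ∃ y, y ∉ W := by
      by_contra hcon
      have htop : W = ⊤ := by
        rw [eq_top_iff]
        intro x _
        by_contra hx
        exact hcon ⟨x, hx⟩
      rw [htop, finrank_top, Module.finrank_fintype_fun_eq_card, Fintype.card_sum,
        Fintype.card_fin] at hdim
      omega
    obtain ⟨u, huW, hu⟩ : ∃ u, u ∉ W ∧ sympForm m F w u ≠ 0 := by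
      by_cases h1 : sympForm m F w y = 0
      · obtain ⟨x, hx⟩ := exists_sympForm_ne_zero m hw0
        by_cases hxW : x ∈ W
        · refine ⟨x + y, fun h => hy ((Submodule.add_mem_iff_right W hxW).1 h), ?_⟩
          rw [sympForm_add_right, h1, add_zero]; exact hx
        · exact ⟨x, hxW, hx⟩
      · exact ⟨y, hy, h1⟩
    have h1 : T m u 1 ∈ Cfsg.Geo.subspaceStabilizer W ⊓ Cfsg.spGL m F := by
      rw [heq]; exact T_mem_spGL m u 1
    have h2 := ((mem_stab_iff m W _).1 h1.1 w).1 hwW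
    rw [T_mulVec, one_mul] at h2
    have h3 : (sympForm m F w u) • u ∈ W := (Submodule.add_mem_iff_right W hwW).1 h2
    have h4 : u ∈ W := by
      have := W.smul_mem (sympForm m F w u)⁻¹ h3
      rwa [smul_smul, inv_mul_cancel₀ hu, one_smul] at this
    exact huW h4
  · intro M hPM hMS
    by_cases hMP : M ≤ Cfsg.Geo.subspaceStabilizer W ⊓ Cfsg.spGL m F
    · left; exact le_antisymm hMP hPM
    · right
      apply le_antisymm hMS
      rw [SetLike.not_le_iff_exists] at hMP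
      obtain ⟨h, hhM, hhP⟩ := hMP
      have hhS : h ∉ Cfsg.Geo.subspaceStabilizer W := fun hh => hhP ⟨hh, hMS hhM⟩
      have hex : ∃ h' ∈ M, ∃ w ∈ W,
          (h' : Matrix (Fin m ⊕ Fin m) (Fin m ⊕ Fin m) F) *ᵥ w ∉ W := by
        rw [mem_stab_iff] at hhS
        rw [not_forall] at hhS
        obtain ⟨v, hv⟩ := hhS
        by_cases hvW : v ∈ W
        · refine ⟨h, hhM, v, hvW, ?_⟩
          intro h'
          exact hv ⟨fun _ => h', fun _ => hvW⟩
        · have hhv : (h : Matrix (Fin m ⊕ Fin m) (Fin m ⊕ Fin m) F) *ᵥ v ∈ W := by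
            by_contra h'
            exact hv ⟨fun h'' => absurd h'' hvW, fun h'' => absurd h'' h'⟩
          refine ⟨h⁻¹, M.inv_mem hhM, _, hhv, ?_⟩
          rw [inv_mulVec_mulVec]
          exact hvW
      obtain ⟨h', hh'M, w₀, hw₀W, hy⟩ := hex
      obtain ⟨a, ha, b, hb, ha0, hb0, hs⟩ := exists_mixed m W M hPM hMS hW hdim h' hh'M w₀ hw₀W hy
      apply spGL_le
      intro v c
      exact SS_univ_of_mixed m W M hPM hMS hW a b ha hb ha0 hb0 hs v c

end Part2

end Cfsg.Agent.S5646
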