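import Cfsg.Statements.S5347

set_option autoImplicit false
open Cfsg

namespace Cfsg.Agent.S5347

theorem result {G : Type*} [Group G] [Finite G] {D : Set G} (hD : Cfsg.IsThreeTranspositionGroup D) {p : ℕ} (hp : p.Prime) (hp3 : 3 < p) (P : Subgroup G) (hP : IsPGroup p P) {d : G} (hd : d ∈ D) (hnorm : d ∈ Subgroup.normalizer (P : Set G)) : ∀ x ∈ P, Commute d x := by
  intro x hx
  obtain ⟨⟨hord, h23⟩, hconj, _⟩ := hD
  have hdd : d * d = 1 := by rw [← pow_two, ← hord d hd, pow_orderOf_eq_one]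
  have hdinv : d⁻¹ = d := inv_eq_of_mul_eq_one_right hdd
  have he : x⁻¹ * d * x ∈ D := by
    have := hconj x⁻¹ d hd
    rwa [inv_inv] at this
  -- y = d x⁻¹ d⁻¹ x ∈ P
  have hyP : d * x⁻¹ * d⁻¹ * x ∈ P := by
    have h1 : d * x⁻¹ * d⁻¹ ∈ P := (Subgroup.mem_normalizer_iff.mp hnorm x⁻¹).mp (P.inv_mem hx)
    exact P.mul_mem h1 hx
  have hyeq : d * x⁻¹ * d⁻¹ * x = d * (x⁻¹ * d * x) := by rw [hdinv]; group
  obtain ⟨k, hk⟩ := hP ⟨_, hyP⟩
  have hk' : (d * x⁻¹ * d⁻¹ * x) ^ (p ^ k) = 1 := by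
    have := congrArg Subtype.val hk
    simpa using this
  have hy1 : d * x⁻¹ * d⁻¹ * x = 1 := by
    rw [← orderOf_eq_one_iff]
    have hdvd1 : orderOf (d * x⁻¹ * d⁻¹ * x) ∣ p ^ k := orderOf_dvd_of_pow_eq_one hk'
    rcases h23 d hd _ he with h | h
    · rw [← hyeq] at h
      have hdvd2 : orderOf (d * x⁻¹ * d⁻¹ * x) ∣ 2 := orderOf_dvd_of_pow_eq_one h
      have hcop : Nat.Coprime (p ^ k) 2 := by
        apply Nat.Coprime.pow_left
        rw [Nat.coprime_primes hp Nat.prime_two]; omega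
      exact Nat.eq_one_of_dvd_coprimes hcop hdvd1 hdvd2
    · rw [← hyeq] at h
      have hdvd2 : orderOf (d * x⁻¹ * d⁻¹ * x) ∣ 3 := orderOf_dvd_of_pow_eq_one h
      have hcop : Nat.Coprime (p ^ k) 3 := by
        apply Nat.Coprime.pow_left
        rw [Nat.coprime_primes hp Nat.prime_three]; omega
      exact Nat.eq_one_of_dvd_coprimes hcop hdvd1 hdvd2
  unfold Commute SemiconjBy
  have : d * x⁻¹ * d⁻¹ = x⁻¹ := by
    have := congrArg (fun w => w * x⁻¹) hy1
    simpa using this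
  have h2 : d * x⁻¹ = x⁻¹ * d := by
    have := congrArg (fun w => w * d) this
    simpa using this
  calc d * x = x * (x⁻¹ * d) * x := by group
    _ = x * (d * x⁻¹) * x := by rw [h2]
    _ = x * d := by group

end Cfsg.Agent.S5347
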