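import Cfsg.Statements.S5349
import Mathlib
import Cfsg.Agent.Lib.Lead.ThreeTransp

set_option autoImplicit false
set_option linter.style.haveILetI false
set_option linter.unusedVariables false
open Cfsg

namespace Cfsg.Agent.S5349

/-- Let D be a conjugacy class of 3-transpositions generating the finite group G, with at least two members, and d a member of D. Then the set of members of D commuting with exactly the same members of D as d coincides with the set of members of D lying in the coset of d modulo the largest normal 2-subgroup of G, and also with the orbit of d under conjugation by that normal 2-subgroup. -/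
theorem result {G : Type*} [Group G] [Finite G] {D : Set G} (hD : Cfsg.IsThreeTranspositionClass D) (hD2 : ∃ a ∈ D, ∃ b ∈ D, a ≠ b) {d : G} (hd : d ∈ D) : {v : G | v ∈ D ∧ ∀ e ∈ D, Commute v e ↔ Commute d e} = {v : G | v ∈ D ∧ d⁻¹ * v ∈ Cfsg.pCore 2 G} ∧ {v : G | v ∈ D ∧ ∀ e ∈ D, Commute v e ↔ Commute d e} = {v : G | ∃ g ∈ Cfsg.pCore 2 G, v = g * d * g⁻¹} := by
  haveI hNn := Cfsg.Agent.H9.pCore_normal 2 G
  have hdd := Cfsg.Agent.Lead.TT.sq_one hD.1 hd
  have hdi := Cfsg.Agent.Lead.TT.inv_eq hD.1 hd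
  -- C ⊆ B
  have hCB : {v : G | ∃ g ∈ Cfsg.pCore 2 G, v = g * d * g⁻¹} ⊆
      {v : G | v ∈ D ∧ d⁻¹ * v ∈ Cfsg.pCore 2 G} := by
    rintro v ⟨g, hg, rfl⟩
    refine ⟨Cfsg.Agent.Lead.TT.conj_mem hD hd g, ?_⟩
    have h1 : d⁻¹ * g * d⁻¹⁻¹ ∈ Cfsg.pCore 2 G := hNn.conj_mem g hg d⁻¹
    have h2 := Subgroup.mul_mem _ h1 (Subgroup.inv_mem _ hg)
    have e : d⁻¹ * g * d⁻¹⁻¹ * g⁻¹ = d⁻¹ * (g * d * g⁻¹) := by group
    rwa [e] at h2
  -- B ⊆ A
  have hBA : {v : G | v ∈ D ∧ d⁻¹ * v ∈ Cfsg.pCore 2 G} ⊆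
      {v : G | v ∈ D ∧ ∀ e ∈ D, Commute v e ↔ Commute d e} := by
    rintro v ⟨hvD, hv⟩
    refine ⟨hvD, fun e he => ⟨fun hc => ?_, fun hc => ?_⟩⟩
    · have hv' : v⁻¹ * d ∈ Cfsg.pCore 2 G := by
        have := Subgroup.inv_mem _ hv
        rwa [mul_inv_rev, inv_inv] at this
      exact Cfsg.Agent.Lead.TT.comm_of_core hD hvD hd he hv' hc
    · exact Cfsg.Agent.Lead.TT.comm_of_core hD hd hvD he hv hc
  -- A ⊆ C
  have hAC : {v : G | v ∈ D ∧ ∀ e ∈ D, Commute v e ↔ Commute d e} ⊆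
      {v : G | ∃ g ∈ Cfsg.pCore 2 G, v = g * d * g⁻¹} := by
    rintro v hv
    have hrel : Cfsg.Agent.Lead.TT.Rel D d v := hv
    by_cases hvd : d = v
    · exact ⟨1, Subgroup.one_mem _, by rw [← hvd]; group⟩
    · obtain ⟨e, he, hde⟩ := Cfsg.Agent.Lead.TT.exists_not_comm hD hD2 hd
      have hev : ¬ Commute e v := fun hh => hde ((hrel.2 e he).mp hh.symm)
      have hz := Cfsg.Agent.Lead.TT.rel_mem_core hD hd hrel
      have hid := (Cfsg.Agent.Lead.TT.string_identities hD.1 hd he hrel.1 hvd (hrel.comm hd)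
        hde hev).1
      exact ⟨e * (d * v) * e⁻¹, hNn.conj_mem _ hz e, hid.symm⟩
  exact ⟨Set.Subset.antisymm (hAC.trans hCB) hBA, Set.Subset.antisymm hAC (hCB.trans hBA)⟩

end Cfsg.Agent.S5349
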