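import Cfsg.Statements.S5350
import Cfsg.Agent.H9.TT3W

set_option autoImplicit false
open Cfsg

namespace Cfsg.Agent.S5350

/-- Let D be a conjugacy class of 3-transpositions generating the finite group G, with at least two members, and d a member of D. Then the set of members w of D whose commuting partners in D (other than w) are exactly those of d (other than d) coincides with the set of members of D lying in the coset of d modulo the largest normal 3-subgroup of G, and also with the orbit of d under conjugation by that normal 3-subgroup. -/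
theorem result {G : Type*} [Group G] [Finite G] {D : Set G} (hD : Cfsg.IsThreeTranspositionClass D) (hD2 : ∃ a ∈ D, ∃ b ∈ D, a ≠ b) {d : G} (hd : d ∈ D) : {w : G | w ∈ D ∧ {y : G | y ∈ D ∧ y ≠ d ∧ Commute d y} = {y : G | y ∈ D ∧ y ≠ w ∧ Commute w y}} = {w : G | w ∈ D ∧ d⁻¹ * w ∈ Cfsg.pCore 3 G} ∧ {w : G | w ∈ D ∧ {y : G | y ∈ D ∧ y ≠ d ∧ Commute d y} = {y : G | y ∈ D ∧ y ≠ w ∧ Commute w y}} = {w : G | ∃ g ∈ Cfsg.pCore 3 G, w = g * d * g⁻¹} := by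
  obtain ⟨hT, ⟨d₀, hd₀, hcls⟩, hgen⟩ := hD
  have hconj : ∀ g : G, ∀ a ∈ D, g * a * g⁻¹ ∈ D := by
    intro g a ha
    rw [hcls] at ha ⊢
    have ha' : IsConj d₀ a := ha
    rw [isConj_iff] at ha'
    obtain ⟨c, rfl⟩ := ha'
    show IsConj d₀ _
    rw [isConj_iff]
    exact ⟨g * c, by group⟩
  have hPn : (Cfsg.pCore 3 G).Normal := Cfsg.Agent.H1.pCore_normal 3
  have hPp : IsPGroup 3 (Cfsg.pCore 3 G) := Cfsg.Agent.H1.pCore_isPGroup 3
  have hP2 : ∀ z ∈ Cfsg.pCore 3 G, z * z = 1 → z = 1 := by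
    intro x hx hx2
    obtain ⟨j, hj⟩ := (IsPGroup.iff_orderOf.mp hPp) ⟨x, hx⟩
    rw [Subgroup.orderOf_mk] at hj
    have h1 : orderOf x ∣ 2 := orderOf_dvd_of_pow_eq_one (by rw [pow_two]; exact hx2)
    rw [← orderOf_eq_one_iff]
    rcases (Nat.dvd_prime Nat.prime_two).1 h1 with h' | h'
    · exact h'
    · exfalso
      rw [h'] at hj
      rcases Nat.eq_zero_or_pos j with rfl | hjpos
      · norm_num at hj
      · have : 3 ∣ 2 := by rw [hj]; exact dvd_pow_self 3 hjpos.ne'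
        omega
  have hdi := Cfsg.Agent.H9.TT3Width.inv_eq_of_mem hT hd
  have hd2 := Cfsg.Agent.H9.TT3Width.inv_of_mem hT hd
  have h12 : {w : G | w ∈ D ∧ {y : G | y ∈ D ∧ y ≠ d ∧ Commute d y} = {y : G | y ∈ D ∧ y ≠ w ∧ Commute w y}} ⊆ {w : G | ∃ g ∈ Cfsg.pCore 3 G, w = g * d * g⁻¹} := by
    rintro w ⟨hw, hrel⟩
    have hrel' : Cfsg.Agent.H9.TT3Width.Cs D d = Cfsg.Agent.H9.TT3Width.Cs D w := hrel
    refine ⟨d * w, Cfsg.Agent.H9.TT3Width.mul_mem_pCore_of_rel hconj hT hd hw hrel', ?_⟩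
    by_cases hdw : d = w
    · rw [← hdw, hd2]
      group
    · have hnc := Cfsg.Agent.H9.TT3Width.not_commute_of_rel hT hw hrel' hdw
      have h3 := Cfsg.Agent.H9.TT3Width.cube_of_not_commute hT hd hw hnc
      exact (Cfsg.Agent.H9.TT3Width.conj_of_cube hT hd hw h3).symm
  have h23 : {w : G | ∃ g ∈ Cfsg.pCore 3 G, w = g * d * g⁻¹} ⊆ {w : G | w ∈ D ∧ d⁻¹ * w ∈ Cfsg.pCore 3 G} := by
    rintro w ⟨g, hg, rfl⟩
    refine ⟨hconj g d hd, ?_⟩
    have : d⁻¹ * (g * d * g⁻¹) = (d⁻¹ * g * d⁻¹⁻¹) * g⁻¹ := by group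
    rw [this]
    exact Subgroup.mul_mem _ (hPn.conj_mem g hg d⁻¹) (Subgroup.inv_mem _ hg)
  have h31 : {w : G | w ∈ D ∧ d⁻¹ * w ∈ Cfsg.pCore 3 G} ⊆ {w : G | w ∈ D ∧ {y : G | y ∈ D ∧ y ≠ d ∧ Commute d y} = {y : G | y ∈ D ∧ y ≠ w ∧ Commute w y}} := by
    rintro w ⟨hw, hdw⟩
    rw [hdi] at hdw
    exact ⟨hw, Cfsg.Agent.H9.TT3Width.Cs_eq_of_mul_mem hT (Cfsg.pCore 3 G) hP2 hd hw hdw⟩
  exact ⟨Set.Subset.antisymm (h12.trans h23) h31, Set.Subset.antisymm h12 (h23.trans h31)⟩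

end Cfsg.Agent.S5350
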