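import Cfsg.Statements.S5353
import Cfsg.Agent.H9.TT3Prim

set_option autoImplicit false
open Cfsg

namespace Cfsg.Agent.S5353

/-- Let D be a conjugacy class of 3-transpositions generating the finite group G, with at least two members, such that the largest normal 2-subgroup and the largest normal 3-subgroup of G are central, and let L be a quasisimple normal subgroup with generalized Fitting subgroup of G equal to L times the centre. If L has index at most 2 then G acts primitively on D by conjugation; and if the commuting graph of D is connected then L has index at most 2. -/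
theorem result {G : Type*} [Group G] [Finite G] {D : Set G} (hD : Cfsg.IsThreeTranspositionClass D) (hD2 : ∃ a ∈ D, ∃ b ∈ D, a ≠ b) (h2 : Cfsg.pCore 2 G ≤ Subgroup.center G) (h3 : Cfsg.pCore 3 G ≤ Subgroup.center G) (L : Subgroup G) [L.Normal] (hL : Cfsg.IsQuasisimple L) (hF : Cfsg.generalizedFittingSubgroup G = L ⊔ Subgroup.center G) : (L.index ≤ 2 → Cfsg.IsPrimitiveUnderConj D) ∧ ((Cfsg.commutingGraph D).Connected → L.index ≤ 2) := by
  have hD' := hD
  obtain ⟨hT, ⟨d, hd, hcls₀⟩, hgen⟩ := hD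
  have hcls : ∀ e ∈ D, ∃ g : G, e = g * d * g⁻¹ := by
    intro e he
    rw [hcls₀] at he
    have he' : IsConj d e := he
    rw [isConj_iff] at he'
    obtain ⟨c, hc⟩ := he'
    exact ⟨c, hc.symm⟩
  have hconj : ∀ g : G, ∀ a ∈ D, g * a * g⁻¹ ∈ D := by
    intro g a ha
    obtain ⟨c, rfl⟩ := hcls a ha
    rw [hcls₀]
    show IsConj d _
    rw [isConj_iff]
    exact ⟨g * c, by group⟩
  have hclsOf : ∀ c ∈ D, ∀ e ∈ D, ∃ g : G, e = g * c * g⁻¹ := by
    intro c hc e he
    obtain ⟨g₁, rfl⟩ := hcls c hc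
    obtain ⟨g₂, rfl⟩ := hcls e he
    exact ⟨g₂ * g₁⁻¹, by group⟩
  have hLc := Cfsg.Agent.H9.TT3Width.layer_isComponent hT hconj hgen hd hcls hD2 h2 h3
  have hLn : L.Normal := inferInstance
  have hLeq : L = Cfsg.layer G :=
    Cfsg.Agent.H9.TT3Width.component_unique hT hconj hgen hd hcls ⟨hLn.isSubnormal, hL⟩ hLc
  rw [hLeq]
  refine ⟨?_, ?_⟩
  · intro hidx
    refine ⟨?_, hD2, ?_⟩
    · intro a ha b hb
      obtain ⟨g, hg⟩ := hclsOf a ha b hb
      exact ⟨g, hg.symm⟩
    · intro B hBD hB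
      by_contra hcon
      push Not at hcon
      obtain ⟨hns, hne⟩ := hcon
      obtain ⟨a, haB, b, hbB, hab⟩ := hns
      apply hne
      apply Set.Subset.antisymm hBD
      have hRs : ∀ x y : G, (∃ g : G, x ∈ (fun u => g * u * g⁻¹) '' B ∧ y ∈ (fun u => g * u * g⁻¹) '' B) →
          (∃ g : G, y ∈ (fun u => g * u * g⁻¹) '' B ∧ x ∈ (fun u => g * u * g⁻¹) '' B) := by
        rintro x y ⟨g, h1, h2⟩
        exact ⟨g, h2, h1⟩
      have hRt : ∀ x y z : G, (∃ g : G, x ∈ (fun u => g * u * g⁻¹) '' B ∧ y ∈ (fun u => g * u * g⁻¹) '' B) →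
          (∃ g : G, y ∈ (fun u => g * u * g⁻¹) '' B ∧ z ∈ (fun u => g * u * g⁻¹) '' B) →
          (∃ g : G, x ∈ (fun u => g * u * g⁻¹) '' B ∧ z ∈ (fun u => g * u * g⁻¹) '' B) := by
        rintro x y z ⟨g, hx, ⟨u, hu, hyu⟩⟩ ⟨g', ⟨v, hv, hyv⟩, ⟨w, hw, hzw⟩⟩
        refine ⟨g, hx, ?_⟩
        simp only at hyu hyv hzw
        have huv : (g⁻¹ * g') * v * (g⁻¹ * g')⁻¹ = u := by
          have : g' * v * g'⁻¹ = g * u * g⁻¹ := by rw [hyu, hyv]
          calc (g⁻¹ * g') * v * (g⁻¹ * g')⁻¹ = g⁻¹ * (g' * v * g'⁻¹) * g := by group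
            _ = g⁻¹ * (g * u * g⁻¹) * g := by rw [this]
            _ = u := by group
        have hBeq : (fun x => (g⁻¹ * g') * x * (g⁻¹ * g')⁻¹) '' B = B := by
          rcases hB (g⁻¹ * g') with h | h
          · exact h
          · exfalso
            exact Set.disjoint_left.1 h ⟨v, hv, huv⟩ hu
        have hwB : (g⁻¹ * g') * w * (g⁻¹ * g')⁻¹ ∈ B := by
          rw [← hBeq]
          exact ⟨w, hw, rfl⟩
        refine ⟨_, hwB, ?_⟩
        simp only
        rw [← hzw]
        group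
      have hRr : ∀ x ∈ D, (∃ g : G, x ∈ (fun u => g * u * g⁻¹) '' B ∧ x ∈ (fun u => g * u * g⁻¹) '' B) := by
        intro x hx
        obtain ⟨g, hg⟩ := hclsOf a (hBD haB) x hx
        exact ⟨g, ⟨a, haB, hg.symm⟩, ⟨a, haB, hg.symm⟩⟩
      have hRc : ∀ g x y : G, (∃ k : G, x ∈ (fun u => k * u * k⁻¹) '' B ∧ y ∈ (fun u => k * u * k⁻¹) '' B) →
          (∃ k : G, g * x * g⁻¹ ∈ (fun u => k * u * k⁻¹) '' B ∧ g * y * g⁻¹ ∈ (fun u => k * u * k⁻¹) '' B) := by
        rintro g x y ⟨k, ⟨u, hu, hxu⟩, ⟨v, hv, hyv⟩⟩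
        simp only at hxu hyv
        refine ⟨g * k, ⟨u, hu, ?_⟩, ⟨v, hv, ?_⟩⟩
        · simp only
          rw [← hxu]
          group
        · simp only
          rw [← hyv]
          group
      have hall := Cfsg.Agent.H9.TT3Width.rel_all_of_index_le_two hT hconj hgen hD' hD2 hd hcls h2 h3
        hLc hidx
        (fun x y => ∃ g : G, x ∈ (fun u => g * u * g⁻¹) '' B ∧ y ∈ (fun u => g * u * g⁻¹) '' B)
        hRs hRt hRr hRc (hBD haB) (hBD hbB) hab
        ⟨1, ⟨a, haB, by simp⟩, ⟨b, hbB, by simp⟩⟩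
      intro e he
      obtain ⟨g, hag, heg⟩ := hall e he
      rcases hB g with h | h
      · rw [h] at heg
        exact heg
      · exfalso
        exact Set.disjoint_left.1 h hag haB
  · intro hconn
    exact Cfsg.Agent.H9.TT3Width.index_le_two_of_connected hT hconj hgen hd hcls hLc hconn

end Cfsg.Agent.S5353
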