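import Cfsg.Statements.S0560
import Mathlib
import Cfsg.Agent.Lib.Lead.ProdCard
import Cfsg.Agent.Lib.Lead.TISylow

set_option autoImplicit false
open Pointwise
open Cfsg

namespace Cfsg.Agent.S0560

open Cfsg.Agent.Lib.Lead.ProdCard Cfsg.Agent.Lib.Lead.TISylow
open scoped Pointwise



/-- Let the finite group G be the product HK of two subgroups and p a prime. Then there are Sylow p-subgroups P of H and Q of K and a Sylow p-subgroup R of G whose underlying set is the product set of P and Q. -/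
theorem result {G : Type*} [Group G] [Finite G] (H K : Subgroup G) (hHK : ∀ g : G, ∃ h ∈ H, ∃ k ∈ K, g = h * k) (p : ℕ) [Fact p.Prime] : ∃ (P : Sylow p H) (Q : Sylow p K) (R : Sylow p G), ((R : Subgroup G) : Set G) = (((P : Subgroup H).map H.subtype : Subgroup G) : Set G) * (((Q : Subgroup K).map K.subtype : Subgroup G) : Set G) := by
  have hp : p.Prime := Fact.out
  obtain ⟨P₀⟩ : Nonempty (Sylow p ↥H) := inferInstance
  obtain ⟨Q₀⟩ : Nonempty (Sylow p ↥K) := inferInstance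
  obtain ⟨R₀, hR₀⟩ := (P₀.isPGroup'.map H.subtype).exists_le_sylow
  obtain ⟨R₁, hR₁⟩ := (Q₀.isPGroup'.map K.subtype).exists_le_sylow
  obtain ⟨g, hg⟩ := MulAction.exists_smul_eq G R₀ R₁
  obtain ⟨h, hh, k, hk, hghk⟩ := hHK g⁻¹
  have hgeq : g = k⁻¹ * h⁻¹ := by
    have : g = (g⁻¹)⁻¹ := (inv_inv g).symm
    rw [this, hghk]; group
  refine ⟨(⟨h⁻¹, inv_mem hh⟩ : ↥H) • P₀, (⟨k, hk⟩ : ↥K) • Q₀, h⁻¹ • R₀, ?_⟩
  -- containments
  have hPR : ((((⟨h⁻¹, inv_mem hh⟩ : ↥H) • P₀ : Sylow p ↥H) : Subgroup ↥H).map H.subtype : Subgroup G) ≤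
      ((h⁻¹ • R₀ : Sylow p G) : Subgroup G) := by
    rintro _ ⟨y, hy, rfl⟩
    rw [SetLike.mem_coe, mem_sylow_smul] at hy
    rw [mem_sylow_smul]
    have h1 := hR₀ (Subgroup.mem_map_of_mem H.subtype hy)
    simpa using h1
  have hQR : ((((⟨k, hk⟩ : ↥K) • Q₀ : Sylow p ↥K) : Subgroup ↥K).map K.subtype : Subgroup G) ≤
      ((h⁻¹ • R₀ : Sylow p G) : Subgroup G) := by
    rintro _ ⟨y, hy, rfl⟩
    rw [SetLike.mem_coe, mem_sylow_smul] at hy
    rw [mem_sylow_smul]
    have h1 := hR₁ (Subgroup.mem_map_of_mem K.subtype hy)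
    rw [← hg, mem_sylow_smul, hgeq] at h1
    have e : (k⁻¹ * h⁻¹)⁻¹ * K.subtype ((⟨k, hk⟩ : ↥K)⁻¹ * y * ⟨k, hk⟩) * (k⁻¹ * h⁻¹) =
        h⁻¹⁻¹ * K.subtype y * h⁻¹ := by
      simp only [Subgroup.subtype_apply, Subgroup.coe_mul, Subgroup.coe_inv]
      group
    rwa [e] at h1
  set P' : Subgroup G := (((⟨h⁻¹, inv_mem hh⟩ : ↥H) • P₀ : Sylow p ↥H) : Subgroup ↥H).map H.subtype with hP'
  set Q' : Subgroup G := (((⟨k, hk⟩ : ↥K) • Q₀ : Sylow p ↥K) : Subgroup ↥K).map K.subtype with hQ'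
  set R : Sylow p G := h⁻¹ • R₀ with hR
  have hsub : (P' : Set G) * (Q' : Set G) ⊆ ((R : Subgroup G) : Set G) := by
    rintro _ ⟨a, ha, b, hb, rfl⟩
    exact mul_mem (hPR ha) (hQR hb)
  symm
  apply Set.eq_of_subset_of_ncard_le hsub _ (Set.toFinite _)
  -- cardinalities
  have cP : Nat.card ↥P' = p ^ (Nat.card ↥H).factorization p := by
    rw [hP', Subgroup.card_map_of_injective H.subtype_injective]
    exact Sylow.card_eq_multiplicity _
  have cQ : Nat.card ↥Q' = p ^ (Nat.card ↥K).factorization p := by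
    rw [hQ', Subgroup.card_map_of_injective K.subtype_injective]
    exact Sylow.card_eq_multiplicity _
  have cR : Nat.card ↥(R : Subgroup G) = p ^ (Nat.card G).factorization p := Sylow.card_eq_multiplicity _
  have hHKuniv : (H : Set G) * (K : Set G) = Set.univ := by
    rw [Set.eq_univ_iff_forall]
    intro x
    obtain ⟨a, ha, b, hb, rfl⟩ := hHK x
    exact Set.mem_mul.2 ⟨a, ha, b, hb, rfl⟩
  have f1 := card_mul_card_eq H K
  rw [hHKuniv, Set.ncard_univ] at f1
  have f2 := card_mul_card_eq P' Q'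
  -- `P' ⊓ Q'` is a `p`-subgroup of `H ⊓ K`
  have hPQp : IsPGroup p ↥(P' ⊓ Q') := by
    have : IsPGroup p ↥P' := (Sylow.isPGroup' _).map _
    exact this.to_le inf_le_left
  obtain ⟨e, he⟩ := IsPGroup.iff_card.1 hPQp
  have hle : P' ⊓ Q' ≤ H ⊓ K :=
    inf_le_inf (Subgroup.map_subtype_le _) (Subgroup.map_subtype_le _)
  have hed : p ^ e ∣ Nat.card ↥(H ⊓ K) := he ▸ Subgroup.card_dvd_of_le hle
  have hele : e ≤ (Nat.card ↥(H ⊓ K)).factorization p :=
    (hp.pow_dvd_iff_le_factorization Nat.card_pos.ne').1 hed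
  have hfac : (Nat.card ↥H).factorization p + (Nat.card ↥K).factorization p =
      (Nat.card G).factorization p + (Nat.card ↥(H ⊓ K)).factorization p := by
    have : (Nat.card ↥H * Nat.card ↥K).factorization p =
        (Nat.card G * Nat.card ↥(H ⊓ K)).factorization p := by rw [f1]
    rw [Nat.factorization_mul Nat.card_pos.ne' Nat.card_pos.ne',
      Nat.factorization_mul Nat.card_pos.ne' Nat.card_pos.ne'] at this
    simpa using this
  rw [cP, cQ, he, ← pow_add] at f2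
  have hncard : ((R : Subgroup G) : Set G).ncard = p ^ (Nat.card G).factorization p := by
    rw [← cR]; rfl
  rw [hncard]
  -- `ncard (P'Q') = p ^ (vH + vK - e)`
  have hpos : 0 < p ^ e := pow_pos hp.pos e
  have hge : p ^ (Nat.card G).factorization p * p ^ e ≤ ((P' : Set G) * (Q' : Set G)).ncard * p ^ e := by
    rw [← f2, ← pow_add]
    apply Nat.pow_le_pow_right hp.pos
    omega
  exact Nat.le_of_mul_le_mul_right hge hpos

end Cfsg.Agent.S0560
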