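import Cfsg.Statements.S1962
import Mathlib
import Cfsg.Agent.S1961

set_option autoImplicit false
set_option linter.style.haveILetI false
set_option linter.unusedSectionVars false
open Cfsg Cfsg.Agent.Lib.Helper7 Cfsg.Agent.Lib.Lead.Conj Cfsg.Agent.Lib.Lead.ConjFamily Cfsg.Agent.S1963
  Cfsg.Agent.S1965 Cfsg.Agent.S1961

namespace Cfsg.Agent.S1962

open scoped commutatorElement

variable {G : Type*} [Group G]

theorem cj_commutator (g : G) (A B : Subgroup G) : cj g ⁅A, B⁆ = ⁅cj g A, cj g B⁆ :=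
  Subgroup.map_commutator _ _ _

section

variable [Finite G] {p : ℕ} [hp : Fact p.Prime] (S : Sylow p G) {W : Subgroup G → Subgroup G}

/-- control of transfer in `H` holds with respect to any Sylow `p`-subgroup `N` of `H`. -/
theorem control_any_sylow (hW : IsConjugacyFunctor p W) {H N : Subgroup G} (hc : ControlsTransferIn p W H)
    (hN : IsSylowIn p N H) :
    N ⊓ ⁅H, H⁆ = N ⊓ ⁅H ⊓ Subgroup.normalizer ((W N : Subgroup G) : Set G),
      H ⊓ Subgroup.normalizer ((W N : Subgroup G) : Set G)⁆ := by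
  obtain ⟨T₁, hT₁H, hT₁p, hT₁rel, heq⟩ := hc
  have hT₁syl : IsSylowIn p T₁ H := isSylowIn_of_not_dvd_relIndex hT₁H hT₁p hT₁rel
  obtain ⟨c, hcH, hcN⟩ := hT₁syl.conj hN
  have hcjH : cj c H = H := cj_eq_of_mem_normalizer (Subgroup.le_normalizer hcH)
  have hWN : W N = cj c (W T₁) := by
    rw [hcN]; exact (hW T₁ hT₁p).2.2 c
  have hM : H ⊓ Subgroup.normalizer ((W N : Subgroup G) : Set G) =
      cj c (H ⊓ Subgroup.normalizer ((W T₁ : Subgroup G) : Set G)) := by
    rw [cj_inf, hcjH, cj_normalizer, hWN]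
  have hNeq : N = cj c T₁ := hcN
  calc N ⊓ ⁅H, H⁆ = cj c T₁ ⊓ cj c ⁅H, H⁆ := by rw [cj_commutator, hcjH, hNeq]
    _ = cj c (T₁ ⊓ ⁅H, H⁆) := (cj_inf c _ _).symm
    _ = cj c (T₁ ⊓ ⁅H ⊓ Subgroup.normalizer ((W T₁ : Subgroup G) : Set G),
          H ⊓ Subgroup.normalizer ((W T₁ : Subgroup G) : Set G)⁆) := by rw [heq]
    _ = cj c T₁ ⊓ cj c ⁅H ⊓ Subgroup.normalizer ((W T₁ : Subgroup G) : Set G),
          H ⊓ Subgroup.normalizer ((W T₁ : Subgroup G) : Set G)⁆ := cj_inf c _ _
    _ = N ⊓ ⁅H ⊓ Subgroup.normalizer ((W N : Subgroup G) : Set G),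
          H ⊓ Subgroup.normalizer ((W N : Subgroup G) : Set G)⁆ := by
        rw [cj_commutator, ← hM, ← hNeq]

/-- climbing the tower. -/
theorem climb (hW : IsConjugacyFunctor p W)
    (hloc : ∀ T : Subgroup G, T ≠ ⊥ → IsWellPlaced p W (S : Subgroup G) T →
      ControlsTransferIn p W (Subgroup.normalizer ((T : Subgroup G) : Set G)))
    {T : Subgroup G} (hT : IsWellPlaced p W (S : Subgroup G) T) (hne : T ≠ ⊥) :
    ∀ j : ℕ, NS S T ⊓ ⁅Subgroup.normalizer (T : Set G), Subgroup.normalizer (T : Set G)⁆ ≤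
      NS S (functorTower W (S : Subgroup G) T j) ⊓
        ⁅Subgroup.normalizer ((functorTower W (S : Subgroup G) T j : Subgroup G) : Set G),
          Subgroup.normalizer ((functorTower W (S : Subgroup G) T j : Subgroup G) : Set G)⁆ := by
  intro j
  induction j with
  | zero => exact le_rfl
  | succ j ih =>
    refine ih.trans ?_
    have hsyl : IsSylowIn p (NS S (functorTower W (S : Subgroup G) T j))
        (Subgroup.normalizer ((functorTower W (S : Subgroup G) T j : Subgroup G) : Set G)) :=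
      isSylowIn_of_not_dvd_relIndex inf_le_right (isPGroup_NS S _) (hT.2 j)
    have hc := hloc _ (tower_ne_bot S hW hT.1 hne j) (wellPlaced_tower S hW hT j)
    rw [control_any_sylow hW hc hsyl]
    exact inf_le_inf (NS_mono S hW T j) (Subgroup.commutator_mono inf_le_right inf_le_right)

theorem local_le_target (hW : IsConjugacyFunctor p W)
    (hloc : ∀ T : Subgroup G, T ≠ ⊥ → IsWellPlaced p W (S : Subgroup G) T →
      ControlsTransferIn p W (Subgroup.normalizer ((T : Subgroup G) : Set G)))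
    {T : Subgroup G} (hT : IsWellPlaced p W (S : Subgroup G) T) (hne : T ≠ ⊥) :
    NS S T ⊓ ⁅Subgroup.normalizer (T : Set G), Subgroup.normalizer (T : Set G)⁆ ≤
      (S : Subgroup G) ⊓ ⁅Subgroup.normalizer ((W (S : Subgroup G) : Subgroup G) : Set G),
        Subgroup.normalizer ((W (S : Subgroup G) : Subgroup G) : Set G)⁆ := by
  set k := Nat.card ↥(S : Subgroup G) + 1 with hk
  have hst : functorTower W (S : Subgroup G) T (k + 1) = functorTower W (S : Subgroup G) T k :=
    tower_stable S hW T (k + 1) (by omega)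
  have hNS := NS_eq_of_stable S hW T k hst
  have h1 := climb S hW hloc hT hne (k + 1)
  rw [tower_succ, hNS] at h1
  exact h1.trans (inf_le_inf_right _ inf_le_left)

/-- a whole chain stays in the target. -/
theorem chain_le_target (hW : IsConjugacyFunctor p W)
    (hloc : ∀ T : Subgroup G, T ≠ ⊥ → IsWellPlaced p W (S : Subgroup G) T →
      ControlsTransferIn p W (Subgroup.normalizer ((T : Subgroup G) : Set G)))
    (l : List (Subgroup G × G)) :
    ∀ A : Set G, DecL {T : Subgroup G | IsWellPlaced p W (S : Subgroup G) T} l A →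
      ∀ a ∈ A, a⁻¹ * ((prodL l)⁻¹ * a * prodL l) ∈
        (S : Subgroup G) ⊓ ⁅Subgroup.normalizer ((W (S : Subgroup G) : Subgroup G) : Set G),
          Subgroup.normalizer ((W (S : Subgroup G) : Subgroup G) : Set G)⁆ := by
  induction l with
  | nil =>
    intro A _ a _
    simp [Subgroup.one_mem]
  | cons c l ih =>
    obtain ⟨T, x⟩ := c
    rintro A ⟨hT, hx, hA, hdec⟩ a ha
    have h2 := ih (rc x A) hdec (x⁻¹ * a * x) ⟨a, ha, rfl⟩
    have h1 : a⁻¹ * (x⁻¹ * a * x) ∈
        (S : Subgroup G) ⊓ ⁅Subgroup.normalizer ((W (S : Subgroup G) : Subgroup G) : Set G),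
          Subgroup.normalizer ((W (S : Subgroup G) : Subgroup G) : Set G)⁆ := by
      by_cases hne : T = ⊥
      · have : a = 1 := by
          have := hA ha
          rw [hne] at this
          exact this
        rw [this]; simp [Subgroup.one_mem]
      · apply local_le_target S hW hloc hT hne
        have haT : a ∈ T := hA ha
        have hxa : x⁻¹ * a * x ∈ T := by
          have := (Subgroup.mem_normalizer_iff.mp (Subgroup.inv_mem _ hx) a).mp haT
          rwa [inv_inv] at this
        have hTN : T ≤ Subgroup.normalizer (T : Set G) := Subgroup.le_normalizer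
        refine Subgroup.mem_inf.2 ⟨Subgroup.mem_inf.2 ⟨?_, ?_⟩, ?_⟩
        · exact hT.1 (T.mul_mem (T.inv_mem haT) hxa)
        · exact hTN (T.mul_mem (T.inv_mem haT) hxa)
        · have e : a⁻¹ * (x⁻¹ * a * x) = ⁅a⁻¹, x⁻¹⁆ := by
            rw [commutatorElement_def]; group
          rw [e]
          exact Subgroup.commutator_mem_commutator (hTN (T.inv_mem haT)) (Subgroup.inv_mem _ hx)
    rw [prodL_cons]
    have e : a⁻¹ * ((x * prodL l)⁻¹ * a * (x * prodL l)) =
        (a⁻¹ * (x⁻¹ * a * x)) * ((x⁻¹ * a * x)⁻¹ * ((prodL l)⁻¹ * (x⁻¹ * a * x) * prodL l)) := by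
      group
    rw [e]
    exact Subgroup.mul_mem _ h1 h2

end

/-- Local-to-global control of transfer through well-placed subgroups. Let p be a prime, G a finite group with Sylow p-subgroup S, and W a conjugacy functor for p on G. If W controls transfer in N_G(T) for every nonidentity subgroup T of S that is well placed in S with respect to W, then W controls transfer in G: S ∩ G' = S ∩ (N_G(W(S)))'. -/
theorem result {G : Type*} [Group G] [Finite G] {p : ℕ} [Fact p.Prime] (S : Sylow p G) (W : Subgroup G → Subgroup G) (hW : Cfsg.IsConjugacyFunctor p W) (hloc : ∀ T : Subgroup G, T ≠ ⊥ → Cfsg.IsWellPlaced p W (S : Subgroup G) T → Cfsg.ControlsTransferIn p W (Subgroup.normalizer ((T : Subgroup G) : Set G))) : Cfsg.ControlsTransferIn p W ⊤ := by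
  refine ⟨(S : Subgroup G), le_top, S.isPGroup', ?_, ?_⟩
  · rw [Subgroup.relIndex_top_right]
    exact S.not_dvd_index
  · rw [top_inf_eq]
    apply le_antisymm
    · have hfoc : (S : Subgroup G) ⊓ ⁅(⊤ : Subgroup G), ⊤⁆ = (S : Subgroup G).focalSubgroup := by
        rw [inf_comm, ← commutator_def]
        exact Subgroup.commutator_inf_eq_focalSubgroup S
      rw [hfoc, Subgroup.focalSubgroup_def, Subgroup.closure_le]
      rintro g ⟨hgS, x, hxS, u, rfl⟩
      have hA : ({x⁻¹} : Set G) ⊆ ((S : Subgroup G) : Set G) := by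
        rintro _ rfl
        exact Subgroup.inv_mem _ hxS
      have hrc : rc u⁻¹ ({x⁻¹} : Set G) ⊆ ((S : Subgroup G) : Set G) := by
        rintro _ ⟨_, rfl, rfl⟩
        have e : u⁻¹⁻¹ * x⁻¹ * u⁻¹ = x⁻¹ * ⁅x, u⁆ := by
          rw [commutatorElement_def]; group
        show u⁻¹⁻¹ * x⁻¹ * u⁻¹ ∈ (S : Subgroup G)
        rw [e]
        exact Subgroup.mul_mem _ (Subgroup.inv_mem _ hxS) hgS
      obtain ⟨l, hl, hdec⟩ := Cfsg.Agent.S1965.main S
        {T : Subgroup G | IsWellPlaced p W (S : Subgroup G) T}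
        (fun U hU => hU.1)
        (fun T hT => by
          obtain ⟨g, hg⟩ := Cfsg.Agent.S1963.result S W hW T hT
          exact ⟨T.map (MulAut.conj g).toMonoidHom, hg, ⟨g, rfl⟩, hg.2 0⟩)
        _ ({x⁻¹} : Set G) u⁻¹ hA hrc rfl
      have := chain_le_target S hW hloc l _ hdec x⁻¹ rfl
      rw [hl] at this
      have e : x⁻¹⁻¹ * (u⁻¹⁻¹ * x⁻¹ * u⁻¹) = ⁅x, u⁆ := by
        rw [commutatorElement_def]; group
      rw [e] at this
      exact this
    · exact inf_le_inf_left _ (Subgroup.commutator_mono le_top le_top)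

end Cfsg.Agent.S1962
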