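import Cfsg.Statements.S1269
import Mathlib
import Cfsg.Agent.Lib.Helper4.PLocalCoreE

set_option autoImplicit false
open Cfsg
open scoped commutatorElement

namespace Cfsg.Agent.S1269

open Cfsg.Agent.Lib.Helper4.PLocalCore

/-- with `O_{p'}(G) = 1`, components are `p`-components -/
theorem isPComponent_of_isComponent {G : Type*} [Group G] [Finite G] (p : ℕ) [Fact p.Prime]
    (hO : Cfsg.pPrimeCore p G = ⊥) {L : Subgroup G} (hL : Cfsg.IsComponent L) :
    Cfsg.IsPComponent p L := by
  rcases Cfsg.Agent.H2.component_map_mk' (Cfsg.pPrimeCore p G) hL with h | h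
  · exfalso
    rw [hO, le_bot_iff] at h
    exact Cfsg.Agent.H2.quasisimple_ne_bot hL.2 h
  · obtain ⟨K, hK, hmap⟩ := Cfsg.Agent.H2.exists_pComponent_map_eq p _ h
    have hinj : Function.Injective (QuotientGroup.mk' (Cfsg.pPrimeCore p G)) := by
      rw [← MonoidHom.ker_eq_bot_iff, QuotientGroup.ker_mk', hO]
    have : K = L := Subgroup.map_injective hinj hmap
    rw [← this]; exact hK

/-- Let G be finite with O_{p'}(G) = 1, P a p-subgroup, N = N_G(P), and x an element of the preimage in N of E(N / O_{p'}(N)). Then x normalizes every component L of G. -/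
theorem result {G : Type*} [Group G] [Finite G] (p : ℕ) [Fact p.Prime] (hO : Cfsg.pPrimeCore p G = ⊥) (P : Subgroup G) (hP : IsPGroup p ↥P) (L : Subgroup G) (hL : Cfsg.IsComponent L) (x : G) (hx : x ∈ (((Cfsg.layer (↥(Subgroup.normalizer ((P : Subgroup G) : Set G)) ⧸ Cfsg.pPrimeCore p ↥(Subgroup.normalizer ((P : Subgroup G) : Set G)))).comap (QuotientGroup.mk' (Cfsg.pPrimeCore p ↥(Subgroup.normalizer ((P : Subgroup G) : Set G))))).map (Subgroup.normalizer ((P : Subgroup G) : Set G)).subtype)) : L.map (MulAut.conj x).toMonoidHom = L := by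
  have hLp := isPComponent_of_isComponent p hO hL
  have h1 := lhat_le_normalizer P hP L hLp hx
  exact (Cfsg.Agent.H2.map_conj_eq_self_iff_mem_normalizer L x).mpr h1

end Cfsg.Agent.S1269
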