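import Mathlib
import Cfsg.Statements.S1505
import Cfsg.Agent.Lib.helper3.CycTI2

set_option autoImplicit false
open Cfsg

namespace Cfsg.Agent.S1505

open Classical in
/-- Let W₁, W₂ ≤ G form a self-normalising cyclic subgroup W = W₁ ⊔ W₂. For nontrivial linear characters φ, φ' of W trivial on W₂ and ψ, ψ' trivial on W₁, put α = (1 − φ)(1 − ψ) and α' = (1 − φ')(1 − ψ'). Then the function induced from α to G has inner product 1 with the principal character, and the inner product of the functions induced from α and α' is 1 + a + b + ab where a = 1 if φ = φ' (else 0) and b = 1 if ψ = ψ' (else 0). -/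
theorem result {G : Type*} [Group G] [Fintype G] (W₁ W₂ : Subgroup G) (hW : Cfsg.IsSelfNormalizingCyclic W₁ W₂) (φ φ' ψ ψ' : ↥(W₁ ⊔ W₂) →* ℂˣ) (hφ : φ ≠ 1) (hφ' : φ' ≠ 1) (hψ : ψ ≠ 1) (hψ' : ψ' ≠ 1) (hφ₂ : ∀ w : ↥(W₁ ⊔ W₂), (w : G) ∈ W₂ → φ w = 1 ∧ φ' w = 1) (hψ₁ : ∀ w : ↥(W₁ ⊔ W₂), (w : G) ∈ W₁ → ψ w = 1 ∧ ψ' w = 1) : Cfsg.classInner (Cfsg.indFun (W₁ ⊔ W₂) (fun w => 1 - (φ w : ℂ) - (ψ w : ℂ) + (φ w : ℂ) * (ψ w : ℂ))) (fun _ => 1) = 1 ∧ Cfsg.classInner (Cfsg.indFun (W₁ ⊔ W₂) (fun w => 1 - (φ w : ℂ) - (ψ w : ℂ) + (φ w : ℂ) * (ψ w : ℂ))) (Cfsg.indFun (W₁ ⊔ W₂) (fun w => 1 - (φ' w : ℂ) - (ψ' w : ℂ) + (φ' w : ℂ) * (ψ' w : ℂ))) = 1 + (if φ = φ' then 1 else 0) + (if ψ = ψ' then 1 else 0) + (if φ = φ' then 1 else 0) * (if ψ = ψ' then 1 else 0) := by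
  classical
  letI : Fintype ↥(W₁ ⊔ W₂) := Fintype.ofFinite _
  have hcyc : IsCyclic ↥(W₁ ⊔ W₂) := hW.2.2.2.2.1
  letI : CommGroup ↥(W₁ ⊔ W₂) := IsCyclic.commGroup
  have hα : ∀ a b : ↥(W₁ ⊔ W₂) →* ℂˣ,
      (fun w => 1 - (a w : ℂ) - (b w : ℂ) + (a w : ℂ) * (b w : ℂ))
        = Cfsg.Agent.Lib.helper3.CycTI.alphaFun a b := fun a b => rfl
  rw [hα φ ψ, hα φ' ψ']
  have hφ2 : ∀ w : ↥(W₁ ⊔ W₂), (w : G) ∈ W₂ → φ w = 1 := fun w hw => (hφ₂ w hw).1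
  have hφ2' : ∀ w : ↥(W₁ ⊔ W₂), (w : G) ∈ W₂ → φ' w = 1 := fun w hw => (hφ₂ w hw).2
  have hψ1 : ∀ w : ↥(W₁ ⊔ W₂), (w : G) ∈ W₁ → ψ w = 1 := fun w hw => (hψ₁ w hw).1
  have hψ1' : ∀ w : ↥(W₁ ⊔ W₂), (w : G) ∈ W₁ → ψ' w = 1 := fun w hw => (hψ₁ w hw).2
  have hone1 : ∀ w : ↥(W₁ ⊔ W₂), (w : G) ∈ W₁ → (1 : ↥(W₁ ⊔ W₂) →* ℂˣ) w = 1 := fun _ _ => rfl
  have hone2 : ∀ w : ↥(W₁ ⊔ W₂), (w : G) ∈ W₂ → (1 : ↥(W₁ ⊔ W₂) →* ℂˣ) w = 1 := fun _ _ => rfl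
  -- class functions on the abelian group `W`
  have hcf : ∀ f : ↥(W₁ ⊔ W₂) → ℂ, Cfsg.IsClassFunction ↥(W₁ ⊔ W₂) f := by
    intro f g h
    rw [mul_comm h g, mul_inv_cancel_right]
  -- vanishing off the TI-set
  have hvan : ∀ a b : ↥(W₁ ⊔ W₂) →* ℂˣ, (∀ w : ↥(W₁ ⊔ W₂), (w : G) ∈ W₂ → a w = 1) →
      (∀ w : ↥(W₁ ⊔ W₂), (w : G) ∈ W₁ → b w = 1) →
      ∀ x : ↥(W₁ ⊔ W₂), (x : G) ∉ Cfsg.Agent.Lib.helper3.CycTI.vset W₁ W₂ →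
        Cfsg.Agent.Lib.helper3.CycTI.alphaFun a b x = 0 := by
    intro a b ha hb x hx
    have hx' : (x : G) ∈ W₁ ∨ (x : G) ∈ W₂ := by
      by_contra hcon
      exact hx ⟨x.2, hcon⟩
    unfold Cfsg.Agent.Lib.helper3.CycTI.alphaFun
    rcases hx' with h | h
    · rw [hb x h]; simp
    · rw [ha x h]; simp
  have hα1 : ∀ a b : ↥(W₁ ⊔ W₂) →* ℂˣ, Cfsg.Agent.Lib.helper3.CycTI.alphaFun a b 1 = 0 := by
    intro a b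
    unfold Cfsg.Agent.Lib.helper3.CycTI.alphaFun
    simp
  have hTI : ∀ g : G, g ∉ W₁ ⊔ W₂ → ∀ t ∈ Cfsg.Agent.Lib.helper3.CycTI.vset W₁ W₂,
      g * t * g⁻¹ ∈ Cfsg.Agent.Lib.helper3.CycTI.vset W₁ W₂ → t = 1 := by
    intro g hg t ht hs
    exact absurd (Cfsg.Agent.Lib.helper3.CycTI.mem_of_conj_mem_vset W₁ W₂ hW g t ht hs) hg
  have hL := @Cfsg.Agent.Lib.helper3.CycTI.classInner_linFun ↥(W₁ ⊔ W₂) _ _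
  constructor
  · rw [Cfsg.Agent.Lib.helper3.IndFun.frobenius_reciprocity (W₁ ⊔ W₂) _ (fun _ => 1)
      (fun _ _ => rfl)]
    have h1 : (fun _ : ↥(W₁ ⊔ W₂) => (1 : ℂ)) = Cfsg.Agent.Lib.helper3.CycTI.linFun 1 := by
      funext w; simp [Cfsg.Agent.Lib.helper3.CycTI.linFun]
    rw [h1, Cfsg.Agent.Lib.helper3.CycTI.alphaFun_eq]
    simp only [Cfsg.Agent.Lib.helper3.Irr.classInner_add_left,
      Cfsg.Agent.Lib.helper3.Irr.classInner_sub_left, hL]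
    rw [if_true, if_neg hφ, if_neg hψ,
      if_neg (Cfsg.Agent.Lib.helper3.CycTI.ne_one_mul W₁ W₂ φ ψ hφ hφ2 hψ1 1 hone1)]
    ring
  · rw [Cfsg.Agent.Lib.helper3.CycTI.classInner_indFun_of_normalizer_eq
      (Cfsg.Agent.Lib.helper3.CycTI.vset W₁ W₂) (W₁ ⊔ W₂)
      (Cfsg.Agent.Lib.helper3.CycTI.normalizer_vset W₁ W₂ hW) hTI _ _ (hcf _)
      (hvan φ ψ hφ2 hψ1) (hvan φ' ψ' hφ2' hψ1') (hα1 φ ψ)]
    rw [Cfsg.Agent.Lib.helper3.CycTI.alphaFun_eq, Cfsg.Agent.Lib.helper3.CycTI.alphaFun_eq]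
    simp only [Cfsg.Agent.Lib.helper3.Irr.classInner_add_left,
      Cfsg.Agent.Lib.helper3.Irr.classInner_sub_left,
      Cfsg.Agent.Lib.helper3.Irr.classInner_add_right,
      Cfsg.Agent.Lib.helper3.Irr.classInner_sub_right, hL]
    rw [if_true, if_neg hφ'.symm, if_neg hψ'.symm,
      if_neg (Cfsg.Agent.Lib.helper3.CycTI.ne_one_mul W₁ W₂ φ' ψ' hφ' hφ2' hψ1' 1 hone1).symm,
      if_neg hφ, if_neg hψ,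
      if_neg (Cfsg.Agent.Lib.helper3.CycTI.ne_one_mul W₁ W₂ φ ψ hφ hφ2 hψ1 1 hone1),
      if_neg (Cfsg.Agent.Lib.helper3.CycTI.ne_of_trivial W₁ W₂ φ ψ' hφ hφ2 hψ1'),
      if_neg (Cfsg.Agent.Lib.helper3.CycTI.ne_of_trivial W₁ W₂ φ' ψ hφ' hφ2' hψ1).symm,
      if_neg (Cfsg.Agent.Lib.helper3.CycTI.mul_ne_one' W₁ W₂ φ' ψ' hψ' hφ2' hψ1' φ hφ2).symm,
      if_neg (Cfsg.Agent.Lib.helper3.CycTI.ne_one_mul W₁ W₂ φ' ψ' hφ' hφ2' hψ1' ψ hψ1).symm,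
      if_neg (Cfsg.Agent.Lib.helper3.CycTI.mul_ne_one' W₁ W₂ φ ψ hψ hφ2 hψ1 φ' hφ2'),
      if_neg (Cfsg.Agent.Lib.helper3.CycTI.ne_one_mul W₁ W₂ φ ψ hφ hφ2 hψ1 ψ' hψ1')]
    have hiff := Cfsg.Agent.Lib.helper3.CycTI.mul_eq_mul_iff W₁ W₂ φ φ' ψ ψ' hφ₂ hψ₁
    by_cases h1 : φ = φ' <;> by_cases h2 : ψ = ψ'
    · simp only [if_pos h1, if_pos h2, if_pos (hiff.mpr ⟨h1, h2⟩)]; norm_num
    · simp only [if_pos h1, if_neg h2, if_neg (fun h => h2 (hiff.mp h).2)]; norm_num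
    · simp only [if_neg h1, if_pos h2, if_neg (fun h => h1 (hiff.mp h).1)]; norm_num
    · simp only [if_neg h1, if_neg h2, if_neg (fun h => h1 (hiff.mp h).1)]; norm_num

end Cfsg.Agent.S1505
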