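import Cfsg.Statements.S0675
import Mathlib
import Cfsg.Agent.Lib.Helper4.PrimeDegBurnside

set_option autoImplicit false
open Cfsg
open scoped commutatorElement

namespace Cfsg.Agent.S0675


/-- Burnside's Theorem on permutation groups of prime degree: a transitive permutation group of prime degree that is not solvable is doubly transitive. -/
theorem result {α : Type*} [Fintype α] [DecidableEq α] (hα : (Fintype.card α).Prime) (G : Subgroup (Equiv.Perm α)) [MulAction.IsPretransitive G α] : Group.IsSolvable G ∨ MulAction.IsMultiplyPretransitive G α 2 := by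
  classical
  by_cases hsol : Group.IsSolvable G
  · exact Or.inl hsol
  right
  haveI : Fact (Fintype.card α).Prime := ⟨hα⟩
  obtain ⟨e, g₀, hg₀, he⟩ :=
    Cfsg.Agent.Lib.Helper4.PrimeDegLabel.exists_labelling (p := Fintype.card α) rfl G
  set G' := Cfsg.Agent.Lib.Helper4.PrimeDegT.transport e G with hG'
  have hτ : Cfsg.Agent.Lib.Helper4.PrimeDeg.tau (Fintype.card α) ∈ G' :=
    Cfsg.Agent.Lib.Helper4.PrimeDegT.tau_mem_transport e G g₀ hg₀ he
  have hns' : ¬ Group.IsSolvable G' := fun h =>
    hsol (Cfsg.Agent.Lib.Helper4.PrimeDegT.solvable_of_transport e G h)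
  rw [MulAction.isMultiplyPretransitive_iff]
  intro x y
  have hx : x 0 ≠ x 1 := fun h => by
    have := x.injective h
    exact absurd this (by decide)
  have hy : y 0 ≠ y 1 := fun h => by
    have := y.injective h
    exact absurd this (by decide)
  obtain ⟨g', hg', h0, h1⟩ := Cfsg.Agent.Lib.Helper4.PrimeDegBurnside.core G' hτ hns'
    (a := e (x 0)) (b := e (x 1)) (c := e (y 0)) (d := e (y 1))
    (fun h => hx (e.injective h)) (fun h => hy (e.injective h))
  obtain ⟨g, hg, hge⟩ := (Cfsg.Agent.Lib.Helper4.PrimeDegT.mem_transport e G g').mp hg'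
  refine ⟨⟨g, hg⟩, ?_⟩
  ext i
  show g (x i) = y i
  apply e.injective
  rw [← hge]
  fin_cases i
  · exact h0
  · exact h1

end Cfsg.Agent.S0675
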