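import Cfsg.Statements.S0674
import Mathlib
import Cfsg.Agent.Lib.Helper4.PrimeDegT

set_option autoImplicit false
open Cfsg
open scoped commutatorElement

namespace Cfsg.Agent.S0674


/-- Let `G` be a non-solvable transitive permutation group of prime degree `p` and `K` a field of characteristic `p`. Then the heart of the permutation module is irreducible: an invariant subspace containing the constants and contained in the sum-zero functions is one or the other. -/
theorem result {α : Type*} [Fintype α] [DecidableEq α] {p : ℕ} [Fact p.Prime] (hα : Fintype.card α = p) (G : Subgroup (Equiv.Perm α)) [MulAction.IsPretransitive G α] (hG : ¬ Group.IsSolvable G) {K : Type*} [Field K] [CharP K p] (W : Subrepresentation (Cfsg.permRep K G α)) (h₁ : (Cfsg.permConstants K G α).toSubmodule ≤ W.toSubmodule) (h₂ : W.toSubmodule ≤ (Cfsg.permSumZero K G α).toSubmodule) : W = Cfsg.permConstants K G α ∨ W = Cfsg.permSumZero K G α := by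
  classical
  obtain ⟨e, g₀, hg₀, he⟩ := Cfsg.Agent.Lib.Helper4.PrimeDegLabel.exists_labelling hα G
  set G' := Cfsg.Agent.Lib.Helper4.PrimeDegT.transport e G with hG'
  have hτ : Cfsg.Agent.Lib.Helper4.PrimeDeg.tau p ∈ G' :=
    Cfsg.Agent.Lib.Helper4.PrimeDegT.tau_mem_transport e G g₀ hg₀ he
  have hns' : ¬ Group.IsSolvable G' := fun h =>
    hG (Cfsg.Agent.Lib.Helper4.PrimeDegT.solvable_of_transport e G h)
  let L : (ZMod p → K) ≃ₗ[K] (α → K) := LinearEquiv.funCongrLeft K K e
  have hL : ∀ (f' : ZMod p → K) (a : α), L f' a = f' (e a) := fun f' a => rfl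
  set W' : Submodule K (ZMod p → K) := W.toSubmodule.comap L.toLinearMap with hW'def
  have hW' : Cfsg.Agent.Lib.Helper4.PrimeDeg.Inv G' W' := by
    intro x' hx' f' hf'
    obtain ⟨x, hx, hxe⟩ := (Cfsg.Agent.Lib.Helper4.PrimeDegT.mem_transport e G x').mp hx'
    rw [hW'def, Submodule.mem_comap] at hf' ⊢
    have h1 := W.apply_mem_toSubmodule (⟨x, hx⟩⁻¹ : G) hf'
    convert h1 using 1
    funext a
    show f' (x' (e a)) = (L f') ((⟨x, hx⟩⁻¹ : G)⁻¹ • a)
    rw [inv_inv, hL, hxe]
    rfl
  have key := Cfsg.Agent.Lib.Helper4.PrimeDeg.finrank_of_inv G' hτ hns' W' hW'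
  have hfr : Module.finrank K W' = Module.finrank K W.toSubmodule :=
    (LinearEquiv.ofSubmodule' L W.toSubmodule).finrank_eq
  rw [hfr] at key
  have hne : Nonempty α := by
    rw [← Fintype.card_pos_iff, hα]; exact (Fact.out : p.Prime).pos
  rcases key with key | key
  · left
    apply Subrepresentation.toSubmodule_injective
    symm
    apply Submodule.eq_of_le_of_finrank_le h₁
    have : Module.finrank K (Cfsg.permConstants K G α).toSubmodule = 1 := by
      show Module.finrank K (Submodule.span K {fun _ : α => (1 : K)}) = 1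
      apply finrank_span_singleton
      intro h
      obtain ⟨a⟩ := hne
      have := congrFun h a
      simp at this
    rw [this]
    exact key
  · right
    apply Subrepresentation.toSubmodule_injective
    apply Submodule.eq_of_le_of_finrank_le h₂
    have hlt : (Cfsg.permSumZero K G α).toSubmodule ≠ ⊤ := by
      intro h
      obtain ⟨a⟩ := hne
      have : (Pi.single a (1 : K) : α → K) ∈ (Cfsg.permSumZero K G α).toSubmodule := by
        rw [h]; trivial
      have h0 : ∑ x, (Pi.single a (1 : K) : α → K) x = 0 := this
      rw [Finset.sum_pi_single' a (1 : K)] at h0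
      simp at h0
    have := Submodule.finrank_lt hlt
    rw [Module.finrank_fintype_fun_eq_card, hα] at this
    omega

end Cfsg.Agent.S0674
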