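import Cfsg.Statements.S0676
import Mathlib
import Cfsg.Agent.Lib.Helper4.PrimeDegThree
import Cfsg.Agent.S0675
import Cfsg.Agent.S0672

set_option autoImplicit false
open Cfsg
open scoped commutatorElement

namespace Cfsg.Agent.S0676


/-- A non-solvable transitive permutation group of prime degree `p` whose Sylow `p`-normaliser has even order is triply transitive. -/
theorem result {α : Type*} [Fintype α] [DecidableEq α] {p : ℕ} [Fact p.Prime] (hα : Fintype.card α = p) (G : Subgroup (Equiv.Perm α)) [MulAction.IsPretransitive G α] (hG : ¬ Group.IsSolvable G) (P : Sylow p G) (heven : Even (Nat.card (Subgroup.normalizer ((P : Subgroup G) : Set G)))) : MulAction.IsMultiplyPretransitive G α 3 := by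
  classical
  have hpp := (Fact.out : p.Prime)
  by_cases hp2 : p = 2
  · refine ⟨fun x => ?_⟩
    exfalso
    have h3 := Fintype.card_le_of_embedding x
    rw [Fintype.card_fin, hα, hp2] at h3
    omega
  · obtain ⟨e, g₀, t, hg₀, ht, he, het⟩ :=
      Cfsg.Agent.Lib.Helper4.PrimeDegInv.exists_inverting hα hp2 G P heven
    have h2 : MulAction.IsMultiplyPretransitive G α 2 :=
      (Cfsg.Agent.S0675.result (hα ▸ hpp) G).resolve_left hG
    haveI : CharP (ZMod p) p := ZMod.charP p
    have h2ne : (2 : ZMod p) ≠ 0 := Cfsg.Agent.Lib.Helper4.PrimeDegInv.two_ne_zero_zmod hp2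
    refine Cfsg.Agent.S0672.result (K := ZMod p) (p := p) h2 (by rw [hα]) ?_ ?_
    · intro a
      -- the base point
      have hbase : Even (Nat.card (MulAction.stabilizer G (e.symm 0))) := by
        have htmem : (⟨t, ht⟩ : G) ∈ MulAction.stabilizer G (e.symm 0) := by
          rw [MulAction.mem_stabilizer_iff]
          apply e.injective
          show e (t (e.symm 0)) = e (e.symm 0)
          rw [het, Equiv.apply_symm_apply, neg_zero]
        have hord : orderOf (⟨⟨t, ht⟩, htmem⟩ : MulAction.stabilizer G (e.symm 0)) = 2 := by
          apply orderOf_eq_prime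
          · apply Subtype.ext
            apply Subtype.ext
            show t ^ 2 = 1
            ext a
            apply e.injective
            rw [pow_two, Equiv.Perm.mul_apply, het, het, neg_neg, Equiv.Perm.one_apply]
          · intro h1
            have h1' : t = 1 := congrArg (fun x : MulAction.stabilizer G (e.symm 0) =>
              ((x : G) : Equiv.Perm α)) h1
            have h3 := het (e.symm 1)
            rw [h1', Equiv.Perm.one_apply, Equiv.apply_symm_apply] at h3
            apply h2ne
            linear_combination h3
        have hd := orderOf_dvd_natCard (⟨⟨t, ht⟩, htmem⟩ : MulAction.stabilizer G (e.symm 0))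
        rw [hord] at hd
        exact even_iff_two_dvd.mpr hd
      obtain ⟨g, hg⟩ := MulAction.exists_smul_eq G (e.symm 0) a
      rw [← hg, MulAction.stabilizer_smul_eq_stabilizer_map_conj]
      rw [Subgroup.card_map_of_injective (MulAut.conj g).injective]
      exact hbase
    · intro f hf
      exact Cfsg.Agent.Lib.Helper4.PrimeDegThree.hom_eq_zero hα hp2 G hG e g₀ t hg₀ ht he het f hf

end Cfsg.Agent.S0676
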