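import Cfsg.Statements.S1013
import Mathlib
import Cfsg.Agent.Lib.Lead.PiCore
import Cfsg.Agent.Lib.Helper4.SylowPrime

set_option autoImplicit false
set_option linter.style.haveILetI false

namespace Cfsg.Agent.S1013

open MulAction Cfsg.Agent.Lib.Lead.PiCore Cfsg.Agent.Lib.Helper4.SylowPrime

/-- A nontrivial normal subgroup of a transitive permutation group of prime degree is transitive,
so its order is divisible by `p`. -/
theorem dvd_card_of_normal {α : Type*} [Fintype α] [DecidableEq α] {p : ℕ} [Fact p.Prime]
    (hα : Fintype.card α = p) (G : Subgroup (Equiv.Perm α)) [MulAction.IsPretransitive ↥G α]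
    (N : Subgroup G) [N.Normal] (hN : N ≠ ⊥) : p ∣ Nat.card N := by
  have hcardα : Nat.card α = p := by rw [Nat.card_eq_fintype_card, hα]
  haveI : IsPreprimitive G α := IsPreprimitive.of_prime_card (by rw [hcardα]; exact Fact.out)
  have hfix : fixedPoints N α ≠ Set.univ := by
    intro h
    apply hN
    rw [eq_bot_iff]
    intro n hn
    rw [Subgroup.mem_bot]
    apply Subtype.ext
    ext a
    have h1 : a ∈ fixedPoints N α := by rw [h]; trivial
    exact h1 ⟨n, hn⟩
  haveI : IsPretransitive N α := IsQuasiPreprimitive.isPretransitive_of_normal hfix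
  have hne : Nonempty α := by
    rw [← Fintype.card_pos_iff, hα]; exact (Fact.out : p.Prime).pos
  obtain ⟨a⟩ := hne
  have := MulAction.index_stabilizer_of_transitive N a
  rw [← hcardα, ← this]
  exact Subgroup.index_dvd_card _

/-- Let G be a transitive permutation group of prime degree p having more than one Sylow p-subgroup, and suppose a Sylow p-subgroup P has prime index in its normalizer. Then G is simple. -/
theorem result {α : Type*} [Fintype α] [DecidableEq α] {p : ℕ} [Fact p.Prime] (hα : Fintype.card α = p) (G : Subgroup (Equiv.Perm α)) [MulAction.IsPretransitive ↥G α] (P : Sylow p ↥G) (hn : 1 < Nat.card (Sylow p ↥G)) (ht : (((P : Subgroup ↥G).subgroupOf (Subgroup.normalizer ((P : Subgroup ↥G) : Set ↥G))).index).Prime) : IsSimpleGroup ↥G := by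
  classical
  have hp := (Fact.out : p.Prime)
  have hcardα : Nat.card α = p := by rw [Nat.card_eq_fintype_card, hα]
  have hpG : p ∣ Nat.card G := by
    have hne : Nonempty α := by
      rw [← Fintype.card_pos_iff, hα]; exact hp.pos
    obtain ⟨a⟩ := hne
    have := MulAction.index_stabilizer_of_transitive G a
    rw [← hcardα, ← this]
    exact Subgroup.index_dvd_card _
  have hGfact : Nat.card G ∣ p.factorial := by
    have := Subgroup.card_subgroup_dvd_card G
    rwa [Nat.card_eq_fintype_card (α := Equiv.Perm α), Fintype.card_perm, hα] at this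
  have hPcard : Nat.card (P : Subgroup G) = p := by
    obtain ⟨k, hk⟩ := IsPGroup.iff_card.mp P.isPGroup'
    have hk1 : k ≠ 0 := by
      intro h0
      rw [h0, pow_zero] at hk
      exact P.ne_bot_of_dvd_card hpG (Subgroup.card_eq_one.1 hk)
    have hk2 : k < 2 := by
      by_contra h
      push_neg at h
      have h0 : p ^ k ∣ p.factorial := by
        rw [← hk]
        exact (Subgroup.card_subgroup_dvd_card _).trans hGfact
      have h1 : p ^ 2 ∣ p.factorial := (pow_dvd_pow p h).trans h0
      rw [← Nat.mul_factorial_pred hp.ne_zero, pow_two] at h1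
      have h2 := Nat.dvd_of_mul_dvd_mul_left hp.pos h1
      rw [hp.dvd_factorial] at h2
      have := hp.pos
      omega
    have : k = 1 := by omega
    rw [hk, this, pow_one]
  haveI : Nontrivial G :=
    (Finite.one_lt_card_iff_nontrivial).1 (lt_of_lt_of_le hp.one_lt (Nat.le_of_dvd Nat.card_pos hpG))
  refine ⟨fun N hNn => ?_⟩
  by_cases hN : N = ⊥
  · left; exact hN
  right
  haveI := hNn
  have hpN : p ∣ Nat.card N := dvd_card_of_normal hα G N hN
  -- P ≤ N
  have hPN : (P : Subgroup G) ≤ N := by
    obtain ⟨x, hx⟩ := exists_prime_orderOf_dvd_card' p hpN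
    have hxo : orderOf (x : G) = p := by rw [Subgroup.orderOf_coe]; exact hx
    have hx1 : (x : G) ≠ 1 := by
      intro h
      rw [h, orderOf_one] at hxo
      exact hp.one_lt.ne hxo
    have hpg : IsPGroup p (Subgroup.zpowers (x : G)) :=
      IsPGroup.of_card (n := 1) (by rw [Nat.card_zpowers, hxo, pow_one])
    obtain ⟨Q, hQ⟩ := hpg.exists_le_sylow
    have hQcard : Nat.card (Q : Subgroup G) = p :=
      Q.card_eq_multiplicity.trans (P.card_eq_multiplicity.symm.trans hPcard)
    have hQz := sylow_eq_zpowers Q hQcard (x : G) hx1 (hQ (Subgroup.mem_zpowers _))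
    have hQN : (Q : Subgroup G) ≤ N := by
      rw [hQz, Subgroup.zpowers_le]; exact x.2
    obtain ⟨g, hg⟩ := MulAction.exists_smul_eq G Q P
    intro y hy
    have hy' : y ∈ g • Q := by rw [hg]; exact hy
    rw [mem_smul_sylow_iff] at hy'
    have := hNn.conj_mem _ (hQN hy') g
    have e : g * (g⁻¹ * y * g) * g⁻¹ = y := by group
    rwa [e] at this
  have hfr := Sylow.normalizer_sup_eq_top' P hPN
  set L := Subgroup.normalizer ((P : Subgroup G) : Set G) with hL
  have hPL : (P : Subgroup G) ≤ L := Subgroup.le_normalizer
  have hmul := Subgroup.relIndex_mul_relIndex (P : Subgroup G) (L ⊓ N) L (le_inf hPL hPN) inf_le_left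
  have ht' : ((P : Subgroup G).relIndex L).Prime := ht
  rw [← hmul] at ht'
  have hcases : (P : Subgroup G).relIndex (L ⊓ N) = 1 ∨ (L ⊓ N).relIndex L = 1 := by
    rcases ht'.eq_one_or_self_of_dvd _ (Dvd.intro _ rfl) with h | h
    · left; exact h
    · right
      have h2 : (P : Subgroup G).relIndex (L ⊓ N) * (L ⊓ N).relIndex L
          = (P : Subgroup G).relIndex (L ⊓ N) * 1 := by rw [mul_one]; exact h.symm
      exact Nat.eq_of_mul_eq_mul_left (by rw [h]; exact ht'.pos) h2
  rcases hcases with hc | hc
  · -- L ⊓ N ≤ P
    exfalso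
    rw [Subgroup.relIndex_eq_one] at hc
    let P' : Sylow p N := P.subtype hPN
    have hP'coe : (P' : Subgroup N) = (P : Subgroup G).subgroupOf N := rfl
    have hP'card : Nat.card (P' : Subgroup N) = p := by
      rw [hP'coe, Nat.card_congr (Subgroup.subgroupOfEquivOfLe hPN).toEquiv, hPcard]
    haveI : Fact (Nat.card (P' : Subgroup N)).Prime := ⟨by rw [hP'card]; exact hp⟩
    haveI : IsCyclic (P' : Subgroup N) := isCyclic_of_prime_card rfl
    have hNC : Subgroup.normalizer ((P' : Subgroup N) : Set N)
        ≤ Subgroup.centralizer ((P' : Subgroup N) : Set N) := by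
      intro x hx
      have hxL : (x : G) ∈ L := by
        rw [hL, Subgroup.mem_normalizer_iff]
        intro y
        rw [Subgroup.mem_normalizer_iff] at hx
        constructor
        · intro hy
          have := (hx ⟨y, hPN hy⟩).1 (Subgroup.mem_subgroupOf.2 hy)
          exact Subgroup.mem_subgroupOf.1 this
        · intro hy
          have hyN : y ∈ N := by
            have h1 := hPN hy
            have h2 := N.mul_mem (N.mul_mem (N.inv_mem x.2) h1) x.2
            have e : (x : G)⁻¹ * ((x : G) * y * (x : G)⁻¹) * (x : G) = y := by group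
            rwa [e] at h2
          have := (hx ⟨y, hyN⟩).2 (Subgroup.mem_subgroupOf.2 hy)
          exact Subgroup.mem_subgroupOf.1 this
      have hxP : x ∈ (P' : Subgroup N) := by
        rw [hP'coe, Subgroup.mem_subgroupOf]
        exact hc ⟨hxL, x.2⟩
      rw [Subgroup.mem_centralizer_iff]
      intro y hy
      letI := IsCyclic.commGroup (α := (P' : Subgroup N))
      have := mul_comm (⟨y, hy⟩ : (P' : Subgroup N)) ⟨x, hxP⟩
      exact congrArg Subtype.val this
    have hcompl := MonoidHom.ker_transferSylow_isComplement' P' hNC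
    have hMcop : (Nat.card (MonoidHom.transferSylow P' hNC).ker).Coprime p :=
      ((Nat.Prime.coprime_iff_not_dvd hp).2 (MonoidHom.not_dvd_card_ker_transferSylow P' hNC)).symm
    have hMle := le_pPrimeCore (MonoidHom.normal_ker (MonoidHom.transferSylow P' hNC)) hMcop
    haveI := pPrimeCore_characteristic (G := N) hp
    haveI hOn : ((pPrimeCore p N).map N.subtype).Normal :=
      ConjAct.normal_of_characteristic_of_normal
    have hO : (pPrimeCore p N).map N.subtype = ⊥ := by
      by_contra hne
      have h1 := dvd_card_of_normal hα G _ hne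
      rw [Subgroup.card_map_of_injective N.subtype_injective] at h1
      have h2 := pPrimeCore_coprime (G := N) hp
      exact (Nat.Prime.coprime_iff_not_dvd hp).1 h2.symm h1
    rw [Subgroup.map_eq_bot_iff_of_injective _ N.subtype_injective] at hO
    rw [hO, le_bot_iff] at hMle
    rw [hMle, Subgroup.isComplement'_bot_left, hP'coe, Subgroup.subgroupOf_eq_top] at hcompl
    have hPeq : (P : Subgroup G) = N := le_antisymm hPN hcompl
    have hPnormal : (P : Subgroup G).Normal := by rw [hPeq]; exact hNn
    haveI := Sylow.unique_of_normal P hPnormal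
    rw [Nat.card_unique] at hn
    exact lt_irrefl _ hn
  · rw [Subgroup.relIndex_eq_one] at hc
    have hLN : L ≤ N := fun x hx => (hc hx).2
    rw [← hfr]
    exact (sup_eq_right.2 hLN).symm

end Cfsg.Agent.S1013
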