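import Cfsg.Statements.S4624
import Mathlib
import Cfsg.Agent.S2250
import Cfsg.Agent.H9.NonsplitTorus

set_option autoImplicit false
open Cfsg

namespace Cfsg.Agent.S4624

open Cfsg.Agent.Helper4.Wreath
open scoped commutatorElement Pointwise

section EA
variable {G : Type*} [Group G]

/-- some Sylow `2`-subgroup has all squares in its derived subgroup -/
def EA2 (G : Type*) [Group G] : Prop :=
  ∃ P : Sylow 2 G, ∀ x ∈ (P : Subgroup G), x ^ 2 ∈ ⁅(P : Subgroup G), (P : Subgroup G)⁆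

/-- the good elements are closed under products -/
theorem sq_mul_mem {B : Subgroup G} {x y : G} (hx : x ∈ B) (hy : y ∈ B)
    (hx2 : x ^ 2 ∈ ⁅B, B⁆) (hy2 : y ^ 2 ∈ ⁅B, B⁆) : (x * y) ^ 2 ∈ ⁅B, B⁆ := by
  have e : (x * y) ^ 2 = x ^ 2 * ⁅x⁻¹, y⁆ * y ^ 2 := by
    rw [commutatorElement_def, pow_two, pow_two, pow_two]; group
  rw [e]
  exact Subgroup.mul_mem _ (Subgroup.mul_mem _ hx2
    (Subgroup.commutator_mem_commutator (B.inv_mem hx) hy)) hy2

theorem sq_inv_mem {B : Subgroup G} {x : G} (hx2 : x ^ 2 ∈ ⁅B, B⁆) : (x⁻¹) ^ 2 ∈ ⁅B, B⁆ := by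
  rw [inv_pow]
  exact Subgroup.inv_mem _ hx2

/-- if a generating set has squares in the derived subgroup, so has every element -/
theorem sq_mem_of_closure {B : Subgroup G} (s : Set G) (hs : Subgroup.closure s = B)
    (h : ∀ x ∈ s, x ^ 2 ∈ ⁅B, B⁆) : ∀ x ∈ B, x ^ 2 ∈ ⁅B, B⁆ := by
  intro x hx
  rw [← hs] at hx
  have hsB : s ⊆ B := by
    rw [← hs]; exact Subgroup.subset_closure
  have key : x ∈ B ∧ x ^ 2 ∈ ⁅B, B⁆ := by
    induction hx using Subgroup.closure_induction with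
    | mem y hy => exact ⟨hsB hy, h y hy⟩
    | one => exact ⟨B.one_mem, by rw [one_pow]; exact Subgroup.one_mem _⟩
    | mul y z _ _ ihy ihz =>
      exact ⟨B.mul_mem ihy.1 ihz.1, sq_mul_mem ihy.1 ihz.1 ihy.2 ihz.2⟩
    | inv y _ ihy => exact ⟨B.inv_mem ihy.1, sq_inv_mem ihy.2⟩
  exact key.2

variable [Finite G]

theorem EA2_all (h : EA2 G) (P : Sylow 2 G) :
    ∀ x ∈ (P : Subgroup G), x ^ 2 ∈ ⁅(P : Subgroup G), (P : Subgroup G)⁆ := by
  obtain ⟨P₀, hP₀⟩ := h
  obtain ⟨g, hg⟩ := MulAction.exists_smul_eq G P₀ P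
  intro x hx
  rw [← hg, Sylow.coe_subgroup_smul] at hx ⊢
  obtain ⟨y, hy, rfl⟩ := hx
  have h1 := hP₀ y hy
  have h2 : ⁅(MulAut.conj g • (P₀ : Subgroup G)), (MulAut.conj g • (P₀ : Subgroup G))⁆
      = (⁅(P₀ : Subgroup G), (P₀ : Subgroup G)⁆).map (MulAut.conj g).toMonoidHom := by
    rw [Subgroup.map_commutator]
    rfl
  rw [h2]
  refine ⟨y ^ 2, h1, ?_⟩
  exact map_pow (MulAut.conj g).toMonoidHom y 2

theorem EA2_of_injective {G' : Type*} [Group G'] [Finite G'] (φ : G →* G')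
    (hφ : Function.Injective φ)
    (hv : (Nat.card G).factorization 2 = (Nat.card G').factorization 2) (h : EA2 G) : EA2 G' := by
  obtain ⟨P, hP⟩ := h
  have hcard : Nat.card ((P : Subgroup G).map φ) = 2 ^ (Nat.card G').factorization 2 := by
    rw [Subgroup.card_map_of_injective hφ, P.card_eq_multiplicity, hv]
  refine ⟨Sylow.ofCard _ hcard, ?_⟩
  rintro _ ⟨y, hy, rfl⟩
  show φ y ^ 2 ∈ ⁅(P : Subgroup G).map φ, (P : Subgroup G).map φ⁆
  rw [← Subgroup.map_commutator, ← map_pow]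
  exact ⟨y ^ 2, hP y hy, rfl⟩

end EA

open Cfsg.Agent.Helper4.Wreath
open scoped commutatorElement Pointwise

section Dicyclic

theorem EA2_dicyclic {N : Type*} [Group N] [Finite N] (T : Subgroup N) (hidx : T.index = 2)
    (hab : ∀ a ∈ T, ∀ b ∈ T, a * b = b * a)
    (hinv : ∀ w, w ∉ T → ∀ t ∈ T, w * t * w⁻¹ = t⁻¹)
    (z : N) (hsq : ∀ w, w ∉ T → w * w = z)
    (t₀ : N) (ht₀ : t₀ ∈ T) (ht₀z : t₀ * t₀ = z) (k : ℕ) (ht₀k : t₀ ^ (2 ^ k) = 1) : EA2 N := by
  obtain ⟨Q⟩ : Nonempty (Sylow 2 N) := inferInstance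
  refine ⟨Q, ?_⟩
  -- an element outside `T`
  obtain ⟨w, hwQ, hwT⟩ : ∃ w ∈ (Q : Subgroup N), w ∉ T := by
    by_contra hcon
    push Not at hcon
    have hle : (Q : Subgroup N) ≤ T := hcon
    have := Subgroup.index_dvd_of_le hle
    rw [hidx] at this
    exact Q.not_dvd_index this
  have hnorm : (Subgroup.zpowers t₀).Normal := by
    constructor
    intro y hy n
    obtain ⟨m, rfl⟩ := Subgroup.mem_zpowers_iff.1 hy
    rw [← MulAut.conj_apply, map_zpow]
    apply Subgroup.zpow_mem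
    rw [MulAut.conj_apply]
    by_cases hn : n ∈ T
    · have : n * t₀ * n⁻¹ = t₀ := by rw [hab n hn t₀ ht₀, mul_inv_cancel_right]
      rw [this]; exact Subgroup.mem_zpowers t₀
    · rw [hinv n hn t₀ ht₀]; exact Subgroup.inv_mem _ (Subgroup.mem_zpowers t₀)
  have ht₀Q : t₀ ∈ (Q : Subgroup N) :=
    (Cfsg.Agent.S2648.isPGroup_zpowers 2 k t₀ ht₀k).le_sylow_of_normal Q (Subgroup.mem_zpowers t₀)
  have hcase : ∀ x ∈ (Q : Subgroup N), x ∈ T →
      x ^ 2 ∈ ⁅(Q : Subgroup N), (Q : Subgroup N)⁆ := by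
    intro x hxQ hxT
    have h1 : ⁅w, x⁆ ∈ ⁅(Q : Subgroup N), (Q : Subgroup N)⁆ :=
      Subgroup.commutator_mem_commutator hwQ hxQ
    have h2 : ⁅w, x⁆ = (x ^ 2)⁻¹ := by
      rw [commutatorElement_def, hinv w hwT x hxT, pow_two, mul_inv_rev]
    rw [h2] at h1
    exact (Subgroup.inv_mem_iff _).1 h1
  intro x hxQ
  by_cases hxT : x ∈ T
  · exact hcase x hxQ hxT
  · have : x ^ 2 = t₀ ^ 2 := by rw [pow_two, pow_two, hsq x hxT, ht₀z]
    rw [this]
    exact hcase t₀ ht₀Q ht₀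

end Dicyclic

open Cfsg.Agent.Helper4.Wreath Cfsg.Agent.S2428
open scoped commutatorElement Pointwise

section SLTwo
variable {F : Type*} [Field F] [Fintype F]

local notation "SL2" => Matrix.SpecialLinearGroup (Fin 2) F

theorem v2_of_mod4 (m : ℕ) (h : m % 4 = 2) : padicValNat 2 m = 1 := by
  obtain ⟨k, hk⟩ : ∃ k, m = 2 * k := ⟨m / 2, by omega⟩
  have hk2 : ¬ 2 ∣ k := by omega
  rw [hk, padicValNat.mul (by norm_num) (by omega), padicValNat_self,
    padicValNat.eq_zero_of_not_dvd hk2]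

theorem v2_SL2 (hodd : Odd (Fintype.card F)) :
    padicValNat 2 (Nat.card SL2)
      = padicValNat 2 (Fintype.card F + 1) + padicValNat 2 (Fintype.card F - 1) := by
  have hq1 : 1 < Fintype.card F := Fintype.one_lt_card
  have hq3 : 3 ≤ Fintype.card F := by
    rcases hodd with ⟨k, hk⟩
    omega
  have h2q : ¬ 2 ∣ Fintype.card F := by
    rw [Nat.two_dvd_ne_zero]
    exact Nat.odd_iff.1 hodd
  have hpos : Fintype.card F ^ 2 - 1 ≠ 0 := by
    have : 3 ^ 2 ≤ Fintype.card F ^ 2 := Nat.pow_le_pow_left hq3 _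
    omega
  rw [Cfsg.Agent.S2250.card_SL2, padicValNat.mul (by omega) hpos,
    padicValNat.eq_zero_of_not_dvd h2q, zero_add]
  have := Cfsg.Agent.S2250.v2_term (Fintype.card F) hq3 hodd 0
  simpa using this

theorem EA2_SL2_one (hodd : Odd (Fintype.card F)) (h4 : Fintype.card F % 4 = 1) : EA2 SL2 := by
  have hq1 : 1 < Fintype.card F := Fintype.one_lt_card
  -- a square root of `-1`
  obtain ⟨i, hi⟩ : IsSquare (-1 : F) := by
    rw [FiniteField.isSquare_neg_one_iff]
    omega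
  obtain ⟨t₀, ht₀⟩ : ∃ t₀ : SL2, t₀ = ⟨!![i, 0; 0, -i], by
    rw [Matrix.det_fin_two_of]; linear_combination hi⟩ := ⟨_, rfl⟩
  have ht₀D : t₀ ∈ (D : Subgroup SL2) := by
    rw [ht₀]
    exact ⟨rfl, rfl⟩
  have ht₀sq : (t₀ * t₀).1 = -1 := by
    rw [ht₀]
    show (!![i, 0; 0, -i] : Matrix (Fin 2) (Fin 2) F) * !![i, 0; 0, -i] = -1
    ext a b
    fin_cases a <;> fin_cases b <;> simp [Matrix.mul_apply, Fin.sum_univ_two] <;>
      first | exact hi.symm
  have ht₀4 : t₀ ^ (2 ^ 2) = 1 := by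
    apply Subtype.ext
    have : t₀ ^ (2 ^ 2) = (t₀ * t₀) * (t₀ * t₀) := by
      rw [show (2 : ℕ) ^ 2 = 2 + 2 by norm_num, pow_add, pow_two]
    rw [this, Matrix.SpecialLinearGroup.coe_mul, ht₀sq]
    simp
  have hEA : EA2 (M : Subgroup SL2) := by
    refine EA2_dicyclic ((D : Subgroup SL2).subgroupOf M) index_D_in_M ?_ ?_
      (⟨t₀, D_le_M ht₀D⟩ * ⟨t₀, D_le_M ht₀D⟩) ?_ ⟨t₀, D_le_M ht₀D⟩ ?_ rfl 2 ?_
    · intro a ha b hb
      apply Subtype.ext
      exact D_comm a.1 b.1 ha hb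
    · rintro ⟨w, hwM⟩ hwT ⟨t, htM⟩ ht
      rw [Subgroup.mem_subgroupOf] at hwT ht
      rcases hwM with h | ⟨h1, h2⟩
      · exact absurd h hwT
      · apply Subtype.ext
        exact anti_inverts w t h1 h2 ht
    · rintro ⟨w, hwM⟩ hwT
      rw [Subgroup.mem_subgroupOf] at hwT
      rcases hwM with h | ⟨h1, h2⟩
      · exact absurd h hwT
      · apply Subtype.ext
        apply Subtype.ext
        show (w * w).1 = (t₀ * t₀).1
        rw [sq_of_anti w h1 h2, ht₀sq]
    · rw [Subgroup.mem_subgroupOf]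
      exact ht₀D
    · apply Subtype.ext
      exact ht₀4
  refine EA2_of_injective (M : Subgroup SL2).subtype (Subgroup.subtype_injective _) ?_ hEA
  rw [Nat.factorization_def _ Nat.prime_two, Nat.factorization_def _ Nat.prime_two, card_M,
    v2_SL2 hodd, padicValNat.mul (by norm_num) (by omega), padicValNat_self,
    v2_of_mod4 (Fintype.card F + 1) (by omega)]

end SLTwo

open Cfsg.Agent.Helper4.Wreath Cfsg.Agent.H9.NonsplitTorus
open scoped commutatorElement Pointwise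

section SLTwoB
variable {F : Type*} [Field F] [Fintype F]

local notation "SL2" => Matrix.SpecialLinearGroup (Fin 2) F

theorem EA2_SL2_three (hodd : Odd (Fintype.card F)) (h4 : Fintype.card F % 4 = 3) :
    EA2 SL2 := by
  have hq1 : 1 < Fintype.card F := Fintype.one_lt_card
  have hδ : ¬ IsSquare (-1 : F) := by
    rw [FiniteField.isSquare_neg_one_iff]
    omega
  obtain ⟨t₀, ht₀⟩ : ∃ t₀ : SL2, t₀ = ⟨!![0, -1; 1, 0], by
    rw [Matrix.det_fin_two_of]; ring⟩ := ⟨_, rfl⟩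
  have ht₀T : t₀ ∈ (Tn (-1 : F) : Subgroup SL2) := by
    rw [ht₀]
    refine ⟨rfl, ?_⟩
    show (-1 : F) = -1 * 1
    ring
  have ht₀sq : (t₀ * t₀).1 = -1 := by
    rw [ht₀]
    show (!![0, -1; 1, 0] : Matrix (Fin 2) (Fin 2) F) * !![0, -1; 1, 0] = -1
    ext a b
    fin_cases a <;> fin_cases b <;> simp [Matrix.mul_apply, Fin.sum_univ_two]
  have ht₀4 : t₀ ^ (2 ^ 2) = 1 := by
    apply Subtype.ext
    have : t₀ ^ (2 ^ 2) = (t₀ * t₀) * (t₀ * t₀) := by
      rw [show (2 : ℕ) ^ 2 = 2 + 2 by norm_num, pow_add, pow_two]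
    rw [this, Matrix.SpecialLinearGroup.coe_mul, ht₀sq]
    simp
  have hEA : EA2 (Mn (-1 : F) : Subgroup SL2) := by
    refine EA2_dicyclic ((Tn (-1 : F) : Subgroup SL2).subgroupOf (Mn (-1)))
      (index_Tn_in_Mn hδ hodd) ?_ ?_
      (⟨t₀, Tn_le_Mn _ ht₀T⟩ * ⟨t₀, Tn_le_Mn _ ht₀T⟩) ?_ ⟨t₀, Tn_le_Mn _ ht₀T⟩ ?_ rfl 2 ?_
    · intro a ha b hb
      apply Subtype.ext
      exact Tn_comm (-1) a.1 b.1 ha hb
    · rintro ⟨w, hwM⟩ hwT ⟨t, htM⟩ ht
      rw [Subgroup.mem_subgroupOf] at hwT ht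
      rcases hwM with h | ⟨h1, h2⟩
      · exact absurd h hwT
      · apply Subtype.ext
        exact anti_inverts (-1) w t h1 h2 ht
    · rintro ⟨w, hwM⟩ hwT
      rw [Subgroup.mem_subgroupOf] at hwT
      rcases hwM with h | ⟨h1, h2⟩
      · exact absurd h hwT
      · apply Subtype.ext
        apply Subtype.ext
        show (w * w).1 = (t₀ * t₀).1
        rw [sq_of_anti (-1) w h1 h2, ht₀sq]
    · rw [Subgroup.mem_subgroupOf]
      exact ht₀T
    · apply Subtype.ext
      exact ht₀4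
  refine EA2_of_injective (Mn (-1 : F) : Subgroup SL2).subtype (Subgroup.subtype_injective _) ?_
    hEA
  rw [Nat.factorization_def _ Nat.prime_two, Nat.factorization_def _ Nat.prime_two,
    card_Mn hδ hodd, v2_SL2 hodd, padicValNat.mul (by norm_num) (by omega), padicValNat_self,
    v2_of_mod4 (Fintype.card F - 1) (by omega), add_comm]

theorem EA2_SL2 (hodd : Odd (Fintype.card F)) : EA2 SL2 := by
  have h := Nat.odd_iff.1 hodd
  have h4 : Fintype.card F % 4 = 1 ∨ Fintype.card F % 4 = 3 := by omega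
  rcases h4 with h4 | h4
  · exact EA2_SL2_one hodd h4
  · exact EA2_SL2_three hodd h4

end SLTwoB

open Cfsg.Agent.Helper4.Wreath
open scoped commutatorElement Pointwise

section LemmaL
variable {ι : Type*} [DecidableEq ι] [Fintype ι] {H : Type*} [Group H] [Finite H]

/-- the subgroup `Q ≀ Σ` of the wreath product -/
def wrSub (Q : Subgroup H) (S : Subgroup (Equiv.Perm ι)) : Subgroup (Wr ι H) where
  carrier := {w | (∀ i, w.left i ∈ Q) ∧ w.right ∈ S}
  one_mem' := ⟨fun _ => Q.one_mem, S.one_mem⟩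
  mul_mem' := by
    rintro w w' ⟨h1, h2⟩ ⟨h1', h2'⟩
    refine ⟨fun i => ?_, S.mul_mem h2 h2'⟩
    rw [SemidirectProduct.mul_left, Pi.mul_apply, permAut_apply]
    exact Q.mul_mem (h1 i) (h1' _)
  inv_mem' := by
    rintro w ⟨h1, h2⟩
    refine ⟨fun i => ?_, S.inv_mem h2⟩
    rw [SemidirectProduct.inv_left, permAut_apply, Pi.inv_apply]
    exact Q.inv_mem (h1 _)

theorem mem_wrSub {Q : Subgroup H} {S : Subgroup (Equiv.Perm ι)} {w : Wr ι H} :
    w ∈ wrSub Q S ↔ (∀ i, w.left i ∈ Q) ∧ w.right ∈ S := Iff.rfl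

/-- the underlying bijection -/
def wrSubEquiv (Q : Subgroup H) (S : Subgroup (Equiv.Perm ι)) :
    wrSub Q S ≃ (ι → Q) × S where
  toFun w := (fun i => ⟨w.1.left i, w.2.1 i⟩, ⟨w.1.right, w.2.2⟩)
  invFun x := ⟨⟨fun i => (x.1 i).1, x.2.1⟩, ⟨fun i => (x.1 i).2, x.2.2⟩⟩
  left_inv w := rfl
  right_inv x := rfl

theorem card_wrSub (Q : Subgroup H) (S : Subgroup (Equiv.Perm ι)) :
    Nat.card (wrSub Q S) = Nat.card Q ^ Fintype.card ι * Nat.card S := by
  have h1 : Nat.card (wrSub Q S) = Nat.card ((ι → Q) × S) := Nat.card_congr (wrSubEquiv Q S)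
  have h2 : Nat.card ((ι → Q) × S) = Nat.card (ι → Q) * Nat.card S := Nat.card_prod _ _
  have h3 : Nat.card (ι → Q) = Nat.card Q ^ Nat.card ι := Nat.card_fun
  have h4 : Nat.card ι = Fintype.card ι := Nat.card_eq_fintype_card
  rw [h1, h2, h3, h4]

theorem card_aux (Q : Sylow 2 H) (S : Sylow 2 (Equiv.Perm ι)) :
    Nat.card (Q : Subgroup H) ^ Fintype.card ι * Nat.card (S : Subgroup (Equiv.Perm ι))
      = 2 ^ (Nat.card (Wr ι H)).factorization 2 := by
  have h1 : Nat.card (Wr ι H) = Nat.card H ^ Fintype.card ι * Nat.card (Equiv.Perm ι) := by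
    have h2 : Nat.card (Wr ι H) = Nat.card (ι → H) * Nat.card (Equiv.Perm ι) :=
      SemidirectProduct.card
    have h3 : Nat.card (ι → H) = Nat.card H ^ Nat.card ι := Nat.card_fun
    have h4 : Nat.card ι = Fintype.card ι := Nat.card_eq_fintype_card
    rw [h2, h3, h4]
  rw [h1, Q.card_eq_multiplicity, S.card_eq_multiplicity,
    Nat.factorization_mul (pow_ne_zero _ Nat.card_pos.ne') Nat.card_pos.ne',
    Nat.factorization_pow, ← pow_mul, ← pow_add]
  congr 1
  simp only [Finsupp.coe_add, Finsupp.coe_smul, Pi.add_apply, Pi.smul_apply, smul_eq_mul]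
  ring

theorem EA2_wr (hH : EA2 H) (hS : EA2 (Equiv.Perm ι)) : EA2 (Wr ι H) := by
  obtain ⟨Q, hQ⟩ := hH
  obtain ⟨S, hS⟩ := hS
  haveI : Finite (Wr ι H) := Cfsg.Agent.S2250.finite_Wr
  have hcard : Nat.card (wrSub (Q : Subgroup H) (S : Subgroup (Equiv.Perm ι)))
      = 2 ^ (Nat.card (Wr ι H)).factorization 2 := by
    rw [card_wrSub]
    exact card_aux Q S
  obtain ⟨B, hB⟩ : ∃ B, B = wrSub (Q : Subgroup H) (S : Subgroup (Equiv.Perm ι)) := ⟨_, rfl⟩
  rw [← hB] at hcard
  refine ⟨Sylow.ofCard B hcard, ?_⟩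
  rw [Sylow.coe_ofCard]
  -- the permutation part
  have hinr : ∀ σ ∈ (S : Subgroup (Equiv.Perm ι)),
      (SemidirectProduct.inr σ : Wr ι H) ∈ B ∧ (SemidirectProduct.inr σ : Wr ι H) ^ 2 ∈ ⁅B, B⁆ := by
    intro σ hσ
    have hle : (S : Subgroup (Equiv.Perm ι)).map (SemidirectProduct.inr : _ →* Wr ι H) ≤ B := by
      rintro _ ⟨τ, hτ, rfl⟩
      rw [hB]
      exact ⟨fun _ => Subgroup.one_mem _, hτ⟩
    refine ⟨hle ⟨σ, hσ, rfl⟩, ?_⟩
    have h1 := hS σ hσ
    have h2 : (SemidirectProduct.inr σ : Wr ι H) ^ 2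
        ∈ (⁅(S : Subgroup (Equiv.Perm ι)), (S : Subgroup (Equiv.Perm ι))⁆).map
          (SemidirectProduct.inr : _ →* Wr ι H) := ⟨σ ^ 2, h1, map_pow _ _ _⟩
    rw [Subgroup.map_commutator] at h2
    exact Subgroup.commutator_mono hle hle h2
  -- the base part
  have hsingle : ∀ i, (Q : Subgroup H).map (single i) ≤ B := by
    rintro i _ ⟨h, hh, rfl⟩
    rw [hB]
    refine ⟨fun j => ?_, Subgroup.one_mem _⟩
    show (Pi.mulSingle i h : ι → H) j ∈ (Q : Subgroup H)
    by_cases hj : j = i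
    · rw [hj, Pi.mulSingle_eq_same]; exact hh
    · rw [Pi.mulSingle_eq_of_ne hj]; exact Subgroup.one_mem _
  have hpi : Subgroup.pi Set.univ (fun _ : ι => ⁅(Q : Subgroup H), (Q : Subgroup H)⁆)
      ≤ (⁅B, B⁆).comap (SemidirectProduct.inl : _ →* Wr ι H) := by
    rw [Subgroup.pi_le_iff]
    rintro i _ ⟨x, hx, rfl⟩
    rw [Subgroup.mem_comap]
    have h2 : single i x ∈ (⁅(Q : Subgroup H), (Q : Subgroup H)⁆).map (single (ι := ι) i) :=
      ⟨x, hx, rfl⟩
    rw [Subgroup.map_commutator] at h2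
    exact Subgroup.commutator_mono (hsingle i) (hsingle i) h2
  have hinl : ∀ a : ι → H, (∀ i, a i ∈ (Q : Subgroup H)) →
      (SemidirectProduct.inl a : Wr ι H) ∈ B ∧ (SemidirectProduct.inl a : Wr ι H) ^ 2 ∈ ⁅B, B⁆ := by
    intro a ha
    refine ⟨?_, ?_⟩
    · rw [hB]
      exact ⟨ha, Subgroup.one_mem _⟩
    · rw [← map_pow]
      apply hpi
      rw [Subgroup.mem_pi]
      intro i _
      rw [Pi.pow_apply]
      exact hQ (a i) (ha i)
  intro w hw
  have hw' := hw
  rw [hB] at hw'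
  rw [← SemidirectProduct.inl_left_mul_inr_right w]
  obtain ⟨h1, h2⟩ := hinl w.left hw'.1
  obtain ⟨h3, h4⟩ := hinr w.right hw'.2
  exact sq_mul_mem h1 h3 h2 h4

end LemmaL

open Cfsg.Agent.Helper4.Wreath
open scoped commutatorElement Pointwise

section PermEmbed
variable {ι : Type*} {Λ : Type*}

/-- the imprimitive action of the wreath product -/
def wrPerm (ι Λ : Type*) : Wr ι (Equiv.Perm Λ) →* Equiv.Perm (ι × Λ) where
  toFun w :=
    { toFun := fun x => (w.right x.1, (w.left (w.right x.1)) x.2)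
      invFun := fun x => (w.right.symm x.1, (w.left x.1).symm x.2)
      left_inv := by
        intro x
        simp
      right_inv := by
        intro x
        simp }
  map_one' := by
    apply Equiv.ext
    intro x
    rfl
  map_mul' w w' := by
    apply Equiv.ext
    intro x
    apply Prod.ext
    · rfl
    · show ((w * w').left ((w * w').right x.1)) x.2
        = (w.left (w.right (w'.right x.1))) ((w'.left (w'.right x.1)) x.2)
      simp only [SemidirectProduct.mul_left, SemidirectProduct.mul_right, Pi.mul_apply,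
        permAut_apply, Equiv.Perm.mul_apply, Equiv.symm_apply_apply]

theorem wrPerm_apply (w : Wr ι (Equiv.Perm Λ)) (x : ι × Λ) :
    wrPerm ι Λ w x = (w.right x.1, (w.left (w.right x.1)) x.2) := rfl

theorem wrPerm_injective [Nonempty Λ] : Function.Injective (wrPerm ι Λ) := by
  rw [injective_iff_map_eq_one]
  intro w hw
  obtain ⟨l₀⟩ := ‹Nonempty Λ›
  have key : ∀ x : ι × Λ, (w.right x.1, (w.left (w.right x.1)) x.2) = x := by
    intro x
    rw [← wrPerm_apply, hw]
    rfl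
  have hσ : ∀ i, w.right i = i := fun i => congrArg Prod.fst (key (i, l₀))
  apply SemidirectProduct.ext
  · funext i
    apply Equiv.ext
    intro l
    have := congrArg Prod.snd (key (i, l))
    simp only [hσ] at this
    exact this
  · exact Equiv.ext hσ

end PermEmbed

section PermEA

theorem EA2_of_sq_one {G : Type*} [Group G] [Finite G] (h : ∀ x : G, x ^ 2 = 1) : EA2 G := by
  obtain ⟨P⟩ : Nonempty (Sylow 2 G) := inferInstance
  refine ⟨P, fun x _ => ?_⟩
  rw [h x]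
  exact Subgroup.one_mem _

theorem EA2_of_mulEquiv {G G' : Type*} [Group G] [Finite G] [Group G'] [Finite G'] (e : G ≃* G')
    (h : EA2 G) : EA2 G' :=
  EA2_of_injective e.toMonoidHom e.injective (by rw [Nat.card_congr e.toEquiv]) h

theorem EA2_perm_double (m : ℕ) (h : EA2 (Equiv.Perm (Fin m))) :
    EA2 (Equiv.Perm (Fin (m * 2))) := by
  have h2 : EA2 (Equiv.Perm (Fin 2)) := EA2_of_sq_one (by decide)
  have h3 : EA2 (Wr (Fin m) (Equiv.Perm (Fin 2))) := EA2_wr h2 h
  haveI : Finite (Wr (Fin m) (Equiv.Perm (Fin 2))) := Cfsg.Agent.S2250.finite_Wr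
  have h4 : EA2 (Equiv.Perm (Fin m × Fin 2)) := by
    refine EA2_of_injective (wrPerm (Fin m) (Fin 2)) wrPerm_injective ?_ h3
    have c1 : Nat.card (Wr (Fin m) (Equiv.Perm (Fin 2))) = 2 ^ m * m.factorial := by
      have e1 : Nat.card (Wr (Fin m) (Equiv.Perm (Fin 2)))
          = Nat.card (Fin m → Equiv.Perm (Fin 2)) * Nat.card (Equiv.Perm (Fin m)) :=
        SemidirectProduct.card
      have e2 : Nat.card (Fin m → Equiv.Perm (Fin 2))
          = Nat.card (Equiv.Perm (Fin 2)) ^ Nat.card (Fin m) := Nat.card_fun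
      rw [e1, e2, Nat.card_perm, Nat.card_perm, Nat.card_fin, Nat.card_fin]
      rfl
    have c2 : Nat.card (Equiv.Perm (Fin m × Fin 2)) = (2 * m).factorial := by
      rw [Nat.card_perm, Nat.card_prod, Nat.card_fin, Nat.card_fin, mul_comm]
    rw [c1, c2, Nat.factorization_mul (pow_ne_zero _ (by norm_num)) (Nat.factorial_ne_zero m),
      Nat.factorization_pow, Finsupp.coe_add, Finsupp.coe_smul, Pi.add_apply, Pi.smul_apply,
      Nat.prime_two.factorization_self, smul_eq_mul, mul_one,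
      Nat.factorization_def _ Nat.prime_two, Nat.factorization_def _ Nat.prime_two,
      padicValNat_factorial_mul, add_comm]
  exact EA2_of_mulEquiv (Equiv.permCongrHom finProdFinEquiv) h4

theorem EA2_perm_succ (m : ℕ) (h : EA2 (Equiv.Perm (Fin (2 * m)))) :
    EA2 (Equiv.Perm (Fin (2 * m + 1))) := by
  refine EA2_of_injective (Equiv.Perm.viaEmbeddingHom (Fin.castSuccEmb (n := 2 * m)))
    (Equiv.Perm.viaEmbeddingHom_injective _) ?_ h
  rw [Nat.card_perm, Nat.card_perm, Nat.card_fin, Nat.card_fin,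
    Nat.factorization_def _ Nat.prime_two, Nat.factorization_def _ Nat.prime_two,
    padicValNat_factorial_mul_add m (by norm_num : 1 < 2)]

theorem EA2_perm : ∀ n : ℕ, EA2 (Equiv.Perm (Fin n)) := by
  intro n
  induction n using Nat.strong_induction_on with
  | _ n ih =>
    rcases Nat.even_or_odd' n with ⟨m, hm | hm⟩
    · rcases Nat.eq_zero_or_pos m with h0 | h0
      · subst hm
        subst h0
        exact EA2_of_sq_one (fun x => by
          have : x = 1 := Equiv.ext (fun i => absurd i.2 (by simp))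
          rw [this, one_pow])
      · have := EA2_perm_double m (ih m (by omega))
        rw [hm, mul_comm]
        exact this
    · rw [hm]
      exact EA2_perm_succ m (ih (2 * m) (by omega))

end PermEA

open Cfsg.Agent.Helper4.Wreath Cfsg.Agent.S2648
open scoped commutatorElement Pointwise

section Final
variable {F : Type*} [Field F] [Fintype F]

theorem EA2_Sp (hF : Odd (Fintype.card F)) (n : ℕ) :
    EA2 (Matrix.symplecticGroup (Fin n) F) := by
  classical
  haveI : Finite (Wr (Fin n) (Matrix.SpecialLinearGroup (Fin 2) F)) :=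
    Cfsg.Agent.S2250.finite_Wr
  have h1 : EA2 (Wr (Fin n) (Matrix.SpecialLinearGroup (Fin 2) F)) :=
    EA2_wr (EA2_SL2 hF) (EA2_perm n)
  exact EA2_of_injective psi psi_injective (Cfsg.Agent.S2250.v2_card_Sp hF n).symm h1

/-- passing from the ambient commutator to the commutator subgroup of the subgroup -/
theorem mem_commutator_subtype {G : Type*} [Group G] (B : Subgroup G) (x : B)
    (h : (x : G) ∈ ⁅B, B⁆) : x ∈ commutator B := by
  have e : (commutator B).map B.subtype = ⁅B, B⁆ := by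
    rw [commutator_def, Subgroup.map_commutator, ← MonoidHom.range_eq_map, Subgroup.range_subtype]
  rw [← e] at h
  obtain ⟨y, hy, hyx⟩ := h
  have : y = x := Subtype.ext hyx
  rw [← this]
  exact hy

end Final

/-- Let F be a finite field of odd order and n ≥ 1. A Sylow 2-subgroup P of the symplectic group Sp_{2n}(F) has P/P' elementary abelian: the square of every element of P lies in the derived subgroup of P. -/
theorem result {F : Type*} [Field F] [Fintype F] (hF : Odd (Fintype.card F)) (n : ℕ) (hn : 1 ≤ n) (P : Sylow 2 (Matrix.symplecticGroup (Fin n) F)) :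
    ∀ x : (P : Subgroup (Matrix.symplecticGroup (Fin n) F)), x ^ 2 ∈ commutator (P : Subgroup (Matrix.symplecticGroup (Fin n) F)) := by
  intro x
  apply mem_commutator_subtype
  have h := EA2_all (EA2_Sp hF n) P x.1 x.2
  simpa using h

end Cfsg.Agent.S4624
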