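import Cfsg.Statements.S0695
import Mathlib

set_option autoImplicit false
open Cfsg

namespace Cfsg.Agent.S0695

open MulAction SubMulAction
open scoped Pointwise

/-- freeness of a subgroup action with trivial point stabilisers -/
theorem free_of_stabilizer {G : Type*} [Group G] {X : Type*} [MulAction G X] (N : Subgroup G)
    (hreg : ∀ x : X, MulAction.stabilizer N x = ⊥) {m₁ m₂ : G} (h₁ : m₁ ∈ N) (h₂ : m₂ ∈ N) (x : X)
    (h : m₁ • x = m₂ • x) : m₁ = m₂ := by
  have h3 : (⟨m₂⁻¹ * m₁, N.mul_mem (N.inv_mem h₂) h₁⟩ : N) ∈ MulAction.stabilizer N x := by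
    rw [MulAction.mem_stabilizer_iff]
    show (m₂⁻¹ * m₁) • x = x
    rw [mul_smul, h, inv_smul_smul]
  rw [hreg x, Subgroup.mem_bot] at h3
  have h4 : m₂⁻¹ * m₁ = 1 := congrArg Subtype.val h3
  rw [inv_mul_eq_one] at h4
  exact h4.symm

/-- the key step: in the doubly primitive case with degree different from 3, every element of the
regular normal subgroup is an involution -/
theorem sq_eq_one_of_card_ne_three {G : Type*} [Group G] {X : Type*} [Fintype X] [MulAction G X]
    (h2 : MulAction.IsMultiplyPreprimitive G X 2) (N : Subgroup G) [hN : N.Normal]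
    (hreg : ∀ x : X, MulAction.stabilizer N x = ⊥) (h3 : Fintype.card X ≠ 3) (x : X) :
    ∀ n ∈ N, n ^ 2 = 1 := by
  classical
  intro n hn
  by_contra hn2
  apply h3
  have hninv : n⁻¹ ∈ N := N.inv_mem hn
  set u := n • x with hu
  set v := n⁻¹ • x with hv
  have hn1 : n ≠ 1 := by
    rintro rfl
    exact hn2 (one_pow 2)
  have hux : u ≠ x := by
    intro h
    apply hn1
    exact free_of_stabilizer N hreg hn N.one_mem x (by rw [one_smul]; exact h)
  have hvx : v ≠ x := by
    intro h
    apply hn1
    have := free_of_stabilizer N hreg hninv N.one_mem x (by rw [one_smul]; exact h)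
    exact inv_eq_one.mp this
  have huv : u ≠ v := by
    intro h
    apply hn2
    have := free_of_stabilizer N hreg hn hninv x h
    rw [pow_two]
    calc n * n = n * n⁻¹ := by rw [← this]
      _ = 1 := mul_inv_cancel n
  -- the primitive action of the point stabiliser
  have hprim : IsPreprimitive (fixingSubgroup G ({x} : Set X)) (ofFixingSubgroup G ({x} : Set X)) :=
    h2.isPreprimitive_ofFixingSubgroup (by simp; norm_num)
  -- the block
  set B' : Set X := {u, v} with hB'
  have hconj : ∀ g : fixingSubgroup G ({x} : Set X), ∀ m : G,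
      g • (m • x) = ((g : G) * m * (g : G)⁻¹) • x := by
    intro g m
    have hgx : (g : G) • x = x := (mem_fixingSubgroup_iff G).mp g.2 x rfl
    show (g : G) • (m • x) = _
    rw [mul_smul, mul_smul, inv_smul_eq_iff.mpr hgx.symm]
  have hblock' : IsBlock (fixingSubgroup G ({x} : Set X)) B' := by
    rw [isBlock_iff_smul_eq_of_mem]
    intro g a ha hga
    set m := (g : G) * n * (g : G)⁻¹ with hm
    have hmN : m ∈ N := hN.conj_mem n hn g
    have hgu : g • u = m • x := hconj g n
    have hgv : g • v = m⁻¹ • x := by
      rw [hv, hconj g n⁻¹, hm]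
      congr 1
      group
    have hgB : g • B' = {m • x, m⁻¹ • x} := by
      rw [hB', Set.smul_set_insert, Set.smul_set_singleton, hgu, hgv]
    -- `m = n` or `m = n⁻¹`
    have hcases : m = n ∨ m = n⁻¹ := by
      rcases ha with rfl | ha
      · rw [hgu] at hga
        rcases hga with h | h
        · exact Or.inl (free_of_stabilizer N hreg hmN hn x h)
        · exact Or.inr (free_of_stabilizer N hreg hmN hninv x h)
      · rw [Set.mem_singleton_iff] at ha
        subst ha
        rw [hgv] at hga
        rcases hga with h | h
        · have := free_of_stabilizer N hreg (N.inv_mem hmN) hn x h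
          right
          rw [← this, inv_inv]
        · have := free_of_stabilizer N hreg (N.inv_mem hmN) hninv x h
          left
          exact inv_injective this
    rw [hgB]
    rcases hcases with h | h
    · rw [h]
    · rw [h, inv_inv, Set.pair_comm]
  -- transfer to the sub-action
  have huS : u ∈ ofFixingSubgroup G ({x} : Set X) := by
    rw [mem_ofFixingSubgroup_iff]; exact hux
  have hvS : v ∈ ofFixingSubgroup G ({x} : Set X) := by
    rw [mem_ofFixingSubgroup_iff]; exact hvx
  have hblock := hblock'.subtype_val_preimage (C := ofFixingSubgroup G ({x} : Set X))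
  rcases hprim.isTrivialBlock_of_isBlock hblock with hsub | huniv
  · exfalso
    have h1 : (⟨u, huS⟩ : ofFixingSubgroup G ({x} : Set X)) ∈ Subtype.val ⁻¹' B' := by
      simp [hB']
    have h2' : (⟨v, hvS⟩ : ofFixingSubgroup G ({x} : Set X)) ∈ Subtype.val ⁻¹' B' := by
      simp [hB']
    exact huv (congrArg Subtype.val (hsub h1 h2'))
  · -- `X = {x, u, v}`
    have hall : ∀ y : X, y = x ∨ y = u ∨ y = v := by
      intro y
      by_cases hy : y = x
      · exact Or.inl hy
      · right
        have hyS : y ∈ ofFixingSubgroup G ({x} : Set X) := by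
          rw [mem_ofFixingSubgroup_iff]; exact hy
        have : (⟨y, hyS⟩ : ofFixingSubgroup G ({x} : Set X)) ∈ Subtype.val ⁻¹' B' := by
          rw [huniv]; trivial
        simpa [hB'] using this
    have huniv' : (Finset.univ : Finset X) = {x, u, v} := by
      ext y
      simp only [Finset.mem_univ, Finset.mem_insert, Finset.mem_singleton, true_iff]
      exact hall y
    rw [← Finset.card_univ, huniv']
    rw [Finset.card_insert_of_notMem, Finset.card_insert_of_notMem, Finset.card_singleton]
    · simpa using huv
    · simp only [Finset.mem_insert, Finset.mem_singleton, not_or]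
      exact ⟨fun h => hux h.symm, fun h => hvx h.symm⟩

/-- A regular normal subgroup of a doubly primitive group of finite degree at least 2 is an elementary abelian 2-group (and the degree is a power of 2), unless the degree is 3. -/
theorem result {G : Type*} [Group G] {X : Type*} [Fintype X] [MulAction G X] (hX : 2 ≤ Fintype.card X) (h2 : MulAction.IsMultiplyPreprimitive G X 2) (N : Subgroup G) [N.Normal] (htrans : MulAction.IsPretransitive N X) (hreg : ∀ x : X, MulAction.stabilizer N x = ⊥) : Fintype.card X = 3 ∨ (IsMulCommutative N ∧ (∀ n ∈ N, n ^ 2 = 1) ∧ ∃ m : ℕ, Fintype.card X = 2 ^ m) := by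
  classical
  by_cases h3 : Fintype.card X = 3
  · exact Or.inl h3
  right
  have hne : Nonempty X := by
    rw [← Fintype.card_pos_iff]; omega
  obtain ⟨x⟩ := hne
  have hsq := sq_eq_one_of_card_ne_three h2 N hreg h3 x
  have hcomm : ∀ a b : N, a * b = b * a := by
    intro a b
    have ha : a * a = 1 := by
      apply Subtype.ext
      have := hsq a a.2
      rw [pow_two] at this
      exact this
    have hb : b * b = 1 := by
      apply Subtype.ext
      have := hsq b b.2
      rw [pow_two] at this
      exact this
    have hab : (a * b) * (a * b) = 1 := by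
      apply Subtype.ext
      have := hsq (a * b) (a * b).2
      rw [pow_two] at this
      exact this
    calc a * b = a * ((a * b) * (a * b)) * b := by rw [hab, mul_one]
      _ = (a * a) * (b * a) * (b * b) := by simp only [mul_assoc]
      _ = b * a := by rw [ha, hb, one_mul, mul_one]
  refine ⟨⟨⟨hcomm⟩⟩, hsq, ?_⟩
  -- the order of `N` is the degree
  have hbij : Function.Bijective (fun n : N => n • x) := by
    constructor
    · intro a b hab
      apply Subtype.ext
      exact free_of_stabilizer N hreg a.2 b.2 x hab
    · intro y
      exact MulAction.exists_smul_eq N x y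
  have hfin : Finite N := Finite.of_injective _ hbij.1
  have hcard : Nat.card N = Fintype.card X := by
    rw [← Nat.card_eq_fintype_card]
    exact Nat.card_congr (Equiv.ofBijective _ hbij)
  have : Fact (Nat.Prime 2) := ⟨Nat.prime_two⟩
  have hpg : IsPGroup 2 N := by
    intro g
    refine ⟨1, ?_⟩
    rw [pow_one]
    apply Subtype.ext
    exact hsq g g.2
  obtain ⟨m, hm⟩ := (IsPGroup.iff_card (G := N)).mp hpg
  exact ⟨m, by rw [← hcard, hm]⟩

end Cfsg.Agent.S0695
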