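import Cfsg.Statements.S0556
import Mathlib
import Cfsg.Agent.H1.AbelianMaximal

set_option autoImplicit false
open Cfsg

namespace Cfsg.Agent.S0556

set_option autoImplicit false
open scoped Pointwise commutatorElement
open Cfsg.Agent.H1

/-- If a finite group has a maximal subgroup that is abelian, then the third term of its derived series is trivial (so the group is solvable of derived length at most three). -/
theorem result {G : Type*} [Group G] [Finite G] (A : Subgroup G) (hA : IsCoatom A) [IsMulCommutative A] : derivedSeries G 3 = ⊥ := by
  have hab : IsMulCommutative A := inferInstance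
  have hAA : ⁅A, A⁆ = ⊥ := Subgroup.commutator_self_eq_bot_iff.mpr hab
  by_cases hAn : A.Normal
  · -- normal case
    obtain ⟨x, -, hx⟩ := SetLike.exists_of_lt (lt_top_iff_ne_top.mpr hA.1)
    have hsup : A ⊔ Subgroup.zpowers x = ⊤ := by
      apply hA.2
      refine lt_of_le_of_ne le_sup_left ?_
      intro h
      apply hx
      have : Subgroup.zpowers x ≤ A := le_of_le_of_eq le_sup_right h.symm
      exact this (Subgroup.mem_zpowers x)
    have hd1 : commutator G ≤ A :=
      hAn.commutator_le_of_self_sup_commutative_eq_top hsup inferInstance
    have hd2 : derivedSeries G 2 = ⊥ := by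
      rw [derivedSeries_succ, derivedSeries_one, eq_bot_iff, ← hAA]
      exact Subgroup.commutator_mono hd1 hd1
    rw [derivedSeries_succ, hd2, Subgroup.commutator_bot_left]
  · -- non-normal case
    have hNA : Subgroup.normalizer (A : Set G) = A := by
      rcases eq_or_lt_of_le (Subgroup.le_normalizer : A ≤ Subgroup.normalizer (A : Set G)) with h | h
      · exact h.symm
      · exfalso
        apply hAn
        exact Subgroup.normalizer_eq_top_iff.mp (hA.2 _ h)
    have hZA : Subgroup.center G ≤ A := by
      by_contra hZ
      apply hAn
      have hsup : A ⊔ Subgroup.center G = ⊤ := by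
        apply hA.2
        refine lt_of_le_of_ne le_sup_left ?_
        intro h
        apply hZ
        exact le_of_le_of_eq le_sup_right h.symm
      rw [← Subgroup.normalizer_eq_top_iff, eq_top_iff, ← hsup]
      exact sup_le Subgroup.le_normalizer (Subgroup.center_le_normalizer _)
    -- intersections of conjugates are central
    have hint : ∀ g : G, g ∉ A → A ⊓ MulAut.conj g • A ≤ Subgroup.center G := by
      intro g hg
      have hne : MulAut.conj g • A ≠ A := by
        intro h
        apply hg
        rw [← hNA, Subgroup.mem_normalizer_iff]
        intro z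
        rw [← conj_mem_conj_smul g z A, h]
      have hcard : Nat.card (MulAut.conj g • A : Subgroup G) = Nat.card A := card_conj_smul g A
      have hsup : A ⊔ MulAut.conj g • A = ⊤ := by
        apply hA.2
        refine lt_of_le_of_ne le_sup_left ?_
        intro h
        apply hne
        have hle : MulAut.conj g • A ≤ A := le_of_le_of_eq le_sup_right h.symm
        exact Subgroup.eq_of_le_of_card_ge hle hcard.ge
      intro x hx
      obtain ⟨hx1, hx2⟩ := Subgroup.mem_inf.mp hx
      have hcent : (⊤ : Subgroup G) ≤ Subgroup.centralizer ({x} : Set G) := by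
        rw [← hsup]
        refine sup_le ?_ ?_
        · intro a ha
          rw [Subgroup.mem_centralizer_singleton_iff]
          have := hab.is_comm.comm (⟨a, ha⟩ : A) ⟨x, hx1⟩
          exact congrArg Subtype.val this
        · intro a ha
          rw [Subgroup.mem_centralizer_singleton_iff]
          rw [mem_conj_smul] at ha hx2
          have := hab.is_comm.comm (⟨_, ha⟩ : A) ⟨_, hx2⟩
          have := congrArg Subtype.val this
          simp only [Subgroup.coe_mul] at this
          calc a * x = g * ((g⁻¹ * a * g) * (g⁻¹ * x * g)) * g⁻¹ := by group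
            _ = g * ((g⁻¹ * x * g) * (g⁻¹ * a * g)) * g⁻¹ := by rw [this]
            _ = x * a := by group
      rw [Subgroup.mem_center_iff]
      intro y
      have := hcent (Subgroup.mem_top y)
      rw [Subgroup.mem_centralizer_singleton_iff] at this
      exact this
    -- quotient
    obtain ⟨π, hπ⟩ : ∃ π : G →* G ⧸ Subgroup.center G, π = QuotientGroup.mk' (Subgroup.center G) := ⟨_, rfl⟩
    have hπs : Function.Surjective π := by rw [hπ]; exact QuotientGroup.mk'_surjective _
    have hker : π.ker = Subgroup.center G := by rw [hπ]; exact QuotientGroup.ker_mk' _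
    have hcomap : (A.map π).comap π = A := by
      rw [Subgroup.comap_map_eq, hker, sup_eq_left.mpr hZA]
    have hmem : ∀ g : G, π g ∈ A.map π ↔ g ∈ A := by
      intro g
      rw [← Subgroup.mem_comap, hcomap]
    have hĀab : IsMulCommutative (A.map π) := Subgroup.map_isMulCommutative A π
    have hĀco : IsCoatom (A.map π) := by
      constructor
      · intro h
        apply hA.1
        rw [← hcomap, h, Subgroup.comap_top]
      · intro K hK
        have h1 : A < K.comap π := by
          rw [← hcomap]
          exact (Subgroup.comap_lt_comap_of_surjective hπs).mpr hK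
        have h2 := hA.2 _ h1
        rw [← Subgroup.comap_top π] at h2
        exact Subgroup.comap_injective hπs h2
    have hĀne : A.map π ≠ ⊥ := by
      intro h
      apply hAn
      have hAZ : A ≤ Subgroup.center G := by
        rw [← hker]
        exact (Subgroup.map_eq_bot_iff _).mp h
      have : A = Subgroup.center G := le_antisymm hAZ hZA
      rw [this]; infer_instance
    have hF : Cfsg.IsFrobeniusComplement (A.map π) := by
      refine ⟨hĀne, hĀco.1, ?_⟩
      intro q hq
      obtain ⟨g, rfl⟩ := hπs q
      have hg : g ∉ A := fun h => hq ((hmem g).mpr h)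
      rw [eq_bot_iff]
      intro z hz
      obtain ⟨hz1, hz2⟩ := Subgroup.mem_inf.mp hz
      obtain ⟨x, hx, rfl⟩ := Subgroup.mem_map.mp hz1
      rw [mem_conj_smul] at hz2
      have h1 : π (g⁻¹ * x * g) ∈ A.map π := by simpa using hz2
      rw [hmem] at h1
      have h2 : x ∈ A ⊓ MulAut.conj g • A := by
        refine Subgroup.mem_inf.mpr ⟨hx, ?_⟩
        rw [mem_conj_smul]; exact h1
      have h3 : x ∈ π.ker := by rw [hker]; exact hint g hg h2
      rw [Subgroup.mem_bot]; exact h3
    have hd2 := derived_two_of_abelian_frobenius_coatom (A.map π) hĀco hĀab hF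
    have hd2' : derivedSeries G 2 ≤ Subgroup.center G := by
      rw [← hker, ← Subgroup.map_eq_bot_iff, map_derivedSeries_eq hπs]
      exact hd2
    rw [derivedSeries_succ, eq_bot_iff]
    calc ⁅derivedSeries G 2, derivedSeries G 2⁆ ≤ ⁅Subgroup.center G, (⊤ : Subgroup G)⁆ :=
          Subgroup.commutator_mono hd2' le_top
      _ = ⊥ := by
          rw [Subgroup.commutator_eq_bot_iff_le_centralizer, Subgroup.coe_top, Subgroup.centralizer_univ]

end Cfsg.Agent.S0556
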