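import Mathlib
import Cfsg.Statements.S4675
import Cfsg.Agent.Lib.helper3.RankOne4

set_option autoImplicit false
open Cfsg

namespace Cfsg.Agent.S4675

open Cfsg.Agent.Lib.helper3.Block Cfsg.Agent.Lib.helper3.LocalM Cfsg.Agent.Lib.helper3.Irr Cfsg.Agent.Lib.helper3.Central

set_option linter.style.haveILetI false

/-- Fix a prime p and a maximal ideal M of the algebraic integers containing p. Let B be a p-block of the finite group G with defect group P and p-regular rank one (a single irreducible Brauer character). Then there are a function φ on G that is, on the p-regular elements, an integer combination of the members of B, and natural numbers d_χ (χ ∈ B), such that every χ ∈ B agrees with d_χ·φ on the p-regular elements and Σ_{χ ∈ B} d_χ² equals the order of P (the single Cartan invariant of B is the order of P). -/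
theorem result {G : Type*} [Group G] [Fintype G] (p : ℕ) [Fact p.Prime] (M : Ideal Cfsg.AlgInt) (hM : Cfsg.IsPModular p M) (B : Set (Cfsg.IrrCharacter G)) (hB : Cfsg.IsPBlock M B) (P : Subgroup G) (hP : Cfsg.IsDefectGroup p M B P) (hl : Cfsg.blockRank p B = 1) : ∃ φ : G → ℂ, ∃ d : Cfsg.IrrCharacter G → ℕ, (∃ n : Cfsg.IrrCharacter G → ℤ, ∀ x : G, Cfsg.IsPRegular p x → φ x = ∑ᶠ ψ ∈ B, (n ψ : ℂ) * (ψ : G → ℂ) x) ∧ (∀ χ ∈ B, ∀ x : G, Cfsg.IsPRegular p x → (χ : G → ℂ) x = (d χ : ℂ) * φ x) ∧ ∑ᶠ χ ∈ B, d χ ^ 2 = Nat.card P := by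
  classical
  haveI hMp := isPrime_of_isPModular hM
  have hMtop : M ≠ ⊤ := hM.2.1.ne_top
  have hp : p.Prime := Fact.out
  obtain ⟨Bf, hBfdef⟩ : ∃ Bf : Finset (Cfsg.IrrCharacter G),
      Bf = Finset.univ.filter (fun χ : Cfsg.IrrCharacter G => χ ∈ B) := ⟨_, rfl⟩
  have hBf : ∀ χ, χ ∈ Bf ↔ χ ∈ B := by
    intro χ
    rw [hBfdef, Finset.mem_filter]
    simp
  obtain ⟨χ₁, hB'⟩ := id hB
  have hχ₁B : χ₁ ∈ B := by
    rw [hB']
    exact sameBlock_refl hMtop _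
  have hχ₁Bf : χ₁ ∈ Bf := (hBf χ₁).2 hχ₁B
  obtain ⟨f, hf⟩ : ∃ f : Cfsg.IrrCharacter G → ℕ,
      f = fun χ : Cfsg.IrrCharacter G => Cfsg.charDegree (χ : G → ℂ) := ⟨_, rfl⟩
  have hfapp : ∀ χ, f χ = Cfsg.charDegree (χ : G → ℂ) := fun χ => by rw [hf]
  obtain ⟨e, he⟩ : ∃ e : ℕ, e = Bf.gcd f := ⟨_, rfl⟩
  have hf_pos : ∀ ψ, 0 < f ψ := fun ψ => by
    rw [hfapp]
    exact Nat.pos_of_ne_zero (charDegree_ne_zero ψ)
  have he_dvd : ∀ ψ ∈ Bf, e ∣ f ψ := fun ψ hψ => by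
    rw [he]
    exact Finset.gcd_dvd hψ
  have he_pos : 0 < e := Nat.pos_of_dvd_of_pos (he_dvd χ₁ hχ₁Bf) (hf_pos χ₁)
  have hfd : ∀ ψ ∈ Bf, f ψ = e * (f ψ / e) := fun ψ hψ =>
    (Nat.mul_div_cancel' (he_dvd ψ hψ)).symm
  have hf₁C : ((f χ₁ : ℕ) : ℂ) ≠ 0 := by exact_mod_cast (hf_pos χ₁).ne'
  have heC : (e : ℂ) ≠ 0 := by exact_mod_cast he_pos.ne'
  obtain ⟨n, hn⟩ := exists_int_sum_eq_gcd Bf f
  rw [← he] at hn
  have hnC : ∑ ψ ∈ Bf, (n ψ : ℂ) * ((f ψ : ℕ) : ℂ) = (e : ℂ) := by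
    exact_mod_cast hn
  -- values on `p`-regular elements
  have hval : ∀ ψ ∈ B, ∀ x : G, ¬ p ∣ orderOf x →
      (ψ : G → ℂ) x = ((f ψ : ℕ) : ℂ) * (χ₁ : G → ℂ) x / ((f χ₁ : ℕ) : ℂ) := by
    intro ψ hψ x hx
    have h3 := apply_mul_eq_of_blockRank_one B hl ψ χ₁ hψ hχ₁B x hx
    rw [apply_one_eq_charDegree, apply_one_eq_charDegree, ← hfapp, ← hfapp] at h3
    field_simp
    rw [mul_comm, h3]
  refine ⟨fun x => (e : ℂ) / ((f χ₁ : ℕ) : ℂ) * (χ₁ : G → ℂ) x, fun ψ => f ψ / e, ⟨n, ?_⟩, ?_, ?_⟩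
  · intro x hx
    rw [finsum_mem_eq_sum_filter_irr, ← hBfdef]
    have h1 : ∀ ψ ∈ Bf, (n ψ : ℂ) * (ψ : G → ℂ) x
        = ((n ψ : ℂ) * ((f ψ : ℕ) : ℂ)) * ((χ₁ : G → ℂ) x / ((f χ₁ : ℕ) : ℂ)) := by
      intro ψ hψ
      rw [hval ψ ((hBf ψ).1 hψ) x hx]
      ring
    rw [Finset.sum_congr rfl h1, ← Finset.sum_mul, hnC]
    ring
  · intro χ hχ x hx
    rw [hval χ hχ x hx]
    have h1 : ((f χ : ℕ) : ℂ) = (e : ℂ) * ((f χ / e : ℕ) : ℂ) := by
      exact_mod_cast hfd χ ((hBf χ).2 hχ)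
    conv_lhs => rw [h1]
    field_simp
  · rw [finsum_mem_eq_sum_filter_irr, ← hBfdef]
    have hmain := sum_div_gcd_sq_eq hM B hB hl Bf hBf
    have hgoal : ∑ ψ ∈ Bf, (Cfsg.charDegree (ψ : G → ℂ)
        / Bf.gcd (fun χ => Cfsg.charDegree (χ : G → ℂ))) ^ 2
        = ∑ ψ ∈ Bf, (f ψ / e) ^ 2 := by
      rw [he, hf]
    rw [hgoal] at hmain
    rw [hmain]
    obtain ⟨g, hg, Q, hQ⟩ := hP
    have hfac := factorization_centralizer_of_isDefectClass hM B hB g hg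
    rw [hQ, Subgroup.card_map_of_injective (Subgroup.subtype_injective _),
      Sylow.card_eq_multiplicity Q, hfac]

end Cfsg.Agent.S4675
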