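import Mathlib
import Cfsg.Statements.S5019
import Cfsg.Agent.H2.RankOneQuad

set_option autoImplicit false
open Cfsg
open Cfsg.Agent.H2

namespace Cfsg.Agent.S5019

/-- Let X be a rank one group with abelian unipotent subgroups A and B, and suppose X acts on an abelian group N (written additively) in such a way that A acts quadratically, meaning a' • (a • n − n) = a • n − n for all a, a' in A and n in N, while X as a whole does not: y • (x • n − n) ≠ x • n − n for some x, y in X and n in N. Then X is a special rank one group. -/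
theorem result {X : Type*} [Group X] {A B : Subgroup X} (h : Cfsg.IsRankOneGroup X A B)
    (hab : Cfsg.HasAbelianUnipotents A B) {N : Type*} [AddCommGroup N] [DistribMulAction X N]
    (hq : ∀ a ∈ A, ∀ a' ∈ A, ∀ n : N, a' • (a • n - n) = a • n - n)
    (hX : ∃ x y : X, ∃ n : N, y • (x • n - n) ≠ x • n - n) : Cfsg.IsSpecialRankOnePair A B := by
  obtain ⟨hAB, hpair⟩ := h
  refine ⟨hpair, ?_⟩
  intro a ha hane b hb hbne hrel
  have hA : ROQ.Quad A N := hq
  obtain ⟨hBA, hAB'⟩ := ROQ.rel_conj hrel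
  have hB : ROQ.Quad B N := ROQ.quad_of_conj (a * b⁻¹) hBA hA
  have hy : a⁻¹ * b⁻¹ * a ∈ conjBy B a⁻¹ := ROQ.mem_conjBy.2 ⟨b⁻¹, B.inv_mem hb, by group⟩
  rw [← hrel] at hy
  obtain ⟨α, hα, ey⟩ := ROQ.mem_conjBy.1 hy
  have hagree : ∀ v : N, (∀ β ∈ B, β • v = v) → a • v = α • v := by
    intro v hv
    obtain ⟨kA, kB⟩ := ROQ.key hA hB ha hb hrel hv
    have hzall : ∀ x : X, x • (v + (b • (a⁻¹ • v - v) - (a⁻¹ • v - v))) =
        v + (b • (a⁻¹ • v - v) - (a⁻¹ • v - v)) := ROQ.fix_top hAB kA kB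
    have e1 : a⁻¹ • v - v = -(a • v - v) := ROQ.inv_act hA ha v
    rw [e1] at hzall
    generalize hz : v + (b • (-(a • v - v)) - (-(a • v - v))) = z at hzall
    generalize hw' : a • v - v = w' at hz
    have e2 : b • w' - w' = v - z := by
      rw [← hz]; simp only [smul_neg]; abel
    have e3 : b⁻¹ • w' - w' = z - v := by
      rw [ROQ.inv_act hB hb w', e2]; abel
    have e4 : (a⁻¹ * b⁻¹ * a) • v = w' + z := by
      have h1 : a • v = v + w' := by rw [← hw']; abel
      have h2 : v + b⁻¹ • w' = w' + z := by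
        have := e3; rw [sub_eq_iff_eq_add] at this; rw [this]; abel
      rw [mul_smul, mul_smul, h1, smul_add, hv b⁻¹ (B.inv_mem hb), h2, smul_add, hzall, ← hw',
        hA a ha a⁻¹ (A.inv_mem ha) v]
    rw [ey, mul_smul, mul_smul, inv_inv, hv b hb] at e4
    have e5 : α • v = b • (w' + z) := by rw [← e4, smul_inv_smul]
    have h3 : b • w' = w' + (v - z) := by rw [← e2]; abel
    rw [e5, smul_add, hzall, h3, ← hw']; abel
  have ha0 : α⁻¹ * a ∈ A := A.mul_mem (A.inv_mem hα) ha
  by_cases h1 : α⁻¹ * a = 1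
  · have : α = a := by
      have := congrArg (fun t => α * t) h1
      simpa using this.symm
    rw [ey, this, inv_inv]
  · exfalso
    obtain ⟨b0, hb0, hb0ne, rel0⟩ := hpair.cond_left _ ha0 h1
    have hfix : ∀ v : N, (∀ β ∈ B, β • v = v) → ∀ x : X, x • v = v := by
      intro v hv
      obtain ⟨kA, kB⟩ := ROQ.key hA hB ha0 hb0 rel0 hv
      have e0 : (α⁻¹ * a) • v = v := by rw [mul_smul, hagree v hv, inv_smul_smul]
      have e1 : (α⁻¹ * a)⁻¹ • v = v := by
        rw [inv_smul_eq_iff, e0]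
      rw [e1] at kA kB
      simp only [sub_self, smul_zero, add_zero] at kA kB
      exact ROQ.fix_top hAB kA kB
    have hall := ROQ.quad_all hAB hA hB (a * b⁻¹) hBA hfix
    obtain ⟨x, y, n, hn⟩ := hX
    exact hn (hall x y n)

end Cfsg.Agent.S5019
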