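import Cfsg.Statements.S0030
import Mathlib
import Cfsg.Agent.H1.CoprimeAction
import Cfsg.Agent.H1.CoprimeFix

set_option autoImplicit false
open Cfsg

namespace Cfsg.Agent.S0030

open Cfsg.Agent.H1
open scoped Pointwise commutatorElement

/-- Under coprime action fixed points of a product of two invariant subgroups factor: if K = X Y with X and Y normalised by A then every A-fixed element of K is a product of an A-fixed element of X and an A-fixed element of Y. -/
theorem result {G : Type*} [Group G] [Finite G] (A K : Subgroup G) (hAK : A ≤ Subgroup.normalizer (K : Set G))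
    (hcop : (Nat.card A).Coprime (Nat.card K)) (hsolv : Group.IsSolvable A ∨ Group.IsSolvable K)
    (X Y : Subgroup G) (hX : X ≤ K) (hY : Y ≤ K) (hXA : A ≤ Subgroup.normalizer (X : Set G)) (hYA : A ≤ Subgroup.normalizer (Y : Set G))
    (hXY : ∀ k ∈ K, ∃ x ∈ X, ∃ y ∈ Y, k = x * y) (k : G) (hk : k ∈ K ⊓ Subgroup.centralizer (A : Set G)) :
    ∃ x ∈ X ⊓ Subgroup.centralizer (A : Set G), ∃ y ∈ Y ⊓ Subgroup.centralizer (A : Set G), k = x * y := by
  obtain ⟨hkK, hkC⟩ := Subgroup.mem_inf.mp hk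
  obtain ⟨x, hx, y, hy, rfl⟩ := hXY k hkK
  have hDK : X ⊓ Y ≤ K := inf_le_left.trans hX
  have hDA : A ≤ Subgroup.normalizer ((X ⊓ Y : Subgroup G) : Set G) :=
    le_trans (le_inf hXA hYA) Subgroup.inf_normalizer_le_normalizer_inf
  have hcopD : (Nat.card A).Coprime (Nat.card (X ⊓ Y : Subgroup G)) :=
    Nat.Coprime.coprime_dvd_right (Subgroup.card_dvd_of_le hDK) hcop
  have hsolvD : Group.IsSolvable A ∨ Group.IsSolvable (X ⊓ Y : Subgroup G) := by
    rcases hsolv with h | h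
    · exact Or.inl h
    · right
      exact Group.isSolvable_of_isSolvable_injective (f := Subgroup.inclusion hDK) (Subgroup.inclusion_injective _)
  have hfix : ∀ a ∈ A, x⁻¹ * (a * x * a⁻¹) ∈ X ⊓ Y := by
    intro a ha
    have hax : a * x * a⁻¹ ∈ X := (Subgroup.mem_normalizer_iff.mp (hXA ha) x).mp hx
    have hay : a * y * a⁻¹ ∈ Y := (Subgroup.mem_normalizer_iff.mp (hYA ha) y).mp hy
    have hcomm : a * (x * y) = (x * y) * a := (Subgroup.mem_centralizer_iff.mp hkC a ha)
    have e : x⁻¹ * (a * x * a⁻¹) = y * (a * y * a⁻¹)⁻¹ := by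
      have : a * x * a⁻¹ * (a * y * a⁻¹) = x * y := by
        calc a * x * a⁻¹ * (a * y * a⁻¹) = a * (x * y) * a⁻¹ := by group
          _ = x * y * a * a⁻¹ := by rw [hcomm]
          _ = x * y := by group
      rw [eq_mul_inv_iff_mul_eq, mul_assoc, this, inv_mul_cancel_left]
    refine Subgroup.mem_inf.mpr ⟨mul_mem (inv_mem hx) hax, ?_⟩
    rw [e]; exact mul_mem hy (inv_mem hay)
  obtain ⟨d, hd, hdA⟩ := exists_mul_normalizes_of_coset_fixed A (X ⊓ Y) hDA hcopD hsolvD x hfix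
  have hdisj : K ⊓ A = ⊥ := (Subgroup.disjoint_of_coprime_natCard hcop.symm).eq_bot
  have hxdK : x * d ∈ K := mul_mem (hX hx) (hDK hd)
  have hxdC : x * d ∈ Subgroup.centralizer (A : Set G) := mem_centralizer_of_conj_eq A K hAK hdisj _ hxdK hdA
  refine ⟨x * d, Subgroup.mem_inf.mpr ⟨mul_mem hx (Subgroup.mem_inf.mp hd).1, hxdC⟩, d⁻¹ * y, Subgroup.mem_inf.mpr ⟨mul_mem (inv_mem (Subgroup.mem_inf.mp hd).2) hy, ?_⟩, by group⟩
  have e : d⁻¹ * y = (x * d)⁻¹ * (x * y) := by group
  rw [e]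
  exact mul_mem (inv_mem hxdC) hkC

end Cfsg.Agent.S0030
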