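import Cfsg.Statements.S0597
import Mathlib
import Cfsg.Agent.H1.Basic
import Cfsg.Agent.H1.MinNonPClosed
import Cfsg.Agent.Lib.Lead.Subnormal
import Cfsg.Agent.Lib.Helper7.SubnormalPRes
import Cfsg.Prelude.Def_PLocal
import Cfsg.Agent.H1.StabChain

set_option autoImplicit false
open Cfsg

namespace Cfsg.Agent.S0597

set_option autoImplicit false
open H1
open scoped commutatorElement

/-- If two subnormal subgroups of a faithful group on an elementary abelian p-group satisfy [V, E₁, E₂] = 1, then their commutator lies in the largest normal p-subgroup. -/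
theorem result {G : Type*} [Group G] [Finite G] {p : ℕ} [Fact p.Prime] (V H : Subgroup G) (hV : Cfsg.IsElementaryAbelian p V) (hHV : H ≤ Subgroup.normalizer (V : Set G)) (hf : H ⊓ Subgroup.centralizer (V : Set G) = ⊥) (E₁ E₂ : Subgroup G) (h₁ : E₁ ≤ H) (h₂ : E₂ ≤ H) (hs₁ : (E₁.subgroupOf H).IsSubnormal) (hs₂ : (E₂.subgroupOf H).IsSubnormal) (hc : ⁅⁅V, E₁⁆, E₂⁆ = ⊥) : ⁅E₁, E₂⁆ ≤ (Cfsg.pCore p H).map H.subtype := by
  set W : Subgroup G := ⁅V, E₁⁆ with hW
  set E : Subgroup G := E₁ ⊔ E₂ with hE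
  have hEH : E ≤ H := sup_le h₁ h₂
  have hEV : E ≤ Subgroup.normalizer (V : Set G) := hEH.trans hHV
  have hWV : W ≤ V := by
    rw [hW, Subgroup.commutator_le]
    intro v hv e he
    have h1 : e * v⁻¹ * e⁻¹ ∈ V :=
      (Subgroup.mem_normalizer_iff.1 (hHV (h₁ he)) _).1 (inv_mem hv)
    have e1 : ⁅v, e⁆ = v * (e * v⁻¹ * e⁻¹) := by rw [commutatorElement_def]; group
    rw [e1]
    exact mul_mem hv h1
  have hE₂W : E₂ ≤ Subgroup.centralizer (W : Set G) := by
    rw [Subgroup.le_centralizer_iff]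
    exact Subgroup.commutator_eq_bot_iff_le_centralizer.1 hc
  have hEW : E ≤ Subgroup.normalizer (W : Set G) := by
    apply sup_le
    · exact le_normalizer_commutator V E₁ (h₁.trans hHV)
    · exact hE₂W.trans (Subgroup.centralizer_le_normalizer _)
  -- the stability group
  set C₁ : Subgroup G := E ⊓ Subgroup.centralizer (W : Set G) with hC₁
  set T : Subgroup G := quotStab E V W hEV hEW with hT
  set N : Subgroup G := C₁ ⊓ T with hN
  have hNE : N ≤ E := inf_le_left.trans inf_le_left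
  have hNH : N ≤ H := hNE.trans hEH
  -- `[E₁, E₂] ≤ N`
  have hE₁T : E₁ ≤ T := by
    intro x hx
    refine ⟨le_sup_left (a := E₁) (b := E₂) hx, fun v hv => ?_⟩
    have h1 : ⁅v, x⁆ ∈ W := Subgroup.commutator_mem_commutator hv hx
    have e1 : x * v * x⁻¹ * v⁻¹ = ⁅v, x⁆⁻¹ := by rw [commutatorElement_def]; group
    rw [e1]
    exact inv_mem h1
  have hE₂C : E₂ ≤ C₁ := le_inf le_sup_right hE₂W
  have hcomm : ⁅E₁, E₂⁆ ≤ N := by
    rw [Subgroup.commutator_le]
    intro x hx y hy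
    have hxE : x ∈ E := le_sup_left (a := E₁) (b := E₂) hx
    have hyE : y ∈ E := le_sup_right (a := E₁) (b := E₂) hy
    rw [hN, Subgroup.mem_inf]
    constructor
    · have e1 : ⁅x, y⁆ = (x * y * x⁻¹) * y⁻¹ := by rw [commutatorElement_def]
      rw [e1]
      exact mul_mem (conj_mem_inf_centralizer hEW hxE (hE₂C hy)) (inv_mem (hE₂C hy))
    · have e1 : ⁅x, y⁆ = x * (y * x⁻¹ * y⁻¹) := by rw [commutatorElement_def]; group
      rw [e1]
      exact mul_mem (hE₁T hx) (conj_mem_quotStab hyE (inv_mem (hE₁T hx)))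
  -- `N` is a `p`-group
  have hNp : IsPGroup p N := by
    intro g
    refine ⟨1, ?_⟩
    apply Subtype.ext
    rw [pow_one, Subgroup.coe_pow, Subgroup.coe_one]
    exact stab_pow_eq_one V W H hWV hV.2 hf (hNH g.2) g.2.1.2 g.2.2.2
  -- `N` is subnormal in `H`
  have hEsn : (E.subgroupOf H).IsSubnormal := by
    rw [hE, Subgroup.subgroupOf_sup h₁ h₂]
    exact Lib.Lead.Subnormal.sup_isSubnormal hs₁ hs₂
  have hNn : ((N.subgroupOf H).subgroupOf (E.subgroupOf H)).Normal := by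
    constructor
    rintro ⟨⟨n, hnH⟩, hnE⟩ hn ⟨⟨e, heH⟩, heE⟩
    rw [Subgroup.mem_subgroupOf, Subgroup.mem_subgroupOf] at hn ⊢
    have heE' : e ∈ E := heE
    have hn' : n ∈ N := hn
    show e * n * e⁻¹ ∈ N
    exact ⟨conj_mem_inf_centralizer hEW heE' hn'.1, conj_mem_quotStab heE' hn'.2⟩
  have hNsn : (N.subgroupOf H).IsSubnormal := by
    apply Subgroup.IsSubnormal.trans _ hNn.isSubnormal hEsn
    intro x hx
    rw [Subgroup.mem_subgroupOf] at hx ⊢
    exact hNE hx
  have hle := Lib.Helper7.le_pCore_of_isSubnormal_of_isPGroup hNsn (hNp.comap_subtype)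
  intro g hg
  have hgN := hcomm hg
  exact ⟨⟨g, hNH hgN⟩, hle (Subgroup.mem_subgroupOf.2 hgN), rfl⟩

end Cfsg.Agent.S0597
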