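import Cfsg.Statements.S0740
import Mathlib

set_option autoImplicit false
open Cfsg

namespace Cfsg.Agent.S0740

open scoped Pointwise

/-- a non-identity element fixes at most two points -/
lemma card_fixedBy_le_two {G Ω : Type*} [Group G] [MulAction G Ω] [Finite Ω]
    (h3 : ∀ g : G, ∀ a b c : Ω, a ≠ b → b ≠ c → a ≠ c → g • a = a → g • b = b → g • c = c → g = 1)
    (s : G) (hs : s ≠ 1) : Nat.card (MulAction.fixedBy Ω s) ≤ 2 := by
  by_contra hcon
  push Not at hcon
  rw [Nat.card_coe_set_eq, Set.two_lt_ncard_iff (Set.toFinite _)] at hcon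
  obtain ⟨a, b, c, ha, hb, hc, hab, hac, hbc⟩ := hcon
  exact hs (h3 s a b c hab hbc hac ha hb hc)

/-- parity of the number of fixed points of an involution -/
lemma card_fixedBy_modEq {G Ω : Type*} [Group G] [MulAction G Ω] [Fintype Ω]
    (s : G) (hs : s ^ 2 = 1) : Fintype.card Ω ≡ Nat.card (MulAction.fixedBy Ω s) [MOD 2] := by
  classical
  let f : Function.End Ω := fun x => s • x
  have hf : f ^ 2 ^ 1 = 1 := by
    rw [pow_one, sq]
    funext x
    show s • s • x = x
    rw [smul_smul, ← sq, hs, one_smul]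
  have := Equiv.Perm.card_fixedPoints_modEq (p := 2) (n := 1) hf
  rw [Nat.card_eq_fintype_card]
  have e : Fintype.card (MulAction.fixedBy Ω s) = Fintype.card (Function.fixedPoints f) :=
    Fintype.card_congr (Equiv.setCongr rfl)
  rw [e]
  exact this

lemma card_fixedBy_conj {G Ω : Type*} [Group G] [MulAction G Ω] (x u : G) :
    Nat.card (MulAction.fixedBy Ω (x * u * x⁻¹)) = Nat.card (MulAction.fixedBy Ω u) := by
  rw [← MulAction.smul_fixedBy, Nat.card_coe_set_eq, Nat.card_coe_set_eq, Set.ncard_smul_set]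

/-- an involution moving a point can be conjugated to swap `a` and `b` -/
lemma exists_conj_swap {G Ω : Type*} [Group G] [MulAction G Ω] [FaithfulSMul G Ω]
    (h2 : MulAction.IsMultiplyPretransitive G Ω 2) {a b : Ω} (hab : a ≠ b) (u : G)
    (hu : orderOf u = 2) :
    ∃ x : G, orderOf (x * u * x⁻¹) = 2 ∧ (x * u * x⁻¹) • a = b ∧ (x * u * x⁻¹) • b = a := by
  have tr : ∀ {a b c d : Ω}, a ≠ b → c ≠ d → ∃ g : G, g • a = c ∧ g • b = d :=
    MulAction.is_two_pretransitive_iff.mp h2
  have hu2 : u ^ 2 = 1 := by rw [← hu]; exact pow_orderOf_eq_one u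
  have hu1 : u ≠ 1 := by
    intro h; rw [h, orderOf_one] at hu; omega
  obtain ⟨c, hc⟩ : ∃ c : Ω, u • c ≠ c := by
    by_contra hcon
    push Not at hcon
    apply hu1
    apply FaithfulSMul.eq_of_smul_eq_smul (α := Ω)
    intro c; rw [hcon c, one_smul]
  have hud : u • u • c = c := by rw [smul_smul, ← sq, hu2, one_smul]
  obtain ⟨x, hxc, hxd⟩ := tr (Ne.symm hc) hab
  refine ⟨x, ?_, ?_, ?_⟩
  · have := (MulAut.conj x).orderOf_eq u
    rw [MulAut.conj_apply] at this
    rw [this, hu]
  · have h1 : x⁻¹ • a = c := by rw [inv_smul_eq_iff, hxc]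
    rw [mul_smul, mul_smul, h1, hxd]
  · have h1 : x⁻¹ • b = u • c := by rw [inv_smul_eq_iff, hxd]
    rw [mul_smul, mul_smul, h1, hud, hxc]

/-- In a finite Zassenhaus group any two points `a ≠ b` are swapped by an involution; every such involution has exactly one fixed point when the degree is odd and 0 or 2 fixed points when the degree is even; and if the two-point stabiliser has even order, some such involution has exactly 2 fixed points. -/
theorem result {G Ω : Type*} [Group G] [Finite G] [MulAction G Ω] [Fintype Ω] (hZ : Cfsg.IsZassenhausGroup G Ω) {a b : Ω} (hab : a ≠ b) : (∃ s : G, orderOf s = 2 ∧ s • a = b ∧ s • b = a) ∧ (∀ s : G, orderOf s = 2 → s • a = b → s • b = a → (Odd (Fintype.card Ω) → Nat.card (MulAction.fixedBy Ω s) = 1) ∧ (Even (Fintype.card Ω) → Nat.card (MulAction.fixedBy Ω s) = 0 ∨ Nat.card (MulAction.fixedBy Ω s) = 2)) ∧ (Even (Fintype.card Ω) → Even (Nat.card ↥(MulAction.stabilizer G a ⊓ MulAction.stabilizer G b)) → ∃ s : G, orderOf s = 2 ∧ s • a = b ∧ s • b = a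 ∧ Nat.card (MulAction.fixedBy Ω s) = 2) := by
  obtain ⟨hfaith, h2, h3, -, -⟩ := hZ
  have tr : ∀ {a b c d : Ω}, a ≠ b → c ≠ d → ∃ g : G, g • a = c ∧ g • b = d :=
    MulAction.is_two_pretransitive_iff.mp h2
  -- facts on involutions
  have hinv : ∀ s : G, orderOf s = 2 →
      (Odd (Fintype.card Ω) → Nat.card (MulAction.fixedBy Ω s) = 1) ∧
      (Even (Fintype.card Ω) → Nat.card (MulAction.fixedBy Ω s) = 0 ∨
        Nat.card (MulAction.fixedBy Ω s) = 2) := by
    intro s hs
    have hs2 : s ^ 2 = 1 := by rw [← hs]; exact pow_orderOf_eq_one s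
    have hs1 : s ≠ 1 := by
      intro h; rw [h, orderOf_one] at hs; omega
    have hle := card_fixedBy_le_two h3 s hs1
    have hpar := card_fixedBy_modEq (Ω := Ω) s hs2
    unfold Nat.ModEq at hpar
    constructor
    · intro hodd
      rw [Nat.odd_iff] at hodd
      omega
    · intro heven
      rw [Nat.even_iff] at heven
      omega
  refine ⟨?_, fun s hs _ _ => hinv s hs, ?_⟩
  · -- existence
    obtain ⟨g, hga, hgb⟩ := tr hab hab.symm
    have h2a : (g ^ 2) • a = a := by rw [sq, mul_smul, hga, hgb]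
    have hka : ∀ k : ℕ, ((g ^ 2) ^ k) • a = a := by
      intro k
      induction k with
      | zero => simp
      | succ k ih => rw [pow_succ, mul_smul, h2a, ih]
    have heven : Even (orderOf g) := by
      rw [← Nat.not_odd_iff_even]
      rintro ⟨k, hk⟩
      have h1 : g ^ orderOf g = 1 := pow_orderOf_eq_one g
      rw [hk, pow_succ, pow_mul] at h1
      have h2 : ((g ^ 2) ^ k * g) • a = a := by rw [h1, one_smul]
      rw [mul_smul, hga] at h2
      have h2b : ((g ^ 2) ^ k) • b = b := by
        have : ((g ^ 2) ^ k) • g • a = g • ((g ^ 2) ^ k) • a := by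
          rw [smul_smul, smul_smul]
          congr 1
          rw [← pow_mul, ← pow_succ, ← pow_succ']
        rw [hga, hka k, hga] at this
        exact this
      rw [h2b] at h2
      exact hab h2.symm
    have hdvd : 2 ∣ Nat.card G := (even_iff_two_dvd.mp heven).trans (orderOf_dvd_natCard g)
    obtain ⟨u, hu⟩ := exists_prime_orderOf_dvd_card' 2 hdvd
    obtain ⟨x, hx1, hx2, hx3⟩ := exists_conj_swap h2 hab u hu
    exact ⟨_, hx1, hx2, hx3⟩
  · intro hev hH
    have hdvd : 2 ∣ Nat.card ↥(MulAction.stabilizer G a ⊓ MulAction.stabilizer G b) :=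
      even_iff_two_dvd.mp hH
    obtain ⟨z, hz⟩ := exists_prime_orderOf_dvd_card' 2 hdvd
    have hz' : orderOf (z : G) = 2 := by rw [Subgroup.orderOf_coe, hz]
    have hza : (z : G) • a = a := MulAction.mem_stabilizer_iff.mp z.2.1
    obtain ⟨x, hx1, hx2, hx3⟩ := exists_conj_swap h2 hab (z : G) hz'
    refine ⟨_, hx1, hx2, hx3, ?_⟩
    rw [card_fixedBy_conj]
    rcases (hinv (z : G) hz').2 hev with h0 | h2'
    · exfalso
      rw [Nat.card_coe_set_eq, Set.ncard_eq_zero (Set.toFinite _)] at h0
      have : a ∈ MulAction.fixedBy Ω (z : G) := hza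
      rw [h0] at this
      exact this
    · exact h2'

end Cfsg.Agent.S0740
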