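import Cfsg.Statements.S0308
import Mathlib

set_option autoImplicit false
open Cfsg

namespace Cfsg.Agent.S0308

variable {G : Type*} [Group G] (P : Cfsg.BNPair G)

/-- the union of the double cosets `B n B`, `n ∈ N` -/
def BNB : Set G := {g | ∃ n ∈ P.N, g ∈ DoubleCoset.doubleCoset n (P.B : Set G) P.B}

theorem mem_BNB_iff (g : G) : g ∈ BNB P ↔ ∃ n ∈ P.N, ∃ b ∈ P.B, ∃ b' ∈ P.B, g = b * n * b' := by
  unfold BNB
  simp only [Set.mem_ofPred_eq, DoubleCoset.mem_doubleCoset, SetLike.mem_coe]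

theorem B_mul_mem {b g : G} (hb : b ∈ P.B) (hg : g ∈ BNB P) : b * g ∈ BNB P := by
  rw [mem_BNB_iff] at hg ⊢
  obtain ⟨n, hn, b1, hb1, b2, hb2, rfl⟩ := hg
  exact ⟨n, hn, b * b1, mul_mem hb hb1, b2, hb2, by group⟩

theorem S_mul_mem {s g : G} (hs : s ∈ P.S) (hg : g ∈ BNB P) : s * g ∈ BNB P := by
  rw [mem_BNB_iff] at hg
  obtain ⟨n, hn, b1, hb1, b2, hb2, rfl⟩ := hg
  have h := P.mul_mem_union s hs n hn b1 hb1
  have hsN : s ∈ P.N := P.subset hs
  rcases h with h | h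
  · rw [DoubleCoset.mem_doubleCoset] at h
    obtain ⟨x, hx, y, hy, hxy⟩ := h
    rw [mem_BNB_iff]
    refine ⟨s * n, mul_mem hsN hn, x, hx, y * b2, mul_mem hy hb2, ?_⟩
    calc s * (b1 * n * b2) = (s * b1 * n) * b2 := by group
      _ = (x * (s * n) * y) * b2 := by rw [hxy]
      _ = x * (s * n) * (y * b2) := by group
  · rw [DoubleCoset.mem_doubleCoset] at h
    obtain ⟨x, hx, y, hy, hxy⟩ := h
    rw [mem_BNB_iff]
    refine ⟨n, hn, x, hx, y * b2, mul_mem hy hb2, ?_⟩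
    calc s * (b1 * n * b2) = (s * b1 * n) * b2 := by group
      _ = (x * n * y) * b2 := by rw [hxy]
      _ = x * n * (y * b2) := by group

theorem S_inv_mul_mem {s g : G} (hs : s ∈ P.S) (hg : g ∈ BNB P) : s⁻¹ * g ∈ BNB P := by
  have h1 : (s * s)⁻¹ ∈ P.B := inv_mem (P.sq_mem s hs)
  have h2 : s⁻¹ * g = s * ((s * s)⁻¹ * g) := by group
  rw [h2]
  exact S_mul_mem P hs (B_mul_mem P h1 hg)

theorem closure_mul_mem {h : G} (hh : h ∈ Subgroup.closure ((P.B : Set G) ∪ P.S)) :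
    (∀ g ∈ BNB P, h * g ∈ BNB P) ∧ (∀ g ∈ BNB P, h⁻¹ * g ∈ BNB P) := by
  induction hh using Subgroup.closure_induction with
  | mem x hx =>
    rcases hx with hx | hx
    · exact ⟨fun g hg => B_mul_mem P hx hg, fun g hg => B_mul_mem P (inv_mem hx) hg⟩
    · exact ⟨fun g hg => S_mul_mem P hx hg, fun g hg => S_inv_mul_mem P hx hg⟩
  | one => simp
  | mul x y _ _ hx hy =>
    refine ⟨fun g hg => ?_, fun g hg => ?_⟩
    · rw [mul_assoc]; exact hx.1 _ (hy.1 _ hg)
    · rw [mul_inv_rev, mul_assoc]; exact hy.2 _ (hx.2 _ hg)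
  | inv x _ hx =>
    refine ⟨hx.2, ?_⟩
    rw [inv_inv]
    exact hx.1

theorem closure_eq_top : Subgroup.closure ((P.B : Set G) ∪ P.S) = ⊤ := by
  rw [eq_top_iff, ← P.sup_eq_top]
  have hB : P.B ≤ Subgroup.closure ((P.B : Set G) ∪ P.S) := by
    intro b hb
    exact Subgroup.subset_closure (Or.inl hb)
  have hS : Subgroup.closure P.S ≤ Subgroup.closure ((P.B : Set G) ∪ P.S) :=
    Subgroup.closure_mono Set.subset_union_right
  refine sup_le hB ?_
  rw [← P.closure_sup]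
  exact sup_le hS (inf_le_left.trans hB)

/-- Bruhat decomposition, existence part: every element of a group with a (B,N)-pair lies in some double
coset `B n B` with `n ∈ N`. -/
theorem result {G : Type*} [Group G] (P : Cfsg.BNPair G) (g : G) :
    ∃ n ∈ P.N, g ∈ DoubleCoset.doubleCoset n (P.B : Set G) P.B := by
  have hg : g ∈ Subgroup.closure ((P.B : Set G) ∪ P.S) := by
    rw [closure_eq_top]; exact Subgroup.mem_top g
  have h1 : (1 : G) ∈ BNB P := by
    rw [mem_BNB_iff]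
    exact ⟨1, one_mem _, 1, one_mem _, 1, one_mem _, by group⟩
  have := (closure_mul_mem P hg).1 1 h1
  rw [mul_one] at this
  exact this

end Cfsg.Agent.S0308
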