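import Cfsg.Statements.S2157
import Cfsg.Agent.Lib.Helper5.ChevTablesC
import Mathlib

set_option autoImplicit false
open Cfsg

namespace Cfsg.Agent.S2157

open Cfsg.Lie
open scoped Matrix

variable {F : Type*} [Field F]

theorem xMat_conj (D : ChevalleyDatum)
    (hD : D ∈ [chevG2, chevB2, chevD4, chevF4, chevE6, chevE7, chevE8])
    (χ : ℕ → Fˣ) (hχ : D.IsRootCharacter χ) (r : Fin D.nroots) (t : F) :
    D.charDiag F χ * D.xMat F r t * D.charDiag F (fun s => (χ s)⁻¹) = D.xMat F r ((χ r.val : F) * t) := by
  ext row col
  unfold ChevalleyDatum.charDiag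
  rw [Matrix.mul_diagonal, Matrix.diagonal_mul]
  simp only [ChevalleyDatum.xMat, Matrix.of_apply]
  rcases col with i | s
  · rcases row with i' | u
    · simp only [Sum.elim_inl]
      split_ifs <;> simp
    · simp only [Sum.elim_inl, Sum.elim_inr]
      split_ifs with h
      · subst h; ring
      · simp
  · simp only [Sum.elim_inr]
    by_cases h1 : s = r
    · simp only [if_pos h1]
      rcases row with i' | u
      · simp
      · simp only [Sum.elim_inr]
        split_ifs with h
        · subst h; subst h1; simp
        · simp
    · simp only [if_neg h1]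
      by_cases h2 : s.val = D.negIdx.getD r.val 0
      · simp only [if_pos h2]
        have hneg : χ s.val = (χ r.val)⁻¹ := by
          rw [h2]
          exact hχ.1 r.val r.2
        rcases row with i' | u
        · simp only [Sum.elim_inl]
          rw [hneg]
          simp
          ring
        · simp only [Sum.elim_inr]
          split_ifs with h3 h4
          · subst h3; simp
          · subst h4
            rw [hneg]
            simp
            ring
          · simp
      · simp only [if_neg h2]
        rcases row with i' | u
        · simp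
        · simp only [Sum.elim_inr]
          rw [mul_add, add_mul]
          congr 1
          · split_ifs with h
            · subst h; simp
            · simp
          · rw [← List.sum_map_mul_left, ← List.sum_map_mul_right]
            congr 1
            apply List.map_congr_left
            intro km hkm
            have := Cfsg.Agent.Lib.Helper5.ChevTablesC.char_chainCoeff D hD χ hχ r.val s.val u.val r.2 km hkm
            rw [this]
            have hs : ((χ s.val : Fˣ) : F) ≠ 0 := Units.ne_zero _
            simp
            field_simp
            rw [mul_pow]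
            ring



/-- In a Chevalley group of type G₂, B₂, D₄, F₄, E₆, E₇ or E₈, for every character `χ` of the root lattice with values in `Fˣ` the diagonal matrix `ĥ(χ)` (identity on the coroot coordinates, `χ(s)` on the coordinate of `e_s`) conjugates each root element `x_r(t)` to `x_r(χ(r) t)`: `ĥ(χ) x_r(t) ĥ(χ)⁻¹ = x_r(χ(r) t)` as matrices, with `ĥ(χ)⁻¹` written as `ĥ(χ⁻¹)`. -/
theorem result {F : Type*} [Field F] (D : Cfsg.Lie.ChevalleyDatum) (hD : D ∈ [Cfsg.Lie.chevG2, Cfsg.Lie.chevB2, Cfsg.Lie.chevD4, Cfsg.Lie.chevF4, Cfsg.Lie.chevE6, Cfsg.Lie.chevE7, Cfsg.Lie.chevE8]) (χ : ℕ → Fˣ) (hχ : D.IsRootCharacter χ) (r : ℕ) (hr : r < D.nroots) (t : F) :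
    D.charDiag F χ * D.x F r t * D.charDiag F (fun s => (χ s)⁻¹) = D.x F r ((χ r : F) * t) := by
  unfold Cfsg.Lie.ChevalleyDatum.x
  rw [dif_pos hr, dif_pos hr]
  exact xMat_conj D hD χ hχ ⟨r, hr⟩ t

end Cfsg.Agent.S2157
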