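import Cfsg.Statements.S1081
import Cfsg.Agent.Lib.Helper5.ChevPermB
import Mathlib

set_option autoImplicit false
open Cfsg

namespace Cfsg.Agent.S1081

open Cfsg.Lie Cfsg.Agent.Lib.Helper5.ChevPerm Cfsg.Agent.Lib.Helper5.ChevPermB
open scoped Matrix

def sgE6 : List ℕ := [0, 1, 2, 5, 16, 3, 6, 17, 8, 19, 22, 11, 26, 30, 33, 35, 4, 7, 18, 9, 20, 23, 10, 21, 24, 25, 12, 27, 31, 34, 13, 28, 32, 14, 29, 15, 56, 42, 57, 39, 43, 58, 37, 40, 44, 59, 46, 47, 50, 61, 48, 51, 62, 53, 64, 67, 36, 38, 41, 45, 60, 49, 52, 63, 54, 65, 68, 55, 66, 69, 70, 71]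
def epE6 : List ℤ := [1, 1, 1, 1, -1, 1, 1, -1, 1, -1, -1, 1, -1, 1, -1, 1, -1, -1, 1, -1, 1, 1, -1, 1, 1, 1, -1, 1, -1, 1, 1, -1, 1, -1, 1, 1, 1, 1, -1, 1, -1, 1, 1, -1, 1, -1, 1, 1, 1, -1, 1, 1, -1, 1, -1, -1, 1, -1, 1, -1, 1, -1, -1, 1, -1, 1, 1, -1, 1, 1, 1, 1]
def sgD4a : List ℕ := [0, 1, 6, 2, 7, 10, 3, 8, 4, 9, 11, 5, 18, 12, 14, 19, 15, 20, 13, 16, 21, 17, 22, 23]
def epD4a : List ℤ := [1, 1, -1, 1, -1, 1, -1, 1, -1, 1, 1, 1, 1, 1, 1, -1, 1, -1, 1, -1, 1, -1, 1, 1]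
def sgD4b : List ℕ := [0, 1, 3, 6, 8, 11, 2, 4, 7, 9, 5, 10, 13, 18, 14, 16, 19, 21, 12, 15, 17, 20, 22, 23]
def epD4b : List ℤ := [1, 1, 1, -1, -1, 1, -1, -1, 1, 1, 1, 1, 1, 1, 1, 1, -1, -1, 1, -1, -1, 1, 1, 1]

set_option maxRecDepth 100000 in
theorem certD4a : certb chevD4 [2, 1, 3, 0] sgD4a epD4a = true := by decide +kernel

set_option maxRecDepth 100000 in
theorem certD4b : certb chevD4 [3, 1, 0, 2] sgD4b epD4b = true := by decide +kernel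

set_option maxRecDepth 100000 in
theorem certE6 : certb chevE6 [5, 1, 4, 3, 2, 0] sgE6 epE6 = true := by decide +kernel

/-- the side conditions on fundamental roots -/
def simpleOK (D : ChevalleyDatum) (pi sg : List ℕ) (ep : List ℤ) : Prop :=
  ∀ i < D.rank, D.simple i < D.nroots ∧ D.neg (D.simple i) < D.nroots ∧
    D.simple (pi.getD i 0) < D.nroots ∧ D.neg (D.simple (pi.getD i 0)) < D.nroots ∧
    sg.getD (D.simple i) 0 = D.simple (pi.getD i 0) ∧ ep.getD (D.simple i) 1 = 1 ∧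
    sg.getD (D.neg (D.simple i)) 0 = D.neg (D.simple (pi.getD i 0)) ∧
    ep.getD (D.neg (D.simple i)) 1 = 1

instance (D : ChevalleyDatum) (pi sg : List ℕ) (ep : List ℤ) : Decidable (simpleOK D pi sg ep) := by
  unfold simpleOK
  infer_instance

theorem main {F : Type*} [Field F] (D : ChevalleyDatum) (pi sg : List ℕ) (ep : List ℤ)
    (hc : certb D pi sg ep = true) (hs : simpleOK D pi sg ep) :
    ∃ α : ↥(D.group F) ≃* ↥(D.group F), ∀ (g : ↥(D.group F)) (i : ℕ) (t : F), i < D.rank →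
      (((g : GL D.Idx F) : Matrix D.Idx D.Idx F) = D.x F (D.simple i) t →
        ((α g : GL D.Idx F) : Matrix D.Idx D.Idx F) = D.x F (D.simple (pi.getD i 0)) t) ∧
      (((g : GL D.Idx F) : Matrix D.Idx D.Idx F) = D.x F (D.neg (D.simple i)) t →
        ((α g : GL D.Idx F) : Matrix D.Idx D.Idx F) = D.x F (D.neg (D.simple (pi.getD i 0))) t) := by
  have c := cert_of_certb D pi sg ep hc
  obtain ⟨α, hα⟩ := exists_aut (F := F) c
  refine ⟨α, ?_⟩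
  intro g i t hi
  obtain ⟨h1, h2, h3, h4, h5, h6, h7, h8⟩ := hs i hi
  constructor
  · intro hg
    unfold ChevalleyDatum.x at hg ⊢
    rw [dif_pos h1] at hg
    rw [dif_pos h3, hα g ⟨D.simple i, h1⟩ t hg]
    have e1 : sgF c ⟨D.simple i, h1⟩ = ⟨D.simple (pi.getD i 0), h3⟩ := Fin.ext h5
    rw [e1]
    unfold epF
    simp only [h6]
    simp
  · intro hg
    unfold ChevalleyDatum.x at hg ⊢
    rw [dif_pos h2] at hg
    rw [dif_pos h4, hα g ⟨D.neg (D.simple i), h2⟩ t hg]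
    have e1 : sgF c ⟨D.neg (D.simple i), h2⟩ = ⟨D.neg (D.simple (pi.getD i 0)), h4⟩ := Fin.ext h7
    rw [e1]
    unfold epF
    simp only [h8]
    simp


/-- Graph automorphisms: for E₆ with ρ = (p₁ p₆)(p₃ p₅) and for D₄ with ρ the 3-cycle on the outer nodes there is a group automorphism sending `x_p(t) ↦ x_{ρ(p)}(t)` and `x_{-p}(t) ↦ x_{-ρ(p)}(t)` for every fundamental root `p`. -/
theorem result {F : Type*} [Field F] (p : Cfsg.Lie.ChevalleyDatum × List ℕ)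
    (hp : p ∈ [(Cfsg.Lie.chevE6, [5, 1, 4, 3, 2, 0]), (Cfsg.Lie.chevD4, [2, 1, 3, 0]), (Cfsg.Lie.chevD4, [3, 1, 0, 2])]) :
    ∃ α : ↥(p.1.group F) ≃* ↥(p.1.group F), ∀ (g : ↥(p.1.group F)) (i : ℕ) (t : F), i < p.1.rank →
      (((g : GL p.1.Idx F) : Matrix p.1.Idx p.1.Idx F) = p.1.x F (p.1.simple i) t →
        ((α g : GL p.1.Idx F) : Matrix p.1.Idx p.1.Idx F) = p.1.x F (p.1.simple (p.2.getD i 0)) t) ∧
      (((g : GL p.1.Idx F) : Matrix p.1.Idx p.1.Idx F) = p.1.x F (p.1.neg (p.1.simple i)) t →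
        ((α g : GL p.1.Idx F) : Matrix p.1.Idx p.1.Idx F) = p.1.x F (p.1.neg (p.1.simple (p.2.getD i 0))) t) := by
  simp only [List.mem_cons, List.not_mem_nil, or_false] at hp
  rcases hp with rfl | rfl | rfl
  · exact main chevE6 [5, 1, 4, 3, 2, 0] sgE6 epE6 certE6 (by decide)
  · exact main chevD4 [2, 1, 3, 0] sgD4a epD4a certD4a (by decide)
  · exact main chevD4 [3, 1, 0, 2] sgD4b epD4b certD4b (by decide)

end Cfsg.Agent.S1081
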