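import Cfsg.Statements.S2156
import Cfsg.Agent.Lib.Lead.ChevAutMain
import Cfsg.Agent.Lib.Lead.ChevAutB1
import Cfsg.Agent.Lib.Lead.ChevAutB3
import Cfsg.Agent.Lib.Helper5.AutBN.ChevRoot
import Cfsg.Agent.Lib.Helper8.Aut.DiagOfAut

set_option autoImplicit false
open Cfsg

namespace Cfsg.Agent.S2156

/-- Over a finite field, every automorphism of the Chevalley group of type G₂, B₂, D₄, F₄, E₆, E₇ or E₈ is the composite of a field automorphism, a graph automorphism, a diagonal automorphism and an inner automorphism: `θ y = x · d(g(f y)) · x⁻¹` for some group element `x`, diagonal `d`, graph `g` and field `f` (each possibly the identity; diagonal here includes conjugation by elements of the diagonal subgroup H). -/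
theorem result {F : Type*} [Field F] [Finite F] (D : Cfsg.Lie.ChevalleyDatum) (hD : D ∈ [Cfsg.Lie.chevG2, Cfsg.Lie.chevB2, Cfsg.Lie.chevD4, Cfsg.Lie.chevF4, Cfsg.Lie.chevE6, Cfsg.Lie.chevE7, Cfsg.Lie.chevE8]) (θ : ↥(D.group F) ≃* ↥(D.group F)) :
    ∃ (x : ↥(D.group F)) (d g f : ↥(D.group F) ≃* ↥(D.group F)),
      D.IsDiagonalAut d ∧ D.IsGraphAut g ∧ D.IsFieldAut f ∧ ∀ y : ↥(D.group F), θ y = x * d (g (f y)) * x⁻¹ := by
  obtain ⟨x, ρ, φp, φm, hp, hm, -, -, -⟩ :=
    Cfsg.Agent.Lib.Helper5.AutBN.exists_aut_root_form D hD θ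
  have hne : ∀ (i : Fin D.rank) (t : F), t ≠ 0 → φp i t ≠ 0 := by
    intro i t ht h0
    exact ht ((φp i).injective (h0.trans (map_zero _).symm))
  have hB1 := Cfsg.Agent.ChevAut.b1_of_root_form D hD _ ρ φp φm hp hm
  exact Cfsg.Agent.ChevAut.steinberg_of_autData D hD θ x
    { ρ := ρ
      φp := fun i t => φp i t
      φm := fun i t => φm i t
      sym := Cfsg.Agent.Lib.Helper8.Aut.isDiagramSymmetry_of_aut D hD _ ρ (fun i t => φp i t)
        (fun i => (φp i).surjective) (fun g i t h => hp i g t h)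
      hp := fun g i t h => hp i g t h
      hm := fun g i t h => hm i g t h
      b1 := fun i t ht => ⟨hne i t ht, hB1 i t ht⟩
      b3 := fun i j t u ht =>
        Cfsg.Agent.ChevAut.b3_of_b1 D hD _ ρ φp φm hp hm hB1 i j t u ht }

end Cfsg.Agent.S2156
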