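import Cfsg.Statements.S2160
import Cfsg.Agent.Lib.Helper5.Chev.GenSimple

set_option autoImplicit false
open Cfsg

namespace Cfsg.Agent.S2160

/-- In a Chevalley group of type G₂, B₂, D₄, F₄, E₆, E₇ or E₈ over a finite field, every field automorphism commutes with every graph automorphism. -/
theorem result {F : Type*} [Field F] [Finite F] (D : Cfsg.Lie.ChevalleyDatum) (hD : D ∈ [Cfsg.Lie.chevG2, Cfsg.Lie.chevB2, Cfsg.Lie.chevD4, Cfsg.Lie.chevF4, Cfsg.Lie.chevE6, Cfsg.Lie.chevE7, Cfsg.Lie.chevE8]) (f g : ↥(D.group F) ≃* ↥(D.group F))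
    (hf : D.IsFieldAut f) (hg : D.IsGraphAut g) (y : ↥(D.group F)) : f (g y) = g (f y) := by
  obtain ⟨σ, hσ⟩ := hf
  obtain ⟨π, hπ, hg'⟩ := hg
  have key := Cfsg.Agent.Lib.Helper5.Chev.hom_ext_simple D hD
    (f.toMonoidHom.comp g.toMonoidHom) (g.toMonoidHom.comp f.toMonoidHom) ?_ ?_
  · exact DFunLike.congr_fun key y
  · intro i hi t y hy
    show f (g y) = g (f y)
    have h1 := (hg' y ⟨i, hi⟩ t).1 hy
    have hlt := (Cfsg.Agent.Lib.Helper5.Chev.simple_lt_all D hD (π ⟨i, hi⟩).val (π ⟨i, hi⟩).2).1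
    have h2 := hσ (g y) _ _ hlt h1
    have h3 := hσ y _ t (Cfsg.Agent.Lib.Helper5.Chev.simple_lt_all D hD i hi).1 hy
    have h4 := (hg' (f y) ⟨i, hi⟩ (σ t)).1 h3
    apply Subtype.ext
    apply Units.ext
    rw [h2, h4, map_pow]
  · intro i hi t y hy
    show f (g y) = g (f y)
    have h1 := (hg' y ⟨i, hi⟩ t).2 hy
    have hlt := (Cfsg.Agent.Lib.Helper5.Chev.simple_lt_all D hD (π ⟨i, hi⟩).val (π ⟨i, hi⟩).2).2
    have h2 := hσ (g y) _ _ hlt h1
    have h3 := hσ y _ t (Cfsg.Agent.Lib.Helper5.Chev.simple_lt_all D hD i hi).2 hy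
    have h4 := (hg' (f y) ⟨i, hi⟩ (σ t)).2 h3
    apply Subtype.ext
    apply Units.ext
    rw [h2, h4, map_pow]

end Cfsg.Agent.S2160
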