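import Mathlib
import Cfsg.Statements.S0780
import Cfsg.Agent.Lib.Helper8.SUGenI

set_option autoImplicit false
open Cfsg

namespace Cfsg.Agent.S0780

open Matrix Cfsg.Agent.S5631 Cfsg.Agent.S5643 Cfsg.Agent.Lib.Helper8.Unitary
  Cfsg.Agent.Lib.Helper8.SUGen Cfsg.Agent.Lib.Helper5.Herm

lemma ut_coe {F : Type*} [Field F] [Fintype F] {q : ℕ} (hF : Fintype.card F = q ^ 2) (n : ℕ)
    (u : Fin n → F) (hu : hermForm n F q u u = 0) (z : F) :
    ((ut (herm_unitary hF n) u hu z : GL (Fin n) F) : Matrix (Fin n) (Fin n) F) =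
      Cfsg.unitaryTransvection n q u (z ^ q) := by
  rw [Matrix.ext_iff_mulVec]
  intro x
  rw [ut_mulVec, unitaryTransvection_mulVec, frobEquiv_apply]

/-- Generation of SU_n(q), n ≥ 3, (n, q) ≠ (3, 2), by unitary transvections: the subgroup generated by the elements whose matrix is x ↦ x + c h(x, v) v with v isotropic is all of SU_n(q). -/
theorem result {F : Type*} [Field F] [Fintype F] {q : ℕ} (hF : Fintype.card F = q ^ 2) (n : ℕ) (hn : 3 ≤ n) (h32 : ¬ (n = 3 ∧ q = 2)) : Subgroup.closure {A : ↥(Cfsg.SU n F q) | ∃ (v : Fin n → F) (c : F), Cfsg.hermForm n F q v v = 0 ∧ ((A : Matrix.SpecialLinearGroup (Fin n) F) : Matrix (Fin n) (Fin n) F) = Cfsg.unitaryTransvection n q v c} = ⊤ := by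
  rw [eq_top_iff]
  rintro A -
  set φ : ↥(Cfsg.SU n F q) →* GL (Fin n) F :=
    Matrix.SpecialLinearGroup.toGL.comp (Subgroup.subtype _) with hφ
  have hφcoe : ∀ B : ↥(Cfsg.SU n F q), ((φ B : GL (Fin n) F) : Matrix (Fin n) (Fin n) F) =
      ((B : Matrix.SpecialLinearGroup (Fin n) F) : Matrix (Fin n) (Fin n) F) := fun B => rfl
  have hφinj : Function.Injective φ := by
    intro B C h
    apply Subtype.ext
    apply Subtype.ext
    have := congrArg (fun g : GL (Fin n) F => (g : Matrix (Fin n) (Fin n) F)) h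
    exact this
  have hmem : ∀ B : ↥(Cfsg.SU n F q), φ B ∈ SUf (hermForm n F q) := by
    intro B
    refine ⟨fun x y => B.2 x y, ?_⟩
    show φ B ∈ (Matrix.GeneralLinearGroup.det : GL (Fin n) F →* Fˣ).ker
    rw [MonoidHom.mem_ker]
    apply Units.ext
    rw [Matrix.GeneralLinearGroup.val_det_apply, hφcoe, (B : Matrix.SpecialLinearGroup (Fin n) F).2]
    rfl
  have hle : TT (herm_unitary hF n) ≤ (Subgroup.closure {A : ↥(Cfsg.SU n F q) | ∃ (v : Fin n → F) (c : F), Cfsg.hermForm n F q v v = 0 ∧ ((A : Matrix.SpecialLinearGroup (Fin n) F) : Matrix (Fin n) (Fin n) F) = Cfsg.unitaryTransvection n q v c}).map φ := by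
    rw [TT, Subgroup.closure_le]
    rintro g ⟨u, hu, z, hz, rfl⟩
    have hS := TT_le_SUf (herm_unitary hF n) (ut_mem (herm_unitary hF n) u hu z hz)
    refine ⟨⟨⟨((ut (herm_unitary hF n) u hu z : GL (Fin n) F) : Matrix (Fin n) (Fin n) F),
      SUf_det _ hS⟩, fun x y => SUf_iso _ hS x y⟩, Subgroup.subset_closure ⟨u, z ^ q, hu, ?_⟩, ?_⟩
    · exact ut_coe hF n u hu z
    · apply Units.ext
      rfl
  obtain ⟨B, hB, hBA⟩ := hle (SU_le_TT hF n hn h32 (hmem A))
  rw [← hφinj hBA]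
  exact hB

end Cfsg.Agent.S0780
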