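import Cfsg.Statements.S0783
import Mathlib
import Cfsg.Agent.Lib.Helper5.Herm
import Cfsg.Agent.Lib.Helper5.HermCount
import Cfsg.Agent.S0278
import Cfsg.Agent.S0279

set_option autoImplicit false
open Cfsg

namespace Cfsg.Agent.S0783

open Matrix Cfsg.Agent.Lib.Helper5.Herm Cfsg.Agent.Lib.Helper5.HermCount Cfsg.Agent.S0278
  Cfsg.Agent.S0279

variable {F : Type*} [Field F] [Fintype F] {q : ℕ}

/-- a matrix commuting with all special unitary matrices is scalar -/
theorem scalar_of_commute (hF : Fintype.card F = q ^ 2) (n : ℕ) (Z : Matrix (Fin n) (Fin n) F)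
    (hcomm : ∀ (M : Matrix (Fin n) (Fin n) F), M.det = 1 →
      (∀ u w, hermForm n F q (M *ᵥ u) (M *ᵥ w) = hermForm n F q u w) → M * Z = Z * M) :
    (∀ i j, i ≠ j → Z i j = 0) ∧ ∀ i j, Z i i = Z j j := by
  classical
  have hq := one_lt_q hF
  constructor
  · intro i j hij
    obtain ⟨a, ha, ha2⟩ := exists_norm_one_sq_ne hF
    have ha0 : a ≠ 0 := by
      intro h
      rw [h, zero_pow (by omega)] at ha
      exact zero_ne_one ha
    let d : Fin n → F := fun k => if k = i then a else if k = j then a⁻¹ else 1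
    have hdi : d i = a := by simp [d]
    have hdj : d j = a⁻¹ := by simp [d, hij.symm]
    have hd : ∀ k, d k ^ (q + 1) = 1 := by
      intro k
      simp only [d]
      split_ifs
      · exact ha
      · rw [inv_pow, ha, inv_one]
      · exact one_pow _
    have hdet : (Matrix.diagonal d).det = 1 := by
      rw [Matrix.det_diagonal, Finset.prod_eq_mul i j hij, hdi, hdj, mul_inv_cancel₀ ha0]
      · intro k _ hk
        simp [d, hk.1, hk.2]
      · intro h; exact absurd (Finset.mem_univ _) h
      · intro h; exact absurd (Finset.mem_univ _) h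
    have h := hcomm _ hdet (diag_pres n d hd)
    have h2 := congrFun (congrFun h i) j
    rw [Matrix.diagonal_mul, Matrix.mul_diagonal, hdi, hdj] at h2
    have h3 : Z i j * (a * a - 1) = 0 := by
      have : a * Z i j * a = Z i j := by
        rw [h2, mul_assoc, inv_mul_cancel₀ ha0, mul_one]
      linear_combination this
    rcases mul_eq_zero.1 h3 with h4 | h4
    · exact h4
    · exact absurd (sub_eq_zero.1 h4) ha2
  · intro i j
    by_cases hij : i = j
    · subst hij; rfl
    let e : Fin n → F := fun k => if k = i then -1 else 1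
    have hei : e i = -1 := by simp [e]
    have hej : e j = 1 := by simp [e, Ne.symm hij]
    have he : ∀ k, e k ^ (q + 1) = 1 := by
      intro k
      simp only [e]
      split_ifs
      · exact neg_one_pow_q hF
      · exact one_pow _
    have hdet : (Matrix.swap F i j * Matrix.diagonal e).det = 1 := by
      rw [Matrix.det_mul, Matrix.det_diagonal, Finset.prod_eq_single i, hei, Matrix.swap,
        Matrix.det_permutation, Equiv.Perm.sign_swap hij]
      · simp
      · intro k _ hk
        simp [e, hk]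
      · intro h; exact absurd (Finset.mem_univ _) h
    have hpres : ∀ u w, hermForm n F q ((Matrix.swap F i j * Matrix.diagonal e) *ᵥ u)
        ((Matrix.swap F i j * Matrix.diagonal e) *ᵥ w) = hermForm n F q u w := by
      intro u w
      rw [← Matrix.mulVec_mulVec, ← Matrix.mulVec_mulVec, swap_pres, diag_pres n e he]
    have h := hcomm _ hdet hpres
    have h2 := congrFun (congrFun h i) j
    rw [Matrix.mul_assoc, Matrix.swap_mul_apply_left, Matrix.diagonal_mul, hej, one_mul,
      ← Matrix.mul_assoc, Matrix.mul_diagonal, hej, mul_one, Matrix.mul_swap_apply_right] at h2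
    exact h2.symm

/-- scalar matrices in `GU` -/
def scalarGU (n : ℕ) (a : Fˣ) (h1 : a ∈ N1 F q) : GU n F q :=
  ⟨⟨(a : F) • (1 : Matrix (Fin n) (Fin n) F), ((a⁻¹ : Fˣ) : F) • (1 : Matrix (Fin n) (Fin n) F), by
      rw [Matrix.smul_mul, Matrix.mul_smul, Matrix.mul_one, smul_smul]
      simp, by
      rw [Matrix.smul_mul, Matrix.mul_smul, Matrix.mul_one, smul_smul]
      simp⟩, by
    intro u w
    change hermForm n F q (((a : F) • (1 : Matrix (Fin n) (Fin n) F)) *ᵥ u)
      (((a : F) • (1 : Matrix (Fin n) (Fin n) F)) *ᵥ w) = _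
    rw [Matrix.smul_mulVec, Matrix.one_mulVec, Matrix.smul_mulVec, Matrix.one_mulVec,
      hermForm_smul_left, hermForm_smul_right, ← mul_assoc, ← pow_succ', (mem_N1 a).1 h1, one_mul]⟩

theorem scalarGU_central (n : ℕ) (a : Fˣ) (h1 : a ∈ N1 F q) :
    scalarGU n a h1 ∈ Subgroup.center (GU n F q) := by
  rw [Subgroup.mem_center_iff]
  intro s
  apply Subtype.ext
  apply Units.ext
  change (s.1.1 : Matrix (Fin n) (Fin n) F) * ((a : F) • (1 : Matrix (Fin n) (Fin n) F)) =
    ((a : F) • (1 : Matrix (Fin n) (Fin n) F)) * s.1.1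
  rw [Matrix.mul_smul, Matrix.smul_mul, Matrix.mul_one, Matrix.one_mul]

theorem det_scalarGU (n : ℕ) (a : Fˣ) (h1 : a ∈ N1 F q) :
    detGU n F q (scalarGU n a h1) = a ^ n := by
  apply Units.ext
  change ((a : F) • (1 : Matrix (Fin n) (Fin n) F)).det = _
  rw [Matrix.det_smul, Matrix.det_one, Fintype.card_fin, mul_one, Units.val_pow_eq_pow_val]

/-- central elements of `GU` are scalar -/
theorem central_eq_scalar (hF : Fintype.card F = q ^ 2) (n : ℕ) (hn : 1 ≤ n) (z : GU n F q)
    (hz : z ∈ Subgroup.center (GU n F q)) :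
    ∃ (a : Fˣ) (h1 : a ∈ N1 F q), z = scalarGU n a h1 := by
  have hq := one_lt_q hF
  let i0 : Fin n := ⟨0, hn⟩
  obtain ⟨h0, hd⟩ := scalar_of_commute hF n (z.1.1 : Matrix (Fin n) (Fin n) F) (by
    intro M hdet hM
    have hne : M.det ≠ 0 := by rw [hdet]; exact one_ne_zero
    have := Subgroup.mem_center_iff.1 hz ⟨Matrix.GeneralLinearGroup.mkOfDetNeZero M hne, hM⟩
    exact congrArg (fun t : GU n F q => (t.1.1 : Matrix (Fin n) (Fin n) F)) this)
  set a : F := (z.1.1 : Matrix (Fin n) (Fin n) F) i0 i0 with ha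
  have hzm : (z.1.1 : Matrix (Fin n) (Fin n) F) = a • 1 := by
    ext i j
    rw [Matrix.smul_apply, Matrix.one_apply, smul_eq_mul]
    split_ifs with hij
    · subst hij
      rw [mul_one, ha]
      exact hd i i0
    · rw [mul_zero]
      exact h0 i j hij
  have h1 : a ^ (q + 1) = 1 := by
    have := z.2 (Pi.single i0 1) (Pi.single i0 1)
    change hermForm n F q ((z.1.1 : Matrix (Fin n) (Fin n) F) *ᵥ _)
      ((z.1.1 : Matrix (Fin n) (Fin n) F) *ᵥ _) = _ at this
    rw [hzm, Matrix.smul_mulVec, Matrix.one_mulVec, hermForm_smul_left, hermForm_smul_right,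
      ← mul_assoc, ← pow_succ', hermForm_single_left, Pi.single_eq_same, one_pow, mul_one] at this
    exact this
  have ha0 : a ≠ 0 := by
    intro h
    rw [h, zero_pow (by omega)] at h1
    exact zero_ne_one h1
  refine ⟨Units.mk0 a ha0, (mem_N1 _).2 h1, ?_⟩
  apply Subtype.ext
  apply Units.ext
  exact hzm

/-- the determinant as a homomorphism onto the norm-one group -/
noncomputable def detN1 (hF : Fintype.card F = q ^ 2) (n : ℕ) : GU n F q →* N1 F q :=
  (detGU n F q).codRestrict (N1 F q) (det_mem_N1 hF n)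

theorem detN1_surjective (hF : Fintype.card F = q ^ 2) (n : ℕ) (hn : 1 ≤ n) :
    Function.Surjective (detN1 hF n) := by
  intro a
  obtain ⟨g, hg⟩ := exists_det_eq n hn a.1 a.2
  exact ⟨g, Subtype.ext hg⟩

/-- the quotient map of the cyclic norm-one group onto `ZMod d` -/
noncomputable def psi (d : ℕ) (hd : d ∣ Nat.card (N1 F q)) : N1 F q →* Multiplicative (ZMod d) :=
  (AddMonoidHom.toMultiplicative (ZMod.castHom hd (ZMod d)).toAddMonoidHom).comp
    (zmodCyclicMulEquiv (G := N1 F q) inferInstance).symm.toMonoidHom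

theorem psi_surjective (d : ℕ) (hd : d ∣ Nat.card (N1 F q)) :
    Function.Surjective (psi (F := F) (q := q) d hd) := by
  unfold psi
  rw [MonoidHom.coe_comp]
  apply Function.Surjective.comp
  · intro y
    obtain ⟨x, hx⟩ := ZMod.ringHom_surjective (ZMod.castHom hd (ZMod d)) (Multiplicative.toAdd y)
    exact ⟨Multiplicative.ofAdd x, by
      change Multiplicative.ofAdd ((ZMod.castHom hd (ZMod d)) x) = y
      rw [hx]; rfl⟩
  · exact (zmodCyclicMulEquiv (G := N1 F q) inferInstance).symm.surjective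

theorem psi_pow (d : ℕ) (hd : d ∣ Nat.card (N1 F q)) (n : ℕ) (hdn : d ∣ n) (a : N1 F q) :
    psi d hd (a ^ n) = 1 := by
  rw [map_pow]
  obtain ⟨k, rfl⟩ := hdn
  rw [pow_mul]
  have : (psi d hd a) ^ d = 1 := by
    have := pow_card_eq_one' (G := Multiplicative (ZMod d)) (x := psi d hd a)
    rw [Nat.card_eq_of_bijective _ Multiplicative.toAdd.bijective, Nat.card_zmod] at this
    exact this
  rw [this, one_pow]

theorem ker_psi (hF : Fintype.card F = q ^ 2) (n : ℕ)
    (hd : Nat.gcd n (q + 1) ∣ Nat.card (N1 F q)) :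
    (psi (F := F) (q := q) (Nat.gcd n (q + 1)) hd).ker =
      (powMonoidHom n : N1 F q →* N1 F q).range := by
  symm
  have hq := one_lt_q hF
  have hdpos : 0 < Nat.gcd n (q + 1) := Nat.gcd_pos_of_pos_right _ (by omega)
  apply Subgroup.eq_of_le_of_card_ge
  · rintro _ ⟨a, rfl⟩
    rw [MonoidHom.mem_ker, powMonoidHom_apply]
    exact psi_pow _ hd n (Nat.gcd_dvd_left _ _) a
  · have h1 := Subgroup.card_mul_index (psi (F := F) (q := q) (Nat.gcd n (q + 1)) hd).ker
    rw [Subgroup.index_ker, MonoidHom.range_eq_top.2 (psi_surjective _ hd), Subgroup.card_top,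
      Nat.card_eq_of_bijective _ Multiplicative.toAdd.bijective, Nat.card_zmod] at h1
    have h2 := Subgroup.card_mul_index (powMonoidHom n : N1 F q →* N1 F q).ker
    rw [Subgroup.index_ker, IsCyclic.card_powMonoidHom_ker, card_N1 hF, Nat.gcd_comm] at h2
    rw [card_N1 hF] at h1
    have h3 : Nat.gcd n (q + 1) * Nat.card (powMonoidHom n : N1 F q →* N1 F q).range =
        Nat.gcd n (q + 1) * Nat.card (psi (F := F) (q := q) (Nat.gcd n (q + 1)) hd).ker := by
      rw [h2, mul_comm, h1]
    exact (Nat.eq_of_mul_eq_mul_left hdpos h3).ge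

theorem result {F : Type*} [Field F] [Fintype F] {q : ℕ} (hF : Fintype.card F = q ^ 2) (n : ℕ) (hn : 2 ≤ n) : ∃ φ : ↥(Cfsg.GU n F q) →* Multiplicative (ZMod (Nat.gcd n (q + 1))), Function.Surjective φ ∧ φ.ker = (Matrix.GeneralLinearGroup.det : Matrix.GeneralLinearGroup (Fin n) F →* Fˣ).ker.subgroupOf (Cfsg.GU n F q) ⊔ Subgroup.center ↥(Cfsg.GU n F q) := by
  have hd : Nat.gcd n (q + 1) ∣ Nat.card (N1 F q) := by
    rw [card_N1 hF]; exact Nat.gcd_dvd_right _ _
  refine ⟨(psi _ hd).comp (detN1 hF n), ?_, ?_⟩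
  · rw [MonoidHom.coe_comp]
    exact (psi_surjective _ hd).comp (detN1_surjective hF n (by omega))
  · apply le_antisymm
    · intro g hg
      rw [MonoidHom.mem_ker, MonoidHom.comp_apply, ← MonoidHom.mem_ker, ker_psi hF n hd] at hg
      obtain ⟨b, hb⟩ := hg
      rw [powMonoidHom_apply] at hb
      have hg2 : g = (g * (scalarGU n b.1 b.2)⁻¹) * scalarGU n b.1 b.2 := by
        rw [inv_mul_cancel_right]
      rw [hg2]
      apply Subgroup.mul_mem_sup
      · rw [Subgroup.mem_subgroupOf, MonoidHom.mem_ker]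
        change detGU n F q (g * (scalarGU n b.1 b.2)⁻¹) = 1
        rw [map_mul, map_inv, det_scalarGU]
        have : detGU n F q g = (b : Fˣ) ^ n := by
          have := congrArg Subtype.val hb
          rw [Subgroup.coe_pow] at this
          exact this.symm
        rw [this, mul_inv_cancel]
      · exact scalarGU_central n b.1 b.2
    · apply sup_le
      · intro g hg
        rw [Subgroup.mem_subgroupOf, MonoidHom.mem_ker] at hg
        rw [MonoidHom.mem_ker, MonoidHom.comp_apply]
        have : detN1 hF n g = 1 := Subtype.ext hg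
        rw [this, map_one]
      · intro g hg
        obtain ⟨a, h1, rfl⟩ := central_eq_scalar hF n (by omega) g hg
        rw [MonoidHom.mem_ker, MonoidHom.comp_apply]
        have : detN1 hF n (scalarGU n a h1) = (⟨a, h1⟩ : N1 F q) ^ n := by
          apply Subtype.ext
          rw [Subgroup.coe_pow]
          exact det_scalarGU n a h1
        rw [this]
        exact psi_pow _ hd n (Nat.gcd_dvd_left _ _) _

end Cfsg.Agent.S0783
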