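import Cfsg.Statements.S0319
import Mathlib
import Cfsg.Agent.Lib.Helper5.BN2

set_option autoImplicit false
open Cfsg

namespace Cfsg.Agent.S0319

open Cfsg.Agent.Lib.Helper5

/-- Simplicity criterion for groups with a (B,N)-pair: if the distinguished generators admit no
splitting into two non-empty mutually commuting parts, `B` is solvable, `G` is perfect and the intersection
of all conjugates of `B` is trivial, then `G` is simple. -/
theorem result {G : Type*} [Group G] [Nontrivial G]
    (P : Cfsg.BNPair G) (hirr : P.Irreducible) (hsolv : Group.IsSolvable P.B) (hperf : commutator G = ⊤)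
    (hcore : P.B.normalCore = ⊥) : IsSimpleGroup G := by
  refine { exists_pair_ne := exists_pair_ne G, eq_bot_or_eq_top_of_normal := ?_ }
  intro H hH
  set J : Set G := {t | t ∈ P.S ∧ t ∈ P.B ⊔ H} with hJdef
  have hJ : J ⊆ P.S := fun t ht => ht.1
  have hPJ : P.B ⊔ H = P.parabolic J := BN.eq_parabolic_of_le P (P.B ⊔ H) le_sup_left
  -- J is empty or everything
  have hcases : J = ∅ ∨ J = P.S := by
    by_contra hcon
    push Not at hcon
    obtain ⟨h1, h2⟩ := hcon
    have hne1 : J.Nonempty := h1
    have hne2 : (P.S \ J).Nonempty := by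
      rw [Set.nonempty_iff_ne_empty]
      intro h3
      apply h2
      apply Set.Subset.antisymm hJ
      intro s hs
      by_contra hsJ
      have : s ∈ P.S \ J := ⟨hs, hsJ⟩
      rw [h3] at this
      exact this
    obtain ⟨s, hs, s', hs', hnot⟩ := hirr J hJ hne1 hne2
    apply hnot
    apply BN.comm_of_normal P H hs.1 hs'.1 hs.2
    intro h4
    exact hs'.2 ⟨hs'.1, h4⟩
  rcases hcases with h0 | h1
  · left
    have h2 : P.B ⊔ H = P.B := by
      rw [hPJ, h0]
      unfold BNPair.parabolic
      rw [Subgroup.closure_empty, sup_bot_eq]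
    have h3 : H ≤ P.B := by
      rw [← h2]; exact le_sup_right
    have h4 : H ≤ P.B.normalCore := Subgroup.normal_le_normalCore.mpr h3
    rw [hcore] at h4
    exact le_bot_iff.mp h4
  · right
    have h2 : P.B ⊔ H = ⊤ := by
      rw [hPJ, h1, BN.parabolic_eq_closure]
      exact Cfsg.Agent.S0308.closure_eq_top P
    -- G ⧸ H is a quotient of B, hence solvable; it is perfect, hence trivial
    let f : P.B →* G ⧸ H := (QuotientGroup.mk' H).comp P.B.subtype
    have hf : Function.Surjective f := by
      intro x
      obtain ⟨g, rfl⟩ := QuotientGroup.mk_surjective x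
      have hg : g ∈ P.B ⊔ H := by rw [h2]; trivial
      rw [Subgroup.mem_sup_of_normal_right] at hg
      obtain ⟨b, hb, h, hh, rfl⟩ := hg
      refine ⟨⟨b, hb⟩, ?_⟩
      change (QuotientGroup.mk b : G ⧸ H) = QuotientGroup.mk (b * h)
      rw [QuotientGroup.eq]
      simpa using hh
    have hsolvQ : Group.IsSolvable (G ⧸ H) := Group.isSolvable_of_surjective hf
    have hperfQ : commutator (G ⧸ H) = ⊤ := by
      rw [eq_top_iff]
      intro x _
      obtain ⟨g, rfl⟩ := QuotientGroup.mk_surjective x
      have hg : g ∈ commutator G := by rw [hperf]; trivial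
      have h3 : (commutator G).map (QuotientGroup.mk' H) ≤ commutator (G ⧸ H) := by
        rw [commutator_def, Subgroup.map_commutator]
        exact Subgroup.commutator_mono le_top le_top
      exact h3 ⟨g, hg, rfl⟩
    by_contra hne
    have hnt : Nontrivial (G ⧸ H) := by
      by_contra hcon
      rw [not_nontrivial_iff_subsingleton, QuotientGroup.subsingleton_iff] at hcon
      exact hne hcon
    have := Group.IsSolvable.commutator_lt_top_of_nontrivial (G ⧸ H)
    rw [hperfQ] at this
    exact lt_irrefl _ this

end Cfsg.Agent.S0319
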