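import Cfsg.Statements.S2602
import Cfsg.Agent.H9.AutPSL2Hom

set_option autoImplicit false
open Cfsg

namespace Cfsg.Agent.S2602

open Cfsg.Agent.H9.AutPSL2

section aux

variable {F : Type*} [Field F] [Fintype F]

local notation "PSL2" => Matrix.ProjectiveSpecialLinearGroup (Fin 2) F

/-- `Aut(F)` is cyclic of order `f` when `|F| = p ^ f`. -/
theorem ringAut_cyclic (p : ℕ) [Fact p.Prime] [CharP F p] (f : ℕ) (hF : Fintype.card F = p ^ f) :
    IsCyclic (RingAut F) ∧ Nat.card (RingAut F) = f := by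
  letI : Algebra (ZMod p) F := ZMod.algebra F p
  let e : (F ≃ₐ[ZMod p] F) ≃* RingAut F :=
    { toFun := fun a => a.toRingEquiv
      invFun := fun ρ => AlgEquiv.ofRingEquiv (f := ρ) (fun x =>
        DFunLike.congr_fun (Subsingleton.elim ((ρ : F →+* F).comp (algebraMap (ZMod p) F))
          (algebraMap (ZMod p) F)) x)
      left_inv := fun a => by ext x; rfl
      right_inv := fun ρ => by ext x; rfl
      map_mul' := fun a b => by ext x; rfl }
  refine ⟨(e.isCyclic).mp inferInstance, ?_⟩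
  rw [← Nat.card_congr e.toEquiv, IsGalois.card_aut_eq_finrank]
  have h1 := Module.card_eq_pow_finrank (K := ZMod p) (V := F)
  rw [ZMod.card, hF] at h1
  exact (Nat.pow_right_injective (Fact.out : p.Prime).two_le h1).symm

theorem gcd_two_odd {n : ℕ} (h : n % 2 = 1) : Nat.gcd 2 n = 1 := by
  have hd : Nat.gcd 2 n ∣ 2 := Nat.gcd_dvd_left 2 n
  have hle : Nat.gcd 2 n ≤ 2 := Nat.le_of_dvd (by norm_num) hd
  have hpos : 0 < Nat.gcd 2 n := Nat.gcd_pos_of_pos_left _ (by norm_num)
  have hn : Nat.gcd 2 n ∣ n := Nat.gcd_dvd_right 2 n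
  interval_cases hg : Nat.gcd 2 n
  · rfl
  · omega

/-- the induced map on `Out` -/
noncomputable def PhiBar (p : ℕ) [Fact p.Prime] [CharP F p] : Cfsg.Out PSL2 →* RingAut F :=
  QuotientGroup.lift (Cfsg.Inn PSL2) (Phi p) (by
    rintro _ ⟨x, rfl⟩
    exact MonoidHom.mem_ker.mpr (Phi_conj p x))

theorem PhiBar_mk (p : ℕ) [Fact p.Prime] [CharP F p] (α : MulAut PSL2) :
    PhiBar p (QuotientGroup.mk α : Cfsg.Out PSL2) = Phi p α :=
  QuotientGroup.lift_mk _ _ α

theorem PhiBar_surjective (p : ℕ) [Fact p.Prime] [CharP F p] :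
    Function.Surjective (PhiBar (F := F) p) := by
  intro ρ
  obtain ⟨α, hα⟩ := Phi_surjective (F := F) p ρ
  exact ⟨QuotientGroup.mk α, by rw [PhiBar_mk, hα]⟩

theorem mk_conj (x : PSL2) : (QuotientGroup.mk (MulAut.conj x) : Cfsg.Out PSL2) = 1 :=
  (QuotientGroup.eq_one_iff _).mpr ⟨x, rfl⟩

theorem mem_ker_iff (p : ℕ) [Fact p.Prime] [CharP F p] (z : Cfsg.Out PSL2) :
    z ∈ (PhiBar (F := F) p).ker ↔
      ∃ c : Fˣ, z = (QuotientGroup.mk (lift (delta c)) : Cfsg.Out PSL2) := by
  constructor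
  · intro hz
    obtain ⟨α, rfl⟩ := QuotientGroup.mk_surjective z
    rw [MonoidHom.mem_ker, PhiBar_mk] at hz
    obtain ⟨x, c, rfl⟩ := exists_of_Phi_eq_one p hz
    refine ⟨c, ?_⟩
    rw [QuotientGroup.mk_mul, mk_conj, one_mul]
  · rintro ⟨c, rfl⟩
    rw [MonoidHom.mem_ker, PhiBar_mk, Phi_delta]

theorem mk_delta_sq (d : Fˣ) :
    (QuotientGroup.mk (lift (delta (d ^ 2))) : Cfsg.Out PSL2) = 1 := by
  rw [lift_delta_sq, mk_conj]

theorem ker_even (p : ℕ) [Fact p.Prime] [CharP F p] (h2 : (2 : F) = 0) :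
    (PhiBar (F := F) p).ker = ⊥ := by
  rw [eq_bot_iff]
  intro z hz
  obtain ⟨c, rfl⟩ := (mem_ker_iff p z).mp hz
  have hch : ringChar F = 2 := CharP.ringChar_of_prime_eq_zero Nat.prime_two (by exact_mod_cast h2)
  obtain ⟨d, hd⟩ := FiniteField.isSquare_of_char_two hch (c : F)
  have hd0 : d ≠ 0 := by
    rintro rfl
    rw [mul_zero] at hd
    exact c.ne_zero hd
  have hc : c = (Units.mk0 d hd0) ^ 2 := by
    apply Units.ext
    rw [hd, sq]
    rfl
  rw [Subgroup.mem_bot, hc, mk_delta_sq]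

theorem ker_odd (p : ℕ) [Fact p.Prime] [CharP F p] (h2 : (2 : F) ≠ 0) :
    Nat.card (PhiBar (F := F) p).ker = 2 := by
  classical
  have hch : ringChar F ≠ 2 := by
    intro h
    apply h2
    have := ringChar.spec F 2
    rw [h] at this
    exact_mod_cast this.mpr (dvd_refl 2)
  obtain ⟨a0, ha0⟩ := FiniteField.exists_nonsquare hch
  have ha00 : a0 ≠ 0 := by
    rintro rfl
    exact ha0 ⟨0, by simp⟩
  set c0 : Fˣ := Units.mk0 a0 ha00 with hc0
  set z0 : Cfsg.Out PSL2 := QuotientGroup.mk (lift (delta c0)) with hz0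
  have hz0ne : z0 ≠ 1 := by
    intro h
    rw [hz0, QuotientGroup.eq_one_iff] at h
    obtain ⟨x, hx⟩ := h
    exact lift_delta_ne_conj h2 c0 ha0 x hx.symm
  have hz0mem : z0 ∈ (PhiBar (F := F) p).ker := (mem_ker_iff p z0).mpr ⟨c0, rfl⟩
  have hall : ∀ z ∈ (PhiBar (F := F) p).ker, z = 1 ∨ z = z0 := by
    intro z hz
    obtain ⟨c, rfl⟩ := (mem_ker_iff p z).mp hz
    by_cases hsq : IsSquare (c : F)
    · left
      obtain ⟨d, hd⟩ := hsq
      have hd0 : d ≠ 0 := by
        rintro rfl
        rw [mul_zero] at hd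
        exact c.ne_zero hd
      have hc : c = (Units.mk0 d hd0) ^ 2 := by
        apply Units.ext
        rw [hd, sq]
        rfl
      rw [hc, mk_delta_sq]
    · right
      have hq1 : quadraticChar F (c : F) = -1 := quadraticChar_neg_one_iff_not_isSquare.mpr hsq
      have hq2 : quadraticChar F a0 = -1 := quadraticChar_neg_one_iff_not_isSquare.mpr ha0
      have hne : (c : F) * a0 ≠ 0 := mul_ne_zero c.ne_zero ha00
      have hq3 : quadraticChar F ((c : F) * a0) = 1 := by
        rw [map_mul, hq1, hq2]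
        norm_num
      obtain ⟨d, hd⟩ := (quadraticChar_one_iff_isSquare hne).mp hq3
      have hd0 : d * a0⁻¹ ≠ 0 := by
        apply mul_ne_zero _ (inv_ne_zero ha00)
        rintro rfl
        rw [mul_zero] at hd
        exact hne hd
      have hc : c = c0 * (Units.mk0 (d * a0⁻¹) hd0) ^ 2 := by
        apply Units.ext
        show (c : F) = a0 * ((d * a0⁻¹) ^ 2)
        field_simp
        linear_combination hd
      rw [hc, lift_delta_mul, QuotientGroup.mk_mul, mk_delta_sq, mul_one]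
  rw [Nat.card_eq_two_iff]
  refine ⟨⟨1, one_mem _⟩, ⟨z0, hz0mem⟩, ?_, ?_⟩
  · intro h
    apply hz0ne
    exact (congrArg Subtype.val h).symm
  · ext ⟨z, hz⟩
    simp only [Set.mem_insert_iff, Set.mem_singleton_iff, Set.mem_univ, iff_true, Subtype.mk.injEq]
    exact hall z hz

end aux

/-- Structure of the outer automorphism group of PSL_2(q), q = p^f ≥ 4: it has a normal cyclic subgroup of order gcd(2, q − 1) (diagonal automorphisms) with cyclic quotient of order f (field automorphisms); there is no graph automorphism in dimension 2. -/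
theorem result {F : Type*} [Field F] [Fintype F] {p f : ℕ} [Fact p.Prime] (hf : 1 ≤ f) (hF : Fintype.card F = p ^ f) (h4 : 4 ≤ p ^ f) : ∃ φ : Cfsg.Out (Matrix.ProjectiveSpecialLinearGroup (Fin 2) F) →* Multiplicative (ZMod f), Function.Surjective φ ∧ IsCyclic φ.ker ∧ Nat.card φ.ker = Nat.gcd 2 (p ^ f - 1) := by
  classical
  have hp := (Fact.out : p.Prime)
  -- the characteristic
  obtain ⟨p', hchar⟩ := CharP.exists F
  haveI := hchar
  obtain ⟨n, hp', hn⟩ := FiniteField.card F p'
  have hpp : p = p' := by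
    have h1 : p ∣ p' ^ (n : ℕ) := by
      rw [← hn, hF]
      exact dvd_pow_self p (by omega)
    exact (Nat.prime_dvd_prime_iff_eq hp hp').mp (hp.dvd_of_dvd_pow h1)
  subst hpp
  obtain ⟨hcyc, hcard⟩ := ringAut_cyclic (F := F) p f hF
  obtain ⟨e1⟩ : Nonempty (RingAut F ≃* Multiplicative (ZMod f)) := by
    subst hcard
    exact ⟨(zmodCyclicMulEquiv hcyc).symm⟩
  refine ⟨(e1 : RingAut F →* Multiplicative (ZMod f)).comp (PhiBar p), ?_, ?_⟩
  · exact e1.surjective.comp (PhiBar_surjective p)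
  · rw [MonoidHom.ker_mulEquiv_comp]
    by_cases h2 : (2 : F) = 0
    · have hk := ker_even (F := F) p h2
      have hch : ringChar F = 2 :=
        CharP.ringChar_of_prime_eq_zero Nat.prime_two (by exact_mod_cast h2)
      have heven := FiniteField.even_card_iff_char_two.mp hch
      rw [hF] at heven
      have hg : Nat.gcd 2 (p ^ f - 1) = 1 := gcd_two_odd (by omega)
      rw [hg, hk]
      refine ⟨?_, ?_⟩
      · exact isCyclic_of_subsingleton
      · exact Subgroup.card_bot
    · have hk := ker_odd (F := F) p h2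
      have hch : ringChar F ≠ 2 := by
        intro h
        apply h2
        have := ringChar.spec F 2
        rw [h] at this
        exact_mod_cast this.mpr (dvd_refl 2)
      have hodd := FiniteField.odd_card_of_char_ne_two hch
      rw [hF] at hodd
      have hg : Nat.gcd 2 (p ^ f - 1) = 2 := Nat.gcd_eq_left (by omega)
      rw [hg]
      exact ⟨isCyclic_of_prime_card hk, hk⟩

end Cfsg.Agent.S2602
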