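import Cfsg.Statements.S0768
import Mathlib
import Cfsg.Agent.Lib.Helper5.Symp
import Cfsg.Agent.S0765

set_option autoImplicit false
open Cfsg
open scoped LinearAlgebra.Projectivization Pointwise

namespace Cfsg.Agent.S0768

open Matrix Cfsg.Agent.Lib.Helper5.Symp

variable {F : Type*} [Field F] (m : ℕ)

/-- a symplectic matrix as an element of `spGL` -/
noncomputable def toSpGL (g : symplecticGroup (Fin m) F) : spGL m F :=
  ⟨Matrix.GeneralLinearGroup.mk'' g.1 (SymplecticGroup.symplectic_det g.2), by
    intro u v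
    exact sympForm_of_mem m g.2 u v⟩

theorem toSpGL_smul (g : symplecticGroup (Fin m) F) (v : Fin m ⊕ Fin m → F) :
    toSpGL m g • v = g.1 *ᵥ v := rfl

theorem smul_mk' (g : spGL m F) (v : Fin m ⊕ Fin m → F) (hv : v ≠ 0) :
    g • Projectivization.mk F v hv =
      Projectivization.mk F (g • v) ((smul_ne_zero_iff_ne g).mpr hv) := rfl

/-- moving `w` to `x` while fixing `v`, on points -/
theorem exists_fix_map {v w x : Fin m ⊕ Fin m → F} (hv : v ≠ 0) (hw : w ≠ 0) (hx : x ≠ 0)
    (hvw : sympForm m F v w ≠ 0) (hvx : sympForm m F v x ≠ 0) :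
    ∃ g : spGL m F, g • Projectivization.mk F v hv = Projectivization.mk F v hv ∧
      g • Projectivization.mk F w hw = Projectivization.mk F x hx := by
  have h1 : sympForm m F v ((sympForm m F v w)⁻¹ • w) = 1 := by
    rw [sympForm_smul_right, inv_mul_cancel₀ hvw]
  have h2 : sympForm m F v ((sympForm m F v x)⁻¹ • x) = 1 := by
    rw [sympForm_smul_right, inv_mul_cancel₀ hvx]
  obtain ⟨g, _, hgv, hgw⟩ := exists_transvectionSubgroup_map_pair m h1 h2
  refine ⟨toSpGL m g, ?_, ?_⟩
  · rw [smul_mk', Projectivization.mk_eq_mk_iff']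
    exact ⟨1, by rw [one_smul, toSpGL_smul, hgv]⟩
  · rw [smul_mk', Projectivization.mk_eq_mk_iff']
    refine ⟨sympForm m F v w * (sympForm m F v x)⁻¹, ?_⟩
    rw [toSpGL_smul]
    rw [Matrix.mulVec_smul] at hgw
    have := congrArg (fun z => sympForm m F v w • z) hgw
    simp only [smul_smul, mul_inv_cancel₀ hvw, one_smul] at this
    rw [this]

theorem mem_of_nonorth {B : Set (ℙ F (Fin m ⊕ Fin m → F))} (hB : MulAction.IsBlock (spGL m F) B)
    {v w x : Fin m ⊕ Fin m → F} (hv : v ≠ 0) (hw : w ≠ 0) (hx : x ≠ 0)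
    (hvB : Projectivization.mk F v hv ∈ B) (hwB : Projectivization.mk F w hw ∈ B)
    (hvw : sympForm m F v w ≠ 0) (hvx : sympForm m F v x ≠ 0) :
    Projectivization.mk F x hx ∈ B := by
  obtain ⟨g, hg1, hg2⟩ := exists_fix_map m hv hw hx hvw hvx
  have hgB : g • B = B := hB.smul_eq_of_mem hvB (by rw [hg1]; exact hvB)
  rw [← hgB, ← hg2]
  exact Set.smul_mem_smul_set hwB

theorem mem_of_nonorth' {B : Set (ℙ F (Fin m ⊕ Fin m → F))} (hB : MulAction.IsBlock (spGL m F) B)
    {v w x : Fin m ⊕ Fin m → F} (hv : v ≠ 0) (hw : w ≠ 0) (hx : x ≠ 0)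
    (hvB : Projectivization.mk F v hv ∈ B) (hwB : Projectivization.mk F w hw ∈ B)
    (hvw : sympForm m F v w ≠ 0) :
    Projectivization.mk F x hx ∈ B := by
  by_cases hvx : sympForm m F v x = 0
  · obtain ⟨y, hy1, hy2⟩ := exists_sympForm_ne_zero_both m hv hx
    have hy : y ≠ 0 := by
      rintro rfl
      exact hy1 (sympForm_zero_right m v)
    have hyB := mem_of_nonorth m hB hv hw hy hvB hwB hvw hy1
    have hyv : sympForm m F y v ≠ 0 := by
      rw [sympForm_swap]; exact neg_ne_zero.mpr hy1
    exact mem_of_nonorth m hB hy hv hx hyB hvB hyv hy2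
  · exact mem_of_nonorth m hB hv hw hx hvB hwB hvw hvx

theorem eq_univ_of_nonorth {B : Set (ℙ F (Fin m ⊕ Fin m → F))}
    (hB : MulAction.IsBlock (spGL m F) B)
    {v w : Fin m ⊕ Fin m → F} (hv : v ≠ 0) (hw : w ≠ 0)
    (hvB : Projectivization.mk F v hv ∈ B) (hwB : Projectivization.mk F w hw ∈ B)
    (hvw : sympForm m F v w ≠ 0) : B = Set.univ := by
  rw [Set.eq_univ_iff_forall]
  intro p
  induction p using Projectivization.ind with
  | h x hx => exact mem_of_nonorth' m hB hv hw hx hvB hwB hvw

/-- Primitivity: for m ≥ 1 and F finite, the symplectic group of the form sympForm (as a subgroup of the general linear group) acts primitively on the projective space of F^(2m). -/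
theorem result {F : Type*} [Field F] [Finite F] (m : ℕ) (hm : 1 ≤ m) : MulAction.IsPreprimitive ↥(Cfsg.spGL m F) (ℙ F (Fin m ⊕ Fin m → F)) := by
  have htrans : MulAction.IsPretransitive ↥(Cfsg.spGL m F) (ℙ F (Fin m ⊕ Fin m → F)) := by
    constructor
    intro p q
    induction p using Projectivization.ind with
    | h v hv =>
    induction q using Projectivization.ind with
    | h w hw =>
    obtain ⟨g, _, hg⟩ := exists_transvectionSubgroup_map m hv hw
    refine ⟨toSpGL m g, ?_⟩
    rw [smul_mk', Projectivization.mk_eq_mk_iff']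
    exact ⟨1, by rw [one_smul, toSpGL_smul, hg]⟩
  refine { toIsPretransitive := htrans, isTrivialBlock_of_isBlock := ?_ }
  intro B hB
  by_cases hsub : B.Subsingleton
  · exact Or.inl hsub
  right
  rw [Set.not_subsingleton_iff] at hsub
  obtain ⟨p, hp, q, hq, hpq⟩ := hsub
  induction p using Projectivization.ind with
  | h v hv =>
  induction q using Projectivization.ind with
  | h w hw =>
  by_cases hvw : sympForm m F v w = 0
  · -- find a transvection fixing v and moving w to something non-orthogonal to w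
    have hwv : w ∉ Submodule.span F {v} := by
      intro hmem
      rw [Submodule.mem_span_singleton] at hmem
      obtain ⟨a, ha⟩ := hmem
      apply hpq
      rw [Projectivization.mk_eq_mk_iff']
      refine ⟨a⁻¹, ?_⟩
      have ha0 : a ≠ 0 := by
        rintro rfl
        rw [zero_smul] at ha
        exact hw ha.symm
      rw [← ha, smul_smul, inv_mul_cancel₀ ha0, one_smul]
    obtain ⟨r, hr, hwr⟩ := Cfsg.Agent.S0765.exists_orth m _ hwv
    have hvr : sympForm m F v r = 0 := hr v (Submodule.mem_span_singleton_self v)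
    set g := toSpGL m (sympT m r 1) with hg
    have hgv : g • v = v := by
      rw [hg, toSpGL_smul]
      change sympTransvection m r 1 *ᵥ v = v
      rw [sympTransvection_mulVec, hvr, mul_zero, zero_smul, add_zero]
    have hgw : g • w = w + sympForm m F w r • r := by
      rw [hg, toSpGL_smul]
      change sympTransvection m r 1 *ᵥ w = _
      rw [sympTransvection_mulVec, one_mul]
    have hgB : g • B = B := by
      apply hB.smul_eq_of_mem hp
      rw [smul_mk']
      have : Projectivization.mk F (g • v) ((smul_ne_zero_iff_ne g).mpr hv) =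
          Projectivization.mk F v hv := by
        rw [Projectivization.mk_eq_mk_iff']
        exact ⟨1, by rw [one_smul, hgv]⟩
      rw [this]
      exact hp
    have hgwB : g • Projectivization.mk F w hw ∈ B := by
      rw [← hgB]
      exact Set.smul_mem_smul_set hq
    rw [smul_mk'] at hgwB
    apply eq_univ_of_nonorth m hB hw ((smul_ne_zero_iff_ne g).mpr hw) hq hgwB
    rw [hgw, sympForm_add_right, sympForm_self, zero_add, sympForm_smul_right]
    exact mul_ne_zero hwr hwr
  · exact eq_univ_of_nonorth m hB hv hw hp hq hvw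

end Cfsg.Agent.S0768
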