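import Cfsg.Statements.S0270
import Mathlib
import Cfsg.Agent.Lib.Helper5.Symp
import Cfsg.Agent.S0765
import Cfsg.Agent.S0269
import Cfsg.Agent.S0768

set_option autoImplicit false
open Cfsg
open scoped LinearAlgebra.Projectivization Pointwise

namespace Cfsg.Agent.S0270

open Matrix Cfsg.Agent.Lib.Helper5.Symp Cfsg.Agent.S0269

variable {F : Type*} [Field F] (m : ℕ)

/-- the hom from Mathlib's symplectic group to `spGL` -/
noncomputable def toSp : symplecticGroup (Fin m) F →* spGL m F :=
  MonoidHom.codRestrict ((symplecticGroup (Fin m) F).subtype.toHomUnits) (spGL m F)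
    (fun g u v => sympForm_of_mem m g.2 u v)

theorem toSp_surjective : Function.Surjective (toSp m (F := F)) := by
  intro h
  have hmem : (h.1.1 : Matrix _ _ F) ∈ symplecticGroup (Fin m) F :=
    mem_of_sympForm m (fun u v => h.2 u v)
  refine ⟨⟨h.1.1, hmem⟩, ?_⟩
  apply Subtype.ext
  apply Units.ext
  rfl

noncomputable instance instMulActionSympProj :
    MulAction (symplecticGroup (Fin m) F) (ℙ F (Fin m ⊕ Fin m → F)) :=
  MulAction.compHom _ (toSp m)

theorem smul_def' (g : symplecticGroup (Fin m) F) (p : ℙ F (Fin m ⊕ Fin m → F)) :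
    g • p = toSp m g • p := rfl

theorem mulVec_ne_zero (g : symplecticGroup (Fin m) F) {v : Fin m ⊕ Fin m → F} (hv : v ≠ 0) :
    g.1 *ᵥ v ≠ 0 := (smul_ne_zero_iff_ne (toSp m g)).mpr hv

theorem smul_mk' (g : symplecticGroup (Fin m) F) (v : Fin m ⊕ Fin m → F) (hv : v ≠ 0) :
    g • Projectivization.mk F v hv = Projectivization.mk F (g.1 *ᵥ v) (mulVec_ne_zero m g hv) :=
  rfl

theorem isPreprimitive [Finite F] (hm : 1 ≤ m) :
    MulAction.IsPreprimitive (symplecticGroup (Fin m) F) (ℙ F (Fin m ⊕ Fin m → F)) := by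
  let f : ℙ F (Fin m ⊕ Fin m → F) →ₑ[toSp m (F := F)] ℙ F (Fin m ⊕ Fin m → F) :=
    { toFun := id, map_smul' := fun g p => rfl }
  exact (MulAction.isPreprimitive_congr (f := f) (toSp_surjective m)
    Function.bijective_id).mpr (Cfsg.Agent.S0768.result m hm)

/-- root subgroup of a vector -/
def rootSub (v : Fin m ⊕ Fin m → F) : Subgroup (symplecticGroup (Fin m) F) where
  carrier := {g | ∃ c, g = sympT m v c}
  mul_mem' := by
    rintro _ _ ⟨c, rfl⟩ ⟨d, rfl⟩
    exact ⟨c + d, sympT_mul m v c d⟩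
  one_mem' := ⟨0, (sympT_zero m v).symm⟩
  inv_mem' := by
    rintro _ ⟨c, rfl⟩
    refine ⟨-c, ?_⟩
    rw [inv_eq_iff_mul_eq_one, sympT_mul, add_neg_cancel, sympT_zero]

theorem mem_rootSub (v : Fin m ⊕ Fin m → F) (g : symplecticGroup (Fin m) F) :
    g ∈ rootSub m v ↔ ∃ c, g = sympT m v c := Iff.rfl

theorem rootSub_smul {a : F} (ha : a ≠ 0) (v : Fin m ⊕ Fin m → F) :
    rootSub m (a • v) = rootSub m v := by
  ext g
  rw [mem_rootSub, mem_rootSub]
  constructor
  · rintro ⟨c, rfl⟩
    exact ⟨a ^ 2 * c, sympT_smul m a v c⟩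
  · rintro ⟨c, rfl⟩
    refine ⟨c / a ^ 2, ?_⟩
    rw [sympT_smul]
    congr 1
    field_simp

theorem conj_sympT (g : symplecticGroup (Fin m) F) (v : Fin m ⊕ Fin m → F) (c : F) :
    g * sympT m v c * g⁻¹ = sympT m (g.1 *ᵥ v) c := by
  have h1 : g * sympT m v c = sympT m (g.1 *ᵥ v) c * g := by
    apply Subtype.ext
    change g.1 * sympTransvection m v c = sympTransvection m (g.1 *ᵥ v) c * g.1
    rw [mul_sympTransvection m g.2]
  rw [h1, mul_assoc, mul_inv_cancel, mul_one]

theorem rootSub_conj (g : symplecticGroup (Fin m) F) (v : Fin m ⊕ Fin m → F) :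
    rootSub m (g.1 *ᵥ v) = MulAut.conj g • rootSub m v := by
  ext x
  rw [Subgroup.mem_smul_pointwise_iff_exists, mem_rootSub]
  constructor
  · rintro ⟨c, rfl⟩
    exact ⟨sympT m v c, ⟨c, rfl⟩, by rw [MulAut.smul_def, MulAut.conj_apply, conj_sympT]⟩
  · rintro ⟨s, ⟨c, rfl⟩, rfl⟩
    exact ⟨c, by rw [MulAut.smul_def, MulAut.conj_apply, conj_sympT]⟩

/-- the Iwasawa structure -/
noncomputable def iwasawa :
    MulAction.IwasawaStructure (symplecticGroup (Fin m) F) (ℙ F (Fin m ⊕ Fin m → F)) where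
  T := fun p => rootSub m p.rep
  is_comm := fun p => ⟨⟨by
    rintro ⟨_, ⟨c, rfl⟩⟩ ⟨_, ⟨d, rfl⟩⟩
    apply Subtype.ext
    change sympT m p.rep c * sympT m p.rep d = sympT m p.rep d * sympT m p.rep c
    rw [sympT_mul, sympT_mul, add_comm]⟩⟩
  is_conj := fun g p => by
    have h1 : Projectivization.mk F (g • p).rep (g • p).rep_nonzero =
        Projectivization.mk F (g.1 *ᵥ p.rep) (mulVec_ne_zero m g p.rep_nonzero) := by
      rw [Projectivization.mk_rep, ← smul_mk' m g p.rep p.rep_nonzero, Projectivization.mk_rep]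
    rw [Projectivization.mk_eq_mk_iff'] at h1
    obtain ⟨a, ha⟩ := h1
    have ha0 : a ≠ 0 := by
      rintro rfl
      rw [zero_smul] at ha
      exact (g • p).rep_nonzero ha.symm
    rw [← ha, rootSub_smul m ha0, rootSub_conj]
  is_generator := by
    rw [eq_top_iff, ← Cfsg.Agent.S0765.result m, Subgroup.closure_le]
    rintro A ⟨w, c, hA⟩
    have hA' : A = sympT m w c := Subtype.ext hA
    by_cases hw : w = 0
    · rw [hA', hw, sympT_zero_vec]
      exact one_mem _
    · have h1 := Projectivization.mk_rep (Projectivization.mk F w hw)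
      rw [Projectivization.mk_eq_mk_iff'] at h1
      obtain ⟨a, ha⟩ := h1
      have ha0 : a ≠ 0 := by
        rintro rfl
        rw [zero_smul] at ha
        exact (Projectivization.mk F w hw).rep_nonzero ha.symm
      apply Subgroup.mem_iSup_of_mem (Projectivization.mk F w hw)
      rw [← ha, rootSub_smul m ha0]
      exact ⟨c, hA'⟩

/-- an element fixing all points is central -/
theorem mem_center_of_fix (n : symplecticGroup (Fin m) F)
    (hn : ∀ p : ℙ F (Fin m ⊕ Fin m → F), n • p = p) : n ∈ Subgroup.center _ := by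
  set f : (Fin m ⊕ Fin m → F) →ₗ[F] (Fin m ⊕ Fin m → F) := Matrix.toLin' n.1 with hf
  obtain ⟨a, ha⟩ := f.exists_eq_smul_id_of_forall_notLinearIndependent fun v => by
    by_cases hv : v = 0
    · simp [hv, linearIndependent_fin2]
    · have h1 := hn (Projectivization.mk F v hv)
      rw [smul_mk', Projectivization.mk_eq_mk_iff'] at h1
      obtain ⟨b, hb⟩ := h1
      rw [LinearIndependent.pair_iff' hv]
      push Not
      exact ⟨b, by rw [hf, Matrix.toLin'_apply]; exact hb⟩
  have hscal : ∀ v, n.1 *ᵥ v = a • v := by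
    intro v
    have := congrArg (fun g => g v) ha
    simp only [hf, Matrix.toLin'_apply] at this
    rw [this]
    rfl
  rw [Subgroup.mem_center_iff]
  intro h
  apply Subtype.ext
  change h.1 * n.1 = n.1 * h.1
  rw [Matrix.ext_iff_mulVec]
  intro x
  rw [← Matrix.mulVec_mulVec, ← Matrix.mulVec_mulVec, hscal, hscal, Matrix.mulVec_smul]

theorem sympT_ne_one (hm : 1 ≤ m) :
    sympT m (Pi.single (Sum.inl ⟨0, hm⟩) 1 : Fin m ⊕ Fin m → F) 1 ≠ 1 := by
  intro h
  have h1 := congrArg (fun g : symplecticGroup (Fin m) F =>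
    g.1 *ᵥ (Pi.single (Sum.inr ⟨0, hm⟩) 1 : Fin m ⊕ Fin m → F)) h
  change sympTransvection m _ 1 *ᵥ _ = (1 : Matrix _ _ F) *ᵥ _ at h1
  rw [sympTransvection_mulVec, Matrix.one_mulVec, one_mul] at h1
  have h2 : sympForm m F (Pi.single (Sum.inr ⟨0, hm⟩) 1) (Pi.single (Sum.inl ⟨0, hm⟩) 1) = 1 := by
    rw [sympForm_eq_sum]
    simp [Pi.single_apply]
  rw [h2, one_smul] at h1
  have h3 := congrFun h1 (Sum.inl ⟨0, hm⟩)
  simp at h3

/-- PSp_{2m}(q) is simple for m at least 2 and (m, q) other than (2, 2). -/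
theorem result {F : Type*} [Field F] [Fintype F] (m : ℕ) (hm : 2 ≤ m) (h : m = 2 → 3 ≤ Fintype.card F) : IsSimpleGroup (Cfsg.PSp m F) := by
  have hperf : commutator (symplecticGroup (Fin m) F) = ⊤ := by
    apply Cfsg.Agent.S0269.result
    by_cases h3 : 3 ≤ m
    · exact Or.inl h3
    · have : m = 2 := by omega
      exact Or.inr (Or.inl ⟨this, h this⟩)
  have hprim := isPreprimitive (F := F) m (by omega)
  have key : ∀ N : Subgroup (symplecticGroup (Fin m) F), N.Normal →
      N ≤ Subgroup.center _ ∨ N = ⊤ := by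
    intro N hN
    by_cases hfix : MulAction.fixedPoints N (ℙ F (Fin m ⊕ Fin m → F)) = Set.univ
    · left
      intro n hn
      apply mem_center_of_fix
      intro p
      have : p ∈ MulAction.fixedPoints N (ℙ F (Fin m ⊕ Fin m → F)) := by
        rw [hfix]; trivial
      exact this ⟨n, hn⟩
    · right
      have := (iwasawa m (F := F)).commutator_le N hfix
      rw [hperf] at this
      exact top_le_iff.mp this
  have hnontriv : Nontrivial (Cfsg.PSp m F) := by
    by_contra hcon
    rw [not_nontrivial_iff_subsingleton, QuotientGroup.subsingleton_iff] at hcon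
    have hbot : commutator (symplecticGroup (Fin m) F) = ⊥ := by
      rw [commutator_eq_closure, Subgroup.closure_eq_bot_iff]
      rintro _ ⟨a, b, rfl⟩
      have hb : b ∈ Subgroup.center (symplecticGroup (Fin m) F) := by rw [hcon]; trivial
      rw [Subgroup.mem_center_iff] at hb
      rw [Set.mem_singleton_iff, commutatorElement_def, hb a, mul_inv_cancel_right,
        mul_inv_cancel]
    rw [hperf] at hbot
    have : sympT m (Pi.single (Sum.inl ⟨0, by omega⟩) 1 : Fin m ⊕ Fin m → F) 1 ∈
        (⊥ : Subgroup (symplecticGroup (Fin m) F)) := by rw [← hbot]; trivial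
    rw [Subgroup.mem_bot] at this
    exact sympT_ne_one m (by omega) this
  refine { exists_pair_ne := hnontriv.exists_pair_ne, eq_bot_or_eq_top_of_normal := ?_ }
  intro H hH
  have hNn : (H.comap (QuotientGroup.mk' (Subgroup.center (symplecticGroup (Fin m) F)))).Normal :=
    hH.comap _
  rcases key _ hNn with h1 | h1
  · left
    rw [Subgroup.eq_bot_iff_forall]
    intro x hx
    obtain ⟨g, rfl⟩ := QuotientGroup.mk_surjective x
    have hg : g ∈ H.comap (QuotientGroup.mk' (Subgroup.center (symplecticGroup (Fin m) F))) := hx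
    exact (QuotientGroup.eq_one_iff g).mpr (h1 hg)
  · right
    rw [eq_top_iff]
    intro x _
    obtain ⟨g, rfl⟩ := QuotientGroup.mk_surjective x
    have hg : g ∈ H.comap (QuotientGroup.mk' (Subgroup.center (symplecticGroup (Fin m) F))) := by
      rw [h1]; trivial
    exact hg

end Cfsg.Agent.S0270
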