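import Mathlib
import Cfsg.Statements.S1490
import Cfsg.Agent.Lib.helper3.AbelianInertia
import Cfsg.Agent.Lib.helper3.CliffCorr

set_option autoImplicit false
open Cfsg

namespace Cfsg.Agent.S1490

open Cfsg.Agent.Lib.helper3.Irr Cfsg.Agent.Lib.helper3.IndFun

/-- Let H be a normal subgroup of the finite group G, θ an irreducible character of H with inertia group T, and suppose the commutator of any two elements of T lies in H (T/H abelian). Then there are a positive integer e and a finite set C of irreducible characters of G with e ^ 2 * |C| * |H| = |T|, such that the function induced from θ is e times the sum of the members of C and every member of C has degree [G:T] * e * θ(1). -/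
theorem result {G : Type*} [Group G] [Fintype G] (H T : Subgroup G) [hN : H.Normal] (θ : H → ℂ) (hθ : Cfsg.IsIrrCharacter H θ) (hT : ∀ g : G, g ∈ T ↔ ∀ h : H, θ ⟨g * h * g⁻¹, hN.conj_mem h h.2 g⟩ = θ h) (hab : ∀ x ∈ T, ∀ y ∈ T, x * y * x⁻¹ * y⁻¹ ∈ H) : ∃ (e : ℕ) (C : Finset (G → ℂ)), 0 < e ∧ (∀ χ ∈ C, Cfsg.IsIrrCharacter G χ) ∧ e ^ 2 * C.card * Nat.card H = Nat.card T ∧ Cfsg.indFun H θ = (e : ℂ) • ∑ χ ∈ C, χ ∧ ∀ χ ∈ C, χ 1 = (T.index : ℂ) * e * θ 1 := by
  classical
  letI : Fintype T := Fintype.ofFinite T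
  letI : Fintype H := Fintype.ofFinite H
  letI : Fintype (H.subgroupOf T) := Fintype.ofFinite _
  have hθcf := isClassFunction_of_isCharacter (isCharacter_of_isIrrCharacter hθ)
  have hHT : H ≤ T := by
    intro g hg
    rw [hT]
    intro h
    exact hθcf h ⟨g, hg⟩
  obtain ⟨f, hf, hirr, horth, hind⟩ := clifford_corr_aux H T θ hθ hT hHT
  set θ' := subFun H T θ with hθ'def
  have hθ' : Cfsg.IsIrrCharacter (H.subgroupOf T) θ' := isIrrCharacter_subFun hHT hθ
  have hinv' : ∀ (t : T) (n : H.subgroupOf T),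
      θ' ⟨t * n * t⁻¹, (inferInstance : (H.subgroupOf T).Normal).conj_mem (n : T) n.2 t⟩
        = θ' n := by
    intro t n
    exact (hT t).mp t.2 ⟨((n : T) : G), Subgroup.mem_subgroupOf.mp n.2⟩
  have hab' : ∀ x y : T, x * y * x⁻¹ * y⁻¹ ∈ H.subgroupOf T := by
    intro x y
    rw [Subgroup.mem_subgroupOf]
    exact hab x x.2 y y.2
  have hfeq : ∀ ψ : Cfsg.IrrCharacter T,
      Cfsg.classInner (Cfsg.indFun (H.subgroupOf T) θ') (ψ : T → ℂ) = f ψ := by
    intro ψ
    rw [hf]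
    exact classInner_decomposition_left (fun χ : Cfsg.IrrCharacter T => (f χ : ℂ)) ψ
  -- some constituent exists
  have hex : ∃ ψ₀ : Cfsg.IrrCharacter T, f ψ₀ ≠ 0 := by
    by_contra hne
    push Not at hne
    have h0 : Cfsg.indFun (H.subgroupOf T) θ' = 0 := by
      rw [hf]
      apply Finset.sum_eq_zero
      intro ψ _
      rw [hne ψ, Nat.cast_zero, zero_smul]
    have h1 := congrFun h0 1
    rw [indFun_apply_one, Pi.zero_apply] at h1
    rcases mul_eq_zero.mp h1 with h2 | h2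
    · have : (H.subgroupOf T).index ≠ 0 := Subgroup.index_ne_zero_of_finite
      exact this (by exact_mod_cast h2)
    · exact apply_one_ne_zero hθ' h2
  obtain ⟨ψ₀, hψ₀⟩ := hex
  set e := f ψ₀ with hedef
  have hconst : ∀ ψ : Cfsg.IrrCharacter T, f ψ ≠ 0 → f ψ = e := by
    intro ψ hψ
    have h1 : Cfsg.classInner (Cfsg.indFun (H.subgroupOf T) θ') (ψ : T → ℂ) ≠ 0 := by
      rw [hfeq]; exact_mod_cast hψ
    have h2 : Cfsg.classInner (Cfsg.indFun (H.subgroupOf T) θ') (ψ₀ : T → ℂ) ≠ 0 := by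
      rw [hfeq]; exact_mod_cast hψ₀
    have h3 := mult_const_of_abelian_quotient (H.subgroupOf T) θ' hθ' hinv' hab'
      (ψ : T → ℂ) (ψ₀ : T → ℂ) ψ.2 ψ₀.2 h1 h2
    rw [hfeq, hfeq] at h3
    exact_mod_cast h3
  set S : Finset (Cfsg.IrrCharacter T) := Finset.univ.filter (fun ψ => f ψ ≠ 0) with hSdef
  have hSmem : ∀ ψ, ψ ∈ S ↔ f ψ ≠ 0 := by
    intro ψ; simp [hSdef]
  have hinj : Set.InjOn (fun ψ : Cfsg.IrrCharacter T => Cfsg.indFun T (ψ : T → ℂ)) (S : Set _) := by
    intro ψ hψ ψ' hψ' heq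
    simp only at heq
    by_contra hne
    have h1 := horth ψ ψ' ((hSmem ψ).mp hψ) ((hSmem ψ').mp hψ') hne
    rw [← heq, irr_classInner_self (hirr ψ ((hSmem ψ).mp hψ))] at h1
    exact one_ne_zero h1
  refine ⟨e, S.image (fun ψ : Cfsg.IrrCharacter T => Cfsg.indFun T (ψ : T → ℂ)), Nat.pos_of_ne_zero hψ₀,
    ?_, ?_, ?_, ?_⟩
  · intro χ hχ
    obtain ⟨ψ, hψ, rfl⟩ := Finset.mem_image.mp hχ
    exact hirr ψ ((hSmem ψ).mp hψ)
  · -- the counting identity
    rw [Finset.card_image_of_injOn hinj]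
    have h1 := card_mul_classInner_indFun_invariant (H.subgroupOf T) θ' hθ' hinv'
    have h2 : Cfsg.classInner (Cfsg.indFun (H.subgroupOf T) θ') (Cfsg.indFun (H.subgroupOf T) θ')
        = ((∑ ψ : Cfsg.IrrCharacter T, f ψ ^ 2 : ℕ) : ℂ) := by
      rw [hf]
      exact classInner_self_decomposition f
    have h3 : ∑ ψ : Cfsg.IrrCharacter T, f ψ ^ 2 = S.card * e ^ 2 := by
      rw [← Finset.sum_subset (Finset.subset_univ S)]
      · rw [Finset.sum_congr rfl (fun ψ hψ => by rw [hconst ψ ((hSmem ψ).mp hψ)]),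
          Finset.sum_const, smul_eq_mul]
      · intro ψ _ hψ
        have : f ψ = 0 := by
          by_contra h
          exact hψ ((hSmem ψ).mpr h)
        rw [this]; rfl
    rw [h2, h3, Cfsg.Agent.Lib.helper3.IndFunTrans.card_subgroupOf_of_le hHT] at h1
    have h4 : Nat.card H * (S.card * e ^ 2) = Nat.card T := by exact_mod_cast h1
    rw [← h4]; ring
  · rw [hind, ← Finset.sum_subset (Finset.subset_univ S)]
    · rw [Finset.sum_image hinj, Finset.smul_sum]
      apply Finset.sum_congr rfl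
      intro ψ hψ
      rw [hconst ψ ((hSmem ψ).mp hψ)]
    · intro ψ _ hψ
      have : f ψ = 0 := by
        by_contra h
        exact hψ ((hSmem ψ).mpr h)
      rw [this, Nat.cast_zero, zero_smul]
  · intro χ hχ
    obtain ⟨ψ, hψ, rfl⟩ := Finset.mem_image.mp hχ
    rw [indFun_apply_one]
    have hfe : f ψ = e := hconst ψ ((hSmem ψ).mp hψ)
    have h1 := apply_one_of_invariant (H.subgroupOf T) θ' hθ' hinv' (ψ : T → ℂ) ψ.2 e
      (by rw [hfeq, hfe]) hψ₀
    rw [h1]
    have h2 : θ' 1 = θ 1 := rfl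
    rw [h2]; ring

end Cfsg.Agent.S1490
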