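import Cfsg.Statements.S1024
import Cfsg.Agent.Lib.Helper5.ChevTablesB
import Mathlib

set_option autoImplicit false
open Cfsg

namespace Cfsg.Agent.S1024

open Cfsg.Lie Cfsg.Agent.Lib.Helper5.ChevTables
open scoped Matrix

variable {F : Type*} [Field F]

theorem chainCoeff_fst_ne_zero (D : ChevalleyDatum) (r s u : ℕ) (km : ℕ × ℤ)
    (h : km ∈ D.chainCoeff r s u) : km.1 ≠ 0 := by
  unfold ChevalleyDatum.chainCoeff at h
  rw [List.mem_flatMap] at h
  obtain ⟨e, -, he⟩ := h
  rw [List.mem_map] at he
  obtain ⟨q, -, rfl⟩ := he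
  exact Nat.succ_ne_zero _

theorem xMat_zero (D : ChevalleyDatum) (r : Fin D.nroots) : D.xMat F r 0 = 1 := by
  ext row col
  simp only [ChevalleyDatum.xMat, Matrix.of_apply, Matrix.one_apply]
  rcases col with i | s
  · rcases row with i' | u
    · simp only [Sum.inl.injEq]
    · simp
  · by_cases h1 : s = r
    · simp only [if_pos h1]
      rcases row with i' | u
      · simp
      · simp only [Sum.inr.injEq, h1]
    · simp only [if_neg h1]
      by_cases h2 : s.val = D.negIdx.getD r.val 0
      · simp only [if_pos h2]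
        rcases row with i' | u
        · simp
        · simp only [Sum.inr.injEq]
          by_cases h3 : u = s
          · simp [h3]
          · simp [h3]
      · simp only [if_neg h2]
        rcases row with i' | u
        · simp
        · simp only [Sum.inr.injEq]
          have hz : ((D.chainCoeff r.val s.val u.val).map
              fun km => ((km.2 : ℤ) : F) * (0 : F) ^ km.1).sum = 0 := by
            apply List.sum_eq_zero
            intro x hx
            rw [List.mem_map] at hx
            obtain ⟨km, hkm, rfl⟩ := hx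
            rw [zero_pow (chainCoeff_fst_ne_zero D _ _ _ km hkm), mul_zero]
          rw [hz, add_zero]


/-- `x_r(0) = 1`, and `x_r(t) = 1` forces `t = 0`: the map `t ↦ x_r(t)` is injective. -/
theorem result {F : Type*} [Field F] (D : Cfsg.Lie.ChevalleyDatum) (hD : D ∈ [Cfsg.Lie.chevG2, Cfsg.Lie.chevB2, Cfsg.Lie.chevD4, Cfsg.Lie.chevF4, Cfsg.Lie.chevE6, Cfsg.Lie.chevE7, Cfsg.Lie.chevE8]) (r : ℕ) (hr : r < D.nroots) (t : F) :
    D.x F r t = 1 ↔ t = 0 := by
  have hfacts := neg_facts D hD r hr
  obtain ⟨hn1, hn2, hg⟩ := hfacts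
  unfold Cfsg.Lie.ChevalleyDatum.x
  rw [dif_pos hr]
  constructor
  · intro h
    by_contra ht
    have hent : ∀ i : Fin D.rank, (((D.coroot.getD r #[]).getD i.val 0 : ℤ) : F) = 0 := by
      intro i
      have h0 : (1 : Matrix D.Idx D.Idx F) (Sum.inl i) (Sum.inr ⟨D.negIdx.getD r 0, hn1⟩) = 0 :=
        Matrix.one_apply_ne (by simp)
      have h1 : D.xMat F ⟨r, hr⟩ t (Sum.inl i) (Sum.inr ⟨D.negIdx.getD r 0, hn1⟩) = 0 := by
        rw [h, h0]
      have hne : (⟨D.negIdx.getD r 0, hn1⟩ : Fin D.nroots) ≠ ⟨r, hr⟩ := by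
        intro h
        exact hn2 (congrArg Fin.val h)
      simp only [Cfsg.Lie.ChevalleyDatum.xMat, Matrix.of_apply, if_neg hne, if_true] at h1
      rcases mul_eq_zero.1 h1 with h2 | h2
      · exact h2
      · exact absurd h2 ht
    have hdvd : ringChar F ∣ corootGcd D r := by
      apply dvd_corootGcd
      intro i hi
      exact (CharP.intCast_eq_zero_iff F (ringChar F) _).1 (hent ⟨i, hi⟩)
    rw [hg, Nat.dvd_one] at hdvd
    exact CharP.ringChar_ne_one hdvd
  · rintro rfl
    exact xMat_zero D ⟨r, hr⟩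

end Cfsg.Agent.S1024
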