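import Cfsg.Statements.S1059
import Cfsg.Agent.Lib.Helper5.Chev.PcG2
import Cfsg.Agent.Lib.Helper5.Chev.HCardAll
import Cfsg.Agent.Lib.Helper5.Chev.HsG2

open Cfsg.Lie Cfsg.Agent.Lib.Helper5.Chev

set_option autoImplicit false
open Cfsg

namespace Cfsg.Agent.S1059

/-- `|G₂(q)| = q⁶ (q² - 1)(q⁶ - 1)`. -/
theorem result {F : Type*} [Field F] [Fintype F] {q : ℕ} (hq : Fintype.card F = q) : Nat.card ↥(Cfsg.Lie.chevG2.group F) = q ^ 6 * (q ^ 2 - 1) * (q ^ 6 - 1) := by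
  obtain ⟨h1, h2⟩ := cox_of_check DataG2.fd BsG2.Bs CxG2.mLL CxG2.cox
  have hN : Nat.card F = q := by rw [Nat.card_eq_fintype_card, hq]
  have hH : 1 * Nat.card (chevG2.diagonalSubgroup F) = (Nat.card F - 1) ^ 2 := by
    rw [one_mul, card_diagonal_G2, Nat.card_eq_fintype_card]
  have h := card_group_final (F := F) (D := chevG2) (by simp) DataG2.agrees BsG2.Bs CxG2.mLL
    HsG2.reflBs' h1 h2 HsG2.gH HsG2.baseH _ HsG2.rbH HsG2.base_simple PcG2.ch PcG2.ok PcG2.hall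
    (1) 2 hH [2, 6] (by decide) PcG2.hpoly
  rw [hN] at h
  have e : chevG2.nroots / 2 = 6 := by decide
  rw [e] at h
  simp only [List.map_cons, List.map_nil, List.prod_cons, List.prod_nil, mul_one, one_mul] at h
  rw [h]
  ring

end Cfsg.Agent.S1059
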