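import Cfsg.Statements.S1254
import Mathlib
import Cfsg.Agent.Lib.Lead.DihShape
import Cfsg.Agent.Lib.Lead.NormalPComplement

set_option autoImplicit false
open Cfsg

namespace Cfsg.Agent.S1254

open scoped Pointwise
open Cfsg.Agent.Lib.Lead

theorem isKleinFour_of {Y : Type*} [Group Y] (Q : Subgroup Y) (hcard : Nat.card ↥Q = 4)
    (hexp : ∀ q ∈ Q, q * q = 1) : IsKleinFour ↥Q := by
  haveI : Finite ↥Q := Nat.finite_of_card_ne_zero (by rw [hcard]; norm_num)
  haveI : Nontrivial ↥Q := by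
    rw [← Finite.one_lt_card_iff_nontrivial, hcard]; norm_num
  refine ⟨hcard, ?_⟩
  rw [Monoid.exponent_eq_prime_iff Nat.prime_two]
  intro q hq
  apply orderOf_eq_prime
  · rw [pow_two]
    exact Subtype.ext (hexp q.1 q.2)
  · exact hq

/-- If `N(Q) = C(Q) (S ∩ N(Q))` for a `2`-group `S`, odd-order elements of `N(Q)` centralize `Q`. -/
theorem centralizes_of_factor {Y : Type*} [Group Y] [Finite Y] (S Q : Subgroup Y)
    (hS : IsPGroup 2 ↥S)
    (h : Subgroup.normalizer (Q : Set Y) =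
      Subgroup.centralizer (Q : Set Y) ⊔ (S ⊓ Subgroup.normalizer (Q : Set Y)))
    (g : Y) (hg : g ∈ Subgroup.normalizer (Q : Set Y)) (hodd : Nat.Coprime (orderOf g) 2) :
    g ∈ Subgroup.centralizer (Q : Set Y) := by
  set N := Subgroup.normalizer (Q : Set Y) with hN
  set φ := Q.normalizerMonoidHom with hφ
  set I : Subgroup (MulAut ↥Q) := ((S ⊓ N).subgroupOf N).map φ with hI
  have hI2 : IsPGroup 2 ↥I := by
    have h1 : IsPGroup 2 ↥(S ⊓ N : Subgroup Y) := hS.to_le inf_le_left
    have h2 : IsPGroup 2 ↥((S ⊓ N).subgroupOf N) :=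
      h1.of_equiv (Subgroup.subgroupOfEquivOfLe (inf_le_right : S ⊓ N ≤ N)).symm
    exact h2.map φ
  set K : Subgroup ↥N := I.comap φ with hK
  have hle : Subgroup.centralizer (Q : Set Y) ⊔ (S ⊓ N) ≤ K.map N.subtype := by
    apply sup_le
    · intro c hc
      have hcN : c ∈ N := Subgroup.centralizer_le_normalizer (Q : Set Y) hc
      refine ⟨⟨c, hcN⟩, ?_, rfl⟩
      show φ ⟨c, hcN⟩ ∈ I
      have : (⟨c, hcN⟩ : ↥N) ∈ φ.ker := by
        rw [hφ, Subgroup.normalizerMonoidHom_ker, Subgroup.mem_subgroupOf]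
        exact hc
      rw [MonoidHom.mem_ker] at this
      rw [this]; exact Subgroup.one_mem _
    · intro s hs
      refine ⟨⟨s, hs.2⟩, ?_, rfl⟩
      show φ ⟨s, hs.2⟩ ∈ I
      exact ⟨⟨s, hs.2⟩, by rw [SetLike.mem_coe, Subgroup.mem_subgroupOf]; exact hs, rfl⟩
  rw [← h] at hle
  obtain ⟨k, hkK, hkg⟩ := hle hg
  have hk : k = ⟨g, hg⟩ := Subtype.ext hkg
  rw [hk] at hkK
  have hφI : φ ⟨g, hg⟩ ∈ I := hkK
  have h1 : orderOf (φ ⟨g, hg⟩) ∣ orderOf g := by
    have := orderOf_map_dvd φ (⟨g, hg⟩ : ↥N)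
    rwa [Subgroup.orderOf_mk] at this
  obtain ⟨j, hj⟩ := (IsPGroup.iff_orderOf.mp hI2) ⟨φ ⟨g, hg⟩, hφI⟩
  rw [Subgroup.orderOf_mk] at hj
  have h3 : orderOf (φ ⟨g, hg⟩) = 1 := by
    have hcop : Nat.Coprime (orderOf (φ ⟨g, hg⟩)) (orderOf (φ ⟨g, hg⟩)) := by
      apply Nat.Coprime.coprime_dvd_left h1
      rw [hj]
      exact Nat.Coprime.pow_right _ hodd
    exact (Nat.coprime_self _).mp hcop
  have h4 : φ ⟨g, hg⟩ = 1 := orderOf_eq_one_iff.mp h3
  have h5 : (⟨g, hg⟩ : ↥N) ∈ φ.ker := h4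
  rw [hφ, Subgroup.normalizerMonoidHom_ker, Subgroup.mem_subgroupOf] at h5
  exact h5

/-- Let X be a finite group whose Sylow 2-subgroup S is dihedral (of order at least 4). Then X has a normal 2-complement if and only if, for every Klein four-subgroup U ≤ S, the normalizer N_X(U) is generated by C_X(U) and N_S(U). -/
theorem result {X : Type*} [Group X] [Finite X] (S : Sylow 2 X) (m : ℕ) (hm : 2 ≤ m) (eS : (S : Subgroup X) ≃* DihedralGroup m) : Cfsg.HasNormalPComplement 2 X ↔ ∀ U : Subgroup X, U ≤ S → IsKleinFour U → Subgroup.normalizer (U : Set X) = Subgroup.centralizer (U : Set X) ⊔ ((S : Subgroup X) ⊓ Subgroup.normalizer (U : Set X)) := by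
  classical
  haveI : Fact (Nat.Prime 2) := ⟨Nat.prime_two⟩
  constructor
  · intro hnc U hUS _
    obtain ⟨N, hN, hc, k, hk⟩ := NormalPComplement.exists_normal_of_hasNormalPComplement hnc
    obtain ⟨P, N', hN', hcompl⟩ := hnc
    -- `N` is a complement to `S`
    have hcardS : Nat.card ↥(S : Subgroup X) = 2 ^ k := by
      obtain ⟨a, ha⟩ := S.2.exists_card_eq
      have h1 : Nat.card ↥N * N.index = Nat.card X := N.card_mul_index
      have h2 : Nat.card ↥(S : Subgroup X) * (S : Subgroup X).index = Nat.card X :=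
        (S : Subgroup X).card_mul_index
      have h3 : ¬ 2 ∣ (S : Subgroup X).index := S.not_dvd_index
      rw [ha] at h2 ⊢
      rw [hk] at h1
      -- 2-adic valuation
      have hNodd : ¬ 2 ∣ Nat.card ↥N := by
        intro hd
        have := Nat.Coprime.eq_one_of_dvd hc.symm hd
        norm_num at this
      have e : Nat.card ↥N * 2 ^ k = 2 ^ a * (S : Subgroup X).index := by rw [h1, h2]
      have hka : k ≤ a := by
        have : 2 ^ k ∣ 2 ^ a * (S : Subgroup X).index := ⟨Nat.card ↥N, by rw [← e]; ring⟩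
        have h4 : Nat.Coprime (2 ^ k) (S : Subgroup X).index :=
          Nat.Coprime.pow_left _ ((Nat.Prime.coprime_iff_not_dvd Nat.prime_two).mpr h3)
        have h5 := h4.dvd_of_dvd_mul_right this
        exact (Nat.pow_dvd_pow_iff_le_right (by norm_num)).mp h5
      have hak : a ≤ k := by
        have : 2 ^ a ∣ Nat.card ↥N * 2 ^ k := ⟨(S : Subgroup X).index, e⟩
        have h4 : Nat.Coprime (2 ^ a) (Nat.card ↥N) :=
          Nat.Coprime.pow_left _ ((Nat.Prime.coprime_iff_not_dvd Nat.prime_two).mpr hNodd)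
        have h5 := h4.dvd_of_dvd_mul_left this
        exact (Nat.pow_dvd_pow_iff_le_right (by norm_num)).mp h5
      rw [le_antisymm hak hka]
    have hNS : N.IsComplement' (S : Subgroup X) := by
      apply Subgroup.isComplement'_of_coprime
      · rw [hcardS, ← hk]; exact N.card_mul_index
      · rw [hcardS]; exact Nat.Coprime.pow_right _ hc
    have hdisj : ∀ y, y ∈ N → y ∈ (S : Subgroup X) → y = 1 := by
      intro y hyN hyS
      have h1 : orderOf y ∣ Nat.card ↥N := by
        have := orderOf_dvd_natCard (⟨y, hyN⟩ : ↥N)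
        rwa [Subgroup.orderOf_mk] at this
      have h2 : orderOf y ∣ 2 ^ k := by
        have := orderOf_dvd_natCard (⟨y, hyS⟩ : ↥(S : Subgroup X))
        rwa [Subgroup.orderOf_mk, hcardS] at this
      have h3 : Nat.Coprime (Nat.card ↥N) (2 ^ k) := Nat.Coprime.pow_right _ hc
      have h4 : orderOf y = 1 := Nat.eq_one_of_dvd_coprimes h3 h1 h2
      exact orderOf_eq_one_iff.mp h4
    apply le_antisymm
    · intro x hx
      obtain ⟨⟨⟨n, hn⟩, ⟨s, hs⟩⟩, hns, -⟩ := hNS.existsUnique x
      have hns' : n * s = x := hns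
      have hconjU : ∀ u ∈ U, x * u * x⁻¹ ∈ U := fun u hu =>
        (Subgroup.mem_normalizer_iff.mp hx u).mp hu
      have key : ∀ u ∈ U, n * (s * u * s⁻¹) * n⁻¹ = s * u * s⁻¹ ∧ s * u * s⁻¹ ∈ U := by
        intro u hu
        have h1 : n * (s * u * s⁻¹) * n⁻¹ ∈ U := by
          have := hconjU u hu
          rw [← hns'] at this
          have e : n * s * u * (n * s)⁻¹ = n * (s * u * s⁻¹) * n⁻¹ := by group
          rwa [e] at this
        have hu' : s * u * s⁻¹ ∈ (S : Subgroup X) :=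
          Subgroup.mul_mem _ (Subgroup.mul_mem _ hs (hUS hu)) (Subgroup.inv_mem _ hs)
        have h2 : n * (s * u * s⁻¹) * n⁻¹ * (s * u * s⁻¹)⁻¹ ∈ N := by
          have : n * (s * u * s⁻¹) * n⁻¹ * (s * u * s⁻¹)⁻¹ =
              n * ((s * u * s⁻¹) * n⁻¹ * (s * u * s⁻¹)⁻¹) := by group
          rw [this]
          exact N.mul_mem hn (hN.conj_mem _ (N.inv_mem hn) _)
        have h3 : n * (s * u * s⁻¹) * n⁻¹ * (s * u * s⁻¹)⁻¹ ∈ (S : Subgroup X) :=
          Subgroup.mul_mem _ (hUS h1) (Subgroup.inv_mem _ hu')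
        have h4 := hdisj _ h2 h3
        have h5 : n * (s * u * s⁻¹) * n⁻¹ = s * u * s⁻¹ := mul_inv_eq_one.mp h4
        exact ⟨h5, h5 ▸ h1⟩
      have hsN : s ∈ Subgroup.normalizer (U : Set X) :=
        Cfsg.Agent.Lib.Lead.Conj.mem_normalizer_of_conj_mem U s (fun u hu => (key u hu).2)
      have hnC : n ∈ Subgroup.centralizer (U : Set X) := by
        rw [Subgroup.mem_centralizer_iff]
        intro u hu
        -- u = s * u' * s⁻¹ for u' = s⁻¹ u s ∈ U
        have hu' : s⁻¹ * u * s ∈ U := by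
          have := (Subgroup.mem_normalizer_iff.mp (Subgroup.inv_mem _ hsN) u).mp hu
          simpa using this
        have := (key _ hu').1
        have e : s * (s⁻¹ * u * s) * s⁻¹ = u := by group
        rw [e] at this
        calc u * n = (n * u * n⁻¹) * n := by rw [this]
          _ = n * u := by group
      rw [← hns']
      exact Subgroup.mul_mem _ ((le_sup_left : Subgroup.centralizer (U : Set X) ≤ _) hnC)
        ((le_sup_right : (S : Subgroup X) ⊓ Subgroup.normalizer (U : Set X) ≤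
          Subgroup.centralizer (U : Set X) ⊔ _) ⟨hs, hsN⟩)
    · exact sup_le (Subgroup.centralizer_le_normalizer _) inf_le_right
  · intro h
    obtain ⟨R₀, hshape⟩ := DihShape.shape_of_injective (S : Subgroup X) eS.toMonoidHom eS.injective
    apply NormalPComplement.hasNormalPComplement_of_p'_centralize S
    intro Q hQS g hg hodd
    rcases DihShape.main hshape S.2 Q hQS g hg hodd with h' | ⟨hcard, hexp⟩
    · exact h'
    · have hK := isKleinFour_of Q hcard hexp
      exact centralizes_of_factor (S : Subgroup X) Q S.2 (h Q hQS hK) g hg hodd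

end Cfsg.Agent.S1254
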