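import Mathlib
import Cfsg.Statements.S0254
import Cfsg.Agent.Lib.Helper8.AltPresentation
import Cfsg.Agent.Lib.Helper8.F9
import Cfsg.Agent.S0243

set_option autoImplicit false
open Cfsg

namespace Cfsg.Agent.S0254

open Matrix Cfsg.Agent.Lib.Helper8

/-- the four Carmichael generators of `A_6` inside `SL_2(9)` (as raw matrices) -/
def rawList : List (Matrix (Fin 2) (Fin 2) F9) :=
  [!![⟨0,0⟩, ⟨0,1⟩; ⟨0,1⟩, ⟨1,0⟩],
   !![⟨0,0⟩, ⟨0,1⟩; ⟨0,1⟩, ⟨0,0⟩],
   !![⟨1,0⟩, ⟨1,1⟩; ⟨2,1⟩, ⟨2,0⟩],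
   !![⟨0,0⟩, ⟨1,0⟩; ⟨2,0⟩, ⟨0,0⟩]]

def raw (i : ℕ) : Matrix (Fin 2) (Fin 2) F9 := rawList.getD i 1

theorem raw_det (i : ℕ) : (raw i).det = 1 := by
  by_cases h : i < 4
  · interval_cases i <;> decide +kernel
  · have : raw i = 1 := by
      unfold raw
      rw [List.getD_eq_default]
      simp [rawList]; omega
    rw [this, det_one]

def M (i : ℕ) : SpecialLinearGroup (Fin 2) F9 := ⟨raw i, raw_det i⟩

/-- a matrix equal to `±1` -/
def IsPM (A : Matrix (Fin 2) (Fin 2) F9) : Prop := A = 1 ∨ A = -1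

instance instDecIsPM (A : Matrix (Fin 2) (Fin 2) F9) : Decidable (IsPM A) := by
  unfold IsPM; infer_instance

theorem mem_center_of_isPM (A : SpecialLinearGroup (Fin 2) F9) (h : IsPM A.1) :
    A ∈ Subgroup.center (SpecialLinearGroup (Fin 2) F9) := by
  rw [Matrix.SpecialLinearGroup.mem_center_iff]
  rcases h with h | h
  · exact ⟨1, one_pow _, by rw [map_one]; exact h.symm⟩
  · refine ⟨-1, by decide +kernel, ?_⟩
    rw [map_neg, map_one]; exact h.symm

theorem M0 : IsPM (M 0 ^ 3).1 := by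
  simp only [SpecialLinearGroup.coe_pow, M]
  decide +kernel

theorem M1 (i : ℕ) (h1 : 1 ≤ i) (h2 : i ≤ 3) : IsPM (M i ^ 2).1 := by
  simp only [SpecialLinearGroup.coe_pow, M]
  interval_cases i <;> decide +kernel

theorem M2 (i : ℕ) (h2 : i + 1 ≤ 3) : IsPM ((M i * M (i + 1)) ^ 3).1 := by
  have hi : i ≤ 2 := by omega
  simp only [SpecialLinearGroup.coe_pow, SpecialLinearGroup.coe_mul, M]
  interval_cases i <;> decide +kernel

theorem M3 (i j : ℕ) (h1 : i + 1 < j) (h2 : j ≤ 3) : IsPM ((M i * M j) ^ 2).1 := by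
  simp only [SpecialLinearGroup.coe_pow, SpecialLinearGroup.coe_mul, M]
  have hi : i ≤ 1 := by omega
  interval_cases i <;> interval_cases j <;> decide +kernel

/-- PSL_2(9) is isomorphic to A_6. -/
theorem result {F : Type*} [Field F] [Fintype F] (hF : Fintype.card F = 9) : Nonempty (Matrix.ProjectiveSpecialLinearGroup (Fin 2) F ≃* alternatingGroup (Fin 6)) := by
  have e : F9 ≃+* F :=
    FiniteField.ringEquivOfCardEq (K := F9) (K' := F) (by rw [hF, F9.card])
  let ψ : SpecialLinearGroup (Fin 2) F9 →* Matrix.ProjectiveSpecialLinearGroup (Fin 2) F :=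
    (QuotientGroup.mk' _).comp (SpecialLinearGroup.map e.toRingHom)
  have hψ : ∀ Z : SpecialLinearGroup (Fin 2) F9, IsPM Z.1 → ψ Z = 1 := by
    intro Z hZ
    have h1 := mem_center_of_isPM Z hZ
    rw [Matrix.SpecialLinearGroup.mem_center_iff] at h1
    obtain ⟨r, hr1, hr2⟩ := h1
    show (QuotientGroup.mk' _) (SpecialLinearGroup.map e.toRingHom Z) = 1
    rw [QuotientGroup.mk'_apply, QuotientGroup.eq_one_iff,
      Matrix.SpecialLinearGroup.mem_center_iff]
    refine ⟨e r, by rw [← map_pow, hr1, map_one], ?_⟩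
    rw [SpecialLinearGroup.map_apply_coe, RingHom.mapMatrix_apply, ← hr2]
    ext a b
    simp [Matrix.scalar_apply, Matrix.diagonal_apply, Matrix.map_apply]
    split_ifs <;> simp
  have hcard : 2 * Nat.card (Matrix.ProjectiveSpecialLinearGroup (Fin 2) F) = (3 + 3).factorial := by
    have := Cfsg.Agent.S0243.result hF 2 (by norm_num)
    simp [Fin.prod_univ_two] at this
    have h6 : (3 + 3).factorial = 720 := by decide
    rw [h6]
    omega
  refine Cfsg.Agent.Lib.Helper8.AltPresentation.iso_of_gens 3 (by norm_num) (fun i => ψ (M i))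
    ?_ ?_ ?_ ?_ ?_ hcard
  · rw [← map_pow]; exact hψ _ M0
  · intro i h1 h2
    rw [← map_pow]; exact hψ _ (M1 i h1 h2)
  · intro i h2
    rw [← map_mul, ← map_pow]; exact hψ _ (M2 i h2)
  · intro i j h1 h2
    rw [← map_mul, ← map_pow]; exact hψ _ (M3 i j h1 h2)
  · intro h
    have h' : SpecialLinearGroup.map e.toRingHom (M 0) ∈
        Subgroup.center (SpecialLinearGroup (Fin 2) F) := by
      have : ψ (M 0) = 1 := h
      exact (QuotientGroup.eq_one_iff _).1 this
    rw [Matrix.SpecialLinearGroup.mem_center_iff] at h'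
    obtain ⟨r, -, hr⟩ := h'
    have h01 := congrFun (congrFun hr 0) 1
    rw [SpecialLinearGroup.map_apply_coe, RingHom.mapMatrix_apply] at h01
    simp [M, raw, rawList] at h01
    have : (⟨0, 1⟩ : F9) = 0 := by
      apply e.injective
      rw [map_zero]; exact h01.symm
    revert this
    decide

end Cfsg.Agent.S0254
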