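import Cfsg.Statements.S0741
import Cfsg.Agent.Lib.Helper5.Zassenhaus
import Mathlib

set_option autoImplicit false
open Cfsg

namespace Cfsg.Agent.S0741

/-- If the two-point stabilisers of a finite Zassenhaus group of degree `n + 1` have even order `d`, then `2d ≥ n - 1`. -/
theorem result {G Ω : Type*} [Group G] [Finite G] [MulAction G Ω] [Fintype Ω] (hZ : Cfsg.IsZassenhausGroup G Ω) {a b : Ω} (hab : a ≠ b) (heven : Even (Nat.card ↥(MulAction.stabilizer G a ⊓ MulAction.stabilizer G b))) : Fintype.card Ω - 2 ≤ 2 * Nat.card ↥(MulAction.stabilizer G a ⊓ MulAction.stabilizer G b) := by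
  classical
  have h := Cfsg.Agent.Lib.Helper5.Zass.hyp_of_zassenhaus hZ
  have : Fintype G := Fintype.ofFinite G
  set H : Subgroup G := MulAction.stabilizer G a ⊓ MulAction.stabilizer G b with hH
  have hHmem : ∀ x : G, x ∈ H ↔ x • a = a ∧ x • b = b := fun x => by
    rw [hH, Subgroup.mem_inf, MulAction.mem_stabilizer_iff, MulAction.mem_stabilizer_iff]
  -- an involution in `H`
  have : Fact (Nat.Prime 2) := ⟨Nat.prime_two⟩
  obtain ⟨j', hj'⟩ := exists_prime_orderOf_dvd_card' 2 heven.two_dvd
  have hj2 : (j' : G) * (j' : G) = 1 := by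
    have := pow_orderOf_eq_one j'
    rw [hj', pow_two] at this
    exact congrArg Subtype.val this
  have hj1 : (j' : G) ≠ 1 := by
    intro h1
    have : j' = 1 := Subtype.ext h1
    rw [this, orderOf_one] at hj'
    omega
  have hjab := (hHmem _).1 j'.2
  -- involutions fixing any two given points
  have hinv : ∀ c c' : Ω, ∃ τ : G, c ≠ c' → τ ≠ 1 ∧ τ * τ = 1 ∧ τ • c = c ∧ τ • c' = c' := by
    intro c c'
    by_cases hcc : c = c'
    · exact ⟨1, fun h' => absurd hcc h'⟩
    · obtain ⟨x, hxa, hxb⟩ := h.h2 hab hcc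
      refine ⟨x * j' * x⁻¹, fun _ => ⟨?_, ?_, ?_, ?_⟩⟩
      · intro h'
        apply hj1
        have : (j' : G) = x⁻¹ * (x * j' * x⁻¹) * x := by group
        rw [this, h']
        group
      · have : x * (j' : G) * x⁻¹ * (x * j' * x⁻¹) = x * ((j' : G) * j') * x⁻¹ := by group
        rw [this, hj2]
        group
      · rw [mul_smul, mul_smul, ← hxa, inv_smul_smul, hjab.1]
      · rw [mul_smul, mul_smul, ← hxb, inv_smul_smul, hjab.2]
  choose τf hτf using hinv
  let I : Finset G := Finset.univ.filter (fun τ => τ ≠ 1 ∧ τ * τ = 1 ∧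
    ∃ c c' : Ω, c ≠ c' ∧ τ • c = c ∧ τ • c' = c')
  let Pairs : Finset (Ω × Ω) := (Finset.univ : Finset Ω).offDiag
  have hPairs : Pairs.card = Fintype.card Ω * Fintype.card Ω - Fintype.card Ω := by
    rw [Finset.offDiag_card, Finset.card_univ]
  have hmemPairs : ∀ p : Ω × Ω, p ∈ Pairs ↔ p.1 ≠ p.2 := fun p => by
    simp [Pairs, Finset.mem_offDiag]
  -- fixed points of an element of `I`
  have hfixI : ∀ τ ∈ I, ∃ c c' : Ω, c ≠ c' ∧ ∀ e : Ω, τ • e = e ↔ (e = c ∨ e = c') := by
    intro τ hτ
    rw [Finset.mem_filter] at hτ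
    obtain ⟨-, hτ1, -, c, c', hcc, hc, hc'⟩ := hτ
    refine ⟨c, c', hcc, fun e => ⟨fun he => ?_, ?_⟩⟩
    · by_contra hcon
      push Not at hcon
      exact hτ1 (h.h3 τ c c' e hcc (Ne.symm hcon.2) (Ne.symm hcon.1) hc hc' he)
    · rintro (rfl | rfl)
      · exact hc
      · exact hc'
  -- step 3: lower bound on `I`
  have step3 : Pairs.card ≤ 2 * I.card := by
    apply Finset.card_le_mul_card_image_of_maps_to (f := fun p : Ω × Ω => τf p.1 p.2)
    · intro p hp
      rw [hmemPairs] at hp
      obtain ⟨h1, h2, h3, h4⟩ := hτf p.1 p.2 hp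
      rw [Finset.mem_filter]
      exact ⟨Finset.mem_univ _, h1, h2, p.1, p.2, hp, h3, h4⟩
    · intro τ hτ
      obtain ⟨c, c', hcc, hfix⟩ := hfixI τ hτ
      have hsub : (Pairs.filter fun p => τf p.1 p.2 = τ) ⊆ {(c, c'), (c', c)} := by
        intro p hp
        rw [Finset.mem_filter, hmemPairs] at hp
        obtain ⟨hp1, hp2⟩ := hp
        obtain ⟨-, -, h3, h4⟩ := hτf p.1 p.2 hp1
        rw [hp2] at h3 h4
        rw [Finset.mem_insert, Finset.mem_singleton]
        rcases (hfix p.1).1 h3 with e1 | e1 <;> rcases (hfix p.2).1 h4 with e2 | e2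
        · exact absurd (e1.trans e2.symm) hp1
        · left
          exact Prod.ext e1 e2
        · right
          exact Prod.ext e1 e2
        · exact absurd (e1.trans e2.symm) hp1
      calc (Pairs.filter fun p => τf p.1 p.2 = τ).card ≤ ({(c, c'), (c', c)} : Finset (Ω × Ω)).card :=
            Finset.card_le_card hsub
        _ ≤ 2 := Finset.card_le_two
  -- step 4: the incidence count
  let P : Finset (Σ _ : G, Ω) := I.sigma (fun τ => Finset.univ.filter (fun c : Ω => τ • c ≠ c))
  have hmoved : ∀ τ ∈ I, (Finset.univ.filter (fun c : Ω => τ • c ≠ c)).card = Fintype.card Ω - 2 := by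
    intro τ hτ
    obtain ⟨c, c', hcc, hfix⟩ := hfixI τ hτ
    have e : Finset.univ.filter (fun e : Ω => τ • e ≠ e) = Finset.univ \ {c, c'} := by
      ext e
      simp only [Finset.mem_filter, Finset.mem_univ, true_and, Finset.mem_sdiff, Finset.mem_insert,
        Finset.mem_singleton]
      rw [not_iff_not]
      exact hfix e
    rw [e, Finset.card_sdiff_of_subset (Finset.subset_univ _), Finset.card_univ, Finset.card_pair hcc]
  have hmemP : ∀ x : (Σ _ : G, Ω), x ∈ P ↔ x.1 ∈ I ∧ x.1 • x.2 ≠ x.2 := fun x => by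
    simp [P]
  have hP1 : P.card = I.card * (Fintype.card Ω - 2) := by
    rw [Finset.card_sigma, Finset.sum_congr rfl hmoved, Finset.sum_const, smul_eq_mul]
  have hcoset : ∀ c c' : Ω, c ≠ c' →
      (Finset.univ.filter (fun g : G => g • c = c' ∧ g • c' = c)).card ≤ Nat.card H := by
    intro c c' hcc
    by_cases hne : (Finset.univ.filter (fun g : G => g • c = c' ∧ g • c' = c)).Nonempty
    · obtain ⟨g0, hg0⟩ := hne
      rw [Finset.mem_filter] at hg0
      obtain ⟨x, hxa, hxb⟩ := h.h2 hcc hab
      have hg0i1 : g0⁻¹ • c' = c := by rw [inv_smul_eq_iff, hg0.2.1]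
      have hg0i2 : g0⁻¹ • c = c' := by rw [inv_smul_eq_iff, hg0.2.2]
      have hxi1 : x⁻¹ • a = c := by rw [inv_smul_eq_iff, hxa]
      have hxi2 : x⁻¹ • b = c' := by rw [inv_smul_eq_iff, hxb]
      rw [Nat.card_eq_fintype_card, ← Finset.card_univ]
      apply Finset.card_le_card_of_injOn (fun g => if hg : g • c = c' ∧ g • c' = c then
        (⟨x * (g0⁻¹ * g) * x⁻¹, by
          rw [hHmem]
          constructor
          · rw [mul_smul, mul_smul, mul_smul, hxi1, hg.1, hg0i1, hxa]
          · rw [mul_smul, mul_smul, mul_smul, hxi2, hg.2, hg0i2, hxb]⟩ : H) else 1)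
      · intro g _
        exact Finset.mem_univ _
      · intro g hg g' hg' hgg
        rw [Finset.mem_coe, Finset.mem_filter] at hg hg'
        simp only [hg.2, hg'.2, and_self, dite_true] at hgg
        have := congrArg Subtype.val hgg
        simp only at this
        have h2 : g0⁻¹ * g = g0⁻¹ * g' := mul_left_cancel (mul_right_cancel this)
        exact mul_left_cancel h2
    · rw [Finset.not_nonempty_iff_eq_empty.1 hne, Finset.card_empty]
      exact Nat.zero_le _
  have hP2 : P.card ≤ Pairs.card * Nat.card H := by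
    rw [Finset.card_eq_sum_card_fiberwise (f := fun x : (Σ _ : G, Ω) => (x.2, x.1 • x.2)) (t := Pairs)]
    · calc ∑ p ∈ Pairs, (P.filter fun x => (x.2, x.1 • x.2) = p).card
          ≤ ∑ _p ∈ Pairs, Nat.card H := by
            apply Finset.sum_le_sum
            intro p hp
            rw [hmemPairs] at hp
            refine le_trans ?_ (hcoset p.1 p.2 hp)
            apply Finset.card_le_card_of_injOn (fun x => x.1)
            · intro x hx
              rw [Finset.mem_coe, Finset.mem_filter, hmemP] at hx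
              obtain ⟨⟨hxI, -⟩, hxp⟩ := hx
              rw [Finset.mem_coe, Finset.mem_filter]
              refine ⟨Finset.mem_univ _, ?_⟩
              have h1 : x.2 = p.1 := congrArg Prod.fst hxp
              have h2 : x.1 • x.2 = p.2 := congrArg Prod.snd hxp
              rw [← h1, ← h2]
              refine ⟨rfl, ?_⟩
              rw [← mul_smul]
              rw [Finset.mem_filter] at hxI
              rw [hxI.2.2.1, one_smul]
            · intro x hx y hy hxy
              rw [Finset.mem_coe, Finset.mem_filter] at hx hy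
              have h1 : x.2 = y.2 := (congrArg Prod.fst hx.2).trans (congrArg Prod.fst hy.2).symm
              exact Sigma.ext hxy (heq_of_eq h1)
        _ = Pairs.card * Nat.card H := by rw [Finset.sum_const, smul_eq_mul]
    · intro x hx
      rw [Finset.mem_coe, hmemP] at hx
      rw [Finset.mem_coe, hmemPairs]
      exact fun h' => hx.2 h'.symm
  -- step 5: arithmetic
  have hn2 : 2 ≤ Fintype.card Ω := by
    rw [← Finset.card_univ]
    calc 2 = ({a, b} : Finset Ω).card := (Finset.card_pair hab).symm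
      _ ≤ Finset.univ.card := Finset.card_le_card (Finset.subset_univ _)
  have hpos : 0 < Pairs.card := by
    rw [hPairs]
    have : Fintype.card Ω * 2 ≤ Fintype.card Ω * Fintype.card Ω := Nat.mul_le_mul_left _ hn2
    omega
  have final : Pairs.card * (Fintype.card Ω - 2) ≤ Pairs.card * (2 * Nat.card H) := by
    calc Pairs.card * (Fintype.card Ω - 2) ≤ 2 * I.card * (Fintype.card Ω - 2) :=
          Nat.mul_le_mul_right _ step3
      _ = 2 * P.card := by rw [hP1]; ring
      _ ≤ 2 * (Pairs.card * Nat.card H) := Nat.mul_le_mul_left _ hP2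
      _ = Pairs.card * (2 * Nat.card H) := by ring
  exact Nat.le_of_mul_le_mul_left final hpos

end Cfsg.Agent.S0741
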