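import Cfsg.Statements.S0742
import Cfsg.Agent.Lib.Helper5.Zass3.Data
import Cfsg.Agent.Lib.Helper5.Zass3.Model

set_option autoImplicit false
open Cfsg

namespace Cfsg.Agent.S0742

/-- A finite Zassenhaus group of degree `n + 1` with two-point stabilisers of even order `d` satisfying `2d ≤ n - 1` has `n = p^f` for an odd prime `p` and is isomorphic to `PSL(2, p^f)`. -/
theorem result {G Ω : Type*} [Group G] [Finite G] [MulAction G Ω] [Fintype Ω] (hZ : Cfsg.IsZassenhausGroup G Ω) {a b : Ω} (hab : a ≠ b) (heven : Even (Nat.card ↥(MulAction.stabilizer G a ⊓ MulAction.stabilizer G b))) (hd : 2 * Nat.card ↥(MulAction.stabilizer G a ⊓ MulAction.stabilizer G b) ≤ Fintype.card Ω - 2) : ∃ (p f : ℕ) (K : Type) (_ : Field K) (_ : Fintype K), p.Prime ∧ p ≠ 2 ∧ Fintype.card K = p ^ f ∧ Fintype.card Ω = p ^ f + 1 ∧ Nonempty (G ≃* Matrix.ProjectiveSpecialLinearGroup (Fin 2) K) := by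
  classical
  obtain ⟨p, f, F, instF, instFt, pt, tr, t, hp, hp2, hcardF, hcardΩ, hpt, htr_inf, htr, haff, hmul,
    ht_inf, ht_0, hswap⟩ := Cfsg.Agent.Lib.Helper5.Zass3.exists_model hZ hab heven hd
  have := hZ.1
  have h2 : (2 : F) ≠ 0 := by
    apply Ring.two_ne_zero
    intro hc
    have h3 := FiniteField.even_card_iff_char_two.1 hc
    rw [hcardF] at h3
    have h4 : 2 ∣ p ^ f := Nat.dvd_of_mod_eq_zero h3
    have h5 := (Nat.prime_dvd_prime_iff_eq Nat.prime_two hp).1 (Nat.prime_two.dvd_of_dvd_pow h4)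
    exact hp2 h5.symm
  exact ⟨p, f, F, instF, instFt, hp, hp2, hcardF, hcardΩ,
    Cfsg.Agent.Lib.Helper5.Zass3.iso_of_model h2 pt hpt tr t htr_inf htr haff hmul ht_inf ht_0 hswap⟩

end Cfsg.Agent.S0742
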