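import Cfsg.Statements.S0499
import Mathlib
import Cfsg.Agent.Lib.Lead.NormalPComplement
import Cfsg.Agent.Lib.Lead.ConjAut

set_option autoImplicit false
open Cfsg

namespace Cfsg.Agent.S0499

open Cfsg.Agent.Lib.Lead.ConjAut Cfsg.Agent.Lib.Lead.NormalPComplement

/-- an automorphism of odd order of a group of order `2 ^ j`, `j ≤ 3`, whose order is prime to `3` when `j ≥ 2`
and to `7` when `j = 3`, is trivial -/
theorem aut_trivial {Q : Type*} [Group Q] [Finite Q] {j : ℕ} (hj : j ≤ 3) (hQ : Nat.card Q = 2 ^ j)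
    (a : MulAut Q) (h2 : (orderOf a).Coprime 2) (h3 : 2 ≤ j → (orderOf a).Coprime 3)
    (h7 : j = 3 → (orderOf a).Coprime 7) : a = 1 := by
  by_contra hne
  have hpos : 0 < orderOf a := orderOf_pos a
  have hne1 : orderOf a ≠ 1 := by rwa [Ne, orderOf_eq_one_iff]
  obtain ⟨r, hr, hrd⟩ := Nat.exists_prime_and_dvd hne1
  set b := a ^ (orderOf a / r) with hb
  have hob : orderOf b = r := orderOf_pow_orderOf_div hpos.ne' hrd
  haveI : Fact r.Prime := ⟨hr⟩
  have hr2 : r.Coprime 2 := Nat.Coprime.coprime_dvd_left hrd h2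
  have hr3 : 2 ≤ j → r.Coprime 3 := fun h => Nat.Coprime.coprime_dvd_left hrd (h3 h)
  have hr7 : j = 3 → r.Coprime 7 := fun h => Nat.Coprime.coprime_dvd_left hrd (h7 h)
  have hgrp : IsPGroup r (Subgroup.zpowers b) := by
    apply IsPGroup.of_card (n := 1)
    rw [Nat.card_zpowers, hob, pow_one]
  let F : Subgroup Q :=
    { carrier := {x | b x = x}
      mul_mem' := fun {x y} hx hy => by
        show b (x * y) = x * y
        rw [map_mul, hx, hy]
      one_mem' := map_one b
      inv_mem' := fun {x} hx => by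
        show b x⁻¹ = x⁻¹
        rw [map_inv, hx] }
  have hfix : MulAction.fixedPoints (Subgroup.zpowers b) Q = (F : Set Q) := by
    ext x
    constructor
    · intro hx
      exact hx ⟨b, Subgroup.mem_zpowers b⟩
    · intro hx c
      have hle : Subgroup.zpowers b ≤ MulAction.stabilizer (MulAut Q) x := by
        rw [Subgroup.zpowers_le, MulAction.mem_stabilizer_iff]
        exact hx
      exact MulAction.mem_stabilizer_iff.1 (hle c.2)
  have hmod := hgrp.card_modEq_card_fixedPoints Q
  rw [hfix] at hmod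
  have hFd : Nat.card ↥F ∣ 2 ^ j := hQ ▸ Subgroup.card_subgroup_dvd_card F
  obtain ⟨i, hij, hi⟩ := (Nat.dvd_prime_pow Nat.prime_two).1 hFd
  have hmod' : 2 ^ i ≡ 2 ^ j [MOD r] := by
    have := hmod.symm
    rw [hQ] at this
    rw [← hi]
    exact this
  have hle : 2 ^ i ≤ 2 ^ j := Nat.pow_le_pow_right (by norm_num) hij
  have hdvd : r ∣ 2 ^ j - 2 ^ i := (Nat.modEq_iff_dvd' hle).1 hmod'
  rcases Nat.eq_or_lt_of_le hij with heq | hlt
  · -- `F = ⊤`
    have hFtop : F = ⊤ := by
      apply (Subgroup.card_eq_iff_eq_top F).1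
      rw [hi, heq, hQ]
    have hb1 : b = 1 := by
      ext x
      have : x ∈ F := hFtop ▸ Subgroup.mem_top x
      exact this
    rw [hb1, orderOf_one] at hob
    exact hr.one_lt.ne hob
  · have hr3' : 2 ≤ j → ¬ r = 3 := fun h e => by
      have := hr3 h; rw [e] at this; revert this; decide
    have hr7' : j = 3 → ¬ r = 7 := fun h e => by
      have := hr7 h; rw [e] at this; revert this; decide
    have hr2' : ¬ r = 2 := fun e => by
      have := hr2; rw [e] at this; revert this; decide
    interval_cases j <;> interval_cases i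
    all_goals
      have hle7 : r ≤ 7 := le_trans (Nat.le_of_dvd (by norm_num) hdvd) (by norm_num)
      interval_cases r
    all_goals
      first
        | omega
        | (revert hr; decide)
        | (revert hdvd; decide)
        | (exact absurd rfl (hr3' (by norm_num)))
        | (exact absurd rfl (hr7' rfl))
        | (exact absurd rfl hr2')

/-- A non-abelian finite simple group of even order has order divisible by 12, 16 or 56. -/
theorem result {G : Type*} [Group G] [Finite G] [IsSimpleGroup G]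
    (hG : ¬ IsMulCommutative G) (h2 : Even (Nat.card G)) :
    12 ∣ Nat.card G ∨ 16 ∣ Nat.card G ∨ 56 ∣ Nat.card G := by
  by_contra hcon
  push_neg at hcon
  obtain ⟨h12, h16, h56⟩ := hcon
  haveI : Fact (Nat.Prime 2) := ⟨Nat.prime_two⟩
  obtain ⟨P⟩ : Nonempty (Sylow 2 G) := inferInstance
  obtain ⟨k, hk⟩ := IsPGroup.iff_card.mp P.isPGroup'
  have hPdvd : 2 ^ k ∣ Nat.card G := hk ▸ Subgroup.card_subgroup_dvd_card _
  have hk3 : k ≤ 3 := by
    by_contra hlt
    push_neg at hlt
    exact h16 (dvd_trans (pow_dvd_pow 2 hlt) hPdvd)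
  have hn3 : 2 ≤ k → ¬ 3 ∣ Nat.card G := fun h h3 => by
    apply h12
    have h4 : 4 ∣ Nat.card G := dvd_trans (pow_dvd_pow 2 h) hPdvd
    exact Nat.Coprime.mul_dvd_of_dvd_of_dvd (by decide : Nat.Coprime 4 3) h4 h3
  have hn7 : k = 3 → ¬ 7 ∣ Nat.card G := fun h h7 => by
    apply h56
    have h8 : 8 ∣ Nat.card G := by rw [h] at hPdvd; exact hPdvd
    exact Nat.Coprime.mul_dvd_of_dvd_of_dvd (by decide : Nat.Coprime 8 7) h8 h7
  have key : ∀ Q : Subgroup G, Q ≤ (P : Subgroup G) → ∀ g ∈ Subgroup.normalizer (Q : Set G),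
      Nat.Coprime (orderOf g) 2 → g ∈ Subgroup.centralizer (Q : Set G) := by
    intro Q hQ g hg hodd
    obtain ⟨j, hj⟩ := IsPGroup.iff_card.mp (P.isPGroup'.to_le hQ)
    have hjk : j ≤ k := by
      have : 2 ^ j ∣ 2 ^ k := by rw [← hj, ← hk]; exact Subgroup.card_dvd_of_le hQ
      exact (Nat.pow_dvd_pow_iff_le_right (by norm_num)).1 this
    obtain ⟨a, ha, hoa⟩ := exists_mulAut Q g hg
    have hgn : orderOf g ∣ Nat.card G := orderOf_dvd_natCard g
    have ha1 : a = 1 := by
      apply aut_trivial (le_trans hjk hk3) hj a (Nat.Coprime.coprime_dvd_left hoa hodd)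
      · intro h2j
        rw [Nat.coprime_comm, Nat.Prime.coprime_iff_not_dvd Nat.prime_three]
        exact fun h => hn3 (le_trans h2j hjk) (dvd_trans h (dvd_trans hoa hgn))
      · intro hj3
        rw [Nat.coprime_comm, Nat.Prime.coprime_iff_not_dvd (by norm_num : Nat.Prime 7)]
        exact fun h => hn7 (by omega) (dvd_trans h (dvd_trans hoa hgn))
    rw [Subgroup.mem_centralizer_iff]
    intro q hq
    have := ha ⟨q, hq⟩
    rw [ha1] at this
    simp only [MulAut.one_apply] at this
    calc q * g = (g * q * g⁻¹) * g := by rw [← this]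
      _ = g * q := by group
  have hcomp := hasNormalPComplement_of_p'_centralize P key
  obtain ⟨N, hN, hNc, k', hk'⟩ := exists_normal_of_hasNormalPComplement hcomp
  rcases hN.eq_bot_or_eq_top with h | h
  · -- `G` is a `2`-group
    have hcard : Nat.card G = 2 ^ k' := by
      rw [← hk', h, Subgroup.index_bot]
    have hG2 : IsPGroup 2 G := IsPGroup.of_card hcard
    haveI : Nontrivial G := IsSimpleGroup.toNontrivial
    haveI := hG2.center_nontrivial
    have hc : Subgroup.center G = ⊤ := by
      rcases (inferInstance : (Subgroup.center G).Normal).eq_bot_or_eq_top with h' | h'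
      · exact absurd h' (Subgroup.nontrivial_iff_ne_bot _ |>.1 inferInstance)
      · exact h'
    apply hG
    refine ⟨⟨fun x y => ?_⟩⟩
    have : x ∈ Subgroup.center G := hc ▸ Subgroup.mem_top x
    exact (Subgroup.mem_center_iff.1 this y).symm
  · rw [h] at hNc
    have : (Nat.card (⊤ : Subgroup G)) = Nat.card G := Subgroup.card_top
    rw [this] at hNc
    have h2' : 2 ∣ Nat.card G := even_iff_two_dvd.1 h2
    have := Nat.Coprime.eq_one_of_dvd hNc.symm h2'
    omega

end Cfsg.Agent.S0499
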