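import Cfsg.Statements.S0493
import Mathlib
import Cfsg.Agent.Lib.helper3.Burnside
import Cfsg.Agent.S0499

set_option autoImplicit false
open Cfsg

namespace Cfsg.Agent.S0493

open Cfsg.Agent.Lib.helper3.Burnside

theorem not_two_primes {G : Type*} [Group G] [Finite G] [IsSimpleGroup G] (hG : ¬ IsCyclic G)
    (s r x y : ℕ) (hs : s.Prime) (hr : r.Prime) (hcard : Nat.card G = s ^ x * r ^ y)
    (hrn : r ∣ Nat.card G) : False := by
  have hprime := prime_card_of_simple_of_card s r x y hs hr hcard hrn
  haveI : Fact (Nat.card G).Prime := ⟨hprime⟩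
  exact hG (isCyclic_of_prime_card rfl)

theorem not_comm {G : Type*} [Group G] [Finite G] [IsSimpleGroup G] (hG : ¬ IsCyclic G) :
    ¬ IsMulCommutative G := by
  intro hc
  have hprime := prime_card_of_comm (G := G) (fun a b => hc.is_comm.comm a b)
  haveI : Fact (Nat.card G).Prime := ⟨hprime⟩
  exact hG (isCyclic_of_prime_card rfl)

theorem not_84 {G : Type*} [Group G] [Finite G] [IsSimpleGroup G] (hcard : Nat.card G = 84) : False := by
  haveI : Fact (Nat.Prime 7) := ⟨by norm_num⟩
  obtain ⟨P⟩ : Nonempty (Sylow 7 G) := inferInstance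
  have hPc : Nat.card ↥(P : Subgroup G) = 7 := by
    rw [Sylow.card_eq_multiplicity, hcard]
    have : (84 : ℕ) = 7 ^ 1 * 12 := by norm_num
    rw [this, Nat.factorization_mul (by norm_num) (by norm_num)]
    have h7 : (7 : ℕ).Prime := by norm_num
    rw [Nat.Prime.factorization_pow h7]
    have h12 : (12 : ℕ).factorization 7 = 0 := by
      apply Nat.factorization_eq_zero_of_not_dvd; norm_num
    simp [h12]
  have hidx : (P : Subgroup G).index = 12 := by
    have := (P : Subgroup G).card_mul_index
    rw [hPc, hcard] at this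
    omega
  have h1 := card_sylow_modEq_one 7 G
  have h2 := Sylow.card_dvd_index P
  rw [hidx] at h2
  have h3 : Nat.card (Sylow 7 G) = 1 := by
    have hle := Nat.le_of_dvd (by norm_num) h2
    have hpos : 0 < Nat.card (Sylow 7 G) := Nat.card_pos
    unfold Nat.ModEq at h1
    interval_cases (Nat.card (Sylow 7 G)) <;> first | rfl | omega | (revert h2; decide) | (revert h1; decide)
  haveI : Subsingleton (Sylow 7 G) := (Nat.card_eq_one_iff_unique.1 h3).1
  have hn : (P : Subgroup G).Normal := Sylow.normal_of_subsingleton P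
  rcases hn.eq_bot_or_eq_top with h | h
  · rw [h, Subgroup.card_bot] at hPc; omega
  · rw [h, Subgroup.card_top, hcard] at hPc; omega

/-- A finite simple group of order at most 100 that is not cyclic has order 60. -/
theorem result {G : Type*} [Group G] [Finite G] [IsSimpleGroup G]
    (hG : ¬ IsCyclic G) (h : Nat.card G ≤ 100) : Nat.card G = 60 := by
  have hpos : 1 < Nat.card G := by
    haveI : Nontrivial G := IsSimpleGroup.toNontrivial
    exact Finite.one_lt_card
  obtain ⟨n, hn⟩ : ∃ n, Nat.card G = n := ⟨_, rfl⟩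
  rw [hn] at h hpos ⊢
  interval_cases n
  · exact (not_two_primes hG 3 2 0 1 (by norm_num) (by norm_num) (by rw [hn] <;> norm_num) (by rw [hn] <;> norm_num)).elim
  · exact (not_two_primes hG 2 3 0 1 (by norm_num) (by norm_num) (by rw [hn] <;> norm_num) (by rw [hn] <;> norm_num)).elim
  · exact (not_two_primes hG 3 2 0 2 (by norm_num) (by norm_num) (by rw [hn] <;> norm_num) (by rw [hn] <;> norm_num)).elim
  · exact (not_two_primes hG 2 5 0 1 (by norm_num) (by norm_num) (by rw [hn] <;> norm_num) (by rw [hn] <;> norm_num)).elim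
  · exact (not_two_primes hG 2 3 1 1 (by norm_num) (by norm_num) (by rw [hn] <;> norm_num) (by rw [hn] <;> norm_num)).elim
  · exact (not_two_primes hG 2 7 0 1 (by norm_num) (by norm_num) (by rw [hn] <;> norm_num) (by rw [hn] <;> norm_num)).elim
  · exact (not_two_primes hG 3 2 0 3 (by norm_num) (by norm_num) (by rw [hn] <;> norm_num) (by rw [hn] <;> norm_num)).elim
  · exact (not_two_primes hG 2 3 0 2 (by norm_num) (by norm_num) (by rw [hn] <;> norm_num) (by rw [hn] <;> norm_num)).elim
  · exact (not_two_primes hG 2 5 1 1 (by norm_num) (by norm_num) (by rw [hn] <;> norm_num) (by rw [hn] <;> norm_num)).elim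
  · exact (not_two_primes hG 2 11 0 1 (by norm_num) (by norm_num) (by rw [hn] <;> norm_num) (by rw [hn] <;> norm_num)).elim
  · exact (not_two_primes hG 2 3 2 1 (by norm_num) (by norm_num) (by rw [hn] <;> norm_num) (by rw [hn] <;> norm_num)).elim
  · exact (not_two_primes hG 2 13 0 1 (by norm_num) (by norm_num) (by rw [hn] <;> norm_num) (by rw [hn] <;> norm_num)).elim
  · exact (not_two_primes hG 2 7 1 1 (by norm_num) (by norm_num) (by rw [hn] <;> norm_num) (by rw [hn] <;> norm_num)).elim
  · exact (not_two_primes hG 3 5 1 1 (by norm_num) (by norm_num) (by rw [hn] <;> norm_num) (by rw [hn] <;> norm_num)).elim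
  · exact (not_two_primes hG 3 2 0 4 (by norm_num) (by norm_num) (by rw [hn] <;> norm_num) (by rw [hn] <;> norm_num)).elim
  · exact (not_two_primes hG 2 17 0 1 (by norm_num) (by norm_num) (by rw [hn] <;> norm_num) (by rw [hn] <;> norm_num)).elim
  · exact (not_two_primes hG 2 3 1 2 (by norm_num) (by norm_num) (by rw [hn] <;> norm_num) (by rw [hn] <;> norm_num)).elim
  · exact (not_two_primes hG 2 19 0 1 (by norm_num) (by norm_num) (by rw [hn] <;> norm_num) (by rw [hn] <;> norm_num)).elim
  · exact (not_two_primes hG 2 5 2 1 (by norm_num) (by norm_num) (by rw [hn] <;> norm_num) (by rw [hn] <;> norm_num)).elim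
  · exact (not_two_primes hG 3 7 1 1 (by norm_num) (by norm_num) (by rw [hn] <;> norm_num) (by rw [hn] <;> norm_num)).elim
  · exact (not_two_primes hG 2 11 1 1 (by norm_num) (by norm_num) (by rw [hn] <;> norm_num) (by rw [hn] <;> norm_num)).elim
  · exact (not_two_primes hG 2 23 0 1 (by norm_num) (by norm_num) (by rw [hn] <;> norm_num) (by rw [hn] <;> norm_num)).elim
  · exact (not_two_primes hG 2 3 3 1 (by norm_num) (by norm_num) (by rw [hn] <;> norm_num) (by rw [hn] <;> norm_num)).elim
  · exact (not_two_primes hG 2 5 0 2 (by norm_num) (by norm_num) (by rw [hn] <;> norm_num) (by rw [hn] <;> norm_num)).elim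
  · exact (not_two_primes hG 2 13 1 1 (by norm_num) (by norm_num) (by rw [hn] <;> norm_num) (by rw [hn] <;> norm_num)).elim
  · exact (not_two_primes hG 2 3 0 3 (by norm_num) (by norm_num) (by rw [hn] <;> norm_num) (by rw [hn] <;> norm_num)).elim
  · exact (not_two_primes hG 2 7 2 1 (by norm_num) (by norm_num) (by rw [hn] <;> norm_num) (by rw [hn] <;> norm_num)).elim
  · exact (not_two_primes hG 2 29 0 1 (by norm_num) (by norm_num) (by rw [hn] <;> norm_num) (by rw [hn] <;> norm_num)).elim
  · exfalso
    have h2 : Even (Nat.card G) := by rw [hn]; decide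
    rcases Cfsg.Agent.S0499.result (not_comm hG) h2 with h' | h' | h' <;> (rw [hn] at h'; revert h'; decide)
  · exact (not_two_primes hG 2 31 0 1 (by norm_num) (by norm_num) (by rw [hn] <;> norm_num) (by rw [hn] <;> norm_num)).elim
  · exact (not_two_primes hG 3 2 0 5 (by norm_num) (by norm_num) (by rw [hn] <;> norm_num) (by rw [hn] <;> norm_num)).elim
  · exact (not_two_primes hG 3 11 1 1 (by norm_num) (by norm_num) (by rw [hn] <;> norm_num) (by rw [hn] <;> norm_num)).elim
  · exact (not_two_primes hG 2 17 1 1 (by norm_num) (by norm_num) (by rw [hn] <;> norm_num) (by rw [hn] <;> norm_num)).elim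
  · exact (not_two_primes hG 5 7 1 1 (by norm_num) (by norm_num) (by rw [hn] <;> norm_num) (by rw [hn] <;> norm_num)).elim
  · exact (not_two_primes hG 2 3 2 2 (by norm_num) (by norm_num) (by rw [hn] <;> norm_num) (by rw [hn] <;> norm_num)).elim
  · exact (not_two_primes hG 2 37 0 1 (by norm_num) (by norm_num) (by rw [hn] <;> norm_num) (by rw [hn] <;> norm_num)).elim
  · exact (not_two_primes hG 2 19 1 1 (by norm_num) (by norm_num) (by rw [hn] <;> norm_num) (by rw [hn] <;> norm_num)).elim
  · exact (not_two_primes hG 3 13 1 1 (by norm_num) (by norm_num) (by rw [hn] <;> norm_num) (by rw [hn] <;> norm_num)).elim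
  · exact (not_two_primes hG 2 5 3 1 (by norm_num) (by norm_num) (by rw [hn] <;> norm_num) (by rw [hn] <;> norm_num)).elim
  · exact (not_two_primes hG 2 41 0 1 (by norm_num) (by norm_num) (by rw [hn] <;> norm_num) (by rw [hn] <;> norm_num)).elim
  · exfalso
    have h2 : Even (Nat.card G) := by rw [hn]; decide
    rcases Cfsg.Agent.S0499.result (not_comm hG) h2 with h' | h' | h' <;> (rw [hn] at h'; revert h'; decide)
  · exact (not_two_primes hG 2 43 0 1 (by norm_num) (by norm_num) (by rw [hn] <;> norm_num) (by rw [hn] <;> norm_num)).elim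
  · exact (not_two_primes hG 2 11 2 1 (by norm_num) (by norm_num) (by rw [hn] <;> norm_num) (by rw [hn] <;> norm_num)).elim
  · exact (not_two_primes hG 3 5 2 1 (by norm_num) (by norm_num) (by rw [hn] <;> norm_num) (by rw [hn] <;> norm_num)).elim
  · exact (not_two_primes hG 2 23 1 1 (by norm_num) (by norm_num) (by rw [hn] <;> norm_num) (by rw [hn] <;> norm_num)).elim
  · exact (not_two_primes hG 2 47 0 1 (by norm_num) (by norm_num) (by rw [hn] <;> norm_num) (by rw [hn] <;> norm_num)).elim
  · exact (not_two_primes hG 2 3 4 1 (by norm_num) (by norm_num) (by rw [hn] <;> norm_num) (by rw [hn] <;> norm_num)).elim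
  · exact (not_two_primes hG 2 7 0 2 (by norm_num) (by norm_num) (by rw [hn] <;> norm_num) (by rw [hn] <;> norm_num)).elim
  · exact (not_two_primes hG 2 5 1 2 (by norm_num) (by norm_num) (by rw [hn] <;> norm_num) (by rw [hn] <;> norm_num)).elim
  · exact (not_two_primes hG 3 17 1 1 (by norm_num) (by norm_num) (by rw [hn] <;> norm_num) (by rw [hn] <;> norm_num)).elim
  · exact (not_two_primes hG 2 13 2 1 (by norm_num) (by norm_num) (by rw [hn] <;> norm_num) (by rw [hn] <;> norm_num)).elim
  · exact (not_two_primes hG 2 53 0 1 (by norm_num) (by norm_num) (by rw [hn] <;> norm_num) (by rw [hn] <;> norm_num)).elim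
  · exact (not_two_primes hG 2 3 1 3 (by norm_num) (by norm_num) (by rw [hn] <;> norm_num) (by rw [hn] <;> norm_num)).elim
  · exact (not_two_primes hG 5 11 1 1 (by norm_num) (by norm_num) (by rw [hn] <;> norm_num) (by rw [hn] <;> norm_num)).elim
  · exact (not_two_primes hG 2 7 3 1 (by norm_num) (by norm_num) (by rw [hn] <;> norm_num) (by rw [hn] <;> norm_num)).elim
  · exact (not_two_primes hG 3 19 1 1 (by norm_num) (by norm_num) (by rw [hn] <;> norm_num) (by rw [hn] <;> norm_num)).elim
  · exact (not_two_primes hG 2 29 1 1 (by norm_num) (by norm_num) (by rw [hn] <;> norm_num) (by rw [hn] <;> norm_num)).elim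
  · exact (not_two_primes hG 2 59 0 1 (by norm_num) (by norm_num) (by rw [hn] <;> norm_num) (by rw [hn] <;> norm_num)).elim
  · rfl
  · exact (not_two_primes hG 2 61 0 1 (by norm_num) (by norm_num) (by rw [hn] <;> norm_num) (by rw [hn] <;> norm_num)).elim
  · exact (not_two_primes hG 2 31 1 1 (by norm_num) (by norm_num) (by rw [hn] <;> norm_num) (by rw [hn] <;> norm_num)).elim
  · exact (not_two_primes hG 3 7 2 1 (by norm_num) (by norm_num) (by rw [hn] <;> norm_num) (by rw [hn] <;> norm_num)).elim
  · exact (not_two_primes hG 3 2 0 6 (by norm_num) (by norm_num) (by rw [hn] <;> norm_num) (by rw [hn] <;> norm_num)).elim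
  · exact (not_two_primes hG 5 13 1 1 (by norm_num) (by norm_num) (by rw [hn] <;> norm_num) (by rw [hn] <;> norm_num)).elim
  · exfalso
    have h2 : Even (Nat.card G) := by rw [hn]; decide
    rcases Cfsg.Agent.S0499.result (not_comm hG) h2 with h' | h' | h' <;> (rw [hn] at h'; revert h'; decide)
  · exact (not_two_primes hG 2 67 0 1 (by norm_num) (by norm_num) (by rw [hn] <;> norm_num) (by rw [hn] <;> norm_num)).elim
  · exact (not_two_primes hG 2 17 2 1 (by norm_num) (by norm_num) (by rw [hn] <;> norm_num) (by rw [hn] <;> norm_num)).elim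
  · exact (not_two_primes hG 3 23 1 1 (by norm_num) (by norm_num) (by rw [hn] <;> norm_num) (by rw [hn] <;> norm_num)).elim
  · exfalso
    have h2 : Even (Nat.card G) := by rw [hn]; decide
    rcases Cfsg.Agent.S0499.result (not_comm hG) h2 with h' | h' | h' <;> (rw [hn] at h'; revert h'; decide)
  · exact (not_two_primes hG 2 71 0 1 (by norm_num) (by norm_num) (by rw [hn] <;> norm_num) (by rw [hn] <;> norm_num)).elim
  · exact (not_two_primes hG 2 3 3 2 (by norm_num) (by norm_num) (by rw [hn] <;> norm_num) (by rw [hn] <;> norm_num)).elim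
  · exact (not_two_primes hG 2 73 0 1 (by norm_num) (by norm_num) (by rw [hn] <;> norm_num) (by rw [hn] <;> norm_num)).elim
  · exact (not_two_primes hG 2 37 1 1 (by norm_num) (by norm_num) (by rw [hn] <;> norm_num) (by rw [hn] <;> norm_num)).elim
  · exact (not_two_primes hG 3 5 1 2 (by norm_num) (by norm_num) (by rw [hn] <;> norm_num) (by rw [hn] <;> norm_num)).elim
  · exact (not_two_primes hG 2 19 2 1 (by norm_num) (by norm_num) (by rw [hn] <;> norm_num) (by rw [hn] <;> norm_num)).elim
  · exact (not_two_primes hG 7 11 1 1 (by norm_num) (by norm_num) (by rw [hn] <;> norm_num) (by rw [hn] <;> norm_num)).elim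
  · exfalso
    have h2 : Even (Nat.card G) := by rw [hn]; decide
    rcases Cfsg.Agent.S0499.result (not_comm hG) h2 with h' | h' | h' <;> (rw [hn] at h'; revert h'; decide)
  · exact (not_two_primes hG 2 79 0 1 (by norm_num) (by norm_num) (by rw [hn] <;> norm_num) (by rw [hn] <;> norm_num)).elim
  · exact (not_two_primes hG 2 5 4 1 (by norm_num) (by norm_num) (by rw [hn] <;> norm_num) (by rw [hn] <;> norm_num)).elim
  · exact (not_two_primes hG 2 3 0 4 (by norm_num) (by norm_num) (by rw [hn] <;> norm_num) (by rw [hn] <;> norm_num)).elim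
  · exact (not_two_primes hG 2 41 1 1 (by norm_num) (by norm_num) (by rw [hn] <;> norm_num) (by rw [hn] <;> norm_num)).elim
  · exact (not_two_primes hG 2 83 0 1 (by norm_num) (by norm_num) (by rw [hn] <;> norm_num) (by rw [hn] <;> norm_num)).elim
  · exact (not_84 hn).elim
  · exact (not_two_primes hG 5 17 1 1 (by norm_num) (by norm_num) (by rw [hn] <;> norm_num) (by rw [hn] <;> norm_num)).elim
  · exact (not_two_primes hG 2 43 1 1 (by norm_num) (by norm_num) (by rw [hn] <;> norm_num) (by rw [hn] <;> norm_num)).elim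
  · exact (not_two_primes hG 3 29 1 1 (by norm_num) (by norm_num) (by rw [hn] <;> norm_num) (by rw [hn] <;> norm_num)).elim
  · exact (not_two_primes hG 2 11 3 1 (by norm_num) (by norm_num) (by rw [hn] <;> norm_num) (by rw [hn] <;> norm_num)).elim
  · exact (not_two_primes hG 2 89 0 1 (by norm_num) (by norm_num) (by rw [hn] <;> norm_num) (by rw [hn] <;> norm_num)).elim
  · exfalso
    have h2 : Even (Nat.card G) := by rw [hn]; decide
    rcases Cfsg.Agent.S0499.result (not_comm hG) h2 with h' | h' | h' <;> (rw [hn] at h'; revert h'; decide)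
  · exact (not_two_primes hG 7 13 1 1 (by norm_num) (by norm_num) (by rw [hn] <;> norm_num) (by rw [hn] <;> norm_num)).elim
  · exact (not_two_primes hG 2 23 2 1 (by norm_num) (by norm_num) (by rw [hn] <;> norm_num) (by rw [hn] <;> norm_num)).elim
  · exact (not_two_primes hG 3 31 1 1 (by norm_num) (by norm_num) (by rw [hn] <;> norm_num) (by rw [hn] <;> norm_num)).elim
  · exact (not_two_primes hG 2 47 1 1 (by norm_num) (by norm_num) (by rw [hn] <;> norm_num) (by rw [hn] <;> norm_num)).elim
  · exact (not_two_primes hG 5 19 1 1 (by norm_num) (by norm_num) (by rw [hn] <;> norm_num) (by rw [hn] <;> norm_num)).elim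
  · exact (not_two_primes hG 2 3 5 1 (by norm_num) (by norm_num) (by rw [hn] <;> norm_num) (by rw [hn] <;> norm_num)).elim
  · exact (not_two_primes hG 2 97 0 1 (by norm_num) (by norm_num) (by rw [hn] <;> norm_num) (by rw [hn] <;> norm_num)).elim
  · exact (not_two_primes hG 2 7 1 2 (by norm_num) (by norm_num) (by rw [hn] <;> norm_num) (by rw [hn] <;> norm_num)).elim
  · exact (not_two_primes hG 3 11 2 1 (by norm_num) (by norm_num) (by rw [hn] <;> norm_num) (by rw [hn] <;> norm_num)).elim
  · exact (not_two_primes hG 2 5 2 2 (by norm_num) (by norm_num) (by rw [hn] <;> norm_num) (by rw [hn] <;> norm_num)).elim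

end Cfsg.Agent.S0493
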