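import Cfsg.Statements.S5422
import Cfsg.Agent.Lib.Lead.LargeES
import Cfsg.Agent.S0058
import Cfsg.Agent.S0992
import Cfsg.Agent.H9.Cores
import Cfsg.Agent.H1.OddCentralizers

set_option autoImplicit false
open Cfsg

namespace Cfsg.Agent.S5422

open Cfsg.Agent.Lead.ES2 Cfsg.Agent.Lead.LargeES Cfsg.Agent.Lib.Lead.KleinFour

/-- the normalizer of a four-group with elements inducing automorphisms of orders two and three -/
theorem relIndex_six {G : Type*} [Group G] [Finite G] (V : Subgroup G) [IsKleinFour ↥V]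
    (a b : G) (haN : a ∈ Subgroup.normalizer (V : Set G)) (hbN : b ∈ Subgroup.normalizer (V : Set G))
    (ha2 : a * a ∈ Subgroup.centralizer (V : Set G)) (ha1 : a ∉ Subgroup.centralizer (V : Set G))
    (hb3 : b * b * b ∈ Subgroup.centralizer (V : Set G)) (hb1 : b ∉ Subgroup.centralizer (V : Set G)) :
    (Subgroup.centralizer (V : Set G)).relIndex (Subgroup.normalizer (V : Set G)) = 6 := by
  rw [Subgroup.relIndex, ← Subgroup.normalizerMonoidHom_ker, Subgroup.index_ker]
  have hdvd : Nat.card V.normalizerMonoidHom.range ∣ 6 :=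
    (Subgroup.card_subgroup_dvd_card _).trans (Cfsg.Agent.S0992.card_mulAut_dvd_six ↥V)
  have hker : ∀ n : ↥(Subgroup.normalizer (V : Set G)),
      V.normalizerMonoidHom n = 1 ↔ (n : G) ∈ Subgroup.centralizer (V : Set G) := by
    intro n
    rw [← MonoidHom.mem_ker, Subgroup.normalizerMonoidHom_ker, Subgroup.mem_subgroupOf]
  have h2 : 2 ∣ Nat.card V.normalizerMonoidHom.range := by
    have hfact : Fact (Nat.Prime 2) := ⟨Nat.prime_two⟩
    have ho : orderOf (V.normalizerMonoidHom ⟨a, haN⟩) = 2 := by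
      apply orderOf_eq_prime
      · rw [← map_pow, hker]
        show ((⟨a, haN⟩ : ↥(Subgroup.normalizer (V : Set G))) ^ 2 : ↥(Subgroup.normalizer (V : Set G))).1 ∈ _
        rw [Subgroup.coe_pow, pow_two]
        exact ha2
      · rw [Ne, hker]; exact ha1
    rw [← ho]
    exact Subgroup.orderOf_dvd_natCard _ ⟨_, rfl⟩
  have h3 : 3 ∣ Nat.card V.normalizerMonoidHom.range := by
    have hfact : Fact (Nat.Prime 3) := ⟨Nat.prime_three⟩
    have ho : orderOf (V.normalizerMonoidHom ⟨b, hbN⟩) = 3 := by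
      apply orderOf_eq_prime
      · rw [← map_pow, hker]
        show ((⟨b, hbN⟩ : ↥(Subgroup.normalizer (V : Set G))) ^ 3 : ↥(Subgroup.normalizer (V : Set G))).1 ∈ _
        rw [Subgroup.coe_pow, pow_succ, pow_two]
        exact hb3
      · rw [Ne, hker]; exact hb1
    rw [← ho]
    exact Subgroup.orderOf_dvd_natCard _ ⟨_, rfl⟩
  have h6 : 6 ∣ Nat.card V.normalizerMonoidHom.range :=
    Nat.Coprime.mul_dvd_of_dvd_of_dvd (by norm_num : Nat.Coprime 2 3) h2 h3
  exact Nat.dvd_antisymm hdvd h6

/-- Let Q be an extraspecial 2-subgroup of the finite group G whose centralizer in G is its centre Z and which is normal in the centralizer of Z; suppose Q has width at least 2 (order 2^(2w+1) with w ≥ 2) and g is an element of G not normalizing Z with g Z g⁻¹ inside Q. Then Z lies inside g Q g⁻¹; writing V for the subgroup generated by Z and g Z g⁻¹ (a four-group), the normalizer of V induces on V its full automorphism group, that is, the centralizer of V has index 6 in the normalizer of V; and Q is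 a large extraspecial 2-subgroup of G. -/
theorem result {G : Type*} [Group G] [Finite G] (Q : Subgroup G) (hL1 : Cfsg.IsExtraspecial 2 ↥Q) (hL2 : Subgroup.centralizer (Q : Set G) = ((Subgroup.center ↥Q).map Q.subtype)) (hL3 : Subgroup.centralizer (((Subgroup.center ↥Q).map Q.subtype) : Set G) ≤ Subgroup.normalizer (Q : Set G)) (w : ℕ) (hw : 2 ≤ w) (hcard : Nat.card ↥Q = 2 ^ (2 * w + 1)) (g : G) (hg : g ∉ Subgroup.normalizer (((Subgroup.center ↥Q).map Q.subtype) : Set G)) (hZg : (((Subgroup.center ↥Q).map Q.subtype)).map (MulAut.conj g).toMonoidHom ≤ Q) : ((Subgroup.center ↥Q).map Q.subtype) ≤ (Q).map (MulAut.conj g).toMonoidHom ∧ (Subgroup.centralizer ((((Subgroup.center ↥Q).map Q.subtype) ⊔ (((Subgroup.center ↥Q).map Q.subtype)).map (MulAut.conj g).toMonoidHom : Subgroup G) : Set G)).relIndex (Subgroup.normalizer ((((Subgroup.center ↥Q).map Q.subtype) ⊔ (((Subgroup.center ↥Q).map Q.subtype)).map (MulAut.conj g).toMonoidHom : Subgroup G) : Set G)) = 6 ∧ Cfsg.IsLargeExtraspecial Q := by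
  classical
  obtain ⟨z₀, hes, -⟩ := es_of_extraspecial hL1
  have C := hes.ctx
  set Z := (Subgroup.center ↥Q).map Q.subtype with hZdef
  obtain ⟨z, hz⟩ : ∃ z : G, z = (z₀ : G) := ⟨_, rfl⟩
  have hzQ : z ∈ Q := by rw [hz]; exact z₀.2
  have hZmem : ∀ c : G, c ∈ Z ↔ c = 1 ∨ c = z := by
    intro c
    constructor
    · rintro ⟨c', hc', rfl⟩
      rcases hes.cent c' (fun x => Subgroup.mem_center_iff.mp hc' x) with h | h
      · left; rw [h]; rfl
      · right; rw [h, hz]; rfl
    · rintro (rfl | rfl)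
      · exact Subgroup.one_mem _
      · exact ⟨z₀, Subgroup.mem_center_iff.mpr (fun x => C.cen x), hz.symm⟩
  have hzZ : z ∈ Z := (hZmem z).mpr (Or.inr rfl)
  obtain ⟨t, ht⟩ : ∃ t : G, t = g * z * g⁻¹ := ⟨_, rfl⟩
  have htZg : t ∈ Z.map (MulAut.conj g).toMonoidHom := by rw [ht]; exact conj_mem_map_conj hzZ
  have htQ : t ∈ Q := hZg htZg
  have htz : t ≠ z := by
    intro h
    apply hg
    rw [Subgroup.mem_normalizer_iff]
    intro n
    rw [hZmem, hZmem]
    constructor
    · rintro (rfl | rfl)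
      · left; group
      · right; rw [← ht]; exact h
    · rintro (h1 | h1)
      · left
        calc n = g⁻¹ * (g * n * g⁻¹) * g := by group
          _ = 1 := by rw [h1]; group
      · right
        have h1' : g * n * g⁻¹ = g * z * g⁻¹ := by rw [h1, ← ht, h]
        calc n = g⁻¹ * (g * n * g⁻¹) * g := by group
          _ = g⁻¹ * (g * z * g⁻¹) * g := by rw [h1']
          _ = z := by group
  have hQ : LES Q z := by
    rw [hz]
    apply LES.of_ES hes
    · intro c hc
      have : c ∈ Subgroup.centralizer (Q : Set G) := by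
        rw [Subgroup.mem_centralizer_iff]; exact hc
      rw [hL2, hZmem] at this
      rcases this with rfl | rfl
      · exact Q.one_mem
      · exact hzQ
    · intro c hc a ha
      have hcZ : c ∈ Subgroup.centralizer (Z : Set G) := by
        rw [Subgroup.mem_centralizer_iff]
        intro h hh
        rcases (hZmem h).mp hh with rfl | rfl
        · simp
        · rw [hz]; exact hc.symm
      exact ((Subgroup.mem_normalizer_iff.mp (hL3 hcZ)) a).mp ha
  have hY : LES (Q.map (MulAut.conj g).toMonoidHom) t := by rw [ht]; exact hQ.conj g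
  have hcard32 : 32 ≤ Nat.card ↥Q := by
    rw [hcard]
    calc 32 = 2 ^ 5 := by norm_num
      _ ≤ 2 ^ (2 * w + 1) := Nat.pow_le_pow_right (by norm_num) (by omega)
  have hlink : ∀ n : G, n * z * n⁻¹ = t → ∀ a ∈ Q, n * a * n⁻¹ ∈ Q.map (MulAut.conj g).toMonoidHom := by
    intro n hn a ha
    have h1 : (g⁻¹ * n) * z = z * (g⁻¹ * n) := by
      calc (g⁻¹ * n) * z = g⁻¹ * (n * z * n⁻¹) * n := by group
        _ = g⁻¹ * (g * z * g⁻¹) * n := by rw [hn, ht]
        _ = z * (g⁻¹ * n) := by group
    have h2 := hQ.norm _ h1 a ha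
    rw [mem_map_conj]
    have : g⁻¹ * (n * a * n⁻¹) * g = (g⁻¹ * n) * a * (g⁻¹ * n)⁻¹ := by group
    rw [this]; exact h2
  have hzY : z ∈ Q.map (MulAut.conj g).toMonoidHom := by
    have := center_mem' hes hcard32 (hz ▸ hQ) hY htQ (hz ▸ htz) (hz ▸ hlink)
    rw [hz]; exact this
  have htt : t * t = 1 := hY.zz
  have ht1 : t ≠ 1 := hY.z1
  have hzz : z * z = 1 := hQ.zz
  have hz1 : z ≠ 1 := hQ.z1
  have hzt : z * t = t * z := (hQ.zc t htQ).symm
  have hzinv : z⁻¹ = z := inv_eq_of_mul_eq_one_right hzz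
  have htinv : t⁻¹ = t := inv_eq_of_mul_eq_one_right htt
  obtain ⟨V, hV4, hzV, htV, hVel⟩ := exists_kleinFour hzz htt hzt hz1 ht1 (Ne.symm htz)
  have hZgmem : ∀ c : G, c ∈ Z.map (MulAut.conj g).toMonoidHom → c = 1 ∨ c = t := by
    intro c hc
    rw [mem_map_conj, hZmem] at hc
    rcases hc with h | h
    · left
      calc c = g * (g⁻¹ * c * g) * g⁻¹ := by group
        _ = 1 := by rw [h]; group
    · right
      calc c = g * (g⁻¹ * c * g) * g⁻¹ := by group
        _ = t := by rw [h, ht]
  have hVeq : Z ⊔ Z.map (MulAut.conj g).toMonoidHom = V := by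
    apply le_antisymm
    · apply sup_le
      · intro c hc
        rcases (hZmem c).mp hc with rfl | rfl
        · exact V.one_mem
        · exact hzV
      · intro c hc
        rcases hZgmem c hc with rfl | rfl
        · exact V.one_mem
        · exact htV
    · intro v hv
      have h1 : z ∈ Z ⊔ Z.map (MulAut.conj g).toMonoidHom := (le_sup_left : Z ≤ _) hzZ
      have h2 : t ∈ Z ⊔ Z.map (MulAut.conj g).toMonoidHom := (le_sup_right : _ ≤ Z ⊔ _) htZg
      rcases hVel v hv with rfl | rfl | rfl | rfl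
      · exact Subgroup.one_mem _
      · exact h1
      · exact h2
      · exact Subgroup.mul_mem _ h1 h2
  have hVQ : V ≤ Q := by
    intro v hv
    rcases hVel v hv with rfl | rfl | rfl | rfl
    · exact Q.one_mem
    · exact hzQ
    · exact htQ
    · exact Q.mul_mem hzQ htQ
  obtain ⟨q, hqQ, hqt⟩ := hQ.exists_move htQ ht1 htz
  obtain ⟨y, hyY, hyz⟩ := hY.exists_move hzY hz1 (Ne.symm htz)
  have hqz : q * z * q⁻¹ = z := by
    calc q * z * q⁻¹ = (q * z) * q⁻¹ := by group
      _ = (z * q) * q⁻¹ := by rw [hQ.zc q hqQ]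
      _ = z := by group
  have hqt' : q * t * q⁻¹ = z * t := by
    calc q * t * q⁻¹ = (q * t * q⁻¹ * t⁻¹) * t := by group
      _ = z * t := by rw [hqt]
  have hyt : y * t * y⁻¹ = t := by
    calc y * t * y⁻¹ = (y * t) * y⁻¹ := by group
      _ = (t * y) * y⁻¹ := by rw [hY.zc y hyY]
      _ = t := by group
  have hyz' : y * z * y⁻¹ = t * z := by
    calc y * z * y⁻¹ = (y * z * y⁻¹ * z⁻¹) * z := by group
      _ = t * z := by rw [hyz]
  have hzV' : z * t ∈ V := V.mul_mem hzV htV
  have hNV : ∀ n : G, n * z * n⁻¹ ∈ V → n * t * n⁻¹ ∈ V → n ∈ Subgroup.normalizer (V : Set G) := by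
    intro n h1 h2
    haveI : Finite ((V : Set G)) := Subtype.finite
    apply Subgroup.mem_normalizer_fintype
    intro v hv
    rcases hVel v hv with rfl | rfl | rfl | rfl
    · have : n * 1 * n⁻¹ = 1 := by group
      rw [this]; exact V.one_mem
    · exact h1
    · exact h2
    · have : n * (z * t) * n⁻¹ = (n * z * n⁻¹) * (n * t * n⁻¹) := by group
      rw [this]; exact V.mul_mem h1 h2
  have hCV : ∀ n : G, n * z = z * n → n * t = t * n → n ∈ Subgroup.centralizer (V : Set G) := by
    intro n h1 h2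
    rw [Subgroup.mem_centralizer_iff]
    intro v hv
    rcases hVel v hv with rfl | rfl | rfl | rfl
    · simp
    · exact h1.symm
    · exact h2.symm
    · calc z * t * n = z * (t * n) := by group
        _ = z * (n * t) := by rw [h2]
        _ = (z * n) * t := by group
        _ = (n * z) * t := by rw [h1]
        _ = n * (z * t) := by group
  refine ⟨?_, ?_, ?_⟩
  · intro c hc
    rcases (hZmem c).mp hc with rfl | rfl
    · exact Subgroup.one_mem _
    · exact hzY
  · rw [hVeq]
    haveI : IsKleinFour ↥V := hV4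
    -- the element of order three
    obtain ⟨m, hm⟩ : ∃ m : G, m = q * y := ⟨_, rfl⟩
    have e7 : z * t * z = t := by rw [hzt, mul_assoc, hzz, mul_one]
    have e8 : t * z * t = z := by rw [← hzt, mul_assoc, htt, mul_one]
    have hmz : m * z * m⁻¹ = t := by
      calc m * z * m⁻¹ = q * (y * z * y⁻¹) * q⁻¹ := by rw [hm]; group
        _ = q * (t * z) * q⁻¹ := by rw [hyz']
        _ = (q * t * q⁻¹) * (q * z * q⁻¹) := by group
        _ = z * t * z := by rw [hqt', hqz]
        _ = t := e7
    have hmt : m * t * m⁻¹ = z * t := by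
      calc m * t * m⁻¹ = q * (y * t * y⁻¹) * q⁻¹ := by rw [hm]; group
        _ = q * t * q⁻¹ := by rw [hyt]
        _ = z * t := hqt'
    have hmzt : m * (z * t) * m⁻¹ = z := by
      calc m * (z * t) * m⁻¹ = (m * z * m⁻¹) * (m * t * m⁻¹) := by group
        _ = t * (z * t) := by rw [hmz, hmt]
        _ = t * z * t := by group
        _ = z := e8
    have hqN : q ∈ Subgroup.normalizer (V : Set G) := by
      apply hNV
      · rw [hqz]; exact hzV
      · rw [hqt']; exact hzV'
    have hmN : m ∈ Subgroup.normalizer (V : Set G) := by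
      apply hNV
      · rw [hmz]; exact htV
      · rw [hmt]; exact hzV'
    have hq2 : q * q ∈ Subgroup.centralizer (V : Set G) := by
      rcases hQ.sq q hqQ with h | h
      · rw [h]; exact Subgroup.one_mem _
      · rw [h]; exact hCV z rfl hzt
    have hq1 : q ∉ Subgroup.centralizer (V : Set G) := by
      intro h
      have h1 : t * q = q * t := (Subgroup.mem_centralizer_iff.mp h) t htV
      apply hz1
      rw [← hqt]
      calc q * t * q⁻¹ * t⁻¹ = (q * t) * q⁻¹ * t⁻¹ := by group
        _ = (t * q) * q⁻¹ * t⁻¹ := by rw [h1]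
        _ = 1 := by group
    have hm3 : m * m * m ∈ Subgroup.centralizer (V : Set G) := by
      apply hCV
      · have : (m * m * m) * z * (m * m * m)⁻¹ = z := by
          calc (m * m * m) * z * (m * m * m)⁻¹ = m * (m * (m * z * m⁻¹) * m⁻¹) * m⁻¹ := by group
            _ = m * (m * t * m⁻¹) * m⁻¹ := by rw [hmz]
            _ = m * (z * t) * m⁻¹ := by rw [hmt]
            _ = z := hmzt
        calc (m * m * m) * z = ((m * m * m) * z * (m * m * m)⁻¹) * (m * m * m) := by group
          _ = z * (m * m * m) := by rw [this]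
      · have : (m * m * m) * t * (m * m * m)⁻¹ = t := by
          calc (m * m * m) * t * (m * m * m)⁻¹ = m * (m * (m * t * m⁻¹) * m⁻¹) * m⁻¹ := by group
            _ = m * (m * (z * t) * m⁻¹) * m⁻¹ := by rw [hmt]
            _ = m * z * m⁻¹ := by rw [hmzt]
            _ = t := hmz
        calc (m * m * m) * t = ((m * m * m) * t * (m * m * m)⁻¹) * (m * m * m) := by group
          _ = t * (m * m * m) := by rw [this]
    have hm1 : m ∉ Subgroup.centralizer (V : Set G) := by
      intro h
      have h1 : z * m = m * z := (Subgroup.mem_centralizer_iff.mp h) z hzV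
      apply htz
      rw [← hmz]
      calc m * z * m⁻¹ = (m * z) * m⁻¹ := by group
        _ = (z * m) * m⁻¹ := by rw [h1]
        _ = z := by group
    exact relIndex_six V q m hqN hmN hq2 hq1 hm3 hm1
  · refine ⟨hL1, hL2, hL3, ?_⟩
    intro K hKodd hQK
    haveI : IsKleinFour ↥V := hV4
    haveI : IsMulCommutative ↥V := IsKleinFour.isMulCommutative
    have hA : ¬ IsCyclic ↥V := IsKleinFour.not_isCyclic
    have hAK : V ≤ Subgroup.normalizer (K : Set G) := hVQ.trans hQK
    have hcop : (Nat.card ↥V).Coprime (Nat.card ↥K) := by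
      rw [hV4.card_four]
      show Nat.Coprime (2 ^ 2) _
      exact Nat.Coprime.pow_left 2 (Nat.coprime_two_left.mpr hKodd)
    have hgen := Cfsg.Agent.S0058.result V K hA hAK hcop
    have hQ2 : IsPGroup 2 ↥Q := hL1.1.1
    have hY2 : IsPGroup 2 ↥(Q.map (MulAut.conj g).toMonoidHom) := hQ2.map _
    have hnormK : ∀ a ∈ Q, ∀ k ∈ K, a * k * a⁻¹ ∈ K := fun a ha k hk =>
      ((Subgroup.mem_normalizer_iff.mp (hQK ha)) k).mp hk
    have hodd2 : ∀ k ∈ K, k * k = 1 → k = 1 := by
      intro k hk h
      have h1 : orderOf k ∣ 2 := orderOf_dvd_of_pow_eq_one (by rw [pow_two]; exact h)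
      have h2 : orderOf k ∣ Nat.card K := Subgroup.orderOf_dvd_natCard K hk
      have hcop' : Nat.Coprime 2 (Nat.card K) := Nat.coprime_two_left.mpr hKodd
      rw [← orderOf_eq_one_iff]
      exact Nat.eq_one_of_dvd_coprimes hcop' h1 h2
    have hCz : ∀ k ∈ K, k * z = z * k → k = 1 := by
      intro k hk hkz
      have hcen : ∀ a ∈ Q, a * k = k * a := by
        intro a ha
        have huK : a * k * a⁻¹ * k⁻¹ ∈ K := K.mul_mem (hnormK a ha k hk) (K.inv_mem hk)
        have huQ : a * k * a⁻¹ * k⁻¹ ∈ Q := by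
          have : a * k * a⁻¹ * k⁻¹ = a * (k * a⁻¹ * k⁻¹) := by group
          rw [this]; exact Q.mul_mem ha (hQ.norm k hkz a⁻¹ (Q.inv_mem ha))
        have h1 := Cfsg.Agent.H9.eq_one_of_mem_odd_of_mem_two hKodd hQ2 huK huQ
        calc a * k = (a * k * a⁻¹ * k⁻¹) * (k * a) := by group
          _ = k * a := by rw [h1, one_mul]
      rcases hQ.cent k hcen with h | h
      · exact h
      · exfalso
        apply hz1
        rw [h] at hk
        exact Cfsg.Agent.H9.eq_one_of_mem_odd_of_mem_two hKodd hQ2 hk hzQ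
    have hinv : ∀ s ∈ K, z * s * z⁻¹ = s⁻¹ := by
      apply Cfsg.Agent.H1.fpf_invol_inverts K z hzz (hQK hzQ)
      intro s hs hfix
      apply hCz s hs
      calc s * z = (z * s * z⁻¹) * z := by rw [hfix]
        _ = z * s := by group
    have hCt : ∀ k ∈ K, k * t = t * k → k = 1 := by
      intro k hk hkt
      have h1 : k * z * k⁻¹ ∈ Q.map (MulAut.conj g).toMonoidHom := hY.norm k hkt z hzY
      have h3 := hinv k⁻¹ (K.inv_mem hk)
      rw [inv_inv] at h3
      have h2 : k * z * k⁻¹ = k * k * z := by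
        calc k * z * k⁻¹ = k * (z * k⁻¹ * z⁻¹) * z := by group
          _ = k * k * z := by rw [h3]
      have h4 : k * k ∈ Q.map (MulAut.conj g).toMonoidHom := by
        have : k * k = (k * z * k⁻¹) * z⁻¹ := by rw [h2]; group
        rw [this]; exact Subgroup.mul_mem _ h1 (Subgroup.inv_mem _ hzY)
      have h5 : k * k = 1 :=
        Cfsg.Agent.H9.eq_one_of_mem_odd_of_mem_two hKodd hY2 (K.mul_mem hk hk) h4
      exact hodd2 k hk h5
    have hCzt : ∀ k ∈ K, k * (z * t) = (z * t) * k → k = 1 := by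
      intro k hk hkzt
      have hk' : q⁻¹ * k * q ∈ K := by
        have := hnormK q⁻¹ (Q.inv_mem hqQ) k hk
        rwa [inv_inv] at this
      have hc : (q⁻¹ * k * q) * t = t * (q⁻¹ * k * q) := by
        calc (q⁻¹ * k * q) * t = q⁻¹ * (k * (q * t * q⁻¹)) * q := by group
          _ = q⁻¹ * (k * (z * t)) * q := by rw [hqt']
          _ = q⁻¹ * ((z * t) * k) * q := by rw [hkzt]
          _ = q⁻¹ * ((q * t * q⁻¹) * k) * q := by rw [hqt']
          _ = t * (q⁻¹ * k * q) := by group
      have h1 := hCt _ hk' hc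
      calc k = q * (q⁻¹ * k * q) * q⁻¹ := by group
        _ = 1 := by rw [h1]; group
    refine eq_bot_iff.mpr (hgen.symm.le.trans ?_)
    apply iSup₂_le
    rintro a ⟨haV, ha1⟩
    intro k hk
    rw [Subgroup.mem_inf] at hk
    obtain ⟨hkK, hkC⟩ := hk
    rw [Subgroup.mem_bot]
    have hak : a * k = k * a := (Subgroup.mem_centralizer_iff.mp hkC) a rfl
    rcases hVel a haV with rfl | rfl | rfl | rfl
    · exact absurd rfl ha1
    · exact hCz k hkK hak.symm
    · exact hCt k hkK hak.symm
    · exact hCzt k hkK hak.symm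

end Cfsg.Agent.S5422
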