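import Cfsg.Statements.S0743
import Mathlib

set_option autoImplicit false
open Cfsg

namespace Cfsg.Agent.S0743

open MulAction

universe u v

/-- Gleason's lemma, basic form. -/
theorem gleason_one {G : Type u} {α : Type v} [Group G] [MulAction G α] [Finite α] {p : ℕ}
    (hp : p.Prime)
    (h : ∀ a : α, ∃ P : Subgroup G, IsPGroup p P ∧ fixedPoints P α = {a}) :
    IsPretransitive G α := by
  have : Fact p.Prime := ⟨hp⟩
  refine ⟨fun x y => ?_⟩
  by_contra hcon
  have hy : y ∉ orbit G x := fun ⟨g, hg⟩ => hcon ⟨g, hg⟩
  obtain ⟨P, hP, hPx⟩ := h x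
  obtain ⟨Q, hQ, hQy⟩ := h y
  have h1 := hP.card_modEq_card_fixedPoints (orbit G x)
  have h2 := hQ.card_modEq_card_fixedPoints (orbit G x)
  have hc1 : Nat.card (fixedPoints P (orbit G x)) = 1 := by
    rw [Nat.card_eq_one_iff_unique]
    constructor
    · constructor
      intro z w
      apply Subtype.ext
      apply Subtype.ext
      have hz : (z.1 : α) ∈ fixedPoints P α := by
        intro g
        have := z.2 g
        exact congrArg Subtype.val this
      have hw : (w.1 : α) ∈ fixedPoints P α := by
        intro g
        have := w.2 g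
        exact congrArg Subtype.val this
      rw [hPx] at hz hw
      exact hz.trans hw.symm
    · have hx : x ∈ fixedPoints P α := by rw [hPx]; rfl
      exact ⟨⟨⟨x, mem_orbit_self x⟩, fun g => Subtype.ext (hx g)⟩⟩
  have hc2 : Nat.card (fixedPoints Q (orbit G x)) = 0 := by
    rw [Nat.card_eq_zero]
    left
    constructor
    intro z
    have hz : (z.1 : α) ∈ fixedPoints Q α := by
      intro g
      have := z.2 g
      exact congrArg Subtype.val this
    rw [hQy] at hz
    apply hy
    have : (z.1 : α) = y := hz
    rw [← this]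
    exact z.1.2
  rw [hc1] at h1
  rw [hc2] at h2
  have := h1.symm.trans h2
  rw [Nat.modEq_zero_iff_dvd] at this
  exact hp.one_lt.ne' (Nat.dvd_one.mp this)

/-- The hypothesis passes to point stabilizers. -/
theorem hyp_stabilizer {G : Type u} {α : Type v} [Group G] [MulAction G α] {p : ℕ} {j : ℕ}
    (h : ∀ s : Finset α, s.card = j + 1 → ∃ P : Subgroup G, IsPGroup p P ∧ fixedPoints P α = ↑s)
    (a : α) (t : Finset (SubMulAction.ofStabilizer G a)) (ht : t.card = j) :
    ∃ P : Subgroup (stabilizer G a), IsPGroup p P ∧
      fixedPoints P (SubMulAction.ofStabilizer G a) = ↑t := by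
  classical
  let s : Finset α := insert a (t.map ⟨Subtype.val, Subtype.val_injective⟩)
  have has : a ∉ t.map ⟨Subtype.val, Subtype.val_injective⟩ := by
    intro hmem
    rw [Finset.mem_map] at hmem
    obtain ⟨x, _, hx⟩ := hmem
    exact (SubMulAction.neq_of_mem_ofStabilizer G a (x := x)) hx
  have hs : s.card = j + 1 := by
    rw [Finset.card_insert_of_notMem has, Finset.card_map, ht]
  obtain ⟨P, hP, hPs⟩ := h s hs
  have hPa : P ≤ stabilizer G a := by
    intro g hg
    have : a ∈ fixedPoints P α := by rw [hPs]; simp [s]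
    exact this ⟨g, hg⟩
  refine ⟨P.subgroupOf (stabilizer G a), hP.comap_subtype, ?_⟩
  ext x
  have hxa : (x : α) ≠ a := SubMulAction.neq_of_mem_ofStabilizer G a
  constructor
  · intro hx
    have : (x : α) ∈ fixedPoints P α := by
      intro g
      have := hx ⟨⟨g.1, hPa g.2⟩, by simp [Subgroup.mem_subgroupOf]⟩
      exact congrArg Subtype.val this
    rw [hPs] at this
    simp only [s, Finset.coe_insert, Finset.coe_map, Function.Embedding.coeFn_mk,
      Set.mem_insert_iff, Set.mem_image, Finset.mem_coe] at this
    rcases this with h1 | ⟨z, hz, hzx⟩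
    · exact absurd h1 hxa
    · have : z = x := Subtype.ext hzx
      rw [← this]; exact hz
  · intro hx g
    have hmem : (x : α) ∈ fixedPoints P α := by
      rw [hPs]
      simp only [s, Finset.coe_insert, Finset.coe_map, Function.Embedding.coeFn_mk,
        Set.mem_insert_iff, Set.mem_image, Finset.mem_coe]
      exact Or.inr ⟨x, hx, rfl⟩
    apply Subtype.ext
    have hg : (g.1 : G) ∈ P := by
      have := g.2
      rwa [Subgroup.mem_subgroupOf] at this
    exact hmem ⟨g.1, hg⟩

theorem exists_third {α : Type v} [Finite α] (hα : 3 ≤ Nat.card α) (x y : α) :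
    ∃ z : α, z ≠ x ∧ z ≠ y := by
  classical
  have := Fintype.ofFinite α
  by_contra hcon
  push Not at hcon
  have : (Finset.univ : Finset α) ⊆ {x, y} := by
    intro z _
    by_cases hz : z = x
    · simp [hz]
    · simp [hcon z hz]
  have := Finset.card_le_card this
  have h2 : ({x, y} : Finset α).card ≤ 2 := Finset.card_le_two
  rw [Finset.card_univ, ← Nat.card_eq_fintype_card] at this
  omega

theorem gleason_general {p : ℕ} (hp : p.Prime) (j : ℕ) :
    ∀ (G : Type u) (α : Type v) [Group G] [MulAction G α] [Finite α],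
    j + 1 < Nat.card α →
    (∀ s : Finset α, s.card = j + 1 → ∃ P : Subgroup G, IsPGroup p P ∧ fixedPoints P α = ↑s) →
    IsMultiplyPretransitive G α (j + 1) := by
  induction j with
  | zero =>
    intro G α _ _ _ _ h
    rw [zero_add, is_one_pretransitive_iff]
    apply gleason_one hp
    intro a
    obtain ⟨P, hP, hPs⟩ := h {a} (by simp)
    exact ⟨P, hP, by simpa using hPs⟩
  | succ j ih =>
    intro G α _ _ _ hcard h
    have hstab : ∀ a : α, IsMultiplyPretransitive (stabilizer G a)
        (SubMulAction.ofStabilizer G a) (j + 1) := by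
      intro a
      apply ih
      · rw [SubMulAction.nat_card_ofStabilizer_eq]; omega
      · exact hyp_stabilizer h a
    have htrans : IsPretransitive G α := by
      refine ⟨fun x y => ?_⟩
      obtain ⟨a, hax, hay⟩ := exists_third (by omega) x y
      have h1 : IsPretransitive (stabilizer G a) (SubMulAction.ofStabilizer G a) := by
        have := hstab a
        rw [← is_one_pretransitive_iff]
        apply isMultiplyPretransitive_of_le (n := j + 1) (by omega)
        rw [SubMulAction.nat_card_ofStabilizer_eq]; omega
      obtain ⟨g, hg⟩ := h1.exists_smul_eq ⟨x, Ne.symm hax⟩ ⟨y, Ne.symm hay⟩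
      exact ⟨g.1, congrArg Subtype.val hg⟩
    obtain ⟨a⟩ : Nonempty α := by
      rw [← Finite.card_pos_iff]; omega
    exact (SubMulAction.ofStabilizer.isMultiplyPretransitive (a := a)).mpr (hstab a)

/-- Gleason's Lemma: let `p` be a prime and `1 ≤ k < n`; if every `k`-subset of the `n` points is exactly the fixed-point set of some `p`-subgroup of `G`, then `G` is `k`-transitive. -/
theorem result {α : Type*} [Fintype α] [DecidableEq α] (G : Subgroup (Equiv.Perm α)) {p k : ℕ} (hp : p.Prime) (hk : 1 ≤ k) (hkn : k < Fintype.card α) (h : ∀ s : Finset α, s.card = k → ∃ P : Subgroup G, IsPGroup p P ∧ MulAction.fixedPoints P α = (s : Set α)) : MulAction.IsMultiplyPretransitive G α k := by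
  obtain ⟨j, rfl⟩ : ∃ j, k = j + 1 := ⟨k - 1, by omega⟩
  apply gleason_general hp j G α
  · rw [Nat.card_eq_fintype_card]; exact hkn
  · exact h

end Cfsg.Agent.S0743
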