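import Cfsg.Statements.S0744
import Cfsg.Agent.S0743
import Mathlib

set_option autoImplicit false
open Cfsg

namespace Cfsg.Agent.S0744

open MulAction

theorem card_mul_relIndex {G : Type*} [Group G] {H K : Subgroup G} (h : H ≤ K) :
    Nat.card H * H.relIndex K = Nat.card K := by
  rw [Subgroup.relIndex, ← Subgroup.card_mul_index (H.subgroupOf K),
    Nat.card_congr (Subgroup.subgroupOfEquivOfLe h).toEquiv]

/-- If for some `k > 1` the pointwise stabilisers of all `(k-1)`-subsets have the same order `> 1` and those of all `k`-subsets have the same order, then the group is `(k-1)`-transitive. -/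
theorem result {α : Type*} [Fintype α] [DecidableEq α] (G : Subgroup (Equiv.Perm α)) {k : ℕ} (hk : 1 < k) (hkn : k ≤ Fintype.card α) (l m : ℕ) (hl : 1 < l) (hkm1 : ∀ s : Finset α, s.card = k - 1 → Nat.card (fixingSubgroup G (s : Set α)) = l) (hkm : ∀ s : Finset α, s.card = k → Nat.card (fixingSubgroup G (s : Set α)) = m) : MulAction.IsMultiplyPretransitive G α (k - 1) := by
  -- the relative index is `l / m` uniformly
  have hle : ∀ (s : Finset α) (b : α), fixingSubgroup G ((insert b s : Finset α) : Set α) ≤
      fixingSubgroup G (s : Set α) := by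
    intro s b g hg
    rw [mem_fixingSubgroup_iff] at hg ⊢
    intro y hy
    exact hg y (by simp only [Finset.coe_insert]; exact Set.mem_insert_of_mem _ hy)
  have hrel : ∀ (s : Finset α) (b : α), s.card = k - 1 → b ∉ s →
      m * (fixingSubgroup G ((insert b s : Finset α) : Set α)).relIndex
        (fixingSubgroup G (s : Set α)) = l := by
    intro s b hs hb
    have h1 := card_mul_relIndex (hle s b)
    rw [hkm1 s hs, hkm (insert b s) (by rw [Finset.card_insert_of_notMem hb, hs]; omega)] at h1
    exact h1
  -- some `(k-1)`-subset and a point outside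
  obtain ⟨s₀, hs₀⟩ : ∃ s : Finset α, s.card = k - 1 :=
    Finset.exists_subset_card_eq (s := Finset.univ) (by rw [Finset.card_univ]; omega) |>.imp
      fun s hs => hs.2
  have hm0 : m ≠ 0 := by
    intro h0
    obtain ⟨b, hb⟩ : ∃ b, b ∉ s₀ := by
      by_contra hcon
      push Not at hcon
      have : s₀ = Finset.univ := Finset.eq_univ_iff_forall.mpr hcon
      rw [this, Finset.card_univ] at hs₀
      omega
    have := hrel s₀ b hs₀ hb
    rw [h0, zero_mul] at this
    omega
  have hml : m ≠ l := by
    intro hml
    -- then the fixing subgroup of `s₀` is trivial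
    have hbot : fixingSubgroup G (s₀ : Set α) = ⊥ := by
      rw [eq_bot_iff]
      intro g hg
      rw [Subgroup.mem_bot]
      apply Subtype.ext
      ext x
      by_cases hx : x ∈ s₀
      · exact ((mem_fixingSubgroup_iff _).mp hg) x hx
      · have h1 := hrel s₀ x hs₀ hx
        rw [hml] at h1
        have h2 : (fixingSubgroup G ((insert x s₀ : Finset α) : Set α)).relIndex
            (fixingSubgroup G (s₀ : Set α)) = 1 := by
          have : l * (fixingSubgroup G ((insert x s₀ : Finset α) : Set α)).relIndex
            (fixingSubgroup G (s₀ : Set α)) = l * 1 := by rw [h1, mul_one]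
          exact Nat.eq_of_mul_eq_mul_left (by omega) this
        rw [Subgroup.relIndex_eq_one] at h2
        have := h2 hg
        exact ((mem_fixingSubgroup_iff _).mp this) x (by simp)
    have := hkm1 s₀ hs₀
    rw [hbot, Subgroup.card_bot] at this
    omega
  -- common value of the relative index
  obtain ⟨r, hr⟩ : ∃ r, m * r = l := by
    obtain ⟨b, hb⟩ : ∃ b, b ∉ s₀ := by
      by_contra hcon
      push Not at hcon
      have : s₀ = Finset.univ := Finset.eq_univ_iff_forall.mpr hcon
      rw [this, Finset.card_univ] at hs₀
      omega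
    exact ⟨_, hrel s₀ b hs₀ hb⟩
  have hr1 : r ≠ 1 := by
    intro h; rw [h, mul_one] at hr; exact hml hr
  have hrel' : ∀ (s : Finset α) (b : α), s.card = k - 1 → b ∉ s →
      (fixingSubgroup G ((insert b s : Finset α) : Set α)).relIndex
        (fixingSubgroup G (s : Set α)) = r := by
    intro s b hs hb
    have := hrel s b hs hb
    rw [← hr] at this
    exact Nat.eq_of_mul_eq_mul_left (Nat.pos_of_ne_zero hm0) this
  set p := Nat.minFac r with hp_def
  have hp : p.Prime := Nat.minFac_prime hr1
  have hpr : p ∣ r := Nat.minFac_dvd r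
  have : Fact p.Prime := ⟨hp⟩
  apply Cfsg.Agent.S0743.result G hp (by omega) (by omega)
  intro s hs
  obtain ⟨P⟩ : Nonempty (Sylow p (fixingSubgroup G (s : Set α))) := inferInstance
  refine ⟨(P : Subgroup (fixingSubgroup G (s : Set α))).map (fixingSubgroup G (s : Set α)).subtype,
    P.2.map _, ?_⟩
  ext x
  constructor
  · intro hx
    by_contra hxs
    have hxs' : x ∉ s := hxs
    -- `P ≤ K.subgroupOf H`
    have hPK : (P : Subgroup (fixingSubgroup G (s : Set α))) ≤
        (fixingSubgroup G ((insert x s : Finset α) : Set α)).subgroupOf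
          (fixingSubgroup G (s : Set α)) := by
      intro g hg
      rw [Subgroup.mem_subgroupOf, mem_fixingSubgroup_iff]
      intro y hy
      simp only [Finset.coe_insert, Set.mem_insert_iff, Finset.mem_coe] at hy
      rcases hy with rfl | hy
      · exact hx ⟨g.1, Subgroup.mem_map.mpr ⟨g, hg, rfl⟩⟩
      · exact ((mem_fixingSubgroup_iff _).mp g.2) y hy
    have hdvd := Subgroup.index_dvd_of_le hPK
    have hnd := P.not_dvd_index
    apply hnd
    refine dvd_trans ?_ hdvd
    have := hrel' s x hs hxs'
    rw [Subgroup.relIndex] at this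
    rw [this]
    exact hpr
  · intro hx g
    obtain ⟨g', _, hg'⟩ := Subgroup.mem_map.mp g.2
    have : (g : G) ∈ fixingSubgroup G (s : Set α) := by rw [← hg']; exact g'.2
    exact ((mem_fixingSubgroup_iff _).mp this) x hx

end Cfsg.Agent.S0744
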