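import Mathlib
import Cfsg.Statements.S1611
import Cfsg.Agent.Lib.Helper8.Hexacode
import Cfsg.Agent.Lib.Helper8.MonomialAut
import Cfsg.Agent.Lib.Helper8.Extend

set_option autoImplicit false
open Cfsg

namespace Cfsg.Agent.S1611

open Cfsg.Agent.Lib.Helper8.Hexacode Cfsg.Agent.Lib.Helper8.MonomialAut
open Cfsg.Agent.Lib.Helper8.Hexacode.F4

/-! ### transport along a ring isomorphism -/

section transport

variable {K K' : Type*} [Field K] [Field K'] (e : K ≃+* K')

/-- transport of a vector of units -/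
def U (c : Fin 6 → Kˣ) : Fin 6 → K'ˣ := fun i => Units.map (e : K →* K') (c i)

theorem U_val (c : Fin 6 → Kˣ) (i : Fin 6) : ((U e c i : K'ˣ) : K') = e (c i) := rfl

theorem U_symm (c : Fin 6 → K'ˣ) : U e (U e.symm c) = c := by
  funext i
  apply Units.ext
  rw [U_val, U_val]
  exact e.apply_symm_apply _

theorem U_injective : Function.Injective (U e) := by
  intro c c' h
  funext i
  apply Units.ext
  have := congrArg (fun u : K'ˣ => (u : K')) (congrFun h i)
  simp only [U_val] at this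
  exact e.injective this

theorem mm_map (σ : Equiv.Perm (Fin 6)) (c : Fin 6 → Kˣ) (x : Fin 6 → K) :
    monomialMap σ (U e c) (fun i => e (x i)) = fun i => e (monomialMap σ c x i) := by
  funext i
  simp only [mm_apply, U_val, map_mul]

theorem pres_iff (ω : K) (σ : Equiv.Perm (Fin 6)) (c : Fin 6 → Kˣ) :
    Pres (hexacode K ω) σ c ↔ Pres (hexacode K' (e ω)) σ (U e c) := by
  constructor
  · intro h y hy
    have hy' : y = fun i => e (e.symm (y i)) := by
      funext i; exact (e.apply_symm_apply _).symm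
    rw [hy'] at hy ⊢
    rw [mm_map, map_mem_iff]
    exact h _ ((map_mem_iff e ω _).1 hy)
  · intro h x hx
    have := h _ ((map_mem_iff e ω x).2 hx)
    rw [mm_map, map_mem_iff] at this
    exact this

end transport

/-! ### concrete data -/

/-- a table entry: a permutation, its inverse, and a vector of scalars -/
abbrev Ent := (Fin 6 → Fin 6) × (Fin 6 → Fin 6) × (Fin 6 → F4)

/-- validity of an entry -/
def Valid (a : Ent) : Prop :=
  (∀ i, a.2.1 (a.1 i) = i) ∧ (∀ i, a.1 (a.2.1 i) = i) ∧ ∀ i, a.2.2 i ≠ 0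

instance decValid (a : Ent) : Decidable (Valid a) := by
  unfold Valid; infer_instance

/-- the permutation of an entry -/
def permOf (a : Ent) : Equiv.Perm (Fin 6) :=
  if h : Valid a then ⟨a.1, a.2.1, h.1, h.2.1⟩ else 1

/-- the units of an entry -/
def unitsOf (a : Ent) : Fin 6 → F4ˣ :=
  fun i => if h : a.2.2 i ≠ 0 then Units.mk0 _ h else 1

theorem permOf_apply (a : Ent) (h : Valid a) (i : Fin 6) : permOf a i = a.1 i := by
  unfold permOf; rw [dif_pos h]; rfl

theorem permOf_symm_apply (a : Ent) (h : Valid a) (i : Fin 6) : (permOf a).symm i = a.2.1 i := by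
  unfold permOf; rw [dif_pos h]; rfl

theorem unitsOf_val (a : Ent) (h : Valid a) (i : Fin 6) : ((unitsOf a i : F4ˣ) : F4) = a.2.2 i := by
  unfold unitsOf; rw [dif_pos (h.2.2 i)]; rfl

/-- the monomial map of an entry, computably -/
def mmE (a : Ent) (x : Fin 6 → F4) : Fin 6 → F4 := fun i => a.2.2 i * x (a.2.1 i)

theorem mmE_eq (a : Ent) (h : Valid a) (x : Fin 6 → F4) :
    monomialMap (permOf a) (unitsOf a) x = mmE a x := by
  funext i
  simp only [mm_apply, mmE, unitsOf_val a h, permOf_symm_apply a h]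

def HT : List Ent := [
  (![0, 1, 2, 3, 4, 5], ![0, 1, 2, 3, 4, 5], ![o, o, o, o, o, o]),
  (![1, 0, 2, 3, 5, 4], ![1, 0, 2, 3, 5, 4], ![o, o, o, o, o, o]),
  (![2, 0, 1, 3, 4, 5], ![1, 2, 0, 3, 4, 5], ![o, o, o, o, w, v]),
  (![3, 0, 1, 2, 5, 4], ![1, 2, 3, 0, 5, 4], ![o, o, o, o, v, w]),
  (![4, 0, 1, 2, 3, 5], ![1, 2, 3, 4, 0, 5], ![o, w, v, o, v, w]),
  (![5, 0, 1, 2, 4, 3], ![1, 2, 3, 5, 4, 0], ![o, v, w, o, v, w]),
  (![0, 1, 2, 3, 4, 5], ![0, 1, 2, 3, 4, 5], ![o, o, o, o, o, o]),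
  (![0, 1, 2, 3, 4, 5], ![0, 1, 2, 3, 4, 5], ![o, o, o, o, o, o]),
  (![0, 2, 1, 3, 5, 4], ![0, 2, 1, 3, 5, 4], ![o, o, o, o, w, v]),
  (![0, 3, 1, 2, 4, 5], ![0, 2, 3, 1, 4, 5], ![o, o, o, o, v, w]),
  (![0, 4, 1, 2, 5, 3], ![0, 2, 3, 5, 1, 4], ![o, w, v, o, v, w]),
  (![0, 5, 1, 2, 3, 4], ![0, 2, 3, 4, 5, 1], ![o, v, w, o, v, w]),
  (![0, 1, 2, 3, 4, 5], ![0, 1, 2, 3, 4, 5], ![o, o, o, o, o, o]),
  (![0, 1, 2, 3, 4, 5], ![0, 1, 2, 3, 4, 5], ![o, o, o, o, o, o]),
  (![0, 1, 2, 3, 4, 5], ![0, 1, 2, 3, 4, 5], ![o, o, o, o, o, o]),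
  (![0, 1, 3, 2, 5, 4], ![0, 1, 3, 2, 5, 4], ![o, o, o, o, o, o]),
  (![0, 1, 4, 2, 3, 5], ![0, 1, 3, 4, 2, 5], ![o, w, v, v, v, v]),
  (![0, 1, 5, 2, 4, 3], ![0, 1, 3, 5, 4, 2], ![o, v, w, w, w, w]),
  (![0, 1, 2, 3, 4, 5], ![0, 1, 2, 3, 4, 5], ![o, o, o, o, o, o]),
  (![0, 1, 2, 3, 4, 5], ![0, 1, 2, 3, 4, 5], ![o, o, o, o, o, o]),
  (![0, 1, 2, 3, 4, 5], ![0, 1, 2, 3, 4, 5], ![o, o, o, o, o, o]),
  (![0, 1, 2, 3, 4, 5], ![0, 1, 2, 3, 4, 5], ![o, o, o, o, o, o]),
  (![0, 1, 2, 4, 5, 3], ![0, 1, 2, 5, 3, 4], ![o, w, v, v, v, v]),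
  (![0, 1, 2, 5, 3, 4], ![0, 1, 2, 4, 5, 3], ![o, v, w, w, w, w])]

/-- the `n`-th table entry -/
def ent (n : ℕ) : Ent := HT.getD n (id, id, 0)

set_option maxRecDepth 100000 in
theorem D1 : ∀ n < 24, Valid (ent n) := by decide +kernel

set_option maxRecDepth 100000 in
theorem D2 : ∀ n < 24, ∀ k, IsHex (mmE (ent n) (vb k)) := by decide +kernel

/-- base points -/
def bp (i : ℕ) : Fin 6 := Fin.ofNat 6 i

/-- transversal property -/
def TProp (k : ℕ) (y : Fin 6) : Prop :=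
  (∀ i < k, (ent (6 * k + y.val)).1 (bp i) = bp i) ∧ (ent (6 * k + y.val)).1 (bp k) = y

instance decTProp (k : ℕ) (y : Fin 6) : Decidable (TProp k y) := by
  unfold TProp; infer_instance

set_option maxRecDepth 100000 in
theorem D4 : ∀ k < 4, ∀ y : Fin 6, (∀ i < k, y ≠ bp i) → TProp k y := by decide +kernel

set_option maxRecDepth 100000 in
theorem D5 : ∀ d0 d1 d2 d3 d4 d5 : F4, d0 ≠ 0 → d1 ≠ 0 → d2 ≠ 0 → d3 ≠ 0 → d4 ≠ 0 → d5 ≠ 0 →
    (∀ t, IsHex (fun i => ![d0, d1, d2, d3, d4, d5] i * word t i)) →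
    d0 = d1 ∧ d0 = d2 ∧ d0 = d3 ∧ d0 = d4 ∧ d0 = d5 := by decide +kernel

/-- the transposition of the first two coordinates -/
def sw : Fin 6 → Fin 6 := ![1, 0, 2, 3, 4, 5]

theorem sw_eq : ∀ i, (Equiv.swap (0 : Fin 6) 1).symm i = sw i := by decide

set_option maxRecDepth 100000 in
theorem D6 : ∀ d0 d1 d2 d3 d4 d5 : F4, d0 ≠ 0 → d1 ≠ 0 → d2 ≠ 0 → d3 ≠ 0 → d4 ≠ 0 → d5 ≠ 0 →
    ¬ (∀ k, IsHex (fun i => ![d0, d1, d2, d3, d4, d5] i * vb k (sw i))) := by decide +kernel

/-! ### the concrete code -/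

/-- the concrete hexacode -/
abbrev C4 : Submodule F4 (Fin 6 → F4) := hexacode F4 w

instance finC4 : Finite ↥C4 := inferInstance

/-- its permutation parts -/
noncomputable abbrev P4 : Subgroup (Equiv.Perm (Fin 6)) := permSubgroup C4

theorem mm_smul' {K : Type*} [Field K] (σ : Equiv.Perm (Fin 6)) (c : Fin 6 → Kˣ) (a : K)
    (x : Fin 6 → K) : monomialMap σ c (a • x) = a • monomialMap σ c x := by
  funext i; simp [mm_apply, mul_left_comm]

theorem word_eq (t : F4 × F4 × F4) : word t = t.1 • vb 0 + t.2.1 • vb 1 + t.2.2 • vb 2 := by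
  funext i
  simp [word]

theorem vb_mem (k : Fin 3) : vb k ∈ C4 := by
  rw [mem_iff_word]
  fin_cases k
  · exact ⟨(1, 0, 0), by funext i; simp [word]⟩
  · exact ⟨(0, 1, 0), by funext i; simp [word]⟩
  · exact ⟨(0, 0, 1), by funext i; simp [word]⟩

theorem pres_of_vb (σ : Equiv.Perm (Fin 6)) (c : Fin 6 → F4ˣ)
    (h : ∀ k, monomialMap σ c (vb k) ∈ C4) : Pres C4 σ c := by
  intro x hx
  obtain ⟨t, rfl⟩ := (mem_iff_word x).1 hx
  rw [word_eq, mm_add, mm_add, mm_smul', mm_smul', mm_smul']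
  exact Submodule.add_mem _ (Submodule.add_mem _ (Submodule.smul_mem _ _ (h 0))
    (Submodule.smul_mem _ _ (h 1))) (Submodule.smul_mem _ _ (h 2))

theorem permOf_mem (n : ℕ) (hn : n < 24) : permOf (ent n) ∈ P4 := by
  refine ⟨unitsOf (ent n), pres_of_vb _ _ (fun k => ?_)⟩
  rw [mmE_eq _ (D1 n hn), mem_iff_isHex]
  exact D2 n hn k

theorem trans4 (t : ℕ → Fin 6) (hinj : ∀ i < 4, ∀ i' < 4, t i = t i' → i = i') :
    ∃ σ ∈ P4, ∀ i < 4, σ (bp i) = t i := by
  refine Cfsg.Agent.Lib.Helper8.Extend.extend P4 bp 4 ?_ t hinj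
  intro k hk y hy
  obtain ⟨h2, h3⟩ := D4 k hk y hy
  have hn : 6 * k + y.val < 24 := by have := y.2; omega
  have hv := D1 _ hn
  refine ⟨permOf _, permOf_mem _ hn, fun i hi => ?_, ?_⟩
  · rw [permOf_apply _ hv]; exact h2 i hi
  · rw [permOf_apply _ hv]; exact h3

theorem card_P4_ge : 360 ≤ Nat.card P4 := by
  have hbinj : ∀ i < 4, ∀ i' < 4, bp i = bp i' → i = i' := by decide
  let f : P4 → (Fin 4 ↪ Fin 6) := fun σ =>
    ⟨fun i => σ.1 (bp i.1), fun i i' h => Fin.ext (hbinj i.1 i.2 i'.1 i'.2 (σ.1.injective h))⟩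
  have hf : Function.Surjective f := by
    intro t
    obtain ⟨σ, hσP, hσ⟩ := trans4 (fun i => if h : i < 4 then t ⟨i, h⟩ else bp 0) (by
      intro i hi i' hi' h
      rw [dif_pos hi, dif_pos hi'] at h
      exact congrArg Fin.val (t.injective h))
    refine ⟨⟨σ, hσP⟩, ?_⟩
    apply DFunLike.ext
    intro i
    show σ (bp i.1) = t i
    rw [hσ i.1 i.2, dif_pos i.2]
  have h1 := Nat.card_le_card_of_surjective f hf
  have h2 : Nat.card (Fin 4 ↪ Fin 6) = 360 := by
    rw [Nat.card_eq_fintype_card, Fintype.card_embedding_eq]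
    rfl
  omega

theorem swap_not_mem : Equiv.swap (0 : Fin 6) 1 ∉ P4 := by
  rintro ⟨c, hc⟩
  refine D6 (c 0) (c 1) (c 2) (c 3) (c 4) (c 5) (Units.ne_zero _) (Units.ne_zero _)
    (Units.ne_zero _) (Units.ne_zero _) (Units.ne_zero _) (Units.ne_zero _) (fun k => ?_)
  have h := (mem_iff_isHex _).1 (hc _ (vb_mem k))
  have e : monomialMap (Equiv.swap (0 : Fin 6) 1) c (vb k) =
      fun i => ![(c 0 : F4), c 1, c 2, c 3, c 4, c 5] i * vb k (sw i) := by
    funext i
    rw [mm_apply, sw_eq]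
    fin_cases i <;> rfl
  rw [e] at h
  exact h

theorem P4_eq : P4 = alternatingGroup (Fin 6) := by
  apply Equiv.Perm.eq_alternatingGroup_of_index_eq_two
  have h1 := Subgroup.card_mul_index P4
  have h2 : Nat.card (Equiv.Perm (Fin 6)) = 720 := by
    rw [Nat.card_eq_fintype_card, Fintype.card_perm]
    rfl
  rw [h2] at h1
  have h3 := card_P4_ge
  have h4 : P4.index ≠ 1 := by
    intro h
    rw [Subgroup.index_eq_one] at h
    apply swap_not_mem
    rw [h]
    exact Subgroup.mem_top _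
  have h5 : P4.index ≠ 0 := by
    intro h
    rw [h] at h1
    omega
  have h6 : P4.index ≤ 2 := by
    by_contra hcon
    have : 3 ≤ P4.index := by omega
    nlinarith
  omega

theorem diag4 (c : Fin 6 → F4ˣ) (hc : Pres C4 1 c) : ∀ i j, c i = c j := by
  obtain ⟨h1, h2, h3, h4, h5⟩ := D5 (c 0) (c 1) (c 2) (c 3) (c 4) (c 5) (Units.ne_zero _)
    (Units.ne_zero _) (Units.ne_zero _) (Units.ne_zero _) (Units.ne_zero _) (Units.ne_zero _)
    (fun t => by
      have h := (mem_iff_isHex _).1 (hc _ ((mem_iff_word _).2 ⟨t, rfl⟩))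
      have e : monomialMap (1 : Equiv.Perm (Fin 6)) c (word t) =
          fun i => ![(c 0 : F4), c 1, c 2, c 3, c 4, c 5] i * word t i := by
        funext i
        rw [mm_apply]
        have h1 : (Equiv.symm (1 : Equiv.Perm (Fin 6))) i = i := rfl
        rw [h1]
        fin_cases i <;> rfl
      rw [e] at h
      exact h)
  have hall : ∀ i, c i = c 0 := by
    intro i
    apply Units.ext
    fin_cases i
    · rfl
    · exact h1.symm
    · exact h2.symm
    · exact h3.symm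
    · exact h4.symm
    · exact h5.symm
  intro i j
  rw [hall i, hall j]

/-- Over the field with 4 elements, the monomial maps preserving the hexacode number 1080; the diagonal ones are the scalars; the permutation parts form the alternating group. -/
theorem result (F : Type*) [Field F] [Fintype F] [DecidableEq F] (hF : Fintype.card F = 4) (ω : F) (hω : ω ^ 2 + ω + 1 = 0) : Nat.card {f : Equiv.Perm (Fin 6) × (Fin 6 → Fˣ) // (∀ x ∈ Cfsg.hexacode F ω, Cfsg.monomialMap f.1 f.2 x ∈ Cfsg.hexacode F ω)} = 1080 ∧ (∀ c : Fin 6 → Fˣ, (∀ x ∈ Cfsg.hexacode F ω, Cfsg.monomialMap 1 c x ∈ Cfsg.hexacode F ω) → ∀ i j, c i = c j) ∧ {σ : Equiv.Perm (Fin 6) | ∃ c : Fin 6 → Fˣ, (∀ x ∈ Cfsg.hexacode F ω, Cfsg.monomialMap σ c x ∈ Cfsg.hexacode F ω)} = (alternatingGroup (Fin 6) : Set (Equiv.Perm (Fin 6))) := by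
  obtain ⟨e, he⟩ := exists_iso F hF ω hω
  have hpres : ∀ σ c, Pres (hexacode F ω) σ c ↔ Pres C4 σ (U e c) := by
    intro σ c
    rw [pres_iff e ω σ c, he]
  have hdiag : ∀ c : Fin 6 → Fˣ, Pres (hexacode F ω) 1 c → ∀ i j, c i = c j := by
    intro c hc i j
    have h := diag4 _ ((hpres 1 c).1 hc) i j
    apply Units.ext
    have h' := congrArg (fun u : F4ˣ => (u : F4)) h
    simp only [U_val] at h'
    exact e.injective h'
  have hperm : permParts (hexacode F ω) = (alternatingGroup (Fin 6) : Set (Equiv.Perm (Fin 6))) := by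
    rw [← P4_eq]
    ext σ
    constructor
    · rintro ⟨c, hc⟩
      exact ⟨U e c, (hpres σ c).1 hc⟩
    · rintro ⟨c', hc'⟩
      refine ⟨U e.symm c', (hpres σ _).2 ?_⟩
      rw [U_symm]
      exact hc'
  refine ⟨?_, hdiag, hperm⟩
  rw [card_aut, hperm]
  have h1 : Nat.card (alternatingGroup (Fin 6) : Set (Equiv.Perm (Fin 6))) = 360 := by
    have h := Subgroup.card_mul_index (alternatingGroup (Fin 6))
    rw [alternatingGroup.index_eq_two, Nat.card_eq_fintype_card (α := Equiv.Perm (Fin 6)),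
      Fintype.card_perm] at h
    have h720 : (Fintype.card (Fin 6)).factorial = 720 := by rfl
    rw [h720] at h
    show Nat.card (alternatingGroup (Fin 6)) = 360
    omega
  have h2 : Nat.card (diagAuts (hexacode F ω)) = 3 := by
    have hu : Nat.card Fˣ = 3 := by
      rw [Nat.card_units, Nat.card_eq_fintype_card, hF]
    rw [← hu]
    symm
    apply Nat.card_congr
    exact
      { toFun := fun u => ⟨fun _ => u, by
          intro x hx
          have : monomialMap (1 : Equiv.Perm (Fin 6)) (fun _ => u) x = (u : F) • x := by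
            funext i
            rw [mm_apply]
            rfl
          rw [this]
          exact Submodule.smul_mem _ _ hx⟩
        invFun := fun c => c.1 0
        left_inv := fun u => rfl
        right_inv := fun c => by
          apply Subtype.ext
          funext i
          exact hdiag c.1 c.2 0 i }
  rw [h1, h2]

end Cfsg.Agent.S1611
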