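import Cfsg.Statements.S0261
import Mathlib
import Cfsg.Agent.S0262

set_option autoImplicit false
open Cfsg

namespace Cfsg.Agent.S0261

open Matrix Cfsg.Agent.S0278 Cfsg.Agent.S0262

section generic
variable {G : Type*} [Group G]

theorem quat_hom (n : ℕ) [NeZero n] (x y : G)
    (hx : x ^ (2 * n) = 1) (hy : y * y = x ^ n) (hxy : x * y = y * x⁻¹) :
    ∃ f : QuaternionGroup n →* G, (∀ i : ZMod (2 * n), f (QuaternionGroup.a i) = x ^ i.val) ∧
      (∀ i : ZMod (2 * n), f (QuaternionGroup.xa i) = y * x ^ i.val) := by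
  have hadd : ∀ i j : ZMod (2 * n), x ^ (i + j).val = x ^ i.val * x ^ j.val := by
    intro i j
    rw [ZMod.val_add, ← pow_eq_pow_mod _ hx, pow_add]
  have hneg : ∀ i : ZMod (2 * n), x ^ (-i).val = (x ^ i.val)⁻¹ := by
    intro i
    apply eq_inv_of_mul_eq_one_left
    rw [← hadd, neg_add_cancel, ZMod.val_zero, pow_zero]
  have hn : x ^ ((n : ZMod (2 * n))).val = x ^ n := by
    rw [ZMod.val_natCast, Nat.mod_eq_of_lt]
    have := NeZero.pos n; omega
  have hconj : ∀ k : ℕ, x ^ k * y = y * (x ^ k)⁻¹ := by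
    intro k
    induction k with
    | zero => simp
    | succ k ih =>
      calc x ^ (k + 1) * y = x ^ k * (x * y) := by rw [pow_succ, mul_assoc]
        _ = x ^ k * y * x⁻¹ := by rw [hxy, mul_assoc]
        _ = y * ((x ^ k)⁻¹ * x⁻¹) := by rw [ih, mul_assoc]
        _ = y * (x ^ (k + 1))⁻¹ := by rw [← _root_.mul_inv_rev, ← pow_succ']
  let f : QuaternionGroup n → G := fun g => match g with
    | QuaternionGroup.a i => x ^ i.val
    | QuaternionGroup.xa i => y * x ^ i.val
  refine ⟨MonoidHom.mk' f ?_, fun i => rfl, fun i => rfl⟩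
  rintro (i | i) (j | j)
  · change x ^ (i + j).val = _
    exact hadd i j
  · change y * x ^ (j - i).val = x ^ i.val * (y * x ^ j.val)
    rw [← mul_assoc, hconj, mul_assoc, ← hneg, ← hadd, neg_add_eq_sub]
  · change y * x ^ (i + j).val = y * x ^ i.val * x ^ j.val
    rw [hadd, mul_assoc]
  · change x ^ ((n : ZMod (2 * n)) + j - i).val = y * x ^ i.val * (y * x ^ j.val)
    rw [mul_assoc, ← mul_assoc (x ^ i.val), hconj, mul_assoc, ← mul_assoc y y, hy, ← hneg,
      ← hadd, ← hn, ← hadd]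
    congr 2; ring

theorem quat_hom_injective (n : ℕ) [NeZero n] (x y : G) (f : QuaternionGroup n →* G)
    (hfa : ∀ i : ZMod (2 * n), f (QuaternionGroup.a i) = x ^ i.val)
    (hfxa : ∀ i : ZMod (2 * n), f (QuaternionGroup.xa i) = y * x ^ i.val)
    (hox : orderOf x = 2 * n) (hy : y ∉ Subgroup.zpowers x) : Function.Injective f := by
  rw [injective_iff_map_eq_one]
  rintro (i | i) h
  · rw [hfa] at h
    have h1 : orderOf x ∣ i.val := orderOf_dvd_of_pow_eq_one h
    have h2 : i.val < 2 * n := ZMod.val_lt i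
    have h3 : i.val = 0 := Nat.eq_zero_of_dvd_of_lt h1 (by rw [hox]; exact h2)
    have : i = 0 := (ZMod.val_eq_zero i).1 h3
    rw [this]; rfl
  · exfalso
    rw [hfxa] at h
    apply hy
    have : y = (x ^ i.val)⁻¹ := eq_inv_of_mul_eq_one_left h
    rw [this]
    exact inv_mem (Subgroup.pow_mem _ (Subgroup.mem_zpowers x) _)

theorem sylow_equiv {G H : Type*} [Group G] [Finite G] [Group H] (f : H →* G)
    (hf : Function.Injective f) (k m : ℕ) (hH : Nat.card H = 2 ^ k)
    (hG : Nat.card G = 2 ^ k * m) (hm : ¬ 2 ∣ m) (P : Sylow 2 G) :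
    Nonempty ((P : Subgroup G) ≃* H) := by
  have hm0 : m ≠ 0 := by rintro rfl; simp at hm
  have hfac : (Nat.card G).factorization 2 = k := by
    rw [hG, Nat.factorization_mul (by positivity) hm0, Finsupp.add_apply,
      Nat.factorization_eq_zero_of_not_dvd hm, Nat.Prime.factorization_pow Nat.prime_two]
    simp
  have hcard : Nat.card f.range = 2 ^ (Nat.card G).factorization 2 := by
    rw [hfac, ← hH]
    exact (Nat.card_congr (MonoidHom.ofInjective hf).toEquiv).symm
  let P₀ : Sylow 2 G := Sylow.ofCard f.range hcard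
  have e1 : (P : Subgroup G) ≃* (P₀ : Subgroup G) := Sylow.equiv P P₀
  have e2 : (P₀ : Subgroup G) ≃* f.range := MulEquiv.subgroupCongr (Sylow.coe_ofCard _ _)
  exact ⟨e1.trans (e2.trans (MonoidHom.ofInjective hf).symm)⟩

theorem exists_orderOf_eq {C : Type*} [Group C] [IsCyclic C] [Finite C] (d : ℕ)
    (hd : d ∣ Nat.card C) : ∃ c : C, orderOf c = d := by
  obtain ⟨g, hg⟩ := IsCyclic.exists_ofOrder_eq_natCard (α := C)
  obtain ⟨e, he⟩ := hd
  have hpos : 0 < Nat.card C := Nat.card_pos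
  have he0 : e ≠ 0 := by rintro rfl; omega
  have hd0 : d ≠ 0 := by rintro rfl; omega
  refine ⟨g ^ e, ?_⟩
  rw [orderOf_pow_of_dvd he0 (by rw [hg, he]; exact dvd_mul_left e d), hg, he]
  exact Nat.mul_div_cancel _ (Nat.pos_of_ne_zero he0)

end generic

section SL2
variable {E : Type*} [Field E]

/-- the Weyl element -/
def w : Matrix.SpecialLinearGroup (Fin 2) E :=
  ⟨!![0, 1; -1, 0], by rw [Matrix.det_fin_two_of]; simp⟩

theorem torus_mul_w (ζ : Eˣ) : torus ζ * w = w * (torus ζ)⁻¹ := by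
  rw [← map_inv]
  apply Subtype.ext
  change (!![(ζ : E), 0; 0, ((ζ⁻¹ : Eˣ) : E)] : Matrix (Fin 2) (Fin 2) E) * !![0, 1; -1, 0] =
    !![0, 1; -1, 0] * !![((ζ⁻¹ : Eˣ) : E), 0; 0, (((ζ⁻¹)⁻¹ : Eˣ) : E)]
  rw [Matrix.mul_fin_two, Matrix.mul_fin_two]
  simp

theorem w_mul_w (ζ : Eˣ) (n : ℕ) (h : (ζ : E) ^ n = -1) : w * w = (torus ζ) ^ n := by
  rw [← map_pow]
  apply Subtype.ext
  change (!![0, 1; -1, 0] : Matrix (Fin 2) (Fin 2) E) * !![0, 1; -1, 0] =
    !![((ζ ^ n : Eˣ) : E), 0; 0, (((ζ ^ n)⁻¹ : Eˣ) : E)]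
  rw [Matrix.mul_fin_two]
  simp [h]

theorem w_not_mem (ζ : Eˣ) : (w : Matrix.SpecialLinearGroup (Fin 2) E) ∉ Subgroup.zpowers (torus ζ) := by
  rintro ⟨k, hk⟩
  change torus ζ ^ k = w at hk
  rw [← map_zpow] at hk
  have h1 := congrArg (fun g : Matrix.SpecialLinearGroup (Fin 2) E => g.1 0 1) hk
  change (!![((ζ ^ k : Eˣ) : E), 0; 0, (((ζ ^ k)⁻¹ : Eˣ) : E)] : Matrix (Fin 2) (Fin 2) E) 0 1 =
    (!![0, 1; -1, 0] : Matrix (Fin 2) (Fin 2) E) 0 1 at h1
  simp at h1

theorem pow_eq_neg_one (ζ : Eˣ) (n : ℕ) (ho : orderOf ζ = 2 * n) (hn : n ≠ 0) :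
    (ζ : E) ^ n = -1 := by
  have h1 : ((ζ : E) ^ n) ^ 2 = 1 := by
    rw [← pow_mul, mul_comm, ← ho, ← Units.val_pow_eq_pow_val, pow_orderOf_eq_one, Units.val_one]
  have h2 : (ζ : E) ^ n ≠ 1 := by
    intro h
    have : ζ ^ n = 1 := Units.ext (by rw [Units.val_pow_eq_pow_val, h, Units.val_one])
    have := orderOf_dvd_of_pow_eq_one this
    rw [ho] at this
    have := Nat.le_of_dvd (Nat.pos_of_ne_zero hn) this
    omega
  rcases sq_eq_one_iff.1 h1 with h | h <;> first | exact absurd h h2 | exact h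

end SL2

section SU
variable {E : Type*} [Field E] {q : ℕ}

theorem w_mem_SU (hq : Odd q) : (w : Matrix.SpecialLinearGroup (Fin 2) E) ∈ Cfsg.SU 2 E q := by
  intro u v
  have hM : slToMat 2 E (w : Matrix.SpecialLinearGroup (Fin 2) E) = !![0, 1; -1, 0] := rfl
  rw [hM]
  unfold hermForm
  rw [Fin.sum_univ_two, Fin.sum_univ_two]
  simp [Matrix.mulVec, dotProduct, Fin.sum_univ_two, hq.neg_pow]
  ring

end SU

theorem result {F : Type*} [Field F] [Fintype F] (hF : Odd (Fintype.card F)) (P : Sylow 2 (Matrix.SpecialLinearGroup (Fin 2) F)) : ∃ k : ℕ, 1 ≤ k ∧ Nonempty ((P : Subgroup (Matrix.SpecialLinearGroup (Fin 2) F)) ≃* QuaternionGroup (2 ^ k)) := by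
  classical
  obtain ⟨p, hp⟩ := CharP.exists F
  have hprime : p.Prime := CharP.char_is_prime F p
  have hfact : Fact p.Prime := ⟨hprime⟩
  obtain ⟨k', -, hk'⟩ := FiniteField.card F p
  have hG := card_sl_two (F := F)
  have hq2 : 2 ≤ Fintype.card F := Fintype.one_lt_card
  obtain ⟨t, ht⟩ := hF
  have hqmod : Fintype.card F % 4 = 1 ∨ Fintype.card F % 4 = 3 := by omega
  rcases hqmod with h4 | h4
  · -- split torus
    obtain ⟨s, m, hm, hsm⟩ := Nat.exists_eq_two_pow_mul_odd (n := Fintype.card F - 1) (by omega)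
    obtain ⟨tm, htm⟩ := hm
    have hs2 : 2 ≤ s := by
      by_contra hlt
      push Not at hlt
      interval_cases s
      · omega
      · omega
    obtain ⟨s', rfl⟩ : ∃ s', s = s' + 2 := ⟨s - 2, by omega⟩
    obtain ⟨ζ, hζ⟩ := exists_orderOf_eq (C := Fˣ) (2 ^ (s' + 2)) (by
      rw [Nat.card_units, Nat.card_eq_fintype_card, hsm]; exact dvd_mul_right _ _)
    set n := 2 ^ (s' + 1) with hn
    have h2n : 2 * n = 2 ^ (s' + 2) := by rw [hn]; ring
    have hne : NeZero n := ⟨by positivity⟩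
    rw [← h2n] at hζ
    have hpow := pow_eq_neg_one ζ n hζ (NeZero.ne n)
    obtain ⟨f, hfa, hfxa⟩ := quat_hom n (torus ζ) w
      (by rw [← map_pow, ← hζ, pow_orderOf_eq_one, map_one]) (w_mul_w ζ n hpow) (torus_mul_w ζ)
    have hinj := quat_hom_injective n (torus ζ) w f hfa hfxa
      (by rw [orderOf_injective torus torus_injective, hζ]) (w_not_mem ζ)
    refine ⟨s' + 1, by omega, ?_⟩
    obtain ⟨m', hm'⟩ : ∃ m', Fintype.card F + 1 = 2 * (2 * m' + 1) :=
      ⟨(Fintype.card F + 1) / 4, by omega⟩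
    apply sylow_equiv f hinj (s' + 3) (Fintype.card F * m * (2 * m' + 1))
    · rw [Nat.card_eq_fintype_card, QuaternionGroup.card, hn]; ring
    · rw [hG, hm']
      rw [hsm]
      ring
    · rw [Nat.Prime.dvd_mul Nat.prime_two, Nat.Prime.dvd_mul Nat.prime_two]
      omega
  · -- non-split torus
    obtain ⟨s, m, hm, hsm⟩ := Nat.exists_eq_two_pow_mul_odd (n := Fintype.card F + 1) (by omega)
    obtain ⟨tm, htm⟩ := hm
    have hs2 : 2 ≤ s := by
      by_contra hlt
      push Not at hlt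
      interval_cases s
      · omega
      · omega
    obtain ⟨s', rfl⟩ : ∃ s', s = s' + 2 := ⟨s - 2, by omega⟩
    have hfin : Finite (GaloisField p (2 * (k' : ℕ))) := inferInstance
    have := Fintype.ofFinite (GaloisField p (2 * (k' : ℕ)))
    have hE : Fintype.card (GaloisField p (2 * (k' : ℕ))) = Fintype.card F ^ 2 := by
      rw [← Nat.card_eq_fintype_card, GaloisField.card p _ (by
        have := k'.pos; omega), hk', ← pow_mul, mul_comm]
    obtain ⟨e⟩ := Cfsg.Agent.S0281.result (F := GaloisField p (2 * (k' : ℕ))) (K := F) hE rfl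
    obtain ⟨ζ', hζ'⟩ := exists_orderOf_eq
      (C := N1 (GaloisField p (2 * (k' : ℕ))) (Fintype.card F)) (2 ^ (s' + 2)) (by
      rw [card_N1 hE, hsm]; exact dvd_mul_right _ _)
    set n := 2 ^ (s' + 1) with hn
    have h2n : 2 * n = 2 ^ (s' + 2) := by rw [hn]; ring
    have hne : NeZero n := ⟨by positivity⟩
    rw [← h2n] at hζ'
    set ζ : (GaloisField p (2 * (k' : ℕ)))ˣ := (ζ' : (GaloisField p (2 * (k' : ℕ)))ˣ) with hζdef
    have hζ : orderOf ζ = 2 * n := by rw [hζdef, Subgroup.orderOf_coe, hζ']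
    have hpow := pow_eq_neg_one ζ n hζ (NeZero.ne n)
    set y' : Cfsg.SU 2 (GaloisField p (2 * (k' : ℕ))) (Fintype.card F) :=
      ⟨w, w_mem_SU ⟨t, ht⟩⟩ with hy'
    obtain ⟨f, hfa, hfxa⟩ := quat_hom n (nstorus ζ') y'
      (by rw [← map_pow, ← hζ', pow_orderOf_eq_one, map_one])
      (by
        apply Subtype.ext
        exact w_mul_w ζ n hpow)
      (by
        apply Subtype.ext
        exact torus_mul_w ζ)
    have hinj := quat_hom_injective n (nstorus ζ') y' f hfa hfxa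
      (by rw [orderOf_injective nstorus nstorus_injective, hζ'])
      (by
        rintro ⟨j, hj⟩
        apply w_not_mem ζ
        refine ⟨j, ?_⟩
        have h1 := congrArg Subtype.val hj
        change ((nstorus ζ' ^ j : Cfsg.SU 2 (GaloisField p (2 * (k' : ℕ))) (Fintype.card F)) :
          Matrix.SpecialLinearGroup (Fin 2) (GaloisField p (2 * (k' : ℕ)))) = w at h1
        rw [Subgroup.coe_zpow] at h1
        exact h1)
    refine ⟨s' + 1, by omega, ?_⟩
    obtain ⟨m', hm'⟩ : ∃ m', Fintype.card F - 1 = 2 * (2 * m' + 1) :=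
      ⟨(Fintype.card F - 1) / 4, by omega⟩
    apply sylow_equiv (e.toMonoidHom.comp f) (e.injective.comp hinj) (s' + 3)
      (Fintype.card F * m * (2 * m' + 1))
    · rw [Nat.card_eq_fintype_card, QuaternionGroup.card, hn]; ring
    · rw [hG, hm']
      rw [hsm]
      ring
    · rw [Nat.Prime.dvd_mul Nat.prime_two, Nat.Prime.dvd_mul Nat.prime_two]
      omega

end Cfsg.Agent.S0261
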