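import Cfsg.Statements.S3963
import Mathlib
import Cfsg.Agent.H1.Basic
import Cfsg.Agent.H1.MinNonPClosed
import Cfsg.Prelude.Def_KGroupFacts
import Cfsg.Agent.H1.StemMeta

set_option autoImplicit false
open Cfsg

namespace Cfsg.Agent.S3963

set_option autoImplicit false
open H1

/-- For every `n ≥ 1` the dicyclic (generalized quaternion) group of order `4 n` has trivial Schur multiplier. -/
theorem result (n : ℕ) [NeZero n] : Cfsg.HasCyclicSchurMultiplier (QuaternionGroup n) 1 := by
  apply hasCyclicSchurMultiplier_one_of_ker_eq_bot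
  intro Γ _ _ σ hσ
  obtain ⟨hsurj, hcen, hcomm⟩ := hσ
  obtain ⟨at', hat⟩ := hsurj (QuaternionGroup.a 1)
  obtain ⟨xt, hxt⟩ := hsurj (QuaternionGroup.xa 0)
  have hgen : Subgroup.closure {σ at', σ xt} = ⊤ := by
    rw [hat, hxt, eq_top_iff]
    intro g _
    have hr : ∀ i : ZMod (2 * n), QuaternionGroup.a i ∈
        Subgroup.closure {QuaternionGroup.a (1 : ZMod (2 * n)), QuaternionGroup.xa 0} := by
      intro i
      have : QuaternionGroup.a i = (QuaternionGroup.a (1 : ZMod (2 * n))) ^ i.val := by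
        rw [QuaternionGroup.a_one_pow, ZMod.natCast_zmod_val]
      rw [this]
      exact pow_mem (Subgroup.subset_closure (Set.mem_insert _ _)) _
    cases g with
    | a i => exact hr i
    | xa i =>
      have : QuaternionGroup.xa i = QuaternionGroup.xa 0 * QuaternionGroup.a i := by
        rw [QuaternionGroup.xa_mul_a, zero_add]
      rw [this]
      exact mul_mem (Subgroup.subset_closure (Set.mem_insert_of_mem _ rfl)) (hr i)
  have hinv : σ (xt * at' * xt⁻¹) = (σ at')⁻¹ := by
    rw [map_mul, map_mul, map_inv, hat, hxt]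
    have ha_inv : (QuaternionGroup.a (1 : ZMod (2 * n)))⁻¹ = QuaternionGroup.a (-1) :=
      inv_eq_of_mul_eq_one_right (by rw [QuaternionGroup.a_mul_a, add_neg_cancel, QuaternionGroup.a_zero])
    rw [ha_inv, mul_inv_eq_iff_eq_mul, QuaternionGroup.xa_mul_a, QuaternionGroup.a_mul_xa]
    simp
  obtain ⟨h1, -, h3⟩ := stem_metacyclic σ hcen hcomm at' xt hgen hinv
  rw [eq_bot_iff]
  intro z hz
  obtain ⟨j, hzj, hj⟩ := h1 z hz
  rw [hat] at hj
  have hdvd : 2 * n ∣ 2 * j := by
    have := orderOf_dvd_of_pow_eq_one hj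
    rwa [QuaternionGroup.orderOf_a_one] at this
  have hdvd' : n ∣ j := Nat.dvd_of_mul_dvd_mul_left (by norm_num) hdvd
  have hcn := h3 n (by
    rw [map_pow, hat, hxt, QuaternionGroup.xa_sq, QuaternionGroup.a_one_pow])
  rw [Subgroup.mem_bot, hzj]
  obtain ⟨m, rfl⟩ := hdvd'
  rw [pow_mul, hcn, one_pow]

end Cfsg.Agent.S3963
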