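import Cfsg.Statements.S0335
import Mathlib

set_option autoImplicit false
open Cfsg

namespace Cfsg.Agent.S0335

section alg
variable {F : Type*} [Field F] [Fintype F] (m : ℕ)
set_option linter.unusedSectionVars false

/-- the Tits endomorphism -/
def sg (t : F) : F := t ^ (2 ^ (m + 1))

/-- the defining function of the ovoid -/
def ff (x y : F) : F := x * y + sg m x * x ^ 2 + sg m y

theorem ff_eq (x y : F) : x * y + x ^ (2 ^ (m + 1) + 2) + y ^ (2 ^ (m + 1)) = ff m x y := by
  unfold ff sg
  rw [pow_add]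

theorem sg_mul (a b : F) : sg m (a * b) = sg m a * sg m b := by
  unfold sg; rw [mul_pow]

theorem sg_zero : sg m (0 : F) = 0 := by
  unfold sg; simp

theorem sg_one : sg m (1 : F) = 1 := by
  unfold sg; simp

theorem sg_pow (a : F) (k : ℕ) : sg m (a ^ k) = sg m a ^ k := by
  unfold sg; rw [← pow_mul, ← pow_mul, mul_comm]

theorem sg_inv (a : F) : sg m a⁻¹ = (sg m a)⁻¹ := by
  unfold sg; rw [inv_pow]

theorem sg_div (a b : F) : sg m (a / b) = sg m a / sg m b := by
  unfold sg; rw [div_pow]

theorem sg_eq_zero (a : F) (h : sg m a = 0) : a = 0 := by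
  unfold sg at h
  exact pow_eq_zero_iff (by positivity) |>.1 h

variable [CharP F 2]

theorem two_eq_zero' : (2 : F) = 0 := CharTwo.two_eq_zero

theorem sg_add (a b : F) : sg m (a + b) = sg m a + sg m b := by
  unfold sg
  have : Fact (Nat.Prime 2) := ⟨Nat.prime_two⟩
  exact add_pow_char_pow a b 2 (m + 1)

variable (hF : Fintype.card F = 2 ^ (2 * m + 1))
include hF

theorem sg_sg (a : F) : sg m (sg m a) = a ^ 2 := by
  unfold sg
  rw [← pow_mul, ← pow_add]
  have : m + 1 + (m + 1) = (2 * m + 1) + 1 := by ring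
  rw [this, pow_succ, pow_mul, ← hF, FiniteField.pow_card]

/-- the function `ff` vanishes only at the origin -/
theorem ff_eq_zero (x y : F) (h : ff m x y = 0) : x = 0 ∧ y = 0 := by
  have h2 := two_eq_zero' (F := F)
  by_cases hx : x = 0
  · subst hx
    unfold ff at h
    rw [sg_zero] at h
    simp at h
    exact ⟨rfl, sg_eq_zero m y h⟩
  · exfalso
    have hX : sg m x ≠ 0 := fun h' => hx (sg_eq_zero m x h')
    set t := y / (sg m x * x) with ht
    have hy : y = t * (sg m x * x) := by
      rw [ht]; field_simp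
    have h1 : sg m t = t + 1 := by
      unfold ff at h
      rw [hy, sg_mul, sg_mul, sg_sg m hF] at h
      have : sg m x * x ^ 2 * (t + 1 + sg m t) = 0 := by linear_combination h
      rcases mul_eq_zero.1 this with h' | h'
      · exact absurd h' (mul_ne_zero hX (pow_ne_zero 2 hx))
      · linear_combination h' - (t + 1) * h2
    have h3 : t ^ 2 = t := by
      have := congrArg (sg m) h1
      rw [sg_sg m hF, sg_add, sg_one, h1] at this
      linear_combination this + h2
    have h4 : sg m t = t := by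
      have ht01 : t = 0 ∨ t = 1 := by
        have : t * (t - 1) = 0 := by linear_combination h3
        rcases mul_eq_zero.1 this with h' | h'
        · exact Or.inl h'
        · exact Or.inr (sub_eq_zero.1 h')
      rcases ht01 with h' | h'
      · rw [h', sg_zero]
      · rw [h', sg_one]
    rw [h4] at h1
    have : (1 : F) = 0 := by linear_combination -h1
    exact one_ne_zero this

/-- the translation identity -/
theorem ff_translate (a b x y : F) :
    ff m (x + a) (y + sg m a * x + b) =
      ff m x y + a * y + (sg m a * a + b) * x + ff m a b := by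
  have h2 := two_eq_zero' (F := F)
  unfold ff
  rw [sg_add, sg_add, sg_add, sg_mul, sg_sg m hF]
  linear_combination (sg m a * x ^ 2 + a ^ 2 * sg m x + sg m a * a * x + sg m x * x * a) * h2

/-- the inversion identity -/
theorem ff_invert (x y : F) (h : ff m x y ≠ 0) :
    ff m (y / ff m x y) (x / ff m x y) = 1 / ff m x y := by
  have h2 := two_eq_zero' (F := F)
  have hS : sg m (ff m x y) ≠ 0 := fun h' => h (sg_eq_zero m _ h')
  have hSv : sg m (ff m x y) = sg m x * sg m y + x ^ 2 * sg m x ^ 2 + y ^ 2 := by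
    unfold ff
    rw [sg_add, sg_add, sg_mul, sg_mul, sg_sg m hF, sg_sg m hF, sg_pow]
  set Fv := ff m x y with hFv
  set S := sg m Fv with hSdef
  have key : x * y * S + sg m y * y ^ 2 + sg m x * Fv ^ 2 = Fv * S := by
    rw [hSv, hFv]
    unfold ff
    linear_combination (x * y * sg m x * sg m y + x ^ 3 * y * sg m x ^ 2) * h2
  unfold ff
  rw [sg_div, sg_div, ← hSdef]
  field_simp
  linear_combination key

end alg

section geom
variable {F : Type*} [Field F] [Fintype F] [CharP F 2] (m : ℕ)
set_option linter.unusedSectionVars false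

/-- the affine points -/
def vec (x y : F) : Fin 4 → F := ![ff m x y, y, x, 1]

/-- the point at infinity -/
def e0 : Fin 4 → F := ![1, 0, 0, 0]

/-- the basic case: the point at infinity and two distinct affine points -/
theorem indep_basic (v : Fin 3 → (Fin 4 → F)) (c₁ c₂ x₁ y₁ x₂ y₂ : F) (hc₁ : c₁ ≠ 0) (hc₂ : c₂ ≠ 0)
    (h0 : v 0 = e0) (h1 : v 1 = c₁ • vec m x₁ y₁) (h2 : v 2 = c₂ • vec m x₂ y₂)
    (hne : ¬ (x₁ = x₂ ∧ y₁ = y₂)) : LinearIndependent F v := by
  rw [Fintype.linearIndependent_iff]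
  intro g hg
  rw [Fin.sum_univ_three, h0, h1, h2] at hg
  have e3 := congrFun hg 3
  have e2 := congrFun hg 2
  have e1 := congrFun hg 1
  have e0' := congrFun hg 0
  simp [e0, vec] at e3 e2 e1 e0'
  have hα : g 1 * c₁ = 0 := by
    by_contra hα
    apply hne
    have hβ : g 2 * c₂ = -(g 1 * c₁) := by linear_combination e3
    constructor
    · have : g 1 * c₁ * (x₁ - x₂) = 0 := by linear_combination e2 - x₂ * e3
      exact sub_eq_zero.1 ((mul_eq_zero.1 this).resolve_left hα)
    · have : g 1 * c₁ * (y₁ - y₂) = 0 := by linear_combination e1 - y₂ * e3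
      exact sub_eq_zero.1 ((mul_eq_zero.1 this).resolve_left hα)
  have hg1 : g 1 = 0 := (mul_eq_zero.1 hα).resolve_right hc₁
  have hβ : g 2 * c₂ = 0 := by linear_combination e3 - hα
  have hg2 : g 2 = 0 := (mul_eq_zero.1 hβ).resolve_right hc₂
  have hg0 : g 0 = 0 := by
    rw [hg1, hg2] at e0'
    simpa using e0'
  intro i
  fin_cases i
  · exact hg0
  · exact hg1
  · exact hg2

/-- the matrix moving `vec a b'` to the point at infinity -/
def G (a b : F) : Matrix (Fin 4) (Fin 4) F :=
  !![0, 0, 0, 1; 0, 0, 1, a; 0, 1, sg m a, b; 1, a, sg m a * a + b, ff m a b]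

variable (hF : Fintype.card F = 2 ^ (2 * m + 1))
include hF

theorem G_vec (a b x y : F) :
    Matrix.mulVec (G m a b) (vec m x y) =
      ![1, x + a, y + sg m a * x + b, ff m (x + a) (y + sg m a * x + b)] := by
  rw [ff_translate m hF]
  unfold G vec
  funext i
  fin_cases i <;> simp [Matrix.mulVec, dotProduct, Fin.sum_univ_four]

theorem G_vec_zero (a b x y : F) (hx : x + a = 0) (hy : y + sg m a * x + b = 0) :
    Matrix.mulVec (G m a b) (vec m x y) = e0 := by
  rw [G_vec m hF, hx, hy]
  unfold e0 ff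
  simp [sg_zero]

theorem G_vec_ne_zero (a b x y : F) (h : ¬ (x + a = 0 ∧ y + sg m a * x + b = 0)) :
    ∃ c x' y', c ≠ 0 ∧ Matrix.mulVec (G m a b) (vec m x y) = c • vec m x' y' ∧
      (1 : F) = c * ff m x' y' ∧ x + a = c * y' ∧ y + sg m a * x + b = c * x' := by
  set x₁ := x + a with hx₁
  set y₁ := y + sg m a * x + b with hy₁
  have hf : ff m x₁ y₁ ≠ 0 := by
    intro hf
    exact h (ff_eq_zero m hF x₁ y₁ hf)
  refine ⟨ff m x₁ y₁, y₁ / ff m x₁ y₁, x₁ / ff m x₁ y₁, hf, ?_, ?_, ?_, ?_⟩
  · rw [G_vec m hF, ← hx₁, ← hy₁]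
    unfold vec
    rw [ff_invert m hF x₁ y₁ hf]
    funext i
    fin_cases i <;> simp <;> field_simp
  · rw [ff_invert m hF x₁ y₁ hf]
    field_simp
  · field_simp
  · field_simp

end geom

theorem result {F : Type*} [Field F] [Fintype F] {m : ℕ} (hm : 1 ≤ m)
    (hF : Fintype.card F = 2 ^ (2 * m + 1)) (p : Fin 3 ↪ Cfsg.suzukiOvoid F m) :
    Projectivization.Independent (fun i => (p i : Projectivization F (Fin 4 → F))) := by
  classical
  have h2 : (2 : F) = 0 := by
    have := Nat.cast_card_eq_zero F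
    rw [hF] at this
    push_cast at this
    exact pow_eq_zero_iff (by omega) |>.1 this
  have hchar : CharP F 2 := by
    have : ringChar F = 2 := CharP.ringChar_of_prime_eq_zero Nat.prime_two (by exact_mod_cast h2)
    exact ringChar.of_eq this
  have hself : ∀ t : F, t + t = 0 := fun t => by linear_combination t * h2
  choose v hv hmk hor using fun i => (p i).2
  have hor' : ∀ i, v i = e0 ∨ ∃ x y, v i = vec m x y := by
    intro i
    rcases hor i with h | ⟨x, y, h⟩
    · exact Or.inl h
    · refine Or.inr ⟨x, y, ?_⟩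
      rw [h, ff_eq]
      rfl
  have hfun : (fun i => (p i : Projectivization F (Fin 4 → F))) =
      fun i => Projectivization.mk F (v i) (hv i) := funext hmk
  rw [hfun]
  refine Projectivization.Independent.mk v hv ?_
  have hvne : ∀ i j, i ≠ j → v i ≠ v j := by
    intro i j hij h
    apply hij
    apply p.injective
    apply Subtype.ext
    rw [hmk i, hmk j]
    simp only [h]
  by_cases hinf : ∃ i, v i = e0
  · obtain ⟨i₀, hi₀⟩ := hinf
    set σ : Equiv.Perm (Fin 3) := Equiv.swap 0 i₀ with hσ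
    have hσ0 : σ 0 = i₀ := Equiv.swap_apply_left 0 i₀
    have haff : ∀ j, σ j ≠ i₀ → ∃ x y, v (σ j) = vec m x y := by
      intro j hj
      rcases hor' (σ j) with h | h
      · exact absurd (h.trans hi₀.symm) (hvne _ _ hj)
      · exact h
    have h1 : σ 1 ≠ i₀ := by
      rw [← hσ0]; intro h; exact absurd (σ.injective h) (by decide)
    have h2' : σ 2 ≠ i₀ := by
      rw [← hσ0]; intro h; exact absurd (σ.injective h) (by decide)
    obtain ⟨x₁, y₁, e1⟩ := haff 1 h1
    obtain ⟨x₂, y₂, e2⟩ := haff 2 h2'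
    have := indep_basic m (v ∘ σ) 1 1 x₁ y₁ x₂ y₂ one_ne_zero one_ne_zero
      (by rw [Function.comp_apply, hσ0, hi₀]) (by rw [Function.comp_apply, e1, one_smul])
      (by rw [Function.comp_apply, e2, one_smul])
      (by
        rintro ⟨rfl, rfl⟩
        exact hvne (σ 1) (σ 2) (fun h => absurd (σ.injective h) (by decide)) (e1.trans e2.symm))
    exact (linearIndependent_equiv σ).1 this
  · push Not at hinf
    have haff : ∀ i, ∃ x y, v i = vec m x y := fun i => (hor' i).resolve_left (hinf i)
    obtain ⟨x₀, y₀, e0'⟩ := haff 0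
    obtain ⟨x₁, y₁, e1⟩ := haff 1
    obtain ⟨x₂, y₂, e2⟩ := haff 2
    set a := x₀ with ha
    set b := y₀ + sg m a * x₀ with hb
    have hne01 : ¬ (x₁ = x₀ ∧ y₁ = y₀) := by
      rintro ⟨rfl, rfl⟩
      exact hvne 0 1 (by decide) (e0'.trans e1.symm)
    have hne02 : ¬ (x₂ = x₀ ∧ y₂ = y₀) := by
      rintro ⟨rfl, rfl⟩
      exact hvne 0 2 (by decide) (e0'.trans e2.symm)
    have hne12 : ¬ (x₁ = x₂ ∧ y₁ = y₂) := by
      rintro ⟨rfl, rfl⟩
      exact hvne 1 2 (by decide) (e1.trans e2.symm)
    have key : ∀ x y : F, ¬ (x = x₀ ∧ y = y₀) → ¬ (x + a = 0 ∧ y + sg m a * x + b = 0) := by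
      rintro x y hxy ⟨h1, h2'⟩
      apply hxy
      have hx : x = x₀ := by linear_combination h1 - hself a
      refine ⟨hx, ?_⟩
      rw [hb, hx] at h2'
      linear_combination h2' - hself y₀ - hself (sg m a * x₀)
    obtain ⟨c₁, x₁', y₁', hc₁, hG1, hf1, hx1, hy1⟩ :=
      G_vec_ne_zero m hF a b x₁ y₁ (key x₁ y₁ hne01)
    obtain ⟨c₂, x₂', y₂', hc₂, hG2, hf2, hx2, hy2⟩ :=
      G_vec_ne_zero m hF a b x₂ y₂ (key x₂ y₂ hne02)
    have hG0 : Matrix.mulVec (G m a b) (vec m x₀ y₀) = e0 :=
      G_vec_zero m hF a b x₀ y₀ (hself a) (by rw [hb]; linear_combination hself (y₀ + sg m a * x₀))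
    have := indep_basic m (fun i => Matrix.mulVec (G m a b) (v i)) c₁ c₂ x₁' y₁' x₂' y₂' hc₁ hc₂
      (by rw [e0', hG0]) (by rw [e1, hG1]) (by rw [e2, hG2])
      (by
        rintro ⟨rfl, rfl⟩
        have hcc : c₁ = c₂ := by
          have hf0 : ff m x₁' y₁' ≠ 0 := by
            intro h
            rw [h, mul_zero] at hf1
            exact one_ne_zero hf1
          have : (c₁ - c₂) * ff m x₁' y₁' = 0 := by linear_combination hf2 - hf1
          exact sub_eq_zero.1 ((mul_eq_zero.1 this).resolve_right hf0)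
        apply hne12
        subst hcc
        have hx : x₁ = x₂ := by linear_combination hx1 - hx2
        refine ⟨hx, ?_⟩
        rw [hx] at hy1
        linear_combination hy1 - hy2)
    exact LinearIndependent.of_comp (Matrix.mulVecLin (G m a b)) this

end Cfsg.Agent.S0335
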