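import Cfsg.Statements.S0326
import Mathlib

set_option autoImplicit false
open Cfsg

namespace Cfsg.Agent.S0326

section
variable {F : Type*} [Field F] (m : ℕ)

/-- the affine points -/
def vec (p : F × F) : Fin 4 → F :=
  ![p.1 * p.2 + p.1 ^ (2 ^ (m + 1) + 2) + p.2 ^ (2 ^ (m + 1)), p.2, p.1, 1]

theorem vec_ne_zero (p : F × F) : vec m p ≠ 0 := by
  intro h
  have := congrFun h 3
  simp [vec] at this

theorem e0_ne_zero : (![1, 0, 0, 0] : Fin 4 → F) ≠ 0 := by
  intro h
  have := congrFun h 0
  simp at this

/-- the parametrisation -/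
noncomputable def param : Option (F × F) → Projectivization F (Fin 4 → F)
  | none => Projectivization.mk F ![1, 0, 0, 0] e0_ne_zero
  | some p => Projectivization.mk F (vec m p) (vec_ne_zero m p)

theorem param_mem (o : Option (F × F)) : param m o ∈ suzukiOvoid F m := by
  rcases o with _ | p
  · exact ⟨![1, 0, 0, 0], e0_ne_zero, rfl, Or.inl rfl⟩
  · exact ⟨vec m p, vec_ne_zero m p, rfl, Or.inr ⟨p.1, p.2, rfl⟩⟩

theorem param_injective : Function.Injective (param (F := F) m) := by
  intro o o' h
  rcases o with _ | p <;> rcases o' with _ | p'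
  · rfl
  · exfalso
    unfold param at h
    rw [Projectivization.mk_eq_mk_iff'] at h
    obtain ⟨t, ht⟩ := h
    have h3 := congrFun ht 3
    have h0 := congrFun ht 0
    simp [vec] at h3 h0
    rw [h3] at h0
    simp at h0
  · exfalso
    unfold param at h
    rw [Projectivization.mk_eq_mk_iff'] at h
    obtain ⟨t, ht⟩ := h
    have h3 := congrFun ht 3
    simp [vec] at h3
  · unfold param at h
    rw [Projectivization.mk_eq_mk_iff'] at h
    obtain ⟨t, ht⟩ := h
    have h3 := congrFun ht 3
    have h2 := congrFun ht 2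
    have h1 := congrFun ht 1
    simp [vec] at h3 h2 h1
    rw [h3, one_mul] at h2 h1
    exact congrArg some (Prod.ext h2.symm h1.symm)

theorem param_surjective (x : suzukiOvoid F m) : ∃ o, param m o = x.1 := by
  obtain ⟨v, hv, hx, h⟩ := x.2
  rcases h with rfl | ⟨a, b, rfl⟩
  · exact ⟨none, hx.symm⟩
  · exact ⟨some (a, b), hx.symm⟩

end

theorem result {F : Type*} [Field F] [Fintype F] (m : ℕ) :
    Nat.card (Cfsg.suzukiOvoid F m) = Fintype.card F ^ 2 + 1 := by
  classical
  have e : Option (F × F) ≃ suzukiOvoid F m :=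
    Equiv.ofBijective (fun o => ⟨param m o, param_mem m o⟩)
      ⟨fun o o' h => param_injective m (congrArg Subtype.val h),
        fun x => by
          obtain ⟨o, ho⟩ := param_surjective m x
          exact ⟨o, Subtype.ext ho⟩⟩
  rw [← Nat.card_congr e, Nat.card_eq_fintype_card, Fintype.card_option, Fintype.card_prod, pow_two]

end Cfsg.Agent.S0326
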