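import Cfsg.Statements.S0220
import Mathlib
import Cfsg.Agent.H1.Invol
import Cfsg.Agent.S0219

set_option autoImplicit false
open Cfsg

namespace Cfsg.Agent.S0220

open Cfsg.Agent.H1

/-- If x is an involution of a finite group G and a Sylow 2-subgroup of the centralizer of x is cyclic, then G has a subgroup of index 2; in particular G is not simple unless it has order 2. -/
theorem result {G : Type*} [Group G] [Finite G] (x : G) (hx : orderOf x = 2) (S : Sylow 2 ↥(Subgroup.centralizer ({x} : Set G))) (hS : IsCyclic (S : Subgroup ↥(Subgroup.centralizer ({x} : Set G)))) : ∃ H : Subgroup G, H.index = 2 := by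
  have hmemC : ∀ g : G, g ∈ Subgroup.centralizer ({x} : Set G) ↔ g * x = x * g := by
    intro g
    rw [Subgroup.mem_centralizer_iff]
    constructor
    · intro h; exact (h x rfl).symm
    · intro h y hy; rw [Set.mem_singleton_iff] at hy; rw [hy]; exact h.symm
  generalize hC : Subgroup.centralizer ({x} : Set G) = C at S hS hmemC
  have hxC : x ∈ C := (hmemC x).mpr rfl
  let xc : C := ⟨x, hxC⟩
  have hxc_central : ∀ c : C, c * xc = xc * c := by
    intro c; apply Subtype.ext; exact (hmemC c).mp c.2
  have hxc2 : orderOf xc = 2 := by rw [← hx]; exact Subgroup.orderOf_mk x hxC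
  have hxS : xc ∈ S := by
    have hN : (Subgroup.zpowers xc).Normal := by
      constructor
      intro n hn g
      obtain ⟨k, rfl⟩ := Subgroup.mem_zpowers_iff.mp hn
      have : g * xc ^ k * g⁻¹ = xc ^ k := by
        have h1 : Commute g (xc ^ k) := (show Commute g xc from hxc_central g).zpow_right k
        rw [h1.eq, mul_assoc, mul_inv_cancel, mul_one]
      rw [this]; exact Subgroup.zpow_mem_zpowers xc k
    have hp : IsPGroup 2 (Subgroup.zpowers xc) := by
      apply IsPGroup.of_card (n := 1)
      rw [Nat.card_zpowers, hxc2, pow_one]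
    exact hp.le_sylow_of_normal S (Subgroup.mem_zpowers xc)
  set S' : Subgroup G := (S : Subgroup C).map C.subtype with hS'
  have hxS' : x ∈ S' := ⟨xc, hxS, rfl⟩
  have hS'C : S' ≤ C := by
    rintro _ ⟨c, -, rfl⟩; exact c.2
  have hS'p : IsPGroup 2 S' := S.isPGroup'.map _
  have hS'cyc : IsCyclic S' :=
    ((Subgroup.equivMapOfInjective (S : Subgroup C) C.subtype C.subtype_injective).isCyclic).mp hS
  obtain ⟨T, hT⟩ := hS'p.exists_le_sylow
  have hTS : (T : Subgroup G) = S' := by
    by_contra hne
    have hlt : S' < T := lt_of_le_of_ne hT (Ne.symm hne)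
    have hnil : Group.IsNilpotent (T : Subgroup G) := T.isPGroup'.isNilpotent
    have hnc := @Group.normalizerCondition_of_isNilpotent (T : Subgroup G) _ hnil
    have hlt' : S'.subgroupOf T < ⊤ := by
      rw [lt_top_iff_ne_top, Ne, Subgroup.subgroupOf_eq_top]
      exact not_le_of_gt hlt
    obtain ⟨t, htn, htS⟩ := SetLike.exists_of_lt (hnc _ hlt')
    rw [Subgroup.mem_normalizer_iff] at htn
    have hconj : (t : G) * x * (t : G)⁻¹ ∈ S' := by
      have := (htn ⟨x, hT hxS'⟩).mp (by rw [Subgroup.mem_subgroupOf]; exact hxS')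
      rw [Subgroup.mem_subgroupOf] at this
      simpa using this
    -- t x t⁻¹ = x by uniqueness of involutions in cyclic S'
    have hinv : (t : G) * x * (t : G)⁻¹ = x := by
      have h1 : orderOf ((⟨(t : G) * x * (t : G)⁻¹, hconj⟩ : S')) = 2 := by
        rw [Subgroup.orderOf_mk]
        exact ((MulAut.conj (t : G)).orderOf_eq x).trans hx
      have h2 : orderOf ((⟨x, hxS'⟩ : S')) = 2 := by rw [Subgroup.orderOf_mk, hx]
      have := invol_unique_of_isCyclic h1 h2
      exact congrArg Subtype.val this
    have htC : (t : G) ∈ C := by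
      rw [hmemC]
      nth_rewrite 2 [← hinv]
      group
    set U := S' ⊔ Subgroup.zpowers (t : G) with hU
    have hUT : U ≤ T := sup_le hT (by rw [Subgroup.zpowers_le]; exact t.2)
    have hUp : IsPGroup 2 U := T.isPGroup'.to_le hUT
    have hUC : U ≤ C := sup_le hS'C (by rw [Subgroup.zpowers_le]; exact htC)
    have hSU : (S : Subgroup C) ≤ U.subgroupOf C := by
      intro s hs
      rw [Subgroup.mem_subgroupOf]
      exact le_sup_left (a := S') ⟨s, hs, rfl⟩
    have hUS : U.subgroupOf C = S := S.is_maximal' (hUp.comap_subtype) hSU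
    apply htS
    rw [Subgroup.mem_subgroupOf]
    have : (⟨(t : G), htC⟩ : C) ∈ U.subgroupOf C := by
      rw [Subgroup.mem_subgroupOf]
      exact le_sup_right (a := S') (Subgroup.mem_zpowers (t : G))
    rw [hUS] at this
    exact ⟨_, this, rfl⟩
  have hTcyc : IsCyclic (T : Subgroup G) := by rw [hTS]; exact hS'cyc
  have heven : Even (Nat.card G) := by
    rw [even_iff_two_dvd, ← hx]; exact orderOf_dvd_natCard x
  exact Cfsg.Agent.S0219.result heven T hTcyc

end Cfsg.Agent.S0220
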