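import Mathlib
import Cfsg.Statements.S0910
import Cfsg.Agent.Lib.helper3.BlockBasic
import Cfsg.Agent.Lib.helper3.Burnside

set_option autoImplicit false
open Cfsg

set_option linter.style.haveILetI false

namespace Cfsg.Agent.S0910

open Module Cfsg.Agent.Lib.helper3.LocalM Cfsg.Agent.Lib.helper3.Block Cfsg.Agent.Lib.helper3.Irr Cfsg.Agent.Lib.helper3.CharBasic Cfsg.Agent.Lib.helper3.Central Cfsg.Agent.Lib.helper3.IndFun

/-- Let G be a non-abelian finite simple group and p a prime. If an irreducible character χ lies in the principal block (relative to a maximal ideal of the algebraic integers containing p) and χ 1 is a power of p, then χ is the principal character. -/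
theorem result {G : Type*} [Group G] [Finite G] (p : ℕ) [Fact p.Prime] (M : Ideal Cfsg.AlgInt) (hM : Cfsg.IsPModular p M) [IsSimpleGroup G] (hna : ∃ a b : G, a * b ≠ b * a) (χ : Cfsg.IrrCharacter G) (hχ : χ ∈ Cfsg.principalBlock M G) (k : ℕ) (hdeg : (χ : G → ℂ) 1 = (p : ℂ) ^ k) : (χ : G → ℂ) = fun _ => 1 := by
  classical
  letI : Fintype G := Fintype.ofFinite G
  have hp : p.Prime := Fact.out
  haveI hMp : M.IsPrime := hM.2.1.isPrime
  have hMtop : M ≠ ⊤ := hM.2.1.ne_top
  by_contra hχ1
  have hnc : ¬ ∀ a b : G, a * b = b * a := by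
    obtain ⟨a, b, hab⟩ := hna
    intro h
    exact hab (h a b)
  obtain ⟨m, ρ, hirr, hρ⟩ := χ.2
  haveI := hirr
  have hmn : finrank ℂ (Fin m → ℂ) = p ^ k := by
    have := Representation.char_one ρ
    rw [hρ, hdeg] at this
    exact_mod_cast this.symm
  have hcenter : Subgroup.center G = ⊥ := by
    rcases (Subgroup.center G).normal_of_characteristic.eq_bot_or_eq_top with h | h
    · exact h
    · exfalso
      apply hnc
      intro a b
      have : b ∈ Subgroup.center G := by rw [h]; trivial
      exact (Subgroup.mem_center_iff.mp this a)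
  -- an element `g ≠ 1` centralized by a Sylow `p`-subgroup
  obtain ⟨P⟩ : Nonempty (Sylow p G) := inferInstance
  have hex : ∃ g : G, g ≠ 1 ∧ (P : Subgroup G) ≤ Subgroup.centralizer ({g} : Set G) := by
    by_cases hPt : Nontrivial (P : Subgroup G)
    · haveI := hPt
      haveI : Nontrivial (Subgroup.center (P : Subgroup G)) := P.2.center_nontrivial
      obtain ⟨z, hz⟩ := exists_ne (1 : Subgroup.center (P : Subgroup G))
      refine ⟨((z : (P : Subgroup G)) : G), ?_, ?_⟩
      · intro h
        apply hz
        apply Subtype.ext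
        apply Subtype.ext
        exact h
      · intro u hu
        rw [Subgroup.mem_centralizer_iff]
        intro b hb
        rw [Set.mem_singleton_iff] at hb
        subst hb
        have := Subgroup.mem_center_iff.mp z.2 ⟨u, hu⟩
        exact (congrArg Subtype.val this).symm
    · rw [not_nontrivial_iff_subsingleton] at hPt
      obtain ⟨a, b, hab⟩ := hna
      have hne : ∃ g : G, g ≠ 1 := by
        by_contra hcon
        push Not at hcon
        apply hab
        rw [hcon a, hcon b]
      obtain ⟨g, hg⟩ := hne
      refine ⟨g, hg, ?_⟩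
      intro u hu
      have : (⟨u, hu⟩ : (P : Subgroup G)) = 1 := Subsingleton.elim _ _
      have hu1 : u = 1 := congrArg Subtype.val this
      rw [hu1]
      exact Subgroup.one_mem _
  obtain ⟨g, hg, hPle⟩ := hex
  have hpidx : ¬ p ∣ (Subgroup.centralizer ({g} : Set G)).index := by
    intro h
    exact P.not_dvd_index (dvd_trans h (Subgroup.index_dvd_of_le hPle))
  have hcop : Nat.Coprime (finrank ℂ (Fin m → ℂ)) (Subgroup.centralizer ({g} : Set G)).index := by
    rw [hmn]
    exact Nat.Coprime.pow_left k ((Nat.Prime.coprime_iff_not_dvd hp).mpr hpidx)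
  rcases character_eq_zero_or_norm_eq_of_coprime ρ g hcop with h0 | hnorm
  · -- `χ g = 0` contradicts membership in the principal block
    have h1 : Cfsg.SameBlock M (fun _ : G => (1 : ℂ)) (χ : G → ℂ) := hχ
    have h2 := h1 g
    rw [centralChar_one_fun] at h2
    have h3 : Cfsg.centralChar (χ : G → ℂ) g = 0 := by
      unfold Cfsg.centralChar
      rw [← hρ, h0]
      simp
    rw [h3, sub_zero] at h2
    have h4 : (((Subgroup.centralizer ({g} : Set G)).index : Cfsg.AlgInt) : ℂ)
        = ((Subgroup.centralizer ({g} : Set G)).index : ℂ) := by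
      push_cast; rfl
    rw [← h4] at h2
    exact hpidx ((natCast_mem_iff hM _).mp (mem_of_memLocalIdeal h2))
  · obtain ⟨ω, hω⟩ := (norm_character_eq_finrank_iff ρ g).mp hnorm
    rcases (MonoidHom.normal_ker ρ).eq_bot_or_eq_top with hker | hker
    · apply hg
      have : g ∈ Subgroup.center G := by
        rw [Subgroup.mem_center_iff]
        intro y
        have h1 : ρ (y * g) = ρ (g * y) := by
          rw [map_mul, map_mul, hω]
          ext v
          simp
        have h2 : (y * g) * (g * y)⁻¹ ∈ MonoidHom.ker ρ := by
          rw [MonoidHom.mem_ker, map_mul, h1, ← map_mul, mul_inv_cancel, map_one]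
        rw [hker, Subgroup.mem_bot] at h2
        exact mul_inv_eq_one.mp h2
      rw [hcenter, Subgroup.mem_bot] at this
      exact this
    · apply hχ1
      have hall : ∀ x : G, ρ x = 1 := by
        intro x
        have : x ∈ MonoidHom.ker ρ := by rw [hker]; trivial
        exact MonoidHom.mem_ker.mp this
      have hval : ∀ x : G, (χ : G → ℂ) x = (χ : G → ℂ) 1 := by
        intro x
        rw [← hρ]
        simp only [Representation.character, hall]
      have hnorm1 := irr_classInner_self χ.2
      rw [classInner_apply] at hnorm1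
      have hsum : ∑ x : G, (χ : G → ℂ) x * (starRingEnd ℂ) ((χ : G → ℂ) x)
          = (Nat.card G : ℂ) * ((p : ℂ) ^ k * (p : ℂ) ^ k) := by
        have : ∀ x ∈ (Finset.univ : Finset G), (χ : G → ℂ) x * (starRingEnd ℂ) ((χ : G → ℂ) x)
            = (p : ℂ) ^ k * (p : ℂ) ^ k := by
          intro x _
          rw [hval x, hdeg, map_pow, Complex.conj_natCast]
        rw [Finset.sum_congr rfl this, Finset.sum_const, Finset.card_univ, nsmul_eq_mul,
          Nat.card_eq_fintype_card]
      rw [hsum] at hnorm1
      have hG : (Nat.card G : ℂ) ≠ 0 := card_ne_zero_complex G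
      have hn2 : (((p ^ k) * (p ^ k) : ℕ) : ℂ) = 1 := by
        push_cast
        field_simp at hnorm1
        linear_combination hnorm1
      have hn3 : (p ^ k) * (p ^ k) = 1 := by exact_mod_cast hn2
      have hn1 : p ^ k = 1 := Nat.eq_one_of_mul_eq_one_left hn3
      funext x
      rw [hval x, hdeg]
      exact_mod_cast hn1

end Cfsg.Agent.S0910
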