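import Cfsg.Statements.S0077
import Mathlib
import Cfsg.Agent.Lib.Lead.Frobenius
import Cfsg.Agent.Lib.Lead.Conj

set_option autoImplicit false
open Cfsg

namespace Cfsg.Agent.S0077

open scoped commutatorElement
open Cfsg.Agent.Lib.Helper7 Cfsg.Agent.Lib.Lead.Frobenius Cfsg.Agent.Lib.Lead.Conj in
theorem key {G : Type*} [Group G] [Finite G] {p : ℕ} [Fact p.Prime] (P : Sylow p G) (Z : Subgroup G)
    (hZ : Z ≤ Subgroup.centralizer (P : Set G)) (hW : Cfsg.IsWeaklyClosed Z P)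
    (a u : G) (ha : a ∈ (P : Subgroup G)) (hb : u * a * u⁻¹ ∈ (P : Subgroup G)) :
    ∃ h ∈ Subgroup.normalizer (Z : Set G), h * a * h⁻¹ = u * a * u⁻¹ := by
  obtain ⟨hZP, hwc⟩ := hW
  set b := u * a * u⁻¹ with hbdef
  set C := Subgroup.centralizer ({b} : Set G) with hC
  have hZp : IsPGroup p ↥Z := P.isPGroup'.to_le hZP
  have hcomm : ∀ z ∈ Z, ∀ x ∈ (P : Subgroup G), x * z = z * x := by
    intro z hz x hx
    exact (Subgroup.mem_centralizer_iff.1 (hZ hz)) x hx
  have hZC : Z ≤ C := by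
    intro z hz
    rw [hC, Subgroup.mem_centralizer_singleton_iff]
    exact (hcomm z hz b hb).symm
  have hZ2C : Z.map (MulAut.conj u).toMonoidHom ≤ C := by
    rintro _ ⟨z, hz, rfl⟩
    rw [hC, Subgroup.mem_centralizer_singleton_iff]
    have h1 := hcomm z hz a ha
    show u * z * u⁻¹ * b = b * (u * z * u⁻¹)
    rw [hbdef]
    calc u * z * u⁻¹ * (u * a * u⁻¹) = u * (z * a) * u⁻¹ := by group
      _ = u * (a * z) * u⁻¹ := by rw [h1]
      _ = u * a * u⁻¹ * (u * z * u⁻¹) := by group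
  have hZ2p : IsPGroup p ↥(Z.map (MulAut.conj u).toMonoidHom) := hZp.map _
  obtain ⟨R1, hR1, hle1⟩ := exists_isSylowIn_ge (H := C) hZp hZC
  obtain ⟨R2, hR2, hle2⟩ := exists_isSylowIn_ge (H := C) hZ2p hZ2C
  obtain ⟨c, hcC, hc⟩ := IsSylowIn.conj hR2 hR1
  obtain ⟨k, hk⟩ := exists_conj_mem_sylow P hR1.isPGroup
  -- `k ∈ N(Z)`
  have hk1 : Z.map (MulAut.conj k).toMonoidHom = Z := by
    apply hwc
    rintro _ ⟨z, hz, rfl⟩
    exact hk z (hle1 hz)
  have hk2 : Z.map (MulAut.conj (k * (c * u))).toMonoidHom = Z := by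
    apply hwc
    rintro _ ⟨z, hz, rfl⟩
    have h1 : c * (u * z * u⁻¹) * c⁻¹ ∈ R1 := by
      rw [hc]
      exact ⟨u * z * u⁻¹, hle2 ⟨z, hz, rfl⟩, rfl⟩
    have h2 := hk _ h1
    show k * (c * u) * z * (k * (c * u))⁻¹ ∈ (P : Subgroup G)
    have e : k * (c * u) * z * (k * (c * u))⁻¹ = k * (c * (u * z * u⁻¹) * c⁻¹) * k⁻¹ := by group
    rw [e]; exact h2
  have hkN : k ∈ Subgroup.normalizer (Z : Set G) := by
    apply mem_normalizer_of_conj_mem
    intro r hr
    rw [← hk1]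
    exact ⟨r, hr, rfl⟩
  have hkcuN : k * (c * u) ∈ Subgroup.normalizer (Z : Set G) := by
    apply mem_normalizer_of_conj_mem
    intro r hr
    have : (k * (c * u)) * r * (k * (c * u))⁻¹ ∈ Z.map (MulAut.conj (k * (c * u))).toMonoidHom :=
      ⟨r, hr, rfl⟩
    rwa [hk2] at this
  have hcuN : c * u ∈ Subgroup.normalizer (Z : Set G) := by
    have := (Subgroup.normalizer (Z : Set G)).mul_mem ((Subgroup.normalizer (Z : Set G)).inv_mem hkN) hkcuN
    simpa using this
  refine ⟨c * u, hcuN, ?_⟩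
  have hcb : c * b = b * c := by
    have := Subgroup.mem_centralizer_singleton_iff.1 hcC
    exact this
  calc c * u * a * (c * u)⁻¹ = c * (u * a * u⁻¹) * c⁻¹ := by group
    _ = c * b * c⁻¹ := by rw [hbdef]
    _ = b * c * c⁻¹ := by rw [hcb]
    _ = b := by group


/-- If a subgroup Z of the centre of a Sylow p-subgroup P is weakly closed in P, then P meets the derived subgroup of G exactly where it meets the derived subgroup of the normalizer of Z. -/
theorem result {G : Type*} [Group G] [Finite G] {p : ℕ} [Fact p.Prime] (P : Sylow p G) (Z : Subgroup G) (hZ : Z ≤ Subgroup.centralizer (P : Set G)) (hW : Cfsg.IsWeaklyClosed Z P) : commutator G ⊓ (P : Subgroup G) = ⁅Subgroup.normalizer (Z : Set G), Subgroup.normalizer (Z : Set G)⁆ ⊓ (P : Subgroup G) := by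
  classical
  obtain ⟨hZP, hwc⟩ := id hW
  set N := Subgroup.normalizer (Z : Set G) with hN
  have hPN : (P : Subgroup G) ≤ N := by
    intro x hx
    apply Cfsg.Agent.Lib.Lead.Conj.mem_normalizer_of_conj_mem
    intro r hr
    have h1 : Z.map (MulAut.conj x).toMonoidHom = Z := by
      apply hwc
      rintro _ ⟨z, hz, rfl⟩
      exact (P : Subgroup G).mul_mem ((P : Subgroup G).mul_mem hx (hZP hz)) ((P : Subgroup G).inv_mem hx)
    rw [← h1]
    exact ⟨r, hr, rfl⟩
  apply le_antisymm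
  · rw [Subgroup.commutator_inf_eq_focalSubgroup]
    refine le_inf ?_ (Subgroup.focalSubgroup_le _)
    rw [Subgroup.focalSubgroup_def, Subgroup.closure_le]
    rintro g ⟨hgP, x, hxP, u, rfl⟩
    have h1 : u * x⁻¹ * u⁻¹ ∈ (P : Subgroup G) := by
      have e : u * x⁻¹ * u⁻¹ = x⁻¹ * ⁅x, u⁆ := by rw [commutatorElement_def]; group
      rw [e]
      exact (P : Subgroup G).mul_mem ((P : Subgroup G).inv_mem hxP) hgP
    obtain ⟨s, hs, hsx⟩ := key P Z hZ hW x⁻¹ u ((P : Subgroup G).inv_mem hxP) h1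
    have e2 : ⁅x, u⁆ = ⁅x, s⁆ := by
      rw [commutatorElement_def, commutatorElement_def]
      calc x * u * x⁻¹ * u⁻¹ = x * (u * x⁻¹ * u⁻¹) := by group
        _ = x * (s * x⁻¹ * s⁻¹) := by rw [hsx]
        _ = x * s * x⁻¹ * s⁻¹ := by group
    rw [SetLike.mem_coe, e2]
    exact Subgroup.commutator_mem_commutator (hPN hxP) hs
  · refine inf_le_inf_right _ ?_
    rw [commutator_def]
    exact Subgroup.commutator_mono le_top le_top

end Cfsg.Agent.S0077
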