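import Cfsg.Statements.S1019

set_option autoImplicit false
open Cfsg

namespace Cfsg.Agent.S1019

theorem card_fixedBy_conj {G : Type*} [Group G] [Finite G] (H : Subgroup G) (x y : G) (h : IsConj x y) :
    Nat.card (MulAction.fixedBy (G ⧸ H) y) = Nat.card (MulAction.fixedBy (G ⧸ H) x) := by
  obtain ⟨k, hk⟩ := isConj_iff.mp h
  subst hk
  refine Nat.card_congr
    { toFun := fun c => ⟨k⁻¹ • c.1, ?_⟩
      invFun := fun c => ⟨k • c.1, ?_⟩
      left_inv := fun c => Subtype.ext (by simp)
      right_inv := fun c => Subtype.ext (by simp) }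
  · have hc := c.2
    rw [MulAction.mem_fixedBy] at hc ⊢
    calc x • k⁻¹ • c.1 = k⁻¹ • (k * x * k⁻¹) • c.1 := by simp [mul_smul]
      _ = k⁻¹ • c.1 := by rw [hc]
  · have hc := c.2
    rw [MulAction.mem_fixedBy] at hc ⊢
    calc (k * x * k⁻¹) • k • c.1 = k • x • c.1 := by simp [mul_smul]
      _ = k • c.1 := by rw [hc]

theorem card_conj_fixing {G : Type*} [Group G] [Finite G] (H : Subgroup G) (x : G) (c : G ⧸ H) :
    Nat.card {y : G // IsConj x y ∧ y • c = c} = Nat.card {g : G // IsConj x g ∧ g ∈ H} := by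
  obtain ⟨g, rfl⟩ := QuotientGroup.mk_surjective c
  have hfix : ∀ y : G, y • (g : G ⧸ H) = (g : G ⧸ H) ↔ g⁻¹ * y * g ∈ H := by
    intro y
    rw [MulAction.Quotient.smul_mk, QuotientGroup.eq, smul_eq_mul, mul_inv_rev, ← H.inv_mem_iff]
    simp [mul_assoc]
  refine Nat.card_congr
    { toFun := fun y => ⟨g⁻¹ * y.1 * g, ?_, (hfix _).mp y.2.2⟩
      invFun := fun z => ⟨g * z.1 * g⁻¹, ?_, (hfix _).mpr (by simpa [mul_assoc] using z.2.2)⟩
      left_inv := fun y => Subtype.ext (by simp [mul_assoc])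
      right_inv := fun z => Subtype.ext (by simp [mul_assoc]) }
  · exact y.2.1.trans (isConj_iff.mpr ⟨g⁻¹, by simp⟩)
  · exact z.2.1.trans (isConj_iff.mpr ⟨g, rfl⟩)

/-- Let H be a subgroup of a finite group G and x an element of H. In the action of G on the left cosets of H, the number of cosets fixed by x, multiplied by the size of the conjugacy class of x, equals the index of H multiplied by the number of conjugates of x that lie in H. -/
theorem result {G : Type*} [Group G] [Finite G] (H : Subgroup G) (x : G) (hx : x ∈ H) : Nat.card (MulAction.fixedBy (G ⧸ H) x) * Nat.card {g : G // IsConj x g} = H.index * Nat.card {g : G // IsConj x g ∧ g ∈ H} := by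
  classical
  have : Fintype G := Fintype.ofFinite G
  have : Fintype (G ⧸ H) := Fintype.ofFinite _
  have : Fintype {g : G // IsConj x g} := Fintype.ofFinite _
  have key1 : Nat.card {p : (G ⧸ H) × G // IsConj x p.2 ∧ p.2 • p.1 = p.1} =
      Nat.card {g : G // IsConj x g} * Nat.card (MulAction.fixedBy (G ⧸ H) x) := by
    have e : {p : (G ⧸ H) × G // IsConj x p.2 ∧ p.2 • p.1 = p.1} ≃
        Σ y : {g : G // IsConj x g}, MulAction.fixedBy (G ⧸ H) y.1 :=
      { toFun := fun p => ⟨⟨p.1.2, p.2.1⟩, ⟨p.1.1, p.2.2⟩⟩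
        invFun := fun s => ⟨(s.2.1, s.1.1), s.1.2, s.2.2⟩
        left_inv := fun p => rfl
        right_inv := fun s => rfl }
    rw [Nat.card_congr e, Nat.card_sigma]
    simp only [fun y : {g : G // IsConj x g} => card_fixedBy_conj H x y.1 y.2]
    simp [Nat.card_eq_fintype_card]
  have key2 : Nat.card {p : (G ⧸ H) × G // IsConj x p.2 ∧ p.2 • p.1 = p.1} =
      H.index * Nat.card {g : G // IsConj x g ∧ g ∈ H} := by
    have e : {p : (G ⧸ H) × G // IsConj x p.2 ∧ p.2 • p.1 = p.1} ≃
        Σ c : G ⧸ H, {y : G // IsConj x y ∧ y • c = c} :=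
      { toFun := fun p => ⟨p.1.1, ⟨p.1.2, p.2⟩⟩
        invFun := fun s => ⟨(s.1, s.2.1), s.2.2⟩
        left_inv := fun p => rfl
        right_inv := fun s => rfl }
    rw [Nat.card_congr e, Nat.card_sigma]
    simp only [card_conj_fixing H x]
    simp [Subgroup.index, Nat.card_eq_fintype_card]
  rw [mul_comm, ← key1, key2]

end Cfsg.Agent.S1019
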