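import Cfsg.Statements.S0738
import Cfsg.Agent.Lib.Helper5.Zassenhaus
import Cfsg.Agent.Lib.Helper5.FreeCount
import Mathlib

set_option autoImplicit false
open Cfsg

namespace Cfsg.Agent.S0738

/-- Let a finite Zassenhaus group of degree `n + 1` have two-point stabilisers of order `d` with `2d ≥ n - 1`. Then a normal subgroup of a point stabiliser acting regularly on the remaining points is elementary abelian, and the degree is a prime power plus one. -/
theorem result {G Ω : Type*} [Group G] [Finite G] [MulAction G Ω] [Fintype Ω] (hZ : Cfsg.IsZassenhausGroup G Ω) {a b : Ω} (hab : a ≠ b) (hd : Fintype.card Ω - 2 ≤ 2 * Nat.card ↥(MulAction.stabilizer G a ⊓ MulAction.stabilizer G b)) (F : Subgroup G) (hFle : F ≤ MulAction.stabilizer G a) (hFn : (F.subgroupOf (MulAction.stabilizer G a)).Normal) (hreg : ∀ y z : Ω, y ≠ a → z ≠ a → ∃! u : F, (u : G) • y = z) : IsMulCommutative F ∧ ∃ p f : ℕ, p.Prime ∧ (∀ u ∈ F, u ^ p = 1) ∧ Fintype.card Ω = p ^ f + 1 := by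
  classical
  have h := Cfsg.Agent.Lib.Helper5.Zass.hyp_of_zassenhaus hZ
  have : Fintype G := Fintype.ofFinite G
  set H : Subgroup G := MulAction.stabilizer G a ⊓ MulAction.stabilizer G b with hH
  have hHmem : ∀ x : G, x ∈ H ↔ x • a = a ∧ x • b = b := fun x => by
    rw [hH, Subgroup.mem_inf, MulAction.mem_stabilizer_iff, MulAction.mem_stabilizer_iff]
  have hFa : ∀ u ∈ F, u • a = a := fun u hu => hFle hu
  have hFfix : ∀ u ∈ F, ∀ c : Ω, c ≠ a → u • c = c → u = 1 := by
    intro u hu c hc huc
    obtain ⟨u0, -, huniq⟩ := hreg c c hc hc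
    have h1 := huniq ⟨u, hu⟩ huc
    have h2 := huniq 1 (one_smul _ _)
    exact congrArg Subtype.val (h1.trans h2.symm)
  -- `F` is the Frobenius kernel
  have hFker : F = Cfsg.Agent.Lib.Helper5.Zass.ker h a := by
    apply le_antisymm
    · intro u hu
      rw [Cfsg.Agent.Lib.Helper5.Zass.mem_ker]
      refine ⟨hFa u hu, ?_⟩
      by_cases hu1 : u = 1
      · exact Or.inl hu1
      · right
        intro c hc hfix
        exact hu1 (hFfix u hu c hc hfix)
    · intro k hk
      have hka : k • a = a := ((Cfsg.Agent.Lib.Helper5.Zass.mem_ker h a k).1 hk).1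
      have hkb : k • b ≠ a := by
        intro h'
        rw [← hka] at h'
        exact hab (MulAction.injective k h').symm
      obtain ⟨u, hu, -⟩ := hreg b (k • b) hab.symm hkb
      have hu' : (u : G) ∈ Cfsg.Agent.Lib.Helper5.Zass.ker h a := by
        rw [Cfsg.Agent.Lib.Helper5.Zass.mem_ker]
        refine ⟨hFa u u.2, ?_⟩
        by_cases hu1 : (u : G) = 1
        · exact Or.inl hu1
        · right
          intro c hc hfix
          exact hu1 (hFfix u u.2 c hc hfix)
      have h1 : ((u : G)⁻¹ * k) • b = b := by rw [mul_smul, ← hu, inv_smul_smul]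
      have h2 := Cfsg.Agent.Lib.Helper5.Zass.ker_fix h
        ((Cfsg.Agent.Lib.Helper5.Zass.ker h a).mul_mem
          ((Cfsg.Agent.Lib.Helper5.Zass.ker h a).inv_mem hu') hk) hab.symm h1
      have : k = (u : G) * ((u : G)⁻¹ * k) := by group
      rw [this, h2, mul_one]
      exact u.2
  have hFcard : Nat.card F + 1 = Fintype.card Ω := by
    rw [hFker, Cfsg.Agent.Lib.Helper5.Zass.card_ker h a, Nat.card_eq_fintype_card]
  have hconjF : ∀ x ∈ H, ∀ u ∈ F, x * u * x⁻¹ ∈ F := by
    intro x hx u hu
    rw [hFker] at hu ⊢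
    exact Cfsg.Agent.Lib.Helper5.Zass.conj_mem_ker h ((hHmem x).1 hx).1 hu
  obtain ⟨c3, hc3a, hc3b⟩ := Cfsg.Agent.Lib.Helper5.Zass.exists_third h a b hab
  -- key divisibility
  have hdvd : ∀ A : Finset G, (∀ x ∈ A, x ∈ F ∧ x ≠ 1) → (∀ y ∈ H, ∀ x ∈ A, y * x * y⁻¹ ∈ A) →
      Nat.card H ∣ A.card := by
    intro A hA hinv
    have hinj : Set.InjOn (fun x : G => x • b) (A : Set G) := by
      intro x hx y hy hxy
      have hxF := (hA x hx).1
      have hyF := (hA y hy).1
      have h1 : (y⁻¹ * x) • b = b := by
        rw [mul_smul]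
        change x • b = y • b at hxy
        rw [hxy, inv_smul_smul]
      have h2 := hFfix _ (F.mul_mem (F.inv_mem hyF) hxF) b hab.symm h1
      calc x = y * (y⁻¹ * x) := by group
        _ = y := by rw [h2, mul_one]
    rw [← Finset.card_image_of_injOn hinj]
    apply Cfsg.Agent.Lib.Helper5.FreeCount.card_dvd_of_free (H := H) _ _ rfl
    · intro y z hz
      rw [Finset.mem_image] at hz ⊢
      obtain ⟨x, hx, rfl⟩ := hz
      refine ⟨(y : G) * x * (y : G)⁻¹, hinv y y.2 x hx, ?_⟩
      have hyb : (y : G)⁻¹ • b = b := by rw [inv_smul_eq_iff, ((hHmem y).1 y.2).2]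
      rw [mul_smul, mul_smul, hyb]
      rfl
    · intro y z hz hyz
      rw [Finset.mem_image] at hz
      obtain ⟨x, hx, rfl⟩ := hz
      obtain ⟨hxF, hx1⟩ := hA x hx
      have hxb : x • b ≠ b := fun h' => hx1 (hFfix x hxF b hab.symm h')
      have hxa : x • b ≠ a := by
        intro h'
        rw [← hFa x hxF] at h'
        exact hab (MulAction.injective x h').symm
      have hy := (hHmem y).1 y.2
      apply Subtype.ext
      exact h.h3 (y : G) a b (x • b) hab (Ne.symm hxb) (Ne.symm hxa) hy.1 hy.2 hyz
  -- the set of nonidentity elements of `F`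
  let A0 : Finset G := Finset.univ.filter (fun x => x ∈ F ∧ x ≠ 1)
  have hFfin : Nat.card F = (Finset.univ.filter (fun x : G => x ∈ F)).card := by
    rw [Nat.card_eq_fintype_card, Fintype.card_subtype]
  have hA0card : A0.card + 1 = Nat.card F := by
    rw [hFfin]
    have : Finset.univ.filter (fun x : G => x ∈ F) = insert 1 A0 := by
      ext x
      simp only [A0, Finset.mem_filter, Finset.mem_univ, true_and, Finset.mem_insert]
      constructor
      · intro hx
        by_cases hx1 : x = 1
        · exact Or.inl hx1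
        · exact Or.inr ⟨hx, hx1⟩
      · rintro (rfl | hx)
        · exact F.one_mem
        · exact hx.1
    rw [this, Finset.card_insert_of_notMem]
    simp [A0]
  set d := Nat.card H with hd_def
  have hdpos : 0 < d := Nat.card_pos
  have hn3 : 3 ≤ Fintype.card Ω := by
    rw [← Finset.card_univ]
    calc 3 = ({a, b, c3} : Finset Ω).card := by
          rw [Finset.card_insert_of_notMem, Finset.card_pair hc3b.symm]
          simp only [Finset.mem_insert, Finset.mem_singleton, not_or]
          exact ⟨hab, hc3a.symm⟩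
      _ ≤ Finset.univ.card := Finset.card_le_card (Finset.subset_univ _)
  have hA0 : A0.card = Fintype.card Ω - 2 := by omega
  have hd0 : d ∣ Fintype.card Ω - 2 := by
    rw [← hA0]
    apply hdvd A0
    · intro x hx
      simpa [A0] using hx
    · intro y hy x hx
      simp only [A0, Finset.mem_filter, Finset.mem_univ, true_and] at hx ⊢
      refine ⟨hconjF y hy x hx.1, ?_⟩
      intro h'
      apply hx.2
      have : x = y⁻¹ * (y * x * y⁻¹) * y := by group
      rw [this, h']
      group
  -- the dichotomy
  have hdich : ∀ A : Finset G, A.Nonempty → (∀ x ∈ A, x ∈ F ∧ x ≠ 1) →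
      (∀ y ∈ H, ∀ x ∈ A, y * x * y⁻¹ ∈ A) →
      A = A0 ∨ (A.card = d ∧ Fintype.card Ω - 2 = 2 * d) := by
    intro A hne hA hinv
    have hsub : A ⊆ A0 := by
      intro x hx
      simp only [A0, Finset.mem_filter, Finset.mem_univ, true_and]
      exact hA x hx
    have hle := Finset.card_le_card hsub
    obtain ⟨k, hk⟩ := hdvd A hA hinv
    obtain ⟨k0, hk0⟩ := hd0
    have hpos : 0 < A.card := Finset.card_pos.2 hne
    by_cases hcard : A.card = A0.card
    · left
      exact Finset.eq_of_subset_of_card_le hsub (le_of_eq hcard.symm)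
    · right
      have hk1 : 1 ≤ k := by
        rcases Nat.eq_zero_or_pos k with h0 | h0
        · rw [h0, mul_zero] at hk
          omega
        · exact h0
      have hlt : d * k < d * k0 := by
        rw [← hk, ← hk0, ← hA0]
        omega
      have hkk : k < k0 := Nat.lt_of_mul_lt_mul_left hlt
      have hk02 : k0 ≤ 2 := by
        have : d * k0 ≤ d * 2 := by
          rw [← hk0, mul_comm]
          exact hd
        exact Nat.le_of_mul_le_mul_left this hdpos
      have hk_eq : k = 1 := by omega
      have hk0_eq : k0 = 2 := by omega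
      rw [hk_eq, mul_one] at hk
      rw [hk0_eq] at hk0
      exact ⟨hk, by rw [hk0, mul_comm]⟩
  -- a prime dividing `|F|`
  have hFne1 : Nat.card F ≠ 1 := by omega
  obtain ⟨p, hp, hpF⟩ := Nat.exists_prime_and_dvd hFne1
  have : Fact p.Prime := ⟨hp⟩
  have : Fintype F := Fintype.ofFinite F
  -- elements of order dividing `p`
  let Ap : Finset G := Finset.univ.filter (fun x => x ∈ F ∧ x ≠ 1 ∧ x ^ p = 1)
  have hApmem : ∀ x : G, x ∈ Ap ↔ x ∈ F ∧ x ≠ 1 ∧ x ^ p = 1 := fun x => by simp [Ap]
  have hexp : ∀ u ∈ F, u ^ p = 1 := by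
    have hApne : Ap.Nonempty := by
      obtain ⟨x, hx⟩ := exists_prime_orderOf_dvd_card' (G := F) p hpF
      refine ⟨(x : G), (hApmem _).2 ⟨x.2, ?_, ?_⟩⟩
      · intro h1
        have : x = 1 := Subtype.ext h1
        rw [this, orderOf_one] at hx
        exact hp.one_lt.ne hx
      · have := pow_orderOf_eq_one x
        rw [hx] at this
        exact congrArg Subtype.val this
    have hApF : ∀ x ∈ Ap, x ∈ F ∧ x ≠ 1 := fun x hx => ⟨((hApmem x).1 hx).1, ((hApmem x).1 hx).2.1⟩
    have hApinv : ∀ y ∈ H, ∀ x ∈ Ap, y * x * y⁻¹ ∈ Ap := by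
      intro y hy x hx
      rw [hApmem] at hx ⊢
      refine ⟨hconjF y hy x hx.1, ?_, ?_⟩
      · intro h'
        apply hx.2.1
        have : x = y⁻¹ * (y * x * y⁻¹) * y := by group
        rw [this, h']
        group
      · rw [conj_pow, hx.2.2]
        group
    rcases hdich Ap hApne hApF hApinv with hAp | ⟨hAp1, hAp2⟩
    · intro u hu
      by_cases hu1 : u = 1
      · rw [hu1, one_pow]
      · have : u ∈ Ap := by
          rw [hAp]
          simp only [A0, Finset.mem_filter, Finset.mem_univ, true_and]
          exact ⟨hu, hu1⟩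
        exact ((hApmem u).1 this).2.2
    · exfalso
      have hFC := Cfsg.Agent.Lib.Helper5.FreeCount.dvd_card_pow_eq_one (G := F) p
        (by rwa [← Nat.card_eq_fintype_card])
      have hcount : Nat.card {g : F // g ^ p = 1} = Ap.card + 1 := by
        have e : {g : F // g ^ p = 1} ≃ {x : G // x ∈ insert 1 Ap} :=
          { toFun := fun g => ⟨(g.1 : G), by
              rw [Finset.mem_insert, hApmem]
              by_cases h1 : (g.1 : G) = 1
              · exact Or.inl h1
              · exact Or.inr ⟨g.1.2, h1, by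
                  have := congrArg Subtype.val g.2
                  simpa using this⟩⟩
            invFun := fun x => ⟨⟨x.1, by
              have := x.2
              rw [Finset.mem_insert, hApmem] at this
              rcases this with h1 | h1
              · rw [h1]
                exact F.one_mem
              · exact h1.1⟩, by
              have := x.2
              rw [Finset.mem_insert, hApmem] at this
              apply Subtype.ext
              rcases this with h1 | h1
              · simp [h1]
              · simpa using h1.2.2⟩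
            left_inv := fun g => rfl
            right_inv := fun x => rfl }
        rw [Nat.card_congr e, Nat.card_eq_fintype_card, Fintype.card_coe,
          Finset.card_insert_of_notMem]
        rw [hApmem]
        exact fun h' => h'.2.1 rfl
      rw [hcount, hAp1] at hFC
      have h2 : p ∣ 2 * d + 1 := by
        have : Nat.card F = 2 * d + 1 := by omega
        rwa [this] at hpF
      have h3 : p ∣ 1 := by
        have h4 : p ∣ 2 * (d + 1) := Dvd.dvd.mul_left hFC 2
        have : 2 * (d + 1) = (2 * d + 1) + 1 := by ring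
        rw [this] at h4
        exact (Nat.dvd_add_right h2).1 h4
      exact hp.one_lt.ne' (Nat.dvd_one.1 h3)
  have hpg : IsPGroup p F := by
    intro g
    refine ⟨1, ?_⟩
    rw [pow_one]
    apply Subtype.ext
    have := hexp g g.2
    simpa using this
  obtain ⟨f, hf⟩ := IsPGroup.iff_card.1 hpg
  refine ⟨?_, p, f, hp, hexp, by omega⟩
  -- commutativity via the centre
  have hnt : Nontrivial F := by
    rw [← Finite.one_lt_card_iff_nontrivial]
    omega
  have hcen := hpg.center_nontrivial
  let Az : Finset G := Finset.univ.filter (fun x => x ∈ F ∧ x ≠ 1 ∧ ∀ y ∈ F, y * x = x * y)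
  have hAzmem : ∀ x : G, x ∈ Az ↔ x ∈ F ∧ x ≠ 1 ∧ ∀ y ∈ F, y * x = x * y := fun x => by simp [Az]
  have hAzne : Az.Nonempty := by
    obtain ⟨z, hz⟩ := exists_ne (1 : Subgroup.center F)
    refine ⟨((z : F) : G), (hAzmem _).2 ⟨(z : F).2, ?_, ?_⟩⟩
    · intro h1
      apply hz
      apply Subtype.ext
      apply Subtype.ext
      exact h1
    · intro y hy
      have := (Subgroup.mem_center_iff.1 z.2) ⟨y, hy⟩
      exact congrArg Subtype.val this
  have hAzF : ∀ x ∈ Az, x ∈ F ∧ x ≠ 1 := fun x hx => ⟨((hAzmem x).1 hx).1, ((hAzmem x).1 hx).2.1⟩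
  have hAzinv : ∀ y ∈ H, ∀ x ∈ Az, y * x * y⁻¹ ∈ Az := by
    intro y hy x hx
    rw [hAzmem] at hx ⊢
    refine ⟨hconjF y hy x hx.1, ?_, ?_⟩
    · intro h'
      apply hx.2.1
      have : x = y⁻¹ * (y * x * y⁻¹) * y := by group
      rw [this, h']
      group
    · intro w hw
      have hw' : y⁻¹ * w * y⁻¹⁻¹ ∈ F := hconjF y⁻¹ (H.inv_mem hy) w hw
      have := hx.2.2 _ hw'
      calc w * (y * x * y⁻¹) = y * ((y⁻¹ * w * y⁻¹⁻¹) * x) * y⁻¹ := by group
        _ = y * (x * (y⁻¹ * w * y⁻¹⁻¹)) * y⁻¹ := by rw [this]
        _ = y * x * y⁻¹ * w := by group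
  rcases hdich Az hAzne hAzF hAzinv with hAz | ⟨hAz1, hAz2⟩
  · refine ⟨⟨fun x y => ?_⟩⟩
    apply Subtype.ext
    change (x : G) * y = y * x
    by_cases hy1 : (y : G) = 1
    · rw [hy1, mul_one, one_mul]
    · have : (y : G) ∈ Az := by
        rw [hAz]
        simp only [A0, Finset.mem_filter, Finset.mem_univ, true_and]
        exact ⟨y.2, hy1⟩
      exact ((hAzmem _).1 this).2.2 x x.2
  · exfalso
    let Z' : Subgroup G := (Subgroup.center F).map F.subtype
    have hZ'le : Z' ≤ F := by
      rintro _ ⟨z, -, rfl⟩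
      exact z.2
    have hZ'card : Nat.card Z' = Az.card + 1 := by
      rw [Nat.card_eq_fintype_card, Fintype.card_subtype]
      have : Finset.univ.filter (fun x : G => x ∈ Z') = insert 1 Az := by
        ext x
        simp only [Finset.mem_filter, Finset.mem_univ, true_and, Finset.mem_insert, hAzmem]
        constructor
        · rintro ⟨z, hz, rfl⟩
          by_cases h1 : ((z : F) : G) = 1
          · exact Or.inl h1
          · right
            refine ⟨z.2, h1, fun y hy => ?_⟩
            have := (Subgroup.mem_center_iff.1 hz) ⟨y, hy⟩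
            exact congrArg Subtype.val this
        · rintro (rfl | ⟨hxF, -, hxc⟩)
          · exact Z'.one_mem
          · refine ⟨⟨x, hxF⟩, Subgroup.mem_center_iff.2 ?_, rfl⟩
            intro y
            apply Subtype.ext
            exact hxc y y.2
      rw [this, Finset.card_insert_of_notMem]
      rw [hAzmem]
      exact fun h' => h'.2.1 rfl
    have hlag := Subgroup.card_dvd_of_le hZ'le
    rw [hZ'card, hAz1] at hlag
    have hFd : Nat.card F = 2 * d + 1 := by omega
    rw [hFd] at hlag
    have h3 : d + 1 ∣ 1 := by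
      have h4 : d + 1 ∣ 2 * (d + 1) := Dvd.intro_left 2 rfl
      have : 2 * (d + 1) = (2 * d + 1) + 1 := by ring
      rw [this] at h4
      exact (Nat.dvd_add_right hlag).1 h4
    have := Nat.dvd_one.1 h3
    omega

end Cfsg.Agent.S0738
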