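import Cfsg.Statements.S0878
import Cfsg.Agent.Lib.Helper5.Zassenhaus
import Mathlib

set_option autoImplicit false
open Cfsg

namespace Cfsg.Agent.S0878

/-- Let G be a Zassenhaus group on the finite set Ω, a a point, and let H be the subgroup of the stabilizer of a consisting of the identity and the elements fixing no point other than a (given here as a subgroup of the stabilizer of order one less than the number of points whose non-identity elements fix only a; it is the Frobenius kernel of the stabilizer). Then an element outside the stabilizer of a conjugates no non-identity element of H into H, and the normalizer of H is exactly the stabilizer of a. -/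
theorem result {G Ω : Type*} [Group G] [Finite G] [MulAction G Ω] [Fintype Ω] (hZ : Cfsg.IsZassenhausGroup G Ω) (a : Ω) (H : Subgroup G) (hHa : H ≤ MulAction.stabilizer G a) (hHcard : Nat.card H + 1 = Fintype.card Ω) (hHfix : ∀ u ∈ H, u ≠ 1 → ∀ c : Ω, u • c = c → c = a) : (∀ g : G, g ∉ MulAction.stabilizer G a → ∀ u ∈ H, g * u * g⁻¹ ∈ H → u = 1) ∧ Subgroup.normalizer (H : Set G) = MulAction.stabilizer G a := by
  have h := Cfsg.Agent.Lib.Helper5.Zass.hyp_of_zassenhaus hZ
  have part1 : ∀ g : G, g ∉ MulAction.stabilizer G a → ∀ u ∈ H, g * u * g⁻¹ ∈ H → u = 1 := by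
    intro g hg u hu hgu
    by_contra hu1
    apply hg
    rw [MulAction.mem_stabilizer_iff]
    have h1 : g * u * g⁻¹ ≠ 1 := by
      intro h'
      apply hu1
      have : u = g⁻¹ * (g * u * g⁻¹) * g := by group
      rw [this, h']
      group
    have hua : u • a = a := hHa hu
    apply hHfix _ hgu h1 (g • a)
    rw [mul_smul, mul_smul, inv_smul_smul, hua]
  refine ⟨part1, ?_⟩
  have hHker : H = Cfsg.Agent.Lib.Helper5.Zass.ker h a := by
    apply Subgroup.eq_of_le_of_card_ge
    · intro u hu
      rw [Cfsg.Agent.Lib.Helper5.Zass.mem_ker]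
      refine ⟨hHa hu, ?_⟩
      by_cases hu1 : u = 1
      · exact Or.inl hu1
      · right
        intro c hc hfix
        exact hc (hHfix u hu hu1 c hfix)
    · have := Cfsg.Agent.Lib.Helper5.Zass.card_ker h a
      rw [Nat.card_eq_fintype_card (α := Ω)] at this
      omega
  ext g
  rw [Subgroup.mem_normalizer_iff, MulAction.mem_stabilizer_iff]
  constructor
  · intro hnorm
    by_contra hg
    obtain ⟨b, hb⟩ := Cfsg.Agent.Lib.Helper5.Zass.exists_ne h a
    obtain ⟨c, hca, hcb⟩ := Cfsg.Agent.Lib.Helper5.Zass.exists_third h a b hb.symm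
    obtain ⟨k, hk, hkb⟩ := Cfsg.Agent.Lib.Helper5.Zass.ker_trans h a b c hb hca
    rw [← hHker] at hk
    have hk1 : k ≠ 1 := by
      rintro rfl
      rw [one_smul] at hkb
      exact hcb hkb.symm
    exact hk1 (part1 g hg k hk ((hnorm k).1 hk))
  · intro hg x
    rw [hHker]
    constructor
    · intro hx
      exact Cfsg.Agent.Lib.Helper5.Zass.conj_mem_ker h hg hx
    · intro hx
      have hg' : g⁻¹ • a = a := by rw [inv_smul_eq_iff, hg]
      have := Cfsg.Agent.Lib.Helper5.Zass.conj_mem_ker h hg' hx
      have e : g⁻¹ * (g * x * g⁻¹) * g⁻¹⁻¹ = x := by group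
      rw [e] at this
      exact this

end Cfsg.Agent.S0878
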