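import Mathlib
import Cfsg.Statements.S0881
import Cfsg.Agent.Lib.Helper5.Zass3.SimpleOdd
import Cfsg.Agent.Lib.helper3.MackeyLin

set_option autoImplicit false
open Cfsg

namespace Cfsg.Agent.S0881

set_option linter.style.haveILetI false

theorem aux {G Ω : Type*} [Group G] [Fintype G] [MulAction G Ω] [Fintype Ω] (hZ : Cfsg.IsZassenhausGroup G Ω) {a b : Ω} (hab : a ≠ b) [IsSimpleGroup G] (K : Subgroup G) (hKdef : K = MulAction.stabilizer G a) (hodd : Odd (Nat.card ↥(MulAction.stabilizer G a ⊓ MulAction.stabilizer G b : Subgroup G))) (H : Subgroup G) (hHa : H ≤ K) (hHcard : Nat.card H + 1 = Fintype.card Ω) (hHfix : ∀ u ∈ H, u ≠ 1 → ∀ c : Ω, u • c = c → c = a) (μ : K → ℂ) (hμ : Cfsg.IsCharacter K μ ∧ μ 1 = 1) (hμH : ∀ u : K, (u : G) ∈ H → μ u = 1) (hμne : μ ≠ fun _ => 1) : Cfsg.IsIrrCharacter G (Cfsg.indFun K μ) ∧ ∀ u ∈ H, u ≠ 1 → Cfsg.indFun K μ u = 1 := by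
  classical
  have hfinG : Finite G := inferInstance
  have h2 : ∀ {a b c d : Ω}, a ≠ b → c ≠ d → ∃ g : G, g • a = c ∧ g • b = d :=
    MulAction.is_two_pretransitive_iff.1 hZ.2.1
  have hKmem : ∀ g : G, g ∈ K ↔ g • a = a := by
    intro g
    rw [hKdef]
    exact MulAction.mem_stabilizer_iff
  obtain ⟨_, hinv⟩ := Cfsg.Agent.Lib.Helper5.Zass3.simple_odd_inverts hZ hab hodd
  -- `H` is regular on the points other than `a`
  have hHreg : ∀ c : Ω, c ≠ a → ∃ u ∈ H, u • b = c := by
    have hfinH : Finite H := inferInstance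
    letI : Fintype H := Fintype.ofFinite H
    let φ : Option H → Ω := fun o => match o with
      | none => a
      | some u => (u : G) • b
    have hφinj : Function.Injective φ := by
      intro o1 o2 h12
      rcases o1 with _ | u <;> rcases o2 with _ | v
      · rfl
      · exfalso
        have h3 : (v : G) • b = a := h12.symm
        have h4 : (v : G) • a = a := (hKmem _).1 (hHa v.2)
        have : (v : G) • b = (v : G) • a := by rw [h3, h4]
        exact hab (smul_left_cancel _ this).symm
      · exfalso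
        have h3 : (u : G) • b = a := h12
        have h4 : (u : G) • a = a := (hKmem _).1 (hHa u.2)
        have : (u : G) • b = (u : G) • a := by rw [h3, h4]
        exact hab (smul_left_cancel _ this).symm
      · have h3 : (u : G) • b = (v : G) • b := h12
        have h4 : ((v : G)⁻¹ * (u : G)) • b = b := by
          rw [mul_smul, h3, inv_smul_smul]
        have h5 : (v : G)⁻¹ * (u : G) = 1 := by
          by_contra hne
          exact hab (hHfix _ (H.mul_mem (H.inv_mem v.2) u.2) hne b h4).symm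
        have h6 : (u : G) = v := by
          have := congrArg (fun z => (v : G) * z) h5
          simpa using this
        rw [Subtype.ext h6]
    have hcard : Fintype.card (Option H) = Fintype.card Ω := by
      rw [Fintype.card_option, ← Nat.card_eq_fintype_card, hHcard]
    have hφbij := (Fintype.bijective_iff_injective_and_card φ).2 ⟨hφinj, hcard⟩
    intro c hc
    obtain ⟨o, ho⟩ := hφbij.2 c
    rcases o with _ | u
    · exact absurd ho.symm hc
    · exact ⟨u, u.2, ho⟩
  have hμc := hμ.1
  have hμ1 := hμ.2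
  have hmul := Cfsg.Agent.Lib.helper3.Lin.map_mul_of_apply_one_eq_one hμc hμ1
  -- an element of the two-point stabilizer on which `μ ^ 2` is not trivial
  have hex : ∃ e : K, (e : G) • b = b ∧ μ e * μ e ≠ 1 := by
    have hne1 : ∃ k : K, μ k ≠ 1 := by
      by_contra hcon
      push Not at hcon
      exact hμne (funext hcon)
    obtain ⟨k, hk⟩ := hne1
    have hkb : (k : G) • b ≠ a := by
      intro h
      have h4 : (k : G) • a = a := (hKmem _).1 k.2
      have : (k : G) • b = (k : G) • a := by rw [h, h4]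
      exact hab (smul_left_cancel _ this).symm
    obtain ⟨u, huH, hub⟩ := hHreg _ hkb
    have huK : u ∈ K := hHa huH
    obtain ⟨e, he⟩ : ∃ e : K, e = (⟨u, huK⟩ : K)⁻¹ * k := ⟨_, rfl⟩
    have heb : (e : G) • b = b := by
      rw [he, Subgroup.coe_mul, Subgroup.coe_inv, mul_smul, ← hub, inv_smul_smul]
    have hμe : μ e = μ k := by
      have h3 : k = (⟨u, huK⟩ : K) * e := by rw [he, mul_inv_cancel_left]
      rw [h3, hmul, hμH ⟨u, huK⟩ huH, one_mul]
    refine ⟨e, heb, ?_⟩
    intro hsq
    apply hk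
    rw [← hμe]
    -- order of `e` is odd
    have heE : (e : G) ∈ MulAction.stabilizer G a ⊓ MulAction.stabilizer G b :=
      ⟨(hKmem _).1 e.2, heb⟩
    set n := Nat.card ↥(MulAction.stabilizer G a ⊓ MulAction.stabilizer G b : Subgroup G) with hn
    have hpow : (e : G) ^ n = 1 := by
      have := pow_card_eq_one' (G := ↥(MulAction.stabilizer G a ⊓ MulAction.stabilizer G b : Subgroup G))
        (x := ⟨(e : G), heE⟩)
      have h3 := congrArg Subtype.val this
      rw [Subgroup.coe_pow, Subgroup.coe_one] at h3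
      exact h3
    have hpowK : e ^ n = 1 := by
      apply Subtype.ext
      rw [Subgroup.coe_pow, hpow, Subgroup.coe_one]
    have hμpow : μ e ^ n = 1 := Cfsg.Agent.Lib.helper3.Lin.pow_eq_one_of_linear hμc hμ1 e n hpowK
    obtain ⟨r, hr⟩ := hodd
    rw [hr, pow_succ, pow_mul, pow_two, hsq, one_pow, one_mul] at hμpow
    exact hμpow
  obtain ⟨e, heb, hesq⟩ := hex
  have hea : (e : G) • a = a := (hKmem _).1 e.2
  refine ⟨?_, ?_⟩
  · apply Cfsg.Agent.Lib.helper3.MackeyLin.isIrrCharacter_indFun_of_linear K μ hμc hμ1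
    intro x hxK
    have hxa : x • a ≠ a := fun h => hxK ((hKmem _).2 h)
    -- `s ∈ K` with `s • (x • a) = b`
    obtain ⟨s, hsa, hsc⟩ := h2 (a := a) (b := x • a) (c := a) (d := b) (Ne.symm hxa) hab
    have hya : (s * x) • a = b := by rw [mul_smul, hsc]
    have hd : (s * x)⁻¹ • a ≠ a := by
      intro h
      have : (s * x) • a = a := by
        conv_lhs => rw [← h]
        rw [smul_inv_smul]
      exact hab (this.symm.trans hya)
    obtain ⟨s', hs'a, hs'b⟩ := h2 (a := a) (b := b) (c := a) (d := (s * x)⁻¹ • a) hab (Ne.symm hd)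
    set t : G := s * x * s' with ht
    have hta : t • a = b := by
      rw [ht, mul_smul, hs'a, hya]
    have htb : t • b = a := by
      rw [ht, mul_smul, hs'b, smul_inv_smul]
    have heE : (e : G) ∈ MulAction.stabilizer G a ⊓ MulAction.stabilizer G b := ⟨hea, heb⟩
    have hinv1 := hinv t hta htb (e : G)⁻¹ (Subgroup.inv_mem _ heE)
    rw [inv_inv] at hinv1
    -- so `t⁻¹ * e * t = e⁻¹`
    have hinv2 : t⁻¹ * (e : G) * t = (e : G)⁻¹ := by
      calc t⁻¹ * (e : G) * t = t⁻¹ * (t * (e : G)⁻¹ * t⁻¹) * t := by rw [hinv1]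
        _ = (e : G)⁻¹ := by group
    have hsK : s ∈ K := (hKmem _).2 hsa
    have hs'K : s' ∈ K := (hKmem _).2 hs'a
    obtain ⟨k₀, hk₀⟩ : ∃ k₀ : K, k₀ = (⟨s, hsK⟩ : K)⁻¹ * e * ⟨s, hsK⟩ := ⟨_, rfl⟩
    have hconj : x⁻¹ * (k₀ : G) * x = s' * (e : G)⁻¹ * s'⁻¹ := by
      rw [← hinv2, hk₀, ht]
      simp only [Subgroup.coe_mul, Subgroup.coe_inv]
      group
    have hk₀mem : x⁻¹ * (k₀ : G) * x ∈ K := by
      rw [hconj]
      exact K.mul_mem (K.mul_mem hs'K (K.inv_mem e.2)) (K.inv_mem hs'K)
    refine ⟨k₀, hk₀mem, ?_⟩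
    have hcf := Cfsg.Agent.Lib.helper3.Irr.isClassFunction_of_isCharacter hμc
    have hv1 : μ k₀ = μ e := hcf e (⟨s, hsK⟩ : K)⁻¹ |> fun h => by
      rw [inv_inv] at h
      rw [hk₀]
      exact h
    have hv2 : μ ⟨x⁻¹ * (k₀ : G) * x, hk₀mem⟩ = μ e⁻¹ := by
      have h3 : (⟨x⁻¹ * (k₀ : G) * x, hk₀mem⟩ : K) = (⟨s', hs'K⟩ : K) * e⁻¹ * (⟨s', hs'K⟩ : K)⁻¹ := by
        apply Subtype.ext
        simp only [Subgroup.coe_mul, Subgroup.coe_inv]
        exact hconj
      rw [h3]
      exact hcf e⁻¹ ⟨s', hs'K⟩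
    rw [hv1, hv2]
    intro heq
    apply hesq
    have h4 : μ e * μ e⁻¹ = 1 := by
      rw [← hmul, mul_inv_cancel, hμ1]
    rw [← heq] at h4
    exact h4
  · intro u hu hu1
    letI : Fintype K := Fintype.ofFinite K
    rw [Cfsg.Agent.Lib.helper3.IndFun.indFun_apply]
    have hT : ∀ x : G, Cfsg.extendByZero K μ (x⁻¹ * u * x) = if x ∈ K then (1 : ℂ) else 0 := by
      intro x
      by_cases hxK : x ∈ K
      · rw [if_pos hxK]
        have huK : u ∈ K := hHa hu
        have hmem : x⁻¹ * u * x ∈ K := K.mul_mem (K.mul_mem (K.inv_mem hxK) huK) hxK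
        rw [Cfsg.Agent.Lib.helper3.IndFun.extendByZero_mem K μ hmem]
        have h3 : (⟨x⁻¹ * u * x, hmem⟩ : K) = (⟨x, hxK⟩ : K)⁻¹ * ⟨u, huK⟩ * ⟨x, hxK⟩ := by
          apply Subtype.ext
          simp
        rw [h3, hmul, hmul, hμH ⟨u, huK⟩ hu, mul_one, ← hmul, inv_mul_cancel, hμ1]
      · rw [if_neg hxK]
        apply Cfsg.Agent.Lib.helper3.IndFun.extendByZero_not_mem
        intro hmem
        apply hxK
        have h3 : (x⁻¹ * u * x) • a = a := (hKmem _).1 hmem
        have h4 : u • (x • a) = x • a := by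
          have := congrArg (fun z => x • z) h3
          simp only [mul_smul, smul_inv_smul] at this
          exact this
        exact (hKmem _).2 (hHfix u hu hu1 _ h4)
    rw [Finset.sum_congr rfl (fun x _ => hT x)]
    rw [Finset.sum_ite, Finset.sum_const_zero, add_zero, Finset.sum_const, nsmul_eq_mul, mul_one]
    have hcard : (Finset.univ.filter (fun x : G => x ∈ K)).card = Nat.card K := by
      rw [Nat.card_eq_fintype_card, Fintype.card_subtype]
    rw [hcard]
    have hK0 : (Nat.card K : ℂ) ≠ 0 := Cfsg.Agent.Lib.helper3.IndFun.card_ne_zero_complex K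
    field_simp


/-- Let G be a finite simple Zassenhaus group on Ω with n points, a ≠ b points with two-point stabilizer E of odd order less than n - 2, and let H be the subgroup of the stabilizer of a consisting of the identity and the elements fixing no point other than a (given here as a subgroup of the stabilizer of order one less than the number of points whose non-identity elements fix only a; it is the Frobenius kernel of the stabilizer). Let μ be a character of degree 1 of the stabilizer of a that is identically 1 on H but not identically 1. Then the function induced from μ to G is an irreducible character of G, and it takes the value 1 at every non-identity element of H. -/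
theorem result {G Ω : Type*} [Group G] [Fintype G] [MulAction G Ω] [Fintype Ω] (hZ : Cfsg.IsZassenhausGroup G Ω) {a b : Ω} (hab : a ≠ b) [IsSimpleGroup G] (hodd : Odd (Nat.card ↥(MulAction.stabilizer G a ⊓ MulAction.stabilizer G b : Subgroup G))) (hlt : Nat.card ↥(MulAction.stabilizer G a ⊓ MulAction.stabilizer G b : Subgroup G) < Fintype.card Ω - 2) (H : Subgroup G) (hHa : H ≤ MulAction.stabilizer G a) (hHcard : Nat.card H + 1 = Fintype.card Ω) (hHfix : ∀ u ∈ H, u ≠ 1 → ∀ c : Ω, u • c = c → c = a) (μ : MulAction.stabilizer G a → ℂ) (hμ : Cfsg.IsCharacter (MulAction.stabilizer G a) μ ∧ μ 1 = 1) (hμH : ∀ u : MulAction.stabilizer G a, (u : G) ∈ H → μ u = 1) (hμne : μ ≠ fun _ => 1) : Cfsg.IsIrrCharacter G (Cfsg.indFun (MulAction.stabilizer G a) μ) ∧ ∀ u ∈ H, u ≠ 1 → Cfsg.indFun (MulAction.stabilizer G a) μ u = 1 := by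
  exact aux hZ hab _ rfl hodd H hHa hHcard hHfix μ hμ hμH hμne

end Cfsg.Agent.S0881
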