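import Mathlib
import Cfsg.Statements.S0920
import Cfsg.Agent.Lib.helper3.FirstMain2
import Cfsg.Agent.S0919

set_option autoImplicit false
open Cfsg

set_option linter.style.haveILetI false

namespace Cfsg.Agent.S0920

open Cfsg.Agent.Lib.helper3.Block

/-- Brauer's First Main Theorem. Let D be a p-subgroup of the finite group G with normalizer N, and fix a maximal ideal M of the algebraic integers containing p. Then (i) every block b of N having D as a defect group induces some block B of G having D as a defect group; (ii) every block of G with defect group D is induced by exactly one block of N with defect group D. -/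
theorem result {G : Type*} [Group G] [Finite G] (p : ℕ) [Fact p.Prime] (M : Ideal Cfsg.AlgInt) (hM : Cfsg.IsPModular p M) (D : Subgroup G) (hD : IsPGroup p D) : (∀ b : Set (Cfsg.IrrCharacter (Subgroup.normalizer (D : Set G))), Cfsg.IsPBlock M b → Cfsg.IsDefectGroup p M b (D.subgroupOf (Subgroup.normalizer (D : Set G))) → ∃ B : Set (Cfsg.IrrCharacter G), Cfsg.IsPBlock M B ∧ Cfsg.IsDefectGroup p M B D ∧ Cfsg.IsInducedBlock M (Subgroup.normalizer (D : Set G)) b B) ∧ (∀ B : Set (Cfsg.IrrCharacter G), Cfsg.IsPBlock M B → Cfsg.IsDefectGroup p M B D → ∃! b : Set (Cfsg.IrrCharacter (Subgroup.normalizer (D : Set G))), Cfsg.IsPBlock M b ∧ Cfsg.IsDefectGroup p M b (D.subgroupOf (Subgroup.normalizer (D : Set G))) ∧ Cfsg.IsInducedBlock M (Subgroup.normalizer (D : Set G)) b B) := by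
  classical
  letI : Fintype G := Fintype.ofFinite G
  have hDN : D ≤ Subgroup.normalizer (D : Set G) := Subgroup.le_normalizer
  have hCN : Subgroup.centralizer (D : Set G) ≤ Subgroup.normalizer (D : Set G) :=
    Subgroup.centralizer_le_normalizer _
  constructor
  · intro b hb hDb
    obtain ⟨B, hind⟩ := Cfsg.Agent.S0919.result p M hM D _ hD hDN hCN le_rfl b hb
    exact ⟨B, hind.2.1, isDefectGroup_of_induced_normalizer hM D hD b hb hDb B hind.2.1 hind, hind⟩
  · intro B hB hDB
    obtain ⟨b, hind⟩ := (Cfsg.Agent.S0958.result p M hM D (Subgroup.normalizer (D : Set G)) hD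
      (sup_le hDN hCN) le_rfl B hB).mpr ⟨D, hDB, 1, by
        intro y hy
        obtain ⟨u, hu, rfl⟩ := hy
        simpa using hu⟩
    have hDb := isDefectGroup_normalizer_of_induced hM D hD B hB hDB b hind
    refine ⟨b, ⟨hind.1, hDb, hind⟩, ?_⟩
    rintro b' ⟨-, hDb', hind'⟩
    exact induced_normalizer_unique hM D hD b' b hDb' hDb B hind' hind

end Cfsg.Agent.S0920
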