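import Cfsg.Statements.S4035
import Mathlib
import Cfsg.Agent.Lib.Lead.NormalPComplement
import Cfsg.Agent.H2.ConjUnion

set_option autoImplicit false
open Cfsg

namespace Cfsg.Agent.S4035

open Cfsg.Agent.Lib.Lead.NormalPComplement Cfsg.Agent.Lib.Lead.Frobenius Cfsg.Agent.Lib.Helper7
open scoped Pointwise
set_option linter.style.haveILetI false

theorem parts {H : Type*} [Group H] [Finite H] (p : ℕ) [hp : Fact p.Prime] (h : H) :
    ∃ (s c : H), h = s * c ∧ Commute s c ∧ (∃ k : ℕ, s ^ p ^ k = 1) ∧ (orderOf c).Coprime p := by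
  obtain ⟨k, m, hm, hn⟩ := Nat.exists_eq_pow_mul_and_not_dvd (orderOf_pos h).ne' p hp.out.ne_one
  have hcop : Nat.Coprime (p ^ k) m :=
    Nat.Coprime.pow_left k ((Nat.Prime.coprime_iff_not_dvd hp.out).2 hm)
  have hb := Nat.gcd_eq_gcd_ab (p ^ k) m
  rw [Nat.Coprime] at hcop
  rw [hcop] at hb
  set a := Nat.gcdA (p ^ k) m with ha
  set b := Nat.gcdB (p ^ k) m with hbdef
  refine ⟨h ^ ((m : ℤ) * b), h ^ (((p ^ k : ℕ) : ℤ) * a), ?_, ?_, ⟨k, ?_⟩, ?_⟩
  · rw [← zpow_add, add_comm, ← hb]
    simp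
  · exact (Commute.refl h).zpow_zpow _ _
  · rw [← zpow_natCast, ← zpow_mul]
    have : (m : ℤ) * b * ((p ^ k : ℕ) : ℤ) = ((p ^ k * m : ℕ) : ℤ) * b := by push_cast; ring
    rw [this, ← hn, zpow_mul, zpow_natCast, pow_orderOf_eq_one, one_zpow]
  · have h1 : (h ^ (((p ^ k : ℕ) : ℤ) * a)) ^ m = 1 := by
      rw [← zpow_natCast, ← zpow_mul]
      have : ((p ^ k : ℕ) : ℤ) * a * (m : ℤ) = ((p ^ k * m : ℕ) : ℤ) * a := by push_cast; ring
      rw [this, ← hn, zpow_mul, zpow_natCast, pow_orderOf_eq_one, one_zpow]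
    have h2 : orderOf (h ^ (((p ^ k : ℕ) : ℤ) * a)) ∣ m := orderOf_dvd_of_pow_eq_one h1
    apply Nat.Coprime.symm
    rw [Nat.Prime.coprime_iff_not_dvd hp.out]
    intro h3
    exact hm (dvd_trans h3 h2)

theorem ncard_carrier {G : Type*} [Group G] (x : G) :
    (ConjClasses.mk x).carrier.ncard = (Subgroup.centralizer ({x} : Set G)).index := by
  rw [← ConjAct.orbit_eq_carrier_conjClasses, ← MulAction.index_stabilizer]
  have e : MulAction.stabilizer (ConjAct G) x =
      (Subgroup.centralizer ({x} : Set G)).comap (ConjAct.ofConjAct (G := G)).toMonoidHom := by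
    ext g
    rw [MulAction.mem_stabilizer_iff, Subgroup.mem_comap, Subgroup.mem_centralizer_singleton_iff,
      ConjAct.smul_def]
    show _ ↔ ConjAct.ofConjAct g * x = x * ConjAct.ofConjAct g
    constructor
    · intro h
      calc ConjAct.ofConjAct g * x = (ConjAct.ofConjAct g * x * (ConjAct.ofConjAct g)⁻¹) * ConjAct.ofConjAct g := by group
        _ = x * ConjAct.ofConjAct g := by rw [h]
    · intro h
      rw [h]; group
  rw [e]
  exact Subgroup.index_comap_of_surjective _ (ConjAct.ofConjAct (G := G)).surjective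

/-- Let G be a finite group and p a prime such that p divides the size of no conjugacy class of p-regular elements (elements of order prime to p). Then G is the internal direct product of a Sylow p-subgroup P and a normal subgroup H of order prime to p: P is normal, P ⊓ H = 1 and PH = G. -/
theorem result {G : Type*} [Group G] [Finite G] {p : ℕ} [Fact p.Prime]
    (h : ∀ x : G, (orderOf x).Coprime p → ¬ p ∣ (ConjClasses.mk x).carrier.ncard) (P : Sylow p G) :
    (P : Subgroup G).Normal ∧ ∃ H : Subgroup G, H.Normal ∧ ¬ p ∣ Nat.card H ∧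
      (P : Subgroup G) ⊓ H = ⊥ ∧ (P : Subgroup G) ⊔ H = ⊤ := by
  classical
  set C := Subgroup.centralizer ((P : Subgroup G) : Set G) with hC
  -- Step A
  have hA : ∀ y : G, ∃ x : G, y ∈ ((P : Subgroup G) ⊔ C).map (MulAut.conj x).toMonoidHom := by
    intro y
    obtain ⟨s, c, hy, hsc, ⟨k, hs⟩, hc⟩ := parts p y
    set Cb := Subgroup.centralizer ({c} : Set G) with hCb
    have hidx : ¬ p ∣ Cb.index := by
      rw [hCb, ← ncard_carrier]; exact h c hc
    have hsCb : s ∈ Cb := by
      rw [hCb, Subgroup.mem_centralizer_singleton_iff]; exact hsc.eq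
    have hzp : IsPGroup p ↥(Subgroup.zpowers s) := by
      apply IsPGroup.of_card (n := (Nat.card ↥(Subgroup.zpowers s)).factorization p)
      rw [Nat.card_zpowers]
      have hd : orderOf s ∣ p ^ k := orderOf_dvd_of_pow_eq_one hs
      obtain ⟨j, -, hj⟩ := (Nat.dvd_prime_pow (Fact.out : p.Prime)).1 hd
      rw [hj, Nat.Prime.factorization_pow (Fact.out : p.Prime)]
      simp
    have hzle : Subgroup.zpowers s ≤ Cb := by
      rw [Subgroup.zpowers_le]; exact hsCb
    obtain ⟨R, hR, hle⟩ := exists_isSylowIn_ge (H := Cb) hzp hzle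
    have hRcard : Nat.card ↥R = p ^ (Nat.card G).factorization p := by
      rw [hR.2]
      congr 1
      rw [← Cb.card_mul_index, Nat.factorization_mul Nat.card_pos.ne' (Subgroup.index_ne_zero_of_finite),
        Finsupp.add_apply, Nat.factorization_eq_zero_of_not_dvd hidx, add_zero]
    let Rs : Sylow p G := Sylow.ofCard R hRcard
    obtain ⟨g, hg⟩ := MulAction.exists_smul_eq G Rs P
    have hRs : (Rs : Subgroup G) = R := Sylow.coe_ofCard R hRcard
    have hfwd : ∀ r ∈ R, g * r * g⁻¹ ∈ (P : Subgroup G) := by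
      intro r hr
      have h1 : MulAut.conj g • r ∈ MulAut.conj g • (Rs : Subgroup G) :=
        Subgroup.smul_mem_pointwise_smul _ _ _ (by rw [hRs]; exact hr)
      rw [← Sylow.coe_subgroup_smul, hg] at h1
      simpa [MulAut.conj_apply] using h1
    have hbwd : ∀ q ∈ (P : Subgroup G), g⁻¹ * q * g ∈ R := by
      intro q hq
      have h1 : q ∈ ((g • Rs : Sylow p G) : Subgroup G) := by rw [hg]; exact hq
      rw [Sylow.coe_subgroup_smul, Subgroup.mem_pointwise_smul_iff_inv_smul_mem, hRs] at h1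
      simpa [MulAut.conj_apply] using h1
    refine ⟨g⁻¹, ?_⟩
    rw [Cfsg.Agent.H2.mem_map_conj_iff, inv_inv]
    have e : g * y * g⁻¹ = (g * s * g⁻¹) * (g * c * g⁻¹) := by rw [hy]; group
    rw [e]
    refine Subgroup.mul_mem _ (Subgroup.mem_sup_left (hfwd s (hle (Subgroup.mem_zpowers s)))) (Subgroup.mem_sup_right ?_)
    rw [hC, Subgroup.mem_centralizer_iff]
    intro q hq
    have h1 : g⁻¹ * q * g ∈ Cb := hR.1 (hbwd q hq)
    rw [hCb, Subgroup.mem_centralizer_singleton_iff] at h1
    -- h1 : g⁻¹ * q * g * c = c * (g⁻¹ * q * g)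
    calc q * (g * c * g⁻¹) = g * (g⁻¹ * q * g * c) * g⁻¹ := by group
      _ = g * (c * (g⁻¹ * q * g)) * g⁻¹ := by rw [h1]
      _ = g * c * g⁻¹ * q := by group
  -- Step B
  have hB : (P : Subgroup G) ⊔ C = ⊤ := by
    by_contra hne
    obtain ⟨g, hg⟩ := Cfsg.Agent.H2.exists_not_mem_conj_of_ne_top _ hne
    obtain ⟨x, hx⟩ := hA g
    exact hg x hx
  -- Step C
  have hPn : (P : Subgroup G).Normal := by
    rw [← Subgroup.normalizer_eq_top_iff, eq_top_iff, ← hB]
    exact sup_le Subgroup.le_normalizer (Subgroup.centralizer_le_normalizer _)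
  haveI := hPn
  haveI hCn : C.Normal := by rw [hC]; exact Subgroup.normal_centralizer
  -- Step D
  have hq : IsPGroup p (G ⧸ C) := by
    intro y
    obtain ⟨x, rfl⟩ := QuotientGroup.mk_surjective y
    have hx : x ∈ (P : Subgroup G) ⊔ C := by rw [hB]; trivial
    have hx' : x ∈ ((P : Subgroup G) : Set G) * (C : Set G) := by
      rw [← Subgroup.normal_mul]; exact hx
    obtain ⟨a, ha, c, hc, rfl⟩ := Set.mem_mul.1 hx'
    obtain ⟨k, hk⟩ := P.isPGroup' ⟨a, ha⟩
    have hk' : a ^ p ^ k = 1 := by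
      have := congrArg Subtype.val hk
      simpa using this
    refine ⟨k, ?_⟩
    have e1 : ((a * c : G) : G ⧸ C) = (a : G ⧸ C) := by
      rw [QuotientGroup.mk_mul, (QuotientGroup.eq_one_iff c).2 hc, mul_one]
    rw [e1, ← QuotientGroup.mk_pow, hk', QuotientGroup.mk_one]
  -- Step E
  have hF : Cfsg.HasNormalPComplement p G := by
    apply hasNormalPComplement_of_p'_centralize P
    intro Q hQ g hgN hgp
    have hgC : g ∈ C := mem_of_coprime_of_isPGroup_quotient C hq hgp
    exact Subgroup.centralizer_le (show ((Q : Subgroup G) : Set G) ⊆ ((P : Subgroup G) : Set G) from hQ) hgC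
  obtain ⟨N, hN, hNc, k, hk⟩ := exists_normal_of_hasNormalPComplement hF
  refine ⟨hPn, N, hN, ?_, ?_, ?_⟩
  · intro hd
    have h4 : p ∣ Nat.gcd (Nat.card ↥N) p := Nat.dvd_gcd hd dvd_rfl
    rw [hNc] at h4
    exact (Fact.out : p.Prime).one_lt.ne' (Nat.dvd_one.1 h4)
  · apply Disjoint.eq_bot
    apply Subgroup.disjoint_of_coprime_natCard
    obtain ⟨j, hj⟩ := IsPGroup.iff_card.mp P.isPGroup'
    rw [hj]
    exact (hNc.pow_right j).symm
  · rw [← Subgroup.index_eq_one]
    have d1 : ((P : Subgroup G) ⊔ N).index ∣ (P : Subgroup G).index := Subgroup.index_dvd_of_le le_sup_left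
    have d2 : ((P : Subgroup G) ⊔ N).index ∣ p ^ k := by
      rw [← hk]; exact Subgroup.index_dvd_of_le le_sup_right
    have c1 : Nat.Coprime (P : Subgroup G).index (p ^ k) :=
      (Nat.Coprime.pow_left k ((Nat.Prime.coprime_iff_not_dvd (Fact.out : p.Prime)).2 P.not_dvd_index)).symm
    exact Nat.Coprime.eq_one_of_dvd (Nat.Coprime.coprime_dvd_left d1 c1) d2

end Cfsg.Agent.S4035
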