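import Cfsg.Statements.S1125
import Mathlib
import Cfsg.Agent.H9.RankOne2

set_option autoImplicit false
open scoped Pointwise
open Cfsg

namespace Cfsg.Agent.S1125

open Cfsg.Agent.H9.RankOne MulAction

section
variable {G Ω : Type*} [Group G] [MulAction G Ω] {a : Ω} {t : G} {Q : Subgroup G}

/-- the element of `Q` moving one fixed point of `X` to another centralises `X`. -/
lemma cent_Q (hS : Cfsg.IsRankOneSetup G Ω a t Q) {X : Set G}
    (hX : X ⊆ ((stabilizer G a ⊓ stabilizer G (t • a) : Subgroup G) : Set G)) {c c' : Ω}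
    (hc : ∀ x ∈ X, x • c = c) (hc' : ∀ x ∈ X, x • c' = c') (hca : c ≠ a) (hc'a : c' ≠ a) :
    ∃ q ∈ Subgroup.centralizer X ⊓ Q, q • c = c' := by
  obtain ⟨⟨q, hqQ⟩, hq, hqu⟩ := Q_regular hS hca hc'a
  have hq : q • c = c' := hq
  refine ⟨q, Subgroup.mem_inf.2 ⟨?_, hqQ⟩, hq⟩
  rw [Subgroup.mem_centralizer_iff]
  intro x hx
  have hxa : x ∈ stabilizer G a := (hX hx).1
  have h1 : x * q * x⁻¹ ∈ Q := hS.conj_mem x hxa q hqQ
  have h2 : (x * q * x⁻¹) • c = c' := by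
    rw [mul_smul, mul_smul]
    have : x⁻¹ • c = c := by rw [inv_smul_eq_iff]; exact (hc x hx).symm
    rw [this, hq, hc' x hx]
  have h3 : (⟨x * q * x⁻¹, h1⟩ : Q) = ⟨q, hqQ⟩ := hqu ⟨_, h1⟩ h2
  have h4 : x * q * x⁻¹ = q := congrArg Subtype.val h3
  calc x * q = x * q * x⁻¹ * x := by group
    _ = q * x := by rw [h4]

lemma tDt (hS : Cfsg.IsRankOneSetup G Ω a t Q) {x : G}
    (hx : x ∈ stabilizer G a ⊓ stabilizer G (t • a)) :
    t * x * t ∈ stabilizer G a ⊓ stabilizer G (t • a) := by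
  have hxa : x • a = a := hx.1
  have hxb : x • t • a = t • a := hx.2
  refine ⟨?_, ?_⟩
  · show (t * x * t) • a = a
    rw [mul_smul, mul_smul, hxb, t_smul_t_smul hS]
  · show (t * x * t) • t • a = t • a
    rw [mul_smul, mul_smul, t_smul_t_smul hS, hxa]

/-- the symmetric statement for the conjugate `t Q t`. -/
lemma cent_Qt (hS : Cfsg.IsRankOneSetup G Ω a t Q) {X : Set G}
    (hX : X ⊆ ((stabilizer G a ⊓ stabilizer G (t • a) : Subgroup G) : Set G)) {c c' : Ω}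
    (hc : ∀ x ∈ X, x • c = c) (hc' : ∀ x ∈ X, x • c' = c') (hcb : c ≠ t • a) (hc'b : c' ≠ t • a) :
    ∃ q ∈ Subgroup.centralizer X, q • c = c' := by
  have hca : t • c ≠ a := by
    intro h; apply hcb
    rw [← h, t_smul_t_smul hS]
  have hc'a : t • c' ≠ a := by
    intro h; apply hc'b
    rw [← h, t_smul_t_smul hS]
  obtain ⟨⟨y, hyQ⟩, hy, hyu⟩ := Q_regular hS hca hc'a
  have hy : y • t • c = t • c' := hy
  refine ⟨t * y * t, ?_, ?_⟩
  · rw [Subgroup.mem_centralizer_iff]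
    intro x hx
    have hxD := tDt hS (hX hx)
    have h1 : (t * x * t) * y * (t * x * t)⁻¹ ∈ Q := hS.conj_mem _ hxD.1 y hyQ
    have h2 : ((t * x * t) * y * (t * x * t)⁻¹) • (t • c) = t • c' := by
      have e1 : (t * x * t)⁻¹ • (t • c) = t • c := by
        rw [inv_smul_eq_iff, mul_smul, mul_smul, t_smul_t_smul hS, hc x hx]
      rw [mul_smul, mul_smul, e1, hy, mul_smul, mul_smul, t_smul_t_smul hS, hc' x hx]
    have h3 : (⟨_, h1⟩ : Q) = ⟨y, hyQ⟩ := hyu ⟨_, h1⟩ h2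
    have h4 : (t * x * t) * y * (t * x * t)⁻¹ = y := congrArg Subtype.val h3
    have h5 : (t * x * t) * y = y * (t * x * t) := by
      calc (t * x * t) * y = (t * x * t) * y * (t * x * t)⁻¹ * (t * x * t) := by group
        _ = y * (t * x * t) := by rw [h4]
    calc x * (t * y * t) = (t * t) * x * (t * y * t) := by rw [hS.mul_self, one_mul]
      _ = t * ((t * x * t) * y) * t := by group
      _ = t * (y * (t * x * t)) * t := by rw [h5]
      _ = t * y * t * x * (t * t) := by group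
      _ = t * y * t * x := by rw [hS.mul_self, mul_one]
  · rw [mul_smul, mul_smul, hy, t_smul_t_smul hS]

omit [MulAction G Ω] in
lemma cent_smul_fixed [MulAction G Ω] {X : Set G} {g : G} (hg : g ∈ Subgroup.centralizer X) {c : Ω}
    (hc : ∀ x ∈ X, x • c = c) : ∀ x ∈ X, x • g • c = g • c := by
  intro x hx
  rw [Subgroup.mem_centralizer_iff] at hg
  rw [smul_smul, hg x hx, mul_smul, hc x hx]

/-- `C_G(X)` is transitive on the fixed points of `X`. -/
lemma trans_a (hS : Cfsg.IsRankOneSetup G Ω a t Q) {X : Set G}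
    (hX : X ⊆ ((stabilizer G a ⊓ stabilizer G (t • a) : Subgroup G) : Set G))
    (h3 : ∃ b c d : Ω, b ≠ c ∧ b ≠ d ∧ c ≠ d ∧ ∀ x ∈ X, x • b = b ∧ x • c = c ∧ x • d = d)
    {c : Ω} (hc : ∀ x ∈ X, x • c = c) : ∃ g ∈ Subgroup.centralizer X, g • a = c := by
  have hFa : ∀ x ∈ X, x • a = a := fun x hx => (hX hx).1
  have hFb : ∀ x ∈ X, x • t • a = t • a := fun x hx => (hX hx).2
  -- a third fixed point
  obtain ⟨e, he, hea, heb⟩ : ∃ e : Ω, (∀ x ∈ X, x • e = e) ∧ e ≠ a ∧ e ≠ t • a := by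
    obtain ⟨b', c', d', h12, h13, h23, hfix⟩ := h3
    by_cases h1 : b' ≠ a ∧ b' ≠ t • a
    · exact ⟨b', fun x hx => (hfix x hx).1, h1.1, h1.2⟩
    by_cases h2 : c' ≠ a ∧ c' ≠ t • a
    · exact ⟨c', fun x hx => (hfix x hx).2.1, h2.1, h2.2⟩
    have hb' : b' = a ∨ b' = t • a := by
      by_contra h; push Not at h; exact h1 h
    have hc' : c' = a ∨ c' = t • a := by
      by_contra h; push Not at h; exact h2 h
    refine ⟨d', fun x hx => (hfix x hx).2.2, ?_, ?_⟩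
    · intro hd
      rcases hb' with h | h
      · exact h13 (h.trans hd.symm)
      rcases hc' with h' | h'
      · exact h23 (h'.trans hd.symm)
      · exact h12 (h.trans h'.symm)
    · intro hd
      rcases hb' with h | h
      · rcases hc' with h' | h'
        · exact h12 (h.trans h'.symm)
        · exact h23 (h'.trans hd.symm)
      · exact h13 (h.trans hd.symm)
  by_cases hca : c = a
  · exact ⟨1, Subgroup.one_mem _, by rw [one_smul, hca]⟩
  by_cases hcb : c = t • a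
  · obtain ⟨q', hq', hq'e⟩ := cent_Qt hS hX hFa he (tsmul_ne hS).symm heb
    obtain ⟨q, hq, hqe⟩ := cent_Q hS hX he hc hea hca
    exact ⟨q * q', Subgroup.mul_mem _ hq.1 hq', by rw [mul_smul, hq'e, hqe]⟩
  · exact cent_Qt hS hX hFa hc (tsmul_ne hS).symm hcb

/-- `C_G(X)` is doubly transitive on the fixed points of `X`. -/
lemma two_trans (hS : Cfsg.IsRankOneSetup G Ω a t Q) {X : Set G}
    (hX : X ⊆ ((stabilizer G a ⊓ stabilizer G (t • a) : Subgroup G) : Set G))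
    (h3 : ∃ b c d : Ω, b ≠ c ∧ b ≠ d ∧ c ≠ d ∧ ∀ x ∈ X, x • b = b ∧ x • c = c ∧ x • d = d)
    {b₁ b₂ c₁ c₂ : Ω} (hb₁ : ∀ x ∈ X, x • b₁ = b₁) (hb₂ : ∀ x ∈ X, x • b₂ = b₂)
    (hc₁ : ∀ x ∈ X, x • c₁ = c₁) (hc₂ : ∀ x ∈ X, x • c₂ = c₂) (hb : b₁ ≠ b₂) (hc : c₁ ≠ c₂) :
    ∃ g ∈ Subgroup.centralizer X, g • b₁ = c₁ ∧ g • b₂ = c₂ := by
  obtain ⟨g₁, hg₁, hg₁a⟩ := trans_a hS hX h3 hb₁
  obtain ⟨g₂, hg₂, hg₂a⟩ := trans_a hS hX h3 hc₁
  have h1 : ∀ x ∈ X, x • g₁⁻¹ • b₂ = g₁⁻¹ • b₂ :=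
    cent_smul_fixed (Subgroup.inv_mem _ hg₁) hb₂
  have h2 : ∀ x ∈ X, x • g₂⁻¹ • c₂ = g₂⁻¹ • c₂ :=
    cent_smul_fixed (Subgroup.inv_mem _ hg₂) hc₂
  have h1a : g₁⁻¹ • b₂ ≠ a := by
    intro h; apply hb
    rw [inv_smul_eq_iff] at h
    rw [h, hg₁a]
  have h2a : g₂⁻¹ • c₂ ≠ a := by
    intro h; apply hc
    rw [inv_smul_eq_iff] at h
    rw [h, hg₂a]
  obtain ⟨q, hq, hqe⟩ := cent_Q hS hX h1 h2 h1a h2a
  refine ⟨g₂ * q * g₁⁻¹, Subgroup.mul_mem _ (Subgroup.mul_mem _ hg₂ hq.1) (Subgroup.inv_mem _ hg₁),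
    ?_, ?_⟩
  · rw [mul_smul, mul_smul, ← hg₁a, inv_smul_smul, Q_smul_a hS hq.2, hg₂a]
  · rw [mul_smul, mul_smul, hqe, smul_inv_smul]

/-- an involution of `C_G(X)` swapping `a` and `t a`. -/
lemma exists_swap_invol [Finite G] (hS : Cfsg.IsRankOneSetup G Ω a t Q) {X : Set G}
    (hX : X ⊆ ((stabilizer G a ⊓ stabilizer G (t • a) : Subgroup G) : Set G))
    (h3 : ∃ b c d : Ω, b ≠ c ∧ b ≠ d ∧ c ≠ d ∧ ∀ x ∈ X, x • b = b ∧ x • c = c ∧ x • d = d) :
    ∃ u ∈ Subgroup.centralizer X, u * u = 1 ∧ u • a = t • a := by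
  have hFa : ∀ x ∈ X, x • a = a := fun x hx => (hX hx).1
  have hFb : ∀ x ∈ X, x • t • a = t • a := fun x hx => (hX hx).2
  obtain ⟨g, hg, hga, hgb⟩ := two_trans hS hX h3 hFa hFb hFb hFa (tsmul_ne hS).symm (tsmul_ne hS)
  have hggD : g * g ∈ DD G a t := by
    refine ⟨?_, ?_⟩
    · show (g * g) • a = a
      rw [mul_smul, hga, hgb]
    · show (g * g) • t • a = t • a
      rw [mul_smul, hgb, hga]
  obtain ⟨m, hm⟩ := hS.odd_card
  have h1 : (g * g) ^ (2 * m + 1) = 1 := by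
    have h := pow_card_eq_one' (G := DD G a t) (x := ⟨g * g, hggD⟩)
    have h2 := congrArg (Subtype.val) h
    rw [Subgroup.coe_pow, Subgroup.coe_one, hm] at h2
    exact h2
  have hodd : ∀ j : ℕ, g ^ (2 * j + 1) • a = t • a := by
    intro j
    induction j with
    | zero => simpa using hga
    | succ j ih =>
      have : 2 * (j + 1) + 1 = 2 + (2 * j + 1) := by ring
      rw [this, pow_add, mul_smul, ih, pow_two, mul_smul, hgb, hga]
  refine ⟨g ^ (2 * m + 1), Subgroup.pow_mem _ hg _, ?_, hodd m⟩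
  rw [← pow_add]
  have : 2 * m + 1 + (2 * m + 1) = 2 * (2 * m + 1) := by ring
  rw [this, pow_mul, pow_two, h1]

end

theorem result {G Ω : Type*} [Group G] [Finite G] [MulAction G Ω] {a : Ω} {t : G} {Q : Subgroup G}
    (hS : Cfsg.IsRankOneSetup G Ω a t Q)
    (X : Set G) (hX : X ⊆ ((MulAction.stabilizer G a ⊓ MulAction.stabilizer G (t • a)) : Set G))
    (h3 : ∃ b c d : Ω, b ≠ c ∧ b ≠ d ∧ c ≠ d ∧ ∀ x ∈ X, x • b = b ∧ x • c = c ∧ x • d = d) :
    (∀ b₁ b₂ c₁ c₂ : Ω, (∀ x ∈ X, x • b₁ = b₁ ∧ x • b₂ = b₂ ∧ x • c₁ = c₁ ∧ x • c₂ = c₂) →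
        b₁ ≠ b₂ → c₁ ≠ c₂ → ∃ g ∈ Subgroup.centralizer X, g • b₁ = c₁ ∧ g • b₂ = c₂) ∧
      Even (Nat.card ↥(Subgroup.centralizer X ⊓ Q)) ∧
      (Subgroup.centralizer X ⊓ Q) ⊔ (Subgroup.centralizer X ⊓ (MulAction.stabilizer G a ⊓ MulAction.stabilizer G (t • a))) = Subgroup.centralizer X ⊓ MulAction.stabilizer G a := by
  have hFa : ∀ x ∈ X, x • a = a := fun x hx => (hX hx).1
  have hFb : ∀ x ∈ X, x • t • a = t • a := fun x hx => (hX hx).2
  refine ⟨?_, ?_, ?_⟩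
  · intro b₁ b₂ c₁ c₂ hfix hb hc
    exact two_trans hS hX h3 (fun x hx => (hfix x hx).1) (fun x hx => (hfix x hx).2.1)
      (fun x hx => (hfix x hx).2.2.1) (fun x hx => (hfix x hx).2.2.2) hb hc
  · obtain ⟨u, huC, huu, hua⟩ := exists_swap_invol hS hX h3
    have hu1 : u ≠ 1 := by
      rintro rfl
      rw [one_smul] at hua
      exact tsmul_ne hS hua.symm
    obtain ⟨c, hc, hcu⟩ := invol_unique_fixed hS hu1 huu
    have hcF : ∀ x ∈ X, x • c = c := by
      intro x hx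
      apply hcu
      show u • x • c = x • c
      have := (Subgroup.mem_centralizer_iff.1 huC) x hx
      rw [smul_smul, ← this, mul_smul, hc]
    obtain ⟨g, hgC, hga⟩ := trans_a hS hX h3 hcF
    have hu' : g⁻¹ * u * g ∈ Subgroup.centralizer X ⊓ Q := by
      refine ⟨Subgroup.mul_mem _ (Subgroup.mul_mem _ (Subgroup.inv_mem _ hgC) huC) hgC, ?_⟩
      apply invol_mem_Q hS
      · show (g⁻¹ * u * g) • a = a
        rw [mul_smul, mul_smul, hga, hc, ← hga, inv_smul_smul]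
      · calc g⁻¹ * u * g * (g⁻¹ * u * g) = g⁻¹ * (u * u) * g := by group
          _ = 1 := by rw [huu]; group
    have hord : orderOf (⟨g⁻¹ * u * g, hu'⟩ : ↥(Subgroup.centralizer X ⊓ Q)) = 2 := by
      apply orderOf_eq_prime
      · apply Subtype.ext
        rw [Subgroup.coe_pow, pow_two]
        show g⁻¹ * u * g * (g⁻¹ * u * g) = 1
        calc g⁻¹ * u * g * (g⁻¹ * u * g) = g⁻¹ * (u * u) * g := by group
          _ = 1 := by rw [huu]; group
      · intro h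
        have h' : g⁻¹ * u * g = 1 := congrArg Subtype.val h
        apply hu1
        have : u = g * (g⁻¹ * u * g) * g⁻¹ := by group
        rw [this, h']; group
    rw [even_iff_two_dvd, ← hord]
    exact orderOf_dvd_natCard _
  · apply le_antisymm
    · apply sup_le
      · exact inf_le_inf_left _ hS.le
      · exact inf_le_inf_left _ inf_le_left
    · rintro g ⟨hgC, hga⟩
      have hga : g • a = a := hga
      have hgbF : ∀ x ∈ X, x • g • t • a = g • t • a := cent_smul_fixed hgC hFb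
      have hgba : g • t • a ≠ a := by
        intro h
        apply tsmul_ne hS
        have : g⁻¹ • (g • t • a) = g⁻¹ • a := by rw [h]
        rw [inv_smul_smul] at this
        rw [this, inv_smul_eq_iff, hga]
      obtain ⟨q, hq, hqe⟩ := cent_Q hS hX hFb hgbF (tsmul_ne hS) hgba
      have : g = q * (q⁻¹ * g) := by group
      rw [this]
      apply Subgroup.mul_mem_sup hq
      refine ⟨Subgroup.mul_mem _ (Subgroup.inv_mem _ hq.1) hgC, ⟨?_, ?_⟩⟩
      · show (q⁻¹ * g) • a = a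
        rw [mul_smul, hga, inv_smul_eq_iff, Q_smul_a hS hq.2]
      · show (q⁻¹ * g) • t • a = t • a
        rw [mul_smul, ← hqe, inv_smul_smul]

end Cfsg.Agent.S1125
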