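import Cfsg.Statements.S1126
import Mathlib
import Cfsg.Agent.H9.RankOne2
import Cfsg.Agent.S1125

set_option autoImplicit false
open scoped Pointwise
open Cfsg

namespace Cfsg.Agent.S1126

open Cfsg.Agent.H9.RankOne MulAction

theorem result {G Ω : Type*} [Group G] [Finite G] [MulAction G Ω] {a : Ω} {t : G} {Q : Subgroup G}
    (hS : Cfsg.IsRankOneSetup G Ω a t Q)
    (X : Set G) (hX : X ⊆ ((MulAction.stabilizer G a ⊓ MulAction.stabilizer G (t • a)) : Set G))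
    (h3 : ∃ b c d : Ω, b ≠ c ∧ b ≠ d ∧ c ≠ d ∧ ∀ x ∈ X, x • b = b ∧ x • c = c ∧ x • d = d) :
    ∃ k ∈ (MulAction.stabilizer G a ⊓ MulAction.stabilizer G (t • a)), ∀ x ∈ X, (k * x * k⁻¹) * t = t * (k * x * k⁻¹) := by
  obtain ⟨u, huC, huu, hua⟩ := Cfsg.Agent.S1125.exists_swap_invol hS hX h3
  have hk := mem_K_of_swap hS huu hua
  obtain ⟨h, hh, hhk⟩ := K_sqrt hS hk
  have hu : u = h⁻¹ * t * h := by
    rw [← tk_eq_conj hS hh, hhk, ← mul_assoc, hS.mul_self, one_mul]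
  refine ⟨h, hh.1, ?_⟩
  intro x hx
  have hc := (Subgroup.mem_centralizer_iff.1 huC) x hx
  rw [hu] at hc
  calc h * x * h⁻¹ * t = h * (x * (h⁻¹ * t * h)) * h⁻¹ := by group
    _ = h * ((h⁻¹ * t * h) * x) * h⁻¹ := by rw [hc]
    _ = t * (h * x * h⁻¹) := by group

end Cfsg.Agent.S1126
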