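import Cfsg.Statements.S1128
import Mathlib
import Cfsg.Agent.H9.RankOne2
import Cfsg.Agent.S1126

set_option autoImplicit false
open scoped Pointwise
open Cfsg

namespace Cfsg.Agent.S1128

open Cfsg.Agent.H9.RankOne MulAction

/-- A non-identity element of `K` has no non-identity fixed point in `Q` (no faithfulness or
2-rank hypothesis is needed). -/
theorem fpf {G Ω : Type*} [Group G] [Finite G] [MulAction G Ω] {a : Ω} {t : G} {Q : Subgroup G}
    (hS : Cfsg.IsRankOneSetup G Ω a t Q)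
    (x : G) (hx : x ∈ Cfsg.invertedBy (MulAction.stabilizer G a ⊓ MulAction.stabilizer G (t • a)) t)
    (hx1 : x ≠ 1) {q : G} (hq : q ∈ Q) (hqx : x * q = q * x) : q = 1 := by
  by_contra hq1
  have hxa : x • a = a := hx.1.1
  have hxb : x • t • a = t • a := hx.1.2
  have hX : ({x} : Set G) ⊆ ((stabilizer G a ⊓ stabilizer G (t • a) : Subgroup G) : Set G) := by
    intro y hy
    rw [Set.mem_singleton_iff] at hy
    rw [hy]; exact hx.1
  have hqb : q • t • a ≠ t • a := fun h => hq1 (Q_free_b hS hq h)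
  have hqa : q • t • a ≠ a := by
    intro h
    apply tsmul_ne hS
    have h' : q⁻¹ • (q • t • a) = q⁻¹ • a := by rw [h]
    rw [inv_smul_smul] at h'
    rw [h', inv_smul_eq_iff, Q_smul_a hS hq]
  have h3 : ∃ b c d : Ω, b ≠ c ∧ b ≠ d ∧ c ≠ d ∧
      ∀ y ∈ ({x} : Set G), y • b = b ∧ y • c = c ∧ y • d = d := by
    refine ⟨a, t • a, q • t • a, (tsmul_ne hS).symm, hqa.symm, hqb.symm, ?_⟩
    intro y hy
    rw [Set.mem_singleton_iff] at hy
    subst hy
    refine ⟨hxa, hxb, ?_⟩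
    rw [smul_smul, hqx, mul_smul, hxb]
  obtain ⟨k, hk, hkx⟩ := Cfsg.Agent.S1126.result hS {x} hX h3
  have hyt := hkx x rfl
  have hka : k • a = a := hk.1
  have hkb : k • t • a = t • a := hk.2
  have hkia : k⁻¹ • a = a := by rw [inv_smul_eq_iff, hka]
  have hkib : k⁻¹ • t • a = t • a := by rw [inv_smul_eq_iff, hkb]
  have hti := t_inv hS
  -- e = t (k t k⁻¹) ∈ D inverts y = k x k⁻¹
  have heD : t * (k * t * k⁻¹) ∈ DD G a t := by
    refine ⟨?_, ?_⟩
    · show (t * (k * t * k⁻¹)) • a = a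
      rw [mul_smul, mul_smul, mul_smul, hkia, hkb, t_smul_t_smul hS]
    · show (t * (k * t * k⁻¹)) • t • a = t • a
      rw [mul_smul, mul_smul, mul_smul, hkib, t_smul_t_smul hS, hka]
  have hyD : k * x * k⁻¹ ∈ DD G a t :=
    (DD G a t).mul_mem ((DD G a t).mul_mem hk hx.1) ((DD G a t).inv_mem hk)
  have hinv : (t * (k * t * k⁻¹)) * (k * x * k⁻¹) * (t * (k * t * k⁻¹))⁻¹ = (k * x * k⁻¹)⁻¹ := by
    have h1 : (k * t * k⁻¹) * (k * x * k⁻¹) * (k * t * k⁻¹)⁻¹ = (k * x * k⁻¹)⁻¹ := by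
      calc (k * t * k⁻¹) * (k * x * k⁻¹) * (k * t * k⁻¹)⁻¹ = k * (t * x * t⁻¹) * k⁻¹ := by group
        _ = k * x⁻¹ * k⁻¹ := by rw [hx.2]
        _ = (k * x * k⁻¹)⁻¹ := by group
    have h2 : t * (k * x * k⁻¹)⁻¹ * t⁻¹ = (k * x * k⁻¹)⁻¹ := by
      have : t * (k * x * k⁻¹)⁻¹ * t⁻¹ = (t * (k * x * k⁻¹) * t⁻¹)⁻¹ := by group
      rw [this, ← hyt]; group
    calc (t * (k * t * k⁻¹)) * (k * x * k⁻¹) * (t * (k * t * k⁻¹))⁻¹
        = t * ((k * t * k⁻¹) * (k * x * k⁻¹) * (k * t * k⁻¹)⁻¹) * t⁻¹ := by group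
      _ = (k * x * k⁻¹)⁻¹ := by rw [h1, h2]
  set e := t * (k * t * k⁻¹) with he
  set y := k * x * k⁻¹ with hy
  -- e has odd order, so e commutes with y
  obtain ⟨m, hm⟩ := hS.odd_card
  have he1 : e ^ (2 * m + 1) = 1 := by
    have h := pow_card_eq_one' (G := DD G a t) (x := ⟨e, heD⟩)
    have h2 := congrArg (Subtype.val) h
    rw [Subgroup.coe_pow, Subgroup.coe_one, hm] at h2
    exact h2
  have hee : Commute (e * e) y := by
    show e * e * y = y * (e * e)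
    calc e * e * y = e * (e * y * e⁻¹) * e⁻¹ * (e * e) := by group
      _ = e * y⁻¹ * e⁻¹ * (e * e) := by rw [hinv]
      _ = (e * y * e⁻¹)⁻¹ * (e * e) := by group
      _ = y * (e * e) := by rw [hinv, inv_inv]
  have hecomm : Commute e y := by
    have : e = (e * e) ^ (m + 1) := by
      rw [← pow_two, ← pow_mul]
      have : 2 * (m + 1) = (2 * m + 1) + 1 := by ring
      rw [this, pow_succ, he1, one_mul]
    rw [this]
    exact hee.pow_left _
  have hyy : y * y = 1 := by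
    have h1 : e * y * e⁻¹ = y := by
      have : e * y = y * e := hecomm
      rw [this]; group
    rw [h1] at hinv
    calc y * y = y * y⁻¹ := by rw [← hinv]
      _ = 1 := by group
  have hy1 : y = 1 := D_sq_eq_one hS hyD hyy
  apply hx1
  have : x = k⁻¹ * y * k := by rw [hy]; group
  rw [this, hy1]; group

theorem result {G Ω : Type*} [Group G] [Finite G] [MulAction G Ω] [FaithfulSMul G Ω] {a : Ω} {t : G} {Q : Subgroup G}
    (hS : Cfsg.IsRankOneSetup G Ω a t Q)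
    (h2 : ∃ x y : G, x ≠ 1 ∧ y ≠ 1 ∧ x ≠ y ∧ x * x = 1 ∧ y * y = 1 ∧ x * y = y * x)
    (x : G) (hx : x ∈ Cfsg.invertedBy (MulAction.stabilizer G a ⊓ MulAction.stabilizer G (t • a)) t) (hx1 : x ≠ 1) :
    Q ⊓ Subgroup.centralizer {x} = ⊥ := by
  rw [eq_bot_iff]
  rintro q ⟨hq, hqc⟩
  rw [Subgroup.mem_bot]
  apply fpf hS x hx hx1 hq
  exact (Subgroup.mem_centralizer_iff.1 hqc) x rfl

end Cfsg.Agent.S1128
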