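import Mathlib
import Cfsg.Statements.S1326
import Cfsg.Agent.H2.Layer

set_option autoImplicit false
open Cfsg

namespace Cfsg.Agent.S1326

/-- For a finite group X: the Fitting subgroup contains its centralizer if and only if the layer of X is trivial. -/
theorem result {X : Type*} [Group X] [Finite X] : Subgroup.centralizer (Cfsg.fittingSubgroup X : Set X) ≤ Cfsg.fittingSubgroup X ↔ Cfsg.layer X = ⊥ := by
  constructor
  · intro h
    have hE : Cfsg.layer X ≤ Cfsg.fittingSubgroup X := by
      refine le_trans ?_ h
      rw [← Subgroup.commutator_eq_bot_iff_le_centralizer]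
      exact Cfsg.Agent.H2.layer_commutator_fittingSubgroup
    rw [eq_bot_iff]
    apply Cfsg.Agent.H2.layer_le_iff.2
    intro L hL
    exfalso
    have hLF : L ≤ Cfsg.fittingSubgroup X := (Cfsg.Agent.H2.component_le_layer hL).trans hE
    have hs : Group.IsSolvable (Cfsg.fittingSubgroup X) := Cfsg.Agent.H2.fittingSubgroup_isSolvable
    have : Group.IsSolvable L :=
      Group.isSolvable_of_isSolvable_injective (Subgroup.inclusion_injective hLF)
    exact Cfsg.Agent.H2.quasisimple_not_isSolvable hL.2 this
  · intro h
    have h1 := Cfsg.Agent.H2.centralizer_generalizedFittingSubgroup_le (G := X)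
    unfold Cfsg.generalizedFittingSubgroup at h1
    rwa [h, bot_sup_eq] at h1

end Cfsg.Agent.S1326
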