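import Mathlib
import Cfsg.Statements.S1327
import Cfsg.Agent.H2.LayerQuotient
import Cfsg.Agent.H2.CosetFixedPoint
import Cfsg.Agent.S1326

set_option autoImplicit false
open Cfsg

namespace Cfsg.Agent.S1327

open Cfsg.Agent.H2

section

variable {X : Type*} [Group X] [Finite X] (p : ℕ) [Fact p.Prime]

/-- the image of a Sylow `p`-subgroup of the preimage of a `p`-subgroup `R̄` of `X / O`, `O` a normal
`p'`-subgroup, is `R̄` -/
theorem map_sylow_comap (O : Subgroup X) [O.Normal] (hOc : (Nat.card O).Coprime p)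
    (Rbar : Subgroup (X ⧸ O)) (hRp : IsPGroup p Rbar) (Y : Subgroup X)
    (hY : Y = Rbar.comap (QuotientGroup.mk' O)) (P : Sylow p ↥Y) :
    ((P : Subgroup ↥Y).map Y.subtype).map (QuotientGroup.mk' O) = Rbar := by
  have hP'Y : (P : Subgroup ↥Y).map Y.subtype ≤ Y := map_subtype_le _ _
  have hle : ((P : Subgroup ↥Y).map Y.subtype).map (QuotientGroup.mk' O) ≤ Rbar := by
    rintro _ ⟨y, hy, rfl⟩
    have := hP'Y hy
    rw [hY] at this
    exact this
  apply Subgroup.eq_of_le_of_card_ge hle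
  -- cardinalities
  have hcardY : Nat.card Y = Nat.card Rbar * Nat.card O := by rw [hY]; exact card_comap_mk' O _
  obtain ⟨n, hn⟩ := IsPGroup.iff_card.1 hRp
  have hp : p.Prime := Fact.out
  have hcardP : Nat.card (P : Subgroup ↥Y) = p ^ n := by
    rw [Sylow.card_eq_multiplicity, hcardY, hn]
    congr 1
    rw [Nat.factorization_mul (pow_ne_zero n hp.ne_zero) Nat.card_pos.ne']
    simp only [Finsupp.coe_add, Pi.add_apply]
    rw [Nat.Prime.factorization_pow hp]
    simp only [Finsupp.single_eq_same]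
    have : (Nat.card O).factorization p = 0 := by
      apply Nat.factorization_eq_zero_of_not_dvd
      exact (Nat.Prime.coprime_iff_not_dvd hp).1 hOc.symm
    omega
  have hcardP' : Nat.card ((P : Subgroup ↥Y).map Y.subtype) = p ^ n := by
    rw [← Nat.card_congr ((P : Subgroup ↥Y).equivMapOfInjective Y.subtype
      Y.subtype_injective).toEquiv, hcardP]
  -- π is injective on P'
  have hP'p : IsPGroup p ((P : Subgroup ↥Y).map Y.subtype) := P.2.map _
  have hinj : Function.Injective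
      ((QuotientGroup.mk' O).comp ((P : Subgroup ↥Y).map Y.subtype).subtype) := by
    rw [← MonoidHom.ker_eq_bot_iff, eq_bot_iff]
    intro y hy
    rw [MonoidHom.mem_ker] at hy
    have hyO : (y : X) ∈ O := (QuotientGroup.eq_one_iff _).1 hy
    have : (y : X) = 1 := by
      apply eq_one_of_isPGroup_of_coprime hP'p y.2
      have h1 := orderOf_dvd_natCard (⟨(y : X), hyO⟩ : O)
      rw [Subgroup.orderOf_mk] at h1
      exact Nat.Coprime.coprime_dvd_left h1 hOc
    rw [Subgroup.mem_bot]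
    exact Subtype.ext this
  have hrange : ((QuotientGroup.mk' O).comp ((P : Subgroup ↥Y).map Y.subtype).subtype).range =
      ((P : Subgroup ↥Y).map Y.subtype).map (QuotientGroup.mk' O) := by
    rw [MonoidHom.range_eq_map, ← Subgroup.map_map, ← MonoidHom.range_eq_map,
      Subgroup.range_subtype]
  rw [hn, ← hrange, ← Nat.card_congr (MonoidHom.ofInjective hinj).toEquiv, hcardP']

/-- lifting centralizers of `p`-subgroups modulo a normal `p'`-subgroup -/
theorem exists_lift_centralizer (O : Subgroup X) [O.Normal] (hOc : (Nat.card O).Coprime p)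
    (P' : Subgroup X) (hP' : IsPGroup p P') (x : X)
    (hx : QuotientGroup.mk' O x ∈ Subgroup.centralizer ((P'.map (QuotientGroup.mk' O) :
      Subgroup (X ⧸ O)) : Set (X ⧸ O))) :
    ∃ m ∈ O, x * m ∈ Subgroup.centralizer (P' : Set X) := by
  have hle : P' ≤ cosetStab O x := by
    intro b hb
    refine ⟨?_, ?_⟩
    · rw [Subgroup.normalizer_eq_top_iff.2 inferInstance]; exact Subgroup.mem_top _
    · rw [← QuotientGroup.eq_one_iff]
      have h1 := Subgroup.mem_centralizer_iff.1 hx (QuotientGroup.mk' O b)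
        (Subgroup.mem_map_of_mem _ hb)
      have : ((x⁻¹ * b * x * b⁻¹ : X) : X ⧸ O) =
          (QuotientGroup.mk' O x)⁻¹ * (QuotientGroup.mk' O b * QuotientGroup.mk' O x) *
            (QuotientGroup.mk' O b)⁻¹ := by
        simp only [QuotientGroup.mk'_apply, QuotientGroup.mk_mul, QuotientGroup.mk_inv]
        group
      rw [this, h1]
      group
  have hOp : ¬ p ∣ Nat.card O := (Nat.Prime.coprime_iff_not_dvd Fact.out).1 hOc.symm
  obtain ⟨m, hm, hfix⟩ := exists_mem_coset_fixed P' O hP' hOp x hle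
  refine ⟨m, hm, ?_⟩
  rw [Subgroup.mem_centralizer_iff]
  intro b hb
  have := hfix b hb
  calc b * (x * m) = (b * (x * m) * b⁻¹) * b := by group
    _ = x * m * b := by rw [this]

/-- if `O_{p'}(Z) = 1` then `F(Z) = O_p(Z)` -/
theorem fittingSubgroup_eq_pCore_of_pPrimeCore_eq_bot {Z : Type*} [Group Z] [Finite Z]
    (h : Cfsg.pPrimeCore p Z = ⊥) : Cfsg.fittingSubgroup Z = Cfsg.pCore p Z := by
  rw [Cfsg.Agent.H1.fittingSubgroup_eq_iSup_pCore]
  apply le_antisymm
  · apply iSup_le
    intro q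
    by_cases hqp : (q : ℕ) = p
    · rw [hqp]
    · have : Cfsg.pCore (q : ℕ) Z ≤ Cfsg.pPrimeCore p Z :=
        Cfsg.Agent.H1.le_pPrimeCore inferInstance
          (Cfsg.Agent.H1.pCore_coprime_of_ne Fact.out q.2 hqp)
      rw [h] at this
      exact this.trans bot_le
  · exact le_iSup (fun q : Nat.Primes => Cfsg.pCore (q : ℕ) Z) ⟨p, Fact.out⟩

theorem centralizer_pCore_le_iff :
    Subgroup.centralizer ((Cfsg.pCore p (X ⧸ Cfsg.pPrimeCore p X) :
      Subgroup (X ⧸ Cfsg.pPrimeCore p X)) : Set (X ⧸ Cfsg.pPrimeCore p X)) ≤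
      Cfsg.pCore p (X ⧸ Cfsg.pPrimeCore p X) ↔ Cfsg.pLayer p X = ⊥ := by
  rw [← fittingSubgroup_eq_pCore_of_pPrimeCore_eq_bot p (pPrimeCore_quotient_eq_bot p),
    Cfsg.Agent.S1326.result, ← pLayer_map_mk'_eq p]
  constructor
  · intro h
    rw [Subgroup.map_eq_bot_iff, QuotientGroup.ker_mk'] at h
    rw [eq_bot_iff]
    apply sSup_le
    intro K hK
    exfalso
    have h1 : K ≤ Cfsg.pPrimeCore p X := (pComponent_le_pLayer p hK).trans h
    have h2 : (Nat.card K).Coprime p :=
      Nat.Coprime.coprime_dvd_left (Subgroup.card_dvd_of_le h1) (Cfsg.Agent.H1.pPrimeCore_coprime p)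
    exact (Nat.Prime.coprime_iff_not_dvd Fact.out).1 h2.symm (pComponent_dvd_card p hK)
  · intro h
    rw [h, Subgroup.map_bot]

end

/-- A finite group X is p-constrained if and only if its p-layer L_{p'}(X) is trivial (equivalently X / O_{p'}(X) has trivial layer). -/
theorem result {X : Type*} [Group X] [Finite X] (p : ℕ) [Fact p.Prime] : Cfsg.IsPConstrained p X ↔ Cfsg.pLayer p X = ⊥ := by
  rw [← centralizer_pCore_le_iff p]
  have hOc : (Nat.card (Cfsg.pPrimeCore p X)).Coprime p := Cfsg.Agent.H1.pPrimeCore_coprime p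
  have hRp : IsPGroup p (Cfsg.pCore p (X ⧸ Cfsg.pPrimeCore p X)) := Cfsg.Agent.H1.pCore_isPGroup p
  constructor
  · intro h
    obtain ⟨P⟩ : Nonempty (Sylow p ↥(Cfsg.pPrimePCore p X)) := inferInstance
    have hP := h P
    have hmap := map_sylow_comap p (Cfsg.pPrimeCore p X) hOc _ hRp (Cfsg.pPrimePCore p X) rfl P
    intro xbar hxbar
    obtain ⟨x, rfl⟩ := QuotientGroup.mk'_surjective _ xbar
    rw [← hmap] at hxbar
    obtain ⟨m, hm, hxm⟩ := exists_lift_centralizer p (Cfsg.pPrimeCore p X) hOc _ (P.2.map _) x hxbar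
    have h1 : x * m ∈ Cfsg.pPrimePCore p X := hP hxm
    have h2 : QuotientGroup.mk' (Cfsg.pPrimeCore p X) (x * m) ∈
        Cfsg.pCore p (X ⧸ Cfsg.pPrimeCore p X) := h1
    have h3 : QuotientGroup.mk' (Cfsg.pPrimeCore p X) m = 1 := (QuotientGroup.eq_one_iff m).2 hm
    rw [map_mul, h3, mul_one] at h2
    exact h2
  · intro h P x hx
    have hmap := map_sylow_comap p (Cfsg.pPrimeCore p X) hOc _ hRp (Cfsg.pPrimePCore p X) rfl P
    show QuotientGroup.mk' (Cfsg.pPrimeCore p X) x ∈ Cfsg.pCore p (X ⧸ Cfsg.pPrimeCore p X)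
    apply h
    rw [← hmap, Subgroup.mem_centralizer_iff]
    rintro _ ⟨y, hy, rfl⟩
    have := Subgroup.mem_centralizer_iff.1 hx y hy
    rw [← map_mul, ← map_mul, this]

end Cfsg.Agent.S1327
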