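import Mathlib
import Cfsg.Statements.S3305
import Cfsg.Agent.H9.Basic

set_option autoImplicit false
open Cfsg

namespace Cfsg.Agent.S3305

open scoped Pointwise

theorem mem_smul {G : Type*} [Group G] {p : ℕ} (P : Sylow p G) (g x : G) :
    x ∈ ((g • P : Sylow p G) : Subgroup G) ↔ g⁻¹ * x * g ∈ (P : Subgroup G) := by
  rw [Sylow.coe_subgroup_smul, Subgroup.mem_pointwise_smul_iff_inv_smul_mem]
  simp [MulAut.smul_def]

/-- Given a Sylow `S₀` of `G` with image `Sb` and a `2`-subgroup `R₀` whose image lies in `Sb`,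
there is a Sylow `S₁ ≥ R₀` of `G` with image `Sb`. -/
theorem exists_sylow_ge {G : Type*} [Group G] [Finite G] (H : Subgroup G) [H.Normal]
    [Fact (Nat.Prime 2)]
    (Sb : Sylow 2 (G ⧸ H)) (S₀ : Sylow 2 G)
    (hS₀ : (S₀ : Subgroup G).map (QuotientGroup.mk' H) = (Sb : Subgroup (G ⧸ H)))
    (R₀ : Subgroup G) (hR₀ : IsPGroup 2 R₀)
    (hR₀S : ∀ r ∈ R₀, QuotientGroup.mk' H r ∈ (Sb : Subgroup (G ⧸ H))) :
    ∃ S₁ : Sylow 2 G, R₀ ≤ (S₁ : Subgroup G) ∧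
      (S₁ : Subgroup G).map (QuotientGroup.mk' H) = (Sb : Subgroup (G ⧸ H)) := by
  have hπ : Function.Surjective (QuotientGroup.mk' H) := QuotientGroup.mk'_surjective H
  have hS₀N : (S₀ : Subgroup G) ≤ (Sb : Subgroup (G ⧸ H)).comap (QuotientGroup.mk' H) := by
    rw [← Subgroup.map_le_iff_le_comap, hS₀]
  obtain ⟨a, haN, ha⟩ := Cfsg.Agent.H9.exists_conj_mem_sylow_of_le S₀ _ hS₀N R₀ hR₀
    (fun r hr => hR₀S r hr)
  have haS : QuotientGroup.mk' H a ∈ (Sb : Subgroup (G ⧸ H)) := haN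
  refine ⟨a⁻¹ • S₀, ?_, ?_⟩
  · intro r hr
    rw [mem_smul, inv_inv]
    exact ha r hr
  · have hle : ((a⁻¹ • S₀ : Sylow 2 G) : Subgroup G).map (QuotientGroup.mk' H)
        ≤ (Sb : Subgroup (G ⧸ H)) := by
      rintro _ ⟨y, hy, rfl⟩
      have hy' : y ∈ ((a⁻¹ • S₀ : Sylow 2 G) : Subgroup G) := hy
      rw [mem_smul, inv_inv] at hy'
      have h1 : QuotientGroup.mk' H (a * y * a⁻¹) ∈ (Sb : Subgroup (G ⧸ H)) := by
        rw [← hS₀]; exact ⟨_, hy', rfl⟩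
      rw [map_mul, map_mul, map_inv] at h1
      have h2 := Subgroup.mul_mem _ (Subgroup.mul_mem _ (Subgroup.inv_mem _ haS) h1) haS
      have h3 : (QuotientGroup.mk' H a)⁻¹ *
          (QuotientGroup.mk' H a * QuotientGroup.mk' H y * (QuotientGroup.mk' H a)⁻¹) *
          QuotientGroup.mk' H a = QuotientGroup.mk' H y := by group
      rwa [h3] at h2
    exact (((a⁻¹ • S₀ : Sylow 2 G).mapSurjective hπ).is_maximal' Sb.isPGroup' hle).symm

/-- If any two distinct Sylow 2-subgroups of the finite group G intersect in a cyclic group, then the same holds in every quotient group G/H, H a normal subgroup of G. -/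
theorem result {G : Type*} [Group G] [Finite G]
    (hC : ∀ S T : Sylow 2 G, S ≠ T → IsCyclic ↥((S : Subgroup G) ⊓ (T : Subgroup G))) (H : Subgroup G) [H.Normal] :
    ∀ S T : Sylow 2 (G ⧸ H), S ≠ T → IsCyclic ↥((S : Subgroup (G ⧸ H)) ⊓ (T : Subgroup (G ⧸ H))) := by
  intro Sb Tb hne
  have h2 : Fact (Nat.Prime 2) := ⟨Nat.prime_two⟩
  have hπ : Function.Surjective (QuotientGroup.mk' H) := QuotientGroup.mk'_surjective H
  obtain ⟨S₀, hS₀⟩ := Sylow.mapSurjective_surjective hπ 2 Sb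
  obtain ⟨T₀, hT₀⟩ := Sylow.mapSurjective_surjective hπ 2 Tb
  have hS₀' : (S₀ : Subgroup G).map (QuotientGroup.mk' H) = (Sb : Subgroup (G ⧸ H)) := by
    rw [← hS₀]; rfl
  have hT₀' : (T₀ : Subgroup G).map (QuotientGroup.mk' H) = (Tb : Subgroup (G ⧸ H)) := by
    rw [← hT₀]; rfl
  let f : ((Sb : Subgroup (G ⧸ H)) ⊓ (Tb : Subgroup (G ⧸ H))).comap (QuotientGroup.mk' H) →*
      ↥((Sb : Subgroup (G ⧸ H)) ⊓ (Tb : Subgroup (G ⧸ H))) :=
    ((QuotientGroup.mk' H).comp (Subgroup.subtype _)).codRestrict _ (fun d => d.2)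
  have hf : Function.Surjective f := by
    rintro ⟨d, hd⟩
    obtain ⟨g, rfl⟩ := hπ d
    exact ⟨⟨g, hd⟩, rfl⟩
  obtain ⟨R⟩ : Nonempty (Sylow 2
    (((Sb : Subgroup (G ⧸ H)) ⊓ (Tb : Subgroup (G ⧸ H))).comap (QuotientGroup.mk' H))) :=
    inferInstance
  have hDbp : IsPGroup 2 ↥((Sb : Subgroup (G ⧸ H)) ⊓ (Tb : Subgroup (G ⧸ H))) :=
    Sb.isPGroup'.to_le inf_le_left
  have htop : (⊤ : Subgroup ↥((Sb : Subgroup (G ⧸ H)) ⊓ (Tb : Subgroup (G ⧸ H))))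
      = ((R.mapSurjective hf : Sylow 2 _) : Subgroup _) :=
    (R.mapSurjective hf).is_maximal' (hDbp.to_subgroup ⊤) le_top
  -- the subgroup R₀ of G
  have hR₀p : IsPGroup 2 ((R : Subgroup _).map
      (((Sb : Subgroup (G ⧸ H)) ⊓ (Tb : Subgroup (G ⧸ H))).comap
        (QuotientGroup.mk' H)).subtype : Subgroup G) :=
    R.isPGroup'.map _
  have hR₀D : ∀ r ∈ ((R : Subgroup _).map
      (((Sb : Subgroup (G ⧸ H)) ⊓ (Tb : Subgroup (G ⧸ H))).comap
        (QuotientGroup.mk' H)).subtype : Subgroup G),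
      QuotientGroup.mk' H r ∈ (Sb : Subgroup (G ⧸ H)) ⊓ (Tb : Subgroup (G ⧸ H)) := by
    rintro _ ⟨r, _, rfl⟩
    exact r.2
  obtain ⟨S₁, hRS₁, hS₁⟩ := exists_sylow_ge H Sb S₀ hS₀' _ hR₀p
    (fun r hr => (Subgroup.mem_inf.1 (hR₀D r hr)).1)
  obtain ⟨T₁, hRT₁, hT₁⟩ := exists_sylow_ge H Tb T₀ hT₀' _ hR₀p
    (fun r hr => (Subgroup.mem_inf.1 (hR₀D r hr)).2)
  have hne' : S₁ ≠ T₁ := by
    intro h
    apply hne
    apply Sylow.ext
    rw [← hS₁, ← hT₁, h]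
  have hcyc := hC S₁ T₁ hne'
  -- R is cyclic
  let ι : (R : Subgroup _) →* ↥((S₁ : Subgroup G) ⊓ (T₁ : Subgroup G)) :=
    { toFun := fun r => ⟨((r : _) : G), Subgroup.mem_inf.2
        ⟨hRS₁ ⟨r.1, r.2, rfl⟩, hRT₁ ⟨r.1, r.2, rfl⟩⟩⟩
      map_one' := rfl
      map_mul' := fun _ _ => rfl }
  have hι : Function.Injective ι := by
    intro r s hrs
    apply Subtype.ext
    apply Subtype.ext
    exact congrArg (fun z : ↥((S₁ : Subgroup G) ⊓ (T₁ : Subgroup G)) => (z : G)) hrs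
  have hRc := @isCyclic_of_injective _ _ _ _ hcyc ι hι
  have hsurj : Function.Surjective (f.comp (R : Subgroup _).subtype) := by
    intro d
    have hd : d ∈ (⊤ : Subgroup ↥((Sb : Subgroup (G ⧸ H)) ⊓ (Tb : Subgroup (G ⧸ H)))) :=
      Subgroup.mem_top d
    rw [htop] at hd
    obtain ⟨r, hr, rfl⟩ := hd
    exact ⟨⟨r, hr⟩, rfl⟩
  exact isCyclic_of_surjective _ hsurj

end Cfsg.Agent.S3305
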