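import Mathlib
import Cfsg.Statements.S3303
import Cfsg.Agent.S3305
import Cfsg.Agent.S1326
import Cfsg.Agent.S1327

set_option autoImplicit false
open Cfsg

namespace Cfsg.Agent.S3303

/-- a solvable group has trivial layer -/
theorem layer_eq_bot_of_isSolvable {X : Type*} [Group X] (hs : Group.IsSolvable X) :
    Cfsg.layer X = ⊥ := by
  rw [eq_bot_iff]
  apply sSup_le
  rintro K ⟨_, hperf, hsimple⟩
  exfalso
  have hKs : Group.IsSolvable K := inferInstance
  have htriv : (⊤ : Subgroup K) = ⊥ := by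
    obtain ⟨n, hn⟩ := hKs.solvable
    have hall : ∀ k : ℕ, derivedSeries K k = ⊤ := by
      intro k
      induction k with
      | zero => rfl
      | succ k ih =>
        rw [derivedSeries_succ, ih]
        exact hperf.commutator_eq_top
    rw [← hall n, hn]
  have hsub : Subsingleton K := by
    rw [← Subgroup.subsingleton_iff] 
    exact subsingleton_of_bot_eq_top htriv.symm
  have : Subsingleton (K ⧸ Subgroup.center K) := inferInstance
  have hnt : Nontrivial (K ⧸ Subgroup.center K) := hsimple.toNontrivial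
  exact not_subsingleton _ this

/-- the kernel of the conjugation action on a normal subgroup is its centralizer -/
theorem ker_conjNormal {X : Type*} [Group X] (Q : Subgroup X) [Q.Normal] :
    (MulAut.conjNormal (H := Q)).ker = Subgroup.centralizer (Q : Set X) := by
  ext g
  rw [MonoidHom.mem_ker, Subgroup.mem_centralizer_iff]
  constructor
  · intro h q hq
    have h1 := congrArg (fun f : MulAut Q => ((f ⟨q, hq⟩ : Q) : X)) h
    simp only [MulAut.conjNormal_apply, MulAut.one_apply] at h1
    have : g * q = q * g := by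
      calc g * q = (g * q * g⁻¹) * g := by group
        _ = q * g := by rw [h1]
    exact this.symm
  · intro h
    ext ⟨q, hq⟩
    simp only [MulAut.conjNormal_apply, MulAut.one_apply]
    have := h q hq
    calc g * q * g⁻¹ = (q * g) * g⁻¹ := by rw [this]
      _ = q := by group

theorem main {X : Type*} [Group X] [Finite X] (hs : Group.IsSolvable X)
    (hO : Cfsg.pPrimeCore 2 X = ⊥)
    (hC : ∀ S T : Sylow 2 X, S ≠ T → IsCyclic ↥((S : Subgroup X) ⊓ (T : Subgroup X))) :
    ∃ P : Sylow 2 X, (P : Subgroup X).Normal := by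
  have h2 : Fact (Nat.Prime 2) := ⟨Nat.prime_two⟩
  by_cases hsub : Subsingleton (Sylow 2 X)
  · obtain ⟨P⟩ : Nonempty (Sylow 2 X) := inferInstance
    exact ⟨P, Sylow.normal_of_subsingleton P⟩
  · rw [not_subsingleton_iff_nontrivial] at hsub
    obtain ⟨S, T, hST⟩ := hsub
    have hcyc := hC S T hST
    -- Q = O_2(X)
    have hQS : Cfsg.pCore 2 X ≤ (S : Subgroup X) ⊓ (T : Subgroup X) :=
      le_inf (Cfsg.Agent.H1.pCore_le_sylow S) (Cfsg.Agent.H1.pCore_le_sylow T)
    have hQcyc : IsCyclic (Cfsg.pCore 2 X) := Subgroup.isCyclic_of_le hQS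
    have hQn : (Cfsg.pCore 2 X).Normal := Subgroup.sSup_normal _ (fun _ h => h.1)
    have hQp : IsPGroup 2 (Cfsg.pCore 2 X) := Cfsg.Agent.H1.pCore_isPGroup 2
    -- C(Q) ≤ Q
    have hF : Cfsg.fittingSubgroup X = Cfsg.pCore 2 X :=
      Cfsg.Agent.S1327.fittingSubgroup_eq_pCore_of_pPrimeCore_eq_bot 2 hO
    have hCQ : Subgroup.centralizer (Cfsg.pCore 2 X : Set X) ≤ Cfsg.pCore 2 X := by
      rw [← hF]
      exact Cfsg.Agent.S1326.result.2 (layer_eq_bot_of_isSolvable hs)
    -- X is a 2-group
    obtain ⟨k, hk⟩ := hQp.exists_card_eq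
    have hAut : ∃ j, Nat.card (MulAut (Cfsg.pCore 2 X)) = 2 ^ j := by
      rw [IsCyclic.card_mulAut, hk]
      rcases Nat.eq_zero_or_pos k with h0 | h0
      · exact ⟨0, by rw [h0, pow_zero, Nat.totient_one]⟩
      · exact ⟨k - 1, by rw [Nat.totient_prime_pow Nat.prime_two h0]; norm_num⟩
    obtain ⟨j, hj⟩ := hAut
    have hidx : (Subgroup.centralizer (Cfsg.pCore 2 X : Set X)).index ∣ 2 ^ j := by
      rw [← ker_conjNormal, Subgroup.index_ker, ← hj]
      exact Subgroup.card_subgroup_dvd_card _
    have hcardC : Nat.card (Subgroup.centralizer (Cfsg.pCore 2 X : Set X)) ∣ 2 ^ k := by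
      rw [← hk]; exact Subgroup.card_dvd_of_le hCQ
    have hX : Nat.card X ∣ 2 ^ (k + j) := by
      rw [← Subgroup.card_mul_index (Subgroup.centralizer (Cfsg.pCore 2 X : Set X)), pow_add]
      exact Nat.mul_dvd_mul hcardC hidx
    obtain ⟨i, _, hi⟩ := (Nat.dvd_prime_pow Nat.prime_two).1 hX
    have hXp : IsPGroup 2 X := IsPGroup.of_card hi
    exfalso
    apply hST
    have hS : (S : Subgroup X) = ⊤ := (S.is_maximal' (hXp.to_subgroup ⊤) le_top).symm
    have hT : (T : Subgroup X) = ⊤ := (T.is_maximal' (hXp.to_subgroup ⊤) le_top).symm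
    exact Sylow.ext (hS.trans hT.symm)

/-- Let G be a finite solvable group in which the intersection of any two distinct Sylow 2-subgroups is cyclic. Then G/O(G) has a normal Sylow 2-subgroup, where O(G) is the largest normal subgroup of odd order. -/
theorem result {G : Type*} [Group G] [Finite G] (hs : Group.IsSolvable G)
    (hC : ∀ S T : Sylow 2 G, S ≠ T → IsCyclic ↥((S : Subgroup G) ⊓ (T : Subgroup G))) :
    ∃ P : Sylow 2 (G ⧸ Cfsg.oddCore G), (P : Subgroup (G ⧸ Cfsg.oddCore G)).Normal := by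
  apply main
  · exact inferInstance
  · exact Cfsg.Agent.H2.pPrimeCore_quotient_eq_bot 2
  · exact Cfsg.Agent.S3305.result hC (Cfsg.oddCore G)

end Cfsg.Agent.S3303
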