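import Mathlib
import Cfsg.Statements.S5017
import Cfsg.Agent.H2.RankOne

set_option autoImplicit false

namespace Cfsg.Agent.S5017

open Cfsg Cfsg.Agent.H2.RankOne

/-- Let X be a rank one group with unipotent subgroups A and B and N a normal subgroup of X. Then either X = N A or N lies in the centre of X. Consequently a perfect rank one group is quasisimple. -/
theorem result {X : Type*} [Group X] {A B : Subgroup X} (h : Cfsg.IsRankOneGroup X A B) :
    (∀ N : Subgroup X, N.Normal → N ⊔ A = ⊤ ∨ N ≤ Subgroup.center X) ∧
    (Group.IsPerfect X → Cfsg.IsQuasisimple X) := by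
  refine ⟨fun N hN => normal_dichotomy h N hN, fun hperf => ⟨hperf, ?_⟩⟩
  have hnt : Nontrivial (X ⧸ Subgroup.center X) := by
    rw [← not_subsingleton_iff_nontrivial, QuotientGroup.subsingleton_iff]
    exact center_ne_top h
  refine { exists_pair_ne := hnt.exists_pair_ne, eq_bot_or_eq_top_of_normal := ?_ }
  intro Mbar hMbar
  have hMn : (Mbar.comap (QuotientGroup.mk' (Subgroup.center X))).Normal := hMbar.comap _
  have hmap : (Mbar.comap (QuotientGroup.mk' (Subgroup.center X))).map
      (QuotientGroup.mk' (Subgroup.center X)) = Mbar :=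
    Subgroup.map_comap_eq_self_of_surjective (QuotientGroup.mk'_surjective _) _
  rcases normal_dichotomy h _ hMn with h1 | h1
  · right
    -- X / M is nilpotent and perfect
    have hnil : Group.IsNilpotent (X ⧸ Mbar.comap (QuotientGroup.mk' (Subgroup.center X))) := by
      have hA := h.2.nilpotent_left
      apply Group.nilpotent_of_surjective
        ((QuotientGroup.mk' (Mbar.comap (QuotientGroup.mk' (Subgroup.center X)))).comp A.subtype)
      intro q
      obtain ⟨x, rfl⟩ := QuotientGroup.mk'_surjective _ q
      have hx : x ∈ ((Mbar.comap (QuotientGroup.mk' (Subgroup.center X)) ⊔ A : Subgroup X) : Set X) := by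
        rw [h1]; trivial
      rw [Subgroup.normal_mul] at hx
      obtain ⟨m, hm, a, ha, rfl⟩ := hx
      refine ⟨⟨a, ha⟩, ?_⟩
      show QuotientGroup.mk' _ a = QuotientGroup.mk' _ (m * a)
      have hm1 : QuotientGroup.mk' (Mbar.comap (QuotientGroup.mk' (Subgroup.center X))) m = 1 :=
        (QuotientGroup.eq_one_iff m).2 hm
      rw [map_mul, hm1, one_mul]
    have hsub : Subsingleton (X ⧸ Mbar.comap (QuotientGroup.mk' (Subgroup.center X))) := by
      by_contra hns
      rw [not_subsingleton_iff_nontrivial] at hns
      exact Group.IsPerfect.not_isNilpotent _ hnil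
    rw [QuotientGroup.subsingleton_iff] at hsub
    rw [← hmap, hsub, ← MonoidHom.range_eq_map, MonoidHom.range_eq_top]
    exact QuotientGroup.mk'_surjective _
  · left
    rw [← hmap, Subgroup.map_eq_bot_iff, QuotientGroup.ker_mk']
    exact h1

end Cfsg.Agent.S5017
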