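import Cfsg.Statements.S4276
import Mathlib
import Cfsg.Agent.Lib.Helper5.TwistIncC

set_option autoImplicit false
open Cfsg
open Cfsg.Agent.Lib.Helper5.TwistIncB Cfsg.Agent.Lib.Helper5.TwistIncC

namespace Cfsg.Agent.S4276

/-- Let G be a doubly transitive group of permutations of a finite set Ω of size n, let o ∈ Ω, and let α be an automorphism of G of odd order. Suppose that the image under α of the stabilizer of o has an orbit on Ω whose length k is coprime to n. Then α is induced by conjugation by a permutation of Ω normalizing G, and k = 1 or k = n − 1. -/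
theorem result {Ω : Type*} [Fintype Ω] (G : Subgroup (Equiv.Perm Ω)) (h2 : MulAction.IsMultiplyPretransitive G Ω 2) (o : Ω) (α : MulAut G) (hα : Odd (orderOf α)) (ω : Ω) (hk : (Nat.card (MulAction.orbit ((MulAction.stabilizer G o).map α.toMonoidHom) ω)).Coprime (Fintype.card Ω)) : (∃ σ : Equiv.Perm Ω, σ ∈ Subgroup.normalizer (G : Set (Equiv.Perm Ω)) ∧ ∀ g : G, ((α g : G) : Equiv.Perm Ω) = σ * (g : Equiv.Perm Ω) * σ⁻¹) ∧ (Nat.card (MulAction.orbit ((MulAction.stabilizer G o).map α.toMonoidHom) ω) = 1 ∨ Nat.card (MulAction.orbit ((MulAction.stabilizer G o).map α.toMonoidHom) ω) = Fintype.card Ω - 1) := by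
  classical
  have hpre : MulAction.IsPretransitive G Ω :=
    @MulAction.isPretransitive_of_is_two_pretransitive G Ω _ _ h2
  have hΔ : ∀ κ ∈ KK G α o, ∀ x,
      κ • x ∈ MulAction.orbit ((MulAction.stabilizer G o).map α.toMonoidHom) ω ↔
        x ∈ MulAction.orbit ((MulAction.stabilizer G o).map α.toMonoidHom) ω := by
    intro κ hκ x
    have e : κ • x = (⟨κ, hκ⟩ : (MulAction.stabilizer G o).map α.toMonoidHom) • x := rfl
    rw [e, ← MulAction.orbit_eq_iff, MulAction.orbit_smul, MulAction.orbit_eq_iff]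
  have hcard := card_orbit (G := G) (α := α) (o := o) h2 hα hΔ (MulAction.nonempty_orbit ω) hk
  refine ⟨?_, hcard⟩
  -- a fixed point of `α(G_o)`
  have hfix : ∃ ω' : Ω, ∀ κ ∈ KK G α o, κ • ω' = ω' := by
    rcases hcard with h1 | h1
    · refine ⟨ω, fun κ hκ => ?_⟩
      have hsub : (MulAction.orbit ((MulAction.stabilizer G o).map α.toMonoidHom) ω).Subsingleton := by
        rw [← Set.ncard_le_one_iff_subsingleton, ← Nat.card_coe_set_eq, h1]
      have e : κ • ω = (⟨κ, hκ⟩ : (MulAction.stabilizer G o).map α.toMonoidHom) • ω := rfl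
      rw [e]
      exact hsub (MulAction.mem_orbit ω _) (MulAction.mem_orbit_self ω)
    · have hcompl : (MulAction.orbit ((MulAction.stabilizer G o).map α.toMonoidHom) ω)ᶜ.ncard = 1 := by
        have h3 := Set.ncard_add_ncard_compl
          (MulAction.orbit ((MulAction.stabilizer G o).map α.toMonoidHom) ω)
        rw [← Nat.card_coe_set_eq, h1, Nat.card_eq_fintype_card] at h3
        have : 0 < Fintype.card Ω := Fintype.card_pos_iff.mpr ⟨o⟩
        omega
      obtain ⟨ω', hω'⟩ := Set.ncard_eq_one.mp hcompl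
      refine ⟨ω', fun κ hκ => ?_⟩
      have hmem : κ • ω' ∈ (MulAction.orbit ((MulAction.stabilizer G o).map α.toMonoidHom) ω)ᶜ := by
        intro hin
        have hω'c : ω' ∈ (MulAction.orbit ((MulAction.stabilizer G o).map α.toMonoidHom) ω)ᶜ := by
          rw [hω']; exact Set.mem_singleton ω'
        exact hω'c ((hΔ κ hκ ω').mp hin)
      rw [hω'] at hmem
      exact hmem
  obtain ⟨ω', hω'⟩ := hfix
  exact perm_of_fixed (α := α) (o := o) ω' hω'

end Cfsg.Agent.S4276
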