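import Cfsg.Statements.S1140
import Mathlib

set_option autoImplicit false
open scoped Pointwise
open Cfsg

namespace Cfsg.Agent.S1140

section
variable {F : Type*} [Field F] [Fintype F] [CharP F 2]

/-- Dedekind independence for ring automorphisms. -/
lemma linInd : LinearIndependent F (fun σ : F ≃+* F => ((σ : F →+* F) : F → F)) := by
  have h := linearIndependent_monoidHom F F
  have hinj : Function.Injective (fun σ : F ≃+* F => ((σ : F →+* F) : F →* F)) := by
    intro σ τ h
    ext x
    exact DFunLike.congr_fun h x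
  exact h.comp _ hinj

noncomputable instance : Fintype (F ≃+* F) :=
  @Fintype.ofFinite _ (Finite.of_injective (fun σ : F ≃+* F => (σ : F → F)) DFunLike.coe_injective)

/-- The main span statement, in terms of additive maps. -/
lemma exists_coeffs (f : F →+ F) : ∃ c : (F ≃+* F) → F, ∀ x : F, f x = ∑ σ, c σ * σ x := by
  classical
  let _ : Algebra (ZMod 2) F := ZMod.algebra F 2
  let w : (F ≃+* F) → (F →ₗ[ZMod 2] F) :=
    fun σ => ((σ : F →+* F) : F →+ F).toZModLinearMap 2
  have hw : LinearIndependent F w := by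
    apply LinearIndependent.of_comp (LinearMap.ltoFun (ZMod 2) F F F)
    exact linInd
  have hcard : Fintype.card (F ≃+* F) = Module.finrank F (F →ₗ[ZMod 2] F) := by
    rw [Module.finrank_linearMap_self, ← IsGalois.card_aut_eq_finrank (ZMod 2) F,
      ← Nat.card_eq_fintype_card]
    apply Nat.card_congr
    refine ⟨fun σ => AlgEquiv.ofRingEquiv (f := σ) (fun x =>
      RingHom.congr_fun (Subsingleton.elim ((σ : F →+* F).comp (algebraMap (ZMod 2) F))
        (algebraMap (ZMod 2) F)) x), fun σ => σ.toRingEquiv, fun σ => ?_, fun σ => ?_⟩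
    · ext x; rfl
    · ext x; rfl
  have hspan := hw.span_eq_top_of_card_eq_finrank' hcard
  have hmem : f.toZModLinearMap 2 ∈ Submodule.span F (Set.range w) := by
    rw [hspan]; trivial
  rw [Submodule.mem_span_range_iff_exists_fun] at hmem
  obtain ⟨c, hc⟩ := hmem
  refine ⟨c, fun x => ?_⟩
  have := congrArg (fun g : F →ₗ[ZMod 2] F => g x) hc
  simp only [LinearMap.coe_sum, Finset.sum_apply, LinearMap.smul_apply, smul_eq_mul] at this
  exact this.symm

/-- uniqueness of coefficients. -/
lemma coeffs_unique {c c' : (F ≃+* F) → F} (h : ∀ x : F, ∑ σ, c σ * σ x = ∑ σ, c' σ * σ x) :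
    c = c' := by
  have hli := (Fintype.linearIndependent_iff (R := F)
    (v := fun σ : F ≃+* F => ((σ : F →+* F) : F → F))).1 linInd
  have h0 := hli (fun σ => c σ - c' σ) (by
    ext x
    simp only [Finset.sum_apply, Pi.smul_apply, smul_eq_mul, Pi.zero_apply]
    have := h x
    simp only [sub_mul, Finset.sum_sub_distrib]
    rw [sub_eq_zero]
    exact this)
  ext σ
  exact sub_eq_zero.1 (h0 σ)

lemma exists_bicoeffs (B : F →+ F →+ F) : ∃ d : (F ≃+* F) → (F ≃+* F) → F,
    ∀ x y : F, B x y = ∑ τ, ∑ σ, d τ σ * (σ x * τ y) := by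
  classical
  choose c hc using fun x : F => exists_coeffs (B x)
  have hadd : ∀ x y : F, c (x + y) = c x + c y := by
    intro x y
    apply coeffs_unique
    intro z
    rw [← hc (x + y) z]
    simp only [Pi.add_apply, add_mul, Finset.sum_add_distrib]
    rw [← hc x z, ← hc y z, map_add]
    rfl
  choose d hd using fun τ : F ≃+* F =>
    exists_coeffs (AddMonoidHom.mk' (fun x => c x τ) (fun x y => by
      show c (x + y) τ = c x τ + c y τ
      rw [hadd]; rfl))
  refine ⟨d, fun x y => ?_⟩
  rw [hc x y]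
  apply Finset.sum_congr rfl
  intro τ _
  have := hd τ x
  simp only [AddMonoidHom.mk'_apply] at this
  rw [this, Finset.sum_mul]
  apply Finset.sum_congr rfl
  intro σ _
  ring

end

theorem result {F : Type*} [Field F] [Fintype F] [CharP F 2] :
    LinearIndependent F (fun σ : F ≃+* F => ((σ : F →+* F) : F → F)) ∧
      (∀ f : F →+ F, ∃ (s : Finset (F ≃+* F)) (c : (F ≃+* F) → F), ∀ x : F, f x = ∑ σ ∈ s, c σ * σ x) ∧
      ∀ B : F →+ F →+ F, ∃ (s : Finset ((F ≃+* F) × (F ≃+* F))) (c : (F ≃+* F) × (F ≃+* F) → F),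
        ∀ x y : F, B x y = ∑ p ∈ s, c p * (p.1 x * p.2 y) := by
  refine ⟨linInd, ?_, ?_⟩
  · intro f
    obtain ⟨c, hc⟩ := exists_coeffs f
    exact ⟨Finset.univ, c, hc⟩
  · intro B
    obtain ⟨d, hd⟩ := exists_bicoeffs B
    refine ⟨Finset.univ, fun p => d p.2 p.1, fun x y => ?_⟩
    rw [hd x y, Fintype.sum_prod_type_right]

end Cfsg.Agent.S1140
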