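import Mathlib
import Cfsg.Statements.S4117
import Cfsg.Agent.H2.CoprimeZGroup

set_option autoImplicit false
open Cfsg

namespace Cfsg.Agent.S4117

open Cfsg.Agent.H2 Cfsg.Agent.H2.ExtAct

/-- Let A be a finite group acting on the finite group G by automorphisms with the orders of A and G coprime, and suppose every Sylow subgroup of G is cyclic. Then the fixed-point subgroup C_G(A) is a Hall subgroup of G (its order is coprime to its index), the subgroup [G, A] generated by the elements g⁻¹·a(g) is cyclic and normal with [G, A] ∩ C_G(A) = 1 and [G, A]·C_G(A) = G. -/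
theorem result {G A : Type*} [Group G] [Finite G] [Group A] [Finite A]
    [MulDistribMulAction A G] (hcop : (Nat.card A).Coprime (Nat.card G))
    (hcyc : ∀ (p : ℕ) [Fact p.Prime] (P : Sylow p G), IsCyclic (P : Subgroup G)) :
    (Nat.card (MulAction.fixedPoints A G : Set G)).Coprime (Nat.card G / Nat.card (MulAction.fixedPoints A G : Set G)) ∧
    IsCyclic (Subgroup.closure {y : G | ∃ (a : A) (g : G), y = g⁻¹ * a • g}) ∧
    (Subgroup.closure {y : G | ∃ (a : A) (g : G), y = g⁻¹ * a • g}).Normal ∧
    (Subgroup.closure {y : G | ∃ (a : A) (g : G), y = g⁻¹ * a • g} : Set G) ∩ MulAction.fixedPoints A G = {1} ∧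
    Subgroup.closure {y : G | ∃ (a : A) (g : G), y = g⁻¹ * a • g} ⊔ Subgroup.closure (MulAction.fixedPoints A G) = ⊤ := by
  have hZ : IsZGroup G := ⟨fun p hp P => by
    have : Fact p.Prime := ⟨hp⟩
    exact hcyc p P⟩
  obtain ⟨h1, h2, h3, h4, h5⟩ := CopZ.main (A := A) (G := G) hcop
  rw [comm_top_eq] at h2 h3 h4 h5
  have e1 : Nat.card (MulAction.fixedPoints A G : Set G) = Nat.card (FixedPoints.subgroup A G) := rfl
  have e2 : Nat.card G / Nat.card (FixedPoints.subgroup A G) = (FixedPoints.subgroup A G).index := by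
    rw [← Subgroup.card_mul_index (FixedPoints.subgroup A G),
      Nat.mul_div_cancel_left _ Nat.card_pos]
  have e3 : Subgroup.closure (MulAction.fixedPoints A G) = FixedPoints.subgroup A G :=
    Subgroup.closure_eq (FixedPoints.subgroup A G)
  refine ⟨?_, h2, h3, ?_, ?_⟩
  · rw [e1, e2]; exact h1
  · ext c
    constructor
    · rintro ⟨hc1, hc2⟩
      exact h4 c hc1 hc2
    · intro hc
      rw [Set.mem_singleton_iff] at hc
      rw [hc]
      exact ⟨Subgroup.one_mem _, fun a => smul_one a⟩
  · rw [e3]; exact h5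

end Cfsg.Agent.S4117
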