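import Cfsg.Statements.S2724
import Cfsg.Agent.Lib.Helper5.OrthAut.PGOInn
import Cfsg.Agent.Lib.Helper5.OrthAut.SimPM
import Cfsg.Agent.Lib.Helper5.Orth.PlusMinusForm

set_option autoImplicit false
open Cfsg

namespace Cfsg.Agent.S2724

/-- Let T = PΩ⁺_{2m}(F) with m ≥ 4 and |F| = q odd. The image G̃ of the conformal orthogonal group in Aut(T), taken modulo the inner automorphism group T, is elementary abelian of order 4 when m is odd and q ≡ 3 (mod 4), and dihedral of order 8 otherwise. -/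
theorem result {F : Type*} [Field F] [Fintype F] (hodd : Odd (Fintype.card F)) {m : ℕ} (hm : 4 ≤ m) :
    ((Odd m ∧ Fintype.card F % 4 = 3) → (∃ φ : ↥(Cfsg.pgoAut F (Cfsg.quadFormPlus m F)) →* Multiplicative (ZMod 2 × ZMod 2), Function.Surjective φ ∧ φ.ker = (Cfsg.Inn (Cfsg.POmega F (Cfsg.quadFormPlus m F))).subgroupOf (Cfsg.pgoAut F (Cfsg.quadFormPlus m F)))) ∧ (¬ (Odd m ∧ Fintype.card F % 4 = 3) → (∃ φ : ↥(Cfsg.pgoAut F (Cfsg.quadFormPlus m F)) →* DihedralGroup 4, Function.Surjective φ ∧ φ.ker = (Cfsg.Inn (Cfsg.POmega F (Cfsg.quadFormPlus m F))).subgroupOf (Cfsg.pgoAut F (Cfsg.quadFormPlus m F)))) := by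
  classical
  have h2 := Cfsg.Agent.Lib.Helper5.OrthSN.two_ne_zero_of_odd_card hodd
  have hQ := Cfsg.Agent.Lib.Helper5.OrthPM.quadFormPlus_nondeg (F := F) m
  have hcard : Fintype.card (Fin m ⊕ Fin m) = 2 * m := by
    simp only [Fintype.card_sum, Fintype.card_fin]
    omega
  have hgen := Cfsg.Agent.H9.Orth.iso_le_RR hQ
    (Or.inl (Cfsg.Agent.Lib.Helper5.OrthSN.card_ne_two_of_odd_card hodd))
  have hiff := Cfsg.Agent.Lib.Helper5.OrthSN.plus_diag_iff (F := F) m hodd m le_rfl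
  rw [Cfsg.Agent.Lib.Helper5.OrthSN.diagonal_dP_self] at hiff
  have hpow := Cfsg.Agent.Lib.Helper5.OrthSN.pow_mod_four_eq_one (Fintype.card F) m hodd
  have h13 : Fintype.card F % 4 = 1 ∨ Fintype.card F % 4 = 3 := by
    obtain ⟨k, hk⟩ := hodd
    omega
  obtain ⟨d, c, hc, hd⟩ := Cfsg.Agent.Lib.Helper5.OrthAut.exists_sim_plus_nonsquare (F := F) m h2
  constructor
  · rintro ⟨hm1, hq3⟩
    apply Cfsg.Agent.Lib.Helper5.OrthAut.pgo_mod_inn_klein hQ (by rw [hcard]; omega) h2 hgen m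
      hcard d c hc hd
    intro hex
    have h1 := hpow.1 (hiff.1 hex)
    rcases h1 with h1 | h1
    · exact (Nat.not_even_iff_odd.2 hm1) h1
    · omega
  · intro hnot
    have hmod : Fintype.card F ^ m % 4 = 1 := by
      rw [hpow]
      by_cases hme : Even m
      · exact Or.inl hme
      · right
        rw [Nat.not_even_iff_odd] at hme
        rcases h13 with h | h
        · exact h
        · exact absurd ⟨hme, h⟩ hnot
    obtain ⟨g₀, hg₀, hval⟩ := hiff.2 hmod
    exact Cfsg.Agent.Lib.Helper5.OrthAut.pgo_mod_inn_dihedral hQ (by rw [hcard]; omega) h2 hgen m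
      hcard d c hc hd g₀ hg₀ hval

end Cfsg.Agent.S2724
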