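import Cfsg.Statements.S2727
import Cfsg.Agent.Lib.Helper5.OrthAut.PSOIndex
import Cfsg.Agent.H9.OrthN

set_option autoImplicit false
open Cfsg

namespace Cfsg.Agent.S2727

/-- Let T = PΩ⁻_{2m+2}(F) with m ≥ 3 and |F| = q odd (form with anisotropic binary part). The image of the special orthogonal group in Aut(T) contains the inner automorphism group T with index 2 when m is even and q ≡ 3 (mod 4), and coincides with it otherwise (the index is 2 exactly when the discriminant of the form is a square). -/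
theorem result {F : Type*} [Field F] [Fintype F] (hodd : Odd (Fintype.card F)) {m : ℕ} (hm : 3 ≤ m) (a b : F) (hab : (∀ z₁ z₂ : F, z₁ ^ 2 + a * z₁ * z₂ + b * z₂ ^ 2 = 0 → z₁ = 0 ∧ z₂ = 0)) :
    ((Even m ∧ Fintype.card F % 4 = 3) → (Cfsg.Inn (Cfsg.POmega F (Cfsg.quadFormMinus m F a b))).relIndex (Cfsg.psoAut F (Cfsg.quadFormMinus m F a b)) = 2) ∧ (¬ (Even m ∧ Fintype.card F % 4 = 3) → (Cfsg.Inn (Cfsg.POmega F (Cfsg.quadFormMinus m F a b))).relIndex (Cfsg.psoAut F (Cfsg.quadFormMinus m F a b)) = 1) := by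
  classical
  have h2 := Cfsg.Agent.Lib.Helper5.OrthSN.two_ne_zero_of_odd_card hodd
  have hQ := Cfsg.Agent.H9.Orth.isNondeg_quadFormMinus (F := F) m a b hab
  have hcard : Fintype.card ((Fin m ⊕ Fin m) ⊕ Fin 2) = 2 * m + 2 := by
    simp only [Fintype.card_sum, Fintype.card_fin]
    omega
  have hgen := Cfsg.Agent.H9.Orth.iso_le_RR hQ
    (Or.inl (Cfsg.Agent.Lib.Helper5.OrthSN.card_ne_two_of_odd_card hodd))
  have hiff := Cfsg.Agent.Lib.Helper5.OrthSN.minus_neg_one_iff (F := F) m a b hodd hab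
  have hpow := Cfsg.Agent.Lib.Helper5.OrthSN.pow_mod_four_eq_one (Fintype.card F) (m + 1) hodd
  have hcases := Cfsg.Agent.Lib.Helper5.OrthSN.pow_mod_four_cases (Fintype.card F) (m + 1) hodd
  have h13 : Fintype.card F % 4 = 1 ∨ Fintype.card F % 4 = 3 := by
    obtain ⟨k, hk⟩ := hodd
    omega
  have hkey : Fintype.card F ^ (m + 1) % 4 = 3 ↔ (Even m ∧ Fintype.card F % 4 = 3) := by
    constructor
    · intro h3
      have hne : ¬ (Even (m + 1) ∨ Fintype.card F % 4 = 1) := by
        rw [← hpow]; omega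
      push Not at hne
      refine ⟨?_, by omega⟩
      have := hne.1
      rw [Nat.even_add_one, not_not] at this
      exact this
    · rintro ⟨hme, hq3⟩
      have hne : ¬ (Fintype.card F ^ (m + 1) % 4 = 1) := by
        rw [hpow]
        push Not
        refine ⟨?_, by omega⟩
        rw [Nat.even_add_one, not_not]
        exact hme
      omega
  constructor
  · intro hcond
    obtain ⟨g₀, hg₀, hval⟩ := hiff.2 (hkey.2 hcond)
    exact Cfsg.Agent.Lib.Helper5.OrthAut.relIndex_inn_pso_of_neg_mem hQ (by rw [hcard]; omega) h2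
      hgen g₀ hg₀ hval
  · intro hnot
    apply Cfsg.Agent.Lib.Helper5.OrthAut.relIndex_inn_pso_of_not hQ (by rw [hcard]; omega) h2 hgen
      (by rw [hcard]; exact ⟨m + 1, by ring⟩)
    intro hex
    exact hnot (hkey.1 (hiff.1 hex))

end Cfsg.Agent.S2727
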