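import Cfsg.Statements.S3035
import Cfsg.Agent.Lib.Helper5.D8Cent.CaseA
import Cfsg.Agent.Lib.Helper5.D8Cent.CaseB3
import Cfsg.Agent.Lib.Helper5.D8Cent.CaseB4

set_option autoImplicit false
open Cfsg

namespace Cfsg.Agent.S3035

/-- Let G be a finite group with an involution z whose centralizer is dihedral of order 8. Then G = C_G(z) O(G) with O(G) the largest normal subgroup of odd order, or G is isomorphic to the symmetric group of degree 4, the symmetric group of degree 5, the group SL₃(2), or the alternating group of degree 6. -/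
theorem result {G : Type*} [Group G] [Finite G] (z : G) (hz : orderOf z = 2)
    (hC : Nonempty (↥(Subgroup.centralizer ({z} : Set G)) ≃* DihedralGroup 4)) :
    Subgroup.centralizer ({z} : Set G) ⊔ Cfsg.oddCore G = ⊤ ∨ Nonempty (G ≃* Equiv.Perm (Fin 4)) ∨ Nonempty (G ≃* Equiv.Perm (Fin 5)) ∨
      Nonempty (G ≃* Matrix.SpecialLinearGroup (Fin 3) (ZMod 2)) ∨ Nonempty (G ≃* ↥(alternatingGroup (Fin 6))) := by
  obtain ⟨e⟩ := hC
  have h := Cfsg.Agent.Lib.Helper5.D8Cent.hyp_of_equiv hz e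
  by_cases hA : ∀ x ∈ Subgroup.centralizer ({z} : Set G), x ^ 2 = 1 → x ≠ 1 → IsConj z x → x = z
  · left
    exact Cfsg.Agent.Lib.Helper5.D8Cent.caseA h e hA
  · right
    push Not at hA
    obtain ⟨x, hxC, hx2, hx1, hxc, hxz⟩ := hA
    obtain ⟨y, f⟩ := h.exists_frame hxC hx2 hx1 hxz
    by_cases hy : IsConj z y
    · right; right
      exact Cfsg.Agent.Lib.Helper5.D8Cent.caseC h e f hxc hy
    · obtain ⟨M, hMn, hMi, hyM⟩ := Cfsg.Agent.Lib.Helper5.D8Cent.exists_M h f hxc hy
      have b : Cfsg.Agent.Lib.Helper5.D8Cent.BHyp z x y M := ⟨h, f, hxc, hy, hMn, hMi, hyM⟩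
      rcases b.split with hQn | ⟨⟨ψ⟩⟩
      · left
        exact b.sym4 hQn
      · right; left
        exact b.sym5 ψ

end Cfsg.Agent.S3035
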