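import Cfsg.Statements.S1560
import Cfsg.Agent.Lib.Helper6.GolayCount

set_option autoImplicit false
open scoped Pointwise
open Cfsg

namespace Cfsg.Agent.S1560

open Cfsg.Agent.Lib.Helper6.Golay Cfsg.Agent.Lib.Helper6.PermChain
open scoped Pointwise

set_option maxHeartbeats 4000000 in
theorem c4 : countBelow (fun m => pc 24 (combo m) == 12 && pc 24 (combo m &&& dodecad0) == 4) 4096 = 495 := by
  decide +kernel

set_option maxHeartbeats 4000000 in
theorem c6 : countBelow (fun m => pc 24 (combo m) == 12 && pc 24 (combo m &&& dodecad0) == 6) 4096 = 1584 := by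
  decide +kernel

set_option maxHeartbeats 4000000 in
theorem c8 : countBelow (fun m => pc 24 (combo m) == 12 && pc 24 (combo m &&& dodecad0) == 8) 4096 = 495 := by
  decide +kernel

theorem aux {d : Finset GolayPt} (hd : d ∈ dodecads) (k : ℕ) :
    {d' : Finset GolayPt | d' ∈ dodecads ∧ (d ∩ d').card = k}.ncard =
      countBelow (fun m => pc 24 (combo m) == 12 && pc 24 (combo m &&& dodecad0) == k) 4096 := by
  rw [← ncard_inter_dodecad hd 12 k]
  congr 1
  ext d'
  simp only [Set.mem_ofPred_eq, Finset.inter_comm d d']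
  rfl


/-- Intersection numbers of dodecads: a dodecad meets every other dodecad in 0, 4, 6 or 8 points, meeting 495 of them in 4 points, 1584 in 6 points and 495 in 8 points. -/
theorem result (d : Finset Cfsg.GolayPt) (hd : d ∈ Cfsg.dodecads) : (∀ d' ∈ Cfsg.dodecads, d' ≠ d → (d ∩ d').card = 0 ∨ (d ∩ d').card = 4 ∨ (d ∩ d').card = 6 ∨ (d ∩ d').card = 8) ∧ {d' : Finset Cfsg.GolayPt | d' ∈ Cfsg.dodecads ∧ (d ∩ d').card = 4}.ncard = 495 ∧ {d' : Finset Cfsg.GolayPt | d' ∈ Cfsg.dodecads ∧ (d ∩ d').card = 6}.ncard = 1584 ∧ {d' : Finset Cfsg.GolayPt | d' ∈ Cfsg.dodecads ∧ (d ∩ d').card = 8}.ncard = 495 := by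
  refine ⟨?_, (aux hd 4).trans c4, (aux hd 6).trans c6, (aux hd 8).trans c8⟩
  intro d' hd' hne
  obtain ⟨⟨v, hv, rfl⟩, hvc⟩ := hd
  obtain ⟨⟨w, hw, rfl⟩, hwc⟩ := hd'
  have hvw : v + w ∈ golayCode := Submodule.add_mem _ hv hw
  have h1 := hammingNorm_mem _ hvw
  rw [← card_support₂, support₂_add] at h1
  have h2 := card_symmDiff_add (support₂ v) (support₂ w)
  have h3 : (support₂ v ∩ support₂ w).card ≠ 12 := by
    intro h
    apply hne
    have e1 : support₂ v ∩ support₂ w = support₂ v :=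
      Finset.eq_of_subset_of_card_le Finset.inter_subset_left (by rw [h, hvc])
    have e2 : support₂ v ∩ support₂ w = support₂ w :=
      Finset.eq_of_subset_of_card_le Finset.inter_subset_right (by rw [h, hwc])
    rw [← e2, e1]
  omega

end Cfsg.Agent.S1560
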