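import Cfsg.Statements.S1639
import Cfsg.Agent.Lib.Helper6.GolayRank_A1639
import Cfsg.Agent.Lib.Helper6.GolayRankGlue
import Cfsg.Agent.Lib.Helper6.GolayM12b

set_option autoImplicit false
open scoped Pointwise
open Cfsg

namespace Cfsg.Agent.S1639

open Cfsg.Agent.Lib.Helper6.Golay Cfsg.Agent.Lib.Helper6.PermChain
open scoped Pointwise

theorem struct_eq (t : Equiv.Perm GolayPt) :
    R0_A1639.map (fun r => t • fs r) = [t • fs dodecad0, {t (pt 0)}] := by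
  simp only [R0_A1639, List.map_cons, List.map_nil]
  rw [show (1 : ℕ) = 2 ^ 0 by norm_num, smul_fs_pow t 0 (by norm_num)]
  rfl

theorem sigF_iff (t : Equiv.Perm GolayPt) (b : Finset GolayPt) (k : ℕ) :
    sigF (R0_A1639.map (fun r => t • fs r)) b = [k, 1] ↔
      t (pt 0) ∈ b ∧ (t • fs dodecad0 ∩ b).card = k := by
  rw [struct_eq]
  show [(b ∩ t • fs dodecad0).card, (b ∩ {t (pt 0)}).card] = [k, 1] ↔ _
  rw [List.cons.injEq, List.cons.injEq, Finset.inter_comm b (t • fs dodecad0),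
    card_inter_singleton_eq_one]
  simp only [and_true]
  exact and_comm

theorem count_eq (t : Equiv.Perm GolayPt) (ht : t ∈ M24) (k : ℕ) :
    {d' : Finset GolayPt | d' ∈ dodecads ∧ t (pt 0) ∈ d' ∧ (t • fs dodecad0 ∩ d').card = k}.ncard =
      countBelow (fun m => pc 24 (combo m) == 12 && (sig R0_A1639 (combo m) == [k, 1])) 4096 := by
  rw [← rank_count R0_A1639 12 [k, 1] ht]
  congr 1
  ext b
  simp only [Set.mem_ofPred_eq, sigF_iff]
  rfl


/-- The point stabiliser acts on the 1288 dodecads through the point with rank 4 and subdegrees 1, 165, 330, 792, distinguished by intersection 4, 8, 6 with the fixed dodecad. -/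
theorem result (x : Cfsg.GolayPt) (d : Finset Cfsg.GolayPt) (hd : d ∈ Cfsg.dodecads) (hx : x ∈ d) : {d' : Finset Cfsg.GolayPt | d' ∈ Cfsg.dodecads ∧ x ∈ d' ∧ (d ∩ d').card = 4}.ncard = 165 ∧ {d' : Finset Cfsg.GolayPt | d' ∈ Cfsg.dodecads ∧ x ∈ d' ∧ (d ∩ d').card = 8}.ncard = 330 ∧ {d' : Finset Cfsg.GolayPt | d' ∈ Cfsg.dodecads ∧ x ∈ d' ∧ (d ∩ d').card = 6}.ncard = 792 ∧ ∀ d' d'' : Finset Cfsg.GolayPt, d' ∈ Cfsg.dodecads → d'' ∈ Cfsg.dodecads → x ∈ d' → x ∈ d'' → (d ∩ d').card = (d ∩ d'').card → ∃ g : Equiv.Perm Cfsg.GolayPt, g ∈ Cfsg.M24 ∧ g x = x ∧ g • d = d ∧ g • d' = d'' := by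
  obtain ⟨t, ht, rfl, rfl⟩ := exists_M24_dodecad_point hd hx
  refine ⟨(count_eq t ht 4).trans cnt_A1639_0, (count_eq t ht 8).trans cnt_A1639_1,
    (count_eq t ht 6).trans cnt_A1639_2, ?_⟩
  intro d' d'' hd' hd'' hx' hx'' h
  have key : ∀ σ, ClassCert R0_A1639 12 [σ, 1] → (t • fs dodecad0 ∩ d').card = σ →
      ∃ g : Equiv.Perm GolayPt, g ∈ M24 ∧ g (t (pt 0)) = t (pt 0) ∧
        g • (t • fs dodecad0) = t • fs dodecad0 ∧ g • d' = d'' := by
    intro σ hc hσ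
    obtain ⟨g, hg, hgR, hgb⟩ := rank_map hc ht hd' hd'' ((sigF_iff t d' σ).mpr ⟨hx', hσ⟩)
      ((sigF_iff t d'' σ).mpr ⟨hx'', by rw [← h, hσ]⟩)
    refine ⟨g, hg, ?_, hgR dodecad0 (by decide), hgb⟩
    have := hgR 1 (by decide)
    rw [show (1 : ℕ) = 2 ^ 0 by norm_num, smul_fs_pow t 0 (by norm_num)] at this
    exact smul_singleton_eq this
  rcases dodecad_inter_cases hd hd' with hk | hk | hk | hk | hk
  · exfalso
    have : t (pt 0) ∈ t • fs dodecad0 ∩ d' := Finset.mem_inter.mpr ⟨hx, hx'⟩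
    rw [Finset.card_eq_zero.mp hk] at this
    exact Finset.notMem_empty _ this
  · exact key 4 cc_A1639_0 hk
  · exact key 6 cc_A1639_2 hk
  · exact key 8 cc_A1639_1 hk
  · refine ⟨1, M24.one_mem, rfl, one_smul _ _, ?_⟩
    rw [one_smul]
    exact eq_of_full_inter hd.2 hd'.2 hd''.2 hk (by rw [← h, hk])

end Cfsg.Agent.S1639
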