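import Cfsg.Statements.S0358
import Cfsg.Agent.Lib.Helper6.GolayCode

set_option autoImplicit false
open Cfsg

namespace Cfsg.Agent.S0358

open Cfsg.Agent.Lib.Helper6.Golay

theorem natCard_golayCode : Nat.card Cfsg.golayCode = 4096 := by
  let f : Fin 4096 → Cfsg.golayCode := fun m => ⟨dec (combo m), dec_combo_mem m⟩
  have hf : Function.Bijective f := by
    constructor
    · intro a b h
      have h1 : dec (combo a) = dec (combo b) := congrArg Subtype.val h
      have h2 := (dec_eq_iff (combo_lt a a.2) (combo_lt b b.2)).mp h1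
      exact Fin.ext (combo_injOn a.2 b.2 h2)
    · rintro ⟨w, hw⟩
      obtain ⟨m, hm, rfl⟩ := (mem_golayCode_iff w).mp hw
      exact ⟨⟨m, hm⟩, rfl⟩
  rw [← Nat.card_congr (Equiv.ofBijective f hf), Nat.card_eq_fintype_card, Fintype.card_fin]

/-- The length-24 code built from the squares modulo 23 has dimension 12 over the field with two elements. -/
theorem result : Module.finrank (ZMod 2) Cfsg.golayCode = 12 := by
  have h := Module.natCard_eq_pow_finrank (K := ZMod 2) (V := Cfsg.golayCode)
  rw [natCard_golayCode, Nat.card_eq_fintype_card, ZMod.card] at h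
  have h2 : (2 : ℕ) ^ 12 = 2 ^ Module.finrank (ZMod 2) Cfsg.golayCode := by rw [← h]; norm_num
  exact (Nat.pow_right_injective (le_refl 2) h2).symm

end Cfsg.Agent.S0358
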