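import Cfsg.Statements.S5622
import Mathlib
import Cfsg.Agent.H9.GolayAbs

set_option autoImplicit false
open Cfsg

namespace Cfsg.Agent.S5622

open Finset Cfsg.Agent.H9.GolayAbs

theorem support₂_eq (w : V) : Cfsg.support₂ w = supp w := rfl

/-- Let C be a self-dual binary code of length 24 with minimum weight at least 8 (a 12-dimensional subspace of the 24-dimensional space over the field with two elements, any two of whose words have dot product zero, with no non-zero word of weight below 8 — an abstract extended binary Golay code). Then the minimum weight of C is exactly 8, and the supports of the words of weight 8 (the octads) form a Steiner system S(5, 8, 24) on the 24 coordinates: every 5 coordinates lie in the support of exactly one word of weight 8. -/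
theorem result (C : Submodule (ZMod 2) (Fin 24 → ZMod 2)) (hdim : Module.finrank (ZMod 2) C = 12) (horth : ∀ v ∈ C, ∀ w ∈ C, ∑ i, v i * w i = 0) (hmin : ∀ w ∈ C, w ≠ 0 → 8 ≤ hammingNorm w) : (∃ w ∈ C, hammingNorm w = 8) ∧ Cfsg.IsSteinerSystem 5 8 (Cfsg.wordsOfWeight (C : Set (Fin 24 → ZMod 2)) 8) := by
  have hC : IsGolay C := ⟨hdim, horth, hmin⟩
  have key : ∀ s : Finset (Fin 24), s.card = 5 → ∃ o ∈ C, wt o = 8 ∧ s ⊆ supp o := by
    intro s hs
    have hne : s.Nonempty := by
      rw [← card_pos, hs]; norm_num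
    obtain ⟨x, hx⟩ := hne
    obtain ⟨o, hoC, ho8, hto, hxo⟩ := octad_through hC (s.erase x)
      (by rw [card_erase_of_mem hx, hs]) x (notMem_erase x s)
    refine ⟨o, hoC, ho8, ?_⟩
    intro i hi
    by_cases hix : i = x
    · rw [hix]; exact hxo
    · exact hto (mem_erase.2 ⟨hix, hi⟩)
  refine ⟨?_, ?_, ?_⟩
  · obtain ⟨s, -, hs⟩ := exists_subset_card_eq (s := (univ : Finset (Fin 24))) (n := 5)
      (by rw [card_univ, Fintype.card_fin]; norm_num)
    obtain ⟨o, hoC, ho8, -⟩ := key s hs
    exact ⟨o, hoC, ho8⟩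
  · intro b hb
    exact hb.2
  · intro s hs
    obtain ⟨o, hoC, ho8, hso⟩ := key s hs
    refine ⟨supp o, ⟨⟨⟨o, hoC, rfl⟩, ho8⟩, hso⟩, ?_⟩
    rintro b ⟨⟨⟨v, hvC, rfl⟩, hb8⟩, hsb⟩
    rw [support₂_eq] at hb8 hsb ⊢
    have hvo : v - o ∈ C := C.sub_mem hvC hoC
    rcases eq_or_far hC hvo with h | h
    · rw [h]
    · exfalso
      have h5 : 5 ≤ (supp v ∩ supp o).card := by
        rw [← hs]
        apply card_le_card
        intro i hi
        exact mem_inter.2 ⟨hsb hi, hso hi⟩
      unfold wt at h ho8
      omega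

end Cfsg.Agent.S5622
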