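import Cfsg.Statements.S0413
import Cfsg.Agent.Lib.Helper6.M23Aut
import Cfsg.Agent.Lib.Helper6.SteinerAutS
import Cfsg.Agent.S0366
import Cfsg.Agent.S0369
import Cfsg.Agent.S0376
import Cfsg.Agent.S0377

set_option autoImplicit false
open Cfsg

namespace Cfsg.Agent.S0413

/-- Aut of an S(4, 7, 23) is simple of order 10200960 and 4-transitive. -/
theorem result {α : Type*} [Fintype α] [DecidableEq α] (hα : Fintype.card α = 23) {B : Set (Finset α)} (hB : Cfsg.IsSteinerSystem 4 7 B) : Cfsg.IsM23 (Cfsg.setSystemAut B) ∧ MulAction.IsMultiplyPretransitive (Cfsg.setSystemAut B) α 4 := by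
  obtain ⟨e23, he23⟩ := Cfsg.Agent.Lib.Helper6.S23.exists_equiv hα hB
  obtain ⟨e24, he24⟩ := Cfsg.Agent.Lib.Helper6.M23Aut.exists_e24
  have φ1 := Cfsg.Agent.Lib.Helper6.SteinerSearch.autEquiv e23 he23
  have φ2 := Cfsg.Agent.Lib.Helper6.M23Aut.aut23Equiv
  have φ3 := Cfsg.Agent.Lib.Helper6.SteinerSearch.stabEquiv e24 he24 (Fin.last 23)
  have φ : Cfsg.setSystemAut B ≃*
      MulAction.stabilizer (Cfsg.setSystemAut Cfsg.octads) (e24.symm (Fin.last 23)) :=
    φ1.symm.trans (φ2.trans φ3)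
  have hM : Cfsg.setSystemAut Cfsg.octads = Cfsg.M24 := Cfsg.Agent.S0369.result.symm
  refine ⟨⟨?_, ?_⟩, ?_⟩
  · have : IsSimpleGroup
        (MulAction.stabilizer (Cfsg.setSystemAut Cfsg.octads) (e24.symm (Fin.last 23))) := by
      rw [hM]; exact Cfsg.Agent.S0377.result _
    exact φ.isSimpleGroup
  · rw [Nat.card_congr φ.toEquiv, hM]
    exact Cfsg.Agent.S0376.result _
  · have h5 : MulAction.IsMultiplyPretransitive (Cfsg.setSystemAut Cfsg.octads) Cfsg.GolayPt 5 := by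
      rw [hM]; exact Cfsg.Agent.S0366.result
    have h5' : MulAction.IsMultiplyPretransitive
        (Cfsg.setSystemAut Cfsg.Agent.Lib.Helper6.M23Aut.X24) (Fin 24) 5 :=
      Cfsg.Agent.Lib.Helper6.SteinerSearch.pretransitive_transport e24.symm
        (Cfsg.Agent.Lib.Helper6.SteinerSearch.iff_symm e24 he24) 5 h5
    have h4 := Cfsg.Agent.Lib.Helper6.SteinerG.derL_pretransitive 4 h5'
    rw [Cfsg.Agent.Lib.Helper6.M23Aut.derL_X24] at h4
    exact Cfsg.Agent.Lib.Helper6.SteinerSearch.pretransitive_transport e23 he23 4 h4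

end Cfsg.Agent.S0413
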