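import Cfsg.Statements.S0292
import Cfsg.Agent.Lib.Helper5.Orth.OmegaOrder
import Cfsg.Agent.S0286
import Cfsg.Agent.H9.OrthK

set_option autoImplicit false
open Cfsg

namespace Cfsg.Agent.S0292

/-- 2 |PΩ_{2m+1}(q)| = q^(m^2) prod_{i=1}^{m} (q^(2i) - 1), for q odd and m at least 3 (type B_m). -/
theorem result {F : Type*} [Field F] [Fintype F] {q : ℕ} (hF : Fintype.card F = q) (hodd : Odd q) (m : ℕ) (hm : 3 ≤ m) : 2 * Nat.card (Cfsg.POmega F (Cfsg.quadFormOdd m F)) = q ^ (m ^ 2) * ∏ i ∈ Finset.range m, (q ^ (2 * (i + 1)) - 1) := by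
  classical
  subst hF
  have h2 := Cfsg.Agent.Lib.Helper5.OrthSN.two_ne_zero_of_odd_card hodd
  have hQ := Cfsg.Agent.H9.Orth.isNondeg_quadFormOdd (F := F) (m := m) h2
  have hcard : Fintype.card (Unit ⊕ (Fin m ⊕ Fin m)) = 2 * m + 1 := by
    simp only [Fintype.card_sum, Fintype.card_fin, Fintype.card_unit]
    omega
  have hgen := Cfsg.Agent.H9.Orth.iso_le_RR hQ
    (Or.inl (Cfsg.Agent.Lib.Helper5.OrthSN.card_ne_two_of_odd_card hodd))
  have hno := Cfsg.Agent.Lib.Helper5.OrthSN.neg_one_not_mem_omega_of_odd hQ h2 hgen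
    (by rw [hcard]; exact ⟨m, rfl⟩)
  have h1 := Cfsg.Agent.Lib.Helper5.OrthSN.card_POmega_of_not hQ (by rw [hcard]; omega) (Or.inr hno)
  have h3 := Cfsg.Agent.Lib.Helper5.OrthSN.card_omega_mul_four hQ h2 (by rw [hcard]; omega) hgen
  have h4 := Cfsg.Agent.S0286.result (F := F) rfl hodd m
  rw [h1]
  rw [h4] at h3
  generalize Nat.card ↥(Cfsg.Omega F (Cfsg.quadFormOdd m F)) = N at h3
  have h5 : N * 4 = 2 * (Fintype.card F ^ (m ^ 2) *
      ∏ i ∈ Finset.range m, (Fintype.card F ^ (2 * (i + 1)) - 1)) := by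
    rw [h3]; ring
  generalize (Fintype.card F ^ (m ^ 2) *
      ∏ i ∈ Finset.range m, (Fintype.card F ^ (2 * (i + 1)) - 1)) = X at h5
  omega

end Cfsg.Agent.S0292
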