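import Cfsg.Statements.S0102
import Mathlib
import Cfsg.Agent.H1.Basic
import Cfsg.Agent.H1.Transfer

set_option autoImplicit false
open Cfsg

namespace Cfsg.Agent.S0102

open Cfsg.Agent.H1
open scoped commutatorElement

/-- A finite perfect group with cyclic Sylow p-subgroups has no perfect central extension whose kernel has order divisible by p. -/
theorem result {G : Type*} {H : Type*} [Group G] [Group H] [Finite G] [Finite H] (hG : commutator G = ⊤) {p : ℕ} [Fact p.Prime] (hcyc : ∀ P : Sylow p G, IsCyclic P) (σ : H →* G) (hσ : Function.Surjective σ) (hz : σ.ker ≤ Subgroup.center H) (hH : commutator H = ⊤) : ¬ p ∣ Nat.card σ.ker := by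
  have hp : p.Prime := Fact.out
  -- every Sylow p-subgroup of H is abelian
  have habel : ∀ P : Sylow p H, IsMulCommutative P := by
    intro P
    have hpg : IsPGroup p ((P : Subgroup H).map σ) := P.isPGroup'.map σ
    obtain ⟨Q, hQ⟩ := hpg.exists_le_sylow
    have hQc : IsCyclic Q := hcyc Q
    let f : (P : Subgroup H) →* (Q : Subgroup G) :=
      (σ.comp (P : Subgroup H).subtype).codRestrict (Q : Subgroup G) (fun w => hQ ⟨w, w.2, rfl⟩)
    apply f.isMulCommutative_of_isCyclic_of_ker_le_center
    intro w hw
    rw [MonoidHom.mem_ker] at hw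
    have h1 : σ (w : H) = 1 := by
      have := congrArg Subtype.val hw
      simpa [f] using this
    have h2 : (w : H) ∈ Subgroup.center H := hz h1
    rw [Subgroup.mem_center_iff] at h2 ⊢
    intro g
    exact Subtype.ext (h2 g)
  -- ker σ meets every Sylow trivially
  have htriv : ∀ (P : Sylow p H) (z : H), z ∈ σ.ker → z ∈ (P : Subgroup H) → z = 1 := by
    intro P z hzK hzP
    have hzZ : z ∈ Subgroup.center H := hz hzK
    have hzC : z ∈ commutator H := by rw [hH]; exact Subgroup.mem_top z
    have h1 := transfer_central_pow (P : Subgroup H) (habel P) z hzZ hzC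
    obtain ⟨k, hk⟩ := (IsPGroup.iff_card.mp P.isPGroup')
    have h2 : z ^ (p ^ k) = 1 := by
      have h0 := pow_card_eq_one' (G := (P : Subgroup H)) (x := ⟨z, hzP⟩)
      rw [hk] at h0
      have h00 := congrArg Subtype.val h0
      rw [Subgroup.coe_pow, Subgroup.coe_one] at h00
      exact h00
    have h3 : orderOf z ∣ Nat.gcd (P : Subgroup H).index (p ^ k) :=
      Nat.dvd_gcd (orderOf_dvd_of_pow_eq_one h1) (orderOf_dvd_of_pow_eq_one h2)
    have hcop : Nat.Coprime (P : Subgroup H).index (p ^ k) := by
      apply Nat.Coprime.pow_right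
      rw [Nat.coprime_comm, hp.coprime_iff_not_dvd]
      exact P.not_dvd_index
    rw [hcop, Nat.dvd_one, orderOf_eq_one_iff] at h3
    exact h3
  intro hdvd
  obtain ⟨z, hzo⟩ := exists_prime_orderOf_dvd_card' p hdvd
  have hzo' : orderOf (z : H) = p := by rw [Subgroup.orderOf_coe]; exact hzo
  have hpg : IsPGroup p (Subgroup.zpowers (z : H)) := by
    apply IsPGroup.of_card (n := 1)
    rw [Nat.card_zpowers, hzo', pow_one]
  obtain ⟨P, hP⟩ := hpg.exists_le_sylow
  have h1 := htriv P z z.2 (hP (Subgroup.mem_zpowers _))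
  rw [h1, orderOf_one] at hzo'
  exact hp.one_lt.ne hzo'

end Cfsg.Agent.S0102
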