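import Cfsg.Statements.S2690
import Cfsg.Agent.Lib.Helper7.AutPSL.Assembly
import Cfsg.Agent.Lib.Helper7.AutPSL.PSL2Case

set_option autoImplicit false
open Cfsg

namespace Cfsg.Agent.S2690

open Cfsg.Agent.Lib.H7AutPSL

/-- a finite field of order `p ^ f` has characteristic `p` -/
theorem charP_of_card_pow {F : Type*} [Field F] [Fintype F] (p f : ℕ) [hp : Fact p.Prime]
    (hF : Fintype.card F = p ^ f) : CharP F p := by
  obtain ⟨p', hp'⟩ := CharP.exists F
  obtain ⟨k, hk, hcard⟩ := FiniteField.card F p'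
  have h1 : p' ∣ p ^ f := by
    rw [← hF, hcard]
    exact dvd_pow_self p' k.ne_zero
  have h2 : p' ∣ p := hk.dvd_of_dvd_pow h1
  have h3 : p' = p := (Nat.prime_dvd_prime_iff_eq hk hp.out).1 h2
  rw [← h3]
  exact hp'

/-- Every automorphism of a simple projective special linear group PSL_n(F) over a finite field (n ≥ 2; |F| ≥ 4 when n = 2) is a product δ φ γ of an inner-diagonal automorphism δ (induced by an invertible matrix), a standard field automorphism φ (one automorphism of F applied to every entry, possibly the identity) and γ either the identity or the inverse-transpose automorphism. -/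
theorem result {F : Type*} [Field F] [Fintype F] {p f : ℕ} [Fact p.Prime] (hF : Fintype.card F = p ^ f) (hf : 1 ≤ f) {n : ℕ} (hn : 2 ≤ n) (hs : n = 2 → 4 ≤ Fintype.card F) (β : MulAut (Matrix.ProjectiveSpecialLinearGroup (Fin n) F)) :
    ∃ (δ φ γ : MulAut (Matrix.ProjectiveSpecialLinearGroup (Fin n) F)) (σ : F ≃+* F), Cfsg.IsInnerDiagonalAutPSL δ ∧ Cfsg.IsStdFieldAutPSL σ φ ∧ (γ = 1 ∨ Cfsg.IsInverseTransposeAutPSL γ) ∧ β = δ * φ * γ := by
  have : CharP F p := charP_of_card_pow p f hF
  rcases Nat.lt_or_ge 2 n with h3 | h2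
  · obtain ⟨m, rfl⟩ : ∃ m, n = m + 1 := ⟨n - 1, by omega⟩
    obtain ⟨g, σ, h | h⟩ := aut_decomp p (by omega) β
    · refine ⟨conjT g, fieldT σ, 1, σ, isInnerDiag_conjT g, isStdField_fieldT σ, Or.inl rfl, ?_⟩
      ext y
      rw [h y]
      rfl
    · refine ⟨conjT g, fieldT σ, itT, σ, isInnerDiag_conjT g, isStdField_fieldT σ,
        Or.inr isInvTr_itT, ?_⟩
      ext y
      rw [h y]
      rfl
  · obtain rfl : n = 2 := by omega
    obtain ⟨δ, φ, σ, h1, h2, h3⟩ := aut_decomp_two p β
    exact ⟨δ, φ, 1, σ, h1, h2, Or.inl rfl, by rw [mul_one]; exact h3⟩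

end Cfsg.Agent.S2690
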