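import Cfsg.Statements.S2729
import Cfsg.Agent.Lib.Helper5.OrthAut.InndiagMinusMain

set_option autoImplicit false
open Cfsg

namespace Cfsg.Agent.S2729

/-- Let T = PΩ⁻_{2m+2}(F) with m ≥ 3 and |F| = q odd (form with anisotropic binary part). The inner-diagonal group G = Inndiag(T) (image of the class-preserving similarities) taken modulo the inner automorphism group T is cyclic of order 4 when m is even and q ≡ 3 (mod 4), and of order 2 otherwise. -/
theorem result {F : Type*} [Field F] [Fintype F] (hodd : Odd (Fintype.card F)) {m : ℕ} (hm : 3 ≤ m) (a b : F) (hab : (∀ z₁ z₂ : F, z₁ ^ 2 + a * z₁ * z₂ + b * z₂ ^ 2 = 0 → z₁ = 0 ∧ z₂ = 0)) :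
    ((Even m ∧ Fintype.card F % 4 = 3) → (∃ φ : ↥(Cfsg.inndiagPOmegaMinus m F a b) →* Multiplicative (ZMod 4), Function.Surjective φ ∧ φ.ker = (Cfsg.Inn (Cfsg.POmega F (Cfsg.quadFormMinus m F a b))).subgroupOf (Cfsg.inndiagPOmegaMinus m F a b))) ∧ (¬ (Even m ∧ Fintype.card F % 4 = 3) → (∃ φ : ↥(Cfsg.inndiagPOmegaMinus m F a b) →* Multiplicative (ZMod 2), Function.Surjective φ ∧ φ.ker = (Cfsg.Inn (Cfsg.POmega F (Cfsg.quadFormMinus m F a b))).subgroupOf (Cfsg.inndiagPOmegaMinus m F a b))) := by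
  classical
  have h2 := Cfsg.Agent.Lib.Helper5.OrthSN.two_ne_zero_of_odd_card hodd
  have hab' := Cfsg.Agent.Lib.Helper5.OrthSN.disc_ne_zero h2 a b hab
  have hQ := Cfsg.Agent.Lib.Helper5.OrthPM.quadFormMinus_nondeg (F := F) m a b hab'
  have key : ∀ P : Subgroup (MulAut (Cfsg.POmega F (Cfsg.quadFormMinus m F a b))),
      P = Cfsg.Agent.Lib.Helper5.OrthAut.inndiagGen hQ h2 (m + 1)
        (Cfsg.Agent.Lib.Helper5.OrthCls.card_minus m) →
      ((Even m ∧ Fintype.card F % 4 = 3) → (∃ φ : ↥P →* Multiplicative (ZMod 4), Function.Surjective φ ∧ φ.ker = (Cfsg.Inn (Cfsg.POmega F (Cfsg.quadFormMinus m F a b))).subgroupOf P)) ∧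
      (¬ (Even m ∧ Fintype.card F % 4 = 3) → (∃ φ : ↥P →* Multiplicative (ZMod 2), Function.Surjective φ ∧ φ.ker = (Cfsg.Inn (Cfsg.POmega F (Cfsg.quadFormMinus m F a b))).subgroupOf P)) := by
    rintro P rfl
    exact ⟨fun hc => Cfsg.Agent.Lib.Helper5.OrthCls.minus_mod_inn_cyclic m a b hQ hodd hm hab h2 hc,
      fun hc => Cfsg.Agent.Lib.Helper5.OrthCls.minus_mod_inn_two m a b hQ hodd hm hab h2 hc⟩
  exact key _ (Cfsg.Agent.Lib.Helper5.OrthCls.inndiagMinus_eq m a b hodd hab)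

end Cfsg.Agent.S2729
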