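import Cfsg.Statements.S2624
import Mathlib
import Cfsg.Agent.H9.QuadFin

set_option autoImplicit false

namespace Cfsg.Agent.S2624

open Cfsg.Agent.H9.QuadFin QuadraticMap Module

/-- the binary form `a² + ab + ζ b²` with `t² + t + ζ` rootless is universal over a finite field. -/
theorem exists_norm_eq {F : Type*} [Field F] [Finite F] {ζ : F} (hζ : ∀ t : F, t ^ 2 + t + ζ ≠ 0)
    (c : F) : ∃ a b : F, a ^ 2 + a * b + ζ * b ^ 2 = c := by
  let N : QuadraticForm F (F × F) :=
    QuadraticMap.sq.comp (LinearMap.fst F F F) +
      QuadraticMap.linMulLin (LinearMap.fst F F F) (LinearMap.snd F F F) +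
      ζ • QuadraticMap.sq.comp (LinearMap.snd F F F)
  have hN : ∀ p : F × F, N p = p.1 ^ 2 + p.1 * p.2 + ζ * p.2 ^ 2 := by
    intro p
    simp [N]
    ring
  have han : ∀ p : F × F, N p = 0 → p = 0 := by
    rintro ⟨a, b⟩ h0
    rw [hN] at h0
    simp only at h0
    have hb : b = 0 := by
      by_contra hb
      apply hζ (a / b)
      field_simp
      linear_combination h0
    subst hb
    have ha : a = 0 := by
      have : a ^ 2 = 0 := by linear_combination h0
      exact pow_eq_zero_iff (by norm_num) |>.1 this
    rw [ha]; rfl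
  obtain ⟨⟨a, b⟩, hab⟩ := exists_eq_of_aniso N (by rw [Module.finrank_prod, Module.finrank_self]) han c
  exact ⟨a, b, by rw [← hab, hN]⟩

/-- For a quadratic form Q on F^n with non-degenerate polar form, F finite and n ≥ 2 even, every non-zero scalar c is the multiplier of some similarity: there is an invertible linear map g with Q(g v) = c·Q(v) for all v. -/
theorem result {F : Type*} [Field F] [Fintype F] {n : ℕ} (hn : 2 ≤ n) (he : Even n) (Q : QuadraticForm F (Fin n → F)) (hQ : (QuadraticMap.polarBilin Q).Nondegenerate) (c : F) (hc : c ≠ 0) : ∃ g : (Fin n → F) ≃ₗ[F] (Fin n → F), ∀ v, Q (g v) = c * Q v := by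
  obtain ⟨k, hk⟩ : ∃ k, n = 2 * k + 2 := by
    obtain ⟨r, hr⟩ := he
    exact ⟨r - 1, by omega⟩
  have hV : finrank F (Fin n → F) = 2 * k + 2 := by simp [hk]
  suffices h : ∃ g : (Fin n → F) →ₗ[F] (Fin n → F), ∀ v, Q (g v) = c * Q v by
    obtain ⟨g, hg⟩ := h
    exact exists_equiv_of_scaling Q hQ g hc hg
  rcases even_basis Q hQ k hV with ⟨b, hb⟩ | ⟨b, ζ, hζ, hb, hort, hx, hxy, hy⟩
  · refine ⟨b.constr F (Sum.elim (fun i => c • b (Sum.inl i)) (fun i => b (Sum.inr i))), ?_⟩
    refine scaling_of_basis Q Q b _ c ?_ ?_
    · rintro (i | i)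
      · simp [QuadraticMap.map_smul, (hb.1 i).1]
      · simp [(hb.1 i).2]
    · rintro (i | i) (j | j)
      · simp [polar_smul_left, polar_smul_right, (hb.2.2 i j).1]
      · simp [polar_smul_left]
      · simp [polar_smul_right]
      · simp [(hb.2.2 i j).2]
  · obtain ⟨a₀, b₀, hab⟩ := exists_norm_eq hζ c
    set x := b (Sum.inr 0) with hxdef
    set y := b (Sum.inr 1) with hydef
    have hxx : polar Q x x = 2 := by rw [polar_self, hx]; simp
    have hyy : polar Q y y = 2 * ζ := by rw [polar_self, hy]; simp
    have hyx : polar Q y x = 1 := by rw [polar_comm]; exact hxy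
    refine ⟨b.constr F (Sum.elim (Sum.elim (fun i => c • b (Sum.inl (Sum.inl i)))
      (fun i => b (Sum.inl (Sum.inr i)))) ![a₀ • x + b₀ • y, (-(ζ * b₀)) • x + (a₀ + b₀) • y]), ?_⟩
    have hex : ∀ i, polar Q (b (Sum.inl (Sum.inl i))) x = 0 := fun i => (hort i 0).1
    have hey : ∀ i, polar Q (b (Sum.inl (Sum.inl i))) y = 0 := fun i => (hort i 1).1
    have hfx : ∀ i, polar Q (b (Sum.inl (Sum.inr i))) x = 0 := fun i => (hort i 0).2
    have hfy : ∀ i, polar Q (b (Sum.inl (Sum.inr i))) y = 0 := fun i => (hort i 1).2
    have hxe : ∀ i, polar Q x (b (Sum.inl (Sum.inl i))) = 0 := fun i => by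
      rw [polar_comm]; exact hex i
    have hye : ∀ i, polar Q y (b (Sum.inl (Sum.inl i))) = 0 := fun i => by
      rw [polar_comm]; exact hey i
    have hxf : ∀ i, polar Q x (b (Sum.inl (Sum.inr i))) = 0 := fun i => by
      rw [polar_comm]; exact hfx i
    have hyf : ∀ i, polar Q y (b (Sum.inl (Sum.inr i))) = 0 := fun i => by
      rw [polar_comm]; exact hfy i
    refine scaling_of_basis Q Q b _ c ?_ ?_
    · rintro ((i | i) | i)
      · simp [QuadraticMap.map_smul, (hb.1 i).1]
      · simp [(hb.1 i).2]
      · fin_cases i
        · simp only [Fin.zero_eta, Sum.elim_inr, Matrix.cons_val_zero]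
          rw [QuadraticMap.map_add (⇑Q), QuadraticMap.map_smul, QuadraticMap.map_smul,
            polar_smul_left, polar_smul_right, hx, hy, hxy]
          simp only [smul_eq_mul]
          linear_combination hab
        · simp only [Fin.mk_one, Sum.elim_inr, Matrix.cons_val_one, Matrix.cons_val_fin_one]
          rw [QuadraticMap.map_add (⇑Q), QuadraticMap.map_smul, QuadraticMap.map_smul,
            polar_smul_left, polar_smul_right, hx, hy, hxy]
          simp only [smul_eq_mul]
          linear_combination ζ * hab
    · rintro ((i | i) | i) ((j | j) | j)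
      · simp [polar_smul_left, polar_smul_right, (hb.2.2 i j).1]
      · simp [polar_smul_left]
      · fin_cases j <;>
          simp [polar_smul_left, polar_smul_right, polar_add_right, hex, hey, ← hxdef, ← hydef]
      · simp [polar_smul_right]
      · simp [(hb.2.2 i j).2]
      · fin_cases j <;>
          simp [polar_smul_left, polar_smul_right, polar_add_right, hfx, hfy, ← hxdef, ← hydef]
      · fin_cases i <;>
          simp [polar_smul_left, polar_smul_right, polar_add_left, hxe, hye, ← hxdef, ← hydef]
      · fin_cases i <;>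
          simp [polar_smul_left, polar_smul_right, polar_add_left, hxf, hyf, ← hxdef, ← hydef]
      · fin_cases i <;> fin_cases j
        · simp only [Fin.zero_eta, Sum.elim_inr, Matrix.cons_val_zero]
          rw [← hxdef, polar_self, polar_self,
            QuadraticMap.map_add (⇑Q), QuadraticMap.map_smul, QuadraticMap.map_smul,
            polar_smul_left, polar_smul_right, hx, hy, hxy]
          simp only [smul_eq_mul, nsmul_eq_mul]
          linear_combination 2 * hab
        · simp only [Fin.zero_eta, Fin.mk_one, Sum.elim_inr, Matrix.cons_val_zero,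
            Matrix.cons_val_one, Matrix.cons_val_fin_one]
          rw [← hxdef, ← hydef, hxy]
          simp only [polar_add_left, polar_add_right, polar_smul_left, polar_smul_right, hxx, hyy,
            hxy, hyx, smul_eq_mul]
          linear_combination hab
        · simp only [Fin.zero_eta, Fin.mk_one, Sum.elim_inr, Matrix.cons_val_zero,
            Matrix.cons_val_one, Matrix.cons_val_fin_one]
          rw [← hxdef, ← hydef, hyx]
          simp only [polar_add_left, polar_add_right, polar_smul_left, polar_smul_right, hxx, hyy,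
            hxy, hyx, smul_eq_mul]
          linear_combination hab
        · simp only [Fin.mk_one, Sum.elim_inr, Matrix.cons_val_one, Matrix.cons_val_fin_one]
          rw [← hydef, hyy]
          simp only [polar_add_left, polar_add_right, polar_smul_left, polar_smul_right, hxx, hyy,
            hxy, hyx, smul_eq_mul]
          linear_combination 2 * ζ * hab

end Cfsg.Agent.S2624
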