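import Mathlib
import Cfsg.Statements.S5653
import Cfsg.Agent.Lib.Helper8.SUMaxA

set_option autoImplicit false
open Cfsg

namespace Cfsg.Agent.S5653


section Part0

open Matrix Cfsg.Agent.S5631 Cfsg.Agent.S5643 Cfsg.Agent.Lib.Helper8.Unitary
  Cfsg.Agent.Lib.Helper8.SUGen Cfsg.Agent.Lib.Helper8.SUMax Cfsg.Agent.Lib.Helper5.Herm

section Abstract

variable {n : ℕ} {F : Type*} [Field F] [Fintype F] {σ : F ≃+* F}
variable {f : (Fin n → F) → (Fin n → F) → F}
variable (hf : Cfsg.Geo.IsUnitaryForm σ f)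
variable (W : Submodule F (Fin n → F)) (hW : Cfsg.Geo.IsTotallySingularFor f W)
variable (M : Subgroup (GL (Fin n) F))
variable (hPM : Cfsg.Geo.subspaceStabilizer W ⊓ SUf f ≤ M) (hMS : M ≤ SUf f)

include hPM in
/-- L1: isotropic vectors of `W^⊥` are in `SSu` -/
lemma perp_mem_SSu (x : Fin n → F) (hx : f x x = 0) (hxW : ∀ w ∈ W, f x w = 0) :
    x ∈ SSu hf M :=
  ⟨hx, fun z hz => hPM ⟨ut_stab_of_perp hf W x hx hxW z, ut_mem_SUf hf x hx z hz⟩⟩

include hW hPM hMS in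
/-- L8: partners of `u ∈ W` -/
lemma partner_mem_SSu (u s s' : Fin n → F) (huW : u ∈ W) (hp : HP f u s) (hp' : HP f u s')
    (hs : s ∈ SSu hf M) : s' ∈ SSu hf M := by
  have hyu : f (s' - s - f s' s • u) u = 0 := by
    rw [f_sub_left hf, f_sub_left hf, hf.smul_left, HP.vu hf hp', HP.vu hf hp, hp.uu]; ring
  have hyv : f (s' - s - f s' s • u) s = 0 := by
    rw [f_sub_left hf, f_sub_left hf, hf.smul_left, hp.vv, hp.uv]; ring
  set y := s' - s - f s' s • u with hy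
  have hv' : s' = s + f s' s • u + y := by rw [hy]; abel
  have hβ : f s' s + σ (f s' s) + f y y = 0 := by
    rw [← partner_form hf hp _ y hyu hyv, ← hv', hp'.vv]
  have hβ' : (f s' s + f y y) + σ (f s' s + f y y) = f y y := by
    rw [map_add, f_self_fix hf]
    linear_combination hβ
  have hS : sieg hf u y (hW u huW u huW) hyu (f s' s + f y y) ∈ M :=
    hPM ⟨sieg_stab hf W hW u y huW hyu _, sieg_mem hf u y _ hyu _ hβ'⟩
  have := SSu_mulVec hf M hMS _ hS s hs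
  rw [sieg_mulVec, HP.vu hf hp, f_swap_eq_zero hf _ _ hyv] at this
  have e : s + (1 : F) • y + ((f s' s + f y y - f y y) * 1 - 0) • u = s' := by
    conv_rhs => rw [hv']
    match_scalars <;> ring
  rw [e] at this
  exact this

include hW hPM hMS in
/-- L8': isotropic vectors not perpendicular to `u ∈ W` -/
lemma ne_mem_SSu (u s x : Fin n → F) (huW : u ∈ W) (hs : s ∈ SSu hf M) (hus : f u s ≠ 0)
    (hx : f x x = 0) (hux : f u x ≠ 0) : x ∈ SSu hf M := by
  have hs0 := SSu_iso hf M s hs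
  have huu : f u u = 0 := hW u huW u huW
  have hp : HP f ((f u s)⁻¹ • u) s :=
    ⟨by rw [hf.smul_left, f_smul_right hf, huu]; ring, hs0,
      by rw [hf.smul_left, inv_mul_cancel₀ hus]⟩
  have hne : f ((f u s)⁻¹ • u) x ≠ 0 := by
    rw [hf.smul_left]; exact mul_ne_zero (inv_ne_zero hus) hux
  have hp' : HP f ((f u s)⁻¹ • u) (σ (f ((f u s)⁻¹ • u) x)⁻¹ • x) :=
    ⟨hp.uu, by rw [hf.smul_left, f_smul_right hf, hx]; ring,
      by rw [f_smul_right hf, hf.involutive, inv_mul_cancel₀ hne]⟩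
  have h1 := partner_mem_SSu hf W hW M hPM hMS _ s _ (W.smul_mem _ huW) hp hp' hs
  have h2 := SSu_smul hf M (σ (f ((f u s)⁻¹ • u) x)⁻¹)⁻¹ _ h1
  rw [smul_smul, inv_mul_cancel₀ (by
    rw [Ne, map_eq_zero]; exact inv_ne_zero hne), one_smul] at h2
  exact h2

include hW hPM hMS in
/-- all isotropic vectors are in `SSu` once `M` moves a vector of `W` out of `W` -/
lemma SSu_univ (h' : GL (Fin n) F) (hh' : h' ∈ M) (w₀ : Fin n → F) (hw₀ : w₀ ∈ W)
    (hy : (h' : Matrix (Fin n) (Fin n) F) *ᵥ w₀ ∉ W) (x : Fin n → F) (hx : f x x = 0) :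
    x ∈ SSu hf M := by
  have hiso := SUf_iso h' (hMS hh')
  set y := (h' : Matrix (Fin n) (Fin n) F) *ᵥ w₀ with hydef
  have hyy : f y y = 0 := by rw [hydef, hiso, hW w₀ hw₀ w₀ hw₀]
  -- an isotropic vector of `W^⊥` not perpendicular to `y`
  obtain ⟨x₁, hx₁, hx₁W, hx₁y⟩ : ∃ x₁, f x₁ x₁ = 0 ∧ (∀ w ∈ W, f x₁ w = 0) ∧ f x₁ y ≠ 0 := by
    by_cases hA : ∃ w ∈ W, f w y ≠ 0
    · obtain ⟨w, hw, hwy⟩ := hA
      exact ⟨w, hW w hw w hw, fun w' hw' => hW w hw w' hw', hwy⟩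
    · push Not at hA
      obtain ⟨φ, hφy, hφW⟩ := exists_functional W y hy
      obtain ⟨x₀, hx₀⟩ := exists_rep hf φ
      have h1 : f y x₀ = 1 := by rw [← hx₀, hφy]
      have h2 : ∀ w ∈ W, f w x₀ = 0 := fun w hw => by rw [← hx₀, hφW w hw]
      obtain ⟨β, hβ1, hβ2⟩ := exists_partner hf y x₀ hyy h1
      refine ⟨x₀ + β • y, hβ1, fun w hw => ?_, ?_⟩
      · rw [hf.add_left, hf.smul_left, f_swap_eq_zero hf _ _ (h2 w hw),
          f_swap_eq_zero hf _ _ (hA w hw)]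
        ring
      · rw [hf.herm, hβ2, map_one]; exact one_ne_zero
  -- the initial element of `SSu`
  have hx₁S : x₁ ∈ SSu hf M := perp_mem_SSu hf W M hPM x₁ hx₁ hx₁W
  have hsS := SSu_mulVec hf M hMS h'⁻¹ (M.inv_mem hh') x₁ hx₁S
  set s := ((h'⁻¹ : GL (Fin n) F) : Matrix (Fin n) (Fin n) F) *ᵥ x₁ with hs
  have hsw : f s w₀ ≠ 0 := by
    have := hiso s w₀
    rw [hs, mulVec_inv_mulVec] at this
    rw [hs, ← this]; exact hx₁y
  have hw₀s : f w₀ s ≠ 0 := f_swap_ne_zero hf _ _ hsw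
  have hw₀0 : w₀ ≠ 0 := by
    rintro rfl
    exact hsw (f_zero_right hf s)
  by_cases hxW : ∀ w ∈ W, f x w = 0
  · exact perp_mem_SSu hf W M hPM x hx hxW
  · push Not at hxW
    obtain ⟨w₂, hw₂, hxw₂⟩ := hxW
    have hw₂0 : w₂ ≠ 0 := by
      rintro rfl
      exact hxw₂ (f_zero_right hf x)
    obtain ⟨t, htt, h1, h2⟩ := exists_link hf w₀ w₂ hw₀0 hw₂0 (hW w₀ hw₀ w₀ hw₀)
      (hW w₂ hw₂ w₂ hw₂) (hW w₀ hw₀ w₂ hw₂)
    have htS := ne_mem_SSu hf W hW M hPM hMS w₀ s t hw₀ hsS hw₀s htt h1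
    exact ne_mem_SSu hf W hW M hPM hMS w₂ t x hw₂ htS (f_swap_ne_zero hf _ _ h2) hx
      (f_swap_ne_zero hf _ _ hxw₂)

end Abstract

end Part0

section Part1

open Matrix Cfsg.Agent.S5631 Cfsg.Agent.S5643 Cfsg.Agent.Lib.Helper8.Unitary
  Cfsg.Agent.Lib.Helper8.SUGen Cfsg.Agent.Lib.Helper8.SUMax Cfsg.Agent.Lib.Helper5.Herm

/-- an element outside the stabilizer (or its inverse) moves a vector of `W` out of `W` -/
lemma exists_move {n : ℕ} {F : Type*} [Field F] (W : Submodule F (Fin n → F))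
    (M : Subgroup (GL (Fin n) F)) (h : GL (Fin n) F) (hhM : h ∈ M)
    (hhS : h ∉ Cfsg.Geo.subspaceStabilizer W) :
    ∃ h' ∈ M, ∃ w ∈ W, (h' : Matrix (Fin n) (Fin n) F) *ᵥ w ∉ W := by
  rw [mem_stab_iff] at hhS
  rw [not_forall] at hhS
  obtain ⟨v, hv⟩ := hhS
  by_cases hvW : v ∈ W
  · refine ⟨h, hhM, v, hvW, ?_⟩
    intro h'
    exact hv ⟨fun _ => h', fun _ => hvW⟩
  · have hhv : (h : Matrix (Fin n) (Fin n) F) *ᵥ v ∈ W := by
      by_contra h'
      exact hv ⟨fun h'' => absurd h'' hvW, fun h'' => absurd h'' h'⟩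
    refine ⟨h⁻¹, M.inv_mem hhM, _, hhv, ?_⟩
    rw [inv_mulVec_mulVec]
    exact hvW

/-- Let F be the field with q² elements and n ≥ 13, and let SU_n(q) be the group of matrices of determinant one preserving the standard unitary form Σ u_i v_i^q on F^n (the intersection of the unitary group GU_n with the kernel of the determinant). The elements of SU_n(q) stabilising a non-zero subspace on which the form vanishes identically form a maximal subgroup of SU_n(q). -/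
theorem result {F : Type*} [Field F] [Fintype F] (n q : ℕ) (hF : Fintype.card F = q ^ 2) (hn : 13 ≤ n) (W : Submodule F (Fin n → F)) (hW0 : W ≠ ⊥) (hW : Cfsg.Geo.IsTotallySingularFor (Cfsg.hermForm n F q) W) : Cfsg.Geo.IsMaximalIn (Cfsg.GU n F q ⊓ Cfsg.Geo.specialLinear (Fin n) F) (Cfsg.Geo.subspaceStabilizer W ⊓ (Cfsg.GU n F q ⊓ Cfsg.Geo.specialLinear (Fin n) F)) := by
  have hf := herm_unitary hF n
  change Cfsg.Geo.IsMaximalIn (SUf (hermForm n F q))
    (Cfsg.Geo.subspaceStabilizer W ⊓ SUf (hermForm n F q))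
  refine ⟨lt_of_le_of_ne inf_le_right ?_, ?_⟩
  · intro heq
    obtain ⟨w, hwW, hw0⟩ := Submodule.exists_mem_ne_zero_of_ne_bot hW0
    obtain ⟨v, hp⟩ := exists_HP_of_iso hf w hw0 (hW w hwW w hwW)
    obtain ⟨ζ, hζ0, hζ⟩ := exists_Z hf.ne_refl hf.involutive
    have h1 : ut hf v hp.vv ζ ∈ Cfsg.Geo.subspaceStabilizer W ⊓ SUf (hermForm n F q) := by
      rw [heq]; exact ut_mem_SUf hf v hp.vv ζ hζ
    have h2 := ((mem_stab_iff W _).1 h1.1 w).1 hwW
    rw [ut_mulVec, hp.uv, mul_one] at h2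
    have h3 : (frobEquiv hF) ζ • v ∈ W := (Submodule.add_mem_iff_right W hwW).1 h2
    have hσζ : (frobEquiv hF) ζ ≠ 0 := by
      rw [Ne, map_eq_zero]; exact hζ0
    have h4 : v ∈ W := by
      have := W.smul_mem ((frobEquiv hF) ζ)⁻¹ h3
      rwa [smul_smul, inv_mul_cancel₀ hσζ, one_smul] at this
    have := hW w hwW v h4
    rw [hp.uv] at this
    exact one_ne_zero this
  · intro M hPM hMS
    by_cases hMP : M ≤ Cfsg.Geo.subspaceStabilizer W ⊓ SUf (hermForm n F q)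
    · left; exact le_antisymm hMP hPM
    · right
      apply le_antisymm hMS
      rw [SetLike.not_le_iff_exists] at hMP
      obtain ⟨h, hhM, hhP⟩ := hMP
      have hhS : h ∉ Cfsg.Geo.subspaceStabilizer W := fun hh => hhP ⟨hh, hMS hhM⟩
      obtain ⟨h', hh'M, w₀, hw₀W, hy⟩ := exists_move W M h hhM hhS
      exact (SU_le_TT hF n (by omega) (by omega)).trans
        (TT_le_of_SSu hf M (SSu_univ hf W hW M hPM hMS h' hh'M w₀ hw₀W hy))

end Part1

end Cfsg.Agent.S5653
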