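import Mathlib
import Cfsg.Statements.S0283
import Cfsg.Agent.S0780
import Cfsg.Agent.S0781
import Cfsg.Agent.S5653

set_option autoImplicit false
open Cfsg

namespace Cfsg.Agent.S0283


section Part0

open Matrix Cfsg.Agent.S5631 Cfsg.Agent.S5643 Cfsg.Agent.Lib.Helper8.Unitary
  Cfsg.Agent.Lib.Helper8.SUGen Cfsg.Agent.Lib.Helper8.SUMax Cfsg.Agent.Lib.Helper5.Herm

/-- a variant of Iwasawa's criterion -/
lemma normal_le_or_top {G : Type*} [Group G] (P X : Subgroup G)
    (hX : IsMulCommutative X)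
    (hPX : ∀ p ∈ P, ∀ x ∈ X, p * x * p⁻¹ ∈ X)
    (hmax : ∀ M : Subgroup G, P ≤ M → M = P ∨ M = ⊤)
    (hcl : ∀ K : Subgroup G, K.Normal → X ≤ K → K = ⊤)
    (hperf : commutator G = ⊤) (N : Subgroup G) (hN : N.Normal) : N ≤ P ∨ N = ⊤ := by
  by_cases hNP : N ≤ P
  · exact Or.inl hNP
  right
  have hNP' : N ⊔ P = ⊤ := by
    rcases hmax (N ⊔ P) le_sup_right with h | h
    · exact absurd (h ▸ le_sup_left) hNP
    · exact h
  have hconj : ∀ g : G, ∀ x ∈ X, g * x * g⁻¹ ∈ N ⊔ X := by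
    intro g x hx
    have hg : g ∈ N ⊔ P := by rw [hNP']; trivial
    rw [Subgroup.mem_sup_of_normal_left] at hg
    obtain ⟨n, hn, p, hp, rfl⟩ := hg
    have : n * p * x * (n * p)⁻¹ = n * (p * x * p⁻¹) * n⁻¹ := by group
    rw [this]
    exact (N ⊔ X).mul_mem ((N ⊔ X).mul_mem (Subgroup.mem_sup_left hn)
      (Subgroup.mem_sup_right (hPX p hp x hx))) ((N ⊔ X).inv_mem (Subgroup.mem_sup_left hn))
  have hK : Subgroup.normalClosure (X : Set G) = ⊤ :=
    hcl _ Subgroup.normalClosure_normal Subgroup.le_normalClosure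
  have hle : Subgroup.normalClosure (X : Set G) ≤ N ⊔ X := by
    rw [Subgroup.normalClosure, Subgroup.closure_le]
    intro y hy
    rw [Group.mem_conjugatesOfSet_iff] at hy
    obtain ⟨x, hx, hxy⟩ := hy
    rw [isConj_iff] at hxy
    obtain ⟨g, rfl⟩ := hxy
    exact hconj g x hx
  have hNX : N ⊔ X = ⊤ := by rw [eq_top_iff, ← hK]; exact hle
  have := Subgroup.Normal.commutator_le_of_self_sup_commutative_eq_top hNX hX
  rw [hperf] at this
  exact top_le_iff.mp this

section Abstract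

variable {n : ℕ} {F : Type*} [Field F] {σ : F ≃+* F} {f : (Fin n → F) → (Fin n → F) → F}
variable (hf : Cfsg.Geo.IsUnitaryForm σ f)

lemma ut_mul (u : Fin n → F) (hu : f u u = 0) (z z' : F) :
    ut hf u hu z * ut hf u hu z' = ut hf u hu (z + z') := by
  apply GL_ext
  intro x
  rw [mul_mulVec, ut_mulVec, ut_mulVec, ut_mulVec, hf.add_left, hf.smul_left, hu, map_add]
  match_scalars <;> ring

lemma ut_zero (u : Fin n → F) (hu : f u u = 0) : ut hf u hu 0 = 1 := by
  apply GL_ext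
  intro x
  rw [ut_mulVec, map_zero, zero_mul, zero_smul, add_zero, one_mulVec']

lemma ut_inv (u : Fin n → F) (hu : f u u = 0) (z : F) :
    (ut hf u hu z)⁻¹ = ut hf u hu (-z) := by
  rw [inv_eq_iff_mul_eq_one, ut_mul, add_neg_cancel, ut_zero]

/-- the root subgroup -/
def rootGL (u : Fin n → F) (hu : f u u = 0) : Subgroup (GL (Fin n) F) where
  carrier := {g | ∃ z : F, z + σ z = 0 ∧ g = ut hf u hu z}
  mul_mem' := by
    rintro _ _ ⟨z, hz, rfl⟩ ⟨z', hz', rfl⟩
    exact ⟨z + z', Z_add z z' hz hz', ut_mul hf u hu z z'⟩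
  one_mem' := ⟨0, by simp, (ut_zero hf u hu).symm⟩
  inv_mem' := by
    rintro _ ⟨z, hz, rfl⟩
    exact ⟨-z, Z_neg z hz, ut_inv hf u hu z⟩

lemma mem_rootGL (u : Fin n → F) (hu : f u u = 0) (g : GL (Fin n) F) :
    g ∈ rootGL hf u hu ↔ ∃ z : F, z + σ z = 0 ∧ g = ut hf u hu z := Iff.rfl

lemma rootGL_comm (u : Fin n → F) (hu : f u u = 0) (g h : GL (Fin n) F)
    (hg : g ∈ rootGL hf u hu) (hh : h ∈ rootGL hf u hu) : g * h = h * g := by
  obtain ⟨z, -, rfl⟩ := hg
  obtain ⟨z', -, rfl⟩ := hh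
  rw [ut_mul, ut_mul, add_comm]

/-- conjugating a unitary transvection by an isometry -/
lemma conj_ut (g : GL (Fin n) F) (hg : g ∈ SUf f) (w : Fin n → F) (hw : f w w = 0)
    (hgw : f ((g : Matrix (Fin n) (Fin n) F) *ᵥ w) ((g : Matrix (Fin n) (Fin n) F) *ᵥ w) = 0)
    (z : F) : g * ut hf w hw z * g⁻¹ = ut hf _ hgw z := by
  have hiso := SUf_iso g hg
  apply GL_ext
  intro x
  rw [ut_mulVec, mul_mulVec, mul_mulVec, ut_mulVec, Matrix.mulVec_add, Matrix.mulVec_smul,
    mulVec_inv_mulVec]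
  congr 3
  have := hiso (((g⁻¹ : GL (Fin n) F) : Matrix (Fin n) (Fin n) F) *ᵥ x) w
  rw [mulVec_inv_mulVec] at this
  exact this.symm

lemma ut_smul (a : F) (w : Fin n → F) (hw : f w w = 0) (haw : f (a • w) (a • w) = 0) (z : F) :
    ut hf (a • w) haw z = ut hf w hw (z * (a * σ a)) := by
  apply GL_ext
  intro x
  rw [ut_mulVec, ut_mulVec, f_smul_right hf, map_mul, map_mul, hf.involutive]
  match_scalars <;> ring

/-- an isometry fixing all isotropic points centralizes every unitary transvection -/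
lemma comm_ut_of_fix (g : GL (Fin n) F) (hg : g ∈ SUf f)
    (hfix : ∀ w : Fin n → F, f w w = 0 → ∃ a : F, (g : Matrix (Fin n) (Fin n) F) *ᵥ w = a • w)
    (w : Fin n → F) (hw : f w w = 0) (z : F) : g * ut hf w hw z = ut hf w hw z * g := by
  by_cases hw0 : w = 0
  · subst hw0
    have : ut hf (0 : Fin n → F) hw z = 1 := by
      apply GL_ext
      intro x
      rw [ut_mulVec, smul_zero, add_zero, one_mulVec']
    rw [this, mul_one, one_mul]
  have hiso := SUf_iso g hg
  obtain ⟨w', hp⟩ := exists_HP_of_iso hf w hw0 hw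
  obtain ⟨a, ha⟩ := hfix w hw
  obtain ⟨a', ha'⟩ := hfix w' hp.vv
  obtain ⟨ζ, hζ0, hζ⟩ := exists_Z hf.ne_refl hf.involutive
  have hσζ : σ ζ = -ζ := by linear_combination hζ
  have hiso3 : f (w + ζ • w') (w + ζ • w') = 0 := by
    rw [hf.add_left, f_add_right hf, f_add_right hf, hf.smul_left, hf.smul_left, f_smul_right hf,
      f_smul_right hf, hw, hp.vv, hp.uv, HP.vu hf hp, hσζ]
    ring
  obtain ⟨a'', ha''⟩ := hfix _ hiso3
  rw [Matrix.mulVec_add, Matrix.mulVec_smul, ha, ha'] at ha''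
  -- compare coefficients via the form
  have e1 : a = a'' := by
    have := congrArg (fun x => f x w') ha''
    simp only [hf.add_left, hf.smul_left, hp.uv, hp.vv] at this
    linear_combination this
  have e2 : a' = a'' := by
    have := congrArg (fun x => f x w) ha''
    simp only [hf.add_left, hf.smul_left, hw, HP.vu hf hp] at this
    have h3 : ζ * a' = ζ * a'' := by linear_combination this
    exact mul_left_cancel₀ hζ0 h3
  have hnorm : a * σ a = 1 := by
    have := hiso w w'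
    rw [ha, ha', hf.smul_left, f_smul_right hf, hp.uv, e2, ← e1] at this
    linear_combination this
  have hgw : f ((g : Matrix (Fin n) (Fin n) F) *ᵥ w) ((g : Matrix (Fin n) (Fin n) F) *ᵥ w) = 0 := by
    rw [hiso, hw]
  have h1 := conj_ut hf g hg w hw hgw z
  have h2 : ut hf _ hgw z = ut hf w hw z := by
    have haw : f (a • w) (a • w) = 0 := by rw [← ha]; exact hgw
    have : ut hf _ hgw z = ut hf (a • w) haw z := by
      apply GL_ext
      intro x
      rw [ut_mulVec, ut_mulVec, ha]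
    rw [this, ut_smul hf a w hw haw, hnorm, mul_one]
  rw [h2] at h1
  calc g * ut hf w hw z = (g * ut hf w hw z * g⁻¹) * g := by group
    _ = ut hf w hw z * g := by rw [h1]

end Abstract

end Part0

section Part1

open Matrix Cfsg.Agent.S5631 Cfsg.Agent.S5643 Cfsg.Agent.Lib.Helper8.Unitary
  Cfsg.Agent.Lib.Helper8.SUGen Cfsg.Agent.Lib.Helper8.SUMax Cfsg.Agent.Lib.Helper5.Herm
  Cfsg.Agent.S0781

section Concrete

variable {F : Type*} [Field F] [Fintype F] {q : ℕ}

lemma span_ts {n : ℕ} {σ : F ≃+* F} {f : (Fin n → F) → (Fin n → F) → F}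
    (hf : Cfsg.Geo.IsUnitaryForm σ f) (u : Fin n → F) (hu : f u u = 0) :
    Cfsg.Geo.IsTotallySingularFor f (Submodule.span F {u}) := by
  intro x hx y hy
  rw [Submodule.mem_span_singleton] at hx hy
  obtain ⟨a, rfl⟩ := hx
  obtain ⟨b, rfl⟩ := hy
  rw [hf.smul_left, f_smul_right hf, hu]; ring

/-- a subgroup of `SU` whose image contains `SUf` is everything -/
lemma eq_top_of_map (n : ℕ) (M : Subgroup ↥(Cfsg.SU n F q))
    (h : SUf (hermForm n F q) ≤ M.map (phi n)) : M = ⊤ := by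
  rw [eq_top_iff]
  intro C _
  obtain ⟨C', hC', e⟩ := h (phi_mem n C)
  rw [← phi_injective n e]
  exact hC'

variable (hF : Fintype.card F = q ^ 2) (n : ℕ) (hn : 3 ≤ n) (h32 : ¬ (n = 3 ∧ q = 2))
variable (u : Fin n → F) (hu0 : u ≠ 0) (hu : hermForm n F q u u = 0)

/-- the stabilizer of the isotropic point `⟨u⟩` -/
noncomputable def PP : Subgroup ↥(Cfsg.SU n F q) :=
  (Cfsg.Geo.subspaceStabilizer (Submodule.span F {u})).comap (phi n)

/-- the root subgroup -/
noncomputable def XX : Subgroup ↥(Cfsg.SU n F q) := (rootGL (herm_unitary hF n) u hu).comap (phi n)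

lemma XX_comm : IsMulCommutative (XX hF n u hu) := by
  refine ⟨⟨?_⟩⟩
  rintro ⟨a, ha⟩ ⟨b, hb⟩
  apply Subtype.ext
  apply phi_injective n
  change phi n (a * b) = phi n (b * a)
  rw [map_mul, map_mul]
  exact rootGL_comm (herm_unitary hF n) u hu _ _ ha hb

lemma PP_normalizes (p : ↥(Cfsg.SU n F q)) (hp : p ∈ PP n u) (x : ↥(Cfsg.SU n F q))
    (hx : x ∈ XX hF n u hu) : p * x * p⁻¹ ∈ XX hF n u hu := by
  have hf := herm_unitary hF n
  obtain ⟨z, hz, hxz⟩ := hx
  have h1 : (phi n p : Matrix (Fin n) (Fin n) F) *ᵥ u ∈ Submodule.span F {u} :=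
    ((mem_stab_iff _ _).1 hp u).1 (Submodule.mem_span_singleton_self u)
  rw [Submodule.mem_span_singleton] at h1
  obtain ⟨a, ha⟩ := h1
  have hgw : hermForm n F q ((phi n p : Matrix (Fin n) (Fin n) F) *ᵥ u)
      ((phi n p : Matrix (Fin n) (Fin n) F) *ᵥ u) = 0 := by
    rw [SUf_iso _ (phi_mem n p), hu]
  have hau : hermForm n F q (a • u) (a • u) = 0 := by rw [ha]; exact hgw
  show phi n (p * x * p⁻¹) ∈ rootGL hf u hu
  rw [map_mul, map_mul, map_inv, hxz, conj_ut hf _ (phi_mem n p) u hu hgw z]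
  refine ⟨z * (a * (frobEquiv hF) a), ?_, ?_⟩
  · rw [map_mul, map_mul, hf.involutive]
    linear_combination (a * (frobEquiv hF) a) * hz
  · rw [← ut_smul hf a u hu hau]
    apply GL_ext
    intro y
    rw [ut_mulVec, ut_mulVec, ha]

include hF hn h32 hu in
lemma PP_max (M : Subgroup ↥(Cfsg.SU n F q)) (hPM : PP n u ≤ M) : M = PP n u ∨ M = ⊤ := by
  have hf := herm_unitary hF n
  by_cases h : M ≤ PP n u
  · exact Or.inl (le_antisymm h hPM)
  right
  rw [SetLike.not_le_iff_exists] at h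
  obtain ⟨B, hBM, hBP⟩ := h
  apply eq_top_of_map
  have hPM' : Cfsg.Geo.subspaceStabilizer (Submodule.span F {u}) ⊓ SUf (hermForm n F q) ≤
      M.map (phi n) := by
    rintro g ⟨hg1, hg2⟩
    obtain ⟨B', hB'⟩ := exists_lift n g hg2
    have : B' ∈ PP n u := by
      show phi n B' ∈ Cfsg.Geo.subspaceStabilizer (Submodule.span F {u})
      rw [hB']; exact hg1
    exact ⟨B', hPM this, hB'⟩
  have hM'S : M.map (phi n) ≤ SUf (hermForm n F q) := by
    rintro _ ⟨B', -, rfl⟩
    exact phi_mem n B'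
  obtain ⟨h', hh', w₀, hw₀, hy⟩ := Cfsg.Agent.S5653.exists_move (Submodule.span F {u})
    (M.map (phi n)) (phi n B) ⟨B, hBM, rfl⟩ hBP
  exact (SU_le_TT hF n hn h32).trans (TT_le_of_SSu hf _
    (Cfsg.Agent.S5653.SSu_univ hf _ (span_ts hf u hu) _ hPM' hM'S h' hh' w₀ hw₀ hy))

include hn h32 hu0 in
lemma XX_closure (K : Subgroup ↥(Cfsg.SU n F q)) (hK : K.Normal) (hXK : XX hF n u hu ≤ K) :
    K = ⊤ := by
  have hf := herm_unitary hF n
  apply eq_top_of_map
  refine (SU_le_TT hF n hn h32).trans ?_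
  rw [TT, Subgroup.closure_le]
  rintro g ⟨w, hw, z, hz, rfl⟩
  by_cases hw0 : w = 0
  · subst hw0
    have : ut hf (0 : Fin n → F) hw z = 1 := by
      apply GL_ext
      intro x
      rw [ut_mulVec, smul_zero, add_zero, one_mulVec']
    rw [this]; exact (K.map (phi n)).one_mem
  obtain ⟨t, ht, etu⟩ := trans_iso hf hn u w hu0 hw0 hu hw
  obtain ⟨A, hA⟩ := exists_lift n t (TT_le_SUf hf ht)
  obtain ⟨x, hx⟩ := exists_lift n _ (ut_mem_SUf hf u hu z hz)
  have hxX : x ∈ XX hF n u hu := ⟨z, hz, hx⟩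
  refine ⟨A * x * A⁻¹, hK.conj_mem x (hXK hxX) A, ?_⟩
  have hgw : hermForm n F q ((t : Matrix (Fin n) (Fin n) F) *ᵥ u)
      ((t : Matrix (Fin n) (Fin n) F) *ᵥ u) = 0 := by rw [etu]; exact hw
  rw [map_mul, map_mul, map_inv, hA, hx, conj_ut hf t (TT_le_SUf hf ht) u hu hgw z]
  apply GL_ext
  intro y
  rw [ut_mulVec, ut_mulVec, etu]

include hF hn hu0 hu in
lemma core_le_center (N : Subgroup ↥(Cfsg.SU n F q)) (hN : N.Normal) (hNP : N ≤ PP n u)
    (h32 : ¬ (n = 3 ∧ q = 2)) : N ≤ Subgroup.center ↥(Cfsg.SU n F q) := by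
  have hf := herm_unitary hF n
  intro B hB
  have hfix : ∀ w : Fin n → F, hermForm n F q w w = 0 →
      ∃ a : F, (phi n B : Matrix (Fin n) (Fin n) F) *ᵥ w = a • w := by
    intro w hw
    by_cases hw0 : w = 0
    · exact ⟨0, by rw [hw0, Matrix.mulVec_zero, smul_zero]⟩
    obtain ⟨t, ht, etw⟩ := trans_iso hf hn w u hw0 hu0 hw hu
    obtain ⟨A, hA⟩ := exists_lift n t (TT_le_SUf hf ht)
    have h1 : A * B * A⁻¹ ∈ PP n u := hNP (hN.conj_mem B hB A)
    have h2 : (phi n (A * B * A⁻¹) : Matrix (Fin n) (Fin n) F) *ᵥ u ∈ Submodule.span F {u} :=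
      ((mem_stab_iff _ _).1 h1 u).1 (Submodule.mem_span_singleton_self u)
    rw [Submodule.mem_span_singleton] at h2
    obtain ⟨a, ha⟩ := h2
    refine ⟨a, ?_⟩
    rw [map_mul, map_mul, map_inv, hA, mul_mulVec, mul_mulVec, inv_mulVec_eq t w u etw] at ha
    have := congrArg (fun y => ((t⁻¹ : GL (Fin n) F) : Matrix (Fin n) (Fin n) F) *ᵥ y) ha
    simp only [inv_mulVec_mulVec, Matrix.mulVec_smul, inv_mulVec_eq t w u etw] at this
    exact this.symm
  rw [Subgroup.mem_center_iff]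
  intro C
  apply phi_injective n
  rw [map_mul, map_mul]
  have hcen : TT hf ≤ Subgroup.centralizer ({phi n B} : Set (GL (Fin n) F)) := by
    rw [TT, Subgroup.closure_le]
    rintro g ⟨w, hw, z, hz, rfl⟩
    rw [SetLike.mem_coe, Subgroup.mem_centralizer_iff]
    intro h hh
    rw [Set.mem_singleton_iff] at hh
    subst hh
    exact comm_ut_of_fix hf _ (phi_mem n B) hfix w hw z
  have h3 := hcen (SU_le_TT hF n hn h32 (phi_mem n C))
  rw [Subgroup.mem_centralizer_iff] at h3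
  exact (h3 _ (Set.mem_singleton _)).symm

end Concrete

end Part1

section Part2

open Matrix Cfsg.Agent.S5631 Cfsg.Agent.S5643 Cfsg.Agent.Lib.Helper8.Unitary
  Cfsg.Agent.Lib.Helper8.SUGen Cfsg.Agent.Lib.Helper8.SUMax Cfsg.Agent.Lib.Helper5.Herm
  Cfsg.Agent.S0781

/-- PSU_n(q) is simple for n at least 3 and (n, q) other than (3, 2). -/
theorem result {F : Type*} [Field F] [Fintype F] {q : ℕ} (hF : Fintype.card F = q ^ 2) (n : ℕ) (hn : 3 ≤ n) (h : ¬ (n = 3 ∧ q = 2)) : IsSimpleGroup (Cfsg.PSU n F q) := by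
  have hf := herm_unitary hF n
  have hq := one_lt_q hF
  obtain ⟨u, hu0, hu⟩ := exists_iso hf (by omega : 2 ≤ n)
  have hperf : commutator ↥(Cfsg.SU n F q) = ⊤ := by
    rw [eq_top_iff, ← Cfsg.Agent.S0780.result hF n hn h, Subgroup.closure_le]
    rintro A ⟨v, c, hv0, hA⟩
    rw [commutator_eq_closure]
    apply Subgroup.subset_closure
    apply Cfsg.Agent.S0781.result hF n _ A v c hv0 hA
    by_cases h4 : 4 ≤ n
    · exact Or.inl h4
    · right
      have hn3 : n = 3 := by omega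
      refine ⟨hn3, ?_⟩
      by_contra hq3
      exact h ⟨hn3, by omega⟩
  have key : ∀ N : Subgroup ↥(Cfsg.SU n F q), N.Normal →
      N ≤ Subgroup.center _ ∨ N = ⊤ := by
    intro N hN
    rcases normal_le_or_top (PP n u) (XX hF n u hu) (XX_comm hF n u hu)
      (PP_normalizes hF n u hu) (PP_max hF n hn h u hu)
      (XX_closure hF n hn h u hu0 hu) hperf N hN with h1 | h1
    · exact Or.inl (core_le_center hF n hn u hu0 hu N hN h1 h)
    · exact Or.inr h1
  have hnontriv : Nontrivial (Cfsg.PSU n F q) := by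
    by_contra hcon
    rw [not_nontrivial_iff_subsingleton, QuotientGroup.subsingleton_iff] at hcon
    have hbot : commutator ↥(Cfsg.SU n F q) = ⊥ := by
      rw [commutator_eq_closure, Subgroup.closure_eq_bot_iff]
      rintro _ ⟨a, b, rfl⟩
      have hb : b ∈ Subgroup.center ↥(Cfsg.SU n F q) := by rw [hcon]; trivial
      rw [Subgroup.mem_center_iff] at hb
      rw [Set.mem_singleton_iff, commutatorElement_def, hb a, mul_inv_cancel_right,
        mul_inv_cancel]
    rw [hperf] at hbot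
    obtain ⟨ζ, hζ0, hζ⟩ := exists_Z hf.ne_refl hf.involutive
    obtain ⟨x, hx⟩ := exists_lift n _ (ut_mem_SUf hf u hu ζ hζ)
    have hx1 : x ∈ (⊥ : Subgroup ↥(Cfsg.SU n F q)) := by rw [← hbot]; trivial
    rw [Subgroup.mem_bot] at hx1
    rw [hx1, map_one] at hx
    obtain ⟨v, hp⟩ := exists_HP_of_iso hf u hu0 hu
    have h2 := congrArg (fun g : GL (Fin n) F => (g : Matrix (Fin n) (Fin n) F) *ᵥ v) hx
    simp only [one_mulVec', ut_mulVec, HP.vu hf hp, mul_one] at h2
    have h3 : (frobEquiv hF) ζ • u = 0 := by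
      have : v = v + (frobEquiv hF) ζ • u := h2
      exact (add_eq_left.1 this.symm)
    rw [smul_eq_zero] at h3
    rcases h3 with h3 | h3
    · rw [map_eq_zero] at h3; exact hζ0 h3
    · exact hu0 h3
  refine { exists_pair_ne := hnontriv.exists_pair_ne, eq_bot_or_eq_top_of_normal := ?_ }
  intro H hH
  have hNn : (H.comap (QuotientGroup.mk' (Subgroup.center ↥(Cfsg.SU n F q)))).Normal :=
    hH.comap _
  rcases key _ hNn with h1 | h1
  · left
    rw [Subgroup.eq_bot_iff_forall]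
    intro x hx
    obtain ⟨g, rfl⟩ := QuotientGroup.mk_surjective x
    have hg : g ∈ H.comap (QuotientGroup.mk' (Subgroup.center ↥(Cfsg.SU n F q))) := hx
    exact (QuotientGroup.eq_one_iff g).mpr (h1 hg)
  · right
    rw [eq_top_iff]
    intro x _
    obtain ⟨g, rfl⟩ := QuotientGroup.mk_surjective x
    have hg : g ∈ H.comap (QuotientGroup.mk' (Subgroup.center ↥(Cfsg.SU n F q))) := by
      rw [h1]; trivial
    exact hg

end Part2

end Cfsg.Agent.S0283
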