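import Cfsg.Statements.S0995
import Mathlib
import Cfsg.Agent.Lib.Helper4.Sylow
import Cfsg.Agent.Lib.Helper4.SylowPrime

set_option autoImplicit false
open Cfsg

namespace Cfsg.Agent.S0995

open Cfsg.Agent.Lib.Helper4.Sylow Cfsg.Agent.Lib.Helper4.SylowPrime

/-- A subgroup of prime order is generated by any of its non-identity elements. -/
theorem eq_zpowers_of_card_prime {G : Type*} [Group G] {p : ℕ} [hp : Fact p.Prime] (H : Subgroup G)
    (hH : Nat.card H = p) (c : G) (hc : c ∈ H) (hc1 : c ≠ 1) : H = Subgroup.zpowers c := by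
  have hfin : Finite H := Nat.finite_of_card_ne_zero (by rw [hH]; exact hp.out.ne_zero)
  symm
  have hle : Subgroup.zpowers c ≤ H := by
    rw [Subgroup.zpowers_le]; exact hc
  apply Subgroup.eq_of_le_of_card_ge hle
  have h1 : Nat.card (Subgroup.zpowers c) ∣ p := hH ▸ Subgroup.card_dvd_of_le hle
  rcases (Nat.dvd_prime hp.out).mp h1 with h | h
  · exfalso
    rw [Nat.card_zpowers, orderOf_eq_one_iff] at h
    exact hc1 h
  · rw [h, hH]

/-- commuting with a generator of a cyclic subgroup means commuting with every element -/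
theorem commute_of_mem_zpowers {G : Type*} [Group G] (x c w : G) (h : Commute x c)
    (hw : w ∈ Subgroup.zpowers c) : Commute x w := by
  obtain ⟨k, rfl⟩ := Subgroup.mem_zpowers_iff.mp hw
  exact h.zpow_right k

/-- Part A: the cyclic group generated by a self-centralizing element of order `p` is Sylow. -/
theorem exists_sylow_eq_zpowers {G : Type*} [Group G] [Finite G] (p : ℕ) [hp : Fact p.Prime] (z : G)
    (hz : orderOf z = p) (hC : Subgroup.centralizer ({z} : Set G) = Subgroup.zpowers z) :
    ∃ P : Sylow p G, (P : Subgroup G) = Subgroup.zpowers z := by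
  have hz1 : z ≠ 1 := by
    rintro rfl
    rw [orderOf_one] at hz
    exact hp.out.one_lt.ne hz
  have hZcard : Nat.card (Subgroup.zpowers z) = p := by rw [Nat.card_zpowers, hz]
  have hpg : IsPGroup p (Subgroup.zpowers z) := IsPGroup.of_card (n := 1) (by rw [hZcard, pow_one])
  obtain ⟨S, hS⟩ := hpg.exists_le_sylow
  refine ⟨S, le_antisymm ?_ hS⟩
  have hzS : z ∈ (S : Subgroup G) := hS (Subgroup.mem_zpowers z)
  have hnt : Nontrivial (S : Subgroup G) := ⟨⟨⟨z, hzS⟩, 1, fun h => hz1 (congrArg Subtype.val h)⟩⟩
  have hcen := S.2.center_nontrivial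
  obtain ⟨⟨c, hc⟩, hc1'⟩ := exists_ne (1 : Subgroup.center (S : Subgroup G))
  have hc1 : (c : G) ≠ 1 := by
    intro h
    apply hc1'
    apply Subtype.ext
    apply Subtype.ext
    exact h
  have hcz : (c : G) ∈ Subgroup.zpowers z := by
    rw [← hC, Subgroup.mem_centralizer_singleton_iff]
    have := (Subgroup.mem_center_iff.mp hc) ⟨z, hzS⟩
    exact (congrArg Subtype.val this).symm
  have hZc : Subgroup.zpowers z = Subgroup.zpowers (c : G) :=
    eq_zpowers_of_card_prime _ hZcard _ hcz hc1
  intro s hs
  rw [← hC, Subgroup.mem_centralizer_singleton_iff]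
  have h1 : Commute s (c : G) := by
    have := (Subgroup.mem_center_iff.mp hc) ⟨s, hs⟩
    exact congrArg Subtype.val this
  have h2 : z ∈ Subgroup.zpowers (c : G) := by rw [← hZc]; exact Subgroup.mem_zpowers z
  exact (commute_of_mem_zpowers s c z h1 h2).eq


/-- centralizers of conjugate elements have the same order -/
theorem card_centralizer_conj {G : Type*} [Group G] (g z : G) :
    Nat.card (Subgroup.centralizer ({g * z * g⁻¹} : Set G)) =
      Nat.card (Subgroup.centralizer ({z} : Set G)) := by
  have h : Subgroup.centralizer ({g * z * g⁻¹} : Set G) =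
      (Subgroup.centralizer ({z} : Set G)).map (MulAut.conj g).toMonoidHom := by
    ext x
    rw [Subgroup.mem_map_equiv, Subgroup.mem_centralizer_singleton_iff,
      Subgroup.mem_centralizer_singleton_iff]
    simp only [MulAut.conj_symm_apply]
    constructor
    · intro h
      have : g⁻¹ * (x * (g * z * g⁻¹)) * g = g⁻¹ * (g * z * g⁻¹ * x) * g := by rw [h]
      calc g⁻¹ * x * g * z = g⁻¹ * (x * (g * z * g⁻¹)) * g := by group
        _ = g⁻¹ * (g * z * g⁻¹ * x) * g := this
        _ = z * (g⁻¹ * x * g) := by group
    · intro h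
      calc x * (g * z * g⁻¹) = g * (g⁻¹ * x * g * z) * g⁻¹ := by group
        _ = g * (z * (g⁻¹ * x * g)) * g⁻¹ := by rw [h]
        _ = g * z * g⁻¹ * x := by group
  rw [h]
  exact Subgroup.card_map_of_injective (MulAut.conj g).injective

/-- Part B: every element of order `p` has a centralizer of order `p`. -/
theorem card_centralizer_of_orderOf_eq {G : Type*} [Group G] [Finite G] (p : ℕ) [hp : Fact p.Prime]
    (z : G) (hz : orderOf z = p) (hC : Subgroup.centralizer ({z} : Set G) = Subgroup.zpowers z)
    (P : Sylow p G) (hP : (P : Subgroup G) = Subgroup.zpowers z)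
    (u : G) (hu : orderOf u = p) : Nat.card (Subgroup.centralizer ({u} : Set G)) = p := by
  have hz1 : z ≠ 1 := by
    rintro rfl
    rw [orderOf_one] at hz
    exact hp.out.one_lt.ne hz
  have hu1 : u ≠ 1 := by
    rintro rfl
    rw [orderOf_one] at hu
    exact hp.out.one_lt.ne hu
  have hPcard : Nat.card (P : Subgroup G) = p := by rw [hP, Nat.card_zpowers, hz]
  have hpg : IsPGroup p (Subgroup.zpowers u) :=
    IsPGroup.of_card (n := 1) (by rw [Nat.card_zpowers, hu, pow_one])
  obtain ⟨Q, hQ⟩ := hpg.exists_le_sylow
  obtain ⟨g, rfl⟩ := MulAction.exists_smul_eq G P Q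
  have hQcard : Nat.card ((g • P : Sylow p G) : Subgroup G) = p :=
    ((g • P).card_eq_multiplicity).trans (P.card_eq_multiplicity.symm.trans hPcard)
  have huQ : u ∈ ((g • P : Sylow p G) : Subgroup G) := hQ (Subgroup.mem_zpowers u)
  set w := g * z * g⁻¹ with hw
  have hwQ : w ∈ ((g • P : Sylow p G) : Subgroup G) := by
    refine (mem_smul_sylow_iff P g w).mpr ?_
    have : g⁻¹ * w * g = z := by rw [hw]; group
    rw [this]
    show z ∈ (P : Subgroup G)
    rw [hP]; exact Subgroup.mem_zpowers z
  have hw1 : w ≠ 1 := by
    intro h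
    apply hz1
    have : z = g⁻¹ * w * g := by rw [hw]; group
    rw [this, h]; group
  have h1 := eq_zpowers_of_card_prime _ hQcard u huQ hu1
  have h2 := eq_zpowers_of_card_prime _ hQcard w hwQ hw1
  have h3 : Subgroup.centralizer ({u} : Set G) = Subgroup.centralizer ({w} : Set G) := by
    ext x
    rw [Subgroup.mem_centralizer_singleton_iff, Subgroup.mem_centralizer_singleton_iff]
    constructor
    · intro h
      have hwu : w ∈ Subgroup.zpowers u := by rw [← h1]; exact hwQ
      exact (commute_of_mem_zpowers x u w h hwu).eq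
    · intro h
      have huw : u ∈ Subgroup.zpowers w := by rw [← h2]; exact huQ
      exact (commute_of_mem_zpowers x w u h huw).eq
  rw [h3, hw, card_centralizer_conj, hC, Nat.card_zpowers, hz]


/-- Part C: counting elements of order `p` when Sylow `p`-subgroups have order `p`. -/
theorem card_orderOf_eq_prime {G : Type*} [Group G] [Finite G] (p : ℕ) [hp : Fact p.Prime]
    (hcard : ∀ Q : Sylow p G, Nat.card (Q : Subgroup G) = p) :
    Nat.card {g : G // orderOf g = p} = Nat.card (Sylow p G) * (p - 1) := by
  classical
  have hex : ∀ x : {g : G // orderOf g = p}, ∃ Q : Sylow p G, x.1 ∈ (Q : Subgroup G) := by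
    intro x
    have hpg : IsPGroup p (Subgroup.zpowers x.1) :=
      IsPGroup.of_card (n := 1) (by rw [Nat.card_zpowers, x.2, pow_one])
    obtain ⟨Q, hQ⟩ := hpg.exists_le_sylow
    exact ⟨Q, hQ (Subgroup.mem_zpowers x.1)⟩
  choose f hf using hex
  have hne1 : ∀ x : {g : G // orderOf g = p}, x.1 ≠ 1 := by
    intro x h
    have := x.2
    rw [h, orderOf_one] at this
    exact hp.out.one_lt.ne this
  have hfib : ∀ Q : Sylow p G, Nat.card {x : {g : G // orderOf g = p} // f x = Q} = p - 1 := by
    intro Q
    have e : {x : {g : G // orderOf g = p} // f x = Q} ≃ {u : (Q : Subgroup G) // u ≠ 1} :=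
      { toFun := fun x => ⟨⟨x.1.1, by have := hf x.1; rw [x.2] at this; exact this⟩,
          fun h => hne1 x.1 (congrArg Subtype.val h)⟩
        invFun := fun u =>
          have hu1 : (u.1 : G) ≠ 1 := fun h => u.2 (Subtype.ext h)
          have huo : orderOf (u.1 : G) = p := by
            have h1 : orderOf (u.1 : G) ∣ p := by
              have := Subgroup.orderOf_dvd_natCard (Q : Subgroup G) u.1.2
              rwa [hcard Q] at this
            rcases (Nat.dvd_prime hp.out).mp h1 with h | h
            · exact absurd (orderOf_eq_one_iff.mp h) hu1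
            · exact h
          ⟨⟨u.1, huo⟩, sylow_eq_of_mem _ _ (hcard _) (u.1 : G) hu1 (hf ⟨u.1, huo⟩) u.1.2⟩
        left_inv := fun x => by
          apply Subtype.ext
          apply Subtype.ext
          rfl
        right_inv := fun u => by
          apply Subtype.ext
          apply Subtype.ext
          rfl }
    rw [Nat.card_congr e]
    have h3 : Nat.card {u : (Q : Subgroup G) // u ≠ 1} = ({(1 : (Q : Subgroup G))}ᶜ : Set _).ncard := by
      rw [← Nat.card_coe_set_eq]; rfl
    rw [h3, Set.ncard_compl, Set.ncard_singleton, hcard Q]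
  have hfinS : Fintype (Sylow p G) := Fintype.ofFinite _
  rw [← Nat.card_congr (Equiv.sigmaFiberEquiv f), Nat.card_sigma]
  simp only [hfib, Finset.sum_const, Finset.card_univ, smul_eq_mul, Nat.card_eq_fintype_card]


/-- class size times centralizer order -/
theorem card_isConj_mul_card_centralizer {G : Type*} [Group G] [Finite G] (g : G) :
    Nat.card {y : G // IsConj y g} * Nat.card (Subgroup.centralizer ({g} : Set G)) = Nat.card G := by
  have h1 : Nat.card {y : G // IsConj y g} = (MulAction.orbit (ConjAct G) g).ncard := by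
    rw [← Nat.card_coe_set_eq]
    apply Nat.card_congr
    exact Equiv.subtypeEquivRight (fun y => ConjAct.mem_orbit_conjAct.symm)
  rw [h1, ← MulAction.index_stabilizer, Subgroup.nat_card_centralizer_nat_card_stabilizer, mul_comm]
  exact Subgroup.card_mul_index _

/-- Part D: counting elements of order `p` through their conjugacy classes. -/
theorem card_orderOf_eq_mul {G : Type*} [Group G] [Finite G] (p : ℕ)
    (hcen : ∀ u : G, orderOf u = p → Nat.card (Subgroup.centralizer ({u} : Set G)) = p) :
    Nat.card {g : G // orderOf g = p} * p =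
      Nat.card {c : ConjClasses G // ∃ g : G, ConjClasses.mk g = c ∧ orderOf g = p} * Nat.card G := by
  classical
  let f : {g : G // orderOf g = p} → {c : ConjClasses G // ∃ g : G, ConjClasses.mk g = c ∧ orderOf g = p} :=
    fun x => ⟨ConjClasses.mk x.1, x.1, rfl, x.2⟩
  have hfib : ∀ c : {c : ConjClasses G // ∃ g : G, ConjClasses.mk g = c ∧ orderOf g = p},
      Nat.card {x : {g : G // orderOf g = p} // f x = c} * p = Nat.card G := by
    rintro ⟨c, g, rfl, hg⟩
    have e : {x : {g : G // orderOf g = p} // f x = ⟨ConjClasses.mk g, g, rfl, hg⟩} ≃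
        {y : G // IsConj y g} :=
      { toFun := fun x => ⟨x.1.1, by
          have := congrArg Subtype.val x.2
          exact ConjClasses.mk_eq_mk_iff_isConj.mp this⟩
        invFun := fun y => ⟨⟨y.1, by
          obtain ⟨c, hc⟩ := isConj_iff.mp y.2
          have h1 : orderOf (c * y.1 * c⁻¹) = orderOf y.1 :=
            orderOf_injective (MulAut.conj c).toMonoidHom (MulAut.conj c).injective y.1
          rw [← h1, hc, hg]⟩,
          Subtype.ext (ConjClasses.mk_eq_mk_iff_isConj.mpr y.2)⟩
        left_inv := fun x => by
          apply Subtype.ext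
          apply Subtype.ext
          rfl
        right_inv := fun y => by
          apply Subtype.ext
          rfl }
    rw [Nat.card_congr e, ← hcen g hg]
    exact card_isConj_mul_card_centralizer g
  have hfinS : Fintype {c : ConjClasses G // ∃ g : G, ConjClasses.mk g = c ∧ orderOf g = p} :=
    Fintype.ofFinite _
  rw [← Nat.card_congr (Equiv.sigmaFiberEquiv f), Nat.card_sigma, Finset.sum_mul]
  simp only [hfib, Finset.sum_const, Finset.card_univ, smul_eq_mul, Nat.card_eq_fintype_card]



/-- Let G be a finite perfect group containing an element z of prime order p whose centralizer is the cyclic group it generates. Let t be the number of conjugacy classes of elements of order p. Then t divides p - 1, the number of Sylow p-subgroups has the form 1 + n * p, and |G| * t = (p - 1) * p * (1 + n * p). -/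
theorem result {G : Type*} [Group G] [Finite G] (hperf : commutator G = ⊤) (p : ℕ) [Fact p.Prime] (z : G) (hz : orderOf z = p) (hC : Subgroup.centralizer ({z} : Set G) = Subgroup.zpowers z) : ∃ n t : ℕ, t = Nat.card {c : ConjClasses G // ∃ g : G, ConjClasses.mk g = c ∧ orderOf g = p} ∧ t ∣ p - 1 ∧ Nat.card (Sylow p G) = 1 + n * p ∧ Nat.card G * t = (p - 1) * p * (1 + n * p) := by
  have hp : p.Prime := Fact.out
  obtain ⟨P, hP⟩ := exists_sylow_eq_zpowers p z hz hC
  have hPcard : Nat.card (P : Subgroup G) = p := by rw [hP, Nat.card_zpowers, hz]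
  have hcard : ∀ Q : Sylow p G, Nat.card (Q : Subgroup G) = p := fun Q =>
    (Q.card_eq_multiplicity).trans (P.card_eq_multiplicity.symm.trans hPcard)
  have hcen := card_centralizer_of_orderOf_eq p z hz hC P hP
  have hCcount := card_orderOf_eq_prime (G := G) p hcard
  have hDcount := card_orderOf_eq_mul (G := G) p hcen
  set t := Nat.card {c : ConjClasses G // ∃ g : G, ConjClasses.mk g = c ∧ orderOf g = p} with ht
  set np := Nat.card (Sylow p G) with hnp
  have hmod : np % p = 1 := by
    have := card_sylow_modEq_one p G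
    unfold Nat.ModEq at this
    rw [this, Nat.mod_eq_of_lt hp.one_lt]
  have hnp' : np = 1 + (np / p) * p := by
    have := Nat.div_add_mod np p
    rw [hmod] at this
    rw [mul_comm] at this
    omega
  have hkey : t * Nat.card G = np * (p - 1) * p := by
    rw [← hDcount, hCcount]
  have hN := card_sylow_mul_card_normalizer P
  have hpN : p ∣ Nat.card (Subgroup.normalizer ((P : Subgroup G) : Set G)) := by
    have := Subgroup.card_dvd_of_le (Subgroup.le_normalizer (H := (P : Subgroup G)))
    rwa [hPcard] at this
  obtain ⟨e, he⟩ := hpN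
  refine ⟨np / p, t, rfl, ?_, hnp', ?_⟩
  · -- `t ∣ p - 1`
    refine ⟨e, ?_⟩
    have h1 : t * (np * (p * e)) = np * (p - 1) * p := by
      rw [← he, hN]; exact hkey
    have hnppos : 0 < np * p := Nat.mul_pos Nat.card_pos hp.pos
    have h2 : (np * p) * (t * e) = (np * p) * (p - 1) := by
      calc (np * p) * (t * e) = t * (np * (p * e)) := by ring
        _ = np * (p - 1) * p := h1
        _ = (np * p) * (p - 1) := by ring
    exact (Nat.eq_of_mul_eq_mul_left hnppos h2).symm
  · rw [← hnp']
    calc Nat.card G * t = t * Nat.card G := mul_comm _ _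
      _ = np * (p - 1) * p := hkey
      _ = (p - 1) * p * np := by ring

end Cfsg.Agent.S0995
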