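import Cfsg.Statements.S1225
import Mathlib
import Cfsg.Agent.Lib.Lead.StrEmb2

set_option autoImplicit false
open Cfsg

namespace Cfsg.Agent.S1225

open Cfsg.Agent.Lib.Lead

theorem conj_in_H {G : Type*} [Group G] [Finite G] (H : Subgroup G) (hH : Cfsg.IsStronglyEmbedded H)
    (u : G) (hu : orderOf u = 2) (huH : u ∉ H) (s t : G) (hs : orderOf s = 2) (hsH : s ∈ H)
    (ht : orderOf t = 2) (htH : t ∈ H) :
    ∃ d ∈ (H ⊓ H.map (MulAut.conj u).toMonoidHom), d * s * d⁻¹ = t := by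
  have huu : u * u = 1 := StrEmb2.invol_mul_self hu
  have huinv : u⁻¹ = u := inv_eq_of_mul_eq_one_right huu
  have hsx : s • ((1 : G) : G ⧸ H) = ((1 : G) : G ⧸ H) := (StrEmb2.smul_one_eq_iff s).mpr hsH
  have htx : t • ((1 : G) : G ⧸ H) = ((1 : G) : G ⧸ H) := (StrEmb2.smul_one_eq_iff t).mpr htH
  have hxy : ((1 : G) : G ⧸ H) ≠ u • ((1 : G) : G ⧸ H) := by
    intro h
    exact huH ((StrEmb2.smul_one_eq_iff u).mp h.symm)
  have hs'o : orderOf (u * s * u⁻¹) = 2 := by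
    have := StrEmb2.orderOf_conj_inv u⁻¹ s
    rw [inv_inv] at this
    rw [this]; exact hs
  have hs'y : (u * s * u⁻¹) • (u • ((1 : G) : G ⧸ H)) = u • ((1 : G) : G ⧸ H) := by
    rw [← mul_smul]
    have : u * s * u⁻¹ * u = u * s := by group
    rw [this, mul_smul, hsx]
  obtain ⟨w, hw, hwx, hwt⟩ := StrEmb2.exists_swap hH ht hs'o htx hs'y hxy
  have hww : w * w = 1 := StrEmb2.invol_mul_self hw
  have hwinv : w⁻¹ = w := inv_eq_of_mul_eq_one_right hww
  have hwy : w • (u • ((1 : G) : G ⧸ H)) = ((1 : G) : G ⧸ H) := by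
    rw [← hwx, ← mul_smul, hww, one_smul]
  refine ⟨w⁻¹ * u, Subgroup.mem_inf.mpr ⟨?_, ?_⟩, ?_⟩
  · rw [← StrEmb2.smul_one_eq_iff (H := H), mul_smul, hwinv, hwy]
  · refine ⟨u⁻¹ * (w⁻¹ * u) * u, ?_, ?_⟩
    · apply SetLike.mem_coe.mpr
      rw [← StrEmb2.smul_one_eq_iff (H := H), mul_smul, mul_smul, mul_smul, hwinv,
        ← mul_smul u u, huu, one_smul, hwx, ← mul_smul, inv_mul_cancel, one_smul]
    · simp only [MulEquiv.coe_toMonoidHom, MulAut.conj_apply]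
      group
  · calc w⁻¹ * u * s * (w⁻¹ * u)⁻¹ = w⁻¹ * (u * s * u⁻¹) * w := by group
      _ = w⁻¹ * (w * t * w⁻¹) * w := by rw [hwt]
      _ = t := by group

/-- Let H be a strongly embedded subgroup of the finite group G, u an involution outside H and D = H ∩ uHu⁻¹. Then any two involutions of H are conjugate by an element of D, and any two involutions of G are conjugate in G. -/
theorem result {G : Type*} [Group G] [Finite G] (H : Subgroup G) (hH : Cfsg.IsStronglyEmbedded H) (u : G) (hu : orderOf u = 2) (huH : u ∉ H) (s t : G) (hs : orderOf s = 2) (hsH : s ∈ H) (ht : orderOf t = 2) (htH : t ∈ H) : (∃ d ∈ (H ⊓ H.map (MulAut.conj u).toMonoidHom), d * s * d⁻¹ = t) ∧ ∀ a b : G, orderOf a = 2 → orderOf b = 2 → IsConj a b := by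
  refine ⟨conj_in_H H hH u hu huH s t hs hsH ht htH, ?_⟩
  -- every involution is conjugate into `H`
  have hinto : ∀ a : G, orderOf a = 2 → ∃ g : G, g⁻¹ * a * g ∈ H := by
    intro a ha
    obtain ⟨x, hx⟩ := StrEmb2.exists_fix hH a ha
    induction x using QuotientGroup.induction_on with | _ g =>
    exact ⟨g, (StrEmb2.smul_mk_eq_iff a g).mp hx⟩
  intro a b ha hb
  obtain ⟨g, hg⟩ := hinto a ha
  obtain ⟨k, hk⟩ := hinto b hb
  obtain ⟨d, -, hd⟩ := conj_in_H H hH u hu huH (g⁻¹ * a * g) (k⁻¹ * b * k)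
    ((StrEmb2.orderOf_conj_inv g a).trans ha) hg ((StrEmb2.orderOf_conj_inv k b).trans hb) hk
  rw [isConj_iff]
  refine ⟨k * d * g⁻¹, ?_⟩
  calc k * d * g⁻¹ * a * (k * d * g⁻¹)⁻¹ = k * (d * (g⁻¹ * a * g) * d⁻¹) * k⁻¹ := by group
    _ = k * (k⁻¹ * b * k) * k⁻¹ := by rw [hd]
    _ = b := by group

end Cfsg.Agent.S1225
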