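import Cfsg.Statements.S4742
import Mathlib
import Cfsg.Agent.Lib.Helper4.ClassProd

namespace Cfsg.Agent.S4742

open Cfsg Module Cfsg.Agent.Lib.helper3.IndFun Cfsg.Agent.Lib.helper3.CharBasic
open Cfsg.Agent.Lib.helper3.Irr Cfsg.Agent.Lib.helper3.Central Cfsg.Agent.Lib.Helper4.CharExtra
open Cfsg.Agent.Lib.Helper4.InflateEquiv Cfsg.Agent.Lib.Helper4.Codegree
open Cfsg.Agent.Lib.Helper4.ClassProd

/-- if `|P| = p ^ e` divides `p ^ (e - 1) * n' * C` with `p ∤ n'` then `p ∣ C` -/
lemma prime_dvd_of_pow_dvd {p e n' C : ℕ} (hp : p.Prime) (he : 1 ≤ e) (hn' : ¬ p ∣ n')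
    (hC : C ≠ 0) (h : p ^ e ∣ p ^ (e - 1) * n' * C) : p ∣ C := by
  have hn'0 : n' ≠ 0 := fun h0 => hn' (h0 ▸ dvd_zero p)
  have h1 : p ^ (e - 1) * p ∣ p ^ (e - 1) * (n' * C) := by
    rw [← pow_succ, show e - 1 + 1 = e by omega, ← mul_assoc]
    exact h
  have h2 : p ∣ n' * C := Nat.dvd_of_mul_dvd_mul_left (pow_pos hp.pos _) h1
  exact (hp.dvd_mul.mp h2).resolve_left hn'

/-- Let p ≠ q be primes dividing the order of the finite group G, and suppose the centralizer of every non-identity p-element of G has order prime to q. Then either G has an irreducible character of p-defect zero, or for every non-identity q-element z of G there are conjugates g, h of z such that g h⁻¹ is a non-identity p-element. -/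
theorem result {G : Type*} [Group G] [Finite G] (p q : ℕ) [Fact p.Prime] [Fact q.Prime] (hppq : p ≠ q) (hpG : p ∣ Nat.card G) (hqG : q ∣ Nat.card G) (hC : ∀ g : G, g ≠ 1 → (∃ k : ℕ, orderOf g = p ^ k) → ¬ q ∣ Nat.card ↥(Subgroup.centralizer ({g} : Set G))) : (∃ χ : Cfsg.IrrCharacter G, (Cfsg.charDegree (χ : G → ℂ)).factorization p = (Nat.card G).factorization p) ∨ ∀ z : G, z ≠ 1 → (∃ k : ℕ, orderOf z = q ^ k) → ∃ g h : G, IsConj z g ∧ IsConj z h ∧ g * h⁻¹ ≠ 1 ∧ ∃ k : ℕ, orderOf (g * h⁻¹) = p ^ k := by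
  classical
  have hp : p.Prime := Fact.out
  have hq : q.Prime := Fact.out
  haveI : Fintype G := Fintype.ofFinite G
  by_cases hdz : ∃ χ : Cfsg.IrrCharacter G,
      (Cfsg.charDegree (χ : G → ℂ)).factorization p = (Nat.card G).factorization p
  · exact Or.inl hdz
  right
  push Not at hdz
  intro z hz1 hzq
  obtain ⟨kq, hkq⟩ := hzq
  by_contra hno
  push Not at hno
  obtain ⟨P⟩ : Nonempty (Sylow p G) := inferInstance
  have hN0 : Nat.card G ≠ 0 := Nat.card_pos.ne'
  have he : 1 ≤ (Nat.card G).factorization p :=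
    (hp.dvd_iff_one_le_factorization hN0).mp hpG
  have h0 : ∀ u ∈ (P : Subgroup G), u ≠ 1 → mulCount z z⁻¹ u = 0 := by
    intro u hu hu1
    unfold mulCount
    have : IsEmpty {r : G × G // IsConj z r.1 ∧ IsConj z⁻¹ r.2 ∧ r.1 * r.2 = u} := by
      constructor
      rintro ⟨⟨g, h'⟩, hg, hh', hgh⟩
      simp only at hg hh' hgh
      have hh : IsConj z h'⁻¹ := by
        obtain ⟨c, hc⟩ := isConj_iff.mp hh'
        apply isConj_iff.mpr
        refine ⟨c, ?_⟩
        rw [← hc]; group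
      have hne : g * (h'⁻¹)⁻¹ ≠ 1 := by rw [inv_inv, hgh]; exact hu1
      obtain ⟨j, hj⟩ := P.2 ⟨u, hu⟩
      have hj' : u ^ p ^ j = 1 := by
        have := congrArg Subtype.val hj
        simpa using this
      obtain ⟨i, _, hi⟩ := (Nat.dvd_prime_pow hp).mp (orderOf_dvd_of_pow_eq_one hj')
      refine hno g h'⁻¹ hg hh hne i ?_
      rw [inv_inv, hgh]
      exact hi
    rw [Nat.card_of_isEmpty]
    simp
  have hdvd := card_dvd_of_mulCount_eq_zero z (P : Subgroup G) _
    (degree_dvd_of_no_defect_zero hp hpG hdz) h0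
  rw [show Nat.card (P : Subgroup G) = p ^ (Nat.card G).factorization p from
    P.card_eq_multiplicity] at hdvd
  have hpC : p ∣ Nat.card (Subgroup.centralizer ({z} : Set G)) :=
    prime_dvd_of_pow_dvd hp he (Nat.not_dvd_ordCompl hp hN0) Nat.card_pos.ne' hdvd
  obtain ⟨u', hu'⟩ := exists_prime_orderOf_dvd_card' p hpC
  have hu : orderOf (u' : G) = p := by rw [Subgroup.orderOf_coe]; exact hu'
  have hu1 : (u' : G) ≠ 1 := by
    intro h
    rw [h, orderOf_one] at hu
    exact hp.one_lt.ne hu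
  have hcomm : z * (u' : G) = (u' : G) * z := by
    have := u'.2
    rw [Subgroup.mem_centralizer_iff] at this
    exact this z (Set.mem_singleton z)
  have hzmem : z ∈ Subgroup.centralizer ({(u' : G)} : Set G) := by
    rw [Subgroup.mem_centralizer_iff]
    intro y hy
    rw [Set.mem_singleton_iff] at hy
    rw [hy]
    exact hcomm.symm
  apply hC (u' : G) hu1 ⟨1, by rw [hu, pow_one]⟩
  have hk1 : 1 ≤ kq := by
    by_contra h
    have : kq = 0 := by omega
    rw [this, pow_zero, orderOf_eq_one_iff] at hkq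
    exact hz1 hkq
  have h1 : q ∣ orderOf z := by
    rw [hkq]
    exact dvd_pow_self q (by omega)
  have h2 : orderOf (⟨z, hzmem⟩ : Subgroup.centralizer ({(u' : G)} : Set G)) = orderOf z :=
    Subgroup.orderOf_mk z hzmem
  exact h1.trans (h2 ▸ orderOf_dvd_natCard _)

end Cfsg.Agent.S4742
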