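import Cfsg.Statements.S4744
import Mathlib
import Cfsg.Agent.Lib.Helper4.ClassProd
import Cfsg.Agent.Lib.Helper4.InvAction
import Cfsg.Agent.Lib.Helper4.SylowPrime
import Cfsg.Agent.S4742

namespace Cfsg.Agent.S4744

open Cfsg Module Cfsg.Agent.Lib.helper3.IndFun Cfsg.Agent.Lib.helper3.CharBasic
open Cfsg.Agent.Lib.helper3.Irr Cfsg.Agent.Lib.helper3.Central Cfsg.Agent.Lib.Helper4.CharExtra
open Cfsg.Agent.Lib.Helper4.InflateEquiv Cfsg.Agent.Lib.Helper4.Codegree
open Cfsg.Agent.Lib.Helper4.ClassProd Cfsg.Agent.Lib.Helper4.InvAction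
open Cfsg.Agent.Lib.Helper7 Cfsg.Agent.Lib.Helper4.MinNormal

section

variable {G : Type*} [Group G] [Finite G]

/-- an involution in the centralizer makes the order even -/
lemma two_dvd_card_centralizer {s y : G} (hs : orderOf s = 2) (hcomm : s * y = y * s) :
    2 ∣ Nat.card (Subgroup.centralizer ({y} : Set G)) := by
  have hmem : s ∈ Subgroup.centralizer ({y} : Set G) := by
    rw [Subgroup.mem_centralizer_iff]
    intro z hz
    rw [Set.mem_singleton_iff] at hz
    rw [hz]; exact hcomm.symm
  have h1 : orderOf (⟨s, hmem⟩ : Subgroup.centralizer ({y} : Set G)) = 2 := by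
    rw [Subgroup.orderOf_mk]; exact hs
  exact h1 ▸ orderOf_dvd_natCard _

/-- Key step: an involution normalizing a subgroup `C` of odd order, under the hypothesis that
non-identity `p`-elements have centralizers of odd order: some Sylow `p`-subgroup `Q` of `C` is
inverted elementwise by an involution. -/
lemma exists_inverted_sylowIn (p : ℕ) [Fact p.Prime]
    (hC : ∀ g : G, g ≠ 1 → (∃ k : ℕ, orderOf g = p ^ k) →
      Odd (Nat.card ↥(Subgroup.centralizer ({g} : Set G))))
    (C : Subgroup G) (hCodd : Odd (Nat.card C)) (t : G) (ht : orderOf t = 2)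
    (htC : C.map (MulAut.conj t).toMonoidHom = C) :
    ∃ (Q : Subgroup G) (s : G), IsSylowIn p Q C ∧ orderOf s = 2 ∧
      (∀ y ∈ Q, s * y * s⁻¹ = y⁻¹) ∧ ∀ a ∈ Q, ∀ b ∈ Q, a * b = b * a := by
  have hp : p.Prime := Fact.out
  obtain ⟨Q, s, hQ, hs, hsQ⟩ := exists_involution_normalizing_sylow p C hCodd t ht htC
  have hss : s * s = 1 := by
    have := pow_orderOf_eq_one s
    rwa [hs, pow_two] at this
  have hnorm : ∀ y ∈ Q, s * y * s⁻¹ ∈ Q := by
    intro y hy
    rw [← hsQ]
    exact ⟨y, hy, rfl⟩
  have hfpf : ∀ y ∈ Q, s * y = y * s → y = 1 := by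
    intro y hy hcomm
    by_contra hy1
    have hyp : ∃ k : ℕ, orderOf y = p ^ k := by
      obtain ⟨j, hj⟩ := hQ.isPGroup ⟨y, hy⟩
      have hj' : y ^ p ^ j = 1 := by
        have := congrArg Subtype.val hj
        simpa using this
      obtain ⟨i, _, hi⟩ := (Nat.dvd_prime_pow hp).mp (orderOf_dvd_of_pow_eq_one hj')
      exact ⟨i, hi⟩
    have hodd := hC y hy1 hyp
    have h2 := two_dvd_card_centralizer hs hcomm
    exact (Nat.not_even_iff_odd.mpr hodd) (even_iff_two_dvd.mpr h2)
  have hinv := inverts_of_fixedPointFree Q s hss hnorm hfpf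
  exact ⟨Q, s, hQ, hs, hinv, commute_of_inverted Q s hinv⟩

/-- the centralizer of an inverted element is normalized -/
lemma map_conj_centralizer_of_inverts {s v : G} (h : s * v * s⁻¹ = v⁻¹) :
    (Subgroup.centralizer ({v} : Set G)).map (MulAut.conj s).toMonoidHom =
      Subgroup.centralizer ({v} : Set G) := by
  ext y
  rw [mem_map_conj, Subgroup.mem_centralizer_iff, Subgroup.mem_centralizer_iff]
  simp only [Set.mem_singleton_iff, forall_eq]
  have hv : v = s⁻¹ * v⁻¹ * s := by rw [← h]; group
  constructor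
  · intro h1
    have h2 : v⁻¹ * y = y * v⁻¹ := by
      have e1 : v⁻¹ * y = s * (v * (s⁻¹ * y * s)) * s⁻¹ := by
        rw [← h]; group
      have e2 : y * v⁻¹ = s * ((s⁻¹ * y * s) * v) * s⁻¹ := by
        rw [← h]; group
      rw [e1, e2, h1]
    calc v * y = v * (y * v⁻¹) * v := by group
      _ = v * (v⁻¹ * y) * v := by rw [h2]
      _ = y * v := by group
  · intro h1
    have h2 : v⁻¹ * y = y * v⁻¹ := by
      calc v⁻¹ * y = v⁻¹ * (y * v) * v⁻¹ := by group
        _ = v⁻¹ * (v * y) * v⁻¹ := by rw [h1]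
        _ = y * v⁻¹ := by group
    have h3 : s * v * s⁻¹ * y = y * (s * v * s⁻¹) := by rw [h]; exact h2
    calc v * (s⁻¹ * y * s) = s⁻¹ * (s * v * s⁻¹ * y) * s := by group
      _ = s⁻¹ * (y * (s * v * s⁻¹)) * s := by rw [h3]
      _ = s⁻¹ * y * s * v := by group

end

/-- Let p be an odd prime and G a finite group of even order divisible by p in which the centralizer of every non-identity p-element has odd order. Then either G has an irreducible character of p-defect zero, or the normalizer of every Sylow p-subgroup P of G has even order and P is abelian. -/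
theorem result {G : Type*} [Group G] [Finite G] (p : ℕ) [Fact p.Prime] (hp2 : p ≠ 2) (hpG : p ∣ Nat.card G) (h2G : 2 ∣ Nat.card G) (hC : ∀ g : G, g ≠ 1 → (∃ k : ℕ, orderOf g = p ^ k) → Odd (Nat.card ↥(Subgroup.centralizer ({g} : Set G)))) : (∃ χ : Cfsg.IrrCharacter G, (Cfsg.charDegree (χ : G → ℂ)).factorization p = (Nat.card G).factorization p) ∨ ∀ P : Sylow p G, Even (Nat.card ↥(Subgroup.normalizer ((P : Subgroup G) : Set G))) ∧ IsMulCommutative ↥(P : Subgroup G) := by
  classical
  have hp : p.Prime := Fact.out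
  haveI : Fintype G := Fintype.ofFinite G
  by_cases hdz : ∃ χ : Cfsg.IrrCharacter G,
      (Cfsg.charDegree (χ : G → ℂ)).factorization p = (Nat.card G).factorization p
  · exact Or.inl hdz
  right
  push Not at hdz
  have hN0 : Nat.card G ≠ 0 := Nat.card_pos.ne'
  have he : 1 ≤ (Nat.card G).factorization p :=
    (hp.dvd_iff_one_le_factorization hN0).mp hpG
  -- an involution
  haveI : Fact (Nat.Prime 2) := ⟨Nat.prime_two⟩
  obtain ⟨x, hx⟩ := exists_prime_orderOf_dvd_card' 2 h2G
  have hxx : x * x = 1 := by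
    have := pow_orderOf_eq_one x
    rwa [hx, pow_two] at this
  have hxinv : x⁻¹ = x := inv_eq_of_mul_eq_one_left hxx
  -- Step 1: some Sylow `p`-subgroup is abelian and normalized by an involution
  have hstep : ∃ (R : Sylow p G) (s : G), orderOf s = 2 ∧
      s ∈ Subgroup.normalizer ((R : Subgroup G) : Set G) ∧
      ∀ a ∈ (R : Subgroup G), ∀ b ∈ (R : Subgroup G), a * b = b * a := by
    obtain ⟨P⟩ : Nonempty (Sylow p G) := inferInstance
    -- the counting lemma
    have hex : ∃ u ∈ (P : Subgroup G), u ≠ 1 ∧ mulCount x x⁻¹ u ≠ 0 := by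
      by_contra hcon
      push Not at hcon
      have hdvd := card_dvd_of_mulCount_eq_zero x (P : Subgroup G) _
        (degree_dvd_of_no_defect_zero hp hpG hdz) hcon
      rw [show Nat.card (P : Subgroup G) = p ^ (Nat.card G).factorization p from
        P.card_eq_multiplicity] at hdvd
      have hpC : p ∣ Nat.card (Subgroup.centralizer ({x} : Set G)) :=
        Cfsg.Agent.S4742.prime_dvd_of_pow_dvd hp he (Nat.not_dvd_ordCompl hp hN0)
          Nat.card_pos.ne' hdvd
      obtain ⟨u', hu'⟩ := exists_prime_orderOf_dvd_card' p hpC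
      have hu : orderOf (u' : G) = p := by rw [Subgroup.orderOf_coe]; exact hu'
      have hu1 : (u' : G) ≠ 1 := by
        intro h
        rw [h, orderOf_one] at hu
        exact hp.one_lt.ne hu
      have hcomm : x * (u' : G) = (u' : G) * x := by
        have := u'.2
        rw [Subgroup.mem_centralizer_iff] at this
        exact this x (Set.mem_singleton x)
      have hodd := hC (u' : G) hu1 ⟨1, by rw [hu, pow_one]⟩
      have h2 := two_dvd_card_centralizer hx hcomm
      exact (Nat.not_even_iff_odd.mpr hodd) (even_iff_two_dvd.mpr h2)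
    obtain ⟨u, huP, hu1, hmc⟩ := hex
    -- an involution inverting `u`
    have hinvu : ∃ t : G, orderOf t = 2 ∧ t * u * t⁻¹ = u⁻¹ := by
      unfold mulCount at hmc
      have hne : Nonempty {r : G × G // IsConj x r.1 ∧ IsConj x⁻¹ r.2 ∧ r.1 * r.2 = u} := by
        by_contra hemp
        rw [not_nonempty_iff] at hemp
        apply hmc
        rw [Nat.card_of_isEmpty]
        simp
      obtain ⟨⟨⟨g, h'⟩, hg, hh', hgh⟩⟩ := hne
      simp only at hg hh' hgh
      rw [hxinv] at hh'
      have hord : ∀ y : G, IsConj x y → orderOf y = 2 ∧ y * y = 1 := by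
        intro y hy
        obtain ⟨c, hc⟩ := isConj_iff.mp hy
        have hyy : y * y = 1 := by
          rw [← hc]
          calc c * x * c⁻¹ * (c * x * c⁻¹) = c * (x * x) * c⁻¹ := by group
            _ = 1 := by rw [hxx]; group
        refine ⟨?_, hyy⟩
        apply orderOf_eq_prime
        · rw [pow_two]; exact hyy
        · intro h1
          rw [h1] at hc
          have : x = 1 := by
            have e : x = c⁻¹ * (c * x * c⁻¹) * c := by group
            rw [e, hc]; group
          rw [this, orderOf_one] at hx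
          exact absurd hx (by norm_num)
      obtain ⟨hgo, hgg⟩ := hord g hg
      obtain ⟨hho, hhh⟩ := hord h' hh'
      have hginv : g⁻¹ = g := inv_eq_of_mul_eq_one_left hgg
      have hhinv : h'⁻¹ = h' := inv_eq_of_mul_eq_one_left hhh
      refine ⟨g, hgo, ?_⟩
      rw [← hgh, mul_inv_rev, hginv, hhinv]
      calc g * (g * h') * g = (g * g) * h' * g := by group
        _ = h' * g := by rw [hgg, one_mul]
    obtain ⟨t, ht, htu⟩ := hinvu
    have hup : ∃ k : ℕ, orderOf u = p ^ k := by
      obtain ⟨j, hj⟩ := P.2 ⟨u, huP⟩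
      have hj' : u ^ p ^ j = 1 := by
        have := congrArg Subtype.val hj
        simpa using this
      obtain ⟨i, _, hi⟩ := (Nat.dvd_prime_pow hp).mp (orderOf_dvd_of_pow_eq_one hj')
      exact ⟨i, hi⟩
    -- first application: `C = C_G(u)`
    obtain ⟨Q, s, hQ, hs, hsinv, hQab⟩ := exists_inverted_sylowIn p hC
      (Subgroup.centralizer ({u} : Set G)) (hC u hu1 hup) t ht
      (map_conj_centralizer_of_inverts htu)
    have huC : u ∈ Subgroup.centralizer ({u} : Set G) := by
      rw [Subgroup.mem_centralizer_iff]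
      intro z hz
      rw [Set.mem_singleton_iff] at hz
      rw [hz]
    have huQ : u ∈ Q := by
      apply mem_of_centralizes_sylowIn p hQ u huC hup
      intro y hy
      have := hQ.1 hy
      rw [Subgroup.mem_centralizer_iff] at this
      exact this u (Set.mem_singleton u)
    -- a Sylow subgroup of `G` containing `Q`
    obtain ⟨P₁, hQP₁⟩ := hQ.isPGroup.exists_le_sylow
    haveI : Nontrivial (P₁ : Subgroup G) := by
      rw [Subgroup.nontrivial_iff_ne_bot]
      intro hb
      have : u ∈ (⊥ : Subgroup G) := hb ▸ hQP₁ huQ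
      exact hu1 (Subgroup.mem_bot.mp this)
    haveI : Nontrivial (Subgroup.center (P₁ : Subgroup G)) := P₁.2.center_nontrivial
    obtain ⟨v', hv'⟩ := exists_ne (1 : Subgroup.center (P₁ : Subgroup G))
    set v : G := ((v' : (P₁ : Subgroup G)) : G) with hv
    have hv1 : v ≠ 1 := by
      intro h
      apply hv'
      apply Subtype.ext
      apply Subtype.ext
      exact h
    have hvP₁ : v ∈ (P₁ : Subgroup G) := (v' : (P₁ : Subgroup G)).2
    have hvcomm : ∀ y ∈ (P₁ : Subgroup G), v * y = y * v := by
      intro y hy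
      have := v'.2
      rw [Subgroup.mem_center_iff] at this
      have h1 := this ⟨y, hy⟩
      have h2 := congrArg Subtype.val h1
      simp only [Subgroup.coe_mul] at h2
      exact h2.symm
    have hvp : ∃ k : ℕ, orderOf v = p ^ k := by
      obtain ⟨j, hj⟩ := P₁.2 ⟨v, hvP₁⟩
      have hj' : v ^ p ^ j = 1 := by
        have := congrArg Subtype.val hj
        simpa using this
      obtain ⟨i, _, hi⟩ := (Nat.dvd_prime_pow hp).mp (orderOf_dvd_of_pow_eq_one hj')
      exact ⟨i, hi⟩
    have hvC : v ∈ Subgroup.centralizer ({u} : Set G) := by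
      rw [Subgroup.mem_centralizer_iff]
      intro z hz
      rw [Set.mem_singleton_iff] at hz
      rw [hz]
      exact (hvcomm u (hQP₁ huQ)).symm
    have hvQ : v ∈ Q :=
      mem_of_centralizes_sylowIn p hQ v hvC hvp (fun y hy => hvcomm y (hQP₁ hy))
    have hsv : s * v * s⁻¹ = v⁻¹ := hsinv v hvQ
    -- second application: `C₁ = C_G(v)`
    obtain ⟨Q₁, s₁, hQ₁, hs₁, hs₁inv, hQ₁ab⟩ := exists_inverted_sylowIn p hC
      (Subgroup.centralizer ({v} : Set G)) (hC v hv1 hvp) s hs
      (map_conj_centralizer_of_inverts hsv)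
    have hP₁C : (P₁ : Subgroup G) ≤ Subgroup.centralizer ({v} : Set G) := by
      intro y hy
      rw [Subgroup.mem_centralizer_iff]
      intro z hz
      rw [Set.mem_singleton_iff] at hz
      rw [hz]
      exact hvcomm y hy
    have hfac : (Nat.card (Subgroup.centralizer ({v} : Set G))).factorization p =
        (Nat.card G).factorization p := by
      apply le_antisymm
      · exact (Nat.factorization_le_iff_dvd Nat.card_pos.ne' hN0).mpr
          (Subgroup.card_subgroup_dvd_card _) p
      · have h1 : p ^ (Nat.card G).factorization p ∣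
            Nat.card (Subgroup.centralizer ({v} : Set G)) := by
          rw [← P₁.card_eq_multiplicity]
          exact Subgroup.card_dvd_of_le hP₁C
        exact (hp.pow_dvd_iff_le_factorization Nat.card_pos.ne').mp h1
    have hQ₁card : Nat.card Q₁ = p ^ (Nat.card G).factorization p := by
      rw [hQ₁.2, hfac]
    refine ⟨Sylow.ofCard Q₁ hQ₁card, s₁, hs₁, ?_, ?_⟩
    · rw [Subgroup.mem_normalizer_iff]
      intro y
      show y ∈ Q₁ ↔ s₁ * y * s₁⁻¹ ∈ Q₁
      constructor
      · intro hy
        rw [hs₁inv y hy]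
        exact Q₁.inv_mem hy
      · intro hy
        have h1 := hs₁inv _ hy
        have hs₁s₁ : s₁ * s₁ = 1 := by
          have := pow_orderOf_eq_one s₁
          rwa [hs₁, pow_two] at this
        have hs₁i : s₁⁻¹ = s₁ := inv_eq_of_mul_eq_one_left hs₁s₁
        have e : s₁ * (s₁ * y * s₁⁻¹) * s₁⁻¹ = y := by
          rw [hs₁i]
          calc s₁ * (s₁ * y * s₁) * s₁ = (s₁ * s₁) * y * (s₁ * s₁) := by group
            _ = y := by rw [hs₁s₁]; group
        rw [e] at h1
        have hy' : y = (s₁ * y * s₁⁻¹)⁻¹ := h1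
        rw [hy']
        exact Q₁.inv_mem hy
    · exact hQ₁ab
  obtain ⟨R, s, hs, hsN, hRab⟩ := hstep
  intro P
  obtain ⟨g, hg⟩ := MulAction.exists_smul_eq G R P
  constructor
  · -- the normalizers have the same order
    have h1 := Sylow.card_eq_index_normalizer P
    have h2 := Sylow.card_eq_index_normalizer R
    have h3 := Subgroup.card_mul_index (Subgroup.normalizer ((P : Subgroup G) : Set G))
    have h4 := Subgroup.card_mul_index (Subgroup.normalizer ((R : Subgroup G) : Set G))
    have hidxpos : 0 < (Subgroup.normalizer ((R : Subgroup G) : Set G)).index :=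
      Nat.pos_of_ne_zero Subgroup.index_ne_zero_of_finite
    have heq : Nat.card (Subgroup.normalizer ((P : Subgroup G) : Set G)) =
        Nat.card (Subgroup.normalizer ((R : Subgroup G) : Set G)) := by
      have h12 : (Subgroup.normalizer ((P : Subgroup G) : Set G)).index =
          (Subgroup.normalizer ((R : Subgroup G) : Set G)).index := h1.symm.trans h2
      rw [h12] at h3
      exact Nat.eq_of_mul_eq_mul_right hidxpos (h3.trans h4.symm)
    rw [heq]
    have h5 : orderOf (⟨s, hsN⟩ : Subgroup.normalizer ((R : Subgroup G) : Set G)) = 2 := by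
      rw [Subgroup.orderOf_mk]; exact hs
    exact even_iff_two_dvd.mpr (h5 ▸ orderOf_dvd_natCard _)
  · refine ⟨⟨?_⟩⟩
    rintro ⟨a, ha⟩ ⟨b, hb⟩
    apply Subtype.ext
    show a * b = b * a
    rw [← hg] at ha hb
    have ha' : g⁻¹ * a * g ∈ R := (Cfsg.Agent.Lib.Helper4.SylowPrime.mem_smul_sylow_iff R g a).mp ha
    have hb' : g⁻¹ * b * g ∈ R := (Cfsg.Agent.Lib.Helper4.SylowPrime.mem_smul_sylow_iff R g b).mp hb
    have := hRab _ ha' _ hb'
    calc a * b = g * ((g⁻¹ * a * g) * (g⁻¹ * b * g)) * g⁻¹ := by group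
      _ = g * ((g⁻¹ * b * g) * (g⁻¹ * a * g)) * g⁻¹ := by rw [this]
      _ = b * a := by group

end Cfsg.Agent.S4744
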