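import Cfsg.Statements.S1062
import Cfsg.Agent.Lib.Helper5.Chev.PcF4
import Cfsg.Agent.Lib.Helper5.Chev.HCardAll
import Cfsg.Agent.Lib.Helper5.Chev.HsF4

open Cfsg.Lie Cfsg.Agent.Lib.Helper5.Chev

set_option autoImplicit false
open Cfsg

namespace Cfsg.Agent.S1062

/-- `|F₄(q)| = q²⁴ (q² - 1)(q⁶ - 1)(q⁸ - 1)(q¹² - 1)`. -/
theorem result {F : Type*} [Field F] [Fintype F] {q : ℕ} (hq : Fintype.card F = q) : Nat.card ↥(Cfsg.Lie.chevF4.group F) = q ^ 24 * (q ^ 2 - 1) * (q ^ 6 - 1) * (q ^ 8 - 1) * (q ^ 12 - 1) := by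
  obtain ⟨h1, h2⟩ := cox_of_check DataF4.fd BsF4.Bs CxF4.mLL CxF4.cox
  have hN : Nat.card F = q := by rw [Nat.card_eq_fintype_card, hq]
  have hH : 1 * Nat.card (chevF4.diagonalSubgroup F) = (Nat.card F - 1) ^ 4 := by
    rw [one_mul, card_diagonal_F4, Nat.card_eq_fintype_card]
  have h := card_group_final (F := F) (D := chevF4) (by simp) DataF4.agrees BsF4.Bs CxF4.mLL
    HsF4.reflBs' h1 h2 HsF4.gH HsF4.baseH _ HsF4.rbH HsF4.base_simple PcF4.ch PcF4.ok PcF4.hall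
    (1) 4 hH [2, 6, 8, 12] (by decide) PcF4.hpoly
  rw [hN] at h
  have e : chevF4.nroots / 2 = 24 := by decide
  rw [e] at h
  simp only [List.map_cons, List.map_nil, List.prod_cons, List.prod_nil, mul_one, one_mul] at h
  rw [h]
  ring

end Cfsg.Agent.S1062
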