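import Mathlib
import Cfsg.Statements.S1250
import Cfsg.Agent.H2.SylowExtra

set_option autoImplicit false
open Cfsg

namespace Cfsg.Agent.S1250

open Cfsg.Agent.H2

/-- Let S be a Sylow p-subgroup of the finite group G, A ≤ S strongly closed in S, and N a normal subgroup. Then the image of A in G ⧸ N is strongly closed in the image of S (which is a Sylow p-subgroup of G ⧸ N). -/
theorem result {G : Type*} [Group G] [Finite G] {p : ℕ} [Fact p.Prime] (S : Sylow p G) (A : Subgroup G) (hA : Cfsg.IsStronglyClosed A (S : Subgroup G)) (N : Subgroup G) [N.Normal] : Cfsg.IsStronglyClosed (A.map (QuotientGroup.mk' N)) ((S : Subgroup G).map (QuotientGroup.mk' N)) := by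
  obtain ⟨hAS, hcl⟩ := hA
  refine ⟨Subgroup.map_mono hAS, ?_⟩
  rintro _ ⟨a, ha, rfl⟩ gbar hg
  obtain ⟨g, rfl⟩ := QuotientGroup.mk'_surjective N gbar
  -- y = g a g⁻¹ ∈ S ⊔ N
  obtain ⟨s, hs, hsy⟩ := hg
  set y := g * a * g⁻¹ with hy
  have hπy : (QuotientGroup.mk' N) y = (QuotientGroup.mk' N) g * (QuotientGroup.mk' N) a * ((QuotientGroup.mk' N) g)⁻¹ := by
    rw [hy]; simp
  rw [← hπy] at hsy ⊢
  have hyK : y ∈ (S : Subgroup G) ⊔ N := by
    -- y = s * (s⁻¹ y) with s⁻¹ y ∈ N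
    have h1 : s⁻¹ * y ∈ N := by
      rw [← QuotientGroup.eq_one_iff]
      have : ((s⁻¹ * y : G) : G ⧸ N) = ((QuotientGroup.mk' N) s)⁻¹ * (QuotientGroup.mk' N) y := by simp
      rw [this, hsy, inv_mul_cancel]
    have : y = s * (s⁻¹ * y) := by group
    rw [this]
    exact Subgroup.mul_mem _ (Subgroup.mem_sup_left hs) (Subgroup.mem_sup_right h1)
  -- y is a p-element
  have hyp : ∃ n : ℕ, orderOf y = p ^ n := by
    obtain ⟨n, hn⟩ := (IsPGroup.iff_orderOf.1 S.2) ⟨a, hAS ha⟩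
    refine ⟨n, ?_⟩
    have h1 : orderOf y = orderOf a := by
      have := orderOf_injective (MulAut.conj g).toMonoidHom (MulAut.conj g).injective a
      simpa [MulAut.conj_apply] using this
    rw [h1, ← hn]
    simp
  obtain ⟨k, hk, hky⟩ := exists_conj_mem_sylow_of_mem S _ le_sup_left y hyK hyp
  -- k = s' n' ; use normality: k ∈ S ⊔ N means k = s' * n'
  have hkSN : k ∈ (S : Subgroup G) ⊔ N := hk
  rw [Subgroup.mem_sup_of_normal_right] at hkSN
  obtain ⟨s', hs', n', hn', rfl⟩ := hkSN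
  -- n' y n'⁻¹ ∈ S
  have h2 : n' * y * n'⁻¹ ∈ (S : Subgroup G) := by
    have : n' * y * n'⁻¹ = s'⁻¹ * (s' * n' * y * (s' * n')⁻¹) * s' := by group
    rw [this]
    exact Subgroup.mul_mem _ (Subgroup.mul_mem _ (Subgroup.inv_mem _ hs') hky) hs'
  have h3 : n' * y * n'⁻¹ = (n' * g) * a * (n' * g)⁻¹ := by rw [hy]; group
  rw [h3] at h2
  have h4 := hcl a ha (n' * g) h2
  refine ⟨_, h4, ?_⟩
  rw [← h3]
  have h5 : (QuotientGroup.mk' N) n' = 1 := (QuotientGroup.eq_one_iff n').2 hn'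
  simp only [map_mul, map_inv, h5, one_mul, inv_one, mul_one]

end Cfsg.Agent.S1250
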