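import Mathlib
import Cfsg.Statements.S3215
import Cfsg.Agent.H2.CNSolvable
import Cfsg.Agent.Lib.Helper4.SolvPSolv
import Cfsg.Agent.Lib.Helper7.PQLemma
import Cfsg.Agent.Lib.Lead.PSolvable
import Cfsg.Agent.S1326
import Cfsg.Agent.H2.UniqueOrderP

set_option autoImplicit false
open Cfsg

namespace Cfsg.Agent.S3215

open scoped commutatorElement


section Part0

section A

variable {H : Type*} [Group H] [Finite H]

theorem centralizer_le (hsol : Group.IsSolvable H) (hO : Cfsg.oddCore H = ⊥) :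
    Subgroup.centralizer ((Cfsg.pCore 2 H : Subgroup H) : Set H) ≤ Cfsg.pCore 2 H := by
  haveI : Fact (Nat.Prime 2) := ⟨Nat.prime_two⟩
  exact Cfsg.Agent.Lib.Lead.PSolvable.centralizer_pCore_le
    (Cfsg.Agent.Lib.Helper4.SolvPSolv.isPSolvable_of_isSolvable 2 H) hO

theorem odd_of_orderOf_odd {x : H} (K : Subgroup H) (hK : Odd (Nat.card K)) (hx : x ∈ K) :
    Odd (orderOf x) := by
  have h1 : orderOf (⟨x, hx⟩ : K) ∣ Nat.card K := orderOf_dvd_natCard _
  rw [Subgroup.orderOf_mk] at h1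
  exact Odd.of_dvd_nat hK h1

/-- a subgroup that is both of odd order and inside a 2-group is trivial -/
theorem eq_bot_of_odd_of_le {K Y : Subgroup H} (hK : Odd (Nat.card K)) (hY : IsPGroup 2 Y)
    (hKY : K ≤ Y) : K = ⊥ := by
  obtain ⟨n, hn⟩ := IsPGroup.iff_card.1 hY
  have hcop : Nat.Coprime (Nat.card K) (Nat.card Y) := by
    rw [hn]
    exact Nat.Coprime.pow_right n (Nat.coprime_two_right.2 hK)
  have := Subgroup.inf_eq_bot_of_coprime hcop
  rwa [inf_eq_left.2 hKY] at this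

/-- **Fact 1**: an odd-order element commuting with an involution is trivial -/
theorem eq_one_of_commute_involution (hsol : Group.IsSolvable H) (hO : Cfsg.oddCore H = ⊥)
    (hI : ∀ t : H, orderOf t = 2 → Cfsg.HasNormalPComplement 2 ↥(Subgroup.centralizer ({t} : Set H)))
    (u : H) (hu : orderOf u = 2) (x : H) (hx : Odd (orderOf x)) (hxu : x * u = u * x) : x = 1 := by
  classical
  haveI : Fact (Nat.Prime 2) := ⟨Nat.prime_two⟩
  set C := Subgroup.centralizer ({u} : Set H) with hC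
  obtain ⟨P, N, hNn, hNc⟩ := hI u hu
  haveI := hNn
  have hYn : (Cfsg.pCore 2 H).Normal := Cfsg.Agent.H1.pCore_normal 2
  have hYp : IsPGroup 2 ↥(Cfsg.pCore 2 H) := Cfsg.Agent.H1.pCore_isPGroup 2
  -- N has odd order
  have hcard : Nat.card N * Nat.card (P : Subgroup ↥C) = Nat.card ↥C := hNc.card_mul_card
  obtain ⟨v, hv⟩ : ∃ v : ℕ, v = (Nat.card ↥C).factorization 2 := ⟨_, rfl⟩
  have hPcard : Nat.card (P : Subgroup ↥C) = 2 ^ v := by
    rw [hv]; exact Sylow.card_eq_multiplicity P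
  have hNodd : Odd (Nat.card N) := by
    rw [← Nat.not_even_iff_odd]
    intro he
    obtain ⟨m, hm⟩ := he.two_dvd
    have : 2 ^ (v + 1) ∣ Nat.card ↥C := by
      rw [← hcard, hPcard, hm, pow_succ]
      exact ⟨m, by ring⟩
    rw [hv] at this
    exact Nat.pow_succ_factorization_not_dvd Nat.card_pos.ne' Nat.prime_two this
  -- x lies in N
  have hxC : x ∈ C := by
    rw [hC, Subgroup.mem_centralizer_singleton_iff]; exact hxu
  have hxN : (⟨x, hxC⟩ : ↥C) ∈ N := by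
    rw [← QuotientGroup.eq_one_iff]
    have h1 : orderOf ((⟨x, hxC⟩ : ↥C) : ↥C ⧸ N) ∣ orderOf (⟨x, hxC⟩ : ↥C) :=
      orderOf_map_dvd (QuotientGroup.mk' N) _
    rw [Subgroup.orderOf_mk] at h1
    have h2 : orderOf ((⟨x, hxC⟩ : ↥C) : ↥C ⧸ N) ∣ Nat.card (↥C ⧸ N) := orderOf_dvd_natCard _
    have h3 : Nat.card (↥C ⧸ N) = 2 ^ v := by
      rw [← Subgroup.index_eq_card, hNc.symm.index_eq_card, hPcard]
    rw [h3] at h2
    have h4 : Odd (orderOf ((⟨x, hxC⟩ : ↥C) : ↥C ⧸ N)) := Odd.of_dvd_nat hx h1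
    have h5 : (orderOf ((⟨x, hxC⟩ : ↥C) : ↥C ⧸ N)).Coprime (2 ^ v) :=
      Nat.Coprime.pow_right _ (Nat.coprime_two_right.2 h4)
    exact orderOf_eq_one_iff.1 (Nat.Coprime.eq_one_of_dvd h5 h2)
  set K := N.map C.subtype with hK
  have hKcard : Nat.card K = Nat.card N := Subgroup.card_map_of_injective C.subtype_injective
  have hKodd : Odd (Nat.card K) := hKcard ▸ hNodd
  have hxK : x ∈ K := ⟨⟨x, hxC⟩, hxN, rfl⟩
  have hKC : K ≤ C := Subgroup.map_subtype_le _
  -- apply the P × Q lemma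
  have hzp : IsPGroup 2 ↥(Subgroup.zpowers u) := by
    apply IsPGroup.of_card (n := 1)
    rw [Nat.card_zpowers, hu, pow_one]
  have hKcop : (Nat.card K).Coprime 2 := Nat.coprime_two_right.2 hKodd
  have hPQ : Subgroup.zpowers u ≤ Subgroup.centralizer (K : Set H) := by
    rw [Subgroup.zpowers_le, Subgroup.mem_centralizer_iff]
    intro k hk
    exact Subgroup.mem_centralizer_singleton_iff.1 (hKC hk)
  have hnormY : ∀ Z : Subgroup H, Z ≤ Subgroup.normalizer ((Cfsg.pCore 2 H : Subgroup H) : Set H) := by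
    intro Z
    rw [Subgroup.normalizer_eq_top]; exact le_top
  have hcond : Cfsg.pCore 2 H ⊓ Subgroup.centralizer ((Subgroup.zpowers u : Subgroup H) : Set H) ≤
      Subgroup.centralizer (K : Set H) := by
    intro y hy
    obtain ⟨hy1, hy2⟩ := Subgroup.mem_inf.1 hy
    have hyu : u * y = y * u := Subgroup.mem_centralizer_iff.1 hy2 u (Subgroup.mem_zpowers u)
    have hyC : y ∈ C := by
      rw [hC, Subgroup.mem_centralizer_singleton_iff]; exact hyu.symm
    rw [Subgroup.mem_centralizer_iff]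
    rintro _ ⟨n, hn, rfl⟩
    have hc1 : y * (n : H) * y⁻¹ * (n : H)⁻¹ ∈ Cfsg.pCore 2 H := by
      have h1 := hYn.conj_mem _ (inv_mem hy1) (n : H)
      have e : y * (n : H) * y⁻¹ * (n : H)⁻¹ = y * ((n : H) * y⁻¹ * (n : H)⁻¹) := by group
      rw [e]; exact mul_mem hy1 h1
    have hc2 : y * (n : H) * y⁻¹ * (n : H)⁻¹ ∈ K := by
      have h1 : (⟨y, hyC⟩ : ↥C) * n * (⟨y, hyC⟩ : ↥C)⁻¹ * n⁻¹ ∈ N :=
        mul_mem (hNn.conj_mem n hn _) (inv_mem hn)
      exact ⟨_, h1, rfl⟩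
    have hbot : Cfsg.pCore 2 H ⊓ K = ⊥ := by
      obtain ⟨m, hm⟩ := IsPGroup.iff_card.1 hYp
      apply Subgroup.inf_eq_bot_of_coprime
      rw [hm]
      exact (Nat.Coprime.pow_right m hKcop).symm
    have hc3 : y * (n : H) * y⁻¹ * (n : H)⁻¹ = 1 := by
      have : y * (n : H) * y⁻¹ * (n : H)⁻¹ ∈ Cfsg.pCore 2 H ⊓ K := Subgroup.mem_inf.2 ⟨hc1, hc2⟩
      rw [hbot] at this
      exact Subgroup.mem_bot.1 this
    show C.subtype n * y = y * C.subtype n
    simp only [Subgroup.coe_subtype]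
    calc (n : H) * y = (y * (n : H) * y⁻¹ * (n : H)⁻¹)⁻¹ * (y * (n : H)) := by group
      _ = y * (n : H) := by rw [hc3, inv_one, one_mul]
  have hpq := Cfsg.Agent.Lib.Helper7.pq_lemma 2 (Subgroup.zpowers u) K hzp hKcop hPQ _ _ rfl hYp
    (hnormY _) (hnormY _) hcond
  have hKY : K ≤ Cfsg.pCore 2 H := hpq.trans (centralizer_le hsol hO)
  have hKbot := eq_bot_of_odd_of_le hKodd hYp hKY
  rw [hKbot] at hxK
  exact Subgroup.mem_bot.1 hxK

/-- element orders are odd or powers of 2 -/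
theorem mixed_free (hsol : Group.IsSolvable H) (hO : Cfsg.oddCore H = ⊥)
    (hI : ∀ t : H, orderOf t = 2 → Cfsg.HasNormalPComplement 2 ↥(Subgroup.centralizer ({t} : Set H)))
    (g : H) (hg : 2 ∣ orderOf g) : ∃ n : ℕ, orderOf g = 2 ^ n := by
  have hpos : 0 < orderOf g := orderOf_pos g
  obtain ⟨a, b, hb, hab⟩ := Nat.exists_eq_two_pow_mul_odd hpos.ne'
  have ha : a ≠ 0 := by
    rintro rfl
    rw [pow_zero, one_mul] at hab
    rw [hab] at hg
    exact (Nat.not_even_iff_odd.2 hb) (even_iff_two_dvd.2 hg)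
  obtain ⟨a', rfl⟩ := Nat.exists_eq_succ_of_ne_zero ha
  -- the involution u and the odd part t
  have hbpos : 0 < b := hb.pos
  have hne1 : 2 ^ a' * b ≠ 0 := (Nat.mul_pos (by positivity) hbpos).ne'
  have hab' : orderOf g = 2 ^ (a' + 1) * b := hab
  have hu : orderOf (g ^ (2 ^ a' * b)) = 2 := by
    rw [orderOf_pow_of_dvd hne1 ⟨2, by rw [hab']; ring⟩, hab']
    have : 2 ^ (a' + 1) * b = 2 * (2 ^ a' * b) := by ring
    rw [this, Nat.mul_div_cancel _ (Nat.pos_of_ne_zero hne1)]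
  have ht : orderOf (g ^ (2 ^ (a' + 1))) = b := by
    rw [orderOf_pow_of_dvd (by positivity) ⟨b, hab'⟩, hab', Nat.mul_div_cancel_left _ (by positivity)]
  have hcomm : g ^ (2 ^ (a' + 1)) * g ^ (2 ^ a' * b) = g ^ (2 ^ a' * b) * g ^ (2 ^ (a' + 1)) := by
    rw [← pow_add, ← pow_add, add_comm]
  have h1 := eq_one_of_commute_involution hsol hO hI _ hu _ (ht ▸ hb) hcomm
  have hb1 : b = 1 := by rw [← ht, h1, orderOf_one]
  exact ⟨a' + 1, by rw [hab', hb1, mul_one]⟩

/-- **Fact 2**: odd-order elements act fixed-point-freely on `O_2(H)` -/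
theorem fpf (hsol : Group.IsSolvable H) (hO : Cfsg.oddCore H = ⊥)
    (hI : ∀ t : H, orderOf t = 2 → Cfsg.HasNormalPComplement 2 ↥(Subgroup.centralizer ({t} : Set H)))
    (x : H) (hx : Odd (orderOf x)) (hx1 : x ≠ 1) :
    Cfsg.pCore 2 H ⊓ Subgroup.centralizer ({x} : Set H) = ⊥ := by
  by_contra hne
  have hYp : IsPGroup 2 ↥(Cfsg.pCore 2 H) := Cfsg.Agent.H1.pCore_isPGroup 2
  set D := Cfsg.pCore 2 H ⊓ Subgroup.centralizer ({x} : Set H) with hD
  have hDp : IsPGroup 2 ↥D := hYp.to_le inf_le_left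
  obtain ⟨n, hn⟩ := IsPGroup.iff_card.1 hDp
  have hn0 : n ≠ 0 := by
    rintro rfl
    rw [pow_zero] at hn
    exact hne (Subgroup.card_eq_one.1 hn)
  have hdvd : 2 ∣ Nat.card ↥D := by rw [hn]; exact dvd_pow_self 2 hn0
  haveI : Fact (Nat.Prime 2) := ⟨Nat.prime_two⟩
  obtain ⟨u, hu⟩ := exists_prime_orderOf_dvd_card' (G := ↥D) 2 hdvd
  have hu' : orderOf (u : H) = 2 := by rw [Subgroup.orderOf_coe]; exact hu
  have hux : (u : H) ∈ Subgroup.centralizer ({x} : Set H) := (Subgroup.mem_inf.1 u.2).2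
  have hcomm : x * (u : H) = (u : H) * x := (Subgroup.mem_centralizer_singleton_iff.1 hux).symm
  exact hx1 (eq_one_of_commute_involution hsol hO hI _ hu' x hx hcomm)

end A

end Part0

section Part1

section B

variable {H : Type*} [Group H] [Finite H]

/-- `H` is trivial when `O_2(H)` is -/
theorem subsingleton_of_pCore_eq_bot (hsol : Group.IsSolvable H) (hO : Cfsg.oddCore H = ⊥)
    (hY : Cfsg.pCore 2 H = ⊥) : Subsingleton H := by
  have h := centralizer_le hsol hO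
  rw [hY] at h
  constructor
  intro a b
  have ha : a ∈ Subgroup.centralizer (((⊥ : Subgroup H) : Subgroup H) : Set H) := by
    rw [Subgroup.mem_centralizer_iff]
    intro x hx
    rw [SetLike.mem_coe, Subgroup.mem_bot] at hx
    rw [hx, one_mul, mul_one]
  have hb : b ∈ Subgroup.centralizer (((⊥ : Subgroup H) : Subgroup H) : Set H) := by
    rw [Subgroup.mem_centralizer_iff]
    intro x hx
    rw [SetLike.mem_coe, Subgroup.mem_bot] at hx
    rw [hx, one_mul, mul_one]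
  rw [Subgroup.mem_bot.1 (h ha), Subgroup.mem_bot.1 (h hb)]

theorem fpf_subgroup (hsol : Group.IsSolvable H) (hO : Cfsg.oddCore H = ⊥)
    (hI : ∀ t : H, orderOf t = 2 → Cfsg.HasNormalPComplement 2 ↥(Subgroup.centralizer ({t} : Set H)))
    (X : Subgroup H) (hXodd : Odd (Nat.card X)) :
    ∀ h ∈ X, h ≠ 1 → Cfsg.pCore 2 H ⊓ Subgroup.centralizer ({h} : Set H) = ⊥ :=
  fun h hh h1 => fpf hsol hO hI h (odd_of_orderOf_odd X hXodd hh) h1

theorem part1 (hsol : Group.IsSolvable H) (hO : Cfsg.oddCore H = ⊥)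
    (hI : ∀ t : H, orderOf t = 2 → Cfsg.HasNormalPComplement 2 ↥(Subgroup.centralizer ({t} : Set H)))
    (X : Subgroup H) (hXodd : Odd (Nat.card X)) :
    ∀ x ∈ X, x ≠ 1 → ∀ y ∈ Cfsg.pCore 2 H, y ≠ 1 → x * y ≠ y * x := by
  intro x hx hx1 y hy hy1 hxy
  have h := fpf_subgroup hsol hO hI X hXodd x hx hx1
  have hy' : y ∈ Cfsg.pCore 2 H ⊓ Subgroup.centralizer ({x} : Set H) := by
    refine Subgroup.mem_inf.2 ⟨hy, ?_⟩
    rw [Subgroup.mem_centralizer_singleton_iff]
    exact hxy.symm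
  rw [h] at hy'
  exact hy1 (Subgroup.mem_bot.1 hy')

theorem part2 (hsol : Group.IsSolvable H) (hO : Cfsg.oddCore H = ⊥)
    (hI : ∀ t : H, orderOf t = 2 → Cfsg.HasNormalPComplement 2 ↥(Subgroup.centralizer ({t} : Set H)))
    (X : Subgroup H) (hXodd : Odd (Nat.card X)) (p : ℕ) [Fact p.Prime] (P : Sylow p ↥X) :
    IsCyclic ↥(P : Subgroup ↥X) := by
  by_cases hY : Cfsg.pCore 2 H = ⊥
  · haveI := subsingleton_of_pCore_eq_bot hsol hO hY
    haveI : Subsingleton ↥(P : Subgroup ↥X) := by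
      constructor
      intro a b
      apply Subtype.ext
      apply Subtype.ext
      exact Subsingleton.elim _ _
    exact isCyclic_of_subsingleton
  · haveI : (Cfsg.pCore 2 H).Normal := Cfsg.Agent.H1.pCore_normal 2
    rcases Cfsg.Agent.H2.FCS.sylow_cyclic_or_quaternion (Cfsg.pCore 2 H) X hY
      (fpf_subgroup hsol hO hI X hXodd) p P with h | ⟨n, ⟨e⟩⟩
    · exact h
    · exfalso
      have h1 : Nat.card P = 4 * 2 ^ n := by
        rw [Nat.card_congr e.toEquiv, Nat.card_eq_fintype_card, QuaternionGroup.card]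
      have h2 : Nat.card P ∣ Nat.card X := Subgroup.card_subgroup_dvd_card _
      have h3 : 2 ∣ Nat.card X := by
        apply Dvd.dvd.trans _ h2
        rw [h1]
        exact ⟨2 * 2 ^ n, by ring⟩
      rw [← Nat.not_even_iff_odd] at hXodd
      exact hXodd (even_iff_two_dvd.mpr h3)

end B

end Part1

section Part2

section C

variable {H : Type*} [Group H] [Finite H]

theorem card_eq_relIndex_mul {A B : Subgroup H} (h : A ≤ B) :
    Nat.card B = A.relIndex B * Nat.card A := by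
  have := Subgroup.relIndex_mul_relIndex (⊥ : Subgroup H) A B bot_le h
  rw [Subgroup.relIndex_bot_left, Subgroup.relIndex_bot_left] at this
  rw [← this, mul_comm]

/-- a Hall `2'`-subgroup meets a normal subgroup in a Hall `2'`-subgroup -/
theorem hall_inf (X F : Subgroup H) [F.Normal] (k : ℕ) (hXidx : X.index = 2 ^ k) :
    ∃ j : ℕ, Nat.card F = 2 ^ j * Nat.card (X ⊓ F : Subgroup H) := by
  have ha : X.relIndex (X ⊔ F) ∣ 2 ^ k := hXidx ▸ Subgroup.relIndex_dvd_index_of_le le_sup_left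
  obtain ⟨j, -, hj⟩ := (Nat.dvd_prime_pow Nat.prime_two).1 ha
  refine ⟨j, ?_⟩
  have hb : Nat.card (X ⊔ F : Subgroup H) = 2 ^ j * Nat.card X := by
    rw [card_eq_relIndex_mul (le_sup_left : X ≤ X ⊔ F), hj]
  have hc : Nat.card (X ⊔ F : Subgroup H) = F.relIndex X * Nat.card F := by
    rw [card_eq_relIndex_mul (le_sup_right : F ≤ X ⊔ F), Subgroup.relIndex_sup_right]
  have hd : Nat.card X = F.relIndex X * Nat.card (X ⊓ F : Subgroup H) := by
    rw [card_eq_relIndex_mul (inf_le_left : X ⊓ F ≤ X), Subgroup.inf_relIndex_left]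
  have hpos : 0 < F.relIndex X := by
    apply Nat.pos_of_ne_zero
    intro h0
    rw [h0, zero_mul] at hd
    exact Nat.card_pos.ne' hd
  have : F.relIndex X * Nat.card F = F.relIndex X * (2 ^ j * Nat.card (X ⊓ F : Subgroup H)) := by
    rw [← hc, hb, hd]; ring
  exact Nat.eq_of_mul_eq_mul_left hpos this

theorem odd_eq_of_mul_two_pow {a b y j : ℕ} (ha : Odd a) (hb : Odd b) (h : a * 2 ^ y = 2 ^ j * b) :
    a = b := by
  apply Nat.dvd_antisymm
  · have h1 : a ∣ 2 ^ j * b := ⟨2 ^ y, h.symm⟩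
    exact (Nat.Coprime.pow_right j (Nat.coprime_two_right.2 ha)).dvd_of_dvd_mul_left h1
  · have h1 : b ∣ a * 2 ^ y := ⟨2 ^ j, by rw [h]; ring⟩
    exact (Nat.Coprime.pow_right y (Nat.coprime_two_right.2 hb)).dvd_of_dvd_mul_right h1

/-- `O_2(H / O_2(H)) = 1` -/
theorem pCore_quotient_eq_bot : Cfsg.pCore 2 (H ⧸ Cfsg.pCore 2 H) = ⊥ := by
  have hYp : IsPGroup 2 ↥(Cfsg.pCore 2 H) := Cfsg.Agent.H1.pCore_isPGroup 2
  have hWp : IsPGroup 2 ↥(Cfsg.pCore 2 (H ⧸ Cfsg.pCore 2 H)) := Cfsg.Agent.H1.pCore_isPGroup 2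
  have hWn : (Cfsg.pCore 2 (H ⧸ Cfsg.pCore 2 H)).Normal := Cfsg.Agent.H1.pCore_normal 2
  have h1 : (Cfsg.pCore 2 (H ⧸ Cfsg.pCore 2 H)).comap (QuotientGroup.mk' (Cfsg.pCore 2 H)) ≤
      Cfsg.pCore 2 H := by
    apply Cfsg.Agent.H1.le_pCore (hWn.comap _)
    apply hWp.comap_of_ker_isPGroup
    rw [QuotientGroup.ker_mk']
    exact hYp
  rw [eq_bot_iff]
  intro w hw
  obtain ⟨g, rfl⟩ := QuotientGroup.mk'_surjective _ w
  have : g ∈ Cfsg.pCore 2 H := h1 hw
  rw [Subgroup.mem_bot]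
  exact (QuotientGroup.eq_one_iff g).2 this

/-- the Fitting subgroup of `H / O_2(H)` has odd order -/
theorem odd_card_fitting :
    Odd (Nat.card ↥(Cfsg.fittingSubgroup (H ⧸ Cfsg.pCore 2 H))) := by
  have hle : Cfsg.fittingSubgroup (H ⧸ Cfsg.pCore 2 H) ≤ Cfsg.pPrimeCore 2 (H ⧸ Cfsg.pCore 2 H) := by
    rw [Cfsg.Agent.H1.fittingSubgroup_eq_iSup_pCore]
    apply iSup_le
    intro q
    by_cases hq : (q : ℕ) = 2
    · rw [hq, pCore_quotient_eq_bot]; exact bot_le
    · exact Cfsg.Agent.H1.le_pPrimeCore inferInstance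
        (Cfsg.Agent.H1.pCore_coprime_of_ne Nat.prime_two q.2 hq)
  have h1 : (Nat.card ↥(Cfsg.fittingSubgroup (H ⧸ Cfsg.pCore 2 H))).Coprime 2 :=
    Nat.Coprime.coprime_dvd_left (Subgroup.card_dvd_of_le hle) (Cfsg.Agent.H1.pPrimeCore_coprime 2)
  exact Nat.coprime_two_right.1 h1

/-- the Fitting subgroup of a solvable group is self-centralizing -/
theorem centralizer_fitting_le {W : Type*} [Group W] [Finite W] (hsol : Group.IsSolvable W) :
    Subgroup.centralizer ((Cfsg.fittingSubgroup W : Subgroup W) : Set W) ≤ Cfsg.fittingSubgroup W := by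
  rw [Cfsg.Agent.S1326.result, eq_bot_iff]
  apply Cfsg.Agent.H2.layer_le_iff.2
  intro L hL
  exfalso
  exact Cfsg.Agent.H2.quasisimple_not_isSolvable hL.2 inferInstance

end C

end Part2

section Part3

section D

variable {H : Type*} [Group H] [Finite H]

/-- the structure of `W = H / O_2(H)`: data extracted for the final argument -/
theorem structure_W (hsol : Group.IsSolvable H) (hO : Cfsg.oddCore H = ⊥)
    (hI : ∀ t : H, orderOf t = 2 → Cfsg.HasNormalPComplement 2 ↥(Subgroup.centralizer ({t} : Set H)))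
    (X : Subgroup H) (hXodd : Odd (Nat.card X)) (k : ℕ) (hXidx : X.index = 2 ^ k)
    (hY : Cfsg.pCore 2 H ≠ ⊥) :
    ∃ Fbar : Subgroup (H ⧸ Cfsg.pCore 2 H), Fbar.Normal ∧ Odd (Nat.card Fbar) ∧ IsCyclic Fbar ∧
      Subgroup.centralizer (Fbar : Set (H ⧸ Cfsg.pCore 2 H)) ≤ Fbar ∧
      Fbar.comap (QuotientGroup.mk' (Cfsg.pCore 2 H)) ≤ X ⊔ Cfsg.pCore 2 H := by
  classical
  set Y := Cfsg.pCore 2 H with hYdef
  set π := QuotientGroup.mk' Y with hπ
  have hYp : IsPGroup 2 ↥Y := Cfsg.Agent.H1.pCore_isPGroup 2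
  haveI hWsol : Group.IsSolvable (H ⧸ Y) := solvable_of_surjective (QuotientGroup.mk'_surjective Y)
  set Fbar := Cfsg.fittingSubgroup (H ⧸ Y) with hFbar
  have hFodd : Odd (Nat.card Fbar) := odd_card_fitting
  have hFself := centralizer_fitting_le (W := H ⧸ Y) hWsol
  set F := Fbar.comap π with hF
  haveI hFn : F.Normal := Subgroup.Normal.comap inferInstance π
  obtain ⟨j, hj⟩ := hall_inf X F k hXidx
  have hcardF : Nat.card F = Nat.card Fbar * Nat.card Y := Cfsg.Agent.H2.card_comap_mk' Y Fbar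
  obtain ⟨y, hy⟩ := IsPGroup.iff_card.1 hYp
  set F₀ := X ⊓ F with hF₀
  have hF₀odd : Odd (Nat.card F₀) :=
    Odd.of_dvd_nat hXodd (Subgroup.card_dvd_of_le inf_le_left)
  have hcardeq : Nat.card Fbar = Nat.card F₀ := by
    apply odd_eq_of_mul_two_pow hFodd hF₀odd (y := y) (j := j)
    rw [← hy, ← hcardF, hj]
  -- Y ⊓ F₀ = ⊥
  have hYF₀ : Y ⊓ F₀ = ⊥ := by
    apply Subgroup.inf_eq_bot_of_coprime
    rw [hy]
    exact (Nat.Coprime.pow_right y (Nat.coprime_two_right.2 hF₀odd)).symm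
  -- the image of F₀ is Fbar
  have hmap : F₀.map π = Fbar := by
    have hle : F₀.map π ≤ Fbar := by
      rintro _ ⟨x, hx, rfl⟩
      exact (Subgroup.mem_inf.1 hx).2
    apply Subgroup.eq_of_le_of_card_ge hle
    have h1 : Nat.card (F₀.map π) = π.ker.relIndex F₀ := (Subgroup.relIndex_ker F₀ π).symm
    rw [h1, hπ, QuotientGroup.ker_mk', ← Subgroup.inf_relIndex_right, hYF₀,
      Subgroup.relIndex_bot_left, hcardeq]
  -- the isomorphism F₀ ≃ Fbar
  set φ : ↥F₀ →* (H ⧸ Y) := π.comp F₀.subtype with hφ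
  have hφinj : Function.Injective φ := by
    rw [← MonoidHom.ker_eq_bot_iff, eq_bot_iff]
    intro x hx
    rw [MonoidHom.mem_ker, hφ, MonoidHom.comp_apply, Subgroup.coe_subtype] at hx
    have hxY : (x : H) ∈ Y := (QuotientGroup.eq_one_iff _).1 hx
    have : (x : H) ∈ Y ⊓ F₀ := Subgroup.mem_inf.2 ⟨hxY, x.2⟩
    rw [hYF₀] at this
    rw [Subgroup.mem_bot]
    exact Subtype.ext (Subgroup.mem_bot.1 this)
  have hrange : φ.range = Fbar := by
    rw [hφ, MonoidHom.range_comp, Subgroup.range_subtype, hmap]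
  let e : ↥F₀ ≃* ↥φ.range := MonoidHom.ofInjective hφinj
  -- F₀ is nilpotent and acts fixed-point-freely, hence cyclic
  have hFbnil : Group.IsNilpotent ↥Fbar := Cfsg.Agent.H1.fittingSubgroup_nilpotent
  have hrnil : Group.IsNilpotent ↥φ.range := by rw [hrange]; exact hFbnil
  have hF₀nil : Group.IsNilpotent ↥F₀ := Group.nilpotent_of_mulEquiv e.symm
  have hF₀cyc : IsCyclic ↥F₀ :=
    Cfsg.Agent.H2.CNSolv.cyclic_of_fpf_odd Y F₀ hY (fpf_subgroup hsol hO hI F₀ hF₀odd) hF₀nil hF₀odd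
  have hrcyc : IsCyclic ↥φ.range := isCyclic_of_surjective e e.surjective
  have hFbcyc : IsCyclic ↥Fbar := by rw [← hrange]; exact hrcyc
  refine ⟨Fbar, inferInstance, hFodd, hFbcyc, hFself, ?_⟩
  -- F ≤ X ⊔ Y
  intro f hf
  have hf' : π f ∈ F₀.map π := by rw [hmap]; exact hf
  obtain ⟨x, hx, hxf⟩ := hf'
  have h1 : x⁻¹ * f ∈ Y := by
    rw [← QuotientGroup.eq]
    exact hxf
  have h2 : f = x * (x⁻¹ * f) := by group
  rw [h2]
  exact mul_mem (Subgroup.mem_sup_left (Subgroup.mem_inf.1 hx).1) (Subgroup.mem_sup_right h1)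

end D

end Part3

section Part4

section E

variable {H : Type*} [Group H] [Finite H]

/-- commutators of a group with a cyclic self-centralizing normal subgroup lie in it -/
theorem commutator_mem_of_cyclic {W : Type*} [Group W] (Fbar : Subgroup W) [Fbar.Normal]
    (hc : IsCyclic Fbar) (hself : Subgroup.centralizer (Fbar : Set W) ≤ Fbar) (g h : W) :
    ⁅g, h⁆ ∈ Fbar := by
  apply hself
  have hcommAut : ∀ a b : MulAut ↥Fbar, a * b = b * a := by
    intro a b
    apply (IsCyclic.mulAutMulEquiv ↥Fbar).injective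
    rw [map_mul, map_mul, mul_comm]
  have h1 : (MulAut.conjNormal (H := Fbar)) ⁅g, h⁆ = 1 := by
    rw [map_commutatorElement, commutatorElement_eq_one_iff_mul_comm]
    exact hcommAut _ _
  rw [Subgroup.mem_centralizer_iff]
  intro f hf
  have h2 : ((MulAut.conjNormal (H := Fbar)) ⁅g, h⁆) ⟨f, hf⟩ = ⟨f, hf⟩ := by
    rw [h1]; rfl
  have h3 := congrArg Subtype.val h2
  rw [MulAut.conjNormal_apply] at h3
  simp only at h3
  calc f * ⁅g, h⁆ = (⁅g, h⁆ * f * ⁅g, h⁆⁻¹) * ⁅g, h⁆ := by rw [h3]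
    _ = ⁅g, h⁆ * f := by group

/-- `2`-elements of `X ⊔ Y` lie in `Y` -/
theorem mem_of_two_pow (X Y : Subgroup H) [Y.Normal] (hXodd : Odd (Nat.card X)) (z : H)
    (hz : z ∈ X ⊔ Y) (a : ℕ) (hza : z ^ 2 ^ a = 1) : z ∈ Y := by
  set L := X ⊔ Y with hL
  have hYL : Y ≤ L := le_sup_right
  haveI hn : (Y.subgroupOf L).Normal := Subgroup.Normal.subgroupOf inferInstance L
  have hcard : Nat.card (↥L ⧸ Y.subgroupOf L) = Y.relIndex X := by
    rw [← Subgroup.index_eq_card]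
    show Y.relIndex L = Y.relIndex X
    rw [hL, Subgroup.relIndex_sup_right]
  have hodd : Odd (Nat.card (↥L ⧸ Y.subgroupOf L)) := by
    rw [hcard]
    exact Odd.of_dvd_nat hXodd (Subgroup.relIndex_dvd_card Y X)
  have h1 : orderOf ((⟨z, hz⟩ : ↥L) : ↥L ⧸ Y.subgroupOf L) ∣ 2 ^ a := by
    apply orderOf_dvd_of_pow_eq_one
    rw [← QuotientGroup.mk_pow]
    have : (⟨z, hz⟩ : ↥L) ^ 2 ^ a = 1 := Subtype.ext (by simpa using hza)
    rw [this]; rfl
  have h2 : orderOf ((⟨z, hz⟩ : ↥L) : ↥L ⧸ Y.subgroupOf L) ∣ Nat.card (↥L ⧸ Y.subgroupOf L) :=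
    orderOf_dvd_natCard _
  have h3 : (Nat.card (↥L ⧸ Y.subgroupOf L)).Coprime (2 ^ a) :=
    Nat.Coprime.pow_right a (Nat.coprime_two_right.2 hodd)
  have h4 : orderOf ((⟨z, hz⟩ : ↥L) : ↥L ⧸ Y.subgroupOf L) = 1 :=
    Nat.eq_one_of_dvd_coprimes h3 h2 h1
  have h5 := (QuotientGroup.eq_one_iff _).1 (orderOf_eq_one_iff.1 h4)
  exact Subgroup.mem_subgroupOf.1 h5

end E

end Part4

section Part5

section F

variable {H : Type*} [Group H] [Finite H]

/-- quaternion groups `Q_{4·2^n}`, `n ≥ 1`, are not commutative -/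
theorem quaternion_not_comm (n : ℕ) (hn : n ≠ 0) :
    ¬ ∀ a b : QuaternionGroup (2 ^ n), a * b = b * a := by
  intro h
  have h1 := h (QuaternionGroup.a 1) (QuaternionGroup.xa 0)
  rw [QuaternionGroup.a_mul_xa, QuaternionGroup.xa_mul_a] at h1
  have h2 : (0 : ZMod (2 * 2 ^ n)) - 1 = 0 + 1 := by
    injection h1
  have h3 : ((2 : ℕ) : ZMod (2 * 2 ^ n)) = 0 := by
    have : (2 : ZMod (2 * 2 ^ n)) = 0 := by
      have e : (2 : ZMod (2 * 2 ^ n)) = (0 + 1) - (0 - 1) := by ring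
      rw [e, h2]; ring
    exact_mod_cast this
  rw [ZMod.natCast_eq_zero_iff] at h3
  have h4 : 2 * 2 ^ n ≤ 2 := Nat.le_of_dvd (by norm_num) h3
  have h5 : 2 ≤ 2 ^ n := by
    calc 2 = 2 ^ 1 := by norm_num
      _ ≤ 2 ^ n := Nat.pow_le_pow_right (by norm_num) (Nat.one_le_iff_ne_zero.2 hn)
  omega

/-- an abelian `2`-group with at most one involution is cyclic -/
theorem isCyclic_of_unique_involution {Q : Type*} [Group Q] [Finite Q] (hQ : IsPGroup 2 Q)
    (hcomm : ∀ a b : Q, a * b = b * a)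
    (huniq : ∀ a b : Q, orderOf a = 2 → orderOf b = 2 → a = b) : IsCyclic Q := by
  haveI : Fact (Nat.Prime 2) := ⟨Nat.prime_two⟩
  have hsub : ∀ A : Subgroup Q, Nat.card A = 2 → ∃ a : Q, orderOf a = 2 ∧ A = Subgroup.zpowers a := by
    intro A hA
    obtain ⟨a, ha⟩ := exists_prime_orderOf_dvd_card' (G := A) 2 (by rw [hA])
    refine ⟨(a : Q), by rw [Subgroup.orderOf_coe]; exact ha, ?_⟩
    have hle : Subgroup.zpowers (a : Q) ≤ A := Subgroup.zpowers_le.2 a.2
    exact (Subgroup.eq_of_le_of_card_ge hle (by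
      rw [Nat.card_zpowers, Subgroup.orderOf_coe, ha, hA])).symm
  have h := Cfsg.Agent.H2.UOP.main 2 hQ (by
    intro A B hA hB
    obtain ⟨a, ha, rfl⟩ := hsub A hA
    obtain ⟨b, hb, rfl⟩ := hsub B hB
    rw [huniq a b ha hb])
  rcases h with h | ⟨-, n, ⟨e⟩⟩
  · exact h
  · by_cases hn : n = 0
    · subst hn
      haveI : IsCyclic (QuaternionGroup (2 ^ 0)) := by
        rw [pow_zero]; exact QuaternionGroup.quaternionGroup_one_isCyclic
      exact isCyclic_of_surjective e.symm e.symm.surjective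
    · exfalso
      apply quaternion_not_comm n hn
      intro a b
      apply e.symm.injective
      rw [map_mul, map_mul]
      exact hcomm _ _

end F

end Part5

section Part6

section G

variable {H : Type*} [Group H] [Finite H]

/-- orders in the quotient `W = H / O_2(H)` are odd or powers of `2` -/
theorem mixed_free_quotient (hsol : Group.IsSolvable H) (hO : Cfsg.oddCore H = ⊥)
    (hI : ∀ t : H, orderOf t = 2 → Cfsg.HasNormalPComplement 2 ↥(Subgroup.centralizer ({t} : Set H)))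
    (w : H ⧸ Cfsg.pCore 2 H) (hw : 2 ∣ orderOf w) : ∃ n : ℕ, orderOf w = 2 ^ n := by
  obtain ⟨g, rfl⟩ := QuotientGroup.mk'_surjective _ w
  have h1 : orderOf (QuotientGroup.mk' (Cfsg.pCore 2 H) g) ∣ orderOf g := orderOf_map_dvd _ g
  obtain ⟨n, hn⟩ := mixed_free hsol hO hI g (hw.trans h1)
  rw [hn] at h1
  obtain ⟨m, -, hm⟩ := (Nat.dvd_prime_pow Nat.prime_two).1 h1
  exact ⟨m, hm⟩

/-- in `W`, an odd-order element commuting with an involution is trivial -/
theorem eq_one_of_commute_involution_quotient (hsol : Group.IsSolvable H) (hO : Cfsg.oddCore H = ⊥)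
    (hI : ∀ t : H, orderOf t = 2 → Cfsg.HasNormalPComplement 2 ↥(Subgroup.centralizer ({t} : Set H)))
    (v z : H ⧸ Cfsg.pCore 2 H) (hv : orderOf v = 2) (hz : Odd (orderOf z)) (hzv : z * v = v * z) :
    z = 1 := by
  have hcop : (orderOf z).Coprime (orderOf v) := by
    rw [hv]; exact Nat.coprime_two_right.2 hz
  have hord : orderOf (z * v) = orderOf z * orderOf v :=
    Commute.orderOf_mul_eq_mul_orderOf_of_coprime hzv hcop
  rw [hv] at hord
  obtain ⟨n, hn⟩ := mixed_free_quotient hsol hO hI (z * v) (by rw [hord]; exact dvd_mul_left 2 _)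
  have h1 : orderOf z ∣ 2 ^ n := by rw [← hn, hord]; exact dvd_mul_right _ _
  have h2 : (orderOf z).Coprime (2 ^ n) := Nat.Coprime.pow_right n (Nat.coprime_two_right.2 hz)
  exact orderOf_eq_one_iff.1 (Nat.Coprime.eq_one_of_dvd h2 h1)

/-- involutions of `W` invert `Fbar` -/
theorem involution_inverts (hsol : Group.IsSolvable H) (hO : Cfsg.oddCore H = ⊥)
    (hI : ∀ t : H, orderOf t = 2 → Cfsg.HasNormalPComplement 2 ↥(Subgroup.centralizer ({t} : Set H)))
    (Fbar : Subgroup (H ⧸ Cfsg.pCore 2 H)) [Fbar.Normal] (hFodd : Odd (Nat.card Fbar))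
    (hFc : IsCyclic Fbar) (v : H ⧸ Cfsg.pCore 2 H) (hv : orderOf v = 2)
    (f : H ⧸ Cfsg.pCore 2 H) (hf : f ∈ Fbar) : v * f * v⁻¹ = f⁻¹ := by
  have hv2 : v * v = 1 := by
    have := pow_orderOf_eq_one v
    rw [hv, pow_two] at this
    exact this
  have hcf : v * f * v⁻¹ ∈ Fbar := Subgroup.Normal.conj_mem inferInstance f hf v
  -- Fbar is commutative
  have hcomm : f * (v * f * v⁻¹) = (v * f * v⁻¹) * f := by
    have := (IsCyclic.commGroup (α := ↥Fbar)).mul_comm ⟨f, hf⟩ ⟨_, hcf⟩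
    exact congrArg Subtype.val this
  have hzF : f * (v * f * v⁻¹) ∈ Fbar := mul_mem hf hcf
  have hzodd : Odd (orderOf (f * (v * f * v⁻¹))) := odd_of_orderOf_odd Fbar hFodd hzF
  have h1 : v * (v * f * v⁻¹) * v⁻¹ = f := by
    calc v * (v * f * v⁻¹) * v⁻¹ = (v * v) * f * (v * v)⁻¹ := by group
      _ = f := by rw [hv2, inv_one, one_mul, mul_one]
  have h2 : v * (f * (v * f * v⁻¹)) * v⁻¹ = f * (v * f * v⁻¹) := by
    calc v * (f * (v * f * v⁻¹)) * v⁻¹ = (v * f * v⁻¹) * (v * (v * f * v⁻¹) * v⁻¹) := by group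
      _ = (v * f * v⁻¹) * f := by rw [h1]
      _ = f * (v * f * v⁻¹) := hcomm.symm
  have hzv : (f * (v * f * v⁻¹)) * v = v * (f * (v * f * v⁻¹)) := by
    calc (f * (v * f * v⁻¹)) * v = (v * (f * (v * f * v⁻¹)) * v⁻¹) * v := by rw [h2]
      _ = v * (f * (v * f * v⁻¹)) := by group
  have hz1 := eq_one_of_commute_involution_quotient hsol hO hI v _ hv hzodd hzv
  exact (eq_inv_of_mul_eq_one_right hz1)

end G

end Part6

section Part7

section HH

variable {H : Type*} [Group H] [Finite H]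

theorem main34 (hsol : Group.IsSolvable H) (hO : Cfsg.oddCore H = ⊥)
    (hI : ∀ t : H, orderOf t = 2 → Cfsg.HasNormalPComplement 2 ↥(Subgroup.centralizer ({t} : Set H)))
    (X : Subgroup H) (hXodd : Odd (Nat.card X)) (k : ℕ) (hXidx : X.index = 2 ^ k) :
    (X ⊔ Cfsg.pCore 2 H).Normal ∧
      ∀ hN : (X ⊔ Cfsg.pCore 2 H).Normal,
        IsCyclic (H ⧸ (X ⊔ Cfsg.pCore 2 H)) ∧ IsPGroup 2 (H ⧸ (X ⊔ Cfsg.pCore 2 H)) := by
  classical
  by_cases hY : Cfsg.pCore 2 H = ⊥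
  · haveI := subsingleton_of_pCore_eq_bot hsol hO hY
    refine ⟨⟨fun n hn g => by rw [Subsingleton.elim (g * n * g⁻¹) n]; exact hn⟩, ?_⟩
    intro hN
    haveI : Subsingleton (H ⧸ (X ⊔ Cfsg.pCore 2 H)) := by
      constructor
      intro a b
      induction a using QuotientGroup.induction_on with
      | H a =>
      induction b using QuotientGroup.induction_on with
      | H b => rw [Subsingleton.elim a b]
    refine ⟨isCyclic_of_subsingleton, ?_⟩
    intro g
    exact ⟨0, Subsingleton.elim _ _⟩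
  obtain ⟨Fbar, hFn, hFodd, hFc, hFself, hFle⟩ := structure_W hsol hO hI X hXodd k hXidx hY
  haveI := hFn
  set Y := Cfsg.pCore 2 H with hYdef
  set π := QuotientGroup.mk' Y with hπ
  -- commutators lie in X ⊔ Y
  have hcomm_mem : ∀ a b : H, ⁅a, b⁆ ∈ X ⊔ Y := by
    intro a b
    apply hFle
    show π ⁅a, b⁆ ∈ Fbar
    rw [map_commutatorElement]
    exact commutator_mem_of_cyclic Fbar hFc hFself _ _
  have hnormal : (X ⊔ Y).Normal := by
    constructor
    intro n hn g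
    have e : g * n * g⁻¹ = ⁅g, n⁆ * n := by
      rw [commutatorElement_def]; group
    rw [e]
    exact mul_mem (hcomm_mem g n) hn
  refine ⟨hnormal, ?_⟩
  intro hN
  -- the quotient is a 2-group
  have hQ2 : IsPGroup 2 (H ⧸ (X ⊔ Y)) := by
    have h1 : (X ⊔ Y).index ∣ 2 ^ k := hXidx ▸ Subgroup.index_dvd_of_le le_sup_left
    obtain ⟨m, -, hm⟩ := (Nat.dvd_prime_pow Nat.prime_two).1 h1
    apply IsPGroup.of_card (n := m)
    rw [← Subgroup.index_eq_card, hm]
  refine ⟨?_, hQ2⟩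
  apply isCyclic_of_unique_involution hQ2
  · -- commutative
    intro a b
    induction a using QuotientGroup.induction_on with
    | H a =>
    induction b using QuotientGroup.induction_on with
    | H b =>
    rw [← QuotientGroup.mk_mul, ← QuotientGroup.mk_mul, QuotientGroup.eq]
    have e : (a * b)⁻¹ * (b * a) = ⁅b⁻¹, a⁻¹⁆ := by
      rw [commutatorElement_def]; group
    rw [e]
    exact hcomm_mem _ _
  · -- unique involution
    have hlift : ∀ q : H ⧸ (X ⊔ Y), orderOf q = 2 →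
        ∃ g : H, (g : H ⧸ (X ⊔ Y)) = q ∧ orderOf (π g) = 2 := by
      intro q hq
      have hq2 : q ^ 2 = 1 := by
        have := pow_orderOf_eq_one q
        rwa [hq] at this
      have hq1 : q ≠ 1 := by
        intro h
        rw [h, orderOf_one] at hq
        norm_num at hq
      induction q using QuotientGroup.induction_on with
      | H g₀ =>
      obtain ⟨a, b, hb, hab⟩ := Nat.exists_eq_two_pow_mul_odd (orderOf_pos g₀).ne'
      obtain ⟨c, hc⟩ := hb
      refine ⟨g₀ ^ b, ?_, ?_⟩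
      · rw [QuotientGroup.mk_pow, hc, pow_succ, pow_mul, hq2, one_pow, one_mul]
      · have hpow : (g₀ ^ b) ^ 2 ^ a = 1 := by
          rw [← pow_mul, mul_comm, ← hab, pow_orderOf_eq_one]
        have hsq : (g₀ ^ b) ^ 2 ∈ X ⊔ Y := by
          rw [← QuotientGroup.eq_one_iff, QuotientGroup.mk_pow, QuotientGroup.mk_pow, ← pow_mul,
            mul_comm, pow_mul, hq2, one_pow]
        have hsqY : (g₀ ^ b) ^ 2 ∈ Y := by
          apply mem_of_two_pow X Y hXodd _ hsq a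
          rw [← pow_mul, mul_comm, pow_mul, hpow, one_pow]
        apply orderOf_eq_prime
        · rw [← map_pow]
          exact (QuotientGroup.eq_one_iff _).2 hsqY
        · intro h1
          have hgY : g₀ ^ b ∈ Y := (QuotientGroup.eq_one_iff _).1 h1
          have hgN : g₀ ^ b ∈ X ⊔ Y := Subgroup.mem_sup_right hgY
          apply hq1
          have h2 : ((g₀ ^ b : H) : H ⧸ (X ⊔ Y)) = 1 := (QuotientGroup.eq_one_iff _).2 hgN
          rw [QuotientGroup.mk_pow, hc, pow_succ, pow_mul, hq2, one_pow, one_mul] at h2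
          exact h2
    intro a b ha hb
    obtain ⟨ga, rfl, hva⟩ := hlift a ha
    obtain ⟨gb, rfl, hvb⟩ := hlift b hb
    have hprod : π (ga * gb) ∈ Fbar := by
      apply hFself
      rw [Subgroup.mem_centralizer_iff]
      intro f hf
      have h1 := involution_inverts hsol hO hI Fbar hFodd hFc (π gb) hvb f hf
      have h2 := involution_inverts hsol hO hI Fbar hFodd hFc (π ga) hva f⁻¹ (inv_mem hf)
      rw [inv_inv] at h2
      rw [map_mul]
      calc f * (π ga * π gb) = (π ga * (π gb * f * (π gb)⁻¹) * (π ga)⁻¹)⁻¹⁻¹ * (π ga * π gb) := by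
            rw [h1, h2, inv_inv]
        _ = π ga * π gb * f := by group
    have hmem : ga * gb ∈ X ⊔ Y := hFle hprod
    have hb2 : ((gb : H) : H ⧸ (X ⊔ Y)) ^ 2 = 1 := by
      have := pow_orderOf_eq_one ((gb : H) : H ⧸ (X ⊔ Y))
      rwa [hb] at this
    have hab1 : ((ga : H) : H ⧸ (X ⊔ Y)) * ((gb : H) : H ⧸ (X ⊔ Y)) = 1 := by
      rw [← QuotientGroup.mk_mul]
      exact (QuotientGroup.eq_one_iff _).2 hmem
    calc ((ga : H) : H ⧸ (X ⊔ Y)) = ((ga : H) : H ⧸ (X ⊔ Y)) * (((gb : H) : H ⧸ (X ⊔ Y)) ^ 2) := by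
          rw [hb2, mul_one]
      _ = (((ga : H) : H ⧸ (X ⊔ Y)) * ((gb : H) : H ⧸ (X ⊔ Y))) * ((gb : H) : H ⧸ (X ⊔ Y)) := by
          rw [pow_two, mul_assoc]
      _ = ((gb : H) : H ⧸ (X ⊔ Y)) := by rw [hab1, one_mul]

theorem result {H : Type*} [Group H] [Finite H] (hsol : Group.IsSolvable H)
    (hO : Cfsg.oddCore H = ⊥)
    (hI : ∀ t : H, orderOf t = 2 → Cfsg.HasNormalPComplement 2 ↥(Subgroup.centralizer ({t} : Set H)))
    (X : Subgroup H) (hXodd : Odd (Nat.card X)) (hXidx : ∃ k : ℕ, X.index = 2 ^ k) :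
    (∀ x ∈ X, x ≠ 1 → ∀ y ∈ Cfsg.pCore 2 H, y ≠ 1 → x * y ≠ y * x) ∧
      (∀ (p : ℕ) [Fact p.Prime] (P : Sylow p ↥X), IsCyclic ↥(P : Subgroup ↥X)) ∧
      (X ⊔ Cfsg.pCore 2 H).Normal ∧
      ∀ hN : (X ⊔ Cfsg.pCore 2 H).Normal, IsCyclic (H ⧸ (X ⊔ Cfsg.pCore 2 H)) ∧ IsPGroup 2 (H ⧸ (X ⊔ Cfsg.pCore 2 H)) := by
  obtain ⟨k, hk⟩ := hXidx
  obtain ⟨h3, h4⟩ := main34 hsol hO hI X hXodd k hk
  exact ⟨part1 hsol hO hI X hXodd, fun p _ P => part2 hsol hO hI X hXodd p P, h3, h4⟩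

end HH

end Part7

end Cfsg.Agent.S3215
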