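import Cfsg.Statements.S5421
import Cfsg.Agent.H9.Cores

set_option autoImplicit false
open Cfsg

namespace Cfsg.Agent.S5421

open scoped commutatorElement

/-- An element `t` with `t * t = 1` normalizing a finite subgroup `K` and having no non-trivial fixed
point in `K` inverts `K`. -/
theorem inverts_of_fixed_point_free {G : Type*} [Group G] (K : Subgroup G) [Finite K] (t : G)
    (ht : t * t = 1) (hN : ∀ k ∈ K, t * k * t⁻¹ ∈ K) (hfix : ∀ k ∈ K, t * k * t⁻¹ = k → k = 1) :
    ∀ k ∈ K, t * k * t⁻¹ = k⁻¹ := by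
  have htinv : t⁻¹ = t := inv_eq_of_mul_eq_one_left ht
  let f : K → K := fun k => ⟨(k : G)⁻¹ * (t * k * t⁻¹), K.mul_mem (K.inv_mem k.2) (hN k k.2)⟩
  have hinj : Function.Injective f := by
    intro k l hkl
    have h1 : (k : G)⁻¹ * (t * k * t⁻¹) = (l : G)⁻¹ * (t * l * t⁻¹) := congrArg Subtype.val hkl
    have h2 : t * ((l : G) * (k : G)⁻¹) * t⁻¹ = (l : G) * (k : G)⁻¹ := by
      have : t * (l : G) * t⁻¹ = (l : G) * ((k : G)⁻¹ * (t * k * t⁻¹)) := by
        rw [h1]; group
      calc t * ((l : G) * (k : G)⁻¹) * t⁻¹ = (t * l * t⁻¹) * (t * k * t⁻¹)⁻¹ := by group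
        _ = (l : G) * ((k : G)⁻¹ * (t * k * t⁻¹)) * (t * k * t⁻¹)⁻¹ := by rw [this]
        _ = (l : G) * (k : G)⁻¹ := by group
    have h3 := hfix _ (K.mul_mem l.2 (K.inv_mem k.2)) h2
    apply Subtype.ext
    have : (l : G) = k := by
      calc (l : G) = ((l : G) * (k : G)⁻¹) * k := by group
        _ = k := by rw [h3, one_mul]
    exact this.symm
  have hsurj : Function.Surjective f := Finite.surjective_of_injective hinj
  intro x hx
  obtain ⟨k, hk⟩ := hsurj ⟨x, hx⟩
  have hxk : x = (k : G)⁻¹ * (t * k * t⁻¹) := (congrArg Subtype.val hk).symm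
  rw [hxk]
  calc t * ((k : G)⁻¹ * (t * k * t⁻¹)) * t⁻¹ = (t * k * t⁻¹)⁻¹ * ((t * t) * k * (t * t)⁻¹) := by group
    _ = (t * k * t⁻¹)⁻¹ * k := by rw [ht]; group
    _ = ((k : G)⁻¹ * (t * k * t⁻¹))⁻¹ := by group

theorem result {G : Type*} [Group G] [Finite G] (Q : Subgroup G) (hL1 : Cfsg.IsExtraspecial 2 ↥Q) (hL2 : Subgroup.centralizer (Q : Set G) = ((Subgroup.center ↥Q).map Q.subtype)) (hL3 : Subgroup.centralizer (((Subgroup.center ↥Q).map Q.subtype) : Set G) ≤ Subgroup.normalizer (Q : Set G)) (b : G) (hbQ : b ∈ Q) (hbZ : b ∉ ((Subgroup.center ↥Q).map Q.subtype)) (hb : orderOf b = 2) (hZ : ((Subgroup.center ↥Q).map Q.subtype) ≤ (Cfsg.pCore 2 ↥(Subgroup.centralizer ({b} : Set G))).map (Subgroup.centralizer ({b} : Set G)).subtype) : Cfsg.IsLargeExtraspecial Q := by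
  refine ⟨hL1, hL2, hL3, ?_⟩
  intro K hK hQK
  have hQ2 : IsPGroup 2 Q := hL1.1.1
  have hcomm : commutator Q = Subgroup.center Q := hL1.1.2.2
  have hZQ : (Subgroup.center ↥Q).map Q.subtype ≤ Q := Subgroup.map_subtype_le _
  -- the generator z of the centre
  obtain ⟨z', hz'1, hz'u⟩ := (Nat.card_eq_two_iff' (1 : Subgroup.center Q)).mp hL1.2
  have hzc : ∀ x : Subgroup.center Q, x = 1 ∨ x = z' := by
    intro x
    by_cases hx : x = 1
    · exact Or.inl hx
    · exact Or.inr (hz'u x hx)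
  set z : G := ((z' : Q) : G) with hz
  have hzZ : z ∈ (Subgroup.center ↥Q).map Q.subtype := ⟨(z' : Q), z'.2, rfl⟩
  have hzQ : z ∈ Q := hZQ hzZ
  have hz1 : z ≠ 1 := by
    intro h
    apply hz'1
    apply Subtype.ext
    apply Subtype.ext
    exact h
  have hZmem : ∀ x ∈ (Subgroup.center ↥Q).map Q.subtype, x = 1 ∨ x = z := by
    rintro x ⟨y, hy, rfl⟩
    rcases hzc ⟨y, hy⟩ with h | h
    · left
      have := congrArg (fun u : Subgroup.center Q => ((u : Q) : G)) h
      exact this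
    · right
      have := congrArg (fun u : Subgroup.center Q => ((u : Q) : G)) h
      exact this
  have hzz : z * z = 1 := by
    have h2 : (z' : Subgroup.center Q) * z' = 1 := by
      rcases hzc (z' * z') with h | h
      · exact h
      · exfalso
        apply hz'1
        have : z' * z' = z' * 1 := by rw [h, mul_one]
        exact mul_left_cancel this
    have := congrArg (fun u : Subgroup.center Q => ((u : Q) : G)) h2
    simpa using this
  -- z commutes with all of Q
  have hzcomm : ∀ q ∈ Q, z * q = q * z := by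
    intro q hq
    have := Subgroup.mem_center_iff.mp z'.2 ⟨q, hq⟩
    have := congrArg (fun u : Q => (u : G)) this
    simpa using this.symm
  -- Step A: C_K(z) = 1
  have hA : ∀ k ∈ K, z * k * z⁻¹ = k → k = 1 := by
    intro k hk hzk
    have hzk' : z * k = k * z := by
      calc z * k = (z * k * z⁻¹) * z := by group
        _ = k * z := by rw [hzk]
    have hkC : k ∈ Subgroup.centralizer (((Subgroup.center ↥Q).map Q.subtype : Subgroup G) : Set G) := by
      rw [Subgroup.mem_centralizer_iff]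
      intro x hx
      rcases hZmem x hx with h | h
      · rw [h]; simp
      · rw [h]; exact hzk'
    have hkN : k ∈ Subgroup.normalizer (Q : Set G) := hL3 hkC
    have hkCQ : k ∈ Subgroup.centralizer (Q : Set G) := by
      rw [Subgroup.mem_centralizer_iff]
      intro q hq
      have hqN : q ∈ Subgroup.normalizer (K : Set G) := hQK hq
      have hc1 : k * q * k⁻¹ * q⁻¹ ∈ Q :=
        Q.mul_mem ((Subgroup.mem_normalizer_iff.mp hkN q).mp hq) (Q.inv_mem hq)
      have hc2 : k * q * k⁻¹ * q⁻¹ ∈ K := by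
        have : q * k⁻¹ * q⁻¹ ∈ K := (Subgroup.mem_normalizer_iff.mp hqN k⁻¹).mp (K.inv_mem hk)
        have := K.mul_mem hk this
        have e : k * (q * k⁻¹ * q⁻¹) = k * q * k⁻¹ * q⁻¹ := by group
        rwa [e] at this
      have := Cfsg.Agent.H9.eq_one_of_mem_odd_of_mem_two hK hQ2 hc2 hc1
      calc q * k = (k * q * k⁻¹ * q⁻¹)⁻¹ * (k * q) := by group
        _ = k * q := by rw [this, inv_one, one_mul]
    have hkQ : k ∈ Q := hZQ (hL2 ▸ hkCQ)
    exact Cfsg.Agent.H9.eq_one_of_mem_odd_of_mem_two hK hQ2 hk hkQ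
  -- z normalizes K etc.
  have hnorm : ∀ q ∈ Q, ∀ k ∈ K, q * k * q⁻¹ ∈ K := by
    intro q hq k hk
    exact (Subgroup.mem_normalizer_iff.mp (hQK hq) k).mp hk
  -- Step B: C_K(b) = 1
  have hB : ∀ k ∈ K, b * k * b⁻¹ = k → k = 1 := by
    intro k hk hbk
    have hbk' : k * b = b * k := by
      calc k * b = (b * k * b⁻¹) * b := by rw [hbk]
        _ = b * k := by group
    have hkC : k ∈ Subgroup.centralizer ({b} : Set G) := by
      rw [Subgroup.mem_centralizer_iff]
      intro x hx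
      rw [Set.mem_singleton_iff] at hx
      rw [hx]; exact hbk'.symm
    set O : Subgroup G := (Cfsg.pCore 2 ↥(Subgroup.centralizer ({b} : Set G))).map (Subgroup.centralizer ({b} : Set G)).subtype with hO
    have hO2 : IsPGroup 2 O := (Cfsg.Agent.H9.pCore_isPGroup 2 _).map _
    have hzO : z ∈ O := hZ hzZ
    have hc1 : z * k * z⁻¹ * k⁻¹ ∈ K := K.mul_mem (hnorm z hzQ k hk) (K.inv_mem hk)
    have hc2 : z * k * z⁻¹ * k⁻¹ ∈ O := by
      obtain ⟨y, hy, hyz⟩ := hzO
      have hn := Cfsg.Agent.H9.pCore_normal 2 ↥(Subgroup.centralizer ({b} : Set G))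
      have h1 : (⟨k, hkC⟩ : Subgroup.centralizer ({b} : Set G)) * y⁻¹ * (⟨k, hkC⟩ : Subgroup.centralizer ({b} : Set G))⁻¹ ∈ Cfsg.pCore 2 ↥(Subgroup.centralizer ({b} : Set G)) :=
        hn.conj_mem _ (Subgroup.inv_mem _ hy) _
      have h2 := Subgroup.mul_mem _ hy h1
      refine ⟨_, h2, ?_⟩
      simp only [Subgroup.coe_subtype, Subgroup.coe_mul, Subgroup.coe_inv] at hyz ⊢
      rw [hyz]; group
    have hc := Cfsg.Agent.H9.eq_one_of_mem_odd_of_mem_two hK hO2 hc1 hc2
    apply hA k hk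
    calc z * k * z⁻¹ = (z * k * z⁻¹ * k⁻¹) * k := by group
      _ = k := by rw [hc, one_mul]
  -- Step C: an element q of Q with q b q⁻¹ = z b
  have hC : ∃ q ∈ Q, q * b * q⁻¹ = z * b := by
    by_contra hcon
    apply hbZ
    refine ⟨⟨b, hbQ⟩, ?_, rfl⟩
    show (⟨b, hbQ⟩ : Q) ∈ Subgroup.center Q
    rw [Subgroup.mem_center_iff]
    intro q
    by_contra hne
    apply hcon
    refine ⟨q, q.2, ?_⟩
    have hcm : ⁅q, (⟨b, hbQ⟩ : Q)⁆ ∈ Subgroup.center Q := by
      rw [← hcomm]
      exact Subgroup.commutator_mem_commutator (Subgroup.mem_top _) (Subgroup.mem_top _)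
    rcases hzc ⟨_, hcm⟩ with h | h
    · exfalso
      apply hne
      have h' : ⁅q, (⟨b, hbQ⟩ : Q)⁆ = 1 := congrArg Subtype.val h
      rw [commutatorElement_eq_one_iff_mul_comm] at h'
      exact h'
    · have h' : ⁅q, (⟨b, hbQ⟩ : Q)⁆ = (z' : Q) := congrArg Subtype.val h
      have h'' := congrArg (fun u : Q => (u : G)) h'
      simp only [commutatorElement_def, Subgroup.coe_mul, Subgroup.coe_inv] at h''
      calc (q : G) * b * (q : G)⁻¹ = ((q : G) * b * (q : G)⁻¹ * b⁻¹) * b := by group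
        _ = z * b := by rw [h'']
  obtain ⟨q, hqQ, hqb⟩ := hC
  have hbb : b * b = 1 := by
    have := pow_orderOf_eq_one b
    rw [hb, pow_two] at this
    exact this
  have hzb : (z * b) * (z * b) = 1 := by
    have := hzcomm b hbQ
    calc (z * b) * (z * b) = z * (b * z) * b := by group
      _ = z * (z * b) * b := by rw [this]
      _ = (z * z) * (b * b) := by group
      _ = 1 := by rw [hzz, hbb, one_mul]
  have hD : ∀ k ∈ K, (z * b) * k * (z * b)⁻¹ = k → k = 1 := by
    intro k hk hk'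
    have hk1 : q⁻¹ * k * q ∈ K := by
      have := hnorm q⁻¹ (Q.inv_mem hqQ) k hk
      simpa using this
    have : q⁻¹ * k * q = 1 := by
      apply hB _ hk1
      rw [← hqb] at hk'
      calc b * (q⁻¹ * k * q) * b⁻¹ = q⁻¹ * ((q * b * q⁻¹) * k * (q * b * q⁻¹)⁻¹) * q := by group
        _ = q⁻¹ * k * q := by rw [hk']
    calc k = q * (q⁻¹ * k * q) * q⁻¹ := by group
      _ = 1 := by rw [this]; group
  have hzbQ : z * b ∈ Q := Q.mul_mem hzQ hbQ
  have i1 := inverts_of_fixed_point_free K z hzz (hnorm z hzQ) hA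
  have i2 := inverts_of_fixed_point_free K b hbb (hnorm b hbQ) hB
  have i3 := inverts_of_fixed_point_free K (z * b) hzb (hnorm (z * b) hzbQ) hD
  rw [eq_bot_iff]
  intro k hk
  rw [Subgroup.mem_bot]
  have h1 : (z * b) * k * (z * b)⁻¹ = k := by
    calc (z * b) * k * (z * b)⁻¹ = z * (b * k * b⁻¹) * z⁻¹ := by group
      _ = z * k⁻¹ * z⁻¹ := by rw [i2 k hk]
      _ = k := by rw [i1 k⁻¹ (K.inv_mem hk), inv_inv]
  exact hD k hk h1

end Cfsg.Agent.S5421
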