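import Cfsg.Statements.S2261
import Mathlib

set_option autoImplicit false
open Cfsg

namespace Cfsg.Agent.S2261
open Polynomial

/-- elements of an extension fixed by the `q`-Frobenius lie in the base field -/
theorem mem_range_of_pow_card {F K : Type*} [Field F] [Fintype F] [Field K] [Algebra F K] (x : K)
    (hx : x ^ Fintype.card F = x) : ∃ c : F, algebraMap F K c = x := by
  classical
  have hq : 1 < Fintype.card F := Fintype.one_lt_card
  have hP : (X ^ Fintype.card F - X : K[X]) ≠ 0 := FiniteField.X_pow_card_sub_X_ne_zero K hq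
  have hdeg : (X ^ Fintype.card F - X : K[X]).natDegree = Fintype.card F :=
    FiniteField.X_pow_card_sub_X_natDegree_eq K hq
  have hS : Finset.univ.image (algebraMap F K) ⊆ (X ^ Fintype.card F - X : K[X]).roots.toFinset := by
    intro y hy
    obtain ⟨c, _, rfl⟩ := Finset.mem_image.mp hy
    rw [Multiset.mem_toFinset, mem_roots hP]
    simp only [IsRoot, eval_sub, eval_pow, eval_X]
    rw [← map_pow, FiniteField.pow_card, sub_self]
  have hcard : (Finset.univ.image (algebraMap F K)).card = Fintype.card F := by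
    rw [Finset.card_image_of_injective _ (algebraMap F K).injective, Finset.card_univ]
  have hle : (X ^ Fintype.card F - X : K[X]).roots.toFinset.card
      ≤ (Finset.univ.image (algebraMap F K)).card := by
    rw [hcard]
    calc (X ^ Fintype.card F - X : K[X]).roots.toFinset.card
        ≤ Multiset.card (X ^ Fintype.card F - X : K[X]).roots := Multiset.toFinset_card_le _
      _ ≤ (X ^ Fintype.card F - X : K[X]).natDegree := Polynomial.card_roots' _
      _ = Fintype.card F := hdeg
  have heq := Finset.eq_of_subset_of_card_le hS hle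
  have hx' : x ∈ (X ^ Fintype.card F - X : K[X]).roots.toFinset := by
    rw [Multiset.mem_toFinset, mem_roots hP]
    simp only [IsRoot, eval_sub, eval_pow, eval_X]
    rw [hx, sub_self]
  rw [← heq] at hx'
  obtain ⟨c, _, hc⟩ := Finset.mem_image.mp hx'
  exact ⟨c, hc⟩

/-- powers of a matrix lie in the span of the first `d` powers -/
theorem pow_mem_range {F : Type*} [Field F] (d : ℕ) (hd : 1 ≤ d) (M : Matrix (Fin d) (Fin d) F) (k : ℕ) :
    M ^ k ∈ LinearMap.range (Fintype.linearCombination F (fun j : Fin d => M ^ (j : ℕ))) := by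
  rw [Fintype.range_linearCombination, Matrix.pow_eq_aeval_mod_charpoly M k]
  set r := (X ^ k %ₘ M.charpoly : F[X]) with hr
  have hdeg : r.degree < (d : WithBot ℕ) := by
    have h1 := Polynomial.degree_modByMonic_lt (X ^ k : F[X]) (Matrix.charpoly_monic M)
    rw [Matrix.charpoly_degree_eq_dim] at h1
    simpa using h1
  rw [Polynomial.aeval_eq_sum_range' (n := d) (by
    rcases eq_or_ne r 0 with h0 | h0
    · rw [h0, natDegree_zero]
      omega
    · exact (Polynomial.natDegree_lt_iff_degree_lt h0).mpr hdeg)]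
  apply Submodule.sum_mem
  intro i hi
  apply Submodule.smul_mem
  apply Submodule.subset_span
  exact ⟨⟨i, Finset.mem_range.mp hi⟩, rfl⟩

/-- a scalar relation between powers gives equal powers in the projective group -/
theorem mk_pow_eq {F : Type*} [Field F] (d : ℕ) (A : GL (Fin d) F) (c c' : Fˣ) (i j : ℕ)
    (h : (c : F) • (A.val : Matrix (Fin d) (Fin d) F) ^ i = (c' : F) • (A.val) ^ j) :
    (QuotientGroup.mk A : GL (Fin d) F ⧸ Subgroup.center (GL (Fin d) F)) ^ i
      = (QuotientGroup.mk A) ^ j := by
  rw [← QuotientGroup.mk_pow, ← QuotientGroup.mk_pow, QuotientGroup.eq]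
  rw [Matrix.GeneralLinearGroup.mem_center_iff_val_mem_range_scalar]
  refine ⟨((c'⁻¹ * c : Fˣ) : F), ?_⟩
  have h1 : (A.val : Matrix (Fin d) (Fin d) F) ^ j
      = ((c'⁻¹ * c : Fˣ) : F) • (A.val : Matrix (Fin d) (Fin d) F) ^ i := by
    rw [Units.val_mul, mul_smul, h, smul_smul]
    simp
  have h2 : (((A ^ i)⁻¹ * A ^ j : GL (Fin d) F)).val
      = ((A ^ i)⁻¹ : GL (Fin d) F).val * (A.val) ^ j := by
    rw [Units.val_mul, Units.val_pow_eq_pow_val]
  rw [h2, h1, Matrix.mul_smul, ← Units.val_pow_eq_pow_val, Units.inv_mul]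
  rw [Matrix.scalar_apply, Matrix.smul_one_eq_diagonal]

theorem upper {F : Type*} [Field F] [Fintype F] (d : ℕ) (hd : 1 ≤ d)
    (g : GL (Fin d) F ⧸ Subgroup.center (GL (Fin d) F)) :
    (Fintype.card F - 1) * orderOf g ≤ Fintype.card F ^ d - 1 := by
  classical
  obtain ⟨A, rfl⟩ := QuotientGroup.mk_surjective g
  have : Nonempty (Fin d) := ⟨⟨0, hd⟩⟩
  set n := orderOf (QuotientGroup.mk A : GL (Fin d) F ⧸ Subgroup.center (GL (Fin d) F)) with hn
  let W := LinearMap.range (Fintype.linearCombination F
    (fun j : Fin d => (A.val : Matrix (Fin d) (Fin d) F) ^ (j : ℕ)))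
  have hne : ∀ (c : Fˣ) (i : ℕ), (c : F) • (A.val : Matrix (Fin d) (Fin d) F) ^ i ≠ 0 := by
    intro c i h
    rcases smul_eq_zero.mp h with h0 | h0
    · exact c.ne_zero h0
    · have : IsUnit ((A.val : Matrix (Fin d) (Fin d) F) ^ i) := by
        rw [← Units.val_pow_eq_pow_val]
        exact (A ^ i).isUnit
      exact this.ne_zero h0
  let ψ : Option (Fˣ × Fin n) → W := fun o => match o with
    | none => 0
    | some (c, i) => ⟨(c : F) • (A.val : Matrix (Fin d) (Fin d) F) ^ (i : ℕ),
        W.smul_mem _ (pow_mem_range d hd _ _)⟩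
  have hψ : Function.Injective ψ := by
    intro o o' h
    match o, o' with
    | none, none => rfl
    | none, some (c, i) =>
      exfalso
      have := congrArg Subtype.val h
      exact hne c i this.symm
    | some (c, i), none =>
      exfalso
      have := congrArg Subtype.val h
      exact hne c i this
    | some (c, i), some (c', j) =>
      have h' : (c : F) • (A.val : Matrix (Fin d) (Fin d) F) ^ (i : ℕ)
          = (c' : F) • (A.val : Matrix (Fin d) (Fin d) F) ^ (j : ℕ) := congrArg Subtype.val h
      have h1 := mk_pow_eq d A c c' i j h'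
      have h2 : (i : ℕ) = j := by
        apply pow_injOn_Iio_orderOf (x := (QuotientGroup.mk A :
          GL (Fin d) F ⧸ Subgroup.center (GL (Fin d) F)))
        · exact i.2
        · exact j.2
        · exact h1
      have hij : i = j := Fin.ext h2
      subst hij
      have h3 : ((c : F) - c') • (A.val : Matrix (Fin d) (Fin d) F) ^ (i : ℕ) = 0 := by
        rw [sub_smul, h', sub_self]
      rcases smul_eq_zero.mp h3 with h0 | h0
      · have : c = c' := Units.ext (sub_eq_zero.mp h0)
        rw [this]
      · exfalso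
        have := hne 1 i
        rw [Units.val_one, one_smul] at this
        exact this h0
  have h1 : Nat.card (Option (Fˣ × Fin n)) ≤ Nat.card W := Nat.card_le_card_of_injective ψ hψ
  have h2 : Nat.card W ≤ Nat.card (Fin d → F) :=
    Nat.card_le_card_of_surjective _ (LinearMap.surjective_rangeRestrict _)
  have h3 : Nat.card (Option (Fˣ × Fin n)) = (Fintype.card F - 1) * n + 1 := by
    rw [Nat.card_eq_fintype_card, Fintype.card_option, Fintype.card_prod, Fintype.card_units,
      Fintype.card_fin]
  have h4 : Nat.card (Fin d → F) = Fintype.card F ^ d := by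
    rw [Nat.card_eq_fintype_card, Fintype.card_fun, Fintype.card_fin]
  rw [h3] at h1
  rw [h4] at h2
  omega

theorem exists_singer {F : Type*} [Field F] [Fintype F] (d : ℕ) (hd : 1 ≤ d) :
    ∃ g : (GL (Fin d) F ⧸ Subgroup.center (GL (Fin d) F)),
      (Fintype.card F - 1) * orderOf g = Fintype.card F ^ d - 1 := by
  classical
  obtain ⟨p, hp⟩ := CharP.exists F
  have : Fact p.Prime := ⟨CharP.char_is_prime F p⟩
  have : NeZero d := ⟨by omega⟩
  let K := FiniteField.Extension F p d
  have hfr : Module.finrank F K = d := FiniteField.finrank_extension F p d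
  have hcardK : Nat.card K = Fintype.card F ^ d := by
    rw [FiniteField.natCard_extension, Nat.card_eq_fintype_card]
  let _ : Fintype K := Fintype.ofFinite K
  have hq : 1 < Fintype.card F := Fintype.one_lt_card
  have hqd : 1 ≤ Fintype.card F ^ d := Nat.one_le_pow _ _ (by omega)
  obtain ⟨ζ, hζ⟩ := IsCyclic.exists_generator (α := Kˣ)
  have hordζ : orderOf ζ = Fintype.card F ^ d - 1 := by
    rw [orderOf_eq_card_of_forall_mem_zpowers hζ, Nat.card_units, hcardK]
  let b : Module.Basis (Fin d) F K := Module.finBasisOfFinrankEq F K hfr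
  let L := Algebra.leftMulMatrix b
  have hLinj : Function.Injective L := Algebra.leftMulMatrix_injective b
  let A : GL (Fin d) F := Units.map (L.toRingHom.toMonoidHom) ζ
  have hAval : ∀ j : ℕ, ((A ^ j : GL (Fin d) F)).val = L ((ζ : K) ^ j) := by
    intro j
    rw [Units.val_pow_eq_pow_val, map_pow]
    rfl
  refine ⟨QuotientGroup.mk A, ?_⟩
  -- characterisation of trivial powers
  have hchar : ∀ j : ℕ, (QuotientGroup.mk A : GL (Fin d) F ⧸ Subgroup.center (GL (Fin d) F)) ^ j = 1
      ↔ ∃ c : F, algebraMap F K c = (ζ : K) ^ j := by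
    intro j
    rw [← QuotientGroup.mk_pow, QuotientGroup.eq_one_iff,
      Matrix.GeneralLinearGroup.mem_center_iff_val_mem_range_scalar, hAval]
    constructor
    · rintro ⟨a, ha⟩
      refine ⟨a, ?_⟩
      apply hLinj
      rw [← ha, AlgHom.commutes]
      rfl
    · rintro ⟨a, ha⟩
      refine ⟨a, ?_⟩
      rw [← ha, AlgHom.commutes]
      rfl
  have hdvd : Fintype.card F - 1 ∣ Fintype.card F ^ d - 1 :=
    Nat.sub_one_dvd_pow_sub_one (Fintype.card F) d
  obtain ⟨e, he⟩ := hdvd
  rw [he]
  congr 1
  have hq1 : 0 < Fintype.card F - 1 := by omega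
  apply Nat.dvd_antisymm
  · apply orderOf_dvd_of_pow_eq_one
    rw [hchar]
    apply mem_range_of_pow_card
    have h1 : ((ζ : K) ^ e) ^ (Fintype.card F - 1) = 1 := by
      rw [← pow_mul, mul_comm, ← he, ← hordζ, ← Units.val_pow_eq_pow_val, pow_orderOf_eq_one]
      rfl
    calc ((ζ : K) ^ e) ^ Fintype.card F = ((ζ : K) ^ e) ^ (Fintype.card F - 1 + 1) := by
          congr 1; omega
      _ = (ζ : K) ^ e := by rw [pow_succ, h1, one_mul]
  · have h1 := pow_orderOf_eq_one (QuotientGroup.mk A :
      GL (Fin d) F ⧸ Subgroup.center (GL (Fin d) F))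
    rw [hchar] at h1
    obtain ⟨c, hc⟩ := h1
    set j := orderOf (QuotientGroup.mk A : GL (Fin d) F ⧸ Subgroup.center (GL (Fin d) F)) with hj
    have hc0 : c ≠ 0 := by
      rintro rfl
      rw [map_zero] at hc
      exact (pow_ne_zero j ζ.ne_zero) hc.symm
    have h2 : ((ζ : K) ^ j) ^ (Fintype.card F - 1) = 1 := by
      rw [← hc, ← map_pow, FiniteField.pow_card_sub_one_eq_one c hc0, map_one]
    have h3 : ζ ^ (j * (Fintype.card F - 1)) = 1 := by
      apply Units.ext
      rw [Units.val_pow_eq_pow_val, pow_mul, h2]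
      rfl
    have h4 := orderOf_dvd_of_pow_eq_one h3
    rw [hordζ, he, mul_comm] at h4
    exact Nat.dvd_of_mul_dvd_mul_right hq1 h4



/-- Let F be a finite field with q elements and d ≥ 1. Then every element of PGL_d(F) = GL_d(F)/Z has order at most (q^d − 1)/(q − 1), and some element (the image of a Singer cycle) has exactly this order. -/
theorem result {F : Type*} [Field F] [Fintype F] (d : ℕ) (hd : 1 ≤ d) :
    (∀ g : (GL (Fin d) F ⧸ Subgroup.center (GL (Fin d) F)), (Fintype.card F - 1) * orderOf g ≤ Fintype.card F ^ d - 1) ∧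
    (∃ g : (GL (Fin d) F ⧸ Subgroup.center (GL (Fin d) F)), (Fintype.card F - 1) * orderOf g = Fintype.card F ^ d - 1) := by
  exact ⟨fun g => upper d hd g, exists_singer d hd⟩

end Cfsg.Agent.S2261
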