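import Mathlib
import Cfsg.Statements.S3761
import Cfsg.Agent.H1.CyclicMaximal
import Cfsg.Agent.H2.CyclicIndexTwo
import Cfsg.Agent.H2.UniqueOrderP
import Cfsg.Agent.Lib.Helper5.DihedralRecog
import Cfsg.Agent.Lib.Lead.PGroup

set_option autoImplicit false
open Cfsg

namespace Cfsg.Agent.S3761

open Cfsg.Agent.H1 Cfsg.Agent.H2 Cfsg.Agent.H2.UOP

universe u

/-- `Ω₁` of the modular group of order `2 ^ N` -/
theorem modular_omega {R : Type u} [Group R] [Finite R] (N : ℕ) (hN : 4 ≤ N)
    (hcard : Nat.card R = 2 ^ N) (a : R) (ha : orderOf a = 2 ^ (N - 1))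
    (hna : ∃ x y : R, x * y ≠ y * x) (hcent : ∀ b : R, b * a ^ 2 = a ^ 2 * b) :
    Cfsg.IsElementaryAbelian 2 (Subgroup.closure {x : R | x ^ 2 = 1}) ∧
      Nat.card (Subgroup.closure {x : R | x ^ 2 = 1}) = 2 ^ 2 := by
  have hN3 : 3 ≤ N := by omega
  obtain ⟨b, hbA, hcases⟩ := CycIdxTwo.classify N hN3 hcard a ha hna
  have hA2 := MaxClassTwo.index_zpowers N hN3 hcard a ha
  have ha4 : a ^ 4 ≠ 1 := by
    intro h
    have h1 := orderOf_dvd_of_pow_eq_one h
    rw [ha] at h1
    have h2 : 2 ^ 3 ∣ 2 ^ (N - 1) := pow_dvd_pow 2 (by omega)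
    have h3 := Nat.le_of_dvd (by norm_num) (h2.trans h1)
    omega
  have hb2 : b * a ^ 2 * b⁻¹ = a ^ 2 := by rw [hcent b]; group
  have hconj2 : b * a ^ 2 * b⁻¹ = (b * a * b⁻¹) ^ 2 := (conj_pow (a := b) (b := a) (i := 2)).symm
  have hinvcase : b * a * b⁻¹ = a⁻¹ → False := by
    intro h
    rw [hconj2, h] at hb2
    apply ha4
    calc a ^ 4 = a ^ 2 * a ^ 2 := by rw [← pow_add]
      _ = a ^ 2 * (a⁻¹) ^ 2 := by rw [hb2]
      _ = 1 := by rw [inv_pow, mul_inv_cancel]
  rcases hcases with ⟨-, h⟩ | ⟨-, h⟩ | ⟨-, hbb, hba⟩ | ⟨-, -, h⟩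
  · exact (hinvcase h).elim
  · exact (hinvcase h).elim
  · -- the modular case
    have hbb' : b * b = 1 := by rw [← pow_two]; exact hbb
    have hb1 : b ≠ 1 := fun h => hbA (h ▸ Subgroup.one_mem _)
    obtain ⟨z, hz⟩ : ∃ z : R, z = a ^ (2 ^ (N - 2)) := ⟨_, rfl⟩
    have hzz : z * z = 1 := by rw [hz]; exact MaxClassTwo.z_sq N hN3 a ha
    have hz1 : z ≠ 1 := by
      intro h
      rw [hz] at h
      have h3 := orderOf_dvd_of_pow_eq_one h
      rw [ha] at h3
      have := (Nat.pow_dvd_pow_iff_le_right (by norm_num)).mp h3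
      omega
    have hzA : z ∈ Subgroup.zpowers a := by
      rw [hz]; exact Subgroup.pow_mem _ (Subgroup.mem_zpowers a) _
    have hza2 : z = (a ^ 2) ^ (2 ^ (N - 3)) := by
      rw [hz, ← pow_mul, ← pow_succ']
      congr 2; omega
    have hbz : b * z = z * b := by
      rw [hza2]
      exact ((show Commute b (a ^ 2) from hcent b).pow_right _).eq
    have hbo : orderOf b = 2 := orderOf_eq_prime hbb hb1
    have hzo : orderOf z = 2 := orderOf_eq_prime (by rw [pow_two]; exact hzz) hz1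
    have hbz' : b ∉ Subgroup.zpowers z := fun h => hbA ((Subgroup.zpowers_le.mpr hzA) h)
    obtain ⟨hE1, hE2, hE3⟩ := elem_abelian_sq_closure Nat.prime_two b z hbz hbo hzo hbz'
    have hzcl : z ∈ Subgroup.closure ({b, z} : Set R) :=
      Subgroup.subset_closure (by simp)
    have hbcl : b ∈ Subgroup.closure ({b, z} : Set R) :=
      Subgroup.subset_closure (by simp)
    have hall : ∀ w : R, w ^ 2 = 1 → w ∈ Subgroup.closure ({b, z} : Set R) := by
      intro w hw
      have hww : w * w = 1 := by rw [← pow_two]; exact hw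
      by_cases hwA : w ∈ Subgroup.zpowers a
      · rcases CycIdxTwo.involution_zpowers N hN3 a ha w hwA hww with h | h
        · rw [h]; exact Subgroup.one_mem _
        · rw [h, ← hz]; exact hzcl
      · have h1 : b⁻¹ * w ∈ Subgroup.zpowers a := IdxTwo.mem_of_not_mem _ hA2 hbA hwA
        rw [← mem_powers_iff_mem_zpowers] at h1
        obtain ⟨i, hi⟩ := h1
        have hi' : a ^ i = b⁻¹ * w := hi
        have hw' : w = b * a ^ i := by rw [hi']; group
        have h2 : w * w = a ^ (i * (2 + 2 ^ (N - 2))) := by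
          calc w * w = (b * a ^ i * b⁻¹) * (b * b) * a ^ i := by rw [hw']; group
            _ = (b * a * b⁻¹) ^ i * a ^ i := by rw [hbb', mul_one, conj_pow]
            _ = a ^ (i * (2 + 2 ^ (N - 2))) := by
                rw [hba, ← pow_mul, ← pow_add]; congr 1; ring
        rw [hww] at h2
        have h3 := orderOf_dvd_of_pow_eq_one h2.symm
        rw [ha] at h3
        have e1 : 2 ^ (N - 1) = 2 * 2 ^ (N - 2) := by rw [← pow_succ']; congr 1; omega
        have e2 : 2 + 2 ^ (N - 2) = 2 * (1 + 2 ^ (N - 3)) := by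
          have : 2 ^ (N - 2) = 2 * 2 ^ (N - 3) := by rw [← pow_succ']; congr 1; omega
          omega
        rw [e1, e2, show i * (2 * (1 + 2 ^ (N - 3))) = 2 * (i * (1 + 2 ^ (N - 3))) by ring] at h3
        have h4 : 2 ^ (N - 2) ∣ i * (1 + 2 ^ (N - 3)) :=
          Nat.dvd_of_mul_dvd_mul_left (by norm_num) h3
        have hcop : Nat.Coprime (2 ^ (N - 2)) (1 + 2 ^ (N - 3)) := by
          apply Nat.Coprime.pow_left
          rw [Nat.Prime.coprime_iff_not_dvd Nat.prime_two]
          have : 2 ^ (N - 3) = 2 * 2 ^ (N - 4) := by rw [← pow_succ']; congr 1; omega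
          omega
        have h5 : 2 ^ (N - 2) ∣ i := hcop.dvd_of_dvd_mul_right h4
        obtain ⟨i', rfl⟩ := h5
        have h6 : a ^ (2 ^ (N - 2) * i') = z ^ i' := by rw [pow_mul, ← hz]
        rw [hw', h6]
        exact Subgroup.mul_mem _ hbcl (Subgroup.pow_mem _ hzcl _)
    have heq : Subgroup.closure {y : R | y ^ 2 = 1} = Subgroup.closure ({b, z} : Set R) := by
      apply le_antisymm
      · rw [Subgroup.closure_le]
        intro y hy
        exact hall y hy
      · apply Subgroup.closure_mono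
        intro y hy
        rcases hy with rfl | rfl
        · exact hbb
        · show y ^ 2 = 1
          rw [pow_two]; exact hzz
    rw [heq]
    exact ⟨⟨hE1, hE3⟩, hE2⟩
  · exfalso
    rw [hconj2, h, ← pow_mul] at hb2
    apply ha4
    have e : (2 ^ (N - 2) - 1) * 2 + 2 = 2 ^ (N - 1) := by
      have h1 : 2 ^ (N - 1) = 2 ^ (N - 2) * 2 := by rw [← pow_succ]; congr 1; omega
      have h2 : 1 ≤ 2 ^ (N - 2) := Nat.one_le_two_pow
      omega
    calc a ^ 4 = a ^ 2 * a ^ 2 := by rw [← pow_add]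
      _ = a ^ ((2 ^ (N - 2) - 1) * 2) * a ^ 2 := by rw [hb2]
      _ = 1 := by rw [← pow_add, e, ← ha, pow_orderOf_eq_one]

/-- `Ω₁(M)` computed inside `M` -/
theorem omegaOne_eq_map {G : Type*} [Group G] (p : ℕ) (M : Subgroup G) :
    Cfsg.omegaOne p M = (Subgroup.closure {x : ↥M | x ^ p = 1}).map M.subtype := by
  unfold Cfsg.omegaOne
  rw [MonoidHom.map_closure]
  congr 1
  ext x
  constructor
  · rintro ⟨hxM, hx⟩
    exact ⟨⟨x, hxM⟩, Subtype.ext (by simpa using hx), rfl⟩
  · rintro ⟨y, hy, rfl⟩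
    refine ⟨y.2, ?_⟩
    have := congrArg Subtype.val hy
    simpa using this

theorem omega_transport {G : Type*} [Group G] (p : ℕ) (M : Subgroup G)
    (h : Cfsg.IsElementaryAbelian p (Subgroup.closure {x : ↥M | x ^ p = 1}) ∧
      Nat.card (Subgroup.closure {x : ↥M | x ^ p = 1}) = p ^ 2) :
    Cfsg.IsElementaryAbelian p (Cfsg.omegaOne p M) ∧ Nat.card (Cfsg.omegaOne p M) = p ^ 2 := by
  rw [omegaOne_eq_map]
  obtain ⟨⟨h1, h2⟩, h3⟩ := h
  refine ⟨⟨?_, ?_⟩, ?_⟩
  · haveI := h1
    infer_instance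
  · rintro _ ⟨y, hy, rfl⟩
    rw [← map_pow, h2 y hy, map_one]
  · rw [Subgroup.card_map_of_injective M.subtype_injective, h3]

/-- a power of `g₀` lying outside `U` with `p`-th power in `U` -/
theorem exists_pow_not_mem {G : Type*} [Group G] {p : ℕ} (hG : IsPGroup p G) (U : Subgroup G)
    (g₀ : G) (h : g₀ ∉ U) : ∃ m : ℕ, g₀ ^ m ∉ U ∧ (g₀ ^ m) ^ p ∈ U := by
  classical
  have hex : ∃ j, g₀ ^ (p ^ j) ∈ U := by
    obtain ⟨k, hk⟩ := hG g₀
    exact ⟨k, hk ▸ U.one_mem⟩
  have hj : g₀ ^ (p ^ Nat.find hex) ∈ U := Nat.find_spec hex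
  have hj0 : Nat.find hex ≠ 0 := by
    intro h0
    rw [h0, pow_zero, pow_one] at hj
    exact h hj
  obtain ⟨j', hj'⟩ : ∃ j', Nat.find hex = j' + 1 := Nat.exists_eq_succ_of_ne_zero hj0
  refine ⟨p ^ j', Nat.find_min hex (by omega), ?_⟩
  rw [← pow_mul, ← pow_succ, ← hj']
  exact hj

/-- the second alternative, given an element of `C_G(℧¹(U))` outside `U` -/
theorem second_alt {G : Type u} [Group G] [Finite G] {p : ℕ} [Fact p.Prime] (hG : IsPGroup p G)
    (U : Subgroup G) [hUnorm : U.Normal] (n : ℕ) (hn2 : 2 ≤ n) (u : G)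
    (hUz : U = Subgroup.zpowers u) (huo : orderOf u = p ^ n)
    (hcentU : ∀ g : G, g * u = u * g → g ∈ U)
    (x : G) (hxM : x * u ^ p = u ^ p * x) (hxU : x ∉ U) (hp2 : p = 2 → 3 ≤ n) :
    U.relIndex (Subgroup.centralizer (Cfsg.powerClosure p 1 U : Set G)) = p ∧
      Cfsg.IsElementaryAbelian p
        (Cfsg.omegaOne p (Subgroup.centralizer (Cfsg.powerClosure p 1 U : Set G))) ∧
      Nat.card ↥(Cfsg.omegaOne p (Subgroup.centralizer (Cfsg.powerClosure p 1 U : Set G))) = p ^ 2 ∧
      (Cfsg.omegaOne p (Subgroup.centralizer (Cfsg.powerClosure p 1 U : Set G))).Characteristic := by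
  have hpp : p.Prime := Fact.out
  have huU : u ∈ U := hUz ▸ Subgroup.mem_zpowers u
  have hUcomm : ∀ g ∈ U, g * u = u * g := by
    intro g hg
    rw [hUz] at hg
    exact MaxClassTwo.zpowers_comm u g hg u (Subgroup.mem_zpowers u)
  obtain ⟨M, hMdef⟩ : ∃ M : Subgroup G,
      M = Subgroup.centralizer (Cfsg.powerClosure p 1 U : Set G) := ⟨_, rfl⟩
  rw [← hMdef]
  -- membership in `M`
  have hpc : Cfsg.powerClosure p 1 U ≤ Subgroup.zpowers (u ^ p) := by
    unfold Cfsg.powerClosure
    rw [Subgroup.closure_le]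
    rintro y ⟨w, hw, rfl⟩
    rw [hUz] at hw
    obtain ⟨i, rfl⟩ := Subgroup.mem_zpowers_iff.mp hw
    rw [pow_one]
    refine Subgroup.mem_zpowers_iff.mpr ⟨i, ?_⟩
    rw [← zpow_natCast, ← zpow_natCast, ← zpow_mul, ← zpow_mul, mul_comm]
  have hMmem : ∀ g : G, g ∈ M ↔ g * u ^ p = u ^ p * g := by
    intro g
    rw [hMdef, Subgroup.mem_centralizer_iff]
    constructor
    · intro h
      have : u ^ p ∈ Cfsg.powerClosure p 1 U :=
        Subgroup.subset_closure ⟨u, huU, by rw [pow_one]⟩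
      exact (h _ this).symm
    · intro h w hw
      obtain ⟨i, rfl⟩ := Subgroup.mem_zpowers_iff.mp (hpc hw)
      exact ((show Commute (u ^ p) g from h.symm).zpow_left i).eq
  have hUM : U ≤ M := by
    intro g hg
    rw [hMmem]
    exact ((show Commute g u from hUcomm g hg).pow_right p).eq
  have hxM' : x ∈ M := (hMmem x).mpr hxM
  -- the central element `z`
  obtain ⟨z, hz⟩ : ∃ z : G, z = u ^ (p ^ (n - 1)) := ⟨_, rfl⟩
  have hzp : z ^ p = 1 := by
    rw [hz, ← pow_mul, ← pow_succ, show n - 1 + 1 = n by omega, ← huo]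
    exact pow_orderOf_eq_one u
  have hz1 : z ≠ 1 := by
    intro h
    rw [hz] at h
    have h3 := orderOf_dvd_of_pow_eq_one h
    rw [huo] at h3
    have := (Nat.pow_dvd_pow_iff_le_right hpp.one_lt).mp h3
    omega
  have hzo : orderOf z = p := orderOf_eq_prime hzp hz1
  have hzup : z = (u ^ p) ^ (p ^ (n - 2)) := by
    rw [hz, ← pow_mul, ← pow_succ']
    congr 2; omega
  have hzu : Commute z u := by rw [hz]; exact (Commute.refl u).pow_left _
  have hMz : ∀ g ∈ M, g * z = z * g := by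
    intro g hg
    rw [hzup]
    exact ((show Commute g (u ^ p) from (hMmem g).mp hg).pow_right _).eq
  -- the action of `M` on `u`
  have hact : ∀ g ∈ M, ∃ t : ℕ, g * u * g⁻¹ = u * z ^ t := by
    intro g hg
    have hUn' : (Subgroup.zpowers u).Normal := hUz ▸ hUnorm
    have h1 : g * u * g⁻¹ ∈ Subgroup.zpowers u := hUn'.conj_mem u (Subgroup.mem_zpowers u) g
    rw [← mem_powers_iff_mem_zpowers] at h1
    obtain ⟨k, hk⟩ := h1
    have hk' : u ^ k = g * u * g⁻¹ := hk
    have h2 : (u ^ k) ^ p = u ^ p := by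
      rw [hk', conj_pow, (hMmem g).mp hg]; group
    rw [← pow_mul] at h2
    have h3 : k * p ≡ p [MOD p ^ n] := by
      rw [← huo]; exact pow_eq_pow_iff_modEq.mp h2
    have h4 : k * p ≡ 1 * p [MOD p ^ (n - 1) * p] := by
      rw [one_mul, ← pow_succ, show n - 1 + 1 = n by omega]; exact h3
    have h5 : k ≡ 1 [MOD p ^ (n - 1)] := Nat.ModEq.mul_right_cancel' hpp.ne_zero h4
    have hk1 : 1 ≤ k := by
      rcases Nat.eq_zero_or_pos k with h0 | h0
      · exfalso
        rw [h0] at h5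
        have h6 := (Nat.modEq_zero_iff_dvd.mp h5.symm)
        have h7 : p ∣ 1 := (dvd_pow_self p (by omega : n - 1 ≠ 0)).trans h6
        exact hpp.one_lt.ne' (Nat.dvd_one.mp h7)
      · exact h0
    obtain ⟨t, ht⟩ := (Nat.modEq_iff_dvd' hk1).mp h5.symm
    refine ⟨t, ?_⟩
    have hk2 : k = 1 + p ^ (n - 1) * t := by omega
    rw [← hk', hk2, pow_add, pow_one, pow_mul, ← hz]
  -- the homomorphism `c`
  obtain ⟨c, hc⟩ : ∃ c : ↥M →* G, ∀ g : ↥M, c g = (g : G) * u * (g : G)⁻¹ * u⁻¹ := by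
    refine ⟨MonoidHom.mk' (fun g : ↥M => (g : G) * u * (g : G)⁻¹ * u⁻¹) ?_, fun g => rfl⟩
    intro g h
    obtain ⟨t, ht⟩ := hact h h.2
    obtain ⟨s, hs⟩ := hact g g.2
    have hgz : (g : G) * z ^ t * (g : G)⁻¹ = z ^ t := by
      have := (show Commute (g : G) z from hMz g g.2).pow_right t
      rw [this.eq]; group
    have hzu' : z ^ t * u⁻¹ = u⁻¹ * z ^ t := ((hzu.pow_left t).inv_right).eq
    have huz : u * z ^ t * u⁻¹ = z ^ t := by
      rw [← (hzu.pow_left t).eq]; group
    show ((g * h : ↥M) : G) * u * ((g * h : ↥M) : G)⁻¹ * u⁻¹ = _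
    rw [Subgroup.coe_mul]
    calc (g : G) * (h : G) * u * ((g : G) * (h : G))⁻¹ * u⁻¹
        = (g : G) * ((h : G) * u * (h : G)⁻¹) * (g : G)⁻¹ * u⁻¹ := by group
      _ = ((g : G) * u * (g : G)⁻¹) * ((g : G) * z ^ t * (g : G)⁻¹) * u⁻¹ := by rw [ht]; group
      _ = ((g : G) * u * (g : G)⁻¹) * (z ^ t * u⁻¹) := by rw [hgz]; group
      _ = ((g : G) * u * (g : G)⁻¹ * u⁻¹) * z ^ t := by rw [hzu']; group
      _ = ((g : G) * u * (g : G)⁻¹ * u⁻¹) * ((h : G) * u * (h : G)⁻¹ * u⁻¹) := by
          rw [ht, huz]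
  have hker : c.ker = U.subgroupOf M := by
    ext g
    rw [MonoidHom.mem_ker, hc, Subgroup.mem_subgroupOf]
    constructor
    · intro h
      apply hcentU
      calc (g : G) * u = ((g : G) * u * (g : G)⁻¹ * u⁻¹) * u * g := by group
        _ = u * g := by rw [h, one_mul]
    · intro h
      rw [hUcomm _ h]; group
  have hrange : c.range ≤ Subgroup.zpowers z := by
    rintro _ ⟨g, rfl⟩
    obtain ⟨t, ht⟩ := hact g g.2
    rw [hc, ht]
    have : u * z ^ t * u⁻¹ = z ^ t := by
      have := (hzu.pow_left t).eq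
      calc u * z ^ t * u⁻¹ = (z ^ t * u) * u⁻¹ := by rw [this]
        _ = z ^ t := by group
    rw [this]
    exact Subgroup.pow_mem _ (Subgroup.mem_zpowers z) t
  have hcardrange : Nat.card c.range = p := by
    have h1 := Subgroup.card_dvd_of_le hrange
    rw [Nat.card_zpowers, hzo] at h1
    rcases (Nat.dvd_prime hpp).mp h1 with h | h
    · exfalso
      rw [Subgroup.card_eq_one] at h
      have h2 : c ⟨x, hxM'⟩ ∈ c.range := ⟨_, rfl⟩
      rw [h, Subgroup.mem_bot, hc] at h2
      apply hxU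
      apply hcentU
      calc x * u = (x * u * x⁻¹ * u⁻¹) * u * x := by group
        _ = u * x := by rw [h2, one_mul]
    · exact h
  have hrel : U.relIndex M = p := by
    show (U.subgroupOf M).index = p
    rw [← hker, Subgroup.index_ker, hcardrange]
  -- the order of `M`
  have hcardU : Nat.card ↥U = p ^ n := by rw [hUz, Nat.card_zpowers, huo]
  have hcardM : Nat.card ↥M = p ^ (n + 1) := by
    have h1 := (U.subgroupOf M).card_mul_index
    rw [show (U.subgroupOf M).index = p from hrel,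
      Nat.card_congr (Subgroup.subgroupOfEquivOfLe hUM).toEquiv, hcardU] at h1
    rw [← h1, pow_succ]
  have hncM : ∃ a b : ↥M, a * b ≠ b * a := by
    refine ⟨⟨x, hxM'⟩, ⟨u, hUM huU⟩, ?_⟩
    intro h
    exact hxU (hcentU x (congrArg Subtype.val h))
  have hnc : ¬ IsCyclic ↥M := by
    intro hcyc
    obtain ⟨a, b, hab⟩ := hncM
    letI := IsCyclic.commGroup (α := ↥M)
    exact hab (mul_comm a b)
  -- `Ω₁(M)` inside `M`
  have hΩ : Cfsg.IsElementaryAbelian p (Subgroup.closure {y : ↥M | y ^ p = 1}) ∧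
      Nat.card (Subgroup.closure {y : ↥M | y ^ p = 1}) = p ^ 2 := by
    by_cases hp2' : p = 2
    · subst hp2'
      have hn3 := hp2 rfl
      apply modular_omega (n + 1) (by omega) hcardM ⟨u, hUM huU⟩
        (by rw [Subgroup.orderOf_mk, huo, Nat.add_sub_cancel]) hncM
      intro b
      apply Subtype.ext
      rw [Subgroup.coe_mul, Subgroup.coe_mul, Subgroup.coe_pow]
      exact (hMmem b).mp b.2
    · apply omega_one_of_cyclic_index_p hp2' (hG.to_subgroup M) hnc (U.subgroupOf M) ?_ hrel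
      haveI : IsCyclic ↥U := by
        rw [hUz]; infer_instance
      exact isCyclic_of_surjective (Subgroup.subgroupOfEquivOfLe hUM).symm
        (Subgroup.subgroupOfEquivOfLe hUM).symm.surjective
  obtain ⟨hEA, hEcard⟩ := omega_transport p M hΩ
  refine ⟨hrel, hEA, hEcard, ?_⟩
  -- `Ω₁(M)` as a set
  have hEM : Cfsg.omegaOne p M ≤ M := by
    unfold Cfsg.omegaOne
    rw [Subgroup.closure_le]
    intro y hy
    exact hy.1
  have hEmem : ∀ y : G, y ∈ Cfsg.omegaOne p M ↔ y ∈ M ∧ y ^ p = 1 := by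
    intro y
    constructor
    · intro hy
      exact ⟨hEM hy, hEA.2 y hy⟩
    · intro hy
      exact Subgroup.subset_closure hy
  -- `M` is normal
  have hMn : ∀ m ∈ M, ∀ g : G, g * m * g⁻¹ ∈ M := by
    intro m hm g
    rw [hMmem]
    have hUn' : (Subgroup.zpowers u).Normal := hUz ▸ hUnorm
    have h1 : g⁻¹ * u * g⁻¹⁻¹ ∈ Subgroup.zpowers u :=
      hUn'.conj_mem u (Subgroup.mem_zpowers u) g⁻¹
    rw [inv_inv, ← mem_powers_iff_mem_zpowers] at h1
    obtain ⟨k, hk⟩ := h1
    have hk' : u ^ k = g⁻¹ * u * g := hk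
    have h2 : g⁻¹ * u ^ p * g = (u ^ p) ^ k := by
      have := conj_pow (a := g⁻¹) (b := u) (i := p)
      rw [inv_inv] at this
      rw [← this, ← hk', ← pow_mul, ← pow_mul, mul_comm]
    have h3 : m * (u ^ p) ^ k = (u ^ p) ^ k * m :=
      ((show Commute m (u ^ p) from (hMmem m).mp hm).pow_right k).eq
    calc g * m * g⁻¹ * u ^ p = g * (m * (g⁻¹ * u ^ p * g)) * g⁻¹ := by group
      _ = g * ((g⁻¹ * u ^ p * g) * m) * g⁻¹ := by rw [h2, h3]
      _ = u ^ p * (g * m * g⁻¹) := by group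
  rw [Subgroup.characteristic_iff_map_le]
  intro ϕ y hy
  obtain ⟨e, he, rfl⟩ := hy
  obtain ⟨heM, hep⟩ := (hEmem e).mp he
  rw [hEmem]
  have hfp : (ϕ e) ^ p = 1 := by rw [← map_pow, hep, map_one]
  refine ⟨?_, hfp⟩
  -- `F = ϕ(E)` is normal of exponent `p`
  have hFn : ∀ g : G, (g * ϕ e * g⁻¹) ^ p = 1 ∧ ∃ e' ∈ Cfsg.omegaOne p M, g * ϕ e * g⁻¹ = ϕ e' := by
    intro g
    obtain ⟨g', rfl⟩ := ϕ.surjective g
    have h1 : g' * e * g'⁻¹ ∈ Cfsg.omegaOne p M := by
      rw [hEmem]
      refine ⟨hMn e heM g', ?_⟩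
      rw [conj_pow, hep]; group
    refine ⟨?_, g' * e * g'⁻¹, h1, by rw [map_mul, map_mul, map_inv]⟩
    rw [conj_pow, hfp]; group
  -- the commutator with `u`
  obtain ⟨d, hd⟩ : ∃ d : G, d = ϕ e * u * (ϕ e)⁻¹ * u⁻¹ := ⟨_, rfl⟩
  have hdU : d ∈ U := by
    rw [hd]
    have h1 : ϕ e * u * (ϕ e)⁻¹ ∈ U := hUnorm.conj_mem u huU (ϕ e)
    exact U.mul_mem h1 (U.inv_mem huU)
  have hdp : d ^ p = 1 := by
    -- `d = ϕ e * (u (ϕ e)⁻¹ u⁻¹)` is a product of two commuting elements of `ϕ(E)`
    obtain ⟨-, e', he', hee'⟩ := hFn u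
    have hinv : u * (ϕ e)⁻¹ * u⁻¹ = ϕ e'⁻¹ := by
      rw [map_inv, ← hee']; group
    have hd' : d = ϕ (e * e'⁻¹) := by
      rw [hd, map_mul, ← hinv]; group
    have hmem : e * e'⁻¹ ∈ Cfsg.omegaOne p M :=
      Subgroup.mul_mem _ he (Subgroup.inv_mem _ he')
    rw [hd', ← map_pow, hEA.2 _ hmem, map_one]
  rw [hMmem]
  have hdu : Commute d u := (hUcomm d hdU)
  have h1 : ϕ e * u * (ϕ e)⁻¹ = d * u := by rw [hd]; group
  have h2 : ϕ e * u ^ p * (ϕ e)⁻¹ = u ^ p := by
    rw [← conj_pow, h1, hdu.mul_pow, hdp, one_mul]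
  calc ϕ e * u ^ p = (ϕ e * u ^ p * (ϕ e)⁻¹) * ϕ e := by group
    _ = u ^ p * ϕ e := by rw [h2]

/-- Let G be a nonabelian p-group of order p^m with a cyclic normal subgroup U of order p^n that is its own centralizer. Then either p = 2, m = n+1 and G is dihedral, generalized quaternion or semidihedral; or M = C_G(℧¹(U)) satisfies #(M:U) = p and Ω₁(M) ≅ C_p × C_p is characteristic in G. -/
theorem result {G : Type*} [Group G] [Finite G] {p : ℕ} [Fact p.Prime] (hG : IsPGroup p G) (hna : ¬ IsMulCommutative G) (U : Subgroup G) [U.Normal] (hU : IsCyclic U) (n : ℕ) (hUn : Nat.card U = p ^ n) (hC : Subgroup.centralizer (U : Set G) = U) : (p = 2 ∧ Nat.card G = 2 ^ (n + 1) ∧ ((∃ m : ℕ, Nonempty (G ≃* DihedralGroup m)) ∨ (∃ m : ℕ, Nonempty (G ≃* QuaternionGroup m)) ∨ Cfsg.IsQuasiDihedral G)) ∨ (U.relIndex (Subgroup.centralizer (Cfsg.powerClosure p 1 U : Set G)) = p ∧ Cfsg.IsElementaryAbelian p (Cfsg.omegaOne p (Subgroup.centralizer (Cfsg.powerClosure p 1 U : Set G))) ∧ Nat.card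 ↥(Cfsg.omegaOne p (Subgroup.centralizer (Cfsg.powerClosure p 1 U : Set G))) = p ^ 2 ∧ (Cfsg.omegaOne p (Subgroup.centralizer (Cfsg.powerClosure p 1 U : Set G))).Characteristic) := by
  have hpp : p.Prime := Fact.out
  obtain ⟨u', hu'⟩ := hU.exists_generator
  obtain ⟨u, huu⟩ : ∃ u : G, u = (u' : G) := ⟨_, rfl⟩
  have hUz : U = Subgroup.zpowers u := by
    ext x
    constructor
    · intro hx
      obtain ⟨k, hk⟩ := Subgroup.mem_zpowers_iff.1 (hu' ⟨x, hx⟩)
      refine Subgroup.mem_zpowers_iff.2 ⟨k, ?_⟩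
      have := congrArg Subtype.val hk
      rw [huu]
      simpa using this
    · intro hx
      rw [huu] at hx
      exact (Subgroup.zpowers_le.2 u'.2) hx
  have huU : u ∈ U := hUz ▸ Subgroup.mem_zpowers u
  have huo : orderOf u = p ^ n := by rw [← Nat.card_zpowers, ← hUz]; exact hUn
  have hUn' : (Subgroup.zpowers u).Normal := hUz ▸ (inferInstance : U.Normal)
  have hUcomm : ∀ g ∈ U, g * u = u * g := by
    intro g hg
    rw [hUz] at hg
    exact MaxClassTwo.zpowers_comm u g hg u (Subgroup.mem_zpowers u)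
  have hcentU : ∀ g : G, g * u = u * g → g ∈ U := by
    intro g hg
    have h1 : g ∈ Subgroup.centralizer (U : Set G) := by
      rw [Subgroup.mem_centralizer_iff]
      intro w hw
      have hw' : w ∈ Subgroup.zpowers u := hUz ▸ hw
      obtain ⟨i, rfl⟩ := Subgroup.mem_zpowers_iff.mp hw'
      exact ((show Commute u g from hg.symm).zpow_left i).eq
    rwa [hC] at h1
  obtain ⟨g₀, hg₀⟩ : ∃ g₀ : G, g₀ ∉ U := by
    by_contra hcon
    push_neg at hcon
    apply hna
    refine ⟨⟨fun a b => ?_⟩⟩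
    have ha := hcon a
    have hb := hcon b
    rw [hUz] at ha hb
    exact MaxClassTwo.zpowers_comm u a ha b hb
  have hn2 : 2 ≤ n := by
    by_contra hlt
    have hucen : ∀ g : G, g * u = u * g := by
      rcases Nat.lt_or_ge n 1 with h0 | h1
      · have h00 : n = 0 := by omega
        rw [h00, pow_zero, orderOf_eq_one_iff] at huo
        intro g; rw [huo, mul_one, one_mul]
      · have hn1 : n = 1 := by omega
        have hUbot : U ≠ ⊥ := by
          intro h
          rw [h, Subgroup.card_bot, hn1, pow_one] at hUn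
          exact hpp.one_lt.ne hUn
        obtain ⟨z, hzU, hzZ, hz1⟩ :=
          Cfsg.Agent.Lib.Lead.PGroup.exists_mem_center_of_normal hG U hUbot
        have hcardU : Nat.card ↥U = p := by rw [hUn, hn1, pow_one]
        have hmem := mem_zpowers_of_prime_card (G := ↥U) hcardU (g := ⟨z, hzU⟩) (g' := ⟨u, huU⟩)
          (by intro h; exact hz1 (congrArg Subtype.val h))
        obtain ⟨i, hi⟩ := Subgroup.mem_zpowers_iff.mp hmem
        have hi' : z ^ i = u := by
          have := congrArg Subtype.val hi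
          simpa using this
        intro g
        rw [← hi']
        exact ((show Commute g z from Subgroup.mem_center_iff.mp hzZ g).zpow_right i).eq
    exact hg₀ (hcentU g₀ (hucen g₀))
  by_cases hp2 : p = 2
  · -- the prime two
    subst hp2
    by_cases hP : ∃ g : G, g ∉ U ∧ ∃ j : ℕ, g⁻¹ * u * g = u ^ (1 + 4 * j)
    · obtain ⟨g₁, hg₁U, j, hj⟩ := hP
      obtain ⟨m, hgU, hgp⟩ := exists_pow_not_mem hG U g₁ hg₁U
      have h1 := conj_pow_formula hj m
      obtain ⟨j', hj'⟩ : ∃ j', (1 + 4 * j) ^ m = 1 + 4 * j' := by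
        have h2 : (1 + 4 * j) ^ m ≡ 1 [MOD 4] := by
          have : 1 + 4 * j ≡ 1 [MOD 4] := by
            show (1 + 4 * j) % 4 = 1 % 4
            omega
          simpa using this.pow m
        have h3 : 1 ≤ (1 + 4 * j) ^ m := Nat.one_le_pow _ _ (by omega)
        obtain ⟨c, hc⟩ := (Nat.modEq_iff_dvd' h3).mp h2.symm
        exact ⟨c, by omega⟩
      rw [hj'] at h1
      obtain ⟨g, hg⟩ : ∃ g : G, g = g₁ ^ m := ⟨_, rfl⟩
      rw [← hg] at h1 hgU hgp
      have hkk : (1 + 4 * j') ^ 2 ≡ 1 [MOD 2 ^ n] := by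
        have h2 := conj_pow_formula h1 2
        have h3 : (g ^ 2)⁻¹ * u * g ^ 2 = u := by
          have := hUcomm (g ^ 2) hgp
          calc (g ^ 2)⁻¹ * u * g ^ 2 = (g ^ 2)⁻¹ * (u * g ^ 2) := by group
            _ = (g ^ 2)⁻¹ * (g ^ 2 * u) := by rw [this]
            _ = u := by group
        rw [h3] at h2
        rw [← huo]
        apply pow_eq_pow_iff_modEq.mp
        rw [pow_one]; exact h2.symm
      have hdvd : 2 ^ n ∣ (1 + 4 * j') ^ 2 - 1 :=
        (Nat.modEq_iff_dvd' (Nat.one_le_pow _ _ (by omega))).mp hkk.symm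
      have e1 : (1 + 4 * j') ^ 2 - 1 = (8 * j') * (2 * j' + 1) := by
        have : (1 + 4 * j') ^ 2 = 1 + (8 * j') * (2 * j' + 1) := by ring
        omega
      rw [e1] at hdvd
      have hcop : Nat.Coprime (2 ^ n) (2 * j' + 1) := by
        apply Nat.Coprime.pow_left
        rw [Nat.Prime.coprime_iff_not_dvd Nat.prime_two]; omega
      have hdvd2 : 2 ^ n ∣ 8 * j' := hcop.dvd_of_dvd_mul_right hdvd
      have hnd : ¬ 2 ^ n ∣ 4 * j' := by
        intro h
        apply hgU; apply hcentU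
        have h4 : u ^ (1 + 4 * j') = u := by
          rw [pow_add, pow_one]
          obtain ⟨c, hc⟩ := h
          rw [hc, pow_mul, ← huo, pow_orderOf_eq_one, one_pow, mul_one]
        rw [h4] at h1
        calc g * u = g * (g⁻¹ * u * g) := by rw [h1]
          _ = u * g := by group
      have hn3 : 3 ≤ n := by
        by_contra hlt
        apply hnd
        have h4 : 2 ^ n ∣ 4 := by
          have hle : n ≤ 2 := by omega
          calc 2 ^ n ∣ 2 ^ 2 := pow_dvd_pow 2 hle
            _ = 4 := by norm_num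
        exact h4.trans (dvd_mul_right 4 j')
      have hdvd3 : 2 ^ (n - 1) ∣ 4 * j' := by
        have e2 : 2 ^ n = 2 * 2 ^ (n - 1) := by rw [← pow_succ']; congr 1; omega
        rw [e2, show 8 * j' = 2 * (4 * j') by ring] at hdvd2
        exact Nat.dvd_of_mul_dvd_mul_left (by norm_num) hdvd2
      obtain ⟨t, ht⟩ := hdvd3
      have hgM : g * u ^ 2 = u ^ 2 * g := by
        have h7 : g⁻¹ * u ^ 2 * g = u ^ 2 := by
          have := conj_pow (a := g⁻¹) (b := u) (i := 2)
          rw [inv_inv] at this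
          rw [← this, h1, ← pow_mul, pow_eq_pow_iff_modEq, huo, ht]
          have e3 : (1 + 2 ^ (n - 1) * t) * 2 = 2 + 2 ^ n * t := by
            have : 2 ^ n = 2 ^ (n - 1) * 2 := by rw [← pow_succ]; congr 1; omega
            rw [this]; ring
          rw [e3]
          show (2 + 2 ^ n * t) % 2 ^ n = 2 % 2 ^ n
          exact Nat.add_mul_mod_self_left _ _ _
        calc g * u ^ 2 = g * (g⁻¹ * u ^ 2 * g) := by rw [h7]
          _ = u ^ 2 * g := by group
      exact Or.inr (second_alt hG U n hn2 u hUz huo hcentU g hgM hgU (fun _ => hn3))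
    · push_neg at hP
      have hQ : ∀ g : G, g ∉ U → ∃ j : ℕ, g⁻¹ * u * g = u ^ (3 + 4 * j) := by
        intro g hg
        obtain ⟨k, hk⟩ := exists_conj_pow u hUn' g
        have hkodd : k % 2 = 1 := by
          by_contra hev
          obtain ⟨k', hk'⟩ : ∃ k', k = 2 * k' := ⟨k / 2, by omega⟩
          have h1 : (g⁻¹ * u * g) ^ (2 ^ (n - 1)) = 1 := by
            rw [hk, hk', ← pow_mul]
            have : 2 * k' * 2 ^ (n - 1) = 2 ^ n * k' := by
              have : 2 ^ n = 2 * 2 ^ (n - 1) := by rw [← pow_succ']; congr 1; omega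
              rw [this]; ring
            rw [this, pow_mul, ← huo, pow_orderOf_eq_one, one_pow]
          have h2 : u ^ (2 ^ (n - 1)) = 1 := by
            have := conj_pow (a := g⁻¹) (b := u) (i := 2 ^ (n - 1))
            rw [inv_inv] at this
            rw [this] at h1
            calc u ^ (2 ^ (n - 1)) = g * (g⁻¹ * u ^ (2 ^ (n - 1)) * g) * g⁻¹ := by group
              _ = 1 := by rw [h1]; group
          have h3 := orderOf_dvd_of_pow_eq_one h2
          rw [huo] at h3
          have := (Nat.pow_dvd_pow_iff_le_right (by norm_num)).mp h3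
          omega
        have hk4 : k % 4 = 1 ∨ k % 4 = 3 := by omega
        rcases hk4 with h | h
        · exfalso
          exact hP g hg (k / 4) (by rw [hk]; congr 1; omega)
        · exact ⟨k / 4, by rw [hk]; congr 1; omega⟩
      have hidx : U.index = 2 := by
        rw [Subgroup.index_eq_two_iff]
        refine ⟨g₀, fun b => ?_⟩
        by_cases hb : b ∈ U
        · right
          refine ⟨hb, fun h => hg₀ ?_⟩
          have := U.mul_mem (U.inv_mem hb) h
          rwa [inv_mul_cancel_left] at this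
        · left
          refine ⟨?_, hb⟩
          by_contra hbg
          obtain ⟨j₁, hj₁⟩ := hQ b hb
          obtain ⟨j₂, hj₂⟩ := hQ g₀ hg₀
          apply hP (b * g₀) hbg (2 + 3 * j₁ + 3 * j₂ + 4 * j₁ * j₂)
          calc (b * g₀)⁻¹ * u * (b * g₀) = g₀⁻¹ * (b⁻¹ * u * b) * g₀ := by group
            _ = g₀⁻¹ * u ^ (3 + 4 * j₁) * g₀ := by rw [hj₁]
            _ = (g₀⁻¹ * u * g₀) ^ (3 + 4 * j₁) := by
                have := conj_pow (a := g₀⁻¹) (b := u) (i := 3 + 4 * j₁)
                rw [inv_inv] at this; exact this.symm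
            _ = u ^ (1 + 4 * (2 + 3 * j₁ + 3 * j₂ + 4 * j₁ * j₂)) := by
                rw [hj₂, ← pow_mul]; congr 1; ring
      have hcardG : Nat.card G = 2 ^ (n + 1) := by
        have := U.card_mul_index
        rw [hidx, hUn] at this
        rw [← this, pow_succ]
      have hnaG : ∃ x y : G, x * y ≠ y * x := by
        by_contra hcon
        push_neg at hcon
        exact hna ⟨⟨hcon⟩⟩
      obtain ⟨b, hbA, hcases⟩ := CycIdxTwo.classify (n + 1) (by omega) hcardG u
        (by rw [Nat.add_sub_cancel]; exact huo) hnaG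
      have hb1 : b ≠ 1 := fun h => hbA (h ▸ Subgroup.one_mem _)
      have e12 : n + 1 - 2 = n - 1 := by omega
      rw [e12] at hcases
      left
      refine ⟨rfl, hcardG, ?_⟩
      rcases hcases with ⟨hb2, h⟩ | ⟨hb2, h⟩ | ⟨hn4, hb2, h⟩ | ⟨hn4, hb2, h⟩
      · -- dihedral
        left
        have hbb : b * b = 1 := by rw [← pow_two]; exact hb2
        refine ⟨2 ^ n, ?_⟩
        apply Cfsg.Agent.Lib.Helper5.DihedralRecog.dihedral_of_involutions (2 ^ n)
          (by rw [hcardG, pow_succ']) b (b * u)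
        · exact orderOf_eq_prime hb2 hb1
        · apply orderOf_eq_prime
          · rw [pow_two]
            calc (b * u) * (b * u) = (b * u * b⁻¹) * (b * b) * u := by group
              _ = 1 := by rw [h, hbb]; group
          · intro h1
            apply hbA
            have : b = u⁻¹ := eq_inv_of_mul_eq_one_left h1
            rw [this]; exact inv_mem (Subgroup.mem_zpowers u)
        · intro h1
          have ha1 : u = 1 := by
            calc u = b⁻¹ * (b * u) := by group
              _ = 1 := by rw [← h1]; group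
          rw [ha1, orderOf_one] at huo
          have : 2 ^ 1 ≤ 2 ^ n := Nat.pow_le_pow_right (by norm_num) (by omega)
          omega
        · have : b * (b * u) = u := by rw [← mul_assoc, hbb, one_mul]
          rw [this, huo]
      · -- quaternion
        right; left
        refine ⟨2 ^ (n - 1), ?_⟩
        haveI : NeZero (2 ^ (n - 1)) := ⟨by positivity⟩
        have h2m : 2 * 2 ^ (n - 1) = 2 ^ n := by rw [← pow_succ']; congr 1; omega
        have hx : u ^ (2 * 2 ^ (n - 1)) = 1 := by rw [h2m, ← huo]; exact pow_orderOf_eq_one u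
        have hy : b * b = u ^ (2 ^ (n - 1)) := by rw [← pow_two]; exact hb2
        have hxy : u * b = b * u⁻¹ := by
          calc u * b = (b * u * b⁻¹)⁻¹ * b := by rw [h, inv_inv]
            _ = b * u⁻¹ := by group
        obtain ⟨f, hfa, hfxa⟩ := UOP.quatHom (2 ^ (n - 1)) u b hx hy hxy
        have hinj := UOP.quatHom_injective (2 ^ (n - 1)) u b f hfa hfxa
          (by rw [h2m]; exact huo) hbA
        have hbij : Function.Bijective f := by
          apply hinj.bijective_of_nat_card_le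
          rw [Nat.card_eq_fintype_card (α := QuaternionGroup (2 ^ (n - 1))), QuaternionGroup.card,
            hcardG]
          have : 2 ^ (n + 1) = 4 * 2 ^ (n - 1) := by
            rw [show n + 1 = (n - 1) + 2 by omega, pow_add]; ring
          omega
        exact ⟨(MulEquiv.ofBijective f hbij).symm⟩
      · -- the modular case cannot occur here
        exfalso
        have hbU : b⁻¹ ∉ U := by
          rw [hUz]; exact fun h' => hbA (inv_mem_iff.mp h')
        apply hP b⁻¹ hbU (2 ^ (n - 3))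
        rw [inv_inv, h]
        congr 1
        have : 2 ^ (n - 1) = 4 * 2 ^ (n - 3) := by
          rw [show n - 1 = (n - 3) + 2 by omega, pow_add]; ring
        omega
      · right; right
        exact ⟨n, by omega, hcardG, u, b, huo, orderOf_eq_prime hb2 hb1, h⟩
  · -- odd primes
    obtain ⟨m, hgU, hgp⟩ := exists_pow_not_mem hG U g₀ hg₀
    obtain ⟨g, hg⟩ : ∃ g : G, g = g₀ ^ m := ⟨_, rfl⟩
    rw [← hg] at hgU hgp
    obtain ⟨k, hk⟩ := exists_conj_pow u hUn' g
    have hgp' : g ^ p ∈ Subgroup.zpowers u := hUz ▸ hgp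
    have hk1 : k ≡ 1 [MOD p] := conj_exponent_modEq_one u g n (by omega) huo k hk hgp'
    have hkp : k ^ p ≡ 1 [MOD p ^ n] := by
      have h2 := conj_pow_formula hk p
      have h3 : (g ^ p)⁻¹ * u * g ^ p = u := by
        have := hUcomm (g ^ p) hgp
        calc (g ^ p)⁻¹ * u * g ^ p = (g ^ p)⁻¹ * (u * g ^ p) := by group
          _ = (g ^ p)⁻¹ * (g ^ p * u) := by rw [this]
          _ = u := by group
      rw [h3] at h2
      rw [← huo]
      apply pow_eq_pow_iff_modEq.mp
      rw [pow_one]; exact h2.symm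
    have hkne : k ≠ 1 := by
      intro h
      rw [h, pow_one] at hk
      apply hgU; apply hcentU
      calc g * u = g * (g⁻¹ * u * g) := by rw [hk]
        _ = u * g := by group
    have hk0 : k ≠ 0 := by
      intro h
      rw [h] at hk1
      have := Nat.modEq_zero_iff_dvd.mp hk1.symm
      exact hpp.one_lt.ne' (Nat.dvd_one.mp this)
    have hk2 : 1 < k := by omega
    have hpk : p ∣ k - 1 := (Nat.modEq_iff_dvd' (by omega)).mp hk1.symm
    have hpk' : ¬ p ∣ k := by
      intro h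
      have h1 : p ∣ k - (k - 1) := Nat.dvd_sub h hpk
      rw [show k - (k - 1) = 1 by omega] at h1
      exact hpp.one_lt.ne' (Nat.dvd_one.mp h1)
    have hodd : Odd p := hpp.odd_of_ne_two hp2
    have hlte := padicValNat.pow_sub_pow hodd hk2 hpk hpk' hpp.ne_zero
    rw [one_pow, padicValNat_self] at hlte
    have hkp1 : 1 ≤ k ^ p := Nat.one_le_pow _ _ (by omega)
    have hdvd : p ^ n ∣ k ^ p - 1 := (Nat.modEq_iff_dvd' hkp1).mp hkp.symm
    have hne0 : k ^ p - 1 ≠ 0 := by
      have : 1 < k ^ p := Nat.one_lt_pow hpp.ne_zero hk2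
      omega
    have h5 := (padicValNat_dvd_iff_le hne0).mp hdvd
    have h6 : p ^ (n - 1) ∣ k - 1 := (padicValNat_dvd_iff_le (by omega)).mpr (by omega)
    obtain ⟨t, ht⟩ := h6
    have hgM : g * u ^ p = u ^ p * g := by
      have h7 : g⁻¹ * u ^ p * g = u ^ p := by
        have := conj_pow (a := g⁻¹) (b := u) (i := p)
        rw [inv_inv] at this
        rw [← this, hk, ← pow_mul, pow_eq_pow_iff_modEq, huo]
        have hk' : k = 1 + p ^ (n - 1) * t := by omega
        rw [hk']
        have e3 : (1 + p ^ (n - 1) * t) * p = p + p ^ n * t := by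
          have : p ^ n = p ^ (n - 1) * p := by rw [← pow_succ]; congr 1; omega
          rw [this]; ring
        rw [e3]
        show (p + p ^ n * t) % p ^ n = p % p ^ n
        exact Nat.add_mul_mod_self_left _ _ _
      calc g * u ^ p = g * (g⁻¹ * u ^ p * g) := by rw [h7]
        _ = u ^ p * g := by group
    exact Or.inr (second_alt hG U n hn2 u hUz huo hcentU g hgM hgU (fun h => absurd h hp2))

end Cfsg.Agent.S3761
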