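import Cfsg.Statements.S0976
import Mathlib
import Cfsg.Agent.Lib.Helper4.Sylow
import Cfsg.Agent.Lib.Helper4.Simple
import Cfsg.Agent.Lib.Helper7.BrP6
import Cfsg.Agent.Lib.Helper7.BrD5
import Cfsg.Agent.S0904

set_option autoImplicit false
open Cfsg

namespace Cfsg.Agent.S0976

set_option maxRecDepth 100000 in
theorem arith_aux : ∀ d ∈ Finset.range 4033, d ∣ 4032 → 1 < d →
    (d % 7 = 1 → (d + 1) ∣ 4032 → d = 8) ∧ ¬(d % 7 = 6 ∧ (d - 1) ∣ 4032) := by
  decide +kernel

/-- No finite simple group has order 4032 = 2^6 * 3^2 * 7. -/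
theorem result {G : Type*} [Group G] [Finite G] [IsSimpleGroup G] : Nat.card G ≠ 4032 := by
  intro hG
  classical
  let _ : Fintype G := Fintype.ofFinite G
  have hp7 : Fact (Nat.Prime 7) := ⟨by norm_num⟩
  have hG' : Nat.card G = 7 ^ 1 * 576 := by rw [hG]; norm_num
  have hm : ¬ 7 ∣ 576 := by norm_num
  obtain ⟨P⟩ : Nonempty (Sylow 7 G) := inferInstance
  have hP : Nat.card (P : Subgroup G) = 7 := by
    simpa using Cfsg.Agent.Lib.Helper4.Sylow.card_sylow_of_card_eq hG' hm P
  -- `C(P) = P` by S0904, hence `|N(P)|` divides `42`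
  have hC0 : Subgroup.centralizer ((P : Subgroup G) : Set G) = (P : Subgroup G) :=
    Cfsg.Agent.S0904.result 2 3 7 6 2 (by norm_num) (by norm_num) (by norm_num) (by norm_num)
      (by norm_num) (by rw [hG]; norm_num) P
  haveI hcyc : IsCyclic (P : Subgroup G) := isCyclic_of_prime_card hP
  have h1 := Cfsg.Agent.Lib.Helper4.Simple.relIndex_centralizer_normalizer_dvd (P : Subgroup G)
  rw [hcyc.card_mulAut, hP, Nat.totient_prime hp7.out, hC0] at h1
  have h2 := Cfsg.Agent.Lib.Helper4.Simple.card_mul_relIndex_normalizer (P : Subgroup G)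
  rw [hP] at h2
  have h3 := Cfsg.Agent.Lib.Helper4.Sylow.card_sylow_mul_card_normalizer P
  rw [hG] at h3
  have h4 : Nat.card (Sylow 7 G) ≡ 1 [MOD 7] := card_sylow_modEq_one 7 G
  unfold Nat.ModEq at h4
  have hN' : Nat.card (Subgroup.normalizer ((P : Subgroup G) : Set G)) = 7 * 2 := by
    set k := (P : Subgroup G).relIndex (Subgroup.normalizer ((P : Subgroup G) : Set G)) with hk
    have hk6 : k ≤ 6 := Nat.le_of_dvd (by norm_num) h1
    rw [← h2] at h3 ⊢
    interval_cases k
    · simp at h1
    · have : Nat.card (Sylow 7 G) = 576 := by omega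
      rw [this] at h4; norm_num at h4
    · rfl
    · have : Nat.card (Sylow 7 G) = 192 := by omega
      rw [this] at h4; norm_num at h4
    · norm_num at h1
    · norm_num at h1
    · have : Nat.card (Sylow 7 G) = 96 := by omega
      rw [this] at h4; norm_num at h4
  have hC := Cfsg.Agent.Lib.Helper7.BrP.self_centralizing_of_simple P hP 2 Nat.prime_two hN'
    (by rw [hG]; norm_num)
  have hperf := Cfsg.Agent.Lib.Helper7.BrP.linear_eq_triv_of_simple (G := G)
    (by rw [hG]; norm_num)
  -- an element of `N(P) \ P`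
  obtain ⟨t, htN, htP⟩ : ∃ t ∈ Subgroup.normalizer ((P : Subgroup G) : Set G),
      t ∉ (P : Subgroup G) := by
    by_contra hcon
    push Not at hcon
    have hle : Subgroup.normalizer ((P : Subgroup G) : Set G) ≤ (P : Subgroup G) :=
      fun x hx => hcon x hx
    have := Subgroup.card_le_of_le hle
    rw [hN', hP] at this
    omega
  obtain ⟨d, D, δ, m, hδ, hd, hD, hd1, hcong, hDd, hm2⟩ :=
    Cfsg.Agent.Lib.Helper7.BrD.dihedral_square (P : Subgroup G) (by norm_num) hP hC hN' hperf
      (by norm_num) htN htP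
  rw [hG] at hd hD hm2
  have hdle := Nat.le_of_dvd (by norm_num) hd
  have key := arith_aux d (Finset.mem_range.mpr (by omega)) hd hd1
  obtain ⟨c, hc⟩ := hcong
  rcases hδ with rfl | rfl
  · have hD' : D = d + 1 := by omega
    rw [hD'] at hD
    have hd8 : d = 8 := key.1 (by omega) hD
    rw [hD', hd8] at hm2
    norm_num at hm2
    -- `m ^ 2 = 2032128` is impossible
    have h5 : m.natAbs ^ 2 = 2032128 := by
      have := congrArg Int.natAbs hm2
      rw [Int.natAbs_pow] at this
      simpa using this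
    have h6 : m.natAbs < 1426 := by nlinarith
    have h7 : 1425 < m.natAbs := by
      by_contra hcon
      push Not at hcon
      have h8 : m.natAbs ^ 2 ≤ 1425 ^ 2 := Nat.pow_le_pow_left hcon 2
      rw [h5] at h8
      norm_num at h8
    omega
  · apply key.2
    refine ⟨by omega, ?_⟩
    have : d - 1 = D := by omega
    rw [this]
    exact hD

end Cfsg.Agent.S0976
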