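import Cfsg.Statements.S0979
import Mathlib
import Cfsg.Agent.Lib.Helper4.Sylow
import Cfsg.Agent.Lib.Helper7.BrP6

set_option autoImplicit false
open Cfsg

namespace Cfsg.Agent.S0979

set_option maxRecDepth 100000 in
theorem arith_aux : ∀ d ∈ Finset.range 5473, d ∣ 5472 → 1 < d →
    (d % 19 = 1 → d = 96) ∧ (d % 19 = 18 → d = 18) := by
  decide +kernel

/-- No finite simple group has order 5472 = 2^5 * 3^2 * 19. -/
theorem result {G : Type*} [Group G] [Finite G] [IsSimpleGroup G] : Nat.card G ≠ 5472 := by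
  intro hG
  classical
  let _ : Fintype G := Fintype.ofFinite G
  have : Fact (Nat.Prime 19) := ⟨by norm_num⟩
  have hG' : Nat.card G = 19 ^ 1 * 288 := by rw [hG]; norm_num
  have hm : ¬ 19 ∣ 288 := by norm_num
  obtain ⟨P⟩ : Nonempty (Sylow 19 G) := inferInstance
  have hP : Nat.card (P : Subgroup G) = 19 := by
    simpa using Cfsg.Agent.Lib.Helper4.Sylow.card_sylow_of_card_eq hG' hm P
  have hdvd : Nat.card (Sylow 19 G) ∣ 288 :=
    Cfsg.Agent.Lib.Helper4.Sylow.card_sylow_dvd_of_card_eq hG' hm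
  have hmod : Nat.card (Sylow 19 G) ≡ 1 [MOD 19] := card_sylow_modEq_one 19 G
  have hne : Nat.card (Sylow 19 G) ≠ 1 :=
    Cfsg.Agent.Lib.Helper4.Sylow.card_sylow_ne_one_of_simple P (by rw [hP]; norm_num)
      (by rw [hP, hG]; norm_num)
  have hn : Nat.card (Sylow 19 G) = 96 := by
    have hle := Nat.le_of_dvd (by norm_num) hdvd
    unfold Nat.ModEq at hmod
    generalize Nat.card (Sylow 19 G) = n at *
    interval_cases n <;> omega
  have hN := Cfsg.Agent.Lib.Helper4.Sylow.card_sylow_mul_card_normalizer P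
  rw [hn, hG] at hN
  have hN' : Nat.card (Subgroup.normalizer ((P : Subgroup G) : Set G)) = 19 * 3 := by omega
  have hC := Cfsg.Agent.Lib.Helper7.BrP.self_centralizing_of_simple P hP 3 Nat.prime_three hN'
    (by rw [hG]; norm_num)
  have hperf := Cfsg.Agent.Lib.Helper7.BrP.linear_eq_triv_of_simple (G := G)
    (by rw [hG]; norm_num)
  obtain ⟨d₁, d₂, D, m₁, m₂, ε, hm₁, hm₂, hε, hd₁, hd₂, hD, hd₁1, hd₂1, hcong₁, hcong₂, heq⟩ :=
    Cfsg.Agent.Lib.Helper7.BrP.cor_three (P : Subgroup G) hperf (by norm_num) hP hC hN'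
      (by norm_num)
  rw [hG] at hd₁ hd₂ hD
  have hd₁le := Nat.le_of_dvd (by norm_num) hd₁
  have hd₂le := Nat.le_of_dvd (by norm_num) hd₂
  have key₁ := arith_aux d₁ (Finset.mem_range.mpr (by omega)) hd₁ hd₁1
  have key₂ := arith_aux d₂ (Finset.mem_range.mpr (by omega)) hd₂ hd₂1
  obtain ⟨c₁, hc₁⟩ := hcong₁
  obtain ⟨c₂, hc₂⟩ := hcong₂
  have h1 : (m₁ = 1 ∧ d₁ = 96) ∨ (m₁ = -1 ∧ d₁ = 18) := by
    rcases hm₁ with rfl | rfl
    · exact Or.inl ⟨rfl, key₁.1 (by omega)⟩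
    · exact Or.inr ⟨rfl, key₁.2 (by omega)⟩
  have h2 : (m₂ = 1 ∧ d₂ = 96) ∨ (m₂ = -1 ∧ d₂ = 18) := by
    rcases hm₂ with rfl | rfl
    · exact Or.inl ⟨rfl, key₂.1 (by omega)⟩
    · exact Or.inr ⟨rfl, key₂.2 (by omega)⟩
  rcases h1 with ⟨rfl, rfl⟩ | ⟨rfl, rfl⟩ <;> rcases h2 with ⟨rfl, rfl⟩ | ⟨rfl, rfl⟩ <;>
    rcases hε with rfl | rfl
  · have : D = 193 := by omega
    subst this; omega
  · omega
  · have : D = 79 := by omega
    subst this; omega
  · omega
  · have : D = 79 := by omega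
    subst this; omega
  · omega
  · omega
  · have : D = 35 := by omega
    subst this; omega

end Cfsg.Agent.S0979
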