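import Cfsg.Statements.S0980
import Mathlib
import Cfsg.Agent.Lib.Helper4.Sylow
import Cfsg.Agent.Lib.Helper4.Simple
import Cfsg.Agent.Lib.Helper7.BrP6
import Cfsg.Agent.Lib.Helper7.BrD9
import Cfsg.Agent.S0904

set_option autoImplicit false
open Cfsg

namespace Cfsg.Agent.S0980

/-- a group of order `5760` has an involution whose centralizer has order divisible by `128` -/
theorem exists_two_central {G : Type*} [Group G] [Finite G] (hG : Nat.card G = 5760) :
    ∃ z : G, orderOf z = 2 ∧ 128 ∣ Nat.card (Subgroup.centralizer ({z} : Set G)) := by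
  have hp2 : Fact (Nat.Prime 2) := ⟨Nat.prime_two⟩
  obtain ⟨S⟩ : Nonempty (Sylow 2 G) := inferInstance
  have hG2 : Nat.card G = 2 ^ 7 * 45 := by rw [hG]; norm_num
  have hS : Nat.card (S : Subgroup G) = 128 := by
    simpa using Cfsg.Agent.Lib.Helper4.Sylow.card_sylow_of_card_eq hG2 (by norm_num) S
  haveI : Nontrivial (S : Subgroup G) := by
    rw [← Finite.one_lt_card_iff_nontrivial, hS]; norm_num
  haveI hcen : Nontrivial (Subgroup.center (S : Subgroup G)) := S.2.center_nontrivial
  have h2dvd : 2 ∣ Nat.card (Subgroup.center (S : Subgroup G)) := by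
    rcases (S.2.to_subgroup (Subgroup.center (S : Subgroup G))).card_eq_or_dvd with h | h
    · exfalso
      have := Finite.one_lt_card_iff_nontrivial.2 hcen
      omega
    · exact h
  obtain ⟨z, hz⟩ := exists_prime_orderOf_dvd_card' (G := Subgroup.center (S : Subgroup G)) 2 h2dvd
  refine ⟨((z : (S : Subgroup G)) : G), ?_, ?_⟩
  · rw [Subgroup.orderOf_coe, Subgroup.orderOf_coe, hz]
  · rw [← hS]
    apply Subgroup.card_dvd_of_le
    intro x hx
    rw [Subgroup.mem_centralizer_iff]
    intro h hh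
    rw [Set.mem_singleton_iff] at hh
    rw [hh]
    have h1 := Subgroup.mem_center_iff.1 z.2 ⟨x, hx⟩
    have h2 := congrArg (Subtype.val) h1
    simpa using h2.symm

/-- No finite simple group has order 5760 = 2^7 * 3^2 * 5. -/
theorem result {G : Type*} [Group G] [Finite G] [IsSimpleGroup G] : Nat.card G ≠ 5760 := by
  intro hG
  classical
  have hp5 : Fact (Nat.Prime 5) := ⟨by norm_num⟩
  have hG' : Nat.card G = 5 ^ 1 * 1152 := by rw [hG]; norm_num
  have hm : ¬ 5 ∣ 1152 := by norm_num
  obtain ⟨P⟩ : Nonempty (Sylow 5 G) := inferInstance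
  have hP : Nat.card (P : Subgroup G) = 5 := by
    simpa using Cfsg.Agent.Lib.Helper4.Sylow.card_sylow_of_card_eq hG' hm P
  -- `C(P) = P` by S0904, hence `|N(P)|` divides `20`
  have hC0 : Subgroup.centralizer ((P : Subgroup G) : Set G) = (P : Subgroup G) :=
    Cfsg.Agent.S0904.result 2 3 5 7 2 (by norm_num) (by norm_num) (by norm_num) (by norm_num)
      (by norm_num) (by rw [hG]; norm_num) P
  haveI hcyc : IsCyclic (P : Subgroup G) := isCyclic_of_prime_card hP
  have h1 := Cfsg.Agent.Lib.Helper4.Simple.relIndex_centralizer_normalizer_dvd (P : Subgroup G)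
  rw [hcyc.card_mulAut, hP, Nat.totient_prime hp5.out, hC0] at h1
  have h2 := Cfsg.Agent.Lib.Helper4.Simple.card_mul_relIndex_normalizer (P : Subgroup G)
  rw [hP] at h2
  have h3 := Cfsg.Agent.Lib.Helper4.Sylow.card_sylow_mul_card_normalizer P
  rw [hG] at h3
  have h4 : Nat.card (Sylow 5 G) ≡ 1 [MOD 5] := card_sylow_modEq_one 5 G
  unfold Nat.ModEq at h4
  have hN' : Nat.card (Subgroup.normalizer ((P : Subgroup G) : Set G)) = 5 * 2 := by
    set k := (P : Subgroup G).relIndex (Subgroup.normalizer ((P : Subgroup G) : Set G)) with hk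
    have hk4 : k ≤ 4 := Nat.le_of_dvd (by norm_num) h1
    rw [← h2] at h3 ⊢
    interval_cases k
    · simp at h1
    · have : Nat.card (Sylow 5 G) = 1152 := by omega
      rw [this] at h4; norm_num at h4
    · rfl
    · norm_num at h1
    · have : Nat.card (Sylow 5 G) = 288 := by omega
      rw [this] at h4; norm_num at h4
  have hC := Cfsg.Agent.Lib.Helper7.BrP.self_centralizing_of_simple P hP 2 Nat.prime_two hN'
    (by rw [hG]; norm_num)
  obtain ⟨z, hz2, hz128⟩ := exists_two_central hG
  obtain ⟨d, hd4, hbound⟩ :=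
    Cfsg.Agent.Lib.Helper7.BrD.dihedral_normalizer_bound (P : Subgroup G) (by norm_num) le_rfl hP
      hC hN' z hz2
  rw [hG] at hbound
  set k := Nat.card (Subgroup.centralizer ({z} : Set G)) with hk
  have hkpos : 0 < k := Nat.card_pos
  have hk128 : 128 ≤ k := Nat.le_of_dvd hkpos hz128
  have hksq : 128 ^ 2 ≤ k ^ 2 := Nat.pow_le_pow_left hk128 2
  have h5 : 5 * 128 ^ 2 * (d - 1) ≤ 5 * k ^ 2 * (d - 1) :=
    Nat.mul_le_mul_right _ (Nat.mul_le_mul_left _ hksq)
  have h6 := h5.trans hbound
  omega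

end Cfsg.Agent.S0980
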