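import Mathlib
import Cfsg.Statements.S3225

set_option autoImplicit false
open Cfsg

namespace Cfsg.Agent.S3225

/-- Let G be a finite group of even order with no subgroup of index 2, S a Sylow 2-subgroup of G and M a subgroup of index 2 in S such that, for some n ≥ 1, every element of S outside M has order greater than 2^(n−1). Then every element of S of order 2ⁿ is conjugate in G to an element of M. -/
theorem result {G : Type*} [Group G] [Finite G] (hev : Even (Nat.card G))
    (hG : ∀ H : Subgroup G, H.index ≠ 2) (S : Sylow 2 G) (M : Subgroup G) (hMS : M ≤ (S : Subgroup G)) (hM : M.relIndex (S : Subgroup G) = 2)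
    (n : ℕ) (hn : 1 ≤ n) (hord : ∀ y ∈ (S : Subgroup G), y ∉ M → 2 ^ (n - 1) < orderOf y)
    (x : G) (hx : x ∈ (S : Subgroup G)) (hxn : orderOf x = 2 ^ n) :
    ∃ g : G, g * x * g⁻¹ ∈ M := by
  classical
  by_contra hcon
  have hcon' : ∀ g : G, g * x * g⁻¹ ∉ M := fun g hg => hcon ⟨g, hg⟩
  have h2 : Fact (Nat.Prime 2) := ⟨Nat.prime_two⟩
  -- the sign homomorphism S → ℤˣ with kernel M
  have hM' : (M.subgroupOf (S : Subgroup G)).index = 2 := hM
  let ϕ : (S : Subgroup G) →* ℤˣ :=
    { toFun := fun s => if (s : G) ∈ M then 1 else -1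
      map_one' := by simp [M.one_mem]
      map_mul' := by
        intro a b
        have key := Subgroup.mul_mem_iff_of_index_two hM' (a := a) (b := b)
        simp only [Subgroup.mem_subgroupOf, Subgroup.coe_mul] at key
        by_cases ha : (a : G) ∈ M <;> by_cases hb : (b : G) ∈ M <;>
          simp [ha, hb, key] }
  have hϕ_in : ∀ s : (S : Subgroup G), (s : G) ∈ M → ϕ s = 1 := by
    intro s hs
    show (if (s : G) ∈ M then (1 : ℤˣ) else -1) = 1
    rw [if_pos hs]
  have hϕ_out : ∀ s : (S : Subgroup G), (s : G) ∉ M → ϕ s = -1 := by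
    intro s hs
    show (if (s : G) ∈ M then (1 : ℤˣ) else -1) = -1
    rw [if_neg hs]
  let t : G →* ℤˣ := MonoidHom.transfer ϕ
  have : Fintype (Quotient (MulAction.orbitRel (Subgroup.zpowers x) (G ⧸ (S : Subgroup G)))) :=
    Fintype.ofFinite _
  -- minimal periods are powers of two
  have hper : ∀ q : G ⧸ (S : Subgroup G),
      ∃ j, j ≤ n ∧ Function.minimalPeriod (x • ·) q = 2 ^ j := by
    intro q
    have hp : Function.IsPeriodicPt (x • · : G ⧸ (S : Subgroup G) → _) (2 ^ n) q := by
      show (x • · : G ⧸ (S : Subgroup G) → _)^[2 ^ n] q = q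
      rw [smul_iterate, ← hxn, pow_orderOf_eq_one]
      exact one_smul _ q
    exact (Nat.dvd_prime_pow Nat.prime_two).1 hp.minimalPeriod_dvd
  -- values of the factors
  have hval : ∀ q : Quotient (MulAction.orbitRel (Subgroup.zpowers x) (G ⧸ (S : Subgroup G))),
      ϕ ⟨q.out.out⁻¹ * x ^ Function.minimalPeriod (x • ·) q.out * q.out.out,
            QuotientGroup.out_conj_pow_minimalPeriod_mem (S : Subgroup G) x q.out⟩
        = if Odd (Function.minimalPeriod (x • ·) q.out) then -1 else 1 := by
    intro q
    obtain ⟨j, hj, hjq⟩ := hper q.out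
    have hmem := QuotientGroup.out_conj_pow_minimalPeriod_mem (S : Subgroup G) x q.out
    by_cases hodd : Odd (Function.minimalPeriod (x • ·) q.out)
    · rw [if_pos hodd]
      apply hϕ_out
      have hj0 : j = 0 := by
        by_contra hj0
        rw [hjq] at hodd
        exact (Nat.not_even_iff_odd.2 hodd) ((Nat.even_pow' hj0).2 even_two)
      show q.out.out⁻¹ * x ^ Function.minimalPeriod (x • ·) q.out * q.out.out ∉ M
      rw [hjq, hj0, pow_zero, pow_one]
      have := hcon' (q.out.out⁻¹)
      rwa [inv_inv] at this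
    · rw [if_neg hodd]
      apply hϕ_in
      show q.out.out⁻¹ * x ^ Function.minimalPeriod (x • ·) q.out * q.out.out ∈ M
      by_contra hnot
      have hlt := hord _ hmem hnot
      have hj0 : j ≠ 0 := by
        intro hj0
        apply hodd
        rw [hjq, hj0, pow_zero]
        exact odd_one
      have hoo : orderOf (q.out.out⁻¹ * x ^ Function.minimalPeriod (x • ·) q.out * q.out.out)
          = 2 ^ (n - j) := by
        have h1 : q.out.out⁻¹ * x ^ Function.minimalPeriod (x • ·) q.out * q.out.out
            = MulAut.conj (q.out.out⁻¹) (x ^ Function.minimalPeriod (x • ·) q.out) := by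
          simp
        rw [h1, MulEquiv.orderOf_eq, hjq]
        have hdvd : 2 ^ j ∣ orderOf x := by
          rw [hxn]; exact pow_dvd_pow 2 hj
        rw [orderOf_pow_of_dvd (by positivity) hdvd, hxn, Nat.pow_div hj (by norm_num)]
      rw [hoo] at hlt
      have : n - j ≤ n - 1 := by omega
      exact absurd (Nat.pow_le_pow_right (by norm_num : 0 < 2) this) (not_le.2 hlt)
  have htx : t x = -1 := by
    show MonoidHom.transfer ϕ x = -1
    rw [MonoidHom.transfer_eq_prod_quotient_orbitRel_zpowers_quot]
    rw [Finset.prod_congr rfl (fun q _ => hval q)]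
    rw [Finset.prod_ite, Finset.prod_const, Finset.prod_const_one, mul_one]
    apply Odd.neg_one_pow
    rw [← Finset.odd_sum_iff_odd_card_odd, ← Subgroup.index_eq_sum_minimalPeriod]
    have := S.not_dvd_index
    exact Nat.not_even_iff_odd.1 (fun h => this (even_iff_two_dvd.1 h))
  apply hG t.ker
  rw [Subgroup.index_eq_two_iff]
  refine ⟨x, fun b => ?_⟩
  rw [MonoidHom.mem_ker, MonoidHom.mem_ker, map_mul, htx]
  rcases Int.units_eq_one_or (t b) with h | h <;> rw [h] <;> simp

end Cfsg.Agent.S3225
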