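import Mathlib
import Cfsg.Statements.S0727
import Cfsg.Agent.H2.SharpThreeB
import Cfsg.Agent.S0265

set_option autoImplicit false
open Cfsg

namespace Cfsg.Agent.S0727

/-- A sharply triply transitive permutation group of degree `2^f + 1` is isomorphic to the projective general linear group of degree 2 over the field with `2^f` elements. -/
theorem result {α : Type*} [Fintype α] [DecidableEq α] {f : ℕ} (hf : 1 ≤ f) (hα : Fintype.card α = 2 ^ f + 1) (G : Subgroup (Equiv.Perm α)) (h3 : MulAction.IsMultiplyPretransitive G α 3) (hsharp : ∀ x : Fin 3 ↪ α, MulAction.stabilizer G x = ⊥) : ∃ (F : Type) (_ : Field F) (_ : Fintype F), Fintype.card F = 2 ^ f ∧ Nonempty (G ≃* Matrix.ProjGenLinGroup (Fin 2) F) := by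
  classical
  have hfix : ∀ g : G, ∀ a b c : α, a ≠ b → b ≠ c → a ≠ c → g • a = a → g • b = b → g • c = c →
      g = 1 := by
    intro g a b c hab hbc hac ha hb hc
    obtain ⟨x, hx0, hx1, hx2⟩ := Cfsg.Agent.Lib.Helper4.Wagner.three_embedding a b c hab hac hbc
    have hg : g ∈ MulAction.stabilizer G x := by
      rw [MulAction.mem_stabilizer_iff]
      ext i
      fin_cases i
      · show g • x 0 = x 0
        rw [hx0, ha]
      · show g • x 1 = x 1
        rw [hx1, hb]
      · show g • x 2 = x 2
        rw [hx2, hc]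
    rw [hsharp x, Subgroup.mem_bot] at hg
    exact hg
  have hm : 3 ≤ Fintype.card α := by
    rw [hα]
    have : 2 ^ 1 ≤ 2 ^ f := Nat.pow_le_pow_right (by norm_num) hf
    omega
  have hodd : Odd (Fintype.card α) := by
    rw [hα]
    refine Even.add_one ?_
    exact (Nat.even_pow.2 ⟨even_two, by omega⟩)
  obtain ⟨a, ha1, hcard, F, instF, instFt, hcardF, ⟨e⟩⟩ :=
    Cfsg.Agent.H2.SharpThree.sharp_three_odd (Γ := G) hm hodd h3 hfix
  have haf : a = f := by
    rw [hα] at hcard
    have : 2 ^ f = 2 ^ a := by omega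
    exact (Nat.pow_right_injective (le_refl 2) this).symm
  subst haf
  refine ⟨F, instF, instFt, hcardF, ?_⟩
  -- SL₂ ≃ PGL₂ in characteristic two
  have hchar : (2 : F) = 0 := by
    have h2 : (2 : F) ^ a = ((2 ^ a : ℕ) : F) := by push_cast; rfl
    have h3' : ((Fintype.card F : ℕ) : F) = 0 := Nat.cast_card_eq_zero F
    rw [hcardF, ← h2] at h3'
    exact pow_eq_zero_iff (by omega) |>.1 h3'
  have hinj : Function.Injective
      (Matrix.SpecialLinearGroup.toPGL : Matrix.SpecialLinearGroup (Fin 2) F →* _) := by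
    rw [← MonoidHom.ker_eq_bot_iff, Matrix.SpecialLinearGroup.toPGL_ker, eq_bot_iff]
    intro A hA
    rw [Matrix.SpecialLinearGroup.mem_center_iff] at hA
    obtain ⟨r, hr, hrA⟩ := hA
    rw [Subgroup.mem_bot]
    have hr1 : r = 1 := by
      rw [Fintype.card_fin] at hr
      have : (r - 1) * (r - 1) = 0 := by linear_combination hr - (r - 1) * hchar
      have := mul_self_eq_zero.1 this
      exact sub_eq_zero.1 this
    apply Subtype.ext
    rw [← hrA, hr1]
    simp
  have hcards : Nat.card (Matrix.SpecialLinearGroup (Fin 2) F) =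
      Nat.card (Matrix.ProjGenLinGroup (Fin 2) F) := (Cfsg.Agent.S0265.result 2).symm
  have : Finite (Matrix.ProjGenLinGroup (Fin 2) F) :=
    Finite.of_surjective _ Matrix.ProjGenLinGroup.mk_surjective
  have hbij : Function.Bijective
      (Matrix.SpecialLinearGroup.toPGL : Matrix.SpecialLinearGroup (Fin 2) F →* _) :=
    (Nat.bijective_iff_injective_and_card _).2 ⟨hinj, hcards⟩
  exact ⟨e.trans (MulEquiv.ofBijective _ hbij)⟩

end Cfsg.Agent.S0727
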