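import Cfsg.Statements.S0715
import Mathlib
import Cfsg.Agent.Lib.Helper4.Hecke
import Cfsg.Agent.Lib.helper3.PermChar
import Cfsg.Agent.Lib.helper3.Irr11
import Cfsg.Agent.Lib.helper3.AlgInt

set_option autoImplicit false
open Cfsg

namespace Cfsg.Agent.S0715

open Cfsg Module Cfsg.Agent.Lib.helper3.IndFun Cfsg.Agent.Lib.helper3.CharBasic
open Cfsg.Agent.Lib.helper3.Irr Cfsg.Agent.Lib.Helper4.Hecke Cfsg.Agent.Lib.helper3.PermChar
open scoped ComplexConjugate

section aux

variable {G : Type*} [Group G] [Fintype G] {Ω : Type*} [Fintype Ω] [DecidableEq Ω] [MulAction G Ω]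
  [MulAction.IsPretransitive G Ω]

/-- the normalised character sum over the elements carrying `a` into `Δ` -/
noncomputable def om (a : Ω) (Δ : Finset Ω) (χ : G → ℂ) : ℂ :=
  (Nat.card (MulAction.stabilizer G a) : ℂ)⁻¹ * ∑ g : G, if g • a ∈ Δ then χ g else 0

theorem isIntegral_om (a : Ω) (Δ : Finset Ω)
    (hΔ : ∀ g : G, g • a = a → ∀ z ∈ Δ, g • z ∈ Δ) {χ : G → ℂ} (hχ : IsCharacter G χ) :
    IsIntegral ℤ (om a Δ χ) := by
  obtain ⟨n, ρ, rfl⟩ := hχ
  exact isIntegral_hecke ρ a Δ hΔ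

theorem om_eq_zero (a : Ω) (Δ : Finset Ω) {χ : G → ℂ} (hχ : IsCharacter G χ)
    (h0 : classInner (fun g : G => (Nat.card (MulAction.fixedBy Ω g) : ℂ)) χ = 0) :
    om a Δ χ = 0 := by
  classical
  have hcf := isClassFunction_of_isCharacter hχ
  letI : Fintype (MulAction.stabilizer G a) := Fintype.ofFinite _
  rw [permChar_eq_indFun Ω a, frobenius_reciprocity _ _ _ hcf, classInner_apply] at h0
  have hH : (Nat.card (MulAction.stabilizer G a) : ℂ)⁻¹ ≠ 0 :=
    inv_ne_zero (card_ne_zero_complex _)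
  have h1 : ∑ h : MulAction.stabilizer G a, conj (χ (h : G)) = 0 := by
    rcases mul_eq_zero.mp h0 with h | h
    · exact absurd h hH
    · simpa using h
  have h2 : ∑ h : MulAction.stabilizer G a, χ (h : G) = 0 := by
    have := congrArg conj h1
    rw [map_sum, map_zero] at this
    simpa using this
  have h3 : ∑ g : G, (if g • a = a then χ g else 0) = 0 := by
    rw [← Finset.sum_filter, ← h2]
    apply Finset.sum_subtype
    intro g
    simp [MulAction.mem_stabilizer_iff]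
  obtain ⟨n, ρ, rfl⟩ := hχ
  exact hecke_eq_zero ρ a Δ h3

theorem om_one (a : Ω) (Δ : Finset Ω) : om a Δ (fun _ : G => (1 : ℂ)) = Δ.card := by
  classical
  unfold om
  have h1 : ∀ g : G, (if g • a ∈ Δ then (1 : ℂ) else 0)
      = ∑ z ∈ Δ, if g • a = z then (1 : ℂ) else 0 := by
    intro g
    rw [Finset.sum_ite_eq]
  rw [Finset.sum_congr rfl (fun g _ => h1 g), Finset.sum_comm]
  have h2 : ∀ z ∈ Δ, ∑ g : G, (if g • a = z then (1 : ℂ) else 0)
      = (Nat.card (MulAction.stabilizer G a) : ℂ) := by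
    intro z _
    rw [← card_fiber a z, Finset.card_filter]
    push_cast
    rfl
  rw [Finset.sum_congr rfl h2, Finset.sum_const, nsmul_eq_mul]
  have hH : (Nat.card (MulAction.stabilizer G a) : ℂ) ≠ 0 := card_ne_zero_complex _
  field_simp

theorem sum_degree_mul_om (a : Ω) (Δ : Finset Ω) (ha : a ∉ Δ) :
    ∑ χ : IrrCharacter G, (χ : G → ℂ) 1 * om a Δ (χ : G → ℂ) = 0 := by
  classical
  unfold om
  simp_rw [Finset.mul_sum]
  rw [Finset.sum_comm]
  apply Finset.sum_eq_zero
  intro g _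
  by_cases hg : g • a ∈ Δ
  · simp only [if_pos hg]
    have hg1 : ¬ IsConj g 1 := by
      intro h
      rw [isConj_one_left] at h
      rw [h, one_smul] at hg
      exact ha hg
    have h2 := (column_orthogonality g 1).2 hg1
    have h3 : ∑ χ : IrrCharacter G, (χ : G → ℂ) 1 * (χ : G → ℂ) g = 0 := by
      rw [← h2]
      apply Finset.sum_congr rfl
      intro χ _
      rw [conj_apply_one (isCharacter_of_isIrrCharacter χ.2), mul_comm]
    have h4 : ∑ χ : IrrCharacter G, (χ : G → ℂ) 1 *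
        ((Nat.card (MulAction.stabilizer G a) : ℂ)⁻¹ * (χ : G → ℂ) g)
        = (Nat.card (MulAction.stabilizer G a) : ℂ)⁻¹ *
          ∑ χ : IrrCharacter G, (χ : G → ℂ) 1 * (χ : G → ℂ) g := by
      rw [Finset.mul_sum]
      apply Finset.sum_congr rfl
      intro χ _
      ring
    rw [h4, h3, mul_zero]
  · simp only [if_neg hg, mul_zero, Finset.sum_const_zero]

end aux

/-- If a natural number `f` divides the degree of every non-principal irreducible constituent of the permutation character of a transitive group, then `f` divides every non-trivial subdegree. -/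
theorem result {G : Type*} [Group G] [Fintype G] {Ω : Type*} [Fintype Ω] [MulAction G Ω] [MulAction.IsPretransitive G Ω] (f : ℕ) (hf : ∀ χ : G → ℂ, Cfsg.IsIrrCharacter G χ → χ ≠ (fun _ => 1) → Cfsg.classInner (fun g : G => (Nat.card (MulAction.fixedBy Ω g) : ℂ)) χ ≠ 0 → ∃ m : ℕ, χ 1 = (f : ℂ) * m) (a b : Ω) (hab : b ≠ a) : f ∣ Nat.card (MulAction.orbit (MulAction.stabilizer G a) b) := by
  classical
  -- the suborbit as a finset
  obtain ⟨Δ, hΔdef⟩ : ∃ Δ : Finset Ω, Δ = Finset.univ.filter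
      (fun z : Ω => z ∈ MulAction.orbit (MulAction.stabilizer G a) b) := ⟨_, rfl⟩
  have hmemΔ : ∀ z : Ω, z ∈ Δ ↔ z ∈ MulAction.orbit (MulAction.stabilizer G a) b := by
    intro z
    rw [hΔdef]
    simp
  have hcard : Nat.card (MulAction.orbit (MulAction.stabilizer G a) b) = Δ.card := by
    rw [Nat.card_eq_fintype_card, hΔdef, Fintype.card_subtype]
  rw [hcard]
  have hΔinv : ∀ g : G, g • a = a → ∀ z ∈ Δ, g • z ∈ Δ := by
    intro g hg z hz
    rw [hmemΔ] at hz ⊢
    obtain ⟨h, rfl⟩ := MulAction.mem_orbit_iff.mp hz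
    refine MulAction.mem_orbit_iff.mpr ⟨⟨g, MulAction.mem_stabilizer_iff.mpr hg⟩ * h, ?_⟩
    rw [mul_smul]
    rfl
  have haΔ : a ∉ Δ := by
    intro ha
    rw [hmemΔ] at ha
    obtain ⟨h, hh⟩ := MulAction.mem_orbit_iff.mp ha
    apply hab
    have h1 : (h : G) • b = a := hh
    have h2 : (h : G) • a = a := MulAction.mem_stabilizer_iff.mp h.2
    exact smul_left_cancel (h : G) (h1.trans h2.symm)
  -- the trivial character
  let τ : IrrCharacter G := ⟨fun _ => 1, isIrrCharacter_one⟩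
  -- multiplicities
  have hex : ∀ χ : IrrCharacter G, ∃ m : ℕ, χ ≠ τ →
      (χ : G → ℂ) 1 * om a Δ (χ : G → ℂ) = (f : ℂ) * ((m : ℂ) * om a Δ (χ : G → ℂ)) := by
    intro χ
    by_cases h0 : classInner (fun g : G => (Nat.card (MulAction.fixedBy Ω g) : ℂ)) (χ : G → ℂ) = 0
    · refine ⟨0, fun _ => ?_⟩
      rw [om_eq_zero a Δ (isCharacter_of_isIrrCharacter χ.2) h0]
      simp
    · by_cases hχτ : χ = τ
      · exact ⟨0, fun h => absurd hχτ h⟩
      · have hne : (χ : G → ℂ) ≠ fun _ => 1 := by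
          intro h
          apply hχτ
          exact Subtype.ext h
        obtain ⟨m, hm⟩ := hf (χ : G → ℂ) χ.2 hne h0
        refine ⟨m, fun _ => ?_⟩
        rw [hm]
        ring
  choose m hm using hex
  have hsum := sum_degree_mul_om (G := G) a Δ haΔ
  rw [← Finset.add_sum_erase Finset.univ _ (Finset.mem_univ τ)] at hsum
  have hτterm : (τ : G → ℂ) 1 * om a Δ (τ : G → ℂ) = (Δ.card : ℂ) := by
    show (1 : ℂ) * om a Δ (fun _ : G => (1 : ℂ)) = _
    rw [one_mul, om_one]
  have hrest : ∑ χ ∈ Finset.univ.erase τ, (χ : G → ℂ) 1 * om a Δ (χ : G → ℂ)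
      = (f : ℂ) * ∑ χ ∈ Finset.univ.erase τ, (m χ : ℂ) * om a Δ (χ : G → ℂ) := by
    rw [Finset.mul_sum]
    apply Finset.sum_congr rfl
    intro χ hχ
    exact hm χ (Finset.mem_erase.mp hχ).1
  rw [hτterm, hrest] at hsum
  obtain ⟨α, hα⟩ : ∃ α : ℂ, α = ∑ χ ∈ Finset.univ.erase τ, (m χ : ℂ) * om a Δ (χ : G → ℂ) :=
    ⟨_, rfl⟩
  rw [← hα] at hsum
  have hαint : IsIntegral ℤ α := by
    rw [hα]
    apply IsIntegral.sum
    intro χ _
    apply IsIntegral.mul
    · exact isIntegral_algebraMap (R := ℤ) (A := ℂ) (x := (m χ : ℤ)) |> fun h => by simpa using h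
    · exact isIntegral_om a Δ hΔinv (isCharacter_of_isIrrCharacter χ.2)
  by_cases hf0 : f = 0
  · rw [hf0, Nat.cast_zero, zero_mul, add_zero] at hsum
    have : Δ.card = 0 := by exact_mod_cast hsum
    rw [hf0, this]
  · have hfc : (f : ℂ) ≠ 0 := by exact_mod_cast hf0
    have hαq : α = ((-(Δ.card : ℚ) / (f : ℚ) : ℚ) : ℂ) := by
      push_cast
      field_simp
      linear_combination hsum
    rw [hαq] at hαint
    obtain ⟨z, hz⟩ := Cfsg.Agent.Lib.helper3.AlgInt.exists_int_of_isIntegral_ratCast hαint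
    have hfq : (f : ℚ) ≠ 0 := by exact_mod_cast hf0
    have h1 : (Δ.card : ℚ) = -(z : ℚ) * (f : ℚ) := by
      rw [hz]
      field_simp
    have h2 : (Δ.card : ℤ) = -z * (f : ℤ) := by exact_mod_cast h1
    have h3 : (f : ℤ) ∣ (Δ.card : ℤ) := ⟨-z, by rw [h2]; ring⟩
    exact Int.natCast_dvd_natCast.mp h3

end Cfsg.Agent.S0715
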