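import Cfsg.Statements.S0716
import Mathlib
import Cfsg.Agent.S0715
import Cfsg.Agent.Lib.helper3.TwoTrans

set_option autoImplicit false
open Cfsg

namespace Cfsg.Agent.S0716

open Cfsg Module Cfsg.Agent.Lib.helper3.IndFun Cfsg.Agent.Lib.helper3.CharBasic
open Cfsg.Agent.Lib.helper3.Irr Cfsg.Agent.Lib.helper3.PermChar
open scoped ComplexConjugate

section aux

variable {G : Type*} [Group G] [Fintype G] {Ω : Type*} [Fintype Ω] [MulAction G Ω]
  [MulAction.IsPretransitive G Ω]

/-- the rank is the norm of the permutation character -/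
theorem rank_eq (a : Ω) :
    classInner (fun g : G => (Nat.card (MulAction.fixedBy Ω g) : ℂ))
      (fun g : G => (Nat.card (MulAction.fixedBy Ω g) : ℂ))
      = (Nat.card (MulAction.orbitRel.Quotient (MulAction.stabilizer G a) Ω) : ℂ) := by
  classical
  haveI : Nonempty Ω := ⟨a⟩
  letI : Fintype (MulAction.stabilizer G a) := Fintype.ofFinite _
  letI : Fintype (MulAction.orbitRel.Quotient (MulAction.stabilizer G a) Ω) := Fintype.ofFinite _
  have hcf := isClassFunction_of_isCharacter (isCharacter_permChar (G := G) Ω)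
  obtain ⟨π, hπ⟩ : ∃ π : G → ℂ, π = fun g : G => (Nat.card (MulAction.fixedBy Ω g) : ℂ) :=
    ⟨_, rfl⟩
  rw [← hπ] at hcf ⊢
  have hπind : π = indFun (MulAction.stabilizer G a) (fun _ => 1) := by
    rw [hπ]
    exact permChar_eq_indFun Ω a
  have h1 : classInner π π = classInner (indFun (MulAction.stabilizer G a) (fun _ => 1)) π :=
    congrArg (fun x => classInner x π) hπind
  rw [h1, frobenius_reciprocity _ _ _ hcf, classInner_apply]
  have hb := MulAction.sum_card_fixedBy_eq_card_orbits_mul_card_group (MulAction.stabilizer G a) Ω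
  have h2 : ∑ h : MulAction.stabilizer G a, (1 : ℂ) * conj (π (h : G))
      = ((∑ h : MulAction.stabilizer G a, Fintype.card (MulAction.fixedBy Ω h) : ℕ) : ℂ) := by
    push_cast
    apply Finset.sum_congr rfl
    intro h _
    rw [one_mul, hπ]
    simp only [Complex.conj_natCast]
    rw [Nat.card_eq_fintype_card]
    rfl
  rw [h2, hb]
  push_cast
  rw [← Nat.card_eq_fintype_card, ← Nat.card_eq_fintype_card]
  have hH : (Nat.card (MulAction.stabilizer G a) : ℂ) ≠ 0 := card_ne_zero_complex _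
  field_simp


/-- part (a) -/
theorem partA (a : Ω) (f : ℕ)
    (hf : ∀ χ : G → ℂ, IsIrrCharacter G χ → χ ≠ (fun _ => 1) →
      classInner (fun g : G => (Nat.card (MulAction.fixedBy Ω g) : ℂ)) χ ≠ 0 → χ 1 = f) :
    (∀ χ : G → ℂ, IsIrrCharacter G χ →
      classInner (fun g : G => (Nat.card (MulAction.fixedBy Ω g) : ℂ)) χ = 0 ∨
      classInner (fun g : G => (Nat.card (MulAction.fixedBy Ω g) : ℂ)) χ = 1) ∧
    ∀ b : Ω, b ≠ a → Nat.card (MulAction.orbit (MulAction.stabilizer G a) b) = f := by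
  classical
  haveI : Nonempty Ω := ⟨a⟩
  letI : Fintype (MulAction.orbitRel.Quotient (MulAction.stabilizer G a) Ω) := Fintype.ofFinite _
  have hdiv : ∀ b : Ω, b ≠ a → f ∣ Nat.card (MulAction.orbit (MulAction.stabilizer G a) b) :=
    fun b hb => Cfsg.Agent.S0715.result f (fun χ hχ h1 h2 => ⟨1, by rw [hf χ hχ h1 h2]; simp⟩) a b hb
  have hrank := rank_eq (G := G) a
  obtain ⟨π, hπ⟩ : ∃ π : G → ℂ, π = fun g : G => (Nat.card (MulAction.fixedBy Ω g) : ℂ) :=
    ⟨_, rfl⟩
  rw [← hπ] at hf hrank ⊢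
  have hπc : IsCharacter G π := by rw [hπ]; exact isCharacter_permChar (G := G) Ω
  obtain ⟨m, hm⟩ : ∃ m : IrrCharacter G → ℕ, ∀ χ : IrrCharacter G,
      classInner π (χ : G → ℂ) = m χ :=
    ⟨fun χ => (exists_nat_classInner_of_isCharacter hπc χ).choose,
      fun χ => (exists_nat_classInner_of_isCharacter hπc χ).choose_spec⟩
  obtain ⟨d, hd⟩ : ∃ d : IrrCharacter G → ℕ, ∀ χ : IrrCharacter G,
      0 < d χ ∧ (χ : G → ℂ) 1 = d χ :=
    ⟨fun χ => (exists_pos_nat_apply_one χ.2).choose,
      fun χ => (exists_pos_nat_apply_one χ.2).choose_spec⟩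
  let τ : IrrCharacter G := ⟨fun _ => 1, isIrrCharacter_one⟩
  have hmτ : m τ = 1 := by
    have h1 := hm τ
    have h2 : classInner π (τ : G → ℂ) = 1 := by
      rw [hπ]
      exact classInner_permChar_one (G := G) Ω
    rw [h2] at h1
    exact_mod_cast h1.symm
  have hdτ : d τ = 1 := by
    have h1 := (hd τ).2
    have h2 : (τ : G → ℂ) 1 = 1 := rfl
    rw [h2] at h1
    exact_mod_cast h1.symm
  have hdecomp : π = ∑ χ : IrrCharacter G, (m χ : ℂ) • (χ : G → ℂ) := by
    conv_lhs => rw [isCharacter_eq_sum_classInner hπc]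
    apply Finset.sum_congr rfl
    intro χ _
    rw [hm]
  -- degree
  have hπ1 : π 1 = (Fintype.card Ω : ℂ) := by
    rw [hπ]
    simp only
    rw [Nat.card_eq_fintype_card]
    congr 1
    apply Fintype.card_congr
    exact Equiv.subtypeUnivEquiv (fun x => by simp [MulAction.mem_fixedBy])
  have hn : Fintype.card Ω = ∑ χ : IrrCharacter G, m χ * d χ := by
    have h1 : (Fintype.card Ω : ℂ) = ((∑ χ : IrrCharacter G, m χ * d χ : ℕ) : ℂ) := by
      rw [← hπ1]
      conv_lhs => rw [hdecomp]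
      rw [Finset.sum_apply]
      push_cast
      apply Finset.sum_congr rfl
      intro χ _
      rw [Pi.smul_apply, smul_eq_mul, (hd χ).2]
    exact_mod_cast h1
  -- rank
  have hr : Nat.card (MulAction.orbitRel.Quotient (MulAction.stabilizer G a) Ω)
      = ∑ χ : IrrCharacter G, m χ ^ 2 := by
    have h1 : (Nat.card (MulAction.orbitRel.Quotient (MulAction.stabilizer G a) Ω) : ℂ)
        = ((∑ χ : IrrCharacter G, m χ ^ 2 : ℕ) : ℂ) := by
      rw [← hrank]
      conv_lhs => rw [hdecomp]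
      rw [classInner_decomposition]
      push_cast
      apply Finset.sum_congr rfl
      intro χ _
      rw [Complex.conj_natCast, sq]
    exact_mod_cast h1
  -- degrees of the nonprincipal constituents
  have hfd : ∀ χ : IrrCharacter G, χ ≠ τ → m χ ≠ 0 → d χ = f := by
    intro χ hχ hmχ
    have h1 : (χ : G → ℂ) ≠ fun _ => 1 := fun h => hχ (Subtype.ext h)
    have h2 : classInner π (χ : G → ℂ) ≠ 0 := by
      rw [hm]
      exact_mod_cast hmχ
    have h3 := hf (χ : G → ℂ) χ.2 h1 h2
    rw [(hd χ).2] at h3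
    exact_mod_cast h3
  have hn' : Fintype.card Ω = 1 + f * ∑ χ ∈ Finset.univ.erase τ, m χ := by
    rw [hn, ← Finset.add_sum_erase Finset.univ _ (Finset.mem_univ τ), hmτ, hdτ, Finset.mul_sum]
    congr 1
    apply Finset.sum_congr rfl
    intro χ hχ
    by_cases h0 : m χ = 0
    · rw [h0]; simp
    · rw [hfd χ (Finset.mem_erase.mp hχ).1 h0, mul_comm]
  have hr' : Nat.card (MulAction.orbitRel.Quotient (MulAction.stabilizer G a) Ω)
      = 1 + ∑ χ ∈ Finset.univ.erase τ, m χ ^ 2 := by
    rw [hr, ← Finset.add_sum_erase Finset.univ _ (Finset.mem_univ τ), hmτ]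
    simp
  -- the orbits of the stabilizer
  have horb : Fintype.card Ω = ∑ q : MulAction.orbitRel.Quotient (MulAction.stabilizer G a) Ω,
      Nat.card q.orbit := by
    rw [Fintype.card_congr (MulAction.selfEquivSigmaOrbits' (MulAction.stabilizer G a) Ω),
      Fintype.card_sigma]
    apply Finset.sum_congr rfl
    intro q _
    rw [Nat.card_eq_fintype_card]
  obtain ⟨q₀, hq₀⟩ : ∃ q₀ : MulAction.orbitRel.Quotient (MulAction.stabilizer G a) Ω,
      q₀ = Quotient.mk'' a := ⟨_, rfl⟩
  have horb_a : MulAction.orbit (MulAction.stabilizer G a) a = {a} := by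
    ext z
    rw [MulAction.mem_orbit_iff, Set.mem_singleton_iff]
    constructor
    · rintro ⟨h, rfl⟩
      exact MulAction.mem_stabilizer_iff.mp h.2
    · rintro rfl
      exact ⟨1, one_smul _ _⟩
  have hq₀card : Nat.card q₀.orbit = 1 := by
    rw [hq₀, MulAction.orbitRel.Quotient.orbit_mk, horb_a]
    simp
  have hqne : ∀ b : Ω, b ≠ a →
      (Quotient.mk'' b : MulAction.orbitRel.Quotient (MulAction.stabilizer G a) Ω) ≠ q₀ := by
    intro b hb h
    rw [hq₀] at h
    have h1 : b ∈ MulAction.orbit (MulAction.stabilizer G a) a := by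
      rw [← MulAction.orbitRel.Quotient.orbit_mk, ← h, MulAction.orbitRel.Quotient.orbit_mk]
      exact MulAction.mem_orbit_self b
    rw [horb_a] at h1
    exact hb h1
  have hNq : ∀ q : MulAction.orbitRel.Quotient (MulAction.stabilizer G a) Ω, q ≠ q₀ →
      f ∣ Nat.card q.orbit ∧ 0 < Nat.card q.orbit := by
    intro q hq
    induction q using Quotient.inductionOn' with
    | h b =>
      have hb : b ≠ a := by
        rintro rfl
        exact hq hq₀.symm
      rw [MulAction.orbitRel.Quotient.orbit_mk]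
      refine ⟨hdiv b hb, ?_⟩
      haveI : Nonempty (MulAction.orbit (MulAction.stabilizer G a) b) :=
        ⟨⟨b, MulAction.mem_orbit_self b⟩⟩
      exact Nat.card_pos
  have horb' : Fintype.card Ω = 1 + ∑ q ∈ Finset.univ.erase q₀, Nat.card q.orbit := by
    rw [horb, ← Finset.add_sum_erase Finset.univ _ (Finset.mem_univ q₀), hq₀card]
  have hcardQ : (Finset.univ.erase q₀).card = ∑ χ ∈ Finset.univ.erase τ, m χ ^ 2 := by
    rw [Finset.card_erase_of_mem (Finset.mem_univ q₀), Finset.card_univ,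
      ← Nat.card_eq_fintype_card, hr']
    simp
  -- comparison
  have hle : ∀ χ ∈ Finset.univ.erase τ, m χ ≤ m χ ^ 2 := by
    intro χ _
    rw [sq]
    exact Nat.le_mul_self (m χ)
  by_cases hS : ∑ χ ∈ Finset.univ.erase τ, m χ = 0
  · -- no nonprincipal constituents
    have hall : ∀ χ ∈ Finset.univ.erase τ, m χ = 0 := Finset.sum_eq_zero_iff.mp hS
    have hcard1 : Fintype.card Ω = 1 := by rw [hn', hS, mul_zero, add_zero]
    constructor
    · intro χ hχ
      by_cases hχτ : (⟨χ, hχ⟩ : IrrCharacter G) = τ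
      · right
        have h1 := hm ⟨χ, hχ⟩
        have h2 : m ⟨χ, hχ⟩ = 1 := by rw [hχτ, hmτ]
        rw [h2] at h1
        simpa using h1
      · left
        have := hm ⟨χ, hχ⟩
        rw [hall ⟨χ, hχ⟩ (Finset.mem_erase.mpr ⟨hχτ, Finset.mem_univ _⟩)] at this
        simpa using this
    · intro b hb
      exfalso
      exact hb (Fintype.card_le_one_iff.mp hcard1.le b a)
  · -- some nonprincipal constituent, so `f` is positive
    obtain ⟨χ₁, hχ₁, hmχ₁⟩ := Finset.exists_ne_zero_of_sum_ne_zero hS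
    have hfpos : 0 < f := by
      rw [← hfd χ₁ (Finset.mem_erase.mp hχ₁).1 hmχ₁]
      exact (hd χ₁).1
    have hge : ∀ q ∈ Finset.univ.erase q₀, f ≤ Nat.card q.orbit := by
      intro q hq
      obtain ⟨h1, h2⟩ := hNq q (Finset.mem_erase.mp hq).1
      exact Nat.le_of_dvd h2 h1
    have hsumge : (∑ χ ∈ Finset.univ.erase τ, m χ ^ 2) * f
        ≤ ∑ q ∈ Finset.univ.erase q₀, Nat.card q.orbit := by
      rw [← hcardQ, ← smul_eq_mul, ← Finset.sum_const]
      exact Finset.sum_le_sum hge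
    have heq1 : f * ∑ χ ∈ Finset.univ.erase τ, m χ
        = ∑ q ∈ Finset.univ.erase q₀, Nat.card q.orbit := by
      have := hn'.symm.trans horb'
      omega
    have hSQ : ∑ χ ∈ Finset.univ.erase τ, m χ ^ 2 ≤ ∑ χ ∈ Finset.univ.erase τ, m χ := by
      have h1 : (∑ χ ∈ Finset.univ.erase τ, m χ ^ 2) * f
          ≤ (∑ χ ∈ Finset.univ.erase τ, m χ) * f := by
        rw [mul_comm _ f, mul_comm _ f, heq1, mul_comm]
        exact hsumge
      exact Nat.le_of_mul_le_mul_right h1 hfpos
    have hQS : ∑ χ ∈ Finset.univ.erase τ, m χ = ∑ χ ∈ Finset.univ.erase τ, m χ ^ 2 :=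
      le_antisymm (Finset.sum_le_sum hle) hSQ
    have hmsq : ∀ χ ∈ Finset.univ.erase τ, m χ = m χ ^ 2 :=
      (Finset.sum_eq_sum_iff_of_le hle).mp hQS
    have hm01 : ∀ χ : IrrCharacter G, m χ = 0 ∨ m χ = 1 := by
      intro χ
      by_cases hχτ : χ = τ
      · right; rw [hχτ, hmτ]
      · have := hmsq χ (Finset.mem_erase.mpr ⟨hχτ, Finset.mem_univ _⟩)
        rcases Nat.eq_zero_or_pos (m χ) with h | h
        · left; exact h
        · right
          rw [sq] at this
          exact (Nat.eq_of_mul_eq_mul_left h (by rw [mul_one]; exact this)).symm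
    constructor
    · intro χ hχ
      have := hm ⟨χ, hχ⟩
      rcases hm01 ⟨χ, hχ⟩ with h | h
      · left; rw [this, h]; simp
      · right; rw [this, h]; simp
    · -- all nontrivial suborbits have length `f`
      have hsumeq : ∑ q ∈ Finset.univ.erase q₀, f = ∑ q ∈ Finset.univ.erase q₀, Nat.card q.orbit := by
        rw [Finset.sum_const, smul_eq_mul, hcardQ, ← hQS, mul_comm, heq1]
      have hall := (Finset.sum_eq_sum_iff_of_le hge).mp hsumeq
      intro b hb
      have := hall (Quotient.mk'' b) (Finset.mem_erase.mpr ⟨hqne b hb, Finset.mem_univ _⟩)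
      rw [MulAction.orbitRel.Quotient.orbit_mk] at this
      exact this.symm


/-- multiplicities and the rank -/
theorem exists_mult (a : Ω) :
    ∃ m : IrrCharacter G → ℕ,
      (∀ χ : IrrCharacter G,
        classInner (fun g : G => (Nat.card (MulAction.fixedBy Ω g) : ℂ)) (χ : G → ℂ) = m χ) ∧
      Nat.card (MulAction.orbitRel.Quotient (MulAction.stabilizer G a) Ω)
        = ∑ χ : IrrCharacter G, m χ ^ 2 ∧
      m ⟨fun _ => 1, isIrrCharacter_one⟩ = 1 := by
  classical
  haveI : Nonempty Ω := ⟨a⟩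
  have hrank := rank_eq (G := G) a
  obtain ⟨π, hπ⟩ : ∃ π : G → ℂ, π = fun g : G => (Nat.card (MulAction.fixedBy Ω g) : ℂ) :=
    ⟨_, rfl⟩
  rw [← hπ] at hrank ⊢
  have hπc : IsCharacter G π := by rw [hπ]; exact isCharacter_permChar (G := G) Ω
  obtain ⟨m, hm⟩ : ∃ m : IrrCharacter G → ℕ, ∀ χ : IrrCharacter G,
      classInner π (χ : G → ℂ) = m χ :=
    ⟨fun χ => (exists_nat_classInner_of_isCharacter hπc χ).choose,
      fun χ => (exists_nat_classInner_of_isCharacter hπc χ).choose_spec⟩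
  refine ⟨m, hm, ?_, ?_⟩
  · have hdecomp : π = ∑ χ : IrrCharacter G, (m χ : ℂ) • (χ : G → ℂ) := by
      conv_lhs => rw [isCharacter_eq_sum_classInner hπc]
      apply Finset.sum_congr rfl
      intro χ _
      rw [hm]
    have h1 : (Nat.card (MulAction.orbitRel.Quotient (MulAction.stabilizer G a) Ω) : ℂ)
        = ((∑ χ : IrrCharacter G, m χ ^ 2 : ℕ) : ℂ) := by
      rw [← hrank]
      conv_lhs => rw [hdecomp]
      rw [classInner_decomposition]
      push_cast
      apply Finset.sum_congr rfl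
      intro χ _
      rw [Complex.conj_natCast, sq]
    exact_mod_cast h1
  · have h1 := hm ⟨fun _ => 1, isIrrCharacter_one⟩
    have h2 : classInner π (fun _ : G => (1 : ℂ)) = 1 := by
      rw [hπ]
      exact classInner_permChar_one (G := G) Ω
    rw [h2] at h1
    exact_mod_cast h1.symm

/-- part (b) -/
theorem partB (a : Ω)
    (h5 : Nat.card (MulAction.orbitRel.Quotient (MulAction.stabilizer G a) Ω) ≤ 5) :
    ∀ χ : G → ℂ, IsIrrCharacter G χ →
      classInner (fun g : G => (Nat.card (MulAction.fixedBy Ω g) : ℂ)) χ = 0 ∨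
      classInner (fun g : G => (Nat.card (MulAction.fixedBy Ω g) : ℂ)) χ = 1 := by
  classical
  obtain ⟨m, hm, hr, hmτ⟩ := exists_mult (G := G) a
  rw [hr] at h5
  let τ : IrrCharacter G := ⟨fun _ => 1, isIrrCharacter_one⟩
  intro χ₀ hχ₀
  by_contra hcon
  push_neg at hcon
  have hm0 : 2 ≤ m ⟨χ₀, hχ₀⟩ := by
    have h1 := hm ⟨χ₀, hχ₀⟩
    rcases Nat.lt_or_ge (m ⟨χ₀, hχ₀⟩) 2 with h | h
    · exfalso
      interval_cases hv : m ⟨χ₀, hχ₀⟩
      · apply hcon.1; rw [h1]; simp
      · apply hcon.2; rw [h1]; simp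
    · exact h
  have hχ₀τ : (⟨χ₀, hχ₀⟩ : IrrCharacter G) ≠ τ := by
    intro h
    rw [h, hmτ] at hm0
    omega
  -- all other multiplicities vanish
  have hothers : ∀ χ : IrrCharacter G, χ ≠ τ → χ ≠ ⟨χ₀, hχ₀⟩ → m χ = 0 := by
    intro χ h1 h2
    by_contra hne
    have hsub : ({τ, ⟨χ₀, hχ₀⟩, χ} : Finset (IrrCharacter G)) ⊆ Finset.univ := Finset.subset_univ _
    have hle := Finset.sum_le_sum_of_subset (f := fun χ => m χ ^ 2) hsub
    rw [Finset.sum_insert (by
      simp only [Finset.mem_insert, Finset.mem_singleton, not_or]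
      exact ⟨fun h => hχ₀τ h.symm, fun h => h1 h.symm⟩),
      Finset.sum_insert (by
        simp only [Finset.mem_singleton]
        exact fun h => h2 h.symm), Finset.sum_singleton, hmτ] at hle
    have h4 : 4 ≤ m ⟨χ₀, hχ₀⟩ ^ 2 := by nlinarith
    have h5' : 1 ≤ m χ ^ 2 := Nat.one_le_iff_ne_zero.mpr (pow_ne_zero 2 hne)
    omega
  obtain ⟨f, hf0, hf⟩ := exists_pos_nat_apply_one hχ₀
  have hA := (partA (G := G) a f (by
    intro χ hχ hne hχm
    have h1 : (⟨χ, hχ⟩ : IrrCharacter G) ≠ τ := fun h => hne (congrArg Subtype.val h)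
    have h2 : (⟨χ, hχ⟩ : IrrCharacter G) = ⟨χ₀, hχ₀⟩ := by
      by_contra h3
      apply hχm
      rw [hm ⟨χ, hχ⟩, hothers ⟨χ, hχ⟩ h1 h3]
      simp
    have h3 : χ = χ₀ := congrArg Subtype.val h2
    rw [h3, hf])).1 χ₀ hχ₀
  rcases hA with h | h
  · exact hcon.1 h
  · exact hcon.2 h

end aux

/-- (a) If all non-principal irreducible constituents of the permutation character of a transitive group have the same degree `f`, the character is multiplicity-free and all non-trivial subdegrees equal `f`. (b) A transitive group of rank at most 5 has multiplicity-free permutation character. -/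
theorem result {G : Type*} [Group G] [Fintype G] {Ω : Type*} [Fintype Ω] [MulAction G Ω] [MulAction.IsPretransitive G Ω] (a : Ω) : ((f : ℕ) → (∀ χ : G → ℂ, Cfsg.IsIrrCharacter G χ → χ ≠ (fun _ => 1) → Cfsg.classInner (fun g : G => (Nat.card (MulAction.fixedBy Ω g) : ℂ)) χ ≠ 0 → χ 1 = f) → (∀ χ : G → ℂ, Cfsg.IsIrrCharacter G χ → Cfsg.classInner (fun g : G => (Nat.card (MulAction.fixedBy Ω g) : ℂ)) χ = 0 ∨ Cfsg.classInner (fun g : G => (Nat.card (MulAction.fixedBy Ω g) : ℂ)) χ = 1) ∧ ∀ b : Ω, b ≠ a → Nat.card (MulAction.orbit (MulAction.stabilizer G a) b) = f) ∧ (Nat.card (MulAction.orbitRel.Quotient (MulAction.stabilizer G a) Ω) ≤ 5 → ∀ χ : G → ℂ, Cfsg.IsIrrCharacter G χ → Cfsg.classInner (fun g : G => (Nat.card (MulAction.fixedBy Ω g) : ℂ)) χ = 0 ∨ Cfsg.classInner (fun g : G => (Nat.card (MulAction.fixedBy Ω g) : ℂ)) χ = 1) := by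
  exact ⟨fun f hf => partA a f hf, partB a⟩


end Cfsg.Agent.S0716
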