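import Cfsg.Statements.S0719
import Mathlib
import Cfsg.Agent.Lib.Helper4.HeckeF

set_option autoImplicit false
open Cfsg
open scoped commutatorElement

namespace Cfsg.Agent.S0719

open Cfsg.Agent.Lib.Helper4.Hecke Cfsg.Agent.Lib.helper3.Irr Cfsg.Agent.Lib.helper3.CharBasic
open Cfsg.Agent.Lib.helper3.IndFun

/-- Groups of Wielandt type: if a primitive group of degree `2m` has rank 3 and permutation character `1 + χ₁ + χ₂` with irreducible `χ₁, χ₂` of degrees `m - 1` and `m`, then `m = 2a² + 2a + 1` for some positive integer `a` and the two non-trivial subdegrees are `a(2a+1)` and `(a+1)(2a+1)`. -/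
theorem result {G : Type*} [Group G] [Fintype G] {Ω : Type*} [Fintype Ω] [MulAction G Ω] (hprim : MulAction.IsPreprimitive G Ω) {m : ℕ} (hm : Fintype.card Ω = 2 * m) (a₀ : Ω) (hrank : Nat.card (MulAction.orbitRel.Quotient (MulAction.stabilizer G a₀) Ω) = 3) (χ₁ χ₂ : G → ℂ) (h₁ : Cfsg.IsIrrCharacter G χ₁) (h₂ : Cfsg.IsIrrCharacter G χ₂) (hπ : (fun g : G => (Nat.card (MulAction.fixedBy Ω g) : ℂ)) = fun g => 1 + χ₁ g + χ₂ g) (hd₁ : χ₁ 1 = (m : ℂ) - 1) (hd₂ : χ₂ 1 = m) : ∃ a : ℕ, 0 < a ∧ m = 2 * a ^ 2 + 2 * a + 1 ∧ ∀ b : Ω, b ≠ a₀ → Nat.card (MulAction.orbit (MulAction.stabilizer G a₀) b) = a * (2 * a + 1) ∨ Nat.card (MulAction.orbit (MulAction.stabilizer G a₀) b) = (a + 1) * (2 * a + 1) := by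
  classical
  haveI : MulAction.IsPretransitive G Ω := hprim.toIsPretransitive
  haveI : Nonempty Ω := ⟨a₀⟩
  have hcardΩ : Nat.card Ω = 2 * m := by rw [Nat.card_eq_fintype_card, hm]
  have hm2 : 2 ≤ m := by
    have hle : Nat.card (MulAction.orbitRel.Quotient (MulAction.stabilizer G a₀) Ω) ≤ Nat.card Ω :=
      Nat.card_le_card_of_surjective _ Quotient.mk''_surjective
    omega
  haveI : Nontrivial Ω := by
    rw [← Fintype.one_lt_card_iff_nontrivial, hm]
    omega
  set π : G → ℂ := fun g : G => (Nat.card (MulAction.fixedBy Ω g) : ℂ) with hπdef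
  have hone : IsIrrCharacter G (fun _ : G => (1 : ℂ)) := isIrrCharacter_one
  have hπ' : π = (fun _ : G => (1 : ℂ)) + χ₁ + χ₂ := by
    rw [hπ]
    rfl
  have hπ1 : classInner π (fun _ => 1) = 1 :=
    Cfsg.Agent.Lib.helper3.PermChar.classInner_permChar_one Ω
  rw [hπ', classInner_add_left, classInner_add_left, irr_classInner_eq hone hone,
    irr_classInner_eq h₁ hone, irr_classInner_eq h₂ hone, if_pos rfl] at hπ1
  have h1 : χ₁ ≠ fun _ => 1 := by
    intro h
    rw [if_pos h] at hπ1
    split_ifs at hπ1 <;> norm_num at hπ1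
  have h2 : χ₂ ≠ fun _ => 1 := by
    intro h
    rw [if_pos h] at hπ1
    split_ifs at hπ1 <;> norm_num at hπ1
  have hdeg : χ₁ 1 ≠ χ₂ 1 := by
    rw [hd₁, hd₂]
    intro h
    have h' : (0 : ℂ) = 1 := by linear_combination h
    exact zero_ne_one h'
  have hswap : ∀ a b : Ω, ∃ g : G, g • a = b ∧ g • b = a :=
    Cfsg.Agent.Lib.Helper4.SelfPaired.main.mpr (mult_and_real χ₁ χ₂ h₁ h₂ hdeg h1 h2 hπ)
  have hnofix : ∀ b : Ω, b ≠ a₀ → ¬ (∀ g : G, g • a₀ = a₀ → g • b = b) := by
    intro b hb hfix
    obtain ⟨s, hs1, hs2⟩ := hswap a₀ b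
    have hall := pair_of_fixed hprim a₀ b hb hfix s hs1 hs2
    have hle : Fintype.card Ω ≤ 2 := by
      calc Fintype.card Ω = (Finset.univ : Finset Ω).card := rfl
        _ ≤ ({a₀, b} : Finset Ω).card := by
            apply Finset.card_le_card
            intro c _
            rcases hall c with h | h
            · rw [h]; exact Finset.mem_insert_self _ _
            · rw [h]; exact Finset.mem_insert_of_mem (Finset.mem_singleton_self _)
        _ ≤ 2 := Finset.card_le_two
    omega
  have key : ∀ b : Ω, b ≠ a₀ → ∃ a : ℕ, 0 < a ∧ m = 2 * a ^ 2 + 2 * a + 1 ∧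
      (Nat.card (MulAction.orbit (MulAction.stabilizer G a₀) b) = a * (2 * a + 1) ∨
        Nat.card (MulAction.orbit (MulAction.stabilizer G a₀) b) = (a + 1) * (2 * a + 1)) := by
    intro b hb
    set Δ : Finset Ω :=
      Finset.univ.filter (fun z => z ∈ MulAction.orbit (MulAction.stabilizer G a₀) b) with hΔdef
    have hcardΔ : Nat.card (MulAction.orbit (MulAction.stabilizer G a₀) b) = Δ.card := by
      rw [Nat.card_eq_fintype_card, Fintype.card_subtype]
    have hΔinv : ∀ g : G, g • a₀ = a₀ → ∀ z ∈ Δ, g • z ∈ Δ := by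
      intro g hg z hz
      rw [hΔdef, Finset.mem_filter] at hz ⊢
      refine ⟨Finset.mem_univ _, ?_⟩
      obtain ⟨h, rfl⟩ := hz.2
      refine ⟨⟨g, MulAction.mem_stabilizer_iff.mpr hg⟩ * h, ?_⟩
      show ((⟨g, MulAction.mem_stabilizer_iff.mpr hg⟩ : MulAction.stabilizer G a₀) * h) • b =
        g • (h • b)
      rw [mul_smul]
      rfl
    have haΔ : a₀ ∉ Δ := by
      intro h
      rw [hΔdef, Finset.mem_filter] at h
      obtain ⟨h', hh'⟩ := h.2
      apply hb
      have hh'' : (h' : G) • b = a₀ := hh'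
      have h3 : (h' : G) • a₀ = a₀ := h'.2
      have h4 : (h' : G) • b = (h' : G) • a₀ := by rw [hh'', h3]
      exact MulAction.injective _ h4
    have hbΔ : b ∈ Δ := by
      rw [hΔdef, Finset.mem_filter]
      exact ⟨Finset.mem_univ _, MulAction.mem_orbit_self b⟩
    obtain ⟨c, hca, hcΔ⟩ : ∃ c : Ω, c ≠ a₀ ∧ c ∉ Δ := by
      by_contra hno
      push Not at hno
      have hle : Nat.card (MulAction.orbitRel.Quotient (MulAction.stabilizer G a₀) Ω) ≤ 2 := by
        have hsub : (Set.univ : Set (MulAction.orbitRel.Quotient (MulAction.stabilizer G a₀) Ω)) ⊆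
            {Quotient.mk'' a₀, Quotient.mk'' b} := by
          intro q _
          induction q using Quotient.inductionOn' with
          | h c =>
            by_cases hc : c = a₀
            · rw [hc]; exact Set.mem_insert _ _
            · have := hno c hc
              rw [hΔdef, Finset.mem_filter] at this
              right
              rw [Set.mem_singleton_iff]
              exact Quotient.sound' this.2
        calc Nat.card (MulAction.orbitRel.Quotient (MulAction.stabilizer G a₀) Ω)
            = (Set.univ : Set (MulAction.orbitRel.Quotient (MulAction.stabilizer G a₀) Ω)).ncard :=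
              (Set.ncard_univ _).symm
          _ ≤ Set.ncard {(Quotient.mk'' a₀ :
                MulAction.orbitRel.Quotient (MulAction.stabilizer G a₀) Ω), Quotient.mk'' b} :=
              Set.ncard_le_ncard hsub (Set.toFinite _)
          _ ≤ 2 := (Set.ncard_insert_le _ _).trans (by rw [Set.ncard_singleton])
      omega
    have hk2 : Δ.card ≤ 2 * m - 2 := by
      have hsub : Δ ⊆ Finset.univ \ {a₀, c} := by
        intro z hz
        rw [Finset.mem_sdiff]
        refine ⟨Finset.mem_univ _, ?_⟩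
        rw [Finset.mem_insert, Finset.mem_singleton]
        rintro (rfl | rfl)
        · exact haΔ hz
        · exact hcΔ hz
      have := Finset.card_le_card hsub
      rw [Finset.card_sdiff_of_subset (Finset.subset_univ _), Finset.card_univ, hm,
        Finset.card_pair (Ne.symm hca)] at this
      exact this
    rcases wielandt_suborbit hm2 hm a₀ Δ hΔinv haΔ (hsym_of_swap hswap a₀ Δ hΔinv)
      (Finset.card_pos.mpr ⟨b, hbΔ⟩) hk2 χ₁ χ₂ h₁ h₂ hπ hd₁ hd₂ h1 h2 with hk | hk | hgood
    · exfalso
      apply hnofix b hb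
      intro g hg
      have hgb := hΔinv g hg b hbΔ
      obtain ⟨z, hz⟩ := Finset.card_eq_one.mp hk
      rw [hz, Finset.mem_singleton] at hgb hbΔ
      rw [hgb, hbΔ]
    · exfalso
      apply hnofix c hca
      intro g hg
      set Γ : Finset Ω := Finset.univ \ insert a₀ Δ with hΓ
      have hΓcard : Γ.card = 1 := by
        rw [hΓ, Finset.card_sdiff_of_subset (Finset.subset_univ _), Finset.card_univ, hm,
          Finset.card_insert_of_notMem haΔ, hk]
        omega
      have hcΓ : c ∈ Γ := by
        rw [hΓ, Finset.mem_sdiff, Finset.mem_insert]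
        refine ⟨Finset.mem_univ _, ?_⟩
        rintro (h | h)
        · exact hca h
        · exact hcΔ h
      have hgcΓ : g • c ∈ Γ := by
        rw [hΓ, Finset.mem_sdiff, Finset.mem_insert]
        refine ⟨Finset.mem_univ _, ?_⟩
        have hginv : g⁻¹ • a₀ = a₀ := by rw [inv_smul_eq_iff, hg]
        rintro (h | h)
        · apply hca
          rw [← inv_smul_smul g c, h, hginv]
        · apply hcΔ
          have := hΔinv g⁻¹ hginv _ h
          rwa [inv_smul_smul] at this
      obtain ⟨z, hz⟩ := Finset.card_eq_one.mp hΓcard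
      rw [hz, Finset.mem_singleton] at hcΓ hgcΓ
      rw [hgcΓ, hcΓ]
    · rw [hcardΔ]
      exact hgood
  obtain ⟨b₀, hb₀⟩ := exists_ne a₀
  obtain ⟨a, ha0, hma, _⟩ := key b₀ hb₀
  refine ⟨a, ha0, hma, ?_⟩
  intro b hb
  obtain ⟨a', ha'0, hma', hor⟩ := key b hb
  have haa : a' = a := by
    rcases lt_trichotomy a' a with h | h | h
    · exfalso; nlinarith
    · exact h
    · exfalso; nlinarith
  rw [haa] at hor
  exact hor

end Cfsg.Agent.S0719
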