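import Cfsg.Statements.S2011
import Mathlib
import Cfsg.Agent.Lib.Helper7.GroupFusion
import Cfsg.Agent.Lib.Lead.PComplement
import Cfsg.Agent.Lib.Lead.Conj

set_option autoImplicit false
set_option linter.style.haveILetI false
open Cfsg Cfsg.Agent.Lib.Helper7 Cfsg.Agent.Lib.Lead.PComplement Cfsg.Agent.Lib.Lead.Conj
  Cfsg.Agent.Lib.Lead.PiCore

namespace Cfsg.Agent.S2011

/-- elements of the join of two elementwise commuting subgroups are products. -/
theorem mem_sup_of_commute {G : Type*} [Group G] {Z K : Subgroup G}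
    (hcomm : ∀ a ∈ Z, ∀ b ∈ K, a * b = b * a) {y : G} (hy : y ∈ Z ⊔ K) :
    ∃ z ∈ Z, ∃ k ∈ K, y = z * k := by
  rw [Subgroup.sup_eq_closure_mul] at hy
  induction hy using Subgroup.closure_induction with
  | mem y hy =>
    obtain ⟨z, hz, k, hk, rfl⟩ := hy
    exact ⟨z, hz, k, hk, rfl⟩
  | one => exact ⟨1, Z.one_mem, 1, K.one_mem, (mul_one 1).symm⟩
  | mul a b _ _ iha ihb =>
    obtain ⟨z₁, hz₁, k₁, hk₁, rfl⟩ := iha
    obtain ⟨z₂, hz₂, k₂, hk₂, rfl⟩ := ihb
    refine ⟨z₁ * z₂, Z.mul_mem hz₁ hz₂, k₁ * k₂, K.mul_mem hk₁ hk₂, ?_⟩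
    have := hcomm z₂ hz₂ k₁ hk₁
    calc z₁ * k₁ * (z₂ * k₂) = z₁ * (k₁ * z₂) * k₂ := by simp only [mul_assoc]
      _ = z₁ * (z₂ * k₁) * k₂ := by rw [this]
      _ = z₁ * z₂ * (k₁ * k₂) := by simp only [mul_assoc]
  | inv a _ iha =>
    obtain ⟨z, hz, k, hk, rfl⟩ := iha
    refine ⟨z⁻¹, Z.inv_mem hz, k⁻¹, K.inv_mem hk, ?_⟩
    have := hcomm z hz k hk
    rw [mul_inv_rev]
    have h2 : k⁻¹ * z⁻¹ = (z * k)⁻¹ := (mul_inv_rev z k).symm
    rw [h2, this, mul_inv_rev]

/-- Let G be a finite group with Sylow p-subgroup P and Q ≤ P. Then Q is centric in the fusion system of G on P (C_P(R) ≤ R for every G-conjugate R of Q lying in P) if and only if C_G(Q) is the internal direct product of Z(Q) = Q ∩ C_G(Q) and the largest normal subgroup of C_G(Q) of order prime to p. -/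
theorem result {G : Type*} [Group G] [Finite G] (p : ℕ) [Fact p.Prime] (P : Sylow p G) (Q : Subgroup G) (hQ : Q ≤ P) : (Cfsg.groupFusionSystem (P : Subgroup G)).IsCentric Q ↔ Cfsg.IsInternalDirectProduct (Q ⊓ Subgroup.centralizer (Q : Set G)) ((Cfsg.pPrimeCore p ↥(Subgroup.centralizer (Q : Set G))).map (Subgroup.centralizer (Q : Set G)).subtype) (Subgroup.centralizer (Q : Set G)) := by
  classical
  set C := Subgroup.centralizer (Q : Set G) with hC
  have hQp : IsPGroup p ↥Q := P.isPGroup'.to_le hQ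
  have hZp : IsPGroup p ↥(Q ⊓ C) := hQp.to_le inf_le_left
  have hKcard : Nat.card ↥((pPrimeCore p ↥C).map C.subtype) = Nat.card ↥(pPrimeCore p ↥C) :=
    Nat.card_congr ((pPrimeCore p ↥C).equivMapOfInjective _ C.subtype_injective).symm.toEquiv
  have hKcop : (Nat.card ↥((pPrimeCore p ↥C).map C.subtype)).Coprime p := by
    rw [hKcard]; exact pPrimeCore_coprime Fact.out
  have hKC : (pPrimeCore p ↥C).map C.subtype ≤ C := Subgroup.map_subtype_le _
  have hcomm : ∀ a ∈ Q ⊓ C, ∀ b ∈ C, a * b = b * a := fun a ha b hb =>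
    Subgroup.mem_centralizer_iff.mp hb a (Subgroup.mem_inf.mp ha).1
  obtain ⟨c, hc⟩ := IsPGroup.iff_card.mp hZp
  have hcopZK : (Nat.card ↥(Q ⊓ C)).Coprime (Nat.card ↥((pPrimeCore p ↥C).map C.subtype)) := by
    rw [hc]; exact Nat.Coprime.pow_left c hKcop.symm
  constructor
  · rintro ⟨_, hcen⟩
    obtain ⟨T, hT, hZT⟩ := exists_isSylowIn_ge hZp (inf_le_right : Q ⊓ C ≤ C)
    have hTp : IsPGroup p ↥T := hT.isPGroup
    -- `T ≤ Q`
    have hTQ : T ≤ Q := by
      have hXp : IsPGroup p ↥(Q ⊔ T) :=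
        hQp.to_sup_of_normal_left' hTp (hT.1.trans (Subgroup.centralizer_le_normalizer _))
      obtain ⟨P', hP'⟩ := hXp.exists_le_sylow
      obtain ⟨g, hg⟩ := MulAction.exists_smul_eq G P' P
      have hgX : ∀ x ∈ Q ⊔ T, g * x * g⁻¹ ∈ (P : Subgroup G) := by
        intro x hx
        rw [← hg, Sylow.coe_subgroup_smul]
        exact Subgroup.smul_mem_pointwise_smul _ _ _ (hP' hx)
      have hRP : Q.map (MulAut.conj g).toMonoidHom ≤ (P : Subgroup G) := by
        rintro _ ⟨q, hq, rfl⟩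
        exact hgX q (Subgroup.mem_sup_left hq)
      have hconj : (groupFusionSystem (P : Subgroup G)).IsConj Q (Q.map (MulAut.conj g).toMonoidHom) :=
        (gfs_isConj_iff _ _ _ hQ).mpr ⟨g, rfl, hRP⟩
      have h1 := hcen _ hconj
      intro t ht
      have h2 : g * t * g⁻¹ ∈ FusionSystem.centralizerIn (P : Subgroup G) (Q.map (MulAut.conj g).toMonoidHom) := by
        refine ⟨hgX t (Subgroup.mem_sup_right ht), ?_⟩
        rw [centralizer_map_conj]
        exact conj_mem_map_conj _ g (hT.1 ht)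
      have h3 := h1 h2
      rw [mem_map_conj] at h3
      have e : g⁻¹ * (g * t * g⁻¹) * g = t := by group
      rwa [e] at h3
    have hTZ : T = Q ⊓ C := le_antisymm (le_inf hTQ hT.1) hZT
    rw [hTZ] at hT
    obtain ⟨R₀, hR₀⟩ := hT.exists_sylow
    have hcentral : (R₀ : Subgroup ↥C) ≤ Subgroup.center ↥C := by
      rw [hR₀]
      intro x hx
      rw [Subgroup.mem_center_iff]
      intro y
      apply Subtype.ext
      exact (hcomm x (Subgroup.mem_subgroupOf.mp hx) y y.2).symm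
    have hcard := card_eq_card_pPrimeCore_mul_of_central_sylow R₀ hcentral
    rw [hR₀, card_subgroupOf_of_le (inf_le_right : Q ⊓ C ≤ C), ← hKcard] at hcard
    refine ⟨inf_le_right, hKC, fun a ha b hb => hcomm a ha b (hKC hb), ?_, ?_⟩
    · exact disjoint_iff.mp (Subgroup.disjoint_of_coprime_natCard hcopZK)
    · apply Subgroup.eq_of_le_of_card_ge (sup_le inf_le_right hKC)
      rw [hcard, mul_comm]
      apply Nat.le_of_dvd Nat.card_pos
      exact Nat.Coprime.mul_dvd_of_dvd_of_dvd hcopZK (Subgroup.card_dvd_of_le le_sup_left)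
        (Subgroup.card_dvd_of_le le_sup_right)
  · rintro ⟨_, _, _, _, hsup⟩
    refine ⟨hQ, fun R hR => ?_⟩
    obtain ⟨g, rfl, hRP⟩ := (gfs_isConj_iff _ _ _ hQ).mp hR
    intro x hx
    have hxP : x ∈ (P : Subgroup G) := hx.1
    have hxc : x ∈ Subgroup.centralizer ((Q.map (MulAut.conj g).toMonoidHom : Subgroup G) : Set G) := hx.2
    rw [centralizer_map_conj, mem_map_conj] at hxc
    rw [mem_map_conj]
    set y := g⁻¹ * x * g with hy
    -- `y` is a `p`-element of `C = Z K`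
    have hy' : y ∈ (Q ⊓ C) ⊔ (pPrimeCore p ↥C).map C.subtype := by rw [hsup]; exact hxc
    obtain ⟨z, hz, k, hk, hyzk⟩ := mem_sup_of_commute (fun a ha b hb => hcomm a ha b (hKC hb)) hy'
    obtain ⟨a, ha⟩ := (P.isPGroup' ⟨x, hxP⟩)
    have hxa : x ^ p ^ a = 1 := by
      have := congrArg Subtype.val ha
      simpa using this
    have hya : y ^ p ^ a = 1 := by
      rw [hy]
      have : (g⁻¹ * x * g) ^ p ^ a = g⁻¹ * x ^ p ^ a * g := by
        have := conj_pow (a := g⁻¹) (b := x) (i := p ^ a)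
        rw [inv_inv] at this
        exact this
      rw [this, hxa]; group
    obtain ⟨b, hb⟩ := (hZp ⟨z, hz⟩)
    have hzb : z ^ p ^ b = 1 := by
      have := congrArg Subtype.val hb
      simpa using this
    -- `k ^ p ^ (a + b) = 1`
    have hzk : z * k = k * z := hcomm z hz k (hKC hk)
    have hkeq : k = z⁻¹ * y := by rw [hyzk]; group
    have hzy : Commute z⁻¹ y := by
      have h1 : Commute z y := by
        rw [hyzk]
        exact (Commute.refl z).mul_right hzk
      exact h1.inv_left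
    have hkpow : k ^ p ^ (a + b) = 1 := by
      rw [hkeq, hzy.mul_pow, inv_pow]
      have h1 : z ^ p ^ (a + b) = 1 := by
        rw [pow_add, mul_comm, pow_mul, hzb, one_pow]
      have h2 : y ^ p ^ (a + b) = 1 := by
        rw [pow_add, pow_mul, hya, one_pow]
      rw [h1, h2]; simp
    have hk1 : k = 1 := by
      have h1 : orderOf k ∣ p ^ (a + b) := orderOf_dvd_of_pow_eq_one hkpow
      have h2 : orderOf k ∣ Nat.card ↥((pPrimeCore p ↥C).map C.subtype) := by
        have := orderOf_dvd_natCard (⟨k, hk⟩ : ↥((pPrimeCore p ↥C).map C.subtype))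
        rwa [Subgroup.orderOf_mk] at this
      have h3 : orderOf k ∣ 1 := by
        have := Nat.dvd_gcd h1 h2
        rwa [Nat.Coprime.gcd_eq_one (Nat.Coprime.pow_left _ hKcop.symm)] at this
      exact orderOf_eq_one_iff.mp (Nat.dvd_one.mp h3)
    rw [hyzk, hk1, mul_one]
    exact (Subgroup.mem_inf.mp hz).1

end Cfsg.Agent.S2011
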