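import Mathlib
import Cfsg.Statements.S5016
import Cfsg.Agent.H2.RankOne

namespace Cfsg.Agent.S5016

open Cfsg Cfsg.Agent.H2.RankOne Matrix

section

variable {k : Type*} [Field k]

/-- lower unitriangular -/
def lo (t : k) : Matrix.SpecialLinearGroup (Fin 2) k := ⟨!![1, 0; t, 1], by simp [Matrix.det_fin_two]⟩
/-- upper unitriangular -/
def up (s : k) : Matrix.SpecialLinearGroup (Fin 2) k := ⟨!![1, s; 0, 1], by simp [Matrix.det_fin_two]⟩

theorem lo_coe (t : k) : ((lo t : Matrix.SpecialLinearGroup (Fin 2) k) : Matrix (Fin 2) (Fin 2) k) = !![1, 0; t, 1] := rfl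
theorem up_coe (t : k) : ((up t : Matrix.SpecialLinearGroup (Fin 2) k) : Matrix (Fin 2) (Fin 2) k) = !![1, t; 0, 1] := rfl

theorem sl2_ext {g h : Matrix.SpecialLinearGroup (Fin 2) k} (h00 : g 0 0 = h 0 0) (h01 : g 0 1 = h 0 1)
    (h10 : g 1 0 = h 1 0) (h11 : g 1 1 = h 1 1) : g = h := by
  apply Matrix.SpecialLinearGroup.ext
  intro i j
  fin_cases i <;> fin_cases j <;> assumption

theorem lo_add (s t : k) : lo s * lo t = lo (s + t) := by
  apply sl2_ext <;> simp [Matrix.SpecialLinearGroup.coe_mul, lo_coe, Matrix.mul_apply, Fin.sum_univ_two, add_comm]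

theorem up_add (s t : k) : up s * up t = up (s + t) := by
  apply sl2_ext <;> simp [Matrix.SpecialLinearGroup.coe_mul, up_coe, Matrix.mul_apply, Fin.sum_univ_two, add_comm]

theorem lo_zero : lo (0 : k) = 1 := by
  apply sl2_ext <;> simp [lo_coe]

theorem up_zero : up (0 : k) = 1 := by
  apply sl2_ext <;> simp [up_coe]

theorem lo_inv (t : k) : (lo t)⁻¹ = lo (-t) := by
  apply inv_eq_of_mul_eq_one_right
  rw [lo_add, add_neg_cancel, lo_zero]

theorem up_inv (t : k) : (up t)⁻¹ = up (-t) := by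
  apply inv_eq_of_mul_eq_one_right
  rw [up_add, add_neg_cancel, up_zero]

theorem lo_injective : Function.Injective (lo : k → _) := by
  intro s t h
  have := congrArg (fun g : Matrix.SpecialLinearGroup (Fin 2) k => g 1 0) h
  simpa [lo_coe] using this

theorem up_injective : Function.Injective (up : k → _) := by
  intro s t h
  have := congrArg (fun g : Matrix.SpecialLinearGroup (Fin 2) k => g 0 1) h
  simpa [up_coe] using this

theorem lo_eq_one_iff {t : k} : lo t = 1 ↔ t = 0 := by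
  rw [← lo_zero]; exact lo_injective.eq_iff

theorem up_eq_one_iff {t : k} : up t = 1 ↔ t = 0 := by
  rw [← up_zero]; exact up_injective.eq_iff

theorem mem_lower {g : Matrix.SpecialLinearGroup (Fin 2) k} :
    g ∈ lowerUnipotentSL2 k ↔ ∃ t, g = lo t := by
  constructor
  · intro hg
    induction hg using Subgroup.closure_induction with
    | mem g hg =>
      obtain ⟨h1, h2, h3⟩ := hg
      exact ⟨g 1 0, by apply sl2_ext <;> simp [lo_coe, h1, h2, h3]⟩
    | one => exact ⟨0, lo_zero.symm⟩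
    | mul x y _ _ hx hy =>
      obtain ⟨s, rfl⟩ := hx
      obtain ⟨t, rfl⟩ := hy
      exact ⟨s + t, lo_add s t⟩
    | inv x _ hx =>
      obtain ⟨s, rfl⟩ := hx
      exact ⟨-s, lo_inv s⟩
  · rintro ⟨t, rfl⟩
    apply Subgroup.subset_closure
    simp [lo_coe]

theorem mem_upper {g : Matrix.SpecialLinearGroup (Fin 2) k} :
    g ∈ upperUnipotentSL2 k ↔ ∃ t, g = up t := by
  constructor
  · intro hg
    induction hg using Subgroup.closure_induction with
    | mem g hg =>
      obtain ⟨h1, h2, h3⟩ := hg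
      exact ⟨g 0 1, by apply sl2_ext <;> simp [up_coe, h1, h2, h3]⟩
    | one => exact ⟨0, up_zero.symm⟩
    | mul x y _ _ hx hy =>
      obtain ⟨s, rfl⟩ := hx
      obtain ⟨t, rfl⟩ := hy
      exact ⟨s + t, up_add s t⟩
    | inv x _ hx =>
      obtain ⟨s, rfl⟩ := hx
      exact ⟨-s, up_inv s⟩
  · rintro ⟨t, rfl⟩
    apply Subgroup.subset_closure
    simp [up_coe]

/-- generation, generic case -/
theorem decomp {g : Matrix.SpecialLinearGroup (Fin 2) k} (hc : g 1 0 ≠ 0) :
    g = up ((g 0 0 - 1) / g 1 0) * lo (g 1 0) * up ((g 1 1 - 1) / g 1 0) := by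
  have hdet : g 0 0 * g 1 1 - g 0 1 * g 1 0 = 1 := by
    have := g.2
    rwa [Matrix.det_fin_two] at this
  apply sl2_ext
  · simp [Matrix.SpecialLinearGroup.coe_mul, up_coe, lo_coe, Matrix.mul_apply, Fin.sum_univ_two]
    field_simp
    ring
  · simp [Matrix.SpecialLinearGroup.coe_mul, up_coe, lo_coe, Matrix.mul_apply, Fin.sum_univ_two]
    field_simp
    linear_combination (-1 : k) * hdet
  · simp [Matrix.SpecialLinearGroup.coe_mul, up_coe, lo_coe, Matrix.mul_apply, Fin.sum_univ_two]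
  · simp [Matrix.SpecialLinearGroup.coe_mul, up_coe, lo_coe, Matrix.mul_apply, Fin.sum_univ_two]
    field_simp
    ring

theorem sup_eq_top : lowerUnipotentSL2 k ⊔ upperUnipotentSL2 k = ⊤ := by
  rw [eq_top_iff]
  have hlo : ∀ t : k, lo t ∈ lowerUnipotentSL2 k ⊔ upperUnipotentSL2 k :=
    fun t => Subgroup.mem_sup_left (mem_lower.2 ⟨t, rfl⟩)
  have hup : ∀ t : k, up t ∈ lowerUnipotentSL2 k ⊔ upperUnipotentSL2 k :=
    fun t => Subgroup.mem_sup_right (mem_upper.2 ⟨t, rfl⟩)
  have key : ∀ g : Matrix.SpecialLinearGroup (Fin 2) k, g 1 0 ≠ 0 →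
      g ∈ lowerUnipotentSL2 k ⊔ upperUnipotentSL2 k := by
    intro g hc
    rw [decomp hc]
    exact Subgroup.mul_mem _ (Subgroup.mul_mem _ (hup _) (hlo _)) (hup _)
  intro g _
  by_cases hc : g 1 0 = 0
  · have hdet : g 0 0 * g 1 1 - g 0 1 * g 1 0 = 1 := by
      have := g.2
      rwa [Matrix.det_fin_two] at this
    have ha : g 0 0 ≠ 0 := by
      intro h0
      rw [h0, hc] at hdet
      simp at hdet
    have h1 : ((lo 1 * g : Matrix.SpecialLinearGroup (Fin 2) k) : Matrix (Fin 2) (Fin 2) k) 1 0 ≠ 0 := by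
      simp [Matrix.SpecialLinearGroup.coe_mul, lo_coe, Matrix.mul_apply, Fin.sum_univ_two, hc, ha]
    have h2 := key _ h1
    have h3 : g = (lo 1)⁻¹ * (lo 1 * g) := by group
    rw [h3]
    exact Subgroup.mul_mem _ (Subgroup.inv_mem _ (hlo 1)) h2
  · exact key g hc


/-- the key identity -/
theorem key (t u : k) (ht : t ≠ 0) :
    up (-t⁻¹) * lo u * up t⁻¹ = lo (-t) * up (-u / t ^ 2) * lo t := by
  apply sl2_ext <;>
    simp [Matrix.SpecialLinearGroup.coe_mul, up_coe, lo_coe, Matrix.mul_apply, Fin.sum_univ_two] <;>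
    field_simp <;> ring

theorem isNilpotent_of_commute {G : Type*} [Group G] (H : Subgroup G)
    (h : ∀ x ∈ H, ∀ y ∈ H, x * y = y * x) : Group.IsNilpotent ↥H := by
  let _ : CommGroup ↥H := { (inferInstance : Group ↥H) with
    mul_comm := fun x y => Subtype.ext (h x x.2 y y.2) }
  exact CommGroup.isNilpotent

theorem lower_comm : ∀ x ∈ lowerUnipotentSL2 k, ∀ y ∈ lowerUnipotentSL2 k, x * y = y * x := by
  intro x hx y hy
  obtain ⟨s, rfl⟩ := mem_lower.1 hx
  obtain ⟨t, rfl⟩ := mem_lower.1 hy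
  rw [lo_add, lo_add, add_comm]

theorem upper_comm : ∀ x ∈ upperUnipotentSL2 k, ∀ y ∈ upperUnipotentSL2 k, x * y = y * x := by
  intro x hx y hy
  obtain ⟨s, rfl⟩ := mem_upper.1 hx
  obtain ⟨t, rfl⟩ := mem_upper.1 hy
  rw [up_add, up_add, add_comm]

theorem conj_eq (t : k) (ht : t ≠ 0) :
    conjBy (lowerUnipotentSL2 k) (up t⁻¹)⁻¹ = conjBy (upperUnipotentSL2 k) (lo t)⁻¹ := by
  ext x
  rw [mem_conjBy, mem_conjBy, inv_inv, inv_inv, mem_lower, mem_upper]
  constructor
  · rintro ⟨u, hu⟩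
    refine ⟨-u / t ^ 2, ?_⟩
    have hx : x = up (-t⁻¹) * lo u * up t⁻¹ := by
      rw [← hu, ← up_inv]; group
    rw [hx, key t u ht, ← lo_inv]; group
  · rintro ⟨v, hv⟩
    refine ⟨-(t ^ 2 * v), ?_⟩
    have hx : x = lo (-t) * up v * lo t := by
      rw [← hv, ← lo_inv]; group
    have hk := key t (-(t ^ 2 * v)) ht
    have e : -(-(t ^ 2 * v)) / t ^ 2 = v := by
      field_simp
    rw [e] at hk
    rw [hx, ← hk, ← up_inv]
    group

theorem rankOnePair : IsRankOnePair (lowerUnipotentSL2 k) (upperUnipotentSL2 k) where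
  ne := by
    intro h
    have h1 : lo (1 : k) ∈ upperUnipotentSL2 k := by
      rw [← h]; exact mem_lower.2 ⟨1, rfl⟩
    obtain ⟨s, hs⟩ := mem_upper.1 h1
    have := congrArg (fun g : Matrix.SpecialLinearGroup (Fin 2) k => g 1 0) hs
    simp [lo_coe, up_coe] at this
  nilpotent_left := isNilpotent_of_commute _ lower_comm
  nilpotent_right := isNilpotent_of_commute _ upper_comm
  cond_left := by
    intro a ha ha1
    obtain ⟨t, rfl⟩ := mem_lower.1 ha
    have ht : t ≠ 0 := fun h => ha1 (lo_eq_one_iff.2 h)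
    refine ⟨up t⁻¹, mem_upper.2 ⟨_, rfl⟩, ?_, conj_eq t ht⟩
    intro h
    exact inv_ne_zero ht (up_eq_one_iff.1 h)
  cond_right := by
    intro b hb hb1
    obtain ⟨s, rfl⟩ := mem_upper.1 hb
    have hs : s ≠ 0 := fun h => hb1 (up_eq_one_iff.2 h)
    refine ⟨lo s⁻¹, mem_lower.2 ⟨_, rfl⟩, ?_, ?_⟩
    · intro h
      exact inv_ne_zero hs (lo_eq_one_iff.1 h)
    · have := conj_eq s⁻¹ (inv_ne_zero hs)
      rw [inv_inv] at this
      exact this.symm

theorem special_aux {s t : k} (hs : s ≠ 0)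
    (h : conjBy (lowerUnipotentSL2 k) (up s)⁻¹ = conjBy (upperUnipotentSL2 k) (lo t)⁻¹) :
    s * t = 1 := by
  have h1 : (up s)⁻¹ * lo 1 * up s ∈ conjBy (lowerUnipotentSL2 k) (up s)⁻¹ := by
    rw [mem_conjBy, mem_lower]
    exact ⟨1, by group⟩
  rw [h, mem_conjBy, inv_inv, mem_upper] at h1
  obtain ⟨v, hv⟩ := h1
  have e00 := congrArg (fun g : Matrix.SpecialLinearGroup (Fin 2) k => g 0 0) hv
  have e10 := congrArg (fun g : Matrix.SpecialLinearGroup (Fin 2) k => g 1 0) hv
  rw [up_inv, lo_inv] at e00 e10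
  simp [Matrix.SpecialLinearGroup.coe_mul, up_coe, lo_coe, Matrix.mul_apply, Fin.sum_univ_two] at e00 e10
  have h2 : s * (s * t - 1) = 0 := by linear_combination e00
  rcases mul_eq_zero.1 h2 with h3 | h3
  · exact absurd h3 hs
  · linear_combination h3

theorem special_identity {s t : k} (hst : s * t = 1) :
    (up s)⁻¹ * lo t * up s = (lo t)⁻¹ * (up s)⁻¹ * lo t := by
  have hs : s ≠ 0 := by
    intro h
    rw [h, zero_mul] at hst
    exact zero_ne_one hst
  have ht : t = s⁻¹ := by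
    field_simp
    linear_combination hst
  rw [up_inv, lo_inv, ht]
  apply sl2_ext
  · simp [Matrix.SpecialLinearGroup.coe_mul, up_coe, lo_coe, Matrix.mul_apply, Fin.sum_univ_two]
  · simp [Matrix.SpecialLinearGroup.coe_mul, up_coe, lo_coe, Matrix.mul_apply, Fin.sum_univ_two]
    left
    rw [mul_inv_cancel₀ hs]; ring
  · simp [Matrix.SpecialLinearGroup.coe_mul, up_coe, lo_coe, Matrix.mul_apply, Fin.sum_univ_two]
    rw [inv_mul_cancel₀ hs]; ring
  · simp [Matrix.SpecialLinearGroup.coe_mul, up_coe, lo_coe, Matrix.mul_apply, Fin.sum_univ_two]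

end

/-- For any field k, the special linear group SL₂(k) is a special rank one group with abelian unipotent subgroups, the unipotent subgroups being the group of lower unitriangular matrices and the group of upper unitriangular matrices. -/
theorem result (k : Type*) [Field k] :
    Cfsg.IsRankOneGroup (Matrix.SpecialLinearGroup (Fin 2) k) (Cfsg.lowerUnipotentSL2 k) (Cfsg.upperUnipotentSL2 k) ∧
    Cfsg.IsSpecialRankOnePair (Cfsg.lowerUnipotentSL2 k) (Cfsg.upperUnipotentSL2 k) ∧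
    Cfsg.HasAbelianUnipotents (Cfsg.lowerUnipotentSL2 k) (Cfsg.upperUnipotentSL2 k) := by
  refine ⟨⟨sup_eq_top, rankOnePair⟩, ⟨rankOnePair, ?_⟩, ⟨?_, ?_⟩⟩
  · intro a ha ha1 b hb hb1 h
    obtain ⟨t, rfl⟩ := mem_lower.1 ha
    obtain ⟨s, rfl⟩ := mem_upper.1 hb
    have hs : s ≠ 0 := fun h => hb1 (up_eq_one_iff.2 h)
    exact special_identity (special_aux hs h)
  · rw [isMulCommutative_iff]
    intro x y
    exact Subtype.ext (lower_comm (x : Matrix.SpecialLinearGroup (Fin 2) k) x.2 y y.2)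
  · rw [isMulCommutative_iff]
    intro x y
    exact Subtype.ext (upper_comm (x : Matrix.SpecialLinearGroup (Fin 2) k) x.2 y y.2)

end Cfsg.Agent.S5016
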