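import Cfsg.Statements.S0214
import Mathlib
import Cfsg.Agent.Lib.Lead.LocalControl
import Cfsg.Agent.S2013

set_option autoImplicit false
open Cfsg

namespace Cfsg.Agent.S0214

open Cfsg.Agent.Lib.Lead.LocalControl Cfsg.Agent.Lib.Lead.ConjFamily Cfsg.Agent.Lib.Lead.Frobenius



/-- Let H be a proper subgroup of the finite group G and P a nontrivial Sylow 2-subgroup of H. Then H is strongly embedded in G if and only if N_G(X) ≤ H for every nontrivial subgroup X of P. -/
theorem result {G : Type*} [Group G] [Finite G] (H : Subgroup G) (hH : H ≠ ⊤) (P : Sylow 2 ↥H) (hP : (P : Subgroup ↥H) ≠ ⊥) : Cfsg.IsStronglyEmbedded H ↔ (∀ X : Subgroup ↥H, X ≤ (P : Subgroup ↥H) → X ≠ ⊥ → Subgroup.normalizer ((X.map H.subtype : Subgroup G) : Set G) ≤ H) := by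
  classical
  set P' : Subgroup G := (P : Subgroup ↥H).map H.subtype with hP'
  have hP'H : P' ≤ H := by
    rintro _ ⟨x, -, rfl⟩; exact x.2
  have hP'2 : IsPGroup 2 ↥P' := P.isPGroup'.map _
  have hP'ne : P' ≠ ⊥ := by
    intro h
    apply hP
    rw [hP', Subgroup.map_eq_bot_iff_of_injective _ H.subtype_injective] at h
    exact h
  have hsub : ∀ U : Subgroup G, U ≤ P' → (U.subgroupOf H ≤ (P : Subgroup ↥H) ∧ (U.subgroupOf H).map H.subtype = U) := by
    intro U hU
    constructor
    · intro x hx
      have := hU (Subgroup.mem_subgroupOf.1 hx)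
      obtain ⟨y, hy, hyx⟩ := this
      have : y = x := Subtype.ext hyx
      rw [← this]; exact hy
    · exact Subgroup.map_subgroupOf_eq_of_le (hU.trans hP'H)
  constructor
  · rintro ⟨-, -, hodd⟩ X hXP hXne g hg
    by_contra hgH
    have ho := hodd g hgH
    set X' : Subgroup G := X.map H.subtype with hX'
    have hX'le : X' ≤ H ⊓ H.map (MulAut.conj g).toMonoidHom := by
      intro x hx
      refine ⟨?_, ?_⟩
      · obtain ⟨y, -, rfl⟩ := hx; exact y.2
      · have hg' : g⁻¹ ∈ Subgroup.normalizer (X' : Set G) := Subgroup.inv_mem _ hg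
        have h1 : g⁻¹ * x * g⁻¹⁻¹ ∈ X' := (Subgroup.mem_normalizer_iff.1 hg' x).1 hx
        rw [inv_inv] at h1
        obtain ⟨y, -, hy⟩ := h1
        refine ⟨(y : G), y.2, ?_⟩
        show g * (y : G) * g⁻¹ = x
        have : (y : G) = g⁻¹ * x * g := hy
        rw [this]; group
    have hdvd : Nat.card ↥X' ∣ Nat.card ↥(H ⊓ H.map (MulAut.conj g).toMonoidHom) :=
      Subgroup.card_dvd_of_le hX'le
    have hX'2 : IsPGroup 2 ↥X' := (P.isPGroup'.to_le hXP).map _
    obtain ⟨k, hk⟩ := IsPGroup.iff_card.mp hX'2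
    have hk0 : k ≠ 0 := by
      rintro rfl
      rw [pow_zero, Subgroup.card_eq_one] at hk
      apply hXne
      rw [hX', Subgroup.map_eq_bot_iff_of_injective _ H.subtype_injective] at hk
      exact hk
    have h2 : 2 ∣ Nat.card ↥X' := by rw [hk]; exact dvd_pow_self 2 hk0
    have := dvd_trans h2 hdvd
    rw [Nat.odd_iff] at ho
    omega
  · intro hN
    have hNG : ∀ U : Subgroup G, U ≤ P' → U ≠ ⊥ → Subgroup.normalizer (U : Set G) ≤ H := by
      intro U hU hUne
      obtain ⟨h1, h2⟩ := hsub U hU
      have h3 := hN (U.subgroupOf H) h1 (by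
        intro hb
        apply hUne
        rw [← h2, hb, Subgroup.map_bot])
      rw [h2] at h3
      exact h3
    -- `P'` is a Sylow subgroup of `G`
    obtain ⟨S, hS⟩ := hP'2.exists_le_sylow
    have hSeq : (S : Subgroup G) = P' := by
      by_contra hne
      have hlt := Cfsg.Agent.S2013.normalizer_grow (p := 2) S.isPGroup' hS (fun h => hne h.symm)
      set R := (S : Subgroup G) ⊓ Subgroup.normalizer (P' : Set G) with hR
      have hRH : R ≤ H := inf_le_right.trans (hNG P' le_rfl hP'ne)
      have hR2 : IsPGroup 2 ↥R := S.isPGroup'.to_le inf_le_left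
      have hR2' : IsPGroup 2 ↥(R.subgroupOf H) := hR2.comap_subtype
      have hle : (P : Subgroup ↥H) ≤ R.subgroupOf H := by
        intro x hx
        rw [Subgroup.mem_subgroupOf]
        exact hlt.le ⟨x, hx, rfl⟩
      have heq := P.is_maximal' hR2' hle
      have : R ≤ P' := by
        intro r hr
        have : (⟨r, hRH hr⟩ : ↥H) ∈ R.subgroupOf H := Subgroup.mem_subgroupOf.2 hr
        rw [heq] at this
        exact ⟨_, this, rfl⟩
      exact absurd (le_antisymm this hlt.le) (ne_of_gt hlt)
    refine ⟨hH, ?_, ?_⟩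
    · have h2 : 2 ∣ Nat.card ↥P' := by
        obtain ⟨k, hk⟩ := IsPGroup.iff_card.mp hP'2
        have hk0 : k ≠ 0 := by
          rintro rfl
          rw [pow_zero, Subgroup.card_eq_one] at hk
          exact hP'ne hk
        rw [hk]; exact dvd_pow_self 2 hk0
      exact even_iff_two_dvd.2 (dvd_trans h2 (Subgroup.card_dvd_of_le hP'H))
    · intro g hg
      by_contra hodd
      rw [Nat.not_odd_iff_even, even_iff_two_dvd] at hodd
      obtain ⟨⟨t, htD⟩, hto⟩ := exists_prime_orderOf_dvd_card' (G := ↥(H ⊓ H.map (MulAut.conj g).toMonoidHom)) 2 hodd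
      rw [Subgroup.orderOf_mk] at hto
      obtain ⟨htH, htg⟩ := htD
      have htg' : g⁻¹ * t * g ∈ H := by
        obtain ⟨y, hy, hyt⟩ := htg
        have : g * y * g⁻¹ = t := hyt
        rw [← this]
        have : g⁻¹ * (g * y * g⁻¹) * g = y := by group
        rw [this]; exact hy
      -- conjugate into `P'` inside `H`
      have hconjH : ∀ s ∈ H, orderOf s = 2 → ∃ h ∈ H, h * s * h⁻¹ ∈ P' := by
        intro s hs hso
        have hz : IsPGroup 2 ↥(Subgroup.zpowers (⟨s, hs⟩ : ↥H)) := by
          apply IsPGroup.of_card (n := 1)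
          rw [Nat.card_zpowers, Subgroup.orderOf_mk, hso, pow_one]
        obtain ⟨h, hh⟩ := exists_conj_mem_sylow P hz
        refine ⟨h, h.2, ?_⟩
        exact ⟨_, hh _ (Subgroup.mem_zpowers _), rfl⟩
      obtain ⟨h, hhH, hht⟩ := hconjH t htH hto
      have hto' : orderOf (g⁻¹ * t * g) = 2 := by
        have := Cfsg.Agent.Lib.Lead.Conj.orderOf_conj' g t
        rw [this]; exact hto
      obtain ⟨h', hh'H, hh't⟩ := hconjH _ htg' hto'
      set a := h * t * h⁻¹ with ha
      set k := h * g * h'⁻¹ with hk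
      have hA : ({a} : Set G) ⊆ ((S : Subgroup G) : Set G) := by
        rintro _ rfl; rw [hSeq]; exact hht
      have hrc : rc k ({a} : Set G) ⊆ ((S : Subgroup G) : Set G) := by
        rintro _ ⟨_, rfl, rfl⟩
        show k⁻¹ * a * k ∈ (S : Subgroup G)
        rw [hSeq]
        have : k⁻¹ * a * k = h' * (g⁻¹ * t * g) * h'⁻¹ := by rw [hk, ha]; group
        rw [this]; exact hh't
      have hloc : ∀ U ∈ Cfsg.Agent.S1959.F0 S, ∀ n ∈ Subgroup.normalizer (U : Set G),
          ∃ y ∈ H, ∀ u ∈ U, n⁻¹ * u * n = y⁻¹ * u * y := by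
        intro U hU n hn
        by_cases hUb : U = ⊥
        · refine ⟨1, H.one_mem, ?_⟩
          intro u hu
          rw [hUb, Subgroup.mem_bot] at hu
          rw [hu]; group
        · exact ⟨n, hNG U (hSeq ▸ hU.1) hUb hn, fun u _ => rfl⟩
      obtain ⟨y, hyH, hy⟩ := control_of_local S H hloc {a} k hA hrc
      have hya := hy a rfl
      -- `k * y⁻¹` centralizes `a`
      have hane : a ≠ 1 := by
        intro h1
        have : t = 1 := by
          calc t = h⁻¹ * a * h := by rw [ha]; group
            _ = 1 := by rw [h1]; group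
        rw [this, orderOf_one] at hto
        exact absurd hto (by norm_num)
      have hzle : Subgroup.zpowers a ≤ P' := by
        rw [Subgroup.zpowers_le]; exact hht
      have hzne : Subgroup.zpowers a ≠ ⊥ := by
        intro hb
        apply hane
        have : a ∈ Subgroup.zpowers a := Subgroup.mem_zpowers a
        rw [hb, Subgroup.mem_bot] at this
        exact this
      have hkyN : k * y⁻¹ ∈ Subgroup.normalizer ((Subgroup.zpowers a : Subgroup G) : Set G) := by
        apply Subgroup.centralizer_le_normalizer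
        rw [Subgroup.mem_centralizer_iff]
        intro z hz
        obtain ⟨i, rfl⟩ := Subgroup.mem_zpowers_iff.1 hz
        have hc : Commute (k * y⁻¹) a := by
          show k * y⁻¹ * a = a * (k * y⁻¹)
          have e : a * k = k * (y⁻¹ * a * y) := by rw [← hya]; group
          calc k * y⁻¹ * a = k * (y⁻¹ * a * y) * y⁻¹ := by group
            _ = a * k * y⁻¹ := by rw [← e]
            _ = a * (k * y⁻¹) := by group
        exact ((hc.zpow_right i).eq).symm
      have hkyH : k * y⁻¹ ∈ H := hNG _ hzle hzne hkyN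
      have hkH : k ∈ H := by
        have := H.mul_mem hkyH hyH
        simpa using this
      apply hg
      have : g = h⁻¹ * k * h' := by rw [hk]; group
      rw [this]
      exact H.mul_mem (H.mul_mem (H.inv_mem hhH) hkH) hh'H

end Cfsg.Agent.S0214
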