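import Cfsg.Statements.S1907
import Mathlib
import Cfsg.Agent.Lib.Lead.Conj
import Cfsg.Agent.Lib.Helper7.SylowLib
import Cfsg.Agent.H1.Cores
import Cfsg.Agent.S1963

set_option autoImplicit false
set_option linter.style.haveILetI false
set_option linter.unusedSectionVars false
open Cfsg Cfsg.Agent.Lib.Helper7 Cfsg.Agent.Lib.Lead.Conj Cfsg.Agent.S1963

namespace Cfsg.Agent.S1907

variable {G : Type*} [Group G] [Finite G] {p : ℕ} [hp : Fact p.Prime]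

theorem pPrimePCore_normal : (Cfsg.pPrimePCore p G).Normal := by
  unfold Cfsg.pPrimePCore
  have : (Cfsg.pCore p (G ⧸ Cfsg.pPrimeCore p G)).Normal := Cfsg.Agent.H1.pCore_normal p
  exact Subgroup.Normal.comap this _

theorem pPrimeCore_le_pPrimePCore : Cfsg.pPrimeCore p G ≤ Cfsg.pPrimePCore p G := by
  intro x hx
  unfold Cfsg.pPrimePCore
  rw [Subgroup.mem_comap]
  have : (QuotientGroup.mk' (Cfsg.pPrimeCore p G)) x = 1 := by
    rw [QuotientGroup.mk'_apply, QuotientGroup.eq_one_iff]; exact hx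
  rw [this]; exact Subgroup.one_mem _

/-- `|O_{p',p}(G) : O_{p'}(G)|` is a power of `p`. -/
theorem relIndex_pow : ∃ k : ℕ, (Cfsg.pPrimeCore p G).relIndex (Cfsg.pPrimePCore p G) = p ^ k := by
  have h2 : (Cfsg.pPrimeCore p G).relIndex (Cfsg.pPrimePCore p G) =
      Nat.card ↥((Cfsg.pPrimePCore p G).map (QuotientGroup.mk' (Cfsg.pPrimeCore p G))) := by
    have := Subgroup.relIndex_ker (K := Cfsg.pPrimePCore p G) (f := QuotientGroup.mk' (Cfsg.pPrimeCore p G))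
    rwa [QuotientGroup.ker_mk'] at this
  rw [h2]
  unfold Cfsg.pPrimePCore
  rw [Subgroup.map_comap_eq_self_of_surjective (QuotientGroup.mk'_surjective _)]
  exact IsPGroup.iff_card.mp (Cfsg.Agent.H1.pCore_isPGroup p)

variable (P : Sylow p G)

theorem isSylowIn_H : IsSylowIn p ((P : Subgroup G) ⊓ Cfsg.pPrimePCore p G) (Cfsg.pPrimePCore p G) := by
  apply IsSylowIn.inf_normal (IsSylowIn.of_sylow_top P) _ le_top
  have := pPrimePCore_normal (G := G) (p := p)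
  rw [Subgroup.normalizer_eq_top]

theorem isPGroup_H : IsPGroup p ↥((P : Subgroup G) ⊓ Cfsg.pPrimePCore p G) :=
  P.isPGroup'.to_le inf_le_left

/-- a `p`-subgroup meets `O_{p'}(G)` trivially -/
theorem inf_pPrimeCore_eq_bot {R : Subgroup G} (hR : IsPGroup p ↥R) : R ⊓ Cfsg.pPrimeCore p G = ⊥ := by
  apply disjoint_iff.mp
  apply Subgroup.disjoint_of_coprime_natCard
  obtain ⟨k, hk⟩ := IsPGroup.iff_card.mp hR
  rw [hk]
  exact (Nat.Coprime.pow_left k (Cfsg.Agent.H1.pPrimeCore_coprime (G := G) p).symm)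

/-- `O_{p',p}(G) = O_{p'}(G) (P ∩ O_{p',p}(G))`. -/
theorem pPrimePCore_eq_sup :
    Cfsg.pPrimePCore p G = Cfsg.pPrimeCore p G ⊔ ((P : Subgroup G) ⊓ Cfsg.pPrimePCore p G) := by
  symm
  have hle : Cfsg.pPrimeCore p G ⊔ ((P : Subgroup G) ⊓ Cfsg.pPrimePCore p G) ≤ Cfsg.pPrimePCore p G :=
    sup_le pPrimeCore_le_pPrimePCore inf_le_right
  apply Subgroup.eq_of_le_of_card_ge hle
  -- cardinalities
  obtain ⟨k, hk⟩ := relIndex_pow (G := G) (p := p)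
  have hcop : (Nat.card ↥(Cfsg.pPrimeCore p G)).Coprime p := Cfsg.Agent.H1.pPrimeCore_coprime p
  have hL : Nat.card ↥(Cfsg.pPrimePCore p G) = Nat.card ↥(Cfsg.pPrimeCore p G) * p ^ k := by
    rw [← hk]
    have := ((Cfsg.pPrimeCore p G).subgroupOf (Cfsg.pPrimePCore p G)).card_mul_index
    rw [card_subgroupOf_of_le pPrimeCore_le_pPrimePCore] at this
    exact this.symm
  have hH : Nat.card ↥((P : Subgroup G) ⊓ Cfsg.pPrimePCore p G) = p ^ k := by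
    rw [(isSylowIn_H P).2, hL]
    congr 1
    rw [Nat.factorization_mul Nat.card_pos.ne' (pow_ne_zero k hp.out.pos.ne')]
    simp only [Finsupp.coe_add, Pi.add_apply]
    rw [Nat.factorization_eq_zero_of_not_dvd ((Nat.Prime.coprime_iff_not_dvd hp.out).mp hcop.symm),
      hp.out.factorization_pow]
    simp
  rw [hL]
  apply Nat.le_of_dvd Nat.card_pos
  apply Nat.Coprime.mul_dvd_of_dvd_of_dvd (hcop.pow_right k)
  · exact Subgroup.card_dvd_of_le le_sup_left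
  · rw [← hH]; exact Subgroup.card_dvd_of_le le_sup_right

/-- Frattini argument: `G = N_G(H) O_{p'}(G)`. -/
theorem frattini :
    Subgroup.normalizer (((P : Subgroup G) ⊓ Cfsg.pPrimePCore p G : Subgroup G) : Set G) ⊔
      Cfsg.pPrimeCore p G = ⊤ := by
  haveI := pPrimePCore_normal (G := G) (p := p)
  obtain ⟨R, hR⟩ := (isSylowIn_H P).exists_sylow
  have h1 := Sylow.normalizer_sup_eq_top R
  rw [hR, Subgroup.subgroupOf_map_subtype, inf_of_le_left (inf_le_right : _ ≤ Cfsg.pPrimePCore p G)] at h1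
  rw [eq_top_iff, ← h1]
  apply sup_le le_sup_left
  conv_lhs => rw [pPrimePCore_eq_sup P]
  apply sup_le le_sup_right
  exact le_trans Subgroup.le_normalizer le_sup_left

/-- part (a) -/
theorem partA (y : G)
    (hyN : y ∈ Subgroup.normalizer (((P : Subgroup G) ⊓ Cfsg.pPrimePCore p G : Subgroup G) : Set G))
    (hyp : ∃ k : ℕ, orderOf y = p ^ k) (d : G) (hd : d ∈ Cfsg.pPrimeCore p G)
    (hdy : d⁻¹ * y * d ∈
      Subgroup.normalizer (((P : Subgroup G) ⊓ Cfsg.pPrimePCore p G : Subgroup G) : Set G)) :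
    ∃ d₁ ∈ Cfsg.pPrimeCore p G ⊓ Subgroup.centralizer ({y} : Set G),
      ∃ d₂ ∈ Cfsg.pPrimeCore p G ⊓
        Subgroup.centralizer (((P : Subgroup G) ⊓ Cfsg.pPrimePCore p G : Subgroup G) : Set G),
        d = d₁ * d₂ := by
  haveI hLn := pPrimePCore_normal (G := G) (p := p)
  haveI hDn : (Cfsg.pPrimeCore p G).Normal := Cfsg.Agent.H1.pPrimeCore_normal p
  set H := (P : Subgroup G) ⊓ Cfsg.pPrimePCore p G with hH
  have hHp : IsPGroup p ↥H := isPGroup_H P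
  have hyzp : IsPGroup p ↥(Subgroup.zpowers y) := by
    obtain ⟨k, hk⟩ := hyp
    apply IsPGroup.of_card (n := k)
    rw [Nat.card_zpowers, hk]
  -- `R = H⟨y⟩`
  have hRp : IsPGroup p ↥(H ⊔ Subgroup.zpowers y) :=
    IsPGroup.to_sup_of_normal_left' hHp hyzp (Subgroup.zpowers_le.mpr hyN)
  -- `R' = (dHd⁻¹)⟨y⟩`
  have hyN' : y ∈ Subgroup.normalizer ((cj d H : Subgroup G) : Set G) := by
    rw [← cj_normalizer, mem_map_conj]
    exact hdy
  have hR'p : IsPGroup p ↥(cj d H ⊔ Subgroup.zpowers y) :=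
    IsPGroup.to_sup_of_normal_left' (hHp.map _) hyzp (Subgroup.zpowers_le.mpr hyN')
  -- `M = D R`
  have hHL : H ≤ Cfsg.pPrimePCore p G := inf_le_right
  have hdL : d ∈ Cfsg.pPrimePCore p G := pPrimeCore_le_pPrimePCore hd
  have hcjL : cj d H ≤ Cfsg.pPrimePCore p G := by
    rintro _ ⟨h, hh, rfl⟩
    exact hLn.conj_mem h (hHL hh) d
  have hLM : Cfsg.pPrimePCore p G ≤ Cfsg.pPrimeCore p G ⊔ (H ⊔ Subgroup.zpowers y) := by
    rw [pPrimePCore_eq_sup P]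
    exact sup_le_sup_left le_sup_left _
  have hR'M : cj d H ⊔ Subgroup.zpowers y ≤ Cfsg.pPrimeCore p G ⊔ (H ⊔ Subgroup.zpowers y) :=
    sup_le (hcjL.trans hLM) (le_trans le_sup_right le_sup_right)
  -- Sylow subgroups of `M`
  obtain ⟨S₁, hS₁, hRS₁⟩ := exists_isSylowIn_ge hRp
    (le_sup_right : H ⊔ Subgroup.zpowers y ≤ Cfsg.pPrimeCore p G ⊔ (H ⊔ Subgroup.zpowers y))
  obtain ⟨S₂, hS₂, hRS₂⟩ := exists_isSylowIn_ge hR'p hR'M
  obtain ⟨m, hmM, hm⟩ := hS₁.conj hS₂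
  -- `m = c r`
  have hmem : m ∈ ((Cfsg.pPrimeCore p G ⊔ (H ⊔ Subgroup.zpowers y) : Subgroup G) : Set G) := hmM
  rw [Subgroup.normal_mul] at hmem
  obtain ⟨c, hc, r, hr, rfl⟩ := Set.mem_mul.mp hmem
  have hcD : c ∈ Cfsg.pPrimeCore p G := hc
  have hrR : r ∈ H ⊔ Subgroup.zpowers y := hr
  have hrS : cj r S₁ = S₁ := by
    apply map_conj_eq_of_le
    rintro _ ⟨s, hs, rfl⟩
    exact S₁.mul_mem (S₁.mul_mem (hRS₁ hrR) hs) (S₁.inv_mem (hRS₁ hrR))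
  have hS₂' : S₂ = cj c S₁ := by
    rw [hm]
    change cj (c * r) S₁ = cj c S₁
    rw [← cj_cj, hrS]
  have hS₁p : IsPGroup p ↥S₁ := hS₁.isPGroup
  have hSD : S₁ ⊓ Cfsg.pPrimeCore p G = ⊥ := inf_pPrimeCore_eq_bot hS₁p
  -- `c` centralizes `y`
  have hyS₁ : y ∈ S₁ := hRS₁ (Subgroup.mem_sup_right (Subgroup.mem_zpowers y))
  have hyS₂ : y ∈ S₂ := hRS₂ (Subgroup.mem_sup_right (Subgroup.mem_zpowers y))
  have hcy : c⁻¹ * y * c ∈ S₁ := by
    rw [hS₂'] at hyS₂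
    exact (mem_map_conj S₁ c y).mp hyS₂
  have hcomm : y⁻¹ * (c⁻¹ * y * c) = 1 := by
    have h1 : y⁻¹ * (c⁻¹ * y * c) ∈ S₁ := S₁.mul_mem (S₁.inv_mem hyS₁) hcy
    have h2 : y⁻¹ * (c⁻¹ * y * c) ∈ Cfsg.pPrimeCore p G := by
      have : y⁻¹ * (c⁻¹ * y * c) = (y⁻¹ * c⁻¹ * y⁻¹⁻¹) * c := by group
      rw [this]
      exact Subgroup.mul_mem _ (hDn.conj_mem _ (Subgroup.inv_mem _ hcD) _) hcD
    have : y⁻¹ * (c⁻¹ * y * c) ∈ S₁ ⊓ Cfsg.pPrimeCore p G := Subgroup.mem_inf.mpr ⟨h1, h2⟩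
    rw [hSD] at this
    exact this
  have hcy' : y * c = c * y := by
    calc y * c = c * (y * (y⁻¹ * (c⁻¹ * y * c))) := by group
      _ = c * y := by rw [hcomm, mul_one]
  -- `e = c⁻¹ d` normalizes, hence centralizes, `H`
  have hSL : S₁ ⊓ Cfsg.pPrimePCore p G = H := by
    apply eq_of_isSylowIn_le (isSylowIn_H P) (le_inf (le_trans le_sup_left hRS₁) hHL) inf_le_right
    exact hS₁p.to_le inf_le_left
  have heH : ∀ h ∈ H, (c⁻¹ * d) * h * (c⁻¹ * d)⁻¹ ∈ H := by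
    intro h hh
    rw [← hSL]
    refine Subgroup.mem_inf.mpr ⟨?_, ?_⟩
    · have h1 : d * h * d⁻¹ ∈ S₂ :=
        hRS₂ (Subgroup.mem_sup_left (conj_mem_map_conj H d hh))
      rw [hS₂'] at h1
      have h2 := (mem_map_conj S₁ c _).mp h1
      have e : (c⁻¹ * d) * h * (c⁻¹ * d)⁻¹ = c⁻¹ * (d * h * d⁻¹) * c := by group
      rw [e]; exact h2
    · exact hLn.conj_mem h (hHL hh) _
  have heD : c⁻¹ * d ∈ Cfsg.pPrimeCore p G := Subgroup.mul_mem _ (Subgroup.inv_mem _ hcD) hd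
  have heC : c⁻¹ * d ∈ Subgroup.centralizer ((H : Subgroup G) : Set G) := by
    rw [Subgroup.mem_centralizer_iff]
    intro h hh
    have h1 := heH h hh
    have h2 : (c⁻¹ * d) * h * (c⁻¹ * d)⁻¹ * h⁻¹ ∈ H ⊓ Cfsg.pPrimeCore p G := by
      refine Subgroup.mem_inf.mpr ⟨?_, ?_⟩
      · exact H.mul_mem h1 (H.inv_mem hh)
      · have : (c⁻¹ * d) * h * (c⁻¹ * d)⁻¹ * h⁻¹ = (c⁻¹ * d) * (h * (c⁻¹ * d)⁻¹ * h⁻¹) := by group
        rw [this]
        exact Subgroup.mul_mem _ heD (hDn.conj_mem _ (Subgroup.inv_mem _ heD) _)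
    rw [inf_pPrimeCore_eq_bot hHp] at h2
    have h3 : (c⁻¹ * d) * h * (c⁻¹ * d)⁻¹ * h⁻¹ = 1 := h2
    calc h * (c⁻¹ * d) = ((c⁻¹ * d) * h * (c⁻¹ * d)⁻¹ * h⁻¹)⁻¹ * ((c⁻¹ * d) * h) := by group
      _ = (c⁻¹ * d) * h := by rw [h3]; group
  refine ⟨c, Subgroup.mem_inf.mpr ⟨hcD, ?_⟩, c⁻¹ * d, Subgroup.mem_inf.mpr ⟨heD, heC⟩, by group⟩
  rw [Subgroup.mem_centralizer_iff]
  intro t ht
  rw [Set.mem_singleton_iff.mp ht]
  exact hcy'

theorem P_le_normalizer :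
    (P : Subgroup G) ≤
      Subgroup.normalizer (((P : Subgroup G) ⊓ Cfsg.pPrimePCore p G : Subgroup G) : Set G) := by
  have hLn := pPrimePCore_normal (G := G) (p := p)
  intro q hq
  apply mem_normalizer_of_conj_mem
  intro r hr
  exact Subgroup.mem_inf.mpr
    ⟨(P : Subgroup G).mul_mem ((P : Subgroup G).mul_mem hq (Subgroup.mem_inf.mp hr).1)
      ((P : Subgroup G).inv_mem hq), hLn.conj_mem r (Subgroup.mem_inf.mp hr).2 q⟩

theorem result {G : Type*} [Group G] [Finite G] {p : ℕ} [Fact p.Prime] (P : Sylow p G) :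
    (∀ y ∈ Subgroup.normalizer (((P : Subgroup G) ⊓ Cfsg.pPrimePCore p G : Subgroup G) : Set G), (∃ k : ℕ, orderOf y = p ^ k) →
      ∀ d ∈ Cfsg.pPrimeCore p G, d⁻¹ * y * d ∈ Subgroup.normalizer (((P : Subgroup G) ⊓ Cfsg.pPrimePCore p G : Subgroup G) : Set G) →
        ∃ d₁ ∈ Cfsg.pPrimeCore p G ⊓ Subgroup.centralizer ({y} : Set G),
          ∃ d₂ ∈ Cfsg.pPrimeCore p G ⊓ Subgroup.centralizer (((P : Subgroup G) ⊓ Cfsg.pPrimePCore p G : Subgroup G) : Set G), d = d₁ * d₂) ∧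
    ∀ x y : G, x ∈ (P : Subgroup G) → y ∈ (P : Subgroup G) → IsConj x y →
      ∃ n ∈ Subgroup.normalizer (((P : Subgroup G) ⊓ Cfsg.pPrimePCore p G : Subgroup G) : Set G), n * x * n⁻¹ = y := by
  refine ⟨fun y hy hyp d hd hdy => partA P y hy hyp d hd hdy, ?_⟩
  intro x y hx hy hxy
  haveI hDn : (Cfsg.pPrimeCore p G).Normal := Cfsg.Agent.H1.pPrimeCore_normal p
  obtain ⟨g, hg⟩ := isConj_iff.mp hxy
  have hgtop : g ∈ ((Subgroup.normalizer (((P : Subgroup G) ⊓ Cfsg.pPrimePCore p G : Subgroup G) : Set G) ⊔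
      Cfsg.pPrimeCore p G : Subgroup G) : Set G) := by
    rw [frattini P]; trivial
  rw [Subgroup.mul_normal] at hgtop
  obtain ⟨n, hn, d, hd, rfl⟩ := Set.mem_mul.mp hgtop
  have hnN : n ∈ Subgroup.normalizer (((P : Subgroup G) ⊓ Cfsg.pPrimePCore p G : Subgroup G) : Set G) := hn
  have hdD : d ∈ Cfsg.pPrimeCore p G := hd
  have hxN := P_le_normalizer P hx
  have hyN := P_le_normalizer P hy
  have hxp : ∃ k : ℕ, orderOf x = p ^ k := by
    have := (IsPGroup.iff_orderOf.mp P.isPGroup') ⟨x, hx⟩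
    obtain ⟨k, hk⟩ := this
    exact ⟨k, by rw [← hk]; exact (Subgroup.orderOf_coe (⟨x, hx⟩ : ↥(P : Subgroup G)))⟩
  have hdx : d⁻¹⁻¹ * x * d⁻¹ ∈
      Subgroup.normalizer (((P : Subgroup G) ⊓ Cfsg.pPrimePCore p G : Subgroup G) : Set G) := by
    have e : d⁻¹⁻¹ * x * d⁻¹ = n⁻¹ * y * n := by rw [← hg]; group
    rw [e]
    exact Subgroup.mul_mem _ (Subgroup.mul_mem _ (Subgroup.inv_mem _ hnN) hyN) hnN
  obtain ⟨d₁, hd₁, d₂, hd₂, hdd⟩ := partA P x hxN hxp d⁻¹ (Subgroup.inv_mem _ hdD) hdx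
  have hd₁x : x * d₁ = d₁ * x :=
    (Subgroup.mem_centralizer_iff.mp (Subgroup.mem_inf.mp hd₁).2) x rfl
  have hd₂N : d₂ ∈ Subgroup.normalizer (((P : Subgroup G) ⊓ Cfsg.pPrimePCore p G : Subgroup G) : Set G) :=
    Subgroup.centralizer_le_normalizer _ (Subgroup.mem_inf.mp hd₂).2
  refine ⟨n * d₂⁻¹, Subgroup.mul_mem _ hnN (Subgroup.inv_mem _ hd₂N), ?_⟩
  rw [← hg]
  have hd : d = d₂⁻¹ * d₁⁻¹ := by
    have : d = (d⁻¹)⁻¹ := (inv_inv d).symm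
    rw [this, hdd, mul_inv_rev]
  have h1 : d₁⁻¹ * x * d₁ = x := by
    calc d₁⁻¹ * x * d₁ = d₁⁻¹ * (x * d₁) := by group
      _ = d₁⁻¹ * (d₁ * x) := by rw [hd₁x]
      _ = x := by group
  calc n * d₂⁻¹ * x * (n * d₂⁻¹)⁻¹ = n * d₂⁻¹ * (d₁⁻¹ * x * d₁) * d₂ * n⁻¹ := by rw [h1]; group
    _ = n * (d₂⁻¹ * d₁⁻¹) * x * (n * (d₂⁻¹ * d₁⁻¹))⁻¹ := by group
    _ = n * d * x * (n * d)⁻¹ := by rw [← hd]

end Cfsg.Agent.S1907
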