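import Cfsg.Statements.S1755
import Cfsg.Agent.Lib.Lead.Conj
import Cfsg.Agent.Lib.Lead.StronglyEmbedded
import Cfsg.Agent.H2.Layer
import Cfsg.Agent.H1.Cores

set_option autoImplicit false
set_option linter.style.haveILetI false
open Cfsg

namespace Cfsg.Agent.S1755

open Cfsg.Agent.Lib.Lead

/-- A finite cyclic group has at most one involution. -/
theorem unique_involution {T : Type*} [Group T] [Finite T] [IsCyclic T] {a b : T}
    (ha : orderOf a = 2) (hb : orderOf b = 2) : a = b := by
  classical
  haveI := Fintype.ofFinite T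
  by_contra hab
  have h := IsCyclic.card_pow_eq_one_le (α := T) (n := 2) (by norm_num)
  have ha1 : a ≠ 1 := by rintro rfl; simp at ha
  have hb1 : b ≠ 1 := by rintro rfl; simp at hb
  have hsub : ({1, a, b} : Finset T) ⊆ Finset.univ.filter (fun x => x ^ 2 = 1) := by
    intro x hx
    simp only [Finset.mem_insert, Finset.mem_singleton] at hx
    simp only [Finset.mem_filter, Finset.mem_univ, true_and]
    rcases hx with rfl | rfl | rfl
    · simp
    · rw [← ha]; exact pow_orderOf_eq_one _
    · rw [← hb]; exact pow_orderOf_eq_one _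
  have hc : ({1, a, b} : Finset T).card = 3 := by
    rw [Finset.card_insert_of_notMem, Finset.card_insert_of_notMem, Finset.card_singleton]
    · simpa using hab
    · simp [ha1.symm, hb1.symm]
  have h3 := Finset.card_le_card hsub
  have : (Finset.univ.filter (fun x : T => x ^ 2 = 1)).card ≤ 2 := by
    convert h
  omega

/-- In a finite 2-group of symplectic type, an involution of a characteristic abelian subgroup
coincides with any central involution. -/
theorem involution_eq {Q : Type*} [Group Q] [Finite Q] (hQ : Cfsg.IsOfSymplecticType Q)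
    (B : Subgroup Q) (hBc : B.Characteristic) (hBa : IsMulCommutative ↥B)
    {b zQ : Q} (hb : b ∈ B) (hob : orderOf b = 2) (hz : zQ ∈ Subgroup.center Q)
    (hoz : orderOf zQ = 2) : b = zQ := by
  haveI : IsCyclic ↥B := hQ.2 B hBc hBa
  haveI : B.Normal := inferInstance
  -- b is central
  have hbc : b ∈ Subgroup.center Q := by
    rw [Subgroup.mem_center_iff]
    intro q
    have hq : q * b * q⁻¹ ∈ B := ‹B.Normal›.conj_mem b hb q
    have ho : orderOf (⟨q * b * q⁻¹, hq⟩ : ↥B) = 2 := by
      rw [← Subgroup.orderOf_coe]; simp only; rw [Conj.orderOf_conj]; exact hob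
    have ho' : orderOf (⟨b, hb⟩ : ↥B) = 2 := by
      rw [← Subgroup.orderOf_coe]; exact hob
    have := unique_involution ho ho'
    have h2 : q * b * q⁻¹ = b := congrArg Subtype.val this
    calc q * b = (q * b * q⁻¹) * q := by group
      _ = b * q := by rw [h2]
  haveI : IsMulCommutative ↥(Subgroup.center Q) := inferInstance
  haveI : IsCyclic ↥(Subgroup.center Q) := hQ.2 _ inferInstance inferInstance
  have ho1 : orderOf (⟨b, hbc⟩ : ↥(Subgroup.center Q)) = 2 := by
    rw [← Subgroup.orderOf_coe]; exact hob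
  have ho2 : orderOf (⟨zQ, hz⟩ : ↥(Subgroup.center Q)) = 2 := by
    rw [← Subgroup.orderOf_coe]; exact hoz
  exact congrArg Subtype.val (unique_involution ho1 ho2)

theorem result {G : Type*} [Group G] [Finite G] (z : G) (hz : orderOf z = 2) (hQ : Cfsg.IsOfSymplecticType ↥(Cfsg.generalizedFittingSubgroup ↥(Subgroup.centralizer ({z} : Set G))))
    (B : Subgroup ↥(Cfsg.generalizedFittingSubgroup ↥(Subgroup.centralizer ({z} : Set G)))) (hBc : B.Characteristic) (hBa : IsMulCommutative ↥B) (g : G) :
    ((B.map (Cfsg.generalizedFittingSubgroup ↥(Subgroup.centralizer ({z} : Set G))).subtype).map (Subgroup.centralizer ({z} : Set G)).subtype).map (MulAut.conj g).toMonoidHom =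
        (B.map (Cfsg.generalizedFittingSubgroup ↥(Subgroup.centralizer ({z} : Set G))).subtype).map (Subgroup.centralizer ({z} : Set G)).subtype ∨
      ((B.map (Cfsg.generalizedFittingSubgroup ↥(Subgroup.centralizer ({z} : Set G))).subtype).map (Subgroup.centralizer ({z} : Set G)).subtype).map (MulAut.conj g).toMonoidHom ⊓
        (B.map (Cfsg.generalizedFittingSubgroup ↥(Subgroup.centralizer ({z} : Set G))).subtype).map (Subgroup.centralizer ({z} : Set G)).subtype = ⊥ := by
  haveI : Fact (Nat.Prime 2) := ⟨Nat.prime_two⟩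
  -- z as an element of C, then of Q
  have hzC : z ∈ Subgroup.centralizer ({z} : Set G) := by
    rw [Subgroup.mem_centralizer_iff]; intro y hy; rw [Set.mem_singleton_iff.mp hy]
  have hzcen : (⟨z, hzC⟩ : ↥(Subgroup.centralizer ({z} : Set G))) ∈
      Subgroup.center ↥(Subgroup.centralizer ({z} : Set G)) := by
    rw [Subgroup.mem_center_iff]
    intro c
    apply Subtype.ext
    have := c.2
    rw [Subgroup.mem_centralizer_iff] at this
    exact (this z rfl).symm
  have hzQ : (⟨z, hzC⟩ : ↥(Subgroup.centralizer ({z} : Set G))) ∈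
      Cfsg.generalizedFittingSubgroup ↥(Subgroup.centralizer ({z} : Set G)) := by
    apply Cfsg.Agent.H2.fittingSubgroup_le_generalizedFittingSubgroup
    have hle : Subgroup.zpowers (⟨z, hzC⟩ : ↥(Subgroup.centralizer ({z} : Set G))) ≤
        Subgroup.center _ := (Subgroup.zpowers_le).mpr hzcen
    have hn : (Subgroup.zpowers (⟨z, hzC⟩ : ↥(Subgroup.centralizer ({z} : Set G)))).Normal := by
      constructor
      intro n hn c
      have hc := hle hn
      rw [Subgroup.mem_center_iff] at hc
      have : c * n * c⁻¹ = n := by rw [hc c]; group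
      rw [this]; exact hn
    have hnil : Group.IsNilpotent
        ↥(Subgroup.zpowers (⟨z, hzC⟩ : ↥(Subgroup.centralizer ({z} : Set G)))) := by
      open scoped IsMulCommutative in exact CommGroup.isNilpotent
    exact Cfsg.Agent.H1.le_fittingSubgroup hn hnil (Subgroup.mem_zpowers _)
  have hzQcen : (⟨⟨z, hzC⟩, hzQ⟩ :
      ↥(Cfsg.generalizedFittingSubgroup ↥(Subgroup.centralizer ({z} : Set G)))) ∈
      Subgroup.center _ := by
    rw [Subgroup.mem_center_iff]
    intro q
    apply Subtype.ext
    rw [Subgroup.mem_center_iff] at hzcen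
    exact hzcen q.1
  have hozQ : orderOf (⟨⟨z, hzC⟩, hzQ⟩ :
      ↥(Cfsg.generalizedFittingSubgroup ↥(Subgroup.centralizer ({z} : Set G)))) = 2 := by
    rw [← Subgroup.orderOf_coe, ← Subgroup.orderOf_coe]; exact hz
  -- involutions of BG equal z
  have key : ∀ y ∈ (B.map (Cfsg.generalizedFittingSubgroup
      ↥(Subgroup.centralizer ({z} : Set G))).subtype).map
      (Subgroup.centralizer ({z} : Set G)).subtype, orderOf y = 2 → y = z := by
    rintro _ ⟨_, ⟨b, hb, rfl⟩, rfl⟩ hy
    have hob : orderOf b = 2 := by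
      rw [← Subgroup.orderOf_coe, ← Subgroup.orderOf_coe]; exact hy
    have := involution_eq hQ B hBc hBa hb hob hzQcen hozQ
    rw [this]; rfl
  -- BG is a 2-group
  have hBG2 : IsPGroup 2 ↥((B.map (Cfsg.generalizedFittingSubgroup
      ↥(Subgroup.centralizer ({z} : Set G))).subtype).map
      (Subgroup.centralizer ({z} : Set G)).subtype) := by
    have h1 : IsPGroup 2 ↥B := hQ.1.to_subgroup B
    have h2 := h1.map (Cfsg.generalizedFittingSubgroup
      ↥(Subgroup.centralizer ({z} : Set G))).subtype
    exact h2.map _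
  by_cases hbot : ((B.map (Cfsg.generalizedFittingSubgroup ↥(Subgroup.centralizer ({z} : Set G))).subtype).map (Subgroup.centralizer ({z} : Set G)).subtype).map (MulAut.conj g).toMonoidHom ⊓
        (B.map (Cfsg.generalizedFittingSubgroup ↥(Subgroup.centralizer ({z} : Set G))).subtype).map (Subgroup.centralizer ({z} : Set G)).subtype = ⊥
  · exact Or.inr hbot
  left
  have hI2 : IsPGroup 2 ↥(((B.map (Cfsg.generalizedFittingSubgroup ↥(Subgroup.centralizer ({z} : Set G))).subtype).map (Subgroup.centralizer ({z} : Set G)).subtype).map (MulAut.conj g).toMonoidHom ⊓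
        (B.map (Cfsg.generalizedFittingSubgroup ↥(Subgroup.centralizer ({z} : Set G))).subtype).map (Subgroup.centralizer ({z} : Set G)).subtype) :=
    hBG2.to_le inf_le_right
  obtain ⟨y, hy, hoy⟩ := StronglyEmbedded.exists_orderOf_eq_of_ne_bot hI2 hbot
  have hy1 : y = z := key y hy.2 hoy
  have hy2 : g⁻¹ * y * g = z := by
    apply key
    · exact (Conj.mem_map_conj _ g y).mp hy.1
    · rw [Conj.orderOf_conj']; exact hoy
  rw [hy1] at hy2
  have hgC : g ∈ Subgroup.centralizer ({z} : Set G) := by
    rw [Subgroup.mem_centralizer_iff]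
    intro t ht
    rw [Set.mem_singleton_iff.mp ht]
    calc z * g = g * (g⁻¹ * z * g) := by group
      _ = g * z := by rw [hy2]
  -- conjugation by g preserves B
  apply Conj.map_conj_eq_of_le
  rintro _ ⟨_, ⟨_, ⟨b, hb, rfl⟩, rfl⟩, rfl⟩
  have hmap : B.map (MulAut.conjNormal (H := Cfsg.generalizedFittingSubgroup
      ↥(Subgroup.centralizer ({z} : Set G))) ⟨g, hgC⟩).toMonoidHom = B :=
    (Subgroup.characteristic_iff_map_eq.mp hBc) _
  have hb' : (MulAut.conjNormal (H := Cfsg.generalizedFittingSubgroup
      ↥(Subgroup.centralizer ({z} : Set G))) ⟨g, hgC⟩) b ∈ B := by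
    rw [← hmap]; exact ⟨b, hb, rfl⟩
  refine ⟨_, ⟨_, hb', rfl⟩, ?_⟩
  simp [MulAut.conjNormal_apply]

end Cfsg.Agent.S1755
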