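import Cfsg.Statements.S0707
import Mathlib.GroupTheory.Index
import Mathlib.GroupTheory.Perm.Cycle.Type
import Mathlib.Data.ZMod.QuotientGroup

set_option autoImplicit false
open Cfsg

namespace Cfsg.Agent.S0707

/-- A group in which the trivial subgroup is a coatom has prime order. -/
theorem prime_card_of_isCoatom_bot {G : Type*} [Group G] (h : IsCoatom (⊥ : Subgroup G)) :
    (Nat.card G).Prime := by
  have hne : (⊥ : Subgroup G) ≠ ⊤ := h.1
  obtain ⟨g, hg⟩ : ∃ g : G, g ≠ 1 := by
    by_contra hcon
    have hcon : ∀ g : G, g = 1 := fun g => by_contra fun hg => hcon ⟨g, hg⟩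
    apply hne
    rw [eq_top_iff]
    intro x _
    rw [Subgroup.mem_bot]
    exact hcon x
  have htop : ∀ K : Subgroup G, K ≠ ⊥ → K = ⊤ := fun K hK => h.2 K (bot_lt_iff_ne_bot.mpr hK)
  have hz : Subgroup.zpowers g = ⊤ := htop _ (by simpa using hg)
  -- g has finite order
  have hord : orderOf g ≠ 0 := by
    intro h0
    have h2 : Subgroup.zpowers (g ^ 2) = ⊤ := htop _ (by
      rw [Ne, Subgroup.zpowers_eq_bot]
      intro h2
      have := orderOf_dvd_of_pow_eq_one h2
      rw [h0] at this
      omega)
    have hmem : g ∈ Subgroup.zpowers (g ^ 2) := by rw [h2]; trivial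
    obtain ⟨k, hk⟩ := Subgroup.mem_zpowers_iff.mp hmem
    have hk' : g ^ (2 * k - 1) = 1 := by
      rw [zpow_sub, zpow_mul, zpow_one]
      rw [show (g ^ (2 : ℤ)) = g ^ 2 from by norm_cast, hk]
      simp
    have hinf : ¬ IsOfFinOrder g := orderOf_eq_zero_iff.mp h0
    apply hinf
    rw [isOfFinOrder_iff_zpow_eq_one]
    exact ⟨2 * k - 1, by omega, hk'⟩
  have hfin : Finite G := by
    have : Finite (Subgroup.zpowers g) := by
      apply Nat.finite_of_card_ne_zero
      rw [Nat.card_zpowers]
      exact hord
    rw [hz] at this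
    exact Finite.of_equiv _ (Subgroup.topEquiv (G := G)).toEquiv
  have hcard1 : Nat.card G ≠ 1 := by
    intro h1
    apply hg
    have : Subsingleton G := (Nat.card_eq_one_iff_unique.mp h1).1
    exact Subsingleton.elim _ _
  obtain ⟨p, hp, hpd⟩ := Nat.exists_prime_and_dvd hcard1
  have := Fact.mk hp
  obtain ⟨x, hx⟩ := exists_prime_orderOf_dvd_card' p hpd
  have hzx : Subgroup.zpowers x = ⊤ := htop _ (by
    rw [Ne, Subgroup.zpowers_eq_bot]
    intro hx1
    rw [hx1, orderOf_one] at hx
    exact hp.one_lt.ne hx)
  have : Nat.card G = p := by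
    rw [← hx, ← Nat.card_zpowers, hzx, Subgroup.card_top]
  rw [this]; exact hp

/-- In a primitive permutation group, distinct points have distinct stabilisers unless the group is regular of prime degree. -/
theorem result {α : Type*} (G : Subgroup (Equiv.Perm α)) [MulAction.IsPreprimitive G α] (h : ¬ (Nat.card α).Prime ∨ ∃ a : α, MulAction.stabilizer G a ≠ ⊥) {a b : α} (hab : a ≠ b) : MulAction.stabilizer G a ≠ MulAction.stabilizer G b := by
  intro heq
  have : Nontrivial α := ⟨⟨a, b, hab⟩⟩
  have hco : IsCoatom (MulAction.stabilizer G a) :=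
    (MulAction.isCoatom_stabilizer_iff_preprimitive (G := G) a).mpr inferInstance
  obtain ⟨g, hg⟩ := MulAction.exists_smul_eq G a b
  have hgN : g ∈ Subgroup.normalizer (MulAction.stabilizer G a : Set G) := by
    rw [Subgroup.mem_normalizer_iff_map_conj_eq]
    have := MulAction.stabilizer_smul_eq_stabilizer_map_conj g a
    rw [hg, ← heq] at this
    exact this.symm
  have hgH : g ∉ MulAction.stabilizer G a := by
    intro hmem
    rw [MulAction.mem_stabilizer_iff] at hmem
    exact hab (hmem.symm.trans hg)
  have hnorm : (MulAction.stabilizer G a).Normal := by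
    rw [← Subgroup.normalizer_eq_top_iff]
    apply hco.2
    exact lt_of_le_of_ne Subgroup.le_normalizer (fun he => hgH (by rw [he]; exact hgN))
  have hstab : ∀ x : α, MulAction.stabilizer G x = MulAction.stabilizer G a := by
    intro x
    obtain ⟨k, hk⟩ := MulAction.exists_smul_eq G a x
    rw [← hk, MulAction.stabilizer_smul_eq_stabilizer_map_conj]
    exact (Subgroup.mem_normalizer_iff_map_conj_eq (g := k)).mp (by
      rw [Subgroup.normalizer_eq_top_iff.mpr hnorm]; trivial)
  have hbot : MulAction.stabilizer G a = ⊥ := by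
    rw [eq_bot_iff]
    intro k hk
    rw [Subgroup.mem_bot]
    apply Subtype.ext
    ext x
    have : k ∈ MulAction.stabilizer G x := by rw [hstab x]; exact hk
    exact this
  rcases h with h | ⟨a', ha'⟩
  · apply h
    rw [← MulAction.index_stabilizer_of_transitive G a, hbot, Subgroup.index_bot]
    apply prime_card_of_isCoatom_bot
    rw [← hbot]; exact hco
  · exact ha' ((hstab a').trans hbot)

end Cfsg.Agent.S0707
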