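import Cfsg.Statements.S1969
import Mathlib
import Cfsg.Agent.Lib.Helper4.GTFus6

set_option autoImplicit false
open Cfsg
open scoped commutatorElement

namespace Cfsg.Agent.S1969

universe u
open Cfsg.Agent.Lib.Helper4.GTFus Cfsg.Agent.Lib.Helper4.GTSec Cfsg.Agent.Lib.Helper4.GT2 Cfsg.Agent.S1959

/-- Let p be a prime, G a finite group and W an isomorphism-invariant p-group functor (W assigns to every group Q a subgroup W(Q), nontrivial whenever Q is a nontrivial finite p-group, and every isomorphism from a finite p-group Q onto a group R carries W(Q) onto W(R)). Suppose that W(S*) is normal in G* whenever G* = K/R is a section of G with C_{G*}(O_p(G*)) ≤ O_p(G*) and S* is a Sylow p-subgroup of G*. Then W controls strong fusion in every section of G: for every section K/R and every Sylow p-subgroup T of K/R, the subgroup W(T) controls strong fusion in K/R. -/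
theorem result {G : Type u} [Group G] [Finite G] {p : ℕ} [Fact p.Prime] (W : ∀ (Q : Type u) [Group Q], Subgroup Q) (hW : Cfsg.IsCharPFunctor.{u} p W) (hloc : ∀ (K R : Subgroup G) [hR : (R.subgroupOf K).Normal], Subgroup.centralizer ((Cfsg.pCore p (↥K ⧸ R.subgroupOf K) : Subgroup (↥K ⧸ R.subgroupOf K)) : Set (↥K ⧸ R.subgroupOf K)) ≤ Cfsg.pCore p (↥K ⧸ R.subgroupOf K) → ∀ T : Sylow p (↥K ⧸ R.subgroupOf K), (Cfsg.inducedFunctor (G := (↥K ⧸ R.subgroupOf K)) W ((T : Subgroup (↥K ⧸ R.subgroupOf K)))).Normal) : ∀ (K R : Subgroup G) [hR : (R.subgroupOf K).Normal], ∀ T : Sylow p (↥K ⧸ R.subgroupOf K), Cfsg.ControlsStrongFusion p (Cfsg.inducedFunctor (G := (↥K ⧸ R.subgroupOf K)) W ((T : Subgroup (↥K ⧸ R.subgroupOf K)))) := by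
  intro K R hR T
  have h𝓦 : ∀ W' ∈ ({W} : Set (∀ (Q : Type u) [Group Q], Subgroup Q)), Cfsg.IsCharPFunctor.{u} p W' := by
    rintro _ rfl; exact hW
  have hX : IsSec G (↥K ⧸ R.subgroupOf K) := isSec_quot G ↥K _ (isSec_sub G G K (isSec_self G))
  have hfam := main_sections h𝓦 G (fun K' R' hR' hc => by
    obtain ⟨T'⟩ : Nonempty (Sylow p (↥K' ⧸ R'.subgroupOf K')) := inferInstance
    have hn := hloc K' R' hc T'
    refine family_of_ch T' (fun A g hA hgA => Ch.single _ ⟨W, rfl, rfl⟩ ?_ hA hgA)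
    rw [Subgroup.normalizer_eq_top_iff.mpr hn]; exact Subgroup.mem_top g) (↥K ⧸ R.subgroupOf K) hX
  refine ⟨T, (pFunctor2_induced W hW).le _ _ T.isPGroup', fun A hA => ⟨hA, fun g hgA => ?_⟩⟩
  have hch := ch_of_top h𝓦 T hfam hA hgA
  obtain ⟨x, hx, hxa⟩ := ch_single_functor (W₀ := Cfsg.inducedFunctor (G := ↥K ⧸ R.subgroupOf K) W)
    (by rintro _ ⟨W', rfl, rfl⟩; rfl) hch
  exact ⟨x, hx, fun a ha => (hxa a ha).symm⟩

end Cfsg.Agent.S1969
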