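import Cfsg.Statements.S2713
import Cfsg.Agent.S2693
import Cfsg.Agent.Lib.Helper7.AutPSp.CosetMain

set_option autoImplicit false
open Cfsg

namespace Cfsg.Agent.S2713

open Cfsg.Agent.Lib.H7AutPSp

/-- `Inndiag(PSp_{2m}(F))` is normal in the automorphism group -/
theorem inndiag_normal {F : Type*} [Field F] [Fintype F] {m : ℕ} (hm : 2 ≤ m) :
    ((DhSp : ↥(Cfsg.GSp m F) →* MulAut (PSpm m F)).range).Normal := by
  by_cases hchar : ringChar F = 2
  · rw [DhSp_range_eq_inn_char2 hchar (by omega)]
    exact Cfsg.innNormal _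
  · obtain ⟨p, hp⟩ := CharP.exists F
    have hpp : p.Prime := (CharP.char_is_prime_or_zero F p).resolve_right
      (CharP.char_ne_zero_of_finite F p)
    have := Fact.mk hpp
    have hp2 : p ≠ 2 := by
      intro h2
      apply hchar
      rw [← h2]
      exact ringChar.eq F p
    exact DhSp_range_normal (facSp_of_gamma (Cfsg.Agent.S2693.result hm (fun _ => hp2)))

/-- Let T = PSp_{2m}(F) be simple over a finite field (m ≥ 2, (2m, |F|) ≠ (4, 2)) and let x be a field automorphism of T of prime order r. Then an element y of the coset Inndiag(T)·x (y = δ x with δ in the image of the projective conformal symplectic group) has order r if and only if y is conjugate to x by an element of Inndiag(T). -/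
theorem result {F : Type*} [Field F] [Fintype F] {m : ℕ} (hm : 2 ≤ m) (hs : m = 2 → 3 ≤ Fintype.card F) (x δ : MulAut (Cfsg.PSp m F)) (hx : Cfsg.IsFieldAutClassPSp x) {r : ℕ} (hr : r.Prime) (hxr : orderOf x = r) (hδ : δ ∈ Cfsg.inndiagPSp m F) :
    orderOf (δ * x) = r ↔ Cfsg.IsConjUnder (Cfsg.inndiagPSp m F) x (δ * x) := by
  have hD := inndiag_normal (F := F) hm
  exact field_coset_iff (by omega) x δ hx hr hxr hδ

end Cfsg.Agent.S2713
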