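import Cfsg.Statements.S0251
import Mathlib
import Cfsg.Agent.S0243

set_option autoImplicit false
open Cfsg

namespace Cfsg.Agent.S0251

open Matrix
open scoped LinearAlgebra.Projectivization

/-- PSL_2(3) is isomorphic to A_4. -/
theorem result {F : Type*} [Field F] [Fintype F] (hF : Fintype.card F = 3) : Nonempty (Matrix.ProjectiveSpecialLinearGroup (Fin 2) F ≃* alternatingGroup (Fin 4)) := by
  classical
  let φ : ProjectiveSpecialLinearGroup (Fin 2) F →* Equiv.Perm (ℙ F (Fin 2 → F)) :=
    Projectivization.PSLAction.toPermHom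
  have hinj : Function.Injective φ := Matrix.ProjectiveSpecialLinearGroup.toPermHom_injective
  have hcardP : Nat.card (ℙ F (Fin 2 → F)) = 4 := by
    rw [Projectivization.card_of_finrank_two F (Fin 2 → F) (by simp), Nat.card_eq_fintype_card, hF]
  have hfin : Finite (ℙ F (Fin 2 → F)) := Nat.finite_of_card_ne_zero (by omega)
  have e : ℙ F (Fin 2 → F) ≃ Fin 4 := hcardP ▸ Finite.equivFin (ℙ F (Fin 2 → F))
  let ψ : ProjectiveSpecialLinearGroup (Fin 2) F →* Equiv.Perm (Fin 4) :=
    (Equiv.permCongrHom e).toMonoidHom.comp φ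
  have hψinj : Function.Injective ψ := (Equiv.permCongrHom e).injective.comp hinj
  have hcardPSL : Nat.card (ProjectiveSpecialLinearGroup (Fin 2) F) = 12 := by
    have := Cfsg.Agent.S0243.result (F := F) hF 2 (by norm_num)
    simp only [Fin.prod_univ_two] at this
    norm_num at this
    rw [Nat.card_eq_fintype_card]
    omega
  have hrange : Nat.card ψ.range = 12 := by
    rw [← hcardPSL]
    exact (Nat.card_congr (MonoidHom.ofInjective hψinj).toEquiv).symm
  have hindex : ψ.range.index = 2 := by
    have h := Subgroup.card_mul_index ψ.range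
    rw [hrange, Nat.card_perm] at h
    simp [Nat.factorial] at h
    omega
  have heq := Equiv.Perm.eq_alternatingGroup_of_index_eq_two hindex
  exact ⟨(MonoidHom.ofInjective hψinj).trans (MulEquiv.subgroupCongr heq)⟩

end Cfsg.Agent.S0251
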