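import Mathlib
import Cfsg.Statements.S0827
import Cfsg.Agent.Lib.Helper8.Hexacode
import Cfsg.Agent.Lib.Helper8.SUTransport
import Cfsg.Agent.Lib.Helper8.Q8Ext
import Cfsg.Agent.S0282

set_option autoImplicit false
open Cfsg

namespace Cfsg.Agent.S0827

open Matrix Cfsg.Agent.Lib.Helper8.Hexacode Cfsg.Agent.Lib.Helper8.SUTransport
  Cfsg.Agent.Lib.Helper8.Q8Ext

local notation "M3" => Matrix (Fin 3) (Fin 3) F4
local notation "SUc" => SU 3 F4 2
local notation "Gc" => PSU 3 F4 2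

open F4 in
/-- diagonal element of order three -/
def dM : M3 := !![o, z, z; z, w, z; z, z, v]

open F4 in
/-- the cyclic permutation matrix -/
def pM : M3 := !![z, z, o; o, z, z; z, o, z]

open F4 in
/-- an element of order four -/
def aM : M3 := !![o, o, o; o, w, v; o, v, w]

open F4 in
/-- a second element of order four -/
def bM : M3 := !![o, v, v; w, w, v; w, v, w]

theorem hadd : ∀ a b : F4, (a + b) ^ 2 = a ^ 2 + b ^ 2 := by decide

/-- the unitarity condition -/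
def IsU (M : M3) : Prop := ∀ j k, ∑ i, M i j * (M i k) ^ 2 = if j = k then 1 else 0

instance instDecIsU (M : M3) : Decidable (IsU M) := by unfold IsU; infer_instance

/-- an element of `SU_3(2)` from a matrix -/
def mkSU (M : M3) (hdet : M.det = 1) (hU : IsU M) : SUc :=
  ⟨⟨M, hdet⟩, by
    show ∀ u w, hermForm 3 F4 2 (M *ᵥ u) (M *ᵥ w) = hermForm 3 F4 2 u w
    exact fun u w => herm_preserve hadd M hU u w⟩

def dS : SUc := mkSU dM (by decide) (by decide)
def pS : SUc := mkSU pM (by decide) (by decide)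
def aS : SUc := mkSU aM (by decide) (by decide)
def bS : SUc := mkSU bM (by decide) (by decide)

/-- the matrix of an element -/
def mat (x : SUc) : M3 := ((x : SpecialLinearGroup (Fin 3) F4) : M3)

theorem mk_eq (x y : SUc) (c : F4) (h : mat x = c • mat y) :
    (QuotientGroup.mk x : Gc) = QuotientGroup.mk y := mk_eq_of_scalar x y c h

theorem mk_ne_one (x t : SUc) (h : x * t ≠ t * x) : (QuotientGroup.mk x : Gc) ≠ 1 := by
  intro h1
  have h2 : x ∈ Subgroup.center SUc := (QuotientGroup.eq_one_iff _).1 h1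
  exact h ((Subgroup.mem_center_iff.1 h2 t).symm)

theorem mk_ne (x y t : SUc) (h : (x⁻¹ * y) * t ≠ t * (x⁻¹ * y)) :
    (QuotientGroup.mk x : Gc) ≠ QuotientGroup.mk y := by
  intro h1
  have h2 : x⁻¹ * y ∈ Subgroup.center SUc := QuotientGroup.eq.1 h1
  exact h ((Subgroup.mem_center_iff.1 h2 t).symm)

theorem e_comm : mat (dS * pS) = F4.w • mat (pS * dS) := by decide
theorem e_c1 : mat (aS * dS) = (1 : F4) • mat (pS ^ 2 * aS) := by decide
theorem e_c2 : mat (aS * pS) = (1 : F4) • mat (dS * aS) := by decide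
theorem e_c3 : mat (bS * dS) = F4.v • mat (dS * pS ^ 2 * bS) := by decide
theorem e_c4 : mat (bS * pS) = F4.w • mat (dS ^ 2 * pS ^ 2 * bS) := by decide

theorem e_d3 : dS ^ 3 = 1 := by decide
theorem e_p3 : pS ^ 3 = 1 := by decide
theorem e_a4 : aS ^ 4 = 1 := by decide
theorem e_b2 : bS ^ 2 = aS ^ 2 := by decide
theorem e_ba : bS * aS = aS ^ 3 * bS := by decide
theorem ne_dp : dS * pS ≠ pS * dS := by decide
theorem ne_pd : pS * dS ≠ dS * pS := by decide
theorem ne_a2 : aS ^ 2 * dS ≠ dS * aS ^ 2 := by decide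
theorem ne_1 : (pS⁻¹ * dS) * dS ≠ dS * (pS⁻¹ * dS) := by decide
theorem ne_2 : (pS⁻¹ * dS ^ 2) * dS ≠ dS * (pS⁻¹ * dS ^ 2) := by decide

/-- the statement for the concrete field -/
theorem result_c : ∃ (N : Subgroup Gc) (_ : N.Normal), Nat.card N = 9 ∧ (∀ x ∈ N, x ^ 3 = 1) ∧
    Nonempty (Gc ⧸ N ≃* QuaternionGroup 2) := by
  have hcard : Nat.card Gc = 72 := (Cfsg.Agent.S0282.result (F := F4) F4.card).1
  let n1 : Gc := QuotientGroup.mk dS
  let n2 : Gc := QuotientGroup.mk pS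
  let a : Gc := QuotientGroup.mk aS
  let b : Gc := QuotientGroup.mk bS
  have hn1 : n1 ∈ Subgroup.closure ({n1, n2} : Set Gc) := Subgroup.subset_closure (by simp)
  have hn2 : n2 ∈ Subgroup.closure ({n1, n2} : Set Gc) := Subgroup.subset_closure (by simp)
  have r1 : a * n1 = n2 ^ 2 * a := mk_eq _ _ _ e_c1
  have r2 : a * n2 = n1 * a := mk_eq _ _ _ e_c2
  have r3 : b * n1 = n1 * n2 ^ 2 * b := mk_eq _ _ _ e_c3
  have r4 : b * n2 = n1 ^ 2 * n2 ^ 2 * b := mk_eq _ _ _ e_c4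
  refine recog hcard n1 n2 a b ?_ ?_ ?_ ?_ ?_ ?_ ?_ ?_ ?_ ?_ ?_ ?_ ?_ ?_ ?_
  · show (QuotientGroup.mk (dS ^ 3) : Gc) = 1
    rw [e_d3]; rfl
  · show (QuotientGroup.mk (pS ^ 3) : Gc) = 1
    rw [e_p3]; rfl
  · exact mk_eq _ _ _ e_comm
  · exact mk_ne_one _ _ ne_dp
  · exact mk_ne_one _ _ ne_pd
  · exact mk_ne _ _ _ ne_1
  · exact mk_ne _ _ _ ne_2
  · show (QuotientGroup.mk (aS ^ 4) : Gc) = 1
    rw [e_a4]; rfl
  · show (QuotientGroup.mk (bS ^ 2) : Gc) = QuotientGroup.mk (aS ^ 2)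
    rw [e_b2]
  · show (QuotientGroup.mk (bS * aS) : Gc) = QuotientGroup.mk (aS ^ 3 * bS)
    rw [e_ba]
  · exact mk_ne_one _ _ ne_a2
  · rw [r1, mul_inv_cancel_right]
    exact Subgroup.pow_mem _ hn2 2
  · rw [r2, mul_inv_cancel_right]
    exact hn1
  · rw [r3, mul_inv_cancel_right]
    exact Subgroup.mul_mem _ hn1 (Subgroup.pow_mem _ hn2 2)
  · rw [r4, mul_inv_cancel_right]
    exact Subgroup.mul_mem _ (Subgroup.pow_mem _ hn1 2) (Subgroup.pow_mem _ hn2 2)

/-- transport of the conclusion along an isomorphism -/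
theorem transport {G G' : Type*} [Group G] [Group G'] (φ : G ≃* G')
    (h : ∃ (N : Subgroup G) (_ : N.Normal), Nat.card N = 9 ∧ (∀ x ∈ N, x ^ 3 = 1) ∧
      Nonempty (G ⧸ N ≃* QuaternionGroup 2)) :
    ∃ (N : Subgroup G') (_ : N.Normal), Nat.card N = 9 ∧ (∀ x ∈ N, x ^ 3 = 1) ∧
      Nonempty (G' ⧸ N ≃* QuaternionGroup 2) := by
  obtain ⟨N, hN, hc, hexp, ⟨ψ⟩⟩ := h
  have hN' : (N.map (φ : G →* G')).Normal := hN.map _ φ.surjective
  refine ⟨N.map (φ : G →* G'), hN', ?_, ?_, ?_⟩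
  · rw [Subgroup.card_map_of_injective φ.injective, hc]
  · rintro _ ⟨x, hx, rfl⟩
    show φ x ^ 3 = 1
    rw [← map_pow, hexp x hx, map_one]
  · exact ⟨(QuotientGroup.congr N (N.map (φ : G →* G')) φ rfl).symm.trans ψ⟩

/-- U_3(2) ≅ 3².Q_8: PSU_3(2) (form over the field with 4 elements) has a normal subgroup N which is elementary abelian of order 9 such that the quotient by N is isomorphic to the quaternion group of order 8. -/
theorem result {F : Type*} [Field F] [Fintype F] (hF : Fintype.card F = 4) : ∃ (N : Subgroup (Cfsg.PSU 3 F 2)) (_ : N.Normal), Nat.card N = 9 ∧ (∀ x ∈ N, x ^ 3 = 1) ∧ Nonempty (Cfsg.PSU 3 F 2 ⧸ N ≃* QuaternionGroup 2) := by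
  have e : F4 ≃+* F :=
    FiniteField.ringEquivOfCardEq (K := F4) (K' := F) (by rw [hF, F4.card])
  exact transport (psuEquiv e 3 2) result_c

end Cfsg.Agent.S0827
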