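import Cfsg.Statements.S0107
import Mathlib
import Cfsg.Agent.Lib.Lead.DihShape2
import Cfsg.Agent.Lib.Lead.TISylow
import Cfsg.Agent.Lib.Lead.Conj
import Cfsg.Agent.S0111

set_option autoImplicit false
open Cfsg

namespace Cfsg.Agent.S0107

open scoped Pointwise
open Cfsg.Agent.Lib.Lead

/-- A finite group with no nontrivial 2-group quotient and dihedral Sylow 2-subgroups of order at least 8 has a single class of involutions. -/
theorem result {G : Type*} [Group G] [Finite G] (T : Sylow 2 G) (n : ℕ) (hn : 2 ≤ n) (hT : Nonempty ((T : Subgroup G) ≃* DihedralGroup (2 ^ n))) (hO : Cfsg.pResidual 2 G = ⊤) (x y : G) (hx : orderOf x = 2) (hy : orderOf y = 2) : ∃ g : G, g * x * g⁻¹ = y := by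
  classical
  haveI : Fact (Nat.Prime 2) := ⟨Nat.prime_two⟩
  obtain ⟨e⟩ := hT
  obtain ⟨R₀, hshape⟩ := DihShape.shape_of_injective (T : Subgroup G) e.toMonoidHom e.injective
  haveI := hshape.cyc
  have hTnc : ¬ IsCyclic ↥(T : Subgroup G) := by
    intro h
    have h1 : IsCyclic (DihedralGroup (2 ^ n)) := isCyclic_of_surjective e e.surjective
    have h2 : (2 : ℕ) ^ n ≠ 1 := by
      have : 2 ^ 2 ≤ 2 ^ n := Nat.pow_le_pow_right (by norm_num) hn
      omega
    exact DihedralGroup.not_isCyclic h2 h1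
  obtain ⟨u, huT, huR⟩ : ∃ u ∈ (T : Subgroup G), u ∉ R₀ := by
    by_contra hcon
    push Not at hcon
    apply hTnc
    exact Subgroup.isCyclic_of_le (H' := R₀) (fun q hq => hcon q hq)
  have hidx : R₀.relIndex (T : Subgroup G) = 2 := hshape.relIndex_eq_two huT huR
  have hcardT : Nat.card ↥(T : Subgroup G) = 2 * 2 ^ n := by
    rw [Nat.card_congr e.toEquiv, DihedralGroup.nat_card]
  have hcardR : Nat.card ↥R₀ = 2 ^ n := by
    have h1 := (R₀.subgroupOf (T : Subgroup G)).card_mul_index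
    have h2 : Nat.card ↥(R₀.subgroupOf (T : Subgroup G)) = Nat.card ↥R₀ :=
      Nat.card_congr (Subgroup.subgroupOfEquivOfLe hshape.le).toEquiv
    have h3 : (R₀.subgroupOf (T : Subgroup G)).index = 2 := hidx
    rw [h2, h3, hcardT] at h1
    omega
  have h2dvd : 2 ∣ Nat.card ↥R₀ := by
    rw [hcardR]
    exact dvd_pow_self 2 (by omega)
  obtain ⟨z', hz'⟩ := exists_prime_orderOf_dvd_card' 2 h2dvd
  have hzR : (z' : G) ∈ R₀ := z'.2
  have hzo : orderOf (z' : G) = 2 := by rw [Subgroup.orderOf_coe]; exact hz'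
  have hno : ∀ M : Subgroup G, M.Normal → M.index = 2 → False := by
    intro M hM hMi
    haveI := hM
    have hle : Cfsg.pResidual 2 G ≤ M := by
      unfold Cfsg.pResidual
      rw [Subgroup.closure_le]
      intro g hg
      have hg' : Nat.Coprime (orderOf g) 2 := hg
      have h1 : orderOf (QuotientGroup.mk' M g) ∣ orderOf g := orderOf_map_dvd _ g
      have h2 : orderOf (QuotientGroup.mk' M g) ∣ Nat.card (G ⧸ M) := orderOf_dvd_natCard _
      have h3 : Nat.card (G ⧸ M) = 2 := hMi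
      rw [h3] at h2
      have h4 : orderOf (QuotientGroup.mk' M g) = 1 := Nat.eq_one_of_dvd_coprimes hg' h1 h2
      have h5 := orderOf_eq_one_iff.mp h4
      exact (QuotientGroup.eq_one_iff g).mp h5
    rw [hO, top_le_iff] at hle
    rw [hle, Subgroup.index_top] at hMi
    norm_num at hMi
  have hconj : ∀ v ∈ (T : Subgroup G), orderOf v = 2 → ∃ g : G, g * v * g⁻¹ = (z' : G) := by
    intro v hv hvo
    by_cases hvR : v ∈ R₀
    · refine ⟨1, ?_⟩
      rw [one_mul, inv_one, mul_one]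
      exact DihShape.involution_unique hshape.cyc hvR hzR hvo hzo
    · rcases Cfsg.Agent.S0111.result T R₀ hshape.le hidx v hvo hv hvR with
        ⟨M, hM, hMi, -⟩ | ⟨g, hg⟩
      · exact (hno M hM hMi).elim
      · exact ⟨g, DihShape.involution_unique hshape.cyc hg hzR
          (by rw [Conj.orderOf_conj]; exact hvo) hzo⟩
  have hinT : ∀ w : G, orderOf w = 2 → ∃ g : G, g * w * g⁻¹ ∈ (T : Subgroup G) := by
    intro w hw
    have hp : IsPGroup 2 ↥(Subgroup.zpowers w) := by
      apply IsPGroup.of_card (n := 1)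
      rw [pow_one, Nat.card_zpowers, hw]
    obtain ⟨T', hT'⟩ := hp.exists_le_sylow
    obtain ⟨c, hc⟩ := MulAction.exists_smul_eq G T' T
    have hwT' : w ∈ (T' : Subgroup G) := hT' (Subgroup.mem_zpowers w)
    refine ⟨c, ?_⟩
    rw [← hc, TISylow.mem_sylow_smul]
    have : c⁻¹ * (c * w * c⁻¹) * c = w := by group
    rw [this]; exact hwT'
  have hall : ∀ w : G, orderOf w = 2 → ∃ g : G, g * w * g⁻¹ = (z' : G) := by
    intro w hw
    obtain ⟨g₁, hg₁⟩ := hinT w hw
    obtain ⟨h₁, hh₁⟩ := hconj _ hg₁ (by rw [Conj.orderOf_conj]; exact hw)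
    refine ⟨h₁ * g₁, ?_⟩
    rw [← hh₁]; group
  obtain ⟨a, ha⟩ := hall x hx
  obtain ⟨b, hb⟩ := hall y hy
  refine ⟨b⁻¹ * a, ?_⟩
  have : y = b⁻¹ * (z' : G) * b := by rw [← hb]; group
  rw [this, ← ha]; group

end Cfsg.Agent.S0107
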