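import Cfsg.Statements.S2562
import Mathlib
import Cfsg.Agent.H9.QuadHalf
import Cfsg.Agent.S0287
import Cfsg.Agent.S0288
import Cfsg.Agent.S0290
import Cfsg.Agent.S2617

set_option autoImplicit false

namespace Cfsg.Agent.S2562

open Module Cfsg.Agent.H9.QuadHalf

/-- the kernel of a coordinate restriction map. -/
theorem finrank_ker_funLeft {F : Type*} [Field F] {α β : Type*} [Fintype α] [Fintype β]
    (f : α → β) (hf : Function.Injective f) :
    finrank F (LinearMap.ker (LinearMap.funLeft F F f)) + Fintype.card α = Fintype.card β := by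
  have h1 := LinearMap.finrank_range_add_finrank_ker (LinearMap.funLeft F F f)
  rw [LinearMap.range_eq_top.2 (LinearMap.funLeft_surjective_of_injective F F f hf), finrank_top,
    Module.finrank_pi, Module.finrank_pi] at h1
  omega

/-- a totally singular subspace of the elliptic space of dimension `2m` has dimension `< m`. -/
theorem minus_bound {F : Type*} [Field F] [Fintype F] (m : ℕ) (hm : 1 ≤ m) (ζ : F)
    (hζ : ∀ t : F, t ^ 2 + t + ζ ≠ 0)
    (U : Submodule F ((Fin (m - 1) ⊕ Fin (m - 1)) ⊕ Fin 2 → F))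
    (hU : ∀ u ∈ U, Cfsg.quadFormMinus (m - 1) F 1 ζ u = 0) : finrank F U ≤ m - 1 := by
  classical
  have hD : 4 * ζ - (1 : F) ^ 2 ≠ 0 := by
    rw [one_pow]; exact Cfsg.Agent.H9.QuadFin.four_mul_sub_one_ne_zero hζ
  have hnd := Cfsg.Agent.S0288.nondegenerate (F := F) (m - 1) 1 ζ hD
  have hU' : ∀ u ∈ U, Cfsg.Agent.S0288.QM (m - 1) 1 ζ u = 0 := fun u hu => by
    rw [Cfsg.Agent.S0288.QM_apply]; exact hU u hu
  have hV : finrank F ((Fin (m - 1) ⊕ Fin (m - 1)) ⊕ Fin 2 → F) = 2 * m := by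
    rw [Module.finrank_pi, Fintype.card_sum, Fintype.card_sum, Fintype.card_fin, Fintype.card_fin]
    omega
  have h1 := two_mul_finrank_le _ hnd U hU'
  rw [hV] at h1
  by_contra hcon
  have hfin : finrank F U = m := by omega
  let b : Basis (Fin m) F U := Module.finBasisOfFinrankEq F U hfin
  let ι : (Fin m → F) →ₗ[F] ((Fin (m - 1) ⊕ Fin (m - 1)) ⊕ Fin 2 → F) :=
    U.subtype ∘ₗ b.equivFun.symm.toLinearMap
  have hι : Function.Injective ι := Subtype.val_injective.comp b.equivFun.symm.injective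
  have h0 : ∀ c, Cfsg.Agent.S0288.QM (m - 1) 1 ζ (ι c) = 0 := fun c =>
    hU' _ (b.equivFun.symm c).2
  have hcount := card_zero_of_half m _ _ hnd hV ι hι h0
  have hq : 2 ≤ Fintype.card F := Fintype.one_lt_card
  rw [Nat.card_eq_fintype_card (α := F), ← Cfsg.Agent.S0287.zP_eq _ (by omega) m hm] at hcount
  have h2 := Cfsg.Agent.S0290.result (F := F) rfl m hm 1 ζ (Cfsg.Agent.S2617.aniso_of_rootless hζ)
  have e : {v : (Fin (m - 1) ⊕ Fin (m - 1)) ⊕ Fin 2 → F // Cfsg.Agent.S0288.QM (m - 1) 1 ζ v = 0} ≃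
      {v : (Fin (m - 1) ⊕ Fin (m - 1)) ⊕ Fin 2 → F // Cfsg.quadFormMinus (m - 1) F 1 ζ v = 0} :=
    Equiv.subtypeEquivRight (fun v => by rw [Cfsg.Agent.S0288.QM_apply])
  rw [Nat.card_congr e, h2] at hcount
  exact Cfsg.Agent.S2617.counts_ne hq hm hcount.symm

/-- Witt indices over the field of two elements, m ≥ 1: for the plus-type form Σ xᵢyᵢ in dimension 2m some m-dimensional subspace is totally singular and no totally singular subspace has larger dimension; for the minus-type form Σ xᵢyᵢ + (z₁² + z₁z₂ + z₂²) in dimension 2m the maximal dimension of a totally singular subspace is m − 1. -/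
theorem result (m : ℕ) (hm : 1 ≤ m) :
    (∃ U : Submodule (ZMod 2) (Fin m ⊕ Fin m → ZMod 2), (∀ u ∈ U, Cfsg.quadFormPlus m (ZMod 2) u = 0) ∧ Module.finrank (ZMod 2) ↥U = m) ∧
    (∀ U : Submodule (ZMod 2) (Fin m ⊕ Fin m → ZMod 2), (∀ u ∈ U, Cfsg.quadFormPlus m (ZMod 2) u = 0) → Module.finrank (ZMod 2) ↥U ≤ m) ∧
    (∃ U : Submodule (ZMod 2) ((Fin (m - 1) ⊕ Fin (m - 1)) ⊕ Fin 2 → ZMod 2), (∀ u ∈ U, Cfsg.quadFormMinus (m - 1) (ZMod 2) 1 1 u = 0) ∧ Module.finrank (ZMod 2) ↥U = m - 1) ∧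
    (∀ U : Submodule (ZMod 2) ((Fin (m - 1) ⊕ Fin (m - 1)) ⊕ Fin 2 → ZMod 2), (∀ u ∈ U, Cfsg.quadFormMinus (m - 1) (ZMod 2) 1 1 u = 0) → Module.finrank (ZMod 2) ↥U ≤ m - 1) := by
  classical
  refine ⟨?_, ?_, ?_, ?_⟩
  · refine ⟨LinearMap.ker (LinearMap.funLeft (ZMod 2) (ZMod 2)
      (Sum.inr : Fin m → Fin m ⊕ Fin m)), ?_, ?_⟩
    · intro u hu
      rw [LinearMap.mem_ker] at hu
      unfold Cfsg.quadFormPlus
      apply Finset.sum_eq_zero
      intro i _
      have := congrFun hu i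
      simp only [LinearMap.funLeft_apply, Pi.zero_apply] at this
      rw [this, mul_zero]
    · have := finrank_ker_funLeft (F := ZMod 2) (Sum.inr : Fin m → Fin m ⊕ Fin m)
        Sum.inr_injective
      rw [Fintype.card_sum, Fintype.card_fin] at this
      omega
  · intro U hU
    have hU' : ∀ u ∈ U, Cfsg.Agent.S0287.QP m u = 0 := fun u hu => by
      rw [Cfsg.Agent.S0287.QP_apply]; exact hU u hu
    have h1 := two_mul_finrank_le _ (Cfsg.Agent.S0287.nondegenerate (F := ZMod 2) m) U hU'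
    rw [Module.finrank_pi, Fintype.card_sum, Fintype.card_fin] at h1
    omega
  · let f : Fin (m - 1) ⊕ Fin 2 → (Fin (m - 1) ⊕ Fin (m - 1)) ⊕ Fin 2 :=
      Sum.elim (fun i => Sum.inl (Sum.inr i)) Sum.inr
    have hf : Function.Injective f := by
      rintro (i | i) (j | j) h <;> simp [f] at h ⊢ <;> exact h
    refine ⟨LinearMap.ker (LinearMap.funLeft (ZMod 2) (ZMod 2) f), ?_, ?_⟩
    · intro u hu
      rw [LinearMap.mem_ker] at hu
      have h1 : ∀ i, u (Sum.inl (Sum.inr i)) = 0 := fun i => by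
        have := congrFun hu (Sum.inl i)
        simpa [f, LinearMap.funLeft_apply] using this
      have h2 : ∀ k, u (Sum.inr k) = 0 := fun k => by
        have := congrFun hu (Sum.inr k)
        simpa [f, LinearMap.funLeft_apply] using this
      unfold Cfsg.quadFormMinus
      rw [h2 0, h2 1]
      simp [h1]
    · have := finrank_ker_funLeft (F := ZMod 2) f hf
      rw [Fintype.card_sum, Fintype.card_sum, Fintype.card_sum, Fintype.card_fin,
        Fintype.card_fin] at this
      omega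
  · intro U hU
    exact minus_bound m hm (1 : ZMod 2) (by decide) U hU

end Cfsg.Agent.S2562
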