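import Cfsg.Statements.S0304
import Mathlib

set_option autoImplicit false
open Cfsg

namespace Cfsg.Agent.S0304

open Matrix

section forms
variable {F : Type*} [Field F] (m : ℕ)

/-- the hyperbolic part of the form -/
def qh (w : Fin m ⊕ Fin m → F) : F := ∑ i, w (Sum.inl i) * w (Sum.inr i)

/-- its polar form -/
def bh (u w : Fin m ⊕ Fin m → F) : F :=
  ∑ i, (u (Sum.inl i) * w (Sum.inr i) + u (Sum.inr i) * w (Sum.inl i))

theorem Q_eq (v : Unit ⊕ (Fin m ⊕ Fin m) → F) :
    quadFormOdd m F v = v (Sum.inl ()) ^ 2 + qh m (v ∘ Sum.inr) := rfl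

theorem qh_add (u w : Fin m ⊕ Fin m → F) : qh m (u + w) = qh m u + qh m w + bh m u w := by
  unfold qh bh
  rw [← Finset.sum_add_distrib, ← Finset.sum_add_distrib]
  apply Finset.sum_congr rfl
  intro i _
  simp only [Pi.add_apply]
  ring

theorem qh_smul (c : F) (w : Fin m ⊕ Fin m → F) : qh m (c • w) = c ^ 2 * qh m w := by
  unfold qh
  rw [Finset.mul_sum]
  apply Finset.sum_congr rfl
  intro i _
  simp only [Pi.smul_apply, smul_eq_mul]
  ring

theorem qh_zero : qh m (0 : Fin m ⊕ Fin m → F) = 0 := by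
  unfold qh
  simp

theorem bh_zero_left (w : Fin m ⊕ Fin m → F) : bh m 0 w = 0 := by
  unfold bh
  simp

theorem bh_single_right (u : Fin m ⊕ Fin m → F) (c : Fin m ⊕ Fin m) :
    bh m u (Pi.single c 1) = u (Sum.swap c) := by
  classical
  unfold bh
  rcases c with i | i <;> simp [Pi.single_apply, Finset.sum_ite_eq, eq_comm]

variable [CharP F 2]

theorem two_eq_zero' : (2 : F) = 0 := CharTwo.two_eq_zero

theorem polarQ (v v' : Unit ⊕ (Fin m ⊕ Fin m) → F) :
    quadFormOdd m F (v + v') - quadFormOdd m F v - quadFormOdd m F v' =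
      bh m (v ∘ Sum.inr) (v' ∘ Sum.inr) := by
  rw [Q_eq, Q_eq, Q_eq]
  have : (v + v') ∘ Sum.inr = v ∘ Sum.inr + v' ∘ Sum.inr := rfl
  rw [this, qh_add]
  simp only [Pi.add_apply]
  linear_combination (v (Sum.inl ()) * v' (Sum.inl ())) * (two_eq_zero' (F := F))

theorem bh_eq_J (u w : Fin m ⊕ Fin m → F) :
    bh m u w = Matrix.toBilin' (Matrix.J (Fin m) F) u w := by
  rw [Matrix.toBilin'_apply']
  unfold bh Matrix.J
  simp only [dotProduct, Fintype.sum_sum_type, Matrix.mulVec, Matrix.fromBlocks_apply₁₁,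
    Matrix.fromBlocks_apply₁₂, Matrix.fromBlocks_apply₂₁, Matrix.fromBlocks_apply₂₂,
    Matrix.zero_apply, zero_mul, Finset.sum_const_zero, zero_add, add_zero, Matrix.neg_apply,
    Matrix.one_apply, neg_mul, ite_mul, one_mul, Finset.sum_neg_distrib, Finset.sum_ite_eq,
    Finset.mem_univ, if_true]
  rw [Finset.sum_add_distrib]
  simp only [CharTwo.neg_eq]

end forms

section group
variable {F : Type*} [Field F] [CharP F 2] (m : ℕ)
set_option linter.unusedSectionVars false

/-- embedding of the hyperbolic part -/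
def hat (w : Fin m ⊕ Fin m → F) : Unit ⊕ (Fin m ⊕ Fin m) → F := Sum.elim (fun _ => 0) w

theorem hat_inr (w : Fin m ⊕ Fin m → F) : hat m w ∘ Sum.inr = w := rfl

theorem hat_inl (w : Fin m ⊕ Fin m → F) : hat m w (Sum.inl ()) = 0 := rfl

theorem isometry (g : Cfsg.isometryGroup F (quadFormOdd m F)) (v : Unit ⊕ (Fin m ⊕ Fin m) → F) :
    quadFormOdd m F (g.1.1 *ᵥ v) = quadFormOdd m F v := g.2 v v

theorem polar_isometry (g : Cfsg.isometryGroup F (quadFormOdd m F))
    (v v' : Unit ⊕ (Fin m ⊕ Fin m) → F) :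
    bh m ((g.1.1 *ᵥ v) ∘ Sum.inr) ((g.1.1 *ᵥ v') ∘ Sum.inr) = bh m (v ∘ Sum.inr) (v' ∘ Sum.inr) := by
  rw [← polarQ, ← polarQ, ← Matrix.mulVec_add, isometry, isometry, isometry]

theorem mulVec_inv (g : Cfsg.isometryGroup F (quadFormOdd m F))
    (v : Unit ⊕ (Fin m ⊕ Fin m) → F) : g.1.1 *ᵥ ((g⁻¹).1.1 *ᵥ v) = v := by
  rw [Matrix.mulVec_mulVec]
  have : g.1.1 * (g⁻¹).1.1 = 1 := by
    have := congrArg (fun h : Cfsg.isometryGroup F (quadFormOdd m F) => h.1.1) (mul_inv_cancel g)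
    exact this
  rw [this, Matrix.one_mulVec]

/-- isometries fix the radical vector -/
theorem fix_e0 (g : Cfsg.isometryGroup F (quadFormOdd m F)) :
    g.1.1 *ᵥ Pi.single (Sum.inl ()) 1 = Pi.single (Sum.inl ()) 1 := by
  set x := g.1.1 *ᵥ (Pi.single (Sum.inl ()) 1 : Unit ⊕ (Fin m ⊕ Fin m) → F) with hx
  have h0 : ∀ w : Fin m ⊕ Fin m → F, bh m (x ∘ Sum.inr) w = 0 := by
    intro w
    have := polar_isometry m g (Pi.single (Sum.inl ()) 1) ((g⁻¹).1.1 *ᵥ hat m w)
    rw [mulVec_inv, hat_inr] at this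
    rw [← hx] at this
    rw [this]
    have : (Pi.single (Sum.inl ()) 1 : Unit ⊕ (Fin m ⊕ Fin m) → F) ∘ Sum.inr = 0 := by
      funext c
      simp
    rw [this, bh_zero_left]
  have h1 : x ∘ Sum.inr = 0 := by
    funext c
    have := h0 (Pi.single (Sum.swap c) 1)
    rw [bh_single_right, Sum.swap_swap] at this
    exact this
  have h2 : x (Sum.inl ()) = 1 := by
    have := isometry m g (Pi.single (Sum.inl ()) 1)
    rw [← hx, Q_eq, Q_eq, h1, qh_zero] at this
    have e : (Pi.single (Sum.inl ()) 1 : Unit ⊕ (Fin m ⊕ Fin m) → F) ∘ Sum.inr = 0 := by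
      funext c
      simp
    rw [e, qh_zero] at this
    simp only [Pi.single_eq_same, one_pow, add_zero] at this
    have h3 : (x (Sum.inl ()) - 1) ^ 2 = 0 := by
      linear_combination this + (1 - x (Sum.inl ())) * (two_eq_zero' (F := F))
    exact sub_eq_zero.1 (pow_eq_zero_iff two_ne_zero |>.1 h3)
  funext c
  rcases c with ⟨⟨⟩⟩ | c
  · rw [h2]; simp
  · have := congrFun h1 c
    simp only [Function.comp_apply, Pi.zero_apply] at this
    rw [this]
    simp

theorem entry_inl_inl (g : Cfsg.isometryGroup F (quadFormOdd m F)) :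
    g.1.1 (Sum.inl ()) (Sum.inl ()) = 1 := by
  have := congrFun (fix_e0 m g) (Sum.inl ())
  rw [Matrix.mulVec_single_one] at this
  simpa using this

theorem entry_inr_inl (g : Cfsg.isometryGroup F (quadFormOdd m F)) (c : Fin m ⊕ Fin m) :
    g.1.1 (Sum.inr c) (Sum.inl ()) = 0 := by
  have := congrFun (fix_e0 m g) (Sum.inr c)
  rw [Matrix.mulVec_single_one] at this
  simpa using this

/-- the symplectic part -/
def sp (g : Cfsg.isometryGroup F (quadFormOdd m F)) :
    Matrix (Fin m ⊕ Fin m) (Fin m ⊕ Fin m) F := g.1.1.toBlocks₂₂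

theorem sp_mulVec (g : Cfsg.isometryGroup F (quadFormOdd m F)) (w : Fin m ⊕ Fin m → F) :
    (g.1.1 *ᵥ hat m w) ∘ Sum.inr = sp m g *ᵥ w := by
  funext c
  simp only [Function.comp_apply, Matrix.mulVec, dotProduct, Fintype.sum_sum_type, hat,
    Sum.elim_inl, Sum.elim_inr, mul_zero, Finset.sum_const_zero, zero_add]
  rfl

theorem sp_mem (g : Cfsg.isometryGroup F (quadFormOdd m F)) :
    sp m g ∈ Matrix.symplecticGroup (Fin m) F := by
  rw [SymplecticGroup.mem_iff']
  have h : (Matrix.toBilin' (Matrix.J (Fin m) F)).comp (Matrix.toLin' (sp m g))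
      (Matrix.toLin' (sp m g)) = Matrix.toBilin' (Matrix.J (Fin m) F) := by
    apply LinearMap.ext₂
    intro u w
    rw [LinearMap.BilinForm.comp_apply, Matrix.toLin'_apply, Matrix.toLin'_apply, ← bh_eq_J,
      ← bh_eq_J, ← sp_mulVec, ← sp_mulVec, polar_isometry, hat_inr, hat_inr]
  rw [Matrix.toBilin'_comp] at h
  exact Matrix.toBilin'.injective h

theorem sp_mul (g g' : Cfsg.isometryGroup F (quadFormOdd m F)) :
    sp m (g * g') = sp m g * sp m g' := by
  ext i j
  change (g.1.1 * g'.1.1) (Sum.inr i) (Sum.inr j) = _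
  rw [Matrix.mul_apply, Fintype.sum_sum_type, Matrix.mul_apply]
  simp only [Finset.univ_unique, Finset.sum_singleton]
  rw [show (default : Unit) = () from rfl, entry_inr_inl, zero_mul, zero_add]
  rfl

theorem sp_one : sp m (1 : Cfsg.isometryGroup F (quadFormOdd m F)) = 1 := by
  ext i j
  change (1 : Matrix (Unit ⊕ (Fin m ⊕ Fin m)) (Unit ⊕ (Fin m ⊕ Fin m)) F) (Sum.inr i) (Sum.inr j) = _
  simp [Matrix.one_apply]

/-- the homomorphism onto the symplectic group -/
def Phi : Cfsg.isometryGroup F (quadFormOdd m F) →* Matrix.symplecticGroup (Fin m) F where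
  toFun g := ⟨sp m g, sp_mem m g⟩
  map_one' := Subtype.ext (sp_one m)
  map_mul' g g' := Subtype.ext (sp_mul m g g')

theorem Phi_injective : Function.Injective (Phi (F := F) m) := by
  rw [injective_iff_map_eq_one]
  intro g hg
  have hs : sp m g = 1 := congrArg Subtype.val hg
  have hl : ∀ b, g.1.1 (Sum.inl ()) (Sum.inr b) = 0 := by
    intro b
    have h1 := isometry m g (hat m (Pi.single b 1))
    rw [Q_eq, Q_eq, sp_mulVec, hs, Matrix.one_mulVec, hat_inr, hat_inl] at h1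
    have h2 : (g.1.1 *ᵥ hat m (Pi.single b 1)) (Sum.inl ()) = g.1.1 (Sum.inl ()) (Sum.inr b) := by
      simp [Matrix.mulVec, dotProduct, Fintype.sum_sum_type, hat, Pi.single_apply]
    rw [h2] at h1
    have h3 : g.1.1 (Sum.inl ()) (Sum.inr b) ^ 2 = 0 := by linear_combination h1
    exact pow_eq_zero_iff two_ne_zero |>.1 h3
  apply Subtype.ext
  apply Units.ext
  ext i j
  change g.1.1 i j = (1 : Matrix _ _ F) i j
  rcases i with ⟨⟨⟩⟩ | i <;> rcases j with ⟨⟨⟩⟩ | j
  · rw [entry_inl_inl]; simp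
  · rw [hl]; simp
  · rw [entry_inr_inl]; simp
  · have := congrFun (congrFun hs i) j
    change g.1.1 (Sum.inr i) (Sum.inr j) = _ at this
    rw [this]
    simp [Matrix.one_apply]

end group

section surj
variable {F : Type*} [Field F] [Fintype F] [CharP F 2] (m : ℕ)
set_option linter.unusedSectionVars false

/-- square roots in a finite field of characteristic two -/
noncomputable def sqrt (x : F) : F :=
  haveI : Fact (Nat.Prime 2) := ⟨Nat.prime_two⟩
  haveI : ExpChar F 2 := ExpChar.prime Nat.prime_two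
  (frobeniusEquiv F 2).symm x

theorem sqrt_sq (x : F) : sqrt x ^ 2 = x := by
  have : Fact (Nat.Prime 2) := ⟨Nat.prime_two⟩
  have : ExpChar F 2 := ExpChar.prime Nat.prime_two
  exact frobeniusEquiv_symm_pow_p F 2 x

theorem sqrt_unique (x y : F) (h : y ^ 2 = x) : sqrt x = y := by
  have h1 := sqrt_sq x
  have h2 : (sqrt x - y) ^ 2 = 0 := by
    linear_combination h1 - h + (y * y - sqrt x * y) * (two_eq_zero' (F := F))
  exact sub_eq_zero.1 (pow_eq_zero_iff two_ne_zero |>.1 h2)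

theorem sqrt_add (x y : F) : sqrt (x + y) = sqrt x + sqrt y := by
  apply sqrt_unique
  have h1 := sqrt_sq x
  have h2 := sqrt_sq y
  linear_combination h1 + h2 + (sqrt x * sqrt y) * (two_eq_zero' (F := F))

theorem sqrt_sq_mul (c x : F) : sqrt (c ^ 2 * x) = c * sqrt x := by
  apply sqrt_unique
  rw [mul_pow, sqrt_sq]

/-- the defect of a symplectic matrix -/
noncomputable def ell (s : Matrix (Fin m ⊕ Fin m) (Fin m ⊕ Fin m) F)
    (hs : s ∈ Matrix.symplecticGroup (Fin m) F) : (Fin m ⊕ Fin m → F) →ₗ[F] F where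
  toFun w := sqrt (qh m w + qh m (s *ᵥ w))
  map_add' u w := by
    rw [← sqrt_add]
    congr 1
    have h : bh m (s *ᵥ u) (s *ᵥ w) = bh m u w := by
      rw [bh_eq_J, bh_eq_J]
      rw [SymplecticGroup.mem_iff'] at hs
      have := Matrix.toBilin'_comp (Matrix.J (Fin m) F) s s
      rw [hs] at this
      have h2 := congrArg (fun B : LinearMap.BilinForm F (Fin m ⊕ Fin m → F) => B u w) this
      simp only [LinearMap.BilinForm.comp_apply, Matrix.toLin'_apply] at h2
      exact h2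
    rw [Matrix.mulVec_add, qh_add, qh_add, h]
    linear_combination (bh m u w) * (two_eq_zero' (F := F))
  map_smul' c w := by
    rw [Matrix.mulVec_smul, qh_smul, qh_smul, ← mul_add, sqrt_sq_mul]
    rfl

theorem ell_sq (s : Matrix (Fin m ⊕ Fin m) (Fin m ⊕ Fin m) F)
    (hs : s ∈ Matrix.symplecticGroup (Fin m) F) (w : Fin m ⊕ Fin m → F) :
    ell m s hs w ^ 2 = qh m w + qh m (s *ᵥ w) := sqrt_sq _

/-- the lift of a symplectic matrix as a linear map -/
noncomputable def liftL (s : Matrix (Fin m ⊕ Fin m) (Fin m ⊕ Fin m) F)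
    (hs : s ∈ Matrix.symplecticGroup (Fin m) F) :
    (Unit ⊕ (Fin m ⊕ Fin m) → F) →ₗ[F] (Unit ⊕ (Fin m ⊕ Fin m) → F) where
  toFun v := Sum.elim (fun _ => v (Sum.inl ()) + ell m s hs (v ∘ Sum.inr)) (s *ᵥ (v ∘ Sum.inr))
  map_add' u w := by
    funext c
    have : (u + w) ∘ Sum.inr = u ∘ Sum.inr + w ∘ Sum.inr := rfl
    rcases c with ⟨⟨⟩⟩ | c
    · simp only [Sum.elim_inl, Pi.add_apply, this, map_add]
      ring
    · simp only [Sum.elim_inr, Pi.add_apply, this, Matrix.mulVec_add]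
  map_smul' c w := by
    funext d
    have : (c • w) ∘ Sum.inr = c • (w ∘ Sum.inr) := rfl
    rcases d with ⟨⟨⟩⟩ | d
    · simp only [Sum.elim_inl, Pi.smul_apply, this, map_smul, smul_eq_mul, RingHom.id_apply]
      ring
    · simp only [Sum.elim_inr, Pi.smul_apply, this, Matrix.mulVec_smul, RingHom.id_apply]

theorem liftL_isometry (s : Matrix (Fin m ⊕ Fin m) (Fin m ⊕ Fin m) F)
    (hs : s ∈ Matrix.symplecticGroup (Fin m) F) (v : Unit ⊕ (Fin m ⊕ Fin m) → F) :
    quadFormOdd m F (liftL m s hs v) = quadFormOdd m F v := by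
  rw [Q_eq, Q_eq]
  change (v (Sum.inl ()) + ell m s hs (v ∘ Sum.inr)) ^ 2 + qh m (s *ᵥ (v ∘ Sum.inr)) = _
  have := ell_sq m s hs (v ∘ Sum.inr)
  linear_combination this + (v (Sum.inl ()) * ell m s hs (v ∘ Sum.inr) + qh m (s *ᵥ (v ∘ Sum.inr))) *
    (two_eq_zero' (F := F))

theorem liftL_injective (s : Matrix (Fin m ⊕ Fin m) (Fin m ⊕ Fin m) F)
    (hs : s ∈ Matrix.symplecticGroup (Fin m) F) : Function.Injective (liftL m s hs) := by
  rw [injective_iff_map_eq_zero]
  intro v hv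
  have h1 : s *ᵥ (v ∘ Sum.inr) = 0 := by
    funext c
    exact congrFun hv (Sum.inr c)
  have h2 : v ∘ Sum.inr = 0 := by
    have hu : IsUnit s := (Matrix.isUnit_iff_isUnit_det s).2 (SymplecticGroup.symplectic_det hs)
    have := (Matrix.mulVec_injective_iff_isUnit.2 hu)
    apply this
    rw [h1, Matrix.mulVec_zero]
  have h3 := congrFun hv (Sum.inl ())
  change v (Sum.inl ()) + ell m s hs (v ∘ Sum.inr) = 0 at h3
  rw [h2, map_zero, add_zero] at h3
  funext c
  rcases c with ⟨⟨⟩⟩ | c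
  · exact h3
  · exact congrFun h2 c

/-- the lift as a group element -/
noncomputable def lift (s : Matrix (Fin m ⊕ Fin m) (Fin m ⊕ Fin m) F)
    (hs : s ∈ Matrix.symplecticGroup (Fin m) F) : Cfsg.isometryGroup F (quadFormOdd m F) :=
  ⟨Matrix.GeneralLinearGroup.mk'' (LinearMap.toMatrix' (liftL m s hs)) (by
    rw [← Matrix.isUnit_iff_isUnit_det, ← Matrix.mulVec_injective_iff_isUnit]
    intro u w huw
    apply liftL_injective m s hs
    rw [LinearMap.toMatrix'_mulVec, LinearMap.toMatrix'_mulVec] at huw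
    exact huw), by
    intro u _
    change quadFormOdd m F (LinearMap.toMatrix' (liftL m s hs) *ᵥ u) = quadFormOdd m F u
    rw [LinearMap.toMatrix'_mulVec]
    exact liftL_isometry m s hs u⟩

theorem Phi_lift (s : Matrix (Fin m ⊕ Fin m) (Fin m ⊕ Fin m) F)
    (hs : s ∈ Matrix.symplecticGroup (Fin m) F) : Phi m (lift m s hs) = ⟨s, hs⟩ := by
  apply Subtype.ext
  ext i j
  change LinearMap.toMatrix' (liftL m s hs) (Sum.inr i) (Sum.inr j) = s i j
  rw [LinearMap.toMatrix'_apply]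
  change (s *ᵥ ((Pi.single (Sum.inr j) 1 : Unit ⊕ (Fin m ⊕ Fin m) → F) ∘ Sum.inr)) i = s i j
  have : (Pi.single (Sum.inr j) 1 : Unit ⊕ (Fin m ⊕ Fin m) → F) ∘ Sum.inr = Pi.single j 1 := by
    funext c
    simp [Pi.single_apply]
  rw [this, Matrix.mulVec_single_one]
  rfl

end surj

theorem result {F : Type*} [Field F] [Fintype F] [CharP F 2] (m : ℕ) : Nonempty (Cfsg.isometryGroup F (Cfsg.quadFormOdd m F) ≃* Matrix.symplecticGroup (Fin m) F) := by
  refine ⟨MulEquiv.ofBijective (Phi m) ⟨Phi_injective m, ?_⟩⟩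
  rintro ⟨s, hs⟩
  exact ⟨lift m s hs, Phi_lift m s hs⟩

end Cfsg.Agent.S0304
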