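import Cfsg.Statements.S0784
import Mathlib
import Cfsg.Agent.Lib.Helper5.QForm

set_option autoImplicit false
open Cfsg

namespace Cfsg.Agent.S0784

open Cfsg.Agent.Lib.Helper5.QForm QuadraticMap Matrix in
/-- Reflections: if Q(v) ≠ 0 then the matrix R = 1 − Q(v)⁻¹ · v f(v, ·)ᵀ preserves Q, maps v to −v, fixes each x with f(v, x) = 0, and has determinant −1 (in characteristic two, −1 = 1 and R is the orthogonal transvection of v). -/
theorem result {F : Type*} [Field F] {n : ℕ} (Q : QuadraticForm F (Fin n → F)) (v : Fin n → F) (hv : Q v ≠ 0) : (∀ x, Q ((Cfsg.reflectionMatrix ⇑Q v).mulVec x) = Q x) ∧ (Cfsg.reflectionMatrix ⇑Q v).mulVec v = -v ∧ (∀ x, QuadraticMap.polar ⇑Q v x = 0 → (Cfsg.reflectionMatrix ⇑Q v).mulVec x = x) ∧ (Cfsg.reflectionMatrix ⇑Q v).det = -1 := by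
  have hvv : polar (⇑Q) v v = 2 * Q v := by rw [polar_self]; simp [two_mul, two_smul]
  have hform : ∀ x : Fin n → F, reflectionMatrix (⇑Q) v *ᵥ x =
      x + (-((Q v)⁻¹ * polar (⇑Q) v x)) • v := by
    intro x
    rw [reflectionMatrix_mulVec]
    module
  refine ⟨?_, ?_, ?_, ?_⟩
  · intro x
    rw [hform, QuadraticMap.map_add (⇑Q) x, QuadraticMap.map_smul]
    simp only [polar_smul_right, smul_eq_mul]
    rw [polar_comm (⇑Q) x v]
    field_simp
    ring
  · rw [hform, hvv]
    have : -((Q v)⁻¹ * (2 * Q v)) = (-2 : F) := by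
      field_simp
    rw [this]
    module
  · intro x hx
    rw [hform, hx]
    simp
  · unfold reflectionMatrix
    rw [sub_eq_add_neg, ← neg_smul, ← Matrix.smul_vecMulVec,
      Matrix.vecMulVec_eq (ι := Unit), Matrix.det_one_add_replicateCol_mul_replicateRow,
      dotProduct_smul, polarVec_dotProduct, hvv]
    simp only [smul_eq_mul]
    field_simp
    ring

end Cfsg.Agent.S0784
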