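import Cfsg.Statements.S1064
import Cfsg.Agent.Lib.Helper5.Chev.PcE7
import Cfsg.Agent.Lib.Helper5.Chev.HCardAll
import Cfsg.Agent.Lib.Helper5.Chev.HsE7

open Cfsg.Lie Cfsg.Agent.Lib.Helper5.Chev

set_option autoImplicit false
open Cfsg

namespace Cfsg.Agent.S1064

/-- `gcd(2, q-1) · |E₇(q)| = q⁶³ ∏_{d ∈ {2,6,8,10,12,14,18}} (q^d - 1)`. -/
theorem result {F : Type*} [Field F] [Fintype F] {q : ℕ} (hq : Fintype.card F = q) : Nat.gcd 2 (q - 1) * Nat.card ↥(Cfsg.Lie.chevE7.group F) = q ^ 63 * (q ^ 2 - 1) * (q ^ 6 - 1) * (q ^ 8 - 1) * (q ^ 10 - 1) * (q ^ 12 - 1) * (q ^ 14 - 1) * (q ^ 18 - 1) := by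
  obtain ⟨h1, h2⟩ := cox_of_check DataE7.fd BsE7.Bs CxE7.mLL CxE7.cox
  have hN : Nat.card F = q := by rw [Nat.card_eq_fintype_card, hq]
  have hH : Nat.gcd 2 (Nat.card F - 1) * Nat.card (chevE7.diagonalSubgroup F) = (Nat.card F - 1) ^ 7 := by
    rw [Nat.card_eq_fintype_card (α := F)]
    exact card_diagonal_E7
  have h := card_group_final (F := F) (D := chevE7) (by simp) DataE7.agrees BsE7.Bs CxE7.mLL
    HsE7.reflBs' h1 h2 HsE7.gH HsE7.baseH _ HsE7.rbH HsE7.base_simple PcE7.ch PcE7.ok PcE7.hall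
    (Nat.gcd 2 (Nat.card F - 1)) 7 hH [2, 6, 8, 10, 12, 14, 18] (by decide) PcE7.hpoly
  rw [hN] at h
  have e : chevE7.nroots / 2 = 63 := by decide
  rw [e] at h
  simp only [List.map_cons, List.map_nil, List.prod_cons, List.prod_nil, mul_one, one_mul] at h
  rw [h]
  ring

end Cfsg.Agent.S1064
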