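import Cfsg.Statements.S1065
import Cfsg.Agent.Lib.Helper5.Chev.PcE8
import Cfsg.Agent.Lib.Helper5.Chev.HCardAll
import Cfsg.Agent.Lib.Helper5.Chev.HsE8

open Cfsg.Lie Cfsg.Agent.Lib.Helper5.Chev

set_option autoImplicit false
open Cfsg

namespace Cfsg.Agent.S1065

/-- `|E₈(q)| = q¹²⁰ ∏_{d ∈ {2,8,12,14,18,20,24,30}} (q^d - 1)`. -/
theorem result {F : Type*} [Field F] [Fintype F] {q : ℕ} (hq : Fintype.card F = q) : Nat.card ↥(Cfsg.Lie.chevE8.group F) = q ^ 120 * (q ^ 2 - 1) * (q ^ 8 - 1) * (q ^ 12 - 1) * (q ^ 14 - 1) * (q ^ 18 - 1) * (q ^ 20 - 1) * (q ^ 24 - 1) * (q ^ 30 - 1) := by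
  obtain ⟨h1, h2⟩ := cox_of_check DataE8.fd BsE8.Bs CxE8.mLL CxE8.cox
  have hN : Nat.card F = q := by rw [Nat.card_eq_fintype_card, hq]
  have hH : 1 * Nat.card (chevE8.diagonalSubgroup F) = (Nat.card F - 1) ^ 8 := by
    rw [one_mul, card_diagonal_E8, Nat.card_eq_fintype_card]
  have h := card_group_final (F := F) (D := chevE8) (by simp) DataE8.agrees BsE8.Bs CxE8.mLL
    HsE8.reflBs' h1 h2 HsE8.gH HsE8.baseH _ HsE8.rbH HsE8.base_simple PcE8.ch PcE8.ok PcE8.hall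
    (1) 8 hH [2, 8, 12, 14, 18, 20, 24, 30] (by decide) PcE8.hpoly
  rw [hN] at h
  have e : chevE8.nroots / 2 = 120 := by decide
  rw [e] at h
  simp only [List.map_cons, List.map_nil, List.prod_cons, List.prod_nil, mul_one, one_mul] at h
  rw [h]
  ring

end Cfsg.Agent.S1065
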