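import Cfsg.Statements.S0293
import Cfsg.Agent.Lib.Helper5.Orth.OmegaOrder
import Cfsg.Agent.S0287

set_option autoImplicit false
open Cfsg

namespace Cfsg.Agent.S0293

/-- gcd(4, q^m - 1) |PΩ^+_{2m}(q)| = q^(m(m-1)) (q^m - 1) prod_{i=1}^{m-1} (q^(2i) - 1), m at least 4 (type D_m). -/
theorem result {F : Type*} [Field F] [Fintype F] {q : ℕ} (hF : Fintype.card F = q) (m : ℕ) (hm : 4 ≤ m) : Nat.gcd 4 (q ^ m - 1) * Nat.card (Cfsg.POmega F (Cfsg.quadFormPlus m F)) = q ^ (m * (m - 1)) * (q ^ m - 1) * ∏ i ∈ Finset.range (m - 1), (q ^ (2 * (i + 1)) - 1) := by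
  classical
  subst hF
  have hQ := Cfsg.Agent.Lib.Helper5.OrthPM.quadFormPlus_nondeg (F := F) m
  have hcard : Fintype.card (Fin m ⊕ Fin m) = 2 * m := by
    simp only [Fintype.card_sum, Fintype.card_fin]
    omega
  have hne4 : Fintype.card F ≠ 2 ∨ Fintype.card (Fin m ⊕ Fin m) ≠ 4 := by
    right; rw [hcard]; omega
  have hgen := Cfsg.Agent.H9.Orth.iso_le_RR hQ hne4
  have h4 := Cfsg.Agent.S0287.result (F := F) rfl m (by omega)
  have hqpos : 1 ≤ Fintype.card F ^ m := Nat.one_le_pow _ _ Fintype.card_pos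
  rcases Nat.even_or_odd (Fintype.card F) with hev | hodd
  · -- characteristic two
    have h2 := Cfsg.Agent.Lib.Helper5.OrthSN.two_eq_zero_of_even_card hev
    have h1 := Cfsg.Agent.Lib.Helper5.OrthSN.card_POmega_of_not hQ (by rw [hcard]; omega)
      (Or.inl h2)
    have h3 := Cfsg.Agent.Lib.Helper5.OrthSN.card_omega_mul_two hQ h2 (by rw [hcard]; omega) hne4
    have hpe : Even (Fintype.card F ^ m) := (Nat.even_pow.2 ⟨hev, by omega⟩)
    have hg : Nat.gcd 4 (Fintype.card F ^ m - 1) = 1 := by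
      apply Cfsg.Agent.Lib.Helper5.OrthSN.gcd_four_of_odd
      obtain ⟨k, hk⟩ := hpe
      omega
    rw [hg, one_mul, h1]
    rw [h4] at h3
    generalize Nat.card ↥(Cfsg.Omega F (Cfsg.quadFormPlus m F)) = N at h3
    have h5 : N * 2 = 2 * (Fintype.card F ^ (m * (m - 1)) * (Fintype.card F ^ m - 1) *
        ∏ i ∈ Finset.range (m - 1), (Fintype.card F ^ (2 * (i + 1)) - 1)) := by
      rw [h3]; ring
    generalize (Fintype.card F ^ (m * (m - 1)) * (Fintype.card F ^ m - 1) *
        ∏ i ∈ Finset.range (m - 1), (Fintype.card F ^ (2 * (i + 1)) - 1)) = X at h5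
    omega
  · -- odd characteristic
    have h2 := Cfsg.Agent.Lib.Helper5.OrthSN.two_ne_zero_of_odd_card hodd
    have h3 := Cfsg.Agent.Lib.Helper5.OrthSN.card_omega_mul_four hQ h2 (by rw [hcard]; omega) hgen
    have hiff := Cfsg.Agent.Lib.Helper5.OrthSN.plus_diag_iff (F := F) m hodd m le_rfl
    rw [Cfsg.Agent.Lib.Helper5.OrthSN.diagonal_dP_self] at hiff
    have hpo : Odd (Fintype.card F ^ m) := hodd.pow
    rw [h4] at h3
    by_cases hmod : Fintype.card F ^ m % 4 = 1
    · obtain ⟨g₀, hg₀, hval⟩ := hiff.2 hmod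
      have h1 := Cfsg.Agent.Lib.Helper5.OrthSN.card_POmega_of_neg_mem hQ (by rw [hcard]; omega) h2
        g₀ hg₀ hval
      have hg : Nat.gcd 4 (Fintype.card F ^ m - 1) = 4 := by
        apply Cfsg.Agent.Lib.Helper5.OrthSN.gcd_four_of_mod_zero
        omega
      rw [hg]
      generalize Nat.card ↥(Cfsg.Omega F (Cfsg.quadFormPlus m F)) = N at h3 h1
      generalize Nat.card (Cfsg.POmega F (Cfsg.quadFormPlus m F)) = P at h1
      have h5 : N * 4 = 2 * (Fintype.card F ^ (m * (m - 1)) * (Fintype.card F ^ m - 1) *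
          ∏ i ∈ Finset.range (m - 1), (Fintype.card F ^ (2 * (i + 1)) - 1)) := by
        rw [h3]; ring
      generalize (Fintype.card F ^ (m * (m - 1)) * (Fintype.card F ^ m - 1) *
          ∏ i ∈ Finset.range (m - 1), (Fintype.card F ^ (2 * (i + 1)) - 1)) = X at h5
      omega
    · have hmod3 : Fintype.card F ^ m % 4 = 3 := by
        obtain ⟨k, hk⟩ := hpo
        omega
      have h1 := Cfsg.Agent.Lib.Helper5.OrthSN.card_POmega_of_not hQ (by rw [hcard]; omega)
        (Or.inr (fun hex => hmod (hiff.1 hex)))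
      have hg : Nat.gcd 4 (Fintype.card F ^ m - 1) = 2 := by
        apply Cfsg.Agent.Lib.Helper5.OrthSN.gcd_four_of_mod_two
        omega
      rw [hg, h1]
      generalize Nat.card ↥(Cfsg.Omega F (Cfsg.quadFormPlus m F)) = N at h3
      have h5 : N * 4 = 2 * (Fintype.card F ^ (m * (m - 1)) * (Fintype.card F ^ m - 1) *
          ∏ i ∈ Finset.range (m - 1), (Fintype.card F ^ (2 * (i + 1)) - 1)) := by
        rw [h3]; ring
      generalize (Fintype.card F ^ (m * (m - 1)) * (Fintype.card F ^ m - 1) *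
          ∏ i ∈ Finset.range (m - 1), (Fintype.card F ^ (2 * (i + 1)) - 1)) = X at h5
      omega

end Cfsg.Agent.S0293
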