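import Cfsg.Statements.S0749
import Mathlib

set_option autoImplicit false
open Cfsg

namespace Cfsg.Agent.S0749

open Module

variable {F V : Type*} [Field F] [AddCommGroup V] [Module F V]

/-- the linear map `z ↦ z + (c * B z u) • u` -/
noncomputable def tvMap (B : LinearMap.BilinForm F V) (u : V) (c : F) : V →ₗ[F] V :=
  LinearMap.id + (c • (B.flip u)).smulRight u

theorem tvMap_apply (B : LinearMap.BilinForm F V) (u : V) (c : F) (z : V) :
    tvMap B u c z = z + (c * B z u) • u := by
  unfold tvMap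
  simp [LinearMap.smulRight_apply]

theorem tvMap_comp (B : LinearMap.BilinForm F V) (hA : B.IsAlt) (u : V) (c : F) :
    (tvMap B u (-c)).comp (tvMap B u c) = LinearMap.id := by
  ext z
  simp only [LinearMap.comp_apply, tvMap_apply, LinearMap.id_apply, map_add, map_smul,
    hA u, mul_zero]
  module

/-- the transvection as a linear equivalence -/
noncomputable def tv (B : LinearMap.BilinForm F V) (hA : B.IsAlt) (u : V) (c : F) : V ≃ₗ[F] V :=
  LinearEquiv.ofLinearMap (tvMap B u c) (tvMap B u (-c))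
    (by have := tvMap_comp B hA u (-c); rwa [neg_neg] at this) (tvMap_comp B hA u c)

theorem tv_apply (B : LinearMap.BilinForm F V) (hA : B.IsAlt) (u : V) (c : F) (z : V) :
    tv B hA u c z = z + (c * B z u) • u := tvMap_apply B u c z

theorem tv_isometry (B : LinearMap.BilinForm F V) (hA : B.IsAlt) (u : V) (c : F) (z z' : V) :
    B (tv B hA u c z) (tv B hA u c z') = B z z' := by
  rw [tv_apply, tv_apply]
  simp only [map_add, map_smul, LinearMap.add_apply, LinearMap.smul_apply, hA u, smul_eq_mul,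
    mul_zero, add_zero]
  have h1 : B u z' = - B z' u := by rw [hA.neg_eq]
  rw [h1]
  ring

theorem tv_fix (B : LinearMap.BilinForm F V) (hA : B.IsAlt) (u : V) (c : F) {z : V}
    (hz : B z u = 0) : tv B hA u c z = z := by
  rw [tv_apply, hz, mul_zero, zero_smul, add_zero]

/-- `tv` along `y - x` maps `x` to `y` when `B x y ≠ 0` -/
theorem tv_map (B : LinearMap.BilinForm F V) (hA : B.IsAlt) {x y : V} (h : B x y ≠ 0) :
    tv B hA (y - x) (B x y)⁻¹ x = y := by
  rw [tv_apply, map_sub, hA x, sub_zero, inv_mul_cancel₀ h, one_smul]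
  abel

variable [FiniteDimensional F V]

theorem exists_orth (B : LinearMap.BilinForm F V) (hB : B.Nondegenerate) (hA : B.IsAlt)
    (W : Submodule F V) {x : V} (hx : x ∉ W) : ∃ r, (∀ z ∈ W, B z r = 0) ∧ B x r ≠ 0 := by
  by_contra hcon
  push Not at hcon
  apply hx
  rw [← LinearMap.BilinForm.orthogonal_orthogonal hB hA.isRefl W]
  rw [LinearMap.BilinForm.mem_orthogonal_iff]
  intro r hr
  have h1 := hcon r (fun z hz => hr z hz)
  have h2 := hA.neg_eq x r
  rw [h1, neg_zero] at h2
  exact h2.symm

theorem exists_orth_both (B : LinearMap.BilinForm F V) (hB : B.Nondegenerate) (hA : B.IsAlt)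
    (W : Submodule F V) {x y : V} (hx : x ∉ W) (hy : y ∉ W) :
    ∃ r, (∀ z ∈ W, B z r = 0) ∧ B x r ≠ 0 ∧ B y r ≠ 0 := by
  obtain ⟨r1, h1, h1x⟩ := exists_orth B hB hA W hx
  obtain ⟨r2, h2, h2y⟩ := exists_orth B hB hA W hy
  by_cases hy1 : B y r1 = 0
  · by_cases hx2 : B x r2 = 0
    · refine ⟨r1 + r2, fun z hz => ?_, ?_, ?_⟩
      · rw [map_add, h1 z hz, h2 z hz, add_zero]
      · rw [map_add, hx2, add_zero]; exact h1x
      · rw [map_add, hy1, zero_add]; exact h2y
    · exact ⟨r2, h2, hx2, h2y⟩
  · exact ⟨r1, h1, h1x, hy1⟩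

/-- the key step -/
theorem step (B : LinearMap.BilinForm F V) (hB : B.Nondegenerate) (hA : B.IsAlt)
    (X0 : Submodule F V) {x y : V} (hx : x ∉ X0) (hy : y ∉ X0)
    (hxy : ∀ z ∈ X0, B z y = B z x) :
    ∃ g : V ≃ₗ[F] V, (∀ u v, B (g u) (g v) = B u v) ∧ (∀ z ∈ X0, g z = z) ∧ g x = y := by
  by_cases h : B x y = 0
  · obtain ⟨r, hr, hxr, hyr⟩ := exists_orth_both B hB hA X0 hx hy
    have h1 : B x (x + r) ≠ 0 := by rw [map_add, hA x, zero_add]; exact hxr
    have h2 : B (x + r) y ≠ 0 := by
      rw [map_add, LinearMap.add_apply, h, zero_add]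
      have := hA.neg_eq y r
      intro h0
      rw [h0] at this
      exact hyr (neg_eq_zero.mp this)
    refine ⟨(tv B hA (x + r - x) (B x (x + r))⁻¹).trans (tv B hA (y - (x + r)) (B (x + r) y)⁻¹),
      ?_, ?_, ?_⟩
    · intro u v
      simp only [LinearEquiv.trans_apply]
      rw [tv_isometry, tv_isometry]
    · intro z hz
      simp only [LinearEquiv.trans_apply]
      have e1 : tv B hA (x + r - x) (B x (x + r))⁻¹ z = z :=
        tv_fix B hA _ _ (by rw [add_sub_cancel_left]; exact hr z hz)
      rw [e1]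
      exact tv_fix B hA _ _ (by rw [map_sub, map_add, hxy z hz, hr z hz, add_zero, sub_self])
    · simp only [LinearEquiv.trans_apply]
      rw [tv_map B hA h1, tv_map B hA h2]
  · refine ⟨tv B hA (y - x) (B x y)⁻¹, tv_isometry B hA _ _, ?_, tv_map B hA h⟩
    intro z hz
    apply tv_fix
    rw [map_sub, hxy z hz, sub_self]

/-- Witt's lemma for a linear map defined on the whole space, injective and isometric on `X` -/
theorem witt_aux (B : LinearMap.BilinForm F V) (hB : B.Nondegenerate) (hA : B.IsAlt) :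
    ∀ (n : ℕ) (X : Submodule F V) (f : V →ₗ[F] V), finrank F X = n →
      (∀ x ∈ X, f x = 0 → x = 0) → (∀ x ∈ X, ∀ x' ∈ X, B (f x) (f x') = B x x') →
      ∃ g : V ≃ₗ[F] V, (∀ u v, B (g u) (g v) = B u v) ∧ ∀ x ∈ X, g x = f x := by
  intro n
  induction n with
  | zero =>
    intro X f hX _ _
    have hbot : X = ⊥ := Submodule.finrank_eq_zero.mp hX
    refine ⟨LinearEquiv.refl F V, fun u v => rfl, ?_⟩
    intro x hx
    rw [hbot, Submodule.mem_bot] at hx
    rw [hx, map_zero, map_zero]
  | succ n ih =>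
    intro X f hX hinj hiso
    -- choose x ≠ 0 in X and a complement
    have hne : X ≠ ⊥ := by
      intro h
      rw [h, finrank_bot] at hX
      omega
    obtain ⟨x, hxX, hx0⟩ := Submodule.exists_mem_ne_zero_of_ne_bot hne
    obtain ⟨q, hq⟩ := Submodule.exists_isCompl (Submodule.span F {x})
    set X0 := X ⊓ q with hX0
    have hspan_le : Submodule.span F {x} ≤ X := by
      rw [Submodule.span_singleton_le_iff_mem]; exact hxX
    have hsup : Submodule.span F {x} ⊔ X0 = X := by
      rw [hX0, inf_comm X q, ← sup_inf_assoc_of_le q hspan_le, hq.sup_eq_top, top_inf_eq]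
    have hinf : Submodule.span F {x} ⊓ X0 = ⊥ := by
      rw [hX0, ← inf_assoc, inf_comm (Submodule.span F {x}) X, inf_assoc, hq.inf_eq_bot, inf_bot_eq]
    have hxX0 : x ∉ X0 := by
      intro h
      have : x ∈ Submodule.span F {x} ⊓ X0 := ⟨Submodule.mem_span_singleton_self x, h⟩
      rw [hinf, Submodule.mem_bot] at this
      exact hx0 this
    have hfin : finrank F X0 = n := by
      have h1 := Submodule.finrank_sup_add_finrank_inf_eq (Submodule.span F {x}) X0
      rw [hsup, hinf, finrank_bot, hX, finrank_span_singleton hx0] at h1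
      omega
    have hX0X : X0 ≤ X := inf_le_left
    obtain ⟨g0, hg0iso, hg0⟩ := ih X0 f hfin (fun z hz => hinj z (hX0X hz))
      (fun z hz z' hz' => hiso z (hX0X hz) z' (hX0X hz'))
    -- f' = g0⁻¹ ∘ f
    set f' : V →ₗ[F] V := g0.symm.toLinearMap.comp f with hf'
    have hf'X0 : ∀ z ∈ X0, f' z = z := by
      intro z hz
      rw [hf', LinearMap.comp_apply, ← hg0 z hz]
      exact g0.symm_apply_apply z
    have hg0symm : ∀ u v, B (g0.symm u) (g0.symm v) = B u v := by
      intro u v
      have := hg0iso (g0.symm u) (g0.symm v)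
      rw [g0.apply_symm_apply, g0.apply_symm_apply] at this
      exact this.symm
    have hf'iso : ∀ a ∈ X, ∀ b ∈ X, B (f' a) (f' b) = B a b := by
      intro a ha b hb
      rw [hf', LinearMap.comp_apply, LinearMap.comp_apply]
      exact (hg0symm _ _).trans (hiso a ha b hb)
    have hf'inj : ∀ a ∈ X, f' a = 0 → a = 0 := by
      intro a ha h0
      apply hinj a ha
      rw [hf', LinearMap.comp_apply] at h0
      exact (LinearEquiv.map_eq_zero_iff g0.symm).mp h0
    have hyX0 : f' x ∉ X0 := by
      intro h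
      have h1 : f' (x - f' x) = 0 := by rw [map_sub, hf'X0 _ h, sub_self]
      have h2 := hf'inj (x - f' x) (sub_mem hxX (hX0X h)) h1
      rw [sub_eq_zero] at h2
      rw [← h2] at h
      exact hxX0 h
    have hxy : ∀ z ∈ X0, B z (f' x) = B z x := by
      intro z hz
      have := hf'iso z (hX0X hz) x hxX
      rwa [hf'X0 z hz] at this
    obtain ⟨h, hhiso, hhfix, hhx⟩ := step B hB hA X0 hxX0 hyX0 hxy
    refine ⟨h.trans g0, ?_, ?_⟩
    · intro u v
      simp only [LinearEquiv.trans_apply]
      rw [hg0iso, hhiso]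
    · intro a ha
      rw [← hsup, Submodule.mem_sup] at ha
      obtain ⟨a1, ha1, a2, ha2, rfl⟩ := ha
      rw [Submodule.mem_span_singleton] at ha1
      obtain ⟨c, rfl⟩ := ha1
      simp only [LinearEquiv.trans_apply, map_add, map_smul]
      rw [hhx, hhfix a2 ha2, hg0 a2 ha2]
      congr 2
      rw [hf', LinearMap.comp_apply]
      exact g0.apply_symm_apply _

/-- Witt's Lemma for alternating forms. If B is a non-degenerate alternating bilinear form on a finite-dimensional vector space V (over any field) and φ is a linear equivalence between subspaces X and Y of V preserving B, then φ extends to a B-preserving linear automorphism of V. -/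
theorem result {F V : Type*} [Field F] [AddCommGroup V] [Module F V] [FiniteDimensional F V] (B : LinearMap.BilinForm F V) (hB : B.Nondegenerate) (hA : B.IsAlt) (X Y : Submodule F V) (φ : X ≃ₗ[F] Y) (hφ : ∀ x x' : X, B (φ x : V) (φ x' : V) = B (x : V) (x' : V)) : ∃ g : V ≃ₗ[F] V, (∀ u v : V, B (g u) (g v) = B u v) ∧ ∀ x : X, g (x : V) = (φ x : V) := by
  obtain ⟨f, hf⟩ := LinearMap.exists_extend (Y.subtype.comp φ.toLinearMap)
  have hfx : ∀ x : X, f (x : V) = (φ x : V) := by
    intro x
    have := congrArg (fun g => g x) hf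
    simpa using this
  obtain ⟨g, hg1, hg2⟩ := witt_aux B hB hA (finrank F X) X f rfl
    (by
      intro x hx h0
      have h1 := hfx ⟨x, hx⟩
      rw [h0] at h1
      have h2 : φ ⟨x, hx⟩ = 0 := Subtype.ext h1.symm
      have h3 := (LinearEquiv.map_eq_zero_iff φ).mp h2
      exact congrArg Subtype.val h3)
    (by
      intro x hx x' hx'
      have := hφ ⟨x, hx⟩ ⟨x', hx'⟩
      rw [← hfx, ← hfx] at this
      exact this)
  exact ⟨g, hg1, fun x => (hg2 x x.2).trans (hfx x)⟩

end Cfsg.Agent.S0749
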