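import Mathlib
import Cfsg.Statements.S2166
import Cfsg.Agent.Lib.Helper8.SpInvC

set_option autoImplicit false
open Cfsg

namespace Cfsg.Agent.S2166

open Matrix Cfsg.Agent.Lib.Helper5.Symp Cfsg.Agent.S0245 Cfsg.Agent.Lib.Helper8.SpInv

section Final

variable {F : Type*} [Field F] {m : ℕ}

theorem sq_surj [Finite F] (h2 : (2 : F) = 0) (d : F) : ∃ l : F, l * l = d := by
  have hinj : Function.Injective (fun y : F => y * y) := by
    intro y z hyz
    have hyz' : y * y = z * z := hyz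
    have : (y - z) * (y - z) = 0 := by
      linear_combination hyz' + (z * z - y * z) * h2
    have := mul_self_eq_zero.1 this
    exact sub_eq_zero.1 this
  exact Finite.surjective_of_injective hinj d

theorem coe_mul_inv (c : ↥(Matrix.symplecticGroup (Fin m) F)) :
    (c : Matrix (Fin m ⊕ Fin m) (Fin m ⊕ Fin m) F) *
      ((c⁻¹ : ↥(Matrix.symplecticGroup (Fin m) F)) : Matrix (Fin m ⊕ Fin m) (Fin m ⊕ Fin m) F)
      = 1 := by
  rw [← Submonoid.coe_mul, mul_inv_cancel, Submonoid.coe_one]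

theorem coe_inv_mul (c : ↥(Matrix.symplecticGroup (Fin m) F)) :
    ((c⁻¹ : ↥(Matrix.symplecticGroup (Fin m) F)) : Matrix (Fin m ⊕ Fin m) (Fin m ⊕ Fin m) F) *
      (c : Matrix (Fin m ⊕ Fin m) (Fin m ⊕ Fin m) F) = 1 := by
  rw [← Submonoid.coe_mul, inv_mul_cancel, Submonoid.coe_one]

theorem rank_of_isConj (a b : ↥(Matrix.symplecticGroup (Fin m) F)) (h : IsConj a b) :
    ((a : Matrix (Fin m ⊕ Fin m) (Fin m ⊕ Fin m) F) - 1).rank =
      ((b : Matrix (Fin m ⊕ Fin m) (Fin m ⊕ Fin m) F) - 1).rank := by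
  obtain ⟨c, hc⟩ := isConj_iff.1 h
  have hcc := coe_mul_inv c
  have e : (b : Matrix (Fin m ⊕ Fin m) (Fin m ⊕ Fin m) F) - 1 =
      (c : Matrix (Fin m ⊕ Fin m) (Fin m ⊕ Fin m) F) *
        ((a : Matrix (Fin m ⊕ Fin m) (Fin m ⊕ Fin m) F) - 1) *
        ((c⁻¹ : ↥(Matrix.symplecticGroup (Fin m) F)) :
          Matrix (Fin m ⊕ Fin m) (Fin m ⊕ Fin m) F) := by
    rw [← hc, Submonoid.coe_mul, Submonoid.coe_mul, mul_sub, sub_mul, mul_one, hcc]
  have hu1 : IsUnit (c : Matrix (Fin m ⊕ Fin m) (Fin m ⊕ Fin m) F).det :=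
    SymplecticGroup.symplectic_det c.2
  have hu2 : IsUnit ((c⁻¹ : ↥(Matrix.symplecticGroup (Fin m) F)) :
      Matrix (Fin m ⊕ Fin m) (Fin m ⊕ Fin m) F).det :=
    SymplecticGroup.symplectic_det (c⁻¹).2
  rw [e, Matrix.rank_mul_eq_left_of_isUnit_det _ _ hu2,
    Matrix.rank_mul_eq_right_of_isUnit_det _ _ hu1]

theorem card_of_isConj [Finite F] (a b : ↥(Matrix.symplecticGroup (Fin m) F)) (h : IsConj a b) :
    Nat.card {v : Fin m ⊕ Fin m → F // Cfsg.sympForm m F v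
        (Matrix.mulVec (a : Matrix (Fin m ⊕ Fin m) (Fin m ⊕ Fin m) F) v) = 0} =
      Nat.card {v : Fin m ⊕ Fin m → F // Cfsg.sympForm m F v
        (Matrix.mulVec (b : Matrix (Fin m ⊕ Fin m) (Fin m ⊕ Fin m) F) v) = 0} := by
  obtain ⟨c, hc⟩ := isConj_iff.1 h
  have hca : (c : Matrix (Fin m ⊕ Fin m) (Fin m ⊕ Fin m) F) *
      (a : Matrix (Fin m ⊕ Fin m) (Fin m ⊕ Fin m) F) =
      (b : Matrix (Fin m ⊕ Fin m) (Fin m ⊕ Fin m) F) *
      (c : Matrix (Fin m ⊕ Fin m) (Fin m ⊕ Fin m) F) := by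
    rw [← Submonoid.coe_mul, ← Submonoid.coe_mul, ← hc]
    group
  apply Nat.card_congr
  refine
    { toFun := fun v => ⟨(c : Matrix (Fin m ⊕ Fin m) (Fin m ⊕ Fin m) F) *ᵥ v.1, ?_⟩
      invFun := fun w => ⟨((c⁻¹ : ↥(Matrix.symplecticGroup (Fin m) F)) :
        Matrix (Fin m ⊕ Fin m) (Fin m ⊕ Fin m) F) *ᵥ w.1, ?_⟩
      left_inv := fun v => Subtype.ext ?_
      right_inv := fun w => Subtype.ext ?_ }
  · rw [Matrix.mulVec_mulVec, ← hca, ← Matrix.mulVec_mulVec, sympForm_of_mem m c.2]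
    exact v.2
  · have h1 : (b : Matrix (Fin m ⊕ Fin m) (Fin m ⊕ Fin m) F) *ᵥ w.1 =
        (c : Matrix (Fin m ⊕ Fin m) (Fin m ⊕ Fin m) F) *ᵥ
          ((a : Matrix (Fin m ⊕ Fin m) (Fin m ⊕ Fin m) F) *ᵥ
          (((c⁻¹ : ↥(Matrix.symplecticGroup (Fin m) F)) :
            Matrix (Fin m ⊕ Fin m) (Fin m ⊕ Fin m) F) *ᵥ w.1)) := by
      rw [Matrix.mulVec_mulVec, Matrix.mulVec_mulVec, hca, mul_assoc,
        coe_mul_inv, mul_one]
    have h2 := w.2
    rw [h1] at h2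
    have h3 : w.1 = (c : Matrix (Fin m ⊕ Fin m) (Fin m ⊕ Fin m) F) *ᵥ
        (((c⁻¹ : ↥(Matrix.symplecticGroup (Fin m) F)) :
            Matrix (Fin m ⊕ Fin m) (Fin m ⊕ Fin m) F) *ᵥ w.1) := by
      rw [Matrix.mulVec_mulVec, coe_mul_inv, Matrix.one_mulVec]
    rw [h3, sympForm_of_mem m c.2] at h2
    rw [← h3] at h2
    exact h2
  · show ((c⁻¹ : ↥(Matrix.symplecticGroup (Fin m) F)) :
        Matrix (Fin m ⊕ Fin m) (Fin m ⊕ Fin m) F) *ᵥ
        ((c : Matrix (Fin m ⊕ Fin m) (Fin m ⊕ Fin m) F) *ᵥ v.1) = v.1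
    rw [Matrix.mulVec_mulVec, coe_inv_mul, Matrix.one_mulVec]
  · show (c : Matrix (Fin m ⊕ Fin m) (Fin m ⊕ Fin m) F) *ᵥ
        (((c⁻¹ : ↥(Matrix.symplecticGroup (Fin m) F)) :
        Matrix (Fin m ⊕ Fin m) (Fin m ⊕ Fin m) F) *ᵥ w.1) = w.1
    rw [Matrix.mulVec_mulVec, coe_mul_inv, Matrix.one_mulVec]

/-- involution data of a symplectic matrix of order two -/
theorem inv_data (a : ↥(Matrix.symplecticGroup (Fin m) F)) (ha : orderOf a = 2) :
    (∀ x, ((a : Matrix (Fin m ⊕ Fin m) (Fin m ⊕ Fin m) F) - 1).mulVecLin x =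
      (a : Matrix (Fin m ⊕ Fin m) (Fin m ⊕ Fin m) F).mulVecLin x - x) ∧
    (∀ x y, sympBilin m ((a : Matrix (Fin m ⊕ Fin m) (Fin m ⊕ Fin m) F).mulVecLin x)
      ((a : Matrix (Fin m ⊕ Fin m) (Fin m ⊕ Fin m) F).mulVecLin y) = sympBilin m x y) ∧
    (∀ x, (a : Matrix (Fin m ⊕ Fin m) (Fin m ⊕ Fin m) F).mulVecLin
      ((a : Matrix (Fin m ⊕ Fin m) (Fin m ⊕ Fin m) F).mulVecLin x) = x) := by
  refine ⟨fun x => ?_, fun x y => ?_, fun x => ?_⟩
  · simp only [Matrix.mulVecLin_apply, Matrix.sub_mulVec, Matrix.one_mulVec]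
  · simp only [Matrix.mulVecLin_apply, sympBilin_apply]
    exact sympForm_of_mem m a.2 x y
  · simp only [Matrix.mulVecLin_apply]
    have h1 : a * a = 1 := by
      have := pow_orderOf_eq_one a
      rw [ha, pow_two] at this
      exact this
    have h2 : (a : Matrix (Fin m ⊕ Fin m) (Fin m ⊕ Fin m) F) *
        (a : Matrix (Fin m ⊕ Fin m) (Fin m ⊕ Fin m) F) = 1 := by
      rw [← Submonoid.coe_mul, h1, Submonoid.coe_one]
    rw [Matrix.mulVec_mulVec, h2, Matrix.one_mulVec]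

theorem even_rank_of_alt (h2 : (2 : F) = 0) (a : ↥(Matrix.symplecticGroup (Fin m) F))
    (ha : orderOf a = 2)
    (halt : ∀ v, sympForm m F v ((a : Matrix (Fin m ⊕ Fin m) (Fin m ⊕ Fin m) F) *ᵥ v) = 0) :
    Even ((a : Matrix (Fin m ⊕ Fin m) (Fin m ⊕ Fin m) F) - 1).rank := by
  obtain ⟨hN, hiso, hsq⟩ := inv_data a ha
  obtain ⟨k, hk, -⟩ := exists_NF_alt (sympBilin_nondegenerate m) (sympBilin_isAlt m) h2
    _ _ hN hiso hsq (fun v => by
      rw [sympBilin_apply]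
      exact halt v)
  exact ⟨k, hk⟩

theorem result {F : Type*} [Field F] [Fintype F] [CharP F 2] {m : ℕ} (hm : 2 ≤ m) (a b : ↥(Matrix.symplecticGroup (Fin m) F)) (ha : orderOf a = 2) (hb : orderOf b = 2) :
    IsConj a b ↔ ((((a : ↥(Matrix.symplecticGroup (Fin m) F)) : Matrix (Fin m ⊕ Fin m) (Fin m ⊕ Fin m) F) - 1).rank = (((b : ↥(Matrix.symplecticGroup (Fin m) F)) : Matrix (Fin m ⊕ Fin m) (Fin m ⊕ Fin m) F) - 1).rank ∧
      (Even (((a : ↥(Matrix.symplecticGroup (Fin m) F)) : Matrix (Fin m ⊕ Fin m) (Fin m ⊕ Fin m) F) - 1).rank → Nat.card {v : Fin m ⊕ Fin m → F // Cfsg.sympForm m F v (Matrix.mulVec ((a : ↥(Matrix.symplecticGroup (Fin m) F)) : Matrix (Fin m ⊕ Fin m) (Fin m ⊕ Fin m) F) v) = 0} = Nat.card {v : Fin m ⊕ Fin m → F // Cfsg.sympForm m F v (Matrix.mulVec ((b : ↥(Matrix.symplecticGroup (Fin m) F)) : Matrix (Fin m ⊕ Fin m) (Fin m ⊕ Fin m) F) v) = 0})) := by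
  have h2 : (2 : F) = 0 := CharTwo.two_eq_zero
  constructor
  · intro h
    exact ⟨rank_of_isConj a b h, fun _ => card_of_isConj a b h⟩
  · rintro ⟨hrank, hcard⟩
    obtain ⟨hN, hiso, hsq⟩ := inv_data a ha
    obtain ⟨hN', hiso', hsq'⟩ := inv_data b hb
    have htype : (∀ v, sympBilin m v ((a : Matrix (Fin m ⊕ Fin m) (Fin m ⊕ Fin m) F).mulVecLin v)
        = 0) ↔ (∀ v, sympBilin m v
          ((b : Matrix (Fin m ⊕ Fin m) (Fin m ⊕ Fin m) F).mulVecLin v) = 0) := by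
      simp only [Matrix.mulVecLin_apply, sympBilin_apply]
      by_cases hev : Even ((a : Matrix (Fin m ⊕ Fin m) (Fin m ⊕ Fin m) F) - 1).rank
      · have hc := hcard hev
        classical
        rw [Nat.card_eq_fintype_card, Nat.card_eq_fintype_card] at hc
        constructor
        · intro hA
          by_contra hB
          push Not at hB
          obtain ⟨v, hv⟩ := hB
          have h1 := Fintype.card_subtype_lt (p := fun v : Fin m ⊕ Fin m → F =>
            sympForm m F v ((b : Matrix (Fin m ⊕ Fin m) (Fin m ⊕ Fin m) F) *ᵥ v) = 0) hv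
          have h3 : Fintype.card {v : Fin m ⊕ Fin m → F // sympForm m F v
              ((a : Matrix (Fin m ⊕ Fin m) (Fin m ⊕ Fin m) F) *ᵥ v) = 0} =
              Fintype.card (Fin m ⊕ Fin m → F) :=
            Fintype.card_congr (Equiv.subtypeUnivEquiv hA)
          omega
        · intro hB
          by_contra hA
          push Not at hA
          obtain ⟨v, hv⟩ := hA
          have h1 := Fintype.card_subtype_lt (p := fun v : Fin m ⊕ Fin m → F =>
            sympForm m F v ((a : Matrix (Fin m ⊕ Fin m) (Fin m ⊕ Fin m) F) *ᵥ v) = 0) hv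
          have h3 : Fintype.card {v : Fin m ⊕ Fin m → F // sympForm m F v
              ((b : Matrix (Fin m ⊕ Fin m) (Fin m ⊕ Fin m) F) *ᵥ v) = 0} =
              Fintype.card (Fin m ⊕ Fin m → F) :=
            Fintype.card_congr (Equiv.subtypeUnivEquiv hB)
          omega
      · constructor
        · intro hA
          exact absurd (even_rank_of_alt h2 a ha hA) hev
        · intro hB
          have := even_rank_of_alt h2 b hb hB
          rw [← hrank] at this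
          exact absurd this hev
    obtain ⟨g, hg1, hg2⟩ := conj_abstract (sympBilin_nondegenerate m) (sympBilin_isAlt m) h2
      (sq_surj h2) _ _ hN hiso hsq _ _ hN' hiso' hsq' hrank htype
    obtain ⟨M, hMdef⟩ : ∃ M : Matrix (Fin m ⊕ Fin m) (Fin m ⊕ Fin m) F,
      M = LinearMap.toMatrix' g.toLinearMap := ⟨_, rfl⟩
    have hM : ∀ x, M *ᵥ x = g x := by
      intro x
      rw [hMdef, ← Matrix.toLin'_apply, Matrix.toLin'_toMatrix']
      rfl
    have hMmem : M ∈ Matrix.symplecticGroup (Fin m) F := by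
      apply mem_of_sympForm m
      intro u v
      rw [hM, hM, ← sympBilin_apply, hg1, sympBilin_apply]
    rw [isConj_iff]
    refine ⟨⟨M, hMmem⟩, ?_⟩
    rw [mul_inv_eq_iff_eq_mul]
    apply Subtype.ext
    rw [Submonoid.coe_mul, Submonoid.coe_mul]
    show M * (a : Matrix (Fin m ⊕ Fin m) (Fin m ⊕ Fin m) F) =
      (b : Matrix (Fin m ⊕ Fin m) (Fin m ⊕ Fin m) F) * M
    rw [Matrix.ext_iff_mulVec]
    intro z
    rw [← Matrix.mulVec_mulVec, ← Matrix.mulVec_mulVec, hM, hM]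
    exact hg2 z

end Final

end Cfsg.Agent.S2166
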