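import Mathlib
import Cfsg.Statements.S2593
import Cfsg.Agent.S2166

set_option autoImplicit false
open Cfsg

namespace Cfsg.Agent.S2593


section Part0

open Matrix Cfsg.Agent.Lib.Helper5.Symp Cfsg.Agent.S0245 Cfsg.Agent.Lib.Helper8.SpInv
  Cfsg.Agent.S2166

section General

variable {F : Type*} [Field F] {m : ℕ}

/-- the involution type: `v ↦ f(v, a v)` vanishes identically -/
def IsAltT (a : ↥(Matrix.symplecticGroup (Fin m) F)) : Prop :=
  ∀ v : Fin m ⊕ Fin m → F,
    sympForm m F v ((a : Matrix (Fin m ⊕ Fin m) (Fin m ⊕ Fin m) F) *ᵥ v) = 0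

theorem type_of_isConj_aux (a b : ↥(Matrix.symplecticGroup (Fin m) F)) (h : IsConj a b)
    (hA : IsAltT a) : IsAltT b := by
  obtain ⟨c, hc⟩ := isConj_iff.1 h
  have hca : (c : Matrix (Fin m ⊕ Fin m) (Fin m ⊕ Fin m) F) *
      (a : Matrix (Fin m ⊕ Fin m) (Fin m ⊕ Fin m) F) =
      (b : Matrix (Fin m ⊕ Fin m) (Fin m ⊕ Fin m) F) *
      (c : Matrix (Fin m ⊕ Fin m) (Fin m ⊕ Fin m) F) := by
    rw [← Submonoid.coe_mul, ← Submonoid.coe_mul, ← hc]
    group
  intro w
  obtain ⟨v, hv⟩ : ∃ v, v = ((c⁻¹ : ↥(Matrix.symplecticGroup (Fin m) F)) :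
          Matrix (Fin m ⊕ Fin m) (Fin m ⊕ Fin m) F) *ᵥ w := ⟨_, rfl⟩
  have h3 : w = (c : Matrix (Fin m ⊕ Fin m) (Fin m ⊕ Fin m) F) *ᵥ v := by
    rw [hv, Matrix.mulVec_mulVec, coe_mul_inv, Matrix.one_mulVec]
  rw [h3, Matrix.mulVec_mulVec, ← hca, ← Matrix.mulVec_mulVec, sympForm_of_mem m c.2]
  exact hA _

theorem type_of_isConj (a b : ↥(Matrix.symplecticGroup (Fin m) F)) (h : IsConj a b) :
    IsAltT a ↔ IsAltT b :=
  ⟨type_of_isConj_aux a b h, type_of_isConj_aux b a h.symm⟩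

theorem conj_of_type [Finite F] (h2 : (2 : F) = 0) (a b : ↥(Matrix.symplecticGroup (Fin m) F))
    (ha : orderOf a = 2) (hb : orderOf b = 2)
    (hrank : ((a : Matrix (Fin m ⊕ Fin m) (Fin m ⊕ Fin m) F) - 1).rank =
      ((b : Matrix (Fin m ⊕ Fin m) (Fin m ⊕ Fin m) F) - 1).rank)
    (htype : IsAltT a ↔ IsAltT b) : IsConj a b := by
  obtain ⟨hN, hiso, hsq⟩ := inv_data a ha
  obtain ⟨hN', hiso', hsq'⟩ := inv_data b hb
  have htype' : (∀ v, sympBilin m v ((a : Matrix (Fin m ⊕ Fin m) (Fin m ⊕ Fin m) F).mulVecLin v)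
      = 0) ↔ (∀ v, sympBilin m v
        ((b : Matrix (Fin m ⊕ Fin m) (Fin m ⊕ Fin m) F).mulVecLin v) = 0) := by
    simp only [Matrix.mulVecLin_apply, sympBilin_apply]
    exact htype
  obtain ⟨g, hg1, hg2⟩ := conj_abstract (sympBilin_nondegenerate m) (sympBilin_isAlt m) h2
    (sq_surj h2) _ _ hN hiso hsq _ _ hN' hiso' hsq' hrank htype'
  obtain ⟨M, hMdef⟩ : ∃ M : Matrix (Fin m ⊕ Fin m) (Fin m ⊕ Fin m) F,
    M = LinearMap.toMatrix' g.toLinearMap := ⟨_, rfl⟩
  have hM : ∀ x, M *ᵥ x = g x := by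
    intro x
    rw [hMdef, ← Matrix.toLin'_apply, Matrix.toLin'_toMatrix']
    rfl
  have hMmem : M ∈ Matrix.symplecticGroup (Fin m) F := by
    apply mem_of_sympForm m
    intro u v
    rw [hM, hM, ← sympBilin_apply, hg1, sympBilin_apply]
  rw [isConj_iff]
  refine ⟨⟨M, hMmem⟩, ?_⟩
  rw [mul_inv_eq_iff_eq_mul]
  apply Subtype.ext
  rw [Submonoid.coe_mul, Submonoid.coe_mul]
  show M * (a : Matrix (Fin m ⊕ Fin m) (Fin m ⊕ Fin m) F) =
    (b : Matrix (Fin m ⊕ Fin m) (Fin m ⊕ Fin m) F) * M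
  rw [Matrix.ext_iff_mulVec]
  intro z
  rw [← Matrix.mulVec_mulVec, ← Matrix.mulVec_mulVec, hM, hM]
  exact hg2 z

theorem rank_pos_of_ne_one (a : ↥(Matrix.symplecticGroup (Fin m) F)) (ha : a ≠ 1) :
    1 ≤ ((a : Matrix (Fin m ⊕ Fin m) (Fin m ⊕ Fin m) F) - 1).rank := by
  by_contra h
  have h0 : ((a : Matrix (Fin m ⊕ Fin m) (Fin m ⊕ Fin m) F) - 1).rank = 0 := by omega
  apply ha
  apply Subtype.ext
  rw [Submonoid.coe_one]
  have hr : LinearMap.range ((a : Matrix (Fin m ⊕ Fin m) (Fin m ⊕ Fin m) F) - 1).mulVecLin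
      = ⊥ := Submodule.finrank_eq_zero.1 h0
  have : (a : Matrix (Fin m ⊕ Fin m) (Fin m ⊕ Fin m) F) - 1 = 0 := by
    rw [Matrix.ext_iff_mulVec]
    intro v
    have hv : ((a : Matrix (Fin m ⊕ Fin m) (Fin m ⊕ Fin m) F) - 1).mulVecLin v ∈
        LinearMap.range ((a : Matrix (Fin m ⊕ Fin m) (Fin m ⊕ Fin m) F) - 1).mulVecLin :=
      ⟨v, rfl⟩
    rw [hr, Submodule.mem_bot] at hv
    rw [Matrix.zero_mulVec]
    exact hv
  exact sub_eq_zero.1 this

theorem rank_le_of_invol (h2 : (2 : F) = 0) (a : ↥(Matrix.symplecticGroup (Fin m) F))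
    (ha : orderOf a = 2) :
    ((a : Matrix (Fin m ⊕ Fin m) (Fin m ⊕ Fin m) F) - 1).rank ≤ m := by
  obtain ⟨hN, hiso, hsq⟩ := inv_data a ha
  have hNN := N_sq h2 _ _ hN hsq
  have hle : LinearMap.range ((a : Matrix (Fin m ⊕ Fin m) (Fin m ⊕ Fin m) F) - 1).mulVecLin ≤
      LinearMap.ker ((a : Matrix (Fin m ⊕ Fin m) (Fin m ⊕ Fin m) F) - 1).mulVecLin := by
    rintro _ ⟨x, rfl⟩
    exact hNN x
  have h1 := Submodule.finrank_mono hle
  have h3 := LinearMap.finrank_range_add_finrank_ker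
    ((a : Matrix (Fin m ⊕ Fin m) (Fin m ⊕ Fin m) F) - 1).mulVecLin
  rw [Module.finrank_fintype_fun_eq_card, Fintype.card_sum, Fintype.card_fin] at h3
  have h4 : ((a : Matrix (Fin m ⊕ Fin m) (Fin m ⊕ Fin m) F) - 1).rank =
    Module.finrank F (LinearMap.range
      ((a : Matrix (Fin m ⊕ Fin m) (Fin m ⊕ Fin m) F) - 1).mulVecLin) := rfl
  omega

end General

end Part0

section Part1

open Matrix Cfsg.Agent.Lib.Helper5.Symp Cfsg.Agent.S0245 Cfsg.Agent.Lib.Helper8.SpInv
  Cfsg.Agent.S2166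

section Reps

variable {F : Type*} [Field F] {m : ℕ}

/-- `S i j = 1` iff `i = τ j` and `j < s` -/
def Smat (F : Type*) [Field F] {m : ℕ} (τ : Fin m → Fin m) (s : ℕ) : Matrix (Fin m) (Fin m) F :=
  fun i j => if i = τ j ∧ (j : ℕ) < s then 1 else 0

/-- the representative `[[1, S], [0, 1]]` -/
def Amat (F : Type*) [Field F] {m : ℕ} (τ : Fin m → Fin m) (s : ℕ) :
    Matrix (Fin m ⊕ Fin m) (Fin m ⊕ Fin m) F :=
  Matrix.fromBlocks 1 (Smat F τ s) 0 1

structure Good {m : ℕ} (τ : Fin m → Fin m) (s : ℕ) : Prop where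
  inv : ∀ j, τ (τ j) = j
  pres : ∀ j : Fin m, (j : ℕ) < s → ((τ j : Fin m) : ℕ) < s

variable {τ : Fin m → Fin m} {s : ℕ}

theorem Smat_symm (h : Good τ s) : (Smat F τ s)ᵀ = Smat F τ s := by
  ext i j
  simp only [Matrix.transpose_apply, Smat]
  by_cases h1 : j = τ i ∧ (i : ℕ) < s
  · rw [if_pos h1, if_pos]
    refine ⟨?_, ?_⟩
    · rw [h1.1, h.inv]
    · rw [h1.1]; exact h.pres i h1.2
  · rw [if_neg h1, if_neg]
    rintro ⟨h2, h3⟩
    apply h1
    refine ⟨?_, ?_⟩
    · rw [h2, h.inv]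
    · rw [h2]; exact h.pres j h3

theorem Amat_mem (h : Good τ s) : Amat F τ s ∈ Matrix.symplecticGroup (Fin m) F := by
  rw [SymplecticGroup.mem_iff]
  unfold Amat Matrix.J
  rw [Matrix.fromBlocks_transpose, Matrix.fromBlocks_multiply, Matrix.fromBlocks_multiply,
    Smat_symm h]
  simp

theorem Amat_sq (h2 : (2 : F) = 0) : Amat F τ s * Amat F τ s = 1 := by
  unfold Amat
  rw [Matrix.fromBlocks_multiply]
  have : Smat F τ s + Smat F τ s = 0 := by
    rw [← two_smul F (Smat F τ s), h2, zero_smul]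
  simp [this, Matrix.fromBlocks_one]

theorem Amat_sub_one : Amat F τ s - 1 = Matrix.fromBlocks 0 (Smat F τ s) 0 0 := by
  unfold Amat
  ext x y
  rcases x with i | i <;> rcases y with j | j <;> simp [Matrix.one_apply]

theorem Amat_ne_one (j : Fin m) (hj : (j : ℕ) < s) : Amat F τ s ≠ 1 := by
  intro h
  have h1 := congrFun (congrFun h (Sum.inl (τ j))) (Sum.inr j)
  simp [Amat, Smat, hj] at h1

/-- rank of the representative -/
theorem rank_Amat (h : Good τ s) (hs : s ≤ m) : (Amat F τ s - 1).rank = s := by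
  classical
  rw [Amat_sub_one]
  have hinv : Function.Involutive τ := h.inv
  obtain ⟨τe, hτe⟩ : ∃ τe : Equiv.Perm (Fin m), ∀ i, τe i = τ i :=
    ⟨hinv.toPerm τ, fun i => rfl⟩
  obtain ⟨σ, hσ1, hσ2⟩ : ∃ σ : Fin m ⊕ Fin m ≃ Fin m ⊕ Fin m,
      (∀ i, σ (Sum.inl i) = Sum.inr (τ i)) ∧ (∀ i, σ (Sum.inr i) = Sum.inl (τ i)) :=
    ⟨(Equiv.sumComm _ _).trans (Equiv.sumCongr τe τe), fun i => by simp [hτe],
      fun i => by simp [hτe]⟩
  obtain ⟨w, hw⟩ : ∃ w : Fin m → F, w = (fun j : Fin m => if (j : ℕ) < s then (1 : F) else 0) :=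
    ⟨_, rfl⟩
  have e : Matrix.fromBlocks 0 (Smat F τ s) 0 0 =
      (Matrix.diagonal (Sum.elim (0 : Fin m → F) w)).submatrix σ (Equiv.refl _) := by
    ext x y
    rcases x with i | i <;> rcases y with j | j
    · simp [hσ1]
    · simp only [Matrix.fromBlocks_apply₁₂, Matrix.submatrix_apply, Equiv.refl_apply, hσ1,
        Matrix.diagonal_apply, Sum.inr.injEq, Sum.elim_inr, Smat, hw]
      by_cases h1 : τ i = j
      · subst h1
        rw [if_pos rfl]
        by_cases h3 : ((τ i : Fin m) : ℕ) < s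
        · rw [if_pos h3, if_pos ⟨(h.inv i).symm, h3⟩]
        · rw [if_neg h3, if_neg (fun h4 => h3 h4.2)]
      · rw [if_neg h1, if_neg]
        rintro ⟨h4, -⟩
        apply h1
        rw [h4, h.inv]
    · simp [hσ2, Matrix.diagonal_apply]
    · simp [hσ2, Matrix.diagonal_apply]
  rw [e, Matrix.rank_submatrix, Matrix.rank_diagonal]
  rw [Fintype.card_subtype, Finset.card_filter, Fintype.sum_sum_type]
  simp only [Sum.elim_inl, Sum.elim_inr, Pi.zero_apply, ne_eq, not_true_eq_false, if_false,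
    Finset.sum_const_zero, zero_add, hw]
  have : ∀ j : Fin m, (¬ (if (j : ℕ) < s then (1 : F) else 0) = 0) ↔ (j : ℕ) < s := by
    intro j
    by_cases hj : (j : ℕ) < s <;> simp [hj]
  simp only [this]
  rw [← Finset.card_filter, Fin.card_filter_val_lt]
  omega

theorem Amat_mulVec_inl (v : Fin m ⊕ Fin m → F) (i : Fin m) :
    (Amat F τ s *ᵥ v) (Sum.inl i) = v (Sum.inl i) + ∑ j, Smat F τ s i j * v (Sum.inr j) := by
  unfold Amat
  rw [Matrix.fromBlocks_mulVec]
  simp [Matrix.mulVec, dotProduct]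

theorem Amat_mulVec_inr (v : Fin m ⊕ Fin m → F) (i : Fin m) :
    (Amat F τ s *ᵥ v) (Sum.inr i) = v (Sum.inr i) := by
  unfold Amat
  rw [Matrix.fromBlocks_mulVec]
  simp [Matrix.mulVec, dotProduct]

theorem form_Amat (v : Fin m ⊕ Fin m → F) :
    sympForm m F v (Amat F τ s *ᵥ v) =
      ∑ j : Fin m, if (j : ℕ) < s then v (Sum.inr (τ j)) * v (Sum.inr j) else 0 := by
  rw [sympForm_eq_sum]
  simp only [Amat_mulVec_inl, Amat_mulVec_inr]
  have h1 : ∀ i : Fin m, v (Sum.inr i) * (v (Sum.inl i) + ∑ j, Smat F τ s i j * v (Sum.inr j)) -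
      v (Sum.inl i) * v (Sum.inr i) = ∑ j, v (Sum.inr i) * Smat F τ s i j * v (Sum.inr j) := by
    intro i
    rw [mul_add, Finset.mul_sum]
    simp only [mul_assoc]
    ring
  simp only [h1]
  rw [Finset.sum_comm]
  apply Finset.sum_congr rfl
  intro j _
  simp only [Smat]
  by_cases hj : (j : ℕ) < s
  · simp only [hj, and_true, mul_ite, mul_one, mul_zero, ite_mul, zero_mul, if_true]
    rw [Finset.sum_ite_eq' Finset.univ (τ j) (fun i => v (Sum.inr i) * v (Sum.inr j))]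
    simp
  · simp [hj]

/-- the element of the symplectic group -/
def rep (F : Type*) [Field F] {m : ℕ} (τ : Fin m → Fin m) (s : ℕ) (h : Good τ s) :
    ↥(Matrix.symplecticGroup (Fin m) F) := ⟨Amat F τ s, Amat_mem h⟩

theorem orderOf_rep (h2 : (2 : F) = 0) (h : Good τ s) (j : Fin m) (hj : (j : ℕ) < s) :
    orderOf (rep F τ s h) = 2 := by
  apply orderOf_eq_prime
  · rw [pow_two]
    apply Subtype.ext
    rw [Submonoid.coe_mul, Submonoid.coe_one]
    exact Amat_sq h2
  · intro h1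
    apply Amat_ne_one (F := F) (τ := τ) j hj
    have := congrArg Subtype.val h1
    exact this

end Reps

end Part1

section Part2

open Matrix Cfsg.Agent.Lib.Helper5.Symp Cfsg.Agent.S0245 Cfsg.Agent.Lib.Helper8.SpInv
  Cfsg.Agent.S2166

section Count

variable {F : Type*} [Field F] {m : ℕ}

/-- reversal of the first `s` indices -/
def rv (m s : ℕ) (j : Fin m) : Fin m :=
  if h : (j : ℕ) < s ∧ s ≤ m then ⟨s - 1 - j, by omega⟩ else j

theorem rv_val_lt {s : ℕ} (hs : s ≤ m) (j : Fin m) (hj : (j : ℕ) < s) :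
    ((rv m s j : Fin m) : ℕ) = s - 1 - j := by
  unfold rv
  rw [dif_pos ⟨hj, hs⟩]

theorem rv_val_ge {s : ℕ} (j : Fin m) (hj : ¬ (j : ℕ) < s) : rv m s j = j := by
  unfold rv
  rw [dif_neg (fun h => hj h.1)]

theorem rv_good {s : ℕ} (hs : s ≤ m) : Good (rv m s) s := by
  constructor
  · intro j
    by_cases hj : (j : ℕ) < s
    · have h1 := rv_val_lt hs j hj
      have h2 : ((rv m s j : Fin m) : ℕ) < s := by omega
      have h3 := rv_val_lt hs (rv m s j) h2
      apply Fin.ext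
      omega
    · rw [rv_val_ge j hj, rv_val_ge j hj]
  · intro j hj
    have h1 := rv_val_lt hs j hj
    omega

theorem rv_fpf {s : ℕ} (hs : s ≤ m) (hev : Even s) (j : Fin m) (hj : (j : ℕ) < s) :
    rv m s j ≠ j := by
  intro h
  have h1 := rv_val_lt hs j hj
  rw [h] at h1
  obtain ⟨k, hk⟩ := hev
  omega

theorem id_good {s : ℕ} : Good (id : Fin m → Fin m) s :=
  ⟨fun _ => rfl, fun _ h => h⟩

theorem rep_id_nonalt {s : ℕ} (hs1 : 1 ≤ s) (hm : 1 ≤ m) :
    ¬ IsAltT (rep F (id : Fin m → Fin m) s id_good) := by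
  classical
  intro h
  have h1 := h (Pi.single (Sum.inr ⟨0, by omega⟩) 1)
  change sympForm m F _ (Amat F id s *ᵥ _) = 0 at h1
  rw [form_Amat] at h1
  simp only [id, Pi.single_apply, Sum.inr.injEq, mul_ite, mul_one, mul_zero] at h1
  rw [Finset.sum_eq_single ⟨0, by omega⟩] at h1
  · simp at h1
    omega
  · intro b _ hb
    simp [hb]
  · intro hb
    exact absurd (Finset.mem_univ _) hb

theorem rep_rv_alt (h2 : (2 : F) = 0) {s : ℕ} (hs : s ≤ m) (hev : Even s) :
    IsAltT (rep F (rv m s) s (rv_good hs)) := by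
  intro v
  change sympForm m F _ (Amat F (rv m s) s *ᵥ _) = 0
  rw [form_Amat]
  have hg := rv_good (m := m) hs
  apply Finset.sum_involution (fun j _ => rv m s j)
  · intro j _
    by_cases hj : (j : ℕ) < s
    · rw [if_pos hj, if_pos (hg.pres j hj), hg.inv]
      linear_combination (v (Sum.inr (rv m s j)) * v (Sum.inr j)) * h2
    · rw [if_neg hj, rv_val_ge j hj, if_neg hj, add_zero]
  · intro j _ hne
    by_cases hj : (j : ℕ) < s
    · exact rv_fpf hs hev j hj
    · rw [if_neg hj] at hne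
      exact absurd rfl hne
  · intro j _
    exact Finset.mem_univ _
  · intro j _
    exact hg.inv j

/-- the representatives -/
noncomputable def R (F : Type*) [Field F] (m : ℕ) :
    Fin m ⊕ Fin (m / 2) → ↥(Matrix.symplecticGroup (Fin m) F)
  | Sum.inl i => rep F (id : Fin m → Fin m) ((i : ℕ) + 1) id_good
  | Sum.inr j => rep F (rv m (2 * ((j : ℕ) + 1))) (2 * ((j : ℕ) + 1))
      (rv_good (by have := j.2; omega))

/-- the rank of the representatives -/
def rk (m : ℕ) : Fin m ⊕ Fin (m / 2) → ℕ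
  | Sum.inl i => (i : ℕ) + 1
  | Sum.inr j => 2 * ((j : ℕ) + 1)

theorem rk_le (x : Fin m ⊕ Fin (m / 2)) : rk m x ≤ m := by
  rcases x with i | j
  · have := i.2
    simp only [rk]; omega
  · have := j.2
    simp only [rk]; omega

theorem rank_R (x : Fin m ⊕ Fin (m / 2)) :
    ((R F m x : Matrix (Fin m ⊕ Fin m) (Fin m ⊕ Fin m) F) - 1).rank = rk m x := by
  rcases x with i | j
  · exact rank_Amat id_good (rk_le (Sum.inl i))
  · exact rank_Amat (rv_good (rk_le (Sum.inr j))) (rk_le (Sum.inr j))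

theorem orderOf_R (h2 : (2 : F) = 0) (hm : 1 ≤ m) (x : Fin m ⊕ Fin (m / 2)) :
    orderOf (R F m x) = 2 := by
  rcases x with i | j
  · exact orderOf_rep h2 id_good ⟨0, by omega⟩ (by simp)
  · exact orderOf_rep h2 (rv_good (rk_le (Sum.inr j))) ⟨0, by omega⟩ (by simp [rk])

theorem type_R (h2 : (2 : F) = 0) (hm : 1 ≤ m) (x : Fin m ⊕ Fin (m / 2)) :
    IsAltT (R F m x) ↔ x.isRight = true := by
  rcases x with i | j
  · simp only [Sum.isRight_inl, Bool.false_eq_true, iff_false]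
    exact rep_id_nonalt (by omega) hm
  · simp only [Sum.isRight_inr, iff_true]
    exact rep_rv_alt h2 (rk_le (Sum.inr j)) ⟨(j : ℕ) + 1, by simp only [rk]; ring⟩

theorem result {F : Type*} [Field F] [Fintype F] [CharP F 2] {m : ℕ} (hm : 1 ≤ m) : Nat.card {C : ConjClasses ↥(Matrix.symplecticGroup (Fin m) F) // ∃ g : Matrix.symplecticGroup (Fin m) F, ConjClasses.mk g = C ∧ orderOf g = 2} = m + m / 2 := by
  have h2 : (2 : F) = 0 := CharTwo.two_eq_zero
  have hbij : Function.Bijective (fun x : Fin m ⊕ Fin (m / 2) =>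
      (⟨ConjClasses.mk (R F m x), R F m x, rfl, orderOf_R h2 hm x⟩ :
        {C : ConjClasses ↥(Matrix.symplecticGroup (Fin m) F) //
          ∃ g : Matrix.symplecticGroup (Fin m) F, ConjClasses.mk g = C ∧ orderOf g = 2})) := by
    constructor
    · intro x y hxy
      have h1 : ConjClasses.mk (R F m x) = ConjClasses.mk (R F m y) := congrArg Subtype.val hxy
      rw [ConjClasses.mk_eq_mk_iff_isConj] at h1
      have h3 := rank_of_isConj _ _ h1
      rw [rank_R, rank_R] at h3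
      have h4 := type_of_isConj _ _ h1
      rw [type_R h2 hm, type_R h2 hm] at h4
      rcases x with i | i <;> rcases y with j | j
      · simp only [rk] at h3
        congr 1
        apply Fin.ext
        omega
      · simp at h4
      · simp at h4
      · simp only [rk] at h3
        congr 1
        apply Fin.ext
        omega
    · rintro ⟨C, g, hg, ho⟩
      have hg1 : g ≠ 1 := by
        intro h
        rw [h, orderOf_one] at ho
        omega
      have hr1 := rank_pos_of_ne_one g hg1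
      have hr2 := rank_le_of_invol h2 g ho
      by_cases halt : IsAltT g
      · obtain ⟨k, hk⟩ := even_rank_of_alt h2 g ho halt
        have hx : rk m (Sum.inr ⟨k - 1, by omega⟩ : Fin m ⊕ Fin (m / 2)) =
            ((g : Matrix (Fin m ⊕ Fin m) (Fin m ⊕ Fin m) F) - 1).rank := by
          simp only [rk]
          omega
        refine ⟨Sum.inr ⟨k - 1, by omega⟩, ?_⟩
        apply Subtype.ext
        show ConjClasses.mk (R F m _) = C
        rw [← hg, ConjClasses.mk_eq_mk_iff_isConj]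
        apply conj_of_type h2 _ _ (orderOf_R h2 hm _) ho
        · rw [rank_R, hx]
        · rw [type_R h2 hm]
          simp [halt]
      · have hx : rk m (Sum.inl ⟨((g : Matrix (Fin m ⊕ Fin m) (Fin m ⊕ Fin m) F) - 1).rank - 1,
            by omega⟩ : Fin m ⊕ Fin (m / 2)) =
            ((g : Matrix (Fin m ⊕ Fin m) (Fin m ⊕ Fin m) F) - 1).rank := by
          simp only [rk]
          omega
        refine ⟨Sum.inl ⟨((g : Matrix (Fin m ⊕ Fin m) (Fin m ⊕ Fin m) F) - 1).rank - 1,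
            by omega⟩, ?_⟩
        apply Subtype.ext
        show ConjClasses.mk (R F m _) = C
        rw [← hg, ConjClasses.mk_eq_mk_iff_isConj]
        apply conj_of_type h2 _ _ (orderOf_R h2 hm _) ho
        · rw [rank_R, hx]
        · rw [type_R h2 hm]
          simp [halt]
  rw [← Nat.card_congr (Equiv.ofBijective _ hbij), Nat.card_eq_fintype_card, Fintype.card_sum,
    Fintype.card_fin, Fintype.card_fin]

end Count

end Part2

end Cfsg.Agent.S2593
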