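import Mathlib
import Cfsg.Statements.S2595
import Cfsg.Agent.Lib.Helper8.SpInvG
import Cfsg.Agent.Lib.Helper5.Orth.PlusMinusForm
import Cfsg.Agent.S2593

set_option autoImplicit false
open Cfsg

namespace Cfsg.Agent.S2595


section Part0

open Matrix Cfsg.Agent.H9.Orth Cfsg.Agent.Lib.Helper8.SpInv Cfsg.Agent.S2593
  Cfsg.Agent.Lib.Helper5.Symp Cfsg.Agent.Lib.Helper5.OrthPM

section Reps

variable {F : Type*} [Field F] {m : ℕ}

/-- in characteristic two the polar form of `Σ x_i y_i` is the symplectic form -/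
theorem polar_eq_symp (h2 : (2 : F) = 0) (v w : Fin m ⊕ Fin m → F) :
    quadFormPlus m F (v + w) - quadFormPlus m F v - quadFormPlus m F w = sympForm m F v w := by
  have h := polar_quadFormPlus (F := F) m v w
  unfold QuadraticMap.polar at h
  rw [h, sympForm_eq_sum]
  apply Finset.sum_congr rfl
  intro i _
  linear_combination (v (Sum.inl i) * w (Sum.inr i)) * h2

theorem Q_Amat (τ : Fin m → Fin m) (s : ℕ) (v : Fin m ⊕ Fin m → F) :
    quadFormPlus m F (Amat F τ s *ᵥ v) =
      quadFormPlus m F v + sympForm m F v (Amat F τ s *ᵥ v) := by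
  rw [sympForm_eq_sum]
  unfold quadFormPlus
  simp only [Amat_mulVec_inl, Amat_mulVec_inr]
  rw [← Finset.sum_add_distrib]
  apply Finset.sum_congr rfl
  intro i _
  ring

/-- an involutory matrix as an element of `GL` -/
def glOfSq (A : Matrix (Fin m ⊕ Fin m) (Fin m ⊕ Fin m) F) (h : A * A = 1) :
    GL (Fin m ⊕ Fin m) F := ⟨A, A, h, h⟩

/-- the alternating-type representative -/
def repA (F : Type*) [Field F] (m s : ℕ) (h2 : (2 : F) = 0) (hs : s ≤ m) (hev : Even s) :
    ↥(Cfsg.isometryGroup F (quadFormPlus m F)) :=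
  ⟨glOfSq (Amat F (rv m s) s) (Amat_sq h2), by
    rw [mem_isometryGroup_iff]
    intro v
    show quadFormPlus m F (Amat F (rv m s) s *ᵥ v) = _
    rw [Q_Amat]
    have := rep_rv_alt h2 hs hev v
    change sympForm m F v (Amat F (rv m s) s *ᵥ v) = 0 at this
    rw [this, add_zero]⟩

theorem repA_alt (h2 : (2 : F) = 0) {s : ℕ} (hs : s ≤ m) (hev : Even s) :
    IsAltQ (quadFormPlus m F) (repA F m s h2 hs hev) := by
  intro v
  show quadFormPlus m F (v + Amat F (rv m s) s *ᵥ v) - quadFormPlus m F v -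
    quadFormPlus m F (Amat F (rv m s) s *ᵥ v) = 0
  rw [polar_eq_symp h2]
  exact rep_rv_alt h2 hs hev v

theorem rank_repA (h2 : (2 : F) = 0) {s : ℕ} (hs : s ≤ m) (hev : Even s) :
    ((((repA F m s h2 hs hev : ↥(Cfsg.isometryGroup F (quadFormPlus m F))) :
      GL (Fin m ⊕ Fin m) F) : Matrix (Fin m ⊕ Fin m) (Fin m ⊕ Fin m) F) - 1).rank = s :=
  rank_Amat (rv_good hs) hs

theorem orderOf_repA (h2 : (2 : F) = 0) {s : ℕ} (hs : s ≤ m) (hev : Even s) (hs1 : 1 ≤ s) :
    orderOf (repA F m s h2 hs hev) = 2 := by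
  apply orderOf_eq_prime
  · rw [pow_two]
    apply Subtype.ext
    apply Units.ext
    rw [Subgroup.coe_mul, Units.val_mul, Subgroup.coe_one, Units.val_one]
    exact Amat_sq h2
  · intro h1
    apply Amat_ne_one (F := F) (τ := rv m s) (s := s) ⟨0, by omega⟩ (by show 0 < s; omega)
    have h3 : ((repA F m s h2 hs hev : ↥(Cfsg.isometryGroup F (quadFormPlus m F))) :
        GL (Fin m ⊕ Fin m) F) = 1 := by rw [h1]; rfl
    exact congrArg Units.val h3

/-- the diagonal `0/1` vector -/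
def wv (F : Type*) [Field F] (m s : ℕ) : Fin m → F := fun i => if (i : ℕ) < s then 1 else 0

/-- the matrix swapping the first `s` hyperbolic pairs, minus one -/
def Mmat (F : Type*) [Field F] (m s : ℕ) : Matrix (Fin m ⊕ Fin m) (Fin m ⊕ Fin m) F :=
  Matrix.fromBlocks (Matrix.diagonal (wv F m s)) (Matrix.diagonal (wv F m s))
    (Matrix.diagonal (wv F m s)) (Matrix.diagonal (wv F m s))

theorem Mmat_sq (h2 : (2 : F) = 0) (s : ℕ) : Mmat F m s * Mmat F m s = 0 := by
  unfold Mmat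
  rw [Matrix.fromBlocks_multiply]
  have : ∀ A : Matrix (Fin m) (Fin m) F, A + A = 0 := fun A => by
    rw [← two_smul F A, h2, zero_smul]
  rw [this]
  exact Matrix.fromBlocks_zero

theorem Pmat_sq (h2 : (2 : F) = 0) (s : ℕ) : (1 + Mmat F m s) * (1 + Mmat F m s) = 1 := by
  have : ∀ A : Matrix (Fin m ⊕ Fin m) (Fin m ⊕ Fin m) F, A + A = 0 := fun A => by
    rw [← two_smul F A, h2, zero_smul]
  rw [mul_add, add_mul, add_mul, one_mul, mul_one, one_mul, Mmat_sq h2, add_zero, add_assoc,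
    this, add_zero]

theorem Mmat_mulVec_inl (s : ℕ) (v : Fin m ⊕ Fin m → F) (i : Fin m) :
    (Mmat F m s *ᵥ v) (Sum.inl i) = wv F m s i * (v (Sum.inl i) + v (Sum.inr i)) := by
  unfold Mmat
  rw [Matrix.fromBlocks_mulVec]
  simp [Matrix.mulVec_diagonal, mul_add]

theorem Mmat_mulVec_inr (s : ℕ) (v : Fin m ⊕ Fin m → F) (i : Fin m) :
    (Mmat F m s *ᵥ v) (Sum.inr i) = wv F m s i * (v (Sum.inl i) + v (Sum.inr i)) := by
  unfold Mmat
  rw [Matrix.fromBlocks_mulVec]
  simp [Matrix.mulVec_diagonal, mul_add]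

theorem wv_sq (s : ℕ) (i : Fin m) : wv F m s i * wv F m s i = wv F m s i := by
  unfold wv
  split_ifs <;> simp

theorem Q_Pmat (h2 : (2 : F) = 0) (s : ℕ) (v : Fin m ⊕ Fin m → F) :
    quadFormPlus m F ((1 + Mmat F m s) *ᵥ v) = quadFormPlus m F v := by
  unfold quadFormPlus
  apply Finset.sum_congr rfl
  intro i _
  rw [Matrix.add_mulVec, Matrix.one_mulVec, Pi.add_apply, Pi.add_apply, Mmat_mulVec_inl,
    Mmat_mulVec_inr]
  have hw := wv_sq (F := F) s i
  linear_combination ((v (Sum.inl i) + v (Sum.inr i)) ^ 2) * hw +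
    (wv F m s i * (v (Sum.inl i) + v (Sum.inr i)) ^ 2) * h2

theorem Q_add_Pmat (h2 : (2 : F) = 0) (s : ℕ) (v : Fin m ⊕ Fin m → F) :
    quadFormPlus m F (v + (1 + Mmat F m s) *ᵥ v) =
      ∑ i, wv F m s i * (v (Sum.inl i) + v (Sum.inr i)) ^ 2 := by
  unfold quadFormPlus
  apply Finset.sum_congr rfl
  intro i _
  rw [Matrix.add_mulVec, Matrix.one_mulVec, Pi.add_apply, Pi.add_apply, Pi.add_apply,
    Pi.add_apply, Mmat_mulVec_inl, Mmat_mulVec_inr]
  have hw := wv_sq (F := F) s i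
  linear_combination ((v (Sum.inl i) + v (Sum.inr i)) ^ 2) * hw +
    (2 * v (Sum.inl i) * v (Sum.inr i) +
      wv F m s i * (v (Sum.inl i) + v (Sum.inr i)) ^ 2) * h2

/-- the non-alternating representative -/
def repP (F : Type*) [Field F] (m s : ℕ) (h2 : (2 : F) = 0) :
    ↥(Cfsg.isometryGroup F (quadFormPlus m F)) :=
  ⟨glOfSq (1 + Mmat F m s) (Pmat_sq h2 s), by
    rw [mem_isometryGroup_iff]
    intro v
    exact Q_Pmat h2 s v⟩

theorem rank_Mmat {s : ℕ} (hs : s ≤ m) : (Mmat F m s).rank = s := by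
  classical
  have hD : Matrix.fromBlocks (Matrix.diagonal (wv F m s)) 0 0 (0 : Matrix (Fin m) (Fin m) F) =
      Matrix.diagonal (Sum.elim (wv F m s) (0 : Fin m → F)) := by
    rw [← Matrix.fromBlocks_diagonal]
    congr 1
    ext i j
    simp [Matrix.diagonal_apply]
  have e : Mmat F m s = Matrix.fromBlocks 1 0 1 1 *
      Matrix.diagonal (Sum.elim (wv F m s) (0 : Fin m → F)) * Matrix.fromBlocks 1 1 0 1 := by
    rw [← hD, Matrix.fromBlocks_multiply, Matrix.fromBlocks_multiply]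
    unfold Mmat
    simp
  have hu1 : IsUnit (Matrix.fromBlocks (1 : Matrix (Fin m) (Fin m) F) 0
      (1 : Matrix (Fin m) (Fin m) F) (1 : Matrix (Fin m) (Fin m) F)).det := by
    rw [Matrix.det_fromBlocks_zero₁₂]; simp
  have hu2 : IsUnit (Matrix.fromBlocks (1 : Matrix (Fin m) (Fin m) F)
      (1 : Matrix (Fin m) (Fin m) F) 0 (1 : Matrix (Fin m) (Fin m) F)).det := by
    rw [Matrix.det_fromBlocks_zero₂₁]; simp
  rw [e, Matrix.rank_mul_eq_left_of_isUnit_det _ _ hu2,
    Matrix.rank_mul_eq_right_of_isUnit_det _ _ hu1, Matrix.rank_diagonal]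
  rw [Fintype.card_subtype, Finset.card_filter, Fintype.sum_sum_type]
  simp only [Sum.elim_inl, Sum.elim_inr, Pi.zero_apply, ne_eq, not_true_eq_false, if_false,
    Finset.sum_const_zero, add_zero, wv]
  have : ∀ j : Fin m, (¬ (if (j : ℕ) < s then (1 : F) else 0) = 0) ↔ (j : ℕ) < s := by
    intro j
    by_cases hj : (j : ℕ) < s <;> simp [hj]
  simp only [this]
  rw [← Finset.card_filter, Fin.card_filter_val_lt]
  omega

theorem rank_repP (h2 : (2 : F) = 0) {s : ℕ} (hs : s ≤ m) :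
    ((((repP F m s h2 : ↥(Cfsg.isometryGroup F (quadFormPlus m F))) :
      GL (Fin m ⊕ Fin m) F) : Matrix (Fin m ⊕ Fin m) (Fin m ⊕ Fin m) F) - 1).rank = s := by
  show ((1 + Mmat F m s) - 1).rank = s
  rw [add_sub_cancel_left]
  exact rank_Mmat hs

theorem repP_nonalt [CharP F 2] (h2 : (2 : F) = 0) {s : ℕ} (hs1 : 1 ≤ s) (hm : 1 ≤ m) :
    ¬ IsAltQ (quadFormPlus m F) (repP F m s h2) := by
  classical
  intro h
  rw [isAltQ_iff] at h
  have h1 := h (Pi.single (Sum.inl ⟨0, by omega⟩) 1)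
  change quadFormPlus m F (_ + (1 + Mmat F m s) *ᵥ _) = 0 at h1
  rw [Q_add_Pmat h2] at h1
  rw [Finset.sum_eq_single ⟨0, by omega⟩] at h1
  · have hw : wv F m s ⟨0, by omega⟩ = 1 := by
      unfold wv
      rw [if_pos]
      show 0 < s
      omega
    rw [hw] at h1
    simp at h1
  · intro b _ hb
    have : ¬ (⟨0, by omega⟩ : Fin m) = b := fun h => hb h.symm
    simp [Pi.single_apply, this]
  · intro hb
    exact absurd (Finset.mem_univ _) hb

theorem orderOf_repP (h2 : (2 : F) = 0) {s : ℕ} (hs : s ≤ m) (hs1 : 1 ≤ s) :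
    orderOf (repP F m s h2) = 2 := by
  apply orderOf_eq_prime
  · rw [pow_two]
    apply Subtype.ext
    apply Units.ext
    rw [Subgroup.coe_mul, Units.val_mul, Subgroup.coe_one, Units.val_one]
    exact Pmat_sq h2 s
  · intro h1
    have hr := rank_repP (F := F) h2 hs
    rw [h1] at hr
    simp at hr
    omega

end Reps

end Part0

section Part1

open Matrix Cfsg.Agent.H9.Orth Cfsg.Agent.Lib.Helper8.SpInv Cfsg.Agent.S2593
  Cfsg.Agent.Lib.Helper5.Symp Cfsg.Agent.Lib.Helper5.OrthPM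

section Count

variable {F : Type*} [Field F] {m : ℕ}

/-- the representatives -/
noncomputable def RO (F : Type*) [Field F] (m : ℕ) (h2 : (2 : F) = 0) :
    Fin m ⊕ Fin (m / 2) → ↥(Cfsg.isometryGroup F (quadFormPlus m F))
  | Sum.inl i => repP F m ((i : ℕ) + 1) h2
  | Sum.inr j => repA F m (2 * ((j : ℕ) + 1)) h2 (by have := j.2; omega) ⟨(j : ℕ) + 1, by ring⟩

theorem rank_RO (h2 : (2 : F) = 0) (x : Fin m ⊕ Fin (m / 2)) :
    ((((RO F m h2 x : ↥(Cfsg.isometryGroup F (quadFormPlus m F))) :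
      GL (Fin m ⊕ Fin m) F) : Matrix (Fin m ⊕ Fin m) (Fin m ⊕ Fin m) F) - 1).rank = rk m x := by
  rcases x with i | j
  · exact rank_repP h2 (rk_le (Sum.inl i))
  · exact rank_repA h2 (rk_le (Sum.inr j)) ⟨(j : ℕ) + 1, by simp only [rk]; ring⟩

theorem orderOf_RO (h2 : (2 : F) = 0) (x : Fin m ⊕ Fin (m / 2)) :
    orderOf (RO F m h2 x) = 2 := by
  rcases x with i | j
  · exact orderOf_repP h2 (rk_le (Sum.inl i)) (by omega)
  · exact orderOf_repA h2 (rk_le (Sum.inr j)) ⟨(j : ℕ) + 1, by simp only [rk]; ring⟩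
      (by simp only [rk]; omega)

theorem type_RO [CharP F 2] (h2 : (2 : F) = 0) (hm : 1 ≤ m) (x : Fin m ⊕ Fin (m / 2)) :
    IsAltQ (quadFormPlus m F) (RO F m h2 x) ↔ x.isRight = true := by
  rcases x with i | j
  · simp only [Sum.isRight_inl, Bool.false_eq_true, iff_false]
    exact repP_nonalt h2 (by omega) hm
  · simp only [Sum.isRight_inr, iff_true]
    exact repA_alt h2 (rk_le (Sum.inr j)) ⟨(j : ℕ) + 1, by simp only [rk]; ring⟩

theorem result {F : Type*} [Field F] [Fintype F] [CharP F 2] {m : ℕ} (hm : 1 ≤ m) : Nat.card {C : ConjClasses ↥(Cfsg.isometryGroup F (Cfsg.quadFormPlus m F)) // ∃ g : ↥(Cfsg.isometryGroup F (Cfsg.quadFormPlus m F)), ConjClasses.mk g = C ∧ orderOf g = 2} = m + m / 2 := by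
  have h2 : (2 : F) = 0 := CharTwo.two_eq_zero
  have hQ := quadFormPlus_nondeg (F := F) m
  have hbij : Function.Bijective (fun x : Fin m ⊕ Fin (m / 2) =>
      (⟨ConjClasses.mk (RO F m h2 x), RO F m h2 x, rfl, orderOf_RO h2 x⟩ :
        {C : ConjClasses ↥(Cfsg.isometryGroup F (Cfsg.quadFormPlus m F)) //
          ∃ g : ↥(Cfsg.isometryGroup F (Cfsg.quadFormPlus m F)),
            ConjClasses.mk g = C ∧ orderOf g = 2})) := by
    constructor
    · intro x y hxy
      have h1 : ConjClasses.mk (RO F m h2 x) = ConjClasses.mk (RO F m h2 y) :=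
        congrArg Subtype.val hxy
      rw [ConjClasses.mk_eq_mk_iff_isConj] at h1
      have h3 := rank_of_isConj_Q _ _ h1
      rw [rank_RO, rank_RO] at h3
      have h4 := type_of_isConj_Q _ _ h1
      rw [type_RO h2 hm, type_RO h2 hm] at h4
      rcases x with i | i <;> rcases y with j | j
      · simp only [rk] at h3
        congr 1
        apply Fin.ext
        omega
      · simp at h4
      · simp at h4
      · simp only [rk] at h3
        congr 1
        apply Fin.ext
        omega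
    · rintro ⟨C, g, hg, ho⟩
      have hg1 : g ≠ 1 := by
        intro h
        rw [h, orderOf_one] at ho
        omega
      have hr1 := rank_pos_Q g hg1
      have hr2 := two_rank_le_Q hQ g ho
      rw [Fintype.card_sum, Fintype.card_fin] at hr2
      by_cases halt : IsAltQ (quadFormPlus m F) g
      · obtain ⟨k, hk⟩ := even_rank_of_alt_Q hQ g ho halt
        have hx : rk m (Sum.inr ⟨k - 1, by omega⟩ : Fin m ⊕ Fin (m / 2)) =
            (((g : GL (Fin m ⊕ Fin m) F) : Matrix (Fin m ⊕ Fin m) (Fin m ⊕ Fin m) F) - 1).rank := by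
          simp only [rk]
          omega
        refine ⟨Sum.inr ⟨k - 1, by omega⟩, ?_⟩
        apply Subtype.ext
        show ConjClasses.mk (RO F m h2 _) = C
        rw [← hg, ConjClasses.mk_eq_mk_iff_isConj]
        apply conj_of_type_Q hQ _ _ (orderOf_RO h2 _) ho
        · rw [rank_RO, hx]
        · rw [type_RO h2 hm]
          simp [halt]
      · have hx : rk m (Sum.inl ⟨(((g : GL (Fin m ⊕ Fin m) F) :
            Matrix (Fin m ⊕ Fin m) (Fin m ⊕ Fin m) F) - 1).rank - 1,
            by omega⟩ : Fin m ⊕ Fin (m / 2)) =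
            (((g : GL (Fin m ⊕ Fin m) F) : Matrix (Fin m ⊕ Fin m) (Fin m ⊕ Fin m) F) - 1).rank := by
          simp only [rk]
          omega
        refine ⟨Sum.inl ⟨(((g : GL (Fin m ⊕ Fin m) F) :
            Matrix (Fin m ⊕ Fin m) (Fin m ⊕ Fin m) F) - 1).rank - 1, by omega⟩, ?_⟩
        apply Subtype.ext
        show ConjClasses.mk (RO F m h2 _) = C
        rw [← hg, ConjClasses.mk_eq_mk_iff_isConj]
        apply conj_of_type_Q hQ _ _ (orderOf_RO h2 _) ho
        · rw [rank_RO, hx]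
        · rw [type_RO h2 hm]
          simp [halt]
  rw [← Nat.card_congr (Equiv.ofBijective _ hbij), Nat.card_eq_fintype_card, Fintype.card_sum,
    Fintype.card_fin, Fintype.card_fin]

end Count

end Part1

end Cfsg.Agent.S2595
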