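import Mathlib
import Cfsg.Statements.S2597
import Cfsg.Agent.Lib.Helper8.OmegaInv
import Cfsg.Agent.S2595

set_option autoImplicit false
open Cfsg

namespace Cfsg.Agent.S2597

open Matrix Cfsg.Agent.H9.Orth Cfsg.Agent.Lib.Helper8.SpInv Cfsg.Agent.S2593 Cfsg.Agent.S2595
  Cfsg.Agent.Lib.Helper5.OrthPM Cfsg.Agent.Lib.Helper5.OrthPar Cfsg.Agent.Lib.Helper8.OmegaInv

section Count

variable {F : Type*} [Field F] {m : ℕ}

theorem repA_congr (h2 : (2 : F) = 0) {s s' : ℕ} (e : s = s') (hs : s ≤ m) (hev : Even s)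
    (hs' : s' ≤ m) (hev' : Even s') : repA F m s h2 hs hev = repA F m s' h2 hs' hev' := by
  subst e
  rfl

/-- a nonsingular vector -/
def x0 (F : Type*) [Field F] (m : ℕ) (hm : 1 ≤ m) : Fin m ⊕ Fin m → F :=
  Pi.single (Sum.inl ⟨0, hm⟩) 1 + Pi.single (Sum.inr ⟨0, hm⟩) 1

theorem Q_x0 (hm : 1 ≤ m) : quadFormPlus m F (x0 F m hm) = 1 := by
  classical
  unfold quadFormPlus x0
  rw [Finset.sum_eq_single ⟨0, hm⟩]
  · simp
  · intro j _ hj
    simp [hj]
  · intro hi
    exact absurd (Finset.mem_univ _) hi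

/-- the index type of the classes -/
abbrev X (m : ℕ) : Type := (Fin (m / 2) ⊕ Fin (m / 2)) ⊕ Fin (if Even m then 1 else 0)

/-- the rank attached to an index -/
def rkX (m : ℕ) : X m → ℕ
  | Sum.inl (Sum.inl j) => 2 * ((j : ℕ) + 1)
  | Sum.inl (Sum.inr j) => 2 * ((j : ℕ) + 1)
  | Sum.inr _ => 2 * (m / 2)

/-- the type attached to an index -/
def altX (m : ℕ) : X m → Bool
  | Sum.inl (Sum.inl _) => false
  | Sum.inl (Sum.inr _) => true
  | Sum.inr _ => true

/-- the representatives -/
noncomputable def RX (F : Type*) [Field F] (m : ℕ) (h2 : (2 : F) = 0) (hm : 1 ≤ m) :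
    X m → ↥(Cfsg.isometryGroup F (quadFormPlus m F))
  | Sum.inl (Sum.inl j) => repP F m (2 * ((j : ℕ) + 1)) h2
  | Sum.inl (Sum.inr j) => repA F m (2 * ((j : ℕ) + 1)) h2 (by have := j.2; omega)
      ⟨(j : ℕ) + 1, by ring⟩
  | Sum.inr _ => R (quadFormPlus_nondeg (F := F) m) (x0 F m hm) *
      repA F m (2 * (m / 2)) h2 (by omega) ⟨m / 2, by ring⟩ *
      (R (quadFormPlus_nondeg (F := F) m) (x0 F m hm))⁻¹

theorem rkX_le (x : X m) : rkX m x ≤ m := by
  rcases x with (j | j) | i
  · have := j.2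
    simp only [rkX]
    omega
  · have := j.2
    simp only [rkX]
    omega
  · simp only [rkX]
    omega

theorem rkX_even (x : X m) : Even (rkX m x) := by
  rcases x with (j | j) | i
  · exact ⟨(j : ℕ) + 1, by simp only [rkX]; ring⟩
  · exact ⟨(j : ℕ) + 1, by simp only [rkX]; ring⟩
  · exact ⟨m / 2, by simp only [rkX]; ring⟩

theorem rkX_pos (hm : 1 ≤ m) (x : X m) : 1 ≤ rkX m x := by
  rcases x with (j | j) | i
  · simp only [rkX]
    omega
  · simp only [rkX]
    omega
  · have hev : Even m := by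
      by_contra hne
      have i' := i
      rw [if_neg hne] at i'
      exact i'.elim0
    obtain ⟨l, hl⟩ := hev
    simp only [rkX]
    omega

theorem rank_RX (h2 : (2 : F) = 0) (hm : 1 ≤ m) (x : X m) :
    ((((RX F m h2 hm x : ↥(Cfsg.isometryGroup F (quadFormPlus m F))) :
      GL (Fin m ⊕ Fin m) F) : Matrix (Fin m ⊕ Fin m) (Fin m ⊕ Fin m) F) - 1).rank = rkX m x := by
  rcases x with (j | j) | i
  · exact rank_repP h2 (rkX_le (Sum.inl (Sum.inl j)))
  · exact rank_repA h2 (rkX_le (Sum.inl (Sum.inr j))) (rkX_even _)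
  · have h1 := rank_of_isConj_Q _ _ (isConj_iff.2 ⟨R (quadFormPlus_nondeg (F := F) m) (x0 F m hm),
      (rfl : _ = RX F m h2 hm (Sum.inr i))⟩)
    rw [← h1]
    exact rank_repA h2 (by omega) ⟨m / 2, by ring⟩

theorem orderOf_RX (h2 : (2 : F) = 0) (hm : 1 ≤ m) (x : X m) :
    orderOf (RX F m h2 hm x) = 2 := by
  rcases x with (j | j) | i
  · exact orderOf_repP h2 (rkX_le (Sum.inl (Sum.inl j))) (by omega)
  · exact orderOf_repA h2 (rkX_le (Sum.inl (Sum.inr j))) (rkX_even _)
      (rkX_pos hm (Sum.inl (Sum.inr j)))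
  · have h1 := MulEquiv.orderOf_eq (MulAut.conj (R (quadFormPlus_nondeg (F := F) m) (x0 F m hm)))
      (repA F m (2 * (m / 2)) h2 (by omega) ⟨m / 2, by ring⟩)
    rw [MulAut.conj_apply] at h1
    show orderOf (_ * _ * _⁻¹) = 2
    rw [h1]
    exact orderOf_repA h2 (by omega) ⟨m / 2, by ring⟩ (rkX_pos hm (Sum.inr i))

theorem type_RX [CharP F 2] (h2 : (2 : F) = 0) (hm : 1 ≤ m) (x : X m) :
    IsAltQ (quadFormPlus m F) (RX F m h2 hm x) ↔ altX m x = true := by
  rcases x with (j | j) | i
  · simp only [altX, Bool.false_eq_true, iff_false]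
    exact repP_nonalt h2 (by omega) hm
  · simp only [altX, iff_true]
    exact repA_alt h2 (rkX_le (Sum.inl (Sum.inr j))) (rkX_even _)
  · simp only [altX, iff_true]
    have h1 := type_of_isConj_Q _ _ (isConj_iff.2
      ⟨R (quadFormPlus_nondeg (F := F) m) (x0 F m hm), (rfl : _ = RX F m h2 hm (Sum.inr i))⟩)
    rw [← h1]
    exact repA_alt h2 (by omega) ⟨m / 2, by ring⟩

end Count

set_option maxHeartbeats 1600000 in
/-- Number of conjugacy classes of involutions in Ω⁺_2m(F) (the commutator subgroup of the orthogonal group of Σ x_i y_i) over a finite field F of characteristic two, m ≥ 1, excluding the case m = 2 over the field of two elements: the involutions of Ω are those with s = rank(t − 1) even, giving two O-classes for each even s with 2 ≤ s ≤ m, each of which is a single Ω-class except that for m even the class with s = m and v ↦ f(v, tv) identically zero splits in two; in all 2⌊m/2⌋ + 1 classes if m is even and 2⌊m/2⌋ if m is odd. -/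
theorem result {F : Type*} [Field F] [Fintype F] [CharP F 2] {m : ℕ} (hm : 1 ≤ m) (h : Fintype.card F ≠ 2 ∨ m ≠ 2) : Nat.card {C : ConjClasses ↥(Cfsg.Omega F (Cfsg.quadFormPlus m F)) // ∃ g : ↥(Cfsg.Omega F (Cfsg.quadFormPlus m F)), ConjClasses.mk g = C ∧ orderOf g = 2} = 2 * (m / 2) + (if Even m then 1 else 0) := by
  have h2 : (2 : F) = 0 := CharTwo.two_eq_zero
  have hQ := quadFormPlus_nondeg (F := F) m
  have hcard : Fintype.card (Fin m ⊕ Fin m) = 2 * m := by
    rw [Fintype.card_sum, Fintype.card_fin]; ring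
  have h' : Fintype.card F ≠ 2 ∨ Fintype.card (Fin m ⊕ Fin m) ≠ 4 := by
    rcases h with h | h
    · exact Or.inl h
    · right
      rw [hcard]
      omega
  have hgen := iso_le_RR hQ h'
  have hΩ : ∀ t : ↥(Cfsg.isometryGroup F (quadFormPlus m F)),
      t ∈ Cfsg.Omega F (quadFormPlus m F) ↔ par (t : GL (Fin m ⊕ Fin m) F) :=
    fun t => mem_omega_iff_even_all hQ h' t
  have hmem : ∀ x : X m, RX F m h2 hm x ∈ Cfsg.Omega F (quadFormPlus m F) := by
    intro x
    rw [hΩ]
    unfold par
    rw [rank_RX]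
    exact rkX_even x
  -- the split pair is not conjugate
  have hsplit : ∀ (j : Fin (m / 2)) (i : Fin (if Even m then 1 else 0)),
      rkX m (Sum.inl (Sum.inr j)) = rkX m (Sum.inr i) →
      ¬ ∃ g ∈ Cfsg.Omega F (quadFormPlus m F),
        g * RX F m h2 hm (Sum.inl (Sum.inr j)) * g⁻¹ = RX F m h2 hm (Sum.inr i) := by
    intro j i hji
    have hev : Even m := by
      by_contra hne
      have i' := i
      rw [if_neg hne] at i'
      exact i'.elim0
    obtain ⟨l, hl⟩ := hev
    simp only [rkX] at hji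
    have e1 : RX F m h2 hm (Sum.inl (Sum.inr j)) =
        repA F m (2 * (m / 2)) h2 (by omega) ⟨m / 2, by ring⟩ :=
      repA_congr h2 hji (by have := j.2; omega) ⟨(j : ℕ) + 1, by ring⟩ (by omega)
        ⟨m / 2, by ring⟩
    rw [e1]
    have hr : ((((repA F m (2 * (m / 2)) h2 (by omega) ⟨m / 2, by ring⟩ :
        ↥(Cfsg.isometryGroup F (quadFormPlus m F))) : GL (Fin m ⊕ Fin m) F) :
        Matrix (Fin m ⊕ Fin m) (Fin m ⊕ Fin m) F) - 1).rank = m := by
      rw [rank_repA h2 (by omega) ⟨m / 2, by ring⟩]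
      omega
    exact split_not_conj hQ h' m hcard _
      (by rw [hΩ]; unfold par; rw [hr]; exact ⟨l, hl⟩) hr
      ((isAltQ_iff _).1 (repA_alt h2 (by omega) ⟨m / 2, by ring⟩)) (x0 F m hm)
      (by rw [Q_x0]; exact one_ne_zero)
  have hco : ∀ x y : X m, IsConj (⟨RX F m h2 hm x, hmem x⟩ : ↥(Cfsg.Omega F (quadFormPlus m F)))
      ⟨RX F m h2 hm y, hmem y⟩ → ∃ g ∈ Cfsg.Omega F (quadFormPlus m F),
        g * RX F m h2 hm x * g⁻¹ = RX F m h2 hm y := fun x y h => (isConj_omega_iff _ _).1 h
  have hco' : ∀ (x : X m) (g : ↥(Cfsg.Omega F (quadFormPlus m F))),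
      (∃ c ∈ Cfsg.Omega F (quadFormPlus m F), c * RX F m h2 hm x * c⁻¹ =
        (g : ↥(Cfsg.isometryGroup F (quadFormPlus m F)))) →
      IsConj (⟨RX F m h2 hm x, hmem x⟩ : ↥(Cfsg.Omega F (quadFormPlus m F))) g :=
    fun x g h => (isConj_omega_iff _ _).2 h
  have key := card_classes_of_reps (H := ↥(Cfsg.Omega F (quadFormPlus m F)))
    (fun x : X m => ⟨RX F m h2 hm x, hmem x⟩) ?_ ?_ ?_
  · rw [key]
    simp only [Fintype.card_sum, Fintype.card_fin]
    ring
  · intro x
    rw [← Subgroup.orderOf_coe]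
    exact orderOf_RX h2 hm x
  · intro x y hxy
    have hxy' := hco x y hxy
    have hyx' := hco y x hxy.symm
    have hO : IsConj (RX F m h2 hm x) (RX F m h2 hm y) := by
      obtain ⟨g, -, hg⟩ := hxy'
      exact isConj_iff.2 ⟨g, hg⟩
    have h3 := rank_of_isConj_Q _ _ hO
    rw [rank_RX, rank_RX] at h3
    have h4 := type_of_isConj_Q _ _ hO
    rw [type_RX h2 hm, type_RX h2 hm] at h4
    rcases x with (j | j) | i <;> rcases y with (j' | j') | i'
    · simp only [rkX] at h3
      congr 2
      apply Fin.ext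
      omega
    · simp [altX] at h4
    · simp [altX] at h4
    · simp [altX] at h4
    · simp only [rkX] at h3
      congr 2
      apply Fin.ext
      omega
    · exfalso
      exact hsplit j i' h3 hxy'
    · simp [altX] at h4
    · exfalso
      exact hsplit j' i h3.symm hyx'
    · congr 1
      have hev : Even m := by
        by_contra hne
        have i'' := i
        rw [if_neg hne] at i''
        exact i''.elim0
      have : ∀ a b : Fin (if Even m then 1 else 0), a = b := by
        rw [if_pos hev]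
        intro a b
        exact Subsingleton.elim a b
      exact this i i'
  · intro g ho
    rw [← Subgroup.orderOf_coe] at ho
    have hg1 : (g : ↥(Cfsg.isometryGroup F (quadFormPlus m F))) ≠ 1 := by
      intro h
      rw [h, orderOf_one] at ho
      omega
    have hr1 := rank_pos_Q _ hg1
    have hr2 := two_rank_le_Q hQ _ ho
    rw [hcard] at hr2
    obtain ⟨l, hl⟩ : Even ((((g : ↥(Cfsg.isometryGroup F (quadFormPlus m F))) :
        GL (Fin m ⊕ Fin m) F) : Matrix (Fin m ⊕ Fin m) (Fin m ⊕ Fin m) F) - 1).rank :=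
      (hΩ _).1 g.2
    by_cases halt : IsAltQ (quadFormPlus m F) (g : ↥(Cfsg.isometryGroup F (quadFormPlus m F)))
    · by_cases hlt : ((((g : ↥(Cfsg.isometryGroup F (quadFormPlus m F))) :
          GL (Fin m ⊕ Fin m) F) : Matrix (Fin m ⊕ Fin m) (Fin m ⊕ Fin m) F) - 1).rank < m
      · refine ⟨Sum.inl (Sum.inr ⟨l - 1, by omega⟩), ?_⟩
        apply hco'
        apply omega_conj_of_type hQ hgen hΩ _ _ (orderOf_RX h2 hm _) ho
        · rw [rank_RX]
          simp only [rkX]
          omega
        · rw [type_RX h2 hm]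
          simp [altX, halt]
        · right
          rw [rank_RX, hcard]
          simp only [rkX]
          omega
      · -- the split class
        have hrm : ((((g : ↥(Cfsg.isometryGroup F (quadFormPlus m F))) :
          GL (Fin m ⊕ Fin m) F) : Matrix (Fin m ⊕ Fin m) (Fin m ⊕ Fin m) F) - 1).rank = m := by
          omega
        have hev : Even m := ⟨l, by omega⟩
        have hconj : IsConj (repA F m (2 * (m / 2)) h2 (by omega) ⟨m / 2, by ring⟩)
            (g : ↥(Cfsg.isometryGroup F (quadFormPlus m F))) := by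
          apply conj_of_type_Q hQ _ _ (orderOf_repA h2 (by omega) ⟨m / 2, by ring⟩ (by omega)) ho
          · rw [rank_repA h2 (by omega) ⟨m / 2, by ring⟩]
            omega
          · have := repA_alt (F := F) (m := m) h2 (s := 2 * (m / 2)) (by omega) ⟨m / 2, by ring⟩
            exact ⟨fun _ => halt, fun _ => this⟩
        rcases split_cover hQ h' _ _ hconj (x0 F m hm) (by rw [Q_x0]; exact one_ne_zero) with
          hc | hc
        · refine ⟨Sum.inl (Sum.inr ⟨l - 1, by omega⟩), ?_⟩
          apply hco'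
          have e1 : RX F m h2 hm (Sum.inl (Sum.inr ⟨l - 1, by omega⟩)) =
              repA F m (2 * (m / 2)) h2 (by omega) ⟨m / 2, by ring⟩ :=
            repA_congr h2 (by show 2 * (l - 1 + 1) = 2 * (m / 2); omega) (by omega)
              ⟨l - 1 + 1, by ring⟩ (by omega) ⟨m / 2, by ring⟩
          rw [e1]
          exact hc
        · refine ⟨Sum.inr ⟨0, by rw [if_pos hev]; exact Nat.one_pos⟩, ?_⟩
          apply hco'
          exact hc
    · refine ⟨Sum.inl (Sum.inl ⟨l - 1, by omega⟩), ?_⟩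
      apply hco'
      apply omega_conj_of_type hQ hgen hΩ _ _ (orderOf_RX h2 hm _) ho
      · rw [rank_RX]
        simp only [rkX]
        omega
      · rw [type_RX h2 hm]
        simp [altX, halt]
      · left
        rw [type_RX h2 hm]
        simp [altX]

end Cfsg.Agent.S2597
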