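import Cfsg.Statements.S1518
import Mathlib
import Cfsg.Agent.Lib.Helper4.DadeE
import Cfsg.Agent.Lib.helper3.BSQ1
import Cfsg.Agent.Lib.helper3.Irr11

set_option autoImplicit false
open Cfsg

namespace Cfsg.Agent.S1518

open Cfsg.Agent.Lib.helper3.Dade Cfsg.Agent.Lib.helper3.IndFun Cfsg.Agent.Lib.helper3.Irr
open Cfsg.Agent.Lib.Helper4.Dade
open scoped ComplexConjugate

theorem dade_conjFun {G : Type*} [Group G] (A : Set G) (L : Subgroup G) (H : G → Subgroup G)
    (α : L → ℂ) :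
    Cfsg.dadeIsometry A L H (Cfsg.conjFun α) = Cfsg.conjFun (Cfsg.dadeIsometry A L H α) := by
  funext g
  by_cases h : ∃ a : ↥L, (a : G) ∈ A ∧ ∃ x : G, ∃ u ∈ H (a : G), x * g * x⁻¹ = (a : G) * u
  · show Cfsg.dadeIsometry A L H (Cfsg.conjFun α) g =
      (starRingEnd ℂ) (Cfsg.dadeIsometry A L H α g)
    unfold Cfsg.dadeIsometry
    rw [dif_pos h, dif_pos h]
    rfl
  · show Cfsg.dadeIsometry A L H (Cfsg.conjFun α) g =
      (starRingEnd ℂ) (Cfsg.dadeIsometry A L H α g)
    unfold Cfsg.dadeIsometry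
    rw [dif_neg h, dif_neg h, map_zero]

theorem dade_neg {G : Type*} [Group G] (A : Set G) (L : Subgroup G) (H : G → Subgroup G)
    (α : L → ℂ) :
    Cfsg.dadeIsometry A L H (-α) = -Cfsg.dadeIsometry A L H α := by
  funext g
  rw [Pi.neg_apply]
  by_cases h : ∃ a : ↥L, (a : G) ∈ A ∧ ∃ x : G, ∃ u ∈ H (a : G), x * g * x⁻¹ = (a : G) * u
  · unfold Cfsg.dadeIsometry
    rw [dif_pos h, dif_pos h]
    rfl
  · unfold Cfsg.dadeIsometry
    rw [dif_neg h, dif_neg h, neg_zero]

theorem dade_zero_fun {G : Type*} [Group G] (A : Set G) (L : Subgroup G) (H : G → Subgroup G) :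
    Cfsg.dadeIsometry A L H (0 : L → ℂ) = 0 := by
  funext g
  by_cases h : ∃ a : ↥L, (a : G) ∈ A ∧ ∃ x : G, ∃ u ∈ H (a : G), x * g * x⁻¹ = (a : G) * u
  · unfold Cfsg.dadeIsometry
    rw [dif_pos h]
    rfl
  · unfold Cfsg.dadeIsometry
    rw [dif_neg h]
    rfl

theorem dade_apply_one {G : Type*} [Group G] [Fintype G] {A : Set G} {L : Subgroup G}
    {H : G → Subgroup G} (hD : Cfsg.DadeHypothesis A L H) (α : L → ℂ) :
    Cfsg.dadeIsometry A L H α 1 = 0 := by
  apply dade_zero
  rintro ⟨a, ha, x, u, hu, e⟩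
  have h1 : (a : G) * u = 1 := by rw [← e]; group
  have hu' : u = (a : G)⁻¹ := by
    have : u = (a : G)⁻¹ * ((a : G) * u) := by group
    rw [this, h1, mul_one]
  have h2 : u = 1 := H_inf_L hD ha hu (by rw [hu']; exact L.inv_mem a.2)
  rw [h2, mul_one] at h1
  rw [h1] at ha
  exact hD.one_not_mem ha

theorem irr_apply_one_pos {G : Type*} [Group G] [Fintype G] {χ : G → ℂ}
    (hχ : Cfsg.IsIrrCharacter G χ) : ∃ n : ℕ, 0 < n ∧ χ 1 = n := by
  obtain ⟨n, hn⟩ := exists_nat_apply_one (isCharacter_of_isIrrCharacter hχ)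
  refine ⟨n, ?_, hn⟩
  rcases Nat.eq_zero_or_pos n with h0 | h0
  · exfalso
    obtain ⟨m, ρ, hirr, rfl⟩ := hχ
    have h1 : ρ.character 1 = (m : ℂ) := by
      rw [Representation.char_one]; simp
    rw [h1, h0] at hn
    have hm : m = 0 := by exact_mod_cast hn
    subst hm
    have hz : ρ.character = 0 := character_eq_zero_of_subsingleton ρ
    exact irr_ne_zero ⟨0, ρ, hirr, rfl⟩ hz
  · exact h0

theorem conjFun_injective {X : Type*} : Function.Injective (Cfsg.conjFun : (X → ℂ) → (X → ℂ)) := by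
  intro a b h
  funext x
  have := congrFun h x
  unfold Cfsg.conjFun at this
  exact (starRingEnd ℂ).injective this

/-- Under the Dade hypothesis for (A, L, H): if χ is an irreducible character of L vanishing at every non-identity element of L outside A, then the Dade image of χ − conj χ equals μ − conj μ for some irreducible character μ of G. -/
theorem result {G : Type*} [Group G] [Fintype G] (A : Set G) (L : Subgroup G) [Fintype L] (H : G → Subgroup G) (hD : Cfsg.DadeHypothesis A L H) (χ : L → ℂ) (hχ : Cfsg.IsIrrCharacter L χ) (hsupp : ∀ x : L, x ≠ 1 → (x : G) ∉ A → χ x = 0) : ∃ μ : G → ℂ, Cfsg.IsIrrCharacter G μ ∧ Cfsg.dadeIsometry A L H (χ - Cfsg.conjFun χ) = μ - Cfsg.conjFun μ := by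
  classical
  set β : L → ℂ := χ - Cfsg.conjFun χ with hβ
  have hχc := isCharacter_of_isIrrCharacter hχ
  have hχbar : Cfsg.IsIrrCharacter L (Cfsg.conjFun χ) := isIrrCharacter_conj hχ
  have hβgen : Cfsg.IsGeneralizedCharacter L β :=
    ⟨χ, Cfsg.conjFun χ, hχc, isCharacter_of_isIrrCharacter hχbar, rfl⟩
  have hβA : ∀ x : L, (x : G) ∉ A → β x = 0 := by
    intro x hx
    by_cases hx1 : x = 1
    · rw [hx1, hβ, Pi.sub_apply]
      unfold Cfsg.conjFun
      rw [conj_apply_one hχc, sub_self]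
    · rw [hβ, Pi.sub_apply]
      unfold Cfsg.conjFun
      rw [hsupp x hx1 hx, map_zero, sub_self]
  have hθ := dade_isGeneralizedCharacter hD hβgen hβA
  have hβcf := isClassFunction_of_isGeneralizedCharacter hβgen
  by_cases hreal : Cfsg.conjFun χ = χ
  · refine ⟨fun _ => 1, isIrrCharacter_one, ?_⟩
    have h0 : β = 0 := by rw [hβ, hreal, sub_self]
    rw [h0, dade_zero_fun]
    funext g
    simp [Cfsg.conjFun]
  · have hne : χ ≠ Cfsg.conjFun χ := fun h => hreal h.symm
    have hnormβ : Cfsg.classInner β β = 2 := by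
      rw [hβ, classInner_sub_left, classInner_sub_right, classInner_sub_right,
        irr_classInner_self hχ, irr_classInner_self hχbar,
        irr_classInner_eq_zero hχ hχbar hne, irr_classInner_eq_zero hχbar hχ hne.symm]
      norm_num
    have hnorm : Cfsg.classInner (Cfsg.dadeIsometry A L H β) (Cfsg.dadeIsometry A L H β) = 2 := by
      rw [dade_isometry hD β β hβcf hβA hβcf, hnormβ]
    obtain ⟨a, b, hab, ea, eb, hea, heb, hdec⟩ :=
      Cfsg.Agent.Lib.helper3.BSQ.exists_of_norm_two hθ hnorm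
    -- the value at `1`
    have h1 := dade_apply_one hD β
    obtain ⟨na, hna, hna'⟩ := irr_apply_one_pos a.2
    obtain ⟨nb, hnb, hnb'⟩ := irr_apply_one_pos b.2
    have h1' : (ea : ℂ) * (na : ℂ) + (eb : ℂ) * (nb : ℂ) = 0 := by
      have := congrFun hdec 1
      rw [h1] at this
      simp only [Pi.add_apply, Pi.smul_apply, smul_eq_mul] at this
      rw [hna', hnb'] at this
      exact this.symm
    have h1'' : ea * (na : ℤ) + eb * (nb : ℤ) = 0 := by exact_mod_cast h1'
    -- `conj θ = -θ`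
    have hconjβ : Cfsg.conjFun β = -β := by
      funext x
      simp [hβ, Cfsg.conjFun]
    have hconjθ : Cfsg.conjFun (Cfsg.dadeIsometry A L H β) = -Cfsg.dadeIsometry A L H β := by
      rw [← dade_conjFun, hconjβ, dade_neg]
    -- the key: if `θ = μ₁ - μ₂` with distinct irreducibles then `μ₂ = conj μ₁`
    have key : ∀ μ₁ μ₂ : G → ℂ, Cfsg.IsIrrCharacter G μ₁ → Cfsg.IsIrrCharacter G μ₂ → μ₁ ≠ μ₂ →
        Cfsg.dadeIsometry A L H β = μ₁ - μ₂ → μ₂ = Cfsg.conjFun μ₁ := by
      intro μ₁ μ₂ hμ₁ hμ₂ hμne hdec'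
      have hc1 : Cfsg.IsIrrCharacter G (Cfsg.conjFun μ₁) := isIrrCharacter_conj hμ₁
      have hc2 : Cfsg.IsIrrCharacter G (Cfsg.conjFun μ₂) := isIrrCharacter_conj hμ₂
      have hcne : Cfsg.conjFun μ₁ ≠ Cfsg.conjFun μ₂ := fun h => hμne (conjFun_injective h)
      have hrel : Cfsg.conjFun μ₁ + μ₁ = Cfsg.conjFun μ₂ + μ₂ := by
        have h2 : Cfsg.conjFun (μ₁ - μ₂) = -(μ₁ - μ₂) := by rw [← hdec']; exact hconjθ
        have h3 : Cfsg.conjFun (μ₁ - μ₂) = Cfsg.conjFun μ₁ - Cfsg.conjFun μ₂ := by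
          funext x; simp [Cfsg.conjFun]
        rw [h3] at h2
        have h4 : Cfsg.conjFun μ₁ + μ₁ - (Cfsg.conjFun μ₂ + μ₂) = 0 := by
          have : Cfsg.conjFun μ₁ + μ₁ - (Cfsg.conjFun μ₂ + μ₂) =
              (Cfsg.conjFun μ₁ - Cfsg.conjFun μ₂) + (μ₁ - μ₂) := by abel
          rw [this, h2]; abel
        exact sub_eq_zero.mp h4
      have hin := congrArg (fun f => Cfsg.classInner (Cfsg.conjFun μ₁) f) hrel
      simp only [classInner_add_right] at hin
      rw [irr_classInner_self hc1, irr_classInner_eq_zero hc1 hc2 hcne, zero_add,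
        irr_classInner_eq hc1 hμ₁, irr_classInner_eq hc1 hμ₂] at hin
      by_contra hcon
      have hcon' : ¬ Cfsg.conjFun μ₁ = μ₂ := fun h => hcon h.symm
      rw [if_neg hcon'] at hin
      split_ifs at hin <;> norm_num at hin
    rcases hea with hea | hea <;> rcases heb with heb | heb
    · exfalso
      rw [hea, heb] at h1''
      have : (0 : ℤ) < (na : ℤ) + nb := by positivity
      omega
    · refine ⟨a, a.2, ?_⟩
      have hdec' : Cfsg.dadeIsometry A L H β = (a : G → ℂ) - (b : G → ℂ) := by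
        rw [hdec, hea, heb]
        funext x; simp [sub_eq_add_neg]
      have hab' : (a : G → ℂ) ≠ (b : G → ℂ) := fun h => hab (Subtype.ext h)
      rw [hdec', key a b a.2 b.2 hab' hdec']
    · refine ⟨b, b.2, ?_⟩
      have hdec' : Cfsg.dadeIsometry A L H β = (b : G → ℂ) - (a : G → ℂ) := by
        rw [hdec, hea, heb]
        funext x; simp [sub_eq_add_neg, add_comm]
      have hab' : (b : G → ℂ) ≠ (a : G → ℂ) := fun h => hab (Subtype.ext h.symm)
      rw [hdec', key b a b.2 a.2 hab' hdec']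
    · exfalso
      rw [hea, heb] at h1''
      have : (0 : ℤ) < (na : ℤ) + nb := by positivity
      omega

end Cfsg.Agent.S1518
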