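import Cfsg.Statements.S2327
import Cfsg.Agent.Lib.Helper5.Chev.SteinbergFix

open Cfsg.Lie Cfsg.Agent.Lib.Helper5.Chev

set_option autoImplicit false
open Cfsg

namespace Cfsg.Agent.S2327

/-- In a Chevalley group of type G₂, B₂, D₄, F₄, E₆, E₇ or E₈ over a finite field with q elements, the Steinberg character (the alternating sum of the permutation characters on the standard parabolic subgroups) has degree q^N, N the number of positive roots; this is the order of U and the largest power of the characteristic dividing the group order. -/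
theorem result {F : Type*} [Field F] [Fintype F] (D : Cfsg.Lie.ChevalleyDatum) (hD : D ∈ [Cfsg.Lie.chevG2, Cfsg.Lie.chevB2, Cfsg.Lie.chevD4, Cfsg.Lie.chevF4, Cfsg.Lie.chevE6, Cfsg.Lie.chevE7, Cfsg.Lie.chevE8]) :
    D.steinbergCharacter F 1 = (Fintype.card F : ℂ) ^ (D.nroots / 2) := by
  classical
  have hadd := allAdd_all (F := F) D hD
  have hBG : D.borelSubgroup F ≤ D.group F := hadd.borel_le
  have hHB : D.diagonalSubgroup F ≤ D.borelSubgroup F := le_sup_right
  have h := steinberg_restrict_borel D hD (1 : ↥((D.borelSubgroup F).subgroupOf (D.group F)))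
  rw [map_one] at h
  rw [h]
  unfold fixedPointCharacter
  rw [MulAction.fixedBy_one_eq_univ, Nat.card_congr (Equiv.Set.univ _)]
  -- the index of `H` in `B`
  set B' := (D.borelSubgroup F).subgroupOf (D.group F) with hB'
  set H'' := ((D.diagonalSubgroup F).subgroupOf (D.group F)).subgroupOf B' with hH''
  have h1 : Nat.card B' = Nat.card (D.borelSubgroup F) :=
    Nat.card_congr (Subgroup.subgroupOfEquivOfLe hBG).toEquiv
  have h2 : Nat.card H'' = Nat.card (D.diagonalSubgroup F) := by
    have e1 : Nat.card H'' = Nat.card ((D.diagonalSubgroup F).subgroupOf (D.group F)) := by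
      apply Nat.card_congr (Subgroup.subgroupOfEquivOfLe _).toEquiv
      intro x hx
      rw [Subgroup.mem_subgroupOf] at hx ⊢
      exact hHB hx
    rw [e1]
    exact Nat.card_congr (Subgroup.subgroupOfEquivOfLe (hHB.trans hBG)).toEquiv
  have h3 := H''.card_mul_index
  rw [h1, h2, card_borel D hD, card_posUnipotent D hD] at h3
  have hHpos : 0 < Nat.card (D.diagonalSubgroup F) := Nat.card_pos
  have h4 : H''.index = Nat.card F ^ (D.nroots / 2) := by
    have : Nat.card (D.diagonalSubgroup F) * H''.index
        = Nat.card (D.diagonalSubgroup F) * Nat.card F ^ (D.nroots / 2) := by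
      rw [h3]; ring
    exact Nat.eq_of_mul_eq_mul_left hHpos this
  have h5 : Nat.card (↥B' ⧸ H'') = H''.index := rfl
  rw [h5, h4, Nat.card_eq_fintype_card]
  push_cast
  rfl

end Cfsg.Agent.S2327
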