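import Cfsg.Statements.S2311
import Cfsg.Agent.Lib.Helper5.Chev.SteinbergSetup
import Cfsg.Agent.Lib.helper3.TwoTrans
import Cfsg.Agent.Lib.helper3.GenChar
import Cfsg.Agent.Lib.helper3.NormOne
import Cfsg.Agent.S2327

open Cfsg.Lie Cfsg.Agent.Lib.Helper5 Cfsg.Agent.Lib.Helper5.Chev Cfsg.Agent.Lib.helper3
open scoped ComplexConjugate

set_option autoImplicit false
open Cfsg

namespace Cfsg.Agent.S2311

/-- In a Chevalley group of type G₂, B₂, D₄, F₄, E₆, E₇ or E₈ over a finite field, the alternating sum over all sets J of fundamental roots of (−1)^|J| times the permutation character on the cosets of the standard parabolic subgroup P_J is an irreducible complex character: the Steinberg character. -/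
theorem result {F : Type*} [Field F] [Fintype F] (D : Cfsg.Lie.ChevalleyDatum) (hD : D ∈ [Cfsg.Lie.chevG2, Cfsg.Lie.chevB2, Cfsg.Lie.chevD4, Cfsg.Lie.chevF4, Cfsg.Lie.chevE6, Cfsg.Lie.chevE7, Cfsg.Lie.chevE8]) :
    Cfsg.IsIrrCharacter ↥(D.group F) (D.steinbergCharacter F) := by
  classical
  let _ : Fintype ↥(D.group F) := Fintype.ofFinite _
  obtain ⟨P, τ, w0, hτs, hQ, hw0⟩ := exists_bn_setup (F := F) D hD
  have hnorm := BN.steinberg_norm P D.rank τ hτs (fun J => D.parabolicIn F J) hQ w0 hw0
  -- the values are integers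
  have hSt : ∀ g, D.steinbergCharacter F g
      = ((∑ J ∈ (Finset.range D.rank).powerset, (-1 : ℤ) ^ J.card
          * (Nat.card (MulAction.fixedBy (↥(D.group F) ⧸ D.parabolicIn F J) g) : ℤ) : ℤ) : ℂ) := by
    intro g
    unfold ChevalleyDatum.steinbergCharacter fixedPointCharacter
    push_cast
    rfl
  have hgen : IsGeneralizedCharacter ↥(D.group F) (D.steinbergCharacter F) := by
    have : D.steinbergCharacter F = ∑ J ∈ (Finset.range D.rank).powerset,
        ((((-1 : ℤ) ^ J.card : ℤ)) : ℂ) • (fun g : ↥(D.group F) =>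
          (Nat.card (MulAction.fixedBy (↥(D.group F) ⧸ D.parabolicIn F J) g) : ℂ)) := by
      funext g
      rw [Finset.sum_apply]
      unfold ChevalleyDatum.steinbergCharacter fixedPointCharacter
      apply Finset.sum_congr rfl
      intro J _
      simp
    rw [this]
    apply GenChar.sum
    intro J _
    apply GenChar.smul_intCast
    apply GenChar.of_isCharacter
    exact PermChar.isCharacter_permChar _
  have hinner : classInner (D.steinbergCharacter F) (D.steinbergCharacter F) = 1 := by
    unfold classInner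
    have hs : ∑ g : ↥(D.group F), D.steinbergCharacter F g * conj (D.steinbergCharacter F g)
        = (Nat.card ↥(D.group F) : ℂ) := by
      have h2 := congrArg (fun z : ℤ => (z : ℂ)) hnorm
      simp only [Int.cast_sum, Int.cast_natCast] at h2
      rw [← h2]
      apply Finset.sum_congr rfl
      intro g _
      rw [hSt g, map_intCast, sq, Int.cast_mul]
    rw [hs]
    exact inv_mul_cancel₀ (Nat.cast_ne_zero.2 Nat.card_pos.ne')
  obtain ⟨a, ha | ha⟩ := Irr.exists_irr_of_norm_one hgen hinner
  · rw [ha]; exact a.2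
  · exfalso
    obtain ⟨n, ρ, -, hρ⟩ := a.2
    have h1 : (a : ↥(D.group F) → ℂ) 1 = (n : ℂ) := by
      rw [← hρ, Representation.char_one]
      simp
    have h2 := Cfsg.Agent.S2327.result (F := F) D hD
    rw [ha, Pi.neg_apply, h1] at h2
    have h3 : ((n + Fintype.card F ^ (D.nroots / 2) : ℕ) : ℂ) = 0 := by
      push_cast
      rw [← h2]
      ring
    have h4 := Nat.cast_eq_zero.1 h3
    have h5 : 0 < Fintype.card F ^ (D.nroots / 2) := pow_pos Fintype.card_pos _
    omega

end Cfsg.Agent.S2311
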