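import Cfsg.Statements.S2326
import Cfsg.Agent.Lib.Helper5.Chev.CardAll
import Cfsg.Agent.Lib.Helper5.Chev.BorelCard

open Cfsg.Lie Cfsg.Agent.Lib.Helper5.Chev

set_option autoImplicit false
open Cfsg

namespace Cfsg.Agent.S2326

/-- In a Chevalley group of type G₂, B₂, D₄, F₄, E₆, E₇ or E₈ over a finite field of characteristic p, the subgroup U generated by the positive root elements is a Sylow p-subgroup. -/
theorem result {F : Type*} [Field F] [Fintype F] (p : ℕ) [Fact p.Prime] [CharP F p] (D : Cfsg.Lie.ChevalleyDatum) (hD : D ∈ [Cfsg.Lie.chevG2, Cfsg.Lie.chevB2, Cfsg.Lie.chevD4, Cfsg.Lie.chevF4, Cfsg.Lie.chevE6, Cfsg.Lie.chevE7, Cfsg.Lie.chevE8]) :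
    ∃ P : Sylow p ↥(D.group F), (P : Subgroup ↥(D.group F)) = (D.posUnipotent F).subgroupOf (D.group F) := by
  classical
  have hadd := allAdd_all (F := F) D hD
  have hUG : D.posUnipotent F ≤ D.group F := le_trans le_sup_left hadd.borel_le
  set U' := (D.posUnipotent F).subgroupOf (D.group F) with hU'
  obtain ⟨n, hp, hqn⟩ := FiniteField.card F p
  have hq : Nat.card F = p ^ (n : ℕ) := by rw [Nat.card_eq_fintype_card, hqn]
  have hcardU : Nat.card U' = Nat.card F ^ (D.nroots / 2) := by
    rw [hU', Nat.card_congr (Subgroup.subgroupOfEquivOfLe hUG).toEquiv, card_posUnipotent D hD]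
  have hPG : IsPGroup p U' := by
    apply IsPGroup.of_card (n := (n : ℕ) * (D.nroots / 2))
    rw [hcardU, hq, pow_mul]
  obtain ⟨d, degs, hdeg, hcard⟩ := card_group_all (F := F) D hD
  have hqpos : 0 < Nat.card F ^ (D.nroots / 2) := by
    rw [hq]; exact pow_pos (pow_pos hp.pos _) _
  have hidx : d * U'.index = (degs.map fun k => Nat.card F ^ k - 1).prod := by
    have h1 := U'.card_mul_index
    rw [hcardU] at h1
    rw [← h1] at hcard
    have h2 : Nat.card F ^ (D.nroots / 2) * (d * U'.index)
        = Nat.card F ^ (D.nroots / 2) * (degs.map fun k => Nat.card F ^ k - 1).prod := by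
      rw [← hcard]; ring
    exact Nat.eq_of_mul_eq_mul_left hqpos h2
  have hndvd : ¬ p ∣ U'.index := by
    intro hdvd
    have h3 : p ∣ (degs.map fun k => Nat.card F ^ k - 1).prod := by
      rw [← hidx]; exact Dvd.dvd.mul_left hdvd d
    clear hidx hcard
    induction degs with
    | nil => simp at h3; exact hp.one_lt.ne' h3
    | cons k degs ih =>
      rw [List.map_cons, List.prod_cons] at h3
      rcases (Nat.Prime.dvd_mul hp).1 h3 with h4 | h4
      · have hk : 1 ≤ k := hdeg k List.mem_cons_self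
        have h5 : p ∣ Nat.card F ^ k := by
          rw [hq, ← pow_mul]
          exact dvd_pow_self p (by have := n.pos; positivity)
        have h6 : 1 ≤ Nat.card F ^ k := Nat.one_le_pow _ _ (by rw [hq]; exact pow_pos hp.pos _)
        have h7 : p ∣ 1 := by
          have := (Nat.dvd_sub h5 h4)
          rwa [Nat.sub_sub_self h6] at this
        exact hp.one_lt.ne' (Nat.dvd_one.1 h7)
      · exact ih (fun k' hk' => hdeg k' (List.mem_cons_of_mem _ hk')) h4
  exact ⟨hPG.toSylow hndvd, IsPGroup.toSylow_coe hPG hndvd⟩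

end Cfsg.Agent.S2326
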