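import Cfsg.Statements.S2328
import Cfsg.Agent.S2311
import Cfsg.Agent.S2326
import Cfsg.Agent.S2327
import Cfsg.Agent.Lib.helper3.DefectZero

open Cfsg.Lie Cfsg.Agent.Lib.Helper5 Cfsg.Agent.Lib.Helper5.Chev Cfsg.Agent.Lib.helper3

set_option autoImplicit false
open Cfsg

namespace Cfsg.Agent.S2328

/-- In a Chevalley group of type G₂, B₂, D₄, F₄, E₆, E₇ or E₈ over a finite field of characteristic p, the Steinberg character vanishes at every element whose order is divisible by p (every element that is not semisimple). -/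
theorem result {F : Type*} [Field F] [Fintype F] (p : ℕ) [Fact p.Prime] [CharP F p] (D : Cfsg.Lie.ChevalleyDatum) (hD : D ∈ [Cfsg.Lie.chevG2, Cfsg.Lie.chevB2, Cfsg.Lie.chevD4, Cfsg.Lie.chevF4, Cfsg.Lie.chevE6, Cfsg.Lie.chevE7, Cfsg.Lie.chevE8]) (g : ↥(D.group F)) (hg : p ∣ orderOf g) :
    D.steinbergCharacter F g = 0 := by
  classical
  let _ : Fintype ↥(D.group F) := Fintype.ofFinite _
  have hp : p.Prime := Fact.out
  have hadd := allAdd_all (F := F) D hD
  have hUG : D.posUnipotent F ≤ D.group F := le_trans le_sup_left hadd.borel_le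
  obtain ⟨e, -, hqe⟩ := FiniteField.card F p
  have hq : Nat.card F = p ^ (e : ℕ) := by rw [Nat.card_eq_fintype_card, hqe]
  -- the order of a Sylow subgroup
  obtain ⟨S, hS⟩ := Cfsg.Agent.S2326.result (F := F) p D hD
  have hcardS : Nat.card S = p ^ ((e : ℕ) * (D.nroots / 2)) := by
    show Nat.card (S : Subgroup ↥(D.group F)) = _
    rw [hS, Nat.card_congr (Subgroup.subgroupOfEquivOfLe hUG).toEquiv, card_posUnipotent D hD, hq,
      pow_mul]
  have hfac : (Nat.card ↥(D.group F)).factorization p = (e : ℕ) * (D.nroots / 2) := by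
    have h1 := S.card_eq_multiplicity
    rw [hcardS] at h1
    exact (Nat.pow_right_injective hp.two_le h1).symm
  have hn' : ¬ p ^ ((e : ℕ) * (D.nroots / 2) + 1) ∣ Nat.card ↥(D.group F) := by
    rw [← hfac]
    exact Nat.pow_succ_factorization_not_dvd Nat.card_pos.ne' hp
  -- the irreducible representation
  obtain ⟨m, ρ, hirr, hρ⟩ := Cfsg.Agent.S2311.result (F := F) D hD
  have := hirr
  have hdeg : p ^ ((e : ℕ) * (D.nroots / 2)) ∣ Module.finrank ℂ (Fin m → ℂ) := by
    have h1 := Cfsg.Agent.S2327.result (F := F) D hD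
    rw [← hρ, Representation.char_one] at h1
    have h2 : Module.finrank ℂ (Fin m → ℂ) = Fintype.card F ^ (D.nroots / 2) := by
      exact_mod_cast h1
    rw [h2, ← Nat.card_eq_fintype_card, hq, pow_mul]
  rw [← hρ]
  exact BrauerInd.character_eq_zero_of_defect_zero ρ p _ hn' hdeg g hg

end Cfsg.Agent.S2328
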