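import Cfsg.Statements.S5957
import Mathlib
import Cfsg.Agent.H9.InvBlocks

set_option autoImplicit false
open scoped MatrixGroups
open Cfsg

namespace Cfsg.Agent.S5957

universe u

theorem monomial_basis {F : Type*} [Field F] (z : F) (hz : z ≠ 0) :
    ∀ (n : ℕ) (V : Type u) [AddCommGroup V] [Module F V] [FiniteDimensional F V] (x : V →ₗ[F] V),
      (∀ v, x (x v) = z • v) → Module.finrank F V = n →
      ∃ (ι : Type) (_ : Fintype ι) (_ : DecidableEq ι) (b : Module.Basis ι F V) (τ : ι → ι) (c : ι → F),
        Function.Involutive τ ∧ (∀ i, c i ≠ 0) ∧ ∀ i, x (b i) = c i • b (τ i) := by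
  intro n
  induction n using Nat.strong_induction_on with
  | _ n ih =>
    intro V _ _ _ x hx hn
    have hxinj : ∀ v, x v = 0 → v = 0 := by
      intro v hv
      have := hx v
      rw [hv, map_zero] at this
      exact (smul_eq_zero.1 this.symm).resolve_left hz
    by_cases hA : ∀ v, x v ∈ Submodule.span F {v}
    · -- every vector is an eigenvector
      let b := Module.finBasis F V
      have hc : ∀ i, ∃ c : F, c • b i = x (b i) := fun i => Submodule.mem_span_singleton.1 (hA (b i))
      choose c hc using hc
      refine ⟨Fin (Module.finrank F V), inferInstance, inferInstance, b, id, c, fun _ => rfl, ?_, ?_⟩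
      · intro i hci
        have h := hc i
        rw [hci, zero_smul] at h
        exact b.ne_zero i (hxinj _ h.symm)
      · intro i; exact (hc i).symm
    · push Not at hA
      obtain ⟨v, hv⟩ := hA
      obtain ⟨φ, hφ1, hφ2⟩ := Submodule.exists_dual_map_eq_bot_of_notMem hv inferInstance
      have hφv : φ v = 0 := by
        have : φ v ∈ (Submodule.span F {v}).map φ := Submodule.mem_map_of_mem (Submodule.mem_span_singleton_self v)
        rw [hφ2] at this
        exact (Submodule.mem_bot F).1 this
      -- normalise
      set ψ : Module.Dual F V := (φ (x v))⁻¹ • φ with hψ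
      have hψv : ψ v = 0 := by simp [hψ, hφv]
      have hψxv : ψ (x v) = 1 := by simp [hψ, inv_mul_cancel₀ hφ1]
      have hv0 : v ≠ 0 := by
        rintro rfl
        apply hv
        rw [map_zero]; exact Submodule.zero_mem _
      have hli : LinearIndependent F ![x v, v] := by
        rw [linearIndependent_fin2]
        refine ⟨by simpa using hv0, fun a h => hv ?_⟩
        simp only [Matrix.cons_val_one, Matrix.cons_val_zero, Matrix.cons_val_fin_one] at h
        exact Submodule.mem_span_singleton.2 ⟨a, h⟩
      set W : Submodule F V := Submodule.span F (Set.range ![x v, v]) with hW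
      set W' : Submodule F V := LinearMap.ker ψ ⊓ LinearMap.ker (ψ ∘ₗ x) with hW'
      have hmemW' : ∀ u, u ∈ W' ↔ ψ u = 0 ∧ ψ (x u) = 0 := by
        intro u; simp [hW', Submodule.mem_inf, LinearMap.mem_ker]
      have hmemW : ∀ u, u ∈ W ↔ ∃ α β : F, α • x v + β • v = u := by
        intro u
        rw [hW, Matrix.range_cons, Matrix.range_cons, Matrix.range_empty, Set.union_empty]
        exact Submodule.mem_span_pair
      have hW'inv : ∀ u ∈ W', x u ∈ W' := by
        intro u hu
        rw [hmemW'] at hu ⊢
        refine ⟨hu.2, ?_⟩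
        rw [hx u, map_smul, hu.1, smul_zero]
      have hcompl : IsCompl W W' := by
        constructor
        · rw [Submodule.disjoint_def]
          intro u hu hu'
          obtain ⟨α, β, rfl⟩ := (hmemW u).1 hu
          obtain ⟨h1, h2⟩ := (hmemW' _).1 hu'
          have h1' : α = 0 := by simpa [hψv, hψxv] using h1
          have h2' : β = 0 := by
            simp only [map_add, map_smul, hx v, hψv, hψxv, smul_eq_mul, mul_zero, mul_one, zero_add] at h2
            exact h2
          rw [h1', h2', zero_smul, zero_smul, add_zero]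
        · rw [codisjoint_iff, eq_top_iff]
          intro u _
          have hu1 : ψ u • x v + ψ (x u) • v ∈ W := (hmemW _).2 ⟨_, _, rfl⟩
          have hu2 : u - (ψ u • x v + ψ (x u) • v) ∈ W' := by
            rw [hmemW']
            constructor
            · simp [hψv, hψxv]
            · simp [hψv, hψxv, hx v]
          have : u = (ψ u • x v + ψ (x u) • v) + (u - (ψ u • x v + ψ (x u) • v)) := by abel
          rw [this]
          exact Submodule.add_mem_sup hu1 hu2
      have hlt : Module.finrank F W' < n := by
        rw [← hn]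
        apply Submodule.finrank_lt
        intro htop
        have : x v ∈ W' := by rw [htop]; exact Submodule.mem_top
        rw [hmemW'] at this
        rw [hψxv] at this
        exact one_ne_zero this.1
      have hx' : ∀ u : W', (x.restrict hW'inv) ((x.restrict hW'inv) u) = z • u := by
        intro u
        apply Subtype.ext
        simp only [LinearMap.coe_restrict_apply, Submodule.coe_smul]
        exact hx u
      obtain ⟨ι', _, _, b', τ', c', hτ', hc', hb'⟩ := ih _ hlt W' (x.restrict hW'inv) hx' rfl
      let bW : Module.Basis (Fin 2) F W := Module.Basis.span hli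
      let B : Module.Basis (Fin 2 ⊕ ι') F V := (bW.prod b').map (Submodule.prodEquivOfIsCompl W W' hcompl)
      have hBl : ∀ i, B (Sum.inl i) = ![x v, v] i := by
        intro i
        simp only [B, Module.Basis.map_apply, Module.Basis.prod_apply, Sum.elim_inl, Function.comp_apply,
          LinearMap.coe_inl, Submodule.coe_prodEquivOfIsCompl', Submodule.coe_zero, add_zero]
        exact congrArg Subtype.val (Module.Basis.span_apply hli i)
      have hBr : ∀ j, B (Sum.inr j) = (b' j : V) := by
        intro j
        simp only [B, Module.Basis.map_apply, Module.Basis.prod_apply, Sum.elim_inr, Function.comp_apply,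
          LinearMap.coe_inr, Submodule.coe_prodEquivOfIsCompl', Submodule.coe_zero, zero_add]
      refine ⟨Fin 2 ⊕ ι', inferInstance, inferInstance, B,
        Sum.elim (fun i => Sum.inl (Equiv.swap 0 1 i)) (fun j => Sum.inr (τ' j)),
        Sum.elim ![z, 1] c', ?_, ?_, ?_⟩
      · rintro (i | j)
        · simp
        · simp [hτ' j]
      · rintro (i | j)
        · fin_cases i
          · simpa using hz
          · simp
        · simpa using hc' j
      · rintro (i | j)
        · fin_cases i
          · simp [hBl, hx v]
          · simp [hBl]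
        · simp only [Sum.elim_inr, hBr]
          have := congrArg (Subtype.val) (hb' j)
          simpa using this


theorem decomposition_of_monomial {F : Type*} [Field F] {V : Type*} [AddCommGroup V] [Module F V]
    [FiniteDimensional F V] {ι : Type} [Fintype ι] [DecidableEq ι] (b : Module.Basis ι F V) (τ : ι → ι)
    (c : ι → F) (hτ : Function.Involutive τ) (hc : ∀ i, c i ≠ 0) (x : V →ₗ[F] V)
    (hx : ∀ i, x (b i) = c i • b (τ i)) (a t : ℕ) (ha : 1 ≤ a) (hcard : Fintype.card ι = a * t) :
    ∃ D : Fin t → Submodule F V, (∀ j, Module.finrank F (D j) = a) ∧ iSupIndep D ∧ iSup D = ⊤ ∧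
      ∃ σ : Equiv.Perm (Fin t), ∀ j, (D j).map x = D (σ j) := by
  classical
  obtain ⟨blk, s, h1, h2, h3⟩ := Cfsg.Agent.H9.inv_blocks τ hτ a ha t Finset.univ (by simp)
    (by simpa using hcard)
  have h1 : ∀ i, blk i < t := fun i => h1 i (Finset.mem_univ i)
  have h3 : ∀ i, blk (τ i) = s (blk i) := fun i => h3 i (Finset.mem_univ i)
  have hrep : ∀ j < t, ∃ i, blk i = j := by
    intro j hj
    have hpos : 0 < (Finset.univ.filter (fun i => blk i = j)).card := by rw [h2 j hj]; exact ha
    obtain ⟨i, hi⟩ := Finset.card_pos.1 hpos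
    exact ⟨i, (Finset.mem_filter.1 hi).2⟩
  have hs : ∀ j < t, s j < t := by
    intro j hj
    obtain ⟨i, rfl⟩ := hrep j hj
    rw [← h3]; exact h1 _
  have hss : ∀ j < t, s (s j) = j := by
    intro j hj
    obtain ⟨i, rfl⟩ := hrep j hj
    rw [← h3, ← h3, hτ i]
  let D : Fin t → Submodule F V := fun j =>
    Submodule.span F (Set.range (fun i : {i // blk i = (j : ℕ)} => b i))
  have hmemD : ∀ (j : Fin t) (i : ι), blk i = (j : ℕ) → b i ∈ D j := by
    intro j i hi
    exact Submodule.subset_span ⟨⟨i, hi⟩, rfl⟩
  have hDeq : ∀ j : Fin t, D j = Submodule.span F (b '' {i | blk i = (j : ℕ)}) := by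
    intro j
    apply le_antisymm
    · apply Submodule.span_le.2
      rintro _ ⟨⟨i, hi⟩, rfl⟩
      exact Submodule.subset_span ⟨i, hi, rfl⟩
    · apply Submodule.span_le.2
      rintro _ ⟨i, hi, rfl⟩
      exact hmemD j i hi
  let σf : Fin t → Fin t := fun j => ⟨s j, hs j j.2⟩
  have hσf : Function.Involutive σf := by
    intro j
    apply Fin.ext
    exact hss j j.2
  refine ⟨D, ?_, ?_, ?_, hσf.toPerm, ?_⟩
  · intro j
    have hli : LinearIndependent F (fun i : {i // blk i = (j : ℕ)} => b i) :=
      b.linearIndependent.comp _ Subtype.val_injective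
    have := finrank_span_eq_card hli
    rw [Fintype.card_subtype, h2 j j.2] at this
    exact this
  · intro j
    have hle : (⨆ k, ⨆ (_ : k ≠ j), D k) ≤ Submodule.span F (b '' {i | blk i ≠ (j : ℕ)}) := by
      apply iSup₂_le
      intro k hk
      rw [hDeq k]
      apply Submodule.span_mono
      apply Set.image_mono
      intro i hi
      simp only [Set.mem_ofPred_eq] at hi ⊢
      rw [hi]
      exact fun h => hk (Fin.ext h)
    refine Disjoint.mono (hDeq j).le hle ?_
    apply b.linearIndependent.disjoint_span_image
    rw [Set.disjoint_left]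
    intro i hi hi'
    exact hi' hi
  · rw [eq_top_iff, ← b.span_eq]
    apply Submodule.span_le.2
    rintro _ ⟨i, rfl⟩
    exact Submodule.mem_iSup_of_mem ⟨blk i, h1 i⟩ (hmemD ⟨blk i, h1 i⟩ i rfl)
  · intro j
    apply le_antisymm
    · rw [Submodule.map_le_iff_le_comap]
      apply Submodule.span_le.2
      rintro _ ⟨⟨i, hi⟩, rfl⟩
      simp only [Submodule.comap_coe, Set.mem_preimage, SetLike.mem_coe, hx]
      apply Submodule.smul_mem
      apply hmemD
      rw [h3, hi]; rfl
    · apply Submodule.span_le.2
      rintro _ ⟨⟨i, hi⟩, rfl⟩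
      have hi' : blk i = s j := hi
      have hτi : blk (τ i) = (j : ℕ) := by rw [h3, hi', hss j j.2]
      have hxb : x (b (τ i)) = c (τ i) • b i := by rw [hx, hτ i]
      have : b i = (c (τ i))⁻¹ • x (b (τ i)) := by
        rw [hxb, smul_smul, inv_mul_cancel₀ (hc _), one_smul]
      simp only [SetLike.mem_coe]
      rw [this]
      apply Submodule.smul_mem
      exact Submodule.mem_map_of_mem (hmemD j _ hτi)

/-- Involutions of PSL_n(q) and imprimitive subgroups. Here `T = PSL_n(F)` for a field `F` with `q = p^f` elements (`n ≥ 2`, `(n, q) ≠ (2, 2), (2, 3)`), `n = a·t` with `t ≥ 2`, and Ω is the set of direct-sum decompositions of `F^n` into `t` subspaces of dimension `a` (unordered; their number is the number of ordered ones divided by `t!`), whose stabilizers are the imprimitive subgroups of type GL_a(q) ≀ S_t (maximal except in some small cases; maximality is not assumed); an element of `T` of prime order `r` (a matrix `x` of determinant 1 with `x^r` scalar, `x` not scalar) fixes a point of Ω when it permutes the summands of some such decomposition.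 If the number of such decompositions is even, then every involution of `T` stabilizes one of them (the action is 2-elusive). -/
theorem result {F : Type*} [Field F] [Fintype F] {p : ℕ} [Fact p.Prime] [CharP F p] {q : ℕ} (hq : Fintype.card F = q)
    (n a t : ℕ) (hn : 2 ≤ n) (hT : (n, q) ≠ (2, 2) ∧ (n, q) ≠ (2, 3)) (hat : n = a * t) (ha : 1 ≤ a) (ht : 2 ≤ t)
    (hΩ : 2 ∣ Nat.card {D : Fin t → Submodule F (Fin n → F) // Cfsg.Geo.IsMDecomposition a D} / Nat.factorial t)
    (x : Matrix.SpecialLinearGroup (Fin n) F)
    (hx1 : ∃ z : F, ((x ^ 2 : Matrix.SpecialLinearGroup (Fin n) F) : Matrix (Fin n) (Fin n) F) = z • (1 : Matrix (Fin n) (Fin n) F))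
    (hx2 : ∀ z : F, (x : Matrix (Fin n) (Fin n) F) ≠ z • (1 : Matrix (Fin n) (Fin n) F)) :
    ∃ D : Fin t → Submodule F (Fin n → F), Cfsg.Geo.IsMDecomposition a D ∧
        ∃ σ : Equiv.Perm (Fin t), ∀ j, (D j).map (Matrix.toLin' (x : Matrix (Fin n) (Fin n) F)) = D (σ j) := by
  obtain ⟨z, hz⟩ := hx1
  set M : Matrix (Fin n) (Fin n) F := (x : Matrix (Fin n) (Fin n) F) with hM
  have hMM : M * M = z • (1 : Matrix (Fin n) (Fin n) F) := by
    rw [← hz, Matrix.SpecialLinearGroup.coe_pow, pow_two]
  have hz0 : z ≠ 0 := by
    rintro rfl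
    rw [zero_smul] at hMM
    have hdet : (M * M).det = 1 := by
      rw [Matrix.det_mul, hM, Matrix.SpecialLinearGroup.det_coe, one_mul]
    have : Nonempty (Fin n) := ⟨⟨0, by omega⟩⟩
    rw [hMM, Matrix.det_zero] at hdet
    exact zero_ne_one hdet
  have hL : ∀ v, Matrix.toLin' M (Matrix.toLin' M v) = z • v := by
    intro v
    rw [← Matrix.toLin'_mul_apply, hMM]
    simp
  obtain ⟨ι, _, _, b, τ, c, hτ, hc, hb⟩ := monomial_basis z hz0 n (Fin n → F) (Matrix.toLin' M) hL
    (Module.finrank_fin_fun F)
  have hcard : Fintype.card ι = a * t := by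
    rw [← Module.finrank_eq_card_basis b, Module.finrank_fin_fun, hat]
  obtain ⟨D, hD1, hD2, hD3, σ, hσ⟩ := decomposition_of_monomial b τ c hτ hc (Matrix.toLin' M) hb a t ha hcard
  exact ⟨D, ⟨ht, ha, hD1, hD2, hD3⟩, σ, hσ⟩

end Cfsg.Agent.S5957
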