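import Cfsg.Statements.S1960
import Mathlib
import Cfsg.Agent.S1959
import Cfsg.Agent.S1962

set_option autoImplicit false
set_option linter.style.haveILetI false
set_option linter.unusedSectionVars false
open Cfsg Cfsg.Agent.Lib.Helper7 Cfsg.Agent.Lib.Lead.Conj Cfsg.Agent.Lib.Lead.ConjFamily Cfsg.Agent.S1963
  Cfsg.Agent.S1965 Cfsg.Agent.S1961 Cfsg.Agent.S1959 Cfsg.Agent.S1962

namespace Cfsg.Agent.S1960

open scoped commutatorElement

variable {G : Type*} [Group G]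

section

variable [Finite G] {p : ℕ} [hp : Fact p.Prime] (S : Sylow p G) (𝓦 : Set (Subgroup G → Subgroup G))

/-- the target subgroup -/
def tgt : Subgroup G :=
  ⨆ W ∈ 𝓦, (S : Subgroup G) ⊓ ⁅Subgroup.normalizer ((W (S : Subgroup G) : Subgroup G) : Set G),
    Subgroup.normalizer ((W (S : Subgroup G) : Subgroup G) : Set G)⁆

/-- the local focal-type subgroup -/
def DD (U : Subgroup G) : Subgroup G :=
  NS S U ⊓ ⁅Subgroup.normalizer (U : Set G), Subgroup.normalizer (U : Set G)⁆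

variable {𝓦}

theorem cj_iSup₂ (c : G) (f : (Subgroup G → Subgroup G) → Subgroup G) :
    cj c (⨆ W ∈ 𝓦, f W) = ⨆ W ∈ 𝓦, cj c (f W) := by
  unfold cj
  rw [Subgroup.map_iSup]
  congr 1
  ext W
  rw [Subgroup.map_iSup]

/-- control of transfer by a family in `H` holds with respect to any Sylow `p`-subgroup `N` of `H`. -/
theorem family_transfer_any_sylow (h𝓦 : ∀ W ∈ 𝓦, IsConjugacyFunctor p W) {H N : Subgroup G}
    (hc : FamilyControlsTransferIn p 𝓦 H) (hN : IsSylowIn p N H) :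
    N ⊓ ⁅H, H⁆ = ⨆ W ∈ 𝓦, N ⊓ ⁅H ⊓ Subgroup.normalizer ((W N : Subgroup G) : Set G),
      H ⊓ Subgroup.normalizer ((W N : Subgroup G) : Set G)⁆ := by
  obtain ⟨T₁, hT₁H, hT₁p, hT₁rel, heq⟩ := hc
  have hT₁syl : IsSylowIn p T₁ H := isSylowIn_of_not_dvd_relIndex hT₁H hT₁p hT₁rel
  obtain ⟨c, hcH, hcN⟩ := hT₁syl.conj hN
  have hcjH : cj c H = H := cj_eq_of_mem_normalizer (Subgroup.le_normalizer hcH)
  have hNeq : N = cj c T₁ := hcN
  have hterm : ∀ W ∈ 𝓦, cj c (T₁ ⊓ ⁅H ⊓ Subgroup.normalizer ((W T₁ : Subgroup G) : Set G),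
        H ⊓ Subgroup.normalizer ((W T₁ : Subgroup G) : Set G)⁆) =
      N ⊓ ⁅H ⊓ Subgroup.normalizer ((W N : Subgroup G) : Set G),
        H ⊓ Subgroup.normalizer ((W N : Subgroup G) : Set G)⁆ := by
    intro W hW
    have hWN : W N = cj c (W T₁) := by
      rw [hcN]; exact (h𝓦 W hW T₁ hT₁p).2.2 c
    have hM : H ⊓ Subgroup.normalizer ((W N : Subgroup G) : Set G) =
        cj c (H ⊓ Subgroup.normalizer ((W T₁ : Subgroup G) : Set G)) := by
      rw [cj_inf, hcjH, cj_normalizer, hWN]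
    rw [cj_inf, cj_commutator, ← hM, ← hNeq]
  calc N ⊓ ⁅H, H⁆ = cj c T₁ ⊓ cj c ⁅H, H⁆ := by rw [cj_commutator, hcjH, hNeq]
    _ = cj c (T₁ ⊓ ⁅H, H⁆) := (cj_inf c _ _).symm
    _ = cj c (⨆ W ∈ 𝓦, T₁ ⊓ ⁅H ⊓ Subgroup.normalizer ((W T₁ : Subgroup G) : Set G),
          H ⊓ Subgroup.normalizer ((W T₁ : Subgroup G) : Set G)⁆) := by rw [heq]
    _ = ⨆ W ∈ 𝓦, cj c (T₁ ⊓ ⁅H ⊓ Subgroup.normalizer ((W T₁ : Subgroup G) : Set G),
          H ⊓ Subgroup.normalizer ((W T₁ : Subgroup G) : Set G)⁆) := cj_iSup₂ c _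
    _ = _ := biSup_congr hterm

/-- a whole chain stays in the target. -/
theorem chain_le (m : ℕ)
    (hPP : ∀ T ∈ F0 S, T ≠ ⊥ → m < Nat.card ↥T → DD S T ≤ tgt S 𝓦)
    (l : List (Subgroup G × G)) :
    ∀ A : Set G, m < A.ncard → A ⊆ ((S : Subgroup G) : Set G) → DecL (F0 S) l A →
      ∀ a ∈ A, a⁻¹ * ((prodL l)⁻¹ * a * prodL l) ∈ tgt S 𝓦 := by
  induction l with
  | nil =>
    intro A _ _ _ a _
    simp
  | cons c l ih =>
    obtain ⟨T, x⟩ := c
    rintro A hm hAS ⟨hT, hx, hA, hdec⟩ a ha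
    have hrcT : rc x A ⊆ (T : Set G) := by
      rw [← rc_normalizer hx]; exact rc_mono x hA
    have h2 := ih (rc x A) (by rw [ncard_rc]; exact hm) (fun b hb => hT.1 (hrcT hb)) hdec
      (x⁻¹ * a * x) ⟨a, ha, rfl⟩
    have hmT : m < Nat.card ↥T := by
      rw [card_eq_ncard]
      exact lt_of_lt_of_le hm (Set.ncard_le_ncard hA (Set.toFinite _))
    have h1 : a⁻¹ * (x⁻¹ * a * x) ∈ tgt S 𝓦 := by
      by_cases hne : T = ⊥
      · have : a = 1 := by
          have := hA ha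
          rw [hne] at this
          exact this
        rw [this]; simp
      · apply hPP T hT hne hmT
        have haT : a ∈ T := hA ha
        have hxa : x⁻¹ * a * x ∈ T := hrcT ⟨a, ha, rfl⟩
        have hTN : T ≤ Subgroup.normalizer (T : Set G) := Subgroup.le_normalizer
        refine Subgroup.mem_inf.2 ⟨Subgroup.mem_inf.2 ⟨?_, ?_⟩, ?_⟩
        · exact hT.1 (T.mul_mem (T.inv_mem haT) hxa)
        · exact hTN (T.mul_mem (T.inv_mem haT) hxa)
        · have e : a⁻¹ * (x⁻¹ * a * x) = ⁅a⁻¹, x⁻¹⁆ := by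
            rw [commutatorElement_def]; group
          rw [e]
          exact Subgroup.commutator_mem_commutator (hTN (T.inv_mem haT)) (Subgroup.inv_mem _ hx)
    rw [prodL_cons]
    have e : a⁻¹ * ((x * prodL l)⁻¹ * a * (x * prodL l)) =
        (a⁻¹ * (x⁻¹ * a * x)) * ((x⁻¹ * a * x)⁻¹ * ((prodL l)⁻¹ * (x⁻¹ * a * x) * prodL l)) := by
      group
    rw [e]
    exact Subgroup.mul_mem _ h1 h2

theorem conj_le (m : ℕ)
    (hPP : ∀ T ∈ F0 S, T ≠ ⊥ → m < Nat.card ↥T → DD S T ≤ tgt S 𝓦) (A : Set G) (g : G)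
    (hm : m < A.ncard) (hA : A ⊆ ((S : Subgroup G) : Set G)) (hgA : rc g A ⊆ ((S : Subgroup G) : Set G)) :
    ∀ a ∈ A, a⁻¹ * (g⁻¹ * a * g) ∈ tgt S 𝓦 := by
  obtain ⟨l, hl, hdec⟩ := Cfsg.Agent.S1965.main S (F0 S) (fun U hU => hU.1)
    (fun T hT => by
      obtain ⟨g, hg1, hg2, -⟩ := extremal S T hT
      exact ⟨cj g T, mem_F0_of_extremal S hg1 hg2, ⟨g, rfl⟩, not_dvd_relIndex_of_isSylowIn hg2⟩)
    _ A g hA hgA rfl
  have := chain_le S m hPP l A hm hA hdec
  rwa [hl] at this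

theorem big (h𝓦 : ∀ W ∈ 𝓦, IsConjugacyFunctor p W)
    (hloc : ∀ T : Subgroup G, T ≤ (S : Subgroup G) → T ≠ ⊥ →
      ¬ p ∣ ((S : Subgroup G) ⊓ Subgroup.normalizer ((T : Subgroup G) : Set G)).relIndex
        (Subgroup.normalizer ((T : Subgroup G) : Set G)) →
      FamilyControlsTransferIn p 𝓦 (Subgroup.normalizer ((T : Subgroup G) : Set G))) :
    ∀ (k : ℕ) (U : Subgroup G), U ∈ F0 S → U ≠ ⊥ →
      Nat.card ↥(S : Subgroup G) - Nat.card ↥(NS S U) = k → DD S U ≤ tgt S 𝓦 := by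
  intro k
  induction k using Nat.strong_induction_on with
  | _ k ih =>
  intro U hU hne hk
  have hRS : NS S U ≤ (S : Subgroup G) := inf_le_left
  have hUR : U ≤ NS S U := le_inf hU.1 Subgroup.le_normalizer
  have hRne : NS S U ≠ ⊥ := fun h => hne (le_bot_iff.mp (h ▸ hUR))
  have hRp : IsPGroup p ↥(NS S U) := isPGroup_NS S U
  have hcardle : ∀ T : Subgroup G, T ≤ (S : Subgroup G) → Nat.card ↥T ≤ Nat.card ↥(S : Subgroup G) :=
    fun T hT => Nat.le_of_dvd Nat.card_pos (Subgroup.card_dvd_of_le hT)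
  have hPPm : ∀ T ∈ F0 S, T ≠ ⊥ → Nat.card ↥(NS S U) < Nat.card ↥T → DD S T ≤ tgt S 𝓦 := by
    intro T hT hTne hlt
    have hTN : T ≤ NS S T := le_inf hT.1 Subgroup.le_normalizer
    have h1 : Nat.card ↥T ≤ Nat.card ↥(NS S T) :=
      Nat.le_of_dvd Nat.card_pos (Subgroup.card_dvd_of_le hTN)
    have h2 : Nat.card ↥(NS S T) ≤ Nat.card ↥(S : Subgroup G) := hcardle _ inf_le_left
    exact ih (Nat.card ↥(S : Subgroup G) - Nat.card ↥(NS S T)) (by omega) T hT hTne rfl
  have hsyl : IsSylowIn p (NS S U) (Subgroup.normalizer ((U : Subgroup G) : Set G)) :=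
    isSylowIn_of_not_dvd_relIndex inf_le_right hRp hU.2
  have hc := hloc U hU.1 hne hU.2
  have heq := family_transfer_any_sylow h𝓦 hc hsyl
  unfold DD
  rw [heq]
  apply iSup₂_le
  intro W hW
  have hWc := h𝓦 W hW
  by_cases hRS' : NS S U = (S : Subgroup G)
  · rw [hRS']
    refine le_trans ?_ (le_iSup₂ (f := fun W (_ : W ∈ 𝓦) => (S : Subgroup G) ⊓
      ⁅Subgroup.normalizer ((W (S : Subgroup G) : Subgroup G) : Set G),
        Subgroup.normalizer ((W (S : Subgroup G) : Subgroup G) : Set G)⁆) W hW)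
    exact inf_le_inf_left _ (Subgroup.commutator_mono inf_le_right inf_le_right)
  · have hV := hWc (NS S U) hRp
    have hVne : W (NS S U) ≠ ⊥ := hV.2.1 hRne
    have hVS : W (NS S U) ≤ (S : Subgroup G) := hV.1.trans hRS
    have hNN : NS S (NS S U) ≤ NS S (W (NS S U)) := by
      refine le_inf inf_le_left ?_
      intro x hx
      have h3 := hV.2.2 x
      have h4 : cj x (NS S U) = NS S U := cj_eq_of_mem_normalizer hx.2
      unfold cj at h4
      rw [h4] at h3
      apply mem_normalizer_of_conj_mem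
      intro r hr
      rw [h3]
      exact conj_mem_map_conj _ x hr
    have hlt : NS S U < NS S (NS S U) := exists_mem_normalizer_not_mem S hRS hRS'
    have hRV : NS S U ≤ NS S (W (NS S U)) := hlt.le.trans hNN
    have hcardlt : Nat.card ↥(NS S U) < Nat.card ↥(NS S (W (NS S U))) := by
      rw [card_eq_ncard, card_eq_ncard]
      exact Set.ncard_lt_ncard (SetLike.coe_ssubset_coe.mpr (lt_of_lt_of_le hlt hNN)) (Set.toFinite _)
    obtain ⟨g, hg1, hg2, hg3⟩ := extremal S (W (NS S U)) hVS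
    have hV'F : cj g (W (NS S U)) ∈ F0 S := mem_F0_of_extremal S hg1 hg2
    have hcard' : Nat.card ↥(NS S U) < Nat.card ↥(NS S (cj g (W (NS S U)))) := by
      have : Nat.card ↥(cj g (NS S (W (NS S U)))) ≤ Nat.card ↥(NS S (cj g (W (NS S U)))) :=
        Nat.le_of_dvd Nat.card_pos (Subgroup.card_dvd_of_le hg3)
      rw [card_cj] at this
      omega
    have hV'ne : cj g (W (NS S U)) ≠ ⊥ := by
      intro h
      apply hVne
      have := card_cj g (W (NS S U))
      rw [h, Subgroup.card_bot] at this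
      exact (Subgroup.card_eq_one).mp this.symm
    have hPPV' : DD S (cj g (W (NS S U))) ≤ tgt S 𝓦 := by
      have h2 : Nat.card ↥(NS S (cj g (W (NS S U)))) ≤ Nat.card ↥(S : Subgroup G) :=
        hcardle _ inf_le_left
      exact ih (Nat.card ↥(S : Subgroup G) - Nat.card ↥(NS S (cj g (W (NS S U))))) (by omega) _
        hV'F hV'ne rfl
    intro d hd
    have hdR : d ∈ NS S U := hd.1
    have hdV : d ∈ NS S (W (NS S U)) := hRV hdR
    have hdc : d ∈ ⁅Subgroup.normalizer ((W (NS S U) : Subgroup G) : Set G),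
        Subgroup.normalizer ((W (NS S U) : Subgroup G) : Set G)⁆ :=
      Subgroup.commutator_mono inf_le_right inf_le_right hd.2
    -- the conjugate of d lies in DD of the extremal conjugate
    have h1 : g * d * g⁻¹ ∈ DD S (cj g (W (NS S U))) := by
      refine Subgroup.mem_inf.2 ⟨hg3 (conj_mem_map_conj _ g hdV), ?_⟩
      rw [← cj_normalizer, ← cj_commutator]
      exact conj_mem_map_conj _ g hdc
    have h2 : d⁻¹ * (g⁻¹⁻¹ * d * g⁻¹) ∈ tgt S 𝓦 := by
      apply conj_le S (Nat.card ↥(NS S U)) hPPm ((NS S (W (NS S U)) : Subgroup G) : Set G) g⁻¹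
      · rw [← card_eq_ncard]; exact hcardlt
      · exact fun a ha => (inf_le_left : NS S (W (NS S U)) ≤ _) ha
      · rintro _ ⟨a, ha, rfl⟩
        rw [inv_inv]
        exact (inf_le_left : NS S (cj g (W (NS S U))) ≤ _) (hg3 (conj_mem_map_conj _ g ha))
      · exact hdV
    rw [inv_inv] at h2
    have e : d = (g * d * g⁻¹) * (d⁻¹ * (g * d * g⁻¹))⁻¹ := by group
    rw [e]
    exact Subgroup.mul_mem _ (hPPV' h1) (Subgroup.inv_mem _ h2)

end

/-- Let p be a prime, G a finite group with Sylow p-subgroup S, and 𝓦 a set of conjugacy functors for p on G. Suppose that 𝓦 controls transfer in N_G(T) for every nonidentity subgroup T of S for which N_S(T) is a Sylow p-subgroup of N_G(T): for a Sylow p-subgroup T' of N_G(T), the intersection of T' with the derived subgroup of N_G(T) is generated by its intersections with the derived subgroups of the normalizers in N_G(T) of the W(T'), W ∈ 𝓦. Then 𝓦 controls transfer in G: S ∩ G' is generated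 by the subgroups S ∩ (N_G(W(S)))', W ∈ 𝓦. -/
theorem result {G : Type*} [Group G] [Finite G] {p : ℕ} [Fact p.Prime] (S : Sylow p G) (𝓦 : Set (Subgroup G → Subgroup G)) (h𝓦 : ∀ W ∈ 𝓦, Cfsg.IsConjugacyFunctor p W) (hloc : ∀ T : Subgroup G, T ≤ (S : Subgroup G) → T ≠ ⊥ → ¬ p ∣ ((S : Subgroup G) ⊓ Subgroup.normalizer ((T : Subgroup G) : Set G)).relIndex (Subgroup.normalizer ((T : Subgroup G) : Set G)) → Cfsg.FamilyControlsTransferIn p 𝓦 (Subgroup.normalizer ((T : Subgroup G) : Set G))) : Cfsg.FamilyControlsTransferIn p 𝓦 ⊤ := by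
  refine ⟨(S : Subgroup G), le_top, S.isPGroup', ?_, ?_⟩
  · rw [Subgroup.relIndex_top_right]
    exact S.not_dvd_index
  · simp only [top_inf_eq]
    apply le_antisymm
    · have hfoc : (S : Subgroup G) ⊓ ⁅(⊤ : Subgroup G), ⊤⁆ = (S : Subgroup G).focalSubgroup := by
        rw [inf_comm, ← commutator_def]
        exact Subgroup.commutator_inf_eq_focalSubgroup S
      rw [hfoc, Subgroup.focalSubgroup_def, Subgroup.closure_le]
      rintro g ⟨hgS, x, hxS, u, rfl⟩
      have hA : ({x⁻¹} : Set G) ⊆ ((S : Subgroup G) : Set G) := by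
        rintro _ rfl
        exact Subgroup.inv_mem _ hxS
      have hrc : rc u⁻¹ ({x⁻¹} : Set G) ⊆ ((S : Subgroup G) : Set G) := by
        rintro _ ⟨_, rfl, rfl⟩
        have e : u⁻¹⁻¹ * x⁻¹ * u⁻¹ = x⁻¹ * ⁅x, u⁆ := by
          rw [commutatorElement_def]; group
        show u⁻¹⁻¹ * x⁻¹ * u⁻¹ ∈ (S : Subgroup G)
        rw [e]
        exact Subgroup.mul_mem _ (Subgroup.inv_mem _ hxS) hgS
      have hPP : ∀ T ∈ F0 S, T ≠ ⊥ → 0 < Nat.card ↥T → DD S T ≤ tgt S 𝓦 :=
        fun T hT hne _ => big S h𝓦 hloc _ T hT hne rfl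
      have := conj_le S 0 hPP ({x⁻¹} : Set G) u⁻¹ (by simp) hA hrc x⁻¹ rfl
      have e : x⁻¹⁻¹ * (u⁻¹⁻¹ * x⁻¹ * u⁻¹) = ⁅x, u⁆ := by
        rw [commutatorElement_def]; group
      rw [e] at this
      exact this
    · apply iSup₂_le
      intro W hW
      exact inf_le_inf_left _ (Subgroup.commutator_mono le_top le_top)

end Cfsg.Agent.S1960
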