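import Mathlib
import Cfsg.Statements.S0136
import Cfsg.Agent.Lib.helper3.Irr7

set_option autoImplicit false
open Cfsg

namespace Cfsg.Agent.S0136

/-- Two elements of a finite group are conjugate if and only if no irreducible complex character separates them. -/
theorem result {G : Type*} [Group G] [Finite G] (g h : G) : IsConj g h ↔ ∀ χ : Cfsg.IrrCharacter G, (χ : G → ℂ) g = (χ : G → ℂ) h := by
  classical
  letI : Fintype G := Fintype.ofFinite G
  constructor
  · intro hgh χ
    have hcf := Cfsg.Agent.Lib.helper3.Irr.isClassFunction_of_isCharacter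
      (Cfsg.Agent.Lib.helper3.Irr.isCharacter_of_isIrrCharacter χ.2)
    exact (Cfsg.Agent.Lib.helper3.Irr.isClassFunction_iff_isConj.mp hcf) g h hgh
  · intro hall
    by_contra hgh
    have h1 := (Cfsg.Agent.Lib.helper3.Irr.column_orthogonality g h).2 hgh
    have h2 := (Cfsg.Agent.Lib.helper3.Irr.column_orthogonality h h).1 (IsConj.refl h)
    have h3 : ∑ χ : Cfsg.IrrCharacter G, (χ : G → ℂ) g * (starRingEnd ℂ) ((χ : G → ℂ) h)
        = ∑ χ : Cfsg.IrrCharacter G, (χ : G → ℂ) h * (starRingEnd ℂ) ((χ : G → ℂ) h) := by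
      apply Finset.sum_congr rfl
      intro χ _
      rw [hall χ]
    rw [h3, h2] at h1
    have : (Nat.card (Subgroup.centralizer ({h} : Set G)) : ℂ) ≠ 0 :=
      Cfsg.Agent.Lib.helper3.IndFun.card_ne_zero_complex _
    exact this h1

end Cfsg.Agent.S0136
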