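import Cfsg.Statements.S1972
import Mathlib
import Cfsg.Agent.Lib.Lead.GTTransfer3
import Cfsg.Agent.Lib.Lead.EngelTransfer

set_option autoImplicit false
set_option linter.style.haveILetI false
open Cfsg

namespace Cfsg.Agent.S1972

universe u
open Cfsg.Agent.Lib.Helper4.GTFus Cfsg.Agent.Lib.Helper4.GTSec Cfsg.Agent.Lib.Helper4.GT2
  Cfsg.Agent.Lib.Lead.GTTransfer Cfsg.Agent.Lib.Lead.EngelTransfer
open scoped commutatorElement

section

variable {p : ℕ} [Fact p.Prime] {W : ∀ (Q : Type u) [Group Q], Subgroup Q}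

theorem h𝓦_single' (hW : Cfsg.IsCharPFunctor.{u} p W) :
    ∀ W' ∈ ({W} : Set (∀ (Q : Type u) [Group Q], Subgroup Q)), Cfsg.IsCharPFunctor.{u} p W' := by
  rintro _ rfl; exact hW

/-- the constrained case, from the Engel condition -/
theorem ft_of_constrained_engel (hW : Cfsg.IsCharPFunctor.{u} p W) (G : Type u) [Group G]
    (X : Type u) [Group X] [Finite X] (hX : IsSec G X)
    (ih : ∀ (Y : Type u) [Group Y] [Finite Y], Nat.card Y < Nat.card X → IsSec G Y →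
      FamilyControlsTransferIn p (Ind ({W} : Set (∀ (Q : Type u) [Group Q], Subgroup Q)) Y) ⊤)
    (hc : Subgroup.centralizer ((Cfsg.pCore p X : Subgroup X) : Set X) ≤ Cfsg.pCore p X)
    (heng : ∀ T : Sylow p X, ¬ (Cfsg.inducedFunctor (G := X) W (T : Subgroup X)).Normal →
      ∃ g : X, g ∈ (T : Subgroup X) ∧ g ∉ Cfsg.pCore p X ∧ ∀ U V : Subgroup X,
        Cfsg.IsChiefFactor U V → U ≤ Cfsg.pCore p X →
        Cfsg.iterCommutator U (Subgroup.zpowers g) (p - 1) ≤ V) :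
    FamilyControlsTransferIn p (Ind ({W} : Set (∀ (Q : Type u) [Group Q], Subgroup Q)) X) ⊤ := by
  have h𝓦 := h𝓦_single' hW
  obtain ⟨S⟩ : Nonempty (Sylow p X) := inferInstance
  haveI hPn : (Cfsg.pCore p X).Normal := Cfsg.Agent.H1.pCore_normal p
  set P := Cfsg.pCore p X with hP
  have hPp : IsPGroup p ↥P := Cfsg.Agent.H1.pCore_isPGroup p
  have hPS : P ≤ (S : Subgroup X) := hPp.le_sylow_of_normal S
  have hPcore : ∀ Q : Subgroup X, Q.Normal → IsPGroup p ↥Q → Q ≤ P :=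
    fun Q hQn hQp => Cfsg.Agent.H1.le_pCore hQn hQp
  apply ft_of_ctl S
  have hsub : ∀ L : Subgroup X, L ≠ ⊤ → (S : Subgroup X) ≤ L →
      (S : Subgroup X) ⊓ ⁅L, L⁆ ≤
        Foc ({W} : Set (∀ (Q : Type u) [Group Q], Subgroup Q)) X (S : Subgroup X) ⊤ := by
    intro L hL hSL
    have h1 : Nat.card ↥L < Nat.card X := by
      refine lt_of_le_of_ne (Nat.le_of_dvd Nat.card_pos (Subgroup.card_subgroup_dvd_card L)) ?_
      intro h
      exact hL ((Subgroup.card_eq_iff_eq_top L).mp h)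
    exact le_foc_of_subgroup h𝓦 S L hSL (ih ↥L h1 (isSec_sub G X L hX))
  have key : P ⊓ ⁅(⊤ : Subgroup X), ⊤⁆ ≤
      Foc ({W} : Set (∀ (Q : Type u) [Group Q], Subgroup Q)) X (S : Subgroup X) ⊤ := by
    by_cases hWn : (Cfsg.inducedFunctor (G := X) W (S : Subgroup X)).Normal
    · have h1 := le_foc (𝓦 := ({W} : Set (∀ (Q : Type u) [Group Q], Subgroup Q))) X
        (S : Subgroup X) ⊤ (W := W) rfl
      rw [Subgroup.normalizer_eq_top, top_inf_eq] at h1
      exact (inf_le_inf_right _ hPS).trans h1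
    · obtain ⟨u, huS, huP, hu⟩ := heng S hWn
      set 𝒱 : Set X := {v | v ∈ (S : Subgroup X) ∧ Eng p P v} with h𝒱
      have h𝒱S : 𝒱 ⊆ (S : Subgroup X) := fun v hv => hv.1
      have h𝒱conj : ∀ v ∈ 𝒱, ∀ g : X, g⁻¹ * v * g ∈ (S : Subgroup X) → g⁻¹ * v * g ∈ 𝒱 := by
        intro v hv g hg
        refine ⟨hg, ?_⟩
        have := hv.2.conj g⁻¹
        rwa [inv_inv] at this
      have h𝒱inv : ∀ v ∈ 𝒱, v⁻¹ ∈ 𝒱 := fun v hv => ⟨Subgroup.inv_mem _ hv.1, hv.2.inv⟩
      have h𝒱eng : ∀ v ∈ 𝒱, Eng p P v := fun v hv => hv.2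
      have hu𝒱 : u ∈ 𝒱 := ⟨huS, hu⟩
      have hA := inf_commutator_le_of_engel S P hPp hPS 𝒱 h𝒱S h𝒱conj h𝒱inv h𝒱eng
      have hSM := sylow_le_normalizer_closure S 𝒱 h𝒱S h𝒱conj
      have hMne : Subgroup.normalizer ((Subgroup.closure 𝒱 : Subgroup X) : Set X) ≠ ⊤ := by
        intro h
        rw [Subgroup.normalizer_eq_top_iff] at h
        apply huP
        have hES : Subgroup.closure 𝒱 ≤ (S : Subgroup X) := (Subgroup.closure_le _).mpr h𝒱S
        exact hPcore _ h (S.isPGroup'.to_le hES) (Subgroup.subset_closure hu𝒱)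
      intro x hx
      have hx' : x ∈ P ⊓ commutator X := hx
      exact hsub _ hMne hSM ⟨hPS hx.1, hA hx'⟩
  by_cases hne : P = (S : Subgroup X)
  · exact (inf_le_inf_right _ (le_of_eq hne.symm)).trans key
  · have hPbot : P ≠ ⊥ := by
      intro hb
      apply hne
      rw [hb] at hc ⊢
      have h1 : (⊤ : Subgroup X) ≤ ⊥ := by
        refine le_trans ?_ hc
        intro x _
        rw [Subgroup.mem_centralizer_iff]
        intro y hy
        have : y = 1 := hy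
        rw [this]; simp
      symm
      rw [eq_bot_iff]
      exact le_top.trans h1
    have hq : FamilyControlsTransferIn p
        (Ind ({W} : Set (∀ (Q : Type u) [Group Q], Subgroup Q)) (X ⧸ P)) ⊤ := by
      have h1 : Nat.card (X ⧸ P) < Nat.card X := by
        rw [Subgroup.card_eq_card_quotient_mul_card_subgroup P]
        have h2 : 1 < Nat.card ↥P := (Subgroup.one_lt_card_iff_ne_bot P).mpr hPbot
        have h3 : 0 < Nat.card (X ⧸ P) := Nat.card_pos
        nlinarith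
      exact ih (X ⧸ P) h1 (isSec_quot G X P hX)
    exact (quot_step h𝓦 S P hPp hPS hne hPcore hq hsub).trans (sup_le le_rfl key)

theorem all_sections' (hW : Cfsg.IsCharPFunctor.{u} p W) (G : Type u) [Group G] [Finite G]
    (hloc : ∀ (K R : Subgroup G) [hR : (R.subgroupOf K).Normal], Subgroup.centralizer ((Cfsg.pCore p (↥K ⧸ R.subgroupOf K) : Subgroup (↥K ⧸ R.subgroupOf K)) : Set (↥K ⧸ R.subgroupOf K)) ≤ Cfsg.pCore p (↥K ⧸ R.subgroupOf K) → ∀ T : Sylow p (↥K ⧸ R.subgroupOf K), ¬ (Cfsg.inducedFunctor (G := (↥K ⧸ R.subgroupOf K)) W ((T : Subgroup (↥K ⧸ R.subgroupOf K)))).Normal → ∃ g : (↥K ⧸ R.subgroupOf K), g ∈ (T : Subgroup (↥K ⧸ R.subgroupOf K)) ∧ g ∉ Cfsg.pCore p (↥K ⧸ R.subgroupOf K) ∧ ∀ U V : Subgroup (↥K ⧸ R.subgroupOf K), Cfsg.IsChiefFactor U V → U ≤ Cfsg.pCore p (↥K ⧸ R.subgroupOf K) → Cfsg.iterCommutator U (Subgroup.zpowers g) (p - 1) ≤ V) :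
    ∀ (n : ℕ) (X : Type u) [Group X] [Finite X], Nat.card X = n → IsSec G X →
      FamilyControlsTransferIn p (Ind ({W} : Set (∀ (Q : Type u) [Group Q], Subgroup Q)) X) ⊤ := by
  have h𝓦 := h𝓦_single' hW
  intro n
  induction n using Nat.strong_induction_on with
  | _ n ih =>
  intro X _ _ hn hX
  have ih' : ∀ (Y : Type u) [Group Y] [Finite Y], Nat.card Y < Nat.card X → IsSec G Y →
      FamilyControlsTransferIn p (Ind ({W} : Set (∀ (Q : Type u) [Group Q], Subgroup Q)) Y) ⊤ :=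
    fun Y _ _ hY hYs => ih _ (hn ▸ hY) Y rfl hYs
  refine main_step h𝓦 G X hX ih' (fun hc => ?_)
  obtain ⟨K, R, hR, ⟨e⟩⟩ := isSec_equiv G X hX
  haveI := hR
  have hc₀ := constrained_equiv e hc
  have hX₀ : IsSec G (↥K ⧸ R.subgroupOf K) := isSec_quot G ↥K _ (isSec_sub G G K (isSec_self G))
  have hcard : Nat.card (↥K ⧸ R.subgroupOf K) = Nat.card X := (Nat.card_congr e.toEquiv).symm
  have h1 := ft_of_constrained_engel hW G (↥K ⧸ R.subgroupOf K) hX₀
    (fun Y _ _ hY hYs => ih' Y (hcard ▸ hY) hYs) hc₀ (hloc K R hc₀)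
  exact ft_equiv h𝓦 e.symm h1

end

/-- Let p be a prime, G a finite group and W an isomorphism-invariant p-group functor (W assigns to every group Q a subgroup W(Q), nontrivial whenever Q is a nontrivial finite p-group, and every isomorphism from a finite p-group Q onto a group R carries W(Q) onto W(R)). Suppose that whenever G* = K/R is a section of G with C_{G*}(O_p(G*)) ≤ O_p(G*) and S* is a Sylow p-subgroup of G* with W(S*) not normal in G*, there is an element g of S* outside O_p(G*) such that [X, g, …, g] ≤ Y with p − 1 entries g, for every chief factor X/Y of G* with X ≤ O_p(G*). Then W controls transfer in every section of G. -/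
theorem result {G : Type u} [Group G] [Finite G] {p : ℕ} [Fact p.Prime] (W : ∀ (Q : Type u) [Group Q], Subgroup Q) (hW : Cfsg.IsCharPFunctor.{u} p W) (hloc : ∀ (K R : Subgroup G) [hR : (R.subgroupOf K).Normal], Subgroup.centralizer ((Cfsg.pCore p (↥K ⧸ R.subgroupOf K) : Subgroup (↥K ⧸ R.subgroupOf K)) : Set (↥K ⧸ R.subgroupOf K)) ≤ Cfsg.pCore p (↥K ⧸ R.subgroupOf K) → ∀ T : Sylow p (↥K ⧸ R.subgroupOf K), ¬ (Cfsg.inducedFunctor (G := (↥K ⧸ R.subgroupOf K)) W ((T : Subgroup (↥K ⧸ R.subgroupOf K)))).Normal → ∃ g : (↥K ⧸ R.subgroupOf K), g ∈ (T : Subgroup (↥K ⧸ R.subgroupOf K)) ∧ g ∉ Cfsg.pCore p (↥K ⧸ R.subgroupOf K) ∧ ∀ U V : Subgroup (↥K ⧸ R.subgroupOf K), Cfsg.IsChiefFactor U V → U ≤ Cfsg.pCore p (↥K ⧸ R.subgroupOf K) → Cfsg.iterCommutator U (Subgroup.zpowers g) (p - 1) ≤ V) : ∀ (K R : Subgroup G) [hR : (R.subgroupOf K).Normal], Cfsg.ControlsTransferIn p (Cfsg.inducedFunctor (G := (↥K ⧸ R.subgroupOf K)) W) ⊤ := by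
  intro K R hR
  have hX₀ : IsSec G (↥K ⧸ R.subgroupOf K) := isSec_quot G ↥K _ (isSec_sub G G K (isSec_self G))
  obtain ⟨T, hT1, hTp, hTidx, heq⟩ := all_sections' hW G hloc _ (↥K ⧸ R.subgroupOf K) rfl hX₀
  refine ⟨T, hT1, hTp, hTidx, ?_⟩
  rw [foc_eq] at heq
  rw [heq]
  unfold Foc
  rw [iSup_singleton]

end Cfsg.Agent.S1972
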