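import Cfsg.Statements.S1061
import Cfsg.Agent.Lib.Helper5.Chev.PcD4
import Cfsg.Agent.Lib.Helper5.Chev.HCardAll
import Cfsg.Agent.Lib.Helper5.Chev.HsD4

open Cfsg.Lie Cfsg.Agent.Lib.Helper5.Chev

set_option autoImplicit false
open Cfsg

namespace Cfsg.Agent.S1061

/-- `gcd(2, q-1)² · |D₄(q)| = q¹² (q² - 1)(q⁴ - 1)(q⁴ - 1)(q⁶ - 1)`. -/
theorem result {F : Type*} [Field F] [Fintype F] {q : ℕ} (hq : Fintype.card F = q) : Nat.gcd 2 (q - 1) ^ 2 * Nat.card ↥(Cfsg.Lie.chevD4.group F) = q ^ 12 * (q ^ 2 - 1) * (q ^ 4 - 1) * (q ^ 4 - 1) * (q ^ 6 - 1) := by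
  obtain ⟨h1, h2⟩ := cox_of_check DataD4.fd BsD4.Bs CxD4.mLL CxD4.cox
  have hN : Nat.card F = q := by rw [Nat.card_eq_fintype_card, hq]
  have hH : Nat.gcd 2 (Nat.card F - 1) ^ 2 * Nat.card (chevD4.diagonalSubgroup F) = (Nat.card F - 1) ^ 4 := by
    rw [Nat.card_eq_fintype_card (α := F)]
    exact card_diagonal_D4
  have h := card_group_final (F := F) (D := chevD4) (by simp) DataD4.agrees BsD4.Bs CxD4.mLL
    HsD4.reflBs' h1 h2 HsD4.gH HsD4.baseH _ HsD4.rbH HsD4.base_simple PcD4.ch PcD4.ok PcD4.hall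
    (Nat.gcd 2 (Nat.card F - 1) ^ 2) 4 hH [2, 4, 4, 6] (by decide) PcD4.hpoly
  rw [hN] at h
  have e : chevD4.nroots / 2 = 12 := by decide
  rw [e] at h
  simp only [List.map_cons, List.map_nil, List.prod_cons, List.prod_nil, mul_one, one_mul] at h
  rw [h]
  ring

end Cfsg.Agent.S1061
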