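import Cfsg.Statements.S0298
import Mathlib
import Cfsg.Agent.H9.Adj3

set_option autoImplicit false
open Cfsg

namespace Cfsg.Agent.S0298

/-- PΩ_3(q) is isomorphic to PSL_2(q) for q odd. -/
theorem result {F : Type*} [Field F] [Fintype F] (hodd : Odd (Fintype.card F)) : Nonempty (Cfsg.POmega F (Cfsg.quadFormOdd 1 F) ≃* Matrix.ProjectiveSpecialLinearGroup (Fin 2) F) := by
  classical
  have hΩ := Cfsg.Agent.H9.Adj.Omega_eq_range hodd
  let RS : Matrix.SpecialLinearGroup (Fin 2) F →* Cfsg.isometryGroup F (Cfsg.quadFormOdd 1 F) :=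
    Cfsg.Agent.H9.Adj.RS
  let e1 : Matrix.ProjectiveSpecialLinearGroup (Fin 2) F ≃* RS.range :=
    (QuotientGroup.quotientMulEquivOfEq Cfsg.Agent.H9.Adj.RS_ker.symm).trans
      (QuotientGroup.quotientKerEquivRange RS)
  let e2 : Cfsg.Omega F (Cfsg.quadFormOdd 1 F) ≃* RS.range := MulEquiv.subgroupCongr hΩ
  let e : Cfsg.Omega F (Cfsg.quadFormOdd 1 F) ≃* Matrix.ProjectiveSpecialLinearGroup (Fin 2) F :=
    e2.trans e1.symm
  have hcen : Subgroup.center (Cfsg.Omega F (Cfsg.quadFormOdd 1 F)) = ⊥ := by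
    rw [eq_bot_iff]
    intro x hx
    rw [Subgroup.mem_bot]
    have h1 : e x ∈ Subgroup.center (Matrix.ProjectiveSpecialLinearGroup (Fin 2) F) := by
      rw [Subgroup.mem_center_iff] at hx ⊢
      intro y
      obtain ⟨z, rfl⟩ := e.surjective y
      rw [← map_mul, ← map_mul, hx z]
    rw [Cfsg.Agent.H9.Adj.center_PSL2, Subgroup.mem_bot] at h1
    exact e.injective (h1.trans (map_one e).symm)
  exact ⟨((QuotientGroup.quotientMulEquivOfEq hcen).trans QuotientGroup.quotientBot).trans e⟩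

end Cfsg.Agent.S0298
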