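import Cfsg.Statements.S1060
import Cfsg.Agent.Lib.Helper5.Chev.PcB2
import Cfsg.Agent.Lib.Helper5.Chev.HCardAll
import Cfsg.Agent.Lib.Helper5.Chev.HsB2

open Cfsg.Lie Cfsg.Agent.Lib.Helper5.Chev

set_option autoImplicit false
open Cfsg

namespace Cfsg.Agent.S1060

/-- `gcd(2, q-1) · |B₂(q)| = q⁴ (q² - 1)(q⁴ - 1)`. -/
theorem result {F : Type*} [Field F] [Fintype F] {q : ℕ} (hq : Fintype.card F = q) : Nat.gcd 2 (q - 1) * Nat.card ↥(Cfsg.Lie.chevB2.group F) = q ^ 4 * (q ^ 2 - 1) * (q ^ 4 - 1) := by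
  obtain ⟨h1, h2⟩ := cox_of_check DataB2.fd BsB2.Bs CxB2.mLL CxB2.cox
  have hN : Nat.card F = q := by rw [Nat.card_eq_fintype_card, hq]
  have hH : Nat.gcd 2 (Nat.card F - 1) * Nat.card (chevB2.diagonalSubgroup F) = (Nat.card F - 1) ^ 2 := by
    rw [Nat.card_eq_fintype_card (α := F)]
    exact card_diagonal_B2
  have h := card_group_final (F := F) (D := chevB2) (by simp) DataB2.agrees BsB2.Bs CxB2.mLL
    HsB2.reflBs' h1 h2 HsB2.gH HsB2.baseH _ HsB2.rbH HsB2.base_simple PcB2.ch PcB2.ok PcB2.hall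
    (Nat.gcd 2 (Nat.card F - 1)) 2 hH [2, 4] (by decide) PcB2.hpoly
  rw [hN] at h
  have e : chevB2.nroots / 2 = 4 := by decide
  rw [e] at h
  simp only [List.map_cons, List.map_nil, List.prod_cons, List.prod_nil, mul_one, one_mul] at h
  rw [h]
  ring

end Cfsg.Agent.S1060
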