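import Cfsg.Statements.S1224
import Mathlib
import Cfsg.Agent.Lib.Lead.StrEmb2

set_option autoImplicit false
open Cfsg

namespace Cfsg.Agent.S1224

open Cfsg.Agent.Lib.Lead



/-- Let H be a strongly embedded subgroup of the finite group G and x ≠ y two cosets in G/H. Then the number of involutions i of G with i • x = y equals the number of involutions lying in H. -/
theorem result {G : Type*} [Group G] [Finite G] (H : Subgroup G) (hH : Cfsg.IsStronglyEmbedded H) (x y : G ⧸ H) (hxy : x ≠ y) : Nat.card {i : G // orderOf i = 2 ∧ i • x = y} = Nat.card {t : G // orderOf t = 2 ∧ t ∈ H} := by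
  classical
  haveI := Fintype.ofFinite G
  haveI := Fintype.ofFinite (G ⧸ H)
  -- involutions
  obtain ⟨I, hmemI⟩ : ∃ I : Finset G, ∀ u : G, u ∈ I ↔ orderOf u = 2 :=
    ⟨Finset.univ.filter (fun u => orderOf u = 2), fun u => by simp⟩
  set m : ℕ := (I.filter (fun t => t ∈ H)).card with hm
  -- involutions in a point stabilizer
  have hstab : ∀ z : G ⧸ H, (I.filter (fun u => u • z = z)).card = m := by
    intro z
    induction z using QuotientGroup.induction_on with | _ g =>
    symm
    apply Finset.card_nbij' (fun t => g * t * g⁻¹) (fun u => g⁻¹ * u * g)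
    · intro t ht
      rw [Finset.mem_coe, Finset.mem_filter, hmemI] at ht ⊢
      refine ⟨?_, ?_⟩
      · have := StrEmb2.orderOf_conj_inv g⁻¹ t
        rw [inv_inv] at this
        rw [this]; exact ht.1
      · rw [StrEmb2.smul_mk_eq_iff]
        have : g⁻¹ * (g * t * g⁻¹) * g = t := by group
        rw [this]; exact ht.2
    · intro u hu
      rw [Finset.mem_coe, Finset.mem_filter, hmemI] at hu ⊢
      refine ⟨(StrEmb2.orderOf_conj_inv g u).trans hu.1, ?_⟩
      exact (StrEmb2.smul_mk_eq_iff u g).mp hu.2
    · intro t _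
      show g⁻¹ * (g * t * g⁻¹) * g = t
      group
    · intro u _
      show g * (g⁻¹ * u * g) * g⁻¹ = u
      group
  have hmpos : 0 < m := by
    obtain ⟨t, htH, ht⟩ := StrEmb2.exists_invol_mem hH
    apply Finset.card_pos.mpr
    exact ⟨t, by rw [Finset.mem_filter, hmemI]; exact ⟨ht, htH⟩⟩
  -- the fixed point map
  have hfixex : ∀ u : G, ∃ z : G ⧸ H, orderOf u = 2 → u • z = z := by
    intro u
    by_cases hu : orderOf u = 2
    · obtain ⟨z, hz⟩ := StrEmb2.exists_fix hH u hu
      exact ⟨z, fun _ => hz⟩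
    · exact ⟨x, fun h => absurd h hu⟩
  choose f hf using hfixex
  have hfiber : ∀ z : G ⧸ H, I.filter (fun u => f u = z) = I.filter (fun u => u • z = z) := by
    intro z
    ext u
    rw [Finset.mem_filter, Finset.mem_filter, hmemI]
    constructor
    · rintro ⟨hu, rfl⟩
      exact ⟨hu, hf u hu⟩
    · rintro ⟨hu, hz⟩
      exact ⟨hu, StrEmb2.fix_unique hH u hu _ _ (hf u hu) hz⟩
  have hcardI : I.card = Fintype.card (G ⧸ H) * m := by
    rw [Finset.card_eq_sum_card_fiberwise (f := f) (s := I) (t := Finset.univ)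
      (fun _ _ => Finset.mem_coe.mpr (Finset.mem_univ _))]
    rw [Finset.sum_congr rfl (fun z _ => by rw [hfiber z, hstab z] : ∀ z ∈ Finset.univ,
      (I.filter (fun u => f u = z)).card = m)]
    rw [Finset.sum_const, smul_eq_mul, Finset.card_univ]
  -- involutions moving `x`
  have hsplit : (I.filter (fun u => u • x ≠ x)).card + m = I.card := by
    rw [← hstab x, add_comm]
    exact Finset.card_filter_add_card_filter_not (s := I) (fun u => u • x = x)
  have hmove : (I.filter (fun u => u • x ≠ x)).card
      = ∑ y ∈ Finset.univ.erase x, (I.filter (fun u => u • x = y)).card := by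
    rw [Finset.card_eq_sum_card_fiberwise (f := fun u => u • x) (s := I.filter (fun u => u • x ≠ x))
      (t := Finset.univ.erase x)]
    · apply Finset.sum_congr rfl
      intro y hy
      congr 1
      ext u
      simp only [Finset.mem_filter]
      constructor
      · rintro ⟨⟨h1, _⟩, h3⟩
        exact ⟨h1, h3⟩
      · rintro ⟨h1, h3⟩
        refine ⟨⟨h1, ?_⟩, h3⟩
        rw [h3]
        exact (Finset.mem_erase.mp hy).1
    · intro u hu
      rw [Finset.mem_coe, Finset.mem_filter] at hu
      rw [Finset.mem_coe, Finset.mem_erase]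
      exact ⟨hu.2, Finset.mem_univ _⟩
  -- lower bound
  have hlower : ∀ y ∈ Finset.univ.erase x, m ≤ (I.filter (fun u => u • x = y)).card := by
    intro y hy
    have hyx : x ≠ y := fun h => (Finset.mem_erase.mp hy).1 h.symm
    -- fix an involution fixing `x`
    have hne : (I.filter (fun u => u • x = x)).Nonempty := by
      apply Finset.card_pos.mp
      rw [hstab x]; exact hmpos
    obtain ⟨t₀, ht₀⟩ := hne
    rw [Finset.mem_filter, hmemI] at ht₀
    have hsw : ∀ s : G, ∃ w : G, (orderOf s = 2 ∧ s • y = y) →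
        (orderOf w = 2 ∧ w • x = y ∧ w * t₀ * w⁻¹ = s) := by
      intro s
      by_cases hs : orderOf s = 2 ∧ s • y = y
      · obtain ⟨w, hw⟩ := StrEmb2.exists_swap hH ht₀.1 hs.1 ht₀.2 hs.2 hyx
        exact ⟨w, fun _ => hw⟩
      · exact ⟨1, fun h => absurd h hs⟩
    choose φ hφ using hsw
    rw [← hstab y]
    apply Finset.card_le_card_of_injOn φ
    · intro s hs
      rw [Finset.mem_coe, Finset.mem_filter, hmemI] at hs ⊢
      exact ⟨(hφ s hs).1, (hφ s hs).2.1⟩
    · intro s hs s' hs' hEq
      rw [Finset.mem_coe, Finset.mem_filter, hmemI] at hs hs'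
      rw [← (hφ s hs).2.2, ← (hφ s' hs').2.2, hEq]
  -- conclude
  have hsum : ∑ y ∈ Finset.univ.erase x, m = ∑ y ∈ Finset.univ.erase x,
      (I.filter (fun u => u • x = y)).card := by
    rw [← hmove, Finset.sum_const, smul_eq_mul, Finset.card_erase_of_mem (Finset.mem_univ x),
      Finset.card_univ]
    have hn : 0 < Fintype.card (G ⧸ H) := Fintype.card_pos_iff.mpr ⟨x⟩
    have h1 : (I.filter (fun u => u • x ≠ x)).card + m = Fintype.card (G ⧸ H) * m := by
      rw [hsplit, hcardI]
    have h2 : Fintype.card (G ⧸ H) * m = (Fintype.card (G ⧸ H) - 1) * m + m := by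
      have : Fintype.card (G ⧸ H) = (Fintype.card (G ⧸ H) - 1) + 1 := by omega
      conv_lhs => rw [this]
      ring
    omega
  have hfinal := (Finset.sum_eq_sum_iff_of_le hlower).mp hsum y
    (Finset.mem_erase.mpr ⟨hxy.symm, Finset.mem_univ _⟩)
  rw [Nat.card_eq_fintype_card, Nat.card_eq_fintype_card, Fintype.card_subtype,
    Fintype.card_subtype]
  have e1 : (Finset.univ.filter (fun i : G => orderOf i = 2 ∧ i • x = y))
      = I.filter (fun u => u • x = y) := by
    ext u; simp [hmemI]
  have e2 : (Finset.univ.filter (fun t : G => orderOf t = 2 ∧ t ∈ H))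
      = I.filter (fun t => t ∈ H) := by
    ext u; simp [hmemI]
  rw [e1, e2, ← hfinal]

end Cfsg.Agent.S1224
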