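import Cfsg.Statements.S1226
import Mathlib
import Cfsg.Agent.Lib.Lead.Conj

set_option autoImplicit false
open Cfsg

namespace Cfsg.Agent.S1226



/-- Let G be a finite group with a Sylow 2-subgroup T that is neither cyclic nor normal, such that the centralizer of every involution is an elementary abelian 2-group. Then N_G(T) is a strongly embedded subgroup of G. -/
theorem result {G : Type*} [Group G] [Finite G] (T : Sylow 2 G) (hnc : ¬ IsCyclic (T : Subgroup G)) (hnn : ¬ (T : Subgroup G).Normal) (hC : ∀ t : G, orderOf t = 2 → IsMulCommutative (Subgroup.centralizer ({t} : Set G)) ∧ ∀ c ∈ Subgroup.centralizer ({t} : Set G), c ^ 2 = 1) : Cfsg.IsStronglyEmbedded (Subgroup.normalizer ((T : Subgroup G) : Set G)) := by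
  classical
  have hT2 : IsPGroup 2 ↥(T : Subgroup G) := T.isPGroup'
  -- `T` is nontrivial
  have hTne : (T : Subgroup G) ≠ ⊥ := by
    intro h
    apply hnc
    rw [h]
    exact inferInstance
  haveI : Nontrivial ↥(T : Subgroup G) := (Subgroup.nontrivial_iff_ne_bot _).2 hTne
  haveI hcn : Nontrivial ↥(Subgroup.center ↥(T : Subgroup G)) := hT2.center_nontrivial
  have h2c : 2 ∣ Nat.card ↥(Subgroup.center ↥(T : Subgroup G)) := by
    have hcp : IsPGroup 2 ↥(Subgroup.center ↥(T : Subgroup G)) := hT2.to_subgroup _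
    obtain ⟨k, hk⟩ := IsPGroup.iff_card.mp hcp
    have hk0 : k ≠ 0 := by
      rintro rfl
      rw [pow_zero] at hk
      have := (Nat.card_eq_one_iff_unique.1 hk).1
      exact not_subsingleton _ this
    rw [hk]; exact dvd_pow_self 2 hk0
  obtain ⟨⟨⟨z, hzT⟩, hzc⟩, hzo⟩ := exists_prime_orderOf_dvd_card' (G := ↥(Subgroup.center ↥(T : Subgroup G))) 2 h2c
  rw [Subgroup.orderOf_mk, Subgroup.orderOf_mk] at hzo
  have h2grp : ∀ t : G, orderOf t = 2 → IsPGroup 2 ↥(Subgroup.centralizer ({t} : Set G)) := by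
    intro t ht c
    refine ⟨1, ?_⟩
    apply Subtype.ext
    have := (hC t ht).2 c c.2
    simpa using this
  have hTleCz : (T : Subgroup G) ≤ Subgroup.centralizer ({z} : Set G) := by
    intro x hx
    rw [Subgroup.mem_centralizer_singleton_iff]
    have := (Subgroup.mem_center_iff.1 hzc) ⟨x, hx⟩
    have h1 : x * z = z * x := congrArg Subtype.val this
    exact h1
  have hCz : Subgroup.centralizer ({z} : Set G) = (T : Subgroup G) := T.is_maximal' (h2grp z hzo) hTleCz
  have hTcomm : ∀ a ∈ (T : Subgroup G), ∀ b ∈ (T : Subgroup G), a * b = b * a := by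
    intro a ha b hb
    have hcm := (hC z hzo).1
    rw [← hCz] at ha hb
    have := hcm.is_comm.comm (⟨a, ha⟩ : ↥(Subgroup.centralizer ({z} : Set G))) ⟨b, hb⟩
    exact congrArg Subtype.val this
  have hCt : ∀ t ∈ (T : Subgroup G), orderOf t = 2 → Subgroup.centralizer ({t} : Set G) = (T : Subgroup G) := by
    intro t htT hto
    apply T.is_maximal' (h2grp t hto)
    intro x hx
    rw [Subgroup.mem_centralizer_singleton_iff]
    exact hTcomm x hx t htT
  set N := Subgroup.normalizer ((T : Subgroup G) : Set G) with hN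
  have hinvT : ∀ t ∈ N, orderOf t = 2 → t ∈ (T : Subgroup G) := by
    intro t htN hto
    have hz : IsPGroup 2 ↥(Subgroup.zpowers t) := by
      apply IsPGroup.of_card (n := 1)
      rw [Nat.card_zpowers, hto, pow_one]
    have hle : Subgroup.zpowers t ≤ Subgroup.normalizer ((T : Subgroup G) : Set G) := by
      rw [Subgroup.zpowers_le]; exact htN
    have hsup : IsPGroup 2 ↥(Subgroup.zpowers t ⊔ (T : Subgroup G) : Subgroup G) :=
      IsPGroup.to_sup_of_normal_right' hz hT2 hle
    have := T.is_maximal' hsup le_sup_right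
    rw [← this]
    exact Subgroup.mem_sup_left (Subgroup.mem_zpowers t)
  refine ⟨?_, ?_, ?_⟩
  · intro h
    exact hnn (Subgroup.normalizer_eq_top_iff.1 h)
  · have h2T : 2 ∣ Nat.card ↥(T : Subgroup G) := by
      obtain ⟨k, hk⟩ := IsPGroup.iff_card.mp hT2
      have hk0 : k ≠ 0 := by
        rintro rfl
        rw [pow_zero, Subgroup.card_eq_one] at hk
        exact hTne hk
      rw [hk]; exact dvd_pow_self 2 hk0
    exact even_iff_two_dvd.2 (dvd_trans h2T (Subgroup.card_dvd_of_le Subgroup.le_normalizer))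
  · intro g hg
    by_contra hodd
    rw [Nat.not_odd_iff_even, even_iff_two_dvd] at hodd
    obtain ⟨⟨t, htD⟩, hto⟩ := exists_prime_orderOf_dvd_card' (G := ↥(N ⊓ N.map (MulAut.conj g).toMonoidHom)) 2 hodd
    rw [Subgroup.orderOf_mk] at hto
    obtain ⟨htN, htg⟩ := htD
    have htg' : g⁻¹ * t * g ∈ N := by
      obtain ⟨y, hy, hyt⟩ := htg
      have : g * y * g⁻¹ = t := hyt
      rw [← this]
      have : g⁻¹ * (g * y * g⁻¹) * g = y := by group
      rw [this]; exact hy
    have hto' : orderOf (g⁻¹ * t * g) = 2 := by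
      rw [Cfsg.Agent.Lib.Lead.Conj.orderOf_conj' g t]; exact hto
    have htT := hinvT t htN hto
    have htT' := hinvT _ htg' hto'
    have hC1 := hCt t htT hto
    have hC2 := hCt _ htT' hto'
    apply hg
    apply Cfsg.Agent.Lib.Lead.Conj.mem_normalizer_of_conj_mem
    intro x hx
    rw [← hC1, Subgroup.mem_centralizer_singleton_iff]
    rw [← hC2, Subgroup.mem_centralizer_singleton_iff] at hx
    -- hx : x * (g⁻¹ * t * g) = g⁻¹ * t * g * x
    calc g * x * g⁻¹ * t = g * (x * (g⁻¹ * t * g)) * g⁻¹ := by group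
      _ = g * (g⁻¹ * t * g * x) * g⁻¹ := by rw [hx]
      _ = t * (g * x * g⁻¹) := by group

end Cfsg.Agent.S1226
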