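import Cfsg.Statements.S1228
import Mathlib
import Cfsg.Agent.Lib.Lead.Zass2

set_option autoImplicit false
open Cfsg

namespace Cfsg.Agent.S1228

open Cfsg.Agent.Lib.Lead



/-- Let G be a finite group with a Sylow 2-subgroup T that is neither cyclic nor normal, such that the centralizer of every involution is an elementary abelian 2-group; put H = N_G(T), let u be an involution outside H and D = H ∩ uHu⁻¹. Then N_G(D) = D ⊔ ⟨u⟩, and a coset gH is fixed by every element of D exactly when gH = H or gH = uH. -/
theorem result {G : Type*} [Group G] [Finite G] (T : Sylow 2 G) (hnc : ¬ IsCyclic (T : Subgroup G)) (hnn : ¬ (T : Subgroup G).Normal) (hC : ∀ t : G, orderOf t = 2 → IsMulCommutative (Subgroup.centralizer ({t} : Set G)) ∧ ∀ c ∈ Subgroup.centralizer ({t} : Set G), c ^ 2 = 1) (u : G) (hu : orderOf u = 2) (huH : u ∉ Subgroup.normalizer ((T : Subgroup G) : Set G)) : Subgroup.normalizer ((Subgroup.normalizer ((T : Subgroup G) : Set G) ⊓ (Subgroup.normalizer ((T : Subgroup G) : Set G)).map (MulAut.conj u).toMonoidHom : Subgroup G) : Set G) = (Subgroup.normalizer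 ((T : Subgroup G) : Set G) ⊓ (Subgroup.normalizer ((T : Subgroup G) : Set G)).map (MulAut.conj u).toMonoidHom) ⊔ Subgroup.zpowers u ∧ ∀ g : G, ((∀ d ∈ Subgroup.normalizer ((T : Subgroup G) : Set G) ⊓ (Subgroup.normalizer ((T : Subgroup G) : Set G)).map (MulAut.conj u).toMonoidHom, d • (QuotientGroup.mk g : G ⧸ Subgroup.normalizer ((T : Subgroup G) : Set G)) = QuotientGroup.mk g) ↔ (QuotientGroup.mk g : G ⧸ Subgroup.normalizer ((T : Subgroup G) : Set G)) = QuotientGroup.mk 1 ∨ (QuotientGroup.mk g : G ⧸ Subgroup.normalizer ((T : Subgroup G) : Set G)) = QuotientGroup.mk u) := by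
  have huu : u * u = 1 := StrEmb2.invol_mul_self hu
  have hun := Zass.u_mem_normalizer_D T hnc hnn hC u hu huH
  refine ⟨?_, ?_⟩
  · apply le_antisymm
    · intro g hg
      rcases Zass.key_decomp T hnc hnn hC u hu huH hg with h | ⟨w, hw, hwN, hDw, hd₀⟩
      · exact Subgroup.mem_sup_left h
      · have hwn : w ∈ Subgroup.normalizer ((Subgroup.normalizer ((T : Subgroup G) : Set G) ⊓
            (Subgroup.normalizer ((T : Subgroup G) : Set G)).map (MulAut.conj u).toMonoidHom :
              Subgroup G) : Set G) := by
          rw [hDw]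
          exact Zass.u_mem_normalizer_D T hnc hnn hC w hw hwN
        have h1 := Zass.mul_invol_mem_D T hnc hnn hC u hu huH hu hw hun hwn
        have e : g = u * ((u * w) * (w⁻¹ * g)) := by
          calc g = (u * u) * g := by rw [huu, one_mul]
            _ = u * ((u * w) * (w⁻¹ * g)) := by group
        rw [e]
        exact Subgroup.mul_mem _ (Subgroup.mem_sup_right (Subgroup.mem_zpowers u))
          (Subgroup.mem_sup_left (Subgroup.mul_mem _ h1 hd₀))
    · apply sup_le Subgroup.le_normalizer
      rw [Subgroup.zpowers_le]
      exact hun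
  · intro g
    constructor
    · intro hfix
      by_cases hgN : g ∈ Subgroup.normalizer ((T : Subgroup G) : Set G)
      · left
        exact QuotientGroup.eq.mpr (by simpa using Subgroup.inv_mem _ hgN)
      · right
        have hz : ((g : G) : G ⧸ Subgroup.normalizer ((T : Subgroup G) : Set G)) ≠
            ((1 : G) : G ⧸ _) := by
          intro h
          apply hgN
          have := QuotientGroup.eq.mp h.symm
          simpa using this
        obtain ⟨w, hw, hwN, hwz⟩ := Zass.exists_invol_swap T hnc hnn hC _ hz
        rw [← hwz] at hfix ⊢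
        have hDw := Zass.D_eq_of_fix T hnc hnn hC u hu huH w hw hwN hfix
        have hwn : w ∈ Subgroup.normalizer ((Subgroup.normalizer ((T : Subgroup G) : Set G) ⊓
            (Subgroup.normalizer ((T : Subgroup G) : Set G)).map (MulAut.conj u).toMonoidHom :
              Subgroup G) : Set G) := by
          rw [hDw]
          exact Zass.u_mem_normalizer_D T hnc hnn hC w hw hwN
        have h1 := Zass.mul_invol_mem_D T hnc hnn hC u hu huH hu hw hun hwn
        have h2 : u⁻¹ * w ∈ Subgroup.normalizer ((T : Subgroup G) : Set G) := by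
          have : u⁻¹ = u := inv_eq_of_mul_eq_one_right huu
          rw [this]
          exact (Subgroup.mem_inf.mp h1).1
        exact (QuotientGroup.eq.mpr h2).symm
    · rintro (h | h)
      · intro d hd
        rw [h, StrEmb2.smul_one_eq_iff]
        exact (Subgroup.mem_inf.mp hd).1
      · intro d hd
        rw [h, ← Zass.mem_map_conj_iff]
        exact (Subgroup.mem_inf.mp hd).2

end Cfsg.Agent.S1228
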