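import Mathlib
import Cfsg.Statements.S3378
import Cfsg.Agent.S3377
import Cfsg.Agent.S0242
import Cfsg.Agent.Lib.Helper5.SLn
import Cfsg.Agent.S3669
import Cfsg.Agent.S0494
import Cfsg.Agent.Lib.Helper4.Simple
import Cfsg.Agent.Lib.Helper4.AltEmbed
import Cfsg.Agent.Lib.Helper4.Sylow
import Cfsg.Agent.H1.Card

set_option autoImplicit false
open Cfsg

namespace Cfsg.Agent.S3378

open Subgroup

/-! ### The bound `|G| ≤ 120` for groups satisfying the relations -/

theorem finite_and_card_le_120 {G : Type*} [Group G] (x y z : G) (hx : x ^ 3 = 1)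
    (hy : y ^ 5 = 1) (hz : z ^ 2 = 1) (hzx : Commute x z) (hzy : Commute y z)
    (hxy : (x * y) ^ 2 = z) (hgen : closure ({x, y, z} : Set G) = ⊤) :
    Finite G ∧ Nat.card G ≤ 120 := by
  have hcomm : ∀ g : G, Commute g z := by
    intro g
    have hg : g ∈ closure ({x, y, z} : Set G) := by rw [hgen]; trivial
    induction hg using closure_induction with
    | mem g hg =>
      simp only [Set.mem_insert_iff, Set.mem_singleton_iff] at hg
      rcases hg with h | h | h
      · rw [h]; exact hzx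
      · rw [h]; exact hzy
      · rw [h]
    | one => exact Commute.one_left z
    | mul a b _ _ iha ihb => exact iha.mul_left ihb
    | inv a _ iha => exact iha.inv_left
  have hN : (zpowers z).Normal := by
    refine ⟨fun n hn g => ?_⟩
    obtain ⟨k, rfl⟩ := mem_zpowers_iff.mp hn
    have : g * z ^ k * g⁻¹ = z ^ k := by
      rw [((hcomm g).zpow_right k).eq, mul_assoc, mul_inv_cancel, mul_one]
    rw [this]
    exact zpow_mem (mem_zpowers z) k
  obtain ⟨π, hπ⟩ : ∃ π : G →* G ⧸ zpowers z, π = QuotientGroup.mk' (zpowers z) := ⟨_, rfl⟩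
  have hπz : π z = 1 := by
    rw [hπ, QuotientGroup.mk'_apply, QuotientGroup.eq_one_iff]
    exact mem_zpowers z
  have hπsurj : Function.Surjective π := by rw [hπ]; exact QuotientGroup.mk'_surjective _
  have hgenQ : closure ({π x, π y} : Set (G ⧸ zpowers z)) = ⊤ := by
    rw [eq_top_iff, ← MonoidHom.range_eq_top.mpr hπsurj, MonoidHom.range_eq_map, ← hgen,
      MonoidHom.map_closure, closure_le]
    rintro _ ⟨g, hg, rfl⟩
    simp only [Set.mem_insert_iff, Set.mem_singleton_iff] at hg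
    rcases hg with h | h | h
    · rw [h]; exact subset_closure (by simp)
    · rw [h]; exact subset_closure (by simp)
    · rw [h, hπz]; exact one_mem _
  obtain ⟨hfinQ, hcardQ⟩ := Cfsg.Agent.S3377.finite_and_card_le (π x) (π y)
    (by rw [← map_pow, hx, map_one]) (by rw [← map_pow, hy, map_one])
    (by rw [← map_mul, ← map_pow, hxy, hπz]) hgenQ
  have hord : orderOf z ∣ 2 := orderOf_dvd_of_pow_eq_one hz
  have hord2 : orderOf z ≤ 2 := Nat.le_of_dvd (by norm_num) hord
  have hord0 : 0 < orderOf z := Nat.pos_of_dvd_of_pos hord (by norm_num)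
  have hfinN : Finite (zpowers z) :=
    (finite_zpowers.mpr (orderOf_pos_iff.mp hord0)).to_subtype
  have hfin : Finite G := Finite.of_equiv _ (groupEquivQuotientProdSubgroup (s := zpowers z)).symm
  refine ⟨hfin, ?_⟩
  rw [card_eq_card_quotient_mul_card_subgroup (zpowers z), Nat.card_zpowers]
  calc Nat.card (G ⧸ zpowers z) * orderOf z ≤ 60 * 2 := Nat.mul_le_mul hcardQ hord2
    _ = 120 := by norm_num

/-! ### The presented group -/

/-- The relators of the statement. -/
abbrev R : Set (FreeGroup (Fin 3)) :=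
  {FreeGroup.of (0 : Fin 3) ^ 3, FreeGroup.of (1 : Fin 3) ^ 5, FreeGroup.of (2 : Fin 3) ^ 2,
        (FreeGroup.of (2 : Fin 3))⁻¹ * FreeGroup.of 0 * FreeGroup.of 2 * (FreeGroup.of (0 : Fin 3))⁻¹,
        (FreeGroup.of (2 : Fin 3))⁻¹ * FreeGroup.of 1 * FreeGroup.of 2 * (FreeGroup.of (1 : Fin 3))⁻¹,
        (FreeGroup.of (0 : Fin 3) * FreeGroup.of 1) ^ 2 * (FreeGroup.of (2 : Fin 3))⁻¹}

theorem closure_P : closure
    ({PresentedGroup.of 0, PresentedGroup.of 1, PresentedGroup.of 2} : Set (PresentedGroup R)) = ⊤ := by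
  rw [← PresentedGroup.closure_range_of]
  congr 1
  ext g
  constructor
  · rintro (rfl | rfl | rfl)
    · exact ⟨0, rfl⟩
    · exact ⟨1, rfl⟩
    · exact ⟨2, rfl⟩
  · rintro ⟨i, rfl⟩
    fin_cases i
    · left; rfl
    · right; left; rfl
    · right; right; rfl

theorem P_rel0 : (PresentedGroup.of 0 : PresentedGroup R) ^ 3 = 1 := by
  have : (PresentedGroup.mk R) (FreeGroup.of (0 : Fin 3) ^ 3) = 1 :=
    PresentedGroup.one_of_mem (by simp)
  rwa [map_pow] at this

theorem P_rel1 : (PresentedGroup.of 1 : PresentedGroup R) ^ 5 = 1 := by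
  have : (PresentedGroup.mk R) (FreeGroup.of (1 : Fin 3) ^ 5) = 1 :=
    PresentedGroup.one_of_mem (by simp)
  rwa [map_pow] at this

theorem P_rel2 : (PresentedGroup.of 2 : PresentedGroup R) ^ 2 = 1 := by
  have : (PresentedGroup.mk R) (FreeGroup.of (2 : Fin 3) ^ 2) = 1 :=
    PresentedGroup.one_of_mem (by simp)
  rwa [map_pow] at this

theorem P_rel3 : Commute (PresentedGroup.of 0 : PresentedGroup R) (PresentedGroup.of 2) := by
  have : (PresentedGroup.mk R) ((FreeGroup.of (2 : Fin 3))⁻¹ * FreeGroup.of 0 * FreeGroup.of 2 *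
      (FreeGroup.of (0 : Fin 3))⁻¹) = 1 :=
    PresentedGroup.one_of_mem (by simp)
  rw [map_mul, map_mul, map_mul, map_inv, map_inv] at this
  have h2 := mul_inv_eq_one.mp this
  have h3 := inv_mul_eq_iff_eq_mul.mp ((mul_assoc _ _ _).symm.trans h2)
  exact h3

theorem P_rel4 : Commute (PresentedGroup.of 1 : PresentedGroup R) (PresentedGroup.of 2) := by
  have : (PresentedGroup.mk R) ((FreeGroup.of (2 : Fin 3))⁻¹ * FreeGroup.of 1 * FreeGroup.of 2 *
      (FreeGroup.of (1 : Fin 3))⁻¹) = 1 :=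
    PresentedGroup.one_of_mem (by simp)
  rw [map_mul, map_mul, map_mul, map_inv, map_inv] at this
  have h2 := mul_inv_eq_one.mp this
  have h3 := inv_mul_eq_iff_eq_mul.mp ((mul_assoc _ _ _).symm.trans h2)
  exact h3

theorem P_rel5 : ((PresentedGroup.of 0 : PresentedGroup R) * PresentedGroup.of 1) ^ 2 =
    PresentedGroup.of 2 := by
  have : (PresentedGroup.mk R) ((FreeGroup.of (0 : Fin 3) * FreeGroup.of 1) ^ 2 *
      (FreeGroup.of (2 : Fin 3))⁻¹) = 1 :=
    PresentedGroup.one_of_mem (by simp)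
  rw [map_mul, map_pow, map_mul, map_inv] at this
  exact mul_inv_eq_one.mp this

theorem P_finite_card : Finite (PresentedGroup R) ∧ Nat.card (PresentedGroup R) ≤ 120 :=
  finite_and_card_le_120 _ _ _ P_rel0 P_rel1 P_rel2 P_rel3 P_rel4 P_rel5 closure_P

/-- Any group generated by `x, y, z` satisfying the relations and of order `120` is isomorphic
to the presented group. -/
theorem nonempty_mulEquiv_P {G : Type*} [Group G] [Finite G] (hcard : Nat.card G = 120)
    (x y z : G) (hx : x ^ 3 = 1)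
    (hy : y ^ 5 = 1) (hz : z ^ 2 = 1) (hzx : Commute x z) (hzy : Commute y z)
    (hxy : (x * y) ^ 2 = z) (hgen : closure ({x, y, z} : Set G) = ⊤) :
    Nonempty (PresentedGroup R ≃* G) := by
  have hrel : ∀ r ∈ R, FreeGroup.lift ![x, y, z] r = 1 := by
    intro r hr
    rcases hr with rfl | rfl | rfl | rfl | rfl | rfl
    · simp [hx]
    · simp [hy]
    · simp [hz]
    · simp only [map_mul, map_inv, FreeGroup.lift_apply_of]
      simp only [Matrix.cons_val_zero, Matrix.cons_val]
      rw [mul_assoc z⁻¹, hzx.eq, ← mul_assoc, inv_mul_cancel, one_mul, mul_inv_cancel]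
    · simp only [map_mul, map_inv, FreeGroup.lift_apply_of]
      simp only [Matrix.cons_val_one, Matrix.cons_val]
      rw [mul_assoc z⁻¹, hzy.eq, ← mul_assoc, inv_mul_cancel, one_mul, mul_inv_cancel]
    · simp only [map_mul, map_inv, map_pow, FreeGroup.lift_apply_of]
      simp only [Matrix.cons_val_zero, Matrix.cons_val_one, Matrix.cons_val]
      rw [hxy, mul_inv_cancel]
  obtain ⟨φ, hφ⟩ : ∃ φ : PresentedGroup R →* G, φ = PresentedGroup.toGroup hrel := ⟨_, rfl⟩
  have h0 : φ (PresentedGroup.of 0) = x := by rw [hφ, PresentedGroup.toGroup.of]; rfl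
  have h1 : φ (PresentedGroup.of 1) = y := by rw [hφ, PresentedGroup.toGroup.of]; rfl
  have h2 : φ (PresentedGroup.of 2) = z := by rw [hφ, PresentedGroup.toGroup.of]; rfl
  have hsurj : Function.Surjective φ := by
    rw [← MonoidHom.range_eq_top, eq_top_iff, ← hgen, closure_le]
    intro g hg
    simp only [Set.mem_insert_iff, Set.mem_singleton_iff] at hg
    rcases hg with h | h | h
    · exact ⟨_, h0.trans h.symm⟩
    · exact ⟨_, h1.trans h.symm⟩
    · exact ⟨_, h2.trans h.symm⟩
  obtain ⟨hfin, hle⟩ := P_finite_card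
  have hbij : Function.Bijective φ :=
    hsurj.bijective_of_nat_card_le (by rw [hcard]; exact hle)
  exact ⟨MulEquiv.ofBijective φ hbij⟩

/-! ### `SL₂(5)` -/

section SL

open Matrix

theorem commutator_le_of_index_two {G : Type*} [Group G] (H : Subgroup G) (h : H.index = 2) :
    commutator G ≤ H := by
  rw [commutator_def, Subgroup.commutator_le]
  intro a _ b _
  rw [commutatorElement_def, mul_mem_iff_of_index_two h, mul_mem_iff_of_index_two h,
    mul_mem_iff_of_index_two h, inv_mem_iff, inv_mem_iff]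
  tauto

/-- An element of order `3`. -/
def mX : SpecialLinearGroup (Fin 2) (ZMod 5) := ⟨!![0, -1; 1, -1], by rw [det_fin_two_of]; decide⟩

/-- An element of order `5`. -/
def mY : SpecialLinearGroup (Fin 2) (ZMod 5) := ⟨!![1, 1; 0, 1], by rw [det_fin_two_of]; decide⟩

/-- The central involution. -/
def mZ : SpecialLinearGroup (Fin 2) (ZMod 5) := ⟨!![-1, 0; 0, -1], by rw [det_fin_two_of]; decide⟩

theorem mX_pow : mX ^ 3 = 1 := by decide

theorem mY_pow : mY ^ 5 = 1 := by decide

theorem mZ_pow : mZ ^ 2 = 1 := by decide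

theorem mXY_pow : (mX * mY) ^ 2 = mZ := by decide

theorem mX_ne : mX ≠ 1 := by decide

theorem mY_ne : mY ≠ 1 := by decide

theorem mZ_ne : mZ ≠ 1 := by decide

theorem mZ_comm (g : SpecialLinearGroup (Fin 2) (ZMod 5)) : Commute g mZ := by
  have : mZ = -1 := by decide
  rw [this]
  exact Commute.neg_one_right g

theorem card_sl : Nat.card (SpecialLinearGroup (Fin 2) (ZMod 5)) = 120 := by
  have hp5 : Fact (Nat.Prime 5) := ⟨by norm_num⟩
  have h := Cfsg.Agent.S0242.result (F := ZMod 5) (q := 5) (ZMod.card 5) 2 (by norm_num)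
  simp only [Fin.prod_univ_two] at h
  norm_num at h
  rw [Nat.card_eq_fintype_card]
  omega

theorem sl_perfect : commutator (SpecialLinearGroup (Fin 2) (ZMod 5)) = ⊤ := by
  have h2 : ∃ x : ZMod 5, x ≠ 0 ∧ x ^ 2 ≠ 1 := ⟨2, by decide, by decide⟩
  have hp5 : Fact (Nat.Prime 5) := ⟨by norm_num⟩
  exact Cfsg.Agent.Lib.Helper5.SLn.commutator_eq_top (Or.inr h2)

theorem sl_closure :
    Subgroup.closure ({mX, mY, mZ} : Set (SpecialLinearGroup (Fin 2) (ZMod 5))) = ⊤ := by
  obtain ⟨H, hH⟩ : ∃ H : Subgroup (SpecialLinearGroup (Fin 2) (ZMod 5)),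
    H = Subgroup.closure ({mX, mY, mZ} : Set (SpecialLinearGroup (Fin 2) (ZMod 5))) := ⟨_, rfl⟩
  rw [← hH]
  have hxm : mX ∈ H := by rw [hH]; exact subset_closure (by simp)
  have hym : mY ∈ H := by rw [hH]; exact subset_closure (by simp)
  have hxym : mX * mY ∈ H := mul_mem hxm hym
  have h3 : 3 ∣ Nat.card H := by
    have := Subgroup.orderOf_dvd_natCard _ hxm
    rwa [orderOf_eq_prime mX_pow mX_ne] at this
  have h5 : 5 ∣ Nat.card H := by
    have hp5 : Fact (Nat.Prime 5) := ⟨by norm_num⟩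
    have := Subgroup.orderOf_dvd_natCard _ hym
    rwa [orderOf_eq_prime mY_pow mY_ne] at this
  have h4 : 4 ∣ Nat.card H := by
    have := Subgroup.orderOf_dvd_natCard _ hxym
    have ho : orderOf (mX * mY) = 2 ^ (1 + 1) := by
      apply orderOf_eq_prime_pow
      · rw [pow_one, mXY_pow]; exact mZ_ne
      · rw [pow_succ, pow_one, pow_mul, mXY_pow, mZ_pow]
    rwa [ho] at this
  have hci := H.card_mul_index
  rw [card_sl] at hci
  have h60 : 60 ∣ Nat.card H := by omega
  obtain ⟨t, ht⟩ := h60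
  have hidx : H.index = 1 ∨ H.index = 2 := by
    rw [ht] at hci
    have : t * H.index = 2 := by
      have : 60 * (t * H.index) = 60 * 2 := by rw [← mul_assoc, hci]
      exact Nat.eq_of_mul_eq_mul_left (by norm_num) this
    have h1 : H.index ∣ 2 := Dvd.intro_left _ this
    have h2 := Nat.le_of_dvd (by norm_num) h1
    have h3 : H.index ≠ 0 := by
      intro h0; rw [h0] at this; omega
    omega
  rcases hidx with h1 | h2
  · exact Subgroup.index_eq_one.mp h1
  · have := commutator_le_of_index_two H h2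
    rw [sl_perfect] at this
    exact top_le_iff.mp this

theorem nonempty_mulEquiv_sl :
    Nonempty (PresentedGroup R ≃* SpecialLinearGroup (Fin 2) (ZMod 5)) :=
  nonempty_mulEquiv_P card_sl mX mY mZ mX_pow mY_pow mZ_pow (mZ_comm _) (mZ_comm _) mXY_pow
    sl_closure

end SL

/-! ### Part 1: non-solvable groups of order `120` with quaternion Sylow `2`-subgroups -/

section Part1

universe u

theorem solvable_of_card_dvd_120 {X : Type u} [Group X] [Finite X] (h : Nat.card X ∣ 120)
    (h60 : Nat.card X ≠ 60) (h120 : Nat.card X ≠ 120) : Group.IsSolvable X := by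
  have hmem : Nat.card X ∈ Nat.divisors 120 := Nat.mem_divisors.mpr ⟨h, by norm_num⟩
  have hdiv : Nat.divisors 120 = {1, 2, 3, 4, 5, 6, 8, 10, 12, 15, 20, 24, 30, 40, 60, 120} := by
    decide
  rw [hdiv] at hmem
  simp only [Finset.mem_insert, Finset.mem_singleton] at hmem
  have B := fun (p q : ℕ) (hp : p.Prime) (hq : q.Prime) (a b : ℕ) (hc : Nat.card X = p ^ a * q ^ b) =>
    Cfsg.Agent.Lib.helper3.Burnside.isSolvable_of_card_eq p q hp hq (Nat.card X) X rfl ⟨a, b, hc⟩
  have S := fun (h1 : Nat.card X ∣ 60) (h2 : Nat.card X ≠ 60) =>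
    Cfsg.Agent.S3669.solvable_of_card_dvd h1 h2
  rcases hmem with h | h | h | h | h | h | h | h | h | h | h | h | h | h | h | h
  · exact S (by rw [h]; norm_num) (by rw [h]; norm_num)
  · exact S (by rw [h]; norm_num) (by rw [h]; norm_num)
  · exact S (by rw [h]; norm_num) (by rw [h]; norm_num)
  · exact S (by rw [h]; norm_num) (by rw [h]; norm_num)
  · exact S (by rw [h]; norm_num) (by rw [h]; norm_num)
  · exact S (by rw [h]; norm_num) (by rw [h]; norm_num)
  · exact B 2 3 Nat.prime_two Nat.prime_three 3 0 (by rw [h]; norm_num)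
  · exact S (by rw [h]; norm_num) (by rw [h]; norm_num)
  · exact S (by rw [h]; norm_num) (by rw [h]; norm_num)
  · exact S (by rw [h]; norm_num) (by rw [h]; norm_num)
  · exact S (by rw [h]; norm_num) (by rw [h]; norm_num)
  · exact B 2 3 Nat.prime_two Nat.prime_three 3 1 (by rw [h]; norm_num)
  · exact S (by rw [h]; norm_num) (by rw [h]; norm_num)
  · exact B 2 5 Nat.prime_two Nat.prime_five 3 1 (by rw [h]; norm_num)
  · exact absurd h h60
  · exact absurd h h120

theorem trichotomy {G : Type u} [Group G] [Finite G] (hcard : Nat.card G = 120)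
    (hns : ¬ Group.IsSolvable G) :
    IsSimpleGroup G ∨
    (∃ N : Subgroup G, N.Normal ∧ Nat.card N = 60 ∧ ¬ Group.IsSolvable N) ∨
    (∃ N : Subgroup G, ∃ _ : N.Normal, Nat.card N = 2 ∧ ¬ Group.IsSolvable (G ⧸ N)) := by
  by_cases hs : IsSimpleGroup G
  · exact Or.inl hs
  right
  have hnt : Nontrivial G := by
    rw [← Finite.one_lt_card_iff_nontrivial, hcard]; norm_num
  have hex : ∃ N : Subgroup G, N.Normal ∧ N ≠ ⊥ ∧ N ≠ ⊤ := by
    by_contra hcon
    apply hs
    refine { exists_pair_ne := hnt.exists_pair_ne, eq_bot_or_eq_top_of_normal := ?_ }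
    intro N hN
    by_contra h2
    rw [not_or] at h2
    exact hcon ⟨N, hN, h2.1, h2.2⟩
  obtain ⟨N, hN, hbot, htop⟩ := hex
  have hmul := Subgroup.card_mul_index N
  rw [hcard] at hmul
  have hNcard : Nat.card N ≠ 120 := by
    intro h
    apply htop
    rw [← Subgroup.card_eq_iff_eq_top, h, hcard]
  have hNcard1 : Nat.card N ≠ 1 := by
    intro h
    exact hbot (Subgroup.card_eq_one.mp h)
  by_cases hNs : Group.IsSolvable N
  · right
    have hQ : ¬ Group.IsSolvable (G ⧸ N) := by
      intro hQs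
      apply hns
      refine Group.isSolvable_of_ker_le_range N.subtype (QuotientGroup.mk' N) ?_
      rw [QuotientGroup.ker_mk', Subgroup.range_subtype]
    have hQcard : Nat.card (G ⧸ N) = 60 := by
      by_contra hne
      apply hQ
      apply solvable_of_card_dvd_120 _ hne
      · rw [← Subgroup.index_eq_card]
        intro h
        rw [h] at hmul
        omega
      · rw [← Subgroup.index_eq_card]; exact Dvd.intro_left _ hmul
    refine ⟨N, hN, ?_, hQ⟩
    rw [← Subgroup.index_eq_card] at hQcard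
    rw [hQcard] at hmul
    omega
  · left
    refine ⟨N, hN, ?_, hNs⟩
    by_contra hne
    exact hNs (solvable_of_card_dvd_120 (Dvd.intro _ hmul) hne hNcard)

theorem q8_exp : ∀ q : QuaternionGroup 2, q ^ 4 = 1 := by decide

theorem q8_invol : ∀ q : QuaternionGroup 2, q ^ 2 = 1 → q = 1 ∨ q = QuaternionGroup.a 2 := by
  decide

theorem a5_exp : ∀ g : alternatingGroup (Fin 5), g ^ 4 = 1 → g ^ 2 = 1 := by decide +kernel

end Part1

section Part1b

universe u

open Cfsg.Agent.Lib.Helper4.Sylow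

theorem card_sylow_two_eq {G : Type u} [Group G] [Finite G]
    (P : Sylow 2 G) (e' : (P : Subgroup G) ≃* QuaternionGroup 2) :
    Nat.card (P : Subgroup G) = 8 := by
  rw [Nat.card_congr e'.toEquiv, Nat.card_eq_fintype_card, QuaternionGroup.card]

/-- In a copy of `Q₈`, an element with `g ^ 2 = 1` is `1` or the distinguished involution. -/
theorem q8_sub {G : Type u} [Group G] (P : Subgroup G) (e' : P ≃* QuaternionGroup 2)
    (g : G) (hg : g ∈ P) (h2 : g ^ 2 = 1) :
    g = 1 ∨ g = ((e'.symm (QuaternionGroup.a 2) : P) : G) := by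
  have h : (e' ⟨g, hg⟩) ^ 2 = 1 := by
    rw [← map_pow]
    have : (⟨g, hg⟩ : P) ^ 2 = 1 := Subtype.ext (by simpa using h2)
    rw [this, map_one]
  rcases q8_invol _ h with h1 | h1
  · left
    have : (⟨g, hg⟩ : P) = 1 := e'.injective (by rw [h1, map_one])
    exact congrArg Subtype.val this
  · right
    have : (⟨g, hg⟩ : P) = e'.symm (QuaternionGroup.a 2) := by
      rw [← h1, MulEquiv.symm_apply_apply]
    exact congrArg Subtype.val this

theorem q8_pow_four {G : Type u} [Group G] (P : Subgroup G) (e' : P ≃* QuaternionGroup 2)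
    (g : G) (hg : g ∈ P) : g ^ 4 = 1 := by
  have h : (e' ⟨g, hg⟩) ^ 4 = 1 := q8_exp _
  rw [← map_pow] at h
  have : (⟨g, hg⟩ : P) ^ 4 = 1 := e'.injective (by rw [h, map_one])
  have := congrArg Subtype.val this
  simpa using this

theorem case_normal60 {G : Type u} [Group G] [Finite G] (hcard : Nat.card G = 120)
    (hQ : ∀ P : Sylow 2 G, Nonempty ((P : Subgroup G) ≃* QuaternionGroup 2))
    (N : Subgroup G) (hN : N.Normal) (hNc : Nat.card N = 60) (hNs : ¬ Group.IsSolvable N) :
    False := by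
  have hsimple : IsSimpleGroup N := Cfsg.Agent.S3669.simple_of_not_solvable hNc hNs
  obtain ⟨e⟩ := Cfsg.Agent.S0494.result (G := N) hNc
  obtain ⟨P⟩ : Nonempty (Sylow 2 G) := inferInstance
  obtain ⟨e'⟩ := hQ P
  have hPc := card_sylow_two_eq P e'
  have hprod := Cfsg.Agent.H1.card_sup_mul_card_inf (P : Subgroup G) N
    (by rw [Subgroup.normalizer_eq_top]; exact le_top)
  rw [hPc, hNc] at hprod
  have hdvd : Nat.card ((P : Subgroup G) ⊔ N : Subgroup G) ∣ 120 :=
    hcard ▸ Subgroup.card_subgroup_dvd_card _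
  have hle : Nat.card ((P : Subgroup G) ⊔ N : Subgroup G) ≤ 120 := Nat.le_of_dvd (by norm_num) hdvd
  have h4 : 4 ≤ Nat.card ((P : Subgroup G) ⊓ N : Subgroup G) := by
    by_contra hlt
    have : Nat.card ((P : Subgroup G) ⊓ N : Subgroup G) ≤ 3 := by omega
    have := Nat.mul_le_mul hle this
    omega
  have hsub : (((P : Subgroup G) ⊓ N : Subgroup G) : Set G) ⊆
      {1, ((e'.symm (QuaternionGroup.a 2) : (P : Subgroup G)) : G)} := by
    intro g hg
    have hgP : g ∈ (P : Subgroup G) := (Subgroup.mem_inf.mp hg).1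
    have hgN : g ∈ N := (Subgroup.mem_inf.mp hg).2
    have hg4 := q8_pow_four _ e' g hgP
    have hg2 : g ^ 2 = 1 := by
      have h1 : (e ⟨g, hgN⟩) ^ 4 = 1 := by
        rw [← map_pow]
        have : (⟨g, hgN⟩ : N) ^ 4 = 1 := Subtype.ext (by simpa using hg4)
        rw [this, map_one]
      have h2 := a5_exp _ h1
      rw [← map_pow] at h2
      have : (⟨g, hgN⟩ : N) ^ 2 = 1 := e.injective (by rw [h2, map_one])
      have := congrArg Subtype.val this
      simpa using this
    rcases q8_sub _ e' g hgP hg2 with h | h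
    · left; exact h
    · right; exact h
  have hcard2 : Nat.card ((P : Subgroup G) ⊓ N : Subgroup G) ≤ 2 := by
    have h1 : Nat.card ((P : Subgroup G) ⊓ N : Subgroup G) =
        Set.ncard (((P : Subgroup G) ⊓ N : Subgroup G) : Set G) := by
      rw [← Nat.card_coe_set_eq]; rfl
    rw [h1]
    refine (Set.ncard_le_ncard hsub (Set.toFinite _)).trans ?_
    refine (Set.ncard_insert_le _ _).trans ?_
    rw [Set.ncard_singleton]
  omega

theorem sylow_count {n : ℕ} (h1 : n ∣ 24) (h2 : n % 5 = 1) (h3 : n ≠ 1) : n = 6 := by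
  have := Nat.le_of_dvd (by norm_num) h1
  interval_cases n <;> omega

theorem case_simple {G : Type u} [Group G] [Finite G] (hcard : Nat.card G = 120)
    [IsSimpleGroup G] : False := by
  classical
  have hp5 : Fact (Nat.Prime 5) := ⟨by norm_num⟩
  have hG120 : Nat.card G = 5 ^ 1 * 24 := by rw [hcard]; norm_num
  have hnd : ¬ 5 ∣ 24 := by norm_num
  have hdvd : Nat.card (Sylow 5 G) ∣ 24 := card_sylow_dvd_of_card_eq hG120 hnd
  have hmod : Nat.card (Sylow 5 G) ≡ 1 [MOD 5] := card_sylow_modEq_one 5 G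
  obtain ⟨P⟩ : Nonempty (Sylow 5 G) := inferInstance
  have hPc : Nat.card P = 5 ^ 1 := card_sylow_of_card_eq hG120 hnd P
  have hne1 : Nat.card (Sylow 5 G) ≠ 1 :=
    card_sylow_ne_one_of_simple P (by rw [hPc]; norm_num) (by rw [hPc, hcard]; norm_num)
  have h6 : Nat.card (Sylow 5 G) = 6 := sylow_count hdvd hmod hne1
  obtain ⟨H, hHdef⟩ : ∃ H : Subgroup G, H = Subgroup.normalizer ((P : Subgroup G) : Set G) :=
    ⟨_, rfl⟩
  have hidx : H.index = 6 := by
    have h := P.card_eq_index_normalizer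
    rw [h6] at h
    rw [hHdef]
    exact h.symm
  have hH : H ≠ ⊤ := by
    intro h
    rw [h, Subgroup.index_top] at hidx
    omega
  have hG2 : 2 < Nat.card G := by rw [hcard]; norm_num
  have hfin : Fintype (G ⧸ H) := Fintype.ofFinite _
  obtain ⟨hinj, hrange⟩ := Cfsg.Agent.Lib.Helper4.AltEmbed.toPermHom_injective_and_range_le hG2 H hH
  have hX : Nat.card (G ⧸ H) = 6 := by rw [← Subgroup.index_eq_card]; exact hidx
  have hXnt : Nontrivial (G ⧸ H) := by
    rw [← Finite.one_lt_card_iff_nontrivial, hX]; norm_num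
  have hA : Nat.card (alternatingGroup (G ⧸ H)) = 360 := by
    rw [nat_card_alternatingGroup, hX]; rfl
  have hAs : IsSimpleGroup (alternatingGroup (G ⧸ H)) :=
    alternatingGroup.isSimpleGroup (by rw [hX]; norm_num)
  obtain ⟨K, hKdef⟩ : ∃ K : Subgroup (alternatingGroup (G ⧸ H)),
      K = (MulAction.toPermHom G (G ⧸ H)).range.subgroupOf (alternatingGroup (G ⧸ H)) := ⟨_, rfl⟩
  have hKc : Nat.card K = 120 := by
    rw [hKdef, Nat.card_congr (Subgroup.subgroupOfEquivOfLe hrange).toEquiv,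
      ← Nat.card_congr (MonoidHom.ofInjective hinj).toEquiv, hcard]
  have hKtop : K ≠ ⊤ := by
    intro h
    rw [h, Subgroup.card_top, hA] at hKc
    omega
  have hKidx : K.index = 3 := by
    have := K.card_mul_index
    rw [hKc, hA] at this
    omega
  have := Cfsg.Agent.Lib.Helper4.Simple.two_mul_card_dvd_factorial_of_simple
    (by rw [hA]; norm_num) K hKtop
  rw [hKidx, hA] at this
  have h3 : Nat.factorial 3 = 6 := rfl
  rw [h3] at this
  have := Nat.le_of_dvd (by norm_num) this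
  omega

end Part1b

section Part1c

universe u

theorem a5_closure : Subgroup.closure
    ({Cfsg.Agent.S3377.ax', Cfsg.Agent.S3377.ay'} : Set (alternatingGroup (Fin 5))) = ⊤ := by
  have h := Cfsg.Agent.S3377.phi_surjective
  rw [← MonoidHom.range_eq_top, MonoidHom.range_eq_map, ← Cfsg.Agent.S3377.closure_P,
    MonoidHom.map_closure, Set.image_pair, Cfsg.Agent.S3377.phi_x, Cfsg.Agent.S3377.phi_y] at h
  exact h

theorem case_central {G : Type u} [Group G] [Finite G] (hcard : Nat.card G = 120)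
    (hQ : ∀ P : Sylow 2 G, Nonempty ((P : Subgroup G) ≃* QuaternionGroup 2))
    (N : Subgroup G) (hN : N.Normal) (hNc : Nat.card N = 2)
    (hQs : ¬ Group.IsSolvable (G ⧸ N)) :
    Nonempty (PresentedGroup R ≃* G) := by
  have hQc : Nat.card (G ⧸ N) = 60 := by
    have := Subgroup.card_mul_index N
    rw [hcard, hNc] at this
    rw [← Subgroup.index_eq_card]
    omega
  have hsimple : IsSimpleGroup (G ⧸ N) := Cfsg.Agent.S3669.simple_of_not_solvable hQc hQs
  obtain ⟨e⟩ := Cfsg.Agent.S0494.result (G := G ⧸ N) hQc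
  obtain ⟨ε, hε⟩ : ∃ ε : G →* alternatingGroup (Fin 5),
      ε = e.toMonoidHom.comp (QuotientGroup.mk' N) := ⟨_, rfl⟩
  have hεsurj : Function.Surjective ε := by
    rw [hε]
    exact e.surjective.comp (QuotientGroup.mk'_surjective N)
  have hεker : ∀ g : G, ε g = 1 ↔ g ∈ N := by
    intro g
    rw [hε]
    simp only [MonoidHom.coe_comp, MulEquiv.coe_toMonoidHom, Function.comp_apply,
      QuotientGroup.mk'_apply, MulEquiv.map_eq_one_iff, QuotientGroup.eq_one_iff]
  obtain ⟨z, hz1, hzu⟩ := (Nat.card_eq_two_iff' (1 : N)).mp hNc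
  have hNmem : ∀ g ∈ N, g = 1 ∨ g = (z : G) := by
    intro g hg
    by_cases h1 : g = 1
    · left; exact h1
    · right
      have : (⟨g, hg⟩ : N) ≠ 1 := by
        intro h
        exact h1 (congrArg Subtype.val h)
      have := hzu _ this
      exact congrArg Subtype.val this
  have hzN : (z : G) ∈ N := z.2
  have hzne : (z : G) ≠ 1 := by
    intro h
    exact hz1 (Subtype.ext h)
  have hz2 : (z : G) ^ 2 = 1 := by
    rcases hNmem _ (pow_mem hzN 2) with h | h
    · exact h
    · exfalso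
      rw [pow_two] at h
      exact hzne (mul_left_cancel (h.trans (mul_one _).symm))
  have hzc : ∀ g : G, Commute g (z : G) := by
    intro g
    rcases hNmem _ (hN.conj_mem _ hzN g) with h | h
    · exfalso
      apply hzne
      have : (z : G) = g⁻¹ * (g * z * g⁻¹) * g := by group
      rw [this, h]; group
    · have : g * z = g * z * g⁻¹ * g := by group
      rw [Commute, SemiconjBy, this, h]
  have hεz : ε (z : G) = 1 := (hεker _).mpr hzN
  obtain ⟨x₀, hx₀⟩ := hεsurj Cfsg.Agent.S3377.ax'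
  obtain ⟨y₀, hy₀⟩ := hεsurj Cfsg.Agent.S3377.ay'
  obtain ⟨x, hx3, hxε⟩ : ∃ x : G, x ^ 3 = 1 ∧ ε x = Cfsg.Agent.S3377.ax' := by
    have hmem : x₀ ^ 3 ∈ N := by rw [← hεker, map_pow, hx₀, Cfsg.Agent.S3377.ax'_pow]
    rcases hNmem _ hmem with h | h
    · exact ⟨x₀, h, hx₀⟩
    · refine ⟨x₀ * z, ?_, ?_⟩
      · rw [(hzc x₀).mul_pow, h]
        have : (z : G) * (z : G) ^ 3 = ((z : G) ^ 2) ^ 2 := by rw [← pow_mul, ← pow_succ']
        rw [this, hz2, one_pow]
      · rw [map_mul, hx₀, hεz, mul_one]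
  obtain ⟨y, hy5, hyε⟩ : ∃ y : G, y ^ 5 = 1 ∧ ε y = Cfsg.Agent.S3377.ay' := by
    have hmem : y₀ ^ 5 ∈ N := by rw [← hεker, map_pow, hy₀, Cfsg.Agent.S3377.ay'_pow]
    rcases hNmem _ hmem with h | h
    · exact ⟨y₀, h, hy₀⟩
    · refine ⟨y₀ * z, ?_, ?_⟩
      · rw [(hzc y₀).mul_pow, h]
        have : (z : G) * (z : G) ^ 5 = ((z : G) ^ 2) ^ 3 := by rw [← pow_mul, ← pow_succ']
        rw [this, hz2, one_pow]
      · rw [map_mul, hy₀, hεz, mul_one]
  have hxy_mem : (x * y) ^ 2 ∈ N := by
    rw [← hεker, map_pow, map_mul, hxε, hyε, Cfsg.Agent.S3377.axy'_pow]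
  have hεxy : ε (x * y) ≠ 1 := by
    rw [map_mul, hxε, hyε]
    exact Cfsg.Agent.S3377.axy'_ne
  rcases hNmem _ hxy_mem with h | h
  · exfalso
    have hu1 : x * y ≠ 1 := by
      intro h1
      apply hεxy
      rw [h1, map_one]
    have huz : x * y ≠ (z : G) := by
      intro h1
      apply hεxy
      rw [h1, hεz]
    have hpu : IsPGroup 2 (Subgroup.zpowers (x * y)) := by
      apply IsPGroup.of_card (n := 1)
      rw [Nat.card_zpowers, pow_one]
      exact orderOf_eq_prime h hu1
    have hpN : IsPGroup 2 N := IsPGroup.of_card (n := 1) (by rw [hNc, pow_one])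
    have hpsup : IsPGroup 2 (Subgroup.zpowers (x * y) ⊔ N : Subgroup G) :=
      IsPGroup.to_sup_of_normal_right hpu hpN
    obtain ⟨P, hP⟩ := hpsup.exists_le_sylow
    have huP : x * y ∈ (P : Subgroup G) :=
      hP (Subgroup.mem_sup_left (Subgroup.mem_zpowers _))
    have hzP : (z : G) ∈ (P : Subgroup G) := hP (Subgroup.mem_sup_right hzN)
    obtain ⟨e'⟩ := hQ P
    rcases q8_sub _ e' _ huP h with h1 | h1
    · exact hu1 h1
    · rcases q8_sub _ e' _ hzP hz2 with h2 | h2
      · exact hzne h2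
      · exact huz (h1.trans h2.symm)
  · apply nonempty_mulEquiv_P hcard x y (z : G) hx3 hy5 hz2 (hzc x) (hzc y) h
    rw [eq_top_iff]
    intro g _
    obtain ⟨K, hK⟩ : ∃ K : Subgroup G, K = Subgroup.closure ({x, y, (z : G)} : Set G) := ⟨_, rfl⟩
    rw [← hK]
    have hxK : x ∈ K := by rw [hK]; exact Subgroup.subset_closure (by simp)
    have hyK : y ∈ K := by rw [hK]; exact Subgroup.subset_closure (by simp)
    have hzK : (z : G) ∈ K := by rw [hK]; exact Subgroup.subset_closure (by simp)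
    have hmap : K.map ε = ⊤ := by
      rw [eq_top_iff, ← a5_closure, Subgroup.closure_le]
      intro a ha
      simp only [Set.mem_insert_iff, Set.mem_singleton_iff] at ha
      rcases ha with ha | ha
      · rw [ha]; exact ⟨x, hxK, hxε⟩
      · rw [ha]; exact ⟨y, hyK, hyε⟩
    have : ε g ∈ K.map ε := by rw [hmap]; trivial
    obtain ⟨k, hk, hkg⟩ := this
    have hmemN : k⁻¹ * g ∈ N := by
      rw [← hεker, map_mul, map_inv, hkg, inv_mul_cancel]
    have hkK : k⁻¹ * g ∈ K := by
      rcases hNmem _ hmemN with h1 | h1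
      · rw [h1]; exact one_mem _
      · rw [h1]; exact hzK
    have : g = k * (k⁻¹ * g) := by group
    rw [this]
    exact mul_mem hk hkK

end Part1c

/-- A non-solvable group of order 120 with quaternion Sylow 2-subgroups is isomorphic to SL(2,5), and SL(2,5) ≅ ⟨x, y, z : x^3 = y^5 = z^2 = 1, z central, (xy)^2 = z⟩. -/
theorem result :
    (∀ (G : Type*) [Group G] [Finite G], Nat.card G = 120 → ¬ Group.IsSolvable G →
      (∀ P : Sylow 2 G, Nonempty ((P : Subgroup G) ≃* QuaternionGroup 2)) →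
      Nonempty (G ≃* Matrix.SpecialLinearGroup (Fin 2) (ZMod 5))) ∧
    Nonempty (PresentedGroup ({FreeGroup.of (0 : Fin 3) ^ 3, FreeGroup.of (1 : Fin 3) ^ 5, FreeGroup.of (2 : Fin 3) ^ 2,
        (FreeGroup.of (2 : Fin 3))⁻¹ * FreeGroup.of 0 * FreeGroup.of 2 * (FreeGroup.of (0 : Fin 3))⁻¹,
        (FreeGroup.of (2 : Fin 3))⁻¹ * FreeGroup.of 1 * FreeGroup.of 2 * (FreeGroup.of (1 : Fin 3))⁻¹,
        (FreeGroup.of (0 : Fin 3) * FreeGroup.of 1) ^ 2 * (FreeGroup.of (2 : Fin 3))⁻¹} : Set (FreeGroup (Fin 3)))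
      ≃* Matrix.SpecialLinearGroup (Fin 2) (ZMod 5)) := by
  obtain ⟨f⟩ := nonempty_mulEquiv_sl
  refine ⟨?_, ⟨f⟩⟩
  intro G _ _ hcard hns hQ
  rcases trichotomy hcard hns with hs | ⟨N, hN, hNc, hNs⟩ | ⟨N, hN, hNc, hQs⟩
  · exact (case_simple hcard).elim
  · exact (case_normal60 hcard hQ N hN hNc hNs).elim
  · obtain ⟨e⟩ := case_central hcard hQ N hN hNc hQs
    exact ⟨e.symm.trans f⟩

end Cfsg.Agent.S3378
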