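import Cfsg.Statements.S0734
import Mathlib

set_option autoImplicit false
open Cfsg

namespace Cfsg.Agent.S0734

open MulAction
open scoped Pointwise

/-- Higman's criterion for primitivity: a transitive action on a finite set is primitive if and only if every non-trivial orbital graph (edges = images of a fixed pair of distinct points) is connected. -/
theorem result {G : Type*} [Group G] {Ω : Type*} [Finite Ω] [MulAction G Ω] [MulAction.IsPretransitive G Ω] [Nontrivial Ω] : MulAction.IsPreprimitive G Ω ↔ ∀ a b : Ω, a ≠ b → (SimpleGraph.fromRel fun x y : Ω => ∃ g : G, g • a = x ∧ g • b = y).Connected := by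
  constructor
  · -- primitive implies connected
    intro hprim a b hab
    set Γ := SimpleGraph.fromRel fun x y : Ω => ∃ g : G, g • a = x ∧ g • b = y with hΓ
    have hadj : ∀ (g : G) (x y : Ω), Γ.Adj x y → Γ.Adj (g • x) (g • y) := by
      intro g x y hxy
      rw [hΓ, SimpleGraph.fromRel_adj] at hxy ⊢
      obtain ⟨hne, h⟩ := hxy
      refine ⟨fun h' => hne (MulAction.injective g h'), ?_⟩
      rcases h with ⟨k, hk1, hk2⟩ | ⟨k, hk1, hk2⟩
      · left; exact ⟨g * k, by rw [mul_smul, hk1], by rw [mul_smul, hk2]⟩
      · right; exact ⟨g * k, by rw [mul_smul, hk1], by rw [mul_smul, hk2]⟩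
    have hreach : ∀ (g : G) (x y : Ω), Γ.Reachable x y → Γ.Reachable (g • x) (g • y) := by
      intro g x y hxy
      rw [SimpleGraph.reachable_iff_reflTransGen] at hxy ⊢
      induction hxy with
      | refl => exact Relation.ReflTransGen.refl
      | tail _ h2 ih => exact Relation.ReflTransGen.tail ih (hadj g _ _ h2)
    set B : Set Ω := {x | Γ.Reachable a x} with hB
    have hsub : ∀ g : G, Γ.Reachable a (g • a) → g • B ⊆ B := by
      intro g hg y hy
      obtain ⟨x, hx, rfl⟩ := hy
      exact hg.trans (hreach g a x hx)
    have hblock : IsBlock G B := by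
      rw [isBlock_iff_smul_eq_of_mem]
      intro g x hx hgx
      have hga : Γ.Reachable a (g • a) := by
        have h1 : Γ.Reachable (g • a) (g • x) := hreach g a x hx
        exact (hgx : Γ.Reachable a (g • x)).trans h1.symm
      apply le_antisymm (hsub g hga)
      have hga' : Γ.Reachable a (g⁻¹ • a) := by
        have h1 := hreach g⁻¹ a (g • a) hga
        rw [inv_smul_smul] at h1
        exact h1.symm
      have h2 := hsub g⁻¹ hga'
      intro y hy
      exact ⟨g⁻¹ • y, h2 ⟨y, hy, rfl⟩, smul_inv_smul g y⟩
    have haB : a ∈ B := SimpleGraph.Reachable.refl a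
    have hbB : b ∈ B := by
      apply SimpleGraph.Adj.reachable
      rw [hΓ, SimpleGraph.fromRel_adj]
      exact ⟨hab, Or.inl ⟨1, one_smul _ _, one_smul _ _⟩⟩
    rcases hprim.isTrivialBlock_of_isBlock hblock with h | h
    · exact absurd (h haB hbB) hab
    · rw [SimpleGraph.connected_iff_exists_forall_reachable]
      refine ⟨a, fun w => ?_⟩
      have : w ∈ B := by rw [h]; trivial
      exact this
  · -- connected implies primitive
    intro hconn
    refine { isTrivialBlock_of_isBlock := ?_ }
    intro B hB
    by_cases hsub : B.Subsingleton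
    · exact Or.inl hsub
    right
    rw [Set.not_subsingleton_iff] at hsub
    obtain ⟨a, ha, b, hb, hab⟩ := hsub
    have hc := hconn a b hab
    rw [Set.eq_univ_iff_forall]
    intro x
    have hr := hc.preconnected a x
    rw [SimpleGraph.reachable_iff_reflTransGen] at hr
    induction hr with
    | refl => exact ha
    | tail _ h2 ih =>
      rw [SimpleGraph.fromRel_adj] at h2
      obtain ⟨_, h⟩ := h2
      rcases h with ⟨g, hg1, hg2⟩ | ⟨g, hg1, hg2⟩
      · have hgB : g • B = B := hB.smul_eq_of_mem ha (by rw [hg1]; exact ih)
        rw [← hgB, ← hg2]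
        exact Set.smul_mem_smul_set hb
      · have hgB : g • B = B := hB.smul_eq_of_mem hb (by rw [hg2]; exact ih)
        rw [← hgB, ← hg1]
        exact Set.smul_mem_smul_set ha

end Cfsg.Agent.S0734
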