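import Cfsg.Statements.S4602
import Mathlib
import Cfsg.Agent.Lib.Lead.PSolvable

set_option autoImplicit false
open Cfsg

namespace Cfsg.Agent.S4602

open Cfsg.Agent.Lib.Lead.PSolvable

theorem eq_one_of_pow_pow {H : Type*} [Group H] {p q : ℕ} (hp : p.Prime) (hq : q.Prime) (hpq : p ≠ q)
    {z : H} {j k : ℕ} (h1 : z ^ p ^ j = 1) (h2 : z ^ q ^ k = 1) : z = 1 := by
  have d1 := orderOf_dvd_of_pow_eq_one h1
  have d2 := orderOf_dvd_of_pow_eq_one h2
  have hc : (p ^ j).Coprime (q ^ k) := Nat.Coprime.pow j k ((Nat.coprime_primes hp hq).2 hpq)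
  exact orderOf_eq_one_iff.1 (Nat.eq_one_of_dvd_coprimes hc d1 d2)

/-- Let G be a finite p-solvable group and q a prime different from p. Some Sylow p-subgroup of G normalizes some Sylow q-subgroup of G if and only if q does not divide the order of G/O_{p'}(G), the quotient by the largest normal subgroup of order prime to p. -/
theorem result {G : Type*} [Group G] [Finite G] (p q : ℕ) [Fact p.Prime] [Fact q.Prime] (hpq : p ≠ q) (hsolv : Cfsg.IsPSolvable p G) :
    (∃ (P : Sylow p G) (Q : Sylow q G), (P : Subgroup G) ≤ Subgroup.normalizer ((Q : Subgroup G) : Set G)) ↔ ¬ q ∣ (Cfsg.pPrimeCore p G).index := by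
  have hp : p.Prime := Fact.out
  have hq : q.Prime := Fact.out
  haveI hKn : (Cfsg.pPrimeCore p G).Normal := Cfsg.Agent.H1.pPrimeCore_normal p
  have hKc : (Nat.card ↥(Cfsg.pPrimeCore p G)).Coprime p := Cfsg.Agent.H1.pPrimeCore_coprime p
  constructor
  · rintro ⟨P, Q, hPQ⟩
    have hsolq : Cfsg.IsPSolvable p (G ⧸ Cfsg.pPrimeCore p G) := IsPSolvable.quotient _ hsolv
    have hbot : Cfsg.pPrimeCore p (G ⧸ Cfsg.pPrimeCore p G) = ⊥ := Cfsg.Agent.H2.pPrimeCore_quotient_eq_bot p
    have hHH := centralizer_pCore_le hsolq hbot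
    have hsurj : Function.Surjective (QuotientGroup.mk' (Cfsg.pPrimeCore p G)) :=
      QuotientGroup.mk'_surjective _
    haveI hRn : (Cfsg.pCore p (G ⧸ Cfsg.pPrimeCore p G)).Normal := Cfsg.Agent.H1.pCore_normal p
    have hRp : IsPGroup p ↥(Cfsg.pCore p (G ⧸ Cfsg.pPrimeCore p G)) := Cfsg.Agent.H1.pCore_isPGroup p
    have hRP : Cfsg.pCore p (G ⧸ Cfsg.pPrimeCore p G) ≤ (P : Subgroup G).map (QuotientGroup.mk' _) := by
      have := Cfsg.Agent.H1.pCore_le_sylow (P.mapSurjective hsurj)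
      rwa [Sylow.coe_mapSurjective] at this
    have hQK : (Q : Subgroup G) ≤ Cfsg.pPrimeCore p G := by
      intro x hx
      obtain ⟨k, hk⟩ := Q.isPGroup' ⟨x, hx⟩
      have hxk : x ^ q ^ k = 1 := by
        have := congrArg Subtype.val hk
        simpa using this
      have hxbar : QuotientGroup.mk' (Cfsg.pPrimeCore p G) x ∈
          Subgroup.centralizer ((Cfsg.pCore p (G ⧸ Cfsg.pPrimeCore p G) : Subgroup _) : Set _) := by
        rw [Subgroup.mem_centralizer_iff]
        intro ybar hybar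
        obtain ⟨y, hyP, rfl⟩ := hRP hybar
        -- the commutator
        have hcQ : y * x * y⁻¹ * x⁻¹ ∈ (Q : Subgroup G) :=
          mul_mem ((Subgroup.mem_normalizer_iff.1 (hPQ hyP) x).1 hx) (inv_mem hx)
        obtain ⟨k', hk'⟩ := Q.isPGroup' ⟨_, hcQ⟩
        have hck : (y * x * y⁻¹ * x⁻¹) ^ q ^ k' = 1 := by
          have := congrArg Subtype.val hk'
          simpa using this
        have hcR : QuotientGroup.mk' (Cfsg.pPrimeCore p G) (y * x * y⁻¹ * x⁻¹) ∈
            Cfsg.pCore p (G ⧸ Cfsg.pPrimeCore p G) := by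
          have h1 : QuotientGroup.mk' (Cfsg.pPrimeCore p G) x * (QuotientGroup.mk' (Cfsg.pPrimeCore p G) y)⁻¹ *
              (QuotientGroup.mk' (Cfsg.pPrimeCore p G) x)⁻¹ ∈ Cfsg.pCore p (G ⧸ Cfsg.pPrimeCore p G) :=
            hRn.conj_mem _ (inv_mem hybar) _
          have h2 := mul_mem hybar h1
          have e : QuotientGroup.mk' (Cfsg.pPrimeCore p G) (y * x * y⁻¹ * x⁻¹) =
              QuotientGroup.mk' (Cfsg.pPrimeCore p G) y * (QuotientGroup.mk' (Cfsg.pPrimeCore p G) x *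
                (QuotientGroup.mk' (Cfsg.pPrimeCore p G) y)⁻¹ *
                (QuotientGroup.mk' (Cfsg.pPrimeCore p G) x)⁻¹) := by
            simp only [map_mul, map_inv, mul_assoc]
          rw [e]; exact h2
        obtain ⟨j, hj⟩ := hRp ⟨_, hcR⟩
        have hcj : (QuotientGroup.mk' (Cfsg.pPrimeCore p G) (y * x * y⁻¹ * x⁻¹)) ^ p ^ j = 1 := by
          have := congrArg Subtype.val hj
          simpa using this
        have hc1 : QuotientGroup.mk' (Cfsg.pPrimeCore p G) (y * x * y⁻¹ * x⁻¹) = 1 :=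
          eq_one_of_pow_pow hp hq hpq hcj (by rw [← map_pow, hck, map_one])
        have hc2 : y * x * y⁻¹ * x⁻¹ ∈ Cfsg.pPrimeCore p G := (QuotientGroup.eq_one_iff _).1 hc1
        rw [← map_mul, ← map_mul]
        apply (QuotientGroup.eq).2
        -- `(y * x)⁻¹ * (x * y) ∈ K`
        have h3 := hKn.conj_mem _ (inv_mem hc2) (y * x)⁻¹
        have e : (y * x)⁻¹ * (y * x * y⁻¹ * x⁻¹)⁻¹ * ((y * x)⁻¹)⁻¹ = (y * x)⁻¹ * (x * y) := by group
        rwa [e] at h3
      have hxR := hHH hxbar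
      obtain ⟨j, hj⟩ := hRp ⟨_, hxR⟩
      have hxj : (QuotientGroup.mk' (Cfsg.pPrimeCore p G) x) ^ p ^ j = 1 := by
        have := congrArg Subtype.val hj
        simpa using this
      have hx1 : QuotientGroup.mk' (Cfsg.pPrimeCore p G) x = 1 :=
        eq_one_of_pow_pow hp hq hpq hxj (by rw [← map_pow, hxk, map_one])
      exact (QuotientGroup.eq_one_iff _).1 hx1
    intro hdvd
    exact Q.not_dvd_index (dvd_trans hdvd (Subgroup.index_dvd_of_le hQK))
  · intro hq'
    obtain ⟨Q₀⟩ : Nonempty (Sylow q ↥(Cfsg.pPrimeCore p G)) := inferInstance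
    have hfr := Sylow.normalizer_sup_eq_top Q₀
    set Q₁ : Subgroup G := (Q₀ : Subgroup ↥(Cfsg.pPrimeCore p G)).map (Cfsg.pPrimeCore p G).subtype with hQ₁
    have hQ₁q : IsPGroup q ↥Q₁ := Q₀.isPGroup'.map _
    have hQ₁idx : ¬ q ∣ Q₁.index := by
      rw [hQ₁, Subgroup.index_map_subtype]
      intro h
      rcases (Nat.Prime.dvd_mul hq).1 h with h | h
      · exact Q₀.not_dvd_index h
      · exact hq' h
    set N := Subgroup.normalizer (Q₁ : Set G) with hN
    obtain ⟨P₀⟩ : Nonempty (Sylow p ↥N) := inferInstance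
    have hNidx : ¬ p ∣ N.index := by
      have h1 := Cfsg.Agent.H1.card_sup_dvd_of_normal N (Cfsg.pPrimeCore p G)
      rw [hfr, Subgroup.card_top, ← N.card_mul_index] at h1
      have h2 : N.index ∣ Nat.card ↥(Cfsg.pPrimeCore p G) :=
        (Nat.mul_dvd_mul_iff_left Nat.card_pos).1 h1
      intro h
      have := Nat.Coprime.eq_one_of_dvd hKc.symm (dvd_trans h h2)
      exact hp.one_lt.ne' this
    have hP₁idx : ¬ p ∣ ((P₀ : Subgroup ↥N).map N.subtype).index := by
      rw [Subgroup.index_map_subtype]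
      intro h
      rcases (Nat.Prime.dvd_mul hp).1 h with h | h
      · exact P₀.not_dvd_index h
      · exact hNidx h
    refine ⟨(P₀.isPGroup'.map N.subtype).toSylow hP₁idx, hQ₁q.toSylow hQ₁idx, ?_⟩
    show (P₀ : Subgroup ↥N).map N.subtype ≤ Subgroup.normalizer (Q₁ : Set G)
    exact Subgroup.map_subtype_le _

end Cfsg.Agent.S4602
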