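import Mathlib
import Cfsg.Statements.S4687
import Cfsg.Agent.Lib.helper3.SP19

set_option autoImplicit false
open Cfsg

namespace Cfsg.Agent.S4687

set_option linter.style.haveILetI false

open Cfsg Cfsg.Agent.Lib.helper3.Block Cfsg.Agent.Lib.helper3.LocalM

/-- Fix a prime p and a maximal ideal M of the algebraic integers containing p, and a p-block B of the finite group G with maximal Brauer pair (P, e), P abelian. Then B is nilpotent if and only if its inertial quotient is trivial: every element of N_G(P) stabilizing e centralizes P. -/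
theorem result {G : Type*} [Group G] [Fintype G] (p : ℕ) [Fact p.Prime] (M : Ideal Cfsg.AlgInt) (hM : Cfsg.IsPModular p M) (B : Set (Cfsg.IrrCharacter G)) (P : Subgroup G) (e : Set (Cfsg.IrrCharacter (Subgroup.centralizer (P : Set G)))) (hmax : Cfsg.IsMaximalBrauerPair p M B P e) (hab : ∀ x ∈ P, ∀ y ∈ P, x * y = y * x) : Cfsg.IsNilpotentBlock p M B ↔ ∀ x : G, x ∈ Subgroup.normalizer (P : Set G) → Cfsg.StabilizesBlock (Subgroup.centralizer (P : Set G)) e x → x ∈ Subgroup.centralizer (P : Set G) := by
  classical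
  haveI hMp := isPrime_of_isPModular hM
  obtain ⟨hBe, -⟩ := id hmax
  obtain ⟨hPe, hB, -⟩ := id hBe
  have hPC : P ≤ Subgroup.centralizer (P : Set G) := by
    intro x hx
    rw [Subgroup.mem_centralizer_iff]
    intro y hy
    exact hab y hy x hx
  constructor
  · intro hnil x hxN hxst
    have := mem_sup_centralizer_of_nilpotent hM B P e hmax hnil x hxN hxst
    rwa [sup_eq_right.mpr hPC] at this
  · intro hN
    refine ⟨hB, ?_⟩
    intro Q f hQf x hxN hxst _
    haveI : Fintype ↥(Subgroup.centralizer (Q : Set G)) := Fintype.ofFinite _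
    have hf : IsPBlock M f := hQf.1.2
    obtain ⟨y, hy⟩ := Cfsg.Agent.S4660.result p M hM B P Q e f hmax hQf
    have hQ₁P : Q.map (MulAut.conj y).toMonoidHom ≤ P := fst_le_of_reflTransGen hy
    have hx₁N : y * x * y⁻¹ ∈ Subgroup.normalizer
        ((Q.map (MulAut.conj y).toMonoidHom : Subgroup G) : Set G) := by
      rw [mem_normalizer_map_conj_iff]
      have e1 : y⁻¹ * (y * x * y⁻¹) * y = x := by group
      rw [e1]
      exact hxN
    have hx₁st := stabilizesBlock_conjBlock Q y f x hxst
    obtain ⟨c, hc, hcN, hcst⟩ := exists_centralizer_mul_of_abelian hM B P e hmax hab _ _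
      (isPBlock_conjBlock Q y f hf) hy (y * x * y⁻¹) hx₁N hx₁st
    have h1 : c * (y * x * y⁻¹) ∈ Subgroup.centralizer (P : Set G) := hN _ hcN hcst
    have h2 : c * (y * x * y⁻¹) ∈ Subgroup.centralizer
        ((Q.map (MulAut.conj y).toMonoidHom : Subgroup G) : Set G) :=
      Subgroup.centralizer_le (by exact_mod_cast hQ₁P) h1
    have hcen : y * x * y⁻¹ ∈ Subgroup.centralizer
        ((Q.map (MulAut.conj y).toMonoidHom : Subgroup G) : Set G) := by
      have := Subgroup.mul_mem _ (Subgroup.inv_mem _ hc) h2
      rwa [inv_mul_cancel_left] at this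
    have h3 := (mem_centralizer_map_conj_iff Q y _).mp hcen
    have e1 : y⁻¹ * (y * x * y⁻¹) * y = x := by group
    rwa [e1] at h3

end Cfsg.Agent.S4687
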