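import Mathlib
import Cfsg.Statements.S0965
import Cfsg.Agent.Lib.helper3.BlockCover2

set_option autoImplicit false
open Cfsg

namespace Cfsg.Agent.S0965

set_option linter.style.haveILetI false

open Cfsg Cfsg.Agent.Lib.helper3.Block Cfsg.Agent.Lib.helper3.Central Cfsg.Agent.Lib.helper3.LocalM Cfsg.Agent.Lib.helper3.Irr Cfsg.Agent.Lib.helper3.GalPow

/-- Let N be a normal subgroup of the finite group G and let B, b be blocks of G and of N relative to a maximal ideal M of the algebraic integers containing the prime p. Then some χ ∈ B has a constituent in b on restriction to N if and only if, for all χ ∈ B, θ ∈ b and n ∈ N, the central character of χ at n is congruent modulo the local ideal at M to the sum of θ m / θ 1 over the elements m ∈ N conjugate in G to n. -/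
theorem result {G : Type*} [Group G] [Fintype G] (p : ℕ) [Fact p.Prime] (M : Ideal Cfsg.AlgInt) (hM : Cfsg.IsPModular p M) (N : Subgroup G) [N.Normal] [Fintype N] (B : Set (Cfsg.IrrCharacter G)) (hB : Cfsg.IsPBlock M B) (b : Set (Cfsg.IrrCharacter N)) (hb : Cfsg.IsPBlock M b) : (∃ χ ∈ B, ∃ θ ∈ b, Cfsg.classInner (fun n : N => (χ : G → ℂ) n) (θ : N → ℂ) ≠ 0) ↔ ∀ χ ∈ B, ∀ θ ∈ b, ∀ n : N, Cfsg.MemLocalIdeal M (Cfsg.centralChar (χ : G → ℂ) (n : G) - Cfsg.inducedCentralChar N (θ : N → ℂ) (n : G)) := by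
  classical
  haveI := isPrime_of_isPModular hM
  have hMtop : M ≠ ⊤ := hM.2.1.ne_top
  constructor
  · rintro ⟨χ₀, hχ₀, θ₀, hθ₀, hne⟩ χ hχ θ hθ n
    obtain ⟨χ₁, rfl⟩ := hB
    obtain ⟨θ₁, rfl⟩ := hb
    have h1 : SameBlock M (χ : G → ℂ) (χ₀ : G → ℂ) := sameBlock_trans (sameBlock_symm hχ) hχ₀
    have h2 : SameBlock M (θ₀ : N → ℂ) (θ : N → ℂ) := sameBlock_trans (sameBlock_symm hθ₀) hθ
    have h3 := centralChar_eq_of_over N χ₀ θ₀ hne n
    have h4 := memLocalIdeal_inducedCentralChar_sub N θ₀ θ h2 (n : G)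
    have h5 := memLocalIdeal_add (h1 (n : G)) h4
    rw [h3] at h5
    convert h5 using 1
    ring
  · intro h
    obtain ⟨χ₁, rfl⟩ := hB
    obtain ⟨θ₁, hθ₁⟩ := hb
    have hθ₁b : θ₁ ∈ b := by
      rw [hθ₁]
      exact sameBlock_refl hMtop _
    have hχ₁B : χ₁ ∈ blockOf M (χ₁ : G → ℂ) := sameBlock_refl hMtop _
    obtain ⟨χ₂, hχ₂⟩ := exists_irr_over N (θ₁ : N → ℂ) θ₁.2
    have hcong : ∀ n : N, MemLocalIdeal M
        (centralChar (χ₂ : G → ℂ) (n : G) - centralChar (χ₁ : G → ℂ) (n : G)) := by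
      intro n
      rw [centralChar_eq_of_over N χ₂ θ₁ hχ₂ n]
      have := memLocalIdeal_neg (h χ₁ hχ₁B θ₁ hθ₁b n)
      convert this using 1
      ring
    obtain ⟨θ, hθ, hne⟩ := over_of_congr N hM b ⟨θ₁, hθ₁⟩ χ₂ χ₁ hcong ⟨θ₁, hθ₁b, hχ₂⟩
    exact ⟨χ₁, hχ₁B, θ, hθ, hne⟩

end Cfsg.Agent.S0965
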