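import Mathlib
import Cfsg.Statements.S0189
import Cfsg.Agent.Lib.helper3.Irr9

set_option autoImplicit false
open Cfsg

namespace Cfsg.Agent.S0189

/-- If a complex character of a finite group vanishes at every non-identity element of a Sylow p-subgroup P, then |P| divides its degree. -/
theorem result {G : Type*} [Group G] [Finite G] (p : ℕ) [Fact p.Prime] (P : Sylow p G) (χ : G → ℂ) (hχ : Cfsg.IsCharacter G χ) (hvan : ∀ g : G, g ∈ P → g ≠ 1 → χ g = 0) : ∃ k : ℕ, χ 1 = (Nat.card P : ℂ) * k := by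
  classical
  letI : Fintype G := Fintype.ofFinite G
  letI : Fintype (P : Subgroup G) := Fintype.ofFinite _
  have hres := Cfsg.Agent.Lib.helper3.Irr.isCharacter_restrict hχ (P : Subgroup G)
  obtain ⟨k, hk⟩ := Cfsg.Agent.Lib.helper3.Irr.exists_nat_classInner_of_isCharacter_of_isCharacter
    hres (Cfsg.Agent.Lib.helper3.Irr.isCharacter_one (G := (P : Subgroup G)))
  refine ⟨k, ?_⟩
  rw [Cfsg.Agent.Lib.helper3.IndFun.classInner_apply] at hk
  have hsum : ∑ g : (P : Subgroup G), χ (g : G) * (starRingEnd ℂ) 1 = χ 1 := by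
    rw [Finset.sum_eq_single (1 : (P : Subgroup G))]
    · simp
    · intro b _ hb
      have : χ (b : G) = 0 := hvan b b.2 (fun h => hb (Subtype.ext h))
      rw [this, zero_mul]
    · intro h; exact absurd (Finset.mem_univ _) h
  rw [hsum] at hk
  have hP : (Nat.card (P : Subgroup G) : ℂ) ≠ 0 :=
    Cfsg.Agent.Lib.helper3.IndFun.card_ne_zero_complex _
  have : χ 1 = (Nat.card (P : Subgroup G) : ℂ) * ((Nat.card (P : Subgroup G) : ℂ)⁻¹ * χ 1) := by
    field_simp
  rw [this, hk]

end Cfsg.Agent.S0189
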