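import Mathlib
import Cfsg.Statements.S0966
import Cfsg.Agent.Lib.helper3.BlockCover3

set_option autoImplicit false
open Cfsg

namespace Cfsg.Agent.S0966

set_option linter.style.haveILetI false

open Cfsg Cfsg.Agent.Lib.helper3.Block Cfsg.Agent.Lib.helper3.Central Cfsg.Agent.Lib.helper3.LocalM Cfsg.Agent.Lib.helper3.Irr

/-- Let N be a normal subgroup of p-power index in the finite group G and b a block of N relative to a maximal ideal M of the algebraic integers containing p. Then there is exactly one block B of G containing a character whose restriction to N has a constituent in b. -/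
theorem result {G : Type*} [Group G] [Fintype G] (p : ℕ) [Fact p.Prime] (M : Ideal Cfsg.AlgInt) (hM : Cfsg.IsPModular p M) (N : Subgroup G) [N.Normal] [Fintype N] (hidx : ∃ k : ℕ, N.index = p ^ k) (b : Set (Cfsg.IrrCharacter N)) (hb : Cfsg.IsPBlock M b) : ∃! B : Set (Cfsg.IrrCharacter G), Cfsg.IsPBlock M B ∧ ∃ χ ∈ B, ∃ θ ∈ b, Cfsg.classInner (fun n : N => (χ : G → ℂ) n) (θ : N → ℂ) ≠ 0 := by
  classical
  haveI := isPrime_of_isPModular hM
  have hMtop : M ≠ ⊤ := hM.2.1.ne_top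
  obtain ⟨θ₁, hθ₁⟩ := hb
  have hθ₁b : θ₁ ∈ b := by
    rw [hθ₁]
    exact sameBlock_refl hMtop _
  obtain ⟨χ₁, hχ₁⟩ := exists_irr_over N (θ₁ : N → ℂ) θ₁.2
  refine ⟨blockOf M (χ₁ : G → ℂ), ⟨⟨χ₁, rfl⟩, χ₁, sameBlock_refl hMtop _, θ₁, hθ₁b, hχ₁⟩, ?_⟩
  rintro B' ⟨⟨χ₀, rfl⟩, χ', hχ', θ', hθ', hne⟩
  have hθθ' : SameBlock M (θ₁ : N → ℂ) (θ' : N → ℂ) := by
    rw [hθ₁] at hθ'
    exact hθ'
  have hcong : ∀ n ∈ N, MemLocalIdeal M
      (centralChar (χ₁ : G → ℂ) n - centralChar (χ' : G → ℂ) n) := by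
    intro n hn
    have h1 := centralChar_eq_of_over N χ₁ θ₁ hχ₁ ⟨n, hn⟩
    have h2 := centralChar_eq_of_over N χ' θ' hne ⟨n, hn⟩
    simp only at h1 h2
    rw [h1, h2]
    exact memLocalIdeal_inducedCentralChar_sub N θ₁ θ' hθθ' n
  have hsame : SameBlock M (χ₁ : G → ℂ) (χ' : G → ℂ) :=
    sameBlock_of_congr_of_index_pow hM N hidx χ₁ χ' hcong
  have h01 : SameBlock M (χ₀ : G → ℂ) (χ₁ : G → ℂ) := sameBlock_trans hχ' (sameBlock_symm hsame)
  ext ψ
  constructor
  · intro h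
    exact sameBlock_trans (sameBlock_symm h01) h
  · intro h
    exact sameBlock_trans h01 h

end Cfsg.Agent.S0966
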