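import Mathlib
import Cfsg.Statements.S4517
import Cfsg.Agent.Lib.helper3.TwoFullDefect
import Cfsg.Agent.Lib.helper3.GalPow2
import Cfsg.Agent.Lib.helper3.DefectOrder3

set_option autoImplicit false
open Cfsg

namespace Cfsg.Agent.S4517

set_option linter.style.haveILetI false

open Cfsg Cfsg.Agent.Lib.helper3.Block Cfsg.Agent.Lib.helper3.LocalM Cfsg.Agent.Lib.helper3.Irr Cfsg.Agent.Lib.helper3.CharBasic Cfsg.Agent.Lib.helper3.GalPow

/-- Let G be a finite group, M a maximal ideal of the algebraic integers containing 2, and k a natural number coprime to the order of G with g ^ k = g⁻¹ for every element g of odd order (so that g ↦ g ^ k induces a field automorphism of the character values inverting the roots of unity of odd order). If B is a 2-block of full defect (its defect equals the exponent of 2 in the order of G) that is stable under χ ↦ χ ∘ (· ^ k), then B is the principal 2-block. -/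
theorem result {G : Type*} [Group G] [Finite G] (M : Ideal Cfsg.AlgInt) (hM : Cfsg.IsPModular 2 M) (k : ℕ) (hk : Nat.Coprime k (Nat.card G)) (hk₂ : ∀ g : G, Odd (orderOf g) → g ^ k = g⁻¹) (B : Set (Cfsg.IrrCharacter G)) (hB : Cfsg.IsPBlock M B) (hdef : Cfsg.blockDefect 2 B = (Nat.card G).factorization 2) (hstab : ∀ χ ∈ B, ∃ ψ ∈ B, ∀ g : G, (ψ : G → ℂ) g = (χ : G → ℂ) (g ^ k)) : B = Cfsg.principalBlock M G := by
  classical
  haveI : Fintype G := Fintype.ofFinite G
  haveI : Fact (2 : ℕ).Prime := ⟨Nat.prime_two⟩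
  haveI hMp := isPrime_of_isPModular hM
  have hMtop : M ≠ ⊤ := hM.2.1.ne_top
  obtain ⟨χ₁, hB'⟩ := id hB
  have hχ₁B : χ₁ ∈ B := by
    rw [hB']
    exact sameBlock_refl hMtop _
  have hmin : minExp 2 B = 0 := by
    rw [blockDefect_eq] at hdef
    have := minExp_le_factorization_card (p := 2) hχ₁B
    omega
  apply eq_principalBlock_of_coeff_inv hM B hB hmin
  intro g
  have hpowB : ∀ χ ∈ B, powIrr k hk χ ∈ B := by
    intro χ hχ
    obtain ⟨ψ, hψ, hψg⟩ := hstab χ hχ
    have : ψ = powIrr k hk χ := by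
      apply Subtype.ext
      funext x
      rw [hψg, powIrr_apply]
    rw [← this]
    exact hψ
  have hinj : Function.Injective (powIrr (G := G) k hk) := by
    intro χ χ' h
    apply Subtype.ext
    funext x
    obtain ⟨x', hx'⟩ := (powCoprime hk.symm).surjective x
    rw [powCoprime_apply] at hx'
    have := congrFun (congrArg Subtype.val h) x'
    rw [powIrr_apply, powIrr_apply, hx'] at this
    exact this
  obtain ⟨Bf, hBfdef⟩ : ∃ Bf : Finset (IrrCharacter G),
      Bf = Finset.univ.filter (fun χ : IrrCharacter G => χ ∈ B) := ⟨_, rfl⟩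
  have hBf : ∀ χ, χ ∈ Bf ↔ χ ∈ B := by
    intro χ
    rw [hBfdef, Finset.mem_filter]
    simp
  have hcoef : ∀ x : G, blockCoeff B x = (Nat.card G : ℂ)⁻¹ *
      ∑ χ ∈ Bf, (χ : G → ℂ) 1 * (starRingEnd ℂ) ((χ : G → ℂ) x) := by
    intro x
    rw [blockCoeff_eq_sum_filter, ← hBfdef]
  have himage : Bf.image (powIrr k hk) = Bf := by
    apply Finset.eq_of_subset_of_card_le
    · intro ψ hψ
      obtain ⟨χ, hχ, rfl⟩ := Finset.mem_image.mp hψ
      exact (hBf _).2 (hpowB χ ((hBf _).1 hχ))
    · rw [Finset.card_image_of_injective _ hinj]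
  have hpow : ∀ x : G, blockCoeff B (x ^ k) = blockCoeff B x := by
    intro x
    rw [hcoef, hcoef]
    congr 1
    calc ∑ χ ∈ Bf, (χ : G → ℂ) 1 * (starRingEnd ℂ) ((χ : G → ℂ) (x ^ k))
        = ∑ χ ∈ Bf, (powIrr k hk χ : G → ℂ) 1
            * (starRingEnd ℂ) ((powIrr k hk χ : G → ℂ) x) := by
          apply Finset.sum_congr rfl
          intro χ _
          rw [powIrr_apply, powIrr_apply, one_pow]
      _ = ∑ ψ ∈ Bf.image (powIrr k hk), (ψ : G → ℂ) 1 * (starRingEnd ℂ) ((ψ : G → ℂ) x) :=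
          (Finset.sum_image (f := fun ψ : IrrCharacter G =>
            (ψ : G → ℂ) 1 * (starRingEnd ℂ) ((ψ : G → ℂ) x)) (fun a _ b _ h => hinj h)).symm
      _ = ∑ ψ ∈ Bf, (ψ : G → ℂ) 1 * (starRingEnd ℂ) ((ψ : G → ℂ) x) := by rw [himage]
  by_cases hg : 2 ∣ orderOf g
  · rw [blockCoeff_eq_zero_of_dvd hM B hB g hg,
      blockCoeff_eq_zero_of_dvd hM B hB g⁻¹ (by rw [orderOf_inv]; exact hg)]
  · have hodd : Odd (orderOf g) := by
      rw [← Nat.not_even_iff_odd, even_iff_two_dvd]
      exact hg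
    rw [← hk₂ g hodd, hpow]


end Cfsg.Agent.S4517
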