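import Cfsg.Statements.S0007
import Mathlib

set_option autoImplicit false
open Cfsg

namespace Cfsg.Agent.S0007

/-- Subgroups of coprime index: the intersection has index equal to the product of the indices, and every element is a product of an element of the first subgroup and an element of the second. -/
theorem result {G : Type*} [Group G] [Finite G] (H K : Subgroup G)
    (h : H.index.Coprime K.index) :
    (H ⊓ K).index = H.index * K.index ∧ ∀ g : G, ∃ x ∈ H, ∃ y ∈ K, g = x * y := by
  have h1 : (H ⊓ K).index = H.index * K.index := by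
    apply Nat.le_antisymm (Subgroup.index_inf_le)
    apply Nat.le_of_dvd (Nat.pos_of_ne_zero (Subgroup.index_inf_ne_zero Subgroup.index_ne_zero_of_finite Subgroup.index_ne_zero_of_finite))
    exact Nat.Coprime.mul_dvd_of_dvd_of_dvd h (Subgroup.index_dvd_of_le inf_le_left) (Subgroup.index_dvd_of_le inf_le_right)
  refine ⟨h1, ?_⟩
  have h2 : H.relIndex K = H.index := by
    have := Subgroup.relIndex_mul_index (inf_le_right : H ⊓ K ≤ K)
    rw [Subgroup.inf_relIndex_right, h1] at this
    exact Nat.eq_of_mul_eq_mul_right (Nat.pos_of_ne_zero Subgroup.index_ne_zero_of_finite) this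
  -- the map K → G ⧸ H is surjective
  have hsurj : ∀ g : G, ∃ k ∈ K, (k : G)⁻¹ * g ∈ H := by
    let x : G ⧸ H := ((1 : G) : G ⧸ H)
    have hstab : MulAction.stabilizer K x = H.subgroupOf K := by
      ext k
      simp only [MulAction.mem_stabilizer_iff, Subgroup.mem_subgroupOf]
      show ((k : G) • ((1 : G) : G ⧸ H)) = ((1 : G) : G ⧸ H) ↔ _
      rw [MulAction.Quotient.smul_coe, QuotientGroup.eq]
      simp
    have hcard : (MulAction.orbit K x).ncard = Nat.card (G ⧸ H) := by
      rw [← MulAction.index_stabilizer, hstab, ← Subgroup.index_eq_card]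
      exact h2
    have huniv : MulAction.orbit K x = Set.univ := by
      rw [← Set.ncard_univ] at hcard
      exact Set.eq_of_subset_of_ncard_le (Set.subset_univ _) hcard.ge Set.finite_univ
    intro g
    have : ((g : G) : G ⧸ H) ∈ MulAction.orbit K x := by rw [huniv]; trivial
    obtain ⟨k, hk⟩ := this
    refine ⟨k, k.2, ?_⟩
    have hk' : (((k : G) * 1 : G) : G ⧸ H) = ((g : G) : G ⧸ H) := hk
    rw [QuotientGroup.eq] at hk'
    simpa using hk'
  intro g
  obtain ⟨k, hk, hkh⟩ := hsurj g⁻¹
  refine ⟨(k⁻¹ * g⁻¹)⁻¹, H.inv_mem hkh, k⁻¹, K.inv_mem hk, ?_⟩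
  group

end Cfsg.Agent.S0007
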