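import Cfsg.Statements.S0011
import Mathlib

set_option autoImplicit false
open Cfsg

namespace Cfsg.Agent.S0011

/-- If the Frattini quotient of a finite group is nilpotent then the group is nilpotent. -/
theorem result {G : Type*} [Group G] [Finite G]
    (h : Group.IsNilpotent (G ⧸ frattini G)) : Group.IsNilpotent G := by
  apply ((Group.isNilpotent_of_finite_tfae (G := G)).out 0 3).mpr
  intro p hp P
  let Pbar : Sylow p (G ⧸ frattini G) := P.mapSurjective (QuotientGroup.mk'_surjective (frattini G))
  have hPbar : (Pbar : Subgroup (G ⧸ frattini G)).Normal := inferInstance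
  have hN : ((Pbar : Subgroup (G ⧸ frattini G)).comap (QuotientGroup.mk' (frattini G))).Normal := inferInstance
  have hPN : (P : Subgroup G) ≤ (Pbar : Subgroup (G ⧸ frattini G)).comap (QuotientGroup.mk' (frattini G)) := by
    intro x hx
    exact ⟨x, hx, rfl⟩
  have hN_eq : (Pbar : Subgroup (G ⧸ frattini G)).comap (QuotientGroup.mk' (frattini G)) = (P : Subgroup G) ⊔ frattini G := by
    show ((P : Subgroup G).map (QuotientGroup.mk' (frattini G))).comap (QuotientGroup.mk' (frattini G)) = _
    rw [Subgroup.comap_map_eq, QuotientGroup.ker_mk']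
  have key := Sylow.normalizer_sup_eq_top (P.subtype hPN)
  have e : (↑(P.subtype hPN) : Subgroup ((Pbar : Subgroup (G ⧸ frattini G)).comap (QuotientGroup.mk' (frattini G)))).map (Subgroup.subtype _) = (P : Subgroup G) := by
    rw [Sylow.coe_subtype, Subgroup.subgroupOf_map_subtype, inf_of_le_left hPN]
  rw [e, hN_eq] at key
  have h2 : Subgroup.normalizer ((P : Subgroup G) : Set G) ⊔ frattini G = ⊤ := by
    rw [← key, ← sup_assoc, sup_of_le_left (Subgroup.le_normalizer)]
  have := frattini_nongenerating h2
  exact Subgroup.normalizer_eq_top_iff.mp this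

end Cfsg.Agent.S0011
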