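import Cfsg.Statements.S0012
import Mathlib
import Cfsg.Agent.H1.PGroup

set_option autoImplicit false
open Cfsg

namespace Cfsg.Agent.S0012

open Cfsg.Agent.H1

/-- In a finite p-group every commutator and every p-th power lies in the Frattini subgroup, so the Frattini quotient is elementary abelian. -/
theorem result {G : Type*} [Group G] [Finite G] (p : ℕ) [Fact p.Prime]
    (hG : IsPGroup p G) : commutator G ≤ frattini G ∧ ∀ x : G, x ^ p ∈ frattini G := by
  have key : ∀ M : Subgroup G, IsCoatom M → commutator G ≤ M ∧ ∀ x : G, x ^ p ∈ M := by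
    intro M hM
    obtain ⟨hn, hidx⟩ := coatom_normal_index_of_pgroup hG M hM
    have hcard : Nat.card (G ⧸ M) = p := by rw [← Subgroup.index_eq_card, hidx]
    constructor
    · rw [← Subgroup.Normal.quotient_commutative_iff_commutator_le]
      have : IsCyclic (G ⧸ M) := isCyclic_of_prime_card hcard
      exact ⟨⟨IsCyclic.commGroup.mul_comm⟩⟩
    · intro x
      rw [← QuotientGroup.eq_one_iff, QuotientGroup.mk_pow, ← hcard]
      exact pow_card_eq_one'
  constructor
  · unfold frattini Order.radical
    exact le_iInf₂ (fun M hM => (key M hM).1)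
  · intro x
    unfold frattini Order.radical
    simp only [Subgroup.mem_iInf]
    exact fun M hM => (key M hM).2 x

end Cfsg.Agent.S0012
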