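import Cfsg.Statements.S0013
import Mathlib
import Cfsg.Agent.H1.PGroup

set_option autoImplicit false
open Cfsg

namespace Cfsg.Agent.S0013

open Cfsg.Agent.H1

/-- In a finite p-group the Frattini subgroup is the smallest normal subgroup with elementary abelian quotient: it lies below any normal subgroup containing all commutators and all p-th powers. -/
theorem result {G : Type*} [Group G] [Finite G] (p : ℕ) [Fact p.Prime]
    (hG : IsPGroup p G) (N : Subgroup G) [N.Normal] (hcomm : commutator G ≤ N) (hpow : ∀ x : G, x ^ p ∈ N) :
    frattini G ≤ N := by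
  have h1 : IsMulCommutative (G ⧸ N) := Subgroup.Normal.quotient_commutative_iff_commutator_le.mpr hcomm
  have h2 : frattini (G ⧸ N) = ⊥ := by
    apply frattini_eq_bot_of_elementary_abelian (p := p)
    · exact fun a b => h1.is_comm.comm a b
    · intro v
      induction v using QuotientGroup.induction_on with | _ g =>
      rw [← QuotientGroup.mk_pow, QuotientGroup.eq_one_iff]
      exact hpow g
  have h3 := frattini_le_comap_frattini_of_surjective (QuotientGroup.mk'_surjective N)
  rw [h2] at h3
  have h4 : (⊥ : Subgroup (G ⧸ N)).comap (QuotientGroup.mk' N) = N := by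
    rw [MonoidHom.comap_bot, QuotientGroup.ker_mk']
  rw [h4] at h3
  exact h3

end Cfsg.Agent.S0013
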