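import Cfsg.Statements.S0018
import Mathlib
import Cfsg.Prelude.Def_Solvable
import Cfsg.Agent.H1.Basic
import Cfsg.Agent.H1.Cores
import Cfsg.Agent.Lib.Lead.PiCore
import Cfsg.Agent.S0017

set_option autoImplicit false
open Cfsg

namespace Cfsg.Agent.S0018

open Cfsg.Agent.H1

/-- A finite solvable group whose Sylow p-subgroups are abelian has p-length one: a Sylow p-subgroup together with the largest normal subgroup of order prime to p generates a normal subgroup. -/
theorem result {G : Type*} [Group G] [Finite G] [Group.IsSolvable G]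
    (p : ℕ) [Fact p.Prime] (P : Sylow p G) (hP : IsMulCommutative P) :
    ((P : Subgroup G) ⊔ Cfsg.pPrimeCore p G).Normal := by
  have hsurj : Function.Surjective (QuotientGroup.mk' (Cfsg.pPrimeCore p G)) := QuotientGroup.mk'_surjective _
  have hbot := Cfsg.Agent.Lib.Lead.PiCore.pPrimeCore_quotient_eq_bot (G := G) (p := p) Fact.out
  have hcent := Cfsg.Agent.S0017.result (G := G ⧸ Cfsg.pPrimeCore p G) p hbot
  have hle : Cfsg.pCore p (G ⧸ Cfsg.pPrimeCore p G) ≤ (P : Subgroup G).map (QuotientGroup.mk' (Cfsg.pPrimeCore p G)) := by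
    have := pCore_le_sylow (P.mapSurjective hsurj)
    rw [Sylow.coe_mapSurjective] at this
    exact this
  have hPab : IsMulCommutative (P : Subgroup G) := hP
  have hab : IsMulCommutative ((P : Subgroup G).map (QuotientGroup.mk' (Cfsg.pPrimeCore p G))) := inferInstance
  have hle2 : (P : Subgroup G).map (QuotientGroup.mk' (Cfsg.pPrimeCore p G)) ≤ Cfsg.pCore p (G ⧸ Cfsg.pPrimeCore p G) := by
    refine le_trans ?_ hcent
    intro x hx
    rw [Subgroup.mem_centralizer_iff]
    intro y hy
    exact setLike_mul_comm (hle hy) hx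
  have heq : (P : Subgroup G).map (QuotientGroup.mk' (Cfsg.pPrimeCore p G)) = Cfsg.pCore p (G ⧸ Cfsg.pPrimeCore p G) :=
    le_antisymm hle2 hle
  have hn : ((P : Subgroup G).map (QuotientGroup.mk' (Cfsg.pPrimeCore p G))).Normal := by
    rw [heq]; infer_instance
  have hcm : ((P : Subgroup G).map (QuotientGroup.mk' (Cfsg.pPrimeCore p G))).comap (QuotientGroup.mk' (Cfsg.pPrimeCore p G)) =
      (P : Subgroup G) ⊔ Cfsg.pPrimeCore p G := by
    rw [Subgroup.comap_map_eq, QuotientGroup.ker_mk']
  rw [← hcm]
  infer_instance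

end Cfsg.Agent.S0018
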