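import Cfsg.Statements.S0020
import Mathlib
import Cfsg.Agent.H1.Hall
import Cfsg.Agent.H1.SylowSystem

set_option autoImplicit false
open Pointwise
open Cfsg

namespace Cfsg.Agent.S0020

open Cfsg.Agent.H1
open scoped Pointwise commutatorElement

/-- A finite solvable group admits a Sylow system: Sylow subgroups, one for each prime, that pairwise permute as sets. -/
theorem result {G : Type*} [Group G] [Finite G] [Group.IsSolvable G] :
    ∃ S : (p : Nat.Primes) → Sylow (p : ℕ) G,
      ∀ p q : Nat.Primes, (S p : Set G) * (S q : Set G) = (S q : Set G) * (S p : Set G) := by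
  obtain ⟨n, hn⟩ : ∃ n, n = Nat.card G := ⟨_, rfl⟩
  have hn0 : n ≠ 0 := by rw [hn]; exact Nat.card_pos.ne'
  -- Hall p'-subgroups
  have hex : ∀ q : ℕ, ∃ Hq : Subgroup G, Hq.index = q ^ n.factorization q := by
    intro q
    by_cases hq : q.Prime
    · have hG : Nat.card G = (n / q ^ n.factorization q) * q ^ n.factorization q := by
        rw [← hn, mul_comm]; exact (Nat.ordProj_mul_ordCompl_eq_self n q).symm
      have hcop : (n / q ^ n.factorization q).Coprime (q ^ n.factorization q) :=
        (Nat.Coprime.pow_left _ (Nat.coprime_ordCompl hq hn0)).symm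
      obtain ⟨Hq, hHq⟩ := hall_exists _ _ hG hcop
      refine ⟨Hq, index_of_card_eq hG ?_ Hq hHq⟩
      exact Nat.div_pos (Nat.le_of_dvd (Nat.pos_of_ne_zero hn0) (Nat.ordProj_dvd n q)) (pow_pos hq.pos _)
    · refine ⟨⊤, ?_⟩
      rw [Subgroup.index_top, Nat.factorization_eq_zero_of_not_prime n hq, pow_zero]
  choose H hH using hex
  -- the Sylow basis
  have hcardS : ∀ p : ℕ, p.Prime → Nat.card ((n.primeFactors.erase p).inf H : Subgroup G) = p ^ n.factorization p := by
    intro p hp
    have h1 := index_finset_inf H (fun q => n.factorization q) hH (n.primeFactors.erase p)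
      (fun q hq => Nat.prime_of_mem_primeFactors (Finset.mem_of_mem_erase hq))
    have h2 := ((n.primeFactors.erase p).inf H).card_mul_index
    rw [h1, ← hn] at h2
    have h3 := pow_mul_prod_erase n hn0 p
    refine Nat.eq_of_mul_eq_mul_right ?_ (h2.trans h3.symm)
    exact Finset.prod_pos (fun q hq => pow_pos (Nat.prime_of_mem_primeFactors (Finset.mem_of_mem_erase hq)).pos _)
  have hcardT : ∀ p q : ℕ, p.Prime → q.Prime → p ≠ q →
      Nat.card (((n.primeFactors.erase p).erase q).inf H : Subgroup G) = p ^ n.factorization p * q ^ n.factorization q := by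
    intro p q hp hq hpq
    have h1 := index_finset_inf H (fun q => n.factorization q) hH ((n.primeFactors.erase p).erase q)
      (fun r hr => Nat.prime_of_mem_primeFactors (Finset.mem_of_mem_erase (Finset.mem_of_mem_erase hr)))
    have h2 := (((n.primeFactors.erase p).erase q).inf H).card_mul_index
    rw [h1, ← hn] at h2
    have h3 := pow_mul_prod_erase n hn0 p
    have h4 := pow_mul_prod_erase' (n.primeFactors.erase p) (fun r => n.factorization r) q (by
      intro hq'
      have : q ∉ n.primeFactors := fun h => hq' (Finset.mem_erase.mpr ⟨hpq.symm, h⟩)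
      rw [← Nat.support_factorization] at this
      exact Finsupp.notMem_support_iff.mp this)
    rw [← h4, ← mul_assoc] at h3
    refine Nat.eq_of_mul_eq_mul_right ?_ (h2.trans h3.symm)
    exact Finset.prod_pos (fun r hr => pow_pos (Nat.prime_of_mem_primeFactors
      (Finset.mem_of_mem_erase (Finset.mem_of_mem_erase hr))).pos _)
  refine ⟨fun p => haveI : Fact (p : ℕ).Prime := ⟨p.2⟩
    Sylow.ofCard ((n.primeFactors.erase p).inf H) (by rw [← hn]; exact hcardS p p.2), ?_⟩
  intro p q
  by_cases hpq : p = q
  · subst hpq; rfl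
  have hne : (p : ℕ) ≠ q := fun h => hpq (Subtype.ext h)
  change (((n.primeFactors.erase p).inf H : Subgroup G) : Set G) * (((n.primeFactors.erase q).inf H : Subgroup G) : Set G)
    = (((n.primeFactors.erase q).inf H : Subgroup G) : Set G) * (((n.primeFactors.erase p).inf H : Subgroup G) : Set G)
  have hSpT : (n.primeFactors.erase p).inf H ≤ ((n.primeFactors.erase p).erase q).inf H :=
    Finset.inf_mono (Finset.erase_subset _ _)
  have hSqT : (n.primeFactors.erase q).inf H ≤ ((n.primeFactors.erase p).erase q).inf H :=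
    Finset.inf_mono (Finset.erase_subset_erase _ (Finset.erase_subset _ _))
  have hcop : (p ^ n.factorization p : ℕ).Coprime (q ^ n.factorization q) :=
    Nat.Coprime.pow _ _ ((Nat.coprime_primes p.2 q.2).mpr hne)
  rw [coe_mul_coe_eq_of_card _ _ _ hSpT hSqT (by rw [hcardS p p.2, hcardS q q.2, hcardT p q p.2 q.2 hne])
      (by rw [hcardS p p.2, hcardS q q.2]; exact hcop),
    coe_mul_coe_eq_of_card _ _ _ hSqT hSpT (by rw [hcardS p p.2, hcardS q q.2, hcardT p q p.2 q.2 hne, mul_comm])
      (by rw [hcardS p p.2, hcardS q q.2]; exact hcop.symm)]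

end Cfsg.Agent.S0020
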