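import Cfsg.Statements.S0021
import Mathlib
import Cfsg.Agent.H1.Basic
import Cfsg.Agent.H1.SylowSystem
import Cfsg.Agent.H1.HallConverse
import Cfsg.Agent.H1.Permuting

set_option autoImplicit false
open Pointwise
open Cfsg

namespace Cfsg.Agent.S0021

open Cfsg.Agent.H1
open scoped Pointwise

/-- A finite group with a family of pairwise permuting Sylow subgroups, one for each prime, is solvable (this direction rests on Burnside's two-prime Theorem). -/
theorem result {G : Type*} [Group G] [Finite G]
    (S : (p : Nat.Primes) → Sylow (p : ℕ) G)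
    (hS : ∀ p q : Nat.Primes, (S p : Set G) * (S q : Set G) = (S q : Set G) * (S p : Set G)) :
    Group.IsSolvable G := by
  classical
  apply solvable_of_hasPComplements_aux _ G rfl
  apply hasPComplements_of_index
  intro p hp
  set S' : ℕ → Subgroup G := fun q => if h : q.Prime then (S ⟨q, h⟩ : Subgroup G) else ⊥ with hS'
  have hS'p : ∀ (q : ℕ) (h : q.Prime), S' q = (S ⟨q, h⟩ : Subgroup G) := by
    intro q h
    simp only [hS', dif_pos h]
  have hS'n : ∀ (q : ℕ) (h : ¬ q.Prime), S' q = ⊥ := by
    intro q h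
    simp only [hS', dif_neg h]
  have hperm : ∀ q r : ℕ, (S' q : Set G) * S' r = (S' r : Set G) * S' q := by
    intro q r
    by_cases hq : q.Prime
    · by_cases hr : r.Prime
      · rw [hS'p q hq, hS'p r hr]
        exact hS ⟨q, hq⟩ ⟨r, hr⟩
      · rw [hS'n r hr]; simp
    · rw [hS'n q hq]; simp
  have hcard : ∀ q : ℕ, q.Prime → Nat.card (S' q) = q ^ (Nat.card G).factorization q := by
    intro q hq
    rw [hS'p q hq]
    haveI : Fact q.Prime := ⟨hq⟩
    exact (S ⟨q, hq⟩).card_eq_multiplicity
  obtain ⟨J, hJcard, -⟩ := exists_join_of_permuting S' hperm _ hcard ((Nat.card G).primeFactors.erase p)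
    (fun q hq => Nat.prime_of_mem_primeFactors (Finset.mem_of_mem_erase hq))
  refine ⟨J, ?_⟩
  have h1 := pow_mul_prod_erase (Nat.card G) Nat.card_pos.ne' p
  have h2 := J.card_mul_index
  have hpos : 0 < Nat.card J := Nat.card_pos
  rw [hJcard] at h2 hpos
  have h3 : (∏ q ∈ (Nat.card G).primeFactors.erase p, q ^ (Nat.card G).factorization q) * J.index =
      (∏ q ∈ (Nat.card G).primeFactors.erase p, q ^ (Nat.card G).factorization q) * p ^ (Nat.card G).factorization p := by
    rw [h2, mul_comm, h1]
  exact Nat.eq_of_mul_eq_mul_left hpos h3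

end Cfsg.Agent.S0021
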