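import Cfsg.Statements.S0031
import Mathlib
import Cfsg.Agent.H1.Basic

set_option autoImplicit false
open Cfsg

namespace Cfsg.Agent.S0031

open Cfsg.Agent.H1
open scoped Pointwise

/-- A fixed-point-free automorphism of a finite group maps some Sylow p-subgroup to itself. -/
theorem result {G : Type*} [Group G] [Finite G] (φ : G ≃* G)
    (hφ : MonoidHom.FixedPointFree (φ : G →* G)) (p : ℕ) [Fact p.Prime] :
    ∃ P : Sylow p G, (P : Subgroup G).map (φ : G →* G) = P := by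
  obtain ⟨P⟩ : Nonempty (Sylow p G) := inferInstance
  -- φ(P) is a Sylow subgroup
  let Q : Sylow p G := P.mapSurjective (f := (φ : G →* G)) φ.surjective
  have hQ : ∀ v : G, v ∈ Q ↔ ∃ w ∈ P, φ w = v := fun v => Iff.rfl
  obtain ⟨g, hg⟩ := MulAction.exists_smul_eq G P Q
  obtain ⟨y', hy'⟩ := MonoidHom.FixedPointFree.commutatorMap_surjective hφ g⁻¹
  rw [MonoidHom.commutatorMap_apply, div_eq_mul_inv] at hy'
  have hy'' : y' * (φ y')⁻¹ = g⁻¹ := hy'
  have hy : φ y'⁻¹ * g = y'⁻¹ := by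
    rw [map_inv, ← inv_inv g, ← hy'']; group
  refine ⟨y'⁻¹ • P, ?_⟩
  ext x
  rw [Subgroup.mem_map]
  have key : ∀ w : G, (y'⁻¹)⁻¹ * φ w * y'⁻¹ ∈ P ↔ (y'⁻¹)⁻¹ * w * y'⁻¹ ∈ P := by
    intro w
    have e1 : (y'⁻¹)⁻¹ * φ w * y'⁻¹ = g⁻¹ * φ ((y'⁻¹)⁻¹ * w * y'⁻¹) * g := by
      nth_rewrite 1 [← hy]
      nth_rewrite 2 [← hy]
      simp only [map_mul, map_inv]
      group
    rw [e1, ← mem_sylow_smul, hg, hQ]
    constructor
    · rintro ⟨w', hw', h⟩
      rwa [← φ.injective h]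
    · intro h; exact ⟨_, h, rfl⟩
  constructor
  · rintro ⟨w, hw, rfl⟩
    have hw' : w ∈ y'⁻¹ • P := hw
    rw [mem_sylow_smul] at hw'
    show φ w ∈ y'⁻¹ • P
    rw [mem_sylow_smul]
    exact (key w).mpr hw'
  · intro hx
    have hx' : x ∈ y'⁻¹ • P := hx
    rw [mem_sylow_smul] at hx'
    refine ⟨φ.symm x, ?_, by simp⟩
    show φ.symm x ∈ y'⁻¹ • P
    rw [mem_sylow_smul]
    apply (key (φ.symm x)).mp
    simpa using hx'

end Cfsg.Agent.S0031
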