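import Cfsg.Statements.S0046
import Mathlib
import Cfsg.Prelude.Def_Solvable
import Cfsg.Agent.H1.Basic
import Cfsg.Agent.H1.FrobeniusCount
import Cfsg.Agent.H1.BaerSuzuki
import Cfsg.Agent.H1.SZConj
import Cfsg.Agent.H1.Schmidt

set_option autoImplicit false
open Cfsg

namespace Cfsg.Agent.S0046

open Cfsg.Agent.H1
open scoped Pointwise

/-- Schmidt's Theorem on minimal non-nilpotent groups: a finite group in which every maximal subgroup is nilpotent is solvable. -/
theorem result {G : Type*} [Group G] [Finite G]
    (h : ∀ M : Subgroup G, IsCoatom M → Group.IsNilpotent M) : Group.IsSolvable G := by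
  exact schmidt_aux _ G rfl h

end Cfsg.Agent.S0046
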