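import Cfsg.Statements.S0047
import Mathlib
import Cfsg.Agent.H1.Basic
import Cfsg.Agent.H1.Ito

set_option autoImplicit false
open Cfsg

namespace Cfsg.Agent.S0047

open Cfsg.Agent.H1

/-- A finite group which is the product AB of two abelian subgroups A and B is solvable. -/
theorem result {G : Type*} [Group G] [Finite G] (A B : Subgroup G)
    [IsMulCommutative A] [IsMulCommutative B] (hAB : ∀ g : G, ∃ a ∈ A, ∃ b ∈ B, g = a * b) :
    Group.IsSolvable G := by
  obtain ⟨hc, hle⟩ := ito_aux A B hAB
  have h1 : derivedSeries G 1 = commutator G := by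
    rw [derivedSeries_succ, derivedSeries_zero, commutator_def]
  rw [Group.isSolvable_def]
  refine ⟨2, ?_⟩
  rw [derivedSeries_succ, h1, eq_bot_iff]
  calc ⁅commutator G, commutator G⁆ ≤ ⁅(⁅A, B⁆ : Subgroup G), (⁅A, B⁆ : Subgroup G)⁆ := Subgroup.commutator_mono hle hle
    _ = ⊥ := by
      rw [Subgroup.commutator_eq_bot_iff_le_centralizer]
      intro x hx
      rw [Subgroup.mem_centralizer_iff]
      intro y hy
      exact setLike_mul_comm hy hx

end Cfsg.Agent.S0047
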