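import Cfsg.Statements.S0048
import Mathlib
import Cfsg.Agent.H1.Basic
import Cfsg.Agent.H1.Card
import Cfsg.Agent.H1.FrattiniExtra
import Cfsg.Agent.S0043

set_option autoImplicit false
open Cfsg

namespace Cfsg.Agent.S0048

open Cfsg.Agent.H1

/-- In a finite solvable group every maximal subgroup has index a prime power. -/
theorem result {G : Type*} [Group G] [Finite G] [Group.IsSolvable G]
    (M : Subgroup G) (hM : IsCoatom M) : IsPrimePow M.index := by
  obtain ⟨C, hC⟩ : ∃ C : Subgroup G, C = M.normalCore := ⟨_, rfl⟩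
  have hCn : C.Normal := by rw [hC]; infer_instance
  have hCM : C ≤ M := by rw [hC]; exact Subgroup.normalCore_le M
  have hnt : Nontrivial (G ⧸ C) := by
    rw [← not_subsingleton_iff_nontrivial, QuotientGroup.subsingleton_iff]
    intro h
    apply hM.1
    rw [eq_top_iff, ← h]; exact hCM
  have htop : (⊤ : Subgroup (G ⧸ C)) ≠ ⊥ := top_ne_bot
  obtain ⟨Nb, hNbn, hNbne, -, hNbmin⟩ := exists_minimal_normal_le (⊤ : Subgroup (G ⧸ C)) htop
  obtain ⟨hab, p, hp, hpow⟩ := Cfsg.Agent.S0043.result Nb hNbne hNbmin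
  have : Fact p.Prime := ⟨hp⟩
  -- N
  obtain ⟨N, hNdef⟩ : ∃ N : Subgroup G, N = Nb.comap (QuotientGroup.mk' C) := ⟨_, rfl⟩
  have hNn : N.Normal := by rw [hNdef]; infer_instance
  have hNM : ¬ N ≤ M := by
    intro hle
    have h1 : N ≤ C := by rw [hC]; exact Subgroup.normal_le_normalCore.mpr hle
    apply hNbne
    rw [eq_bot_iff]
    intro x hx
    obtain ⟨g, rfl⟩ := QuotientGroup.mk'_surjective C x
    have : g ∈ N := by rw [hNdef]; exact hx
    rw [Subgroup.mem_bot]
    exact (QuotientGroup.eq_one_iff g).mpr (h1 this)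
  have hsup : M ⊔ N = ⊤ := by
    rw [sup_comm]; exact sup_eq_top_of_coatom_not_le hM hNM
  have hMnorm : M ≤ Subgroup.normalizer (N : Set G) := by
    rw [Subgroup.normalizer_eq_top]; exact le_top
  have h1 : (M ⊓ N).relIndex N = M.index := by
    rw [relIndex_inf_eq_relIndex_sup M N hMnorm, hsup, Subgroup.relIndex_top_right]
  have hCN : C ≤ N := by
    rw [hNdef]
    intro x hx
    rw [Subgroup.mem_comap]
    have : QuotientGroup.mk' C x = 1 := (QuotientGroup.eq_one_iff x).mpr hx
    rw [this]; exact one_mem _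
  have h2 : (M ⊓ N).relIndex N ∣ C.relIndex N := Subgroup.relIndex_dvd_of_le_left N (le_inf hCM hCN)
  have h3 : C.relIndex N = Nat.card Nb := by
    have := Subgroup.relIndex_ker (QuotientGroup.mk' C) (K := N)
    rw [QuotientGroup.ker_mk'] at this
    rw [this, hNdef, Subgroup.map_comap_eq_self_of_surjective (QuotientGroup.mk'_surjective C)]
  have hpg : IsPGroup p Nb := by
    intro x
    refine ⟨1, ?_⟩
    rw [pow_one]
    apply Subtype.ext
    have := hpow x x.2
    simpa using this
  obtain ⟨n, hn⟩ := hpg.exists_card_eq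
  rw [h1, h3, hn] at h2
  obtain ⟨m, -, hm⟩ := (Nat.dvd_prime_pow hp).mp h2
  rw [hm]
  have hm0 : m ≠ 0 := by
    intro h0
    rw [h0, pow_zero, Subgroup.index_eq_one] at hm
    exact hM.1 hm
  exact ⟨p, m, hp.prime, Nat.pos_of_ne_zero hm0, rfl⟩

end Cfsg.Agent.S0048
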