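import Cfsg.Statements.S0049
import Mathlib
import Cfsg.Agent.H1.Basic
import Cfsg.Agent.H1.Card
import Cfsg.Agent.H1.FrattiniExtra
import Cfsg.Agent.S0043

set_option autoImplicit false
open Cfsg

namespace Cfsg.Agent.S0049

open Cfsg.Agent.H1

/-- A prime divisor of the order of a finite group also divides the index of the Frattini subgroup. -/
theorem result {G : Type*} [Group G] [Finite G] (p : ℕ) (hp : p.Prime) (hdvd : p ∣ Nat.card G) :
    p ∣ (frattini G).index := by
  have : Fact p.Prime := ⟨hp⟩
  by_contra hnd
  have hnil : Group.IsNilpotent (frattini G) := frattini_nilpotent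
  obtain P : Sylow p (frattini G) := default
  have hPn : (P : Subgroup (frattini G)).Normal := inferInstance
  have hPc : (P : Subgroup (frattini G)).Characteristic := Sylow.characteristic_of_normal P hPn
  have hP₀n : ((P : Subgroup (frattini G)).map (frattini G).subtype).Normal := inferInstance
  -- index of P₀ is coprime to p
  have hidx : ¬ p ∣ ((P : Subgroup (frattini G)).map (frattini G).subtype).index := by
    rw [Subgroup.index_map_subtype]
    intro h
    rcases (Nat.Prime.dvd_mul hp).mp h with h | h
    · exact P.not_dvd_index h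
    · exact hnd h
  have hcardP₀ : Nat.card ((P : Subgroup (frattini G)).map (frattini G).subtype) = Nat.card P :=
    Subgroup.card_map_of_injective (Subgroup.subtype_injective _)
  have hcop : Nat.Coprime (Nat.card ((P : Subgroup (frattini G)).map (frattini G).subtype))
      ((P : Subgroup (frattini G)).map (frattini G).subtype).index := by
    rw [hcardP₀]
    obtain ⟨n, hn⟩ := P.isPGroup'.exists_card_eq
    have hn' : Nat.card P = p ^ n := hn
    rw [hn']
    exact Nat.Coprime.pow_left n ((Nat.Prime.coprime_iff_not_dvd hp).mpr hidx)
  obtain ⟨H, hH⟩ := Subgroup.exists_left_complement'_of_coprime hcop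
  have h1 : H ⊔ frattini G = ⊤ := by
    rw [eq_top_iff, ← hH.sup_eq_top]
    exact sup_le_sup_left (Subgroup.map_subtype_le _) H
  have h2 : H = ⊤ := frattini_nongenerating h1
  have h3 := hH.disjoint
  rw [h2, top_disjoint] at h3
  have h4 : (P : Subgroup (frattini G)) = ⊥ := (Subgroup.map_eq_bot_iff_of_injective _ (Subgroup.subtype_injective _)).mp h3
  have h5 : ¬ p ∣ Nat.card (frattini G) := fun h => P.ne_bot_of_dvd_card h h4
  rw [← Subgroup.card_mul_index (frattini G)] at hdvd
  rcases (Nat.Prime.dvd_mul hp).mp hdvd with h | h
  · exact h5 h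
  · exact hnd h

end Cfsg.Agent.S0049
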