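import Cfsg.Statements.S0050
import Mathlib
import Cfsg.Agent.H1.CoprimeAction
import Cfsg.Agent.H1.FrattiniExtra
import Cfsg.Agent.H1.Card
import Cfsg.Agent.S0043
import Cfsg.Agent.H1.Hall

set_option autoImplicit false
open Cfsg

namespace Cfsg.Agent.S0050

open Cfsg.Agent.H1
open scoped Pointwise commutatorElement

/-- Frattini argument for Hall subgroups: if L is a solvable normal subgroup and H a subgroup of L of order coprime to its index in L, then L together with the normaliser of H generates the whole group. -/
theorem result {G : Type*} [Group G] [Finite G] (L : Subgroup G) [L.Normal] (hL : Group.IsSolvable L)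
    (H : Subgroup G) (hHL : H ≤ L) (hHall : (Nat.card H).Coprime (H.relIndex L)) :
    L ⊔ Subgroup.normalizer (H : Set G) = ⊤ := by
  rw [eq_top_iff]
  intro g _
  have hgHL : MulAut.conj g • H ≤ L := by
    intro x hx
    rw [mem_conj_smul] at hx
    have := (inferInstance : L.Normal).conj_mem _ (hHL hx) g
    have e : g * (g⁻¹ * x * g) * g⁻¹ = x := by group
    rwa [e] at this
  have hcardL : Nat.card L = Nat.card H * H.relIndex L := by
    rw [mul_comm]; exact card_eq_relIndex_mul_card hHL
  obtain ⟨l, hl⟩ := hall_conj (G := L) (Nat.card H) (H.relIndex L) hcardL hHall (H.subgroupOf L)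
    ((MulAut.conj g • H).subgroupOf L) (card_subgroupOf_of_le hHL)
    (by rw [card_subgroupOf_of_le hgHL, card_conj_smul])
  obtain ⟨x, hxL, hx⟩ := conj_of_conj_subgroupOf L H (MulAut.conj g • H) hHL hgHL ⟨l, hl⟩
  have hn : x⁻¹ * g ∈ Subgroup.normalizer (H : Set G) := by
    have h1 : MulAut.conj (x⁻¹ * g) • H = H := by
      rw [map_mul, mul_smul, ← hx, ← mul_smul, ← map_mul, inv_mul_cancel, map_one, one_smul]
    rw [← map_conj_eq_self_iff, ← conj_smul_eq_map]; exact h1
  have e : g = x * (x⁻¹ * g) := by group
  rw [e]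
  exact mul_mem (Subgroup.mem_sup_left hxL) (Subgroup.mem_sup_right hn)

end Cfsg.Agent.S0050
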