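import Cfsg.Statements.S0053
import Mathlib
import Cfsg.Agent.H1.Basic

set_option autoImplicit false
open Cfsg

namespace Cfsg.Agent.S0053

open Cfsg.Agent.H1

/-- An abelian minimal normal subgroup N of a finite group is complemented exactly when N is not inside the Frattini subgroup. -/
theorem result {G : Type*} [Group G] [Finite G]
    (N : Subgroup G) [N.Normal] [IsMulCommutative N] (hN : N ≠ ⊥)
    (hmin : ∀ M : Subgroup G, M.Normal → M ≤ N → M = ⊥ ∨ M = N) :
    (∃ H : Subgroup G, Subgroup.IsComplement' N H) ↔ ¬ N ≤ frattini G := by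
  constructor
  · rintro ⟨H, hH⟩ hle
    have h1 : H ⊔ frattini G = ⊤ := by
      rw [eq_top_iff, ← hH.sup_eq_top, sup_comm]
      exact sup_le_sup_left hle H
    have h2 : H = ⊤ := frattini_nongenerating h1
    have h3 := hH.disjoint
    rw [h2, disjoint_top] at h3
    exact hN h3
  · intro hnle
    have : ∃ M : Subgroup G, IsCoatom M ∧ ¬ (N ≤ M) := by
      by_contra hcon
      push Not at hcon
      apply hnle
      unfold frattini Order.radical
      rw [le_iInf₂_iff]
      exact hcon
    obtain ⟨M, hM, hnM⟩ := this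
    have hsup : N ⊔ M = ⊤ := by
      apply hM.2
      apply lt_of_le_of_ne le_sup_right
      intro heq
      apply hnM
      rw [heq]
      exact le_sup_left
    have hdecomp : ∀ g : G, ∃ a ∈ N, ∃ h ∈ M, a * h = g := by
      intro g
      have : g ∈ N ⊔ M := by rw [hsup]; trivial
      exact Subgroup.mem_sup_of_normal_left.mp this
    have hDn : (N ⊓ M).Normal := by
      constructor
      intro d hd g
      obtain ⟨a, ha, h, hh, rfl⟩ := hdecomp g
      have hdA := (Subgroup.mem_inf.mp hd).1
      have hdH := (Subgroup.mem_inf.mp hd).2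
      have h1 : h * d * h⁻¹ ∈ N := (inferInstance : N.Normal).conj_mem d hdA h
      have h2 : h * d * h⁻¹ ∈ M := mul_mem (mul_mem hh hdH) (inv_mem hh)
      have e : a * h * d * (a * h)⁻¹ = a * (h * d * h⁻¹) * a⁻¹ := by group
      have e2 : a * (h * d * h⁻¹) * a⁻¹ = h * d * h⁻¹ := by
        rw [setLike_mul_comm ha h1, mul_inv_cancel_right]
      rw [e, e2]
      exact Subgroup.mem_inf.mpr ⟨h1, h2⟩
    have hD : N ⊓ M = ⊥ := by
      rcases hmin (N ⊓ M) hDn inf_le_left with h | h
      · exact h
      · exact absurd (inf_eq_left.mp h) hnM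
    refine ⟨M, Subgroup.isComplement'_of_disjoint_and_mul_eq_univ (disjoint_iff.mpr hD) ?_⟩
    rw [← Subgroup.normal_mul, hsup, Subgroup.coe_top]

end Cfsg.Agent.S0053
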