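import Cfsg.Statements.S0054
import Mathlib

set_option autoImplicit false
open Cfsg

namespace Cfsg.Agent.S0054



/-- A regular normal subgroup of a finite 2-transitive group is elementary abelian: it is commutative and all its elements have order dividing one prime. -/
theorem result {G : Type*} [Group G] [Finite G]
    {X : Type*} [Nonempty X] [MulAction G X] (h2 : MulAction.IsMultiplyPretransitive G X 2)
    (N : Subgroup G) [N.Normal] (htrans : MulAction.IsPretransitive N X) (hreg : ∀ x : X, MulAction.stabilizer N x = ⊥) :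
    IsMulCommutative N ∧ ∃ p : ℕ, p.Prime ∧ ∀ n ∈ N, n ^ p = 1 := by
  classical
  obtain ⟨x₀⟩ := ‹Nonempty X›
  rw [MulAction.is_two_pretransitive_iff] at h2
  have hNn : N.Normal := inferInstance
  have hreg' : ∀ n ∈ N, n • x₀ = x₀ → n = 1 := by
    intro n hn h
    have : (⟨n, hn⟩ : ↥N) ∈ MulAction.stabilizer N x₀ := by
      rw [MulAction.mem_stabilizer_iff]; exact h
    rw [hreg x₀, Subgroup.mem_bot] at this
    exact congrArg Subtype.val this
  have hconj : ∀ n ∈ N, ∀ m ∈ N, n ≠ 1 → m ≠ 1 → ∃ g : G, g * n * g⁻¹ = m := by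
    intro n hn m hm hn1 hm1
    have h1 : x₀ ≠ n • x₀ := fun h => hn1 (hreg' n hn h.symm)
    have h2' : x₀ ≠ m • x₀ := fun h => hm1 (hreg' m hm h.symm)
    obtain ⟨g, hg0, hg1⟩ := h2 h1 h2'
    refine ⟨g, ?_⟩
    have hmem : m⁻¹ * (g * n * g⁻¹) ∈ N := mul_mem (inv_mem hm) (hNn.conj_mem n hn g)
    have hfix : (m⁻¹ * (g * n * g⁻¹)) • x₀ = x₀ := by
      rw [mul_smul, mul_smul, mul_smul]
      have : g⁻¹ • x₀ = x₀ := by rw [inv_smul_eq_iff, hg0]
      rw [this, hg1, inv_smul_smul]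
    have := hreg' _ hmem hfix
    exact (inv_mul_eq_one.1 this).symm
  by_cases hN : N = ⊥
  · have hall : ∀ n ∈ N, n = 1 := by
      intro n hn
      rw [hN] at hn
      exact Subgroup.mem_bot.1 hn
    refine ⟨⟨⟨fun a b => ?_⟩⟩, 2, Nat.prime_two, fun n hn => by rw [hall n hn, one_pow]⟩
    have ha : a = 1 := Subtype.ext (hall a.1 a.2)
    rw [ha, one_mul, mul_one]
  · haveI : Nontrivial ↥N := (Subgroup.nontrivial_iff_ne_bot N).2 hN
    have hcard : Nat.card ↥N ≠ 1 := by
      intro h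
      exact hN (Subgroup.card_eq_one.1 h)
    obtain ⟨p, hp, hpd⟩ := Nat.exists_prime_and_dvd hcard
    haveI : Fact p.Prime := ⟨hp⟩
    obtain ⟨z, hz⟩ := exists_prime_orderOf_dvd_card' (G := ↥N) p hpd
    have hz1 : (z : G) ≠ 1 := by
      intro h
      have : z = 1 := Subtype.ext h
      rw [this, orderOf_one] at hz
      exact hp.one_lt.ne hz
    have hzp : (z : G) ^ p = 1 := by
      have := pow_orderOf_eq_one z
      rw [hz] at this
      have h2 := congrArg Subtype.val this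
      simpa using h2
    have hexp : ∀ n ∈ N, n ^ p = 1 := by
      intro n hn
      by_cases hn1 : n = 1
      · rw [hn1, one_pow]
      · obtain ⟨g, hg⟩ := hconj z.1 z.2 n hn hz1 hn1
        rw [← hg, conj_pow, hzp]; group
    have hNp : IsPGroup p ↥N := by
      intro n
      refine ⟨1, ?_⟩
      apply Subtype.ext
      rw [pow_one, Subgroup.coe_pow, Subgroup.coe_one]
      exact hexp n.1 n.2
    haveI := hNp.center_nontrivial
    obtain ⟨c, hc⟩ := exists_ne (1 : Subgroup.center ↥N)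
    have hc1 : ((c : ↥N) : G) ≠ 1 := by
      intro h
      apply hc
      apply Subtype.ext
      apply Subtype.ext
      exact h
    refine ⟨⟨⟨fun a b => ?_⟩⟩, p, hp, hexp⟩
    by_cases ha1 : (a : G) = 1
    · have ha : a = 1 := Subtype.ext ha1
      rw [ha, one_mul, mul_one]
    · obtain ⟨g, hg⟩ := hconj _ (c : ↥N).2 a.1 a.2 hc1 ha1
      have hb' : g⁻¹ * (b : G) * g⁻¹⁻¹ ∈ N := hNn.conj_mem _ b.2 g⁻¹
      have hcomm := Subgroup.mem_center_iff.1 c.2 ⟨_, hb'⟩
      have hcomm' : g⁻¹ * (b : G) * g⁻¹⁻¹ * ((c : ↥N) : G) = ((c : ↥N) : G) * (g⁻¹ * (b : G) * g⁻¹⁻¹) := by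
        have := congrArg Subtype.val hcomm
        simpa using this
      apply Subtype.ext
      rw [Subgroup.coe_mul, Subgroup.coe_mul, ← hg]
      calc g * ((c : ↥N) : G) * g⁻¹ * (b : G)
          = g * (((c : ↥N) : G) * (g⁻¹ * (b : G) * g⁻¹⁻¹)) * g⁻¹ := by group
        _ = g * ((g⁻¹ * (b : G) * g⁻¹⁻¹) * ((c : ↥N) : G)) * g⁻¹ := by rw [hcomm']
        _ = (b : G) * (g * ((c : ↥N) : G) * g⁻¹) := by group

end Cfsg.Agent.S0054
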