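import Cfsg.Statements.S0057
import Mathlib
import Cfsg.Agent.H1.CoprimeCommutator

set_option autoImplicit false
open Cfsg

namespace Cfsg.Agent.S0057

set_option autoImplicit false
open scoped Pointwise commutatorElement
open Cfsg.Agent.H1

/-- Under coprime action, if the centraliser of A in K has prime index p in K then the commutator subgroup [K, A] has order exactly p. -/
theorem result {G : Type*} [Group G] [Finite G] (A K : Subgroup G) (hAK : A ≤ Subgroup.normalizer (K : Set G))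
    (hcop : (Nat.card A).Coprime (Nat.card K)) (hsolv : Group.IsSolvable A ∨ Group.IsSolvable K)
    (p : ℕ) (hp : p.Prime) (hidx : (K ⊓ Subgroup.centralizer (A : Set G)).relIndex K = p) :
    Nat.card (⁅K, A⁆ : Subgroup G) = p := by
  have : Fact p.Prime := ⟨hp⟩
  obtain ⟨C, hC⟩ : ∃ C : Subgroup G, C = K ⊓ Subgroup.centralizer (A : Set G) := ⟨_, rfl⟩
  rw [← hC] at hidx
  have hCK : C ≤ K := by rw [hC]; exact inf_le_left
  have hCA : ∀ c ∈ C, ∀ a ∈ A, a * c = c * a := by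
    intro c hc a ha
    rw [hC] at hc
    exact Subgroup.mem_centralizer_iff.mp (Subgroup.mem_inf.mp hc).2 a ha
  obtain ⟨P₀, hP₀⟩ := Cfsg.Agent.S0023.result A K hAK hcop hsolv p
  obtain ⟨R₀, hR₀⟩ : ∃ R₀ : Subgroup G, R₀ = (P₀ : Subgroup K).map K.subtype := ⟨_, rfl⟩
  rw [← hR₀] at hP₀
  have hR₀K : R₀ ≤ K := by rw [hR₀]; exact Subgroup.map_subtype_le _
  have hR₀p : IsPGroup p R₀ := by rw [hR₀]; exact P₀.isPGroup'.map _
  have hR₀idx : ¬ p ∣ R₀.relIndex K := by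
    have : R₀.subgroupOf K = (P₀ : Subgroup K) := by
      rw [hR₀]; exact Subgroup.comap_map_eq_self_of_injective K.subtype_injective _
    show ¬ p ∣ (R₀.subgroupOf K).index
    rw [this]; exact P₀.not_dvd_index
  have hcop₀ : (Nat.card A).Coprime (Nat.card R₀) :=
    Nat.Coprime.coprime_dvd_right (Subgroup.card_dvd_of_le hR₀K) hcop
  -- maximality of R₀
  have hmaxR₀ : ∀ Q : Subgroup G, IsPGroup p Q → Q ≤ K → Q ≤ Subgroup.normalizer (R₀ : Set G) → Q ≤ R₀ := by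
    intro Q hQ hQK hQn
    have hQR : IsPGroup p (Q ⊔ R₀ : Subgroup G) := hQ.to_sup_of_normal_right' hR₀p hQn
    have hle : Q ⊔ R₀ ≤ K := sup_le hQK hR₀K
    have h1 : R₀.relIndex (Q ⊔ R₀) ∣ R₀.relIndex K :=
      Dvd.intro _ (Subgroup.relIndex_mul_relIndex R₀ (Q ⊔ R₀) K le_sup_right hle)
    obtain ⟨m, hm⟩ := hQR.exists_card_eq
    have h2 : R₀.relIndex (Q ⊔ R₀) ∣ p ^ m := hm ▸ Subgroup.relIndex_dvd_card _ _
    obtain ⟨j, -, hj⟩ := (Nat.dvd_prime_pow hp).mp h2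
    have hj0 : j = 0 := by
      by_contra hj0
      apply hR₀idx
      refine dvd_trans ?_ h1
      rw [hj]; exact dvd_pow_self p hj0
    rw [hj0, pow_zero] at hj
    exact le_sup_left.trans (Subgroup.relIndex_eq_one.mp hj)
  have hidx₀ : (R₀ ⊓ Subgroup.centralizer (A : Set G)).relIndex R₀ = p := by
    have e : R₀ ⊓ Subgroup.centralizer (A : Set G) = C ⊓ R₀ := by
      rw [hC, inf_comm K, inf_assoc, inf_eq_right.mpr hR₀K, inf_comm]
    rw [e, Subgroup.inf_relIndex_right]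
    have hle : C.relIndex R₀ ≤ p := by
      have := Subgroup.relIndex_le_of_le_right (H := C) hR₀K (by rw [hidx]; exact hp.ne_zero)
      rw [hidx] at this; exact this
    have hdvd : C.relIndex R₀ ∣ Nat.card R₀ := Subgroup.relIndex_dvd_card _ _
    obtain ⟨k, hk⟩ := hR₀p.exists_card_eq
    rw [hk] at hdvd
    obtain ⟨j, -, hj⟩ := (Nat.dvd_prime_pow hp).mp hdvd
    rcases j with _ | _ | j
    · exfalso
      rw [pow_zero] at hj
      have hR₀C : R₀ ≤ C := Subgroup.relIndex_eq_one.mp hj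
      apply hR₀idx
      rw [← Subgroup.relIndex_mul_relIndex R₀ C K hR₀C hCK, hidx]
      exact dvd_mul_left _ _
    · rw [hj]; simp
    · exfalso
      rw [hj] at hle
      have : p ^ 2 ≤ p ^ (j + 1 + 1) := Nat.pow_le_pow_right hp.pos (by omega)
      have h2 : p < p ^ 2 := by nlinarith [hp.two_le]
      omega
  obtain ⟨hRcard, hRcent⟩ := card_commutator_of_pgroup A R₀ hP₀ hcop₀ p hR₀p hidx₀
  obtain ⟨R, hR⟩ : ∃ R : Subgroup G, R = ⁅R₀, A⁆ := ⟨_, rfl⟩
  rw [← hR] at hRcard hRcent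
  have hRR₀ : R ≤ R₀ := by
    rw [hR]; exact Subgroup.le_normalizer_iff_commutator_le_left.mp hP₀
  have hRK : R ≤ K := hRR₀.trans hR₀K
  -- K = C R as a set
  have hfact : ∀ k ∈ K, ∃ c ∈ C, ∃ r ∈ R, k = c * r := by
    have hcompl : Subgroup.IsComplement' (C.subgroupOf K) (R.subgroupOf K) := by
      apply Subgroup.isComplement'_of_card_mul_and_disjoint
      · rw [card_subgroupOf_of_le hCK, card_subgroupOf_of_le hRK, hRcard,
          card_eq_relIndex_mul_card hCK, hidx, mul_comm]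
      · rw [disjoint_iff, eq_bot_iff]
        intro x hx
        obtain ⟨hx1, hx2⟩ := Subgroup.mem_inf.mp hx
        rw [Subgroup.mem_subgroupOf] at hx1 hx2
        have hx3 : (x : G) ∈ R ⊓ Subgroup.centralizer (A : Set G) := by
          refine Subgroup.mem_inf.mpr ⟨hx2, ?_⟩
          rw [hC] at hx1
          exact (Subgroup.mem_inf.mp hx1).2
        rw [hRcent, Subgroup.mem_bot] at hx3
        rw [Subgroup.mem_bot]
        exact Subtype.ext hx3
    intro k hk
    obtain ⟨⟨c, r⟩, hcr⟩ := hcompl.2 ⟨k, hk⟩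
    refine ⟨c.1, Subgroup.mem_subgroupOf.mp c.2, r.1, Subgroup.mem_subgroupOf.mp r.2, ?_⟩
    have := congrArg Subtype.val hcr
    simpa using this.symm
  -- [K, A] ≤ R₀
  have hLR₀ : ⁅K, A⁆ ≤ R₀ := by
    rw [Subgroup.commutator_le]
    intro k hk a ha
    have hxK : ⁅k, a⁆ ∈ K := by
      rw [commutatorElement_def, mul_assoc, mul_assoc]
      refine mul_mem hk ?_
      rw [← mul_assoc]
      exact (Subgroup.mem_normalizer_iff.mp (hAK ha) k⁻¹).mp (inv_mem hk)
    -- normalizes R₀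
    have hxN : ⁅k, a⁆ ∈ Subgroup.normalizer (R₀ : Set G) := by
      obtain ⟨c', hc', r', hr', e'⟩ := hfact k⁻¹ (inv_mem hk)
      have hk' : k = r'⁻¹ * c'⁻¹ := by
        rw [← inv_inj, e']; group
      have hr'N : r' ∈ Subgroup.normalizer (R₀ : Set G) := Subgroup.le_normalizer (hRR₀ hr')
      have haN : a ∈ Subgroup.normalizer (R₀ : Set G) := hP₀ ha
      have e : ⁅k, a⁆ = r'⁻¹ * a * r' * a⁻¹ := by
        rw [commutatorElement_def, hk']
        have h1 : c'⁻¹ * a = a * c'⁻¹ := by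
          have := hCA c' hc' a ha
          calc c'⁻¹ * a = c'⁻¹ * (a * c') * c'⁻¹ := by group
            _ = c'⁻¹ * (c' * a) * c'⁻¹ := by rw [this]
            _ = a * c'⁻¹ := by group
        calc r'⁻¹ * c'⁻¹ * a * (r'⁻¹ * c'⁻¹)⁻¹ * a⁻¹ = r'⁻¹ * (c'⁻¹ * a) * c' * r' * a⁻¹ := by group
          _ = r'⁻¹ * (a * c'⁻¹) * c' * r' * a⁻¹ := by rw [h1]
          _ = r'⁻¹ * a * r' * a⁻¹ := by group
      rw [e]
      exact mul_mem (mul_mem (mul_mem (inv_mem hr'N) haN) hr'N) (inv_mem haN)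
    -- p-element
    obtain ⟨c, hc, r, hr, e⟩ := hfact k hk
    have hx : ⁅k, a⁆ = c * ⁅r, a⁆ * c⁻¹ := by
      rw [commutatorElement_def, commutatorElement_def, e]
      have h1 : c⁻¹ * a⁻¹ = a⁻¹ * c⁻¹ := by
        have := hCA c hc a ha
        rw [← mul_inv_rev, ← mul_inv_rev, this]
      calc c * r * a * (c * r)⁻¹ * a⁻¹ = c * r * a * r⁻¹ * (c⁻¹ * a⁻¹) := by group
        _ = c * r * a * r⁻¹ * (a⁻¹ * c⁻¹) := by rw [h1]
        _ = c * (r * a * r⁻¹ * a⁻¹) * c⁻¹ := by group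
    have hyR₀ : ⁅r, a⁆ ∈ R₀ := hRR₀ (by rw [hR]; exact Subgroup.commutator_mem_commutator (hRR₀ hr) ha)
    have hQ : IsPGroup p (Subgroup.zpowers ⁅k, a⁆) := by
      rw [hx]
      have h1 : IsPGroup p (Subgroup.zpowers ⁅r, a⁆) := hR₀p.to_le (by
        rw [Subgroup.zpowers_le]; exact hyR₀)
      have h2 : Subgroup.zpowers (c * ⁅r, a⁆ * c⁻¹) = (Subgroup.zpowers ⁅r, a⁆).map (MulAut.conj c).toMonoidHom := by
        rw [MonoidHom.map_zpowers]; rfl
      rw [h2]; exact h1.map _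
    have := hmaxR₀ (Subgroup.zpowers ⁅k, a⁆) hQ (by rw [Subgroup.zpowers_le]; exact hxK)
      (by rw [Subgroup.zpowers_le]; exact hxN)
    exact this (Subgroup.mem_zpowers _)
  have h27 := Cfsg.Agent.S0027.result A K hAK hcop hsolv
  have h1 : ⁅K, A⁆ ≤ R := by
    rw [← h27, hR]; exact Subgroup.commutator_mono hLR₀ le_rfl
  have h2 : R ≤ ⁅K, A⁆ := by
    rw [hR]; exact Subgroup.commutator_mono hR₀K le_rfl
  rw [le_antisymm h1 h2]; exact hRcard

end Cfsg.Agent.S0057
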