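import Cfsg.Statements.S0059
import Mathlib
import Cfsg.Agent.H1.SZConj

set_option autoImplicit false
open Cfsg

namespace Cfsg.Agent.S0059

open Cfsg.Agent.H1
open scoped Pointwise commutatorElement

/-- Let a finite group act on a set on which a normal subgroup K of coprime order and index is transitive, with K or the quotient solvable. Then any complement H of K has a fixed point, and any two H-fixed points are interchanged by an element of K centralising H. -/
theorem result {G : Type*} [Group G] [Finite G] {X : Type*} [Nonempty X] [MulAction G X]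
    (K H : Subgroup G) [K.Normal] (hc : Subgroup.IsComplement' K H) (hcop : (Nat.card K).Coprime K.index)
    (hsolv : Group.IsSolvable K ∨ Group.IsSolvable (G ⧸ K)) (htrans : MulAction.IsPretransitive K X) :
    (∃ x : X, ∀ h ∈ H, h • x = x) ∧
    ∀ x y : X, (∀ h ∈ H, h • x = x) → (∀ h ∈ H, h • y = y) → ∃ k ∈ K ⊓ Subgroup.centralizer (H : Set G), k • x = y := by
  have hidxH : K.index = Nat.card H := hc.symm.index_eq_card
  have hcop' : (Nat.card K).Coprime (Nat.card H) := hidxH ▸ hcop
  have hsolv' : ∀ H' : Subgroup G, Subgroup.IsComplement' K H' → Group.IsSolvable K ∨ Group.IsSolvable H' := by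
    intro H' hc'
    rcases hsolv with h | h
    · exact Or.inl h
    · right
      exact Group.isSolvable_of_surjective (f := (hc'.symm.QuotientMulEquiv).toMonoidHom) (hc'.symm.QuotientMulEquiv).surjective
  have htr : ∀ x y : X, ∃ k ∈ K, k • x = y := by
    intro x y
    obtain ⟨k, hk⟩ := MulAction.exists_smul_eq K x y
    exact ⟨k, k.2, hk⟩
  constructor
  · obtain ⟨x⟩ := (inferInstance : Nonempty X)
    obtain ⟨S, hS⟩ : ∃ S : Subgroup G, S = MulAction.stabilizer G x := ⟨_, rfl⟩
    have hKS : K ⊔ S = ⊤ := by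
      rw [eq_top_iff]
      intro g _
      obtain ⟨k, hk, hkx⟩ := htr x (g • x)
      have : k⁻¹ * g ∈ S := by
        rw [hS, MulAction.mem_stabilizer_iff, mul_smul, ← hkx, inv_smul_smul]
      have e : g = k * (k⁻¹ * g) := by group
      rw [e]
      exact mul_mem (Subgroup.mem_sup_left hk) (Subgroup.mem_sup_right this)
    have hDn : ((K ⊓ S).subgroupOf S).Normal := by
      rw [Subgroup.inf_subgroupOf_right]; infer_instance
    have hDidx : ((K ⊓ S).subgroupOf S).index = K.index := by
      show (K ⊓ S).relIndex S = K.index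
      rw [Subgroup.inf_relIndex_right, ← Subgroup.relIndex_sup_left (K := K) (H := S), hKS, Subgroup.relIndex_top_right]
    have hDcop : (Nat.card ((K ⊓ S).subgroupOf S)).Coprime ((K ⊓ S).subgroupOf S).index := by
      rw [hDidx, card_subgroupOf_of_le inf_le_right]
      exact Nat.Coprime.coprime_dvd_left (Subgroup.card_dvd_of_le inf_le_left) hcop
    obtain ⟨H₁', hH₁'⟩ := Subgroup.exists_right_complement'_of_coprime hDcop
    have hcardH₁ : Nat.card (H₁'.map S.subtype) = Nat.card H := by
      rw [Subgroup.card_map_of_injective S.subtype_injective, ← hH₁'.symm.index_eq_card, hDidx, hidxH]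
    have hdisj : Disjoint K (H₁'.map S.subtype) := by
      rw [disjoint_iff, eq_bot_iff]
      rintro g hg
      obtain ⟨hgK, ⟨s, hs, rfl⟩⟩ := Subgroup.mem_inf.mp hg
      have h1 : s ∈ (K ⊓ S).subgroupOf S := by
        rw [Subgroup.mem_subgroupOf]
        exact Subgroup.mem_inf.mpr ⟨hgK, s.2⟩
      have h2 : s ∈ (K ⊓ S).subgroupOf S ⊓ H₁' := Subgroup.mem_inf.mpr ⟨h1, hs⟩
      rw [hH₁'.disjoint.eq_bot, Subgroup.mem_bot] at h2
      rw [Subgroup.mem_bot, h2]; rfl
    have hc₁ : Subgroup.IsComplement' K (H₁'.map S.subtype) := by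
      apply Subgroup.isComplement'_of_card_mul_and_disjoint _ hdisj
      rw [hcardH₁]; exact hc.card_mul_card
    obtain ⟨g, hg⟩ := sz_conj K (H₁'.map S.subtype) H hc₁ hc (hcardH₁ ▸ hcop') (hsolv' _ hc₁)
    refine ⟨g • x, ?_⟩
    intro h hh
    rw [← hg, mem_conj_smul] at hh
    obtain ⟨s, _, hs⟩ := hh
    have hsx : (s : G) • x = x := by
      have h1 : (s : G) ∈ MulAction.stabilizer G x := hS ▸ s.2
      exact MulAction.mem_stabilizer_iff.mp h1
    have e : h = g * (g⁻¹ * h * g) * g⁻¹ := by group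
    rw [e, ← hs, mul_smul, mul_smul, inv_smul_smul]
    show g • (s : G) • x = g • x
    rw [hsx]
  · intro x y hx hy
    obtain ⟨k, hk, hkx⟩ := htr x y
    obtain ⟨S, hS⟩ : ∃ S : Subgroup G, S = MulAction.stabilizer G x := ⟨_, rfl⟩
    have hHS : H ≤ S := by
      intro h hh
      rw [hS, MulAction.mem_stabilizer_iff]; exact hx h hh
    have hH₂S : MulAut.conj k⁻¹ • H ≤ S := by
      intro h hh
      rw [mem_conj_smul, inv_inv] at hh
      rw [hS, MulAction.mem_stabilizer_iff]
      have e : h = k⁻¹ * (k * h * k⁻¹) * k := by group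
      rw [e, mul_smul, mul_smul, hkx, hy _ hh, ← hkx, inv_smul_smul]
    have hc₂ : Subgroup.IsComplement' K (MulAut.conj k⁻¹ • H) := isComplement'_conj K H hc k⁻¹
    have hdec : ∀ Y : Subgroup G, Subgroup.IsComplement' K Y → Y ≤ S → (K ⊓ S) ⊔ Y = S := by
      intro Y hY hYS
      apply le_antisymm (sup_le inf_le_right hYS)
      intro g hg
      have hg' : g ∈ K ⊔ Y := by rw [hY.sup_eq_top]; trivial
      obtain ⟨n, hn, u, hu, rfl⟩ := Subgroup.mem_sup_of_normal_left.mp hg'
      have hnS : n ∈ S := by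
        have : n = (n * u) * u⁻¹ := by group
        rw [this]
        exact mul_mem hg (inv_mem (hYS hu))
      exact mul_mem (Subgroup.mem_sup_left (Subgroup.mem_inf.mpr ⟨hn, hnS⟩)) (Subgroup.mem_sup_right hu)
    have hnorm : S ≤ Subgroup.normalizer ((K ⊓ S : Subgroup G) : Set G) := by
      rw [Subgroup.le_normalizer_iff]
      intro g hg z hz
      exact Subgroup.mem_inf.mpr ⟨(inferInstance : K.Normal).conj_mem z (Subgroup.mem_inf.mp hz).1 g,
        mul_mem (mul_mem hg (Subgroup.mem_inf.mp hz).2) (inv_mem hg)⟩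
    have hsolvS : Group.IsSolvable (K ⊓ S : Subgroup G) ∨ Group.IsSolvable H := by
      rcases hsolv' H hc with h | h
      · left
        exact Group.isSolvable_of_isSolvable_injective (f := Subgroup.inclusion (inf_le_left : K ⊓ S ≤ K))
          (Subgroup.inclusion_injective _)
      · exact Or.inr h
    obtain ⟨c, hcS, hcH⟩ := sz_relative S (K ⊓ S) H (MulAut.conj k⁻¹ • H) inf_le_right hnorm hHS hH₂S
      (by rw [eq_bot_iff, ← hc.disjoint.eq_bot]; exact inf_le_inf_right _ inf_le_left)
      (hdec _ hc hHS)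
      (by rw [eq_bot_iff, ← hc₂.disjoint.eq_bot]; exact inf_le_inf_right _ inf_le_left)
      (hdec _ hc₂ hH₂S)
      (Nat.Coprime.coprime_dvd_left (Subgroup.card_dvd_of_le inf_le_left) hcop')
      hsolvS (fun N _ H K h1 h2 h3 h4 => sz_conj N H K h1 h2 h3 h4)
    -- decompose c
    have hc' : c ∈ K ⊔ H := by rw [hc.sup_eq_top]; trivial
    obtain ⟨k₁, hk₁, h, hh, rfl⟩ := Subgroup.mem_sup_of_normal_left.mp hc'
    have hk₁S : k₁ ∈ S := by
      have : k₁ = (k₁ * h) * h⁻¹ := by group
      rw [this]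
      exact mul_mem hcS (inv_mem (hHS hh))
    have hhH : MulAut.conj h • H = H := by
      rw [conj_smul_eq_map]; exact map_conj_of_mem H h hh
    rw [map_mul, mul_smul, hhH] at hcH
    -- z = k * k₁ normalizes H
    have hz : MulAut.conj (k * k₁) • H = H := by
      rw [map_mul, mul_smul, hcH, ← mul_smul, ← map_mul, mul_inv_cancel, map_one, one_smul]
    have hzK : k * k₁ ∈ K := mul_mem hk hk₁
    refine ⟨k * k₁, Subgroup.mem_inf.mpr ⟨hzK, ?_⟩, ?_⟩
    · rw [Subgroup.mem_centralizer_iff]
      intro u hu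
      have h1 : (k * k₁) * u * (k * k₁)⁻¹ ∈ H := by
        have : (k * k₁) * u * (k * k₁)⁻¹ ∈ MulAut.conj (k * k₁) • H := (conj_mem_conj_smul _ _ _).mpr hu
        rw [hz] at this; exact this
      have h2 : ⁅k * k₁, u⁆ ∈ H := by
        rw [commutatorElement_def]; exact mul_mem h1 (inv_mem hu)
      have h3 : ⁅k * k₁, u⁆ ∈ K := by
        rw [commutatorElement_def, mul_assoc, mul_assoc]
        refine mul_mem hzK ?_
        rw [← mul_assoc]
        exact (inferInstance : K.Normal).conj_mem _ (inv_mem hzK) u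
      have h4 : ⁅k * k₁, u⁆ ∈ K ⊓ H := Subgroup.mem_inf.mpr ⟨h3, h2⟩
      rw [hc.disjoint.eq_bot, Subgroup.mem_bot, commutatorElement_eq_one_iff_mul_comm] at h4
      exact h4.symm
    · rw [mul_smul]
      have : k₁ • x = x := by
        rw [hS, MulAction.mem_stabilizer_iff] at hk₁S; exact hk₁S
      rw [this, hkx]

end Cfsg.Agent.S0059
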