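import Cfsg.Statements.S0063


set_option autoImplicit false
open Cfsg

namespace Cfsg.Agent.S0063

theorem aux (p : ℕ) [hp : Fact p.Prime] : ∀ m : ℕ, ∀ (G : Type*) [Group G] [Finite G],
    Nat.card G = p ^ m → 1 < m → Group.nilpotencyClass G ≤ m - 1 := by
  intro m
  induction m using Nat.strong_induction_on with
  | _ m ih =>
    intro G _ _ hG hm
    have hGp : IsPGroup p G := IsPGroup.of_card hG
    haveI : Nontrivial G := by
      rw [← Finite.one_lt_card_iff_nontrivial, hG]
      exact Nat.one_lt_pow (by omega) hp.out.one_lt
    haveI : Group.IsNilpotent G := hGp.isNilpotent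
    have hq : IsPGroup p (G ⧸ Subgroup.center G) := hGp.to_quotient _
    obtain ⟨m', hm'⟩ := IsPGroup.iff_card.1 hq
    haveI hZnt : Nontrivial (Subgroup.center G) := hGp.center_nontrivial
    have hcard : Nat.card G = Nat.card (G ⧸ Subgroup.center G) * Nat.card (Subgroup.center G) :=
      Subgroup.card_eq_card_quotient_mul_card_subgroup _
    obtain ⟨k, hk0, hk⟩ := (hGp.to_subgroup (Subgroup.center G)).nontrivial_iff_card.1 hZnt
    have hmk : m = m' + k := by
      rw [hG, hm', hk, ← pow_add] at hcard
      exact Nat.pow_right_injective hp.out.two_le hcard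
    rcases Nat.lt_or_ge 1 m' with h1 | h1
    · have h2 := ih m' (by omega) (G ⧸ Subgroup.center G) hm' h1
      rw [Group.nilpotencyClass_eq_quotient_center_plus_one]
      omega
    · haveI hcyc : IsCyclic (G ⧸ Subgroup.center G) := by
        interval_cases m'
        · rw [pow_zero] at hm'
          haveI : Subsingleton (G ⧸ Subgroup.center G) := (Nat.card_eq_one_iff_unique.1 hm').1
          infer_instance
        · rw [pow_one] at hm'
          exact isCyclic_of_prime_card hm'
      have hcomm : IsMulCommutative G := isMulCommutative_of_isCyclic_quotient_center_self G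
      have := Group.IsNilpotent.nilpotencyClass_le_one_iff.2 hcomm
      omega

/-- A finite group of prime-power order p ^ m with m > 1 is nilpotent of class at most m - 1. -/
theorem result {G : Type*} [Group G] [Finite G] (p m : ℕ) [Fact p.Prime]
    (hG : Nat.card G = p ^ m) (hm : 1 < m) : Group.nilpotencyClass G ≤ m - 1 := by
  exact aux p m G hG hm

end Cfsg.Agent.S0063
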