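import Cfsg.Statements.S0584
import Mathlib
import Cfsg.Agent.H1.Basic
import Cfsg.Agent.H1.SylowConj

set_option autoImplicit false
open Cfsg

namespace Cfsg.Agent.S0584

open Cfsg.Agent.H1
open scoped Pointwise

/-- Let B ≤ A be normal subgroups of a finite group G with B contained in the Frattini subgroup of G. If A modulo B is nilpotent then A is nilpotent. -/
theorem result {G : Type*} [Group G] [Finite G] (A B : Subgroup G) [A.Normal] [B.Normal] (hBA : B ≤ A) (hB : B ≤ frattini G) (h : Group.IsNilpotent (↥A ⧸ B.subgroupOf A)) : Group.IsNilpotent A := by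
  have htfae := (Group.isNilpotent_of_finite_tfae (G := A)).out 0 3
  rw [htfae]
  intro p hp P
  suffices hN : Subgroup.normalizer (((P : Subgroup A).map A.subtype : Subgroup G) : Set G) = ⊤ by
    have : ((P : Subgroup A).map A.subtype).Normal := Subgroup.normalizer_eq_top_iff.mp hN
    exact this.of_map_subtype
  apply frattini_nongenerating
  rw [eq_top_iff]
  intro g _
  suffices hb : ∃ b ∈ B, b⁻¹ * g ∈ Subgroup.normalizer (((P : Subgroup A).map A.subtype : Subgroup G) : Set G) by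
    obtain ⟨b, hb, hbg⟩ := hb
    have : g = b * (b⁻¹ * g) := by group
    rw [this]
    exact mul_mem (Subgroup.mem_sup_right (hB hb)) (Subgroup.mem_sup_left hbg)
  -- the quotient
  have hsurj : Function.Surjective (QuotientGroup.mk' (B.subgroupOf A)) := QuotientGroup.mk'_surjective _
  have hPn : ((P.mapSurjective hsurj : Sylow p (↥A ⧸ B.subgroupOf A)) : Subgroup (↥A ⧸ B.subgroupOf A)).Normal :=
    by
      have htfae' := (Group.isNilpotent_of_finite_tfae (G := ↥A ⧸ B.subgroupOf A)).out 0 3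
      exact htfae'.mp h p hp _
  have huniq : Unique (Sylow p (↥A ⧸ B.subgroupOf A)) := Sylow.unique_of_normal _ hPn
  -- the conjugate Sylow
  obtain ⟨P₁, hP₁⟩ : ∃ P₁ : Sylow p A, P₁ = (MulAut.conjNormal g : MulAut A) • P := ⟨_, rfl⟩
  have hP₁mem : ∀ w : A, w ∈ P₁ ↔ (⟨g⁻¹ * w * g, by
      have := (inferInstance : A.Normal).conj_mem w w.2 g⁻¹; simpa using this⟩ : A) ∈ P := by
    intro w
    rw [hP₁]
    have : w ∈ (MulAut.conjNormal g : MulAut A) • P ↔ w ∈ (MulAut.conjNormal g : MulAut A) • (P : Subgroup A) := Iff.rfl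
    rw [this, Subgroup.mem_pointwise_smul_iff_inv_smul_mem]
    have e : (MulAut.conjNormal g : MulAut A)⁻¹ • w = (⟨g⁻¹ * w * g, by
      have := (inferInstance : A.Normal).conj_mem w w.2 g⁻¹; simpa using this⟩ : A) := by
      apply Subtype.ext
      rw [MulAut.smul_def, MulAut.conjNormal_inv_apply]
    rw [e]
    rfl
  have hmapeq : P₁.mapSurjective hsurj = P.mapSurjective hsurj := Subsingleton.elim _ _
  have hP₁le : (P₁ : Subgroup A) ≤ B.subgroupOf A ⊔ (P : Subgroup A) := by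
    intro y hy
    have hy' : QuotientGroup.mk' (B.subgroupOf A) y ∈ ((P₁.mapSurjective hsurj : Sylow p _) : Subgroup (↥A ⧸ B.subgroupOf A)) := by
      rw [Sylow.coe_mapSurjective]
      exact Subgroup.mem_map_of_mem _ hy
    rw [hmapeq, Sylow.coe_mapSurjective] at hy'
    obtain ⟨x, hx, hxy⟩ := hy'
    have hxy' : x⁻¹ * y ∈ B.subgroupOf A := by
      rw [← QuotientGroup.eq]
      exact hxy
    have : y = x * (x⁻¹ * y) * x⁻¹ * x := by group
    rw [this]
    exact mul_mem (Subgroup.mem_sup_left ((inferInstance : (B.subgroupOf A).Normal).conj_mem _ hxy' x)) (Subgroup.mem_sup_right hx)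
  obtain ⟨k, hk, hkP⟩ := sylow_conj_in_subgroup P P₁ (B.subgroupOf A ⊔ (P : Subgroup A)) le_sup_right hP₁le
  rw [Subgroup.mem_sup_of_normal_left] at hk
  obtain ⟨b', hb', x, hx, rfl⟩ := hk
  have hxP : x • P = P := Sylow.smul_eq_iff_mem_normalizer.mpr (Subgroup.le_normalizer hx)
  rw [mul_smul, hxP] at hkP
  refine ⟨(b' : G), Subgroup.mem_subgroupOf.mp hb', ?_⟩
  rw [Subgroup.mem_normalizer_iff]
  intro z
  by_cases hz : z ∈ A
  · have hw : g * z * g⁻¹ ∈ A := (inferInstance : A.Normal).conj_mem z hz g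
    have h1 := hP₁mem ⟨g * z * g⁻¹, hw⟩
    have h2 : (⟨g * z * g⁻¹, hw⟩ : A) ∈ P₁ ↔ b'⁻¹ * (⟨g * z * g⁻¹, hw⟩ : A) * b' ∈ P := by
      rw [← hkP, mem_sylow_smul]
    rw [h1] at h2
    have e1 : (⟨g⁻¹ * ((⟨g * z * g⁻¹, hw⟩ : A) : G) * g, by
      have := (inferInstance : A.Normal).conj_mem (⟨g * z * g⁻¹, hw⟩ : A) hw g⁻¹; simpa using this⟩ : A) = ⟨z, hz⟩ := by
      apply Subtype.ext
      show g⁻¹ * (g * z * g⁻¹) * g = z
      group
    rw [e1] at h2
    constructor
    · rintro ⟨z', hz', hzz⟩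
      have : z' = ⟨z, hz⟩ := Subtype.ext hzz
      rw [this] at hz'
      refine ⟨b'⁻¹ * (⟨g * z * g⁻¹, hw⟩ : A) * b', h2.mp hz', ?_⟩
      simp only [Subgroup.coe_subtype, Subgroup.coe_mul, Subgroup.coe_inv]
      group
    · rintro ⟨z', hz', hzz⟩
      refine ⟨⟨z, hz⟩, h2.mpr ?_, rfl⟩
      have : z' = b'⁻¹ * (⟨g * z * g⁻¹, hw⟩ : A) * b' := by
        apply Subtype.ext
        rw [Subgroup.coe_subtype] at hzz
        rw [hzz]
        simp only [Subgroup.coe_mul, Subgroup.coe_inv]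
        group
      rw [← this]; exact hz'
  · constructor
    · rintro ⟨z', _, rfl⟩
      exact absurd z'.2 hz
    · rintro ⟨z', _, hzz⟩
      exfalso
      apply hz
      have : z = ((b' : G)⁻¹ * g)⁻¹ * ((b' : G)⁻¹ * g * z * ((b' : G)⁻¹ * g)⁻¹) * ((b' : G)⁻¹ * g)⁻¹⁻¹ := by group
      rw [this, ← hzz]
      exact (inferInstance : A.Normal).conj_mem _ z'.2 _

end Cfsg.Agent.S0584
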