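import Cfsg.Statements.S0070
import Mathlib
import Cfsg.Prelude.Def_Solvable
import Cfsg.Agent.H1.Basic
import Cfsg.Agent.H1.Cores
import Cfsg.Agent.S0584

set_option autoImplicit false
open Cfsg

namespace Cfsg.Agent.S0070

open Cfsg.Agent.H1

/-- The Fitting subgroup commutes with passing to the Frattini quotient: the Fitting subgroup of G modulo its Frattini subgroup is the image of the Fitting subgroup of G. -/
theorem result {G : Type*} [Group G] [Finite G] :
    Cfsg.fittingSubgroup (G ⧸ frattini G) = (Cfsg.fittingSubgroup G).map (QuotientGroup.mk' (frattini G)) := by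
  have hsurj : Function.Surjective (QuotientGroup.mk' (frattini G)) := QuotientGroup.mk'_surjective _
  apply le_antisymm
  · obtain ⟨A, hAdef⟩ : ∃ A : Subgroup G, A = (Cfsg.fittingSubgroup (G ⧸ frattini G)).comap (QuotientGroup.mk' (frattini G)) := ⟨_, rfl⟩
    have hAn : A.Normal := by rw [hAdef]; infer_instance
    have hΦA : frattini G ≤ A := by
      rw [hAdef]
      intro x hx
      rw [Subgroup.mem_comap]
      have : QuotientGroup.mk' (frattini G) x = 1 := (QuotientGroup.eq_one_iff x).mpr hx
      rw [this]; exact one_mem _
    have hmemA : ∀ a : A, QuotientGroup.mk' (frattini G) (a : G) ∈ Cfsg.fittingSubgroup (G ⧸ frattini G) := by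
      intro a
      obtain ⟨a, ha⟩ := a
      subst hAdef
      exact ha
    have hnil : Group.IsNilpotent (↥A ⧸ (frattini G).subgroupOf A) := by
      have hF : Group.IsNilpotent (Cfsg.fittingSubgroup (G ⧸ frattini G)) := fittingSubgroup_nilpotent
      let ψ : A →* Cfsg.fittingSubgroup (G ⧸ frattini G) :=
        ((QuotientGroup.mk' (frattini G)).comp A.subtype).codRestrict _ hmemA
      have hψ : (frattini G).subgroupOf A ≤ ψ.ker := by
        intro x hx
        rw [MonoidHom.mem_ker]
        apply Subtype.ext
        exact (QuotientGroup.eq_one_iff (x : G)).mpr (Subgroup.mem_subgroupOf.mp hx)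
      apply Subgroup.isNilpotent_of_ker_le_center (QuotientGroup.lift ((frattini G).subgroupOf A) ψ hψ)
      intro x hx
      rw [MonoidHom.mem_ker] at hx
      induction x using QuotientGroup.induction_on with
      | H a =>
        rw [QuotientGroup.lift_mk] at hx
        have h1 : QuotientGroup.mk' (frattini G) (a : G) = 1 := congrArg Subtype.val hx
        have h2 : (a : G) ∈ frattini G := (QuotientGroup.eq_one_iff (a : G)).mp h1
        have h3 : (QuotientGroup.mk a : ↥A ⧸ (frattini G).subgroupOf A) = 1 :=
          (QuotientGroup.eq_one_iff a).mpr (Subgroup.mem_subgroupOf.mpr h2)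
        rw [h3]; exact one_mem _
    have hA : Group.IsNilpotent A := Cfsg.Agent.S0584.result A (frattini G) hΦA le_rfl hnil
    have hAF : A ≤ Cfsg.fittingSubgroup G := le_fittingSubgroup hAn hA
    calc Cfsg.fittingSubgroup (G ⧸ frattini G) = A.map (QuotientGroup.mk' (frattini G)) := by
          rw [hAdef, Subgroup.map_comap_eq_self_of_surjective hsurj]
      _ ≤ (Cfsg.fittingSubgroup G).map (QuotientGroup.mk' (frattini G)) := Subgroup.map_mono hAF
  · apply le_fittingSubgroup
    · exact Subgroup.Normal.map inferInstance _ hsurj
    · have hF : Group.IsNilpotent (Cfsg.fittingSubgroup G) := fittingSubgroup_nilpotent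
      exact Group.nilpotent_of_surjective ((QuotientGroup.mk' (frattini G)).subgroupMap (Cfsg.fittingSubgroup G))
        (MonoidHom.subgroupMap_surjective _ _)

end Cfsg.Agent.S0070
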