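import Cfsg.Statements.S0072
import Mathlib
import Cfsg.Agent.Lib.Lead.NormalPComplement

set_option autoImplicit false
set_option linter.style.haveILetI false
open Cfsg

namespace Cfsg.Agent.S0072

open Cfsg.Agent.Lib.Lead.NormalPComplement

/-- Frobenius' criterion, local form. -/
theorem result {G : Type*} [Group G] [Finite G] (p : ℕ) [Fact p.Prime] : Cfsg.HasNormalPComplement p G ↔ ∀ Q : Subgroup G, IsPGroup p Q → Q ≠ ⊥ → Cfsg.HasNormalPComplement p (Subgroup.normalizer (Q : Set G)) := by
  constructor
  · intro h Q _ _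
    exact hasNormalPComplement_subgroup h _
  · intro h
    obtain ⟨P⟩ : Nonempty (Sylow p G) := inferInstance
    apply hasNormalPComplement_of_p'_centralize P
    intro Q hQP g hg hgp
    by_cases hne : Q = ⊥
    · rw [hne, Subgroup.mem_centralizer_iff]
      intro y hy
      have : y = 1 := Subgroup.mem_bot.1 hy
      rw [this, one_mul, mul_one]
    · have hQp : IsPGroup p ↥Q := P.isPGroup'.to_le hQP
      have hh := h Q hQp hne
      set N := Subgroup.normalizer (Q : Set G) with hN
      obtain ⟨M, hM, hc, k, hk⟩ := exists_normal_of_hasNormalPComplement hh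
      haveI := hM
      haveI hQn : (Q.subgroupOf N).Normal := Subgroup.normal_in_normalizer
      have hQ'p : IsPGroup p ↥(Q.subgroupOf N) := hQp.comap_subtype
      have hg' : (⟨g, hg⟩ : ↥N) ∈ Subgroup.normalizer ((Q.subgroupOf N : Subgroup ↥N) : Set ↥N) := by
        rw [Subgroup.normalizer_eq_top]; trivial
      have hgp' : Nat.Coprime (orderOf (⟨g, hg⟩ : ↥N)) p := by
        rw [← Subgroup.orderOf_coe]; exact hgp
      have hcent := centralizes_of_normal M hc hk (Q.subgroupOf N) hQ'p ⟨g, hg⟩ hg' hgp'
      rw [Subgroup.mem_centralizer_iff] at hcent ⊢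
      intro q hq
      have := hcent ⟨q, Subgroup.le_normalizer hq⟩ (Subgroup.mem_subgroupOf.2 hq)
      exact congrArg Subtype.val this

end Cfsg.Agent.S0072
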