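import Cfsg.Statements.S0073
import Mathlib
import Cfsg.Agent.Lib.Lead.NormalPComplement
import Cfsg.Agent.Lib.Lead.ConjAut

set_option autoImplicit false
open Cfsg

namespace Cfsg.Agent.S0073

open Cfsg.Agent.Lib.Lead.ConjAut Cfsg.Agent.Lib.Lead.NormalPComplement

/-- a `p'`-automorphism of a group of order `p ^ j`, `j ≤ 2`, all of whose prime divisors exceed `p`
(and are not `3` when `p = 2`, `j = 2`), is trivial -/
theorem aut_trivial' {Q : Type*} [Group Q] [Finite Q] {p j : ℕ} (hp : p.Prime) (hj : j ≤ 2)
    (hQ : Nat.card Q = p ^ j) (a : MulAut Q)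
    (hbig : ∀ r : ℕ, r.Prime → r ∣ orderOf a → p < r ∧ (j = 2 → ¬ (p = 2 ∧ r = 3))) : a = 1 := by
  by_contra hne
  have hpos : 0 < orderOf a := orderOf_pos a
  have hne1 : orderOf a ≠ 1 := by rwa [Ne, orderOf_eq_one_iff]
  obtain ⟨r, hr, hrd⟩ := Nat.exists_prime_and_dvd hne1
  obtain ⟨hpr, hex⟩ := hbig r hr hrd
  set b := a ^ (orderOf a / r) with hb
  have hob : orderOf b = r := orderOf_pow_orderOf_div hpos.ne' hrd
  haveI : Fact r.Prime := ⟨hr⟩
  have hgrp : IsPGroup r (Subgroup.zpowers b) := by
    apply IsPGroup.of_card (n := 1)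
    rw [Nat.card_zpowers, hob, pow_one]
  let F : Subgroup Q :=
    { carrier := {x | b x = x}
      mul_mem' := fun {x y} hx hy => by
        show b (x * y) = x * y
        rw [map_mul, hx, hy]
      one_mem' := map_one b
      inv_mem' := fun {x} hx => by
        show b x⁻¹ = x⁻¹
        rw [map_inv, hx] }
  have hfix : MulAction.fixedPoints (Subgroup.zpowers b) Q = (F : Set Q) := by
    ext x
    constructor
    · intro hx
      exact hx ⟨b, Subgroup.mem_zpowers b⟩
    · intro hx c
      have hle : Subgroup.zpowers b ≤ MulAction.stabilizer (MulAut Q) x := by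
        rw [Subgroup.zpowers_le, MulAction.mem_stabilizer_iff]
        exact hx
      exact MulAction.mem_stabilizer_iff.1 (hle c.2)
  have hmod := hgrp.card_modEq_card_fixedPoints Q
  rw [hfix] at hmod
  have hFd : Nat.card ↥F ∣ p ^ j := hQ ▸ Subgroup.card_subgroup_dvd_card F
  obtain ⟨i, hij, hi⟩ := (Nat.dvd_prime_pow hp).1 hFd
  have hmod' : p ^ i ≡ p ^ j [MOD r] := by
    have := hmod.symm
    rw [hQ] at this
    rw [← hi]
    exact this
  have hle : p ^ i ≤ p ^ j := Nat.pow_le_pow_right hp.pos hij
  have hdvd : r ∣ p ^ j - p ^ i := (Nat.modEq_iff_dvd' hle).1 hmod'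
  have hp2 : 2 ≤ p := hp.two_le
  have hnot1 : ¬ r ∣ p - 1 := by
    intro h
    have := Nat.le_of_dvd (by omega) h
    omega
  have hnotp : ¬ r ∣ p := by
    intro h
    have := Nat.le_of_dvd hp.pos h
    omega
  rcases Nat.eq_or_lt_of_le hij with heq | hlt
  · have hFtop : F = ⊤ := by
      apply (Subgroup.card_eq_iff_eq_top F).1
      rw [hi, heq, hQ]
    have hb1 : b = 1 := by
      ext x
      have : x ∈ F := hFtop ▸ Subgroup.mem_top x
      exact this
    rw [hb1, orderOf_one] at hob
    exact hr.one_lt.ne hob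
  · interval_cases j
    · omega
    · -- `j = 1`, `i = 0`
      have hi0 : i = 0 := by omega
      subst hi0
      rw [pow_one, pow_zero] at hdvd
      exact hnot1 hdvd
    · -- `j = 2`
      have hi01 : i = 0 ∨ i = 1 := by omega
      rcases hi01 with rfl | rfl
      · rw [pow_zero] at hdvd
        have e : p ^ 2 - 1 = (p - 1) * (p + 1) := by
          have : p ^ 2 = (p - 1) * (p + 1) + 1 := by
            obtain ⟨m, rfl⟩ : ∃ m, p = m + 1 := ⟨p - 1, by omega⟩
            simp only [Nat.add_sub_cancel]; ring
          omega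
        rw [e] at hdvd
        rcases (Nat.Prime.dvd_mul hr).1 hdvd with h | h
        · exact hnot1 h
        · have hle' := Nat.le_of_dvd (by omega) h
          have hreq : r = p + 1 := by omega
          -- `p` and `p + 1` both prime: `p = 2`
          have hp2' : p = 2 := by
            rcases hp.eq_two_or_odd with h2 | hodd
            · exact h2
            · exfalso
              have h2r : 2 ∣ r := by rw [hreq]; omega
              have := (Nat.prime_dvd_prime_iff_eq Nat.prime_two hr).1 h2r
              omega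
          exact hex rfl ⟨hp2', by omega⟩
      · rw [pow_one] at hdvd
        have e : p ^ 2 - p = p * (p - 1) := by
          obtain ⟨m, rfl⟩ : ∃ m, p = m + 1 := ⟨p - 1, by omega⟩
          simp only [Nat.add_sub_cancel]
          have : (m + 1) ^ 2 = (m + 1) * m + (m + 1) := by ring
          omega
        rw [e] at hdvd
        rcases (Nat.Prime.dvd_mul hr).1 hdvd with h | h
        · exact hnotp h
        · exact hnot1 h

/-- For a finite non-abelian simple group, either the cube of the least prime divisor of the order divides the order, or 12 does. -/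
theorem result {G : Type*} [Group G] [Finite G] [IsSimpleGroup G] (hG : ∃ x y : G, x * y ≠ y * x) : (Nat.card G).minFac ^ 3 ∣ Nat.card G ∨ 12 ∣ Nat.card G := by
  by_contra hcon
  push Not at hcon
  obtain ⟨h3, h12⟩ := hcon
  haveI : Nontrivial G := IsSimpleGroup.toNontrivial
  have hn1 : Nat.card G ≠ 1 := by
    have := Finite.one_lt_card (α := G)
    omega
  have hp : (Nat.card G).minFac.Prime := Nat.minFac_prime hn1
  set p := (Nat.card G).minFac with hpdef
  haveI : Fact p.Prime := ⟨hp⟩
  have hpn : p ∣ Nat.card G := Nat.minFac_dvd _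
  obtain ⟨P⟩ : Nonempty (Sylow p G) := inferInstance
  obtain ⟨k, hk⟩ := IsPGroup.iff_card.mp P.isPGroup'
  have hPdvd : p ^ k ∣ Nat.card G := hk ▸ Subgroup.card_subgroup_dvd_card _
  have hk2 : k ≤ 2 := by
    by_contra hlt
    push Not at hlt
    exact h3 (dvd_trans (pow_dvd_pow p hlt) hPdvd)
  have key : ∀ Q : Subgroup G, Q ≤ (P : Subgroup G) → ∀ g ∈ Subgroup.normalizer (Q : Set G),
      Nat.Coprime (orderOf g) p → g ∈ Subgroup.centralizer (Q : Set G) := by
    intro Q hQ g hg hcop
    obtain ⟨j, hj⟩ := IsPGroup.iff_card.mp (P.isPGroup'.to_le hQ)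
    have hjk : j ≤ k := by
      have : p ^ j ∣ p ^ k := by rw [← hj, ← hk]; exact Subgroup.card_dvd_of_le hQ
      exact (Nat.pow_dvd_pow_iff_le_right hp.one_lt).1 this
    obtain ⟨a, ha, hoa⟩ := exists_mulAut Q g hg
    have hgn : orderOf g ∣ Nat.card G := orderOf_dvd_natCard g
    have ha1 : a = 1 := by
      apply aut_trivial' hp (le_trans hjk hk2) hj a
      intro r hr hrd
      have hrn : r ∣ Nat.card G := dvd_trans hrd (dvd_trans hoa hgn)
      have hle : p ≤ r := Nat.minFac_le_of_dvd hr.two_le hrn
      have hne : r ≠ p := by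
        rintro rfl
        have := Nat.Coprime.eq_one_of_dvd hcop.symm (dvd_trans hrd hoa)
        exact hp.one_lt.ne' this
      refine ⟨lt_of_le_of_ne hle (Ne.symm hne), ?_⟩
      rintro hj2 ⟨hp2, hr3⟩
      apply h12
      have h4 : 4 ∣ Nat.card G := by
        have : k = 2 := by omega
        rw [this, hp2] at hPdvd
        exact hPdvd
      have h3' : 3 ∣ Nat.card G := hr3 ▸ hrn
      exact Nat.Coprime.mul_dvd_of_dvd_of_dvd (by decide : Nat.Coprime 4 3) h4 h3'
    rw [Subgroup.mem_centralizer_iff]
    intro q hq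
    have := ha ⟨q, hq⟩
    rw [ha1] at this
    simp only [MulAut.one_apply] at this
    calc q * g = (g * q * g⁻¹) * g := by rw [← this]
      _ = g * q := by group
  have hcomp := hasNormalPComplement_of_p'_centralize P key
  obtain ⟨N, hN, hNc, k', hk'⟩ := exists_normal_of_hasNormalPComplement hcomp
  rcases hN.eq_bot_or_eq_top with h | h
  · have hcard : Nat.card G = p ^ k' := by
      rw [← hk', h, Subgroup.index_bot]
    have hGp : IsPGroup p G := IsPGroup.of_card hcard
    haveI := hGp.center_nontrivial
    have hc : Subgroup.center G = ⊤ := by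
      rcases (inferInstance : (Subgroup.center G).Normal).eq_bot_or_eq_top with h' | h'
      · exact absurd h' (Subgroup.nontrivial_iff_ne_bot _ |>.1 inferInstance)
      · exact h'
    obtain ⟨x, y, hxy⟩ := hG
    apply hxy
    have : x ∈ Subgroup.center G := hc ▸ Subgroup.mem_top x
    exact (Subgroup.mem_center_iff.1 this y).symm
  · rw [h] at hNc
    have : (Nat.card (⊤ : Subgroup G)) = Nat.card G := Subgroup.card_top
    rw [this] at hNc
    have := Nat.Coprime.eq_one_of_dvd hNc.symm hpn
    exact hp.one_lt.ne' this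

end Cfsg.Agent.S0073
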