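import Cfsg.Statements.S0075
import Mathlib
import Cfsg.Agent.H1.Basic
import Cfsg.Agent.H1.PResidual
import Cfsg.Prelude.Def_Transfer

set_option autoImplicit false
open Cfsg

namespace Cfsg.Agent.S0075

open Cfsg.Agent.H1
open scoped commutatorElement

/-- For an abelian Sylow p-subgroup T, its intersection with the subgroup generated by the elements of order prime to p is the commutator of T with its normalizer. -/
theorem result {G : Type*} [Group G] [Finite G] {p : ℕ} [Fact p.Prime] (T : Sylow p G) (hT : IsMulCommutative T) : (T : Subgroup G) ⊓ Cfsg.pResidual p G = ⁅(T : Subgroup G), Subgroup.normalizer (T : Set G)⁆ := by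
  have hp : p.Prime := Fact.out
  have hGO : commutator G ≤ Cfsg.pResidual p G :=
    Subgroup.Normal.commutator_le_of_self_sup_commutative_eq_top (pResidual_sup_sylow T) hT
  apply le_antisymm
  · -- T ∩ O^p(G) ≤ T ∩ G' = focal ≤ [T, N(T)]
    set m := (T : Subgroup G).index with hm
    obtain ⟨k, hk⟩ := (IsPGroup.iff_card.mp T.isPGroup')
    have hcop : Nat.Coprime m (p ^ k) := by
      apply Nat.Coprime.pow_right
      rw [Nat.coprime_comm, hp.coprime_iff_not_dvd]
      exact T.not_dvd_index
    have hcardG : Nat.card G = p ^ k * m := by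
      rw [← hk, hm, Subgroup.card_mul_index]
    let f : G →* Abelianization G := (powMonoidHom m).comp Abelianization.of
    have hON : Cfsg.pResidual p G ≤ f.ker := by
      unfold Cfsg.pResidual
      rw [Subgroup.closure_le]
      intro g hg
      have hg' : Nat.Coprime (orderOf g) p := hg
      rw [SetLike.mem_coe, MonoidHom.mem_ker]
      show (Abelianization.of g) ^ m = 1
      have h1 : orderOf (Abelianization.of g) ∣ orderOf g := orderOf_map_dvd _ g
      have h2 : orderOf (Abelianization.of g) ∣ p ^ k * m := by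
        rw [← hcardG]; exact h1.trans (orderOf_dvd_natCard g)
      have h3 : Nat.Coprime (orderOf (Abelianization.of g)) (p ^ k) :=
        Nat.Coprime.pow_right k (Nat.Coprime.coprime_dvd_left h1 hg')
      exact orderOf_dvd_iff_pow_eq_one.mp (h3.dvd_of_dvd_mul_left h2)
    have h1 : (T : Subgroup G) ⊓ Cfsg.pResidual p G ≤ commutator G ⊓ (T : Subgroup G) := by
      intro x hx
      obtain ⟨hxT, hxO⟩ := Subgroup.mem_inf.mp hx
      refine Subgroup.mem_inf.mpr ⟨?_, hxT⟩
      have hxN := hON hxO
      rw [MonoidHom.mem_ker] at hxN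
      have h1 : (Abelianization.of x) ^ m = 1 := hxN
      have h2 : (Abelianization.of x) ^ (p ^ k) = 1 := by
        rw [← map_pow]
        have : x ^ (p ^ k) = 1 := by
          have h0 := pow_card_eq_one' (G := (T : Subgroup G)) (x := ⟨x, hxT⟩)
          rw [hk] at h0
          have h00 := congrArg Subtype.val h0
          rw [Subgroup.coe_pow, Subgroup.coe_one] at h00
          exact h00
        rw [this, map_one]
      have h3 : orderOf (Abelianization.of x) ∣ Nat.gcd m (p ^ k) :=
        Nat.dvd_gcd (orderOf_dvd_of_pow_eq_one h1) (orderOf_dvd_of_pow_eq_one h2)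
      rw [hcop, Nat.dvd_one, orderOf_eq_one_iff] at h3
      have : x ∈ (Abelianization.of (G := G)).ker := h3
      rwa [Abelianization.ker_of] at this
    apply h1.trans
    rw [Subgroup.commutator_inf_eq_focalSubgroup T]
    rw [Subgroup.focalSubgroup_def, Subgroup.closure_le]
    rintro g ⟨hgP, x, hxP, u, rfl⟩
    have h3 : u * x⁻¹ * u⁻¹ ∈ (T : Subgroup G) := by
      have : u * x⁻¹ * u⁻¹ = x⁻¹ * ⁅x, u⁆ := by
        rw [commutatorElement_def]; group
      rw [this]
      exact mul_mem (inv_mem hxP) hgP
    have h3' : (u⁻¹)⁻¹ * x⁻¹ * u⁻¹ ∈ T := by rw [inv_inv]; exact h3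
    obtain ⟨n, hn, hnx⟩ := T.conj_eq_normalizer_conj_of_mem x⁻¹ u⁻¹ (inv_mem hxP) h3'
    rw [inv_inv] at hnx
    have h4 : ⁅x, u⁆ = ⁅x, n⁻¹⁆ := by
      have e1 : ⁅x, u⁆ = x * (u * x⁻¹ * u⁻¹) := by rw [commutatorElement_def]; group
      rw [e1, hnx, commutatorElement_def]
      group
    rw [SetLike.mem_coe, h4]
    exact Subgroup.commutator_mem_commutator hxP (inv_mem hn)
  · apply le_inf
    · rw [Subgroup.commutator_le]
      intro x hx n hn
      have hn' : n ∈ Subgroup.normalizer ((T : Subgroup G) : Set G) := hn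
      have : ⁅x, n⁆ = x * (n * x⁻¹ * n⁻¹) := by rw [commutatorElement_def]; group
      rw [this]
      exact mul_mem hx ((Subgroup.mem_normalizer_iff.mp hn' _).mp (inv_mem hx))
    · refine le_trans ?_ hGO
      rw [commutator_def]
      exact Subgroup.commutator_mono le_top le_top

end Cfsg.Agent.S0075
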