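import Cfsg.Statements.S0076
import Mathlib
import Cfsg.Agent.H1.Basic
import Cfsg.Agent.H1.SylowConj

set_option autoImplicit false
open Cfsg

namespace Cfsg.Agent.S0076

open Cfsg.Agent.H1
open scoped commutatorElement Pointwise

/-- Two P-invariant subsets of a Sylow p-subgroup P that are conjugate in G are conjugate under the normalizer of P. -/
theorem result {G : Type*} [Group G] [Finite G] {p : ℕ} [Fact p.Prime] (P : Sylow p G) (X Y : Set G) (hXP : X ⊆ P) (hYP : Y ⊆ P) (hX : ∀ x ∈ P, (fun y => x * y * x⁻¹) '' X = X) (hY : ∀ x ∈ P, (fun y => x * y * x⁻¹) '' Y = Y) (g : G) (hg : (fun y => g * y * g⁻¹) '' X = Y) : ∃ n ∈ Subgroup.normalizer (P : Set G), (fun y => n * y * n⁻¹) '' X = Y := by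
  -- the setwise normalizer of Y
  have key : ∀ (S : Set G) (a : G), (fun y => a * y * a⁻¹) '' S = S ↔ a ∈ Subgroup.normalizer S := by
    intro S a
    rw [Subgroup.mem_normalizer_iff_conj_image_eq]
    rfl
  have hPY : (P : Subgroup G) ≤ Subgroup.normalizer Y := fun x hx => (key Y x).mp (hY x hx)
  have hPX : (P : Subgroup G) ≤ Subgroup.normalizer X := fun x hx => (key X x).mp (hX x hx)
  have hgP : ((g • P : Sylow p G) : Subgroup G) ≤ Subgroup.normalizer Y := by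
    intro z hz
    have hz' : z ∈ g • P := hz
    rw [mem_sylow_smul] at hz'
    have h1 := hX _ hz'
    rw [← key]
    rw [← hg]
    ext w
    constructor
    · rintro ⟨_, ⟨x, hx, rfl⟩, rfl⟩
      -- z (g x g⁻¹) z⁻¹ = g ((g⁻¹ z g) x (g⁻¹ z g)⁻¹) g⁻¹
      have : (g⁻¹ * z * g) * x * (g⁻¹ * z * g)⁻¹ ∈ X := by
        rw [← h1]; exact ⟨x, hx, rfl⟩
      refine ⟨_, this, ?_⟩
      group
    · rintro ⟨x, hx, rfl⟩
      rw [← h1] at hx
      obtain ⟨x', hx', rfl⟩ := hx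
      refine ⟨g * x' * g⁻¹, ⟨x', hx', rfl⟩, ?_⟩
      group
  obtain ⟨c, hc, hcP⟩ := sylow_conj_in_subgroup (g • P) P _ hgP hPY
  refine ⟨c * g, ?_, ?_⟩
  · rw [← Sylow.smul_eq_iff_mem_normalizer, mul_smul, hcP]
  · have hcY := (key Y c).mpr hc
    rw [← hcY, ← hg]
    ext w
    constructor
    · rintro ⟨x, hx, rfl⟩
      refine ⟨g * x * g⁻¹, ⟨x, hx, rfl⟩, ?_⟩
      group
    · rintro ⟨_, ⟨x, hx, rfl⟩, rfl⟩
      refine ⟨x, hx, ?_⟩
      group

end Cfsg.Agent.S0076
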