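import Cfsg.Statements.S0080
import Mathlib
import Cfsg.Agent.H1.Basic

set_option autoImplicit false
open Cfsg

namespace Cfsg.Agent.S0080

open Cfsg.Agent.H1
open scoped commutatorElement IsMulCommutative

/-- When the index of H is prime to the order of H/H', the focal subgroup of H is G' ∩ H, and H/(G' ∩ H) has a normal complement. -/
theorem result {G : Type*} [Group G] [Finite G] (H : Subgroup G) (h : Nat.Coprime H.index (⁅H, H⁆.relIndex H)) : Subgroup.focalSubgroup H = commutator G ⊓ H ∧ ∃ N : Subgroup G, N.Normal ∧ N ⊓ H = commutator G ⊓ H ∧ N ⊔ H = ⊤ := by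
  set n := H.index with hn
  -- the quotient Q = H / H*
  have hQcard : Nat.card (H ⧸ H.focalSubgroupOf) ∣ ⁅H, H⁆.relIndex H := by
    have h1 : ⁅H, H⁆.relIndex H = (commutator H).index := by
      rw [Subgroup.relIndex, ← Subgroup.map_subtype_commutator, Subgroup.subgroupOf,
        Subgroup.comap_map_eq_self_of_injective H.subtype_injective]
    rw [h1]
    exact Subgroup.index_dvd_of_le H.commutator_le_focalSubgroupOf
  have hcop : Nat.Coprime (Nat.card (H ⧸ H.focalSubgroupOf)) n :=
    (Nat.Coprime.coprime_dvd_right hQcard h).symm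
  have hpow_inj : ∀ y : H ⧸ H.focalSubgroupOf, y ^ n = 1 → y = 1 := by
    intro y hy
    have h1 : orderOf y ∣ Nat.gcd (Nat.card (H ⧸ H.focalSubgroupOf)) n :=
      Nat.dvd_gcd (orderOf_dvd_natCard y) (orderOf_dvd_of_pow_eq_one hy)
    rw [hcop, Nat.dvd_one, orderOf_eq_one_iff] at h1
    exact h1
  have hpow_surj : ∀ q : H ⧸ H.focalSubgroupOf, ∃ y : H ⧸ H.focalSubgroupOf, y ^ n = q := by
    intro q
    exact ⟨(powCoprime hcop).symm q, (powCoprime hcop).apply_symm_apply q⟩
  have hV : ∀ x : H, H.transferFocal x = (x : H ⧸ H.focalSubgroupOf) ^ n := H.transferFocal_eq_pow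
  have hkerH : H.transferFocal.ker ⊓ H = H.focalSubgroup := by
    ext x
    constructor
    · intro hx
      obtain ⟨hxK, hxH⟩ := Subgroup.mem_inf.mp hx
      rw [MonoidHom.mem_ker] at hxK
      have h2 := hV ⟨x, hxH⟩
      rw [Subgroup.coe_mk, hxK] at h2
      have h3 := hpow_inj _ h2.symm
      rw [QuotientGroup.eq_one_iff, Subgroup.focalSubgroupOf_def, Subgroup.mem_subgroupOf] at h3
      exact h3
    · intro hx
      have hxH : x ∈ H := H.focalSubgroup_le hx
      refine Subgroup.mem_inf.mpr ⟨?_, hxH⟩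
      rw [MonoidHom.mem_ker]
      have h2 := hV ⟨x, hxH⟩
      rw [Subgroup.coe_mk] at h2
      rw [h2]
      have : ((⟨x, hxH⟩ : H) : H ⧸ H.focalSubgroupOf) = 1 := by
        rw [QuotientGroup.eq_one_iff, Subgroup.focalSubgroupOf_def, Subgroup.mem_subgroupOf]
        exact hx
      rw [this, one_pow]
  have hGK : commutator G ≤ H.transferFocal.ker := Abelianization.commutator_subset_ker H.transferFocal
  have hfoc : Subgroup.focalSubgroup H = commutator G ⊓ H := by
    apply le_antisymm
    · exact le_inf H.focalSubgroup_le_commutator H.focalSubgroup_le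
    · rw [← hkerH]
      exact inf_le_inf_right _ hGK
  refine ⟨hfoc, H.transferFocal.ker, inferInstance, ?_, ?_⟩
  · rw [hkerH, hfoc]
  · rw [eq_top_iff]
    intro g _
    obtain ⟨y, hy⟩ := hpow_surj (H.transferFocal g)
    obtain ⟨x, rfl⟩ := QuotientGroup.mk_surjective y
    have h2 := hV x
    rw [hy] at h2
    have h3 : g * (x : G)⁻¹ ∈ H.transferFocal.ker := by
      rw [MonoidHom.mem_ker, map_mul, map_inv, h2, mul_inv_cancel]
    have : g = (g * (x : G)⁻¹) * x := by group
    rw [this]
    exact mul_mem (Subgroup.mem_sup_left h3) (Subgroup.mem_sup_right x.2)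

end Cfsg.Agent.S0080
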