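import Cfsg.Statements.S0082
import Mathlib
import Cfsg.Agent.H1.Basic
import Cfsg.Agent.H1.PResidual
import Cfsg.Agent.S0075
import Cfsg.Prelude.Def_Transfer

set_option autoImplicit false
open Cfsg

namespace Cfsg.Agent.S0082

open Cfsg.Agent.H1
open scoped commutatorElement

/-- With a cyclic Sylow p-subgroup, either there is a normal p-complement or the elements of order prime to p generate the whole group. -/
theorem result {G : Type*} [Group G] [Finite G] {p : ℕ} [Fact p.Prime] (P : Sylow p G) (hP : IsCyclic P) : Cfsg.HasNormalPComplement p G ∨ Cfsg.pResidual p G = ⊤ := by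
  have hp : p.Prime := Fact.out
  have hcomm : IsMulCommutative P := inferInstance
  have h75 := Cfsg.Agent.S0075.result P hcomm
  by_cases hF : ⁅(P : Subgroup G), Subgroup.normalizer (P : Set G)⁆ = (P : Subgroup G)
  · right
    rw [hF] at h75
    have h1 : (P : Subgroup G) ≤ Cfsg.pResidual p G := inf_eq_left.mp h75
    rw [← pResidual_sup_sylow P]
    exact (sup_eq_left.mpr h1).symm
  · left
    have hFP : ⁅(P : Subgroup G), Subgroup.normalizer (P : Set G)⁆ ≤ (P : Subgroup G) := by
      rw [← h75]; exact inf_le_left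
    obtain ⟨x, hx⟩ := hP.exists_generator
    obtain ⟨k, hk⟩ := (IsPGroup.iff_card.mp P.isPGroup')
    -- P = zpowers x
    have hPx : ∀ y ∈ (P : Subgroup G), ∃ r : ℤ, (x : G) ^ r = y := by
      intro y hy
      obtain ⟨r, hr⟩ := Subgroup.mem_zpowers_iff.mp (hx ⟨y, hy⟩)
      refine ⟨r, ?_⟩
      have := congrArg Subtype.val hr
      simpa using this
    have hxk : (x : G) ^ (p ^ k) = 1 := by
      have h0 := pow_card_eq_one' (G := (P : Subgroup G)) (x := x)
      rw [hk] at h0
      have h00 := congrArg Subtype.val h0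
      rw [Subgroup.coe_pow, Subgroup.coe_one] at h00
      exact h00
    -- it suffices that every n ∈ N(P) commutes with x
    have hkey : ∀ n ∈ Subgroup.normalizer (P : Set G), Commute n (x : G) := by
      intro n hn
      have hn' : n ∈ Subgroup.normalizer ((P : Subgroup G) : Set G) := hn
      have hnx : n * (x : G) * n⁻¹ ∈ (P : Subgroup G) := (Subgroup.mem_normalizer_iff.mp hn' _).mp x.2
      obtain ⟨r, hr⟩ := hPx _ hnx
      -- ⁅x, n⁆ = x^(1-r)
      have hcomm1 : ⁅(x : G), n⁆ = (x : G) ^ (1 - r) := by
        rw [zpow_sub, zpow_one, hr, commutatorElement_def]; group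
      have hmemF : (x : G) ^ (1 - r) ∈ ⁅(P : Subgroup G), Subgroup.normalizer (P : Set G)⁆ := by
        rw [← hcomm1]
        exact Subgroup.commutator_mem_commutator x.2 hn
      have hdvd : (p : ℤ) ∣ 1 - r := by
        by_contra hnd
        apply hF
        apply le_antisymm hFP
        have hcop : IsCoprime (1 - r) ((p : ℤ) ^ k) := by
          apply IsCoprime.pow_right
          rw [isCoprime_comm]
          exact (Nat.prime_iff_prime_int.mp hp).coprime_iff_not_dvd.mpr hnd
        obtain ⟨a, b, hab⟩ := hcop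
        have hxF : (x : G) ∈ ⁅(P : Subgroup G), Subgroup.normalizer (P : Set G)⁆ := by
          have h1 : (x : G) = ((x : G) ^ (1 - r)) ^ a * ((x : G) ^ ((p : ℤ) ^ k)) ^ b := by
            rw [← zpow_mul, ← zpow_mul, ← zpow_add, mul_comm (1 - r) a, mul_comm ((p : ℤ) ^ k) b, hab, zpow_one]
          have h2 : (x : G) ^ ((p : ℤ) ^ k) = 1 := by
            have : ((p : ℤ) ^ k) = ((p ^ k : ℕ) : ℤ) := by push_cast; rfl
            rw [this, zpow_natCast, hxk]
          rw [h2, one_zpow, mul_one] at h1
          rw [h1]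
          exact zpow_mem hmemF a
        intro y hy
        obtain ⟨s, hs⟩ := hPx y hy
        rw [← hs]
        exact zpow_mem hxF s
      -- n^j x n^(-j) = x^(r^j)
      have hiter : ∀ j : ℕ, n ^ j * (x : G) * (n ^ j)⁻¹ = (x : G) ^ (r ^ j) := by
        intro j
        induction j with
        | zero => simp
        | succ j ih =>
          have h1 : n ^ (j + 1) * (x : G) * (n ^ (j + 1))⁻¹ = n * (n ^ j * (x : G) * (n ^ j)⁻¹) * n⁻¹ := by
            rw [pow_succ']; group
          rw [h1, ih]
          have h2 : n * (x : G) ^ (r ^ j) * n⁻¹ = (n * (x : G) * n⁻¹) ^ (r ^ j) := by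
            have := map_zpow (MulAut.conj n) (x : G) (r ^ j)
            simp only [MulAut.conj_apply] at this; exact this
          rw [h2, ← hr, ← zpow_mul, pow_succ']
      have hpk : ((p : ℤ) ^ k) ∣ 1 - r ^ (p ^ k) := by
        have h1 := dvd_sub_pow_of_dvd_sub (R := ℤ) (p := p) (a := 1) (b := r) hdvd k
        rw [one_pow] at h1
        exact (pow_dvd_pow (p : ℤ) (Nat.le_succ k)).trans h1
      have hc1 : Commute (n ^ (p ^ k)) (x : G) := by
        have h1 := hiter (p ^ k)
        have h2 : (x : G) ^ (r ^ (p ^ k)) = (x : G) := by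
          obtain ⟨c, hc⟩ := hpk
          have h3 : r ^ (p ^ k) = 1 - (p : ℤ) ^ k * c := by linarith
          rw [h3, zpow_sub, zpow_one, zpow_mul]
          have h4 : (x : G) ^ ((p : ℤ) ^ k) = 1 := by
            have : ((p : ℤ) ^ k) = ((p ^ k : ℕ) : ℤ) := by push_cast; rfl
            rw [this, zpow_natCast, hxk]
          rw [h4, one_zpow, inv_one, mul_one]
        rw [h2] at h1
        show n ^ (p ^ k) * (x : G) = (x : G) * n ^ (p ^ k)
        calc n ^ (p ^ k) * (x : G) = (n ^ (p ^ k) * (x : G) * (n ^ (p ^ k))⁻¹) * n ^ (p ^ k) := by group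
          _ = (x : G) * n ^ (p ^ k) := by rw [h1]
      -- n^d ∈ P
      set d := (P : Subgroup G).relIndex (Subgroup.normalizer ((P : Subgroup G) : Set G)) with hd
      have hnd : n ^ d ∈ (P : Subgroup G) := by
        have h1 := Subgroup.pow_index_mem ((P : Subgroup G).subgroupOf (Subgroup.normalizer ((P : Subgroup G) : Set G))) ⟨n, hn'⟩
        rw [Subgroup.mem_subgroupOf] at h1
        exact h1
      have hc2 : Commute (n ^ d) (x : G) := by
        obtain ⟨s, hs⟩ := hPx _ hnd
        rw [← hs]
        exact (Commute.refl (x : G)).zpow_left s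
      have hdcop : Nat.Coprime d (p ^ k) := by
        apply Nat.Coprime.pow_right
        have h1 : d ∣ (P : Subgroup G).index := Subgroup.relIndex_dvd_index_of_le Subgroup.le_normalizer
        apply Nat.Coprime.coprime_dvd_left h1
        rw [Nat.coprime_comm, hp.coprime_iff_not_dvd]
        exact P.not_dvd_index
      have hbez : n = (n ^ d) ^ (Nat.gcdA d (p ^ k)) * (n ^ (p ^ k)) ^ (Nat.gcdB d (p ^ k)) := by
        rw [← zpow_natCast n d, ← zpow_natCast n (p ^ k), ← zpow_mul, ← zpow_mul, ← zpow_add,
          ← Nat.gcd_eq_gcd_ab, hdcop]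
        simp
      rw [hbez]
      exact (hc2.zpow_left _).mul_left (hc1.zpow_left _)
    have hNC : Subgroup.normalizer (P : Set G) ≤ Subgroup.centralizer (P : Set G) := by
      intro n hn
      rw [Subgroup.mem_centralizer_iff]
      intro y hy
      obtain ⟨s, hs⟩ := hPx y hy
      rw [← hs]
      exact ((hkey n hn).zpow_right s).symm.eq
    exact ⟨P, _, inferInstance, MonoidHom.ker_transferSylow_isComplement' P hNC⟩

end Cfsg.Agent.S0082
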