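import Cfsg.Statements.S0083
import Mathlib
import Cfsg.Agent.H1.Basic
import Cfsg.Agent.H1.PComplement
import Cfsg.Prelude.Def_Transfer

set_option autoImplicit false
open Cfsg

namespace Cfsg.Agent.S0083

open Cfsg.Agent.H1
open scoped commutatorElement

/-- For an abelian Sylow p-subgroup P, a normal p-complement exists exactly when the normalizer of P is an internal direct product of P with some subgroup. -/
theorem result {G : Type*} [Group G] [Finite G] {p : ℕ} [Fact p.Prime] (P : Sylow p G) (hP : IsMulCommutative P) : Cfsg.HasNormalPComplement p G ↔ ∃ Q : Subgroup G, Q ≤ Subgroup.centralizer (P : Set G) ∧ Q ⊓ (P : Subgroup G) = ⊥ ∧ Q ⊔ (P : Subgroup G) = Subgroup.normalizer (P : Set G) := by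
  have hPC : (P : Subgroup G) ≤ Subgroup.centralizer (P : Set G) := by
    intro x hx
    rw [Subgroup.mem_centralizer_iff]
    intro y hy
    exact setLike_mul_comm hy hx
  constructor
  · rintro ⟨P₀, N, hNn, hN₀⟩
    have hN := isComplement'_sylow_of_isComplement' P₀ P N hN₀
    have hdisj : N ⊓ (P : Subgroup G) = ⊥ := hN.disjoint.eq_bot
    have hsup : N ⊔ (P : Subgroup G) = ⊤ := hN.sup_eq_top
    refine ⟨N ⊓ Subgroup.normalizer (P : Set G), ?_, ?_, ?_⟩
    · intro q hq
      obtain ⟨hqN, hqP⟩ := Subgroup.mem_inf.mp hq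
      rw [Subgroup.mem_centralizer_iff]
      intro x hx
      have hqP' : q ∈ Subgroup.normalizer ((P : Subgroup G) : Set G) := hqP
      have hx' : x ∈ (P : Subgroup G) := hx
      have h1 : ⁅q, x⁆ ∈ N ⊓ (P : Subgroup G) := by
        refine Subgroup.mem_inf.mpr ⟨?_, ?_⟩
        · have : ⁅q, x⁆ = q * (x * q⁻¹ * x⁻¹) := by rw [commutatorElement_def]; group
          rw [this]
          exact mul_mem hqN (hNn.conj_mem _ (inv_mem hqN) x)
        · have : ⁅q, x⁆ = (q * x * q⁻¹) * x⁻¹ := by rw [commutatorElement_def]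
          rw [this]
          exact mul_mem ((Subgroup.mem_normalizer_iff.mp hqP' x).mp hx') (inv_mem hx')
      rw [hdisj, Subgroup.mem_bot, commutatorElement_eq_one_iff_mul_comm] at h1
      exact h1.symm
    · rw [eq_bot_iff, ← hdisj]
      exact inf_le_inf_right _ inf_le_left
    · apply le_antisymm
      · exact sup_le inf_le_right Subgroup.le_normalizer
      · intro g hg
        have hg' : g ∈ N ⊔ (P : Subgroup G) := by rw [hsup]; exact Subgroup.mem_top g
        rw [Subgroup.mem_sup_of_normal_left] at hg'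
        obtain ⟨n, hn, x, hx, rfl⟩ := hg'
        apply mul_mem _ (Subgroup.mem_sup_right hx)
        apply Subgroup.mem_sup_left
        refine Subgroup.mem_inf.mpr ⟨hn, ?_⟩
        have : n = (n * x) * x⁻¹ := by group
        rw [this]
        exact mul_mem hg (inv_mem (Subgroup.le_normalizer hx))
  · rintro ⟨Q, hQC, -, hQP⟩
    have hNC : Subgroup.normalizer (P : Set G) ≤ Subgroup.centralizer (P : Set G) := by
      rw [← hQP]
      exact sup_le hQC hPC
    exact ⟨P, _, inferInstance, MonoidHom.ker_transferSylow_isComplement' P hNC⟩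

end Cfsg.Agent.S0083
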