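import Cfsg.Statements.S0085
import Mathlib
import Cfsg.Agent.H1.Basic
import Cfsg.Agent.H1.PComplement
import Cfsg.Prelude.Def_Transfer

set_option autoImplicit false
open Cfsg

namespace Cfsg.Agent.S0085

open Cfsg.Agent.H1

/-- A group whose Sylow 2-subgroups are elementary abelian of order 8 and whose order is prime to 3 and to 7 has a normal 2-complement. -/
theorem result {G : Type*} [Group G] [Finite G] (T : Sylow 2 G) (h8 : Nat.card T = 8) (he : ∀ x : T, x * x = 1) (h3 : ¬ 3 ∣ Nat.card G) (h7 : ¬ 7 ∣ Nat.card G) : Cfsg.HasNormalPComplement 2 G := by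
  have hcomm : IsMulCommutative T := by
    constructor; constructor
    intro a b
    have h1 := he (a * b)
    have ha : a⁻¹ = a := inv_eq_of_mul_eq_one_left (he a)
    have hb : b⁻¹ = b := inv_eq_of_mul_eq_one_left (he b)
    have h2 : a * b = (a * b)⁻¹ := (inv_eq_of_mul_eq_one_left h1).symm
    rw [h2, mul_inv_rev, ha, hb]
  have h4 : Nat.card (MulAut T) ∣ 8064 := by
    have h5 := card_mulAut_dvd_factorial T
    rw [h8] at h5
    have h6 : Nat.Coprime (Nat.card (MulAut T)) 5 := by
      rw [Nat.coprime_comm, Nat.Prime.coprime_iff_not_dvd (by norm_num)]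
      exact five_not_dvd_card_mulAut T h8
    have : Nat.factorial 8 = 5 * 8064 := by decide
    rw [this] at h5
    exact h6.dvd_of_dvd_mul_left h5
  apply hasNormalPComplement_of_coprime_aut T hcomm 8064 h4
  have h2' : Nat.Coprime 2 (T : Subgroup G).index := by
    rw [Nat.Prime.coprime_iff_not_dvd Nat.prime_two]
    exact T.not_dvd_index
  have h3' : Nat.Coprime 3 (T : Subgroup G).index := by
    rw [Nat.Prime.coprime_iff_not_dvd Nat.prime_three]
    intro h
    exact h3 (h.trans (Subgroup.index_dvd_card _))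
  have h7' : Nat.Coprime 7 (T : Subgroup G).index := by
    rw [Nat.Prime.coprime_iff_not_dvd (by norm_num)]
    intro h
    exact h7 (h.trans (Subgroup.index_dvd_card _))
  have : (8064 : ℕ) = 2 ^ 7 * 3 ^ 2 * 7 := by norm_num
  rw [this]
  exact Nat.Coprime.mul_left (Nat.Coprime.mul_left (Nat.Coprime.pow_left 7 h2') (Nat.Coprime.pow_left 2 h3')) h7'

end Cfsg.Agent.S0085
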