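import Cfsg.Statements.S0089
import Mathlib
import Cfsg.Agent.H1.Transfer

set_option autoImplicit false
open Cfsg

namespace Cfsg.Agent.S0089

open Cfsg.Agent.H1
open scoped IsMulCommutative

/-- When all Sylow subgroups are abelian, the derived subgroup meets the centre trivially. -/
theorem result {G : Type*} [Group G] [Finite G] (h : ∀ p : ℕ, p.Prime → ∀ P : Sylow p G, IsMulCommutative P) : commutator G ⊓ Subgroup.center G = ⊥ := by
  rw [Subgroup.eq_bot_iff_forall]
  rintro z ⟨hzC, hzZ⟩
  by_contra hz1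
  have hord : orderOf z ≠ 1 := by
    rw [Ne, orderOf_eq_one_iff]; exact hz1
  obtain ⟨p, hp, hpd⟩ := Nat.exists_prime_and_dvd hord
  have : Fact p.Prime := ⟨hp⟩
  obtain ⟨P⟩ : Nonempty (Sylow p G) := inferInstance
  have h1 := transfer_central_pow (P : Subgroup G) (h p hp P) z hzZ hzC
  have h2 : p ∣ (P : Subgroup G).index := hpd.trans (orderOf_dvd_of_pow_eq_one h1)
  exact P.not_dvd_index h2

end Cfsg.Agent.S0089
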