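import Cfsg.Statements.S0090
import Mathlib
import Cfsg.Agent.H1.NormMap
import Cfsg.Agent.S0088

set_option autoImplicit false
open Cfsg

namespace Cfsg.Agent.S0090

set_option autoImplicit false
open scoped Pointwise commutatorElement

/-- An abelian normal Hall subgroup A splits as the internal direct product of G' ∩ A and Z(G) ∩ A, and [A, G] = G' ∩ A. -/
theorem result {G : Type*} [Group G] [Finite G] (A : Subgroup G) [A.Normal] (hc : IsMulCommutative A) (hHall : Nat.Coprime (Nat.card A) A.index) : ⁅A, (⊤ : Subgroup G)⁆ = commutator G ⊓ A ∧ (commutator G ⊓ A) ⊓ (Subgroup.center G ⊓ A) = ⊥ ∧ (commutator G ⊓ A) ⊔ (Subgroup.center G ⊓ A) = A := by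
  obtain ⟨H, hH⟩ := Subgroup.exists_right_complement'_of_coprime hHall
  have hHcard : Nat.card H = A.index := hH.symm.index_eq_card.symm
  have hcop : (Nat.card H).Coprime (Nat.card A) := by rw [hHcard]; exact hHall.symm
  have hHA : H ≤ Subgroup.normalizer (A : Set G) := by rw [Subgroup.normalizer_eq_top]; exact le_top
  have hF1 := Cfsg.Agent.H1.commutator_inf_centralizer_eq_bot_of_abelian A H hc hHA hcop
  have hF2 := Cfsg.Agent.H1.commutator_sup_centralizer_eq_of_abelian A H hc hHA hcop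
  have h88 := Cfsg.Agent.S0088.result A hc hHall
  have hsup : A ⊔ H = ⊤ := hH.sup_eq_top
  have hcent : A ⊓ Subgroup.centralizer (H : Set G) = Subgroup.center G ⊓ A := by
    apply le_antisymm
    · intro x hx
      obtain ⟨hxA, hxH⟩ := Subgroup.mem_inf.mp hx
      refine Subgroup.mem_inf.mpr ⟨?_, hxA⟩
      rw [Subgroup.mem_center_iff]
      intro g
      have hg : g ∈ A ⊔ H := by rw [hsup]; exact Subgroup.mem_top g
      obtain ⟨a, ha, h, hh, rfl⟩ := Subgroup.mem_sup_of_normal_left.mp hg  -- normal left? 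
      have e1 : a * x = x * a := by
        have := hc.is_comm.comm (⟨a, ha⟩ : A) ⟨x, hxA⟩
        exact congrArg Subtype.val this
      have e2 : h * x = x * h := Subgroup.mem_centralizer_iff.mp hxH h hh
      rw [mul_assoc, e2, ← mul_assoc, e1, mul_assoc]
    · intro x hx
      obtain ⟨hxZ, hxA⟩ := Subgroup.mem_inf.mp hx
      refine Subgroup.mem_inf.mpr ⟨hxA, ?_⟩
      exact Subgroup.center_le_centralizer _ hxZ
  rw [hcent] at hF2
  have h1 : ⁅A, H⁆ ≤ ⁅A, (⊤ : Subgroup G)⁆ := Subgroup.commutator_mono le_rfl le_top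
  have h2 : ⁅A, (⊤ : Subgroup G)⁆ ≤ commutator G ⊓ A := by
    refine le_inf ?_ ?_
    · rw [commutator_def]; exact Subgroup.commutator_mono le_top le_rfl
    · exact Subgroup.commutator_le_left A ⊤
  have h3 : commutator G ⊓ A ≤ ⁅A, H⁆ := by
    intro x hx
    obtain ⟨hxC, hxA⟩ := Subgroup.mem_inf.mp hx
    have hxs : x ∈ ⁅A, H⁆ ⊔ (Subgroup.center G ⊓ A) := by rw [hF2]; exact hxA
    have hn : (⁅A, H⁆ : Subgroup G) ≤ Subgroup.normalizer ((Subgroup.center G ⊓ A : Subgroup G) : Set G) := by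
      rw [Subgroup.normalizer_eq_top]; exact le_top
    obtain ⟨c, hcm, z, hz, rfl⟩ := Subgroup.mem_sup_of_normal_right.mp hxs
    have hz1 : z ∈ A ⊓ commutator G ⊓ Subgroup.center G := by
      obtain ⟨hzZ, hzA⟩ := Subgroup.mem_inf.mp hz
      refine Subgroup.mem_inf.mpr ⟨Subgroup.mem_inf.mpr ⟨hzA, ?_⟩, hzZ⟩
      have : z = c⁻¹ * (c * z) := by group
      rw [this]
      exact mul_mem (inv_mem ((h1.trans h2 hcm : c ∈ commutator G ⊓ A).1)) hxC
    rw [h88, Subgroup.mem_bot] at hz1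
    rw [hz1, mul_one]; exact hcm
  have e1 : ⁅A, (⊤ : Subgroup G)⁆ = commutator G ⊓ A := le_antisymm h2 (h3.trans h1)
  have e2 : commutator G ⊓ A = ⁅A, H⁆ := le_antisymm h3 (h1.trans h2)
  refine ⟨e1, ?_, ?_⟩
  · rw [eq_bot_iff, ← h88]
    intro x hx
    obtain ⟨⟨h1, h2⟩, ⟨h3, h4⟩⟩ := hx
    exact ⟨⟨h2, h1⟩, h3⟩
  · rw [e2]; exact hF2

end Cfsg.Agent.S0090
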