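import Cfsg.Statements.S0092
import Mathlib
import Cfsg.Agent.H2.Gaschutz
import Cfsg.Agent.H1.MinNonPClosed
import Cfsg.Agent.H1.PResidual
import Cfsg.Agent.H1.SplitPResidual

set_option autoImplicit false
open Cfsg

namespace Cfsg.Agent.S0092

set_option autoImplicit false
open H1

/-- If the Sylow p-subgroups of O^p(G) are abelian then G splits over O^p(G). -/
theorem result {G : Type*} [Group G] [Finite G] {p : ℕ} [Fact p.Prime] (h : ∀ Q : Sylow p (Cfsg.pResidual p G), IsMulCommutative Q) : ∃ K : Subgroup G, K.IsComplement' (Cfsg.pResidual p G) := by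
  exact exists_complement_pResidual_of_abelian_sylow h

end Cfsg.Agent.S0092
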