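import Cfsg.Statements.S0094
import Mathlib
import Cfsg.Agent.H1.Basic
import Cfsg.Agent.H1.PGroup
import Cfsg.Prelude.Def_Transfer

set_option autoImplicit false
open Cfsg

namespace Cfsg.Agent.S0094

open Cfsg.Agent.H1
open scoped commutatorElement

/-- In a special p-group every central element has order dividing p. -/
theorem result {P : Type*} [Group P] [Finite P] {p : ℕ} [Fact p.Prime] (h : Cfsg.IsSpecial p P) (z : P) (hz : z ∈ Subgroup.center P) : z ^ p = 1 := by
  obtain ⟨hP, hfr, hcomm⟩ := h
  -- the set of central elements killed by p is a subgroup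
  let K : Subgroup P :=
    { carrier := {g | g ∈ Subgroup.center P ∧ g ^ p = 1}
      one_mem' := ⟨one_mem _, one_pow _⟩
      mul_mem' := by
        rintro a b ⟨ha, ha1⟩ ⟨hb, hb1⟩
        refine ⟨mul_mem ha hb, ?_⟩
        have hab : Commute a b := (Subgroup.mem_center_iff.mp ha b).symm
        rw [hab.mul_pow, ha1, hb1, one_mul]
      inv_mem' := by
        rintro a ⟨ha, ha1⟩
        exact ⟨inv_mem ha, by rw [inv_pow, ha1, inv_one]⟩ }
  have hK : commutator P ≤ K := by
    rw [commutator_def, Subgroup.commutator_le]
    intro x _ y _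
    have hxy : ⁅x, y⁆ ∈ Subgroup.center P := by
      rw [← hcomm]
      exact Subgroup.commutator_mem_commutator (Subgroup.mem_top x) (Subgroup.mem_top y)
    refine ⟨hxy, ?_⟩
    rw [← commutator_pow_of_central x y hxy p]
    have hxp : x ^ p ∈ Subgroup.center P := by
      rw [← hfr]; exact pow_p_mem_frattini hP x
    rw [commutatorElement_def]
    rw [Subgroup.mem_center_iff] at hxp
    rw [← hxp y]
    group
  rw [← hcomm] at hz
  exact (hK hz).2

end Cfsg.Agent.S0094
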