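import Cfsg.Statements.S0095
import Mathlib
import Cfsg.Agent.Lib.helper3.Extraspecial2
import Cfsg.Agent.Lib.helper3.ClassBound
import Cfsg.Agent.Lib.helper3.Tate1

set_option autoImplicit false
set_option linter.style.haveILetI false

namespace Cfsg.Agent.S0095

open Cfsg Module Cfsg.Agent.Lib.helper3.IndFun Cfsg.Agent.Lib.helper3.CharBasic
open Cfsg.Agent.Lib.helper3.Irr Cfsg.Agent.Lib.helper3.Central

/-- The order of an extraspecial p-group is an odd power p^(2n+1) of p with n ≥ 1. -/
theorem result {P : Type*} [Group P] [Finite P] {p : ℕ} [Fact p.Prime] (h : Cfsg.IsExtraspecial p P) : ∃ n : ℕ, 1 ≤ n ∧ Nat.card P = p ^ (2 * n + 1) := by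
  classical
  haveI := Fintype.ofFinite P
  have hp := (Fact.out : p.Prime)
  obtain ⟨⟨hpg, _, hcomm⟩, hZ⟩ := h
  -- a nonidentity central element
  have hZ1 : Subgroup.center P ≠ ⊥ := by
    intro hb
    rw [hb, Subgroup.card_bot] at hZ
    exact hp.one_lt.ne hZ
  obtain ⟨z, hz1⟩ := (Subgroup.ne_bot_iff_exists_ne_one).1 hZ1
  have hz1' : (z : P) ≠ 1 := fun h1 => hz1 (Subtype.ext h1)
  -- an irreducible character not containing z in its kernel
  obtain ⟨ψ, hψ⟩ : ∃ ψ : IrrCharacter P, (ψ : P → ℂ) z ≠ (ψ : P → ℂ) 1 := by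
    by_contra hcon
    push_neg at hcon
    exact hz1' (eq_one_of_forall_irr_apply_eq (z : P) hcon)
  obtain ⟨ψf, d, ρ, hirr, rfl⟩ := ψ
  haveI := hirr
  obtain ⟨lam, hlam⟩ := exists_central_hom ρ
  have hlamz : lam z ≠ 1 := by
    intro h1
    apply hψ
    show ρ.character (z : P) = ρ.character 1
    unfold Representation.character
    rw [hlam z, h1, one_smul, map_one]
    rfl
  have hker := hom_ne_one_of_prime_card hZ lam ⟨z, hlamz⟩
  have hvan := character_vanish_off_center hcomm ρ lam hlam hker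
  have h1 := card_eq_card_center_mul_sq ρ hvan
  rw [hZ] at h1
  obtain ⟨k, hk⟩ := IsPGroup.iff_card.mp hpg
  have hd : finrank ℂ (Fin d → ℂ) ∣ p ^ k := by
    rw [← hk]
    exact finrank_dvd_card ρ
  obtain ⟨n, _, hn⟩ := (Nat.dvd_prime_pow hp).1 hd
  rw [hn] at h1
  refine ⟨n, ?_, ?_⟩
  · by_contra hn0
    have hn0' : n = 0 := by omega
    rw [hn0', pow_zero, one_pow, mul_one] at h1
    -- then the centre is everything
    have htop : Subgroup.center P = ⊤ := by
      apply Subgroup.eq_top_of_card_eq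
      rw [hZ, h1]
    have hcomm_bot : commutator P = ⊥ := by
      rw [commutator_def, Subgroup.commutator_eq_bot_iff_le_centralizer, Subgroup.coe_top,
        Subgroup.centralizer_univ, htop]
    rw [hcomm_bot] at hcomm
    exact hZ1 hcomm.symm
  · rw [h1]
    ring

end Cfsg.Agent.S0095
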