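import Cfsg.Statements.S0097
import Mathlib
import Cfsg.Agent.H1.Basic
import Cfsg.Agent.H1.PGroup
import Cfsg.Agent.H1.Class2
import Cfsg.Prelude.Def_Transfer

set_option autoImplicit false
open Cfsg

namespace Cfsg.Agent.S0097

open Cfsg.Agent.H1
open scoped commutatorElement

/-- For odd p and E extraspecial, the subgroup generated by the elements of order dividing p has exponent dividing p and index at most p. -/
theorem result {E : Type*} [Group E] [Finite E] {p : ℕ} [Fact p.Prime] (hp : p ≠ 2) (h : Cfsg.IsExtraspecial p E) : (Subgroup.closure {x : E | x ^ p = 1}).index ≤ p ∧ ∀ g ∈ Subgroup.closure {x : E | x ^ p = 1}, g ^ p = 1 := by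
  have hpp : p.Prime := Fact.out
  obtain ⟨⟨hP, hfr, hcomm⟩, hcard⟩ := h
  have hc : ∀ a b : E, ⁅a, b⁆ ∈ Subgroup.center E := by
    intro a b
    rw [← hcomm]
    exact Subgroup.commutator_mem_commutator (Subgroup.mem_top a) (Subgroup.mem_top b)
  have hpow : ∀ x : E, x ^ p ∈ Subgroup.center E := by
    intro x
    rw [← hfr]; exact pow_p_mem_frattini hP x
  have hcp : ∀ x y : E, ⁅y, x⁆ ^ p = 1 := by
    intro x y
    rw [← commutator_pow_of_central y x (hc y x), commutatorElement_eq_one_iff_mul_comm]
    exact (Subgroup.mem_center_iff.mp (hpow y) x).symm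
  let φ : E →* Subgroup.center E :=
    { toFun := fun x => ⟨x ^ p, hpow x⟩
      map_one' := by ext; simp
      map_mul' := by
        intro x y
        ext
        simp only [Subgroup.coe_mul]
        exact class2_mul_pow_prime hc hpp hp x y (hcp x y) }
  have hker : Subgroup.closure {x : E | x ^ p = 1} = φ.ker := by
    have : {x : E | x ^ p = 1} = (φ.ker : Set E) := by
      ext x
      simp only [Set.mem_setOf_eq, SetLike.mem_coe, MonoidHom.mem_ker]
      constructor
      · intro hx; ext; exact hx
      · intro hx; exact congrArg Subtype.val hx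
    rw [this, Subgroup.closure_eq]
  rw [hker]
  constructor
  · rw [Subgroup.index_ker, ← hcard]
    exact Subgroup.card_le_card_group _
  · intro g hg
    rw [MonoidHom.mem_ker] at hg
    exact congrArg Subtype.val hg

end Cfsg.Agent.S0097
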