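import Cfsg.Statements.S0098
import Cfsg.Agent.Lib.Lead.ExtraspecialP

set_option autoImplicit false
open Cfsg

namespace Cfsg.Agent.S0098

open Cfsg.Agent.Lead.ESP

theorem result {E₁ : Type*} {E₂ : Type*} [Group E₁] [Group E₂] [Finite E₁] [Finite E₂] {p : ℕ} [Fact p.Prime] (hp : p ≠ 2) (h₁ : Cfsg.IsExtraspecial p E₁) (h₂ : Cfsg.IsExtraspecial p E₂) (he₁ : Monoid.exponent E₁ = p) (he₂ : Monoid.exponent E₂ = p) (hc : Nat.card E₁ = Nat.card E₂) : Nonempty (E₁ ≃* E₂) := by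
  obtain ⟨z₁, C₁⟩ := ctx_of_extraspecial h₁ he₁
  obtain ⟨z₂, C₂⟩ := ctx_of_extraspecial h₂ he₂
  obtain ⟨ψ, -⟩ := main_iso _ E₁ z₁ E₂ z₂ C₁ C₂ rfl hc.symm
  exact ⟨ψ⟩

end Cfsg.Agent.S0098
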