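import Cfsg.Statements.S0099
import Cfsg.Agent.Lib.Lead.Extraspecial2

set_option autoImplicit false
open Cfsg

namespace Cfsg.Agent.S0099

open Cfsg.Agent.Lead.ES2

theorem result {E₁ : Type*} {E₂ : Type*} {E₃ : Type*} [Group E₁] [Group E₂] [Group E₃] [Finite E₁] [Finite E₂] [Finite E₃] (h₁ : Cfsg.IsExtraspecial 2 E₁) (h₂ : Cfsg.IsExtraspecial 2 E₂) (h₃ : Cfsg.IsExtraspecial 2 E₃) (h12 : Nat.card E₁ = Nat.card E₂) (h23 : Nat.card E₂ = Nat.card E₃) : Nonempty (E₁ ≃* E₂) ∨ Nonempty (E₂ ≃* E₃) ∨ Nonempty (E₁ ≃* E₃) := by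
  obtain ⟨m₁, -, hc₁, t₁⟩ := type_of h₁
  obtain ⟨m₂, -, hc₂, t₂⟩ := type_of h₂
  obtain ⟨m₃, -, hc₃, t₃⟩ := type_of h₃
  have e12 : m₁ = m₂ := by
    have := Nat.pow_right_injective (le_refl 2) (hc₁.symm.trans (h12.trans hc₂))
    omega
  have e23 : m₂ = m₃ := by
    have := Nat.pow_right_injective (le_refl 2) (hc₂.symm.trans (h23.trans hc₃))
    omega
  subst e12
  subst e23
  rcases t₁ with a | a <;> rcases t₂ with b | b <;> rcases t₃ with c | c <;>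
  first
  | exact Or.inl (iso_of_NN h₁ h₂ h12 (by omega))
  | exact Or.inr (Or.inl (iso_of_NN h₂ h₃ h23 (by omega)))
  | exact Or.inr (Or.inr (iso_of_NN h₁ h₃ (h12.trans h23) (by omega)))

end Cfsg.Agent.S0099
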