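import Cfsg.Statements.S0101
import Mathlib
import Cfsg.Agent.H1.Basic
import Cfsg.Agent.H1.PGroup
import Cfsg.Agent.H1.Frattini

set_option autoImplicit false
open Cfsg

namespace Cfsg.Agent.S0101

open Cfsg.Agent.H1
open scoped commutatorElement IsMulCommutative

/-- In a perfect central extension, the kernel meets each Sylow p-subgroup P inside the Frattini subgroup of P. -/
theorem result {H : Type*} {G : Type*} [Group H] [Group G] [Finite H] (σ : H →* G) (hσ : Function.Surjective σ) (hc : σ.ker ≤ Subgroup.center H) (hH : commutator H = ⊤) {p : ℕ} [Fact p.Prime] (P : Sylow p H) : σ.ker ⊓ (P : Subgroup H) ≤ (frattini P).map (P : Subgroup H).subtype := by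
  have hp : p.Prime := Fact.out
  rintro z ⟨hzK, hzP⟩
  have hzZ : z ∈ Subgroup.center H := hc hzK
  have hzC : z ∈ commutator H := by rw [hH]; exact Subgroup.mem_top z
  have key : ∀ (k : ℕ) (g₀ : H), g₀⁻¹ * z ^ k * g₀ ∈ (P : Subgroup H) → g₀⁻¹ * z ^ k * g₀ = z ^ k := by
    intro k g₀ _
    have hzk : z ^ k ∈ Subgroup.center H := pow_mem hzZ k
    rw [Subgroup.mem_center_iff] at hzk
    rw [mul_assoc, ← hzk g₀, inv_mul_cancel_left]
  let ϕ : (P : Subgroup H) →* Abelianization (P : Subgroup H) := Abelianization.of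
  have h1 := MonoidHom.transfer_eq_pow ϕ z key
  have h2 : MonoidHom.transfer ϕ z = 1 :=
    Abelianization.commutator_subset_ker (MonoidHom.transfer ϕ) hzC
  rw [h2] at h1
  set idx := (P : Subgroup H).index with hidx
  let z' : (P : Subgroup H) := ⟨z, hzP⟩
  have h3 : (ϕ z') ^ idx = 1 := by
    rw [← map_pow]
    rw [h1]
    congr 1
  -- order of ϕ z' is a power of p
  have hPG : IsPGroup p (Abelianization (P : Subgroup H)) :=
    P.isPGroup'.of_surjective ϕ (QuotientGroup.mk_surjective (s := commutator (P : Subgroup H)))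
  obtain ⟨k, hk⟩ := hPG (ϕ z')
  have h4 : orderOf (ϕ z') ∣ Nat.gcd idx (p ^ k) :=
    Nat.dvd_gcd (orderOf_dvd_of_pow_eq_one h3) (orderOf_dvd_of_pow_eq_one hk)
  have hcop : Nat.Coprime idx (p ^ k) := by
    apply Nat.Coprime.pow_right
    rw [Nat.coprime_comm, hp.coprime_iff_not_dvd]
    exact P.not_dvd_index
  rw [hcop, Nat.dvd_one, orderOf_eq_one_iff] at h4
  have h5 : z' ∈ commutator (P : Subgroup H) := by
    rw [← Abelianization.ker_of]; exact h4
  exact ⟨z', commutator_le_frattini P.isPGroup' h5, rfl⟩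

end Cfsg.Agent.S0101
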