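import Cfsg.Statements.S0103
import Mathlib
import Cfsg.Agent.H1.Basic

set_option autoImplicit false
open Cfsg

namespace Cfsg.Agent.S0103

/-- If a Sylow p-subgroup P intersects every distinct conjugate trivially, then its normalizer controls fusion in P. -/
theorem result {G : Type*} [Group G] [Finite G] {p : ℕ} [Fact p.Prime] (P : Sylow p G) (hTI : ∀ g : G, (P : Subgroup G).map (MulAut.conj g).toMonoidHom ≠ (P : Subgroup G) → (P : Subgroup G) ⊓ (P : Subgroup G).map (MulAut.conj g).toMonoidHom = ⊥) (x y : G) (hx : x ∈ P) (hy : y ∈ P) (hc : ∃ g : G, g * x * g⁻¹ = y) : ∃ n ∈ Subgroup.normalizer (P : Set G), n * x * n⁻¹ = y := by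
  obtain ⟨g, rfl⟩ := hc
  by_cases hx1 : x = 1
  · subst hx1
    exact ⟨1, one_mem _, by simp⟩
  · refine ⟨g, ?_, rfl⟩
    by_contra hg
    have hne : (P : Subgroup G).map (MulAut.conj g).toMonoidHom ≠ (P : Subgroup G) := by
      intro h
      apply hg
      show g ∈ Subgroup.normalizer ((P : Subgroup G) : Set G)
      rw [Subgroup.mem_normalizer_iff]
      intro z
      constructor
      · intro hz
        rw [← h]
        exact ⟨z, hz, rfl⟩
      · intro hz
        have : g * z * g⁻¹ ∈ (P : Subgroup G).map (MulAut.conj g).toMonoidHom := by rw [h]; exact hz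
        obtain ⟨w, hw, hwz⟩ := this
        simp only [MulEquiv.coe_toMonoidHom, MulAut.conj_apply] at hwz
        have : w = z := by
          have := mul_left_cancel (mul_right_cancel hwz)
          exact this
        rw [← this]; exact hw
    have h2 := hTI g hne
    have h3 : g * x * g⁻¹ ∈ (P : Subgroup G) ⊓ (P : Subgroup G).map (MulAut.conj g).toMonoidHom :=
      ⟨hy, ⟨x, hx, rfl⟩⟩
    rw [h2, Subgroup.mem_bot] at h3
    apply hx1
    have : g * x * g⁻¹ = g * 1 * g⁻¹ := by rw [h3]; simp
    exact mul_left_cancel (mul_right_cancel this)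

end Cfsg.Agent.S0103
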