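import Cfsg.Statements.S0104
import Mathlib
import Cfsg.Agent.H1.Basic
import Cfsg.Agent.H1.SylowConj
import Cfsg.Prelude.Def_Transfer

set_option autoImplicit false
open Cfsg

namespace Cfsg.Agent.S0104

open Cfsg.Agent.H1
open scoped Pointwise

/-- A subgroup Z of a Sylow p-subgroup P that is normalized by N_G(P) is weakly closed in P exactly when it is normal in every Sylow p-subgroup containing it. -/
theorem result {G : Type*} [Group G] [Finite G] {p : ℕ} [Fact p.Prime] (P : Sylow p G) (Z : Subgroup G) (hZP : Z ≤ (P : Subgroup G)) (hZN : Subgroup.normalizer (P : Set G) ≤ Subgroup.normalizer (Z : Set G)) : Cfsg.IsWeaklyClosed Z P ↔ ∀ R : Sylow p G, Z ≤ (R : Subgroup G) → (R : Subgroup G) ≤ Subgroup.normalizer (Z : Set G) := by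
  have hPN : (P : Subgroup G) ≤ Subgroup.normalizer (Z : Set G) :=
    (Subgroup.le_normalizer (H := (P : Subgroup G))).trans hZN
  constructor
  · rintro ⟨_, hwc⟩ R hZR
    obtain ⟨g, rfl⟩ := MulAction.exists_smul_eq G P R
    -- g⁻¹ Z g ≤ P
    have h1 : Z.map (MulAut.conj g⁻¹).toMonoidHom ≤ (P : Subgroup G) := by
      intro x hx
      rw [mem_map_conj_iff, inv_inv] at hx
      have := hZR hx
      have h2 : g * x * g⁻¹ ∈ g • P := this
      rwa [conj_mem_sylow_smul] at h2
    have h2 := hwc g⁻¹ h1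
    -- so g ∈ N(Z)
    have hg : g ∈ Subgroup.normalizer (Z : Set G) := by
      rw [← inv_mem_iff, Subgroup.mem_normalizer_iff_map_conj_eq]
      exact h2
    intro r hr
    have hr' : r ∈ g • P := hr
    rw [mem_sylow_smul] at hr'
    have h3 := hPN hr'
    have : r = g * (g⁻¹ * r * g) * g⁻¹ := by group
    rw [this]
    exact mul_mem (mul_mem hg h3) (inv_mem hg)
  · intro hall
    refine ⟨hZP, ?_⟩
    intro g hg
    -- Z ≤ g⁻¹ • P
    have h1 : Z ≤ ((g⁻¹ • P : Sylow p G) : Subgroup G) := by
      intro z hz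
      show z ∈ g⁻¹ • P
      rw [mem_sylow_smul, inv_inv]
      apply hg
      rw [mem_map_conj_iff]
      have : g⁻¹ * (g * z * g⁻¹) * g = z := by group
      rw [this]; exact hz
    have h2 := hall _ h1
    obtain ⟨n, hn, hnP⟩ := sylow_conj_in_subgroup P (g⁻¹ • P) _ hPN h2
    -- g * n ∈ N(P)
    have h3 : (g * n) • P = P := by
      rw [mul_smul, hnP, smul_smul, mul_inv_cancel, one_smul]
    rw [Sylow.smul_eq_iff_mem_normalizer] at h3
    have h4 := hZN h3
    have hgN : g ∈ Subgroup.normalizer (Z : Set G) := by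
      have : g = (g * n) * n⁻¹ := by group
      rw [this]
      exact mul_mem h4 (inv_mem hn)
    rw [Subgroup.mem_normalizer_iff_map_conj_eq] at hgN
    exact hgN

end Cfsg.Agent.S0104
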