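import Cfsg.Statements.S0109
import Mathlib
import Cfsg.Prelude.Def_Transfer
import Cfsg.Prelude.Def_PLocal
import Cfsg.Agent.S0608
import Cfsg.Agent.S0601
import Cfsg.Agent.S0607
import Cfsg.Agent.H1.QuadStable5
import Cfsg.Agent.H1.ThompsonFactStable

set_option autoImplicit false
open Cfsg

namespace Cfsg.Agent.S0109

set_option autoImplicit false
set_option linter.style.haveILetI false
set_option linter.unusedVariables false
set_option linter.unusedSectionVars false
open scoped commutatorElement Pointwise
open H1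

/-- The Thompson factorization Theorem for solvable groups states that, with p odd (and abelian Sylow 2-subgroups when p = 3) and no nontrivial normal subgroup of order prime to p, every element of G is a product of an element normalizing J(P) and an element centralizing the elements of order dividing p in the centre of P. -/
theorem result {G : Type*} [Group G] [Finite G] {p : ℕ} [Fact p.Prime] (hp : p ≠ 2) (hs : Group.IsSolvable G) (h3 : p = 3 → ∀ T : Sylow 2 G, IsMulCommutative T) (hF : ∀ N : Subgroup G, N.Normal → Nat.Coprime (Nat.card N) p → N = ⊥) (P : Sylow p G) (g : G) : ∃ a ∈ Subgroup.normalizer (Cfsg.thompsonSubgroupOf p (P : Subgroup G) : Set G), ∃ c ∈ Subgroup.centralizer {x : G | x ∈ (P : Subgroup G) ∧ (∀ y ∈ (P : Subgroup G), x * y = y * x) ∧ x ^ p = 1}, g = a * c := by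
  classical
  have hpp : p.Prime := Fact.out
  have hbot : Cfsg.pPrimeCore p G = ⊥ := hF _ (Cfsg.Agent.H1.pPrimeCore_normal p) (Cfsg.Agent.H1.pPrimeCore_coprime p)
  haveI := hs
  have hsol : Cfsg.IsPSolvable p G := Cfsg.Agent.Lib.Helper4.SolvPSolv.isPSolvable_of_isSolvable p G
  have hc := Cfsg.Agent.Lib.Lead.PSolvable.centralizer_pCore_le hsol hbot
  obtain ⟨hVn, hVel, hVD⟩ := Cfsg.Agent.S0601.result (p := p) hc
  haveI := hVn
  have hst : Cfsg.IsPStableOn p (⨆ S : Sylow p G, Cfsg.omegaOne p (((S : Subgroup G)) ⊓ Subgroup.centralizer ((S : Subgroup G) : Set G))) := by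
    by_cases hp3 : p = 3
    · exact isPStableOn_of_abelian_sylow2 hp (fun T => h3 hp3 T) _ hVel
    · have hp5 : 5 ≤ p := by
        have h2 := hpp.two_le
        by_contra hlt
        push Not at hlt
        interval_cases p
        · exact hp rfl
        · exact hp3 rfl
        · exact absurd hpp (by norm_num)
      exact isPStableOn_of_pSolvable hp5 hsol _ hVel
  have hO := pCore_quotient_centralizer_eq_bot (p := p) _ hVD
  have hJ := thompsonSubgroup_le_centralizer_of_pStable _ hVel hst hO
  have hTF := (Cfsg.Agent.S0608.result (p := p) hbot).mpr hJ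
  obtain ⟨x, hx, c, hc', n, hn, hg⟩ := hTF P g⁻¹
  rw [hbot, Subgroup.mem_bot] at hx
  refine ⟨n⁻¹, Subgroup.inv_mem _ hn, c⁻¹, ?_, ?_⟩
  · apply Subgroup.inv_mem
    have h1 : Subgroup.centralizer ((Cfsg.omegaOne p ((P : Subgroup G) ⊓ Subgroup.centralizer ((P : Subgroup G) : Set G)) : Subgroup G) : Set G)
        = Subgroup.centralizer {x : G | x ∈ (P : Subgroup G) ⊓ Subgroup.centralizer ((P : Subgroup G) : Set G) ∧ x ^ p = 1} := by
      unfold Cfsg.omegaOne
      exact Subgroup.centralizer_closure _
    rw [h1] at hc'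
    rw [Subgroup.mem_centralizer_iff] at hc' ⊢
    intro y hy
    apply hc'
    refine ⟨Subgroup.mem_inf.mpr ⟨hy.1, ?_⟩, hy.2.2⟩
    rw [Subgroup.mem_centralizer_iff]
    intro z hz
    exact (hy.2.1 z hz).symm
  · rw [hx, one_mul] at hg
    have : g = (g⁻¹)⁻¹ := (inv_inv g).symm
    rw [this, hg, mul_inv_rev]

end Cfsg.Agent.S0109
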