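import Cfsg.Statements.S3741
import Mathlib
import Cfsg.Agent.H1.RankTwoExpP

set_option autoImplicit false
open Cfsg
open scoped commutatorElement

namespace Cfsg.Agent.S3741

variable {G : Type*} [Group G]

/-- For `a ∈ A`, the number of elements of `B` commuting with `a` is `|B|` or `|B| / p`. -/
theorem key [Finite G] (p : ℕ) [hp : Fact p.Prime] (A B : Subgroup G)
    (hcen : ∀ z ∈ ⁅A, B⁆, ∀ x ∈ B, z * x = x * z)
    (hcard : Nat.card ↥⁅A, B⁆ = p) (a : G) (ha : a ∈ A) :
    (a ∈ Subgroup.centralizer (B : Set G) →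
        Nat.card {b : B // a * (b : G) = (b : G) * a} = Nat.card B) ∧
    (a ∉ Subgroup.centralizer (B : Set G) →
        p * Nat.card {b : B // a * (b : G) = (b : G) * a} = Nat.card B) := by
  -- the homomorphism `b ↦ ⁅a, b⁆`
  let f : B →* G :=
    { toFun := fun b => ⁅a, (b : G)⁆
      map_one' := by simp
      map_mul' := by
        intro b b'
        have hz : ⁅a, (b' : G)⁆ ∈ ⁅A, B⁆ := Subgroup.commutator_mem_commutator ha b'.2
        have h1 := hcen _ hz b b.2
        show ⁅a, (b : G) * b'⁆ = ⁅a, (b : G)⁆ * ⁅a, (b' : G)⁆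
        have e : ⁅a, (b : G) * b'⁆ = ⁅a, (b : G)⁆ * ((b : G) * ⁅a, (b' : G)⁆ * (b : G)⁻¹) := by
          simp only [commutatorElement_def]; group
        rw [e, ← h1]; group }
  have f_apply : ∀ b : B, f b = ⁅a, (b : G)⁆ := fun _ => rfl
  have hker : Nat.card f.ker = Nat.card {b : B // a * (b : G) = (b : G) * a} := by
    apply Nat.card_congr
    apply Equiv.subtypeEquivRight
    intro b
    rw [MonoidHom.mem_ker, f_apply, commutatorElement_eq_one_iff_mul_comm]
  have hmul : Nat.card f.ker * Nat.card f.range = Nat.card B := by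
    rw [← Subgroup.index_ker]; exact Subgroup.card_mul_index _
  have hrange : f.range ≤ ⁅A, B⁆ := by
    rintro _ ⟨b, rfl⟩
    exact Subgroup.commutator_mem_commutator ha b.2
  have hdvd : Nat.card f.range ∣ p := hcard ▸ Subgroup.card_dvd_of_le hrange
  have hbot : f.range = ⊥ ↔ a ∈ Subgroup.centralizer (B : Set G) := by
    rw [eq_bot_iff, Subgroup.mem_centralizer_iff]
    constructor
    · intro h b hb
      have : f ⟨b, hb⟩ ∈ (⊥ : Subgroup G) := h ⟨⟨b, hb⟩, rfl⟩
      rw [Subgroup.mem_bot, f_apply, commutatorElement_eq_one_iff_mul_comm] at this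
      exact this.symm
    · rintro h _ ⟨b, rfl⟩
      rw [Subgroup.mem_bot, f_apply, commutatorElement_eq_one_iff_mul_comm]
      exact (h b b.2).symm
  rw [← hker]
  constructor
  · intro hc
    have : Nat.card f.range = 1 := by rw [hbot.mpr hc]; exact Subgroup.card_bot
    rw [this, mul_one] at hmul; exact hmul
  · intro hc
    have h1 : Nat.card f.range ≠ 1 := by
      intro h
      exact hc (hbot.mp (Subgroup.card_eq_one.mp h))
    have h2 : Nat.card f.range = p := by
      rcases (Nat.dvd_prime hp.out).mp hdvd with h | h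
      · exact absurd h h1
      · exact h
    rw [h2] at hmul
    rw [mul_comm]; exact hmul

/-- the sum over `A` -/
theorem sum_eq [Finite G] (p : ℕ) [hp : Fact p.Prime] (A B : Subgroup G) [Fintype A]
    (hcen : ∀ z ∈ ⁅A, B⁆, ∀ x ∈ B, z * x = x * z)
    (hcard : Nat.card ↥⁅A, B⁆ = p) :
    ∃ a₁ : ℕ, Nat.card ↥(A ⊓ Subgroup.centralizer (B : Set G)) + a₁ = Nat.card A ∧
      ∑ a : A, p * Nat.card {b : B // (a : G) * (b : G) = (b : G) * a} =
        Nat.card ↥(A ⊓ Subgroup.centralizer (B : Set G)) * (p * Nat.card B) + a₁ * Nat.card B := by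
  classical
  refine ⟨(Finset.univ.filter (fun a : A => ¬ (a : G) ∈ Subgroup.centralizer (B : Set G))).card,
    ?_, ?_⟩
  · have h0 : Nat.card ↥(A ⊓ Subgroup.centralizer (B : Set G)) =
        (Finset.univ.filter (fun a : A => (a : G) ∈ Subgroup.centralizer (B : Set G))).card := by
      rw [← Fintype.card_subtype, ← Nat.card_eq_fintype_card]
      apply Nat.card_congr
      refine ⟨fun x => ⟨⟨x.1, (Subgroup.mem_inf.mp x.2).1⟩, (Subgroup.mem_inf.mp x.2).2⟩,
        fun x => ⟨x.1.1, Subgroup.mem_inf.mpr ⟨x.1.2, x.2⟩⟩, fun x => rfl, fun x => rfl⟩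
    rw [h0, Finset.card_filter_add_card_filter_not, Finset.card_univ,
      Nat.card_eq_fintype_card]
  · have h0 : Nat.card ↥(A ⊓ Subgroup.centralizer (B : Set G)) =
        (Finset.univ.filter (fun a : A => (a : G) ∈ Subgroup.centralizer (B : Set G))).card := by
      rw [← Fintype.card_subtype, ← Nat.card_eq_fintype_card]
      apply Nat.card_congr
      refine ⟨fun x => ⟨⟨x.1, (Subgroup.mem_inf.mp x.2).1⟩, (Subgroup.mem_inf.mp x.2).2⟩,
        fun x => ⟨x.1.1, Subgroup.mem_inf.mpr ⟨x.1.2, x.2⟩⟩, fun x => rfl, fun x => rfl⟩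
    have h1 : ∀ a : A, p * Nat.card {b : B // (a : G) * (b : G) = (b : G) * a} =
        if (a : G) ∈ Subgroup.centralizer (B : Set G) then p * Nat.card B else Nat.card B := by
      intro a
      obtain ⟨k1, k2⟩ := key p A B hcen hcard a a.2
      split_ifs with h
      · rw [k1 h]
      · exact k2 h
    rw [Finset.sum_congr rfl (fun a _ => h1 a), Finset.sum_ite, Finset.sum_const, Finset.sum_const,
      smul_eq_mul, smul_eq_mul, h0]

/-- Let A and B be subgroups of a finite p-group with [A, B] ≤ A ∩ B and [A, B] of order at most p. Then |A : C_A(B)| = |B : C_B(A)|. -/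
theorem result {G : Type*} [Group G] [Finite G] {p : ℕ} [Fact p.Prime] (hG : IsPGroup p G) (A B : Subgroup G) (hAB : ⁅A, B⁆ ≤ A ⊓ B) (hcard : Nat.card ↥⁅A, B⁆ ≤ p) : (A ⊓ Subgroup.centralizer (B : Set G)).relIndex A = (B ⊓ Subgroup.centralizer (A : Set G)).relIndex B := by
  classical
  have hpp : p.Prime := Fact.out
  obtain ⟨k, hk⟩ := (hG.to_subgroup ⁅A, B⁆).exists_card_eq
  have hk1 : k ≤ 1 := by
    by_contra h
    push Not at h
    have h2 : p ^ 2 ≤ p ^ k := Nat.pow_le_pow_right hpp.pos h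
    rw [← hk] at h2
    nlinarith [hpp.two_le]
  interval_cases k
  · have hbot : ⁅A, B⁆ = ⊥ := Subgroup.card_eq_one.mp (by simpa using hk)
    have h1 : A ≤ Subgroup.centralizer (B : Set G) :=
      Subgroup.commutator_eq_bot_iff_le_centralizer.mp hbot
    have h2 : B ≤ Subgroup.centralizer (A : Set G) := by
      rw [Subgroup.commutator_comm] at hbot
      exact Subgroup.commutator_eq_bot_iff_le_centralizer.mp hbot
    rw [Subgroup.relIndex_eq_one.mpr (le_inf le_rfl h1),
      Subgroup.relIndex_eq_one.mpr (le_inf le_rfl h2)]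
  · rw [pow_one] at hk
    have hZJ : ⁅A, B⁆ ≤ A ⊔ B := Subgroup.commutator_le_sup A B
    have hcen : ∀ z ∈ ⁅A, B⁆, ∀ x ∈ A ⊔ B, z * x = x * z := by
      intro z hz x hx
      have hN : Nat.card ↥(⁅A, B⁆.subgroupOf (A ⊔ B)) = p := by
        rw [← hk]
        exact Nat.card_congr (Subgroup.subgroupOfEquivOfLe hZJ).toEquiv
      have h := Cfsg.Agent.H1.normal_card_p_le_center (hG.to_subgroup (A ⊔ B))
        (⁅A, B⁆.subgroupOf (A ⊔ B)) hN
      have hzc : (⟨z, hZJ hz⟩ : ↥(A ⊔ B)) ∈ Subgroup.center ↥(A ⊔ B) :=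
        h (Subgroup.mem_subgroupOf.mpr hz)
      have := Subgroup.mem_center_iff.mp hzc ⟨x, hx⟩
      exact (congrArg Subtype.val this).symm
    haveI : Fintype A := Fintype.ofFinite A
    haveI : Fintype B := Fintype.ofFinite B
    obtain ⟨a₁, ha₁, hsumA⟩ := sum_eq p A B
      (fun z hz x hx => hcen z hz x (Subgroup.mem_sup_right hx)) hk
    have hk' : Nat.card ↥⁅B, A⁆ = p := by rw [Subgroup.commutator_comm]; exact hk
    obtain ⟨b₁, hb₁, hsumB⟩ := sum_eq p B A
      (fun z hz x hx => hcen z (by rwa [Subgroup.commutator_comm] at hz) x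
        (Subgroup.mem_sup_left hx)) hk'
    have hdc : ∑ a : A, p * Nat.card {b : B // (a : G) * (b : G) = (b : G) * a} =
        ∑ b : B, p * Nat.card {a : A // (b : G) * (a : G) = (a : G) * b} := by
      rw [← Finset.mul_sum, ← Finset.mul_sum]
      congr 1
      rw [← Nat.card_sigma, ← Nat.card_sigma]
      apply Nat.card_congr
      exact ((Equiv.subtypeProdEquivSigmaSubtype
        (fun (a : A) (b : B) => (a : G) * (b : G) = (b : G) * a)).symm.trans
        ((Equiv.prodComm A B).subtypeEquiv (fun x => ⟨Eq.symm, Eq.symm⟩))).trans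
        (Equiv.subtypeProdEquivSigmaSubtype
          (fun (b : B) (a : A) => (b : G) * (a : G) = (a : G) * b))
    have E := hsumA.symm.trans (hdc.trans hsumB)
    have hmain : Nat.card ↥(A ⊓ Subgroup.centralizer (B : Set G)) * Nat.card B =
        Nat.card ↥(B ⊓ Subgroup.centralizer (A : Set G)) * Nat.card A := by
      have hp1 : ((p : ℤ) - 1) ≠ 0 := by
        have h2 : (2 : ℤ) ≤ (p : ℤ) := by exact_mod_cast hpp.two_le
        intro h
        linarith
      have E' : ((p : ℤ) - 1) *
          ((Nat.card ↥(A ⊓ Subgroup.centralizer (B : Set G)) : ℤ) * (Nat.card B : ℤ)) =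
          ((p : ℤ) - 1) *
          ((Nat.card ↥(B ⊓ Subgroup.centralizer (A : Set G)) : ℤ) * (Nat.card A : ℤ)) := by
        have e1 : (Nat.card ↥(A ⊓ Subgroup.centralizer (B : Set G)) : ℤ) + (a₁ : ℤ) =
            (Nat.card A : ℤ) := by exact_mod_cast ha₁
        have e2 : (Nat.card ↥(B ⊓ Subgroup.centralizer (A : Set G)) : ℤ) + (b₁ : ℤ) =
            (Nat.card B : ℤ) := by exact_mod_cast hb₁
        have e3 : (Nat.card ↥(A ⊓ Subgroup.centralizer (B : Set G)) : ℤ) *
            ((p : ℤ) * (Nat.card B : ℤ)) + (a₁ : ℤ) * (Nat.card B : ℤ) =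
            (Nat.card ↥(B ⊓ Subgroup.centralizer (A : Set G)) : ℤ) *
            ((p : ℤ) * (Nat.card A : ℤ)) + (b₁ : ℤ) * (Nat.card A : ℤ) := by exact_mod_cast E
        linear_combination e3 - (Nat.card B : ℤ) * e1 + (Nat.card A : ℤ) * e2
      have := mul_left_cancel₀ hp1 E'
      exact_mod_cast this
    have hA : Nat.card ↥(A ⊓ Subgroup.centralizer (B : Set G)) *
        (A ⊓ Subgroup.centralizer (B : Set G)).relIndex A = Nat.card A := by
      have := Subgroup.card_mul_index ((A ⊓ Subgroup.centralizer (B : Set G)).subgroupOf A)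
      rwa [Nat.card_congr (Subgroup.subgroupOfEquivOfLe
        (inf_le_left : A ⊓ Subgroup.centralizer (B : Set G) ≤ A)).toEquiv] at this
    have hB : Nat.card ↥(B ⊓ Subgroup.centralizer (A : Set G)) *
        (B ⊓ Subgroup.centralizer (A : Set G)).relIndex B = Nat.card B := by
      have := Subgroup.card_mul_index ((B ⊓ Subgroup.centralizer (A : Set G)).subgroupOf B)
      rwa [Nat.card_congr (Subgroup.subgroupOfEquivOfLe
        (inf_le_left : B ⊓ Subgroup.centralizer (A : Set G) ≤ B)).toEquiv] at this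
    have ha0 : 0 < Nat.card ↥(A ⊓ Subgroup.centralizer (B : Set G)) := Nat.card_pos
    have hb0 : 0 < Nat.card ↥(B ⊓ Subgroup.centralizer (A : Set G)) := Nat.card_pos
    rw [← hA, ← hB] at hmain
    have h3 : (Nat.card ↥(A ⊓ Subgroup.centralizer (B : Set G)) *
        Nat.card ↥(B ⊓ Subgroup.centralizer (A : Set G))) *
        (A ⊓ Subgroup.centralizer (B : Set G)).relIndex A =
        (Nat.card ↥(A ⊓ Subgroup.centralizer (B : Set G)) *
        Nat.card ↥(B ⊓ Subgroup.centralizer (A : Set G))) *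
        (B ⊓ Subgroup.centralizer (A : Set G)).relIndex B := by
      linarith [hmain]
    exact Nat.eq_of_mul_eq_mul_left (Nat.mul_pos ha0 hb0) h3

end Cfsg.Agent.S3741
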