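import Cfsg.Statements.S0110
import Mathlib
import Cfsg.Agent.S3741
import Cfsg.Agent.H1.Card
import Cfsg.Agent.H1.RankTwoExpP

set_option autoImplicit false
open Cfsg

namespace Cfsg.Agent.S0110

/-- In a p-group G, an extraspecial subgroup E with [G, E] ≤ Z(E) satisfies G = E C_G(E). -/
theorem result {G : Type*} [Group G] [Finite G] {p : ℕ} [Fact p.Prime] (hG : IsPGroup p G) (E : Subgroup G) (hE : Cfsg.IsExtraspecial p E) (h : ⁅(⊤ : Subgroup G), E⁆ ≤ E ⊓ Subgroup.centralizer (E : Set G)) : E ⊔ Subgroup.centralizer (E : Set G) = ⊤ := by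
  classical
  have hpp : p.Prime := Fact.out
  -- `E` is normal
  haveI hEn : E.Normal := Subgroup.commutator_top_left_le_iff.mp (h.trans inf_le_left)
  -- the centre of `E` as a subgroup of `G`
  have hZcard : Nat.card ↥(E ⊓ Subgroup.centralizer (E : Set G)) = p := by
    rw [← hE.2]
    apply Nat.card_congr
    refine ⟨fun z => ⟨⟨z.1, (Subgroup.mem_inf.mp z.2).1⟩, ?_⟩,
      fun z => ⟨z.1.1, Subgroup.mem_inf.mpr ⟨z.1.2, ?_⟩⟩, fun z => rfl, fun z => rfl⟩
    · rw [Subgroup.mem_center_iff]
      intro e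
      apply Subtype.ext
      exact (Subgroup.mem_centralizer_iff.mp (Subgroup.mem_inf.mp z.2).2) e e.2
    · rw [Subgroup.mem_centralizer_iff]
      intro e he
      have := Subgroup.mem_center_iff.mp z.2 ⟨e, he⟩
      exact congrArg Subtype.val this
  haveI hZn : (E ⊓ Subgroup.centralizer (E : Set G)).Normal := inferInstance
  have hZcen : E ⊓ Subgroup.centralizer (E : Set G) ≤ Subgroup.center G :=
    Cfsg.Agent.H1.normal_card_p_le_center hG _ hZcard
  have hEZ : E ⊓ Subgroup.centralizer ((⊤ : Subgroup G) : Set G) =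
      E ⊓ Subgroup.centralizer (E : Set G) := by
    rw [Subgroup.coe_top, Subgroup.centralizer_univ]
    apply le_antisymm
    · exact inf_le_inf_left _ (Subgroup.center_le_centralizer _)
    · exact le_inf inf_le_left hZcen
  have key := Cfsg.Agent.S3741.result hG ⊤ E (le_inf le_top (h.trans inf_le_left))
    (by
      calc Nat.card ↥⁅(⊤ : Subgroup G), E⁆ ≤ Nat.card ↥(E ⊓ Subgroup.centralizer (E : Set G)) :=
            Subgroup.card_le_of_le h
        _ = p := hZcard)
  rw [top_inf_eq, Subgroup.relIndex_top_right, hEZ] at key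
  -- cardinality computation
  have h1 := Cfsg.Agent.H1.card_sup_mul_card_inf E (Subgroup.centralizer (E : Set G))
    (by rw [Subgroup.normalizer_eq_top]; exact le_top)
  have h2 : Nat.card ↥(E ⊓ Subgroup.centralizer (E : Set G)) *
      (E ⊓ Subgroup.centralizer (E : Set G)).relIndex E = Nat.card E := by
    have := Subgroup.card_mul_index ((E ⊓ Subgroup.centralizer (E : Set G)).subgroupOf E)
    rwa [Nat.card_congr (Subgroup.subgroupOfEquivOfLe
      (inf_le_left : E ⊓ Subgroup.centralizer (E : Set G) ≤ E)).toEquiv] at this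
  have h3 := Subgroup.card_mul_index (Subgroup.centralizer (E : Set G))
  rw [← Subgroup.card_eq_iff_eq_top]
  have hpos : 0 < Nat.card ↥(E ⊓ Subgroup.centralizer (E : Set G)) := Nat.card_pos
  apply Nat.eq_of_mul_eq_mul_right hpos
  rw [h1, ← h2, ← h3, key]
  ring

end Cfsg.Agent.S0110
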