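import Cfsg.Statements.S2012
import Mathlib
import Cfsg.Agent.Lib.Lead.AlperinTame

set_option autoImplicit false
set_option linter.style.haveILetI false
open Cfsg

namespace Cfsg.Agent.S2012

open Cfsg.Agent.Lib.Lead.AlperinTame Cfsg.Agent.Lib.Lead.DecP Cfsg.Agent.Lib.Lead.ConjFamily

/-- Alperin's fusion Theorem with each normalizing factor x_i a p-element or Q_i = P. -/
theorem result {G : Type*} [Group G] [Finite G] {p : ℕ} [Fact p.Prime] (P : Sylow p G) (A : Set G) (g : G) (hA : A ⊆ (P : Set G)) (hAg : (fun a => g⁻¹ * a * g) '' A ⊆ (P : Set G)) : ∃ (n : ℕ) (Q : Fin n → Sylow p G) (x : Fin n → G), (List.ofFn x).prod = g ∧ (∀ i : Fin n, x i ∈ Subgroup.normalizer ((((P : Subgroup G) ⊓ (Q i : Subgroup G)) : Subgroup G) : Set G) ∧ ¬ p ∣ ((P : Subgroup G) ⊓ Subgroup.normalizer ((((P : Subgroup G) ⊓ (Q i : Subgroup G)) : Subgroup G) : Set G)).relIndex (Subgroup.normalizer ((((P : Subgroup G) ⊓ (Q i :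 Subgroup G)) : Subgroup G) : Set G)) ∧ ¬ p ∣ ((Q i : Subgroup G) ⊓ Subgroup.normalizer ((((P : Subgroup G) ⊓ (Q i : Subgroup G)) : Subgroup G) : Set G)).relIndex (Subgroup.normalizer ((((P : Subgroup G) ⊓ (Q i : Subgroup G)) : Subgroup G) : Set G)) ∧ ((Q i : Subgroup G) = (P : Subgroup G) ∨ ∃ k : ℕ, orderOf (x i) = p ^ k)) ∧ (∀ h : 0 < n, A ⊆ (((P : Subgroup G) ⊓ (Q ⟨0, h⟩ : Subgroup G) : Subgroup G) : Set G)) ∧ ∀ i : Fin n, ∀ h : i.val + 1 < n, (fun a => (((List.ofFn x).take (i.val + 1)).prod)⁻¹ * a * ((List.ofFn x).take (i.val + 1)).prod) '' A ⊆ (((P : Subgroup G) ⊓ (Q ⟨i.val + 1, h⟩ : Subgroup G) : Subgroup G) : Set G) := by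
  obtain ⟨l, hl, hd⟩ := alperin_tame P A g hA hAg
  have hget := fun i : Fin l.length => hd.get i.1 i.2
  choose Q hQ using fun i : Fin l.length => (hget i).1
  have e : List.ofFn (fun i => (l.get i).2) = l.map Prod.snd := by
    apply List.ext_get
    · simp
    · intro n h1 h2
      simp
  refine ⟨l.length, Q, fun i => (l.get i).2, ?_, ?_, ?_, ?_⟩
  · rw [e]; exact hl
  · intro i
    obtain ⟨h1, h2, h3, h4⟩ := hQ i
    rw [← h1]
    exact ⟨(hget i).2.1, h2, h3, h4⟩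
  · intro h0
    have := (hget ⟨0, h0⟩).2.2
    rw [← (hQ ⟨0, h0⟩).1]
    simpa [rc_one] using this
  · intro i hi
    rw [e, ← (hQ ⟨i.1 + 1, hi⟩).1]
    exact (hget ⟨i.1 + 1, hi⟩).2.2

end Cfsg.Agent.S2012
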