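import Cfsg.Statements.S0118
import Cfsg.Agent.Lib.Helper7.GTD
import Cfsg.Agent.Lib.Helper4.ZJE
import Cfsg.Agent.Lib.Helper7.Qd4
import Cfsg.Agent.Lib.Helper7.InvolvesLib

set_option autoImplicit false
open Cfsg

namespace Cfsg.Agent.S0118
open Cfsg.Agent.Lib.Helper7 Cfsg.Agent.Lib.Helper7.GTD Cfsg.Agent.Lib.Lead.Conj Cfsg.Agent.S1961

/-- Glauberman's ZJ-Theorem, in the case of groups with no section isomorphic to SL(2,p), p odd: conjugation of subsets of a Sylow p-subgroup P inside P is always induced from the normalizer of Z(J(P)). -/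
theorem result {G : Type*} [Group G] [Finite G] {p : ℕ} [Fact p.Prime] (hp : p ≠ 2) (hfree : ¬ ∃ (H K : Subgroup G) (hK : (K.subgroupOf H).Normal), Nonempty ((H ⧸ K.subgroupOf H) ≃* Matrix.SpecialLinearGroup (Fin 2) (ZMod p))) (P : Sylow p G) (A : Set G) (hA : A ⊆ (P : Set G)) (g : G) (hAg : (fun a => g⁻¹ * a * g) '' A ⊆ (P : Set G)) : ∃ n ∈ Subgroup.normalizer (Cfsg.centerThompsonOf p (P : Subgroup G) : Set G), ∀ a ∈ A, n⁻¹ * a * n = g⁻¹ * a * g := by
  have hqd : ¬ Cfsg.Involves ↥(Cfsg.qd p) G := by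
    intro hinv
    apply hfree
    rw [involves_iff_exists_surjective] at hinv
    obtain ⟨K, φ, hφ⟩ := hinv
    have h2 : Cfsg.Involves (Matrix.SpecialLinearGroup (Fin 2) (ZMod p)) G := by
      rw [involves_iff_exists_surjective]
      refine ⟨K, (blockHom (K := ZMod p)).comp φ, ?_⟩
      intro M
      obtain ⟨k, hk⟩ := hφ (aff M 0)
      refine ⟨k, ?_⟩
      show blockHom (φ k) = M
      rw [hk, blockHom_aff]
    exact h2
  have hctl := mainD hp (Cfsg.Agent.Lib.Helper4.ZJE.pFunctor_WZE hp) (Nat.card G) G rfl hqd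
  have hD : Cfsg.IsStronglyClosed (P : Subgroup G) (P : Subgroup G) := ⟨le_rfl, fun x _ g h => h⟩
  have hgA : lc g⁻¹ A ⊆ ((P : Subgroup G) : Set G) := by
    rintro _ ⟨a, ha, rfl⟩
    have := hAg ⟨a, ha, rfl⟩
    simpa using this
  obtain ⟨x, hx, hxa⟩ := hctl P (P : Subgroup G) hD A g⁻¹ hA hgA
  refine ⟨x⁻¹, inv_mem hx, ?_⟩
  intro a ha
  have := hxa a ha
  simpa using this

end Cfsg.Agent.S0118
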