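import Cfsg.Statements.S0125
import Mathlib
import Cfsg.Agent.H1.Basic
import Cfsg.Agent.H1.Card

set_option autoImplicit false
open Cfsg

namespace Cfsg.Agent.S0125

open Cfsg.Agent.H1

/-- The centralizer of a self-centralizing normal subgroup A of a Sylow p-subgroup is the direct product of A with a normal p'-subgroup. -/
theorem result {G : Type*} [Group G] [Finite G] {p : ℕ} [Fact p.Prime] (R : Sylow p G) (A : Subgroup G) (hAR : A ≤ (R : Subgroup G)) (hAn : (R : Subgroup G) ≤ Subgroup.normalizer (A : Set G)) (hC : (R : Subgroup G) ⊓ Subgroup.centralizer (A : Set G) = A) : ∃ H : Subgroup G, H ≤ Subgroup.centralizer (A : Set G) ∧ Nat.Coprime (Nat.card H) p ∧ Subgroup.centralizer (A : Set G) ≤ Subgroup.normalizer (H : Set G) ∧ H ⊓ A = ⊥ ∧ H ⊔ A = Subgroup.centralizer (A : Set G) := by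
  obtain ⟨C, hCdef⟩ : ∃ C : Subgroup G, C = Subgroup.centralizer (A : Set G) := ⟨_, rfl⟩
  rw [← hCdef] at hC ⊢
  have hAC : A ≤ C := by rw [← hC]; exact inf_le_right
  -- C ≤ N(A) ≤ N(C)
  have hCN : C ≤ Subgroup.normalizer (A : Set G) := by
    rw [hCdef]; exact Subgroup.centralizer_le_normalizer (A : Set G)
  have hNC : Subgroup.normalizer (A : Set G) ≤ Subgroup.normalizer (C : Set G) := by
    rw [hCdef]
    exact (Subgroup.normal_subgroupOf_iff_le_normalizer (Subgroup.centralizer_le_normalizer (A : Set G))).mp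
      (Subgroup.normal_subgroupOf_centralizer_normalizer (A : Set G))
  have hkey : ¬ p ∣ A.relIndex C := by
    intro hdvd
    have h1 : (R : Subgroup G).relIndex C = A.relIndex C := by
      rw [← Subgroup.inf_relIndex_right, hC]
    have h2 : (R : Subgroup G).relIndex C ∣ (R : Subgroup G).relIndex (Subgroup.normalizer (A : Set G)) :=
      relIndex_dvd_relIndex_of_normal _ C _ hCN hNC
    have h3 : (R : Subgroup G).relIndex (Subgroup.normalizer (A : Set G)) ∣ (R : Subgroup G).index :=
      Subgroup.relIndex_dvd_index_of_le hAn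
    rw [← h1] at hdvd
    exact R.not_dvd_index (hdvd.trans (h2.trans h3))
  have hp : IsPGroup p (A.subgroupOf C) := (R.isPGroup'.to_le hAR).comap_subtype
  obtain ⟨P, hP⟩ : ∃ P : Sylow p C, (P : Subgroup C) = A.subgroupOf C := ⟨hp.toSylow hkey, hp.toSylow_coe hkey⟩
  have hcent : Subgroup.normalizer ((P : Subgroup C) : Set C) ≤ Subgroup.centralizer ((P : Subgroup C) : Set C) := by
    intro c _
    rw [Subgroup.mem_centralizer_iff]
    intro a ha
    have ha' : a ∈ A.subgroupOf C := by rw [← hP]; exact ha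
    rw [Subgroup.mem_subgroupOf] at ha'
    have hc : (c : G) ∈ Subgroup.centralizer (A : Set G) := hCdef ▸ c.2
    rw [Subgroup.mem_centralizer_iff] at hc
    exact Subtype.ext (hc _ ha')
  have hcompl := MonoidHom.ker_transferSylow_isComplement' P hcent
  have hAmap : (P : Subgroup C).map C.subtype = A := by
    rw [hP, Subgroup.subgroupOf_map_subtype, inf_eq_left.mpr hAC]
  refine ⟨(MonoidHom.transferSylow P hcent).ker.map C.subtype, Subgroup.map_subtype_le _, ?_, ?_, ?_, ?_⟩
  · rw [Subgroup.card_map_of_injective C.subtype_injective, ← hcompl.index_eq_card]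
    exact ((Nat.Prime.coprime_iff_not_dvd Fact.out).mpr P.not_dvd_index).symm
  · have h1 := Subgroup.le_normalizer_map C.subtype (H := (MonoidHom.transferSylow P hcent).ker)
    rw [Subgroup.normalizer_eq_top_iff.mpr inferInstance, ← MonoidHom.range_eq_map, Subgroup.range_subtype] at h1
    exact h1
  · rw [← hAmap, ← Subgroup.map_inf _ _ _ C.subtype_injective, hcompl.disjoint.eq_bot, Subgroup.map_bot]
  · rw [← hAmap, ← Subgroup.map_sup, hcompl.sup_eq_top, ← MonoidHom.range_eq_map, Subgroup.range_subtype]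

end Cfsg.Agent.S0125
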