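import Cfsg.Statements.S0128
import Cfsg.Agent.H1.RankTwoOmega

set_option autoImplicit false
open Cfsg

namespace Cfsg.Agent.S0128

set_option autoImplicit false
open Cfsg

/-- For p > 3, in a p-group of p-rank at most 2 the elements of order dividing p generate a subgroup of exponent dividing p. -/
theorem result {R : Type*} [Group R] [Finite R] {p : ℕ} [Fact p.Prime] (hp : 3 < p) (hR : IsPGroup p R) (hrk : ∀ E : Subgroup R, Cfsg.IsElementaryAbelian p E → Nat.card E ≤ p ^ 2) (g : R) (hg : g ∈ Subgroup.closure {x : R | x ^ p = 1}) : g ^ p = 1 := by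
  refine Subgroup.closure_induction (p := fun z _ => z ^ p = 1) ?_ ?_ ?_ ?_ hg
  · intro z hz; exact hz
  · exact one_pow p
  · intro a b _ _ ha hb
    exact Cfsg.Agent.H1.RankTwoOmega.mul_pow_eq_one p hp (Nat.card R) R le_rfl hR hrk a b ha hb
  · intro a _ ha
    rw [inv_pow, ha, inv_one]

end Cfsg.Agent.S0128
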