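import Cfsg.Statements.S0129
import Mathlib
import Cfsg.Agent.H1.NormalRankTwo
import Cfsg.Agent.H1.RankTwoExpP
import Cfsg.Agent.H1.SupersolvableCLT

set_option autoImplicit false
open Cfsg
open scoped commutatorElement

namespace Cfsg.Agent.S0129

theorem tri (a : ℕ) : (a + 1) * (a + 1 - 1) / 2 = a * (a - 1) / 2 + a := by
  have h : (a + 1) * (a + 1 - 1) = a * (a - 1) + 2 * a := by
    cases a with
    | zero => simp
    | succ n => simp only [Nat.add_sub_cancel]; ring
  rw [h, Nat.add_mul_div_left _ _ (by norm_num : 0 < 2)]

/-- In a `p`-group, a normal abelian subgroup of order `p^a` has centralizer of index at most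
`p^(a(a-1)/2)`. -/
theorem index_centralizer_le {G : Type*} [Group G] [Finite G] {p : ℕ} [Fact p.Prime]
    (hG : IsPGroup p G) :
    ∀ (a : ℕ) (A : Subgroup G), A.Normal → IsMulCommutative A → Nat.card A = p ^ a →
      (Subgroup.centralizer (A : Set G)).index ≤ p ^ (a * (a - 1) / 2) := by
  have hp : p.Prime := Fact.out
  intro a
  induction a with
  | zero =>
    intro A _ _ hA
    rw [pow_zero] at hA
    have hAb : A = ⊥ := Subgroup.card_eq_one.mp hA
    subst hAb
    have htop : Subgroup.centralizer (((⊥ : Subgroup G) : Subgroup G) : Set G) = ⊤ := by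
      rw [Subgroup.centralizer_eq_top_iff_subset]
      intro z hz
      have hz1 : z = 1 := hz
      subst hz1
      exact Subgroup.one_mem _
    rw [htop, Subgroup.index_top]
    exact Nat.one_le_pow _ _ hp.pos
  | succ a ih =>
    intro A hAn hAc hA
    obtain ⟨B, hBA, hBn, hB⟩ := Cfsg.Agent.H1.exists_normal_le_card_pow (p := p) a G hG A
      (by rw [hA]; exact pow_dvd_pow p (Nat.le_succ a))
    have hBc : IsMulCommutative B := ⟨⟨fun x y => Subtype.ext (by
      have h1 := hAc.is_comm.comm ⟨x.1, hBA x.2⟩ ⟨y.1, hBA y.2⟩
      have h2 : (x : G) * y = y * x := congrArg Subtype.val h1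
      exact h2)⟩⟩
    have ihB := ih B hBn hBc hB
    obtain ⟨x, hxA, hxB⟩ : ∃ x ∈ A, x ∉ B := by
      by_contra hcon
      push Not at hcon
      have hAB : A = B := le_antisymm hcon hBA
      rw [hAB, hB] at hA
      exact (Nat.pow_lt_pow_right hp.one_lt (Nat.lt_succ_self a)).ne hA
    have hcomm : ∀ y ∈ A, ∀ g : G, ⁅y, g⁆ ∈ B := by
      intro y hy g
      haveI : (A.map (QuotientGroup.mk' B)).Normal := hAn.map _ (QuotientGroup.mk'_surjective B)
      have hcard : Nat.card (A.map (QuotientGroup.mk' B)) = p := by
        have h1 := Cfsg.Agent.H1.card_comap_mk B (A.map (QuotientGroup.mk' B))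
        rw [Subgroup.comap_map_eq_self (by rw [QuotientGroup.ker_mk']; exact hBA), hA, hB,
          pow_succ] at h1
        have hpos : 0 < p ^ a := pow_pos hp.pos a
        exact (Nat.eq_of_mul_eq_mul_right hpos (by rw [← h1, mul_comm])).symm
      have hcen := Cfsg.Agent.H1.normal_card_p_le_center (hG.to_quotient B)
        (A.map (QuotientGroup.mk' B)) hcard
      have hy' : (QuotientGroup.mk' B y) ∈ Subgroup.center (G ⧸ B) :=
        hcen (Subgroup.mem_map_of_mem _ hy)
      have h1 : (QuotientGroup.mk' B) ⁅y, g⁆ = 1 := by
        rw [map_commutatorElement, commutatorElement_eq_one_iff_mul_comm]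
        exact (Subgroup.mem_center_iff.mp hy' _).symm
      exact (QuotientGroup.eq_one_iff _).mp h1
    have hcB : ∀ c ∈ Subgroup.centralizer (B : Set G), ∀ b ∈ B, b * c = c * b :=
      fun c hc b hb => Subgroup.mem_centralizer_iff.mp hc b hb
    let f : ↥(Subgroup.centralizer (B : Set G)) →* ↥B :=
      { toFun := fun c => ⟨⁅x, (c : G)⁆, hcomm x hxA c⟩
        map_one' := by ext; simp
        map_mul' := by
          intro c d
          ext
          have hw := hcB c c.2 _ (hcomm x hxA d)
          show ⁅x, (c : G) * (d : G)⁆ = ⁅x, (c : G)⁆ * ⁅x, (d : G)⁆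
          calc ⁅x, (c : G) * (d : G)⁆
              = ⁅x, (c : G)⁆ * ((c : G) * ⁅x, (d : G)⁆ * (c : G)⁻¹) := by
                simp only [commutatorElement_def]; group
            _ = _ := by rw [← hw, mul_inv_cancel_right] }
    have hker : f.ker = (Subgroup.centralizer (A : Set G)).subgroupOf
        (Subgroup.centralizer (B : Set G)) := by
      ext c
      rw [MonoidHom.mem_ker, Subgroup.mem_subgroupOf]
      constructor
      · intro hc
        have hxc : x * (c : G) = (c : G) * x := by
          have h1 := congrArg Subtype.val hc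
          exact commutatorElement_eq_one_iff_mul_comm.mp h1
        -- E = C_A(c) contains B and x, so equals A
        have hBE : B ≤ A ⊓ Subgroup.centralizer {(c : G)} := by
          intro b hb
          refine Subgroup.mem_inf.mpr ⟨hBA hb, ?_⟩
          rw [Subgroup.mem_centralizer_iff]
          intro h hh
          rw [Set.mem_singleton_iff] at hh
          subst hh
          exact (hcB c c.2 b hb).symm
        have hxE : x ∈ A ⊓ Subgroup.centralizer {(c : G)} := by
          refine Subgroup.mem_inf.mpr ⟨hxA, ?_⟩
          rw [Subgroup.mem_centralizer_iff]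
          intro h hh
          rw [Set.mem_singleton_iff] at hh
          subst hh
          exact hxc.symm
        have hEA : A ⊓ Subgroup.centralizer {(c : G)} ≤ A := inf_le_left
        have hd1 : Nat.card (A ⊓ Subgroup.centralizer {(c : G)} : Subgroup G) ∣ p ^ (a + 1) := by
          rw [← hA]; exact Subgroup.card_dvd_of_le hEA
        have hd2 : p ^ a ∣ Nat.card (A ⊓ Subgroup.centralizer {(c : G)} : Subgroup G) := by
          rw [← hB]; exact Subgroup.card_dvd_of_le hBE
        obtain ⟨k, hk, hkE⟩ := (Nat.dvd_prime_pow hp).mp hd1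
        rw [hkE] at hd2
        have hak : a ≤ k := (Nat.pow_dvd_pow_iff_le_right hp.one_lt).mp hd2
        have hk' : k = a + 1 := by
          rcases Nat.lt_or_ge a k with h | h
          · omega
          · exfalso
            have hka : k = a := le_antisymm h hak
            have hBE' : B = A ⊓ Subgroup.centralizer {(c : G)} :=
              Subgroup.eq_of_le_of_card_ge hBE (by rw [hkE, hB, hka])
            exact hxB (hBE' ▸ hxE)
        have hEA' : A ⊓ Subgroup.centralizer {(c : G)} = A :=
          Subgroup.eq_of_le_of_card_ge hEA (by rw [hkE, hA, hk'])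
        rw [Subgroup.mem_centralizer_iff]
        intro y hy
        have hyE : y ∈ A ⊓ Subgroup.centralizer {(c : G)} := by rw [hEA']; exact hy
        have h2 := Subgroup.mem_centralizer_iff.mp (Subgroup.mem_inf.mp hyE).2 (c : G) rfl
        exact h2.symm
      · intro hc
        ext
        show ⁅x, (c : G)⁆ = 1
        rw [commutatorElement_eq_one_iff_mul_comm]
        exact Subgroup.mem_centralizer_iff.mp hc x hxA
    have hle : Subgroup.centralizer (A : Set G) ≤ Subgroup.centralizer (B : Set G) :=
      Subgroup.centralizer_le (by exact_mod_cast hBA)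
    have hrel : (Subgroup.centralizer (A : Set G)).relIndex (Subgroup.centralizer (B : Set G))
        ≤ p ^ a := by
      rw [Subgroup.relIndex, ← hker, Subgroup.index_ker, ← hB]
      exact Subgroup.card_le_card_group _
    have hmul := Subgroup.relIndex_mul_index hle
    rw [← hmul, tri, pow_add, mul_comm]
    exact Nat.mul_le_mul ihB hrel

/-- The order of a p-group is bounded by p^(a(a+1)/2) when it has a maximal normal abelian subgroup of order p^a. -/
theorem result {G : Type*} [Group G] [Finite G] {p : ℕ} [Fact p.Prime] (hG : IsPGroup p G) (A : Subgroup G) [A.Normal] (hA : IsMulCommutative A) (hmax : ∀ B : Subgroup G, B.Normal → IsMulCommutative B → A ≤ B → B = A) (a : ℕ) (ha : Nat.card A = p ^ a) : Nat.card G ≤ p ^ (a * (a + 1) / 2) := by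
  have hp : p.Prime := Fact.out
  haveI : Group.IsNilpotent G := hG.isNilpotent
  haveI := hA
  have hself := Cfsg.Agent.H1.relative_self_centralizing (⊤ : Subgroup G) A le_top
    (fun M hMn hMc _ hAM => hmax M hMn hMc hAM)
  rw [top_inf_eq] at hself
  have hidx := index_centralizer_le hG a A inferInstance hA ha
  rw [hself] at hidx
  rw [← A.card_mul_index, ha]
  have h : a * (a + 1) = a * (a - 1) + 2 * a := by
    cases a with
    | zero => rfl
    | succ n => simp only [Nat.add_sub_cancel]; ring
  rw [h, Nat.add_mul_div_left _ _ (by norm_num : 0 < 2), add_comm, pow_add]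
  exact Nat.mul_le_mul_left _ hidx

end Cfsg.Agent.S0129
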