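import Cfsg.Statements.S0131
import Mathlib
import Cfsg.Agent.H1.Basic
import Cfsg.Agent.H1.SylowConj

set_option autoImplicit false
open Cfsg

namespace Cfsg.Agent.S0131

open Cfsg.Agent.H1
open scoped commutatorElement

/-- P/P' has a normal complement in G exactly when the focal subgroup G' ∩ P is as small as possible, namely P'. -/
theorem result {G : Type*} [Group G] [Finite G] {p : ℕ} [Fact p.Prime] (P : Sylow p G) : (∃ N : Subgroup G, N.Normal ∧ N ⊓ (P : Subgroup G) = ⁅(P : Subgroup G), (P : Subgroup G)⁆ ∧ N ⊔ (P : Subgroup G) = ⊤) ↔ commutator G ⊓ (P : Subgroup G) = ⁅(P : Subgroup G), (P : Subgroup G)⁆ := by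
  have hp : p.Prime := Fact.out
  have hPG : ⁅(P : Subgroup G), (P : Subgroup G)⁆ ≤ commutator G ⊓ (P : Subgroup G) := by
    apply le_inf
    · rw [commutator_def]
      exact Subgroup.commutator_mono le_top le_top
    · exact Subgroup.commutator_le_self _
  constructor
  · rintro ⟨N, hN, hNP, hsup⟩
    apply le_antisymm _ hPG
    -- G/N is abelian
    have hcomm : commutator G ≤ N := by
      rw [commutator_def, Subgroup.commutator_le]
      -- every element is n * x with n ∈ N, x ∈ P
      have hdecomp : ∀ g : G, ∃ n ∈ N, ∃ x ∈ (P : Subgroup G), g = n * x := by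
        intro g
        have hg : g ∈ N ⊔ (P : Subgroup G) := by rw [hsup]; exact Subgroup.mem_top g
        rw [Subgroup.mem_sup_of_normal_left] at hg
        obtain ⟨n, hn, x, hx, rfl⟩ := hg
        exact ⟨n, hn, x, hx, rfl⟩
      intro a _ b _
      obtain ⟨n, hn, x, hx, rfl⟩ := hdecomp a
      obtain ⟨m, hm, y, hy, rfl⟩ := hdecomp b
      -- work in quotient
      rw [← QuotientGroup.eq_one_iff]
      have hxy : ⁅x, y⁆ ∈ N := by
        have : ⁅x, y⁆ ∈ ⁅(P : Subgroup G), (P : Subgroup G)⁆ := Subgroup.commutator_mem_commutator hx hy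
        rw [← hNP] at this
        exact this.1
      have h1 : ((n * x : G) : G ⧸ N) = (x : G ⧸ N) := by
        rw [QuotientGroup.mk_mul, (QuotientGroup.eq_one_iff n).mpr hn, one_mul]
      have h2 : ((m * y : G) : G ⧸ N) = (y : G ⧸ N) := by
        rw [QuotientGroup.mk_mul, (QuotientGroup.eq_one_iff m).mpr hm, one_mul]
      have h3 : ((⁅n * x, m * y⁆ : G) : G ⧸ N) = ((⁅x, y⁆ : G) : G ⧸ N) := by
        simp only [commutatorElement_def, QuotientGroup.mk_mul, QuotientGroup.mk_inv, h1, h2]
      rw [h3]
      exact (QuotientGroup.eq_one_iff _).mpr hxy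
    calc commutator G ⊓ (P : Subgroup G) ≤ N ⊓ (P : Subgroup G) := inf_le_inf_right _ hcomm
      _ = _ := hNP
  · intro hfoc
    set m := (P : Subgroup G).index with hm
    obtain ⟨k, hk⟩ := (IsPGroup.iff_card.mp P.isPGroup')
    have hcop : Nat.Coprime m (p ^ k) := by
      apply Nat.Coprime.pow_right
      rw [Nat.coprime_comm, hp.coprime_iff_not_dvd]
      exact P.not_dvd_index
    have hcardG : Nat.card G = p ^ k * m := by
      rw [← hk, hm, Subgroup.card_mul_index]
    -- N = kernel of g ↦ (g G')^m
    let f : G →* Abelianization G := (powMonoidHom m).comp Abelianization.of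
    refine ⟨f.ker, inferInstance, ?_, ?_⟩
    · apply le_antisymm
      · rw [← hfoc]
        intro x hx
        obtain ⟨hxN, hxP⟩ := Subgroup.mem_inf.mp hx
        refine Subgroup.mem_inf.mpr ⟨?_, hxP⟩
        rw [MonoidHom.mem_ker] at hxN
        have h1 : (Abelianization.of x) ^ m = 1 := hxN
        have h2 : (Abelianization.of x) ^ (p ^ k) = 1 := by
          rw [← map_pow]
          have : x ^ (p ^ k) = 1 := by
            have h0 := pow_card_eq_one' (G := (P : Subgroup G)) (x := ⟨x, hxP⟩)
            rw [hk] at h0
            have h00 := congrArg Subtype.val h0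
            rw [Subgroup.coe_pow, Subgroup.coe_one] at h00
            exact h00
          rw [this, map_one]
        have h3 : orderOf (Abelianization.of x) ∣ Nat.gcd m (p ^ k) :=
          Nat.dvd_gcd (orderOf_dvd_of_pow_eq_one h1) (orderOf_dvd_of_pow_eq_one h2)
        rw [hcop, Nat.dvd_one, orderOf_eq_one_iff] at h3
        have : x ∈ (Abelianization.of (G := G)).ker := h3
        rwa [Abelianization.ker_of] at this
      · apply le_inf _ (Subgroup.commutator_le_self _)
        intro x hx
        have hx' : x ∈ commutator G := hPG.trans inf_le_left hx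
        rw [MonoidHom.mem_ker]
        show (Abelianization.of x) ^ m = 1
        have : Abelianization.of x = 1 := by
          rw [← MonoidHom.mem_ker, Abelianization.ker_of]; exact hx'
        rw [this, one_pow]
    · rw [eq_top_iff]
      intro g _
      -- g = (g^m)^a * (g^(p^k))^b with a m + b p^k = 1 (in ℤ)
      have hbez : (g : G) = (g ^ m) ^ (Nat.gcdA m (p ^ k)) * (g ^ (p ^ k)) ^ (Nat.gcdB m (p ^ k)) := by
        rw [← zpow_natCast g m, ← zpow_natCast g (p ^ k), ← zpow_mul, ← zpow_mul, ← zpow_add,
          ← Nat.gcd_eq_gcd_ab, hcop]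
        simp
      have hcommN : commutator G ≤ f.ker := by
        intro x hx
        rw [MonoidHom.mem_ker]
        show (Abelianization.of x) ^ m = 1
        have : Abelianization.of x = 1 := by
          rw [← MonoidHom.mem_ker, Abelianization.ker_of]; exact hx
        rw [this, one_pow]
      have h1 : g ^ (p ^ k) ∈ f.ker := by
        rw [MonoidHom.mem_ker]
        show (Abelianization.of (g ^ (p ^ k))) ^ m = 1
        rw [← map_pow, ← pow_mul, ← hcardG, pow_card_eq_one', map_one]
      have h2 : g ^ m ∈ f.ker ⊔ (P : Subgroup G) := by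
        -- g^m is a p-element, so conjugate into P
        have hpg : IsPGroup p (Subgroup.zpowers (g ^ m)) := by
          rw [IsPGroup.iff_card, Nat.card_zpowers]
          have : orderOf (g ^ m) ∣ p ^ k := by
            apply orderOf_dvd_of_pow_eq_one
            rw [← pow_mul, mul_comm, ← hcardG, pow_card_eq_one']
          obtain ⟨j, _, hj⟩ := (Nat.dvd_prime_pow hp).mp this
          exact ⟨j, hj⟩
        obtain ⟨Q, hQ⟩ := hpg.exists_le_sylow
        obtain ⟨h, rfl⟩ := MulAction.exists_smul_eq G P Q
        have h3 : g ^ m ∈ h • P := hQ (Subgroup.mem_zpowers _)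
        rw [mem_sylow_smul] at h3
        set x := h⁻¹ * g ^ m * h with hx
        have h4 : g ^ m = ⁅h, x⁆ * x := by
          rw [commutatorElement_def, hx]; group
        rw [h4]
        apply mul_mem
        · apply Subgroup.mem_sup_left
          apply hcommN
          exact Subgroup.commutator_mem_commutator (Subgroup.mem_top h) (Subgroup.mem_top x)
        · exact Subgroup.mem_sup_right h3
      rw [hbez]
      exact mul_mem (zpow_mem h2 _) (zpow_mem (Subgroup.mem_sup_left h1) _)

end Cfsg.Agent.S0131
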