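import Mathlib
import Cfsg.Statements.S0162
import Cfsg.Agent.Lib.helper3.Degrees
import Cfsg.Agent.Lib.helper3.Irr14

set_option autoImplicit false
open Cfsg

namespace Cfsg.Agent.S0162

/-- If a finite group has odd order, its order is congruent to its number of conjugacy classes modulo 16. -/
theorem result {G : Type*} [Group G] [Finite G] (hodd : Odd (Nat.card G)) : Nat.card G ≡ Nat.card (ConjClasses G) [MOD 16] := by
  classical
  let _ : Fintype G := Fintype.ofFinite G
  open Cfsg.Agent.Lib.helper3.Irr Cfsg.Agent.Lib.helper3.Central in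
  have hdeg : ∀ χ : IrrCharacter G, ∃ n : ℕ, (χ : G → ℂ) 1 = n ∧ n ∣ Nat.card G ∧ 0 < n :=
    fun χ => irr_degree_dvd_card χ.2
  choose d hd1 hd2 hd3 using hdeg
  have hdodd : ∀ χ, Odd (d χ) := fun χ => Odd.of_dvd_nat hodd (hd2 χ)
  -- sum of squares
  have hsum : ∑ χ : IrrCharacter G, (d χ) ^ 2 = Nat.card G := by
    have h := Cfsg.Agent.Lib.helper3.Irr.sum_sq_degree (G := G)
    have h2 : ((∑ χ : IrrCharacter G, (d χ) ^ 2 : ℕ) : ℂ) = (Nat.card G : ℂ) := by
      rw [← h]; push_cast
      exact Finset.sum_congr rfl (fun χ _ => by rw [hd1 χ])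
    exact_mod_cast h2
  have hk : Nat.card (ConjClasses G) = Fintype.card (IrrCharacter G) := by
    rw [← Cfsg.Agent.Lib.helper3.Irr.card_irr_eq_card_conjClasses, Nat.card_eq_fintype_card]
  -- the conjugation involution
  set cj : IrrCharacter G → IrrCharacter G :=
    fun χ => ⟨fun g => (starRingEnd ℂ) ((χ : G → ℂ) g),
      Cfsg.Agent.Lib.helper3.Irr.isIrrCharacter_conj χ.2⟩ with hcj
  have hcjcj : ∀ χ, cj (cj χ) = χ := by
    intro χ
    apply Subtype.ext
    funext g
    simp [hcj]
  have hdcj : ∀ χ, d (cj χ) = d χ := by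
    intro χ
    have h1 : ((d (cj χ) : ℕ) : ℂ) = (d χ : ℂ) := by
      rw [← hd1, ← hd1]
      show (starRingEnd ℂ) ((χ : G → ℂ) 1) = _
      rw [hd1]; simp
    exact_mod_cast h1
  have hfix : ∀ χ, cj χ = χ → d χ = 1 := by
    intro χ h
    have hreal : ∀ g : G, ((χ : G → ℂ) g).im = 0 := by
      intro g
      have := congrArg (fun ψ : IrrCharacter G => (ψ : G → ℂ) g) h
      simp only [hcj] at this
      exact Complex.conj_eq_iff_im.mp this
    have h1 := Cfsg.Agent.Lib.helper3.Irr.eq_one_of_real_of_odd hodd χ hreal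
    have h2 : ((d χ : ℕ) : ℂ) = 1 := by rw [← hd1, h1]
    exact_mod_cast h2
  -- the key sum in ZMod 16
  have hz : ∑ χ : IrrCharacter G, ((((d χ) ^ 2 : ℕ) : ZMod 16) - 1) = 0 := by
    apply Finset.sum_involution (fun χ _ => cj χ)
    · intro χ _
      rw [hdcj]
      obtain ⟨m, hm⟩ := hdodd χ
      obtain ⟨t, ht⟩ := Nat.even_mul_succ_self m
      have : (d χ) ^ 2 = 1 + 8 * t := by
        rw [hm]
        have : m * (m + 1) = 2 * t := by omega
        nlinarith
      rw [this]
      push_cast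
      ring_nf
      have h16 : (16 : ZMod 16) = 0 := by decide
      linear_combination (t : ZMod 16) * h16
    · intro χ _ hne hcjχ
      apply hne
      rw [hfix χ hcjχ]
      simp
    · intro χ _; exact Finset.mem_univ _
    · intro χ _; exact hcjcj χ
  rw [Finset.sum_sub_distrib] at hz
  simp only [Finset.sum_const, Finset.card_univ, nsmul_eq_mul, mul_one] at hz
  rw [← Nat.cast_sum, hsum, sub_eq_zero] at hz
  rw [hk]
  exact (ZMod.natCast_eq_natCast_iff _ _ _).mp hz

end Cfsg.Agent.S0162
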