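import Mathlib
import Cfsg.Statements.S0166
import Cfsg.Agent.Lib.helper3.SplitK6

set_option autoImplicit false
open Cfsg

namespace Cfsg.Agent.S0166

/-- Brauer's splitting field Theorem: a complex representation of a finite group of exponent m is equivalent to a representation by matrices with entries in ℚ adjoined exp(2πi/m). -/
theorem result {G : Type*} [Group G] [Finite G] (n : ℕ) (ρ : Representation ℂ G (Fin n → ℂ)) : ∃ σ : Representation ℂ G (Fin n → ℂ), Nonempty (ρ.Equiv σ) ∧ ∀ g : G, ∀ i j : Fin n, LinearMap.toMatrix' (σ g) i j ∈ Algebra.adjoin ℚ ({Complex.exp (2 * Real.pi * Complex.I / (Monoid.exponent G : ℂ))} : Set ℂ) := by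
  classical
  letI : Fintype G := Fintype.ofFinite G
  obtain ⟨ζ, hζ⟩ : ∃ ζ : ℂ, ζ = Complex.exp (2 * Real.pi * Complex.I / (Monoid.exponent G : ℂ)) :=
    ⟨_, rfl⟩
  rw [← hζ]
  have hm0 : Monoid.exponent G ≠ 0 := Monoid.exponent_ne_zero_of_finite
  haveI : NeZero (Monoid.exponent G) := ⟨hm0⟩
  have hprim : IsPrimitiveRoot ζ (Monoid.exponent G) := by
    rw [hζ]
    exact Complex.isPrimitiveRoot_exp _ hm0
  have hint : IsIntegral ℚ ζ := (hprim.isIntegral (Nat.pos_of_ne_zero hm0)).tower_top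
  have hsub : (IntermediateField.adjoin ℚ ({ζ} : Set ℂ)).toSubalgebra = Algebra.adjoin ℚ {ζ} :=
    IntermediateField.adjoin_simple_toSubalgebra_of_isAlgebraic hint.isAlgebraic
  have hrange : Set.range (algebraMap ↥(IntermediateField.adjoin ℚ ({ζ} : Set ℂ)) ℂ)
      = ((Algebra.adjoin ℚ ({ζ} : Set ℂ) : Subalgebra ℚ ℂ) : Set ℂ) := by
    rw [← hsub]
    ext x
    constructor
    · rintro ⟨y, rfl⟩
      exact y.2
    · intro hx
      exact ⟨⟨x, hx⟩, rfl⟩
  have hroots : ∀ z : ℂ, z ^ (Monoid.exponent G) = 1 →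
      z ∈ Set.range (algebraMap ↥(IntermediateField.adjoin ℚ ({ζ} : Set ℂ)) ℂ) := by
    intro z hz
    obtain ⟨i, -, rfl⟩ := hprim.eq_pow_of_pow_eq_one hz
    rw [hrange]
    exact Subalgebra.pow_mem _ (Algebra.subset_adjoin (Set.mem_singleton ζ)) i
  obtain ⟨σ, hσ, hmat⟩ := Cfsg.Agent.Lib.helper3.SplitK.splitting
    (K := ↥(IntermediateField.adjoin ℚ ({ζ} : Set ℂ))) hroots n ρ
  refine ⟨σ, hσ, ?_⟩
  intro g i j
  have := hmat g i j
  rw [hrange] at this
  exact this


end Cfsg.Agent.S0166
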