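import Mathlib
import Cfsg.Statements.S0168
import Cfsg.Agent.Lib.helper3.CharBasic2
import Cfsg.Agent.Lib.helper3.Irr9

set_option autoImplicit false
open Cfsg

namespace Cfsg.Agent.S0168

/-- The Burnside–Brauer Theorem. Let χ be the character of a faithful complex representation of a finite group, taking m distinct values. Then every irreducible character has nonzero inner product with χ ^ i for some i < m. -/
theorem result {G : Type*} [Group G] [Fintype G] {V : Type*} [AddCommGroup V] [Module ℂ V] [FiniteDimensional ℂ V] (ρ : Representation ℂ G V) (hfaithful : Function.Injective ρ) (ψ : G → ℂ) (hψ : Cfsg.IsIrrCharacter G ψ) : ∃ i : ℕ, i < Nat.card (Set.range ρ.character) ∧ Cfsg.classInner (fun g => ρ.character g ^ i) ψ ≠ 0 := by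
  classical
  by_contra hcon
  push Not at hcon
  set χ : G → ℂ := ρ.character with hχ
  set d : ℂ := (Module.finrank ℂ V : ℂ) with hd
  have hχ1 : χ 1 = d := Representation.char_one ρ
  set S : Finset ℂ := Finset.univ.image χ with hS
  have hcardS : Nat.card (Set.range ρ.character) = S.card := by
    rw [hS, Nat.card_coe_set_eq, ← Set.ncard_coe_finset]
    congr 1
    ext x
    simp [hχ]
  have hdS : d ∈ S := by
    rw [hS, Finset.mem_image]
    exact ⟨1, Finset.mem_univ _, hχ1⟩
  set P : Polynomial ℂ := ∏ a ∈ S.erase d, (Polynomial.X - Polynomial.C a) with hP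
  have hdeg : P.natDegree = S.card - 1 := by
    rw [hP, Polynomial.natDegree_prod_of_monic _ _ (fun a _ => Polynomial.monic_X_sub_C a)]
    simp only [Polynomial.natDegree_X_sub_C, Finset.sum_const, smul_eq_mul, mul_one]
    rw [Finset.card_erase_of_mem hdS]
  have hPd : P.eval d ≠ 0 := by
    rw [hP, Polynomial.eval_prod]
    rw [Finset.prod_ne_zero_iff]
    intro a ha
    rw [Polynomial.eval_sub, Polynomial.eval_X, Polynomial.eval_C]
    rw [Finset.mem_erase] at ha
    exact sub_ne_zero.mpr (Ne.symm ha.1)
  have hPz : ∀ g : G, g ≠ 1 → P.eval (χ g) = 0 := by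
    intro g hg
    rw [hP, Polynomial.eval_prod]
    apply Finset.prod_eq_zero (i := χ g)
    · rw [Finset.mem_erase]
      refine ⟨?_, Finset.mem_image_of_mem _ (Finset.mem_univ _)⟩
      intro h
      apply hg
      have h2 := (Cfsg.Agent.Lib.helper3.CharBasic.character_eq_finrank_iff ρ g).mp h
      apply hfaithful
      rw [h2, map_one]
      rfl
    · rw [Polynomial.eval_sub, Polynomial.eval_X, Polynomial.eval_C, sub_self]
  -- the sum
  have hsum1 : ∑ g : G, P.eval (χ g) * (starRingEnd ℂ) (ψ g)
      = P.eval d * (starRingEnd ℂ) (ψ 1) := by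
    rw [Finset.sum_eq_single 1]
    · rw [hχ1]
    · intro g _ hg
      rw [hPz g hg, zero_mul]
    · intro h; exact absurd (Finset.mem_univ _) h
  have hSpos : 0 < S.card := Finset.card_pos.mpr ⟨d, hdS⟩
  have hsum2 : ∑ g : G, P.eval (χ g) * (starRingEnd ℂ) (ψ g) = 0 := by
    have : ∀ g : G, P.eval (χ g) * (starRingEnd ℂ) (ψ g)
        = ∑ i ∈ Finset.range (P.natDegree + 1), P.coeff i * (χ g ^ i * (starRingEnd ℂ) (ψ g)) := by
      intro g
      rw [Polynomial.eval_eq_sum_range, Finset.sum_mul]
      apply Finset.sum_congr rfl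
      intro i _
      ring
    simp only [this]
    rw [Finset.sum_comm]
    apply Finset.sum_eq_zero
    intro i hi
    rw [← Finset.mul_sum]
    have hi' : i < Nat.card (Set.range ρ.character) := by
      rw [hcardS]
      rw [Finset.mem_range, hdeg] at hi
      omega
    have h0 := hcon i hi'
    unfold Cfsg.classInner at h0
    have hne : ((Nat.card G : ℕ) : ℂ)⁻¹ ≠ 0 := by
      rw [Ne, inv_eq_zero, Nat.cast_eq_zero]
      exact Nat.card_pos.ne'
    rw [(mul_eq_zero.mp h0).resolve_left hne, mul_zero]
  rw [hsum1] at hsum2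
  rcases mul_eq_zero.mp hsum2 with h | h
  · exact hPd h
  · obtain ⟨n, hn, hn1⟩ := Cfsg.Agent.Lib.helper3.Irr.exists_pos_nat_apply_one hψ
    rw [hn1] at h
    simp at h
    omega

end Cfsg.Agent.S0168
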