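import Mathlib
import Cfsg.Statements.S0175
import Cfsg.Agent.Lib.helper3.Taketa

set_option autoImplicit false
open Cfsg

namespace Cfsg.Agent.S0175

open Cfsg.Agent.Lib.helper3.Irr Cfsg.Agent.Lib.helper3.IndFun

/-- Taketa's Theorem on M-groups: if every irreducible complex character of a finite group is induced from a linear character (a homomorphism to ℂˣ) of some subgroup, the group is solvable. -/
theorem result {G : Type*} [Group G] [Fintype G] (hM : ∀ χ : G → ℂ, Cfsg.IsIrrCharacter G χ → ∃ (H : Subgroup G) (lam : H →* ℂˣ), χ = Cfsg.indFun H (fun h => (lam h : ℂ))) : Group.IsSolvable G := by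
  classical
  have key : ∀ n : ℕ, ∀ χ : G → ℂ, Cfsg.IsIrrCharacter G χ → ∀ d : ℕ, χ 1 = d → d ≤ n →
      ∀ g ∈ derivedSeries G n, χ g = χ 1 := by
    intro n
    induction n with
    | zero =>
      intro χ hχ d hd hle g _
      exfalso
      have : d = 0 := by omega
      rw [this] at hd
      exact apply_one_ne_zero hχ (by simpa using hd)
    | succ n ih =>
      intro χ hχ d hd hle g hg
      by_cases hdn : d ≤ n
      · exact ih χ hχ d hd hdn g (derivedSeries_antitone G (Nat.le_succ n) hg)
      · have hdeq : d = n + 1 := by omega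
        obtain ⟨H, lam, hχeq⟩ := hM χ hχ
        have hχ1 : χ 1 = (H.index : ℂ) := by
          rw [hχeq, indFun_apply_one]
          simp
        have hidx : H.index = n + 1 := by
          rw [hd, hdeq] at hχ1
          exact_mod_cast hχ1.symm
        -- the `n`-th derived subgroup lies in `H`
        have hDH : derivedSeries G n ≤ H := by
          rcases Nat.eq_zero_or_pos n with h0 | hpos
          · subst h0
            have : H = ⊤ := Subgroup.index_eq_one.mp (by simpa using hidx)
            rw [this]
            exact le_top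
          · intro k hk
            apply mem_of_indFun_one_eq_index
            have hπ : Cfsg.IsCharacter G (Cfsg.indFun H (fun _ => (1 : ℂ))) :=
              isCharacter_indFun H _ isCharacter_one
            have hdec := isCharacter_eq_sum_classInner hπ
            have h1 : Cfsg.indFun H (fun _ => (1 : ℂ)) k = Cfsg.indFun H (fun _ => (1 : ℂ)) 1 := by
              rw [hdec]
              simp only [Finset.sum_apply, Pi.smul_apply, smul_eq_mul]
              apply Finset.sum_congr rfl
              intro ψ _
              by_cases hψ0 : Cfsg.classInner (Cfsg.indFun H (fun _ => (1 : ℂ))) (ψ : G → ℂ) = 0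
              · rw [hψ0, zero_mul, zero_mul]
              · congr 1
                obtain ⟨b, -, hb⟩ := exists_pos_nat_apply_one ψ.2
                exact ih ψ ψ.2 b hb (perm_constituent_degree_le H n hpos hidx ψ hψ0 b hb) k hk
            rw [h1, indFun_apply_one, mul_one]
        rw [hχ1, hχeq]
        apply indFun_eq_index_of_forall
        intro x
        have hnorm := derivedSeries_normal G (n + 1)
        have hx : x⁻¹ * g * x ∈ derivedSeries G (n + 1) := by
          have := hnorm.conj_mem g hg x⁻¹
          rwa [inv_inv] at this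
        rw [derivedSeries_succ] at hx
        have hx2 : x⁻¹ * g * x ∈ ⁅H, H⁆ := Subgroup.commutator_mono hDH hDH hx
        rw [← Subgroup.map_subtype_commutator] at hx2
        obtain ⟨y, hy, hyx⟩ := hx2
        have hlam : lam y = 1 := Abelianization.commutator_subset_ker lam hy
        have hmem : x⁻¹ * g * x ∈ H := by
          rw [← hyx]; exact y.2
        refine ⟨hmem, ?_⟩
        have : (⟨x⁻¹ * g * x, hmem⟩ : H) = y := Subtype.ext hyx.symm
        rw [this, hlam]
        rfl
  -- a common bound for the degrees
  have hdeg : ∀ ψ : Cfsg.IrrCharacter G, ∃ b : ℕ, (ψ : G → ℂ) 1 = b := fun ψ => by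
    obtain ⟨b, -, hb⟩ := exists_pos_nat_apply_one ψ.2
    exact ⟨b, hb⟩
  choose deg hdeg using hdeg
  set N := ∑ ψ : Cfsg.IrrCharacter G, deg ψ with hN
  rw [Group.isSolvable_def]
  refine ⟨N, ?_⟩
  rw [eq_bot_iff]
  intro g hg
  rw [Subgroup.mem_bot]
  by_contra hg1
  have hall : ∀ ψ : Cfsg.IrrCharacter G, (ψ : G → ℂ) g = (ψ : G → ℂ) 1 := by
    intro ψ
    exact key N ψ ψ.2 (deg ψ) (hdeg ψ)
      (Finset.single_le_sum (f := deg) (fun _ _ => Nat.zero_le _) (Finset.mem_univ ψ)) g hg
  have h1 := sum_irr_mul_conj g (1 : G)
  have h2 := sum_irr_mul_conj (1 : G) (1 : G)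
  simp only [hall] at h1
  rw [h2] at h1
  have h3 : IsEmpty {y : G // y * 1 * y⁻¹ = g} := by
    constructor
    rintro ⟨y, hy⟩
    apply hg1
    rw [← hy]
    simp
  have h4 : Nat.card {y : G // y * 1 * y⁻¹ = (1 : G)} = Nat.card G := by
    apply Nat.card_congr
    exact Equiv.subtypeUnivEquiv (fun y => by simp)
  rw [h4, @Nat.card_of_isEmpty _ h3, Nat.cast_zero] at h1
  exact card_ne_zero_complex G h1

end Cfsg.Agent.S0175
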