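import Mathlib
import Cfsg.Statements.S0180
import Cfsg.Agent.Lib.helper3.Cyclo
import Cfsg.Agent.S0136

set_option autoImplicit false
open Cfsg

namespace Cfsg.Agent.S0180

/-- Every irreducible complex character of a finite group takes only rational values if and only if g is conjugate to g ^ m for every element g and every m coprime to the group order. -/
theorem result {G : Type*} [Group G] [Finite G] : (∀ χ : Cfsg.IrrCharacter G, ∀ g : G, ∃ q : ℚ, (χ : G → ℂ) g = (q : ℂ)) ↔ ∀ m : ℕ, m.Coprime (Nat.card G) → ∀ g : G, IsConj g (g ^ m) := by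
  classical
  open Cfsg.Agent.Lib.helper3.Cyclo in
  have : NeZero (Nat.card G) := ⟨Nat.card_pos.ne'⟩
  have hn : ∀ g : G, g ^ Nat.card G = 1 := fun g => pow_card_eq_one'
  constructor
  · intro hrat m hm g
    rw [Cfsg.Agent.S0136.result]
    rintro ⟨χ, d, ρ, hirr, rfl⟩
    show ρ.character g = ρ.character (g ^ m)
    obtain ⟨q, hq⟩ := hrat ⟨ρ.character, d, ρ, hirr, rfl⟩ g
    open Cfsg.Agent.Lib.helper3.Cyclo in
    obtain ⟨a, -, ha, hσa⟩ := exists_cyclo_lift (Nat.card G) hn ρ g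
    open Cfsg.Agent.Lib.helper3.Cyclo in
    obtain ⟨σ, hσ⟩ := exists_aut (Nat.card G) m hm
    have haq : a = algebraMap ℚ (CyclotomicField (Nat.card G) ℚ) q := by
      apply Cfsg.Agent.Lib.helper3.Cyclo.emb_injective (Nat.card G)
      rw [ha, AlgHom.commutes]
      exact hq
    rw [← hσa σ m hσ, haq, AlgEquiv.commutes, ← haq, ha]
  · intro hconj
    rintro ⟨χ, d, ρ, hirr, rfl⟩ g
    show ∃ q : ℚ, ρ.character g = (q : ℂ)
    open Cfsg.Agent.Lib.helper3.Cyclo in
    obtain ⟨a, -, ha, hσa⟩ := exists_cyclo_lift (Nat.card G) hn ρ g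
    have hcf := Cfsg.Agent.Lib.helper3.Irr.isClassFunction_of_isCharacter
      (Cfsg.Agent.Lib.helper3.Irr.isCharacter_of_rep ρ)
    have hfix : ∀ σ : CyclotomicField (Nat.card G) ℚ ≃ₐ[ℚ] CyclotomicField (Nat.card G) ℚ,
        σ a = a := by
      intro σ
      open Cfsg.Agent.Lib.helper3.Cyclo in
      obtain ⟨t, ht, hσ⟩ := aut_zeta (Nat.card G) σ
      apply Cfsg.Agent.Lib.helper3.Cyclo.emb_injective (Nat.card G)
      rw [hσa σ t hσ, ha]
      exact ((Cfsg.Agent.Lib.helper3.Irr.isClassFunction_iff_isConj.mp hcf) g (g ^ t)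
        (hconj t ht g)).symm
    open Cfsg.Agent.Lib.helper3.Cyclo in
    obtain ⟨q, hq⟩ := exists_rat_of_fixed (Nat.card G) a hfix
    refine ⟨q, ?_⟩
    rw [← ha, hq, AlgHom.commutes]
    rfl

end Cfsg.Agent.S0180
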