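import Mathlib
import Cfsg.Statements.S0187
import Cfsg.Agent.Lib.helper3.Irr10

set_option autoImplicit false
open Cfsg

namespace Cfsg.Agent.S0187

/-- A finite group is commutative if and only if every irreducible complex character has degree 1. -/
theorem result {G : Type*} [Group G] [Finite G] : (∀ a b : G, a * b = b * a) ↔ ∀ χ : Cfsg.IrrCharacter G, (χ : G → ℂ) 1 = 1 := by
  classical
  letI : Fintype G := Fintype.ofFinite G
  constructor
  · intro hcomm χ
    exact Cfsg.Agent.Lib.helper3.Irr.apply_one_eq_one_of_comm hcomm χ.2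
  · intro hall
    have hsum := Cfsg.Agent.Lib.helper3.Irr.sum_sq_degree (G := G)
    have h1 : ∑ χ : Cfsg.IrrCharacter G, (χ : G → ℂ) 1 ^ 2
        = (Fintype.card (Cfsg.IrrCharacter G) : ℂ) := by
      rw [Finset.sum_congr rfl (fun χ _ => by rw [hall χ, one_pow])]
      simp
    rw [h1] at hsum
    have h2 : Fintype.card (Cfsg.IrrCharacter G) = Nat.card G := by exact_mod_cast hsum
    have h3 : Nat.card (ConjClasses G) = Nat.card G := by
      rw [← Cfsg.Agent.Lib.helper3.Irr.card_irr_eq_card_conjClasses, Nat.card_eq_fintype_card, h2]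
    have hinj : Function.Injective (ConjClasses.mk : G → ConjClasses G) := by
      letI : Fintype (ConjClasses G) := Fintype.ofFinite _
      have hbij : Function.Bijective (ConjClasses.mk : G → ConjClasses G) := by
        rw [Fintype.bijective_iff_surjective_and_card]
        refine ⟨ConjClasses.mk_surjective, ?_⟩
        rw [← Nat.card_eq_fintype_card, ← Nat.card_eq_fintype_card, h3]
      exact hbij.1
    intro a b
    have hconj : IsConj b (a * b * a⁻¹) := isConj_iff.mpr ⟨a, rfl⟩
    have := hinj (ConjClasses.mk_eq_mk_iff_isConj.mpr hconj)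
    calc a * b = (a * b * a⁻¹) * a := by group
      _ = b * a := by rw [← this]

end Cfsg.Agent.S0187
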