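import Mathlib
import Cfsg.Statements.S0196

set_option autoImplicit false
set_option linter.style.haveILetI false
open Cfsg

namespace Cfsg.Agent.S0196

/-- If a finite group `N` acts on a finite type `X` with all stabilizers of the same index `d`, then `d ∣ card X`. -/
theorem dvd_card_of_forall_index_stabilizer {N X : Type*} [Group N] [MulAction N X] [Finite X]
    (d : ℕ) (h : ∀ x : X, (MulAction.stabilizer N x).index = d) : d ∣ Nat.card X := by
  classical
  have e := MulAction.selfEquivSigmaOrbitsQuotientStabilizer N X
  rw [Nat.card_congr e]
  haveI : Finite (Quotient (MulAction.orbitRel N X)) := Quotient.finite _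
  haveI : ∀ ω : Quotient (MulAction.orbitRel N X), Finite (N ⧸ MulAction.stabilizer N ω.out) := by
    intro ω
    apply Nat.finite_of_card_ne_zero
    have := h ω.out
    rw [Subgroup.index] at this
    rw [this]
    intro hd
    subst hd
    -- then all stabilizers have index 0, so X is infinite or empty; handle: card of the sigma type
    have hfin : Finite (Σ ω : Quotient (MulAction.orbitRel N X), N ⧸ MulAction.stabilizer N ω.out) :=
      Finite.of_equiv _ e
    have : Finite (N ⧸ MulAction.stabilizer N ω.out) := by
      have hinj : Function.Injective (fun q : N ⧸ MulAction.stabilizer N ω.out =>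
          (⟨ω, q⟩ : Σ ω : Quotient (MulAction.orbitRel N X), N ⧸ MulAction.stabilizer N ω.out)) := by
        intro a b hab
        simpa using hab
      exact Finite.of_injective _ hinj
    have hpos := Nat.card_pos (α := N ⧸ MulAction.stabilizer N ω.out)
    have := h ω.out
    rw [Subgroup.index] at this
    omega
  letI : Fintype (Quotient (MulAction.orbitRel N X)) := Fintype.ofFinite _
  rw [Nat.card_sigma]
  apply Finset.dvd_sum
  intro ω _
  have := h ω.out
  rw [Subgroup.index] at this
  rw [this]

/-- Let A be a subgroup of a finite group G that equals the centralizer of each of its non-identity elements, and let N be its normalizer. Then the index of A in N divides |A| − 1 (N/A permutes the non-identity elements of A in orbits of full length). -/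
theorem result {G : Type*} [Group G] [Finite G] (A : Subgroup G) (hA : ∀ x ∈ A, x ≠ 1 → Subgroup.centralizer ({x} : Set G) = A) : (A.subgroupOf (Subgroup.normalizer (A : Set G))).index ∣ Nat.card A - 1 := by
  classical
  set N := Subgroup.normalizer (A : Set G) with hN
  let X := {x : G // x ∈ A ∧ x ≠ 1}
  letI inst : MulAction N X :=
    { smul := fun n x => ⟨(n : G) * x.1 * (n : G)⁻¹, by
        refine ⟨?_, ?_⟩
        · exact (Subgroup.mem_normalizer_iff.mp n.2 x.1).mp x.2.1
        · intro h
          apply x.2.2
          have : x.1 = (n : G)⁻¹ * ((n : G) * x.1 * (n : G)⁻¹) * (n : G) := by group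
          rw [this, h]; group⟩
      one_smul := by
        intro x
        apply Subtype.ext
        show ((1 : N) : G) * x.1 * ((1 : N) : G)⁻¹ = x.1
        simp
      mul_smul := by
        intro a b x
        apply Subtype.ext
        show ((a * b : N) : G) * x.1 * ((a * b : N) : G)⁻¹ = (a : G) * ((b : G) * x.1 * (b : G)⁻¹) * (a : G)⁻¹
        simp only [Subgroup.coe_mul, mul_inv_rev]
        group }
  have hsmul : ∀ (n : N) (x : X), ((n • x : X) : G) = (n : G) * x.1 * (n : G)⁻¹ := fun _ _ => rfl
  have hstab : ∀ x : X, MulAction.stabilizer N x = A.subgroupOf N := by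
    intro x
    ext n
    rw [MulAction.mem_stabilizer_iff, Subgroup.mem_subgroupOf, ← hA x.1 x.2.1 x.2.2]
    rw [Subgroup.mem_centralizer_iff]
    simp only [Set.mem_singleton_iff, forall_eq]
    rw [Subtype.ext_iff, hsmul]
    constructor
    · intro h
      calc x.1 * (n : G) = ((n : G) * x.1 * (n : G)⁻¹) * (n : G) := by rw [h]
        _ = (n : G) * x.1 := by group
    · intro h
      calc (n : G) * x.1 * (n : G)⁻¹ = (x.1 * (n : G)) * (n : G)⁻¹ := by rw [h]
        _ = x.1 := by group
  have hdvd := dvd_card_of_forall_index_stabilizer (N := N) (X := X) _ (fun x => by rw [hstab x])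
  have hcard : Nat.card X = Nat.card A - 1 := by
    have e : X ≃ {a : A // a ≠ 1} :=
      { toFun := fun x => ⟨⟨x.1, x.2.1⟩, fun h => x.2.2 (by simpa using congrArg Subtype.val h)⟩
        invFun := fun a => ⟨a.1.1, a.1.2, fun h => a.2 (Subtype.ext h)⟩
        left_inv := fun x => rfl
        right_inv := fun a => rfl }
    rw [Nat.card_congr e]
    have : Nat.card {a : A // a ≠ 1} = Nat.card A - 1 := by
      letI : Fintype A := Fintype.ofFinite _
      rw [Nat.card_eq_fintype_card, Nat.card_eq_fintype_card]
      rw [Fintype.card_subtype_compl, Fintype.card_subtype_eq]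
    exact this
  rw [← hcard]
  exact hdvd

end Cfsg.Agent.S0196
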