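import Cfsg.Statements.S0208
import Mathlib
import Cfsg.Agent.H1.Dihedral

set_option autoImplicit false
open Cfsg

namespace Cfsg.Agent.S0208

open Cfsg.Agent.H1

/-- If x, y are involutions and xy has odd order, then some element of the subgroup generated by x and y conjugates x to y. -/
theorem result {G : Type*} [Group G] [Finite G] (x y : G) (hx : orderOf x = 2) (hy : orderOf y = 2) (hodd : Odd (orderOf (x * y))) : ∃ d ∈ Subgroup.closure ({x, y} : Set G), d * x * d⁻¹ = y := by
  obtain ⟨m, hm⟩ := hodd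
  refine ⟨(x * y) ^ (m : ℤ), (mem_closure_pair_iff hx hy _).mpr ⟨m, Or.inl rfl⟩, ?_⟩
  rw [pair_conj_zpow hx hy]
  have h1 : (x * y) ^ (2 * (m : ℤ)) = (x * y)⁻¹ := by
    rw [eq_inv_iff_mul_eq_one, ← zpow_add_one]
    have : (2 * (m : ℤ) + 1) = ((orderOf (x * y) : ℕ) : ℤ) := by rw [hm]; push_cast; ring
    rw [this, zpow_natCast, pow_orderOf_eq_one]
  rw [h1, mul_inv_rev, invol_inv hx, invol_inv hy, mul_assoc, invol_mul_self hx, mul_one]

end Cfsg.Agent.S0208
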