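import Cfsg.Statements.S0209
import Mathlib
import Cfsg.Agent.H1.Dihedral

set_option autoImplicit false
open Cfsg

namespace Cfsg.Agent.S0209

open Cfsg.Agent.H1

/-- If x, y are involutions whose product has even order n, the element (xy)^(n/2) is an involution that commutes with x and with y. -/
theorem result {G : Type*} [Group G] [Finite G] (x y : G) (hx : orderOf x = 2) (hy : orderOf y = 2) (heven : Even (orderOf (x * y))) : orderOf ((x * y) ^ (orderOf (x * y) / 2)) = 2 ∧ Commute ((x * y) ^ (orderOf (x * y) / 2)) x ∧ Commute ((x * y) ^ (orderOf (x * y) / 2)) y := by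
  obtain ⟨m, hm⟩ := heven
  have hm2 : orderOf (x * y) / 2 = m := by omega
  have hpos : 0 < orderOf (x * y) := orderOf_pos _
  rw [hm2]
  have hz : orderOf ((x * y) ^ m) = 2 := by
    rw [invol_iff]
    constructor
    · rw [← pow_mul, mul_comm, two_mul, ← hm, pow_orderOf_eq_one]
    · exact pow_ne_one_of_lt_orderOf (by omega) (by omega)
  have hzinv := invol_inv hz
  refine ⟨hz, ?_, ?_⟩
  · show (x * y) ^ m * x = x * (x * y) ^ m
    have : x * (x * y) ^ m * x⁻¹ = ((x * y) ^ m)⁻¹ := by
      rw [← conj_pow, pair_conj hx hy, inv_pow]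
    rw [hzinv] at this
    nth_rewrite 1 [← this]
    rw [invol_inv hx, mul_assoc, mul_assoc, invol_mul_self hx, mul_one]
  · show (x * y) ^ m * y = y * (x * y) ^ m
    have : y * (x * y) ^ m * y⁻¹ = ((x * y) ^ m)⁻¹ := by
      rw [← conj_pow, pair_conj' hx hy, inv_pow]
    rw [hzinv] at this
    nth_rewrite 1 [← this]
    rw [invol_inv hy, mul_assoc, mul_assoc, invol_mul_self hy, mul_one]

end Cfsg.Agent.S0209
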