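import Cfsg.Statements.S0210
import Mathlib
import Cfsg.Agent.H1.Dihedral

set_option autoImplicit false
open Cfsg

namespace Cfsg.Agent.S0210

open Cfsg.Agent.H1

/-- If x, y are involutions whose product has even order, no element of the subgroup generated by x and y conjugates x to y. -/
theorem result {G : Type*} [Group G] [Finite G] (x y : G) (hx : orderOf x = 2) (hy : orderOf y = 2) (heven : Even (orderOf (x * y))) (d : G) (hd : d ∈ Subgroup.closure ({x, y} : Set G)) : d * x * d⁻¹ ≠ y := by
  intro hcon
  have key : ∀ j : ℤ, (x * y) ^ (2 * j) * x = y → False := by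
    intro j hj
    have h0 : (x * y) ^ (2 * j) = y * x⁻¹ := eq_mul_inv_of_mul_eq hj
    have h1 : (x * y) ^ (2 * j + 1) = 1 := by
      rw [zpow_add_one, h0, invol_inv hx, mul_assoc, ← mul_assoc x x, invol_mul_self hx, one_mul,
        invol_mul_self hy]
    rw [← orderOf_dvd_iff_zpow_eq_one] at h1
    obtain ⟨m, hm⟩ := heven
    rw [hm] at h1
    have : (2 : ℤ) ∣ 2 * j + 1 := by
      refine dvd_trans ⟨m, ?_⟩ h1
      push_cast; ring
    omega
  rw [mem_closure_pair_iff hx hy] at hd
  obtain ⟨k, rfl | rfl⟩ := hd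
  · rw [pair_conj_zpow hx hy] at hcon
    exact key k hcon
  · rw [pair_conj_mul_zpow hx hy, show -(2 * k) = 2 * (-k) by ring] at hcon
    exact key (-k) hcon

end Cfsg.Agent.S0210
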