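import Cfsg.Statements.S0211
import Mathlib
import Cfsg.Agent.H1.Dihedral

set_option autoImplicit false
open Cfsg

namespace Cfsg.Agent.S0211

open Cfsg.Agent.H1

/-- Let x, y be involutions with xy of even order n and z = (xy)^(n/2). Then xz is conjugate to x by an element of the subgroup generated by x, y if and only if 4 divides n. -/
theorem result {G : Type*} [Group G] [Finite G] (x y : G) (hx : orderOf x = 2) (hy : orderOf y = 2) (heven : Even (orderOf (x * y))) : (∃ d ∈ Subgroup.closure ({x, y} : Set G), d * x * d⁻¹ = x * (x * y) ^ (orderOf (x * y) / 2)) ↔ 4 ∣ orderOf (x * y) := by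
  obtain ⟨m, hm⟩ := heven
  have hm2 : orderOf (x * y) / 2 = m := by omega
  have hpos : 0 < orderOf (x * y) := orderOf_pos _
  rw [hm2]
  -- z = a^m commutes with x
  have hzx : x * (x * y) ^ m = (x * y) ^ m * x := by
    have hz : orderOf ((x * y) ^ m) = 2 := by
      rw [invol_iff]
      constructor
      · rw [← pow_mul, mul_comm, two_mul, ← hm, pow_orderOf_eq_one]
      · exact pow_ne_one_of_lt_orderOf (by omega) (by omega)
    have hzinv := invol_inv hz
    have : x * (x * y) ^ m * x⁻¹ = ((x * y) ^ m)⁻¹ := by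
      rw [← conj_pow, pair_conj hx hy, inv_pow]
    rw [hzinv] at this
    nth_rewrite 2 [← this]
    rw [invol_inv hx, mul_assoc, mul_assoc, invol_mul_self hx, mul_one]
  rw [hzx]
  have key : ∀ j : ℤ, (x * y) ^ (2 * j) * x = (x * y) ^ m * x → 4 ∣ orderOf (x * y) := by
    intro j hj
    have h0 : (x * y) ^ (2 * j) = (x * y) ^ (m : ℤ) := by
      rw [zpow_natCast]; exact mul_right_cancel hj
    have h1 : (x * y) ^ (2 * j - m) = 1 := by
      rw [zpow_sub, h0, mul_inv_cancel]
    rw [← orderOf_dvd_iff_zpow_eq_one, hm] at h1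
    obtain ⟨c, hc⟩ := h1
    push_cast at hc
    have : (2 : ℤ) ∣ m := ⟨j - c * m, by linarith⟩
    have h2 : 2 ∣ m := by exact_mod_cast this
    obtain ⟨e, he⟩ := h2
    rw [hm, he]
    exact ⟨e, by ring⟩
  constructor
  · rintro ⟨d, hd, hcon⟩
    rw [mem_closure_pair_iff hx hy] at hd
    obtain ⟨k, rfl | rfl⟩ := hd
    · rw [pair_conj_zpow hx hy] at hcon
      exact key k hcon
    · rw [pair_conj_mul_zpow hx hy, show -(2 * k) = 2 * (-k) by ring] at hcon
      exact key (-k) hcon
  · rintro ⟨e, he⟩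
    refine ⟨(x * y) ^ (e : ℤ), (mem_closure_pair_iff hx hy _).mpr ⟨e, Or.inl rfl⟩, ?_⟩
    rw [pair_conj_zpow hx hy]
    have : m = 2 * e := by omega
    rw [this]
    congr 1
    rw [← zpow_natCast]
    push_cast
    rfl

end Cfsg.Agent.S0211
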