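import Cfsg.Statements.S0233
import Mathlib

set_option autoImplicit false
set_option linter.style.haveILetI false

namespace Cfsg.Agent.S0233

section

variable {G : Type*} [Group G] [Fintype G] [DecidableEq G]

/-- the involutions -/
noncomputable def invs (G : Type*) [Group G] [Fintype G] [DecidableEq G] : Finset G :=
  Finset.univ.filter (fun t => orderOf t = 2)

theorem mem_invs {t : G} : t ∈ invs G ↔ orderOf t = 2 := by simp [invs]

theorem sq_of_mem_invs {t : G} (ht : t ∈ invs G) : t * t = 1 := by
  rw [mem_invs] at ht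
  rw [← pow_two, ← ht]
  exact pow_orderOf_eq_one t

theorem inv_of_mem_invs {t : G} (ht : t ∈ invs G) : t⁻¹ = t :=
  inv_eq_of_mul_eq_one_left (sq_of_mem_invs ht)

theorem ne_one_of_mem_invs {t : G} (ht : t ∈ invs G) : t ≠ 1 := by
  rw [mem_invs] at ht
  intro h
  rw [h, orderOf_one] at ht
  omega

/-- the number of ways of writing `g` as a product of two involutions -/
noncomputable def beta (g : G) : ℕ := ((invs G ×ˢ invs G).filter (fun p => p.1 * p.2 = g)).card

theorem sum_beta : ∑ g : G, beta g = (invs G).card ^ 2 := by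
  rw [pow_two, ← Finset.card_product]
  exact (Finset.card_eq_sum_card_fiberwise (f := fun p : G × G => p.1 * p.2)
    (fun _ _ => Finset.mem_univ _)).symm

theorem beta_one : beta (1 : G) = (invs G).card := by
  unfold beta
  have : (invs G ×ˢ invs G).filter (fun p => p.1 * p.2 = 1)
      = (invs G).image (fun s => (s, s)) := by
    ext p
    simp only [Finset.mem_filter, Finset.mem_product, Finset.mem_image]
    constructor
    · rintro ⟨⟨h1, h2⟩, h3⟩
      refine ⟨p.1, h1, ?_⟩
      have : p.2 = p.1 := by
        have := eq_inv_of_mul_eq_one_right h3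
        rw [this, inv_of_mem_invs h1]
      ext
      · rfl
      · exact this.symm
    · rintro ⟨s, hs, rfl⟩
      exact ⟨⟨hs, hs⟩, sq_of_mem_invs hs⟩
  rw [this, Finset.card_image_of_injective]
  intro a b h
  exact (Prod.mk.inj h).1

/-- the first factor inverts the product -/
theorem conj_eq_inv {s t g : G} (hs : s ∈ invs G) (ht : t ∈ invs G) (h : s * t = g) :
    s * g * s⁻¹ = g⁻¹ := by
  rw [← h, mul_inv_rev, inv_of_mem_invs hs, inv_of_mem_invs ht]
  calc s * (s * t) * s = (s * s) * t * s := by group
    _ = t * s := by rw [sq_of_mem_invs hs, one_mul]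

theorem beta_le_of_invs {g : G} (hg : g ∈ invs G) :
    beta g + 2 ≤ Nat.card (Subgroup.centralizer ({g} : Set G)) := by
  classical
  unfold beta
  rw [Nat.card_eq_fintype_card, Fintype.card_subtype]
  set C := Finset.univ.filter (fun x : G => x ∈ Subgroup.centralizer ({g} : Set G)) with hC
  have h1C : (1 : G) ∈ C := by
    simp only [hC, Finset.mem_filter, Finset.mem_univ, true_and]
    exact Subgroup.one_mem _
  have hgC : g ∈ C := by
    simp only [hC, Finset.mem_filter, Finset.mem_univ, true_and]
    rw [Subgroup.mem_centralizer_iff]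
    intro h hh
    rw [Set.mem_singleton_iff] at hh
    rw [hh]
  have hg1 : g ≠ 1 := ne_one_of_mem_invs hg
  have hcard : ((C.erase 1).erase g).card + 2 = C.card := by
    rw [Finset.card_erase_of_mem, Finset.card_erase_of_mem h1C]
    · have : 2 ≤ C.card := by
        have : ({1, g} : Finset G) ⊆ C := by
          intro x hx
          simp only [Finset.mem_insert, Finset.mem_singleton] at hx
          rcases hx with rfl | rfl
          · exact h1C
          · exact hgC
        have h2 := Finset.card_le_card this
        rw [Finset.card_pair (Ne.symm hg1)] at h2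
        exact h2
      omega
    · exact Finset.mem_erase.2 ⟨hg1, hgC⟩
  rw [← hcard]
  apply Nat.add_le_add_right
  apply Finset.card_le_card_of_injOn (fun p => p.1)
  · intro p hp
    simp only [Finset.coe_filter, Finset.mem_product, Set.mem_ofPred_eq] at hp
    obtain ⟨⟨hs, ht⟩, hst⟩ := hp
    have hinv := conj_eq_inv hs ht hst
    rw [inv_of_mem_invs hg] at hinv
    simp only [Finset.coe_erase, Set.mem_sdiff, Finset.mem_coe, Set.mem_singleton_iff]
    refine ⟨⟨?_, ne_one_of_mem_invs hs⟩, ?_⟩
    · simp only [hC, Finset.mem_filter, Finset.mem_univ, true_and]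
      rw [Subgroup.mem_centralizer_iff]
      intro h hh
      rw [Set.mem_singleton_iff] at hh
      rw [hh]
      calc g * p.1 = (p.1 * g * p.1⁻¹) * p.1 := by rw [hinv]
        _ = p.1 * g := by group
    · intro hsg
      have : p.2 = 1 := by
        rw [hsg] at hst
        exact mul_left_cancel (hst.trans (mul_one g).symm)
      exact ne_one_of_mem_invs ht this
  · intro p hp q hq hpq
    simp only [Finset.coe_filter, Finset.mem_product, Set.mem_ofPred_eq] at hp hq
    have h1 : p.1 = q.1 := hpq
    have h2 : p.2 = q.2 := by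
      have := hp.2.trans hq.2.symm
      rw [h1] at this
      exact mul_left_cancel this
    exact Prod.ext h1 h2

/-- the extended centralizer `C*(g)` -/
def extCent (g : G) : Subgroup G where
  carrier := {h | h * g * h⁻¹ = g ∨ h * g * h⁻¹ = g⁻¹}
  one_mem' := Or.inl (by simp)
  mul_mem' := by
    intro a b ha hb
    have e : a * b * g * (a * b)⁻¹ = a * (b * g * b⁻¹) * a⁻¹ := by group
    show a * b * g * (a * b)⁻¹ = g ∨ a * b * g * (a * b)⁻¹ = g⁻¹
    rw [e]
    rcases hb with hb | hb
    · rw [hb]; exact ha
    · rw [hb]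
      have e2 : a * g⁻¹ * a⁻¹ = (a * g * a⁻¹)⁻¹ := by group
      rw [e2]
      rcases ha with ha | ha
      · right; rw [ha]
      · left; rw [ha, inv_inv]
  inv_mem' := by
    intro a ha
    show a⁻¹ * g * a⁻¹⁻¹ = g ∨ a⁻¹ * g * a⁻¹⁻¹ = g⁻¹
    rw [inv_inv]
    rcases ha with ha | ha
    · left
      calc a⁻¹ * g * a = a⁻¹ * (a * g * a⁻¹) * a := by rw [ha]
        _ = g := by group
    · right
      have : (a⁻¹ * g * a)⁻¹ = g := by
        calc (a⁻¹ * g * a)⁻¹ = a⁻¹ * g⁻¹ * a := by group
          _ = a⁻¹ * (a * g * a⁻¹) * a := by rw [ha]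
          _ = g := by group
      exact inv_eq_iff_eq_inv.1 this

theorem mem_extCent {g h : G} : h ∈ extCent g ↔ h * g * h⁻¹ = g ∨ h * g * h⁻¹ = g⁻¹ := Iff.rfl

theorem mem_centralizer_singleton {g h : G} :
    h ∈ Subgroup.centralizer ({g} : Set G) ↔ h * g * h⁻¹ = g := by
  rw [Subgroup.mem_centralizer_iff]
  constructor
  · intro hh
    have := hh g (Set.mem_singleton g)
    rw [← this]; group
  · intro hh x hx
    rw [Set.mem_singleton_iff] at hx
    rw [hx]
    calc g * h = (h * g * h⁻¹) * h := by rw [hh]
      _ = h * g := by group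

theorem beta_le_of_not_invs {g : G} (hg2 : g * g ≠ 1) (hβ : 0 < beta g) :
    beta g ≤ Nat.card (Subgroup.centralizer ({g} : Set G)) ∧
      Nat.card (extCent g) = 2 * Nat.card (Subgroup.centralizer ({g} : Set G)) := by
  classical
  have hgne : g ≠ g⁻¹ := by
    intro h
    apply hg2
    calc g * g = g * g⁻¹ := by rw [← h]
      _ = 1 := mul_inv_cancel g
  set C := Finset.univ.filter (fun x : G => x ∈ Subgroup.centralizer ({g} : Set G)) with hC
  set V := Finset.univ.filter (fun x : G => x * g * x⁻¹ = g⁻¹) with hV
  set E := Finset.univ.filter (fun x : G => x ∈ extCent g) with hE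
  have hCcard : Nat.card (Subgroup.centralizer ({g} : Set G)) = C.card := by
    rw [Nat.card_eq_fintype_card, Fintype.card_subtype]
  have hEcard : Nat.card (extCent g) = E.card := by
    rw [Nat.card_eq_fintype_card, Fintype.card_subtype]
  -- an inverting involution
  obtain ⟨p, hp⟩ := Finset.card_pos.1 hβ
  simp only [Finset.mem_filter, Finset.mem_product] at hp
  obtain ⟨⟨hs, ht⟩, hst⟩ := hp
  have hsinv := conj_eq_inv hs ht hst
  set s := p.1 with hs_def
  have hVC : V.card = C.card := by
    apply Finset.card_bij' (fun v _ => s⁻¹ * v) (fun c _ => s * c)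
    · intro v hv
      simp only [hV, hC, Finset.mem_filter, Finset.mem_univ, true_and] at hv ⊢
      rw [mem_centralizer_singleton]
      calc s⁻¹ * v * g * (s⁻¹ * v)⁻¹ = s⁻¹ * (v * g * v⁻¹) * s := by group
        _ = s⁻¹ * g⁻¹ * s := by rw [hv]
        _ = s⁻¹ * (s * g * s⁻¹) * s := by rw [hsinv]
        _ = g := by group
    · intro c hc
      simp only [hV, hC, Finset.mem_filter, Finset.mem_univ, true_and] at hc ⊢
      rw [mem_centralizer_singleton] at hc
      calc s * c * g * (s * c)⁻¹ = s * (c * g * c⁻¹) * s⁻¹ := by group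
        _ = s * g * s⁻¹ := by rw [hc]
        _ = g⁻¹ := hsinv
    · intro v _
      simp
    · intro c _
      simp
  have hEunion : E = C ∪ V := by
    ext x
    simp only [hE, hC, hV, Finset.mem_filter, Finset.mem_univ, true_and, Finset.mem_union,
      mem_extCent, mem_centralizer_singleton]
  have hdisj : Disjoint C V := by
    rw [Finset.disjoint_left]
    intro x hxC hxV
    simp only [hC, hV, Finset.mem_filter, Finset.mem_univ, true_and,
      mem_centralizer_singleton] at hxC hxV
    exact hgne (hxC.symm.trans hxV)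
  constructor
  · rw [hCcard, ← hVC]
    unfold beta
    apply Finset.card_le_card_of_injOn (fun p => p.1)
    · intro q hq
      simp only [Finset.coe_filter, Finset.mem_product, Set.mem_ofPred_eq] at hq
      obtain ⟨⟨hs', ht'⟩, hst'⟩ := hq
      simp only [hV, Finset.coe_filter, Finset.mem_univ, true_and, Set.mem_ofPred_eq]
      exact conj_eq_inv hs' ht' hst'
    · intro q hq r hr hqr
      simp only [Finset.coe_filter, Finset.mem_product, Set.mem_ofPred_eq] at hq hr
      have h1 : q.1 = r.1 := hqr
      have h2 : q.2 = r.2 := by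
        have := hq.2.trans hr.2.symm
        rw [h1] at this
        exact mul_left_cancel this
      exact Prod.ext h1 h2
  · rw [hEcard, hCcard, hEunion, Finset.card_union_of_disjoint hdisj, hVC]
    ring

end

/-- Let G be a finite group of even order with exactly n involutions whose centre has odd order, and put a = |G|/n. Then G has a proper subgroup H with |G : H| = 2 or |G : H| < a(a+1)/2; over ℕ the latter reads 2·|G:H|·n² < |G|·(|G| + n). -/
theorem result {G : Type*} [Group G] [Finite G] (heven : Even (Nat.card G)) (hZ : Odd (Nat.card (Subgroup.center G))) : ∃ H : Subgroup G, H ≠ ⊤ ∧ (H.index = 2 ∨ 2 * H.index * (Nat.card {t : G // orderOf t = 2}) ^ 2 < Nat.card G * (Nat.card G + Nat.card {t : G // orderOf t = 2})) := by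
  classical
  haveI := Fintype.ofFinite G
  haveI : Fact (Nat.Prime 2) := ⟨Nat.prime_two⟩
  have hn : Nat.card {t : G // orderOf t = 2} = (invs G).card := by
    rw [Nat.card_eq_fintype_card, Fintype.card_subtype]
    rfl
  rw [hn]
  set n := (invs G).card with hn_def
  set N := Nat.card G with hN
  by_contra hcon
  push_neg at hcon
  have hnpos : 0 < n := by
    obtain ⟨t, ht⟩ := exists_prime_orderOf_dvd_card' 2 heven.two_dvd
    exact Finset.card_pos.2 ⟨t, mem_invs.2 ht⟩
  -- involutions
  have hE2 : ∀ g ∈ invs G, beta g * (N + n) + 2 * (N + n) ≤ 2 * n ^ 2 := by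
    intro g hg
    have h1 := beta_le_of_invs hg
    set C := Subgroup.centralizer ({g} : Set G) with hC
    have hCtop : C ≠ ⊤ := by
      intro htop
      have hgc : g ∈ Subgroup.center G := by
        rw [Subgroup.mem_center_iff]
        intro x
        have hx : x ∈ C := by rw [htop]; trivial
        rw [hC, Subgroup.mem_centralizer_iff] at hx
        exact (hx g (Set.mem_singleton g)).symm
      have hdvd : orderOf (⟨g, hgc⟩ : Subgroup.center G) ∣ Nat.card (Subgroup.center G) :=
        orderOf_dvd_natCard _
      rw [Subgroup.orderOf_mk, mem_invs.1 hg] at hdvd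
      exact (Nat.not_even_iff_odd.2 hZ) (even_iff_two_dvd.2 hdvd)
    obtain ⟨_, h2⟩ := hcon C hCtop
    have h3 : Nat.card C * C.index = N := Subgroup.card_mul_index C
    have hidx : 0 < C.index := Nat.pos_of_ne_zero Subgroup.index_ne_zero_of_finite
    have h4 : Nat.card C * (N + n) * C.index ≤ 2 * n ^ 2 * C.index := by
      calc Nat.card C * (N + n) * C.index = (Nat.card C * C.index) * (N + n) := by ring
        _ = N * (N + n) := by rw [h3]
        _ ≤ 2 * C.index * n ^ 2 := h2
        _ = 2 * n ^ 2 * C.index := by ring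
    have h5 := Nat.le_of_mul_le_mul_right h4 hidx
    calc beta g * (N + n) + 2 * (N + n) = (beta g + 2) * (N + n) := by ring
      _ ≤ Nat.card C * (N + n) := Nat.mul_le_mul_right _ h1
      _ ≤ 2 * n ^ 2 := h5
  -- other elements
  have hE3 : ∀ g : G, g ≠ 1 → g ∉ invs G → beta g * (N + n) ≤ n ^ 2 := by
    intro g hg1 hgI
    rcases Nat.eq_zero_or_pos (beta g) with h0 | hpos
    · rw [h0, zero_mul]; exact Nat.zero_le _
    have hg2 : g * g ≠ 1 := by
      intro h
      apply hgI
      rw [mem_invs]
      exact orderOf_eq_prime (by rw [pow_two]; exact h) hg1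
    obtain ⟨h1, h2⟩ := beta_le_of_not_invs hg2 hpos
    set C := Subgroup.centralizer ({g} : Set G) with hC
    set E := extCent g with hE
    have hCc := Subgroup.card_mul_index C
    have hEc := Subgroup.card_mul_index E
    have hidx : C.index = 2 * E.index := by
      have : Nat.card C * C.index = Nat.card C * (2 * E.index) := by
        rw [hCc, ← hEc, h2]; ring
      exact Nat.eq_of_mul_eq_mul_left Nat.card_pos this
    have hEtop : E ≠ ⊤ := by
      intro htop
      rw [htop, Subgroup.index_top] at hidx
      have hCtop : C ≠ ⊤ := by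
        intro h
        rw [h, Subgroup.index_top] at hidx
        omega
      exact (hcon C hCtop).1 (by omega)
    obtain ⟨_, h3⟩ := hcon E hEtop
    have hidxpos : 0 < C.index := Nat.pos_of_ne_zero Subgroup.index_ne_zero_of_finite
    have h4 : Nat.card C * (N + n) * C.index ≤ n ^ 2 * C.index := by
      calc Nat.card C * (N + n) * C.index = (Nat.card C * C.index) * (N + n) := by ring
        _ = N * (N + n) := by rw [hCc]
        _ ≤ 2 * E.index * n ^ 2 := h3
        _ = n ^ 2 * C.index := by rw [hidx]; ring
    have h5 := Nat.le_of_mul_le_mul_right h4 hidxpos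
    calc beta g * (N + n) ≤ Nat.card C * (N + n) := Nat.mul_le_mul_right _ h1
      _ ≤ n ^ 2 := h5
  -- summation
  have hS : ∑ g : G, beta g * (N + n) = n ^ 2 * (N + n) := by
    rw [← Finset.sum_mul, sum_beta]
  have h1I : (1 : G) ∉ invs G := fun h => ne_one_of_mem_invs h rfl
  set R := (Finset.univ.filter (fun g : G => g ≠ 1)).filter (fun g => g ∉ invs G) with hR
  have hfilterI : (Finset.univ.filter (fun g : G => g ≠ 1)).filter (fun g => g ∈ invs G)
      = invs G := by
    ext g
    simp only [Finset.mem_filter, Finset.mem_univ, true_and]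
    constructor
    · exact fun h => h.2
    · exact fun h => ⟨fun h1 => h1I (h1 ▸ h), h⟩
  have hsplit : ∑ g : G, beta g * (N + n)
      = beta (1 : G) * (N + n) + (∑ g ∈ invs G, beta g * (N + n) + ∑ g ∈ R, beta g * (N + n)) := by
    rw [← Finset.sum_filter_add_sum_filter_not Finset.univ (fun g : G => g = 1),
      Finset.filter_eq' Finset.univ (1 : G), if_pos (Finset.mem_univ _), Finset.sum_singleton,
      ← Finset.sum_filter_add_sum_filter_not (Finset.univ.filter (fun g : G => ¬ g = 1))
        (fun g : G => g ∈ invs G), hfilterI]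
  have hcardsplit : N = 1 + (n + R.card) := by
    have h1 := Finset.card_filter_add_card_filter_not (s := (Finset.univ : Finset G))
      (fun g : G => g = 1)
    have h2 := Finset.card_filter_add_card_filter_not
      (s := (Finset.univ.filter (fun g : G => ¬ g = 1))) (fun g : G => g ∈ invs G)
    rw [hfilterI] at h2
    rw [Finset.filter_eq' Finset.univ (1 : G), if_pos (Finset.mem_univ _),
      Finset.card_singleton, Finset.card_univ, ← Nat.card_eq_fintype_card] at h1
    rw [hN, ← h1, ← h2]
  have hsumI : ∑ g ∈ invs G, beta g * (N + n) + n * (2 * (N + n)) ≤ n * (2 * n ^ 2) := by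
    have := Finset.sum_le_sum hE2
    rw [Finset.sum_add_distrib, Finset.sum_const, Finset.sum_const, smul_eq_mul, smul_eq_mul]
      at this
    exact this
  have hsumR : ∑ g ∈ R, beta g * (N + n) ≤ R.card * n ^ 2 := by
    have : ∀ g ∈ R, beta g * (N + n) ≤ n ^ 2 := by
      intro g hg
      simp only [hR, Finset.mem_filter, Finset.mem_univ, true_and] at hg
      exact hE3 g hg.1 hg.2
    have h := Finset.sum_le_sum this
    rwa [Finset.sum_const, smul_eq_mul] at h
  rw [hsplit, beta_one] at hS
  set r := R.card with hr
  set A := ∑ g ∈ invs G, beta g * (N + n) with hA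
  set B := ∑ g ∈ R, beta g * (N + n) with hB
  rw [hcardsplit] at hS hsumI
  nlinarith [hS, hsumI, hsumR, hnpos, Nat.zero_le r, Nat.zero_le A, Nat.zero_le B,
    mul_pos hnpos hnpos]

end Cfsg.Agent.S0233

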