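import Cfsg.Statements.S0212
import Mathlib
import Cfsg.Agent.S0233
import Cfsg.Agent.Lib.Helper4.Simple
import Cfsg.Agent.Lib.Helper4.FrobDiv

namespace Cfsg.Agent.S0212

/-- The Brauer–Fowler bound: if G is a finite simple group and t an involution of G whose centralizer has order n, then |G| ≤ (2n^2)!. -/
theorem result {G : Type*} [Group G] [Finite G] [IsSimpleGroup G] (t : G) (ht : orderOf t = 2) : Nat.card G ≤ Nat.factorial (2 * (Nat.card (Subgroup.centralizer ({t} : Set G))) ^ 2) := by
  classical
  set C := Subgroup.centralizer ({t} : Set G) with hC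
  set n := Nat.card C with hn
  have heven : Even (Nat.card G) := by
    rw [even_iff_two_dvd, ← ht]; exact orderOf_dvd_natCard t
  have hn2 : 2 ≤ n := by
    have htC : t ∈ C := Subgroup.mem_centralizer_singleton_iff.mpr rfl
    have : orderOf (⟨t, htC⟩ : C) ∣ Nat.card C := orderOf_dvd_natCard _
    rw [Subgroup.orderOf_mk, ht] at this
    exact Nat.le_of_dvd Nat.card_pos this
  by_cases hgt : Nat.card G ≤ 2
  · refine le_trans hgt ?_
    have h1 : 2 ≤ 2 * n ^ 2 := by nlinarith
    calc 2 = Nat.factorial 2 := rfl
      _ ≤ Nat.factorial (2 * n ^ 2) := Nat.factorial_le h1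
  push Not at hgt
  -- the centre is trivial
  have hZ : Subgroup.center G = ⊥ := by
    rcases (Subgroup.center G).normal_of_characteristic.eq_bot_or_eq_top with h | h
    · exact h
    · exfalso
      letI : CommGroup G := { (inferInstance : Group G) with
        mul_comm := fun a b => by
          have : b ∈ Subgroup.center G := by rw [h]; trivial
          exact (Subgroup.mem_center_iff.mp this a) }
      have hp := IsSimpleGroup.prime_card (α := G)
      rcases hp.eq_one_or_self_of_dvd 2 heven.two_dvd with h | h <;> omega
  have hZodd : Odd (Nat.card (Subgroup.center G)) := by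
    rw [hZ, Subgroup.card_bot]; exact odd_one
  obtain ⟨H, hH1, hH2⟩ := Cfsg.Agent.S0233.result (G := G) heven hZodd
  have hfact := Cfsg.Agent.Lib.Helper4.Simple.two_mul_card_dvd_factorial_of_simple hgt H hH1
  set m := Nat.card {t : G // orderOf t = 2} with hm
  have hidx : C.index ≤ m := by
    rw [hC, Cfsg.Agent.Lib.Helper4.FrobDiv.index_centralizer_eq_ncard_carrier, hm,
      ← Nat.card_coe_set_eq]
    apply Nat.card_le_card_of_injective (fun y : (ConjClasses.mk t).carrier =>
      (⟨y.1, by
        have h1 := y.2
        rw [ConjClasses.mem_carrier_iff_mk_eq, ConjClasses.mk_eq_mk_iff_isConj] at h1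
        obtain ⟨c, hc⟩ := isConj_iff.mp h1
        rw [← ht]
        have := (MulAut.conj c).orderOf_eq y.1
        rw [MulAut.conj_apply, hc] at this
        exact this.symm⟩ : {t : G // orderOf t = 2}))
    intro y y' hyy
    apply Subtype.ext
    exact congrArg (fun w : {t : G // orderOf t = 2} => w.1) hyy
  have hg : Nat.card G ≤ n * m := by
    rw [← C.card_mul_index]
    exact Nat.mul_le_mul_left _ hidx
  have hle : Nat.card G ≤ Nat.factorial H.index :=
    le_trans (by omega) (Nat.le_of_dvd (Nat.factorial_pos _) hfact)
  refine le_trans hle (Nat.factorial_le ?_)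
  rcases hH2 with hH2 | hH2
  · rw [hH2]; nlinarith
  · have hmpos : 0 < m := by
      rcases Nat.eq_zero_or_pos m with h0 | h0
      · rw [h0, mul_zero] at hg
        have : 0 < Nat.card G := Nat.card_pos
        omega
      · exact h0
    have h1 : Nat.card G * (Nat.card G + m) ≤ (n * m) * (n * m + m) :=
      Nat.mul_le_mul hg (by omega)
    have h2 : (n * m) * (n * m + m) = (n * (n + 1)) * m ^ 2 := by ring
    have h3 : 2 * H.index * m ^ 2 < (n * (n + 1)) * m ^ 2 := by omega
    have h4 : 2 * H.index < n * (n + 1) := Nat.lt_of_mul_lt_mul_right h3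
    nlinarith

end Cfsg.Agent.S0212
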