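import Cfsg.Statements.S0213
import Mathlib
import Cfsg.Agent.Lib.Helper4.InflateEquiv

set_option autoImplicit false
set_option linter.style.haveILetI false

namespace Cfsg.Agent.S0213

open Cfsg.Agent.Lib.helper3.Central Cfsg.Agent.Lib.Helper4.InflateEquiv

section

variable {G : Type*} [Group G]

/-- two involutions whose product has odd order are conjugate -/
theorem isConj_of_odd {u v : G} (hu : u * u = 1) (hv : v * v = 1) (hodd : Odd (orderOf (u * v))) :
    IsConj u v := by
  obtain ⟨j, hj⟩ := hodd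
  set r := u * v with hr
  have hinv : u * r * u = r⁻¹ := by
    have h1 : r⁻¹ = v * u := by
      rw [hr, mul_inv_rev]
      have hu' : u⁻¹ = u := inv_eq_of_mul_eq_one_left hu
      have hv' : v⁻¹ = v := inv_eq_of_mul_eq_one_left hv
      rw [hu', hv']
    rw [h1, hr, ← mul_assoc, hu, one_mul]
  have hinvpow : ∀ k : ℕ, u * r ^ k * u = (r⁻¹) ^ k := by
    intro k
    induction k with
    | zero => simp [hu]
    | succ k ih =>
      rw [pow_succ, pow_succ, ← ih, ← hinv]
      calc u * (r ^ k * r) * u = u * r ^ k * (1 * r) * u := by rw [one_mul]; group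
        _ = u * r ^ k * (u * u * r) * u := by rw [hu]
        _ = u * r ^ k * u * (u * r * u) := by group
  rw [isConj_iff]
  refine ⟨r ^ j, ?_⟩
  -- r^j u r^{-j} = r^{2j} u = r^{-1} u = v
  have h1 : u * (r ^ j)⁻¹ = r ^ j * u := by
    have := hinvpow j
    have h2 : u * (r⁻¹) ^ j * u = r ^ j := by
      have h3 : u * (u * r ^ j * u) * u = r ^ j := by
        calc u * (u * r ^ j * u) * u = (u * u) * r ^ j * (u * u) := by group
          _ = r ^ j := by rw [hu, one_mul, mul_one]
      rw [this] at h3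
      exact h3
    rw [← inv_pow]
    calc u * r⁻¹ ^ j = u * r⁻¹ ^ j * (u * u) := by rw [hu, mul_one]
      _ = (u * r⁻¹ ^ j * u) * u := by group
      _ = r ^ j * u := by rw [h2]
  have h2 : r ^ (2 * j + 1) = 1 := by rw [← hj]; exact pow_orderOf_eq_one r
  calc r ^ j * u * (r ^ j)⁻¹ = r ^ j * (u * (r ^ j)⁻¹) := by group
    _ = r ^ j * (r ^ j * u) := by rw [h1]
    _ = r ^ (2 * j + 1) * r⁻¹ * u := by rw [pow_succ, two_mul, pow_add]; group
    _ = r⁻¹ * u := by rw [h2, one_mul]
    _ = v := by
      rw [hr, mul_inv_rev]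
      have hu' : u⁻¹ = u := inv_eq_of_mul_eq_one_left hu
      rw [hu', mul_assoc, hu, mul_one]
      exact inv_eq_of_mul_eq_one_left hv

/-- a cyclic group has at most one involution -/
theorem involution_unique [Finite G] (r z z' : G) (hz : z ∈ Subgroup.zpowers r)
    (hz' : z' ∈ Subgroup.zpowers r) (h2 : orderOf z = 2) (h2' : orderOf z' = 2) : z = z' := by
  classical
  haveI : Fintype (Subgroup.zpowers r) := Fintype.ofFinite _
  by_contra hne
  have hle := IsCyclic.card_pow_eq_one_le (α := Subgroup.zpowers r) (n := 2) (by norm_num)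
  have hz1 : z ≠ 1 := by
    intro h; rw [h, orderOf_one] at h2; omega
  have hz1' : z' ≠ 1 := by
    intro h; rw [h, orderOf_one] at h2'; omega
  have hsub : ({1, ⟨z, hz⟩, ⟨z', hz'⟩} : Finset (Subgroup.zpowers r))
      ⊆ Finset.univ.filter (fun a : Subgroup.zpowers r => a ^ 2 = 1) := by
    intro a ha
    simp only [Finset.mem_insert, Finset.mem_singleton] at ha
    simp only [Finset.mem_filter, Finset.mem_univ, true_and]
    rcases ha with rfl | rfl | rfl
    · simp
    · apply Subtype.ext
      rw [Subgroup.coe_pow, Subgroup.coe_one, ← h2]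
      exact pow_orderOf_eq_one z
    · apply Subtype.ext
      rw [Subgroup.coe_pow, Subgroup.coe_one, ← h2']
      exact pow_orderOf_eq_one z'
  have hcard : ({1, ⟨z, hz⟩, ⟨z', hz'⟩} : Finset (Subgroup.zpowers r)).card = 3 := by
    rw [Finset.card_insert_of_notMem, Finset.card_insert_of_notMem, Finset.card_singleton]
    · simp only [Finset.mem_singleton]
      intro h
      exact hne (congrArg Subtype.val h)
    · simp only [Finset.mem_insert, Finset.mem_singleton, not_or]
      constructor
      · intro h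
        exact hz1 (congrArg Subtype.val h).symm
      · intro h
        exact hz1' (congrArg Subtype.val h).symm
  have := Finset.card_le_card hsub
  omega

theorem conj_mem_zpowers {a b : G} (g : G) (h : a ∈ Subgroup.zpowers b) :
    g * a * g⁻¹ ∈ Subgroup.zpowers (g * b * g⁻¹) := by
  obtain ⟨k, rfl⟩ := h
  refine ⟨k, ?_⟩
  simp only
  rw [conj_zpow]

end

/-- Thompson Order Formula, two-class case: if every involution of the finite group G is conjugate to exactly one of the non-conjugate involutions x₁, x₂, and nᵢ is the number of pairs (u, v) with u conjugate to x₁, v conjugate to x₂ and xᵢ in the cyclic group generated by uv, then |G| = |C(x₂)| n₁ + |C(x₁)| n₂. -/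
theorem result {G : Type*} [Group G] [Finite G] (x₁ x₂ : G) (h₁ : orderOf x₁ = 2) (h₂ : orderOf x₂ = 2) (hnc : ¬ IsConj x₁ x₂) (hall : ∀ t : G, orderOf t = 2 → IsConj x₁ t ∨ IsConj x₂ t) : Nat.card G = Nat.card (Subgroup.centralizer ({x₂} : Set G)) * Nat.card {p : G × G // IsConj x₁ p.1 ∧ IsConj x₂ p.2 ∧ x₁ ∈ Subgroup.zpowers (p.1 * p.2)} + Nat.card (Subgroup.centralizer ({x₁} : Set G)) * Nat.card {p : G × G // IsConj x₁ p.1 ∧ IsConj x₂ p.2 ∧ x₂ ∈ Subgroup.zpowers (p.1 * p.2)} := by
  classical
  haveI := Fintype.ofFinite G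
  -- orders under conjugation
  have hord : ∀ {a b : G}, IsConj a b → orderOf b = orderOf a := by
    intro a b hab
    obtain ⟨c, hc⟩ := isConj_iff.1 hab
    rw [← hc]
    exact (SemiconjBy.orderOf_eq c (show SemiconjBy c a (c * a * c⁻¹) by simp [SemiconjBy])).symm
  have hsq : ∀ {a : G}, orderOf a = 2 → a * a = 1 := by
    intro a ha
    rw [← pow_two, ← ha]
    exact pow_orderOf_eq_one a
  set Tf : Finset (G × G) := Finset.univ.filter (fun p => IsConj x₁ p.1 ∧ IsConj x₂ p.2) with hTf
  have hTcard : Tf.card = (cls x₁).card * (cls x₂).card := by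
    rw [← Finset.card_product]
    congr 1
    ext p
    simp only [hTf, Finset.mem_filter, Finset.mem_univ, true_and, Finset.mem_product, mem_cls]
  -- the pointwise count
  have hpoint : ∀ p ∈ Tf, ((cls x₁).filter (fun z => z ∈ Subgroup.zpowers (p.1 * p.2))).card
      + ((cls x₂).filter (fun z => z ∈ Subgroup.zpowers (p.1 * p.2))).card = 1 := by
    intro p hp
    simp only [hTf, Finset.mem_filter, Finset.mem_univ, true_and] at hp
    obtain ⟨hp1, hp2⟩ := hp
    have hu : p.1 * p.1 = 1 := hsq ((hord hp1).trans h₁)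
    have hv : p.2 * p.2 = 1 := hsq ((hord hp2).trans h₂)
    set r := p.1 * p.2 with hr
    have heven : Even (orderOf r) := by
      rw [← Nat.not_odd_iff_even]
      intro hodd
      exact hnc ((hp1.trans (isConj_of_odd hu hv hodd)).trans hp2.symm)
    obtain ⟨m, hm⟩ := heven
    have hmpos : 0 < m := by
      have := orderOf_pos r
      omega
    set z₀ := r ^ m with hz₀
    have hz₀ord : orderOf z₀ = 2 := by
      rw [hz₀, orderOf_pow' r hmpos.ne', hm, ← two_mul, Nat.gcd_eq_right (Dvd.intro_left 2 rfl),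
        Nat.mul_div_cancel _ hmpos]
    have hz₀mem : z₀ ∈ Subgroup.zpowers r := Subgroup.pow_mem _ (Subgroup.mem_zpowers r) m
    have hdisj : Disjoint ((cls x₁).filter (fun z => z ∈ Subgroup.zpowers r))
        ((cls x₂).filter (fun z => z ∈ Subgroup.zpowers r)) := by
      rw [Finset.disjoint_left]
      intro z hz1 hz2
      simp only [Finset.mem_filter, mem_cls] at hz1 hz2
      exact hnc (hz1.1.trans hz2.1.symm)
    rw [← Finset.card_union_of_disjoint hdisj]
    have hunion : (cls x₁).filter (fun z => z ∈ Subgroup.zpowers r)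
        ∪ (cls x₂).filter (fun z => z ∈ Subgroup.zpowers r) = {z₀} := by
      ext z
      simp only [Finset.mem_union, Finset.mem_filter, mem_cls, Finset.mem_singleton]
      constructor
      · rintro (⟨hc, hz⟩ | ⟨hc, hz⟩)
        · exact involution_unique r z z₀ hz hz₀mem ((hord hc).trans h₁) hz₀ord
        · exact involution_unique r z z₀ hz hz₀mem ((hord hc).trans h₂) hz₀ord
      · rintro rfl
        rcases hall z₀ hz₀ord with hc | hc
        · left; exact ⟨hc, hz₀mem⟩
        · right; exact ⟨hc, hz₀mem⟩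
    rw [hunion, Finset.card_singleton]
  -- double counting
  have hcount : ∀ (x : G), (∑ p ∈ Tf, ((cls x).filter
      (fun z => z ∈ Subgroup.zpowers (p.1 * p.2))).card)
      = (cls x).card * (Tf.filter (fun p => x ∈ Subgroup.zpowers (p.1 * p.2))).card := by
    intro x
    simp_rw [Finset.card_filter]
    rw [Finset.sum_comm]
    rw [← smul_eq_mul, ← Finset.sum_const]
    apply Finset.sum_congr rfl
    intro z hz
    rw [mem_cls] at hz
    obtain ⟨g, hg⟩ := isConj_iff.1 hz
    rw [← Finset.card_filter, ← Finset.card_filter]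
    apply Finset.card_bij' (fun p _ => (g⁻¹ * p.1 * g, g⁻¹ * p.2 * g))
      (fun p _ => (g * p.1 * g⁻¹, g * p.2 * g⁻¹))
    · intro p hp
      simp only [hTf, Finset.mem_filter, Finset.mem_univ, true_and] at hp ⊢
      obtain ⟨⟨hp1, hp2⟩, hpz⟩ := hp
      refine ⟨⟨hp1.trans (isConj_iff.2 ⟨g⁻¹, by rw [inv_inv]⟩),
        hp2.trans (isConj_iff.2 ⟨g⁻¹, by rw [inv_inv]⟩)⟩, ?_⟩
      have := conj_mem_zpowers g⁻¹ hpz
      rw [inv_inv, ← hg] at this
      have e1 : g⁻¹ * (g * x * g⁻¹) * g = x := by group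
      have e2 : g⁻¹ * (p.1 * p.2) * g = g⁻¹ * p.1 * g * (g⁻¹ * p.2 * g) := by group
      rwa [e1, e2] at this
    · intro p hp
      simp only [hTf, Finset.mem_filter, Finset.mem_univ, true_and] at hp ⊢
      obtain ⟨⟨hp1, hp2⟩, hpz⟩ := hp
      refine ⟨⟨hp1.trans (isConj_iff.2 ⟨g, rfl⟩), hp2.trans (isConj_iff.2 ⟨g, rfl⟩)⟩, ?_⟩
      have := conj_mem_zpowers g hpz
      rw [hg] at this
      have e2 : g * (p.1 * p.2) * g⁻¹ = g * p.1 * g⁻¹ * (g * p.2 * g⁻¹) := by group
      rwa [e2] at this
    · intro p _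
      ext <;> simp only <;> group
    · intro p _
      ext <;> simp only <;> group
  have hmain : (cls x₁).card * (cls x₂).card
      = (cls x₁).card * (Tf.filter (fun p => x₁ ∈ Subgroup.zpowers (p.1 * p.2))).card
        + (cls x₂).card * (Tf.filter (fun p => x₂ ∈ Subgroup.zpowers (p.1 * p.2))).card := by
    rw [← hTcard, ← hcount x₁, ← hcount x₂, ← Finset.sum_add_distrib,
      Finset.sum_congr rfl hpoint]
    simp
  -- translate to the statement
  have hn : ∀ x : G, Nat.card {p : G × G // IsConj x₁ p.1 ∧ IsConj x₂ p.2 ∧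
      x ∈ Subgroup.zpowers (p.1 * p.2)}
      = (Tf.filter (fun p => x ∈ Subgroup.zpowers (p.1 * p.2))).card := by
    intro x
    rw [Nat.card_eq_fintype_card, Fintype.card_subtype, hTf, Finset.filter_filter]
    congr 1
    ext p
    simp only [Finset.mem_filter, Finset.mem_univ, true_and, and_assoc]
  rw [hn x₁, hn x₂]
  set n₁ := (Tf.filter (fun p => x₁ ∈ Subgroup.zpowers (p.1 * p.2))).card
  set n₂ := (Tf.filter (fun p => x₂ ∈ Subgroup.zpowers (p.1 * p.2))).card
  have hk1 := card_cls_mul_card_centralizer x₁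
  have hk2 := card_cls_mul_card_centralizer x₂
  set k₁ := (cls x₁).card
  set k₂ := (cls x₂).card
  set c₁ := Nat.card (Subgroup.centralizer ({x₁} : Set G))
  set c₂ := Nat.card (Subgroup.centralizer ({x₂} : Set G))
  have hgpos : 0 < Nat.card G := Nat.card_pos
  apply Nat.eq_of_mul_eq_mul_left hgpos
  calc Nat.card G * Nat.card G = (k₁ * c₁) * (k₂ * c₂) := by rw [hk1, hk2]
    _ = (k₁ * k₂) * (c₁ * c₂) := by ring
    _ = (k₁ * n₁ + k₂ * n₂) * (c₁ * c₂) := by rw [hmain]
    _ = (k₁ * c₁) * (c₂ * n₁) + (k₂ * c₂) * (c₁ * n₂) := by ring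
    _ = Nat.card G * (c₂ * n₁ + c₁ * n₂) := by rw [hk1, hk2]; ring

end Cfsg.Agent.S0213
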