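import Cfsg.Statements.S0216
import Mathlib
import Cfsg.Agent.H1.Isolated
import Cfsg.Agent.S0210

set_option autoImplicit false
open Cfsg

namespace Cfsg.Agent.S0216

open Cfsg.Agent.H1

/-- For an involution u in a Sylow 2-subgroup P of a finite group G, the following are equivalent: no G-conjugate of u other than u lies in P; every commutator of u with an element of G has odd order. -/
theorem result {G : Type*} [Group G] [Finite G] (P : Sylow 2 G) (u : G) (hu : orderOf u = 2) (huP : u ∈ P) : (∀ g : G, g * u * g⁻¹ ∈ P → g * u * g⁻¹ = u) ↔ (∀ g : G, Odd (orderOf (u * g * u⁻¹ * g⁻¹))) := by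
  have : Fact (Nat.Prime 2) := ⟨Nat.prime_two⟩
  constructor
  · intro hiso g
    set v := g * u * g⁻¹ with hv
    have hvo : orderOf v = 2 := ((MulAut.conj g).orderOf_eq u).trans hu
    have hcomm : u * g * u⁻¹ * g⁻¹ = u * v := by
      rw [hv, invol_inv hu]; group
    rw [hcomm]
    by_contra hodd
    rw [Nat.not_odd_iff_even] at hodd
    -- work inside D = closure {u, v}
    set D := Subgroup.closure ({u, v} : Set G) with hD
    have huD : u ∈ D := Subgroup.subset_closure (by simp)
    have hvD : v ∈ D := Subgroup.subset_closure (by simp)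
    obtain ⟨d, Q, hQ, haQ, hbQ⟩ := exists_conj_mem_pgroup (K := D) 2 ⟨u, huD⟩ ⟨v, hvD⟩
      (isPGroup_zpowers_of_invol (by rw [Subgroup.orderOf_mk]; exact hu))
      (isPGroup_zpowers_of_invol (by rw [Subgroup.orderOf_mk]; exact hvo))
    -- image of Q in G
    have hQ' : IsPGroup 2 (Q.map D.subtype) := hQ.map _
    have h1 : u ∈ Q.map D.subtype := ⟨_, haQ, rfl⟩
    have h2 : ((d : G) * g) * u * ((d : G) * g)⁻¹ ∈ Q.map D.subtype := by
      refine ⟨_, hbQ, ?_⟩
      simp only [Subgroup.coe_subtype, Subgroup.coe_mul, Subgroup.coe_inv, hv]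
      group
    have h3 := isolated_unique_in_two_group P u huP hiso _ hQ' h1 _ h2
    -- contradiction with S0210-type lemma: d * v * d⁻¹ = u
    have h4 : (d : G) * v * (d : G)⁻¹ = u := by
      rw [← h3, hv]; group
    have hvu : v * u = (u * v)⁻¹ := by
      rw [mul_inv_rev, invol_inv hu, invol_inv hvo]
    have heven' : Even (orderOf (v * u)) := by rw [hvu, orderOf_inv]; exact hodd
    have hdD : (d : G) ∈ Subgroup.closure ({v, u} : Set G) := by
      rw [Set.pair_comm]; exact d.2
    exact Cfsg.Agent.S0210.result v u hvo hu heven' d hdD h4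
  · intro hodd g hg
    have hvo : orderOf (g * u * g⁻¹) = 2 := ((MulAut.conj g).orderOf_eq u).trans hu
    have h1 := hodd g
    have hcomm : u * g * u⁻¹ * g⁻¹ = u * (g * u * g⁻¹) := by
      rw [invol_inv hu]; group
    rw [hcomm] at h1
    have h2 : u * (g * u * g⁻¹) ∈ (P : Subgroup G) := Subgroup.mul_mem _ huP hg
    obtain ⟨k, hk⟩ := (IsPGroup.iff_orderOf.mp P.isPGroup') ⟨_, h2⟩
    rw [Subgroup.orderOf_mk] at hk
    rw [hk] at h1
    have h3 : k = 0 := by
      by_contra hk0
      exact (Nat.not_even_iff_odd.mpr h1) ((Nat.even_pow' hk0).mpr even_two)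
    rw [h3, pow_zero, orderOf_eq_one_iff] at hk
    have := eq_inv_of_mul_eq_one_right hk
    rw [this, invol_inv hu]

end Cfsg.Agent.S0216
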