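import Cfsg.Statements.S0218
import Mathlib
import Cfsg.Agent.H1.Invol

set_option autoImplicit false
open Cfsg

namespace Cfsg.Agent.S0218

open Cfsg.Agent.H1

/-- The generalized quaternion group of order 2^(n+3) contains exactly one element of order 2. -/
theorem result (n : ℕ) : Nat.card {x : QuaternionGroup (2 ^ (n + 1)) // orderOf x = 2} = 1 := by
  set m := 2 ^ (n + 1) with hm
  have hmpos : 0 < m := by positivity
  have : NeZero m := ⟨hmpos.ne'⟩
  have hm0 : ((m : ℕ) : ZMod (2 * m)) ≠ 0 := by
    rw [Ne, ZMod.natCast_eq_zero_iff]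
    intro h
    have := Nat.le_of_dvd hmpos h
    omega
  have hmm : ((m : ℕ) : ZMod (2 * m)) + (m : ZMod (2 * m)) = 0 := by
    rw [← two_mul]
    have : ((2 * m : ℕ) : ZMod (2 * m)) = 0 := ZMod.natCast_self _
    push_cast at this
    exact this
  have h1 : orderOf (QuaternionGroup.a (m : ZMod (2 * m))) = 2 := by
    rw [invol_iff]
    constructor
    · rw [sq, QuaternionGroup.a_mul_a, hmm, QuaternionGroup.a_zero]
    · rw [QuaternionGroup.one_def]
      intro h
      exact hm0 (QuaternionGroup.a.inj h)
  have h2 : ∀ x : QuaternionGroup m, orderOf x = 2 → x = QuaternionGroup.a (m : ZMod (2 * m)) := by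
    rintro (i | i) hx
    · rw [invol_iff, sq, QuaternionGroup.a_mul_a, QuaternionGroup.one_def] at hx
      obtain ⟨hx1, hx2⟩ := hx
      have hi0 : i ≠ 0 := fun h => hx2 (by rw [h])
      have hii : i + i = 0 := QuaternionGroup.a.inj hx1
      congr 1
      have hival : ((i.val : ℕ) : ZMod (2 * m)) = i := ZMod.natCast_zmod_val i
      have hlt : i.val < 2 * m := ZMod.val_lt i
      have : ((i.val + i.val : ℕ) : ZMod (2 * m)) = 0 := by
        push_cast; rw [hival]; exact hii
      rw [ZMod.natCast_eq_zero_iff] at this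
      have hdvd : m ∣ i.val := by
        have h2 : 2 * m ∣ 2 * i.val := by rwa [two_mul i.val]
        exact Nat.dvd_of_mul_dvd_mul_left (by norm_num : 0 < 2) h2
      obtain ⟨c, hc⟩ := hdvd
      have hc2 : c < 2 := by
        by_contra hcc
        push Not at hcc
        have : m * 2 ≤ m * c := Nat.mul_le_mul_left m hcc
        omega
      interval_cases c
      · exfalso
        apply hi0
        rw [← hival, hc]; simp
      · rw [← hival, hc]; simp
    · exfalso
      rw [QuaternionGroup.orderOf_xa] at hx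
      omega
  rw [Nat.card_eq_one_iff_unique]
  refine ⟨⟨?_⟩, ⟨⟨_, h1⟩⟩⟩
  rintro ⟨x, hx⟩ ⟨y, hy⟩
  rw [Subtype.mk.injEq, h2 x hx, h2 y hy]

end Cfsg.Agent.S0218
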