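import Cfsg.Statements.S0223
import Mathlib
import Cfsg.Prelude.Def_Involutions
import Cfsg.Agent.H1.Invol

set_option autoImplicit false
open Cfsg

namespace Cfsg.Agent.S0223

open Cfsg.Agent.H1

/-- Let H be a proper subgroup of even order of the finite group G. Then H is strongly embedded if and only if (i) C_G(t) ≤ H for every involution t of H and (ii) H controls fusion of its involutions: involutions of H conjugate in G are conjugate in H. -/
theorem result {G : Type*} [Group G] [Finite G] (H : Subgroup G) (hH : H ≠ ⊤) (heven : Even (Nat.card H)) : Cfsg.IsStronglyEmbedded H ↔ ((∀ t ∈ H, orderOf t = 2 → Subgroup.centralizer ({t} : Set G) ≤ H) ∧ (∀ t ∈ H, ∀ s ∈ H, orderOf t = 2 → orderOf s = 2 → IsConj t s → ∃ h ∈ H, h * t * h⁻¹ = s)) := by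
  -- an involution in a subgroup forces even order
  have hodd : ∀ (K : Subgroup G) (t : G), t ∈ K → orderOf t = 2 → ¬ Odd (Nat.card K) := by
    intro K t htK ht hK
    have h1 : orderOf (⟨t, htK⟩ : K) ∣ Nat.card K := orderOf_dvd_natCard _
    rw [Subgroup.orderOf_mk, ht] at h1
    exact (Nat.not_even_iff_odd.mpr hK) (even_iff_two_dvd.mpr h1)
  constructor
  · rintro ⟨-, -, hse⟩
    constructor
    · intro t htH ht c hc
      by_contra hcH
      apply hodd _ t _ ht (hse c hcH)
      refine ⟨htH, t, htH, ?_⟩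
      rw [Subgroup.mem_centralizer_iff] at hc
      have := hc t rfl
      simp only [MulEquiv.coe_toMonoidHom, MulAut.conj_apply]
      rw [← this, mul_assoc, mul_inv_cancel, mul_one]
    · intro t htH s hsH ht hs hts
      rw [isConj_iff] at hts
      obtain ⟨g, hg⟩ := hts
      by_cases hgH : g ∈ H
      · exact ⟨g, hgH, hg⟩
      · exfalso
        apply hodd _ s _ hs (hse g hgH)
        exact ⟨hsH, t, htH, by simpa using hg⟩
  · rintro ⟨h1, h2⟩
    refine ⟨hH, heven, ?_⟩
    intro g hgH
    by_contra hno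
    rw [Nat.not_odd_iff_even, even_iff_two_dvd] at hno
    have : Fact (Nat.Prime 2) := ⟨Nat.prime_two⟩
    obtain ⟨⟨s, hs⟩, hs2⟩ := exists_prime_orderOf_dvd_card' 2 hno
    rw [Subgroup.orderOf_mk] at hs2
    obtain ⟨hsH, t, htH, hts⟩ := hs
    simp only [MulEquiv.coe_toMonoidHom, MulAut.conj_apply] at hts
    have ht2 : orderOf t = 2 := by
      rw [← hs2, ← hts]
      exact ((MulAut.conj g).orderOf_eq t).symm
    obtain ⟨h, hhH, hh⟩ := h2 t htH s hsH ht2 hs2 (isConj_iff.mpr ⟨g, hts⟩)
    have : h⁻¹ * g ∈ Subgroup.centralizer ({t} : Set G) := by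
      rw [Subgroup.mem_centralizer_iff]
      intro y hy
      rw [Set.mem_singleton_iff] at hy
      subst hy
      have e1 : g * y = s * g := by rw [← hts]; group
      have e2 : h * y = s * h := by rw [← hh]; group
      have e3 : h⁻¹ * s = y * h⁻¹ := by
        rw [inv_mul_eq_iff_eq_mul, ← mul_assoc, e2, mul_assoc, mul_inv_cancel, mul_one]
      calc y * (h⁻¹ * g) = (y * h⁻¹) * g := by rw [mul_assoc]
        _ = (h⁻¹ * s) * g := by rw [e3]
        _ = h⁻¹ * (g * y) := by rw [mul_assoc, e1]
        _ = h⁻¹ * g * y := by rw [mul_assoc]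
    have := h1 t htH ht2 this
    apply hgH
    have := H.mul_mem hhH this
    rwa [← mul_assoc, mul_inv_cancel, one_mul] at this

end Cfsg.Agent.S0223
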