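import Cfsg.Statements.S0224
import Mathlib
import Cfsg.Prelude.Def_Involutions
import Cfsg.Agent.H1.Invol

set_option autoImplicit false
open Cfsg

namespace Cfsg.Agent.S0224

open Cfsg.Agent.H1

/-- Let H be a proper subgroup of even order of the finite group G. Then H is strongly embedded if and only if each involution of H fixes exactly one point (namely the coset H) in the action of G on the cosets of H. -/
theorem result {G : Type*} [Group G] [Finite G] (H : Subgroup G) (hH : H ≠ ⊤) (heven : Even (Nat.card H)) : Cfsg.IsStronglyEmbedded H ↔ ∀ t ∈ H, orderOf t = 2 → Nat.card {c : G ⧸ H // t • c = c} = 1 := by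
  have hodd : ∀ (K : Subgroup G) (t : G), t ∈ K → orderOf t = 2 → ¬ Odd (Nat.card K) := by
    intro K t htK ht hK
    have h1 : orderOf (⟨t, htK⟩ : K) ∣ Nat.card K := orderOf_dvd_natCard _
    rw [Subgroup.orderOf_mk, ht] at h1
    exact (Nat.not_even_iff_odd.mpr hK) (even_iff_two_dvd.mpr h1)
  -- fixed point criterion
  have hfix : ∀ t g : G, t • (g : G ⧸ H) = (g : G ⧸ H) ↔ g⁻¹ * t * g ∈ H := by
    intro t g
    rw [MulAction.Quotient.smul_mk, QuotientGroup.eq, smul_eq_mul, mul_inv_rev]
    rw [← H.inv_mem_iff (x := g⁻¹ * t * g)]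
    simp [mul_assoc]
  have hconjmem : ∀ t g : G, g⁻¹ * t * g ∈ H → t ∈ H.map (MulAut.conj g).toMonoidHom := by
    intro t g h
    refine ⟨g⁻¹ * t * g, h, ?_⟩
    simp only [MulEquiv.coe_toMonoidHom, MulAut.conj_apply]
    group
  constructor
  · rintro ⟨-, -, hse⟩ t htH ht
    rw [Nat.card_eq_one_iff_unique]
    constructor
    · constructor
      rintro ⟨c, hc⟩ ⟨d, hd⟩
      rw [Subtype.mk.injEq]
      have key : ∀ c : G ⧸ H, t • c = c → c = ((1 : G) : G ⧸ H) := by
        intro c hc
        induction c using QuotientGroup.induction_on with | _ g =>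
        rw [hfix] at hc
        by_contra hne
        have hgH : g ∉ H := by
          intro hg
          apply hne
          rw [QuotientGroup.eq, mul_one]; exact H.inv_mem hg
        exact hodd (H ⊓ H.map (MulAut.conj g).toMonoidHom) t ⟨htH, hconjmem t g hc⟩ ht (hse g hgH)
      rw [key c hc, key d hd]
    · exact ⟨⟨((1 : G) : G ⧸ H), by rw [hfix]; simpa using htH⟩⟩
  · intro h
    refine ⟨hH, heven, ?_⟩
    intro g hgH
    by_contra hno
    rw [Nat.not_odd_iff_even, even_iff_two_dvd] at hno
    have : Fact (Nat.Prime 2) := ⟨Nat.prime_two⟩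
    obtain ⟨⟨s, hs⟩, hs2⟩ := exists_prime_orderOf_dvd_card' 2 hno
    rw [Subgroup.orderOf_mk] at hs2
    obtain ⟨hsH, t, htH, hts⟩ := hs
    simp only [MulEquiv.coe_toMonoidHom, MulAut.conj_apply] at hts
    have h1 := h s hsH hs2
    rw [Nat.card_eq_one_iff_unique] at h1
    obtain ⟨hsub, -⟩ := h1
    have e1 : s • ((1 : G) : G ⧸ H) = ((1 : G) : G ⧸ H) := by rw [hfix]; simpa using hsH
    have e2 : s • ((g : G) : G ⧸ H) = ((g : G) : G ⧸ H) := by
      rw [hfix, ← hts]
      have : g⁻¹ * (g * t * g⁻¹) * g = t := by group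
      rw [this]; exact htH
    have := @Subsingleton.elim _ hsub ⟨_, e1⟩ ⟨_, e2⟩
    rw [Subtype.mk.injEq, QuotientGroup.eq, inv_one, one_mul] at this
    exact hgH this

end Cfsg.Agent.S0224
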