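import Cfsg.Statements.S0226
import Mathlib

set_option autoImplicit false
open Cfsg

namespace Cfsg.Agent.S0226

/-- A finite group of even order has an odd number of involutions. -/
theorem result {G : Type*} [Group G] [Finite G] (heven : Even (Nat.card G)) : Odd (Nat.card {t : G // orderOf t = 2}) := by
  classical
  have := Fintype.ofFinite G
  let f : Function.End G := fun g => g⁻¹
  have hf : f ^ 2 ^ 1 = 1 := by
    have : f * f = 1 := by
      funext g
      show (g⁻¹)⁻¹ = g
      simp
    simpa [pow_succ] using this
  have h := Equiv.Perm.card_fixedPoints_modEq (α := G) (p := 2) (n := 1) hf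
  have h2 : Fintype.card (Function.fixedPoints f) = Fintype.card {t : G // orderOf t = 2} + 1 := by
    rw [Fintype.card_subtype, Fintype.card_subtype]
    have : (Finset.univ.filter (fun x : G => x ∈ Function.fixedPoints f)) = insert 1 (Finset.univ.filter (fun g : G => orderOf g = 2)) := by
      ext g
      simp only [Finset.mem_filter, Finset.mem_univ, true_and, Finset.mem_insert, Function.mem_fixedPoints, Function.IsFixedPt, f]
      rw [orderOf_eq_prime_iff, inv_eq_iff_mul_eq_one, ← sq]
      by_cases hg : g = 1
      · simp [hg]
      · simp [hg]
    rw [this, Finset.card_insert_of_notMem]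
    simp
  rw [Nat.card_eq_fintype_card] at heven ⊢
  have h3 : Fintype.card G ≡ Fintype.card {t : G // orderOf t = 2} + 1 [MOD 2] := by
    rw [← h2]; exact h
  rw [Nat.even_iff] at heven
  rw [Nat.odd_iff]
  unfold Nat.ModEq at h3
  omega

end Cfsg.Agent.S0226
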