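import Cfsg.Statements.S0229
import Mathlib
import Cfsg.Agent.H1.Isolated
import Cfsg.Agent.S0208
import Cfsg.Agent.S0209
import Cfsg.Agent.S0211

set_option autoImplicit false
open Cfsg

namespace Cfsg.Agent.S0229

open Cfsg.Agent.H1

/-- Let t be an involution of a Sylow 2-subgroup S of a finite group G, conjugate in G to no other element of S, and let s be an involution of G not conjugate to t. Then the order of st is twice an odd number. -/
theorem result {G : Type*} [Group G] [Finite G] (S : Sylow 2 G) (t : G) (ht : orderOf t = 2) (htS : t ∈ S) (hiso : ∀ g : G, g * t * g⁻¹ ∈ S → g * t * g⁻¹ = t) (s : G) (hs : orderOf s = 2) (hns : ¬ IsConj s t) : orderOf (s * t) % 4 = 2 := by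
  have hst : s * t = (t * s)⁻¹ := by rw [mul_inv_rev, invol_inv hs, invol_inv ht]
  have hord : orderOf (s * t) = orderOf (t * s) := by rw [hst, orderOf_inv]
  rw [hord]
  -- even
  have heven : Even (orderOf (t * s)) := by
    by_contra hodd
    rw [Nat.not_even_iff_odd, ← hord] at hodd
    obtain ⟨d, -, hd⟩ := Cfsg.Agent.S0208.result s t hs ht hodd
    exact hns (isConj_iff.mpr ⟨d, hd⟩)
  -- not divisible by 4
  have h4 : ¬ 4 ∣ orderOf (t * s) := by
    intro h4
    obtain ⟨d, -, hd⟩ := (Cfsg.Agent.S0211.result t s ht hs heven).mpr h4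
    obtain ⟨hz, hzt, -⟩ := Cfsg.Agent.S0209.result t s ht hs heven
    set z := (t * s) ^ (orderOf (t * s) / 2) with hzdef
    have hQ := isPGroup_closure_commuting_invol ht hz hzt.symm
    have h1 : t ∈ Subgroup.closure ({t, z} : Set G) := Subgroup.subset_closure (by simp)
    have h2 : z ∈ Subgroup.closure ({t, z} : Set G) := Subgroup.subset_closure (by simp)
    have h3 : d * t * d⁻¹ ∈ Subgroup.closure ({t, z} : Set G) := by
      rw [hd]; exact Subgroup.mul_mem _ h1 h2
    have h5 := isolated_unique_in_two_group S t htS hiso _ hQ h1 d h3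
    rw [hd] at h5
    have : z = 1 := by simpa using h5
    exact invol_ne_one hz this
  obtain ⟨m, hm⟩ := heven
  omega

end Cfsg.Agent.S0229
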