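import Cfsg.Statements.S0230
import Mathlib
import Cfsg.Agent.S0208
import Cfsg.Agent.S0209

set_option autoImplicit false
open Cfsg

namespace Cfsg.Agent.S0230

set_option autoImplicit false
open scoped Pointwise

/-- Let G be a finite group with two non-conjugate involutions, and let t be an involution whose centralizer has maximal order among centralizers of involutions. Then |G| < |C_G(t)|^3. -/
theorem result {G : Type*} [Group G] [Finite G] (s t : G) (hs : orderOf s = 2) (ht : orderOf t = 2) (hnc : ¬ IsConj s t) (hmax : ∀ u : G, orderOf u = 2 → Nat.card (Subgroup.centralizer ({u} : Set G)) ≤ Nat.card (Subgroup.centralizer ({t} : Set G))) : Nat.card G < Nat.card (Subgroup.centralizer ({t} : Set G)) ^ 3 := by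
  classical
  obtain ⟨m, hm⟩ : ∃ m, m = Nat.card (Subgroup.centralizer ({t} : Set G)) := ⟨_, rfl⟩
  rw [← hm]
  -- orbit-stabilizer
  have horb : Nat.card (Subgroup.centralizer ({s} : Set G)) * (MulAction.orbit (ConjAct G) s).ncard = Nat.card G := by
    rw [Subgroup.nat_card_centralizer_nat_card_stabilizer, ← MulAction.index_stabilizer,
      Subgroup.card_mul_index]
    rfl
  -- the set Z of involutions in C(t)
  let Z := {z : G // z ∈ Subgroup.centralizer ({t} : Set G) ∧ orderOf z = 2}
  have hZ : Nat.card Z < m := by
    rw [hm]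
    have := Fintype.ofFinite Z
    have := Fintype.ofFinite (Subgroup.centralizer ({t} : Set G))
    rw [Nat.card_eq_fintype_card, Nat.card_eq_fintype_card]
    apply Fintype.card_lt_of_injective_of_notMem (fun z : Z => (⟨z.1, z.2.1⟩ : Subgroup.centralizer ({t} : Set G)))
      (b := 1)
    · intro a b hab
      apply Subtype.ext
      simpa using hab
    · rintro ⟨z, hz⟩
      have h1 : z.1 = 1 := by
        have := congrArg Subtype.val hz
        simpa using this
      have h2 := z.2.2
      rw [h1, orderOf_one] at h2
      omega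
  -- every conjugate of s commutes with some z ∈ Z
  have hkey : ∀ x ∈ MulAction.orbit (ConjAct G) s, ∃ z : Z, x ∈ Subgroup.centralizer ({z.1} : Set G) := by
    intro x hx
    rw [ConjAct.mem_orbit_conjAct] at hx
    have hxo : orderOf x = 2 := by
      obtain ⟨c, hc⟩ := isConj_iff.mp hx
      have hsc : SemiconjBy c x s := by
        show c * x = s * c
        rw [← hc]; group
      rw [hsc.orderOf_eq, hs]
    have hxt : ¬ IsConj x t := fun h => hnc (hx.symm.trans h)
    have hx' := hx
    have heven : Even (orderOf (x * t)) := by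
      by_contra hodd
      rw [Nat.not_even_iff_odd] at hodd
      obtain ⟨d, -, hd⟩ := Cfsg.Agent.S0208.result x t hxo ht hodd
      exact hxt (isConj_iff.mpr ⟨d, hd⟩)
    obtain ⟨hz2, hzx, hzt⟩ := Cfsg.Agent.S0209.result x t hxo ht heven
    refine ⟨⟨(x * t) ^ (orderOf (x * t) / 2), ?_, hz2⟩, ?_⟩
    · rw [Subgroup.mem_centralizer_singleton_iff]
      exact hzt.eq
    · rw [Subgroup.mem_centralizer_singleton_iff]
      exact hzx.eq.symm
  -- bound the orbit
  have hbound : (MulAction.orbit (ConjAct G) s).ncard ≤ Nat.card Z * m := by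
    choose f hf using hkey
    have hinj : Function.Injective (fun x : MulAction.orbit (ConjAct G) s =>
        (⟨f x.1 x.2, ⟨x.1, hf x.1 x.2⟩⟩ : Σ z : Z, Subgroup.centralizer ({z.1} : Set G))) := by
      intro a b hab
      apply Subtype.ext
      have := congrArg (fun w : Σ z : Z, Subgroup.centralizer ({z.1} : Set G) => (w.2 : G)) hab
      simpa using this
    have h1 := Nat.card_le_card_of_injective _ hinj
    rw [Nat.card_coe_set_eq] at h1
    refine h1.trans ?_
    have := Fintype.ofFinite Z
    rw [Nat.card_sigma]
    calc ∑ z : Z, Nat.card (Subgroup.centralizer ({z.1} : Set G)) ≤ ∑ _z : Z, m := by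
          apply Finset.sum_le_sum
          intro z _
          rw [hm]; exact hmax z.1 z.2.2
      _ = Nat.card Z * m := by
          rw [Finset.sum_const, Finset.card_univ, Nat.card_eq_fintype_card, smul_eq_mul]
  have hCs : Nat.card (Subgroup.centralizer ({s} : Set G)) ≤ m := by rw [hm]; exact hmax s hs
  have hmpos : 0 < m := by rw [hm]; exact Nat.card_pos
  calc Nat.card G = Nat.card (Subgroup.centralizer ({s} : Set G)) * (MulAction.orbit (ConjAct G) s).ncard := horb.symm
    _ ≤ m * (Nat.card Z * m) := Nat.mul_le_mul hCs hbound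
    _ < m * (m * m) := by
        apply Nat.mul_lt_mul_of_pos_left _ hmpos
        exact Nat.mul_lt_mul_of_pos_right hZ hmpos
    _ = m ^ 3 := by ring

end Cfsg.Agent.S0230
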