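import Cfsg.Statements.S0231
import Mathlib
import Cfsg.Agent.H1.Basic
import Cfsg.Agent.H1.Isolated
import Cfsg.Agent.S0208
import Cfsg.Agent.S0209

set_option autoImplicit false
open scoped Pointwise
open Cfsg

namespace Cfsg.Agent.S0231

open Cfsg.Agent.H1
open scoped Pointwise

/-- Let T be a Sylow 2-subgroup of the finite group G which is not normal and which intersects every other Sylow 2-subgroup trivially. Then G has a single conjugacy class of involutions. -/
theorem result {G : Type*} [Group G] [Finite G] (T : Sylow 2 G) (hnn : ¬ (T : Subgroup G).Normal) (hTI : ∀ g : G, MulAut.conj g • (T : Subgroup G) ≠ T → MulAut.conj g • (T : Subgroup G) ⊓ T = ⊥) (s t : G) (hs : orderOf s = 2) (ht : orderOf t = 2) : IsConj s t := by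
  have : Fact (Nat.Prime 2) := ⟨Nat.prime_two⟩
  -- Claim 1: TI for all Sylow subgroups
  have claim1 : ∀ R R' : Sylow 2 G, ∀ u : G, u ≠ 1 → u ∈ R → u ∈ R' → R = R' := by
    intro R R' u hu1 huR huR'
    obtain ⟨a, rfl⟩ := MulAction.exists_smul_eq G T R
    obtain ⟨b, rfl⟩ := MulAction.exists_smul_eq G T R'
    rw [mem_sylow_smul] at huR huR'
    have h1 : MulAut.conj (a⁻¹ * b) • (T : Subgroup G) = T := by
      by_contra hne
      have h2 := hTI (a⁻¹ * b) hne
      have h3 : a⁻¹ * u * a ∈ MulAut.conj (a⁻¹ * b) • (T : Subgroup G) ⊓ T := by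
        refine Subgroup.mem_inf.mpr ⟨?_, huR⟩
        rw [mem_conj_smul]
        have : (a⁻¹ * b)⁻¹ * (a⁻¹ * u * a) * (a⁻¹ * b) = b⁻¹ * u * b := by group
        rw [this]; exact huR'
      rw [h2, Subgroup.mem_bot] at h3
      apply hu1
      have : u = a * (a⁻¹ * u * a) * a⁻¹ := by group
      rw [this, h3]; group
    apply Sylow.ext
    rw [Sylow.coe_subgroup_smul, Sylow.coe_subgroup_smul]
    have : MulAut.conj b = MulAut.conj a * MulAut.conj (a⁻¹ * b) := by
      rw [← map_mul, mul_inv_cancel_left]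
    rw [this, mul_smul, h1]
  -- Claim 2: commuting involutions lie in the same Sylow
  have claim2 : ∀ (R : Sylow 2 G) (z w : G), orderOf z = 2 → orderOf w = 2 → Commute z w → z ∈ R → w ∈ R := by
    intro R z w hz hw hzw hzR
    have h1 : z ∈ (w • R : Sylow 2 G) := by
      rw [mem_sylow_smul]
      have : w⁻¹ * z * w = z := by rw [mul_assoc, hzw.eq, ← mul_assoc, inv_mul_cancel, one_mul]
      rw [this]; exact hzR
    have h2 : w • R = R := claim1 _ _ z (invol_ne_one hz) h1 hzR
    have h3 : w ∈ Subgroup.normalizer ((R : Subgroup G) : Set G) := Sylow.smul_eq_iff_mem_normalizer.mp h2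
    have h4 : IsPGroup 2 (Subgroup.zpowers w ⊔ (R : Subgroup G) : Subgroup G) :=
      (isPGroup_zpowers_of_invol hw).to_sup_of_normal_right' R.isPGroup' (by
        rw [Subgroup.zpowers_le]; exact h3)
    have h5 := R.is_maximal' h4 le_sup_right
    have h6 : w ∈ (R : Subgroup G) := by
      rw [← h5]
      exact le_sup_left (a := Subgroup.zpowers w) (Subgroup.mem_zpowers w)
    exact h6
  -- Claim 3
  have claim3 : ∀ a b : G, orderOf a = 2 → orderOf b = 2 → ¬ IsConj a b → ∃ R : Sylow 2 G, a ∈ R ∧ b ∈ R := by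
    intro a b ha hb hab
    have heven : Even (orderOf (a * b)) := by
      by_contra hodd
      rw [Nat.not_even_iff_odd] at hodd
      obtain ⟨d, -, hd⟩ := Cfsg.Agent.S0208.result a b ha hb hodd
      exact hab (isConj_iff.mpr ⟨d, hd⟩)
    obtain ⟨hz, hza, hzb⟩ := Cfsg.Agent.S0209.result a b ha hb heven
    obtain ⟨R, hR⟩ := (isPGroup_zpowers_of_invol hz).exists_le_sylow
    have hzR := hR (Subgroup.mem_zpowers _)
    exact ⟨R, claim2 R _ a hz ha hza hzR, claim2 R _ b hz hb hzb hzR⟩
  by_contra hst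
  obtain ⟨R, hsR, htR⟩ := claim3 s t hs ht hst
  -- R is not normal, so some conjugate differs
  have hRnn : ∃ g : G, g • R ≠ R := by
    by_contra hall
    push Not at hall
    apply hnn
    obtain ⟨a, rfl⟩ := MulAction.exists_smul_eq G R T
    have : (R : Subgroup G).Normal := by
      rw [← Subgroup.normalizer_eq_top_iff]
      rw [eq_top_iff]
      intro g _
      exact Sylow.smul_eq_iff_mem_normalizer.mp (hall g)
    rw [Sylow.smul_eq_of_normal]
    exact this
  obtain ⟨g, hg⟩ := hRnn
  have hs' : orderOf (g * s * g⁻¹) = 2 := ((MulAut.conj g).orderOf_eq s).trans hs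
  have hs't : ¬ IsConj (g * s * g⁻¹) t := by
    intro h
    apply hst
    exact (isConj_iff.mpr ⟨g, rfl⟩ : IsConj s (g * s * g⁻¹)).trans h
  obtain ⟨R'', hs'R'', htR''⟩ := claim3 _ t hs' ht hs't
  have e1 : R'' = R := claim1 _ _ t (invol_ne_one ht) htR'' htR
  have hs'gR : g * s * g⁻¹ ∈ (g • R : Sylow 2 G) := (conj_mem_sylow_smul g s R).mpr hsR
  have e2 : R'' = g • R := claim1 _ _ _ (invol_ne_one hs') hs'R'' hs'gR
  exact hg (e2.symm.trans e1)

end Cfsg.Agent.S0231
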