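import Cfsg.Statements.S0232
import Mathlib
import Cfsg.Agent.S0233
import Cfsg.Agent.Lib.Helper4.FrobDiv

namespace Cfsg.Agent.S0232

universe u

theorem arith {g c m i h : ℕ} (hg : 0 < g) (h1 : g ≤ c * m) (h2 : c ^ 3 ≤ g)
    (h3 : 2 * i * m ^ 2 < g * (g + m)) (h4 : h * i = g) (h5 : h ^ 3 ≤ g) (h6 : m ≤ g) : False := by
  -- step a : g^2 ≤ m^3
  have ha : g ^ 2 ≤ m ^ 3 := by
    have e1 : g ^ 3 ≤ (c * m) ^ 3 := Nat.pow_le_pow_left h1 3
    have e2 : (c * m) ^ 3 = c ^ 3 * m ^ 3 := by ring
    have e3 : c ^ 3 * m ^ 3 ≤ g * m ^ 3 := Nat.mul_le_mul_right _ h2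
    have e4 : g * g ^ 2 ≤ g * m ^ 3 := by
      calc g * g ^ 2 = g ^ 3 := by ring
        _ ≤ g * m ^ 3 := by rw [e2] at e1; exact le_trans e1 e3
    exact Nat.le_of_mul_le_mul_left e4 hg
  -- step b : m^2 < h * g
  have hb : m ^ 2 < h * g := by
    have e1 : h * (2 * i * m ^ 2) < h * (g * (g + m)) := by
      apply Nat.mul_lt_mul_of_pos_left h3
      rcases Nat.eq_zero_or_pos h with h0 | h0
      · rw [h0, zero_mul] at h4; omega
      · exact h0
    have e2 : h * (2 * i * m ^ 2) = g * (2 * m ^ 2) := by rw [← h4]; ring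
    have e3 : h * (g * (g + m)) = g * (h * (g + m)) := by ring
    rw [e2, e3] at e1
    have e4 : 2 * m ^ 2 < h * (g + m) := Nat.lt_of_mul_lt_mul_left e1
    have e5 : h * (g + m) ≤ h * (2 * g) := Nat.mul_le_mul_left _ (by omega)
    have e6 : 2 * m ^ 2 < 2 * (h * g) := by
      calc 2 * m ^ 2 < h * (g + m) := e4
        _ ≤ h * (2 * g) := e5
        _ = 2 * (h * g) := by ring
    omega
  -- step c
  have hc1 : (m ^ 2) ^ 3 < (h * g) ^ 3 := Nat.pow_lt_pow_left hb (by norm_num)
  have hc2 : (h * g) ^ 3 = h ^ 3 * g ^ 3 := by ring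
  have hc3 : h ^ 3 * g ^ 3 ≤ g * g ^ 3 := Nat.mul_le_mul_right _ h5
  have hc4 : g * g ^ 3 = (g ^ 2) ^ 2 := by ring
  have hc5 : (g ^ 2) ^ 2 ≤ (m ^ 3) ^ 2 := Nat.pow_le_pow_left ha 2
  have hc6 : (m ^ 3) ^ 2 = (m ^ 2) ^ 3 := by ring
  rw [hc2] at hc1
  omega

theorem cube_gt {k : ℕ} (hk : 2 ≤ k) : 2 * k < k ^ 3 := by
  have : 2 * 2 ≤ k * k := Nat.mul_le_mul hk hk
  calc 2 * k < (k * k) * k := by nlinarith
    _ = k ^ 3 := by ring

theorem aux : ∀ (n : ℕ) (G : Type u) [Group G] [Finite G], Nat.card G = n → Even n → 2 < n →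
    ∃ H : Subgroup G, H ≠ ⊤ ∧ Nat.card G < Nat.card H ^ 3 := by
  intro n
  induction n using Nat.strong_induction_on with
  | _ n IH =>
  intro G _ _ hGn heven hgt
  haveI : Fact (Nat.Prime 2) := ⟨Nat.prime_two⟩
  obtain ⟨k, hk⟩ := heven
  have hk2 : 2 ≤ k := by omega
  -- a subgroup of order k suffices
  have key : ∀ K : Subgroup G, Nat.card K = k → ∃ H : Subgroup G, H ≠ ⊤ ∧ Nat.card G < Nat.card H ^ 3 := by
    intro K hK
    refine ⟨K, ?_, ?_⟩
    · intro h
      rw [h, Subgroup.card_top] at hK
      omega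
    · rw [hK, hGn, hk]
      have := cube_gt hk2
      omega
  rcases Nat.even_or_odd (Nat.card (Subgroup.center G)) with hZ | hZ
  · -- central involution
    obtain ⟨x, hx⟩ := exists_prime_orderOf_dvd_card' (G := Subgroup.center G) 2 hZ.two_dvd
    set z : G := x.1 with hz
    have hzo : orderOf z = 2 := by rw [hz, Subgroup.orderOf_coe, hx]
    set Zz := Subgroup.zpowers z with hZz
    have hZc : Zz ≤ Subgroup.center G := by
      rw [hZz, Subgroup.zpowers_le]; exact x.2
    haveI : Zz.Normal := Cfsg.Agent.Lib.Helper4.FrobDiv.normal_of_le_center' Zz hZc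
    have hZcard : Nat.card Zz = 2 := by rw [hZz, Nat.card_zpowers, hzo]
    have hidx : Zz.index = k := by
      have := Zz.card_mul_index
      rw [hZcard, hGn, hk] at this
      omega
    have hquot : Nat.card (G ⧸ Zz) = k := by rw [← hidx]; rfl
    by_cases hcase : Even k ∧ 2 < k
    · obtain ⟨Hbar, hH1, hH2⟩ := IH k (by omega) (G ⧸ Zz) hquot hcase.1 hcase.2
      refine ⟨Hbar.comap (QuotientGroup.mk' Zz), ?_, ?_⟩
      · intro h
        apply hH1
        apply Subgroup.comap_injective (QuotientGroup.mk'_surjective Zz)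
        rw [h, Subgroup.comap_top]
      · have h1 := Subgroup.index_comap_of_surjective Hbar (QuotientGroup.mk'_surjective Zz)
        have h2 := (Hbar.comap (QuotientGroup.mk' Zz)).card_mul_index
        have h3 := Hbar.card_mul_index
        rw [h1] at h2
        rw [hquot] at h3 hH2
        rw [hGn] at h2 ⊢
        have hi : 0 < Hbar.index := Nat.pos_of_ne_zero Subgroup.index_ne_zero_of_finite
        have h4 : Nat.card (Hbar.comap (QuotientGroup.mk' Zz)) = 2 * Nat.card Hbar := by
          have : Nat.card (Hbar.comap (QuotientGroup.mk' Zz)) * Hbar.index =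
              (2 * Nat.card Hbar) * Hbar.index := by
            rw [h2, mul_assoc, h3, hk]; ring
          exact Nat.eq_of_mul_eq_mul_right hi this
        rw [h4, hk]
        have : (2 * Nat.card Hbar) ^ 3 = 8 * Nat.card Hbar ^ 3 := by ring
        rw [this]
        omega
    · -- k odd or k = 2
      by_cases hk2' : k = 2
      · exact key Zz (by rw [hZcard, hk2'])
      · have hkodd : Odd k := by
          rcases Nat.even_or_odd k with he | ho
          · exfalso; apply hcase; refine ⟨he, ?_⟩; omega
          · exact ho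
        have hcop : (Nat.card Zz).Coprime Zz.index := by
          rw [hZcard, hidx]
          exact (Nat.coprime_two_left).mpr hkodd
        obtain ⟨K, hK⟩ := Subgroup.exists_right_complement'_of_coprime hcop
        have := hK.card_mul_card
        rw [hZcard, hGn, hk] at this
        exact key K (by omega)
  · -- centre of odd order
    obtain ⟨H, hH1, hH2⟩ := Cfsg.Agent.S0233.result (G := G) (by rw [hGn]; exact ⟨k, hk⟩) hZ
    rcases hH2 with hH2 | hH2
    · have := H.card_mul_index
      rw [hH2, hGn, hk] at this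
      exact key H (by omega)
    · by_contra hcon
      push Not at hcon
      obtain ⟨t, ht⟩ := exists_prime_orderOf_dvd_card' (G := G) 2 (by rw [hGn]; exact ⟨k, by omega⟩)
      set C := Subgroup.centralizer ({t} : Set G) with hC
      have hCtop : C ≠ ⊤ := by
        intro htop
        have hgc : t ∈ Subgroup.center G := by
          rw [Subgroup.mem_center_iff]
          intro x
          have hx : x ∈ C := by rw [htop]; trivial
          rw [hC, Subgroup.mem_centralizer_iff] at hx
          exact (hx t (Set.mem_singleton t)).symm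
        have hdvd : orderOf (⟨t, hgc⟩ : Subgroup.center G) ∣ Nat.card (Subgroup.center G) :=
          orderOf_dvd_natCard _
        rw [Subgroup.orderOf_mk, ht] at hdvd
        exact (Nat.not_even_iff_odd.2 hZ) (even_iff_two_dvd.2 hdvd)
      set m := Nat.card {t : G // orderOf t = 2} with hm
      have hidx : C.index ≤ m := by
        rw [hC, Cfsg.Agent.Lib.Helper4.FrobDiv.index_centralizer_eq_ncard_carrier, hm,
          ← Nat.card_coe_set_eq]
        apply Nat.card_le_card_of_injective (fun y : (ConjClasses.mk t).carrier =>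
          (⟨y.1, by
            have h1 := y.2
            rw [ConjClasses.mem_carrier_iff_mk_eq, ConjClasses.mk_eq_mk_iff_isConj] at h1
            obtain ⟨c, hc⟩ := isConj_iff.mp h1
            rw [← ht]
            have := (MulAut.conj c).orderOf_eq y.1
            rw [MulAut.conj_apply, hc] at this
            exact this.symm⟩ : {t : G // orderOf t = 2}))
        intro y y' hyy
        apply Subtype.ext
        exact congrArg (fun w : {t : G // orderOf t = 2} => w.1) hyy
      have hmle : m ≤ Nat.card G := by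
        rw [hm]
        exact Nat.card_le_card_of_injective (fun y => y.1) Subtype.val_injective
      have h1 : Nat.card G ≤ Nat.card C * m := by
        rw [← C.card_mul_index]
        exact Nat.mul_le_mul_left _ hidx
      exact arith (Nat.card_pos) h1 (hcon C hCtop) hH2 H.card_mul_index (hcon H hH1) hmle

/-- A finite group G of even order greater than 2 has a proper subgroup H with |G| < |H|^3. -/
theorem result {G : Type*} [Group G] [Finite G] (heven : Even (Nat.card G)) (hgt : 2 < Nat.card G) : ∃ H : Subgroup G, H ≠ ⊤ ∧ Nat.card G < (Nat.card H) ^ 3 := by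
  exact aux (Nat.card G) G rfl heven hgt

end Cfsg.Agent.S0232
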