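import Cfsg.Statements.S0234
import Mathlib
import Cfsg.Agent.S0233
import Cfsg.Agent.S0493
import Cfsg.Agent.S0494
import Cfsg.Agent.Lib.Helper4.Simple

namespace Cfsg.Agent.S0234

set_option maxRecDepth 100000 in
theorem card_invs_alt_five :
    Fintype.card {t : alternatingGroup (Fin 5) // t ^ 2 = 1 ∧ t ≠ 1} = 15 := by decide

theorem card_invs_of_iso {G : Type*} [Group G] (e : G ≃* alternatingGroup (Fin 5)) :
    Nat.card {t : G // orderOf t = 2} = 15 := by
  haveI : Fact (Nat.Prime 2) := ⟨Nat.prime_two⟩
  rw [← card_invs_alt_five, ← Nat.card_eq_fintype_card]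
  apply Nat.card_congr
  refine e.toEquiv.subtypeEquiv ?_
  intro t
  rw [← orderOf_eq_prime_iff]
  show orderOf t = 2 ↔ orderOf (e t) = 2
  rw [MulEquiv.orderOf_eq]

/-- In a finite simple group G of even order greater than 2, the number n of involutions satisfies 3n < |G|. -/
theorem result {G : Type*} [Group G] [Finite G] [IsSimpleGroup G] (heven : Even (Nat.card G)) (hgt : 2 < Nat.card G) : 3 * Nat.card {t : G // orderOf t = 2} < Nat.card G := by
  classical
  -- G is not cyclic
  have hnc : ¬ IsCyclic G := by
    intro hc
    letI : CommGroup G := IsCyclic.commGroup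
    have hp := IsSimpleGroup.prime_card (α := G)
    rcases hp.eq_one_or_self_of_dvd 2 heven.two_dvd with h | h
    · omega
    · omega
  -- the centre is trivial
  have hZ : Subgroup.center G = ⊥ := by
    rcases (Subgroup.center G).normal_of_characteristic.eq_bot_or_eq_top with h | h
    · exact h
    · exfalso
      apply hnc
      letI : CommGroup G := { (inferInstance : Group G) with
        mul_comm := fun a b => by
          have : b ∈ Subgroup.center G := by rw [h]; trivial
          exact (Subgroup.mem_center_iff.mp this a) }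
      have hp := IsSimpleGroup.prime_card (α := G)
      exact isCyclic_of_prime_card (hp := ⟨hp⟩) rfl
  have hZodd : Odd (Nat.card (Subgroup.center G)) := by
    rw [hZ, Subgroup.card_bot]; exact odd_one
  obtain ⟨H, hH1, hH2⟩ := Cfsg.Agent.S0233.result (G := G) heven hZodd
  set n := Nat.card {t : G // orderOf t = 2} with hn
  by_contra hcon
  push Not at hcon
  have hfact := Cfsg.Agent.Lib.Helper4.Simple.two_mul_card_dvd_factorial_of_simple hgt H hH1
  rcases hH2 with hH2 | hH2
  · -- index 2
    rw [hH2] at hfact
    have : 2 * Nat.card G ≤ 2 := Nat.le_of_dvd (by norm_num) (by simpa using hfact)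
    omega
  · -- index ≤ 5
    have hi : H.index ≤ 5 := by
      by_contra h6
      push Not at h6
      have h1 : 2 * 6 * n ^ 2 ≤ 2 * H.index * n ^ 2 :=
        Nat.mul_le_mul_right _ (Nat.mul_le_mul_left _ h6)
      have h2 : Nat.card G * (Nat.card G + n) ≤ (3 * n) * (3 * n + n) :=
        Nat.mul_le_mul hcon (by omega)
      have h3 : (3 * n) * (3 * n + n) = 2 * 6 * n ^ 2 := by ring
      omega
    have h120 : (H.index).factorial ∣ Nat.factorial 5 := Nat.factorial_dvd_factorial hi
    have h60 : 2 * Nat.card G ∣ 120 := dvd_trans hfact (by simpa [Nat.factorial] using h120)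
    have hle : Nat.card G ≤ 100 := by
      have := Nat.le_of_dvd (by norm_num) h60
      omega
    have h60' := Cfsg.Agent.S0493.result hnc hle
    obtain ⟨e⟩ := Cfsg.Agent.S0494.result h60'
    have := card_invs_of_iso e
    rw [← hn] at this
    omega

end Cfsg.Agent.S0234
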