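import Cfsg.Statements.S0236
import Mathlib
import Cfsg.Agent.H1.Invol

set_option autoImplicit false
open Cfsg

namespace Cfsg.Agent.S0236

open Cfsg.Agent.H1

/-- If x is an involution, the number of ordered pairs (u, v) of involutions with uv = x, plus one, equals the number of involutions in the centralizer of x. -/
theorem result {G : Type*} [Group G] [Finite G] (x : G) (hx : orderOf x = 2) : Nat.card {p : G × G // orderOf p.1 = 2 ∧ orderOf p.2 = 2 ∧ p.1 * p.2 = x} + 1 = Nat.card {t : G // orderOf t = 2 ∧ Commute t x} := by
  classical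
  rw [← Finite.card_option]
  apply Nat.card_congr
  have key : ∀ u v : G, orderOf u = 2 → orderOf v = 2 → u * v = x → Commute u x ∧ u ≠ x := by
    intro u v hu hv huv
    have h1 : u * x = v := by rw [← huv, ← mul_assoc, invol_mul_self hu, one_mul]
    have h2 : x * u = v := by
      have : u * v * (u * v) = 1 := by rw [huv]; exact invol_mul_self hx
      have h3 : u * v * u = v⁻¹ := by
        rw [eq_inv_iff_mul_eq_one]; simpa [mul_assoc] using this
      rw [← huv, h3, invol_inv hv]
    refine ⟨h1.trans h2.symm, ?_⟩
    intro hux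
    rw [hux] at h1
    rw [invol_mul_self hx] at h1
    exact invol_ne_one hv h1.symm
  have key2 : ∀ t : G, orderOf t = 2 → Commute t x → t ≠ x → orderOf (t * x) = 2 := by
    intro t ht htx hne
    rw [invol_iff]
    constructor
    · rw [sq]
      calc t * x * (t * x) = t * (x * t) * x := by group
        _ = t * (t * x) * x := by rw [htx.eq]
        _ = (t * t) * (x * x) := by group
        _ = 1 := by rw [invol_mul_self ht, invol_mul_self hx, one_mul]
    · intro h
      apply hne
      have : x = t⁻¹ := eq_inv_of_mul_eq_one_right h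
      rw [this, invol_inv ht]
  refine ⟨fun o => match o with
      | none => ⟨x, hx, Commute.refl x⟩
      | some p => ⟨p.1.1, p.2.1, (key p.1.1 p.1.2 p.2.1 p.2.2.1 p.2.2.2).1⟩,
    fun t => if h : t.1 = x then none else some ⟨(t.1, t.1 * x), t.2.1, key2 t.1 t.2.1 t.2.2 h, by
      simp only; rw [← mul_assoc, invol_mul_self t.2.1, one_mul]⟩, ?_, ?_⟩
  · rintro (_ | ⟨⟨u, v⟩, hu, hv, huv⟩)
    · simp
    · have := (key u v hu hv huv).2
      simp only at hu hv huv this ⊢
      simp only [this, dite_false, Option.some.injEq, Subtype.mk.injEq, Prod.mk.injEq, true_and]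
      rw [← huv, ← mul_assoc, invol_mul_self hu, one_mul]
  · rintro ⟨t, ht, htx⟩
    by_cases h : t = x
    · simp [h]
    · simp [h]

end Cfsg.Agent.S0236
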