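import Cfsg.Statements.S0237
import Mathlib

set_option autoImplicit false
open Cfsg

namespace Cfsg.Agent.S0237

/-- If x is real (conjugate to x⁻¹) in a finite group G, the number of g with g x g⁻¹ = x⁻¹ equals |C_G(x)|. -/
theorem result {G : Type*} [Group G] [Finite G] (x : G) (hreal : IsConj x x⁻¹) : Nat.card {g : G // g * x * g⁻¹ = x⁻¹} = Nat.card (Subgroup.centralizer ({x} : Set G)) := by
  rw [isConj_iff] at hreal
  obtain ⟨c, hc⟩ := hreal
  apply Nat.card_congr
  refine ⟨fun g => ⟨c⁻¹ * g.1, ?_⟩, fun z => ⟨c * z.1, ?_⟩, ?_, ?_⟩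
  · obtain ⟨g, hg⟩ := g
    rw [Subgroup.mem_centralizer_iff]
    intro y hy
    rw [Set.mem_singleton_iff] at hy
    subst hy
    simp only
    have h1 : g * y = y⁻¹ * g := by rw [← hg]; group
    have h2 : c * y = y⁻¹ * c := by rw [← hc]; group
    have h3 : y * c⁻¹ = c⁻¹ * y⁻¹ := by
      rw [eq_inv_mul_iff_mul_eq, ← mul_assoc, h2, mul_assoc, mul_inv_cancel, mul_one]
    rw [mul_assoc, h1, ← mul_assoc, ← mul_assoc, h3]
  · obtain ⟨z, hz⟩ := z
    rw [Subgroup.mem_centralizer_iff] at hz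
    have := hz x rfl
    simp only
    rw [mul_assoc c z x, ← this, mul_inv_rev, ← hc]; group
  · rintro ⟨g, hg⟩; simp
  · rintro ⟨z, hz⟩; simp

end Cfsg.Agent.S0237
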