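import Cfsg.Statements.S0238
import Mathlib
import Cfsg.Agent.H1.Invol
import Cfsg.Agent.S0236
import Cfsg.Agent.S0237

set_option autoImplicit false
open Cfsg

namespace Cfsg.Agent.S0238

open Cfsg.Agent.H1

/-- For every x in a finite group G, the number c of ordered pairs (u, v) of involutions with uv = x is at most |C_G(x)|; c = 0 when x is not conjugate to x⁻¹; and c + 2 ≤ |C_G(x)| when x is an involution. -/
theorem result {G : Type*} [Group G] [Finite G] (x : G) : Nat.card {p : G × G // orderOf p.1 = 2 ∧ orderOf p.2 = 2 ∧ p.1 * p.2 = x} ≤ Nat.card (Subgroup.centralizer ({x} : Set G)) ∧ (¬ IsConj x x⁻¹ → Nat.card {p : G × G // orderOf p.1 = 2 ∧ orderOf p.2 = 2 ∧ p.1 * p.2 = x} = 0) ∧ (orderOf x = 2 → Nat.card {p : G × G // orderOf p.1 = 2 ∧ orderOf p.2 = 2 ∧ p.1 * p.2 = x} + 2 ≤ Nat.card (Subgroup.centralizer ({x} : Set G))) := by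
  have key : ∀ u v : G, orderOf u = 2 → orderOf v = 2 → u * v = x → u * x * u⁻¹ = x⁻¹ := by
    intro u v hu hv huv
    rw [← huv, mul_inv_rev, invol_inv hu, invol_inv hv, ← mul_assoc, invol_mul_self hu, one_mul]
  have part2 : ¬ IsConj x x⁻¹ → Nat.card {p : G × G // orderOf p.1 = 2 ∧ orderOf p.2 = 2 ∧ p.1 * p.2 = x} = 0 := by
    intro hnr
    rw [Nat.card_eq_zero]
    left
    constructor
    rintro ⟨⟨u, v⟩, hu, hv, huv⟩
    exact hnr (isConj_iff.mpr ⟨u, key u v hu hv huv⟩)
  refine ⟨?_, part2, ?_⟩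
  · by_cases hreal : IsConj x x⁻¹
    · rw [← Cfsg.Agent.S0237.result x hreal]
      apply Nat.card_le_card_of_injective (fun p : {p : G × G // orderOf p.1 = 2 ∧ orderOf p.2 = 2 ∧ p.1 * p.2 = x} =>
        (⟨p.1.1, key p.1.1 p.1.2 p.2.1 p.2.2.1 p.2.2.2⟩ : {g : G // g * x * g⁻¹ = x⁻¹}))
      rintro ⟨⟨u, v⟩, hu, hv, huv⟩ ⟨⟨u', v'⟩, hu', hv', huv'⟩ h
      simp only [Subtype.mk.injEq] at h
      subst h
      simp only [Subtype.mk.injEq, Prod.mk.injEq, true_and]
      simp only at huv huv'
      exact mul_left_cancel (huv.trans huv'.symm)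
    · rw [part2 hreal]; exact Nat.zero_le _
  · intro hx
    have h1 := Cfsg.Agent.S0236.result x hx
    have h2 : Nat.card {t : G // orderOf t = 2 ∧ Commute t x} + 1 ≤ Nat.card (Subgroup.centralizer ({x} : Set G)) := by
      rw [← Finite.card_option]
      apply Nat.card_le_card_of_injective (fun o : Option {t : G // orderOf t = 2 ∧ Commute t x} =>
        match o with
        | none => (1 : Subgroup.centralizer ({x} : Set G))
        | some t => ⟨t.1, by
            rw [Subgroup.mem_centralizer_iff]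
            intro y hy
            rw [Set.mem_singleton_iff] at hy
            subst hy
            exact t.2.2.eq.symm⟩)
      rintro (_ | ⟨t, ht, htx⟩) (_ | ⟨s, hs, hsx⟩) h
      · rfl
      · exfalso
        simp only [Subgroup.mk_eq_one, eq_comm] at h
        exact invol_ne_one hs (by simpa [eq_comm, Subtype.ext_iff] using h)
      · exfalso
        exact invol_ne_one ht (by simpa [Subtype.ext_iff] using h)
      · simp only [Subtype.mk.injEq] at h
        subst h
        rfl
    omega

end Cfsg.Agent.S0238
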