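import Cfsg.Statements.S0239
import Mathlib

set_option autoImplicit false
open Cfsg

namespace Cfsg.Agent.S0239

/-- If some nontrivial element x of a finite group G is conjugate to x⁻¹, then |G| is even. -/
theorem result {G : Type*} [Group G] [Finite G] (x : G) (hx : x ≠ 1) (hreal : IsConj x x⁻¹) : Even (Nat.card G) := by
  rw [isConj_iff] at hreal
  obtain ⟨c, hc⟩ := hreal
  by_contra hodd
  rw [Nat.not_even_iff_odd] at hodd
  -- c^2 commutes with x
  have h1 : c * x = x⁻¹ * c := by rw [← hc]; group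
  have h1' : c * x⁻¹ = x * c := by
    have : c * x⁻¹ * c⁻¹ = x := by
      calc c * x⁻¹ * c⁻¹ = (c * x * c⁻¹)⁻¹ := by group
        _ = x := by rw [hc, inv_inv]
    nth_rewrite 2 [← this]; group
  have h2 : Commute (c ^ 2) x := by
    show c ^ 2 * x = x * c ^ 2
    rw [sq, mul_assoc, h1, ← mul_assoc, h1', mul_assoc]
  -- c is a power of c^2
  have hcodd : Odd (orderOf c) := Odd.of_dvd_nat hodd (orderOf_dvd_natCard c)
  obtain ⟨k, hk⟩ := hcodd
  have h3 : c = (c ^ 2) ^ (k + 1) := by
    rw [← pow_mul, show 2 * (k + 1) = (2 * k + 1) + 1 by ring, ← hk, pow_succ, pow_orderOf_eq_one, one_mul]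
  have h4 : Commute c x := by rw [h3]; exact h2.pow_left _
  have h5 : x = x⁻¹ := by
    rw [← hc, h4.eq]; group
  have h6 : x ^ 2 = 1 := by rw [sq]; nth_rewrite 1 [h5]; group
  have h7 : orderOf x ∣ 2 := orderOf_dvd_of_pow_eq_one h6
  have h8 : Odd (orderOf x) := Odd.of_dvd_nat hodd (orderOf_dvd_natCard x)
  have h9 : orderOf x = 1 := by
    rcases (Nat.dvd_prime Nat.prime_two).mp h7 with h | h
    · exact h
    · rw [h] at h8; exact absurd h8 (by decide)
  exact hx (orderOf_eq_one_iff.mp h9)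

end Cfsg.Agent.S0239
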