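import Cfsg.Statements.S0240
import Mathlib
import Cfsg.Agent.H1.Invol

set_option autoImplicit false
open Cfsg

namespace Cfsg.Agent.S0240

open Cfsg.Agent.H1

/-- Let G be a finite group with n involutions and H a subgroup with |H|·(n+1) > |G|. Then some nontrivial h ∈ H is strongly real in G: an involution t of G satisfies t h t⁻¹ = h⁻¹. -/
theorem result {G : Type*} [Group G] [Finite G] (H : Subgroup G) (hH : Nat.card G < Nat.card H * (Nat.card {t : G // orderOf t = 2} + 1)) : ∃ h : G, h ∈ H ∧ h ≠ 1 ∧ ∃ t : G, orderOf t = 2 ∧ t * h * t⁻¹ = h⁻¹ := by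
  rw [← card_sq_eq_one, ← Subgroup.card_mul_index H] at hH
  have hlt : Nat.card (G ⧸ H) < Nat.card {g : G // g ^ 2 = 1} := by
    rw [← Subgroup.index_eq_card]
    exact Nat.lt_of_mul_lt_mul_left hH
  let f : {g : G // g ^ 2 = 1} → G ⧸ H := fun g => (g.1 : G ⧸ H)
  have hninj : ¬ Function.Injective f := by
    intro hinj
    exact absurd (Nat.card_le_card_of_injective f hinj) (not_le.mpr hlt)
  rw [Function.Injective] at hninj
  push Not at hninj
  obtain ⟨⟨s, hs⟩, ⟨t, ht⟩, hst, hne⟩ := hninj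
  have hne' : s ≠ t := fun h => hne (Subtype.ext h)
  have hmem : s⁻¹ * t ∈ H := by
    have : (s : G ⧸ H) = (t : G ⧸ H) := hst
    rwa [QuotientGroup.eq] at this
  have hsinv : s⁻¹ = s := by rw [inv_eq_iff_mul_eq_one, ← sq]; exact hs
  have htinv : t⁻¹ = t := by rw [inv_eq_iff_mul_eq_one, ← sq]; exact ht
  rw [hsinv] at hmem
  refine ⟨s * t, hmem, ?_, ?_⟩
  · intro h
    apply hne'
    have := eq_inv_of_mul_eq_one_left h
    rw [this, htinv]
  · rcases sq_eq_one_iff_invol.mp hs with hs1 | hs2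
    · subst hs1
      rcases sq_eq_one_iff_invol.mp ht with ht1 | ht2
      · exact absurd ht1.symm hne'
      · refine ⟨t, ht2, ?_⟩
        simp [htinv, invol_mul_self ht2]
    · refine ⟨s, hs2, ?_⟩
      rw [mul_inv_rev, hsinv, htinv, ← mul_assoc, invol_mul_self hs2, one_mul]

end Cfsg.Agent.S0240
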