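import Cfsg.Statements.S0241
import Mathlib
import Cfsg.Agent.H1.Invol

set_option autoImplicit false
open Cfsg

namespace Cfsg.Agent.S0241

open Cfsg.Agent.H1

/-- If x ≠ 1 is conjugate to x⁻¹ in a finite group G and |C_G(x)| is odd, then some involution t satisfies t x t⁻¹ = x⁻¹. -/
theorem result {G : Type*} [Group G] [Finite G] (x : G) (hx : x ≠ 1) (hreal : IsConj x x⁻¹) (hodd : Odd (Nat.card (Subgroup.centralizer ({x} : Set G)))) : ∃ t : G, orderOf t = 2 ∧ t * x * t⁻¹ = x⁻¹ := by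
  rw [isConj_iff] at hreal
  obtain ⟨c, hc⟩ := hreal
  -- elements of the centralizer have odd order
  have hcent : ∀ z : G, Commute z x → Odd (orderOf z) := by
    intro z hz
    have hzmem : z ∈ Subgroup.centralizer ({x} : Set G) := by
      rw [Subgroup.mem_centralizer_iff]
      intro y hy
      rw [Set.mem_singleton_iff] at hy
      subst hy
      exact hz.eq.symm
    have : orderOf (⟨z, hzmem⟩ : Subgroup.centralizer ({x} : Set G)) ∣ Nat.card (Subgroup.centralizer ({x} : Set G)) := orderOf_dvd_natCard _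
    rw [Subgroup.orderOf_mk] at this
    exact Odd.of_dvd_nat hodd this
  have hc' : c * x⁻¹ * c⁻¹ = x := by
    calc c * x⁻¹ * c⁻¹ = (c * x * c⁻¹)⁻¹ := by group
      _ = x := by rw [hc, inv_inv]
  have h1 : c * x = x⁻¹ * c := by rw [← hc]; group
  have h1' : c * x⁻¹ = x * c := by nth_rewrite 2 [← hc']; group
  have h2 : Commute (c ^ 2) x := by
    show c ^ 2 * x = x * c ^ 2
    rw [sq, mul_assoc, h1, ← mul_assoc, h1', mul_assoc]
  -- write orderOf c = 2^a * m with m odd
  obtain ⟨a, m, hm, ham⟩ := Nat.exists_eq_two_pow_mul_odd (orderOf_pos c).ne'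
  -- d = c^m inverts x
  obtain ⟨k, hk⟩ := hm
  have hd : c ^ m * x * (c ^ m)⁻¹ = x⁻¹ := by
    have hcomm : Commute ((c ^ 2) ^ k) x := h2.pow_left k
    have : c ^ m = c * (c ^ 2) ^ k := by rw [hk, pow_succ', pow_mul]
    rw [this, mul_inv_rev, mul_assoc c, hcomm.eq]
    calc c * (x * (c ^ 2) ^ k) * (((c ^ 2) ^ k)⁻¹ * c⁻¹) = c * x * c⁻¹ := by group
      _ = x⁻¹ := hc
  have hdord : orderOf (c ^ m) = 2 ^ a := by
    rw [orderOf_pow, ham, Nat.gcd_eq_right (Dvd.intro_left _ rfl)]
    exact Nat.mul_div_cancel _ (by omega)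
  -- (c^m)^2 commutes with x, so has odd order
  have h3 : Commute ((c ^ m) ^ 2) x := by
    rw [← pow_mul, mul_comm, pow_mul]; exact h2.pow_left m
  have h4 := hcent _ h3
  rcases Nat.lt_or_ge a 2 with ha | ha
  · interval_cases a
    · -- c^m = 1, so x = x⁻¹
      exfalso
      have : c ^ m = 1 := by rw [← orderOf_eq_one_iff, hdord, pow_zero]
      rw [this] at hd
      have hxx : x = x⁻¹ := by simpa using hd
      have hx2 : x ^ 2 = 1 := by rw [sq]; nth_rewrite 1 [hxx]; group
      have := hcent x (Commute.refl x)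
      rw [orderOf_eq_prime hx2 hx] at this
      exact absurd this (by decide)
    · exact ⟨c ^ m, by rw [hdord, pow_one], hd⟩
  · exfalso
    rw [orderOf_pow, hdord] at h4
    have : 2 ∣ 2 ^ a / Nat.gcd (2 ^ a) 2 := by
      have h22 : Nat.gcd (2 ^ a) 2 = 2 := Nat.gcd_eq_right (dvd_pow_self 2 (by omega))
      rw [h22]
      obtain ⟨b, rfl⟩ := Nat.exists_eq_add_of_le ha
      have : 2 ^ (2 + b) = 2 * (2 * 2 ^ b) := by ring
      rw [this, Nat.mul_div_cancel_left _ (by norm_num : 0 < 2)]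
      exact Dvd.intro _ rfl
    exact (Nat.not_even_iff_odd.mpr h4) (even_iff_two_dvd.mpr this)

end Cfsg.Agent.S0241
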