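import Cfsg.Statements.S0247
import Mathlib
import Cfsg.Agent.S0304
import Cfsg.Agent.S0245
import Cfsg.Agent.S0289

set_option autoImplicit false
open Cfsg

namespace Cfsg.Agent.S0247

open Matrix Cfsg.Agent.S0304

section
variable {F : Type*} [Field F] [Fintype F]
set_option linter.unusedSectionVars false

theorem elem01 (hF : Fintype.card F = 2) (z : F) : z = 0 ∨ z = 1 := by
  have h := FiniteField.pow_card z
  rw [hF] at h
  have : z * (z - 1) = 0 := by linear_combination h
  rcases mul_eq_zero.1 this with h | h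
  · exact Or.inl h
  · exact Or.inr (sub_eq_zero.1 h)

theorem charP_two (hF : Fintype.card F = 2) : CharP F 2 := by
  have h2 : (2 : F) = 0 := by
    have := Nat.cast_card_eq_zero F
    rw [hF] at this
    exact_mod_cast this
  have : ringChar F = 2 := CharP.ringChar_of_prime_eq_zero Nat.prime_two (by exact_mod_cast h2)
  exact ringChar.of_eq this

variable [CharP F 2]

theorem bh_add_right (u w w' : Fin 2 ⊕ Fin 2 → F) : bh 2 u (w + w') = bh 2 u w + bh 2 u w' := by
  unfold bh
  rw [← Finset.sum_add_distrib]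
  apply Finset.sum_congr rfl
  intro i _
  simp only [Pi.add_apply]
  ring

theorem bh_add_left (u u' w : Fin 2 ⊕ Fin 2 → F) : bh 2 (u + u') w = bh 2 u w + bh 2 u' w := by
  unfold bh
  rw [← Finset.sum_add_distrib]
  apply Finset.sum_congr rfl
  intro i _
  simp only [Pi.add_apply]
  ring

theorem bh_comm (u w : Fin 2 ⊕ Fin 2 → F) : bh 2 u w = bh 2 w u := by
  unfold bh
  apply Finset.sum_congr rfl
  intro i _
  ring

theorem bh_symp (t : Matrix.symplecticGroup (Fin 2) F) (u w : Fin 2 ⊕ Fin 2 → F) :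
    bh 2 (t.1 *ᵥ u) (t.1 *ᵥ w) = bh 2 u w := by
  rw [bh_eq_J, bh_eq_J]
  have hs := t.2
  rw [SymplecticGroup.mem_iff'] at hs
  have := Matrix.toBilin'_comp (Matrix.J (Fin 2) F) t.1 t.1
  rw [hs] at this
  have h2 := congrArg (fun B : LinearMap.BilinForm F (Fin 2 ⊕ Fin 2 → F) => B u w) this
  simp only [LinearMap.BilinForm.comp_apply, Matrix.toLin'_apply] at h2
  exact h2

theorem inv_mulVec (s : Matrix.symplecticGroup (Fin 2) F) (v : Fin 2 ⊕ Fin 2 → F) :
    (s⁻¹).1 *ᵥ (s.1 *ᵥ v) = v := by
  rw [Matrix.mulVec_mulVec]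
  have : (s⁻¹).1 * s.1 = 1 := congrArg Subtype.val (inv_mul_cancel s)
  rw [this, Matrix.one_mulVec]

theorem mulVec_inv (s : Matrix.symplecticGroup (Fin 2) F) (v : Fin 2 ⊕ Fin 2 → F) :
    s.1 *ᵥ ((s⁻¹).1 *ᵥ v) = v := by
  rw [Matrix.mulVec_mulVec]
  have : s.1 * (s⁻¹).1 = 1 := congrArg Subtype.val (mul_inv_cancel s)
  rw [this, Matrix.one_mulVec]

/-- quadratic forms of minus type polarising to the symplectic form -/
abbrev X : Type _ :=
  {f : (Fin 2 ⊕ Fin 2 → F) → F // (∀ u w, f (u + w) = f u + f w + bh 2 u w) ∧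
    Nat.card {v // f v = 0} = 6}

noncomputable instance : MulAction (Matrix.symplecticGroup (Fin 2) F) (X (F := F)) where
  smul s f := ⟨fun v => f.1 ((s⁻¹).1 *ᵥ v), by
    constructor
    · intro u w
      change f.1 ((s⁻¹).1 *ᵥ (u + w)) = f.1 ((s⁻¹).1 *ᵥ u) + f.1 ((s⁻¹).1 *ᵥ w) + bh 2 u w
      rw [Matrix.mulVec_add, f.2.1, bh_symp]
    · refine Eq.trans ?_ f.2.2
      apply Nat.card_congr
      exact
        { toFun := fun v => ⟨(s⁻¹).1 *ᵥ v.1, v.2⟩
          invFun := fun v => ⟨s.1 *ᵥ v.1, by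
            change f.1 ((s⁻¹).1 *ᵥ (s.1 *ᵥ v.1)) = 0
            rw [inv_mulVec]; exact v.2⟩
          left_inv := fun v => Subtype.ext (mulVec_inv s v.1)
          right_inv := fun v => Subtype.ext (inv_mulVec s v.1) }⟩
  one_smul f := by
    apply Subtype.ext
    funext v
    change f.1 (((1 : Matrix.symplecticGroup (Fin 2) F)⁻¹).1 *ᵥ v) = f.1 v
    rw [inv_one]
    change f.1 ((1 : Matrix _ _ F) *ᵥ v) = f.1 v
    rw [Matrix.one_mulVec]
  mul_smul s s' f := by
    apply Subtype.ext
    funext v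
    change f.1 (((s * s')⁻¹).1 *ᵥ v) = f.1 ((s'⁻¹).1 *ᵥ ((s⁻¹).1 *ᵥ v))
    rw [_root_.mul_inv_rev, Matrix.mulVec_mulVec]
    rfl

theorem smul_apply (s : Matrix.symplecticGroup (Fin 2) F) (f : X (F := F))
    (v : Fin 2 ⊕ Fin 2 → F) : (s • f).1 v = f.1 ((s⁻¹).1 *ᵥ v) := rfl

/-- the forms `q + B(a, ·)` -/
def fa (a : Fin 2 ⊕ Fin 2 → F) : (Fin 2 ⊕ Fin 2 → F) → F := fun v => qh 2 v + bh 2 a v

theorem fa_polar (a u w : Fin 2 ⊕ Fin 2 → F) :
    fa a (u + w) = fa a u + fa a w + bh 2 u w := by
  unfold fa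
  rw [qh_add, bh_add_right]
  ring

theorem fa_eq (a v : Fin 2 ⊕ Fin 2 → F) : fa a v = qh 2 (v + a) + qh 2 a := by
  unfold fa
  rw [qh_add, bh_comm]
  linear_combination (-qh 2 a) * (two_eq_zero' (F := F))


theorem card_q0 (hF : Fintype.card F = 2) : Nat.card {v : Fin 2 ⊕ Fin 2 → F // qh 2 v = 0} = 10 :=
  (Cfsg.Agent.S0289.result hF 2 (by norm_num)).trans (by norm_num)

theorem card_q1 (hF : Fintype.card F = 2) : Nat.card {v : Fin 2 ⊕ Fin 2 → F // qh 2 v = 1} = 6 := by
  classical
  have h0 := card_q0 hF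
  have e1 : {v : Fin 2 ⊕ Fin 2 → F // ¬ qh 2 v = 0} ≃ {v : Fin 2 ⊕ Fin 2 → F // qh 2 v = 1} :=
    Equiv.subtypeEquivRight (fun v => by
      rcases elem01 hF (qh 2 v) with h | h
      · simp [h]
      · simp [h])
  have e2 := Equiv.sumCompl (fun v : Fin 2 ⊕ Fin 2 → F => qh 2 v = 0)
  have h := Nat.card_congr e2
  rw [Nat.card_sum, h0, Nat.card_congr e1, Nat.card_eq_fintype_card (α := Fin 2 ⊕ Fin 2 → F),
    Fintype.card_fun, hF] at h
  rw [Fintype.card_sum, Fintype.card_fin] at h
  omega

theorem add_eq_zero_iff' (x y : F) : x + y = 0 ↔ x = y := by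
  constructor
  · intro h
    linear_combination h - y * (two_eq_zero' (F := F))
  · intro h
    rw [h]
    linear_combination y * (two_eq_zero' (F := F))

theorem card_zeros_fa (a : Fin 2 ⊕ Fin 2 → F) :
    Nat.card {v // fa a v = 0} = Nat.card {u : Fin 2 ⊕ Fin 2 → F // qh 2 u = qh 2 a} := by
  apply Nat.card_congr
  exact
    { toFun := fun v => ⟨v.1 + a, by
        have := v.2
        rw [fa_eq, add_eq_zero_iff'] at this
        exact this⟩
      invFun := fun u => ⟨u.1 + a, by
        rw [fa_eq, add_eq_zero_iff']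
        have : u.1 + a + a = u.1 := by
          funext c
          simp only [Pi.add_apply]
          linear_combination (a c) * (two_eq_zero' (F := F))
        rw [this]
        exact u.2⟩
      left_inv := fun v => by
        apply Subtype.ext
        funext c
        simp only [Pi.add_apply]
        linear_combination (a c) * (two_eq_zero' (F := F))
      right_inv := fun u => by
        apply Subtype.ext
        funext c
        simp only [Pi.add_apply]
        linear_combination (a c) * (two_eq_zero' (F := F)) }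

theorem fa_injective : Function.Injective (fa (F := F)) := by
  intro a a' h
  funext c
  have := congrFun h (Pi.single (Sum.swap c) 1)
  unfold fa at this
  rw [bh_single_right, bh_single_right, Sum.swap_swap] at this
  exact add_left_cancel this

theorem exists_fa (hF : Fintype.card F = 2) (f : (Fin 2 ⊕ Fin 2 → F) → F)
    (hf : ∀ u w, f (u + w) = f u + f w + bh 2 u w) : ∃ a, f = fa a := by
  classical
  have hadd : ∀ u w, (f (u + w) - qh 2 (u + w)) = (f u - qh 2 u) + (f w - qh 2 w) := by
    intro u w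
    rw [hf, qh_add]
    ring
  have h0 : f 0 - qh 2 0 = 0 := by
    have := hadd 0 0
    rw [add_zero] at this
    linear_combination -this
  let L : (Fin 2 ⊕ Fin 2 → F) →ₗ[F] F :=
    { toFun := fun v => f v - qh 2 v
      map_add' := hadd
      map_smul' := by
        intro c v
        rcases elem01 hF c with rfl | rfl
        · simp only [zero_smul, RingHom.id_apply]
          exact h0
        · simp only [one_smul, RingHom.id_apply] }
  have hL : ∀ v, L v = f v - qh 2 v := fun v => rfl
  refine ⟨fun c => L (Pi.single (Sum.swap c) 1), ?_⟩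
  funext v
  unfold fa
  have h1 := LinearMap.pi_apply_eq_sum_univ L v
  have h2 : ∀ i : Fin 2 ⊕ Fin 2, (fun j => if i = j then (1 : F) else 0) = Pi.single i 1 := by
    intro i
    funext j
    simp [Pi.single_apply, eq_comm]
  simp only [h2, smul_eq_mul] at h1
  rw [Fintype.sum_sum_type] at h1
  have h3 : bh 2 (fun c => L (Pi.single (Sum.swap c) 1)) v =
      ∑ i, v (Sum.inl i) * L (Pi.single (Sum.inl i) 1) +
        ∑ i, v (Sum.inr i) * L (Pi.single (Sum.inr i) 1) := by
    unfold bh
    rw [← Finset.sum_add_distrib]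
    apply Finset.sum_congr rfl
    intro i _
    simp only [Sum.swap_inl, Sum.swap_inr]
    ring
  rw [h3, ← h1, hL]
  ring

/-- the minus-type forms are parametrised by the vectors with `q = 1` -/
noncomputable def equivX (hF : Fintype.card F = 2) :
    {a : Fin 2 ⊕ Fin 2 → F // qh 2 a = 1} ≃ X (F := F) :=
  Equiv.ofBijective (fun a => ⟨fa a.1, fa_polar a.1, by
      rw [card_zeros_fa, a.2]; exact card_q1 hF⟩) (by
    constructor
    · intro a a' h
      exact Subtype.ext (fa_injective (congrArg Subtype.val h))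
    · rintro ⟨f, hf1, hf2⟩
      obtain ⟨a, rfl⟩ := exists_fa hF f hf1
      have ha : qh 2 a = 1 := by
        rcases elem01 hF (qh 2 a) with h | h
        · exfalso
          rw [card_zeros_fa, h, card_q0 hF] at hf2
          omega
        · exact h
      exact ⟨⟨a, ha⟩, rfl⟩)

theorem card_X (hF : Fintype.card F = 2) : Nat.card (X (F := F)) = 6 := by
  rw [← Nat.card_congr (equivX hF), card_q1 hF]


theorem exists_pair (c : Fin 2 ⊕ Fin 2) :
    ∃ a : Fin 2 ⊕ Fin 2 → F, qh 2 a = 1 ∧ qh 2 (a + Pi.single c 1) = 1 := by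
  have hc : (c = Sum.inl 0 ∨ c = Sum.inl 1) ∨ (c = Sum.inr 0 ∨ c = Sum.inr 1) := by
    rcases c with i | i
    · left; fin_cases i <;> simp
    · right; fin_cases i <;> simp
  rcases hc with (rfl | rfl) | (rfl | rfl)
  · refine ⟨Pi.single (Sum.inl 1) 1 + Pi.single (Sum.inr 1) 1, ?_, ?_⟩ <;>
      simp [qh, Pi.single_apply]
  · refine ⟨Pi.single (Sum.inl 0) 1 + Pi.single (Sum.inr 0) 1, ?_, ?_⟩ <;>
      simp [qh, Pi.single_apply]
  · refine ⟨Pi.single (Sum.inl 1) 1 + Pi.single (Sum.inr 1) 1, ?_, ?_⟩ <;>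
      simp [qh, Pi.single_apply]
  · refine ⟨Pi.single (Sum.inl 0) 1 + Pi.single (Sum.inr 0) 1, ?_, ?_⟩ <;>
      simp [qh, Pi.single_apply]

theorem faithful (hF : Fintype.card F = 2) (s : Matrix.symplecticGroup (Fin 2) F)
    (hs : ∀ f : X (F := F), s • f = f) : s = 1 := by
  have hfix : ∀ a a' : Fin 2 ⊕ Fin 2 → F, qh 2 a = 1 → qh 2 a' = 1 →
      s.1 *ᵥ (a + a') = a + a' := by
    intro a a' ha ha'
    have h1 : ∀ v, fa a ((s⁻¹).1 *ᵥ v) = fa a v := by
      intro v
      have := congrArg (fun f : X (F := F) => f.1 v) (hs (equivX hF ⟨a, ha⟩))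
      exact this
    have h2 : ∀ v, fa a' ((s⁻¹).1 *ᵥ v) = fa a' v := by
      intro v
      have := congrArg (fun f : X (F := F) => f.1 v) (hs (equivX hF ⟨a', ha'⟩))
      exact this
    have h3 : ∀ v, bh 2 (a + a') ((s⁻¹).1 *ᵥ v) = bh 2 (a + a') v := by
      intro v
      have e1 := h1 v
      have e2 := h2 v
      unfold fa at e1 e2
      rw [bh_add_left, bh_add_left]
      linear_combination e1 + e2 - (qh 2 ((s⁻¹).1 *ᵥ v) - qh 2 v) * (two_eq_zero' (F := F))
    have h4 : ∀ v, bh 2 (s.1 *ᵥ (a + a')) v = bh 2 (a + a') v := by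
      intro v
      rw [← h3 v, ← bh_symp s (a + a') ((s⁻¹).1 *ᵥ v), mulVec_inv]
    funext c
    have := h4 (Pi.single (Sum.swap c) 1)
    rw [bh_single_right, bh_single_right, Sum.swap_swap] at this
    exact this
  have hcol : ∀ c, s.1 *ᵥ Pi.single c 1 = Pi.single c 1 := by
    intro c
    obtain ⟨a, ha, ha'⟩ := exists_pair (F := F) c
    have := hfix (a + Pi.single c 1) a ha' ha
    have e : a + Pi.single c 1 + a = Pi.single c 1 := by
      funext d
      simp only [Pi.add_apply]
      linear_combination (a d) * (two_eq_zero' (F := F))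
    rw [e] at this
    exact this
  apply Subtype.ext
  ext r c
  have := congrFun (hcol c) r
  rw [Matrix.mulVec_single_one] at this
  change s.1 r c = (1 : Matrix _ _ F) r c
  rw [Matrix.one_apply, ← Pi.single_apply, ← this]
  rfl

end

theorem result {F : Type*} [Field F] [Fintype F] (hF : Fintype.card F = 2) : Nonempty (Matrix.symplecticGroup (Fin 2) F ≃* Equiv.Perm (Fin 6)) := by
  classical
  have := charP_two hF
  have hcard : Nat.card (Matrix.symplecticGroup (Fin 2) F) = 720 :=
    (Cfsg.Agent.S0245.result hF 2).trans (by norm_num [Finset.prod_range_succ])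
  have hX := card_X hF
  have : Finite (X (F := F)) := Nat.finite_of_card_ne_zero (by rw [hX]; norm_num)
  have : Finite (Matrix.symplecticGroup (Fin 2) F) :=
    Nat.finite_of_card_ne_zero (by rw [hcard]; norm_num)
  let Φ : Matrix.symplecticGroup (Fin 2) F →* Equiv.Perm (X (F := F)) :=
    MulAction.toPermHom _ _
  have hinj : Function.Injective Φ := by
    rw [injective_iff_map_eq_one]
    intro s hs
    apply faithful hF s
    intro f
    have := congrArg (fun σ : Equiv.Perm (X (F := F)) => σ f) hs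
    exact this
  have hbij : Function.Bijective Φ := by
    apply hinj.bijective_of_nat_card_le
    rw [Nat.card_perm, hX, hcard]
    decide
  exact ⟨(MulEquiv.ofBijective Φ hbij).trans
    (Equiv.permCongrHom (Finite.equivFinOfCardEq hX))⟩

end Cfsg.Agent.S0247
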