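import Cfsg.Statements.S0252
import Mathlib
import Cfsg.Agent.S0243

set_option autoImplicit false
open Cfsg
open scoped LinearAlgebra.Projectivization

namespace Cfsg.Agent.S0252

/-- PSL_2(4) is isomorphic to A_5. -/
theorem result {F : Type*} [Field F] [Fintype F] (hF : Fintype.card F = 4) : Nonempty (Matrix.ProjectiveSpecialLinearGroup (Fin 2) F ≃* alternatingGroup (Fin 5)) := by
  classical
  have hcard : Nat.card (Matrix.ProjectiveSpecialLinearGroup (Fin 2) F) = 60 := by
    have := Cfsg.Agent.S0243.result hF 2 le_rfl
    simp only [Fin.prod_univ_two, Fin.val_zero, Fin.val_one] at this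
    norm_num at this
    rw [Nat.card_eq_fintype_card]
    omega
  have hP : Nat.card (ℙ F (Fin 2 → F)) = 5 := by
    rw [Projectivization.card_of_finrank_two]
    · rw [Nat.card_eq_fintype_card, hF]
    · simp
  have : Finite (ℙ F (Fin 2 → F)) := Nat.finite_of_card_ne_zero (by rw [hP]; norm_num)
  have e : ℙ F (Fin 2 → F) ≃ Fin 5 := Finite.equivFinOfCardEq hP
  let φ : Matrix.ProjectiveSpecialLinearGroup (Fin 2) F →* Equiv.Perm (Fin 5) :=
    (e.permCongrHom).toMonoidHom.comp Projectivization.PSLAction.toPermHom
  have hφ : Function.Injective φ :=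
    e.permCongrHom.injective.comp Matrix.ProjectiveSpecialLinearGroup.toPermHom_injective
  have hrange : Nat.card φ.range = 60 := by
    rw [← hcard]
    exact (Nat.card_congr (MonoidHom.ofInjective hφ).toEquiv).symm
  have hidx : φ.range.index = 2 := by
    have := φ.range.card_mul_index
    rw [hrange, Nat.card_perm, Nat.card_eq_fintype_card, Fintype.card_fin] at this
    have h5 : Nat.factorial 5 = 120 := by decide
    omega
  have hA : φ.range = alternatingGroup (Fin 5) :=
    Equiv.Perm.eq_alternatingGroup_of_index_eq_two hidx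
  exact ⟨(MonoidHom.ofInjective hφ).trans (MulEquiv.subgroupCongr hA)⟩

end Cfsg.Agent.S0252
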