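import Cfsg.Statements.S0266
import Cfsg.Agent.Lib.Helper5.ProjLine
import Mathlib

set_option autoImplicit false
open scoped MatrixGroups
open Cfsg

namespace Cfsg.Agent.S0266

open Cfsg.Agent.Lib.Helper5.ProjLine
open scoped LinearAlgebra.Projectivization Matrix

variable {F : Type*} [Field F]

theorem exists_pgl (a b c : ℙ F (Fin 2 → F)) (hab : a ≠ b) (hac : a ≠ c) (hbc : b ≠ c) :
    ∃ g : Matrix.ProjGenLinGroup (Fin 2) F, g • p1 = a ∧ g • p2 = b ∧ g • p12 = c := by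
  obtain ⟨M, hM, h1, h2, h3⟩ := exists_mat a b c hab hac hbc
  refine ⟨Matrix.ProjGenLinGroup.mk (Matrix.GeneralLinearGroup.mkOfDetNeZero M hM), ?_, ?_, ?_⟩
  · rw [← h1]; rfl
  · rw [← h2]; rfl
  · rw [← h3]; rfl

theorem fix_std (k : Matrix.ProjGenLinGroup (Fin 2) F) (h1 : k • (p1 : ℙ F (Fin 2 → F)) = p1)
    (h2 : k • (p2 : ℙ F (Fin 2 → F)) = p2) (h12 : k • (p12 : ℙ F (Fin 2 → F)) = p12) : k = 1 := by
  induction k using Matrix.ProjGenLinGroup.induction_on with | mk k₀ =>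
  have hdet : (k₀ : Matrix (Fin 2) (Fin 2) F).det ≠ 0 := by
    have := k₀.isUnit
    exact (Matrix.isUnit_iff_isUnit_det _).1 (k₀.isUnit) |>.ne_zero
  obtain ⟨t, ht0, ht⟩ := scalar_of_fix (k₀ : Matrix (Fin 2) (Fin 2) F) hdet h1 h2 h12
  rw [Matrix.ProjGenLinGroup.mk_eq_one, Matrix.GeneralLinearGroup.center_eq_range_scalar]
  refine ⟨Units.mk0 t ht0, ?_⟩
  apply Units.ext
  rw [ht]
  simp

theorem result {F : Type*} [Field F] : MulAction.IsMultiplyPretransitive (Matrix.ProjGenLinGroup (Fin 2) F) (Projectivization F (Fin 2 → F)) 3 ∧ ∀ (g : Matrix.ProjGenLinGroup (Fin 2) F) (a b c : Projectivization F (Fin 2 → F)), a ≠ b → a ≠ c → b ≠ c → g • a = a → g • b = b → g • c = c → g = 1 := by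
  constructor
  · rw [MulAction.isMultiplyPretransitive_iff]
    intro x y
    have hx : ∀ i j : Fin 3, i ≠ j → x i ≠ x j := fun i j h h' => h (x.injective h')
    have hy : ∀ i j : Fin 3, i ≠ j → y i ≠ y j := fun i j h h' => h (y.injective h')
    obtain ⟨g, g0, g1, g2⟩ := exists_pgl (x 0) (x 1) (x 2) (hx 0 1 (by decide)) (hx 0 2 (by decide))
      (hx 1 2 (by decide))
    obtain ⟨h, h0, h1, h2⟩ := exists_pgl (y 0) (y 1) (y 2) (hy 0 1 (by decide)) (hy 0 2 (by decide))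
      (hy 1 2 (by decide))
    refine ⟨h * g⁻¹, ?_⟩
    ext i
    rw [Function.Embedding.smul_apply, mul_smul]
    fin_cases i
    · change h • g⁻¹ • x 0 = y 0
      rw [← g0, inv_smul_smul, h0]
    · change h • g⁻¹ • x 1 = y 1
      rw [← g1, inv_smul_smul, h1]
    · change h • g⁻¹ • x 2 = y 2
      rw [← g2, inv_smul_smul, h2]
  · intro g a b c hab hac hbc ha hb hc
    obtain ⟨h, h0, h1, h2⟩ := exists_pgl a b c hab hac hbc
    have := fix_std (h⁻¹ * g * h)
      (by rw [mul_smul, mul_smul, h0, ha, ← h0, inv_smul_smul])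
      (by rw [mul_smul, mul_smul, h1, hb, ← h1, inv_smul_smul])
      (by rw [mul_smul, mul_smul, h2, hc, ← h2, inv_smul_smul])
    have e : g = h * (h⁻¹ * g * h) * h⁻¹ := by group
    rw [e, this]
    group

end Cfsg.Agent.S0266
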