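import Cfsg.Statements.S0267
import Cfsg.Agent.Lib.Helper5.ProjLine
import Mathlib

set_option autoImplicit false
open scoped MatrixGroups
open Cfsg

namespace Cfsg.Agent.S0267

open Cfsg.Agent.Lib.Helper5.ProjLine
open scoped LinearAlgebra.Projectivization Matrix

variable {F : Type*} [Field F]

theorem injective_of_ne {α : Type*} (f : Fin 3 → α) (h01 : f 0 ≠ f 1) (h02 : f 0 ≠ f 2)
    (h12 : f 1 ≠ f 2) : Function.Injective f := by
  intro i j h
  have key : ∀ i : Fin 3, i = 0 ∨ i = 1 ∨ i = 2 := by decide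
  rcases key i with rfl | rfl | rfl <;> rcases key j with rfl | rfl | rfl <;>
    first
    | rfl
    | exact absurd h h01
    | exact absurd h h02
    | exact absurd h h12
    | exact absurd h.symm h01
    | exact absurd h.symm h02
    | exact absurd h.symm h12

theorem exists_sl [Fintype F] (hF : ringChar F = 2) (a b c : ℙ F (Fin 2 → F)) (hab : a ≠ b)
    (hac : a ≠ c) (hbc : b ≠ c) :
    ∃ g : Matrix.SpecialLinearGroup (Fin 2) F, g • p1 = a ∧ g • p2 = b ∧ g • p12 = c := by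
  obtain ⟨M, hM, h1, h2, h3⟩ := exists_mat a b c hab hac hbc
  obtain ⟨r, hr⟩ := FiniteField.isSquare_of_char_two hF M.det
  have hr0 : r ≠ 0 := by
    rintro rfl
    rw [mul_zero] at hr
    exact hM hr
  have hdet : (r⁻¹ • M).det = 1 := by
    rw [Matrix.det_smul, Fintype.card_fin, hr]
    field_simp
  have key : ∀ v : Fin 2 → F, (r⁻¹ • M) *ᵥ v = r⁻¹ • (M *ᵥ v) := fun v => Matrix.smul_mulVec _ _ _
  have hdet0 : (r⁻¹ • M).det ≠ 0 := by rw [hdet]; exact one_ne_zero
  refine ⟨⟨r⁻¹ • M, hdet⟩, ?_, ?_, ?_⟩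
  · rw [← h1]
    refine Eq.trans (b := Projectivization.mk F ((r⁻¹ • M) *ᵥ e1)
      (mulVec_ne_zero _ hdet0 _ e1_ne)) rfl ?_
    rw [Projectivization.mk_eq_mk_iff']
    exact ⟨r⁻¹, (key e1).symm⟩
  · rw [← h2]
    refine Eq.trans (b := Projectivization.mk F ((r⁻¹ • M) *ᵥ e2)
      (mulVec_ne_zero _ hdet0 _ e2_ne)) rfl ?_
    rw [Projectivization.mk_eq_mk_iff']
    exact ⟨r⁻¹, (key e2).symm⟩
  · rw [← h3]
    refine Eq.trans (b := Projectivization.mk F ((r⁻¹ • M) *ᵥ e12)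
      (mulVec_ne_zero _ hdet0 _ e12_ne)) rfl ?_
    rw [Projectivization.mk_eq_mk_iff']
    exact ⟨r⁻¹, (key e12).symm⟩

theorem result {F : Type*} [Field F] [Fintype F] : MulAction.IsMultiplyPretransitive (Matrix.SpecialLinearGroup (Fin 2) F) (Projectivization F (Fin 2 → F)) 3 ↔ ringChar F = 2 := by
  constructor
  · intro h3
    by_contra hF
    obtain ⟨δ, hδ⟩ := FiniteField.exists_nonsquare hF
    have hδ0 : δ ≠ 0 := by
      rintro rfl
      exact hδ ⟨0, by ring⟩
    have hv : (![δ, 1] : Fin 2 → F) ≠ 0 := fun h => by simpa using congrFun h 1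
    set pδ : ℙ F (Fin 2 → F) := Projectivization.mk F ![δ, 1] hv with hpδ
    have h1δ : (p1 : ℙ F (Fin 2 → F)) ≠ pδ := by
      rw [hpδ]; unfold p1
      rw [mk_ne_iff]
      simp [det2, e1]
    have h2δ : (p2 : ℙ F (Fin 2 → F)) ≠ pδ := by
      rw [hpδ]; unfold p2
      rw [mk_ne_iff]
      simp [det2, e2, hδ0]
    rw [MulAction.isMultiplyPretransitive_iff] at h3
    obtain ⟨g, hg⟩ := h3 ⟨![p1, p2, p12], injective_of_ne _ p1_ne_p2 p1_ne_p12 p2_ne_p12⟩
      ⟨![p1, p2, pδ], injective_of_ne _ p1_ne_p2 h1δ h2δ⟩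
    have g0 : g • (p1 : ℙ F (Fin 2 → F)) = p1 := congrFun (congrArg DFunLike.coe hg) 0
    have g1 : g • (p2 : ℙ F (Fin 2 → F)) = p2 := congrFun (congrArg DFunLike.coe hg) 1
    have g2 : g • (p12 : ℙ F (Fin 2 → F)) = pδ := congrFun (congrArg DFunLike.coe hg) 2
    set M : Matrix (Fin 2) (Fin 2) F := g.1 with hMdef
    have hdet : M.det = 1 := g.2
    have hM0 : M.det ≠ 0 := by rw [hdet]; exact one_ne_zero
    have g0' : Projectivization.mk F (M *ᵥ e1) (mulVec_ne_zero M hM0 _ e1_ne) = p1 := g0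
    have g1' : Projectivization.mk F (M *ᵥ e2) (mulVec_ne_zero M hM0 _ e2_ne) = p2 := g1
    have g2' : Projectivization.mk F (M *ᵥ e12) (mulVec_ne_zero M hM0 _ e12_ne) = pδ := g2
    unfold p1 at g0'
    unfold p2 at g1'
    rw [hpδ] at g2'
    rw [Projectivization.mk_eq_mk_iff'] at g0' g1' g2'
    obtain ⟨l, hl⟩ := g0'
    obtain ⟨m, hm⟩ := g1'
    obtain ⟨n, hn⟩ := g2'
    rw [mulVec_e1] at hl
    rw [mulVec_e2] at hm
    rw [mulVec_e12] at hn
    have a00 := congrFun hl 0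
    have a10 := congrFun hl 1
    have a01 := congrFun hm 0
    have a11 := congrFun hm 1
    have b0 := congrFun hn 0
    have b1 := congrFun hn 1
    simp [e1, e2] at a00 a10 a01 a11 b0 b1
    rw [Matrix.det_fin_two, ← a00, ← a10, ← a01, ← a11] at hdet
    rw [← a00, ← a01] at b0
    rw [← a10, ← a11] at b1
    apply hδ
    refine ⟨l, ?_⟩
    have hm0 : m ≠ 0 := by
      rintro rfl
      simp at hdet
    have : l * m = 1 := by linear_combination hdet
    have hnm : n = m := by linear_combination b1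
    rw [hnm] at b0
    linear_combination (-δ) * this + l * b0
  · intro hF
    rw [MulAction.isMultiplyPretransitive_iff]
    intro x y
    have hx : ∀ i j : Fin 3, i ≠ j → x i ≠ x j := fun i j h h' => h (x.injective h')
    have hy : ∀ i j : Fin 3, i ≠ j → y i ≠ y j := fun i j h h' => h (y.injective h')
    obtain ⟨g, g0, g1, g2⟩ := exists_sl hF (x 0) (x 1) (x 2) (hx 0 1 (by decide))
      (hx 0 2 (by decide)) (hx 1 2 (by decide))
    obtain ⟨h, h0, h1, h2⟩ := exists_sl hF (y 0) (y 1) (y 2) (hy 0 1 (by decide))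
      (hy 0 2 (by decide)) (hy 1 2 (by decide))
    refine ⟨h * g⁻¹, ?_⟩
    ext i
    rw [Function.Embedding.smul_apply, mul_smul]
    fin_cases i
    · change h • g⁻¹ • x 0 = y 0
      rw [← g0, inv_smul_smul, h0]
    · change h • g⁻¹ • x 1 = y 1
      rw [← g1, inv_smul_smul, h1]
    · change h • g⁻¹ • x 2 = y 2
      rw [← g2, inv_smul_smul, h2]

end Cfsg.Agent.S0267
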