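import Cfsg.Statements.S0268
import Mathlib

set_option autoImplicit false
open Cfsg

namespace Cfsg.Agent.S0268

theorem two_ne_zero_of_odd_card {F : Type*} [Field F] [Fintype F] (hF : Odd (Fintype.card F)) :
    (2 : F) ≠ 0 := by
  apply Ring.two_ne_zero
  intro h
  rw [FiniteField.even_card_iff_char_two] at h
  rw [Nat.odd_iff] at hF
  omega

/-- For q odd, -1 is the unique involution of SL_2(q). -/
theorem result {F : Type*} [Field F] [Fintype F] (hF : Odd (Fintype.card F)) (g : Matrix.SpecialLinearGroup (Fin 2) F) (h1 : g ≠ 1) (h2 : g * g = 1) : (g : Matrix (Fin 2) (Fin 2) F) = -1 := by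
  have h2F := two_ne_zero_of_odd_card hF
  have hdet := g.2
  rw [Matrix.det_fin_two] at hdet
  have hmul : (g : Matrix (Fin 2) (Fin 2) F) * (g : Matrix (Fin 2) (Fin 2) F) = 1 := by
    have := congrArg Subtype.val h2
    simpa using this
  have e00 := congrFun (congrFun hmul 0) 0
  have e01 := congrFun (congrFun hmul 0) 1
  have e10 := congrFun (congrFun hmul 1) 0
  have e11 := congrFun (congrFun hmul 1) 1
  simp [Matrix.mul_apply, Fin.sum_univ_two] at e00 e01 e10 e11
  set a := (g : Matrix (Fin 2) (Fin 2) F) 0 0 with ha
  set b := (g : Matrix (Fin 2) (Fin 2) F) 0 1 with hb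
  set c := (g : Matrix (Fin 2) (Fin 2) F) 1 0 with hc
  set d := (g : Matrix (Fin 2) (Fin 2) F) 1 1 with hd
  by_cases htr : a + d = 0
  · exfalso
    have hd' : d = -a := eq_neg_of_add_eq_zero_right htr
    apply h2F
    have : (2 : F) = (a * a + b * c) + (a * d - b * c) - a * (a + d) := by
      rw [e00, hdet, htr]; ring
    rw [this]
    ring
  · have hb0 : b = 0 := by
      have : b * (a + d) = 0 := by linear_combination e01
      rcases mul_eq_zero.1 this with h | h
      · exact h
      · exact absurd h htr
    have hc0 : c = 0 := by
      have : c * (a + d) = 0 := by linear_combination e10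
      rcases mul_eq_zero.1 this with h | h
      · exact h
      · exact absurd h htr
    have haa : a * a = 1 := by rw [hb0] at e00; simpa using e00
    have had : a * d = 1 := by rw [hb0] at hdet; simpa using hdet
    have hda : d = a := by
      have : a * d = a * a := by rw [haa, had]
      have ha0 : a ≠ 0 := by
        intro h0; rw [h0] at haa; simp at haa
      exact mul_left_cancel₀ ha0 this
    have ha1 : a = 1 ∨ a = -1 := by
      have : (a - 1) * (a + 1) = 0 := by linear_combination haa
      rcases mul_eq_zero.1 this with h | h
      · left; exact sub_eq_zero.1 h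
      · right; exact eq_neg_of_add_eq_zero_left h
    rcases ha1 with ha1 | ha1
    · exfalso
      apply h1
      ext i j
      fin_cases i <;> fin_cases j <;> simp
      · exact ha1
      · exact hb0
      · exact hc0
      · rw [← hd, hda]; exact ha1
    · ext i j
      fin_cases i <;> fin_cases j <;> simp
      · exact ha1
      · exact hb0
      · exact hc0
      · rw [← hd, hda]; exact ha1

end Cfsg.Agent.S0268
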