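import Cfsg.Statements.S0275
import Cfsg.Agent.S0274
import Cfsg.Agent.H2.UniqueOrderP
import Cfsg.Agent.H2.SumTwoSquaresMod
import Cfsg.Agent.Lib.Helper8.Q8Ext
import Cfsg.Agent.H9.PSL2MaxAux
import Cfsg.Agent.H9.DicksonMax

set_option autoImplicit false
open Cfsg

namespace Cfsg.Agent.S0275

/-- If p is odd and H is a subgroup of SL_2(q), q a power of p, with more than one Sylow p-subgroup, then the Sylow 2-subgroups of H are generalised quaternion. -/
theorem result {F : Type*} [Field F] [Fintype F] (p : ℕ) [Fact p.Prime] [CharP F p] (hp : p ≠ 2) (H : Subgroup (Matrix.SpecialLinearGroup (Fin 2) F)) (hH : 1 < Nat.card (Sylow p H)) (S : Sylow 2 H) : ∃ k : ℕ, 1 ≤ k ∧ Nonempty ((S : Subgroup H) ≃* QuaternionGroup (2 ^ k)) := by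
  classical
  have hpr : p.Prime := Fact.out
  have hodd : Odd p := hpr.odd_of_ne_two hp
  have h2 : (2 : F) ≠ 0 := by
    intro h
    have h' : ((2 : ℕ) : F) = 0 := by exact_mod_cast h
    rw [CharP.cast_eq_zero_iff F p] at h'
    exact hp ((Nat.prime_dvd_prime_iff_eq hpr Nat.prime_two).1 h')
  have h2p : (2 : ZMod p) ≠ 0 := by
    intro h
    have h' : ((2 : ℕ) : ZMod p) = 0 := by exact_mod_cast h
    rw [ZMod.natCast_eq_zero_iff] at h'
    exact hp ((Nat.prime_dvd_prime_iff_eq hpr Nat.prime_two).1 h')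
  -- a copy of `SL₂(p)` inside `H`
  obtain ⟨K, hKH, ⟨e⟩⟩ := Cfsg.Agent.S0274.result p hp H hH
  -- quaternion elements of `SL₂(p)`
  obtain ⟨a, b, hab⟩ := Cfsg.Agent.H2.STS.exists_zmod p hodd
  set s0 : Matrix.SpecialLinearGroup (Fin 2) (ZMod p) :=
    ⟨!![a, b; b, -a], by rw [Matrix.det_fin_two_of]; linear_combination -hab⟩ with hs0
  set t0 : Matrix.SpecialLinearGroup (Fin 2) (ZMod p) :=
    ⟨!![0, 1; -1, 0], by rw [Matrix.det_fin_two_of]; ring⟩ with ht0
  have s00 : s0.1 0 0 = a := rfl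
  have s01 : s0.1 0 1 = b := rfl
  have s10 : s0.1 1 0 = b := rfl
  have s11 : s0.1 1 1 = -a := rfl
  have t00 : t0.1 0 0 = 0 := rfl
  have t01 : t0.1 0 1 = 1 := rfl
  have t10 : t0.1 1 0 = -1 := rfl
  have t11 : t0.1 1 1 = 0 := rfl
  have hss : s0 * s0 = -1 := by
    apply Cfsg.Agent.H9.AutPSL2.ext4 <;>
      simp only [Cfsg.Agent.H9.AutPSL2.mul_00, Cfsg.Agent.H9.AutPSL2.mul_01,
        Cfsg.Agent.H9.AutPSL2.mul_10, Cfsg.Agent.H9.AutPSL2.mul_11, s00, s01, s10, s11,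
        Cfsg.Agent.H9.AutPSL2.neg_00, Cfsg.Agent.H9.AutPSL2.neg_01,
        Cfsg.Agent.H9.AutPSL2.neg_10, Cfsg.Agent.H9.AutPSL2.neg_11,
        Matrix.SpecialLinearGroup.coe_one, Matrix.one_apply_eq, Matrix.one_apply_ne,
        ne_eq, zero_ne_one, one_ne_zero, not_false_eq_true, Fin.isValue]
    · linear_combination hab
    · ring
    · ring
    · linear_combination hab
  have htt : t0 * t0 = -1 := by
    apply Cfsg.Agent.H9.AutPSL2.ext4 <;>
      simp [Cfsg.Agent.H9.AutPSL2.mul_00, Cfsg.Agent.H9.AutPSL2.mul_01,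
        Cfsg.Agent.H9.AutPSL2.mul_10, Cfsg.Agent.H9.AutPSL2.mul_11, t00, t01, t10, t11]
  have hts : t0 * s0 = -(s0 * t0) := by
    apply Cfsg.Agent.H9.AutPSL2.ext4 <;>
      simp only [Cfsg.Agent.H9.AutPSL2.neg_00, Cfsg.Agent.H9.AutPSL2.neg_01,
        Cfsg.Agent.H9.AutPSL2.neg_10, Cfsg.Agent.H9.AutPSL2.neg_11,
        Cfsg.Agent.H9.AutPSL2.mul_00, Cfsg.Agent.H9.AutPSL2.mul_01,
        Cfsg.Agent.H9.AutPSL2.mul_10, Cfsg.Agent.H9.AutPSL2.mul_11, s00, s01, s10, s11,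
        t00, t01, t10, t11] <;> ring
  have hne : s0 * t0 ≠ t0 * s0 := by
    intro h
    have e1 := congrArg (fun g : Matrix.SpecialLinearGroup (Fin 2) (ZMod p) => g.1 0 0) h
    have e2 := congrArg (fun g : Matrix.SpecialLinearGroup (Fin 2) (ZMod p) => g.1 0 1) h
    simp only [Cfsg.Agent.H9.AutPSL2.mul_00, Cfsg.Agent.H9.AutPSL2.mul_01, s00, s01, s10, s11,
      t00, t01, t10, t11] at e1 e2
    have hb0 : (2 : ZMod p) * b = 0 := by linear_combination -e1
    have ha0 : (2 : ZMod p) * a = 0 := by linear_combination e2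
    have hb : b = 0 := (mul_eq_zero.1 hb0).resolve_left h2p
    have ha : a = 0 := (mul_eq_zero.1 ha0).resolve_left h2p
    rw [ha, hb] at hab
    have : (1 : ZMod p) = 0 := by linear_combination hab
    exact one_ne_zero this
  have hA4 : s0 ^ (2 * 2) = 1 := by
    have : s0 ^ (2 * 2) = (s0 * s0) * (s0 * s0) := by
      rw [show (2 * 2 : ℕ) = 4 by norm_num]; simp only [pow_succ, pow_zero, one_mul, mul_assoc]
    rw [this, hss, neg_mul_neg, one_mul]
  have hB2 : t0 ^ 2 = s0 ^ 2 := by rw [sq, sq, hss, htt]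
  have hAB : t0 * s0 * t0⁻¹ = s0⁻¹ := by
    have h1 : s0 * (t0 * s0) = t0 := by
      rw [hts, mul_neg, ← mul_assoc, hss, neg_mul, neg_neg, one_mul]
    have h2' : t0 * s0 = s0⁻¹ * t0 := by
      rw [eq_inv_mul_iff_mul_eq]; exact h1
    rw [h2']; group
  -- transport to `H`
  set ψ : Matrix.SpecialLinearGroup (Fin 2) (ZMod p) →* H :=
    (Subgroup.inclusion hKH).comp e.symm.toMonoidHom with hψ
  have hψinj : Function.Injective ψ :=
    (Subgroup.inclusion_injective hKH).comp e.symm.injective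
  have hA4' : (ψ s0) ^ (2 * 2) = 1 := by rw [← map_pow, hA4, map_one]
  have hB2' : (ψ t0) ^ 2 = (ψ s0) ^ 2 := by rw [← map_pow, ← map_pow, hB2]
  have hAB' : ψ t0 * ψ s0 * (ψ t0)⁻¹ = (ψ s0)⁻¹ := by
    rw [← map_inv, ← map_mul, ← map_mul, hAB, map_inv]
  have hne' : ψ s0 * ψ t0 ≠ ψ t0 * ψ s0 := by
    rw [← map_mul, ← map_mul]
    exact fun h => hne (hψinj h)
  set L := Cfsg.Agent.Lib.Helper8.Q8Ext.lift (n := 2) hA4' hB2' hAB' with hL
  have hQ : IsPGroup 2 L.range := by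
    have h8 : IsPGroup 2 (QuaternionGroup 2) := by
      apply IsPGroup.of_card (n := 3)
      rw [Nat.card_eq_fintype_card, QuaternionGroup.card]; norm_num
    exact h8.of_surjective L.rangeRestrict L.rangeRestrict_surjective
  have hsQ : ψ s0 ∈ L.range := by
    refine ⟨QuaternionGroup.a 1, ?_⟩
    rw [hL, Cfsg.Agent.Lib.Helper8.Q8Ext.lift_a]
    have : (1 : ZMod (2 * 2)).val = 1 := rfl
    rw [this, pow_one]
  have htQ : ψ t0 ∈ L.range := by
    refine ⟨QuaternionGroup.xa 0, ?_⟩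
    rw [hL, Cfsg.Agent.Lib.Helper8.Q8Ext.lift_xa]
    have : (0 : ZMod (2 * 2)).val = 0 := rfl
    rw [this, pow_zero, mul_one]
  obtain ⟨S', hS'⟩ := hQ.exists_le_sylow
  have hnotcyc : ¬ IsCyclic (S : Subgroup H) := by
    intro hc
    have f : (S' : Subgroup H) ≃* (S : Subgroup H) := Sylow.equiv S' S
    exact Cfsg.Agent.H9.DicksonMax.no_cyclic (X := (S' : Subgroup H))
      ⟨ψ s0, hS' hsQ⟩ ⟨ψ t0, hS' htQ⟩ (fun h => hne' (congrArg Subtype.val h))
      f.toMonoidHom f.injective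
  -- unique subgroup of order two
  have hinv : ∀ z : (S : Subgroup H), z ≠ 1 → z ^ 2 = 1 →
      (z.1.1 : Matrix.SpecialLinearGroup (Fin 2) F) = -1 := by
    intro z hz1 hz2
    have h1 : (z.1.1 : Matrix.SpecialLinearGroup (Fin 2) F) * z.1.1 = 1 := by
      have := congrArg (fun w : (S : Subgroup H) => (w.1.1 : Matrix.SpecialLinearGroup (Fin 2) F)) hz2
      simpa [sq] using this
    rcases Cfsg.Agent.H9.PSL2MaxAux.sq_eq_one h2 _ h1 with h | h
    · exfalso
      apply hz1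
      apply Subtype.ext
      apply Subtype.ext
      exact h
    · exact h
  have hsub : ∀ A : Subgroup (S : Subgroup H), Nat.card A = 2 →
      ∃ z : (S : Subgroup H), z ≠ 1 ∧ z ^ 2 = 1 ∧ A = Subgroup.zpowers z := by
    intro A hA
    have hnt : A ≠ ⊥ := by
      intro h
      rw [h, Subgroup.card_bot] at hA
      omega
    obtain ⟨z, hzA, hz1⟩ := (Subgroup.ne_bot_iff_exists_ne_one (H := A)).1 hnt |>.imp
      (fun z hz => hz) |> fun ⟨z, hz⟩ => (⟨z.1, z.2, fun h => hz (Subtype.ext h)⟩ :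
        ∃ z : (S : Subgroup H), z ∈ A ∧ z ≠ 1)
    have ho : orderOf z ∣ 2 := by
      have h1 : orderOf (⟨z, hzA⟩ : A) ∣ Nat.card A := orderOf_dvd_natCard _
      rw [hA] at h1
      rwa [Subgroup.orderOf_mk] at h1
    have hz2 : z ^ 2 = 1 := orderOf_dvd_iff_pow_eq_one.1 ho
    have ho2 : orderOf z = 2 := by
      rcases (Nat.dvd_prime Nat.prime_two).1 ho with h | h
      · rw [orderOf_eq_one_iff] at h
        exact absurd h hz1
      · exact h
    refine ⟨z, hz1, hz2, ?_⟩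
    symm
    apply Subgroup.eq_of_le_of_card_ge
    · rw [Subgroup.zpowers_le]; exact hzA
    · rw [Nat.card_zpowers, ho2, hA]
  have huniq : ∀ A B : Subgroup (S : Subgroup H), Nat.card A = 2 → Nat.card B = 2 → A = B := by
    intro A B hA hB
    obtain ⟨z, hz1, hz2, rfl⟩ := hsub A hA
    obtain ⟨w, hw1, hw2, rfl⟩ := hsub B hB
    have : z = w := by
      apply Subtype.ext
      apply Subtype.ext
      rw [hinv z hz1 hz2, hinv w hw1 hw2]
    rw [this]
  rcases Cfsg.Agent.H2.UOP.main 2 S.isPGroup' huniq with hc | ⟨-, n, ⟨f⟩⟩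
  · exact absurd hc hnotcyc
  · rcases Nat.eq_zero_or_pos n with rfl | hn
    · exfalso
      apply hnotcyc
      have := QuaternionGroup.quaternionGroup_one_isCyclic
      rw [pow_zero] at f
      exact isCyclic_of_surjective f.symm.toMonoidHom f.symm.surjective
    · exact ⟨n, hn, ⟨f⟩⟩

end Cfsg.Agent.S0275
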