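import Cfsg.Statements.S0276
import Mathlib
import Cfsg.Agent.S0800
import Cfsg.Agent.S0262
import Cfsg.Agent.S0243

set_option autoImplicit false
open Cfsg

namespace Cfsg.Agent.S0276

open Matrix

section
variable {F : Type*} [Field F]

/-- the only involution of `SL₂(F)` in odd characteristic is `-1` -/
theorem sq_eq_one_sl (hchar : (2 : F) ≠ 0) (g : Matrix (Fin 2) (Fin 2) F) (hdet : g.det = 1)
    (h2 : g * g = 1) : g = 1 ∨ g = -1 := by
  have hch := Cfsg.Agent.S0800.cayley g hdet
  rw [h2] at hch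
  have e00 := congrFun (congrFun hch 0) 0
  have e01 := congrFun (congrFun hch 0) 1
  have e10 := congrFun (congrFun hch 1) 0
  have e11 := congrFun (congrFun hch 1) 1
  simp only [Matrix.add_apply, Matrix.one_apply_eq, Matrix.smul_apply, smul_eq_mul,
    Matrix.one_apply_ne (show (0 : Fin 2) ≠ 1 by decide),
    Matrix.one_apply_ne (show (1 : Fin 2) ≠ 0 by decide), add_zero] at e00 e01 e10 e11
  have ht : g.trace ≠ 0 := by
    intro h0
    rw [h0, zero_mul] at e00
    apply hchar
    rw [← e00]; norm_num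
  have h01 : g 0 1 = 0 := by
    rcases mul_eq_zero.1 e01.symm with h | h
    · exact absurd h ht
    · exact h
  have h10 : g 1 0 = 0 := by
    rcases mul_eq_zero.1 e10.symm with h | h
    · exact absurd h ht
    · exact h
  have h0011 : g 0 0 = g 1 1 := by
    apply mul_left_cancel₀ ht
    rw [← e00, ← e11]
  rw [Matrix.det_fin_two, h01, h10, ← h0011] at hdet
  have hsq : (g 0 0 - 1) * (g 0 0 + 1) = 0 := by linear_combination hdet
  rcases mul_eq_zero.1 hsq with h | h
  · left
    ext i j
    fin_cases i <;> fin_cases j <;> simp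
    · linear_combination h
    · exact h01
    · exact h10
    · rw [← h0011]; linear_combination h
  · right
    ext i j
    fin_cases i <;> fin_cases j <;> simp
    · linear_combination h
    · exact h01
    · exact h10
    · rw [← h0011]; linear_combination h

end

theorem result {F : Type*} [Field F] [Fintype F] {q : ℕ} (hF : Fintype.card F = q) (hq : q % 8 = 3 ∨ q % 8 = 5) (P : Sylow 2 (Matrix.ProjectiveSpecialLinearGroup (Fin 2) F)) : IsKleinFour (P : Subgroup (Matrix.ProjectiveSpecialLinearGroup (Fin 2) F)) := by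
  classical
  obtain ⟨p, hp⟩ := CharP.exists F
  haveI := hp
  have hprime : p.Prime := CharP.char_is_prime F p
  haveI : Fact p.Prime := ⟨hprime⟩
  obtain ⟨k, -, hk⟩ := FiniteField.card F p
  have hqp : q = p ^ (k : ℕ) := by rw [← hF, hk]
  have hp2 : p ≠ 2 := by
    rintro rfl
    have : 2 ∣ q := by rw [hqp]; exact dvd_pow_self 2 k.ne_zero
    omega
  have hchar : (2 : F) ≠ 0 := by
    intro h
    have h2 : ((2 : ℕ) : F) = 0 := by exact_mod_cast h
    rw [CharP.cast_eq_zero_iff F p 2] at h2
    exact hp2 ((Nat.prime_dvd_prime_iff_eq hprime Nat.prime_two).1 h2)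
  have hcop : Nat.Coprime 8 p := by
    have : Nat.Coprime 2 p := (Nat.coprime_primes Nat.prime_two hprime).2 (Ne.symm hp2)
    exact Nat.Coprime.pow_left 3 this
  -- cardinalities
  have hcardSL : Nat.card (Matrix.SpecialLinearGroup (Fin 2) F) = q * (q - 1) * (q + 1) := by
    rw [Cfsg.Agent.S0262.card_sl_two, hF]
  have hcardZ : Nat.card (Subgroup.center (Matrix.SpecialLinearGroup (Fin 2) F)) = 2 := by
    rw [Cfsg.Agent.S0243.card_center_sl 2 (by norm_num), hF]
    have h2 : 2 ∣ q - 1 := by omega
    exact Nat.gcd_eq_left h2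
  have hquot := Subgroup.card_eq_card_quotient_mul_card_subgroup
    (Subgroup.center (Matrix.SpecialLinearGroup (Fin 2) F))
  rw [hcardSL, hcardZ] at hquot
  have hcardPSL : ∃ t, ¬ 2 ∣ t ∧ t ≠ 0 ∧
      Nat.card (Matrix.ProjectiveSpecialLinearGroup (Fin 2) F) = 4 * t := by
    unfold Matrix.ProjectiveSpecialLinearGroup
    generalize Nat.card (Matrix.SpecialLinearGroup (Fin 2) F ⧸
      Subgroup.center (Matrix.SpecialLinearGroup (Fin 2) F)) = s at hquot ⊢
    rcases hq with h | h
    · obtain ⟨m, rfl⟩ : ∃ m, q = 8 * m + 3 := ⟨q / 8, by omega⟩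
      refine ⟨(8 * m + 3) * (4 * m + 1) * (2 * m + 1), ?_, ?_, ?_⟩
      · rw [Nat.Prime.dvd_mul Nat.prime_two, Nat.Prime.dvd_mul Nat.prime_two]
        omega
      · positivity
      · have h1 : 8 * m + 3 - 1 = 2 * (4 * m + 1) := by omega
        rw [h1] at hquot
        have : s * 2 = (4 * ((8 * m + 3) * (4 * m + 1) * (2 * m + 1))) * 2 := by
          rw [← hquot]; ring
        exact Nat.eq_of_mul_eq_mul_right (by norm_num) this
    · obtain ⟨m, rfl⟩ : ∃ m, q = 8 * m + 5 := ⟨q / 8, by omega⟩
      refine ⟨(8 * m + 5) * (2 * m + 1) * (4 * m + 3), ?_, ?_, ?_⟩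
      · rw [Nat.Prime.dvd_mul Nat.prime_two, Nat.Prime.dvd_mul Nat.prime_two]
        omega
      · positivity
      · have h1 : 8 * m + 5 - 1 = 4 * (2 * m + 1) := by omega
        rw [h1] at hquot
        have : s * 2 = (4 * ((8 * m + 5) * (2 * m + 1) * (4 * m + 3))) * 2 := by
          rw [← hquot]; ring
        exact Nat.eq_of_mul_eq_mul_right (by norm_num) this
  obtain ⟨t, ht2, ht0, hcard⟩ := hcardPSL
  have hcardP : Nat.card (P : Subgroup (Matrix.ProjectiveSpecialLinearGroup (Fin 2) F)) = 4 := by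
    rw [Sylow.card_eq_multiplicity, hcard, Nat.factorization_mul (by norm_num) ht0]
    have h4 : (4 : ℕ) = 2 ^ 2 := by norm_num
    rw [Finsupp.add_apply, Nat.factorization_eq_zero_of_not_dvd ht2, h4,
      Nat.Prime.factorization_pow Nat.prime_two]
    simp
  -- every element of P squares to one
  have hsq : ∀ x : (P : Subgroup (Matrix.ProjectiveSpecialLinearGroup (Fin 2) F)), x ^ 2 = 1 := by
    intro x
    have hx4 : x ^ 4 = 1 := by rw [← hcardP]; exact pow_card_eq_one'
    obtain ⟨x, hxP⟩ := x
    apply Subtype.ext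
    have hx4' : x ^ 4 = 1 := by
      have := congrArg Subtype.val hx4
      simpa using this
    change x ^ 2 = 1
    obtain ⟨g, rfl⟩ := QuotientGroup.mk_surjective x
    rw [← QuotientGroup.mk_pow, QuotientGroup.eq_one_iff] at hx4' ⊢
    rw [Matrix.SpecialLinearGroup.mem_center_iff] at hx4'
    obtain ⟨r, hr, hrg⟩ := hx4'
    rw [Fintype.card_fin] at hr
    have hg8 : g ^ 8 = 1 := by
      apply Subtype.ext
      have h1 : g ^ 8 = g ^ 4 * g ^ 4 := by rw [← pow_add]
      rw [h1, Matrix.SpecialLinearGroup.coe_mul, ← hrg, ← map_mul, ← pow_two, hr, map_one]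
      rfl
    have ho8 : orderOf g ∣ 8 := orderOf_dvd_of_pow_eq_one hg8
    have hgp : Nat.Coprime (orderOf g) p := Nat.Coprime.coprime_dvd_left ho8 hcop
    have ho4 : orderOf g ∣ 4 := by
      rcases Cfsg.Agent.S0800.result hF p g hgp with h | h
      · have h1 := Nat.dvd_gcd ho8 h
        rw [Nat.gcd_rec] at h1
        rcases hq with h' | h'
        · have : (q - 1) % 8 = 2 := by omega
          rw [this] at h1
          exact h1.trans (by decide)
        · have : (q - 1) % 8 = 4 := by omega
          rw [this] at h1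
          exact h1.trans (by decide)
      · have h1 := Nat.dvd_gcd ho8 h
        rw [Nat.gcd_rec] at h1
        rcases hq with h' | h'
        · have : (q + 1) % 8 = 4 := by omega
          rw [this] at h1
          exact h1.trans (by decide)
        · have : (q + 1) % 8 = 6 := by omega
          rw [this] at h1
          exact h1.trans (by decide)
    have hg4 : g ^ 4 = 1 := orderOf_dvd_iff_pow_eq_one.1 ho4
    have hmat : (g ^ 2).1 * (g ^ 2).1 = 1 := by
      rw [← Matrix.SpecialLinearGroup.coe_mul, ← pow_add, hg4]; rfl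
    rw [Matrix.SpecialLinearGroup.mem_center_iff]
    rcases sq_eq_one_sl hchar (g ^ 2).1 (g ^ 2).2 hmat with h | h
    · refine ⟨1, one_pow _, ?_⟩
      rw [h, map_one]
    · refine ⟨-1, by simp, ?_⟩
      rw [h, map_neg, map_one]
  refine ⟨hcardP, ?_⟩
  have hdvd : Monoid.exponent (P : Subgroup (Matrix.ProjectiveSpecialLinearGroup (Fin 2) F)) ∣ 2 :=
    Monoid.exponent_dvd_of_forall_pow_eq_one hsq
  rcases (Nat.dvd_prime Nat.prime_two).1 hdvd with h | h
  · exfalso
    rw [Monoid.exp_eq_one_iff] at h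
    have := Nat.card_eq_one_iff_unique.2 ⟨h, ⟨1⟩⟩
    omega
  · exact h

end Cfsg.Agent.S0276
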