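import Cfsg.Statements.S0284
import Mathlib
import Cfsg.Agent.Lib.Helper5.HermCount

set_option autoImplicit false
open Cfsg

namespace Cfsg.Agent.S0284

open Cfsg.Agent.Lib.Helper5.HermCount Cfsg.Agent.Lib.Helper5.Herm

/-- Over the field with q^2 elements, the number of vectors of norm 1 for the standard Hermitian form on n-space is q^{n-1}(q^n - (-1)^n). -/
theorem result {F : Type*} [Field F] [Fintype F] {q : ℕ} (hF : Fintype.card F = q ^ 2) (n : ℕ) : Nat.card {v : Fin n → F // Cfsg.hermForm n F q v v = 1} = (if Even n then q ^ (n - 1) * (q ^ n - 1) else q ^ (n - 1) * (q ^ n + 1)) := by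
  have hq := one_lt_q hF
  rw [card_hermForm_eq, (cnt_eq_uz hF n).1 1 one_ne_zero (one_pow q)]
  have h1 := (uz_closed (show 2 ≤ q by omega) n).1
  rcases Nat.eq_zero_or_pos n with rfl | hn
  · simp [uz]
  obtain ⟨k, rfl⟩ : ∃ k, n = k + 1 := ⟨n - 1, by omega⟩
  simp only [Nat.add_sub_cancel]
  have hq0 : (q : ℤ) ≠ 0 := by
    have : (0 : ℤ) < q := by exact_mod_cast (show 0 < q by omega)
    exact this.ne'
  have h2 : ((uz q (k + 1)).1 : ℤ) = (q : ℤ) ^ k * ((q : ℤ) ^ (k + 1) - (-1) ^ (k + 1)) := by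
    apply mul_left_cancel₀ hq0
    rw [h1, pow_succ]; ring
  have hp : 1 ≤ q ^ (k + 1) := Nat.one_le_pow _ _ (by omega)
  split_ifs with he
  · rw [he.neg_one_pow] at h2
    have : (((q ^ k * (q ^ (k + 1) - 1) : ℕ)) : ℤ) = (q : ℤ) ^ k * ((q : ℤ) ^ (k + 1) - 1) := by
      push_cast [hp]; ring
    exact_mod_cast h2.trans this.symm
  · rw [Nat.not_even_iff_odd] at he
    rw [he.neg_one_pow] at h2
    have : (((q ^ k * (q ^ (k + 1) + 1) : ℕ)) : ℤ) = (q : ℤ) ^ k * ((q : ℤ) ^ (k + 1) - -1) := by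
      push_cast; ring
    exact_mod_cast h2.trans this.symm

end Cfsg.Agent.S0284
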