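import Cfsg.Statements.S0285
import Mathlib
import Cfsg.Agent.Lib.Helper5.HermCount

set_option autoImplicit false
open Cfsg

namespace Cfsg.Agent.S0285

open Cfsg.Agent.Lib.Helper5.HermCount Cfsg.Agent.Lib.Helper5.Herm

/-- Over the field with q^2 elements, the number of vectors of norm 0 (including the zero vector) for the standard Hermitian form on n-space is (q^n - (-1)^n)(q^{n-1} + (-1)^n) + 1. -/
theorem result {F : Type*} [Field F] [Fintype F] {q : ℕ} (hF : Fintype.card F = q ^ 2) (n : ℕ) : Nat.card {v : Fin n → F // Cfsg.hermForm n F q v v = 0} = (if Even n then (q ^ n - 1) * (q ^ (n - 1) + 1) else (q ^ n + 1) * (q ^ (n - 1) - 1)) + 1 := by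
  have hq := one_lt_q hF
  rw [card_hermForm_eq, (cnt_eq_uz hF n).2]
  obtain ⟨h1, h3⟩ := uz_closed (show 2 ≤ q by omega) n
  rcases Nat.eq_zero_or_pos n with rfl | hn
  · simp [uz]
  obtain ⟨k, rfl⟩ : ∃ k, n = k + 1 := ⟨n - 1, by omega⟩
  simp only [Nat.add_sub_cancel]
  have hq0 : (q : ℤ) ≠ 0 := by
    have : (0 : ℤ) < q := by exact_mod_cast (show 0 < q by omega)
    exact this.ne'
  have h2 : ((uz q (k + 1)).1 : ℤ) = (q : ℤ) ^ k * ((q : ℤ) ^ (k + 1) - (-1) ^ (k + 1)) := by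
    apply mul_left_cancel₀ hq0
    rw [h1, pow_succ]; ring
  have h4 : ((uz q (k + 1)).2 : ℤ) = (q : ℤ) ^ (2 * (k + 1)) -
      ((q : ℤ) - 1) * ((q : ℤ) ^ k * ((q : ℤ) ^ (k + 1) - (-1) ^ (k + 1))) := by
    rw [← h2]; linarith
  have hp : 1 ≤ q ^ (k + 1) := Nat.one_le_pow _ _ (by omega)
  have hp' : 1 ≤ q ^ k := Nat.one_le_pow _ _ (by omega)
  have e2 : (q : ℤ) ^ (2 * (k + 1)) = (q : ℤ) ^ (k + 1) * (q : ℤ) ^ (k + 1) := by
    rw [two_mul, pow_add]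
  split_ifs with he
  · rw [he.neg_one_pow] at h4
    have : ((((q ^ (k + 1) - 1) * (q ^ k + 1) + 1 : ℕ)) : ℤ) =
        ((q : ℤ) ^ (k + 1) - 1) * ((q : ℤ) ^ k + 1) + 1 := by
      push_cast [hp]; ring
    have h5 : ((uz q (k + 1)).2 : ℤ) = ((((q ^ (k + 1) - 1) * (q ^ k + 1) + 1 : ℕ)) : ℤ) := by
      rw [this, h4, e2, pow_succ]; ring
    exact_mod_cast h5
  · rw [Nat.not_even_iff_odd] at he
    rw [he.neg_one_pow] at h4
    have : ((((q ^ (k + 1) + 1) * (q ^ k - 1) + 1 : ℕ)) : ℤ) =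
        ((q : ℤ) ^ (k + 1) + 1) * ((q : ℤ) ^ k - 1) + 1 := by
      push_cast [hp']; ring
    have h5 : ((uz q (k + 1)).2 : ℤ) = ((((q ^ (k + 1) + 1) * (q ^ k - 1) + 1 : ℕ)) : ℤ) := by
      rw [this, h4, e2, pow_succ]; ring
    exact_mod_cast h5

end Cfsg.Agent.S0285
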