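import Cfsg.Statements.S0299
import Mathlib
import Cfsg.Agent.H9.Plus4f

set_option autoImplicit false
open Cfsg

namespace Cfsg.Agent.S0299

/-- PΩ^+_4(q) is isomorphic to PSL_2(q) x PSL_2(q) for q at least 3. -/
theorem result {F : Type*} [Field F] [Fintype F] (hF : 3 ≤ Fintype.card F) : Nonempty (Cfsg.POmega F (Cfsg.quadFormPlus 2 F) ≃* Matrix.ProjectiveSpecialLinearGroup (Fin 2) F × Matrix.ProjectiveSpecialLinearGroup (Fin 2) F) := by
  classical
  have hΩ := Cfsg.Agent.H9.Plus4.Omega_eq hF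
  let sig : Matrix.SpecialLinearGroup (Fin 2) F × Matrix.SpecialLinearGroup (Fin 2) F →*
      Cfsg.isometryGroup F (Cfsg.quadFormPlus 2 F) := Cfsg.Agent.H9.Plus4.sig
  -- into Ω
  let sig' : Matrix.SpecialLinearGroup (Fin 2) F × Matrix.SpecialLinearGroup (Fin 2) F →*
      Cfsg.Omega F (Cfsg.quadFormPlus 2 F) :=
    sig.codRestrict _ (fun p => by rw [hΩ]; exact ⟨p, rfl⟩)
  have hsig'_surj : Function.Surjective sig' := by
    rintro ⟨w, hw⟩
    rw [hΩ] at hw
    obtain ⟨p, rfl⟩ := hw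
    exact ⟨p, rfl⟩
  let Φ : Matrix.SpecialLinearGroup (Fin 2) F × Matrix.SpecialLinearGroup (Fin 2) F →*
      Cfsg.POmega F (Cfsg.quadFormPlus 2 F) :=
    (QuotientGroup.mk' (Subgroup.center (Cfsg.Omega F (Cfsg.quadFormPlus 2 F)))).comp sig'
  have hΦ_surj : Function.Surjective Φ :=
    (QuotientGroup.mk'_surjective _).comp hsig'_surj
  let Ψ : Matrix.SpecialLinearGroup (Fin 2) F × Matrix.SpecialLinearGroup (Fin 2) F →*
      Matrix.ProjectiveSpecialLinearGroup (Fin 2) F × Matrix.ProjectiveSpecialLinearGroup (Fin 2) F :=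
    MonoidHom.prodMap (QuotientGroup.mk' _) (QuotientGroup.mk' _)
  have hΨ_surj : Function.Surjective Ψ := by
    rintro ⟨x, y⟩
    obtain ⟨X, rfl⟩ := QuotientGroup.mk'_surjective _ x
    obtain ⟨Y, rfl⟩ := QuotientGroup.mk'_surjective _ y
    exact ⟨(X, Y), rfl⟩
  have hker : Φ.ker = Ψ.ker := by
    ext p
    rw [MonoidHom.mem_ker, MonoidHom.mem_ker]
    have hΨ : Ψ p = 1 ↔ p.1 ∈ Subgroup.center (Matrix.SpecialLinearGroup (Fin 2) F) ∧
        p.2 ∈ Subgroup.center (Matrix.SpecialLinearGroup (Fin 2) F) := by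
      change ((QuotientGroup.mk' _ p.1, QuotientGroup.mk' _ p.2) : _ × _) = 1 ↔ _
      rw [Prod.ext_iff]
      simp only [Prod.fst_one, Prod.snd_one, QuotientGroup.mk'_apply, QuotientGroup.eq_one_iff]
    have hΦ : Φ p = 1 ↔ sig' p ∈ Subgroup.center (Cfsg.Omega F (Cfsg.quadFormPlus 2 F)) := by
      change (QuotientGroup.mk' _ (sig' p)) = 1 ↔ _
      rw [QuotientGroup.mk'_apply, QuotientGroup.eq_one_iff]
    rw [hΦ, hΨ, Subgroup.mem_center_iff]
    constructor
    · intro h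
      apply Cfsg.Agent.H9.Plus4.center_of_sig_comm
      intro p2
      have := congrArg Subtype.val (h (sig' p2))
      exact this
    · rintro ⟨h1, h2⟩ w
      obtain ⟨p2, rfl⟩ := hsig'_surj w
      apply Subtype.ext
      change sig p2 * sig p = sig p * sig p2
      exact Cfsg.Agent.H9.Plus4.sig_central p h1 h2 (Cfsg.Agent.H9.Plus4.inc p2)
  exact ⟨((QuotientGroup.quotientKerEquivOfSurjective Φ hΦ_surj).symm.trans
    (QuotientGroup.quotientMulEquivOfEq hker)).trans
    (QuotientGroup.quotientKerEquivOfSurjective Ψ hΨ_surj)⟩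

end Cfsg.Agent.S0299
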