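import Cfsg.Statements.S0300
import Mathlib
import Cfsg.Agent.H9.Minus4e
import Cfsg.Agent.H9.Adj3

set_option autoImplicit false
open Cfsg

namespace Cfsg.Agent.S0300

/-- PΩ^-_4(q) is isomorphic to PSL_2(q^2). -/
theorem result {F K : Type*} [Field F] [Fintype F] [Field K] [Fintype K] {q : ℕ} (hF : Fintype.card F = q) (hK : Fintype.card K = q ^ 2) (a b : F) (hab : ∀ z₁ z₂ : F, z₁ ^ 2 + a * z₁ * z₂ + b * z₂ ^ 2 = 0 → z₁ = 0 ∧ z₂ = 0) : Nonempty (Cfsg.POmega F (Cfsg.quadFormMinus 1 F a b) ≃* Matrix.ProjectiveSpecialLinearGroup (Fin 2) K) := by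
  classical
  obtain ⟨φ, hker, hrange⟩ := Cfsg.Agent.H9.Minus4.exists_hom (a := a) (b := b) hF hK hab
  let e1 : Matrix.ProjectiveSpecialLinearGroup (Fin 2) K ≃* φ.range :=
    (QuotientGroup.quotientMulEquivOfEq hker.symm).trans (QuotientGroup.quotientKerEquivRange φ)
  let e2 : Cfsg.Omega F (Cfsg.quadFormMinus 1 F a b) ≃* φ.range := MulEquiv.subgroupCongr hrange.symm
  let e : Cfsg.Omega F (Cfsg.quadFormMinus 1 F a b) ≃* Matrix.ProjectiveSpecialLinearGroup (Fin 2) K :=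
    e2.trans e1.symm
  have hcen : Subgroup.center (Cfsg.Omega F (Cfsg.quadFormMinus 1 F a b)) = ⊥ := by
    rw [eq_bot_iff]
    intro x hx
    rw [Subgroup.mem_bot]
    have h1 : e x ∈ Subgroup.center (Matrix.ProjectiveSpecialLinearGroup (Fin 2) K) :=
      (Cfsg.Agent.H9.Minus4.center_iff e x).1 hx
    rw [Cfsg.Agent.H9.Adj.center_PSL2, Subgroup.mem_bot] at h1
    exact e.injective (h1.trans (map_one e).symm)
  exact ⟨((QuotientGroup.quotientMulEquivOfEq hcen).trans QuotientGroup.quotientBot).trans e⟩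

end Cfsg.Agent.S0300
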