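import Cfsg.Statements.S0302
import Mathlib
import Cfsg.Agent.H9.Klein6e
import Cfsg.Agent.S0249

set_option autoImplicit false
open Cfsg

namespace Cfsg.Agent.S0302

open scoped commutatorElement

/-- PΩ^+_6(q) is isomorphic to PSL_4(q). -/
theorem result {F : Type*} [Field F] [Fintype F] : Nonempty (Cfsg.POmega F (Cfsg.quadFormPlus 3 F) ≃* Matrix.ProjectiveSpecialLinearGroup (Fin 4) F) := by
  classical
  have hΩ := Cfsg.Agent.H9.Klein6.Omega_eq_range (F := F)
  let RO : Matrix.SpecialLinearGroup (Fin 4) F →*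
      Cfsg.isometryGroup F (Cfsg.quadFormPlus 3 F) := Cfsg.Agent.H9.Klein6.RO
  let RO' : Matrix.SpecialLinearGroup (Fin 4) F →* Cfsg.Omega F (Cfsg.quadFormPlus 3 F) :=
    RO.codRestrict _ (fun p => by rw [hΩ]; exact ⟨p, rfl⟩)
  have hRO'_surj : Function.Surjective RO' := by
    rintro ⟨w, hw⟩
    rw [hΩ] at hw
    obtain ⟨p, rfl⟩ := hw
    exact ⟨p, rfl⟩
  let Φ : Matrix.SpecialLinearGroup (Fin 4) F →* Cfsg.POmega F (Cfsg.quadFormPlus 3 F) :=
    (QuotientGroup.mk' (Subgroup.center (Cfsg.Omega F (Cfsg.quadFormPlus 3 F)))).comp RO'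
  have hΦ_surj : Function.Surjective Φ :=
    (QuotientGroup.mk'_surjective _).comp hRO'_surj
  -- the centre of PSL₄ is trivial
  have hsimple : IsSimpleGroup (Matrix.ProjectiveSpecialLinearGroup (Fin 4) F) :=
    Cfsg.Agent.S0249.result 4 (by norm_num)
  have hperfSL : commutator (Matrix.SpecialLinearGroup (Fin 4) F) = ⊤ :=
    Cfsg.Agent.S0248.result 4 (by norm_num)
  have hperfP : commutator (Matrix.ProjectiveSpecialLinearGroup (Fin 4) F) = ⊤ := by
    have h := Subgroup.map_commutator (⊤ : Subgroup (Matrix.SpecialLinearGroup (Fin 4) F)) ⊤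
      (QuotientGroup.mk' (Subgroup.center (Matrix.SpecialLinearGroup (Fin 4) F)))
    rw [← commutator_def, hperfSL, ← MonoidHom.range_eq_map,
      MonoidHom.range_eq_top.2 (QuotientGroup.mk'_surjective _)] at h
    exact h.symm
  have hcenP : Subgroup.center (Matrix.ProjectiveSpecialLinearGroup (Fin 4) F) = ⊥ := by
    rcases (Subgroup.Normal.eq_bot_or_eq_top
      (inferInstance : (Subgroup.center (Matrix.ProjectiveSpecialLinearGroup (Fin 4) F)).Normal))
      with h | h
    · exact h
    · exfalso
      have h1 := (commutator_eq_bot_iff_center_eq_top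
        (G := Matrix.ProjectiveSpecialLinearGroup (Fin 4) F)).2 h
      rw [hperfP] at h1
      exact top_ne_bot h1
  have hker : Φ.ker = Subgroup.center (Matrix.SpecialLinearGroup (Fin 4) F) := by
    ext A
    rw [MonoidHom.mem_ker]
    have hΦ : Φ A = 1 ↔ RO' A ∈ Subgroup.center (Cfsg.Omega F (Cfsg.quadFormPlus 3 F)) := by
      change (QuotientGroup.mk' _ (RO' A)) = 1 ↔ _
      rw [QuotientGroup.mk'_apply, QuotientGroup.eq_one_iff]
    rw [hΦ]
    constructor
    · intro h
      rw [Subgroup.mem_center_iff] at h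
      -- commutators lie in the kernel
      have hcomm : ∀ B : Matrix.SpecialLinearGroup (Fin 4) F,
          ⁅A, B⁆ ∈ Subgroup.center (Matrix.SpecialLinearGroup (Fin 4) F) := by
        intro B
        have hk : ⁅A, B⁆ ∈ RO.ker := by
          rw [MonoidHom.mem_ker, map_commutatorElement, commutatorElement_eq_one_iff_mul_comm]
          have := congrArg Subtype.val (h (RO' B))
          exact this.symm
        rcases (Cfsg.Agent.H9.Klein6.mem_ker_iff _).1 hk with h1 | h1
        · have : ⁅A, B⁆ = 1 := Subtype.ext h1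
          rw [this]; exact Subgroup.one_mem _
        · rw [Subgroup.mem_center_iff]
          intro C
          apply Subtype.ext
          change C.1 * (⁅A, B⁆).1 = (⁅A, B⁆).1 * C.1
          rw [h1]
          simp
      have hA : (QuotientGroup.mk' (Subgroup.center (Matrix.SpecialLinearGroup (Fin 4) F)) A) ∈
          Subgroup.center (Matrix.ProjectiveSpecialLinearGroup (Fin 4) F) := by
        rw [Subgroup.mem_center_iff]
        intro y
        obtain ⟨B, rfl⟩ := QuotientGroup.mk'_surjective _ y
        have h1 : (QuotientGroup.mk' (Subgroup.center (Matrix.SpecialLinearGroup (Fin 4) F)))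
            ⁅A, B⁆ = 1 := by
          rw [QuotientGroup.mk'_apply, QuotientGroup.eq_one_iff]
          exact hcomm B
        rw [map_commutatorElement, commutatorElement_eq_one_iff_mul_comm] at h1
        exact h1.symm
      rw [hcenP, Subgroup.mem_bot, QuotientGroup.mk'_apply, QuotientGroup.eq_one_iff] at hA
      exact hA
    · intro h
      rw [Subgroup.mem_center_iff] at h ⊢
      intro w
      obtain ⟨B, rfl⟩ := hRO'_surj w
      rw [← map_mul, ← map_mul, h B]
  exact ⟨(QuotientGroup.quotientKerEquivOfSurjective Φ hΦ_surj).symm.trans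
    (QuotientGroup.quotientMulEquivOfEq hker)⟩

end Cfsg.Agent.S0302
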