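import Cfsg.Statements.S0303
import Mathlib
import Cfsg.Agent.Lib.Helper5.U4O6.Main
import Cfsg.Agent.H9.PerfCentral

set_option autoImplicit false
open Cfsg

namespace Cfsg.Agent.S0303

/-- PΩ^-_6(q) is isomorphic to PSU_4(q). -/
theorem result {F K : Type*} [Field F] [Fintype F] [Field K] [Fintype K] {q : ℕ} (hF : Fintype.card F = q) (hK : Fintype.card K = q ^ 2) (a b : F) (hab : ∀ z₁ z₂ : F, z₁ ^ 2 + a * z₁ * z₂ + b * z₂ ^ 2 = 0 → z₁ = 0 ∧ z₂ = 0) : Nonempty (Cfsg.POmega F (Cfsg.quadFormMinus 2 F a b) ≃* Cfsg.PSU 4 K q) := by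
  classical
  subst hF
  haveI : Fact (Cfsg.Agent.H9.Minus4.QE.Aniso a b) := ⟨hab⟩
  obtain ⟨e1⟩ := Cfsg.Agent.H9.PerfCentral.nonempty_mulEquiv
    (Cfsg.Agent.Lib.Helper5.U4O6.commutator_SU4 (F := F) (a := a) (b := b))
    Cfsg.Agent.Lib.Helper5.U4O6.ROU Cfsg.Agent.Lib.Helper5.U4O6.ker_le_center _
    Cfsg.Agent.Lib.Helper5.U4O6.Omega_eq_range
  have hcard : Fintype.card (Cfsg.Agent.H9.Minus4.QE F a b) = Fintype.card K := by
    rw [hK, Cfsg.Agent.H9.Minus4.QE.card_eq]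
  let e : Cfsg.Agent.H9.Minus4.QE F a b ≃+* K := FiniteField.ringEquivOfCardEq hcard
  exact ⟨e1.trans (Cfsg.Agent.Lib.Helper8.SUTransport.psuEquiv e 4 (Fintype.card F))⟩

end Cfsg.Agent.S0303
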