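import Cfsg.Statements.S0305
import Mathlib
import Cfsg.Agent.Lib.Helper5.QuadIso
import Cfsg.Agent.Lib.Helper5.DihedralRecog
import Cfsg.Agent.S0287

set_option autoImplicit false
open Cfsg

namespace Cfsg.Agent.S0305

open Matrix Cfsg.Agent.S0750 Cfsg.Agent.Lib.Helper5.QuadFrames Cfsg.Agent.Lib.Helper5.QuadIso
  Cfsg.Agent.Lib.Helper5.DihedralRecog Cfsg.Agent.S0287

section
variable {F : Type*} [Field F]

theorem QP_one (v : Fin 1 ⊕ Fin 1 → F) : QP 1 v = v (Sum.inl 0) * v (Sum.inr 0) := by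
  rw [QP_apply]
  unfold quadFormPlus
  simp

/-- the linear map `(x, y) ↦ (t y, t⁻¹ x)` -/
def swapL (t : F) : (Fin 1 ⊕ Fin 1 → F) →ₗ[F] (Fin 1 ⊕ Fin 1 → F) where
  toFun v := Sum.elim (fun _ => t * v (Sum.inr 0)) (fun _ => t⁻¹ * v (Sum.inl 0))
  map_add' u v := by
    funext c
    rcases c with c | c <;> simp [mul_add]
  map_smul' s v := by
    funext c
    rcases c with c | c <;> simp <;> ring

theorem swapL_isometry (t : F) (ht : t ≠ 0) (v : Fin 1 ⊕ Fin 1 → F) :
    QP 1 (swapL t v) = QP 1 v := by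
  rw [QP_one, QP_one]
  change t * v (Sum.inr 0) * (t⁻¹ * v (Sum.inl 0)) = _
  field_simp

/-- the corresponding group elements -/
noncomputable def sw (t : F) (ht : t ≠ 0) : Cfsg.isometryGroup F (⇑(QP (F := F) 1)) :=
  ofIsometry (QP 1) (nondegenerate 1) (swapL t) (swapL_isometry t ht)

theorem sw_mulVec (t : F) (ht : t ≠ 0) (v : Fin 1 ⊕ Fin 1 → F) :
    (sw t ht).1.1 *ᵥ v = swapL t v := ofIsometry_mulVec _ _ _ _ v

theorem sw_mul_self (t : F) (ht : t ≠ 0) : sw t ht * sw t ht = 1 := by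
  apply ext_mulVec
  intro v
  rw [iso_mul_mulVec, iso_one_mulVec, sw_mulVec, sw_mulVec]
  funext c
  rcases c with c | c
  · have : c = 0 := Subsingleton.elim _ _
    subst this
    change t * (t⁻¹ * v (Sum.inl 0)) = _
    field_simp
  · have : c = 0 := Subsingleton.elim _ _
    subst this
    change t⁻¹ * (t * v (Sum.inr 0)) = _
    field_simp

theorem sw_ne_one (t : F) (ht : t ≠ 0) : sw t ht ≠ 1 := by
  intro h
  have := congrArg (fun g : Cfsg.isometryGroup F (⇑(QP (F := F) 1)) =>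
    (g.1.1 *ᵥ (Pi.single (Sum.inl 0) 1)) (Sum.inl 0)) h
  simp only [sw_mulVec, iso_one_mulVec] at this
  change t * (Pi.single (Sum.inl 0) 1 : Fin 1 ⊕ Fin 1 → F) (Sum.inr 0) = _ at this
  simp at this

theorem orderOf_sw (t : F) (ht : t ≠ 0) : orderOf (sw t ht) = 2 := by
  apply orderOf_eq_prime
  · rw [pow_two]; exact sw_mul_self t ht
  · exact sw_ne_one t ht

theorem sw_mul_sw_pow (t : F) (ht : t ≠ 0) (k : ℕ) (v : Fin 1 ⊕ Fin 1 → F) :
    (((sw t ht * sw 1 one_ne_zero) ^ k).1.1 *ᵥ v) (Sum.inl 0) = t ^ k * v (Sum.inl 0) := by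
  induction k generalizing v with
  | zero => rw [pow_zero, iso_one_mulVec, pow_zero, one_mul]
  | succ k ih =>
    rw [pow_succ, iso_mul_mulVec, ih, iso_mul_mulVec, sw_mulVec, sw_mulVec]
    change t ^ k * (t * (1⁻¹ * v (Sum.inl 0))) = _
    rw [inv_one, one_mul]
    ring

end

theorem result {F : Type*} [Field F] [Fintype F] {q : ℕ} (hF : Fintype.card F = q) : Nonempty (Cfsg.isometryGroup F (Cfsg.quadFormPlus 1 F) ≃* DihedralGroup (q - 1)) := by
  classical
  have hq : 2 ≤ q := by rw [← hF]; exact Fintype.one_lt_card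
  have hcard : Nat.card (Cfsg.isometryGroup F (⇑(QP (F := F) 1))) = 2 * (q - 1) := by
    rw [QP_coe, Cfsg.Agent.S0287.result hF 1 le_rfl]
    simp
  rw [← QP_coe]
  by_cases hq2 : q = 2
  · subst hq2
    have : Fact (Nat.Prime 2) := ⟨Nat.prime_two⟩
    exact ⟨mulEquivOfPrimeCardEq (p := 2) (by rw [hcard]) (by rw [DihedralGroup.nat_card])⟩
  · obtain ⟨t₀, ht₀⟩ := IsCyclic.exists_ofOrder_eq_natCard (α := Fˣ)
    rw [Nat.card_eq_fintype_card, Fintype.card_units, hF] at ht₀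
    have ht1 : (t₀ : F) ≠ 1 := by
      intro h
      have : t₀ = 1 := Units.ext h
      rw [this, orderOf_one] at ht₀
      omega
    apply dihedral_of_involutions (q - 1) hcard (sw (t₀ : F) t₀.ne_zero) (sw 1 one_ne_zero)
      (orderOf_sw _ _) (orderOf_sw _ _)
    · intro h
      have := congrArg (fun g : Cfsg.isometryGroup F (⇑(QP (F := F) 1)) =>
        (g.1.1 *ᵥ (Pi.single (Sum.inr 0) 1)) (Sum.inl 0)) h
      simp only [sw_mulVec] at this
      change (t₀ : F) * (Pi.single (Sum.inr 0) 1 : Fin 1 ⊕ Fin 1 → F) (Sum.inr 0) =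
        1 * (Pi.single (Sum.inr 0) 1 : Fin 1 ⊕ Fin 1 → F) (Sum.inr 0) at this
      simp at this
      exact ht1 (by rw [this]; rfl)
    · rw [← ht₀]
      apply orderOf_dvd_of_pow_eq_one
      have := sw_mul_sw_pow (t₀ : F) t₀.ne_zero
        (orderOf (sw (t₀ : F) t₀.ne_zero * sw 1 one_ne_zero)) (Pi.single (Sum.inl 0) 1)
      rw [pow_orderOf_eq_one, iso_one_mulVec] at this
      simp only [Pi.single_eq_same, mul_one] at this
      apply Units.ext
      rw [Units.val_pow_eq_pow_val, ← this]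
      rfl

end Cfsg.Agent.S0305
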