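import Cfsg.Statements.S0306
import Mathlib
import Cfsg.Agent.Lib.Helper5.QuadIso
import Cfsg.Agent.Lib.Helper5.DihedralRecog
import Cfsg.Agent.S0288

set_option autoImplicit false
open Cfsg

namespace Cfsg.Agent.S0306

open Matrix Cfsg.Agent.S0750 Cfsg.Agent.Lib.Helper5.QuadFrames Cfsg.Agent.Lib.Helper5.QuadIso
  Cfsg.Agent.Lib.Helper5.DihedralRecog Cfsg.Agent.S0288

section
variable {F : Type*} [Field F] [Fintype F] (a b : F)
set_option linter.unusedSectionVars false

theorem inl_zero (v : (Fin 0 ⊕ Fin 0) ⊕ Fin 2 → F) (c : Fin 0 ⊕ Fin 0) : v (Sum.inl c) = 0 := by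
  rcases c with c | c <;> exact c.elim0

theorem QM_zero (v : (Fin 0 ⊕ Fin 0) ⊕ Fin 2 → F) : QM 0 a b v = q₀ a b (pl 0 v) :=
  QM_of_zero 0 a b v (inl_zero v)

/-- plane coordinates -/
def plE : ((Fin 0 ⊕ Fin 0) ⊕ Fin 2 → F) ≃ₗ[F] F × F where
  toFun := pl 0
  invFun := emb 0
  map_add' _ _ := rfl
  map_smul' _ _ := rfl
  left_inv v := emb_pl 0 v (inl_zero v)
  right_inv w := pl_emb 0 w

theorem plE_apply (v : (Fin 0 ⊕ Fin 0) ⊕ Fin 2 → F) : plE v = pl 0 v := rfl

/-- multiplication by `u` -/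
def mulL (u : F × F) : F × F →ₗ[F] F × F where
  toFun p := mul₀ a b u p
  map_add' p p' := by
    unfold mul₀
    ext <;> simp <;> ring
  map_smul' t p := mul₀_smul_right a b t u p

/-- conjugation -/
def conjL : F × F →ₗ[F] F × F where
  toFun p := conj₀ a p
  map_add' p p' := by
    unfold conj₀
    ext <;> simp <;> ring
  map_smul' t p := by
    unfold conj₀
    ext <;> simp <;> ring

theorem conj₀_conj₀ (p : F × F) : conj₀ a (conj₀ a p) = p := by
  unfold conj₀
  ext <;> simp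

theorem conj₀_mul₀ (p p' : F × F) :
    conj₀ a (mul₀ a b p p') = mul₀ a b (conj₀ a p) (conj₀ a p') := by
  unfold conj₀ mul₀
  ext <;> simp <;> ring

theorem one_mul₀ (p : F × F) : mul₀ a b (1, 0) p = p := by
  unfold mul₀
  ext <;> simp

/-- the reflection `v ↦ u * conj v` as a linear map -/
def reflL (u : F × F) : ((Fin 0 ⊕ Fin 0) ⊕ Fin 2 → F) →ₗ[F] ((Fin 0 ⊕ Fin 0) ⊕ Fin 2 → F) :=
  (plE (F := F)).symm.toLinearMap ∘ₗ mulL a b u ∘ₗ conjL a ∘ₗ (plE (F := F)).toLinearMap

theorem pl_reflL (u : F × F) (v : (Fin 0 ⊕ Fin 0) ⊕ Fin 2 → F) :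
    pl 0 (reflL a b u v) = mul₀ a b u (conj₀ a (pl 0 v)) := by
  change plE (plE.symm (mul₀ a b u (conj₀ a (pl 0 v)))) = _
  rw [LinearEquiv.apply_symm_apply]

theorem reflL_isometry (u : F × F) (hu : q₀ a b u = 1) (v : (Fin 0 ⊕ Fin 0) ⊕ Fin 2 → F) :
    QM 0 a b (reflL a b u v) = QM 0 a b v := by
  rw [QM_zero, QM_zero, pl_reflL, q₀_mul, q₀_conj, hu, one_mul]

variable (hD : 4 * b - a ^ 2 ≠ 0)

/-- the reflections as group elements -/
noncomputable def refl (u : F × F) (hu : q₀ a b u = 1) :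
    Cfsg.isometryGroup F (⇑(QM (F := F) 0 a b)) :=
  ofIsometry (QM 0 a b) (nondegenerate 0 a b hD) (reflL a b u) (reflL_isometry a b u hu)

theorem pl_refl (u : F × F) (hu : q₀ a b u = 1) (v : (Fin 0 ⊕ Fin 0) ⊕ Fin 2 → F) :
    pl 0 ((refl a b hD u hu).1.1 *ᵥ v) = mul₀ a b u (conj₀ a (pl 0 v)) := by
  unfold refl
  rw [ofIsometry_mulVec, pl_reflL]

theorem ext_pl (g g' : Cfsg.isometryGroup F (⇑(QM (F := F) 0 a b)))
    (h : ∀ v, pl 0 (g.1.1 *ᵥ v) = pl 0 (g'.1.1 *ᵥ v)) : g = g' := by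
  apply ext_mulVec
  intro v
  exact plE.injective (h v)

theorem refl_mul_self (u : F × F) (hu : q₀ a b u = 1) :
    refl a b hD u hu * refl a b hD u hu = 1 := by
  apply ext_pl
  intro v
  rw [iso_mul_mulVec, iso_one_mulVec, pl_refl, pl_refl, conj₀_mul₀, conj₀_conj₀, mul₀_conj', hu]
  simp

theorem refl_ne_one (u : F × F) (hu : q₀ a b u = 1) : refl a b hD u hu ≠ 1 := by
  intro h
  have h1 : ∀ v, mul₀ a b u (conj₀ a (pl 0 v)) = pl 0 v := by
    intro v
    rw [← pl_refl a b hD u hu, h, iso_one_mulVec]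
  have e1 := h1 (emb 0 (1, 0))
  rw [pl_emb] at e1
  have hu1 : u = (1, 0) := by
    have : conj₀ a ((1 : F), (0 : F)) = (1, 0) := by unfold conj₀; simp
    rw [this, mul₀_one] at e1
    exact e1
  have e2 := h1 (emb 0 (0, 1))
  rw [pl_emb, hu1, one_mul₀] at e2
  unfold conj₀ at e2
  rw [Prod.mk.injEq] at e2
  simp only [zero_add, mul_one] at e2
  apply hD
  have h2 : (2 : F) = 0 := by linear_combination -e2.2
  rw [e2.1]
  linear_combination (2 * b) * h2

theorem orderOf_refl (u : F × F) (hu : q₀ a b u = 1) : orderOf (refl a b hD u hu) = 2 := by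
  apply orderOf_eq_prime
  · rw [pow_two]; exact refl_mul_self a b hD u hu
  · exact refl_ne_one a b hD u hu

theorem q₀_one : q₀ a b ((1 : F), (0 : F)) = 1 := by
  unfold q₀; simp

theorem pl_rot_pow (u : F × F) (hu : q₀ a b u = 1) (k : ℕ)
    (v : (Fin 0 ⊕ Fin 0) ⊕ Fin 2 → F) :
    pl 0 (((refl a b hD u hu * refl a b hD (1, 0) (q₀_one a b)) ^ (k + 1)).1.1 *ᵥ v) =
      mul₀ a b u (pl 0 (((refl a b hD u hu * refl a b hD (1, 0) (q₀_one a b)) ^ k).1.1 *ᵥ v)) := by
  rw [pow_succ', iso_mul_mulVec, iso_mul_mulVec, pl_refl, pl_refl, one_mul₀, conj₀_conj₀]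

end

section field
variable {F : Type*} [Field F] [Fintype F] (a b : F) {K : Type*} [Field K] [Algebra F K] (lam : K)
set_option linter.unusedSectionVars false

/-- the embedding of `F[θ]` into a field containing a root -/
def phi (p : F × F) : K := algebraMap F K p.1 + algebraMap F K p.2 * lam

theorem phi_mul (hlam : lam ^ 2 - algebraMap F K a * lam + algebraMap F K b = 0) (p p' : F × F) :
    phi lam (mul₀ a b p p') = phi lam p * phi lam p' := by
  unfold phi mul₀
  simp only [map_sub, map_mul, map_add]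
  linear_combination (-(algebraMap F K p.2 * algebraMap F K p'.2)) * hlam

theorem phi_one : phi lam ((1 : F), (0 : F)) = 1 := by
  unfold phi; simp

theorem phi_eq_zero (hlam : lam ^ 2 - algebraMap F K a * lam + algebraMap F K b = 0)
    (hab : ∀ z₁ z₂ : F, z₁ ^ 2 + a * z₁ * z₂ + b * z₂ ^ 2 = 0 → z₁ = 0 ∧ z₂ = 0)
    (p : F × F) (hp : phi lam p = 0) : p = 0 := by
  unfold phi at hp
  have h2 : p.2 = 0 := by
    by_contra h2
    have hl : lam = algebraMap F K (-p.1 / p.2) := by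
      have h2' : algebraMap F K p.2 ≠ 0 := by
        rw [Ne, map_eq_zero]; exact h2
      rw [map_div₀, map_neg, eq_div_iff h2']
      linear_combination hp
    rw [hl, ← map_pow, ← map_mul, ← map_sub, ← map_add, map_eq_zero] at hlam
    have := (hab (p.1) (p.2) (by
      field_simp at hlam
      linear_combination hlam)).2
    exact h2 this
  rw [h2, map_zero, zero_mul, add_zero, map_eq_zero] at hp
  exact Prod.ext hp h2

theorem phi_sub (p p' : F × F) : phi lam (p - p') = phi lam p - phi lam p' := by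
  unfold phi
  simp only [Prod.fst_sub, Prod.snd_sub, map_sub]
  ring

theorem phi_injective (hlam : lam ^ 2 - algebraMap F K a * lam + algebraMap F K b = 0)
    (hab : ∀ z₁ z₂ : F, z₁ ^ 2 + a * z₁ * z₂ + b * z₂ ^ 2 = 0 → z₁ = 0 ∧ z₂ = 0) :
    Function.Injective (phi (F := F) lam) := by
  intro p p' h
  have := phi_eq_zero a b lam hlam hab (p - p') (by rw [phi_sub, h, sub_self])
  exact sub_eq_zero.1 this

/-- the norm-one group inside `Kˣ` -/
def U (hlam : lam ^ 2 - algebraMap F K a * lam + algebraMap F K b = 0) : Subgroup Kˣ where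
  carrier := {z | ∃ u : F × F, q₀ a b u = 1 ∧ phi lam u = z.1}
  one_mem' := ⟨(1, 0), q₀_one a b, by rw [phi_one]; rfl⟩
  mul_mem' := by
    rintro z z' ⟨u, hu, hz⟩ ⟨u', hu', hz'⟩
    exact ⟨mul₀ a b u u', by rw [q₀_mul, hu, hu', one_mul],
      by rw [phi_mul a b lam hlam, hz, hz']; rfl⟩
  inv_mem' := by
    rintro z ⟨u, hu, hz⟩
    refine ⟨conj₀ a u, by rw [q₀_conj, hu], ?_⟩
    have h1 : phi lam (conj₀ a u) * phi lam u = 1 := by
      rw [← phi_mul a b lam hlam]
      have := mul₀_conj a b u (1, 0)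
      rw [mul₀_one, hu] at this
      rw [this]
      simp [phi_one]
    rw [hz] at h1
    exact (Units.inv_eq_of_mul_eq_one_left h1).symm

theorem card_U {q : ℕ} (hF : Fintype.card F = q)
    (hlam : lam ^ 2 - algebraMap F K a * lam + algebraMap F K b = 0)
    (hab : ∀ z₁ z₂ : F, z₁ ^ 2 + a * z₁ * z₂ + b * z₂ ^ 2 = 0 → z₁ = 0 ∧ z₂ = 0) :
    Nat.card (U a b lam hlam) = q + 1 := by
  rw [← card_N_one a b hF hab]
  symm
  apply Nat.card_congr
  refine Equiv.ofBijective (fun u => ⟨Units.mk0 (phi lam u.1) ?_, ⟨u.1, u.2, rfl⟩⟩) ⟨?_, ?_⟩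
  · intro h
    have := phi_eq_zero a b lam hlam hab u.1 h
    have h2 := u.2
    rw [this] at h2
    unfold q₀ at h2
    simp at h2
  · intro u u' h
    have := congrArg (fun z : U a b lam hlam => (z.1 : K)) h
    exact Subtype.ext (phi_injective a b lam hlam hab this)
  · rintro ⟨z, u, hu, hz⟩
    exact ⟨⟨u, hu⟩, Subtype.ext (Units.ext hz)⟩

end field

theorem result {F : Type*} [Field F] [Fintype F] {q : ℕ} (hF : Fintype.card F = q) (a b : F) (hab : ∀ z₁ z₂ : F, z₁ ^ 2 + a * z₁ * z₂ + b * z₂ ^ 2 = 0 → z₁ = 0 ∧ z₂ = 0) : Nonempty (Cfsg.isometryGroup F (Cfsg.quadFormMinus 0 F a b) ≃* DihedralGroup (q + 1)) := by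
  classical
  have hq : 2 ≤ q := by rw [← hF]; exact Fintype.one_lt_card
  have hD := disc_ne_zero a b hab
  have hcard : Nat.card (Cfsg.isometryGroup F (⇑(QM (F := F) 0 a b))) = 2 * (q + 1) := by
    rw [QM_coe]
    have := Cfsg.Agent.S0288.result hF 1 le_rfl a b hab
    simpa using this
  rw [← QM_coe]
  -- a root of the polynomial in the algebraic closure
  obtain ⟨lam, hlam⟩ : ∃ lam : AlgebraicClosure F,
      lam ^ 2 - algebraMap F _ a * lam + algebraMap F _ b = 0 := by
    obtain ⟨z, hz⟩ := IsAlgClosed.exists_root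
      (Polynomial.C (1 : AlgebraicClosure F) * Polynomial.X ^ 2 +
        Polynomial.C (-algebraMap F (AlgebraicClosure F) a) * Polynomial.X +
        Polynomial.C (algebraMap F (AlgebraicClosure F) b)) (by
        rw [Polynomial.degree_quadratic one_ne_zero]
        norm_num)
    refine ⟨z, ?_⟩
    rw [Polynomial.IsRoot.def] at hz
    simp only [Polynomial.eval_add, Polynomial.eval_mul, Polynomial.eval_C, Polynomial.eval_pow,
      Polynomial.eval_X] at hz
    linear_combination hz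
  -- a generator of the norm-one group
  have hUcard := card_U a b lam hF hlam hab
  have : Finite (U a b lam hlam) := Nat.finite_of_card_ne_zero (by rw [hUcard]; omega)
  obtain ⟨g, hg⟩ := IsCyclic.exists_ofOrder_eq_natCard (α := U a b lam hlam)
  rw [hUcard] at hg
  obtain ⟨u₀, hu₀, hgu⟩ := g.2
  have hord : orderOf (phi lam u₀) = q + 1 := by
    rw [hgu, orderOf_units, Subgroup.orderOf_coe, hg]
  have hu₀1 : u₀ ≠ (1, 0) := by
    intro h
    rw [h, phi_one, orderOf_one] at hord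
    omega
  apply dihedral_of_involutions (q + 1) hcard (refl a b hD u₀ hu₀) (refl a b hD (1, 0) (q₀_one a b))
    (orderOf_refl a b hD _ _) (orderOf_refl a b hD _ _)
  · intro h
    have := congrArg (fun g : Cfsg.isometryGroup F (⇑(QM (F := F) 0 a b)) =>
      pl 0 (g.1.1 *ᵥ (emb 0 (1, 0)))) h
    simp only [pl_refl, pl_emb] at this
    have hc : conj₀ a ((1 : F), (0 : F)) = (1, 0) := by unfold conj₀; simp
    rw [hc, mul₀_one, mul₀_one] at this
    exact hu₀1 this
  · rw [← hord]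
    apply orderOf_dvd_of_pow_eq_one
    set r := refl a b hD u₀ hu₀ * refl a b hD (1, 0) (q₀_one a b) with hr
    have key : ∀ k : ℕ, ∀ v, phi lam (pl 0 ((r ^ k).1.1 *ᵥ v)) =
        phi lam u₀ ^ k * phi lam (pl 0 v) := by
      intro k
      induction k with
      | zero => intro v; rw [pow_zero, iso_one_mulVec, pow_zero, one_mul]
      | succ k ih =>
        intro v
        rw [hr, pl_rot_pow, phi_mul a b lam hlam, ← hr, ih, pow_succ]
        ring
    have := key (orderOf r) (emb 0 (1, 0))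
    rw [pow_orderOf_eq_one, iso_one_mulVec, pl_emb, phi_one, mul_one] at this
    exact this.symm

end Cfsg.Agent.S0306
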