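import Cfsg.Statements.S0307
import Mathlib

set_option autoImplicit false
open Cfsg

namespace Cfsg.Agent.S0307

open Matrix

section
variable (C : Type*) [CommGroup C] [IsCyclic C] [Finite C]

/-- the quotient map of a finite cyclic group onto `ZMod d`, `d` dividing the order -/
noncomputable def psi (d : ℕ) (hd : d ∣ Nat.card C) : C →* Multiplicative (ZMod d) :=
  (AddMonoidHom.toMultiplicative (ZMod.castHom hd (ZMod d)).toAddMonoidHom).comp
    (zmodCyclicMulEquiv (G := C) inferInstance).symm.toMonoidHom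

theorem psi_surjective (d : ℕ) (hd : d ∣ Nat.card C) :
    Function.Surjective (psi C d hd) := by
  unfold psi
  rw [MonoidHom.coe_comp]
  apply Function.Surjective.comp
  · intro y
    obtain ⟨x, hx⟩ := ZMod.ringHom_surjective (ZMod.castHom hd (ZMod d)) (Multiplicative.toAdd y)
    exact ⟨Multiplicative.ofAdd x, by
      change Multiplicative.ofAdd ((ZMod.castHom hd (ZMod d)) x) = y
      rw [hx]; rfl⟩
  · exact (zmodCyclicMulEquiv (G := C) inferInstance).symm.surjective

theorem psi_pow (d : ℕ) (hd : d ∣ Nat.card C) (n : ℕ) (hdn : d ∣ n) (a : C) :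
    psi C d hd (a ^ n) = 1 := by
  rw [map_pow]
  obtain ⟨k, rfl⟩ := hdn
  rw [pow_mul]
  have : (psi C d hd a) ^ d = 1 := by
    have := pow_card_eq_one' (G := Multiplicative (ZMod d)) (x := psi C d hd a)
    rw [Nat.card_eq_of_bijective _ Multiplicative.toAdd.bijective, Nat.card_zmod] at this
    exact this
  rw [this, one_pow]

theorem ker_psi (n : ℕ) (hd : Nat.gcd n (Nat.card C) ∣ Nat.card C) :
    (psi C (Nat.gcd n (Nat.card C)) hd).ker = (powMonoidHom n : C →* C).range := by
  symm
  have hdpos : 0 < Nat.gcd n (Nat.card C) := Nat.gcd_pos_of_pos_right _ Nat.card_pos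
  apply Subgroup.eq_of_le_of_card_ge
  · rintro _ ⟨a, rfl⟩
    rw [MonoidHom.mem_ker, powMonoidHom_apply]
    exact psi_pow C _ hd n (Nat.gcd_dvd_left _ _) a
  · have h1 := Subgroup.card_mul_index (psi C (Nat.gcd n (Nat.card C)) hd).ker
    rw [Subgroup.index_ker, MonoidHom.range_eq_top.2 (psi_surjective C _ hd), Subgroup.card_top,
      Nat.card_eq_of_bijective _ Multiplicative.toAdd.bijective, Nat.card_zmod] at h1
    have h2 := Subgroup.card_mul_index (powMonoidHom n : C →* C).ker
    rw [Subgroup.index_ker, IsCyclic.card_powMonoidHom_ker, Nat.gcd_comm] at h2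
    have h3 : Nat.gcd n (Nat.card C) * Nat.card (powMonoidHom n : C →* C).range =
        Nat.gcd n (Nat.card C) * Nat.card (psi C (Nat.gcd n (Nat.card C)) hd).ker := by
      rw [h2, mul_comm, h1]
    exact (Nat.eq_of_mul_eq_mul_left hdpos h3).ge

theorem exists_cyclic_quot (n : ℕ) :
    ∃ ψ : C →* Multiplicative (ZMod (Nat.gcd n (Nat.card C))), Function.Surjective ψ ∧
      ψ.ker = (powMonoidHom n : C →* C).range :=
  ⟨psi C _ (Nat.gcd_dvd_right _ _), psi_surjective C _ _, ker_psi C n _⟩

end

theorem result {F : Type*} [Field F] [Fintype F] {q : ℕ} (hF : Fintype.card F = q) (n : ℕ) (hn : 1 ≤ n) : ∃ g : Matrix.ProjGenLinGroup (Fin n) F →* Multiplicative (ZMod (Nat.gcd n (q - 1))), Function.Surjective g ∧ g.ker = (Matrix.ProjectiveSpecialLinearGroup.toPGL : Matrix.ProjectiveSpecialLinearGroup (Fin n) F →* Matrix.ProjGenLinGroup (Fin n) F).range := by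
  have hc : Nat.card Fˣ = q - 1 := by
    rw [Nat.card_units, Nat.card_eq_fintype_card, hF]
  obtain ⟨ψ, hψs, hψk⟩ : ∃ ψ : Fˣ →* Multiplicative (ZMod (Nat.gcd n (q - 1))),
      Function.Surjective ψ ∧ ψ.ker = (powMonoidHom n : Fˣ →* Fˣ).range := by
    have := exists_cyclic_quot Fˣ n
    rw [hc] at this
    exact this
  have : Nonempty (Fin n) := ⟨⟨0, hn⟩⟩
  let φ₀ : GL (Fin n) F →* Multiplicative (ZMod (Nat.gcd n (q - 1))) :=
    ψ.comp Matrix.GeneralLinearGroup.det
  have hcen : Subgroup.center (GL (Fin n) F) ≤ φ₀.ker := by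
    intro z hz
    rw [Matrix.GeneralLinearGroup.center_eq_range_scalar] at hz
    obtain ⟨u, rfl⟩ := hz
    rw [MonoidHom.mem_ker, MonoidHom.comp_apply, Matrix.GeneralLinearGroup.det_scalar,
      Fintype.card_fin, ← MonoidHom.mem_ker, hψk]
    exact ⟨u, rfl⟩
  let φ : Matrix.ProjGenLinGroup (Fin n) F →* Multiplicative (ZMod (Nat.gcd n (q - 1))) :=
    QuotientGroup.lift (Subgroup.center (GL (Fin n) F)) φ₀ hcen
  have hφ : ∀ g : GL (Fin n) F, φ (Matrix.ProjGenLinGroup.mk g) = ψ (Matrix.GeneralLinearGroup.det g) :=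
    fun g => rfl
  refine ⟨φ, ?_, ?_⟩
  · intro y
    obtain ⟨u, hu⟩ := hψs y
    obtain ⟨g, hg⟩ := Matrix.GeneralLinearGroup.det_surjective (n := Fin n) u
    exact ⟨Matrix.ProjGenLinGroup.mk g, by rw [hφ, hg, hu]⟩
  · ext x
    induction x using Matrix.ProjGenLinGroup.induction_on with
    | mk g =>
      rw [MonoidHom.mem_ker, hφ, ← MonoidHom.mem_ker, hψk]
      constructor
      · rintro ⟨u, hu⟩
        rw [powMonoidHom_apply] at hu
        have hdet : ((g * Matrix.GeneralLinearGroup.scalar (Fin n) u⁻¹ : GL (Fin n) F) :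
            Matrix (Fin n) (Fin n) F).det = 1 := by
          have h1 : Matrix.GeneralLinearGroup.det (g * Matrix.GeneralLinearGroup.scalar (Fin n) u⁻¹)
              = 1 := by
            rw [map_mul, Matrix.GeneralLinearGroup.det_scalar, Fintype.card_fin, ← hu, inv_pow,
              mul_inv_cancel]
          exact congrArg Units.val h1
        let s : Matrix.SpecialLinearGroup (Fin n) F := ⟨_, hdet⟩
        refine ⟨QuotientGroup.mk s, ?_⟩
        change Matrix.ProjGenLinGroup.mk (Matrix.SpecialLinearGroup.toGL s) =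
          Matrix.ProjGenLinGroup.mk g
        rw [Matrix.ProjGenLinGroup.mk_eq_mk_iff]
        refine ⟨u, ?_⟩
        have hs : Matrix.SpecialLinearGroup.toGL s =
            g * Matrix.GeneralLinearGroup.scalar (Fin n) u⁻¹ := Units.ext rfl
        rw [hs, mul_assoc, ← map_mul, inv_mul_cancel, map_one, mul_one]
      · rintro ⟨y, hy⟩
        induction y using QuotientGroup.induction_on with
        | H s =>
          change Matrix.ProjGenLinGroup.mk (Matrix.SpecialLinearGroup.toGL s) =
            Matrix.ProjGenLinGroup.mk g at hy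
          rw [Matrix.ProjGenLinGroup.mk_eq_mk_iff] at hy
          obtain ⟨u, hu⟩ := hy
          have := congrArg Matrix.GeneralLinearGroup.det hu
          rw [map_mul, Matrix.SpecialLinearGroup.coeToGL_det, one_mul,
            Matrix.GeneralLinearGroup.det_scalar, Fintype.card_fin] at this
          exact ⟨u, this⟩

end Cfsg.Agent.S0307
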