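import Cfsg.Statements.S0316
import Mathlib
import Cfsg.Agent.Lib.Helper5.BN

set_option autoImplicit false
open Cfsg

namespace Cfsg.Agent.S0316

open Cfsg.Agent.Lib.Helper5

/-- The map `J ↦ P_J` is a lattice isomorphism from the power set of the set of distinguished generators onto the
subgroups containing `B`. -/
theorem result {G : Type*} [Group G] (P : Cfsg.BNPair G) :
    ∃ e : Set P.S ≃o {M : Subgroup G // P.B ≤ M},
      ∀ J : Set P.S, ((e J : {M : Subgroup G // P.B ≤ M}) : Subgroup G) = P.parabolic (Subtype.val '' J) := by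
  classical
  have hsub : ∀ J : Set P.S, (Subtype.val '' J : Set G) ⊆ P.S := by
    rintro J _ ⟨x, _, rfl⟩
    exact x.2
  let f : Set P.S → {M : Subgroup G // P.B ≤ M} :=
    fun J => ⟨P.parabolic (Subtype.val '' J), BN.B_le_parabolic P _⟩
  have hle : ∀ J K : Set P.S, f J ≤ f K ↔ J ≤ K := by
    intro J K
    change P.parabolic (Subtype.val '' J) ≤ P.parabolic (Subtype.val '' K) ↔ J ⊆ K
    rw [BN.parabolic_le_iff P (hsub J) (hsub K)]
    exact Set.image_subset_image_iff Subtype.val_injective
  have hinj : Function.Injective f := by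
    intro J K hJK
    apply le_antisymm
    · exact (hle J K).mp (le_of_eq hJK)
    · exact (hle K J).mp (le_of_eq hJK.symm)
  have hsurj : Function.Surjective f := by
    rintro ⟨M, hM⟩
    refine ⟨{x : P.S | (x : G) ∈ M}, ?_⟩
    apply Subtype.ext
    change P.parabolic (Subtype.val '' {x : P.S | (x : G) ∈ M}) = M
    have h1 : (Subtype.val '' {x : P.S | (x : G) ∈ M} : Set G) = {s | s ∈ P.S ∧ s ∈ M} := by
      ext s
      constructor
      · rintro ⟨x, hx, rfl⟩
        exact ⟨x.2, hx⟩
      · rintro ⟨hs, hsM⟩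
        exact ⟨⟨s, hs⟩, hsM, rfl⟩
    rw [h1]
    exact (BN.eq_parabolic_of_le P M hM).symm
  let e : Set P.S ≃ {M : Subgroup G // P.B ≤ M} := Equiv.ofBijective f ⟨hinj, hsurj⟩
  refine ⟨⟨e, ?_⟩, ?_⟩
  · intro J K
    exact hle J K
  · intro J
    rfl

end Cfsg.Agent.S0316
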