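import Cfsg.Statements.S0318
import Mathlib
import Cfsg.Agent.Lib.Helper5.BN

set_option autoImplicit false
open Cfsg

namespace Cfsg.Agent.S0318

open Cfsg.Agent.Lib.Helper5

/-- For `n ∈ N`, the subgroup generated by `B` and `n` coincides with the subgroup generated by `B` and the
conjugate `n B n⁻¹`. -/
theorem result {G : Type*} [Group G] (P : Cfsg.BNPair G) {n : G}
    (hn : n ∈ P.N) :
    P.B ⊔ Subgroup.closure {n} = P.B ⊔ P.B.map (MulAut.conj n).toMonoidHom := by
  apply le_antisymm
  · apply sup_le le_sup_left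
    rw [Subgroup.closure_le]
    intro x hx
    rw [Set.mem_singleton_iff] at hx
    subst hx
    have := BN.mem_of_conj_B_subset_N P (P.B ⊔ P.B.map (MulAut.conj x).toMonoidHom) le_sup_left
      ⟨x, hn⟩ (fun b hb => by
        have h1 : P.B.map (MulAut.conj x).toMonoidHom ≤
          P.B ⊔ P.B.map (MulAut.conj x).toMonoidHom := le_sup_right
        exact h1 ⟨b, hb, rfl⟩)
    exact this
  · apply sup_le le_sup_left
    rintro _ ⟨b, hb, rfl⟩
    have h1 : P.B ≤ P.B ⊔ Subgroup.closure {n} := le_sup_left
    have h2 : n ∈ P.B ⊔ Subgroup.closure {n} := by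
      have : Subgroup.closure {n} ≤ P.B ⊔ Subgroup.closure {n} := le_sup_right
      exact this (Subgroup.subset_closure rfl)
    exact mul_mem (mul_mem h2 (h1 hb)) (inv_mem h2)

end Cfsg.Agent.S0318
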