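import Cfsg.Statements.S0321
import Mathlib
import Cfsg.Agent.Lib.Helper5.BN

set_option autoImplicit false
open Cfsg

namespace Cfsg.Agent.S0321

open Cfsg.Agent.Lib.Helper5

/-- For `n ∈ N` not in `B`, the union `B ∪ B n B` is (the underlying set of) a subgroup exactly when `n` agrees
modulo `B ⊓ N` with one of the distinguished representatives; thus the distinguished involutions are
determined by `B` and `N`. -/
theorem result {G : Type*} [Group G] (P : Cfsg.BNPair G) {n : G}
    (hn : n ∈ P.N) (hnB : n ∉ P.B) :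
    (∃ H : Subgroup G, (H : Set G) = (P.B : Set G) ∪ DoubleCoset.doubleCoset n (P.B : Set G) P.B) ↔ ∃ s ∈ P.S, s⁻¹ * n ∈ P.B := by
  constructor
  · rintro ⟨H, hH⟩
    have hBH : P.B ≤ H := by
      intro b hb
      have : b ∈ (H : Set G) := by rw [hH]; exact Or.inl hb
      exact this
    have hnH : n ∈ H := by
      have : n ∈ (H : Set G) := by rw [hH]; exact Or.inr (BN.self_mem_D P n)
      exact this
    obtain ⟨L, hL, hprod, hlen⟩ := BN.exists_reduced P (BN.proj P ⟨n, hn⟩)
    have hred : BN.IsReduced P L := ⟨hL, by rw [hprod, hlen]⟩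
    have h1 := BN.lemmaC P H hBH L hred ⟨n, hn⟩ hprod.symm
      (fun b hb => mul_mem (mul_mem hnH (hBH hb)) (inv_mem hnH))
    match L, hL, hprod, h1 with
    | [], _, hprod, _ =>
      exfalso
      apply hnB
      have := hprod.symm
      rw [List.prod_nil, BN.proj_eq_one_iff] at this
      exact this
    | σ :: L0, hL, hprod, h1 =>
      obtain ⟨s, hs, hsσ⟩ := hL σ (by simp)
      have hsH : (s : G) ∈ H := h1 σ (by simp) (by rw [← hsσ, BN.C_proj]; exact BN.self_mem_D P _)
      have hsH' : (s : G) ∈ (H : Set G) := hsH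
      rw [hH] at hsH'
      rcases hsH' with hsB | hsD
      · exact absurd hsB (BN.S_not_mem_B P hs)
      · refine ⟨s, hs, ?_⟩
        have h2 : BN.C P (BN.proj P s) = BN.C P (BN.proj P ⟨n, hn⟩) := by
          rw [BN.C_proj, BN.C_proj]
          exact BN.D_eq_of_mem P hsD
        have h3 := BN.bruhat P h2
        rwa [BN.proj_eq_iff] at h3
  · rintro ⟨s, hs, hsn⟩
    have hD : BN.D P n = BN.D P s := by
      have h2 := BN.D_mul_B P (g := s) hsn
      rw [mul_inv_cancel_left] at h2
      exact h2
    have hss : BN.D P (s * s) = (P.B : Set G) := BN.D_of_mem_B P (P.sq_mem s hs)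
    refine ⟨{ carrier := (P.B : Set G) ∪ BN.D P s
              mul_mem' := ?_
              one_mem' := Or.inl (one_mem _)
              inv_mem' := ?_ }, ?_⟩
    · rintro a b (ha | ha) (hb | hb)
      · exact Or.inl (mul_mem ha hb)
      · exact Or.inr (BN.B_mul_mem_D P ha hb)
      · exact Or.inr (BN.mul_B_mem_D P hb ha)
      · have := BN.T1_left P hs (P.subset hs) ha hb
        rw [hss] at this
        exact this
    · rintro a (ha | ha)
      · exact Or.inl (inv_mem ha)
      · right
        have := BN.inv_mem_D P ha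
        rwa [BN.D_inv_S P hs] at this
    · change (P.B : Set G) ∪ BN.D P s = (P.B : Set G) ∪ BN.D P n
      rw [hD]

end Cfsg.Agent.S0321
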