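import Cfsg.Statements.S0322
import Mathlib
import Cfsg.Agent.Lib.Helper5.BN
import Cfsg.Agent.S0321

set_option autoImplicit false
open Cfsg

namespace Cfsg.Agent.S0322

open Cfsg.Agent.Lib.Helper5

theorem dichotomy {G : Type*} [Group G] (P : Cfsg.BNPair G) {s : G} (hs : s ∈ P.S)
    (hS : ∀ t ∈ P.S, t = s) (g : G) : g ∈ P.B ∨ g ∈ BN.D P s := by
  have hsN : s ∈ P.N := P.subset hs
  obtain ⟨H, hH⟩ := (Cfsg.Agent.S0321.result P hsN (BN.S_not_mem_B P hs)).mpr
    ⟨s, hs, by rw [inv_mul_cancel]; exact one_mem _⟩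
  have hBH : P.B ≤ H := by
    intro b hb
    have : b ∈ (H : Set G) := by rw [hH]; exact Or.inl hb
    exact this
  have hsH : s ∈ H := by
    have : s ∈ (H : Set G) := by rw [hH]; exact Or.inr (BN.self_mem_D P s)
    exact this
  have htop : H = ⊤ := by
    rw [eq_top_iff, ← Cfsg.Agent.S0308.closure_eq_top P, Subgroup.closure_le]
    rintro x (hx | hx)
    · exact hBH hx
    · rw [hS x hx]; exact hsH
  have hg : g ∈ (H : Set G) := by rw [htop]; trivial
  rw [hH] at hg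
  exact hg

/-- A group with a (B,N)-pair of rank one acts doubly transitively on the left cosets of `B`. -/
theorem result {G : Type*} [Group G] (P : Cfsg.BNPair G) (h : P.rank = 1) : MulAction.IsMultiplyPretransitive G (G ⧸ P.B) 2 := by
  unfold BNPair.rank at h
  rw [Nat.card_eq_one_iff_unique] at h
  obtain ⟨hsub, ⟨⟨s, hs⟩⟩⟩ := h
  have hS : ∀ t ∈ P.S, t = s := by
    intro t ht
    have := hsub.elim (⟨t, ht⟩ : P.S) ⟨s, hs⟩
    exact congrArg Subtype.val this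
  have key : ∀ a b : G ⧸ P.B, a ≠ b →
      ∃ g : G, g • a = (QuotientGroup.mk 1 : G ⧸ P.B) ∧ g • b = (QuotientGroup.mk s : G ⧸ P.B) := by
    intro a b hab
    obtain ⟨a0, rfl⟩ := QuotientGroup.mk_surjective a
    obtain ⟨b0, rfl⟩ := QuotientGroup.mk_surjective b
    have hnB : a0⁻¹ * b0 ∉ P.B := by
      intro hmem
      apply hab
      exact QuotientGroup.eq.mpr hmem
    rcases dichotomy P hs hS (a0⁻¹ * b0) with h1 | h1
    · exact absurd h1 hnB
    · rw [BN.mem_D] at h1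
      obtain ⟨β, hβ, β', hβ', h2⟩ := h1
      refine ⟨β⁻¹ * a0⁻¹, ?_, ?_⟩
      · change (QuotientGroup.mk (β⁻¹ * a0⁻¹ * a0) : G ⧸ P.B) = QuotientGroup.mk 1
        rw [QuotientGroup.eq]
        have e : (β⁻¹ * a0⁻¹ * a0)⁻¹ * 1 = β := by group
        rw [e]; exact hβ
      · change (QuotientGroup.mk (β⁻¹ * a0⁻¹ * b0) : G ⧸ P.B) = QuotientGroup.mk s
        rw [QuotientGroup.eq]
        have e : (β⁻¹ * a0⁻¹ * b0)⁻¹ * s = β'⁻¹ := by
          rw [mul_assoc, h2]; group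
        rw [e]; exact inv_mem hβ'
  rw [MulAction.is_two_pretransitive_iff]
  intro a b c d hab hcd
  obtain ⟨g1, h1a, h1b⟩ := key a b hab
  obtain ⟨g2, h2c, h2d⟩ := key c d hcd
  refine ⟨g2⁻¹ * g1, ?_, ?_⟩
  · rw [mul_smul, h1a, ← h2c, inv_smul_smul]
  · rw [mul_smul, h1b, ← h2d, inv_smul_smul]

end Cfsg.Agent.S0322
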