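import Cfsg.Statements.S0323
import Mathlib

set_option autoImplicit false
open scoped Pointwise
open Cfsg

namespace Cfsg.Agent.S0323

/-- A doubly transitive action on a set with at least three points yields a (B,N)-pair of rank one:
`B` is the stabiliser of a point `x`, `N` the setwise stabiliser of a pair `{x, y}`. -/
theorem result {G Ω : Type*} [Group G] [MulAction G Ω]
    (h2 : MulAction.IsMultiplyPretransitive G Ω 2) {x y z : Ω} (hxy : x ≠ y) (hyz : y ≠ z) (hxz : x ≠ z) :
    ∃ P : Cfsg.BNPair G, P.B = MulAction.stabilizer G x ∧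
      P.N = MulAction.stabilizer G ({x, y} : Set Ω) ∧ P.rank = 1 := by
  have h2' : ∀ (a b c d : Ω), a ≠ b → c ≠ d → ∃ g : G, g • a = c ∧ g • b = d := by
    intro a b c d hab hcd
    exact MulAction.is_two_pretransitive_iff.mp h2 hab hcd
  obtain ⟨s, hsx, hsy⟩ := h2' _ _ _ _ hxy hxy.symm
  set B := MulAction.stabilizer G x with hB
  set N := MulAction.stabilizer G ({x, y} : Set Ω) with hN
  have hfin : ({x, y} : Set Ω).Finite := Set.toFinite _
  have memB : ∀ g : G, g ∈ B ↔ g • x = x := fun g => MulAction.mem_stabilizer_iff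
  have memN : ∀ g : G, g ∈ N ↔ (g • x = x ∨ g • x = y) ∧ (g • y = x ∨ g • y = y) := by
    intro g
    rw [hN, MulAction.mem_stabilizer_set' hfin]
    constructor
    · intro h
      exact ⟨h (Set.mem_insert x _), h (Set.mem_insert_of_mem x rfl)⟩
    · rintro ⟨h1, h3⟩ b hb
      rcases hb with rfl | hb
      · exact h1
      · rw [Set.mem_singleton_iff] at hb
        subst hb
        exact h3
  -- elements of N either fix or swap x, y
  have memN' : ∀ g : G, g ∈ N → (g • x = x ∧ g • y = y) ∨ (g • x = y ∧ g • y = x) := by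
    intro g hg
    obtain ⟨h1, h3⟩ := (memN g).mp hg
    have hinj : g • x ≠ g • y := fun h => hxy (MulAction.injective g h)
    rcases h1 with h1 | h1 <;> rcases h3 with h3 | h3
    · exact absurd (h1.trans h3.symm) hinj
    · exact Or.inl ⟨h1, h3⟩
    · exact Or.inr ⟨h1, h3⟩
    · exact absurd (h1.trans h3.symm) hinj
  have hsN : s ∈ N := (memN s).mpr ⟨Or.inr hsx, Or.inl hsy⟩
  have hsB : s ∉ B := by
    rw [memB, hsx]; exact hxy.symm
  have hsinvy : s⁻¹ • y = x := by rw [← hsx, inv_smul_smul]
  -- any two elements outside B are in the same double coset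
  have hdc : ∀ g h : G, g ∉ B → h ∉ B → h ∈ DoubleCoset.doubleCoset g (B : Set G) B := by
    intro g h hg hh
    rw [memB] at hg hh
    obtain ⟨b, hb1, hb2⟩ := h2' _ _ _ _ (Ne.symm hg) (Ne.symm hh)
    rw [DoubleCoset.mem_doubleCoset]
    refine ⟨b, (memB b).mpr hb1, (h⁻¹ * b * g)⁻¹, ?_, by group⟩
    apply inv_mem
    rw [memB, mul_smul, mul_smul, hb2, inv_smul_smul]
  have hdcB : ∀ g h : G, g ∈ B → h ∈ B → h ∈ DoubleCoset.doubleCoset g (B : Set G) B := by
    intro g h hg hh
    rw [DoubleCoset.mem_doubleCoset]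
    exact ⟨h * g⁻¹, mul_mem hh (inv_mem hg), 1, one_mem _, by group⟩
  refine ⟨{ B := B, N := N, S := {s}
            sup_eq_top := ?_
            conj_mem := ?_
            subset := ?_
            sq_mem := ?_
            inj := ?_
            closure_sup := ?_
            mul_mem_union := ?_
            conj_ne := ?_ }, rfl, rfl, ?_⟩
  · -- sup_eq_top
    rw [eq_top_iff]
    intro g _
    by_cases hg : g ∈ B
    · exact (le_sup_left : B ≤ B ⊔ N) hg
    · have := hdc s g hsB hg
      rw [DoubleCoset.mem_doubleCoset] at this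
      obtain ⟨b, hb, b', hb', rfl⟩ := this
      have h1 : B ≤ B ⊔ N := le_sup_left
      have h3 : N ≤ B ⊔ N := le_sup_right
      exact mul_mem (mul_mem (h1 hb) (h3 hsN)) (h1 hb')
  · -- conj_mem
    intro n hn t ht
    obtain ⟨htB, htN⟩ := Subgroup.mem_inf.mp ht
    rw [memB] at htB
    have hty : t • y = y := by
      rcases memN' t htN with h | h
      · exact h.2
      · exact absurd (htB.symm.trans h.1) hxy
    rw [memB, mul_smul, mul_smul]
    rcases memN' n⁻¹ (inv_mem hn) with h | h
    · rw [h.1, htB]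
      exact (inv_smul_eq_iff.mp h.1).symm
    · rw [h.1, hty]
      exact (inv_smul_eq_iff.mp h.1).symm
  · -- subset
    intro t ht
    rw [Set.mem_singleton_iff] at ht
    rw [ht]; exact hsN
  · -- sq_mem
    intro t ht
    rw [Set.mem_singleton_iff] at ht
    rw [ht, memB, mul_smul, hsx, hsy]
  · -- inj
    intro t ht t' ht' _
    rw [Set.mem_singleton_iff] at ht ht'
    rw [ht, ht']
  · -- closure_sup
    apply le_antisymm
    · apply sup_le
      · rw [Subgroup.closure_le]
        intro t ht
        rw [Set.mem_singleton_iff] at ht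
        rw [ht]; exact hsN
      · exact inf_le_right
    · intro n hn
      have h1 : Subgroup.closure {s} ≤ Subgroup.closure {s} ⊔ B ⊓ N := le_sup_left
      have h3 : B ⊓ N ≤ Subgroup.closure {s} ⊔ B ⊓ N := le_sup_right
      rcases memN' n hn with h | h
      · exact h3 (Subgroup.mem_inf.mpr ⟨(memB n).mpr h.1, hn⟩)
      · have e : n = s * (s⁻¹ * n) := by group
        rw [e]
        apply mul_mem (h1 (Subgroup.subset_closure rfl))
        apply h3
        refine Subgroup.mem_inf.mpr ⟨?_, mul_mem (inv_mem hsN) hn⟩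
        rw [memB, mul_smul, h.1, hsinvy]
  · -- mul_mem_union
    intro t ht n hn b hb
    rw [Set.mem_singleton_iff] at ht
    subst ht
    rw [memB] at hb
    by_cases hnB : n ∈ B
    · left
      rw [memB] at hnB
      apply hdc
      · rw [memB, mul_smul, hnB, hsx]; exact hxy.symm
      · rw [memB, mul_smul, mul_smul, hnB, hb, hsx]; exact hxy.symm
    · have hnx : n • x = y := by
        rcases memN' n hn with h | h
        · exact absurd ((memB n).mpr h.1) hnB
        · exact h.1
      have hsnB : t * n ∈ B := by rw [memB, mul_smul, hnx, hsy]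
      by_cases h3 : t * b * n ∈ B
      · left
        exact hdcB _ _ hsnB h3
      · right
        exact hdc _ _ hnB h3
  · -- conj_ne
    intro t ht
    rw [Set.mem_singleton_iff] at ht
    subst ht
    obtain ⟨b, hbx, hby⟩ := h2' _ _ _ _ hxy hxz
    intro heq
    have h1 : t * b * t ∈ (fun b : G => t * b * t) '' (B : Set G) :=
      ⟨b, (memB b).mpr hbx, rfl⟩
    rw [heq, SetLike.mem_coe, memB, mul_smul, mul_smul, hsx, hby] at h1
    have : t • z = t • y := h1.trans hsy.symm
    exact hyz (MulAction.injective t this).symm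
  · -- rank
    change Nat.card ({s} : Set G) = 1
    rw [Nat.card_eq_one_iff_unique]
    exact ⟨⟨fun a b => Subtype.ext (a.2.trans b.2.symm)⟩, ⟨⟨s, rfl⟩⟩⟩

end Cfsg.Agent.S0323
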