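import Cfsg.Statements.S0331
import Cfsg.Agent.Lib.Helper5.SuzukiTorus
import Mathlib

set_option autoImplicit false
open Cfsg

namespace Cfsg.Agent.S0331
open Cfsg.Agent.Lib.Helper5.Suzuki

/-- For every odd prime `p` the Sylow `p`-subgroups of the Suzuki group are cyclic. -/
theorem result {F : Type*} [Field F] [Fintype F] {m : ℕ} (hm : 1 ≤ m)
    (hF : Fintype.card F = 2 ^ (2 * m + 1)) {p : ℕ} [Fact p.Prime] (hp : p ≠ 2)
    (P : Sylow p (Cfsg.Sz F m)) : IsCyclic P := by
  classical
  haveI : CharP F 2 := charP_of_card hF
  by_cases hsub : Subsingleton P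
  · exact isCyclic_of_subsingleton
  rw [not_subsingleton_iff_nontrivial] at hsub
  have hpp : p.Prime := Fact.out
  have hcard := card_Sz m hF hm
  -- p divides the order of P
  have hPp : IsPGroup p P := P.2
  obtain ⟨k, hk⟩ := IsPGroup.iff_card.1 hPp
  have hk1 : k ≠ 0 := by
    rintro rfl
    rw [pow_zero] at hk
    have : Subsingleton P := (Nat.card_eq_one_iff_unique.1 hk).1
    exact not_subsingleton P this
  have hpP : p ∣ Nat.card P := by
    rw [hk]; exact dvd_pow_self p hk1
  have hpG : p ∣ Nat.card (Sz F m) := hpP.trans (Subgroup.card_subgroup_dvd_card _)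
  rw [hcard] at hpG
  have hq1 : 1 ≤ 2 ^ (2 * m + 1) := Nat.one_le_two_pow
  rcases (Nat.Prime.dvd_mul hpp).1 hpG with h | h
  · rcases (Nat.Prime.dvd_mul hpp).1 h with h | h
    · exfalso
      have := hpp.dvd_of_dvd_pow (hpp.dvd_of_dvd_pow h)
      exact hp ((Nat.prime_dvd_prime_iff_eq hpp Nat.prime_two).1 this)
    · -- the torus case
      haveI : Nontrivial (Subgroup.center P) := hPp.center_nontrivial
      have hcen : IsPGroup p (Subgroup.center P) := hPp.to_subgroup _
      obtain ⟨j, hj⟩ := IsPGroup.iff_card.1 hcen
      have hj1 : j ≠ 0 := by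
        rintro rfl
        rw [pow_zero] at hj
        have : Subsingleton (Subgroup.center P) := (Nat.card_eq_one_iff_unique.1 hj).1
        exact not_subsingleton _ this
      have hpc : p ∣ Nat.card (Subgroup.center P) := by
        rw [hj]; exact dvd_pow_self p hj1
      obtain ⟨z0, hz0⟩ := exists_prime_orderOf_dvd_card' p hpc
      have hzp : ((z0 : P) : Sz F m) ^ p = 1 := by
        have : z0 ^ p = 1 := by
          have := pow_orderOf_eq_one z0
          rwa [hz0] at this
        have := congrArg (fun x : Subgroup.center P => ((x : P) : Sz F m)) this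
        simpa using this
      have hz1 : ((z0 : P) : Sz F m) ≠ 1 := by
        intro h1
        have : z0 = 1 := by
          apply Subtype.ext
          apply Subtype.ext
          exact h1
        rw [this, orderOf_one] at hz0
        exact hpp.one_lt.ne hz0
      apply cyclic_of_commute m hF h _ hzp hz1
      intro x hx
      have := Subgroup.mem_center_iff.1 z0.2 ⟨x, hx⟩
      have := congrArg (fun x : P => (x : Sz F m)) this
      simpa using this
  · -- the split torus case
    have hinj : Function.Injective (dHom m hF) := fun α β h => dD_inj m hF h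
    let H : Subgroup (Sz F m) := (dHom m hF).range
    have hcardH : Nat.card H = 2 ^ (2 * m + 1) - 1 := by
      rw [← Nat.card_congr (MonoidHom.ofInjective hinj).toEquiv, Nat.card_units,
        Nat.card_eq_fintype_card, hF]
    haveI : IsCyclic H := isCyclic_of_surjective (dHom m hF).rangeRestrict
      (dHom m hF).rangeRestrict_surjective
    obtain ⟨S⟩ : Nonempty (Sylow p H) := inferInstance
    let S' : Subgroup (Sz F m) := (S : Subgroup H).map H.subtype
    have hS'card : Nat.card S' = Nat.card S :=
      Subgroup.card_map_of_injective H.subtype_injective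
    have hfac : (Nat.card (Sz F m)).factorization p = (Nat.card H).factorization p := by
      rw [hcard, hcardH]
      have hne1 : (2 ^ (2 * m + 1)) ^ 2 * ((2 ^ (2 * m + 1)) ^ 2 + 1) ≠ 0 := by positivity
      have hne2 : 2 ^ (2 * m + 1) - 1 ≠ 0 := by
        have : 2 ≤ 2 ^ (2 * m + 1) := by
          calc 2 = 2 ^ 1 := by norm_num
            _ ≤ 2 ^ (2 * m + 1) := Nat.pow_le_pow_right (by norm_num) (by omega)
        omega
      rw [Nat.factorization_mul hne1 hne2]
      have hnd : ¬ p ∣ (2 ^ (2 * m + 1)) ^ 2 * ((2 ^ (2 * m + 1)) ^ 2 + 1) := by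
        intro hd
        rcases (Nat.Prime.dvd_mul hpp).1 hd with hd | hd
        · have := hpp.dvd_of_dvd_pow (hpp.dvd_of_dvd_pow hd)
          exact hp ((Nat.prime_dvd_prime_iff_eq hpp Nat.prime_two).1 this)
        · have hq2 : 2 ≤ 2 ^ (2 * m + 1) := by
            calc 2 = 2 ^ 1 := by norm_num
              _ ≤ 2 ^ (2 * m + 1) := Nat.pow_le_pow_right (by norm_num) (by omega)
          obtain ⟨-, -, h1, -, -⟩ := Cfsg.Agent.Lib.Helper5.Torus.arith_of_dvd hq2
            (Even.pow_of_ne_zero even_two (by omega)) hpp hd
          exact h1 h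
      rw [Finsupp.add_apply, Nat.factorization_eq_zero_of_not_dvd hnd, zero_add]
    have hS'card2 : Nat.card S' = p ^ (Nat.card (Sz F m)).factorization p := by
      rw [hS'card, hfac]
      exact Sylow.card_eq_multiplicity S
    let Q : Sylow p (Sz F m) := Sylow.ofCard S' hS'card2
    have e1 : P ≃* Q := Sylow.equiv P Q
    haveI : IsCyclic (S : Subgroup H) := Subgroup.isCyclic _
    have e2 : (S : Subgroup H) ≃* S' := Subgroup.equivMapOfInjective _ _ H.subtype_injective
    haveI : IsCyclic S' := isCyclic_of_surjective e2 e2.surjective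
    have hQ : IsCyclic Q := by
      change IsCyclic S'
      infer_instance
    exact isCyclic_of_surjective e1.symm e1.symm.surjective

end Cfsg.Agent.S0331
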