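import Cfsg.Statements.S0332
import Cfsg.Agent.Lib.Helper5.SuzukiFix
import Mathlib

set_option autoImplicit false
open Cfsg

namespace Cfsg.Agent.S0332
open Cfsg.Agent.Lib.Helper5.Suzuki Cfsg.Agent.S0335

/-- The Suzuki group is a CN-group: every non-identity element has nilpotent centraliser. -/
theorem result {F : Type*} [Field F] [Fintype F] {m : ℕ} (hm : 1 ≤ m)
    (hF : Fintype.card F = 2 ^ (2 * m + 1)) : Cfsg.IsCNGroup (Cfsg.Sz F m) := by
  classical
  haveI : CharP F 2 := charP_of_card hF
  intro g hg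
  rcases trichotomy m hF hm g hg with ⟨h, a, b, hab, he⟩ | ⟨h, α, hα, he⟩ | hfree
  · -- unipotent: the centraliser is a 2-group
    have hP : IsPGroup 2 (Subgroup.centralizer ({g} : Set (Sz F m))) := by
      intro x
      refine ⟨2, ?_⟩
      have hx : x.1 * g = g * x.1 := Subgroup.mem_centralizer_singleton_iff.1 x.2
      have hc := conj_comm (h := h) hx
      rw [he] at hc
      obtain ⟨a', b', h1⟩ := cent_tT m hF hm hab _ hc
      have h4 : (h * x.1 * h⁻¹) ^ 4 = 1 := by
        rw [h1]
        have : (tT m hF a' b') ^ 4 = (tT m hF a' b' * tT m hF a' b') * (tT m hF a' b' * tT m hF a' b') := by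
          rw [← pow_two, ← pow_two, ← pow_mul]
        rw [this, tT_sq, tT_sq, sg_zero, zero_mul, tT_zero]
      rw [conj_pow] at h4
      have h5 : x.1 ^ 4 = 1 := by
        have h6 := mul_inv_eq_one.1 h4
        exact mul_left_cancel (h6.trans (mul_one h).symm)
      apply Subtype.ext
      rw [Subgroup.coe_pow, Subgroup.coe_one]
      exact h5
    haveI : Fact (Nat.Prime 2) := ⟨Nat.prime_two⟩
    exact hP.isNilpotent
  · -- diagonal: the centraliser is commutative
    have hcomm : ∀ x y : Subgroup.centralizer ({g} : Set (Sz F m)), x * y = y * x := by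
      intro x y
      have hx : x.1 * g = g * x.1 := Subgroup.mem_centralizer_singleton_iff.1 x.2
      have hy : y.1 * g = g * y.1 := Subgroup.mem_centralizer_singleton_iff.1 y.2
      have hcx := conj_comm (h := h) hx
      have hcy := conj_comm (h := h) hy
      rw [he] at hcx hcy
      obtain ⟨β, h1⟩ := cent_dD m hF hm hα _ hcx
      obtain ⟨γ, h2⟩ := cent_dD m hF hm hα _ hcy
      have h3 : (h * x.1 * h⁻¹) * (h * y.1 * h⁻¹) = (h * y.1 * h⁻¹) * (h * x.1 * h⁻¹) := by
        rw [h1, h2, dD_mul, dD_mul, mul_comm]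
      have h4 : h * (x.1 * y.1) * h⁻¹ = h * (y.1 * x.1) * h⁻¹ := by
        have e1 : h * (x.1 * y.1) * h⁻¹ = (h * x.1 * h⁻¹) * (h * y.1 * h⁻¹) := by group
        have e2 : h * (y.1 * x.1) * h⁻¹ = (h * y.1 * h⁻¹) * (h * x.1 * h⁻¹) := by group
        rw [e1, e2, h3]
      apply Subtype.ext
      exact mul_left_cancel (mul_right_cancel h4)
    letI : CommGroup (Subgroup.centralizer ({g} : Set (Sz F m))) :=
      { (inferInstance : Group (Subgroup.centralizer ({g} : Set (Sz F m)))) with mul_comm := hcomm }
    exact CommGroup.isNilpotent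
  · -- fixed-point-free: the centraliser is cyclic
    obtain ⟨p, z, hp, hpd, hzp, hz1, hzmem⟩ := fixfree_prime m hF hm g hfree
    haveI : Fact p.Prime := ⟨hp⟩
    have hcyc : IsCyclic (Subgroup.centralizer ({g} : Set (Sz F m))) := by
      apply cyclic_of_commute m hF hpd z hzp hz1
      intro k hk
      have hk' : k * g = g * k := Subgroup.mem_centralizer_singleton_iff.1 hk
      obtain ⟨j, rfl⟩ := Subgroup.mem_zpowers_iff.1 hzmem
      exact ((Commute.zpow_right (show Commute k g from hk') j)).eq
    letI : CommGroup (Subgroup.centralizer ({g} : Set (Sz F m))) := IsCyclic.commGroup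
    exact CommGroup.isNilpotent

end Cfsg.Agent.S0332
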