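import Cfsg.Statements.S0355
import Cfsg.Agent.Lib.Helper6.SteinerParams

set_option autoImplicit false
open Cfsg

namespace Cfsg.Agent.S0355
open Cfsg.Agent.Lib.Helper6.Steiner

/-- In a Steiner system S(4, 7, 23), two distinct blocks intersect in 1 or 3 points. -/
theorem result {α : Type*} [Fintype α] [DecidableEq α] (hα : Fintype.card α = 23) {B : Set (Finset α)} (hB : Cfsg.IsSteinerSystem 4 7 B) {b c : Finset α} (hb : b ∈ B) (hc : c ∈ B) (hbc : b ≠ c) : (b ∩ c).card = 1 ∨ (b ∩ c).card = 3 := by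
  obtain ⟨h0, h1, h2, h3, h4, h5, h6, h7⟩ := nI_4_7_23 hα hB hb
  have hpos := nI_pos_of_mem (B := B) (b := b) hc
  have hle := inter_card_le hB hb c
  have hne : (b ∩ c).card ≠ 7 := fun h => hbc (eq_of_inter_card hB hb hc h)
  interval_cases h : (b ∩ c).card <;> simp_all

end Cfsg.Agent.S0355
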