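import Cfsg.Statements.S0357
import Cfsg.Agent.Lib.Helper6.SteinerParams

set_option autoImplicit false
open Cfsg

namespace Cfsg.Agent.S0357
open Cfsg.Agent.Lib.Helper6.Steiner

/-- In a Steiner system S(5, 6, 12), the complement of every block is again a block. -/
theorem result {α : Type*} [Fintype α] [DecidableEq α] (hα : Fintype.card α = 12) {B : Set (Finset α)} (hB : Cfsg.IsSteinerSystem 5 6 B) {b : Finset α} (hb : b ∈ B) : bᶜ ∈ B := by
  obtain ⟨h0, -⟩ := nI_5_6_12 hα hB hb
  have hne : {c | c ∈ B ∧ (b ∩ c).card = 0}.Nonempty := by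
    rw [← Set.ncard_pos (Set.toFinite _)]
    have : nI B b 0 = {c | c ∈ B ∧ (b ∩ c).card = 0}.ncard := rfl
    omega
  obtain ⟨c, hcB, hc0⟩ := hne
  have hsub : c ⊆ bᶜ := by
    intro x hx
    rw [Finset.mem_compl]
    intro hxb
    have : x ∈ b ∩ c := Finset.mem_inter.mpr ⟨hxb, hx⟩
    rw [Finset.card_eq_zero.mp hc0] at this
    simp at this
  have : c = bᶜ := by
    apply Finset.eq_of_subset_of_card_le hsub
    rw [Finset.card_compl, hα, hB.1 b hb, hB.1 c hcB]
  rw [← this]
  exact hcB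

end Cfsg.Agent.S0357
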