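import Cfsg.Statements.S0362
import Cfsg.Agent.Lib.Helper6.GolayCode

set_option autoImplicit false
open Cfsg

namespace Cfsg.Agent.S0362

open Cfsg.Agent.Lib.Helper6.Golay

theorem dec_mul (a b : ℕ) (p : GolayPt) : dec a p * dec b p = dec (a &&& b) p := by
  simp only [dec, Nat.testBit_and]
  cases a.testBit (idx p) <;> cases b.testBit (idx p) <;> simp

theorem sum_dec (n : ℕ) : ∑ p, dec n p = ((pc 24 n : ℕ) : ZMod 2) := by
  rw [← hammingNorm_dec, hammingNorm]
  have : ∀ p, dec n p = if dec n p ≠ 0 then (1 : ZMod 2) else 0 := by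
    intro p
    have h01 : dec n p = 0 ∨ dec n p = 1 := by generalize dec n p = c; revert c; decide
    rcases h01 with h | h <;> simp [h]
  rw [Finset.sum_congr rfl (fun p _ => this p), Finset.sum_boole]

theorem dot_dec (a b : ℕ) : ∑ p, dec a p * dec b p = ((pc 24 (a &&& b) : ℕ) : ZMod 2) := by
  rw [Finset.sum_congr rfl (fun p _ => dec_mul a b p), sum_dec]

theorem gens_orth : ∀ g ∈ genMasks, ∀ h ∈ genMasks, pc 24 (g &&& h) % 2 = 0 := by decide +kernel

theorem gen_exists (v : GolayPt → ZMod 2) (hv : v ∈ Set.range qrWord ∪ {1}) : ∃ g ∈ genMasks, v = dec g := by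
  rcases hv with ⟨t, rfl⟩ | hv
  · refine ⟨qrMasks.getD t.val 0, ?_, qrWord_eq t⟩
    have ht : t.val < 23 := ZMod.val_lt t
    rw [List.getD_eq_getElem _ _ (by simpa [qrMasks] using ht)]
    simp only [genMasks]
    exact List.mem_append_left _ (List.getElem_mem _)
  · rw [Set.mem_singleton_iff] at hv
    refine ⟨2 ^ 24 - 1, ?_, by rw [hv, dec_ones]⟩
    simp [genMasks]

/-- The length-24 code is self-orthogonal. -/
theorem result (v w : Cfsg.GolayPt → ZMod 2) (hv : v ∈ Cfsg.golayCode) (hw : w ∈ Cfsg.golayCode) : ∑ i, v i * w i = 0 := by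
  -- first: generator against generator
  have h1 : ∀ v ∈ Set.range qrWord ∪ {1}, ∀ w ∈ Set.range qrWord ∪ {1}, ∑ i, v i * w i = 0 := by
    intro v hv w hw
    obtain ⟨g, hg, rfl⟩ := gen_exists v hv
    obtain ⟨h, hh, rfl⟩ := gen_exists w hw
    rw [dot_dec, ZMod.natCast_eq_zero_iff]
    exact Nat.dvd_of_mod_eq_zero (gens_orth g hg h hh)
  -- generator against code
  have h2 : ∀ v ∈ Set.range qrWord ∪ {1}, ∀ w ∈ Cfsg.golayCode, ∑ i, v i * w i = 0 := by
    intro v hv w hw
    induction hw using Submodule.span_induction with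
    | mem x hx => exact h1 v hv x hx
    | zero => simp
    | add x y _ _ hx hy =>
      simp only [Pi.add_apply, mul_add, Finset.sum_add_distrib, hx, hy, add_zero]
    | smul a x _ hx =>
      simp only [Pi.smul_apply, smul_eq_mul]
      have : ∀ i, v i * (a * x i) = a * (v i * x i) := fun i => by ring
      rw [Finset.sum_congr rfl (fun i _ => this i), ← Finset.mul_sum, hx, mul_zero]
  induction hv using Submodule.span_induction with
  | mem x hx => exact h2 x hx w hw
  | zero => simp
  | add x y _ _ hx hy =>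
    simp only [Pi.add_apply, add_mul, Finset.sum_add_distrib, hx, hy, add_zero]
  | smul a x _ hx =>
    simp only [Pi.smul_apply, smul_eq_mul]
    have : ∀ i, a * x i * w i = a * (x i * w i) := fun i => by ring
    rw [Finset.sum_congr rfl (fun i _ => this i), ← Finset.mul_sum, hx, mul_zero]

end Cfsg.Agent.S0362
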