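import Cfsg.Statements.S0371
import Cfsg.Agent.Lib.Helper6.GolayM24

set_option autoImplicit false
open Cfsg

namespace Cfsg.Agent.S0371

open Cfsg.Agent.Lib.Helper6.Golay in
set_option maxHeartbeats 4000000 in
theorem sq_check : ∀ a : ZMod 23, a ≠ 0 → checkFun (Option.map (fun x => a * a * x)) = true := by
  decide +kernel

/-- Multiplication by a nonzero square residue modulo 23, fixing the extra point, lies in the group of the length-24 code. -/
theorem result (u : (ZMod 23)ˣ) (hu : IsSquare u) : Equiv.optionCongr (Units.mulLeft u) ∈ Cfsg.M24 := by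
  apply Cfsg.Agent.Lib.Helper6.Golay.mem_M24_of_checkFun
  obtain ⟨s, rfl⟩ := hu
  have : Fact (1 < 23) := ⟨by norm_num⟩
  have h := sq_check (s : ZMod 23) (Units.ne_zero s)
  have hfun : (⇑(Equiv.optionCongr (Units.mulLeft (s * s))) : Cfsg.GolayPt → Cfsg.GolayPt) = Option.map (fun x => (s : ZMod 23) * (s : ZMod 23) * x) := by
    funext p
    cases p with
    | none => rfl
    | some x => simp [Units.mulLeft]
  rw [hfun]; exact h

end Cfsg.Agent.S0371
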