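import Cfsg.Statements.S0384
import Cfsg.Agent.Lib.Helper6.GolayM12b

set_option autoImplicit false
open scoped Pointwise
open Cfsg

namespace Cfsg.Agent.S0384

open Cfsg.Agent.Lib.Helper6.Golay Cfsg.Agent.Lib.Helper6.PermChain
open scoped Pointwise


/-- A dodecad stabiliser is sharply 5-transitive on the dodecad. -/
theorem result (d : Finset Cfsg.GolayPt) (hd : d ∈ Cfsg.dodecads) (x y : Fin 5 ↪ Cfsg.GolayPt) (hx : ∀ i, x i ∈ d) (hy : ∀ i, y i ∈ d) : ∃! g : MulAction.stabilizer Cfsg.M24 d, ∀ i, ((g : Cfsg.M24) : Equiv.Perm Cfsg.GolayPt) (x i) = y i := by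
  obtain ⟨g, ⟨⟨hgM, hgd⟩, hgxy⟩, huniq⟩ := existsUnique_stab_dodecad hd x y hx hy
  refine ⟨⟨⟨g, hgM⟩, hgd⟩, hgxy, ?_⟩
  intro g2 hg2
  have := huniq g2.1.1 ⟨⟨g2.1.2, g2.2⟩, hg2⟩
  apply Subtype.ext
  apply Subtype.ext
  exact this

end Cfsg.Agent.S0384
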