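import Cfsg.Statements.S0386
import Cfsg.Agent.Lib.Helper6.GolayCount

set_option autoImplicit false
open Cfsg

namespace Cfsg.Agent.S0386

open Cfsg.Agent.Lib.Helper6.Golay Cfsg.Agent.Lib.Helper6.PermChain
open scoped Pointwise

set_option maxHeartbeats 4000000 in
theorem c6 : countBelow (fun m => pc 24 (combo m) == 8 && pc 24 (combo m &&& dodecad0) == 6) 4096 = 132 := by
  decide +kernel

set_option maxHeartbeats 4000000 in
theorem c2 : countBelow (fun m => pc 24 (combo m) == 8 && pc 24 (combo m &&& dodecad0) == 2) 4096 = 132 := by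
  decide +kernel

set_option maxHeartbeats 4000000 in
theorem c4 : countBelow (fun m => pc 24 (combo m) == 8 && pc 24 (combo m &&& dodecad0) == 4) 4096 = 495 := by
  decide +kernel


/-- For a fixed dodecad, 132 octads meet it in 6 points, 132 in 2 points and 495 in 4 points. -/
theorem result (d : Finset Cfsg.GolayPt) (hd : d ∈ Cfsg.dodecads) : {o : Finset Cfsg.GolayPt | o ∈ Cfsg.octads ∧ (o ∩ d).card = 6}.ncard = 132 ∧ {o : Finset Cfsg.GolayPt | o ∈ Cfsg.octads ∧ (o ∩ d).card = 2}.ncard = 132 ∧ {o : Finset Cfsg.GolayPt | o ∈ Cfsg.octads ∧ (o ∩ d).card = 4}.ncard = 495 := by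
  have h := fun k => ncard_inter_dodecad hd 8 k
  exact ⟨(h 6).trans c6, (h 2).trans c2, (h 4).trans c4⟩

end Cfsg.Agent.S0386
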