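import Cfsg.Statements.S0408
import Cfsg.Agent.Lib.Helper6.Steiner12
import Cfsg.Agent.Lib.Helper6.SteinerTransport

set_option autoImplicit false
open Cfsg

namespace Cfsg.Agent.S0408

open Cfsg.Agent.Lib.Helper6 Cfsg.Agent.Lib.Helper6.SteinerSearch

/-- Uniqueness of the Steiner system S(5, 6, 12) up to isomorphism. -/
theorem result {α β : Type*} [Fintype α] [DecidableEq α] [Fintype β] [DecidableEq β] (hα : Fintype.card α = 12) (hβ : Fintype.card β = 12) {B : Set (Finset α)} {B' : Set (Finset β)} (hB : Cfsg.IsSteinerSystem 5 6 B) (hB' : Cfsg.IsSteinerSystem 5 6 B') : Cfsg.SetSystemIso B B' := by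
  have e1 : α ≃ Fin 12 := Fintype.equivFinOfCardEq hα
  have e2 : β ≃ Fin 12 := Fintype.equivFinOfCardEq hβ
  obtain ⟨σ1, _, h1⟩ := Steiner12.unique_strong (steiner_imgSysE e1 hB)
  obtain ⟨σ2, _, h2⟩ := Steiner12.unique_strong (steiner_imgSysE e2 hB')
  refine iso_of_char (e1.trans σ1) (e2.trans σ2) (B0set 12 Steiner12.B0) (fun a => ?_) (fun c => ?_)
  · rw [← image_mem_imgSysE (e := e1), h1, Finset.image_image]
    rfl
  · rw [← image_mem_imgSysE (e := e2), h2, Finset.image_image]
    rfl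

end Cfsg.Agent.S0408
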