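import Cfsg.Statements.S0414
import Cfsg.Agent.Lib.Helper6.M22Aut2

set_option autoImplicit false
open Cfsg

namespace Cfsg.Agent.S0414

/-- Aut of an S(3, 6, 22) has order 887040, is 3-transitive, and contains a simple subgroup of index 2. -/
theorem result {α : Type*} [Fintype α] [DecidableEq α] (hα : Fintype.card α = 22) {B : Set (Finset α)} (hB : Cfsg.IsSteinerSystem 3 6 B) : Nat.card (Cfsg.setSystemAut B) = 887040 ∧ MulAction.IsMultiplyPretransitive (Cfsg.setSystemAut B) α 3 ∧ ∃ H : Subgroup (Cfsg.setSystemAut B), H.index = 2 ∧ Cfsg.IsM22 H := by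
  obtain ⟨e22, he22⟩ := Cfsg.Agent.Lib.Helper6.S22.exists_equiv hα hB
  have ψ := Cfsg.Agent.Lib.Helper6.SteinerSearch.autEquiv e22 he22
  refine ⟨?_, ?_, ?_⟩
  · rw [← Nat.card_congr ψ.toEquiv]
    exact Cfsg.Agent.Lib.Helper6.M22Aut.A22_card
  · exact Cfsg.Agent.Lib.Helper6.SteinerSearch.pretransitive_transport e22 he22 3
      Cfsg.Agent.Lib.Helper6.M22Aut.A22_trans
  · refine ⟨Subgroup.map (ψ : _ →* _) Cfsg.Agent.Lib.Helper6.M22Aut.H22, ?_, ?_, ?_⟩
    · rw [Subgroup.index_map_equiv]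
      exact Cfsg.Agent.Lib.Helper6.M22Aut.H22_index
    · have := Cfsg.Agent.Lib.Helper6.M22Aut.H22_simple
      exact (ψ.subgroupMap Cfsg.Agent.Lib.Helper6.M22Aut.H22).symm.isSimpleGroup
    · rw [← Nat.card_congr (ψ.subgroupMap Cfsg.Agent.Lib.Helper6.M22Aut.H22).toEquiv]
      exact Cfsg.Agent.Lib.Helper6.M22Aut.H22_card

end Cfsg.Agent.S0414
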