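import Cfsg.Statements.S0418
import Cfsg.Agent.Lib.Lead.MathieuSharp
import Mathlib

set_option autoImplicit false
open Cfsg

namespace Cfsg.Agent.S0418

/-- A sharply 4-transitive group of degree 11 is simple of order 7920. -/
theorem result {α : Type*} [Fintype α] [DecidableEq α] (hα : Fintype.card α = 11) (G : Subgroup (Equiv.Perm α)) [MulAction.IsMultiplyPretransitive G α 4] (hsharp : ∀ x : Fin 4 ↪ α, MulAction.stabilizer G x = ⊥) : Cfsg.IsM11 G := by
  have hcardG : Nat.card G = 7920 := by
    rw [Cfsg.Agent.Lead.MathieuSharp.card_of_sharp G 4 hsharp (by omega), hα]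
    decide
  refine ⟨?_, hcardG⟩
  apply Cfsg.Agent.Lead.MathieuSharp.simple_of_numerics G (by omega) (by omega) 720
    (by rw [hcardG]) (by norm_num)
  · intro c s hc h11 hsc hs
    obtain ⟨d, rfl⟩ := h11
    have hd : d ∣ 10 := by
      have : 11 * d ∣ 11 * 10 := hc
      exact (Nat.mul_dvd_mul_iff_left (by norm_num)).1 this
    have hd10 : d ≤ 10 := Nat.le_of_dvd (by norm_num) hd
    have hd0 : 0 < d := Nat.pos_of_dvd_of_pos hd (by norm_num)
    interval_cases d <;> omega
  · intro N hN hNb
    have h := Cfsg.Agent.Lead.JordanNormal.jordan_aux 4 (by norm_num) G α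
      (by rw [Nat.card_eq_fintype_card, hα]; norm_num) inferInstance N hN hNb
    rcases h with h | ⟨h3, -⟩
    · have hdvd := Cfsg.Agent.Lead.MathieuSharp.dvd_card_of_trans (α := α) (H := N) 3 h
        (by omega)
      rw [hα] at hdvd
      have hd : Nat.descFactorial 11 3 = 990 := by decide
      rw [hd] at hdvd
      obtain ⟨t, ht⟩ := hdvd
      have hNc := N.card_mul_index
      rw [hcardG, ht] at hNc
      have : 990 * (t * N.index) = 990 * 8 := by rw [← mul_assoc, hNc]
      have h8 := Nat.eq_of_mul_eq_mul_left (by norm_num) this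
      exact ⟨t, by rw [← h8]; ring⟩
    · omega

end Cfsg.Agent.S0418
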