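import Cfsg.Statements.S0426
import Cfsg.Agent.Lib.Helper6.Steiner11Aut
import Cfsg.Agent.Lib.Helper6.SteinerTransport
import Cfsg.Agent.Lib.Helper6.SteinerAutT
import Cfsg.Agent.S0418

set_option autoImplicit false
open Cfsg

namespace Cfsg.Agent.S0426

open Cfsg.Agent.Lib.Helper6 Cfsg.Agent.Lib.Helper6.SteinerSearch

/-- Aut of an S(4, 5, 11) is simple of order 7920 and sharply 4-transitive on points. -/
theorem result {α : Type*} [Fintype α] [DecidableEq α] (hα : Fintype.card α = 11) {B : Set (Finset α)} (hB : Cfsg.IsSteinerSystem 4 5 B) : Cfsg.IsM11 (Cfsg.setSystemAut B) ∧ MulAction.IsMultiplyPretransitive (Cfsg.setSystemAut B) α 4 ∧ ∀ x : Fin 4 ↪ α, MulAction.stabilizer (Cfsg.setSystemAut B) x = ⊥ := by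
  have e1 : α ≃ Fin 11 := Fintype.equivFinOfCardEq hα
  obtain ⟨σ1, _, h1⟩ := Steiner11.unique_strong (steiner_imgSysE e1 hB)
  have hf : ∀ a : Finset α, a ∈ B ↔ a.image (e1.trans σ1) ∈ B0set 11 Steiner11.B0 := by
    intro a
    rw [← image_mem_imgSysE (e := e1), h1, Finset.image_image]
    rfl
  have hT := aut_pretransitive Steiner11.B0 (by norm_num : 4 ≤ 11) Steiner11.steinerX
    (fun B hB => Steiner11.unique_strong hB)
  have hS := aut_sharp Steiner11.B0 (by norm_num : 4 ≤ 11) Steiner11.steinerX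
    (fun B hB => Steiner11.unique_strong hB) Steiner11.hstd
  have hT' := pretransitive_transport (e1.trans σ1) hf 4 hT
  have hS' := sharp_transport (e1.trans σ1) hf 4 hS
  have := hT'
  exact ⟨Cfsg.Agent.S0418.result hα (Cfsg.setSystemAut B) hS', hT', hS'⟩

end Cfsg.Agent.S0426
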