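import Cfsg.Statements.S0431
import Cfsg.Agent.Lib.Helper6.HSGraphSimple
import Cfsg.Agent.Lib.Helper6.S22

set_option autoImplicit false
open Cfsg

namespace Cfsg.Agent.S0431

/-- Aut of the point-block graph of an S(3, 6, 22) contains a simple subgroup of order 44352000. -/
theorem result {α : Type*} [Fintype α] (hα : Fintype.card α = 22) {B : Set (Finset α)} (hB : Cfsg.IsSteinerSystem 3 6 B) : ∃ H : Subgroup (Cfsg.pointBlockGraph B ≃g Cfsg.pointBlockGraph B), Cfsg.IsHS H := by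
  classical
  obtain ⟨e, he⟩ := Cfsg.Agent.Lib.Helper6.S22.exists_equiv hα hB
  let f := Cfsg.Agent.Lib.Helper6.HSGraph.autCongrMul
    (Cfsg.Agent.Lib.Helper6.HSGraph.isoOfEquiv e he)
  refine ⟨Cfsg.Agent.Lib.Helper6.HSGraph.HS0.map f.symm.toMonoidHom, ?_, ?_⟩
  · have := Cfsg.Agent.Lib.Helper6.HSGraph.HS0_simple
    exact (f.symm.subgroupMap Cfsg.Agent.Lib.Helper6.HSGraph.HS0).symm.isSimpleGroup
  · exact (Nat.card_congr (f.symm.subgroupMap Cfsg.Agent.Lib.Helper6.HSGraph.HS0).toEquiv).symm.trans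
      Cfsg.Agent.Lib.Helper6.HSGraph.HS0_card

end Cfsg.Agent.S0431
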