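import Cfsg.Statements.S0436
import Mathlib

set_option autoImplicit false
open Cfsg

namespace Cfsg.Agent.S0436

theorem sq_one {G : Type*} [Group G] {E : Set G} (hE : Cfsg.IsThreeTranspositionSet E) {e : G}
    (he : e ∈ E) : e * e = 1 := by
  have := pow_orderOf_eq_one e; rwa [hE.1 e he, pow_two] at this

theorem inv_self {G : Type*} [Group G] {E : Set G} (hE : Cfsg.IsThreeTranspositionSet E) {e : G}
    (he : e ∈ E) : e⁻¹ = e := inv_eq_of_mul_eq_one_right (sq_one hE he)

/-- two members of a 3-transposition set that do not commute satisfy the braid relation -/
theorem braid {G : Type*} [Group G] {E : Set G} (hE : Cfsg.IsThreeTranspositionSet E) {e a : G}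
    (he : e ∈ E) (ha : a ∈ E) (h : ¬ Commute e a) : e * a * e = a * e * a := by
  have he' := inv_self hE he
  have ha' := inv_self hE ha
  rcases hE.2 e he a ha with h2 | h3
  · exfalso
    apply h
    rw [pow_two] at h2
    show e * a = a * e
    have := eq_inv_of_mul_eq_one_left h2
    rw [this, mul_inv_rev, he', ha']
  · have h3' : e * a * e * (a * e * a) = 1 := by
      rw [← h3]; simp only [pow_succ, pow_zero, one_mul, mul_assoc]
    have := eq_inv_of_mul_eq_one_left h3'
    rw [this, mul_inv_rev, mul_inv_rev, he', ha', mul_assoc]

/-- For distinct commuting members a, b of a set of 3-transpositions E, a member e of E centralises the product a * b if and only if it centralises both a and b. -/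
theorem result {G : Type*} [Group G] {E : Set G} (hE : Cfsg.IsThreeTranspositionSet E) {a b e : G} (ha : a ∈ E) (hb : b ∈ E) (he : e ∈ E) (hab : a ≠ b) (hcomm : Commute a b) : Commute e (a * b) ↔ (Commute e a ∧ Commute e b) := by
  constructor
  · intro hcomm_e
    have haa := sq_one hE ha
    have hbb := sq_one hE hb
    have hee := sq_one hE he
    by_cases h1 : Commute e a
    · refine ⟨h1, ?_⟩
      have : b = a⁻¹ * (a * b) := by group
      rw [this]
      exact h1.inv_right.mul_right hcomm_e
    · by_cases h2 : Commute e b
      · exfalso
        apply h1
        have : a = (a * b) * b⁻¹ := by group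
        rw [this]
        exact hcomm_e.mul_right h2.inv_right
      · exfalso
        apply hab
        have b1 := braid hE he ha h1
        have b2 := braid hE he hb h2
        -- e (a b) e = (e a e)(e b e) = (a e a)(b e b)
        have k1 : e * (a * b) * e = (a * e * a) * (b * e * b) := by
          rw [← b1, ← b2]
          calc e * (a * b) * e = e * a * (1 : G) * b * e := by group
            _ = e * a * (e * e) * b * e := by rw [hee]
            _ = e * a * e * (e * b * e) := by group
        have k2 : e * (a * b) * e = a * b := by
          have : e * (a * b) = a * b * e := hcomm_e.eq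
          rw [this, mul_assoc, hee, mul_one]
        rw [k2] at k1
        -- a b = a e a b e b  ⟹  1 = e a b e
        have k3 : e * (a * b) * e = 1 := by
          calc e * (a * b) * e = a⁻¹ * (a * e * a * (b * e * b)) * b⁻¹ := by group
            _ = a⁻¹ * (a * b) * b⁻¹ := by rw [← k1]
            _ = 1 := by group
        rw [k2] at k3
        -- a * b = 1 → a = b
        have := eq_inv_of_mul_eq_one_left k3
        rw [this, inv_self hE hb]
  · rintro ⟨h1, h2⟩
    exact h1.mul_right h2

end Cfsg.Agent.S0436
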