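import Cfsg.Statements.S0437
import Mathlib

set_option autoImplicit false
open Cfsg

namespace Cfsg.Agent.S0437

theorem sq_one {G : Type*} [Group G] {E : Set G} (hE : Cfsg.IsThreeTranspositionSet E) {e : G}
    (he : e ∈ E) : e * e = 1 := by
  have := pow_orderOf_eq_one e; rwa [hE.1 e he, pow_two] at this

theorem inv_self {G : Type*} [Group G] {E : Set G} (hE : Cfsg.IsThreeTranspositionSet E) {e : G}
    (he : e ∈ E) : e⁻¹ = e := inv_eq_of_mul_eq_one_right (sq_one hE he)

/-- two members of a 3-transposition set that do not commute satisfy the braid relation -/
theorem braid {G : Type*} [Group G] {E : Set G} (hE : Cfsg.IsThreeTranspositionSet E) {e a : G}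
    (he : e ∈ E) (ha : a ∈ E) (h : ¬ Commute e a) : e * a * e = a * e * a := by
  have he' := inv_self hE he
  have ha' := inv_self hE ha
  rcases hE.2 e he a ha with h2 | h3
  · exfalso
    apply h
    rw [pow_two] at h2
    show e * a = a * e
    have := eq_inv_of_mul_eq_one_left h2
    rw [this, mul_inv_rev, he', ha']
  · have h3' : e * a * e * (a * e * a) = 1 := by
      rw [← h3]; simp only [pow_succ, pow_zero, one_mul, mul_assoc]
    have := eq_inv_of_mul_eq_one_left h3'
    rw [this, mul_inv_rev, mul_inv_rev, he', ha', mul_assoc]

theorem two {G : Type*} [Group G] {E : Set G} (hE : Cfsg.IsThreeTranspositionSet E) {a b e : G} (ha : a ∈ E) (hb : b ∈ E) (he : e ∈ E) (hab : a ≠ b) (hcomm : Commute a b) : Commute e (a * b) ↔ (Commute e a ∧ Commute e b) := by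
  constructor
  · intro hcomm_e
    have haa := sq_one hE ha
    have hbb := sq_one hE hb
    have hee := sq_one hE he
    by_cases h1 : Commute e a
    · refine ⟨h1, ?_⟩
      have : b = a⁻¹ * (a * b) := by group
      rw [this]
      exact h1.inv_right.mul_right hcomm_e
    · by_cases h2 : Commute e b
      · exfalso
        apply h1
        have : a = (a * b) * b⁻¹ := by group
        rw [this]
        exact hcomm_e.mul_right h2.inv_right
      · exfalso
        apply hab
        have b1 := braid hE he ha h1
        have b2 := braid hE he hb h2
        -- e (a b) e = (e a e)(e b e) = (a e a)(b e b)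
        have k1 : e * (a * b) * e = (a * e * a) * (b * e * b) := by
          rw [← b1, ← b2]
          calc e * (a * b) * e = e * a * (1 : G) * b * e := by group
            _ = e * a * (e * e) * b * e := by rw [hee]
            _ = e * a * e * (e * b * e) := by group
        have k2 : e * (a * b) * e = a * b := by
          have : e * (a * b) = a * b * e := hcomm_e.eq
          rw [this, mul_assoc, hee, mul_one]
        rw [k2] at k1
        -- a b = a e a b e b  ⟹  1 = e a b e
        have k3 : e * (a * b) * e = 1 := by
          calc e * (a * b) * e = a⁻¹ * (a * e * a * (b * e * b)) * b⁻¹ := by group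
            _ = a⁻¹ * (a * b) * b⁻¹ := by rw [← k1]
            _ = 1 := by group
        rw [k2] at k3
        -- a * b = 1 → a = b
        have := eq_inv_of_mul_eq_one_left k3
        rw [this, inv_self hE hb]
  · rintro ⟨h1, h2⟩
    exact h1.mul_right h2


/-- For three distinct, pairwise commuting members a, b, c of a set of 3-transpositions E, a member e of E centralises a * b * c if and only if it centralises each of a, b and c. -/
theorem result {G : Type*} [Group G] {E : Set G} (hE : Cfsg.IsThreeTranspositionSet E) {a b c e : G} (ha : a ∈ E) (hb : b ∈ E) (hc : c ∈ E) (he : e ∈ E) (hab : a ≠ b) (hac : a ≠ c) (hbc : b ≠ c) (h₁ : Commute a b) (h₂ : Commute a c) (h₃ : Commute b c) : Commute e (a * b * c) ↔ (Commute e a ∧ Commute e b ∧ Commute e c) := by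
  constructor
  · intro hz
    have haa := sq_one hE ha
    have hbb := sq_one hE hb
    have hcc := sq_one hE hc
    have hee := sq_one hE he
    by_cases k1 : Commute e a
    · have : Commute e (b * c) := by
        have e1 : b * c = a⁻¹ * (a * b * c) := by group
        rw [e1]; exact k1.inv_right.mul_right hz
      have := (two hE hb hc he hbc h₃).mp this
      exact ⟨k1, this.1, this.2⟩
    · by_cases k2 : Commute e b
      · have : Commute e (a * c) := by
          have e1 : a * c = b⁻¹ * (a * b * c) := by
            rw [h₁.eq]; group
          rw [e1]; exact k2.inv_right.mul_right hz
        have := (two hE ha hc he hac h₂).mp this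
        exact ⟨this.1, k2, this.2⟩
      · by_cases k3 : Commute e c
        · have : Commute e (a * b) := by
            have e1 : a * b = (a * b * c) * c⁻¹ := by group
            rw [e1]; exact hz.mul_right k3.inv_right
          have := (two hE ha hb he hab h₁).mp this
          exact ⟨this.1, this.2, k3⟩
        · exfalso
          apply k3
          have b1 := braid hE he ha k1
          have b2 := braid hE he hb k2
          have b3 := braid hE he hc k3
          have hab' : a * b = b * a := h₁.eq
          -- (1) e a b e a b = a b e a b e
          have i1 : e * a * b * e * a * b = a * b * e * a * b * e := by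
            calc e * a * b * e * a * b = e * a * b * e * (a * b) := by group
              _ = e * a * b * e * (b * a) := by rw [hab']
              _ = e * a * (b * e * b) * a := by group
              _ = e * a * (e * b * e) * a := by rw [b2]
              _ = (e * a * e) * b * e * a := by group
              _ = (a * e * a) * b * e * a := by rw [b1]
              _ = a * e * (a * b) * e * a := by group
              _ = a * e * (b * a) * e * a := by rw [hab']
              _ = a * e * b * (a * e * a) := by group
              _ = a * e * b * (e * a * e) := by rw [b1]
              _ = a * (e * b * e) * a * e := by group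
              _ = a * (b * e * b) * a * e := by rw [b2]
              _ = a * b * e * (b * a) * e := by group
              _ = a * b * e * (a * b) * e := by rw [hab']
              _ = a * b * e * a * b * e := by group
          -- c e c = a b e a b
          have hc' := inv_self hE hc
          have ha' := inv_self hE ha
          have hb' := inv_self hE hb
          have i2 : c * e * c = a * b * e * a * b := by
            have e1 : c = (a * b)⁻¹ * (a * b * c) := by group
            have e2 : c = (a * b * c)⁻¹ * (a * b) := by
              calc c = c⁻¹ := hc'.symm
                _ = (a * b * c)⁻¹ * (a * b) := by group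
            calc c * e * c = c * e * ((a * b * c)⁻¹ * (a * b)) := by rw [← e2]
              _ = ((a * b)⁻¹ * (a * b * c)) * e * ((a * b * c)⁻¹ * (a * b)) := by rw [← e1]
              _ = (a * b)⁻¹ * ((a * b * c) * e) * (a * b * c)⁻¹ * (a * b) := by group
              _ = (a * b)⁻¹ * (e * (a * b * c)) * (a * b * c)⁻¹ * (a * b) := by rw [hz.eq]
              _ = (a * b)⁻¹ * e * (a * b) := by group
              _ = (b * a)⁻¹ * e * (a * b) := by rw [hab']
              _ = a * b * e * a * b := by
                rw [mul_inv_rev, ha', hb']; group
          -- e (c e c) = (c e c) e
          have i3 : e * (c * e * c) = (c * e * c) * e := by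
            rw [i2]
            calc e * (a * b * e * a * b) = e * a * b * e * a * b := by group
              _ = a * b * e * a * b * e := i1
          -- hence c e = e c
          show e * c = c * e
          calc e * c = c * (c * e * c) := by
                calc e * c = (c * c) * e * c := by rw [hcc, one_mul]
                  _ = c * (c * e * c) := by group
            _ = c * (e * c * e) := by rw [b3]
            _ = (c * e * c) * e := by group
            _ = e * (c * e * c) := i3.symm
            _ = (e * c * e) * c := by group
            _ = (c * e * c) * c := by rw [b3]
            _ = c * e * (c * c) := by group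
            _ = c * e := by rw [hcc, mul_one]
  · rintro ⟨k1, k2, k3⟩
    exact (k1.mul_right k2).mul_right k3

end Cfsg.Agent.S0437
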