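import Cfsg.Statements.S0438
import Mathlib

set_option autoImplicit false
open Cfsg

namespace Cfsg.Agent.S0438

theorem sq_one {G : Type*} [Group G] {E : Set G} (hE : Cfsg.IsThreeTranspositionSet E) {e : G}
    (he : e ∈ E) : e * e = 1 := by
  have := pow_orderOf_eq_one e; rwa [hE.1 e he, pow_two] at this

theorem inv_self {G : Type*} [Group G] {E : Set G} (hE : Cfsg.IsThreeTranspositionSet E) {e : G}
    (he : e ∈ E) : e⁻¹ = e := inv_eq_of_mul_eq_one_right (sq_one hE he)

/-- two members of a 3-transposition set that do not commute satisfy the braid relation -/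
theorem braid {G : Type*} [Group G] {E : Set G} (hE : Cfsg.IsThreeTranspositionSet E) {e a : G}
    (he : e ∈ E) (ha : a ∈ E) (h : ¬ Commute e a) : e * a * e = a * e * a := by
  have he' := inv_self hE he
  have ha' := inv_self hE ha
  rcases hE.2 e he a ha with h2 | h3
  · exfalso
    apply h
    rw [pow_two] at h2
    show e * a = a * e
    have := eq_inv_of_mul_eq_one_left h2
    rw [this, mul_inv_rev, he', ha']
  · have h3' : e * a * e * (a * e * a) = 1 := by
      rw [← h3]; simp only [pow_succ, pow_zero, one_mul, mul_assoc]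
    have := eq_inv_of_mul_eq_one_left h3'
    rw [this, mul_inv_rev, mul_inv_rev, he', ha', mul_assoc]

/-- Let E be a set of 3-transpositions closed under conjugation, and x an involutory automorphism of the group mapping E to itself. If some a in E fails to commute with its image x a, then x fixes an element of E. -/
theorem result {G : Type*} [Group G] {E : Set G} (hE : Cfsg.IsThreeTranspositionSet E) (hconj : ∀ g : G, ∀ d ∈ E, g * d * g⁻¹ ∈ E) (x : G ≃* G) (hx : ∀ g : G, x (x g) = g) (hxE : ∀ d ∈ E, x d ∈ E) {a : G} (ha : a ∈ E) (h : ¬ Commute a (x a)) : ∃ d ∈ E, x d = d := by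
  have hb : x a ∈ E := hxE a ha
  have hbr := braid hE ha hb h
  have ha' := inv_self hE ha
  refine ⟨a * x a * a⁻¹, hconj a (x a) hb, ?_⟩
  rw [ha', map_mul, map_mul, hx a, ← hbr]

end Cfsg.Agent.S0438
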