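import Cfsg.Statements.S0439
import Mathlib

set_option autoImplicit false
open Cfsg

namespace Cfsg.Agent.S0439

open Equiv in
theorem swap_mul_swap_pow {α : Type*} [DecidableEq α] [Fintype α] (a b c d : α) (hab : a ≠ b) (hcd : c ≠ d) :
    (swap a b * swap c d) ^ 2 = 1 ∨ (swap a b * swap c d) ^ 3 = 1 := by
  by_cases hac : a = c
  · subst hac
    by_cases hbd : b = d
    · subst hbd
      left; simp
    · right
      have := (Equiv.Perm.isThreeCycle_swap_mul_swap_same hab hcd hbd).orderOf
      rw [← this]; exact pow_orderOf_eq_one _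
  · by_cases had : a = d
    · subst had
      by_cases hbc : b = c
      · subst hbc
        left
        rw [swap_comm b a]; simp
      · right
        rw [swap_comm c a]
        have := (Equiv.Perm.isThreeCycle_swap_mul_swap_same hab hcd.symm hbc).orderOf
        rw [← this]; exact pow_orderOf_eq_one _
    · by_cases hbc : b = c
      · subst hbc
        right
        rw [swap_comm a b]
        have := (Equiv.Perm.isThreeCycle_swap_mul_swap_same hab.symm hcd had).orderOf
        rw [← this]; exact pow_orderOf_eq_one _
      · by_cases hbd : b = d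
        · subst hbd
          right
          rw [swap_comm a b, swap_comm c b]
          have := (Equiv.Perm.isThreeCycle_swap_mul_swap_same hab.symm hcd.symm hac).orderOf
          rw [← this]; exact pow_orderOf_eq_one _
        · left
          have hdisj : Equiv.Perm.Disjoint (swap a b) (swap c d) :=
            Equiv.Perm.disjoint_swap_swap (by simp [hab, hac, had, hbc, hbd, hcd])
          rw [hdisj.commute.mul_pow, pow_two, pow_two, swap_mul_self, swap_mul_self, one_mul]

/-- In the symmetric group of degree n ≥ 2, the set of transpositions is a conjugacy class of 3-transpositions which generates the group. -/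
theorem result (n : ℕ) (hn : 2 ≤ n) : Cfsg.IsThreeTranspositionClass {σ : Equiv.Perm (Fin n) | σ.IsSwap} := by
  refine ⟨⟨?_, ?_⟩, ?_, Equiv.Perm.closure_isSwap⟩
  · intro d hd
    exact Equiv.Perm.IsSwap.orderOf hd
  · rintro d ⟨a, b, hab, rfl⟩ e ⟨c, d', hcd, rfl⟩
    exact swap_mul_swap_pow a b c d' hab hcd
  · have h01 : (⟨0, by omega⟩ : Fin n) ≠ ⟨1, by omega⟩ := by
      intro h; simp [Fin.ext_iff] at h
    refine ⟨Equiv.swap ⟨0, by omega⟩ ⟨1, by omega⟩, ⟨_, _, h01, rfl⟩, ?_⟩
    ext σ
    constructor
    · rintro ⟨a, b, hab, rfl⟩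
      show IsConj _ _
      exact Equiv.Perm.isConj_swap h01 hab
    · intro hσ
      have hσ' : IsConj _ σ := hσ
      rw [isConj_iff] at hσ'
      obtain ⟨c, rfl⟩ := hσ'
      rw [← Equiv.swap_apply_apply]
      exact ⟨_, _, fun h => h01 (c.injective h), rfl⟩

end Cfsg.Agent.S0439
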