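import Cfsg.Statements.S2594
import Mathlib
import Cfsg.Agent.Lib.Helper5.Symp
import Cfsg.Agent.S0245

set_option autoImplicit false

namespace Cfsg.Agent.S2594

open Module Matrix Cfsg Cfsg.Agent.Lib.Helper5.Symp

variable {F : Type*} [Field F]

/-- rank-one matrix decomposition -/
theorem exists_decomp {ι : Type*} [Fintype ι] [DecidableEq ι] (M : Matrix ι ι F) (h1 : M.rank = 1) :
    ∃ (a : ι → F) (φ : Module.Dual F (ι → F)), a ≠ 0 ∧ φ ≠ 0 ∧ ∀ x, M.mulVec x = φ x • a := by
  have hr : finrank F (LinearMap.range M.mulVecLin) = 1 := h1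
  obtain ⟨⟨a, ha⟩, ha0, hspan⟩ := finrank_eq_one_iff'.1 hr
  have ha0' : a ≠ 0 := fun h => ha0 (Subtype.ext h)
  obtain ⟨i, hi⟩ : ∃ i, a i ≠ 0 := by
    by_contra hcon
    push Not at hcon
    exact ha0' (funext hcon)
  let ψ : Module.Dual F (ι → F) := (a i)⁻¹ • LinearMap.proj i
  have hψa : ψ a = 1 := by
    simp [ψ, hi]
  let φ : Module.Dual F (ι → F) := ψ ∘ₗ M.mulVecLin
  have hMx : ∀ x, M.mulVec x = φ x • a := by
    intro x
    obtain ⟨c, hc⟩ := hspan ⟨M.mulVec x, ⟨x, rfl⟩⟩
    have hc' : c • a = M.mulVec x := congrArg Subtype.val hc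
    have : φ x = c := by
      change ψ (M.mulVec x) = c
      rw [← hc', map_smul, hψa, smul_eq_mul, mul_one]
    rw [this, hc']
  obtain ⟨y, hy⟩ := ha
  have hy' : M.mulVec y = a := hy
  have hφy : φ y = 1 := by
    change ψ (M.mulVec y) = 1
    rw [hy', hψa]
  refine ⟨a, φ, ha0', ?_, hMx⟩
  intro h0
  rw [h0] at hφy
  simp at hφy

/-- in characteristic 2, a symplectic matrix `t` with `rank (t-1) = 1` is `x ↦ x + f(x,v) v`. -/
theorem exists_sympTransvection [Finite F] [CharP F 2] {m : ℕ}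
    (t : Matrix (Fin m ⊕ Fin m) (Fin m ⊕ Fin m) F)
    (ht : t ∈ symplecticGroup (Fin m) F) (h1 : (t - 1).rank = 1) :
    ∃ v : Fin m ⊕ Fin m → F, v ≠ 0 ∧ t = sympTransvection m v 1 := by
  obtain ⟨a, φ, ha, hφ, hM⟩ := exists_decomp (t - 1) h1
  have htx : ∀ x, t *ᵥ x = x + φ x • a := by
    intro x
    have := hM x
    rw [Matrix.sub_mulVec, Matrix.one_mulVec] at this
    rw [← this]; abel
  have hs : ∀ x y, φ y * sympForm m F x a = φ x * sympForm m F y a := by
    intro x y
    have h := sympForm_of_mem m ht x y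
    rw [htx, htx] at h
    simp only [sympForm_add_left, sympForm_add_right, sympForm_smul_left, sympForm_smul_right,
      sympForm_self] at h
    rw [sympForm_swap m a y] at h
    linear_combination h
  obtain ⟨x0, hx0⟩ : ∃ x0, φ x0 ≠ 0 := by
    by_contra hcon
    push Not at hcon
    exact hφ (LinearMap.ext hcon)
  set lam := sympForm m F x0 a / φ x0 with hlam
  have hfa : ∀ y, sympForm m F y a = lam * φ y := by
    intro y
    have := hs x0 y
    rw [hlam]
    field_simp
    linear_combination -this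
  have hlam0 : lam ≠ 0 := by
    intro h0
    obtain ⟨x, hx⟩ := exists_sympForm_ne_zero m ha
    apply hx
    rw [sympForm_swap, hfa, h0, zero_mul, neg_zero]
  obtain ⟨μ, hμ⟩ := FiniteField.isSquare_of_char_two (ringChar.eq F 2) lam⁻¹
  have hμ0 : μ ≠ 0 := by
    rintro rfl
    rw [mul_zero] at hμ
    exact inv_ne_zero hlam0 hμ
  refine ⟨μ • a, smul_ne_zero hμ0 ha, ?_⟩
  rw [sympTransvection_smul, Matrix.ext_iff_mulVec]
  intro x
  rw [htx, sympTransvection_mulVec, hfa]
  congr 2
  rw [mul_one, pow_two, ← hμ, ← mul_assoc, inv_mul_cancel₀ hlam0, one_mul]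

/-- in characteristic 2 the vector of a symplectic transvection is unique. -/
theorem sympTransvection_inj [CharP F 2] {m : ℕ} {v w : Fin m ⊕ Fin m → F}
    (h : sympTransvection m v 1 = sympTransvection m w 1) : v = w := by
  have h1 : ∀ x, sympForm m F x v • v = sympForm m F x w • w := by
    intro x
    have := congrArg (fun M => M *ᵥ x) h
    simp only [sympTransvection_mulVec, one_mul] at this
    exact add_left_cancel this
  have h2 : ∀ x, sympForm m F x v = sympForm m F x w := by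
    intro x
    have h3 := congrArg (fun y => sympForm m F x y) (h1 x)
    simp only [sympForm_smul_right] at h3
    have h4 : (sympForm m F x v + sympForm m F x w) ^ 2 = 0 := by
      rw [CharTwo.add_sq, pow_two, pow_two, h3, CharTwo.add_self_eq_zero]
    rw [pow_eq_zero_iff (by norm_num)] at h4
    exact CharTwo.add_eq_zero.1 h4
  by_contra hne
  have hne' : v - w ≠ 0 := sub_ne_zero.2 hne
  obtain ⟨x, hx⟩ := exists_sympForm_ne_zero m hne'
  apply hx
  rw [sympForm_swap, sympForm_sub_right, h2, sub_self, neg_zero]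

/-- the action of `Sp` on vectors. -/
@[reducible] def act (m : ℕ) : MulAction (symplecticGroup (Fin m) F) (Fin m ⊕ Fin m → F) where
  smul A x := (A : Matrix (Fin m ⊕ Fin m) (Fin m ⊕ Fin m) F) *ᵥ x
  one_smul x := Matrix.one_mulVec x
  mul_smul A B x := (Matrix.mulVec_mulVec x A.1 B.1).symm

theorem card_stab [Fintype F] [CharP F 2] {m : ℕ}
    (t : Matrix.symplecticGroup (Fin m) F) (v : Fin m ⊕ Fin m → F) (hv : v ≠ 0)
    (htv : (t : Matrix (Fin m ⊕ Fin m) (Fin m ⊕ Fin m) F) = sympTransvection m v 1) :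
    Nat.card ↥(Subgroup.centralizer ({t} : Set ↥(Matrix.symplecticGroup (Fin m) F))) *
      (Fintype.card F ^ (2 * m) - 1) = Nat.card (Matrix.symplecticGroup (Fin m) F) := by
  classical
  let _ := act (F := F) m
  have hsm : ∀ (A : symplecticGroup (Fin m) F) (x : Fin m ⊕ Fin m → F),
      A • x = (A : Matrix (Fin m ⊕ Fin m) (Fin m ⊕ Fin m) F) *ᵥ x := fun _ _ => rfl
  have hstab : Subgroup.centralizer ({t} : Set ↥(Matrix.symplecticGroup (Fin m) F)) =
      MulAction.stabilizer (symplecticGroup (Fin m) F) v := by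
    ext A
    rw [Subgroup.mem_centralizer_singleton_iff, MulAction.mem_stabilizer_iff, hsm]
    have hA := A.2
    have key : (A : Matrix (Fin m ⊕ Fin m) (Fin m ⊕ Fin m) F) * sympTransvection m v 1 =
        sympTransvection m ((A : Matrix (Fin m ⊕ Fin m) (Fin m ⊕ Fin m) F) *ᵥ v) 1 *
          (A : Matrix (Fin m ⊕ Fin m) (Fin m ⊕ Fin m) F) := mul_sympTransvection m hA v 1
    constructor
    · intro h
      have h' : (A : Matrix (Fin m ⊕ Fin m) (Fin m ⊕ Fin m) F) * (t : Matrix _ _ F) =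
          (t : Matrix _ _ F) * (A : Matrix _ _ F) := congrArg Subtype.val h
      rw [htv, key] at h'
      have hdet : IsUnit (A : Matrix (Fin m ⊕ Fin m) (Fin m ⊕ Fin m) F).det :=
        SymplecticGroup.symplectic_det hA
      have h'' := congrArg (fun M => M * (A : Matrix (Fin m ⊕ Fin m) (Fin m ⊕ Fin m) F)⁻¹) h'
      simp only [Matrix.mul_assoc, Matrix.mul_nonsing_inv _ hdet, Matrix.mul_one] at h''
      exact sympTransvection_inj h''
    · intro h
      apply Subtype.ext
      change (A : Matrix (Fin m ⊕ Fin m) (Fin m ⊕ Fin m) F) * (t : Matrix _ _ F) =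
          (t : Matrix _ _ F) * (A : Matrix _ _ F)
      rw [htv, key, h]
  have horb : MulAction.orbit (symplecticGroup (Fin m) F) v = {w | w ≠ 0} := by
    ext w
    constructor
    · rintro ⟨A, rfl⟩
      intro h0
      change (A : Matrix (Fin m ⊕ Fin m) (Fin m ⊕ Fin m) F) *ᵥ v = 0 at h0
      apply hv
      have := congrArg (fun x => (A⁻¹).1 *ᵥ x) h0
      simp only [Matrix.mulVec_mulVec, Matrix.mulVec_zero] at this
      have h3 : (A⁻¹).1 * A.1 = 1 := congrArg Subtype.val (inv_mul_cancel A)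
      rw [h3, Matrix.one_mulVec] at this
      exact this
    · intro hw
      obtain ⟨g, -, hg⟩ := exists_transvectionSubgroup_map m hv hw
      exact ⟨g, hg⟩
  have hcard : (MulAction.orbit (symplecticGroup (Fin m) F) v).ncard = Fintype.card F ^ (2 * m) - 1 := by
    rw [horb, ← Nat.card_coe_set_eq, Nat.card_eq_fintype_card]
    change Fintype.card {w : Fin m ⊕ Fin m → F // w ≠ 0} = _
    rw [Fintype.card_subtype_compl, Fintype.card_subtype_eq, Fintype.card_fun, Fintype.card_sum,
      Fintype.card_fin, two_mul]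
  rw [hstab, ← hcard, ← MulAction.index_stabilizer]
  exact Subgroup.card_mul_index _

/-- Over a finite field with q elements, q even, an element t of Sp_2m(F) with rank(t − 1) = 1 (a symplectic transvection) has centraliser in Sp_2m(F) of order q^(2m−1) · |Sp_(2m−2)(q)| = q^(2m−1) · q^((m−1)²) · Π_(i=1)^(m−1) (q^(2i) − 1). -/
theorem result {F : Type*} [Field F] [Fintype F] [CharP F 2] {q : ℕ} (hF : Fintype.card F = q) {m : ℕ} (hm : 1 ≤ m) (t : Matrix.symplecticGroup (Fin m) F) (ht : ((t : Matrix (Fin m ⊕ Fin m) (Fin m ⊕ Fin m) F) - 1).rank = 1) : Nat.card ↥(Subgroup.centralizer ({t} : Set ↥(Matrix.symplecticGroup (Fin m) F))) = q ^ (2 * m - 1) * (q ^ ((m - 1) ^ 2) * ∏ i : Fin (m - 1), (q ^ (2 * ((i : ℕ) + 1)) - 1)) := by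
  obtain ⟨v, hv, htv⟩ := exists_sympTransvection t.1 t.2 ht
  have h1 := card_stab t v hv htv
  rw [Cfsg.Agent.S0245.result hF m, hF] at h1
  obtain ⟨k, rfl⟩ : ∃ k, m = k + 1 := ⟨m - 1, by omega⟩
  rw [Finset.prod_range_succ] at h1
  have hq : 2 ≤ q := by
    rw [← hF]
    exact Fintype.one_lt_card
  have hpos : 0 < q ^ (2 * (k + 1)) - 1 := by
    have : 2 ^ (2 * (k + 1)) ≤ q ^ (2 * (k + 1)) := Nat.pow_le_pow_left hq _
    have h2 : 2 ≤ 2 ^ (2 * (k + 1)) := by
      calc 2 = 2 ^ 1 := by norm_num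
        _ ≤ 2 ^ (2 * (k + 1)) := Nat.pow_le_pow_right (by norm_num) (by omega)
    omega
  rw [← mul_assoc] at h1
  have h2 := Nat.eq_of_mul_eq_mul_right hpos h1
  rw [h2, Nat.add_sub_cancel, Fin.prod_univ_eq_prod_range (fun i => q ^ (2 * (i + 1)) - 1) k,
    ← mul_assoc, ← pow_add]
  congr 2
  have : 2 * (k + 1) - 1 = 2 * k + 1 := by omega
  rw [this]
  ring

end Cfsg.Agent.S2594
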