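import Cfsg.Statements.S0440
import Mathlib
import Cfsg.Agent.Lib.Helper5.Symp
import Cfsg.Agent.S0765
import Cfsg.Agent.S2594

set_option autoImplicit false

namespace Cfsg.Agent.S0440

open Module Matrix Cfsg Cfsg.Agent.Lib.Helper5.Symp

variable {F : Type*} [Field F]

theorem rank_vecMulVec_eq_one {ι : Type*} [Fintype ι] [DecidableEq ι] {a r : ι → F} (ha : a ≠ 0)
    (hr : r ≠ 0) : (Matrix.vecMulVec a r).rank = 1 := by
  apply le_antisymm (Matrix.rank_vecMulVec_le a r)
  rw [Nat.one_le_iff_ne_zero]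
  intro h0
  have h1 : finrank F (LinearMap.range (Matrix.vecMulVec a r).mulVecLin) = 0 := h0
  rw [Submodule.finrank_eq_zero, LinearMap.range_eq_bot] at h1
  have h2 : Matrix.vecMulVec a r = 0 := by
    apply Matrix.toLin'.injective
    rw [map_zero]
    exact h1
  rw [Matrix.vecMulVec_eq_zero] at h2
  rcases h2 with h2 | h2
  · exact ha h2
  · exact hr h2

theorem rank_sympTransvection_sub_one {m : ℕ} {v : Fin m ⊕ Fin m → F} (hv : v ≠ 0) :
    (sympTransvection m v 1 - 1).rank = 1 := by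
  have h : sympTransvection m v 1 - 1 = Matrix.vecMulVec v (J (Fin m) F *ᵥ v) := by
    unfold sympTransvection
    rw [one_smul]
    abel
  rw [h]
  apply rank_vecMulVec_eq_one hv
  intro h0
  apply hv
  have := congrArg (fun x => (-J (Fin m) F) *ᵥ x) h0
  simp only [Matrix.mulVec_mulVec, Matrix.neg_mul, J_squared, neg_neg, Matrix.one_mulVec,
    Matrix.mulVec_zero] at this
  exact this

theorem mulVec_ne_zero {m : ℕ} (A : symplecticGroup (Fin m) F) {v : Fin m ⊕ Fin m → F}
    (hv : v ≠ 0) : A.1 *ᵥ v ≠ 0 := by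
  intro h0
  apply hv
  have := congrArg (fun x => (A⁻¹).1 *ᵥ x) h0
  simp only [Matrix.mulVec_mulVec, Matrix.mulVec_zero] at this
  have h3 : (A⁻¹).1 * A.1 = 1 := congrArg Subtype.val (inv_mul_cancel A)
  rw [h3, Matrix.one_mulVec] at this
  exact this

/-- the transvection `T_v` in the group. -/
noncomputable def tS (m : ℕ) (v : Fin m ⊕ Fin m → ZMod 2) : symplecticGroup (Fin m) (ZMod 2) :=
  ⟨sympTransvection m v 1, sympTransvection_mem m v 1⟩

theorem tS_sq (m : ℕ) (v : Fin m ⊕ Fin m → ZMod 2) : tS m v * tS m v = 1 := by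
  apply Subtype.ext
  change sympTransvection m v 1 * sympTransvection m v 1 = 1
  rw [sympTransvection_mul]
  have : (1 + 1 : ZMod 2) = 0 := by decide
  rw [this, sympTransvection_zero]

theorem mul_tS (m : ℕ) (A : symplecticGroup (Fin m) (ZMod 2)) (v : Fin m ⊕ Fin m → ZMod 2) :
    A * tS m v = tS m (A.1 *ᵥ v) * A := by
  apply Subtype.ext
  exact mul_sympTransvection m A.2 v 1

theorem tS_mulVec (m : ℕ) (v x : Fin m ⊕ Fin m → ZMod 2) :
    (tS m v).1 *ᵥ x = x + sympForm m (ZMod 2) x v • v := by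
  change sympTransvection m v 1 *ᵥ x = _
  rw [sympTransvection_mulVec, one_mul]

theorem mem_D_iff (m : ℕ) (g : symplecticGroup (Fin m) (ZMod 2)) :
    ((g : Matrix (Fin m ⊕ Fin m) (Fin m ⊕ Fin m) (ZMod 2)) - 1).rank = 1 ↔
      ∃ v : Fin m ⊕ Fin m → ZMod 2, v ≠ 0 ∧ g = tS m v := by
  constructor
  · intro h
    obtain ⟨v, hv, hgv⟩ := Cfsg.Agent.S2594.exists_sympTransvection g.1 g.2 h
    exact ⟨v, hv, Subtype.ext hgv⟩
  · rintro ⟨v, hv, rfl⟩
    exact rank_sympTransvection_sub_one hv

theorem zmod2_cases (c : ZMod 2) : c = 0 ∨ c = 1 := by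
  revert c; decide

theorem prod_cases (m : ℕ) (v w : Fin m ⊕ Fin m → ZMod 2) :
    (tS m v * tS m w) ^ 2 = 1 ∨ (tS m v * tS m w) ^ 3 = 1 := by
  rcases zmod2_cases (sympForm m (ZMod 2) w v) with h | h
  · left
    have h1 : tS m v * tS m w = tS m w * tS m v := by
      rw [mul_tS, tS_mulVec, h, zero_smul, add_zero]
    rw [pow_two]
    calc tS m v * tS m w * (tS m v * tS m w) = tS m v * tS m w * (tS m w * tS m v) := by rw [h1]
      _ = tS m v * (tS m w * tS m w) * tS m v := by group
      _ = 1 := by rw [tS_sq, mul_one, tS_sq]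
  · right
    have h' : sympForm m (ZMod 2) v w = 1 := by
      rw [sympForm_swap, h]; decide
    have h1 : tS m v * tS m w = tS m (w + v) * tS m v := by
      rw [mul_tS, tS_mulVec, h, one_smul]
    have h2 : tS m w * tS m v = tS m (w + v) * tS m w := by
      rw [mul_tS, tS_mulVec, h', one_smul, add_comm]
    have h3 : tS m v * tS m w * tS m v = tS m (w + v) := by
      rw [h1, mul_assoc, tS_sq, mul_one]
    have h4 : tS m w * tS m v * tS m w = tS m (w + v) := by
      rw [h2, mul_assoc, tS_sq, mul_one]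
    calc (tS m v * tS m w) ^ 3 = (tS m v * tS m w * tS m v) * (tS m w * tS m v * tS m w) := by
          rw [pow_succ, pow_two]
          simp only [mul_assoc]
      _ = 1 := by rw [h3, h4, tS_sq]

theorem tS_ne_one (m : ℕ) {v : Fin m ⊕ Fin m → ZMod 2} (hv : v ≠ 0) : tS m v ≠ 1 := by
  intro h
  have h1 := rank_sympTransvection_sub_one hv
  have h2 : sympTransvection m v 1 = 1 := congrArg Subtype.val h
  rw [h2, sub_self, Matrix.rank_zero] at h1
  exact zero_ne_one h1

/-- In the symplectic group in dimension 2n ≥ 2 over the field with two elements, the elements g for which g - 1 has rank one (the symplectic transvections) form a conjugacy class of 3-transpositions generating the group. -/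
theorem result (n : ℕ) (hn : 1 ≤ n) : Cfsg.IsThreeTranspositionClass {g : Matrix.symplecticGroup (Fin n) (ZMod 2) | ((g : Matrix (Fin n ⊕ Fin n) (Fin n ⊕ Fin n) (ZMod 2)) - 1).rank = 1} := by
  refine ⟨⟨?_, ?_⟩, ?_, ?_⟩
  · intro d hd
    obtain ⟨v, hv, rfl⟩ := (mem_D_iff n d).1 hd
    apply orderOf_eq_prime
    · rw [pow_two, tS_sq]
    · exact tS_ne_one n hv
  · intro d hd e he
    obtain ⟨v, hv, rfl⟩ := (mem_D_iff n d).1 hd
    obtain ⟨w, hw, rfl⟩ := (mem_D_iff n e).1 he
    exact prod_cases n v w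
  · set v0 : Fin n ⊕ Fin n → ZMod 2 := Pi.single (Sum.inl ⟨0, hn⟩) 1 with hv0
    have hv0ne : v0 ≠ 0 := by
      intro h
      have := congrFun h (Sum.inl ⟨0, hn⟩)
      rw [hv0, Pi.single_eq_same] at this
      exact one_ne_zero this
    refine ⟨tS n v0, (mem_D_iff n _).2 ⟨v0, hv0ne, rfl⟩, ?_⟩
    ext g
    change _ ↔ IsConj (tS n v0) g
    rw [Set.mem_ofPred_eq, mem_D_iff, isConj_iff]
    constructor
    · rintro ⟨v, hv, rfl⟩
      obtain ⟨A, -, hA⟩ := exists_transvectionSubgroup_map n hv0ne hv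
      refine ⟨A, ?_⟩
      rw [mul_tS, hA, mul_assoc, mul_inv_cancel, mul_one]
    · rintro ⟨A, rfl⟩
      refine ⟨A.1 *ᵥ v0, mulVec_ne_zero A hv0ne, ?_⟩
      rw [mul_tS, mul_assoc, mul_inv_cancel, mul_one]
  · rw [eq_top_iff, ← Cfsg.Agent.S0765.result n, Subgroup.closure_le]
    rintro A ⟨w, c, hA⟩
    rcases zmod2_cases c with rfl | rfl
    · rw [sympTransvection_zero] at hA
      have : A = 1 := Subtype.ext hA
      rw [this]
      exact one_mem _
    · by_cases hw : w = 0
      · have : A = 1 := by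
          apply Subtype.ext
          rw [hA, hw]
          unfold sympTransvection
          simp
        rw [this]
        exact one_mem _
      · apply Subgroup.subset_closure
        rw [Set.mem_ofPred_eq, mem_D_iff]
        exact ⟨w, hw, Subtype.ext hA⟩

end Cfsg.Agent.S0440
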