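import Cfsg.Statements.S0442
import Mathlib

set_option autoImplicit false
open Cfsg

namespace Cfsg.Agent.S0442

/-- an involution `a` inverts `a * b` when `b` is an involution -/
theorem semiconj {G : Type*} [Group G] (a b : G) (ha : a * a = 1) (hb : b * b = 1) (k : ℕ) :
    a * (a * b) ^ k = ((a * b)⁻¹) ^ k * a := by
  have h : SemiconjBy a (a * b) (a * b)⁻¹ := by
    show a * (a * b) = (a * b)⁻¹ * a
    have hb' : b⁻¹ = b := inv_eq_of_mul_eq_one_right hb
    rw [mul_inv_rev, hb', ← mul_assoc, ha, one_mul, mul_assoc, inv_mul_cancel, mul_one]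
  exact (h.pow_right k).eq

/-- if `x ^ (2 m) = 1` then `(x⁻¹) ^ m = x ^ m` -/
theorem inv_pow_half {G : Type*} [Group G] (x : G) (m : ℕ) (h : x ^ (2 * m) = 1) :
    (x⁻¹) ^ m = x ^ m := by
  rw [inv_pow]
  apply inv_eq_of_mul_eq_one_right
  rw [← pow_add, ← two_mul]; exact h

/-- for involutions `a`, `b` with `(a b)^(2m) = 1`, `(a b)^m` commutes with `a` -/
theorem comm_half {G : Type*} [Group G] (a b : G) (ha : a * a = 1) (hb : b * b = 1) (m : ℕ)
    (h : (a * b) ^ (2 * m) = 1) : Commute ((a * b) ^ m) a := by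
  show (a * b) ^ m * a = a * (a * b) ^ m
  rw [semiconj a b ha hb m, inv_pow_half _ m h]

/-- A standard trick for producing elements of an involution centraliser: for an involution a and an element g, let b be the conjugate g⁻¹ * a * g. If a * b has odd order 2m + 1 then g * (a * b) ^ m commutes with a; if a * b has even order 2m then (a * b) ^ m and (a * (g * a * g⁻¹)) ^ m commute with a. -/
theorem result {G : Type*} [Group G] (a g : G) (ha : orderOf a = 2) : (∀ m : ℕ, orderOf (a * (g⁻¹ * a * g)) = 2 * m + 1 → Commute (g * (a * (g⁻¹ * a * g)) ^ m) a) ∧ (∀ m : ℕ, orderOf (a * (g⁻¹ * a * g)) = 2 * m → Commute ((a * (g⁻¹ * a * g)) ^ m) a ∧ Commute ((a * (g * a * g⁻¹)) ^ m) a) := by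
  have haa : a * a = 1 := by
    have := pow_orderOf_eq_one a; rwa [ha, pow_two] at this
  have hbb : (g⁻¹ * a * g) * (g⁻¹ * a * g) = 1 := by
    calc (g⁻¹ * a * g) * (g⁻¹ * a * g) = g⁻¹ * (a * a) * g := by group
      _ = 1 := by rw [haa]; group
  have hcc : (g * a * g⁻¹) * (g * a * g⁻¹) = 1 := by
    calc (g * a * g⁻¹) * (g * a * g⁻¹) = g * (a * a) * g⁻¹ := by group
      _ = 1 := by rw [haa]; group
  constructor
  · intro m hm
    set b := g⁻¹ * a * g with hb
    set x := a * b with hx
    have hx1 : x ^ (2 * m + 1) = 1 := by rw [← hm]; exact pow_orderOf_eq_one x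
    show g * x ^ m * a = a * (g * x ^ m)
    have h1 : b * x ^ m = x ^ m * a := by
      have e1 : b = a * x := by rw [hx, ← mul_assoc, haa, one_mul]
      have e2 : (x⁻¹) ^ (m + 1) = x ^ m := by
        rw [inv_pow]
        symm
        apply eq_inv_of_mul_eq_one_left
        rw [← pow_add]
        have : m + (m + 1) = 2 * m + 1 := by ring
        rw [this]; exact hx1
      calc b * x ^ m = a * x ^ (m + 1) := by rw [e1, mul_assoc, ← pow_succ']
        _ = (x⁻¹) ^ (m + 1) * a := semiconj a b haa hbb (m + 1)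
        _ = x ^ m * a := by rw [e2]
    have h2 : g * b = a * g := by rw [hb]; group
    calc g * x ^ m * a = g * (x ^ m * a) := by group
      _ = g * (b * x ^ m) := by rw [h1]
      _ = (g * b) * x ^ m := by group
      _ = a * g * x ^ m := by rw [h2]
      _ = a * (g * x ^ m) := by group
  · intro m hm
    have hx1 : (a * (g⁻¹ * a * g)) ^ (2 * m) = 1 := by rw [← hm]; exact pow_orderOf_eq_one _
    refine ⟨comm_half a _ haa hbb m hx1, comm_half a _ haa hcc m ?_⟩
    -- a * (g a g⁻¹) = g ((a * (g⁻¹ a g))⁻¹) g⁻¹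
    have e : a * (g * a * g⁻¹) = g * (a * (g⁻¹ * a * g))⁻¹ * g⁻¹ := by
      have ha' : a⁻¹ = a := inv_eq_of_mul_eq_one_right haa
      rw [mul_inv_rev, mul_inv_rev, mul_inv_rev, ha', inv_inv]
      group
    rw [e, conj_pow, inv_pow, hx1]
    group

end Cfsg.Agent.S0442
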