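import Cfsg.Statements.S0443
import Mathlib

set_option autoImplicit false
open Cfsg

namespace Cfsg.Agent.S0443

/-- an element of `p`-power order centralizing a Sylow `p`-subgroup lies in it -/
theorem mem_sylow_of_centralizes {G : Type*} [Group G] {p : ℕ} [Fact p.Prime] (P : Sylow p G) (t : G)
    (ht : IsPGroup p (Subgroup.zpowers t)) (hc : ∀ x ∈ P, x * t = t * x) : t ∈ P := by
  have hnorm : Subgroup.zpowers t ≤ Subgroup.normalizer ((P : Subgroup G) : Set G) := by
    rw [Subgroup.zpowers_le, Subgroup.mem_normalizer_iff]
    intro h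
    constructor
    · intro hh
      have := hc h hh
      have e : t * h * t⁻¹ = h := by rw [← this]; group
      rw [e]; exact hh
    · intro hh
      have := hc _ hh
      have e : h = t⁻¹ * (t * h * t⁻¹ * t) := by group
      rw [e, this]
      have : t⁻¹ * (t * (t * h * t⁻¹)) = t * h * t⁻¹ := by group
      rw [this]; exact hh
  have h2 : IsPGroup p ((P : Subgroup G) ⊔ Subgroup.zpowers t : Subgroup G) :=
    IsPGroup.to_sup_of_normal_left' P.isPGroup' ht hnorm
  have h3 := P.is_maximal' h2 le_sup_left
  have : t ∈ (P : Subgroup G) ⊔ Subgroup.zpowers t :=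
    (le_sup_right : Subgroup.zpowers t ≤ _) (Subgroup.mem_zpowers t)
  rw [h3] at this
  exact this

/-- Two definitions of a 2-central involution agree: an element t of order 2 of a finite group lies in the centre of some Sylow 2-subgroup if and only if its centraliser contains some Sylow 2-subgroup. -/
theorem result {G : Type*} [Group G] [Finite G] (t : G) (ht : orderOf t = 2) : Cfsg.IsTwoCentralInvolution t ↔ ∃ P : Sylow 2 G, (P : Subgroup G) ≤ Subgroup.centralizer ({t} : Set G) := by
  constructor
  · rintro ⟨-, P, -, hP⟩
    refine ⟨P, fun x hx => ?_⟩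
    rw [Subgroup.mem_centralizer_iff]
    intro h hh
    rw [Set.mem_singleton_iff] at hh
    subst hh
    exact (hP x hx).symm
  · rintro ⟨P, hP⟩
    have hc : ∀ x ∈ P, x * t = t * x := by
      intro x hx
      have := hP hx
      rw [Subgroup.mem_centralizer_iff] at this
      exact (this t rfl).symm
    refine ⟨ht, P, mem_sylow_of_centralizes P t ?_ hc, hc⟩
    exact IsPGroup.of_card (n := 1) (by rw [Nat.card_zpowers, ht, pow_one])

end Cfsg.Agent.S0443
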