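import Cfsg.Statements.S0460
import Cfsg.Agent.Lib.Helper6.ON460Sub
import Cfsg.Agent.Lib.Helper6.PermReal

set_option autoImplicit false
open Cfsg

namespace Cfsg.Agent.S0460

/-- The O'Nan group exists as a transitive permutation group of degree 122760: simple of order 460815505920, point stabiliser of order 3753792, and containing simple subgroups of orders 175560 and 7920. -/
theorem result : ∃ H : Subgroup (Equiv.Perm (Fin 122760)), Cfsg.IsON H ∧ MulAction.IsPretransitive H (Fin 122760) ∧ Nat.card (MulAction.stabilizer H (0 : Fin 122760)) = 3753792 ∧ (∃ K : Subgroup H, Cfsg.IsJ1 K) ∧ (∃ K : Subgroup H, Cfsg.IsM11 K) := by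
  have hfin : Finite Cfsg.Spor.ON := Cfsg.Agent.Lib.Helper6.ONSimple.ub.1
  obtain ⟨hsimple, hcard⟩ := Cfsg.Agent.Lib.Helper6.ONSimple.main
  have hinj := Cfsg.Agent.Lib.Helper6.ONSimple.card_inj.2
  let ρ : Cfsg.Spor.ON →* Equiv.Perm (Fin 122760) := Cfsg.Agent.Lib.Helper6.ONTC.data.ρ
  have hinj' : Function.Injective ρ := hinj
  have e := Cfsg.Agent.Lib.Helper6.PermReal.rangeEquiv ρ hinj'
  have hcardH : Nat.card ρ.range = 460815505920 := by
    rw [← hcard]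
    exact (Nat.card_congr e.toEquiv).symm
  have htr : MulAction.IsPretransitive ρ.range (Fin 122760) :=
    Cfsg.Agent.Lib.Helper6.PermReal.pretransitive_range ρ Cfsg.Agent.Lib.Helper6.ONTC.data.o
      Cfsg.Agent.Lib.Helper6.ONTC.data.trans
  refine ⟨ρ.range, ⟨e.symm.isSimpleGroup, hcardH⟩, htr, ?_, ?_, ?_⟩
  · have h1 := Cfsg.Agent.Lib.Helper6.PermReal.card_stabilizer_mul ρ.range (0 : Fin 122760)
    rw [hcardH] at h1
    exact Nat.eq_of_mul_eq_mul_right (by norm_num : 0 < 122760) (h1.trans (by norm_num))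
  · obtain ⟨K, ⟨eK⟩⟩ := Cfsg.Agent.Lib.Helper6.PermReal.exists_subgroup ρ hinj'
      Cfsg.Agent.Lib.Helper6.ON460Sub.φJ Cfsg.Agent.Lib.Helper6.ON460Sub.φJ_inj
    obtain ⟨hs, hc⟩ := Cfsg.Agent.Lib.Helper6.PJ1Iso.main
    exact ⟨K, eK.symm.isSimpleGroup, (Nat.card_congr eK.toEquiv).symm.trans hc⟩
  · obtain ⟨K, ⟨eK⟩⟩ := Cfsg.Agent.Lib.Helper6.PermReal.exists_subgroup ρ hinj'
      Cfsg.Agent.Lib.Helper6.ON460Sub.φM Cfsg.Agent.Lib.Helper6.ON460Sub.φM_inj
    obtain ⟨hs, hc⟩ := Cfsg.Agent.Lib.Helper6.PM11Simple.main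
    exact ⟨K, eK.symm.isSimpleGroup, (Nat.card_congr eK.toEquiv).symm.trans hc⟩

end Cfsg.Agent.S0460
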