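import Cfsg.Statements.S0481
import Mathlib

set_option autoImplicit false
open Cfsg

namespace Cfsg.Agent.S0481

/-- an element of `p`-power order centralizing a Sylow `p`-subgroup lies in it -/
theorem mem_sylow_of_centralizes {G : Type*} [Group G] {p : ℕ} [Fact p.Prime] (P : Sylow p G) (t : G)
    (ht : IsPGroup p (Subgroup.zpowers t)) (hc : ∀ x ∈ P, x * t = t * x) : t ∈ P := by
  have hnorm : Subgroup.zpowers t ≤ Subgroup.normalizer ((P : Subgroup G) : Set G) := by
    rw [Subgroup.zpowers_le, Subgroup.mem_normalizer_iff]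
    intro h
    constructor
    · intro hh
      have := hc h hh
      have e : t * h * t⁻¹ = h := by rw [← this]; group
      rw [e]; exact hh
    · intro hh
      have := hc _ hh
      have e : h = t⁻¹ * (t * h * t⁻¹ * t) := by group
      rw [e, this]
      have : t⁻¹ * (t * (t * h * t⁻¹)) = t * h * t⁻¹ := by group
      rw [this]; exact hh
  have h2 : IsPGroup p ((P : Subgroup G) ⊔ Subgroup.zpowers t : Subgroup G) :=
    IsPGroup.to_sup_of_normal_left' P.isPGroup' ht hnorm
  have h3 := P.is_maximal' h2 le_sup_left
  have : t ∈ (P : Subgroup G) ⊔ Subgroup.zpowers t :=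
    (le_sup_right : Subgroup.zpowers t ≤ _) (Subgroup.mem_zpowers t)
  rw [h3] at this
  exact this

/-- Large extraspecial subgroups: let z be an involution of a finite group G whose centraliser C contains a normal 2-subgroup Q with centre of order 2 and all squares central, such that every element of G centralising Q lies in Q. Then C contains a Sylow 2-subgroup of G, and any involution of G whose centraliser contains a Sylow 2-subgroup of G is conjugate to z. -/
theorem result {G : Type*} [Group G] [Finite G] (z : G) (hz : orderOf z = 2) (Q : Subgroup G) (hQC : Q ≤ Subgroup.centralizer ({z} : Set G)) (hQn : ∀ g ∈ Subgroup.centralizer ({z} : Set G), ∀ q ∈ Q, g * q * g⁻¹ ∈ Q) (hQ2 : IsPGroup 2 Q) (hZ : Nat.card (Subgroup.center Q) = 2) (hsq : ∀ x : Q, x ^ 2 ∈ Subgroup.center Q) (hlarge : Subgroup.centralizer (Q : Set G) ≤ Q) : (∃ P : Sylow 2 G, (P : Subgroup G) ≤ Subgroup.centralizer ({z} : Set G)) ∧ ∀ u : G, orderOf u = 2 → (∃ P : Sylow 2 G, (P : Subgroup G) ≤ Subgroup.centralizer ({u} : Set G)) → IsConj z u := by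
  classical
  haveI : Fact (Nat.Prime 2) := ⟨Nat.prime_two⟩
  have hz1 : z ≠ 1 := by
    intro h; rw [h, orderOf_one] at hz; omega
  -- z ∈ Q
  have hzQ : z ∈ Q := by
    apply hlarge
    rw [Subgroup.mem_centralizer_iff]
    intro q hq
    have := hQC hq
    rw [Subgroup.mem_centralizer_iff] at this
    exact (this z rfl).symm
  -- every element of Q centralizing Q is 1 or z
  have hZQ : ∀ w : G, w ∈ Q → (∀ q ∈ Q, q * w = w * q) → w = 1 ∨ w = z := by
    intro w hwQ hw
    have hz' : (⟨z, hzQ⟩ : Q) ∈ Subgroup.center Q := by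
      rw [Subgroup.mem_center_iff]
      rintro ⟨q, hq⟩
      apply Subtype.ext
      have := hQC hq
      rw [Subgroup.mem_centralizer_iff] at this
      exact (this z rfl).symm
    have hw' : (⟨w, hwQ⟩ : Q) ∈ Subgroup.center Q := by
      rw [Subgroup.mem_center_iff]
      rintro ⟨q, hq⟩
      apply Subtype.ext
      exact hw q hq
    obtain ⟨y, -, hy⟩ := (Nat.card_eq_two_iff' (1 : Subgroup.center Q)).mp hZ
    by_cases h1 : w = 1
    · left; exact h1
    · right
      have e1 : (⟨⟨w, hwQ⟩, hw'⟩ : Subgroup.center Q) = y := by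
        apply hy
        intro h
        apply h1
        have := congrArg (fun v : Subgroup.center Q => ((v : Q) : G)) h
        simpa using this
      have e2 : (⟨⟨z, hzQ⟩, hz'⟩ : Subgroup.center Q) = y := by
        apply hy
        intro h
        apply hz1
        have := congrArg (fun v : Subgroup.center Q => ((v : Q) : G)) h
        simpa using this
      have := congrArg (fun v : Subgroup.center Q => ((v : Q) : G)) (e1.trans e2.symm)
      simpa using this
  -- a Sylow 2-subgroup T containing Q
  obtain ⟨T, hQT⟩ := hQ2.exists_le_sylow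
  -- central elements of T are 1 or z
  have hZT : ∀ w : G, w ∈ T → (∀ x ∈ T, x * w = w * x) → w = 1 ∨ w = z := by
    intro w _ hw
    have hwQ : w ∈ Q := by
      apply hlarge
      rw [Subgroup.mem_centralizer_iff]
      intro q hq
      exact hw q (hQT hq)
    exact hZQ w hwQ (fun q hq => hw q (hQT hq))
  -- z is central in T
  have hzT : ∀ x ∈ T, x * z = z * x := by
    have hTne : (T : Subgroup G) ≠ ⊥ := by
      intro h
      have := hQT hzQ
      rw [h, Subgroup.mem_bot] at this
      exact hz1 this
    haveI : Nontrivial (T : Subgroup G) := (Subgroup.nontrivial_iff_ne_bot _).mpr hTne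
    haveI : Nontrivial (Subgroup.center (T : Subgroup G)) := T.isPGroup'.center_nontrivial
    obtain ⟨w, hw⟩ := exists_ne (1 : Subgroup.center (T : Subgroup G))
    have hwc : ∀ x ∈ T, x * ((w : (T : Subgroup G)) : G) = ((w : (T : Subgroup G)) : G) * x := by
      intro x hx
      have := w.2
      rw [Subgroup.mem_center_iff] at this
      exact congrArg Subtype.val (this ⟨x, hx⟩)
    rcases hZT _ (w : (T : Subgroup G)).2 hwc with h | h
    · exfalso
      apply hw
      apply Subtype.ext
      apply Subtype.ext
      exact h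
    · rw [← h]; exact hwc
  have hTC : (T : Subgroup G) ≤ Subgroup.centralizer ({z} : Set G) := by
    intro x hx
    rw [Subgroup.mem_centralizer_iff]
    intro h hh
    rw [Set.mem_singleton_iff] at hh
    subst hh
    exact (hzT x hx).symm
  refine ⟨⟨T, hTC⟩, ?_⟩
  rintro u hu ⟨P', hP'⟩
  obtain ⟨g, hg⟩ := MulAction.exists_smul_eq G P' T
  set u' := g * u * g⁻¹ with hu'
  have hu'c : ∀ x ∈ T, x * u' = u' * x := by
    intro x hx
    have hx' : g⁻¹ * x * g ∈ (P' : Subgroup G) := by
      rw [← hg] at hx
      have hx2 : x ∈ ((g • P' : Sylow 2 G) : Subgroup G) := hx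
      rw [Sylow.coe_subgroup_smul, Subgroup.mem_pointwise_smul_iff_inv_smul_mem,
        MulAut.smul_def, MulAut.conj_inv_apply] at hx2
      exact hx2
    have := hP' hx'
    rw [Subgroup.mem_centralizer_iff] at this
    have h1 := this u rfl
    rw [hu']
    calc x * (g * u * g⁻¹) = g * ((g⁻¹ * x * g) * u) * g⁻¹ := by group
      _ = g * (u * (g⁻¹ * x * g)) * g⁻¹ := by rw [h1]
      _ = g * u * g⁻¹ * x := by group
  have hu'ord : orderOf u' = 2 := by
    rw [hu']
    have := orderOf_injective (MulAut.conj g).toMonoidHom (MulAut.conj g).injective u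
    rw [← hu]; simpa using this
  have hu'T : u' ∈ T := mem_sylow_of_centralizes T u'
    (IsPGroup.of_card (n := 1) (by rw [Nat.card_zpowers, hu'ord, pow_one])) hu'c
  rcases hZT u' hu'T hu'c with h | h
  · exfalso
    rw [h, orderOf_one] at hu'ord; omega
  · rw [isConj_iff]
    refine ⟨g⁻¹, ?_⟩
    rw [← h, hu']; group

end Cfsg.Agent.S0481
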