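import Cfsg.Statements.S0502
import Mathlib
import Cfsg.Agent.Lib.Lead.KleinFour
import Cfsg.Agent.Lib.Lead.PGroup

set_option autoImplicit false
set_option linter.style.haveILetI false
open Cfsg Cfsg.Agent.Lib.Lead.KleinFour

namespace Cfsg.Agent.S0502

/-- For an involution `a` acting on a normal elementary abelian 2-subgroup `E`: `|E| ≤ |C_E(a)|²`. -/
theorem card_le_sq {P : Type*} [Group P] [Finite P] (E : Subgroup P) [hEn : E.Normal]
    (hE : ∀ x ∈ E, ∀ y ∈ E, x * y = y * x) (hE2 : ∀ e ∈ E, e * e = 1) {a : P} (ha : a * a = 1) :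
    Nat.card ↥E ≤ Nat.card ↥(E ⊓ Subgroup.centralizer ({a} : Set P)) *
      Nat.card ↥(E ⊓ Subgroup.centralizer ({a} : Set P)) := by
  have hainv : a⁻¹ = a := inv_eq_of_mul_eq_one_right ha
  have hconj : ∀ x ∈ E, a * x * a⁻¹ ∈ E := fun x hx => hEn.conj_mem x hx a
  let φ : ↥E →* P :=
    { toFun := fun x => (x : P) * (a * x * a⁻¹)
      map_one' := by simp
      map_mul' := by
        intro x y
        have h1 := hE y y.2 (a * x * a⁻¹) (hconj x x.2)
        show ((x : P) * y) * (a * (x * y) * a⁻¹) = (x * (a * x * a⁻¹)) * (y * (a * y * a⁻¹))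
        have e1 : a * ((x : P) * y) * a⁻¹ = (a * x * a⁻¹) * (a * y * a⁻¹) := by group
        rw [e1]
        calc (x : P) * y * (a * x * a⁻¹ * (a * y * a⁻¹))
            = x * (y * (a * x * a⁻¹)) * (a * y * a⁻¹) := by simp only [mul_assoc]
          _ = x * ((a * x * a⁻¹) * y) * (a * y * a⁻¹) := by rw [h1]
          _ = x * (a * x * a⁻¹) * (y * (a * y * a⁻¹)) := by simp only [mul_assoc] }
  set C := E ⊓ Subgroup.centralizer ({a} : Set P) with hC
  have hker : φ.ker = C.subgroupOf E := by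
    ext x
    rw [MonoidHom.mem_ker, Subgroup.mem_subgroupOf, hC, Subgroup.mem_inf,
      Subgroup.mem_centralizer_singleton_iff]
    show (x : P) * (a * x * a⁻¹) = 1 ↔ _
    constructor
    · intro h
      refine ⟨x.2, ?_⟩
      have h2 : a * (x : P) * a⁻¹ = (x : P)⁻¹ := eq_inv_of_mul_eq_one_right h
      have h3 : (x : P)⁻¹ = x := inv_eq_of_mul_eq_one_right (hE2 x x.2)
      rw [h3, mul_inv_eq_iff_eq_mul] at h2
      exact h2.symm
    · rintro ⟨_, h⟩
      have : a * (x : P) * a⁻¹ = x := by rw [← h, mul_inv_cancel_right]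
      rw [this]; exact hE2 x x.2
  have hrange : φ.range ≤ C := by
    rintro _ ⟨x, rfl⟩
    show (x : P) * (a * x * a⁻¹) ∈ C
    rw [hC, Subgroup.mem_inf, Subgroup.mem_centralizer_singleton_iff]
    refine ⟨E.mul_mem x.2 (hconj x x.2), ?_⟩
    have h1 := hE x x.2 (a * x * a⁻¹) (hconj x x.2)
    have e1 : (x : P) * (a * x * a⁻¹) * a = a * ((a * x * a⁻¹) * x) := by
      rw [hainv]
      calc (x : P) * (a * x * a) * a = x * a * x * (a * a) := by simp only [mul_assoc]
        _ = x * a * x := by rw [ha, mul_one]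
        _ = (a * a) * x * a * x := by rw [ha, one_mul]
        _ = a * (a * x * a * x) := by simp only [mul_assoc]
    rw [e1, h1]
  have h1 := φ.ker.card_mul_index
  rw [Subgroup.index_ker, hker] at h1
  have h2 : Nat.card ↥(C.subgroupOf E) = Nat.card ↥C :=
    Nat.card_congr (Subgroup.subgroupOfEquivOfLe (inf_le_left : C ≤ E)).toEquiv
  rw [h2] at h1
  rw [← h1]
  exact Nat.mul_le_mul_left _ (Subgroup.card_le_of_le hrange)

/-- Every four-subgroup is joined to a four-subgroup of `E` containing the central involution `z`. -/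
theorem chain_to_E {P : Type*} [Group P] [Finite P] (E : Subgroup P) [hEn : E.Normal]
    (hE : ∀ x ∈ E, ∀ y ∈ E, x * y = y * x) (hE2 : ∀ e ∈ E, e * e = 1) (hE8 : 8 ≤ Nat.card ↥E)
    {z : P} (hzE : z ∈ E) (hzZ : z ∈ Subgroup.center P) (hz1 : z ≠ 1) (U : Subgroup P) (hU : IsKleinFour ↥U) :
    ∃ W : Subgroup P, IsKleinFour ↥W ∧ W ≤ E ∧
      Relation.ReflTransGen
        (fun A B : Subgroup P => IsKleinFour A ∧ IsKleinFour B ∧ ∀ a ∈ A, ∀ b ∈ B, a * b = b * a) U W ∧
      Relation.ReflTransGen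
        (fun A B : Subgroup P => IsKleinFour A ∧ IsKleinFour B ∧ ∀ a ∈ A, ∀ b ∈ B, a * b = b * a) W U := by
  classical
  obtain ⟨a, haU, ha1, haz⟩ := KleinFourSub.exists_ne hU z
  have ha2 : a * a = 1 := KleinFourSub.sq_eq_one hU haU
  have hz2 : z * z = 1 := hE2 z hzE
  have hzc : ∀ g : P, g * z = z * g := fun g => Subgroup.mem_center_iff.mp hzZ g
  -- an element `w` of `C_E(a)` outside `{1, z}`
  obtain ⟨w, hwC, hw1, hwz⟩ : ∃ w ∈ E ⊓ Subgroup.centralizer ({a} : Set P), w ≠ 1 ∧ w ≠ z := by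
    by_contra hcon
    push Not at hcon
    have hsub : ((E ⊓ Subgroup.centralizer ({a} : Set P) : Subgroup P) : Set P) ⊆ (({1, z} : Finset P) : Set P) := by
      intro b hb
      simp only [Finset.coe_insert, Finset.coe_singleton, Set.mem_insert_iff, Set.mem_singleton_iff]
      by_cases h1 : b = 1
      · exact Or.inl h1
      · exact Or.inr (hcon b hb h1)
    have h1 : Nat.card ↥(E ⊓ Subgroup.centralizer ({a} : Set P)) =
        ((E ⊓ Subgroup.centralizer ({a} : Set P) : Subgroup P) : Set P).ncard := rfl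
    have h2 := Set.ncard_le_ncard hsub (Finset.finite_toSet _)
    rw [Set.ncard_coe_finset] at h2
    have h3 : ({1, z} : Finset P).card ≤ 2 := Finset.card_le_two
    have h4 := card_le_sq E hE hE2 ha2
    have h5 : Nat.card ↥(E ⊓ Subgroup.centralizer ({a} : Set P)) ≤ 2 := by omega
    have := Nat.mul_le_mul h5 h5
    omega
  have hwE : w ∈ E := (Subgroup.mem_inf.mp hwC).1
  have hwa : a * w = w * a := by
    have := (Subgroup.mem_inf.mp hwC).2
    rw [Subgroup.mem_centralizer_singleton_iff] at this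
    exact this.symm
  have hw2 : w * w = 1 := hE2 w hwE
  -- the two four-groups
  obtain ⟨U1, hU1, haU1, hzU1, hU1mem⟩ := exists_kleinFour ha2 hz2 (hzc a) ha1 hz1 haz
  obtain ⟨W, hW, hzW, hwW, hWmem⟩ := exists_kleinFour hz2 hw2 (hzc w).symm hz1 hw1 (Ne.symm hwz)
  have hWE : W ≤ E := by
    intro v hv
    rcases hWmem v hv with rfl | rfl | rfl | rfl
    · exact E.one_mem
    · exact hzE
    · exact hwE
    · exact E.mul_mem hzE hwE
  -- commutation
  have hUU1 : ∀ u ∈ U, ∀ v ∈ U1, u * v = v * u := by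
    intro u hu v hv
    rcases hU1mem v hv with rfl | rfl | rfl | rfl
    · simp
    · exact KleinFourSub.comm hU hu haU
    · exact hzc u
    · have h1 := KleinFourSub.comm hU hu haU
      rw [← mul_assoc, h1, mul_assoc, hzc u, ← mul_assoc]
  have hU1W : ∀ u ∈ U1, ∀ v ∈ W, u * v = v * u := by
    have haW : ∀ v ∈ W, a * v = v * a := by
      intro v hv
      rcases hWmem v hv with rfl | rfl | rfl | rfl
      · simp
      · exact hzc a
      · exact hwa
      · rw [← mul_assoc, hzc a, mul_assoc, hwa, ← mul_assoc]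
    intro u hu v hv
    rcases hU1mem u hu with rfl | rfl | rfl | rfl
    · simp
    · exact haW v hv
    · exact (hzc v).symm
    · rw [mul_assoc, ← hzc v, ← mul_assoc, haW v hv, mul_assoc]
  refine ⟨W, hW, hWE, ?_, ?_⟩
  · exact Relation.ReflTransGen.head ⟨hU, hU1, hUU1⟩ (Relation.ReflTransGen.single ⟨hU1, hW, hU1W⟩)
  · exact Relation.ReflTransGen.head ⟨hW, hU1, fun u hu v hv => (hU1W v hv u hu).symm⟩
      (Relation.ReflTransGen.single ⟨hU1, hU, fun u hu v hv => (hUU1 v hv u hu).symm⟩)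

/-- If a finite 2-group has a normal elementary abelian subgroup of order at least 8, then any two of its Klein
four-subgroups are joined by a chain of Klein four-subgroups with consecutive members commuting elementwise. -/
theorem result {P : Type*} [Group P] [Finite P] (hP : IsPGroup 2 P)
    (E : Subgroup P) [E.Normal] (hE : IsMulCommutative E) (hE2 : ∀ e ∈ E, e ^ 2 = 1) (hE8 : 8 ≤ Nat.card E) :
    Cfsg.IsFourConnected P := by
  haveI : Fact (Nat.Prime 2) := ⟨Nat.prime_two⟩
  have hEc : ∀ x ∈ E, ∀ y ∈ E, x * y = y * x := by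
    intro x hx y hy
    have := hE.is_comm.comm (⟨x, hx⟩ : ↥E) ⟨y, hy⟩
    exact congrArg Subtype.val this
  have hEsq : ∀ e ∈ E, e * e = 1 := by
    intro e he
    rw [← pow_two]; exact hE2 e he
  have hEne : E ≠ ⊥ := by
    intro h
    rw [h, Subgroup.card_bot] at hE8
    omega
  obtain ⟨z, hzE, hzZ, hz1⟩ := Cfsg.Agent.Lib.Lead.PGroup.exists_mem_center_of_normal hP E hEne
  intro U V hU hV
  obtain ⟨W, hW, hWE, hUW, _⟩ := chain_to_E E hEc hEsq hE8 hzE hzZ hz1 U hU
  obtain ⟨W', hW', hW'E, _, hW'V⟩ := chain_to_E E hEc hEsq hE8 hzE hzZ hz1 V hV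
  refine hUW.trans (Relation.ReflTransGen.head ⟨hW, hW', ?_⟩ hW'V)
  intro a ha b hb
  exact hEc a (hWE ha) b (hW'E hb)

end Cfsg.Agent.S0502
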