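import Cfsg.Statements.S0505
import Mathlib
import Cfsg.Agent.H2.LocalFStar2
import Cfsg.Agent.Lib.Lead.PGroup

set_option autoImplicit false
set_option linter.style.haveILetI false
open Cfsg

namespace Cfsg.Agent.S0505

open Cfsg.Agent.H2
open scoped commutatorElement

/-- A solvable group with trivial odd core has characteristic 2. -/
theorem charTwo_of_solvable {H : Type*} [Group H] [Finite H] (hs : Group.IsSolvable H)
    (hc : Cfsg.pPrimeCore 2 H = ⊥) :
    Subgroup.centralizer ((Cfsg.pCore 2 H : Subgroup H) : Set H) ≤ Cfsg.pCore 2 H := by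
  haveI : Fact (Nat.Prime 2) := ⟨Nat.prime_two⟩
  have h1 : Cfsg.layer H = ⊥ := by
    rw [eq_bot_iff]
    apply layer_le_iff.2
    intro L hL
    exfalso
    exact quasisimple_not_isSolvable hL.2 inferInstance
  have h2 : ∀ q : ℕ, q.Prime → q ≠ 2 → Cfsg.pCore q H = ⊥ := by
    intro q hq hq2
    rw [eq_bot_iff, ← hc]
    exact Cfsg.Agent.H1.le_pPrimeCore (Cfsg.Agent.H1.pCore_normal q)
      (Cfsg.Agent.H1.pCore_coprime_of_ne Nat.prime_two hq hq2)
  have h3 := generalizedFittingSubgroup_eq_pCore_of_forall 2 h1 h2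
  have h4 := centralizer_generalizedFittingSubgroup_le (G := H)
  rwa [h3] at h4

/-- A nontrivial finite 2-subgroup has a central involution. -/
theorem exists_central_involution {G : Type*} [Group G] [Finite G] (T : Subgroup G)
    (hT : IsPGroup 2 T) (hTne : T ≠ ⊥) :
    ∃ t : G, t ∈ T ∧ (∀ x ∈ T, x * t = t * x) ∧ orderOf t = 2 := by
  haveI : Fact (Nat.Prime 2) := ⟨Nat.prime_two⟩
  haveI : Nontrivial T := (Subgroup.nontrivial_iff_ne_bot T).2 hTne
  haveI : Nontrivial (Subgroup.center T) := hT.center_nontrivial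
  have hZ : IsPGroup 2 (Subgroup.center T) := hT.to_subgroup _
  obtain ⟨n, hn0, hn⟩ := hZ.nontrivial_iff_card.1 inferInstance
  have hdvd : 2 ∣ Nat.card (Subgroup.center T) := by
    rw [hn]; exact dvd_pow_self 2 hn0.ne'
  obtain ⟨z, hz⟩ := exists_prime_orderOf_dvd_card' 2 hdvd
  refine ⟨((z : T) : G), (z : T).2, ?_, ?_⟩
  · intro x hx
    have := Subgroup.mem_center_iff.1 z.2 ⟨x, hx⟩
    exact congrArg Subtype.val this
  · rw [Subgroup.orderOf_coe, Subgroup.orderOf_coe, hz]

theorem comap_inclusion_eq {G : Type*} [Group G] {M N : Subgroup G} (h : M ≤ N) (K : Subgroup N) :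
    K.comap (Subgroup.inclusion h) = (K.map N.subtype).subgroupOf M := by
  ext x
  rw [Subgroup.mem_comap, Subgroup.mem_subgroupOf, Subgroup.mem_map]
  constructor
  · intro hx
    exact ⟨_, hx, rfl⟩
  · rintro ⟨k, hk, hkx⟩
    have : k = Subgroup.inclusion h x := Subtype.ext hkx
    rwa [← this]

/-- Let G be a finite group of even order in which the centralizer of every involution is solvable and has trivial
core (no nontrivial normal subgroup of odd order). Then G is of characteristic 2 type. -/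
theorem result {G : Type*} [Group G] [Finite G]
    (h2 : Even (Nat.card G))
    (hs : ∀ t : G, orderOf t = 2 → Group.IsSolvable (Subgroup.centralizer ({t} : Set G)))
    (hc : ∀ t : G, orderOf t = 2 → Cfsg.oddCore (Subgroup.centralizer ({t} : Set G)) = ⊥) :
    Cfsg.IsCharacteristicTwoType G := by
  haveI : Fact (Nat.Prime 2) := ⟨Nat.prime_two⟩
  refine ⟨h2, ?_⟩
  intro T hT hTne
  obtain ⟨t, htT, htZ, ht2⟩ := exists_central_involution T hT hTne
  set N := Subgroup.normalizer (T : Set G) with hN
  set H := Subgroup.centralizer ({t} : Set G) with hH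
  have hHchar := charTwo_of_solvable (hs t ht2) (hc t ht2)
  have hTN : T ≤ N := Subgroup.le_normalizer
  have hTH : T ≤ H := by
    intro x hx
    rw [hH, Subgroup.mem_centralizer_singleton_iff]
    exact htZ x hx
  have hCT : Subgroup.centralizer (T : Set G) ⊓ H ≤ N ⊓ H := by
    refine inf_le_inf_right _ ?_
    exact Subgroup.centralizer_le_normalizer _
  obtain ⟨hM1, hM2⟩ := local_of_subgroup 2 H hHchar T (N ⊓ H) hT (le_inf hTN hTH) inf_le_right
    inf_le_left hCT
  have hT'n : (T.subgroupOf N).Normal := Subgroup.normal_in_normalizer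
  have hT'p : IsPGroup 2 (T.subgroupOf N) := hT.comap_of_injective N.subtype N.subtype_injective
  have hMN : N ⊓ H ≤ N := inf_le_left
  -- elements of N commuting with T' lie in M
  have hcomm_mem : ∀ K : Subgroup N, ⁅K, T.subgroupOf N⁆ = ⊥ → K.map N.subtype ≤ N ⊓ H := by
    intro K hK
    refine le_inf (map_subtype_le _ _) ?_
    rintro _ ⟨k, hk, rfl⟩
    rw [hH, Subgroup.mem_centralizer_singleton_iff]
    have := (commutator_eq_bot_iff_forall_commute _ _).1 hK k hk ⟨t, hTN htT⟩
      (Subgroup.mem_subgroupOf.2 htT)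
    exact congrArg Subtype.val this
  have hL : Cfsg.layer ↥N = ⊥ := by
    rw [eq_bot_iff]
    apply layer_le_iff.2
    intro K hK
    exfalso
    rcases component_le_or_commutator_eq_bot K (T.subgroupOf N) hK hT'n.isSubnormal with h | h
    · apply quasisimple_not_isSolvable hK.2
      have hKp : IsPGroup 2 K := hT'p.to_le h
      have : Group.IsNilpotent K := hKp.isNilpotent
      infer_instance
    · have hK'M := hcomm_mem K h
      have hcomp : Cfsg.IsComponent ((K.map N.subtype).subgroupOf (N ⊓ H)) := by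
        refine ⟨?_, (isQuasisimple_subgroupOf hK'M).2
          ((isQuasisimple_map_of_injective _ N.subtype_injective K).2 hK.2)⟩
        rw [← comap_inclusion_eq hMN]
        exact hK.1.comap _
      have hle := component_le_layer hcomp
      rw [hM1] at hle
      apply quasisimple_ne_bot hK.2
      rw [eq_bot_iff]
      intro k hk
      have hkM : (k : G) ∈ N ⊓ H := hK'M ⟨k, hk, rfl⟩
      have : (⟨(k : G), hkM⟩ : ↥(N ⊓ H)) ∈ (K.map N.subtype).subgroupOf (N ⊓ H) :=
        Subgroup.mem_subgroupOf.2 ⟨k, hk, rfl⟩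
      have := hle this
      rw [Subgroup.mem_bot] at this ⊢
      have h1 : (k : G) = 1 := congrArg Subtype.val this
      exact Subtype.ext h1
  have hO : ∀ q : ℕ, q.Prime → q ≠ 2 → Cfsg.pCore q ↥N = ⊥ := by
    intro q hq hq2
    haveI : Fact q.Prime := ⟨hq⟩
    set Y := Cfsg.pCore q ↥N with hY
    have hYn : Y.Normal := Cfsg.Agent.H1.pCore_normal q
    have hYq : IsPGroup q Y := Cfsg.Agent.H1.pCore_isPGroup q
    have hcomm : ⁅Y, T.subgroupOf N⁆ = ⊥ := by
      apply commutator_eq_bot_of_disjoint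
      · rw [Subgroup.normalizer_eq_top_iff.2 hT'n]; exact le_top
      · rw [Subgroup.normalizer_eq_top_iff.2 hYn]; exact le_top
      · exact (IsPGroup.disjoint_of_ne q 2 hq2 Y _ hYq hT'p).eq_bot
    have hY'M := hcomm_mem Y hcomm
    have hle : (Y.map N.subtype).subgroupOf (N ⊓ H) ≤ Cfsg.pCore q ↥(N ⊓ H) := by
      apply Cfsg.Agent.H1.le_pCore
      · rw [← comap_inclusion_eq hMN]
        exact hYn.comap _
      · rw [← comap_inclusion_eq hMN]
        exact hYq.comap_of_injective _ (Subgroup.inclusion_injective hMN)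
    rw [hM2 q hq hq2] at hle
    rw [eq_bot_iff]
    intro k hk
    have hkM : (k : G) ∈ N ⊓ H := hY'M ⟨k, hk, rfl⟩
    have : (⟨(k : G), hkM⟩ : ↥(N ⊓ H)) ∈ (Y.map N.subtype).subgroupOf (N ⊓ H) :=
      Subgroup.mem_subgroupOf.2 ⟨k, hk, rfl⟩
    have := hle this
    rw [Subgroup.mem_bot] at this ⊢
    have h1 : (k : G) = 1 := congrArg Subtype.val this
    exact Subtype.ext h1
  have h3 := generalizedFittingSubgroup_eq_pCore_of_forall (G := ↥N) 2 hL hO
  have h4 := centralizer_generalizedFittingSubgroup_le (G := ↥N)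
  rw [h3] at h4
  exact h4

end Cfsg.Agent.S0505
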