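import Cfsg.Statements.S0520
import Mathlib
import Cfsg.Agent.Lib.Lead.Conj
import Cfsg.Agent.Lib.Lead.TISylow
import Cfsg.Agent.Lib.Lead.KleinFour
import Cfsg.Agent.Lib.Helper7.SylowLib
import Cfsg.Agent.S2013

set_option autoImplicit false
open Cfsg

namespace Cfsg.Agent.S0520

open Cfsg.Agent.Lib.Lead.Conj Cfsg.Agent.Lib.Lead.TISylow Cfsg.Agent.Lib.Lead.KleinFour Cfsg.Agent.Lib.Helper7

section
variable {G : Type*} [Group G]

/-- the conjugate subgroup `g A g⁻¹` -/
abbrev cj (g : G) (A : Subgroup G) : Subgroup G := A.map (MulAut.conj g).toMonoidHom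

theorem mem_cj (g : G) (A : Subgroup G) (x : G) : x ∈ cj g A ↔ g⁻¹ * x * g ∈ A := mem_map_conj A g x

theorem cj_one (A : Subgroup G) : cj 1 A = A := by
  ext x; rw [mem_cj]; simp

theorem cj_mul (g h : G) (A : Subgroup G) : cj (g * h) A = cj g (cj h A) := by
  ext x; rw [mem_cj, mem_cj, mem_cj]
  have : (g * h)⁻¹ * x * (g * h) = h⁻¹ * (g⁻¹ * x * g) * h := by group
  rw [this]

theorem cj_mono (g : G) {A B : Subgroup G} (h : A ≤ B) : cj g A ≤ cj g B := Subgroup.map_mono h

theorem cj_inv_cj (g : G) (A : Subgroup G) : cj g⁻¹ (cj g A) = A := by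
  rw [← cj_mul, inv_mul_cancel, cj_one]

theorem isKleinFour_of_equiv {A B : Type*} [Group A] [Group B] (e : A ≃* B) (h : IsKleinFour A) :
    IsKleinFour B :=
  ⟨by rw [← Nat.card_congr e.toEquiv]; exact h.card_four,
    by rw [← Monoid.exponent_eq_of_mulEquiv e]; exact h.exponent_two⟩

theorem isKleinFour_map {H : Type*} [Group H] (f : G →* H) (hf : Function.Injective f) {A : Subgroup G}
    (h : IsKleinFour A) : IsKleinFour ↥(A.map f) :=
  isKleinFour_of_equiv (A.equivMapOfInjective f hf) h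

theorem isKleinFour_cj (g : G) {A : Subgroup G} (h : IsKleinFour A) : IsKleinFour ↥(cj g A) :=
  isKleinFour_map _ (MulAut.conj g).injective h

/-- adjacency in the commuting graph of four-subgroups -/
def adj (A B : Subgroup G) : Prop :=
  IsKleinFour A ∧ IsKleinFour B ∧ ∀ a ∈ A, ∀ b ∈ B, a * b = b * a

theorem adj_symm {A B : Subgroup G} (h : adj A B) : adj B A :=
  ⟨h.2.1, h.1, fun b hb a ha => (h.2.2 a ha b hb).symm⟩

theorem adj_cj (g : G) {A B : Subgroup G} (h : adj A B) : adj (cj g A) (cj g B) := by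
  refine ⟨isKleinFour_cj g h.1, isKleinFour_cj g h.2.1, fun a ha b hb => ?_⟩
  rw [mem_cj] at ha hb
  have := h.2.2 _ ha _ hb
  calc a * b = g * ((g⁻¹ * a * g) * (g⁻¹ * b * g)) * g⁻¹ := by group
    _ = g * ((g⁻¹ * b * g) * (g⁻¹ * a * g)) * g⁻¹ := by rw [this]
    _ = b * a := by group

theorem R_symm {A B : Subgroup G} (h : Relation.ReflTransGen adj A B) : Relation.ReflTransGen adj B A :=
  by
  induction h with
  | refl => exact Relation.ReflTransGen.refl
  | tail _ hbc ih => exact Relation.ReflTransGen.head (adj_symm hbc) ih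

theorem R_cj (g : G) {A B : Subgroup G} (h : Relation.ReflTransGen adj A B) :
    Relation.ReflTransGen adj (cj g A) (cj g B) :=
  Relation.ReflTransGen.lift (cj g) (fun _ _ hab => adj_cj g hab) _ _ h

theorem R_of_sub (S : Subgroup G) (hS : Cfsg.IsFourConnected ↥S) {U V : Subgroup G} (hU : IsKleinFour U)
    (hV : IsKleinFour V) (hUS : U ≤ S) (hVS : V ≤ S) : Relation.ReflTransGen adj U V := by
  have h := hS (U.subgroupOf S) (V.subgroupOf S)
    (isKleinFour_of_equiv (Subgroup.subgroupOfEquivOfLe hUS).symm hU)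
    (isKleinFour_of_equiv (Subgroup.subgroupOfEquivOfLe hVS).symm hV)
  have h2 : Relation.ReflTransGen adj ((U.subgroupOf S).map S.subtype) ((V.subgroupOf S).map S.subtype) := by
    refine Relation.ReflTransGen.lift (fun A : Subgroup ↥S => A.map S.subtype) ?_ _ _ h
    rintro A B ⟨hA, hB, hc⟩
    refine ⟨isKleinFour_map _ S.subtype_injective hA, isKleinFour_map _ S.subtype_injective hB, ?_⟩
    rintro _ ⟨a, ha, rfl⟩ _ ⟨b, hb, rfl⟩
    have := hc a ha b hb
    exact congrArg Subtype.val this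
  rwa [Subgroup.map_subgroupOf_eq_of_le hUS, Subgroup.map_subgroupOf_eq_of_le hVS] at h2

theorem exists_four_of_not_rank {H : Type*} [Group H] [Finite H] (h : ¬ Cfsg.PRankLE 2 1 H) :
    ∃ U : Subgroup H, IsKleinFour U := by
  unfold Cfsg.PRankLE at h
  push Not at h
  obtain ⟨A, hA, hexp, hcard⟩ := h
  have hx : ∃ x ∈ A, x ≠ 1 := by
    by_contra hcon
    push Not at hcon
    have : A = ⊥ := (Subgroup.eq_bot_iff_forall _).2 hcon
    rw [this, Subgroup.card_bot] at hcard
    omega
  obtain ⟨x, hxA, hx1⟩ := hx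
  have hy : ∃ y ∈ A, y ≠ 1 ∧ y ≠ x := by
    classical
    by_contra hcon
    push Not at hcon
    have hsub : (A : Set H) ⊆ (({1, x} : Finset H) : Set H) := by
      intro a ha
      simp only [Finset.coe_insert, Finset.coe_singleton, Set.mem_insert_iff, Set.mem_singleton_iff]
      by_cases h1 : a = 1
      · exact Or.inl h1
      · exact Or.inr (hcon a ha h1)
    have h1 : Nat.card ↥A = (A : Set H).ncard := rfl
    have h2 := Set.ncard_le_ncard hsub (Finset.finite_toSet _)
    rw [Set.ncard_coe_finset] at h2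
    have h3 : ({1, x} : Finset H).card ≤ 2 := Finset.card_le_two
    omega
  obtain ⟨y, hyA, hy1, hyx⟩ := hy
  have hc : x * y = y * x := by
    have := hA.is_comm.comm (⟨x, hxA⟩ : ↥A) ⟨y, hyA⟩
    exact congrArg Subtype.val this
  obtain ⟨V, hV, -⟩ := exists_kleinFour (by rw [← sq]; exact hexp x hxA) (by rw [← sq]; exact hexp y hyA)
    hc hx1 hy1 hyx.symm
  exact ⟨V, hV⟩

theorem not_rank_of_four {Q U : Subgroup G} (hU : IsKleinFour U) (hUQ : U ≤ Q) : ¬ Cfsg.PRankLE 2 1 ↥Q := by
  intro h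
  have hU' : IsKleinFour ↥(U.subgroupOf Q) :=
    isKleinFour_of_equiv (Subgroup.subgroupOfEquivOfLe hUQ).symm hU
  have := h (U.subgroupOf Q) (IsKleinFour.isMulCommutative) (fun a ha => by
    rw [Subgroup.mem_subgroupOf] at ha
    apply Subtype.ext
    rw [sq, Subgroup.coe_mul]
    exact KleinFourSub.sq_eq_one hU ha)
  rw [hU'.card_four] at this
  norm_num at this

theorem normalizer_cj (k g : G) (T : Subgroup G) (hg : g ∈ Subgroup.normalizer (T : Set G)) :
    k * g * k⁻¹ ∈ Subgroup.normalizer ((cj k T : Subgroup G) : Set G) := by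
  rw [Subgroup.mem_normalizer_iff]
  intro y
  rw [mem_cj, mem_cj]
  have e : k⁻¹ * (k * g * k⁻¹ * y * (k * g * k⁻¹)⁻¹) * k = g * (k⁻¹ * y * k) * g⁻¹ := by group
  rw [e]
  exact Subgroup.mem_normalizer_iff.1 hg _

theorem conj_back {K X : Subgroup G} {k : G} (hk : k ∈ K)
    (hN : Subgroup.normalizer ((cj k X : Subgroup G) : Set G) ≤ K) :
    Subgroup.normalizer (X : Set G) ≤ K := by
  intro g hg
  have h1 := hN (normalizer_cj k g X hg)
  have e : g = k⁻¹ * (k * g * k⁻¹) * k := by group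
  rw [e]
  exact mul_mem (mul_mem (inv_mem hk) h1) hk

end

/-- Let G be a finite group of 2-rank at least 2 and S a Sylow 2-subgroup whose commuting graph of Klein four-subgroups is
connected. Then the commuting graph of Klein four-subgroups of G is disconnected if and only if the 2-generated core — the
subgroup generated by the normalizers N_G(Q) of the subgroups Q of S that contain a Klein four-group — is a proper
subgroup of G. -/
theorem result {G : Type*} [Group G] [Finite G] (h2 : ¬ Cfsg.PRankLE 2 1 G)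
    (S : Sylow 2 G) (hS : Cfsg.IsFourConnected (S : Subgroup G)) :
    ¬ Cfsg.IsFourConnected G ↔
      (⨆ Q : {Q : Subgroup G // Q ≤ (S : Subgroup G) ∧ ¬ Cfsg.PRankLE 2 1 Q},
          Subgroup.normalizer ((Q : Subgroup G) : Set G)) ≠ ⊤ := by
  haveI : Fact (Nat.Prime 2) := ⟨Nat.prime_two⟩
  classical
  have hfour2 : ∀ U : Subgroup G, IsKleinFour U → IsPGroup 2 ↥U := fun U hU =>
    IsPGroup.of_card (n := 2) (by rw [hU.card_four]; norm_num)
  have hintoS : ∀ U : Subgroup G, IsPGroup 2 ↥U → ∃ g : G, cj g U ≤ S := by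
    intro U hU2
    obtain ⟨S', hS'⟩ := hU2.exists_le_sylow
    obtain ⟨g, hg⟩ := MulAction.exists_smul_eq G S' S
    refine ⟨g, ?_⟩
    intro x hx
    rw [mem_cj] at hx
    have := hS' hx
    rw [← hg, mem_sylow_smul]
    exact this
  obtain ⟨U₀, hU₀⟩ := exists_four_of_not_rank h2
  obtain ⟨A₀, hA₀, hA₀S⟩ : ∃ A₀ : Subgroup G, IsKleinFour A₀ ∧ A₀ ≤ S := by
    obtain ⟨g, hg⟩ := hintoS U₀ (hfour2 U₀ hU₀)
    exact ⟨cj g U₀, isKleinFour_cj g hU₀, hg⟩
  set K := ⨆ Q : {Q : Subgroup G // Q ≤ (S : Subgroup G) ∧ ¬ Cfsg.PRankLE 2 1 Q},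
    Subgroup.normalizer ((Q : Subgroup G) : Set G) with hK
  have K1 : ∀ Q U : Subgroup G, Q ≤ S → IsKleinFour U → U ≤ Q → Subgroup.normalizer (Q : Set G) ≤ K :=
    fun Q U hQS hU hUQ =>
      le_iSup_of_le (f := fun Q : {Q : Subgroup G // Q ≤ (S : Subgroup G) ∧ ¬ Cfsg.PRankLE 2 1 Q} =>
        Subgroup.normalizer ((Q : Subgroup G) : Set G)) ⟨Q, hQS, not_rank_of_four hU hUQ⟩ le_rfl
  have hSK : (S : Subgroup G) ≤ K := Subgroup.le_normalizer.trans (K1 S A₀ le_rfl hA₀ hA₀S)
  have hRS : ∀ U V : Subgroup G, IsKleinFour U → IsKleinFour V → U ≤ S → V ≤ S →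
      Relation.ReflTransGen adj U V := fun U V hU hV hUS hVS => R_of_sub S hS hU hV hUS hVS
  rw [not_iff_comm, not_not]
  constructor
  · intro hKtop
    have hall : ∀ g : G, Relation.ReflTransGen adj A₀ (cj g A₀) := by
      intro g
      have hg : g ∈ K := hKtop ▸ Subgroup.mem_top g
      refine Subgroup.iSup_induction _ (C := fun g => Relation.ReflTransGen adj A₀ (cj g A₀)) hg ?_ ?_ ?_
      · rintro ⟨Q, hQS, hQr⟩ x hx
        obtain ⟨U', hU'⟩ := exists_four_of_not_rank hQr
        have hUf : IsKleinFour ↥(U'.map Q.subtype) := isKleinFour_map _ Q.subtype_injective hU'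
        have hUQ : U'.map Q.subtype ≤ Q := Subgroup.map_subtype_le U'
        have hxU : cj x (U'.map Q.subtype) ≤ Q := by
          intro y hy
          rw [mem_cj] at hy
          have := hUQ hy
          have h' := (Subgroup.mem_normalizer_iff.1 hx _).1 this
          have e : x * (x⁻¹ * y * x) * x⁻¹ = y := by group
          rwa [e] at h'
        have r1 := hRS A₀ _ hA₀ hUf hA₀S (hUQ.trans hQS)
        have r2 := hRS A₀ _ hA₀ (isKleinFour_cj x hUf) hA₀S (hxU.trans hQS)
        have r3 := R_cj x r1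
        exact r2.trans (R_symm r3)
      · show Relation.ReflTransGen adj A₀ (cj 1 A₀)
        rw [cj_one]
      · intro x y hx hy
        show Relation.ReflTransGen adj A₀ (cj (x * y) A₀)
        rw [cj_mul]
        exact Relation.ReflTransGen.trans hx (R_cj x hy)
    have hAU : ∀ U : Subgroup G, IsKleinFour U → Relation.ReflTransGen adj A₀ U := by
      intro U hU
      obtain ⟨g, hgU⟩ := hintoS U (hfour2 U hU)
      have r1 := hRS A₀ (cj g U) hA₀ (isKleinFour_cj g hU) hA₀S hgU
      have r2 := R_cj g⁻¹ r1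
      rw [cj_inv_cj] at r2
      exact (hall g⁻¹).trans r2
    intro U V hU hV
    exact (R_symm (hAU U hU)).trans (hAU V hV)
  · intro hconn
    have B1 : ∀ U : Subgroup G, Relation.ReflTransGen adj A₀ U → ∃ k ∈ K, cj k U ≤ S := by
      intro U hr
      induction hr with
      | refl => exact ⟨1, one_mem _, by rw [cj_one]; exact hA₀S⟩
      | tail _ hBC ih =>
        rename_i B C _
        obtain ⟨k, hk, hkB⟩ := ih
        have hBC' := adj_cj k hBC
        have hCK : cj k C ≤ K := by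
          intro c hc
          apply K1 (cj k B) (cj k B) hkB hBC'.1 le_rfl
          apply Subgroup.centralizer_le_normalizer
          rw [Subgroup.mem_centralizer_iff]
          intro b hb
          exact hBC'.2.2 b hb c hc
        obtain ⟨P', hP', hCP'⟩ := exists_isSylowIn_ge (hfour2 _ hBC'.2.1) hCK
        obtain ⟨h, hh, hP'eq⟩ := (IsSylowIn.of_sylow_le S hSK).conj hP'
        have hP'eq' : P' = cj h (S : Subgroup G) := hP'eq
        refine ⟨h⁻¹ * k, mul_mem (inv_mem hh) hk, ?_⟩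
        rw [cj_mul]
        have := cj_mono h⁻¹ hCP'
        rwa [hP'eq', cj_inv_cj] at this
    have B2a : ∀ U : Subgroup G, IsKleinFour U → Subgroup.normalizer (U : Set G) ≤ K := by
      intro U hU
      obtain ⟨k, hk, hkU⟩ := B1 U (hconn A₀ U hA₀ hU)
      exact conj_back hk (K1 (cj k U) (cj k U) hkU (isKleinFour_cj k hU) le_rfl)
    have B2 : ∀ T₀ U : Subgroup G, IsPGroup 2 ↥T₀ → T₀ ≤ K → IsKleinFour U → U ≤ T₀ →
        Subgroup.normalizer (T₀ : Set G) ≤ K := by
      intro T₀ U hT2 hTK hU hUT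
      obtain ⟨P', hP', hTP'⟩ := exists_isSylowIn_ge hT2 hTK
      obtain ⟨h, hh, hP'eq⟩ := (IsSylowIn.of_sylow_le S hSK).conj hP'
      have hP'eq' : P' = cj h (S : Subgroup G) := hP'eq
      have hle : cj h⁻¹ T₀ ≤ S := by
        have := cj_mono h⁻¹ hTP'
        rwa [hP'eq', cj_inv_cj] at this
      exact conj_back (inv_mem hh) (K1 (cj h⁻¹ T₀) (cj h⁻¹ U) hle (isKleinFour_cj _ hU) (cj_mono _ hUT))
    have B3 : ∀ g : G, cj g (S : Subgroup G) ≤ K := by
      intro g
      by_contra hnot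
      have hT2 : IsPGroup 2 ↥(cj g (S : Subgroup G)) := S.isPGroup'.map _
      have hne : cj g (S : Subgroup G) ⊓ K ≠ cj g (S : Subgroup G) := fun h => hnot (h ▸ inf_le_right)
      have hgrow := Cfsg.Agent.S2013.normalizer_grow hT2 (inf_le_left : cj g (S : Subgroup G) ⊓ K ≤ _) hne
      obtain ⟨x, hx, hxn⟩ := SetLike.exists_of_lt hgrow
      have hA : cj g A₀ ≤ cj g (S : Subgroup G) ⊓ K :=
        le_inf (cj_mono g hA₀S) (Subgroup.le_normalizer.trans (B2a _ (isKleinFour_cj g hA₀)))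
      have hN := B2 _ (cj g A₀) (hT2.to_le inf_le_left) inf_le_right (isKleinFour_cj g hA₀) hA
      have hx' := Subgroup.mem_inf.1 hx
      exact hxn (Subgroup.mem_inf.2 ⟨hx'.1, hN hx'.2⟩)
    rw [eq_top_iff]
    intro g _
    have hgS : IsSylowIn 2 ((g • S : Sylow 2 G) : Subgroup G) K := IsSylowIn.of_sylow_le (g • S) (by
      intro x hx
      rw [mem_sylow_smul] at hx
      apply B3 g
      rw [mem_cj]
      exact hx)
    obtain ⟨h, hh, heq⟩ := (IsSylowIn.of_sylow_le S hSK).conj hgS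
    have heq' : ((g • S : Sylow 2 G) : Subgroup G) = cj h (S : Subgroup G) := heq
    have hn : h⁻¹ * g ∈ Subgroup.normalizer ((S : Subgroup G) : Set G) := by
      apply mem_normalizer_of_conj_mem
      intro r hr
      have h1 : g * r * g⁻¹ ∈ ((g • S : Sylow 2 G) : Subgroup G) := by
        rw [mem_sylow_smul]
        have e : g⁻¹ * (g * r * g⁻¹) * g = r := by group
        rw [e]; exact hr
      rw [heq', mem_cj] at h1
      have e : h⁻¹ * g * r * (h⁻¹ * g)⁻¹ = h⁻¹ * (g * r * g⁻¹) * h := by group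
      rw [e]; exact h1
    have h3 := K1 S A₀ le_rfl hA₀ hA₀S hn
    have e : g = h * (h⁻¹ * g) := by group
    rw [e]
    exact mul_mem hh h3

end Cfsg.Agent.S0520
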