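import Mathlib
import Cfsg.Statements.S0521
import Cfsg.Agent.Lib.Helper7.Stability
import Cfsg.Agent.Lib.Lead.PSolvable
import Cfsg.Agent.Lib.Lead.PiCore
import Cfsg.Agent.Lib.Lead.QuotAut
import Cfsg.Agent.H2.AutFrattini
import Cfsg.Agent.H1.BaerSuzuki
import Cfsg.Agent.H1.Frattini
import Cfsg.Agent.Lib.Helper4.SolvPSolv
import Cfsg.Agent.Lib.Helper7.Core

set_option autoImplicit false
open Cfsg

namespace Cfsg.Agent.S0521


section Part0

variable {V : Type*} [CommGroup V] [Finite V] {p : ℕ} [hp : Fact p.Prime]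

/-- in a group of exponent `p`, a nontrivial element of `⟨h⟩` generates `⟨h⟩` -/
theorem mem_zpowers_of_ne_one {g h : V} (hh : h ^ p = 1) (hg : g ∈ Subgroup.zpowers h) (hg1 : g ≠ 1) :
    h ∈ Subgroup.zpowers g := by
  have hh1 : h ≠ 1 := by
    rintro rfl
    rw [Subgroup.zpowers_one_eq_bot, Subgroup.mem_bot] at hg
    exact hg1 hg
  have hord : orderOf h = p := orderOf_eq_prime hh hh1
  have hcard : Nat.card (Subgroup.zpowers h) = p := by rw [Nat.card_zpowers, hord]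
  have hne : (⟨g, hg⟩ : Subgroup.zpowers h) ≠ 1 := by
    intro h1
    exact hg1 (congrArg Subtype.val h1)
  have := mem_zpowers_of_prime_card hcard hne (g' := ⟨h, Subgroup.mem_zpowers h⟩)
  obtain ⟨k, hk⟩ := Subgroup.mem_zpowers_iff.1 this
  refine Subgroup.mem_zpowers_iff.2 ⟨k, ?_⟩
  have := congrArg Subtype.val hk
  simpa using this

theorem exists_pow_of_mem_zpowers {g h : V} (hg : g ∈ Subgroup.zpowers h) : ∃ n : ℕ, h ^ n = g := by
  rw [← mem_powers_iff_mem_zpowers] at hg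
  exact (Submonoid.mem_powers_iff _ _).1 hg

theorem pow_fix {x : MulAut V} {v : V} (h : x v = v) (n : ℕ) : (x ^ n) v = v := by
  induction n with
  | zero => simp
  | succ n ih => rw [pow_succ, MulAut.mul_apply, h, ih]

theorem fix_zpowers {x : MulAut V} {v w : V} (h : x v = v) (hw : w ∈ Subgroup.zpowers v) : x w = w := by
  obtain ⟨k, rfl⟩ := Subgroup.mem_zpowers_iff.1 hw
  rw [map_zpow, h]

/-- a `p`-element of `Aut V` normalizing `⟨f⟩` (with `f ^ p = 1`) fixes `f` -/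
theorem fix_of_pElement (hV : ∀ v : V, v ^ p = 1) (x : MulAut V) (f : V) (k : ℕ) (hxk : x ^ (p ^ k) = 1)
    (hx : f⁻¹ * x f ∈ Subgroup.zpowers f) : x f = f := by
  by_cases hf1 : f = 1
  · rw [hf1, map_one]
  obtain ⟨m, hm⟩ := exists_pow_of_mem_zpowers hx
  have hxf : x f = f ^ (m + 1) := by
    rw [pow_succ', hm, mul_inv_cancel_left]
  have hpow : ∀ n : ℕ, (x ^ n) f = f ^ ((m + 1) ^ n) := by
    intro n
    induction n with
    | zero => simp
    | succ n ih =>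
      rw [pow_succ', MulAut.mul_apply, ih, map_pow, hxf, ← pow_mul, pow_succ']
  have h1 := hpow (p ^ k)
  rw [hxk, MulAut.one_apply] at h1
  have hord : orderOf f = p := orderOf_eq_prime (hV f) hf1
  have h2 : f ^ 1 = f ^ ((m + 1) ^ (p ^ k)) := by rw [pow_one]; exact h1
  rw [pow_eq_pow_iff_modEq, hord] at h2
  have h3 : ((1 : ℕ) : ZMod p) = (((m + 1) ^ (p ^ k) : ℕ) : ZMod p) :=
    (ZMod.natCast_eq_natCast_iff _ _ _).2 h2
  rw [Nat.cast_pow, ZMod.pow_card_pow] at h3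
  have h4 : 1 ≡ m + 1 [MOD p] := (ZMod.natCast_eq_natCast_iff _ _ _).1 h3
  have h5 : f ^ 1 = f ^ (m + 1) := by
    rw [pow_eq_pow_iff_modEq, hord]; exact h4
  rw [hxf, ← h5, pow_one]

end Part0

section Part1

open Cfsg.Agent.Lib.Helper7 in
section
variable {V : Type*} [CommGroup V] [Finite V] {p : ℕ} [hp : Fact p.Prime]

/-- the automorphisms stabilizing the chain `1 ≤ ⟨e⟩ ≤ ⟨e, f⟩ ≤ V` -/
def chainStab (e f : V) : Subgroup (MulAut V) where
  carrier := {d | d e = e ∧ f⁻¹ * d f ∈ Subgroup.zpowers e ∧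
    ∀ v, v⁻¹ * d v ∈ Subgroup.zpowers e ⊔ Subgroup.zpowers f}
  one_mem' := ⟨rfl, by simp, fun v => by simp⟩
  mul_mem' := by
    rintro a b ⟨ha1, ha2, ha3⟩ ⟨hb1, hb2, hb3⟩
    refine ⟨by rw [MulAut.mul_apply, hb1, ha1], ?_, fun v => ?_⟩
    · have h1 : f⁻¹ * (a * b) f = (f⁻¹ * a f) * a (f⁻¹ * b f) := by
        rw [MulAut.mul_apply, map_mul, map_inv, mul_assoc, mul_inv_cancel_left]
      rw [h1, fix_zpowers ha1 hb2]
      exact mul_mem ha2 hb2
    · have h1 : v⁻¹ * (a * b) v = (v⁻¹ * b v) * ((b v)⁻¹ * a (b v)) := by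
        rw [MulAut.mul_apply, mul_assoc, mul_inv_cancel_left]
      rw [h1]
      exact mul_mem (hb3 v) (ha3 (b v))
  inv_mem' := by
    rintro a ⟨ha1, ha2, ha3⟩
    have h1 : a⁻¹ e = e := by
      rw [MulAut.inv_apply, MulEquiv.symm_apply_eq, ha1]
    refine ⟨h1, ?_, fun v => ?_⟩
    · -- f = a⁻¹ (a f) = a⁻¹ (f * z) = a⁻¹ f * z
      have hz : a⁻¹ (f⁻¹ * a f) = f⁻¹ * a f := fix_zpowers h1 ha2
      rw [map_mul, map_inv, MulAut.inv_apply_self] at hz
      -- hz : (a⁻¹ f)⁻¹ * f = f⁻¹ * a f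
      have h2 : f⁻¹ * a⁻¹ f = (f⁻¹ * a f)⁻¹ := by
        rw [← hz, mul_inv_rev, inv_inv]
      rw [h2]
      exact inv_mem ha2
    · have h2 := ha3 (a⁻¹ v)
      rw [MulAut.apply_inv_self] at h2
      have h3 : v⁻¹ * a⁻¹ v = ((a⁻¹ v)⁻¹ * v)⁻¹ := by
        rw [mul_inv_rev, inv_inv]
      rw [h3]
      exact inv_mem h2

theorem chainStab_pow (hV : ∀ v : V, v ^ p = 1) {e f : V} {d : MulAut V} (hd : d ∈ chainStab e f) :
    d ^ (p * p) = 1 := by
  have hγ : d ^ p ∈ chainStab e f := Subgroup.pow_mem _ hd p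
  obtain ⟨h1, h2, h3⟩ := hd
  have hz : d (f⁻¹ * d f) = f⁻¹ * d f := fix_zpowers h1 h2
  have hf : d f = f * (f⁻¹ * d f) := by rw [mul_inv_cancel_left]
  have hpf : (d ^ p) f = f := by
    rw [pow_apply_of_fix hz hf p, hV, mul_one]
  have hpe : (d ^ p) e = e := pow_fix h1 p
  have hW : ∀ w ∈ Subgroup.zpowers e ⊔ Subgroup.zpowers f, (d ^ p) w = w := by
    intro w hw
    obtain ⟨a, ha, b, hb, rfl⟩ := Subgroup.mem_sup.1 hw
    rw [map_mul, fix_zpowers hpe ha, fix_zpowers hpf hb]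
  rw [pow_mul]
  ext v
  have hz' := hW _ (hγ.2.2 v)
  have hv : (d ^ p) v = v * (v⁻¹ * (d ^ p) v) := by rw [mul_inv_cancel_left]
  rw [pow_apply_of_fix hz' hv p, hV, mul_one, MulAut.one_apply]

/-- degenerate case: `x` fixes `e` -/
theorem closure_le_chainStab (hV : ∀ v : V, v ^ p = 1) (x y : MulAut V) (e f : V)
    (hxp : ∃ k : ℕ, x ^ (p ^ k) = 1) (hyp : ∃ k : ℕ, y ^ (p ^ k) = 1)
    (hx : ∀ v, v⁻¹ * x v ∈ Subgroup.zpowers f) (hy : ∀ v, v⁻¹ * y v ∈ Subgroup.zpowers e)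
    (hxe : x e = e) : Subgroup.closure {x, y} ≤ chainStab e f := by
  obtain ⟨k, hk⟩ := hxp
  obtain ⟨l, hl⟩ := hyp
  have hxf : x f = f := fix_of_pElement hV x f k hk (hx f)
  have hye : y e = e := fix_of_pElement hV y e l hl (hy e)
  rw [Subgroup.closure_le]
  rintro d (rfl | rfl)
  · refine ⟨hxe, ?_, fun v => ?_⟩
    · rw [hxf, inv_mul_cancel]; exact one_mem _
    · exact (le_sup_right : Subgroup.zpowers f ≤ _) (hx v)
  · refine ⟨hye, hy f, fun v => ?_⟩
    exact (le_sup_left : Subgroup.zpowers e ≤ _) (hy v)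

end

end Part1

section Part2

open Cfsg.Agent.Lib.Helper7 in
section
variable {V : Type*} [CommGroup V] [Finite V] {p : ℕ} [hp : Fact p.Prime]

theorem comm_identity (e f : V) : (e * f) * (f * ((e * f) * (e * f))⁻¹) = e⁻¹ := by
  apply Additive.ofMul.injective
  simp only [ofMul_mul, ofMul_inv]
  abel

/-- the non-degenerate case is impossible in a group of odd order -/
theorem nondegenerate_false (hp2 : p ≠ 2) (hV : ∀ v : V, v ^ p = 1) (x y : MulAut V) (e f : V)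
    (hxp : ∃ k : ℕ, x ^ (p ^ k) = 1) (hyp : ∃ k : ℕ, y ^ (p ^ k) = 1)
    (hx : ∀ v, v⁻¹ * x v ∈ Subgroup.zpowers f) (hy : ∀ v, v⁻¹ * y v ∈ Subgroup.zpowers e)
    (hodd : ∀ d ∈ Subgroup.closure {x, y}, Odd (orderOf d))
    (hxe : x e ≠ e) (hyf : y f ≠ f) : False := by
  obtain ⟨k, hk⟩ := hxp
  obtain ⟨l, hl⟩ := hyp
  have hxf : x f = f := fix_of_pElement hV x f k hk (hx f)
  have hye : y e = e := fix_of_pElement hV y e l hl (hy e)
  have hxm : x ∈ Subgroup.closure {x, y} := Subgroup.subset_closure (by simp)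
  have hym : y ∈ Subgroup.closure {x, y} := Subgroup.subset_closure (by simp)
  -- f₁
  have hf₁mem : e⁻¹ * x e ∈ Subgroup.zpowers f := hx e
  have hxe' : x e = e * (e⁻¹ * x e) := by rw [mul_inv_cancel_left]
  have hf₁ne : e⁻¹ * x e ≠ 1 := by
    intro h
    rw [h, mul_one] at hxe'
    exact hxe hxe'
  have hxf₁ : x (e⁻¹ * x e) = e⁻¹ * x e := fix_zpowers hxf hf₁mem
  have hfmem : f ∈ Subgroup.zpowers (e⁻¹ * x e) := mem_zpowers_of_ne_one (hV f) hf₁mem hf₁ne
  generalize e⁻¹ * x e = f₁ at hf₁mem hxe' hf₁ne hxf₁ hfmem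
  have hyf₁ : y f₁ ≠ f₁ := fun h => hyf (fix_zpowers h hfmem)
  -- e₁
  have he₁mem : f₁⁻¹ * y f₁ ∈ Subgroup.zpowers e := hy f₁
  have hyf₁' : y f₁ = f₁ * (f₁⁻¹ * y f₁) := by rw [mul_inv_cancel_left]
  have he₁ne : f₁⁻¹ * y f₁ ≠ 1 := by
    intro h
    rw [h, mul_one] at hyf₁'
    exact hyf₁ hyf₁'
  have hye₁ : y (f₁⁻¹ * y f₁) = f₁⁻¹ * y f₁ := fix_zpowers hye he₁mem
  have hemem : e ∈ Subgroup.zpowers (f₁⁻¹ * y f₁) := mem_zpowers_of_ne_one (hV e) he₁mem he₁ne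
  generalize f₁⁻¹ * y f₁ = e₁ at he₁mem hyf₁' he₁ne hye₁ hemem
  have hee : (e * e)⁻¹ ∈ Subgroup.zpowers e₁ := inv_mem (mul_mem hemem hemem)
  obtain ⟨j, hj⟩ := exists_pow_of_mem_zpowers hee
  have hyj : (y ^ j) f₁ = f₁ * (e * e)⁻¹ := by
    rw [pow_apply_of_fix hye₁ hyf₁' j, hj]
  have hyje : (y ^ j) e = e := pow_fix hye j
  have hMm : x * y ^ j ∈ Subgroup.closure {x, y} := mul_mem hxm (pow_mem hym j)
  have hMe : (x * y ^ j) e = e * f₁ := by
    rw [MulAut.mul_apply, hyje, hxe']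
  have hMf : (x * y ^ j) f₁ = f₁ * ((e * f₁) * (e * f₁))⁻¹ := by
    rw [MulAut.mul_apply, hyj, map_mul, map_inv, map_mul, hxf₁, ← hxe']
  have hNe : ((x * y ^ j) * (x * y ^ j)) e = e⁻¹ := by
    rw [MulAut.mul_apply, hMe, map_mul, hMe, hMf, comm_identity]
  have hNm : (x * y ^ j) * (x * y ^ j) ∈ Subgroup.closure {x, y} := mul_mem hMm hMm
  generalize (x * y ^ j) * (x * y ^ j) = N at hNe hNm
  have hNN : (N * N) e = e := by
    rw [MulAut.mul_apply, hNe, map_inv, hNe, inv_inv]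
  obtain ⟨t, ht⟩ := hodd N hNm
  have h1 : N ^ (2 * t + 1) = 1 := by rw [← ht]; exact pow_orderOf_eq_one N
  have h2 : N = (N * N) ^ (t + 1) := by
    rw [← pow_two, ← pow_mul]
    have : 2 * (t + 1) = (2 * t + 1) + 1 := by ring
    rw [this, pow_succ, h1, one_mul]
  have h3 : N e = e := by
    rw [h2]; exact pow_fix hNN (t + 1)
  rw [hNe] at h3
  -- e⁻¹ = e ⇒ e^2 = 1 ⇒ e = 1
  have h4 : e ^ 2 = 1 := by
    rw [pow_two]
    nth_rewrite 1 [← h3]
    exact inv_mul_cancel e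
  have h5 : orderOf e ∣ Nat.gcd 2 p := Nat.dvd_gcd (orderOf_dvd_of_pow_eq_one h4) (orderOf_dvd_of_pow_eq_one (hV e))
  have h6 : Nat.gcd 2 p = 1 := by
    rw [Nat.coprime_primes Nat.prime_two hp.out |>.2 (Ne.symm hp2)]
  rw [h6, Nat.dvd_one, orderOf_eq_one_iff] at h5
  apply hxe
  rw [h5, map_one]

/-- **Lemma A**: two `p`-elements of `Aut V` (`V` elementary abelian) with "rank one" commutators generate
a `p`-group if the group they generate has odd order. -/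
theorem lemmaA (hp2 : p ≠ 2) (hV : ∀ v : V, v ^ p = 1) (x y : MulAut V) (e f : V)
    (hxp : ∃ k : ℕ, x ^ (p ^ k) = 1) (hyp : ∃ k : ℕ, y ^ (p ^ k) = 1)
    (hx : ∀ v, v⁻¹ * x v ∈ Subgroup.zpowers f) (hy : ∀ v, v⁻¹ * y v ∈ Subgroup.zpowers e)
    (hodd : ∀ d ∈ Subgroup.closure {x, y}, Odd (orderOf d)) :
    ∀ d ∈ Subgroup.closure {x, y}, d ^ (p * p) = 1 := by
  intro d hd
  by_cases hxe : x e = e
  · exact chainStab_pow hV (closure_le_chainStab hV x y e f hxp hyp hx hy hxe hd)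
  by_cases hyf : y f = f
  · rw [Set.pair_comm] at hd
    exact chainStab_pow hV (closure_le_chainStab hV y x f e hyp hxp hy hx hyf hd)
  exact (nondegenerate_false hp2 hV x y e f hxp hyp hx hy hodd hxe hyf).elim

end

end Part2

section Part3

open Cfsg.Agent.Lib.Helper7 Cfsg.Agent.Lib.Lead.QuotAut in
section
variable {Y : Type*} [Group Y] [Finite Y] {p : ℕ} [hp : Fact p.Prime]

/-- `Φ(O_p(Y))` as a subgroup of `Y` -/
abbrev Phi (p : ℕ) (Y : Type*) [Group Y] : Subgroup Y :=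
  (frattini ↥(pCore p Y)).map (pCore p Y).subtype

instance Phi_normal : (Phi p Y).Normal := ConjAct.normal_of_characteristic_of_normal

theorem Phi_subgroupOf : (Phi p Y).subgroupOf (pCore p Y) = frattini ↥(pCore p Y) :=
  Subgroup.comap_map_eq_self_of_injective (Subgroup.subtype_injective _) _

/-- `V = O_p(Y) / Φ(O_p(Y))` -/
abbrev VV (p : ℕ) (Y : Type*) [Group Y] : Type _ := ↥(pCore p Y) ⧸ (Phi p Y).subgroupOf (pCore p Y)

theorem VV_pow (v : VV p Y) : v ^ p = 1 := by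
  induction v using QuotientGroup.induction_on with
  | H u =>
    rw [← QuotientGroup.mk_pow, QuotientGroup.eq_one_iff, Phi_subgroupOf]
    exact Cfsg.Agent.H1.pow_p_mem_frattini (pCore_isPGroup p Y) u

theorem VV_comm (a b : VV p Y) : a * b = b * a := by
  have h : IsMulCommutative (VV p Y) := by
    apply (Subgroup.Normal.quotient_commutative_iff_commutator_le).2
    rw [Phi_subgroupOf]
    exact Cfsg.Agent.H1.commutator_le_frattini (pCore_isPGroup p Y)
  exact mul_comm' a b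

/-- the action of `Y` on `V` -/
noncomputable abbrev psi (p : ℕ) (Y : Type*) [Group Y] : Y →* MulAut (VV p Y) :=
  quotAut (pCore p Y) (Phi p Y)

/-- the kernel of `ψ` is a `p`-group (given `C_Y(O_p(Y)) ≤ O_p(Y)`) -/
theorem ker_psi_pElement
    (hC : Subgroup.centralizer ((pCore p Y : Subgroup Y) : Set Y) ≤ pCore p Y)
    {g : Y} (hg : psi p Y g = 1) : ∃ k : ℕ, g ^ (p ^ k) = 1 := by
  have hP : IsPGroup p ↥(pCore p Y) := pCore_isPGroup p Y
  obtain ⟨n, hn⟩ := IsPGroup.iff_card.mp hP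
  have hidx : (frattini ↥(pCore p Y)).index ∣ p ^ n := by
    rw [← hn]; exact Subgroup.index_dvd_card _
  obtain ⟨r, -, hr⟩ := (Nat.dvd_prime_pow hp.out).1 hidx
  have hcard := Cfsg.Agent.H2.AutFrat.card_dvd_of_trivial_on_frattini_quotient hn hr
    (trivOnFrattini ↥(pCore p Y)) (fun α hα => hα)
  have hPA : IsPGroup p ↥(trivOnFrattini ↥(pCore p Y)) := by
    obtain ⟨m, -, hm⟩ := (Nat.dvd_prime_pow hp.out).1 hcard
    exact IsPGroup.of_card hm
  -- conjugation by g is trivial on the Frattini quotient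
  have hmem : (MulAut.conjNormal g : MulAut ↥(pCore p Y)) ∈ trivOnFrattini ↥(pCore p Y) := by
    intro u
    have h1 : psi p Y g (u : VV p Y) = (u : VV p Y) := by rw [hg, MulAut.one_apply]
    rw [quotAut_mk, eq_comm, QuotientGroup.eq, Phi_subgroupOf] at h1
    have h2 := (inferInstance : (frattini ↥(pCore p Y)).Normal).conj_mem _ h1 u
    have e : u * (u⁻¹ * (MulAut.conjNormal g : MulAut ↥(pCore p Y)) u) * u⁻¹ =
        (MulAut.conjNormal g : MulAut ↥(pCore p Y)) u * u⁻¹ := by group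
    rwa [e] at h2
  obtain ⟨k, hk⟩ := hPA ⟨_, hmem⟩
  have hk' : (MulAut.conjNormal g : MulAut ↥(pCore p Y)) ^ (p ^ k) = 1 := by
    have := congrArg Subtype.val hk
    simpa using this
  rw [← map_pow] at hk'
  -- g^(p^k) centralizes O_p(Y)
  have hcent : g ^ (p ^ k) ∈ Subgroup.centralizer ((pCore p Y : Subgroup Y) : Set Y) := by
    rw [Subgroup.mem_centralizer_iff]
    intro u hu
    have h1 : (MulAut.conjNormal (g ^ (p ^ k)) : MulAut ↥(pCore p Y)) ⟨u, hu⟩ = ⟨u, hu⟩ := by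
      rw [hk', MulAut.one_apply]
    have h2 := congrArg Subtype.val h1
    rw [MulAut.conjNormal_apply] at h2
    -- h2 : g^.. * u * (g^..)⁻¹ = u
    have h3 : g ^ (p ^ k) * u = u * g ^ (p ^ k) := by
      rw [← mul_inv_eq_iff_eq_mul]; exact h2
    exact h3.symm
  obtain ⟨l, hl⟩ := hP ⟨_, hC hcent⟩
  refine ⟨k + l, ?_⟩
  have := congrArg Subtype.val hl
  rw [pow_add, pow_mul]
  simpa using this

end

end Part3

section Part4

open Cfsg.Agent.Lib.Helper7 Cfsg.Agent.Lib.Lead.QuotAut commutatorElement in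
section
variable {Y : Type*} [Group Y] [Finite Y] {p : ℕ} [hp : Fact p.Prime]

/-- the rank-one property of the action of `x ∈ T` on `V` -/
theorem key_rank_one (T : Subgroup Y) (hPT : pCore p Y ≤ T) (z₀ : Y) (hz₀ : z₀ ∈ pCore p Y)
    (hgen : ∀ c ∈ ⁅T, T⁆ ⊓ pCore p Y, ∃ k : ℤ, z₀ ^ k = c) (x : Y) (hx : x ∈ T) (v : VV p Y) :
    v⁻¹ * psi p Y x v ∈ Subgroup.zpowers (((⟨z₀, hz₀⟩ : ↥(pCore p Y)) : VV p Y)) := by
  induction v using QuotientGroup.induction_on with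
  | H u =>
    rw [quotAut_mk, ← QuotientGroup.mk_inv, ← QuotientGroup.mk_mul]
    have hc : ((u⁻¹ * (MulAut.conjNormal x : MulAut ↥(pCore p Y)) u : ↥(pCore p Y)) : Y) ∈
        ⁅T, T⁆ ⊓ pCore p Y := by
      refine ⟨?_, Subtype.property _⟩
      have e : ((u⁻¹ * (MulAut.conjNormal x : MulAut ↥(pCore p Y)) u : ↥(pCore p Y)) : Y) =
          ⁅(u : Y)⁻¹, x⁆ := by
        rw [Subgroup.coe_mul, MulAut.conjNormal_apply, commutatorElement_def, Subgroup.coe_inv, inv_inv]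
        group
      rw [e]
      exact Subgroup.commutator_mem_commutator (T.inv_mem (hPT u.2)) hx
    obtain ⟨k, hk⟩ := hgen _ hc
    refine Subgroup.mem_zpowers_iff.2 ⟨k, ?_⟩
    rw [← QuotientGroup.mk_zpow]
    congr 1
    exact Subtype.ext (by rw [Subgroup.coe_zpow]; exact hk)

end

end Part4

section Part5

open Cfsg.Agent.Lib.Helper7 Cfsg.Agent.Lib.Lead.QuotAut commutatorElement Pointwise in
section
variable {Y : Type*} [Group Y] [Finite Y] {p : ℕ} [hp : Fact p.Prime]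

theorem closure_pair_isPGroup (hodd : Odd (Nat.card Y)) (hp2 : p ≠ 2)
    (hC : Subgroup.centralizer ((pCore p Y : Subgroup Y) : Set Y) ≤ pCore p Y)
    (T : Subgroup Y) (hTp : IsPGroup p T) (hPT : pCore p Y ≤ T) (z₀ : Y) (hz₀ : z₀ ∈ pCore p Y)
    (hgen : ∀ c ∈ ⁅T, T⁆ ⊓ pCore p Y, ∃ k : ℤ, z₀ ^ k = c) (x : Y) (hx : x ∈ T) (g : Y) :
    IsPGroup p ↥(Subgroup.closure {x, g * x * g⁻¹}) := by
  let _ : CommGroup (VV p Y) := { (inferInstance : Group (VV p Y)) with mul_comm := VV_comm }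
  obtain ⟨k, hk⟩ := hTp ⟨x, hx⟩
  have hk' : x ^ (p ^ k) = 1 := by simpa using congrArg Subtype.val hk
  have key := key_rank_one T hPT z₀ hz₀ hgen x hx
  have hA := lemmaA hp2 VV_pow (psi p Y x) (psi p Y (g * x * g⁻¹))
    (psi p Y g ((⟨z₀, hz₀⟩ : ↥(pCore p Y)) : VV p Y)) ((⟨z₀, hz₀⟩ : ↥(pCore p Y)) : VV p Y)
    ⟨k, by rw [← map_pow, hk', map_one]⟩
    ⟨k, by rw [← map_pow, conj_pow, hk', mul_one, mul_inv_cancel, map_one]⟩ key ?_ ?_
  · rintro ⟨h, hh⟩
    have h1 : psi p Y h ∈ Subgroup.closure {psi p Y x, psi p Y (g * x * g⁻¹)} := by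
      have := Subgroup.mem_map_of_mem (psi p Y) hh
      rw [MonoidHom.map_closure, Set.image_pair] at this
      exact this
    have h2 := hA _ h1
    rw [← map_pow] at h2
    obtain ⟨l, hl⟩ := ker_psi_pElement hC h2
    refine ⟨2 + l, Subtype.ext ?_⟩
    rw [Subgroup.coe_pow, Subgroup.coe_one, pow_add, pow_mul, pow_two]
    exact hl
  · intro v
    have h1 := key ((psi p Y g)⁻¹ v)
    obtain ⟨j, hj⟩ := Subgroup.mem_zpowers_iff.1 h1
    refine Subgroup.mem_zpowers_iff.2 ⟨j, ?_⟩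
    rw [← map_zpow, hj, map_mul, map_inv, MulAut.apply_inv_self, map_mul, map_mul, map_inv,
      MulAut.mul_apply, MulAut.mul_apply]
  · intro d hd
    have hle : Subgroup.closure {psi p Y x, psi p Y (g * x * g⁻¹)} ≤ (psi p Y).range := by
      rw [Subgroup.closure_le]
      rintro a (rfl | rfl)
      · exact ⟨_, rfl⟩
      · exact ⟨_, rfl⟩
    obtain ⟨h, rfl⟩ := hle hd
    exact Odd.of_dvd_nat hodd ((orderOf_map_dvd _ h).trans (orderOf_dvd_natCard h))

/-- **Theorem B**: in a `p`-solvable group `Y` of odd order with `O_{p'}(Y) = 1`, a `p`-subgroup `T ≥ O_p(Y)` with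
cyclic derived subgroup lies in `O_p(Y)`. -/
theorem thmB (hodd : Odd (Nat.card Y)) (hsol : IsPSolvable p Y) (hbot : pPrimeCore p Y = ⊥)
    (T : Subgroup Y) (hTp : IsPGroup p T) (hPT : pCore p Y ≤ T) (hT : IsCyclic ↥⁅T, T⁆) :
    T ≤ pCore p Y := by
  by_cases hp2 : p = 2
  · intro x hx
    obtain ⟨k, hk⟩ := hTp ⟨x, hx⟩
    have hk' : x ^ (p ^ k) = 1 := by simpa using congrArg Subtype.val hk
    have h1 : orderOf x ∣ 2 ^ k := by rw [← hp2]; exact orderOf_dvd_of_pow_eq_one hk'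
    have h2 : orderOf x ∣ Nat.card Y := orderOf_dvd_natCard x
    have h3 : Nat.Coprime (2 ^ k) (Nat.card Y) := Nat.Coprime.pow_left k (Nat.coprime_two_left.2 hodd)
    have h4 : orderOf x = 1 := Nat.eq_one_of_dvd_coprimes h3 h1 h2
    rw [orderOf_eq_one_iff] at h4
    rw [h4]; exact one_mem _
  have hC := Cfsg.Agent.Lib.Lead.PSolvable.centralizer_pCore_le hsol hbot
  have hZ : IsCyclic ↥(⁅T, T⁆ ⊓ pCore p Y) := Subgroup.isCyclic_of_le inf_le_left
  obtain ⟨⟨z₀, hz₀⟩, hgen⟩ := hZ.exists_generator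
  have hgen' : ∀ c ∈ ⁅T, T⁆ ⊓ pCore p Y, ∃ k : ℤ, z₀ ^ k = c := by
    intro c hc
    obtain ⟨k, hk⟩ := Subgroup.mem_zpowers_iff.1 (hgen ⟨c, hc⟩)
    refine ⟨k, ?_⟩
    have := congrArg Subtype.val hk
    simpa using this
  intro x hx
  have hX : IsPGroup p ↥(Subgroup.zpowers x) := hTp.to_le (Subgroup.zpowers_le.2 hx)
  have hBS : ∀ g : Y, IsPGroup p ↥(Subgroup.zpowers x ⊔ MulAut.conj g • Subgroup.zpowers x) := by
    intro g
    apply (closure_pair_isPGroup hodd hp2 hC T hTp hPT z₀ hz₀.2 hgen' x hx g).to_le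
    rw [sup_le_iff]
    refine ⟨Subgroup.zpowers_le.2 (Subgroup.subset_closure (by simp)), ?_⟩
    intro y hy
    obtain ⟨s, hs, rfl⟩ := Subgroup.mem_smul_pointwise_iff_exists _ _ _ |>.1 hy
    obtain ⟨k, rfl⟩ := Subgroup.mem_zpowers_iff.1 hs
    rw [MulAut.smul_def, MulAut.conj_apply, ← conj_zpow]
    exact zpow_mem (Subgroup.subset_closure (by simp)) k
  obtain ⟨N, hN, hNp, hXN⟩ := Cfsg.Agent.H1.baer_suzuki (Subgroup.zpowers x) hX hBS
  exact le_pCore hN hNp (hXN (Subgroup.mem_zpowers x))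

end

end Part5

section Part6

open Cfsg.Agent.Lib.Helper7 in
theorem result {X : Type*} [Group X] [Finite X] [Group.IsSolvable X]
    (hX : Odd (Nat.card X)) (p : ℕ) [Fact p.Prime] (S : Sylow p X) (hS : IsCyclic (commutator (S : Subgroup X))) :
    (Cfsg.pPrimeCore p X ⊔ (S : Subgroup X)).Normal := by
  have hsolY : IsPSolvable p (X ⧸ pPrimeCore p X) :=
    Cfsg.Agent.Lib.Helper4.SolvPSolv.isPSolvable_of_isSolvable p (X ⧸ pPrimeCore p X)
  have hbot : pPrimeCore p (X ⧸ pPrimeCore p X) = ⊥ :=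
    Cfsg.Agent.Lib.Lead.PiCore.pPrimeCore_quotient_eq_bot (Fact.out)
  have hoddY : Odd (Nat.card (X ⧸ pPrimeCore p X)) :=
    Odd.of_dvd_nat hX (Subgroup.card_quotient_dvd_card _)
  have hsurj := QuotientGroup.mk'_surjective (pPrimeCore p X)
  have hTcoe : ((S.mapSurjective hsurj : Sylow p (X ⧸ pPrimeCore p X)) : Subgroup (X ⧸ pPrimeCore p X)) =
      (S : Subgroup X).map (QuotientGroup.mk' (pPrimeCore p X)) := Sylow.coe_mapSurjective _ _
  have hTcyc : IsCyclic ↥⁅((S.mapSurjective hsurj : Sylow p (X ⧸ pPrimeCore p X)) : Subgroup (X ⧸ pPrimeCore p X)),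
      ((S.mapSurjective hsurj : Sylow p (X ⧸ pPrimeCore p X)) : Subgroup (X ⧸ pPrimeCore p X))⁆ := by
    rw [hTcoe, ← Subgroup.map_commutator, ← Subgroup.map_subtype_commutator, Subgroup.map_map]
    exact isCyclic_of_surjective
      ((((QuotientGroup.mk' (pPrimeCore p X)).comp (S : Subgroup X).subtype)).subgroupMap (commutator ↥(S : Subgroup X)))
      (MonoidHom.subgroupMap_surjective _ _)
  have hle := thmB hoddY hsolY hbot _ (S.mapSurjective hsurj).isPGroup' (pCore_le_sylow _) hTcyc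
  have heq : ((S.mapSurjective hsurj : Sylow p (X ⧸ pPrimeCore p X)) : Subgroup (X ⧸ pPrimeCore p X)) =
      pCore p (X ⧸ pPrimeCore p X) := le_antisymm hle (pCore_le_sylow _)
  have hTn : ((S.mapSurjective hsurj : Sylow p (X ⧸ pPrimeCore p X)) : Subgroup (X ⧸ pPrimeCore p X)).Normal := by
    rw [heq]; infer_instance
  have e : pPrimeCore p X ⊔ (S : Subgroup X) =
      ((S.mapSurjective hsurj : Sylow p (X ⧸ pPrimeCore p X)) : Subgroup (X ⧸ pPrimeCore p X)).comap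
        (QuotientGroup.mk' (pPrimeCore p X)) := by
    rw [hTcoe, Subgroup.comap_map_eq, QuotientGroup.ker_mk', sup_comm]
  rw [e]
  exact hTn.comap _

end Part6

end Cfsg.Agent.S0521
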