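import Cfsg.Statements.S0522
import Mathlib
import Cfsg.Agent.Lib.Helper4.TTransC
import Cfsg.Agent.Lib.Helper4.BGTransG

set_option autoImplicit false
open Cfsg
open scoped commutatorElement

namespace Cfsg.Agent.S0522

open Cfsg.Agent.Lib.Helper4.BGTrans Cfsg.Agent.Lib.Helper4.TTrans Cfsg.Agent.Lib.Lead.PiCore

/-- Transitivity Theorem (odd-order setting). Let X be a finite group of odd order in which the normalizer of every
nontrivial p-subgroup is solvable, P a Sylow p-subgroup, and B an abelian subgroup of P, normalized by P, with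
C_P(B) = B and containing an elementary abelian subgroup of order p^3. Then for every prime q ≠ p, any two q-subgroups
that are maximal among the q-subgroups normalized by B are conjugate by an element of the centralizer of B. -/
theorem result {X : Type*} [Group X] [Finite X] (hX : Odd (Nat.card X)) (p : ℕ)
    [Fact p.Prime] (hloc : ∀ T : Subgroup X, IsPGroup p T → T ≠ ⊥ → Group.IsSolvable (Subgroup.normalizer (T : Set X)))
    (P : Sylow p X) (B : Subgroup X) (hBP : B ≤ (P : Subgroup X))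
    (hBn : ∀ x ∈ (P : Subgroup X), ∀ b ∈ B, x * b * x⁻¹ ∈ B) (hBa : IsMulCommutative B)
    (hBc : (P : Subgroup X) ⊓ Subgroup.centralizer (B : Set X) = B)
    (hB3 : ∃ E : Subgroup X, E ≤ B ∧ (∀ e ∈ E, e ^ p = 1) ∧ p ^ 3 ≤ Nat.card E)
    (q : ℕ) [Fact q.Prime] (hqp : q ≠ p) (Q₁ Q₂ : Subgroup X)
    (h₁ : IsPGroup q Q₁ ∧ B ≤ Subgroup.normalizer (Q₁ : Set X) ∧
      ∀ R : Subgroup X, IsPGroup q R → B ≤ Subgroup.normalizer (R : Set X) → Q₁ ≤ R → R = Q₁)
    (h₂ : IsPGroup q Q₂ ∧ B ≤ Subgroup.normalizer (Q₂ : Set X) ∧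
      ∀ R : Subgroup X, IsPGroup q R → B ≤ Subgroup.normalizer (R : Set X) → Q₂ ≤ R → R = Q₂) :
    ∃ c ∈ Subgroup.centralizer (B : Set X), Q₂ = Q₁.map (MulAut.conj c).toMonoidHom := by
  have hpp : p.Prime := Fact.out
  have hqq : q.Prime := Fact.out
  obtain ⟨E, hEB, hEe, hEcard⟩ := hB3
  have hBp : IsPGroup p ↥B := P.isPGroup'.to_le hBP
  -- `p` is odd
  have hp2 : p ≠ 2 := by
    rintro rfl
    have hEp : IsPGroup 2 ↥E := hBp.to_le hEB
    obtain ⟨m, hm⟩ := IsPGroup.iff_card.mp hEp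
    have hm0 : m ≠ 0 := by
      rintro rfl
      rw [hm, pow_zero] at hEcard
      norm_num at hEcard
    have h2 : 2 ∣ Nat.card X :=
      ((dvd_pow_self 2 hm0).trans (hm ▸ dvd_rfl)).trans (Subgroup.card_subgroup_dvd_card E)
    exact (Nat.not_even_iff_odd.mpr hX) (even_iff_two_dvd.mpr h2)
  have hscn : Cfsg.IsSCN (P : Subgroup X) B := by
    refine ⟨hBP, ?_, hBc⟩
    intro x hx
    apply Cfsg.Agent.Lib.Lead.Conj.mem_normalizer_of_conj_mem
    intro b hb
    exact hBn x hx b hb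
  have hloc' : ∀ T : Subgroup X, IsPGroup p T → T ≠ ⊥ →
      Cfsg.IsPConstrained p ↥(Subgroup.normalizer (T : Set X)) := by
    intro T hT hT1
    haveI := hloc T hT hT1
    exact Cfsg.Agent.Lib.Lead.PSolvable.IsPSolvable.isPConstrained
      (Cfsg.Agent.Lib.Helper4.SolvPSolv.isPSolvable_of_isSolvable p _)
  have hE3 : ¬ Cfsg.PRankLE p 2 ↥B := by
    intro h
    have h1 := h (E.subgroupOf B) ?_ ?_
    · rw [Nat.card_congr (Subgroup.subgroupOfEquivOfLe hEB).toEquiv] at h1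
      have : p ^ 2 < p ^ 3 := Nat.pow_lt_pow_right hpp.one_lt (by norm_num)
      omega
    · refine ⟨⟨fun x y => ?_⟩⟩
      have := hBa.is_comm.comm (x : ↥B) (y : ↥B)
      exact Subtype.ext this
    · intro a ha
      apply Subtype.ext
      have := hEe (a : X) (Subgroup.mem_subgroupOf.mp ha)
      simpa using this
  have hfull : ∀ x ∈ Subgroup.centralizer (B : Set X), IsPGroup p ↥(Subgroup.zpowers x) → x ∈ B :=
    fun x hx hxp => mem_of_scn' P hscn hBa hx hxp
  have hmem : ∀ Q : Subgroup X, (IsPGroup q Q ∧ B ≤ Subgroup.normalizer (Q : Set X) ∧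
      ∀ R : Subgroup X, IsPGroup q R → B ≤ Subgroup.normalizer (R : Set X) → Q ≤ R → R = Q) →
      Q ∈ Cfsg.maxInvSubgroups ⊤ B {q} := by
    rintro Q ⟨hQq, hBQ, hmax⟩
    refine ⟨mem_invSubgroups_top.mpr ⟨isPiNat_of_isPGroup hQq, hBQ⟩, fun R hR hQR => ?_⟩
    have hR' := mem_invSubgroups_top.mp hR
    exact hmax R (isPGroup_of_isPiNat hqq hR'.1) hR'.2 hQR
  obtain ⟨k, hk, hkQ⟩ := thompson_transitivity hqp hloc' (fun h => absurd h hp2) hBp hBa hE3 hfull
    (hmem Q₁ h₁) (hmem Q₂ h₂)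
  exact ⟨k, piCoreOf_le _ _ hk, hkQ⟩

end Cfsg.Agent.S0522
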