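import Cfsg.Statements.S0527
import Mathlib
import Cfsg.Prelude.Def_SolvableStructure
import Cfsg.Agent.H1.Basic
import Cfsg.Agent.H1.Supersolvable
import Cfsg.Agent.H1.Hall
import Cfsg.Agent.H1.SupersolvableCLT

set_option autoImplicit false
open Cfsg

namespace Cfsg.Agent.S0527

open Cfsg.Agent.H1
open scoped Pointwise commutatorElement

/-- In a finite supersolvable group the index of any maximal subgroup is a prime number. -/
theorem result {G : Type*} [Group G] [Finite G] (hG : Cfsg.IsSupersolvable G) (M : Subgroup G) (hM : IsCoatom M) : M.index.Prime := by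
  exact prime_index_of_reach _ G rfl (isSupersolvable_iff_reach.mp hG) M hM

end Cfsg.Agent.S0527
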