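import Cfsg.Statements.S0530
import Mathlib
import Cfsg.Prelude.Def_SolvableStructure
import Cfsg.Agent.H1.Basic
import Cfsg.Agent.H1.Supersolvable
import Cfsg.Agent.H1.SupersolvableCLT
import Cfsg.Agent.H1.SylowMore
import Cfsg.Agent.H1.SupersolvableTwoP

set_option autoImplicit false
open Cfsg

namespace Cfsg.Agent.S0530

open Cfsg.Agent.H1
open scoped Pointwise commutatorElement

/-- A finite group whose order is twice a prime power is supersolvable. -/
theorem result {G : Type*} [Group G] [Finite G] (p n : ℕ) (hp : p.Prime) (hG : Nat.card G = 2 * p ^ n) : Cfsg.IsSupersolvable G := by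
  rw [isSupersolvable_iff_reach]
  exact ssreach_two_mul_pow_aux p hp n G hG

end Cfsg.Agent.S0530
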