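import Cfsg.Statements.S0531
import Mathlib
import Cfsg.Prelude.Def_SolvableStructure
import Cfsg.Agent.H1.Basic
import Cfsg.Agent.H1.Supersolvable
import Cfsg.Agent.H1.Hall
import Cfsg.Agent.H1.SupersolvableCLT

set_option autoImplicit false
open Cfsg

namespace Cfsg.Agent.S0531

open Cfsg.Agent.H1
open scoped Pointwise commutatorElement

/-- A finite supersolvable group has a subgroup of each order dividing its order. -/
theorem result {G : Type*} [Group G] [Finite G] (hG : Cfsg.IsSupersolvable G) : Cfsg.HasSubgroupOfEveryOrder G := by
  intro d hd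
  exact clt_of_reach _ G rfl (isSupersolvable_iff_reach.mp hG) d hd

end Cfsg.Agent.S0531
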