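import Cfsg.Statements.S0532
import Mathlib
import Cfsg.Prelude.Def_SolvableStructure
import Cfsg.Agent.H1.Basic
import Cfsg.Agent.H1.CLT

set_option autoImplicit false
open Cfsg

namespace Cfsg.Agent.S0532

open Cfsg.Agent.H1
open scoped Pointwise commutatorElement

/-- If each subgroup of a finite group satisfies the converse of Lagrange's theorem, then a Sylow subgroup for the largest prime dividing the group order is normal. -/
theorem result {G : Type*} [Group G] [Finite G] (h : ∀ H : Subgroup G, Cfsg.HasSubgroupOfEveryOrder H) (p : ℕ) [Fact p.Prime] (hdvd : p ∣ Nat.card G) (hmax : ∀ q : ℕ, q.Prime → q ∣ Nat.card G → q ≤ p) (P : Sylow p G) : (P : Subgroup G).Normal := by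
  obtain ⟨P₀, hP₀n, hP₀c⟩ := clt_sylow_aux _ G rfl h p Fact.out hdvd hmax
  have hS₀ : (Sylow.ofCard P₀ hP₀c : Sylow p G).Normal := hP₀n
  obtain ⟨g, hg⟩ := MulAction.exists_smul_eq G (Sylow.ofCard P₀ hP₀c : Sylow p G) P
  rw [Sylow.smul_eq_of_normal] at hg
  rw [← hg]
  exact hP₀n

end Cfsg.Agent.S0532
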