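import Cfsg.Statements.S0533
import Cfsg.Agent.H1.Supersolvable
import Cfsg.Agent.H1.SupersolvableCLT
import Cfsg.Agent.H1.SZ
import Cfsg.Agent.Lib.Lead.PGroup
import Cfsg.Agent.Lib.Lead.Conj

set_option autoImplicit false
open Cfsg

namespace Cfsg.Agent.S0533

universe u

open Cfsg.Agent.H1

/-- all subgroups satisfy the converse of Lagrange (inside the big group) -/
def CLTAll (G : Type u) [Group G] : Prop :=
  ∀ H : Subgroup G, ∀ d : ℕ, d ∣ Nat.card H → ∃ D : Subgroup G, D ≤ H ∧ Nat.card D = d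

theorem cltAll_of_hyp {G : Type u} [Group G]
    (h : ∀ H : Subgroup G, Cfsg.HasSubgroupOfEveryOrder H) : CLTAll G := by
  intro H d hd
  obtain ⟨D, hD⟩ := h H d hd
  exact ⟨D.map H.subtype, Subgroup.map_subtype_le D,
    by rw [Subgroup.card_map_of_injective H.subtype_injective, hD]⟩

theorem CLTAll.subgroup {G : Type u} [Group G] (h : CLTAll G) (H : Subgroup G) : CLTAll ↥H := by
  intro H' d hd
  have hc : Nat.card (H'.map H.subtype) = Nat.card H' :=
    Subgroup.card_map_of_injective H.subtype_injective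
  obtain ⟨D, hDle, hD⟩ := h (H'.map H.subtype) d (by rw [hc]; exact hd)
  refine ⟨D.subgroupOf H, ?_, ?_⟩
  · intro x hx
    obtain ⟨y, hy, hyx⟩ := hDle (Subgroup.mem_subgroupOf.1 hx)
    have : y = x := Subtype.ext hyx
    rwa [← this]
  · rw [card_subgroupOf_of_le (hDle.trans (Subgroup.map_subtype_le H'))]
    exact hD

theorem inf_normal' {G : Type u} [Group G] {K : Subgroup G} (hK : SSReach K) (E : Subgroup G)
    [hE : E.Normal] : SSReach (K ⊓ E) := by
  induction hK with
  | bot => rw [bot_inf_eq]; exact SSReach.bot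
  | step K g _ hKn hKgn ih =>
    haveI := hKn
    haveI := hKgn
    have hle : ((K ⊔ Subgroup.zpowers g) ⊓ E).map (QuotientGroup.mk' K) ≤
        Subgroup.zpowers (QuotientGroup.mk' K g) := by
      rintro _ ⟨x, hx, rfl⟩
      have hx' : x ∈ K ⊔ Subgroup.zpowers g := (Subgroup.mem_inf.1 hx).1
      obtain ⟨k, hk, z, hz, hkz⟩ := Subgroup.mem_sup_of_normal_left.mp hx'
      obtain ⟨j, rfl⟩ := Subgroup.mem_zpowers_iff.mp hz
      have hk1 : QuotientGroup.mk' K k = 1 := (QuotientGroup.eq_one_iff k).mpr hk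
      rw [← hkz, map_mul, map_zpow, hk1, one_mul]
      exact Subgroup.zpow_mem_zpowers _ j
    obtain ⟨n, hn⟩ := (Subgroup.le_zpowers_iff _ _).mp hle
    have hmem : (QuotientGroup.mk' K g) ^ n ∈
        ((K ⊔ Subgroup.zpowers g) ⊓ E).map (QuotientGroup.mk' K) := by
      rw [hn]; exact Subgroup.mem_zpowers _
    obtain ⟨h, hh, hhq⟩ := hmem
    have e : (K ⊔ Subgroup.zpowers g) ⊓ E = (K ⊓ E) ⊔ Subgroup.zpowers h := by
      apply le_antisymm
      · intro x hx
        have h1 : QuotientGroup.mk' K x ∈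
            ((K ⊔ Subgroup.zpowers g) ⊓ E).map (QuotientGroup.mk' K) :=
          Subgroup.mem_map_of_mem _ hx
        rw [hn, ← hhq] at h1
        obtain ⟨j, hj⟩ := Subgroup.mem_zpowers_iff.mp h1
        have h2 : x * (h ^ j)⁻¹ ∈ K ⊓ E := by
          refine Subgroup.mem_inf.2 ⟨?_, ?_⟩
          · have h3 : QuotientGroup.mk' K (x * (h ^ j)⁻¹) = 1 := by
              rw [map_mul, map_inv, map_zpow, hj, mul_inv_cancel]
            exact (QuotientGroup.eq_one_iff _).mp h3
          · exact E.mul_mem (Subgroup.mem_inf.1 hx).2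
              (E.inv_mem (E.zpow_mem (Subgroup.mem_inf.1 hh).2 j))
        have e : x = (x * (h ^ j)⁻¹) * h ^ j := by group
        rw [e]
        exact mul_mem (Subgroup.mem_sup_left h2)
          (Subgroup.mem_sup_right (Subgroup.zpow_mem_zpowers h j))
      · apply sup_le
        · exact inf_le_inf_right E le_sup_left
        · rw [Subgroup.zpowers_le]; exact hh
    rw [e]
    refine SSReach.step _ _ ih inferInstance ?_
    rw [← e]; infer_instance

theorem dprime : ∀ n : ℕ, ∀ (G : Type u) [Group G] [Finite G], Nat.card G = n →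
    ∀ (p : ℕ) [Fact p.Prime] (P L : Subgroup G), P.Normal → IsPGroup p P →
      SSReach (⊤ : Subgroup L) → L ⊔ P = ⊤ →
      P ≤ Subgroup.normalizer ((L ⊓ P : Subgroup G) : Set G) →
      (∃ g : G, P ≤ (L ⊓ P) ⊔ Subgroup.zpowers g) →
      SSReach (⊤ : Subgroup G) := by
  intro n
  induction n using Nat.strong_induction_on with
  | _ n ih =>
  intro G _ _ hn p _ P L hPn hPp hL hLP hi hii
  haveI := hPn
  have hp := (Fact.out : p.Prime)
  have hQ : SSReach (⊤ : Subgroup (G ⧸ P)) := by
    have hsurj : Function.Surjective ((QuotientGroup.mk' P).comp L.subtype) := by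
      intro y
      obtain ⟨x, rfl⟩ := QuotientGroup.mk'_surjective P y
      have hx : x ∈ L ⊔ P := by rw [hLP]; exact Subgroup.mem_top x
      obtain ⟨l, hl, u, hu, rfl⟩ := Subgroup.mem_sup_of_normal_right.mp hx
      refine ⟨⟨l, hl⟩, ?_⟩
      have hu1 : QuotientGroup.mk' P u = 1 := (QuotientGroup.eq_one_iff u).mpr hu
      rw [MonoidHom.comp_apply, Subgroup.coe_subtype, map_mul, hu1, mul_one]
    have := hL.map _ hsurj
    rwa [Subgroup.map_top_of_surjective _ hsurj] at this
  by_cases hP0 : L ⊓ P = ⊥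
  · obtain ⟨g, hg⟩ := hii
    rw [hP0, bot_sup_eq] at hg
    obtain ⟨k, hk⟩ := (Subgroup.le_zpowers_iff _ _).mp hg
    have hPr : SSReach P := by
      have e : P = ⊥ ⊔ Subgroup.zpowers (g ^ k) := by rw [bot_sup_eq, hk]
      have hn2 : (⊥ ⊔ Subgroup.zpowers (g ^ k)).Normal := e ▸ hPn
      rw [e]
      exact SSReach.step ⊥ (g ^ k) SSReach.bot inferInstance hn2
    have := SSReach.comap_mk P hPr hQ
    rwa [Subgroup.comap_top] at this
  · have hP₀P : L ⊓ P ≤ P := inf_le_right
    have hP₀L : L ⊓ P ≤ L := inf_le_left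
    haveI hnP : ((L ⊓ P).subgroupOf P).Normal := by
      constructor
      intro x hx u
      rw [Subgroup.mem_subgroupOf] at hx ⊢
      have := (Subgroup.mem_normalizer_iff.1 (hi u.2) (x : G)).1 hx
      simpa using this
    have hne : (L ⊓ P).subgroupOf P ≠ ⊥ := by
      intro h
      apply hP0
      rw [eq_bot_iff]
      intro x hx
      have h2 : (⟨x, hP₀P hx⟩ : P) ∈ (L ⊓ P).subgroupOf P := Subgroup.mem_subgroupOf.2 hx
      rw [h, Subgroup.mem_bot] at h2
      rw [Subgroup.mem_bot]
      exact congrArg Subtype.val h2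
    obtain ⟨z, hzP₀, hzc, hz1⟩ :=
      Cfsg.Agent.Lib.Lead.PGroup.exists_mem_center_of_normal hPp ((L ⊓ P).subgroupOf P) hne
    have hN₁n : (P ⊓ Subgroup.centralizer (P : Set G)).Normal := inferInstance
    have hzN₁ : (z : G) ∈ P ⊓ Subgroup.centralizer (P : Set G) := by
      refine Subgroup.mem_inf.2 ⟨z.2, ?_⟩
      rw [Subgroup.mem_centralizer_iff]
      intro u hu
      have := (Subgroup.mem_center_iff.1 hzc) ⟨u, hu⟩
      exact congrArg Subtype.val this
    have hzL : (z : G) ∈ L := hP₀L (Subgroup.mem_subgroupOf.1 hzP₀)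
    have hEne : (P ⊓ Subgroup.centralizer (P : Set G)).subgroupOf L ≠ ⊥ := by
      intro h
      have h2 : (⟨(z : G), hzL⟩ : L) ∈ (P ⊓ Subgroup.centralizer (P : Set G)).subgroupOf L :=
        Subgroup.mem_subgroupOf.2 hzN₁
      rw [h, Subgroup.mem_bot] at h2
      apply hz1
      apply Subtype.ext
      have h3 : ((⟨(z : G), hzL⟩ : L) : G) = ((1 : L) : G) := congrArg (Subtype.val : ↥L → G) h2
      exact h3
    have hEr : SSReach ((P ⊓ Subgroup.centralizer (P : Set G)).subgroupOf L) := by
      have := inf_normal' hL ((P ⊓ Subgroup.centralizer (P : Set G)).subgroupOf L)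
      rwa [top_inf_eq] at this
    rcases exists_normal_prime_of_reach hEr with h | ⟨N, hNn, hNp, hNE⟩
    · exact absurd h hEne
    have hZcard : Nat.card (N.map L.subtype) = Nat.card N :=
      Subgroup.card_map_of_injective L.subtype_injective
    have hZN₁ : N.map L.subtype ≤ P ⊓ Subgroup.centralizer (P : Set G) := by
      rintro _ ⟨y, hy, rfl⟩
      exact Subgroup.mem_subgroupOf.1 (hNE hy)
    have hZL : N.map L.subtype ≤ L := Subgroup.map_subtype_le N
    have hZP : N.map L.subtype ≤ P := hZN₁.trans inf_le_left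
    haveI hZn : (N.map L.subtype).Normal := by
      rw [← Subgroup.normalizer_eq_top_iff, eq_top_iff, ← hLP]
      apply sup_le
      · intro l hl
        apply Cfsg.Agent.Lib.Lead.Conj.mem_normalizer_of_conj_mem
        rintro _ ⟨y, hy, rfl⟩
        exact ⟨⟨l, hl⟩ * y * ⟨l, hl⟩⁻¹, hNn.conj_mem y hy ⟨l, hl⟩, rfl⟩
      · intro u hu
        apply Cfsg.Agent.Lib.Lead.Conj.mem_normalizer_of_conj_mem
        intro r hr
        have hc := (Subgroup.mem_centralizer_iff.1 (Subgroup.mem_inf.1 (hZN₁ hr)).2) u hu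
        have h2 : u * r * u⁻¹ = r := by rw [hc]; group
        rw [h2]; exact hr
    haveI : Fact (Nat.card (N.map L.subtype)).Prime := ⟨by rw [hZcard]; exact hNp⟩
    haveI : IsCyclic (N.map L.subtype) := isCyclic_of_prime_card rfl
    have hcardG : Nat.card G = Nat.card (G ⧸ N.map L.subtype) * Nat.card (N.map L.subtype) :=
      Subgroup.card_eq_card_quotient_mul_card_subgroup _
    have hlt : Nat.card (G ⧸ N.map L.subtype) < n := by
      rw [← hn, hcardG]
      have h2 : 2 ≤ Nat.card (N.map L.subtype) :=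
        (Fact.out : (Nat.card (N.map L.subtype)).Prime).two_le
      have := Nat.card_pos (α := G ⧸ N.map L.subtype)
      nlinarith
    have hfsurj : Function.Surjective (QuotientGroup.mk' (N.map L.subtype)) :=
      QuotientGroup.mk'_surjective _
    have hinf : L.map (QuotientGroup.mk' (N.map L.subtype)) ⊓ P.map (QuotientGroup.mk' (N.map L.subtype))
        = (L ⊓ P).map (QuotientGroup.mk' (N.map L.subtype)) := by
      apply le_antisymm
      · intro y hy
        obtain ⟨⟨l, hl, hly⟩, ⟨u, hu, huy⟩⟩ := Subgroup.mem_inf.1 hy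
        have h1 : QuotientGroup.mk' (N.map L.subtype) (l⁻¹ * u) = 1 := by
          rw [map_mul, map_inv, hly, huy, inv_mul_cancel]
        have h2 : l⁻¹ * u ∈ N.map L.subtype := (QuotientGroup.eq_one_iff _).mp h1
        have h3 : u ∈ L := by
          have := L.mul_mem hl (hZL h2)
          rwa [mul_inv_cancel_left] at this
        exact ⟨u, Subgroup.mem_inf.2 ⟨h3, hu⟩, huy⟩
      · exact le_inf (Subgroup.map_mono hP₀L) (Subgroup.map_mono hP₀P)
    have hQ' : SSReach (⊤ : Subgroup (G ⧸ N.map L.subtype)) := by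
      refine ih _ hlt (G ⧸ N.map L.subtype) rfl p (P.map (QuotientGroup.mk' (N.map L.subtype)))
        (L.map (QuotientGroup.mk' (N.map L.subtype))) (hPn.map _ hfsurj) (hPp.map _) ?_ ?_ ?_ ?_
      · have hs : Function.Surjective ((QuotientGroup.mk' (N.map L.subtype)).subgroupMap L) :=
          (QuotientGroup.mk' (N.map L.subtype)).subgroupMap_surjective L
        have := hL.map _ hs
        rwa [Subgroup.map_top_of_surjective _ hs] at this
      · rw [← Subgroup.map_sup, hLP, Subgroup.map_top_of_surjective _ hfsurj]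
      · rw [hinf]
        rintro _ ⟨u, hu, rfl⟩
        apply Cfsg.Agent.Lib.Lead.Conj.mem_normalizer_of_conj_mem
        rintro _ ⟨x, hx, rfl⟩
        refine ⟨u * x * u⁻¹, (Subgroup.mem_normalizer_iff.1 (hi hu) x).1 hx, ?_⟩
        simp only [map_mul, map_inv]
      · obtain ⟨g, hg⟩ := hii
        refine ⟨QuotientGroup.mk' (N.map L.subtype) g, ?_⟩
        rw [hinf, ← MonoidHom.map_zpowers, ← Subgroup.map_sup]
        exact Subgroup.map_mono hg
    have := SSReach.comap_mk (N.map L.subtype) (ssreach_of_isCyclic_normal (N.map L.subtype)) hQ'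
    rwa [Subgroup.comap_top] at this

theorem normal_sylow_of_clt : ∀ n : ℕ, ∀ (G : Type u) [Group G] [Finite G], Nat.card G = n →
    CLTAll G → ∀ (p : ℕ) [Fact p.Prime], (∀ q : ℕ, q.Prime → q ∣ Nat.card G → q ≤ p) →
    ∀ P : Sylow p G, (P : Subgroup G).Normal := by
  intro n
  induction n using Nat.strong_induction_on with
  | _ n ih =>
  intro G _ _ hn hC p _ hmax P
  have hp := (Fact.out : p.Prime)
  by_cases h1 : Nat.card G = 1
  · have hP1 : Nat.card (P : Subgroup G) = 1 := by
      have := Subgroup.card_subgroup_dvd_card (P : Subgroup G)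
      rw [h1] at this
      exact Nat.dvd_one.1 this
    rw [Subgroup.eq_bot_of_card_eq _ hP1]
    infer_instance
  obtain ⟨q, hq⟩ : ∃ q, q = (Nat.card G).minFac := ⟨_, rfl⟩
  have hqp : q.Prime := hq ▸ Nat.minFac_prime h1
  have hqd : q ∣ Nat.card G := hq ▸ Nat.minFac_dvd _
  by_cases hqeq : q = p
  · have hpow : Nat.card G = p ^ (Nat.card G).primeFactorsList.length := by
      apply Nat.eq_prime_pow_of_unique_prime_dvd (Nat.card_pos).ne'
      intro d hd hdd
      apply le_antisymm (hmax d hd hdd)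
      rw [← hqeq, hq]
      exact Nat.minFac_le_of_dvd hd.two_le hdd
    have hG : IsPGroup p G := IsPGroup.of_card hpow
    have h2 : (⊤ : Subgroup G) = P := P.is_maximal' (hG.to_subgroup ⊤) le_top
    rw [← h2]; infer_instance
  · obtain ⟨N, -, hN⟩ := hC ⊤ (Nat.card G / q)
      (by rw [Subgroup.card_top]; exact Nat.div_dvd_of_dvd hqd)
    have hNidx : N.index = q := by
      have h2 := N.card_mul_index
      rw [hN] at h2
      have h3 : Nat.card G / q * q = Nat.card G := Nat.div_mul_cancel hqd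
      have hpos : 0 < Nat.card G / q :=
        Nat.div_pos (Nat.le_of_dvd Nat.card_pos hqd) hqp.pos
      exact Nat.eq_of_mul_eq_mul_left hpos (h2.trans h3.symm)
    haveI hNn : N.Normal := Subgroup.normal_of_index_eq_minFac_card (hNidx.trans hq)
    have hPN : (P : Subgroup G) ≤ N := by
      have hP' : IsPGroup p ((P : Subgroup G).map (QuotientGroup.mk' N)) := P.isPGroup'.map _
      obtain ⟨k, hk⟩ := IsPGroup.iff_card.1 hP'
      have hdvd : Nat.card ((P : Subgroup G).map (QuotientGroup.mk' N)) ∣ q := by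
        have h2 := Subgroup.card_subgroup_dvd_card ((P : Subgroup G).map (QuotientGroup.mk' N))
        rwa [← Subgroup.index_eq_card, hNidx] at h2
      have hk0 : k = 0 := by
        by_contra hk0
        have h2 : p ∣ q := (dvd_pow_self p hk0).trans (hk ▸ hdvd)
        exact hqeq ((Nat.prime_dvd_prime_iff_eq hp hqp).1 h2).symm
      rw [hk0, pow_zero] at hk
      have hbot := Subgroup.eq_bot_of_card_eq _ hk
      rw [Subgroup.map_eq_bot_iff, QuotientGroup.ker_mk'] at hbot
      exact hbot
    have hlt : Nat.card N < n := by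
      rw [← hn, hN]; exact Nat.div_lt_self Nat.card_pos hqp.one_lt
    have hmaxN : ∀ q' : ℕ, q'.Prime → q' ∣ Nat.card N → q' ≤ p :=
      fun q' h1 h2 => hmax q' h1 (h2.trans (Subgroup.card_subgroup_dvd_card N))
    have hnorm := ih (Nat.card N) hlt ↥N rfl (hC.subgroup N) p hmaxN (P.subtype hPN)
    have hchar := Sylow.characteristic_of_normal (P.subtype hPN) hnorm
    rw [Sylow.coe_subtype] at hchar
    haveI := hchar
    have h3 := ConjAct.normal_of_characteristic_of_normal (H := N)
      (K := (P : Subgroup G).subgroupOf N)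
    rwa [Subgroup.map_subgroupOf_eq_of_le hPN] at h3

theorem main : ∀ n : ℕ, ∀ (G : Type u) [Group G] [Finite G], Nat.card G = n →
    CLTAll G → SSReach (⊤ : Subgroup G) := by
  intro n
  induction n using Nat.strong_induction_on with
  | _ n ih =>
  intro G _ _ hn hC
  by_cases h1 : Nat.card G = 1
  · have h2 : (⊤ : Subgroup G) = ⊥ :=
      Subgroup.eq_bot_of_card_eq ⊤ (by rw [Subgroup.card_top]; exact h1)
    rw [h2]; exact SSReach.bot
  have hGpos : 0 < Nat.card G := Nat.card_pos
  obtain ⟨p, hpmem, hpmax⟩ := Finset.exists_max_image (Nat.card G).primeFactors id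
    (Nat.nonempty_primeFactors.2 (by omega : 1 < Nat.card G))
  have hp : p.Prime := Nat.prime_of_mem_primeFactors hpmem
  have hpd : p ∣ Nat.card G := Nat.dvd_of_mem_primeFactors hpmem
  haveI : Fact p.Prime := ⟨hp⟩
  have hmax : ∀ q : ℕ, q.Prime → q ∣ Nat.card G → q ≤ p :=
    fun q hq hqd => hpmax q (Nat.mem_primeFactors.2 ⟨hq, hqd, hGpos.ne'⟩)
  obtain ⟨P⟩ : Nonempty (Sylow p G) := inferInstance
  haveI hPn : (P : Subgroup G).Normal := normal_sylow_of_clt _ G rfl hC p hmax P
  obtain ⟨L, -, hL⟩ := hC ⊤ (Nat.card G / p)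
    (by rw [Subgroup.card_top]; exact Nat.div_dvd_of_dvd hpd)
  have hGL : Nat.card G = p * Nat.card L := by rw [hL]; exact (Nat.mul_div_cancel' hpd).symm
  have hLlt : Nat.card L < n := by
    rw [← hn, hL]; exact Nat.div_lt_self hGpos hp.one_lt
  have hLss : SSReach (⊤ : Subgroup L) := ih _ hLlt ↥L rfl (hC.subgroup L)
  have hLpos : 0 < Nat.card L := Nat.card_pos
  have hLidx : L.index = p := by
    have h2 := L.card_mul_index
    rw [hGL, mul_comm p] at h2
    exact Nat.eq_of_mul_eq_mul_left hLpos h2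
  have hPL : ¬ (P : Subgroup G) ≤ L := by
    intro hle
    have h2 := Subgroup.card_dvd_of_le hle
    rw [P.card_eq_multiplicity] at h2
    obtain ⟨a, ha⟩ : ∃ a, a = (Nat.card G).factorization p := ⟨_, rfl⟩
    rw [← ha] at h2
    obtain ⟨c, hc⟩ := h2
    have h3 : p ^ (a + 1) ∣ Nat.card G := ⟨c, by rw [hGL, hc, pow_succ]; ring⟩
    rw [ha] at h3
    exact Nat.pow_succ_factorization_not_dvd hGpos.ne' hp h3
  have hsup : L ⊔ (P : Subgroup G) = ⊤ := by
    have h2 := Subgroup.relIndex_mul_index (le_sup_left : L ≤ L ⊔ (P : Subgroup G))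
    rw [hLidx] at h2
    have h3 : L.relIndex (L ⊔ (P : Subgroup G)) ≠ 1 := by
      intro h
      rw [Subgroup.relIndex_eq_one] at h
      exact hPL (le_sup_right.trans h)
    have h4 : (L ⊔ (P : Subgroup G)).index = 1 := by
      rcases (Nat.dvd_prime hp).1 (Dvd.intro_left _ h2) with h | h
      · exact h
      · exfalso
        rw [h] at h2
        apply h3
        exact Nat.eq_of_mul_eq_mul_right hp.pos (by rw [h2, one_mul])
    exact Subgroup.index_eq_one.1 h4
  have hP0P : L ⊓ (P : Subgroup G) ≤ (P : Subgroup G) := inf_le_right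
  have hc0 : 0 < Nat.card (L ⊓ (P : Subgroup G) : Subgroup G) := Nat.card_pos
  have hcardP : Nat.card (P : Subgroup G) = p * Nat.card (L ⊓ (P : Subgroup G) : Subgroup G) := by
    have e1 : (P : Subgroup G).relIndex (L ⊔ (P : Subgroup G)) = (P : Subgroup G).relIndex L :=
      Subgroup.relIndex_sup_right L (P : Subgroup G)
    rw [hsup, Subgroup.relIndex_top_right] at e1
    have e2 := (P : Subgroup G).card_mul_index
    have e3 := ((P : Subgroup G).subgroupOf L).card_mul_index
    have e4 : Nat.card ((P : Subgroup G).subgroupOf L) =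
        Nat.card (L ⊓ (P : Subgroup G) : Subgroup G) := by
      rw [← Subgroup.inf_subgroupOf_left (P : Subgroup G) L]
      exact card_subgroupOf_of_le inf_le_left
    have e5 : ((P : Subgroup G).subgroupOf L).index = (P : Subgroup G).index := e1.symm
    rw [e4, e5] at e3
    have hipos : 0 < (P : Subgroup G).index := Nat.pos_of_ne_zero Subgroup.index_ne_zero_of_finite
    apply Nat.eq_of_mul_eq_mul_right hipos
    rw [e2, hGL, ← e3]; ring
  have hnormP : ((L ⊓ (P : Subgroup G)).subgroupOf (P : Subgroup G)).Normal := by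
    apply Subgroup.normal_of_index_eq_minFac_card
    have e := ((L ⊓ (P : Subgroup G)).subgroupOf (P : Subgroup G)).card_mul_index
    rw [card_subgroupOf_of_le hP0P] at e
    have hidx : ((L ⊓ (P : Subgroup G)).subgroupOf (P : Subgroup G)).index = p := by
      apply Nat.eq_of_mul_eq_mul_left hc0
      rw [e, hcardP]; ring
    rw [hidx]
    obtain ⟨k, hk⟩ := IsPGroup.iff_card.1 P.isPGroup'
    have hk0 : k ≠ 0 := by
      rintro rfl
      rw [pow_zero] at hk
      rw [hk] at hcardP
      have := hp.two_le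
      nlinarith
    rw [hk]; exact (hp.pow_minFac hk0).symm
  have hi : (P : Subgroup G) ≤ Subgroup.normalizer ((L ⊓ (P : Subgroup G) : Subgroup G) : Set G) := by
    intro u hu
    apply Cfsg.Agent.Lib.Lead.Conj.mem_normalizer_of_conj_mem
    intro r hr
    have h2 := hnormP.conj_mem ⟨r, hP0P hr⟩ (Subgroup.mem_subgroupOf.2 hr) ⟨u, hu⟩
    exact Subgroup.mem_subgroupOf.1 h2
  obtain ⟨g₀, hg₀P, hg₀L⟩ : ∃ g₀, g₀ ∈ (P : Subgroup G) ∧ g₀ ∉ L := by
    by_contra hcon
    push Not at hcon
    exact hPL hcon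
  have hii : (P : Subgroup G) ≤ (L ⊓ (P : Subgroup G)) ⊔ Subgroup.zpowers g₀ := by
    have hTP : (L ⊓ (P : Subgroup G)) ⊔ Subgroup.zpowers g₀ ≤ (P : Subgroup G) :=
      sup_le hP0P ((Subgroup.zpowers_le).2 hg₀P)
    have hP0T : L ⊓ (P : Subgroup G) ≤ (L ⊓ (P : Subgroup G)) ⊔ Subgroup.zpowers g₀ := le_sup_left
    obtain ⟨m, hm⟩ := Subgroup.card_dvd_of_le hP0T
    obtain ⟨m', hm'⟩ := Subgroup.card_dvd_of_le hTP
    have hmm : p = m * m' := by
      apply Nat.eq_of_mul_eq_mul_left hc0
      rw [← mul_assoc, ← hm, ← hm', hcardP]; ring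
    have hm1 : m ≠ 1 := by
      rintro rfl
      rw [mul_one] at hm
      have h2 := Subgroup.eq_of_le_of_card_ge hP0T hm.le
      apply hg₀L
      have h3 : g₀ ∈ (L ⊓ (P : Subgroup G)) ⊔ Subgroup.zpowers g₀ :=
        Subgroup.mem_sup_right (Subgroup.mem_zpowers g₀)
      rw [← h2] at h3
      exact (Subgroup.mem_inf.1 h3).1
    have hm'1 : m' = 1 := by
      rcases (Nat.dvd_prime hp).1 (Dvd.intro _ hmm.symm) with h | h
      · exact absurd h hm1
      · rw [h] at hmm
        exact (Nat.eq_of_mul_eq_mul_left hp.pos (by rw [← hmm, mul_one])).symm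
    rw [hm'1, mul_one] at hm'
    exact (Subgroup.eq_of_le_of_card_ge hTP hm'.le).ge
  exact dprime _ G rfl p P L hPn P.isPGroup' hLss hsup hi ⟨g₀, hii⟩

/-- If every subgroup of a finite group has subgroups of all orders dividing its order, then the group is supersolvable. -/
theorem result {G : Type*} [Group G] [Finite G] (h : ∀ H : Subgroup G, Cfsg.HasSubgroupOfEveryOrder H) : Cfsg.IsSupersolvable G := by
  rw [isSupersolvable_iff_reach]
  exact main _ G rfl (cltAll_of_hyp h)

end Cfsg.Agent.S0533
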