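import Cfsg.Statements.S0534
import Mathlib
import Cfsg.Agent.S0003

set_option autoImplicit false
open Cfsg

namespace Cfsg.Agent.S0534

universe u

theorem split_divisor (n a d : ℕ) (hn : 0 < n) (ha : 0 < a)
    (hA : ∀ p : ℕ, p.Prime → p ∣ a → p ∣ n)
    (hexp : ∀ p : ℕ, p.Prime → p ∣ n → a.factorization p + 1 = n.factorization p)
    (hd : d ∣ n * a) :
    ∃ d₁ d₂ n₁ : ℕ, d = d₁ * d₂ ∧ n = d₁ * n₁ ∧ d₁.Coprime n₁ ∧ d₂ ∣ a := by
  classical
  have hn0 : n ≠ 0 := hn.ne'
  have ha0 : a ≠ 0 := ha.ne'
  have hd0 : d ≠ 0 := by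
    rintro rfl
    rw [zero_dvd_iff] at hd
    rcases Nat.mul_eq_zero.mp hd with h | h
    · exact hn0 h
    · exact ha0 h
  obtain ⟨f, hf⟩ : ∃ f : ℕ →₀ ℕ,
      f = n.factorization.filter (fun p => n.factorization p ≤ d.factorization p) := ⟨_, rfl⟩
  have hfapp : ∀ p, f p = if n.factorization p ≤ d.factorization p then n.factorization p else 0 := by
    intro p; rw [hf, Finsupp.filter_apply]
  have hfle : f ≤ n.factorization := by
    rw [Finsupp.le_def]
    intro p
    rw [hfapp]
    split_ifs
    · exact le_rfl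
    · exact Nat.zero_le _
  obtain ⟨d₁, hd₁⟩ : ∃ d₁, d₁ = f.prod (· ^ ·) := ⟨_, rfl⟩
  have hfac : d₁.factorization = f := by
    rw [hd₁]; exact Nat.factorization_prod_pow_eq_self_of_le_factorization hfle
  have hd₁0 : d₁ ≠ 0 := by
    rw [hd₁, Finsupp.prod, Finset.prod_ne_zero_iff]
    intro p hp
    have hp' : p ∈ n.factorization.support := Finsupp.support_mono hfle hp
    have : p.Prime := Nat.prime_of_mem_primeFactors (by simpa using hp')
    exact pow_ne_zero _ this.ne_zero
  have hd₁n : d₁ ∣ n := (Nat.factorization_le_iff_dvd hd₁0 hn0).mp (by rw [hfac]; exact hfle)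
  have hd₁d : d₁ ∣ d := by
    apply (Nat.factorization_le_iff_dvd hd₁0 hd0).mp
    rw [hfac, Finsupp.le_def]
    intro p
    rw [hfapp]
    split_ifs with h
    · exact h
    · exact Nat.zero_le _
  refine ⟨d₁, d / d₁, n / d₁, (Nat.mul_div_cancel' hd₁d).symm, (Nat.mul_div_cancel' hd₁n).symm, ?_, ?_⟩
  · by_contra hnc
    obtain ⟨p, hp, hpd, hpn⟩ := Nat.Prime.not_coprime_iff_dvd.mp hnc
    have hn₁0 : n / d₁ ≠ 0 := by
      intro h
      have := Nat.mul_div_cancel' hd₁n
      rw [h, mul_zero] at this
      exact hn0 this.symm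
    have h1 : 1 ≤ d₁.factorization p := (hp.dvd_iff_one_le_factorization hd₁0).mp hpd
    have h2 : 1 ≤ (n / d₁).factorization p := (hp.dvd_iff_one_le_factorization hn₁0).mp hpn
    rw [Nat.factorization_div hd₁n, Finsupp.tsub_apply] at h2
    rw [hfac] at h1 h2
    rw [hfapp] at h1 h2
    split_ifs at h1 h2 with h
    · omega
    · omega
  · have hd₂0 : d / d₁ ≠ 0 := by
      intro h
      have := Nat.mul_div_cancel' hd₁d
      rw [h, mul_zero] at this
      exact hd0 this.symm
    apply (Nat.factorization_le_iff_dvd hd₂0 ha0).mp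
    rw [Finsupp.le_def]
    intro p
    rw [Nat.factorization_div hd₁d, Finsupp.tsub_apply, hfac, hfapp]
    by_cases hp : p.Prime
    · have hdle : d.factorization p ≤ n.factorization p + a.factorization p := by
        have := (Nat.factorization_le_iff_dvd hd0 (Nat.mul_ne_zero hn0 ha0)).mpr hd
        rw [Nat.factorization_mul hn0 ha0, Finsupp.le_def] at this
        have := this p
        rwa [Finsupp.add_apply] at this
      by_cases hpn : p ∣ n
      · have := hexp p hp hpn
        split_ifs with h
        · omega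
        · omega
      · have h1 : n.factorization p = 0 := Nat.factorization_eq_zero_of_not_dvd hpn
        have hpa : ¬ p ∣ a := fun h => hpn (hA p hp h)
        have h2 : a.factorization p = 0 := Nat.factorization_eq_zero_of_not_dvd hpa
        split_ifs with h
        · omega
        · omega
    · have h1 : d.factorization p = 0 := Nat.factorization_eq_zero_of_not_prime d hp
      rw [h1]
      split_ifs <;> omega

theorem abelian_clt : ∀ (k : ℕ) (A : Type u) [CommGroup A] [Finite A], Nat.card A = k →
    ∀ d, d ∣ k → ∃ H : Subgroup A, Nat.card ↥H = d := by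
  intro k
  induction k using Nat.strong_induction_on with
  | _ k ih =>
  intro A _ _ hk d hd
  by_cases hd1 : d = 1
  · exact ⟨⊥, by rw [hd1]; exact Subgroup.card_bot⟩
  · obtain ⟨p, hp, hpd⟩ : ∃ p : ℕ, p.Prime ∧ p ∣ d := ⟨d.minFac, Nat.minFac_prime hd1, Nat.minFac_dvd d⟩
    haveI : Fact p.Prime := ⟨hp⟩
    have hpk : p ∣ Nat.card A := by rw [hk]; exact hpd.trans hd
    obtain ⟨x, hx⟩ := exists_prime_orderOf_dvd_card' p hpk
    have hZ : Nat.card ↥(Subgroup.zpowers x) = p := by rw [Nat.card_zpowers, hx]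
    have hkpos : 0 < k := by rw [← hk]; exact Nat.card_pos
    have hq : Nat.card (A ⧸ Subgroup.zpowers x) * p = k := by
      rw [← hk]
      have := Subgroup.card_eq_card_quotient_mul_card_subgroup (Subgroup.zpowers x)
      rw [hZ] at this
      exact this.symm
    have hqlt : Nat.card (A ⧸ Subgroup.zpowers x) < k := by
      have : 0 < Nat.card (A ⧸ Subgroup.zpowers x) := Nat.card_pos
      have := hp.two_le
      nlinarith
    obtain ⟨e, he⟩ := hpd
    have hdvd : e ∣ Nat.card (A ⧸ Subgroup.zpowers x) := by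
      obtain ⟨c, hc⟩ := hd
      refine ⟨c, ?_⟩
      have : Nat.card (A ⧸ Subgroup.zpowers x) * p = (e * c) * p := by
        rw [hq, hc, he]; ring
      exact Nat.eq_of_mul_eq_mul_right hp.pos this
    obtain ⟨Hb, hHb⟩ := ih _ hqlt (A ⧸ Subgroup.zpowers x) rfl e hdvd
    refine ⟨Hb.comap (QuotientGroup.mk' (Subgroup.zpowers x)), ?_⟩
    have h1 : (Hb.comap (QuotientGroup.mk' (Subgroup.zpowers x))).index = Hb.index :=
      Subgroup.index_comap_of_surjective Hb (QuotientGroup.mk'_surjective _)
    have h2 := (Hb.comap (QuotientGroup.mk' (Subgroup.zpowers x))).card_mul_index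
    have h3 := Hb.card_mul_index
    rw [h1, hk] at h2
    rw [hHb] at h3
    have hipos : 0 < Hb.index := by
      rcases Nat.eq_zero_or_pos Hb.index with h | h
      · rw [h, mul_zero] at h3
        have : 0 < Nat.card (A ⧸ Subgroup.zpowers x) := Nat.card_pos
        omega
      · exact h
    have : Nat.card ↥(Hb.comap (QuotientGroup.mk' (Subgroup.zpowers x))) * Hb.index =
        d * Hb.index := by
      rw [h2, ← hq, ← h3, he]; ring
    exact Nat.eq_of_mul_eq_mul_right hipos this

/-- Let G be a finite solvable group and A a finite abelian group such that every prime dividing the order of A divides the order of G and, for each prime p dividing the order of G, the exponent of p in the order of A is one less than its exponent in the order of G. Then G × A has a subgroup of every order dividing its order. -/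
theorem result {G A : Type*} [Group G] [CommGroup A] [Finite G] [Finite A] [Group.IsSolvable G] (hA : ∀ p : ℕ, p.Prime → p ∣ Nat.card A → p ∣ Nat.card G) (hexp : ∀ p : ℕ, p.Prime → p ∣ Nat.card G → (Nat.card A).factorization p + 1 = (Nat.card G).factorization p) : Cfsg.HasSubgroupOfEveryOrder (G × A) := by
  intro d hd
  rw [Nat.card_prod] at hd
  obtain ⟨d₁, d₂, n₁, hdd, hnn, hcop, hd₂a⟩ := split_divisor (Nat.card G) (Nat.card A) d
    Nat.card_pos Nat.card_pos hA hexp hd
  obtain ⟨H₁, hH₁⟩ := Cfsg.Agent.S0003.result d₁ n₁ hnn hcop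
  obtain ⟨A₁, hA₁⟩ := abelian_clt _ A rfl d₂ hd₂a
  refine ⟨H₁.prod A₁, ?_⟩
  rw [Nat.card_congr (Subgroup.prodEquiv H₁ A₁).toEquiv, Nat.card_prod, hH₁, hA₁, hdd]

end Cfsg.Agent.S0534
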