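import Cfsg.Statements.S0540
import Mathlib
import Cfsg.Agent.Lib.Lead.Subnormal2
import Cfsg.Agent.S0539

set_option autoImplicit false
open Pointwise
open Cfsg

namespace Cfsg.Agent.S0540

open scoped Pointwise
open Cfsg.Agent.Lib.Lead

universe u

/-- Relative version of S0539 inside a subgroup `V`. -/
theorem rel {G : Type u} [Group G] [Finite G] (V : Subgroup G) (T T₀ : Set (Subgroup G))
    (hle : ∀ B ∈ T, B ≤ V) (hsn : ∀ B ∈ T, (B.subgroupOf V).IsSubnormal)
    (hconj : ∀ B ∈ T, ∀ v ∈ V, MulAut.conj v • B ∈ T) (h₀ : T₀ ⊂ T) :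
    ∃ X ∈ T, X ∉ T₀ ∧ X ≤ Subgroup.normalizer ((sSup T₀ : Subgroup G) : Set G) := by
  set S' : Set (Subgroup ↥V) := {X' | X'.map V.subtype ∈ T} with hS'
  set S₀' : Set (Subgroup ↥V) := {X' | X'.map V.subtype ∈ T₀} with hS₀'
  have hback : ∀ X : Subgroup G, X ≤ V → (X.subgroupOf V).map V.subtype = X := fun X hX =>
    Subgroup.map_subgroupOf_eq_of_le hX
  obtain ⟨B₀, hB₀T, hB₀⟩ := Set.exists_of_ssubset h₀
  have hss : S₀' ⊂ S' := by
    refine ⟨fun X' hX' => h₀.subset hX', ?_⟩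
    intro h
    have h1 : B₀.subgroupOf V ∈ S' := by
      show (B₀.subgroupOf V).map V.subtype ∈ T
      rw [hback _ (hle _ hB₀T)]; exact hB₀T
    have h2 : (B₀.subgroupOf V).map V.subtype ∈ T₀ := h h1
    rw [hback _ (hle _ hB₀T)] at h2
    exact hB₀ h2
  have hS'sn : ∀ U ∈ S', U.IsSubnormal := by
    intro U hU
    have h2 := hsn _ hU
    have h3 : (U.map V.subtype).subgroupOf V = U :=
      Subgroup.comap_map_eq_self_of_injective V.subtype_injective U
    rwa [h3] at h2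
  have hS'conj : ∀ U ∈ S', ∀ g : ↥V, MulAut.conj g • U ∈ S' := by
    intro U hU g
    show (MulAut.conj g • U).map V.subtype ∈ T
    rw [Cfsg.Agent.S0539.map_conj_smul_subtype]
    exact hconj _ hU _ g.2
  obtain ⟨X', hX'S, hX'0, hX'n⟩ := Cfsg.Agent.S0539.aux _ ↥V rfl S' S₀' hS'sn hS'conj hss
  have hmap : (sSup S₀').map V.subtype = sSup T₀ := by
    apply le_antisymm
    · rw [Subgroup.map_le_iff_le_comap]
      apply sSup_le
      intro Y hY
      rw [← Subgroup.map_le_iff_le_comap]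
      exact le_sSup hY
    · apply sSup_le
      intro X hX
      have hXV : X ≤ V := hle X (h₀.subset hX)
      have h1 : X.subgroupOf V ∈ S₀' := by
        show (X.subgroupOf V).map V.subtype ∈ T₀
        rw [hback X hXV]; exact hX
      calc X = (X.subgroupOf V).map V.subtype := (hback X hXV).symm
        _ ≤ (sSup S₀').map V.subtype := Subgroup.map_mono (le_sSup h1)
  refine ⟨X'.map V.subtype, hX'S, hX'0, ?_⟩
  have h2 := Subgroup.le_normalizer_map (H := sSup S₀') V.subtype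
  rw [hmap] at h2
  exact (Subgroup.map_mono hX'n).trans h2

/-- A uniqueness lemma of zipper type. Let A be a subgroup of a finite group G and U a nonempty family of subgroups. For V in U write S(V) for the set of conjugates of A that lie in V and are subnormal in V. Assume: A belongs to S(V) for every V in U; a member of some S(W) that lies in V belongs to S(V); and for all V, W in U the normalizer of the join of S(V) ∩ S(W) lies in some member of U. Then U has a greatest element. -/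
theorem result {G : Type*} [Group G] [Finite G] (A : Subgroup G) (U : Set (Subgroup G)) (hU : U.Nonempty) (S : Subgroup G → Set (Subgroup G)) (hS : ∀ V B : Subgroup G, B ∈ S V ↔ (∃ g : G, B = MulAut.conj g • A) ∧ B ≤ V ∧ (B.subgroupOf V).IsSubnormal) (h1 : ∀ V ∈ U, A ∈ S V) (h2 : ∀ V ∈ U, ∀ W ∈ U, ∀ B ∈ S W, B ≤ V → B ∈ S V) (h3 : ∀ V ∈ U, ∀ W ∈ U, ∃ X ∈ U, Subgroup.normalizer ((sSup (S V ∩ S W) : Subgroup G) : Set G) ≤ X) : ∃ M ∈ U, ∀ V ∈ U, V ≤ M := by
  classical
  by_contra hcon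
  push Not at hcon
  -- conjugation closure of `S V` under `V`
  have hSconj : ∀ V : Subgroup G, ∀ B ∈ S V, ∀ v ∈ V, MulAut.conj v • B ∈ S V := by
    intro V B hB v hv
    obtain ⟨⟨g, rfl⟩, hBV, hBsn⟩ := (hS V B).mp hB
    rw [hS]
    have hvV : MulAut.conj v • V = V :=
      Subnormal.conj_smul_eq_of_mem_normalizer v V (Subgroup.le_normalizer hv)
    refine ⟨⟨v * g, ?_⟩, ?_, ?_⟩
    · rw [smul_smul, ← map_mul]
    · intro z hz
      have hz' := (Subnormal.mem_conj_smul _ _ _).mp hz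
      have := V.mul_mem (V.mul_mem hv (hBV hz')) (V.inv_mem hv)
      have e : v * (v⁻¹ * z * v) * v⁻¹ = z := by group
      rwa [e] at this
    · have := Subnormal.isSubnormal_conj hBsn v
      rwa [hvV] at this
  -- every element of `U` lies below a maximal one
  have hmax : ∀ V ∈ U, ∃ M, V ≤ M ∧ Maximal (· ∈ U) M := fun V hV =>
    U.toFinite.exists_le_maximal hV
  -- two distinct maximal elements
  obtain ⟨V₀, hV₀⟩ := hU
  obtain ⟨M₁, -, hM₁⟩ := hmax V₀ hV₀
  obtain ⟨V₁, hV₁U, hV₁⟩ := hcon M₁ hM₁.1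
  obtain ⟨M₂, hV₁M₂, hM₂⟩ := hmax V₁ hV₁U
  have hM₁₂ : M₁ ≠ M₂ := by
    rintro rfl
    exact hV₁ hV₁M₂
  set P : Set (Subgroup G × Subgroup G) :=
    {p | Maximal (· ∈ U) p.1 ∧ Maximal (· ∈ U) p.2 ∧ p.1 ≠ p.2} with hP
  have hPne : P.Nonempty := ⟨(M₁, M₂), hM₁, hM₂, hM₁₂⟩
  obtain ⟨p, hpP, hpmax⟩ := Set.exists_max_image P (fun q => (S q.1 ∩ S q.2).ncard) P.toFinite hPne
  obtain ⟨hp1, hp2, hp12⟩ := hpP
  -- key claim
  have key : ∀ V W : Subgroup G, Maximal (· ∈ U) V → Maximal (· ∈ U) W → V ≠ W →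
      (∀ q ∈ P, (S q.1 ∩ S q.2).ncard ≤ (S V ∩ S W).ncard) →
      ∀ U₃ : Subgroup G, Maximal (· ∈ U) U₃ →
        Subgroup.normalizer ((sSup (S V ∩ S W) : Subgroup G) : Set G) ≤ U₃ → V = U₃ := by
    intro V W hV hW hVW hbig U₃ hU₃ hN
    by_contra hne3
    have hTle : ∀ B ∈ S V ∩ S W, B ≤ U₃ := fun B hB =>
      (le_sSup hB).trans (Subgroup.le_normalizer.trans hN)
    by_cases hTV : S V ⊆ S V ∩ S W
    · have hT : S V ∩ S W = S V := Set.Subset.antisymm Set.inter_subset_left hTV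
      have hVN : V ≤ Subgroup.normalizer ((sSup (S V ∩ S W) : Subgroup G) : Set G) := by
        intro v hv
        apply Subnormal.mem_normalizer_of_conj_smul_le
        rw [hT]
        show (sSup (S V)).map (MulAut.conj v).toMonoidHom ≤ sSup (S V)
        rw [Subgroup.map_le_iff_le_comap]
        apply sSup_le
        intro B hB
        rw [← Subgroup.map_le_iff_le_comap]
        exact le_sSup (hSconj V B hB v hv)
      have h4 : V ≤ U₃ := hVN.trans hN
      exact hne3 (le_antisymm h4 (hV.2 hU₃.1 h4))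
    · have hss : S V ∩ S W ⊂ S V := ⟨Set.inter_subset_left, hTV⟩
      obtain ⟨X₁, hX₁V, hX₁T, hX₁N⟩ := rel V (S V) (S V ∩ S W)
        (fun B hB => ((hS V B).mp hB).2.1) (fun B hB => ((hS V B).mp hB).2.2)
        (hSconj V) hss
      have hX₁3 : X₁ ∈ S U₃ := h2 U₃ hU₃.1 V hV.1 X₁ hX₁V (hX₁N.trans hN)
      have hsub : insert X₁ (S V ∩ S W) ⊆ S V ∩ S U₃ := by
        intro B hB
        rcases Set.mem_insert_iff.mp hB with rfl | hB
        · exact ⟨hX₁V, hX₁3⟩
        · exact ⟨hB.1, h2 U₃ hU₃.1 V hV.1 B hB.1 (hTle B hB)⟩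
      have hfin : (S V ∩ S U₃).Finite := Set.toFinite _
      have hfin' : (S V ∩ S W).Finite := Set.toFinite _
      have h5 : (S V ∩ S W).ncard + 1 ≤ (S V ∩ S U₃).ncard := by
        rw [← Set.ncard_insert_of_notMem hX₁T hfin']
        exact Set.ncard_le_ncard hsub hfin
      have h6 := hbig (V, U₃) ⟨hV, hU₃, hne3⟩
      simp only at h6
      omega
  obtain ⟨X, hXU, hXN⟩ := h3 p.1 hp1.1 p.2 hp2.1
  obtain ⟨U₃, hXU₃, hU₃⟩ := hmax X hXU
  have e1 := key p.1 p.2 hp1 hp2 hp12 hpmax U₃ hU₃ (hXN.trans hXU₃)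
  have e2 := key p.2 p.1 hp2 hp1 hp12.symm (by rw [Set.inter_comm]; exact hpmax) U₃ hU₃
    (by rw [Set.inter_comm]; exact hXN.trans hXU₃)
  exact hp12 (e1.trans e2.symm)

end Cfsg.Agent.S0540
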