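import Cfsg.Statements.S0541
import Mathlib
import Cfsg.Agent.Lib.Lead.Subnormal2
import Cfsg.Agent.S0540

set_option autoImplicit false
open Pointwise
open Cfsg

namespace Cfsg.Agent.S0541

open scoped Pointwise
open Cfsg.Agent.Lib.Lead



/-- Let Z and Y be subgroups of a finite group G and p a prime. Suppose that for every g in G the subgroup generated by the conjugates of g Z g⁻¹ under Y is a p-group. Then there is a Sylow p-subgroup P of G such that Y normalizes the subgroup generated by all conjugates of Z contained in P. -/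
theorem result {G : Type*} [Group G] [Finite G] (p : ℕ) [Fact p.Prime] (Z Y : Subgroup G) (h : ∀ g : G, IsPGroup p ↥(⨆ y ∈ Y, MulAut.conj (y * g) • Z)) : ∃ P : Sylow p G, Y ≤ Subgroup.normalizer ((⨆ g ∈ {g : G | MulAut.conj g • Z ≤ (P : Subgroup G)}, MulAut.conj g • Z : Subgroup G) : Set G) := by
  classical
  -- conjugates of `Z` inside a subgroup
  set Sig : Subgroup G → Set (Subgroup G) := fun Q => {B | (∃ g : G, B = MulAut.conj g • Z) ∧ B ≤ Q}
    with hSig
  have hSigle : ∀ Q : Subgroup G, sSup (Sig Q) ≤ Q := fun Q => sSup_le (fun B hB => hB.2)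
  have hSigmono : ∀ Q Q' : Subgroup G, Q ≤ Q' → Sig Q ⊆ Sig Q' := fun Q Q' hQ B hB =>
    ⟨hB.1, hB.2.trans hQ⟩
  -- the `Y`-closure of a conjugate
  set QY : G → Subgroup G := fun g => ⨆ y ∈ Y, MulAut.conj (y * g) • Z with hQY
  have hQYle : ∀ g : G, ∀ y ∈ Y, MulAut.conj (y * g) • Z ≤ QY g := fun g y hy =>
    le_iSup₂ (f := fun y (_ : y ∈ Y) => MulAut.conj (y * g) • Z) y hy
  have hQYp : ∀ g : G, IsPGroup p ↥(QY g) := h
  have hQYinv : ∀ g : G, Y ≤ Subgroup.normalizer ((QY g : Subgroup G) : Set G) := by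
    intro g y' hy'
    apply Subnormal.mem_normalizer_of_conj_smul_le
    show (QY g).map (MulAut.conj y').toMonoidHom ≤ QY g
    rw [Subgroup.map_le_iff_le_comap]
    apply iSup₂_le
    intro y hy
    rw [← Subgroup.map_le_iff_le_comap]
    show MulAut.conj y' • MulAut.conj (y * g) • Z ≤ QY g
    rw [smul_smul, ← map_mul, ← mul_assoc]
    exact hQYle g (y' * y) (Y.mul_mem hy' hy)
  have hQYSig : ∀ g : G, ∀ Q : Subgroup G, QY g ≤ Q → QY g ≤ sSup (Sig Q) := by
    intro g Q hQ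
    apply iSup₂_le
    intro y hy
    exact le_sSup ⟨⟨_, rfl⟩, (hQYle g y hy).trans hQ⟩
  -- candidate set
  set C : Set (Subgroup G) := {Q | IsPGroup p ↥Q ∧ Q ≤ sSup (Sig Q) ∧
    Y ≤ Subgroup.normalizer (Q : Set G)} with hC
  have hCne : C.Nonempty := ⟨QY 1, hQYp 1, hQYSig 1 _ le_rfl, hQYinv 1⟩
  obtain ⟨Q, hQC, hQmax⟩ := Set.exists_max_image C (fun Q => Nat.card ↥Q) C.toFinite hCne
  obtain ⟨hQp, hQgen, hQY'⟩ := hQC
  have hQeq : sSup (Sig Q) = Q := le_antisymm (hSigle Q) hQgen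
  obtain ⟨P, hQP⟩ := hQp.exists_le_sylow
  refine ⟨P, ?_⟩
  have hW : (⨆ g ∈ {g : G | MulAut.conj g • Z ≤ (P : Subgroup G)}, MulAut.conj g • Z : Subgroup G)
      = sSup (Sig (P : Subgroup G)) := by
    apply le_antisymm
    · apply iSup₂_le
      intro g hg
      exact le_sSup ⟨⟨g, rfl⟩, hg⟩
    · apply sSup_le
      rintro B ⟨⟨g, rfl⟩, hB⟩
      exact le_iSup₂ (f := fun g (_ : g ∈ {g : G | MulAut.conj g • Z ≤ (P : Subgroup G)}) =>
        MulAut.conj g • Z) g hB
  rw [hW]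
  by_cases hsub : Sig (P : Subgroup G) ⊆ Sig Q
  · have : sSup (Sig (P : Subgroup G)) = Q := by
      apply le_antisymm
      · rw [← hQeq]; exact sSup_le_sSup hsub
      · rw [← hQeq]; exact sSup_le_sSup (hSigmono _ _ hQP)
    rw [this]; exact hQY'
  · exfalso
    have hss : Sig Q ⊂ Sig (P : Subgroup G) := ⟨hSigmono _ _ hQP, hsub⟩
    haveI : Group.IsNilpotent ↥(P : Subgroup G) := P.isPGroup'.isNilpotent
    have hPconj : ∀ B ∈ Sig (P : Subgroup G), ∀ v ∈ (P : Subgroup G),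
        MulAut.conj v • B ∈ Sig (P : Subgroup G) := by
      rintro B ⟨⟨g, rfl⟩, hB⟩ v hv
      refine ⟨⟨v * g, by rw [smul_smul, ← map_mul]⟩, ?_⟩
      intro z hz
      have hz' := (Subnormal.mem_conj_smul _ _ _).mp hz
      have := (P : Subgroup G).mul_mem ((P : Subgroup G).mul_mem hv (hB hz'))
        ((P : Subgroup G).inv_mem hv)
      have e : v * (v⁻¹ * z * v) * v⁻¹ = z := by group
      rwa [e] at this
    obtain ⟨X, hXP, hXQ, hXN⟩ := Cfsg.Agent.S0540.rel (P : Subgroup G) (Sig (P : Subgroup G)) (Sig Q)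
      (fun B hB => hB.2) (fun B _ => Subnormal.isSubnormal_of_isNilpotent _) hPconj hss
    rw [hQeq] at hXN
    obtain ⟨⟨g, rfl⟩, hXP'⟩ := hXP
    have hXnotle : ¬ MulAut.conj g • Z ≤ Q := fun hle => hXQ ⟨⟨g, rfl⟩, hle⟩
    have hQgN : QY g ≤ Subgroup.normalizer (Q : Set G) := by
      apply iSup₂_le
      intro y hy z hz
      have hz' : y⁻¹ * z * y ∈ MulAut.conj g • Z := by
        have h1 : z ∈ MulAut.conj y • MulAut.conj g • Z := by
          rw [smul_smul, ← map_mul]; exact hz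
        exact (Subnormal.mem_conj_smul _ _ _).mp h1
      have hyN := hQY' hy
      have := (Subgroup.normalizer (Q : Set G)).mul_mem
        ((Subgroup.normalizer (Q : Set G)).mul_mem hyN (hXN hz'))
        ((Subgroup.normalizer (Q : Set G)).inv_mem hyN)
      have e : y * (y⁻¹ * z * y) * y⁻¹ = z := by group
      rwa [e] at this
    have hQ₁p : IsPGroup p ↥(Q ⊔ QY g : Subgroup G) := hQp.to_sup_of_normal_left' (hQYp g) hQgN
    have hQ₁Y : Y ≤ Subgroup.normalizer ((Q ⊔ QY g : Subgroup G) : Set G) :=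
      (le_inf hQY' (hQYinv g)).trans (Subnormal.normalizer_inf_le_normalizer_sup Q (QY g))
    have hQ₁gen : Q ⊔ QY g ≤ sSup (Sig (Q ⊔ QY g)) := by
      apply sup_le
      · calc Q = sSup (Sig Q) := hQeq.symm
          _ ≤ sSup (Sig (Q ⊔ QY g)) := sSup_le_sSup (hSigmono _ _ le_sup_left)
      · exact hQYSig g _ le_sup_right
    have h1 := hQmax (Q ⊔ QY g) ⟨hQ₁p, hQ₁gen, hQ₁Y⟩
    have h2 : Q ⊔ QY g = Q := (Subgroup.eq_of_le_of_card_ge le_sup_left h1).symm
    apply hXnotle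
    have h3 : MulAut.conj g • Z ≤ QY g := by
      have := hQYle g 1 Y.one_mem
      rwa [one_mul] at this
    calc MulAut.conj g • Z ≤ QY g := h3
      _ ≤ Q ⊔ QY g := le_sup_right
      _ = Q := h2

end Cfsg.Agent.S0541
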