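import Cfsg.Statements.S0546
import Mathlib
import Cfsg.Agent.S0545
import Cfsg.Agent.S0568

set_option autoImplicit false
open Cfsg

namespace Cfsg.Agent.S0546



/-- The normal closure of a system normalizer of a finite solvable group is the whole group. -/
theorem result {G : Type*} [Group G] [Finite G] [Group.IsSolvable G] (K : Nat.Primes → Subgroup G) (hK : Cfsg.IsComplementSystem K) : Subgroup.normalClosure ((Cfsg.systemNormalizer K : Subgroup G) : Set G) = ⊤ := by
  classical
  by_contra hne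
  obtain ⟨M, hM⟩ : ∃ M, M = Subgroup.normalClosure ((Cfsg.systemNormalizer K : Subgroup G) : Set G) :=
    ⟨_, rfl⟩
  rw [← hM] at hne
  haveI : M.Normal := by rw [hM]; exact Subgroup.normalClosure_normal
  have hDM : Cfsg.systemNormalizer K ≤ M := by
    rw [hM]; exact Subgroup.subset_normalClosure
  obtain ⟨hL, hDmap⟩ := Cfsg.Agent.S0545.result K hK M
  have hDbot : (Cfsg.systemNormalizer K).map (QuotientGroup.mk' M) = ⊥ := by
    rw [eq_bot_iff]
    rintro _ ⟨d, hd, rfl⟩
    rw [Subgroup.mem_bot]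
    exact (QuotientGroup.eq_one_iff d).mpr (hDM hd)
  rw [hDbot] at hDmap
  haveI : Nontrivial (G ⧸ M) := by
    by_contra h
    rw [not_nontrivial_iff_subsingleton] at h
    apply hne
    rw [eq_top_iff]
    intro g _
    exact (QuotientGroup.eq_one_iff g).mp (Subsingleton.elim _ _)
  obtain ⟨A, hA, hAmax⟩ := (wellFounded_gt (α := Subgroup (G ⧸ M))).has_min
    {N | N.Normal ∧ commutator (G ⧸ M) ≤ N ∧ N ≠ ⊤}
    ⟨commutator _, inferInstance, le_rfl,
      (Group.IsSolvable.commutator_lt_top_of_nontrivial (G := G ⧸ M)).ne⟩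
  obtain ⟨hAn, hAc, hAtop⟩ := hA
  haveI := hAn
  have hchief : ∀ N : Subgroup (G ⧸ M), N.Normal → A ≤ N → N ≤ ⊤ → N = A ∨ N = ⊤ := by
    intro N hN hAN _
    by_cases hNtop : N = ⊤
    · exact Or.inr hNtop
    · left
      by_contra hNA
      exact hAmax N ⟨hN, hAc.trans hAN, hNtop⟩ (lt_of_le_of_ne hAN (Ne.symm hNA))
  have h := (Cfsg.Agent.S0568.result (fun p => (K p).map (QuotientGroup.mk' M)) hL A ⊤
    (lt_top_iff_ne_top.mpr hAtop) hchief).1 hAc
  rw [hDmap, sup_bot_eq] at h
  exact hAtop (top_le_iff.mp h)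

end Cfsg.Agent.S0546
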