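import Cfsg.Statements.S0550
import Mathlib
import Cfsg.Agent.H1.Basic
import Cfsg.Agent.H1.CoreFree
import Cfsg.Agent.H1.CoprimeAction
import Cfsg.Agent.S0549
import Cfsg.Agent.H1.CommonComplement

set_option autoImplicit false
open Cfsg

namespace Cfsg.Agent.S0550

set_option autoImplicit false
open H1

/-- Let U be a maximal subgroup with trivial normal core in a finite group G, and A ≠ B two minimal normal subgroups. Then A is the centralizer of B and B that of A, U complements each of them, A and B are non-abelian, and A, B and (A ⊔ B) ∩ U are pairwise isomorphic. -/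
theorem result {G : Type*} [Group G] [Finite G] (U : Subgroup G) (hU : IsCoatom U) (hcore : U.normalCore = ⊥) (A B : Subgroup G) [A.Normal] [B.Normal] (hA : A ≠ ⊥) (hB : B ≠ ⊥) (hAmin : ∀ K : Subgroup G, K.Normal → K ≤ A → K = ⊥ ∨ K = A) (hBmin : ∀ K : Subgroup G, K.Normal → K ≤ B → K = ⊥ ∨ K = B) (hAB : A ≠ B) : Subgroup.centralizer (B : Set G) = A ∧ Subgroup.centralizer (A : Set G) = B ∧ Subgroup.IsComplement' A U ∧ Subgroup.IsComplement' B U ∧ ¬ IsMulCommutative A ∧ Nonempty (A ≃* B) ∧ Nonempty (A ≃* ↥((A ⊔ B) ⊓ U)) := by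
  have hAn : A.Normal := inferInstance
  have hBn : B.Normal := inferInstance
  have hinf : A ⊓ B = ⊥ := by
    have hn : (A ⊓ B).Normal := inferInstance
    rcases hAmin _ hn inf_le_left with h | h
    · exact h
    · exfalso
      have hAleB : A ≤ B := inf_eq_left.1 h
      rcases hBmin A hAn hAleB with h1 | h1
      · exact hA h1
      · exact hAB h1
  have hcomm : ⁅A, B⁆ = ⊥ := by
    rw [eq_bot_iff, ← hinf]
    exact Subgroup.commutator_le_inf A B
  have hBCA : B ≤ Subgroup.centralizer (A : Set G) := by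
    rw [Subgroup.le_centralizer_iff]
    exact Subgroup.commutator_eq_bot_iff_le_centralizer.1 hcomm
  have hACB : A ≤ Subgroup.centralizer (B : Set G) :=
    Subgroup.commutator_eq_bot_iff_le_centralizer.1 hcomm
  obtain ⟨hCAU, hCA⟩ := S0549.result U hU hcore A hA
  obtain ⟨hCBU, hCB⟩ := S0549.result U hU hcore B hB
  have hCAeq : Subgroup.centralizer (A : Set G) = B := by
    rcases hCA with h | ⟨-, hmin⟩
    · exfalso; apply hB; rw [eq_bot_iff, ← h]; exact hBCA
    · rcases hmin B hBn hBCA with h1 | h1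
      · exact absurd h1 hB
      · exact h1.symm
  have hCBeq : Subgroup.centralizer (B : Set G) = A := by
    rcases hCB with h | ⟨-, hmin⟩
    · exfalso; apply hA; rw [eq_bot_iff, ← h]; exact hACB
    · rcases hmin A hAn hACB with h1 | h1
      · exact absurd h1 hA
      · exact h1.symm
  have hAU : A ⊓ U = ⊥ := by rw [← hCBeq]; exact hCBU
  have hBU : B ⊓ U = ⊥ := by rw [← hCAeq]; exact hCAU
  have hAsup : A ⊔ U = ⊤ := sup_eq_top_of_normal_corefree U hU hcore A hAn hA
  have hBsup : B ⊔ U = ⊤ := sup_eq_top_of_normal_corefree U hU hcore B hBn hB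
  have hcA : Subgroup.IsComplement' A U := by
    apply Subgroup.isComplement'_of_disjoint_and_mul_eq_univ (disjoint_iff.mpr hAU)
    rw [← Subgroup.normal_mul, hAsup, Subgroup.coe_top]
  have hcB : Subgroup.IsComplement' B U := by
    apply Subgroup.isComplement'_of_disjoint_and_mul_eq_univ (disjoint_iff.mpr hBU)
    rw [← Subgroup.normal_mul, hBsup, Subgroup.coe_top]
  have hnab : ¬ IsMulCommutative A := by
    intro hab
    have h1 : A ≤ Subgroup.centralizer (A : Set G) := by
      intro a ha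
      rw [Subgroup.mem_centralizer_iff]
      intro b hb
      exact setLike_mul_comm hb ha
    rw [hCAeq] at h1
    apply hA
    rw [eq_bot_iff, ← hinf]
    exact le_inf le_rfl h1
  -- the isomorphisms
  set P : Subgroup G := A ⊔ B with hP
  set D : Subgroup G := P ⊓ U with hD
  have hAP : A ≤ P := le_sup_left
  have hBP : B ≤ P := le_sup_right
  have hDP : D ≤ P := inf_le_left
  have hAD : A ⊓ D = ⊥ := by
    rw [eq_bot_iff, ← hAU]
    exact le_inf inf_le_left (inf_le_right.trans inf_le_right)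
  have hBD : B ⊓ D = ⊥ := by
    rw [eq_bot_iff, ← hBU]
    exact le_inf inf_le_left (inf_le_right.trans inf_le_right)
  have hmulAB : ∀ x ∈ P, ∃ a ∈ A, ∃ b ∈ B, x = a * b := by
    intro x hx
    exact (mem_sup_of_le_normalizer A B (Subgroup.normalizer_eq_top A ▸ le_top)).1 hx
  have hmulBA : ∀ x ∈ P, ∃ b ∈ B, ∃ a ∈ A, x = b * a := by
    intro x hx
    rw [hP, sup_comm] at hx
    exact (mem_sup_of_le_normalizer B A (Subgroup.normalizer_eq_top B ▸ le_top)).1 hx
  have hmulDA : ∀ x ∈ P, ∃ d ∈ D, ∃ a ∈ A, x = d * a := by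
    intro x hx
    have hx' : x ∈ A ⊔ U := by rw [hAsup]; trivial
    obtain ⟨a, ha, u, hu, rfl⟩ := (mem_sup_of_le_normalizer A U (Subgroup.normalizer_eq_top A ▸ le_top)).1 hx'
    have huP : u ∈ P := by
      have : u = a⁻¹ * (a * u) := by group
      rw [this]; exact mul_mem (inv_mem (hAP ha)) hx
    refine ⟨u, Subgroup.mem_inf.2 ⟨huP, hu⟩, u⁻¹ * a * u, ?_, by group⟩
    have := hAn.conj_mem a ha u⁻¹
    rwa [inv_inv] at this
  have hmulDB : ∀ x ∈ P, ∃ d ∈ D, ∃ b ∈ B, x = d * b := by
    intro x hx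
    have hx' : x ∈ B ⊔ U := by rw [hBsup]; trivial
    obtain ⟨b, hb, u, hu, rfl⟩ := (mem_sup_of_le_normalizer B U (Subgroup.normalizer_eq_top B ▸ le_top)).1 hx'
    have huP : u ∈ P := by
      have : u = b⁻¹ * (b * u) := by group
      rw [this]; exact mul_mem (inv_mem (hBP hb)) hx
    refine ⟨u, Subgroup.mem_inf.2 ⟨huP, hu⟩, u⁻¹ * b * u, ?_, by group⟩
    have := hBn.conj_mem b hb u⁻¹
    rwa [inv_inv] at this
  have c1 : Subgroup.IsComplement' (A.subgroupOf P) (B.subgroupOf P) :=
    isComplement'_subgroupOf_of P A B hAP hBP hinf hmulAB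
  have c2 : Subgroup.IsComplement' (D.subgroupOf P) (B.subgroupOf P) :=
    isComplement'_subgroupOf_of P D B hDP hBP (by rw [inf_comm]; exact hBD) hmulDB
  have c3 : Subgroup.IsComplement' (B.subgroupOf P) (A.subgroupOf P) :=
    isComplement'_subgroupOf_of P B A hBP hAP (by rw [inf_comm]; exact hinf) hmulBA
  have c4 : Subgroup.IsComplement' (D.subgroupOf P) (A.subgroupOf P) :=
    isComplement'_subgroupOf_of P D A hDP hAP (by rw [inf_comm]; exact hAD) hmulDA
  obtain ⟨e1⟩ := equiv_of_common_complement (B.subgroupOf P) _ _ c1 c2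
  obtain ⟨e2⟩ := equiv_of_common_complement (A.subgroupOf P) _ _ c3 c4
  have eA : A ≃* ↥D :=
    ((Subgroup.subgroupOfEquivOfLe hAP).symm.trans e1).trans (Subgroup.subgroupOfEquivOfLe hDP)
  have eB : B ≃* ↥D :=
    ((Subgroup.subgroupOfEquivOfLe hBP).symm.trans e2).trans (Subgroup.subgroupOfEquivOfLe hDP)
  exact ⟨hCBeq, hCAeq, hcA, hcB, hnab, ⟨eA.trans eB.symm⟩, ⟨eA⟩⟩

end Cfsg.Agent.S0550
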