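import Cfsg.Statements.S0551
import Mathlib
import Cfsg.Agent.H1.CoreFree
import Cfsg.Agent.H1.CoprimeAction
import Cfsg.Agent.H1.FrattiniExtra
import Cfsg.Agent.H1.Abelian
import Cfsg.Agent.H1.PQ
import Cfsg.Agent.H1.Hall
import Cfsg.Agent.S0043
import Cfsg.Agent.S0549

set_option autoImplicit false
open Pointwise
open Cfsg

namespace Cfsg.Agent.S0551

open Cfsg.Agent.H1
open scoped Pointwise commutatorElement

/-- In a finite solvable group all core-free maximal subgroups are conjugate. -/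
theorem result {G : Type*} [Group G] [Finite G] [Group.IsSolvable G] (U V : Subgroup G) (hU : IsCoatom U) (hV : IsCoatom V) (hUc : U.normalCore = ⊥) (hVc : V.normalCore = ⊥) : ∃ g : G, MulAut.conj g • U = V := by
  have hnt : Nontrivial G := by
    by_contra h
    rw [not_nontrivial_iff_subsingleton] at h
    exact hU.1 (Subsingleton.elim _ _)
  obtain ⟨N, hNn, hNne, -, hNmin⟩ := exists_minimal_normal_le (⊤ : Subgroup G) top_ne_bot
  obtain ⟨hNab, p, hp, hpow⟩ := Cfsg.Agent.S0043.result N hNne hNmin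
  have : Fact p.Prime := ⟨hp⟩
  have hNp : IsPGroup p N := fun g => ⟨1, by
    rw [pow_one]; exact Subtype.ext (by simpa using hpow g g.2)⟩
  have hCN : Subgroup.centralizer (N : Set G) = N := by
    have hNC : N ≤ Subgroup.centralizer (N : Set G) := le_centralizer_of_isMulCommutative N hNab
    obtain h | ⟨_, hmin⟩ := (Cfsg.Agent.S0549.result U hU hUc N hNne).2
    · exfalso; rw [h] at hNC; exact hNne (le_bot_iff.mp hNC)
    · rcases hmin N hNn hNC with h | h
      · exact absurd h hNne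
      · exact h.symm
  have key : ∀ W : Subgroup G, IsCoatom W → W.normalCore = ⊥ → N ⊓ W = ⊥ ∧ N ⊔ W = ⊤ := by
    intro W hW hWc
    refine ⟨?_, sup_eq_top_of_normal_corefree W hW hWc N hNn hNne⟩
    have := centralizer_inf_corefree W hW hWc N hNne
    rw [hCN] at this; exact this
  by_cases hNtop : N = ⊤
  · have hU0 : U = ⊥ := by
      have := (key U hU hUc).1; rwa [hNtop, top_inf_eq] at this
    have hV0 : V = ⊥ := by
      have := (key V hV hVc).1; rwa [hNtop, top_inf_eq] at this
    exact ⟨1, by rw [hU0, hV0, map_one, one_smul]⟩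
  have hntQ : Nontrivial (G ⧸ N) := by
    rw [← not_subsingleton_iff_nontrivial, QuotientGroup.subsingleton_iff]; exact hNtop
  obtain ⟨Lq, hLqn, hLqne, -, hLqmin⟩ := exists_minimal_normal_le (⊤ : Subgroup (G ⧸ N)) top_ne_bot
  obtain ⟨-, q, hq, hqpow⟩ := Cfsg.Agent.S0043.result Lq hLqne hLqmin
  have : Fact q.Prime := ⟨hq⟩
  have hLqp : IsPGroup q Lq := fun g => ⟨1, by
    rw [pow_one]; exact Subtype.ext (by simpa using hqpow g g.2)⟩
  obtain ⟨L, hL⟩ : ∃ L : Subgroup G, L = Lq.comap (QuotientGroup.mk' N) := ⟨_, rfl⟩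
  have hLn : L.Normal := by rw [hL]; exact hLqn.comap _
  have hNL : N ≤ L := by
    rw [hL]; exact (QuotientGroup.ker_mk' N).symm.le.trans (MonoidHom.ker_le_comap _ _)
  have hNneL : N ≠ L := by
    intro h
    apply hLqne
    rw [eq_bot_iff]
    intro x hx
    obtain ⟨g, rfl⟩ := QuotientGroup.mk'_surjective N x
    have hg : g ∈ L := by rw [hL]; exact hx
    rw [← h] at hg
    rw [Subgroup.mem_bot]
    exact (QuotientGroup.eq_one_iff g).mpr hg
  have hcardL : Nat.card L = Nat.card Lq * Nat.card N := by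
    have h1 := L.card_mul_index
    have h2 := Lq.card_mul_index
    have h3 := Subgroup.card_eq_card_quotient_mul_card_subgroup N
    have h4 : L.index = Lq.index := by
      rw [hL]; exact Subgroup.index_comap_of_surjective Lq (QuotientGroup.mk'_surjective N)
    rw [h4, h3, ← h2] at h1
    have hpos : 0 < Lq.index := Nat.pos_of_ne_zero Subgroup.index_ne_zero_of_finite
    refine Nat.eq_of_mul_eq_mul_right hpos ?_
    rw [h1]; ring
  have hNtopn : (⊤ : Subgroup G) ≤ Subgroup.normalizer (N : Set G) := by rw [Subgroup.normalizer_eq_top]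
  have hLtopn : (⊤ : Subgroup G) ≤ Subgroup.normalizer (L : Set G) := by rw [Subgroup.normalizer_eq_top]
  have keyQ : ∀ W : Subgroup G, IsCoatom W → W.normalCore = ⊥ →
      N ⊔ (L ⊓ W) = L ∧ N ⊓ (L ⊓ W) = ⊥ ∧ Nat.card (L ⊓ W : Subgroup G) = Nat.card Lq ∧
        Subgroup.normalizer ((L ⊓ W : Subgroup G) : Set G) = W := by
    intro W hW hWc
    obtain ⟨hinf, hsup⟩ := key W hW hWc
    have h1 : N ⊔ (L ⊓ W) = L := by
      apply le_antisymm (sup_le hNL inf_le_left)
      intro l hl
      have hl' : l ∈ N ⊔ W := by rw [hsup]; trivial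
      obtain ⟨n, hn, w, hw, rfl⟩ := Subgroup.mem_sup_of_normal_left.mp hl'
      have hwL : w ∈ L := by
        have : w = n⁻¹ * (n * w) := by group
        rw [this]; exact mul_mem (inv_mem (hNL hn)) hl
      exact mul_mem (Subgroup.mem_sup_left hn) (Subgroup.mem_sup_right (Subgroup.mem_inf.mpr ⟨hwL, hw⟩))
    have h2 : N ⊓ (L ⊓ W) = ⊥ := by
      rw [eq_bot_iff, ← hinf]; exact inf_le_inf_left _ inf_le_right
    have h3 : Nat.card (L ⊓ W : Subgroup G) = Nat.card Lq := by
      have := card_sup_mul_card_inf (L ⊓ W) N (le_top.trans hNtopn)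
      rw [sup_comm, h1, inf_comm, h2, Subgroup.card_bot, mul_one, hcardL] at this
      exact (Nat.eq_of_mul_eq_mul_right Nat.card_pos this).symm
    refine ⟨h1, h2, h3, ?_⟩
    have hle : W ≤ Subgroup.normalizer ((L ⊓ W : Subgroup G) : Set G) :=
      le_trans (le_inf (le_top.trans hLtopn) Subgroup.le_normalizer) Subgroup.inf_normalizer_le_normalizer_inf
    rcases eq_or_lt_of_le hle with h | h
    · exact h.symm
    · exfalso
      have htop := hW.2 _ h
      have hQn : (L ⊓ W).Normal := Subgroup.normalizer_eq_top_iff.mp htop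
      have hQ0 := eq_bot_of_normal_le_corefree W hWc (L ⊓ W) hQn inf_le_right
      rw [hQ0, sup_bot_eq] at h1
      exact hNneL h1
  -- q ≠ p
  have hqp : q ≠ p := by
    rintro rfl
    obtain ⟨a, ha⟩ := hNp.exists_card_eq
    obtain ⟨b, hb⟩ := hLqp.exists_card_eq
    have hLp : IsPGroup q L := IsPGroup.of_card (n := b + a) (by rw [hcardL, ha, hb, pow_add])
    have hlt : ⁅N, L⁆ < N := commutator_lt_of_pgroup N L hNp hLp (le_top.trans hNtopn) hNne
    have hcn : (⁅N, L⁆ : Subgroup G).Normal := inferInstance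
    rcases hNmin _ hcn hlt.le with h | h
    · rw [Subgroup.commutator_eq_bot_iff_le_centralizer, Subgroup.le_centralizer_iff, hCN] at h
      exact hNneL (le_antisymm hNL h)
    · exact hlt.ne h
  obtain ⟨hU1, hU2, hU3, hU4⟩ := keyQ U hU hUc
  obtain ⟨hV1, hV2, hV3, hV4⟩ := keyQ V hV hVc
  have hcop : (Nat.card (L ⊓ U : Subgroup G)).Coprime (Nat.card N) := by
    obtain ⟨a, ha⟩ := hNp.exists_card_eq
    obtain ⟨b, hb⟩ := hLqp.exists_card_eq
    rw [hU3, ha, hb]
    exact Nat.Coprime.pow _ _ ((Nat.coprime_primes hq hp).mpr hqp)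
  obtain ⟨n, hn, hnQ⟩ := coprime_conj (L ⊓ U) N (L ⊓ V) (le_top.trans hNtopn) hcop (Or.inr inferInstance)
    (by rw [hU1]; exact inf_le_left) (by rw [hV3, hU3])
  refine ⟨n, ?_⟩
  rw [← hU4, ← normalizer_conj_smul, hnQ, hV4]

end Cfsg.Agent.S0551
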