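import Cfsg.Statements.S0554
import Mathlib
import Cfsg.Agent.H1.Cores
import Cfsg.Agent.S0044

set_option autoImplicit false
open Cfsg

namespace Cfsg.Agent.S0554

open scoped Pointwise

section
variable {G : Type*} [Group G]

/-- the set of ordered products of elements of the subgroups in a list -/
def prodSet : List (Subgroup G) → Set G
  | [] => {1}
  | A :: L => (A : Set G) * prodSet L

theorem prodSet_mul_normal (N : Subgroup G) [hN : N.Normal] :
    ∀ L : List (Subgroup G), (∃ A ∈ L, N ≤ A) → ∀ x ∈ prodSet L, ∀ n ∈ N, x * n ∈ prodSet L := by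
  intro L
  induction L with
  | nil => rintro ⟨A, hA, -⟩; simp at hA
  | cons B L ih =>
    rintro ⟨A, hA, hNA⟩ x hx n hn
    obtain ⟨b, hb, y, hy, rfl⟩ := Set.mem_mul.1 hx
    rcases List.mem_cons.1 hA with rfl | hA'
    · refine Set.mem_mul.2 ⟨b * (y * n * y⁻¹), ?_, y, hy, by group⟩
      exact mul_mem hb (hNA (hN.conj_mem n hn y))
    · refine Set.mem_mul.2 ⟨b, hb, y * n, ih ⟨A, hA', hNA⟩ y hy n hn, by group⟩

theorem lift_prodSet (N : Subgroup G) [hN : N.Normal] :
    ∀ (L : List (Subgroup G)) (g : G),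
      QuotientGroup.mk' N g ∈ prodSet (L.map (fun A => A.map (QuotientGroup.mk' N))) →
      ∃ x ∈ prodSet L, ∃ n ∈ N, g = x * n := by
  intro L
  induction L with
  | nil =>
    intro g hg
    have h1 : QuotientGroup.mk' N g = 1 := hg
    exact ⟨1, rfl, g, (QuotientGroup.eq_one_iff g).1 h1, by simp⟩
  | cons B L ih =>
    intro g hg
    obtain ⟨bb, hbb, y, hy, hyg⟩ := Set.mem_mul.1 hg
    obtain ⟨b, hb, rfl⟩ := hbb
    have h1 : QuotientGroup.mk' N (b⁻¹ * g) = y := by
      rw [map_mul, map_inv, ← hyg]; group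
    rw [← h1] at hy
    obtain ⟨x, hx, n, hn, hxn⟩ := ih _ hy
    refine ⟨b * x, Set.mem_mul.2 ⟨b, hb, x, hx, rfl⟩, n, hn, ?_⟩
    rw [mul_assoc, ← hxn]; group

theorem mem_prodSet_ofFn : ∀ (t : ℕ) (A : Fin t → Subgroup G) (g : G),
    g ∈ prodSet (List.ofFn A) ↔ ∃ s : Fin t → G, (∀ i, s i ∈ A i) ∧ g = (List.ofFn s).prod := by
  intro t
  induction t with
  | zero =>
    intro A g
    rw [List.ofFn_zero]
    constructor
    · intro h
      exact ⟨fun i => i.elim0, fun i => i.elim0, by rw [List.ofFn_zero, List.prod_nil]; exact h⟩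
    · rintro ⟨s, -, hs⟩
      rw [List.ofFn_zero, List.prod_nil] at hs
      exact hs
  | succ t ih =>
    intro A g
    rw [List.ofFn_succ]
    constructor
    · intro h
      obtain ⟨a, ha, x, hx, rfl⟩ := Set.mem_mul.1 h
      obtain ⟨s', hs', rfl⟩ := (ih _ x).1 hx
      refine ⟨Fin.cons a s', ?_, ?_⟩
      · intro i
        refine Fin.cases ?_ ?_ i
        · rw [Fin.cons_zero]; exact ha
        · intro i; rw [Fin.cons_succ]; exact hs' i
      · rw [List.ofFn_succ, List.prod_cons, Fin.cons_zero]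
        simp only [Fin.cons_succ]
    · rintro ⟨s, hs, rfl⟩
      rw [List.ofFn_succ, List.prod_cons]
      exact Set.mem_mul.2 ⟨s 0, hs 0, _, (ih _ _).2 ⟨fun i => s i.succ, fun i => hs i.succ, rfl⟩, rfl⟩

end

theorem key.{u} : ∀ (n : ℕ) (G : Type u) [Group G] [Finite G] [Group.IsSolvable G], Nat.card G = n →
    ∀ (t : ℕ) (p : Fin t → ℕ) (_hp : ∀ i, (p i).Prime)
      (_hall : ∀ q : ℕ, q.Prime → q ∣ Nat.card G → ∃ i, p i = q) (S : (i : Fin t) → Sylow (p i) G),
      ∀ g : G, g ∈ prodSet (List.ofFn fun i => ((S i : Sylow (p i) G) : Subgroup G)) := by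
  intro n
  induction n using Nat.strong_induction_on with
  | _ n ih =>
  intro G _ _ _ hcard t p hp hall S g
  by_cases htriv : Subsingleton G
  · have hg : g = 1 := Subsingleton.elim _ _
    rw [mem_prodSet_ofFn]
    refine ⟨fun _ => 1, fun i => one_mem _, ?_⟩
    rw [hg]
    have : ∀ t : ℕ, (List.ofFn (fun _ : Fin t => (1 : G))).prod = 1 := by
      intro t
      induction t with
      | zero => simp
      | succ t ih => rw [List.ofFn_succ, List.prod_cons, one_mul]; exact ih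
    exact (this t).symm
  haveI : Nontrivial G := not_subsingleton_iff_nontrivial.1 htriv
  -- a nontrivial `O_q(G)`
  obtain ⟨q, hq⟩ : ∃ q : Nat.Primes, Cfsg.pCore (q : ℕ) G ≠ ⊥ := by
    by_contra hcon
    push Not at hcon
    have hF : Cfsg.fittingSubgroup G = ⊥ := by
      rw [Cfsg.Agent.H1.fittingSubgroup_eq_iSup_pCore, iSup_eq_bot]
      exact hcon
    have h44 := Cfsg.Agent.S0044.result (G := G)
    rw [hF] at h44
    have htop : Subgroup.centralizer (((⊥ : Subgroup G) : Subgroup G) : Set G) = ⊤ := by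
      rw [Subgroup.coe_bot]
      exact Subgroup.centralizer_eq_top_iff_subset.2 (by simp)
    rw [htop, top_le_iff] at h44
    exact bot_ne_top h44
  haveI : Fact (q : ℕ).Prime := ⟨q.2⟩
  haveI hNn : (Cfsg.pCore (q : ℕ) G).Normal := Cfsg.Agent.H1.pCore_normal _
  have hNp : IsPGroup (q : ℕ) ↥(Cfsg.pCore (q : ℕ) G) := Cfsg.Agent.H1.pCore_isPGroup _
  have hqdvd : (q : ℕ) ∣ Nat.card G := by
    obtain ⟨k, hk⟩ := IsPGroup.iff_card.1 hNp
    have hk0 : k ≠ 0 := by
      rintro rfl
      rw [pow_zero, Subgroup.card_eq_one] at hk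
      exact hq hk
    exact dvd_trans (hk ▸ dvd_pow_self (q : ℕ) hk0) (Subgroup.card_subgroup_dvd_card _)
  obtain ⟨j, hj⟩ := hall q q.2 hqdvd
  have hNS : Cfsg.pCore (q : ℕ) G ≤ (S j : Subgroup G) := by
    have : ∀ (r : ℕ) (hr : r = (q : ℕ)) (T : Sylow r G), Cfsg.pCore (q : ℕ) G ≤ (T : Subgroup G) := by
      rintro r rfl T
      exact Cfsg.Agent.H1.pCore_le_sylow T
    exact this _ hj (S j)
  -- the quotient
  have hsurj : Function.Surjective (QuotientGroup.mk' (Cfsg.pCore (q : ℕ) G)) := QuotientGroup.mk'_surjective _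
  have hlt : Nat.card (G ⧸ Cfsg.pCore (q : ℕ) G) < n := by
    rw [← hcard, ← (Cfsg.pCore (q : ℕ) G).card_mul_index, ← Subgroup.index_eq_card]
    have h1 : 1 < Nat.card ↥(Cfsg.pCore (q : ℕ) G) := (Subgroup.one_lt_card_iff_ne_bot _).2 hq
    have h2 : 0 < (Cfsg.pCore (q : ℕ) G).index := Nat.pos_of_ne_zero Subgroup.index_ne_zero_of_finite
    nlinarith
  have hall' : ∀ r : ℕ, r.Prime → r ∣ Nat.card (G ⧸ Cfsg.pCore (q : ℕ) G) → ∃ i, p i = r := by
    intro r hr hrd
    apply hall r hr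
    rw [← Subgroup.index_eq_card] at hrd
    exact dvd_trans hrd (Subgroup.index_dvd_card _)
  have hIH := ih _ hlt (G ⧸ Cfsg.pCore (q : ℕ) G) rfl t p hp hall'
    (fun i => haveI : Fact (p i).Prime := ⟨hp i⟩; (S i).mapSurjective hsurj)
    (QuotientGroup.mk' _ g)
  have hlist : (List.ofFn fun i => ((haveI : Fact (p i).Prime := ⟨hp i⟩; (S i).mapSurjective hsurj :
      Sylow (p i) (G ⧸ Cfsg.pCore (q : ℕ) G)) : Subgroup (G ⧸ Cfsg.pCore (q : ℕ) G))) =
      (List.ofFn fun i => ((S i : Sylow (p i) G) : Subgroup G)).map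
        (fun A => A.map (QuotientGroup.mk' (Cfsg.pCore (q : ℕ) G))) := by
    rw [List.map_ofFn]
    rfl
  rw [hlist] at hIH
  obtain ⟨x, hx, m, hm, rfl⟩ := lift_prodSet _ _ g hIH
  exact prodSet_mul_normal _ _ ⟨(S j : Subgroup G), (List.mem_ofFn' _ _).2 ⟨j, rfl⟩, hNS⟩ x hx m hm

/-- Let G be a finite solvable group and let S assign to each of t distinct primes, including every prime divisor of the order of G, a Sylow subgroup of G. Then every element of G is a product s_0 s_1 ⋯ s_(t-1) with s_i in S i, the factors taken in the given order. -/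
theorem result {G : Type*} [Group G] [Finite G] [Group.IsSolvable G] (t : ℕ) (p : Fin t → ℕ) (hp : ∀ i, (p i).Prime) (hinj : Function.Injective p) (hall : ∀ q : ℕ, q.Prime → q ∣ Nat.card G → ∃ i, p i = q) (S : (i : Fin t) → Sylow (p i) G) : ∀ g : G, ∃ s : (i : Fin t) → G, (∀ i, s i ∈ (S i : Subgroup G)) ∧ g = (List.ofFn s).prod := by
  intro g
  have := key _ G rfl t p hp hall S g
  exact (mem_prodSet_ofFn t _ g).1 this

end Cfsg.Agent.S0554
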