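import Cfsg.Statements.S0555
import Mathlib
import Cfsg.Agent.H1.Basic
import Cfsg.Agent.H1.Misc

set_option autoImplicit false
open Cfsg

namespace Cfsg.Agent.S0555

open Cfsg.Agent.H1
open scoped commutatorElement

/-- Let i ≥ 1. If in the derived series of a group the quotient of the i-th term by the (i+1)-st and the quotient of the (i+1)-st by the (i+2)-nd are both cyclic, then the (i+1)-st and (i+2)-nd terms coincide. -/
theorem result {G : Type*} [Group G] (i : ℕ) (hi : 1 ≤ i) (h₁ : IsCyclic (↥(derivedSeries G i) ⧸ (derivedSeries G (i + 1)).subgroupOf (derivedSeries G i))) (h₂ : IsCyclic (↥(derivedSeries G (i + 1)) ⧸ (derivedSeries G (i + 2)).subgroupOf (derivedSeries G (i + 1)))) : derivedSeries G (i + 1) = derivedSeries G (i + 2) := by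
  have hanti : derivedSeries G (i + 2) ≤ derivedSeries G (i + 1) := derivedSeries_antitone G (by omega)
  apply le_antisymm _ hanti
  have hDG : derivedSeries G i ≤ commutator G := by
    have : derivedSeries G 1 = commutator G := by
      rw [derivedSeries_succ, derivedSeries_zero, commutator_def]
    rw [← this]
    exact derivedSeries_antitone G hi
  -- generators
  obtain ⟨a', ha'⟩ := h₂.exists_generator
  obtain ⟨a, rfl⟩ := QuotientGroup.mk_surjective a'
  obtain ⟨d', hd'⟩ := h₁.exists_generator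
  obtain ⟨d, rfl⟩ := QuotientGroup.mk_surjective d'
  have hA : ∀ x ∈ derivedSeries G (i + 1), ∃ k : ℤ,
      (QuotientGroup.mk' (derivedSeries G (i + 2)) x) = (QuotientGroup.mk' (derivedSeries G (i + 2)) (a : G)) ^ k := by
    intro x hx
    obtain ⟨k, hk⟩ := Subgroup.mem_zpowers_iff.mp (ha' (QuotientGroup.mk ⟨x, hx⟩))
    refine ⟨k, ?_⟩
    rw [← QuotientGroup.mk_zpow, QuotientGroup.eq] at hk
    rw [Subgroup.mem_subgroupOf] at hk
    rw [← map_zpow]
    symm
    rw [QuotientGroup.mk'_apply, QuotientGroup.mk'_apply, QuotientGroup.eq]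
    have e : (((a ^ k)⁻¹ * ⟨x, hx⟩ : ↥(derivedSeries G (i + 1))) : G) = ((a : G) ^ k)⁻¹ * x := by
      rw [Subgroup.coe_mul, Subgroup.coe_inv, Subgroup.coe_zpow]
    rw [← e]
    exact hk
  have hD : ∀ x ∈ derivedSeries G i, ∃ k : ℤ, ∃ u ∈ derivedSeries G (i + 1), x = (d : G) ^ k * u := by
    intro x hx
    obtain ⟨k, hk⟩ := Subgroup.mem_zpowers_iff.mp (hd' (QuotientGroup.mk ⟨x, hx⟩))
    rw [← QuotientGroup.mk_zpow, QuotientGroup.eq] at hk
    rw [Subgroup.mem_subgroupOf] at hk
    refine ⟨k, _, hk, ?_⟩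
    simp
  -- the quotient
  obtain ⟨π, hπ⟩ : ∃ π : G →* G ⧸ derivedSeries G (i + 2), π = QuotientGroup.mk' (derivedSeries G (i + 2)) := ⟨_, rfl⟩
  rw [← hπ] at hA
  have hπsurj : Function.Surjective π := by rw [hπ]; exact QuotientGroup.mk'_surjective _
  have hnorm : ∀ q : G ⧸ derivedSeries G (i + 2), ∃ m : ℤ, q * π (a : G) * q⁻¹ = π (a : G) ^ m := by
    intro q
    obtain ⟨g, rfl⟩ := hπsurj q
    have : g * (a : G) * g⁻¹ ∈ derivedSeries G (i + 1) := (inferInstance : (derivedSeries G (i + 1)).Normal).conj_mem _ a.2 g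
    obtain ⟨m, hm⟩ := hA _ this
    exact ⟨m, by rw [← hm, map_mul, map_mul, map_inv]⟩
  have hcomm : commutator G ≤ (Subgroup.centralizer ({π (a : G)} : Set (G ⧸ derivedSeries G (i + 2)))).comap π := by
    rw [commutator_def, Subgroup.commutator_le]
    intro g _ h _
    rw [Subgroup.mem_comap, map_commutatorElement, mem_centralizer_singleton_iff]
    exact comm_commute_of_conj_pow _ hnorm _ _
  have hdcomm : Commute (π (d : G)) (π (a : G)) := by
    have := hcomm (hDG d.2)
    rw [Subgroup.mem_comap, mem_centralizer_singleton_iff] at this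
    exact this
  rw [derivedSeries_succ G i, Subgroup.commutator_le]
  intro x hx y hy
  obtain ⟨k, u, hu, rfl⟩ := hD x hx
  obtain ⟨l, v, hv, rfl⟩ := hD y hy
  obtain ⟨s, hs⟩ := hA u hu
  obtain ⟨t, ht⟩ := hA v hv
  have : π ⁅(d : G) ^ k * u, (d : G) ^ l * v⁆ = 1 := by
    rw [map_commutatorElement, commutatorElement_eq_one_iff_commute, map_mul, map_mul, map_zpow, map_zpow, hs, ht]
    apply Commute.mul_left
    · apply Commute.mul_right
      · exact (Commute.refl _).zpow_zpow _ _
      · exact hdcomm.zpow_zpow _ _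
    · apply Commute.mul_right
      · exact (hdcomm.symm).zpow_zpow _ _
      · exact (Commute.refl _).zpow_zpow _ _
  rw [hπ] at this
  exact (QuotientGroup.eq_one_iff _).mp this

end Cfsg.Agent.S0555
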