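import Cfsg.Statements.S0558
import Mathlib
import Cfsg.Agent.H1.PFusion

set_option autoImplicit false
open Cfsg

namespace Cfsg.Agent.S0558

set_option autoImplicit false
set_option linter.style.haveILetI false
set_option linter.unusedVariables false
open scoped Pointwise commutatorElement
open Cfsg.Agent.H1 Cfsg.Agent.Lib.Helper4.Nilpotent

/-- Let H be a subgroup of a finite group G that is not a Sylow subgroup of G for any prime, and suppose that for every prime p dividing the order of H and every Sylow p-subgroup P of H the normalizer of P in G is exactly H. Then some normal subgroup of G is a complement to H. -/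
theorem result {G : Type*} [Group G] [Finite G] (H : Subgroup G) (hnot : ∀ p : ℕ, p.Prime → ∀ P : Sylow p G, (P : Subgroup G) ≠ H) (hnorm : ∀ p : ℕ, p.Prime → p ∣ Nat.card H → ∀ P : Sylow p H, Subgroup.normalizer (((P : Subgroup H).map H.subtype : Subgroup G) : Set G) = H) : ∃ N : Subgroup G, N.Normal ∧ Subgroup.IsComplement' N H := by
  -- Step A: Sylow subgroups of H are Sylow in G
  have hA : ∀ p : ℕ, p.Prime → p ∣ Nat.card H → ∀ P : Sylow p H,
      ¬ p ∣ ((P : Subgroup H).map H.subtype).index := by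
    intro p hp hpd P
    haveI : Fact p.Prime := ⟨hp⟩
    obtain ⟨P', hP'⟩ : ∃ P' : Subgroup G, P' = (P : Subgroup H).map H.subtype := ⟨_, rfl⟩
    rw [← hP']
    have hP'p : IsPGroup p P' := by rw [hP']; exact P.isPGroup'.map _
    have hP'H : P' ≤ H := by rw [hP']; exact Subgroup.map_subtype_le _
    obtain ⟨S, hS⟩ := hP'p.exists_le_sylow
    rcases eq_or_lt_of_le hS with h | h
    · rw [h]; exact S.not_dvd_index
    · exfalso
      have h1 := lt_normalizer_inf_of_pgroup P' (S : Subgroup G) S.isPGroup' h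
      have hN := hnorm p hp hpd P
      rw [← hP'] at hN
      rw [hN] at h1
      -- (H ⊓ S).subgroupOf H is a p-subgroup of H containing P
      have h2 : IsPGroup p ((H ⊓ (S : Subgroup G)).subgroupOf H) :=
        (S.isPGroup'.to_le inf_le_right).comap_subtype
      have h3 : (P : Subgroup H) ≤ (H ⊓ (S : Subgroup G)).subgroupOf H := by
        intro z hz
        rw [Subgroup.mem_subgroupOf]
        apply h1.le
        rw [hP']; exact Subgroup.mem_map_of_mem _ hz
      have h4 := P.is_maximal' h2 h3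
      obtain ⟨z, hz1, hz2⟩ := SetLike.exists_of_lt h1
      apply hz2
      have hzH : z ∈ H := (Subgroup.mem_inf.mp hz1).1
      have : (⟨z, hzH⟩ : H) ∈ (P : Subgroup H) := by
        rw [← h4, Subgroup.mem_subgroupOf]; exact hz1
      rw [hP']; exact ⟨⟨z, hzH⟩, this, rfl⟩
  -- Step B: Hall
  have hHall : (Nat.card H).Coprime H.index := by
    apply Nat.coprime_of_dvd
    intro q hq hq1 hq2
    haveI : Fact q.Prime := ⟨hq⟩
    obtain ⟨Q⟩ : Nonempty (Sylow q H) := inferInstance
    apply hA q hq hq1 Q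
    exact dvd_trans hq2 (Subgroup.index_dvd_of_le (Subgroup.map_subtype_le _))
  -- Step C: nilpotent
  have hnil : Group.IsNilpotent H := by
    apply ((Group.isNilpotent_of_finite_tfae (G := H)).out 0 3).mpr
    intro p hp P
    by_cases hpd : p ∣ Nat.card H
    · have hN := hnorm p hp.out hpd P
      rw [← Subgroup.normalizer_eq_top_iff, eq_top_iff]
      intro h _
      have hh : (h : G) ∈ Subgroup.normalizer (((P : Subgroup H).map H.subtype : Subgroup G) : Set G) := by
        rw [hN]; exact h.2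
      rw [Subgroup.mem_normalizer_iff] at hh ⊢
      intro z
      have := hh (z : G)
      have e1 : ∀ w : H, (w : G) ∈ (P : Subgroup H).map H.subtype ↔ w ∈ (P : Subgroup H) := by
        intro w
        constructor
        · rintro ⟨w', hw', e⟩
          have : w' = w := Subtype.ext e
          rw [← this]; exact hw'
        · intro hw; exact ⟨w, hw, rfl⟩
      rw [← e1 z, ← e1 (h * z * h⁻¹)]
      simpa using this
    · have hP1 : Nat.card (P : Subgroup H) = 1 := by
        rw [P.card_eq_multiplicity, Nat.factorization_eq_zero_of_not_dvd hpd, pow_zero]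
      rw [Subgroup.card_eq_one.mp hP1]; infer_instance
  apply normal_complement_of_pfusion H hnil hHall
  intro p hp x hx y hy ⟨k, hk⟩ ⟨g, hg⟩
  by_cases hx1 : x = 1
  · refine ⟨1, one_mem H, ?_⟩
    rw [← hg, hx1]; group
  haveI : Fact p.Prime := ⟨hp⟩
  have hpo : orderOf x ∣ p ^ k := orderOf_dvd_of_pow_eq_one hk
  have hpH : p ∣ Nat.card H := by
    obtain ⟨j, -, hj⟩ := (Nat.dvd_prime_pow hp).mp hpo
    have hj0 : j ≠ 0 := by
      rintro rfl
      rw [pow_zero, orderOf_eq_one_iff] at hj; exact hx1 hj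
    have h1 : p ∣ orderOf x := by rw [hj]; exact dvd_pow_self p hj0
    have h2 : orderOf (⟨x, hx⟩ : H) ∣ Nat.card H := orderOf_dvd_natCard _
    rw [Subgroup.orderOf_mk] at h2
    exact h1.trans h2
  -- another prime
  obtain ⟨q, hq, hqH, hqp⟩ : ∃ q : ℕ, q.Prime ∧ q ∣ Nat.card H ∧ q ≠ p := by
    by_contra hcon
    push Not at hcon
    have hcardH : Nat.card H = p ^ (Nat.card H).primeFactorsList.length :=
      Nat.eq_prime_pow_of_unique_prime_dvd Nat.card_pos.ne' (fun {d} hd hdd => hcon d hd hdd)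
    have hHp : IsPGroup p H := IsPGroup.of_card hcardH
    obtain ⟨P⟩ : Nonempty (Sylow p H) := inferInstance
    have hPtop : (P : Subgroup H) = ⊤ := by
      have := P.is_maximal' (Q := ⊤) (IsPGroup.of_surjective hHp (Subgroup.topEquiv (G := H)).symm.toMonoidHom
        (Subgroup.topEquiv (G := H)).symm.surjective) le_top
      exact this.symm
    have hidx := hA p hp hpH P
    rw [hPtop, ← MonoidHom.range_eq_map, Subgroup.range_subtype] at hidx
    exact hnot p hp (hHp.toSylow hidx) (hHp.toSylow_coe hidx)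
  haveI : Fact q.Prime := ⟨hq⟩
  obtain ⟨Q⟩ : Nonempty (Sylow q H) := inferInstance
  obtain ⟨Q', hQ'⟩ : ∃ Q' : Subgroup G, Q' = (Q : Subgroup H).map H.subtype := ⟨_, rfl⟩
  have hQ'q : IsPGroup q Q' := by rw [hQ']; exact Q.isPGroup'.map _
  have hQ'H : Q' ≤ H := by rw [hQ']; exact Subgroup.map_subtype_le _
  have hQ'idx : ¬ q ∣ Q'.index := by rw [hQ']; exact hA q hq hqH Q
  have hQ'N : Subgroup.normalizer (Q' : Set G) = H := by rw [hQ']; exact hnorm q hq hqH Q
  -- Q' centralizes p-elements of H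
  have hcomm : ∀ w ∈ H, (∃ k : ℕ, w ^ p ^ k = 1) → ∀ z ∈ Q', z * w = w * z := by
    intro w hw ⟨k', hk'⟩ z hz
    have hzH := hQ'H hz
    have hcop : (orderOf (⟨z, hzH⟩ : H)).Coprime (orderOf (⟨w, hw⟩ : H)) := by
      rw [Subgroup.orderOf_mk, Subgroup.orderOf_mk]
      obtain ⟨j, hj⟩ := (IsPGroup.iff_orderOf.mp hQ'q) ⟨z, hz⟩
      rw [Subgroup.orderOf_mk] at hj
      obtain ⟨i, -, hi⟩ := (Nat.dvd_prime_pow hp).mp (orderOf_dvd_of_pow_eq_one hk')
      rw [hj, hi]
      exact Nat.Coprime.pow _ _ ((Nat.coprime_primes hq hp).mpr hqp)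
    have := commute_of_coprime_orderOf H (⟨z, hzH⟩ : H) ⟨w, hw⟩ hcop
    exact congrArg Subtype.val this
  obtain ⟨C, hC⟩ : ∃ C : Subgroup G, C = Subgroup.centralizer ({y} : Set G) := ⟨_, rfl⟩
  have hypow : ∃ k : ℕ, y ^ p ^ k = 1 := ⟨k, by rw [← hg, conj_pow, hk]; group⟩
  have hQ'C : Q' ≤ C := by
    intro z hz
    rw [hC, Subgroup.mem_centralizer_singleton_iff]
    exact hcomm y hy hypow z hz
  obtain ⟨K, hK⟩ : ∃ K : Subgroup G, K = MulAut.conj g • Q' := ⟨_, rfl⟩
  have hKq : IsPGroup q K := by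
    rw [hK, conj_smul_eq_map]; exact hQ'q.map _
  have hKC : K ≤ C := by
    intro z hz
    rw [hK, mem_conj_smul] at hz
    rw [hC, Subgroup.mem_centralizer_singleton_iff]
    have h1 := hcomm x hx ⟨k, hk⟩ _ hz
    rw [← hg]
    calc z * (g * x * g⁻¹) = g * ((g⁻¹ * z * g) * x) * g⁻¹ := by group
      _ = g * (x * (g⁻¹ * z * g)) * g⁻¹ := by rw [h1]
      _ = g * x * g⁻¹ * z := by group
  have hrel : ¬ q ∣ Q'.relIndex C := fun h => hQ'idx (h.trans (Subgroup.relIndex_dvd_index_of_le hQ'C))
  obtain ⟨c, hcC, hc⟩ := exists_le_map_conj_of_pgroup C Q' K hQ'C hQ'q hrel hKC hKq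
  have heq : K = Q'.map (MulAut.conj c).toMonoidHom := by
    apply Subgroup.eq_of_le_of_card_ge hc
    rw [Subgroup.card_map_of_injective (MulAut.conj c).injective, hK, card_conj_smul]
  have hnormm : c⁻¹ * g ∈ Subgroup.normalizer (Q' : Set G) := by
    rw [Subgroup.mem_normalizer_iff]
    intro z
    have h1 : z ∈ Q' ↔ g * z * g⁻¹ ∈ K := by
      rw [hK]; exact (conj_mem_conj_smul g z Q').symm
    rw [h1, heq, ← conj_smul_eq_map, mem_conj_smul]
    have e : c⁻¹ * (g * z * g⁻¹) * c = c⁻¹ * g * z * (c⁻¹ * g)⁻¹ := by group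
    rw [e]
  rw [hQ'N] at hnormm
  refine ⟨c⁻¹ * g, hnormm, ?_⟩
  have hcy : c * y = y * c := by
    rw [hC, Subgroup.mem_centralizer_singleton_iff] at hcC
    exact hcC
  calc c⁻¹ * g * x * (c⁻¹ * g)⁻¹ = c⁻¹ * (g * x * g⁻¹) * c := by group
    _ = c⁻¹ * (y * c) := by rw [hg]; group
    _ = c⁻¹ * (c * y) := by rw [hcy]
    _ = y := by group

end Cfsg.Agent.S0558
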