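import Cfsg.Statements.S0567
import Mathlib
import Cfsg.Agent.H1.Basic
import Cfsg.Agent.H1.Misc

set_option autoImplicit false
open Cfsg

namespace Cfsg.Agent.S0567

open Cfsg.Agent.H1
open scoped commutatorElement

/-- A subgroup H of a group G is subnormal exactly when, for some m, the subgroup obtained from G by taking the commutator with H m times in succession is contained in H. -/
theorem result {G : Type*} [Group G] (H : Subgroup G) : H.IsSubnormal ↔ ∃ m : ℕ, (fun K : Subgroup G => ⁅K, H⁆)^[m] ⊤ ≤ H := by
  constructor
  · intro h
    induction h with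
    | top => exact ⟨0, le_rfl⟩
    | step H K hle hK hN ih =>
      obtain ⟨m, hm⟩ := ih
      refine ⟨m + 1, ?_⟩
      have mono : ∀ j, (fun L : Subgroup G => ⁅L, H⁆)^[j] ⊤ ≤ (fun L : Subgroup G => ⁅L, K⁆)^[j] ⊤ := by
        intro j
        induction j with
        | zero => exact le_rfl
        | succ j ihj =>
          rw [Function.iterate_succ_apply', Function.iterate_succ_apply']
          exact Subgroup.commutator_mono ihj hle
      rw [Function.iterate_succ_apply']
      have h1 : K ≤ Subgroup.normalizer (H : Set G) := (Subgroup.normal_subgroupOf_iff_le_normalizer hle).mp hN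
      have h2 : ⁅K, H⁆ ≤ H := Subgroup.le_normalizer_iff_commutator_le_right.mp h1
      exact (Subgroup.commutator_mono ((mono m).trans hm) le_rfl).trans h2
  · rintro ⟨m, hm⟩
    have hA : ∀ j, H ≤ Subgroup.normalizer (((fun K : Subgroup G => ⁅K, H⁆)^[j] ⊤ : Subgroup G) : Set G) := by
      intro j
      induction j with
      | zero =>
        show H ≤ Subgroup.normalizer ((⊤ : Subgroup G) : Set G)
        rw [Subgroup.normalizer_eq_top]; exact le_top
      | succ j _ =>
        rw [Function.iterate_succ_apply']
        exact Subgroup.normalizer_commutator_ge_right _ _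
    have hB : ∀ j, (fun K : Subgroup G => ⁅K, H⁆)^[j + 1] ⊤ ≤ (fun K : Subgroup G => ⁅K, H⁆)^[j] ⊤ := by
      intro j
      rw [Function.iterate_succ_apply']
      exact Subgroup.le_normalizer_iff_commutator_le_left.mp (hA j)
    have hC : ∀ j, ((fun K : Subgroup G => ⁅K, H⁆)^[j] ⊤ ⊔ H).IsSubnormal := by
      intro j
      induction j with
      | zero =>
        have : (fun K : Subgroup G => ⁅K, H⁆)^[0] ⊤ ⊔ H = ⊤ := by
          show (⊤ : Subgroup G) ⊔ H = ⊤
          exact top_sup_eq H
        rw [this]; exact Subgroup.IsSubnormal.top
      | succ j ih =>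
        refine Subgroup.IsSubnormal.step _ _ (sup_le_sup_right (hB j) H) ih ?_
        rw [Subgroup.normal_subgroupOf_iff_le_normalizer (sup_le_sup_right (hB j) H)]
        rw [Function.iterate_succ_apply']
        obtain ⟨L, hL⟩ : ∃ L : Subgroup G, L = (fun K : Subgroup G => ⁅K, H⁆)^[j] ⊤ := ⟨_, rfl⟩
        rw [← hL]
        show L ⊔ H ≤ Subgroup.normalizer ((⁅L, H⁆ ⊔ H : Subgroup G) : Set G)
        apply sup_le
        · apply le_normalizer_sup_of
          · intro x hx a ha
            have := Subgroup.normalizer_commutator_ge_left L H hx
            exact Subgroup.mem_sup_left ((Subgroup.mem_normalizer_iff.mp this a).mp ha)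
          · intro x hx b hb
            have e : x * b * x⁻¹ = ⁅x, b⁆ * b := by rw [commutatorElement_def]; group
            rw [e]
            exact mul_mem (Subgroup.mem_sup_left (Subgroup.commutator_mem_commutator hx hb)) (Subgroup.mem_sup_right hb)
        · apply le_normalizer_sup_of
          · intro x hx a ha
            have := Subgroup.normalizer_commutator_ge_right L H hx
            exact Subgroup.mem_sup_left ((Subgroup.mem_normalizer_iff.mp this a).mp ha)
          · intro x hx b hb
            exact Subgroup.mem_sup_right (mul_mem (mul_mem hx hb) (inv_mem hx))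
    have := hC m
    rw [sup_eq_right.mpr hm] at this
    exact this

end Cfsg.Agent.S0567
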