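import Cfsg.Statements.S0570
import Cfsg.Agent.Lib.Lead.CarterSys

set_option autoImplicit false
open Cfsg

namespace Cfsg.Agent.S0570

open scoped Pointwise
open Cfsg.Agent.Lib.Lead.Carter Cfsg.Agent.Lib.Lead.CarterSys


/-- Let G be a finite group with a nilpotent normal subgroup F such that G modulo F is nilpotent (nilpotent length at most two). Then a subgroup of G is a Carter subgroup if and only if it is the system normalizer of some Hall complement system. -/
theorem result {G : Type*} [Group G] [Finite G] (F : Subgroup G) [F.Normal] (hF : Group.IsNilpotent F) (hGF : Group.IsNilpotent (G ⧸ F)) (C : Subgroup G) : Cfsg.IsCarterSubgroup C ↔ ∃ K : Nat.Primes → Subgroup G, Cfsg.IsComplementSystem K ∧ C = Cfsg.systemNormalizer K := by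
  haveI := hF
  haveI := hGF
  haveI : Group.IsSolvable G := by
    apply Group.isSolvable_of_ker_le_range F.subtype (QuotientGroup.mk' F)
    rw [QuotientGroup.ker_mk', Subgroup.range_subtype]
  constructor
  · intro hC
    obtain ⟨K₀, hK₀⟩ := exists_complementSystem (G := G)
    have hD₀ : Car (Cfsg.systemNormalizer K₀) :=
      ⟨Cfsg.Agent.S0544.result K₀ hK₀, sysNorm_selfNormalizing F hF hGF K₀ hK₀⟩
    obtain ⟨g, hg⟩ := (carter (G := G)).2 _ _ hD₀ hC
    refine ⟨fun p => MulAut.conj g • K₀ p, conj_complementSystem hK₀ g, ?_⟩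
    rw [sysNorm_conj, hg]
  · rintro ⟨K, hK, rfl⟩
    exact ⟨Cfsg.Agent.S0544.result K hK, sysNorm_selfNormalizing F hF hGF K hK⟩

end Cfsg.Agent.S0570
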