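import Cfsg.Statements.S0573
import Mathlib
import Cfsg.Agent.S0572
import Cfsg.Agent.H1.FrattiniExtra

set_option autoImplicit false
open Cfsg

namespace Cfsg.Agent.S0573

universe u

theorem comm_of_mem {G : Type*} [Group G] (A : Subgroup G) [IsMulCommutative A] {x y : G}
    (hx : x ∈ A) (hy : y ∈ A) : x * y = y * x := by
  have := isMulCommutative_iff.mp (inferInstance : IsMulCommutative ↥A) ⟨x, hx⟩ ⟨y, hy⟩
  exact congrArg Subtype.val this

theorem mem_normal_sup {G : Type*} [Group G] (N H : Subgroup G) [N.Normal] {y : G} :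
    y ∈ N ⊔ H ↔ ∃ n ∈ N, ∃ h ∈ H, y = n * h := by
  rw [← SetLike.mem_coe, Subgroup.normal_mul, Set.mem_mul]
  constructor
  · rintro ⟨n, hn, h, hh, e⟩; exact ⟨n, hn, h, hh, e.symm⟩
  · rintro ⟨n, hn, h, hh, e⟩; exact ⟨n, hn, h, hh, e.symm⟩

/-- The centre of a product of two abelian subgroups without normal subgroups of `G` inside
the factors is trivial. -/
theorem center_trivial {G : Type*} [Group G] (A B : Subgroup G) [IsMulCommutative A]
    [IsMulCommutative B] (hAB : ∀ g : G, ∃ a ∈ A, ∃ b ∈ B, g = a * b)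
    (hA : ∀ T : Subgroup G, T.Normal → T ≤ A → T = ⊥)
    (hB : ∀ T : Subgroup G, T.Normal → T ≤ B → T = ⊥) :
    ∀ z : G, (∀ g, g * z = z * g) → z = 1 := by
  have hnorm : ∀ S : Subgroup G, (S ⊓ Subgroup.center G).Normal := by
    intro S
    refine ⟨fun x hx g => ?_⟩
    have hc : g * x = x * g := (Subgroup.mem_center_iff.mp hx.2 g)
    have : g * x * g⁻¹ = x := by rw [hc]; group
    rw [this]; exact hx
  have hAc : ∀ x ∈ A, (∀ g, g * x = x * g) → x = 1 := by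
    intro x hx hc
    have h1 := hA (A ⊓ Subgroup.center G) (hnorm A) inf_le_left
    have h2 : x ∈ A ⊓ Subgroup.center G := ⟨hx, Subgroup.mem_center_iff.mpr hc⟩
    rw [h1, Subgroup.mem_bot] at h2
    exact h2
  have hBc : ∀ x ∈ B, (∀ g, g * x = x * g) → x = 1 := by
    intro x hx hc
    have h1 := hB (B ⊓ Subgroup.center G) (hnorm B) inf_le_left
    have h2 : x ∈ B ⊓ Subgroup.center G := ⟨hx, Subgroup.mem_center_iff.mpr hc⟩
    rw [h1, Subgroup.mem_bot] at h2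
    exact h2
  intro z hz
  obtain ⟨a, ha, b, hb, e⟩ := hAB z
  have hacent : ∀ g, g * a = a * g := by
    intro g
    obtain ⟨a', ha', b', hb', rfl⟩ := hAB g
    have h1 : a' * a = a * a' := comm_of_mem A ha' ha
    have h2 : b' * a = a * b' := by
      have hab : a = z * b⁻¹ := by rw [e]; group
      have hbb : b' * b⁻¹ = b⁻¹ * b' := comm_of_mem B hb' (B.inv_mem hb)
      calc b' * a = b' * z * b⁻¹ := by rw [hab]; group
        _ = z * b' * b⁻¹ := by rw [hz b']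
        _ = z * (b' * b⁻¹) := by group
        _ = z * (b⁻¹ * b') := by rw [hbb]
        _ = z * b⁻¹ * b' := by group
        _ = a * b' := by rw [← hab]
    calc a' * b' * a = a' * (b' * a) := by group
      _ = a' * (a * b') := by rw [h2]
      _ = a' * a * b' := by group
      _ = a * a' * b' := by rw [h1]
      _ = a * (a' * b') := by group
  have ha1 : a = 1 := hAc a ha hacent
  have hzb : z = b := by rw [e, ha1, one_mul]
  rw [hzb] at hz ⊢
  exact hBc b hb hz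

/-- `B` is self-centralizing. -/
theorem self_centralizing {G : Type*} [Group G] (A B : Subgroup G) [IsMulCommutative A]
    [IsMulCommutative B] (hAB : ∀ g : G, ∃ a ∈ A, ∃ b ∈ B, g = a * b)
    (hZ : ∀ z : G, (∀ g, g * z = z * g) → z = 1) :
    ∀ g : G, (∀ b ∈ B, b * g = g * b) → g ∈ B := by
  intro g hg
  obtain ⟨a, ha, b, hb, e⟩ := hAB g
  have hab : a = g * b⁻¹ := by rw [e]; group
  have hacent : ∀ x, x * a = a * x := by
    intro x
    obtain ⟨a', ha', b', hb', rfl⟩ := hAB x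
    have h1 : a' * a = a * a' := comm_of_mem A ha' ha
    have h2 : b' * a = a * b' := by
      have hbb : b' * b⁻¹ = b⁻¹ * b' := comm_of_mem B hb' (B.inv_mem hb)
      calc b' * a = b' * g * b⁻¹ := by rw [hab]; group
        _ = g * b' * b⁻¹ := by rw [hg b' hb']
        _ = g * (b' * b⁻¹) := by group
        _ = g * (b⁻¹ * b') := by rw [hbb]
        _ = g * b⁻¹ * b' := by group
        _ = a * b' := by rw [← hab]
    calc a' * b' * a = a' * (b' * a) := by group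
      _ = a' * (a * b') := by rw [h2]
      _ = a' * a * b' := by group
      _ = a * a' * b' := by rw [h1]
      _ = a * (a' * b') := by group
  have ha1 : a = 1 := hZ a hacent
  rw [e, ha1, one_mul]; exact hb

/-- `K ∩ C(S)` is normal when commutators `[s, h]` centralize `K`. -/
theorem inf_centralizer_normal {G : Type*} [Group G] (K : Subgroup G) [hK : K.Normal] (S : Set G)
    (hc : ∀ s ∈ S, ∀ h : G, ∀ n ∈ K, (s⁻¹ * h⁻¹ * s * h) * n = n * (s⁻¹ * h⁻¹ * s * h)) :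
    (K ⊓ Subgroup.centralizer S).Normal := by
  refine ⟨fun n hn g => ⟨hK.conj_mem n hn.1 g, ?_⟩⟩
  show g * n * g⁻¹ ∈ Subgroup.centralizer S
  rw [Subgroup.mem_centralizer_iff]
  intro s hs
  have h1 : s * n = n * s := Subgroup.mem_centralizer_iff.mp hn.2 s hs
  have h2 := hc s hs g n hn.1
  -- g⁻¹ s g = s * (s⁻¹ g⁻¹ s g)
  have h3 : (g⁻¹ * s * g) * n = n * (g⁻¹ * s * g) := by
    calc (g⁻¹ * s * g) * n = s * ((s⁻¹ * g⁻¹ * s * g) * n) := by group
      _ = s * (n * (s⁻¹ * g⁻¹ * s * g)) := by rw [h2]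
      _ = (s * n) * (s⁻¹ * g⁻¹ * s * g) := by group
      _ = (n * s) * (s⁻¹ * g⁻¹ * s * g) := by rw [h1]
      _ = n * (g⁻¹ * s * g) := by group
  calc s * (g * n * g⁻¹) = g * ((g⁻¹ * s * g) * n) * g⁻¹ := by group
    _ = g * (n * (g⁻¹ * s * g)) * g⁻¹ := by rw [h3]
    _ = g * n * g⁻¹ * s := by group

/-- For `g` acting fixed-point-freely on the finite normal subgroup `N`, the map
`m ↦ g m g⁻¹ m⁻¹` is onto `N`. -/
theorem psi_surj {G : Type*} [Group G] [Finite G] (N : Subgroup G) [hN : N.Normal] (g : G)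
    (hfpf : ∀ n ∈ N, g * n = n * g → n = 1) :
    ∀ n ∈ N, ∃ m ∈ N, g * m * g⁻¹ * m⁻¹ = n := by
  let f : ↥N → ↥N := fun m =>
    ⟨g * (m : G) * g⁻¹ * (m : G)⁻¹, N.mul_mem (hN.conj_mem _ m.2 g) (N.inv_mem m.2)⟩
  have hinj : Function.Injective f := by
    intro m m' h
    have h' : g * (m : G) * g⁻¹ * (m : G)⁻¹ = g * (m' : G) * g⁻¹ * (m' : G)⁻¹ :=
      congrArg Subtype.val h
    have hu : g * ((m' : G)⁻¹ * (m : G)) = ((m' : G)⁻¹ * (m : G)) * g := by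
      have e1 : g * (m : G) * g⁻¹ = g * (m' : G) * g⁻¹ * (m' : G)⁻¹ * (m : G) := by
        calc g * (m : G) * g⁻¹ = (g * (m : G) * g⁻¹ * (m : G)⁻¹) * (m : G) := by group
          _ = (g * (m' : G) * g⁻¹ * (m' : G)⁻¹) * (m : G) := by rw [h']
      calc g * ((m' : G)⁻¹ * (m : G)) = (g * (m' : G) * g⁻¹)⁻¹ * (g * (m : G) * g⁻¹) * g := by
            group
        _ = (g * (m' : G) * g⁻¹)⁻¹ * (g * (m' : G) * g⁻¹ * (m' : G)⁻¹ * (m : G)) * g := by
            rw [e1]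
        _ = ((m' : G)⁻¹ * (m : G)) * g := by group
    have h1 := hfpf _ (N.mul_mem (N.inv_mem m'.2) m.2) hu
    apply Subtype.ext
    have : (m : G) = (m' : G) * ((m' : G)⁻¹ * (m : G)) := by group
    rw [this, h1, mul_one]
  have hsurj : Function.Surjective f := Finite.injective_iff_surjective.mp hinj
  intro n hn
  obtain ⟨m, hm⟩ := hsurj ⟨n, hn⟩
  exact ⟨m, m.2, congrArg Subtype.val hm⟩

/-- An element centralizing `B` modulo `N` lies in `N B`. -/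
theorem lemma_K {G : Type*} [Group G] [Finite G] (N B : Subgroup G) [hN : N.Normal]
    [IsMulCommutative B] (b₀ : G) (hb₀ : b₀ ∈ B) (hfpf : ∀ n ∈ N, b₀ * n = n * b₀ → n = 1)
    (hCB : ∀ g : G, (∀ b ∈ B, b * g = g * b) → g ∈ B) (y : G)
    (hy : ∀ b ∈ B, b * y * b⁻¹ * y⁻¹ ∈ N) : y ∈ N ⊔ B := by
  obtain ⟨n, hn, hne⟩ := psi_surj N b₀ hfpf _ (hy b₀ hb₀)
  have h0 : b₀ * (n⁻¹ * y) = (n⁻¹ * y) * b₀ := by
    have e1 : b₀ * y * b₀⁻¹ = (b₀ * n * b₀⁻¹ * n⁻¹) * y := by rw [hne]; group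
    calc b₀ * (n⁻¹ * y) = (b₀ * n⁻¹ * b₀⁻¹) * (b₀ * y * b₀⁻¹) * b₀ := by group
      _ = (b₀ * n⁻¹ * b₀⁻¹) * ((b₀ * n * b₀⁻¹ * n⁻¹) * y) * b₀ := by rw [e1]
      _ = (n⁻¹ * y) * b₀ := by group
  have hall : ∀ b ∈ B, b * (n⁻¹ * y) = (n⁻¹ * y) * b := by
    intro b hb
    have ht : b * (n⁻¹ * y) * b⁻¹ * (n⁻¹ * y)⁻¹ ∈ N := by
      have e : b * (n⁻¹ * y) * b⁻¹ * (n⁻¹ * y)⁻¹ =
          (b * n⁻¹ * b⁻¹) * (b * y * b⁻¹ * y⁻¹) * n := by group
      rw [e]
      exact N.mul_mem (N.mul_mem (hN.conj_mem _ (N.inv_mem hn) b) (hy b hb)) hn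
    have hbb : b₀ * b = b * b₀ := comm_of_mem B hb₀ hb
    have hbb' : b₀ * b⁻¹ = b⁻¹ * b₀ := comm_of_mem B hb₀ (B.inv_mem hb)
    have h0' : b₀ * (n⁻¹ * y)⁻¹ = (n⁻¹ * y)⁻¹ * b₀ := by
      calc b₀ * (n⁻¹ * y)⁻¹ = (n⁻¹ * y)⁻¹ * ((n⁻¹ * y) * b₀) * (n⁻¹ * y)⁻¹ := by group
        _ = (n⁻¹ * y)⁻¹ * (b₀ * (n⁻¹ * y)) * (n⁻¹ * y)⁻¹ := by rw [h0]
        _ = (n⁻¹ * y)⁻¹ * b₀ := by group
    have hcomm : b₀ * (b * (n⁻¹ * y) * b⁻¹ * (n⁻¹ * y)⁻¹) =
        (b * (n⁻¹ * y) * b⁻¹ * (n⁻¹ * y)⁻¹) * b₀ := by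
      calc b₀ * (b * (n⁻¹ * y) * b⁻¹ * (n⁻¹ * y)⁻¹)
          = (b₀ * b) * (n⁻¹ * y) * b⁻¹ * (n⁻¹ * y)⁻¹ := by group
        _ = (b * b₀) * (n⁻¹ * y) * b⁻¹ * (n⁻¹ * y)⁻¹ := by rw [hbb]
        _ = b * (b₀ * (n⁻¹ * y)) * b⁻¹ * (n⁻¹ * y)⁻¹ := by group
        _ = b * ((n⁻¹ * y) * b₀) * b⁻¹ * (n⁻¹ * y)⁻¹ := by rw [h0]
        _ = b * (n⁻¹ * y) * (b₀ * b⁻¹) * (n⁻¹ * y)⁻¹ := by group
        _ = b * (n⁻¹ * y) * (b⁻¹ * b₀) * (n⁻¹ * y)⁻¹ := by rw [hbb']
        _ = b * (n⁻¹ * y) * b⁻¹ * (b₀ * (n⁻¹ * y)⁻¹) := by group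
        _ = b * (n⁻¹ * y) * b⁻¹ * ((n⁻¹ * y)⁻¹ * b₀) := by rw [h0']
        _ = (b * (n⁻¹ * y) * b⁻¹ * (n⁻¹ * y)⁻¹) * b₀ := by group
    have h1 := hfpf _ ht hcomm
    calc b * (n⁻¹ * y) = (b * (n⁻¹ * y) * b⁻¹ * (n⁻¹ * y)⁻¹) * ((n⁻¹ * y) * b) := by group
      _ = (n⁻¹ * y) * b := by rw [h1, one_mul]
  have hyB : n⁻¹ * y ∈ B := hCB _ hall
  have : y = n * (n⁻¹ * y) := by group
  rw [this]
  exact Subgroup.mul_mem _ (Subgroup.mem_sup_left hn) (Subgroup.mem_sup_right hyB)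

/-- The final step for one side. -/
theorem final_side {G : Type*} [Group G] (N M A B L : Subgroup G) [hN : N.Normal] [hL : L.Normal]
    (hNM : N ≤ M) (hAM : ∀ x ∈ A, x ∈ M → x = 1) (hMc : ∀ g h : G, g⁻¹ * h⁻¹ * g * h ∈ M)
    (KB : ∀ y : G, (∀ b ∈ B, b * y * b⁻¹ * y⁻¹ ∈ N) → y ∈ N ⊔ B)
    (hNL : N ≤ L) (hLA : L ≤ N ⊔ A) : L ≤ (N ⊔ A) ⊓ (N ⊔ B) := by
  intro y hyL
  obtain ⟨n, hn, a, ha, e⟩ := (mem_normal_sup N A).mp (hLA hyL)
  have haL : a ∈ L := by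
    have : a = n⁻¹ * y := by rw [e]; group
    rw [this]; exact L.mul_mem (L.inv_mem (hNL hn)) hyL
  have haB : a ∈ N ⊔ B := by
    apply KB
    intro b hb
    have hcL : b * a * b⁻¹ * a⁻¹ ∈ L := L.mul_mem (hL.conj_mem a haL b) (L.inv_mem haL)
    have hcM : b * a * b⁻¹ * a⁻¹ ∈ M := by
      have := hMc b⁻¹ a⁻¹
      rwa [inv_inv, inv_inv] at this
    obtain ⟨n₁, hn₁, a₁, ha₁, e₁⟩ := (mem_normal_sup N A).mp (hLA hcL)
    have ha₁M : a₁ ∈ M := by
      have : a₁ = n₁⁻¹ * (b * a * b⁻¹ * a⁻¹) := by rw [e₁]; group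
      rw [this]; exact M.mul_mem (M.inv_mem (hNM hn₁)) hcM
    have := hAM a₁ ha₁ ha₁M
    rw [e₁, this, mul_one]; exact hn₁
  have haX : a ∈ (N ⊔ A) ⊓ (N ⊔ B) := ⟨Subgroup.mem_sup_right ha, haB⟩
  have hnX : n ∈ (N ⊔ A) ⊓ (N ⊔ B) := ⟨Subgroup.mem_sup_left hn, Subgroup.mem_sup_left hn⟩
  rw [e]
  exact Subgroup.mul_mem _ hnX haX

/-- Elements of `N A` centralize `A` modulo `N`. -/
theorem comm_mem_of_mem_sup {G : Type*} [Group G] (N A : Subgroup G) [hN : N.Normal]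
    [IsMulCommutative A] {y : G} (hy : y ∈ N ⊔ A) : ∀ a ∈ A, a * y * a⁻¹ * y⁻¹ ∈ N := by
  intro a ha
  obtain ⟨n, hn, a', ha', e⟩ := (mem_normal_sup N A).mp hy
  have hc : a' * a⁻¹ = a⁻¹ * a' := comm_of_mem A ha' (A.inv_mem ha)
  have : a * y * a⁻¹ * y⁻¹ = (a * n * a⁻¹) * n⁻¹ := by
    rw [e]
    calc a * (n * a') * a⁻¹ * (n * a')⁻¹ = a * n * (a' * a⁻¹) * a'⁻¹ * n⁻¹ := by group
      _ = a * n * (a⁻¹ * a') * a'⁻¹ * n⁻¹ := by rw [hc]
      _ = (a * n * a⁻¹) * n⁻¹ := by group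
  rw [this]
  exact N.mul_mem (hN.conj_mem n hn a) (N.inv_mem hn)

theorem ito_normal : ∀ (k : ℕ) (G : Type u) [Group G] [Finite G] [Nontrivial G] (A B : Subgroup G)
    [IsMulCommutative A] [IsMulCommutative B], Nat.card G = k →
    (∀ g : G, ∃ a ∈ A, ∃ b ∈ B, g = a * b) →
    ∃ N : Subgroup G, N.Normal ∧ N ≠ ⊥ ∧ (N ≤ A ∨ N ≤ B) := by
  intro k
  induction k using Nat.strong_induction_on with
  | _ k ih =>
  intro G _ _ _ A B _ _ hk hAB
  by_contra hcon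
  have hA : ∀ T : Subgroup G, T.Normal → T ≤ A → T = ⊥ := by
    intro T hT hTA
    by_contra hne
    exact hcon ⟨T, hT, hne, Or.inl hTA⟩
  have hB : ∀ T : Subgroup G, T.Normal → T ≤ B → T = ⊥ := by
    intro T hT hTB
    by_contra hne
    exact hcon ⟨T, hT, hne, Or.inr hTB⟩
  have hBA : ∀ g : G, ∃ b ∈ B, ∃ a ∈ A, g = b * a := by
    intro g
    obtain ⟨a, ha, b, hb, e⟩ := hAB g⁻¹
    refine ⟨b⁻¹, B.inv_mem hb, a⁻¹, A.inv_mem ha, ?_⟩
    rw [← mul_inv_rev, ← e, inv_inv]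
  have hZ := center_trivial A B hAB hA hB
  have hCB := self_centralizing A B hAB hZ
  have hCA := self_centralizing B A hBA hZ
  -- the derived subgroup
  obtain ⟨M, hM⟩ : ∃ M, M = commutator G := ⟨_, rfl⟩
  haveI hMn : M.Normal := by rw [hM]; infer_instance
  have hMc : ∀ g h : G, g⁻¹ * h⁻¹ * g * h ∈ M := by
    intro g h; rw [hM, commutator_def]
    have := Subgroup.commutator_mem_commutator (Subgroup.mem_top g⁻¹) (Subgroup.mem_top h⁻¹)
    rw [commutatorElement_def, inv_inv, inv_inv] at this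
    exact this
  have hMab : ∀ x ∈ M, ∀ y ∈ M, x * y = y * x := by
    have h2 := Cfsg.Agent.S0572.result A B hAB
    have h1 : derivedSeries G 1 = commutator G := by
      rw [derivedSeries_succ, derivedSeries_zero, commutator_def]
    rw [show (2 : ℕ) = 1 + 1 from rfl, derivedSeries_succ, h1, ← hM] at h2
    have h3 := Subgroup.commutator_eq_bot_iff_le_centralizer.mp h2
    intro x hx y hy
    exact (Subgroup.mem_centralizer_iff.mp (h3 hy) x hx)
  have hMne : M ≠ ⊥ := by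
    intro h
    obtain ⟨z, hz⟩ := exists_ne (1 : G)
    apply hz
    apply hZ
    intro g
    have := hMc g z
    rw [h, Subgroup.mem_bot] at this
    calc g * z = z * g * (g⁻¹ * z⁻¹ * g * z) := by group
      _ = z * g := by rw [this, mul_one]
  obtain ⟨N, hNn, hNne, hNM, hNmin⟩ := Cfsg.Agent.H1.exists_minimal_normal_le M hMne
  haveI := hNn
  have hMN : ∀ m ∈ M, ∀ n ∈ N, m * n = n * m := fun m hm n hn => hMab m hm n (hNM hn)
  -- `A ∩ M = 1`, `B ∩ M = 1`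
  have hAM : ∀ x ∈ A, x ∈ M → x = 1 := by
    intro x hxA hxM
    haveI hT : (M ⊓ Subgroup.centralizer (A : Set G)).Normal :=
      inf_centralizer_normal M (A : Set G) (fun s _ h n hn => hMab _ (hMc s h) n hn)
    have hTA : M ⊓ Subgroup.centralizer (A : Set G) ≤ A := by
      intro t ht
      exact hCA t (fun a ha => Subgroup.mem_centralizer_iff.mp ht.2 a ha)
    have h1 := hA _ hT hTA
    have h2 : x ∈ M ⊓ Subgroup.centralizer (A : Set G) :=
      ⟨hxM, Subgroup.mem_centralizer_iff.mpr (fun a ha => comm_of_mem A ha hxA)⟩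
    rw [h1, Subgroup.mem_bot] at h2
    exact h2
  have hBM : ∀ x ∈ B, x ∈ M → x = 1 := by
    intro x hxB hxM
    haveI hT : (M ⊓ Subgroup.centralizer (B : Set G)).Normal :=
      inf_centralizer_normal M (B : Set G) (fun s _ h n hn => hMab _ (hMc s h) n hn)
    have hTB : M ⊓ Subgroup.centralizer (B : Set G) ≤ B := by
      intro t ht
      exact hCB t (fun b hb => Subgroup.mem_centralizer_iff.mp ht.2 b hb)
    have h1 := hB _ hT hTB
    have h2 : x ∈ M ⊓ Subgroup.centralizer (B : Set G) :=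
      ⟨hxM, Subgroup.mem_centralizer_iff.mpr (fun b hb => comm_of_mem B hb hxB)⟩
    rw [h1, Subgroup.mem_bot] at h2
    exact h2
  -- fixed-point-free dichotomy
  have hfpf : ∀ g : G, (∃ n ∈ N, ¬ g * n = n * g) → ∀ n ∈ N, g * n = n * g → n = 1 := by
    intro g hg n hn hgn
    haveI hT : (N ⊓ Subgroup.centralizer ({g} : Set G)).Normal :=
      inf_centralizer_normal N ({g} : Set G) (fun s _ h n hn => hMN _ (hMc s h) n hn)
    rcases hNmin _ hT inf_le_left with h | h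
    · have h2 : n ∈ N ⊓ Subgroup.centralizer ({g} : Set G) := by
        refine ⟨hn, Subgroup.mem_centralizer_iff.mpr ?_⟩
        intro s hs
        rw [Set.mem_singleton_iff] at hs
        rw [hs]; exact hgn
      rw [h, Subgroup.mem_bot] at h2
      exact h2
    · exfalso
      obtain ⟨n', hn', hne⟩ := hg
      apply hne
      have : n' ∈ N ⊓ Subgroup.centralizer ({g} : Set G) := by rw [h]; exact hn'
      exact Subgroup.mem_centralizer_iff.mp this.2 g (Set.mem_singleton g)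
  have hexA : ∃ a₀ ∈ A, ∃ n ∈ N, ¬ a₀ * n = n * a₀ := by
    by_contra hno
    push Not at hno
    apply hNne
    apply hA N hNn
    intro n hn
    exact hCA n (fun a ha => hno a ha n hn)
  have hexB : ∃ b₀ ∈ B, ∃ n ∈ N, ¬ b₀ * n = n * b₀ := by
    by_contra hno
    push Not at hno
    apply hNne
    apply hB N hNn
    intro n hn
    exact hCB n (fun b hb => hno b hb n hn)
  obtain ⟨a₀, ha₀, ha₀N⟩ := hexA
  obtain ⟨b₀, hb₀, hb₀N⟩ := hexB
  have hfa := hfpf a₀ ha₀N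
  have hfb := hfpf b₀ hb₀N
  have KB := lemma_K N B b₀ hb₀ hfb hCB
  have KA := lemma_K N A a₀ ha₀ hfa hCA
  -- the factorizer
  obtain ⟨X, hX⟩ : ∃ X, X = (N ⊔ A) ⊓ (N ⊔ B) := ⟨_, rfl⟩
  have hNX : N ≤ X := by rw [hX]; exact le_inf le_sup_left le_sup_left
  have hXc : ∀ y ∈ X, ∀ g : G, g * y * g⁻¹ * y⁻¹ ∈ N := by
    intro y hy g
    rw [hX] at hy
    obtain ⟨a, ha, b, hb, rfl⟩ := hAB g
    have h1 := comm_mem_of_mem_sup N A hy.1 a ha
    have h2 := comm_mem_of_mem_sup N B hy.2 b hb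
    have e : a * b * y * (a * b)⁻¹ * y⁻¹ = (a * (b * y * b⁻¹ * y⁻¹) * a⁻¹) * (a * y * a⁻¹ * y⁻¹) := by
      group
    rw [e]
    exact N.mul_mem (hNn.conj_mem _ h2 a) h1
  haveI hXn : X.Normal := by
    refine ⟨fun y hy g => ?_⟩
    have : g * y * g⁻¹ = (g * y * g⁻¹ * y⁻¹) * y := by group
    rw [this]
    exact X.mul_mem (hNX (hXc y hy g)) hy
  have hXne : X ≠ ⊥ := by
    intro h
    apply hNne
    rw [eq_bot_iff, ← h]; exact hNX
  -- `X ≠ ⊤`
  have hXtop : X ≠ ⊤ := by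
    intro h
    have ha₀X : a₀ ∈ N ⊔ B := by
      have : a₀ ∈ X := by rw [h]; exact Subgroup.mem_top _
      rw [hX] at this
      exact this.2
    obtain ⟨n, hn, b, hb, e⟩ := (mem_normal_sup N B).mp ha₀X
    -- `b = n⁻¹ a₀` is conjugate to `a₀` under `N`
    obtain ⟨m, hm, hme⟩ := psi_surj N a₀ hfa n hn
    have hb' : b = m * a₀ * m⁻¹ := by
      have e1 : b = n⁻¹ * a₀ := by rw [e]; group
      rw [e1, ← hme]; group
    -- `b` is central
    have hbc : ∀ g, g * b = b * g := by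
      intro g
      obtain ⟨b₁, hb₁, a₁, ha₁, em⟩ := hBA m
      obtain ⟨a', ha', b', hb'', eg⟩ := hAB (b₁⁻¹ * g)
      have hg : g = (b₁ * a' * b₁⁻¹) * (b₁ * b') := by
        have : g = b₁ * (b₁⁻¹ * g) := by group
        rw [this, eg]; group
      have hb2 : b = b₁ * a₀ * b₁⁻¹ := by
        have hc : a₁ * a₀ = a₀ * a₁ := comm_of_mem A ha₁ ha₀
        rw [hb', em]
        calc (b₁ * a₁) * a₀ * (b₁ * a₁)⁻¹ = b₁ * (a₁ * a₀) * a₁⁻¹ * b₁⁻¹ := by group
          _ = b₁ * (a₀ * a₁) * a₁⁻¹ * b₁⁻¹ := by rw [hc]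
          _ = b₁ * a₀ * b₁⁻¹ := by group
      have hc1 : a' * a₀ = a₀ * a' := comm_of_mem A ha' ha₀
      have hc2 : (b₁ * b') * b = b * (b₁ * b') := comm_of_mem B (B.mul_mem hb₁ hb'') hb
      have hc3 : (b₁ * a' * b₁⁻¹) * b = b * (b₁ * a' * b₁⁻¹) := by
        rw [hb2]
        calc (b₁ * a' * b₁⁻¹) * (b₁ * a₀ * b₁⁻¹) = b₁ * (a' * a₀) * b₁⁻¹ := by group
          _ = b₁ * (a₀ * a') * b₁⁻¹ := by rw [hc1]
          _ = (b₁ * a₀ * b₁⁻¹) * (b₁ * a' * b₁⁻¹) := by group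
      rw [hg]
      calc (b₁ * a' * b₁⁻¹) * (b₁ * b') * b = (b₁ * a' * b₁⁻¹) * ((b₁ * b') * b) := by group
        _ = (b₁ * a' * b₁⁻¹) * (b * (b₁ * b')) := by rw [hc2]
        _ = ((b₁ * a' * b₁⁻¹) * b) * (b₁ * b') := by group
        _ = (b * (b₁ * a' * b₁⁻¹)) * (b₁ * b') := by rw [hc3]
        _ = b * ((b₁ * a' * b₁⁻¹) * (b₁ * b')) := by group
    have hb1 : b = 1 := hZ b hbc
    rw [hb1, mul_one] at e
    -- `a₀ = n ∈ N` commutes with `N`
    obtain ⟨n', hn', hne⟩ := ha₀N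
    apply hne
    rw [e]
    exact hMab n (hNM hn) n' (hNM hn')
  -- apply the induction hypothesis to `G ⧸ X`
  obtain ⟨π, hπ⟩ : ∃ π : G →* G ⧸ X, π = QuotientGroup.mk' X := ⟨_, rfl⟩
  have hπs : Function.Surjective π := by rw [hπ]; exact QuotientGroup.mk'_surjective X
  have hker : ∀ g, π g = 1 ↔ g ∈ X := by
    intro g; rw [hπ]; exact QuotientGroup.eq_one_iff g
  haveI : Nontrivial (G ⧸ X) := by
    by_contra h
    rw [not_nontrivial_iff_subsingleton] at h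
    apply hXtop
    rw [eq_top_iff]
    intro g _
    exact (hker g).mp (Subsingleton.elim _ _)
  have hcardlt : Nat.card (G ⧸ X) < k := by
    rw [← hk]
    have h1 : Nat.card (G ⧸ X) * Nat.card ↥X = Nat.card G := by
      rw [mul_comm]; exact (Subgroup.card_eq_card_quotient_mul_card_subgroup X).symm ▸ (mul_comm _ _)
    have h2 : 1 < Nat.card ↥X := by
      rw [Subgroup.one_lt_card_iff_ne_bot]; exact hXne
    have h3 : 0 < Nat.card (G ⧸ X) := Nat.card_pos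
    nlinarith
  have hABq : ∀ q : G ⧸ X, ∃ a ∈ A.map π, ∃ b ∈ B.map π, q = a * b := by
    intro q
    obtain ⟨g, rfl⟩ := hπs q
    obtain ⟨a, ha, b, hb, rfl⟩ := hAB g
    exact ⟨π a, Subgroup.mem_map_of_mem π ha, π b, Subgroup.mem_map_of_mem π hb, map_mul π a b⟩
  obtain ⟨Nb, hNbn, hNbne, hNbAB⟩ := ih _ hcardlt (G ⧸ X) (A.map π) (B.map π) rfl hABq
  haveI := hNbn
  obtain ⟨L, hL⟩ : ∃ L, L = Nb.comap π := ⟨_, rfl⟩
  haveI hLn : L.Normal := by rw [hL]; exact hNbn.comap π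
  have hLmem : ∀ g, g ∈ L ↔ π g ∈ Nb := by intro g; rw [hL]; exact Subgroup.mem_comap
  have hXL : X ≤ L := by
    intro x hx
    rw [hLmem, (hker x).mpr hx]; exact Nb.one_mem
  have hLX : ¬ L ≤ X := by
    intro h
    apply hNbne
    rw [eq_bot_iff]
    intro q hq
    obtain ⟨g, rfl⟩ := hπs q
    rw [Subgroup.mem_bot]
    exact (hker g).mpr (h ((hLmem g).mpr hq))
  rcases hNbAB with h | h
  · have hLA : L ≤ N ⊔ A := by
      intro g hg
      obtain ⟨a, ha, hag⟩ := h ((hLmem g).mp hg)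
      have h1 : a⁻¹ * g ∈ X := by
        rw [← hker, map_mul, map_inv, hag]; group
      have h2 : a⁻¹ * g ∈ N ⊔ A := by rw [hX] at h1; exact h1.1
      have : g = a * (a⁻¹ * g) := by group
      rw [this]
      exact Subgroup.mul_mem _ (Subgroup.mem_sup_right ha) h2
    have := final_side N M A B L hNM hAM hMc KB (hNX.trans hXL) hLA
    rw [← hX] at this
    exact hLX this
  · have hLB : L ≤ N ⊔ B := by
      intro g hg
      obtain ⟨b, hb, hbg⟩ := h ((hLmem g).mp hg)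
      have h1 : b⁻¹ * g ∈ X := by
        rw [← hker, map_mul, map_inv, hbg]; group
      have h2 : b⁻¹ * g ∈ N ⊔ B := by rw [hX] at h1; exact h1.2
      have : g = b * (b⁻¹ * g) := by group
      rw [this]
      exact Subgroup.mul_mem _ (Subgroup.mem_sup_right hb) h2
    have := final_side N M B A L hNM hBM hMc KA (hNX.trans hXL) hLB
    rw [inf_comm, ← hX] at this
    exact hLX this

/-- If a nontrivial finite group G is the product AB of abelian subgroups A and B, then some nontrivial normal subgroup of G is contained in A or in B. -/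
theorem result {G : Type*} [Group G] [Finite G] [Nontrivial G] (A B : Subgroup G) [IsMulCommutative A] [IsMulCommutative B] (hAB : ∀ g : G, ∃ a ∈ A, ∃ b ∈ B, g = a * b) : ∃ N : Subgroup G, N.Normal ∧ N ≠ ⊥ ∧ (N ≤ A ∨ N ≤ B) := by
  exact ito_normal _ G A B rfl hAB

end Cfsg.Agent.S0573
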