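import Cfsg.Statements.S0571
import Cfsg.Agent.S0573
import Cfsg.Agent.S0528
import Mathlib

set_option autoImplicit false
set_option linter.style.haveILetI false
set_option linter.unusedVariables false
open Cfsg

namespace Cfsg.Agent.S0571

universe u

theorem aux : ∀ n : ℕ, ∀ (G : Type u) [Group G] [Finite G], Nat.card G = n →
    ∀ (A B : Subgroup G) [IsCyclic A] [IsCyclic B],
      (∀ g : G, ∃ a ∈ A, ∃ b ∈ B, g = a * b) → Cfsg.IsSupersolvable G := by
  intro n
  induction n using Nat.strong_induction_on with
  | _ n ih =>
    intro G _ _ hn A B _ _ hAB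
    by_cases htriv : Subsingleton G
    · refine ⟨0, fun _ => ⊥, rfl, ?_, fun _ => inferInstance, fun i => i.elim0⟩
      exact Subsingleton.elim _ _
    · haveI : Nontrivial G := not_subsingleton_iff_nontrivial.1 htriv
      haveI : IsMulCommutative A := IsCyclic.isMulCommutative
      haveI : IsMulCommutative B := IsCyclic.isMulCommutative
      obtain ⟨N, hNn, hN1, hNle⟩ := Cfsg.Agent.S0573.result A B hAB
      haveI := hNn
      haveI : IsCyclic N := by
        rcases hNle with h | h
        · exact Subgroup.isCyclic_of_le h
        · exact Subgroup.isCyclic_of_le h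
      apply Cfsg.Agent.S0528.result N
      have hlt : Nat.card (G ⧸ N) < n := by
        rw [← hn, ← Subgroup.index_eq_card]
        have h1 := N.card_mul_index
        have h2 : 1 < Nat.card N := by
          rw [Subgroup.one_lt_card_iff_ne_bot]; exact hN1
        have h3 : 0 < N.index := Nat.pos_of_ne_zero Subgroup.index_ne_zero_of_finite
        nlinarith
      haveI : IsCyclic (A.map (QuotientGroup.mk' N)) := by
        have hs : Function.Surjective ((QuotientGroup.mk' N).subgroupMap A) :=
          (QuotientGroup.mk' N).subgroupMap_surjective A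
        exact isCyclic_of_surjective _ hs
      haveI : IsCyclic (B.map (QuotientGroup.mk' N)) := by
        have hs : Function.Surjective ((QuotientGroup.mk' N).subgroupMap B) :=
          (QuotientGroup.mk' N).subgroupMap_surjective B
        exact isCyclic_of_surjective _ hs
      apply ih _ hlt (G ⧸ N) rfl (A.map (QuotientGroup.mk' N)) (B.map (QuotientGroup.mk' N))
      intro q
      induction q using QuotientGroup.induction_on with
      | H g =>
        obtain ⟨a, ha, b, hb, rfl⟩ := hAB g
        exact ⟨_, ⟨a, ha, rfl⟩, _, ⟨b, hb, rfl⟩, by simp⟩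

/-- If a finite group G is the product AB of two cyclic subgroups (every element is a product ab), then G is supersolvable. -/
theorem result {G : Type*} [Group G] [Finite G] (A B : Subgroup G) [IsCyclic A] [IsCyclic B] (hAB : ∀ g : G, ∃ a ∈ A, ∃ b ∈ B, g = a * b) : Cfsg.IsSupersolvable G := by
  exact aux _ G rfl A B hAB

end Cfsg.Agent.S0571
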