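import Cfsg.Statements.S0575
import Mathlib
import Cfsg.Agent.H1.Basic

set_option autoImplicit false
open Cfsg

namespace Cfsg.Agent.S0575

open Cfsg.Agent.H1

/-- If H is a normal subgroup of a finite group G, then the Frattini subgroup of H, viewed in G, lies in the Frattini subgroup of G. -/
theorem result {G : Type*} [Group G] [Finite G] (H : Subgroup G) [H.Normal] : (frattini ↥H).map H.subtype ≤ frattini G := by
  have hN : ((frattini ↥H).map H.subtype).Normal := inferInstance
  have hNH : (frattini ↥H).map H.subtype ≤ H := Subgroup.map_subtype_le _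
  unfold frattini Order.radical
  rw [le_iInf₂_iff]
  intro M hM
  by_contra hnle
  have hsup : (frattini ↥H).map H.subtype ⊔ M = ⊤ := by
    apply hM.2
    apply lt_of_le_of_ne le_sup_right
    intro heq
    apply hnle
    rw [heq]
    exact le_sup_left
  -- M.subgroupOf H ⊔ frattini H = ⊤
  have h1 : M.subgroupOf H ⊔ frattini ↥H = ⊤ := by
    rw [eq_top_iff]
    intro x _
    have hx : (x : G) ∈ (frattini ↥H).map H.subtype ⊔ M := by rw [hsup]; trivial
    rw [Subgroup.mem_sup_of_normal_left] at hx
    obtain ⟨n, hn, m, hm, hnm⟩ := hx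
    obtain ⟨n', hn', rfl⟩ := hn
    have hmH : m ∈ H := by
      have : m = (H.subtype n')⁻¹ * x := by rw [← hnm]; group
      rw [this]
      exact mul_mem (inv_mem n'.2) x.2
    have hx' : x = n' * ⟨m, hmH⟩ := by
      apply Subtype.ext
      simpa using hnm.symm
    rw [hx']
    exact mul_mem (Subgroup.mem_sup_right hn') (Subgroup.mem_sup_left (Subgroup.mem_subgroupOf.mpr hm))
  have h2 : M.subgroupOf H = ⊤ := frattini_nongenerating h1
  rw [Subgroup.subgroupOf_eq_top] at h2
  exact hnle (hNH.trans h2)

end Cfsg.Agent.S0575
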