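import Cfsg.Statements.S0576
import Mathlib

set_option autoImplicit false
set_option linter.style.haveILetI false

namespace Cfsg.Agent.S0576

theorem inn_normal (H : Type*) [Group H] : (MulAut.conj : H →* MulAut H).range.Normal := by
  constructor
  rintro _ ⟨h, rfl⟩ α
  refine ⟨α h, ?_⟩
  ext x
  simp [MulAut.conj_apply, MulAut.mul_apply, MulAut.inv_apply]

/-- Let H be a normal subgroup of a finite group G with H contained in the Frattini subgroup of G. Then the group of inner automorphisms of H is contained in the Frattini subgroup of the automorphism group of H. -/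
theorem result {G : Type*} [Group G] [Finite G] (H : Subgroup G) [H.Normal] (hH : H ≤ frattini G) : (MulAut.conj : ↥H →* MulAut ↥H).range ≤ frattini (MulAut ↥H) := by
  classical
  unfold frattini Order.radical
  rw [le_iInf₂_iff]
  intro M hM
  by_contra hIM
  haveI := inn_normal H
  set I := (MulAut.conj : ↥H →* MulAut ↥H).range with hI
  have hsup : I ⊔ M = ⊤ := by
    have hlt : M < I ⊔ M := by
      apply lt_of_le_of_ne le_sup_right
      intro heq
      apply hIM
      rw [heq]
      exact le_sup_left
    exact hM.2 _ hlt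
  set φ : G →* MulAut ↥H := MulAut.conjNormal with hφ
  set L := M.comap φ with hL
  have hHL : L ⊔ H = ⊤ := by
    rw [eq_top_iff]
    intro g _
    have hg : φ g ∈ I ⊔ M := by rw [hsup]; exact Subgroup.mem_top _
    obtain ⟨i, hi, m, hm, him⟩ := Subgroup.mem_sup_of_normal_left.1 hg
    obtain ⟨h, rfl⟩ := hi
    have h1 : φ ((h : G)⁻¹ * g) = m := by
      rw [map_mul, map_inv, ← him, hφ, MulAut.conjNormal_val]
      group
    have h2 : (h : G)⁻¹ * g ∈ L := by
      rw [hL, Subgroup.mem_comap, h1]
      exact hm
    have h3 : g = ((h : G)⁻¹ * g) * (g⁻¹ * (h : G) * g) := by group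
    rw [h3]
    refine Subgroup.mul_mem_sup h2 ?_
    have := (inferInstance : H.Normal).conj_mem (h : G) h.2 g⁻¹
    rwa [inv_inv] at this
  have hLtop : L = ⊤ := by
    apply frattini_nongenerating
    rw [eq_top_iff, ← hHL]
    exact sup_le_sup_left hH L
  apply hIM
  rintro _ ⟨h, rfl⟩
  have : (h : G) ∈ L := by rw [hLtop]; exact Subgroup.mem_top _
  rw [hL, Subgroup.mem_comap, hφ, MulAut.conjNormal_val] at this
  exact this

end Cfsg.Agent.S0576
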