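import Cfsg.Statements.S0577
import Mathlib
import Cfsg.Prelude.Def_SolvableStructure
import Cfsg.Agent.H1.Basic
import Cfsg.Agent.H1.Card
import Cfsg.Agent.H1.Cores
import Cfsg.Agent.H1.Frattini
import Cfsg.Agent.H1.SchmidtStructure
import Cfsg.Agent.S0029
import Cfsg.Agent.Lib.Helper4.Nilpotent
import Cfsg.Agent.H1.SchmidtQuotient

set_option autoImplicit false
open Cfsg

namespace Cfsg.Agent.S0577

open Cfsg.Agent.H1
open scoped Pointwise commutatorElement

/-- Let G be a finite minimal non-nilpotent group and Q a normal Sylow q-subgroup of G, and let D be the commutator subgroup of Q regarded in G (a normal subgroup). Then G modulo D is non-abelian and all its proper subgroups are abelian. -/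
theorem result {G : Type*} [Group G] [Finite G] (hG : Cfsg.IsMinimalNonNilpotent G) (q : ℕ) [Fact q.Prime] (hq : q ∣ Nat.card G) (Q : Sylow q G) (hQ : (Q : Subgroup G).Normal) (D : Subgroup G) [D.Normal] (hD : D = (commutator ↥(Q : Subgroup G)).map (Q : Subgroup G).subtype) : ¬ IsMulCommutative (G ⧸ D) ∧ ∀ K : Subgroup (G ⧸ D), K ≠ ⊤ → IsMulCommutative K := by
  obtain ⟨p', q', hp', hq', hpq', P, Q₀, hcyc, hQ₀n, hPQ₀, hPnn, hcent⟩ := minimal_non_nilpotent_aux hG
  haveI : Fact p'.Prime := ⟨hp'⟩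
  haveI : Fact q'.Prime := ⟨hq'⟩
  have hcardG := card_eq_of_sylow_sup_eq_top hpq' P Q₀ hQ₀n hPQ₀
  -- q = q'
  have hqq : q = q' := by
    by_contra hne
    have hqp : q = p' := by
      rw [hcardG] at hq
      rcases (Nat.Prime.dvd_mul Fact.out).mp hq with h | h
      · obtain ⟨k, hk⟩ := P.isPGroup'.exists_card_eq
        rw [hk] at h
        exact (Nat.prime_dvd_prime_iff_eq Fact.out hp').mp ((Nat.Prime.dvd_of_dvd_pow Fact.out) h)
      · obtain ⟨k, hk⟩ := Q₀.isPGroup'.exists_card_eq
        rw [hk] at h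
        exact absurd ((Nat.prime_dvd_prime_iff_eq Fact.out hq').mp ((Nat.Prime.dvd_of_dvd_pow Fact.out) h)) hne
    subst hqp
    apply hPnn
    obtain ⟨g, rfl⟩ := MulAction.exists_smul_eq G Q P
    haveI := hQ
    rw [Sylow.smul_eq_of_normal]
    exact hQ
  subst hqq
  have hQQ₀ : Q = Q₀ := by
    haveI := hQ
    obtain ⟨g, rfl⟩ := MulAction.exists_smul_eq G Q Q₀
    exact Sylow.smul_eq_of_normal.symm
  subst hQQ₀
  -- commutators of Q lie in D
  have hDQ : ∀ u₁ ∈ (Q : Subgroup G), ∀ u₂ ∈ (Q : Subgroup G), ⁅u₁, u₂⁆ ∈ D := by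
    intro u₁ h₁ u₂ h₂
    rw [hD]
    refine ⟨⁅(⟨u₁, h₁⟩ : (Q : Subgroup G)), (⟨u₂, h₂⟩ : (Q : Subgroup G))⁆, ?_, rfl⟩
    rw [commutator_def]
    exact Subgroup.commutator_mem_commutator (Subgroup.mem_top _) (Subgroup.mem_top _)
  have hPc : ∀ a ∈ (P : Subgroup G), ∀ b ∈ (P : Subgroup G), a * b = b * a := by
    intro a ha b hb
    have := (IsCyclic.isMulCommutative (α := (P : Subgroup G))).is_comm.comm ⟨a, ha⟩ ⟨b, hb⟩
    exact congrArg Subtype.val this
  constructor
  · -- non-abelian
    intro hab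
    apply hPnn
    -- P centralizes Q by S0029
    have hDle : D ≤ (frattini (Q : Subgroup G)).map (Q : Subgroup G).subtype := by
      rw [hD]
      exact Subgroup.map_mono (commutator_le_frattini Q.isPGroup')
    have hcop : (Nat.card (P : Subgroup G)).Coprime (Nat.card (frattini (Q : Subgroup G))) := by
      obtain ⟨a, ha⟩ := P.isPGroup'.exists_card_eq
      obtain ⟨b, hb⟩ := (Q.isPGroup'.to_subgroup (frattini (Q : Subgroup G))).exists_card_eq
      rw [ha, hb]
      exact Nat.Coprime.pow _ _ ((Nat.coprime_primes hp' Fact.out).mpr hpq')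
    have hn : (P : Subgroup G) ≤ Subgroup.normalizer ((Q : Subgroup G) : Set G) := by
      rw [Subgroup.normalizer_eq_top_iff.mpr hQ]; exact le_top
    have hPle := Cfsg.Agent.S0029.result (P : Subgroup G) (Q : Subgroup G) hn hcop (by
      intro a _ k _
      apply hDle
      have h1 : (QuotientGroup.mk' D) (a * k * a⁻¹ * k⁻¹) = 1 := by
        simp only [map_mul, map_inv]
        have := hab.is_comm.comm ((QuotientGroup.mk' D) a) ((QuotientGroup.mk' D) k)
        rw [this]
        group
      exact (QuotientGroup.eq_one_iff _).mp h1)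
    rw [← Subgroup.normalizer_eq_top_iff, eq_top_iff, ← hPQ₀]
    apply sup_le Subgroup.le_normalizer
    exact (Subgroup.le_centralizer_iff.mp hPle).trans (Subgroup.centralizer_le_normalizer _)
  · intro K hK
    have hcomap : K.comap (QuotientGroup.mk' D) ≠ ⊤ := by
      intro h
      apply hK
      rw [eq_top_iff]
      intro y _
      obtain ⟨x, rfl⟩ := QuotientGroup.mk'_surjective D y
      have : x ∈ K.comap (QuotientGroup.mk' D) := h ▸ Subgroup.mem_top x
      exact this
    have hTnil := hG.2 _ hcomap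
    have key := commutator_mem_of_nilpotent_sub hpq' P Q hPc hQ hPQ₀ _ hTnil D hDQ
    constructor
    constructor
    rintro ⟨a, ha⟩ ⟨b, hb⟩
    apply Subtype.ext
    show a * b = b * a
    obtain ⟨x, rfl⟩ := QuotientGroup.mk'_surjective D a
    obtain ⟨y, rfl⟩ := QuotientGroup.mk'_surjective D b
    have h1 := key x ha y hb
    have h2 : (QuotientGroup.mk' D) ⁅x, y⁆ = 1 := (QuotientGroup.eq_one_iff _).mpr h1
    rw [commutatorElement_def] at h2
    simp only [map_mul, map_inv] at h2
    -- a b a⁻¹ b⁻¹ = 1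
    have h3 : (QuotientGroup.mk' D) x * (QuotientGroup.mk' D) y * ((QuotientGroup.mk' D) x)⁻¹ * ((QuotientGroup.mk' D) y)⁻¹
        * (QuotientGroup.mk' D) y * (QuotientGroup.mk' D) x = (QuotientGroup.mk' D) y * (QuotientGroup.mk' D) x := by
      rw [h2, one_mul]
    rw [← h3]; group

end Cfsg.Agent.S0577
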