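import Cfsg.Statements.S0578
import Mathlib
import Cfsg.Agent.H1.Basic
import Cfsg.Agent.S0015

set_option autoImplicit false
open Cfsg

namespace Cfsg.Agent.S0578

open Cfsg.Agent.H1
open scoped commutatorElement

/-- If in a finite group the normalizer of each abelian subgroup coincides with its centralizer, then the group is abelian. -/
theorem result {G : Type*} [Group G] [Finite G] (h : ∀ A : Subgroup G, IsMulCommutative A → Subgroup.normalizer (A : Set G) = Subgroup.centralizer (A : Set G)) : IsMulCommutative G := by
  -- Step 1: Sylow subgroups are abelian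
  have hsyl : ∀ (p : ℕ) [Fact p.Prime] (P : Sylow p G), IsMulCommutative (P : Subgroup G) := by
    intro p hp P
    have hPnil : Group.IsNilpotent (P : Subgroup G) := P.isPGroup'.isNilpotent
    have hbot : IsMulCommutative (⊥ : Subgroup (P : Subgroup G)) := by
      apply IsMulCommutative.of_setLike_mul_comm
      intro a ha b hb
      rw [Subgroup.mem_bot] at ha hb
      rw [ha, hb]
    obtain ⟨N, hN, hNmax⟩ := (wellFounded_gt (α := Subgroup (P : Subgroup G))).has_min
      {M : Subgroup (P : Subgroup G) | M.Normal ∧ IsMulCommutative M} ⟨⊥, inferInstance, hbot⟩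
    obtain ⟨hNn, hNab⟩ := hN
    have hmax : ∀ M : Subgroup (P : Subgroup G), M.Normal → IsMulCommutative M → N ≤ M → M = N := by
      intro M hMn hMab hNM
      by_contra hne
      exact hNmax M ⟨hMn, hMab⟩ (lt_of_le_of_ne hNM (Ne.symm hne))
    have hcent := Cfsg.Agent.S0015.result N hmax
    have hN₀ab : IsMulCommutative (N.map (P : Subgroup G).subtype) := inferInstance
    have hnc := h _ hN₀ab
    have hPle : (P : Subgroup G) ≤ Subgroup.normalizer ((N.map (P : Subgroup G).subtype : Subgroup G) : Set G) := by
      have h1 := Subgroup.le_normalizer_map (P : Subgroup G).subtype (H := N)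
      rw [Subgroup.normalizer_eq_top_iff.mpr hNn, ← MonoidHom.range_eq_map, Subgroup.range_subtype] at h1
      exact h1
    rw [hnc] at hPle
    have htop : Subgroup.centralizer (N : Set (P : Subgroup G)) = ⊤ := by
      rw [eq_top_iff]
      intro x _
      rw [Subgroup.mem_centralizer_iff]
      intro n hn
      have h1 := hPle x.2
      rw [Subgroup.mem_centralizer_iff] at h1
      have h2 := h1 (n : G) ⟨n, hn, rfl⟩
      exact Subtype.ext h2
    rw [hcent] at htop
    apply IsMulCommutative.of_setLike_mul_comm
    intro a ha b hb
    have ha' : (⟨a, ha⟩ : (P : Subgroup G)) ∈ N := by rw [htop]; trivial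
    have hb' : (⟨b, hb⟩ : (P : Subgroup G)) ∈ N := by rw [htop]; trivial
    have := setLike_mul_comm ha' hb'
    exact congrArg Subtype.val this
  -- Step 2-4
  have hcomm : commutator G = ⊥ := by
    rw [← Subgroup.card_eq_one, Nat.eq_one_iff_not_exists_prime_dvd]
    intro p hp hdvd
    have : Fact p.Prime := ⟨hp⟩
    obtain P : Sylow p G := default
    have hPab := hsyl p P
    have hNC : Subgroup.normalizer ((P : Subgroup G) : Set G) ≤ Subgroup.centralizer ((P : Subgroup G) : Set G) := (h _ hPab).le
    have hcompl := MonoidHom.ker_transferSylow_isComplement' P hNC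
    have hle : commutator G ≤ (MonoidHom.transferSylow P hNC).ker := by
      rw [commutator_def, Subgroup.commutator_le]
      intro x _ y _
      rw [MonoidHom.mem_ker, map_commutatorElement, commutatorElement_eq_one_iff_mul_comm]
      apply Subtype.ext
      exact setLike_mul_comm (MonoidHom.transferSylow P hNC x).2 (MonoidHom.transferSylow P hNC y).2
    have h1 : Nat.card (commutator G) ∣ Nat.card (MonoidHom.transferSylow P hNC).ker := Subgroup.card_dvd_of_le hle
    rw [← hcompl.index_eq_card] at h1
    exact P.not_dvd_index (hdvd.trans h1)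
  constructor; constructor
  intro a b
  rw [← commutatorElement_eq_one_iff_mul_comm, ← Subgroup.mem_bot, ← hcomm]
  exact Subgroup.commutator_mem_commutator (Subgroup.mem_top a) (Subgroup.mem_top b)

end Cfsg.Agent.S0578
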