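import Cfsg.Statements.S0585
import Mathlib
import Cfsg.Agent.H1.Basic

set_option autoImplicit false
open Cfsg

namespace Cfsg.Agent.S0585

open Cfsg.Agent.H1

/-- If the Frattini subgroup of a finite group G is trivial, then every abelian normal subgroup of G has a complement in G. -/
theorem result {G : Type*} [Group G] [Finite G] (hΦ : frattini G = ⊥) (A : Subgroup G) [A.Normal] [IsMulCommutative A] : ∃ H : Subgroup G, Subgroup.IsComplement' A H := by
  -- minimal H with A ⊔ H = ⊤
  obtain ⟨H, hH, hHmin⟩ := (wellFounded_lt (α := Subgroup G)).has_min {H : Subgroup G | A ⊔ H = ⊤} ⟨⊤, sup_top_eq A⟩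
  have hH' : A ⊔ H = ⊤ := hH
  have hdecomp : ∀ g : G, ∃ a ∈ A, ∃ h ∈ H, a * h = g := by
    intro g
    have : g ∈ A ⊔ H := by rw [hH']; trivial
    exact Subgroup.mem_sup_of_normal_left.mp this
  have hDn : (A ⊓ H).Normal := by
    constructor
    intro d hd g
    obtain ⟨a, ha, h, hh, rfl⟩ := hdecomp g
    have hdA := (Subgroup.mem_inf.mp hd).1
    have hdH := (Subgroup.mem_inf.mp hd).2
    have h1 : h * d * h⁻¹ ∈ A := (inferInstance : A.Normal).conj_mem d hdA h
    have h2 : h * d * h⁻¹ ∈ H := mul_mem (mul_mem hh hdH) (inv_mem hh)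
    have e : a * h * d * (a * h)⁻¹ = a * (h * d * h⁻¹) * a⁻¹ := by group
    have e2 : a * (h * d * h⁻¹) * a⁻¹ = h * d * h⁻¹ := by
      rw [setLike_mul_comm ha h1, mul_inv_cancel_right]
    rw [e, e2]
    exact Subgroup.mem_inf.mpr ⟨h1, h2⟩
  have hD : A ⊓ H = ⊥ := by
    by_contra hne
    have : ∃ M : Subgroup G, IsCoatom M ∧ ¬ (A ⊓ H ≤ M) := by
      by_contra hcon
      push Not at hcon
      apply hne
      rw [eq_bot_iff, ← hΦ]
      unfold frattini Order.radical
      rw [le_iInf₂_iff]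
      exact hcon
    obtain ⟨M, hM, hnle⟩ := this
    have hsup : (A ⊓ H) ⊔ M = ⊤ := by
      apply hM.2
      apply lt_of_le_of_ne le_sup_right
      intro heq
      apply hnle
      rw [heq]
      exact le_sup_left
    have hmem : H ⊓ M ∈ {H : Subgroup G | A ⊔ H = ⊤} := by
      show A ⊔ (H ⊓ M) = ⊤
      rw [eq_top_iff]
      intro g _
      obtain ⟨a, ha, h, hh, rfl⟩ := hdecomp g
      have : h ∈ (A ⊓ H) ⊔ M := by rw [hsup]; trivial
      obtain ⟨d, hd, m, hm, rfl⟩ := Subgroup.mem_sup_of_normal_left.mp this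
      have hdH := (Subgroup.mem_inf.mp hd).2
      have hmH : m ∈ H := by
        have : m = d⁻¹ * (d * m) := by group
        rw [this]; exact mul_mem (inv_mem hdH) hh
      have : a * (d * m) = (a * d) * m := by group
      rw [this]
      exact mul_mem (Subgroup.mem_sup_left (mul_mem ha (Subgroup.mem_inf.mp hd).1))
        (Subgroup.mem_sup_right (Subgroup.mem_inf.mpr ⟨hmH, hm⟩))
    have hnlt := hHmin (H ⊓ M) hmem
    have heq : H ⊓ M = H := by
      by_contra hne2
      exact hnlt (lt_of_le_of_ne inf_le_left hne2)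
    apply hnle
    exact inf_le_right.trans (inf_eq_left.mp heq)
  refine ⟨H, Subgroup.isComplement'_of_disjoint_and_mul_eq_univ (disjoint_iff.mpr hD) ?_⟩
  rw [← Subgroup.normal_mul, hH', Subgroup.coe_top]

end Cfsg.Agent.S0585
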