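import Cfsg.Statements.S0586
import Mathlib
import Cfsg.Prelude.Def_Solvable
import Cfsg.Agent.H1.Basic
import Cfsg.Agent.H1.Cores
import Cfsg.Agent.H1.FrattiniExtra
import Cfsg.Agent.S0575
import Cfsg.Agent.S0585

set_option autoImplicit false
open Cfsg

namespace Cfsg.Agent.S0586

open Cfsg.Agent.H1
open scoped commutatorElement

/-- If the Frattini subgroup of a finite group G is trivial, then the Fitting subgroup of G equals the join of all abelian minimal normal subgroups of G. -/
theorem result {G : Type*} [Group G] [Finite G] (hΦ : frattini G = ⊥) : Cfsg.fittingSubgroup G = sSup {N : Subgroup G | N.Normal ∧ N ≠ ⊥ ∧ IsMulCommutative N ∧ ∀ K : Subgroup G, K.Normal → K ≤ N → K = ⊥ ∨ K = N} := by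
  -- F is abelian
  have hFnil : Group.IsNilpotent (Cfsg.fittingSubgroup G) := fittingSubgroup_nilpotent
  have hΦF : frattini (Cfsg.fittingSubgroup G) = ⊥ := by
    have h1 := Cfsg.Agent.S0575.result (Cfsg.fittingSubgroup G)
    rw [hΦ, le_bot_iff] at h1
    exact (Subgroup.map_eq_bot_iff_of_injective _ (Subgroup.subtype_injective _)).mp h1
  have hFab : IsMulCommutative (Cfsg.fittingSubgroup G) := by
    have h1 : commutator (Cfsg.fittingSubgroup G) ≤ frattini (Cfsg.fittingSubgroup G) :=
      commutator_le_frattini_of_nilpotent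
    rw [hΦF, le_bot_iff] at h1
    constructor; constructor
    intro a b
    rw [← commutatorElement_eq_one_iff_mul_comm]
    have : ⁅a, b⁆ ∈ commutator (Cfsg.fittingSubgroup G) := Subgroup.commutator_mem_commutator (Subgroup.mem_top a) (Subgroup.mem_top b)
    rw [h1] at this
    exact this
  obtain ⟨S, hSdef⟩ : ∃ S : Subgroup G, S = sSup {N : Subgroup G | N.Normal ∧ N ≠ ⊥ ∧ IsMulCommutative N ∧ ∀ K : Subgroup G, K.Normal → K ≤ N → K = ⊥ ∨ K = N} := ⟨_, rfl⟩
  rw [← hSdef]
  have hSn : S.Normal := by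
    rw [hSdef]
    exact Subgroup.sSup_normal _ (fun _ h => h.1)
  have hSF : S ≤ Cfsg.fittingSubgroup G := by
    rw [hSdef]
    apply sSup_le
    rintro N ⟨hN, _, hNab, _⟩
    apply le_fittingSubgroup hN
    have : IsMulCommutative N := hNab
    open scoped IsMulCommutative in
    exact CommGroup.isNilpotent
  have hSab : IsMulCommutative S := by
    apply IsMulCommutative.of_setLike_mul_comm
    intro a ha b hb
    have := hFab
    exact setLike_mul_comm (hSF ha) (hSF hb)
  obtain ⟨H, hH⟩ := Cfsg.Agent.S0585.result hΦ S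
  have hFH : Cfsg.fittingSubgroup G ⊔ H = ⊤ := by
    rw [eq_top_iff, ← hH.sup_eq_top]
    exact sup_le_sup_right hSF H
  have hDn : (Cfsg.fittingSubgroup G ⊓ H).Normal := inf_normal_of_abelian_normal_sup_eq_top _ _ hFH
  have hD : Cfsg.fittingSubgroup G ⊓ H = ⊥ := by
    by_contra hne
    obtain ⟨K, hKn, hKne, hKD, hKmin⟩ := exists_minimal_normal_le (Cfsg.fittingSubgroup G ⊓ H) hne
    have hKab : IsMulCommutative K := by
      apply IsMulCommutative.of_setLike_mul_comm
      intro a ha b hb
      have := hFab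
      exact setLike_mul_comm ((Subgroup.mem_inf.mp (hKD ha)).1) ((Subgroup.mem_inf.mp (hKD hb)).1)
    have hKS : K ≤ S := by
      rw [hSdef]
      exact le_sSup ⟨hKn, hKne, hKab, hKmin⟩
    have hKH : K ≤ H := hKD.trans inf_le_right
    have := hH.disjoint
    rw [disjoint_iff] at this
    apply hKne
    rw [eq_bot_iff, ← this]
    exact le_inf hKS hKH
  apply le_antisymm _ hSF
  intro f hf
  have : f ∈ S ⊔ H := by rw [hH.sup_eq_top]; trivial
  obtain ⟨s, hs, h, hh, rfl⟩ := Subgroup.mem_sup_of_normal_left.mp this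
  have hhF : h ∈ Cfsg.fittingSubgroup G := by
    have : h = s⁻¹ * (s * h) := by group
    rw [this]
    exact mul_mem (inv_mem (hSF hs)) hf
  have : h ∈ Cfsg.fittingSubgroup G ⊓ H := Subgroup.mem_inf.mpr ⟨hhF, hh⟩
  rw [hD, Subgroup.mem_bot] at this
  rw [this, mul_one]
  exact hs

end Cfsg.Agent.S0586
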