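import Cfsg.Statements.S0587
import Mathlib
import Cfsg.Agent.H1.Basic
import Cfsg.Agent.H1.Cores
import Cfsg.Agent.H1.Abelian
import Cfsg.Agent.H1.CoreFree
import Cfsg.Agent.H1.FrattiniExtra
import Cfsg.Agent.H1.MinNonPClosed
import Cfsg.Agent.H1.NormalRankTwo
import Cfsg.Agent.S0549
import Cfsg.Prelude.Def_PLocal
import Cfsg.Agent.H1.CoreFreeP

set_option autoImplicit false
open Cfsg

namespace Cfsg.Agent.S0587

set_option autoImplicit false
open H1

/-- Let G be a finite group whose largest normal p-subgroup L is nontrivial, and M a maximal subgroup of G with trivial normal core. Then L is elementary abelian, M is a complement to L, L is a minimal normal subgroup of G, the centralizer of L is L, and for every prime q such that the largest normal q-subgroup of M is nontrivial, the order of L is congruent to 1 modulo q and q ≠ p. -/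
theorem result {G : Type*} [Group G] [Finite G] (p : ℕ) [Fact p.Prime] (hL : Cfsg.pCore p G ≠ ⊥) (M : Subgroup G) (hM : IsCoatom M) (hcore : M.normalCore = ⊥) : Cfsg.IsElementaryAbelian p (Cfsg.pCore p G) ∧ Subgroup.IsComplement' (Cfsg.pCore p G) M ∧ (∀ K : Subgroup G, K.Normal → K ≤ Cfsg.pCore p G → K = ⊥ ∨ K = Cfsg.pCore p G) ∧ Subgroup.centralizer ((Cfsg.pCore p G : Subgroup G) : Set G) = Cfsg.pCore p G ∧ ∀ (q : ℕ) [Fact q.Prime], Cfsg.pCore q ↥M ≠ ⊥ → Nat.card (Cfsg.pCore p G) % q = 1 % q ∧ q ≠ p := by
  obtain ⟨hLe, hLmin, hLC, hLM, hsup⟩ := pCore_structure_of_corefree_maximal p hL M hM hcore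
  set L : Subgroup G := Cfsg.pCore p G with hLdef
  have hLn : L.Normal := H1.pCore_normal p
  have hLp : IsPGroup p L := H1.pCore_isPGroup p
  refine ⟨hLe, ?_, hLmin, hLC, ?_⟩
  · apply Subgroup.isComplement'_of_disjoint_and_mul_eq_univ (disjoint_iff.mpr hLM)
    rw [← Subgroup.normal_mul, hsup, Subgroup.coe_top]
  · intro q _ hQ
    set Q : Subgroup G := (Cfsg.pCore q ↥M).map M.subtype with hQdef
    have hQM : Q ≤ M := Subgroup.map_subtype_le _
    have hQq : IsPGroup q Q := (H1.pCore_isPGroup q).map _
    have hQne : Q ≠ ⊥ := by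
      rw [hQdef, Ne, Subgroup.map_eq_bot_iff_of_injective _ M.subtype_injective]
      exact hQ
    have hMQ : M ≤ Subgroup.normalizer (Q : Set G) := by
      intro m hm
      apply mem_normalizer_of_conj_mem
      rintro _ ⟨x, hx, rfl⟩
      refine ⟨⟨m, hm⟩ * x * ⟨m, hm⟩⁻¹, ?_, rfl⟩
      exact (H1.pCore_normal q (G := ↥M)).conj_mem x hx ⟨m, hm⟩
    have hQLM : Q ⊓ L = ⊥ := by
      rw [eq_bot_iff, ← hLM]
      exact le_inf inf_le_right (inf_le_left.trans hQM)
    -- `q ≠ p`
    have hqp : q ≠ p := by
      rintro rfl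
      have hsupn : (L ⊔ Q).Normal := by
        rw [← Subgroup.normalizer_eq_top_iff, eq_top_iff, ← hsup]
        apply sup_le
        · exact le_sup_left.trans Subgroup.le_normalizer
        · intro m hm
          apply mem_normalizer_of_conj_mem
          intro b hb
          have hmap : (L ⊔ Q) ≤ (L ⊔ Q).comap (MulAut.conj m).toMonoidHom := by
            apply sup_le
            · intro x hx
              exact le_sup_left (a := L) (b := Q) (hLn.conj_mem x hx m)
            · intro x hx
              exact le_sup_right (a := L) (b := Q) ((Subgroup.mem_normalizer_iff.1 (hMQ hm) x).1 hx)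
          exact hmap hb
      have hsupp : IsPGroup q (L ⊔ Q : Subgroup G) := IsPGroup.to_sup_of_normal_left hLp hQq
      have hle : L ⊔ Q ≤ L := le_pCore hsupn hsupp
      have hQL : Q ≤ L := le_sup_right.trans hle
      apply hQne
      rw [eq_bot_iff, ← hQLM]
      exact le_inf le_rfl hQL
    refine ⟨?_, hqp⟩
    -- fixed points of `Q` on `L`
    set K : Subgroup G := L ⊓ Subgroup.centralizer (Q : Set G) with hKdef
    have hKn : K.Normal := by
      rw [← Subgroup.normalizer_eq_top_iff, eq_top_iff, ← hsup]
      apply sup_le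
      · intro l hl
        apply mem_normalizer_of_conj_mem
        intro b hb
        have hbL : b ∈ L := (Subgroup.mem_inf.1 hb).1
        have : l * b * l⁻¹ = b := by
          have := hLe.1
          have hc : l * b = b * l := setLike_mul_comm hl hbL
          rw [hc]; group
        rw [this]; exact hb
      · intro m hm
        apply mem_normalizer_of_conj_mem
        intro b hb
        rw [hKdef, Subgroup.mem_inf] at hb ⊢
        refine ⟨hLn.conj_mem b hb.1 m, ?_⟩
        rw [Subgroup.mem_centralizer_iff]
        intro x hx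
        have hx' : m⁻¹ * x * m⁻¹⁻¹ ∈ Q := (Subgroup.mem_normalizer_iff.1 (hMQ (inv_mem hm)) x).1 hx
        have h1 := Subgroup.mem_centralizer_iff.1 hb.2 _ hx'
        calc x * (m * b * m⁻¹) = m * ((m⁻¹ * x * m⁻¹⁻¹) * b) * m⁻¹ := by group
          _ = m * (b * (m⁻¹ * x * m⁻¹⁻¹)) * m⁻¹ := by rw [h1]
          _ = m * b * m⁻¹ * x := by group
    have hKbot : K = ⊥ := by
      rcases hLmin K hKn inf_le_left with h | h
      · exact h
      · exfalso
        have hLQ : L ≤ Subgroup.centralizer (Q : Set G) := by rw [← h]; exact inf_le_right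
        have hQL : Q ≤ L := by
          rw [← hLC]
          exact Subgroup.le_centralizer_iff.1 hLQ
        apply hQne
        rw [eq_bot_iff, ← hQLM]
        exact le_inf le_rfl hQL
    -- count
    let Z : Subgroup (MulAut ↥L) := Q.map (MulAut.conjNormal (H := L))
    have hZ : IsPGroup q Z := hQq.map _
    have h1 := hZ.card_modEq_card_fixedPoints ↥L
    have h2 : Nat.card (MulAction.fixedPoints Z ↥L) = Nat.card (FixedPoints.subgroup Z ↥L) := rfl
    have h3 : FixedPoints.subgroup Z ↥L = ⊥ := by
      rw [eq_bot_iff]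
      intro t ht
      rw [FixedPoints.mem_subgroup] at ht
      have htK : (t : G) ∈ K := by
        rw [hKdef, Subgroup.mem_inf]
        refine ⟨t.2, ?_⟩
        rw [Subgroup.mem_centralizer_iff]
        intro x hx
        have h4 := ht ⟨MulAut.conjNormal x, Subgroup.mem_map_of_mem _ hx⟩
        have h5 : (x * (t : G) * x⁻¹ : G) = t := by
          have := congrArg Subtype.val h4
          simpa using this
        calc x * (t : G) = (x * (t : G) * x⁻¹) * x := by group
          _ = t * x := by rw [h5]
      rw [hKbot, Subgroup.mem_bot] at htK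
      rw [Subgroup.mem_bot]
      exact Subtype.ext htK
    rw [h2, h3, Subgroup.card_bot] at h1
    exact h1

end Cfsg.Agent.S0587
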