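import Cfsg.Statements.S0588
import Mathlib
import Cfsg.Agent.H1.Basic

set_option autoImplicit false
open Cfsg

namespace Cfsg.Agent.S0588

open Cfsg.Agent.H1

/-- If a subgroup H of a finite group G contains the centralizer of every non-identity element of H, then the order of H is coprime to its index. -/
theorem result {G : Type*} [Group G] [Finite G] (H : Subgroup G) (h : ∀ x ∈ H, x ≠ 1 → Subgroup.centralizer ({x} : Set G) ≤ H) : (Nat.card H).Coprime H.index := by
  by_contra hnc
  obtain ⟨p, hp, hpH, hpI⟩ := Nat.Prime.not_coprime_iff_dvd.mp hnc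
  have : Fact p.Prime := ⟨hp⟩
  -- a nontrivial p-subgroup of H
  obtain ⟨x, hx⟩ := exists_prime_orderOf_dvd_card' p hpH
  have hx1 : (x : G) ≠ 1 := by
    intro h1
    have : orderOf (x : G) = p := by rw [Subgroup.orderOf_coe]; exact hx
    rw [h1, orderOf_one] at this
    exact hp.one_lt.ne this
  have hpg : IsPGroup p (Subgroup.zpowers (x : G)) := by
    apply IsPGroup.of_card (n := 1)
    rw [Nat.card_zpowers, Subgroup.orderOf_coe, hx, pow_one]
  obtain ⟨P, hP⟩ := hpg.exists_le_sylow
  have hxP : (x : G) ∈ (P : Subgroup G) := hP (Subgroup.mem_zpowers _)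
  -- the center of P is nontrivial
  have hPnt : Nontrivial (P : Subgroup G) := ⟨⟨⟨x, hxP⟩, 1, fun h => hx1 (congrArg Subtype.val h)⟩⟩
  have hZ : Nontrivial (Subgroup.center (P : Subgroup G)) := P.isPGroup'.center_nontrivial
  obtain ⟨z, hz1⟩ := exists_ne (1 : Subgroup.center (P : Subgroup G))
  have hzne : ((z : (P : Subgroup G)) : G) ≠ 1 := by
    intro h1
    apply hz1
    apply Subtype.ext
    apply Subtype.ext
    exact h1
  -- z centralizes x so z ∈ H
  have hzx : ((z : (P : Subgroup G)) : G) ∈ Subgroup.centralizer ({(x : G)} : Set G) := by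
    rw [mem_centralizer_singleton_iff]
    have := Subgroup.mem_center_iff.mp z.2 ⟨x, hxP⟩
    have := congrArg Subtype.val this
    simpa using this.symm
  have hzH : ((z : (P : Subgroup G)) : G) ∈ H := h x x.2 hx1 hzx
  -- P ≤ C(z) ≤ H
  have hPH : (P : Subgroup G) ≤ H := by
    intro y hy
    apply h _ hzH hzne
    rw [mem_centralizer_singleton_iff]
    have := Subgroup.mem_center_iff.mp z.2 ⟨y, hy⟩
    have := congrArg Subtype.val this
    simpa using this
  exact P.not_dvd_index (hpI.trans (Subgroup.index_dvd_of_le hPH))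

end Cfsg.Agent.S0588
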