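import Cfsg.Statements.S0590
import Mathlib
import Cfsg.Agent.H1.Basic
import Cfsg.Prelude.Def_Transfer

set_option autoImplicit false
open Cfsg

namespace Cfsg.Agent.S0590

open Cfsg.Agent.H1
open scoped commutatorElement

/-- Quadratic action on an elementary abelian p-group forces the acting group modulo the kernel of the action to be elementary abelian. -/
theorem result {G : Type*} [Group G] [Finite G] {p : ℕ} [Fact p.Prime] (V H : Subgroup G) (hV : Cfsg.IsElementaryAbelian p V) (hHV : H ≤ Subgroup.normalizer (V : Set G)) (hq : ⁅⁅V, H⁆, H⁆ = ⊥) : ⁅H, H⁆ ≤ Subgroup.centralizer (V : Set G) ∧ ∀ a ∈ H, a ^ p ∈ Subgroup.centralizer (V : Set G) := by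
  obtain ⟨hVc, hVp⟩ := hV
  constructor
  · rw [← Subgroup.commutator_eq_bot_iff_le_centralizer]
    apply Subgroup.commutator_commutator_eq_bot_of_rotate
    · rw [Subgroup.commutator_comm H V]; exact hq
    · exact hq
  · intro a ha
    rw [Subgroup.mem_centralizer_iff]
    intro v hv
    have hv' : v ∈ V := hv
    have haN := hHV ha
    rw [Subgroup.mem_normalizer_iff] at haN
    -- u = a v a⁻¹ v⁻¹ ∈ V commutes with a
    obtain ⟨u, hu⟩ : ∃ u, u = a * v * a⁻¹ * v⁻¹ := ⟨_, rfl⟩
    have huV : u ∈ V := by rw [hu]; exact mul_mem ((haN v).mp hv') (inv_mem hv')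
    have hua : a * u = u * a := by
      have h1 : ⁅v, a⁆ ∈ ⁅V, H⁆ := Subgroup.commutator_mem_commutator hv' ha
      have h2 : ⁅⁅v, a⁆, a⁆ ∈ ⁅⁅V, H⁆, H⁆ := Subgroup.commutator_mem_commutator h1 ha
      rw [hq, Subgroup.mem_bot, commutatorElement_eq_one_iff_mul_comm] at h2
      have h3 : u = (⁅v, a⁆)⁻¹ := by rw [hu, commutatorElement_def]; group
      rw [h3]
      have := h2
      calc a * (⁅v, a⁆)⁻¹ = (⁅v, a⁆)⁻¹ * (⁅v, a⁆ * a) * (⁅v, a⁆)⁻¹ := by group
        _ = (⁅v, a⁆)⁻¹ * (a * ⁅v, a⁆) * (⁅v, a⁆)⁻¹ := by rw [this]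
        _ = (⁅v, a⁆)⁻¹ * a := by group
    have hconj : a * v * a⁻¹ = u * v := by rw [hu]; group
    have hiter : ∀ k : ℕ, a ^ k * v * (a ^ k)⁻¹ = u ^ k * v := by
      intro k
      induction k with
      | zero => simp
      | succ k ih =>
        have h1 : a ^ (k + 1) * v * (a ^ (k + 1))⁻¹ = a * (a ^ k * v * (a ^ k)⁻¹) * a⁻¹ := by
          rw [pow_succ']; group
        rw [h1, ih]
        have h2 : a * (u ^ k * v) * a⁻¹ = (a * u ^ k * a⁻¹) * (a * v * a⁻¹) := by group
        have h3 : a * u ^ k * a⁻¹ = u ^ k := by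
          have : Commute a (u ^ k) := (show Commute a u from hua).pow_right k
          rw [this.eq]; group
        rw [h2, h3, hconj, pow_succ, mul_assoc]
    have h4 := hiter p
    rw [hVp u huV, one_mul] at h4
    calc v * a ^ p = (a ^ p * v * (a ^ p)⁻¹) * a ^ p := by rw [h4]
      _ = a ^ p * v := by group

end Cfsg.Agent.S0590
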