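import Cfsg.Statements.S0591
import Mathlib
import Cfsg.Agent.H1.Basic
import Cfsg.Prelude.Def_Transfer

set_option autoImplicit false
open Cfsg

namespace Cfsg.Agent.S0591

open Cfsg.Agent.H1
open scoped commutatorElement

/-- For a quadratically acting element a on an elementary abelian p-group V, the fixed points C_V(a) have order at least the square root of the order of V. -/
theorem result {G : Type*} [Group G] [Finite G] {p : ℕ} [Fact p.Prime] (V : Subgroup G) (hV : Cfsg.IsElementaryAbelian p V) (a : G) (ha : a ∈ Subgroup.normalizer (V : Set G)) (hq : ⁅⁅V, Subgroup.zpowers a⁆, Subgroup.zpowers a⁆ = ⊥) : Nat.card V ≤ Nat.card ↥(V ⊓ Subgroup.centralizer (Subgroup.zpowers a : Set G)) ^ 2 := by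
  obtain ⟨hVc, hVp⟩ := hV
  have haN := ha
  rw [Subgroup.mem_normalizer_iff] at haN
  have hcent : ∀ x : G, a * x = x * a → x ∈ Subgroup.centralizer (Subgroup.zpowers a : Set G) := by
    intro x hx
    rw [Subgroup.mem_centralizer_iff]
    intro y hy
    obtain ⟨k, rfl⟩ := Subgroup.mem_zpowers_iff.mp hy
    exact ((show Commute a x from hx).zpow_left k).eq
  have hmem : ∀ v ∈ V, ⁅v, a⁆ ∈ V ⊓ Subgroup.centralizer (Subgroup.zpowers a : Set G) := by
    intro v hv
    refine Subgroup.mem_inf.mpr ⟨?_, ?_⟩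
    · have : ⁅v, a⁆ = v * (a * v⁻¹ * a⁻¹) := by rw [commutatorElement_def]; group
      rw [this]
      exact mul_mem hv ((haN _).mp (inv_mem hv))
    · apply hcent
      have h1 : ⁅v, a⁆ ∈ ⁅V, Subgroup.zpowers a⁆ :=
        Subgroup.commutator_mem_commutator hv (Subgroup.mem_zpowers a)
      have h2 : ⁅⁅v, a⁆, a⁆ ∈ ⁅⁅V, Subgroup.zpowers a⁆, Subgroup.zpowers a⁆ :=
        Subgroup.commutator_mem_commutator h1 (Subgroup.mem_zpowers a)
      rw [hq, Subgroup.mem_bot, commutatorElement_eq_one_iff_mul_comm] at h2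
      exact h2.symm
  let f : V →* ↥(V ⊓ Subgroup.centralizer (Subgroup.zpowers a : Set G)) :=
    { toFun := fun v => ⟨⁅(v : G), a⁆, hmem v v.2⟩
      map_one' := by
        apply Subtype.ext
        simp [commutatorElement_def]
      map_mul' := by
        intro x y
        apply Subtype.ext
        simp only [Subgroup.coe_mul]
        -- ⁅xy, a⁆ = x ⁅y,a⁆ x⁻¹ ⁅x,a⁆
        have h1 : ⁅(x : G) * y, a⁆ = x * ⁅(y : G), a⁆ * (x : G)⁻¹ * ⁅(x : G), a⁆ := by
          simp only [commutatorElement_def]; group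
        rw [h1]
        have hyV : ⁅(y : G), a⁆ ∈ V := (Subgroup.mem_inf.mp (hmem y y.2)).1
        have hxV : ⁅(x : G), a⁆ ∈ V := (Subgroup.mem_inf.mp (hmem x x.2)).1
        have h2 : (x : G) * ⁅(y : G), a⁆ = ⁅(y : G), a⁆ * x := setLike_mul_comm x.2 hyV
        rw [h2, mul_inv_cancel_right]
        exact setLike_mul_comm hyV hxV }
  have h1 : Nat.card f.ker * f.ker.index = Nat.card V := Subgroup.card_mul_index f.ker
  have h2 : f.ker.index ≤ Nat.card ↥(V ⊓ Subgroup.centralizer (Subgroup.zpowers a : Set G)) := by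
    rw [Subgroup.index_ker]
    exact Subgroup.card_le_card_group _
  have h3 : Nat.card f.ker ≤ Nat.card ↥(V ⊓ Subgroup.centralizer (Subgroup.zpowers a : Set G)) := by
    have hk : ∀ v : f.ker, ((v : V) : G) ∈ V ⊓ Subgroup.centralizer (Subgroup.zpowers a : Set G) := by
      intro v
      refine Subgroup.mem_inf.mpr ⟨(v : V).2, ?_⟩
      apply hcent
      have := v.2
      rw [MonoidHom.mem_ker] at this
      have h4 : ⁅((v : V) : G), a⁆ = 1 := congrArg Subtype.val this
      rw [commutatorElement_eq_one_iff_mul_comm] at h4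
      exact h4.symm
    apply Nat.card_le_card_of_injective (fun v : f.ker => (⟨((v : V) : G), hk v⟩ : ↥(V ⊓ Subgroup.centralizer (Subgroup.zpowers a : Set G))))
    intro v w hvw
    have := congrArg Subtype.val hvw
    exact Subtype.ext (Subtype.ext this)
  rw [← h1, pow_two]
  exact Nat.mul_le_mul h3 h2

end Cfsg.Agent.S0591
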