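import Cfsg.Statements.S0592
import Mathlib
import Cfsg.Agent.H1.QuadPair

set_option autoImplicit false
open Cfsg

namespace Cfsg.Agent.S0592

set_option autoImplicit false
open H1

/-- Two quadratically acting generators of a linear group that is not a p-group, with the p'-part of the order of their product dividing q - 1, give a homomorphism onto a subgroup of SL(2, q) that is not a p-group. -/
theorem result {K : Type*} [Field K] [Fintype K] {p : ℕ} [Fact p.Prime] [CharP K p] {W : Type*} [AddCommGroup W] [Module K W] [FiniteDimensional K W] [Finite W] [Nontrivial W] (H : Subgroup (W ≃ₗ[K] W)) (a b : W ≃ₗ[K] W) (hH : H = Subgroup.closure {a, b}) (ha : ∀ w : W, a (a w - w) = a w - w) (hb : ∀ w : W, b (b w - w) = b w - w) (hnp : ¬ IsPGroup p H) (hk : ∃ e k : ℕ, orderOf (a * b) = p ^ e * k ∧ k ∣ Fintype.card K - 1) : ∃ φ : H →* Matrix.SpecialLinearGroup (Fin 2) K, ¬ IsPGroup p φ.range := by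
  subst hH
  obtain ⟨e, k, hord, hk⟩ := hk
  obtain ⟨x, hxdef⟩ : ∃ x : Module.End K W, x = (a : W →ₗ[K] W) - 1 := ⟨_, rfl⟩
  obtain ⟨y, hydef⟩ : ∃ y : Module.End K W, y = (b : W →ₗ[K] W) - 1 := ⟨_, rfl⟩
  have hxw : ∀ w, x w = a w - w := by
    intro w; rw [hxdef, LinearMap.sub_apply, LinearEquiv.coe_coe, Module.End.one_apply]
  have hyw : ∀ w, y w = b w - w := by
    intro w; rw [hydef, LinearMap.sub_apply, LinearEquiv.coe_coe, Module.End.one_apply]
  have hxa : ∀ w, a w = w + x w := by intro w; rw [hxw]; abel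
  have hyb : ∀ w, b w = w + y w := by intro w; rw [hyw]; abel
  have hx : x * x = 0 := by
    apply LinearMap.ext
    intro w
    rw [Module.End.mul_apply, hxw (x w), hxw w, ha w, sub_self, LinearMap.zero_apply]
  have hy : y * y = 0 := by
    apply LinearMap.ext
    intro w
    rw [Module.End.mul_apply, hyw (y w), hyw w, hb w, sub_self, LinearMap.zero_apply]
  have hg : ((a * b : W ≃ₗ[K] W) : W →ₗ[K] W) ^ (p ^ e * k) = 1 := by
    have h1 : ((a * b) ^ (p ^ e * k) : W ≃ₗ[K] W) = 1 := by rw [← hord]; exact pow_orderOf_eq_one _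
    have h2 := congrArg (LinearEquiv.automorphismGroup.toLinearMapMonoidHom (R := K) (M := W)) h1
    rw [map_pow, map_one] at h2
    exact h2
  rcases exists_eigenvector_or_unipotent (p := p) _ e k hk hg with ⟨w, hw, l, hl, hgw⟩ | ⟨N, hN⟩
  · exact exists_sl2_hom_of_eigenvector a b x y hxa hyb hx hy w hw l hl hgw
  · exfalso
    apply hnp
    exact isPGroup_closure_of_quad_nilpotent a b x y hxa hyb hx hy N
      (quad_t_nilpotent a b x y hxa hyb hx hy N hN)

end Cfsg.Agent.S0592
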