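import Cfsg.Statements.S0594
import Mathlib
import Cfsg.Agent.S0025
import Cfsg.Agent.S0016
import Cfsg.Agent.Lib.Lead.QuatSylowSL23
import Cfsg.Agent.Lib.Lead.PSolvable
import Cfsg.Agent.H1.QuadStable
import Cfsg.Agent.H1.CoprimeAction
import Cfsg.Agent.Lib.Helper4.SolvPSolv
import Cfsg.Agent.H1.QuadThree

set_option autoImplicit false
open Cfsg

namespace Cfsg.Agent.S0594

set_option autoImplicit false
set_option linter.style.haveILetI false
set_option linter.unusedVariables false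
set_option linter.unusedSectionVars false
open scoped commutatorElement Pointwise
open H1

/-- For odd p, two quadratic generators of a faithful group that is not a p-group, one of which acts nontrivially on a normal subgroup of order prime to p, force p = 3 and a section isomorphic to SL(2,3). -/
theorem result {G : Type*} [Group G] [Finite G] {p : ℕ} [Fact p.Prime] (hp : p ≠ 2) (V H : Subgroup G) (hV : Cfsg.IsElementaryAbelian p V) (hHV : H ≤ Subgroup.normalizer (V : Set G)) (hf : H ⊓ Subgroup.centralizer (V : Set G) = ⊥) (a b : G) (hab : H = Subgroup.closure {a, b}) (ha : ⁅⁅V, Subgroup.zpowers a⁆, Subgroup.zpowers a⁆ = ⊥) (hb : ⁅⁅V, Subgroup.zpowers b⁆, Subgroup.zpowers b⁆ = ⊥) (hnp : ¬ IsPGroup p H) (Q : Subgroup G) (hQH : Q ≤ H) (hQn : H ≤ Subgroup.normalizer (Q : Set G)) (hQ : (Nat.card Q).Coprime p) (hQa : ⁅Q, Subgroup.zpowers a⁆ ≠ ⊥) : p = 3 ∧ ∃ (K L : Subgroup G) (hL : (L.subgroupOf K).Normal), K ≤ H ∧ Nonempty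 ((K ⧸ L.subgroupOf K) ≃* Matrix.SpecialLinearGroup (Fin 2) (ZMod 3)) := by
  classical
  have hpp : p.Prime := Fact.out
  have haH : a ∈ H := by rw [hab]; exact Subgroup.subset_closure (Set.mem_insert _ _)
  have hap : a ^ p = 1 := by
    have h1 := quadratic_pow_mem_centralizer V hV a (hHV haH) ha
    have h2 : a ^ p ∈ H ⊓ Subgroup.centralizer (V : Set G) := Subgroup.mem_inf.mpr ⟨H.pow_mem haH _, h1⟩
    rw [hf, Subgroup.mem_bot] at h2
    exact h2
  obtain ⟨H₁, hH₁⟩ : ∃ H₁ : Subgroup G, H₁ = Q ⊔ Subgroup.zpowers a := ⟨_, rfl⟩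
  have hH₁H : H₁ ≤ H := by
    rw [hH₁]
    exact sup_le hQH (by rw [Subgroup.zpowers_le]; exact haH)
  have haH₁ : a ∈ H₁ := by rw [hH₁]; exact Subgroup.mem_sup_right (Subgroup.mem_zpowers a)
  have hQH₁ : Q ≤ H₁ := by rw [hH₁]; exact le_sup_left
  have hCQ : Subgroup.zpowers a ≤ Subgroup.normalizer (Q : Set G) := by
    rw [Subgroup.zpowers_le]; exact hQn haH
  have hCcard := card_zpowers_dvd_prime a hap
  have hcop : (Nat.card Q).Coprime (Nat.card ↥(Subgroup.zpowers a)) :=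
    Nat.Coprime.coprime_dvd_right hCcard hQ
  have hcard := card_sup_of_le_normalizer_coprime Q (Subgroup.zpowers a) hCQ hcop
  rw [← hH₁] at hcard
  haveI hQ'n : (Q.subgroupOf H₁).Normal :=
    (Subgroup.normal_subgroupOf_iff_le_normalizer hQH₁).mpr (hH₁H.trans hQn)
  have hcardQ' : Nat.card ↥(Q.subgroupOf H₁) = Nat.card Q :=
    Nat.card_congr (Subgroup.subgroupOfEquivOfLe hQH₁).toEquiv
  have hidx : (Q.subgroupOf H₁).index = Nat.card ↥(Subgroup.zpowers a) := by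
    have h1 := (Q.subgroupOf H₁).card_mul_index
    rw [hcardQ', hcard] at h1
    exact Nat.eq_of_mul_eq_mul_left Nat.card_pos h1
  have hsol : Cfsg.IsPSolvable p ↥H₁ := by
    apply Cfsg.Agent.Lib.Helper4.SolvPSolv.isPSolvable_of_quotient (Q.subgroupOf H₁)
      (Or.inr (by rw [hcardQ']; exact hQ))
    apply Cfsg.Agent.Lib.Helper4.SolvPSolv.isPSolvable_of_quotient (⊤ : Subgroup (↥H₁ ⧸ Q.subgroupOf H₁))
    · left
      rw [Subgroup.card_top]
      have h1 : Nat.card (↥H₁ ⧸ Q.subgroupOf H₁) = Nat.card ↥(Subgroup.zpowers a) := hidx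
      rw [h1]
      rcases (Nat.dvd_prime hpp).mp hCcard with h | h
      · exact ⟨0, by rw [h, pow_zero]⟩
      · exact ⟨1, by rw [h, pow_one]⟩
    · haveI : Subsingleton ((↥H₁ ⧸ Q.subgroupOf H₁) ⧸ (⊤ : Subgroup (↥H₁ ⧸ Q.subgroupOf H₁))) :=
        QuotientGroup.subsingleton_quotient_top
      exact Cfsg.Agent.Lib.Helper4.SolvPSolv.isPSolvable_of_subsingleton p
  have hf₁ : H₁ ⊓ Subgroup.centralizer (V : Set G) = ⊥ := by
    rw [eq_bot_iff, ← hf]
    exact inf_le_inf_right _ hH₁H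
  have hna : a ∉ (Cfsg.pCore p ↥H₁).map H₁.subtype := by
    intro hmem
    apply hQa
    rw [eq_bot_iff, Subgroup.commutator_le]
    intro q hq c hc
    rw [Subgroup.mem_bot]
    -- `c ∈ O_p(H₁)` and `[q, c] ∈ Q ∩ O_p(H₁) = 1`
    haveI hOn : (Cfsg.pCore p ↥H₁).Normal := Cfsg.Agent.H1.pCore_normal p
    have hOp : IsPGroup p ↥(Cfsg.pCore p ↥H₁) := Cfsg.Agent.H1.pCore_isPGroup p
    have hcO : c ∈ (Cfsg.pCore p ↥H₁).map H₁.subtype := by
      obtain ⟨j, rfl⟩ := Subgroup.mem_zpowers_iff.mp hc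
      exact Subgroup.zpow_mem _ hmem j
    have hcN : c ∈ Subgroup.normalizer (Q : Set G) := hCQ hc
    have h1 : ⁅q, c⁆ ∈ Q := by
      rw [commutatorElement_def]
      have : c * q⁻¹ * c⁻¹ ∈ Q := (Subgroup.mem_normalizer_iff.mp hcN q⁻¹).mp (Q.inv_mem hq)
      have e : q * c * q⁻¹ * c⁻¹ = q * (c * q⁻¹ * c⁻¹) := by group
      rw [e]
      exact Q.mul_mem hq this
    have h2 : ⁅q, c⁆ ∈ (Cfsg.pCore p ↥H₁).map H₁.subtype := by
      obtain ⟨c', hc', rfl⟩ := hcO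
      refine ⟨⟨q, hQH₁ hq⟩ * c' * ⟨q, hQH₁ hq⟩⁻¹ * c'⁻¹, ?_, ?_⟩
      · exact (Cfsg.pCore p ↥H₁).mul_mem (hOn.conj_mem c' hc' _) ((Cfsg.pCore p ↥H₁).inv_mem hc')
      · rw [commutatorElement_def]
        rfl
    have hdisj : Disjoint Q ((Cfsg.pCore p ↥H₁).map H₁.subtype) := by
      apply Subgroup.disjoint_of_coprime_natCard
      obtain ⟨k, hk⟩ := IsPGroup.iff_card.mp (hOp.map H₁.subtype)
      rw [hk]
      exact Nat.Coprime.pow_right k hQ
    exact Subgroup.disjoint_def.mp hdisj h1 h2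
  obtain ⟨h3, K, L, hL, hK, e⟩ := quad_not_pstable_three hp V H₁ hV (hH₁H.trans hHV) hf₁ hsol a haH₁ ha hna
  exact ⟨h3, K, L, hL, hK.trans hH₁H, e⟩

end Cfsg.Agent.S0594
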