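import Cfsg.Statements.S0595
import Mathlib
import Cfsg.Prelude.Def_Transfer
import Cfsg.Prelude.Def_PLocal
import Cfsg.Agent.H1.BaerSuzuki
import Cfsg.Agent.S0593
import Cfsg.Agent.H1.QuadBS

set_option autoImplicit false
open Cfsg

namespace Cfsg.Agent.S0595

set_option autoImplicit false
open H1
open scoped commutatorElement Pointwise

/-- For odd p, a faithful action on an elementary abelian p-group that is not p-stable forces non-abelian Sylow 2-subgroups. -/
theorem result {G : Type*} [Group G] [Finite G] {p : ℕ} [Fact p.Prime] (hp : p ≠ 2) (V H : Subgroup G) (hV : Cfsg.IsElementaryAbelian p V) (hHV : H ≤ Subgroup.normalizer (V : Set G)) (hf : H ⊓ Subgroup.centralizer (V : Set G) = ⊥) (a : G) (haH : a ∈ H) (hq : ⁅⁅V, Subgroup.zpowers a⁆, Subgroup.zpowers a⁆ = ⊥) (hna : a ∉ (Cfsg.pCore p H).map H.subtype) (T : Sylow 2 H) : ¬ IsMulCommutative T := by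
  classical
  haveI : Fact (Nat.Prime 2) := ⟨Nat.prime_two⟩
  by_cases hex : ∃ h ∈ H, ¬ IsPGroup p ↥(Subgroup.closure ({a, h * a * h⁻¹} : Set G))
  · obtain ⟨h, hh, hnp⟩ := hex
    obtain ⟨H₀, hH₀⟩ : ∃ H₀ : Subgroup G, H₀ = Subgroup.closure {a, h * a * h⁻¹} := ⟨_, rfl⟩
    have hH₀H : H₀ ≤ H := by
      rw [hH₀, Subgroup.closure_le]
      intro x hx
      rcases hx with rfl | hx
      · exact haH
      · rw [Set.mem_singleton_iff] at hx
        rw [hx]
        exact H.mul_mem (H.mul_mem hh haH) (H.inv_mem hh)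
    have hf₀ : H₀ ⊓ Subgroup.centralizer (V : Set G) = ⊥ := by
      rw [eq_bot_iff, ← hf]
      exact inf_le_inf_right _ hH₀H
    obtain ⟨T₀⟩ : Nonempty (Sylow 2 ↥H₀) := inferInstance
    rw [← hH₀] at hnp
    have h1 := Cfsg.Agent.S0593.result hp V H₀ hV (hH₀H.trans hHV) hf₀ a (h * a * h⁻¹) hH₀ hq
      (quadratic_conj V a h (hHV hh) hq) hnp T₀
    intro hT
    apply h1
    -- transfer commutativity
    obtain ⟨K, hK⟩ : ∃ K : Subgroup ↥H, K = H₀.subgroupOf H := ⟨_, rfl⟩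
    obtain ⟨e, he⟩ : ∃ e : ↥H₀ ≃* ↥K, e = (Subgroup.subgroupOfEquivOfLe hH₀H).symm.trans
        (MulEquiv.subgroupCongr hK.symm) := ⟨_, rfl⟩
    have hcomm := sylow_comm_of_le T (fun x y hx hy => by
      have := hT.is_comm.comm ⟨x, hx⟩ ⟨y, hy⟩
      exact congrArg Subtype.val this) K (T₀.comapOfInjective e.symm.toMonoidHom e.symm.injective
        (by rw [MonoidHom.range_eq_top.mpr e.symm.surjective]; exact le_top))
    refine ⟨⟨fun u v => ?_⟩⟩
    have h2 := hcomm (e u.1) (e v.1) (by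
      show e.symm (e u.1) ∈ T₀
      rw [MulEquiv.symm_apply_apply]; exact u.2) (by
      show e.symm (e v.1) ∈ T₀
      rw [MulEquiv.symm_apply_apply]; exact v.2)
    apply Subtype.ext
    apply e.injective
    show e (u.1 * v.1) = e (v.1 * u.1)
    rw [map_mul, map_mul]
    exact h2
  · exfalso
    push Not at hex
    apply hna
    obtain ⟨a₀, ha₀⟩ : ∃ a₀ : ↥H, a₀ = ⟨a, haH⟩ := ⟨_, rfl⟩
    have hmain : ∀ g : ↥H, IsPGroup p ↥(Subgroup.zpowers a₀ ⊔ MulAut.conj g • Subgroup.zpowers a₀) := by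
      intro g
      rw [zpowers_sup_conj_eq_closure]
      apply isPGroup_of_map_subtype
      rw [MonoidHom.map_closure, Set.image_pair]
      have := hex g.1 g.2
      rw [ha₀]
      exact this
    have hXp : IsPGroup p ↥(Subgroup.zpowers a₀) := IsPGroup.to_le (hmain 1) le_sup_left
    obtain ⟨N, hNn, hNp, hXN⟩ := baer_suzuki (Subgroup.zpowers a₀) hXp hmain
    refine ⟨a₀, ?_, by rw [ha₀]; rfl⟩
    have h1 : N ≤ Cfsg.pCore p ↥H := le_sSup ⟨hNn, hNp⟩
    exact h1 (hXN (Subgroup.mem_zpowers _))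

end Cfsg.Agent.S0595
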