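import Cfsg.Statements.S0598
import Mathlib
import Cfsg.Agent.Lib.Lead.Replacement

set_option autoImplicit false
open Cfsg

namespace Cfsg.Agent.S0598

open scoped Pointwise commutatorElement
open Cfsg.Agent.Lib.Lead

/-- Thompson's replacement dichotomy: for A acting with abelian image on an elementary abelian p-group V and U ≤ V, either some subgroup of A increases the product of its order with the order of its fixed points, or C_A([U,A]) preserves that product and has fixed points exactly [U,A]C_V(A). -/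
theorem result {G : Type*} [Group G] [Finite G] {p : ℕ} [Fact p.Prime] (V A : Subgroup G) (hV : Cfsg.IsElementaryAbelian p V) (hAV : A ≤ Subgroup.normalizer (V : Set G)) (hab : ⁅A, A⁆ ≤ Subgroup.centralizer (V : Set G)) (U : Subgroup G) (hU : U ≤ V) : ∃ B : Subgroup G, B ≤ A ∧ ((Nat.card A * Nat.card ↥(V ⊓ Subgroup.centralizer (A : Set G)) < Nat.card B * Nat.card ↥(V ⊓ Subgroup.centralizer (B : Set G))) ∨ (B = A ⊓ Subgroup.centralizer ((⁅U, A⁆ : Subgroup G) : Set G) ∧ (V ⊓ Subgroup.centralizer (B : Set G)) = ⁅U, A⁆ ⊔ (V ⊓ Subgroup.centralizer (A : Set G)) ∧ Nat.card A * Nat.card ↥(V ⊓ Subgroup.centralizer (A : Set G)) = Nat.card B * Nat.card ↥(V ⊓ Subgroup.centralizer (B : Set G)))) := by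
  classical
  have habV : ∀ x ∈ V, ∀ y ∈ V, x * y = y * x := by
    intro x hx y hy
    have := hV.1.is_comm.comm (⟨x, hx⟩ : ↥V) ⟨y, hy⟩
    exact congrArg Subtype.val this
  by_cases hmax : ∀ B : Subgroup G, B ≤ A → Replacement.mm V B ≤ Replacement.mm V A
  · obtain ⟨h1, h2⟩ := Replacement.all_sets habV hAV hab hmax (U : Set G) hU
    have hW : Replacement.WW A (U : Set G) = ⁅U, A⁆ := rfl
    have hB : Replacement.BB A (U : Set G) =
        A ⊓ Subgroup.centralizer ((⁅U, A⁆ : Subgroup G) : Set G) := by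
      rw [Replacement.BB_eq, hW]
    refine ⟨A ⊓ Subgroup.centralizer ((⁅U, A⁆ : Subgroup G) : Set G), inf_le_left,
      Or.inr ⟨rfl, ?_, ?_⟩⟩
    · rw [← hB, ← hW]
      exact h2
    · rw [← hB]
      exact h1.symm
  · push Not at hmax
    obtain ⟨B, hBA, hlt⟩ := hmax
    exact ⟨B, hBA, Or.inl hlt⟩

end Cfsg.Agent.S0598
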