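import Cfsg.Statements.S0603
import Mathlib
import Cfsg.Agent.H1.Basic
import Cfsg.Agent.H1.Thompson
import Cfsg.Prelude.Def_Transfer

set_option autoImplicit false
open Cfsg

namespace Cfsg.Agent.S0603

open Cfsg.Agent.H1

/-- The Thompson subgroup of any subgroup containing J(G) is J(G) itself. -/
theorem result {G : Type*} [Group G] [Finite G] {p : ℕ} [Fact p.Prime] (U : Subgroup G) (hU : Cfsg.thompsonSubgroup p G ≤ U) : Cfsg.thompsonSubgroupOf p U = Cfsg.thompsonSubgroup p G := by
  obtain ⟨A₀, hA₀⟩ := maxElementaryAbelian_nonempty (G := G) p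
  have hA₀U : A₀ ≤ U := (le_thompsonSubgroup hA₀).trans hU
  unfold Cfsg.thompsonSubgroupOf
  apply le_antisymm
  · rw [Subgroup.map_le_iff_le_comap]
    apply sSup_le
    intro B hB
    rw [← Subgroup.map_le_iff_le_comap]
    exact le_thompsonSubgroup (map_mem_maxElementaryAbelian U hB hA₀ hA₀U)
  · apply sSup_le
    intro A hA
    have hAU : A ≤ U := (le_thompsonSubgroup hA).trans hU
    have h1 := subgroupOf_mem_maxElementaryAbelian U hA hAU
    have h2 : (A.subgroupOf U).map U.subtype = A := Subgroup.map_subgroupOf_eq_of_le hAU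
    rw [← h2]
    exact Subgroup.map_mono (le_thompsonSubgroup h1)

end Cfsg.Agent.S0603
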