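import Cfsg.Statements.S0605
import Mathlib
import Cfsg.Agent.H1.Basic
import Cfsg.Agent.H1.Thompson
import Cfsg.Prelude.Def_Transfer

set_option autoImplicit false
open Cfsg

namespace Cfsg.Agent.S0605

open Cfsg.Agent.H1

/-- Elements of order p in the centralizer of the Thompson subgroup belong to the Thompson subgroup (so to its centre). -/
theorem result {G : Type*} [Group G] [Finite G] {p : ℕ} [Fact p.Prime] (x : G) (hx : x ∈ Subgroup.centralizer (Cfsg.thompsonSubgroup p G : Set G)) (ho : orderOf x = p) : x ∈ Cfsg.thompsonSubgroup p G := by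
  obtain ⟨A, hA⟩ := maxElementaryAbelian_nonempty (G := G) p
  have hAJ := le_thompsonSubgroup hA
  have hxA : x ∈ Subgroup.centralizer (A : Set G) := Subgroup.centralizer_le hAJ hx
  have hxp : x ^ p = 1 := by rw [← ho, pow_orderOf_eq_one]
  exact hAJ (mem_of_mem_centralizer_maxElementaryAbelian hA x hxA hxp)

end Cfsg.Agent.S0605
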