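import Cfsg.Statements.S0609
import Mathlib
import Cfsg.Agent.H1.Basic
import Cfsg.Agent.H1.Card
import Cfsg.Agent.H1.Cores
import Cfsg.Agent.H1.Thompson
import Cfsg.Agent.H1.CoprimeAction
import Cfsg.Agent.H1.MinNonPClosed
import Cfsg.Agent.H1.PStableQuot
import Cfsg.Agent.H1.ZJFactor
import Cfsg.Agent.H1.ThompsonFact
import Cfsg.Agent.H2.PPrimeCore
import Cfsg.Agent.Lib.Lead.TISylow
import Cfsg.Agent.Lib.Helper7.Thompson
import Cfsg.Prelude.Def_PLocal
import Cfsg.Agent.H1.ThompsonFactQuot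

set_option autoImplicit false
open Cfsg

namespace Cfsg.Agent.S0609

set_option autoImplicit false
open H1

/-- Thompson factorizability passes to and from the quotient by the largest normal subgroup of order prime to p. -/
theorem result {G : Type*} [Group G] [Finite G] {p : ℕ} [Fact p.Prime] : Cfsg.IsThompsonFactorizable p G ↔ Cfsg.IsThompsonFactorizable p (G ⧸ Cfsg.pPrimeCore p G) := by
  set K : Subgroup G := Cfsg.pPrimeCore p G with hKdef
  have hK : (Nat.card K).Coprime p := pPrimeCore_coprime p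
  have hπ : Function.Surjective (QuotientGroup.mk' K) := QuotientGroup.mk'_surjective K
  have hbot : Cfsg.pPrimeCore p (G ⧸ K) = ⊥ := H2.pPrimeCore_quotient_eq_bot p
  have hinj : ∀ S : Sylow p G, ∀ x ∈ (S : Subgroup G), QuotientGroup.mk' K x = 1 → x = 1 := by
    intro S x hx hx1
    have h1 : x ∈ K := (QuotientGroup.eq_one_iff x).1 hx1
    have h2 : x ∈ K ⊓ (S : Subgroup G) := ⟨h1, hx⟩
    rw [inf_eq_bot_of_pgroup_coprime K _ S.isPGroup' hK, Subgroup.mem_bot] at h2
    exact h2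
  have hZ : ∀ S : Sylow p G, Cfsg.omegaOne p (((Sylow.mapSurjective hπ S : Sylow p (G ⧸ K)) : Subgroup (G ⧸ K)) ⊓
      Subgroup.centralizer (((Sylow.mapSurjective hπ S : Sylow p (G ⧸ K)) : Subgroup (G ⧸ K)) : Set (G ⧸ K))) =
      (Cfsg.omegaOne p ((S : Subgroup G) ⊓ Subgroup.centralizer ((S : Subgroup G) : Set G))).map
        (QuotientGroup.mk' K) := by
    intro S
    rw [Sylow.coe_mapSurjective]
    exact omegaOne_center_map _ _ (hinj S)
  have hJ : ∀ S : Sylow p G, Cfsg.thompsonSubgroupOf p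
      ((Sylow.mapSurjective hπ S : Sylow p (G ⧸ K)) : Subgroup (G ⧸ K)) =
      (Cfsg.thompsonSubgroupOf p (S : Subgroup G)).map (QuotientGroup.mk' K) := by
    intro S
    rw [Sylow.coe_mapSurjective]
    exact thompsonSubgroupOf_map _ _ (hinj S)
  constructor
  · intro hF Sbar gbar
    obtain ⟨S, rfl⟩ := Sylow.mapSurjective_surjective hπ p Sbar
    obtain ⟨g, rfl⟩ := hπ gbar
    obtain ⟨x, hx, c, hc, n, hn, rfl⟩ := hF S g
    refine ⟨1, one_mem _, QuotientGroup.mk' K c, ?_, QuotientGroup.mk' K n, ?_, ?_⟩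
    · rw [hZ S]
      exact map_mk_mem_centralizer K _ hc
    · rw [hJ S]
      exact map_mk_mem_normalizer K _ hn
    · rw [map_mul, map_mul, one_mul]
      have : QuotientGroup.mk' K x = 1 := (QuotientGroup.eq_one_iff x).2 hx
      rw [this, one_mul]
  · intro hF S g
    obtain ⟨xbar, hxbar, cbar, hcbar, nbar, hnbar, hg⟩ := hF (Sylow.mapSurjective hπ S) (QuotientGroup.mk' K g)
    rw [hbot, Subgroup.mem_bot] at hxbar
    subst hxbar
    rw [one_mul] at hg
    rw [hZ S] at hcbar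
    rw [hJ S] at hnbar
    obtain ⟨c', rfl⟩ := hπ cbar
    obtain ⟨n', rfl⟩ := hπ nbar
    have hZp : IsPGroup p ↥(Cfsg.omegaOne p ((S : Subgroup G) ⊓ Subgroup.centralizer ((S : Subgroup G) : Set G))) := by
      apply S.isPGroup'.to_le
      rw [Cfsg.omegaOne, Subgroup.closure_le]
      rintro x ⟨⟨hxS, -⟩, -⟩
      exact hxS
    have hJp : IsPGroup p ↥(Cfsg.thompsonSubgroupOf p (S : Subgroup G)) :=
      S.isPGroup'.to_le (Lib.Helper7.thompsonSubgroupOf_le _)
    obtain ⟨c, hc, hcc⟩ := exists_mem_centralizer_map_mk_eq K _ hZp hK hcbar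
    obtain ⟨n, hn, hnn⟩ := exists_mem_normalizer_map_mk_eq K _ hJp hK hnbar
    refine ⟨g * (c * n)⁻¹, ?_, c, hc, n, hn, by group⟩
    rw [← QuotientGroup.eq_one_iff, ← QuotientGroup.mk'_apply, map_mul, map_inv, map_mul, hcc, hnn, hg,
      mul_inv_cancel]

end Cfsg.Agent.S0609
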