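import Cfsg.Statements.S0618
import Mathlib
import Cfsg.Agent.Lib.Helper4.FFThompson

set_option autoImplicit false
open Cfsg
open scoped commutatorElement

namespace Cfsg.Agent.S0618


/-- A p-separable group with trivial p'-core in which the Thompson factorization fails has p = 2 or 3, and J(G) induces on the normal closure of Ω₁(Z(S)) a group containing a normal SL(2, p). -/
theorem result {G : Type*} [Group G] [Finite G] {p : ℕ} [Fact p.Prime] (hsep : Cfsg.IsPSolvable p G) (hO : Cfsg.pPrimeCore p G = ⊥) (hnf : ¬ Cfsg.IsThompsonFactorizable p G) : (p = 2 ∨ p = 3) ∧ ∃ E : Subgroup G, Subgroup.centralizer ((⨆ S : Sylow p G, Cfsg.omegaOne p ((S : Subgroup G) ⊓ Subgroup.centralizer ((S : Subgroup G) : Set G))) : Set G) ≤ E ∧ E ≤ Cfsg.thompsonSubgroup p G ⊔ Subgroup.centralizer ((⨆ S : Sylow p G, Cfsg.omegaOne p ((S : Subgroup G) ⊓ Subgroup.centralizer ((S : Subgroup G) : Set G))) : Set G) ∧ Cfsg.thompsonSubgroup p G ⊔ Subgroup.centralizer ((⨆ S : Sylow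 p G, Cfsg.omegaOne p ((S : Subgroup G) ⊓ Subgroup.centralizer ((S : Subgroup G) : Set G))) : Set G) ≤ Subgroup.normalizer (E : Set G) ∧ ∃ hn : ((Subgroup.centralizer ((⨆ S : Sylow p G, Cfsg.omegaOne p ((S : Subgroup G) ⊓ Subgroup.centralizer ((S : Subgroup G) : Set G))) : Set G)).subgroupOf E).Normal, Nonempty ((↥E ⧸ (Subgroup.centralizer ((⨆ S : Sylow p G, Cfsg.omegaOne p ((S : Subgroup G) ⊓ Subgroup.centralizer ((S : Subgroup G) : Set G))) : Set G)).subgroupOf E) ≃* Matrix.SpecialLinearGroup (Fin 2) (ZMod p)) := by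
  have hc := Cfsg.Agent.Lib.Lead.PSolvable.centralizer_pCore_le hsep hO
  obtain ⟨hVn, hV, hD⟩ := Cfsg.Agent.S0601.result (G := G) (p := p) hc
  haveI := hVn
  haveI hJn : (Cfsg.thompsonSubgroup p G).Normal :=
    @Subgroup.normal_of_characteristic _ _ _ (Cfsg.Agent.S0602.result (G := G) (p := p)).1
  have hJne : ¬ Cfsg.thompsonSubgroup p G ≤ Subgroup.centralizer
      ((⨆ S : Sylow p G, Cfsg.omegaOne p ((S : Subgroup G) ⊓
        Subgroup.centralizer ((S : Subgroup G) : Set G)) : Subgroup G) : Set G) :=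
    fun h => hnf ((Cfsg.Agent.S0608.result hO).2 h)
  have hJ : Cfsg.thompsonSubgroup p G ≤ ⨆ A : {A : Subgroup G // A ≤ Cfsg.thompsonSubgroup p G ∧
      Cfsg.IsBestOffenderOn p (⨆ S : Sylow p G, Cfsg.omegaOne p ((S : Subgroup G) ⊓
        Subgroup.centralizer ((S : Subgroup G) : Set G))) A}, (A : Subgroup G) := by
    apply sSup_le
    intro A hA
    exact le_iSup (fun A' : {A : Subgroup G // A ≤ Cfsg.thompsonSubgroup p G ∧
      Cfsg.IsBestOffenderOn p (⨆ S : Sylow p G, Cfsg.omegaOne p ((S : Subgroup G) ⊓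
        Subgroup.centralizer ((S : Subgroup G) : Set G))) A} => (A' : Subgroup G))
      ⟨A, le_sSup hA, Cfsg.Agent.S0606.result _ hV A hA⟩
  have hQ := Cfsg.Agent.Lib.Helper4.FFHol.noPCore_of_relIndex _ hD
  have e : Subgroup.centralizer ((⨆ S : Sylow p G, Cfsg.omegaOne p ((S : Subgroup G) ⊓
      Subgroup.centralizer ((S : Subgroup G) : Set G))) : Set G) =
      Subgroup.centralizer ((⨆ S : Sylow p G, Cfsg.omegaOne p ((S : Subgroup G) ⊓
        Subgroup.centralizer ((S : Subgroup G) : Set G)) : Subgroup G) : Set G) := by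
    rw [Subgroup.iSup_eq_closure, Subgroup.centralizer_closure, Set.iSup_eq_iUnion]
  rw [e]
  exact Cfsg.Agent.Lib.Helper4.FFHol.exists_component _ hV _ hJ
    (Cfsg.Agent.Lib.Helper4.FFHol.hS1_of _ _ hsep hQ) hJne

end Cfsg.Agent.S0618
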