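import Cfsg.Statements.S0620
import Cfsg.Agent.H1.FFX3

set_option autoImplicit false
open Cfsg

namespace Cfsg.Agent.S0620

open Cfsg.Agent.H1.FFX Cfsg.Agent.Lib.Helper4.Offender Cfsg.Agent.Lib.Helper4.FFPair

/-- Under coprime action of an elementary abelian q-group X on a p-separable group K with trivial p'-core, K is generated by the normalizer of J(S), the centralizer of Ω₁(Z(S)) and the fixed points of X. -/
theorem result {G : Type*} [Group G] [Finite G] {p : ℕ} [Fact p.Prime] {q : ℕ} [Fact q.Prime] (K X : Subgroup G) (hXK : X ≤ Subgroup.normalizer (K : Set G)) (hX : Cfsg.IsElementaryAbelian q X) (hq : ¬ q ∣ Nat.card K) (hsep : Cfsg.IsPSolvable p ↥K) (hO : Cfsg.pPrimeCore p ↥K = ⊥) (S : Sylow p ↥K) : (Subgroup.normalizer (Cfsg.thompsonSubgroupOf p (S : Subgroup ↥K) : Set ↥K) ⊔ Subgroup.centralizer (Cfsg.omegaOne p ((S : Subgroup ↥K) ⊓ Subgroup.centralizer ((S : Subgroup ↥K) : Set ↥K)) : Set ↥K) ⊔ (Subgroup.centralizer (X : Set G)).subgroupOf K) = ⊤ := by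
  have hXp : IsPGroup q X := isPGroup_of_elem hX
  obtain ⟨m, hm⟩ := IsPGroup.iff_card.1 hXp
  have hcop : (Nat.card X).Coprime (Nat.card K) := by
    rw [hm]
    exact Nat.Coprime.pow_left m ((Nat.Prime.coprime_iff_not_dvd Fact.out).2 hq)
  have hcopY : (Nat.card (indAut K X)).Coprime (Nat.card ↥K) :=
    Nat.Coprime.coprime_dvd_left (card_indAut_dvd K X) hcop
  have hs := setup hsep hO (indAut K X) hcopY
    (fun j hj => lift_indAut K X hXK hcop (isSolvable_of_elem hX) _ j hj)
  have h1 := gen_top (indAut K X) hs S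
  rw [fixPts_indAut K X hXK] at h1
  exact h1

end Cfsg.Agent.S0620
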