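import Cfsg.Statements.S0621
import Cfsg.Agent.H1.FFX5

set_option autoImplicit false
open Cfsg

namespace Cfsg.Agent.S0621

open Cfsg.Agent.H1.FFX Cfsg.Agent.Lib.Helper4.Offender Cfsg.Agent.Lib.Helper4.FFPair

/-- Let K be p-separable with O_p'(K) = 1, normalized by an elementary abelian q-group X for a prime q not dividing the order of K. If the Thompson factorization fails in K, then p is 2 or 3 and the fixed points of X contain a plane W of order p² and a subgroup inducing SL(2, p) on it. -/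
theorem result {G : Type*} [Group G] [Finite G] {p : ℕ} [Fact p.Prime] {q : ℕ} [Fact q.Prime] (K X : Subgroup G) (hXK : X ≤ Subgroup.normalizer (K : Set G)) (hX : Cfsg.IsElementaryAbelian q X) (hq : ¬ q ∣ Nat.card K) (hsep : Cfsg.IsPSolvable p ↥K) (hO : Cfsg.pPrimeCore p ↥K = ⊥) (hnf : ¬ Cfsg.IsThompsonFactorizable p ↥K) : (p = 2 ∨ p = 3) ∧ ∃ W D : Subgroup G, W ≤ K ⊓ Subgroup.centralizer (X : Set G) ∧ D ≤ K ⊓ Subgroup.centralizer (X : Set G) ∧ Cfsg.IsElementaryAbelian p W ∧ Nat.card W = p ^ 2 ∧ D ≤ Subgroup.normalizer (W : Set G) ∧ ∃ hn : ((Subgroup.centralizer (W : Set G)).subgroupOf D).Normal, Nonempty ((↥D ⧸ (Subgroup.centralizer (W : Set G)).subgroupOf D) ≃* Matrix.SpecialLinearGroup (Fin 2) (ZMod p)) := by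
  have hXp : IsPGroup q X := isPGroup_of_elem hX
  obtain ⟨m, hm⟩ := IsPGroup.iff_card.1 hXp
  have hcop : (Nat.card X).Coprime (Nat.card K) := by
    rw [hm]
    exact Nat.Coprime.pow_left m ((Nat.Prime.coprime_iff_not_dvd Fact.out).2 hq)
  have hcopY : (Nat.card (indAut K X)).Coprime (Nat.card ↥K) :=
    Nat.Coprime.coprime_dvd_left (card_indAut_dvd K X) hcop
  have hs := setup hsep hO (indAut K X) hcopY
    (fun j hj => lift_indAut K X hXK hcop (isSolvable_of_elem hX) _ j hj)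
  have hne : ¬ Cfsg.thompsonSubgroup p ↥K ≤ Subgroup.centralizer (Vof p ↥K : Set ↥K) :=
    fun h => hnf ((Cfsg.Agent.S0608.result hO).2 h)
  obtain ⟨hp, W, D, hWfix, hDfix, hWel, hWcard, hDN, hn, ⟨e⟩⟩ := exists_sl2 (indAut K X) hs hne
  rw [fixPts_indAut K X hXK] at hWfix hDfix
  have hN : ∀ k ∈ D, k ∈ Subgroup.centralizer (W : Set ↥K) ↔
      K.subtype k ∈ Subgroup.centralizer ((W.map K.subtype : Subgroup G) : Set G) := by
    intro k _
    rw [Subgroup.mem_centralizer_iff, Subgroup.mem_centralizer_iff]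
    constructor
    · rintro hk y ⟨w, hw, rfl⟩
      exact congrArg Subtype.val (hk w hw)
    · intro hk w hw
      apply Subtype.ext
      exact hk (w : G) ⟨w, hw, rfl⟩
  refine ⟨hp, W.map K.subtype, D.map K.subtype, ?_, ?_, ?_, ?_, ?_, ?_⟩
  · rintro y ⟨w, hw, rfl⟩
    exact Subgroup.mem_inf.2 ⟨w.2, Subgroup.mem_subgroupOf.1 (hWfix hw)⟩
  · rintro y ⟨d, hd, rfl⟩
    exact Subgroup.mem_inf.2 ⟨d.2, Subgroup.mem_subgroupOf.1 (hDfix hd)⟩
  · exact Cfsg.Agent.H1.isElementaryAbelian_map K.subtype hWel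
  · rw [Subgroup.card_map_of_injective K.subtype_injective]
    exact hWcard
  · rintro y ⟨k, hk, rfl⟩
    have h1 := mem_normalizer_of_hom (K.subtype.comp D.subtype) (W.map K.subtype) ?_ ⟨k, hk⟩
    · exact h1
    · rintro ⟨k, hk⟩ y ⟨w, hw, rfl⟩
      exact ⟨k * w * k⁻¹, (Subgroup.mem_normalizer_iff.1 (hDN hk) w).1 hw, rfl⟩
  · exact quot_transport' K.subtype D (Subgroup.centralizer (W : Set ↥K)) (D.map K.subtype)
      (Subgroup.centralizer ((W.map K.subtype : Subgroup G) : Set G)) rfl hN hn e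

end Cfsg.Agent.S0621
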