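import Cfsg.Statements.S0622
import Mathlib
import Cfsg.Agent.H1.Basic
import Cfsg.Agent.H1.Thompson
import Cfsg.Prelude.Def_PLocal
import Cfsg.Agent.H1.StableNormalClosure

set_option autoImplicit false
universe u
open Cfsg

namespace Cfsg.Agent.S0622

set_option autoImplicit false
open H1

/-- Basic properties of the stable normal closure W(S) of Ω₁(Z(S)) in a finite p-group: characteristic, squeezed between Ω₁(Z(S)) and Ω₁(Z(J(S))), nontrivial for S ≠ 1, and transported by group isomorphisms. -/
theorem result {S : Type u} [Group S] [Finite S] {p : ℕ} [Fact p.Prime] (hS : IsPGroup p S) : (Cfsg.stableNormalClosure p S).Characteristic ∧ Cfsg.omegaOne p (Subgroup.center S) ≤ Cfsg.stableNormalClosure p S ∧ Cfsg.stableNormalClosure p S ≤ Cfsg.omegaCenterThompson p S ∧ (Nontrivial S → Cfsg.stableNormalClosure p S ≠ ⊥) ∧ ∀ (S' : Type u) [Group S'] (η : S ≃* S'), (Cfsg.stableNormalClosure p S).map η.toMonoidHom = Cfsg.stableNormalClosure p S' := by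
  have h2 : Cfsg.omegaOne p (Subgroup.center S) ≤ Cfsg.stableNormalClosure p S := by
    rw [stableNormalClosure_eq]
    apply le_sInf
    intro W hW
    exact hW.1
  refine ⟨?_, h2, ?_, ?_, ?_⟩
  · rw [Subgroup.characteristic_iff_map_eq]
    intro φ
    exact stableNormalClosure_map_equiv φ
  · rw [stableNormalClosure_eq]
    apply sInf_le
    refine ⟨omegaOne_center_le_omegaCenterThompson, ?_⟩
    intro H _ τ hτ
    exact omegaCenterThompson_map_normal τ hτ.1 hτ.2.2.2.2.1
  · intro hnt hbot
    have hp : p.Prime := Fact.out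
    have : Nontrivial (Subgroup.center S) := hS.center_nontrivial
    have hZp : IsPGroup p (Subgroup.center S) := hS.to_subgroup _
    obtain ⟨n, hn⟩ := IsPGroup.iff_card.mp hZp
    have hn0 : n ≠ 0 := by
      intro h0
      rw [h0, pow_zero] at hn
      have := Finite.one_lt_card (α := Subgroup.center S)
      omega
    have hdvd : p ∣ Nat.card (Subgroup.center S) := by rw [hn]; exact dvd_pow_self p hn0
    obtain ⟨x, hxo⟩ := exists_prime_orderOf_dvd_card' p hdvd
    have hx1 : (x : S) ∈ Cfsg.omegaOne p (Subgroup.center S) := by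
      apply Subgroup.subset_closure
      refine ⟨x.2, ?_⟩
      have : x ^ p = 1 := by rw [← hxo, pow_orderOf_eq_one]
      have h3 := congrArg Subtype.val this
      simpa using h3
    have hx2 := h2 hx1
    rw [hbot, Subgroup.mem_bot] at hx2
    have hx3 : x = 1 := Subtype.ext hx2
    rw [hx3, orderOf_one] at hxo
    exact hp.one_lt.ne hxo
  · intro S' _ η
    have : Finite S' := Finite.of_equiv S η.toEquiv
    exact stableNormalClosure_map_equiv η

end Cfsg.Agent.S0622
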