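import Cfsg.Statements.S0623
import Mathlib
import Cfsg.Prelude.Def_PLocal
import Cfsg.Agent.H1.Basic
import Cfsg.Agent.H1.Cores
import Cfsg.Agent.H1.Thompson
import Cfsg.Agent.H1.StableNormalClosure
import Cfsg.Agent.H1.SncQuad

set_option autoImplicit false
open Cfsg

namespace Cfsg.Agent.S0623

set_option autoImplicit false
set_option linter.style.haveILetI false
set_option linter.unusedVariables false
set_option linter.unusedSectionVars false
open scoped commutatorElement
open H1

/-- No element of a finite p-group acts quadratically and nontrivially on the stable normal closure W(S). -/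
theorem result {S : Type*} [Group S] [Finite S] {p : ℕ} [Fact p.Prime] (hS : IsPGroup p S) (x : S) (hq : ⁅⁅Cfsg.stableNormalClosure p S, Subgroup.zpowers x⁆, Subgroup.zpowers x⁆ = ⊥) : ⁅Cfsg.stableNormalClosure p S, Subgroup.zpowers x⁆ = ⊥ := by
  rw [Subgroup.commutator_eq_bot_iff_le_centralizer]
  intro w hw
  have h1 := stableNormalClosure_le_centralizer_quad (p := p) hw
  rw [mem_centralizer_zpowers_iff']
  exact (Subgroup.mem_centralizer_iff.mp h1 x hq).symm

end Cfsg.Agent.S0623
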