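import Cfsg.Statements.S0627
import Mathlib
import Cfsg.Prelude.Def_PLocal
import Cfsg.Agent.H1.SncNormal
import Cfsg.Agent.H1.PStableQuot
import Cfsg.Agent.H2.PPrimeCore
import Cfsg.Agent.Lib.Lead.PSolvable
import Cfsg.Agent.S0624
import Cfsg.Agent.S0625
import Cfsg.Agent.H1.SncQuot

set_option autoImplicit false
open Cfsg

namespace Cfsg.Agent.S0627

set_option autoImplicit false
set_option linter.style.haveILetI false
set_option linter.unusedVariables false
set_option linter.unusedSectionVars false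
open scoped commutatorElement
open H1

/-- In a p-separable group with p at least 5, the normalizer of W(S) supplements the largest normal subgroup of order prime to p. -/
theorem result {G : Type*} [Group G] [Finite G] {p : ℕ} [Fact p.Prime] (hp : 5 ≤ p) (hsep : Cfsg.IsPSolvable p G) (S : Sylow p G) : Cfsg.pPrimeCore p G ⊔ Subgroup.normalizer (((Cfsg.stableNormalClosure p ↥(S : Subgroup G)).map (S : Subgroup G).subtype) : Set G) = ⊤ := by
  have hKc : (Nat.card ↥(Cfsg.pPrimeCore p G)).Coprime p := pPrimeCore_coprime p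
  haveI hKn : (Cfsg.pPrimeCore p G).Normal := Cfsg.Agent.H1.pPrimeCore_normal p
  have hsurj := QuotientGroup.mk'_surjective (Cfsg.pPrimeCore p G)
  have hsolq : Cfsg.IsPSolvable p (G ⧸ Cfsg.pPrimeCore p G) :=
    Cfsg.Agent.Lib.Lead.PSolvable.IsPSolvable.quotient _ hsep
  have hbot : Cfsg.pPrimeCore p (G ⧸ Cfsg.pPrimeCore p G) = ⊥ :=
    Cfsg.Agent.H2.pPrimeCore_quotient_eq_bot p
  have hcq := Cfsg.Agent.Lib.Lead.PSolvable.centralizer_pCore_le hsolq hbot
  have hstq := Cfsg.Agent.S0625.result hp hsolq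
  have hnorm := Cfsg.Agent.S0624.result hstq hcq (S.mapSurjective hsurj)
  rw [Sylow.coe_mapSurjective] at hnorm
  have hinj : ∀ x ∈ (S : Subgroup G), QuotientGroup.mk' (Cfsg.pPrimeCore p G) x = 1 → x = 1 := by
    intro x hx h1
    have h2 : x ∈ Cfsg.pPrimeCore p G := (QuotientGroup.eq_one_iff x).1 h1
    have h3 : x ∈ Cfsg.pPrimeCore p G ⊓ (S : Subgroup G) := ⟨h2, hx⟩
    rw [inf_eq_bot_of_pgroup_coprime _ _ S.isPGroup' hKc, Subgroup.mem_bot] at h3
    exact h3
  rw [stableNormalClosure_map_of_injOn _ _ hinj] at hnorm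
  obtain ⟨WG, hWGdef⟩ : ∃ WG : Subgroup G,
      WG = (Cfsg.stableNormalClosure p ↥(S : Subgroup G)).map (S : Subgroup G).subtype := ⟨_, rfl⟩
  rw [← hWGdef] at hnorm ⊢
  have hWp : IsPGroup p ↥WG := by
    rw [hWGdef]
    exact S.isPGroup'.to_le (Subgroup.map_subtype_le _)
  have hn : (Cfsg.pPrimeCore p G ⊔ WG).Normal := by
    have h1 : (WG.map (QuotientGroup.mk' (Cfsg.pPrimeCore p G))).comap
        (QuotientGroup.mk' (Cfsg.pPrimeCore p G)) = Cfsg.pPrimeCore p G ⊔ WG := by
      rw [Subgroup.comap_map_eq, QuotientGroup.ker_mk', sup_comm]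
    rw [← h1]
    exact Subgroup.Normal.comap hnorm _
  have := normalizer_sup_eq_top_of_coprime (Cfsg.pPrimeCore p G) _ hWp hKc hn
  rw [sup_comm]
  exact this

end Cfsg.Agent.S0627
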