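import Cfsg.Statements.S0628
import Mathlib
import Cfsg.Prelude.Def_PLocal
import Cfsg.Agent.H1.SncNormal
import Cfsg.Agent.H1.SncQuot
import Cfsg.Agent.H1.PStableQuot
import Cfsg.Agent.H1.GTStructure
import Cfsg.Agent.H1.ThompsonNPC
import Cfsg.Agent.H1.SncNPC

set_option autoImplicit false
open Cfsg

namespace Cfsg.Agent.S0628

set_option autoImplicit false
set_option linter.style.haveILetI false
set_option linter.unusedVariables false
set_option linter.unusedSectionVars false
open scoped commutatorElement
open H1

/-- The normal p-complement Theorem of Thompson in the form with W(S): for odd p, G has a normal p-complement as soon as the normalizer of the characteristic subgroup W(S) of a Sylow p-subgroup S has one. -/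
theorem result {G : Type*} [Group G] [Finite G] {p : ℕ} [Fact p.Prime] (hp : p ≠ 2) (S : Sylow p G) (hN : Cfsg.HasNormalPComplement p ↥(Subgroup.normalizer (((Cfsg.stableNormalClosure p ↥(S : Subgroup G)).map (S : Subgroup G).subtype) : Set G))) : Cfsg.HasNormalPComplement p G := by
  rw [← Cfsg.Agent.Lib.Helper4.PNil.pnil_top_iff]
  rw [← Cfsg.Agent.Lib.Helper4.PNil.pnil_iff_hasNormalPComplement] at hN
  exact snc_tnpc_all hp (Nat.card G) G rfl S hN

end Cfsg.Agent.S0628
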