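import Cfsg.Statements.S0661
import Mathlib
import Cfsg.Agent.H1.Cores
import Cfsg.Agent.S3800
import Cfsg.Agent.Lib.Helper7.PQLemma

set_option autoImplicit false
open Cfsg

namespace Cfsg.Agent.S0661

theorem eq_one_of_pow_of_dvd {H : Type*} [Group H] {p : ℕ} (hp : p.Prime) {c : H} {j n : ℕ}
    (h1 : c ^ p ^ j = 1) (h2 : orderOf c ∣ n) (hn : n.Coprime p) : c = 1 := by
  have d1 := orderOf_dvd_of_pow_eq_one h1
  have hc : (p ^ j).Coprime n := Nat.Coprime.pow_left j hn.symm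
  exact orderOf_eq_one_iff.1 (Nat.eq_one_of_dvd_coprimes hc d1 h2)

theorem orderOf_dvd_card_of_mem {H : Type*} [Group H] {Q : Subgroup H} {c : H} (hc : c ∈ Q) :
    orderOf c ∣ Nat.card ↥Q := by
  have := orderOf_dvd_natCard (⟨c, hc⟩ : ↥Q)
  rwa [Subgroup.orderOf_mk] at this

/-- If, modulo the largest normal subgroup of order prime to p, the largest normal p-subgroup contains its centralizer, then for every p-subgroup P the p'-core of N_G(P) is just O_p'(G) ∩ N_G(P). -/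
theorem result {G : Type*} [Group G] [Finite G] {p : ℕ} [Fact p.Prime] (hc : Subgroup.centralizer (Cfsg.pCore p (G ⧸ Cfsg.pPrimeCore p G) : Set (G ⧸ Cfsg.pPrimeCore p G)) ≤ Cfsg.pCore p (G ⧸ Cfsg.pPrimeCore p G)) (P : Subgroup G) (hP : IsPGroup p P) : (Cfsg.pPrimeCore p ↥(Subgroup.normalizer (P : Set G))).map (Subgroup.normalizer (P : Set G)).subtype = Cfsg.pPrimeCore p G ⊓ Subgroup.normalizer (P : Set G) := by
  have hp : p.Prime := Fact.out
  haveI hKn : (Cfsg.pPrimeCore p G).Normal := Cfsg.Agent.H1.pPrimeCore_normal p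
  have hKc : (Nat.card ↥(Cfsg.pPrimeCore p G)).Coprime p := Cfsg.Agent.H1.pPrimeCore_coprime p
  set N := Subgroup.normalizer (P : Set G) with hN
  haveI hDn : (Cfsg.pPrimeCore p ↥N).Normal := Cfsg.Agent.H1.pPrimeCore_normal p
  have hDc : (Nat.card ↥(Cfsg.pPrimeCore p ↥N)).Coprime p := Cfsg.Agent.H1.pPrimeCore_coprime p
  set D' : Subgroup G := (Cfsg.pPrimeCore p ↥N).map N.subtype with hD'
  have hD'c : (Nat.card ↥D').Coprime p := by
    rw [hD', Subgroup.card_map_of_injective N.subtype_injective]; exact hDc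
  have hD'N : D' ≤ N := Subgroup.map_subtype_le _
  -- `D'` is normalized by `N`
  have hD'conj : ∀ u ∈ N, ∀ d ∈ D', u * d * u⁻¹ ∈ D' := by
    rintro u hu _ ⟨d, hd, rfl⟩
    exact ⟨⟨u, hu⟩ * d * ⟨u, hu⟩⁻¹, hDn.conj_mem d hd ⟨u, hu⟩, rfl⟩
  apply le_antisymm
  · refine le_inf ?_ hD'N
    -- `D'` centralizes `P`
    have hcomm : ∀ d ∈ D', ∀ x ∈ P, d * x = x * d := by
      intro d hd x hx
      have hxN : x ∈ N := Subgroup.le_normalizer hx
      have h1 : d * x * d⁻¹ * x⁻¹ ∈ P :=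
        mul_mem ((Subgroup.mem_normalizer_iff.1 (hD'N hd) x).1 hx) (inv_mem hx)
      have h2 : d * x * d⁻¹ * x⁻¹ ∈ D' := by
        have := hD'conj x hxN d⁻¹ (inv_mem hd)
        have e : d * x * d⁻¹ * x⁻¹ = d * (x * d⁻¹ * x⁻¹) := by group
        rw [e]; exact mul_mem hd this
      obtain ⟨j, hj⟩ := hP ⟨_, h1⟩
      have hj' : (d * x * d⁻¹ * x⁻¹) ^ p ^ j = 1 := by
        have := congrArg Subtype.val hj
        simpa using this
      have h3 := eq_one_of_pow_of_dvd hp hj' (orderOf_dvd_card_of_mem h2) hD'c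
      calc d * x = (d * x * d⁻¹ * x⁻¹) * (x * d) := by group
        _ = x * d := by rw [h3, one_mul]
    -- pass to the quotient
    haveI hRn : (Cfsg.pCore p (G ⧸ Cfsg.pPrimeCore p G)).Normal := Cfsg.Agent.H1.pCore_normal p
    have hRp : IsPGroup p ↥(Cfsg.pCore p (G ⧸ Cfsg.pPrimeCore p G)) := Cfsg.Agent.H1.pCore_isPGroup p
    have hPbar : IsPGroup p ↥(P.map (QuotientGroup.mk' (Cfsg.pPrimeCore p G))) := hP.map _
    have hQbar : (Nat.card ↥(D'.map (QuotientGroup.mk' (Cfsg.pPrimeCore p G)))).Coprime p :=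
      Nat.Coprime.coprime_dvd_left (Subgroup.card_map_dvd D' _) hD'c
    have hPQ : P.map (QuotientGroup.mk' (Cfsg.pPrimeCore p G)) ≤
        Subgroup.centralizer ((D'.map (QuotientGroup.mk' (Cfsg.pPrimeCore p G)) : Subgroup _) : Set _) := by
      rintro _ ⟨x, hx, rfl⟩
      rw [Subgroup.mem_centralizer_iff]
      rintro _ ⟨d, hd, rfl⟩
      rw [← map_mul, ← map_mul, hcomm d hd x hx]
    have h3800 := (Cfsg.Agent.S3800.result (Cfsg.pPrimeCore p G) hKc P hP).2
    have hC : Cfsg.pCore p (G ⧸ Cfsg.pPrimeCore p G) ⊓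
        Subgroup.centralizer ((P.map (QuotientGroup.mk' (Cfsg.pPrimeCore p G)) : Subgroup _) : Set _) ≤
        Subgroup.centralizer ((D'.map (QuotientGroup.mk' (Cfsg.pPrimeCore p G)) : Subgroup _) : Set _) := by
      intro ubar hubar
      obtain ⟨hu1, hu2⟩ := Subgroup.mem_inf.1 hubar
      rw [h3800] at hu2
      obtain ⟨u, hu, rfl⟩ := hu2
      have huN : u ∈ N := Subgroup.centralizer_le_normalizer _ hu
      rw [Subgroup.mem_centralizer_iff]
      rintro _ ⟨d, hd, rfl⟩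
      have hc1 : u * d * u⁻¹ * d⁻¹ ∈ D' := mul_mem (hD'conj u huN d hd) (inv_mem hd)
      have hc2 : QuotientGroup.mk' (Cfsg.pPrimeCore p G) (u * d * u⁻¹ * d⁻¹) ∈
          Cfsg.pCore p (G ⧸ Cfsg.pPrimeCore p G) := by
        have h1 := hRn.conj_mem _ (inv_mem hu1) (QuotientGroup.mk' (Cfsg.pPrimeCore p G) d)
        have h2 := mul_mem hu1 h1
        have e : QuotientGroup.mk' (Cfsg.pPrimeCore p G) (u * d * u⁻¹ * d⁻¹) =
            QuotientGroup.mk' (Cfsg.pPrimeCore p G) u * (QuotientGroup.mk' (Cfsg.pPrimeCore p G) d *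
              (QuotientGroup.mk' (Cfsg.pPrimeCore p G) u)⁻¹ *
              (QuotientGroup.mk' (Cfsg.pPrimeCore p G) d)⁻¹) := by
          simp only [map_mul, map_inv, mul_assoc]
        rw [e]; exact h2
      obtain ⟨j, hj⟩ := hRp ⟨_, hc2⟩
      have hj' : (QuotientGroup.mk' (Cfsg.pPrimeCore p G) (u * d * u⁻¹ * d⁻¹)) ^ p ^ j = 1 := by
        have := congrArg Subtype.val hj
        simpa using this
      have hord : orderOf (QuotientGroup.mk' (Cfsg.pPrimeCore p G) (u * d * u⁻¹ * d⁻¹)) ∣ Nat.card ↥D' :=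
        dvd_trans (orderOf_map_dvd _ _) (orderOf_dvd_card_of_mem hc1)
      have h1 := eq_one_of_pow_of_dvd hp hj' hord hD'c
      have h2 : QuotientGroup.mk' (Cfsg.pPrimeCore p G) u * QuotientGroup.mk' (Cfsg.pPrimeCore p G) d *
          (QuotientGroup.mk' (Cfsg.pPrimeCore p G) u)⁻¹ *
          (QuotientGroup.mk' (Cfsg.pPrimeCore p G) d)⁻¹ = 1 := by
        rw [← h1]; simp only [map_mul, map_inv]
      calc QuotientGroup.mk' (Cfsg.pPrimeCore p G) d * QuotientGroup.mk' (Cfsg.pPrimeCore p G) u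
          = (QuotientGroup.mk' (Cfsg.pPrimeCore p G) u * QuotientGroup.mk' (Cfsg.pPrimeCore p G) d *
            (QuotientGroup.mk' (Cfsg.pPrimeCore p G) u)⁻¹ *
            (QuotientGroup.mk' (Cfsg.pPrimeCore p G) d)⁻¹)⁻¹ *
            (QuotientGroup.mk' (Cfsg.pPrimeCore p G) u * QuotientGroup.mk' (Cfsg.pPrimeCore p G) d) := by group
        _ = QuotientGroup.mk' (Cfsg.pPrimeCore p G) u * QuotientGroup.mk' (Cfsg.pPrimeCore p G) d := by
            rw [h2]; group
    have hnormR : ∀ X : Subgroup (G ⧸ Cfsg.pPrimeCore p G),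
        X ≤ Subgroup.normalizer ((Cfsg.pCore p (G ⧸ Cfsg.pPrimeCore p G) : Subgroup _) : Set _) := by
      intro X
      rw [Subgroup.normalizer_eq_top]; exact le_top
    have hpq := Cfsg.Agent.Lib.Helper7.pq_lemma p _ _ hPbar hQbar hPQ _ _ rfl hRp (hnormR _) (hnormR _) hC
    intro d hd
    have h1 : QuotientGroup.mk' (Cfsg.pPrimeCore p G) d ∈ Cfsg.pCore p (G ⧸ Cfsg.pPrimeCore p G) :=
      hc (hpq (Subgroup.mem_map_of_mem _ hd))
    obtain ⟨j, hj⟩ := hRp ⟨_, h1⟩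
    have hj' : (QuotientGroup.mk' (Cfsg.pPrimeCore p G) d) ^ p ^ j = 1 := by
      have := congrArg Subtype.val hj
      simpa using this
    have hord : orderOf (QuotientGroup.mk' (Cfsg.pPrimeCore p G) d) ∣ Nat.card ↥D' :=
      dvd_trans (orderOf_map_dvd _ _) (orderOf_dvd_card_of_mem hd)
    have h2 := eq_one_of_pow_of_dvd hp hj' hord hD'c
    exact (QuotientGroup.eq_one_iff d).1 h2
  · intro x hx
    obtain ⟨hxK, hxN⟩ := Subgroup.mem_inf.1 hx
    have hsub : (Cfsg.pPrimeCore p G).subgroupOf N ≤ Cfsg.pPrimeCore p ↥N := by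
      apply Cfsg.Agent.H1.le_pPrimeCore (hKn.subgroupOf N)
      have h1 : Nat.card ↥((Cfsg.pPrimeCore p G).subgroupOf N) ∣ Nat.card ↥(Cfsg.pPrimeCore p G) := by
        have e := Subgroup.subgroupOfEquivOfLe (inf_le_right : Cfsg.pPrimeCore p G ⊓ N ≤ N)
        rw [Subgroup.inf_subgroupOf_right] at e
        rw [Nat.card_congr e.toEquiv]
        exact Subgroup.card_dvd_of_le inf_le_left
      exact Nat.Coprime.coprime_dvd_left h1 hKc
    exact ⟨⟨x, hxN⟩, hsub (Subgroup.mem_subgroupOf.2 hxK), rfl⟩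

end Cfsg.Agent.S0661
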