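import Cfsg.Statements.S0631
import Mathlib
import Cfsg.Agent.H1.Cores
import Cfsg.Agent.S3800
import Cfsg.Agent.S0630
import Cfsg.Agent.S0661
import Cfsg.Agent.Lib.Helper7.PQLemma

set_option autoImplicit false
open Cfsg

namespace Cfsg.Agent.S0631

theorem core {G₀ : Type*} [Group G₀] [Finite G₀] {p : ℕ} [Fact p.Prime]
    (hc : Subgroup.centralizer ((Cfsg.pCore p G₀ : Subgroup G₀) : Set G₀) ≤ Cfsg.pCore p G₀)
    (P H : Subgroup G₀) (hP : IsPGroup p P) (hCH : Subgroup.centralizer (P : Set G₀) ≤ H)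
    (hHN : H ≤ Subgroup.normalizer (P : Set G₀)) (hor : P ≤ H ∨ H ≤ Subgroup.centralizer (P : Set G₀)) :
    Subgroup.centralizer ((Cfsg.pCore p ↥H : Subgroup ↥H) : Set ↥H) ≤ Cfsg.pCore p ↥H := by
  classical
  have hp : p.Prime := Fact.out
  haveI hQn : (Cfsg.pCore p G₀).Normal := Cfsg.Agent.H1.pCore_normal p
  have hQp : IsPGroup p ↥(Cfsg.pCore p G₀) := Cfsg.Agent.H1.pCore_isPGroup p
  haveI hTn : (Cfsg.pCore p ↥H).Normal := Cfsg.Agent.H1.pCore_normal p
  have hTp : IsPGroup p ↥(Cfsg.pCore p ↥H) := Cfsg.Agent.H1.pCore_isPGroup p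
  haveI hXn : (Subgroup.centralizer ((Cfsg.pCore p ↥H : Subgroup ↥H) : Set ↥H)).Normal :=
    Subgroup.normal_centralizer
  apply Cfsg.Agent.H1.le_pCore hXn
  -- the centralizer is a p-group
  set X := Subgroup.centralizer ((Cfsg.pCore p ↥H : Subgroup ↥H) : Set ↥H) with hX
  -- Q ∩ H ≤ T
  have hQH : (Cfsg.pCore p G₀).subgroupOf H ≤ Cfsg.pCore p ↥H := by
    apply Cfsg.Agent.H1.le_pCore (hQn.subgroupOf H)
    exact hQp.comap_subtype
  have hcard : Nat.card X = p ^ (Nat.card X).primeFactorsList.length := by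
    apply Nat.eq_prime_pow_of_unique_prime_dvd Nat.card_pos.ne'
    intro q hq hqd
    by_contra hqp
    haveI : Fact q.Prime := ⟨hq⟩
    obtain ⟨y, hy⟩ := exists_prime_orderOf_dvd_card' (G := X) q hqd
    set y₀ : G₀ := ((y : ↥H) : G₀) with hy₀
    have hy₀ord : orderOf y₀ = q := by
      rw [hy₀, Subgroup.orderOf_coe, Subgroup.orderOf_coe, hy]
    have hycent : ∀ t : ↥H, t ∈ Cfsg.pCore p ↥H → (t : G₀) * y₀ = y₀ * (t : G₀) := by
      intro t ht
      have := (Subgroup.mem_centralizer_iff.mp y.2) t ht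
      exact congrArg Subtype.val this
    have hYcop : (Nat.card ↥(Subgroup.zpowers y₀)).Coprime p := by
      rw [Nat.card_zpowers, hy₀ord]
      exact (Nat.coprime_primes hq hp).mpr hqp
    have hPY : P ≤ Subgroup.centralizer ((Subgroup.zpowers y₀ : Subgroup G₀) : Set G₀) := by
      rw [Subgroup.le_centralizer_iff, Subgroup.zpowers_le]
      rw [Subgroup.mem_centralizer_iff]
      intro x hx
      rcases hor with hPH | hHC
      · have hPn : (P.subgroupOf H).Normal :=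
          (Subgroup.normal_subgroupOf_iff_le_normalizer hPH).mpr hHN
        have hPT : P.subgroupOf H ≤ Cfsg.pCore p ↥H :=
          Cfsg.Agent.H1.le_pCore hPn hP.comap_subtype
        exact hycent ⟨x, hPH hx⟩ (hPT (Subgroup.mem_subgroupOf.mpr hx))
      · have : y₀ ∈ Subgroup.centralizer (P : Set G₀) := hHC (y : ↥H).2
        exact (Subgroup.mem_centralizer_iff.mp this) x hx
    have hnormQ : ∀ Z : Subgroup G₀, Z ≤ Subgroup.normalizer ((Cfsg.pCore p G₀ : Subgroup G₀) : Set G₀) := by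
      intro Z
      rw [Subgroup.normalizer_eq_top]; exact le_top
    have hiii : Cfsg.pCore p G₀ ⊓ Subgroup.centralizer (P : Set G₀) ≤
        Subgroup.centralizer ((Subgroup.zpowers y₀ : Subgroup G₀) : Set G₀) := by
      intro u hu
      obtain ⟨hu1, hu2⟩ := Subgroup.mem_inf.mp hu
      have huH : u ∈ H := hCH hu2
      have huT : (⟨u, huH⟩ : ↥H) ∈ Cfsg.pCore p ↥H := hQH (Subgroup.mem_subgroupOf.mpr hu1)
      have h1 := hycent ⟨u, huH⟩ huT
      have h2 : Subgroup.zpowers y₀ ≤ Subgroup.centralizer ({u} : Set G₀) := by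
        rw [Subgroup.zpowers_le, Subgroup.mem_centralizer_iff]
        intro v hv
        rw [Set.mem_singleton_iff] at hv
        rw [hv]; exact h1
      rw [Subgroup.mem_centralizer_iff]
      intro z hz
      have := (Subgroup.mem_centralizer_iff.mp (h2 hz)) u rfl
      exact this.symm
    have hpq := Cfsg.Agent.Lib.Helper7.pq_lemma p P (Subgroup.zpowers y₀) hP hYcop hPY _ _ rfl hQp
      (hnormQ _) (hnormQ _) hiii
    have hyQ : y₀ ∈ Cfsg.pCore p G₀ := by
      apply hc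
      have h1 : Cfsg.pCore p G₀ ≤ Subgroup.centralizer ((Subgroup.zpowers y₀ : Subgroup G₀) : Set G₀) :=
        Subgroup.le_centralizer_iff.mp hpq
      rw [← Subgroup.zpowers_le]
      exact Subgroup.le_centralizer_iff.mp h1
    obtain ⟨k, hk⟩ := hQp ⟨y₀, hyQ⟩
    have hk' : y₀ ^ p ^ k = 1 := by
      have := congrArg Subtype.val hk
      simpa using this
    have hdvd : q ∣ p ^ k := by rw [← hy₀ord]; exact orderOf_dvd_of_pow_eq_one hk'
    exact hqp ((Nat.prime_dvd_prime_iff_eq hq hp).mp (hq.dvd_of_dvd_pow hdvd))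
  exact IsPGroup.of_card hcard

theorem lemmaL {G : Type*} [Group G] [Finite G] {p : ℕ} [Fact p.Prime]
    (hc : Subgroup.centralizer (Cfsg.pCore p (G ⧸ Cfsg.pPrimeCore p G) : Set (G ⧸ Cfsg.pPrimeCore p G)) ≤
      Cfsg.pCore p (G ⧸ Cfsg.pPrimeCore p G))
    (P : Subgroup G) (hP : IsPGroup p P) (D' : Subgroup G) (hD'c : (Nat.card ↥D').Coprime p)
    (hcomm : ∀ d ∈ D', ∀ x ∈ P, d * x = x * d)
    (hD'conj : ∀ u ∈ Subgroup.centralizer (P : Set G), ∀ d ∈ D', u * d * u⁻¹ ∈ D') :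
    D' ≤ Cfsg.pPrimeCore p G := by
  have hp : p.Prime := Fact.out
  haveI hKn : (Cfsg.pPrimeCore p G).Normal := Cfsg.Agent.H1.pPrimeCore_normal p
  have hKc : (Nat.card ↥(Cfsg.pPrimeCore p G)).Coprime p := Cfsg.Agent.H1.pPrimeCore_coprime p
  haveI hRn : (Cfsg.pCore p (G ⧸ Cfsg.pPrimeCore p G)).Normal := Cfsg.Agent.H1.pCore_normal p
  have hRp : IsPGroup p ↥(Cfsg.pCore p (G ⧸ Cfsg.pPrimeCore p G)) := Cfsg.Agent.H1.pCore_isPGroup p
  have hPbar : IsPGroup p ↥(P.map (QuotientGroup.mk' (Cfsg.pPrimeCore p G))) := hP.map _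
  have hQbar : (Nat.card ↥(D'.map (QuotientGroup.mk' (Cfsg.pPrimeCore p G)))).Coprime p :=
    Nat.Coprime.coprime_dvd_left (Subgroup.card_map_dvd D' _) hD'c
  have hPQ : P.map (QuotientGroup.mk' (Cfsg.pPrimeCore p G)) ≤
      Subgroup.centralizer ((D'.map (QuotientGroup.mk' (Cfsg.pPrimeCore p G)) : Subgroup _) : Set _) := by
    rintro _ ⟨x, hx, rfl⟩
    rw [Subgroup.mem_centralizer_iff]
    rintro _ ⟨d, hd, rfl⟩
    rw [← map_mul, ← map_mul, hcomm d hd x hx]
  have h3800 := (Cfsg.Agent.S3800.result (Cfsg.pPrimeCore p G) hKc P hP).2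
  have hC : Cfsg.pCore p (G ⧸ Cfsg.pPrimeCore p G) ⊓
      Subgroup.centralizer ((P.map (QuotientGroup.mk' (Cfsg.pPrimeCore p G)) : Subgroup _) : Set _) ≤
      Subgroup.centralizer ((D'.map (QuotientGroup.mk' (Cfsg.pPrimeCore p G)) : Subgroup _) : Set _) := by
    intro ubar hubar
    obtain ⟨hu1, hu2⟩ := Subgroup.mem_inf.1 hubar
    rw [h3800] at hu2
    obtain ⟨u, hu, rfl⟩ := hu2
    rw [Subgroup.mem_centralizer_iff]
    rintro _ ⟨d, hd, rfl⟩
    have hc1 : u * d * u⁻¹ * d⁻¹ ∈ D' := mul_mem (hD'conj u hu d hd) (inv_mem hd)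
    have hc2 : QuotientGroup.mk' (Cfsg.pPrimeCore p G) (u * d * u⁻¹ * d⁻¹) ∈
        Cfsg.pCore p (G ⧸ Cfsg.pPrimeCore p G) := by
      have h1 := hRn.conj_mem _ (inv_mem hu1) (QuotientGroup.mk' (Cfsg.pPrimeCore p G) d)
      have h2 := mul_mem hu1 h1
      have e : QuotientGroup.mk' (Cfsg.pPrimeCore p G) (u * d * u⁻¹ * d⁻¹) =
          QuotientGroup.mk' (Cfsg.pPrimeCore p G) u * (QuotientGroup.mk' (Cfsg.pPrimeCore p G) d *
            (QuotientGroup.mk' (Cfsg.pPrimeCore p G) u)⁻¹ *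
            (QuotientGroup.mk' (Cfsg.pPrimeCore p G) d)⁻¹) := by
        simp only [map_mul, map_inv, mul_assoc]
      rw [e]; exact h2
    obtain ⟨j, hj⟩ := hRp ⟨_, hc2⟩
    have hj' : (QuotientGroup.mk' (Cfsg.pPrimeCore p G) (u * d * u⁻¹ * d⁻¹)) ^ p ^ j = 1 := by
      have := congrArg Subtype.val hj
      simpa using this
    have hord : orderOf (QuotientGroup.mk' (Cfsg.pPrimeCore p G) (u * d * u⁻¹ * d⁻¹)) ∣ Nat.card ↥D' :=
      dvd_trans (orderOf_map_dvd _ _) (Cfsg.Agent.S0661.orderOf_dvd_card_of_mem hc1)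
    have h1 := Cfsg.Agent.S0661.eq_one_of_pow_of_dvd hp hj' hord hD'c
    have h2 : QuotientGroup.mk' (Cfsg.pPrimeCore p G) u * QuotientGroup.mk' (Cfsg.pPrimeCore p G) d *
        (QuotientGroup.mk' (Cfsg.pPrimeCore p G) u)⁻¹ *
        (QuotientGroup.mk' (Cfsg.pPrimeCore p G) d)⁻¹ = 1 := by
      rw [← h1]; simp only [map_mul, map_inv]
    calc QuotientGroup.mk' (Cfsg.pPrimeCore p G) d * QuotientGroup.mk' (Cfsg.pPrimeCore p G) u
        = (QuotientGroup.mk' (Cfsg.pPrimeCore p G) u * QuotientGroup.mk' (Cfsg.pPrimeCore p G) d *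
          (QuotientGroup.mk' (Cfsg.pPrimeCore p G) u)⁻¹ *
          (QuotientGroup.mk' (Cfsg.pPrimeCore p G) d)⁻¹)⁻¹ *
          (QuotientGroup.mk' (Cfsg.pPrimeCore p G) u * QuotientGroup.mk' (Cfsg.pPrimeCore p G) d) := by group
      _ = QuotientGroup.mk' (Cfsg.pPrimeCore p G) u * QuotientGroup.mk' (Cfsg.pPrimeCore p G) d := by
          rw [h2]; group
  have hnormR : ∀ X : Subgroup (G ⧸ Cfsg.pPrimeCore p G),
      X ≤ Subgroup.normalizer ((Cfsg.pCore p (G ⧸ Cfsg.pPrimeCore p G) : Subgroup _) : Set _) := by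
    intro X
    rw [Subgroup.normalizer_eq_top]; exact le_top
  have hpq := Cfsg.Agent.Lib.Helper7.pq_lemma p _ _ hPbar hQbar hPQ _ _ rfl hRp (hnormR _) (hnormR _) hC
  intro d hd
  have h1 : QuotientGroup.mk' (Cfsg.pPrimeCore p G) d ∈ Cfsg.pCore p (G ⧸ Cfsg.pPrimeCore p G) :=
    hc (hpq (Subgroup.mem_map_of_mem _ hd))
  obtain ⟨j, hj⟩ := hRp ⟨_, h1⟩
  have hj' : (QuotientGroup.mk' (Cfsg.pPrimeCore p G) d) ^ p ^ j = 1 := by
    have := congrArg Subtype.val hj
    simpa using this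
  have hord : orderOf (QuotientGroup.mk' (Cfsg.pPrimeCore p G) d) ∣ Nat.card ↥D' :=
    dvd_trans (orderOf_map_dvd _ _) (Cfsg.Agent.S0661.orderOf_dvd_card_of_mem hd)
  have h2 := Cfsg.Agent.S0661.eq_one_of_pow_of_dvd hp hj' hord hD'c
  exact (QuotientGroup.eq_one_iff d).1 h2

theorem thmT {G : Type*} [Group G] [Finite G] {p : ℕ} [Fact p.Prime] (hG : Cfsg.IsPConstrained p G)
    (P H : Subgroup G) (hP : IsPGroup p P) (hCH : Subgroup.centralizer (P : Set G) ≤ H)
    (hHN : H ≤ Subgroup.normalizer (P : Set G)) (hor : P ≤ H ∨ H ≤ Subgroup.centralizer (P : Set G)) :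
    Cfsg.IsPConstrained p ↥H := by
  classical
  have hp : p.Prime := Fact.out
  haveI hKn : (Cfsg.pPrimeCore p G).Normal := Cfsg.Agent.H1.pPrimeCore_normal p
  have hKc : (Nat.card ↥(Cfsg.pPrimeCore p G)).Coprime p := Cfsg.Agent.H1.pPrimeCore_coprime p
  have hcG := Cfsg.Agent.S0630.isPConstrained_iff.mp hG
  haveI hDn : (Cfsg.pPrimeCore p ↥H).Normal := Cfsg.Agent.H1.pPrimeCore_normal p
  have hDc : (Nat.card ↥(Cfsg.pPrimeCore p ↥H)).Coprime p := Cfsg.Agent.H1.pPrimeCore_coprime p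
  -- Step 1
  have hker : Cfsg.pPrimeCore p ↥H = (Cfsg.pPrimeCore p G).subgroupOf H := by
    apply le_antisymm
    · have hD'c : (Nat.card ↥((Cfsg.pPrimeCore p ↥H).map H.subtype)).Coprime p := by
        rw [Subgroup.card_map_of_injective H.subtype_injective]; exact hDc
      have hD'conjH : ∀ u ∈ H, ∀ d ∈ (Cfsg.pPrimeCore p ↥H).map H.subtype,
          u * d * u⁻¹ ∈ (Cfsg.pPrimeCore p ↥H).map H.subtype := by
        rintro u hu _ ⟨d, hd, rfl⟩
        exact ⟨⟨u, hu⟩ * d * ⟨u, hu⟩⁻¹, hDn.conj_mem d hd ⟨u, hu⟩, rfl⟩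
      have hcomm : ∀ d ∈ (Cfsg.pPrimeCore p ↥H).map H.subtype, ∀ x ∈ P, d * x = x * d := by
        intro d hd x hx
        have hdH : d ∈ H := Subgroup.map_subtype_le _ hd
        rcases hor with hPH | hHC
        · have hxH : x ∈ H := hPH hx
          have h1 : d * x * d⁻¹ * x⁻¹ ∈ P :=
            mul_mem ((Subgroup.mem_normalizer_iff.1 (hHN hdH) x).1 hx) (inv_mem hx)
          have h2 : d * x * d⁻¹ * x⁻¹ ∈ (Cfsg.pPrimeCore p ↥H).map H.subtype := by
            have := hD'conjH x hxH d⁻¹ (inv_mem hd)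
            have e : d * x * d⁻¹ * x⁻¹ = d * (x * d⁻¹ * x⁻¹) := by group
            rw [e]; exact mul_mem hd this
          obtain ⟨j, hj⟩ := hP ⟨_, h1⟩
          have hj' : (d * x * d⁻¹ * x⁻¹) ^ p ^ j = 1 := by
            have := congrArg Subtype.val hj
            simpa using this
          have h3 := Cfsg.Agent.S0661.eq_one_of_pow_of_dvd hp hj'
            (Cfsg.Agent.S0661.orderOf_dvd_card_of_mem h2) hD'c
          calc d * x = (d * x * d⁻¹ * x⁻¹) * (x * d) := by group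
            _ = x * d := by rw [h3, one_mul]
        · exact ((Subgroup.mem_centralizer_iff.mp (hHC hdH)) x hx).symm
      have hL := lemmaL hcG P hP _ hD'c hcomm (fun u hu d hd => hD'conjH u (hCH hu) d hd)
      intro x hx
      rw [Subgroup.mem_subgroupOf]
      exact hL (Subgroup.mem_map_of_mem _ hx)
    · apply Cfsg.Agent.H1.le_pPrimeCore (hKn.subgroupOf H)
      have h1 : Nat.card ↥((Cfsg.pPrimeCore p G).subgroupOf H) ∣ Nat.card ↥(Cfsg.pPrimeCore p G) := by
        have e := Subgroup.subgroupOfEquivOfLe (inf_le_right : Cfsg.pPrimeCore p G ⊓ H ≤ H)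
        rw [Subgroup.inf_subgroupOf_right] at e
        rw [Nat.card_congr e.toEquiv]
        exact Subgroup.card_dvd_of_le inf_le_left
      exact Nat.Coprime.coprime_dvd_left h1 hKc
  -- Step 2
  set ψ : ↥H →* G ⧸ Cfsg.pPrimeCore p G := (QuotientGroup.mk' (Cfsg.pPrimeCore p G)).comp H.subtype with hψ
  have hψker : ψ.ker = Cfsg.pPrimeCore p ↥H := by
    rw [hker]
    ext x
    rw [MonoidHom.mem_ker, Subgroup.mem_subgroupOf, hψ, MonoidHom.comp_apply, QuotientGroup.mk'_apply,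
      QuotientGroup.eq_one_iff]
    rfl
  have hψrange : ψ.range = H.map (QuotientGroup.mk' (Cfsg.pPrimeCore p G)) := by
    rw [hψ, MonoidHom.range_comp, Subgroup.range_subtype]
  -- Step 3
  have h3800 := Cfsg.Agent.S3800.result (Cfsg.pPrimeCore p G) hKc P hP
  have hcore := core hcG (P.map (QuotientGroup.mk' (Cfsg.pPrimeCore p G)))
    (H.map (QuotientGroup.mk' (Cfsg.pPrimeCore p G))) (hP.map _)
    (by rw [h3800.2]; exact Subgroup.map_mono hCH)
    (by rw [h3800.1]; exact Subgroup.map_mono hHN)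
    (by
      rcases hor with h | h
      · left; exact Subgroup.map_mono h
      · right; rw [h3800.2]; exact Subgroup.map_mono h)
  -- Step 4
  rw [Cfsg.Agent.S0630.isPConstrained_iff]
  let e1 : ↥H ⧸ ψ.ker ≃* ψ.range := QuotientGroup.quotientKerEquivRange ψ
  let e2 : ↥H ⧸ ψ.ker ≃* ↥H ⧸ Cfsg.pPrimeCore p ↥H := QuotientGroup.quotientMulEquivOfEq hψker
  let e3 : ψ.range ≃* ↥(H.map (QuotientGroup.mk' (Cfsg.pPrimeCore p G))) := MulEquiv.subgroupCongr hψrange
  exact Cfsg.Agent.S0630.transport ((e3.symm.trans e1.symm).trans e2) hcore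

/-- In a p-constrained group the normalizer and the centralizer of any p-subgroup are again p-constrained. -/
theorem result {G : Type*} [Group G] [Finite G] {p : ℕ} [Fact p.Prime] (hG : Cfsg.IsPConstrained p G) (P : Subgroup G) (hP : IsPGroup p P) : Cfsg.IsPConstrained p ↥(Subgroup.normalizer (P : Set G)) ∧ Cfsg.IsPConstrained p ↥(Subgroup.centralizer (P : Set G)) := by

  exact ⟨thmT hG P (Subgroup.normalizer (P : Set G)) hP (Subgroup.centralizer_le_normalizer _) le_rfl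
      (Or.inl Subgroup.le_normalizer),
    thmT hG P (Subgroup.centralizer (P : Set G)) hP le_rfl (Subgroup.centralizer_le_normalizer _)
      (Or.inr le_rfl)⟩

end Cfsg.Agent.S0631
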