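import Cfsg.Statements.S0633
import Cfsg.Agent.H1.HHModN

set_option autoImplicit false
open Cfsg

namespace Cfsg.Agent.S0633
open scoped commutatorElement TensorProduct
open Cfsg.Agent.H1.HHMod

/-- Theorem B of Hall and Higman on the minimal polynomial of a p-element of order p^n in a p-solvable linear group on a nonzero vector space in characteristic p with no nontrivial normal p-subgroup: its degree is p^n, except when some p^n₀ - 1 (n₀ ≤ n) is a power of a prime q for which the Sylow q-subgroups are non-abelian, in which case the degree is at least p^(n-n₀)(p^n₀ - 1). -/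
theorem result {F : Type*} [Field F] {p : ℕ} [Fact p.Prime] [CharP F p] {V : Type*} [AddCommGroup V] [Module F V] [FiniteDimensional F V] [Nontrivial V] (H : Subgroup (V ≃ₗ[F] V)) [Finite H] (hsol : Cfsg.IsPSolvable p H) (hOp : Cfsg.pCore p H = ⊥) (x : V ≃ₗ[F] V) (hx : x ∈ H) (n : ℕ) (hn : orderOf x = p ^ n) (r : ℕ) (hr : minpoly F (x : Module.End F V) = (Polynomial.X - 1) ^ r) : r = p ^ n ∨ ∃ n₀ q m : ℕ, 1 ≤ n₀ ∧ n₀ ≤ n ∧ q.Prime ∧ 1 ≤ m ∧ p ^ n₀ - 1 = q ^ m ∧ (∀ Q : Sylow q H, ¬ IsMulCommutative Q) ∧ p ^ (n - n₀) * (p ^ n₀ - 1) ≤ r := by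
  classical
  have hpp : p.Prime := Fact.out
  set X : Module.End F V := (x : V →ₗ[F] V) with hX
  have hXr : (X - 1) ^ r = 0 := by
    have := minpoly.aeval F X
    rw [hr] at this
    simpa using this
  have hxpow : x ^ (p ^ n) = 1 := by rw [← hn]; exact pow_orderOf_eq_one x
  have hcoe_pow : ∀ k : ℕ, ((x ^ k : V ≃ₗ[F] V) : Module.End F V) = X ^ k := by
    intro k
    induction k with
    | zero => rfl
    | succ k ih =>
      rw [pow_succ, pow_succ, ← ih]
      rfl
  have hXpow : X ^ (p ^ n) = 1 := by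
    rw [← hcoe_pow, hxpow]
    rfl
  have hle : r ≤ p ^ n := by
    have h1 : minpoly F X ∣ (Polynomial.X - 1) ^ (p ^ n) := by
      apply minpoly.dvd
      have hpoly : (Polynomial.X - 1 : Polynomial F) ^ (p ^ n) = Polynomial.X ^ (p ^ n) - 1 := by
        rw [sub_pow_char_pow, one_pow]
      rw [hpoly]
      simp [hXpow]
    rw [hr] at h1
    have h2 := Polynomial.X_sub_C_ne_zero (1 : F)
    have h3 := Polynomial.not_isUnit_X_sub_C (1 : F)
    rw [map_one] at h2 h3
    exact (pow_dvd_pow_iff h2 h3).mp h1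
  have hr1 : 1 ≤ r := by
    by_contra hcon
    have hr0 : r = 0 := by omega
    rw [hr0, pow_zero] at hr
    exact minpoly.ne_one F X hr
  rcases Nat.eq_zero_or_pos n with hn0 | hn1
  · left
    rw [hn0, pow_zero] at hle ⊢
    omega
  set x' : H := ⟨x, hx⟩ with hx'
  have hord' : orderOf x' = p ^ n := by
    rw [← hn]
    exact Subgroup.orderOf_mk x hx
  obtain ⟨q, hq, Q, hpq, hQ, hQinv, g, hg, hgy⟩ := exists_q_sub p hsol hOp x' n hn1 hord'
  set ρ := bcRep (AlgebraicClosure F) H with hρ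
  have hs : (ρ x' - 1) ^ r = 0 := by
    show (X.baseChange (AlgebraicClosure F) - 1) ^ r = 0
    rw [← LinearMap.baseChange_one F V, ← LinearMap.baseChange_sub, ← LinearMap.baseChange_pow, hXr,
      LinearMap.baseChange_zero]
  have hact : ∃ g ∈ Q, ρ ⁅g, x' ^ (p ^ (n - 1))⁆ ≠ 1 :=
    ⟨g, hg, fun h => hgy (bcRep_injective (AlgebraicClosure F) H _ h)⟩
  have hx'pow : x' ^ (p ^ n) = 1 := by rw [← hord']; exact pow_orderOf_eq_one x'
  have hc := core (K := AlgebraicClosure F) hpq H Q x' (AlgebraicClosure F ⊗[F] V) ρ hQ hQinv n hn1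
    hx'pow hact r hs
  rcases hc with h | ⟨n₀, m, h1, h2, h3, h4, h5, h6⟩
  · left; omega
  · right
    refine ⟨n₀, q, m, h1, h2, hq.out, h3, h4, ?_, h6⟩
    intro P hP
    apply h5
    obtain ⟨P₀, hQP₀⟩ := hQ.exists_le_sylow
    obtain ⟨c, hc⟩ := MulAction.exists_smul_eq H P₀ P
    have hmem : ∀ a ∈ Q, c * a * c⁻¹ ∈ (P : Subgroup H) := by
      intro a ha
      rw [← hc, Sylow.coe_subgroup_smul]
      have := Subgroup.smul_mem_pointwise_smul a (MulAut.conj c) (P₀ : Subgroup H) (hQP₀ ha)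
      rwa [MulAut.smul_def, MulAut.conj_apply] at this
    intro a ha b hb
    have hcomm := hP.is_comm.comm (⟨c * a * c⁻¹, hmem a ha⟩ : (P : Subgroup H))
      ⟨c * b * c⁻¹, hmem b hb⟩
    have h7 : (c * a * c⁻¹) * (c * b * c⁻¹) = (c * b * c⁻¹) * (c * a * c⁻¹) :=
      congrArg Subtype.val hcomm
    have h8 : c * (a * b) * c⁻¹ = c * (b * a) * c⁻¹ := by
      have e1 : c * (a * b) * c⁻¹ = (c * a * c⁻¹) * (c * b * c⁻¹) := by group
      have e2 : c * (b * a) * c⁻¹ = (c * b * c⁻¹) * (c * a * c⁻¹) := by group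
      rw [e1, e2, h7]
    exact mul_left_cancel (mul_right_cancel h8)

end Cfsg.Agent.S0633
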