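import Cfsg.Statements.S0635
import Mathlib
import Cfsg.Agent.S0634
import Cfsg.Agent.Lib.Lead.PSolvable
import Cfsg.Agent.H1.Cores

set_option autoImplicit false
open Cfsg
open scoped commutatorElement

namespace Cfsg.Agent.S0635


theorem kl {G : Type*} [Group G] [Finite G] {p : ℕ} [hp : Fact p.Prime] (hsol : Cfsg.IsPSolvable p G)
    (N L W : Subgroup G) [hN : N.Normal] [hL : L.Normal]
    (hLeq : L = (Cfsg.pPrimeCore p (G ⧸ N)).comap (QuotientGroup.mk' N))
    (hW : W = (Cfsg.pCore p (G ⧸ L)).comap (QuotientGroup.mk' L))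
    (S : Sylow p G) (x : G) (hx : ∀ s ∈ (S : Subgroup G), x * s * x⁻¹ * s⁻¹ ∈ L) : x ∈ W := by
  have hbot : Cfsg.pPrimeCore p (G ⧸ L) = ⊥ :=
    Cfsg.Agent.S0634.pPrimeCore_quotient_comap_eq_bot N L hLeq
  have hsolq : Cfsg.IsPSolvable p (G ⧸ L) :=
    Cfsg.Agent.Lib.Lead.PSolvable.IsPSolvable.quotient L hsol
  have hcent := Cfsg.Agent.Lib.Lead.PSolvable.centralizer_pCore_le hsolq hbot
  rw [hW, Subgroup.mem_comap]
  apply hcent
  rw [Subgroup.mem_centralizer_iff]
  intro y hy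
  have hyS : y ∈ ((S.mapSurjective (QuotientGroup.mk'_surjective L) : Sylow p (G ⧸ L)) : Subgroup (G ⧸ L)) :=
    Cfsg.Agent.H1.pCore_le_sylow _ hy
  rw [Sylow.coe_mapSurjective] at hyS
  obtain ⟨s, hs, rfl⟩ := Subgroup.mem_map.1 hyS
  have h1 : (QuotientGroup.mk' L) (x * s * x⁻¹ * s⁻¹) = 1 :=
    (QuotientGroup.eq_one_iff _).2 (hx s hs)
  rw [map_mul, map_mul, map_mul, map_inv, map_inv, mul_inv_eq_one, mul_inv_eq_iff_eq_mul] at h1
  exact h1.symm

theorem top_of_le {G : Type*} [Group G] [Finite G] {p : ℕ} [hp : Fact p.Prime] (U : Subgroup G) [U.Normal]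
    (S : Sylow p G) (h : (S : Subgroup G) ≤ U) :
    (Cfsg.pPrimeCore p (G ⧸ U)).comap (QuotientGroup.mk' U) = ⊤ := by
  have hidx : ¬ p ∣ U.index := by
    intro hdvd
    have h1 : U.index ∣ (S : Subgroup G).index := Subgroup.index_dvd_of_le h
    exact S.not_dvd_index (hdvd.trans h1)
  have htop : (⊤ : Subgroup (G ⧸ U)) ≤ Cfsg.pPrimeCore p (G ⧸ U) := by
    apply Cfsg.Agent.H1.le_pPrimeCore inferInstance
    rw [Subgroup.card_top, ← Subgroup.index_eq_card]
    exact Nat.Coprime.symm ((Nat.Prime.coprime_iff_not_dvd hp.out).2 hidx)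
  rw [top_le_iff] at htop
  rw [htop, Subgroup.comap_top]

theorem upper_le_succ {G : Type*} [Group G] (p k : ℕ) :
    (Cfsg.upperPSeries p G (2 * k)).1 ≤ (Cfsg.upperPSeries p G (2 * k + 1)).1 := by
  rw [Cfsg.Agent.S0634.upper_odd p k]
  intro x hx
  rw [Subgroup.mem_comap]
  have : QuotientGroup.mk' (Cfsg.upperPSeries p G (2 * k)).1 x = 1 := (QuotientGroup.eq_one_iff x).2 hx
  rw [this]; exact one_mem _

theorem zk_le {G : Type*} [Group G] [Finite G] {p : ℕ} [hp : Fact p.Prime] (hsol : Cfsg.IsPSolvable p G)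
    (S : Sylow p G) (k : ℕ) : ∀ x : ↥(S : Subgroup G), x ∈ Subgroup.upperCentralSeries ↥(S : Subgroup G) k →
      (x : G) ∈ (Cfsg.upperPSeries p G (2 * k)).1 := by
  induction k with
  | zero =>
    intro x hx
    rw [Subgroup.upperCentralSeries_zero, Subgroup.mem_bot] at hx
    rw [hx, Subgroup.coe_one]; exact one_mem _
  | succ k ih =>
    intro x hx
    rw [Subgroup.mem_upperCentralSeries_succ_iff] at hx
    show (x : G) ∈ (Cfsg.upperPSeries p G (2 * k + 2)).1
    refine kl hsol (Cfsg.upperPSeries p G (2 * k)).1 (Cfsg.upperPSeries p G (2 * k + 1)).1 _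
      (Cfsg.Agent.S0634.upper_odd p k) (Cfsg.Agent.S0634.upper_even p k) S (x : G) ?_
    intro s hs
    have h2 := ih _ (hx ⟨s, hs⟩)
    rw [commutatorElement_def] at h2
    exact upper_le_succ p k (by simpa using h2)

/-- The p-length of a p-soluble group is at most the nilpotency class of its Sylow p-subgroups. -/
theorem result {G : Type*} [Group G] [Finite G] {p : ℕ} [Fact p.Prime] (hsol : Cfsg.IsPSolvable p G) (S : Sylow p G) : Cfsg.PLengthLE p (Group.nilpotencyClass ↥(S : Subgroup G)) G := by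
  haveI : Group.IsNilpotent ↥(S : Subgroup G) := S.isPGroup'.isNilpotent
  have hall : (S : Subgroup G) ≤ (Cfsg.upperPSeries p G (2 * Group.nilpotencyClass ↥(S : Subgroup G))).1 := by
    intro x hx
    have := zk_le hsol S (Group.nilpotencyClass ↥(S : Subgroup G)) ⟨x, hx⟩
      (by rw [Subgroup.upperCentralSeries_nilpotencyClass]; exact Subgroup.mem_top _)
    exact this
  show (Cfsg.upperPSeries p G (2 * Group.nilpotencyClass ↥(S : Subgroup G) + 1)).1 = ⊤
  rw [Cfsg.Agent.S0634.upper_odd p (Group.nilpotencyClass ↥(S : Subgroup G))]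
  exact top_of_le _ S hall

end Cfsg.Agent.S0635
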