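import Cfsg.Statements.S4419
import Mathlib
import Cfsg.Agent.S0071
import Cfsg.Agent.S3736
import Cfsg.Agent.S1907
import Cfsg.Agent.S0651
import Cfsg.Agent.H1.Cores
import Cfsg.Agent.H1.BurnsideBasis
import Cfsg.Agent.H1.MinimalAction
import Cfsg.Agent.H1.Frattini

set_option autoImplicit false
open Cfsg
open scoped commutatorElement

namespace Cfsg.Agent.S4419


set_option linter.unusedVariables false
set_option linter.style.haveILetI false

/-- every subgroup of a metacyclic group is generated by two elements, in the strong form -/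
theorem two_gen {R : Type*} [Group R] (hR : Cfsg.IsMetacyclic R) (Q : Subgroup R) :
    ∃ c t : R, c ∈ Q ∧ t ∈ Q ∧ ∀ x ∈ Q, ∃ i j : ℤ, x = c ^ i * t ^ j := by
  obtain ⟨N, hN, hcN, hcQ⟩ := hR
  haveI := hN
  haveI := hcN
  haveI := hcQ
  haveI h1 : IsCyclic ↥(N ⊓ Q) :=
    isCyclic_of_injective (Subgroup.inclusion (inf_le_left : N ⊓ Q ≤ N))
      (Subgroup.inclusion_injective _)
  obtain ⟨c0, hc0⟩ := IsCyclic.exists_generator (α := ↥(N ⊓ Q))
  let φ : ↥Q →* R ⧸ N := (QuotientGroup.mk' N).comp Q.subtype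
  haveI h2 : IsCyclic ↥φ.range := inferInstance
  obtain ⟨u0, hu0⟩ := IsCyclic.exists_generator (α := ↥φ.range)
  obtain ⟨t0, ht0⟩ := u0.2
  refine ⟨(c0 : R), (t0 : R), c0.2.2, t0.2, ?_⟩
  intro x hx
  have hx1 : (⟨φ ⟨x, hx⟩, ⟨_, rfl⟩⟩ : ↥φ.range) ∈ Subgroup.zpowers u0 := hu0 _
  obtain ⟨k, hk⟩ := Subgroup.mem_zpowers_iff.mp hx1
  have hk' : (φ t0) ^ k = φ ⟨x, hx⟩ := by
    have := congrArg Subtype.val hk
    rw [Subgroup.coe_zpow] at this
    rw [ht0]; exact this
  have hy : x * ((t0 : R) ^ k)⁻¹ ∈ N ⊓ Q := by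
    refine ⟨?_, Q.mul_mem hx (Q.inv_mem (Q.zpow_mem t0.2 k))⟩
    have h3 : φ (⟨x, hx⟩ * (t0 ^ k)⁻¹) = 1 := by
      rw [map_mul, map_inv, map_zpow, hk', mul_inv_cancel]
    have h4 : ((⟨x, hx⟩ * (t0 ^ k)⁻¹ : ↥Q) : R) ∈ N := (QuotientGroup.eq_one_iff _).mp h3
    simpa using h4
  obtain ⟨i, hi⟩ := Subgroup.mem_zpowers_iff.mp (hc0 ⟨_, hy⟩)
  refine ⟨i, k, ?_⟩
  have := congrArg Subtype.val hi
  rw [Subgroup.coe_zpow] at this
  rw [this]; group

/-- fixed point congruence for an element whose `q`-th power centralizes `H` -/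
theorem card_modEq_aux {G : Type*} [Group G] [Finite G] (q : ℕ) [hq : Fact q.Prime] (g : G)
    (H : Subgroup G) (hg : g ∈ Subgroup.normalizer (H : Set G))
    (hgq : g ^ q ∈ Subgroup.centralizer (H : Set G)) :
    Nat.card ↥H ≡ Nat.card ↥(H ⊓ Subgroup.centralizer
      ((Subgroup.zpowers g : Subgroup G) : Set G)) [MOD q] := by
  classical
  haveI : Fintype ↥H := Fintype.ofFinite _
  have hmem : ∀ x : ↥H, g * (x : G) * g⁻¹ ∈ H :=
    fun x => (Subgroup.mem_normalizer_iff.mp hg x).mp x.2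
  have hmem' : ∀ x : ↥H, g⁻¹ * (x : G) * g ∈ H := fun x => by
    have := (Subgroup.mem_normalizer_iff.mp (inv_mem hg) x).mp x.2
    simpa using this
  let σ : Equiv.Perm ↥H :=
    { toFun := fun x => ⟨g * x * g⁻¹, hmem x⟩
      invFun := fun x => ⟨g⁻¹ * x * g, hmem' x⟩
      left_inv := fun x => Subtype.ext (by show g⁻¹ * (g * (x : G) * g⁻¹) * g = x; group)
      right_inv := fun x => Subtype.ext (by show g * (g⁻¹ * (x : G) * g) * g⁻¹ = x; group) }
  have hσ1 : ∀ x : ↥H, ((σ x : ↥H) : G) = g * x * g⁻¹ := fun x => rfl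
  have hpow : ∀ n : ℕ, ∀ x : ↥H, (((σ ^ n) x : ↥H) : G) = g ^ n * x * (g ^ n)⁻¹ := by
    intro n
    induction n with
    | zero => intro x; simp
    | succ n ih =>
      intro x
      rw [pow_succ', Equiv.Perm.mul_apply, hσ1, ih, pow_succ']
      group
  have hσ : σ ^ q ^ 1 = 1 := by
    rw [pow_one]
    apply Equiv.Perm.ext
    intro x
    apply Subtype.ext
    rw [hpow, Equiv.Perm.one_apply]
    have h1 := Subgroup.mem_centralizer_iff.mp hgq (x : G) x.2
    rw [← h1]; simp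
  have h1 := Equiv.Perm.card_compl_support_modEq hσ
  have hfix : ∀ x : ↥H, x ∈ σ.supportᶜ ↔
      (x : G) ∈ Subgroup.centralizer ((Subgroup.zpowers g : Subgroup G) : Set G) := by
    intro x
    rw [Finset.mem_compl, Equiv.Perm.mem_support, not_not, Subgroup.mem_centralizer_iff]
    constructor
    · intro hx h hh
      obtain ⟨k, rfl⟩ := Subgroup.mem_zpowers_iff.mp hh
      have hx' : g * (x : G) * g⁻¹ = x := by rw [← hσ1, hx]
      have hc : Commute g (x : G) := by
        show g * x = x * g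
        calc g * (x : G) = (g * x * g⁻¹) * g := by group
          _ = x * g := by rw [hx']
      exact (hc.zpow_left k).eq
    · intro hx
      apply Subtype.ext
      rw [hσ1]
      have := hx g (Subgroup.mem_zpowers g)
      rw [this]; group
  have e : {x // x ∈ σ.supportᶜ} ≃
      ↥(H ⊓ Subgroup.centralizer ((Subgroup.zpowers g : Subgroup G) : Set G)) :=
    { toFun := fun y => ⟨(y.1 : G), ⟨y.1.2, (hfix y.1).mp y.2⟩⟩
      invFun := fun z => ⟨⟨z.1, z.2.1⟩, (hfix ⟨z.1, z.2.1⟩).mpr z.2.2⟩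
      left_inv := fun y => rfl
      right_inv := fun z => rfl }
  have h2 : σ.supportᶜ.card =
      Nat.card ↥(H ⊓ Subgroup.centralizer ((Subgroup.zpowers g : Subgroup G) : Set G)) := by
    rw [← Nat.card_congr e, Nat.card_eq_fintype_card, Fintype.card_coe]
  rw [h2, ← Nat.card_eq_fintype_card] at h1
  exact h1.symm

/-- Let p be a prime and G a finite group whose Sylow p-subgroups are metacyclic (a cyclic normal subgroup with cyclic quotient). Then G has a normal p-complement if and only if the order of G/O_{p′,p}(G) is coprime to p² − 1. -/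
theorem result {G : Type*} [Group G] [Finite G] (p : ℕ) [Fact p.Prime] (S : Sylow p G) (hS : Cfsg.IsMetacyclic ↥(S : Subgroup G)) : Cfsg.HasNormalPComplement p G ↔ Nat.Coprime (Nat.card (G ⧸ Cfsg.pPrimePCore p G)) (p ^ 2 - 1) := by
  classical
  have hp : p.Prime := Fact.out
  haveI hK2n : (Cfsg.pPrimePCore p G).Normal := Cfsg.Agent.S1907.pPrimePCore_normal
  constructor
  · rintro ⟨P, N, hN, hNP⟩
    have hNcop : (Nat.card ↥N).Coprime p := by
      have h1 : (P : Subgroup G).index = Nat.card ↥N := hNP.index_eq_card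
      rw [← h1]
      exact ((Nat.Prime.coprime_iff_not_dvd hp).mpr P.not_dvd_index).symm
    have hNK : N ≤ Cfsg.pPrimeCore p G := Cfsg.Agent.H1.le_pPrimeCore hN hNcop
    have hKidx : ∃ m, (Cfsg.pPrimeCore p G).index = p ^ m := by
      have h1 : (Cfsg.pPrimeCore p G).index ∣ N.index := Subgroup.index_dvd_of_le hNK
      have h2 : N.index = Nat.card ↥(P : Subgroup G) := hNP.symm.index_eq_card
      obtain ⟨n, hn⟩ := IsPGroup.iff_card.mp P.isPGroup'
      rw [h2, hn] at h1
      obtain ⟨m, -, hm⟩ := (Nat.dvd_prime_pow hp).mp h1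
      exact ⟨m, hm⟩
    obtain ⟨m, hm⟩ := hKidx
    have hquot : IsPGroup p (G ⧸ Cfsg.pPrimeCore p G) :=
      IsPGroup.of_card (n := m) (by rw [← Subgroup.index_eq_card]; exact hm)
    have htop : Cfsg.pCore p (G ⧸ Cfsg.pPrimeCore p G) = ⊤ := by
      rw [eq_top_iff]
      apply Cfsg.Agent.H1.le_pCore inferInstance
      exact hquot.to_subgroup ⊤
    have hidx : Cfsg.pPrimePCore p G = ⊤ := by
      unfold Cfsg.pPrimePCore
      rw [htop, Subgroup.comap_top]
    rw [← Subgroup.index_eq_card, hidx, Subgroup.index_top]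
    exact Nat.coprime_one_left _
  · intro hcop
    by_contra hno
    have hbad : ∃ Q : Subgroup G, Q ≤ (S : Subgroup G) ∧ ∃ g ∈ Subgroup.normalizer (Q : Set G),
        Nat.Coprime (orderOf g) p ∧ g ∉ Subgroup.centralizer (Q : Set G) := by
      by_contra hb
      push Not at hb
      apply hno
      obtain ⟨N, hN, hNS⟩ := (Cfsg.Agent.S0071.result S).mpr
        (fun Q hQ g hg hc => hb Q hQ g hg hc)
      exact ⟨S, N, hN, hNS⟩
    have hex : ∃ m : ℕ, ∃ Q : Subgroup G, Nat.card ↥Q = m ∧ Q ≤ (S : Subgroup G) ∧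
        ∃ g ∈ Subgroup.normalizer (Q : Set G),
        Nat.Coprime (orderOf g) p ∧ g ∉ Subgroup.centralizer (Q : Set G) := by
      obtain ⟨Q, h1, h2⟩ := hbad
      exact ⟨_, Q, rfl, h1, h2⟩
    obtain ⟨Q, hQm, hQS, hQbad⟩ := Nat.find_spec hex
    have hQmin : ∀ U : Subgroup G, U ≤ (S : Subgroup G) → Nat.card ↥U < Nat.card ↥Q →
        ∀ g ∈ Subgroup.normalizer (U : Set G), Nat.Coprime (orderOf g) p →
        g ∈ Subgroup.centralizer (U : Set G) := by
      intro U hUS hlt g hg hc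
      by_contra hgc
      exact Nat.find_min hex (lt_of_lt_of_eq hlt hQm) ⟨U, rfl, hUS, g, hg, hc, hgc⟩
    have hex2 : ∃ r : ℕ, ∃ g ∈ Subgroup.normalizer (Q : Set G), orderOf g = r ∧
        Nat.Coprime (orderOf g) p ∧ g ∉ Subgroup.centralizer (Q : Set G) := by
      obtain ⟨g, h1, h2, h3⟩ := hQbad
      exact ⟨_, g, h1, rfl, h2, h3⟩
    obtain ⟨g, hgN, hgr, hgcop, hgC⟩ := Nat.find_spec hex2
    have hgmin : ∀ g' ∈ Subgroup.normalizer (Q : Set G), orderOf g' < orderOf g →
        Nat.Coprime (orderOf g') p → g' ∈ Subgroup.centralizer (Q : Set G) := by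
      intro g' hg' hlt hc
      by_contra hgc
      exact Nat.find_min hex2 (lt_of_lt_of_eq hlt hgr) ⟨g', hg', rfl, hc, hgc⟩
    have hQp : IsPGroup p ↥Q := S.isPGroup'.to_le hQS
    -- the acting group
    obtain ⟨A, hAdef⟩ : ∃ A : Subgroup G, A = Subgroup.zpowers g := ⟨_, rfl⟩
    have hgA : g ∈ A := by rw [hAdef]; exact Subgroup.mem_zpowers g
    have hAN : A ≤ Subgroup.normalizer (Q : Set G) := by
      rw [hAdef, Subgroup.zpowers_le]; exact hgN
    have hAcop : (Nat.card ↥A).Coprime p := by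
      rw [hAdef, Nat.card_zpowers]; exact hgcop
    have hAord : ∀ a ∈ A, Nat.Coprime (orderOf a) p := by
      intro a ha
      rw [hAdef] at ha
      exact Nat.Coprime.coprime_dvd_left (orderOf_dvd_of_mem_zpowers ha) hgcop
    have hnt : ⁅Q, A⁆ ≠ ⊥ := by
      intro h
      rw [Subgroup.commutator_eq_bot_iff_le_centralizer] at h
      apply hgC
      rw [Subgroup.mem_centralizer_iff]
      intro x hx
      exact ((Subgroup.mem_centralizer_iff.mp (h hx)) g hgA).symm
    have hmin : ∀ U : Subgroup G, U < Q → A ≤ Subgroup.normalizer (U : Set G) → ⁅U, A⁆ = ⊥ := by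
      intro U hU hAU
      rw [Subgroup.commutator_eq_bot_iff_le_centralizer]
      intro x hx
      rw [Subgroup.mem_centralizer_iff]
      intro a ha
      have h1 := hQmin U (hU.le.trans hQS) (Cfsg.Agent.S0651.card_lt_of_lt hU) a (hAU ha)
        (hAord a ha)
      exact ((Subgroup.mem_centralizer_iff.mp h1) x hx).symm
    have hHH := Cfsg.Agent.S3736.result A A Q hQp hAN le_rfl Subgroup.le_normalizer hAcop hnt hmin
    have hQA : ⁅Q, A⁆ = Q := hHH.1
    have hCle : Q ⊓ Subgroup.centralizer (A : Set G) ≤ (frattini ↥Q).map Q.subtype := by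
      refine (Cfsg.Agent.H1.inf_centralizer_le_commutator_of_commutator_eq A Q hAN hQp hAcop
        hQA).trans ?_
      rw [← Subgroup.map_subtype_commutator]
      exact Subgroup.map_mono (Cfsg.Agent.H1.commutator_le_frattini hQp)
    -- g is not in O_{p',p}
    have hgK2 : g ∉ Cfsg.pPrimePCore p G := by
      intro hg2
      have hgK : g ∈ Cfsg.pPrimeCore p G := by
        have h1 : (QuotientGroup.mk' (Cfsg.pPrimeCore p G)) g ∈
            Cfsg.pCore p (G ⧸ Cfsg.pPrimeCore p G) := hg2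
        obtain ⟨k, hk⟩ := (Cfsg.Agent.H1.pCore_isPGroup p) ⟨_, h1⟩
        have hk' : ((QuotientGroup.mk' (Cfsg.pPrimeCore p G)) g) ^ (p ^ k) = 1 := by
          have := congrArg Subtype.val hk
          simpa using this
        have h2 : orderOf ((QuotientGroup.mk' (Cfsg.pPrimeCore p G)) g) ∣ p ^ k :=
          orderOf_dvd_of_pow_eq_one hk'
        have h3 : orderOf ((QuotientGroup.mk' (Cfsg.pPrimeCore p G)) g) ∣ orderOf g :=
          orderOf_map_dvd _ g
        have h4 : orderOf ((QuotientGroup.mk' (Cfsg.pPrimeCore p G)) g) = 1 :=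
          Nat.Coprime.eq_one_of_dvd
            (Nat.Coprime.coprime_dvd_left h3 (Nat.Coprime.pow_right k hgcop)) h2
        exact (QuotientGroup.eq_one_iff g).mp (orderOf_eq_one_iff.mp h4)
      apply hgC
      rw [Subgroup.mem_centralizer_iff]
      intro x hx
      have hc1 : x * g * x⁻¹ * g⁻¹ ∈ Cfsg.pPrimeCore p G :=
        (Cfsg.pPrimeCore p G).mul_mem ((Cfsg.pPrimeCore_normal p G).conj_mem g hgK x)
          ((Cfsg.pPrimeCore p G).inv_mem hgK)
      have hc2 : x * g * x⁻¹ * g⁻¹ ∈ Q := by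
        have h5 : g * x⁻¹ * g⁻¹ ∈ Q :=
          (Subgroup.mem_normalizer_iff.mp hgN x⁻¹).mp (Q.inv_mem hx)
        have : x * g * x⁻¹ * g⁻¹ = x * (g * x⁻¹ * g⁻¹) := by group
        rw [this]; exact Q.mul_mem hx h5
      have hc3 : x * g * x⁻¹ * g⁻¹ ∈ Q ⊓ Cfsg.pPrimeCore p G := ⟨hc2, hc1⟩
      rw [Cfsg.Agent.S1907.inf_pPrimeCore_eq_bot hQp, Subgroup.mem_bot] at hc3
      calc x * g = (x * g * x⁻¹ * g⁻¹) * (g * x) := by group
        _ = g * x := by rw [hc3, one_mul]
    -- the prime q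
    have hgbar : (QuotientGroup.mk' (Cfsg.pPrimePCore p G)) g ≠ 1 :=
      fun h => hgK2 ((QuotientGroup.eq_one_iff g).mp h)
    have hobar : orderOf ((QuotientGroup.mk' (Cfsg.pPrimePCore p G)) g) ≠ 1 :=
      fun h => hgbar (orderOf_eq_one_iff.mp h)
    obtain ⟨q, hq, hqd⟩ := Nat.exists_prime_and_dvd hobar
    haveI : Fact q.Prime := ⟨hq⟩
    have hq1 : q ∣ Nat.card (G ⧸ Cfsg.pPrimePCore p G) := hqd.trans (orderOf_dvd_natCard _)
    have hq2 : q ∣ orderOf g := hqd.trans (orderOf_map_dvd _ g)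
    have hqp : q ≠ p := by
      intro h
      rw [h] at hq2
      exact (Nat.Prime.coprime_iff_not_dvd hp).mp hgcop.symm hq2
    have hgq : g ^ q ∈ Subgroup.centralizer (Q : Set G) := by
      apply hgmin _ (Subgroup.pow_mem _ hgN q)
      · rw [orderOf_pow_of_dvd hq.ne_zero hq2]
        exact Nat.div_lt_self (orderOf_pos g) hq.one_lt
      · exact Nat.Coprime.coprime_dvd_left (orderOf_pow_dvd q) hgcop
    -- counting
    obtain ⟨Φ, hΦ⟩ : ∃ Φ : Subgroup G, Φ = (frattini ↥Q).map Q.subtype := ⟨_, rfl⟩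
    have hΦQ : Φ ≤ Q := by rw [hΦ]; exact Subgroup.map_subtype_le _
    have hgΦ : g ∈ Subgroup.normalizer (Φ : Set G) := by
      rw [hΦ]
      exact Cfsg.Agent.H1.normalizer_le_normalizer_map_of_characteristic Q (frattini ↥Q) hgN
    have hgqΦ : g ^ q ∈ Subgroup.centralizer (Φ : Set G) :=
      Subgroup.centralizer_le (by exact_mod_cast hΦQ) hgq
    have hm1 := card_modEq_aux q g Q hgN hgq
    have hm2 := card_modEq_aux q g Φ hgΦ hgqΦ
    rw [← hAdef] at hm1 hm2
    have heq : Q ⊓ Subgroup.centralizer (A : Set G) = Φ ⊓ Subgroup.centralizer (A : Set G) := by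
      apply le_antisymm
      · intro x hx
        exact ⟨by rw [hΦ]; exact hCle hx, hx.2⟩
      · exact inf_le_inf_right _ hΦQ
    rw [heq] at hm1
    have hmod : Nat.card ↥Q ≡ Nat.card ↥Φ [MOD q] := hm1.trans hm2.symm
    -- the Frattini index
    obtain ⟨n, hn⟩ := hQp.index (frattini ↥Q)
    have hcardΦ : Nat.card ↥Φ = Nat.card ↥(frattini ↥Q) := by
      rw [hΦ]; exact Subgroup.card_map_of_injective Q.subtype_injective
    have hcardQ : Nat.card ↥Q = Nat.card ↥Φ * p ^ n := by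
      rw [hcardΦ, ← hn]; exact ((frattini ↥Q).card_mul_index).symm
    have hΦp : IsPGroup p ↥Φ := hQp.to_le hΦQ
    obtain ⟨e, he⟩ := IsPGroup.iff_card.mp hΦp
    have hqΦ : Nat.gcd q (Nat.card ↥Φ) = 1 := by
      rw [he]
      exact Nat.Coprime.pow_right e ((Nat.coprime_primes hq hp).mpr hqp)
    have hpn : p ^ n ≡ 1 [MOD q] := by
      apply Nat.ModEq.cancel_left_of_coprime hqΦ
      rw [← hcardQ, mul_one]; exact hmod
    -- two generators
    obtain ⟨c, t, hc, ht, hgen⟩ := two_gen hS (Q.subgroupOf (S : Subgroup G))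
    obtain ⟨c', hc'⟩ : ∃ c' : ↥Q, c' = ⟨(c : G), hc⟩ := ⟨_, rfl⟩
    obtain ⟨t', ht'⟩ : ∃ t' : ↥Q, t' = ⟨(t : G), ht⟩ := ⟨_, rfl⟩
    have hclos : Subgroup.closure (({c', t'} : Finset ↥Q) : Set ↥Q) = ⊤ := by
      rw [eq_top_iff]
      intro x _
      obtain ⟨i, j, hij⟩ := hgen ⟨(x : G), hQS x.2⟩ (Subgroup.mem_subgroupOf.mpr x.2)
      have hx : x = c' ^ i * t' ^ j := by
        apply Subtype.ext
        have := congrArg (fun y : ↥(S : Subgroup G) => (y : G)) hij
        simp only [Subgroup.coe_mul, Subgroup.coe_zpow] at this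
        rw [Subgroup.coe_mul, Subgroup.coe_zpow, Subgroup.coe_zpow, hc', ht']
        exact this
      rw [hx]
      apply Subgroup.mul_mem
      · apply Subgroup.zpow_mem; apply Subgroup.subset_closure; simp
      · apply Subgroup.zpow_mem; apply Subgroup.subset_closure; simp
    have hn2 : n ≤ 2 := by
      have := (Cfsg.Agent.H1.burnside_basis p n hQp hn).2 {c', t'} hclos
      exact this.trans Finset.card_le_two
    have hn0 : n ≠ 0 := by
      intro h0
      rw [h0, pow_zero, Subgroup.index_eq_one] at hn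
      have hbt : (⊥ : Subgroup ↥Q) = ⊤ := frattini_nongenerating (by rw [hn]; simp)
      apply hgC
      rw [Subgroup.mem_centralizer_iff]
      intro x hx
      have hx1 : (⟨x, hx⟩ : ↥Q) ∈ (⊥ : Subgroup ↥Q) := by rw [hbt]; exact Subgroup.mem_top _
      rw [Subgroup.mem_bot] at hx1
      have hx2 : x = 1 := congrArg Subtype.val hx1
      rw [hx2, one_mul, mul_one]
    have hp2 : p ^ 2 ≡ 1 [MOD q] := by
      have h12 : n = 1 ∨ n = 2 := by omega
      rcases h12 with h | h
      · rw [h, pow_one] at hpn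
        have := hpn.pow 2
        simpa using this
      · rw [h] at hpn; exact hpn
    have hq3 : q ∣ p ^ 2 - 1 := (Nat.modEq_iff_dvd' (Nat.one_le_pow 2 p hp.pos)).mp hp2.symm
    have hq4 := Nat.dvd_gcd hq1 hq3
    rw [Nat.Coprime.gcd_eq_one hcop] at hq4
    exact hq.one_lt.ne' (Nat.dvd_one.mp hq4)

end Cfsg.Agent.S4419
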