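import Cfsg.Statements.S0640
import Mathlib
import Cfsg.Agent.S4419
import Cfsg.Agent.S0129
import Cfsg.Agent.S0651
import Cfsg.Agent.S3736
import Cfsg.Agent.H2.ExtAction
import Cfsg.Agent.H1.MinimalAction
import Cfsg.Agent.H1.Frattini

set_option autoImplicit false
open Cfsg
open scoped commutatorElement

namespace Cfsg.Agent.S0640


set_option linter.unusedVariables false
set_option linter.style.haveILetI false
open Cfsg.Agent.H2.ExtAct

theorem arith {p q : ℕ} (hpp : p.Prime) (hp : p ≠ 2) (hq : q.Prime) (hqp : q ≠ p)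
    (h : q ∣ p ^ 2 - 1) : q < p := by
  have h2 : 2 ≤ p := hpp.two_le
  have hfac : (p - 1) * (p + 1) = p ^ 2 - 1 := by
    obtain ⟨m, hm⟩ : ∃ m, p = m + 1 := ⟨p - 1, by omega⟩
    rw [hm, Nat.add_sub_cancel]
    have h3 : (m + 1) ^ 2 = m * (m + 1 + 1) + 1 := by ring
    rw [h3, Nat.add_sub_cancel]
  rw [← hfac] at h
  rcases (Nat.Prime.dvd_mul hq).mp h with h1 | h1
  · have := Nat.le_of_dvd (by omega) h1
    omega
  · have hle := Nat.le_of_dvd (by omega) h1
    by_contra hcon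
    have heq : q = p + 1 := by omega
    have hodd : Odd p := hpp.odd_of_ne_two hp
    have heven : 2 ∣ q := by
      rw [heq]
      obtain ⟨k, hk⟩ := hodd
      exact ⟨k + 1, by omega⟩
    have := (Nat.prime_dvd_prime_iff_eq Nat.prime_two hq).mp heven
    omega

/-- For odd p, a prime q ≠ p dividing the order of the automorphism group of a p-group of rank at most 2 divides p² - 1 and is less than p. -/
theorem result {R : Type*} [Group R] [Finite R] {p : ℕ} [Fact p.Prime] (hp : p ≠ 2) (hR : IsPGroup p R) (hrk : Cfsg.PRankLE p 2 R) (q : ℕ) (hq : q.Prime) (hqp : q ≠ p) (hdvd : q ∣ Nat.card (MulAut R)) : q ∣ p ^ 2 - 1 ∧ q < p := by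
  classical
  have hpp : p.Prime := Fact.out
  haveI : Fact q.Prime := ⟨hq⟩
  haveI hfinA : Finite (MulAut R) := MulEquiv.finite_left
  obtain ⟨α, hα⟩ := exists_prime_orderOf_dvd_card' q hdvd
  suffices hmain : q ∣ p ^ 2 - 1 from ⟨hmain, arith hpp hp hq hqp hmain⟩
  -- the semidirect product
  obtain ⟨g, hgdef⟩ : ∃ g : SD ↥(Subgroup.zpowers α) R,
      g = iA (⟨α, Subgroup.mem_zpowers α⟩ : ↥(Subgroup.zpowers α)) := ⟨_, rfl⟩
  obtain ⟨K, hKdef⟩ : ∃ K : Subgroup (SD ↥(Subgroup.zpowers α) R),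
      K = KK ↥(Subgroup.zpowers α) R := ⟨_, rfl⟩
  haveI hKn : K.Normal := by rw [hKdef]; infer_instance
  have hKp : IsPGroup p ↥K := by
    obtain ⟨m, hm⟩ := IsPGroup.iff_card.mp hR
    apply IsPGroup.of_card (n := m)
    rw [hKdef, card_KK, hm]
  have hgord : orderOf g = q := by
    rw [hgdef, orderOf_injective iA iA_injective, Subgroup.orderOf_mk, hα]
  have hgK : g ∈ Subgroup.normalizer (K : Set (SD ↥(Subgroup.zpowers α) R)) := by
    rw [Subgroup.normalizer_eq_top]; exact Subgroup.mem_top _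
  have hgC : g ∉ Subgroup.centralizer (K : Set (SD ↥(Subgroup.zpowers α) R)) := by
    intro h
    have h1 : α = 1 := by
      apply MulEquiv.ext
      intro r
      have h2 := Subgroup.mem_centralizer_iff.mp h (iG r) (by rw [hKdef]; exact ⟨r, rfl⟩)
      have h3 := conj_iA_iG (⟨α, Subgroup.mem_zpowers α⟩ : ↥(Subgroup.zpowers α)) r
      rw [← hgdef, ← h2, mul_inv_cancel_right] at h3
      exact (iG_injective h3).symm
    rw [h1, orderOf_one] at hα
    exact hq.ne_one hα.symm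
  have hrank : ∀ B : Subgroup (SD ↥(Subgroup.zpowers α) R), B ≤ K →
      (∀ x ∈ B, ∀ y ∈ B, x * y = y * x) → (∀ x ∈ B, x ^ p = 1) → Nat.card ↥B ≤ p ^ 2 := by
    intro B hBK hBc hBe
    have hinj : Function.Injective (iG : R →* SD ↥(Subgroup.zpowers α) R) := iG_injective
    have h1 := hrk (B.comap (iG : R →* SD ↥(Subgroup.zpowers α) R))
      ⟨⟨fun x y => Subtype.ext (hinj (by
        show (iG : R →* SD ↥(Subgroup.zpowers α) R) ((x : R) * (y : R)) =
          (iG : R →* SD ↥(Subgroup.zpowers α) R) ((y : R) * (x : R))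
        rw [map_mul, map_mul]; exact hBc _ x.2 _ y.2))⟩⟩
      (fun a ha => hinj (by rw [map_pow, map_one]; exact hBe _ ha))
    rw [← card_map (A := ↥(Subgroup.zpowers α)), map_comap_eq B (hKdef ▸ hBK)] at h1
    exact h1
  -- minimal Q
  have hex : ∃ m : ℕ, ∃ Q : Subgroup (SD ↥(Subgroup.zpowers α) R), Nat.card ↥Q = m ∧ Q ≤ K ∧
      g ∈ Subgroup.normalizer (Q : Set (SD ↥(Subgroup.zpowers α) R)) ∧
      g ∉ Subgroup.centralizer (Q : Set (SD ↥(Subgroup.zpowers α) R)) :=
    ⟨_, K, rfl, le_rfl, hgK, hgC⟩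
  obtain ⟨Q, hQm, hQK, hgN, hgCQ⟩ := Nat.find_spec hex
  have hQmin : ∀ U : Subgroup (SD ↥(Subgroup.zpowers α) R), U < Q →
      g ∈ Subgroup.normalizer (U : Set (SD ↥(Subgroup.zpowers α) R)) →
      g ∈ Subgroup.centralizer (U : Set (SD ↥(Subgroup.zpowers α) R)) := by
    intro U hU hgU
    by_contra hc
    exact Nat.find_min hex (lt_of_lt_of_eq (Cfsg.Agent.S0651.card_lt_of_lt hU) hQm)
      ⟨U, rfl, hU.le.trans hQK, hgU, hc⟩
  have hQp : IsPGroup p ↥Q := hKp.to_le hQK
  obtain ⟨A, hAdef⟩ : ∃ A : Subgroup (SD ↥(Subgroup.zpowers α) R), A = Subgroup.zpowers g :=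
    ⟨_, rfl⟩
  have hgA : g ∈ A := by rw [hAdef]; exact Subgroup.mem_zpowers g
  have hAN : A ≤ Subgroup.normalizer (Q : Set (SD ↥(Subgroup.zpowers α) R)) := by
    rw [hAdef, Subgroup.zpowers_le]; exact hgN
  have hAcop : (Nat.card ↥A).Coprime p := by
    rw [hAdef, Nat.card_zpowers, hgord]
    exact (Nat.coprime_primes hq hpp).mpr hqp
  have hnt : ⁅Q, A⁆ ≠ ⊥ := by
    intro h
    rw [Subgroup.commutator_eq_bot_iff_le_centralizer] at h
    apply hgCQ
    rw [Subgroup.mem_centralizer_iff]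
    intro x hx
    exact ((Subgroup.mem_centralizer_iff.mp (h hx)) g hgA).symm
  have hmin : ∀ U : Subgroup (SD ↥(Subgroup.zpowers α) R), U < Q →
      A ≤ Subgroup.normalizer (U : Set (SD ↥(Subgroup.zpowers α) R)) → ⁅U, A⁆ = ⊥ := by
    intro U hU hAU
    have h1 := hQmin U hU (hAU hgA)
    have h2 : A ≤ Subgroup.centralizer (U : Set (SD ↥(Subgroup.zpowers α) R)) := by
      rw [hAdef, Subgroup.zpowers_le]; exact h1
    rw [Subgroup.commutator_eq_bot_iff_le_centralizer]
    intro x hx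
    rw [Subgroup.mem_centralizer_iff]
    intro a ha
    exact ((Subgroup.mem_centralizer_iff.mp (h2 ha)) x hx).symm
  have hHH := Cfsg.Agent.S3736.result A A Q hQp hAN le_rfl Subgroup.le_normalizer hAcop hnt hmin
  have hQA : ⁅Q, A⁆ = Q := hHH.1
  have hstr := hHH.2.1
  have hexp : ∀ x ∈ Q, x ^ p = 1 := hHH.2.2.2 hp
  have hCle : Q ⊓ Subgroup.centralizer (A : Set (SD ↥(Subgroup.zpowers α) R)) ≤
      (frattini ↥Q).map Q.subtype := by
    refine (Cfsg.Agent.H1.inf_centralizer_le_commutator_of_commutator_eq A Q hAN hQp hAcop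
      hQA).trans ?_
    rw [← Subgroup.map_subtype_commutator]
    exact Subgroup.map_mono (Cfsg.Agent.H1.commutator_le_frattini hQp)
  -- counting
  have hgq1 : g ^ q = 1 := by rw [← hgord]; exact pow_orderOf_eq_one g
  obtain ⟨Φ, hΦ⟩ : ∃ Φ : Subgroup (SD ↥(Subgroup.zpowers α) R),
      Φ = (frattini ↥Q).map Q.subtype := ⟨_, rfl⟩
  have hΦQ : Φ ≤ Q := by rw [hΦ]; exact Subgroup.map_subtype_le _
  have hgΦ : g ∈ Subgroup.normalizer (Φ : Set (SD ↥(Subgroup.zpowers α) R)) := by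
    rw [hΦ]
    exact Cfsg.Agent.H1.normalizer_le_normalizer_map_of_characteristic Q (frattini ↥Q) hgN
  have hm1 := Cfsg.Agent.S4419.card_modEq_aux q g Q hgN (by rw [hgq1]; exact Subgroup.one_mem _)
  have hm2 := Cfsg.Agent.S4419.card_modEq_aux q g Φ hgΦ (by rw [hgq1]; exact Subgroup.one_mem _)
  rw [← hAdef] at hm1 hm2
  have heq : Q ⊓ Subgroup.centralizer (A : Set (SD ↥(Subgroup.zpowers α) R)) =
      Φ ⊓ Subgroup.centralizer (A : Set (SD ↥(Subgroup.zpowers α) R)) := by
    apply le_antisymm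
    · intro x hx
      exact ⟨by rw [hΦ]; exact hCle hx, hx.2⟩
    · exact inf_le_inf_right _ hΦQ
  rw [heq] at hm1
  have hmod : Nat.card ↥Q ≡ Nat.card ↥Φ [MOD q] := hm1.trans hm2.symm
  obtain ⟨n, hn⟩ := hQp.index (frattini ↥Q)
  have hcardΦ : Nat.card ↥Φ = Nat.card ↥(frattini ↥Q) := by
    rw [hΦ]; exact Subgroup.card_map_of_injective Q.subtype_injective
  have hcardQ : Nat.card ↥Q = Nat.card ↥Φ * p ^ n := by
    rw [hcardΦ, ← hn]; exact ((frattini ↥Q).card_mul_index).symm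
  have hΦp : IsPGroup p ↥Φ := hQp.to_le hΦQ
  obtain ⟨e, he⟩ := IsPGroup.iff_card.mp hΦp
  have hqΦ : Nat.gcd q (Nat.card ↥Φ) = 1 := by
    rw [he]
    exact Nat.Coprime.pow_right e ((Nat.coprime_primes hq hpp).mpr hqp)
  have hpn : p ^ n ≡ 1 [MOD q] := by
    apply Nat.ModEq.cancel_left_of_coprime hqΦ
    rw [← hcardQ, mul_one]; exact hmod
  -- n ≤ 2
  have hsmall : Nat.card ↥Q ≤ p ^ 2 → n ≤ 2 := by
    intro h1
    have h2 : p ^ n ≤ p ^ 2 := by
      rw [← hn]
      exact (Nat.le_of_dvd Nat.card_pos (Subgroup.index_dvd_card _)).trans h1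
    exact (Nat.pow_le_pow_iff_right hpp.one_lt).mp h2
  have hn2 : n ≤ 2 := by
    rcases hstr with hel | hsp
    · apply hsmall
      refine hrank Q hQK (fun x hx y hy => ?_) hexp
      haveI := hel.1
      exact congrArg Subtype.val (mul_comm' (⟨x, hx⟩ : ↥Q) ⟨y, hy⟩)
    · obtain ⟨-, hfc, -⟩ := hsp
      by_cases hQ2 : Nat.card ↥Q ≤ p ^ 2
      · exact hsmall hQ2
      · push Not at hQ2
        obtain ⟨A0, ⟨hA0n, hA0c⟩, hA0max⟩ := Set.exists_max_image
          {B : Subgroup ↥Q | B.Normal ∧ IsMulCommutative ↥B} (fun B => Nat.card B)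
          (Set.toFinite _) ⟨⊥, inferInstance, inferInstance⟩
        haveI := hA0n
        obtain ⟨a, ha⟩ := IsPGroup.iff_card.mp (hQp.to_subgroup A0)
        have ha2 : a ≤ 2 := by
          have h1 : Nat.card ↥(A0.map Q.subtype) ≤ p ^ 2 :=
            hrank _ ((Subgroup.map_subtype_le _).trans hQK) (by
              rintro _ ⟨x, hx, rfl⟩ _ ⟨y, hy, rfl⟩
              haveI := hA0c
              have h3 := mul_comm' (⟨x, hx⟩ : ↥A0) ⟨y, hy⟩
              have h4 : x * y = y * x := congrArg Subtype.val h3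
              exact congrArg Subtype.val h4) (fun x hx => hexp x (Subgroup.map_subtype_le _ hx))
          rw [Subgroup.card_map_of_injective Q.subtype_injective, ha] at h1
          exact (Nat.pow_le_pow_iff_right hpp.one_lt).mp h1
        have hQ3 : Nat.card ↥Q ≤ p ^ 3 := by
          have h1 := Cfsg.Agent.S0129.result hQp A0 hA0c (fun B hBn hBc hAB =>
            (Subgroup.eq_of_le_of_card_ge hAB (hA0max B ⟨hBn, hBc⟩)).symm) a ha
          refine h1.trans (Nat.pow_le_pow_right hpp.pos ?_)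
          interval_cases a <;> simp
        haveI hQnt : Nontrivial ↥Q := by
          rw [← Finite.one_lt_card_iff_nontrivial]
          exact lt_of_le_of_lt (Nat.one_le_pow _ _ hpp.pos) hQ2
        haveI hcnt : Nontrivial ↥(Subgroup.center ↥Q) := hQp.center_nontrivial
        obtain ⟨c, hc⟩ := IsPGroup.iff_card.mp (hQp.to_subgroup (Subgroup.center ↥Q))
        have hc1 : 1 ≤ c := by
          rcases Nat.eq_zero_or_pos c with h0 | h0
          · exfalso
            rw [h0, pow_zero] at hc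
            have := Finite.one_lt_card_iff_nontrivial.mpr hcnt
            omega
          · exact h0
        have h5 : Nat.card ↥Q = p ^ c * p ^ n := by
          rw [← hc, ← hfc, ← hn]; exact ((frattini ↥Q).card_mul_index).symm
        rw [h5, ← pow_add] at hQ3
        have h6 := (Nat.pow_le_pow_iff_right hpp.one_lt).mp hQ3
        omega
  have hn0 : n ≠ 0 := by
    intro h0
    rw [h0, pow_zero, Subgroup.index_eq_one] at hn
    have hbt : (⊥ : Subgroup ↥Q) = ⊤ := frattini_nongenerating (by rw [hn]; simp)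
    apply hgCQ
    rw [Subgroup.mem_centralizer_iff]
    intro x hx
    have hx1 : (⟨x, hx⟩ : ↥Q) ∈ (⊥ : Subgroup ↥Q) := by rw [hbt]; exact Subgroup.mem_top _
    rw [Subgroup.mem_bot] at hx1
    have hx2 : x = 1 := congrArg Subtype.val hx1
    rw [hx2, one_mul, mul_one]
  have hp2 : p ^ 2 ≡ 1 [MOD q] := by
    have h12 : n = 1 ∨ n = 2 := by omega
    rcases h12 with h | h
    · rw [h, pow_one] at hpn
      have := hpn.pow 2
      simpa using this
    · rw [h] at hpn; exact hpn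
  exact (Nat.modEq_iff_dvd' (Nat.one_le_pow 2 p hpp.pos)).mp hp2.symm

end Cfsg.Agent.S0640
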