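import Cfsg.Statements.S0642
import Cfsg.Agent.Lib.Lead.OmegaFaithful

set_option autoImplicit false
open Cfsg

namespace Cfsg.Agent.S0642

open Cfsg.Agent.Lib.Lead.OmegaFaithful
open scoped commutatorElement



/-- Among finite 2-groups the regular ones are exactly the abelian ones. -/
theorem result {G : Type*} [Group G] [Finite G] (hG : IsPGroup 2 G) : Cfsg.IsRegularPGroup 2 G ↔ ∀ a b : G, a * b = b * a := by
  classical
  constructor
  · rintro ⟨-, hreg⟩
    set K : Subgroup G := commutator G with hK
    haveI : K.Normal := by rw [hK]; infer_instance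
    -- powers of elements of `K` lie in `agemo 2 K`
    have hpc : ∀ (L : Subgroup G), L ≤ K → Cfsg.powerClosure 2 1 L ≤ agemo 2 K := by
      intro L hL
      rw [Cfsg.powerClosure, Subgroup.closure_le]
      rintro y ⟨x, hx, rfl⟩
      rw [pow_one]
      exact pow_mem_agemo (hL hx)
    have hconj : ∀ v n : G, n ∈ agemo 2 K → v * n * v⁻¹ ∈ agemo 2 K := by
      intro v n hn
      have := agemo_invariant (p := 2) (MulAut.conj v) K (by
        intro x hx
        rw [MulAut.conj_apply]
        exact ‹K.Normal›.conj_mem x hx v) n hn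
      rwa [MulAut.conj_apply] at this
    have hle : K ≤ agemo 2 K := by
      rw [hK, commutator_def, Subgroup.commutator_le]
      intro x _ y _
      obtain ⟨c, hc, hceq⟩ := hreg y⁻¹ x⁻¹ 1
      rw [pow_one] at hceq
      have hL : ⁅Subgroup.closure ({y⁻¹, x⁻¹} : Set G), Subgroup.closure ({y⁻¹, x⁻¹} : Set G)⁆ ≤ K := by
        rw [hK, commutator_def]
        exact Subgroup.commutator_mono le_top le_top
      have hc' := hpc _ hL hc
      have hceq' : c = (y⁻¹ ^ 2 * x⁻¹ ^ 2)⁻¹ * (y⁻¹ * x⁻¹) ^ 2 := by
        rw [hceq]; group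
      have e : ⁅x, y⁆ = x⁻¹ * c * x⁻¹⁻¹ := by
        rw [hceq', commutatorElement_def, pow_two, pow_two, pow_two]; group
      rw [e]
      exact hconj _ _ hc'
    have hKbot : K = ⊥ := by
      by_contra hne
      have h1 := card_agemo_lt (p := 2) hG K hne
      have h2 := Subgroup.card_le_of_le hle
      omega
    intro a b
    have : ⁅a, b⁆ ∈ K := by
      rw [hK, commutator_def]
      exact Subgroup.commutator_mem_commutator (Subgroup.mem_top a) (Subgroup.mem_top b)
    rw [hKbot, Subgroup.mem_bot, commutatorElement_eq_one_iff_mul_comm] at this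
    exact this
  · intro hcomm
    refine ⟨hG, ?_⟩
    intro a b n
    refine ⟨1, Subgroup.one_mem _, ?_⟩
    have hc : Commute a b := hcomm a b
    rw [hc.mul_pow, mul_one]

end Cfsg.Agent.S0642
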