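import Cfsg.Statements.S0645
import Mathlib
import Cfsg.Agent.H1.CyclicMaximal
import Cfsg.Agent.H1.CyclicSub
import Cfsg.Agent.H1.MinNonPClosed2
import Cfsg.Agent.H2.UniqueOrderP

set_option autoImplicit false
open Cfsg

namespace Cfsg.Agent.S0645

set_option autoImplicit false
open scoped Pointwise commutatorElement
open H1

/-- Classification of p-groups with a cyclic maximal subgroup, odd p: a non-abelian one of order p^n has generators a of order p^(n-1) and b of order p, b outside the cyclic subgroup generated by a, with b a b⁻¹ = a^(1 + p^(n-2)). -/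
theorem result {G : Type*} [Group G] [Finite G] {p : ℕ} [Fact p.Prime] (hp : p ≠ 2) (n : ℕ) (hn : 3 ≤ n) (hG : Nat.card G = p ^ n) (C : Subgroup G) (hC : IsCyclic C) (hCi : C.index = p) (hna : ∃ x y : G, x * y ≠ y * x) : ∃ a b : G, orderOf a = p ^ (n - 1) ∧ orderOf b = p ∧ b ∉ Subgroup.zpowers a ∧ b * a * b⁻¹ = a ^ (1 + p ^ (n - 2)) := by
  have hpp : p.Prime := Fact.out
  have hR : IsPGroup p G := IsPGroup.of_card hG
  have hnc : ¬ IsCyclic G := by
    intro h
    obtain ⟨x, y, hxy⟩ := hna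
    exact hxy (IsCyclic.commGroup.mul_comm x y)
  obtain ⟨a', ha'⟩ := hC.exists_generator
  obtain ⟨a, haa⟩ : ∃ a : G, a = (a' : G) := ⟨_, rfl⟩
  have hCz : C = Subgroup.zpowers a := by
    ext x
    constructor
    · intro hx
      obtain ⟨k, hk⟩ := Subgroup.mem_zpowers_iff.1 (ha' ⟨x, hx⟩)
      refine Subgroup.mem_zpowers_iff.2 ⟨k, ?_⟩
      have := congrArg Subtype.val hk
      rw [haa]
      simpa using this
    · intro hx
      rw [haa] at hx
      exact (Subgroup.zpowers_le.2 a'.2) hx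
  have hCn : C.Normal := by
    apply Subgroup.normal_of_index_eq_minFac_card
    rw [hCi, hG, Nat.Prime.pow_minFac hpp (by omega)]
  rw [hCz] at hCn hCi
  obtain ⟨x, z, hxA, hxo, hzo, hxz, hzA, hzc, hall⟩ := omega_of_cyclic_index_p hp hR hnc a hCn hCi
  -- order of a
  obtain ⟨m, rfl⟩ : ∃ m, n = m + 1 := ⟨n - 1, by omega⟩
  have hm2 : 2 ≤ m := by omega
  have hao : orderOf a = p ^ m := by
    have h1 := Subgroup.card_mul_index (Subgroup.zpowers a)
    rw [hCi, hG, Nat.card_zpowers, pow_succ] at h1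
    exact Nat.eq_of_mul_eq_mul_right hpp.pos h1
  obtain ⟨s, hs⟩ := exists_conj_pow a hCn x
  -- s^p ≡ 1
  have hsp : s ^ p ≡ 1 [MOD p ^ m] := by
    have h1 := H2.UOP.conj_pow_formula hs p
    rw [← hxo, pow_orderOf_eq_one, inv_one, one_mul, mul_one] at h1
    have h2 : a ^ (s ^ orderOf x) = a ^ 1 := by rw [← h1, pow_one]
    rw [pow_eq_pow_iff_modEq, hao, hxo] at h2
    exact h2
  -- key: a ^ t ≠ a
  set t : ℕ := 1 + p ^ (m - 1) with ht
  have hpm : p ^ (m - 1) < p ^ m := Nat.pow_lt_pow_right hpp.one_lt (by omega)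
  have hat : ∀ k : ℕ, a ^ k = a → k ≡ 1 [MOD p ^ m] := by
    intro k hk
    have h2 : a ^ k = a ^ 1 := by rw [hk, pow_one]
    rw [pow_eq_pow_iff_modEq, hao] at h2
    exact h2
  have ht1 : ¬ t ≡ 1 [MOD p ^ m] := by
    intro h
    have h1 : p ^ m ∣ t - 1 := (Nat.modEq_iff_dvd' (by omega)).mp h.symm
    have h2 : t - 1 = p ^ (m - 1) := by omega
    rw [h2] at h1
    have := Nat.le_of_dvd (pow_pos hpp.pos _) h1
    omega
  -- s ≢ 1
  have hs1 : ¬ s ≡ 1 [MOD p ^ m] := by
    intro h
    have h1 : a ^ s = a := by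
      have : a ^ s = a ^ 1 := by rw [pow_eq_pow_iff_modEq, hao]; exact h
      rw [this, pow_one]
    rw [h1] at hs
    have hcomm : a * x = x * a := by
      calc a * x = x * (x⁻¹ * a * x) := by group
        _ = x * a := by rw [hs]
    -- centralizer of a is everything, centralizer of x is everything
    have htop : Subgroup.zpowers a ⊔ Subgroup.zpowers x = ⊤ := by
      apply sup_eq_top_of_index_prime _ _ (by rw [hCi]; exact hpp)
      intro hle
      exact hxA (hle (Subgroup.mem_zpowers x))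
    have hcl : Subgroup.closure ({a, x} : Set G) = ⊤ := by
      rw [← htop, Subgroup.zpowers_eq_closure, Subgroup.zpowers_eq_closure, ← Subgroup.closure_union]
      congr 1
    have hcm : IsMulCommutative (Subgroup.closure ({a, x} : Set G)) := by
      apply Subgroup.isMulCommutative_closure
      intro u hu v hv
      rcases hu with rfl | rfl <;> rcases hv with rfl | rfl
      · rfl
      · exact hcomm
      · exact hcomm.symm
      · rfl
    obtain ⟨u, v, huv⟩ := hna
    apply huv
    have hu : u ∈ Subgroup.closure ({a, x} : Set G) := by rw [hcl]; trivial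
    have hv : v ∈ Subgroup.closure ({a, x} : Set G) := by rw [hcl]; trivial
    have := hcm.is_comm.comm ⟨u, hu⟩ ⟨v, hv⟩
    exact congrArg Subtype.val this
  -- units in ZMod
  have hcyc : IsCyclic (ZMod (p ^ m))ˣ := ZMod.isCyclic_units_of_prime_pow p hpp hp m
  have hsZ : ((s : ZMod (p ^ m))) ^ p = 1 := by
    have := (ZMod.natCast_eq_natCast_iff _ _ _).mpr hsp
    push_cast at this
    exact this
  have htZ : ((t : ZMod (p ^ m))) ^ p = 1 := by
    have hsq : ((p : ZMod (p ^ m)) ^ (m - 1)) ^ 2 = 0 := by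
      rw [← pow_mul]
      have h1 : (p : ZMod (p ^ m)) ^ m = 0 := by
        have := ZMod.natCast_self (p ^ m)
        push_cast at this
        exact this
      have h2 : (m - 1) * 2 = m + (m - 2) := by omega
      rw [h2, pow_add, h1, zero_mul]
    have hkey : ∀ j : ℕ, (1 + (p : ZMod (p ^ m)) ^ (m - 1)) ^ j = 1 + j * (p : ZMod (p ^ m)) ^ (m - 1) := by
      intro j
      induction j with
      | zero => simp
      | succ j ih =>
        rw [pow_succ, ih]
        have : (1 + (j : ZMod (p ^ m)) * (p : ZMod (p ^ m)) ^ (m - 1)) * (1 + (p : ZMod (p ^ m)) ^ (m - 1)) =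
          1 + ((j : ZMod (p ^ m)) + 1) * (p : ZMod (p ^ m)) ^ (m - 1) + j * ((p : ZMod (p ^ m)) ^ (m - 1)) ^ 2 := by ring
        rw [this, hsq, mul_zero, add_zero]
        push_cast
        ring
    rw [ht]
    push_cast
    rw [hkey p]
    have h1 : (p : ZMod (p ^ m)) * (p : ZMod (p ^ m)) ^ (m - 1) = 0 := by
      rw [← pow_succ']
      have h2 : m - 1 + 1 = m := by omega
      rw [h2]
      have := ZMod.natCast_self (p ^ m)
      push_cast at this
      exact this
    rw [h1, add_zero]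
  set us : (ZMod (p ^ m))ˣ := Units.ofPowEqOne _ p hsZ hpp.ne_zero with hus
  set ut : (ZMod (p ^ m))ˣ := Units.ofPowEqOne _ p htZ hpp.ne_zero with hut
  have hus1 : us ≠ 1 := by
    intro h
    have h1 : ((us : (ZMod (p ^ m))ˣ) : ZMod (p ^ m)) = 1 := by rw [h]; rfl
    rw [hus, Units.val_ofPowEqOne] at h1
    apply hs1
    have h2 : (s : ZMod (p ^ m)) = ((1 : ℕ) : ZMod (p ^ m)) := by rw [h1]; simp
    exact (ZMod.natCast_eq_natCast_iff _ _ _).mp h2
  have hut1 : ut ≠ 1 := by
    intro h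
    have h1 : ((ut : (ZMod (p ^ m))ˣ) : ZMod (p ^ m)) = 1 := by rw [h]; rfl
    rw [hut, Units.val_ofPowEqOne] at h1
    apply ht1
    have h2 : (t : ZMod (p ^ m)) = ((1 : ℕ) : ZMod (p ^ m)) := by rw [h1]; simp
    exact (ZMod.natCast_eq_natCast_iff _ _ _).mp h2
  have huso : orderOf us = p := by
    apply orderOf_eq_prime _ hus1
    apply Units.ext
    rw [Units.val_pow_eq_pow_val, hus, Units.val_ofPowEqOne, hsZ]; rfl
  have huto : orderOf ut = p := by
    apply orderOf_eq_prime _ hut1
    apply Units.ext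
    rw [Units.val_pow_eq_pow_val, hut, Units.val_ofPowEqOne, htZ]; rfl
  have hzp : Subgroup.zpowers us = Subgroup.zpowers ut := by
    apply eq_of_card_eq_of_isCyclic
    rw [Nat.card_zpowers, Nat.card_zpowers, huso, huto]
  have hmem : ut ∈ Subgroup.zpowers us := by rw [hzp]; exact Subgroup.mem_zpowers ut
  rw [← mem_powers_iff_mem_zpowers] at hmem
  obtain ⟨j, hj⟩ := hmem
  have hsj : s ^ j ≡ t [MOD p ^ m] := by
    have h1 := congrArg (fun u : (ZMod (p ^ m))ˣ => (u : ZMod (p ^ m))) hj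
    simp only [Units.val_pow_eq_pow_val] at h1
    rw [hus, hut, Units.val_ofPowEqOne, Units.val_ofPowEqOne] at h1
    apply (ZMod.natCast_eq_natCast_iff _ _ _).mp
    push_cast
    exact h1
  have hconj : (x ^ j)⁻¹ * a * x ^ j = a ^ t := by
    rw [H2.UOP.conj_pow_formula hs j, pow_eq_pow_iff_modEq, hao]
    exact hsj
  have hane : a ^ t ≠ a := fun h => ht1 (hat t h)
  refine ⟨a, (x ^ j)⁻¹, ?_, ?_, ?_, ?_⟩
  · rw [hao]; congr 1
  · apply orderOf_eq_prime
    · rw [inv_pow, ← pow_mul, mul_comm, pow_mul, ← hxo, pow_orderOf_eq_one, one_pow, inv_one]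
    · intro h
      have h' : x ^ j = 1 := inv_eq_one.mp h
      rw [h'] at hconj
      apply hane
      rw [← hconj]; simp
  · intro hmem
    apply hane
    rw [← hconj]
    obtain ⟨k, hk⟩ := Subgroup.mem_zpowers_iff.mp hmem
    have h1 : x ^ j = (a ^ k)⁻¹ := by rw [hk, inv_inv]
    rw [h1]
    have : Commute (a ^ k) a := (Commute.refl a).zpow_left k
    rw [inv_inv]
    calc a ^ k * a * (a ^ k)⁻¹ = a * a ^ k * (a ^ k)⁻¹ := by rw [this.eq]
      _ = a := by group
  · rw [inv_inv, hconj, ht]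
    congr 2

end Cfsg.Agent.S0645
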