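import Cfsg.Statements.S0647
import Mathlib
import Cfsg.Agent.H1.Basic
import Cfsg.Agent.H1.Abelian

set_option autoImplicit false
open Cfsg

namespace Cfsg.Agent.S0647

open Cfsg.Agent.H1

/-- For a nonempty family of maximal abelian subgroups of a finite group, the intersection of the family is the centre of the subgroup it generates, which is also the full centralizer of that subgroup. -/
theorem result {S : Type*} [Group S] [Finite S] (𝒜 : Set (Subgroup S)) (hne : 𝒜.Nonempty) (hab : ∀ A ∈ 𝒜, IsMulCommutative A) (hmax : ∀ A ∈ 𝒜, ∀ B : Subgroup S, IsMulCommutative B → A ≤ B → B = A) : sInf 𝒜 = sSup 𝒜 ⊓ Subgroup.centralizer ((sSup 𝒜 : Subgroup S) : Set S) ∧ sInf 𝒜 = Subgroup.centralizer ((sSup 𝒜 : Subgroup S) : Set S) := by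
  have h2 : sInf 𝒜 = Subgroup.centralizer ((sSup 𝒜 : Subgroup S) : Set S) := by
    apply le_antisymm
    · rw [Subgroup.le_centralizer_iff, sSup_le_iff]
      intro A hA
      rw [Subgroup.le_centralizer_iff]
      intro x hx
      have hxA : x ∈ A := (sInf_le hA : sInf 𝒜 ≤ A) hx
      exact le_centralizer_of_isMulCommutative A (hab A hA) hxA
    · apply le_sInf
      intro A hA
      have h1 : Subgroup.centralizer ((sSup 𝒜 : Subgroup S) : Set S) ≤ Subgroup.centralizer (A : Set S) :=
        Subgroup.centralizer_le (le_sSup hA)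
      rw [centralizer_eq_of_maximal_abelian A (hab A hA) (hmax A hA)] at h1
      exact h1
  refine ⟨?_, h2⟩
  rw [← h2]
  obtain ⟨A, hA⟩ := hne
  exact (inf_eq_right.mpr ((sInf_le hA).trans (le_sSup hA))).symm

end Cfsg.Agent.S0647
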