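import Cfsg.Statements.S0652
import Mathlib
import Cfsg.Agent.S0651

set_option autoImplicit false
open Cfsg
open scoped commutatorElement

namespace Cfsg.Agent.S0652

/-- For odd p and D normal in the p-group S, the elementary abelian subgroups of D of largest order satisfy the replacement property for class-2 normal subgroups of S. -/
theorem result {S : Type*} [Group S] [Finite S] {p : ℕ} [Fact p.Prime] (hS : IsPGroup p S) (hp : p ≠ 2) (D : Subgroup S) [D.Normal] : ∀ (B : Subgroup S) [B.Normal], ⁅⁅B, B⁆, B⁆ = ⊥ → (∃ U ∈ (Set.image (fun A : Subgroup ↥D => A.map D.subtype) (Cfsg.maxElementaryAbelianSubgroups p ↥D)), ⁅B, B⁆ ≤ U ∧ ¬ B ≤ U) → ∃ A ∈ (Set.image (fun A : Subgroup ↥D => A.map D.subtype) (Cfsg.maxElementaryAbelianSubgroups p ↥D)), ⁅B, B⁆ ≤ A ∧ ¬ B ≤ A ∧ B ≤ Subgroup.normalizer (A : Set S) := by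
  intro B _ _ hU
  apply Cfsg.Agent.S0651.replacement_iter hS hp D _ ?_ ?_ ?_ B hU
  · rintro _ ⟨A₀, -, rfl⟩
    exact Subgroup.map_subtype_le A₀
  · rintro _ ⟨A₀, hA₀, rfl⟩
    haveI : IsMulCommutative A₀ := hA₀.1.1
    exact Subgroup.map_isMulCommutative A₀ D.subtype
  · rintro _ ⟨A₀, hA₀, rfl⟩ T hTD hTab hcard hexp
    obtain ⟨⟨hA₀ab, hA₀p⟩, hA₀max⟩ := hA₀
    haveI : IsMulCommutative T := hTab
    have hc := Cfsg.Agent.S0651.card_transport D A₀ T hTD hcard
    have hAexp : Monoid.exponent ↥(A₀.map D.subtype) ∣ p := by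
      apply Monoid.exponent_dvd_of_forall_pow_eq_one
      rintro ⟨g, hg⟩
      obtain ⟨a₀, ha₀, rfl⟩ := hg
      apply Subtype.ext
      rw [Subgroup.coe_pow, Subgroup.coe_one]
      have h1 := hA₀p a₀ ha₀
      have h2 : ((a₀ ^ p : ↥D) : S) = ((1 : ↥D) : S) := congrArg Subtype.val h1
      rw [Subgroup.coe_pow, Subgroup.coe_one] at h2
      exact h2
    have hTp : ∀ t ∈ T, t ^ p = 1 := by
      intro t ht
      obtain ⟨k, hk⟩ := dvd_trans hexp hAexp
      have h1 : (⟨t, ht⟩ : T) ^ Monoid.exponent T = 1 := Monoid.pow_exponent_eq_one _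
      have h2 : t ^ Monoid.exponent T = 1 := by
        have h3 := congrArg Subtype.val h1
        simpa using h3
      calc t ^ p = t ^ (Monoid.exponent T * k) := by rw [← hk]
        _ = 1 := by rw [pow_mul, h2, one_pow]
    have hel : IsElementaryAbelian p (T.subgroupOf D) := by
      refine ⟨inferInstance, ?_⟩
      intro a ha
      have ha' : (a : S) ∈ T := Subgroup.mem_subgroupOf.mp ha
      apply Subtype.ext
      rw [Subgroup.coe_pow, Subgroup.coe_one]
      exact hTp _ ha'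
    refine ⟨T.subgroupOf D, ⟨hel, ?_⟩, Subgroup.map_subgroupOf_eq_of_le hTD⟩
    intro B₀ hB₀
    rw [hc]
    exact hA₀max B₀ hB₀

end Cfsg.Agent.S0652
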