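import Cfsg.Statements.S0657
import Cfsg.Agent.Lib.Helper7.QuadLin3
import Cfsg.Agent.H2.PPrimeCore

set_option autoImplicit false
open Cfsg

namespace Cfsg.Agent.S0657

/-- For odd p, a group that fails to be p-stable modulo its largest normal subgroup of order prime to p, and whose upper p-series does not stop there, has a section isomorphic to SL(2, p). -/
theorem result {G : Type*} [Group G] [Finite G] {p : ℕ} [Fact p.Prime] (hp : p ≠ 2) (hO : Cfsg.pPrimeCore p G < Cfsg.pPrimePCore p G) (hns : ¬ Cfsg.IsPStable p (G ⧸ Cfsg.pPrimeCore p G)) : ∃ (K L : Subgroup G) (hL : (L.subgroupOf K).Normal), K ≤ ⊤ ∧ Nonempty ((K ⧸ L.subgroupOf K) ≃* Matrix.SpecialLinearGroup (Fin 2) (ZMod p)) := by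
  classical
  have hpp : p.Prime := Fact.out
  by_contra hcon
  have hfreeG : ¬ Cfsg.Involves (Matrix.SpecialLinearGroup (Fin 2) (ZMod p)) G := by
    rintro ⟨K, R, hn, hne⟩
    exact hcon ⟨K, R, hn, le_top, hne⟩
  have hfree : ¬ Cfsg.Involves (Matrix.SpecialLinearGroup (Fin 2) (ZMod p))
      (G ⧸ Cfsg.pPrimeCore p G) :=
    fun h => hfreeG (Cfsg.Agent.Lib.Helper7.QuadLin.involves_of_surjective
      (QuotientGroup.mk' (Cfsg.pPrimeCore p G)) (QuotientGroup.mk'_surjective _) h)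
  apply hns
  refine ⟨hpp.odd_of_ne_two hp, ?_, ?_⟩
  · intro hbot
    unfold Cfsg.pPrimePCore at hO
    rw [hbot, MonoidHom.comap_bot, QuotientGroup.ker_mk'] at hO
    exact lt_irrefl _ hO
  · intro A P hA hP hnorm hPle hPn hquad
    have hbot : Cfsg.pPrimeCore p (G ⧸ Cfsg.pPrimeCore p G) = ⊥ :=
      Cfsg.Agent.H2.pPrimeCore_quotient_eq_bot p
    rw [hbot, bot_sup_eq] at hPn
    haveI := hPn
    have hst := Cfsg.Agent.Lib.Helper7.QuadLin.isPStableOn_of_free hp hfree P hP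
    rintro _ ⟨⟨a, haN⟩, haA, rfl⟩
    have haA' : a ∈ A := haA
    have hqa : ⁅⁅P, Subgroup.zpowers a⁆, Subgroup.zpowers a⁆ = ⊥ := by
      rw [eq_bot_iff, ← hquad]
      have hza : Subgroup.zpowers a ≤ A := Subgroup.zpowers_le.mpr haA'
      exact Subgroup.commutator_mono (Subgroup.commutator_mono le_rfl hza) hza
    have hm := hst a hqa
    -- transport along `N(P)/C(P) ≃ Gb/C(P)`
    obtain ⟨N, hN⟩ : ∃ N : Subgroup (G ⧸ Cfsg.pPrimeCore p G),
      N = Subgroup.normalizer (P : Set (G ⧸ Cfsg.pPrimeCore p G)) := ⟨_, rfl⟩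
    have hNtop : N = ⊤ := by rw [hN]; exact Subgroup.normalizer_eq_top P
    obtain ⟨ι, hι⟩ : ∃ ι : ↥(Subgroup.normalizer (P : Set (G ⧸ Cfsg.pPrimeCore p G))) →*
        (G ⧸ Cfsg.pPrimeCore p G) ⧸ Subgroup.centralizer (P : Set (G ⧸ Cfsg.pPrimeCore p G)),
      ι = (QuotientGroup.mk' _).comp (Subgroup.subtype _) := ⟨_, rfl⟩
    have hιs : Function.Surjective ι := by
      intro q
      obtain ⟨g, rfl⟩ := QuotientGroup.mk_surjective q
      have hg : g ∈ Subgroup.normalizer (P : Set (G ⧸ Cfsg.pPrimeCore p G)) := by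
        rw [← hN, hNtop]; exact Subgroup.mem_top g
      exact ⟨⟨g, hg⟩, by rw [hι]; rfl⟩
    have hker : ι.ker = (Subgroup.centralizer (P : Set (G ⧸ Cfsg.pPrimeCore p G))).subgroupOf
        (Subgroup.normalizer (P : Set (G ⧸ Cfsg.pPrimeCore p G))) := by
      ext ⟨n, hn⟩
      rw [MonoidHom.mem_ker, Subgroup.mem_subgroupOf, hι]
      exact QuotientGroup.eq_one_iff _
    obtain ⟨e, he⟩ : ∃ e : (↥(Subgroup.normalizer (P : Set (G ⧸ Cfsg.pPrimeCore p G))) ⧸
        (Subgroup.centralizer (P : Set (G ⧸ Cfsg.pPrimeCore p G))).subgroupOf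
        (Subgroup.normalizer (P : Set (G ⧸ Cfsg.pPrimeCore p G)))) ≃*
        (G ⧸ Cfsg.pPrimeCore p G) ⧸ Subgroup.centralizer (P : Set (G ⧸ Cfsg.pPrimeCore p G)),
      ∀ n, e (QuotientGroup.mk n) = ι n := by
      refine ⟨(QuotientGroup.quotientMulEquivOfEq hker.symm).trans
        (QuotientGroup.quotientKerEquivOfSurjective ι hιs), ?_⟩
      intro n
      rfl
    have hpc := Cfsg.Agent.Lib.Helper7.pCore_map_equiv (p := p) e
    rw [← hpc] at hm
    obtain ⟨y, hy, hye⟩ := hm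
    have h2 : e (QuotientGroup.mk ⟨a, haN⟩) = QuotientGroup.mk a := by
      rw [he, hι]; rfl
    have h3 : y = QuotientGroup.mk ⟨a, haN⟩ := by
      apply e.injective
      rw [h2]
      exact hye
    rw [h3] at hy
    exact hy

end Cfsg.Agent.S0657
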