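import Cfsg.Statements.S0660
import Mathlib
import Cfsg.Agent.H1.Maschke
import Cfsg.Agent.H1.NormMap
import Cfsg.Agent.H1.CoprimeAction

set_option autoImplicit false
open Cfsg

namespace Cfsg.Agent.S0660

set_option autoImplicit false
open scoped Pointwise commutatorElement
open Cfsg.Agent.H1

/-- Under a coprime action on an abelian group, an invariant subgroup that is complemented admits an invariant complement. -/
theorem result {G : Type*} [Group G] [Finite G] (V A U : Subgroup G) (hVab : IsMulCommutative V) (hAV : A ≤ Subgroup.normalizer (V : Set G)) (hcop : (Nat.card A).Coprime (Nat.card V)) (hUV : U ≤ V) (hAU : A ≤ Subgroup.normalizer (U : Set G)) (W : Subgroup G) (hWV : W ≤ V) (hUW : U ⊓ W = ⊥) (hUWV : U ⊔ W = V) : ∃ W' : Subgroup G, W' ≤ V ∧ A ≤ Subgroup.normalizer (W' : Set G) ∧ U ⊓ W' = ⊥ ∧ U ⊔ W' = V := by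
  let instC : CommGroup V := { (inferInstance : Group V) with mul_comm := hVab.is_comm.comm }
  let instA : MulDistribMulAction A V :=
    { smul := fun a v => cjHom V A hAV a v
      one_smul := fun v => by
        apply Subtype.ext
        show ((cjHom V A hAV 1 v : V) : G) = v
        rw [cjHom_coe]; simp
      mul_smul := fun a b v => (cjHom_mul V A hAV a b v).symm
      smul_mul := fun a v w => map_mul (cjHom V A hAV a) v w
      smul_one := fun a => map_one (cjHom V A hAV a) }
  have hsmul : ∀ (a : A) (v : V), ((a • v : V) : G) = (a : G) * v * (a : G)⁻¹ := fun a v => rfl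
  obtain ⟨W₁, hW₁A, hW₁U, hW₁sup⟩ := exists_invariant_complement (V := V) (A := A) hcop
    (U.subgroupOf V) (W.subgroupOf V)
    (by
      intro a u hu
      rw [Subgroup.mem_subgroupOf] at hu ⊢
      rw [hsmul]
      exact (Subgroup.mem_normalizer_iff.mp (hAU a.2) u).mp hu)
    (by
      rw [eq_bot_iff]
      intro x hx
      obtain ⟨hx1, hx2⟩ := Subgroup.mem_inf.mp hx
      rw [Subgroup.mem_subgroupOf] at hx1 hx2
      have : (x : G) ∈ U ⊓ W := ⟨hx1, hx2⟩
      rw [hUW, Subgroup.mem_bot] at this
      exact Subgroup.mem_bot.mpr (Subtype.ext this))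
    (by
      rw [eq_top_iff]
      intro x _
      have hx : (x : G) ∈ U ⊔ W := by rw [hUWV]; exact x.2
      have hn : W ≤ Subgroup.normalizer (U : Set G) := by
        intro w hw
        rw [Subgroup.mem_normalizer_iff]
        intro u
        have hcomm : ∀ u' ∈ V, w * u' * w⁻¹ = u' := by
          intro u' hu'
          have := hVab.is_comm.comm (⟨w, hWV hw⟩ : V) ⟨u', hu'⟩
          have := congrArg Subtype.val this
          simp only [Subgroup.coe_mul] at this
          rw [this]; group
        constructor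
        · intro hu; rw [hcomm u (hUV hu)]; exact hu
        · intro hu
          have h1 : w⁻¹ * (w * u * w⁻¹) * w = u := by group
          have h2 : w * u * w⁻¹ ∈ V := hUV hu
          have h3 : u ∈ V := by rw [← h1]; exact mul_mem (mul_mem (inv_mem (hWV hw)) h2) (hWV hw)
          rw [← hcomm u h3]; exact hu
      obtain ⟨u, hu, w, hw, e⟩ := (mem_sup_of_le_normalizer U W hn).mp hx
      have : x = (⟨u, hUV hu⟩ : V) * ⟨w, hWV hw⟩ := Subtype.ext e
      rw [this]
      exact mul_mem (Subgroup.mem_sup_left (Subgroup.mem_subgroupOf.mpr hu))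
        (Subgroup.mem_sup_right (Subgroup.mem_subgroupOf.mpr hw)))
  refine ⟨W₁.map V.subtype, Subgroup.map_subtype_le _, ?_, ?_, ?_⟩
  · have key : ∀ a ∈ A, ∀ w ∈ W₁.map V.subtype, a * w * a⁻¹ ∈ W₁.map V.subtype := by
      rintro a ha _ ⟨w, hw, rfl⟩
      exact ⟨(⟨a, ha⟩ : A) • w, hW₁A ⟨a, ha⟩ w hw, rfl⟩
    intro a ha
    rw [Subgroup.mem_normalizer_iff]
    intro w
    constructor
    · exact key a ha w
    · intro h
      have := key a⁻¹ (inv_mem ha) _ h
      have e : a⁻¹ * (a * w * a⁻¹) * a⁻¹⁻¹ = w := by group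
      rwa [e] at this
  · rw [eq_bot_iff]
    rintro x ⟨hxU, ⟨w, hw, rfl⟩⟩
    have : w ∈ U.subgroupOf V ⊓ W₁ := ⟨Subgroup.mem_subgroupOf.mpr hxU, hw⟩
    rw [hW₁U, Subgroup.mem_bot] at this
    rw [this]; exact Subgroup.mem_bot.mpr rfl
  · apply le_antisymm (sup_le hUV (Subgroup.map_subtype_le _))
    intro v hv
    have : (⟨v, hv⟩ : V) ∈ U.subgroupOf V ⊔ W₁ := by rw [hW₁sup]; exact Subgroup.mem_top _
    obtain ⟨u, hu, w, hw, e⟩ := Subgroup.mem_sup.mp this
    have e' : v = (u : G) * (w : G) := by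
      have := congrArg Subtype.val e
      simpa using this.symm
    rw [e']
    exact mul_mem (Subgroup.mem_sup_left (Subgroup.mem_subgroupOf.mp hu))
      (Subgroup.mem_sup_right ⟨w, hw, rfl⟩)

end Cfsg.Agent.S0660
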