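import Mathlib
import Cfsg.Statements.S0662
import Cfsg.Agent.H2.MaxClassLCS

set_option autoImplicit false
open Cfsg

namespace Cfsg.Agent.S0662


section Part0
open Cfsg

universe u

section LCS

variable {X : Type u} [Group X] [Finite X] {p : ℕ} [Fact p.Prime]

/-- lower central series of the whole group -/
abbrev L (X : Type u) [Group X] (i : ℕ) : Subgroup X := (⊤ : Subgroup X).lowerCentralSeries i

lemma lcs_strict (hX : IsPGroup p X) (i : ℕ) (h : L X i ≠ ⊥) : L X (i + 1) < L X i := by
  haveI : Group.IsNilpotent X := hX.isNilpotent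
  refine lt_of_le_of_ne (Subgroup.lowerCentralSeries_antitone _ (Nat.le_succ i)) ?_
  intro heq
  apply h
  have h1 := Cfsg.Agent.H2.MaxClassLCS.lcs_stable (X := X) i heq (Group.nilpotencyClass X)
  have h2 : L X (i + Group.nilpotencyClass X) ≤ L X (Group.nilpotencyClass X) :=
    Subgroup.lowerCentralSeries_antitone _ (Nat.le_add_left _ _)
  have h3 : L X (Group.nilpotencyClass X) = ⊥ := Subgroup.lowerCentralSeries_nilpotencyClass
  rw [h3, le_bot_iff] at h2
  exact h1.symm.trans h2

/-- a proper inclusion of subgroups of a `p`-group multiplies the order by at least `p` -/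
lemma card_mul_le_of_lt (hX : IsPGroup p X) {H K : Subgroup X} (h : H < K) :
    p * Nat.card H ≤ Nat.card K := by
  have hp : p.Prime := Fact.out
  obtain ⟨a, ha⟩ := (hX.to_subgroup H).exists_card_eq
  obtain ⟨b, hb⟩ := (hX.to_subgroup K).exists_card_eq
  have hlt : Nat.card H < Nat.card K := by
    by_contra hcon
    exact absurd (Subgroup.eq_of_le_of_card_ge h.le (not_lt.1 hcon)) h.ne
  rw [ha, hb] at hlt ⊢
  have hab : a < b := (Nat.pow_lt_pow_iff_right hp.one_lt).1 hlt
  calc p * p ^ a = p ^ (a + 1) := by ring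
    _ ≤ p ^ b := Nat.pow_le_pow_right hp.pos hab

/-- the commutator subgroup of a nonabelian `p`-group has index at least `p²` -/
lemma sq_mul_card_commutator_le (hX : IsPGroup p X) (h : L X 1 ≠ ⊥) :
    p ^ 2 * Nat.card (L X 1) ≤ Nat.card X := by
  have hp : p.Prime := Fact.out
  have hL1 : L X 1 = commutator X := Subgroup.top_lowerCentralSeries_one
  rw [hL1] at h ⊢
  obtain ⟨a, ha⟩ := (hX.to_quotient (commutator X)).exists_card_eq
  have h1 := Subgroup.card_eq_card_quotient_mul_card_subgroup (commutator X)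
  rw [h1, ha]
  apply Nat.mul_le_mul_right
  apply Nat.pow_le_pow_right hp.pos
  by_contra hcon
  have ha1 : a ≤ 1 := by omega
  -- the quotient is cyclic
  have hcyc : IsCyclic (X ⧸ commutator X) := by
    rcases Nat.le_one_iff_eq_zero_or_eq_one.1 ha1 with h0 | h1'
    · rw [h0, pow_zero] at ha
      haveI : Subsingleton (X ⧸ commutator X) := (Nat.card_eq_one_iff_unique.1 ha).1
      exact isCyclic_of_subsingleton
    · rw [h1', pow_one] at ha
      exact isCyclic_of_prime_card ha
  apply h
  rw [eq_bot_iff]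
  rw [commutator_def, Subgroup.commutator_le]
  intro x _ y _
  rw [Subgroup.mem_bot, commutatorElement_eq_one_iff_mul_comm]
  exact Cfsg.Agent.H2.MaxClassLCS.comm_of_cyclic_abelianization p hX hcyc x y

end LCS

end Part0

section Part1
open Cfsg

universe u

section Chain

variable {X : Type u} [Group X] [Finite X] {p : ℕ} [Fact p.Prime]

lemma lower_chain (hX : IsPGroup p X) (j : ℕ) (h : L X (j + 1) ≠ ⊥) :
    p ^ (j + 2) * Nat.card (L X (j + 1)) ≤ Nat.card X := by
  induction j with
  | zero => exact sq_mul_card_commutator_le hX h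
  | succ j ih =>
    have hj : L X (j + 1) ≠ ⊥ := by
      intro h0
      apply h
      have := Subgroup.lowerCentralSeries_antitone (⊤ : Subgroup X) (Nat.le_succ (j + 1))
      rw [eq_bot_iff]
      exact this.trans (le_of_eq h0)
    have h1 := ih hj
    have h2 := card_mul_le_of_lt hX (lcs_strict hX (j + 1) hj)
    calc p ^ (j + 1 + 2) * Nat.card (L X (j + 1 + 1))
        = p ^ (j + 2) * (p * Nat.card (L X (j + 1 + 1))) := by ring
      _ ≤ p ^ (j + 2) * Nat.card (L X (j + 1)) := Nat.mul_le_mul_left _ h2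
      _ ≤ Nat.card X := h1

/-- a group of order `p ^ r`, `r ≥ 2`, has class at most `r - 1` -/
lemma lcs_eq_bot_of_card (r : ℕ) (hr : 2 ≤ r) (hc : Nat.card X = p ^ r) : L X (r - 1) = ⊥ := by
  have hp : p.Prime := Fact.out
  have hX : IsPGroup p X := IsPGroup.of_card hc
  by_contra h
  obtain ⟨j, hj⟩ : ∃ j, r - 1 = j + 1 := ⟨r - 2, by omega⟩
  rw [hj] at h
  have h1 := lower_chain hX j h
  rw [hc, show j + 2 = r by omega] at h1
  have h2 : Nat.card (L X (j + 1)) ≤ 1 := by
    have hpos : 0 < p ^ r := pow_pos hp.pos r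
    by_contra hcon
    have : p ^ r * 2 ≤ p ^ r * Nat.card (L X (j + 1)) := Nat.mul_le_mul_left _ (by omega)
    omega
  apply h
  have h3 : Nat.card (L X (j + 1)) = 1 := le_antisymm h2 Nat.card_pos
  exact (Subgroup.card_eq_one).1 h3

end Chain

section MaxClass

variable {G : Type u} [Group G] [Finite G] {p : ℕ} [Fact p.Prime]

lemma card_lcs (n : ℕ) (hG : Nat.card G = p ^ n) (hcl : Group.nilpotencyClass G = n - 1)
    (hn : 3 ≤ n) (i : ℕ) (hi1 : 1 ≤ i) (hi : i ≤ n - 1) :
    Nat.card (L G i) = p ^ (n - 1 - i) := by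
  have hp : p.Prime := Fact.out
  have hX : IsPGroup p G := IsPGroup.of_card hG
  haveI : Group.IsNilpotent G := hX.isNilpotent
  have hne : ∀ k, k < n - 1 → L G k ≠ ⊥ := by
    intro k hk h0
    have := (Subgroup.lowerCentralSeries_eq_bot_iff_nilpotencyClass_le (G := G)).1 h0
    omega
  -- lower bound
  have hlow : ∀ j, j ≤ n - 1 → p ^ j ≤ Nat.card (L G (n - 1 - j)) := by
    intro j
    induction j with
    | zero => intro _; rw [pow_zero]; exact Nat.card_pos
    | succ j ih =>
      intro hj
      have h1 := ih (by omega)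
      have h2 := card_mul_le_of_lt hX (lcs_strict hX (n - 1 - (j + 1)) (hne _ (by omega)))
      rw [show n - 1 - (j + 1) + 1 = n - 1 - j by omega] at h2
      calc p ^ (j + 1) = p * p ^ j := by ring
        _ ≤ p * Nat.card (L G (n - 1 - j)) := Nat.mul_le_mul_left _ h1
        _ ≤ _ := h2
  have h1 := hlow (n - 1 - i) (by omega)
  rw [show n - 1 - (n - 1 - i) = i by omega] at h1
  apply le_antisymm _ h1
  by_cases hin : i = n - 1
  · rw [hin, Nat.sub_self, pow_zero]
    have : L G (n - 1) = ⊥ :=
      (Subgroup.lowerCentralSeries_eq_bot_iff_nilpotencyClass_le (G := G)).2 (le_of_eq hcl)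
    rw [this, Subgroup.card_bot]
  · obtain ⟨j, hj⟩ : ∃ j, i = j + 1 := ⟨i - 1, by omega⟩
    have h2 := lower_chain hX j (by rw [← hj]; exact hne i (by omega))
    rw [← hj, hG] at h2
    have h3 : p ^ n = p ^ (j + 2) * p ^ (n - 1 - i) := by
      rw [← pow_add]; congr 1; omega
    rw [h3] at h2
    exact Nat.le_of_mul_le_mul_left h2 (pow_pos hp.pos _)

/-- first part: normal subgroups of index `p ^ r`, `r ≥ 2`, are terms of the lower central series -/
lemma normal_eq_lcs (n : ℕ) (hG : Nat.card G = p ^ n) (hcl : Group.nilpotencyClass G = n - 1)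
    (hn : 3 ≤ n) (N : Subgroup G) [N.Normal] (r : ℕ) (hr : 2 ≤ r) (hN : N.index = p ^ r) :
    N = L G (r - 1) := by
  have hp : p.Prime := Fact.out
  have hQ : Nat.card (G ⧸ N) = p ^ r := by rw [← Subgroup.index_eq_card]; exact hN
  have h1 : L (G ⧸ N) (r - 1) = ⊥ := lcs_eq_bot_of_card r hr hQ
  have h2 : (L G (r - 1)).map (QuotientGroup.mk' N) = L (G ⧸ N) (r - 1) := by
    show ((⊤ : Subgroup G).lowerCentralSeries (r - 1)).map (QuotientGroup.mk' N) = _
    rw [Subgroup.map_lowerCentralSeries,
      Subgroup.map_top_of_surjective _ (QuotientGroup.mk'_surjective N)]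
  have hle : L G (r - 1) ≤ N := by
    rw [h1] at h2
    have := (Subgroup.map_eq_bot_iff _).1 h2
    rwa [QuotientGroup.ker_mk'] at this
  have hrn : r ≤ n := by
    have h3 := N.card_mul_index
    rw [hN, hG] at h3
    have h4 : p ^ r ∣ p ^ n := Dvd.intro_left _ h3
    exact (Nat.pow_dvd_pow_iff_le_right hp.one_lt).1 h4
  have hcardN : Nat.card N = p ^ (n - r) := by
    have h3 := N.card_mul_index
    rw [hN, hG] at h3
    have h4 : p ^ n = p ^ (n - r) * p ^ r := by rw [← pow_add]; congr 1; omega
    rw [h4] at h3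
    exact Nat.eq_of_mul_eq_mul_right (pow_pos hp.pos r) h3
  have hcardL := card_lcs n hG hcl hn (r - 1) (by omega) (by omega)
  symm
  apply Subgroup.eq_of_le_of_card_ge hle
  rw [hcardN, hcardL]
  exact le_of_eq (by congr 1; omega)

end MaxClass

end Part1

section Part2
open Cfsg
open scoped commutatorElement

universe u

section Count

variable {G : Type u} [Group G] [Finite G] {p : ℕ} [Fact p.Prime]

lemma normal_of_commutator_le (H : Subgroup G) (h : commutator G ≤ H) : H.Normal := by
  refine ⟨fun x hx g => ?_⟩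
  have e : g * x * g⁻¹ = ⁅g, x⁆ * x := by rw [commutatorElement_def]; group
  rw [e]
  exact H.mul_mem (h (Subgroup.commutator_mem_commutator (Subgroup.mem_top g) (Subgroup.mem_top x))) hx

lemma commutator_le_of_index_prime (N : Subgroup G) [N.Normal] (hN : N.index = p) :
    commutator G ≤ N := by
  have hQ : Nat.card (G ⧸ N) = p := by rw [← Subgroup.index_eq_card]; exact hN
  haveI : IsCyclic (G ⧸ N) := isCyclic_of_prime_card hQ
  letI : CommGroup (G ⧸ N) := IsCyclic.commGroup
  have := Abelianization.commutator_subset_ker (QuotientGroup.mk' N)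
  rwa [QuotientGroup.ker_mk'] at this

variable (n : ℕ) (hG : Nat.card G = p ^ n) (hcl : Group.nilpotencyClass G = n - 1) (hn : 3 ≤ n)

include hG hcl hn in
lemma card_commutator : Nat.card (commutator G) = p ^ (n - 2) := by
  have := card_lcs n hG hcl hn 1 le_rfl (by omega)
  rw [show L G 1 = commutator G from Subgroup.top_lowerCentralSeries_one] at this
  rw [this]; congr 1

include hG hcl hn in
lemma sup_zpowers_card (x : G) (hx : x ∉ commutator G) :
    Nat.card (commutator G ⊔ Subgroup.zpowers x : Subgroup G) = p ^ (n - 1) := by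
  have hp : p.Prime := Fact.out
  have hX : IsPGroup p G := IsPGroup.of_card hG
  have hc := card_commutator n hG hcl hn
  have hlt : commutator G < commutator G ⊔ Subgroup.zpowers x := by
    refine lt_of_le_of_ne le_sup_left ?_
    intro h
    apply hx
    rw [h]
    exact Subgroup.mem_sup_right (Subgroup.mem_zpowers x)
  have h1 := card_mul_le_of_lt hX hlt
  have hne : commutator G ⊔ Subgroup.zpowers x ≠ ⊤ := by
    intro htop
    have hcyc : IsCyclic (G ⧸ commutator G) := by
      refine ⟨⟨QuotientGroup.mk' (commutator G) x, ?_⟩⟩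
      intro q
      obtain ⟨g, rfl⟩ := QuotientGroup.mk'_surjective (commutator G) q
      have hg : g ∈ commutator G ⊔ Subgroup.zpowers x := by rw [htop]; trivial
      have hg' : g ∈ ((commutator G ⊔ Subgroup.zpowers x : Subgroup G) : Set G) := hg
      rw [Subgroup.normal_mul] at hg'
      obtain ⟨c, hc', z, hz, rfl⟩ := Set.mem_mul.1 hg'
      obtain ⟨k, rfl⟩ := Subgroup.mem_zpowers_iff.1 hz
      refine ⟨k, ?_⟩
      show (QuotientGroup.mk' (commutator G) x) ^ k = QuotientGroup.mk' (commutator G) (c * x ^ k)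
      rw [map_mul, map_zpow]
      have : QuotientGroup.mk' (commutator G) c = 1 := (QuotientGroup.eq_one_iff c).2 hc'
      rw [this, one_mul]
    have hcomm := Cfsg.Agent.H2.MaxClassLCS.comm_of_cyclic_abelianization p hX hcyc
    have hbot : commutator G = ⊥ := by
      rw [eq_bot_iff, commutator_def, Subgroup.commutator_le]
      intro a _ b _
      rw [Subgroup.mem_bot, commutatorElement_eq_one_iff_mul_comm]
      exact hcomm a b
    rw [hbot, Subgroup.card_bot] at hc
    have : 1 < p ^ (n - 2) := Nat.one_lt_pow (by omega) hp.one_lt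
    omega
  have h2 := card_mul_le_of_lt hX (lt_top_iff_ne_top.2 hne)
  rw [Subgroup.card_top, hG] at h2
  rw [hc] at h1
  obtain ⟨a, ha⟩ := (hX.to_subgroup (commutator G ⊔ Subgroup.zpowers x)).exists_card_eq
  rw [ha] at h1 h2 ⊢
  have e1 : p * p ^ (n - 2) = p ^ (n - 1) := by
    rw [← pow_succ']; congr 1; omega
  have e2 : p * p ^ a = p ^ (a + 1) := by rw [← pow_succ']
  rw [e1] at h1
  rw [e2] at h2
  have i1 := (Nat.pow_le_pow_iff_right hp.one_lt).1 h1
  have i2 := (Nat.pow_le_pow_iff_right hp.one_lt).1 h2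
  congr 1; omega

include hG hn in
lemma card_of_index_prime (N : Subgroup G) (hN : N.index = p) : Nat.card N = p ^ (n - 1) := by
  have hp : p.Prime := Fact.out
  have h3 := N.card_mul_index
  rw [hN, hG] at h3
  have h4 : p ^ n = p ^ (n - 1) * p := by rw [← pow_succ]; congr 1; omega
  rw [h4] at h3
  exact Nat.eq_of_mul_eq_mul_right hp.pos h3

include hG hcl hn in
lemma eq_sup_zpowers (N : Subgroup G) [N.Normal] (hN : N.index = p) (x : G) (hxN : x ∈ N)
    (hx : x ∉ commutator G) : N = commutator G ⊔ Subgroup.zpowers x := by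
  symm
  apply Subgroup.eq_of_le_of_card_ge
  · exact sup_le (commutator_le_of_index_prime N hN) ((Subgroup.zpowers_le).2 hxN)
  · rw [sup_zpowers_card n hG hcl hn x hx, card_of_index_prime n hG hn N hN]

end Count

end Part2

section Part3
open Cfsg
open scoped commutatorElement

universe u

section Count2

variable {G : Type u} [Group G] [Finite G] {p : ℕ} [Fact p.Prime]

lemma count_index_p (n : ℕ) (hG : Nat.card G = p ^ n) (hcl : Group.nilpotencyClass G = n - 1)
    (hn : 3 ≤ n) : Nat.card {N : Subgroup G // N.Normal ∧ N.index = p} = p + 1 := by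
  classical
  have hp : p.Prime := Fact.out
  haveI : Fintype G := Fintype.ofFinite G
  haveI : Fintype {N : Subgroup G // N.Normal ∧ N.index = p} := Fintype.ofFinite _
  rw [Nat.card_eq_fintype_card]
  set S := {N : Subgroup G // N.Normal ∧ N.index = p} with hS
  let A : S → Finset G := fun N =>
    Finset.univ.filter (fun x : G => x ∈ N.1 ∧ x ∉ commutator G)
  have hc := card_commutator n hG hcl hn
  have hcardfilter : ∀ H : Subgroup G, (Finset.univ.filter (fun x : G => x ∈ H)).card = Nat.card H := by
    intro H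
    rw [Nat.card_eq_fintype_card, Fintype.card_subtype]
  have hA : ∀ N : S, (A N).card = p ^ (n - 1) - p ^ (n - 2) := by
    intro N
    haveI := N.2.1
    have hle := commutator_le_of_index_prime N.1 N.2.2
    have e : A N = (Finset.univ.filter (fun x : G => x ∈ N.1)) \
        (Finset.univ.filter (fun x : G => x ∈ commutator G)) := by
      ext x
      simp only [A, Finset.mem_filter, Finset.mem_univ, true_and, Finset.mem_sdiff]
    rw [e, Finset.card_sdiff_of_subset, hcardfilter, hcardfilter, hc, card_of_index_prime n hG hn N.1 N.2.2]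
    intro x hx
    simp only [Finset.mem_filter, Finset.mem_univ, true_and] at hx ⊢
    exact hle hx
  have hunion : (Finset.univ : Finset S).biUnion A =
      Finset.univ.filter (fun x : G => x ∉ commutator G) := by
    ext x
    simp only [Finset.mem_biUnion, Finset.mem_univ, true_and, Finset.mem_filter, A]
    constructor
    · rintro ⟨N, _, hx⟩; exact hx
    · intro hx
      have hM : (commutator G ⊔ Subgroup.zpowers x : Subgroup G).Normal :=
        normal_of_commutator_le _ le_sup_left
      have hidx : (commutator G ⊔ Subgroup.zpowers x : Subgroup G).index = p := by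
        have h3 := (commutator G ⊔ Subgroup.zpowers x : Subgroup G).card_mul_index
        rw [sup_zpowers_card n hG hcl hn x hx, hG] at h3
        have h4 : p ^ n = p ^ (n - 1) * p := by rw [← pow_succ]; congr 1; omega
        rw [h4] at h3
        exact Nat.eq_of_mul_eq_mul_left (pow_pos hp.pos _) h3
      exact ⟨⟨_, hM, hidx⟩, Subgroup.mem_sup_right (Subgroup.mem_zpowers x), hx⟩
  have hdisj : ∀ N ∈ (Finset.univ : Finset S), ∀ N' ∈ (Finset.univ : Finset S), N ≠ N' →
      Disjoint (A N) (A N') := by
    intro N _ N' _ hne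
    rw [Finset.disjoint_left]
    intro x hx hx'
    simp only [A, Finset.mem_filter, Finset.mem_univ, true_and] at hx hx'
    apply hne
    apply Subtype.ext
    haveI := N.2.1
    haveI := N'.2.1
    rw [eq_sup_zpowers n hG hcl hn N.1 N.2.2 x hx.1 hx.2,
      eq_sup_zpowers n hG hcl hn N'.1 N'.2.2 x hx'.1 hx'.2]
  have hcount := Finset.card_biUnion hdisj
  rw [hunion, Finset.sum_congr rfl (fun N _ => hA N), Finset.sum_const, Finset.card_univ,
    smul_eq_mul] at hcount
  have hcompl : (Finset.univ.filter (fun x : G => x ∉ commutator G)).card = p ^ n - p ^ (n - 2) := by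
    have e : Finset.univ.filter (fun x : G => x ∉ commutator G) =
        Finset.univ \ (Finset.univ.filter (fun x : G => x ∈ commutator G)) := by
      ext x
      simp
    rw [e, Finset.card_sdiff_of_subset (Finset.subset_univ _), hcardfilter, hc, Finset.card_univ,
      ← Nat.card_eq_fintype_card, hG]
  rw [hcompl] at hcount
  -- arithmetic
  obtain ⟨m, hm⟩ : ∃ m, n = m + 2 := ⟨n - 2, by omega⟩
  subst hm
  have e1 : p ^ (m + 2 - 1) = p ^ m * p := by
    rw [show m + 2 - 1 = m + 1 by omega, pow_succ]
  have e2 : p ^ (m + 2 - 2) = p ^ m := by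
    rw [show m + 2 - 2 = m by omega]
  have e3 : p ^ (m + 2) = p ^ m * (p * p) := by ring
  rw [e1, e2, e3] at hcount
  have hpm : 0 < p ^ m := pow_pos hp.pos m
  have h2 := hp.two_le
  -- p^m (p^2 - 1) = card * p^m (p - 1)
  have hc1 : p ^ m * (p * p) - p ^ m = p ^ m * (p * p - 1) := by
    rw [Nat.mul_sub_one]
  have hc2 : p ^ m * p - p ^ m = p ^ m * (p - 1) := by
    rw [Nat.mul_sub_one]
  rw [hc1, hc2] at hcount
  have hc3 : p * p - 1 = (p + 1) * (p - 1) := by
    obtain ⟨k, hk⟩ : ∃ k, p = k + 1 := ⟨p - 1, by omega⟩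
    subst hk
    simp only [Nat.add_sub_cancel]
    ring_nf
    omega
  rw [hc3] at hcount
  have hc4 : p ^ m * ((p + 1) * (p - 1)) = (p + 1) * (p ^ m * (p - 1)) := by ring
  rw [hc4] at hcount
  have hpos : 0 < p ^ m * (p - 1) := Nat.mul_pos hpm (by omega)
  have hfin := (Nat.eq_of_mul_eq_mul_right hpos hcount).symm
  convert hfin

theorem result {G : Type*} [Group G] [Finite G] {p : ℕ} [Fact p.Prime] (n : ℕ) (hG : Nat.card G = p ^ n) (hcl : Group.nilpotencyClass G = n - 1) (hn : 3 ≤ n) : (∀ (N : Subgroup G) [N.Normal] (r : ℕ), 2 ≤ r → N.index = p ^ r → N = (⊤ : Subgroup G).lowerCentralSeries (r - 1)) ∧ Nat.card {N : Subgroup G // N.Normal ∧ N.index = p} = p + 1 := by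
  refine ⟨?_, count_index_p n hG hcl hn⟩
  intro N _ r hr hN
  exact normal_eq_lcs n hG hcl hn N r hr hN

end Count2

end Part3

end Cfsg.Agent.S0662
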