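import Cfsg.Statements.S0663
import Mathlib
import Cfsg.Agent.Lib.Lead.Subnormal2

set_option autoImplicit false
open Cfsg

namespace Cfsg.Agent.S0663

open scoped commutatorElement Pointwise

section aux

variable {L : Type*} [Group L]

theorem card_mul_relIndex {A B : Subgroup L} (h : A ≤ B) :
    Nat.card A * A.relIndex B = Nat.card B := by
  have h1 := Subgroup.relIndex_mul_relIndex ⊥ A B bot_le h
  rwa [Subgroup.relIndex_bot_left, Subgroup.relIndex_bot_left] at h1

theorem iter_normalizer (N G : Subgroup L) (hGN : G ≤ Subgroup.normalizer (N : Set L)) :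
    ∀ i, G ≤ Subgroup.normalizer ((Cfsg.iterCommutator N G i : Subgroup L) : Set L)
  | 0 => hGN
  | i + 1 => Subgroup.normalizer_commutator_ge_right (Cfsg.iterCommutator N G i) G

theorem iter_succ_le (N G : Subgroup L) (hGN : G ≤ Subgroup.normalizer (N : Set L)) (i : ℕ) :
    Cfsg.iterCommutator N G (i + 1) ≤ Cfsg.iterCommutator N G i :=
  Subgroup.le_normalizer_iff_commutator_le_left.mp (iter_normalizer N G hGN i)

theorem iter_antitone (N G : Subgroup L) (hGN : G ≤ Subgroup.normalizer (N : Set L)) :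
    ∀ i j, i ≤ j → Cfsg.iterCommutator N G j ≤ Cfsg.iterCommutator N G i := by
  intro i j hij
  induction j, hij using Nat.le_induction with
  | base => exact le_rfl
  | succ j _ ih => exact (iter_succ_le N G hGN j).trans ih

theorem iter_le_self (N G : Subgroup L) (hGN : G ≤ Subgroup.normalizer (N : Set L)) (i : ℕ) :
    Cfsg.iterCommutator N G i ≤ N := iter_antitone N G hGN 0 i (Nat.zero_le i)

theorem commutator_lt [Finite L] {p : ℕ} [Fact p.Prime] {H Q : Subgroup L} (hH : IsPGroup p H)
    (hQ : IsPGroup p Q) (hQH : Q ≤ Subgroup.normalizer (H : Set L)) (hne : H ≠ ⊥) :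
    ⁅H, Q⁆ < H := by
  have hle : ⁅H, Q⁆ ≤ H := Subgroup.le_normalizer_iff_commutator_le_left.mp hQH
  refine lt_of_le_of_ne hle ?_
  intro heq
  have hP : IsPGroup p (H ⊔ Q : Subgroup L) := IsPGroup.to_sup_of_normal_left' hH hQ hQH
  haveI : Group.IsNilpotent ↥(H ⊔ Q) := hP.isNilpotent
  obtain ⟨c, hc⟩ := (Subgroup.isNilpotent_iff_lowerCentralSeries (H ⊔ Q)).mp inferInstance
  have key : ∀ k, H ≤ (H ⊔ Q).lowerCentralSeries k := by
    intro k
    induction k with
    | zero => exact le_sup_left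
    | succ k ih =>
      calc H = ⁅H, Q⁆ := heq.symm
        _ ≤ ⁅(H ⊔ Q).lowerCentralSeries k, H ⊔ Q⁆ := Subgroup.commutator_mono ih le_sup_right
  have h1 := key c
  rw [hc] at h1
  exact hne (le_bot_iff.mp h1)

theorem exists_mul_of_mem_sup {A B : Subgroup L}
    (h : A ≤ Subgroup.normalizer (B : Set L)) {x : L} (hx : x ∈ A ⊔ B) :
    ∃ a ∈ A, ∃ b ∈ B, x = a * b := by
  have hT : A ⊔ B ≤ Subgroup.normalizer (B : Set L) := sup_le h Subgroup.le_normalizer
  haveI : (B.subgroupOf (Subgroup.normalizer (B : Set L))).Normal :=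
    Subgroup.normal_in_normalizer
  have h1 : (⟨x, hT hx⟩ : ↥(Subgroup.normalizer (B : Set L))) ∈
      (A ⊔ B).subgroupOf (Subgroup.normalizer (B : Set L)) := by
    rw [Subgroup.mem_subgroupOf]
    exact hx
  rw [Subgroup.subgroupOf_sup h Subgroup.le_normalizer] at h1
  have h2 : (⟨x, hT hx⟩ : ↥(Subgroup.normalizer (B : Set L))) ∈
      ((A.subgroupOf (Subgroup.normalizer (B : Set L)) ⊔
        B.subgroupOf (Subgroup.normalizer (B : Set L)) : Subgroup _) : Set _) := h1
  rw [Subgroup.mul_normal] at h2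
  obtain ⟨a, ha, b, hb, hab⟩ := Set.mem_mul.mp h2
  refine ⟨(a : L), ha, (b : L), hb, ?_⟩
  have h3 := congrArg Subtype.val hab
  exact h3.symm

/-- no subgroup strictly between subgroups of orders `p^a` and `p^(a+1)` -/
theorem squeeze_lower [Finite L] {p : ℕ} (hp : p.Prime) {A X B : Subgroup L} {a : ℕ}
    (hAX : A ≤ X) (hXB : X < B) (hA : Nat.card A = p ^ a) (hB : Nat.card B = p ^ (a + 1)) :
    X = A := by
  symm
  apply Subgroup.eq_of_le_of_card_ge hAX
  have h1 : Nat.card X ∣ p ^ (a + 1) := hB ▸ Subgroup.card_dvd_of_le hXB.le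
  obtain ⟨k, hk, hkX⟩ := (Nat.dvd_prime_pow hp).mp h1
  have h2 : Nat.card X < Nat.card B := Cfsg.Agent.Lib.Lead.Subnormal.card_lt_card_of_lt hXB
  rw [hkX, hB] at h2
  have h3 : k < a + 1 := (Nat.pow_lt_pow_iff_right hp.one_lt).mp h2
  rw [hkX, hA]
  exact Nat.pow_le_pow_right hp.pos (by omega)

theorem squeeze_upper [Finite L] {p : ℕ} (hp : p.Prime) {A X B : Subgroup L} {a : ℕ}
    (hAX : A < X) (hXB : X ≤ B) (hA : Nat.card A = p ^ a) (hB : Nat.card B = p ^ (a + 1)) :
    X = B := by
  apply Subgroup.eq_of_le_of_card_ge hXB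
  have h1 : Nat.card X ∣ p ^ (a + 1) := hB ▸ Subgroup.card_dvd_of_le hXB
  obtain ⟨k, hk, hkX⟩ := (Nat.dvd_prime_pow hp).mp h1
  have h2 : Nat.card A < Nat.card X := Cfsg.Agent.Lib.Lead.Subnormal.card_lt_card_of_lt hAX
  rw [hkX, hA] at h2
  have h3 : a < k := (Nat.pow_lt_pow_iff_right hp.one_lt).mp h2
  rw [hkX, hB]
  exact Nat.pow_le_pow_right hp.pos (by omega)

section chain

variable [Finite L] {p : ℕ} [Fact p.Prime] (N G : Subgroup L) (hN : IsPGroup p N)
  (hG : IsPGroup p G) (hGN : G ≤ Subgroup.normalizer (N : Set L)) (n : ℕ)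
  (hf : ∀ i ≤ n, Nat.card (Cfsg.iterCommutator N G i) = p ^ (n - i))

include hf in
theorem iter_n_eq_bot : Cfsg.iterCommutator N G n = ⊥ := by
  have h1 := hf n le_rfl
  rw [Nat.sub_self, pow_zero] at h1
  exact (Subgroup.card_le_one_iff_eq_bot _).mp h1.le

include hf in
theorem iter_ne_bot {i : ℕ} (hi : i < n) : Cfsg.iterCommutator N G i ≠ ⊥ := by
  intro h
  have h1 := hf i hi.le
  rw [h, Subgroup.card_bot] at h1
  have hp := (Fact.out : p.Prime)
  have h2 : 1 < p ^ (n - i) := Nat.one_lt_pow (by omega) hp.one_lt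
  omega

include hN hG hGN hf in
theorem normal_in_sup : ∀ i, i ≤ n →
    N ⊔ G ≤ Subgroup.normalizer ((Cfsg.iterCommutator N G i : Subgroup L) : Set L) := by
  have hp := (Fact.out : p.Prime)
  intro i
  induction i with
  | zero =>
    intro _
    exact sup_le Subgroup.le_normalizer hGN
  | succ i ih =>
    intro hi
    have ih' := ih (by omega)
    have hPp : IsPGroup p (N ⊔ G : Subgroup L) := IsPGroup.to_sup_of_normal_left' hN hG hGN
    have hNi : IsPGroup p (Cfsg.iterCommutator N G i) := hN.to_le (iter_le_self N G hGN i)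
    have hlt := commutator_lt hNi hPp ih' (iter_ne_bot N G n hf (by omega))
    have hle : Cfsg.iterCommutator N G (i + 1) ≤ ⁅Cfsg.iterCommutator N G i, N ⊔ G⁆ :=
      Subgroup.commutator_mono le_rfl le_sup_right
    have hcA := hf (i + 1) hi
    have hcB := hf i (by omega)
    have e : n - i = (n - (i + 1)) + 1 := by omega
    rw [e] at hcB
    have heq := squeeze_lower hp hle hlt hcA hcB
    rw [← heq]
    exact Subgroup.normalizer_commutator_ge_right _ _

include hN hG hGN hf in
theorem classify (H : Subgroup L) (hHN : H ≤ N)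
    (hGH : G ≤ Subgroup.normalizer (H : Set L)) :
    ∃ i ≤ n, H = Cfsg.iterCommutator N G i := by
  classical
  have hp := (Fact.out : p.Prime)
  by_cases hH : H = ⊥
  · exact ⟨n, le_rfl, hH.trans (iter_n_eq_bot N G n hf).symm⟩
  obtain ⟨S, hSdef⟩ : ∃ S : Finset ℕ,
      S = (Finset.range (n + 1)).filter (fun i => H ≤ Cfsg.iterCommutator N G i) := ⟨_, rfl⟩
  have hmemS : ∀ i, i ∈ S ↔ i ≤ n ∧ H ≤ Cfsg.iterCommutator N G i := by
    intro i
    rw [hSdef, Finset.mem_filter, Finset.mem_range]
    constructor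
    · rintro ⟨h1, h2⟩
      exact ⟨by omega, h2⟩
    · rintro ⟨h1, h2⟩
      exact ⟨by omega, h2⟩
  have hS : S.Nonempty := ⟨0, (hmemS 0).mpr ⟨Nat.zero_le n, hHN⟩⟩
  obtain ⟨i, hidef⟩ : ∃ i, i = S.max' hS := ⟨_, rfl⟩
  have hiS : i ∈ S := hidef ▸ S.max'_mem hS
  obtain ⟨hin, hHi⟩ := (hmemS i).mp hiS
  have hilt : i < n := by
    by_contra hnot
    have hi : i = n := by omega
    rw [hi, iter_n_eq_bot N G n hf] at hHi
    exact hH (le_bot_iff.mp hHi)
  have hnot : ¬ H ≤ Cfsg.iterCommutator N G (i + 1) := by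
    intro h
    have h1 : i + 1 ∈ S := (hmemS (i + 1)).mpr ⟨by omega, h⟩
    have h2 := S.le_max' _ h1
    rw [← hidef] at h2
    omega
  have hbase : H ⊔ Cfsg.iterCommutator N G (i + 1) = Cfsg.iterCommutator N G i := by
    have hcA := hf (i + 1) (by omega)
    have hcB := hf i hin
    have e : n - i = (n - (i + 1)) + 1 := by omega
    rw [e] at hcB
    refine squeeze_upper hp ?_ (sup_le hHi (iter_succ_le N G hGN i)) hcA hcB
    apply lt_of_le_of_ne le_sup_right
    intro h
    apply hnot
    rw [h]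
    exact le_sup_left
  have hnormP := normal_in_sup N G hN hG hGN n hf
  have key : ∀ j, i + 1 ≤ j → j ≤ n →
      Cfsg.iterCommutator N G i ≤ H ⊔ Cfsg.iterCommutator N G j := by
    intro j hj
    induction j, hj using Nat.le_induction with
    | base =>
      intro _
      exact hbase.ge
    | succ j hj ih =>
      intro hjn
      have ih' := ih (by omega)
      have hHnj : H ≤ Subgroup.normalizer ((Cfsg.iterCommutator N G j : Subgroup L) : Set L) :=
        (hHN.trans le_sup_left).trans (hnormP j (by omega))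
      have h1 : Cfsg.iterCommutator N G (i + 1) ≤ H ⊔ Cfsg.iterCommutator N G (j + 1) := by
        show ⁅Cfsg.iterCommutator N G i, G⁆ ≤ _
        rw [Subgroup.commutator_le]
        intro x hx g hg
        obtain ⟨a, ha, b, hb, rfl⟩ := exists_mul_of_mem_sup hHnj (ih' hx)
        have e : ⁅a * b, g⁆ = (a * ⁅b, g⁆ * a⁻¹) * ⁅a, g⁆ := by
          simp only [commutatorElement_def]
          group
        rw [e]
        apply Subgroup.mul_mem
        · apply (le_sup_right : Cfsg.iterCommutator N G (j + 1) ≤ _)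
          have haP : a ∈ Subgroup.normalizer
              ((Cfsg.iterCommutator N G (j + 1) : Subgroup L) : Set L) :=
            hnormP (j + 1) hjn ((le_sup_left : N ≤ N ⊔ G) (hHN ha))
          exact (Subgroup.mem_normalizer_iff.mp haP _).mp
            (Subgroup.commutator_mem_commutator hb hg)
        · apply (le_sup_left : H ≤ _)
          rw [commutatorElement_def]
          have e2 : a * g * a⁻¹ * g⁻¹ = a * (g * a⁻¹ * g⁻¹) := by group
          rw [e2]
          exact H.mul_mem ha ((Subgroup.mem_normalizer_iff.mp (hGH hg) _).mp (H.inv_mem ha))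
      calc Cfsg.iterCommutator N G i = H ⊔ Cfsg.iterCommutator N G (i + 1) := hbase.symm
        _ ≤ H ⊔ (H ⊔ Cfsg.iterCommutator N G (j + 1)) := sup_le_sup_left h1 H
        _ = H ⊔ Cfsg.iterCommutator N G (j + 1) := by rw [← sup_assoc, sup_idem]
  have h2 := key n (by omega) le_rfl
  rw [iter_n_eq_bot N G n hf, sup_bot_eq] at h2
  exact ⟨i, hin, le_antisymm hHi h2⟩

end chain

theorem chain_of_unis [Finite L] {p : ℕ} [Fact p.Prime] (N G : Subgroup L)
    (hGN : G ≤ Subgroup.normalizer (N : Set L)) (n : ℕ) (hn : Nat.card N = p ^ n)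
    (hunis : ∀ H : Subgroup L, H ≤ N → G ≤ Subgroup.normalizer (H : Set L) → H ≠ ⊥ →
      (⁅H, G⁆).relIndex H = p) :
    ∀ i ≤ n, Nat.card (Cfsg.iterCommutator N G i) = p ^ (n - i) := by
  have hp := (Fact.out : p.Prime)
  intro i
  induction i with
  | zero =>
    intro _
    exact hn
  | succ i ih =>
    intro hi
    have ih' := ih (by omega)
    have hne : Cfsg.iterCommutator N G i ≠ ⊥ := by
      intro h
      rw [h, Subgroup.card_bot] at ih'
      have h2 : 1 < p ^ (n - i) := Nat.one_lt_pow (by omega) hp.one_lt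
      omega
    have h1 := hunis _ (iter_le_self N G hGN i) (iter_normalizer N G hGN i) hne
    have h2 := card_mul_relIndex (iter_succ_le N G hGN i)
    have h3 : (Cfsg.iterCommutator N G (i + 1)).relIndex (Cfsg.iterCommutator N G i) = p := h1
    rw [h3, ih'] at h2
    have e : p ^ (n - i) = p ^ (n - (i + 1)) * p := by
      rw [← pow_succ]
      congr 1
      omega
    rw [e] at h2
    exact Nat.eq_of_mul_eq_mul_right hp.pos h2

theorem chain_of_ne_bot [Finite L] {p : ℕ} [Fact p.Prime] (N G : Subgroup L)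
    (hN : IsPGroup p N) (hG : IsPGroup p G)
    (hGN : G ≤ Subgroup.normalizer (N : Set L)) (n : ℕ) (hn : Nat.card N = p ^ n)
    (hne : Cfsg.iterCommutator N G (n - 1) ≠ ⊥ ∨ n = 0) :
    ∀ i ≤ n, Nat.card (Cfsg.iterCommutator N G i) = p ^ (n - i) := by
  have hp := (Fact.out : p.Prime)
  by_cases hn0 : n = 0
  · intro i hi
    have hi0 : i = 0 := by omega
    rw [hi0]
    exact hn
  have hne' : Cfsg.iterCommutator N G (n - 1) ≠ ⊥ := by
    rcases hne with h | h
    · exact h
    · exact absurd h hn0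
  have hnb : ∀ j, j ≤ n - 1 → Cfsg.iterCommutator N G j ≠ ⊥ := by
    intro j hj h
    apply hne'
    have h1 := iter_antitone N G hGN j (n - 1) hj
    rw [h] at h1
    exact le_bot_iff.mp h1
  have hstep : ∀ j, j ≤ n - 1 → p * Nat.card (Cfsg.iterCommutator N G (j + 1))
      ≤ Nat.card (Cfsg.iterCommutator N G j) := by
    intro j hj
    have hNj : IsPGroup p (Cfsg.iterCommutator N G j) := hN.to_le (iter_le_self N G hGN j)
    have hlt := commutator_lt hNj hG (iter_normalizer N G hGN j) (hnb j hj)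
    obtain ⟨a, ha⟩ := IsPGroup.iff_card.mp hNj
    have h1 : Nat.card (Cfsg.iterCommutator N G (j + 1)) ∣ p ^ a :=
      ha ▸ Subgroup.card_dvd_of_le hlt.le
    obtain ⟨b, hb, hbc⟩ := (Nat.dvd_prime_pow hp).mp h1
    have h2 := Cfsg.Agent.Lib.Lead.Subnormal.card_lt_card_of_lt hlt
    have h2' : Nat.card (Cfsg.iterCommutator N G (j + 1))
        < Nat.card (Cfsg.iterCommutator N G j) := h2
    rw [hbc, ha] at h2'
    have h3 : b < a := (Nat.pow_lt_pow_iff_right hp.one_lt).mp h2'
    rw [hbc, ha, ← pow_succ']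
    exact Nat.pow_le_pow_right hp.pos (by omega)
  have hup : ∀ i, i ≤ n → p ^ i * Nat.card (Cfsg.iterCommutator N G i) ≤ p ^ n := by
    intro i
    induction i with
    | zero =>
      intro _
      rw [pow_zero, one_mul]
      exact hn.le
    | succ i ih =>
      intro hi
      have h1 := ih (by omega)
      have h2 := hstep i (by omega)
      calc p ^ (i + 1) * Nat.card (Cfsg.iterCommutator N G (i + 1))
          = p ^ i * (p * Nat.card (Cfsg.iterCommutator N G (i + 1))) := by ring
        _ ≤ p ^ i * Nat.card (Cfsg.iterCommutator N G i) := Nat.mul_le_mul_left _ h2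
        _ ≤ p ^ n := h1
  have hdown : ∀ k, k ≤ n → ∀ i, i + k = n →
      p ^ n ≤ p ^ i * Nat.card (Cfsg.iterCommutator N G i) := by
    intro k
    induction k with
    | zero =>
      intro _ i hi
      have hi' : i = n := by omega
      rw [hi']
      have h1 : 0 < Nat.card (Cfsg.iterCommutator N G n) := Nat.card_pos
      nlinarith [pow_pos hp.pos n]
    | succ k ih =>
      intro hk i hi
      have h1 := ih (by omega) (i + 1) (by omega)
      have h2 := hstep i (by omega)
      calc p ^ n ≤ p ^ (i + 1) * Nat.card (Cfsg.iterCommutator N G (i + 1)) := h1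
        _ = p ^ i * (p * Nat.card (Cfsg.iterCommutator N G (i + 1))) := by ring
        _ ≤ p ^ i * Nat.card (Cfsg.iterCommutator N G i) := Nat.mul_le_mul_left _ h2
  intro i hi
  have h1 := hup i hi
  have h2 := hdown (n - i) (by omega) i (by omega)
  have h3 : p ^ i * Nat.card (Cfsg.iterCommutator N G i) = p ^ i * p ^ (n - i) := by
    rw [← pow_add]
    have e : i + (n - i) = n := by omega
    rw [e]
    omega
  exact Nat.eq_of_mul_eq_mul_left (pow_pos hp.pos i) h3

end aux

/-- A p-group acts uniserially on a p-group N of order p^n exactly when the iterated commutator chain from N has length n; in that case the chain terms are all the invariant subgroups of N and they are normal in N. -/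
theorem result {L : Type*} [Group L] [Finite L] {p : ℕ} [Fact p.Prime] (N G : Subgroup L) (hN : IsPGroup p N) (hG : IsPGroup p G) (hGN : G ≤ Subgroup.normalizer (N : Set L)) (n : ℕ) (hn : Nat.card N = p ^ n) : ((∀ H : Subgroup L, H ≤ N → G ≤ Subgroup.normalizer (H : Set L) → H ≠ ⊥ → (⁅H, G⁆).relIndex H = p) ↔ Cfsg.iterCommutator N G (n - 1) ≠ ⊥ ∨ n = 0) ∧ ((∀ H : Subgroup L, H ≤ N → G ≤ Subgroup.normalizer (H : Set L) → H ≠ ⊥ → (⁅H, G⁆).relIndex H = p) → ∀ H : Subgroup L, H ≤ N → G ≤ Subgroup.normalizer (H : Set L) → (∃ i ≤ n, H = Cfsg.iterCommutator N G i) ∧ N ≤ Subgroup.normalizer (H : Set L)) := by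
  have hp := (Fact.out : p.Prime)
  have hunis_of_chain : (∀ i ≤ n, Nat.card (Cfsg.iterCommutator N G i) = p ^ (n - i)) →
      ∀ H : Subgroup L, H ≤ N → G ≤ Subgroup.normalizer (H : Set L) → H ≠ ⊥ →
        (⁅H, G⁆).relIndex H = p := by
    intro hf H hHN hGH hHne
    obtain ⟨i, hin, rfl⟩ := classify N G hN hG hGN n hf H hHN hGH
    have hilt : i < n := by
      by_contra hnot
      have hi : i = n := by omega
      rw [hi] at hHne
      exact hHne (iter_n_eq_bot N G n hf)
    have h2 := card_mul_relIndex (iter_succ_le N G hGN i)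
    rw [hf (i + 1) (by omega), hf i hin] at h2
    have e : p ^ (n - i) = p ^ (n - (i + 1)) * p := by
      rw [← pow_succ]
      congr 1
      omega
    rw [e] at h2
    exact Nat.eq_of_mul_eq_mul_left (pow_pos hp.pos _) h2
  refine ⟨⟨?_, ?_⟩, ?_⟩
  · intro hunis
    by_cases hn0 : n = 0
    · exact Or.inr hn0
    left
    have hf := chain_of_unis N G hGN n hn hunis
    exact iter_ne_bot N G n hf (by omega)
  · intro h
    exact hunis_of_chain (chain_of_ne_bot N G hN hG hGN n hn h)
  · intro hunis H hHN hGH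
    have hf := chain_of_unis N G hGN n hn hunis
    obtain ⟨i, hin, hHi⟩ := classify N G hN hG hGN n hf H hHN hGH
    refine ⟨⟨i, hin, hHi⟩, ?_⟩
    rw [hHi]
    exact le_sup_left.trans (normal_in_sup N G hN hG hGN n hf i hin)

end Cfsg.Agent.S0663
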