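import Cfsg.Statements.S0668
import Mathlib

set_option autoImplicit false
open Cfsg

namespace Cfsg.Agent.S0668

section

variable {G : Type*} [Group G] {K : Type*} [Field K] {Ω₁ Ω₂ : Type*} [Fintype Ω₁] [Fintype Ω₂]
  [MulAction G Ω₁] [MulAction G Ω₂]

/-- the linear map with "matrix" constant on orbits -/
noncomputable def orbitMap (c : MulAction.orbitRel.Quotient G (Ω₁ × Ω₂) → K) :
    (Ω₁ → K) →ₗ[K] (Ω₂ → K) where
  toFun f := fun y => ∑ x, c (Quotient.mk'' (x, y)) * f x
  map_add' f₁ f₂ := by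
    funext y
    simp only [Pi.add_apply, mul_add, Finset.sum_add_distrib]
  map_smul' a f := by
    funext y
    simp only [Pi.smul_apply, smul_eq_mul, RingHom.id_apply, Finset.mul_sum]
    apply Finset.sum_congr rfl
    intro x _
    ring

/-- `orbitMap` as a linear map in the coefficient function -/
noncomputable def orbitMapL :
    (MulAction.orbitRel.Quotient G (Ω₁ × Ω₂) → K) →ₗ[K] ((Ω₁ → K) →ₗ[K] (Ω₂ → K)) where
  toFun c := orbitMap c
  map_add' c₁ c₂ := by
    apply LinearMap.ext
    intro f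
    funext y
    simp only [orbitMap, LinearMap.coe_mk, AddHom.coe_mk, Pi.add_apply, LinearMap.add_apply,
      add_mul, Finset.sum_add_distrib]
  map_smul' a c := by
    apply LinearMap.ext
    intro f
    funext y
    simp only [orbitMap, LinearMap.coe_mk, AddHom.coe_mk, Pi.smul_apply, smul_eq_mul,
      RingHom.id_apply, LinearMap.smul_apply, Finset.mul_sum]
    apply Finset.sum_congr rfl
    intro x _
    ring

lemma orbitMap_single [DecidableEq Ω₁] (c : MulAction.orbitRel.Quotient G (Ω₁ × Ω₂) → K)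
    (x : Ω₁) (a : K) (y : Ω₂) :
    orbitMap c (Pi.single x a) y = c (Quotient.mk'' (x, y)) * a := by
  simp only [orbitMap, LinearMap.coe_mk, AddHom.coe_mk]
  rw [Finset.sum_eq_single x]
  · rw [Pi.single_eq_same]
  · intro x' _ hx'
    rw [Pi.single_eq_of_ne hx', mul_zero]
  · intro h
    exact absurd (Finset.mem_univ x) h

lemma orbitMap_mem_invariants (c : MulAction.orbitRel.Quotient G (Ω₁ × Ω₂) → K) :
    orbitMap c ∈ ((Cfsg.permRep K G Ω₁).linHom (Cfsg.permRep K G Ω₂)).invariants := by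
  rw [Representation.mem_invariants]
  intro g
  apply LinearMap.ext
  intro f
  funext y
  show ∑ x, c (Quotient.mk'' (x, g⁻¹ • y)) * f (g⁻¹⁻¹ • x) = ∑ x, c (Quotient.mk'' (x, y)) * f x
  rw [inv_inv]
  apply Fintype.sum_equiv (MulAction.toPerm g)
  intro x
  show c (Quotient.mk'' (x, g⁻¹ • y)) * f (g • x) = c (Quotient.mk'' (g • x, y)) * f (g • x)
  congr 2
  apply Quotient.sound'
  show (x, g⁻¹ • y) ∈ MulAction.orbit G (g • x, y)
  exact ⟨g⁻¹, by simp [Prod.smul_mk]⟩

lemma exists_orbitMap_eq (φ : (Ω₁ → K) →ₗ[K] (Ω₂ → K))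
    (hφ : φ ∈ ((Cfsg.permRep K G Ω₁).linHom (Cfsg.permRep K G Ω₂)).invariants) :
    ∃ c : MulAction.orbitRel.Quotient G (Ω₁ × Ω₂) → K, orbitMap c = φ := by
  classical
  rw [Representation.mem_invariants] at hφ
  have key : ∀ (g : G) (x : Ω₁) (y : Ω₂),
      φ (Pi.single (g • x) 1) (g • y) = φ (Pi.single x 1) y := by
    intro g x y
    have h1 := hφ g
    have h2 : ((Cfsg.permRep K G Ω₁).linHom (Cfsg.permRep K G Ω₂) g φ) (Pi.single (g • x) 1)
        (g • y) = φ (Pi.single (g • x) 1) (g • y) := by rw [h1]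
    rw [← h2]
    show φ (fun x' => (Pi.single (g • x) (1 : K) : Ω₁ → K) (g⁻¹⁻¹ • x')) (g⁻¹ • g • y) = _
    rw [inv_smul_smul, inv_inv]
    have e : (fun x' => (Pi.single (g • x) (1 : K) : Ω₁ → K) (g • x')) = Pi.single x 1 := by
      funext x'
      by_cases hx : x' = x
      · subst hx; simp
      · rw [Pi.single_eq_of_ne hx, Pi.single_eq_of_ne]
        intro h
        exact hx (MulAction.injective g h)
    rw [e]
  let c : MulAction.orbitRel.Quotient G (Ω₁ × Ω₂) → K :=
    Quotient.lift (fun xy : Ω₁ × Ω₂ => φ (Pi.single xy.1 1) xy.2) (by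
      rintro ⟨x, y⟩ ⟨x', y'⟩ ⟨g, hg⟩
      have hg' : (g • x', g • y') = (x, y) := hg
      have h1 : g • x' = x := (Prod.ext_iff.mp hg').1
      have h2 : g • y' = y := (Prod.ext_iff.mp hg').2
      show φ (Pi.single x 1) y = φ (Pi.single x' 1) y'
      rw [← h1, ← h2, key])
  refine ⟨c, ?_⟩
  apply LinearMap.pi_ext
  intro x a
  funext y
  rw [orbitMap_single]
  show φ (Pi.single x 1) y * a = φ (Pi.single x a) y
  have : (Pi.single x a : Ω₁ → K) = a • Pi.single x 1 := by
    rw [← Pi.single_smul, smul_eq_mul, mul_one]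
  rw [this, map_smul, Pi.smul_apply, smul_eq_mul, mul_comm]

end

/-- The equivariant linear maps between the permutation modules of two finite `G`-sets form a space whose dimension is the number of `G`-orbits on the product of the two sets. -/
theorem result {G : Type*} [Group G] {K : Type*} [Field K] {Ω₁ Ω₂ : Type*} [Fintype Ω₁] [Fintype Ω₂] [MulAction G Ω₁] [MulAction G Ω₂] : Module.finrank K ((Cfsg.permRep K G Ω₁).linHom (Cfsg.permRep K G Ω₂)).invariants = Nat.card (MulAction.orbitRel.Quotient G (Ω₁ × Ω₂)) := by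
  classical
  have hrange : LinearMap.range (orbitMapL (G := G) (K := K) (Ω₁ := Ω₁) (Ω₂ := Ω₂)) =
      ((Cfsg.permRep K G Ω₁).linHom (Cfsg.permRep K G Ω₂)).invariants := by
    apply le_antisymm
    · rintro _ ⟨c, rfl⟩
      exact orbitMap_mem_invariants c
    · intro φ hφ
      obtain ⟨c, hc⟩ := exists_orbitMap_eq φ hφ
      exact ⟨c, hc⟩
  have hinj : Function.Injective (orbitMapL (G := G) (K := K) (Ω₁ := Ω₁) (Ω₂ := Ω₂)) := by
    rw [← LinearMap.ker_eq_bot, LinearMap.ker_eq_bot']
    intro c hc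
    funext q
    induction q using Quotient.inductionOn' with
    | h xy =>
      obtain ⟨x, y⟩ := xy
      have h1 : orbitMap c (Pi.single x 1) y = 0 := by
        have : orbitMap c = 0 := hc
        rw [this]; rfl
      rw [orbitMap_single, mul_one] at h1
      exact h1
  have : Fintype (MulAction.orbitRel.Quotient G (Ω₁ × Ω₂)) := Fintype.ofFinite _
  rw [← hrange, LinearMap.finrank_range_of_inj hinj, Module.finrank_fintype_fun_eq_card,
    Nat.card_eq_fintype_card]

end Cfsg.Agent.S0668
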