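import Cfsg.Statements.S0669

set_option autoImplicit false
open Cfsg

namespace Cfsg.Agent.S0669

/-- The rank of a transitive action: orbits on ordered pairs correspond to orbits of a point stabiliser. -/
theorem result {G : Type*} [Group G] {Ω : Type*} [Finite Ω] [MulAction G Ω] [MulAction.IsPretransitive G Ω] (a : Ω) : Nat.card (MulAction.orbitRel.Quotient G (Ω × Ω)) = Nat.card (MulAction.orbitRel.Quotient (MulAction.stabilizer G a) Ω) := by
  symm
  let f : MulAction.orbitRel.Quotient (MulAction.stabilizer G a) Ω →
      MulAction.orbitRel.Quotient G (Ω × Ω) :=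
    Quotient.map' (fun b => (a, b)) (by
      intro b b' h
      obtain ⟨s, hs⟩ := h
      refine ⟨s.1, ?_⟩
      have hs' : (s : G) • b' = b := hs
      have hsa : (s : G) • a = a := s.2
      simp [Prod.smul_mk, hs', hsa])
  apply Nat.card_eq_of_bijective f
  constructor
  · intro q q' h
    induction q using Quotient.inductionOn' with
    | h b =>
    induction q' using Quotient.inductionOn' with
    | h b' =>
    simp only [f, Quotient.map'_mk''] at h
    rw [Quotient.eq''] at h ⊢
    obtain ⟨g, hg⟩ := h
    have hg' : (g • a, g • b') = (a, b) := hg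
    have h1 : g • a = a := (Prod.ext_iff.mp hg').1
    have h2 : g • b' = b := (Prod.ext_iff.mp hg').2
    exact ⟨⟨g, h1⟩, h2⟩
  · intro q
    induction q using Quotient.inductionOn' with
    | h p =>
    obtain ⟨c, d⟩ := p
    obtain ⟨g, hg⟩ := MulAction.exists_smul_eq G c a
    refine ⟨Quotient.mk'' (g • d), ?_⟩
    simp only [f, Quotient.map'_mk'']
    rw [Quotient.eq'']
    refine ⟨g, ?_⟩
    show (g • c, g • d) = (a, g • d)
    rw [hg]

end Cfsg.Agent.S0669
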