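import Cfsg.Statements.S0670
import Mathlib
import Cfsg.Agent.Lib.Helper4.PGroupRep

set_option autoImplicit false
open Cfsg

namespace Cfsg.Agent.S0670

open Cfsg.Agent.Lib.Helper4.PGroupRep

/-- In characteristic `p`, the permutation module of a transitive action of degree `p ^ f` has the line of constant functions as its only irreducible submodule: every non-zero subrepresentation contains it. -/
theorem result {G : Type*} [Group G] [Finite G] {K : Type*} [Field K] {p f : ℕ} [Fact p.Prime] [CharP K p] {Ω : Type*} [Fintype Ω] [MulAction G Ω] [MulAction.IsPretransitive G Ω] (hf : 1 ≤ f) (hcard : Fintype.card Ω = p ^ f) (W : Subrepresentation (Cfsg.permRep K G Ω)) (hW : W.toSubmodule ≠ ⊥) : (Cfsg.permConstants K G Ω).toSubmodule ≤ W.toSubmodule := by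
  obtain ⟨P⟩ : Nonempty (Sylow p G) := inferInstance
  have htr : MulAction.IsPretransitive (P : Subgroup G) Ω := sylow_isPretransitive hcard P
  obtain ⟨w, hwW, hw0⟩ := (Submodule.ne_bot_iff _).mp hW
  let ρ : Representation K (P : Subgroup G) (Ω → K) :=
    (Cfsg.permRep K G Ω).comp (P : Subgroup G).subtype
  obtain ⟨v, hv0, hvfix, hvcl⟩ := exists_fixed_vector P.isPGroup' ρ w hw0
  have hvW : v ∈ W.toSubmodule := by
    have hle : AddSubgroup.closure (Set.range fun g : (P : Subgroup G) => ρ g w) ≤
        W.toSubmodule.toAddSubgroup := by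
      rw [AddSubgroup.closure_le]
      rintro _ ⟨g, rfl⟩
      exact W.apply_mem_toSubmodule (g : G) hwW
    exact hle hvcl
  -- `v` is constant
  have hconst : ∀ x y : Ω, v x = v y := by
    intro x y
    obtain ⟨g, hg⟩ := MulAction.exists_smul_eq (P : Subgroup G) y x
    have h1 := congrFun (hvfix g⁻¹) y
    have h2 : ρ g⁻¹ v y = v (g • y) := by
      show v (((g⁻¹ : (P : Subgroup G)) : G)⁻¹ • y) = v (g • y)
      rw [Subgroup.coe_inv, inv_inv]
      rfl
    rw [h2, hg] at h1
    exact h1
  obtain ⟨a, ha⟩ : ∃ a : Ω, v a ≠ 0 := by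
    by_contra hcon
    push Not at hcon
    exact hv0 (funext hcon)
  have hone : (fun _ : Ω => (1 : K)) ∈ W.toSubmodule := by
    have : (fun _ : Ω => (1 : K)) = (v a)⁻¹ • v := by
      funext x
      rw [Pi.smul_apply, smul_eq_mul, hconst x a, inv_mul_cancel₀ ha]
    rw [this]
    exact W.toSubmodule.smul_mem _ hvW
  show Submodule.span K {fun _ => 1} ≤ W.toSubmodule
  rw [Submodule.span_le]
  intro x hx
  rw [Set.mem_singleton_iff] at hx
  rw [hx]
  exact hone

end Cfsg.Agent.S0670
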