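import Mathlib
import Cfsg.Statements.S0673

set_option autoImplicit false
set_option linter.unusedSectionVars false
open Cfsg

namespace Cfsg.Agent.S0673

open Polynomial

section
variable (p : ℕ) [hp : Fact p.Prime] (K : Type*) [Field K] [CharP K p]

/-- evaluation of polynomials at the points of `ZMod p` -/
noncomputable def E : K[X] →ₗ[K] (ZMod p → K) where
  toFun P := fun j => P.eval (ZMod.cast j : K)
  map_add' P Q := by funext j; simp
  map_smul' c P := by funext j; simp

/-- the polynomial functions of degree less than `r` -/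
noncomputable def V (r : ℕ) : Submodule K (ZMod p → K) := (degreeLT K r).map (E p K)

variable {p K}

lemma E_apply (P : K[X]) (j : ZMod p) : E p K P j = P.eval (ZMod.cast j : K) := rfl

lemma mem_V {r : ℕ} {f : ZMod p → K} :
    f ∈ V p K r ↔ ∃ P : K[X], P.degree < r ∧ ∀ j : ZMod p, f j = P.eval (ZMod.cast j : K) := by
  constructor
  · rintro ⟨P, hP, rfl⟩
    exact ⟨P, mem_degreeLT.1 hP, fun j => rfl⟩
  · rintro ⟨P, hP, hf⟩
    exact ⟨P, mem_degreeLT.2 hP, by funext j; exact (hf j).symm⟩

lemma V_mono {s t : ℕ} (h : s ≤ t) : V p K s ≤ V p K t :=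
  Submodule.map_mono (degreeLT_mono h)

/-- the difference operator on polynomials -/
noncomputable def D (P : K[X]) : K[X] := P.comp (X - C 1) - P

lemma E_D (P : K[X]) (j : ZMod p) : E p K (D P) j = E p K P (j - 1) - E p K P j := by
  simp only [E_apply, D, eval_sub, eval_comp, eval_X, eval_C]
  rw [ZMod.cast_sub (dvd_refl p), ZMod.cast_one (dvd_refl p)]

lemma cast_injective : Function.Injective (fun j : ZMod p => (ZMod.cast j : K)) := by
  intro a b hab
  apply ZMod.castHom_injective K
  rw [ZMod.castHom_apply, ZMod.castHom_apply]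
  exact hab

lemma E_injOn {P : K[X]} (hP : P.degree < p) (h : E p K P = 0) : P = 0 := by
  by_cases h0 : P = 0
  · exact h0
  · apply eq_zero_of_natDegree_lt_card_of_eval_eq_zero P (cast_injective (p := p) (K := K))
    · intro j
      exact congrFun h j
    · rw [ZMod.card]
      exact (natDegree_lt_iff_degree_lt h0).2 hP

lemma finrank_V {r : ℕ} (hr : r ≤ p) : Module.finrank K (V p K r) = r := by
  have hinj : Function.Injective ((E p K) ∘ₗ (degreeLT K r).subtype) := by
    rw [← LinearMap.ker_eq_bot, LinearMap.ker_eq_bot']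
    intro P hP
    apply Subtype.ext
    apply E_injOn (lt_of_lt_of_le (mem_degreeLT.1 P.2) (by exact_mod_cast hr)) hP
  have h1 := LinearMap.finrank_range_of_inj hinj
  rw [LinearMap.range_comp, Submodule.range_subtype] at h1
  change Module.finrank K (V p K r) = _ at h1
  rw [h1, (degreeLTEquiv K r).finrank_eq, Module.finrank_fin_fun]

lemma V_top : V p K p = ⊤ := by
  apply Submodule.eq_top_of_finrank_eq
  rw [finrank_V le_rfl, Module.finrank_fintype_fun_eq_card, ZMod.card]

lemma V_zero : V p K 0 = ⊥ := by
  rw [eq_bot_iff]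
  rintro f ⟨P, hP, rfl⟩
  have h1 := mem_degreeLT.1 hP
  have : P = 0 := by
    rw [← degree_eq_bot]
    have : P.degree < ((0 : ℕ) : WithBot ℕ) := h1
    rw [Nat.cast_zero] at this
    exact Nat.WithBot.lt_zero_iff.1 this
  rw [this, map_zero]
  exact Submodule.zero_mem _

lemma coeff_comp_pred (P : K[X]) (e : ℕ) (hP : P.natDegree = e + 1) :
    (P.comp (X - C 1)).coeff e = P.coeff e - ((e + 1 : ℕ) : K) * P.coeff (e + 1) := by
  have hq : (X - C (1 : K)) = X + C (-1) := by rw [C_neg, sub_eq_add_neg]
  rw [hq, comp_eq_sum_left, sum_over_range' _ (by intro n; simp) (e + 1 + 1) (by rw [hP]; omega),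
    finsetSum_coeff, Finset.sum_range_succ, Finset.sum_range_succ, Finset.sum_eq_zero]
  · rw [coeff_C_mul, coeff_C_mul, coeff_X_add_C_pow, coeff_X_add_C_pow]
    simp
    ring
  · intro i hi
    rw [Finset.mem_range] at hi
    rw [coeff_C_mul, coeff_X_add_C_pow, Nat.choose_eq_zero_of_lt hi]
    simp

lemma natDegree_D (P : K[X]) (e : ℕ) (hP : P.natDegree = e + 1) (he : e + 1 < p) :
    (D P).natDegree = e ∧ D P ≠ 0 := by
  have hP0 : P ≠ 0 := by
    intro h; rw [h, natDegree_zero] at hP; omega
  have hq1 : (X - C (1 : K)).natDegree = 1 := natDegree_X_sub_C 1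
  have hlc : (P.comp (X - C 1)).leadingCoeff = P.leadingCoeff := by
    rw [leadingCoeff_comp (by rw [hq1]; exact one_ne_zero), leadingCoeff_X_sub_C, one_pow, mul_one]
  have hnd : (P.comp (X - C 1)).natDegree = P.natDegree := by
    rw [natDegree_comp, hq1, mul_one]
  have hc0 : P.comp (X - C 1) ≠ 0 := by
    intro h
    have := hlc
    rw [h, leadingCoeff_zero] at this
    exact hP0 (leadingCoeff_eq_zero.1 this.symm)
  have hdeg : (P.comp (X - C 1)).degree = P.degree := by
    rw [degree_eq_natDegree hc0, degree_eq_natDegree hP0, hnd]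
  have hlt : (D P).degree < P.degree := by
    have := degree_sub_lt_left hdeg hc0 hlc
    rw [hdeg] at this
    exact this
  have hcoeff : (D P).coeff e ≠ 0 := by
    unfold D
    rw [coeff_sub, coeff_comp_pred P e hP, sub_sub_cancel_left, neg_ne_zero]
    apply mul_ne_zero
    · intro h
      rw [CharP.cast_eq_zero_iff K p] at h
      have := Nat.le_of_dvd (by omega) h
      omega
    · rw [← hP]
      exact leadingCoeff_ne_zero.2 hP0
  have hD0 : D P ≠ 0 := by
    intro h
    apply hcoeff
    rw [h, coeff_zero]
  refine ⟨?_, hD0⟩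
  apply le_antisymm
  · rw [degree_eq_natDegree hP0, hP] at hlt
    have := (natDegree_lt_iff_degree_lt hD0).2 hlt
    omega
  · exact le_natDegree_of_ne_zero hcoeff

end

lemma arith1 (r k : ℕ) (hk : k + 1 ≤ r - 1) : r - 1 - k = (r - 1 - (k + 1)) + 1 := by omega

lemma arith2 (r k p : ℕ) (hk : k + 1 ≤ r - 1) (hrp : r ≤ p) : r - 1 - (k + 1) + 1 < p := by omega

/-- In characteristic `p`, the translation-invariant subspaces of the space of functions on `ZMod p` are exactly the spaces of polynomial functions of degree less than `r`, one for each `r ≤ p`, of dimension `r`. -/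
theorem result {p : ℕ} [Fact p.Prime] {K : Type*} [Field K] [CharP K p] (W : Submodule K (ZMod p → K)) (hW : ∀ f ∈ W, (fun j => f (j - 1)) ∈ W) : ∃ r : ℕ, r ≤ p ∧ Module.finrank K W = r ∧ ∀ f : ZMod p → K, f ∈ W ↔ ∃ P : Polynomial K, P.degree < r ∧ ∀ j : ZMod p, f j = P.eval (ZMod.cast j : K) := by
  classical
  have hex : ∃ s, W ≤ V p K s := ⟨p, by rw [V_top]; exact le_top⟩
  obtain ⟨r, hr, hrmin⟩ : ∃ r, W ≤ V p K r ∧ ∀ s, W ≤ V p K s → r ≤ s :=
    ⟨Nat.find hex, Nat.find_spec hex, fun s hs => Nat.find_min' hex hs⟩
  have hrp : r ≤ p := hrmin p (by rw [V_top]; exact le_top)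
  have hWV : W = V p K r := by
    apply le_antisymm hr
    rcases Nat.eq_zero_or_pos r with h0 | hpos
    · rw [h0, V_zero]; exact bot_le
    · -- an element of exact degree r - 1
      have hnot : ¬ W ≤ V p K (r - 1) := fun h => by
        have := hrmin _ h; omega
      obtain ⟨f, hfW, hfV⟩ := SetLike.not_le_iff_exists.1 hnot
      obtain ⟨P, hPdeg, hPf⟩ := mem_V.1 (hr hfW)
      have hfE : f = E p K P := by funext j; exact hPf j
      have hP0 : P ≠ 0 := by
        intro h
        apply hfV
        rw [hfE, h, map_zero]; exact Submodule.zero_mem _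
      have hPnat : P.natDegree = r - 1 := by
        have h1 : P.natDegree < r := (natDegree_lt_iff_degree_lt hP0).2 hPdeg
        by_contra hne
        apply hfV
        rw [mem_V]
        refine ⟨P, ?_, hPf⟩
        rw [degree_eq_natDegree hP0]
        exact_mod_cast (by omega : P.natDegree < r - 1)
      -- closure of `W` under the difference operator
      have hWD : ∀ Q : K[X], E p K Q ∈ W → E p K (D Q) ∈ W := by
        intro Q hQ
        have : E p K (D Q) = (fun j => E p K Q (j - 1)) - E p K Q := by
          funext j; rw [E_D]; rfl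
        rw [this]
        exact W.sub_mem (hW _ hQ) hQ
      -- polynomials of each exact degree
      have hexact : ∀ k, k ≤ r - 1 → ∃ Q : K[X], Q.natDegree = r - 1 - k ∧ Q ≠ 0 ∧ E p K Q ∈ W := by
        intro k
        induction k with
        | zero => intro _; exact ⟨P, by rw [hPnat]; rfl, hP0, by rw [← hfE]; exact hfW⟩
        | succ k ih =>
          intro hk
          obtain ⟨Q, hQn, hQ0, hQW⟩ := ih (Nat.le_of_succ_le hk)
          have hQn' : Q.natDegree = (r - 1 - (k + 1)) + 1 := by rw [hQn]; exact arith1 r k hk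
          have hlt : r - 1 - (k + 1) + 1 < p := arith2 r k p hk hrp
          obtain ⟨hD, hD0⟩ := natDegree_D (p := p) Q (r - 1 - (k + 1)) hQn' hlt
          exact ⟨D Q, hD, hD0, hWD Q hQW⟩
      -- now `V s ≤ W` for all `s ≤ r`
      have hind : ∀ s, s ≤ r → V p K s ≤ W := by
        intro s
        induction s with
        | zero => intro _; rw [V_zero]; exact bot_le
        | succ s ih =>
          intro hs
          have ih' := ih (by omega)
          obtain ⟨Q, hQn, hQ0, hQW⟩ := hexact (r - 1 - s) (by omega)
          have hQn' : Q.natDegree = s := by rw [hQn]; omega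
          rintro g ⟨R, hR, rfl⟩
          have hRdeg := mem_degreeLT.1 hR
          -- subtract a multiple of `Q`
          have hlc : Q.coeff s ≠ 0 := by
            rw [← hQn']; exact leadingCoeff_ne_zero.2 hQ0
          set c : K := R.coeff s / Q.coeff s with hc
          have hsub : (R - c • Q).degree < s := by
            rw [degree_lt_iff_coeff_zero]
            intro m hm
            rcases Nat.lt_or_ge s m with h | h
            · rw [coeff_sub, coeff_smul, coeff_eq_zero_of_degree_lt (lt_of_lt_of_le hRdeg
                (by exact_mod_cast (by omega : s + 1 ≤ m))),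
                coeff_eq_zero_of_natDegree_lt (by rw [hQn']; exact h)]
              simp
            · have : m = s := le_antisymm h hm
              rw [this, coeff_sub, coeff_smul, smul_eq_mul, hc, div_mul_cancel₀ _ hlc, sub_self]
          have h1 : E p K (R - c • Q) ∈ W := ih' ⟨_, mem_degreeLT.2 hsub, rfl⟩
          have h2 : E p K R = E p K (R - c • Q) + c • E p K Q := by
            rw [← map_smul, ← map_add, sub_add_cancel]
          change E p K R ∈ W
          rw [h2]
          exact W.add_mem h1 (W.smul_mem c hQW)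
      exact hind r le_rfl
  refine ⟨r, hrp, ?_, ?_⟩
  · rw [hWV]; exact finrank_V hrp
  · intro f
    rw [hWV]
    exact mem_V

end Cfsg.Agent.S0673
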