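import Cfsg.Statements.S0677
import Mathlib
import Cfsg.Agent.Lib.Helper4.PrimeDegSubC

set_option autoImplicit false
open Cfsg
open scoped commutatorElement

namespace Cfsg.Agent.S0677


/-- In a transitive permutation group of prime degree `p` whose Sylow `p`-normaliser has even order, the point stabilisers are the only subgroups of index `p`. -/
theorem result {α : Type*} [Fintype α] [DecidableEq α] {p : ℕ} [Fact p.Prime] (hα : Fintype.card α = p) (G : Subgroup (Equiv.Perm α)) [MulAction.IsPretransitive G α] (P : Sylow p G) (heven : Even (Nat.card (Subgroup.normalizer ((P : Subgroup G) : Set G)))) (H : Subgroup G) (hH : H.index = p) : ∃ a : α, H = MulAction.stabilizer G a := by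
  classical
  have hpp := (Fact.out : p.Prime)
  have hne : Nonempty α := by rw [← Fintype.card_pos_iff, hα]; exact hpp.pos
  have hstab : ∀ a : α, (MulAction.stabilizer G a).index = p := fun a => by
    rw [MulAction.index_stabilizer_of_transitive G a, Nat.card_eq_fintype_card, hα]
  have hfin : ∀ a : α, H ≤ MulAction.stabilizer G a → H = MulAction.stabilizer G a := by
    intro a hle
    apply Subgroup.eq_of_le_of_card_ge hle
    have h1 := H.card_mul_index
    have h2 := (MulAction.stabilizer G a).card_mul_index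
    rw [hH] at h1
    rw [hstab a, ← h1] at h2
    exact le_of_eq (Nat.eq_of_mul_eq_mul_right hpp.pos h2)
  by_cases hp2 : p = 2
  · obtain ⟨a⟩ := hne
    refine ⟨a, hfin a ?_⟩
    have h1 : Nat.card G ∣ Nat.card (Equiv.Perm α) := Subgroup.card_subgroup_dvd_card G
    rw [Nat.card_eq_fintype_card (α := Equiv.Perm α), Fintype.card_perm, hα, hp2] at h1
    have h2 := H.card_mul_index
    rw [hH, hp2] at h2
    rw [← h2] at h1
    have h3 : Nat.card H = 1 := by
      have h4 : Nat.card H * 2 ∣ 1 * 2 := by simpa using h1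
      exact Nat.eq_one_of_dvd_one (Nat.dvd_of_mul_dvd_mul_right (by norm_num) h4)
    rw [Subgroup.card_eq_one] at h3
    rw [h3]
    exact bot_le
  · obtain ⟨e, g₀, t, hg₀, ht, he, het⟩ :=
      Cfsg.Agent.Lib.Helper4.PrimeDegInv.exists_inverting hα hp2 G P heven
    have ht2 : (⟨t, ht⟩ : G) ^ 2 = 1 := by
      apply Subtype.ext
      show t ^ 2 = 1
      ext a
      apply e.injective
      rw [pow_two, Equiv.Perm.mul_apply, het, het, neg_neg, Equiv.Perm.one_apply]
    have hK₂ : IsPGroup 2 (Subgroup.zpowers (⟨t, ht⟩ : G)) := by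
      rintro ⟨x, hx⟩
      refine ⟨1, ?_⟩
      obtain ⟨n, rfl⟩ := Subgroup.mem_zpowers_iff.mp hx
      apply Subtype.ext
      show ((⟨t, ht⟩ : G) ^ n) ^ (2 ^ 1) = 1
      rw [pow_one, ← zpow_natCast, ← zpow_mul, mul_comm, zpow_mul, zpow_natCast, ht2, one_zpow]
    haveI : Fact (Nat.Prime 2) := ⟨Nat.prime_two⟩
    have hnd : ¬ 2 ∣ Nat.card (G ⧸ H) := by
      rw [← Subgroup.index_eq_card, hH]
      intro h
      exact hp2 ((Nat.prime_dvd_prime_iff_eq Nat.prime_two hpp).mp h).symm
    obtain ⟨q, hq⟩ := hK₂.nonempty_fixed_point_of_prime_not_dvd_card (G ⧸ H) hnd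
    obtain ⟨x, rfl⟩ := QuotientGroup.mk_surjective q
    have hfix : (⟨t, ht⟩ : G) • (x : G ⧸ H) = x :=
      hq ⟨⟨t, ht⟩, Subgroup.mem_zpowers _⟩
    have hmem : x⁻¹ * ⟨t, ht⟩ * x ∈ H := by
      have h1 : (((⟨t, ht⟩ : G) * x : G) : G ⧸ H) = (x : G ⧸ H) := hfix
      rw [QuotientGroup.eq] at h1
      have h2 := H.inv_mem h1
      rw [mul_inv_rev, inv_inv, ← mul_assoc] at h2
      exact h2
    -- the new labelling
    have he' : ∀ a, ((x : Equiv.Perm α).trans e)
        ((((x : Equiv.Perm α))⁻¹ * g₀ * (x : Equiv.Perm α)) a) =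
        ((x : Equiv.Perm α).trans e) a + 1 := by
      intro a
      simp only [Equiv.trans_apply, Equiv.Perm.mul_apply]
      rw [Cfsg.Agent.Lib.Helper4.PrimeDegComm.perm_apply_inv, he]
    have het' : ∀ a, ((x : Equiv.Perm α).trans e)
        ((((x : Equiv.Perm α))⁻¹ * t * (x : Equiv.Perm α)) a) =
        - ((x : Equiv.Perm α).trans e) a := by
      intro a
      simp only [Equiv.trans_apply, Equiv.Perm.mul_apply]
      rw [Cfsg.Agent.Lib.Helper4.PrimeDegComm.perm_apply_inv, het]
    have hg₀' : ((x : Equiv.Perm α))⁻¹ * g₀ * (x : Equiv.Perm α) ∈ G :=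
      G.mul_mem (G.mul_mem (G.inv_mem x.2) hg₀) x.2
    have ht' : ((x : Equiv.Perm α))⁻¹ * t * (x : Equiv.Perm α) ∈ G :=
      G.mul_mem (G.mul_mem (G.inv_mem x.2) ht) x.2
    have hle := Cfsg.Agent.Lib.Helper4.PrimeDegSub.le_stabilizer hp2 G
      ((x : Equiv.Perm α).trans e) _ _ hg₀' ht' he' het' H hmem hH
    exact ⟨_, hfin _ hle⟩

end Cfsg.Agent.S0677
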