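import Cfsg.Statements.S0680
import Mathlib
import Cfsg.Agent.S0995

namespace Cfsg.Agent.S0680

open Function.Embedding

section general

variable {G α : Type*} [Group G] [MulAction G α]

/-- sharpness: only the identity fixes two distinct points -/
lemma eq_one_of_fix_two (hsharp : ∀ x : Fin 2 ↪ α, MulAction.stabilizer G x = ⊥)
    (g : G) {a b : α} (hab : a ≠ b) (ha : g • a = a) (hb : g • b = b) : g = 1 := by
  have : g ∈ MulAction.stabilizer G (embFinTwo hab) := by
    rw [MulAction.mem_stabilizer_iff]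
    ext i
    fin_cases i
    · exact ha
    · exact hb
  rw [hsharp, Subgroup.mem_bot] at this
  exact this

/-- fixed points of an element of `p`-power order, mod `p` -/
lemma card_fixedBy_modEq [Fintype α] (p k : ℕ) [Fact p.Prime] (x : G) (hx : x ^ p ^ k = 1) :
    Fintype.card α ≡ Nat.card (MulAction.fixedBy α x) [MOD p] := by
  classical
  let f : Function.End α := fun a => x • a
  have hfm : ∀ m : ℕ, f ^ m = (fun a => x ^ m • a : Function.End α) := by
    intro m
    induction m with
    | zero => funext a; rw [pow_zero, pow_zero, one_smul]; rfl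
    | succ m ih =>
      rw [pow_succ, ih]
      funext a
      show x ^ m • (x • a) = x ^ (m + 1) • a
      rw [pow_succ, mul_smul]
  have hf : f ^ p ^ k = 1 := by
    rw [hfm, hx]; funext a; exact one_smul G a
  have := Equiv.Perm.card_fixedPoints_modEq (p := p) (n := k) hf
  rw [Nat.card_eq_fintype_card]
  have e : Fintype.card (MulAction.fixedBy α x) = Fintype.card (Function.fixedPoints f) :=
    Fintype.card_congr (Equiv.setCongr rfl)
  rw [e]
  exact this

/-- a nonidentity element of `p`-power order is fixed-point-free when `p` divides the degree -/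
lemma fpf_of_pow_eq_one [Fintype α] (hsharp : ∀ x : Fin 2 ↪ α, MulAction.stabilizer G x = ⊥)
    (p k : ℕ) [hp : Fact p.Prime] (hpn : p ∣ Fintype.card α) (x : G) (hx : x ^ p ^ k = 1)
    (hx1 : x ≠ 1) : ∀ a : α, x • a ≠ a := by
  intro a ha
  have h1 : Nat.card (MulAction.fixedBy α x) = 1 := by
    rw [Nat.card_eq_one_iff_unique]
    refine ⟨⟨?_⟩, ⟨⟨a, ha⟩⟩⟩
    rintro ⟨b, hb⟩ ⟨c, hc⟩
    by_contra hne
    have hbc : b ≠ c := fun h => hne (Subtype.ext h)
    exact hx1 (eq_one_of_fix_two hsharp x hbc hb hc)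
  have h2 := card_fixedBy_modEq (α := α) p k x hx
  rw [h1] at h2
  have h3 : Fintype.card α % p = 0 := Nat.mod_eq_zero_of_dvd hpn
  unfold Nat.ModEq at h2
  rw [h3, Nat.mod_eq_of_lt hp.out.one_lt] at h2
  omega

/-- the centralizer of a fixed-point-free element acts semiregularly -/
lemma eq_one_of_mem_centralizer (hsharp : ∀ x : Fin 2 ↪ α, MulAction.stabilizer G x = ⊥)
    (x : G) (hx : ∀ a : α, x • a ≠ a) (g : G) (hg : g ∈ Subgroup.centralizer ({x} : Set G))
    (a : α) (ha : g • a = a) : g = 1 := by
  have hgx : g * x = x * g := Subgroup.mem_centralizer_singleton_iff.mp hg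
  have h2 : g • (x • a) = x • a := by
    rw [← mul_smul, hgx, mul_smul, ha]
  exact eq_one_of_fix_two hsharp g (hx a) h2 ha

lemma card_centralizer_le [Finite α] (hsharp : ∀ x : Fin 2 ↪ α, MulAction.stabilizer G x = ⊥)
    (x : G) (hx : ∀ a : α, x • a ≠ a) (a₀ : α) :
    Nat.card (Subgroup.centralizer ({x} : Set G)) ≤ Nat.card α := by
  apply Nat.card_le_card_of_injective (fun g : Subgroup.centralizer ({x} : Set G) => (g : G) • a₀)
  intro g h hgh
  have hgh' : (g : G) • a₀ = (h : G) • a₀ := hgh
  have h1 : ((h⁻¹ * g : Subgroup.centralizer ({x} : Set G)) : G) • a₀ = a₀ := by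
    rw [Subgroup.coe_mul, Subgroup.coe_inv, mul_smul, hgh', inv_smul_smul]
  have := eq_one_of_mem_centralizer hsharp x hx _ (h⁻¹ * g).2 a₀ h1
  have h2 : h⁻¹ * g = 1 := Subtype.ext this
  have e : g = h * (h⁻¹ * g) := by group
  rw [e, h2, mul_one]

lemma fpf_of_isConj (x y : G) (hx : ∀ a : α, x • a ≠ a) (h : IsConj y x) :
    ∀ a : α, y • a ≠ a := by
  obtain ⟨c, hc⟩ := isConj_iff.mp h
  intro a ha
  apply hx (c • a)
  rw [← hc, mul_smul, mul_smul, inv_smul_smul, ha]

/-- `|G| = n (n - 1)` -/
lemma card_group [Finite G] [Finite α] [MulAction.IsMultiplyPretransitive G α 2]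
    (hsharp : ∀ x : Fin 2 ↪ α, MulAction.stabilizer G x = ⊥) (h2 : 2 ≤ Nat.card α) :
    Nat.card G = Nat.card α * (Nat.card α - 1) := by
  have : Fintype α := Fintype.ofFinite α
  obtain ⟨a, b, hab⟩ : ∃ a b : α, a ≠ b := by
    rw [Nat.card_eq_fintype_card] at h2
    exact Fintype.one_lt_card_iff.mp h2
  have hbij : Function.Bijective (fun g : G => g • embFinTwo hab) := by
    constructor
    · intro g h hgh
      have : h⁻¹ * g ∈ MulAction.stabilizer G (embFinTwo hab) := by
        rw [MulAction.mem_stabilizer_iff, mul_smul]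
        show h⁻¹ • (g • embFinTwo hab) = _
        have e : g • embFinTwo hab = h • embFinTwo hab := hgh
        rw [e, inv_smul_smul]
      rw [hsharp, Subgroup.mem_bot] at this
      have e : g = h * (h⁻¹ * g) := by group
      rw [e, this, mul_one]
    · intro y
      exact MulAction.exists_smul_eq G _ y
  rw [Nat.card_eq_of_bijective _ hbij, Nat.card_eq_fintype_card, Fintype.card_embedding_eq,
    Nat.card_eq_fintype_card, Fintype.card_fin]
  rw [Nat.descFactorial_succ, Nat.descFactorial_one]
  rw [mul_comm]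

/-- the number of fixed-point-free elements is `n - 1` -/
lemma card_fpf [Finite G] [Finite α] [MulAction.IsMultiplyPretransitive G α 2]
    (hsharp : ∀ x : Fin 2 ↪ α, MulAction.stabilizer G x = ⊥) (h2 : 2 ≤ Nat.card α) :
    Nat.card {g : G // ∀ a : α, g • a ≠ a} + 1 = Nat.card α := by
  classical
  have : Fintype α := Fintype.ofFinite α
  have : Fintype G := Fintype.ofFinite G
  have htr : MulAction.IsPretransitive G α := MulAction.isPretransitive_of_is_two_pretransitive
  have hne : Nonempty α := by
    rw [← Finite.card_pos_iff]; omega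
  obtain ⟨a₀⟩ := hne
  have : Fintype (Quotient (MulAction.orbitRel G α)) := Fintype.ofFinite _
  have horb : Fintype.card (Quotient (MulAction.orbitRel G α)) = 1 := by
    rw [Fintype.card_eq_one_iff_nonempty_unique]
    haveI : Nonempty α := ⟨a₀⟩
    exact (MulAction.pretransitive_iff_unique_quotient_of_nonempty (G := G) (α := α)).mp htr
  have hB := MulAction.sum_card_fixedBy_eq_card_orbits_mul_card_group G α
  rw [horb, one_mul] at hB
  have key : ∀ g : G, Fintype.card (MulAction.fixedBy α g) +
      (if (∀ a : α, g • a ≠ a) then 1 else 0) = 1 + (if g = 1 then Nat.card α - 1 else 0) := by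
    intro g
    by_cases hg : g = 1
    · subst hg
      have h1 : ¬ (∀ a : α, (1 : G) • a ≠ a) := fun h => h a₀ (one_smul _ _)
      have h3 : Fintype.card (MulAction.fixedBy α (1 : G)) = Nat.card α := by
        rw [Nat.card_eq_fintype_card, ← Fintype.card_congr (Equiv.Set.univ α)]
        apply Fintype.card_congr
        apply Equiv.setCongr
        ext a; simp
      rw [if_neg h1, if_pos rfl, h3]; omega
    · rw [if_neg hg]
      by_cases hf : ∀ a : α, g • a ≠ a
      · rw [if_pos hf]
        have : IsEmpty (MulAction.fixedBy α g) := ⟨fun ⟨a, ha⟩ => hf a ha⟩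
        rw [Fintype.card_eq_zero]
      · rw [if_neg hf]
        push Not at hf
        obtain ⟨a, ha⟩ := hf
        have : Fintype.card (MulAction.fixedBy α g) = 1 := by
          rw [Fintype.card_eq_one_iff]
          refine ⟨⟨a, ha⟩, ?_⟩
          rintro ⟨b, hb⟩
          by_contra hne
          have hba : b ≠ a := fun h => hne (Subtype.ext h)
          exact hg (eq_one_of_fix_two hsharp g hba hb ha)
        rw [this]
  have hsum := Finset.sum_congr (rfl : (Finset.univ : Finset G) = Finset.univ) (fun g _ => key g)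
  rw [Finset.sum_add_distrib, Finset.sum_add_distrib, hB, Finset.sum_boole,
    Finset.sum_ite_eq' Finset.univ (1 : G), if_pos (Finset.mem_univ _), Finset.sum_const,
    Finset.card_univ, smul_eq_mul, mul_one] at hsum
  rw [Nat.card_eq_fintype_card, Fintype.card_subtype]
  simp only [Nat.cast_id] at hsum
  omega


lemma injective_smul_centralizer (hsharp : ∀ x : Fin 2 ↪ α, MulAction.stabilizer G x = ⊥)
    (x : G) (hx : ∀ a : α, x • a ≠ a) (a₀ : α) :
    Function.Injective (fun g : Subgroup.centralizer ({x} : Set G) => (g : G) • a₀) := by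
  intro g h hgh
  have hgh' : (g : G) • a₀ = (h : G) • a₀ := hgh
  have h1 : ((h⁻¹ * g : Subgroup.centralizer ({x} : Set G)) : G) • a₀ = a₀ := by
    rw [Subgroup.coe_mul, Subgroup.coe_inv, mul_smul, hgh', inv_smul_smul]
  have := eq_one_of_mem_centralizer hsharp x hx _ (h⁻¹ * g).2 a₀ h1
  have h2 : h⁻¹ * g = 1 := Subtype.ext this
  have e : g = h * (h⁻¹ * g) := by group
  rw [e, h2, mul_one]

theorem main [Finite G] [Fintype α] [MulAction.IsMultiplyPretransitive G α 2]
    (hsharp : ∀ x : Fin 2 ↪ α, MulAction.stabilizer G x = ⊥) (h2 : 2 ≤ Fintype.card α) :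
    ∃ p j : ℕ, p.Prime ∧ 1 ≤ j ∧ Fintype.card α = p ^ j ∧ ∀ (hp : Fact p.Prime) (P : Sylow p G),
      (P : Subgroup G).Normal ∧ IsMulCommutative (P : Subgroup G) ∧
      (∀ x ∈ (P : Subgroup G), x ^ p = 1) ∧
      MulAction.IsPretransitive (P : Subgroup G) α ∧
      (∀ a : α, MulAction.stabilizer (P : Subgroup G) a = ⊥) ∧
      ∀ g : G, g ∈ (P : Subgroup G) ↔ g = 1 ∨ ∀ a : α, g • a ≠ a := by
  classical
  set n := Fintype.card α with hn
  have hn' : Nat.card α = n := Nat.card_eq_fintype_card
  have h2' : 2 ≤ Nat.card α := by omega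
  have hG : Nat.card G = n * (n - 1) := by rw [card_group hsharp h2', hn']
  have hF : Nat.card {g : G // ∀ a : α, g • a ≠ a} + 1 = n := by rw [card_fpf hsharp h2', hn']
  obtain ⟨p, hp, hpn⟩ := Nat.exists_prime_and_dvd (show n ≠ 1 by omega)
  have hpf := Fact.mk hp
  have hpG : p ∣ Nat.card G := by rw [hG]; exact Dvd.dvd.mul_right hpn _
  obtain ⟨x, hx⟩ := exists_prime_orderOf_dvd_card' p hpG
  have hx1 : x ≠ 1 := by
    rintro rfl
    rw [orderOf_one] at hx
    exact hp.one_lt.ne hx
  have hxp : x ^ p ^ 1 = 1 := by rw [pow_one, ← hx]; exact pow_orderOf_eq_one x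
  have hxf : ∀ a : α, x • a ≠ a := fpf_of_pow_eq_one hsharp p 1 hpn x hxp hx1
  obtain ⟨a₀⟩ : Nonempty α := by
    rw [← Fintype.card_pos_iff]; omega
  set K := Subgroup.centralizer ({x} : Set G) with hK
  have hKle : Nat.card K ≤ n := by rw [← hn']; exact card_centralizer_le hsharp x hxf a₀
  have hinj : Function.Injective (Subtype.map id (fun y hy => fpf_of_isConj x y hxf hy) :
      {y : G // IsConj y x} → {g : G // ∀ a : α, g • a ≠ a}) :=
    Subtype.map_injective _ Function.injective_id
  have hcl : Nat.card {y : G // IsConj y x} ≤ n - 1 := by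
    have := Nat.card_le_card_of_injective _ hinj
    omega
  have hmul := Cfsg.Agent.S0995.card_isConj_mul_card_centralizer x
  have hKn : Nat.card K = n ∧ Nat.card {y : G // IsConj y x} = n - 1 := by
    rw [hG] at hmul
    have h1 : 0 < n - 1 := by omega
    have h3 : n * (n - 1) ≤ (n - 1) * Nat.card K := by
      rw [← hmul]; exact Nat.mul_le_mul_right _ hcl
    have h4 : n ≤ Nat.card K := by
      rw [mul_comm] at h3
      exact Nat.le_of_mul_le_mul_left h3 h1
    have h5 : Nat.card K = n := le_antisymm hKle h4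
    refine ⟨h5, ?_⟩
    rw [h5, mul_comm n (n - 1)] at hmul
    exact Nat.eq_of_mul_eq_mul_right (by omega) hmul
  have hconj : ∀ g : G, (∀ a : α, g • a ≠ a) → IsConj g x := by
    intro g hg
    have hbij := hinj.bijective_of_nat_card_le (by omega)
    obtain ⟨⟨y, hy⟩, hyg⟩ := hbij.2 ⟨g, hg⟩
    have : y = g := congrArg Subtype.val hyg
    rwa [this] at hy
  have hKmem : ∀ g : G, g ∈ K ↔ g = 1 ∨ ∀ a : α, g • a ≠ a := by
    intro g
    constructor
    · intro hg
      by_cases h1 : g = 1
      · left; exact h1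
      · right; intro a ha; exact h1 (eq_one_of_mem_centralizer hsharp x hxf g hg a ha)
    · rintro (rfl | hg)
      · exact K.one_mem
      · let φ : {k : K // k ≠ 1} → {g : G // ∀ a : α, g • a ≠ a} := fun k =>
          ⟨(k.1 : G), fun a ha => k.2 (Subtype.ext
            (eq_one_of_mem_centralizer hsharp x hxf _ k.1.2 a ha))⟩
        have hφ : Function.Injective φ := by
          intro k k' h
          have : (k.1 : G) = (k'.1 : G) :=
            congrArg (fun z : {g : G // ∀ a : α, g • a ≠ a} => (z : G)) h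
          exact Subtype.ext (Subtype.ext this)
        have hcard : Nat.card {k : K // k ≠ 1} + 1 = Nat.card K := by
          rw [← Finite.card_option]
          exact Nat.card_congr (Equiv.optionSubtypeNe (1 : K))
        have hbij := hφ.bijective_of_nat_card_le (by omega)
        obtain ⟨k, hk⟩ := hbij.2 ⟨g, hg⟩
        have : (k.1 : G) = g := congrArg Subtype.val hk
        rw [← this]; exact k.1.2
  have hKnormal : K.Normal := by
    constructor
    intro g hg h
    rw [hKmem] at hg ⊢
    rcases hg with rfl | hg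
    · left; group
    · right
      intro a ha
      apply hg (h⁻¹ • a)
      have := congrArg (fun b => h⁻¹ • b) ha
      simpa [mul_smul] using this
  have hKp : ∀ g ∈ K, g ^ p = 1 := by
    intro g hg
    rcases (hKmem g).mp hg with rfl | hgf
    · exact one_pow p
    · obtain ⟨c, hc⟩ := isConj_iff.mp (hconj g hgf)
      have h1 : c * g ^ p * c⁻¹ = (c * g * c⁻¹) ^ p := (conj_pow).symm
      have hxpp : x ^ p = 1 := by rw [← hx]; exact pow_orderOf_eq_one x
      rw [hc, hxpp] at h1
      exact conj_eq_one_iff.mp h1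
  have hKcomm : IsMulCommutative K := by
    refine ⟨⟨?_⟩⟩
    rintro ⟨y, hy⟩ ⟨k, hk⟩
    apply Subtype.ext
    show y * k = k * y
    rcases (hKmem y).mp hy with rfl | hyf
    · simp
    · obtain ⟨c, hc⟩ := isConj_iff.mp (hconj y hyf)
      have h1 : c * k * c⁻¹ ∈ K := hKnormal.conj_mem k hk c
      have h2 : (c * k * c⁻¹) * x = x * (c * k * c⁻¹) :=
        Subgroup.mem_centralizer_singleton_iff.mp h1
      rw [← hc] at h2
      have h3 : c * (k * y) * c⁻¹ = c * (y * k) * c⁻¹ := by
        calc c * (k * y) * c⁻¹ = (c * k * c⁻¹) * (c * y * c⁻¹) := by group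
          _ = (c * y * c⁻¹) * (c * k * c⁻¹) := h2
          _ = c * (y * k) * c⁻¹ := by group
      exact (mul_left_cancel (mul_right_cancel h3)).symm
  have hKpg : IsPGroup p K := by
    intro g
    refine ⟨1, ?_⟩
    rw [pow_one]
    exact Subtype.ext (hKp g g.2)
  obtain ⟨j, hj⟩ := hKpg.exists_card_eq
  have hnj : n = p ^ j := by rw [← hKn.1, hj]
  have hj1 : 1 ≤ j := by
    by_contra h0
    have : j = 0 := by omega
    rw [this, pow_zero] at hnj
    omega
  refine ⟨p, j, hp, hj1, hnj, ?_⟩
  intro hp' P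
  have hPK : (P : Subgroup G) = K := by
    apply le_antisymm
    · intro g hg
      rw [hKmem]
      by_cases h1 : g = 1
      · left; exact h1
      · right
        obtain ⟨k, hk⟩ := P.isPGroup' ⟨g, hg⟩
        have hgk : g ^ p ^ k = 1 := by
          have := congrArg Subtype.val hk
          simpa using this
        exact fpf_of_pow_eq_one hsharp p k hpn g hgk h1
    · exact hKpg.le_sylow_of_normal P
  rw [hPK]
  refine ⟨hKnormal, hKcomm, hKp, ?_, ?_, hKmem⟩
  · have hbij : Function.Bijective (fun g : K => (g : G) • a₀) :=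
      (injective_smul_centralizer hsharp x hxf a₀).bijective_of_nat_card_le
        (by rw [hn', hKn.1])
    constructor
    intro a b
    obtain ⟨k₁, hk₁⟩ := hbij.2 a
    obtain ⟨k₂, hk₂⟩ := hbij.2 b
    refine ⟨k₂ * k₁⁻¹, ?_⟩
    show ((k₂ * k₁⁻¹ : K) : G) • a = b
    rw [← hk₁, ← hk₂]
    show ((k₂ * k₁⁻¹ : K) : G) • ((k₁ : G) • a₀) = (k₂ : G) • a₀
    rw [Subgroup.coe_mul, Subgroup.coe_inv, mul_smul, inv_smul_smul]
  · intro a
    rw [eq_bot_iff]
    intro k hk
    rw [Subgroup.mem_bot]
    have hk' : (k : G) • a = a := hk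
    exact Subtype.ext (eq_one_of_mem_centralizer hsharp x hxf (k : G) k.2 a hk')

end general

/-- A finite sharply doubly transitive permutation group has degree a prime power `p ^ j`; a Sylow `p`-subgroup is normal, elementary abelian and regular, and consists of the identity together with the elements without fixed points. (Frobenius' Theorem is not needed.) -/
theorem result {α : Type*} [Fintype α] [DecidableEq α] (G : Subgroup (Equiv.Perm α)) [MulAction.IsMultiplyPretransitive G α 2] (hsharp : ∀ x : Fin 2 ↪ α, MulAction.stabilizer G x = ⊥) (h2 : 2 ≤ Fintype.card α) : ∃ p j : ℕ, p.Prime ∧ 1 ≤ j ∧ Fintype.card α = p ^ j ∧ ∀ (hp : Fact p.Prime) (P : Sylow p G), (P : Subgroup G).Normal ∧ IsMulCommutative (P : Subgroup G) ∧ (∀ x ∈ (P : Subgroup G), x ^ p = 1) ∧ MulAction.IsPretransitive (P : Subgroup G) α ∧ (∀ a : α, MulAction.stabilizer (P : Subgroup G) a = ⊥) ∧ ∀ g : G, g ∈ (P : Subgroup G) ↔ g = 1 ∨ ∀ a : α, g • a ≠ a :=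
  main hsharp h2

end Cfsg.Agent.S0680
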