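import Cfsg.Statements.S0681
import Mathlib
import Cfsg.Agent.Lib.Helper4.NearField

set_option autoImplicit false
open Cfsg

namespace Cfsg.Agent.S0681

open Cfsg.Agent.Lib.Helper4.NearField

variable {F : Type*} [Cfsg.NearField F]

theorem ne_zero_of_mul_eq_one (a a' : F) (h : a * a' = 1) : a ≠ 0 := by
  rintro rfl
  rw [nf_zero_mul] at h
  exact NearField.zero_ne_one h

/-- the affine map `x ↦ x * a + b` as a permutation -/
def affMap (a a' : F) (h1 : a * a' = 1) (h2 : a' * a = 1) (b : F) : Equiv.Perm F where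
  toFun x := x * a + b
  invFun y := (y - b) * a'
  left_inv x := by
    show (x * a + b - b) * a' = x
    rw [add_sub_cancel_right, mul_assoc, h1, mul_one]
  right_inv y := by
    show (y - b) * a' * a + b = y
    rw [mul_assoc, h2, mul_one, sub_add_cancel]

theorem affMap_apply (a a' : F) (h1 : a * a' = 1) (h2 : a' * a = 1) (b x : F) :
    affMap a a' h1 h2 b x = x * a + b := rfl

/-- the group of affine maps -/
def affH (F : Type*) [Cfsg.NearField F] : Subgroup (Equiv.Perm F) where
  carrier := {σ | ∃ a b : F, a ≠ 0 ∧ ∀ x, σ x = x * a + b}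
  one_mem' := ⟨1, 0, fun h => NearField.zero_ne_one h.symm, fun x => by simp⟩
  mul_mem' := by
    rintro σ τ ⟨a, b, ha, hσ⟩ ⟨c, d, hc, hτ⟩
    refine ⟨c * a, d * a + b, nf_mul_ne_zero c a hc ha, fun x => ?_⟩
    rw [Equiv.Perm.mul_apply, hτ, hσ, nf_rd, mul_assoc, add_assoc]
  inv_mem' := by
    rintro σ ⟨a, b, ha, hσ⟩
    obtain ⟨a', h1, h2⟩ := NearField.exists_inv a ha
    refine ⟨a', (-b) * a', ne_zero_of_mul_eq_one a' a h2, fun y => ?_⟩
    apply σ.injective
    rw [Equiv.Perm.inv_def, Equiv.apply_symm_apply, hσ, nf_rd, mul_assoc, mul_assoc, h2, mul_one, mul_one,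
      add_assoc, neg_add_cancel, add_zero]

theorem mem_affH (σ : Equiv.Perm F) :
    σ ∈ affH F ↔ ∃ a b : F, a ≠ 0 ∧ ∀ x : F, σ x = x * a + b := Iff.rfl

/-- The affine maps `x ↦ x * a + b`, `a ≠ 0`, of a near-field form a sharply doubly transitive permutation group. -/
theorem result {F : Type*} [Cfsg.NearField F] : ∃ H : Subgroup (Equiv.Perm F), (∀ σ : Equiv.Perm F, σ ∈ H ↔ ∃ a b : F, a ≠ 0 ∧ ∀ x : F, σ x = x * a + b) ∧ MulAction.IsMultiplyPretransitive H F 2 ∧ ∀ x : Fin 2 ↪ F, MulAction.stabilizer H x = ⊥ := by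
  refine ⟨affH F, mem_affH, ?_, ?_⟩
  · -- double transitivity
    refine ⟨fun x y => ?_⟩
    have hd : x 0 - x 1 ≠ 0 := by
      intro h
      have := x.injective (sub_eq_zero.mp h)
      exact absurd this (by decide)
    have he : y 0 - y 1 ≠ 0 := by
      intro h
      have := y.injective (sub_eq_zero.mp h)
      exact absurd this (by decide)
    obtain ⟨d', hd1, hd2⟩ := NearField.exists_inv _ hd
    obtain ⟨e', he1, he2⟩ := NearField.exists_inv _ he
    set d := x 0 - x 1 with hdd
    set e := y 0 - y 1 with hee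
    set a := d' * e with ha
    set a' := e' * d with ha'
    have h1 : a * a' = 1 := by
      rw [ha, ha', mul_assoc, ← mul_assoc e, he1, one_mul, hd2]
    have h2 : a' * a = 1 := by
      rw [ha, ha', mul_assoc, ← mul_assoc d, hd1, one_mul, he2]
    set b := -(x 0 * a) + y 0 with hb
    have hmem : affMap a a' h1 h2 b ∈ affH F :=
      ⟨a, b, ne_zero_of_mul_eq_one a a' h1, fun x => rfl⟩
    refine ⟨⟨affMap a a' h1 h2 b, hmem⟩, ?_⟩
    ext i
    show affMap a a' h1 h2 b (x i) = y i
    rw [affMap_apply]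
    fin_cases i
    · show x 0 * a + b = y 0
      rw [hb, add_neg_cancel_left]
    · show x 1 * a + b = y 1
      have hda : d * a = e := by rw [ha, ← mul_assoc, hd1, one_mul]
      have h3 : x 1 * a + -(x 0 * a) = -e := by
        rw [← sub_eq_add_neg, ← nf_sub_mul, ← neg_sub (x 0) (x 1), nf_neg_mul, hda]
      rw [hb, ← add_assoc, h3, hee, neg_sub, sub_add_cancel]
  · -- sharpness
    intro x
    rw [eq_bot_iff]
    rintro ⟨σ, a, b, ha, hσ⟩ hstab
    rw [MulAction.mem_stabilizer_iff] at hstab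
    have h0 : σ (x 0) = x 0 := congrArg (fun f : Fin 2 ↪ F => f 0) hstab
    have h1 : σ (x 1) = x 1 := congrArg (fun f : Fin 2 ↪ F => f 1) hstab
    rw [hσ] at h0 h1
    have hd : x 0 - x 1 ≠ 0 := by
      intro h
      have := x.injective (sub_eq_zero.mp h)
      exact absurd this (by decide)
    obtain ⟨d', hd1, hd2⟩ := NearField.exists_inv _ hd
    have h2 : (x 0 - x 1) * a = x 0 - x 1 := by
      conv_rhs => rw [← h0, ← h1]
      rw [nf_sub_mul, add_sub_add_right_eq_sub]
    have ha1 : a = 1 := by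
      have : d' * ((x 0 - x 1) * a) = d' * (x 0 - x 1) := by rw [h2]
      rwa [← mul_assoc, hd2, one_mul] at this
    have hb0 : b = 0 := by
      rw [ha1, mul_one] at h0
      exact add_eq_left.mp h0
    rw [Subgroup.mem_bot]
    apply Subtype.ext
    ext y
    show σ y = y
    rw [hσ, ha1, hb0, mul_one, add_zero]

end Cfsg.Agent.S0681
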