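import Cfsg.Statements.S0682
import Mathlib
import Cfsg.Agent.Lib.Helper4.NearField

set_option autoImplicit false
open Cfsg

namespace Cfsg.Agent.S0682

open Cfsg.Agent.Lib.Helper4.NearField

/-- A finite near-field has prime-power order; its additive group is commutative of prime exponent. -/
theorem result {F : Type*} [Cfsg.NearField F] [Finite F] : ∃ p j : ℕ, p.Prime ∧ 1 ≤ j ∧ Nat.card F = p ^ j ∧ (∀ x y : F, x + y = y + x) ∧ ∀ x : F, p • x = 0 := by
  have hnt : Nontrivial F := ⟨⟨0, 1, NearField.zero_ne_one⟩⟩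
  have hcard : 1 < Nat.card F := Finite.one_lt_card
  -- a prime dividing the order
  obtain ⟨p, hp, hpdvd⟩ := Nat.exists_prime_and_dvd (Nat.ne_of_gt hcard)
  have : Fact p.Prime := ⟨hp⟩
  obtain ⟨x, hx⟩ := exists_prime_addOrderOf_dvd_card' (G := F) p hpdvd
  have hx0 : x ≠ 0 := by
    rintro rfl
    rw [addOrderOf_zero] at hx
    exact hp.one_lt.ne hx
  have hpx : p • x = 0 := by rw [← hx]; exact addOrderOf_nsmul_eq_zero x
  have hall : ∀ y : F, p • y = 0 := by
    intro y
    obtain ⟨a, rfl⟩ := nf_exists_mul_eq x y hx0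
    rw [← nf_nsmul_mul, hpx, nf_zero_mul]
  -- `Multiplicative F` is a `p`-group
  have hpg : IsPGroup p (Multiplicative F) := by
    intro g
    refine ⟨1, ?_⟩
    rw [pow_one]
    exact congrArg Multiplicative.ofAdd (hall (Multiplicative.toAdd g))
  obtain ⟨j, hj⟩ := (IsPGroup.iff_card (G := Multiplicative F)).mp hpg
  have hj' : Nat.card F = p ^ j := by
    rw [← hj]; rfl
  have hj1 : 1 ≤ j := by
    rcases Nat.eq_zero_or_pos j with h | h
    · rw [h, pow_zero] at hj'; omega
    · exact h
  -- commutativity through the centre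
  have hntM : Nontrivial (Multiplicative F) := hnt
  have hcen := hpg.center_nontrivial
  obtain ⟨⟨z, hz⟩, hz1⟩ := exists_ne (1 : Subgroup.center (Multiplicative F))
  have hz0 : Multiplicative.toAdd z ≠ 0 := by
    intro h
    apply hz1
    apply Subtype.ext
    exact h
  have hzc : ∀ y : F, Multiplicative.toAdd z + y = y + Multiplicative.toAdd z := by
    intro y
    have := (Subgroup.mem_center_iff.mp hz) (Multiplicative.ofAdd y)
    exact (congrArg Multiplicative.toAdd this).symm
  set z' := Multiplicative.toAdd z with hz'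
  have hcomm : ∀ u y : F, u + y = y + u := by
    intro u y
    by_cases hu : u = 0
    · rw [hu, zero_add, add_zero]
    · obtain ⟨a, rfl⟩ := nf_exists_mul_eq z' u hz0
      have ha : a ≠ 0 := by
        rintro rfl
        exact hu (nf_mul_zero z')
      obtain ⟨a', ha1, ha2⟩ := NearField.exists_inv a ha
      have hy : y = (y * a') * a := by rw [mul_assoc, ha2, mul_one]
      rw [hy, ← nf_rd, ← nf_rd, hzc]
  exact ⟨p, j, hp, hj1, hj', hcomm, hall⟩

end Cfsg.Agent.S0682
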