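import Cfsg.Statements.S0683
import Mathlib
import Cfsg.Agent.S0680

set_option autoImplicit false
open Cfsg

namespace Cfsg.Agent.S0683

open Cfsg.Agent.S0680

/-- A finite sharply doubly transitive permutation group is the affine group of a near-field: the permuted set carries a near-field structure for which the group consists exactly of the maps `x ↦ x * a + b` with `a ≠ 0`. -/
theorem result {α : Type*} [Fintype α] [DecidableEq α] (H : Subgroup (Equiv.Perm α)) [MulAction.IsMultiplyPretransitive H α 2] (hsharp : ∀ x : Fin 2 ↪ α, MulAction.stabilizer H x = ⊥) (h2 : 2 ≤ Fintype.card α) : ∃ _ : Cfsg.NearField α, ∀ σ : Equiv.Perm α, σ ∈ H ↔ ∃ a b : α, a ≠ 0 ∧ ∀ x : α, σ x = x * a + b := by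
  classical
  obtain ⟨p, j, hp, -, -, hP⟩ := main (G := H) hsharp h2
  have hpf := Fact.mk hp
  obtain ⟨P⟩ : Nonempty (Sylow p H) := inferInstance
  obtain ⟨hN, hC, -, hT, hS, -⟩ := hP hpf P
  set K : Subgroup H := (P : Subgroup H) with hK
  obtain ⟨a₀, a₁, h01⟩ : ∃ a b : α, a ≠ b := Fintype.one_lt_card_iff.mp h2
  have tr : ∀ {a b c d : α}, a ≠ b → c ≠ d → ∃ g : H, g • a = c ∧ g • b = d :=
    MulAction.is_two_pretransitive_iff.mp inferInstance
  -- translations
  have hex : ∀ b : α, ∃ k : H, k ∈ K ∧ k • a₀ = b := by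
    intro b
    obtain ⟨k, hk⟩ := MulAction.exists_smul_eq K a₀ b
    exact ⟨(k : H), k.2, hk⟩
  choose τ hτK hτ using hex
  have UK : ∀ k k' : H, k ∈ K → k' ∈ K → k • a₀ = k' • a₀ → k = k' := by
    intro k k' hk hk' h
    have hmem : (⟨k'⁻¹ * k, K.mul_mem (K.inv_mem hk') hk⟩ : K) ∈ MulAction.stabilizer K a₀ := by
      rw [MulAction.mem_stabilizer_iff]
      show (k'⁻¹ * k) • a₀ = a₀
      rw [mul_smul, h, inv_smul_smul]
    rw [hS a₀, Subgroup.mem_bot] at hmem
    have h1 : k'⁻¹ * k = 1 := congrArg Subtype.val hmem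
    have e : k = k' * (k'⁻¹ * k) := by group
    rw [e, h1, mul_one]
  have T1 : τ a₀ = 1 := UK _ _ (hτK a₀) K.one_mem (by rw [hτ, one_smul])
  have Kcomm : ∀ k k' : H, k ∈ K → k' ∈ K → k * k' = k' * k := by
    intro k k' hk hk'
    have := hC.is_comm.comm (⟨k, hk⟩ : K) ⟨k', hk'⟩
    exact congrArg Subtype.val this
  have T3 : ∀ b x : α, τ (τ b • x) = τ b * τ x := by
    intro b x
    apply UK _ _ (hτK _) (K.mul_mem (hτK b) (hτK x))
    rw [hτ, mul_smul, hτ]
  have T2 : ∀ b x : α, τ b • x = τ x • b := by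
    intro b x
    have h1 : τ b • x = (τ b * τ x) • a₀ := by rw [mul_smul, hτ]
    have h2 : τ x • b = (τ x * τ b) • a₀ := by rw [mul_smul, hτ]
    rw [h1, h2, Kcomm _ _ (hτK b) (hτK x)]
  -- dilations
  have hex2 : ∀ a : α, ∃ h : H, a ≠ a₀ → h • a₀ = a₀ ∧ h • a₁ = a := by
    intro a
    by_cases ha : a = a₀
    · exact ⟨1, fun h => absurd ha h⟩
    · obtain ⟨g, hg0, hg1⟩ := tr h01 (Ne.symm ha)
      exact ⟨g, fun _ => ⟨hg0, hg1⟩⟩
  choose μ hμ using hex2
  have UH : ∀ h h' : H, h • a₀ = a₀ → h' • a₀ = a₀ → h • a₁ = h' • a₁ → h = h' := by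
    intro h h' h0 h0' h1
    have e0 : (h'⁻¹ * h) • a₀ = a₀ := by rw [mul_smul, h0, inv_smul_eq_iff, h0']
    have e1 : (h'⁻¹ * h) • a₁ = a₁ := by rw [mul_smul, h1, inv_smul_smul]
    have := eq_one_of_fix_two hsharp (h'⁻¹ * h) h01 e0 e1
    have e : h = h' * (h'⁻¹ * h) := by group
    rw [e, this, mul_one]
  have M1 : μ a₁ = 1 :=
    UH _ _ (hμ a₁ h01.symm).1 (one_smul _ _) (by rw [(hμ a₁ h01.symm).2, one_smul])
  have Mne : ∀ (h : H) (a : α), h • a₀ = a₀ → a ≠ a₀ → h • a ≠ a₀ := by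
    intro h a h0 ha hc
    apply ha
    have : h • a = h • a₀ := by rw [hc, h0]
    exact MulAction.injective h this
  have M3 : ∀ a b : α, (ha : a ≠ a₀) → (hb : b ≠ a₀) → μ (μ b • a) = μ b * μ a := by
    intro a b ha hb
    have hne := Mne (μ b) a (hμ b hb).1 ha
    apply UH _ _ (hμ _ hne).1
    · rw [mul_smul, (hμ a ha).1, (hμ b hb).1]
    · rw [(hμ _ hne).2, mul_smul, (hμ a ha).2]
  have D1 : ∀ c y : α, c ≠ a₀ → μ c * τ y * (μ c)⁻¹ = τ (μ c • y) := by
    intro c y hc
    apply UK _ _ (hN.conj_mem _ (hτK y) _) (hτK _)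
    rw [hτ, mul_smul, mul_smul, inv_smul_eq_iff.mpr (hμ c hc).1.symm, hτ]
  -- the near-field
  let add' : α → α → α := fun x b => τ b • x
  let mul' : α → α → α := fun x a => if a = a₀ then a₀ else μ a • x
  have mul_ne : ∀ x a : α, a ≠ a₀ → mul' x a = μ a • x := fun x a ha => if_neg ha
  have mul_z : ∀ x : α, mul' x a₀ = a₀ := fun x => if_pos rfl
  letI iz : Zero α := ⟨a₀⟩
  letI ia : Add α := ⟨add'⟩
  letI ineg : Neg α := ⟨fun x => (τ x)⁻¹ • a₀⟩
  letI im : Mul α := ⟨mul'⟩
  letI io : One α := ⟨a₁⟩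
  let ag : AddGroup α := AddGroup.ofLeftAxioms
    (by
      intro x y z
      show τ z • (τ y • x) = τ (τ z • y) • x
      rw [T3, mul_smul])
    (by
      intro b
      show τ b • a₀ = b
      exact hτ b)
    (by
      intro x
      show τ x • ((τ x)⁻¹ • a₀) = a₀
      rw [smul_inv_smul])
  let mn : Monoid α :=
    { mul := mul'
      one := a₁
      mul_assoc := by
        intro x a b
        show mul' (mul' x a) b = mul' x (mul' a b)
        by_cases hb : b = a₀
        · rw [hb, mul_z, mul_z, mul_z]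
        · by_cases ha : a = a₀
          · rw [ha, mul_z, mul_ne _ b hb, (hμ b hb).1, mul_z]
          · rw [mul_ne _ b hb, mul_ne _ a ha, mul_ne a b hb,
              mul_ne _ _ (Mne (μ b) a (hμ b hb).1 ha), M3 a b ha hb, mul_smul]
      one_mul := by
        intro a
        show mul' a₁ a = a
        by_cases ha : a = a₀
        · rw [ha, mul_z]
        · rw [mul_ne _ a ha, (hμ a ha).2]
      mul_one := by
        intro x
        show mul' x a₁ = x
        rw [mul_ne _ a₁ h01.symm, M1, one_smul] }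
  let inst : Cfsg.NearField α :=
    { toAddGroup := ag
      toMonoid := mn
      right_distrib := by
        intro x y c
        show mul' (τ y • x) c = τ (mul' y c) • (mul' x c)
        by_cases hc : c = a₀
        · rw [hc, mul_z, mul_z, mul_z, hτ]
        · rw [mul_ne _ c hc, mul_ne _ c hc, mul_ne _ c hc, ← D1 c y hc, mul_smul, mul_smul,
            inv_smul_smul]
      mul_zero := by
        intro a
        exact mul_z a
      zero_ne_one := h01
      exists_inv := by
        intro a ha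
        have ha' : a ≠ a₀ := ha
        have hb : (μ a)⁻¹ • a₁ ≠ a₀ := by
          apply Mne _ _ _ h01.symm
          rw [inv_smul_eq_iff, (hμ a ha').1]
        have hμb : μ ((μ a)⁻¹ • a₁) = (μ a)⁻¹ := by
          apply UH _ _ (hμ _ hb).1
          · rw [inv_smul_eq_iff, (hμ a ha').1]
          · rw [(hμ _ hb).2]
        refine ⟨(μ a)⁻¹ • a₁, ?_, ?_⟩
        · show mul' a ((μ a)⁻¹ • a₁) = a₁
          rw [mul_ne _ _ hb, hμb, inv_smul_eq_iff, (hμ a ha').2]
        · show mul' ((μ a)⁻¹ • a₁) a = a₁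
          rw [mul_ne _ a ha', smul_inv_smul] }
  refine ⟨inst, ?_⟩
  intro σ
  constructor
  · intro hσ
    set s : H := ⟨σ, hσ⟩ with hs
    set b := s • a₀ with hb
    set t : H := (τ b)⁻¹ * s with ht
    have ht0 : t • a₀ = a₀ := by
      rw [ht, mul_smul, inv_smul_eq_iff, hτ]
    have hane : t • a₁ ≠ a₀ := Mne t a₁ ht0 h01.symm
    have hμt : μ (t • a₁) = t := UH _ _ (hμ _ hane).1 ht0 (hμ _ hane).2
    refine ⟨t • a₁, b, hane, ?_⟩
    intro x
    show σ x = τ b • (mul' x (t • a₁))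
    rw [mul_ne _ _ hane, hμt, ht, mul_smul, smul_inv_smul]
    rfl
  · rintro ⟨a, b, ha, hσ⟩
    have ha' : a ≠ a₀ := ha
    have : σ = ((τ b * μ a : H) : Equiv.Perm α) := by
      ext x
      rw [hσ x]
      show τ b • (mul' x a) = (τ b * μ a) • x
      rw [mul_ne _ a ha', mul_smul]
    rw [this]
    exact (τ b * μ a).2

end Cfsg.Agent.S0683
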