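import Cfsg.Statements.S0686
import Cfsg.Agent.Lib.Helper5.S0686.Core
import Cfsg.Agent.Lib.Zass.STTC
import Cfsg.Agent.Lib.Zass.FinalB

set_option autoImplicit false
open Cfsg

namespace Cfsg.Agent.S0686

/-- In a linear group over the prime field that is regular on non-zero vectors and has no irreducible cyclic normal subgroup, let `A` be a maximal normal abelian subgroup and `N` a normal subgroup centralising `A` that is minimal among non-abelian normal subgroups centralising `A`. Then `N` is quaternion of order 8 or isomorphic to `SL(2,5)`. -/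
theorem result {p : ℕ} [Fact p.Prime] {V : Type*} [AddCommGroup V] [Module (ZMod p) V] [Finite V] (H : Subgroup (V ≃ₗ[ZMod p] V)) (hreg : ∀ v w : V, v ≠ 0 → w ≠ 0 → ∃! h : H, (h : V ≃ₗ[ZMod p] V) v = w) (hI : ∀ A : Subgroup H, A.Normal → IsCyclic A → ∃ W : Submodule (ZMod p) V, W ≠ ⊥ ∧ W ≠ ⊤ ∧ ∀ a ∈ A, ∀ v ∈ W, ((a : H) : V ≃ₗ[ZMod p] V) v ∈ W) (A : Subgroup H) (hAn : A.Normal) (hAc : IsMulCommutative A) (hAmax : ∀ B : Subgroup H, B.Normal → IsMulCommutative B → A ≤ B → B = A) (N : Subgroup H) (hNn : N.Normal) (hNle : N ≤ Subgroup.centralizer (A : Set H)) (hNna : ¬ IsMulCommutative N) (hNmin : ∀ M : Subgroup H, M.Normal → M ≤ N → ¬ IsMulCommutative M → M = N) : Nonempty (N ≃* QuaternionGroup 2) ∨ Nonempty (N ≃* Matrix.SpecialLinearGroup (Fin 2) (ZMod 5)) := by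
  classical
  haveI : Finite (V ≃ₗ[ZMod p] V) :=
    Finite.of_injective (fun f : V ≃ₗ[ZMod p] V => (f : V → V)) (fun f g hfg =>
      LinearEquiv.ext (fun x => congrFun hfg x))
  have hne : ∃ h : H, h ≠ 1 := by
    by_contra hcon
    push Not at hcon
    apply hNna
    exact ⟨⟨fun a b => Subtype.ext (by rw [hcon (a * b : N), hcon (b * a : N)])⟩⟩
  obtain ⟨n, ρ, hn, hρ⟩ := Cfsg.Agent.ZassL.STT_hasFreeRep hreg hne
  have hU : Cfsg.Agent.S3358L.PU H := hρ.PU hn
  have hZ : ∀ K : Subgroup H, _root_.commutator K = ⊤ → Nontrivial K →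
      Nonempty (K ≃* Matrix.SpecialLinearGroup (Fin 2) (ZMod 5)) := by
    intro K hK hKnt
    exact Cfsg.Agent.ZassL.theoremZ_holds K ⟨n, ρ.comp K.subtype, hn, hρ.subgroup K⟩ hK hKnt
  exact Cfsg.Agent.Lib.Helper5.S0686.core hU hZ A hAn hAc hAmax N hNn hNle hNna hNmin

end Cfsg.Agent.S0686
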