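import Cfsg.Statements.S0691
import Mathlib
import Cfsg.Agent.Lib.Helper4.MatList

set_option autoImplicit false

open Cfsg

namespace Cfsg.Agent.S0691

open Cfsg.Agent.Lib.Helper4.MatList

def gs : List T4 := [(2, 0, 0, 3), (0, 4, 1, 0), (1, 2, 1, 3)]

def words : List (List ℕ) :=
  [[], [0], [1], [2], [0, 0], [1, 0], [2, 0], [0, 1], [2, 1], [1, 2], [2, 2], [0, 0, 0], [1, 0, 0], [2, 0, 0], [1, 2, 0], [2, 2, 0], [2, 0, 1], [2, 2, 1], [0, 1, 2], [2, 1, 2], [2, 2, 0, 0], [2, 1, 2, 0], [2, 2, 0, 1], [2, 0, 1, 2]]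

def Kl : List T4 :=
  [(1, 0, 0, 1), (2, 0, 0, 3), (0, 4, 1, 0), (1, 2, 1, 3), (4, 0, 0, 4), (0, 2, 2, 0), (2, 1, 2, 4), (0, 3, 3, 0), (2, 4, 3, 4), (4, 2, 1, 2), (3, 3, 4, 1), (3, 0, 0, 2), (0, 1, 4, 0), (4, 3, 4, 2), (3, 1, 2, 1), (1, 4, 3, 3), (1, 3, 4, 3), (3, 2, 1, 1), (3, 4, 3, 1), (1, 1, 2, 3), (2, 2, 1, 4), (2, 3, 4, 4), (4, 4, 3, 2), (4, 1, 2, 2)]


theorem hW : words.map (evalW 5 gs) = Kl := by decide
theorem hK1 : one4 ∈ Kl := by decide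
theorem hK2 : ∀ g ∈ gs, ∀ s ∈ Kl, mulT 5 g s ∈ Kl := by decide
theorem hK3 : Kl.Nodup := by decide
theorem hK4 : ∀ s ∈ Kl, red 5 s := by decide
theorem hK5 : ∀ s ∈ Kl, s ≠ one4 → chk 5 s := by decide

/-- An exceptional sharply doubly transitive group of degree 5^2: the listed matrices generate a subgroup of GL(2,5) of order 24 acting regularly on the non-zero vectors. -/
theorem result (A : Matrix.GeneralLinearGroup (Fin 2) (ZMod 5)) (B : Matrix.GeneralLinearGroup (Fin 2) (ZMod 5)) (C : Matrix.GeneralLinearGroup (Fin 2) (ZMod 5)) (hA : (A : Matrix (Fin 2) (Fin 2) (ZMod 5)) = !![2, 0; 0, -2]) (hB : (B : Matrix (Fin 2) (Fin 2) (ZMod 5)) = !![0, -1; 1, 0]) (hC : (C : Matrix (Fin 2) (Fin 2) (ZMod 5)) = !![1, 2; 1, -2]) : Nat.card (Subgroup.closure ({A, B, C} : Set (Matrix.GeneralLinearGroup (Fin 2) (ZMod 5)))) = 24 ∧ ∀ v w : Fin 2 → ZMod 5, v ≠ 0 → w ≠ 0 → ∃! h : Subgroup.closure ({A, B, C}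 : Set (Matrix.GeneralLinearGroup (Fin 2) (ZMod 5))), Matrix.mulVec ((h : Matrix.GeneralLinearGroup (Fin 2) (ZMod 5)) : Matrix (Fin 2) (Fin 2) (ZMod 5)) v = w := by
  haveI : Fact (Nat.Prime 5) := ⟨by norm_num⟩
  have hc : Corr [A, B, C] gs := by
    refine ⟨rfl, ?_⟩
    intro i
    match i with
    | 0 =>
      change (A : Matrix (Fin 2) (Fin 2) (ZMod 5)) = _
      rw [hA]
      ext i j; fin_cases i <;> fin_cases j <;> simp [toMat, gs] <;> decide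
    | 1 =>
      change (B : Matrix (Fin 2) (Fin 2) (ZMod 5)) = _
      rw [hB]
      ext i j; fin_cases i <;> fin_cases j <;> simp [toMat, gs] <;> decide
    | 2 =>
      change (C : Matrix (Fin 2) (Fin 2) (ZMod 5)) = _
      rw [hC]
      ext i j; fin_cases i <;> fin_cases j <;> simp [toMat, gs] <;> decide
    | (n + 3) =>
      simp [gs, toMat_one]
  have hset : ({A, B, C} : Set (Matrix.GeneralLinearGroup (Fin 2) (ZMod 5))) =
      {g | g ∈ [A, B, C]} := by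
    ext g; simp
  rw [hset]
  have hcard := card_closure [A, B, C] gs hc Kl words hW hK1 hK2 hK3 hK4
  have hmem := mem_list [A, B, C] gs hc Kl hK1 hK2
  have hfree := free_of_chk (Subgroup.closure {g | g ∈ [A, B, C]}) (· ∈ Kl)
    (fun h hh => by obtain ⟨s, hs, e⟩ := hmem h hh; exact ⟨s, hs, e⟩) hK5
  exact ⟨by rw [hcard]; rfl, regular_of_free _ hfree (by rw [hcard]; rfl)⟩

end Cfsg.Agent.S0691
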