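import Cfsg.Statements.S0693
import Mathlib
import Cfsg.Agent.Lib.Helper4.MatList

set_option autoImplicit false

open Cfsg

namespace Cfsg.Agent.S0693

open Cfsg.Agent.Lib.Helper4.MatList

def gs : List T4 := [(0, 58, 1, 0), (9, 15, 49, 49)]

def words : List (List ℕ) :=
  [[], [0], [1], [0, 0], [1, 0], [0, 1], [1, 1], [0, 0, 0], [1, 0, 0], [0, 1, 0], [1, 1, 0], [1, 0, 1], [0, 1, 1], [1, 0, 0, 0], [0, 1, 0, 0], [1, 1, 0, 0], [1, 0, 1, 0], [0, 1, 1, 0], [0, 1, 0, 1], [1, 1, 0, 1], [1, 0, 1, 1], [0, 1, 0, 0, 0], [1, 1, 0, 0, 0], [1, 0, 1, 0, 0], [0, 1, 1, 0, 0], [0, 1, 0, 1, 0], [1, 1, 0, 1, 0], [1, 0, 1, 1, 0], [1, 0, 1, 0, 1], [0, 1, 1, 0, 1], [0, 1, 0, 1, 1], [1, 1, 0, 1, 1], [1, 0, 1, 0, 0, 0], [0, 1, 1, 0, 0, 0], [0, 1, 0, 1, 0, 0], [1, 1, 0, 1, 0, 0], [1, 0, 1, 1, 0, 0], [1, 0, 1, 0, 1, 0], [0, 1, 1, 0, 1, 0],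 [0, 1, 0, 1, 1, 0], [1, 1, 0, 1, 1, 0], [1, 1, 0, 1, 0, 1], [1, 0, 1, 1, 0, 1], [1, 0, 1, 0, 1, 1], [0, 1, 0, 1, 0, 0, 0], [1, 1, 0, 1, 0, 0, 0], [1, 0, 1, 1, 0, 0, 0], [1, 0, 1, 0, 1, 0, 0], [0, 1, 1, 0, 1, 0, 0], [0, 1, 0, 1, 1, 0, 0], [1, 1, 0, 1, 1, 0, 0], [1, 1, 0, 1, 0, 1, 0], [1, 0, 1, 1, 0, 1, 0], [1, 0, 1, 0, 1, 1, 0], [0, 1, 1, 0, 1, 0, 1], [0, 1, 0, 1, 1, 0, 1], [1, 1, 0, 1, 1, 0, 1], [1, 1, 0, 1, 0, 1, 1], [1, 0, 1, 0, 1, 0, 0, 0], [0, 1, 1, 0, 1, 0, 0, 0], [0, 1, 0, 1, 1, 0, 0, 0], [1, 1, 0, 1, 1, 0, 0, 0], [1, 1, 0, 1, 0, 1, 0, 0], [1, 0, 1, 1, 0, 1, 0, 0], [1, 0, 1, 0, 1, 1, 0, 0], [0, 1, 1, 0, 1, 0, 1, 0], [0, 1, 0, 1, 1, 0, 1, 0], [1, 1, 0, 1, 1, 0, 1, 0], [1, 1, 0, 1, 0, 1, 1, 0], [1, 0, 1, 1, 0, 1, 0, 1], [1, 0, 1, 0, 1, 1, 0, 1], [0, 1, 1, 0, 1, 0, 1, 1], [1, 1, 0, 1, 0, 1, 0, 0, 0], [1, 0, 1,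 1, 0, 1, 0, 0, 0], [1, 0, 1, 0, 1, 1, 0, 0, 0], [0, 1, 1, 0, 1, 0, 1, 0, 0], [0, 1, 0, 1, 1, 0, 1, 0, 0], [1, 1, 0, 1, 1, 0, 1, 0, 0], [1, 1, 0, 1, 0, 1, 1, 0, 0], [1, 0, 1, 1, 0, 1, 0, 1, 0], [1, 0, 1, 0, 1, 1, 0, 1, 0], [0, 1, 1, 0, 1, 0, 1, 1, 0], [0, 1, 0, 1, 1, 0, 1, 0, 1], [1, 1, 0, 1, 1, 0, 1, 0, 1], [1, 1, 0, 1, 0, 1, 1, 0, 1], [1, 0, 1, 1, 0, 1, 0, 1, 1], [0, 1, 1, 0, 1, 0, 1, 0, 0, 0], [0, 1, 0, 1, 1, 0, 1, 0, 0, 0], [1, 1, 0, 1, 1, 0, 1, 0, 0, 0], [1, 1, 0, 1, 0, 1, 1, 0, 0, 0], [1, 0, 1, 1, 0, 1, 0, 1, 0, 0], [1, 0, 1, 0, 1, 1, 0, 1, 0, 0], [0, 1, 1, 0, 1, 0, 1, 1, 0, 0], [0, 1, 0, 1, 1, 0, 1, 0, 1, 0], [1, 1, 0, 1, 1, 0, 1, 0, 1, 0], [1, 1, 0, 1, 0, 1, 1, 0, 1, 0], [1, 0, 1, 1, 0, 1, 0, 1, 1, 0], [1, 0, 1, 0, 1, 1, 0, 1, 0, 1], [0, 1, 1, 0, 1, 0, 1, 1, 0, 1], [0, 1, 0, 1, 1, 0, 1, 0, 1, 1], [1, 0, 1,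 1, 0, 1, 0, 1, 0, 0, 0], [1, 0, 1, 0, 1, 1, 0, 1, 0, 0, 0], [0, 1, 0, 1, 1, 0, 1, 0, 1, 0, 0], [1, 1, 0, 1, 1, 0, 1, 0, 1, 0, 0], [1, 1, 0, 1, 0, 1, 1, 0, 1, 0, 0], [1, 0, 1, 1, 0, 1, 0, 1, 1, 0, 0], [0, 1, 1, 0, 1, 0, 1, 1, 0, 1, 0], [0, 1, 0, 1, 1, 0, 1, 0, 1, 1, 0], [1, 1, 0, 1, 0, 1, 1, 0, 1, 0, 1], [1, 0, 1, 1, 0, 1, 0, 1, 1, 0, 1], [1, 0, 1, 0, 1, 1, 0, 1, 0, 1, 1], [0, 1, 0, 1, 1, 0, 1, 0, 1, 0, 0, 0], [1, 1, 0, 1, 1, 0, 1, 0, 1, 0, 0, 0], [1, 1, 0, 1, 0, 1, 1, 0, 1, 0, 0, 0], [0, 1, 0, 1, 1, 0, 1, 0, 1, 1, 0, 0], [1, 0, 1, 1, 0, 1, 0, 1, 1, 0, 1, 0], [1, 0, 1, 0, 1, 1, 0, 1, 0, 1, 1, 0], [0, 1, 1, 0, 1, 0, 1, 1, 0, 1, 0, 1], [0, 1, 0, 1, 1, 0, 1, 0, 1, 1, 0, 1], [1, 1, 0, 1, 0, 1, 1, 0, 1, 0, 1, 1]]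

def Kl : List T4 :=
  [(1, 0, 0, 1), (0, 58, 1, 0), (9, 15, 49, 49), (58, 0, 0, 58), (15, 50, 49, 10), (10, 10, 9, 15), (49, 44, 10, 9), (0, 1, 58, 0), (50, 44, 10, 10), (10, 49, 15, 50), (44, 10, 9, 49), (48, 20, 46, 45), (49, 50, 49, 44), (44, 9, 10, 49), (49, 49, 50, 44), (10, 15, 49, 50), (20, 11, 45, 13), (50, 10, 44, 10), (13, 14, 48, 20), (1, 29, 4, 58), (55, 48, 23, 4), (49, 10, 44, 9), (15, 49, 50, 10), (11, 39, 13, 14), (10, 9, 10, 15), (14, 46, 20, 11), (29, 58, 58, 55), (48, 4, 4, 36), (11, 13, 39, 14), (55, 1, 1, 29), (36, 55, 55, 48), (14, 20, 46, 11), (39, 48, 14, 46), (9, 49, 15, 49), (46, 45, 11, 39), (58, 30, 55, 1), (4, 11, 36, 55), (13, 48, 14, 20), (1, 4, 29, 58), (55, 23, 48, 4), (20, 45, 11, 13), (35, 32, 31, 25), (38, 31, 30, 54), (28, 35, 34, 32), (45, 13, 39, 48), (30, 1, 1, 4), (11, 55,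 55, 23), (48, 46, 20, 45), (4, 58, 58, 30), (23, 4, 4, 11), (45, 39, 13, 48), (32, 24, 25, 28), (31, 21, 54, 29), (35, 31, 32, 25), (28, 34, 35, 32), (29, 5, 38, 31), (25, 27, 28, 35), (54, 28, 29, 38), (46, 11, 45, 39), (58, 55, 30, 1), (4, 36, 11, 55), (39, 14, 48, 46), (24, 27, 28, 34), (21, 28, 29, 5), (31, 24, 25, 27), (34, 31, 32, 24), (5, 30, 31, 21), (27, 34, 35, 31), (28, 5, 38, 30), (10, 19, 19, 48), (5, 38, 38, 53), (30, 21, 54, 28), (27, 35, 34, 31), (28, 38, 5, 30), (24, 28, 27, 34), (31, 25, 24, 27), (30, 54, 21, 28), (34, 32, 31, 24), (5, 31, 30, 21), (19, 49, 48, 40), (38, 54, 53, 21), (21, 29, 28, 5), (40, 11, 10, 19), (21, 6, 5, 38), (25, 16, 42, 34), (18, 19, 45, 41), (25, 28, 27, 35), (54, 29, 28, 38), (32, 25, 24, 28), (31, 54, 21, 29), (49, 40, 40, 11), (54, 21, 21, 6), (29, 38, 5, 31), (11,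 19, 19, 49), (6, 38, 38, 54), (16, 34, 34, 17), (19, 41, 41, 14), (38, 30, 31, 54), (17, 25, 25, 16), (14, 18, 18, 19), (40, 10, 11, 19), (21, 5, 6, 38), (19, 48, 49, 40), (38, 53, 54, 21), (34, 43, 17, 25), (41, 40, 14, 18), (25, 42, 16, 34), (18, 45, 19, 41), (40, 18, 18, 45), (56, 52, 52, 3), (42, 34, 34, 43), (48, 40, 40, 10), (53, 21, 21, 5), (43, 25, 25, 42), (45, 41, 41, 40), (52, 3, 3, 7), (34, 17, 43, 25), (41, 14, 40, 18), (7, 56, 56, 52), (3, 7, 7, 56)]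


def Zl : List ℕ := [1, 4, 16, 5, 20, 21, 25, 41, 46, 7, 28, 53, 35, 22, 29, 57, 51, 27, 49, 19, 17, 9, 36, 26, 45, 3, 12, 48, 15]

set_option maxRecDepth 100000 in
theorem hW : words.map (evalW 59 gs) = Kl := by decide
set_option maxRecDepth 100000 in
theorem hK1 : one4 ∈ Kl := by decide
set_option maxRecDepth 100000 in
theorem hK2 : ∀ g ∈ gs, ∀ s ∈ Kl, mulT 59 g s ∈ Kl := by decide
set_option maxRecDepth 100000 in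
theorem hK3 : Kl.Nodup := by decide
set_option maxRecDepth 100000 in
theorem hK4 : ∀ s ∈ Kl, red 59 s := by decide
theorem h41 : (4 : ZMod 59) ≠ 1 := by decide
set_option maxRecDepth 100000 in
theorem hZ1 : 1 ∈ Zl := by decide
set_option maxRecDepth 100000 in
theorem hZ2 : ∀ z ∈ Zl, (4 * z) % 59 ∈ Zl := by decide
set_option maxRecDepth 100000 in
theorem hS5 : ∀ z ∈ Zl, ∀ s ∈ Kl, mulT 59 (z, 0, 0, z) s ≠ one4 →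
    chk 59 (mulT 59 (z, 0, 0, z) s) := by decide

/-- An exceptional sharply doubly transitive group of degree 59^2: the listed matrices generate a subgroup of GL(2,59) of order 3480 acting regularly on the non-zero vectors. -/
theorem result (A : Matrix.GeneralLinearGroup (Fin 2) (ZMod 59)) (B : Matrix.GeneralLinearGroup (Fin 2) (ZMod 59)) (C : Matrix.GeneralLinearGroup (Fin 2) (ZMod 59)) (hA : (A : Matrix (Fin 2) (Fin 2) (ZMod 59)) = !![0, -1; 1, 0]) (hB : (B : Matrix (Fin 2) (Fin 2) (ZMod 59)) = !![9, 15; -10, -10]) (hC : (C : Matrix (Fin 2) (Fin 2) (ZMod 59)) = !![4, 0; 0, 4]) : Nat.card (Subgroup.closure ({A, B, C} : Set (Matrix.GeneralLinearGroup (Fin 2) (ZMod 59)))) = 3480 ∧ ∀ v w : Fin 2 → ZMod 59, v ≠ 0 → w ≠ 0 → ∃! h : Subgroup.closure ({A, B, C} : Set (Matrix.GeneralLinearGroup (Fin 2) (ZMod 59))), Matrix.mulVec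 ((h : Matrix.GeneralLinearGroup (Fin 2) (ZMod 59)) : Matrix (Fin 2) (Fin 2) (ZMod 59)) v = w := by
  haveI : Fact (Nat.Prime 59) := ⟨by norm_num⟩
  haveI : Fact (Nat.Prime 29) := ⟨by norm_num⟩
  have hc : Corr [A, B] gs := by
    refine ⟨rfl, ?_⟩
    intro i
    match i with
    | 0 =>
      change (A : Matrix (Fin 2) (Fin 2) (ZMod 59)) = _
      rw [hA]
      ext i j; fin_cases i <;> fin_cases j <;> simp [toMat, gs] <;> decide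
    | 1 =>
      change (B : Matrix (Fin 2) (Fin 2) (ZMod 59)) = _
      rw [hB]
      ext i j; fin_cases i <;> fin_cases j <;> simp [toMat, gs] <;> decide
    | (n + 2) =>
      simp [gs, toMat_one]
  have hCm : (C : Matrix (Fin 2) (Fin 2) (ZMod 59)) = toMat 59 (4, 0, 0, 4) := by
    rw [hC]
    ext i j; fin_cases i <;> fin_cases j <;> simp [toMat]
  have hset : ({A, B, C} : Set (Matrix.GeneralLinearGroup (Fin 2) (ZMod 59))) =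
      {g | g ∈ [A, B]} ∪ {C} := by
    ext g; simp; tauto
  rw [hset]
  have hcardK := card_closure [A, B] gs hc Kl words hW hK1 hK2 hK3 hK4
  have hmem := mem_scaled [A, B] gs hc Kl hK1 hK2 C 4 hCm Zl hZ1 hZ2
  have hfree := free_of_chk (Subgroup.closure ({g | g ∈ [A, B]} ∪ {C}))
    (fun t => ∃ z ∈ Zl, ∃ s ∈ Kl, t = mulT 59 (z, 0, 0, z) s)
    (fun h hh => by obtain ⟨z, hz, s, hs, e⟩ := hmem h hh; exact ⟨_, ⟨z, hz, s, hs, rfl⟩, e⟩)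
    (by rintro t ⟨z, hz, s, hs, rfl⟩ hne; exact hS5 z hz s hs hne)
  have hle := card_le_of_free _ hfree
  have hK_le : Subgroup.closure {g | g ∈ [A, B]} ≤
      Subgroup.closure ({g | g ∈ [A, B]} ∪ {C}) :=
    Subgroup.closure_mono Set.subset_union_left
  have h120 : 120 ∣ Nat.card (Subgroup.closure ({g | g ∈ [A, B]} ∪ {C})) := by
    have := Subgroup.card_dvd_of_le hK_le
    rw [hcardK] at this
    exact this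
  have hCmem : C ∈ Subgroup.closure ({g | g ∈ [A, B]} ∪ {C}) :=
    Subgroup.subset_closure (Or.inr rfl)
  have hordC : orderOf C = 29 := by
    apply orderOf_eq_prime
    · apply Units.ext
      rw [Units.val_pow_eq_pow_val]
      change (C : Matrix (Fin 2) (Fin 2) (ZMod 59)) ^ 29 = 1
      rw [hCm, toMat_scalar, smul_pow, one_pow]
      have : ((4 : ℕ) : ZMod 59) ^ 29 = 1 := by
        rw [← Nat.cast_pow, ← ZMod.natCast_mod]; norm_num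
      rw [this, one_smul]
    · intro h
      have h1 : (C : Matrix (Fin 2) (Fin 2) (ZMod 59)) 0 0 = 1 := by rw [h]; simp
      rw [hC] at h1
      apply h41
      simpa using h1
  have h29 : 29 ∣ Nat.card (Subgroup.closure ({g | g ∈ [A, B]} ∪ {C})) := by
    rw [← hordC]; exact Subgroup.orderOf_dvd_natCard _ hCmem
  have h3480 : 3480 ∣ Nat.card (Subgroup.closure ({g | g ∈ [A, B]} ∪ {C})) :=
    Nat.Coprime.mul_dvd_of_dvd_of_dvd (by norm_num : Nat.Coprime 120 29) h120 h29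
  have hpos : 0 < Nat.card (Subgroup.closure ({g | g ∈ [A, B]} ∪ {C})) := Nat.card_pos
  have hcard : Nat.card (Subgroup.closure ({g | g ∈ [A, B]} ∪ {C})) = 3480 :=
    le_antisymm hle (Nat.le_of_dvd hpos h3480)
  exact ⟨hcard, regular_of_free _ hfree hcard⟩

end Cfsg.Agent.S0693
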