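import Mathlib
import Cfsg.Statements.S0694

set_option autoImplicit false
open Cfsg

namespace Cfsg.Agent.S0694

/-- geometric sum -/
def S (q i : ℕ) : ℕ := ∑ j ∈ Finset.range i, q ^ j

theorem S_zero (q : ℕ) : S q 0 = 0 := by simp [S]

theorem S_succ (q i : ℕ) : S q (i + 1) = q * S q i + 1 := by
  unfold S
  rw [Finset.sum_range_succ', Finset.mul_sum]
  simp [pow_succ, mul_comm]

theorem S_succ' (q i : ℕ) : S q (i + 1) = S q i + q ^ i := by
  unfold S
  rw [Finset.sum_range_succ]

theorem S_add (q i j : ℕ) : S q (i + j) = S q i + q ^ i * S q j := by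
  induction j with
  | zero => simp [S_zero]
  | succ j ih => rw [← add_assoc, S_succ', ih, S_succ', pow_add]; ring

theorem S_eq (q i : ℕ) (hq : 1 ≤ q) : (q - 1) * S q i + 1 = q ^ i := by
  obtain ⟨t, rfl⟩ : ∃ t, q = t + 1 := ⟨q - 1, by omega⟩
  induction i with
  | zero => simp [S_zero]
  | succ i ih =>
    rw [S_succ, pow_succ, ← ih]
    simp only [Nat.add_sub_cancel]
    ring

theorem pow_sub_one_eq (q i : ℕ) (hq : 1 ≤ q) : q ^ i - 1 = S q i * (q - 1) := by
  have := S_eq q i hq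
  rw [← this]
  simp [mul_comm]

theorem modEq_iff (q n i : ℕ) (hq : 2 ≤ q) : q ^ i ≡ 1 [MOD n * (q - 1)] ↔ n ∣ S q i := by
  have h1 : 1 ≤ q ^ i := Nat.one_le_pow _ _ (by omega)
  rw [Nat.ModEq.comm, Nat.modEq_iff_dvd' h1, pow_sub_one_eq q i (by omega)]
  exact Nat.mul_dvd_mul_iff_right (by omega)

theorem backward (q n : ℕ) (hq : 2 ≤ q) (hn : 1 < n) (h1 : n ∣ S q n)
    (h2 : ∀ i, 0 < i → i < n → ¬ n ∣ S q i) :
    (∀ r : ℕ, r.Prime → r ∣ n → r ∣ q - 1) ∧ (4 ∣ n → 4 ∣ q - 1) := by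
  have hcop : Nat.Coprime q n := by
    apply Nat.coprime_of_dvd
    intro k hk hkq hkn
    have h3 : k ∣ S q n := hkn.trans h1
    obtain ⟨m, rfl⟩ : ∃ m, n = m + 1 := ⟨n - 1, by omega⟩
    rw [S_succ] at h3
    have h4 : k ∣ q * S q m := Dvd.dvd.mul_right hkq _
    have h5 : k ∣ 1 := (Nat.dvd_add_right h4).mp h3
    exact hk.one_lt.ne' (Nat.dvd_one.mp h5)
  have hinj : ∀ i j, i < j → j < n → ¬ S q i ≡ S q j [MOD n] := by
    intro i j hij hjn hmod
    obtain ⟨d, rfl⟩ : ∃ d, j = i + d := ⟨j - i, by omega⟩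
    rw [S_add] at hmod
    have h3 := (Nat.modEq_iff_dvd' (Nat.le_add_right _ _)).mp hmod
    rw [Nat.add_sub_cancel_left] at h3
    have h4 : Nat.Coprime n (q ^ i) := (hcop.pow_left i).symm
    exact h2 d (by omega) (by omega) (h4.dvd_of_dvd_mul_left h3)
  have : NeZero n := ⟨by omega⟩
  have hsurj : ∀ y : ℕ, ∃ i, i < n ∧ S q i ≡ y [MOD n] := by
    intro y
    let f : Fin n → ZMod n := fun i => (S q i : ZMod n)
    have hf : Function.Injective f := by
      intro i j hij
      have hij' : S q i ≡ S q j [MOD n] := (ZMod.natCast_eq_natCast_iff _ _ _).mp hij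
      rcases lt_trichotomy i.1 j.1 with h | h | h
      · exact absurd hij' (hinj _ _ h j.2)
      · exact Fin.ext h
      · exact absurd hij'.symm (hinj _ _ h i.2)
    have hbij : Function.Bijective f := by
      rw [Fintype.bijective_iff_injective_and_card]
      exact ⟨hf, by simp [ZMod.card]⟩
    obtain ⟨i, hi⟩ := hbij.2 (y : ZMod n)
    exact ⟨i.1, i.2, (ZMod.natCast_eq_natCast_iff _ _ _).mp hi⟩
  have hprime : ∀ r : ℕ, r.Prime → r ∣ n → r ∣ q - 1 := by
    intro r hr hrn
    by_contra hrq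
    have : Fact r.Prime := ⟨hr⟩
    set a : ZMod r := ((q - 1 : ℕ) : ZMod r) with ha
    have ha0 : a ≠ 0 := by
      rw [ha, Ne, ZMod.natCast_eq_zero_iff]
      exact hrq
    have hqa : (q : ZMod r) = a + 1 := by
      rw [ha]
      have : q = (q - 1) + 1 := by omega
      conv_lhs => rw [this]
      push_cast
      rfl
    set x₀ : ZMod r := -a⁻¹ with hx₀
    have hfix : (q : ZMod r) * x₀ + 1 = x₀ := by
      rw [hqa, hx₀]
      have : a * a⁻¹ = 1 := mul_inv_cancel₀ ha0
      linear_combination (-1 : ZMod r) * this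
    obtain ⟨i, hin, hi⟩ := hsurj x₀.val
    have hi' : (S q i : ZMod r) = x₀ := by
      have h3 : S q i ≡ x₀.val [MOD r] := hi.of_dvd hrn
      have h4 := (ZMod.natCast_eq_natCast_iff _ _ _).mpr h3
      rw [h4, ZMod.natCast_zmod_val]
    have hall : ∀ k, (S q (i + k) : ZMod r) = x₀ := by
      intro k
      induction k with
      | zero => simpa using hi'
      | succ k ih =>
        rw [← add_assoc, S_succ]
        push_cast
        rw [ih, hfix]
    have h5 := hall (n - i)
    rw [Nat.add_sub_cancel' hin.le] at h5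
    have h6 : (S q n : ZMod r) = 0 := (ZMod.natCast_eq_zero_iff _ _).mpr (hrn.trans h1)
    rw [h6] at h5
    have : a⁻¹ = 0 := by
      rw [hx₀] at h5
      exact neg_eq_zero.mp h5.symm
    exact ha0 (inv_eq_zero.mp this)
  refine ⟨hprime, ?_⟩
  intro h4n
  have h2n : 2 ∣ n := (by decide : 2 ∣ 4).trans h4n
  have h2q := hprime 2 Nat.prime_two h2n
  by_contra h4q
  have hq4 : q % 4 = 3 := by omega
  have hall : ∀ i, S q i % 4 = 0 ∨ S q i % 4 = 1 := by
    intro i
    induction i with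
    | zero => left; simp [S_zero]
    | succ i ih =>
      rw [S_succ]
      have h3 : (q * S q i + 1) % 4 = ((q % 4) * (S q i % 4) + 1) % 4 := by
        simp [Nat.add_mod, Nat.mul_mod]
      rw [h3, hq4]
      rcases ih with h | h <;> rw [h] <;> simp
  obtain ⟨i, -, hi⟩ := hsurj 2
  have h3 : S q i ≡ 2 [MOD 4] := hi.of_dvd h4n
  have h4 : S q i % 4 = 2 := h3
  rcases hall i with h | h <;> omega

theorem S_mod_two (q : ℕ) (hq : q % 2 = 1) (i : ℕ) : S q i % 2 = i % 2 := by
  induction i with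
  | zero => simp [S_zero]
  | succ i ih =>
    rw [S_succ]
    have h3 : (q * S q i + 1) % 2 = ((q % 2) * (S q i % 2) + 1) % 2 := by
      simp [Nat.add_mod, Nat.mul_mod]
    rw [h3, hq, ih]
    omega

theorem val_odd (q r i : ℕ) (hq : 2 ≤ q) [Fact r.Prime] (hr : Odd r) (hrq : r ∣ q - 1) (hi : i ≠ 0) :
    padicValNat r (q ^ i - 1) = padicValNat r (q - 1) + padicValNat r i := by
  have hrp : r.Prime := Fact.out
  have hx : ¬ r ∣ q := by
    intro h
    have : r ∣ 1 := by
      have h3 : q = (q - 1) + 1 := by omega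
      rw [h3] at h
      exact (Nat.dvd_add_right hrq).mp h
    exact hrp.one_lt.ne' (Nat.dvd_one.mp this)
  have := padicValNat.pow_sub_pow (p := r) hr (x := q) (y := 1) (by omega) hrq hx hi
  simpa using this

theorem val_two_even (q i : ℕ) (hq : 2 ≤ q) (hq2 : q % 2 = 1) (hi : i ≠ 0) (hie : Even i) :
    padicValNat 2 (q ^ i - 1) + 1 = padicValNat 2 (q + 1) + padicValNat 2 (q - 1) + padicValNat 2 i :=
  padicValNat.pow_two_sub_one (by omega) (by omega) hi hie

theorem val_two_odd (q i : ℕ) (hq : 2 ≤ q) (hq2 : q % 2 = 1) (hio : i % 2 = 1) :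
    padicValNat 2 (q ^ i - 1) = padicValNat 2 (q - 1) := by
  rw [pow_sub_one_eq q i (by omega)]
  have h1 : S q i ≠ 0 := by
    have := S_mod_two q hq2 i
    omega
  have h2 : q - 1 ≠ 0 := by omega
  rw [padicValNat.mul h1 h2]
  have : padicValNat 2 (S q i) = 0 := by
    apply padicValNat.eq_zero_of_not_dvd
    have := S_mod_two q hq2 i
    omega
  omega

theorem val_mono (r a b : ℕ) [Fact r.Prime] (hb : b ≠ 0) (hab : a ∣ b) : padicValNat r a ≤ padicValNat r b := by
  have ha : a ≠ 0 := by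
    rintro rfl
    exact hb (zero_dvd_iff.mp hab)
  have hrp : r.Prime := Fact.out
  have := (Nat.factorization_le_iff_dvd ha hb).mpr hab r
  rwa [Nat.factorization_def _ hrp, Nat.factorization_def _ hrp] at this

theorem forward (q n : ℕ) (hq : 2 ≤ q) (hn : 1 < n) (hD1 : ∀ r : ℕ, r.Prime → r ∣ n → r ∣ q - 1)
    (hD2 : 4 ∣ n → 4 ∣ q - 1) :
    n * (q - 1) ∣ q ^ n - 1 ∧ ∀ i, 0 < i → i < n → ¬ n * (q - 1) ∣ q ^ i - 1 := by
  have hq1 : q - 1 ≠ 0 := by omega
  have hn0 : n ≠ 0 := by omega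
  have hpow : ∀ i, 0 < i → q ^ i - 1 ≠ 0 := by
    intro i hi
    have : 2 ^ i ≤ q ^ i := Nat.pow_le_pow_left hq i
    have : 2 ≤ 2 ^ i := by
      calc 2 = 2 ^ 1 := by norm_num
        _ ≤ 2 ^ i := Nat.pow_le_pow_right (by norm_num) hi
    omega
  constructor
  · apply (Nat.factorization_prime_le_iff_dvd (Nat.mul_ne_zero hn0 hq1) (hpow n (by omega))).mp
    intro r hr
    have : Fact r.Prime := ⟨hr⟩
    rw [Nat.factorization_def _ hr, Nat.factorization_def _ hr, padicValNat.mul hn0 hq1]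
    by_cases hrn : r ∣ n
    · have hrq := hD1 r hr hrn
      rcases hr.eq_two_or_odd' with h2 | hodd
      · subst h2
        have hq2 : q % 2 = 1 := by omega
        have hne : Even n := (even_iff_two_dvd).mpr hrn
        have h3 := val_two_even q n hq hq2 hn0 hne
        have h4 : 1 ≤ padicValNat 2 (q + 1) := one_le_padicValNat_of_dvd (by omega) (by omega)
        omega
      · rw [val_odd q r n hq hodd hrq hn0]
        omega
    · rw [padicValNat.eq_zero_of_not_dvd hrn, zero_add]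
      apply val_mono r _ _ (hpow n (by omega))
      rw [pow_sub_one_eq q n (by omega)]
      exact Dvd.intro_left _ rfl
  · intro i hi0 hin hdvd
    have hi0' : i ≠ 0 := by omega
    have hni : ¬ n ∣ i := fun h => absurd (Nat.le_of_dvd hi0 h) (by omega)
    have hex : ∃ r : ℕ, r.Prime ∧ padicValNat r i < padicValNat r n := by
      by_contra hcon
      apply hni
      apply (Nat.factorization_prime_le_iff_dvd hn0 hi0').mp
      intro r hr
      rw [Nat.factorization_def _ hr, Nat.factorization_def _ hr]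
      by_contra hlt
      exact hcon ⟨r, hr, by omega⟩
    obtain ⟨r, hr, hlt⟩ := hex
    have : Fact r.Prime := ⟨hr⟩
    have hrn : r ∣ n := dvd_of_one_le_padicValNat (by omega)
    have hrq := hD1 r hr hrn
    have hle := val_mono r _ _ (hpow i hi0) hdvd
    rw [padicValNat.mul hn0 hq1] at hle
    rcases hr.eq_two_or_odd' with h2 | hodd
    · subst h2
      have hq2 : q % 2 = 1 := by omega
      rcases Nat.mod_two_eq_zero_or_one i with hie | hio
      · have hie' : Even i := Nat.even_iff.mpr hie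
        have h3 := val_two_even q i hq hq2 hi0' hie'
        have h4 : 1 ≤ padicValNat 2 i := one_le_padicValNat_of_dvd hi0' (by omega)
        have h5 : 2 ^ 2 ∣ n := (padicValNat_dvd_iff_le hn0).mpr (by omega)
        have h6 : 4 ∣ q - 1 := hD2 (by simpa using h5)
        have h7 : padicValNat 2 (q + 1) = 1 := by
          have h8 : 1 ≤ padicValNat 2 (q + 1) := one_le_padicValNat_of_dvd (by omega) (by omega)
          have h9 : ¬ 2 ^ 2 ∣ q + 1 := by
            norm_num
            omega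
          have h10 : ¬ 2 ≤ padicValNat 2 (q + 1) := fun h => h9 ((padicValNat_dvd_iff_le (by omega)).mpr h)
          omega
        omega
      · have h3 := val_two_odd q i hq hq2 hio
        omega
    · have h3 := val_odd q r i hq hodd hrq hi0'
      omega

/-- The Dickson pair condition: for a prime power `q` and `n > 1`, (every prime factor of `n` divides `q - 1`, and `4 ∣ n → 4 ∣ q - 1`) holds exactly when `q ^ n ≡ 1` modulo `n * (q - 1)` but `q ^ i` is not, for `0 < i < n`. -/
theorem result (q n : ℕ) (hq : IsPrimePow q) (hn : 1 < n) : ((∀ r : ℕ, r.Prime → r ∣ n → r ∣ q - 1) ∧ (4 ∣ n → 4 ∣ q - 1)) ↔ (q ^ n ≡ 1 [MOD n * (q - 1)] ∧ ∀ i : ℕ, 0 < i → i < n → ¬ q ^ i ≡ 1 [MOD n * (q - 1)]) := by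
  have hq2 : 2 ≤ q := hq.two_le
  constructor
  · rintro ⟨hD1, hD2⟩
    obtain ⟨h1, h2⟩ := forward q n hq2 hn hD1 hD2
    have hconv : ∀ i, q ^ i ≡ 1 [MOD n * (q - 1)] ↔ n * (q - 1) ∣ q ^ i - 1 := by
      intro i
      have h1 : 1 ≤ q ^ i := Nat.one_le_pow _ _ (by omega)
      rw [Nat.ModEq.comm, Nat.modEq_iff_dvd' h1]
    refine ⟨(hconv n).mpr h1, ?_⟩
    intro i hi hin hmod
    exact h2 i hi hin ((hconv i).mp hmod)
  · rintro ⟨h1, h2⟩
    apply backward q n hq2 hn ((modEq_iff q n n hq2).mp h1)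
    intro i hi hin hdvd
    exact h2 i hi hin ((modEq_iff q n i hq2).mpr hdvd)

end Cfsg.Agent.S0694
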