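import Cfsg.Statements.S0696
import Mathlib
import Cfsg.Agent.S0695

set_option autoImplicit false
open Cfsg

namespace Cfsg.Agent.S0696

open MulAction SubMulAction
open scoped Pointwise
open Cfsg.Agent.S0695 (free_of_stabilizer)

/-- A triply primitive group of degree at least 3 having a regular normal subgroup has degree 3 or 4. -/
theorem result {G : Type*} [Group G] {X : Type*} [Fintype X] [MulAction G X] (hX : 3 ≤ Fintype.card X) (h3 : MulAction.IsMultiplyPreprimitive G X 3) (N : Subgroup G) [N.Normal] (htrans : MulAction.IsPretransitive N X) (hreg : ∀ x : X, MulAction.stabilizer N x = ⊥) : Fintype.card X = 3 ∨ Fintype.card X = 4 := by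
  classical
  have hcard : ((3 : ℕ) : ENat) ≤ ENat.card X := by
    rw [ENat.card_eq_coe_fintype_card]
    exact_mod_cast hX
  have h2 : MulAction.IsMultiplyPreprimitive G X 2 :=
    isMultiplyPreprimitive_of_le G X h3 (by norm_num) hcard
  rcases Cfsg.Agent.S0695.result (by omega) h2 N htrans hreg with h | ⟨_, hsq, _⟩
  · exact Or.inl h
  right
  have hN : N.Normal := inferInstance
  have hne : Nonempty X := by
    rw [← Fintype.card_pos_iff]; omega
  obtain ⟨x⟩ := hne
  -- a second and a third point
  obtain ⟨y, hyx⟩ : ∃ y : X, y ≠ x := by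
    by_contra hcon
    push Not at hcon
    have : Fintype.card X ≤ 1 := Fintype.card_le_one_iff.mpr (fun a b => by rw [hcon a, hcon b])
    omega
  obtain ⟨z, hzx, hzy⟩ : ∃ z : X, z ≠ x ∧ z ≠ y := by
    by_contra hcon
    push Not at hcon
    have hsub : (Finset.univ : Finset X) ⊆ {x, y} := by
      intro a _
      by_cases ha : a = x
      · simp [ha]
      · simp [hcon a ha]
    have := Finset.card_le_card hsub
    rw [Finset.card_univ] at this
    have h4 : ({x, y} : Finset X).card ≤ 2 := Finset.card_le_two
    omega
  obtain ⟨⟨n, hn⟩, hny⟩ := MulAction.exists_smul_eq N x y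
  obtain ⟨⟨m, hm⟩, hmz⟩ := MulAction.exists_smul_eq N x z
  have hny' : n • x = y := hny
  have hmz' : m • x = z := hmz
  have hnn : n * n = 1 := by rw [← pow_two]; exact hsq n hn
  have hmn : m * n ∈ N := N.mul_mem hm hn
  set w := (m * n) • x with hw
  -- distinctness
  have hn1 : n ≠ 1 := by
    rintro rfl
    rw [one_smul] at hny'
    exact hyx hny'.symm
  have hm1 : m ≠ 1 := by
    rintro rfl
    rw [one_smul] at hmz'
    exact hzx hmz'.symm
  have hmnn : m ≠ n := by
    rintro rfl
    exact hzy (hmz'.symm.trans hny')
  have hwx : w ≠ x := by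
    intro h
    have := free_of_stabilizer N hreg hmn N.one_mem x (by rw [one_smul]; exact h)
    apply hmnn
    calc m = m * (n * n) := by rw [hnn, mul_one]
      _ = (m * n) * n := by rw [mul_assoc]
      _ = n := by rw [this, one_mul]
  have hwy : w ≠ y := by
    intro h
    have := free_of_stabilizer N hreg hmn hn x (h.trans hny'.symm)
    apply hm1
    exact mul_eq_right.mp this
  have hwz : w ≠ z := by
    intro h
    have := free_of_stabilizer N hreg hmn hm x (h.trans hmz'.symm)
    apply hn1
    exact mul_eq_left.mp this
  -- the primitive action of the two point stabiliser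
  have hxy : ({x, y} : Set X).encard + 1 = ((3 : ℕ) : ENat) := by
    rw [Set.encard_pair hyx.symm]; norm_num
  have hprim : IsPreprimitive (fixingSubgroup G ({x, y} : Set X))
      (ofFixingSubgroup G ({x, y} : Set X)) :=
    h3.isPreprimitive_ofFixingSubgroup hxy
  set B' : Set X := {z, w} with hB'
  have hconj : ∀ g : fixingSubgroup G ({x, y} : Set X), ∀ k : G,
      g • (k • x) = ((g : G) * k * (g : G)⁻¹) • x := by
    intro g k
    have hgx : (g : G) • x = x := (mem_fixingSubgroup_iff G).mp g.2 x (by simp)
    show (g : G) • (k • x) = _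
    rw [mul_smul, mul_smul, inv_smul_eq_iff.mpr hgx.symm]
  have hgn : ∀ g : fixingSubgroup G ({x, y} : Set X), (g : G) * n * (g : G)⁻¹ = n := by
    intro g
    have hgy : (g : G) • y = y := (mem_fixingSubgroup_iff G).mp g.2 y (by simp)
    have h1 := hconj g n
    rw [hny'] at h1
    have h2 : ((g : G) * n * (g : G)⁻¹) • x = n • x := by
      rw [← h1, hny']; exact hgy
    exact free_of_stabilizer N hreg (hN.conj_mem n hn g) hn x h2
  have hblock' : IsBlock (fixingSubgroup G ({x, y} : Set X)) B' := by
    rw [isBlock_iff_smul_eq_of_mem]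
    intro g a ha hga
    set m' := (g : G) * m * (g : G)⁻¹ with hm'
    have hm'N : m' ∈ N := hN.conj_mem m hm g
    have hm'n : m' * n ∈ N := N.mul_mem hm'N hn
    have hgz : g • z = m' • x := by rw [← hmz']; exact hconj g m
    have hgw : g • w = (m' * n) • x := by
      rw [hw, hconj g (m * n), hm']
      congr 1
      have := hgn g
      calc (g : G) * (m * n) * (g : G)⁻¹
          = ((g : G) * m * (g : G)⁻¹) * ((g : G) * n * (g : G)⁻¹) := by group
        _ = (g : G) * m * (g : G)⁻¹ * n := by rw [this]
    have hgB : g • B' = {m' • x, (m' * n) • x} := by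
      rw [hB', Set.smul_set_insert, Set.smul_set_singleton, hgz, hgw]
    have hcases : m' = m ∨ m' = m * n := by
      rcases ha with rfl | ha
      · rw [hgz] at hga
        rcases hga with h | h
        · exact Or.inl (free_of_stabilizer N hreg hm'N hm x (h.trans hmz'.symm))
        · exact Or.inr (free_of_stabilizer N hreg hm'N hmn x h)
      · rw [Set.mem_singleton_iff] at ha
        subst ha
        rw [hgw] at hga
        rcases hga with h | h
        · have := free_of_stabilizer N hreg hm'n hm x (h.trans hmz'.symm)
          right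
          have h5 : m' * n * n = m * n := by rw [this]
          rwa [mul_assoc, hnn, mul_one] at h5
        · have := free_of_stabilizer N hreg hm'n hmn x h
          left
          exact mul_right_cancel this
    rw [hgB]
    rcases hcases with h | h
    · rw [h, hmz']
    · rw [h, mul_assoc, hnn, mul_one, hmz', Set.pair_comm]
  have hzS : z ∈ ofFixingSubgroup G ({x, y} : Set X) := by
    rw [mem_ofFixingSubgroup_iff]; simp [hzx, hzy]
  have hwS : w ∈ ofFixingSubgroup G ({x, y} : Set X) := by
    rw [mem_ofFixingSubgroup_iff]; simp [hwx, hwy]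
  have hblock := hblock'.subtype_val_preimage (C := ofFixingSubgroup G ({x, y} : Set X))
  rcases hprim.isTrivialBlock_of_isBlock hblock with hsub | huniv
  · exfalso
    have h1 : (⟨z, hzS⟩ : ofFixingSubgroup G ({x, y} : Set X)) ∈ Subtype.val ⁻¹' B' := by
      simp [hB']
    have h2' : (⟨w, hwS⟩ : ofFixingSubgroup G ({x, y} : Set X)) ∈ Subtype.val ⁻¹' B' := by
      simp [hB']
    exact hwz (congrArg Subtype.val (hsub h2' h1))
  · have hall : ∀ a : X, a = x ∨ a = y ∨ a = z ∨ a = w := by
      intro a
      by_cases hax : a = x
      · exact Or.inl hax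
      by_cases hay : a = y
      · exact Or.inr (Or.inl hay)
      right; right
      have haS : a ∈ ofFixingSubgroup G ({x, y} : Set X) := by
        rw [mem_ofFixingSubgroup_iff]; simp [hax, hay]
      have : (⟨a, haS⟩ : ofFixingSubgroup G ({x, y} : Set X)) ∈ Subtype.val ⁻¹' B' := by
        rw [huniv]; trivial
      simpa [hB'] using this
    have huniv' : (Finset.univ : Finset X) = {x, y, z, w} := by
      ext a
      simp only [Finset.mem_univ, Finset.mem_insert, Finset.mem_singleton, true_iff]
      exact hall a
    rw [← Finset.card_univ, huniv']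
    rw [Finset.card_insert_of_notMem, Finset.card_insert_of_notMem, Finset.card_insert_of_notMem,
      Finset.card_singleton]
    · simpa using hwz.symm
    · simp only [Finset.mem_insert, Finset.mem_singleton, not_or]
      exact ⟨hzy.symm, hwy.symm⟩
    · simp only [Finset.mem_insert, Finset.mem_singleton, not_or]
      exact ⟨hyx.symm, hzx.symm, hwx.symm⟩

end Cfsg.Agent.S0696
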