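import Cfsg.Statements.S0697
import Mathlib
import Cfsg.Agent.Lib.Helper4.KPrimNormal

set_option autoImplicit false
open Cfsg
open scoped commutatorElement

namespace Cfsg.Agent.S0697


/-- In a `k`-primitive permutation group which is not the whole symmetric group, a non-trivial non-regular normal subgroup is `k`-transitive. -/
theorem result {α : Type*} [Fintype α] [DecidableEq α] (G : Subgroup (Equiv.Perm α)) {k : ℕ} (hk : 1 ≤ k) (hkn : k ≤ Fintype.card α) (hG : MulAction.IsMultiplyPreprimitive G α k) (htop : G ≠ ⊤) (H : Subgroup G) [H.Normal] (hH : H ≠ ⊥) (hnr : ∃ a : α, MulAction.stabilizer H a ≠ ⊥) : MulAction.IsMultiplyPretransitive H α k := by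
  classical
  obtain ⟨a, ha⟩ := hnr
  obtain ⟨h, hh1⟩ := (Subgroup.ne_bot_iff_exists_ne_one).mp ha
  have hfix : (h : H) • a = a := h.2
  have hh1' : (h : H).1 ≠ 1 := by
    intro e
    apply hh1
    apply Subtype.ext
    apply Subtype.ext
    exact e
  have hfaith : FaithfulSMul G α := inferInstance
  have hne : Nat.card G ≠ (Fintype.card α).factorial := by
    intro e
    apply htop
    apply Subgroup.eq_top_of_card_eq
    rw [e, Nat.card_eq_fintype_card, Fintype.card_perm]
  rcases Nat.lt_or_ge k 2 with hk2 | hk2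
  · have hk1 : k = 1 := by omega
    subst hk1
    have hprim : MulAction.IsPreprimitive G α := (MulAction.is_one_preprimitive_iff G α).mp hG
    have : MulAction.IsPretransitive H α :=
      Cfsg.Agent.Lib.Helper4.StabDescent.isPretransitive_of_normal_of_faithful H
        ⟨(h : H).1, (h : H).2, hh1'⟩
    rw [MulAction.is_one_pretransitive_iff]
    exact this
  · obtain ⟨m, rfl⟩ : ∃ m, k = m + 2 := ⟨k - 2, by omega⟩
    exact Cfsg.Agent.Lib.Helper4.KPrimNormal.main m hkn hG hne H
      ⟨(h : H).1, (h : H).2, hh1', a, hfix⟩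

end Cfsg.Agent.S0697
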