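import Cfsg.Statements.S0699
import Mathlib
import Cfsg.Agent.Lib.Helper4.KPrimNormal
import Cfsg.Agent.Lib.Helper4.Wagner

set_option autoImplicit false
open Cfsg
open scoped commutatorElement

namespace Cfsg.Agent.S0699


/-- Wagner's Theorem: a non-trivial normal subgroup of a triply transitive permutation group of odd degree at least 5 is triply transitive. -/
theorem result {α : Type*} [Fintype α] [DecidableEq α] (G : Subgroup (Equiv.Perm α)) (hodd : Odd (Fintype.card α)) (h5 : 5 ≤ Fintype.card α) (hG : MulAction.IsMultiplyPretransitive G α 3) (N : Subgroup G) [N.Normal] (hN : N ≠ ⊥) : MulAction.IsMultiplyPretransitive N α 3 := by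
  classical
  have hcard3 : ((2 + 1 : ℕ) : ℕ∞) ≤ ENat.card α := by
    rw [ENat.card_eq_coe_fintype_card]
    have : 2 + 1 ≤ Fintype.card α := by omega
    exact_mod_cast this
  have hcard2 : ((2 : ℕ) : ℕ∞) ≤ ENat.card α := by
    rw [ENat.card_eq_coe_fintype_card]
    have : 2 ≤ Fintype.card α := by omega
    exact_mod_cast this
  have h2p : MulAction.IsMultiplyPreprimitive G α 2 :=
    MulAction.isMultiplyPreprimitive_of_isMultiplyPretransitive_succ G α hcard3
  have h1p : MulAction.IsMultiplyPreprimitive G α 1 :=
    MulAction.isMultiplyPreprimitive_of_le G α h2p (by norm_num) hcard2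
  have hprim : MulAction.IsPreprimitive G α := (MulAction.is_one_preprimitive_iff G α).mp h1p
  obtain ⟨h, hhN, hh1⟩ : ∃ h ∈ N, h ≠ 1 := by
    obtain ⟨h, hh1⟩ := (Subgroup.ne_bot_iff_exists_ne_one).mp hN
    exact ⟨h.1, h.2, fun e => hh1 (Subtype.ext e)⟩
  have htr : MulAction.IsPretransitive N α :=
    Cfsg.Agent.Lib.Helper4.StabDescent.isPretransitive_of_normal_of_faithful N ⟨h, hhN, hh1⟩
  have h2 : MulAction.IsMultiplyPretransitive N α 2 := by
    by_cases hfix : ∃ h ∈ N, h ≠ 1 ∧ ∃ a : α, h • a = a
    · exact Cfsg.Agent.Lib.Helper4.KPrimNormal.two_case (by omega) h2p N hfix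
    · exfalso
      push Not at hfix
      have hreg : ∀ x : α, MulAction.stabilizer N x = ⊥ := by
        intro x
        rw [eq_bot_iff]
        intro g hg
        rw [Subgroup.mem_bot]
        by_contra hg1
        exact hfix g.1 g.2 (fun e => hg1 (Subtype.ext e)) x hg
      have key := Cfsg.Agent.S0695.result (G := G) (X := α) (by omega) h2p N htr hreg
      rcases key with key | ⟨-, -, m, hm⟩
      · omega
      · rcases m with _ | m
        · simp at hm; omega
        · rw [hm, pow_succ] at hodd
          exact (Nat.not_even_iff_odd.mpr hodd) (even_two.mul_left _)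
  exact Cfsg.Agent.Lib.Helper4.Wagner.three_of_two hodd hG N h2

end Cfsg.Agent.S0699
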