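import Cfsg.Statements.S0701

set_option autoImplicit false
open Cfsg

namespace Cfsg.Agent.S0701

variable {α : Type*}

/-- in a regular transitive group, the element moving `a` to `x` -/
noncomputable def mover (G : Subgroup (Equiv.Perm α)) [MulAction.IsPretransitive G α] (a x : α) : G :=
  Classical.choose (MulAction.exists_smul_eq G a x)

theorem mover_spec (G : Subgroup (Equiv.Perm α)) [MulAction.IsPretransitive G α] (a x : α) :
    (mover G a x : Equiv.Perm α) a = x :=
  Classical.choose_spec (MulAction.exists_smul_eq G a x)

theorem eq_of_apply_eq (G : Subgroup (Equiv.Perm α))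
    (hreg : ∀ a : α, MulAction.stabilizer G a = ⊥) (a : α) (g h : G)
    (hgh : (g : Equiv.Perm α) a = (h : Equiv.Perm α) a) : g = h := by
  have : h⁻¹ * g ∈ MulAction.stabilizer G a := by
    rw [MulAction.mem_stabilizer_iff]
    show ((h⁻¹ * g : G) : Equiv.Perm α) a = a
    simp [hgh]
  rw [hreg a, Subgroup.mem_bot] at this
  exact (inv_mul_eq_one.mp this).symm

theorem mover_mul (G : Subgroup (Equiv.Perm α)) [MulAction.IsPretransitive G α]
    (hreg : ∀ a : α, MulAction.stabilizer G a = ⊥) (a x : α) (h : G) :
    mover G a ((h : Equiv.Perm α) x) = h * mover G a x := by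
  apply eq_of_apply_eq G hreg a
  rw [mover_spec]
  simp [mover_spec]

/-- the map `g a ↦ g b` -/
noncomputable def phi (G : Subgroup (Equiv.Perm α)) [MulAction.IsPretransitive G α] (a b : α) : α → α :=
  fun x => (mover G a x : Equiv.Perm α) b

theorem phi_comm (G : Subgroup (Equiv.Perm α)) [MulAction.IsPretransitive G α]
    (hreg : ∀ a : α, MulAction.stabilizer G a = ⊥) (a b x : α) (h : G) :
    phi G a b ((h : Equiv.Perm α) x) = (h : Equiv.Perm α) (phi G a b x) := by
  simp [phi, mover_mul G hreg]

theorem phi_self (G : Subgroup (Equiv.Perm α)) [MulAction.IsPretransitive G α]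
    (hreg : ∀ a : α, MulAction.stabilizer G a = ⊥) (a b : α) : phi G a b a = b := by
  have : mover G a a = 1 := by
    apply eq_of_apply_eq G hreg a
    rw [mover_spec]; simp
  simp [phi, this]

theorem phi_phi (G : Subgroup (Equiv.Perm α)) [MulAction.IsPretransitive G α]
    (hreg : ∀ a : α, MulAction.stabilizer G a = ⊥) (a b x : α) : phi G b a (phi G a b x) = x := by
  have h1 : phi G a b x = (mover G a x : Equiv.Perm α) b := rfl
  rw [h1, phi_comm G hreg, phi_self G hreg, mover_spec]

/-- The centraliser in the full symmetric group of a transitive permutation group `G` is semiregular, and it is transitive if and only if `G` is regular. -/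
theorem result {α : Type*} (G : Subgroup (Equiv.Perm α)) [MulAction.IsPretransitive G α] : (∀ c ∈ Subgroup.centralizer (G : Set (Equiv.Perm α)), ∀ a : α, c a = a → c = 1) ∧ (MulAction.IsPretransitive (Subgroup.centralizer (G : Set (Equiv.Perm α))) α ↔ ∀ a : α, MulAction.stabilizer G a = ⊥) := by
  refine ⟨?_, ?_, ?_⟩
  · intro c hc a hca
    ext b
    obtain ⟨g, hg⟩ := MulAction.exists_smul_eq G a b
    have hg' : (g : Equiv.Perm α) a = b := hg
    have hcomm := (Subgroup.mem_centralizer_iff.mp hc) g g.2
    have := congrArg (fun σ : Equiv.Perm α => σ a) hcomm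
    simp only [Equiv.Perm.coe_mul, Function.comp_apply] at this
    rw [hca, hg'] at this
    simpa using this.symm
  · intro htrans a
    rw [eq_bot_iff]
    intro g hg
    rw [MulAction.mem_stabilizer_iff] at hg
    have hg' : (g : Equiv.Perm α) a = a := hg
    rw [Subgroup.mem_bot]
    apply Subtype.ext
    ext b
    obtain ⟨c, hc⟩ := MulAction.exists_smul_eq (Subgroup.centralizer (G : Set (Equiv.Perm α))) a b
    have hc' : (c : Equiv.Perm α) a = b := hc
    have hcomm := (Subgroup.mem_centralizer_iff.mp c.2) g g.2
    have := congrArg (fun σ : Equiv.Perm α => σ a) hcomm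
    simp only [Equiv.Perm.coe_mul, Function.comp_apply] at this
    rw [hg', hc'] at this
    simpa using this
  · intro hreg
    refine ⟨fun a b => ?_⟩
    let c : Equiv.Perm α :=
      { toFun := phi G a b
        invFun := phi G b a
        left_inv := phi_phi G hreg a b
        right_inv := phi_phi G hreg b a }
    have hc : c ∈ Subgroup.centralizer (G : Set (Equiv.Perm α)) := by
      rw [Subgroup.mem_centralizer_iff]
      intro g hg
      ext x
      simp only [Equiv.Perm.coe_mul, Function.comp_apply]
      exact (phi_comm G hreg a b x ⟨g, hg⟩).symm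
    exact ⟨⟨c, hc⟩, phi_self G hreg a b⟩

end Cfsg.Agent.S0701
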