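import Cfsg.Statements.S0702
import Mathlib

set_option autoImplicit false
set_option linter.unusedSectionVars false
open Cfsg

namespace Cfsg.Agent.S0702

open MulAction

section
variable {α : Type*} (G : Subgroup (Equiv.Perm α)) [MulAction.IsPretransitive G α] (a : α)

/-- a chosen element of `G` moving `a` to `x` -/
noncomputable def rep (x : α) : G := Classical.choose (MulAction.exists_smul_eq G a x)

theorem rep_smul (x : α) : rep G a x • a = x := Classical.choose_spec (MulAction.exists_smul_eq G a x)

/-- the map `g • a ↦ g n⁻¹ • a` -/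
noncomputable def cmap (n : G) (x : α) : α := (rep G a x * n⁻¹) • a

theorem cmap_smul (n : G) (hn : n ∈ Subgroup.normalizer ((MulAction.stabilizer G a : Subgroup G) : Set G))
    (g : G) : cmap G a n (g • a) = (g * n⁻¹) • a := by
  unfold cmap
  set r := rep G a (g • a) with hr
  have hra : r • a = g • a := rep_smul G a (g • a)
  have hh : r⁻¹ * g ∈ MulAction.stabilizer G a := by
    rw [MulAction.mem_stabilizer_iff, mul_smul, ← hra, inv_smul_smul]
  have h2 := (Subgroup.mem_normalizer_iff.mp hn (r⁻¹ * g)).mp hh
  rw [MulAction.mem_stabilizer_iff] at h2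
  have h3 : (r⁻¹ * g * n⁻¹) • a = n⁻¹ • a := by
    have : n⁻¹ • ((n * (r⁻¹ * g) * n⁻¹) • a) = n⁻¹ • a := by rw [h2]
    rw [← mul_smul] at this
    convert this using 2
    group
  have h4 : (g * n⁻¹) • a = r • ((r⁻¹ * g * n⁻¹) • a) := by
    rw [← mul_smul]; congr 1; group
  rw [h4, h3, mul_smul]

theorem cmap_comp (n m : G)
    (hn : n ∈ Subgroup.normalizer ((MulAction.stabilizer G a : Subgroup G) : Set G))
    (hm : m ∈ Subgroup.normalizer ((MulAction.stabilizer G a : Subgroup G) : Set G)) (x : α) :
    cmap G a n (cmap G a m x) = cmap G a (n * m) x := by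
  obtain ⟨g, rfl⟩ := MulAction.exists_smul_eq G a x
  rw [cmap_smul G a m hm, cmap_smul G a n hn, cmap_smul G a (n * m) (mul_mem hn hm),
    mul_inv_rev, mul_assoc]

theorem cmap_one (x : α) : cmap G a 1 x = x := by
  obtain ⟨g, rfl⟩ := MulAction.exists_smul_eq G a x
  rw [cmap_smul G a 1 (one_mem _)]
  simp

/-- the permutation attached to an element of the normalizer -/
noncomputable def cperm
    (n : Subgroup.normalizer ((MulAction.stabilizer G a : Subgroup G) : Set G)) : Equiv.Perm α where
  toFun := cmap G a n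
  invFun := cmap G a (n : G)⁻¹
  left_inv x := by
    rw [cmap_comp G a _ _ (inv_mem n.2) n.2]
    simp [cmap_one]
  right_inv x := by
    rw [cmap_comp G a _ _ n.2 (inv_mem n.2)]
    simp [cmap_one]

theorem cperm_apply (n : Subgroup.normalizer ((MulAction.stabilizer G a : Subgroup G) : Set G))
    (g : G) : cperm G a n (g • a) = (g * (n : G)⁻¹) • a := cmap_smul G a n n.2 g

theorem cperm_mem (n : Subgroup.normalizer ((MulAction.stabilizer G a : Subgroup G) : Set G)) :
    cperm G a n ∈ Subgroup.centralizer (G : Set (Equiv.Perm α)) := by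
  rw [Subgroup.mem_centralizer_iff]
  intro h hh
  ext x
  obtain ⟨g, rfl⟩ := MulAction.exists_smul_eq G a x
  have h1 : h (g • a) = ((⟨h, hh⟩ : G) * g) • a := by rw [mul_smul]; rfl
  rw [Equiv.Perm.mul_apply, Equiv.Perm.mul_apply, cperm_apply, h1, cperm_apply, mul_assoc, mul_smul]
  rfl

/-- the homomorphism from the normalizer to the centralizer -/
noncomputable def chom :
    Subgroup.normalizer ((MulAction.stabilizer G a : Subgroup G) : Set G) →*
      Subgroup.centralizer (G : Set (Equiv.Perm α)) where
  toFun n := ⟨cperm G a n, cperm_mem G a n⟩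
  map_one' := by
    apply Subtype.ext
    ext x
    exact cmap_one G a x
  map_mul' n m := by
    apply Subtype.ext
    ext x
    exact (cmap_comp G a n m n.2 m.2 x).symm

theorem chom_ker : (chom G a).ker = (MulAction.stabilizer G a).subgroupOf
    (Subgroup.normalizer ((MulAction.stabilizer G a : Subgroup G) : Set G)) := by
  ext n
  rw [MonoidHom.mem_ker, Subgroup.mem_subgroupOf, MulAction.mem_stabilizer_iff]
  constructor
  · intro h
    have h1 : cperm G a n ((1 : G) • a) = (1 : G) • a := by
      have := congrArg (fun c : Subgroup.centralizer (G : Set (Equiv.Perm α)) =>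
        (c : Equiv.Perm α) ((1 : G) • a)) h
      exact this
    rw [cperm_apply, one_mul, one_smul] at h1
    exact (inv_smul_eq_iff.mp h1).symm
  · intro h
    apply Subtype.ext
    ext x
    obtain ⟨g, rfl⟩ := MulAction.exists_smul_eq G a x
    show cperm G a n (g • a) = g • a
    rw [cperm_apply, mul_smul, inv_smul_eq_iff.mpr h.symm]

end


theorem mem_normalizer_of_conj_mem {K : Type*} [Group K] (H : Subgroup K) [Finite H] (n : K)
    (h : ∀ k ∈ H, n * k * n⁻¹ ∈ H) : n ∈ Subgroup.normalizer (H : Set K) := by
  rw [Subgroup.mem_normalizer_iff]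
  intro k
  refine ⟨h k, fun hk => ?_⟩
  let f : H → H := fun k => ⟨n * k * n⁻¹, h k k.2⟩
  have hinj : Function.Injective f := by
    intro k₁ k₂ h12
    have : n * k₁ * n⁻¹ = n * k₂ * n⁻¹ := congrArg Subtype.val h12
    apply Subtype.ext
    simpa using this
  obtain ⟨k', hk'⟩ := (Finite.injective_iff_surjective.mp hinj) ⟨n * k * n⁻¹, hk⟩
  have : n * k' * n⁻¹ = n * k * n⁻¹ := congrArg Subtype.val hk'
  have : (k' : K) = k := by simpa using this
  rw [← this]
  exact k'.2

section
variable {α : Type*} [Finite α] (G : Subgroup (Equiv.Perm α)) [MulAction.IsPretransitive G α] (a : α)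

theorem fixed_of_centralizer (c : Equiv.Perm α)
    (hc : c ∈ Subgroup.centralizer (G : Set (Equiv.Perm α))) :
    c a ∈ MulAction.fixedPoints (MulAction.stabilizer G a) α := by
  rintro ⟨h, hh⟩
  rw [MulAction.mem_stabilizer_iff] at hh
  show (h : Equiv.Perm α) (c a) = c a
  have h1 := (Subgroup.mem_centralizer_iff.mp hc) h h.2
  have h2 : (h : Equiv.Perm α) (c a) = ((h : Equiv.Perm α) * c) a := rfl
  rw [h2, h1, Equiv.Perm.mul_apply]
  congr 1

theorem exists_normalizer_of_fixed (x : α)
    (hx : x ∈ MulAction.fixedPoints (MulAction.stabilizer G a) α) :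
    ∃ n : Subgroup.normalizer ((MulAction.stabilizer G a : Subgroup G) : Set G),
      (n : G)⁻¹ • a = x := by
  obtain ⟨g, hg⟩ := MulAction.exists_smul_eq G a x
  have hfin : Finite (MulAction.stabilizer G a) := inferInstance
  refine ⟨⟨g⁻¹, mem_normalizer_of_conj_mem _ _ ?_⟩, by rw [inv_inv]; exact hg⟩
  intro h hh
  rw [MulAction.mem_stabilizer_iff, inv_inv, mul_smul, mul_smul, hg]
  have := hx ⟨h, hh⟩
  have h' : h • x = x := this
  rw [h', ← hg, inv_smul_smul]

theorem chom_surjective : Function.Surjective (chom G a) := by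
  rintro ⟨c, hc⟩
  obtain ⟨n, hn⟩ := exists_normalizer_of_fixed G a (c a) (fixed_of_centralizer G a c hc)
  refine ⟨n, ?_⟩
  apply Subtype.ext
  ext x
  obtain ⟨g, rfl⟩ := MulAction.exists_smul_eq G a x
  show cperm G a n (g • a) = c (g • a)
  rw [cperm_apply, mul_smul, hn]
  have h1 := (Subgroup.mem_centralizer_iff.mp hc) g g.2
  show ((g : Equiv.Perm α) * c) a = (c * (g : Equiv.Perm α)) a
  rw [h1]

end


/-- For a transitive permutation group `G` on a finite set, the centraliser of `G` in the symmetric group is isomorphic to `N_G(G_ω)/G_ω`, and its orbit of `ω` is the set of fixed points of `G_ω`. -/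
theorem result {α : Type*} [Finite α] (G : Subgroup (Equiv.Perm α)) [MulAction.IsPretransitive G α] (a : α) : Nonempty (Subgroup.centralizer (G : Set (Equiv.Perm α)) ≃* Subgroup.normalizer ((MulAction.stabilizer G a : Subgroup G) : Set G) ⧸ (MulAction.stabilizer G a).subgroupOf (Subgroup.normalizer ((MulAction.stabilizer G a : Subgroup G) : Set G))) ∧ MulAction.orbit (Subgroup.centralizer (G : Set (Equiv.Perm α))) a = MulAction.fixedPoints (MulAction.stabilizer G a) α := by
  constructor
  · have e1 := QuotientGroup.quotientKerEquivOfSurjective (chom G a) (chom_surjective G a)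
    have e2 := QuotientGroup.quotientMulEquivOfEq (chom_ker G a)
    exact ⟨(e2.symm.trans e1).symm⟩
  · ext x
    constructor
    · rintro ⟨⟨c, hc⟩, rfl⟩
      exact fixed_of_centralizer G a c hc
    · intro hx
      obtain ⟨n, hn⟩ := exists_normalizer_of_fixed G a x hx
      refine ⟨chom G a n, ?_⟩
      show cperm G a n a = x
      have := cperm_apply G a n 1
      rw [one_smul, one_mul] at this
      rw [this, hn]

end Cfsg.Agent.S0702
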