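import Cfsg.Statements.S0703
import Mathlib

set_option autoImplicit false
open Cfsg

namespace Cfsg.Agent.S0703

open MulAction

/-- An element of the centraliser of a transitive group which fixes a point is trivial. -/
theorem eq_one_of_mem_centralizer_of_fixed {α : Type*} (M' : Subgroup (Equiv.Perm α))
    (htr : ∀ a b : α, ∃ m ∈ M', m a = b) (c : Equiv.Perm α)
    (hc : c ∈ Subgroup.centralizer (M' : Set (Equiv.Perm α))) (a : α) (hca : c a = a) : c = 1 := by
  ext b
  obtain ⟨m, hm, rfl⟩ := htr a b
  have h1 := Subgroup.mem_centralizer_iff.mp hc m hm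
  show c (m a) = m a
  calc c (m a) = (c * m) a := rfl
    _ = (m * c) a := by rw [h1]
    _ = m a := by rw [Equiv.Perm.mul_apply, hca]

/-- An abelian transitive minimal normal subgroup `M` of a permutation group on a finite set is self-centralising in the symmetric group, regular, elementary abelian, and is the unique minimal normal subgroup. -/
theorem result {α : Type*} [Finite α] (G : Subgroup (Equiv.Perm α)) (M : Subgroup G) [M.Normal] (hM : M ≠ ⊥) (hmin : ∀ L : Subgroup G, L.Normal → L ≤ M → L = ⊥ ∨ L = M) (hab : IsMulCommutative M) (htrans : MulAction.IsPretransitive M α) : Subgroup.centralizer ((M.map G.subtype : Subgroup (Equiv.Perm α)) : Set (Equiv.Perm α)) = M.map G.subtype ∧ (∀ a : α, MulAction.stabilizer M a = ⊥) ∧ (∃ p : ℕ, p.Prime ∧ ∀ m ∈ M, m ^ p = 1) ∧ ∀ L : Subgroup G, L.Normal → L ≠ ⊥ → (∀ L' : Subgroup G, L'.Normal → L' ≤ L → L' = ⊥ ∨ L' = L) → L = M := by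
  classical
  set M' : Subgroup (Equiv.Perm α) := M.map G.subtype with hM'
  -- transitivity and commutativity of `M'`
  have htr : ∀ a b : α, ∃ m ∈ M', m a = b := by
    intro a b
    obtain ⟨m, hm⟩ := MulAction.exists_smul_eq M a b
    exact ⟨(m : G), ⟨(m : G), m.2, rfl⟩, hm⟩
  have hcomm : ∀ x ∈ M', ∀ y ∈ M', x * y = y * x := by
    rintro _ ⟨x, hx, rfl⟩ _ ⟨y, hy, rfl⟩
    have := hab.is_comm.comm ⟨x, hx⟩ ⟨y, hy⟩
    have h2 : x * y = y * x := congrArg Subtype.val this
    exact congrArg Subtype.val h2
  have hle : M' ≤ Subgroup.centralizer (M' : Set (Equiv.Perm α)) := by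
    intro x hx
    rw [Subgroup.mem_centralizer_iff]
    intro y hy
    exact hcomm y hy x hx
  have hcen : Subgroup.centralizer (M' : Set (Equiv.Perm α)) = M' := by
    apply le_antisymm _ hle
    intro c hc
    obtain ⟨a⟩ : Nonempty α := by
      by_contra hemp
      rw [not_nonempty_iff] at hemp
      apply hM
      rw [eq_bot_iff]
      intro m _
      rw [Subgroup.mem_bot]
      apply Subtype.ext
      ext x
      exact hemp.elim x
    obtain ⟨m, hm, hma⟩ := htr a (c a)
    have h1 : m⁻¹ * c = 1 := by
      apply eq_one_of_mem_centralizer_of_fixed M' htr _ _ a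
      · rw [Equiv.Perm.mul_apply, ← hma, Equiv.Perm.inv_def, Equiv.symm_apply_apply]
      · exact mul_mem (inv_mem (hle hm)) hc
    have h2 : c = m := by
      rw [inv_mul_eq_one] at h1
      exact h1.symm
    rw [h2]; exact hm
  have hreg : ∀ a : α, MulAction.stabilizer M a = ⊥ := by
    intro a
    rw [eq_bot_iff]
    intro m hm
    rw [MulAction.mem_stabilizer_iff] at hm
    rw [Subgroup.mem_bot]
    have hm' : ((m : G) : Equiv.Perm α) ∈ M' := ⟨(m : G), m.2, rfl⟩
    have := eq_one_of_mem_centralizer_of_fixed M' htr _ (hle hm') a hm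
    apply Subtype.ext
    apply Subtype.ext
    exact this
  refine ⟨hcen, hreg, ?_, ?_⟩
  · -- elementary abelian
    have hfinG : Finite G := inferInstance
    have hntM : Nontrivial M := (Subgroup.nontrivial_iff_ne_bot M).mpr hM
    have hcardM : 1 < Nat.card M := Finite.one_lt_card
    obtain ⟨p, hp, hpdvd⟩ := Nat.exists_prime_and_dvd (Nat.ne_of_gt hcardM)
    have : Fact p.Prime := ⟨hp⟩
    refine ⟨p, hp, ?_⟩
    let L : Subgroup G :=
      { carrier := {m | m ∈ M ∧ m ^ p = 1}
        one_mem' := ⟨M.one_mem, one_pow p⟩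
        mul_mem' := by
          rintro x y ⟨hx, hxp⟩ ⟨hy, hyp⟩
          refine ⟨M.mul_mem hx hy, ?_⟩
          have hc : Commute x y := by
            have := hab.is_comm.comm ⟨x, hx⟩ ⟨y, hy⟩
            exact congrArg Subtype.val this
          rw [hc.mul_pow, hxp, hyp, one_mul]
        inv_mem' := by
          rintro x ⟨hx, hxp⟩
          exact ⟨M.inv_mem hx, by rw [inv_pow, hxp, inv_one]⟩ }
    have hLn : L.Normal := by
      constructor
      rintro x ⟨hx, hxp⟩ g
      refine ⟨(inferInstance : M.Normal).conj_mem x hx g, ?_⟩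
      rw [conj_pow, hxp, mul_one, mul_inv_cancel]
    have hLM : L ≤ M := fun x hx => hx.1
    rcases hmin L hLn hLM with h | h
    · exfalso
      obtain ⟨x, hx⟩ := exists_prime_orderOf_dvd_card' (G := M) p hpdvd
      have hxL : (x : G) ∈ L := by
        refine ⟨x.2, ?_⟩
        have : x ^ p = 1 := by rw [← hx]; exact pow_orderOf_eq_one x
        exact congrArg Subtype.val this
      rw [h, Subgroup.mem_bot] at hxL
      have hx1 : x = 1 := Subtype.ext hxL
      rw [hx1, orderOf_one] at hx
      exact hp.one_lt.ne hx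
    · intro m hm
      have : m ∈ L := by rw [h]; exact hm
      exact this.2
  · -- uniqueness
    intro L hLn hL hLmin
    by_contra hne
    have hinf : (L ⊓ M).Normal := inferInstance
    rcases hmin (L ⊓ M) hinf inf_le_right with h | h
    · -- `L` centralizes `M`
      have hdis : Disjoint L M := disjoint_iff.mpr h
      have hLle : L ≤ M := by
        intro x hx
        have hx' : ((x : G) : Equiv.Perm α) ∈ Subgroup.centralizer (M' : Set (Equiv.Perm α)) := by
          rw [Subgroup.mem_centralizer_iff]
          rintro _ ⟨y, hy, rfl⟩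
          have := Subgroup.commute_of_normal_of_disjoint L M hLn inferInstance hdis x y hx hy
          have h2 : y * x = x * y := this.eq.symm
          exact congrArg Subtype.val h2
        rw [hcen] at hx'
        obtain ⟨y, hy, hyx⟩ := hx'
        have : y = x := Subtype.ext hyx
        rw [← this]; exact hy
      apply hL
      rw [← h]
      exact (inf_eq_left.mpr hLle).symm
    · have hML : M ≤ L := inf_eq_right.mp h
      rcases hLmin M inferInstance hML with h1 | h1
      · exact hM h1
      · exact hne h1.symm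

end Cfsg.Agent.S0703
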