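import Cfsg.Statements.S0704
import Mathlib

set_option autoImplicit false
open Cfsg

namespace Cfsg.Agent.S0704

open MulAction

section
variable {α : Type*} (G : Subgroup (Equiv.Perm α))

/-- An element of `G` commuting with a transitive subgroup and fixing a point is trivial
(stated inside `G`). -/
theorem eq_one_of_commute_of_fixed (M : Subgroup G) [hMt : MulAction.IsPretransitive M α] (c : G)
    (hc : ∀ m ∈ M, Commute c m) (a : α) (hca : c • a = a) : c = 1 := by
  apply Subtype.ext
  ext b
  obtain ⟨m, rfl⟩ := MulAction.exists_smul_eq M a b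
  show c • ((m : G) • a) = (m : G) • a
  rw [← mul_smul, (hc m m.2).eq, mul_smul, hca]

/-- an element of `Perm α` commuting with a transitive subgroup and fixing a point is trivial -/
theorem eq_one_of_mem_centralizer_of_fixed (M : Subgroup G) [hMt : MulAction.IsPretransitive M α]
    (c : Equiv.Perm α)
    (hc : c ∈ Subgroup.centralizer ((M.map G.subtype : Subgroup (Equiv.Perm α)) : Set (Equiv.Perm α)))
    (a : α) (hca : c a = a) : c = 1 := by
  ext b
  obtain ⟨m, rfl⟩ := MulAction.exists_smul_eq M a b
  have h1 := Subgroup.mem_centralizer_iff.mp hc ((m : G) : Equiv.Perm α) ⟨(m : G), m.2, rfl⟩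
  show c (((m : G) : Equiv.Perm α) a) = ((m : G) : Equiv.Perm α) a
  calc c (((m : G) : Equiv.Perm α) a) = (c * ((m : G) : Equiv.Perm α)) a := rfl
    _ = (((m : G) : Equiv.Perm α) * c) a := by rw [h1]
    _ = ((m : G) : Equiv.Perm α) a := by rw [Equiv.Perm.mul_apply, hca]

/-- Half of the statement: if `M`, `N` are transitive and commute elementwise, then `N` is
regular and the centraliser of `M` in the symmetric group is `N`. -/
theorem half (M N : Subgroup G) [hMt : MulAction.IsPretransitive M α]
    [hNt : MulAction.IsPretransitive N α] (hcomm : ∀ m ∈ M, ∀ n ∈ N, Commute m n) (a₀ : α) :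
    (∀ a : α, MulAction.stabilizer N a = ⊥) ∧
      Subgroup.centralizer ((M.map G.subtype : Subgroup (Equiv.Perm α)) : Set (Equiv.Perm α)) =
        N.map G.subtype := by
  constructor
  · intro a
    rw [eq_bot_iff]
    intro n hn
    rw [MulAction.mem_stabilizer_iff] at hn
    rw [Subgroup.mem_bot]
    apply Subtype.ext
    exact eq_one_of_commute_of_fixed G M (n : G) (fun m hm => (hcomm m hm n n.2).symm) a hn
  · apply le_antisymm
    · intro c hc
      obtain ⟨n, hn⟩ := MulAction.exists_smul_eq N a₀ (c a₀)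
      have hn' : ((n : G) : Equiv.Perm α) ∈ Subgroup.centralizer
          ((M.map G.subtype : Subgroup (Equiv.Perm α)) : Set (Equiv.Perm α)) := by
        rw [Subgroup.mem_centralizer_iff]
        rintro _ ⟨m, hm, rfl⟩
        have := (hcomm m hm n n.2).eq
        exact congrArg Subtype.val this
      have h1 : ((n : G) : Equiv.Perm α)⁻¹ * c = 1 := by
        apply eq_one_of_mem_centralizer_of_fixed G M _ (mul_mem (inv_mem hn') hc) a₀
        rw [Equiv.Perm.mul_apply, Equiv.Perm.inv_def, Equiv.symm_apply_eq]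
        exact hn.symm
      rw [inv_mul_eq_one] at h1
      rw [← h1]
      exact ⟨(n : G), n.2, rfl⟩
    · rintro _ ⟨n, hn, rfl⟩
      rw [Subgroup.mem_centralizer_iff]
      rintro _ ⟨m, hm, rfl⟩
      have := (hcomm m hm n hn).eq
      exact congrArg Subtype.val this

/-- freeness from trivial stabilisers -/
theorem free_of_stab (N : Subgroup G) (hreg : ∀ a : α, MulAction.stabilizer N a = ⊥)
    (n₁ n₂ : N) (a : α) (h : n₁ • a = n₂ • a) : n₁ = n₂ := by
  have h3 : n₂⁻¹ * n₁ ∈ MulAction.stabilizer N a := by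
    rw [MulAction.mem_stabilizer_iff, mul_smul, h, inv_smul_smul]
  rw [hreg a, Subgroup.mem_bot, inv_mul_eq_one] at h3
  exact h3.symm

end

/-- Two distinct transitive minimal normal subgroups `M`, `N` of a permutation group are regular, non-abelian, isomorphic, each other's centraliser in the symmetric group, and the only minimal normal subgroups. -/
theorem result {α : Type*} (G : Subgroup (Equiv.Perm α)) (M N : Subgroup G) [M.Normal] [N.Normal] (hM : M ≠ ⊥) (hN : N ≠ ⊥) (hMmin : ∀ L : Subgroup G, L.Normal → L ≤ M → L = ⊥ ∨ L = M) (hNmin : ∀ L : Subgroup G, L.Normal → L ≤ N → L = ⊥ ∨ L = N) (hMN : M ≠ N) (hMt : MulAction.IsPretransitive M α) (hNt : MulAction.IsPretransitive N α) : (∀ a : α, MulAction.stabilizer M a = ⊥) ∧ (∀ a : α, MulAction.stabilizer N a = ⊥) ∧ ¬ IsMulCommutative M ∧ Nonempty (M ≃* N) ∧ Subgroup.centralizer ((M.map G.subtype : Subgroup (Equiv.Perm α)) : Set (Equiv.Perm α)) = N.map G.subtype ∧ Subgroup.centralizer ((N.map G.subtype : Subgroup (Equiv.Perm α)) : Set (Equiv.Perm α)) = M.map G.subtype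 ∧ ∀ L : Subgroup G, L.Normal → L ≠ ⊥ → (∀ L' : Subgroup G, L'.Normal → L' ≤ L → L' = ⊥ ∨ L' = L) → L = M ∨ L = N := by
  classical
  have hMn : M.Normal := inferInstance
  have hNn : N.Normal := inferInstance
  -- `α` is nonempty
  obtain ⟨a₀⟩ : Nonempty α := by
    by_contra hemp
    rw [not_nonempty_iff] at hemp
    apply hM
    rw [eq_bot_iff]
    intro m _
    rw [Subgroup.mem_bot]
    apply Subtype.ext
    ext x
    exact hemp.elim x
  -- trivial intersection
  have hinf : M ⊓ N = ⊥ := by
    rcases hMmin (M ⊓ N) inferInstance inf_le_left with h | h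
    · exact h
    · exfalso
      have hle : M ≤ N := inf_eq_left.mp h
      rcases hNmin M hMn hle with h1 | h1
      · exact hM h1
      · exact hMN h1
  have hdis : Disjoint M N := disjoint_iff.mpr hinf
  have hcomm : ∀ m ∈ M, ∀ n ∈ N, Commute m n := fun m hm n hn =>
    Subgroup.commute_of_normal_of_disjoint M N hMn hNn hdis m n hm hn
  have hcomm' : ∀ n ∈ N, ∀ m ∈ M, Commute n m := fun n hn m hm => (hcomm m hm n hn).symm
  obtain ⟨hNreg, hCM⟩ := half G M N hcomm a₀
  obtain ⟨hMreg, hCN⟩ := half G N M hcomm' a₀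
  have hmapinj : ∀ A B : Subgroup G, A.map G.subtype ≤ B.map G.subtype → A ≤ B := by
    intro A B h x hx
    obtain ⟨y, hy, hyx⟩ := h ⟨x, hx, rfl⟩
    have : y = x := Subtype.ext hyx
    rw [← this]; exact hy
  refine ⟨hMreg, hNreg, ?_, ?_, hCM, hCN, ?_⟩
  · -- non-commutativity
    intro hab
    have hle : M.map G.subtype ≤ Subgroup.centralizer
        ((M.map G.subtype : Subgroup (Equiv.Perm α)) : Set (Equiv.Perm α)) := by
      rintro _ ⟨x, hx, rfl⟩
      rw [Subgroup.mem_centralizer_iff]
      rintro _ ⟨y, hy, rfl⟩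
      have := hab.is_comm.comm ⟨y, hy⟩ ⟨x, hx⟩
      have h2 : y * x = x * y := congrArg Subtype.val this
      exact congrArg Subtype.val h2
    rw [hCM] at hle
    have hle' : M ≤ N := hmapinj M N hle
    rcases hNmin M hMn hle' with h1 | h1
    · exact hM h1
    · exact hMN h1
  · -- the isomorphism
    have hex : ∀ m : M, ∃ n : N, n • a₀ = m • a₀ := fun m => MulAction.exists_smul_eq N a₀ (m • a₀)
    choose ψ hψ using hex
    have hψmul : ∀ m₁ m₂ : M, ψ (m₁ * m₂) = ψ m₂ * ψ m₁ := by
      intro m₁ m₂
      apply free_of_stab G N hNreg _ _ a₀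
      rw [hψ, mul_smul, mul_smul, hψ m₁, ← hψ m₂]
      show (m₁ : G) • ((ψ m₂ : G) • a₀) = (ψ m₂ : G) • ((m₁ : G) • a₀)
      rw [← mul_smul, ← mul_smul, (hcomm m₁ m₁.2 (ψ m₂) (ψ m₂).2).eq]
    let φ : M →* N :=
      { toFun := fun m => (ψ m)⁻¹
        map_one' := by
          have : ψ 1 = 1 := by
            apply free_of_stab G N hNreg _ _ a₀
            rw [hψ, one_smul, one_smul]
          rw [this, inv_one]
        map_mul' := fun m₁ m₂ => by
          rw [hψmul, mul_inv_rev] }
    have hbij : Function.Bijective φ := by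
      constructor
      · intro m₁ m₂ h
        have h1 : ψ m₁ = ψ m₂ := inv_injective h
        apply free_of_stab G M hMreg _ _ a₀
        rw [← hψ m₁, ← hψ m₂, h1]
      · intro n
        obtain ⟨m, hm⟩ := MulAction.exists_smul_eq M a₀ (n⁻¹ • a₀)
        refine ⟨m, ?_⟩
        show (ψ m)⁻¹ = n
        have : ψ m = n⁻¹ := by
          apply free_of_stab G N hNreg _ _ a₀
          rw [hψ, hm]
        rw [this, inv_inv]
    exact ⟨MulEquiv.ofBijective φ hbij⟩
  · -- the only minimal normal subgroups
    intro L hLn hL hLmin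
    rcases hMmin (L ⊓ M) inferInstance inf_le_right with h | h
    · right
      have hdisL : Disjoint L M := disjoint_iff.mpr h
      have hLle : L.map G.subtype ≤ Subgroup.centralizer
          ((M.map G.subtype : Subgroup (Equiv.Perm α)) : Set (Equiv.Perm α)) := by
        rintro _ ⟨x, hx, rfl⟩
        rw [Subgroup.mem_centralizer_iff]
        rintro _ ⟨y, hy, rfl⟩
        have := Subgroup.commute_of_normal_of_disjoint L M hLn hMn hdisL x y hx hy
        have h2 : y * x = x * y := this.eq.symm
        exact congrArg Subtype.val h2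
      rw [hCM] at hLle
      have hLN : L ≤ N := hmapinj L N hLle
      rcases hNmin L hLn hLN with h1 | h1
      · exact absurd h1 hL
      · exact h1
    · left
      have hML : M ≤ L := inf_eq_right.mp h
      rcases hLmin M hMn hML with h1 | h1
      · exact absurd h1 hM
      · exact h1.symm

end Cfsg.Agent.S0704
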