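import Cfsg.Statements.S0705
import Mathlib
-- import your own Cfsg.Agent.* helpers here

set_option autoImplicit false
open scoped Pointwise
open Cfsg

namespace Cfsg.Agent.S0705

open MulAction

universe u v

/-- generous `k`-transitivity, phrased with permutations of the whole set supported on `s` -/
def Generous (G : Type u) (α : Type v) [Group G] [MulAction G α] (k : ℕ) : Prop :=
  ∀ s : Finset α, s.card = k + 1 → ∀ σ : Equiv.Perm α, (∀ x, x ∉ s → σ x = x) →
    ∃ g : G, ∀ x ∈ s, g • x = σ x

theorem generous_stabilizer {G : Type u} {α : Type v} [Group G] [MulAction G α] {k : ℕ}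
    (h : Generous G α (k + 1)) (a : α) :
    Generous (stabilizer G a) (SubMulAction.ofStabilizer G a) k := by
  classical
  intro t ht τ hτ
  let s : Finset α := insert a (t.map ⟨Subtype.val, Subtype.val_injective⟩)
  have has : a ∉ t.map ⟨Subtype.val, Subtype.val_injective⟩ := by
    intro hmem
    rw [Finset.mem_map] at hmem
    obtain ⟨x, _, hx⟩ := hmem
    exact (SubMulAction.neq_of_mem_ofStabilizer G a (x := x)) hx
  have hs : s.card = k + 1 + 1 := by
    rw [Finset.card_insert_of_notMem has, Finset.card_map, ht]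
  let σ : Equiv.Perm α := Equiv.Perm.ofSubtype (p := fun x => x ∈ SubMulAction.ofStabilizer G a) τ
  have hσa : σ a = a := by
    apply Equiv.Perm.ofSubtype_apply_of_not_mem
    simp [SubMulAction.mem_ofStabilizer_iff]
  have hσ : ∀ z : SubMulAction.ofStabilizer G a, σ z.1 = (τ z).1 := by
    intro z
    exact Equiv.Perm.ofSubtype_apply_of_mem (p := fun x => x ∈ SubMulAction.ofStabilizer G a) τ z.2
  obtain ⟨g, hg⟩ := h s hs σ (by
    intro x hx
    simp only [s, Finset.mem_insert, Finset.mem_map, Function.Embedding.coeFn_mk, not_or] at hx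
    obtain ⟨hxa, hxt⟩ := hx
    have hxm : x ∈ SubMulAction.ofStabilizer G a := (SubMulAction.mem_ofStabilizer_iff G a).mpr hxa
    have := hσ ⟨x, hxm⟩
    rw [this, hτ ⟨x, hxm⟩ (fun hmem => hxt ⟨⟨x, hxm⟩, hmem, rfl⟩)])
  have hga : g • a = a := by
    rw [hg a (by simp [s]), hσa]
  refine ⟨⟨g, hga⟩, ?_⟩
  intro z hz
  apply Subtype.ext
  have : g • z.1 = σ z.1 := hg z.1 (by
    simp only [s, Finset.mem_insert, Finset.mem_map, Function.Embedding.coeFn_mk]
    exact Or.inr ⟨z, hz, rfl⟩)
  rw [hσ z] at this
  exact this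

theorem generous_pretransitive (k : ℕ) :
    ∀ (G : Type u) (α : Type v) [Group G] [MulAction G α] [Finite α],
    k < Nat.card α → Generous G α k → IsMultiplyPretransitive G α k := by
  induction k with
  | zero =>
    intro G α _ _ _ _ _
    exact is_zero_pretransitive'
  | succ k ih =>
    intro G α _ _ _ hcard h
    classical
    have := Fintype.ofFinite α
    have htrans : IsPretransitive G α := by
      refine ⟨fun x y => ?_⟩
      by_cases hxy : x = y
      · exact ⟨1, by rw [one_smul, hxy]⟩
      · obtain ⟨s, hsub, hs⟩ := Finset.exists_superset_card_eq (s := {x, y}) (n := k + 1 + 1)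
          (by rw [Finset.card_pair hxy]; omega)
          (by rw [← Nat.card_eq_fintype_card]; omega)
        obtain ⟨g, hg⟩ := h s hs (Equiv.swap x y) (by
          intro z hz
          apply Equiv.swap_apply_of_ne_of_ne
          · rintro rfl; exact hz (hsub (by simp))
          · rintro rfl; exact hz (hsub (by simp)))
        refine ⟨g, ?_⟩
        rw [hg x (hsub (by simp)), Equiv.swap_apply_left]
    obtain ⟨a⟩ : Nonempty α := by
      rw [← Finite.card_pos_iff]; omega
    apply (SubMulAction.ofStabilizer.isMultiplyPretransitive (a := a)).mpr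
    apply ih
    · rw [SubMulAction.nat_card_ofStabilizer_eq]; omega
    · exact generous_stabilizer h a

theorem generous_of_hgen {α : Type*} [Fintype α] [DecidableEq α] (G : Subgroup (Equiv.Perm α))
    {k : ℕ}
    (hgen : ∀ s : Finset α, s.card = k + 1 → ∀ σ : Equiv.Perm ↥s, ∃ g ∈ G, ∀ x : ↥s, g (x : α) = σ x) :
    Generous G α k := by
  intro s hs σ hσ
  have hmem : ∀ x, x ∈ s ↔ σ x ∈ s := by
    intro x
    constructor
    · intro hx
      by_contra hcon
      have := hσ _ hcon
      have hx' : σ x = x := σ.injective this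
      rw [hx'] at hcon
      exact hcon hx
    · intro hx
      by_contra hcon
      rw [hσ x hcon] at hx
      exact hcon hx
  obtain ⟨g, hgG, hg⟩ := hgen s hs (σ.subtypePerm (fun x => (hmem x).symm))
  refine ⟨⟨g, hgG⟩, ?_⟩
  intro x hx
  have := hg ⟨x, hx⟩
  simpa using this

/-- A generously `k`-transitive permutation group (every `(k+1)`-subset has its full symmetric group induced by the setwise stabiliser) of degree greater than `k` is `k`-transitive, and for a `k`-subset the setwise and pointwise stabilisers have the same orbits outside it. -/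
theorem result {α : Type*} [Fintype α] [DecidableEq α] (G : Subgroup (Equiv.Perm α)) {k : ℕ} (hk : k < Fintype.card α) (hgen : ∀ s : Finset α, s.card = k + 1 → ∀ σ : Equiv.Perm ↥s, ∃ g ∈ G, ∀ x : ↥s, g (x : α) = σ x) : MulAction.IsMultiplyPretransitive G α k ∧ ∀ s : Finset α, s.card = k → ∀ a b : α, a ∉ s → b ∉ s → (∃ g ∈ G, g • s = s ∧ g a = b) → ∃ g ∈ G, (∀ x ∈ s, g x = x) ∧ g a = b := by
  have hG : Generous G α k := generous_of_hgen G hgen
  refine ⟨generous_pretransitive k G α (by rw [Nat.card_eq_fintype_card]; exact hk) hG, ?_⟩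
  intro s hs a b ha hb ⟨g, hgG, hgs, hgab⟩
  have hgs' : g⁻¹ • s = s := by rw [inv_smul_eq_iff, hgs]
  have hmem : ∀ x, x ∈ s ↔ g⁻¹ x ∈ s := by
    intro x
    constructor
    · intro hx
      have : g⁻¹ • x ∈ g⁻¹ • s := Finset.smul_mem_smul_finset hx
      rw [hgs'] at this
      exact this
    · intro hx
      have : g • (g⁻¹ x) ∈ g • s := Finset.smul_mem_smul_finset hx
      rw [hgs] at this
      simpa using this
  let σ : Equiv.Perm α := Equiv.Perm.ofSubtype (p := fun x => x ∈ s) (g⁻¹.subtypePerm (fun x => (hmem x).symm))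
  have hσs : ∀ x ∈ s, σ x = g⁻¹ x := by
    intro x hx
    have := Equiv.Perm.ofSubtype_apply_of_mem (p := fun x => x ∈ s) (g⁻¹.subtypePerm (fun x => (hmem x).symm)) hx
    simpa using this
  have hσn : ∀ x, x ∉ s → σ x = x := by
    intro x hx
    exact Equiv.Perm.ofSubtype_apply_of_not_mem (p := fun x => x ∈ s) (g⁻¹.subtypePerm (fun x => (hmem x).symm)) hx
  obtain ⟨h, hh⟩ := hG (insert b s) (by rw [Finset.card_insert_of_notMem hb, hs]) σ (by
    intro x hx
    apply hσn
    intro hxs
    exact hx (Finset.mem_insert_of_mem hxs))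
  refine ⟨h.1 * g, G.mul_mem h.2 hgG, ?_, ?_⟩
  · intro x hx
    have hgx : g x ∈ s := by
      have : g • x ∈ g • s := Finset.smul_mem_smul_finset hx
      rw [hgs] at this
      exact this
    have h1 : h • (g x) = σ (g x) := hh (g x) (Finset.mem_insert_of_mem hgx)
    rw [hσs _ hgx] at h1
    have h2 : (h : Equiv.Perm α) (g x) = g⁻¹ (g x) := h1
    simpa using h2
  · have h1 : h • b = σ b := hh b (Finset.mem_insert_self b s)
    rw [hσn b hb] at h1
    simp only [Equiv.Perm.coe_mul, Function.comp_apply, hgab]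
    exact h1

end Cfsg.Agent.S0705
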