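import Cfsg.Statements.S0710
import Mathlib
import Cfsg.Agent.Lib.Helper4.PermSylow

set_option autoImplicit false
open Cfsg

namespace Cfsg.Agent.S0710

open Cfsg.Agent.Lib.Helper4.Sylow Cfsg.Agent.Lib.Helper4.PermSylow

/-- No transitive permutation group on 13 points has order `13 * 12 * 11 * 10 * 9 * 8`. -/
theorem result {α : Type*} [Fintype α] [DecidableEq α] (hα : Fintype.card α = 13) (G : Subgroup (Equiv.Perm α)) [MulAction.IsPretransitive G α] : Nat.card G ≠ 13 * 12 * 11 * 10 * 9 * 8 := by
  intro hG
  have : Fact (Nat.Prime 13) := ⟨by norm_num⟩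
  have hG' : Nat.card G = 13 ^ 1 * 95040 := by rw [hG]; norm_num
  have hm : ¬ 13 ∣ 95040 := by norm_num
  obtain ⟨P⟩ : Nonempty (Sylow 13 G) := inferInstance
  have hP : Nat.card (P : Subgroup G) = 13 := by simpa using card_sylow_of_card_eq hG' hm P
  have hmod : Nat.card (Sylow 13 G) ≡ 1 [MOD 13] := card_sylow_modEq_one 13 G
  have hN := card_sylow_mul_card_normalizer P
  rw [hG'] at hN
  -- the image of `P` in the symmetric group is a Sylow subgroup
  have hα' : Fintype.card α = 13 ∨ Fintype.card α = 13 + 1 := Or.inl hα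
  obtain ⟨P', hP'⟩ := (P.2.map G.subtype).exists_le_sylow
  have hP'card := card_sylow_perm 13 hα' P'
  have hinj : Function.Injective G.subtype := G.subtype_injective
  have hPmap : (P : Subgroup G).map G.subtype = (P' : Subgroup (Equiv.Perm α)) := by
    apply Subgroup.eq_of_le_of_card_ge hP'
    rw [hP'card, Subgroup.card_map_of_injective hinj, hP]
  have h1 := card_normalizer_sylow_perm 13 hα' P'
  have h3 : (Subgroup.normalizer ((P : Subgroup G) : Set G)).map G.subtype ≤
      Subgroup.normalizer ((P' : Subgroup (Equiv.Perm α)) : Set (Equiv.Perm α)) := by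
    rw [← hPmap]
    exact Subgroup.le_normalizer_map G.subtype
  have h4 := Subgroup.card_dvd_of_le h3
  rw [Subgroup.card_map_of_injective hinj, h1] at h4
  unfold Nat.ModEq at hmod
  generalize Nat.card (Sylow 13 G) = n at *
  generalize Nat.card (Subgroup.normalizer ((P : Subgroup G) : Set G)) = d at *
  have hd : d ≤ 156 := Nat.le_of_dvd (by norm_num) h4
  norm_num at h4 hN hmod
  interval_cases d <;> omega

end Cfsg.Agent.S0710
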