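import Cfsg.Statements.S0712
import Mathlib

set_option autoImplicit false
open Cfsg

namespace Cfsg.Agent.S0712

open MulAction SubMulAction

/-- If `G` is `m`-transitive and the pointwise stabiliser of some `m`-set is `2`-transitive on the
complement, then `G` is `(m + 2)`-transitive. -/
theorem lemmaJ (m : ℕ) : ∀ {G : Type*} {α : Type*} [Group G] [MulAction G α] [Finite α]
    (s : Set α), s.ncard = m → IsMultiplyPretransitive G α m →
    IsMultiplyPretransitive (fixingSubgroup G s) (ofFixingSubgroup G s) 2 →
    IsMultiplyPretransitive G α (m + 2) := by
  induction m with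
  | zero =>
    intro G α _ _ _ s hs _ h2
    have hs' : s = ∅ := by
      rwa [Set.ncard_eq_zero] at hs
    subst hs'
    exact IsPretransitive.of_embedding
      (f := ofFixingSubgroup_equivariantMap G (∅ : Set α))
      (ofFixingSubgroupEmpty_equivariantMap_bijective).surjective
  | succ m ih =>
    intro G α _ _ _ s hs hm h2
    have hne : s.Nonempty := by
      rw [← Set.ncard_pos, hs]; exact Nat.succ_pos m
    obtain ⟨a, ha⟩ := hne
    set t : Set (ofStabilizer G a) := Subtype.val ⁻¹' s with ht
    have hst : s = insert a (Subtype.val '' t) := by
      ext x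
      by_cases hx : x = a <;> simp [hx, mem_ofStabilizer_iff, ha, t]
    have ha' : a ∉ Subtype.val '' t := by
      intro h; rw [Set.mem_image] at h; obtain ⟨x, hx⟩ := h
      apply x.prop; rw [hx.right]; exact Set.mem_singleton a
    have hcard : m + 1 ≤ Nat.card α := by
      rw [← hs]
      rw [← Nat.card_coe_set_eq]
      exact Nat.card_le_card_of_injective _ Subtype.val_injective
    have htrans : IsPretransitive G α := by
      rw [← is_one_pretransitive_iff]
      exact isMultiplyPretransitive_of_le (n := m + 1) (by omega) hcard
    -- the stabilizer is `m`-transitive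
    have h1 : IsMultiplyPretransitive (stabilizer G a) (ofStabilizer G a) m :=
      (ofStabilizer.isMultiplyPretransitive (a := a)).mp hm
    -- transfer of double transitivity
    have h3 : IsMultiplyPretransitive (fixingSubgroup G (insert a (Subtype.val '' t)))
        (ofFixingSubgroup G (insert a (Subtype.val '' t))) 2 :=
      IsPretransitive.of_embedding (f := ofFixingSubgroup_of_eq G hst)
        (ofFixingSubgroup_of_eq_bijective (hst := hst)).surjective
    have h4 : IsMultiplyPretransitive (fixingSubgroup (stabilizer G a) t)
        (ofFixingSubgroup (stabilizer G a) t) 2 :=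
      IsPretransitive.of_embedding (f := ofFixingSubgroup_insert_map a t)
        ofFixingSubgroup_insert_map_bijective.surjective
    have htcard : t.ncard = m := by
      rw [← Set.ncard_image_of_injective t Subtype.val_injective]
      apply Nat.add_right_cancel
      rw [← Set.ncard_insert_of_notMem ha', ← hst, hs]
    have h5 := ih (G := stabilizer G a) (α := ofStabilizer G a) t htcard h1 h4
    exact (ofStabilizer.isMultiplyPretransitive (a := a)).mpr h5

/-- Jordan: a primitive group in which the pointwise stabiliser of a set `s` is doubly transitive on the complement of `s` (which has at least 2 points) is `(|s| + 2)`-transitive. -/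
theorem result {α : Type*} [Fintype α] [DecidableEq α] (G : Subgroup (Equiv.Perm α)) (hG : MulAction.IsPreprimitive G α) (s : Set α) {m : ℕ} (hsm : s.ncard = m) (hm : m + 2 ≤ Fintype.card α) (h2 : MulAction.IsMultiplyPretransitive (fixingSubgroup G s) (SubMulAction.ofFixingSubgroup G s) 2) : MulAction.IsMultiplyPretransitive G α (m + 2) := by
  have hcard : Nat.card α = Fintype.card α := Nat.card_eq_fintype_card
  rcases Nat.eq_zero_or_pos m with h0 | hpos
  · subst h0
    exact lemmaJ 0 s hsm is_zero_pretransitive h2
  · obtain ⟨n, rfl⟩ : ∃ n, m = n + 1 := ⟨m - 1, by omega⟩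
    have hprim : IsPreprimitive (fixingSubgroup G s) (ofFixingSubgroup G s) :=
      isPreprimitive_of_is_two_pretransitive h2
    have hJ := hG.isMultiplyPreprimitive hsm (by rw [hcard]; omega) hprim
    have h1 : IsMultiplyPretransitive G α (n + 2) := hJ.isMultiplyPretransitive
    have h2' : IsMultiplyPretransitive G α (n + 1) :=
      isMultiplyPretransitive_of_le (n := n + 2) (by omega) (by rw [hcard]; omega)
    exact lemmaJ (n + 1) s hsm h2' h2

end Cfsg.Agent.S0712
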