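import Cfsg.Statements.S0714
import Mathlib

set_option autoImplicit false

namespace Cfsg.Agent.S0714

open Equiv

variable {α : Type*} [Fintype α] [DecidableEq α] {K : Type*} [Field K]

theorem exists_notMem (s : Finset α) (h : s.card < Fintype.card α) : ∃ x, x ∉ s := by
  by_contra hc
  push_neg at hc
  have : s = Finset.univ := Finset.eq_univ_iff_forall.2 hc
  rw [this, Finset.card_univ] at h
  exact lt_irrefl _ h

/-- three-cycle in the alternating group -/
def cyc (x y z : α) (hxy : x ≠ y) (hxz : x ≠ z) : alternatingGroup α :=
  ⟨swap x y * swap x z, by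
    rw [Equiv.Perm.mem_alternatingGroup, Equiv.Perm.sign_mul, Equiv.Perm.sign_swap hxy,
      Equiv.Perm.sign_swap hxz]
    rfl⟩

theorem cyc_inv_smul (x y z : α) (hxy : x ≠ y) (hxz : x ≠ z) (w : α) :
    (cyc x y z hxy hxz)⁻¹ • w = (swap x z * swap x y) w := by
  show ((swap x y * swap x z)⁻¹ : Equiv.Perm α) w = _
  rw [mul_inv_rev, swap_inv, swap_inv]

theorem sub_cyc_mem (W : Subrepresentation (Cfsg.permRep K (alternatingGroup α) α)) (u : α → K)
    (hu : u ∈ W.toSubmodule) (x y z : α) (hxy : x ≠ y) (hxz : x ≠ z) :
    (fun w => u w - u ((swap x z * swap x y) w)) ∈ W.toSubmodule := by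
  have h := W.apply_mem_toSubmodule (cyc x y z hxy hxz) hu
  have e : Cfsg.permRep K (alternatingGroup α) α (cyc x y z hxy hxz) u
      = fun w => u ((swap x z * swap x y) w) := by
    funext w
    show u ((cyc x y z hxy hxz)⁻¹ • w) = _
    rw [cyc_inv_smul]
  rw [e] at h
  exact W.toSubmodule.sub_mem hu h

theorem single_sub_mem (W : Subrepresentation (Cfsg.permRep K (alternatingGroup α) α)) (u : α → K)
    (hu : u ∈ W.toSubmodule) (b d e : α) (hbd : b ≠ d) (hbe : b ≠ e) (hde : d ≠ e)
    (hd : u d = 0) (he : u e = 0) :
    u b • (Pi.single b (1 : K) - Pi.single d (1 : K) : α → K) ∈ W.toSubmodule := by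
  have h := sub_cyc_mem W u hu b e d hbe hbd
  convert h using 1
  funext w
  simp only [Pi.smul_apply, Pi.sub_apply, Pi.single_apply, smul_eq_mul, Perm.mul_apply]
  by_cases hwb : w = b
  · subst hwb
    rw [swap_apply_left, swap_apply_of_ne_of_ne hbe.symm hde.symm, he]
    simp [hbd]
  · by_cases hwd : w = d
    · subst hwd
      rw [swap_apply_of_ne_of_ne hwb hde, swap_apply_right, hd]
      simp [hwb]
    · by_cases hwe : w = e
      · subst hwe
        rw [swap_apply_right, swap_apply_left, hd, he]
        simp [hwb, hwd]
      · rw [swap_apply_of_ne_of_ne hwb hwe, swap_apply_of_ne_of_ne hwb hwd]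
        simp [hwb, hwd]

/-- Over any field, the permutation module of the alternating group of degree at least 5 has exactly four invariant subspaces: zero, the constant functions, the functions with coordinate sum zero, and everything. -/
theorem result {α : Type*} [Fintype α] [DecidableEq α] (hα : 5 ≤ Fintype.card α) {K : Type*} [Field K] (W : Subrepresentation (Cfsg.permRep K (alternatingGroup α) α)) : W.toSubmodule = ⊥ ∨ W = Cfsg.permConstants K (alternatingGroup α) α ∨ W = Cfsg.permSumZero K (alternatingGroup α) α ∨ W.toSubmodule = ⊤ := by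
  classical
  by_cases hconst : ∀ f ∈ W.toSubmodule, ∀ a b : α, f a = f b
  · by_cases hbot : W.toSubmodule = ⊥
    · left; exact hbot
    · right; left
      apply Subrepresentation.toSubmodule_injective
      show W.toSubmodule = Submodule.span K {fun _ => 1}
      apply le_antisymm
      · intro f hf
        rw [Submodule.mem_span_singleton]
        have hne : Nonempty α := by
          rw [← Fintype.card_pos_iff]; omega
        obtain ⟨a⟩ := hne
        refine ⟨f a, funext fun x => ?_⟩
        simp [hconst f hf x a]
      · rw [Submodule.span_singleton_le_iff_mem]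
        obtain ⟨f, hf, hf0⟩ := Submodule.exists_mem_ne_zero_of_ne_bot hbot
        obtain ⟨a, ha⟩ : ∃ a, f a ≠ 0 := by
          by_contra h
          push_neg at h
          exact hf0 (funext h)
        have : (fun _ => (1 : K)) = (f a)⁻¹ • f := by
          funext x
          simp [hconst f hf x a, ha]
        rw [this]
        exact W.toSubmodule.smul_mem _ hf
  · push_neg at hconst
    obtain ⟨f, hf, a, b, hab⟩ := hconst
    right; right
    have hab' : a ≠ b := fun h => hab (by rw [h])
    -- choose extra points
    obtain ⟨c, hc⟩ := exists_notMem ({a, b} : Finset α) (by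
      have := Finset.card_le_two (a := a) (b := b); omega)
    obtain ⟨d, hd⟩ := exists_notMem ({a, b, c} : Finset α) (by
      have := Finset.card_le_three (a := a) (b := b) (c := c); omega)
    obtain ⟨e, he⟩ := exists_notMem ({a, b, c, d} : Finset α) (by
      have := Finset.card_le_four (a := a) (b := b) (c := c) (d := d); omega)
    simp only [Finset.mem_insert, Finset.mem_singleton, not_or] at hc hd he
    obtain ⟨hca, hcb⟩ := hc
    obtain ⟨hda, hdb, hdc⟩ := hd
    obtain ⟨hea, heb, hec, hed⟩ := he
    -- u = f - σ f
    have hu := sub_cyc_mem W f hf b a c (Ne.symm hab') (Ne.symm hcb)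
    set u : α → K := fun w => f w - f ((swap b c * swap b a) w) with hu_def
    have hub : u b = f b - f a := by
      simp only [hu_def, Perm.mul_apply]
      rw [swap_apply_left, swap_apply_of_ne_of_ne hab' (Ne.symm hca)]
    have hud : u d = 0 := by
      simp only [hu_def, Perm.mul_apply]
      rw [swap_apply_of_ne_of_ne hdb hda, swap_apply_of_ne_of_ne hdb hdc, sub_self]
    have hue : u e = 0 := by
      simp only [hu_def, Perm.mul_apply]
      rw [swap_apply_of_ne_of_ne heb hea, swap_apply_of_ne_of_ne heb hec, sub_self]
    have hub0 : u b ≠ 0 := by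
      rw [hub]
      intro h
      exact hab (sub_eq_zero.1 h).symm
    have hv1 := single_sub_mem W u hu b d e (Ne.symm hdb) (Ne.symm heb) (Ne.symm hed) hud hue
    have hv : (Pi.single b (1 : K) - Pi.single d (1 : K) : α → K) ∈ W.toSubmodule := by
      have := W.toSubmodule.smul_mem (u b)⁻¹ hv1
      rwa [smul_smul, inv_mul_cancel₀ hub0, one_smul] at this
    -- all e_b - e_j
    have hall : ∀ j : α, (Pi.single b (1 : K) - Pi.single j (1 : K) : α → K) ∈ W.toSubmodule := by
      intro j
      by_cases hjb : j = b
      · rw [hjb, sub_self]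
        exact W.toSubmodule.zero_mem
      by_cases hjd : j = d
      · rw [hjd]; exact hv
      obtain ⟨e', he'⟩ := exists_notMem ({b, d, j} : Finset α) (by
        have := Finset.card_le_three (a := b) (b := d) (c := j); omega)
      simp only [Finset.mem_insert, Finset.mem_singleton, not_or] at he'
      obtain ⟨h1, h2, h3⟩ := he'
      have := single_sub_mem W _ hv b j e' (Ne.symm hjb) (Ne.symm h1) (Ne.symm h3)
        (by simp [hjb, hjd]) (by simp [h1, h2])
      simpa [Ne.symm hdb] using this
    -- sum-zero functions lie in W
    have hsz : ∀ g : α → K, ∑ x, g x = 0 → g ∈ W.toSubmodule := by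
      intro g hg
      have e1 : g = ∑ x, (- g x) • (Pi.single b (1 : K) - Pi.single x (1 : K) : α → K) := by
        funext w
        simp only [Finset.sum_apply, Pi.smul_apply, Pi.sub_apply, Pi.single_apply, smul_eq_mul,
          mul_sub, mul_ite, mul_one, mul_zero, Finset.sum_sub_distrib]
        rw [Finset.sum_ite_eq Finset.univ w (fun x => - g x)]
        simp only [Finset.mem_univ, if_true]
        by_cases hwb : w = b
        · simp [hwb, hg]
        · simp [hwb]
      rw [e1]
      exact W.toSubmodule.sum_mem (fun x _ => W.toSubmodule.smul_mem _ (hall x))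
    by_cases hsum : ∀ f ∈ W.toSubmodule, ∑ x, f x = 0
    · left
      apply Subrepresentation.toSubmodule_injective
      apply le_antisymm
      · intro g hg
        exact hsum g hg
      · intro g hg
        exact hsz g hg
    · right
      push_neg at hsum
      obtain ⟨f₀, hf₀, hs⟩ := hsum
      rw [eq_top_iff]
      intro g _
      set s := ∑ x, f₀ x with hs_def
      set t := ∑ x, g x with ht_def
      have h1 : g - (t / s) • f₀ ∈ W.toSubmodule := by
        apply hsz
        simp only [Pi.sub_apply, Pi.smul_apply, smul_eq_mul, Finset.sum_sub_distrib,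
          ← Finset.mul_sum]
        rw [← hs_def, ← ht_def]
        field_simp
        ring
      have h2 := W.toSubmodule.add_mem h1 (W.toSubmodule.smul_mem (t / s) hf₀)
      rwa [sub_add_cancel] at h2

end Cfsg.Agent.S0714
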