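import Cfsg.Statements.S0718
import Mathlib
import Cfsg.Agent.Lib.Helper4.MultFreeC

set_option autoImplicit false
open Cfsg
open scoped commutatorElement

namespace Cfsg.Agent.S0718

open Cfsg.Agent.Lib.Helper4.MultFree

/-- Multiplicity-freeness of the permutation character is equivalent to commutativity of the centraliser ring, i.e. of the algebra of `G`-equivariant endomorphisms of the complex permutation module. -/
theorem result {G : Type*} [Group G] [Fintype G] {Ω : Type*} [Fintype Ω] [MulAction G Ω] : (∀ χ : G → ℂ, Cfsg.IsIrrCharacter G χ → Cfsg.classInner (fun g : G => (Nat.card (MulAction.fixedBy Ω g) : ℂ)) χ = 0 ∨ Cfsg.classInner (fun g : G => (Nat.card (MulAction.fixedBy Ω g) : ℂ)) χ = 1) ↔ ∀ S T : (Ω → ℂ) →ₗ[ℂ] (Ω → ℂ), S ∈ ((Cfsg.permRep ℂ G Ω).linHom (Cfsg.permRep ℂ G Ω)).invariants → T ∈ ((Cfsg.permRep ℂ G Ω).linHom (Cfsg.permRep ℂ G Ω)).invariants → S ∘ₗ T = T ∘ₗ S := by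
  classical
  have hchar : (fun g : G => (Nat.card (MulAction.fixedBy Ω g) : ℂ)) =
      (Cfsg.permRep ℂ G Ω).character := by
    funext g
    rw [permRep_character]
  have hmem : ∀ S : (Ω → ℂ) →ₗ[ℂ] (Ω → ℂ),
      S ∈ ((Cfsg.permRep ℂ G Ω).linHom (Cfsg.permRep ℂ G Ω)).invariants ↔
        ∀ g, S ∘ₗ (Cfsg.permRep ℂ G Ω) g = (Cfsg.permRep ℂ G Ω) g ∘ₗ S := by
    intro S
    have h1 : S ∈ ((Cfsg.permRep ℂ G Ω).linHom (Cfsg.permRep ℂ G Ω)).invariants ↔
        ∀ g : G, (Cfsg.permRep ℂ G Ω) g ∘ₗ S ∘ₗ (Cfsg.permRep ℂ G Ω) g⁻¹ = S := Iff.rfl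
    rw [h1, Representation.mem_linHom_invariants_iff_isIntertwining]
    constructor
    · intro h g
      apply LinearMap.ext
      intro v
      exact h.isIntertwining g v
    · intro h
      exact ⟨fun g v => LinearMap.congr_fun (h g) v⟩
  rw [hchar]
  constructor
  · intro h S T hS hT
    have hmf : IsMultFree (Cfsg.permRep ℂ G Ω) := fun χ => h _ χ.2
    exact commEnd_of_multFree _ hmf S T ((hmem S).mp hS) ((hmem T).mp hT)
  · intro h χ hχ
    have hc : CommEnd (Cfsg.permRep ℂ G Ω) := fun S T hS hT =>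
      h S T ((hmem S).mpr hS) ((hmem T).mpr hT)
    exact multFree_of_commEnd _ hc ⟨χ, hχ⟩

end Cfsg.Agent.S0718
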