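import Cfsg.Statements.S0720
import Cfsg.Agent.Lib.Helper7.W2pT
import Cfsg.Agent.Lib.S0720H8.StarB
import Cfsg.Agent.S0716
import Cfsg.Agent.S0719

set_option autoImplicit false
set_option linter.style.haveILetI false
open Cfsg

namespace Cfsg.Agent.S0720

/-- Wielandt's Theorem on primitive groups of degree `2p`: such a group is doubly transitive, or it has rank 3, `p = 2a² + 2a + 1`, and subdegrees `a(2a+1)` and `(a+1)(2a+1)`. -/
theorem result {α : Type*} [Fintype α] [DecidableEq α] {p : ℕ} (hp : p.Prime) (hα : Fintype.card α = 2 * p) (G : Subgroup (Equiv.Perm α)) (hG : MulAction.IsPreprimitive G α) (a₀ : α) : MulAction.IsMultiplyPretransitive G α 2 ∨ (Nat.card (MulAction.orbitRel.Quotient (MulAction.stabilizer G a₀) α) = 3 ∧ ∃ a : ℕ, 0 < a ∧ p = 2 * a ^ 2 + 2 * a + 1 ∧ ∀ b : α, b ≠ a₀ → Nat.card (MulAction.orbit (MulAction.stabilizer G a₀) b) = a * (2 * a + 1) ∨ Nat.card (MulAction.orbit (MulAction.stabilizer G a₀) b) = (a + 1) * (2 * a + 1))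 := by
  classical
  haveI : Fact p.Prime := ⟨hp⟩
  letI : Fintype G := Fintype.ofFinite G
  haveI : MulAction.IsPretransitive G α := hG.toIsPretransitive
  by_cases h2 : MulAction.IsMultiplyPretransitive G α 2
  · exact Or.inl h2
  right
  have hnp : ¬ (Nat.card α).Prime := by
    rw [Nat.card_eq_fintype_card, hα]
    intro h
    have h3 := (Nat.prime_mul_iff.mp h)
    rcases h3 with ⟨-, h4⟩ | ⟨-, h4⟩
    · exact hp.one_lt.ne' h4
    · norm_num at h4
  have hfix : ∀ a γ : α, (∀ k : G, k • a = a → k • γ = γ) → γ = a :=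
    fun a γ h => Cfsg.Agent.Lib.Helper7.W2p.fix_unique G hG hnp a γ h
  have hp2 : p ≠ 2 := by
    rintro rfl
    exact h2 (Cfsg.Agent.Lib.Helper7.W2p.two_trans_of_card_four (by rw [hα]) a₀ (hfix a₀))
  obtain ⟨C, hCa⟩ := Cfsg.Agent.Lib.Helper7.W2p.exists_cfg hp2 hα G hG h2 a₀
  have hnt : ∃ γ : α, γ ≠ C.a := by
    by_contra hcon
    have hall : ∀ γ : α, γ = C.a := fun γ => by
      by_contra h
      exact hcon ⟨γ, h⟩
    have : Fintype.card α ≤ 1 := Fintype.card_le_one_iff.mpr (fun x y => by rw [hall x, hall y])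
    have := hp.two_le
    omega
  have hlin := Cfsg.Agent.Lib.Helper7.W2p.hlin_of_primitive hG C.a (hfix C.a) hnt
  have hmain := C.main hp2 hα hlin (hfix C.a) (fun ψ X D => Cfsg.Agent.S0720H8.star_ineq C hα D)
  rcases hmain with hirr | ⟨Y, θ, hY, hθ, hθY, hpc, hY1, hθ1⟩
  · exfalso
    apply h2
    refine (Cfsg.Agent.Lib.helper3.PermChar.isIrrCharacter_permChar_sub_one_iff α ?_).mp hirr
    rw [Nat.card_eq_fintype_card, hα]
    have := hp.two_le
    omega
  · have hπ' : (fun g : G => (Nat.card (MulAction.fixedBy α g) : ℂ))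
        = fun g => 1 + (Y : G → ℂ) g + (θ : G → ℂ) g := funext hpc
    have hrank : Nat.card (MulAction.orbitRel.Quotient (MulAction.stabilizer G a₀) α) = 3 := by
      have h1 := Cfsg.Agent.S0716.rank_eq (G := G) a₀
      rw [hπ', Cfsg.Agent.Lib.Helper7.W2p.classInner_three' hY hθ hθY] at h1
      exact_mod_cast h1.symm
    exact ⟨hrank, Cfsg.Agent.S0719.result hG hα a₀ hrank (Y : G → ℂ) (θ : G → ℂ) Y.2 θ.2 hπ' hY1 hθ1⟩

end Cfsg.Agent.S0720
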