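import Cfsg.Statements.S0724
import Mathlib

set_option autoImplicit false
open Cfsg

namespace Cfsg.Agent.S0724

/-- fixed points of `g` acting on tuples are tuples of fixed points -/
def fixedByPiEquiv {G α : Type*} [Group G] [MulAction G α] (j : ℕ) (g : G) :
    MulAction.fixedBy (Fin j → α) g ≃ (Fin j → MulAction.fixedBy α g) where
  toFun f := fun i => ⟨f.1 i, congrFun f.2 i⟩
  invFun h := ⟨fun i => (h i).1, funext fun i => (h i).2⟩
  left_inv _ := rfl
  right_inv _ := rfl

theorem burnside_pow {G α : Type*} [Group G] [Finite G] [Finite α] [MulAction G α] (j : ℕ) :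
    ∃ m : ℕ, ∑ᶠ g : G, Nat.card (MulAction.fixedBy α g) ^ j = m * Nat.card G := by
  classical
  have : Fintype G := Fintype.ofFinite G
  have : Fintype α := Fintype.ofFinite α
  have : ∀ g : G, Fintype (MulAction.fixedBy (Fin j → α) g) := fun g => Fintype.ofFinite _
  have : Fintype (Quotient (MulAction.orbitRel G (Fin j → α))) := Fintype.ofFinite _
  refine ⟨Fintype.card (Quotient (MulAction.orbitRel G (Fin j → α))), ?_⟩
  rw [finsum_eq_sum_of_fintype, Nat.card_eq_fintype_card,
    ← MulAction.sum_card_fixedBy_eq_card_orbits_mul_card_group G (Fin j → α)]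
  apply Finset.sum_congr rfl
  intro g _
  rw [← Nat.card_eq_fintype_card (α := MulAction.fixedBy (Fin j → α) g),
    Nat.card_congr (fixedByPiEquiv j g), Nat.card_fun, Nat.card_eq_fintype_card (α := Fin j),
    Fintype.card_fin]

theorem key {G : Type*} [Fintype G] (N : ℤ) (fx : G → ℤ)
    (hb : ∀ j : ℕ, N ∣ ∑ g : G, fx g ^ j) (L : Finset ℕ) :
    ∀ j : ℕ, N ∣ ∑ g : G, fx g ^ j * ∏ l ∈ L, (fx g - (l : ℤ)) := by
  classical
  induction L using Finset.induction_on with
  | empty => intro j; simpa using hb j
  | insert a L ha ih =>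
    intro j
    have : ∀ g : G, fx g ^ j * ∏ l ∈ insert a L, (fx g - (l : ℤ)) =
        fx g ^ (j + 1) * ∏ l ∈ L, (fx g - (l : ℤ)) - a * (fx g ^ j * ∏ l ∈ L, (fx g - (l : ℤ))) := by
      intro g
      rw [Finset.prod_insert ha]
      ring
    simp only [this, Finset.sum_sub_distrib, ← Finset.mul_sum]
    exact dvd_sub (ih (j + 1)) (Dvd.dvd.mul_left (ih j) _)

/-- Blichfeldt's Theorem: if a finite set `L` of natural numbers contains the number of fixed points of every non-identity element of a permutation group `G` of degree `n`, then the order of `G` divides `∏ (n - l)` over `l ∈ L`. -/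
theorem result {α : Type*} [Fintype α] [DecidableEq α] (G : Subgroup (Equiv.Perm α)) (L : Finset ℕ) (hL : ∀ g ∈ G, g ≠ 1 → Nat.card (MulAction.fixedBy α g) ∈ L) : Nat.card G ∣ ∏ l ∈ L, (Fintype.card α - l) := by
  classical
  have : Fintype G := Fintype.ofFinite G
  by_cases hle : ∀ l ∈ L, l ≤ Fintype.card α
  · let fx : G → ℤ := fun g => (Nat.card (MulAction.fixedBy α g) : ℤ)
    have hb : ∀ j : ℕ, (Nat.card G : ℤ) ∣ ∑ g : G, fx g ^ j := by
      intro j
      obtain ⟨m, hm⟩ := burnside_pow (G := G) (α := α) j
      rw [finsum_eq_sum_of_fintype] at hm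
      refine ⟨m, ?_⟩
      have := congrArg (Nat.cast : ℕ → ℤ) hm
      push_cast at this
      rw [mul_comm]
      exact this
    have h0 := key (Nat.card G : ℤ) fx hb L 0
    simp only [pow_zero, one_mul] at h0
    have hsum : ∑ g : G, ∏ l ∈ L, (fx g - (l : ℤ)) = ∏ l ∈ L, ((Fintype.card α : ℤ) - l) := by
      rw [Finset.sum_eq_single (1 : G)]
      · apply Finset.prod_congr rfl
        intro l _
        congr 1
        simp only [fx]
        have : MulAction.fixedBy α (1 : G) = Set.univ := by
          ext x; simp [MulAction.mem_fixedBy]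
        rw [this, Nat.card_coe_set_eq, Set.ncard_univ, Nat.card_eq_fintype_card]
      · intro g _ hg
        have hg' : (g : Equiv.Perm α) ≠ 1 := fun h => hg (Subtype.ext h)
        have hmem := hL g g.2 hg'
        apply Finset.prod_eq_zero hmem
        simp only [fx]
        exact sub_self _
      · intro h; exact absurd (Finset.mem_univ _) h
    rw [hsum] at h0
    have hcast : ((∏ l ∈ L, (Fintype.card α - l) : ℕ) : ℤ) = ∏ l ∈ L, ((Fintype.card α : ℤ) - l) := by
      rw [Nat.cast_prod]
      apply Finset.prod_congr rfl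
      intro l hl
      rw [Nat.cast_sub (hle l hl)]
    rw [← hcast] at h0
    exact Int.natCast_dvd_natCast.mp h0
  · push Not at hle
    obtain ⟨l, hl, hlt⟩ := hle
    have : ∏ l ∈ L, (Fintype.card α - l) = 0 := by
      apply Finset.prod_eq_zero hl
      omega
    rw [this]
    exact dvd_zero _

end Cfsg.Agent.S0724
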