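import Cfsg.Statements.S0728
import Cfsg.Agent.Lib.Lead.SharpThree
import Mathlib

set_option autoImplicit false
open Cfsg

namespace Cfsg.Agent.S0728

/-- In a sharply triply transitive group of even degree at least 6 (degree `q + 1`, `q` odd), a two-point stabiliser has at most one subgroup of order 3. -/
theorem result {α : Type*} [Fintype α] [DecidableEq α] (heven : Even (Fintype.card α)) (h6 : 6 ≤ Fintype.card α) (G : Subgroup (Equiv.Perm α)) (h3 : MulAction.IsMultiplyPretransitive G α 3) (hsharp : ∀ x : Fin 3 ↪ α, MulAction.stabilizer G x = ⊥) {a b : α} (hab : a ≠ b) (A B : Subgroup G) (hA : A ≤ MulAction.stabilizer G a ⊓ MulAction.stabilizer G b) (hB : B ≤ MulAction.stabilizer G a ⊓ MulAction.stabilizer G b) (hA3 : Nat.card A = 3) (hB3 : Nat.card B = 3) : A = B := by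
  classical
  by_contra hne
  -- a third point
  obtain ⟨c₀, hc₀⟩ : ∃ c₀ : α, c₀ ≠ a ∧ c₀ ≠ b := by
    have h3lt : 2 < Fintype.card α := by omega
    obtain ⟨p, q, r, hpq, hpr, hqr⟩ := Fintype.two_lt_card_iff.1 h3lt
    by_cases hpa : p = a
    · by_cases hqb : q = b
      · exact ⟨r, fun h => hpr (hpa.trans h.symm), fun h => hqr (hqb.trans h.symm)⟩
      · exact ⟨q, fun h => hpq (hpa.trans h.symm), hqb⟩
    · by_cases hpb : p = b
      · by_cases hqa : q = a
        · exact ⟨r, fun h => hqr (hqa.trans h.symm), fun h => hpr (hpb.trans h.symm)⟩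
        · exact ⟨q, hqa, fun h => hpq (hpb.trans h.symm)⟩
      · exact ⟨p, hpa, hpb⟩
  have hle := Cfsg.Agent.Lead.SharpThree.card_order3_le_two (K := G) (Ω := α) h3 hsharp hab
    (Ne.symm hc₀.1) (Ne.symm hc₀.2)
  -- elements of order 3
  have hord : ∀ (C : Subgroup G), Nat.card C = 3 → ∀ x ∈ C, x ≠ 1 → orderOf x = 3 := by
    intro C hC x hx hx1
    have h1 := C.orderOf_dvd_natCard hx
    rw [hC] at h1
    rcases (Nat.dvd_prime (by norm_num : Nat.Prime 3)).1 h1 with h | h
    · exact absurd (orderOf_eq_one_iff.1 h) hx1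
    · exact h
  have hBA : ¬ B ≤ A := by
    intro hBA
    exact hne (Subgroup.eq_of_le_of_card_ge hBA (by rw [hA3, hB3])).symm
  obtain ⟨y, hyB, hyA⟩ := SetLike.not_le_iff_exists.1 hBA
  have hy1 : y ≠ 1 := fun h => hyA (h ▸ A.one_mem)
  have hyo := hord B hB3 y hyB hy1
  obtain ⟨x, hxA, hx1⟩ : ∃ x ∈ A, x ≠ 1 := by
    haveI : Nontrivial A := by
      rw [← Finite.one_lt_card_iff_nontrivial, hA3]; omega
    exact Subgroup.exists_ne_one_of_nontrivial _
  have hxo := hord A hA3 x hxA hx1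
  have hxi : x⁻¹ ∈ A := A.inv_mem hxA
  have hxi1 : x⁻¹ ≠ 1 := fun h => hx1 (inv_eq_one.1 h)
  have hxio := hord A hA3 x⁻¹ hxi hxi1
  have hxx : x ≠ x⁻¹ := by
    intro h
    have h2 : x ^ 2 = 1 := by
      rw [pow_two]
      nth_rewrite 2 [h]
      exact mul_inv_cancel x
    have := orderOf_dvd_of_pow_eq_one h2
    rw [hxo] at this
    omega
  have fixA : ∀ z ∈ A, z • a = a ∧ z • b = b := fun z hz => by
    have := hA hz
    rw [Subgroup.mem_inf, MulAction.mem_stabilizer_iff, MulAction.mem_stabilizer_iff] at this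
    exact this
  have fixB : ∀ z ∈ B, z • a = a ∧ z • b = b := fun z hz => by
    have := hB hz
    rw [Subgroup.mem_inf, MulAction.mem_stabilizer_iff, MulAction.mem_stabilizer_iff] at this
    exact this
  haveI : Fintype {z : G // z • a = a ∧ z • b = b ∧ orderOf z = 3} := Fintype.ofFinite _
  rw [Nat.card_eq_fintype_card] at hle
  have hlt : 2 < Fintype.card {z : G // z • a = a ∧ z • b = b ∧ orderOf z = 3} := by
    rw [Fintype.two_lt_card_iff]
    refine ⟨⟨x, (fixA x hxA).1, (fixA x hxA).2, hxo⟩, ⟨x⁻¹, (fixA _ hxi).1, (fixA _ hxi).2, hxio⟩,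
      ⟨y, (fixB y hyB).1, (fixB y hyB).2, hyo⟩, ?_, ?_, ?_⟩
    · intro h
      exact hxx (congrArg Subtype.val h)
    · intro h
      have h' : x = y := congrArg Subtype.val h
      exact hyA (h' ▸ hxA)
    · intro h
      have h' : x⁻¹ = y := congrArg Subtype.val h
      exact hyA (h' ▸ hxi)
  omega

end Cfsg.Agent.S0728
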