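import Cfsg.Statements.S0733
import Mathlib

set_option autoImplicit false
open Cfsg

namespace Cfsg.Agent.S0733

open MulAction
open scoped Pointwise

/-- A permutation group of affine type — generated by the translations of a finite vector space `V` over `ZMod p` together with a group `G₀` of linear automorphisms — is primitive on `V` if and only if `G₀` is irreducible on `V`. -/
theorem result {p : ℕ} [Fact p.Prime] {V : Type*} [AddCommGroup V] [Module (ZMod p) V] [Finite V] [Nontrivial V] (G₀ : Subgroup (V ≃ₗ[ZMod p] V)) (G : Subgroup (Equiv.Perm V)) (hG : ∀ σ : Equiv.Perm V, σ ∈ G ↔ ∃ g ∈ G₀, ∃ b : V, ∀ x : V, σ x = (g : V ≃ₗ[ZMod p] V) x + b) : MulAction.IsPreprimitive G V ↔ ∀ W : Submodule (ZMod p) V, (∀ g ∈ G₀, ∀ v ∈ W, (g : V ≃ₗ[ZMod p] V) v ∈ W) → W = ⊥ ∨ W = ⊤ := by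
  -- affine permutations
  let aff : (V ≃ₗ[ZMod p] V) → V → Equiv.Perm V := fun g b => g.toEquiv.trans (Equiv.addRight b)
  have haff_apply : ∀ g b x, aff g b x = g x + b := fun g b x => rfl
  have haff_mem : ∀ g ∈ G₀, ∀ b, aff g b ∈ G := fun g hg b =>
    (hG _).mpr ⟨g, hg, b, fun x => rfl⟩
  have hsmul : ∀ (σ : G) (x : V), σ • x = (σ : Equiv.Perm V) x := fun σ x => rfl
  have htrans : IsPretransitive G V := by
    refine ⟨fun x y => ⟨⟨aff 1 (y - x), haff_mem 1 G₀.one_mem _⟩, ?_⟩⟩
    rw [hsmul]
    show aff 1 (y - x) x = y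
    rw [haff_apply]
    simp
  constructor
  · -- primitive implies irreducible
    intro hprim W hW
    have hblock : IsBlock G (W : Set V) := by
      rw [isBlock_iff_smul_eq_of_mem]
      intro σ x hx hσx
      obtain ⟨g, hg, b, hσ⟩ := (hG _).mp σ.2
      rw [hsmul, hσ] at hσx
      have hgx : g x ∈ W := hW g hg x hx
      have hb : b ∈ W := by
        have := W.sub_mem hσx hgx
        rwa [add_sub_cancel_left] at this
      ext y
      constructor
      · rintro ⟨z, hz, rfl⟩
        show σ • z ∈ W
        rw [hsmul, hσ]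
        exact W.add_mem (hW g hg z hz) hb
      · intro hy
        have hginv : g⁻¹ ∈ G₀ := G₀.inv_mem hg
        refine ⟨g⁻¹ (y - b), hW g⁻¹ hginv _ (W.sub_mem hy hb), ?_⟩
        show σ • (g⁻¹ (y - b)) = y
        rw [hsmul, hσ]
        have : g (g⁻¹ (y - b)) = y - b := by
          show (g * g⁻¹) (y - b) = y - b
          rw [mul_inv_cancel]; rfl
        rw [this, sub_add_cancel]
    rcases hprim.isTrivialBlock_of_isBlock hblock with h | h
    · left
      rw [Submodule.eq_bot_iff]
      intro x hx
      exact h hx W.zero_mem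
    · right
      rw [Submodule.eq_top_iff']
      intro x
      have : x ∈ (W : Set V) := by rw [h]; trivial
      exact this
  · -- irreducible implies primitive
    intro hirr
    apply IsPreprimitive.of_isTrivialBlock_base (0 : V)
    intro B h0 hB
    have hadd : ∀ x ∈ B, ∀ y ∈ B, x + y ∈ B := by
      intro x hx y hy
      set σ : G := ⟨aff 1 y, haff_mem 1 G₀.one_mem y⟩ with hσ
      have h1 : σ • (0 : V) = y := by
        rw [hsmul]; show aff 1 y 0 = y
        rw [haff_apply]; simp
      have h2 : σ • B = B := hB.smul_eq_of_mem h0 (by rw [h1]; exact hy)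
      have h3 : σ • x = x + y := by
        rw [hsmul]; show aff 1 y x = x + y
        rw [haff_apply]; simp
      rw [← h2, ← h3]
      exact Set.smul_mem_smul_set hx
    have hnsmul : ∀ (n : ℕ), ∀ x ∈ B, n • x ∈ B := by
      intro n x hx
      induction n with
      | zero => rw [zero_smul]; exact h0
      | succ k ih => rw [succ_nsmul]; exact hadd _ ih _ hx
    let W : Submodule (ZMod p) V :=
      { carrier := B
        add_mem' := fun {x y} hx hy => hadd x hx y hy
        zero_mem' := h0
        smul_mem' := by
          intro c x hx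
          have : c • x = c.val • x := by
            rw [← Nat.cast_smul_eq_nsmul (ZMod p), ZMod.natCast_zmod_val]
          rw [this]
          exact hnsmul _ x hx }
    have hWB : (W : Set V) = B := rfl
    have hinv : ∀ g ∈ G₀, ∀ v ∈ W, (g : V ≃ₗ[ZMod p] V) v ∈ W := by
      intro g hg v hv
      set σ : G := ⟨aff g 0, haff_mem g hg 0⟩ with hσ
      have h1 : σ • (0 : V) = 0 := by
        rw [hsmul]; show aff g 0 0 = 0
        rw [haff_apply]; simp
      have h2 : σ • B = B := hB.smul_eq_of_mem h0 (by rw [h1]; exact h0)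
      have h3 : σ • v = g v := by
        rw [hsmul]; show aff g 0 v = g v
        rw [haff_apply]; simp
      show g v ∈ B
      rw [← h2, ← h3]
      exact Set.smul_mem_smul_set hv
    rcases hirr W hinv with h | h
    · left
      intro x hx y hy
      have hx' : x ∈ W := hx
      have hy' : y ∈ W := hy
      rw [h, Submodule.mem_bot] at hx' hy'
      rw [hx', hy']
    · right
      rw [← hWB, h]
      rfl

end Cfsg.Agent.S0733
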