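import Cfsg.Statements.S0735
import Mathlib

set_option autoImplicit false
open Cfsg

namespace Cfsg.Agent.S0735

open scoped Pointwise

theorem two_homog {α : Type*} [DecidableEq α] {G : Type*} [Group G] [MulAction G α]
    (h2 : MulAction.IsPretransitive G (Set.powersetCard α 2)) {x y x' y' : α}
    (hxy : x ≠ y) (hxy' : x' ≠ y') :
    ∃ g : G, (g • x = x' ∧ g • y = y') ∨ (g • x = y' ∧ g • y = x') := by
  let s : Set.powersetCard α 2 := ⟨{x, y}, by simp [Finset.card_pair hxy]⟩
  let s' : Set.powersetCard α 2 := ⟨{x', y'}, by simp [Finset.card_pair hxy']⟩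
  obtain ⟨g, hg⟩ := h2.exists_smul_eq s s'
  have h : g • ({x, y} : Finset α) = {x', y'} := by
    have := congrArg Subtype.val hg
    simpa [Set.powersetCard.coe_smul] using this
  refine ⟨g, ?_⟩
  have hx : g • x ∈ ({x', y'} : Finset α) := by
    rw [← h]; exact Finset.smul_mem_smul_finset (by simp)
  have hy : g • y ∈ ({x', y'} : Finset α) := by
    rw [← h]; exact Finset.smul_mem_smul_finset (by simp)
  have hne : g • x ≠ g • y := fun he => hxy (smul_left_cancel g he)
  simp only [Finset.mem_insert, Finset.mem_singleton] at hx hy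
  rcases hx with hx | hx <;> rcases hy with hy | hy
  · exact absurd (hx.trans hy.symm) hne
  · exact Or.inl ⟨hx, hy⟩
  · exact Or.inr ⟨hx, hy⟩
  · exact absurd (hx.trans hy.symm) hne

theorem exists_third {α : Type*} [Fintype α] [DecidableEq α] (hα : 3 ≤ Fintype.card α) (x y : α) :
    ∃ z : α, z ≠ x ∧ z ≠ y := by
  by_contra hcon
  push Not at hcon
  have : (Finset.univ : Finset α) ⊆ {x, y} := by
    intro z _
    by_cases hz : z = x
    · simp [hz]
    · simp [hcon z hz]
  have := Finset.card_le_card this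
  have h2 : ({x, y} : Finset α).card ≤ 2 := Finset.card_le_two
  rw [Finset.card_univ] at this
  omega

theorem pretransitive {α : Type*} [Fintype α] [DecidableEq α] {G : Type*} [Group G] [MulAction G α]
    (h2 : MulAction.IsPretransitive G (Set.powersetCard α 2)) (hα : 3 ≤ Fintype.card α) :
    MulAction.IsPretransitive G α := by
  refine ⟨fun x y => ?_⟩
  by_contra hcon
  have hy : y ∉ MulAction.orbit G x := fun ⟨g, hg⟩ => hcon ⟨g, hg⟩
  have hxy : x ≠ y := fun h => hy (h ▸ MulAction.mem_orbit_self x)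
  have hinv : ∀ (g : G) (w : α), g • w ∈ MulAction.orbit G x ↔ w ∈ MulAction.orbit G x := by
    intro g w
    rw [← MulAction.orbit_eq_iff, ← MulAction.orbit_eq_iff, MulAction.orbit_smul]
  obtain ⟨z, hzx, hzy⟩ := exists_third hα x y
  by_cases hz : z ∈ MulAction.orbit G x
  · obtain ⟨g, hg⟩ := two_homog h2 (Ne.symm hzx) hxy
    rcases hg with ⟨_, h⟩ | ⟨h, _⟩
    · exact hy (h ▸ (hinv g z).mpr hz)
    · exact hy (h ▸ (hinv g x).mpr (MulAction.mem_orbit_self x))
  · obtain ⟨g, hg⟩ := two_homog h2 (Ne.symm hzy) hxy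
    rcases hg with ⟨h, _⟩ | ⟨_, h⟩
    · exact hy ((hinv g y).mp (by rw [h]; exact MulAction.mem_orbit_self x))
    · exact hz ((hinv g z).mp (by rw [h]; exact MulAction.mem_orbit_self x))

/-- A 2-homogeneous permutation group (transitive on 2-subsets) of even order is doubly transitive; a non-trivial 2-homogeneous group is primitive. -/
theorem result {α : Type*} [Fintype α] [DecidableEq α] (G : Subgroup (Equiv.Perm α)) (h2 : MulAction.IsPretransitive G (Set.powersetCard α 2)) (hα : 3 ≤ Fintype.card α) : (Even (Nat.card G) → MulAction.IsMultiplyPretransitive G α 2) ∧ (G ≠ ⊥ → MulAction.IsPreprimitive G α) := by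
  constructor
  · intro heven
    have : Fact (Nat.Prime 2) := ⟨Nat.prime_two⟩
    obtain ⟨t, ht⟩ := exists_prime_orderOf_dvd_card' (G := G) 2 (even_iff_two_dvd.mp heven)
    have ht1 : t ≠ 1 := by
      intro h; rw [h, orderOf_one] at ht; omega
    have ht2 : t * t = 1 := by
      rw [← pow_two, ← ht]; exact pow_orderOf_eq_one t
    obtain ⟨a, ha⟩ : ∃ a : α, t • a ≠ a := by
      by_contra hcon
      push Not at hcon
      apply ht1
      apply Subtype.ext
      ext x
      exact hcon x
    have hb : t • (t • a) = a := by rw [smul_smul, ht2, one_smul]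
    rw [MulAction.is_two_pretransitive_iff]
    intro c d c' d' hcd hcd'
    -- move (c, d) to (a, t a)
    obtain ⟨g1, hg1⟩ : ∃ g : G, g • c = a ∧ g • d = t • a := by
      obtain ⟨g, hg⟩ := two_homog h2 hcd (Ne.symm ha)
      rcases hg with ⟨h1, h2'⟩ | ⟨h1, h2'⟩
      · exact ⟨g, h1, h2'⟩
      · exact ⟨t * g, by rw [mul_smul, h1, hb], by rw [mul_smul, h2']⟩
    obtain ⟨g2, hg2⟩ : ∃ g : G, g • a = c' ∧ g • (t • a) = d' := by
      obtain ⟨g, hg⟩ := two_homog h2 (Ne.symm ha) hcd'
      rcases hg with ⟨h1, h2'⟩ | ⟨h1, h2'⟩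
      · exact ⟨g, h1, h2'⟩
      · exact ⟨g * t, by rw [mul_smul, h2'], by rw [mul_smul, hb, h1]⟩
    exact ⟨g2 * g1, by rw [mul_smul, hg1.1, hg2.1], by rw [mul_smul, hg1.2, hg2.2]⟩
  · intro _
    have htrans := pretransitive h2 hα
    refine { toIsPretransitive := htrans, isTrivialBlock_of_isBlock := ?_ }
    intro B hB
    by_contra hcon
    unfold MulAction.IsTrivialBlock at hcon
    push Not at hcon
    obtain ⟨hns, hnu⟩ := hcon
    obtain ⟨x, hx, y, hy, hxy⟩ := hns
    obtain ⟨z, hz⟩ := (Set.ne_univ_iff_exists_notMem B).mp hnu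
    have hxz : x ≠ z := fun h => hz (h ▸ hx)
    obtain ⟨g, hg⟩ := two_homog h2 hxy hxz
    rcases hg with ⟨h1, h2'⟩ | ⟨h1, h2'⟩
    · have hgB : g • B = B := hB.smul_eq_of_mem hx (by rw [h1]; exact hx)
      apply hz
      rw [← h2', ← hgB]
      exact Set.smul_mem_smul_set hy
    · have hgB : g • B = B := hB.smul_eq_of_mem hy (by rw [h2']; exact hx)
      apply hz
      rw [← h1, ← hgB]
      exact Set.smul_mem_smul_set hx

end Cfsg.Agent.S0735
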