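import Cfsg.Statements.S0736
import Mathlib
import Cfsg.Agent.Lib.Helper4.Homog

set_option autoImplicit false
open Cfsg
open scoped commutatorElement

namespace Cfsg.Agent.S0736

open scoped Pointwise

/-- A `k`-homogeneous permutation group of degree `n`, `k ≥ 2`, with `k + q - 1 ≤ n` for every prime power `q` dividing `k`, is `(k-1)`-homogeneous. -/
theorem result {α : Type*} [Fintype α] [DecidableEq α] (G : Subgroup (Equiv.Perm α)) {k : ℕ} (hk : 2 ≤ k) (hG : MulAction.IsPretransitive G (Set.powersetCard α k)) (hq : ∀ q : ℕ, IsPrimePow q → q ∣ k → k + q - 1 ≤ Fintype.card α) : MulAction.IsPretransitive G (Set.powersetCard α (k - 1)) := by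
  classical
  have hk2 : ∃ p : ℕ, p.Prime ∧ p ∣ k := Nat.exists_prime_and_dvd (by omega)
  -- the degree exceeds `k`
  have hn : k + 1 ≤ Fintype.card α := by
    obtain ⟨p, hp, hpk⟩ := hk2
    have := hq p hp.isPrimePow hpk
    have := hp.two_le
    omega
  have hchoose : k.choose (k - 1) = k := by
    obtain ⟨m, hm⟩ : ∃ m, k = m + 1 := ⟨k - 1, by omega⟩
    rw [hm, Nat.add_sub_cancel, Nat.choose_succ_self_right]
  refine ⟨fun S S' => ?_⟩
  have hSc : (S : Finset α).card = k - 1 := Set.powersetCard.mem_iff.mp S.2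
  have hS'c : (S' : Finset α).card = k - 1 := Set.powersetCard.mem_iff.mp S'.2
  let R : Finset α → Prop := fun T => ∃ g : G, g • (S : Finset α) = T
  have hRinv : ∀ (g : G) (T : Finset α), R T ↔ R (g • T) := by
    intro g T
    constructor
    · rintro ⟨x, rfl⟩
      exact ⟨g * x, mul_smul g x _⟩
    · rintro ⟨x, hx⟩
      refine ⟨g⁻¹ * x, ?_⟩
      rw [mul_smul, hx, inv_smul_smul]
  have hhom : ∀ K K' : Finset α, K.card = k → K'.card = k → ∃ g : G, g • K = K' := by
    intro K K' hK hK'
    obtain ⟨g, hg⟩ := hG.exists_smul_eq (⟨K, Set.powersetCard.mem_iff.mpr hK⟩ : Set.powersetCard α k)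
      ⟨K', Set.powersetCard.mem_iff.mpr hK'⟩
    refine ⟨g, ?_⟩
    have h1 := congrArg (fun x : Set.powersetCard α k => (x : Finset α)) hg
    exact (Set.powersetCard.coe_smul (g := g)
      (s := (⟨K, Set.powersetCard.mem_iff.mpr hK⟩ : Set.powersetCard α k))).symm.trans h1
  have hcinv : ∀ (g : G) (K : Finset α),
      (((g • K).powersetCard (k - 1)).filter R).card = ((K.powersetCard (k - 1)).filter R).card := by
    intro g K
    symm
    apply Finset.card_nbij' (fun T => g • T) (fun T => g⁻¹ • T)
    · intro T hT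
      simp only [Finset.coe_filter, Finset.mem_powersetCard, Set.mem_ofPred_eq] at hT ⊢
      exact ⟨⟨Finset.smul_finset_subset_smul_finset_iff.mpr hT.1.1,
        by rw [Finset.card_smul_finset]; exact hT.1.2⟩, (hRinv g T).mp hT.2⟩
    · intro T hT
      simp only [Finset.coe_filter, Finset.mem_powersetCard, Set.mem_ofPred_eq] at hT ⊢
      refine ⟨⟨?_, by rw [Finset.card_smul_finset]; exact hT.1.2⟩, ?_⟩
      · rw [← Finset.smul_finset_subset_smul_finset_iff (a := g), smul_inv_smul]
        exact hT.1.1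
      · rw [hRinv g, smul_inv_smul]
        exact hT.2
    · intro T _
      exact inv_smul_smul g T
    · intro T _
      exact smul_inv_smul g T
  -- supersets
  have hsup : ∀ T : Finset α, T.card = k - 1 → ∃ K : Finset α, K.card = k ∧ T ⊆ K := by
    intro T hT
    have : ∃ x, x ∉ T := by
      by_contra hno
      push Not at hno
      have : T = Finset.univ := Finset.eq_univ_iff_forall.mpr hno
      rw [this, Finset.card_univ] at hT
      omega
    obtain ⟨x, hx⟩ := this
    refine ⟨insert x T, ?_, Finset.subset_insert x T⟩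
    rw [Finset.card_insert_of_notMem hx, hT]
    omega
  obtain ⟨K₀, hK₀c, hSK₀⟩ := hsup _ hSc
  set c := ((K₀.powersetCard (k - 1)).filter R).card with hc
  have hcK : ∀ K : Finset α, K.card = k → ((K.powersetCard (k - 1)).filter R).card = c := by
    intro K hK
    obtain ⟨g, hg⟩ := hhom K₀ K hK₀c hK
    rw [← hg, hcinv]
  have hc1 : 1 ≤ c := by
    rw [hc, Nat.succ_le_iff, Finset.card_pos]
    refine ⟨(S : Finset α), ?_⟩
    rw [Finset.mem_filter, Finset.mem_powersetCard]
    exact ⟨⟨hSK₀, hSc⟩, ⟨1, one_smul _ _⟩⟩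
  have hck : c ≤ k := by
    calc c ≤ (K₀.powersetCard (k - 1)).card := Finset.card_filter_le _ _
      _ = k := by
        rw [Finset.card_powersetCard, hK₀c, hchoose]
  have hceq : c = k := by
    apply Cfsg.Agent.Lib.Helper4.Homog.eq_of_forall_dvd k c (by omega) hc1 hck
    intro p hp hpk
    have hfpos : 0 < k.factorization p := hp.factorization_pos_of_dvd (by omega) hpk
    have hpp : IsPrimePow (p ^ (k.factorization p)) := hp.isPrimePow.pow hfpos.ne'
    have hle := hq _ hpp (Nat.ordProj_dvd k p)
    obtain ⟨Y, -, hY⟩ := Finset.exists_subset_card_eq (s := (Finset.univ : Finset α))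
      (n := k + p ^ (k.factorization p) - 1) (by rw [Finset.card_univ]; exact hle)
    have := Cfsg.Agent.Lib.Helper4.Homog.double_count Y k (p ^ (k.factorization p)) (by omega) hY
      R c (fun K hK => hcK K (Finset.mem_powersetCard.mp hK).2)
    rw [this]
    exact dvd_mul_right _ _
  -- conclusion
  obtain ⟨K', hK'c, hS'K'⟩ := hsup _ hS'c
  have hall : ∀ T ∈ K'.powersetCard (k - 1), R T := by
    rw [← Finset.card_filter_eq_iff, hcK K' hK'c, hceq, Finset.card_powersetCard, hK'c, hchoose]
  obtain ⟨g, hg⟩ := hall _ (Finset.mem_powersetCard.mpr ⟨hS'K', hS'c⟩)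
  refine ⟨g, ?_⟩
  apply Subtype.ext
  exact (Set.powersetCard.coe_smul (g := g) (s := S)).trans hg

end Cfsg.Agent.S0736
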