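import Cfsg.Statements.S0745
import Cfsg.Agent.Lib.Helper5.LW.Count
import Cfsg.Agent.Lib.Helper5.LW.Small
import Cfsg.Agent.Lib.Helper5.LW.Kill23
import Cfsg.Agent.Lib.Helper5.LW.Kill71
import Cfsg.Agent.Lib.Helper5.LW.KillSharp
import Cfsg.Agent.Lib.Lead.LWStep

set_option autoImplicit false
open Cfsg

namespace Cfsg.Agent.S0745

/-- Let `G` have degree `n` and `3 ≤ k ≤ n`; suppose `G` is `(k-2)`-transitive but not `(k-1)`-transitive, and is `(k-1)`-homogeneous and `k`-homogeneous. Then `k = n` and `G` is the alternating group, or `n = 5, k = 4, |G| = 20`, or `n = 6, k = 5, |G| = 120`, or `n = 9, k = 5, |G| ∈ {504, 1512}`. -/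
theorem result {α : Type*} [Fintype α] [DecidableEq α] (G : Subgroup (Equiv.Perm α)) {k : ℕ} (hk : 3 ≤ k) (hkn : k ≤ Fintype.card α) (ht : MulAction.IsMultiplyPretransitive G α (k - 2)) (hnt : ¬ MulAction.IsMultiplyPretransitive G α (k - 1)) (hh1 : MulAction.IsPretransitive G (Set.powersetCard α (k - 1))) (hh : MulAction.IsPretransitive G (Set.powersetCard α k)) : (k = Fintype.card α ∧ G = alternatingGroup α) ∨ (Fintype.card α = 5 ∧ k = 4 ∧ Nat.card G = 20) ∨ (Fintype.card α = 6 ∧ k = 5 ∧ Nat.card G = 120) ∨ (Fintype.card α = 9 ∧ k = 5 ∧ (Nat.card G = 504 ∨ Nat.card G = 1512)) := by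
  classical
  obtain ⟨j, rfl⟩ : ∃ j, k = j + 2 := ⟨k - 2, by omega⟩
  have hj1 : 1 ≤ j := by omega
  have e2 : j + 2 - 2 = j := by omega
  have e1 : j + 2 - 1 = j + 1 := by omega
  rw [e2] at ht
  rw [e1] at hnt hh1
  by_cases hj3 : j ≤ 3
  · rcases Cfsg.Agent.Lib.Helper5.LW.lw_small_cases hj1 hj3 ht hnt hh1 hh hkn with
      ⟨hn, hA⟩ | ⟨rfl, hn, hc⟩ | ⟨rfl, hn, hc⟩ | ⟨rfl, hn, hc⟩
    · exact Or.inl ⟨hn.symm, hA⟩
    · exact Or.inr (Or.inl ⟨hn, rfl, hc⟩)
    · exact Or.inr (Or.inr (Or.inl ⟨hn, rfl, hc⟩))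
    · exact Or.inr (Or.inr (Or.inr ⟨hn, rfl, hc⟩))
  · push Not at hj3
    have hj4 : 4 ≤ j := by omega
    obtain ⟨r, h, hcard, hbot, hr2, hodd, hrh, hr1, -, hcG, -, -, -⟩ :=
      Cfsg.Agent.Lib.Helper5.LW.lw_count ht hnt hh1 hh hkn
    -- `n ≤ j + 7`
    have hn7 : Fintype.card α ≤ j + 7 := by
      by_contra hcon
      push Not at hcon
      obtain ⟨s, hs⟩ := Cfsg.Agent.Lib.Lead.LWStep.exists_finset_card (α := α) (j - 4) (by omega)
      exact Cfsg.Agent.Lib.Lead.LWGlue.lw_big G s (by omega) ht hbot hcard hodd (by omega)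
        (fun h4 ho htr => Cfsg.Agent.Lib.Helper8.LW.four_trans_bound h4 ho htr)
    have hhpos : 1 ≤ h := by
      rcases hodd with ⟨m, hm⟩
      omega
    have hrh7 : r * h ≤ 7 := by omega
    by_cases hh1' : h = 1
    · subst hh1'
      rw [mul_one] at hrh hcG
      have hn : Fintype.card α = j + r := by omega
      by_cases hr2' : r = 2
      · subst hr2'
        left
        exact ⟨hn.symm, Cfsg.Agent.Lib.Helper5.LW.eq_alternatingGroup_of_descFactorial hn hcG⟩
      · exfalso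
        by_cases hr7 : r = 7
        · subst hr7
          have h7 : (7 : ℕ) ≤ j + 1 :=
            (Nat.Prime.dvd_factorial (by norm_num : Nat.Prime 7)).1 hr1
          exact Cfsg.Agent.Lib.Helper5.LW.kill71 (by omega) ht hcard hn
        · exact Cfsg.Agent.Lib.Helper5.LW.kill_sharp hj4 ht hcard (by omega) (by omega)
    · exfalso
      have hh3 : 3 ≤ h := by
        rcases hodd with ⟨m, hm⟩
        omega
      have hr : r = 2 := by
        by_contra hne
        have : 3 * 3 ≤ r * h := Nat.mul_le_mul (by omega) hh3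
        omega
      subst hr
      have hh3' : h = 3 := by omega
      subst hh3'
      exact Cfsg.Agent.Lib.Helper5.LW.kill23 hj4 ht hcard hbot (by omega)

end Cfsg.Agent.S0745
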