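import Cfsg.Statements.S0746
import Cfsg.Agent.S0736
import Cfsg.Agent.Lib.Helper5.LW.Count
import Cfsg.Agent.Lib.Lead.LWStep

set_option autoImplicit false
open Cfsg

namespace Cfsg.Agent.S0746

open MulAction

/-- The inductive form of Livingstone--Wagner, first form. -/
theorem main {α : Type*} [Fintype α] [DecidableEq α] (G : Subgroup (Equiv.Perm α)) :
    ∀ k : ℕ, 2 ≤ k → 2 * k ≤ Fintype.card α →
      MulAction.IsPretransitive G (Set.powersetCard α k) →
      MulAction.IsMultiplyPretransitive G α (k - 1) := by
  intro k hk
  induction k, hk using Nat.le_induction with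
  | base =>
    intro hkn hh
    have h1 : MulAction.IsPretransitive G (Set.powersetCard α (2 - 1)) := by
      refine Cfsg.Agent.S0736.result G (le_refl 2) hh ?_
      intro q hq hq2
      have : q ≤ 2 := Nat.le_of_dvd (by norm_num) hq2
      omega
    have h2 : MulAction.IsPretransitive G α :=
      (MulAction.isPretransitive_congr Function.surjective_id
        (Set.powersetCard.mulActionHom_singleton_bijective G α)).mpr h1
    exact MulAction.is_one_pretransitive_iff.mpr h2
  | succ k hk ih =>
    intro hkn hh
    -- `G` is `k`-homogeneous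
    have hh1 : MulAction.IsPretransitive G (Set.powersetCard α k) := by
      have := Cfsg.Agent.S0736.result G (k := k + 1) (by omega) hh (by
        intro q hq hqk
        have : q ≤ k + 1 := Nat.le_of_dvd (by omega) hqk
        omega)
      simpa using this
    -- hence `(k-1)`-transitive
    have ht : MulAction.IsMultiplyPretransitive G α (k - 1) := ih (by omega) hh1
    change MulAction.IsMultiplyPretransitive G α k
    by_contra hnt
    obtain ⟨j, rfl⟩ : ∃ j, k = j + 1 := ⟨k - 1, by omega⟩
    simp only [Nat.add_sub_cancel] at ht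
    obtain ⟨r, h, hall, hbot, hr2, hodd, hrh, hdvd1, hdvd2, -, -, -, -⟩ :=
      Cfsg.Agent.Lib.Helper5.LW.lw_count (G := G) ht hnt hh1 hh (by omega)
    exact Cfsg.Agent.Lib.Lead.LWStep.lw_step G (by omega) (by omega) ht hbot hall hr2 hodd hrh
      hdvd1 hdvd2

/-- The Livingstone–Wagner Theorem, first form: a `k`-homogeneous group of degree `n` with `4 ≤ 2k ≤ n` is `(k-1)`-transitive. -/
theorem result {α : Type*} [Fintype α] [DecidableEq α] (G : Subgroup (Equiv.Perm α)) {k : ℕ} (hk : 2 ≤ k) (hkn : 2 * k ≤ Fintype.card α) (hh : MulAction.IsPretransitive G (Set.powersetCard α k)) : MulAction.IsMultiplyPretransitive G α (k - 1) := by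
  exact main G k hk hkn hh

end Cfsg.Agent.S0746
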