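import Cfsg.Statements.S0748
import Cfsg.Agent.S0746
import Cfsg.Agent.Lib.Helper5.LW.Lw748A
import Cfsg.Agent.Lib.Helper5.LW.Lw748B
import Cfsg.Agent.Lib.Helper5.LW.Lw748C
import Cfsg.Agent.Lib.Helper8.Lw747O

set_option autoImplicit false
open Cfsg

namespace Cfsg.Agent.S0748

open MulAction Cfsg.Agent.Lib.Helper5.LW

universe u

/-- Livingstone–Wagner (ii).  By S0746 `G` is `(k-1)`-transitive.  Let `h`, `d` be the orders of the pointwise
stabilisers of `(k-1)`-sets and `k`-sets.  (I) `v₂(d) < v₂(h)`: lead's swap lemma gives all transpositions of a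
`k`-set.  (II) `h` odd: impossible by M. Hall's theorem.  (III) `h` even, `v₂(d) = v₂(h)`: Witt + step (O) of
S0747 give all even permutations of a `k`-set, and an involution gives a transposition. -/
theorem main {α : Type u} [Fintype α] [DecidableEq α] (G : Subgroup (Equiv.Perm α)) {k : ℕ}
    (hk : 5 ≤ k) (hkn : 2 * k ≤ Fintype.card α)
    (hh : MulAction.IsPretransitive G (Set.powersetCard α k)) :
    MulAction.IsMultiplyPretransitive G α k := by
  classical
  obtain ⟨j, rfl⟩ : ∃ j, k = j + 2 := ⟨k - 2, by omega⟩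
  have htr : IsMultiplyPretransitive G α (j + 1) := by
    have := Cfsg.Agent.S0746.result G (k := j + 2) (by omega) hkn hh
    simpa using this
  obtain ⟨Γ₀, hΓ₀⟩ := Cfsg.Agent.Lib.Lead.LWStep.exists_finset_card (α := α) (j + 1) (by omega)
  obtain ⟨D₀, hD₀⟩ := Cfsg.Agent.Lib.Lead.LWStep.exists_finset_card (α := α) (j + 2) (by omega)
  obtain ⟨h, hh0⟩ : ∃ h, h = Nat.card (fixingSubgroup G (Γ₀ : Set α)) := ⟨_, rfl⟩
  obtain ⟨d, hd0⟩ : ∃ d, d = Nat.card (fixingSubgroup G (D₀ : Set α)) := ⟨_, rfl⟩
  have hcard1 : ∀ s : Finset α, s.card = j + 1 →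
      Nat.card (fixingSubgroup G (s : Set α)) = h := by
    intro s hs
    have h1 := card_eq_descFactorial_mul htr s hs (by omega)
    have h2 := card_eq_descFactorial_mul htr Γ₀ hΓ₀ (by omega)
    rw [h1] at h2
    rw [hh0]
    exact Nat.eq_of_mul_eq_mul_left (Nat.descFactorial_pos.mpr (by omega)) h2
  have hcard2 : ∀ s : Finset α, s.card = j + 2 →
      Nat.card (fixingSubgroup G (s : Set α)) = d := by
    intro s hs
    rw [hd0]
    exact card_fixing_eq_of_homog G hh s D₀ hs hD₀
  have hdh : d ∣ h := by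
    obtain ⟨c, hc⟩ : ∃ c, c ∈ D₀ := by
      apply Finset.card_pos.mp; omega
    have hle : fixingSubgroup G (D₀ : Set α) ≤
        fixingSubgroup G ((D₀.erase c : Finset α) : Set α) :=
      fixingSubgroup_antitone G α (by
        intro x hx
        exact Finset.mem_of_mem_erase hx)
    have := Subgroup.card_dvd_of_le hle
    rwa [← hd0, hcard1 (D₀.erase c) (by rw [Finset.card_erase_of_mem hc, hD₀]; rfl)] at this
  have hhpos : h ≠ 0 := by rw [hh0]; exact Nat.card_pos.ne'
  have hdpos : d ≠ 0 := by rw [hd0]; exact Nat.card_pos.ne'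
  have hle : d.factorization 2 ≤ h.factorization 2 :=
    (Nat.factorization_le_iff_dvd hdpos hhpos).mpr hdh 2
  rcases Nat.even_or_odd h with heven | hodd
  · rcases lt_or_eq_of_le hle with hlt | heq
    · exact lw748_caseI G hh hcard1 hcard2 hlt (by omega)
    · exact lw748_caseIII G (by omega) htr hh (by omega) hcard1 hcard2 heq heven
        (fun β _ _ Y hlt hY hodd =>
          Cfsg.Agent.Lib.Helper8.LW747.alt_of_odd Y (by omega) hlt hY hodd)
  · exact (lw748_odd (by omega) htr hh hkn hcard1 hodd).elim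

/-- The Livingstone–Wagner Theorem: a `k`-homogeneous permutation group of degree `n` with `10 ≤ 2k ≤ n` is `k`-transitive. -/
theorem result {α : Type*} [Fintype α] [DecidableEq α] (G : Subgroup (Equiv.Perm α)) {k : ℕ} (hk : 5 ≤ k) (hkn : 2 * k ≤ Fintype.card α) (hh : MulAction.IsPretransitive G (Set.powersetCard α k)) : MulAction.IsMultiplyPretransitive G α k := by
  exact main G hk hkn hh

end Cfsg.Agent.S0748
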