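import Cfsg.Statements.S0752
import Mathlib

set_option autoImplicit false
open Cfsg

namespace Cfsg.Agent.S0752

universe u v

theorem aux {F : Type v} [Field F] : ∀ (n : ℕ) (V : Type u) [AddCommGroup V] [Module F V]
    [FiniteDimensional F V] (B : LinearMap.BilinForm F V) (_hA : B.IsAlt),
    Module.finrank F V = n →
    ∃ (m k : ℕ) (b : Module.Basis ((Fin m ⊕ Fin m) ⊕ Fin k) F V), (∀ i j : Fin m, B (b (Sum.inl (Sum.inl i))) (b (Sum.inl (Sum.inr j))) = if i = j then 1 else 0) ∧ (∀ i j : Fin m, B (b (Sum.inl (Sum.inl i))) (b (Sum.inl (Sum.inl j))) = 0) ∧ (∀ i j : Fin m, B (b (Sum.inl (Sum.inr i))) (b (Sum.inl (Sum.inr j))) = 0) ∧ (∀ (j : Fin k) (v : V), B (b (Sum.inr j)) v = 0) := by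
  intro n
  induction n using Nat.strong_induction_on with
  | _ n ih =>
    intro V _ _ _ B hA hn
    by_cases hB : B = 0
    · subst hB
      refine ⟨0, Module.finrank F V, (Module.finBasis F V).reindex (Equiv.emptySum (Fin 0 ⊕ Fin 0) (Fin _)).symm, ?_, ?_, ?_, ?_⟩
      · intro i; exact i.elim0
      · intro i; exact i.elim0
      · intro i; exact i.elim0
      · intro j v; simp
    · obtain ⟨e, f0, hef⟩ : ∃ e f, B e f ≠ 0 := by
        by_contra h
        push Not at h
        exact hB (LinearMap.ext₂ h)
      set f := (B e f0)⁻¹ • f0 with hf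
      have h1 : B e f = 1 := by simp [hf, hef]
      have h1' : B f e = -1 := by rw [← hA.neg_eq e f, h1]
      have hee : B e e = 0 := hA e
      have hff : B f f = 0 := hA f
      let φ : V →ₗ[F] F × F := (B e).prod (B f)
      have hφ : Function.Surjective φ := by
        rintro ⟨a, b⟩
        refine ⟨a • f - b • e, ?_⟩
        simp [φ, h1, h1', hee, hff]
      let W : Submodule F V := LinearMap.ker φ
      have hWmem : ∀ x, x ∈ W ↔ B e x = 0 ∧ B f x = 0 := by
        intro x
        simp [W, φ, LinearMap.mem_ker]
      have hrank : Module.finrank F V = Module.finrank F W + 2 := by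
        have := LinearMap.finrank_range_add_finrank_ker φ
        rw [LinearMap.range_eq_top.2 hφ] at this
        simp at this
        change 2 + Module.finrank F W = Module.finrank F V at this
        omega
      have hlt : Module.finrank F W < n := by omega
      obtain ⟨m, k, b', hb1, hb2, hb3, hb4⟩ := ih _ hlt W (B.restrict W) (fun x => hA x) rfl
      let v : (Fin (m+1) ⊕ Fin (m+1)) ⊕ Fin k → V := fun i =>
        match i with
        | Sum.inl (Sum.inl i) => Fin.cases e (fun i => (b' (Sum.inl (Sum.inl i)) : V)) i
        | Sum.inl (Sum.inr i) => Fin.cases f (fun i => (b' (Sum.inl (Sum.inr i)) : V)) i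
        | Sum.inr j => (b' (Sum.inr j) : V)
      have hspan : ⊤ ≤ Submodule.span F (Set.range v) := by
        intro x _
        have he : e ∈ Submodule.span F (Set.range v) :=
          Submodule.subset_span ⟨Sum.inl (Sum.inl 0), rfl⟩
        have hf' : f ∈ Submodule.span F (Set.range v) :=
          Submodule.subset_span ⟨Sum.inl (Sum.inr 0), rfl⟩
        have hW : ∀ w : W, (w : V) ∈ Submodule.span F (Set.range v) := by
          intro w
          have : w ∈ Submodule.span F (Set.range b') := by
            rw [b'.span_eq]; trivial
          induction this using Submodule.span_induction with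
          | mem y hy =>
            obtain ⟨i, rfl⟩ := hy
            rcases i with (i | i) | j
            · exact Submodule.subset_span ⟨Sum.inl (Sum.inl i.succ), rfl⟩
            · exact Submodule.subset_span ⟨Sum.inl (Sum.inr i.succ), rfl⟩
            · exact Submodule.subset_span ⟨Sum.inr j, rfl⟩
          | zero => simp
          | add y z _ _ hy hz => simpa using Submodule.add_mem _ hy hz
          | smul a y _ hy => simpa using Submodule.smul_mem _ a hy
        have hw : x - (B x f) • e - (B e x) • f ∈ W := by
          rw [hWmem]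
          constructor
          · simp [hee, h1]
          · simp [hff, h1']
            rw [← hA.neg_eq x f]; ring
        have := hW ⟨_, hw⟩
        have h2 : x = (x - (B x f) • e - (B e x) • f) + (B x f) • e + (B e x) • f := by abel
        rw [h2]
        exact Submodule.add_mem _ (Submodule.add_mem _ this (Submodule.smul_mem _ _ he))
          (Submodule.smul_mem _ _ hf')
      have hcard : Fintype.card ((Fin (m+1) ⊕ Fin (m+1)) ⊕ Fin k) = Module.finrank F V := by
        rw [hrank, Module.finrank_eq_card_basis b']
        simp; omega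
      refine ⟨m+1, k, basisOfTopLeSpanOfCardEqFinrank v hspan hcard, ?_, ?_, ?_, ?_⟩
      all_goals simp only [coe_basisOfTopLeSpanOfCardEqFinrank]
      · intro i j
        have hbe : ∀ w : W, B e w = 0 := fun w => ((hWmem w).1 w.2).1
        have hbf : ∀ w : W, B f w = 0 := fun w => ((hWmem w).1 w.2).2
        refine Fin.cases ?_ (fun i => ?_) i <;> refine Fin.cases ?_ (fun j => ?_) j
        · simpa [v] using h1
        · simp only [v, Fin.cases_zero, Fin.cases_succ]
          rw [hbe, if_neg (Fin.succ_ne_zero j).symm]
        · simp only [v, Fin.cases_zero, Fin.cases_succ]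
          rw [← hA.neg_eq, hbf]; simp [Fin.succ_ne_zero]
        · simp only [v, Fin.cases_succ, Fin.succ_inj]
          exact hb1 i j
      · intro i j
        have hbe : ∀ w : W, B e w = 0 := fun w => ((hWmem w).1 w.2).1
        refine Fin.cases ?_ (fun i => ?_) i <;> refine Fin.cases ?_ (fun j => ?_) j
        · simpa [v] using hee
        · simpa [v] using (hbe _)
        · simp only [v, Fin.cases_zero, Fin.cases_succ]
          rw [← hA.neg_eq, hbe]; simp
        · simp only [v, Fin.cases_succ]
          exact hb2 i j
      · intro i j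
        have hbf : ∀ w : W, B f w = 0 := fun w => ((hWmem w).1 w.2).2
        refine Fin.cases ?_ (fun i => ?_) i <;> refine Fin.cases ?_ (fun j => ?_) j
        · simpa [v] using hff
        · simpa [v] using (hbf _)
        · simp only [v, Fin.cases_zero, Fin.cases_succ]
          rw [← hA.neg_eq, hbf]; simp
        · simp only [v, Fin.cases_succ]
          exact hb3 i j
      · intro j x
        have hx : x = (x - (B x f) • e - (B e x) • f) + (B x f) • e + (B e x) • f := by abel
        have hw : x - (B x f) • e - (B e x) • f ∈ W := by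
          rw [hWmem]
          constructor
          · simp [hee, h1]
          · simp [hff, h1']
            rw [← hA.neg_eq x f]; ring
        have hbe : ∀ w : W, B e w = 0 := fun w => ((hWmem w).1 w.2).1
        have hbf : ∀ w : W, B f w = 0 := fun w => ((hWmem w).1 w.2).2
        have h4 := hb4 j ⟨_, hw⟩
        simp only [LinearMap.BilinForm.restrict_apply, LinearMap.domRestrict_apply] at h4
        rw [hx]
        simp only [v, map_add, map_smul, smul_eq_mul]
        have e1 : B (b' (Sum.inr j) : V) e = 0 := by rw [← hA.neg_eq, hbe]; simp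
        have e2 : B (b' (Sum.inr j) : V) f = 0 := by rw [← hA.neg_eq, hbf]; simp
        rw [e1, e2]
        simp at h4 ⊢
        exact h4

theorem result {F V : Type*} [Field F] [AddCommGroup V] [Module F V] [FiniteDimensional F V] (B : LinearMap.BilinForm F V) (hA : B.IsAlt) : ∃ (m k : ℕ) (b : Module.Basis ((Fin m ⊕ Fin m) ⊕ Fin k) F V), (∀ i j : Fin m, B (b (Sum.inl (Sum.inl i))) (b (Sum.inl (Sum.inr j))) = if i = j then 1 else 0) ∧ (∀ i j : Fin m, B (b (Sum.inl (Sum.inl i))) (b (Sum.inl (Sum.inl j))) = 0) ∧ (∀ i j : Fin m, B (b (Sum.inl (Sum.inr i))) (b (Sum.inl (Sum.inr j))) = 0) ∧ (∀ (j : Fin k) (v : V), B (b (Sum.inr j)) v = 0) := by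
  exact aux _ V B hA rfl

end Cfsg.Agent.S0752
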