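import Cfsg.Statements.S0753
import Mathlib

set_option autoImplicit false
open Cfsg

namespace Cfsg.Agent.S0753

/-- If σ is a ring endomorphism of the field F other than the identity and B is a σ-sesquilinear conjugate-symmetric form with B v v = 0 for every v, then B = 0. -/
theorem result {F V : Type*} [Field F] [AddCommGroup V] [Module F V] (σ : F →+* F) (hσ : σ ≠ RingHom.id F) (B : V →ₛₗ[σ] V →ₗ[F] F) (hS : B.IsSymm) (h0 : ∀ v : V, B v v = 0) : B = 0 := by
  have hsymm : ∀ x y, σ (B x y) = B y x := LinearMap.isSymm_def.1 hS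
  have hanti : ∀ u v : V, B v u = - B u v := by
    intro u v
    have h := h0 (u + v)
    simp only [map_add, LinearMap.add_apply, h0, zero_add, add_zero] at h
    exact eq_neg_of_add_eq_zero_left h
  have hneg : ∀ u v : V, σ (B u v) = - B u v := by
    intro u v
    rw [hsymm, hanti]
  ext u v
  simp only [LinearMap.zero_apply]
  by_contra hb
  apply hσ
  ext c
  have h1 := hneg (c • u) v
  rw [LinearMap.map_smulₛₗ, LinearMap.smul_apply, smul_eq_mul, map_mul, hneg u v] at h1
  have h2 : σ (σ c) * B u v = σ c * B u v := by
    have : σ (σ c) * -(B u v) = -(σ c * B u v) := h1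
    rw [mul_neg, neg_inj] at this
    exact this
  have h3 : σ (σ c) = σ c := mul_right_cancel₀ hb h2
  exact σ.injective h3

end Cfsg.Agent.S0753
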