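import Cfsg.Statements.S0756
import Mathlib

set_option autoImplicit false
open Cfsg

namespace Cfsg.Agent.S0756

universe u v

open Polynomial in
/-- over a finite field of odd order, `a x² + c y² = 1` is soluble for `a, c ≠ 0` -/
theorem exists_sq_add_sq {F : Type v} [Field F] [Finite F] (h2 : (2 : F) ≠ 0) (a c : F)
    (ha : a ≠ 0) (hc : c ≠ 0) : ∃ x y : F, a * x ^ 2 + c * y ^ 2 = 1 := by
  have := Fintype.ofFinite F
  have hchar : ringChar F ≠ 2 := by
    intro h
    apply h2
    have := ringChar.Nat.cast_ringChar (R := F)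
    rw [h] at this
    exact_mod_cast this
  have hcard := FiniteField.odd_card_of_char_ne_two hchar
  have hf : degree (C a * X ^ 2 : F[X]) = 2 := by
    rw [degree_C_mul_X_pow 2 ha]; rfl
  have hg : degree (C c * X ^ 2 - 1 : F[X]) = 2 := by
    rw [degree_sub_eq_left_of_degree_lt]
    · rw [degree_C_mul_X_pow 2 hc]; rfl
    · rw [degree_C_mul_X_pow 2 hc, degree_one]; norm_num
  obtain ⟨x, y, hxy⟩ := FiniteField.exists_root_sum_quadratic hf hg hcard
  refine ⟨x, y, ?_⟩
  simp only [eval_mul, eval_C, eval_pow, eval_X, eval_sub, eval_one] at hxy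
  linear_combination hxy

theorem exists_unit_vector {F : Type v} {V : Type u} [Field F] [Finite F] [AddCommGroup V]
    [Module F V] [FiniteDimensional F V] (h2 : (2 : F) ≠ 0) (B : LinearMap.BilinForm F V)
    (hS : B.IsSymm) (hB : B.Nondegenerate) (hdim : 2 ≤ Module.finrank F V) :
    ∃ v : V, B v v = 1 := by
  have : Invertible (2:F) := invertibleOfNonzero h2
  obtain ⟨b, hb⟩ := LinearMap.BilinForm.exists_orthogonal_basis (LinearMap.BilinForm.isSymm_iff.1 hS)
  have hne : ∀ i, B (b i) (b i) ≠ 0 :=
    fun i => hb.not_isOrtho_basis_self_of_separatingLeft hB.1 i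
  let i0 : Fin (Module.finrank F V) := ⟨0, by omega⟩
  let i1 : Fin (Module.finrank F V) := ⟨1, by omega⟩
  have h01 : B (b i0) (b i1) = 0 := hb (by simp [i0, i1, Fin.ext_iff])
  have h10 : B (b i1) (b i0) = 0 := hb (by simp [i0, i1, Fin.ext_iff])
  obtain ⟨x, y, hxy⟩ := exists_sq_add_sq h2 _ _ (hne i0) (hne i1)
  refine ⟨x • b i0 + y • b i1, ?_⟩
  simp only [map_add, map_smul, LinearMap.add_apply, LinearMap.smul_apply, smul_eq_mul, h01, h10]
  linear_combination hxy

/-- the quotient of two non-squares is a square -/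
theorem exists_eq_mul_sq {F : Type v} [Field F] [Finite F] (α c : F)
    (hα : ¬ IsSquare α) (hc : ¬ IsSquare c) : ∃ d : F, d ≠ 0 ∧ c = α * d * d := by
  classical
  have := Fintype.ofFinite F
  have hα0 : α ≠ 0 := fun h => hα (h ▸ IsSquare.zero)
  have hc0 : c ≠ 0 := fun h => hc (h ▸ IsSquare.zero)
  have h1 := quadraticChar_neg_one_iff_not_isSquare.2 hα
  have h3 := quadraticChar_neg_one_iff_not_isSquare.2 hc
  have h4 : quadraticChar F (c * α) = 1 := by rw [map_mul, h1, h3]; norm_num
  obtain ⟨e, he⟩ := (quadraticChar_one_iff_isSquare (mul_ne_zero hc0 hα0)).1 h4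
  have he0 : e ≠ 0 := by
    rintro rfl
    simp at he
    rcases he with h | h
    · exact hc0 h
    · exact hα0 h
  refine ⟨e / α, div_ne_zero he0 hα0, ?_⟩
  field_simp
  linear_combination he

theorem sepRight_of_sepLeft {F : Type v} {V : Type u} [Field F] [AddCommGroup V] [Module F V]
    (B : LinearMap.BilinForm F V) (hS : B.IsSymm) (hB : B.SeparatingLeft) :
    B.SeparatingRight := by
  intro y hy
  apply hB y
  intro x
  rw [hS.eq y x, hy x]

theorem exists_family {F : Type v} [Field F] [Finite F] (h2 : (2 : F) ≠ 0) (α : F)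
    (hα : ¬ IsSquare α) :
    ∀ (n : ℕ) (V : Type u) [AddCommGroup V] [Module F V] [FiniteDimensional F V]
      (B : LinearMap.BilinForm F V), B.IsSymm → B.Nondegenerate → Module.finrank F V = n + 1 →
      ∃ v : Fin (n + 1) → V, (∀ i j, i ≠ j → B (v i) (v j) = 0) ∧
        (∀ i, i ≠ Fin.last n → B (v i) (v i) = 1) ∧
        (B (v (Fin.last n)) (v (Fin.last n)) = 1 ∨ B (v (Fin.last n)) (v (Fin.last n)) = α) := by
  intro n
  induction n with
  | zero =>
    intro V _ _ _ B hS hB hn
    have hsub : Subsingleton (Fin (0 + 1)) := (inferInstance : Subsingleton (Fin 1))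
    have : Nontrivial V := Module.nontrivial_of_finrank_pos (R := F) (by omega)
    obtain ⟨v, hv⟩ := exists_ne (0 : V)
    have hspan := (finrank_eq_one_iff_of_nonzero' v hv).1 (by simpa using hn)
    have hvv : B v v ≠ 0 := by
      intro h0
      apply hv
      apply hB.1
      intro y
      obtain ⟨c, rfl⟩ := hspan y
      rw [map_smul, h0, smul_zero]
    by_cases hsq : IsSquare (B v v)
    · obtain ⟨d, hd⟩ := hsq
      have hd0 : d ≠ 0 := by rintro rfl; simp at hd; exact hvv hd
      refine ⟨fun _ => d⁻¹ • v, ?_, ?_, ?_⟩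
      · intro i j hij; exact absurd (Subsingleton.elim i j) hij
      · intro i hi; exact absurd (Subsingleton.elim i _) hi
      · left
        simp only [map_smul, LinearMap.smul_apply, smul_eq_mul, hd]
        field_simp
    · obtain ⟨d, hd0, hd⟩ := exists_eq_mul_sq α _ hα hsq
      refine ⟨fun _ => d⁻¹ • v, ?_, ?_, ?_⟩
      · intro i j hij; exact absurd (Subsingleton.elim i j) hij
      · intro i hi; exact absurd (Subsingleton.elim i _) hi
      · right
        simp only [map_smul, LinearMap.smul_apply, smul_eq_mul, hd]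
        field_simp
  | succ n ih =>
    intro V _ _ _ B hS hB hn
    obtain ⟨u, huu⟩ := exists_unit_vector h2 B hS hB (by omega)
    let W : Submodule F V := LinearMap.ker (B u)
    have hWmem : ∀ x, x ∈ W ↔ B u x = 0 := fun x => LinearMap.mem_ker
    have hWmem' : ∀ x, x ∈ W → B x u = 0 := by
      intro x hx
      rw [hS.eq x u, (hWmem x).1 hx]
    have hsurj : Function.Surjective (B u) := by
      intro c
      exact ⟨c • u, by rw [map_smul, huu, smul_eq_mul, mul_one]⟩
    have hrank : Module.finrank F W = n + 1 := by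
      have := LinearMap.finrank_range_add_finrank_ker (B u)
      rw [LinearMap.range_eq_top.2 hsurj] at this
      simp at this
      change 1 + Module.finrank F W = Module.finrank F V at this
      omega
    have hS' : (B.restrict W).IsSymm := hS.restrict W
    have hB' : (B.restrict W).SeparatingLeft := by
      intro w hw
      have hw' : ∀ y ∈ W, B w y = 0 := by
        intro y hy
        exact hw ⟨y, hy⟩
      have : (w : V) = 0 := by
        apply hB.1
        intro x
        have hx : x - (B u x) • u ∈ W := by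
          rw [hWmem, map_sub, map_smul, huu, smul_eq_mul, mul_one, sub_self]
        have h1 := hw' _ hx
        rw [map_sub, map_smul, hWmem' w w.2, smul_zero, sub_zero] at h1
        exact h1
      exact Subtype.ext this
    obtain ⟨w, hw1, hw2, hw3⟩ := ih W (B.restrict W) hS' ⟨hB', sepRight_of_sepLeft _ hS' hB'⟩ hrank
    refine ⟨Fin.cons u (fun i => (w i : V)), ?_, ?_, ?_⟩
    · intro i j
      refine Fin.cases ?_ (fun i => ?_) i <;> refine Fin.cases ?_ (fun j => ?_) j
      · intro h; exact absurd rfl h
      · intro _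
        simp only [Fin.cons_zero, Fin.cons_succ]
        exact (hWmem _).1 (w j).2
      · intro _
        simp only [Fin.cons_zero, Fin.cons_succ]
        exact hWmem' _ (w i).2
      · intro hij
        simp only [Fin.cons_succ]
        exact hw1 i j (fun h => hij (by rw [h]))
    · intro i
      refine Fin.cases ?_ (fun i => ?_) i
      · intro _; simpa using huu
      · intro hi
        simp only [Fin.cons_succ]
        exact hw2 i (fun h => hi (by rw [h, Fin.succ_last]))
    · rw [← Fin.succ_last]
      simp only [Fin.cons_succ]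
      exact hw3

theorem result {F V : Type*} [Field F] [Finite F] [AddCommGroup V] [Module F V] [FiniteDimensional F V] (h2 : (2 : F) ≠ 0) (B : LinearMap.BilinForm F V) (hS : B.IsSymm) (hB : B.Nondegenerate) {n : ℕ} (hn : Module.finrank F V = n + 1) (α : F) (hα : ¬ IsSquare α) : ∃ b : Module.Basis (Fin (n + 1)) F V, (∀ i j, i ≠ j → B (b i) (b j) = 0) ∧ (∀ i, i ≠ Fin.last n → B (b i) (b i) = 1) ∧ (B (b (Fin.last n)) (b (Fin.last n)) = 1 ∨ B (b (Fin.last n)) (b (Fin.last n)) = α) := by
  obtain ⟨v, hv1, hv2, hv3⟩ := exists_family h2 α hα n V B hS hB hn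
  have hα0 : α ≠ 0 := fun h => hα (h ▸ IsSquare.zero)
  have hvv : ∀ i, B (v i) (v i) ≠ 0 := by
    intro i
    by_cases hi : i = Fin.last n
    · subst hi
      rcases hv3 with h | h <;> rw [h]
      · exact one_ne_zero
      · exact hα0
    · rw [hv2 i hi]; exact one_ne_zero
  have hli : LinearIndependent F v := by
    rw [Fintype.linearIndependent_iff]
    intro g hg j
    have := congrArg (B (v j)) hg
    rw [map_sum, map_zero, Finset.sum_eq_single j] at this
    · rw [map_smul, smul_eq_mul] at this
      exact (mul_eq_zero.1 this).resolve_right (hvv j)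
    · intro i _ hij
      rw [map_smul, hv1 j i (Ne.symm hij), smul_zero]
    · intro h; exact absurd (Finset.mem_univ j) h
  have hsp := hli.span_eq_top_of_card_eq_finrank' (by simp [hn])
  refine ⟨Module.Basis.mk hli hsp.ge, ?_⟩
  simp only [Module.Basis.coe_mk]
  exact ⟨hv1, hv2, hv3⟩

end Cfsg.Agent.S0756
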