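import Cfsg.Statements.S0757
import Mathlib

set_option autoImplicit false
open Cfsg

namespace Cfsg.Agent.S0757

theorem toMatrix'_wss {F : Type*} [Field F] [Invertible (2:F)] {ι : Type*} [Fintype ι] [DecidableEq ι]
    (w : ι → F) :
    QuadraticForm.toMatrix' (QuadraticMap.weightedSumSquares F w) = Matrix.diagonal w := by
  ext i j
  rw [QuadraticForm.toMatrix', LinearMap.toMatrix₂'_apply, QuadraticMap.associated_apply]
  simp only [QuadraticMap.weightedSumSquares_apply, smul_eq_mul, Pi.add_apply]
  have h2 : (2:F) ≠ 0 := Invertible.ne_zero 2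
  have e1 : ∀ (a : ι), ∑ k, w k * ((Pi.single a (1:F) : ι → F) k * (Pi.single a (1:F) : ι → F) k) = w a := by
    intro a
    rw [Finset.sum_eq_single a]
    · simp
    · intro b _ hb; simp [hb]
    · simp
  have e2 : ∀ (a b : ι), ∑ k, w k * ((Pi.single a (1:F) : ι → F) k * (Pi.single b (1:F) : ι → F) k) = if a = b then w a else 0 := by
    intro a b
    split_ifs with h
    · subst h; exact e1 a
    · apply Finset.sum_eq_zero
      intro k _
      by_cases hk : k = a
      · subst hk; simp [h]
      · simp [Pi.single_apply, hk]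
  simp only [add_mul, mul_add, Finset.sum_add_distrib, e1, e2]
  rw [Matrix.diagonal_apply]
  by_cases hij : i = j
  · subst hij
    simp
    field_simp; ring
  · simp [hij, Ne.symm hij]

theorem discr'_wss {F : Type*} [Field F] [Invertible (2:F)] {ι : Type*} [Fintype ι] [DecidableEq ι]
    (w : ι → F) :
    QuadraticForm.discr' (QuadraticMap.weightedSumSquares F w) = ∏ i, w i := by
  rw [QuadraticForm.discr', toMatrix'_wss, Matrix.det_diagonal]

theorem result {F : Type*} [Field F] (h2 : (2 : F) ≠ 0) (n : ℕ) (α : F) (hα : ¬ IsSquare α) : ¬ (QuadraticMap.weightedSumSquares F (fun _ : Fin (n + 1) => (1 : F))).Equivalent (QuadraticMap.weightedSumSquares F (fun i : Fin (n + 1) => if i = Fin.last n then α else (1 : F))) := by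
  rintro ⟨e⟩
  have : Invertible (2:F) := invertibleOfNonzero h2
  have h1 : QuadraticMap.weightedSumSquares F (fun _ : Fin (n + 1) => (1 : F)) =
      (QuadraticMap.weightedSumSquares F (fun i : Fin (n + 1) => if i = Fin.last n then α else (1 : F))).comp
        (e.toLinearEquiv : (Fin (n+1) → F) →ₗ[F] (Fin (n+1) → F)) := by
    ext x
    simp only [QuadraticMap.comp_apply]
    exact (e.map_app x).symm
  have h3 := congrArg QuadraticForm.discr' h1
  rw [QuadraticForm.discr'_comp, discr'_wss, discr'_wss] at h3
  simp only [Finset.prod_const_one, Finset.prod_ite_eq', Finset.mem_univ, if_true] at h3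
  set d := (LinearMap.toMatrix' (e.toLinearEquiv : (Fin (n+1) → F) →ₗ[F] (Fin (n+1) → F))).det with hd
  have hd0 : d ≠ 0 := by
    rintro h0
    rw [h0] at h3
    simp at h3
  apply hα
  refine ⟨d⁻¹, ?_⟩
  field_simp
  rw [h3]; ring

end Cfsg.Agent.S0757
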