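import Cfsg.Statements.S0758
import Mathlib

set_option autoImplicit false
open Cfsg

namespace Cfsg.Agent.S0758

variable {F : Type*} [Field F]

/-- `x² + β y² = 0` has a nontrivial solution iff `-β` is a square. -/
theorem isotropic_iff (β : F) :
    (∃ x y : F, (x ≠ 0 ∨ y ≠ 0) ∧ x ^ 2 + β * y ^ 2 = 0) ↔ IsSquare (-β) := by
  constructor
  · rintro ⟨x, y, hxy, h⟩
    have hy : y ≠ 0 := by
      rintro rfl
      rcases hxy with hx | hy
      · apply hx
        simpa using h
      · exact hy rfl
    refine ⟨x / y, ?_⟩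
    field_simp
    linear_combination -h
  · rintro ⟨z, hz⟩
    refine ⟨z, 1, Or.inr one_ne_zero, ?_⟩
    linear_combination -hz

theorem card_mod_four {F : Type*} [Field F] [Fintype F] (h2 : (2 : F) ≠ 0) :
    Fintype.card F % 4 = 1 ∨ Fintype.card F % 4 = 3 := by
  have hchar : ringChar F ≠ 2 := by
    intro h
    apply h2
    have := ringChar.Nat.cast_ringChar (R := F)
    rw [h] at this
    exact_mod_cast this
  have := FiniteField.odd_card_of_char_ne_two hchar
  omega

/-- For a finite field F of odd order q and a non-square α: the form x² + y² is isotropic iff q ≡ 1 mod 4, and the form x² + α y² is isotropic iff q ≡ 3 mod 4. -/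
theorem result {F : Type*} [Field F] [Fintype F] (h2 : (2 : F) ≠ 0) (α : F) (hα : ¬ IsSquare α) : ((∃ x y : F, (x ≠ 0 ∨ y ≠ 0) ∧ x ^ 2 + y ^ 2 = 0) ↔ Fintype.card F % 4 = 1) ∧ ((∃ x y : F, (x ≠ 0 ∨ y ≠ 0) ∧ x ^ 2 + α * y ^ 2 = 0) ↔ Fintype.card F % 4 = 3) := by
  classical
  have hmod := card_mod_four h2
  have hα0 : α ≠ 0 := by
    rintro rfl
    exact hα ⟨0, by simp⟩
  constructor
  · have h := isotropic_iff (1 : F)
    simp only [one_mul] at h
    rw [h, FiniteField.isSquare_neg_one_iff]
    omega
  · rw [isotropic_iff α]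
    have hna : -α ≠ 0 := neg_ne_zero.2 hα0
    rw [← quadraticChar_one_iff_isSquare hna, show -α = (-1) * α by ring, map_mul,
      quadraticChar_neg_one_iff_not_isSquare.2 hα]
    have hm1 : (-1 : F) ≠ 0 := neg_ne_zero.2 one_ne_zero
    rcases quadraticChar_dichotomy hm1 with h | h
    · rw [h]
      have : IsSquare (-1 : F) := (quadraticChar_one_iff_isSquare hm1).1 h
      rw [FiniteField.isSquare_neg_one_iff] at this
      constructor
      · intro h'; norm_num at h'
      · intro h'; exact absurd h' this
    · rw [h]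
      have : ¬ IsSquare (-1 : F) := quadraticChar_neg_one_iff_not_isSquare.1 h
      rw [FiniteField.isSquare_neg_one_iff] at this
      push Not at this
      constructor
      · intro _; exact this
      · intro _; norm_num

end Cfsg.Agent.S0758
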