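import Cfsg.Statements.S0759
import Mathlib
import Cfsg.Agent.S0756
import Cfsg.Agent.S0751

set_option autoImplicit false
open Cfsg

namespace Cfsg.Agent.S0759

/-- from an injective linear map with totally singular image -/
theorem exists_of_map {F : Type*} [Field F] {ι : Type*} [Fintype ι] (n m : ℕ)
    (hι : Fintype.card ι = m) (T : (ι → F) →ₗ[F] (Fin n → F)) (hT : Function.Injective T)
    (hQ : ∀ c, ∑ i, (T c) i ^ 2 = 0) :
    ∃ W : Submodule F (Fin n → F), Module.finrank F W = m ∧ ∀ w ∈ W, ∑ i, w i ^ 2 = 0 := by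
  refine ⟨LinearMap.range T, ?_, ?_⟩
  · rw [LinearMap.finrank_range_of_inj hT, Module.finrank_fintype_fun_eq_card, hι]
  · rintro _ ⟨c, rfl⟩
    exact hQ c

/-- case `-1` a square -/
theorem exists_of_sq {F : Type*} [Field F] (m : ℕ) (ι : F) (hι : ι * ι = -1) :
    ∃ W : Submodule F (Fin (2 * m) → F), Module.finrank F W = m ∧ ∀ w ∈ W, ∑ i, w i ^ 2 = 0 := by
  let e : Fin 2 × Fin m ≃ Fin (2 * m) := finProdFinEquiv
  let T : (Fin m → F) →ₗ[F] (Fin (2 * m) → F) :=
    { toFun := fun c i => if (e.symm i).1 = 0 then c (e.symm i).2 else ι * c (e.symm i).2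
      map_add' := by
        intro c d
        funext i
        simp only [Pi.add_apply]
        split_ifs <;> ring
      map_smul' := by
        intro a c
        funext i
        simp only [Pi.smul_apply, smul_eq_mul, RingHom.id_apply]
        split_ifs <;> ring }
  have hTe : ∀ c (p : Fin 2 × Fin m), T c (e p) = if p.1 = 0 then c p.2 else ι * c p.2 := by
    intro c p
    simp [T]
  apply exists_of_map (2 * m) m (by simp) T
  · intro c d hcd
    funext j
    have := congrFun hcd (e (0, j))
    rw [hTe, hTe] at this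
    simpa using this
  · intro c
    rw [← Equiv.sum_comp e, Fintype.sum_prod_type, Fin.sum_univ_two]
    simp only [hTe]
    rw [← Finset.sum_add_distrib]
    apply Finset.sum_eq_zero
    intro j _
    simp
    linear_combination (c j) ^ 2 * hι

/-- case `m` even -/
theorem exists_of_even {F : Type*} [Field F] (l : ℕ) (a b : F) (hab : a ^ 2 + b ^ 2 = -1) :
    ∃ W : Submodule F (Fin (2 * (2 * l)) → F), Module.finrank F W = 2 * l ∧
      ∀ w ∈ W, ∑ i, w i ^ 2 = 0 := by
  let e : Fin 4 × Fin l ≃ Fin (2 * (2 * l)) :=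
    finProdFinEquiv.trans (finCongr (by ring))
  let f : Fin 4 → (Fin 2 → F) → F := fun t c =>
    if t = 0 then c 0 else if t = 1 then c 1 else if t = 2 then a * c 0 + b * c 1
      else b * c 0 - a * c 1
  let T : (Fin 2 × Fin l → F) →ₗ[F] (Fin (2 * (2 * l)) → F) :=
    { toFun := fun c i => f (e.symm i).1 (fun s => c (s, (e.symm i).2))
      map_add' := by
        intro c d
        funext i
        simp only [Pi.add_apply, f]
        split_ifs <;> ring
      map_smul' := by
        intro r c
        funext i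
        simp only [Pi.smul_apply, smul_eq_mul, RingHom.id_apply, f]
        split_ifs <;> ring }
  have hTe : ∀ c (p : Fin 4 × Fin l), T c (e p) = f p.1 (fun s => c (s, p.2)) := by
    intro c p
    simp [T]
  apply exists_of_map (2 * (2 * l)) (2 * l) (by simp) T
  · intro c d hcd
    funext ⟨s, j⟩
    have h0 := congrFun hcd (e (0, j))
    have h1 := congrFun hcd (e (1, j))
    rw [hTe, hTe] at h0 h1
    simp only [f] at h0 h1
    fin_cases s
    · simpa using h0
    · simpa using h1
  · intro c
    rw [← Equiv.sum_comp e, Fintype.sum_prod_type, Fin.sum_univ_four]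
    simp only [hTe]
    rw [← Finset.sum_add_distrib, ← Finset.sum_add_distrib, ← Finset.sum_add_distrib]
    apply Finset.sum_eq_zero
    intro j _
    simp [f]
    linear_combination ((c (0, j)) ^ 2 + (c (1, j)) ^ 2) * hab

theorem det_hyp {F : Type*} [Field F] (m : ℕ) (C : Matrix (Fin m) (Fin m) F) :
    (Matrix.fromBlocks (0 : Matrix (Fin m) (Fin m) F) 1 1 C).det = (-1) ^ m := by
  have h1 : Matrix.fromBlocks (1 : Matrix (Fin m) (Fin m) F) 1 0 1 *
      Matrix.fromBlocks (0 : Matrix (Fin m) (Fin m) F) 1 1 C =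
      Matrix.fromBlocks (1 : Matrix (Fin m) (Fin m) F) (1 + C) 1 C := by
    rw [Matrix.fromBlocks_multiply]
    simp
  have h2 := congrArg Matrix.det h1
  have : Invertible (1 : Matrix (Fin m) (Fin m) F) := invertibleOne
  rw [Matrix.det_mul, Matrix.det_fromBlocks_zero₂₁, Matrix.det_one, one_mul, one_mul,
    Matrix.det_fromBlocks₁₁ (1 : Matrix (Fin m) (Fin m) F) (1 + C) 1 C] at h2
  rw [h2]
  simp only [Matrix.det_one, one_mul, invOf_one]
  have : C - (1 + C) = -1 := by abel
  rw [this, Matrix.det_neg, Matrix.det_one, Fintype.card_fin, mul_one]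

theorem isSquare_of_exists {F : Type*} [Field F] (h2 : (2 : F) ≠ 0) (m : ℕ)
    (W : Submodule F (Fin (2 * m) → F)) (hW : Module.finrank F W = m)
    (hQ : ∀ w ∈ W, ∑ i, w i ^ 2 = 0) : IsSquare ((-1 : F) ^ m) := by
  classical
  let b := Module.finBasisOfFinrankEq F W hW
  let w : Fin m → (Fin (2 * m) → F) := fun i => (b i : Fin (2 * m) → F)
  have hli : LinearIndependent F w :=
    b.linearIndependent.map' W.subtype (Submodule.ker_subtype W)
  have hdot : ∀ u ∈ W, ∀ v ∈ W, u ⬝ᵥ v = 0 := by
    intro u hu v hv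
    have h1 := hQ _ (W.add_mem hu hv)
    have h3 := hQ _ hu
    have h4 := hQ _ hv
    have : ∑ i, (u + v) i ^ 2 = ∑ i, u i ^ 2 + ∑ i, v i ^ 2 + 2 * (u ⬝ᵥ v) := by
      simp only [dotProduct, Finset.mul_sum, ← Finset.sum_add_distrib, Pi.add_apply]
      apply Finset.sum_congr rfl
      intro i _
      ring
    rw [h1, h3, h4] at this
    have : 2 * (u ⬝ᵥ v) = 0 := by linear_combination -this
    exact (mul_eq_zero.1 this).resolve_left h2
  have hww : ∀ i j, w i ⬝ᵥ w j = 0 := fun i j => hdot _ (b i).2 _ (b j).2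
  have hex : ∀ j : Fin m, ∃ v : Fin (2 * m) → F, ∀ i, w i ⬝ᵥ v = if i = j then 1 else 0 := by
    intro j
    obtain ⟨Λ, hΛ⟩ := Cfsg.Agent.S0751.exists_functional w hli (Pi.single j 1)
    refine ⟨fun a => Λ (Pi.single a 1), fun i => ?_⟩
    have h1 : w i = ∑ a, w i a • (Pi.single a (1 : F) : Fin (2 * m) → F) := by
      funext a
      simp [Finset.sum_apply, Pi.single_apply]
    have h2 := hΛ i
    rw [h1, map_sum] at h2
    simp only [map_smul, smul_eq_mul] at h2
    rw [dotProduct, h2, Pi.single_apply]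
  choose v hv using hex
  let P : Matrix (Fin m ⊕ Fin m) (Fin (2 * m)) F := Matrix.of (Sum.elim w v)
  have hPP : P * P.transpose = Matrix.fromBlocks (0 : Matrix (Fin m) (Fin m) F) 1 1
      (Matrix.of fun i j => v i ⬝ᵥ v j) := by
    ext (i | i) (j | j)
    · simp only [P, Matrix.mul_apply, Matrix.transpose_apply, Matrix.of_apply, Sum.elim_inl,
        Matrix.fromBlocks_apply₁₁, Matrix.zero_apply]
      exact hww i j
    · simp only [P, Matrix.mul_apply, Matrix.transpose_apply, Matrix.of_apply, Sum.elim_inl,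
        Sum.elim_inr, Matrix.fromBlocks_apply₁₂, Matrix.one_apply]
      exact hv j i
    · simp only [P, Matrix.mul_apply, Matrix.transpose_apply, Matrix.of_apply, Sum.elim_inl,
        Sum.elim_inr, Matrix.fromBlocks_apply₂₁, Matrix.one_apply]
      have := hv i j
      rw [dotProduct_comm] at this
      rw [dotProduct] at this
      rw [this]
      simp only [eq_comm]
    · simp [P, Matrix.mul_apply, Matrix.transpose_apply, dotProduct]
  let e : Fin m ⊕ Fin m ≃ Fin (2 * m) := finSumFinEquiv.trans (finCongr (two_mul m).symm)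
  let P' : Matrix (Fin (2 * m)) (Fin (2 * m)) F := P.submatrix e.symm id
  have h1 : P' * P'.transpose = (P * P.transpose).submatrix e.symm e.symm := by
    rw [Matrix.submatrix_mul P P.transpose e.symm id e.symm Function.bijective_id]
    rfl
  have h3 := congrArg Matrix.det h1
  rw [Matrix.det_mul, Matrix.det_transpose, Matrix.det_submatrix_equiv_self, hPP, det_hyp] at h3
  exact ⟨P'.det, h3.symm⟩

theorem result {F : Type*} [Field F] [Fintype F] (h2 : (2 : F) ≠ 0) (m : ℕ) (hm : 1 ≤ m) : (∃ W : Submodule F (Fin (2 * m) → F), Module.finrank F W = m ∧ ∀ w ∈ W, ∑ i, w i ^ 2 = 0) ↔ ¬ (Fintype.card F % 4 = 3 ∧ Odd m) := by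
  constructor
  · rintro ⟨W, hW, hQ⟩ ⟨hq, hodd⟩
    have h1 := isSquare_of_exists h2 m W hW hQ
    rw [hodd.neg_one_pow, FiniteField.isSquare_neg_one_iff] at h1
    exact h1 hq
  · intro h
    by_cases hq : Fintype.card F % 4 = 3
    · have hev : Even m := by
        rw [← Nat.not_odd_iff_even]
        exact fun ho => h ⟨hq, ho⟩
      obtain ⟨l, rfl⟩ := hev
      obtain ⟨a, b, hab⟩ := Cfsg.Agent.S0756.exists_sq_add_sq h2 (-1 : F) (-1)
        (neg_ne_zero.2 one_ne_zero) (neg_ne_zero.2 one_ne_zero)
      have hab' : a ^ 2 + b ^ 2 = -1 := by linear_combination -hab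
      obtain ⟨W, hW1, hW2⟩ := exists_of_even l a b hab'
      have e : l + l = 2 * l := (two_mul l).symm
      rw [e]
      exact ⟨W, hW1, hW2⟩
    · obtain ⟨ι, hι⟩ := FiniteField.isSquare_neg_one_iff.2 hq
      exact exists_of_sq m ι hι.symm

end Cfsg.Agent.S0759
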