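import Cfsg.Statements.S0760
import Mathlib

set_option autoImplicit false
open Cfsg

namespace Cfsg.Agent.S0760

theorem result {F V : Type*} [Field F] [Finite F] [AddCommGroup V] [Module F V] [FiniteDimensional F V] (Q : QuadraticForm F V) (hQ : (QuadraticMap.polarBilin Q).Nondegenerate) (W₁ W₂ : Submodule F V) (h₁ : ∀ w ∈ W₁, Q w = 0) (h₂ : ∀ w ∈ W₂, Q w = 0) (hmax₁ : ∀ W : Submodule F V, W₁ ≤ W → (∀ w ∈ W, Q w = 0) → W = W₁) (hmax₂ : ∀ W : Submodule F V, W₂ ≤ W → (∀ w ∈ W, Q w = 0) → W = W₂) : Module.finrank F W₁ = Module.finrank F W₂ ∧ 2 * Module.finrank F W₁ ≤ Module.finrank F V := by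
  set β : LinearMap.BilinForm F V := QuadraticMap.polarBilin Q with hβ
  have hβa : ∀ x y, β x y = QuadraticMap.polar Q x y := fun x y => rfl
  have hsymm : ∀ x y, β x y = β y x := fun x y => by rw [hβa, hβa, QuadraticMap.polar_comm]
  have hrefl : β.IsRefl := fun x y h => by rw [hsymm]; exact h
  -- totally singular implies totally isotropic
  have iso : ∀ (W : Submodule F V), (∀ w ∈ W, Q w = 0) → W ≤ β.orthogonal W := by
    intro W hW x hx n hn
    rw [hβa, QuadraticMap.polar, hW _ (W.add_mem hn hx), hW _ hn, hW _ hx]; simp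
  -- general facts
  have key : ∀ (A B : Submodule F V), (∀ w ∈ A, Q w = 0) → (∀ w ∈ B, Q w = 0) →
      (∀ W : Submodule F V, A ≤ W → (∀ w ∈ W, Q w = 0) → W = A) →
      B ⊓ β.orthogonal A = A ⊓ B := by
    intro A B hA hB hmax
    apply le_antisymm
    · have hts : ∀ w ∈ A ⊔ (B ⊓ β.orthogonal A), Q w = 0 := by
        intro w hw
        obtain ⟨a, ha, u, hu, rfl⟩ := Submodule.mem_sup.1 hw
        rw [QuadraticMap.map_add Q, hA a ha, hB u hu.1, ← hβa, hu.2 a ha]; simp
      have hle0 : A ≤ A ⊔ (B ⊓ β.orthogonal A) := le_sup_left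
      have := hmax (A ⊔ (B ⊓ β.orthogonal A)) hle0 hts
      have hle1 : B ⊓ β.orthogonal A ≤ A ⊔ (B ⊓ β.orthogonal A) := le_sup_right
      have hle : B ⊓ β.orthogonal A ≤ A := hle1.trans this.le
      exact le_inf hle inf_le_left
    · exact le_inf inf_le_right (inf_le_left.trans (iso A hA))
  have hU1 := key W₁ W₂ h₁ h₂ hmax₁
  have hU2 := key W₂ W₁ h₂ h₁ hmax₂
  have hperp : β.orthogonal (W₂ ⊔ β.orthogonal W₁) = W₁ ⊓ β.orthogonal W₂ := by
    apply le_antisymm
    · apply le_inf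
      · have := LinearMap.BilinForm.orthogonal_le (B := β)
          (le_sup_right : β.orthogonal W₁ ≤ W₂ ⊔ β.orthogonal W₁)
        rwa [LinearMap.BilinForm.orthogonal_orthogonal hQ hrefl] at this
      · exact LinearMap.BilinForm.orthogonal_le le_sup_left
    · intro x hx n hn
      obtain ⟨a, ha, u, hu, rfl⟩ := Submodule.mem_sup.1 hn
      rw [map_add, LinearMap.add_apply, hx.2 a ha, hsymm, hu x hx.1]; simp
  have d1 := Submodule.finrank_sup_add_finrank_inf_eq W₂ (β.orthogonal W₁)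
  have d2 := LinearMap.BilinForm.finrank_orthogonal hQ (W₂ ⊔ β.orthogonal W₁)
  have d3 := LinearMap.BilinForm.finrank_orthogonal hQ W₁
  have d4 := Submodule.finrank_mono (iso W₁ h₁)
  rw [hperp, hU2, inf_comm] at d2
  rw [hU1] at d1
  have l1 := Submodule.finrank_le W₁
  have l2 := Submodule.finrank_le (W₂ ⊔ β.orthogonal W₁)
  have l3 := Submodule.finrank_le (W₁ ⊓ W₂)
  constructor
  · omega
  · omega

end Cfsg.Agent.S0760
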