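import Cfsg.Statements.S0761
import Mathlib

set_option autoImplicit false
open Cfsg

namespace Cfsg.Agent.S0761

theorem result {F V : Type*} [Field F] [AddCommGroup V] [Module F V] [FiniteDimensional F V] (B : LinearMap.BilinForm F V) (hB : B.Nondegenerate) (hform : B.IsAlt ∨ (B.IsSymm ∧ (2 : F) ≠ 0)) (x : V) (Z : Submodule F V) (hxZ : x ∉ Z) (hx : B x x = 0) (hxz : ∀ z ∈ Z, B x z = 0) (hZ : ∀ z ∈ Z, ∀ z' ∈ Z, B z z' = 0) : ∃ y : V, B y y = 0 ∧ B x y = 1 ∧ ∀ z ∈ Z, B z y = 0 := by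
  obtain ⟨φ, hφx, hφZ⟩ := Submodule.exists_dual_map_eq_bot_of_notMem hxZ inferInstance
  set y1 := (B.toDual hB).symm φ with hy1
  have h1 : ∀ v, B y1 v = φ v := fun v => LinearMap.BilinForm.apply_toDual_symm_apply φ v
  have hφZ' : ∀ z ∈ Z, φ z = 0 := by
    intro z hz
    have : φ z ∈ Z.map φ := ⟨z, hz, rfl⟩
    rw [hφZ] at this
    simpa using this
  rcases hform with hA | ⟨hS, h2⟩
  · have hsw : ∀ u v, B u v = - B v u := fun u v => (hA.neg_eq v u).symm
    refine ⟨(-(φ x)⁻¹) • y1, hA _, ?_, ?_⟩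
    · rw [map_smul, smul_eq_mul, hsw, h1]; field_simp
    · intro z hz; rw [map_smul, smul_eq_mul, hsw, h1, hφZ' z hz]; simp
  · have hsw : ∀ u v, B u v = B v u := fun u v => hS.eq u v
    set y0 := (φ x)⁻¹ • y1 with hy0
    have hxy0 : B x y0 = 1 := by
      rw [hy0, map_smul, smul_eq_mul, hsw, h1]; field_simp
    have hzy0 : ∀ z ∈ Z, B z y0 = 0 := by
      intro z hz; rw [hy0, map_smul, smul_eq_mul, hsw, h1, hφZ' z hz]; simp
    refine ⟨y0 - (B y0 y0 / 2) • x, ?_, ?_, ?_⟩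
    · simp only [map_sub, map_smul, LinearMap.sub_apply, LinearMap.smul_apply, smul_eq_mul, hx,
        hsw y0 x, hxy0]
      field_simp
      ring
    · simp only [map_sub, map_smul, smul_eq_mul, hx, hxy0]; ring
    · intro z hz
      simp only [map_sub, map_smul, smul_eq_mul, hzy0 z hz, hsw z x, hxz z hz]; ring
  
end Cfsg.Agent.S0761
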