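import Cfsg.Statements.S0762
import Mathlib

set_option autoImplicit false
open Cfsg

namespace Cfsg.Agent.S0762

theorem result {F V : Type*} [Field F] [Finite F] [CharP F 2] [AddCommGroup V] [Module F V] [FiniteDimensional F V] (Q : QuadraticForm F V) (h3 : 3 ≤ Module.finrank F V) : ∃ v : V, v ≠ 0 ∧ Q v = 0 := by
  have : Nontrivial V := Module.nontrivial_of_finrank_pos (R := F) (by omega)
  obtain ⟨v1, hv1⟩ := exists_ne (0 : V)
  by_cases hQ1 : Q v1 = 0
  · exact ⟨v1, hv1, hQ1⟩
  let φ : V →ₗ[F] F := QuadraticMap.polarBilin Q v1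
  have hφ : ∀ w, φ w = QuadraticMap.polar Q v1 w := fun w => rfl
  have hker : 2 ≤ Module.finrank F (LinearMap.ker φ) := by
    have h1 := LinearMap.finrank_range_add_finrank_ker φ
    have h2 : Module.finrank F (LinearMap.range φ) ≤ 1 := by
      have := Submodule.finrank_le (LinearMap.range φ)
      simpa using this
    omega
  have hnot : ¬ (LinearMap.ker φ ≤ Submodule.span F {v1}) := by
    intro hle
    have h1 := Submodule.finrank_mono hle
    have h2 : Module.finrank F (Submodule.span F {v1}) ≤ 1 := by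
      rw [finrank_span_singleton hv1]
    omega
  obtain ⟨w, hwk, hws⟩ := SetLike.not_le_iff_exists.1 hnot
  have hpol : QuadraticMap.polar Q v1 w = 0 := by
    rw [← hφ]; exact LinearMap.mem_ker.1 hwk
  by_cases hQw : Q w = 0
  · refine ⟨w, ?_, hQw⟩
    rintro rfl
    exact hws (Submodule.zero_mem _)
  have hchar : ringChar F = 2 := ringChar.eq F 2
  have := Fintype.ofFinite F
  obtain ⟨x, hx⟩ := FiniteField.isSquare_of_char_two hchar (Q w)
  obtain ⟨y, hy⟩ := FiniteField.isSquare_of_char_two hchar (Q v1)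
  have hy0 : y ≠ 0 := by rintro rfl; simp at hy; exact hQ1 hy
  refine ⟨x • v1 + y • w, ?_, ?_⟩
  · intro h0
    apply hws
    have : w = (-(y⁻¹ * x)) • v1 := by
      have h1 : y • w = -(x • v1) := by
        rw [eq_neg_iff_add_eq_zero, add_comm]; exact h0
      calc w = y⁻¹ • (y • w) := by rw [smul_smul, inv_mul_cancel₀ hy0, one_smul]
        _ = _ := by rw [h1, smul_neg, smul_smul, neg_smul]
    rw [this]
    exact Submodule.smul_mem _ _ (Submodule.mem_span_singleton_self v1)
  · rw [QuadraticMap.map_add Q, QuadraticMap.map_smul, QuadraticMap.map_smul,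
      QuadraticMap.polar_smul_left, QuadraticMap.polar_smul_right, hpol]
    simp only [smul_eq_mul, mul_zero, add_zero]
    rw [hx, hy]
    have h2 : (2 : F) = 0 := CharP.ofNat_eq_zero F 2
    linear_combination (x * x * (y * y)) * h2

end Cfsg.Agent.S0762
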