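import Cfsg.Statements.S0763
import Mathlib

set_option autoImplicit false
open Cfsg

namespace Cfsg.Agent.S0763

theorem polar_self {F V : Type*} [Field F] [CharP F 2] [AddCommGroup V] [Module F V]
    (Q : QuadraticForm F V) (x : V) : QuadraticMap.polar Q x x = 0 := by
  have h2 : (2 : F) = 0 := CharP.ofNat_eq_zero F 2
  rw [QuadraticMap.polar_self]
  simp [h2]

theorem linIndep_of_polar {F V : Type*} [Field F] [CharP F 2] [AddCommGroup V] [Module F V]
    (Q : QuadraticForm F V) (v w : V) (h : QuadraticMap.polar Q v w = 1) :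
    LinearIndependent F ![v, w] := by
  rw [LinearIndependent.pair_iff]
  intro a b hab
  have h1 := congrArg (QuadraticMap.polar Q v) hab
  have h2 := congrArg (QuadraticMap.polar Q w) hab
  rw [QuadraticMap.polar_add_right, QuadraticMap.polar_smul_right, QuadraticMap.polar_smul_right,
    polar_self, h] at h1
  rw [QuadraticMap.polar_add_right, QuadraticMap.polar_smul_right, QuadraticMap.polar_smul_right,
    polar_self, QuadraticMap.polar_comm, h] at h2
  simp at h1 h2
  exact ⟨h2, h1⟩

theorem result {F V : Type*} [Field F] [Finite F] [CharP F 2] [AddCommGroup V] [Module F V] (Q : QuadraticForm F V) (h2 : Module.finrank F V = 2) (hQ : (QuadraticMap.polarBilin Q).Nondegenerate) : (∃ v w : V, LinearIndependent F ![v, w] ∧ Q v = 0 ∧ Q w = 0 ∧ QuadraticMap.polar Q v w = 1) ∨ (∃ (v w : V) (μ : F), LinearIndependent F ![v, w] ∧ (∀ x : F, x ^ 2 + x + μ ≠ 0) ∧ Q v = 1 ∧ Q w = μ ∧ QuadraticMap.polar Q v w = 1) := by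
  have : Nontrivial V := Module.nontrivial_of_finrank_pos (R := F) (by omega)
  have two0 : (2 : F) = 0 := CharP.ofNat_eq_zero F 2
  have hex : ∀ v : V, v ≠ 0 → ∃ w, QuadraticMap.polar Q v w = 1 := by
    intro v hv
    obtain ⟨w0, hw0⟩ : ∃ w0, QuadraticMap.polar Q v w0 ≠ 0 := by
      by_contra h
      push Not at h
      exact hv (hQ.1 v h)
    refine ⟨(QuadraticMap.polar Q v w0)⁻¹ • w0, ?_⟩
    rw [QuadraticMap.polar_smul_right, smul_eq_mul, inv_mul_cancel₀ hw0]
  by_cases hiso : ∃ v : V, v ≠ 0 ∧ Q v = 0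
  · left
    obtain ⟨v, hv, hQv⟩ := hiso
    obtain ⟨w1, hw1⟩ := hex v hv
    have hpol : QuadraticMap.polar Q v (w1 + Q w1 • v) = 1 := by
      rw [QuadraticMap.polar_add_right, QuadraticMap.polar_smul_right, polar_self, hw1]
      simp
    refine ⟨v, w1 + Q w1 • v, linIndep_of_polar Q _ _ hpol, hQv, ?_, hpol⟩
    rw [QuadraticMap.map_add Q, QuadraticMap.map_smul, hQv, QuadraticMap.polar_smul_right,
      QuadraticMap.polar_comm, hw1]
    simp only [smul_eq_mul, mul_zero, add_zero, mul_one]
    linear_combination Q w1 * two0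
  · right
    push Not at hiso
    obtain ⟨v0, hv0⟩ := exists_ne (0 : V)
    have hchar : ringChar F = 2 := ringChar.eq F 2
    have := Fintype.ofFinite F
    obtain ⟨d, hd⟩ := FiniteField.isSquare_of_char_two hchar (Q v0)
    have hd0 : d ≠ 0 := by
      rintro rfl
      simp at hd
      exact hiso v0 hv0 hd
    have hv : d⁻¹ • v0 ≠ 0 := smul_ne_zero (inv_ne_zero hd0) hv0
    obtain ⟨w, hw⟩ := hex _ hv
    have hli := linIndep_of_polar Q _ _ hw
    refine ⟨d⁻¹ • v0, w, Q w, hli, ?_, ?_, rfl, hw⟩
    · intro x hx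
      have hne : x • (d⁻¹ • v0) + w ≠ 0 := by
        intro h0
        rw [LinearIndependent.pair_iff] at hli
        have := (hli x 1 (by rw [one_smul]; exact h0)).2
        exact one_ne_zero this
      apply hiso _ hne
      rw [QuadraticMap.map_add Q, QuadraticMap.map_smul, QuadraticMap.map_smul,
        QuadraticMap.polar_smul_left, hw, hd]
      simp only [smul_eq_mul]
      field_simp
      linear_combination hx
    · rw [QuadraticMap.map_smul, hd, smul_eq_mul]
      field_simp

end Cfsg.Agent.S0763
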