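import Cfsg.Statements.S0769
import Mathlib

set_option autoImplicit false
open Cfsg

namespace Cfsg.Agent.S0769

open Matrix

theorem card_pairs (n : ℕ) : Fintype.card {p : Fin n × Fin n // p.2 < p.1} = n * (n - 1) / 2 := by
  rw [Fintype.card_congr (Equiv.subtypeProdEquivSigmaSubtype (fun a b : Fin n => b < a)),
    Fintype.card_sigma]
  have : ∀ a : Fin n, Fintype.card {b : Fin n // b < a} = (a : ℕ) := by
    intro a
    rw [Fintype.card_subtype]
    have : (Finset.univ.filter (fun b : Fin n => b < a)) = Finset.Iio a := by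
      ext b; simp
    rw [this, Fin.card_Iio]
  simp only [this]
  rw [Fin.sum_univ_eq_sum_range (fun i => i) n, Finset.sum_range_id]

variable {F : Type*} [Field F]

theorem lower_det {n : ℕ} (M : Matrix (Fin n) (Fin n) F) (h : ∀ i j : Fin n, i < j → M i j = 0) :
    M.det = ∏ i, M i i := by
  apply Matrix.det_of_isLowerTriangular
  intro i j hij
  exact h i j hij

/-- the lower triangular matrix with given diagonal and strictly lower part -/
def mkMat {n : ℕ} (d : Fin n → Fˣ) (s : {p : Fin n × Fin n // p.2 < p.1} → F) :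
    Matrix (Fin n) (Fin n) F :=
  fun i j => if i = j then (d i : F) else if h : j < i then s ⟨(i, j), h⟩ else 0

theorem mkMat_lower {n : ℕ} (d : Fin n → Fˣ) (s : {p : Fin n × Fin n // p.2 < p.1} → F)
    (i j : Fin n) (h : i < j) : mkMat d s i j = 0 := by
  rw [mkMat, if_neg h.ne, dif_neg (not_lt.2 h.le)]

theorem mkMat_det {n : ℕ} (d : Fin n → Fˣ) (s : {p : Fin n × Fin n // p.2 < p.1} → F) :
    (mkMat d s).det ≠ 0 := by
  rw [lower_det _ (mkMat_lower d s)]
  simp [mkMat, Finset.prod_ne_zero_iff]

noncomputable def equivLower (n : ℕ) :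
    {g : Matrix.GeneralLinearGroup (Fin n) F // ∀ i j : Fin n, i < j →
      (g : Matrix (Fin n) (Fin n) F) i j = 0} ≃
    (Fin n → Fˣ) × ({p : Fin n × Fin n // p.2 < p.1} → F) where
  toFun g := (fun i => Units.mk0 ((g.1 : Matrix (Fin n) (Fin n) F) i i) (by
      have h := Matrix.GeneralLinearGroup.det_ne_zero g.1
      rw [lower_det _ g.2, Finset.prod_ne_zero_iff] at h
      exact h i (Finset.mem_univ i)), fun p => (g.1 : Matrix (Fin n) (Fin n) F) p.1.1 p.1.2)
  invFun t := ⟨Matrix.GeneralLinearGroup.mkOfDetNeZero (mkMat t.1 t.2) (mkMat_det t.1 t.2),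
    mkMat_lower t.1 t.2⟩
  left_inv := by
    rintro ⟨g, hg⟩
    apply Subtype.ext
    apply Matrix.GeneralLinearGroup.ext
    intro i j
    change mkMat _ _ i j = _
    rw [mkMat]
    split_ifs with h1 h2
    · subst h1; rfl
    · rfl
    · have : i < j := lt_of_le_of_ne (not_lt.1 h2) h1
      exact (hg i j this).symm
  right_inv := by
    rintro ⟨d, s⟩
    refine Prod.ext ?_ ?_
    · funext i
      apply Units.ext
      change mkMat d s i i = _
      rw [mkMat, if_pos rfl]
    · funext ⟨⟨i, j⟩, h⟩
      change mkMat d s i j = _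
      have hne : i ≠ j := fun h' => by subst h'; exact lt_irrefl _ h
      rw [mkMat, if_neg hne, dif_pos h]

theorem result {F : Type*} [Field F] [Fintype F] {q : ℕ} (hF : Fintype.card F = q) (n : ℕ) : Nat.card {g : Matrix.GeneralLinearGroup (Fin n) F // ∀ i j : Fin n, i < j → (g : Matrix (Fin n) (Fin n) F) i j = 0} = q ^ (n * (n - 1) / 2) * (q - 1) ^ n := by
  classical
  rw [Nat.card_congr (equivLower n), Nat.card_eq_fintype_card, Fintype.card_prod, Fintype.card_fun,
    Fintype.card_fun, Fintype.card_units, hF, Fintype.card_fin, card_pairs, mul_comm]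

end Cfsg.Agent.S0769
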