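import Cfsg.Statements.S0770
import Mathlib

set_option autoImplicit false
open Cfsg

namespace Cfsg.Agent.S0770

open Matrix

variable {F : Type*} [Field F] (n : ℕ)

theorem mem_diag_iff (t : Matrix.GeneralLinearGroup (Fin n) F) :
    t ∈ ((Units.map (Matrix.diagonalRingHom (Fin n) F).toMonoidHom).range :
      Subgroup (Matrix.GeneralLinearGroup (Fin n) F)) ↔
    ∀ i j : Fin n, i ≠ j → (t : Matrix (Fin n) (Fin n) F) i j = 0 := by
  constructor
  · rintro ⟨u, rfl⟩ i j hij
    change Matrix.diagonal (u : Fin n → F) i j = 0
    exact Matrix.diagonal_apply_ne _ hij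
  · intro h
    have hdiag : (t : Matrix (Fin n) (Fin n) F) = Matrix.diagonal (fun i => (t : Matrix (Fin n) (Fin n) F) i i) := by
      ext i j
      by_cases hij : i = j
      · subst hij; simp
      · rw [h i j hij, Matrix.diagonal_apply_ne _ hij]
    have hdiag' : ((t⁻¹ : Matrix.GeneralLinearGroup (Fin n) F) : Matrix (Fin n) (Fin n) F) *
        Matrix.diagonal (fun i => (t : Matrix (Fin n) (Fin n) F) i i) = 1 := by
      rw [← hdiag, ← Units.val_mul, inv_mul_cancel]; rfl
    have hne : ∀ i, (t : Matrix (Fin n) (Fin n) F) i i ≠ 0 := by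
      intro i h0
      have := congrFun (congrFun hdiag' i) i
      rw [Matrix.mul_diagonal, h0, mul_zero, Matrix.one_apply_eq] at this
      exact zero_ne_one this
    let u : (Fin n → F)ˣ :=
      ⟨fun i => (t : Matrix (Fin n) (Fin n) F) i i, fun i => ((t : Matrix (Fin n) (Fin n) F) i i)⁻¹,
        by ext i; simp [hne i], by ext i; simp [hne i]⟩
    refine ⟨u, ?_⟩
    apply Units.ext
    change Matrix.diagonal (fun i => (t : Matrix (Fin n) (Fin n) F) i i) = _
    exact hdiag.symm

/-- a diagonal element of GL from nonzero entries -/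
noncomputable def dg (d : Fin n → F) (hd : ∀ i, d i ≠ 0) : Matrix.GeneralLinearGroup (Fin n) F :=
  Matrix.GeneralLinearGroup.mkOfDetNeZero (Matrix.diagonal d) (by
    rw [Matrix.det_diagonal]
    exact Finset.prod_ne_zero_iff.mpr (fun i _ => hd i))

theorem dg_coe (d : Fin n → F) (hd : ∀ i, d i ≠ 0) :
    (dg n d hd : Matrix (Fin n) (Fin n) F) = Matrix.diagonal d := rfl

theorem dg_mem (d : Fin n → F) (hd : ∀ i, d i ≠ 0) :
    dg n d hd ∈ ((Units.map (Matrix.diagonalRingHom (Fin n) F).toMonoidHom).range :
      Subgroup (Matrix.GeneralLinearGroup (Fin n) F)) := by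
  rw [mem_diag_iff]
  intro i j hij
  rw [dg_coe]
  exact Matrix.diagonal_apply_ne _ hij

theorem row_ne_zero (g : Matrix.GeneralLinearGroup (Fin n) F) (i : Fin n) :
    ∃ j, (g : Matrix (Fin n) (Fin n) F) i j ≠ 0 := by
  by_contra h
  push Not at h
  have h1 : (g : Matrix (Fin n) (Fin n) F) * ((g⁻¹ : Matrix.GeneralLinearGroup (Fin n) F) :
      Matrix (Fin n) (Fin n) F) = 1 := by
    rw [← Units.val_mul, mul_inv_cancel]; rfl
  have := congrFun (congrFun h1 i) i
  rw [Matrix.mul_apply, Matrix.one_apply_eq] at this
  simp only [h, zero_mul, Finset.sum_const_zero] at this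
  exact zero_ne_one this

/-- For a field with at least 3 elements, an invertible matrix normalises the subgroup of invertible diagonal matrices of GL_n if and only if it is monomial (exactly one non-zero entry in each row). -/
theorem result {F : Type*} [Field F] (hF : ∃ a : F, a ≠ 0 ∧ a ≠ 1) (n : ℕ) (g : Matrix.GeneralLinearGroup (Fin n) F) : g ∈ Subgroup.normalizer ((Units.map (Matrix.diagonalRingHom (Fin n) F).toMonoidHom).range : Subgroup (Matrix.GeneralLinearGroup (Fin n) F)) ↔ ∀ i : Fin n, ∃! j : Fin n, (g : Matrix (Fin n) (Fin n) F) i j ≠ 0 := by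
  classical
  obtain ⟨a, ha0, ha1⟩ := hF
  rw [Subgroup.mem_normalizer_iff]
  constructor
  · intro hg i
    obtain ⟨j, hj⟩ := row_ne_zero n g i
    refine ⟨j, hj, ?_⟩
    intro j' hj'
    by_contra hne
    -- the diagonal matrix with `a` at `j`
    have hd : ∀ k, Function.update (fun _ : Fin n => (1 : F)) j a k ≠ 0 := by
      intro k
      by_cases hk : k = j
      · subst hk; simp [ha0]
      · simp [Function.update_of_ne hk]
    have h1 := (hg (dg n _ hd)).mp (dg_mem n _ hd)
    rw [mem_diag_iff] at h1
    set t' := g * dg n _ hd * g⁻¹ with ht'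
    have h2 : g * dg n _ hd = t' * g := by rw [ht']; group
    have h3 : (g : Matrix (Fin n) (Fin n) F) * Matrix.diagonal
        (Function.update (fun _ : Fin n => (1 : F)) j a) =
        (t' : Matrix (Fin n) (Fin n) F) * (g : Matrix (Fin n) (Fin n) F) := by
      have := congrArg (fun x : Matrix.GeneralLinearGroup (Fin n) F =>
        (x : Matrix (Fin n) (Fin n) F)) h2
      simpa only [Units.val_mul, dg_coe] using this
    have hdiag : (t' : Matrix (Fin n) (Fin n) F) =
        Matrix.diagonal (fun i => (t' : Matrix (Fin n) (Fin n) F) i i) := by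
      ext k l
      by_cases hkl : k = l
      · subst hkl; simp
      · rw [h1 k l hkl, Matrix.diagonal_apply_ne _ hkl]
    rw [hdiag] at h3
    have e1 := congrFun (congrFun h3 i) j
    have e2 := congrFun (congrFun h3 i) j'
    rw [Matrix.mul_diagonal, Matrix.diagonal_mul] at e1 e2
    rw [Function.update_self] at e1
    rw [Function.update_of_ne hne] at e2
    have e3 : (t' : Matrix (Fin n) (Fin n) F) i i = a := by
      have : (g : Matrix (Fin n) (Fin n) F) i j * a = (g : Matrix (Fin n) (Fin n) F) i j * (t' : Matrix (Fin n) (Fin n) F) i i := by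
        rw [e1, mul_comm]
      exact (mul_left_cancel₀ hj this).symm
    have e4 : (t' : Matrix (Fin n) (Fin n) F) i i = 1 := by
      have : (g : Matrix (Fin n) (Fin n) F) i j' * 1 = (g : Matrix (Fin n) (Fin n) F) i j' * (t' : Matrix (Fin n) (Fin n) F) i i := by
        rw [e2, mul_comm]
      exact (mul_left_cancel₀ hj' this).symm
    exact ha1 (e3.symm.trans e4)
  · intro hrow
    choose π hπ hπu using hrow
    have hzero : ∀ i j, j ≠ π i → (g : Matrix (Fin n) (Fin n) F) i j = 0 := by
      intro i j hj
      by_contra h
      exact hj (hπu i j h)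
    have hgi : (g : Matrix (Fin n) (Fin n) F) * ((g⁻¹ : Matrix.GeneralLinearGroup (Fin n) F) :
        Matrix (Fin n) (Fin n) F) = 1 := by
      rw [← Units.val_mul, mul_inv_cancel]; rfl
    have hrowsum : ∀ i k, (g : Matrix (Fin n) (Fin n) F) i (π i) *
        ((g⁻¹ : Matrix.GeneralLinearGroup (Fin n) F) : Matrix (Fin n) (Fin n) F) (π i) k =
        (1 : Matrix (Fin n) (Fin n) F) i k := by
      intro i k
      rw [← hgi, Matrix.mul_apply]
      rw [Finset.sum_eq_single (π i)]
      · intro j _ hj
        rw [hzero i j hj, zero_mul]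
      · intro h; exact absurd (Finset.mem_univ _) h
    have hinj : Function.Injective π := by
      intro i i' hii
      by_contra hne
      have e1 := hrowsum i i
      have e2 := hrowsum i' i
      rw [Matrix.one_apply_eq] at e1
      rw [Matrix.one_apply_ne (Ne.symm hne), ← hii] at e2
      rcases mul_eq_zero.mp e2 with h | h
      · rw [hii] at h; exact hπ i' h
      · rw [h, mul_zero] at e1
        exact zero_ne_one e1
    have hsurj : Function.Surjective π := Finite.injective_iff_surjective.mp hinj
    intro h
    constructor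
    · intro hh
      rw [mem_diag_iff] at hh
      have hdiag : (h : Matrix (Fin n) (Fin n) F) =
          Matrix.diagonal (fun i => (h : Matrix (Fin n) (Fin n) F) i i) := by
        ext k l
        by_cases hkl : k = l
        · subst hkl; simp
        · rw [hh k l hkl, Matrix.diagonal_apply_ne _ hkl]
      -- g * h = h' * g with h' = diag (d ∘ π)
      have key : ∀ i j, i ≠ j → ((g * h * g⁻¹ : Matrix.GeneralLinearGroup (Fin n) F) :
          Matrix (Fin n) (Fin n) F) i j = 0 := by
        intro i j hij
        have e : (g : Matrix (Fin n) (Fin n) F) * (h : Matrix (Fin n) (Fin n) F) =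
            Matrix.diagonal (fun i => (h : Matrix (Fin n) (Fin n) F) (π i) (π i)) *
              (g : Matrix (Fin n) (Fin n) F) := by
          rw [hdiag]
          ext k l
          rw [Matrix.mul_diagonal, Matrix.diagonal_mul]
          by_cases hl : l = π k
          · subst hl
            simp only [Matrix.diagonal_apply_eq]
            ring
          · rw [hzero k l hl]; simp
        simp only [Units.val_mul]
        rw [e, Matrix.mul_assoc, hgi, Matrix.mul_one, Matrix.diagonal_apply_ne _ hij]
      rw [mem_diag_iff]
      exact key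
    · intro hh
      rw [mem_diag_iff] at hh ⊢
      set t' := g * h * g⁻¹ with ht'
      have h2 : g * h = t' * g := by rw [ht']; group
      have h3 : (g : Matrix (Fin n) (Fin n) F) * (h : Matrix (Fin n) (Fin n) F) =
          (t' : Matrix (Fin n) (Fin n) F) * (g : Matrix (Fin n) (Fin n) F) := by
        have := congrArg (fun x : Matrix.GeneralLinearGroup (Fin n) F =>
          (x : Matrix (Fin n) (Fin n) F)) h2
        simpa only [Units.val_mul] using this
      have hdiag : (t' : Matrix (Fin n) (Fin n) F) =
          Matrix.diagonal (fun i => (t' : Matrix (Fin n) (Fin n) F) i i) := by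
        ext k l
        by_cases hkl : k = l
        · subst hkl; simp
        · rw [hh k l hkl, Matrix.diagonal_apply_ne _ hkl]
      rw [hdiag] at h3
      intro k l hkl
      obtain ⟨i, rfl⟩ := hsurj k
      have e1 := congrFun (congrFun h3 i) l
      rw [Matrix.diagonal_mul, Matrix.mul_apply, hzero i l (Ne.symm hkl), mul_zero] at e1
      rw [Finset.sum_eq_single (π i)] at e1
      · rcases mul_eq_zero.mp e1 with h4 | h4
        · exact absurd h4 (hπ i)
        · exact h4
      · intro j _ hj
        rw [hzero i j hj, zero_mul]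
      · intro h; exact absurd (Finset.mem_univ _) h

end Cfsg.Agent.S0770
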