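import Cfsg.Statements.S0771
import Mathlib

set_option autoImplicit false
set_option linter.unusedSectionVars false
open Cfsg

namespace Cfsg.Agent.S0771

open Matrix

section
variable {F : Type*} [Field F] {ι ι₁ ι₂ : Type} [Fintype ι] [DecidableEq ι] [Fintype ι₁]
  [DecidableEq ι₁] [Fintype ι₂] [DecidableEq ι₂] (e : ι₁ ⊕ ι₂ ≃ ι)

/-- vectors vanishing on the second block -/
def SS : Set (ι → F) := {v | ∀ b, v (e (Sum.inr b)) = 0}

omit [DecidableEq ι] [DecidableEq ι₁] [DecidableEq ι₂] in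
theorem mulVec_comp (M : Matrix ι ι F) (v : ι → F) :
    (M *ᵥ v) ∘ e = (M.submatrix e e) *ᵥ (v ∘ e) := by
  rw [submatrix_mulVec_equiv]
  congr 2
  funext i
  simp

theorem block21_eq_zero (g : Matrix.GeneralLinearGroup ι F)
    (hg : g ∈ Cfsg.stabilizing (Cfsg.glToMat ι F) (SS (F := F) e)) :
    ((g : Matrix ι ι F).submatrix e e).toBlocks₂₁ = 0 := by
  ext b a
  have hv : (Pi.single (e (Sum.inl a)) 1 : ι → F) ∈ SS (F := F) e := by
    intro b
    rw [Pi.single_apply, if_neg]
    intro h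
    have := e.injective h
    simp at this
  have := (hg _).1 hv b
  change (g : Matrix ι ι F) (e (Sum.inr b)) (e (Sum.inl a)) = 0
  simpa [Matrix.mulVec_single_one] using this

theorem mem_stabilizing_of_blocks (M : Matrix ι ι F) (A : Matrix ι₁ ι₁ F) (B : Matrix ι₁ ι₂ F)
    (D : Matrix ι₂ ι₂ F) (hM : M.submatrix e e = fromBlocks A B 0 D) (hD : D.det ≠ 0)
    (v : ι → F) : v ∈ SS (F := F) e ↔ M *ᵥ v ∈ SS (F := F) e := by
  have h1 : ∀ b, (M *ᵥ v) (e (Sum.inr b)) = (D *ᵥ ((v ∘ e) ∘ Sum.inr)) b := by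
    intro b
    have := congrFun (mulVec_comp e M v) (Sum.inr b)
    rw [hM, fromBlocks_mulVec] at this
    simpa using this
  constructor
  · intro hv b
    rw [h1]
    have : (v ∘ e) ∘ Sum.inr = 0 := funext hv
    rw [this, Matrix.mulVec_zero]; rfl
  · intro hv
    have : D *ᵥ ((v ∘ e) ∘ Sum.inr) = 0 := by
      funext b
      rw [← h1]; exact hv b
    have h2 := Matrix.eq_zero_of_mulVec_eq_zero hD this
    exact fun b => congrFun h2 b

theorem det_blocks (g : Matrix.GeneralLinearGroup ι F)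
    (hg : g ∈ Cfsg.stabilizing (Cfsg.glToMat ι F) (SS (F := F) e)) :
    ((g : Matrix ι ι F).submatrix e e).toBlocks₁₁.det *
      ((g : Matrix ι ι F).submatrix e e).toBlocks₂₂.det ≠ 0 := by
  have h1 : (g : Matrix ι ι F).submatrix e e = fromBlocks
      ((g : Matrix ι ι F).submatrix e e).toBlocks₁₁ ((g : Matrix ι ι F).submatrix e e).toBlocks₁₂ 0
      ((g : Matrix ι ι F).submatrix e e).toBlocks₂₂ := by
    conv_lhs => rw [← fromBlocks_toBlocks ((g : Matrix ι ι F).submatrix e e)]
    rw [block21_eq_zero e g hg]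
  have h2 : ((g : Matrix ι ι F).submatrix e e).det = (g : Matrix ι ι F).det :=
    Matrix.det_submatrix_equiv_self e _
  rw [← det_fromBlocks_zero₂₁, ← h1, h2]
  exact Matrix.GeneralLinearGroup.det_ne_zero g

/-- the parabolic as a product -/
noncomputable def equivProd :
    ↥(Cfsg.stabilizing (Cfsg.glToMat ι F) (SS (F := F) e)) ≃
      Matrix.GeneralLinearGroup ι₁ F × Matrix.GeneralLinearGroup ι₂ F × Matrix ι₁ ι₂ F where
  toFun g :=
    (Matrix.GeneralLinearGroup.mkOfDetNeZero _ (left_ne_zero_of_mul (det_blocks e g.1 g.2)),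
     Matrix.GeneralLinearGroup.mkOfDetNeZero _ (right_ne_zero_of_mul (det_blocks e g.1 g.2)),
     ((g.1 : Matrix ι ι F).submatrix e e).toBlocks₁₂)
  invFun t :=
    ⟨Matrix.GeneralLinearGroup.mkOfDetNeZero
      ((fromBlocks (t.1 : Matrix ι₁ ι₁ F) t.2.2 0 (t.2.1 : Matrix ι₂ ι₂ F)).submatrix e.symm e.symm)
      (by
        rw [Matrix.det_submatrix_equiv_self, det_fromBlocks_zero₂₁]
        exact mul_ne_zero (Matrix.GeneralLinearGroup.det_ne_zero _)
          (Matrix.GeneralLinearGroup.det_ne_zero _)),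
     by
      intro v
      apply mem_stabilizing_of_blocks e _ (t.1 : Matrix ι₁ ι₁ F) t.2.2 (t.2.1 : Matrix ι₂ ι₂ F)
      · change ((fromBlocks (t.1 : Matrix ι₁ ι₁ F) t.2.2 0
          (t.2.1 : Matrix ι₂ ι₂ F)).submatrix e.symm e.symm).submatrix e e = _
        ext i j
        simp
      · exact Matrix.GeneralLinearGroup.det_ne_zero _⟩
  left_inv := by
    rintro ⟨g, hg⟩
    apply Subtype.ext
    apply Matrix.GeneralLinearGroup.ext
    intro i j
    change (fromBlocks ((g : Matrix ι ι F).submatrix e e).toBlocks₁₁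
      ((g : Matrix ι ι F).submatrix e e).toBlocks₁₂ 0
      ((g : Matrix ι ι F).submatrix e e).toBlocks₂₂).submatrix e.symm e.symm i j = _
    rw [← block21_eq_zero e g hg, fromBlocks_toBlocks]
    simp
  right_inv := by
    rintro ⟨a, d, B⟩
    refine Prod.ext ?_ (Prod.ext ?_ ?_)
    · apply Matrix.GeneralLinearGroup.ext
      intro i j
      change (((fromBlocks (a : Matrix ι₁ ι₁ F) B 0 (d : Matrix ι₂ ι₂ F)).submatrix e.symm
        e.symm).submatrix e e).toBlocks₁₁ i j = _
      simp [toBlocks₁₁]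
    · apply Matrix.GeneralLinearGroup.ext
      intro i j
      change (((fromBlocks (a : Matrix ι₁ ι₁ F) B 0 (d : Matrix ι₂ ι₂ F)).submatrix e.symm
        e.symm).submatrix e e).toBlocks₂₂ i j = _
      simp [toBlocks₂₂]
    · ext i j
      change (((fromBlocks (a : Matrix ι₁ ι₁ F) B 0 (d : Matrix ι₂ ι₂ F)).submatrix e.symm
        e.symm).submatrix e e).toBlocks₁₂ i j = _
      simp [toBlocks₁₂]

end

theorem result {F : Type*} [Field F] [Fintype F] {q : ℕ} (hF : Fintype.card F = q) (n k : ℕ) (hk : k ≤ n) : Nat.card ↥(Cfsg.stabilizing (Cfsg.glToMat (Fin n) F) {v : Fin n → F | ∀ i : Fin n, k ≤ (i : ℕ) → v i = 0}) = q ^ (k * (n - k)) * (∏ i : Fin k, (q ^ k - q ^ (i : ℕ))) * ∏ i : Fin (n - k), (q ^ (n - k) - q ^ (i : ℕ)) := by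
  classical
  let e : Fin k ⊕ Fin (n - k) ≃ Fin n :=
    finSumFinEquiv.trans (finCongr (by omega : k + (n - k) = n))
  have heinr : ∀ b : Fin (n - k), ((e (Sum.inr b) : Fin n) : ℕ) = k + b := by
    intro b
    simp [e]
  have hS : {v : Fin n → F | ∀ i : Fin n, k ≤ (i : ℕ) → v i = 0} = SS (F := F) e := by
    ext v
    constructor
    · intro hv b
      apply hv
      rw [heinr]; omega
    · intro hv i hi
      have : e (Sum.inr ⟨(i : ℕ) - k, by omega⟩) = i := by
        apply Fin.ext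
        rw [heinr]
        simp only []
        omega
      rw [← this]
      exact hv _
  rw [hS, Nat.card_congr (equivProd e), Nat.card_prod, Nat.card_prod, Matrix.card_GL_field,
    Matrix.card_GL_field, hF, Nat.card_eq_fintype_card]
  have : Fintype.card (Matrix (Fin k) (Fin (n - k)) F) = q ^ (k * (n - k)) := by
    change Fintype.card (Fin k → Fin (n - k) → F) = _
    rw [Fintype.card_fun, Fintype.card_fun, hF, Fintype.card_fin, Fintype.card_fin,
      ← pow_mul, mul_comm]
  rw [this]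
  ring

end Cfsg.Agent.S0771
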