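import Mathlib
import Cfsg.Statements.S0772

set_option autoImplicit false
open Cfsg

namespace Cfsg.Agent.S0772

open Matrix

variable {F : Type*} [Field F] {n : ℕ}

theorem vecMulVec_zero_right (x : Fin n → F) : vecMulVec x (0 : Fin n → F) = 0 := by
  ext i j
  simp [vecMulVec_apply]

theorem vmv_sq (x y : Fin n → F) (h : y ⬝ᵥ x = 0) : vecMulVec x y * vecMulVec x y = 0 := by
  rw [vecMulVec_mul_vecMulVec, h, zero_smul, vecMulVec_zero_right]

/-- rank one transvection as an element of `GL` -/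
def tv (x y : Fin n → F) (h : y ⬝ᵥ x = 0) : GL (Fin n) F :=
  ⟨1 + vecMulVec x y, 1 - vecMulVec x y, by
    have : (1 + vecMulVec x y) * (1 - vecMulVec x y) = 1 - vecMulVec x y * vecMulVec x y := by
      noncomm_ring
    rw [this, vmv_sq x y h, sub_zero], by
    have : (1 - vecMulVec x y) * (1 + vecMulVec x y) = 1 - vecMulVec x y * vecMulVec x y := by
      noncomm_ring
    rw [this, vmv_sq x y h, sub_zero]⟩

theorem tv_val (x y : Fin n → F) (h : y ⬝ᵥ x = 0) :
    ((tv x y h : GL (Fin n) F) : Matrix (Fin n) (Fin n) F) = 1 + vecMulVec x y := rfl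

theorem tv_inv_val (x y : Fin n → F) (h : y ⬝ᵥ x = 0) :
    (((tv x y h)⁻¹ : GL (Fin n) F) : Matrix (Fin n) (Fin n) F) = 1 - vecMulVec x y := rfl

theorem tv_congr {x x' y y' : Fin n → F} (h : y ⬝ᵥ x = 0) (hx : x = x') (hy : y = y') :
    tv x y h = tv x' y' (by rw [← hx, ← hy]; exact h) := by
  subst hx; subst hy; rfl

theorem conj_dot (g : GL (Fin n) F) (x y : Fin n → F) (h : y ⬝ᵥ x = 0) :
    (y ᵥ* (g⁻¹ : GL (Fin n) F).1) ⬝ᵥ (g.1 *ᵥ x) = 0 := by
  rw [← Matrix.dotProduct_mulVec, Matrix.mulVec_mulVec]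
  have : (g⁻¹ : GL (Fin n) F).1 * g.1 = 1 := by
    rw [← Units.val_mul, inv_mul_cancel, Units.val_one]
  rw [this, Matrix.one_mulVec, h]

theorem conj_tv (g : GL (Fin n) F) (x y : Fin n → F) (h : y ⬝ᵥ x = 0) :
    g * tv x y h * g⁻¹ = tv (g.1 *ᵥ x) (y ᵥ* (g⁻¹ : GL (Fin n) F).1) (conj_dot g x y h) := by
  apply Units.ext
  rw [Units.val_mul, Units.val_mul, tv_val, tv_val, mul_add, add_mul, mul_one,
    mul_vecMulVec, vecMulVec_mul]
  congr 1
  rw [← Units.val_mul, mul_inv_cancel, Units.val_one]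

theorem tv_mulVec (x y : Fin n → F) (h : y ⬝ᵥ x = 0) (u : Fin n → F) :
    (tv x y h : GL (Fin n) F).1 *ᵥ u = u + (y ⬝ᵥ u) • x := by
  rw [tv_val, Matrix.add_mulVec, Matrix.one_mulVec, vecMulVec_mulVec]
  simp

theorem vecMul_tv_inv (x y : Fin n → F) (h : y ⬝ᵥ x = 0) (φ : Fin n → F) :
    φ ᵥ* ((tv x y h)⁻¹ : GL (Fin n) F).1 = φ - (φ ⬝ᵥ x) • y := by
  rw [tv_inv_val, Matrix.vecMul_sub, Matrix.vecMul_one, vecMul_vecMulVec]

theorem tv_add_left (x x' y : Fin n → F) (h : y ⬝ᵥ x = 0) (h' : y ⬝ᵥ x' = 0) :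
    tv (x + x') y (by rw [dotProduct_add, h, h', add_zero]) = tv x y h * tv x' y h' := by
  apply Units.ext
  rw [Units.val_mul, tv_val, tv_val, tv_val, add_mul, mul_add, mul_add, mul_one, one_mul, mul_one,
    vecMulVec_mul_vecMulVec, h', zero_smul, vecMulVec_zero_right]
  have : vecMulVec (x + x') y = vecMulVec x y + vecMulVec x' y := by
    ext i j
    simp [vecMulVec_apply, add_mul]
  rw [this]
  abel

theorem tv_add_right (x y y' : Fin n → F) (h : y ⬝ᵥ x = 0) (h' : y' ⬝ᵥ x = 0) :
    tv x (y + y') (by rw [add_dotProduct, h, h', add_zero]) = tv x y h * tv x y' h' := by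
  apply Units.ext
  rw [Units.val_mul, tv_val, tv_val, tv_val, add_mul, mul_add, mul_add, mul_one, one_mul, mul_one,
    vecMulVec_mul_vecMulVec, h, zero_smul, vecMulVec_zero_right]
  have : vecMulVec x (y + y') = vecMulVec x y + vecMulVec x y' := by
    ext i j
    simp [vecMulVec_apply, mul_add]
  rw [this]
  abel

section para

variable (k : ℕ)

/-- the coordinate subspace -/
def Wk (F : Type*) [Field F] (n k : ℕ) : Set (Fin n → F) := {v | ∀ i : Fin n, k ≤ (i : ℕ) → v i = 0}

/-- the parabolic -/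
abbrev Pk (F : Type*) [Field F] (n k : ℕ) : Subgroup (GL (Fin n) F) :=
  Cfsg.stabilizing (Cfsg.glToMat (Fin n) F) (Wk F n k)

theorem mem_Pk_iff (g : GL (Fin n) F) :
    g ∈ Pk F n k ↔ ∀ v, v ∈ Wk F n k ↔ g.1 *ᵥ v ∈ Wk F n k := Iff.rfl

theorem map_Wk_of_LL (M : Matrix (Fin n) (Fin n) F)
    (h : ∀ i j : Fin n, k ≤ (i : ℕ) → (j : ℕ) < k → M i j = 0) (v : Fin n → F) (hv : v ∈ Wk F n k) :
    M *ᵥ v ∈ Wk F n k := by
  intro i hi
  rw [Matrix.mulVec, dotProduct]
  apply Finset.sum_eq_zero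
  intro j _
  by_cases hj : (j : ℕ) < k
  · rw [h i j hi hj, zero_mul]
  · rw [hv j (by omega), mul_zero]

theorem mem_Pk_of_LL (g : GL (Fin n) F)
    (h1 : ∀ i j : Fin n, k ≤ (i : ℕ) → (j : ℕ) < k → g.1 i j = 0)
    (h2 : ∀ i j : Fin n, k ≤ (i : ℕ) → (j : ℕ) < k → (g⁻¹ : GL (Fin n) F).1 i j = 0) :
    g ∈ Pk F n k := by
  rw [mem_Pk_iff]
  intro v
  constructor
  · exact map_Wk_of_LL k g.1 h1 v
  · intro hgv
    have := map_Wk_of_LL k (g⁻¹ : GL (Fin n) F).1 h2 _ hgv
    rw [Matrix.mulVec_mulVec, ← Units.val_mul, inv_mul_cancel, Units.val_one,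
      Matrix.one_mulVec] at this
    exact this

theorem LL_of_mem_Pk (g : GL (Fin n) F) (hg : g ∈ Pk F n k) (i j : Fin n) (hi : k ≤ (i : ℕ))
    (hj : (j : ℕ) < k) : g.1 i j = 0 := by
  rw [mem_Pk_iff] at hg
  have hmem : (Pi.single j 1 : Fin n → F) ∈ Wk F n k := by
    intro i' hi'
    have : i' ≠ j := by
      intro h
      rw [h] at hi'
      omega
    rw [Pi.single_eq_of_ne this]
  have := (hg _).1 hmem i hi
  rwa [Matrix.mulVec_single_one] at this

theorem tv_mem_Pk (x y : Fin n → F) (h : y ⬝ᵥ x = 0)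
    (hxy : ∀ i j : Fin n, k ≤ (i : ℕ) → (j : ℕ) < k → x i * y j = 0) : tv x y h ∈ Pk F n k := by
  apply mem_Pk_of_LL
  · intro i j hi hj
    have hij : i ≠ j := by
      intro h
      rw [h] at hi
      omega
    rw [tv_val, Matrix.add_apply, Matrix.one_apply_ne hij, vecMulVec_apply, hxy i j hi hj, add_zero]
  · intro i j hi hj
    have hij : i ≠ j := by
      intro h
      rw [h] at hi
      omega
    rw [tv_inv_val, Matrix.sub_apply, Matrix.one_apply_ne hij, vecMulVec_apply, hxy i j hi hj,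
      sub_zero]

end para

/-- elementary transvection `E_{rs}(c)` -/
def el (r s : Fin n) (c : F) (hrs : r ≠ s) : GL (Fin n) F :=
  tv (c • Pi.single r 1) (Pi.single s 1) (by
    rw [dotProduct_smul, single_dotProduct, one_mul, Pi.single_eq_of_ne (Ne.symm hrs), smul_zero])

theorem el_val (r s : Fin n) (c : F) (hrs : r ≠ s) :
    ((el r s c hrs : GL (Fin n) F) : Matrix (Fin n) (Fin n) F) = Matrix.transvection r s c := by
  rw [el, tv_val, Matrix.transvection]
  congr 1
  ext i j
  simp only [vecMulVec_apply, Pi.smul_apply, smul_eq_mul, Matrix.single_apply, Pi.single_apply]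
  by_cases hi : r = i <;> by_cases hj : s = j <;> simp [hi, hj, eq_comm]

theorem el_dot (r s : Fin n) (c : F) (hrs : r ≠ s) :
    (Pi.single s 1 : Fin n → F) ⬝ᵥ (c • Pi.single r 1) = 0 := by
  rw [dotProduct_smul, single_dotProduct, one_mul, Pi.single_eq_of_ne (Ne.symm hrs), smul_zero]

theorem conj_el (g : GL (Fin n) F) (r s : Fin n) (c : F) (hrs : r ≠ s) :
    g * el r s c hrs * g⁻¹ = tv (g.1 *ᵥ (c • Pi.single r 1))
      ((Pi.single s 1 : Fin n → F) ᵥ* (g⁻¹ : GL (Fin n) F).1)
      (conj_dot g _ _ (el_dot r s c hrs)) :=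
  conj_tv g _ _ _

theorem el_eq_tv (r s : Fin n) (c : F) (hrs : r ≠ s) :
    el r s c hrs = tv (c • Pi.single r 1) (Pi.single s 1) (el_dot r s c hrs) := rfl

section reduce

variable (k : ℕ) (H : Subgroup (GL (Fin n) F)) (hPH : Pk F n k ≤ H)

include hPH in
/-- From a rank one transvection in `H` outside the parabolic, get an elementary one. -/
theorem red2 (u φ : Fin n → F) (h : φ ⬝ᵥ u = 0) (hT : tv u φ h ∈ H) (i a : Fin n)
    (hi : k ≤ (i : ℕ)) (ha : (a : ℕ) < k) (hui : u i ≠ 0) (hφa : φ a ≠ 0) :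
    ∃ c : F, c ≠ 0 ∧ ∃ hia : i ≠ a, el i a c hia ∈ H := by
  classical
  have hia : i ≠ a := by
    intro h
    rw [h] at hi
    omega
  -- first conjugation
  set x : Fin n → F := Pi.single i 1 - (u i)⁻¹ • u with hx
  have hx0 : (Pi.single i 1 : Fin n → F) ⬝ᵥ x = 0 := by
    rw [single_dotProduct, one_mul, hx, Pi.sub_apply, Pi.single_eq_same, Pi.smul_apply, smul_eq_mul,
      inv_mul_cancel₀ hui, sub_self]
  have hg1 : tv x (Pi.single i 1) hx0 ∈ H := by
    apply hPH
    apply tv_mem_Pk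
    intro i' j' hi' hj'
    have : j' ≠ i := by
      intro h
      rw [h] at hj'
      omega
    rw [Pi.single_eq_of_ne this, mul_zero]
  have hT1 := H.mul_mem (H.mul_mem hg1 hT) (H.inv_mem hg1)
  rw [conj_tv] at hT1
  have hu1 : (tv x (Pi.single i 1) hx0 : GL (Fin n) F).1 *ᵥ u = u i • Pi.single i 1 := by
    rw [tv_mulVec, single_dotProduct, one_mul, hx, smul_sub, smul_smul, mul_inv_cancel₀ hui,
      one_smul]
    abel
  set φ₁ : Fin n → F := φ ᵥ* ((tv x (Pi.single i 1) hx0)⁻¹ : GL (Fin n) F).1 with hφ₁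
  have hφ₁eq : φ₁ = φ - (φ ⬝ᵥ x) • Pi.single i 1 := vecMul_tv_inv _ _ _ _
  have hφ₁a : φ₁ a = φ a := by
    rw [hφ₁eq, Pi.sub_apply, Pi.smul_apply, Pi.single_eq_of_ne (Ne.symm hia), smul_zero, sub_zero]
  have hdot1 : φ₁ ⬝ᵥ (u i • Pi.single i 1) = 0 := by
    rw [← hu1]
    exact conj_dot _ _ _ h
  have hφ₁i : φ₁ i = 0 := by
    rw [dotProduct_smul, dotProduct_single, mul_one, smul_eq_mul] at hdot1
    exact (mul_eq_zero.1 hdot1).resolve_left hui
  have hT1' : tv (u i • Pi.single i 1) φ₁ hdot1 ∈ H := by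
    have := tv_congr (conj_dot (tv x (Pi.single i 1) hx0) u φ h) hu1 rfl
    rw [this] at hT1
    exact hT1
  -- second conjugation
  have hφ₁a0 : φ₁ a ≠ 0 := by rw [hφ₁a]; exact hφa
  set y : Fin n → F := (φ₁ a)⁻¹ • φ₁ - Pi.single a 1 with hy
  have hy0 : y ⬝ᵥ (Pi.single a 1 : Fin n → F) = 0 := by
    rw [dotProduct_single, mul_one, hy, Pi.sub_apply, Pi.single_eq_same, Pi.smul_apply, smul_eq_mul,
      inv_mul_cancel₀ hφ₁a0, sub_self]
  have hg2 : tv (Pi.single a 1) y hy0 ∈ H := by
    apply hPH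
    apply tv_mem_Pk
    intro i' j' hi' hj'
    have : i' ≠ a := by
      intro h
      rw [h] at hi'
      omega
    rw [Pi.single_eq_of_ne this, zero_mul]
  have hT2 := H.mul_mem (H.mul_mem hg2 hT1') (H.inv_mem hg2)
  rw [conj_tv] at hT2
  have hyi : y i = 0 := by
    rw [hy, Pi.sub_apply, Pi.smul_apply, hφ₁i, smul_zero, Pi.single_eq_of_ne hia, sub_zero]
  have hu2 : (tv (Pi.single a 1) y hy0 : GL (Fin n) F).1 *ᵥ (u i • Pi.single i 1) =
      u i • Pi.single i 1 := by
    rw [tv_mulVec, dotProduct_smul, dotProduct_single, mul_one, hyi, smul_zero, zero_smul, add_zero]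
  have hφ2 : φ₁ ᵥ* ((tv (Pi.single a 1) y hy0)⁻¹ : GL (Fin n) F).1 = φ₁ a • Pi.single a 1 := by
    rw [vecMul_tv_inv, dotProduct_single, mul_one, hy, smul_sub, smul_smul, mul_inv_cancel₀ hφ₁a0,
      one_smul]
    abel
  refine ⟨u i * φ₁ a, mul_ne_zero hui hφ₁a0, hia, ?_⟩
  have hfin := tv_congr (conj_dot (tv (Pi.single a 1) y hy0) _ _ hdot1) hu2 hφ2
  rw [hfin] at hT2
  have hfin2 : tv (u i • Pi.single i 1) (φ₁ a • Pi.single a 1)
      (by rw [← hu2, ← hφ2]; exact conj_dot (tv (Pi.single a 1) y hy0) _ _ hdot1) =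
      el i a (u i * φ₁ a) hia := by
    apply Units.ext
    rw [tv_val, el, tv_val]
    congr 1
    ext r s
    simp only [vecMulVec_apply, Pi.smul_apply, smul_eq_mul]
    ring
  rw [hfin2] at hT2
  exact hT2

include hPH in
/-- An element of `H` with a nonzero lower-left entry produces an elementary transvection. -/
theorem red1 (g : GL (Fin n) F) (hg : g ∈ H) (i a : Fin n)
    (hi : k ≤ (i : ℕ)) (ha : (a : ℕ) < k) (hgia : g.1 i a ≠ 0) :
    ∃ c : F, c ≠ 0 ∧ ∃ hia : i ≠ a, el i a c hia ∈ H := by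
  classical
  have hia : i ≠ a := by
    intro h
    rw [h] at hi
    omega
  have hinv : g.1 * (g⁻¹ : GL (Fin n) F).1 = 1 := by
    rw [← Units.val_mul, mul_inv_cancel, Units.val_one]
  -- a row `b ≠ a` of the inverse with nonzero entry in column `a`
  obtain ⟨b, hba, hb⟩ : ∃ b : Fin n, b ≠ a ∧ (g⁻¹ : GL (Fin n) F).1 b a ≠ 0 := by
    by_contra hno
    have hall : ∀ b : Fin n, b ≠ a → (g⁻¹ : GL (Fin n) F).1 b a = 0 := by
      intro b hba
      by_contra hb
      exact hno ⟨b, hba, hb⟩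
    have h1 := congrFun (congrFun hinv i) a
    rw [Matrix.mul_apply, Matrix.one_apply_ne hia,
      Finset.sum_eq_single a (fun b _ hba => by rw [hall b hba, mul_zero])
        (fun h => absurd (Finset.mem_univ a) h)] at h1
    have haa : (g⁻¹ : GL (Fin n) F).1 a a = 0 := (mul_eq_zero.1 h1).resolve_left hgia
    have h2 := congrFun (congrFun hinv a) a
    rw [Matrix.mul_apply, Matrix.one_apply_eq,
      Finset.sum_eq_single a (fun b _ hba => by rw [hall b hba, mul_zero])
        (fun h => absurd (Finset.mem_univ a) h), haa, mul_zero] at h2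
    exact zero_ne_one h2
  have hab0 : (Pi.single b 1 : Fin n → F) ⬝ᵥ (Pi.single a 1 : Fin n → F) = 0 := by
    rw [single_dotProduct, one_mul, Pi.single_eq_of_ne hba]
  have ht : tv (Pi.single a 1) (Pi.single b 1) hab0 ∈ H := by
    apply hPH
    apply tv_mem_Pk
    intro i' j' hi' hj'
    have : i' ≠ a := by
      intro h
      rw [h] at hi'
      omega
    rw [Pi.single_eq_of_ne this, zero_mul]
  have hT := H.mul_mem (H.mul_mem hg ht) (H.inv_mem hg)
  rw [conj_tv] at hT
  apply red2 k H hPH _ _ _ hT i a hi ha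
  · rw [Matrix.mulVec_single_one]
    exact hgia
  · rw [Matrix.single_one_vecMul]
    exact hb

end reduce

section spread

variable (k : ℕ) (H : Subgroup (GL (Fin n) F)) (hPH : Pk F n k ≤ H)

/-- an invertible diagonal matrix -/
def dg (d : Fin n → F) (hd : ∀ j, d j ≠ 0) : GL (Fin n) F :=
  ⟨Matrix.diagonal d, Matrix.diagonal (fun j => (d j)⁻¹), by
    rw [Matrix.diagonal_mul_diagonal]
    have : (fun j => d j * (d j)⁻¹) = fun _ => (1 : F) := funext fun j => mul_inv_cancel₀ (hd j)
    rw [this, Matrix.diagonal_one], by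
    rw [Matrix.diagonal_mul_diagonal]
    have : (fun j => (d j)⁻¹ * d j) = fun _ => (1 : F) := funext fun j => inv_mul_cancel₀ (hd j)
    rw [this, Matrix.diagonal_one]⟩

theorem diag_mem_Pk (g : GL (Fin n) F) (d : Fin n → F) (hd : ∀ j, d j ≠ 0)
    (hg : g.1 = Matrix.diagonal d) : g ∈ Pk F n k := by
  rw [mem_Pk_iff]
  intro v
  rw [hg]
  constructor
  · intro hv i hi
    rw [Matrix.mulVec_diagonal, hv i hi, mul_zero]
  · intro hv i hi
    have := hv i hi
    rw [Matrix.mulVec_diagonal] at this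
    exact (mul_eq_zero.1 this).resolve_left (hd i)

include hPH in
theorem spread_scale (i a : Fin n) (hia : i ≠ a) (c₀ : F) (hc₀ : c₀ ≠ 0)
    (hel : el i a c₀ hia ∈ H) (c : F) : el i a c hia ∈ H := by
  classical
  by_cases hc : c = 0
  · have : el i a c hia = 1 := by
      apply Units.ext
      rw [el_val, hc, Matrix.transvection_zero, Units.val_one]
    rw [this]
    exact H.one_mem
  · set d : Fin n → F := fun j => if j = i then c / c₀ else 1 with hd
    have hd0 : ∀ j, d j ≠ 0 := by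
      intro j
      rw [hd]
      by_cases hj : j = i
      · simp only [hj, if_true]
        exact div_ne_zero hc hc₀
      · simp only [hj, if_false]
        exact one_ne_zero
    have hD : dg d hd0 ∈ H := hPH (diag_mem_Pk k _ d hd0 rfl)
    have hconj := H.mul_mem (H.mul_mem hD hel) (H.inv_mem hD)
    rw [conj_el] at hconj
    have h1 : (dg d hd0 : GL (Fin n) F).1 *ᵥ (c₀ • Pi.single i 1) = c • Pi.single i 1 := by
      show Matrix.diagonal d *ᵥ (c₀ • Pi.single i 1) = c • Pi.single i 1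
      ext j
      rw [Matrix.mulVec_diagonal, Pi.smul_apply, Pi.smul_apply, hd]
      by_cases hj : j = i
      · subst hj
        simp only [if_true, Pi.single_eq_same, smul_eq_mul, mul_one]
        field_simp
      · simp [hj]
    have h2 : (Pi.single a 1 : Fin n → F) ᵥ* ((dg d hd0)⁻¹ : GL (Fin n) F).1 = Pi.single a 1 := by
      show (Pi.single a 1 : Fin n → F) ᵥ* Matrix.diagonal (fun j => (d j)⁻¹) = Pi.single a 1
      ext j
      rw [Matrix.vecMul_diagonal]
      by_cases hj : j = a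
      · subst hj
        have : d j = 1 := by
          rw [hd]
          simp only [Ne.symm hia, if_false]
        rw [this]
        simp
      · rw [Pi.single_eq_of_ne hj, zero_mul]
    have := tv_congr (conj_dot (dg d hd0) _ _ (el_dot i a c₀ hia)) h1 h2
    rw [this] at hconj
    exact hconj

include hPH in
theorem spread_row (i a r : Fin n) (hia : i ≠ a) (hra : r ≠ a) (hri : r ≠ i) (hi : k ≤ (i : ℕ))
    (c : F) (hel : el i a c hia ∈ H) : el r a c hra ∈ H := by
  classical
  have hE : el r i 1 hri ∈ H := by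
    apply hPH
    apply tv_mem_Pk
    intro i' j' hi' hj'
    have : j' ≠ i := by
      intro h
      rw [h] at hj'
      omega
    rw [Pi.single_eq_of_ne this, mul_zero]
  have hconj := H.mul_mem (H.mul_mem hE hel) (H.inv_mem hE)
  rw [conj_el] at hconj
  have h1 : (el r i 1 hri : GL (Fin n) F).1 *ᵥ (c • Pi.single i 1) =
      c • Pi.single i 1 + c • Pi.single r 1 := by
    rw [el, tv_mulVec, single_dotProduct, one_mul, Pi.smul_apply, Pi.single_eq_same, smul_eq_mul,
      mul_one, one_smul]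
  have h2 : (Pi.single a 1 : Fin n → F) ᵥ* ((el r i 1 hri)⁻¹ : GL (Fin n) F).1 = Pi.single a 1 := by
    rw [el, vecMul_tv_inv, single_dotProduct, one_mul, Pi.smul_apply, Pi.single_eq_of_ne hra.symm,
      smul_zero, zero_smul, sub_zero]
  have h3 := tv_congr (conj_dot (el r i 1 hri) _ _ (el_dot i a c hia)) h1 h2
  rw [h3, tv_add_left (c • Pi.single i 1) (c • Pi.single r 1) (Pi.single a 1)
    (by rw [dotProduct_smul, single_dotProduct, one_mul, Pi.single_eq_of_ne hia.symm, smul_zero])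
    (by rw [dotProduct_smul, single_dotProduct, one_mul, Pi.single_eq_of_ne hra.symm, smul_zero])]
    at hconj
  have := H.mul_mem (H.inv_mem hel) hconj
  rw [el_eq_tv i a c hia, inv_mul_cancel_left] at this
  exact this

include hPH in
theorem spread_col (r a s : Fin n) (hra : r ≠ a) (hrs : r ≠ s) (has : a ≠ s) (ha : (a : ℕ) < k)
    (c : F) (hel : el r a c hra ∈ H) : el r s c hrs ∈ H := by
  classical
  have h0 : (-(Pi.single s 1 : Fin n → F)) ⬝ᵥ (Pi.single a 1 : Fin n → F) = 0 := by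
    rw [neg_dotProduct, single_dotProduct, one_mul, Pi.single_eq_of_ne has.symm, neg_zero]
  have hE : tv (Pi.single a 1) (-(Pi.single s 1 : Fin n → F)) h0 ∈ H := by
    apply hPH
    apply tv_mem_Pk
    intro i' j' hi' hj'
    have : i' ≠ a := by
      intro h
      rw [h] at hi'
      omega
    rw [Pi.single_eq_of_ne this, zero_mul]
  have hconj := H.mul_mem (H.mul_mem hE hel) (H.inv_mem hE)
  rw [conj_el] at hconj
  have h1 : (tv (Pi.single a 1) (-(Pi.single s 1 : Fin n → F)) h0 : GL (Fin n) F).1 *ᵥ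
      (c • Pi.single r 1) = c • Pi.single r 1 := by
    rw [tv_mulVec, neg_dotProduct, single_dotProduct, one_mul, Pi.smul_apply,
      Pi.single_eq_of_ne hrs.symm, smul_zero, neg_zero, zero_smul, add_zero]
  have h2 : (Pi.single a 1 : Fin n → F) ᵥ*
      ((tv (Pi.single a 1) (-(Pi.single s 1 : Fin n → F)) h0)⁻¹ : GL (Fin n) F).1 =
      Pi.single a 1 + Pi.single s 1 := by
    rw [vecMul_tv_inv, single_dotProduct, one_mul, Pi.single_eq_same, one_smul, sub_neg_eq_add]
  have h3 := tv_congr (conj_dot (tv (Pi.single a 1) (-(Pi.single s 1 : Fin n → F)) h0) _ _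
    (el_dot r a c hra)) h1 h2
  rw [h3, tv_add_right (c • Pi.single r 1) (Pi.single a 1) (Pi.single s 1)
    (by rw [dotProduct_smul, single_dotProduct, one_mul, Pi.single_eq_of_ne hra.symm, smul_zero])
    (by rw [dotProduct_smul, single_dotProduct, one_mul, Pi.single_eq_of_ne hrs.symm, smul_zero])]
    at hconj
  have := H.mul_mem (H.inv_mem hel) hconj
  rw [el_eq_tv r a c hra, inv_mul_cancel_left] at this
  exact this

end spread

section final

variable (k : ℕ) (H : Subgroup (GL (Fin n) F)) (hPH : Pk F n k ≤ H)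

include hPH in
theorem all_mem
    (hall : ∀ (r s : Fin n) (c : F) (hrs : r ≠ s), k ≤ (r : ℕ) → (s : ℕ) < k → el r s c hrs ∈ H)
    (g : GL (Fin n) F) : g ∈ H := by
  classical
  have hdet : (g.1).det ≠ 0 := by
    have := Matrix.isUnits_det_units g
    exact this.ne_zero
  have key : ∀ g' : GL (Fin n) F, g'.1 = g.1 → g' ∈ H := by
    refine Matrix.diagonal_transvection_induction_of_det_ne_zero
      (fun M => ∀ g' : GL (Fin n) F, g'.1 = M → g' ∈ H) g.1 hdet ?_ ?_ ?_
    · intro D hD g' hg'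
      apply hPH
      apply diag_mem_Pk k g' D _ hg'
      intro j
      rw [Matrix.det_diagonal] at hD
      exact (Finset.prod_ne_zero_iff.1 hD) j (Finset.mem_univ j)
    · intro t g' hg'
      have : g' = el t.i t.j t.c t.hij := by
        apply Units.ext
        rw [hg', el_val]
        rfl
      rw [this]
      by_cases hll : k ≤ (t.i : ℕ) ∧ (t.j : ℕ) < k
      · exact hall _ _ _ _ hll.1 hll.2
      · apply hPH
        apply tv_mem_Pk
        intro i' j' hi' hj'
        by_cases h1 : i' = t.i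
        · by_cases h2 : j' = t.j
          · exfalso
            apply hll
            rw [← h1, ← h2]
            exact ⟨hi', hj'⟩
          · rw [Pi.single_eq_of_ne h2, mul_zero]
        · rw [Pi.smul_apply, Pi.single_eq_of_ne h1, smul_zero, zero_mul]
    · intro A B hA hB QA QB g' hg'
      have hA' : IsUnit A.det := isUnit_iff_ne_zero.2 hA
      have hB' : IsUnit B.det := isUnit_iff_ne_zero.2 hB
      have : g' = Matrix.nonsingInvUnit A hA' * Matrix.nonsingInvUnit B hB' := by
        apply Units.ext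
        rw [hg']
        rfl
      rw [this]
      exact H.mul_mem (QA _ rfl) (QB _ rfl)
  exact key g rfl

end final

/-- Maximal parabolics are maximal: over a finite field, for 0 < k < n the stabiliser in GL_n of the span of the first k coordinate vectors is a maximal proper subgroup. -/
theorem result {F : Type*} [Field F] [Finite F] (n k : ℕ) (hk0 : 0 < k) (hkn : k < n) : IsCoatom (Cfsg.stabilizing (Cfsg.glToMat (Fin n) F) {v : Fin n → F | ∀ i : Fin n, k ≤ (i : ℕ) → v i = 0}) := by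
  classical
  show IsCoatom (Pk F n k)
  have h0k : (⟨k, hkn⟩ : Fin n) ≠ ⟨0, by omega⟩ := by
    intro h
    have := congrArg Fin.val h
    simp at this
    omega
  constructor
  · -- not the whole group
    intro htop
    have hmem : el (⟨k, hkn⟩ : Fin n) ⟨0, by omega⟩ (1 : F) h0k ∈ Pk F n k := by
      rw [htop]; trivial
    have := LL_of_mem_Pk k _ hmem ⟨k, hkn⟩ ⟨0, by omega⟩ le_rfl hk0
    rw [el_val, Matrix.transvection, Matrix.add_apply, Matrix.one_apply_ne h0k,
      Matrix.single_apply_same, zero_add] at this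
    exact one_ne_zero this
  · intro H hlt
    have hPH : Pk F n k ≤ H := le_of_lt hlt
    obtain ⟨g, hgH, hgP⟩ := SetLike.exists_of_lt hlt
    -- an element of `H` with nonzero lower-left entry
    have hex : ∃ g' ∈ H, ∃ i a : Fin n, k ≤ (i : ℕ) ∧ (a : ℕ) < k ∧ g'.1 i a ≠ 0 := by
      rw [mem_Pk_iff] at hgP
      have hcase : ∃ g' ∈ H, ∃ v, v ∈ Wk F n k ∧ g'.1 *ᵥ v ∉ Wk F n k := by
        by_contra hno
        apply hgP
        intro v
        constructor
        · intro hv
          by_contra hgv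
          exact hno ⟨g, hgH, v, hv, hgv⟩
        · intro hgv
          by_contra hv
          apply hno
          refine ⟨g⁻¹, H.inv_mem hgH, g.1 *ᵥ v, hgv, ?_⟩
          rw [Matrix.mulVec_mulVec, ← Units.val_mul, inv_mul_cancel, Units.val_one,
            Matrix.one_mulVec]
          exact hv
      obtain ⟨g', hg'H, v, hv, hgv⟩ := hcase
      have : ∃ i : Fin n, k ≤ (i : ℕ) ∧ (g'.1 *ᵥ v) i ≠ 0 := by
        by_contra hno
        apply hgv
        intro i hi
        by_contra h
        exact hno ⟨i, hi, h⟩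
      obtain ⟨i, hi, hne⟩ := this
      rw [Matrix.mulVec, dotProduct] at hne
      obtain ⟨a, -, ha⟩ := Finset.exists_ne_zero_of_sum_ne_zero hne
      have hva : v a ≠ 0 := right_ne_zero_of_mul ha
      have hak : (a : ℕ) < k := by
        by_contra h
        exact hva (hv a (by omega))
      exact ⟨g', hg'H, i, a, hi, hak, left_ne_zero_of_mul ha⟩
    obtain ⟨g', hg'H, i, a, hi, ha, hne⟩ := hex
    obtain ⟨c₀, hc₀, hia, hel⟩ := red1 k H hPH g' hg'H i a hi ha hne
    rw [eq_top_iff]
    intro x _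
    apply all_mem k H hPH
    intro r s c hrs hr hs
    have h1 : el i a c hia ∈ H := spread_scale k H hPH i a hia c₀ hc₀ hel c
    have hra : r ≠ a := by
      intro h
      rw [h] at hr
      omega
    have h2 : el r a c hra ∈ H := by
      by_cases hri : r = i
      · subst hri
        exact h1
      · exact spread_row k H hPH i a r hia hra hri hi c h1
    by_cases has : a = s
    · subst has
      exact h2
    · exact spread_col k H hPH r a s hra hrs has ha c h2

end Cfsg.Agent.S0772
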