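import Mathlib
import Cfsg.Statements.S0773
import Cfsg.Agent.S0772

set_option autoImplicit false
open Cfsg

namespace Cfsg.Agent.S0773

open Matrix Cfsg.Agent.S0772

variable {F : Type*} [Field F] {n : ℕ}

/-! ### the transpose-inverse-reversal automorphism -/

/-- reversal + transpose of a matrix -/
def thm (M : Matrix (Fin n) (Fin n) F) : Matrix (Fin n) (Fin n) F :=
  fun i j => M (Fin.rev j) (Fin.rev i)

theorem thm_apply (M : Matrix (Fin n) (Fin n) F) (i j : Fin n) :
    thm M i j = M (Fin.rev j) (Fin.rev i) := rfl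

theorem thm_mul (M N : Matrix (Fin n) (Fin n) F) : thm (M * N) = thm N * thm M := by
  ext i j
  rw [thm_apply, Matrix.mul_apply, Matrix.mul_apply]
  rw [← Equiv.sum_comp Fin.revPerm]
  apply Finset.sum_congr rfl
  intro l _
  rw [thm_apply, thm_apply, mul_comm]
  simp

theorem thm_one : thm (1 : Matrix (Fin n) (Fin n) F) = 1 := by
  ext i j
  rw [thm_apply, Matrix.one_apply, Matrix.one_apply]
  by_cases h : i = j
  · subst h; simp
  · have : Fin.rev j ≠ Fin.rev i := fun h' => h (Fin.rev_injective h'.symm)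
    rw [if_neg this, if_neg h]

theorem thm_thm (M : Matrix (Fin n) (Fin n) F) : thm (thm M) = M := by
  ext i j
  simp [thm_apply]

/-- the automorphism `g ↦ rev (g⁻¹)ᵀ rev` -/
def theta (g : GL (Fin n) F) : GL (Fin n) F :=
  ⟨thm (g⁻¹ : GL (Fin n) F).1, thm g.1, by
    rw [← thm_mul, ← Units.val_mul, mul_inv_cancel, Units.val_one, thm_one], by
    rw [← thm_mul, ← Units.val_mul, inv_mul_cancel, Units.val_one, thm_one]⟩

theorem theta_val (g : GL (Fin n) F) : (theta g).1 = thm (g⁻¹ : GL (Fin n) F).1 := rfl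

theorem theta_inv_val (g : GL (Fin n) F) : ((theta g)⁻¹ : GL (Fin n) F).1 = thm g.1 := rfl

theorem theta_mul (g h : GL (Fin n) F) : theta (g * h) = theta g * theta h := by
  apply Units.ext
  rw [Units.val_mul, theta_val, theta_val, theta_val, _root_.mul_inv_rev, Units.val_mul, thm_mul]

theorem theta_theta (g : GL (Fin n) F) : theta (theta g) = g := by
  apply Units.ext
  rw [theta_val, theta_inv_val, thm_thm]

/-- `theta` as a multiplicative equivalence -/
def thetaEquiv : GL (Fin n) F ≃* GL (Fin n) F where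
  toFun := theta
  invFun := theta
  left_inv := theta_theta
  right_inv := theta_theta
  map_mul' := theta_mul

/-! ### membership via lower-left blocks -/

/-- lower-left block vanishes -/
def LL (k : ℕ) (M : Matrix (Fin n) (Fin n) F) : Prop :=
  ∀ i j : Fin n, k ≤ (i : ℕ) → (j : ℕ) < k → M i j = 0

theorem mem_Pk_iff_LL (k : ℕ) (g : GL (Fin n) F) :
    g ∈ Pk F n k ↔ LL k g.1 ∧ LL k (g⁻¹ : GL (Fin n) F).1 := by
  constructor
  · intro hg
    exact ⟨fun i j hi hj => LL_of_mem_Pk k g hg i j hi hj,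
      fun i j hi hj => LL_of_mem_Pk k g⁻¹ ((Pk F n k).inv_mem hg) i j hi hj⟩
  · rintro ⟨h1, h2⟩
    exact mem_Pk_of_LL k g h1 h2

theorem LL_thm (k : ℕ) (hkn : k ≤ n) (M : Matrix (Fin n) (Fin n) F) :
    LL (n - k) (thm M) ↔ LL k M := by
  constructor
  · intro h i j hi hj
    have := h (Fin.rev j) (Fin.rev i) (by rw [Fin.val_rev]; omega) (by rw [Fin.val_rev]; omega)
    rw [thm_apply, Fin.rev_rev, Fin.rev_rev] at this
    exact this
  · intro h i j hi hj
    rw [thm_apply]
    have hi' := i.2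
    have hj' := j.2
    exact h (Fin.rev j) (Fin.rev i) (by rw [Fin.val_rev]; omega) (by rw [Fin.val_rev]; omega)

theorem theta_mem (k : ℕ) (hkn : k ≤ n) (g : GL (Fin n) F) :
    theta g ∈ Pk F n (n - k) ↔ g ∈ Pk F n k := by
  rw [mem_Pk_iff_LL, mem_Pk_iff_LL, theta_val, theta_inv_val, LL_thm k hkn, LL_thm k hkn]
  exact and_comm

theorem map_theta (k : ℕ) (hkn : k ≤ n) :
    (Pk F n k).map (thetaEquiv (F := F) (n := n)).toMonoidHom = Pk F n (n - k) := by
  ext x
  rw [Subgroup.mem_map]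
  constructor
  · rintro ⟨g, hg, rfl⟩
    exact (theta_mem k hkn g).2 hg
  · intro hx
    refine ⟨theta x, ?_, theta_theta x⟩
    rw [← theta_mem k hkn, theta_theta]
    exact hx

/-! ### non-conjugacy -/

theorem Wk_sub {k : ℕ} {v w : Fin n → F} (hv : v ∈ Wk F n k) (hw : w ∈ Wk F n k) :
    v - w ∈ Wk F n k := fun i hi => by rw [Pi.sub_apply, hv i hi, hw i hi, sub_zero]

theorem Wk_add {k : ℕ} {v w : Fin n → F} (hv : v ∈ Wk F n k) (hw : w ∈ Wk F n k) :
    v + w ∈ Wk F n k := fun i hi => by rw [Pi.add_apply, hv i hi, hw i hi, add_zero]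

theorem Wk_smul {k : ℕ} (c : F) {v : Fin n → F} (hv : v ∈ Wk F n k) :
    c • v ∈ Wk F n k := fun i hi => by rw [Pi.smul_apply, hv i hi, smul_zero]

/-- the coordinate subspace as a submodule -/
def WkS (F : Type*) [Field F] (n k : ℕ) : Submodule F (Fin n → F) where
  carrier := Wk F n k
  add_mem' := Wk_add
  zero_mem' := fun _ _ => rfl
  smul_mem' := fun c _ hv => Wk_smul c hv

theorem conj_sub (a b : ℕ) (ha : a < n) (g : GL (Fin n) F)
    (hconj : (Pk F n a).map (MulAut.conj g).toMonoidHom = Pk F n b) :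
    ∀ w ∈ Wk F n a, g.1 *ᵥ w ∈ Wk F n b := by
  classical
  have hginv : ∀ v : Fin n → F, (g⁻¹ : GL (Fin n) F).1 *ᵥ (g.1 *ᵥ v) = v := by
    intro v
    rw [Matrix.mulVec_mulVec, ← Units.val_mul, inv_mul_cancel, Units.val_one, Matrix.one_mulVec]
  -- stability
  have hstab : ∀ p ∈ Pk F n b, ∀ v : Fin n → F, (g⁻¹ : GL (Fin n) F).1 *ᵥ v ∈ Wk F n a →
      (g⁻¹ : GL (Fin n) F).1 *ᵥ (p.1 *ᵥ v) ∈ Wk F n a := by
    intro p hp v hv
    rw [← hconj] at hp
    obtain ⟨q, hq, hqp⟩ := Subgroup.mem_map.1 hp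
    have hqp' : g * q * g⁻¹ = p := hqp
    have : (g⁻¹ : GL (Fin n) F).1 *ᵥ (p.1 *ᵥ v) = q.1 *ᵥ ((g⁻¹ : GL (Fin n) F).1 *ᵥ v) := by
      rw [Matrix.mulVec_mulVec, Matrix.mulVec_mulVec, ← Units.val_mul, ← Units.val_mul, ← hqp']
      congr 2
      group
    rw [this]
    exact ((mem_Pk_iff a q).1 hq _).1 hv
  intro w hw
  by_contra hgw
  obtain ⟨i, hi, hui⟩ : ∃ i : Fin n, b ≤ (i : ℕ) ∧ (g.1 *ᵥ w) i ≠ 0 := by
    by_contra hno
    apply hgw
    intro i hi
    by_contra h
    exact hno ⟨i, hi, h⟩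
  set u := g.1 *ᵥ w with hu
  have hUu : (g⁻¹ : GL (Fin n) F).1 *ᵥ u ∈ Wk F n a := by rw [hu, hginv]; exact hw
  -- all vectors with vanishing `i`-coordinate
  have hx : ∀ x : Fin n → F, x i = 0 → (g⁻¹ : GL (Fin n) F).1 *ᵥ x ∈ Wk F n a := by
    intro x hxi
    have h0 : (Pi.single i 1 : Fin n → F) ⬝ᵥ x = 0 := by rw [single_dotProduct, one_mul, hxi]
    have hp : tv x (Pi.single i 1) h0 ∈ Pk F n b := by
      apply tv_mem_Pk
      intro i' j' hi' hj'
      have : j' ≠ i := by
        intro h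
        rw [h] at hj'
        omega
      rw [Pi.single_eq_of_ne this, mul_zero]
    have h1 := hstab _ hp u hUu
    rw [tv_mulVec, single_dotProduct, one_mul, Matrix.mulVec_add, Matrix.mulVec_smul] at h1
    have h2 := Wk_sub h1 hUu
    rw [add_sub_cancel_left] at h2
    have h3 := Wk_smul (u i)⁻¹ h2
    rwa [smul_smul, inv_mul_cancel₀ hui, one_smul] at h3
  -- everything
  have hall : ∀ v : Fin n → F, (g⁻¹ : GL (Fin n) F).1 *ᵥ v ∈ Wk F n a := by
    intro v
    have hdec : v = (v - (v i / u i) • u) + (v i / u i) • u := by abel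
    rw [hdec, Matrix.mulVec_add, Matrix.mulVec_smul]
    apply Wk_add
    · apply hx
      rw [Pi.sub_apply, Pi.smul_apply, smul_eq_mul, div_mul_cancel₀ _ hui, sub_self]
    · exact Wk_smul _ hUu
  have := hall (g.1 *ᵥ Pi.single ⟨a, ha⟩ 1) ⟨a, ha⟩ le_rfl
  rw [hginv, Pi.single_eq_same] at this
  exact one_ne_zero this

theorem dim_le (a b : ℕ) (ha : a ≤ n) (hb : b ≤ n) (g : GL (Fin n) F)
    (h : ∀ w ∈ Wk F n a, g.1 *ᵥ w ∈ Wk F n b) : a ≤ b := by
  classical
  -- the independent family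
  have hli0 : LinearIndependent F (fun j : Fin a => (Pi.single (Fin.castLE ha j) 1 : Fin n → F)) := by
    have := (Pi.basisFun F (Fin n)).linearIndependent.comp (Fin.castLE ha)
      (Fin.castLE_injective ha)
    convert this using 1
    ext j l
    simp [Pi.basisFun_apply]
  have hli1 : LinearIndependent F
      (fun j : Fin a => g.1 *ᵥ (Pi.single (Fin.castLE ha j) 1 : Fin n → F)) := by
    have hker : LinearMap.ker (Matrix.toLin' g.1) = ⊥ := by
      rw [LinearMap.ker_eq_bot]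
      intro v w hvw
      simp only [Matrix.toLin'_apply] at hvw
      have := congrArg ((g⁻¹ : GL (Fin n) F).1 *ᵥ ·) hvw
      simp only [Matrix.mulVec_mulVec, ← Units.val_mul, inv_mul_cancel, Units.val_one,
        Matrix.one_mulVec] at this
      exact this
    have := hli0.map' (Matrix.toLin' g.1) hker
    exact this
  -- projection to the first `b` coordinates
  let ρ : (Fin n → F) →ₗ[F] (Fin b → F) := LinearMap.funLeft F F (Fin.castLE hb)
  have hdisj : Disjoint (Submodule.span F (Set.range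
      (fun j : Fin a => g.1 *ᵥ (Pi.single (Fin.castLE ha j) 1 : Fin n → F)))) (LinearMap.ker ρ) := by
    rw [Submodule.disjoint_def]
    intro x hx hxker
    have hxW : x ∈ WkS F n b := by
      refine (Submodule.span_le.2 ?_) hx
      rintro _ ⟨j, rfl⟩
      apply h
      intro i hi
      have : i ≠ Fin.castLE ha j := by
        intro h'
        rw [h'] at hi
        have := j.2
        simp at hi
        omega
      rw [Pi.single_eq_of_ne this]
    funext i
    by_cases hi : (i : ℕ) < b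
    · have := congrFun (LinearMap.mem_ker.1 hxker) ⟨i, hi⟩
      simpa [ρ, LinearMap.funLeft_apply] using this
    · exact hxW i (by omega)
  have hli2 := hli1.map hdisj
  have := hli2.fintype_card_le_finrank
  simpa using this

/-- The stabilisers in GL_n(F), F finite, of the coordinate subspaces of dimensions k and n − k are isomorphic groups, but when 2k ≠ n (and 0 < k < n) no element of GL_n conjugates one onto the other. -/
theorem result {F : Type*} [Field F] [Finite F] (n k : ℕ) (hk0 : 0 < k) (hkn : k < n) (h2 : 2 * k ≠ n) : Nonempty (↥(Cfsg.stabilizing (Cfsg.glToMat (Fin n) F) {v : Fin n → F | ∀ i : Fin n, k ≤ (i : ℕ) → v i = 0}) ≃* ↥(Cfsg.stabilizing (Cfsg.glToMat (Fin n) F) {v : Fin n → F | ∀ i : Fin n, n - k ≤ (i : ℕ) → v i = 0})) ∧ ∀ g : Matrix.GeneralLinearGroup (Fin n) F, (Cfsg.stabilizing (Cfsg.glToMat (Fin n) F) {v : Fin n → F | ∀ i : Fin n, k ≤ (i : ℕ) → v i = 0}).map (MulAut.conj g).toMonoidHom ≠ Cfsg.stabilizing (Cfsg.glToMat (Fin n) F)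 {v : Fin n → F | ∀ i : Fin n, n - k ≤ (i : ℕ) → v i = 0} := by
  have hkn' : k ≤ n := hkn.le
  have e1 : (Cfsg.stabilizing (Cfsg.glToMat (Fin n) F) {v : Fin n → F | ∀ i : Fin n, k ≤ (i : ℕ) → v i = 0}) = Pk F n k := rfl
  have e2 : (Cfsg.stabilizing (Cfsg.glToMat (Fin n) F) {v : Fin n → F | ∀ i : Fin n, n - k ≤ (i : ℕ) → v i = 0}) = Pk F n (n - k) := rfl
  rw [e1, e2]
  refine ⟨⟨((thetaEquiv (F := F) (n := n)).subgroupMap (Pk F n k)).trans
    (MulEquiv.subgroupCongr (map_theta k hkn'))⟩, ?_⟩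
  intro g hconj
  have h1 : k ≤ n - k :=
    dim_le k (n - k) hkn' (Nat.sub_le _ _) g (conj_sub k (n - k) hkn g hconj)
  have hconj' : (Pk F n (n - k)).map (MulAut.conj g⁻¹).toMonoidHom = Pk F n k := by
    rw [← hconj, Subgroup.map_map]
    have : (MulAut.conj g⁻¹).toMonoidHom.comp (MulAut.conj g).toMonoidHom
        = MonoidHom.id (GL (Fin n) F) := by
      ext x
      simp [MulAut.conj_apply, mul_assoc]
    rw [this, Subgroup.map_id]
  have h3 : n - k ≤ k :=
    dim_le (n - k) k (Nat.sub_le _ _) hkn' g⁻¹ (conj_sub (n - k) k (by omega) g⁻¹ hconj')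
  omega

end Cfsg.Agent.S0773
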