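import Cfsg.Statements.S0775
import Mathlib
import Cfsg.Agent.Lib.Helper5.Symp
import Cfsg.Agent.Lib.Helper5.SympCount
import Cfsg.Agent.Lib.Helper5.SympFlag
import Cfsg.Agent.S0245

set_option autoImplicit false
open Cfsg

namespace Cfsg.Agent.S0775

open Matrix Cfsg.Agent.Lib.Helper5.Symp Cfsg.Agent.Lib.Helper5.SympCount
  Cfsg.Agent.Lib.Helper5.SympFlag Cfsg.Agent.S0245

section
variable {F : Type*} [Field F]

/-- the `e`-part of a symplectic family is linearly independent -/
theorem linearIndependent_e {V : Type*} [AddCommGroup V] [Module F V]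
    (B : LinearMap.BilinForm F V) (m : ℕ) (x : SB B m) : LinearIndependent F x.1.1 := by
  rw [Fintype.linearIndependent_iff]
  intro g hg j
  have := congrArg (fun v => B v (x.1.2 j)) hg
  simp only [map_sum, LinearMap.sum_apply, map_smul, LinearMap.smul_apply, x.2.1, smul_eq_mul,
    LinearMap.zero_apply, map_zero] at this
  simpa using this

variable (m : ℕ)

theorem inv_mulVec (A : symplecticGroup (Fin m) F) (v : Fin m ⊕ Fin m → F) :
    (A⁻¹).1 *ᵥ (A.1 *ᵥ v) = v := by
  have h : (A⁻¹).1 * A.1 = 1 := congrArg Subtype.val (inv_mul_cancel A)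
  rw [Matrix.mulVec_mulVec, h, Matrix.one_mulVec]

theorem colE_mul (g h : symplecticGroup (Fin m) F) (i : Fin m) :
    colE m (g * h).1 i = g.1 *ᵥ colE m h.1 i := by
  rw [colE_eq, colE_eq, Matrix.mulVec_mulVec]
  rfl

/-- criterion for stabilising a subspace -/
theorem stab_iff (W : Submodule F (Fin m ⊕ Fin m → F)) (k : ℕ)
    (e' : Fin k → (Fin m ⊕ Fin m → F)) (hli : LinearIndependent F e') (he : ∀ j, e' j ∈ W)
    (hWk : Module.finrank F W = k) (g : symplecticGroup (Fin m) F) :
    g ∈ stabilizing (spToMat m F) (W : Set (Fin m ⊕ Fin m → F)) ↔ ∀ j, g.1 *ᵥ e' j ∈ W := by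
  constructor
  · intro h j
    exact (h (e' j)).1 (he j)
  · intro h v
    have hspan : Submodule.span F (Set.range e') = W := by
      apply Submodule.eq_of_le_of_finrank_eq
      · rw [Submodule.span_le]
        rintro _ ⟨j, rfl⟩
        exact he j
      · rw [finrank_span_eq_card hli, Fintype.card_fin, hWk]
    let L : (Fin m ⊕ Fin m → F) →ₗ[F] (Fin m ⊕ Fin m → F) := Matrix.mulVecLin g.1
    have hL : ∀ v, L v = g.1 *ᵥ v := fun v => rfl
    have hinj : Function.Injective L := by
      intro a b hab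
      rw [hL, hL] at hab
      rw [← inv_mulVec m g a, hab, inv_mulVec]
    have hmap : W.map L ≤ W := by
      rw [← hspan, Submodule.map_span, Submodule.span_le]
      rintro _ ⟨_, ⟨j, rfl⟩, rfl⟩
      rw [hspan]
      exact h j
    have hmapeq : W.map L = W := by
      apply Submodule.eq_of_le_of_finrank_eq hmap
      exact (LinearEquiv.finrank_eq (Submodule.equivMapOfInjective L hinj W)).symm
    change v ∈ W ↔ L v ∈ W
    constructor
    · intro hv
      rw [← hmapeq]
      exact Submodule.mem_map_of_mem hv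
    · intro hv
      rw [← hmapeq] at hv
      obtain ⟨v', hv', hvv⟩ := hv
      rw [← hinj hvv]
      exact hv'

/-- the constraint family: `W` for the first `k` vectors -/
def Cfam (k : ℕ) (W : Submodule F (Fin m ⊕ Fin m → F)) :
    Fin m → Submodule F (Fin m ⊕ Fin m → F) := fun i => if (i : ℕ) < k then W else ⊤

theorem card_stab [Finite F] (k : ℕ) (hk : k ≤ m) (W : Submodule F (Fin m ⊕ Fin m → F))
    (hWk : Module.finrank F W = k)
    (hne : Nonempty (ASB (sympBilin (F := F) m) m (Cfam m k W))) :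
    Nat.card (stabilizing (spToMat m F) (W : Set (Fin m ⊕ Fin m → F))) =
      Nat.card (ASB (sympBilin (F := F) m) m (Cfam m k W)) := by
  obtain ⟨x₀⟩ := hne
  let h₀ : symplecticGroup (Fin m) F := (equivSB m).symm ⟨x₀.1, x₀.2.1⟩
  have hcol : ∀ i, colE m h₀.1 i = x₀.1.1 i := fun i => rfl
  let e' : Fin k → (Fin m ⊕ Fin m → F) := fun j => x₀.1.1 (Fin.castLE hk j)
  have hli : LinearIndependent F e' :=
    (linearIndependent_e (sympBilin (F := F) m) m ⟨x₀.1, x₀.2.1⟩).comp _ (Fin.castLE_injective hk)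
  have he : ∀ j, e' j ∈ W := by
    intro j
    have := x₀.2.2 (Fin.castLE hk j)
    simpa [Cfam, j.2] using this
  have key : ∀ g : symplecticGroup (Fin m) F,
      g ∈ stabilizing (spToMat m F) (W : Set (Fin m ⊕ Fin m → F)) ↔
        ∀ i, colE m (g * h₀).1 i ∈ Cfam m k W i := by
    intro g
    rw [stab_iff m W k e' hli he hWk g]
    constructor
    · intro h i
      rw [colE_mul, hcol]
      unfold Cfam
      split_ifs with hi
      · exact h ⟨i, hi⟩
      · trivial
    · intro h j
      have := h (Fin.castLE hk j)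
      rw [colE_mul, hcol] at this
      simpa [Cfam, j.2] using this
  apply Nat.card_congr
  exact
    { toFun := fun g => ⟨((equivSB m) (g.1 * h₀)).1, ((equivSB m) (g.1 * h₀)).2, (key g.1).1 g.2⟩
      invFun := fun x => ⟨(equivSB m).symm ⟨x.1, x.2.1⟩ * h₀⁻¹, by
        rw [key, inv_mul_cancel_right]
        exact x.2.2⟩
      left_inv := by
        intro g
        apply Subtype.ext
        change (equivSB m).symm ((equivSB m) (g.1 * h₀)) * h₀⁻¹ = g.1
        rw [Equiv.symm_apply_apply, mul_inv_cancel_right]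
      right_inv := by
        intro x
        apply Subtype.ext
        change ((equivSB m) ((equivSB m).symm ⟨x.1, x.2.1⟩ * h₀⁻¹ * h₀)).1 = x.1
        rw [inv_mul_cancel_right, Equiv.apply_symm_apply] }

end



theorem sum_odd (d : ℕ) : ∑ i ∈ Finset.range d, (2 * i + 1) = d ^ 2 := by
  induction d with
  | zero => simp
  | succ d ih => rw [Finset.sum_range_succ, ih]; ring

theorem second (q d : ℕ) :
    ∏ j ∈ Finset.range d, ((q ^ (2 * (d - j)) - 1) * q ^ (2 * (d - j) - 1)) =
      q ^ (d ^ 2) * ∏ i ∈ Finset.range d, (q ^ (2 * (i + 1)) - 1) := by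
  rw [← Finset.prod_range_reflect (fun i => (q ^ (2 * (i + 1)) - 1)) d,
    ← sum_odd d, ← Finset.prod_pow_eq_pow_sum,
    ← Finset.prod_range_reflect (fun i => q ^ (2 * i + 1)) d, ← Finset.prod_mul_distrib]
  refine Finset.prod_congr rfl (fun j hj => ?_)
  rw [Finset.mem_range] at hj
  rw [mul_comm]
  congr 3 <;> omega

theorem hsum (k d : ℕ) :
    ∑ i ∈ Finset.range k, (2 * (k + d - i) - 1) =
      k * (k + 1) / 2 + 2 * k * d + ∑ i ∈ Finset.range k, i := by
  have h1 : ∑ i ∈ Finset.range k, (2 * (k + d - i) - 1) =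
      ∑ j ∈ Finset.range k, (2 * d + 2 * j + 1) := by
    rw [← Finset.sum_range_reflect (fun i => 2 * (k + d - i) - 1) k]
    refine Finset.sum_congr rfl (fun j hj => ?_)
    rw [Finset.mem_range] at hj
    omega
  have h2 : k * (k + 1) / 2 = ∑ i ∈ Finset.range k, i + k := by
    rw [← Finset.sum_range_succ, Finset.sum_range_id, Nat.add_sub_cancel, mul_comm]
  rw [h1, h2, Finset.sum_add_distrib, Finset.sum_add_distrib, Finset.sum_const,
    Finset.sum_const, Finset.card_range, smul_eq_mul, smul_eq_mul, ← Finset.mul_sum]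
  ring

theorem first (q k d : ℕ) :
    ∏ i ∈ Finset.range k, ((q ^ (k - i) - 1) * q ^ (2 * (k + d - i) - 1)) =
      q ^ (k * (k + 1) / 2 + 2 * k * d) * ∏ i ∈ Finset.range k, (q ^ k - q ^ i) := by
  have h1 : ∀ i ∈ Finset.range k, q ^ k - q ^ i = q ^ i * (q ^ (k - i) - 1) := by
    intro i hi
    rw [Finset.mem_range] at hi
    rw [Nat.mul_sub, ← pow_add, mul_one, Nat.add_sub_cancel' hi.le]
  rw [Finset.prod_congr rfl h1, Finset.prod_mul_distrib, Finset.prod_mul_distrib,
    Finset.prod_pow_eq_pow_sum, Finset.prod_pow_eq_pow_sum, hsum, pow_add]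
  ring

theorem arith (q m k : ℕ) (hk : k ≤ m) :
    ∏ i : Fin m, ((q ^ (if (i : ℕ) < k then k - i else 2 * (m - i)) - 1) *
      q ^ (2 * (m - i) - 1)) =
    q ^ (k * (k + 1) / 2 + 2 * k * (m - k)) *
      (q ^ ((m - k) ^ 2) * ∏ i ∈ Finset.range (m - k), (q ^ (2 * (i + 1)) - 1)) *
      ∏ i : Fin k, (q ^ k - q ^ (i : ℕ)) := by
  obtain ⟨d, rfl⟩ := Nat.exists_eq_add_of_le hk
  rw [Nat.add_sub_cancel_left,
    Fin.prod_univ_eq_prod_range (fun i => (q ^ (if i < k then k - i else 2 * (k + d - i)) - 1) *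
      q ^ (2 * (k + d - i) - 1)) (k + d),
    Fin.prod_univ_eq_prod_range (fun i => q ^ k - q ^ i) k, Finset.prod_range_add]
  have e1 : ∏ i ∈ Finset.range k, ((q ^ (if i < k then k - i else 2 * (k + d - i)) - 1) *
      q ^ (2 * (k + d - i) - 1)) =
      ∏ i ∈ Finset.range k, ((q ^ (k - i) - 1) * q ^ (2 * (k + d - i) - 1)) := by
    refine Finset.prod_congr rfl (fun i hi => ?_)
    rw [if_pos (Finset.mem_range.1 hi)]
  have e2 : ∏ j ∈ Finset.range d, ((q ^ (if k + j < k then k - (k + j) else
      2 * (k + d - (k + j))) - 1) * q ^ (2 * (k + d - (k + j)) - 1)) =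
      ∏ j ∈ Finset.range d, ((q ^ (2 * (d - j)) - 1) * q ^ (2 * (d - j) - 1)) := by
    refine Finset.prod_congr rfl (fun j _ => ?_)
    rw [if_neg (by omega)]
    have : k + d - (k + j) = d - j := by omega
    rw [this]
  rw [e1, e2, first q k d, second]
  ring


theorem result {F : Type*} [Field F] [Fintype F] {q : ℕ} (hF : Fintype.card F = q) (m k : ℕ) (hk : k ≤ m) (W : Submodule F (Fin m ⊕ Fin m → F)) (hWk : Module.finrank F W = k) (hW : ∀ u ∈ W, ∀ v ∈ W, Cfsg.sympForm m F u v = 0) : Nat.card ↥(Cfsg.stabilizing (Cfsg.spToMat m F) (W : Set (Fin m ⊕ Fin m → F))) = q ^ (k * (k + 1) / 2 + 2 * k * (m - k)) * (q ^ ((m - k) ^ 2) * ∏ i ∈ Finset.range (m - k), (q ^ (2 * (i + 1)) - 1)) * ∏ i : Fin k, (q ^ k - q ^ (i : ℕ)) := by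
  have hq : 1 < q := by rw [← hF]; exact Fintype.one_lt_card
  have hcount : Nat.card (ASB (sympBilin (F := F) m) m (Cfam m k W)) =
      ∏ i : Fin m, ((q ^ (if (i : ℕ) < k then k - i else 2 * (m - i)) - 1) *
        q ^ (2 * (m - i) - 1)) := by
    have := card_ASB m (Fin m ⊕ Fin m → F) (sympBilin (F := F) m) (sympBilin_nondegenerate m)
      (sympBilin_isAlt m) (by simp; ring) (Cfam m k W)
      (fun i => if (i : ℕ) < k then k - i else 2 * (m - i))
      (by
        intro i j hij
        have hij' : (i : ℕ) ≤ j := hij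
        unfold Cfam
        split_ifs with h1 h2 h2
        · exact le_rfl
        · exact le_top
        · omega
        · exact le_rfl)
      (by
        intro i

        by_cases h : (i : ℕ) < k
        · right
          have hC : Cfam m k W i = W := if_pos h
          rw [hC, if_pos h]
          refine ⟨fun u hu v hv => ?_, ?_⟩
          · rw [sympBilin_apply]; exact hW u hu v hv
          · rw [hWk]; omega
        · left
          have hC : Cfam m k W i = ⊤ := if_neg h
          rw [hC, if_neg h]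
          exact ⟨rfl, rfl⟩)
    have hqF : Nat.card F = q := by rw [Nat.card_eq_fintype_card, hF]
    rw [hqF] at this
    exact this
  have hne : Nonempty (ASB (sympBilin (F := F) m) m (Cfam m k W)) := by
    by_contra h
    rw [not_nonempty_iff] at h
    have h0 := Nat.card_of_isEmpty (α := ASB (sympBilin (F := F) m) m (Cfam m k W))
    rw [hcount, Finset.prod_eq_zero_iff] at h0
    obtain ⟨i, _, hi⟩ := h0
    have hi2 := i.2
    rcases mul_eq_zero.1 hi with h1 | h1
    · have : 1 < q ^ (if (i : ℕ) < k then k - i else 2 * (m - i)) := by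
        apply Nat.one_lt_pow _ hq
        split_ifs <;> omega
      omega
    · exact absurd h1 (pow_ne_zero _ (by omega))
  rw [card_stab m k hk W hWk hne, hcount, arith q m k hk]

end Cfsg.Agent.S0775
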