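import Cfsg.Statements.S0774
import Mathlib
import Cfsg.Agent.Lib.Helper5.Symp
import Cfsg.Agent.Lib.Helper5.SympCount
import Cfsg.Agent.Lib.Helper5.SympFlag
import Cfsg.Agent.S0245
import Cfsg.Agent.S0775

set_option autoImplicit false
open Cfsg

namespace Cfsg.Agent.S0774

open Matrix Cfsg.Agent.Lib.Helper5.Symp Cfsg.Agent.Lib.Helper5.SympCount
  Cfsg.Agent.Lib.Helper5.SympFlag Cfsg.Agent.S0245 Cfsg.Agent.S0775

section
variable {F : Type*} [Field F]

/-- swapping the two halves of a symplectic family, for the negated form -/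
def swapSB {V : Type*} [AddCommGroup V] [Module F V] {B : LinearMap.BilinForm F V}
    (hA : B.IsAlt) (m : ℕ) : SB B m ≃ SB (-B) m where
  toFun x := ⟨(x.1.2, x.1.1), by
    obtain ⟨h1, h2, h3⟩ := x.2
    refine ⟨fun i j => ?_, fun i j => ?_, fun i j => ?_⟩
    · change (-B) (x.1.2 i) (x.1.1 j) = _
      rw [LinearMap.neg_apply, LinearMap.neg_apply, hA.neg_eq, h1 j i]
      by_cases h : i = j
      · subst h; simp
      · rw [if_neg h, if_neg (Ne.symm h)]
    · change (-B) (x.1.2 i) (x.1.2 j) = _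
      rw [LinearMap.neg_apply, LinearMap.neg_apply, h3, neg_zero]
    · change (-B) (x.1.1 i) (x.1.1 j) = _
      rw [LinearMap.neg_apply, LinearMap.neg_apply, h2, neg_zero]⟩
  invFun y := ⟨(y.1.2, y.1.1), by
    obtain ⟨h1, h2, h3⟩ := y.2
    refine ⟨fun i j => ?_, fun i j => ?_, fun i j => ?_⟩
    · change B (y.1.2 i) (y.1.1 j) = _
      have := h1 j i
      change (-B) (y.1.1 j) (y.1.2 i) = _ at this
      rw [LinearMap.neg_apply, LinearMap.neg_apply, hA.neg_eq] at this
      rw [this]
      by_cases h : i = j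
      · subst h; simp
      · rw [if_neg h, if_neg (Ne.symm h)]
    · change B (y.1.2 i) (y.1.2 j) = _
      have := h3 i j
      change (-B) (y.1.2 i) (y.1.2 j) = _ at this
      rw [LinearMap.neg_apply, LinearMap.neg_apply, neg_eq_zero] at this
      exact this
    · change B (y.1.1 i) (y.1.1 j) = _
      have := h2 i j
      change (-B) (y.1.1 i) (y.1.1 j) = _ at this
      rw [LinearMap.neg_apply, LinearMap.neg_apply, neg_eq_zero] at this
      exact this⟩
  left_inv x := rfl
  right_inv y := rfl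

variable (m : ℕ)

theorem colF_mul (g h : symplecticGroup (Fin m) F) (i : Fin m) :
    colF m (g * h).1 i = g.1 *ᵥ colF m h.1 i := by
  rw [colF_eq, colF_eq, Matrix.mulVec_mulVec]
  rfl

/-- criterion for stabilising a subspace given by spanning vectors -/
theorem stab_iff' (W : Submodule F (Fin m ⊕ Fin m → F)) {ι : Type*}
    (e' : ι → (Fin m ⊕ Fin m → F)) (hspan : Submodule.span F (Set.range e') = W)
    (g : symplecticGroup (Fin m) F) :
    g ∈ stabilizing (spToMat m F) (W : Set (Fin m ⊕ Fin m → F)) ↔ ∀ j, g.1 *ᵥ e' j ∈ W := by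
  constructor
  · intro h j
    refine (h (e' j)).1 ?_
    rw [← hspan]
    exact Submodule.subset_span ⟨j, rfl⟩
  · intro h v
    let L : (Fin m ⊕ Fin m → F) →ₗ[F] (Fin m ⊕ Fin m → F) := Matrix.mulVecLin g.1
    have hL : ∀ v, L v = g.1 *ᵥ v := fun v => rfl
    have hinj : Function.Injective L := by
      intro a b hab
      rw [hL, hL] at hab
      rw [← inv_mulVec m g a, hab, inv_mulVec]
    have hmap : W.map L ≤ W := by
      rw [← hspan, Submodule.map_span, Submodule.span_le]
      rintro _ ⟨_, ⟨j, rfl⟩, rfl⟩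
      rw [hspan]
      exact h j
    have hmapeq : W.map L = W := by
      apply Submodule.eq_of_le_of_finrank_eq hmap
      exact (LinearEquiv.finrank_eq (Submodule.equivMapOfInjective L hinj W)).symm
    change v ∈ W ↔ L v ∈ W
    constructor
    · intro hv
      rw [← hmapeq]
      exact Submodule.mem_map_of_mem hv
    · intro hv
      rw [← hmapeq] at hv
      obtain ⟨v', hv', hvv⟩ := hv
      rw [← hinj hvv]
      exact hv'

/-- the members of the standard isotropic flag -/
def Wk (k : Fin m) : Submodule F (Fin m ⊕ Fin m → F) where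
  carrier := {v | (∀ i : Fin m, (k : ℕ) < (i : ℕ) → v (Sum.inl i) = 0) ∧ ∀ i : Fin m, v (Sum.inr i) = 0}
  add_mem' := by
    rintro a b ⟨ha1, ha2⟩ ⟨hb1, hb2⟩
    exact ⟨fun i hi => by simp [ha1 i hi, hb1 i hi], fun i => by simp [ha2 i, hb2 i]⟩
  zero_mem' := ⟨fun i _ => rfl, fun i => rfl⟩
  smul_mem' := by
    rintro c a ⟨ha1, ha2⟩
    exact ⟨fun i hi => by simp [ha1 i hi], fun i => by simp [ha2 i]⟩

theorem mem_Wk (k : Fin m) (v : Fin m ⊕ Fin m → F) :
    v ∈ Wk m k ↔ (∀ i : Fin m, (k : ℕ) < (i : ℕ) → v (Sum.inl i) = 0) ∧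
      ∀ i : Fin m, v (Sum.inr i) = 0 := Iff.rfl

/-- the spanning vectors of `Wk k` -/
def ek (k : Fin m) (j : Fin (k + 1)) : Fin m ⊕ Fin m → F :=
  Pi.single (Sum.inl (Fin.castLE (by have := k.2; omega) j)) 1

theorem ek_li (k : Fin m) : LinearIndependent F (ek (F := F) m k) := by
  have h := (Pi.basisFun F (Fin m ⊕ Fin m)).linearIndependent
  have h2 := h.comp (fun j : Fin (k + 1) => (Sum.inl (Fin.castLE (by have := k.2; omega) j) : Fin m ⊕ Fin m))
    (fun a b hab => Fin.castLE_injective _ (Sum.inl_injective hab))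
  convert h2 using 1
  funext j
  simp [ek]

theorem span_ek (k : Fin m) : Submodule.span F (Set.range (ek (F := F) m k)) = Wk m k := by
  apply le_antisymm
  · rw [Submodule.span_le]
    rintro _ ⟨j, rfl⟩
    refine ⟨fun i hi => ?_, fun i => ?_⟩
    · unfold ek
      rw [Pi.single_apply, if_neg]
      intro h
      have := congrArg Fin.val (Sum.inl_injective h)
      simp at this
      omega
    · unfold ek
      simp
  · intro v hv
    obtain ⟨h1, h2⟩ := hv
    have : v = ∑ j : Fin (k + 1), v (Sum.inl (Fin.castLE (by have := k.2; omega) j)) • ek m k j := by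
      funext c
      rw [Finset.sum_apply]
      rcases c with i | i
      · by_cases hi : (i : ℕ) ≤ k
        · rw [Finset.sum_eq_single ⟨i, by omega⟩]
          · simp [ek]
          · intro j _ hj
            have : Fin.castLE (by have := k.2; omega) j ≠ i := by
              intro h
              apply hj
              apply Fin.ext
              have := congrArg Fin.val h
              simpa using this
            simp [ek, this]
          · intro h; exact absurd (Finset.mem_univ _) h
        · rw [h1 i (by omega)]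
          symm
          apply Finset.sum_eq_zero
          intro j _
          have : Fin.castLE (by have := k.2; omega) j ≠ i := by
            intro h
            have := congrArg Fin.val h
            simp at this
            omega
          simp [ek, this]
      · rw [h2 i]
        symm
        apply Finset.sum_eq_zero
        intro j _
        simp [ek]
    rw [this]
    exact Submodule.sum_mem _ (fun j _ => Submodule.smul_mem _ _ (Submodule.subset_span ⟨j, rfl⟩))

theorem finrank_Wk (k : Fin m) : Module.finrank F (Wk (F := F) m k) = 1 + k := by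
  rw [← span_ek, finrank_span_eq_card (ek_li m k), Fintype.card_fin, add_comm]

theorem Wk_mono (i j : Fin m) (hij : i ≤ j) : Wk (F := F) m i ≤ Wk m j := by
  intro v hv
  exact ⟨fun l hl => hv.1 l (lt_of_le_of_lt hij hl), hv.2⟩

theorem Wk_isotropic (k : Fin m) (u : Fin m ⊕ Fin m → F) (hu : u ∈ Wk m k)
    (v : Fin m ⊕ Fin m → F) (hv : v ∈ Wk m k) : sympForm m F u v = 0 := by
  rw [sympForm_eq_sum]
  apply Finset.sum_eq_zero
  intro i _
  rw [hu.2 i, hv.2 i]
  ring

theorem mem_borel_iff (g : symplecticGroup (Fin m) F) :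
    g ∈ (⨅ k : Fin m, stabilizing (spToMat m F) {v : Fin m ⊕ Fin m → F |
      (∀ i : Fin m, (k : ℕ) < (i : ℕ) → v (Sum.inl i) = 0) ∧ ∀ i : Fin m, v (Sum.inr i) = 0}) ↔
      ∀ k, colF m g.1 k ∈ Wk m k := by
  rw [Subgroup.mem_iInf]
  constructor
  · intro h k
    have h1 := h k
    change g ∈ stabilizing (spToMat m F) ((Wk (F := F) m k : Submodule F (Fin m ⊕ Fin m → F)) : Set (Fin m ⊕ Fin m → F)) at h1
    rw [stab_iff' m (Wk m k) (ek m k) (span_ek m k)] at h1
    have := h1 (Fin.last k)
    rw [colF_eq]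
    convert this using 2
    have : Fin.castLE (by have := k.2; omega) (Fin.last (k : ℕ)) = k := Fin.ext (by simp)
    simp only [ek, this]
  · intro h k
    change g ∈ stabilizing (spToMat m F) ((Wk (F := F) m k : Submodule F (Fin m ⊕ Fin m → F)) : Set (Fin m ⊕ Fin m → F))
    rw [stab_iff' m (Wk m k) (ek m k) (span_ek m k)]
    intro j
    have h1 := h (Fin.castLE (by have := k.2; omega) j)
    rw [colF_eq] at h1
    refine Wk_mono m _ k ?_ h1
    rw [Fin.le_def]
    simp
    omega

theorem neg_nondegenerate {V : Type*} [AddCommGroup V] [Module F V]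
    {B : LinearMap.BilinForm F V} (hB : B.Nondegenerate) : (-B).Nondegenerate := by
  constructor
  · intro x hx
    apply hB.1 x
    intro y
    have := hx y
    rw [LinearMap.neg_apply, LinearMap.neg_apply, neg_eq_zero] at this
    exact this
  · intro y hy
    apply hB.2 y
    intro x
    have := hy x
    rw [LinearMap.neg_apply, LinearMap.neg_apply, neg_eq_zero] at this
    exact this

theorem neg_isAlt {V : Type*} [AddCommGroup V] [Module F V]
    {B : LinearMap.BilinForm F V} (hA : B.IsAlt) : (-B).IsAlt := fun x => by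
  rw [LinearMap.neg_apply, LinearMap.neg_apply, hA x, neg_zero]

theorem card_borel :
    Nat.card ↥(⨅ k : Fin m, stabilizing (spToMat m F) {v : Fin m ⊕ Fin m → F |
      (∀ i : Fin m, (k : ℕ) < (i : ℕ) → v (Sum.inl i) = 0) ∧ ∀ i : Fin m, v (Sum.inr i) = 0}) =
    Nat.card (ASB (-(sympBilin (F := F) m)) m (Wk m)) := by
  let eqv : symplecticGroup (Fin m) F ≃ SB (-(sympBilin (F := F) m)) m :=
    (equivSB m).trans (swapSB (sympBilin_isAlt m) m)
  have h1 : ∀ g : symplecticGroup (Fin m) F,
      g ∈ (⨅ k : Fin m, stabilizing (spToMat m F) {v : Fin m ⊕ Fin m → F |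
        (∀ i : Fin m, (k : ℕ) < (i : ℕ) → v (Sum.inl i) = 0) ∧ ∀ i : Fin m, v (Sum.inr i) = 0}) ↔
      (fun y : SB (-(sympBilin (F := F) m)) m => ∀ k, y.1.1 k ∈ Wk m k) (eqv g) :=
    fun g => mem_borel_iff m g
  have e1 : ↥(⨅ k : Fin m, stabilizing (spToMat m F) {v : Fin m ⊕ Fin m → F |
        (∀ i : Fin m, (k : ℕ) < (i : ℕ) → v (Sum.inl i) = 0) ∧ ∀ i : Fin m, v (Sum.inr i) = 0}) ≃
      {y : SB (-(sympBilin (F := F) m)) m // ∀ k, y.1.1 k ∈ Wk m k} :=
    Equiv.subtypeEquiv (p := fun g => g ∈ (⨅ k : Fin m, stabilizing (spToMat m F)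
      {v : Fin m ⊕ Fin m → F |
        (∀ i : Fin m, (k : ℕ) < (i : ℕ) → v (Sum.inl i) = 0) ∧ ∀ i : Fin m, v (Sum.inr i) = 0}))
      (q := fun y : SB (-(sympBilin (F := F) m)) m => ∀ k, y.1.1 k ∈ Wk m k) eqv h1
  have e2 : {y : SB (-(sympBilin (F := F) m)) m // ∀ k, y.1.1 k ∈ Wk m k} ≃
      ASB (-(sympBilin (F := F) m)) m (Wk m) :=
    Equiv.subtypeSubtypeEquivSubtypeInter (IsSB (-(sympBilin (F := F) m)) m)
      (fun p => ∀ k, p.1 k ∈ Wk m k)
  exact Nat.card_congr (e1.trans e2)

end

theorem sum_rev (m : ℕ) : ∑ i ∈ Finset.range m, (2 * (m - i) - 1) = m ^ 2 := by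
  rw [← sum_odd m, ← Finset.sum_range_reflect (fun i => 2 * i + 1) m]
  refine Finset.sum_congr rfl (fun j hj => ?_)
  rw [Finset.mem_range] at hj
  omega

theorem result {F : Type*} [Field F] [Fintype F] {q : ℕ} (hF : Fintype.card F = q) (m : ℕ) : Nat.card ↥(⨅ k : Fin m, Cfsg.stabilizing (Cfsg.spToMat m F) {v : Fin m ⊕ Fin m → F | (∀ i : Fin m, (k : ℕ) < (i : ℕ) → v (Sum.inl i) = 0) ∧ ∀ i : Fin m, v (Sum.inr i) = 0}) = q ^ (m ^ 2) * (q - 1) ^ m := by
  have hqF : Nat.card F = q := by rw [Nat.card_eq_fintype_card, hF]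
  have := card_ASB m (Fin m ⊕ Fin m → F) (-(sympBilin (F := F) m))
    (neg_nondegenerate (sympBilin_nondegenerate m)) (neg_isAlt (sympBilin_isAlt m))
    (by simp; ring) (Wk m) (fun _ => 1) (Wk_mono m)
    (fun i => Or.inr ⟨fun u hu v hv => by
      rw [LinearMap.neg_apply, LinearMap.neg_apply, sympBilin_apply, Wk_isotropic m i u hu v hv,
        neg_zero], finrank_Wk m i⟩)
  rw [card_borel, this, hqF, Finset.prod_mul_distrib, Finset.prod_const, Finset.card_univ,
    Fintype.card_fin, pow_one, Fin.prod_univ_eq_prod_range (fun i => q ^ (2 * (m - i) - 1)) m,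
    Finset.prod_pow_eq_pow_sum, sum_rev, mul_comm]

end Cfsg.Agent.S0774
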