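import Mathlib
import Cfsg.Statements.S0776
import Cfsg.Agent.Lib.Helper8.SympBasis

set_option autoImplicit false
set_option linter.unusedSectionVars false

namespace Cfsg.Agent.S0776

open Cfsg Matrix Cfsg.Agent.Lib.Helper5.Symp Cfsg.Agent.Lib.Helper8.SympBasis

section glue
variable {F : Type*} [Field F] {m k l : ℕ}
  (Ψ : (Fin m ⊕ Fin m → F) ≃ₗ[F] (Fin k ⊕ Fin k → F) × (Fin l ⊕ Fin l → F))

/-- glue two matrices along `Ψ` -/
noncomputable def glue (A₁ : Matrix (Fin k ⊕ Fin k) (Fin k ⊕ Fin k) F)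
    (A₂ : Matrix (Fin l ⊕ Fin l) (Fin l ⊕ Fin l) F) : (Fin m ⊕ Fin m → F) →ₗ[F] (Fin m ⊕ Fin m → F) :=
  Ψ.symm.toLinearMap ∘ₗ ((Matrix.toLin' A₁).prodMap (Matrix.toLin' A₂)) ∘ₗ Ψ.toLinearMap

lemma Ψ_glue (A₁ : Matrix (Fin k ⊕ Fin k) (Fin k ⊕ Fin k) F)
    (A₂ : Matrix (Fin l ⊕ Fin l) (Fin l ⊕ Fin l) F) (v : Fin m ⊕ Fin m → F) :
    Ψ (glue Ψ A₁ A₂ v) = (A₁ *ᵥ (Ψ v).1, A₂ *ᵥ (Ψ v).2) := by
  simp [glue, Matrix.toLin'_apply]

lemma glue_mul (A₁ A₁' : Matrix (Fin k ⊕ Fin k) (Fin k ⊕ Fin k) F)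
    (A₂ A₂' : Matrix (Fin l ⊕ Fin l) (Fin l ⊕ Fin l) F) :
    glue Ψ (A₁ * A₁') (A₂ * A₂') = glue Ψ A₁ A₂ ∘ₗ glue Ψ A₁' A₂' := by
  apply LinearMap.ext
  intro v
  apply Ψ.injective
  rw [LinearMap.comp_apply, Ψ_glue, Ψ_glue, Ψ_glue]
  simp [Matrix.mulVec_mulVec]

lemma glue_one : glue Ψ (1 : Matrix (Fin k ⊕ Fin k) (Fin k ⊕ Fin k) F)
    (1 : Matrix (Fin l ⊕ Fin l) (Fin l ⊕ Fin l) F) = LinearMap.id := by
  apply LinearMap.ext
  intro v
  apply Ψ.injective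
  rw [Ψ_glue]
  simp

variable (hΨ : ∀ u v, sympForm m F u v = sympForm k F (Ψ u).1 (Ψ v).1 + sympForm l F (Ψ u).2 (Ψ v).2)

include hΨ in
lemma glue_mem {A₁ : Matrix (Fin k ⊕ Fin k) (Fin k ⊕ Fin k) F}
    {A₂ : Matrix (Fin l ⊕ Fin l) (Fin l ⊕ Fin l) F} (h₁ : A₁ ∈ symplecticGroup (Fin k) F)
    (h₂ : A₂ ∈ symplecticGroup (Fin l) F) :
    LinearMap.toMatrix' (glue Ψ A₁ A₂) ∈ symplecticGroup (Fin m) F := by
  apply mem_of_sympForm
  intro u v
  rw [LinearMap.toMatrix'_mulVec, LinearMap.toMatrix'_mulVec, hΨ, Ψ_glue, Ψ_glue,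
    sympForm_of_mem k h₁, sympForm_of_mem l h₂, ← hΨ]

/-- the embedding `Sp_2k × Sp_2l → Sp_2m` -/
noncomputable def Θ : symplecticGroup (Fin k) F × symplecticGroup (Fin l) F →* symplecticGroup (Fin m) F where
  toFun A := ⟨LinearMap.toMatrix' (glue Ψ A.1.1 A.2.1), glue_mem Ψ hΨ A.1.2 A.2.2⟩
  map_one' := by
    apply Subtype.ext
    change LinearMap.toMatrix' (glue Ψ (1 : Matrix _ _ F) (1 : Matrix _ _ F)) = 1
    rw [glue_one, LinearMap.toMatrix'_id]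
  map_mul' A A' := by
    apply Subtype.ext
    change LinearMap.toMatrix' (glue Ψ (A.1.1 * A'.1.1) (A.2.1 * A'.2.1)) =
      LinearMap.toMatrix' (glue Ψ A.1.1 A.2.1) * LinearMap.toMatrix' (glue Ψ A'.1.1 A'.2.1)
    rw [glue_mul, LinearMap.toMatrix'_comp]

lemma Θ_coe (A : symplecticGroup (Fin k) F × symplecticGroup (Fin l) F) :
    (Θ Ψ hΨ A).1 = LinearMap.toMatrix' (glue Ψ A.1.1 A.2.1) := rfl

lemma Θ_injective : Function.Injective (Θ Ψ hΨ) := by
  intro A A' h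
  have h1 : glue Ψ A.1.1 A.2.1 = glue Ψ A'.1.1 A'.2.1 := by
    have := congrArg Subtype.val h
    rw [Θ_coe, Θ_coe] at this
    exact LinearMap.toMatrix'.injective this
  have h2 : ∀ x y, (A.1.1 *ᵥ x, A.2.1 *ᵥ y) = (A'.1.1 *ᵥ x, A'.2.1 *ᵥ y) := by
    intro x y
    have := congrArg Ψ (LinearMap.congr_fun h1 (Ψ.symm (x, y)))
    rw [Ψ_glue, Ψ_glue] at this
    simpa using this
  apply Prod.ext
  · apply Subtype.ext
    apply Matrix.mulVec_injective
    funext x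
    exact (Prod.ext_iff.1 (h2 x 0)).1
  · apply Subtype.ext
    apply Matrix.mulVec_injective
    funext y
    exact (Prod.ext_iff.1 (h2 0 y)).2


lemma sp_inv_mulVec {n : ℕ} (A : symplecticGroup (Fin n) F) (y : Fin n ⊕ Fin n → F) :
    (A⁻¹).1 *ᵥ (A.1 *ᵥ y) = y := by
  rw [Matrix.mulVec_mulVec]
  have : (A⁻¹).1 * A.1 = 1 := by
    exact congrArg Subtype.val (inv_mul_cancel A)
  rw [this, Matrix.one_mulVec]

lemma sp_mulVec_inv {n : ℕ} (A : symplecticGroup (Fin n) F) (y : Fin n ⊕ Fin n → F) :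
    A.1 *ᵥ ((A⁻¹).1 *ᵥ y) = y := by
  rw [Matrix.mulVec_mulVec]
  have : A.1 * (A⁻¹).1 = 1 := by
    exact congrArg Subtype.val (mul_inv_cancel A)
  rw [this, Matrix.one_mulVec]

/-- nondegeneracy of the standard form, in the form we need -/
lemma eq_zero_of_sympForm {n : ℕ} (y : Fin n ⊕ Fin n → F) (h : ∀ x, sympForm n F x y = 0) : y = 0 := by
  by_contra hy
  obtain ⟨w, hw⟩ := exists_sympForm_ne_zero n hy
  apply hw
  rw [sympForm_swap, h w, neg_zero]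

include hΨ in
lemma range_Θ : (Θ Ψ hΨ).range =
    Cfsg.stabilizing (Cfsg.spToMat m F) {v : Fin m ⊕ Fin m → F | (Ψ v).2 = 0} := by
  apply le_antisymm
  · rintro _ ⟨A, rfl⟩
    intro v
    change (Ψ v).2 = 0 ↔ (Ψ ((Θ Ψ hΨ A).1 *ᵥ v)).2 = 0
    rw [Θ_coe, LinearMap.toMatrix'_mulVec, Ψ_glue]
    constructor
    · intro h; simp [h]
    · intro h
      have := sp_inv_mulVec A.2 (Ψ v).2
      rw [← this]
      simp only at h
      rw [h, Matrix.mulVec_zero]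
  · intro h hh
    have hst : ∀ v, (Ψ v).2 = 0 ↔ (Ψ (h.1 *ᵥ v)).2 = 0 := hh
    -- h preserves `W`, and so does its inverse
    have hinvW : ∀ v, (Ψ v).2 = 0 → (Ψ ((h⁻¹).1 *ᵥ v)).2 = 0 := by
      intro v hv
      rw [hst, sp_mulVec_inv]
      exact hv
    -- h preserves the complement
    have hW' : ∀ v, (Ψ v).1 = 0 → (Ψ (h.1 *ᵥ v)).1 = 0 := by
      intro v hv
      apply eq_zero_of_sympForm
      intro x
      have h1 := hΨ (Ψ.symm (x, 0)) (h.1 *ᵥ v)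
      simp only [LinearEquiv.apply_symm_apply, sympForm_zero_left, add_zero] at h1
      rw [← h1]
      have h2 : Ψ.symm (x, 0) = h.1 *ᵥ ((h⁻¹).1 *ᵥ Ψ.symm (x, 0)) :=
        (sp_mulVec_inv h _).symm
      rw [h2, sympForm_of_mem m h.2, hΨ, hv, sympForm_zero_right,
        hinvW (Ψ.symm (x, 0)) (by simp), sympForm_zero_left, add_zero]
    -- the two blocks
    let g : (Fin m ⊕ Fin m → F) →ₗ[F] (Fin m ⊕ Fin m → F) := Matrix.toLin' h.1
    let f₁ : (Fin k ⊕ Fin k → F) →ₗ[F] (Fin k ⊕ Fin k → F) :=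
      LinearMap.fst F _ _ ∘ₗ Ψ.toLinearMap ∘ₗ g ∘ₗ Ψ.symm.toLinearMap ∘ₗ LinearMap.inl F _ _
    let f₂ : (Fin l ⊕ Fin l → F) →ₗ[F] (Fin l ⊕ Fin l → F) :=
      LinearMap.snd F _ _ ∘ₗ Ψ.toLinearMap ∘ₗ g ∘ₗ Ψ.symm.toLinearMap ∘ₗ LinearMap.inr F _ _
    have hf₁ : ∀ x, Ψ (h.1 *ᵥ Ψ.symm (x, 0)) = (f₁ x, 0) := by
      intro x
      apply Prod.ext
      · simp [f₁, g, Matrix.toLin'_apply]
      · exact (hst _).1 (by simp)
    have hf₂ : ∀ y, Ψ (h.1 *ᵥ Ψ.symm (0, y)) = (0, f₂ y) := by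
      intro y
      apply Prod.ext
      · exact hW' _ (by simp)
      · simp [f₂, g, Matrix.toLin'_apply]
    have hA₁ : LinearMap.toMatrix' f₁ ∈ symplecticGroup (Fin k) F := by
      apply mem_of_sympForm
      intro x x'
      rw [LinearMap.toMatrix'_mulVec, LinearMap.toMatrix'_mulVec]
      have h1 := sympForm_of_mem m h.2 (Ψ.symm (x, 0)) (Ψ.symm (x', 0))
      rw [hΨ, hΨ (Ψ.symm (x, 0)), hf₁, hf₁] at h1
      simpa [sympForm_zero_left] using h1
    have hA₂ : LinearMap.toMatrix' f₂ ∈ symplecticGroup (Fin l) F := by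
      apply mem_of_sympForm
      intro y y'
      rw [LinearMap.toMatrix'_mulVec, LinearMap.toMatrix'_mulVec]
      have h1 := sympForm_of_mem m h.2 (Ψ.symm (0, y)) (Ψ.symm (0, y'))
      rw [hΨ, hΨ (Ψ.symm (0, y)), hf₂, hf₂] at h1
      simpa [sympForm_zero_left] using h1
    refine ⟨(⟨_, hA₁⟩, ⟨_, hA₂⟩), ?_⟩
    apply Subtype.ext
    rw [Θ_coe]
    apply Matrix.toLin'.injective
    rw [Matrix.toLin'_toMatrix']
    apply LinearMap.ext
    intro v
    apply Ψ.injective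
    rw [Ψ_glue, LinearMap.toMatrix'_mulVec, LinearMap.toMatrix'_mulVec, Matrix.toLin'_apply]
    have hv : v = Ψ.symm ((Ψ v).1, 0) + Ψ.symm (0, (Ψ v).2) := by
      rw [← map_add]
      simp
    conv_rhs => rw [hv, Matrix.mulVec_add, map_add, hf₁, hf₂]
    simp

end glue


/-- If W ≤ F^(2m) is a 2k-dimensional subspace on which the symplectic form is non-degenerate, then the stabiliser of W in Sp_2m(F) is isomorphic to Sp_2k(F) × Sp_(2m−2k)(F). -/
theorem result {F : Type*} [Field F] (m k : ℕ) (hk : k ≤ m) (W : Submodule F (Fin m ⊕ Fin m → F)) (hWk : Module.finrank F W = 2 * k) (hW : ∀ u ∈ W, (∀ v ∈ W, Cfsg.sympForm m F u v = 0) → u = 0) : Nonempty (↥(Cfsg.stabilizing (Cfsg.spToMat m F) (W : Set (Fin m ⊕ Fin m → F))) ≃* Matrix.symplecticGroup (Fin k) F × Matrix.symplecticGroup (Fin (m - k)) F) := by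
  classical
  let B : LinearMap.BilinForm F (Fin m ⊕ Fin m → F) := Matrix.toBilin' (Matrix.J (Fin m) F)
  have hBapp : ∀ u v, B u v = sympForm m F u v := by
    intro u v; rw [Matrix.toBilin'_apply']; rfl
  have hBalt : B.IsAlt := fun x => by rw [hBapp, sympForm_self]
  have hBrefl : B.IsRefl := hBalt.isRefl
  have hBnd : B.Nondegenerate := by
    constructor
    · intro x hx
      by_contra hx0
      obtain ⟨w, hw⟩ := exists_sympForm_ne_zero m hx0
      exact hw (by rw [← hBapp]; exact hx w)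
    · intro y hy
      apply eq_zero_of_sympForm
      intro x
      rw [← hBapp]; exact hy x
  have hWnd : (B.restrict W).Nondegenerate := by
    have key : ∀ w : W, (∀ w' : W, B w w' = 0) → w = 0 := by
      intro w hw
      apply Subtype.ext
      apply hW w.1 w.2
      intro v hv
      rw [← hBapp]; exact hw ⟨v, hv⟩
    constructor
    · intro w hw
      exact key w hw
    · intro w hw
      apply key w
      intro w'
      have := hw w'
      change B w' w = 0 at this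
      rw [← hBalt.neg_eq, this, neg_zero]
  have hc : IsCompl W (B.orthogonal W) :=
    LinearMap.BilinForm.isCompl_orthogonal_of_restrict_nondegenerate hBrefl hWnd
  have hW'nd : (B.restrict (B.orthogonal W)).Nondegenerate := by
    rw [LinearMap.BilinForm.restrict_nondegenerate_iff_isCompl_orthogonal hBrefl,
      LinearMap.BilinForm.orthogonal_orthogonal hBnd hBrefl]
    exact hc.symm
  have hW'k : Module.finrank F (B.orthogonal W) = 2 * (m - k) := by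
    rw [LinearMap.BilinForm.finrank_orthogonal hBnd, hWk, Module.finrank_fintype_fun_eq_card]
    simp; omega
  obtain ⟨φ₁, hφ₁⟩ := exists_isometry k W (B.restrict W) (fun x => hBalt x) hWnd hWk
  obtain ⟨φ₂, hφ₂⟩ := exists_isometry (m - k) (B.orthogonal W) (B.restrict (B.orthogonal W))
    (fun x => hBalt x) hW'nd hW'k
  let P := Submodule.prodEquivOfIsCompl W (B.orthogonal W) hc
  let Ψ : (Fin m ⊕ Fin m → F) ≃ₗ[F] (Fin k ⊕ Fin k → F) × (Fin (m - k) ⊕ Fin (m - k) → F) :=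
    P.symm ≪≫ₗ (φ₁.prodCongr φ₂)
  have hΨ1 : ∀ u, (Ψ u).1 = φ₁ (P.symm u).1 := fun u => rfl
  have hΨ2 : ∀ u, (Ψ u).2 = φ₂ (P.symm u).2 := fun u => rfl
  have hdec : ∀ u, u = ((P.symm u).1 : Fin m ⊕ Fin m → F) + ((P.symm u).2 : Fin m ⊕ Fin m → F) := by
    intro u
    have := P.apply_symm_apply u
    rw [Submodule.coe_prodEquivOfIsCompl'] at this
    exact this.symm
  have hΨ : ∀ u v, sympForm m F u v =
      sympForm k F (Ψ u).1 (Ψ v).1 + sympForm (m - k) F (Ψ u).2 (Ψ v).2 := by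
    intro u v
    have hr1 : ∀ a b : ↥W, (B.restrict W) a b = sympForm m F (a : Fin m ⊕ Fin m → F) b :=
      fun a b => hBapp _ _
    have hr2 : ∀ a b : ↥(B.orthogonal W), (B.restrict (B.orthogonal W)) a b =
        sympForm m F (a : Fin m ⊕ Fin m → F) b := fun a b => hBapp _ _
    rw [hΨ1, hΨ1, hΨ2, hΨ2, hφ₁, hφ₂, hr1, hr2]
    conv_lhs => rw [hdec u, hdec v]
    rw [sympForm_add_left, sympForm_add_right, sympForm_add_right]
    have hx1 : sympForm m F ((P.symm u).1 : Fin m ⊕ Fin m → F) ((P.symm v).2 : Fin m ⊕ Fin m → F) = 0 := by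
      rw [← hBapp]
      exact (LinearMap.BilinForm.mem_orthogonal_iff.1 (P.symm v).2.2) _ (P.symm u).1.2
    have hx2 : sympForm m F ((P.symm u).2 : Fin m ⊕ Fin m → F) ((P.symm v).1 : Fin m ⊕ Fin m → F) = 0 := by
      rw [sympForm_swap, ← hBapp,
        (LinearMap.BilinForm.mem_orthogonal_iff.1 (P.symm u).2.2) _ (P.symm v).1.2, neg_zero]
    rw [hx1, hx2, add_zero, zero_add]
  have hset : (W : Set (Fin m ⊕ Fin m → F)) = {v | (Ψ v).2 = 0} := by
    ext v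
    change v ∈ W ↔ (Ψ v).2 = 0
    rw [hΨ2, LinearEquiv.map_eq_zero_iff]
    exact (Submodule.prodEquivOfIsCompl_symm_apply_snd_eq_zero W _ hc).symm
  rw [hset]
  exact ⟨((MonoidHom.ofInjective (Θ_injective Ψ hΨ)).trans
    (MulEquiv.subgroupCongr (range_Θ Ψ hΨ))).symm⟩

end Cfsg.Agent.S0776
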