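import Cfsg.Statements.S0777
import Mathlib

set_option autoImplicit false
open Cfsg

namespace Cfsg.Agent.S0777

open Matrix

section
variable {F : Type*} [Field F] {m : ℕ}

/-- position -/
def pos (j : Fin m) (t : Bool) : Fin m ⊕ Fin m := if t then Sum.inr j else Sum.inl j

def idx : Fin m ⊕ Fin m → Fin m
  | Sum.inl j => j
  | Sum.inr j => j

def typ : Fin m ⊕ Fin m → Bool
  | Sum.inl _ => false
  | Sum.inr _ => true

@[simp] theorem idx_pos (j : Fin m) (t : Bool) : idx (pos j t) = j := by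
  cases t <;> rfl

@[simp] theorem typ_pos (j : Fin m) (t : Bool) : typ (pos j t) = t := by
  cases t <;> rfl

@[simp] theorem pos_idx_typ (a : Fin m ⊕ Fin m) : pos (idx a) (typ a) = a := by
  cases a <;> rfl

theorem pos_inj {j j' : Fin m} {t t' : Bool} : pos j t = pos j' t' ↔ j = j' ∧ t = t' := by
  constructor
  · intro h
    have h1 := congrArg idx h
    have h2 := congrArg typ h
    simpa using And.intro h1 h2
  · rintro ⟨rfl, rfl⟩; rfl

/-- partner -/
def par (a : Fin m ⊕ Fin m) : Fin m ⊕ Fin m := pos (idx a) (!typ a)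

@[simp] theorem par_pos (j : Fin m) (t : Bool) : par (pos j t) = pos j (!t) := by
  simp [par]

@[simp] theorem par_par (a : Fin m ⊕ Fin m) : par (par a) = a := by
  simp [par]

theorem par_ne (a : Fin m ⊕ Fin m) : par a ≠ a := by
  intro h
  have := congrArg typ h
  simp [par] at this

/-- the entries of `J` -/
def jj (t t' : Bool) : F := if t = t' then 0 else if t then 1 else -1

theorem jj_ft : (jj false true : F) = -1 := by simp [jj]

theorem jj_tf : (jj true false : F) = 1 := by simp [jj]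

theorem J_pos (j j' : Fin m) (t t' : Bool) :
    Matrix.J (Fin m) F (pos j t) (pos j' t') = if j = j' then jj t t' else 0 := by
  cases t <;> cases t' <;> simp [pos, Matrix.J, Matrix.fromBlocks, Matrix.one_apply, jj] <;>
    split_ifs <;> simp

theorem J_apply (a b : Fin m ⊕ Fin m) :
    Matrix.J (Fin m) F a b = if idx a = idx b then jj (typ a) (typ b) else 0 := by
  conv_lhs => rw [← pos_idx_typ a, ← pos_idx_typ b]
  rw [J_pos]

theorem J_ne_zero_iff (a b : Fin m ⊕ Fin m) :
    Matrix.J (Fin m) F a b ≠ 0 ↔ b = par a := by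
  rw [J_apply]
  constructor
  · intro h
    by_cases h1 : idx a = idx b
    · rw [if_pos h1] at h
      have h2 : typ a ≠ typ b := by
        intro h2
        apply h
        simp [jj, h2]
      rw [← pos_idx_typ b, par, ← h1]
      congr 1
      cases hta : typ a <;> cases htb : typ b <;> simp_all
    · rw [if_neg h1] at h
      exact absurd rfl h
  · rintro rfl
    simp only [par, idx_pos, typ_pos, if_true]
    cases typ a <;> simp [jj]

/-- weights -/
def wt (s : Bool) (c : Fˣ) (u : Bool) : F :=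
  if u then (if s then -1 else 1) * ((c⁻¹ : Fˣ) : F) else (c : F)

theorem wt_ne_zero (s : Bool) (c : Fˣ) (u : Bool) : wt s c u ≠ 0 := by
  cases u <;> cases s <;> simp [wt]

/-- target column of a row -/
def rho (π : Equiv.Perm (Fin m)) (s : Fin m → Bool) (a : Fin m ⊕ Fin m) : Fin m ⊕ Fin m :=
  pos (π (idx a)) (xor (s (idx a)) (typ a))

theorem rho_par (π : Equiv.Perm (Fin m)) (s : Fin m → Bool) (a : Fin m ⊕ Fin m) :
    rho π s (par a) = par (rho π s a) := by
  simp only [rho, par, idx_pos, typ_pos]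
  congr 1
  cases s (idx a) <;> cases typ a <;> rfl

theorem rho_injective (π : Equiv.Perm (Fin m)) (s : Fin m → Bool) :
    Function.Injective (rho π s) := by
  intro a b h
  simp only [rho, pos_inj] at h
  obtain ⟨h1, h2⟩ := h
  have h3 : idx a = idx b := π.injective h1
  rw [h3] at h2
  have h4 : typ a = typ b := by
    cases hs : s (idx b) <;> cases hta : typ a <;> cases htb : typ b <;> simp_all
  rw [← pos_idx_typ a, ← pos_idx_typ b, h3, h4]

/-- the monomial matrix of the data -/
def Mk (π : Equiv.Perm (Fin m)) (s : Fin m → Bool) (c : Fin m → Fˣ) :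
    Matrix (Fin m ⊕ Fin m) (Fin m ⊕ Fin m) F :=
  fun a b => if b = rho π s a then wt (s (idx a)) (c (idx a)) (typ a) else 0

theorem Mk_mul_apply (π : Equiv.Perm (Fin m)) (s : Fin m → Bool) (c : Fin m → Fˣ)
    (B : Matrix (Fin m ⊕ Fin m) (Fin m ⊕ Fin m) F) (a b : Fin m ⊕ Fin m) :
    (Mk π s c * B) a b = wt (s (idx a)) (c (idx a)) (typ a) * B (rho π s a) b := by
  rw [Matrix.mul_apply, Finset.sum_eq_single (rho π s a)]
  · simp [Mk]
  · intro x _ hx
    simp [Mk, hx]
  · intro h; exact absurd (Finset.mem_univ _) h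

theorem mul_Mk_transpose_apply (π : Equiv.Perm (Fin m)) (s : Fin m → Bool) (c : Fin m → Fˣ)
    (B : Matrix (Fin m ⊕ Fin m) (Fin m ⊕ Fin m) F) (a b : Fin m ⊕ Fin m) :
    (B * (Mk π s c)ᵀ) a b = B a (rho π s b) * wt (s (idx b)) (c (idx b)) (typ b) := by
  rw [Matrix.mul_apply, Finset.sum_eq_single (rho π s b)]
  · simp [Mk]
  · intro x _ hx
    simp [Mk, hx]
  · intro h; exact absurd (Finset.mem_univ _) h

theorem wt_jj (s : Bool) (c : Fˣ) (u u' : Bool) :
    wt s c u * jj (xor s u) (xor s u') * wt s c u' = jj u u' := by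
  cases s <;> cases u <;> cases u' <;> simp [wt, jj]

theorem Mk_mem (π : Equiv.Perm (Fin m)) (s : Fin m → Bool) (c : Fin m → Fˣ) :
    Mk π s c ∈ Matrix.symplecticGroup (Fin m) F := by
  rw [SymplecticGroup.mem_iff]
  ext a b
  rw [mul_Mk_transpose_apply, Mk_mul_apply, J_apply, J_apply]
  simp only [rho, idx_pos, typ_pos]
  by_cases h : idx a = idx b
  · rw [if_pos h, if_pos (by rw [h]), h, ← wt_jj (s (idx b)) (c (idx b)) (typ a) (typ b)]
  · rw [if_neg h, if_neg (fun h' => h (π.injective h'))]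
    simp

variable (m F) in
/-- the torus -/
def T : Subgroup (Matrix.symplecticGroup (Fin m) F) :=
  ⨅ i : Fin m ⊕ Fin m, Cfsg.stabilizing (Cfsg.spToMat m F)
    ((Submodule.span F {(Pi.single i (1 : F) : Fin m ⊕ Fin m → F)} :
      Submodule F (Fin m ⊕ Fin m → F)) : Set (Fin m ⊕ Fin m → F))

theorem mem_span_single (i : Fin m ⊕ Fin m) (v : Fin m ⊕ Fin m → F) :
    v ∈ Submodule.span F {(Pi.single i (1 : F) : Fin m ⊕ Fin m → F)} ↔
      ∀ a, a ≠ i → v a = 0 := by
  rw [Submodule.mem_span_singleton]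
  constructor
  · rintro ⟨c, rfl⟩ a ha
    simp [ha]
  · intro h
    refine ⟨v i, ?_⟩
    ext a
    by_cases ha : a = i
    · subst ha; simp
    · simp [ha, h a ha]

theorem symp_eq (g : Matrix.symplecticGroup (Fin m) F) :
    g.1 * Matrix.J (Fin m) F * g.1ᵀ = Matrix.J (Fin m) F :=
  SymplecticGroup.mem_iff.1 g.2

theorem exists_row_ne_zero (g : Matrix.symplecticGroup (Fin m) F) (a : Fin m ⊕ Fin m) :
    ∃ b, g.1 a b ≠ 0 := by
  by_contra h
  push Not at h
  have h1 := congrFun (congrFun (symp_eq g) a) (par a)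
  have h2 : (g.1 * Matrix.J (Fin m) F * g.1ᵀ) a (par a) = 0 := by
    rw [Matrix.mul_assoc, Matrix.mul_apply]
    apply Finset.sum_eq_zero
    intro x _
    rw [h x, zero_mul]
  rw [h2] at h1
  exact (J_ne_zero_iff a (par a)).2 rfl h1.symm

theorem diag_mulVec (g : Matrix (Fin m ⊕ Fin m) (Fin m ⊕ Fin m) F)
    (hd : ∀ a b, a ≠ b → g a b = 0) (v : Fin m ⊕ Fin m → F) (a : Fin m ⊕ Fin m) :
    (g *ᵥ v) a = g a a * v a := by
  rw [Matrix.mulVec, dotProduct, Finset.sum_eq_single a]
  · intro b _ hb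
    rw [hd a b (Ne.symm hb), zero_mul]
  · intro h; exact absurd (Finset.mem_univ _) h

theorem diag_ne_zero (g : Matrix.symplecticGroup (Fin m) F)
    (hd : ∀ a b, a ≠ b → g.1 a b = 0) (a : Fin m ⊕ Fin m) : g.1 a a ≠ 0 := by
  obtain ⟨b, hb⟩ := exists_row_ne_zero g a
  by_cases hab : a = b
  · rw [hab]; rw [hab] at hb; exact hb
  · exact absurd (hd a b hab) hb

theorem mem_T_iff (g : Matrix.symplecticGroup (Fin m) F) :
    g ∈ T F m ↔ ∀ a b, a ≠ b → g.1 a b = 0 := by
  constructor
  · intro h a b hab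
    have h1 := (Subgroup.mem_iInf.1 h b) (Pi.single b 1)
    have h2 : (g.1 *ᵥ (Pi.single b (1 : F) : Fin m ⊕ Fin m → F)) ∈
        Submodule.span F {(Pi.single b (1 : F) : Fin m ⊕ Fin m → F)} :=
      h1.1 (Submodule.subset_span rfl)
    rw [mem_span_single] at h2
    have h3 := h2 a hab
    rw [Matrix.mulVec_single_one] at h3
    exact h3
  · intro hd
    rw [T, Subgroup.mem_iInf]
    intro i v
    change v ∈ Submodule.span F {(Pi.single i (1 : F) : Fin m ⊕ Fin m → F)} ↔
      g.1 *ᵥ v ∈ Submodule.span F {(Pi.single i (1 : F) : Fin m ⊕ Fin m → F)}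
    rw [mem_span_single, mem_span_single]
    constructor
    · intro h a ha
      rw [diag_mulVec g.1 hd, h a ha, mul_zero]
    · intro h a ha
      have := h a ha
      rw [diag_mulVec g.1 hd] at this
      exact (mul_eq_zero.1 this).resolve_left (diag_ne_zero g hd a)

/-- one non-zero entry per row -/
def RowMono (g : Matrix (Fin m ⊕ Fin m) (Fin m ⊕ Fin m) F) : Prop :=
  ∀ a b b', g a b ≠ 0 → g a b' ≠ 0 → b = b'

theorem diag_mul_apply (h g : Matrix (Fin m ⊕ Fin m) (Fin m ⊕ Fin m) F)
    (hd : ∀ a b, a ≠ b → h a b = 0) (a b : Fin m ⊕ Fin m) :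
    (h * g) a b = h a a * g a b := by
  rw [Matrix.mul_apply, Finset.sum_eq_single a]
  · intro x _ hx
    rw [hd a x (Ne.symm hx), zero_mul]
  · intro h; exact absurd (Finset.mem_univ _) h

theorem mul_diag_apply (g t : Matrix (Fin m ⊕ Fin m) (Fin m ⊕ Fin m) F)
    (hd : ∀ a b, a ≠ b → t a b = 0) (a b : Fin m ⊕ Fin m) :
    (g * t) a b = g a b * t b b := by
  rw [Matrix.mul_apply, Finset.sum_eq_single b]
  · intro x _ hx
    rw [hd x b hx, mul_zero]
  · intro h; exact absurd (Finset.mem_univ _) h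

theorem rho_one (a : Fin m ⊕ Fin m) : rho (1 : Equiv.Perm (Fin m)) (fun _ => false) a = a := by
  simp [rho]

/-- torus elements -/
def tor (d : Fin m → Fˣ) : Matrix.symplecticGroup (Fin m) F :=
  ⟨Mk 1 (fun _ => false) d, Mk_mem _ _ _⟩

theorem tor_apply (d : Fin m → Fˣ) (a b : Fin m ⊕ Fin m) :
    (tor d).1 a b = if b = a then wt false (d (idx a)) (typ a) else 0 := by
  simp [tor, Mk, rho_one]

theorem tor_mem (d : Fin m → Fˣ) : tor d ∈ T F m := by
  rw [mem_T_iff]
  intro a b hab
  rw [tor_apply, if_neg (Ne.symm hab)]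

theorem exists_sq_ne_one [Fintype F] (hq : 4 ≤ Fintype.card F) : ∃ x : Fˣ, x * x ≠ 1 := by
  classical
  by_contra h
  push Not at h
  have h1 : ∀ x : Fˣ, (x : F) = 1 ∨ (x : F) = -1 := fun x =>
    mul_self_eq_one_iff.1 (by rw [← Units.val_mul, h x, Units.val_one])
  have h2 : Fintype.card Fˣ ≤ 2 := by
    have hinj : Function.Injective (fun x : Fˣ => decide ((x : F) = 1)) := by
      intro x y hxy
      simp only [decide_eq_decide] at hxy
      apply Units.ext
      rcases h1 x with hx | hx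
      · rw [hx]; exact (hxy.1 hx).symm
      · rcases h1 y with hy | hy
        · rw [hy]; exact hxy.2 hy
        · rw [hx, hy]
    simpa using Fintype.card_le_of_injective _ hinj
  rw [Fintype.card_units] at h2
  omega

theorem sq_of_wt (x : Fˣ) (u u' : Bool) (h : u ≠ u') (e : wt false x u = wt false x u') :
    x * x = 1 := by
  cases u <;> cases u'
  · exact absurd rfl h
  · have e' : (x : F) = ((x⁻¹ : Fˣ) : F) := by simpa [wt] using e
    have : x = x⁻¹ := Units.ext e'
    calc x * x = x * x⁻¹ := by rw [← this]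
      _ = 1 := mul_inv_cancel x
  · have e' : ((x⁻¹ : Fˣ) : F) = (x : F) := by simpa [wt] using e
    have : x⁻¹ = x := Units.ext e'
    calc x * x = x * x⁻¹ := by rw [this]
      _ = 1 := mul_inv_cancel x
  · exact absurd rfl h

theorem one_of_wt (x : Fˣ) (u u' : Bool) (e : wt false x u = wt false 1 u') : x = 1 := by
  cases u <;> cases u'
  · exact Units.ext (by simpa [wt] using e)
  · exact Units.ext (by simpa [wt] using e)
  · have e' : ((x⁻¹ : Fˣ) : F) = ((1 : Fˣ) : F) := by simpa [wt] using e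
    have : x⁻¹ = 1 := Units.ext e'
    exact inv_eq_one.1 this
  · have e' : ((x⁻¹ : Fˣ) : F) = ((1 : Fˣ) : F) := by simpa [wt] using e
    have : x⁻¹ = 1 := Units.ext e'
    exact inv_eq_one.1 this

theorem normalizer_rowMono [Fintype F] (hq : 4 ≤ Fintype.card F)
    (g : Matrix.symplecticGroup (Fin m) F)
    (hg : g ∈ Subgroup.normalizer ((T F m : Subgroup _) : Set (Matrix.symplecticGroup (Fin m) F))) :
    RowMono g.1 := by
  classical
  intro a b b' hb hb'
  by_contra hne
  obtain ⟨x, hx⟩ := exists_sq_ne_one hq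
  let d : Fin m → Fˣ := Function.update (fun _ => 1) (idx b) x
  have ht : tor d ∈ T F m := tor_mem d
  have hh : g * tor d * g⁻¹ ∈ T F m := (Subgroup.mem_normalizer_iff.1 hg (tor d)).1 ht
  have hdh := (mem_T_iff _).1 hh
  have hdt := (mem_T_iff _).1 ht
  have heq : (g * tor d * g⁻¹).1 * g.1 = g.1 * (tor d).1 := by
    have : g * tor d * g⁻¹ * g = g * tor d := by group
    exact congrArg Subtype.val this
  have e1 := congrFun (congrFun heq a) b
  have e2 := congrFun (congrFun heq a) b'
  rw [diag_mul_apply _ _ hdh, mul_diag_apply _ _ hdt] at e1 e2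
  have e3 : (tor d).1 b b = (tor d).1 b' b' := by
    have f1 : (g * tor d * g⁻¹).1 a a = (tor d).1 b b := by
      have : (g * tor d * g⁻¹).1 a a * g.1 a b = (tor d).1 b b * g.1 a b := by rw [e1, mul_comm]
      exact mul_right_cancel₀ hb this
    have f2 : (g * tor d * g⁻¹).1 a a = (tor d).1 b' b' := by
      have : (g * tor d * g⁻¹).1 a a * g.1 a b' = (tor d).1 b' b' * g.1 a b' := by rw [e2, mul_comm]
      exact mul_right_cancel₀ hb' this
    rw [← f1, f2]
  rw [tor_apply, tor_apply, if_pos rfl, if_pos rfl] at e3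
  have hdb : d (idx b) = x := by simp [d]
  rw [hdb] at e3
  by_cases hi : idx b' = idx b
  · rw [hi, hdb] at e3
    have htyp : typ b ≠ typ b' := by
      intro h
      apply hne
      rw [← pos_idx_typ b, ← pos_idx_typ b', hi, h]
    exact hx (sq_of_wt x _ _ htyp e3)
  · have hdb' : d (idx b') = 1 := by simp [d, hi]
    rw [hdb'] at e3
    apply hx
    rw [one_of_wt x _ _ e3, mul_one]

/-- the column function of a row-monomial symplectic matrix -/
theorem exists_col (g : Matrix.symplecticGroup (Fin m) F) (hg : RowMono g.1) :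
    ∃ ρ : Fin m ⊕ Fin m → Fin m ⊕ Fin m, (∀ a, g.1 a (ρ a) ≠ 0) ∧ (∀ a b, g.1 a b ≠ 0 → b = ρ a) := by
  choose ρ hρ using exists_row_ne_zero g
  exact ⟨ρ, hρ, fun a b hb => hg a b (ρ a) hb (hρ a)⟩

theorem symp_entry (g : Matrix.symplecticGroup (Fin m) F)
    (ρ : Fin m ⊕ Fin m → Fin m ⊕ Fin m) (h2 : ∀ a b, g.1 a b ≠ 0 → b = ρ a)
    (a a' : Fin m ⊕ Fin m) :
    g.1 a (ρ a) * Matrix.J (Fin m) F (ρ a) (ρ a') * g.1 a' (ρ a') = Matrix.J (Fin m) F a a' := by
  have h := congrFun (congrFun (symp_eq g) a) a'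
  rw [← h, Matrix.mul_apply, Finset.sum_eq_single (ρ a')]
  · rw [Matrix.mul_apply, Finset.sum_eq_single (ρ a)]
    · rfl
    · intro x _ hx
      have : g.1 a x = 0 := by
        by_contra h0
        exact hx (h2 a x h0)
      rw [this, zero_mul]
    · intro h; exact absurd (Finset.mem_univ _) h
  · intro x _ hx
    have : g.1 a' x = 0 := by
      by_contra h0
      exact hx (h2 a' x h0)
    rw [Matrix.transpose_apply, this, mul_zero]
  · intro h; exact absurd (Finset.mem_univ _) h

theorem col_par_iff (g : Matrix.symplecticGroup (Fin m) F)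
    (ρ : Fin m ⊕ Fin m → Fin m ⊕ Fin m) (h1 : ∀ a, g.1 a (ρ a) ≠ 0)
    (h2 : ∀ a b, g.1 a b ≠ 0 → b = ρ a) (a a' : Fin m ⊕ Fin m) :
    ρ a' = par (ρ a) ↔ a' = par a := by
  rw [← J_ne_zero_iff (F := F), ← J_ne_zero_iff (F := F), ← symp_entry g ρ h2 a a']
  constructor
  · intro h
    exact mul_ne_zero (mul_ne_zero (h1 a) h) (h1 a')
  · intro h h0
    apply h
    rw [h0, mul_zero, zero_mul]

theorem col_par (g : Matrix.symplecticGroup (Fin m) F)
    (ρ : Fin m ⊕ Fin m → Fin m ⊕ Fin m) (h1 : ∀ a, g.1 a (ρ a) ≠ 0)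
    (h2 : ∀ a b, g.1 a b ≠ 0 → b = ρ a) (a : Fin m ⊕ Fin m) :
    ρ (par a) = par (ρ a) :=
  (col_par_iff g ρ h1 h2 a (par a)).2 rfl

theorem col_injective (g : Matrix.symplecticGroup (Fin m) F)
    (ρ : Fin m ⊕ Fin m → Fin m ⊕ Fin m) (h1 : ∀ a, g.1 a (ρ a) ≠ 0)
    (h2 : ∀ a b, g.1 a b ≠ 0 → b = ρ a) : Function.Injective ρ := by
  intro a a' h
  have h3 : ρ (par a') = par (ρ a) := by rw [col_par g ρ h1 h2, h]
  have h4 := (col_par_iff g ρ h1 h2 a (par a')).1 h3
  have := congrArg par h4
  rw [par_par, par_par] at this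
  exact this.symm

theorem rowMono_normalizer [Finite F]
    (g : Matrix.symplecticGroup (Fin m) F) (hg : RowMono g.1) :
    g ∈ Subgroup.normalizer ((T F m : Subgroup _) : Set (Matrix.symplecticGroup (Fin m) F)) := by
  classical
  obtain ⟨ρ, h1, h2⟩ := exists_col g hg
  have hinj := col_injective g ρ h1 h2
  have : Finite (Matrix.symplecticGroup (Fin m) F) :=
    Finite.of_injective (fun x : Matrix.symplecticGroup (Fin m) F => x.1) Subtype.val_injective
  apply Subgroup.mem_normalizer_fintype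
  intro t ht
  have hdt := (mem_T_iff _).1 ht
  change g * t * g⁻¹ ∈ T F m
  rw [mem_T_iff]
  intro a x hax
  have heq : (g * t * g⁻¹).1 * g.1 = g.1 * t.1 := by
    have : g * t * g⁻¹ * g = g * t := by group
    exact congrArg Subtype.val this
  have e1 := congrFun (congrFun heq a) (ρ x)
  rw [mul_diag_apply _ _ hdt, Matrix.mul_apply, Finset.sum_eq_single x] at e1
  · have h0 : g.1 a (ρ x) = 0 := by
      by_contra h0
      exact hax (hinj (h2 a _ h0)).symm
    rw [h0, zero_mul] at e1
    exact (mul_eq_zero.1 e1).resolve_right (h1 x)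
  · intro y _ hy
    have h0 : g.1 y (ρ x) = 0 := by
      by_contra h0
      exact hy (hinj (h2 y _ h0)).symm
    rw [h0, mul_zero]
  · intro h; exact absurd (Finset.mem_univ _) h

theorem Mk_ne_zero (π : Equiv.Perm (Fin m)) (s : Fin m → Bool) (c : Fin m → Fˣ)
    (a b : Fin m ⊕ Fin m) (h : (Mk π s c : Matrix _ _ F) a b ≠ 0) : b = rho π s a := by
  by_contra hb
  apply h
  simp [Mk, hb]

theorem Mk_rowMono (π : Equiv.Perm (Fin m)) (s : Fin m → Bool) (c : Fin m → Fˣ) :
    RowMono (Mk π s c : Matrix _ _ F) := by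
  intro a b b' hb hb'
  rw [Mk_ne_zero π s c a b hb, Mk_ne_zero π s c a b' hb']

theorem Mk_apply_rho (π : Equiv.Perm (Fin m)) (s : Fin m → Bool) (c : Fin m → Fˣ)
    (a : Fin m ⊕ Fin m) :
    (Mk π s c : Matrix _ _ F) a (rho π s a) = wt (s (idx a)) (c (idx a)) (typ a) := by
  simp [Mk]

theorem Mk_injective (π π' : Equiv.Perm (Fin m)) (s s' : Fin m → Bool) (c c' : Fin m → Fˣ)
    (h : (Mk π s c : Matrix _ _ F) = Mk π' s' c') : π = π' ∧ s = s' ∧ c = c' := by
  have key : ∀ k, π k = π' k ∧ s k = s' k ∧ c k = c' k := by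
    intro k
    have h1 := Mk_apply_rho (F := F) π s c (pos k false)
    rw [h] at h1
    simp only [idx_pos, typ_pos] at h1
    have h2 : (Mk π' s' c' : Matrix _ _ F) (pos k false) (rho π s (pos k false)) ≠ 0 := by
      rw [h1]; exact wt_ne_zero _ _ _
    have h3 := Mk_ne_zero π' s' c' _ _ h2
    simp only [rho, idx_pos, typ_pos, pos_inj, Bool.xor_false] at h3
    refine ⟨h3.1, h3.2, ?_⟩
    have h4 := Mk_apply_rho (F := F) π' s' c' (pos k false)
    have h5 : rho π' s' (pos k false) = rho π s (pos k false) := by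
      simp only [rho, idx_pos, typ_pos, Bool.xor_false, h3.1, h3.2]
    rw [h5, h1] at h4
    simp only [idx_pos, typ_pos, wt, Bool.false_eq_true, if_false] at h4
    exact Units.ext h4
  refine ⟨Equiv.ext fun k => (key k).1, funext fun k => (key k).2.1, funext fun k => (key k).2.2⟩

theorem exists_data (g : Matrix.symplecticGroup (Fin m) F) (hg : RowMono g.1) :
    ∃ (π : Equiv.Perm (Fin m)) (s : Fin m → Bool) (c : Fin m → Fˣ), Mk π s c = g.1 := by
  classical
  obtain ⟨ρ, h1, h2⟩ := exists_col g hg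
  have hinj := col_injective g ρ h1 h2
  have hpar := col_par g ρ h1 h2
  have hπ : Function.Injective (fun k : Fin m => idx (ρ (pos k false))) := by
    intro k k' h
    simp only at h
    by_cases ht : typ (ρ (pos k false)) = typ (ρ (pos k' false))
    · have : ρ (pos k false) = ρ (pos k' false) := by
        rw [← pos_idx_typ (ρ (pos k false)), ← pos_idx_typ (ρ (pos k' false)), h, ht]
      exact (pos_inj.1 (hinj this)).1
    · exfalso
      have : ρ (pos k' false) = par (ρ (pos k false)) := by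
        rw [par, ← pos_idx_typ (ρ (pos k' false)), h]
        congr 1
        cases h3 : typ (ρ (pos k false)) <;> cases h4 : typ (ρ (pos k' false)) <;> simp_all
      rw [← hpar, par_pos] at this
      have := (pos_inj.1 (hinj this)).2
      simp at this
  let π : Equiv.Perm (Fin m) := Equiv.ofBijective _ (Finite.injective_iff_bijective.1 hπ)
  let s : Fin m → Bool := fun k => typ (ρ (pos k false))
  let c : Fin m → Fˣ := fun k => Units.mk0 (g.1 (pos k false) (ρ (pos k false))) (h1 _)
  have hπk : ∀ k, π k = idx (ρ (pos k false)) := fun k => rfl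
  have hrho : ∀ a, rho π s a = ρ a := by
    intro a
    rw [← pos_idx_typ a]
    generalize idx a = k
    cases typ a
    · simp only [rho, idx_pos, typ_pos, Bool.xor_false, hπk, s, pos_idx_typ]
    · have : ρ (pos k true) = par (ρ (pos k false)) := by
        rw [← hpar, par_pos]; rfl
      rw [this]
      simp only [rho, idx_pos, typ_pos, Bool.xor_true, hπk, s, par]
  refine ⟨π, s, c, ?_⟩
  ext a b
  by_cases hb : b = ρ a
  · subst hb
    rw [← hrho a, Mk_apply_rho, hrho a]
    rw [← pos_idx_typ a]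
    generalize idx a = k
    cases hta : typ a
    · simp only [idx_pos, typ_pos, wt, Bool.false_eq_true, if_false, c, Units.val_mk0]
    · simp only [idx_pos, typ_pos, wt, if_true, c]
      have e := symp_entry g ρ h2 (pos k false) (pos k true)
      have hp : ρ (pos k true) = par (ρ (pos k false)) := by
        rw [← hpar, par_pos]; rfl
      have hJ : Matrix.J (Fin m) F (ρ (pos k false)) (ρ (pos k true)) =
          jj (typ (ρ (pos k false))) (!typ (ρ (pos k false))) := by
        rw [hp, J_apply]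
        simp [par]
      rw [J_pos, if_pos rfl, hJ] at e
      have hc : g.1 (pos k false) (ρ (pos k false)) ≠ 0 := h1 _
      cases hs : s k
      · have hs' : typ (ρ (pos k false)) = false := hs
        rw [hs', Bool.not_false, jj_ft] at e
        simp only [Bool.false_eq_true, if_false, one_mul]
        rw [Units.val_inv_eq_inv_val, Units.val_mk0]
        have hAY : g.1 (pos k false) (ρ (pos k false)) * g.1 (pos k true) (ρ (pos k true)) = 1 := by
          linear_combination (-1 : F) * e
        exact (eq_inv_of_mul_eq_one_right hAY).symm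
      · have hs' : typ (ρ (pos k false)) = true := hs
        rw [hs', Bool.not_true, jj_tf, jj_ft] at e
        simp only [if_true]
        rw [Units.val_inv_eq_inv_val, Units.val_mk0]
        have hAY : g.1 (pos k false) (ρ (pos k false)) * (-g.1 (pos k true) (ρ (pos k true))) = 1 := by
          linear_combination (-1 : F) * e
        have := eq_inv_of_mul_eq_one_right hAY
        rw [← this]
        ring
  · have h0 : g.1 a b = 0 := by
      by_contra h0
      exact hb (h2 a b h0)
    rw [h0]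
    rw [← hrho a] at hb
    simp [Mk, hb]

end

/-- Weyl group of type C_m: for q ≥ 4 the diagonal matrices of Sp_2m(q) form a torus T ≅ (C_(q−1))^m (the elements stabilising every coordinate axis), and the normaliser of T in Sp_2m(q) has order 2^m · m! · (q − 1)^m. -/
theorem result {F : Type*} [Field F] [Fintype F] {q : ℕ} (hF : Fintype.card F = q) (hq : 4 ≤ q) (m : ℕ) : Nat.card ↥(Subgroup.normalizer (⨅ i : Fin m ⊕ Fin m, Cfsg.stabilizing (Cfsg.spToMat m F) ((Submodule.span F {(Pi.single i (1 : F) : Fin m ⊕ Fin m → F)} : Submodule F (Fin m ⊕ Fin m → F)) : Set (Fin m ⊕ Fin m → F)) : Set (Matrix.symplecticGroup (Fin m) F))) = 2 ^ m * Nat.factorial m * (q - 1) ^ m := by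
  classical
  have hset : (⨅ i : Fin m ⊕ Fin m, ((Cfsg.stabilizing (Cfsg.spToMat m F) ((Submodule.span F {(Pi.single i (1 : F) : Fin m ⊕ Fin m → F)} : Submodule F (Fin m ⊕ Fin m → F)) : Set (Fin m ⊕ Fin m → F)) : Subgroup (Matrix.symplecticGroup (Fin m) F)) : Set (Matrix.symplecticGroup (Fin m) F))) = ((T F m : Subgroup _) : Set (Matrix.symplecticGroup (Fin m) F)) := by
    rw [T, Subgroup.coe_iInf, Set.iInf_eq_iInter]
  rw [hset]
  let Φ : Equiv.Perm (Fin m) × (Fin m → Bool) × (Fin m → Fˣ) →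
      ↥(Subgroup.normalizer ((T F m : Subgroup _) : Set (Matrix.symplecticGroup (Fin m) F))) :=
    fun d => ⟨⟨Mk d.1 d.2.1 d.2.2, Mk_mem _ _ _⟩,
      rowMono_normalizer ⟨Mk d.1 d.2.1 d.2.2, Mk_mem _ _ _⟩ (Mk_rowMono _ _ _)⟩
  have hΦ : Function.Bijective Φ := by
    constructor
    · rintro ⟨π, s, c⟩ ⟨π', s', c'⟩ h
      have h1 : (Mk π s c : Matrix _ _ F) = Mk π' s' c' :=
        congrArg (fun x => x.1.1) h
      obtain ⟨rfl, rfl, rfl⟩ := Mk_injective _ _ _ _ _ _ h1
      rfl
    · rintro ⟨g, hg⟩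
      have hrm := normalizer_rowMono (hF ▸ hq) g hg
      obtain ⟨π, s, c, h⟩ := exists_data g hrm
      refine ⟨⟨π, s, c⟩, ?_⟩
      apply Subtype.ext
      apply Subtype.ext
      exact h
  rw [← Nat.card_congr (Equiv.ofBijective Φ hΦ), Nat.card_prod, Nat.card_prod, Nat.card_fun,
    Nat.card_fun, Nat.card_perm, Nat.card_eq_fintype_card (α := Fin m), Fintype.card_fin,
    Nat.card_eq_fintype_card (α := Bool), Fintype.card_bool,
    Nat.card_eq_fintype_card (α := Fˣ), Fintype.card_units, hF]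
  ring

end Cfsg.Agent.S0777
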