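import Cfsg.Statements.S0778
import Mathlib

set_option autoImplicit false
open Cfsg

namespace Cfsg.Agent.S0778

open Matrix

variable {F : Type*} [Field F] (m : ℕ)

/-- the two Lagrangians -/
abbrev WW : Set (Fin m ⊕ Fin m → F) := {v | ∀ i : Fin m, v (Sum.inr i) = 0}
abbrev UU : Set (Fin m ⊕ Fin m → F) := {v | ∀ i : Fin m, v (Sum.inl i) = 0}

abbrev HH : Subgroup (Matrix.symplecticGroup (Fin m) F) :=
  Cfsg.stabilizing (Cfsg.spToMat m F) (WW m) ⊓ Cfsg.stabilizing (Cfsg.spToMat m F) (UU m)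

theorem block21 (A : Matrix.symplecticGroup (Fin m) F)
    (hA : A ∈ Cfsg.stabilizing (Cfsg.spToMat m F) (WW (F := F) m)) (i j : Fin m) :
    (A : Matrix (Fin m ⊕ Fin m) (Fin m ⊕ Fin m) F) (Sum.inr i) (Sum.inl j) = 0 := by
  have h := (hA (Pi.single (Sum.inl j) 1)).1 (by
    intro i
    simp)
  have := h i
  simpa [Matrix.mulVec_single_one] using this

theorem block12 (A : Matrix.symplecticGroup (Fin m) F)
    (hA : A ∈ Cfsg.stabilizing (Cfsg.spToMat m F) (UU (F := F) m)) (i j : Fin m) :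
    (A : Matrix (Fin m ⊕ Fin m) (Fin m ⊕ Fin m) F) (Sum.inl i) (Sum.inr j) = 0 := by
  have h := (hA (Pi.single (Sum.inr j) 1)).1 (by
    intro i
    simp)
  have := h i
  simpa [Matrix.mulVec_single_one] using this

theorem eq_fromBlocks (A : HH (F := F) m) :
    (A.1 : Matrix (Fin m ⊕ Fin m) (Fin m ⊕ Fin m) F) =
      fromBlocks (A.1 : Matrix (Fin m ⊕ Fin m) (Fin m ⊕ Fin m) F).toBlocks₁₁ 0 0
        (A.1 : Matrix (Fin m ⊕ Fin m) (Fin m ⊕ Fin m) F).toBlocks₂₂ := by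
  ext (i | i) (j | j)
  · rfl
  · simpa using block12 m A.1 A.2.2 i j
  · simpa using block21 m A.1 A.2.1 i j
  · rfl

theorem blocks_mul (A : HH (F := F) m) :
    (A.1 : Matrix (Fin m ⊕ Fin m) (Fin m ⊕ Fin m) F).toBlocks₁₁ *
      ((A.1 : Matrix (Fin m ⊕ Fin m) (Fin m ⊕ Fin m) F).toBlocks₂₂)ᵀ = 1 := by
  have h := SymplecticGroup.mem_iff.1 A.1.2
  rw [eq_fromBlocks m A, Matrix.J, fromBlocks_transpose, fromBlocks_multiply,
    fromBlocks_multiply] at h
  have h12 := congrArg Matrix.toBlocks₁₂ h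
  simp only [toBlocks_fromBlocks₁₂] at h12
  simp at h12
  exact h12

/-- the block `X` as an element of `GL_m` -/
noncomputable def toGL (A : HH (F := F) m) : Matrix.GeneralLinearGroup (Fin m) F :=
  ⟨(A.1 : Matrix (Fin m ⊕ Fin m) (Fin m ⊕ Fin m) F).toBlocks₁₁,
    ((A.1 : Matrix (Fin m ⊕ Fin m) (Fin m ⊕ Fin m) F).toBlocks₂₂)ᵀ,
    blocks_mul m A, mul_eq_one_comm.1 (blocks_mul m A)⟩

theorem toGL_mul (A B : HH (F := F) m) : toGL m (A * B) = toGL m A * toGL m B := by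
  apply Units.ext
  change ((A * B : HH (F := F) m).1 : Matrix (Fin m ⊕ Fin m) (Fin m ⊕ Fin m) F).toBlocks₁₁ =
    (A.1 : Matrix (Fin m ⊕ Fin m) (Fin m ⊕ Fin m) F).toBlocks₁₁ *
      (B.1 : Matrix (Fin m ⊕ Fin m) (Fin m ⊕ Fin m) F).toBlocks₁₁
  have : ((A * B : HH (F := F) m).1 : Matrix (Fin m ⊕ Fin m) (Fin m ⊕ Fin m) F) =
      (A.1 : Matrix (Fin m ⊕ Fin m) (Fin m ⊕ Fin m) F) *
        (B.1 : Matrix (Fin m ⊕ Fin m) (Fin m ⊕ Fin m) F) := rfl
  rw [this]
  conv_lhs => rw [eq_fromBlocks m A, eq_fromBlocks m B, fromBlocks_multiply]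
  simp

theorem toGL_injective : Function.Injective (toGL (F := F) m) := by
  intro A B h
  have h1 : (A.1 : Matrix (Fin m ⊕ Fin m) (Fin m ⊕ Fin m) F).toBlocks₁₁ =
      (B.1 : Matrix (Fin m ⊕ Fin m) (Fin m ⊕ Fin m) F).toBlocks₁₁ := congrArg Units.val h
  have h2 : ((A.1 : Matrix (Fin m ⊕ Fin m) (Fin m ⊕ Fin m) F).toBlocks₂₂)ᵀ =
      ((B.1 : Matrix (Fin m ⊕ Fin m) (Fin m ⊕ Fin m) F).toBlocks₂₂)ᵀ := by
    have := congrArg (fun u : Matrix.GeneralLinearGroup (Fin m) F => ((u⁻¹ : Matrix.GeneralLinearGroup (Fin m) F) : Matrix (Fin m) (Fin m) F)) h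
    exact this
  have h3 := Matrix.transpose_injective h2
  apply Subtype.ext
  apply Subtype.ext
  rw [eq_fromBlocks m A, eq_fromBlocks m B, h1, h3]

theorem toGL_surjective : Function.Surjective (toGL (F := F) m) := by
  intro X
  let M : Matrix (Fin m ⊕ Fin m) (Fin m ⊕ Fin m) F :=
    fromBlocks (X : Matrix (Fin m) (Fin m) F) 0 0
      ((X⁻¹ : Matrix.GeneralLinearGroup (Fin m) F) : Matrix (Fin m) (Fin m) F)ᵀ
  have hXX : (X : Matrix (Fin m) (Fin m) F) *
      ((X⁻¹ : Matrix.GeneralLinearGroup (Fin m) F) : Matrix (Fin m) (Fin m) F) = 1 := by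
    rw [← Matrix.GeneralLinearGroup.coe_mul, mul_inv_cancel]; rfl
  have hXX' : ((X⁻¹ : Matrix.GeneralLinearGroup (Fin m) F) : Matrix (Fin m) (Fin m) F) *
      (X : Matrix (Fin m) (Fin m) F) = 1 := by
    rw [← Matrix.GeneralLinearGroup.coe_mul, inv_mul_cancel]; rfl
  have hM : M ∈ Matrix.symplecticGroup (Fin m) F := by
    rw [SymplecticGroup.mem_iff]
    simp only [M, Matrix.J, fromBlocks_transpose, fromBlocks_multiply]
    simp [-Matrix.coe_units_inv]
    rw [← Matrix.transpose_mul, hXX, Matrix.transpose_one]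
  have hW : (⟨M, hM⟩ : Matrix.symplecticGroup (Fin m) F) ∈
      Cfsg.stabilizing (Cfsg.spToMat m F) (WW (F := F) m) := by
    intro v
    change (∀ i, v (Sum.inr i) = 0) ↔ ∀ i, (M *ᵥ v) (Sum.inr i) = 0
    have hMv : ∀ i, (M *ᵥ v) (Sum.inr i) =
        (((X⁻¹ : Matrix.GeneralLinearGroup (Fin m) F) : Matrix (Fin m) (Fin m) F)ᵀ *ᵥ
          (fun j => v (Sum.inr j))) i := by
      intro i
      simp [M, Matrix.mulVec, dotProduct, Fintype.sum_sum_type, fromBlocks]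
    constructor
    · intro h i
      rw [hMv]
      have : (fun j => v (Sum.inr j)) = 0 := funext h
      rw [this, Matrix.mulVec_zero]; rfl
    · intro h
      have h0 : ((X⁻¹ : Matrix.GeneralLinearGroup (Fin m) F) : Matrix (Fin m) (Fin m) F)ᵀ *ᵥ
          (fun j => v (Sum.inr j)) = 0 := by
        funext i
        rw [← hMv]; exact h i
      have := congrArg (fun x => (X : Matrix (Fin m) (Fin m) F)ᵀ *ᵥ x) h0
      simp only [Matrix.mulVec_mulVec, Matrix.mulVec_zero, ← Matrix.transpose_mul, hXX',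
        Matrix.transpose_one, Matrix.one_mulVec] at this
      exact fun i => congrFun this i
  have hU : (⟨M, hM⟩ : Matrix.symplecticGroup (Fin m) F) ∈
      Cfsg.stabilizing (Cfsg.spToMat m F) (UU (F := F) m) := by
    intro v
    change (∀ i, v (Sum.inl i) = 0) ↔ ∀ i, (M *ᵥ v) (Sum.inl i) = 0
    have hMv : ∀ i, (M *ᵥ v) (Sum.inl i) =
        ((X : Matrix (Fin m) (Fin m) F) *ᵥ (fun j => v (Sum.inl j))) i := by
      intro i
      simp [M, Matrix.mulVec, dotProduct, Fintype.sum_sum_type, fromBlocks]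
    constructor
    · intro h i
      rw [hMv]
      have : (fun j => v (Sum.inl j)) = 0 := funext h
      rw [this, Matrix.mulVec_zero]; rfl
    · intro h
      have h0 : (X : Matrix (Fin m) (Fin m) F) *ᵥ (fun j => v (Sum.inl j)) = 0 := by
        funext i
        rw [← hMv]; exact h i
      have := congrArg (fun x => ((X⁻¹ : Matrix.GeneralLinearGroup (Fin m) F) :
        Matrix (Fin m) (Fin m) F) *ᵥ x) h0
      simp only [Matrix.mulVec_mulVec, Matrix.mulVec_zero, hXX', Matrix.one_mulVec] at this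
      exact fun i => congrFun this i
  refine ⟨⟨⟨M, hM⟩, hW, hU⟩, ?_⟩
  apply Units.ext
  change M.toBlocks₁₁ = (X : Matrix (Fin m) (Fin m) F)
  simp [M]

theorem result {F : Type*} [Field F] (m : ℕ) : Nonempty (↥(Cfsg.stabilizing (Cfsg.spToMat m F) {v : Fin m ⊕ Fin m → F | ∀ i : Fin m, v (Sum.inr i) = 0} ⊓ Cfsg.stabilizing (Cfsg.spToMat m F) {v : Fin m ⊕ Fin m → F | ∀ i : Fin m, v (Sum.inl i) = 0}) ≃* Matrix.GeneralLinearGroup (Fin m) F) :=
  ⟨MulEquiv.ofBijective (MonoidHom.mk' (toGL (F := F) m) (toGL_mul m))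
    ⟨toGL_injective m, toGL_surjective m⟩⟩

end Cfsg.Agent.S0778
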