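import Cfsg.Statements.S0779
import Mathlib
import Cfsg.Agent.Lib.Helper5.Herm

set_option autoImplicit false
open Cfsg

namespace Cfsg.Agent.S0779

open Cfsg.Agent.Lib.Helper5.Herm Matrix in
/-- Unitary transvections: let |F| = q², h the standard Hermitian form Σ x_i y_i^q and v ≠ 0 with h(v, v) = 0. The linear map x ↦ x + c h(x, v) v is an isometry of h if and only if c = 0 or c^(q−1) = −1. -/
theorem result {F : Type*} [Field F] [Fintype F] {q : ℕ} (hF : Fintype.card F = q ^ 2) (n : ℕ) (v : Fin n → F) (hv : v ≠ 0) (hv0 : Cfsg.hermForm n F q v v = 0) (c : F) : (∀ x y : Fin n → F, Cfsg.hermForm n F q ((Cfsg.unitaryTransvection n q v c).mulVec x) ((Cfsg.unitaryTransvection n q v c).mulVec y) = Cfsg.hermForm n F q x y) ↔ (c = 0 ∨ c ^ (q - 1) = -1) := by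
  have hq1 := one_lt_q hF
  have hq0 : q ≠ 0 := by omega
  -- the key expansion
  have key : ∀ x y : Fin n → F,
      hermForm n F q (unitaryTransvection n q v c *ᵥ x) (unitaryTransvection n q v c *ᵥ y)
        = hermForm n F q x y + (c ^ q + c) * (hermForm n F q x v * hermForm n F q v y) := by
    intro x y
    rw [unitaryTransvection_mulVec, unitaryTransvection_mulVec]
    simp only [hermForm_add_left, hermForm_add_right hF, hermForm_smul_left, hermForm_smul_right,
      hv0, mul_zero, add_zero, mul_pow]
    rw [← hermForm_swap hF n v y]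
    ring
  have hcq : (c ^ q + c = 0) ↔ (c = 0 ∨ c ^ (q - 1) = -1) := by
    constructor
    · intro h
      by_cases hc : c = 0
      · exact Or.inl hc
      · right
        have h1 : c ^ (q - 1) * c = -1 * c := by
          rw [← pow_succ, Nat.sub_add_cancel (by omega)]
          linear_combination h
        exact mul_right_cancel₀ hc h1
    · rintro (rfl | h)
      · simp [hq0]
      · have : c ^ q = c ^ (q - 1) * c := by
          rw [← pow_succ, Nat.sub_add_cancel (by omega)]
        rw [this, h]
        ring
  rw [← hcq]
  constructor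
  · intro h
    obtain ⟨i, hi⟩ : ∃ i, v i ≠ 0 := by
      by_contra hcon
      push Not at hcon
      exact hv (funext hcon)
    have h1 := h (Pi.single i 1) (Pi.single i 1)
    rw [key] at h1
    simp only [hermForm_single_left, hermForm_single_right hq0] at h1
    have h2 : (c ^ q + c) * (v i ^ q * v i) = 0 := by
      have := h1
      rw [add_eq_left] at this
      exact this
    rcases mul_eq_zero.1 h2 with h3 | h3
    · exact h3
    · exfalso
      rcases mul_eq_zero.1 h3 with h4 | h4
      · exact hi (pow_eq_zero_iff hq0 |>.1 h4)
      · exact hi h4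
  · intro h x y
    rw [key, h, zero_mul, add_zero]

end Cfsg.Agent.S0779
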