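import Cfsg.Statements.S0782
import Mathlib
import Cfsg.Agent.Lib.Helper5.HermStab
import Cfsg.Agent.S0278

set_option autoImplicit false
open Cfsg

namespace Cfsg.Agent.S0782

open Matrix Cfsg.Agent.Lib.Helper5.Herm Cfsg.Agent.Lib.Helper5.HermCount
  Cfsg.Agent.Lib.Helper5.UnitaryCount Cfsg.Agent.Lib.Helper5.HermFrames
  Cfsg.Agent.Lib.Helper5.HermStab Cfsg.Agent.S0277

theorem sum_exp (k m : ℕ) :
    ∑ j ∈ Finset.range k, (4 * j + 2 * m + 1) = k * (k + 2 * m) + ∑ i ∈ Finset.range k, 2 * i := by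
  induction k with
  | zero => simp
  | succ k ih =>
    rw [Finset.sum_range_succ, Finset.sum_range_succ, ih]
    ring

theorem arith1 (q k m : ℕ) :
    ∏ j ∈ Finset.range k, ((q ^ (2 * (j + 1)) - 1) * q ^ (4 * j + 2 * m + 1)) =
      q ^ (k * (k + 2 * m)) * ∏ i ∈ Finset.range k, (q ^ (2 * k) - q ^ (2 * i)) := by
  have h1 : ∀ i ∈ Finset.range k, q ^ (2 * k) - q ^ (2 * i) =
      q ^ (2 * i) * (q ^ (2 * (k - 1 - i + 1)) - 1) := by
    intro i hi
    rw [Finset.mem_range] at hi
    rw [Nat.mul_sub, ← pow_add, mul_one]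
    congr 2
    omega
  rw [Finset.prod_congr rfl h1, Finset.prod_mul_distrib, Finset.prod_mul_distrib,
    Finset.prod_pow_eq_pow_sum, Finset.prod_pow_eq_pow_sum, sum_exp,
    Finset.prod_range_reflect (fun j => q ^ (2 * (j + 1)) - 1) k, pow_add]
  ring

theorem arith2 (q m : ℕ) (E : ℕ → ℕ) :
    ∏ i ∈ Finset.range m, (q ^ i * E i) =
      q ^ (m * (m - 1) / 2) * ∏ i ∈ Finset.range m, E i := by
  rw [Finset.prod_mul_distrib, Finset.prod_pow_eq_pow_sum, Finset.sum_range_id]


/-- Maximal parabolics of SU_n(q): if W is a k-dimensional subspace of F^n (n ≥ 1, |F| = q²) on which the Hermitian form vanishes, then (q + 1) times the order of its stabiliser in SU_n(q) equals q^(k(2n−3k)) · |GL_k(q²)| · |GU_(n−2k)(q)|, where |GU_m(q)| = q^(m(m−1)/2) Π_(i=1..m) (q^i − (−1)^i). -/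
theorem result {F : Type*} [Field F] [Fintype F] {q : ℕ} (hF : Fintype.card F = q ^ 2) (n k : ℕ) (hn : 1 ≤ n) (hk : 2 * k ≤ n) (W : Submodule F (Fin n → F)) (hWk : Module.finrank F W = k) (hW : ∀ u ∈ W, ∀ v ∈ W, Cfsg.hermForm n F q u v = 0) : (q + 1) * Nat.card ↥((Cfsg.stabilizing (Cfsg.slToMat n F) (W : Set (Fin n → F))).subgroupOf (Cfsg.SU n F q)) = q ^ (k * (2 * n - 3 * k)) * (∏ i : Fin k, ((q ^ 2) ^ k - (q ^ 2) ^ (i : ℕ))) * (q ^ ((n - 2 * k) * ((n - 2 * k) - 1) / 2) * ∏ i ∈ Finset.range (n - 2 * k), (if Even i then q ^ (i + 1) + 1 else q ^ (i + 1) - 1)) := by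
  classical
  have hq := one_lt_q hF
  rcases Nat.eq_zero_or_pos k with hk0 | hk1
  · subst hk0
    have hW0 : W = ⊥ := Submodule.finrank_eq_zero.1 hWk
    subst hW0
    have htop : (Cfsg.stabilizing (Cfsg.slToMat n F)
        (((⊥ : Submodule F (Fin n → F)) : Set (Fin n → F)))).subgroupOf (Cfsg.SU n F q) = ⊤ := by
      rw [eq_top_iff]
      intro s _
      rw [Subgroup.mem_subgroupOf]
      intro v
      change v ∈ (⊥ : Submodule F (Fin n → F)) ↔
        (s.1 : Matrix (Fin n) (Fin n) F) *ᵥ v ∈ (⊥ : Submodule F (Fin n → F))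
      rw [Submodule.mem_bot, Submodule.mem_bot]
      constructor
      · rintro rfl
        exact Matrix.mulVec_zero _
      · intro h
        have h2 : ((s.1⁻¹ : Matrix.SpecialLinearGroup (Fin n) F) : Matrix (Fin n) (Fin n) F) *ᵥ
            ((s.1 : Matrix (Fin n) (Fin n) F) *ᵥ v) = v := by
          rw [Matrix.mulVec_mulVec, ← Matrix.SpecialLinearGroup.coe_mul, inv_mul_cancel,
            Matrix.SpecialLinearGroup.coe_one, Matrix.one_mulVec]
        rw [← h2, h, Matrix.mulVec_zero]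
    rw [htop, Nat.card_congr (Subgroup.topEquiv (G := ↥(Cfsg.SU n F q))).toEquiv,
      Cfsg.Agent.S0278.result hF n hn]
    simp
  · obtain ⟨σ, hσ, hne, hσ2⟩ := exists_frob hF
    obtain ⟨m, rfl⟩ := Nat.exists_eq_add_of_le hk
    have hS := stdB_isSymm (2 * k + m) σ hσ2
    have hti : ∀ u ∈ W, ∀ v ∈ W, stdB (2 * k + m) σ u v = 0 := by
      intro u hu v hv
      rw [stdB_eq_hermForm _ σ hσ]
      exact hW v hv u hu
    have hcount := card_AF hF hσ hne hσ2 m k (Fin (2 * k + m) → F) (stdB (2 * k + m) σ) W hS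
      (stdB_sepLeft _ σ) (by simp) hWk hti
    have hU : ∀ i, unitCount σ (i + 1) =
        q ^ i * (if Even i then q ^ (i + 1) + 1 else q ^ (i + 1) - 1) :=
      fun i => (unitCount_eq hF σ hσ (i + 1)).trans (uz_formula hq i)
    have hpos : 0 < Nat.card (AF (stdB (2 * k + m) σ) W k m) := by
      rw [hcount]
      apply Nat.mul_pos
      · apply Finset.prod_pos
        intro j _
        apply Nat.mul_pos
        · have : 1 < q ^ (2 * (j + 1)) := Nat.one_lt_pow (by omega) hq
          omega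
        · positivity
      · apply Finset.prod_pos
        intro i _
        rw [hU]
        apply Nat.mul_pos (by positivity)
        split_ifs
        · positivity
        · have : 1 < q ^ (i + 1) := Nat.one_lt_pow (by omega) hq
          omega
    obtain ⟨x₀⟩ : Nonempty (AF (stdB (2 * k + m) σ) W k m) := by
      by_contra h
      rw [not_nonempty_iff] at h
      rw [Nat.card_of_isEmpty] at hpos
      exact lt_irrefl _ hpos
    rw [card_stab_SU hF hσ hne hσ2 hk1 rfl W hWk x₀, hcount,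
      Finset.prod_congr rfl (fun i _ => hU i)]
    have e1 : 2 * k + m - 2 * k = m := by omega
    have e2 : 2 * (2 * k + m) - 3 * k = k + 2 * m := by omega
    rw [e1, e2, arith1 q k m, arith2]
    rw [Fin.prod_univ_eq_prod_range (fun i => (q ^ 2) ^ k - (q ^ 2) ^ i) k]
    simp only [← pow_mul]

end Cfsg.Agent.S0782
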