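import Cfsg.Statements.S0786
import Mathlib
import Cfsg.Agent.H9.OrthP

set_option autoImplicit false
open Cfsg

namespace Cfsg.Agent.S0786

/-- Generation by reflections: if F is finite, Q is a quadratic form on F^n with non-degenerate polar form, and (|F|, n) ≠ (2, 4), then the isometry group of Q is generated by the reflections r_v, Q(v) ≠ 0. -/
theorem result {F : Type*} [Field F] [Fintype F] {n : ℕ} (Q : QuadraticForm F (Fin n → F)) (hQ : (QuadraticMap.polarBilin Q).Nondegenerate) (h : Fintype.card F ≠ 2 ∨ n ≠ 4) : Subgroup.closure {g : ↥(Cfsg.isometryGroup F ⇑Q) | ∃ v : Fin n → F, Q v ≠ 0 ∧ ((g : Matrix.GeneralLinearGroup (Fin n) F) : Matrix (Fin n) (Fin n) F) = Cfsg.reflectionMatrix ⇑Q v} = ⊤ := by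
  classical
  have hQ' := Cfsg.Agent.H9.Orth.isNondeg_of_quadraticForm Q hQ
  have h' : Fintype.card F ≠ 2 ∨ Fintype.card (Fin n) ≠ 4 := by
    rw [Fintype.card_fin]; exact h
  rw [eq_top_iff]
  intro g _
  have hg := Cfsg.Agent.H9.Orth.iso_le_RR hQ' h' g.2
  -- the reflections lie in the image of the closure
  have key : Cfsg.Agent.H9.Orth.RR hQ' ≤ Subgroup.map (Cfsg.isometryGroup F ⇑Q).subtype
      (Subgroup.closure {g : ↥(Cfsg.isometryGroup F ⇑Q) | ∃ v : Fin n → F, Q v ≠ 0 ∧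
        ((g : Matrix.GeneralLinearGroup (Fin n) F) : Matrix (Fin n) (Fin n) F) =
          Cfsg.reflectionMatrix ⇑Q v}) := by
    rw [Cfsg.Agent.H9.Orth.RR, Subgroup.closure_le]
    rintro g' ⟨x, rfl⟩
    by_cases hx : Q x ≠ 0
    · refine ⟨⟨Cfsg.Agent.H9.Orth.rf hQ' x, Cfsg.Agent.H9.Orth.rf_mem hQ' x⟩, ?_, rfl⟩
      apply Subgroup.subset_closure
      exact ⟨x, hx, (Cfsg.Agent.H9.Orth.reflectionMatrix_eq_rf hQ' x hx).symm⟩
    · rw [Cfsg.Agent.H9.Orth.rf_of_not hQ' x hx]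
      exact one_mem _
  obtain ⟨g', hg', hgg'⟩ := key hg
  have : g' = g := Subtype.ext hgg'
  rw [← this]
  exact hg'

end Cfsg.Agent.S0786
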