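import Cfsg.Statements.S0790
import Mathlib
import Cfsg.Agent.Lib.Helper5.Orth.SpinorPlus

set_option autoImplicit false
open Cfsg

namespace Cfsg.Agent.S0790

/-- −1 ∈ Ω⁺_2m(q) iff q^m ≡ 1 (mod 4), for q odd and m ≥ 1 (so that in the other case SO⁺_2m(q) = 2 × Ω⁺_2m(q)). -/
theorem result {F : Type*} [Field F] [Fintype F] {q : ℕ} (hF : Fintype.card F = q) (hodd : Odd q) (m : ℕ) (hm : 1 ≤ m) : (∃ g : ↥(Cfsg.isometryGroup F (Cfsg.quadFormPlus m F)), g ∈ Cfsg.Omega F (Cfsg.quadFormPlus m F) ∧ ((g : Matrix.GeneralLinearGroup (Fin m ⊕ Fin m) F) : Matrix (Fin m ⊕ Fin m) (Fin m ⊕ Fin m) F) = -1) ↔ q ^ m % 4 = 1 := by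
  subst hF
  have hd : Matrix.diagonal (Cfsg.Agent.Lib.Helper5.OrthSN.dP F m m) =
      (-1 : Matrix (Fin m ⊕ Fin m) (Fin m ⊕ Fin m) F) := by
    have : Cfsg.Agent.Lib.Helper5.OrthSN.dP F m m = fun _ => (-1 : F) := by
      funext k
      rcases k with j | j
      · rw [Cfsg.Agent.Lib.Helper5.OrthSN.dP_inl, if_pos j.2]
      · rw [Cfsg.Agent.Lib.Helper5.OrthSN.dP_inr, if_pos j.2]
    rw [this]
    ext a b
    by_cases h : a = b
    · subst h; simp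
    · simp [h]
  rw [← hd]
  exact Cfsg.Agent.Lib.Helper5.OrthSN.plus_diag_iff m hodd m le_rfl

end Cfsg.Agent.S0790
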