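import Cfsg.Statements.S0792
import Mathlib
import Cfsg.Agent.Lib.Helper5.CartanDieudonne
import Cfsg.Agent.Lib.Helper5.QForm
import Cfsg.Agent.S0784
import Cfsg.Agent.S0785

set_option autoImplicit false
open Cfsg

namespace Cfsg.Agent.S0792

open Matrix Cfsg.Agent.S0750 Cfsg.Agent.Lib.Helper5.CartanDieudonne Cfsg.Agent.Lib.Helper5.QForm

section
variable {F : Type*} [Field F] {n : ℕ} (Q : QuadraticForm F (Fin n → F))

theorem toLin_refl (w : Fin n → F) : Matrix.toLin' (reflectionMatrix (⇑Q) w) = refl Q w := by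
  apply LinearMap.ext
  intro x
  rw [Matrix.toLin'_apply, reflectionMatrix_mulVec, refl_apply, B_comm]
  rfl

/-- reflections as elements of the isometry group -/
noncomputable def R (w : Fin n → F) (hw : Q w ≠ 0) : Cfsg.isometryGroup F (⇑Q) :=
  ⟨Matrix.GeneralLinearGroup.mk'' (reflectionMatrix (⇑Q) w) (by
      rw [(Cfsg.Agent.S0784.result Q w hw).2.2.2]
      exact isUnit_one.neg), by
    rw [Cfsg.Agent.S0785.mem_isometryGroup_iff]
    exact (Cfsg.Agent.S0784.result Q w hw).1⟩

theorem R_coe (w : Fin n → F) (hw : Q w ≠ 0) :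
    ((R Q w hw : Matrix.GeneralLinearGroup (Fin n) F) : Matrix (Fin n) (Fin n) F) =
      reflectionMatrix (⇑Q) w := rfl

/-- the generating set -/
def gens : Set (Cfsg.isometryGroup F (⇑Q)) :=
  {g | ∃ u v : Fin n → F, Q u ≠ 0 ∧ Q v ≠ 0 ∧
    ((g : Matrix.GeneralLinearGroup (Fin n) F) : Matrix (Fin n) (Fin n) F) =
      Cfsg.reflectionMatrix (⇑Q) u * Cfsg.reflectionMatrix (⇑Q) v}

theorem coe_mul' (g h : Cfsg.isometryGroup F (⇑Q)) :
    (((g * h : Cfsg.isometryGroup F (⇑Q)) : Matrix.GeneralLinearGroup (Fin n) F) :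
      Matrix (Fin n) (Fin n) F) =
      ((g : Matrix.GeneralLinearGroup (Fin n) F) : Matrix (Fin n) (Fin n) F) *
        ((h : Matrix.GeneralLinearGroup (Fin n) F) : Matrix (Fin n) (Fin n) F) := rfl

theorem coe_one' :
    (((1 : Cfsg.isometryGroup F (⇑Q)) : Matrix.GeneralLinearGroup (Fin n) F) :
      Matrix (Fin n) (Fin n) F) = 1 := rfl

theorem ext_coe (g h : Cfsg.isometryGroup F (⇑Q))
    (H : ((g : Matrix.GeneralLinearGroup (Fin n) F) : Matrix (Fin n) (Fin n) F) =
      ((h : Matrix.GeneralLinearGroup (Fin n) F) : Matrix (Fin n) (Fin n) F)) : g = h :=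
  Subtype.ext (Units.ext H)

/-- an element whose matrix is a product of an even number of reflections is in the closure -/
theorem mem_closure_of_even : ∀ (k : ℕ) (L : List (Fin n → F)), L.length = 2 * k →
    (∀ w ∈ L, Q w ≠ 0) → ∀ g : Cfsg.isometryGroup F (⇑Q),
    ((g : Matrix.GeneralLinearGroup (Fin n) F) : Matrix (Fin n) (Fin n) F) =
      (L.map (reflectionMatrix (⇑Q))).prod → g ∈ Subgroup.closure (gens Q) := by
  intro k
  induction k with
  | zero =>
    intro L hL _ g hg
    have : L = [] := List.length_eq_zero_iff.1 (by omega)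
    subst this
    have : g = 1 := ext_coe Q g 1 (by rw [hg]; rfl)
    rw [this]
    exact one_mem _
  | succ k ih =>
    intro L hL hLQ g hg
    match L, hL, hLQ, hg with
    | a :: b :: L', hL, hLQ, hg =>
      have ha : Q a ≠ 0 := hLQ a (by simp)
      have hb : Q b ≠ 0 := hLQ b (by simp)
      have hg' : g = (R Q a ha * R Q b hb) * ((R Q a ha * R Q b hb)⁻¹ * g) := by group
      rw [hg']
      apply mul_mem
      · apply Subgroup.subset_closure
        exact ⟨a, b, ha, hb, rfl⟩
      · apply ih L' (by simp at hL; omega) (fun w hw => hLQ w (by simp [hw]))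
        have h1 : ((R Q a ha * R Q b hb : Cfsg.isometryGroup F (⇑Q)) :
            Matrix.GeneralLinearGroup (Fin n) F).1 *
            ((((R Q a ha * R Q b hb)⁻¹ * g : Cfsg.isometryGroup F (⇑Q)) :
              Matrix.GeneralLinearGroup (Fin n) F) : Matrix (Fin n) (Fin n) F) =
            ((g : Matrix.GeneralLinearGroup (Fin n) F) : Matrix (Fin n) (Fin n) F) := by
          rw [← coe_mul']
          congr 2
          group
        rw [hg, List.map_cons, List.prod_cons, List.map_cons, List.prod_cons, ← mul_assoc] at h1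
        have h2 : ((R Q a ha * R Q b hb : Cfsg.isometryGroup F (⇑Q)) :
            Matrix.GeneralLinearGroup (Fin n) F).1 =
            reflectionMatrix (⇑Q) a * reflectionMatrix (⇑Q) b := rfl
        rw [h2] at h1
        have hu : IsUnit (reflectionMatrix (⇑Q) a * reflectionMatrix (⇑Q) b) := by
          rw [← h2]
          exact Units.isUnit _
        exact hu.mul_left_cancel h1

end

theorem result {F : Type*} [Field F] [Fintype F] (h2 : (2 : F) ≠ 0) {n : ℕ} (Q : QuadraticForm F (Fin n → F)) (hQ : (QuadraticMap.polarBilin Q).Nondegenerate) : Cfsg.specialIsometryGroup F ⇑Q = Subgroup.closure {g : ↥(Cfsg.isometryGroup F ⇑Q) | ∃ u v : Fin n → F, Q u ≠ 0 ∧ Q v ≠ 0 ∧ ((g : Matrix.GeneralLinearGroup (Fin n) F) : Matrix (Fin n) (Fin n) F) = Cfsg.reflectionMatrix ⇑Q u * Cfsg.reflectionMatrix ⇑Q v} := by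
  change _ = Subgroup.closure (gens Q)
  apply le_antisymm
  · intro g hg
    have hdet : ((g : Matrix.GeneralLinearGroup (Fin n) F) : Matrix (Fin n) (Fin n) F).det = 1 := by
      have : Matrix.GeneralLinearGroup.det (g : Matrix.GeneralLinearGroup (Fin n) F) = 1 := hg
      have := congrArg Units.val this
      exact this
    have hiso : ∀ x, Q (Matrix.toLin' ((g : Matrix.GeneralLinearGroup (Fin n) F) :
        Matrix (Fin n) (Fin n) F) x) = Q x := by
      intro x
      rw [Matrix.toLin'_apply]
      exact (Cfsg.Agent.S0785.mem_isometryGroup_iff (⇑Q) g.1).1 g.2 x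
    obtain ⟨L, hL1, hL2⟩ := cartan_dieudonne h2 n (Fin n → F) Q hQ (by simp) _ hiso
    have hmat : ((g : Matrix.GeneralLinearGroup (Fin n) F) : Matrix (Fin n) (Fin n) F) =
        (L.map (reflectionMatrix (⇑Q))).prod := by
      apply (Matrix.toLinAlgEquiv' (R := F) (n := Fin n)).injective
      rw [map_list_prod, List.map_map]
      change Matrix.toLin' _ = _
      rw [hL2]
      congr 1
      apply List.map_congr_left
      intro w _
      exact (toLin_refl Q w).symm
    have hdetL : ∀ L : List (Fin n → F), (∀ w ∈ L, Q w ≠ 0) →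
        ((L.map (reflectionMatrix (⇑Q))).prod).det = (-1) ^ L.length := by
      intro L
      induction L with
      | nil => intro _; simp
      | cons a L ih =>
        intro hL
        rw [List.map_cons, List.prod_cons, Matrix.det_mul, ih (fun w hw => hL w (by simp [hw])),
          (Cfsg.Agent.S0784.result Q a (hL a (by simp))).2.2.2, List.length_cons, pow_succ]
        ring
    rw [hmat, hdetL L hL1] at hdet
    have heven : Even L.length := by
      by_contra hodd
      rw [Nat.not_even_iff_odd] at hodd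
      rw [hodd.neg_one_pow] at hdet
      apply h2
      linear_combination -hdet
    obtain ⟨k, hk⟩ := heven
    exact mem_closure_of_even Q k L (by omega) hL1 g hmat
  · rw [Subgroup.closure_le]
    rintro g ⟨u, v, hu, hv, hg⟩
    change Matrix.GeneralLinearGroup.det (g : Matrix.GeneralLinearGroup (Fin n) F) = 1
    apply Units.ext
    change ((g : Matrix.GeneralLinearGroup (Fin n) F) : Matrix (Fin n) (Fin n) F).det = 1
    rw [hg, Matrix.det_mul, (Cfsg.Agent.S0784.result Q u hu).2.2.2,
      (Cfsg.Agent.S0784.result Q v hv).2.2.2]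
    ring

end Cfsg.Agent.S0792
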