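import Cfsg.Statements.S0793
import Mathlib
import Cfsg.Agent.Lib.Helper5.QForm

set_option autoImplicit false
open Cfsg

namespace Cfsg.Agent.S0793

open Cfsg.Agent.Lib.Helper5.QForm QuadraticMap Matrix in
/-- Root elements: if Q(u) = Q(v) = 0 and f(u, v) = 0 (f the polar form), then for every c the Siegel matrix T_(u,v)(c) preserves Q, fixes u and v, and T(c) T(d) = T(c + d). -/
theorem result {F : Type*} [Field F] {n : ℕ} (Q : QuadraticForm F (Fin n → F)) (u v : Fin n → F) (hu : Q u = 0) (hv : Q v = 0) (huv : QuadraticMap.polar ⇑Q u v = 0) : (∀ c x, Q ((Cfsg.siegelMatrix ⇑Q u v c).mulVec x) = Q x) ∧ (∀ c, (Cfsg.siegelMatrix ⇑Q u v c).mulVec u = u ∧ (Cfsg.siegelMatrix ⇑Q u v c).mulVec v = v) ∧ ∀ c d, Cfsg.siegelMatrix ⇑Q u v c * Cfsg.siegelMatrix ⇑Q u v d = Cfsg.siegelMatrix ⇑Q u v (c + d) := by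
  have hvu : polar (⇑Q) v u = 0 := by rw [polar_comm]; exact huv
  have huu : polar (⇑Q) u u = 0 := by rw [polar_self, hu, smul_zero]
  have hvv : polar (⇑Q) v v = 0 := by rw [polar_self, hv, smul_zero]
  have hform : ∀ (c : F) (x : Fin n → F), siegelMatrix (⇑Q) u v c *ᵥ x =
      x + ((c * polar (⇑Q) u x) • v + (-(c * polar (⇑Q) v x)) • u) := by
    intro c x
    rw [siegelMatrix_mulVec]
    module
  refine ⟨?_, ?_, ?_⟩
  · intro c x
    rw [hform, QuadraticMap.map_add (⇑Q) x, QuadraticMap.map_add (⇑Q) ((c * polar (⇑Q) u x) • v),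
      QuadraticMap.map_smul, QuadraticMap.map_smul, hu, hv]
    simp only [polar_add_right, polar_smul_right, polar_smul_left, smul_eq_mul,
      hvu, mul_zero, add_zero]
    rw [polar_comm (⇑Q) x u, polar_comm (⇑Q) x v]
    ring
  · intro c
    constructor
    · rw [siegelMatrix_mulVec, huu, hvu]
      simp
    · rw [siegelMatrix_mulVec, huv, hvv]
      simp
  · intro c d
    rw [Matrix.ext_iff_mulVec]
    intro x
    rw [← Matrix.mulVec_mulVec, siegelMatrix_mulVec, siegelMatrix_mulVec, siegelMatrix_mulVec]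
    simp only [polar_add_right, polar_smul_right, polar_sub_right, huu, huv, hvu, hvv, smul_eq_mul,
      mul_zero, sub_zero, add_zero]
    module

end Cfsg.Agent.S0793
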