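import Cfsg.Statements.S0794
import Mathlib
import Cfsg.Agent.S5631
import Cfsg.Agent.Lib.Helper4.OrthE

set_option autoImplicit false
open Cfsg
open scoped commutatorElement

namespace Cfsg.Agent.S0794

open Matrix Cfsg.Agent.S5631 Cfsg.Agent.Lib.Helper4.Orth

/-- For q odd, n ≥ 5 and Q with non-degenerate polar form: an isometry whose matrix is a Siegel transformation T_(u,v)(c) (u, v singular and orthogonal) is a commutator in the isometry group, so lies in Ω. -/
theorem result {F : Type*} [Field F] [Fintype F] (h2 : (2 : F) ≠ 0) {n : ℕ} (hn : 5 ≤ n) (Q : QuadraticForm F (Fin n → F)) (hQ : (QuadraticMap.polarBilin Q).Nondegenerate) (u v : Fin n → F) (hu : Q u = 0) (hv : Q v = 0) (huv : QuadraticMap.polar ⇑Q u v = 0) (c : F) (g : ↥(Cfsg.isometryGroup F ⇑Q)) (hg : ((g : Matrix.GeneralLinearGroup (Fin n) F) : Matrix (Fin n) (Fin n) F) = Cfsg.siegelMatrix ⇑Q u v c) : g ∈ commutatorSet ↥(Cfsg.isometryGroup F ⇑Q) ∧ g ∈ Cfsg.Omega F ⇑Q := by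
  classical
  have hQ' := nondeg_of_quadraticForm Q hQ
  have hu' : (⇑Q) u = 0 := hu
  have hv' : (⇑Q) v = 0 := hv
  have huv' : pol (⇑Q) u v = 0 := huv
  suffices hcomm : g ∈ commutatorSet ↥(Cfsg.isometryGroup F ⇑Q) by
    refine ⟨hcomm, ?_⟩
    rw [Cfsg.Omega, commutator_eq_closure]
    exact Subgroup.subset_closure hcomm
  have hgx : ∀ x, ((g : GL (Fin n) F) : Matrix (Fin n) (Fin n) F) *ᵥ x =
      x + c • (pol (⇑Q) x u • v - pol (⇑Q) x v • u) := fun x => by
    rw [hg, siegelMatrix_mulVec hQ']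
  by_cases hdep : u ∈ Submodule.span F {v}
  · obtain ⟨μ, rfl⟩ := Submodule.mem_span_singleton.1 hdep
    have hg1 : g = 1 := by
      apply Subtype.ext
      apply gl_ext
      intro x
      rw [hgx, pol_smul_right hQ']
      show _ = ((1 : GL (Fin n) F) : Matrix (Fin n) (Fin n) F) *ᵥ x
      rw [Units.val_one, Matrix.one_mulVec]
      module
    rw [hg1]
    exact ⟨1, 1, commutatorElement_one_right 1⟩
  · obtain ⟨y, hy1, hy2⟩ := exists_pol_eq_one hQ' _ u hdep
    have hyv : pol (⇑Q) y v = 0 := hy2 v (Submodule.mem_span_singleton_self v)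
    set us := y + (-Q y) • u with hus
    have hqus : (⇑Q) us = 0 := by rw [hus, Q_add_smul hQ', hu', hy1]; ring
    have huus : pol (⇑Q) u us = 1 := by
      rw [hus, pol_add_right hQ', pol_smul_right hQ', pol_self hQ', hu', pol_comm, hy1]; ring
    have husv : pol (⇑Q) us v = 0 := by
      rw [hus, pol_add_left hQ', pol_smul_left hQ', hyv, huv']; ring
    have h22 : (2 : F) * 2⁻¹ = 1 := mul_inv_cancel₀ h2
    have haM : rot hQ' u us hu' hqus huus 2 2⁻¹ h22 ∈ Cfsg.isometryGroup F ⇑Q := by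
      intro x _
      exact rot_Q hQ' u us hu' hqus huus 2 2⁻¹ h22 x
    set a : ↥(Cfsg.isometryGroup F ⇑Q) := ⟨rot hQ' u us hu' hqus huus 2 2⁻¹ h22, haM⟩ with ha
    have key : a * g = g * g * a := by
      apply Subtype.ext
      apply gl_ext
      intro x
      rw [Subgroup.coe_mul, Subgroup.coe_mul, Subgroup.coe_mul, mul_mulVec, mul_mulVec, mul_mulVec]
      show ((rot hQ' u us hu' hqus huus 2 2⁻¹ h22 : GL (Fin n) F) : Matrix (Fin n) (Fin n) F) *ᵥ _ =
        _ *ᵥ (_ *ᵥ (((rot hQ' u us hu' hqus huus 2 2⁻¹ h22 : GL (Fin n) F) :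
          Matrix (Fin n) (Fin n) F) *ᵥ x))
      rw [hgx, hgx, hgx, rot_mulVec, rot_mulVec]
      simp only [pol_add_left hQ', pol_sub_left hQ', pol_smul_left hQ']
      have e1 : pol (⇑Q) u u = 0 := by rw [pol_self hQ', hu', mul_zero]
      have e2 : pol (⇑Q) v v = 0 := by rw [pol_self hQ', hv', mul_zero]
      have e3 : pol (⇑Q) us us = 0 := by rw [pol_self hQ', hqus, mul_zero]
      have e4 : pol (⇑Q) v u = 0 := by rw [pol_comm, huv']
      have e5 : pol (⇑Q) us u = 1 := by rw [pol_comm, huus]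
      have e6 : pol (⇑Q) v us = 0 := by rw [pol_comm, husv]
      simp only [e1, e2, e4, e5, e6, huv', huus, husv]
      match_scalars
      all_goals first
        | ring1
        | linear_combination (-(c * pol (⇑Q) x u)) * h22
        | linear_combination (c * pol (⇑Q) x u) * h22
    refine ⟨a, g, ?_⟩
    rw [commutatorElement_def, key]
    group

end Cfsg.Agent.S0794
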