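import Cfsg.Statements.S0795
import Mathlib
import Cfsg.Agent.H9.OrthH
import Cfsg.Agent.S0794

set_option autoImplicit false
open Cfsg

namespace Cfsg.Agent.S0795

/-- Generation of Ω by root elements: for q odd, n ≥ 5 and Q with non-degenerate polar form on F^n, the commutator subgroup of the isometry group equals the subgroup generated by the isometries whose matrices are Siegel transformations T_(u,v)(c) with u, v singular and orthogonal. -/
theorem result {F : Type*} [Field F] [Fintype F] (h2 : (2 : F) ≠ 0) {n : ℕ} (hn : 5 ≤ n) (Q : QuadraticForm F (Fin n → F)) (hQ : (QuadraticMap.polarBilin Q).Nondegenerate) : Cfsg.Omega F ⇑Q = Subgroup.closure {g : ↥(Cfsg.isometryGroup F ⇑Q) | ∃ (u v : Fin n → F) (c : F), Q u = 0 ∧ Q v = 0 ∧ QuadraticMap.polar ⇑Q u v = 0 ∧ ((g : Matrix.GeneralLinearGroup (Fin n) F) : Matrix (Fin n) (Fin n) F) = Cfsg.siegelMatrix ⇑Q u v c} := by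
  classical
  have hQ' := Cfsg.Agent.H9.Orth.isNondeg_of_quadraticForm Q hQ
  have hn' : 5 ≤ Fintype.card (Fin n) := by rw [Fintype.card_fin]; exact hn
  apply Subgroup.map_injective (Cfsg.isometryGroup F ⇑Q).subtype_injective
  rw [show Cfsg.Omega F ⇑Q = _root_.commutator ↥(Cfsg.isometryGroup F ⇑Q) from rfl,
    Subgroup.map_subtype_commutator, MonoidHom.map_closure]
  apply le_antisymm
  · -- the commutator subgroup lies in the group generated by the Siegel elements
    refine (Cfsg.Agent.H9.Orth.commutator_le_NN hQ' hn').trans ?_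
    rw [Cfsg.Agent.H9.Orth.NN, Subgroup.closure_le]
    rintro g ⟨u, w, hu, hw, huw, rfl⟩
    apply Subgroup.subset_closure
    refine ⟨⟨Cfsg.Agent.H9.Orth.sg hQ' u w, Cfsg.Agent.H9.Orth.sg_mem hQ' u w⟩, ?_, rfl⟩
    exact ⟨u, w, -1, hu, hw, huw, Cfsg.Agent.H9.Orth.sg_eq_siegelMatrix hQ' u w hu hw huw⟩
  · rw [Subgroup.closure_le]
    rintro g ⟨g', ⟨u, v, c, hu, hv, huv, hg'⟩, rfl⟩
    have h := (Cfsg.Agent.S0794.result h2 hn Q hQ u v hu hv huv c g' hg').2
    rw [← Subgroup.map_subtype_commutator]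
    exact ⟨g', h, rfl⟩

end Cfsg.Agent.S0795
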