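import Cfsg.Statements.S0796
import Mathlib

set_option autoImplicit false
open Cfsg

namespace Cfsg.Agent.S0796

theorem result {G X : Type*} [Group G] [Finite G] [MulAction G X] [FaithfulSMul G X] (hprim : MulAction.IsPreprimitive G X) (x : X) (A : Subgroup G) (hA : A ≤ MulAction.stabilizer G x) (hAn : (A.subgroupOf (MulAction.stabilizer G x)).Normal) (hgen : Subgroup.normalClosure (A : Set G) = ⊤) (K : Subgroup G) [K.Normal] (hK : K ≠ ⊥) : ∃ (B : Subgroup A) (_ : B.Normal), Nonempty (G ⧸ K ≃* A ⧸ B) := by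
  have hKX : MulAction.fixedPoints K X ≠ Set.univ := by
    intro h
    apply hK
    rw [Subgroup.eq_bot_iff_forall]
    intro n hn
    apply FaithfulSMul.eq_of_smul_eq_smul (α := X)
    intro y
    rw [one_smul]
    exact Set.eq_univ_iff_forall.mp h y ⟨n, hn⟩
  have htr : MulAction.IsPretransitive K X :=
    MulAction.IsQuasiPreprimitive.isPretransitive_of_normal hKX
  have hKH : ∀ g : G, ∃ k ∈ K, ∃ h ∈ MulAction.stabilizer G x, g = k * h := by
    intro g
    obtain ⟨k, hk⟩ := MulAction.exists_smul_eq K x (g • x)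
    refine ⟨k, k.2, (k : G)⁻¹ * g, ?_, by group⟩
    rw [MulAction.mem_stabilizer_iff, mul_smul, ← hk, Subgroup.smul_def, inv_smul_smul]
  have hconjA : ∀ h ∈ MulAction.stabilizer G x, ∀ a ∈ A, h * a * h⁻¹ ∈ A := by
    intro h hh a ha
    have := hAn.conj_mem ⟨a, hA ha⟩ (Subgroup.mem_subgroupOf.2 ha) ⟨h, hh⟩
    rw [Subgroup.mem_subgroupOf] at this
    simpa using this
  have hnorm : (K ⊔ A).Normal := by
    constructor
    intro n hn g
    obtain ⟨k, hk, h, hh, rfl⟩ := hKH g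
    have h1 : h * n * h⁻¹ ∈ K ⊔ A := by
      have hn' : n ∈ ((K ⊔ A : Subgroup G) : Set G) := hn
      rw [Subgroup.normal_mul] at hn'
      obtain ⟨k', hk', a, ha, rfl⟩ := Set.mem_mul.1 hn'
      have e : h * (k' * a) * h⁻¹ = (h * k' * h⁻¹) * (h * a * h⁻¹) := by group
      rw [e]
      exact Subgroup.mul_mem _ (Subgroup.mem_sup_left (Subgroup.Normal.conj_mem inferInstance k' hk' h))
        (Subgroup.mem_sup_right (hconjA h hh a ha))
    have e2 : k * h * n * (k * h)⁻¹ = k * (h * n * h⁻¹) * k⁻¹ := by group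
    rw [e2]
    have hk' : k ∈ K ⊔ A := Subgroup.mem_sup_left hk
    exact Subgroup.mul_mem _ (Subgroup.mul_mem _ hk' h1) (Subgroup.inv_mem _ hk')
  have htop : K ⊔ A = ⊤ := by
    have h1 : (A : Set G) ⊆ ((K ⊔ A : Subgroup G) : Set G) := fun a ha => Subgroup.mem_sup_right ha
    have := Subgroup.normalClosure_le_normal (N := K ⊔ A) h1
    rw [hgen] at this
    exact top_le_iff.1 this
  let φ : A →* G ⧸ K := (QuotientGroup.mk' K).comp A.subtype
  have hsurj : Function.Surjective φ := by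
    intro q
    obtain ⟨g, rfl⟩ := QuotientGroup.mk_surjective q
    have hg : g ∈ ((K ⊔ A : Subgroup G) : Set G) := by rw [htop]; trivial
    rw [Subgroup.normal_mul] at hg
    obtain ⟨k, hk, a, ha, rfl⟩ := Set.mem_mul.1 hg
    refine ⟨⟨a, ha⟩, ?_⟩
    change (QuotientGroup.mk a : G ⧸ K) = QuotientGroup.mk (k * a)
    rw [QuotientGroup.eq]
    have : a⁻¹ * (k * a) = a⁻¹ * k * a⁻¹⁻¹ := by group
    rw [this]
    exact Subgroup.Normal.conj_mem inferInstance k hk a⁻¹
  exact ⟨φ.ker, φ.normal_ker, ⟨(QuotientGroup.quotientKerEquivOfSurjective φ hsurj).symm⟩⟩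

end Cfsg.Agent.S0796
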