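import Cfsg.Statements.S0801
import Cfsg.Agent.H9.TwoTransv2

set_option autoImplicit false
open Cfsg

namespace Cfsg.Agent.S0801

/-- Let F be a finite field of odd characteristic and λ ≠ 0 an element generating F as a field. Then the lower and upper unitriangular matrices with off-diagonal entries 1 and λ generate SL_2(F), unless |F| = 9 and λ² = −1, in which case they generate a subgroup of order 120. -/
theorem result {F : Type*} [Field F] [Fintype F] (h2 : (2 : F) ≠ 0) (lam : F) (hlam : lam ≠ 0) (hgen : Subfield.closure ({lam} : Set F) = ⊤) : (Subgroup.closure {g : Matrix.SpecialLinearGroup (Fin 2) F | (g : Matrix (Fin 2) (Fin 2) F) = !![1, 0; 1, 1] ∨ (g : Matrix (Fin 2) (Fin 2) F) = !![1, lam; 0, 1]} = ⊤ ∧ ¬ (Fintype.card F = 9 ∧ lam ^ 2 = -1)) ∨ (Fintype.card F = 9 ∧ lam ^ 2 = -1 ∧ Nat.card ↥(Subgroup.closure {g : Matrix.SpecialLinearGroup (Fin 2) F | (g : Matrix (Fin 2) (Fin 2) F) = !![1, 0; 1, 1] ∨ (g : Matrix (Fin 2) (Fin 2) F) = !![1, lam;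 0, 1]}) = 120) := by
  classical
  obtain ⟨p, hpc⟩ := CharP.exists F
  haveI := hpc
  have hpp : p.Prime := CharP.char_is_prime F p
  haveI : Fact p.Prime := ⟨hpp⟩
  have hp : p ≠ 2 := by
    rintro rfl
    apply h2
    have := CharP.cast_eq_zero F 2
    exact_mod_cast this
  have h3of9 : Fintype.card F = 9 → (3 : F) = 0 := by
    intro h9
    obtain ⟨f, -, hf⟩ := FiniteField.card F p
    have hdvd : p ∣ 9 := by rw [← h9, hf]; exact dvd_pow_self p (PNat.ne_zero f)
    have h9' : (9 : ℕ) = 3 ^ 2 := by norm_num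
    rw [h9'] at hdvd
    have hp3 : p = 3 := (Nat.prime_dvd_prime_iff_eq hpp Nat.prime_three).1 (hpp.dvd_of_dvd_pow hdvd)
    have := CharP.cast_eq_zero F p
    rw [hp3] at this
    exact_mod_cast this
  have hset : {g : Matrix.SpecialLinearGroup (Fin 2) F |
      (g : Matrix (Fin 2) (Fin 2) F) = !![1, 0; 1, 1] ∨
        (g : Matrix (Fin 2) (Fin 2) F) = !![1, lam; 0, 1]} =
      ({Cfsg.Agent.H9.AutPSL2.l 1, Cfsg.Agent.H9.AutPSL2.u lam} :
        Set (Matrix.SpecialLinearGroup (Fin 2) F)) := by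
    ext g
    simp only [Set.mem_ofPred_eq, Set.mem_insert_iff, Set.mem_singleton_iff]
    constructor
    · rintro (h | h)
      · left; exact Subtype.ext h
      · right; exact Subtype.ext h
    · rintro (h | h)
      · left; rw [h]; rfl
      · right; rw [h]; rfl
  rw [hset]
  set L := Subgroup.closure ({Cfsg.Agent.H9.AutPSL2.l 1, Cfsg.Agent.H9.AutPSL2.u lam} :
    Set (Matrix.SpecialLinearGroup (Fin 2) F)) with hL
  have hlL : Cfsg.Agent.H9.AutPSL2.l 1 ∈ L := Subgroup.subset_closure (by simp)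
  have huL : Cfsg.Agent.H9.AutPSL2.u lam ∈ L := Subgroup.subset_closure (by simp)
  rcases Cfsg.Agent.H9.TwoTransv.analysis p hp lam hlam hgen L hlL huL with htop | ⟨h9, ⟨e⟩⟩
  · left
    have hLtop := Cfsg.Agent.H9.TwoTransv.eq_top_of_map p hp L htop
    refine ⟨hLtop, ?_⟩
    rintro ⟨h9, hl⟩
    exact Cfsg.Agent.H9.TwoTransv.closure_ne_top (h3of9 h9) lam hl hLtop
  · right
    exact ⟨h9, Cfsg.Agent.H9.TwoTransv.exc_lam (h3of9 h9) h9 lam hgen L hlL huL e,
      Cfsg.Agent.H9.TwoTransv.exc_card h2 h9 L e⟩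

end Cfsg.Agent.S0801
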