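import Cfsg.Statements.S0802
import Mathlib
import Cfsg.Agent.H9.A4inPSL2
import Cfsg.Agent.H9.A4Char2B

set_option autoImplicit false
open Cfsg

namespace Cfsg.Agent.S0802

/-- PSL_2(p^n) has a subgroup isomorphic to A_4 if and only if it is not the case that p = 2 and n is odd. -/
theorem result {F : Type*} [Field F] [Fintype F] (p n : ℕ) [Fact p.Prime] [CharP F p] (hF : Fintype.card F = p ^ n) : (∃ H : Subgroup (Matrix.ProjectiveSpecialLinearGroup (Fin 2) F), Nonempty (H ≃* alternatingGroup (Fin 4))) ↔ ¬ (p = 2 ∧ Odd n) := by
  classical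
  have hpp : p.Prime := Fact.out
  constructor
  · rintro hex ⟨hp, hn⟩
    subst hp
    have h2 : (2 : F) = 0 := by
      have := CharP.cast_eq_zero F 2
      exact_mod_cast this
    have hmod : 2 ^ n % 3 = 2 := by
      obtain ⟨k, rfl⟩ := hn
      rw [pow_succ, pow_mul, Nat.mul_mod, Nat.pow_mod]
      norm_num
    have h3 : ∀ c : F, c ^ 3 = 1 → c = 1 := by
      intro c hc
      have hc0 : c ≠ 0 := by
        rintro rfl
        simp at hc
      have h1 := FiniteField.pow_card_sub_one_eq_one c hc0
      rw [hF] at h1
      have hd1 := orderOf_dvd_of_pow_eq_one hc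
      have hd2 := orderOf_dvd_of_pow_eq_one h1
      have hcop : Nat.Coprime 3 (2 ^ n - 1) := by
        rw [Nat.Prime.coprime_iff_not_dvd Nat.prime_three]
        have hpos : 0 < 2 ^ n := by positivity
        omega
      have := Nat.dvd_gcd hd1 hd2
      rw [hcop.gcd_eq_one, Nat.dvd_one] at this
      exact orderOf_eq_one_iff.1 this
    exact Cfsg.Agent.H9.A4Char2.no_A4 h2 h3 hex
  · intro hnot
    by_cases hp : p = 2
    · subst hp
      have hn : Even n := by
        rw [← Nat.not_odd_iff_even]
        intro h
        exact hnot ⟨rfl, h⟩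
      have h2 : (2 : F) = 0 := by
        have := CharP.cast_eq_zero F 2
        exact_mod_cast this
      have hdvd : 3 ∣ Fintype.card Fˣ := by
        rw [Fintype.card_units, hF]
        obtain ⟨k, rfl⟩ := hn
        have h4 : 2 ^ (k + k) % 3 = 1 := by
          rw [← two_mul, pow_mul, Nat.pow_mod]
          norm_num
        have hpos : 0 < 2 ^ (k + k) := by positivity
        omega
      haveI : Fact (Nat.Prime 3) := ⟨Nat.prime_three⟩
      obtain ⟨x, hx⟩ := exists_prime_orderOf_dvd_card 3 hdvd
      have hx3 : (x : F) ^ 3 = 1 := by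
        have : x ^ 3 = 1 := by rw [← hx]; exact pow_orderOf_eq_one x
        have := congrArg Units.val this
        simpa using this
      have hx1 : (x : F) ≠ 1 := by
        intro h
        have : x = 1 := Units.ext h
        rw [this, orderOf_one] at hx
        omega
      have hω : (x : F) ^ 2 + (x : F) + 1 = 0 := by
        have : ((x : F) - 1) * ((x : F) ^ 2 + (x : F) + 1) = 0 := by linear_combination hx3
        rcases mul_eq_zero.1 this with h | h
        · exact absurd (sub_eq_zero.1 h) hx1
        · exact h
      exact Cfsg.Agent.H9.A4Char2.exists_A4_even h2 (x : F) hω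
    · have hodd : Odd (Fintype.card F) := by
        rw [hF]
        apply Odd.pow
        rcases hpp.eq_two_or_odd' with h | h
        · exact absurd h hp
        · exact h
      exact Cfsg.Agent.H9.A4inPSL2.exists_A4_odd hodd

end Cfsg.Agent.S0802
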