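import Cfsg.Statements.S0803
import Mathlib
import Cfsg.Agent.H9.S4inPSL2

set_option autoImplicit false
open Cfsg

namespace Cfsg.Agent.S0803

open Cfsg.Agent.H9.AutPSL2 (pr pr_surjective) in
/-- in characteristic two, elements of `PSL₂` of order dividing four have order dividing two -/
theorem sq_of_pow_four {F : Type*} [Field F] [Fintype F] (h2 : (2 : F) = 0)
    (x : Matrix.ProjectiveSpecialLinearGroup (Fin 2) F) (hx : x ^ 4 = 1) : x ^ 2 = 1 := by
  obtain ⟨g, rfl⟩ := pr_surjective x
  have hneg : (-1 : Matrix.SpecialLinearGroup (Fin 2) F) = 1 := by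
    apply Subtype.ext
    rw [Cfsg.Agent.H9.KleinPSL2.neg_one_val]
    have : (-1 : F) = 1 := by linear_combination -h2
    ext i j
    fin_cases i <;> fin_cases j <;> simp [this]
  rw [← map_pow, Cfsg.Agent.H9.KleinPSL2.pr_eq_one_iff, hneg, or_self] at hx
  rw [← map_pow]
  suffices h : g ^ 2 = 1 by rw [h, map_one]
  have hM4 : g.1 * g.1 * (g.1 * g.1) = 1 := by
    have := congrArg Subtype.val hx
    have e4 : g ^ 4 = g * g * (g * g) := by
      rw [show (4 : ℕ) = 2 + 2 by norm_num, pow_add, pow_two]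
    rw [e4] at this
    exact this
  have hch := Cfsg.Agent.H9.Q8GL2.cayley_hamilton g.1
  rw [g.2, one_smul] at hch
  have h2M : ∀ A : Matrix (Fin 2) (Fin 2) F, A + A = 0 := by
    intro A
    rw [← two_smul F A, h2, zero_smul]
  have hneg1 : (-1 : Matrix (Fin 2) (Fin 2) F) = 1 := by
    have := h2M 1
    exact (eq_neg_of_add_eq_zero_left this).symm
  by_cases hτ : g.1.trace = 0
  · rw [hτ, zero_smul, zero_sub, hneg1] at hch
    rw [pow_two]
    exact Subtype.ext hch
  · exfalso
    set τ := g.1.trace with hτdef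
    have hsub : ∀ A : Matrix (Fin 2) (Fin 2) F, A - 1 = A + 1 := by
      intro A
      rw [sub_eq_add_neg, hneg1]
    rw [hsub] at hch
    have e1 : g.1 * g.1 * (g.1 * g.1) = (τ * τ) • (g.1 * g.1) + 1 := by
      calc g.1 * g.1 * (g.1 * g.1) = (τ • g.1 + 1) * (τ • g.1 + 1) := by rw [← hch]
        _ = (τ • g.1) * (τ • g.1) + (τ • g.1 + τ • g.1) + 1 := by
          have gen : ∀ a : Matrix (Fin 2) (Fin 2) F, (a + 1) * (a + 1) = a * a + (a + a) + 1 := by
            intro a
            noncomm_ring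
          exact gen _
        _ = (τ * τ) • (g.1 * g.1) + 1 := by
          rw [h2M, add_zero, Matrix.smul_mul, Matrix.mul_smul, smul_smul]
    rw [hM4, hch] at e1
    have e2 : (τ * τ) • (τ • g.1 + 1) = 0 := by
      have : (τ * τ) • (τ • g.1 + 1) + 1 = 0 + 1 := by rw [zero_add]; exact e1.symm
      exact add_right_cancel this
    have hτ2 : τ * τ ≠ 0 := mul_ne_zero hτ hτ
    have e3 : τ • g.1 + 1 = 0 := by
      rcases smul_eq_zero.1 e2 with h | h
      · exact absurd h hτ2
      · exact h
    have e4 := congrArg Matrix.trace e3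
    rw [Matrix.trace_add, Matrix.trace_smul, Matrix.trace_one, Matrix.trace_zero, Fintype.card_fin,
      smul_eq_mul] at e4
    have : ((2 : ℕ) : F) = 0 := by exact_mod_cast h2
    rw [this, add_zero] at e4
    exact hτ2 e4

theorem mod_lemma (q : ℕ) (h : q ^ 2 % 16 = 1) : q % 8 = 1 ∨ q % 8 = 7 := by
  rw [Nat.pow_mod] at h
  have hlt : q % 16 < 16 := Nat.mod_lt _ (by norm_num)
  have h8 : q % 8 = (q % 16) % 8 := by omega
  rw [h8]
  revert h
  generalize q % 16 = m at hlt ⊢
  interval_cases m <;> simp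

theorem mod_lemma' (q : ℕ) (hq : q % 2 = 1) (h : 16 ∣ q * (q - 1) * (q + 1)) : q ^ 2 % 16 = 1 := by
  have key : ∀ x : ZMod 16, x * (x - 1) * (x + 1) = 0 → x.val % 2 = 1 → x ^ 2 = 1 := by decide
  have h1 : ((q * (q - 1) * (q + 1) : ℕ) : ZMod 16) = 0 := (ZMod.natCast_eq_zero_iff _ _).2 h
  have hq1 : 1 ≤ q := by omega
  rw [Nat.cast_mul, Nat.cast_mul, Nat.cast_sub hq1, Nat.cast_add, Nat.cast_one] at h1
  have h2 := key (q : ZMod 16) h1 (by rw [ZMod.val_natCast]; omega)
  have h3 : ((q ^ 2 : ℕ) : ZMod 16) = ((1 : ℕ) : ZMod 16) := by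
    rw [Nat.cast_pow, h2, Nat.cast_one]
  have := (ZMod.natCast_eq_natCast_iff' _ _ _).1 h3
  omega

/-- PSL_2(q) has a subgroup isomorphic to S_4 iff q² ≡ 1 (mod 16). -/
theorem result {F : Type*} [Field F] [Fintype F] {q : ℕ} (hF : Fintype.card F = q) : (∃ H : Subgroup (Matrix.ProjectiveSpecialLinearGroup (Fin 2) F), Nonempty (H ≃* Equiv.Perm (Fin 4))) ↔ q ^ 2 % 16 = 1 := by
  subst hF
  constructor
  · rintro ⟨H, ⟨e⟩⟩
    by_cases h2 : (2 : F) = 0
    · exfalso
      have hσ : orderOf (e.symm (finRotate 4)) = 4 := by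
        rw [MulEquiv.orderOf_eq]
        have : (finRotate 4).cycleType = {4} := by
          rw [cycleType_finRotate]
        rw [← Equiv.Perm.lcm_cycleType, this]
        simp
      have hp : (e.symm (finRotate 4)) ^ 4 = 1 := by
        have := pow_orderOf_eq_one (e.symm (finRotate 4))
        rwa [hσ] at this
      have h4 : ((e.symm (finRotate 4) : H) : Matrix.ProjectiveSpecialLinearGroup (Fin 2) F) ^ 4 = 1 := by
        have := congrArg Subtype.val hp
        simpa using this
      have h2' := sq_of_pow_four h2 _ h4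
      have h2'' : (e.symm (finRotate 4)) ^ 2 = 1 := by
        apply Subtype.ext
        rw [Subgroup.coe_pow]
        exact h2'
      have := orderOf_dvd_of_pow_eq_one h2''
      rw [hσ] at this
      omega
    · have hodd : Odd (Fintype.card F) := by
        rw [Nat.odd_iff]
        apply FiniteField.odd_card_of_char_ne_two
        intro h'
        apply h2
        have := CharP.cast_eq_zero F (ringChar F)
        rw [h'] at this
        exact_mod_cast this
      have hcardH : Nat.card H = 24 := by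
        rw [Nat.card_congr e.toEquiv, Nat.card_perm, Nat.card_fin]
        rfl
      have hdvd : 24 ∣ Nat.card (Matrix.ProjectiveSpecialLinearGroup (Fin 2) F) := by
        rw [← hcardH]
        exact Subgroup.card_subgroup_dvd_card H
      have h1 := Cfsg.Agent.H9.KleinPSL2.card_SL2_eq (F := F) h2
      rw [Cfsg.Agent.S2430.card_SL2' hodd] at h1
      apply mod_lemma' _ (Nat.odd_iff.1 hodd)
      obtain ⟨k, hk⟩ := hdvd
      rw [hk] at h1
      rw [mul_assoc] at h1 ⊢
      rw [h1]
      exact ⟨3 * k, by ring⟩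
  · intro h
    have hmod := mod_lemma _ h
    have hodd : Odd (Fintype.card F) := by
      rw [Nat.odd_iff]
      omega
    have h2 : (2 : F) ≠ 0 := Cfsg.Agent.Lib.Helper8.SL2Odd.two_ne_zero' hodd
    obtain ⟨r, hr⟩ : IsSquare (2 : F) := by
      rw [FiniteField.isSquare_two_iff]
      omega
    exact Cfsg.Agent.H9.S4inPSL2.exists_S4 h2 r hr.symm

end Cfsg.Agent.S0803
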