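import Cfsg.Statements.S0806
import Cfsg.Agent.H9.PSL2Borel

set_option autoImplicit false
open Cfsg

namespace Cfsg.Agent.S0806

/-- Minimal index (Galois): if q ∉ {2, 3, 5, 7, 9, 11} then every proper subgroup of PSL_2(q) has index ≥ q + 1, and some subgroup has index exactly q + 1. -/
theorem result {F : Type*} [Field F] [Fintype F] {q : ℕ} (hF : Fintype.card F = q) (hq : q ∉ ({2, 3, 5, 7, 9, 11} : Finset ℕ)) : (∀ H : Subgroup (Matrix.ProjectiveSpecialLinearGroup (Fin 2) F), H ≠ ⊤ → q + 1 ≤ H.index) ∧ ∃ H : Subgroup (Matrix.ProjectiveSpecialLinearGroup (Fin 2) F), H.index = q + 1 := by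
  classical
  have hq' : q ≠ 2 ∧ q ≠ 3 ∧ q ≠ 5 ∧ q ≠ 7 ∧ q ≠ 9 ∧ q ≠ 11 := by
    simpa using hq
  obtain ⟨hq2, hq3, hq5, hq7, hq9, hq11⟩ := hq'
  subst hF
  refine ⟨?_, ⟨Cfsg.Agent.H9.PSL2Borel.Bor, Cfsg.Agent.H9.PSL2Borel.index_Bor⟩⟩
  intro H hH
  obtain ⟨p, hpF⟩ := CharP.exists F
  have hpp : p.Prime := CharP.char_is_prime F p
  have : Fact p.Prime := ⟨hpp⟩
  obtain ⟨f, -, hf⟩ := FiniteField.card F p
  set q := Fintype.card F with hqdef
  have hq1 : 1 < q := Fintype.one_lt_card
  have hG := Cfsg.Agent.H9.DicksonMax.card_PSL2_mul F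
  rw [← hqdef] at hG
  obtain ⟨d, hd⟩ : ∃ d, d = Nat.gcd 2 (q - 1) := ⟨_, rfl⟩
  rw [← hd] at hG
  have hd12 : d = 1 ∨ d = 2 := by
    have h1 : d ∣ 2 := by rw [hd]; exact Nat.gcd_dvd_left _ _
    have h2 := Nat.le_of_dvd (by norm_num) h1
    have h3 : 0 < d := by rw [hd]; exact Nat.gcd_pos_of_pos_left _ (by norm_num)
    omega
  have hdodd : Odd q → d = 2 := by
    rintro ⟨t, ht⟩
    have : q - 1 = 2 * t := by omega
    rw [hd, this]; simp
  have hdeven : Even q → d = 1 := by
    rintro ⟨t, ht⟩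
    have h1 : d ∣ q - 1 := by rw [hd]; exact Nat.gcd_dvd_right _ _
    rcases hd12 with h | h
    · exact h
    · exfalso
      rw [h] at h1
      obtain ⟨c, hc⟩ := h1
      omega
  have hidx := H.card_mul_index
  have hHpos : 0 < Nat.card H := Nat.card_pos
  have e2 : q ^ 2 - 1 = (q - 1) * (q + 1) := by
    obtain ⟨r, hr⟩ : ∃ r, q = r + 1 := ⟨q - 1, by omega⟩
    rw [hr, Nat.add_sub_cancel]
    have : (r + 1) ^ 2 = r * (r + 1 + 1) + 1 := by ring
    rw [this, Nat.add_sub_cancel]
  -- it suffices to bound the order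
  have key : Nat.card H * d ≤ q * (q - 1) → q + 1 ≤ H.index := by
    intro hle
    by_contra hcon
    push Not at hcon
    have h1 : H.index ≤ q := by omega
    have h2 : Nat.card H * H.index * d = q * (q - 1) * (q + 1) := by
      rw [hidx, hG, e2]; ring
    have h3 : Nat.card H * H.index * d ≤ q * (q - 1) * q := by
      calc Nat.card H * H.index * d = (Nat.card H * d) * H.index := by ring
        _ ≤ (q * (q - 1)) * q := Nat.mul_le_mul hle h1
    have hpos : 0 < q * (q - 1) := Nat.mul_pos (by omega) (by omega)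
    have h4 : q * (q - 1) * q < q * (q - 1) * (q + 1) :=
      Nat.mul_lt_mul_of_pos_left (by omega) hpos
    omega
  have hHne : Nat.card H ≠ Nat.card (Matrix.ProjectiveSpecialLinearGroup (Fin 2) F) := by
    intro h
    exact hH (Subgroup.eq_top_of_card_eq H h)
  have hHdvd : Nat.card H ∣ Nat.card (Matrix.ProjectiveSpecialLinearGroup (Fin 2) F) :=
    Subgroup.card_subgroup_dvd_card H
  have hq4 : 4 ≤ q := by omega
  have hqq : 4 * 3 ≤ q * (q - 1) := Nat.mul_le_mul hq4 (by omega)
  -- parity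
  have hpar : (Even q ∧ (q = 4 ∨ q = 8 ∨ 16 ≤ q)) ∨ (Odd q ∧ 13 ≤ q) := by
    rcases Nat.even_or_odd q with he | ho
    · left
      refine ⟨he, ?_⟩
      have hp2 : p = 2 := by
        have : p ∣ q := by rw [hf]; exact dvd_pow_self p f.ne_zero
        have h2 : 2 ∣ q := he.two_dvd
        rw [hf] at h2
        have := (Nat.Prime.dvd_of_dvd_pow Nat.prime_two h2)
        exact ((Nat.prime_dvd_prime_iff_eq Nat.prime_two hpp).1 this).symm
      rw [hp2] at hf
      have hf1 : 2 ≤ (f : ℕ) := by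
        by_contra hcon
        have : (f : ℕ) = 1 := by have := f.pos; omega
        rw [this] at hf; omega
      rcases Nat.lt_or_ge (f : ℕ) 4 with h | h
      · have : (f : ℕ) = 2 ∨ (f : ℕ) = 3 := by omega
        rcases this with h' | h'
        · left; rw [hf, h']; norm_num
        · right; left; rw [hf, h']; norm_num
      · right; right
        rw [hf]
        calc 16 = 2 ^ 4 := by norm_num
          _ ≤ 2 ^ (f : ℕ) := Nat.pow_le_pow_right (by norm_num) h
    · right
      refine ⟨ho, ?_⟩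
      obtain ⟨t, ht⟩ := ho
      omega
  apply key
  rcases Cfsg.Agent.H9.DicksonUN.dickson q p rfl H with
    ⟨k, hk, ⟨hc, hck⟩ | ⟨⟨e⟩⟩⟩ | ⟨P, K', hK', ⟨e⟩⟩ | ⟨⟨e⟩⟩ | ⟨⟨e⟩⟩ | ⟨⟨e⟩⟩ |
    ⟨K', i1, i2, m, hm, ⟨⟨e⟩⟩ | ⟨⟨e⟩⟩⟩
  · -- cyclic
    rw [← hd] at hk
    have hkd : k * d ≤ q + 1 := by
      rcases hk with h | h
      · have := Nat.le_of_dvd (Nat.div_pos (by rcases hd12 with h | h <;> omega) (by omega)) h
        calc k * d ≤ (q + 1) / d * d := Nat.mul_le_mul_right d this
          _ ≤ q + 1 := Nat.div_mul_le_self _ _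
      · have h0 : 0 < (q - 1) / d :=
          Nat.div_pos (by rcases hd12 with h | h <;> omega) (by rcases hd12 with h | h <;> omega)
        rcases Nat.eq_zero_or_pos ((q - 1) / d) with h0' | h0'
        · omega
        · have := Nat.le_of_dvd h0 h
          calc k * d ≤ (q - 1) / d * d := Nat.mul_le_mul_right d this
            _ ≤ q - 1 := Nat.div_mul_le_self _ _
            _ ≤ q + 1 := by omega
    rw [hck]
    have : q + 1 ≤ q * (q - 1) := by
      obtain ⟨r, hr⟩ : ∃ r, q = r + 4 := ⟨q - 4, by omega⟩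
      rw [hr]
      have : r + 4 - 1 = r + 3 := by omega
      rw [this]; nlinarith
    omega
  · -- dihedral
    rw [← hd] at hk
    have hk0 : k ≠ 0 := by
      rintro rfl
      have : Infinite (DihedralGroup 0) := by
        have : Infinite (ZMod 0) := inferInstanceAs (Infinite ℤ)
        exact Infinite.of_injective (fun i : ZMod 0 => DihedralGroup.r i)
          (fun a b h => by injection h)
      have hfin : Finite (DihedralGroup 0) := Finite.of_equiv H e.toEquiv
      exact not_finite (DihedralGroup 0)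
    have hkd : k * d ≤ q + 1 := by
      rcases hk with h | h
      · have := Nat.le_of_dvd (Nat.div_pos (by rcases hd12 with h | h <;> omega) (by omega)) h
        calc k * d ≤ (q + 1) / d * d := Nat.mul_le_mul_right d this
          _ ≤ q + 1 := Nat.div_mul_le_self _ _
      · have h0 : 0 < (q - 1) / d :=
          Nat.div_pos (by rcases hd12 with h | h <;> omega) (by rcases hd12 with h | h <;> omega)
        rcases Nat.eq_zero_or_pos ((q - 1) / d) with h0' | h0'
        · omega
        · have := Nat.le_of_dvd h0 h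
          calc k * d ≤ (q - 1) / d * d := Nat.mul_le_mul_right d this
            _ ≤ q - 1 := Nat.div_mul_le_self _ _
            _ ≤ q + 1 := by omega
    have hcard : Nat.card H = 2 * k := by
      rw [Nat.card_congr e.toEquiv]
      have : NeZero k := ⟨hk0⟩
      exact DihedralGroup.nat_card
    rw [hcard]
    have : 2 * (q + 1) ≤ q * (q - 1) := by
      obtain ⟨r, hr⟩ : ∃ r, q = r + 4 := ⟨q - 4, by omega⟩
      rw [hr]
      have : r + 4 - 1 = r + 3 := by omega
      rw [this]; nlinarith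
    calc 2 * k * d = 2 * (k * d) := by ring
      _ ≤ 2 * (q + 1) := by omega
      _ ≤ _ := this
  · -- Borel type
    obtain ⟨g, hg⟩ := Cfsg.Agent.H9.PSL2Borel.sylow_normalizer_le_BorC p P
    have h1 : Nat.card K' ≤ Nat.card (Cfsg.Agent.H9.PSL2Borel.BorC g) :=
      Nat.le_of_dvd Nat.card_pos (Subgroup.card_dvd_of_le (hK'.trans hg))
    rw [Cfsg.Agent.H9.PSL2Borel.card_BorC] at h1
    have h2 := Cfsg.Agent.H9.PSL2Borel.card_Bor (F := F)
    rw [← hqdef, ← hd] at h2
    rw [Nat.card_congr e.toEquiv, ← h2]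
    exact Nat.mul_le_mul_right d h1
  · -- A4
    have hL : Nat.card H = 12 := by
      rw [Nat.card_congr e.toEquiv, nat_card_alternatingGroup, Nat.card_eq_fintype_card,
        Fintype.card_fin]
      rfl
    rw [hL]
    rcases hpar with ⟨he, -⟩ | ⟨ho, h13⟩
    · rw [hdeven he]; omega
    · rw [hdodd ho]
      have : 13 * 12 ≤ q * (q - 1) := Nat.mul_le_mul h13 (by omega)
      omega
  · -- S4
    have hL : Nat.card H = 24 := by
      rw [Nat.card_congr e.toEquiv, Nat.card_eq_fintype_card, Fintype.card_perm,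
        Fintype.card_fin]
      rfl
    rw [hL]
    rcases hpar with ⟨he, h4 | h8 | h16⟩ | ⟨ho, h13⟩
    · exfalso
      rw [hL] at hHdvd
      rw [hdeven he, h4] at hG
      have : Nat.card (Matrix.ProjectiveSpecialLinearGroup (Fin 2) F) = 60 := by omega
      rw [this] at hHdvd
      omega
    · rw [hdeven he, h8]; omega
    · rw [hdeven he]
      have : 16 * 15 ≤ q * (q - 1) := Nat.mul_le_mul h16 (by omega)
      omega
    · rw [hdodd ho]
      have : 13 * 12 ≤ q * (q - 1) := Nat.mul_le_mul h13 (by omega)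
      omega
  · -- A5
    have hL : Nat.card H = 60 := by
      rw [Nat.card_congr e.toEquiv, nat_card_alternatingGroup, Nat.card_eq_fintype_card,
        Fintype.card_fin]
      rfl
    rw [hL]
    rcases hpar with ⟨he, h4 | h8 | h16⟩ | ⟨ho, h13⟩
    · exfalso
      rw [hdeven he, h4] at hG
      apply hHne
      omega
    · exfalso
      rw [hL] at hHdvd
      rw [hdeven he, h8] at hG
      have : Nat.card (Matrix.ProjectiveSpecialLinearGroup (Fin 2) F) = 504 := by omega
      rw [this] at hHdvd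
      omega
    · rw [hdeven he]
      have : 16 * 15 ≤ q * (q - 1) := Nat.mul_le_mul h16 (by omega)
      omega
    · rw [hdodd ho]
      have : 13 * 12 ≤ q * (q - 1) := Nat.mul_le_mul h13 (by omega)
      omega
  · -- PSL₂(K')
    have hK1 : 1 < Fintype.card K' := Fintype.one_lt_card
    have hcL := Cfsg.Agent.H9.DicksonMax.card_PSL2_mul K'
    rw [← Nat.card_congr e.toEquiv] at hcL
    obtain ⟨q0, hq0⟩ : ∃ q0, q0 = Fintype.card K' := ⟨_, rfl⟩
    rw [← hq0] at hcL hm hK1
    have hm0 : m ≠ 0 := by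
      rintro rfl
      rw [pow_zero] at hm; omega
    rcases Nat.lt_or_ge m 2 with h | h
    · exfalso
      have hm1 : m = 1 := by omega
      rw [hm1, pow_one] at hm
      rw [hm, ← hd] at hcL
      apply hHne
      have hdpos : 0 < d := by omega
      exact Nat.eq_of_mul_eq_mul_right hdpos (hcL.trans hG.symm)
    · have hqq0 : q0 ^ 2 ≤ q := by
        rw [← hm]
        exact Nat.pow_le_pow_right (by omega) h
      have e3 : q0 ^ 2 - 1 ≤ q - 1 := by omega
      have h1 : Nat.card H ≤ q0 * (q0 ^ 2 - 1) := by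
        rw [← hcL]
        exact Nat.le_mul_of_pos_right _ (Nat.gcd_pos_of_pos_left _ (by norm_num))
      calc Nat.card H * d ≤ (q0 * (q0 ^ 2 - 1)) * 2 :=
            Nat.mul_le_mul h1 (by rcases hd12 with h | h <;> omega)
        _ = (2 * q0) * (q0 ^ 2 - 1) := by ring
        _ ≤ (q0 ^ 2) * (q0 ^ 2 - 1) := Nat.mul_le_mul_right _ (by nlinarith)
        _ ≤ q * (q - 1) := Nat.mul_le_mul hqq0 e3
  · -- PGL₂(K')
    have hK1 : 1 < Fintype.card K' := Fintype.one_lt_card
    have hcL : Nat.card H = Fintype.card K' * (Fintype.card K' ^ 2 - 1) := by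
      rw [Nat.card_congr e.toEquiv, Cfsg.Agent.S0265.result,
        Cfsg.Agent.H9.SubfieldPSL2.card_SL2_all]
    obtain ⟨q0, hq0⟩ : ∃ q0, q0 = Fintype.card K' := ⟨_, rfl⟩
    rw [← hq0] at hcL hm hK1
    have hm0 : m ≠ 0 := by
      rintro rfl
      rw [pow_zero] at hm; omega
    rcases Nat.lt_or_ge m 2 with h | h
    · exfalso
      have hm1 : m = 1 := by omega
      rw [hm1, pow_one] at hm
      rw [hm] at hcL
      rw [← hcL] at hG
      rcases hd12 with h1 | h2
      · rw [h1, mul_one] at hG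
        exact hHne hG.symm
      · rw [h2] at hG
        have := Nat.le_of_dvd Nat.card_pos hHdvd
        omega
    · have hqq0 : q0 ^ 2 ≤ q := by
        rw [← hm]
        exact Nat.pow_le_pow_right (by omega) h
      have e3 : q0 ^ 2 - 1 ≤ q - 1 := by omega
      calc Nat.card H * d ≤ (q0 * (q0 ^ 2 - 1)) * 2 := by
            rw [hcL]
            exact Nat.mul_le_mul_left _ (by rcases hd12 with h | h <;> omega)
        _ = (2 * q0) * (q0 ^ 2 - 1) := by ring
        _ ≤ (q0 ^ 2) * (q0 ^ 2 - 1) := Nat.mul_le_mul_right _ (by nlinarith)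
        _ ≤ q * (q - 1) := Nat.mul_le_mul hqq0 e3

end Cfsg.Agent.S0806
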