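import Cfsg.Statements.S0809
import Mathlib
import Cfsg.Agent.S0276

set_option autoImplicit false
open Cfsg

namespace Cfsg.Agent.S0809

open Matrix

section
variable {F : Type*} [Field F]

/-- the standard element of order four -/
def x₀ : Matrix.SpecialLinearGroup (Fin 2) F :=
  ⟨!![0, -1; 1, 0], by rw [Matrix.det_fin_two_of]; simp⟩

/-- elements of square `-1` have trace zero -/
theorem trace_eq_zero (x : Matrix.SpecialLinearGroup (Fin 2) F) (hx : x.1 * x.1 = -1) :
    x.1 0 0 + x.1 1 1 = 0 := by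
  have hch := Cfsg.Agent.S0800.cayley x.1 x.2
  rw [hx, neg_add_cancel, Matrix.trace_fin_two] at hch
  by_contra h
  have h0 : x.1 = 0 := by
    have := hch.symm
    rw [smul_eq_zero] at this
    rcases this with h' | h'
    · exact absurd h' h
    · exact h'
  rw [h0] at hx
  have := congrFun (congrFun hx 0) 0
  simp at this

theorem det_rel (x : Matrix.SpecialLinearGroup (Fin 2) F) (hx : x.1 * x.1 = -1) :
    x.1 0 0 * x.1 0 0 + x.1 0 1 * x.1 1 0 = -1 := by
  have h1 := trace_eq_zero x hx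
  have h2 := x.2
  rw [Matrix.det_fin_two] at h2
  have h3 : x.1 1 1 = -x.1 0 0 := by linear_combination h1
  rw [h3] at h2
  linear_combination -h2

/-- from a vector `u` with `Q(u) = 1` we get a conjugating element -/
theorem conj_of_vec (x : Matrix.SpecialLinearGroup (Fin 2) F) (hx : x.1 * x.1 = -1) (u₀ u₁ : F)
    (hu : x.1 1 0 * u₀ ^ 2 - 2 * x.1 0 0 * u₀ * u₁ - x.1 0 1 * u₁ ^ 2 = 1) :
    ∃ g : Matrix.SpecialLinearGroup (Fin 2) F, g * x₀ = x * g := by
  have h1 := trace_eq_zero x hx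
  have h3 : x.1 1 1 = -x.1 0 0 := by linear_combination h1
  have h2 := det_rel x hx
  have hdet : (!![u₀, x.1 0 0 * u₀ + x.1 0 1 * u₁; u₁, x.1 1 0 * u₀ + x.1 1 1 * u₁] :
      Matrix (Fin 2) (Fin 2) F).det = 1 := by
    rw [Matrix.det_fin_two_of, h3]
    linear_combination hu
  let g : Matrix.SpecialLinearGroup (Fin 2) F := ⟨_, hdet⟩
  refine ⟨g, ?_⟩
  · apply Subtype.ext
    change !![u₀, x.1 0 0 * u₀ + x.1 0 1 * u₁; u₁, x.1 1 0 * u₀ + x.1 1 1 * u₁] * !![0, -1; 1, 0] =
      x.1 * !![u₀, x.1 0 0 * u₀ + x.1 0 1 * u₁; u₁, x.1 1 0 * u₀ + x.1 1 1 * u₁]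
    have hxe : x.1 = !![x.1 0 0, x.1 0 1; x.1 1 0, x.1 1 1] := by
      ext i j; fin_cases i <;> fin_cases j <;> rfl
    rw [hxe, Matrix.mul_fin_two, Matrix.mul_fin_two]
    simp only [Matrix.of_apply, Matrix.cons_val', Matrix.cons_val_zero, Matrix.cons_val_one,
      Matrix.cons_val_fin_one]
    rw [h3]
    ext i j
    fin_cases i <;> fin_cases j <;> simp
    · linear_combination (-u₀) * h2
    · linear_combination (-u₁) * h2

end

section
variable {F : Type*} [Field F] [Fintype F]

theorem exists_sq_add_sq (hodd : Fintype.card F % 2 = 1) (c : F) : ∃ s t : F, s ^ 2 + t ^ 2 = c := by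
  classical
  obtain ⟨s, t, h⟩ := FiniteField.exists_root_sum_quadratic (R := F)
    (f := Polynomial.X ^ 2) (g := Polynomial.X ^ 2 - Polynomial.C c)
    (Polynomial.degree_X_pow 2) (Polynomial.degree_X_pow_sub_C (by norm_num) c) hodd
  refine ⟨s, t, ?_⟩
  simp at h
  linear_combination h

theorem exists_vec (hodd : Fintype.card F % 2 = 1) (hchar : (2 : F) ≠ 0)
    (x : Matrix.SpecialLinearGroup (Fin 2) F) (hx : x.1 * x.1 = -1) :
    ∃ u₀ u₁ : F, x.1 1 0 * u₀ ^ 2 - 2 * x.1 0 0 * u₀ * u₁ - x.1 0 1 * u₁ ^ 2 = 1 := by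
  have h2 := det_rel x hx
  set a := x.1 0 0
  set b := x.1 0 1
  set c := x.1 1 0
  -- a first vector with `Q v ≠ 0`
  obtain ⟨v₀, v₁, hv⟩ : ∃ v₀ v₁ : F, c * v₀ ^ 2 - 2 * a * v₀ * v₁ - b * v₁ ^ 2 ≠ 0 := by
    by_cases hc : c = 0
    · by_cases hb : b = 0
      · refine ⟨1, 1, ?_⟩
        rw [hc, hb]
        have ha : a ≠ 0 := by
          rintro ha
          rw [ha, hb] at h2
          simp at h2
        simp
        exact ⟨hchar, ha⟩
      · refine ⟨0, 1, ?_⟩
        simpa using hb
    · refine ⟨1, 0, ?_⟩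
      simpa using hc
  obtain ⟨s, t, hst⟩ := exists_sq_add_sq hodd (c * v₀ ^ 2 - 2 * a * v₀ * v₁ - b * v₁ ^ 2)⁻¹
  refine ⟨s * v₀ + t * (a * v₀ + b * v₁), s * v₁ + t * (c * v₀ - a * v₁), ?_⟩
  have key : c * (s * v₀ + t * (a * v₀ + b * v₁)) ^ 2 -
      2 * a * (s * v₀ + t * (a * v₀ + b * v₁)) * (s * v₁ + t * (c * v₀ - a * v₁)) -
      b * (s * v₁ + t * (c * v₀ - a * v₁)) ^ 2 =
      (s ^ 2 + t ^ 2) * (c * v₀ ^ 2 - 2 * a * v₀ * v₁ - b * v₁ ^ 2) := by
    linear_combination (-(t ^ 2) * (c * v₀ ^ 2 - 2 * a * v₀ * v₁ - b * v₁ ^ 2)) * h2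
  rw [key, hst, inv_mul_cancel₀ hv]

/-- every element of square `-1` is conjugate to `x₀` -/
theorem exists_conj (hodd : Fintype.card F % 2 = 1) (hchar : (2 : F) ≠ 0)
    (x : Matrix.SpecialLinearGroup (Fin 2) F) (hx : x.1 * x.1 = -1) :
    ∃ g : Matrix.SpecialLinearGroup (Fin 2) F, g * x₀ = x * g := by
  obtain ⟨u₀, u₁, hu⟩ := exists_vec hodd hchar x hx
  exact conj_of_vec x hx u₀ u₁ hu

end

section
variable {F : Type*} [Field F]

theorem neg_one_ne_one (hchar : (2 : F) ≠ 0) : (-1 : Matrix (Fin 2) (Fin 2) F) ≠ 1 := by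
  intro h
  have := congrFun (congrFun h 0) 0
  simp at this
  apply hchar
  linear_combination -this

/-- elements of a subgroup of order four -/
theorem exists_gen (hchar : (2 : F) ≠ 0) (B : Subgroup (Matrix.SpecialLinearGroup (Fin 2) F))
    (hB : Nat.card B = 4) :
    ∃ x : Matrix.SpecialLinearGroup (Fin 2) F, x.1 * x.1 = -1 ∧ B = Subgroup.zpowers x := by
  classical
  have hfin : Finite B := Nat.finite_of_card_ne_zero (by omega)
  have hex : ∃ x ∈ B, x.1 * x.1 = -1 := by
    by_contra hcon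
    push Not at hcon
    have hall : ∀ x ∈ B, x.1 = 1 ∨ x.1 = -1 := by
      intro x hxB
      have h4 : x ^ 4 = 1 := by
        have := pow_card_eq_one' (G := B) (x := ⟨x, hxB⟩)
        rw [hB] at this
        exact congrArg Subtype.val this
      have h4' : (x * x).1 * (x * x).1 = 1 := by
        rw [← Matrix.SpecialLinearGroup.coe_mul]
        have : x * x * (x * x) = x ^ 4 := by
          rw [← pow_two, ← pow_two, ← pow_mul]
        rw [this, h4]; rfl
      rcases Cfsg.Agent.S0276.sq_eq_one_sl hchar (x * x).1 (x * x).2 h4' with h | h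
      · rw [Matrix.SpecialLinearGroup.coe_mul] at h
        exact Cfsg.Agent.S0276.sq_eq_one_sl hchar x.1 x.2 h
      · rw [Matrix.SpecialLinearGroup.coe_mul] at h
        exact absurd h (hcon x hxB)
    have hinj : Function.Injective (fun x : B => decide (x.1.1 = 1)) := by
      intro x y hxy
      simp only [decide_eq_decide] at hxy
      apply Subtype.ext
      apply Subtype.ext
      rcases hall x.1 x.2 with hx | hx <;> rcases hall y.1 y.2 with hy | hy
      · rw [hx, hy]
      · exact absurd (hy ▸ (hxy.1 hx)) (neg_one_ne_one hchar)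
      · exact absurd (hx ▸ (hxy.2 hy)) (neg_one_ne_one hchar)
      · rw [hx, hy]
    have := Nat.card_le_card_of_injective _ hinj
    rw [hB, Nat.card_eq_fintype_card, Fintype.card_bool] at this
    omega
  obtain ⟨x, hxB, hx⟩ := hex
  refine ⟨x, hx, ?_⟩
  have ho : orderOf x = 2 ^ (1 + 1) := by
    apply orderOf_eq_prime_pow
    · intro h
      have h1 : (x ^ 2 ^ 1).1 = 1 := by rw [h]; rfl
      rw [pow_one, pow_two, Matrix.SpecialLinearGroup.coe_mul, hx] at h1
      exact neg_one_ne_one hchar h1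
    · apply Subtype.ext
      have : x ^ 2 ^ (1 + 1) = x * x * (x * x) := by
        rw [← pow_two, ← pow_two, ← pow_mul]; rfl
      rw [this, Matrix.SpecialLinearGroup.coe_mul, Matrix.SpecialLinearGroup.coe_mul, hx]
      simp
  symm
  apply Subgroup.eq_of_le_of_card_ge (Subgroup.zpowers_le.2 hxB)
  rw [Nat.card_zpowers, ho, hB]
  norm_num

/-- involutions of `PSL₂` lift to elements of square `-1` -/
theorem lift_involution (hchar : (2 : F) ≠ 0) (x : Matrix.SpecialLinearGroup (Fin 2) F)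
    (hx : orderOf (QuotientGroup.mk x : Matrix.ProjectiveSpecialLinearGroup (Fin 2) F) = 2) :
    x.1 * x.1 = -1 := by
  have h1 : (QuotientGroup.mk x : Matrix.ProjectiveSpecialLinearGroup (Fin 2) F) ^ 2 = 1 := by
    have := pow_orderOf_eq_one
      (QuotientGroup.mk x : Matrix.ProjectiveSpecialLinearGroup (Fin 2) F)
    rwa [hx] at this
  have h2 : (QuotientGroup.mk x : Matrix.ProjectiveSpecialLinearGroup (Fin 2) F) ≠ 1 := by
    intro h
    rw [h, orderOf_one] at hx
    omega
  rw [← QuotientGroup.mk_pow, QuotientGroup.eq_one_iff, Matrix.SpecialLinearGroup.mem_center_iff]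
    at h1
  rw [Ne, QuotientGroup.eq_one_iff, Matrix.SpecialLinearGroup.mem_center_iff] at h2
  obtain ⟨r, hr, hrx⟩ := h1
  rw [Fintype.card_fin] at hr
  rw [pow_two, Matrix.SpecialLinearGroup.coe_mul] at hrx
  rcases sq_eq_one_iff.1 hr with h | h
  · exfalso
    rw [h, map_one] at hrx
    apply h2
    rcases Cfsg.Agent.S0276.sq_eq_one_sl hchar x.1 x.2 hrx.symm with h' | h'
    · exact ⟨1, one_pow _, by rw [h', map_one]⟩
    · exact ⟨-1, by simp, by rw [h', map_neg, map_one]⟩
  · rw [← hrx, h, map_neg, map_one]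

end

section count
variable {F : Type*} [Field F] [Fintype F] [DecidableEq F]

/-- the affine conic `s² + t² = 1` -/
abbrev S (F : Type*) [Field F] : Type _ := {p : F × F // p.1 ^ 2 + p.2 ^ 2 = 1}

/-- rational parametrisation of the conic -/
noncomputable def equivS (hchar : (2 : F) ≠ 0) : S F ≃ Option {t : F // t ^ 2 + 1 ≠ 0} where
  toFun p := if h : p.1.1 = 1 then none else some ⟨p.1.2 / (p.1.1 - 1), by
    have h1 : p.1.1 - 1 ≠ 0 := sub_ne_zero.2 h
    have h2 := p.2
    have : (p.1.2 / (p.1.1 - 1)) ^ 2 + 1 = -2 / (p.1.1 - 1) := by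
      field_simp
      linear_combination h2
    rw [this]
    exact div_ne_zero (neg_ne_zero.2 hchar) h1⟩
  invFun o := match o with
    | none => ⟨(1, 0), by simp⟩
    | some t => ⟨((t.1 ^ 2 - 1) / (t.1 ^ 2 + 1), -2 * t.1 / (t.1 ^ 2 + 1)), by
        have := t.2
        field_simp
        ring⟩
  left_inv p := by
    by_cases h : p.1.1 = 1
    · simp only [h, dite_true]
      apply Subtype.ext
      have h2 := p.2
      rw [h] at h2
      have h3 : p.1.2 = 0 := by
        have : p.1.2 ^ 2 = 0 := by linear_combination h2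
        exact pow_eq_zero_iff (two_ne_zero) |>.1 this
      exact Prod.ext h.symm h3.symm
    · simp only [h, dite_false]
      apply Subtype.ext
      have h1 : p.1.1 - 1 ≠ 0 := sub_ne_zero.2 h
      have h2 := p.2
      have h3 : (p.1.2 / (p.1.1 - 1)) ^ 2 + 1 = -2 / (p.1.1 - 1) := by
        field_simp
        linear_combination h2
      have h4 : (p.1.2 / (p.1.1 - 1)) ^ 2 - 1 = -2 * p.1.1 / (p.1.1 - 1) := by
        field_simp
        linear_combination h2
      apply Prod.ext
      · change ((p.1.2 / (p.1.1 - 1)) ^ 2 - 1) / ((p.1.2 / (p.1.1 - 1)) ^ 2 + 1) = p.1.1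
        rw [h3, h4]
        field_simp
      · change -2 * (p.1.2 / (p.1.1 - 1)) / ((p.1.2 / (p.1.1 - 1)) ^ 2 + 1) = p.1.2
        rw [h3]
        field_simp
  right_inv o := by
    match o with
    | none => simp
    | some t =>
      have ht := t.2
      have h : ¬ ((t.1 ^ 2 - 1) / (t.1 ^ 2 + 1) = 1) := by
        rw [div_eq_one_iff_eq ht]
        intro h'
        apply hchar
        linear_combination -h'
      simp only [h, dite_false]
      congr 1
      apply Subtype.ext
      change -2 * t.1 / (t.1 ^ 2 + 1) / ((t.1 ^ 2 - 1) / (t.1 ^ 2 + 1) - 1) = t.1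
      have : (t.1 ^ 2 - 1) / (t.1 ^ 2 + 1) - 1 = -2 / (t.1 ^ 2 + 1) := by
        field_simp
        ring
      rw [this]
      field_simp

theorem card_S (hchar : (2 : F) ≠ 0) :
    Nat.card (S F) + Nat.card {t : F // t ^ 2 + 1 = 0} = Fintype.card F + 1 := by
  rw [Nat.card_congr (equivS hchar), Nat.card_eq_fintype_card, Fintype.card_option,
    Nat.card_eq_fintype_card]
  have := Fintype.card_congr (Equiv.sumCompl (fun t : F => t ^ 2 + 1 = 0))
  rw [Fintype.card_sum] at this
  have h2 : Fintype.card {t : F // t ^ 2 + 1 ≠ 0} = Fintype.card {a : F // ¬ (a ^ 2 + 1 = 0)} :=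
    Fintype.card_congr (Equiv.refl _)
  omega

theorem card_roots_of_sq (hchar : (2 : F) ≠ 0) (i : F) (hi : i ^ 2 = -1) :
    Nat.card {t : F // t ^ 2 + 1 = 0} = 2 := by
  rw [Nat.card_eq_fintype_card, Fintype.card_subtype]
  have : (Finset.univ.filter (fun t : F => t ^ 2 + 1 = 0)) = {i, -i} := by
    ext t
    simp only [Finset.mem_filter, Finset.mem_univ, true_and, Finset.mem_insert,
      Finset.mem_singleton]
    constructor
    · intro h
      have : (t - i) * (t + i) = 0 := by linear_combination h - hi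
      rcases mul_eq_zero.1 this with h' | h'
      · left; linear_combination h'
      · right; linear_combination h'
    · rintro (h | h)
      · rw [h]; linear_combination hi
      · rw [h]; linear_combination hi
  rw [this, Finset.card_pair]
  intro h
  have hi0 : i ≠ 0 := by
    rintro rfl
    simp at hi
  have : 2 * i = 0 := by linear_combination h
  rcases mul_eq_zero.1 this with h' | h'
  · exact hchar h'
  · exact hi0 h'

theorem card_roots_of_not_sq (h : ¬ IsSquare (-1 : F)) :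
    Nat.card {t : F // t ^ 2 + 1 = 0} = 0 := by
  have : IsEmpty {t : F // t ^ 2 + 1 = 0} := by
    constructor
    rintro ⟨t, ht⟩
    apply h
    exact ⟨t, by linear_combination -ht⟩
  exact Nat.card_of_isEmpty

end count

section norm
variable {F : Type*} [Field F]

theorem x₀_coe : (x₀ : Matrix.SpecialLinearGroup (Fin 2) F).1 = !![0, -1; 1, 0] := rfl

theorem x₀_sq : (x₀ : Matrix.SpecialLinearGroup (Fin 2) F).1 * x₀.1 = -1 := by
  rw [x₀_coe, Matrix.mul_fin_two]
  ext i j
  fin_cases i <;> fin_cases j <;> simp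

theorem comm_iff (g : Matrix.SpecialLinearGroup (Fin 2) F) :
    g * x₀ = x₀ * g ↔ g.1 0 0 = g.1 1 1 ∧ g.1 0 1 = -g.1 1 0 := by
  constructor
  · intro h
    have h1 := congrArg Subtype.val h
    rw [Matrix.SpecialLinearGroup.coe_mul, Matrix.SpecialLinearGroup.coe_mul, x₀_coe] at h1
    have e00 := congrFun (congrFun h1 0) 0
    have e01 := congrFun (congrFun h1 0) 1
    simp [Matrix.mul_apply, Fin.sum_univ_two] at e00 e01
    exact ⟨e01, e00⟩
  · rintro ⟨h1, h2⟩
    apply Subtype.ext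
    rw [Matrix.SpecialLinearGroup.coe_mul, Matrix.SpecialLinearGroup.coe_mul, x₀_coe]
    ext i j
    fin_cases i <;> fin_cases j <;> simp [Matrix.mul_apply, Fin.sum_univ_two, h1, h2]

theorem anti_iff (g : Matrix.SpecialLinearGroup (Fin 2) F) :
    x₀ * g * x₀ = g ↔ g.1 0 0 = -g.1 1 1 ∧ g.1 0 1 = g.1 1 0 := by
  have hge : g.1 = !![g.1 0 0, g.1 0 1; g.1 1 0, g.1 1 1] := by
    ext i j; fin_cases i <;> fin_cases j <;> rfl
  have key : (x₀ * g * x₀).1 = !![-g.1 1 1, g.1 1 0; g.1 0 1, -g.1 0 0] := by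
    rw [Matrix.SpecialLinearGroup.coe_mul, Matrix.SpecialLinearGroup.coe_mul, x₀_coe]
    conv_lhs => rw [hge]
    rw [Matrix.mul_fin_two, Matrix.mul_fin_two]
    ext i j
    fin_cases i <;> fin_cases j <;> simp
  constructor
  · intro h
    have h1 := congrArg Subtype.val h
    rw [key] at h1
    have e00 := congrFun (congrFun h1 0) 0
    have e01 := congrFun (congrFun h1 0) 1
    simp at e00 e01
    exact ⟨e00.symm, e01.symm⟩
  · rintro ⟨h1, h2⟩
    apply Subtype.ext
    rw [key]
    ext i j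
    fin_cases i <;> fin_cases j <;> simp [h1, h2]

theorem orderOf_of_sq (hchar : (2 : F) ≠ 0) (x : Matrix.SpecialLinearGroup (Fin 2) F)
    (hx : x.1 * x.1 = -1) : orderOf x = 4 := by
  have ho : orderOf x = 2 ^ (1 + 1) := by
    apply orderOf_eq_prime_pow
    · intro h
      have h1 : (x ^ 2 ^ 1).1 = 1 := by rw [h]; rfl
      rw [pow_one, pow_two, Matrix.SpecialLinearGroup.coe_mul, hx] at h1
      exact neg_one_ne_one hchar h1
    · apply Subtype.ext
      have : x ^ 2 ^ (1 + 1) = x * x * (x * x) := by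
        rw [← pow_two, ← pow_two, ← pow_mul]; rfl
      rw [this, Matrix.SpecialLinearGroup.coe_mul, Matrix.SpecialLinearGroup.coe_mul, hx]
      simp
  rw [ho]; norm_num

theorem mem_normalizer_iff' [Finite F] (hchar : (2 : F) ≠ 0)
    (g : Matrix.SpecialLinearGroup (Fin 2) F) :
    g ∈ Subgroup.normalizer
      ((Subgroup.zpowers (x₀ : Matrix.SpecialLinearGroup (Fin 2) F) :
        Subgroup (Matrix.SpecialLinearGroup (Fin 2) F)) : Set (Matrix.SpecialLinearGroup (Fin 2) F)) ↔
      (g * x₀ = x₀ * g ∨ x₀ * g * x₀ = g) := by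
  classical
  have ho := orderOf_of_sq hchar x₀ x₀_sq
  have h4 : (x₀ : Matrix.SpecialLinearGroup (Fin 2) F) ^ 4 = 1 := by
    rw [← ho]; exact pow_orderOf_eq_one _
  have hfo : IsOfFinOrder (x₀ : Matrix.SpecialLinearGroup (Fin 2) F) := by
    rw [← orderOf_pos_iff, ho]; norm_num
  have h2 : (x₀ : Matrix.SpecialLinearGroup (Fin 2) F) ^ 2 ≠ 1 := by
    intro h
    have := orderOf_dvd_of_pow_eq_one h
    rw [ho] at this
    omega
  constructor
  · intro hg
    have hy : g * x₀ * g⁻¹ ∈ Subgroup.zpowers x₀ :=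
      (Subgroup.mem_normalizer_iff.1 hg x₀).1 (Subgroup.mem_zpowers x₀)
    rw [hfo.mem_zpowers_iff_mem_range_orderOf, ho] at hy
    simp only [Finset.mem_image, Finset.mem_range] at hy
    obtain ⟨k, hk, hy⟩ := hy
    interval_cases k
    · exfalso
      rw [pow_zero] at hy
      have : (x₀ : Matrix.SpecialLinearGroup (Fin 2) F) = 1 := by
        have h1 : g⁻¹ * (g * x₀ * g⁻¹) * g = x₀ := by group
        rw [← h1, ← hy]; group
      rw [this, one_pow] at h2
      exact h2 rfl
    · left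
      rw [pow_one] at hy
      have : g * x₀ = (g * x₀ * g⁻¹) * g := by group
      rw [this, ← hy]
    · exfalso
      apply h2
      have h1 : g⁻¹ * (g * x₀ * g⁻¹) ^ 2 * g = x₀ ^ 2 := by rw [conj_pow]; group
      rw [← h1, ← hy, ← pow_mul, h4]; group
    · right
      have h1 : g * x₀ = x₀ ^ 3 * g := by rw [hy]; group
      rw [mul_assoc, h1, ← mul_assoc, ← pow_succ', h4, one_mul]
  · rintro (h | h)
    · apply Subgroup.mem_normalizer_fintype
      intro n hn
      obtain ⟨k, rfl⟩ := Subgroup.mem_zpowers_iff.1 hn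
      have hc : Commute g x₀ := h
      have : g * x₀ ^ k * g⁻¹ = x₀ ^ k := by
        rw [(hc.zpow_right k).eq, mul_inv_cancel_right]
      rw [this]
      exact Subgroup.zpow_mem_zpowers x₀ k
    · apply Subgroup.mem_normalizer_fintype
      intro n hn
      obtain ⟨k, rfl⟩ := Subgroup.mem_zpowers_iff.1 hn
      have h1 : g * x₀ * g⁻¹ = x₀⁻¹ := by
        have : g * x₀ = x₀⁻¹ * g := by
          rw [eq_inv_mul_iff_mul_eq, ← mul_assoc]; exact h
        rw [this, mul_inv_cancel_right]
      have : g * x₀ ^ k * g⁻¹ = (x₀⁻¹) ^ k := by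
        rw [← h1, conj_zpow]
      rw [this, _root_.inv_zpow]
      exact inv_mem (Subgroup.zpow_mem_zpowers x₀ k)

end norm

section norm3
variable {F : Type*} [Field F] [Fintype F]

/-- the centraliser of `x₀` is the conic -/
noncomputable def equivC :
    {g : Matrix.SpecialLinearGroup (Fin 2) F // g * x₀ = x₀ * g} ≃ S F where
  toFun g := ⟨(g.1.1 0 0, g.1.1 1 0), by
    have h := (comm_iff g.1).1 g.2
    have hd := g.1.2
    rw [Matrix.det_fin_two, ← h.1, h.2] at hd
    change g.1.1 0 0 ^ 2 + g.1.1 1 0 ^ 2 = 1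
    linear_combination hd⟩
  invFun p := ⟨⟨!![p.1.1, -p.1.2; p.1.2, p.1.1], by
    rw [Matrix.det_fin_two_of]; linear_combination p.2⟩, (comm_iff _).2 ⟨rfl, by simp⟩⟩
  left_inv g := by
    have h := (comm_iff g.1).1 g.2
    apply Subtype.ext
    apply Subtype.ext
    ext i j
    fin_cases i <;> fin_cases j <;> simp [h.1, h.2]
  right_inv p := by
    apply Subtype.ext
    rfl

theorem card_normalizer (hodd : Fintype.card F % 2 = 1) (hchar : (2 : F) ≠ 0) :
    Nat.card (Subgroup.normalizer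
      ((Subgroup.zpowers (x₀ : Matrix.SpecialLinearGroup (Fin 2) F) :
        Subgroup (Matrix.SpecialLinearGroup (Fin 2) F)) : Set (Matrix.SpecialLinearGroup (Fin 2) F))) =
      2 * Nat.card (S F) := by
  classical
  obtain ⟨s, t, hst⟩ := exists_sq_add_sq hodd (-1 : F)
  have hdet : (!![s, t; t, -s] : Matrix (Fin 2) (Fin 2) F).det = 1 := by
    rw [Matrix.det_fin_two_of]; linear_combination -hst
  let n₀ : Matrix.SpecialLinearGroup (Fin 2) F := ⟨_, hdet⟩
  have hn₀ : x₀ * n₀ * x₀ = n₀ := (anti_iff n₀).2 ⟨by simp [n₀], by simp [n₀]⟩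
  set C : Set (Matrix.SpecialLinearGroup (Fin 2) F) := {g | g * x₀ = x₀ * g} with hC
  set D : Set (Matrix.SpecialLinearGroup (Fin 2) F) := {g | x₀ * g * x₀ = g} with hD
  have hN : ((Subgroup.normalizer
      ((Subgroup.zpowers (x₀ : Matrix.SpecialLinearGroup (Fin 2) F) :
        Subgroup (Matrix.SpecialLinearGroup (Fin 2) F)) : Set (Matrix.SpecialLinearGroup (Fin 2) F)) :
      Subgroup _) : Set (Matrix.SpecialLinearGroup (Fin 2) F)) = C ∪ D := by
    ext g
    exact mem_normalizer_iff' hchar g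
  have hCD : (fun g => n₀ * g) '' C ⊆ D := by
    rintro _ ⟨c, hc, rfl⟩
    have hc' : c * x₀ = x₀ * c := hc
    change x₀ * (n₀ * c) * x₀ = n₀ * c
    calc x₀ * (n₀ * c) * x₀ = x₀ * n₀ * (c * x₀) := by group
      _ = (x₀ * n₀ * x₀) * c := by rw [hc']; group
      _ = n₀ * c := by rw [hn₀]
  have hDC : (fun g => n₀ * g) '' D ⊆ C := by
    rintro _ ⟨g, hg, rfl⟩
    have hg' : x₀ * g * x₀ = g := hg
    change n₀ * g * x₀ = x₀ * (n₀ * g)
    symm
    calc x₀ * (n₀ * g) = x₀ * (n₀ * (x₀ * g * x₀)) := by rw [hg']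
      _ = (x₀ * n₀ * x₀) * (g * x₀) := by group
      _ = n₀ * g * x₀ := by rw [hn₀]; group
  have hdisj : Disjoint C D := by
    rw [Set.disjoint_left]
    intro g hgC hgD
    have h1 := (comm_iff g).1 hgC
    have h2 := (anti_iff g).1 hgD
    have hd := g.2
    rw [Matrix.det_fin_two] at hd
    have h11 : g.1 1 1 = 0 := by
      have : 2 * g.1 1 1 = 0 := by linear_combination h2.1 - h1.1
      rcases mul_eq_zero.1 this with h | h
      · exact absurd h hchar
      · exact h
    have h10 : g.1 1 0 = 0 := by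
      have : 2 * g.1 1 0 = 0 := by linear_combination h1.2 - h2.2
      rcases mul_eq_zero.1 this with h | h
      · exact absurd h hchar
      · exact h
    rw [h11, h10] at hd
    simp at hd
  have hinj : Function.Injective (fun g : Matrix.SpecialLinearGroup (Fin 2) F => n₀ * g) :=
    mul_right_injective n₀
  have h1 : C.ncard ≤ D.ncard := by
    rw [← Set.ncard_image_of_injective C hinj]
    exact Set.ncard_le_ncard hCD (Set.toFinite _)
  have h2 : D.ncard ≤ C.ncard := by
    rw [← Set.ncard_image_of_injective D hinj]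
    exact Set.ncard_le_ncard hDC (Set.toFinite _)
  have h3 : C.ncard = Nat.card (S F) := by
    rw [← Nat.card_coe_set_eq]
    exact Nat.card_congr equivC
  have h4 : Nat.card (Subgroup.normalizer
      ((Subgroup.zpowers (x₀ : Matrix.SpecialLinearGroup (Fin 2) F) :
        Subgroup (Matrix.SpecialLinearGroup (Fin 2) F)) : Set (Matrix.SpecialLinearGroup (Fin 2) F))) =
      (C ∪ D).ncard := by
    rw [← hN, ← Nat.card_coe_set_eq]
    rfl
  rw [h4, Set.ncard_union_eq hdisj (Set.toFinite _) (Set.toFinite _), ← h3]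
  omega

end norm3

section final
variable {F : Type*} [Field F] [Fintype F]

theorem conj_std (hodd : Fintype.card F % 2 = 1) (hchar : (2 : F) ≠ 0)
    (B : Subgroup (Matrix.SpecialLinearGroup (Fin 2) F)) (hB : Nat.card B = 4) :
    ∃ g : Matrix.SpecialLinearGroup (Fin 2) F,
      B = (Subgroup.zpowers (x₀ : Matrix.SpecialLinearGroup (Fin 2) F)).map
        (MulAut.conj g).toMonoidHom := by
  obtain ⟨x, hx, rfl⟩ := exists_gen hchar B hB
  obtain ⟨g, hg⟩ := exists_conj hodd hchar x hx
  refine ⟨g, ?_⟩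
  rw [MonoidHom.map_zpowers]
  congr 1
  change x = g * x₀ * g⁻¹
  rw [hg, mul_inv_cancel_right]

end final

theorem result {F : Type*} [Field F] [Fintype F] {q : ℕ} (hF : Fintype.card F = q) (hodd : Odd q) (A : Subgroup (Matrix.SpecialLinearGroup (Fin 2) F)) (hA : Nat.card A = 4) : (∀ B : Subgroup (Matrix.SpecialLinearGroup (Fin 2) F), Nat.card B = 4 → ∃ g : Matrix.SpecialLinearGroup (Fin 2) F, B = A.map (MulAut.conj g).toMonoidHom) ∧ (q % 4 = 1 → Nat.card ↥(Subgroup.normalizer (A : Set (Matrix.SpecialLinearGroup (Fin 2) F))) = 2 * (q - 1)) ∧ (q % 4 = 3 → Nat.card ↥(Subgroup.normalizer (A : Set (Matrix.SpecialLinearGroup (Fin 2) F))) = 2 * (q + 1)) ∧ (∀ x y : Matrix.ProjectiveSpecialLinearGroup (Fin 2) F, orderOf x = 2 → orderOf y = 2 → IsConj x y) := by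
  classical
  obtain ⟨p, hp⟩ := CharP.exists F
  have hprime : p.Prime := CharP.char_is_prime F p
  have hfact : Fact p.Prime := ⟨hprime⟩
  obtain ⟨k, -, hk⟩ := FiniteField.card F p
  have hqp : q = p ^ (k : ℕ) := by rw [← hF, hk]
  obtain ⟨t, ht⟩ := hodd
  have hp2 : p ≠ 2 := by
    rintro rfl
    have : 2 ∣ q := by rw [hqp]; exact dvd_pow_self 2 k.ne_zero
    omega
  have hchar : (2 : F) ≠ 0 := by
    intro h
    have h2 : ((2 : ℕ) : F) = 0 := by exact_mod_cast h
    rw [CharP.cast_eq_zero_iff F p 2] at h2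
    exact hp2 ((Nat.prime_dvd_prime_iff_eq hprime Nat.prime_two).1 h2)
  have hodd' : Fintype.card F % 2 = 1 := by rw [hF]; omega
  obtain ⟨g₁, hg₁⟩ := conj_std hodd' hchar A hA
  have hcardN : Nat.card ↥(Subgroup.normalizer (A : Set (Matrix.SpecialLinearGroup (Fin 2) F))) =
      2 * Nat.card (S F) := by
    rw [hg₁, ← Subgroup.map_equiv_normalizer_eq _ (MulAut.conj g₁),
      Subgroup.card_map_of_injective (MulAut.conj g₁).injective]
    exact card_normalizer hodd' hchar
  have hS := card_S (F := F) hchar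
  refine ⟨?_, ?_, ?_, ?_⟩
  · intro B hB
    obtain ⟨g₂, hg₂⟩ := conj_std hodd' hchar B hB
    refine ⟨g₂ * g₁⁻¹, ?_⟩
    rw [hg₂, hg₁, Subgroup.map_map]
    congr 1
    ext y
    simp only [MulEquiv.coe_toMonoidHom, MonoidHom.coe_comp, Function.comp_apply,
      MulAut.conj_apply]
    congr 1
    group
  · intro h4
    have hsq : IsSquare (-1 : F) := by
      rw [FiniteField.isSquare_neg_one_iff, hF]; omega
    obtain ⟨i, hi⟩ := hsq
    have := card_roots_of_sq hchar i (by rw [pow_two, ← hi])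
    rw [hcardN]
    rw [this, hF] at hS
    omega
  · intro h4
    have hsq : ¬ IsSquare (-1 : F) := by
      rw [FiniteField.isSquare_neg_one_iff, hF]; omega
    have := card_roots_of_not_sq hsq
    rw [hcardN]
    rw [this, hF] at hS
    omega
  · intro x y hx hy
    obtain ⟨x', rfl⟩ := QuotientGroup.mk_surjective x
    obtain ⟨y', rfl⟩ := QuotientGroup.mk_surjective y
    have hx' := lift_involution hchar x' hx
    have hy' := lift_involution hchar y' hy
    obtain ⟨a, ha⟩ := exists_conj hodd' hchar x' hx'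
    obtain ⟨b, hb⟩ := exists_conj hodd' hchar y' hy'
    rw [isConj_iff]
    refine ⟨QuotientGroup.mk (b * a⁻¹), ?_⟩
    have hxa : x' = a * x₀ * a⁻¹ := by rw [ha, mul_inv_cancel_right]
    have hyb : y' = b * x₀ * b⁻¹ := by rw [hb, mul_inv_cancel_right]
    have hconj : b * a⁻¹ * x' * (b * a⁻¹)⁻¹ = y' := by
      rw [hxa, hyb]; group
    rw [← hconj]
    rfl

end Cfsg.Agent.S0809
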