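import Cfsg.Statements.S0810
import Cfsg.Agent.H9.PSL2MinSimple

set_option autoImplicit false
open Cfsg

namespace Cfsg.Agent.S0810

/-- PSL_2(q) is minimal simple iff q is 2^r (r prime), 3^r (r an odd prime), a prime greater than 5 congruent to 2 or 3 mod 5, or 5. -/
theorem result {F : Type*} [Field F] [Fintype F] {q : ℕ} (hF : Fintype.card F = q) : Cfsg.IsMinimalSimple (Matrix.ProjectiveSpecialLinearGroup (Fin 2) F) ↔ ((∃ r : ℕ, r.Prime ∧ q = 2 ^ r) ∨ (∃ r : ℕ, r.Prime ∧ r ≠ 2 ∧ q = 3 ^ r) ∨ (q.Prime ∧ 5 < q ∧ (q % 5 = 2 ∨ q % 5 = 3)) ∨ q = 5) := by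
  classical
  subst hF
  obtain ⟨p, hpF⟩ := CharP.exists F
  have hpp : p.Prime := CharP.char_is_prime F p
  have : Fact p.Prime := ⟨hpp⟩
  obtain ⟨f, -, hf⟩ := FiniteField.card F p
  obtain ⟨q, hqdef⟩ : ∃ q, q = Fintype.card F := ⟨_, rfl⟩
  rw [← hqdef] at hf ⊢
  have hq1 : 1 < q := by rw [hqdef]; exact Fintype.one_lt_card
  have hG := Cfsg.Agent.H9.DicksonMax.card_PSL2_mul F
  rw [← hqdef] at hG
  obtain ⟨d, hd⟩ : ∃ d, d = Nat.gcd 2 (q - 1) := ⟨_, rfl⟩
  rw [← hd] at hG
  have hd12 : d = 1 ∨ d = 2 := by
    have h1 : d ∣ 2 := by rw [hd]; exact Nat.gcd_dvd_left _ _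
    have h2 := Nat.le_of_dvd (by norm_num) h1
    have h3 : 0 < d := by rw [hd]; exact Nat.gcd_pos_of_pos_left _ (by norm_num)
    omega
  have hdpos : 0 < d := by rcases hd12 with h | h <;> omega
  have hdodd : Odd q → d = 2 := by
    rintro ⟨t, ht⟩
    have : q - 1 = 2 * t := by omega
    rw [hd, this]; simp
  have hdeven : Even q → d = 1 := by
    rintro ⟨t, ht⟩
    have h1 : d ∣ q - 1 := by rw [hd]; exact Nat.gcd_dvd_right _ _
    rcases hd12 with h | h
    · exact h
    · exfalso
      rw [h] at h1
      obtain ⟨c, hc⟩ := h1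
      omega
  have hA5ns : ¬ Group.IsSolvable (alternatingGroup (Fin 5)) := by
    intro h
    have : IsSimpleGroup (alternatingGroup (Fin 5)) := alternatingGroup.isSimpleGroup (by simp)
    have hc := IsSimpleGroup.comm_iff_isSolvable.2 h
    exact Cfsg.Agent.H9.DicksonMax.a5_ne (hc _ _)
  constructor
  · -- minimal simple implies the list
    rintro ⟨hsimp, hnc, hsolv⟩
    -- `q ≥ 4`
    have hq4 : 4 ≤ q := by
      by_contra hcon
      have hq23 : q = 2 ∨ q = 3 := by omega
      have hs : Group.IsSolvable (Matrix.ProjectiveSpecialLinearGroup (Fin 2) F) := by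
        rcases hq23 with h | h
        · have hd1 := hdeven (by rw [h]; decide)
          rw [h, hd1] at hG
          apply Cfsg.Agent.S0144.result 2 3 1 1 Nat.prime_two Nat.prime_three
          omega
        · have hd2 := hdodd (by rw [h]; decide)
          rw [h, hd2] at hG
          apply Cfsg.Agent.S0144.result 2 3 2 1 Nat.prime_two Nat.prime_three
          omega
      have hc := IsSimpleGroup.comm_iff_isSolvable.2 hs
      exact hnc (IsMulCommutative.of_comm hc)
    have hq4' : 4 ≤ Fintype.card F := by rw [← hqdef]; exact hq4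
    -- subfield subgroups
    have hsub : ∀ j : ℕ, j ∣ (f : ℕ) → j < (f : ℕ) → 4 ≤ p ^ j → False := by
      intro j hjf hjlt hj4
      have hj0 : j ≠ 0 := by
        rintro rfl
        rw [pow_zero] at hj4; omega
      let _ : Fintype (GaloisField p j) := Fintype.ofFinite _
      have hcK : Fintype.card (GaloisField p j) = p ^ j := by
        rw [← Nat.card_eq_fintype_card, GaloisField.card p j hj0]
      obtain ⟨c, hc⟩ := hjf
      have hc1 : 1 ≤ c := by
        rcases Nat.eq_zero_or_pos c with h | h
        · rw [h, mul_zero] at hc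
          exact absurd hc f.ne_zero
        · exact h
      obtain ⟨ι⟩ := Cfsg.Agent.H9.SubfieldPSL2.exists_ringHom (F := F) (K := GaloisField p j) c hc1
        (by rw [hcK, ← hqdef, hf, hc, pow_mul])
      obtain ⟨H, ⟨e⟩⟩ := Cfsg.Agent.H9.SubfieldPSL2.exists_PSL2 ι
      have hHne : H ≠ ⊤ := by
        intro htop
        have h1 : Nat.card H = Nat.card (Matrix.ProjectiveSpecialLinearGroup (Fin 2) F) := by
          rw [htop, Subgroup.card_top]
        have h2 := Cfsg.Agent.H9.DicksonMax.card_PSL2_mul (GaloisField p j)
        rw [← Nat.card_congr e.toEquiv, h1, hcK] at h2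
        -- compare orders
        have hlt : p ^ j < q := by
          rw [hf]
          exact Nat.pow_lt_pow_right hpp.one_lt hjlt
        have h3 : Nat.card (Matrix.ProjectiveSpecialLinearGroup (Fin 2) F) * 2 ≤
            p ^ j * ((p ^ j) ^ 2 - 1) * 2 := by
          have hg : Nat.gcd 2 (p ^ j - 1) ≤ 2 :=
            Nat.le_of_dvd (by norm_num) (Nat.gcd_dvd_left _ _)
          have hgpos : 0 < Nat.gcd 2 (p ^ j - 1) := Nat.gcd_pos_of_pos_left _ (by norm_num)
          calc Nat.card (Matrix.ProjectiveSpecialLinearGroup (Fin 2) F) * 2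
              ≤ Nat.card (Matrix.ProjectiveSpecialLinearGroup (Fin 2) F) *
                  Nat.gcd 2 (p ^ j - 1) * 2 := by
                apply Nat.mul_le_mul_right
                exact Nat.le_mul_of_pos_right _ hgpos
            _ = p ^ j * ((p ^ j) ^ 2 - 1) * 2 := by rw [h2]
        have h4 : q * (q ^ 2 - 1) ≤ Nat.card (Matrix.ProjectiveSpecialLinearGroup (Fin 2) F) * 2 := by
          rw [← hG]
          exact Nat.mul_le_mul_left _ (by rcases hd12 with h | h <;> omega)
        have h5 : (p ^ j) ^ 2 < q ^ 2 := Nat.pow_lt_pow_left hlt (by norm_num)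
        have h6 : p ^ j * ((p ^ j) ^ 2 - 1) * 2 < q * (q ^ 2 - 1) := by
          have h7 : p ^ j * 2 ≤ q * 2 := by omega
          have h8 : (p ^ j) ^ 2 - 1 < q ^ 2 - 1 := by
            have : 1 ≤ (p ^ j) ^ 2 := Nat.one_le_pow _ _ (by omega)
            omega
          have h9 : 2 * (p ^ j) ≤ q * (p ^ j) := Nat.mul_le_mul_right _ (by omega)
          -- `q ≥ 2 p^j` fails in general; use `q ≥ p^j * p ≥ 2 p^j`
          have h10 : p ^ j * 2 ≤ q := by
            rw [hf, hc, pow_mul]
            calc p ^ j * 2 ≤ p ^ j * p ^ j := Nat.mul_le_mul_left _ (by omega)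
              _ = (p ^ j) ^ 2 := by ring
              _ ≤ (p ^ j) ^ c := by
                apply Nat.pow_le_pow_right (by omega)
                by_contra hcon
                have : c = 1 := by omega
                rw [this, mul_one] at hc
                omega
          calc p ^ j * ((p ^ j) ^ 2 - 1) * 2 = (p ^ j * 2) * ((p ^ j) ^ 2 - 1) := by ring
            _ ≤ q * ((p ^ j) ^ 2 - 1) := Nat.mul_le_mul_right _ h10
            _ < q * (q ^ 2 - 1) := Nat.mul_lt_mul_of_pos_left h8 (by omega)
        omega
      have hs := hsolv H hHne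
      exact Cfsg.Agent.H9.PSL2MinSimple.not_solvable_of_equiv e
        (Cfsg.Agent.H9.PSL2MinSimple.not_solvable (by rw [hcK]; exact hj4)) hs
    -- the `A₅` criterion
    have hA5 : 5 ∣ q * (q ^ 2 - 1) → 60 * d < q * (q ^ 2 - 1) → False := by
      intro h5 hlt
      obtain ⟨H, ⟨e⟩⟩ := (Cfsg.Agent.S0804.result (F := F) hqdef.symm).2 h5
      have hHne : H ≠ ⊤ := by
        intro htop
        have h1 : Nat.card H = Nat.card (Matrix.ProjectiveSpecialLinearGroup (Fin 2) F) := by
          rw [htop, Subgroup.card_top]
        have h2 : Nat.card H = 60 := by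
          rw [Nat.card_congr e.toEquiv, nat_card_alternatingGroup, Nat.card_eq_fintype_card,
            Fintype.card_fin]
          rfl
        rw [← h1, h2] at hG
        omega
      exact Cfsg.Agent.H9.PSL2MinSimple.not_solvable_of_equiv e hA5ns (hsolv H hHne)
    have hf1 : 1 ≤ (f : ℕ) := f.pos
    by_cases hp5 : 5 ≤ p
    · -- `p ≥ 5`: `f = 1`
      have hf1' : (f : ℕ) = 1 := by
        by_contra hcon
        apply hsub 1 (one_dvd _) (by omega)
        rw [pow_one]; omega
      rw [hf1', pow_one] at hf
      by_cases hq5 : q = 5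
      · right; right; right; exact hq5
      · right; right; left
        have hq7 : 7 ≤ q := by
          rw [hf]
          rcases Nat.lt_or_ge p 7 with h | h
          · have : p = 5 ∨ p = 6 := by omega
            rcases this with h' | h'
            · exfalso; apply hq5; rw [hf, h']
            · exfalso; rw [h'] at hpp; exact absurd hpp (by norm_num)
          · exact h
        refine ⟨by rw [hf]; exact hpp, by omega, ?_⟩
        by_contra hcon
        have hmod : q % 5 = 0 ∨ q % 5 = 1 ∨ q % 5 = 4 := by omega
        have hq0 : q % 5 ≠ 0 := by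
          intro h
          have : 5 ∣ q := Nat.dvd_of_mod_eq_zero h
          rw [hf] at this
          have := (Nat.prime_dvd_prime_iff_eq (by norm_num) hpp).1 this
          omega
        have h5 : 5 ∣ q ^ 2 - 1 := by
          have h1 : q ^ 2 % 5 = 1 := by
            rw [Nat.pow_mod]
            rcases hmod with h | h | h
            · exact absurd h hq0
            · rw [h]
            · rw [h]
          have h2 : 1 ≤ q ^ 2 := Nat.one_le_pow _ _ (by omega)
          omega
        apply hA5 (Dvd.dvd.mul_left h5 q)
        have h49 : 7 ^ 2 ≤ q ^ 2 := Nat.pow_le_pow_left hq7 2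
        have : 7 * 48 ≤ q * (q ^ 2 - 1) := Nat.mul_le_mul hq7 (by omega)
        rcases hd12 with h | h <;> omega
    · -- `p ∈ {2, 3}`
      have hp23 : p = 2 ∨ p = 3 := by
        have := hpp.two_le
        have h4 : p ≠ 4 := by
          rintro rfl
          exact absurd hpp (by norm_num)
        omega
      have hf2 : 2 ≤ (f : ℕ) := by
        by_contra hcon
        have : (f : ℕ) = 1 := by omega
        rw [this, pow_one] at hf
        rcases hp23 with h | h <;> omega
      have hfprime : (f : ℕ).Prime := by
        rw [Nat.prime_def]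
        refine ⟨hf2, fun j hj => ?_⟩
        by_contra hcon
        push Not at hcon
        have hj0 : j ≠ 0 := by
          rintro rfl
          rw [zero_dvd_iff] at hj
          exact f.ne_zero hj
        have hj2 : 2 ≤ j := by omega
        have hjlt : j < (f : ℕ) := lt_of_le_of_ne (Nat.le_of_dvd f.pos hj) hcon.2
        apply hsub j hj hjlt
        calc 4 = 2 ^ 2 := by norm_num
          _ ≤ p ^ 2 := Nat.pow_le_pow_left hpp.two_le 2
          _ ≤ p ^ j := Nat.pow_le_pow_right hpp.pos hj2
      rcases hp23 with h | h
      · left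
        exact ⟨f, hfprime, by rw [hf, h]⟩
      · right; left
        refine ⟨f, hfprime, ?_, by rw [hf, h]⟩
        intro hf2'
        rw [h, hf2'] at hf
        have hq9 : q = 9 := by rw [hf]; norm_num
        apply hA5
        · rw [hq9]; norm_num
        · rw [hq9]
          rcases hd12 with h | h <;> rw [h] <;> norm_num
  · -- the list implies minimal simple
    intro hlist
    -- the arithmetic consequences
    have hkey : 4 ≤ q ∧ (5 ∣ q * (q ^ 2 - 1) → q = 4 ∨ q = 5) ∧
        (∀ q0 m : ℕ, 1 < q0 → q0 ^ m = q → 2 ≤ m → q0 ≤ 3) := by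
      rcases hlist with ⟨r, hr, hqr⟩ | ⟨r, hr, hr2, hqr⟩ | ⟨hqp, hq5, hmod⟩ | hq5
      · -- `q = 2 ^ r`
        have hr2 := hr.two_le
        refine ⟨?_, ?_, ?_⟩
        · rw [hqr]
          calc 4 = 2 ^ 2 := by norm_num
            _ ≤ 2 ^ r := Nat.pow_le_pow_right (by norm_num) hr2
        · intro h5
          left
          rcases hr.eq_two_or_odd' with h2 | hodd
          · rw [hqr, h2]; norm_num
          · exfalso
            have h1 : (q ^ 2) % 5 = 4 := by
              rw [hqr, ← pow_mul]
              obtain ⟨k, hk⟩ := hodd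
              rw [hk]
              have : 2 ^ ((2 * k + 1) * 2) = 16 ^ k * 4 := by
                rw [mul_comm, pow_mul, pow_succ, pow_mul]; norm_num
              rw [this, Nat.mul_mod, Nat.pow_mod]
              norm_num
            have h2 : 1 ≤ q ^ 2 := Nat.one_le_pow _ _ (by omega)
            have h3 : ¬ 5 ∣ q ^ 2 - 1 := by omega
            have h4 : ¬ 5 ∣ q := by
              rw [hqr]
              intro h
              have := (Nat.Prime.dvd_of_dvd_pow (by norm_num) h)
              omega
            rcases (Nat.Prime.dvd_mul (by norm_num)).1 h5 with h | h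
            · exact h4 h
            · exact h3 h
        · intro q0 m hq0 hm hm2
          have hdv : q0 ∣ 2 ^ r := by
            rw [← hqr, ← hm]; exact dvd_pow_self q0 (by omega)
          obtain ⟨j, -, rfl⟩ := (Nat.dvd_prime_pow Nat.prime_two).1 hdv
          rw [hqr, ← pow_mul] at hm
          have hjm : j * m = r := Nat.pow_right_injective (le_refl 2) hm
          have hmr : m ∣ r := ⟨j, by rw [← hjm]; ring⟩
          rcases (Nat.dvd_prime hr).1 hmr with h | h
          · omega
          · rw [h] at hjm
            have : j = 1 := by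
              have : j * r = 1 * r := by rw [hjm, one_mul]
              exact Nat.eq_of_mul_eq_mul_right hr.pos this
            rw [this]; norm_num
      · -- `q = 3 ^ r`
        have hr2' := hr.two_le
        have hodd : Odd r := hr.odd_of_ne_two hr2
        refine ⟨?_, ?_, ?_⟩
        · rw [hqr]
          calc 4 ≤ 3 ^ 2 := by norm_num
            _ ≤ 3 ^ r := Nat.pow_le_pow_right (by norm_num) hr2'
        · intro h5
          exfalso
          have h1 : (q ^ 2) % 5 = 4 := by
            rw [hqr, ← pow_mul]
            obtain ⟨k, hk⟩ := hodd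
            rw [hk]
            have : 3 ^ ((2 * k + 1) * 2) = 81 ^ k * 9 := by
              rw [mul_comm, pow_mul, pow_succ, pow_mul]; norm_num
            rw [this, Nat.mul_mod, Nat.pow_mod]
            norm_num
          have h2 : 1 ≤ q ^ 2 := Nat.one_le_pow _ _ (by omega)
          have h3 : ¬ 5 ∣ q ^ 2 - 1 := by omega
          have h4 : ¬ 5 ∣ q := by
            rw [hqr]
            intro h
            have := (Nat.Prime.dvd_of_dvd_pow (by norm_num) h)
            omega
          rcases (Nat.Prime.dvd_mul (by norm_num)).1 h5 with h | h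
          · exact h4 h
          · exact h3 h
        · intro q0 m hq0 hm hm2
          have hdv : q0 ∣ 3 ^ r := by
            rw [← hqr, ← hm]; exact dvd_pow_self q0 (by omega)
          obtain ⟨j, -, rfl⟩ := (Nat.dvd_prime_pow Nat.prime_three).1 hdv
          rw [hqr, ← pow_mul] at hm
          have hjm : j * m = r := Nat.pow_right_injective (by norm_num : 2 ≤ 3) hm
          have hmr : m ∣ r := ⟨j, by rw [← hjm]; ring⟩
          rcases (Nat.dvd_prime hr).1 hmr with h | h
          · omega
          · rw [h] at hjm
            have : j = 1 := by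
              have : j * r = 1 * r := by rw [hjm, one_mul]
              exact Nat.eq_of_mul_eq_mul_right hr.pos this
            rw [this]; norm_num
      · -- `q` prime
        refine ⟨by omega, ?_, ?_⟩
        · intro h5
          exfalso
          have h1 : (q ^ 2) % 5 = 4 := by
            rw [Nat.pow_mod]
            rcases hmod with h | h <;> rw [h]
          have h2 : 1 ≤ q ^ 2 := Nat.one_le_pow _ _ (by omega)
          have h3 : ¬ 5 ∣ q ^ 2 - 1 := by omega
          have h4 : ¬ 5 ∣ q := by omega
          rcases (Nat.Prime.dvd_mul (by norm_num)).1 h5 with h | h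
          · exact h4 h
          · exact h3 h
        · intro q0 m hq0 hm hm2
          exfalso
          have hdv : q0 ∣ q := by rw [← hm]; exact dvd_pow_self q0 (by omega)
          rcases (Nat.dvd_prime hqp).1 hdv with h | h
          · omega
          · rw [h] at hm
            have : q ^ m = q ^ 1 := by rw [hm, pow_one]
            have := Nat.pow_right_injective hqp.two_le this
            omega
      · -- `q = 5`
        refine ⟨by omega, fun _ => Or.inr hq5, ?_⟩
        intro q0 m hq0 hm hm2
        exfalso
        have hqp : q.Prime := by rw [hq5]; norm_num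
        have hdv : q0 ∣ q := by rw [← hm]; exact dvd_pow_self q0 (by omega)
        rcases (Nat.dvd_prime hqp).1 hdv with h | h
        · omega
        · rw [h] at hm
          have : q ^ m = q ^ 1 := by rw [hm, pow_one]
          have := Nat.pow_right_injective hqp.two_le this
          omega
    obtain ⟨hq4, hA5, hsubf⟩ := hkey
    refine ⟨Cfsg.Agent.H9.PSL2MinSimple.isSimple (by rw [← hqdef]; exact hq4),
      Cfsg.Agent.H9.PSL2MinSimple.not_comm, ?_⟩
    intro H hH
    have hHne : Nat.card H ≠ Nat.card (Matrix.ProjectiveSpecialLinearGroup (Fin 2) F) := by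
      intro h
      exact hH (Subgroup.eq_top_of_card_eq H h)
    have hHdvd : Nat.card H ∣ Nat.card (Matrix.ProjectiveSpecialLinearGroup (Fin 2) F) :=
      Subgroup.card_subgroup_dvd_card H
    rcases Cfsg.Agent.H9.DicksonUN.dickson q p hqdef.symm H with
      ⟨k, hk, ⟨hc, hck⟩ | ⟨⟨e⟩⟩⟩ | ⟨P, K', hK', ⟨e⟩⟩ | ⟨⟨e⟩⟩ | ⟨⟨e⟩⟩ | ⟨⟨e⟩⟩ |
      ⟨K', i1, i2, m, hm, ⟨⟨e⟩⟩ | ⟨⟨e⟩⟩⟩
    · -- cyclic
      have := hc
      let _ : CommGroup H := IsCyclic.commGroup
      infer_instance
    · -- dihedral
      have := Cfsg.Agent.H9.PSL2MinSimple.isSolvable_dihedral k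
      exact Group.isSolvable_of_isSolvable_injective (f := e.toMonoidHom) e.injective
    · -- Borel type
      obtain ⟨g, hg⟩ := Cfsg.Agent.H9.PSL2Borel.sylow_normalizer_le_BorC p P
      have := Cfsg.Agent.H9.PSL2Borel.isSolvable_BorC (F := F) g
      exact Group.isSolvable_of_isSolvable_injective
        (f := (Subgroup.inclusion (hK'.trans hg)).comp e.toMonoidHom)
        ((Subgroup.inclusion_injective (hK'.trans hg)).comp e.injective)
    · -- A4
      apply Cfsg.Agent.S0144.result 2 3 2 1 Nat.prime_two Nat.prime_three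
      rw [Nat.card_congr e.toEquiv, nat_card_alternatingGroup, Nat.card_eq_fintype_card,
        Fintype.card_fin]
      rfl
    · -- S4
      apply Cfsg.Agent.S0144.result 2 3 3 1 Nat.prime_two Nat.prime_three
      rw [Nat.card_congr e.toEquiv, Nat.card_eq_fintype_card, Fintype.card_perm,
        Fintype.card_fin]
      rfl
    · -- A5
      exfalso
      have hL : Nat.card H = 60 := by
        rw [Nat.card_congr e.toEquiv, nat_card_alternatingGroup, Nat.card_eq_fintype_card,
          Fintype.card_fin]
        rfl
      rw [hL] at hHdvd hHne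
      have h5 : 5 ∣ q * (q ^ 2 - 1) := by
        rw [← hG]
        exact Dvd.dvd.mul_right ((by norm_num : 5 ∣ 60).trans hHdvd) d
      apply hHne
      rcases hA5 h5 with h | h
      · have := hdeven (by rw [h]; decide)
        rw [h, this] at hG; omega
      · have := hdodd (by rw [h]; decide)
        rw [h, this] at hG; omega
    · -- PSL₂(K')
      obtain ⟨q0, hq0⟩ : ∃ q0, q0 = Fintype.card K' := ⟨_, rfl⟩
      have hK1 : 1 < q0 := by rw [hq0]; exact Fintype.one_lt_card
      have hcL := Cfsg.Agent.H9.DicksonMax.card_PSL2_mul K'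
      rw [← Nat.card_congr e.toEquiv, ← hq0] at hcL
      rw [← hq0] at hm
      have hm0 : m ≠ 0 := by
        rintro rfl
        rw [pow_zero] at hm; omega
      have hm2 : 2 ≤ m := by
        by_contra hcon
        have hm1 : m = 1 := by omega
        rw [hm1, pow_one] at hm
        rw [hm, ← hd] at hcL
        apply hHne
        exact Nat.eq_of_mul_eq_mul_right hdpos (hcL.trans hG.symm)
      have hq03 := hsubf q0 m hK1 hm hm2
      have : q0 = 2 ∨ q0 = 3 := by omega
      rcases this with h | h
      · rw [h] at hcL
        apply Cfsg.Agent.S0144.result 2 3 1 1 Nat.prime_two Nat.prime_three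
        have : Nat.gcd 2 (2 - 1) = 1 := by norm_num
        rw [this] at hcL
        omega
      · rw [h] at hcL
        apply Cfsg.Agent.S0144.result 2 3 2 1 Nat.prime_two Nat.prime_three
        have : Nat.gcd 2 (3 - 1) = 2 := by norm_num
        rw [this] at hcL
        omega
    · -- PGL₂(K')
      obtain ⟨q0, hq0⟩ : ∃ q0, q0 = Fintype.card K' := ⟨_, rfl⟩
      have hK1 : 1 < q0 := by rw [hq0]; exact Fintype.one_lt_card
      have hcL : Nat.card H = q0 * (q0 ^ 2 - 1) := by
        rw [Nat.card_congr e.toEquiv, Cfsg.Agent.S0265.result,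
          Cfsg.Agent.H9.SubfieldPSL2.card_SL2_all, hq0]
      rw [← hq0] at hm
      have hm0 : m ≠ 0 := by
        rintro rfl
        rw [pow_zero] at hm; omega
      have hm2 : 2 ≤ m := by
        by_contra hcon
        have hm1 : m = 1 := by omega
        rw [hm1, pow_one] at hm
        rw [hm] at hcL
        rw [← hcL] at hG
        rcases hd12 with h1 | h2
        · rw [h1, mul_one] at hG
          exact hHne hG.symm
        · rw [h2] at hG
          have := Nat.le_of_dvd Nat.card_pos hHdvd
          have hpos : 0 < Nat.card H := Nat.card_pos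
          omega
      have hq03 := hsubf q0 m hK1 hm hm2
      have : q0 = 2 ∨ q0 = 3 := by omega
      rcases this with h | h
      · rw [h] at hcL
        apply Cfsg.Agent.S0144.result 2 3 1 1 Nat.prime_two Nat.prime_three
        omega
      · rw [h] at hcL
        apply Cfsg.Agent.S0144.result 2 3 3 1 Nat.prime_two Nat.prime_three
        omega

end Cfsg.Agent.S0810
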