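import Cfsg.Statements.S0811
import Cfsg.Agent.H9.PSL2MaxDih

set_option autoImplicit false
open Cfsg

namespace Cfsg.Agent.S0811

/-- For q ∉ {2, 7, 9}, PSL_2(q) has a maximal subgroup isomorphic to the dihedral group of order 2(q + 1)/d, d = gcd(2, q − 1). -/
theorem result {F : Type*} [Field F] [Fintype F] {q : ℕ} (hF : Fintype.card F = q) (hq : q ∉ ({2, 7, 9} : Finset ℕ)) : ∃ H : Subgroup (Matrix.ProjectiveSpecialLinearGroup (Fin 2) F), IsCoatom H ∧ Nonempty (H ≃* DihedralGroup ((q + 1) / Nat.gcd 2 (q - 1))) := by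
  classical
  have hq' : q ≠ 2 ∧ q ≠ 7 ∧ q ≠ 9 := by
    simpa using hq
  obtain ⟨hq2, hq7, hq9⟩ := hq'
  obtain ⟨p, hpF⟩ := CharP.exists F
  have hpp : p.Prime := CharP.char_is_prime F p
  have : Fact p.Prime := ⟨hpp⟩
  obtain ⟨H, ⟨e0⟩⟩ := Cfsg.Agent.H9.PSL2Tori.exists_dihedral_plus (F := F)
  rw [hF] at e0
  have hq1 : 1 < q := by rw [← hF]; exact Fintype.one_lt_card
  obtain ⟨d, hd⟩ : ∃ d, d = Nat.gcd 2 (q - 1) := ⟨_, rfl⟩
  rw [← hd] at e0 ⊢
  have hd12 : d = 1 ∨ d = 2 := by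
    have h1 : d ∣ 2 := by rw [hd]; exact Nat.gcd_dvd_left _ _
    have h2 := Nat.le_of_dvd (by norm_num) h1
    have h3 : 0 < d := by rw [hd]; exact Nat.gcd_pos_of_pos_left _ (by norm_num)
    omega
  have hdpos : 0 < d := by rcases hd12 with h | h <;> omega
  have hdvd : d ∣ q + 1 := by
    have h1 : d ∣ q - 1 := by rw [hd]; exact Nat.gcd_dvd_right _ _
    have h2 : d ∣ 2 := by rw [hd]; exact Nat.gcd_dvd_left _ _
    have : q + 1 = (q - 1) + 2 := by omega
    rw [this]; exact dvd_add h1 h2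
  obtain ⟨a, ha⟩ : ∃ a, a = (q + 1) / d := ⟨_, rfl⟩
  rw [← ha] at e0 ⊢
  have had : a * d = q + 1 := by rw [ha]; exact Nat.div_mul_cancel hdvd
  have ha2 : 2 ≤ a := by
    rcases hd12 with h | h
    · rw [h] at had; omega
    · rw [h] at had
      have hd2 : 2 ∣ q - 1 := by
        have : d ∣ q - 1 := by rw [hd]; exact Nat.gcd_dvd_right _ _
        rwa [h] at this
      obtain ⟨c, hc⟩ := hd2
      omega
  have : NeZero a := ⟨by omega⟩
  have hH : Nat.card H = 2 * a := by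
    rw [Nat.card_congr e0.toEquiv, DihedralGroup.nat_card]
  refine ⟨H, ?_, ⟨e0⟩⟩
  apply Cfsg.Agent.H9.DicksonMax.isCoatom_of
  · intro htop
    rw [htop, Subgroup.card_top] at hH
    have hG := Cfsg.Agent.H9.DicksonMax.card_PSL2_mul F
    rw [hF, ← hd, hH] at hG
    have e2 : q ^ 2 - 1 = (q - 1) * (q + 1) := by
      obtain ⟨r, hr⟩ : ∃ r, q = r + 1 := ⟨q - 1, by omega⟩
      rw [hr, Nat.add_sub_cancel]
      have : (r + 1) ^ 2 = r * (r + 1 + 1) + 1 := by ring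
      rw [this, Nat.add_sub_cancel]
    rw [e2] at hG
    have h1 : 2 * (q + 1) = (q * (q - 1)) * (q + 1) := by
      calc 2 * (q + 1) = 2 * (a * d) := by rw [had]
        _ = 2 * a * d := by ring
        _ = q * ((q - 1) * (q + 1)) := hG
        _ = _ := by ring
    have h2 : 2 = q * (q - 1) := Nat.eq_of_mul_eq_mul_right (by omega) h1
    have h3 : 3 * 2 ≤ q * (q - 1) := Nat.mul_le_mul (by omega) (by omega)
    omega
  · intro L hle hL
    exact Cfsg.Agent.H9.PSL2MaxDih.overgroup p q d a hF hd ha2 (Or.inl ⟨had, hq2, hq7, hq9⟩) H e0 L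
      hle hL

end Cfsg.Agent.S0811
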