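import Cfsg.Statements.S0812
import Cfsg.Agent.H9.PSL2MaxDih

set_option autoImplicit false
open Cfsg

namespace Cfsg.Agent.S0812

/-- For q ∉ {2, 3, 5, 7, 9, 11}, PSL_2(q) has a maximal subgroup isomorphic to the dihedral group of order 2(q − 1)/d, d = gcd(2, q − 1). -/
theorem result {F : Type*} [Field F] [Fintype F] {q : ℕ} (hF : Fintype.card F = q) (hq : q ∉ ({2, 3, 5, 7, 9, 11} : Finset ℕ)) : ∃ H : Subgroup (Matrix.ProjectiveSpecialLinearGroup (Fin 2) F), IsCoatom H ∧ Nonempty (H ≃* DihedralGroup ((q - 1) / Nat.gcd 2 (q - 1))) := by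
  classical
  have hq' : q ≠ 2 ∧ q ≠ 3 ∧ q ≠ 5 ∧ q ≠ 7 ∧ q ≠ 9 ∧ q ≠ 11 := by
    simpa using hq
  obtain ⟨hq2, hq3, hq5, hq7, hq9, hq11⟩ := hq'
  obtain ⟨p, hpF⟩ := CharP.exists F
  have hpp : p.Prime := CharP.char_is_prime F p
  have : Fact p.Prime := ⟨hpp⟩
  have hq1 : 1 < q := by rw [← hF]; exact Fintype.one_lt_card
  have hq4 : 4 ≤ Fintype.card F := by rw [hF]; omega
  obtain ⟨H, ⟨e0⟩⟩ := Cfsg.Agent.H9.PSL2Tori.exists_dihedral_minus (F := F) hq4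
  rw [hF] at e0 hq4
  obtain ⟨d, hd⟩ : ∃ d, d = Nat.gcd 2 (q - 1) := ⟨_, rfl⟩
  rw [← hd] at e0 ⊢
  have hd12 : d = 1 ∨ d = 2 := by
    have h1 : d ∣ 2 := by rw [hd]; exact Nat.gcd_dvd_left _ _
    have h2 := Nat.le_of_dvd (by norm_num) h1
    have h3 : 0 < d := by rw [hd]; exact Nat.gcd_pos_of_pos_left _ (by norm_num)
    omega
  have hdpos : 0 < d := by rcases hd12 with h | h <;> omega
  have hdvd : d ∣ q - 1 := by rw [hd]; exact Nat.gcd_dvd_right _ _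
  obtain ⟨a, ha⟩ : ∃ a, a = (q - 1) / d := ⟨_, rfl⟩
  rw [← ha] at e0 ⊢
  have had : a * d = q - 1 := by rw [ha]; exact Nat.div_mul_cancel hdvd
  have ha2 : 2 ≤ a := by
    rcases hd12 with h | h
    · rw [h] at had; omega
    · rw [h] at had; omega
  have : NeZero a := ⟨by omega⟩
  have hH : Nat.card H = 2 * a := by
    rw [Nat.card_congr e0.toEquiv, DihedralGroup.nat_card]
  refine ⟨H, ?_, ⟨e0⟩⟩
  apply Cfsg.Agent.H9.DicksonMax.isCoatom_of
  · intro htop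
    rw [htop, Subgroup.card_top] at hH
    have hG := Cfsg.Agent.H9.DicksonMax.card_PSL2_mul F
    rw [hF, ← hd, hH] at hG
    have e2 : q ^ 2 - 1 = (q - 1) * (q + 1) := by
      obtain ⟨r, hr⟩ : ∃ r, q = r + 1 := ⟨q - 1, by omega⟩
      rw [hr, Nat.add_sub_cancel]
      have : (r + 1) ^ 2 = r * (r + 1 + 1) + 1 := by ring
      rw [this, Nat.add_sub_cancel]
    rw [e2] at hG
    have h1 : 2 * (q - 1) = (q * (q + 1)) * (q - 1) := by
      calc 2 * (q - 1) = 2 * (a * d) := by rw [had]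
        _ = 2 * a * d := by ring
        _ = q * ((q - 1) * (q + 1)) := hG
        _ = _ := by ring
    have h2 : 2 = q * (q + 1) := Nat.eq_of_mul_eq_mul_right (by omega) h1
    have h3 : 4 * 5 ≤ q * (q + 1) := Nat.mul_le_mul (by omega) (by omega)
    omega
  · intro L hle hL
    exact Cfsg.Agent.H9.PSL2MaxDih.overgroup p q d a hF hd ha2
      (Or.inr ⟨had, hq2, hq3, hq5, hq7, hq9, hq11⟩) H e0 L hle hL

end Cfsg.Agent.S0812
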