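import Cfsg.Statements.S0819

set_option autoImplicit false
open Cfsg

namespace Cfsg.Agent.S0819

open Polynomial Matrix

section Gen

variable {F : Type*} [Field F]

/-- if the characteristic polynomial divides `X^N - c` then `M^N = c • 1` -/
theorem pow_eq_of_charpoly_dvd {n : Type*} [Fintype n] [DecidableEq n] (M : Matrix n n F)
    (N : ℕ) (c : F) (h : M.charpoly ∣ X ^ N - C c) : M ^ N = c • (1 : Matrix n n F) := by
  obtain ⟨g, hg⟩ := h
  have h1 := congrArg (aeval M) hg
  rw [map_mul, Matrix.aeval_self_charpoly, zero_mul, map_sub, map_pow, aeval_X,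
    aeval_C, Algebra.algebraMap_eq_smul_one] at h1
  exact sub_eq_zero.1 h1

/-- the number of elements of `F[X]/(q)` -/
theorem card_adjoinRoot [Fintype F] {q : F[X]} (hm : q.Monic) :
    Nat.card (AdjoinRoot q) = Fintype.card F ^ q.natDegree := by
  have hne := hm.ne_zero
  set pb := AdjoinRoot.powerBasis hne with hpb
  have hfin : Module.Finite F (AdjoinRoot q) := pb.finite
  rw [Module.natCard_eq_pow_finrank (K := F), pb.finrank, AdjoinRoot.powerBasis_dim,
    Nat.card_eq_fintype_card]

/-- the norm of the root of an irreducible monic quadratic is its constant coefficient -/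
theorem root_pow_card_add_one [Fintype F] {q : F[X]} (hm : q.Monic) (hd : q.natDegree = 2)
    (hirr : Irreducible q) :
    (AdjoinRoot.root q) ^ (Fintype.card F + 1) = AdjoinRoot.of q (q.coeff 0) := by
  have : Fact (Irreducible q) := ⟨hirr⟩
  have hne := hm.ne_zero
  set pb := AdjoinRoot.powerBasis hne with hpb
  have hfin : Module.Finite F (AdjoinRoot q) := pb.finite
  have hfinK : Finite (AdjoinRoot q) := Module.finite_of_finite F
  have h1 := FiniteField.algebraMap_norm_eq_pow (K := F) (K' := AdjoinRoot q)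
    (x := AdjoinRoot.root q)
  have hcard : Nat.card (AdjoinRoot q) = Fintype.card F ^ 2 := by
    rw [card_adjoinRoot hm, hd]
  have hq : 2 ≤ Fintype.card F := Fintype.one_lt_card
  have hdiv : (Nat.card (AdjoinRoot q) - 1) / (Nat.card F - 1) = Fintype.card F + 1 := by
    rw [hcard, Nat.card_eq_fintype_card]
    obtain ⟨k, hk⟩ : ∃ k, Fintype.card F = k + 2 := ⟨Fintype.card F - 2, by omega⟩
    rw [hk]
    have e1 : (k + 2) ^ 2 - 1 = (k + 1) * (k + 2 + 1) := by
      have : (k + 2) ^ 2 = (k + 1) * (k + 2 + 1) + 1 := by ring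
      rw [this, Nat.add_sub_cancel]
    have e2 : k + 2 - 1 = k + 1 := by omega
    rw [e1, e2]
    exact Nat.mul_div_cancel_left _ (by omega)
  rw [hdiv] at h1
  rw [← h1]
  have h2 := Algebra.PowerBasis.norm_gen_eq_coeff_zero_minpoly pb
  rw [hpb, AdjoinRoot.powerBasis_gen, AdjoinRoot.powerBasis_dim, hd,
    AdjoinRoot.minpoly_root hne, hm.leadingCoeff, inv_one, map_one, mul_one] at h2
  rw [h2]
  simp

end Gen

section Four

variable {F : Type*} [Field F] [Fintype F]

theorem two_eq_zero (hF : Fintype.card F = 4) : (2 : F) = 0 := by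
  have h := Nat.cast_card_eq_zero F
  rw [hF] at h
  have h4 : (2 : F) * 2 = 0 := by
    rw [← h]
    norm_num
  exact mul_self_eq_zero.1 h4

theorem cube_eq_one (hF : Fintype.card F = 4) (x : F) (hx : x ≠ 0) : x ^ 3 = 1 := by
  have := FiniteField.pow_card_sub_one_eq_one x hx
  rwa [hF] at this

theorem X_sub_C_dvd (hF : Fintype.card F = 4) (x : F) (hx : x ≠ 0) :
    (X - C x : F[X]) ∣ X ^ 3 - 1 := by
  rw [dvd_iff_isRoot]
  simp [IsRoot, cube_eq_one hF x hx]

/-- the key dichotomy for matrices of order dividing 45 in `SL₃(4)` -/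
theorem key (hF : Fintype.card F = 4) (M : Matrix (Fin 3) (Fin 3) F) (hdet : M.det = 1)
    (h45 : M ^ 45 = 1) :
    M ^ 9 = 1 ∨ ∃ c : F, M ^ 5 = c • (1 : Matrix (Fin 3) (Fin 3) F) := by
  have h2 : (2 : F) = 0 := two_eq_zero hF
  set χ := M.charpoly with hχ
  have hmon : χ.Monic := M.charpoly_monic
  have hdeg : χ.natDegree = 3 := by
    rw [hχ, Matrix.charpoly_natDegree_eq_dim]
    simp
  have hc0 : χ.coeff 0 = 1 := by
    have h := Matrix.det_eq_sign_charpoly_coeff M
    rw [hdet, Fintype.card_fin] at h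
    linear_combination (-1 : F) * h + χ.coeff 0 * h2
  have hnz : ∀ x : F, χ.IsRoot x → x ≠ 0 := by
    rintro x hx rfl
    have h0 : χ.eval 0 = 0 := hx
    rw [← coeff_zero_eq_eval_zero, hc0] at h0
    exact one_ne_zero h0
  by_cases hirr : Irreducible χ
  · left
    have : Fact (Irreducible χ) := ⟨hirr⟩
    have hdvd45 : χ ∣ X ^ 45 - 1 := by
      have hmin : minpoly F M ∣ X ^ 45 - 1 := minpoly.dvd F M (by simp [h45])
      have hmin2 : minpoly F M ∣ χ := Matrix.minpoly_dvd_charpoly M
      obtain ⟨r, hr⟩ := hmin2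
      rcases hirr.isUnit_or_isUnit hr with h | h
      · exact absurd h (minpoly.not_isUnit F M)
      · have : χ ∣ minpoly F M := by
          rw [hr]
          exact (IsUnit.mul_right_dvd h).2 dvd_rfl
        exact this.trans hmin
    have hα45 : (AdjoinRoot.root χ) ^ 45 = 1 := by
      have := AdjoinRoot.mk_eq_zero.2 hdvd45
      rw [map_sub, map_pow, AdjoinRoot.mk_X, map_one] at this
      exact sub_eq_zero.1 this
    have hα0 : AdjoinRoot.root χ ≠ 0 := by
      intro h
      rw [h, zero_pow (by norm_num)] at hα45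
      exact zero_ne_one hα45
    have hα63 : (AdjoinRoot.root χ) ^ 63 = 1 := by
      have hfin : Module.Finite F (AdjoinRoot χ) := (AdjoinRoot.powerBasis hmon.ne_zero).finite
      have hfinK : Finite (AdjoinRoot χ) := Module.finite_of_finite F
      let _ : Fintype (AdjoinRoot χ) := Fintype.ofFinite _
      have h := FiniteField.pow_card_sub_one_eq_one (AdjoinRoot.root χ) hα0
      rw [← Nat.card_eq_fintype_card, card_adjoinRoot hmon, hdeg, hF] at h
      exact h
    have hα9 : (AdjoinRoot.root χ) ^ 9 = 1 := by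
      have h135 : (AdjoinRoot.root χ) ^ 135 = 1 := by
        rw [show 135 = 45 * 3 from rfl, pow_mul, hα45, one_pow]
      have h126 : (AdjoinRoot.root χ) ^ 126 = 1 := by
        rw [show 126 = 63 * 2 from rfl, pow_mul, hα63, one_pow]
      calc (AdjoinRoot.root χ) ^ 9 = (AdjoinRoot.root χ) ^ 9 * (AdjoinRoot.root χ) ^ 126 := by
            rw [h126, mul_one]
        _ = (AdjoinRoot.root χ) ^ 135 := by rw [← pow_add]
        _ = 1 := h135
    have hdvd9 : χ ∣ X ^ 9 - C 1 := by
      rw [← AdjoinRoot.mk_eq_zero, map_sub, map_pow, AdjoinRoot.mk_X, map_one, map_one, hα9,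
        sub_self]
    have := pow_eq_of_charpoly_dvd M 9 1 hdvd9
    rw [one_smul] at this
    exact this
  · rw [irreducible_iff_roots_eq_zero_of_degree_le_three (by omega) (by omega)] at hirr
    obtain ⟨lam, hlam⟩ := Multiset.exists_mem_of_ne_zero hirr
    have hroot : χ.IsRoot lam := (mem_roots hmon.ne_zero).1 hlam
    have hlam0 : lam ≠ 0 := hnz lam hroot
    have hlam3 := cube_eq_one hF lam hlam0
    set q := χ /ₘ (X - C lam) with hq
    have hχq : (X - C lam) * q = χ := mul_divByMonic_eq_iff_isRoot.2 hroot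
    have hqmon : q.Monic := (monic_X_sub_C lam).of_mul_monic_left (hχq ▸ hmon)
    have hqdeg : q.natDegree = 2 := by
      have := congrArg natDegree hχq
      rw [(monic_X_sub_C lam).natDegree_mul hqmon, natDegree_X_sub_C, hdeg] at this
      omega
    have hqc : lam * q.coeff 0 = 1 := by
      have h := congrArg (fun p => p.coeff 0) hχq
      simp only [mul_coeff_zero, coeff_sub, coeff_X_zero, coeff_C_zero, hc0] at h
      linear_combination (-1 : F) * h - h2
    by_cases hqirr : Irreducible q
    · right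
      refine ⟨q.coeff 0, pow_eq_of_charpoly_dvd M 5 _ ?_⟩
      rw [← hχ, ← hχq]
      have hc : q.coeff 0 = lam ^ 2 := by
        have : lam * q.coeff 0 = lam * lam ^ 2 := by
          rw [hqc, ← hlam3]
          ring
        exact mul_left_cancel₀ hlam0 this
      have hd1 : X - C lam ∣ X ^ 5 - C (q.coeff 0) := by
        rw [dvd_iff_isRoot]
        simp only [IsRoot, eval_sub, eval_pow, eval_X, eval_C, hc]
        linear_combination lam ^ 2 * hlam3
      have hd2 : q ∣ X ^ 5 - C (q.coeff 0) := by
        have : Fact (Irreducible q) := ⟨hqirr⟩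
        rw [← AdjoinRoot.mk_eq_zero, map_sub, map_pow, AdjoinRoot.mk_X, AdjoinRoot.mk_C]
        have := root_pow_card_add_one hqmon hqdeg hqirr
        rw [hF] at this
        rw [this, sub_self]
      have hcop : IsCoprime q (X - C lam) := by
        rw [hqirr.coprime_iff_not_dvd]
        intro hdvd
        have := natDegree_le_of_dvd hdvd (X_sub_C_ne_zero lam)
        rw [hqdeg, natDegree_X_sub_C] at this
        omega
      exact hcop.symm.mul_dvd hd1 hd2
    · left
      rw [irreducible_iff_roots_eq_zero_of_degree_le_three (by omega) (by omega)] at hqirr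
      obtain ⟨mu, hmu⟩ := Multiset.exists_mem_of_ne_zero hqirr
      have hrootq : q.IsRoot mu := (mem_roots hqmon.ne_zero).1 hmu
      set r := q /ₘ (X - C mu) with hr
      have hqr : (X - C mu) * r = q := mul_divByMonic_eq_iff_isRoot.2 hrootq
      have hrmon : r.Monic := (monic_X_sub_C mu).of_mul_monic_left (hqr ▸ hqmon)
      have hrdeg : r.natDegree = 1 := by
        have := congrArg natDegree hqr
        rw [(monic_X_sub_C mu).natDegree_mul hrmon, natDegree_X_sub_C, hqdeg] at this
        omega
      have hr' : r = X - C (-r.coeff 0) := by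
        rw [map_neg, sub_neg_eq_add]
        exact hrmon.eq_X_add_C hrdeg
      set nu := -r.coeff 0 with hnu
      have hmuχ : χ.IsRoot mu := by
        rw [← hχq, IsRoot, eval_mul, hrootq, mul_zero]
      have hnuχ : χ.IsRoot nu := by
        rw [← hχq, ← hqr, hr']
        simp [IsRoot]
      have e1 := X_sub_C_dvd hF lam hlam0
      have e2 := X_sub_C_dvd hF mu (hnz mu hmuχ)
      have e3 := X_sub_C_dvd hF nu (hnz nu hnuχ)
      have h12 : χ ∣ X ^ 12 - C 1 := by
        have hfac : χ = (X - C lam) * ((X - C mu) * (X - C nu)) := by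
          rw [← hχq, ← hqr, ← hr']
        have hpoly2 : (2 : F[X]) = 0 := by
          have h : (2 : F[X]) = C (2 : F) := (map_ofNat C 2).symm
          rw [h, h2, map_zero]
        have h4 : (X ^ 12 - C 1 : F[X]) = (X ^ 3 - 1) * ((X ^ 3 - 1) * (X ^ 3 - 1)) * (X ^ 3 - 1) := by
          rw [map_one]
          linear_combination (2 * X ^ 9 - 3 * X ^ 6 + 2 * X ^ 3 - 1) * hpoly2
        rw [h4, hfac]
        exact Dvd.dvd.mul_right (mul_dvd_mul e1 (mul_dvd_mul e2 e3)) _
      have hM12 := pow_eq_of_charpoly_dvd M 12 1 h12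
      rw [one_smul] at hM12
      have hM3 : M ^ 3 = 1 := by
        calc M ^ 3 = M ^ 3 * M ^ 45 := by rw [h45, mul_one]
          _ = (M ^ 12) ^ 4 := by rw [← pow_add, ← pow_mul]
          _ = 1 := by rw [hM12, one_pow]
      rw [show 9 = 3 * 3 from rfl, pow_mul, hM3, one_pow]

end Four

/-- No element of PSL_3(4) has order 15. -/
theorem result {F : Type*} [Field F] [Fintype F] (hF : Fintype.card F = 4) (g : Matrix.ProjectiveSpecialLinearGroup (Fin 3) F) : orderOf g ≠ 15 := by
  intro h15
  obtain ⟨G, rfl⟩ := QuotientGroup.mk_surjective g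
  have hg15 : (QuotientGroup.mk G : Matrix.ProjectiveSpecialLinearGroup (Fin 3) F) ^ 15 = 1 := by
    rw [← h15]
    exact pow_orderOf_eq_one _
  rw [← QuotientGroup.mk_pow, QuotientGroup.eq_one_iff,
    Matrix.SpecialLinearGroup.mem_center_iff] at hg15
  obtain ⟨r, hr3, hr⟩ := hg15
  rw [Fintype.card_fin] at hr3
  have h45 : (G : Matrix (Fin 3) (Fin 3) F) ^ 45 = 1 := by
    rw [show 45 = 15 * 3 from rfl, pow_mul, ← Matrix.SpecialLinearGroup.coe_pow, ← hr, ← map_pow,
      hr3, map_one]
  rcases key hF G.1 G.2 h45 with h9 | ⟨c, h5⟩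
  · have h9' : G ^ 9 = 1 := by
      apply Subtype.ext
      rw [Matrix.SpecialLinearGroup.coe_pow]
      exact h9
    have : (QuotientGroup.mk G : Matrix.ProjectiveSpecialLinearGroup (Fin 3) F) ^ 9 = 1 := by
      rw [← QuotientGroup.mk_pow, h9']
      rfl
    have hd := orderOf_dvd_of_pow_eq_one this
    rw [h15] at hd
    omega
  · have hc3 : c ^ 3 = 1 := by
      have h := congrArg Matrix.det h5
      rw [Matrix.det_pow, G.2, one_pow, Matrix.det_smul, Matrix.det_one, mul_one,
        Fintype.card_fin] at h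
      exact h.symm
    have : (QuotientGroup.mk G : Matrix.ProjectiveSpecialLinearGroup (Fin 3) F) ^ 5 = 1 := by
      rw [← QuotientGroup.mk_pow, QuotientGroup.eq_one_iff,
        Matrix.SpecialLinearGroup.mem_center_iff]
      refine ⟨c, by rw [Fintype.card_fin]; exact hc3, ?_⟩
      rw [Matrix.SpecialLinearGroup.coe_pow, h5]
      ext i j
      simp [Matrix.scalar_apply, Matrix.one_apply, Matrix.diagonal_apply]
    have hd := orderOf_dvd_of_pow_eq_one this
    rw [h15] at hd
    omega

end Cfsg.Agent.S0819
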