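import Cfsg.Statements.S0820
import Cfsg.Agent.H9.SqZeroSL
import Cfsg.Agent.S0819

set_option autoImplicit false
open Cfsg

namespace Cfsg.Agent.S0820

open Matrix

variable {F : Type*} [Field F] [Fintype F]

/-- an involution of `PSL₃(4)` lifts to an involution of `SL₃(4)` -/
theorem exists_lift (x : Matrix.ProjectiveSpecialLinearGroup (Fin 3) F) (hx : orderOf x = 2) :
    ∃ X : Matrix.SpecialLinearGroup (Fin 3) F, orderOf X = 2 ∧
      (QuotientGroup.mk X : Matrix.ProjectiveSpecialLinearGroup (Fin 3) F) = x := by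
  obtain ⟨X0, rfl⟩ := QuotientGroup.mk_surjective x
  have hx2 : (QuotientGroup.mk X0 : Matrix.ProjectiveSpecialLinearGroup (Fin 3) F) ^ 2 = 1 := by
    rw [← hx]
    exact pow_orderOf_eq_one _
  have hc := hx2
  rw [← QuotientGroup.mk_pow, QuotientGroup.eq_one_iff,
    Matrix.SpecialLinearGroup.mem_center_iff] at hc
  obtain ⟨r, hr3, hr⟩ := hc
  rw [Fintype.card_fin] at hr3
  have hmk : (QuotientGroup.mk (X0 ^ 3) : Matrix.ProjectiveSpecialLinearGroup (Fin 3) F)
      = QuotientGroup.mk X0 := by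
    rw [QuotientGroup.mk_pow, pow_succ, hx2, one_mul]
  refine ⟨X0 ^ 3, ?_, hmk⟩
  apply orderOf_eq_prime
  · apply Subtype.ext
    rw [← pow_mul, show 3 * 2 = 2 * 3 from rfl, pow_mul, Matrix.SpecialLinearGroup.coe_pow, ← hr,
      ← map_pow, hr3, map_one]
    rfl
  · intro h1
    rw [h1] at hmk
    have : (QuotientGroup.mk X0 : Matrix.ProjectiveSpecialLinearGroup (Fin 3) F) = 1 := hmk.symm
    rw [this, orderOf_one] at hx
    omega

/-- Any two elements of order 2 of PSL_3(4) are conjugate. -/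
theorem result {F : Type*} [Field F] [Fintype F] (hF : Fintype.card F = 4) (x y : Matrix.ProjectiveSpecialLinearGroup (Fin 3) F) (hx : orderOf x = 2) (hy : orderOf y = 2) : IsConj x y := by
  have : CharP F 2 :=
    CharTwo.of_one_ne_zero_of_two_eq_zero one_ne_zero (Cfsg.Agent.S0819.two_eq_zero hF)
  obtain ⟨X, hX2, rfl⟩ := exists_lift x hx
  obtain ⟨Y, hY2, rfl⟩ := exists_lift y hy
  have hrk : ∀ Z : Matrix.SpecialLinearGroup (Fin 3) F, orderOf Z = 2 →
      ((Z : Matrix (Fin 3) (Fin 3) F) - 1).rank = 1 := by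
    intro Z hZ
    have h1 := Cfsg.Agent.H9.SqZeroSL.two_mul_rank_le _ (Cfsg.Agent.H9.SqZeroSL.sq_zero Z hZ)
    have h2 : ((Z : Matrix (Fin 3) (Fin 3) F) - 1).rank ≠ 0 := by
      intro h
      have h0 : LinearMap.range ((Z : Matrix (Fin 3) (Fin 3) F) - 1).mulVecLin = ⊥ :=
        Submodule.finrank_eq_zero.1 h
      rw [LinearMap.range_eq_bot] at h0
      have h3 : (Z : Matrix (Fin 3) (Fin 3) F) - 1 = 0 := by
        apply Matrix.toLin'.injective
        rw [map_zero, Matrix.toLin'_apply']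
        exact h0
      have : Z = 1 := by
        apply Subtype.ext
        exact sub_eq_zero.1 h3
      rw [this, orderOf_one] at hZ
      omega
    omega
  have h := Cfsg.Agent.H9.SqZeroSL.isConj_of_rank_eq X Y hX2 hY2 (by rw [hrk X hX2, hrk Y hY2])
  exact (QuotientGroup.mk' _).map_isConj h

end Cfsg.Agent.S0820
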