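import Cfsg.Statements.S0821
import Cfsg.Agent.Lib.Helper5.SpProjRank
import Cfsg.Agent.S2235
import Cfsg.Agent.Lib.Helper5.Orth.OmegaOrder
import Cfsg.Agent.Lib.Helper5.Orth.OmegaCenter
import Cfsg.Agent.H9.OrthK

set_option autoImplicit false
open Cfsg

namespace Cfsg.Agent.S0821

/-- PSp_2m(q) ≇ PΩ_(2m+1)(q) for q odd and m ≥ 3 (they have the same order). -/
theorem result {F : Type*} [Field F] [Fintype F] (hodd : Odd (Fintype.card F)) (m : ℕ) (hm : 3 ≤ m) : IsEmpty (Cfsg.PSp m F ≃* Cfsg.POmega F (Cfsg.quadFormOdd m F)) := by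
  classical
  refine ⟨fun e => ?_⟩
  have h2 := Cfsg.Agent.Lib.Helper5.OrthSN.two_ne_zero_of_odd_card hodd
  have hQ := Cfsg.Agent.H9.Orth.isNondeg_quadFormOdd (F := F) (m := m) h2
  have hcard : Fintype.card (Unit ⊕ (Fin m ⊕ Fin m)) = 2 * m + 1 := by
    simp only [Fintype.card_sum, Fintype.card_fin, Fintype.card_unit]
    omega
  have hgen := Cfsg.Agent.H9.Orth.iso_le_RR hQ
    (Or.inl (Cfsg.Agent.Lib.Helper5.OrthSN.card_ne_two_of_odd_card hodd))
  have hno := Cfsg.Agent.Lib.Helper5.OrthSN.neg_one_not_mem_omega_of_odd hQ h2 hgen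
    (by rw [hcard]; exact ⟨m, rfl⟩)
  have hbot : Subgroup.center ↥(Cfsg.Omega F (Cfsg.quadFormOdd m F)) = ⊥ := by
    rw [eq_bot_iff]
    intro z hz
    rw [Subgroup.mem_bot]
    rcases Cfsg.Agent.Lib.Helper5.OrthSN.center_omega_val hQ (by rw [hcard]; omega) z hz with h1 | h1
    · apply Subtype.ext
      apply Subtype.ext
      exact h1
    · exfalso
      apply hno
      refine ⟨(z : ↥(Cfsg.isometryGroup F (Cfsg.quadFormOdd m F))), z.2, ?_⟩
      rw [h1, Units.val_neg, Units.val_one]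
  obtain ⟨A, hAc, hA2, hAcard⟩ := (Cfsg.Agent.S2235.result hodd m (by omega)).1
  let π := QuotientGroup.mk' (Subgroup.center ↥(Cfsg.Omega F (Cfsg.quadFormOdd m F)))
  have hπinj : Function.Injective π := by
    rw [← MonoidHom.ker_eq_bot_iff, QuotientGroup.ker_mk', hbot]
  let f : ↥(Cfsg.Omega F (Cfsg.quadFormOdd m F)) →* Cfsg.PSp m F := e.symm.toMonoidHom.comp π
  have hfinj : Function.Injective f := e.symm.injective.comp hπinj
  apply Cfsg.Agent.Lib.Helper5.SpProj.not_prank_psp hodd m hm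
  refine ⟨A.map f, ?_, ?_, ?_⟩
  · refine ⟨⟨?_⟩⟩
    rintro ⟨_, a, ha, rfl⟩ ⟨_, b, hb, rfl⟩
    apply Subtype.ext
    show f a * f b = f b * f a
    rw [← map_mul, ← map_mul]
    congr 1
    exact congrArg Subtype.val (hAc.is_comm.comm ⟨a, ha⟩ ⟨b, hb⟩)
  · rintro _ ⟨a, ha, rfl⟩
    rw [← map_pow, hA2 a ha, map_one]
  · rw [Nat.card_congr (A.equivMapOfInjective f hfinj).symm.toEquiv]
    exact hAcard

end Cfsg.Agent.S0821
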