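import Cfsg.Statements.S0822
import Cfsg.Agent.Lib.Helper6.U42Unit
import Cfsg.Agent.Lib.Helper6.U42Sp

set_option autoImplicit false
open Cfsg

namespace Cfsg.Agent.S0822

/-- PSU_4(2) ≅ PSp_4(3): with |F| = 4 and |K| = 3, the projective special unitary group of the standard Hermitian form on F^4 is isomorphic to PSp_4(K). -/
theorem result {F K : Type*} [Field F] [Fintype F] [Field K] [Fintype K] (hF : Fintype.card F = 4) (hK : Fintype.card K = 3) : Nonempty (Cfsg.PSU 4 F 2 ≃* Cfsg.PSp 2 K) := by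
  classical
  have e4 : F ≃+* Cfsg.Agent.Lib.Helper6.M21.F4c :=
    FiniteField.ringEquivOfCardEq (by rw [Cfsg.Agent.Lib.Helper6.M21.F4c.card, hF])
  have e3 : ZMod 3 ≃+* K := ZMod.ringEquivOfPrime K Nat.prime_three hK
  exact ⟨((Cfsg.Agent.Lib.Helper8.SUTransport.psuEquiv e4 4 2).trans
    (Cfsg.Agent.Lib.Helper6.U42Unit.isoPSU.symm.trans Cfsg.Agent.Lib.Helper6.U42Sp.isoPSp)).trans
      (Cfsg.Agent.Lib.Helper6.SpTransport.pspEquiv e3 2)⟩

end Cfsg.Agent.S0822
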