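import Cfsg.Statements.S0823
import Mathlib
import Cfsg.Agent.H9.Adj4

set_option autoImplicit false
open Cfsg

namespace Cfsg.Agent.S0823

/-- SO_3(3) ≅ S_4: the determinant-one isometries of the form x_0² + x_1y_1 over the field with 3 elements form a group isomorphic to the symmetric group on 4 letters. -/
theorem result {F : Type*} [Field F] [Fintype F] (hF : Fintype.card F = 3) : Nonempty (↥(Cfsg.specialIsometryGroup F (Cfsg.quadFormOdd 1 F)) ≃* Equiv.Perm (Fin 4)) := by
  classical
  have hodd : Odd (Fintype.card F) := by rw [hF]; decide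
  have hSO := Cfsg.Agent.H9.Adj.SO_eq_range hodd
  have hcard : Nat.card (Cfsg.specialIsometryGroup F (Cfsg.quadFormOdd 1 F)) = 24 := by
    rw [hSO, Cfsg.Agent.H9.Adj.card_range, hF]; norm_num
  apply Cfsg.Agent.S1012.result hcard
  intro x hx
  have hx1 : x.1 ∈ (Cfsg.Agent.H9.Adj.RO :
      GL (Fin 2) F →* Cfsg.isometryGroup F (Cfsg.quadFormOdd 1 F)).range := by
    rw [← hSO]; exact x.2
  obtain ⟨g, hg⟩ := hx1
  have h6 : x ^ 6 = 1 := by rw [← hx]; exact pow_orderOf_eq_one x
  have h6' : (Cfsg.Agent.H9.Adj.RO g : Cfsg.isometryGroup F (Cfsg.quadFormOdd 1 F)) ^ 6 = 1 := by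
    rw [hg]
    have := congrArg Subtype.val h6
    simpa using this
  rcases Cfsg.Agent.H9.Adj.RO_pow hF g h6' with h | h
  · have hx2 : x ^ 2 = 1 := by
      apply Subtype.ext
      rw [hg] at h
      simpa using h
    have := orderOf_dvd_of_pow_eq_one hx2
    rw [hx] at this
    norm_num at this
  · have hx3 : x ^ 3 = 1 := by
      apply Subtype.ext
      rw [hg] at h
      simpa using h
    have := orderOf_dvd_of_pow_eq_one hx3
    rw [hx] at this
    norm_num at this

end Cfsg.Agent.S0823
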