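import Cfsg.Statements.S0824
import Mathlib
import Cfsg.Agent.Lib.Helper5.QuadIso
import Cfsg.Agent.S0288

set_option autoImplicit false
open Cfsg

namespace Cfsg.Agent.S0824

open Matrix Cfsg.Agent.S0750 Cfsg.Agent.Lib.Helper5.QuadFrames Cfsg.Agent.Lib.Helper5.QuadIso
  Cfsg.Agent.S0288

section
variable {F : Type*} [Field F] [Fintype F]
set_option linter.unusedSectionVars false

theorem elem01 (hF : Fintype.card F = 2) (z : F) : z = 0 ∨ z = 1 := by
  have h := FiniteField.pow_card z
  rw [hF] at h
  have : z * (z - 1) = 0 := by linear_combination h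
  rcases mul_eq_zero.1 this with h | h
  · exact Or.inl h
  · exact Or.inr (sub_eq_zero.1 h)

theorem two_eq_zero (hF : Fintype.card F = 2) : (2 : F) = 0 := by
  have := Nat.cast_card_eq_zero F
  rw [hF] at this
  exact_mod_cast this

theorem hab (hF : Fintype.card F = 2) :
    ∀ z₁ z₂ : F, z₁ ^ 2 + 1 * z₁ * z₂ + 1 * z₂ ^ 2 = 0 → z₁ = 0 ∧ z₂ = 0 := by
  intro z₁ z₂ h
  have h2 := two_eq_zero hF
  rcases elem01 hF z₁ with rfl | rfl <;> rcases elem01 hF z₂ with rfl | rfl
  · exact ⟨rfl, rfl⟩
  · exfalso; simp at h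
  · exfalso; simp at h
  · exfalso
    have : (1 : F) = 0 := by linear_combination h - h2
    exact one_ne_zero this

/-- the nonzero singular vectors -/
abbrev S : Type _ :=
  {v : (Fin 1 ⊕ Fin 1) ⊕ Fin 2 → F // v ≠ 0 ∧ QM 1 (1 : F) 1 v = 0}

theorem card_S (hF : Fintype.card F = 2) : Nat.card (S (F := F)) = 5 := by
  classical
  have h : Nat.card {v : (Fin 1 ⊕ Fin 1) ⊕ Fin 2 → F // quadFormMinus 1 F 1 1 v = 0} = 6 :=
    (Cfsg.Agent.S0290.result hF 2 (by norm_num) 1 1 (hab hF)).trans (by norm_num)
  have e : {v : (Fin 1 ⊕ Fin 1) ⊕ Fin 2 → F // quadFormMinus 1 F 1 1 v = 0} ≃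
      Option (S (F := F)) :=
    { toFun := fun v => if hv : v.1 = 0 then none else some ⟨v.1, hv, by rw [QM_apply]; exact v.2⟩
      invFun := fun o => match o with
        | none => ⟨0, by rw [← QM_apply]; exact map_zero _⟩
        | some s => ⟨s.1, by rw [← QM_apply]; exact s.2.2⟩
      left_inv := by
        intro v
        by_cases hv : v.1 = 0
        · simp only [hv, dite_true]
          exact Subtype.ext hv.symm
        · simp only [hv, dite_false]
      right_inv := by
        intro o
        rcases o with _ | s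
        · simp
        · have := s.2.1
          simp [this] }
  rw [Nat.card_congr e, Finite.card_option] at h
  omega

/-- the action on singular vectors -/
noncomputable instance : MulAction (Cfsg.isometryGroup F (⇑(QM 1 (1 : F) 1))) (S (F := F)) where
  smul g v := ⟨g.1.1 *ᵥ v.1, by
    constructor
    · intro h
      apply v.2.1
      have := congrArg (fun w => (g⁻¹).1.1 *ᵥ w) h
      simp only [Matrix.mulVec_zero] at this
      rw [← iso_mul_mulVec, inv_mul_cancel, iso_one_mulVec] at this
      exact this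
    · rw [(mem_isometryGroup (QM 1 (1 : F) 1) g.1).1 g.2]
      exact v.2.2⟩
  one_smul v := Subtype.ext (iso_one_mulVec _ v.1)
  mul_smul g g' v := Subtype.ext (iso_mul_mulVec _ g g' v.1)

theorem eq_one_of_cols (g : Cfsg.isometryGroup F (⇑(QM 1 (1 : F) 1)))
    (h : ∀ c, g.1.1 *ᵥ Pi.single c 1 = Pi.single c 1) : g = 1 := by
  apply Subtype.ext
  apply Units.ext
  ext r c
  have := congrFun (h c) r
  rw [Matrix.mulVec_single_one] at this
  change g.1.1 r c = (1 : Matrix _ _ F) r c
  rw [Matrix.one_apply, ← Pi.single_apply, ← this]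
  rfl

theorem Q_w (hF : Fintype.card F = 2) (k : Fin 2) :
    QM 1 (1 : F) 1 (Pi.single (Sum.inl (Sum.inl 0)) 1 + Pi.single (Sum.inl (Sum.inr 0)) 1 +
      Pi.single (Sum.inr k) 1) = 0 := by
  have h2 := two_eq_zero hF
  rw [QM_apply']
  unfold q₀ pl
  rcases fin2_cases k with rfl | rfl
  · simp
    linear_combination h2
  · simp
    linear_combination h2

theorem smul_val (g : Cfsg.isometryGroup F (⇑(QM 1 (1 : F) 1))) (v : S (F := F)) :
    (g • v).1 = g.1.1 *ᵥ v.1 := rfl

end

theorem result {F : Type*} [Field F] [Fintype F] (hF : Fintype.card F = 2) : Nonempty (↥(Cfsg.isometryGroup F (Cfsg.quadFormMinus 1 F 1 1)) ≃* Equiv.Perm (Fin 5)) := by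
  classical
  have h2 := two_eq_zero hF
  have hcard : Nat.card (Cfsg.isometryGroup F (⇑(QM 1 (1 : F) 1))) = 120 := by
    rw [QM_coe]
    exact (Cfsg.Agent.S0288.result hF 2 (by norm_num) 1 1 (hab hF)).trans
      (by norm_num [Finset.prod_range_succ])
  rw [← QM_coe]
  set G := Cfsg.isometryGroup F (⇑(QM 1 (1 : F) 1)) with hG
  have hS := card_S hF
  have : Finite (S (F := F)) := Nat.finite_of_card_ne_zero (by rw [hS]; norm_num)
  have : Finite G := Nat.finite_of_card_ne_zero (by rw [hcard]; norm_num)
  let Φ : G →* Equiv.Perm (S (F := F)) := MulAction.toPermHom G (S (F := F))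
  have hinj : Function.Injective Φ := by
    rw [injective_iff_map_eq_one]
    intro g hg
    have hfix : ∀ v : S (F := F), g.1.1 *ᵥ v.1 = v.1 := by
      intro v
      have := congrArg (fun σ : Equiv.Perm (S (F := F)) => (σ v).1) hg
      exact this
    have hx := hfix ⟨Pi.single (Sum.inl (Sum.inl 0)) 1,
      by intro h; simpa using congrFun h (Sum.inl (Sum.inl 0)), QM_single_inl 1 1 1 _⟩
    have hy := hfix ⟨Pi.single (Sum.inl (Sum.inr 0)) 1,
      by intro h; simpa using congrFun h (Sum.inl (Sum.inr 0)), QM_single_inl 1 1 1 _⟩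
    have hw : ∀ k : Fin 2, g.1.1 *ᵥ Pi.single (Sum.inr k) 1 = Pi.single (Sum.inr k) 1 := by
      intro k
      have := hfix ⟨_, by intro h; simpa using congrFun h (Sum.inr k), Q_w hF k⟩
      simp only at hx hy this
      rw [Matrix.mulVec_add, Matrix.mulVec_add, hx, hy] at this
      exact add_left_cancel this
    apply eq_one_of_cols
    rintro ((c | c) | k)
    · have : c = 0 := Subsingleton.elim _ _
      subst this
      exact hx
    · have : c = 0 := Subsingleton.elim _ _
      subst this
      exact hy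
    · exact hw k
  have hbij : Function.Bijective Φ := by
    apply hinj.bijective_of_nat_card_le
    rw [Nat.card_perm, hS, hcard]
    decide
  exact ⟨(MulEquiv.ofBijective Φ hbij).trans
    (Equiv.permCongrHom (Finite.equivFinOfCardEq hS))⟩

end Cfsg.Agent.S0824
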