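import Mathlib
import Cfsg.Statements.S0825
import Cfsg.Agent.S2530
import Cfsg.Agent.S0287

set_option autoImplicit false
open Cfsg

namespace Cfsg.Agent.S0825

open Matrix Cfsg.Agent.S2530

abbrev I6 := Fin 3 ⊕ Fin 3

/-- seven orthogonal transvections forming an `A_7` chain, as 6×6 matrices over `ZMod 2` -/
def raw6 : List (Matrix (Fin 6) (Fin 6) (ZMod 2)) :=
  [!![1, 0, 0, 0, 0, 0; 0, 1, 0, 0, 0, 0; 0, 0, 0, 0, 0, 1; 0, 0, 0, 1, 0, 0; 0, 0, 0, 0, 1, 0; 0, 0, 1, 0, 0, 0],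
   !![1, 0, 0, 0, 0, 0; 0, 0, 1, 0, 1, 0; 0, 0, 1, 0, 0, 0; 0, 0, 0, 1, 0, 0; 0, 1, 1, 0, 0, 0; 0, 1, 1, 0, 1, 1],
   !![1, 0, 0, 0, 0, 0; 0, 1, 0, 0, 0, 0; 1, 0, 0, 0, 0, 1; 1, 0, 1, 1, 0, 1; 0, 0, 0, 0, 1, 0; 1, 0, 1, 0, 0, 0],
   !![0, 0, 0, 1, 0, 0; 0, 1, 0, 0, 0, 0; 0, 0, 1, 0, 0, 0; 1, 0, 0, 0, 0, 0; 0, 0, 0, 0, 1, 0; 0, 0, 0, 0, 0, 1],
   !![1, 0, 0, 0, 0, 0; 0, 1, 0, 0, 0, 0; 1, 1, 0, 0, 0, 1; 1, 1, 1, 1, 0, 1; 1, 1, 1, 0, 1, 1; 1, 1, 1, 0, 0, 0],
   !![1, 0, 0, 0, 0, 0; 0, 0, 0, 0, 1, 0; 0, 0, 1, 0, 0, 0; 0, 0, 0, 1, 0, 0; 0, 1, 0, 0, 0, 0; 0, 0, 0, 0, 0, 1],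
   !![1, 0, 0, 0, 0, 0; 0, 1, 0, 0, 0, 0; 0, 1, 0, 0, 0, 1; 0, 0, 0, 1, 0, 0; 0, 1, 1, 0, 1, 1; 0, 1, 1, 0, 0, 0]]

/-- the transvections on the index type `Fin 3 ⊕ Fin 3` -/
def R (i : ℕ) : Matrix I6 I6 (ZMod 2) :=
  (raw6.getD i 1).submatrix finSumFinEquiv finSumFinEquiv

set_option maxRecDepth 100000 in
theorem R_sq : ∀ i : Fin 7, R i.val * R i.val = 1 := by decide +kernel

/-- as units -/
def U (i : Fin 7) : GL I6 (ZMod 2) := ⟨R i.val, R i.val, R_sq i, R_sq i⟩

set_option maxRecDepth 100000 in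
theorem R_rel : ∀ i j : Fin 7, (R i.val * R j.val) ^
    (if i = j then 1 else (if (j : ℕ) + 1 = i ∨ (i : ℕ) + 1 = j then 3 else 2)) = 1 := by
  decide +kernel

set_option maxRecDepth 100000 in
theorem R_iso : ∀ i : Fin 7, ∀ u : I6 → ZMod 2,
    quadFormPlus 3 (ZMod 2) (R i.val *ᵥ u) = quadFormPlus 3 (ZMod 2) u := by
  unfold quadFormPlus
  decide +kernel

theorem R01 : R 0 * R 1 ≠ 1 := by decide +kernel

theorem U_liftable : (CoxeterMatrix.A 7).IsLiftable U := by
  intro i j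
  apply Units.ext
  rw [A_apply]
  exact R_rel i j

/-- the homomorphism from the Coxeter group of type `A_7` to `GL_6(2)` -/
noncomputable def rho0 : Wn 7 →* GL I6 (ZMod 2) := (cs 7).lift ⟨U, U_liftable⟩

theorem rho0_simple (i : Fin 7) : rho0 ((cs 7).simple i) = U i :=
  (cs 7).lift_apply_simple U_liftable i

theorem U_mem (i : Fin 7) : U i ∈ isometryGroup (ZMod 2) (quadFormPlus 3 (ZMod 2)) := by
  intro u _
  exact R_iso i u

theorem rho0_mem (w : Wn 7) : rho0 w ∈ isometryGroup (ZMod 2) (quadFormPlus 3 (ZMod 2)) := by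
  have h : (⊤ : Subgroup (Wn 7)) ≤
      (isometryGroup (ZMod 2) (quadFormPlus 3 (ZMod 2))).comap rho0 := by
    rw [← (cs 7).subgroup_closure_range_simple, Subgroup.closure_le]
    rintro _ ⟨i, rfl⟩
    show rho0 ((cs 7).simple i) ∈ isometryGroup (ZMod 2) (quadFormPlus 3 (ZMod 2))
    rw [rho0_simple]
    exact U_mem i
  exact h (Subgroup.mem_top w)

section transport

variable {F : Type*} [Field F] (e : ZMod 2 ≃+* F)

theorem quad_map (w : I6 → ZMod 2) :
    quadFormPlus 3 F (fun i => e (w i)) = e (quadFormPlus 3 (ZMod 2) w) := by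
  unfold quadFormPlus
  rw [map_sum]
  simp only [map_mul]

theorem map_mem (g : GL I6 (ZMod 2))
    (hg : g ∈ isometryGroup (ZMod 2) (quadFormPlus 3 (ZMod 2))) :
    Matrix.GeneralLinearGroup.map e.toRingHom g ∈ isometryGroup F (quadFormPlus 3 F) := by
  intro u _
  show quadFormPlus 3 F ((g.1.map e) *ᵥ u) = quadFormPlus 3 F u
  have hu : u = fun i => e (e.symm (u i)) := by
    funext i
    rw [e.apply_symm_apply]
  have h1 : (g.1.map e) *ᵥ u = fun i => e ((g.1 *ᵥ fun j => e.symm (u j)) i) := by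
    funext i
    have := RingHom.map_mulVec e.toRingHom g.1 (fun j => e.symm (u j)) i
    rw [show (g.1 *ᵥ fun j => e.symm (u j)) i = (g.1 *ᵥ fun j => e.symm (u j)) i from rfl]
    rw [show e ((g.1 *ᵥ fun j => e.symm (u j)) i) =
      e.toRingHom ((g.1 *ᵥ fun j => e.symm (u j)) i) from rfl, this]
    congr 1
  rw [h1, quad_map]
  conv_rhs => rw [hu, quad_map]
  congr 1
  exact hg _ 0

/-- the homomorphism from the Coxeter group to the isometry group -/
noncomputable def rho : Wn 7 →* isometryGroup F (quadFormPlus 3 F) :=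
  ((Matrix.GeneralLinearGroup.map e.toRingHom).comp rho0).codRestrict _
    (fun w => map_mem e _ (rho0_mem w))

theorem rho_val (w : Wn 7) :
    ((rho e w : isometryGroup F (quadFormPlus 3 F)) : GL I6 F) =
      Matrix.GeneralLinearGroup.map e.toRingHom (rho0 w) := rfl

end transport

/-- O⁺_6(2) ≅ S_8: the isometry group of the hyperbolic form x_1y_1 + x_2y_2 + x_3y_3 over the field with 2 elements is isomorphic to the symmetric group on 8 letters. -/
theorem result {F : Type*} [Field F] [Fintype F] (hF : Fintype.card F = 2) : Nonempty (↥(Cfsg.isometryGroup F (Cfsg.quadFormPlus 3 F)) ≃* Equiv.Perm (Fin 8)) := by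
  have e : ZMod 2 ≃+* F := ZMod.ringEquivOfPrime F Nat.prime_two hF
  let τ : Wn 7 ≃* Equiv.Perm (Fin 8) := MulEquiv.ofBijective (toPerm 7) (toPerm_bijective 7)
  have hcardW : Nat.card (Wn 7) = 40320 := by
    rw [Nat.card_congr τ.toEquiv, Nat.card_eq_fintype_card, Fintype.card_perm, Fintype.card_fin]
    rfl
  have hcardG : Nat.card (isometryGroup F (quadFormPlus 3 F)) = 40320 := by
    rw [Cfsg.Agent.S0287.result hF 3 (by norm_num)]
    norm_num [Finset.prod_range_succ]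
  have hfin : Finite (isometryGroup F (quadFormPlus 3 F)) :=
    Nat.finite_of_card_ne_zero (by rw [hcardG]; norm_num)
  -- injectivity
  have hinj : Function.Injective (rho e) := by
    let ψ : Equiv.Perm (Fin 8) →* isometryGroup F (quadFormPlus 3 F) :=
      (rho e).comp τ.symm.toMonoidHom
    have hker : ψ.ker = ⊥ := by
      by_contra hne
      have hnt : Nontrivial ψ.ker := (Subgroup.nontrivial_iff_ne_bot _).2 hne
      have hle : alternatingGroup (Fin 8) ≤ ψ.ker :=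
        Equiv.Perm.alternatingGroup_le_of_normal
          (by rw [Nat.card_eq_fintype_card, Fintype.card_fin]; norm_num) hnt
      let w : Wn 7 := (cs 7).simple 0 * (cs 7).simple 1
      have hw : τ w ∈ alternatingGroup (Fin 8) := by
        rw [Equiv.Perm.mem_alternatingGroup]
        show Equiv.Perm.sign (toPerm 7 w) = 1
        rw [map_mul, toPerm_simple, toPerm_simple, map_mul,
          Equiv.Perm.sign_swap (Fin.castSucc_lt_succ).ne,
          Equiv.Perm.sign_swap (Fin.castSucc_lt_succ).ne]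
        rfl
      have h1 : ψ (τ w) = 1 := hle hw
      have h2 : rho e w = 1 := by
        have : ψ (τ w) = rho e (τ.symm (τ w)) := rfl
        rw [this, τ.symm_apply_apply] at h1
        exact h1
      have h3 : Matrix.GeneralLinearGroup.map e.toRingHom (rho0 w) = 1 := by
        rw [← rho_val, h2]; rfl
      have h4 : rho0 w = U 0 * U 1 := by
        show rho0 ((cs 7).simple 0 * (cs 7).simple 1) = _
        rw [map_mul, rho0_simple, rho0_simple]
      rw [h4] at h3
      apply R01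
      ext a b
      have h5 := Matrix.GeneralLinearGroup.map_apply e.toRingHom a b (U 0 * U 1)
      rw [h3] at h5
      apply e.injective
      have h6 : ((U 0 * U 1 : GL I6 (ZMod 2)) : Matrix I6 I6 (ZMod 2)) a b = (R 0 * R 1) a b := rfl
      rw [← h6]
      show e.toRingHom _ = _
      rw [← h5]
      show (1 : Matrix I6 I6 F) a b = e ((1 : Matrix I6 I6 (ZMod 2)) a b)
      rw [Matrix.one_apply, Matrix.one_apply]
      split_ifs <;> simp
    have hψinj : Function.Injective ψ := (MonoidHom.ker_eq_bot_iff ψ).1 hker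
    intro a b hab
    have : ψ (τ a) = ψ (τ b) := by
      show rho e (τ.symm (τ a)) = rho e (τ.symm (τ b))
      rw [τ.symm_apply_apply, τ.symm_apply_apply, hab]
    exact τ.injective (hψinj this)
  have hbij : Function.Bijective (rho e) :=
    hinj.bijective_of_nat_card_le (by rw [hcardG, hcardW])
  exact ⟨(MulEquiv.ofBijective (rho e) hbij).symm.trans τ⟩

end Cfsg.Agent.S0825
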