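import Mathlib
import Cfsg.Statements.S0826
import Cfsg.Agent.H9.SympEmbed

set_option autoImplicit false

namespace Cfsg.Agent.S0826

open Module

section
variable {N : ℕ} (i₀ : Fin N)

theorem add_self_zmod (x : ZMod 2) : x + x = 0 := CharTwo.add_self_eq_zero x

theorem mul_self_zmod (x : ZMod 2) : x * x = x := by revert x; decide

/-- sum-zero vectors vanishing at `i₀`: a complement of the constants in the sum-zero vectors. -/
def VV : Submodule (ZMod 2) (Fin N → ZMod 2) where
  carrier := {u | ∑ i, u i = 0 ∧ u i₀ = 0}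
  add_mem' := by
    intro a b ha hb
    refine ⟨?_, ?_⟩
    · simp only [Pi.add_apply, Finset.sum_add_distrib, ha.1, hb.1, add_zero]
    · simp only [Pi.add_apply, ha.2, hb.2, add_zero]
  zero_mem' := by simp
  smul_mem' := by
    intro c a ha
    refine ⟨?_, ?_⟩
    · simp only [Pi.smul_apply, smul_eq_mul, ← Finset.mul_sum, ha.1, mul_zero]
    · simp only [Pi.smul_apply, smul_eq_mul, ha.2, mul_zero]

theorem mem_VV (u : Fin N → ZMod 2) : u ∈ VV i₀ ↔ ∑ i, u i = 0 ∧ u i₀ = 0 := Iff.rfl

/-- the permutation action followed by the projection killing the `i₀`-coordinate. -/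
def RR (σ : Equiv.Perm (Fin N)) : (Fin N → ZMod 2) →ₗ[ZMod 2] (Fin N → ZMod 2) where
  toFun u := fun i => u (σ⁻¹ i) + u (σ⁻¹ i₀)
  map_add' := by
    intro u v
    funext i
    simp only [Pi.add_apply]
    ring
  map_smul' := by
    intro c u
    funext i
    simp only [Pi.smul_apply, smul_eq_mul, RingHom.id_apply]
    ring

theorem RR_apply (σ : Equiv.Perm (Fin N)) (u : Fin N → ZMod 2) (i : Fin N) :
    RR i₀ σ u i = u (σ⁻¹ i) + u (σ⁻¹ i₀) := rfl

theorem RR_mul (σ τ : Equiv.Perm (Fin N)) (u : Fin N → ZMod 2) :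
    RR i₀ (σ * τ) u = RR i₀ σ (RR i₀ τ u) := by
  funext i
  simp only [RR_apply, mul_inv_rev, Equiv.Perm.mul_apply]
  have := add_self_zmod (u (τ⁻¹ i₀))
  linear_combination (-1 : ZMod 2) * this

theorem RR_one (u : Fin N → ZMod 2) (hu : u ∈ VV i₀) : RR i₀ 1 u = u := by
  funext i
  simp only [RR_apply, inv_one, Equiv.Perm.one_apply, hu.2, add_zero]

theorem RR_mem (hN : Even N) (σ : Equiv.Perm (Fin N)) (u : Fin N → ZMod 2) (hu : u ∈ VV i₀) :
    RR i₀ σ u ∈ VV i₀ := by
  refine ⟨?_, ?_⟩
  · simp only [RR_apply, Finset.sum_add_distrib, Finset.sum_const, Finset.card_univ, Fintype.card_fin]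
    rw [Equiv.sum_comp (σ⁻¹ : Equiv.Perm (Fin N)) u, hu.1, zero_add]
    obtain ⟨k, rfl⟩ := hN
    rw [add_smul, ← two_smul ℕ (k • _)]
    have : (2 : ℕ) • (k • u (σ⁻¹ i₀)) = (k • u (σ⁻¹ i₀)) + (k • u (σ⁻¹ i₀)) := two_smul _ _
    rw [this]; exact add_self_zmod _
  · simp only [RR_apply]; exact add_self_zmod _

/-- the dot product as a bilinear form. -/
def B₀ : LinearMap.BilinForm (ZMod 2) (Fin N → ZMod 2) :=
  LinearMap.mk₂ (ZMod 2) (fun u v => u ⬝ᵥ v)
    (fun u u' v => add_dotProduct u u' v) (fun c u v => smul_dotProduct c u v)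
    (fun u v v' => dotProduct_add u v v') (fun c u v => dotProduct_smul c u v)

theorem B₀_apply (u v : Fin N → ZMod 2) : B₀ u v = ∑ i, u i * v i := rfl

theorem B₀_RR (hN : Even N) (σ : Equiv.Perm (Fin N)) (u v : Fin N → ZMod 2) (hu : u ∈ VV i₀) (hv : v ∈ VV i₀) :
    B₀ (RR i₀ σ u) (RR i₀ σ v) = B₀ u v := by
  rw [B₀_apply, B₀_apply]
  simp only [RR_apply]
  set c := u (σ⁻¹ i₀)
  set d := v (σ⁻¹ i₀)
  have h1 : ∀ i, (u (σ⁻¹ i) + c) * (v (σ⁻¹ i) + d) =
      u (σ⁻¹ i) * v (σ⁻¹ i) + d * u (σ⁻¹ i) + c * v (σ⁻¹ i) + c * d := fun i => by ring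
  simp only [h1, Finset.sum_add_distrib, ← Finset.mul_sum, Finset.sum_const, Finset.card_univ, Fintype.card_fin]
  rw [Equiv.sum_comp (σ⁻¹ : Equiv.Perm (Fin N)) u, Equiv.sum_comp (σ⁻¹ : Equiv.Perm (Fin N)) v,
    Equiv.sum_comp (σ⁻¹ : Equiv.Perm (Fin N)) (fun i => u i * v i), hu.1, hv.1, mul_zero, mul_zero, add_zero,
    add_zero]
  obtain ⟨k, rfl⟩ := hN
  rw [add_smul]
  have := add_self_zmod (k • (c * d))
  first
    | rw [this, add_zero]
    | (have h2 := add_self_zmod (k • d); rw [h2, mul_zero, add_zero])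

theorem B₀_self (u : Fin N → ZMod 2) (hu : u ∈ VV i₀) : B₀ u u = 0 := by
  rw [B₀_apply]
  simp only [mul_self_zmod]
  exact hu.1

theorem single_add_single_mem {i j : Fin N} (hi : i ≠ i₀) (hj : j ≠ i₀) (hij : i ≠ j) :
    (Pi.single i 1 + Pi.single j 1 : Fin N → ZMod 2) ∈ VV i₀ := by
  refine ⟨?_, ?_⟩
  · simp only [Pi.add_apply, Finset.sum_add_distrib, Finset.sum_pi_single', Finset.mem_univ, if_true]
    exact add_self_zmod 1
  · simp [Pi.single_apply, hi.symm, hj.symm]

theorem B₀_single_add_single (u : Fin N → ZMod 2) (i j : Fin N) :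
    B₀ u (Pi.single i 1 + Pi.single j 1) = u i + u j := by
  rw [B₀_apply]
  simp only [Pi.add_apply, mul_add, Finset.sum_add_distrib, Pi.single_apply, mul_ite, mul_one, mul_zero,
    Finset.sum_ite_eq', Finset.mem_univ, if_true]

theorem eq_zero_of_orth (hN : Even N) (hN3 : 3 ≤ N) (u : Fin N → ZMod 2) (hu : u ∈ VV i₀)
    (h : ∀ v ∈ VV i₀, B₀ u v = 0) : u = 0 := by
  -- `u` is constant off `i₀`
  have hconst : ∀ i j : Fin N, i ≠ i₀ → j ≠ i₀ → u i = u j := by
    intro i j hi hj
    by_cases hij : i = j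
    · rw [hij]
    · have h1 := h _ (single_add_single_mem i₀ hi hj hij)
      rw [B₀_single_add_single] at h1
      have h2 := add_self_zmod (u j)
      linear_combination h1 - h2
  -- pick a point `j₀ ≠ i₀`
  obtain ⟨j₀, hj₀⟩ : ∃ j₀ : Fin N, j₀ ≠ i₀ := by
    by_contra hcon
    push Not at hcon
    have : Fintype.card (Fin N) ≤ 1 := Fintype.card_le_one_iff.2 fun a b => by rw [hcon a, hcon b]
    rw [Fintype.card_fin] at this
    omega
  have hsum : ∑ i, u i = (N - 1) • u j₀ := by
    rw [← Finset.add_sum_erase Finset.univ u (Finset.mem_univ i₀), hu.2, zero_add]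
    rw [Finset.sum_congr rfl (fun i hi => hconst i j₀ (Finset.ne_of_mem_erase hi) hj₀), Finset.sum_const,
      Finset.card_erase_of_mem (Finset.mem_univ i₀), Finset.card_univ, Fintype.card_fin]
  have hodd : (N - 1) • u j₀ = u j₀ := by
    obtain ⟨k, rfl⟩ := hN
    have hk : k + k - 1 = (k - 1) + (k - 1) + 1 := by omega
    rw [hk, add_smul, add_smul, one_smul, add_self_zmod, zero_add]
  have hj0 : u j₀ = 0 := by rw [← hodd, ← hsum, hu.1]
  funext i
  by_cases hi : i = i₀
  · rw [hi, hu.2]; rfl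
  · rw [hconst i j₀ hi hj₀, hj0]; rfl

theorem finrank_VV (hN2 : 2 ≤ N) : finrank (ZMod 2) (VV i₀) = N - 2 := by
  let L : (Fin N → ZMod 2) →ₗ[ZMod 2] (ZMod 2 × ZMod 2) :=
    LinearMap.prod (∑ i, LinearMap.proj i) (LinearMap.proj i₀)
  have hL : ∀ u, L u = (∑ i, u i, u i₀) := by
    intro u
    simp [L, LinearMap.prod_apply, LinearMap.sum_apply]
  have hker : VV i₀ = LinearMap.ker L := by
    ext u
    rw [LinearMap.mem_ker, hL, mem_VV, Prod.mk_eq_zero]
  obtain ⟨j₀, hj₀⟩ : ∃ j₀ : Fin N, j₀ ≠ i₀ := by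
    by_contra hcon
    push Not at hcon
    have : Fintype.card (Fin N) ≤ 1 := Fintype.card_le_one_iff.2 fun a b => by rw [hcon a, hcon b]
    rw [Fintype.card_fin] at this
    omega
  have hsurj : Function.Surjective L := by
    rintro ⟨a, b⟩
    refine ⟨Pi.single j₀ (a - b) + Pi.single i₀ b, ?_⟩
    rw [hL]
    simp only [Pi.add_apply, Finset.sum_add_distrib, Pi.single_apply, Finset.sum_ite_eq', Finset.mem_univ,
      if_true, hj₀.symm, if_false, zero_add, sub_add_cancel]
  have h1 := LinearMap.finrank_range_add_finrank_ker L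
  rw [LinearMap.range_eq_top.2 hsurj, finrank_top, finrank_prod, finrank_self, finrank_fintype_fun_eq_card,
    Fintype.card_fin, ← hker] at h1
  omega

end

/-- S_2n ≤ Sp_(2n−2)(2) for n ≥ 3: there is an injective homomorphism from the symmetric group on 2n letters into the symplectic group of degree 2n − 2 over the field with two elements. -/
theorem result (n : ℕ) (hn : 3 ≤ n) : ∃ f : Equiv.Perm (Fin (2 * n)) →* Matrix.symplecticGroup (Fin (n - 1)) (ZMod 2), Function.Injective f := by
  have hN : Even (2 * n) := ⟨n, two_mul n⟩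
  let i₀ : Fin (2 * n) := ⟨0, by omega⟩
  let V := VV i₀
  let B : LinearMap.BilinForm (ZMod 2) V := (B₀ (N := 2 * n)).restrict V
  have hBapp : ∀ u v : V, B u v = B₀ (u : Fin (2 * n) → ZMod 2) (v : Fin (2 * n) → ZMod 2) := fun u v => rfl
  have hA : B.IsAlt := by
    intro u
    rw [hBapp]
    exact B₀_self i₀ _ u.2
  have hsymm : ∀ u v : Fin (2 * n) → ZMod 2, B₀ u v = B₀ v u := by
    intro u v
    rw [B₀_apply, B₀_apply]
    exact Finset.sum_congr rfl fun i _ => mul_comm _ _
  have hB : B.Nondegenerate := by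
    refine ⟨fun u hu => ?_, fun v hv => ?_⟩
    · apply Subtype.ext
      exact eq_zero_of_orth i₀ hN (by omega) _ u.2 (fun v hv => hu ⟨v, hv⟩)
    · apply Subtype.ext
      apply eq_zero_of_orth i₀ hN (by omega) _ v.2
      intro u hu
      rw [hsymm]
      exact hv ⟨u, hu⟩
  have hdim : finrank (ZMod 2) V = 2 * (n - 1) := by
    rw [finrank_VV i₀ (by omega)]
    omega
  let ρ : Equiv.Perm (Fin (2 * n)) →* (V →ₗ[ZMod 2] V) :=
    { toFun := fun σ => (RR i₀ σ).restrict (fun u hu => RR_mem i₀ hN σ u hu)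
      map_one' := by
        apply LinearMap.ext
        intro u
        apply Subtype.ext
        exact RR_one i₀ _ u.2
      map_mul' := by
        intro σ τ
        apply LinearMap.ext
        intro u
        apply Subtype.ext
        exact RR_mul i₀ σ τ _ }
  have hρapp : ∀ σ (u : V), ((ρ σ u : V) : Fin (2 * n) → ZMod 2) = RR i₀ σ u := fun σ u => rfl
  have hiso : ∀ σ (u v : V), B (ρ σ u) (ρ σ v) = B u v := by
    intro σ u v
    rw [hBapp, hBapp, hρapp, hρapp]
    exact B₀_RR i₀ hN σ _ _ u.2 v.2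
  have hρ : Function.Injective ρ := by
    rw [injective_iff_map_eq_one]
    intro σ hσ
    -- `σ` fixes every `i ≠ i₀`
    have hfix : ∀ i : Fin (2 * n), i ≠ i₀ → σ i = i := by
      intro i hi
      -- for `j ∉ {i₀, i}`, `σ i ∈ {i, j}`
      have key : ∀ j : Fin (2 * n), j ≠ i₀ → j ≠ i → σ i = i ∨ σ i = j := by
        intro j hj hji
        have hmem := single_add_single_mem i₀ hi hj (Ne.symm hji)
        have h1 : RR i₀ σ (Pi.single i 1 + Pi.single j 1) = Pi.single i 1 + Pi.single j 1 := by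
          have := congrArg (fun f : V →ₗ[ZMod 2] V => ((f ⟨_, hmem⟩ : V) : Fin (2 * n) → ZMod 2)) hσ
          exact this
        -- a coordinate away from everything
        obtain ⟨k, hk⟩ : ∃ k : Fin (2 * n), k ∉ ({i, j, σ i, σ j} : Finset (Fin (2 * n))) := by
          by_contra hcon
          push Not at hcon
          have h2 : (Finset.univ : Finset (Fin (2 * n))) ⊆ {i, j, σ i, σ j} := fun k _ => hcon k
          have h3 := Finset.card_le_card h2
          rw [Finset.card_univ, Fintype.card_fin] at h3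
          have h4 : ({i, j, σ i, σ j} : Finset (Fin (2 * n))).card ≤ 4 := Finset.card_le_four
          omega
        simp only [Finset.mem_insert, Finset.mem_singleton, not_or] at hk
        obtain ⟨hk1, hk2, hk3, hk4⟩ := hk
        have hc : (Pi.single i 1 + Pi.single j 1 : Fin (2 * n) → ZMod 2) (σ⁻¹ i₀) = 0 := by
          have h5 := congrFun h1 k
          rw [RR_apply] at h5
          have h6 : σ⁻¹ k ≠ i := fun h => hk3 (by rw [← h]; simp)
          have h7 : σ⁻¹ k ≠ j := fun h => hk4 (by rw [← h]; simp)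
          simp only [Pi.add_apply, Pi.single_apply, h6, h7, hk1, hk2, if_false, add_zero, zero_add] at h5
          simp only [Pi.add_apply, Pi.single_apply]
          exact h5
        have h8 := congrFun h1 (σ i)
        rw [RR_apply, hc, add_zero] at h8
        have h9 : σ⁻¹ (σ i) = i := by simp
        simp only [Pi.add_apply, Pi.single_apply, h9, if_true, Ne.symm hji, if_false, add_zero] at h8
        by_contra hcon
        push Not at hcon
        rw [if_neg hcon.1, if_neg hcon.2] at h8
        simp at h8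
      -- two different choices of `j`
      obtain ⟨j, hj⟩ : ∃ j : Fin (2 * n), j ∉ ({i₀, i} : Finset (Fin (2 * n))) := by
        by_contra hcon
        push Not at hcon
        have h2 : (Finset.univ : Finset (Fin (2 * n))) ⊆ {i₀, i} := fun k _ => hcon k
        have h3 := Finset.card_le_card h2
        rw [Finset.card_univ, Fintype.card_fin] at h3
        have h4 : ({i₀, i} : Finset (Fin (2 * n))).card ≤ 2 := Finset.card_le_two
        omega
      obtain ⟨j', hj'⟩ : ∃ j' : Fin (2 * n), j' ∉ ({i₀, i, j} : Finset (Fin (2 * n))) := by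
        by_contra hcon
        push Not at hcon
        have h2 : (Finset.univ : Finset (Fin (2 * n))) ⊆ {i₀, i, j} := fun k _ => hcon k
        have h3 := Finset.card_le_card h2
        rw [Finset.card_univ, Fintype.card_fin] at h3
        have h4 : ({i₀, i, j} : Finset (Fin (2 * n))).card ≤ 3 := Finset.card_le_three
        omega
      simp only [Finset.mem_insert, Finset.mem_singleton, not_or] at hj hj'
      rcases key j hj.1 hj.2 with h | h
      · exact h
      · rcases key j' hj'.1 hj'.2.1 with h' | h'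
        · exact h'
        · exact absurd (h.symm.trans h') (Ne.symm hj'.2.2)
    ext i
    by_cases hi : i = i₀
    · -- `σ i₀ = i₀` since everything else is fixed
      subst hi
      by_contra hne
      have h1 : σ i₀ ≠ i₀ := fun h => hne (by rw [h]; rfl)
      have h2 := hfix (σ i₀) h1
      exact h1 (σ.injective h2)
    · rw [hfix i hi]; rfl
  have := Cfsg.Agent.H9.SympEmbed.exists_embedding B hB hA (n - 1) hdim ρ hρ hiso
  exact this

end Cfsg.Agent.S0826
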