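import Cfsg.Statements.S0829
import Mathlib
import Cfsg.Agent.Lib.Helper5.Herm
import Cfsg.Agent.Lib.Helper5.HermCount
import Cfsg.Agent.Lib.Helper5.HermPlanes

set_option autoImplicit false
open Cfsg

namespace Cfsg.Agent.S0829

open Cfsg.Agent.Lib.Helper5.Herm Cfsg.Agent.Lib.Helper5.HermCount
  Cfsg.Agent.Lib.Helper5.HermPlanes


theorem cancel_int (q : ℕ) (hq : 2 ≤ q) : (q : ℤ) ≠ 0 := by
  have : (2 : ℤ) ≤ q := by exact_mod_cast hq
  omega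

theorem arithP (q M A P z e N : ℕ) (hq : 2 ≤ q)
    (hM : M * q ^ 3 = q ^ (e + 3))
    (hA : A + (q ^ 2 - 1) * M = z)
    (hP : P * (q ^ 4 - q ^ 2) = A - q ^ 2)
    (hz : (z : ℤ) = ((q : ℤ) ^ 2 - 1) * (q : ℤ) ^ e + ((N : ℤ) * ((q : ℤ) ^ 4 - (q : ℤ) ^ 2) + (q : ℤ) ^ 2)) :
    P = N := by
  have hq0 := cancel_int q hq
  have hqpos : 0 < q := by omega
  have hM' : M = q ^ e := by
    apply Nat.eq_of_mul_eq_mul_right (pow_pos hqpos 3)
    rw [hM, pow_add]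
  have h1 : 1 ≤ q ^ 2 := Nat.one_le_pow _ _ hqpos
  have h2 : q ^ 2 ≤ q ^ 4 := Nat.pow_le_pow_right hqpos (by norm_num)
  have hAZ : (A : ℤ) = (N : ℤ) * ((q : ℤ) ^ 4 - (q : ℤ) ^ 2) + (q : ℤ) ^ 2 := by
    have h3 : ((A + (q ^ 2 - 1) * M : ℕ) : ℤ) = (z : ℤ) := by rw [hA]
    rw [hM'] at h3
    push_cast [h1] at h3
    linear_combination h3 + hz
  have hpos : (0 : ℤ) < (q : ℤ) ^ 4 - (q : ℤ) ^ 2 := by
    have : (q : ℤ) ^ 2 < (q : ℤ) ^ 4 := by
      have hq' : (2 : ℤ) ≤ q := by exact_mod_cast hq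
      nlinarith [sq_nonneg ((q : ℤ) ^ 2), sq_nonneg (q : ℤ)]
    linarith
  have h4 : q ^ 2 ≤ A := by
    zify
    rw [hAZ]
    have : (0 : ℤ) ≤ (N : ℤ) * ((q : ℤ) ^ 4 - (q : ℤ) ^ 2) :=
      mul_nonneg (by positivity) hpos.le
    linarith
  have hPZ : (P : ℤ) * ((q : ℤ) ^ 4 - (q : ℤ) ^ 2) = (A : ℤ) - (q : ℤ) ^ 2 := by
    have := congrArg (fun x : ℕ => (x : ℤ)) hP
    push_cast [h2, h4] at this
    exact this
  have : (P : ℤ) = N := by
    apply mul_right_cancel₀ hpos.ne'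
    rw [hPZ, hAZ]; ring
  exact_mod_cast this

theorem arithT (q T z N R : ℕ) (hq : 2 ≤ q)
    (hT : T * (q ^ 4 - 1) = (z - 1) * N)
    (hz : (z : ℤ) = (R : ℤ) * ((q : ℤ) ^ 4 - 1) + 1) :
    T = R * N := by
  have hqpos : 0 < q := by omega
  have h1 : 1 ≤ q ^ 4 := Nat.one_le_pow _ _ hqpos
  have hpos : (0 : ℤ) < (q : ℤ) ^ 4 - 1 := by
    have hq' : (2 : ℤ) ≤ q := by exact_mod_cast hq
    have := pow_le_pow_left₀ (by norm_num : (0 : ℤ) ≤ 2) hq' 4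
    norm_num at this
    linarith
  have h2 : 1 ≤ z := by
    zify
    rw [hz]
    have : (0 : ℤ) ≤ (R : ℤ) * ((q : ℤ) ^ 4 - 1) := mul_nonneg (by positivity) hpos.le
    linarith
  have hTZ : (T : ℤ) * ((q : ℤ) ^ 4 - 1) = ((z : ℤ) - 1) * N := by
    have := congrArg (fun x : ℕ => (x : ℤ)) hT
    push_cast [h1, h2] at this
    exact this
  have : (T : ℤ) = (R : ℤ) * N := by
    apply mul_right_cancel₀ hpos.ne'
    rw [hTZ, hz]; ring
  exact_mod_cast this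


/-- the number of isotropic vectors, over the integers -/
theorem z_int {q : ℕ} (hq : 2 ≤ q) (n : ℕ) :
    ((uz q n).2 : ℤ) * q =
      (q : ℤ) ^ (2 * n) * q - ((q : ℤ) - 1) * ((q : ℤ) ^ n * ((q : ℤ) ^ n - (-1) ^ n)) := by
  obtain ⟨h1, h2⟩ := uz_closed hq n
  linear_combination (q : ℤ) * h2 - ((q : ℤ) - 1) * h1

/-- the general count, given the shape of the number of isotropic vectors -/
theorem count_planes {F : Type*} [Field F] [Fintype F] {q : ℕ} (hF : Fintype.card F = q ^ 2)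
    (n e N R : ℕ) (he : 2 * n = e + 3)
    (hz1 : ((uz q n).2 : ℤ) =
      ((q : ℤ) ^ 2 - 1) * (q : ℤ) ^ e + ((N : ℤ) * ((q : ℤ) ^ 4 - (q : ℤ) ^ 2) + (q : ℤ) ^ 2))
    (hz2 : ((uz q n).2 : ℤ) = (R : ℤ) * ((q : ℤ) ^ 4 - 1) + 1) :
    Nat.card {W : Submodule F (Fin n → F) // Module.finrank F W = 2 ∧
      ∀ u ∈ W, ∀ v ∈ W, Cfsg.hermForm n F q u v = 0} = R * N := by
  have hq : 2 ≤ q := one_lt_q hF
  have hz := (cnt_eq_uz hF n).2
  have hN : ∀ v : Fin n → F, v ≠ 0 → hermForm n F q v v = 0 →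
      Nat.card {W : Submodule F (Fin n → F) // Module.finrank F W = 2 ∧ v ∈ W ∧
        ∀ u ∈ W, ∀ w ∈ W, hermForm n F q u w = 0} = N := by
    intro v hv hv0
    have hM := card_hyp_partner hF n v hv hv0
    have hA := card_iso_perp hF n v
    have hP := card_planes_through hF n v hv hv0
    rw [hz] at hA
    rw [he] at hM
    exact arithP q _ _ _ _ e N hq hM hA hP hz1
  have hT := card_planes_total hF n N hN
  rw [hz] at hT
  exact arithT q _ _ N R hq hT hz2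

theorem result {F : Type*} [Field F] [Fintype F] {q : ℕ} (hF : Fintype.card F = q ^ 2) : Nat.card {W : Submodule F (Fin 4 → F) // Module.finrank F W = 2 ∧ ∀ u ∈ W, ∀ v ∈ W, Cfsg.hermForm 4 F q u v = 0} = (q + 1) * (q ^ 3 + 1) := by
  have hq : 2 ≤ q := one_lt_q hF
  have hq0 := cancel_int q hq
  have hz := z_int hq 4
  have hz' : ((uz q 4).2 : ℤ) = (q : ℤ) ^ 7 + (q : ℤ) ^ 4 - (q : ℤ) ^ 3 := by
    apply mul_right_cancel₀ hq0
    rw [hz]
    norm_num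
    ring
  rw [mul_comm]
  apply count_planes hF 4 5 (q + 1) (q ^ 3 + 1) (by norm_num)
  · rw [hz']; push_cast; ring
  · rw [hz']; push_cast; ring

end Cfsg.Agent.S0829
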