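import Cfsg.Statements.S0830
import Mathlib
import Cfsg.Agent.Lib.Helper5.Herm
import Cfsg.Agent.Lib.Helper5.HermCount
import Cfsg.Agent.Lib.Helper5.HermPlanes
import Cfsg.Agent.S0829

set_option autoImplicit false
open Cfsg

namespace Cfsg.Agent.S0830

open Cfsg.Agent.Lib.Helper5.Herm Cfsg.Agent.Lib.Helper5.HermCount
  Cfsg.Agent.Lib.Helper5.HermPlanes Cfsg.Agent.S0829

theorem result {F : Type*} [Field F] [Fintype F] {q : ℕ} (hF : Fintype.card F = q ^ 2) : Nat.card {W : Submodule F (Fin 5 → F) // Module.finrank F W = 2 ∧ ∀ u ∈ W, ∀ v ∈ W, Cfsg.hermForm 5 F q u v = 0} = (q ^ 3 + 1) * (q ^ 5 + 1) := by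
  have hq : 2 ≤ q := one_lt_q hF
  have hq0 := cancel_int q hq
  have hz := z_int hq 5
  have hz' : ((uz q 5).2 : ℤ) = (q : ℤ) ^ 9 - (q : ℤ) ^ 5 + (q : ℤ) ^ 4 := by
    apply mul_right_cancel₀ hq0
    rw [hz]
    norm_num
    ring
  rw [mul_comm]
  apply count_planes hF 5 7 (q ^ 3 + 1) (q ^ 5 + 1) (by norm_num)
  · rw [hz']; push_cast; ring
  · rw [hz']; push_cast; ring

end Cfsg.Agent.S0830
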