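import Mathlib
import Cfsg.Statements.S0831
import Cfsg.Agent.S0287

set_option autoImplicit false
open Cfsg

namespace Cfsg.Agent.S0831


section Part0

open Module

variable {F V : Type*} [Field F] [AddCommGroup V] [Module F V]

/-- totally singular -/
def IsTS (Q : QuadraticForm F V) (U : Submodule F V) : Prop := ∀ u ∈ U, Q u = 0

/-- the polar orthogonal -/
noncomputable def orth (Q : QuadraticForm F V) (U : Submodule F V) : Submodule F V :=
  LinearMap.BilinForm.orthogonal (QuadraticMap.polarBilin Q) U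

variable {Q : QuadraticForm F V}

theorem mem_orth {U : Submodule F V} {v : V} :
    v ∈ orth Q U ↔ ∀ u ∈ U, QuadraticMap.polar Q u v = 0 := Iff.rfl

theorem polar_symm (u v : V) : QuadraticMap.polar Q u v = QuadraticMap.polar Q v u :=
  QuadraticMap.polar_comm Q u v

theorem IsTS.polar {U : Submodule F V} (hU : IsTS Q U) {u w : V} (hu : u ∈ U) (hw : w ∈ U) :
    QuadraticMap.polar Q u w = 0 := by
  unfold QuadraticMap.polar
  rw [hU _ (U.add_mem hu hw), hU _ hu, hU _ hw]
  simp

theorem IsTS.le_orth {U : Submodule F V} (hU : IsTS Q U) : U ≤ orth Q U := by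
  intro w hw u hu
  exact hU.polar hu hw

theorem IsTS.mono {U W : Submodule F V} (hU : IsTS Q U) (h : W ≤ U) : IsTS Q W :=
  fun w hw => hU w (h hw)

theorem orth_anti {U W : Submodule F V} (h : U ≤ W) : orth Q W ≤ orth Q U :=
  LinearMap.BilinForm.orthogonal_le h

theorem orth_sup (U W : Submodule F V) : orth Q (U ⊔ W) = orth Q U ⊓ orth Q W := by
  apply le_antisymm
  · exact le_inf (orth_anti le_sup_left) (orth_anti le_sup_right)
  · rintro v ⟨hU, hW⟩ x hx
    obtain ⟨u, hu, w, hw, rfl⟩ := Submodule.mem_sup.1 hx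
    have h1 := hU u hu
    have h2 := hW w hw
    change QuadraticMap.polarBilin Q (u + w) v = 0
    rw [map_add, LinearMap.add_apply]
    change QuadraticMap.polarBilin Q u v = 0 at h1
    change QuadraticMap.polarBilin Q w v = 0 at h2
    rw [h1, h2, add_zero]

theorem mem_orth_span_singleton {w v : V} :
    v ∈ orth Q (F ∙ w) ↔ QuadraticMap.polar Q w v = 0 := by
  constructor
  · intro h
    exact h w (Submodule.mem_span_singleton_self w)
  · intro h u hu
    obtain ⟨c, rfl⟩ := Submodule.mem_span_singleton.1 hu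
    change QuadraticMap.polar Q (c • w) v = 0
    rw [QuadraticMap.polar_smul_left, h, smul_zero]

variable [FiniteDimensional F V]

theorem finrank_orth (hQ : (QuadraticMap.polarBilin Q).Nondegenerate) (U : Submodule F V) :
    finrank F (orth Q U) = finrank F V - finrank F U :=
  LinearMap.BilinForm.finrank_orthogonal hQ U

/-- maximal totally singular of dimension m -/
def IsMTS (Q : QuadraticForm F V) (m : ℕ) (U : Submodule F V) : Prop :=
  finrank F U = m ∧ IsTS Q U

theorem IsMTS.orth_eq (hQ : (QuadraticMap.polarBilin Q).Nondegenerate) {m : ℕ}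
    (hV : finrank F V = 2 * m) {U : Submodule F V} (hU : IsMTS Q m U) : orth Q U = U := by
  symm
  apply Submodule.eq_of_le_of_finrank_eq hU.2.le_orth
  rw [finrank_orth hQ, hV, hU.1]
  omega

theorem IsMTS.inf_orth (hQ : (QuadraticMap.polarBilin Q).Nondegenerate) {m : ℕ}
    (hV : finrank F V = 2 * m) {U : Submodule F V} (hU : IsMTS Q m U) (S : Submodule F V) :
    U ⊓ orth Q S = orth Q (U ⊔ S) := by
  rw [orth_sup, hU.orth_eq hQ hV]

theorem IsMTS.eq_of_le {m : ℕ} {U W : Submodule F V} (hU : IsMTS Q m U) (hW : IsMTS Q m W)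
    (h : U ≤ W) : U = W :=
  Submodule.eq_of_le_of_finrank_eq h (by rw [hU.1, hW.1])

theorem IsMTS.finrank_inf_le {m : ℕ} {U : Submodule F V} (hU : IsMTS Q m U)
    (W : Submodule F V) : finrank F ↥(U ⊓ W) ≤ m := by
  rw [← hU.1]
  exact Submodule.finrank_mono inf_le_left

theorem IsMTS.finrank_inf_le' {m : ℕ} {U : Submodule F V} (hU : IsMTS Q m U)
    (W : Submodule F V) : finrank F ↥(W ⊓ U) ≤ m := by
  rw [← hU.1]
  exact Submodule.finrank_mono inf_le_right

/-- a subspace inside the union of two subspaces is inside one of them -/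
theorem le_or_le_of_subset_union {X U W : Submodule F V}
    (h : ∀ y ∈ X, y ∈ U ∨ y ∈ W) : X ≤ U ∨ X ≤ W := by
  by_contra hcon
  rw [not_or] at hcon
  obtain ⟨h1, h2⟩ := hcon
  rw [SetLike.not_le_iff_exists] at h1 h2
  obtain ⟨a, haX, haU⟩ := h1
  obtain ⟨b, hbX, hbW⟩ := h2
  have haW : a ∈ W := (h a haX).resolve_left haU
  have hbU : b ∈ U := (h b hbX).resolve_right hbW
  rcases h (a + b) (X.add_mem haX hbX) with h3 | h3
  · apply haU
    have := U.sub_mem h3 hbU
    simpa using this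
  · apply hbW
    have := W.sub_mem h3 haW
    simpa using this

end Part0

section Part1

open Module

variable {F V : Type*} [Field F] [AddCommGroup V] [Module F V] [FiniteDimensional F V]
variable {Q : QuadraticForm F V}

theorem IsMTS.orth_inf (hQ : (QuadraticMap.polarBilin Q).Nondegenerate) {m : ℕ}
    (hV : finrank F V = 2 * m) {U W : Submodule F V} (hU : IsMTS Q m U) (hW : IsMTS Q m W) :
    orth Q (U ⊓ W) = U ⊔ W := by
  symm
  apply Submodule.eq_of_le_of_finrank_eq
  · apply sup_le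
    · calc U = orth Q U := (hU.orth_eq hQ hV).symm
        _ ≤ orth Q (U ⊓ W) := orth_anti inf_le_left
    · calc W = orth Q W := (hW.orth_eq hQ hV).symm
        _ ≤ orth Q (U ⊓ W) := orth_anti inf_le_right
  · rw [finrank_orth hQ, hV]
    have h1 := Submodule.finrank_sup_add_finrank_inf_eq U W
    rw [hU.1, hW.1] at h1
    omega

theorem mem_or_mem (hQ : (QuadraticMap.polarBilin Q).Nondegenerate) {m : ℕ}
    (hV : finrank F V = 2 * m) {U W : Submodule F V} (hU : IsMTS Q m U) (hW : IsMTS Q m W)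
    (hD : finrank F ↥(U ⊓ W) + 1 = m) {y : V} (hy : y ∈ U ⊔ W) (hQy : Q y = 0) :
    y ∈ U ∨ y ∈ W := by
  obtain ⟨u, hu, w, hw, rfl⟩ := Submodule.mem_sup.1 hy
  have hpol : QuadraticMap.polar Q u w = 0 := by
    unfold QuadraticMap.polar
    rw [hQy, hU.2 u hu, hW.2 w hw]
    simp
  by_cases hwU : w ∈ U
  · left
    exact U.add_mem hu hwU
  · right
    refine W.add_mem ?_ hw
    -- W = (U ⊓ W) ⊔ span w
    have hle : (U ⊓ W) ⊔ (F ∙ w) ≤ W := by
      apply sup_le inf_le_right
      rw [Submodule.span_singleton_le_iff_mem]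
      exact hw
    have hlt : U ⊓ W < (U ⊓ W) ⊔ (F ∙ w) := by
      apply lt_of_le_of_ne le_sup_left
      intro heq
      apply hwU
      have : w ∈ U ⊓ W := by
        rw [heq]
        exact Submodule.mem_sup_right (Submodule.mem_span_singleton_self w)
      exact this.1
    have hfr := Submodule.finrank_lt_finrank_of_lt hlt
    have hWeq : (U ⊓ W) ⊔ (F ∙ w) = W := by
      apply Submodule.eq_of_le_of_finrank_le hle
      rw [hW.1]
      omega
    have h1 : u ∈ orth Q (U ⊓ W) := by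
      have : u ∈ orth Q U := by
        rw [hU.orth_eq hQ hV]; exact hu
      exact orth_anti inf_le_left this
    have h2 : u ∈ orth Q (F ∙ w) := by
      rw [mem_orth_span_singleton, polar_symm]
      exact hpol
    have h3 : u ∈ orth Q ((U ⊓ W) ⊔ (F ∙ w)) := by
      rw [orth_sup]
      exact ⟨h1, h2⟩
    rw [hWeq, hW.orth_eq hQ hV] at h3
    exact h3

theorem adjacent_aux (hQ : (QuadraticMap.polarBilin Q).Nondegenerate) {m : ℕ}
    (hV : finrank F V = 2 * m) {U W X : Submodule F V} (hU : IsMTS Q m U) (hW : IsMTS Q m W)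
    (hX : IsMTS Q m X) (hD : finrank F ↥(U ⊓ W) + 1 = m)
    (hle : X ⊓ orth Q (U ⊓ W) ≤ U) :
    finrank F ↥(X ⊓ U) = finrank F ↥(X ⊓ W) + 1 := by
  have e1 : X ⊓ U = X ⊓ orth Q (U ⊓ W) := by
    apply le_antisymm
    · apply le_inf inf_le_left
      calc X ⊓ U ≤ U := inf_le_right
        _ = orth Q U := (hU.orth_eq hQ hV).symm
        _ ≤ orth Q (U ⊓ W) := orth_anti inf_le_left
    · exact le_inf inf_le_left hle
  have e2 : X ⊓ W = X ⊓ (U ⊓ W) := by
    apply le_antisymm
    · apply le_inf inf_le_left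
      apply le_inf _ inf_le_right
      refine le_trans ?_ hle
      apply le_inf inf_le_left
      calc X ⊓ W ≤ W := inf_le_right
        _ = orth Q W := (hW.orth_eq hQ hV).symm
        _ ≤ orth Q (U ⊓ W) := orth_anti inf_le_right
    · exact inf_le_inf_left _ inf_le_right
  rw [e1, e2, hX.inf_orth hQ hV, finrank_orth hQ, hV]
  have h1 := Submodule.finrank_sup_add_finrank_inf_eq X (U ⊓ W)
  rw [hX.1] at h1
  have h2 : finrank F ↥(X ⊓ (U ⊓ W)) ≤ finrank F ↥(U ⊓ W) :=
    Submodule.finrank_mono inf_le_right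
  omega

theorem adjacent (hQ : (QuadraticMap.polarBilin Q).Nondegenerate) {m : ℕ}
    (hV : finrank F V = 2 * m) {U W X : Submodule F V} (hU : IsMTS Q m U) (hW : IsMTS Q m W)
    (hX : IsMTS Q m X) (hD : finrank F ↥(U ⊓ W) + 1 = m) :
    finrank F ↥(X ⊓ U) = finrank F ↥(X ⊓ W) + 1 ∨
      finrank F ↥(X ⊓ W) = finrank F ↥(X ⊓ U) + 1 := by
  have hmem : ∀ y ∈ X ⊓ orth Q (U ⊓ W), y ∈ U ∨ y ∈ W := by
    rintro y ⟨hyX, hyO⟩
    have hyO' : y ∈ orth Q (U ⊓ W) := hyO
    rw [hU.orth_inf hQ hV hW] at hyO'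
    exact mem_or_mem hQ hV hU hW hD hyO' (hX.2 y hyX)
  rcases le_or_le_of_subset_union hmem with h | h
  · left
    exact adjacent_aux hQ hV hU hW hX hD h
  · right
    rw [inf_comm U W] at h hD
    exact adjacent_aux hQ hV hW hU hX hD h

end Part1

section Part2

open Module

variable {F V : Type*} [Field F] [AddCommGroup V] [Module F V] [FiniteDimensional F V]
variable {Q : QuadraticForm F V}

theorem IsTS.finrank_le (hQ : (QuadraticMap.polarBilin Q).Nondegenerate) {m : ℕ}
    (hV : finrank F V = 2 * m) {U : Submodule F V} (hU : IsTS Q U) : finrank F U ≤ m := by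
  have h1 := Submodule.finrank_mono hU.le_orth
  rw [finrank_orth hQ, hV] at h1
  omega

/-- the neighbour of `U` through the singular vector `w` -/
noncomputable def nbr (Q : QuadraticForm F V) (U : Submodule F V) (w : V) : Submodule F V :=
  (U ⊓ orth Q (F ∙ w)) ⊔ (F ∙ w)

theorem mem_nbr (U : Submodule F V) (w : V) : w ∈ nbr Q U w :=
  Submodule.mem_sup_right (Submodule.mem_span_singleton_self w)

theorem nbr_isTS {U : Submodule F V} (hU : IsTS Q U) {w : V} (hw : Q w = 0) :
    IsTS Q (nbr Q U w) := by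
  intro y hy
  obtain ⟨u, hu, z, hz, rfl⟩ := Submodule.mem_sup.1 hy
  obtain ⟨c, rfl⟩ := Submodule.mem_span_singleton.1 hz
  have h1 : QuadraticMap.polar Q w u = 0 := mem_orth_span_singleton.1 hu.2
  rw [QuadraticMap.map_add (⇑Q) u (c • w), hU u hu.1, QuadraticMap.map_smul, hw, QuadraticMap.polar_smul_right,
    polar_symm, h1]
  simp

theorem inf_le_nbr {U W : Submodule F V} (hW : IsTS Q W) {w : V} (hw : w ∈ W) :
    U ⊓ W ≤ nbr Q U w := by
  intro x hx
  apply Submodule.mem_sup_left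
  refine ⟨hx.1, ?_⟩
  change x ∈ orth Q (F ∙ w)
  rw [mem_orth_span_singleton]
  exact hW.polar hw hx.2

theorem finrank_sup_span_le (U : Submodule F V) (w : V) :
    finrank F ↥(U ⊔ (F ∙ w)) ≤ finrank F U + 1 := by
  have h1 := Submodule.finrank_add_le_finrank_add_finrank U (F ∙ w)
  have h2 : finrank F ↥(F ∙ w) ≤ 1 := by
    have := finrank_span_le_card (R := F) ({w} : Set V)
    simpa using this
  omega

theorem lt_sup_span {U : Submodule F V} {w : V} (hw : w ∉ U) : U < U ⊔ (F ∙ w) := by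
  apply lt_of_le_of_ne le_sup_left
  intro heq
  apply hw
  rw [heq]
  exact Submodule.mem_sup_right (Submodule.mem_span_singleton_self w)

theorem nbr_facts (hQ : (QuadraticMap.polarBilin Q).Nondegenerate) {m : ℕ}
    (hV : finrank F V = 2 * m) {U : Submodule F V} (hU : IsMTS Q m U) {w : V} (hw : Q w = 0)
    (hwU : w ∉ U) : IsMTS Q m (nbr Q U w) ∧ finrank F ↥(U ⊓ nbr Q U w) + 1 = m := by
  have hTS := nbr_isTS hU.2 hw
  have hle := hTS.finrank_le hQ hV
  have h1 : finrank F ↥(U ⊓ orth Q (F ∙ w)) = 2 * m - finrank F ↥(U ⊔ (F ∙ w)) := by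
    rw [hU.inf_orth hQ hV, finrank_orth hQ, hV]
  have h2 := finrank_sup_span_le U w
  rw [hU.1] at h2
  have hw1 : w ∉ U ⊓ orth Q (F ∙ w) := fun h => hwU h.1
  have h3 : finrank F ↥(U ⊓ orth Q (F ∙ w)) < finrank F ↥(nbr Q U w) :=
    Submodule.finrank_lt_finrank_of_lt (lt_sup_span hw1)
  have hfr : finrank F ↥(nbr Q U w) = m := by omega
  refine ⟨⟨hfr, hTS⟩, ?_⟩
  have h4 : U ⊓ nbr Q U w < nbr Q U w := by
    apply lt_of_le_of_ne inf_le_right
    intro heq
    apply hwU
    have : w ∈ U ⊓ nbr Q U w := by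
      rw [heq]; exact mem_nbr U w
    exact this.1
  have h5 := Submodule.finrank_lt_finrank_of_lt h4
  have h6 : finrank F ↥(U ⊓ orth Q (F ∙ w)) ≤ finrank F ↥(U ⊓ nbr Q U w) := by
    apply Submodule.finrank_mono
    exact le_inf inf_le_left le_sup_left
  omega

theorem exists_step (hQ : (QuadraticMap.polarBilin Q).Nondegenerate) {m : ℕ}
    (hV : finrank F V = 2 * m) {U W : Submodule F V} (hU : IsMTS Q m U) (hW : IsMTS Q m W)
    (hne : U ≠ W) :
    ∃ U' : Submodule F V, IsMTS Q m U' ∧ finrank F ↥(U ⊓ U') + 1 = m ∧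
      finrank F ↥(U ⊓ W) < finrank F ↥(U' ⊓ W) := by
  have : ¬ W ≤ U := fun h => hne (hW.eq_of_le hU h).symm
  rw [SetLike.not_le_iff_exists] at this
  obtain ⟨w, hwW, hwU⟩ := this
  obtain ⟨h1, h2⟩ := nbr_facts hQ hV hU (hW.2 w hwW) hwU
  refine ⟨nbr Q U w, h1, h2, ?_⟩
  apply Submodule.finrank_lt_finrank_of_lt
  apply lt_of_le_of_ne
  · exact le_inf (inf_le_nbr hW.2 hwW) inf_le_right
  · intro heq
    apply hwU
    have : w ∈ U ⊓ W := by
      rw [heq]
      exact ⟨mem_nbr U w, hwW⟩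
    exact this.1

theorem parity (hQ : (QuadraticMap.polarBilin Q).Nondegenerate) {m : ℕ}
    (hV : finrank F V = 2 * m) (X : Submodule F V) (hX : IsMTS Q m X) :
    ∀ (k : ℕ) (U W : Submodule F V), IsMTS Q m U → IsMTS Q m W →
      m - finrank F ↥(U ⊓ W) = k →
      Even ((m - finrank F ↥(U ⊓ W)) + (m - finrank F ↥(W ⊓ X)) + (m - finrank F ↥(U ⊓ X))) := by
  intro k
  induction k using Nat.strong_induction_on with
  | _ k ih =>
    intro U W hU hW hk
    by_cases hne : U = W
    · subst hne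
      rw [inf_idem, hU.1, Nat.even_iff]
      omega
    · obtain ⟨U', hU', hadj, hlt⟩ := exists_step hQ hV hU hW hne
      have hb1 := hU'.finrank_inf_le W
      have hb2 := hU.finrank_inf_le W
      have hb3 := hW.finrank_inf_le X
      have hb4 := hU.finrank_inf_le X
      have hb5 := hU'.finrank_inf_le X
      have hIH := ih (m - finrank F ↥(U' ⊓ W)) (by omega) U' W hU' hW rfl
      have ha1 := adjacent hQ hV hU hU' hX hadj
      have ha2 := adjacent hQ hV hU hU' hW hadj
      rw [inf_comm X U, inf_comm X U'] at ha1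
      rw [inf_comm W U, inf_comm W U'] at ha2
      rw [Nat.even_iff] at hIH ⊢
      omega

end Part2

section Part3

open Module Cfsg.Agent.S0287

variable {F : Type*} [Field F] (m : ℕ)

/-- the standard maximal totally singular subspace `{v | v ∘ inr = 0}` -/
noncomputable def U0 : Submodule F (Fin m ⊕ Fin m → F) :=
  LinearMap.ker (LinearMap.funLeft F F (Sum.inr : Fin m → Fin m ⊕ Fin m))

theorem mem_U0 {v : Fin m ⊕ Fin m → F} : v ∈ U0 (F := F) m ↔ ∀ i, v (Sum.inr i) = 0 := by
  unfold U0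
  rw [LinearMap.mem_ker]
  constructor
  · intro h i
    exact congrFun h i
  · intro h
    funext i
    exact h i

theorem finrank_V : finrank F (Fin m ⊕ Fin m → F) = 2 * m := by
  rw [Module.finrank_fintype_fun_eq_card]
  simp
  ring

theorem U0_isMTS : IsMTS (QP (F := F) m) m (U0 m) := by
  constructor
  · have h1 := LinearMap.finrank_range_add_finrank_ker
      (LinearMap.funLeft F F (Sum.inr : Fin m → Fin m ⊕ Fin m))
    have h2 : LinearMap.range (LinearMap.funLeft F F (Sum.inr : Fin m → Fin m ⊕ Fin m)) = ⊤ :=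
      LinearMap.range_eq_top.2 (LinearMap.funLeft_surjective_of_injective F F _ Sum.inr_injective)
    rw [h2, finrank_top, finrank_V, Module.finrank_fintype_fun_eq_card, Fintype.card_fin] at h1
    unfold U0
    omega
  · intro v hv
    rw [mem_U0] at hv
    rw [QP_apply]
    unfold quadFormPlus
    apply Finset.sum_eq_zero
    intro i _
    rw [hv i, mul_zero]

theorem exists_adjacent (hm : 1 ≤ m) :
    ∃ U W : Submodule F (Fin m ⊕ Fin m → F), IsMTS (QP (F := F) m) m U ∧
      IsMTS (QP (F := F) m) m W ∧ finrank F ↥(U ⊓ W) + 1 = m := by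
  have hw : (Pi.single (Sum.inr (⟨0, hm⟩ : Fin m)) (1 : F) : Fin m ⊕ Fin m → F) ∉ U0 m := by
    intro h
    rw [mem_U0] at h
    have := h ⟨0, hm⟩
    simp at this
  obtain ⟨h1, h2⟩ := nbr_facts (nondegenerate m) (finrank_V m) (U0_isMTS m)
    (QP_single m (Sum.inr (⟨0, hm⟩ : Fin m))) hw
  exact ⟨U0 m, _, U0_isMTS m, h1, h2⟩

theorem isMTS_of {U : Submodule F (Fin m ⊕ Fin m → F)}
    (h : finrank F U = m ∧ ∀ w ∈ U, Cfsg.quadFormPlus m F w = 0) :
    IsMTS (QP (F := F) m) m U :=
  ⟨h.1, fun u hu => by rw [QP_apply]; exact h.2 u hu⟩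

theorem of_isMTS {U : Submodule F (Fin m ⊕ Fin m → F)}
    (h : IsMTS (QP (F := F) m) m U) :
    finrank F U = m ∧ ∀ w ∈ U, Cfsg.quadFormPlus m F w = 0 :=
  ⟨h.1, fun u hu => by rw [← QP_apply]; exact h.2 u hu⟩

theorem result {F : Type*} [Field F] (m : ℕ) (hm : 1 ≤ m) : (∀ U W X : Submodule F (Fin m ⊕ Fin m → F), (Module.finrank F U = m ∧ ∀ w ∈ U, Cfsg.quadFormPlus m F w = 0) → (Module.finrank F W = m ∧ ∀ w ∈ W, Cfsg.quadFormPlus m F w = 0) → (Module.finrank F X = m ∧ ∀ w ∈ X, Cfsg.quadFormPlus m F w = 0) → Even ((m - Module.finrank F ↥(U ⊓ W)) + (m - Module.finrank F ↥(W ⊓ X)) + (m - Module.finrank F ↥(U ⊓ X)))) ∧ ∃ U W : Submodule F (Fin m ⊕ Fin m → F), (Module.finrank F U = m ∧ ∀ w ∈ U, Cfsg.quadFormPlus m F w = 0) ∧ (Module.finrank F W = m ∧ ∀ w ∈ W, Cfsg.quadFormPlus m F w = 0) ∧ Module.finrank F ↥(U ⊓ W) + 1 = m := by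
  constructor
  · intro U W X hU hW hX
    exact parity (nondegenerate m) (finrank_V m) X (isMTS_of m hX) _ U W (isMTS_of m hU)
      (isMTS_of m hW) rfl
  · obtain ⟨U, W, hU, hW, h⟩ := exists_adjacent (F := F) m hm
    exact ⟨U, W, of_isMTS m hU, of_isMTS m hW, h⟩

end Part3

end Cfsg.Agent.S0831
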