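import Cfsg.Statements.S0832
import Mathlib
import Cfsg.Agent.Lib.Helper5.QuadWitt
import Cfsg.Agent.S0287

set_option autoImplicit false
open Cfsg

namespace Cfsg.Agent.S0832

open Cfsg.Agent.S0750 Cfsg.Agent.Lib.Helper5.QuadWitt Cfsg.Agent.S0287

section std
variable {F : Type*} [Field F] (k : ℕ)

theorem polar_inl_right (u : Fin (k + 1) ⊕ Fin (k + 1) → F) (c : Fin (k + 1) ⊕ Fin (k + 1)) :
    QuadraticMap.polarBilin (QP (k + 1)) u (Pi.single c 1) = u (Sum.swap c) := by
  classical
  rw [polar_apply]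
  rcases c with i | i <;> simp [Pi.single_apply, Finset.sum_ite_eq, eq_comm]

/-- the standard totally singular subspace of dimension `k` -/
def U₀ : Submodule F (Fin (k + 1) ⊕ Fin (k + 1) → F) :=
  Submodule.span F (Set.range (fun c : Fin k =>
    (Pi.single (Sum.inl (Fin.castSucc c)) 1 : Fin (k + 1) ⊕ Fin (k + 1) → F)))

/-- the first maximal totally singular subspace -/
def W₁ : Submodule F (Fin (k + 1) ⊕ Fin (k + 1) → F) where
  carrier := {v | ∀ i, v (Sum.inr i) = 0}
  add_mem' := by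
    intro a b ha hb i
    simp only [Set.mem_ofPred_eq] at ha hb
    simp [ha i, hb i]
  zero_mem' := by intro i; rfl
  smul_mem' := by
    intro c a ha i
    simp only [Set.mem_ofPred_eq] at ha
    simp [ha i]

/-- the second maximal totally singular subspace -/
def W₂ : Submodule F (Fin (k + 1) ⊕ Fin (k + 1) → F) where
  carrier := {v | (∀ i, i ≠ Fin.last k → v (Sum.inr i) = 0) ∧ v (Sum.inl (Fin.last k)) = 0}
  add_mem' := by
    intro a b ha hb
    simp only [Set.mem_ofPred_eq] at ha hb ⊢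
    exact ⟨fun i hi => by simp [ha.1 i hi, hb.1 i hi], by simp [ha.2, hb.2]⟩
  zero_mem' := ⟨fun i _ => rfl, rfl⟩
  smul_mem' := by
    intro c a ha
    simp only [Set.mem_ofPred_eq] at ha ⊢
    exact ⟨fun i hi => by simp [ha.1 i hi], by simp [ha.2]⟩

theorem mem_W₁ (v : Fin (k + 1) ⊕ Fin (k + 1) → F) : v ∈ W₁ k ↔ ∀ i, v (Sum.inr i) = 0 := Iff.rfl

theorem mem_W₂ (v : Fin (k + 1) ⊕ Fin (k + 1) → F) :
    v ∈ W₂ k ↔ (∀ i, i ≠ Fin.last k → v (Sum.inr i) = 0) ∧ v (Sum.inl (Fin.last k)) = 0 := Iff.rfl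

theorem Q_W₁ (v : Fin (k + 1) ⊕ Fin (k + 1) → F) (hv : v ∈ W₁ k) : QP (k + 1) v = 0 := by
  rw [QP_apply]
  unfold quadFormPlus
  apply Finset.sum_eq_zero
  intro i _
  rw [(mem_W₁ k v).1 hv i, mul_zero]

theorem Q_W₂ (v : Fin (k + 1) ⊕ Fin (k + 1) → F) (hv : v ∈ W₂ k) : QP (k + 1) v = 0 := by
  rw [QP_apply]
  unfold quadFormPlus
  apply Finset.sum_eq_zero
  intro i _
  by_cases hi : i = Fin.last k
  · rw [hi, ((mem_W₂ k v).1 hv).2, zero_mul]
  · rw [((mem_W₂ k v).1 hv).1 i hi, mul_zero]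

theorem U₀_le_W₁ : U₀ (F := F) k ≤ W₁ k := by
  unfold U₀
  rw [Submodule.span_le]
  rintro _ ⟨c, rfl⟩
  intro i
  simp

theorem U₀_le_W₂ : U₀ (F := F) k ≤ W₂ k := by
  unfold U₀
  rw [Submodule.span_le]
  rintro _ ⟨c, rfl⟩
  refine ⟨fun i _ => by simp, ?_⟩
  have : Fin.castSucc c ≠ Fin.last k := (Fin.castSucc_lt_last c).ne
  simp [this.symm]

theorem W₁_ne_W₂ : W₁ (F := F) k ≠ W₂ k := by
  intro h
  have h1 : (Pi.single (Sum.inl (Fin.last k)) 1 : Fin (k + 1) ⊕ Fin (k + 1) → F) ∈ W₁ k := by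
    intro i
    simp
  rw [h] at h1
  have := h1.2
  simp at this

/-- coordinates on `W₁` -/
def equivW₁ : W₁ (F := F) k ≃ₗ[F] (Fin (k + 1) → F) where
  toFun v := fun i => v.1 (Sum.inl i)
  map_add' _ _ := rfl
  map_smul' _ _ := rfl
  invFun f := ⟨Sum.elim f 0, fun i => rfl⟩
  left_inv v := by
    apply Subtype.ext
    funext c
    rcases c with i | i
    · rfl
    · exact (v.2 i).symm
  right_inv f := rfl

/-- coordinates on `W₂` -/
def equivW₂ : W₂ (F := F) k ≃ₗ[F] (Fin (k + 1) → F) where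
  toFun v := fun i => if i = Fin.last k then v.1 (Sum.inr (Fin.last k)) else v.1 (Sum.inl i)
  map_add' u v := by
    funext i
    by_cases hi : i = Fin.last k <;> simp [hi]
  map_smul' c v := by
    funext i
    by_cases hi : i = Fin.last k <;> simp [hi]
  invFun f := ⟨Sum.elim (fun i => if i = Fin.last k then 0 else f i)
      (fun i => if i = Fin.last k then f (Fin.last k) else 0), by
    refine ⟨fun i hi => ?_, ?_⟩
    · simp [hi]
    · simp⟩
  left_inv v := by
    apply Subtype.ext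
    funext c
    rcases c with i | i
    · by_cases hi : i = Fin.last k
      · simp [hi, v.2.2]
      · simp [hi]
    · by_cases hi : i = Fin.last k
      · simp [hi]
      · simp [hi, v.2.1 i hi]
  right_inv f := by
    funext i
    by_cases hi : i = Fin.last k
    · simp [hi]
    · simp [hi]

theorem finrank_W₁ : Module.finrank F (W₁ (F := F) k) = k + 1 := by
  rw [LinearEquiv.finrank_eq (equivW₁ k), Module.finrank_fin_fun]

theorem finrank_W₂ : Module.finrank F (W₂ (F := F) k) = k + 1 := by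
  rw [LinearEquiv.finrank_eq (equivW₂ k), Module.finrank_fin_fun]

/-- classification of the maximal totally singular subspaces containing `U₀` -/
theorem classify (W : Submodule F (Fin (k + 1) ⊕ Fin (k + 1) → F))
    (hW1 : Module.finrank F W = k + 1) (hW2 : ∀ w ∈ W, QP (k + 1) w = 0) (hW3 : U₀ k ≤ W) :
    W = W₁ k ∨ W = W₂ k := by
  have hB : ∀ w ∈ W, ∀ w' ∈ W, QuadraticMap.polarBilin (QP (k + 1)) w w' = 0 := by
    intro w hw w' hw'
    rw [B_apply, hW2 w hw, hW2 w' hw', hW2 _ (W.add_mem hw hw')]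
    ring
  have h1 : ∀ w ∈ W, ∀ i, i ≠ Fin.last k → w (Sum.inr i) = 0 := by
    intro w hw i hi
    obtain ⟨c, rfl⟩ : ∃ c : Fin k, i = Fin.castSucc c :=
      ⟨Fin.castPred i hi, (Fin.castSucc_castPred i hi).symm⟩
    have hmem : (Pi.single (Sum.inl (Fin.castSucc c)) 1 : Fin (k + 1) ⊕ Fin (k + 1) → F) ∈ W :=
      hW3 (Submodule.subset_span ⟨c, rfl⟩)
    have := hB w hw _ hmem
    rw [polar_inl_right] at this
    exact this
  have h3 : ∀ w ∈ W, ∀ w' ∈ W, w (Sum.inl (Fin.last k)) * w' (Sum.inr (Fin.last k)) +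
      w (Sum.inr (Fin.last k)) * w' (Sum.inl (Fin.last k)) = 0 := by
    intro w hw w' hw'
    have := hB w hw w' hw'
    rw [polar_apply, Finset.sum_eq_single (Fin.last k)] at this
    · exact this
    · intro i _ hi
      rw [h1 w hw i hi, h1 w' hw' i hi]
      ring
    · intro h
      exact absurd (Finset.mem_univ _) h
  have h2 : ∀ w ∈ W, w (Sum.inl (Fin.last k)) * w (Sum.inr (Fin.last k)) = 0 := by
    intro w hw
    have := hW2 w hw
    rw [QP_apply] at this
    unfold quadFormPlus at this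
    rw [Finset.sum_eq_single (Fin.last k)] at this
    · exact this
    · intro i _ hi
      rw [h1 w hw i hi, mul_zero]
    · intro h
      exact absurd (Finset.mem_univ _) h
  have : FiniteDimensional F W := Module.finite_of_finrank_pos (by omega)
  by_cases hex : ∃ w ∈ W, w (Sum.inr (Fin.last k)) ≠ 0
  · right
    obtain ⟨w, hw, hwl⟩ := hex
    have hw0 : w (Sum.inl (Fin.last k)) = 0 := by
      rcases mul_eq_zero.1 (h2 w hw) with h | h
      · exact h
      · exact absurd h hwl
    apply Submodule.eq_of_le_of_finrank_le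
    · intro w' hw'
      refine ⟨h1 w' hw', ?_⟩
      have := h3 w hw w' hw'
      rw [hw0, zero_mul, zero_add] at this
      exact (mul_eq_zero.1 this).resolve_left hwl
    · rw [finrank_W₂, hW1]
  · left
    push Not at hex
    apply Submodule.eq_of_le_of_finrank_le
    · intro w' hw' i
      by_cases hi : i = Fin.last k
      · rw [hi]; exact hex w' hw'
      · exact h1 w' hw' i hi
    · rw [finrank_W₁, hW1]

/-- the count in the standard situation -/
theorem card_std : Nat.card {W : Submodule F (Fin (k + 1) ⊕ Fin (k + 1) → F) //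
    Module.finrank F W = k + 1 ∧ (∀ w ∈ W, QP (k + 1) w = 0) ∧ U₀ k ≤ W} = 2 := by
  rw [Nat.card_eq_two_iff]
  refine ⟨⟨W₁ k, finrank_W₁ k, Q_W₁ k, U₀_le_W₁ k⟩, ⟨W₂ k, finrank_W₂ k, Q_W₂ k, U₀_le_W₂ k⟩,
    ?_, ?_⟩
  · intro h
    exact W₁_ne_W₂ k (congrArg Subtype.val h)
  · ext ⟨W, hW1, hW2, hW3⟩
    simp only [Set.mem_insert_iff, Set.mem_singleton_iff, Set.mem_univ, iff_true]
    rcases classify k W hW1 hW2 hW3 with h | h
    · left; exact Subtype.ext h
    · right; exact Subtype.ext h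

end std

section transport
variable {F : Type*} [Field F] {V : Type*} [AddCommGroup V] [Module F V]

theorem map_symm_map (g : V ≃ₗ[F] V) (W : Submodule F V) :
    (W.map (g : V →ₗ[F] V)).map (g.symm : V →ₗ[F] V) = W := by
  ext x
  simp only [Submodule.mem_map, LinearEquiv.coe_coe, exists_exists_and_eq_and,
    LinearEquiv.symm_apply_apply, exists_eq_right]

theorem map_map_symm (g : V ≃ₗ[F] V) (W : Submodule F V) :
    (W.map (g.symm : V →ₗ[F] V)).map (g : V →ₗ[F] V) = W := by
  ext x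
  simp only [Submodule.mem_map, LinearEquiv.coe_coe, exists_exists_and_eq_and,
    LinearEquiv.apply_symm_apply, exists_eq_right]

end transport

theorem result {F : Type*} [Field F] [Finite F] (m : ℕ) (hm : 1 ≤ m) (U : Submodule F (Fin m ⊕ Fin m → F)) (hU : Module.finrank F U + 1 = m ∧ ∀ u ∈ U, Cfsg.quadFormPlus m F u = 0) : Nat.card {W : Submodule F (Fin m ⊕ Fin m → F) // Module.finrank F W = m ∧ (∀ w ∈ W, Cfsg.quadFormPlus m F w = 0) ∧ U ≤ W} = 2 := by
  classical
  obtain ⟨k, rfl⟩ : ∃ k, m = k + 1 := ⟨m - 1, by omega⟩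
  obtain ⟨hU1, hU2⟩ := hU
  have hk : Module.finrank F U = k := by omega
  have hUQ : ∀ u ∈ U, QP (k + 1) u = 0 := fun u hu => by rw [QP_apply]; exact hU2 u hu
  have hUB : ∀ u ∈ U, ∀ u' ∈ U, QuadraticMap.polarBilin (QP (k + 1)) u u' = 0 := by
    intro u hu u' hu'
    rw [B_apply, hUQ u hu, hUQ u' hu', hUQ _ (U.add_mem hu hu')]
    ring
  let b := Module.finBasisOfFinrankEq F U hk
  let x : Fin k → (Fin (k + 1) ⊕ Fin (k + 1) → F) := fun c => (b c : Fin (k + 1) ⊕ Fin (k + 1) → F)
  let x' : Fin k → (Fin (k + 1) ⊕ Fin (k + 1) → F) :=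
    fun c => Pi.single (Sum.inl (Fin.castSucc c)) 1
  have hx : LinearIndependent F x :=
    b.linearIndependent.map' U.subtype (Submodule.ker_subtype U)
  have hx' : LinearIndependent F x' := by
    have h1 := (Pi.basisFun F (Fin (k + 1) ⊕ Fin (k + 1))).linearIndependent
    have h2 := h1.comp (fun c : Fin k => (Sum.inl (Fin.castSucc c) : Fin (k + 1) ⊕ Fin (k + 1)))
      (fun c c' h => Fin.castSucc_injective _ (Sum.inl_injective h))
    convert h2 using 1
    funext c
    simp [x', Pi.basisFun_apply]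
  obtain ⟨g, hg1, hg2⟩ := witt_family (QP (k + 1)) (nondegenerate (k + 1)) x x' hx hx'
    (fun c => by rw [hUQ _ (b c).2, QP_single])
    (fun c c' => by rw [hUB _ (b c).2 _ (b c').2, polar_single]; simp)
  have hUspan : U = Submodule.span F (Set.range x) := by
    have h1 := b.span_eq
    have h2 : U = (⊤ : Submodule F U).map U.subtype := by simp
    rw [h2, ← h1, Submodule.map_span, ← Set.range_comp]
    rfl
  have hUmap : U.map (g : _ →ₗ[F] _) = U₀ k := by
    rw [hUspan, Submodule.map_span, ← Set.range_comp]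
    unfold U₀
    congr 2
    funext c
    exact hg2 c
  rw [← card_std (F := F) k]
  apply Nat.card_congr
  exact
    { toFun := fun W => ⟨W.1.map (g : _ →ₗ[F] _), by
        obtain ⟨h1, h2, h3⟩ := W.2
        refine ⟨by rw [LinearEquiv.finrank_map_eq]; exact h1, ?_, ?_⟩
        · rintro _ ⟨w, hw, rfl⟩
          change QP (k + 1) (g w) = 0
          rw [hg1, QP_apply]
          exact h2 w hw
        · rw [← hUmap]
          exact Submodule.map_mono h3⟩
      invFun := fun W => ⟨W.1.map (g.symm : _ →ₗ[F] _), by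
        obtain ⟨h1, h2, h3⟩ := W.2
        refine ⟨by rw [LinearEquiv.finrank_map_eq]; exact h1, ?_, ?_⟩
        · rintro _ ⟨w, hw, rfl⟩
          have := hg1 (g.symm w)
          rw [g.apply_symm_apply] at this
          change quadFormPlus (k + 1) F (g.symm w) = 0
          rw [← QP_apply, ← this]
          exact h2 w hw
        · rw [← map_symm_map g U, hUmap]
          exact Submodule.map_mono h3⟩
      left_inv := fun W => Subtype.ext (map_symm_map g W.1)
      right_inv := fun W => Subtype.ext (map_map_symm g W.1) }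

end Cfsg.Agent.S0832
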