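import Cfsg.Statements.S0833
import Mathlib
import Cfsg.Agent.S0752
import Cfsg.Agent.Lib.Helper5.Tmul

set_option autoImplicit false
open Cfsg

namespace Cfsg.Agent.S0833

open TensorProduct Cfsg.Agent.Lib.Helper5.Tmul

/-- a Lagrangian for a nondegenerate alternating form -/
theorem exists_lagrangian {F U : Type*} [Field F] [AddCommGroup U] [Module F U]
    [FiniteDimensional F U] (B : LinearMap.BilinForm F U) (hB : B.Nondegenerate) (hA : B.IsAlt)
    (k : ℕ) (hU : Module.finrank F U = 2 * k) :
    ∃ L : Submodule F U, Module.finrank F L = k ∧ ∀ x ∈ L, ∀ y ∈ L, B x y = 0 := by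
  obtain ⟨m, r, b, h1, h2, h3, h4⟩ := Cfsg.Agent.S0752.result B hA
  have hr : r = 0 := by
    by_contra hr0
    have : 0 < r := Nat.pos_of_ne_zero hr0
    have h0 := hB.1 (b (Sum.inr ⟨0, this⟩)) (h4 ⟨0, this⟩)
    exact b.ne_zero _ h0
  have hcard : Module.finrank F U = 2 * m + r := by
    rw [Module.finrank_eq_card_basis b]
    simp; ring
  have hm : m = k := by omega
  refine ⟨Submodule.span F (Set.range (fun i : Fin m => b (Sum.inl (Sum.inl i)))), ?_, ?_⟩
  · have hli : LinearIndependent F (fun i : Fin m => b (Sum.inl (Sum.inl i))) :=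
      b.linearIndependent.comp _ (fun i j h => by simpa using h)
    rw [finrank_span_eq_card hli]; simp [hm]
  · intro x hx y hy
    induction hx using Submodule.span_induction with
    | mem x hx =>
      obtain ⟨i, rfl⟩ := hx
      induction hy using Submodule.span_induction with
      | mem y hy =>
        obtain ⟨j, rfl⟩ := hy
        exact h2 i j
      | zero => simp
      | add y z _ _ hy hz => rw [map_add, hy, hz, add_zero]
      | smul a y _ hy => rw [map_smul, hy, smul_zero]
    | zero => simp
    | add x z _ _ hx hz => rw [map_add, LinearMap.add_apply, hx, hz, add_zero]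
    | smul a x _ hx => rw [map_smul, LinearMap.smul_apply, hx, smul_zero]

theorem result {F U W : Type*} [Field F] [Fintype F] [AddCommGroup U] [Module F U] [FiniteDimensional F U] [AddCommGroup W] [Module F W] [FiniteDimensional F W] (B₁ : LinearMap.BilinForm F U) (B₂ : LinearMap.BilinForm F W) (h₁ : B₁.Nondegenerate) (h₂ : B₂.Nondegenerate) (hA₁ : B₁.IsAlt) (hA₂ : B₂.IsAlt) (k l : ℕ) (hU : Module.finrank F U = 2 * k) (hW : Module.finrank F W = 2 * l) : (B₁.tmul B₂).IsSymm ∧ (B₁.tmul B₂).Nondegenerate ∧ (∃ X : Submodule F (TensorProduct F U W), Module.finrank F X = 2 * k * l ∧ ∀ x ∈ X, ∀ y ∈ X, (B₁.tmul B₂) x y = 0) := by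
  refine ⟨?_, tmul_nondegenerate B₁ B₂ h₁ h₂, ?_⟩
  · rw [LinearMap.isSymm_iff_eq_flip]
    apply LinearMap.ext
    intro x
    apply LinearMap.ext
    intro y
    induction x using TensorProduct.induction_on with
    | zero => simp
    | tmul u w =>
      induction y using TensorProduct.induction_on with
      | zero => simp
      | tmul u' w' =>
        rw [LinearMap.flip_apply, tmul_apply, tmul_apply, ← hA₁.neg_eq u u', ← hA₂.neg_eq w w']
        ring
      | add y z hy hz => rw [map_add, hy, hz, map_add]
    | add x z hx hz => rw [map_add, LinearMap.add_apply, hx, hz, map_add, LinearMap.add_apply]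
  · obtain ⟨L, hL1, hL2⟩ := exists_lagrangian B₁ h₁ hA₁ k hU
    refine ⟨LinearMap.range (LinearMap.rTensor W L.subtype), ?_, ?_⟩
    · rw [LinearMap.finrank_range_of_inj
        (Module.Flat.rTensor_preserves_injective_linearMap _ L.injective_subtype),
        Module.finrank_tensorProduct, hL1, hW]
      ring
    · rintro _ ⟨x, rfl⟩ _ ⟨y, rfl⟩
      induction x using TensorProduct.induction_on with
      | zero => simp
      | tmul u w =>
        induction y using TensorProduct.induction_on with
        | zero => simp
        | tmul u' w' =>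
          rw [LinearMap.rTensor_tmul, LinearMap.rTensor_tmul, tmul_apply]
          simp only [Submodule.subtype_apply]
          rw [hL2 _ u.2 _ u'.2, zero_mul]
        | add y z hy hz => rw [map_add, map_add, hy, hz, add_zero]
      | add x z hx hz => rw [map_add, map_add, LinearMap.add_apply, hx, hz, add_zero]

end Cfsg.Agent.S0833
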