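import Mathlib
import Cfsg.Statements.S0834
import Cfsg.Agent.Lib.Helper8.DiagForm3

set_option autoImplicit false
open Cfsg

namespace Cfsg.Agent.S0834

open Cfsg.Agent.Lib.Helper8.DiagForm TensorProduct Module

/-- the discriminant of the tensor family -/
theorem disc_tensor {F U W : Type*} [Field F] [AddCommGroup U] [Module F U]
    [AddCommGroup W] [Module F W] (B₁ : LinearMap.BilinForm F U) (B₂ : LinearMap.BilinForm F W)
    {n₁ n₂ : ℕ} (v₁ : Fin n₁ → U) (v₂ : Fin n₂ → W) :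
    disc (B₁.tmul B₂) Finset.univ (fun p : Fin n₁ × Fin n₂ => v₁ p.1 ⊗ₜ[F] v₂ p.2)
      = (∏ i, B₁ (v₁ i) (v₁ i)) ^ n₂ * (∏ j, B₂ (v₂ j) (v₂ j)) ^ n₁ := by
  unfold disc
  have h : ∀ p : Fin n₁ × Fin n₂, (B₁.tmul B₂) (v₁ p.1 ⊗ₜ[F] v₂ p.2) (v₁ p.1 ⊗ₜ[F] v₂ p.2)
      = B₁ (v₁ p.1) (v₁ p.1) * B₂ (v₂ p.2) (v₂ p.2) := by
    intro p
    rw [LinearMap.BilinForm.tensorDistrib_tmul, smul_eq_mul, mul_comm]
  simp only [h]
  rw [Fintype.prod_prod_type]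
  simp only [Finset.prod_mul_distrib, Finset.prod_const, Finset.card_univ, Fintype.card_fin]
  rw [Finset.prod_pow]

/-- Over a finite field with 2 ≠ 0: if B₁ on U (dim 2k, k ≥ 1) and B₂ on W (dim 2l, l ≥ 1) are non-degenerate symmetric forms admitting no totally isotropic subspaces of dimensions k, resp. l (minus type), then B₁ ⊗ B₂ admits a totally isotropic subspace of dimension 2kl (plus type). -/
theorem result {F U W : Type*} [Field F] [Fintype F] [AddCommGroup U] [Module F U] [FiniteDimensional F U] [AddCommGroup W] [Module F W] [FiniteDimensional F W] (h2 : (2 : F) ≠ 0) (B₁ : LinearMap.BilinForm F U) (B₂ : LinearMap.BilinForm F W) (h₁ : B₁.Nondegenerate) (h₂ : B₂.Nondegenerate) (hS₁ : B₁.IsSymm) (hS₂ : B₂.IsSymm) (k l : ℕ) (hk : 1 ≤ k) (hl : 1 ≤ l) (hU : Module.finrank F U = 2 * k) (hW : Module.finrank F W = 2 * l) (hm₁ : ¬ (∃ X : Submodule F (U), Module.finrank F X =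 k ∧ ∀ x ∈ X, ∀ y ∈ X, (B₁) x y = 0)) (hm₂ : ¬ (∃ X : Submodule F (W), Module.finrank F X = l ∧ ∀ x ∈ X, ∀ y ∈ X, (B₂) x y = 0)) : (∃ X : Submodule F (TensorProduct F U W), Module.finrank F X = 2 * k * l ∧ ∀ x ∈ X, ∀ y ∈ X, (B₁.tmul B₂) x y = 0) := by
  classical
  have : Invertible (2 : F) := invertibleOfNonzero h2
  obtain ⟨v₁, hv₁⟩ := LinearMap.BilinForm.exists_orthogonal_basis
    (LinearMap.BilinForm.isSymm_iff.1 hS₁)
  obtain ⟨v₂, hv₂⟩ := LinearMap.BilinForm.exists_orthogonal_basis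
    (LinearMap.BilinForm.isSymm_iff.1 hS₂)
  have ho₁ : ∀ i j, i ≠ j → B₁ (v₁ i) (v₁ j) = 0 := LinearMap.BilinForm.iIsOrtho_def.1 hv₁
  have ho₂ : ∀ i j, i ≠ j → B₂ (v₂ i) (v₂ j) = 0 := LinearMap.BilinForm.iIsOrtho_def.1 hv₂
  have hn₁ : ∀ i, B₁ (v₁ i) (v₁ i) ≠ 0 := fun i h =>
    LinearMap.BilinForm.iIsOrtho.not_isOrtho_basis_self_of_nondegenerate hv₁ h₁ i h
  have hn₂ : ∀ i, B₂ (v₂ i) (v₂ i) ≠ 0 := fun i h =>
    LinearMap.BilinForm.iIsOrtho.not_isOrtho_basis_self_of_nondegenerate hv₂ h₂ i h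
  have hval : ∀ p q : Fin (finrank F U) × Fin (finrank F W),
      (B₁.tmul B₂) (v₁ p.1 ⊗ₜ[F] v₂ p.2) (v₁ q.1 ⊗ₜ[F] v₂ q.2)
        = B₁ (v₁ p.1) (v₁ q.1) * B₂ (v₂ p.2) (v₂ q.2) := by
    intro p q
    rw [LinearMap.BilinForm.tensorDistrib_tmul, smul_eq_mul, mul_comm]
  obtain ⟨X, _, hr, hT⟩ := exists_TI (B := B₁.tmul B₂)
    (LinearMap.BilinForm.isSymm_iff.2 ((LinearMap.BilinForm.isSymm_iff.1 hS₁).tmul
      (LinearMap.BilinForm.isSymm_iff.1 hS₂))) h2 (2 * k * l)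
    Finset.univ (fun p : Fin (finrank F U) × Fin (finrank F W) => v₁ p.1 ⊗ₜ[F] v₂ p.2)
    (by
      rw [Finset.card_univ, Fintype.card_prod, Fintype.card_fin, Fintype.card_fin, hU, hW]
      ring)
    (by
      intro p _ q _ hpq
      rw [hval]
      by_cases h : p.1 = q.1
      · have : p.2 ≠ q.2 := fun h' => hpq (Prod.ext h h')
        rw [ho₂ _ _ this, mul_zero]
      · rw [ho₁ _ _ h, zero_mul])
    (by
      intro p _
      rw [hval]
      exact mul_ne_zero (hn₁ _) (hn₂ _))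
    (by
      rw [disc_tensor]
      generalize (∏ i, B₁ (v₁ i) (v₁ i)) = A
      generalize (∏ j, B₂ (v₂ j) (v₂ j)) = Bp
      rw [hU, hW]
      refine ⟨(-1) ^ (k * l) * A ^ l * Bp ^ k, ?_⟩
      ring)
  exact ⟨X, hr, hT⟩

end Cfsg.Agent.S0834
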