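import Mathlib
import Cfsg.Statements.S0835
import Cfsg.Agent.Lib.Helper8.DiagForm4

set_option autoImplicit false
open Cfsg

namespace Cfsg.Agent.S0835

open Cfsg.Agent.Lib.Helper8.DiagForm TensorProduct Module

/-- the discriminant of the tensor family -/
theorem disc_tensor {F U W : Type*} [Field F] [AddCommGroup U] [Module F U]
    [AddCommGroup W] [Module F W] (B₁ : LinearMap.BilinForm F U) (B₂ : LinearMap.BilinForm F W)
    {n₁ n₂ : ℕ} (v₁ : Fin n₁ → U) (v₂ : Fin n₂ → W) :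
    disc (B₁.tmul B₂) Finset.univ (fun p : Fin n₁ × Fin n₂ => v₁ p.1 ⊗ₜ[F] v₂ p.2)
      = (∏ i, B₁ (v₁ i) (v₁ i)) ^ n₂ * (∏ j, B₂ (v₂ j) (v₂ j)) ^ n₁ := by
  unfold disc
  have h : ∀ p : Fin n₁ × Fin n₂, (B₁.tmul B₂) (v₁ p.1 ⊗ₜ[F] v₂ p.2) (v₁ p.1 ⊗ₜ[F] v₂ p.2)
      = B₁ (v₁ p.1) (v₁ p.1) * B₂ (v₂ p.2) (v₂ p.2) := by
    intro p
    rw [LinearMap.BilinForm.tensorDistrib_tmul, smul_eq_mul, mul_comm]
  simp only [h]
  rw [Fintype.prod_prod_type]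
  simp only [Finset.prod_mul_distrib, Finset.prod_const, Finset.card_univ, Fintype.card_fin]
  rw [Finset.prod_pow]

/-- Over a finite field with 2 ≠ 0: if B₁ on U (dim 2k, k ≥ 1) is non-degenerate symmetric of minus type (no totally isotropic k-subspace) and B₂ on W (dim 2l + 1) is non-degenerate symmetric, then B₁ ⊗ B₂ (dimension 2k(2l+1)) admits no totally isotropic subspace of dimension k(2l+1) (minus type). -/
theorem result {F U W : Type*} [Field F] [Fintype F] [AddCommGroup U] [Module F U] [FiniteDimensional F U] [AddCommGroup W] [Module F W] [FiniteDimensional F W] (h2 : (2 : F) ≠ 0) (B₁ : LinearMap.BilinForm F U) (B₂ : LinearMap.BilinForm F W) (h₁ : B₁.Nondegenerate) (h₂ : B₂.Nondegenerate) (hS₁ : B₁.IsSymm) (hS₂ : B₂.IsSymm) (k l : ℕ) (hk : 1 ≤ k) (hU : Module.finrank F U = 2 * k) (hW : Module.finrank F W = 2 * l + 1) (hm₁ : ¬ (∃ X : Submodule F (U), Module.finrank F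 X = k ∧ ∀ x ∈ X, ∀ y ∈ X, (B₁) x y = 0)) : ¬ (∃ X : Submodule F (TensorProduct F U W), Module.finrank F X = k * (2 * l + 1) ∧ ∀ x ∈ X, ∀ y ∈ X, (B₁.tmul B₂) x y = 0) := by
  classical
  have : Invertible (2 : F) := invertibleOfNonzero h2
  obtain ⟨v₁, hv₁⟩ := LinearMap.BilinForm.exists_orthogonal_basis
    (LinearMap.BilinForm.isSymm_iff.1 hS₁)
  obtain ⟨v₂, hv₂⟩ := LinearMap.BilinForm.exists_orthogonal_basis
    (LinearMap.BilinForm.isSymm_iff.1 hS₂)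
  have ho₁ : ∀ i j, i ≠ j → B₁ (v₁ i) (v₁ j) = 0 := LinearMap.BilinForm.iIsOrtho_def.1 hv₁
  have ho₂ : ∀ i j, i ≠ j → B₂ (v₂ i) (v₂ j) = 0 := LinearMap.BilinForm.iIsOrtho_def.1 hv₂
  have hn₁ : ∀ i, B₁ (v₁ i) (v₁ i) ≠ 0 := fun i h =>
    LinearMap.BilinForm.iIsOrtho.not_isOrtho_basis_self_of_nondegenerate hv₁ h₁ i h
  have hn₂ : ∀ i, B₂ (v₂ i) (v₂ i) ≠ 0 := fun i h =>
    LinearMap.BilinForm.iIsOrtho.not_isOrtho_basis_self_of_nondegenerate hv₂ h₂ i h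
  have hval : ∀ p q : Fin (finrank F U) × Fin (finrank F W),
      (B₁.tmul B₂) (v₁ p.1 ⊗ₜ[F] v₂ p.2) (v₁ q.1 ⊗ₜ[F] v₂ q.2)
        = B₁ (v₁ p.1) (v₁ q.1) * B₂ (v₂ p.2) (v₂ q.2) := by
    intro p q
    rw [LinearMap.BilinForm.tensorDistrib_tmul, smul_eq_mul, mul_comm]
  -- the signed discriminant of `B₁` is not a square
  have hns : ¬ IsSquare ((-1) ^ k * ∏ i, B₁ (v₁ i) (v₁ i)) := by
    intro hsq
    apply hm₁
    obtain ⟨X, _, hr, hT⟩ := exists_TI (B := B₁) hS₁ h2 k Finset.univ (fun i => v₁ i)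
      (by rw [Finset.card_univ, Fintype.card_fin, hU])
      (fun i _ j _ hij => ho₁ i j hij) (fun i _ => hn₁ i) hsq
    exact ⟨X, hr, hT⟩
  rintro ⟨X, hXr, hXT⟩
  apply hns
  have hsp : Sp (F := F) Finset.univ
      (fun p : Fin (finrank F U) × Fin (finrank F W) => v₁ p.1 ⊗ₜ[F] v₂ p.2) = ⊤ := by
    unfold Sp
    have : (fun p : Fin (finrank F U) × Fin (finrank F W) => v₁ p.1 ⊗ₜ[F] v₂ p.2)
        = ⇑(Basis.tensorProduct v₁ v₂) := by
      funext p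
      rw [Basis.tensorProduct_apply']
    rw [this, Finset.coe_univ, Set.image_univ]
    exact Basis.span_eq _
  have hsq := isSquare_of_TI (B := B₁.tmul B₂)
    (LinearMap.BilinForm.isSymm_iff.2 ((LinearMap.BilinForm.isSymm_iff.1 hS₁).tmul
      (LinearMap.BilinForm.isSymm_iff.1 hS₂))) h2 (k * (2 * l + 1))
    Finset.univ (fun p : Fin (finrank F U) × Fin (finrank F W) => v₁ p.1 ⊗ₜ[F] v₂ p.2)
    (by
      rw [Finset.card_univ, Fintype.card_prod, Fintype.card_fin, Fintype.card_fin, hU, hW]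
      ring)
    (by
      intro p _ q _ hpq
      rw [hval]
      by_cases h : p.1 = q.1
      · have : p.2 ≠ q.2 := fun h' => hpq (Prod.ext h h')
        rw [ho₂ _ _ this, mul_zero]
      · rw [ho₁ _ _ h, zero_mul])
    (by
      intro p _
      rw [hval]
      exact mul_ne_zero (hn₁ _) (hn₂ _))
    ⟨X, by rw [hsp]; exact le_top, hXT, hXr.ge⟩
  rw [disc_tensor] at hsq
  have hA : (∏ i, B₁ (v₁ i) (v₁ i)) ≠ 0 := Finset.prod_ne_zero_iff.2 (fun i _ => hn₁ i)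
  have hB : (∏ j, B₂ (v₂ j) (v₂ j)) ≠ 0 := Finset.prod_ne_zero_iff.2 (fun i _ => hn₂ i)
  revert hsq hA hB
  generalize (∏ i, B₁ (v₁ i) (v₁ i)) = A
  generalize (∏ j, B₂ (v₂ j) (v₂ j)) = Bp
  rw [hU, hW]
  rintro ⟨r, hr⟩ hA hB
  have hy : (-1 : F) ^ (k * l) * A ^ l * Bp ^ k ≠ 0 :=
    mul_ne_zero (mul_ne_zero (pow_ne_zero _ (neg_ne_zero.2 one_ne_zero)) (pow_ne_zero _ hA))
      (pow_ne_zero _ hB)
  refine ⟨r / ((-1 : F) ^ (k * l) * A ^ l * Bp ^ k), ?_⟩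
  rw [div_mul_div_comm, eq_div_iff (mul_ne_zero hy hy), ← hr]
  ring

end Cfsg.Agent.S0835
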