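import Mathlib
import Cfsg.Statements.S0837
import Cfsg.Agent.Lib.Helper8.HermSplit

set_option autoImplicit false
set_option linter.unusedSectionVars false
open Cfsg

namespace Cfsg.Agent.S0837

open Matrix Cfsg.Agent.Lib.Helper5.Herm Cfsg.Agent.Lib.Helper8.HermSplit Cfsg.Agent.S0277

section glue
variable {F : Type*} [Field F] [Fintype F] {q : ℕ} (hF : Fintype.card F = q ^ 2) {n k l : ℕ}
  (Ψ : (Fin n → F) ≃ₗ[F] (Fin k → F) × (Fin l → F))

/-- glue two matrices along `Ψ` -/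
noncomputable def glue (A₁ : Matrix (Fin k) (Fin k) F)
    (A₂ : Matrix (Fin l) (Fin l) F) : (Fin n → F) →ₗ[F] (Fin n → F) :=
  Ψ.symm.toLinearMap ∘ₗ ((Matrix.toLin' A₁).prodMap (Matrix.toLin' A₂)) ∘ₗ Ψ.toLinearMap

lemma Ψ_glue (A₁ : Matrix (Fin k) (Fin k) F)
    (A₂ : Matrix (Fin l) (Fin l) F) (v : Fin n → F) :
    Ψ (glue Ψ A₁ A₂ v) = (A₁ *ᵥ (Ψ v).1, A₂ *ᵥ (Ψ v).2) := by
  simp [glue, Matrix.toLin'_apply]

lemma glue_mul (A₁ A₁' : Matrix (Fin k) (Fin k) F)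
    (A₂ A₂' : Matrix (Fin l) (Fin l) F) :
    glue Ψ (A₁ * A₁') (A₂ * A₂') = glue Ψ A₁ A₂ ∘ₗ glue Ψ A₁' A₂' := by
  apply LinearMap.ext
  intro v
  apply Ψ.injective
  rw [LinearMap.comp_apply, Ψ_glue, Ψ_glue, Ψ_glue]
  simp [Matrix.mulVec_mulVec]

lemma glue_one : glue Ψ (1 : Matrix (Fin k) (Fin k) F)
    (1 : Matrix (Fin l) (Fin l) F) = LinearMap.id := by
  apply LinearMap.ext
  intro v
  apply Ψ.injective
  rw [Ψ_glue]
  simp

/-- the gluing as a monoid hom on matrices -/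
noncomputable def glueHom : Matrix (Fin k) (Fin k) F × Matrix (Fin l) (Fin l) F →*
    Matrix (Fin n) (Fin n) F where
  toFun A := LinearMap.toMatrix' (glue Ψ A.1 A.2)
  map_one' := by
    change LinearMap.toMatrix' (glue Ψ (1 : Matrix _ _ F) (1 : Matrix _ _ F)) = 1
    rw [glue_one, LinearMap.toMatrix'_id]
  map_mul' A A' := by
    change LinearMap.toMatrix' (glue Ψ (A.1 * A'.1) (A.2 * A'.2)) =
      LinearMap.toMatrix' (glue Ψ A.1 A.2) * LinearMap.toMatrix' (glue Ψ A'.1 A'.2)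
    rw [glue_mul, LinearMap.toMatrix'_comp]

/-- the gluing on general linear groups -/
noncomputable def Θ₀ : GL (Fin k) F × GL (Fin l) F →* GL (Fin n) F :=
  (Units.map (glueHom Ψ)).comp MulEquiv.prodUnits.symm.toMonoidHom

lemma Θ₀_coe (A : GL (Fin k) F × GL (Fin l) F) :
    (Θ₀ Ψ A).1 = LinearMap.toMatrix' (glue Ψ A.1.1 A.2.1) := rfl

lemma mem_GU_iff {m : ℕ} (g : GL (Fin m) F) :
    g ∈ GU m F q ↔ ∀ u v, hermForm m F q (g.1 *ᵥ u) (g.1 *ᵥ v) = hermForm m F q u v := Iff.rfl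

variable (hΨ : ∀ u v, hermForm n F q u v =
  hermForm k F q (Ψ u).1 (Ψ v).1 + hermForm l F q (Ψ u).2 (Ψ v).2)

include hΨ in
lemma Θ₀_mem (A : GU k F q × GU l F q) : Θ₀ Ψ (A.1.1, A.2.1) ∈ GU n F q := by
  rw [mem_GU_iff]
  intro u v
  rw [Θ₀_coe, LinearMap.toMatrix'_mulVec, LinearMap.toMatrix'_mulVec, hΨ, Ψ_glue, Ψ_glue,
    (mem_GU_iff A.1.1).1 A.1.2, (mem_GU_iff A.2.1).1 A.2.2, ← hΨ]

/-- the embedding `GU_k × GU_l → GU_n` -/
noncomputable def Θ : GU k F q × GU l F q →* GU n F q :=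
  MonoidHom.codRestrict
    ((Θ₀ Ψ).comp (MonoidHom.prodMap (GU k F q).subtype (GU l F q).subtype)) (GU n F q)
    (fun A => Θ₀_mem Ψ hΨ A)

lemma Θ_coe (A : GU k F q × GU l F q) :
    (Θ Ψ hΨ A).1.1 = LinearMap.toMatrix' (glue Ψ A.1.1.1 A.2.1.1) := rfl

lemma Θ_injective : Function.Injective (Θ Ψ hΨ) := by
  intro A A' h
  have h1 : glue Ψ A.1.1.1 A.2.1.1 = glue Ψ A'.1.1.1 A'.2.1.1 := by
    have := congrArg (fun x : GU n F q => x.1.1) h
    simp only [Θ_coe] at this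
    exact LinearMap.toMatrix'.injective this
  have h2 : ∀ x y, (A.1.1.1 *ᵥ x, A.2.1.1 *ᵥ y) = (A'.1.1.1 *ᵥ x, A'.2.1.1 *ᵥ y) := by
    intro x y
    have := congrArg Ψ (LinearMap.congr_fun h1 (Ψ.symm (x, y)))
    rw [Ψ_glue, Ψ_glue] at this
    simpa using this
  apply Prod.ext
  · apply Subtype.ext
    apply Units.ext
    apply Matrix.mulVec_injective
    funext x
    exact (Prod.ext_iff.1 (h2 x 0)).1
  · apply Subtype.ext
    apply Units.ext
    apply Matrix.mulVec_injective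
    funext y
    exact (Prod.ext_iff.1 (h2 0 y)).2

lemma gl_inv_mulVec {m : ℕ} (A : GL (Fin m) F) (y : Fin m → F) :
    (A⁻¹).1 *ᵥ (A.1 *ᵥ y) = y := by
  rw [Matrix.mulVec_mulVec]
  have : (A⁻¹).1 * A.1 = 1 := Units.inv_mul A
  rw [this, Matrix.one_mulVec]

lemma gl_mulVec_inv {m : ℕ} (A : GL (Fin m) F) (y : Fin m → F) :
    A.1 *ᵥ ((A⁻¹).1 *ᵥ y) = y := by
  rw [Matrix.mulVec_mulVec]
  have : A.1 * (A⁻¹).1 = 1 := Units.mul_inv A
  rw [this, Matrix.one_mulVec]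

include hF in
/-- nondegeneracy of the standard form, in the form we need -/
lemma eq_zero_of_hermForm {m : ℕ} (y : Fin m → F) (h : ∀ x, hermForm m F q x y = 0) : y = 0 := by
  funext i
  have := h (Pi.single i 1)
  rw [hermForm_single_left] at this
  have hq : q ≠ 0 := by
    have := one_lt_q hF
    omega
  exact (pow_eq_zero_iff hq).1 this

include hF in
lemma isUnit_of_preserves {m : ℕ} (A : Matrix (Fin m) (Fin m) F)
    (hA : ∀ u v, hermForm m F q (A *ᵥ u) (A *ᵥ v) = hermForm m F q u v) : IsUnit A := by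
  rw [← Matrix.mulVec_injective_iff_isUnit]
  intro u u' huu
  have h0 : A *ᵥ (u - u') = 0 := by
    rw [Matrix.mulVec_sub]
    exact sub_eq_zero.2 huu
  have : u - u' = 0 := by
    apply eq_zero_of_hermForm hF
    intro x
    rw [← hA, h0, hermForm_zero_right hF]
  exact sub_eq_zero.1 this

include hF hΨ in
lemma range_Θ : (Θ Ψ hΨ).range =
    (Cfsg.stabilizing (Cfsg.glToMat (Fin n) F) {v : Fin n → F | (Ψ v).2 = 0}).subgroupOf
      (GU n F q) := by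
  apply le_antisymm
  · rintro _ ⟨A, rfl⟩
    rw [Subgroup.mem_subgroupOf]
    intro v
    change (Ψ v).2 = 0 ↔ (Ψ ((Θ Ψ hΨ A).1.1 *ᵥ v)).2 = 0
    rw [Θ_coe, LinearMap.toMatrix'_mulVec, Ψ_glue]
    constructor
    · intro h; simp [h]
    · intro h
      have := gl_inv_mulVec A.2.1 (Ψ v).2
      rw [← this]
      simp only at h
      rw [h, Matrix.mulVec_zero]
  · intro h hh
    rw [Subgroup.mem_subgroupOf] at hh
    have hst : ∀ v, (Ψ v).2 = 0 ↔ (Ψ (h.1.1 *ᵥ v)).2 = 0 := hh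
    have hpres : ∀ u v, hermForm n F q (h.1.1 *ᵥ u) (h.1.1 *ᵥ v) = hermForm n F q u v := h.2
    -- h preserves `W`, and so does its inverse
    have hinvW : ∀ v, (Ψ v).2 = 0 → (Ψ ((h.1⁻¹).1 *ᵥ v)).2 = 0 := by
      intro v hv
      rw [hst, gl_mulVec_inv]
      exact hv
    -- h preserves the complement
    have hW' : ∀ v, (Ψ v).1 = 0 → (Ψ (h.1.1 *ᵥ v)).1 = 0 := by
      intro v hv
      apply eq_zero_of_hermForm hF
      intro x
      have h1 := hΨ (Ψ.symm (x, 0)) (h.1.1 *ᵥ v)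
      simp only [LinearEquiv.apply_symm_apply, hermForm_zero_left, add_zero] at h1
      rw [← h1]
      have h2 : Ψ.symm (x, 0) = h.1.1 *ᵥ ((h.1⁻¹).1 *ᵥ Ψ.symm (x, 0)) :=
        (gl_mulVec_inv h.1 _).symm
      rw [h2, hpres, hΨ, hv, hermForm_zero_right hF,
        hinvW (Ψ.symm (x, 0)) (by simp), hermForm_zero_left, add_zero]
    -- the two blocks
    let g : (Fin n → F) →ₗ[F] (Fin n → F) := Matrix.toLin' h.1.1
    let f₁ : (Fin k → F) →ₗ[F] (Fin k → F) :=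
      LinearMap.fst F _ _ ∘ₗ Ψ.toLinearMap ∘ₗ g ∘ₗ Ψ.symm.toLinearMap ∘ₗ LinearMap.inl F _ _
    let f₂ : (Fin l → F) →ₗ[F] (Fin l → F) :=
      LinearMap.snd F _ _ ∘ₗ Ψ.toLinearMap ∘ₗ g ∘ₗ Ψ.symm.toLinearMap ∘ₗ LinearMap.inr F _ _
    have hf₁ : ∀ x, Ψ (h.1.1 *ᵥ Ψ.symm (x, 0)) = (f₁ x, 0) := by
      intro x
      apply Prod.ext
      · simp [f₁, g, Matrix.toLin'_apply]
      · exact (hst _).1 (by simp)
    have hf₂ : ∀ y, Ψ (h.1.1 *ᵥ Ψ.symm (0, y)) = (0, f₂ y) := by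
      intro y
      apply Prod.ext
      · exact hW' _ (by simp)
      · simp [f₂, g, Matrix.toLin'_apply]
    have hA₁ : ∀ x x', hermForm k F q (LinearMap.toMatrix' f₁ *ᵥ x) (LinearMap.toMatrix' f₁ *ᵥ x') =
        hermForm k F q x x' := by
      intro x x'
      rw [LinearMap.toMatrix'_mulVec, LinearMap.toMatrix'_mulVec]
      have h1 := hpres (Ψ.symm (x, 0)) (Ψ.symm (x', 0))
      rw [hΨ, hΨ (Ψ.symm (x, 0)), hf₁, hf₁] at h1
      simpa [hermForm_zero_left] using h1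
    have hA₂ : ∀ y y', hermForm l F q (LinearMap.toMatrix' f₂ *ᵥ y) (LinearMap.toMatrix' f₂ *ᵥ y') =
        hermForm l F q y y' := by
      intro y y'
      rw [LinearMap.toMatrix'_mulVec, LinearMap.toMatrix'_mulVec]
      have h1 := hpres (Ψ.symm (0, y)) (Ψ.symm (0, y'))
      rw [hΨ, hΨ (Ψ.symm (0, y)), hf₂, hf₂] at h1
      simpa [hermForm_zero_left] using h1
    have hu₁ := isUnit_of_preserves hF _ hA₁
    have hu₂ := isUnit_of_preserves hF _ hA₂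
    have hm₁ : hu₁.unit ∈ GU k F q := by
      rw [mem_GU_iff]
      intro u v
      rw [IsUnit.unit_spec]; exact hA₁ u v
    have hm₂ : hu₂.unit ∈ GU l F q := by
      rw [mem_GU_iff]
      intro u v
      rw [IsUnit.unit_spec]; exact hA₂ u v
    refine ⟨(⟨_, hm₁⟩, ⟨_, hm₂⟩), ?_⟩
    apply Subtype.ext
    apply Units.ext
    rw [Θ_coe]
    change LinearMap.toMatrix' (glue Ψ (LinearMap.toMatrix' f₁) (LinearMap.toMatrix' f₂)) = h.1.1
    apply Matrix.toLin'.injective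
    rw [Matrix.toLin'_toMatrix']
    apply LinearMap.ext
    intro v
    apply Ψ.injective
    rw [Ψ_glue, LinearMap.toMatrix'_mulVec, LinearMap.toMatrix'_mulVec, Matrix.toLin'_apply]
    have hv : v = Ψ.symm ((Ψ v).1, 0) + Ψ.symm (0, (Ψ v).2) := by
      rw [← map_add]
      simp
    conv_rhs => rw [hv, Matrix.mulVec_add, map_add, hf₁, hf₂]
    simp

end glue

/-- If W ≤ F^n (|F| = q²) is a k-dimensional subspace on which the Hermitian form Σ x_i y_i^q is non-degenerate, then the stabiliser of W in GU_n(q) is isomorphic to GU_k(q) × GU_(n−k)(q). -/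
theorem result {F : Type*} [Field F] [Fintype F] {q : ℕ} (hF : Fintype.card F = q ^ 2) (n k : ℕ) (hk : k ≤ n) (W : Submodule F (Fin n → F)) (hWk : Module.finrank F W = k) (hW : ∀ u ∈ W, (∀ v ∈ W, Cfsg.hermForm n F q u v = 0) → u = 0) : Nonempty (↥((Cfsg.stabilizing (Cfsg.glToMat (Fin n) F) (W : Set (Fin n → F))).subgroupOf (Cfsg.GU n F q)) ≃* ↥(Cfsg.GU k F q) × ↥(Cfsg.GU (n - k) F q)) := by
  classical
  obtain ⟨σ, hσ, hσne, hσ2⟩ := exists_frob hF
  have hσ2' : ∀ a : F, σ (σ a) = a := hσ2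
  have hW' : ∀ u ∈ W, (∀ v ∈ W, stdB n σ u v = 0) → u = 0 := by
    intro u hu h
    apply hW u hu
    intro v hv
    rw [hermForm_swap hF, ← stdB_eq_hermForm n σ hσ, h v hv, zero_pow]
    have := one_lt_q hF
    omega
  obtain ⟨Ψ, hΨ, hΨW⟩ := exists_split hσne hσ2' n k W hWk hW'
  have hΨ' : ∀ u v, hermForm n F q u v =
      hermForm k F q (Ψ u).1 (Ψ v).1 + hermForm (n - k) F q (Ψ u).2 (Ψ v).2 := by
    intro u v
    rw [← stdB_eq_hermForm n σ hσ, ← stdB_eq_hermForm k σ hσ, ← stdB_eq_hermForm (n - k) σ hσ]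
    exact hΨ v u
  have hset : (W : Set (Fin n → F)) = {v | (Ψ v).2 = 0} := by
    ext v
    exact hΨW v
  rw [hset]
  exact ⟨((MonoidHom.ofInjective (Θ_injective Ψ hΨ')).trans
    (MulEquiv.subgroupCongr (range_Θ hF Ψ hΨ'))).symm⟩

end Cfsg.Agent.S0837
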