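import Cfsg.Statements.S0838
import Mathlib
import Cfsg.Agent.S0756

set_option autoImplicit false
open Cfsg

namespace Cfsg.Agent.S0838

/-- `B` has an orthogonal basis with diagonal entries `1, …, 1, ε`. -/
def HasType {F V : Type*} [Field F] [AddCommGroup V] [Module F V] (n : ℕ)
    (B : LinearMap.BilinForm F V) (ε : F) : Prop :=
  ∃ b : Module.Basis (Fin (n + 1)) F V, (∀ i j, i ≠ j → B (b i) (b j) = 0) ∧
    (∀ i, i ≠ Fin.last n → B (b i) (b i) = 1) ∧ B (b (Fin.last n)) (b (Fin.last n)) = ε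

theorem gram_eq {F V : Type*} [Field F] [AddCommGroup V] [Module F V] {n : ℕ}
    {B : LinearMap.BilinForm F V} {ε : F} (b : Module.Basis (Fin (n + 1)) F V)
    (h1 : ∀ i j, i ≠ j → B (b i) (b j) = 0) (h2 : ∀ i, i ≠ Fin.last n → B (b i) (b i) = 1)
    (h3 : B (b (Fin.last n)) (b (Fin.last n)) = ε) :
    LinearMap.BilinForm.toMatrix b B =
      Matrix.diagonal (fun i => if i = Fin.last n then ε else 1) := by
  ext i j
  rw [LinearMap.BilinForm.toMatrix_apply, Matrix.diagonal_apply]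
  by_cases hij : i = j
  · subst hij
    by_cases hi : i = Fin.last n
    · subst hi; simp [h3]
    · simp [hi, h2 i hi]
  · simp [hij, h1 i j hij]

theorem det_diag {F : Type*} [Field F] (n : ℕ) (ε : F) :
    (Matrix.diagonal (fun i : Fin (n + 1) => if i = Fin.last n then ε else 1)).det = ε := by
  rw [Matrix.det_diagonal, Finset.prod_ite_eq']
  simp

/-- diagonal expansion w.r.t. an orthogonal family -/
theorem apply_sum_sum {F V : Type*} [Field F] [AddCommGroup V] [Module F V] {ι : Type*}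
    [Fintype ι] (B : LinearMap.BilinForm F V) (b : ι → V)
    (h1 : ∀ i j, i ≠ j → B (b i) (b j) = 0) (r : ι → F) :
    B (∑ i, r i • b i) (∑ i, r i • b i) = ∑ i, r i * r i * B (b i) (b i) := by
  classical
  simp only [map_sum, map_smul, LinearMap.sum_apply, LinearMap.smul_apply, smul_eq_mul]
  apply Finset.sum_congr rfl
  intro i _
  rw [Finset.sum_eq_single i]
  · ring
  · intro j _ hji
    rw [h1 j i hji]; ring
  · intro h; exact absurd (Finset.mem_univ i) h

theorem similar_of_same_type {F V : Type*} [Field F] [AddCommGroup V] [Module F V] (n : ℕ)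
    (B₁ B₂ : LinearMap.BilinForm F V) (ε : F) (hT₁ : HasType n B₁ ε) (hT₂ : HasType n B₂ ε) :
    ∃ g : V ≃ₗ[F] V, ∀ v, B₂ (g v) (g v) = B₁ v v := by
  obtain ⟨b, hb1, hb2, hb3⟩ := hT₁
  obtain ⟨c, hc1, hc2, hc3⟩ := hT₂
  refine ⟨b.equiv c (Equiv.refl _), ?_⟩
  intro v
  have hv : v = ∑ i, b.repr v i • b i := (b.sum_repr v).symm
  have hgv : (b.equiv c (Equiv.refl _)) v = ∑ i, b.repr v i • c i := by
    conv_lhs => rw [hv]
    rw [map_sum]
    apply Finset.sum_congr rfl
    intro i _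
    rw [map_smul, Module.Basis.equiv_apply, Equiv.refl_apply]
  rw [hgv]
  conv_rhs => rw [hv]
  rw [apply_sum_sum B₂ c hc1, apply_sum_sum B₁ b hb1]
  apply Finset.sum_congr rfl
  intro i _
  by_cases hi : i = Fin.last n
  · subst hi; rw [hb3, hc3]
  · rw [hb2 i hi, hc2 i hi]

theorem isSquare_of_type_scale {F V : Type*} [Field F] [AddCommGroup V] [Module F V] (k : ℕ)
    (B : LinearMap.BilinForm F V) (α ε : F) (hε : ε ≠ 0) (hα : α ≠ 0) (hT₁ : HasType (2 * k) B ε)
    (hT₂ : HasType (2 * k) (α • B) ε) : IsSquare α := by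
  obtain ⟨b, hb1, hb2, hb3⟩ := hT₁
  obtain ⟨c, hc1, hc2, hc3⟩ := hT₂
  have hG := gram_eq b hb1 hb2 hb3
  have hG' := gram_eq c hc1 hc2 hc3
  have hP := LinearMap.BilinForm.toMatrix_mul_basis_toMatrix (b := b) c B
  rw [map_smul] at hG'
  have d1 := congrArg Matrix.det hP
  have d2 := congrArg Matrix.det hG'
  rw [hG, Matrix.det_mul, Matrix.det_mul, Matrix.det_transpose, det_diag] at d1
  rw [Matrix.det_smul, det_diag, ← d1] at d2
  simp only [Fintype.card_fin] at d2
  set d := (b.toMatrix c).det with hd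
  have h1 : α ^ (2 * k + 1) * (d * d) = 1 := by
    have : (α ^ (2 * k + 1) * (d * d)) * ε = 1 * ε := by linear_combination d2
    exact mul_right_cancel₀ hε this
  have hd0 : d ≠ 0 := by
    rintro h0
    rw [h0] at h1; simp at h1
  refine ⟨(α ^ k * d)⁻¹, ?_⟩
  have h3 : α ^ k * d ≠ 0 := mul_ne_zero (pow_ne_zero _ hα) hd0
  have h4 : α * ((α ^ k * d) * (α ^ k * d)) = 1 := by
    rw [← h1]; ring
  calc α = α * ((α ^ k * d) * (α ^ k * d)) * ((α ^ k * d)⁻¹ * (α ^ k * d)⁻¹) := by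
        field_simp
    _ = _ := by rw [h4, one_mul]

theorem result {F : Type*} [Field F] [Fintype F] (h2 : (2 : F) ≠ 0) {n : ℕ} (hn : Odd n) (Q₁ Q₂ : QuadraticForm F (Fin n → F)) (h₁ : (QuadraticMap.polarBilin Q₁).Nondegenerate) (h₂ : (QuadraticMap.polarBilin Q₂).Nondegenerate) : ∃ (g : (Fin n → F) ≃ₗ[F] (Fin n → F)) (c : F), c ≠ 0 ∧ ∀ v, Q₂ (g v) = c * Q₁ v := by
  obtain ⟨k, rfl⟩ := hn
  have hchar : ringChar F ≠ 2 := by
    intro h
    apply h2
    have := ringChar.Nat.cast_ringChar (R := F)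
    rw [h] at this
    exact_mod_cast this
  obtain ⟨α, hα⟩ := FiniteField.exists_nonsquare hchar
  have hα0 : α ≠ 0 := fun h => hα (h ▸ IsSquare.zero)
  set β₁ : LinearMap.BilinForm F (Fin (2 * k + 1) → F) := QuadraticMap.polarBilin Q₁ with hβ₁
  set β₂ : LinearMap.BilinForm F (Fin (2 * k + 1) → F) := QuadraticMap.polarBilin Q₂ with hβ₂
  have hS₁ : β₁.IsSymm := ⟨fun x y => QuadraticMap.polar_comm _ x y⟩
  have hS₂ : β₂.IsSymm := ⟨fun x y => QuadraticMap.polar_comm _ x y⟩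
  have hfin : Module.finrank F (Fin (2 * k + 1) → F) = 2 * k + 1 := Module.finrank_fin_fun F
  have ty : ∀ B : LinearMap.BilinForm F (Fin (2 * k + 1) → F), B.IsSymm → B.Nondegenerate →
      HasType (2 * k) B 1 ∨ HasType (2 * k) B α := by
    intro B hS hB
    obtain ⟨b, hb1, hb2, hb3⟩ := Cfsg.Agent.S0756.result h2 B hS hB hfin α hα
    rcases hb3 with h | h
    · left; exact ⟨b, hb1, hb2, h⟩
    · right; exact ⟨b, hb1, hb2, h⟩
  have hscS : (α • β₁).IsSymm := hS₁.smul α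
  have hsc : (α • β₁).Nondegenerate := by
    constructor
    · intro x hx
      apply h₁.1 x
      intro y
      have := hx y
      rw [LinearMap.smul_apply, LinearMap.smul_apply, smul_eq_mul] at this
      exact (mul_eq_zero.1 this).resolve_left hα0
    · intro y hy
      apply h₁.2 y
      intro x
      have := hy x
      rw [LinearMap.smul_apply, LinearMap.smul_apply, smul_eq_mul] at this
      exact (mul_eq_zero.1 this).resolve_left hα0
  have hpol₁ : ∀ v, β₁ v v = 2 * Q₁ v := fun v => by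
    change QuadraticMap.polar Q₁ v v = _
    rw [QuadraticMap.polar_self]; simp
  have hpol₂ : ∀ v, β₂ v v = 2 * Q₂ v := fun v => by
    change QuadraticMap.polar Q₂ v v = _
    rw [QuadraticMap.polar_self]; simp
  have fin1 : (∃ g : (Fin (2 * k + 1) → F) ≃ₗ[F] (Fin (2 * k + 1) → F),
      ∀ v, β₂ (g v) (g v) = β₁ v v) →
      ∃ (g : (Fin (2 * k + 1) → F) ≃ₗ[F] (Fin (2 * k + 1) → F)) (c : F),
        c ≠ 0 ∧ ∀ v, Q₂ (g v) = c * Q₁ v := by
    rintro ⟨g, hg⟩
    refine ⟨g, 1, one_ne_zero, fun v => ?_⟩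
    have := hg v
    rw [hpol₁, hpol₂] at this
    rw [one_mul]
    exact mul_left_cancel₀ h2 this
  have finα : (∃ g : (Fin (2 * k + 1) → F) ≃ₗ[F] (Fin (2 * k + 1) → F),
      ∀ v, β₂ (g v) (g v) = (α • β₁) v v) →
      ∃ (g : (Fin (2 * k + 1) → F) ≃ₗ[F] (Fin (2 * k + 1) → F)) (c : F),
        c ≠ 0 ∧ ∀ v, Q₂ (g v) = c * Q₁ v := by
    rintro ⟨g, hg⟩
    refine ⟨g, α, hα0, fun v => ?_⟩
    have := hg v
    rw [LinearMap.smul_apply, LinearMap.smul_apply, smul_eq_mul, hpol₁, hpol₂] at this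
    apply mul_left_cancel₀ h2
    rw [this]; ring
  rcases ty β₁ hS₁ h₁ with t1 | t1 <;> rcases ty β₂ hS₂ h₂ with t2 | t2
  · exact fin1 (similar_of_same_type _ _ _ _ t1 t2)
  · rcases ty (α • β₁) hscS hsc with t3 | t3
    · exact absurd (isSquare_of_type_scale k β₁ α 1 one_ne_zero hα0 t1 t3) hα
    · exact finα (similar_of_same_type _ _ _ _ t3 t2)
  · rcases ty (α • β₁) hscS hsc with t3 | t3
    · exact finα (similar_of_same_type _ _ _ _ t3 t2)
    · exact absurd (isSquare_of_type_scale k β₁ α α hα0 hα0 t1 t3) hα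
  · exact fin1 (similar_of_same_type _ _ _ _ t1 t2)

end Cfsg.Agent.S0838
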