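import Cfsg.Statements.S0839
import Mathlib

set_option autoImplicit false
open Cfsg

namespace Cfsg.Agent.S0839

open Matrix

/-- rank one decomposition -/
theorem exists_vecMulVec {F : Type*} [Field F] {ι : Type*} [Fintype ι] [DecidableEq ι]
    (N : Matrix ι ι F) (hN : N.rank = 1) : ∃ u w : ι → F, N = vecMulVec u w := by
  rw [Matrix.rank] at hN
  obtain ⟨u, _, hu⟩ := finrank_eq_one_iff'.1 hN
  have : ∀ j : ι, ∃ c : F, c • (u : ι → F) = N *ᵥ (Pi.single j 1) := by
    intro j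
    have hmem : N *ᵥ (Pi.single j 1) ∈ LinearMap.range N.mulVecLin := ⟨Pi.single j 1, rfl⟩
    obtain ⟨c, hc⟩ := hu ⟨_, hmem⟩
    exact ⟨c, congrArg Subtype.val hc⟩
  choose w hw using this
  refine ⟨u, w, ?_⟩
  ext i j
  have := congrFun (hw j) i
  rw [Matrix.mulVec_single_one] at this
  rw [vecMulVec_apply, mul_comm]
  simpa using this.symm

theorem result {F : Type*} [Field F] (n : ℕ) (t : Matrix.SpecialLinearGroup (Fin (n + 2)) F) (ht : Cfsg.IsTransvection (t : Matrix (Fin (n + 2)) (Fin (n + 2)) F)) : ∃ (g : Matrix.SpecialLinearGroup (Fin (n + 2)) F) (v : Fin (n + 2) → F), v 0 = 0 ∧ ((g⁻¹ * t * g : Matrix.SpecialLinearGroup (Fin (n + 2)) F) : Matrix (Fin (n + 2)) (Fin (n + 2)) F) = 1 + Matrix.vecMulVec v (Pi.single 0 1) := by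
  obtain ⟨hrank, hsq⟩ := ht
  obtain ⟨u, w, hN⟩ := exists_vecMulVec _ hrank
  have hN0 : vecMulVec u w ≠ 0 := by
    intro h0
    rw [hN, h0, Matrix.rank_zero] at hrank
    exact zero_ne_one hrank
  have hw : w ≠ 0 := by
    rintro rfl
    apply hN0
    ext i j; simp [vecMulVec_apply]
  have hwu : w ⬝ᵥ u = 0 := by
    rw [hN, vecMulVec_mul_vecMulVec, vecMulVec_smul] at hsq
    by_contra h
    exact hN0 ((smul_eq_zero.1 hsq).resolve_left h)
  have he : (Pi.single 0 1 : Fin (n + 2) → F) ≠ 0 := by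
    intro h
    have := congrFun h 0
    simp at this
  obtain ⟨h, hh⟩ := MulAction.exists_smul_eq (Matrix.SpecialLinearGroup (Fin (n + 2)) F)
    (Projectivization.mk F w hw) (Projectivization.mk F _ he)
  rw [Projectivization.matrixSpecialLinearGroup_smul_def, Projectivization.smul_mk,
    Projectivization.mk_eq_mk_iff] at hh
  obtain ⟨a, ha⟩ := hh
  have ha' : (h : Matrix (Fin (n + 2)) (Fin (n + 2)) F) *ᵥ w = (a : F) • Pi.single 0 1 := by
    rw [← Units.smul_def]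
    rw [ha]
    rfl
  let g : Matrix.SpecialLinearGroup (Fin (n + 2)) F := Matrix.SpecialLinearGroup.transpose h
  have hg : w ᵥ* (g : Matrix (Fin (n + 2)) (Fin (n + 2)) F) = (a : F) • Pi.single 0 1 := by
    rw [← ha']
    change w ᵥ* (h : Matrix (Fin (n + 2)) (Fin (n + 2)) F)ᵀ = _
    rw [Matrix.vecMul_transpose]
  refine ⟨g, (a : F) • ((g⁻¹ : Matrix.SpecialLinearGroup (Fin (n + 2)) F) : Matrix (Fin (n + 2)) (Fin (n + 2)) F) *ᵥ u, ?_, ?_⟩
  · have h1 : (w ᵥ* (g : Matrix (Fin (n + 2)) (Fin (n + 2)) F)) ⬝ᵥ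
        (((g⁻¹ : Matrix.SpecialLinearGroup (Fin (n + 2)) F) : Matrix (Fin (n + 2)) (Fin (n + 2)) F) *ᵥ u) = 0 := by
      rw [← Matrix.dotProduct_mulVec, Matrix.mulVec_mulVec, ← Matrix.SpecialLinearGroup.coe_mul,
        mul_inv_cancel, Matrix.SpecialLinearGroup.coe_one, Matrix.one_mulVec, hwu]
    rw [hg] at h1
    simpa using h1
  · have ht : (t : Matrix (Fin (n + 2)) (Fin (n + 2)) F) = 1 + vecMulVec u w := by
      rw [← hN]; abel
    rw [Matrix.SpecialLinearGroup.coe_mul, Matrix.SpecialLinearGroup.coe_mul, ht, Matrix.mul_add,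
      Matrix.add_mul, Matrix.mul_one, ← Matrix.SpecialLinearGroup.coe_mul, inv_mul_cancel,
      Matrix.SpecialLinearGroup.coe_one, mul_vecMulVec, vecMulVec_mul, hg]
    rw [vecMulVec_smul, smul_vecMulVec]

end Cfsg.Agent.S0839
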