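import Mathlib
import Cfsg.Statements.S0843
import Cfsg.Agent.H2.QuatSylow

set_option autoImplicit false
open Cfsg

namespace Cfsg.Agent.S0843

/-- Suppose a Sylow 2-subgroup S of the finite group G is generalized quaternion of order at least 16; let D be the commutator subgroup of S and X the set of elements of the centralizer of D whose order is divisible by the order of D. Then D is contained in the cyclic subgroup generated by any element of X; an element of G conjugating some element of X into the centralizer of D normalizes D; and the normalizer of D maps X to itself under conjugation. -/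
theorem result {G : Type*} [Group G] [Finite G] (S : Sylow 2 G) (n : ℕ) (e : (S : Subgroup G) ≃* QuaternionGroup (2 ^ (n + 2))) (D : Subgroup G) (hD : D = ⁅(S : Subgroup G), (S : Subgroup G)⁆) : (∀ y : G, y ∈ Subgroup.centralizer (D : Set G) → Nat.card D ∣ orderOf y → D ≤ Subgroup.zpowers y) ∧ (∀ g y : G, y ∈ Subgroup.centralizer (D : Set G) → Nat.card D ∣ orderOf y → g * y * g⁻¹ ∈ Subgroup.centralizer (D : Set G) → g ∈ Subgroup.normalizer (D : Set G)) ∧ (∀ g y : G, g ∈ Subgroup.normalizer (D : Set G) → y ∈ Subgroup.centralizer (D : Set G) → Nat.card D ∣ orderOf y → g * y * g⁻¹ ∈ Subgroup.centralizer (D : Set G) ∧ Nat.card D ∣ orderOf (g * y * g⁻¹)) := by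
  obtain ⟨hD2, hcyc, -⟩ := Cfsg.Agent.H2.QuatSylow.main S n e D hD
  have hDC : D ≤ Subgroup.centralizer (D : Set G) := by
    obtain ⟨t, -, -, hcomm, -, -⟩ := Cfsg.Agent.H2.QuatSylow.exists_gen S n e
    rw [hD, hcomm]
    intro x hx
    rw [Subgroup.mem_centralizer_iff]
    intro z hz
    obtain ⟨i, rfl⟩ := Subgroup.mem_zpowers_iff.1 hx
    obtain ⟨j, rfl⟩ := Subgroup.mem_zpowers_iff.1 hz
    exact ((Commute.refl (t ^ 2)).zpow_zpow j i).eq
  have part1 : ∀ y : G, y ∈ Subgroup.centralizer (D : Set G) → Nat.card D ∣ orderOf y →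
      D ≤ Subgroup.zpowers y := fun y hy hdvd =>
    Cfsg.Agent.H2.QuatSylow.le_zpowers_of_cycP hcyc hDC hD2 hy
      (Subgroup.centralizer_le_normalizer _ hy) hdvd
  refine ⟨part1, ?_, ?_⟩
  · intro g y hy hdvd hgy
    exact Cfsg.Agent.H2.QuatSylow.mem_normalizer_of_le_zpowers (part1 y hy hdvd)
      (part1 _ hgy (by rw [Cfsg.Agent.H2.QuatSylow.orderOf_conj']; exact hdvd))
  · intro g y hg hy hdvd
    refine ⟨?_, by rw [Cfsg.Agent.H2.QuatSylow.orderOf_conj']; exact hdvd⟩
    have := Cfsg.Agent.H2.QuatSylow.normalizer_le_normalizer_centralizer D hg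
    exact (Subgroup.mem_normalizer_iff.1 this y).1 hy

end Cfsg.Agent.S0843
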