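import Mathlib
import Cfsg.Statements.S0849
import Cfsg.Agent.Lib.helper3.IndFun

set_option autoImplicit false
open Cfsg

namespace Cfsg.Agent.S0849

/-- Let H be a subgroup of a finite group G and S a subset of H that is mapped to itself under conjugation by H, is disjoint from its conjugate by any element outside H, and is closed under inverses. Let φ be a class function of H vanishing on H away from S, and let u, v be involutions of G. Then the sum of the induced function of φ over all products a * b with a conjugate to u and b conjugate to v equals the index of H times the sum of φ (a * b) over such pairs with a and b in H. -/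
theorem result {G : Type*} [Group G] [Fintype G] (H : Subgroup G) (S : Set G) (hSH : S ⊆ H) (hHS : ∀ h ∈ H, ∀ s ∈ S, h * s * h⁻¹ ∈ S) (hTI : ∀ g : G, g ∉ H → ∀ s ∈ S, g * s * g⁻¹ ∉ S) (hinv : ∀ s ∈ S, s⁻¹ ∈ S) (φ : H → ℂ) (hφ : Cfsg.IsClassFunction H φ) (hφS : ∀ x : H, (x : G) ∉ S → φ x = 0) (u v : G) (hu : orderOf u = 2) (hv : orderOf v = 2) : ∑ᶠ p ∈ {p : G × G | IsConj u p.1 ∧ IsConj v p.2}, Cfsg.indFun H φ (p.1 * p.2) = (H.index : ℂ) * ∑ᶠ p ∈ {p : H × H | IsConj u (p.1 : G) ∧ IsConj v (p.2 : G)}, φ (p.1 * p.2) := by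
  classical
  letI : Fintype H := Fintype.ofFinite H
  -- the extension by zero
  obtain ⟨E, hE⟩ : ∃ E : G → ℂ, E = Cfsg.extendByZero H φ := ⟨_, rfl⟩
  -- finite index sets
  obtain ⟨A, hA⟩ : ∃ A : Finset (G × G), A = Finset.univ.filter
      (fun p : G × G => IsConj u p.1 ∧ IsConj v p.2) := ⟨_, rfl⟩
  obtain ⟨B, hB⟩ : ∃ B : Finset (H × H), B = Finset.univ.filter
      (fun p : H × H => IsConj u (p.1 : G) ∧ IsConj v (p.2 : G)) := ⟨_, rfl⟩
  have hAset : {p : G × G | IsConj u p.1 ∧ IsConj v p.2} = ↑A := by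
    ext p; rw [hA]; simp
  have hBset : {p : H × H | IsConj u (p.1 : G) ∧ IsConj v (p.2 : G)} = ↑B := by
    ext p; rw [hB]; simp
  have hmemA : ∀ p : G × G, p ∈ A ↔ (IsConj u p.1 ∧ IsConj v p.2) := by
    intro p; rw [hA]; simp
  have hmemB : ∀ p : H × H, p ∈ B ↔ (IsConj u (p.1 : G) ∧ IsConj v (p.2 : G)) := by
    intro p; rw [hB]; simp
  rw [hAset, hBset, finsum_mem_coe_finset, finsum_mem_coe_finset]
  -- involutions
  have hsq : ∀ a : G, IsConj u a → a * a = 1 := by
    intro a ha
    obtain ⟨c, hc⟩ := isConj_iff.1 ha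
    have hu2 : u * u = 1 := by
      have := pow_orderOf_eq_one u
      rw [hu, pow_two] at this
      exact this
    rw [← hc]
    calc c * u * c⁻¹ * (c * u * c⁻¹) = c * (u * u) * c⁻¹ := by group
      _ = 1 := by rw [hu2]; group
  have hsq' : ∀ b : G, IsConj v b → b * b = 1 := by
    intro b hb
    obtain ⟨c, hc⟩ := isConj_iff.1 hb
    have hv2 : v * v = 1 := by
      have := pow_orderOf_eq_one v
      rw [hv, pow_two] at this
      exact this
    rw [← hc]
    calc c * v * c⁻¹ * (c * v * c⁻¹) = c * (v * v) * c⁻¹ := by group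
      _ = 1 := by rw [hv2]; group
  -- step 1: conjugation invariance of the sum over `A`
  have hstep1 : ∀ x : G, ∑ p ∈ A, E (x⁻¹ * (p.1 * p.2) * x) = ∑ p ∈ A, E (p.1 * p.2) := by
    intro x
    have h1 : ∀ f : G × G → ℂ, ∑ p ∈ A, f p = ∑ p : G × G, if p ∈ A then f p else 0 := by
      intro f
      rw [Finset.sum_ite_mem, Finset.univ_inter]
    rw [h1, h1]
    let e : G × G ≃ G × G := Equiv.prodCongr (MulAut.conj x⁻¹).toEquiv (MulAut.conj x⁻¹).toEquiv
    rw [← Equiv.sum_comp e (fun p => if p ∈ A then E (p.1 * p.2) else 0)]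
    apply Finset.sum_congr rfl
    intro p _
    have he1 : (e p).1 = x⁻¹ * p.1 * x := by
      show (MulAut.conj x⁻¹) p.1 = _
      rw [MulAut.conj_apply, inv_inv]
    have he2 : (e p).2 = x⁻¹ * p.2 * x := by
      show (MulAut.conj x⁻¹) p.2 = _
      rw [MulAut.conj_apply, inv_inv]
    have hiff : e p ∈ A ↔ p ∈ A := by
      rw [hmemA, hmemA, he1, he2]
      constructor
      · rintro ⟨h1, h2⟩
        refine ⟨h1.trans ?_, h2.trans ?_⟩
        · exact isConj_iff.2 ⟨x, by group⟩
        · exact isConj_iff.2 ⟨x, by group⟩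
      · rintro ⟨h1, h2⟩
        refine ⟨h1.trans ?_, h2.trans ?_⟩
        · exact isConj_iff.2 ⟨x⁻¹, by group⟩
        · exact isConj_iff.2 ⟨x⁻¹, by group⟩
    by_cases hp : p ∈ A
    · rw [if_pos hp, if_pos (hiff.2 hp), he1, he2]
      congr 1
      group
    · rw [if_neg hp, if_neg (fun h => hp (hiff.1 h))]
  -- step 2: only pairs inside `H` contribute
  have hstep2 : ∑ p ∈ A, E (p.1 * p.2) = ∑ q ∈ B, φ (q.1 * q.2) := by
    let emb : H × H ↪ G × G :=
      ⟨fun q => ((q.1 : G), (q.2 : G)), by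
        intro q q' h
        have h1 := congrArg Prod.fst h
        have h2 := congrArg Prod.snd h
        exact Prod.ext (Subtype.ext h1) (Subtype.ext h2)⟩
    have h1 : ∑ q ∈ B, φ (q.1 * q.2) = ∑ p ∈ B.map emb, E (p.1 * p.2) := by
      rw [Finset.sum_map]
      apply Finset.sum_congr rfl
      intro q _
      show φ (q.1 * q.2) = E ((q.1 : G) * (q.2 : G))
      rw [hE, ← Subgroup.coe_mul, Cfsg.Agent.Lib.helper3.IndFun.extendByZero_coe]
    rw [h1]
    symm
    apply Finset.sum_subset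
    · intro p hp
      obtain ⟨q, hq, rfl⟩ := Finset.mem_map.1 hp
      rw [hmemA]
      exact (hmemB q).1 hq
    · intro p hpA hpB
      by_contra hne
      apply hpB
      rw [hmemA] at hpA
      obtain ⟨ha, hb⟩ := hpA
      have hmem : p.1 * p.2 ∈ H := by
        by_contra hnot
        apply hne
        rw [hE, Cfsg.Agent.Lib.helper3.IndFun.extendByZero_not_mem H φ hnot]
      have hS : p.1 * p.2 ∈ S := by
        by_contra hnot
        apply hne
        rw [hE, Cfsg.Agent.Lib.helper3.IndFun.extendByZero_mem H φ hmem]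
        exact hφS ⟨_, hmem⟩ hnot
      have ha2 := hsq p.1 ha
      have hb2 := hsq' p.2 hb
      have hinvS := hinv _ hS
      have hainv : p.1⁻¹ = p.1 := inv_eq_of_mul_eq_one_left ha2
      have hbinv : p.2⁻¹ = p.2 := inv_eq_of_mul_eq_one_left hb2
      have hsinv : (p.1 * p.2)⁻¹ = p.2 * p.1 := by
        rw [mul_inv_rev, hainv, hbinv]
      have haH : p.1 ∈ H := by
        by_contra hnot
        apply hTI p.1 hnot _ hS
        have : p.1 * (p.1 * p.2) * p.1⁻¹ = (p.1 * p.2)⁻¹ := by
          rw [hsinv, hainv, ← mul_assoc, ha2, one_mul]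
        rw [this]
        exact hinvS
      have hbH : p.2 ∈ H := by
        by_contra hnot
        apply hTI p.2 hnot _ hS
        have : p.2 * (p.1 * p.2) * p.2⁻¹ = (p.1 * p.2)⁻¹ := by
          rw [hsinv, hbinv, mul_assoc, mul_assoc, hb2, mul_one]
        rw [this]
        exact hinvS
      rw [Finset.mem_map]
      refine ⟨(⟨p.1, haH⟩, ⟨p.2, hbH⟩), ?_, rfl⟩
      rw [hmemB]
      exact ⟨ha, hb⟩
  -- assemble
  have hL : ∑ p ∈ A, Cfsg.indFun H φ (p.1 * p.2)
      = (Nat.card H : ℂ)⁻¹ * ((Fintype.card G : ℂ) * ∑ p ∈ A, E (p.1 * p.2)) := by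
    have h1 : ∀ p ∈ A, Cfsg.indFun H φ (p.1 * p.2)
        = (Nat.card H : ℂ)⁻¹ * ∑ x : G, E (x⁻¹ * (p.1 * p.2) * x) := by
      intro p _
      rw [hE]
      rfl
    rw [Finset.sum_congr rfl h1, ← Finset.mul_sum, Finset.sum_comm]
    congr 1
    rw [Finset.sum_congr rfl (fun x _ => hstep1 x), Finset.sum_const, Finset.card_univ,
      nsmul_eq_mul]
  rw [hL, hstep2, ← mul_assoc]
  congr 1
  have h1 := Subgroup.index_mul_card H
  have h2 : (Nat.card H : ℂ) ≠ 0 := by
    have : Nat.card H ≠ 0 := Nat.card_pos.ne'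
    exact_mod_cast this
  rw [← Nat.card_eq_fintype_card, ← h1]
  push_cast
  field_simp

end Cfsg.Agent.S0849
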