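import Mathlib
import Cfsg.Statements.S0850
import Cfsg.Agent.Lib.helper3.IndFunTI

set_option autoImplicit false
set_option linter.style.haveILetI false
open Cfsg

namespace Cfsg.Agent.S0850

open Cfsg.Agent.Lib.helper3.IndFun Cfsg.Agent.Lib.helper3.IndFunTI

/-- If a group `N` acts on a finite type `X` and `d` divides the index of every stabilizer,
then `d ∣ card X`. -/
theorem dvd_card_of_forall_dvd_index_stabilizer {N X : Type*} [Group N] [Finite N] [MulAction N X]
    [Finite X] (d : ℕ) (h : ∀ x : X, d ∣ (MulAction.stabilizer N x).index) : d ∣ Nat.card X := by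
  classical
  have e := MulAction.selfEquivSigmaOrbitsQuotientStabilizer N X
  rw [Nat.card_congr e]
  have : Finite (Quotient (MulAction.orbitRel N X)) := Quotient.finite _
  letI : Fintype (Quotient (MulAction.orbitRel N X)) := Fintype.ofFinite _
  rw [Nat.card_sigma]
  apply Finset.dvd_sum
  intro ω _
  exact h ω.out

theorem part1 {G : Type*} [Group G] [Finite G] (K : Subgroup G)
    (hC : ∀ k ∈ K, k ≠ 1 → Subgroup.centralizer ({k} : Set G) ≤ K) :
    ∀ x ∈ Subgroup.normalizer (K : Set G), x ∉ K → ∀ g : G, g * x * g⁻¹ ∉ K := by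
  classical
  set N := Subgroup.normalizer (K : Set G) with hN
  let X := {x : G // x ∈ K ∧ x ≠ 1}
  letI inst : MulAction N X :=
    { smul := fun n x => ⟨(n : G) * x.1 * (n : G)⁻¹, by
        refine ⟨?_, ?_⟩
        · exact (Subgroup.mem_normalizer_iff.mp n.2 x.1).mp x.2.1
        · intro h
          apply x.2.2
          have : x.1 = (n : G)⁻¹ * ((n : G) * x.1 * (n : G)⁻¹) * (n : G) := by group
          rw [this, h]; group⟩
      one_smul := by
        intro x
        apply Subtype.ext
        show ((1 : N) : G) * x.1 * ((1 : N) : G)⁻¹ = x.1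
        simp
      mul_smul := by
        intro a b x
        apply Subtype.ext
        show ((a * b : N) : G) * x.1 * ((a * b : N) : G)⁻¹ = (a : G) * ((b : G) * x.1 * (b : G)⁻¹) * (a : G)⁻¹
        simp only [Subgroup.coe_mul, mul_inv_rev]
        group }
  have hsmul : ∀ (n : N) (x : X), ((n • x : X) : G) = (n : G) * x.1 * (n : G)⁻¹ := fun _ _ => rfl
  have hstab : ∀ x : X, MulAction.stabilizer N x ≤ K.subgroupOf N := by
    intro x n hn
    rw [MulAction.mem_stabilizer_iff] at hn
    rw [Subgroup.mem_subgroupOf]
    apply hC x.1 x.2.1 x.2.2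
    rw [Subgroup.mem_centralizer_iff]
    simp only [Set.mem_singleton_iff, forall_eq]
    have h := congrArg Subtype.val hn
    rw [hsmul] at h
    calc x.1 * (n : G) = ((n : G) * x.1 * (n : G)⁻¹) * (n : G) := by rw [h]
      _ = (n : G) * x.1 := by group
  set d := (K.subgroupOf N).index with hd
  have hdvd : d ∣ Nat.card X :=
    dvd_card_of_forall_dvd_index_stabilizer (N := N) (X := X) d
      (fun x => Subgroup.index_dvd_of_le (hstab x))
  have hcard : Nat.card X + 1 = Nat.card K := by
    have e : X ≃ {a : K // a ≠ 1} :=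
      { toFun := fun x => ⟨⟨x.1, x.2.1⟩, fun h => x.2.2 (by simpa using congrArg Subtype.val h)⟩
        invFun := fun a => ⟨a.1.1, a.1.2, fun h => a.2 (Subtype.ext h)⟩
        left_inv := fun x => rfl
        right_inv := fun a => rfl }
    rw [Nat.card_congr e]
    letI : Fintype K := Fintype.ofFinite _
    rw [Nat.card_eq_fintype_card, Nat.card_eq_fintype_card]
    rw [Fintype.card_subtype_compl, Fintype.card_subtype_eq]
    have : 0 < Fintype.card K := Fintype.card_pos
    omega
  have hcop : Nat.Coprime d (Nat.card K) := by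
    rw [← hcard]
    obtain ⟨c, hc⟩ := hdvd
    rw [hc]
    have : Nat.Coprime d (d * c + 1) := by
      rw [Nat.coprime_mul_left_add_right]
      exact Nat.coprime_one_right d
    exact this
  intro x hxN hxK g hgx
  apply hxK
  -- order of x divides |K|
  have hord : orderOf x ∣ Nat.card K := by
    have h1 : orderOf (g * x * g⁻¹) = orderOf x := by
      have : g * x * g⁻¹ = MulAut.conj g x := by simp
      rw [this, MulEquiv.orderOf_eq]
    rw [← h1]
    have h2 : orderOf (⟨g * x * g⁻¹, hgx⟩ : K) = orderOf (g * x * g⁻¹) := by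
      rw [← Subgroup.orderOf_coe]
    rw [← h2]
    exact orderOf_dvd_natCard _
  have hcop' : Nat.Coprime (orderOf x) d := (Nat.Coprime.coprime_dvd_left hord hcop.symm)
  -- x^d ∈ K
  have hxd : x ^ d ∈ K := by
    have := Subgroup.pow_index_mem (K.subgroupOf N) (⟨x, hxN⟩ : N)
    rw [Subgroup.mem_subgroupOf] at this
    simpa using this
  -- x = (x^d)^a for suitable a
  have hx_zpow : x ∈ Subgroup.zpowers (x ^ d) := by
    have hgcd : Nat.gcd (orderOf x) d = 1 := hcop'
    have : orderOf (x ^ d) = orderOf x := by
      have hd0 : d ≠ 0 := by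
        rw [hd]
        exact Subgroup.index_ne_zero_of_finite
      rw [orderOf_pow' x hd0]
      rw [hgcd, Nat.div_one]
    have hle : Subgroup.zpowers (x ^ d) ≤ Subgroup.zpowers x :=
      Subgroup.zpowers_le.mpr (Subgroup.pow_mem _ (Subgroup.mem_zpowers x) d)
    have heq : Subgroup.zpowers (x ^ d) = Subgroup.zpowers x := by
      apply Subgroup.eq_of_le_of_card_ge hle
      rw [Nat.card_zpowers, Nat.card_zpowers, this]
    rw [heq]
    exact Subgroup.mem_zpowers x
  exact (Subgroup.zpowers_le.mpr hxd) hx_zpow

/-- Let K be a subgroup of the finite group G that meets each conjugate by an element outside its normalizer N trivially, is properly contained in N, and contains the centralizer of each of its non-identity elements (a T.I. subgroup with Frobenius normalizer). Then no element of N outside K is conjugate in G to an element of K, and for every class function ϑ of N that vanishes on N away from K and at the identity, the function induced from ϑ to G agrees with ϑ on all of N. -/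
theorem result {G : Type*} [Group G] [Fintype G] (K : Subgroup G) (hTI : ∀ g : G, g ∉ Subgroup.normalizer (K : Set G) → ∀ k ∈ K, g * k * g⁻¹ ∈ K → k = 1) (hlt : K < Subgroup.normalizer (K : Set G)) (hC : ∀ k ∈ K, k ≠ 1 → Subgroup.centralizer ({k} : Set G) ≤ K) : (∀ x ∈ Subgroup.normalizer (K : Set G), x ∉ K → ∀ g : G, g * x * g⁻¹ ∉ K) ∧ ∀ (ϑ : Subgroup.normalizer (K : Set G) → ℂ), Cfsg.IsClassFunction (Subgroup.normalizer (K : Set G)) ϑ → (∀ x : Subgroup.normalizer (K : Set G), (x : G) ∉ K → ϑ x = 0) → ϑ 1 = 0 → ∀ x : Subgroup.normalizer (K : Set G), Cfsg.indFun (Subgroup.normalizer (K : Set G)) ϑ x = ϑ x := by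
  have h1 := part1 K hC
  refine ⟨h1, ?_⟩
  intro ϑ hcf hvan hone x
  by_cases hx1 : x = 1
  · subst hx1
    rw [hone]
    exact indFun_one_of_apply_one_eq_zero _ ϑ hone
  by_cases hxK : (x : G) ∈ K
  · exact indFun_TI_apply (K : Set G) hTI ϑ hcf hvan x hxK hx1
  · rw [hvan x hxK]
    rw [indFun_apply]
    have : ∀ y : G, extendByZero (Subgroup.normalizer (K : Set G)) ϑ (y⁻¹ * (x : G) * y) = 0 := by
      intro y
      by_cases hmem : y⁻¹ * (x : G) * y ∈ Subgroup.normalizer (K : Set G)
      · rw [extendByZero_mem _ ϑ hmem]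
        apply hvan
        have := h1 x x.2 hxK y⁻¹
        simpa using this
      · exact extendByZero_not_mem _ ϑ hmem
    simp_rw [this]
    simp

end Cfsg.Agent.S0850
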