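import Mathlib
import Cfsg.Statements.S0855
import Cfsg.Agent.S4456
import Cfsg.Agent.Lib.helper3.Clifford2
import Cfsg.Agent.Lib.helper3.Ito
import Cfsg.Agent.Lib.helper3.ClassBound

set_option autoImplicit false
open Cfsg

namespace Cfsg.Agent.S0855

open Cfsg.Agent.Lib.helper3.Irr

/-- For a finite group G and a prime p: every irreducible character of G has degree a power of p if and only if G has an abelian normal subgroup whose order is prime to p and whose index is a power of p. -/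
theorem result {G : Type*} [Group G] [Finite G] (p : ℕ) (hp : p.Prime) : (∀ χ : Cfsg.IrrCharacter G, ∃ k : ℕ, (χ : G → ℂ) 1 = (p : ℂ) ^ k) ↔ ∃ A : Subgroup G, A.Normal ∧ (∀ a ∈ A, ∀ b ∈ A, a * b = b * a) ∧ Nat.Coprime (Nat.card A) p ∧ ∃ k : ℕ, A.index = p ^ k := by
  classical
  letI : Fintype G := Fintype.ofFinite G
  constructor
  · intro h
    have hdeg : ∀ χ : Cfsg.IrrCharacter G, Cfsg.charDegree (χ : G → ℂ) ≠ 1 →
        p ∣ Cfsg.charDegree (χ : G → ℂ) := by
      intro χ hne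
      obtain ⟨k, hk⟩ := h χ
      have hcd : Cfsg.charDegree (χ : G → ℂ) = p ^ k := by
        unfold Cfsg.charDegree
        rw [hk]
        have : ((p : ℂ) ^ k) = ((p ^ k : ℕ) : ℂ) := by push_cast; rfl
        rw [this, Complex.natCast_re, Nat.floor_natCast]
      rw [hcd] at hne ⊢
      rcases Nat.eq_zero_or_pos k with h0 | hpos
      · rw [h0, pow_zero] at hne
        exact absurd rfl hne
      · exact dvd_pow_self p hpos.ne'
    obtain ⟨N, hNn, hcop, j, hj⟩ := Cfsg.Agent.S4456.result p hp hdeg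
    haveI := hNn
    letI : Fintype N := Fintype.ofFinite N
    refine ⟨N, hNn, ?_, hcop, j, hj⟩
    have hlin : ∀ θ : Cfsg.IrrCharacter N, (θ : N → ℂ) 1 = 1 := by
      intro θ
      obtain ⟨χ, hχ⟩ := exists_irr_over N (θ : N → ℂ) θ.2
      obtain ⟨k, hk⟩ := h χ
      obtain ⟨dθ, hdθ, hdvd, hpos⟩ := Cfsg.Agent.Lib.helper3.Central.irr_degree_dvd_card θ.2
      have hk' : (χ : G → ℂ) 1 = ((p ^ k : ℕ) : ℂ) := by rw [hk]; push_cast; rfl
      have h1 := constituent_degree_dvd N (χ : G → ℂ) χ.2 (θ : N → ℂ) θ.2 hχ (p ^ k) dθ hk' hdθ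
      have h2 : Nat.Coprime dθ p := Nat.Coprime.coprime_dvd_left hdvd hcop
      have h3 : dθ = 1 := Nat.eq_one_of_dvd_coprimes (Nat.Coprime.pow_right k h2) (dvd_refl dθ) h1
      rw [hdθ, h3]
      simp
    intro a ha b hb
    have := comm_of_all_linear hlin ⟨a, ha⟩ ⟨b, hb⟩
    exact congrArg Subtype.val this
  · rintro ⟨A, hAn, hAab, -, k, hk⟩ χ
    haveI := hAn
    obtain ⟨n, ρ, hirr, hρ⟩ := χ.2
    haveI := hirr
    have h1 := Cfsg.Agent.Lib.helper3.Irr.ito ρ A hAab
    rw [hk] at h1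
    obtain ⟨j, -, hj⟩ := (Nat.dvd_prime_pow hp).mp h1
    refine ⟨j, ?_⟩
    rw [← hρ, Representation.char_one, hj]
    push_cast
    rfl

end Cfsg.Agent.S0855
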