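import Mathlib
import Cfsg.Statements.S0856
import Cfsg.Agent.Lib.helper3.Gallagher

set_option autoImplicit false
open Cfsg

namespace Cfsg.Agent.S0856

/-- Let N be a normal subgroup of the finite group G and φ, ϑ irreducible characters of N that are invariant under conjugation by G, such that the pointwise product φ * ϑ is irreducible and ϑ is the restriction of an irreducible character χ of G. Then multiplication by χ is a bijection from the set of irreducible characters of G having nonzero inner product with the function induced from φ onto the set of those having nonzero inner product with the function induced from φ * ϑ. -/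
theorem result {G : Type*} [Group G] [Fintype G] (N : Subgroup G) [hN : N.Normal] (φ ϑ : N → ℂ) (hφ : Cfsg.IsIrrCharacter N φ) (hϑ : Cfsg.IsIrrCharacter N ϑ) (hφinv : ∀ (g : G) (n : N), φ ⟨g * n * g⁻¹, hN.conj_mem (n : G) n.2 g⟩ = φ n) (hϑinv : ∀ (g : G) (n : N), ϑ ⟨g * n * g⁻¹, hN.conj_mem (n : G) n.2 g⟩ = ϑ n) (hprod : Cfsg.IsIrrCharacter N (φ * ϑ)) (χ : G → ℂ) (hχ : Cfsg.IsIrrCharacter G χ) (hext : ∀ n : N, χ n = ϑ n) : Set.BijOn (fun β : G → ℂ => β * χ) {β : G → ℂ | Cfsg.IsIrrCharacter G β ∧ Cfsg.classInner (Cfsg.indFun N φ) β ≠ 0} {ψ : G → ℂ | Cfsg.IsIrrCharacter G ψ ∧ Cfsg.classInner (Cfsg.indFun N (φ * ϑ)) ψ ≠ 0} := by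
  classical
  obtain ⟨e, he, hΨ, hrig⟩ := Cfsg.Agent.Lib.helper3.Irr.gallagher_aux N φ ϑ hφ hφinv hϑinv hprod χ
    (Cfsg.Agent.Lib.helper3.Irr.isCharacter_of_isIrrCharacter hχ)
    (Cfsg.Agent.Lib.helper3.Irr.apply_one_ne_zero hχ) hext
  have hχc := Cfsg.Agent.Lib.helper3.Irr.isCharacter_of_isIrrCharacter hχ
  have hirr : ∀ β : Cfsg.IrrCharacter G, e β ≠ 0 → Cfsg.IsIrrCharacter G ((β : G → ℂ) * χ) := by
    intro β hβ
    exact Cfsg.Agent.Lib.helper3.Irr.isIrrCharacter_of_classInner_self_eq_one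
      (Cfsg.Agent.Lib.helper3.Irr.isCharacter_mul
        (Cfsg.Agent.Lib.helper3.Irr.isCharacter_of_isIrrCharacter β.2) hχc) (hrig β hβ).1
  have hinner : ∀ β : Cfsg.IrrCharacter G, e β ≠ 0 →
      Cfsg.classInner (Cfsg.indFun N (φ * ϑ)) ((β : G → ℂ) * χ) = e β := by
    intro β hβ
    rw [hΨ, Cfsg.Agent.Lib.helper3.Irr.classInner_sum_left]
    rw [Finset.sum_eq_single β]
    · rw [Cfsg.Agent.Lib.helper3.Irr.classInner_smul_left, (hrig β hβ).1, mul_one]
    · intro γ _ hγ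
      rw [Cfsg.Agent.Lib.helper3.Irr.classInner_smul_left]
      by_cases hγ0 : e γ = 0
      · rw [hγ0, Nat.cast_zero, zero_mul]
      · rw [(hrig γ hγ0).2 β (Ne.symm hγ) hβ, mul_zero]
    · intro h; exact absurd (Finset.mem_univ β) h
  refine ⟨?_, ?_, ?_⟩
  · -- MapsTo
    rintro β ⟨hβ, hne⟩
    have hβ0 : e ⟨β, hβ⟩ ≠ 0 := by
      intro h0
      apply hne
      have := he ⟨β, hβ⟩
      rw [h0, Nat.cast_zero] at this
      exact this
    refine ⟨hirr ⟨β, hβ⟩ hβ0, ?_⟩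
    have := hinner ⟨β, hβ⟩ hβ0
    simp only at this ⊢
    rw [this]
    exact_mod_cast hβ0
  · -- InjOn
    rintro β ⟨hβ, hne⟩ γ ⟨hγ, hne'⟩ heq
    simp only at heq
    by_contra hβγ
    have hβ0 : e ⟨β, hβ⟩ ≠ 0 := by
      intro h0
      apply hne
      have := he ⟨β, hβ⟩
      rw [h0, Nat.cast_zero] at this
      exact this
    have hγ0 : e ⟨γ, hγ⟩ ≠ 0 := by
      intro h0
      apply hne'
      have := he ⟨γ, hγ⟩
      rw [h0, Nat.cast_zero] at this
      exact this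
    have hne2 : (⟨γ, hγ⟩ : Cfsg.IrrCharacter G) ≠ ⟨β, hβ⟩ := by
      intro h
      apply hβγ
      exact (congrArg Subtype.val h).symm
    have h1 := (hrig ⟨β, hβ⟩ hβ0).2 ⟨γ, hγ⟩ hne2 hγ0
    have h2 := (hrig ⟨β, hβ⟩ hβ0).1
    simp only at h1 h2
    rw [← heq, h2] at h1
    exact one_ne_zero h1
  · -- SurjOn
    rintro ψ ⟨hψ, hne⟩
    rw [hΨ, Cfsg.Agent.Lib.helper3.Irr.classInner_sum_left] at hne
    obtain ⟨β, _, hβ⟩ := Finset.exists_ne_zero_of_sum_ne_zero hne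
    rw [Cfsg.Agent.Lib.helper3.Irr.classInner_smul_left] at hβ
    have hβ0 : e β ≠ 0 := by
      intro h0
      rw [h0, Nat.cast_zero, zero_mul] at hβ
      exact hβ rfl
    have hβ1 : Cfsg.classInner ((β : G → ℂ) * χ) ψ ≠ 0 := right_ne_zero_of_mul hβ
    refine ⟨(β : G → ℂ), ⟨β.2, ?_⟩, ?_⟩
    · rw [he]; exact_mod_cast hβ0
    · simp only
      by_contra hne2
      exact hβ1 (Cfsg.Agent.Lib.helper3.Irr.irr_classInner_eq_zero (hirr β hβ0) hψ hne2)

end Cfsg.Agent.S0856
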