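import Mathlib
import Cfsg.Statements.S0857
import Cfsg.Agent.Lib.helper3.GoingDown3

set_option autoImplicit false
open Cfsg

namespace Cfsg.Agent.S0857

open Cfsg.Agent.Lib.helper3.Irr

/-- Let L < K be normal subgroups of the finite group G with no normal subgroup of G strictly between them and with K / L abelian (the commutator subgroup of K lies in L). Let ϑ be an irreducible character of K invariant under conjugation by G. Then the restriction of ϑ to L is irreducible; or it equals e times an irreducible character of L with e ^ 2 equal to the index of L in K; or it is the sum of a family of pairwise distinct irreducible characters of L indexed by a set whose size is the index of L in K. -/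
theorem result {G : Type*} [Group G] [Fintype G] (K L : Subgroup G) [hK : K.Normal] [L.Normal] (hLK : L < K) (hchief : ∀ M : Subgroup G, M.Normal → L ≤ M → M ≤ K → M = L ∨ M = K) (hab : ⁅K, K⁆ ≤ L) (ϑ : K → ℂ) (hϑ : Cfsg.IsIrrCharacter K ϑ) (hinv : ∀ (g : G) (n : K), ϑ ⟨g * n * g⁻¹, hK.conj_mem (n : G) n.2 g⟩ = ϑ n) : Cfsg.IsIrrCharacter L (fun x : L => ϑ ⟨(x : G), hLK.le x.2⟩) ∨ (∃ (φ : L → ℂ) (e : ℕ), Cfsg.IsIrrCharacter L φ ∧ (fun x : L => ϑ ⟨(x : G), hLK.le x.2⟩) = (e : ℂ) • φ ∧ e ^ 2 = L.relIndex K) ∨ (∃ F : Finset (L → ℂ), (∀ φ ∈ F, Cfsg.IsIrrCharacter L φ) ∧ F.card = L.relIndex K ∧ (fun x : L => ϑ ⟨(x : G), hLK.le x.2⟩) = ∑ φ ∈ F, φ) := by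
  classical
  have hLK' : L ≤ K := hLK.le
  have h := Cfsg.Agent.Lib.helper3.GoingDown.going_down K L hLK' hchief hab ϑ hϑ hinv
  obtain ⟨e, he⟩ : ∃ e : L.subgroupOf K ≃* L, e = Subgroup.subgroupOfEquivOfLe hLK' := ⟨_, rfl⟩
  have hres : (fun x : L => ϑ ⟨(x : G), hLK.le x.2⟩)
      = fun x : L => (fun y : L.subgroupOf K => ϑ y) (e.symm x) := by
    funext x
    simp only
    congr 1
    apply Subtype.ext
    rw [he]
    simp
  have hinj : Function.Injective
      (fun (ψ : L.subgroupOf K → ℂ) => fun x : L => ψ (e.symm x)) := by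
    intro ψ ψ' hψ
    funext y
    have := congrFun hψ (e y)
    simpa using this
  rcases h with h | ⟨φ₀, n, hφ₀, hsm, hn⟩ | ⟨F, hF, hcard, hsum⟩
  · left
    rw [hres]
    exact isIrrCharacter_comp_mulEquiv e.symm h
  · right
    left
    refine ⟨fun x => φ₀ (e.symm x), n, isIrrCharacter_comp_mulEquiv e.symm hφ₀, ?_, hn⟩
    rw [hres]
    funext x
    have := congrFun hsm (e.symm x)
    simpa using this
  · right
    right
    refine ⟨F.image (fun (ψ : L.subgroupOf K → ℂ) => fun x : L => ψ (e.symm x)), ?_, ?_, ?_⟩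
    · intro φ hφ
      obtain ⟨ψ, hψ, rfl⟩ := Finset.mem_image.1 hφ
      exact isIrrCharacter_comp_mulEquiv e.symm (hF ψ hψ)
    · rw [Finset.card_image_of_injective _ hinj, hcard]
    · rw [hres, Finset.sum_image (fun a _ b _ hab => hinj hab)]
      funext x
      have := congrFun hsum (e.symm x)
      show ϑ ↑(e.symm x) = _
      rw [this, Finset.sum_apply, Finset.sum_apply]

end Cfsg.Agent.S0857
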