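import Mathlib
import Cfsg.Statements.S0859
import Cfsg.Agent.Lib.helper3.RelMon5

set_option autoImplicit false
open Cfsg

namespace Cfsg.Agent.S0859

open Cfsg.Agent.Lib.helper3.RelMon Cfsg.Agent.Lib.helper3.Irr Cfsg.Agent.Lib.helper3.Lin Cfsg.Agent.Lib.helper3.IndFun

/-- Let G be a finite solvable group and N a normal subgroup such that for every prime p every Sylow p-subgroup of N is abelian. Suppose every irreducible character of G is induced from an irreducible character of some subgroup containing N whose restriction to N is irreducible. Then every irreducible character of G is induced from a character of degree 1 of some subgroup. -/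
theorem result {G : Type*} [Group G] [Fintype G] [Group.IsSolvable G] (N : Subgroup G) [N.Normal] (hab : ∀ (p : ℕ) [Fact p.Prime] (P : Sylow p N), ∀ a ∈ P, ∀ b ∈ P, a * b = b * a) (hrel : ∀ χ : G → ℂ, Cfsg.IsIrrCharacter G χ → ∃ (H : Subgroup G) (hNH : N ≤ H) (ψ : H → ℂ), Cfsg.IsIrrCharacter H ψ ∧ Cfsg.indFun H ψ = χ ∧ Cfsg.IsIrrCharacter N (fun n : N => ψ ⟨(n : G), hNH n.2⟩)) (χ : G → ℂ) (hχ : Cfsg.IsIrrCharacter G χ) : ∃ (U : Subgroup G) (lam : U → ℂ), Cfsg.IsCharacter U lam ∧ lam 1 = 1 ∧ Cfsg.indFun U lam = χ := by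
  classical
  obtain ⟨H, hNH, ψ, hψ, hind, hres⟩ := hrel χ hχ
  letI : Fintype H := Fintype.ofFinite H
  haveI hNn : (N.subgroupOf H).Normal := Subgroup.Normal.subgroupOf inferInstance H
  have hsolvH : Group.IsSolvable H :=
    Group.isSolvable_of_isSolvable_injective H.subtype_injective
  have habH : AbSyl (N.subgroupOf H) := by
    have hab' : AbSyl N := hab
    obtain ⟨f, hf⟩ : ∃ f : N.subgroupOf H →* N,
        ∀ x : N.subgroupOf H, ((f x : N) : G) = ((x : H) : G) :=
      ⟨{ toFun := fun x : N.subgroupOf H => ⟨((x : H) : G), Subgroup.mem_subgroupOf.mp x.2⟩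
         map_one' := rfl
         map_mul' := fun _ _ => rfl }, fun _ => rfl⟩
    apply hab'.of_injective f
    intro x y hxy
    apply Subtype.ext
    apply Subtype.ext
    rw [← hf x, ← hf y, hxy]
  have hψN : IsIrrCharacter (N.subgroupOf H) (fun x => ψ x) := by
    have h1 := isIrrCharacter_comp_mulEquiv (Subgroup.subgroupOfEquivOfLe hNH) hres
    have e : (fun h : N.subgroupOf H => (fun n : N => ψ ⟨(n : G), hNH n.2⟩)
        ((Subgroup.subgroupOfEquivOfLe hNH) h)) = fun x : N.subgroupOf H => ψ x := by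
      funext x
      simp only
      congr 1
    rwa [e] at h1
  obtain ⟨H', lam', hψeq⟩ := relMon (N.subgroupOf H) hsolvH habH ψ hψ hψN
  refine ⟨H'.map H.subtype,
    fun u => (((lam'.comp (H'.equivMapOfInjective H.subtype H.subtype_injective).symm.toMonoidHom)
      u : ℂˣ) : ℂ), isCharacter_of_hom _, ?_, ?_⟩
  · simp
  · rw [← hind, hψeq, indFun_trans_map]
    rfl

end Cfsg.Agent.S0859
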