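import Mathlib
import Cfsg.Statements.S0861
import Cfsg.Agent.Lib.helper3.ClassBound
import Cfsg.Agent.Lib.helper3.Ito
import Cfsg.Agent.Lib.helper3.Inflate
import Cfsg.Agent.Lib.Helper4.Galois
import Cfsg.Agent.Lib.Helper4.CharExtra

set_option autoImplicit false
open Cfsg

namespace Cfsg.Agent.S0861

open Cfsg.Agent.Lib.helper3.Irr Cfsg.Agent.Lib.helper3.IndFun

/-- Let P be a normal abelian Sylow p-subgroup of the finite group G and suppose some element g of P has centralizer exactly P. Then the number of irreducible characters of G is at most the order of P, and if equality holds then G / P is abelian (the commutator subgroup lies in P). -/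
theorem result {G : Type*} [Group G] [Finite G] (p : ℕ) [Fact p.Prime] (P : Sylow p G) [(P : Subgroup G).Normal] (hab : ∀ a ∈ P, ∀ b ∈ P, a * b = b * a) (g : G) (hg : g ∈ P) (hC : Subgroup.centralizer ({g} : Set G) = P) : Nat.card (Cfsg.IrrCharacter G) ≤ Nat.card P ∧ (Nat.card (Cfsg.IrrCharacter G) = Nat.card P → commutator G ≤ P) := by
  classical
  letI : Fintype G := Fintype.ofFinite G
  have hp := (Fact.out : p.Prime)
  set S : Finset G := Finset.univ.filter (fun x => Subgroup.zpowers x = Subgroup.zpowers g) with hS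
  have hSmem : ∀ x, x ∈ S ↔ Subgroup.zpowers x = Subgroup.zpowers g := by
    intro x; simp [hS]
  have hgS : g ∈ S := (hSmem g).mpr rfl
  have hSP : ∀ x ∈ S, x ∈ (P : Subgroup G) := by
    intro x hx
    have h1 : x ∈ Subgroup.zpowers g := by
      rw [← (hSmem x).mp hx]; exact Subgroup.mem_zpowers x
    exact (Subgroup.zpowers_le.mpr hg) h1
  have key : ∀ a b : G, b ∈ Subgroup.zpowers a → ∀ y : G, a * y = y * a → b * y = y * b := by
    rintro a _ ⟨k, rfl⟩ y h
    have hc : Commute a y := h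
    exact (hc.zpow_left k)
  have hScent : ∀ x ∈ S, Subgroup.centralizer ({x} : Set G) = (P : Subgroup G) := by
    intro x hx
    rw [← hC]
    have hz := (hSmem x).mp hx
    ext y
    simp only [Subgroup.mem_centralizer_iff, Set.mem_singleton_iff, forall_eq]
    constructor
    · intro h
      exact key x g (by rw [hz]; exact Subgroup.mem_zpowers g) y h
    · intro h
      exact key g x (by rw [← hz]; exact Subgroup.mem_zpowers x) y h
  have hSclosed : ∀ x ∈ S, ∀ k : ℕ, k.Coprime (Nat.card G) → x ^ k ∈ S := by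
    intro x hx k hk
    rw [hSmem, ← (hSmem x).mp hx]
    apply le_antisymm
    · exact Subgroup.zpowers_le.mpr (Subgroup.pow_mem _ (Subgroup.mem_zpowers x) k)
    · obtain ⟨m, hm⟩ := Cfsg.Agent.Lib.Helper4.Galois.exists_pow_pow_eq x k hk
      apply Subgroup.zpowers_le.mpr
      have h2 : (x ^ k) ^ m ∈ Subgroup.zpowers (x ^ k) :=
        Subgroup.pow_mem _ (Subgroup.mem_zpowers _) m
      rw [hm] at h2
      exact h2
  have hnonvanish : ∀ χ : Cfsg.IrrCharacter G, ∀ x ∈ S, (χ : G → ℂ) x ≠ 0 := by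
    intro χ x hx
    obtain ⟨n, ρ, hirr, hρ⟩ := χ.2
    haveI := hirr
    have hdvd : Module.finrank ℂ (Fin n → ℂ) ∣ (P : Subgroup G).index := ito ρ (P : Subgroup G) hab
    have hnd : ¬ p ∣ Module.finrank ℂ (Fin n → ℂ) := fun h => P.not_dvd_index (dvd_trans h hdvd)
    obtain ⟨k, hk⟩ := P.isPGroup' ⟨x, hSP x hx⟩
    have hxk : x ^ (p ^ k) = 1 := by
      have := congrArg Subtype.val hk
      simpa using this
    rw [← hρ]
    exact character_ne_zero_of_prime_pow_order ρ p hp hnd x k hxk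
  have h_each : ∀ χ : Cfsg.IrrCharacter G, (S.card : ℝ) ≤ ∑ x ∈ S, ‖(χ : G → ℂ) x‖ ^ 2 := by
    intro χ
    have h1 := Cfsg.Agent.Lib.Helper4.Galois.card_nonvanishing_le_sum
      (isCharacter_of_isIrrCharacter χ.2) S hSclosed 2
    rwa [Finset.filter_true_of_mem (fun x hx => hnonvanish χ x hx)] at h1
  have h_total : ∑ χ : Cfsg.IrrCharacter G, ∑ x ∈ S, ‖(χ : G → ℂ) x‖ ^ 2
      = (S.card : ℝ) * (Nat.card P : ℝ) := by
    rw [Finset.sum_comm]
    rw [Finset.sum_congr rfl (fun x hx => by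
      rw [Cfsg.Agent.Lib.Helper4.CharExtra.sum_norm_sq_eq_card_centralizer x, hScent x hx])]
    rw [Finset.sum_const, nsmul_eq_mul]
  have hSpos : (0 : ℝ) < S.card := by
    have : 0 < S.card := Finset.card_pos.mpr ⟨g, hgS⟩
    exact_mod_cast this
  have hcardIrr : (Nat.card (Cfsg.IrrCharacter G) : ℝ) * S.card
      ≤ (S.card : ℝ) * (Nat.card P : ℝ) := by
    rw [← h_total, Nat.card_eq_fintype_card]
    calc (Fintype.card (Cfsg.IrrCharacter G) : ℝ) * S.card
        = ∑ _χ : Cfsg.IrrCharacter G, (S.card : ℝ) := by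
          rw [Finset.sum_const, Finset.card_univ, nsmul_eq_mul]
      _ ≤ _ := Finset.sum_le_sum (fun χ _ => h_each χ)
  have hle : (Nat.card (Cfsg.IrrCharacter G) : ℝ) ≤ (Nat.card P : ℝ) := by
    rw [mul_comm] at hcardIrr
    exact le_of_mul_le_mul_left hcardIrr hSpos
  refine ⟨by exact_mod_cast hle, ?_⟩
  intro heq
  -- equality forces each term to be tight
  have hsum0 : ∑ χ : Cfsg.IrrCharacter G, ((∑ x ∈ S, ‖(χ : G → ℂ) x‖ ^ 2) - (S.card : ℝ)) = 0 := by
    rw [Finset.sum_sub_distrib, h_total, Finset.sum_const, Finset.card_univ, nsmul_eq_mul,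
      ← Nat.card_eq_fintype_card, heq]
    ring
  have htight : ∀ χ : Cfsg.IrrCharacter G, ∑ x ∈ S, ‖(χ : G → ℂ) x‖ ^ 2 = (S.card : ℝ) := by
    intro χ
    have h1 := (Finset.sum_eq_zero_iff_of_nonneg
      (fun χ _ => sub_nonneg.mpr (h_each χ))).mp hsum0 χ (Finset.mem_univ χ)
    linarith
  -- all irreducible characters of the quotient are linear
  letI : Fintype (G ⧸ (P : Subgroup G)) := Fintype.ofFinite _
  have hlin : ∀ β : Cfsg.IrrCharacter (G ⧸ (P : Subgroup G)),
      (β : G ⧸ (P : Subgroup G) → ℂ) 1 = 1 := by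
    intro β
    have hirr := isIrrCharacter_inflate (P : Subgroup G) β.2
    have h1 := htight ⟨_, hirr⟩
    have h2 : ∀ x ∈ S, ‖inflate (P : Subgroup G) (β : G ⧸ (P : Subgroup G) → ℂ) x‖ ^ 2
        = ‖(β : G ⧸ (P : Subgroup G) → ℂ) 1‖ ^ 2 := by
      intro x hx
      rw [inflate_apply_of_mem _ _ (hSP x hx), inflate_apply, QuotientGroup.mk_one]
    simp only at h1
    rw [Finset.sum_congr rfl h2, Finset.sum_const, nsmul_eq_mul] at h1
    have h3 : ‖(β : G ⧸ (P : Subgroup G) → ℂ) 1‖ ^ 2 = 1 := by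
      have := mul_left_cancel₀ hSpos.ne' (h1.trans (mul_one _).symm)
      exact this
    obtain ⟨n, hn, hβ1⟩ := exists_pos_nat_apply_one β.2
    rw [hβ1] at h3 ⊢
    have h4 : ((n : ℝ)) ^ 2 = 1 := by
      rw [← h3]
      simp
    have h5 : n ^ 2 = 1 := by exact_mod_cast h4
    have h6 : n = 1 := by nlinarith
    rw [h6]; simp
  have hcomm := comm_of_all_linear hlin
  rw [commutator_def, Subgroup.commutator_le]
  intro a _ b _
  rw [← QuotientGroup.eq_one_iff, commutatorElement_def]
  simp only [QuotientGroup.mk_mul, QuotientGroup.mk_inv]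
  rw [hcomm (a : G ⧸ (P : Subgroup G)) b]
  group

end Cfsg.Agent.S0861
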