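import Mathlib
import Cfsg.Statements.S0864
import Cfsg.Agent.Lib.helper3.TransferChar

set_option autoImplicit false
open Cfsg

namespace Cfsg.Agent.S0864

open Cfsg.Agent.Lib.helper3.Lin

/-- Let N be a normal subgroup of the finite group G and λ a character of N of degree 1 invariant under conjugation by G. Suppose that for every prime p dividing the order of λ (in the group of functions under pointwise multiplication) there is a subgroup H containing N, of index prime to p and with the index of N in H a power of p, together with a character of H of degree 1 restricting to λ. Then λ is the restriction of a character of G of degree 1. -/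
theorem result {G : Type*} [Group G] [Finite G] (N : Subgroup G) [hN : N.Normal] (lam : N → ℂ) (hlam : Cfsg.IsCharacter N lam ∧ lam 1 = 1) (hinv : ∀ (g : G) (n : N), lam ⟨g * n * g⁻¹, hN.conj_mem (n : G) n.2 g⟩ = lam n) (hsyl : ∀ p : ℕ, p.Prime → p ∣ orderOf lam → ∃ (H : Subgroup G) (hNH : N ≤ H) (ν : H → ℂ), Nat.Coprime H.index p ∧ (∃ k : ℕ, N.relIndex H = p ^ k) ∧ Cfsg.IsCharacter H ν ∧ ν 1 = 1 ∧ ∀ n : N, ν ⟨(n : G), hNH n.2⟩ = lam n) : ∃ μ : G → ℂ, Cfsg.IsCharacter G μ ∧ μ 1 = 1 ∧ ∀ n : N, μ n = lam n := by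
  classical
  set L : N →* ℂ := toHom hlam.1 hlam.2 with hL
  have hLv : ∀ x : N, L x = lam x := toHom_apply hlam.1 hlam.2
  set ϕ : N →* ℂˣ := toUnitsHom hlam.1 hlam.2 with hϕ
  have hϕv : ∀ x : N, ((ϕ x : ℂˣ) : ℂ) = lam x := toUnitsHom_apply hlam.1 hlam.2
  set res : (G →* ℂˣ) →* (N →* ℂˣ) := MonoidHom.compHom' N.subtype with hres
  set R : Subgroup (N →* ℂˣ) := res.range with hR
  have hRn : R.Normal := ⟨fun n hn g => by
    have e : g * n * g⁻¹ = n := by
      ext x
      simp only [MonoidHom.mul_apply, MonoidHom.inv_apply, Units.val_mul]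
      rw [mul_comm (g x : ℂ), mul_assoc, ← Units.val_mul, mul_inv_cancel, Units.val_one, mul_one]
    rw [e]; exact hn⟩
  -- it suffices to show `ϕ ∈ R`
  suffices hmem : ϕ ∈ R by
    obtain ⟨f, hf⟩ := hmem
    refine ⟨fun g => ((f g : ℂˣ) : ℂ), isCharacter_of_hom f, by simp, ?_⟩
    intro n
    rw [← hϕv, ← hf]
    rfl
  -- order of `ϕ` divides the order of `lam`
  have hord : orderOf ϕ ∣ orderOf lam := by
    apply orderOf_dvd_of_pow_eq_one
    ext x
    rw [MonoidHom.pow_apply, Units.val_pow_eq_pow_val, hϕv]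
    have := congrFun (pow_orderOf_eq_one lam) x
    rw [Pi.pow_apply, Pi.one_apply] at this
    rw [this]
    rfl
  -- the order of the image of `ϕ` in the quotient by `R`
  set o := orderOf (QuotientGroup.mk' R ϕ) with ho
  have ho1 : o ∣ orderOf ϕ := by
    apply orderOf_dvd_of_pow_eq_one
    rw [← map_pow, pow_orderOf_eq_one, map_one]
  by_contra hnot
  have hone : o ≠ 1 := by
    intro h1
    apply hnot
    have : QuotientGroup.mk' R ϕ = 1 := orderOf_eq_one_iff.mp h1
    exact (QuotientGroup.eq_one_iff ϕ).mp this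
  obtain ⟨p, hp, hpo⟩ := Nat.exists_prime_and_dvd hone
  obtain ⟨H, hNH, ν, hcopH, -, hν, hν1, hνres⟩ :=
    hsyl p hp (dvd_trans hpo (dvd_trans ho1 hord))
  set ψ : H →* ℂˣ := toUnitsHom hν hν1 with hψ
  have hψv : ∀ x : H, ((ψ x : ℂˣ) : ℂ) = ν x := toUnitsHom_apply hν hν1
  have htr : ∀ x : N, MonoidHom.transfer ψ (x : G) = ϕ x ^ H.index := by
    intro x
    apply transfer_eq_pow_of_invariant
    intro k g₀ hk
    apply Units.ext
    rw [hψv, Units.val_pow_eq_pow_val, hϕv]
    have hmemN : g₀⁻¹ * (x : G) ^ k * g₀ ∈ N := by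
      have := hN.conj_mem ((x : G) ^ k) (N.pow_mem x.2 k) g₀⁻¹
      rwa [inv_inv] at this
    have h0 := hνres ⟨g₀⁻¹ * (x : G) ^ k * g₀, hmemN⟩
    simp only at h0
    rw [h0]
    have h1 := hinv g₀⁻¹ (x ^ k)
    have h2 : lam (x ^ k) = lam x ^ k := by
      rw [← hLv, map_pow, hLv]
    rw [← h2, ← h1]
    congr 1
    apply Subtype.ext
    simp
  have hpowmem : ϕ ^ H.index ∈ R := by
    refine ⟨MonoidHom.transfer ψ, ?_⟩
    ext x
    rw [MonoidHom.pow_apply, ← htr x]
    rfl
  have ho2 : o ∣ H.index := by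
    apply orderOf_dvd_of_pow_eq_one
    rw [← map_pow]
    exact (QuotientGroup.eq_one_iff _).mpr hpowmem
  have hpH : p ∣ H.index := dvd_trans hpo ho2
  have := Nat.dvd_gcd hpH (dvd_refl p)
  rw [hcopH.gcd_eq_one] at this
  exact hp.one_lt.ne' (Nat.dvd_one.mp this)

end Cfsg.Agent.S0864
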