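import Mathlib
import Cfsg.Statements.S0869

set_option autoImplicit false
open Cfsg

namespace Cfsg.Agent.S0869

/-- Let S be a nonempty finite type and R an additive subgroup of the integer-valued functions on S that is closed under pointwise multiplication. If the constant function 1 is not in R, then there exist a point x of S and a prime p such that p divides f x for every f in R. -/
theorem result {S : Type*} [Finite S] [Nonempty S] (R : AddSubgroup (S → ℤ)) (hmul : ∀ f ∈ R, ∀ g ∈ R, f * g ∈ R) (h1 : (1 : S → ℤ) ∉ R) : ∃ (x : S) (p : ℕ), p.Prime ∧ ∀ f ∈ R, (p : ℤ) ∣ f x := by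
  classical
  by_contra hcon
  push_neg at hcon
  -- for each x, there is f ∈ R with f x = 1
  have key : ∀ x : S, ∃ f ∈ R, f x = 1 := by
    intro x
    let I : AddSubgroup ℤ := R.map (Pi.evalAddMonoidHom (fun _ : S => ℤ) x)
    obtain ⟨a, ha⟩ := Int.subgroup_cyclic I
    have hdiv : ∀ f ∈ R, a ∣ f x := by
      intro f hf
      have : f x ∈ I := ⟨f, hf, rfl⟩
      rw [ha] at this
      obtain ⟨k, hk⟩ := AddSubgroup.mem_closure_singleton.mp this
      exact ⟨k, by rw [← hk]; simp [mul_comm]⟩
    by_cases hna : a.natAbs = 1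
    · -- a is a unit, a ∈ I
      have haI : a ∈ I := by rw [ha]; exact AddSubgroup.subset_closure (Set.mem_singleton a)
      obtain ⟨f, hf, hfx⟩ := haI
      refine ⟨f * f, hmul f hf f hf, ?_⟩
      have hfx' : f x = a := hfx
      show f x * f x = 1
      rw [hfx']
      rcases Int.natAbs_eq a with h | h
      · rw [h, hna]; norm_num
      · rw [h, hna]; norm_num
    · exfalso
      obtain ⟨p, hp, hpa⟩ := Nat.exists_prime_and_dvd hna
      obtain ⟨f, hf, hfx⟩ := hcon x p hp
      apply hfx
      have : (p : ℤ) ∣ a := by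
        rw [← Int.natAbs_dvd_natAbs]
        simpa using hpa
      exact this.trans (hdiv f hf)
  choose f hfR hf1 using key
  -- the product of (1 - f x) over x is zero and lies in 1 - R
  have hprod : ∀ s : Finset S, ∃ r ∈ R, ∏ x ∈ s, (1 - f x) = 1 - r := by
    intro s
    induction s using Finset.induction_on with
    | empty => exact ⟨0, R.zero_mem, by simp⟩
    | insert a s has ih =>
      obtain ⟨r, hr, hrs⟩ := ih
      refine ⟨f a + r - f a * r, R.sub_mem (R.add_mem (hfR a) hr) (hmul _ (hfR a) _ hr), ?_⟩
      rw [Finset.prod_insert has, hrs]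
      ring
  haveI := Fintype.ofFinite S
  obtain ⟨r, hr, hrs⟩ := hprod Finset.univ
  have hzero : ∏ x : S, (1 - f x) = 0 := by
    funext y
    rw [Finset.prod_apply]
    apply Finset.prod_eq_zero (Finset.mem_univ y)
    simp [hf1 y]
  rw [hzero] at hrs
  apply h1
  have : r = 1 := by
    have := sub_eq_zero.mp hrs.symm
    exact this.symm
  rw [← this]
  exact hr

end Cfsg.Agent.S0869
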