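import Mathlib
import Cfsg.Statements.S0870
import Cfsg.Agent.Lib.helper3.PermChar2

set_option autoImplicit false
open Cfsg

namespace Cfsg.Agent.S0870

/-- For subgroups H and K of a finite group G, the pointwise product of the functions induced from the constant function 1 on H and on K is a sum, over subgroups U of H with natural-number coefficients, of the functions induced from the constant function 1 on U. -/
theorem result {G : Type*} [Group G] [Fintype G] (H K : Subgroup G) : ∃ a : Subgroup G → ℕ, (∀ U, a U ≠ 0 → U ≤ H) ∧ Cfsg.indFun H (fun _ => 1) * Cfsg.indFun K (fun _ => 1) = ∑ U : Subgroup G, (a U : ℂ) • Cfsg.indFun U (fun _ => 1) := by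
  classical
  obtain ⟨ι, hι, U, hU, hprod⟩ := Cfsg.Agent.Lib.helper3.PermChar.indFun_one_mul_indFun_one H K
  refine ⟨fun V => (Finset.univ.filter (fun i : ι => U i = V)).card, ?_, ?_⟩
  · intro V hV
    obtain ⟨i, hi⟩ := Finset.card_pos.1 (Nat.pos_of_ne_zero hV)
    rw [Finset.mem_filter] at hi
    rw [← hi.2]
    exact hU i
  · rw [hprod]
    rw [← Finset.sum_fiberwise (s := Finset.univ) (g := U)
      (f := fun i => Cfsg.indFun (U i) (fun _ => (1 : ℂ)))]
    apply Finset.sum_congr rfl
    intro V _
    have h1 : ∀ i ∈ Finset.univ.filter (fun i : ι => U i = V),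
        Cfsg.indFun (U i) (fun _ => (1 : ℂ)) = Cfsg.indFun V (fun _ => (1 : ℂ)) := by
      intro i hi
      rw [Finset.mem_filter] at hi
      rw [hi.2]
    rw [Finset.sum_congr rfl h1, Finset.sum_const, Nat.cast_smul_eq_nsmul]

end Cfsg.Agent.S0870
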