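import Mathlib
import Cfsg.Statements.S0876
import Cfsg.Agent.Lib.helper3.LocalM2
import Cfsg.Agent.Lib.helper3.PiSection

set_option autoImplicit false
open Cfsg

set_option linter.style.haveILetI false

namespace Cfsg.Agent.S0876

open Cfsg.Agent.Lib.helper3.LocalM Cfsg.Agent.Lib.helper3.PiSection Cfsg.Agent.Lib.helper3.NilpPow Cfsg.Agent.Lib.helper3.Irr Cfsg.Agent.Lib.helper3.CharBasic

/-- Let G be a finite group, p a prime and M a maximal ideal of the ring of algebraic integers containing p. Let x, y be elements with p-parts a and b (so a⁻¹ * x and b⁻¹ * y are their p-regular parts). Then a⁻¹ * x and b⁻¹ * y are conjugate in G if and only if, for every irreducible character χ, the difference χ x - χ y lies in the local ideal at M. -/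
theorem result {G : Type*} [Group G] [Finite G] (p : ℕ) (M : Ideal Cfsg.AlgInt) (hM : Cfsg.IsPModular p M) (x y a b : G) (ha : Cfsg.IsPPart p x a) (hb : Cfsg.IsPPart p y b) : IsConj (a⁻¹ * x) (b⁻¹ * y) ↔ ∀ χ : Cfsg.IrrCharacter G, Cfsg.MemLocalIdeal M ((χ : G → ℂ) x - (χ : G → ℂ) y) := by
  classical
  letI : Fintype G := Fintype.ofFinite G
  have hp : p.Prime := hM.1
  haveI hMp : M.IsPrime := hM.2.1.isPrime
  have hMtop : M ≠ ⊤ := hM.2.1.ne_top
  obtain ⟨x', hx1, hx2, ⟨kx, hkx⟩, hx3⟩ := ha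
  obtain ⟨y', hy1, hy2, ⟨ky, hky⟩, hy3⟩ := hb
  have hax : a⁻¹ * x = x' := by rw [← hx1]; group
  have hby : b⁻¹ * y = y' := by rw [← hy1]; group
  rw [hax, hby]
  have hne : Nat.card G ≠ 0 := Nat.card_pos.ne'
  obtain ⟨e, he⟩ : ∃ e : ℕ, e = (Nat.card G).factorization p := ⟨_, rfl⟩
  obtain ⟨m, hm⟩ : ∃ m : ℕ, m = p ^ e := ⟨_, rfl⟩
  obtain ⟨n, hn⟩ : ∃ n : ℕ, n = Nat.card G / p ^ e := ⟨_, rfl⟩
  have hmn : Nat.card G = m * n := by
    rw [hm, hn, he]
    exact (Nat.ordProj_mul_ordCompl_eq_self (Nat.card G) p).symm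
  have hpn : ¬ p ∣ n := by
    rw [hn, he]
    exact Nat.not_dvd_ordCompl hp hne
  have hcoppn : Nat.Coprime p n := (Nat.Prime.coprime_iff_not_dvd hp).mpr hpn
  have hcop : Nat.Coprime m n := by
    rw [hm]
    exact hcoppn.pow_left e
  have hcopa : ∀ (z : G) (k : ℕ), orderOf z = p ^ k → Nat.Coprime (orderOf z) n := by
    intro z k hk
    rw [hk]
    exact hcoppn.pow_left k
  have hcopr : ∀ z : G, ¬ p ∣ orderOf z → Nat.Coprime (orderOf z) m := by
    intro z hz
    rw [hm]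
    exact (((Nat.Prime.coprime_iff_not_dvd hp).mpr hz).symm).pow_right e
  constructor
  · intro hconj χ
    have hχc := isCharacter_of_isIrrCharacter χ.2
    obtain ⟨w1, hw1, e1⟩ := exists_mem_sub_eq hχc hM a x' kx
      (by rw [← hkx]; exact pow_orderOf_eq_one a) hx2.eq
    obtain ⟨w2, hw2, e2⟩ := exists_mem_sub_eq hχc hM b y' ky
      (by rw [← hky]; exact pow_orderOf_eq_one b) hy2.eq
    have hxy : (χ : G → ℂ) x' = (χ : G → ℂ) y' := by
      obtain ⟨c, hc⟩ := isConj_iff.mp hconj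
      rw [← hc]
      exact (isClassFunction_of_isCharacter hχc x' c).symm
    have : (χ : G → ℂ) x - (χ : G → ℂ) y = (w1 : ℂ) - (w2 : ℂ) := by
      rw [e1, e2, hx1, hy1, hxy]
      ring
    rw [this]
    exact memLocalIdeal_sub (memLocalIdeal_of_mem hw1 hMtop) (memLocalIdeal_of_mem hw2 hMtop)
  · intro h
    by_contra hnc
    obtain ⟨ϑ, hϑdef⟩ : ∃ ϑ : G → ℂ, ϑ = fun z => if (∃ v : G, IsConj v x' ∧ (∃ u : G, z = u * v ∧
        Commute u v ∧ Nat.Coprime (orderOf u) n ∧ Nat.Coprime (orderOf v) m)) then (n : ℂ) else 0 :=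
      ⟨_, rfl⟩
    obtain ⟨c, hc, hϑ⟩ := section_indicator m n hmn hcop x' ϑ
      (fun z hz => by rw [hϑdef]; exact if_pos hz) (fun z hz => by rw [hϑdef]; exact if_neg hz)
    have h1 : ϑ x = n := by
      rw [hϑdef]
      exact if_pos ⟨x', IsConj.refl _, a, hx1.symm, hx2, hcopa a kx hkx, hcopr x' hx3⟩
    have h2 : ϑ y = 0 := by
      rw [hϑdef]
      apply if_neg
      intro hex
      obtain ⟨b', hbm, hbn⟩ := exists_exponent m n hcop
      have c1 := (section_iff m n b' hmn hcop hbm hbn x' y).mp hex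
      have c2 := (section_iff m n b' hmn hcop hbm hbn y' y).mp
        ⟨y', IsConj.refl _, b, hy1.symm, hy2, hcopa b ky hky, hcopr y' hy3⟩
      exact hnc (c1.symm.trans c2)
    have h3 : (n : ℂ) = ∑ χ : Cfsg.IrrCharacter G, c χ * ((χ : G → ℂ) x - (χ : G → ℂ) y) := by
      have e1 := congrFun hϑ x
      have e2 := congrFun hϑ y
      rw [h1] at e1
      rw [h2] at e2
      simp only [Finset.sum_apply, Pi.smul_apply, smul_eq_mul] at e1 e2
      simp only [mul_sub, Finset.sum_sub_distrib]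
      rw [← e1, ← e2, sub_zero]
    have h4 : Cfsg.MemLocalIdeal M (n : ℂ) := by
      rw [h3]
      exact memLocalIdeal_sum _ _ (fun χ _ => memLocalIdeal_mul_integral (h χ) (hc χ))
    have h5 : (n : Cfsg.AlgInt) ∈ M := by
      apply mem_of_memLocalIdeal
      simpa using h4
    exact hpn ((natCast_mem_iff hM n).mp h5)

end Cfsg.Agent.S0876
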