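import Cfsg.Statements.S0879
import Cfsg.Agent.Lib.Helper5.Zassenhaus
import Mathlib

set_option autoImplicit false
open Cfsg

namespace Cfsg.Agent.S0879

/-- Let G be a Zassenhaus group on the finite set Ω and E the stabilizer of two distinct points a, b. Then an element outside the normalizer of E conjugates no non-identity element of E into E, and E has index 2 in its normalizer. -/
theorem result {G Ω : Type*} [Group G] [Finite G] [MulAction G Ω] [Fintype Ω] (hZ : Cfsg.IsZassenhausGroup G Ω) {a b : Ω} (hab : a ≠ b) : (∀ g : G, g ∉ Subgroup.normalizer ((MulAction.stabilizer G a ⊓ MulAction.stabilizer G b : Subgroup G) : Set G) → ∀ x ∈ (MulAction.stabilizer G a ⊓ MulAction.stabilizer G b : Subgroup G), g * x * g⁻¹ ∈ (MulAction.stabilizer G a ⊓ MulAction.stabilizer G b : Subgroup G) → x = 1) ∧ ((MulAction.stabilizer G a ⊓ MulAction.stabilizer G b : Subgroup G).subgroupOf (Subgroup.normalizer ((MulAction.stabilizer G a ⊓ MulAction.stabilizer G b : Subgroup G) : Set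 G))).index = 2 := by
  have h := Cfsg.Agent.Lib.Helper5.Zass.hyp_of_zassenhaus hZ
  set H : Subgroup G := MulAction.stabilizer G a ⊓ MulAction.stabilizer G b with hH
  have hHmem : ∀ x : G, x ∈ H ↔ x • a = a ∧ x • b = b := fun x => by
    rw [hH, Subgroup.mem_inf, MulAction.mem_stabilizer_iff, MulAction.mem_stabilizer_iff]
  -- the setwise stabiliser
  have key : ∀ g x : G, x ∈ H → x ≠ 1 → g * x * g⁻¹ ∈ H →
      (g • a = a ∧ g • b = b) ∨ (g • a = b ∧ g • b = a) := by
    intro g x hx hx1 hgx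
    have hx' := (hHmem x).1 hx
    have hgx' := (hHmem _).1 hgx
    have h1 : g * x * g⁻¹ ≠ 1 := by
      intro h'
      apply hx1
      have : x = g⁻¹ * (g * x * g⁻¹) * g := by group
      rw [this, h']
      group
    have fixga : (g * x * g⁻¹) • (g • a) = g • a := by
      rw [mul_smul, mul_smul, inv_smul_smul, hx'.1]
    have fixgb : (g * x * g⁻¹) • (g • b) = g • b := by
      rw [mul_smul, mul_smul, inv_smul_smul, hx'.2]
    have hgab : g • a ≠ g • b := fun h' => hab (MulAction.injective g h')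
    have ha : g • a = a ∨ g • a = b := by
      by_contra hcon
      push Not at hcon
      exact h1 (h.h3 _ a b (g • a) hab (Ne.symm hcon.2) (Ne.symm hcon.1) hgx'.1 hgx'.2 fixga)
    have hb : g • b = a ∨ g • b = b := by
      by_contra hcon
      push Not at hcon
      exact h1 (h.h3 _ a b (g • b) hab (Ne.symm hcon.2) (Ne.symm hcon.1) hgx'.1 hgx'.2 fixgb)
    rcases ha with ha | ha <;> rcases hb with hb | hb
    · exact absurd (ha.trans hb.symm) hgab
    · exact Or.inl ⟨ha, hb⟩
    · exact Or.inr ⟨ha, hb⟩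
    · exact absurd (ha.trans hb.symm) hgab
  have hconjmem : ∀ g x : G, ((g • a = a ∧ g • b = b) ∨ (g • a = b ∧ g • b = a)) → x ∈ H →
      g * x * g⁻¹ ∈ H := by
    intro g x hg hx
    have hx' := (hHmem x).1 hx
    rw [hHmem, mul_smul, mul_smul, mul_smul, mul_smul]
    rcases hg with ⟨ha, hb⟩ | ⟨ha, hb⟩
    · have ha' : g⁻¹ • a = a := by rw [inv_smul_eq_iff, ha]
      have hb' : g⁻¹ • b = b := by rw [inv_smul_eq_iff, hb]
      rw [ha', hb', hx'.1, hx'.2, ha, hb]
      exact ⟨rfl, rfl⟩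
    · have ha' : g⁻¹ • a = b := by rw [inv_smul_eq_iff, hb]
      have hb' : g⁻¹ • b = a := by rw [inv_smul_eq_iff, ha]
      rw [ha', hb', hx'.1, hx'.2, ha, hb]
      exact ⟨rfl, rfl⟩
  have hNmem : ∀ g : G, g ∈ Subgroup.normalizer (H : Set G) ↔
      ((g • a = a ∧ g • b = b) ∨ (g • a = b ∧ g • b = a)) := by
    intro g
    rw [Subgroup.mem_normalizer_iff]
    constructor
    · intro hg
      obtain ⟨x, hx1, hxa, hxb⟩ := Cfsg.Agent.Lib.Helper5.Zass.exists_fix2 h a b hab
      have hx : x ∈ H := (hHmem x).2 ⟨hxa, hxb⟩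
      exact key g x hx hx1 ((hg x).1 hx)
    · intro hg x
      constructor
      · exact hconjmem g x hg
      · intro hx
        have hg' : (g⁻¹ • a = a ∧ g⁻¹ • b = b) ∨ (g⁻¹ • a = b ∧ g⁻¹ • b = a) := by
          rcases hg with ⟨ha, hb⟩ | ⟨ha, hb⟩
          · left
            exact ⟨by rw [inv_smul_eq_iff, ha], by rw [inv_smul_eq_iff, hb]⟩
          · right
            exact ⟨by rw [inv_smul_eq_iff, hb], by rw [inv_smul_eq_iff, ha]⟩
        have := hconjmem g⁻¹ _ hg' hx
        have e : g⁻¹ * (g * x * g⁻¹) * g⁻¹⁻¹ = x := by group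
        rw [e] at this
        exact this
  constructor
  · intro g hg x hx hgx
    by_contra hx1
    exact hg ((hNmem g).2 (key g x hx hx1 hgx))
  · rw [Subgroup.index_eq_two_iff]
    obtain ⟨t, hta, htb⟩ := h.h2 hab hab.symm
    refine ⟨⟨t, (hNmem t).2 (Or.inr ⟨hta, htb⟩)⟩, ?_⟩
    rintro ⟨n, hn⟩
    rw [Subgroup.mem_subgroupOf, Subgroup.mem_subgroupOf]
    change Xor (n * t ∈ H) (n ∈ H)
    rw [hHmem, hHmem, mul_smul, mul_smul, hta, htb]
    rcases (hNmem n).1 hn with ⟨ha, hb⟩ | ⟨ha, hb⟩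
    · right
      refine ⟨⟨ha, hb⟩, ?_⟩
      rintro ⟨h1, -⟩
      exact hab (h1.symm.trans hb)
    · left
      refine ⟨⟨hb, ha⟩, ?_⟩
      rintro ⟨h1, -⟩
      exact hab (h1.symm.trans ha)

end Cfsg.Agent.S0879
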