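import Cfsg.Statements.S0880

set_option autoImplicit false
open Cfsg

namespace Cfsg.Agent.S0880

set_option autoImplicit false
open Cfsg

/-- Let G be a finite simple Zassenhaus group on Ω with n points whose two-point stabilizer E has odd order less than n - 2. Then there are two elements of G, each fixing no point of Ω, that are not conjugate. -/
theorem result {G Ω : Type*} [Group G] [Finite G] [MulAction G Ω] [Fintype Ω] (hZ : Cfsg.IsZassenhausGroup G Ω) {a b : Ω} (hab : a ≠ b) [IsSimpleGroup G] (hodd : Odd (Nat.card ↥(MulAction.stabilizer G a ⊓ MulAction.stabilizer G b : Subgroup G))) (hlt : Nat.card ↥(MulAction.stabilizer G a ⊓ MulAction.stabilizer G b : Subgroup G) < Fintype.card Ω - 2) : ∃ x y : G, (∀ c : Ω, x • c ≠ c) ∧ (∀ c : Ω, y • c ≠ c) ∧ ¬ IsConj x y := by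
  classical
  obtain ⟨hfaith, h2t, h3, ⟨g0, hg0, a0, b0, hab0, hga0, hgb0⟩, -⟩ := hZ
  haveI : Fintype G := Fintype.ofFinite G
  rw [MulAction.is_two_pretransitive_iff] at h2t
  set n := Fintype.card Ω with hn
  set e := Nat.card ↥(MulAction.stabilizer G a ⊓ MulAction.stabilizer G b : Subgroup G) with he
  -- two point stabilizers all have order e
  have hst2 : ∀ c d : Ω, c ≠ d →
      Nat.card ↥(MulAction.stabilizer G c ⊓ MulAction.stabilizer G d : Subgroup G) = e := by
    intro c d hcd
    obtain ⟨g, hgc, hgd⟩ := h2t hab hcd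
    have : MulAction.stabilizer G c ⊓ MulAction.stabilizer G d =
        (MulAction.stabilizer G a ⊓ MulAction.stabilizer G b).map (MulAut.conj g).toMonoidHom := by
      rw [← hgc, ← hgd, MulAction.stabilizer_smul_eq_stabilizer_map_conj,
        MulAction.stabilizer_smul_eq_stabilizer_map_conj]
      rw [Subgroup.map_inf _ _ _ (MulAut.conj g).injective]
    rw [this]
    exact Nat.card_congr
      ((Subgroup.equivMapOfInjective _ _ (MulAut.conj g).injective).symm.toEquiv)
  -- e ≥ 3
  have he3 : 3 ≤ e := by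
    have h1 : 1 < Nat.card ↥(MulAction.stabilizer G a0 ⊓ MulAction.stabilizer G b0 : Subgroup G) := by
      rw [Finite.one_lt_card_iff_nontrivial]
      refine ⟨⟨1, ⟨g0, ?_⟩, ?_⟩⟩
      · exact Subgroup.mem_inf.mpr ⟨hga0, hgb0⟩
      · intro h
        apply hg0
        exact (congrArg Subtype.val h).symm
    rw [hst2 a0 b0 hab0] at h1
    obtain ⟨k, hk⟩ := hodd
    omega
  have hcnt : ∀ (p : G → Prop) [DecidablePred p],
      Nat.card {g // p g} = (Finset.univ.filter p).card := by
    intro p _
    rw [Nat.card_eq_fintype_card, Fintype.card_subtype]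
  let fx : G → ℕ := fun g => (Finset.univ.filter (fun c : Ω => g • c = c)).card
  have hfx1 : fx 1 = n := by simp [fx, hn]
  have hfx_le : ∀ g : G, g ≠ 1 → fx g ≤ 2 := by
    intro g hg
    by_contra hlt'
    push Not at hlt'
    obtain ⟨x, hx, y, hy, z, hz, hxy, hxz, hyz⟩ := Finset.two_lt_card.mp hlt'
    simp only [Finset.mem_filter, Finset.mem_univ, true_and] at hx hy hz
    exact hg (h3 g x y z hxy hyz hxz hx hy hz)
  -- |G| = n (n-1) e
  have hcardG : Nat.card G = n * (n - 1) * e := by
    have h1 := Nat.card_congr (MulAction.orbitProdStabilizerEquivGroup G ((a, b) : Ω × Ω))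
    rw [Nat.card_prod] at h1
    have h2 : MulAction.stabilizer G ((a, b) : Ω × Ω) =
        MulAction.stabilizer G a ⊓ MulAction.stabilizer G b := by
      ext g
      simp [MulAction.mem_stabilizer_iff, Subgroup.mem_inf, Prod.ext_iff]
    have h3' : Nat.card (MulAction.orbit G ((a, b) : Ω × Ω)) = n * (n - 1) := by
      have : MulAction.orbit G ((a, b) : Ω × Ω) = {p : Ω × Ω | p.1 ≠ p.2} := by
        ext ⟨c, d⟩
        constructor
        · rintro ⟨g, hg⟩
          simp only [Prod.smul_mk, Prod.mk.injEq] at hg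
          obtain ⟨rfl, rfl⟩ := hg
          simp only [Set.mem_ofPred_eq, ne_eq]
          intro h
          exact hab (MulAction.injective g h)
        · intro hcd
          obtain ⟨g, hgc, hgd⟩ := h2t hab hcd
          exact ⟨g, by simp [hgc, hgd]⟩
      rw [this]
      have h4 : Nat.card {p : Ω × Ω | p.1 ≠ p.2} = (Finset.univ (α := Ω)).offDiag.card := by
        rw [Nat.card_eq_fintype_card]
        rw [← Fintype.card_coe]
        apply Fintype.card_congr
        refine Equiv.subtypeEquivRight (fun p => ?_)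
        simp [Finset.mem_offDiag]
      rw [h4, Finset.offDiag_card, Finset.card_univ, ← hn, Nat.mul_sub, mul_one]
    rw [← h1, h2, h3']
  have hn3 : 5 < n := by omega
  -- point stabilizers
  haveI : MulAction.IsPretransitive G Ω := by
    constructor
    intro c d
    by_cases hcd : c = d
    · exact ⟨1, by rw [one_smul, hcd]⟩
    · obtain ⟨x, hx⟩ : ∃ x : Ω, x ≠ c ∧ x ≠ d := by
        by_contra hno
        push Not at hno
        have : (Finset.univ : Finset Ω) ⊆ {c, d} := by
          intro x _
          by_cases hxc : x = c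
          · simp [hxc]
          · simp [hno x hxc]
        have h1 := Finset.card_le_card this
        have h2 : ({c, d} : Finset Ω).card ≤ 2 := Finset.card_le_two
        rw [Finset.card_univ] at h1
        omega
      obtain ⟨g, hg, _⟩ := h2t (a := c) (b := x) (c := d) (d := c) (Ne.symm hx.1) (Ne.symm hcd)
      exact ⟨g, hg⟩
  have hst1 : ∀ c : Ω, Nat.card (MulAction.stabilizer G c) = (n - 1) * e := by
    intro c
    have h1 := MulAction.index_stabilizer_of_transitive G c
    have h2 := Subgroup.card_mul_index (MulAction.stabilizer G c)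
    rw [h1, hcardG, Nat.card_eq_fintype_card (α := Ω), ← hn] at h2
    have hn0 : 0 < n := by omega
    have : n * (Nat.card (MulAction.stabilizer G c)) = n * ((n - 1) * e) := by
      rw [mul_comm, h2, mul_assoc]
    exact Nat.eq_of_mul_eq_mul_left hn0 this
  -- first moment
  have hsum1 : ∑ g : G, fx g = n * ((n - 1) * e) := by
    have h1 : ∑ g : G, fx g = ∑ c : Ω, Nat.card (MulAction.stabilizer G c) := by
      simp only [fx, Finset.card_filter]
      rw [Finset.sum_comm]
      refine Finset.sum_congr rfl (fun c _ => ?_)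
      rw [← Finset.card_filter, ← hcnt]
      exact Nat.card_congr (Equiv.subtypeEquivRight (fun g => MulAction.mem_stabilizer_iff.symm))
    rw [h1, Finset.sum_congr rfl (fun c _ => hst1 c), Finset.sum_const, Finset.card_univ,
      smul_eq_mul]
  -- second moment
  have hsum2 : ∑ g : G, fx g * fx g = 2 * (n * ((n - 1) * e)) := by
    have h1 : ∑ g : G, fx g * fx g = ∑ c : Ω, ∑ d : Ω,
        Nat.card ↥(MulAction.stabilizer G c ⊓ MulAction.stabilizer G d : Subgroup G) := by
      have h0 : ∀ g : G, fx g * fx g =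
          ∑ c : Ω, ∑ d : Ω, if (g • c = c ∧ g • d = d) then 1 else 0 := by
        intro g
        simp only [fx, Finset.card_filter, Finset.sum_mul_sum]
        refine Finset.sum_congr rfl (fun c _ => Finset.sum_congr rfl (fun d _ => ?_))
        by_cases h1 : g • c = c <;> by_cases h2 : g • d = d <;> simp [h1, h2]
      rw [Finset.sum_congr rfl (fun g _ => h0 g), Finset.sum_comm]
      refine Finset.sum_congr rfl (fun c _ => ?_)
      rw [Finset.sum_comm]
      refine Finset.sum_congr rfl (fun d _ => ?_)
      rw [← Finset.card_filter, ← hcnt]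
      refine Nat.card_congr (Equiv.subtypeEquivRight (fun g => ?_))
      rw [Subgroup.mem_inf, MulAction.mem_stabilizer_iff, MulAction.mem_stabilizer_iff]
    rw [h1]
    have h2 : ∀ c : Ω, ∑ d : Ω,
        Nat.card ↥(MulAction.stabilizer G c ⊓ MulAction.stabilizer G d : Subgroup G) =
        2 * ((n - 1) * e) := by
      intro c
      rw [← Finset.add_sum_erase _ _ (Finset.mem_univ c), inf_idem, hst1 c]
      have : ∑ d ∈ Finset.univ.erase c,
          Nat.card ↥(MulAction.stabilizer G c ⊓ MulAction.stabilizer G d : Subgroup G) =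
          ∑ d ∈ Finset.univ.erase c, e := by
        refine Finset.sum_congr rfl (fun d hd => ?_)
        exact hst2 c d (Ne.symm (Finset.ne_of_mem_erase hd))
      rw [this, Finset.sum_const, Finset.card_erase_of_mem (Finset.mem_univ c), Finset.card_univ,
        smul_eq_mul, ← hn]
      ring
    rw [Finset.sum_congr rfl (fun c _ => h2 c), Finset.sum_const, Finset.card_univ, smul_eq_mul]
    ring
  -- counting derangements
  have hfx0 : ∀ g : G, fx g = 0 ↔ ∀ c : Ω, g • c ≠ c := by
    intro g
    simp only [fx, Finset.card_eq_zero, Finset.filter_eq_empty_iff, Finset.mem_univ, true_imp_iff]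
  let D : ℕ := (Finset.univ.filter (fun g : G => fx g = 0)).card
  have hD : (2 : ℤ) * D = (n : ℤ) * ((n - 1) * e) - ((n : ℤ) - 1) * ((n : ℤ) - 2) := by
    have hpt : ∀ g : G, ((fx g : ℤ) - 1) * ((fx g : ℤ) - 2) =
        (if g = 1 then ((n : ℤ) - 1) * ((n : ℤ) - 2) else 0) + 2 * (if fx g = 0 then 1 else 0) := by
      intro g
      by_cases hg : g = 1
      · subst hg
        rw [hfx1]
        have : n ≠ 0 := by omega
        simp [this]
      · have := hfx_le g hg
        rw [if_neg hg]
        interval_cases h : fx g <;> simp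
    have hs := Finset.sum_congr (s₁ := (Finset.univ : Finset G)) rfl (fun g _ => hpt g)
    rw [Finset.sum_add_distrib, ← Finset.mul_sum, Finset.sum_ite_eq' Finset.univ (1 : G),
      if_pos (Finset.mem_univ _)] at hs
    have hs' : ∑ g : G, ((fx g : ℤ) - 1) * ((fx g : ℤ) - 2) =
        (∑ g : G, ((fx g * fx g : ℕ) : ℤ)) - 3 * (∑ g : G, ((fx g : ℕ) : ℤ))
          + 2 * (Nat.card G : ℤ) := by
      have hcard : (Nat.card G : ℤ) = ∑ g : G, (1 : ℤ) := by simp [Nat.card_eq_fintype_card]
      rw [hcard, Finset.mul_sum, Finset.mul_sum, ← Finset.sum_sub_distrib,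
        ← Finset.sum_add_distrib]
      refine Finset.sum_congr rfl (fun g _ => ?_)
      push_cast
      ring
    rw [hs', ← Nat.cast_sum, ← Nat.cast_sum, hsum1, hsum2, hcardG] at hs
    have hDsum : ((D : ℕ) : ℤ) = ∑ g : G, (if fx g = 0 then (1 : ℤ) else 0) := by
      simp only [D, Finset.card_filter]
      push_cast
      rfl
    rw [hDsum]
    have hn1 : ((n - 1 : ℕ) : ℤ) = (n : ℤ) - 1 := by
      have : 1 ≤ n := by omega
      push_cast [this]
      ring
    push_cast at hs
    rw [hn1] at hs
    linarith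
  -- the arithmetic
  have hn1 : ((n - 1 : ℕ) : ℤ) = (n : ℤ) - 1 := by
    have : 1 ≤ n := by omega
    push_cast [this]
    ring
  have hD' : (2 : ℤ) * D = ((n : ℤ) - 1) * ((n : ℤ) * e - n + 2) := by
    rw [hD]; ring
  have hnZ : (5 : ℤ) < n := by exact_mod_cast hn3
  have heZ : (3 : ℤ) ≤ e := by exact_mod_cast he3
  have hmpos : (2 : ℤ) * n + 2 ≤ (n : ℤ) * e - n + 2 := by nlinarith
  have hDpos : 0 < D := by
    have : (0 : ℤ) < 2 * D := by
      rw [hD']
      apply mul_pos <;> linarith
    omega
  by_contra hcon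
  push Not at hcon
  obtain ⟨x0, hx0⟩ := Finset.card_pos.mp hDpos
  simp only [Finset.mem_filter, Finset.mem_univ, true_and] at hx0
  have hder_conj : ∀ x y : G, IsConj x y → fx x = 0 → fx y = 0 := by
    intro x y hxy hx
    rw [hfx0] at hx ⊢
    obtain ⟨c, hc⟩ := isConj_iff.mp hxy
    intro d hd
    apply hx (c⁻¹ • d)
    rw [← hc] at hd
    rw [mul_smul, mul_smul] at hd
    have := congrArg (fun z => c⁻¹ • z) hd
    simpa using this
  have hDorb : D = Nat.card (MulAction.orbit (ConjAct G) x0) := by
    rw [show D = (Finset.univ.filter (fun g : G => fx g = 0)).card from rfl, ← hcnt]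
    refine Nat.card_congr (Equiv.subtypeEquivRight (fun g => ?_))
    rw [ConjAct.mem_orbit_conjAct]
    constructor
    · intro hg
      exact hcon g x0 ((hfx0 g).mp hg) ((hfx0 x0).mp hx0)
    · intro hg
      exact hder_conj x0 g hg.symm hx0
  have hdvd : D ∣ Nat.card G := by
    have h1 := Nat.card_congr (MulAction.orbitProdStabilizerEquivGroup (ConjAct G) x0)
    rw [Nat.card_prod] at h1
    have h2 : Nat.card (ConjAct G) = Nat.card G := Nat.card_congr ConjAct.ofConjAct.toEquiv
    rw [h2] at h1
    rw [hDorb]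
    exact Dvd.intro _ h1
  rw [hcardG] at hdvd
  have hdvdZ : ((2 : ℤ) * D) ∣ 2 * ((n : ℤ) * ((n : ℤ) - 1) * e) := by
    apply mul_dvd_mul_left
    have : ((D : ℕ) : ℤ) ∣ ((n * (n - 1) * e : ℕ) : ℤ) := Int.natCast_dvd_natCast.mpr hdvd
    push_cast at this
    rw [hn1] at this
    exact this
  rw [hD'] at hdvdZ
  have h1 : 2 * ((n : ℤ) * ((n : ℤ) - 1) * e) = ((n : ℤ) - 1) * (2 * n * e) := by ring
  rw [h1] at hdvdZ
  have hn1pos : ((n : ℤ) - 1) ≠ 0 := by linarith
  have h2 := (mul_dvd_mul_iff_left hn1pos).mp hdvdZ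
  have h3' : ((n : ℤ) * e - n + 2) ∣ 2 * n - 4 := by
    have : (2 : ℤ) * n - 4 = 2 * n * e - 2 * ((n : ℤ) * e - n + 2) := by ring
    rw [this]
    exact dvd_sub h2 (Dvd.intro_left _ rfl)
  have h4 := Int.le_of_dvd (by linarith) h3'
  linarith

end Cfsg.Agent.S0880
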