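import Cfsg.Statements.S0883
import Cfsg.Agent.Lib.Helper5.Zass3.SimpleOdd
import Cfsg.Agent.Lib.Helper5.Zass3.OddKernel

set_option autoImplicit false
open Cfsg

namespace Cfsg.Agent.S0883

/-- Let G be a finite simple Zassenhaus group on Ω with h + 1 points whose two-point stabilizer E has odd order e with 2e < h - 1, and let H be the subgroup of the stabilizer of a consisting of the identity and the elements fixing no point other than a (given here as a subgroup of the stabilizer of order one less than the number of points whose non-identity elements fix only a; it is the Frobenius kernel of the stabilizer). If a non-identity element u of H is a product of two involutions of G, then u is an involution. -/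
theorem result {G Ω : Type*} [Group G] [Finite G] [MulAction G Ω] [Fintype Ω] (hZ : Cfsg.IsZassenhausGroup G Ω) {a b : Ω} (hab : a ≠ b) [IsSimpleGroup G] (h e : ℕ) (hh : Fintype.card Ω = h + 1) (he : Nat.card ↥(MulAction.stabilizer G a ⊓ MulAction.stabilizer G b : Subgroup G) = e) (hodd : Odd e) (hlt : 2 * e < h - 1) (H : Subgroup G) (hHa : H ≤ MulAction.stabilizer G a) (hHcard : Nat.card H + 1 = Fintype.card Ω) (hHfix : ∀ u ∈ H, u ≠ 1 → ∀ c : Ω, u • c = c → c = a) (u : G) (hu : u ∈ H) (hu1 : u ≠ 1) (x y : G) (hx : orderOf x = 2) (hy : orderOf y = 2) (hxy : x * y = u) : orderOf u = 2 := by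
  classical
  have h_ := Cfsg.Agent.Lib.Helper5.Zass.hyp_of_zassenhaus hZ
  have hodd' : Odd (Nat.card ↥(MulAction.stabilizer G a ⊓ MulAction.stabilizer G b)) := by
    rw [he]; exact hodd
  obtain ⟨-, hinv⟩ := Cfsg.Agent.Lib.Helper5.Zass3.simple_odd_inverts hZ hab hodd'
  have hord2 : ∀ y : G, orderOf y = 2 ↔ y ≠ 1 ∧ y * y = 1 := by
    intro y
    have : Fact (Nat.Prime 2) := ⟨Nat.prime_two⟩
    rw [orderOf_eq_prime_iff, pow_two, and_comm]
  obtain ⟨hx1, hx2⟩ := (hord2 x).1 hx
  obtain ⟨hy1, hy2⟩ := (hord2 y).1 hy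
  have hxi : x⁻¹ = x := inv_eq_of_mul_eq_one_right hx2
  have hyi : y⁻¹ = y := inv_eq_of_mul_eq_one_right hy2
  have hxu : x * u * x⁻¹ = u⁻¹ := by
    rw [← hxy, mul_inv_rev, hxi, hyi]
    calc x * (x * y) * x = (x * x) * y * x := by group
      _ = y * x := by rw [hx2, one_mul]
  have hua : u • a = a := hHa hu
  have hxa : x • a = a := by
    apply hHfix u hu hu1
    have h1 : u⁻¹ • (x • a) = x • a := by
      rw [← hxu, mul_smul, mul_smul, inv_smul_smul, hua]
    rw [inv_smul_eq_iff] at h1
    exact h1.symm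
  have hn : Odd (Fintype.card Ω) := by
    by_contra hne
    have hev : Even (Fintype.card Ω) := Nat.not_odd_iff_even.1 hne
    obtain ⟨c, hc⟩ : ∃ c : Ω, x • c ≠ c := by
      by_contra hcon
      push Not at hcon
      have := h_.faithful
      exact hx1 (FaithfulSMul.eq_of_smul_eq_smul (α := Ω) (fun c => by rw [hcon c, one_smul]))
    have h3 := ((Cfsg.Agent.S0740.result hZ hc.symm).2.1 x hx rfl
      (by rw [← mul_smul, hx2, one_smul])).2 hev
    rcases h3 with h4 | h4
    · rcases Nat.card_eq_zero.1 h4 with h5 | h5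
      · exact h5.false ⟨a, hxa⟩
      · exact not_finite (MulAction.fixedBy Ω x)
    · obtain ⟨p, q, hpq, -⟩ := Nat.card_eq_two_iff.1 h4
      exact Cfsg.Agent.Lib.Helper5.Zass3.invol_not_fix2 hZ hab hodd' x hx p q
        (fun h' => hpq (Subtype.ext h')) p.2 q.2
  have hHK : H = Cfsg.Agent.Lib.Helper5.Zass.ker h_ a := by
    apply Subgroup.eq_of_le_of_card_ge
    · intro k hk
      rw [Cfsg.Agent.Lib.Helper5.Zass.mem_ker]
      refine ⟨hHa hk, ?_⟩
      by_cases hk1 : k = 1
      · exact Or.inl hk1
      · right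
        intro c hca hkc
        exact hca (hHfix k hk hk1 c hkc)
    · have := Cfsg.Agent.Lib.Helper5.Zass.card_ker h_ a
      rw [Nat.card_eq_fintype_card (α := Ω)] at this
      omega
  have hcomm := Cfsg.Agent.Lib.Helper5.Zass3.odd_kernel_central hZ hab hodd' hinv hn x hx hxa u
    (hHK ▸ hu)
  have huu : u⁻¹ = u := by
    rw [← hxu, ← hcomm]
    group
  rw [hord2]
  refine ⟨hu1, ?_⟩
  calc u * u = u * u⁻¹ := by rw [huu]
    _ = 1 := mul_inv_cancel u

end Cfsg.Agent.S0883
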