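import Cfsg.Statements.S0889
import Cfsg.Agent.Lib.Helper5.Berger.Main

set_option autoImplicit false
open Cfsg

namespace Cfsg.Agent.S0889

/-- Let G be a finite solvable group and χ an irreducible character of G such that for every normal subgroup N the restriction of χ to N is a natural-number multiple of one irreducible character of N. Then χ is not induced from a character of any proper subgroup. -/
theorem result {G : Type*} [Group G] [Fintype G] [Group.IsSolvable G] (χ : G → ℂ) (hχ : Cfsg.IsIrrCharacter G χ) (hqp : ∀ (N : Subgroup G), N.Normal → ∃ (ϑ : N → ℂ) (e : ℕ), Cfsg.IsIrrCharacter N ϑ ∧ (fun n : N => χ n) = (e : ℂ) • ϑ) (K : Subgroup G) (hK : K ≠ ⊤) (ψ : K → ℂ) (hψ : Cfsg.IsCharacter K ψ) : Cfsg.indFun K ψ ≠ χ := by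
  classical
  intro hind
  have key : ∀ d : ℕ, ∀ (H : Subgroup G) (ϑ : H → ℂ), IsCoatom H → Cfsg.IsIrrCharacter H ϑ →
      Cfsg.indFun H ϑ = χ → Nat.card G - Nat.card H.normalCore = d → False := by
    intro d
    induction d using Nat.strong_induction_on with
    | _ d ih =>
      intro H ϑ hH hϑ hindH hd
      obtain ⟨φ, e, hφ, hres⟩ := hqp H.normalCore inferInstance
      obtain ⟨H₁, ϑ₁, hH₁, hϑ₁, hind₁, hlt⟩ :=
        Cfsg.Agent.Lib.Helper5.Berger.exists_bigger_core χ hχ H hH ϑ hϑ hindH φ e hφ hres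
      have hle : Nat.card H₁.normalCore ≤ Nat.card G := Subgroup.card_le_card_group _
      exact ih (Nat.card G - Nat.card H₁.normalCore) (by omega) H₁ ϑ₁ hH₁ hϑ₁ hind₁ rfl
  obtain ⟨H, ϑ, hH, -, hϑ, hindH⟩ :=
    Cfsg.Agent.Lib.Helper5.Berger.exists_coatom_induced K hK hψ hχ hind
  exact key _ H ϑ hH hϑ hindH rfl

end Cfsg.Agent.S0889
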