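import Cfsg.Statements.S0891
import Cfsg.Agent.H9.DCoverD

set_option autoImplicit false
open Cfsg

namespace Cfsg.Agent.S0891

/-- For every n ≥ 4 there are a finite group Γ and a central element z of Γ of order 2 lying in the commutator subgroup of Γ such that the quotient of Γ by the (normal) subgroup generated by z is isomorphic to the alternating group on n letters. -/
theorem result (n : ℕ) (hn : 4 ≤ n) : ∃ (Γ : Type) (_ : Group Γ) (_ : Finite Γ) (z : Γ) (hz : z ∈ Subgroup.center Γ), orderOf z = 2 ∧ z ∈ commutator Γ ∧ ∃ _ : (Subgroup.zpowers z).Normal, Nonempty (Γ ⧸ Subgroup.zpowers z ≃* alternatingGroup (Fin n)) := by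
  have h0 : (0 : ℕ) < n := by omega
  have h1 : (1 : ℕ) < n := by omega
  have h2 : (2 : ℕ) < n := by omega
  have h3 : (3 : ℕ) < n := by omega
  obtain ⟨z, hz, hord, hcomm, hnorm, hiso⟩ :=
    Cfsg.Agent.H9.DCover.main (ι := Fin n) ⟨0, h0⟩ ⟨1, h1⟩ ⟨2, h2⟩ ⟨3, h3⟩
      (by simp [Fin.ext_iff]) (by simp [Fin.ext_iff]) (by simp [Fin.ext_iff])
      (by simp [Fin.ext_iff]) (by simp [Fin.ext_iff]) (by simp [Fin.ext_iff])
  exact ⟨↥(Cfsg.Agent.H9.DCover.Gs (Fin n)), inferInstance, inferInstance, z, hz, hord, hcomm,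
    hnorm, hiso⟩

end Cfsg.Agent.S0891
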