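import Mathlib
import Cfsg.Statements.S0895
import Cfsg.Agent.Lib.helper3.FrobSchur

set_option autoImplicit false
open Cfsg

namespace Cfsg.Agent.S0895

/-- Let χ be a real-valued irreducible character of a finite group G whose degree is an odd natural number. Then the average over s in G of χ (s * s) equals 1. -/
theorem result {G : Type*} [Group G] [Fintype G] (χ : G → ℂ) (hχ : Cfsg.IsIrrCharacter G χ) (hreal : ∀ g : G, (χ g).im = 0) (d : ℕ) (hd : χ 1 = d) (hodd : Odd d) : (Nat.card G : ℂ)⁻¹ * ∑ s : G, χ (s * s) = 1 := by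
  classical
  obtain ⟨n, ρ, hirr, rfl⟩ := hχ
  haveI := hirr
  obtain ⟨c, hc, hν, hiff, heven⟩ := Cfsg.Agent.Lib.helper3.FS.fs_main ρ
  rw [hν]
  have hn : n = d := by
    have h1 := Representation.char_one ρ
    rw [hd] at h1
    have h2 : (d : ℂ) = (n : ℂ) := by
      rw [h1]
      simp
    exact_mod_cast h2.symm
  rcases hc with h | h | h
  · exfalso
    obtain ⟨s, hs⟩ := hiff.mp h
    exact hs (hreal s)
  · exact h
  · exfalso
    have := heven h
    rw [hn] at this
    exact (Nat.not_even_iff_odd.mpr hodd) this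

end Cfsg.Agent.S0895
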