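import Mathlib
import Cfsg.Statements.S0901
import Cfsg.Agent.Lib.helper3.LocalM

set_option autoImplicit false
open Cfsg

namespace Cfsg.Agent.S0901

set_option linter.style.haveILetI false

open Cfsg Cfsg.Agent.Lib.helper3.LocalM Polynomial

/-- A non-trivial root of unity of order dividing `m` has `1 - ζ` dividing `m`. -/
theorem one_sub_dvd {R : Type*} [CommRing R] [IsDomain R] (ζ : R) (m : ℕ) (hζ : ζ ^ m = 1)
    (h1 : ζ ≠ 1) : (ζ - 1) ∣ (m : R) := by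
  have hgeom : (ζ - 1) * ∑ i ∈ Finset.range m, ζ ^ i = 0 := by
    rw [mul_comm, geom_sum_mul, hζ, sub_self]
  have hsum : ∑ i ∈ Finset.range m, ζ ^ i = 0 := by
    rcases mul_eq_zero.mp hgeom with h | h
    · exact absurd (sub_eq_zero.mp h) h1
    · exact h
  have hdvd : (ζ - 1) ∣ ∑ i ∈ Finset.range m, (ζ ^ i - 1) := by
    apply Finset.dvd_sum
    intro i _
    have := sub_dvd_pow_sub_pow ζ 1 i
    rwa [one_pow] at this
  rw [Finset.sum_sub_distrib, hsum, Finset.sum_const, Finset.card_range, zero_sub, nsmul_eq_mul,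
    mul_one] at hdvd
  exact (dvd_neg.mp hdvd)

theorem part1 (p : ℕ) [Fact p.Prime] (M : Ideal Cfsg.AlgInt) (hM : Cfsg.IsPModular p M)
    (ε₁ ε₂ : Cfsg.AlgInt) (h1 : ∃ m : ℕ, ¬ p ∣ m ∧ (ε₁ : ℂ) ^ m = 1)
    (h2 : ∃ m : ℕ, ¬ p ∣ m ∧ (ε₂ : ℂ) ^ m = 1) (hd : ε₁ - ε₂ ∈ M) : ε₁ = ε₂ := by
  obtain ⟨m₁, hm₁, he₁⟩ := h1
  obtain ⟨m₂, hm₂, he₂⟩ := h2
  have he₁' : ε₁ ^ m₁ = 1 := by
    apply Subtype.ext
    simpa using he₁
  have he₂' : ε₂ ^ m₂ = 1 := by
    apply Subtype.ext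
    simpa using he₂
  have hm₂0 : m₂ ≠ 0 := by
    rintro rfl
    exact hm₂ (dvd_zero p)
  by_contra hne
  -- ζ = ε₁ ε₂^{-1}
  obtain ⟨ζ, hζ⟩ : ∃ ζ, ζ = ε₁ * ε₂ ^ (m₂ - 1) := ⟨_, rfl⟩
  have hinv : ε₂ * ε₂ ^ (m₂ - 1) = 1 := by
    rw [← pow_succ', Nat.sub_add_cancel (Nat.one_le_iff_ne_zero.mpr hm₂0), he₂']
  have hζm : ζ ^ (m₁ * m₂) = 1 := by
    rw [hζ, mul_pow, pow_mul, he₁', one_pow, one_mul, ← pow_mul, mul_comm (m₂ - 1), mul_comm m₁,
      pow_mul, pow_mul, he₂', one_pow, one_pow]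
  have hζ1 : ζ - 1 = (ε₁ - ε₂) * ε₂ ^ (m₂ - 1) := by
    rw [hζ, sub_mul, hinv]
  have hζne : ζ ≠ 1 := by
    intro h
    have : (ε₁ - ε₂) * ε₂ ^ (m₂ - 1) = 0 := by rw [← hζ1, h, sub_self]
    rcases mul_eq_zero.mp this with h' | h'
    · exact hne (sub_eq_zero.mp h')
    · rw [h', mul_zero] at hinv
      exact zero_ne_one hinv
  have hmem : ζ - 1 ∈ M := by
    rw [hζ1]
    exact M.mul_mem_right _ hd
  obtain ⟨c, hc⟩ := one_sub_dvd ζ (m₁ * m₂) hζm hζne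
  have hmM : ((m₁ * m₂ : ℕ) : AlgInt) ∈ M := by
    rw [hc]
    exact M.mul_mem_right _ hmem
  rw [natCast_mem_iff hM] at hmM
  rcases (Nat.Prime.dvd_mul hM.1).mp hmM with h | h
  · exact hm₁ h
  · exact hm₂ h

theorem part2 (p : ℕ) [Fact p.Prime] (M : Ideal Cfsg.AlgInt) (hM : Cfsg.IsPModular p M)
    (a : Cfsg.AlgInt) (ha : a ∉ M) :
    ∃ ε : Cfsg.AlgInt, (∃ m : ℕ, ¬ p ∣ m ∧ (ε : ℂ) ^ m = 1) ∧ a - ε ∈ M := by
  haveI := hM.2.1
  haveI hMp : M.IsPrime := hM.2.1.isPrime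
  letI : Field (AlgInt ⧸ M) := Ideal.Quotient.field M
  haveI : CharP (AlgInt ⧸ M) p := by
    rw [CharP.charP_iff_prime_eq_zero hM.1]
    have : ((p : AlgInt) : AlgInt ⧸ M) = 0 := Ideal.Quotient.eq_zero_iff_mem.mpr hM.2.2
    simpa using this
  letI : Algebra (ZMod p) (AlgInt ⧸ M) := ZMod.algebra _ p
  -- the image of `a` is integral
  have hint : IsIntegral (ZMod p) (Ideal.Quotient.mk M a) := by
    have h1 : IsIntegral ℤ a := by
      have := a.2
      exact (isIntegral_algebraMap_iff (B := ℂ) Subtype.val_injective).mp this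
    have h2 : IsIntegral ℤ (Ideal.Quotient.mk M a) := h1.map (Ideal.Quotient.mkₐ ℤ M)
    exact h2.tower_top
  have hfg := hint.fg_adjoin_singleton
  haveI : Module.Finite (ZMod p) (Algebra.adjoin (ZMod p) {Ideal.Quotient.mk M a}) :=
    Module.Finite.iff_fg.mpr hfg
  haveI : Finite (Algebra.adjoin (ZMod p) {Ideal.Quotient.mk M a}) := Module.finite_of_finite (ZMod p)
  obtain ⟨x, hx⟩ : ∃ x : Algebra.adjoin (ZMod p) {Ideal.Quotient.mk M a},
      (x : AlgInt ⧸ M) = Ideal.Quotient.mk M a :=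
    ⟨⟨_, Algebra.self_mem_adjoin_singleton _ _⟩, rfl⟩
  have hane : Ideal.Quotient.mk M a ≠ 0 := by
    intro h
    exact ha (Ideal.Quotient.eq_zero_iff_mem.mp h)
  -- pigeonhole
  have hninj : ¬ Function.Injective (fun i : ℕ => x ^ i) := not_injective_infinite_finite _
  have hex : ∃ n : ℕ, 0 < n ∧ (Ideal.Quotient.mk M a) ^ n = 1 := by
    rw [Function.Injective] at hninj
    push Not at hninj
    obtain ⟨i, j, hij, hne⟩ := hninj
    have hij' : (Ideal.Quotient.mk M a) ^ i = (Ideal.Quotient.mk M a) ^ j := by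
      have := congrArg (fun y : Algebra.adjoin (ZMod p) {Ideal.Quotient.mk M a} =>
        (y : AlgInt ⧸ M)) hij
      simpa [hx] using this
    rcases lt_or_gt_of_ne hne with hlt | hlt
    · refine ⟨j - i, Nat.sub_pos_of_lt hlt, ?_⟩
      have e : j = i + (j - i) := by omega
      rw [e, pow_add] at hij'
      have h0 : (Ideal.Quotient.mk M a) ^ i ≠ 0 := pow_ne_zero _ hane
      have := mul_left_cancel₀ h0 (hij'.symm.trans (mul_one _).symm)
      exact this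
    · refine ⟨i - j, Nat.sub_pos_of_lt hlt, ?_⟩
      have e : i = j + (i - j) := by omega
      rw [e, pow_add] at hij'
      have h0 : (Ideal.Quotient.mk M a) ^ j ≠ 0 := pow_ne_zero _ hane
      have := mul_left_cancel₀ h0 (hij'.trans (mul_one _).symm)
      exact this
  obtain ⟨n, hn0, hn⟩ := hex
  obtain ⟨k, n', hpn', rfl⟩ := Nat.exists_eq_pow_mul_and_not_dvd hn0.ne' p hM.1.ne_one
  have hn'0 : 0 < n' := by
    rcases Nat.eq_zero_or_pos n' with h | h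
    · rw [h] at hpn'
      exact absurd (dvd_zero p) hpn'
    · exact h
  have hn' : (Ideal.Quotient.mk M a) ^ n' = 1 := by
    have h1 : ((Ideal.Quotient.mk M a) ^ n' - 1) ^ p ^ k = 0 := by
      rw [sub_pow_char_pow, ← pow_mul, mul_comm n', hn, one_pow, sub_self]
    have h2 := pow_eq_zero_iff (pow_ne_zero k hM.1.ne_zero) |>.mp h1
    exact sub_eq_zero.mp h2
  have hmem : a ^ n' - 1 ∈ M := by
    apply Ideal.Quotient.eq_zero_iff_mem.mp
    rw [map_sub, map_pow, hn', map_one, sub_self]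
  -- a primitive root of unity in the algebraic integers
  have hprim := Complex.isPrimitiveRoot_exp n' hn'0.ne'
  obtain ⟨z₀, hz₀⟩ : ∃ z₀ : AlgInt, (z₀ : ℂ) = Complex.exp (2 * Real.pi * Complex.I / n') :=
    ⟨⟨_, hprim.isIntegral hn'0⟩, rfl⟩
  have hprim' : IsPrimitiveRoot z₀ n' := by
    have hinj : Function.Injective (AlgInt.val : AlgInt → ℂ) := Subtype.val_injective
    apply IsPrimitiveRoot.of_map_of_injective (f := AlgInt.val) ?_ hinj
    have e : AlgInt.val z₀ = Complex.exp (2 * Real.pi * Complex.I / n') := hz₀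
    rw [e]
    exact hprim
  have hfac := X_pow_sub_one_eq_prod hn'0 hprim'
  have hev := congrArg (Polynomial.eval a) hfac
  rw [eval_sub, eval_pow, eval_X, eval_one, eval_prod] at hev
  rw [hev, Ideal.IsPrime.prod_mem_iff] at hmem
  obtain ⟨ζ, hζ, hζM⟩ := hmem
  rw [eval_sub, eval_X, eval_C] at hζM
  refine ⟨ζ, ⟨n', hpn', ?_⟩, hζM⟩
  have := (mem_nthRootsFinset hn'0 (1 : AlgInt)).mp hζ
  have h2 := congrArg (fun y : AlgInt => (y : ℂ)) this
  simpa using h2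


/-- Let M be a maximal ideal of the ring of algebraic integers containing the prime p, and let U be the set of complex roots of unity of order prime to p. Then reduction modulo M is injective on U, and every algebraic integer not in M is congruent modulo M to an element of U (so U maps bijectively onto the nonzero residues). -/
theorem result (p : ℕ) [Fact p.Prime] (M : Ideal Cfsg.AlgInt) (hM : Cfsg.IsPModular p M) : (∀ ε₁ ε₂ : Cfsg.AlgInt, (∃ m : ℕ, ¬ p ∣ m ∧ (ε₁ : ℂ) ^ m = 1) → (∃ m : ℕ, ¬ p ∣ m ∧ (ε₂ : ℂ) ^ m = 1) → ε₁ - ε₂ ∈ M → ε₁ = ε₂) ∧ (∀ a : Cfsg.AlgInt, a ∉ M → ∃ ε : Cfsg.AlgInt, (∃ m : ℕ, ¬ p ∣ m ∧ (ε : ℂ) ^ m = 1) ∧ a - ε ∈ M) := by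
  exact ⟨fun ε₁ ε₂ h1 h2 hd => part1 p M hM ε₁ ε₂ h1 h2 hd, fun a ha => part2 p M hM a ha⟩

end Cfsg.Agent.S0901
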