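import Mathlib
import Cfsg.Statements.S0902
import Cfsg.Agent.Lib.helper3.HeightZero3
import Cfsg.Agent.Lib.helper3.ProjVanish7
import Cfsg.Agent.Lib.helper3.CentralDefect5

set_option autoImplicit false
open Cfsg

namespace Cfsg.Agent.S0902

open Cfsg.Agent.Lib.helper3.Block Cfsg.Agent.Lib.helper3.LocalM Cfsg.Agent.Lib.helper3.Irr Cfsg.Agent.Lib.helper3.Central Cfsg.Agent.Lib.helper3.CharBasic

set_option linter.style.haveILetI false

/-- If two irreducible characters of a finite group lie in the same block relative to one maximal ideal M of the algebraic integers containing the prime p, then at every element the difference of their central characters is an algebraic integer lying in every maximal ideal containing p; in particular they lie in the same block relative to any such ideal. -/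
theorem result {G : Type*} [Group G] [Finite G] (p : ℕ) [Fact p.Prime] (M : Ideal Cfsg.AlgInt) (hM : Cfsg.IsPModular p M) (χ ψ : Cfsg.IrrCharacter G) (h : Cfsg.SameBlock M (χ : G → ℂ) (ψ : G → ℂ)) (M' : Ideal Cfsg.AlgInt) (hM' : Cfsg.IsPModular p M') (g : G) : ∃ r : Cfsg.AlgInt, r ∈ M' ∧ (r : ℂ) = Cfsg.centralChar (χ : G → ℂ) g - Cfsg.centralChar (ψ : G → ℂ) g := by
  classical
  letI : Fintype G := Fintype.ofFinite G
  haveI hMp := isPrime_of_isPModular hM
  haveI hMp' := isPrime_of_isPModular hM'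
  have hMtop : M ≠ ⊤ := hM.2.1.ne_top
  have hMtop' : M' ≠ ⊤ := hM'.2.1.ne_top
  have hp : p.Prime := Fact.out
  -- the block of `χ` relative to `M`
  obtain ⟨B, hBdef⟩ : ∃ B : Set (Cfsg.IrrCharacter G), B = Cfsg.blockOf M (χ : G → ℂ) := ⟨_, rfl⟩
  have hB : Cfsg.IsPBlock M B := ⟨χ, hBdef⟩
  have hχB : χ ∈ B := by
    rw [hBdef]
    exact sameBlock_refl hMtop _
  have hψB : ψ ∈ B := by
    rw [hBdef]
    exact h
  -- a character of height zero is linked to every member of the block
  obtain ⟨χ₀, hχ₀B, hht⟩ := exists_minExp (p := p) ⟨χ, hχB⟩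
  obtain ⟨z, hz1, hz2, hz3⟩ := exists_regZ p χ₀
  have hunit := exists_unit_quot_of_height_zero hM B hB χ₀ hχ₀B hht _ rfl z hz2 hz3
  have hlink : ∀ ξ ∈ B, Cfsg.SameBlock M' (χ₀ : G → ℂ) (ξ : G → ℂ) := by
    intro ξ hξ
    by_contra hns
    have h1 := regular_orthogonality hM' χ₀ ξ hns
    have h2 : regPair p (χ₀ : G → ℂ) (ξ : G → ℂ) = 0 := by
      rw [← h1]
      unfold regPair
      apply Finset.sum_congr rfl
      intro g _
      by_cases hg : p ∣ orderOf g
      · rw [if_pos hg, if_pos hg, zero_mul]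
      · rw [if_neg hg, if_neg hg, one_mul]
    rw [hz2 ξ] at h2
    have hn'0 : ((ordCompl[p] (Nat.card G) : ℕ) : ℂ) ≠ 0 := by
      have : ordCompl[p] (Nat.card G) ≠ 0 := (Nat.ordCompl_pos p Nat.card_pos.ne').ne'
      exact_mod_cast this
    have hz0 : z ξ = 0 := by
      have := (mul_eq_zero.1 h2).resolve_left hn'0
      exact_mod_cast this
    obtain ⟨w, hw, hpw⟩ := hunit ξ hξ
    rw [hz0, mul_zero] at hw
    have hdeg : ((Cfsg.charDegree (ξ : G → ℂ) : ℕ) : ℤ) ≠ 0 := by
      exact_mod_cast charDegree_ne_zero ξ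
    have hw0 : w = 0 := (mul_eq_zero.1 hw.symm).resolve_left hdeg
    apply hpw
    rw [hw0]
    exact dvd_zero _
  have hsame : Cfsg.SameBlock M' (χ : G → ℂ) (ψ : G → ℂ) :=
    sameBlock_trans (sameBlock_symm (hlink χ hχB)) (hlink ψ hψB)
  have hint : IsIntegral ℤ (Cfsg.centralChar (χ : G → ℂ) g - Cfsg.centralChar (ψ : G → ℂ) g) :=
    (isIntegral_centralChar χ.2 g).sub (isIntegral_centralChar ψ.2 g)
  refine ⟨⟨_, hint⟩, ?_, rfl⟩
  apply mem_of_memLocalIdeal
  exact hsame g

end Cfsg.Agent.S0902
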