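import Mathlib
import Cfsg.Statements.S0903

set_option autoImplicit false
set_option linter.style.haveILetI false
open Cfsg

namespace Cfsg.Agent.S0903

/-- Let P be a p-subgroup of the finite group G, let c centralize P and let g, h ∈ G. The number of pairs (x, y) with x conjugate to g, y conjugate to h and x * y = c is congruent modulo p to the number of such pairs in which x and y both centralize P. (This is why the Brauer map on class sums is multiplicative.) -/
theorem result {G : Type*} [Group G] [Finite G] (p : ℕ) [Fact p.Prime] (P : Subgroup G) (hP : IsPGroup p P) (c : G) (hc : c ∈ Subgroup.centralizer (P : Set G)) (g h : G) : Nat.card {xy : G × G // IsConj g xy.1 ∧ IsConj h xy.2 ∧ xy.1 * xy.2 = c} ≡ Nat.card {xy : G × G // IsConj g xy.1 ∧ IsConj h xy.2 ∧ xy.1 * xy.2 = c ∧ xy.1 ∈ Subgroup.centralizer (P : Set G) ∧ xy.2 ∈ Subgroup.centralizer (P : Set G)} [MOD p] := by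
  classical
  let X := {xy : G × G // IsConj g xy.1 ∧ IsConj h xy.2 ∧ xy.1 * xy.2 = c}
  have hconj : ∀ (u a b : G), IsConj a b → IsConj a (u * b * u⁻¹) := by
    intro u a b hab
    exact hab.trans (isConj_iff.mpr ⟨u, rfl⟩)
  letI inst : MulAction P X :=
    { smul := fun u xy => ⟨((u : G) * xy.1.1 * (u : G)⁻¹, (u : G) * xy.1.2 * (u : G)⁻¹), by
        refine ⟨hconj _ _ _ xy.2.1, hconj _ _ _ xy.2.2.1, ?_⟩
        have h3 := xy.2.2.2
        have hcu : (u : G) * c = c * (u : G) := by
          have := (Subgroup.mem_centralizer_iff.mp hc) (u : G) u.2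
          exact this
        calc (u : G) * xy.1.1 * (u : G)⁻¹ * ((u : G) * xy.1.2 * (u : G)⁻¹)
            = (u : G) * (xy.1.1 * xy.1.2) * (u : G)⁻¹ := by group
          _ = (u : G) * c * (u : G)⁻¹ := by rw [h3]
          _ = c * (u : G) * (u : G)⁻¹ := by rw [hcu]
          _ = c := by group⟩
      one_smul := by
        intro xy
        apply Subtype.ext
        show (((1 : P) : G) * xy.1.1 * ((1 : P) : G)⁻¹, ((1 : P) : G) * xy.1.2 * ((1 : P) : G)⁻¹) = xy.1
        simp
      mul_smul := by
        intro a b xy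
        apply Subtype.ext
        show (((a * b : P) : G) * xy.1.1 * ((a * b : P) : G)⁻¹,
            ((a * b : P) : G) * xy.1.2 * ((a * b : P) : G)⁻¹)
          = ((a : G) * ((b : G) * xy.1.1 * (b : G)⁻¹) * (a : G)⁻¹,
            (a : G) * ((b : G) * xy.1.2 * (b : G)⁻¹) * (a : G)⁻¹)
        simp only [Subgroup.coe_mul, mul_inv_rev, Prod.mk.injEq]
        constructor <;> group }
  have hsmul : ∀ (u : P) (xy : X), ((u • xy : X) : G × G)
      = ((u : G) * xy.1.1 * (u : G)⁻¹, (u : G) * xy.1.2 * (u : G)⁻¹) := fun _ _ => rfl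
  have hmod := hP.card_modEq_card_fixedPoints X
  have hequiv : MulAction.fixedPoints P X ≃ {xy : G × G // IsConj g xy.1 ∧ IsConj h xy.2 ∧
      xy.1 * xy.2 = c ∧ xy.1 ∈ Subgroup.centralizer (P : Set G) ∧
      xy.2 ∈ Subgroup.centralizer (P : Set G)} :=
    { toFun := fun z => ⟨z.1.1, z.1.2.1, z.1.2.2.1, z.1.2.2.2, by
        rw [Subgroup.mem_centralizer_iff]
        intro u hu
        have := z.2 ⟨u, hu⟩
        have h1 := congrArg (fun w : X => (w : G × G).1) this
        simp only [hsmul] at h1
        calc u * z.1.1.1 = (u * z.1.1.1 * u⁻¹) * u := by group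
          _ = z.1.1.1 * u := by rw [h1], by
        rw [Subgroup.mem_centralizer_iff]
        intro u hu
        have := z.2 ⟨u, hu⟩
        have h1 := congrArg (fun w : X => (w : G × G).2) this
        simp only [hsmul] at h1
        calc u * z.1.1.2 = (u * z.1.1.2 * u⁻¹) * u := by group
          _ = z.1.1.2 * u := by rw [h1]⟩
      invFun := fun w => ⟨⟨w.1, w.2.1, w.2.2.1, w.2.2.2.1⟩, by
        intro u
        apply Subtype.ext
        rw [hsmul]
        have h1 := (Subgroup.mem_centralizer_iff.mp w.2.2.2.2.1) (u : G) u.2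
        have h2 := (Subgroup.mem_centralizer_iff.mp w.2.2.2.2.2) (u : G) u.2
        simp only
        ext
        · simp only
          calc (u : G) * w.1.1 * (u : G)⁻¹ = (w.1.1 * (u : G)) * (u : G)⁻¹ := by rw [h1]
            _ = w.1.1 := by group
        · simp only
          calc (u : G) * w.1.2 * (u : G)⁻¹ = (w.1.2 * (u : G)) * (u : G)⁻¹ := by rw [h2]
            _ = w.1.2 := by group⟩
      left_inv := fun z => rfl
      right_inv := fun w => rfl }
  rw [← Nat.card_congr hequiv]
  exact hmod

end Cfsg.Agent.S0903
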