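import Mathlib
import Cfsg.Statements.S0905
import Cfsg.Agent.Lib.helper3.GroupAlgNil
import Cfsg.Agent.H1.Cores

set_option autoImplicit false
open Cfsg

set_option linter.style.haveILetI false

namespace Cfsg.Agent.S0905

/-- Let F be a field of characteristic p and let g be an element of the finite group G no conjugate of which centralizes O_p(G). Then the class sum of g is a nilpotent element of the group algebra F[G]. -/
theorem result {G : Type*} [Group G] [Finite G] (p : ℕ) [Fact p.Prime] (F : Type*) [Field F] [CharP F p] (g : G) (hg : ∀ x : G, IsConj g x → x ∉ Subgroup.centralizer (Cfsg.pCore p G : Set G)) : IsNilpotent (∑ᶠ x ∈ ConjClasses.carrier (ConjClasses.mk g), MonoidAlgebra.single x (1 : F) : MonoidAlgebra F G) := by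
  classical
  letI : Fintype G := Fintype.ofFinite G
  haveI hnorm : (Cfsg.pCore p G).Normal := Cfsg.Agent.H1.pCore_normal p
  have hPG : IsPGroup p (Cfsg.pCore p G) := Cfsg.Agent.H1.pCore_isPGroup p
  have key := Cfsg.Agent.Lib.helper3.GroupAlgNil.isNilpotent_classSum (F := F) p (Cfsg.pCore p G) hPG g hg
  have e : (∑ᶠ x ∈ ConjClasses.carrier (ConjClasses.mk g), MonoidAlgebra.single x (1 : F) : MonoidAlgebra F G)
      = ∑ x : {x : G // IsConj g x}, MonoidAlgebra.single (x : G) (1 : F) := by
    rw [finsum_mem_def, finsum_eq_sum_of_fintype]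
    rw [← Finset.sum_subtype (Finset.univ.filter (fun x : G => IsConj g x)) (p := fun x : G => IsConj g x)
      (by intro x; simp) (fun x : G => MonoidAlgebra.single x (1 : F))]
    rw [Finset.sum_filter]
    apply Finset.sum_congr rfl
    intro x _
    rw [Set.indicator_apply]
    have hiff : x ∈ ConjClasses.carrier (ConjClasses.mk g) ↔ IsConj g x := by
      rw [ConjClasses.mem_carrier_iff_mk_eq, ConjClasses.mk_eq_mk_iff_isConj]
      exact isConj_comm
    by_cases h : IsConj g x
    · rw [if_pos h, if_pos (hiff.mpr h)]
    · rw [if_neg h, if_neg (fun h' => h (hiff.mp h'))]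
  rw [e]
  exact key

end Cfsg.Agent.S0905
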