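import Mathlib
import Cfsg.Statements.S0916
import Cfsg.Agent.Lib.helper3.SylowNorm

set_option autoImplicit false
open Cfsg

set_option linter.style.haveILetI false

namespace Cfsg.Agent.S0916

open Cfsg.Agent.Lib.helper3.Block

/-- Let P be a p-subgroup of the finite group G, C its centralizer and N its normalizer. Say that a conjugacy class (of G, or of N) has defect group P when P is a Sylow p-subgroup of the centralizer (in G, respectively in N) of some element of the class. Then: (i) if the class of g in G has defect group P, the elements of that class lying in C form a single N-class, again with defect group P; (ii) every N-class with defect group P arises this way from exactly one G-class with defect group P. -/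
theorem result {G : Type*} [Group G] [Finite G] (p : ℕ) [Fact p.Prime] (P : Subgroup G) (hP : IsPGroup p P) : (∀ g : G, (∃ S : Sylow p (Subgroup.centralizer ({g} : Set G)), (S : Subgroup (Subgroup.centralizer ({g} : Set G))).map (Subgroup.centralizer ({g} : Set G)).subtype = P) → (∃ c : G, IsConj g c ∧ c ∈ Subgroup.centralizer (P : Set G)) ∧ (∀ c₁ c₂ : G, IsConj g c₁ → IsConj g c₂ → c₁ ∈ Subgroup.centralizer (P : Set G) → c₂ ∈ Subgroup.centralizer (P : Set G) → ∃ n ∈ Subgroup.normalizer (P : Set G), n * c₁ * n⁻¹ = c₂)) ∧ (∀ c : G, c ∈ Subgroup.centralizer (P : Set G) → (∃ S : Sylow p (Subgroup.centralizer ({c} : Set G) ⊓ Subgroup.normalizer (P : Set G) : Subgroup G), (S : Subgroup ↥(Subgroup.centralizer ({c} : Set G) ⊓ Subgroup.normalizer (P : Set G))).map (Subgroup.centralizer ({c} : Set G) ⊓ Subgroup.normalizer (P : Set G)).subtype = P) → ∃ S : Sylow p (Subgroup.centralizer ({c} : Set G)), (S : Subgroup (Subgroup.centralizer ({c} : Set G))).map (Subgroup.centralizer ({c} : Set G)).subtype = P) := by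
  classical
  constructor
  · rintro g ⟨S, hS⟩
    constructor
    · refine ⟨g, IsConj.refl g, ?_⟩
      rw [Subgroup.mem_centralizer_iff]
      intro u hu
      rw [← hS] at hu
      obtain ⟨v, -, rfl⟩ := hu
      exact Subgroup.mem_centralizer_singleton_iff.mp v.2
    · intro c₁ c₂ h₁ h₂ hc₁ hc₂
      obtain ⟨a, rfl⟩ := isConj_iff.mp h₁
      obtain ⟨b, rfl⟩ := isConj_iff.mp h₂
      obtain ⟨n₁, hn₁, e₁⟩ := exists_normalizer_conj g S P hS a hc₁
      obtain ⟨n₂, hn₂, e₂⟩ := exists_normalizer_conj g S P hS b hc₂
      refine ⟨n₂⁻¹ * n₁, Subgroup.mul_mem _ (Subgroup.inv_mem _ hn₂) hn₁, ?_⟩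
      calc n₂⁻¹ * n₁ * (a * g * a⁻¹) * (n₂⁻¹ * n₁)⁻¹
          = n₂⁻¹ * (n₁ * (a * g * a⁻¹) * n₁⁻¹) * n₂ := by group
        _ = n₂⁻¹ * (n₂ * (b * g * b⁻¹) * n₂⁻¹) * n₂ := by rw [e₁, e₂]
        _ = b * g * b⁻¹ := by group
  · rintro c hc ⟨S, hS⟩
    have hPp : IsPGroup p P := hP
    have hPK : P ≤ Subgroup.centralizer ({c} : Set G) := by
      intro u hu
      rw [Subgroup.mem_centralizer_singleton_iff]
      exact (Subgroup.mem_centralizer_iff.mp hc) u hu
    have hmax : ∀ Q : Subgroup G, IsPGroup p Q → P ≤ Q →
        Q ≤ Subgroup.centralizer ({c} : Set G) ⊓ Subgroup.normalizer (P : Set G) → Q = P := by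
      intro Q hQ hPQ hQK
      have h1 : (S : Subgroup ↥(Subgroup.centralizer ({c} : Set G)
          ⊓ Subgroup.normalizer (P : Set G))) ≤ Q.subgroupOf _ := by
        intro x hx
        rw [Subgroup.mem_subgroupOf]
        apply hPQ
        have := Subgroup.mem_map_of_mem (Subgroup.centralizer ({c} : Set G)
          ⊓ Subgroup.normalizer (P : Set G)).subtype hx
        rw [hS] at this
        exact this
      have h2 : Q.subgroupOf (Subgroup.centralizer ({c} : Set G)
          ⊓ Subgroup.normalizer (P : Set G)) = S := S.is_maximal' hQ.comap_subtype h1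
      calc Q = (Q.subgroupOf (Subgroup.centralizer ({c} : Set G)
            ⊓ Subgroup.normalizer (P : Set G))).map (Subgroup.centralizer ({c} : Set G)
            ⊓ Subgroup.normalizer (P : Set G)).subtype :=
            (Subgroup.map_subgroupOf_eq_of_le hQK).symm
        _ = P := by rw [h2, hS]
    have hmaxK := eq_of_maximal_in_normalizer P (Subgroup.centralizer ({c} : Set G)) hmax
    obtain ⟨T, hT⟩ := exists_le_sylow_map (Subgroup.centralizer ({c} : Set G)) P hPp hPK
    refine ⟨T, ?_⟩
    exact hmaxK _ (T.2.map _) hT (Subgroup.map_subtype_le _)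

end Cfsg.Agent.S0916
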