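import Mathlib
import Cfsg.Statements.S0924
import Cfsg.Agent.Lib.helper3.SecMain12
import Cfsg.Agent.S0912
import Cfsg.Agent.S0917

set_option autoImplicit false
open Cfsg

namespace Cfsg.Agent.S0924

set_option linter.style.haveILetI false

open Cfsg Cfsg.Agent.Lib.helper3.Block

/-- Let χ be an irreducible character of the finite group G and g ∈ G, and fix a maximal ideal M of the algebraic integers containing the prime p. If the p-part of g is contained in no defect group of the block of χ, then χ g = 0. -/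
theorem result {G : Type*} [Group G] [Finite G] (p : ℕ) [Fact p.Prime] (M : Ideal Cfsg.AlgInt) (hM : Cfsg.IsPModular p M) (χ : Cfsg.IrrCharacter G) (g x : G) (hx : Cfsg.IsPPart p g x) (hD : ∀ D : Subgroup G, Cfsg.IsDefectGroup p M (Cfsg.blockOf M (χ : G → ℂ)) D → x ∉ D) : (χ : G → ℂ) g = 0 := by
  classical
  letI : Fintype G := Fintype.ofFinite G
  have hp : p.Prime := Fact.out
  haveI hMp := Cfsg.Agent.Lib.helper3.LocalM.isPrime_of_isPModular hM
  apply apply_eq_zero_of_no_induced hM χ g x hx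
  intro b hb hind
  letI : Fintype (Subgroup.centralizer ({x} : Set G)) := Fintype.ofFinite _
  obtain ⟨c₀, hc₀⟩ := exists_defectClass hM b hb
  obtain ⟨P₀⟩ : Nonempty (Sylow p (Subgroup.centralizer
    ({c₀} : Set (Subgroup.centralizer ({x} : Set G))))) := inferInstance
  obtain ⟨Db, hDbdef⟩ : ∃ Db : Subgroup (Subgroup.centralizer ({x} : Set G)),
      Db = (P₀ : Subgroup _).map (Subgroup.centralizer
        ({c₀} : Set (Subgroup.centralizer ({x} : Set G)))).subtype := ⟨_, rfl⟩
  have hDb : Cfsg.IsDefectGroup p M b Db := ⟨c₀, hc₀, P₀, hDbdef⟩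
  have h1 : Cfsg.pCore p (Subgroup.centralizer ({x} : Set G)) ≤ Db :=
    Cfsg.Agent.S0912.result p M hM b hb Db hDb
  obtain ⟨E, hE, hDE⟩ := Cfsg.Agent.S0917.result p M hM (Subgroup.centralizer ({x} : Set G)) b hb
    (Cfsg.blockOf M (χ : G → ℂ)) ⟨χ, rfl⟩ hind Db hDb
  apply hD E hE
  apply hDE
  obtain ⟨y, hxy, hcomm, ⟨k, hk⟩, hreg⟩ := hx
  have hxC : x ∈ Subgroup.centralizer ({x} : Set G) :=
    Subgroup.mem_centralizer_singleton_iff.mpr rfl
  refine ⟨⟨x, hxC⟩, h1 ?_, rfl⟩
  have hcomm' : ∀ c : Subgroup.centralizer ({x} : Set G),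
      Commute c (⟨x, hxC⟩ : Subgroup.centralizer ({x} : Set G)) := by
    intro c
    apply Subtype.ext
    exact Subgroup.mem_centralizer_singleton_iff.mp c.2
  have hN : (Subgroup.zpowers (⟨x, hxC⟩ : Subgroup.centralizer ({x} : Set G))).Normal := by
    constructor
    intro n hn c
    obtain ⟨i, rfl⟩ := Subgroup.mem_zpowers_iff.mp hn
    have : Commute c ((⟨x, hxC⟩ : Subgroup.centralizer ({x} : Set G)) ^ i) :=
      (hcomm' c).zpow_right i
    rw [this.eq, mul_inv_cancel_right]
    exact hn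
  have hPg : IsPGroup p (Subgroup.zpowers (⟨x, hxC⟩ : Subgroup.centralizer ({x} : Set G))) := by
    apply IsPGroup.of_card (n := k)
    rw [Nat.card_zpowers, ← Subgroup.orderOf_coe]
    exact hk
  exact Cfsg.Agent.H1.le_pCore hN hPg (Subgroup.mem_zpowers _)


end Cfsg.Agent.S0924
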