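import Mathlib
import Cfsg.Statements.S0926
import Cfsg.Agent.Lib.helper3.SecMain13
import Cfsg.Agent.S0924

set_option autoImplicit false
open Cfsg

namespace Cfsg.Agent.S0926

set_option linter.style.haveILetI false

open Cfsg Cfsg.Agent.Lib.helper3.Block

/-- Let B be a block of the finite group G with defect group D (relative to a maximal ideal M of the algebraic integers containing p), let χ ∈ B have height zero, and let x be a p-element. Then some conjugate of x lies in D if and only if χ does not vanish on the whole p-section of x (the elements whose p-part is conjugate to x). -/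
theorem result {G : Type*} [Group G] [Finite G] (p : ℕ) [Fact p.Prime] (M : Ideal Cfsg.AlgInt) (hM : Cfsg.IsPModular p M) (B : Set (Cfsg.IrrCharacter G)) (hB : Cfsg.IsPBlock M B) (D : Subgroup G) (hD : Cfsg.IsDefectGroup p M B D) (χ : Cfsg.IrrCharacter G) (hχ : χ ∈ B) (h0 : Cfsg.blockHeight p B (χ : G → ℂ) = 0) (x : G) (hx : ∃ k : ℕ, orderOf x = p ^ k) : (∃ g : G, g * x * g⁻¹ ∈ D) ↔ ∃ u : G, (∃ z : G, Cfsg.IsPPart p u z ∧ IsConj x z) ∧ (χ : G → ℂ) u ≠ 0 := by
  classical
  letI : Fintype G := Fintype.ofFinite G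
  have hp : p.Prime := Fact.out
  haveI hMp := Cfsg.Agent.Lib.helper3.LocalM.isPrime_of_isPModular hM
  have hMtop : M ≠ ⊤ := hM.2.1.ne_top
  obtain ⟨k, hk⟩ := hx
  constructor
  · rintro ⟨g, hg⟩
    have hord : orderOf (g * x * g⁻¹) = p ^ k := by
      have : g * x * g⁻¹ = MulAut.conj g x := rfl
      rw [this, MulEquiv.orderOf_eq, hk]
    obtain ⟨u, hu, hne⟩ := exists_apply_ne_zero_of_height_zero hM B hB D hD χ hχ h0
      (g * x * g⁻¹) k hord hg
    exact ⟨u, ⟨g * x * g⁻¹, hu, isConj_iff.mpr ⟨g, rfl⟩⟩, hne⟩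
  · rintro ⟨u, ⟨z, hz, hxz⟩, hne⟩
    have hBeq : B = Cfsg.blockOf M (χ : G → ℂ) :=
      block_eq_of_mem hB ⟨χ, rfl⟩ χ hχ (sameBlock_refl hMtop _)
    by_contra hcon
    push Not at hcon
    apply hne
    apply Cfsg.Agent.S0924.result p M hM χ u z hz
    intro D' hD' hzD'
    rw [← hBeq] at hD'
    obtain ⟨t, ht⟩ := defectGroup_conj_eq hM hB hD hD'
    obtain ⟨s, hs⟩ := isConj_iff.mp hxz
    apply hcon (t * s)
    rw [← ht]
    refine ⟨z, hzD', ?_⟩
    rw [← hs]
    show t * (s * x * s⁻¹) * t⁻¹ = _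
    group


end Cfsg.Agent.S0926
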