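import Mathlib
import Cfsg.Statements.S0927
import Cfsg.Agent.Lib.helper3.DefectOrder
import Cfsg.Agent.Lib.helper3.LocalM2

set_option autoImplicit false
open Cfsg

namespace Cfsg.Agent.S0927

open Cfsg.Agent.Lib.helper3.Block Cfsg.Agent.Lib.helper3.LocalM Cfsg.Agent.Lib.helper3.Central
open Cfsg.Agent.Lib.helper3.Irr Cfsg.Agent.Lib.helper3.CharBasic
set_option linter.style.haveILetI false

/-- Let B be a block of the finite group G relative to a maximal ideal M of the algebraic integers containing p, let y represent a defect class of B and let P be a Sylow p-subgroup of the centralizer of y. (a) If x ∈ P and χ ∈ B has height zero, then χ (x * y) is not in the local ideal at M. (b) If x lies in the centre of P, then for every χ ∈ B the central character of χ at x * y is not in the local ideal at M. -/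
theorem result {G : Type*} [Group G] [Finite G] (p : ℕ) [Fact p.Prime] (M : Ideal Cfsg.AlgInt) (hM : Cfsg.IsPModular p M) (B : Set (Cfsg.IrrCharacter G)) (hB : Cfsg.IsPBlock M B) (y : G) (hy : Cfsg.IsDefectClass M B y) (P : Sylow p (Subgroup.centralizer ({y} : Set G))) (x : Subgroup.centralizer ({y} : Set G)) (hx : x ∈ (P : Subgroup (Subgroup.centralizer ({y} : Set G)))) : (∀ χ ∈ B, Cfsg.blockHeight p B (χ : G → ℂ) = 0 → ¬ Cfsg.MemLocalIdeal M ((χ : G → ℂ) ((x : G) * y))) ∧ ((∀ w ∈ (P : Subgroup (Subgroup.centralizer ({y} : Set G))), x * w = w * x) → ∀ χ ∈ B, ¬ Cfsg.MemLocalIdeal M (Cfsg.centralChar (χ : G → ℂ) ((x : G) * y))) := by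
  classical
  letI : Fintype G := Fintype.ofFinite G
  haveI hMp := isPrime_of_isPModular hM
  have hMtop : M ≠ ⊤ := hM.2.1.ne_top
  have hp : p.Prime := hM.1
  have hp0 : (p : ℂ) ≠ 0 := by
    have : p ≠ 0 := hp.ne_zero
    exact_mod_cast this
  have hdefect := factorization_centralizer_of_isDefectClass hM B hB y hy
  obtain ⟨χ₀, hBeq⟩ := hB
  have hχ₀ : χ₀ ∈ B := by
    rw [hBeq]
    exact sameBlock_refl hMtop _
  obtain ⟨a, ha⟩ : ∃ a, a = (Nat.card G).factorization p := ⟨_, rfl⟩
  obtain ⟨e, he⟩ : ∃ e, e = sInf ((fun χ : Cfsg.IrrCharacter G =>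
      (Cfsg.charDegree (χ : G → ℂ)).factorization p) '' B) := ⟨_, rfl⟩
  have hdef : Cfsg.blockDefect p B = a - e := by
    unfold Cfsg.blockDefect
    rw [ha, he]
  rw [hdef] at hdefect
  have hne : ((fun χ : Cfsg.IrrCharacter G =>
      (Cfsg.charDegree (χ : G → ℂ)).factorization p) '' B).Nonempty := ⟨_, χ₀, hχ₀, rfl⟩
  obtain ⟨χ₁, hχ₁, hχ₁e⟩ := Nat.sInf_mem hne
  rw [← he] at hχ₁e
  beta_reduce at hχ₁e
  have hle : ∀ χ ∈ B, e ≤ (Cfsg.charDegree (χ : G → ℂ)).factorization p := by
    intro χ hχ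
    rw [he]
    exact Nat.sInf_le ⟨χ, hχ, rfl⟩
  have hea : e ≤ a := by
    obtain ⟨d₁, hd₁, hdvd₁, hpos₁⟩ := irr_degree_dvd_card χ₁.2
    rw [charDegree_eq hd₁] at hχ₁e
    rw [← hχ₁e, ha]
    exact (Nat.factorization_le_iff_dvd hpos₁.ne' Nat.card_pos.ne').mpr hdvd₁ p
  -- x is a p-element commuting with y
  have hxy : (x : G) * y = y * (x : G) := ((Subgroup.mem_centralizer_iff.mp x.2) y rfl).symm
  obtain ⟨kx, hkx⟩ := P.isPGroup' ⟨x, hx⟩
  have hxpow : (x : G) ^ p ^ kx = 1 := by
    have h1 := congrArg Subtype.val hkx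
    have h2 := congrArg Subtype.val h1
    simpa using h2
  -- general fact: height zero characters do not vanish mod M at elements with large centralizer
  have key : ∀ (χ : Cfsg.IrrCharacter G) (z : G),
      (Cfsg.charDegree (χ : G → ℂ)).factorization p = e →
      a - e ≤ (Nat.card (Subgroup.centralizer ({z} : Set G))).factorization p →
      Cfsg.MemLocalIdeal M (Cfsg.centralChar (χ : G → ℂ) z) →
      Cfsg.MemLocalIdeal M ((χ : G → ℂ) z) := by
    intro χ z hχe hz hω
    obtain ⟨d, hd, -, hpos⟩ := irr_degree_dvd_card χ.2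
    rw [charDegree_eq hd] at hχe
    obtain ⟨n, hn⟩ : p ^ e ∣ d := hχe ▸ Nat.ordProj_dvd _ _
    obtain ⟨C, hC⟩ : ∃ C : Subgroup G, C = Subgroup.centralizer ({z} : Set G) := ⟨_, rfl⟩
    rw [← hC] at hz
    have hGC : Nat.card G = C.index * Nat.card C := (Subgroup.index_mul_card C).symm
    have hidx0 : C.index ≠ 0 := Subgroup.index_ne_zero_of_finite
    have hC0 : Nat.card C ≠ 0 := Nat.card_pos.ne'
    have hfac : a = (C.index).factorization p + (Nat.card C).factorization p := by
      rw [ha, hGC, Nat.factorization_mul hidx0 hC0]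
      rfl
    obtain ⟨f, hf⟩ : ∃ f, f = (C.index).factorization p := ⟨_, rfl⟩
    have hfe : f ≤ e := by omega
    obtain ⟨k', hk'⟩ : p ^ f ∣ C.index := hf ▸ Nat.ordProj_dvd _ _
    have hk'p : ¬ p ∣ k' := by
      intro h
      have h2 : p ^ (f + 1) ∣ C.index := by
        rw [hk', pow_succ]
        exact mul_dvd_mul_left _ h
      rw [hf] at h2
      exact Nat.pow_succ_factorization_not_dvd hidx0 hp h2
    have hk'0 : (k' : ℂ) ≠ 0 := by
      have : k' ≠ 0 := by
        intro h
        rw [h, mul_zero] at hk'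
        exact hidx0 hk'
      exact_mod_cast this
    have h1 : (χ : G → ℂ) z = (((p ^ (e - f) * n : ℕ) : ℂ) / (k' : ℂ))
        * Cfsg.centralChar (χ : G → ℂ) z := by
      unfold Cfsg.centralChar
      rw [← hC, hk', hd, hn]
      have hd0 : ((p ^ e * n : ℕ) : ℂ) ≠ 0 := by
        have : p ^ e * n ≠ 0 := by
          rw [← hn]
          exact hpos.ne'
        exact_mod_cast this
      have hpe : (p : ℂ) ^ e = (p : ℂ) ^ (e - f) * (p : ℂ) ^ f := by
        rw [← pow_add, Nat.sub_add_cancel hfe]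
      have hpf0 : (p : ℂ) ^ f ≠ 0 := pow_ne_zero _ hp0
      have hpef0 : (p : ℂ) ^ (e - f) ≠ 0 := pow_ne_zero _ hp0
      push_cast at hd0 ⊢
      rw [hpe] at hd0 ⊢
      have hn0 : (n : ℂ) ≠ 0 := right_ne_zero_of_mul hd0
      field_simp
    rw [h1]
    apply memLocalIdeal_mul_localRing _ hω
    refine ⟨((p ^ (e - f) * n : ℕ) : Cfsg.AlgInt), (k' : Cfsg.AlgInt), ?_, ?_⟩
    · rw [natCast_mem_iff hM]
      exact hk'p
    · push_cast
      rfl
  -- part (a) in general form
  have parta : ∀ χ ∈ B, (Cfsg.charDegree (χ : G → ℂ)).factorization p = e →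
      ¬ Cfsg.MemLocalIdeal M ((χ : G → ℂ) ((x : G) * y)) := by
    intro χ hχ hχe hmem
    have h1 : ¬ Cfsg.MemLocalIdeal M ((χ : G → ℂ) y) := by
      intro h2
      apply hy.2.2 χ hχ
      obtain ⟨d, hd, -, hpos⟩ := irr_degree_dvd_card χ.2
      -- ω_χ(y) = (index/χ(1)) χ(y), with index/χ(1) local
      obtain ⟨C, hC⟩ : ∃ C : Subgroup G, C = Subgroup.centralizer ({y} : Set G) := ⟨_, rfl⟩
      rw [← hC] at hdefect
      have hGC : Nat.card G = C.index * Nat.card C := (Subgroup.index_mul_card C).symm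
      have hidx0 : C.index ≠ 0 := Subgroup.index_ne_zero_of_finite
      have hC0 : Nat.card C ≠ 0 := Nat.card_pos.ne'
      have hfac : a = (C.index).factorization p + (Nat.card C).factorization p := by
        rw [ha, hGC, Nat.factorization_mul hidx0 hC0]
        rfl
      have hidx : (C.index).factorization p = e := by omega
      obtain ⟨k', hk'⟩ : p ^ e ∣ C.index := hidx ▸ Nat.ordProj_dvd _ _
      have hχe' := hχe
      rw [charDegree_eq hd] at hχe'
      obtain ⟨n, hn⟩ : p ^ e ∣ d := hχe' ▸ Nat.ordProj_dvd _ _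
      have hnp : ¬ p ∣ n := by
        intro h
        have h3 : p ^ (e + 1) ∣ d := by
          rw [hn, pow_succ]
          exact mul_dvd_mul_left _ h
        rw [← hχe'] at h3
        exact Nat.pow_succ_factorization_not_dvd hpos.ne' hp h3
      have hn0 : (n : ℂ) ≠ 0 := by
        have : n ≠ 0 := by
          intro h
          rw [h, mul_zero] at hn
          omega
        exact_mod_cast this
      have h3 : Cfsg.centralChar (χ : G → ℂ) y = ((k' : ℂ) / (n : ℂ)) * (χ : G → ℂ) y := by
        unfold Cfsg.centralChar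
        rw [← hC, hk', hd, hn]
        have hpe0 : (p : ℂ) ^ e ≠ 0 := pow_ne_zero _ hp0
        push_cast
        field_simp
      rw [h3]
      apply memLocalIdeal_mul_localRing _ h2
      refine ⟨(k' : Cfsg.AlgInt), (n : Cfsg.AlgInt), ?_, ?_⟩
      · rw [natCast_mem_iff hM]
        exact hnp
      · push_cast
        rfl
    obtain ⟨w, hw, hweq⟩ := exists_mem_sub_eq (isCharacter_of_isIrrCharacter χ.2) hM (x : G) y kx
      hxpow hxy
    apply h1
    have h4 : (χ : G → ℂ) y = (χ : G → ℂ) ((x : G) * y) - (w : ℂ) := by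
      rw [hweq]
      ring
    rw [h4]
    exact memLocalIdeal_sub hmem (memLocalIdeal_of_mem hw hMtop)
  constructor
  · intro χ hχ hht
    apply parta χ hχ
    unfold Cfsg.blockHeight at hht
    rw [← he] at hht
    have := hle χ hχ
    omega
  · intro hcent χ hχ hmem
    -- reduce to χ₁
    have hsame : Cfsg.SameBlock M (χ : G → ℂ) (χ₁ : G → ℂ) := by
      rw [hBeq] at hχ hχ₁
      exact sameBlock_trans (sameBlock_symm hχ) hχ₁
    have h1 : Cfsg.MemLocalIdeal M (Cfsg.centralChar (χ₁ : G → ℂ) ((x : G) * y)) := by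
      have h2 := memLocalIdeal_sub hmem (hsame ((x : G) * y))
      rwa [sub_sub_cancel] at h2
    apply parta χ₁ hχ₁ hχ₁e
    apply key χ₁ ((x : G) * y) hχ₁e _ h1
    -- the image of P centralizes x * y
    obtain ⟨P', hP'⟩ : ∃ P' : Subgroup G, P' = (P : Subgroup (Subgroup.centralizer
      ({y} : Set G))).map (Subgroup.centralizer ({y} : Set G)).subtype := ⟨_, rfl⟩
    have hP'card : Nat.card P' = p ^ (a - e) := by
      rw [hP', Subgroup.card_map_of_injective (Subgroup.subtype_injective _), ← hdefect]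
      exact Sylow.card_eq_multiplicity P
    have hP'le : P' ≤ Subgroup.centralizer ({(x : G) * y} : Set G) := by
      intro w hw
      rw [hP'] at hw
      obtain ⟨c, hc, rfl⟩ := hw
      rw [Subgroup.mem_centralizer_iff]
      intro z hz
      rw [Set.mem_singleton_iff] at hz
      rw [hz]
      have h3 : y * (c : G) = (c : G) * y := (Subgroup.mem_centralizer_iff.mp c.2) y rfl
      have h4 : (x : G) * (c : G) = (c : G) * (x : G) := by
        have := hcent c hc
        exact congrArg Subtype.val this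
      show (x : G) * y * (c : G) = (c : G) * ((x : G) * y)
      rw [mul_assoc, h3, ← mul_assoc, h4, mul_assoc]
    have h5 := Subgroup.card_dvd_of_le hP'le
    rw [hP'card] at h5
    exact (Nat.Prime.pow_dvd_iff_le_factorization hp Nat.card_pos.ne').mp h5

end Cfsg.Agent.S0927
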