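import Mathlib
import Cfsg.Statements.S0928
import Cfsg.Agent.Lib.helper3.DeficiencyClass2
import Cfsg.Agent.Lib.helper3.LocalM3
import Cfsg.Agent.Lib.helper3.ProjVanish6
import Cfsg.Agent.Lib.helper3.IndBlockLocal
import Cfsg.Agent.Lib.helper3.RankOne2
import Cfsg.Agent.S0908
import Cfsg.Agent.Lib.helper3.Degrees

set_option autoImplicit false
open Cfsg

namespace Cfsg.Agent.S0928

set_option linter.style.haveILetI false

open Cfsg Cfsg.Agent.Lib.helper3.Block Cfsg.Agent.Lib.helper3.LocalM Cfsg.Agent.Lib.helper3.Irr Cfsg.Agent.Lib.helper3.CharBasic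

/-- Let χ be an irreducible character of the finite group G and p a prime. If χ g = 0 for every element g of order p, then the exponent of p in the degree χ(1) equals the exponent of p in the order of G (χ has p-defect zero). -/
theorem result {G : Type*} [Group G] [Finite G] (p : ℕ) [Fact p.Prime] (χ : Cfsg.IrrCharacter G) (hvan : ∀ g : G, orderOf g = p → (χ : G → ℂ) g = 0) : (Cfsg.charDegree (χ : G → ℂ)).factorization p = (Nat.card G).factorization p := by
  classical
  haveI : Fintype G := Fintype.ofFinite G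
  have hp : p.Prime := Fact.out
  obtain ⟨M, hM⟩ := exists_isPModular p hp
  haveI hMp := isPrime_of_isPModular hM
  have hMtop : M ≠ ⊤ := hM.2.1.ne_top
  by_contra hne
  obtain ⟨B, hBdef⟩ : ∃ B : Set (IrrCharacter G), B = blockOf M (χ : G → ℂ) := ⟨_, rfl⟩
  have hB : IsPBlock M B := ⟨χ, hBdef⟩
  have hχB : χ ∈ B := by
    rw [hBdef]
    exact sameBlock_refl hMtop _
  have hle : (charDegree (χ : G → ℂ)).factorization p ≤ (Nat.card G).factorization p := by
    obtain ⟨d, hd1, hddvd, hdpos⟩ := Cfsg.Agent.Lib.helper3.Central.irr_degree_dvd_card χ.2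
    have hcd : charDegree (χ : G → ℂ) = d := charDegree_eq hd1
    rw [hcd]
    exact (Nat.factorization_le_iff_dvd hdpos.ne' Nat.card_pos.ne').2 hddvd p
  have hdpos : 0 < blockDefect p B := by
    rw [blockDefect_eq]
    have := minExp_le (p := p) hχB
    omega
  -- a defect group and a central element of order `p`
  obtain ⟨g₀, hg₀⟩ := exists_defectClass hM B hB
  obtain ⟨P⟩ : Nonempty (Sylow p (Subgroup.centralizer ({g₀} : Set G))) := inferInstance
  obtain ⟨D, hDdef⟩ : ∃ D : Subgroup G, D = (P : Subgroup (Subgroup.centralizer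
    ({g₀} : Set G))).map (Subgroup.centralizer ({g₀} : Set G)).subtype := ⟨_, rfl⟩
  have hD : IsDefectGroup p M B D := ⟨g₀, hg₀, P, hDdef⟩
  have hDcard := Cfsg.Agent.S0908.result p M hM B hB D hD
  have hDp : IsPGroup p D := IsPGroup.of_card hDcard
  have hDnt : Nontrivial D := by
    rw [← Finite.one_lt_card_iff_nontrivial, hDcard]
    exact Nat.one_lt_pow (by omega) hp.one_lt
  have hZnt : Nontrivial (Subgroup.center D) := hDp.center_nontrivial
  have hZp : IsPGroup p (Subgroup.center D) := hDp.to_subgroup _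
  have hpZ : p ∣ Nat.card (Subgroup.center D) := by
    obtain ⟨n, hn⟩ := IsPGroup.iff_card.mp hZp
    have hn0 : n ≠ 0 := by
      rintro rfl
      rw [pow_zero] at hn
      have := Finite.one_lt_card_iff_nontrivial.mpr hZnt
      omega
    rw [hn]
    exact dvd_pow_self p hn0
  obtain ⟨z, hz⟩ := exists_prime_orderOf_dvd_card' p hpZ
  obtain ⟨y, hydef⟩ : ∃ y : G, y = ((z : D) : G) := ⟨_, rfl⟩
  have hyord : orderOf y = p := by
    rw [hydef, Subgroup.orderOf_coe, Subgroup.orderOf_coe, hz]
  have hyD : y ∈ D := by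
    rw [hydef]
    exact (z : D).2
  have hyZ : ∀ d ∈ D, d * y = y * d := by
    intro d hd
    have h1 := Subgroup.mem_center_iff.mp z.2 ⟨d, hd⟩
    have h2 := congrArg (fun t : D => (t : G)) h1
    rw [hydef]
    exact h2
  obtain ⟨b, hind, -⟩ := exists_induced_defect_ge hM B hB D hD y hyD hyZ 1
    (by rw [hyord, pow_one])
  have hyp : y ^ p = 1 := by rw [← hyord, pow_orderOf_eq_one]
  have hyH : y ∈ Subgroup.centralizer ({y} : Set G) :=
    Subgroup.mem_centralizer_singleton_iff.mpr rfl
  obtain ⟨yH, hyHdef⟩ : ∃ yH : Subgroup.centralizer ({y} : Set G), yH = ⟨y, hyH⟩ := ⟨_, rfl⟩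
  have hyHcent : yH ∈ Subgroup.center (Subgroup.centralizer ({y} : Set G)) := by
    rw [Subgroup.mem_center_iff]
    intro c
    apply Subtype.ext
    rw [hyHdef]
    exact Subgroup.mem_centralizer_singleton_iff.mp c.2
  have hyHord : orderOf yH = p := by
    rw [← Subgroup.orderOf_coe, hyHdef]
    exact hyord
  -- a character of `b` not trivial at `y`
  obtain ⟨ξ₀, hb0⟩ := id hind.1
  have hξ₀ : ξ₀ ∈ b := by
    rw [hb0]
    exact sameBlock_refl hMtop _
  have hbcl : ∀ θ ∈ b, blockOf M (θ : Subgroup.centralizer ({y} : Set G) → ℂ) ⊆ b := by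
    intro θ hθ ψ hψ
    rw [hb0] at hθ ⊢
    exact sameBlock_trans hθ hψ
  have hex : ∃ ξ ∈ b, (ξ : Subgroup.centralizer ({y} : Set G) → ℂ) yH
      ≠ (ξ : Subgroup.centralizer ({y} : Set G) → ℂ) 1 := by
    by_contra hall
    push Not at hall
    have hwbo := weak_block_orthogonality hM b hbcl (1 : Subgroup.centralizer ({y} : Set G)) yH
      (by rw [orderOf_one]; exact hp.not_dvd_one) (by rw [hyHord])
    have hsum : ∑ ξ : IrrCharacter (Subgroup.centralizer ({y} : Set G)),
        (if ξ ∈ b then (1 : ℂ) else 0)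
          * ((ξ : Subgroup.centralizer ({y} : Set G) → ℂ) 1
            * (starRingEnd ℂ) ((ξ : Subgroup.centralizer ({y} : Set G) → ℂ) yH))
        = ((∑ ξ : IrrCharacter (Subgroup.centralizer ({y} : Set G)),
          (if ξ ∈ b then (charDegree (ξ : Subgroup.centralizer ({y} : Set G) → ℂ)) ^ 2
            else 0) : ℕ) : ℂ) := by
      push_cast
      apply Finset.sum_congr rfl
      intro ξ _
      by_cases hξ : ξ ∈ b
      · rw [if_pos hξ, if_pos hξ, hall ξ hξ, apply_one_eq_charDegree ξ, map_natCast]
        push_cast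
        ring
      · rw [if_neg hξ, if_neg hξ, zero_mul]
    rw [hsum] at hwbo
    have h0 : (∑ ξ : IrrCharacter (Subgroup.centralizer ({y} : Set G)),
          (if ξ ∈ b then (charDegree (ξ : Subgroup.centralizer ({y} : Set G) → ℂ)) ^ 2
            else 0) : ℕ) = 0 := by exact_mod_cast hwbo
    have h1 := (Finset.sum_eq_zero_iff.mp h0) ξ₀ (Finset.mem_univ _)
    rw [if_pos hξ₀] at h1
    exact charDegree_ne_zero ξ₀ (pow_eq_zero_iff (two_ne_zero) |>.mp h1)
  obtain ⟨ξ, hξb, hξy⟩ := hex
  obtain ⟨c, -, hc⟩ := exists_integral_apply_central_mul ξ yH hyHcent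
  have hc1 : c ≠ 1 := by
    intro h
    apply hξy
    have := hc 1
    rw [mul_one, h, one_mul] at this
    exact this
  -- the class function counting solutions of `g ^ p = 1`
  obtain ⟨a, ha⟩ : ∃ a : G → ℂ, a = fun g : G => if g ^ p = 1 then (1 : ℂ) else 0 := ⟨_, rfl⟩
  have haloc : ∀ g, MemLocalRing M (a g) := by
    intro g
    rw [ha]
    beta_reduce
    split_ifs
    · exact memLocalRing_of_integral isIntegral_one
    · exact memLocalRing_of_integral isIntegral_zero
  have hacl : ∀ g x : G, a (x * g * x⁻¹) = a g := by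
    intro g x
    rw [ha]
    beta_reduce
    rw [conj_pow]
    have : x * g ^ p * x⁻¹ = 1 ↔ g ^ p = 1 := by
      constructor
      · intro h
        have h2 : g ^ p = x⁻¹ * (x * g ^ p * x⁻¹) * x := by group
        rw [h2, h]
        group
      · intro h
        rw [h]
        group
    simp only [this]
  have hcong := memLocalIdeal_sum_sub_of_induced (Subgroup.centralizer ({y} : Set G)) b B hind
    ξ hξb χ hχB a haloc hacl
  have hS : ∑ h : Subgroup.centralizer ({y} : Set G), a (h : G)
      * ((ξ : Subgroup.centralizer ({y} : Set G) → ℂ) h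
        / (ξ : Subgroup.centralizer ({y} : Set G) → ℂ) 1) = 0 := by
    have h2 : ∀ h : Subgroup.centralizer ({y} : Set G),
        a ((yH * h : Subgroup.centralizer ({y} : Set G)) : G) = a (h : G) := by
      intro h
      rw [ha]
      beta_reduce
      have hcm : Commute y (h : G) := (Subgroup.mem_centralizer_singleton_iff.mp h.2).symm
      have : ((yH * h : Subgroup.centralizer ({y} : Set G)) : G) ^ p = (h : G) ^ p := by
        rw [Subgroup.coe_mul, hyHdef]
        show (y * (h : G)) ^ p = _
        rw [hcm.mul_pow, hyp, one_mul]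
      rw [this]
    have h1 : ∑ h : Subgroup.centralizer ({y} : Set G), a (h : G)
        * ((ξ : Subgroup.centralizer ({y} : Set G) → ℂ) h
          / (ξ : Subgroup.centralizer ({y} : Set G) → ℂ) 1)
        = ∑ h : Subgroup.centralizer ({y} : Set G),
          a ((yH * h : Subgroup.centralizer ({y} : Set G)) : G)
            * ((ξ : Subgroup.centralizer ({y} : Set G) → ℂ) (yH * h)
              / (ξ : Subgroup.centralizer ({y} : Set G) → ℂ) 1) :=
      (Fintype.sum_equiv (Equiv.mulLeft yH) _ _ (fun h => rfl)).symm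
    have h3 : ∑ h : Subgroup.centralizer ({y} : Set G),
          a ((yH * h : Subgroup.centralizer ({y} : Set G)) : G)
            * ((ξ : Subgroup.centralizer ({y} : Set G) → ℂ) (yH * h)
              / (ξ : Subgroup.centralizer ({y} : Set G) → ℂ) 1)
        = c * ∑ h : Subgroup.centralizer ({y} : Set G), a (h : G)
          * ((ξ : Subgroup.centralizer ({y} : Set G) → ℂ) h
            / (ξ : Subgroup.centralizer ({y} : Set G) → ℂ) 1) := by
      rw [Finset.mul_sum]
      apply Finset.sum_congr rfl
      intro h _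
      rw [h2, hc]
      ring
    rw [h3] at h1
    have h4 : (1 - c) * ∑ h : Subgroup.centralizer ({y} : Set G), a (h : G)
        * ((ξ : Subgroup.centralizer ({y} : Set G) → ℂ) h
          / (ξ : Subgroup.centralizer ({y} : Set G) → ℂ) 1) = 0 := by
      rw [sub_mul, one_mul, ← h1, sub_self]
    rcases mul_eq_zero.mp h4 with h5 | h5
    · exact absurd (sub_eq_zero.mp h5).symm hc1
    · exact h5
  have hGsum : ∑ g : G, a g * ((χ : G → ℂ) g / (χ : G → ℂ) 1) = 1 := by
    rw [Finset.sum_eq_single (1 : G)]
    · rw [ha]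
      beta_reduce
      rw [one_pow, if_pos rfl, one_mul, div_self (apply_one_ne_zero χ.2)]
    · intro g _ hg1
      by_cases hg : g ^ p = 1
      · have hord : orderOf g = p := orderOf_eq_prime hg hg1
        rw [hvan g hord, zero_div, mul_zero]
      · rw [ha]
        beta_reduce
        rw [if_neg hg, zero_mul]
    · intro h
      exact absurd (Finset.mem_univ _) h
  rw [hS, hGsum, zero_sub] at hcong
  have := memLocalIdeal_neg hcong
  rw [neg_neg] at this
  exact not_memLocalIdeal_one this


end Cfsg.Agent.S0928
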