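import Mathlib
import Cfsg.Statements.S0929
import Cfsg.Agent.S0920
import Cfsg.Agent.S0908
import Cfsg.Agent.Lib.helper3.HeightZero5
import Cfsg.Agent.Lib.helper3.CentSupp2
import Cfsg.Agent.Lib.helper3.BlockMinMax3
import Cfsg.Agent.Lib.helper3.Inflate2
import Cfsg.Agent.Lib.helper3.DefectZero

set_option autoImplicit false
open Cfsg

namespace Cfsg.Agent.S0929

open Cfsg.Agent.Lib.helper3.Block Cfsg.Agent.Lib.helper3.LocalM Cfsg.Agent.Lib.helper3.Irr Cfsg.Agent.Lib.helper3.Central Cfsg.Agent.Lib.helper3.CharBasic Cfsg.Agent.Lib.helper3.BrauerInd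

set_option linter.style.haveILetI false

theorem aux {G : Type*} [Group G] [Fintype G] (p : ℕ) [Fact p.Prime] (M : Ideal Cfsg.AlgInt)
    (hM : Cfsg.IsPModular p M) (B : Set (Cfsg.IrrCharacter G)) (P : Subgroup G)
    (hPp : IsPGroup p P) (N : Subgroup G) (hPN : P ≤ N) (hNle : N ≤ Subgroup.normalizer (P : Set G))
    (b : Set (Cfsg.IrrCharacter N)) (hb : Cfsg.IsPBlock M b)
    (hDb : Cfsg.IsDefectGroup p M b (P.subgroupOf N)) (hind : Cfsg.IsInducedBlock M N b B)
    (g : G) (hg : ∃ χ ∈ B, ¬ Cfsg.MemLocalIdeal M (Cfsg.centralChar (χ : G → ℂ) g)) :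
    ∃ x : G, IsConj g x ∧ x ∈ Subgroup.centralizer (P : Set G) ∧
      ∀ z : G, Cfsg.IsPPart p x z → z ∈ P ∧ ∀ w ∈ P, z * w = w * z := by
  classical
  haveI hMp := isPrime_of_isPModular hM
  have hMtop : M ≠ ⊤ := hM.2.1.ne_top
  have hp : p.Prime := Fact.out
  letI : Fintype N := Fintype.ofFinite N
  obtain ⟨P', hP'def⟩ : ∃ P' : Subgroup N, P' = P.subgroupOf N := ⟨_, rfl⟩
  rw [← hP'def] at hDb
  haveI hP'n : P'.Normal := by
    rw [hP'def]
    exact (Subgroup.normal_subgroupOf_iff_le_normalizer hPN).mpr hNle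
  have hP'p : IsPGroup p P' := by
    rw [hP'def]
    exact hPp.comap_subtype
  obtain ⟨χ, hχ, hχg⟩ := hg
  obtain ⟨ξ, hξ⟩ : ∃ ξ : Cfsg.IrrCharacter N, ξ ∈ b := by
    obtain ⟨ξ, hξ⟩ := hb
    refine ⟨ξ, ?_⟩
    rw [hξ]
    exact sameBlock_refl hMtop _
  have hindg : ¬ Cfsg.MemLocalIdeal M (Cfsg.inducedCentralChar N (ξ : N → ℂ) g) := by
    intro h1
    apply hχg
    have h2 := memLocalIdeal_sub h1 (hind.2.2 ξ hξ χ hχ g)
    rw [sub_sub_cancel] at h2
    exact h2
  obtain ⟨l, hgl, hl⟩ := exists_conj_not_memLocalIdeal N ξ g hindg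
  -- `l` centralizes `P'`
  have hlC : l ∈ Subgroup.centralizer (P' : Set N) := by
    by_contra hcon
    exact hl (memLocalIdeal_centralChar_of_notMem_centralizer hM P' hP'p ξ l hcon)
  have hlcomm : ∀ w ∈ P, w * (l : G) = (l : G) * w := by
    intro w hw
    have h1 := Subgroup.mem_centralizer_iff.1 hlC ⟨w, hPN hw⟩
      (by rw [hP'def]; exact Subgroup.mem_subgroupOf.2 hw)
    exact congrArg Subtype.val h1
  -- a character of `b` trivial on `P'`
  obtain ⟨χ₁, hχ₁, n, ρ, hirr, hρ, hker⟩ := exists_mem_block_ker hM b hb P' hP'p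
  have hsame : Cfsg.SameBlock M (ξ : N → ℂ) (χ₁ : N → ℂ) := by
    obtain ⟨ξ₀, hξ₀⟩ := hb
    rw [hξ₀] at hξ hχ₁
    exact sameBlock_trans (sameBlock_symm hξ) hχ₁
  have hχ₁l : (χ₁ : N → ℂ) l ≠ 0 := by
    intro h0
    apply hl
    have h1 := hsame l
    have h2 : Cfsg.centralChar (χ₁ : N → ℂ) l = 0 := by
      unfold Cfsg.centralChar
      rw [h0, mul_zero, zero_div]
    rw [h2, sub_zero] at h1
    exact h1
  have hconst : ∀ g n : N, n ∈ P' → (χ₁ : N → ℂ) (g * n) = (χ₁ : N → ℂ) g := by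
    intro g n hn
    rw [← hρ]
    unfold Representation.character
    rw [map_mul, hker n hn]
    rfl
  obtain ⟨ψ, hψ, hχψ⟩ := exists_eq_inflate χ₁.2 P' hconst
  obtain ⟨m, σ, hσirr, hσ⟩ := id hψ
  haveI := hσirr
  -- the degree of `ψ` carries the full `p`-part of the order of the quotient
  obtain ⟨s, hs⟩ : ∃ s : ℕ, s = minExp p b := ⟨_, rfl⟩
  have hdegm : (ψ 1) = (m : ℂ) := by
    rw [← hσ, Representation.char_one]
    simp
  have hdeg1 : Cfsg.charDegree (χ₁ : N → ℂ) = m := by
    apply charDegree_eq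
    rw [hχψ, inflate_apply, QuotientGroup.mk_one, hdegm]
  have hsdvd : p ^ s ∣ m := by
    rw [hs, ← hdeg1]
    exact pow_minExp_dvd hχ₁
  have hcardP' : Nat.card P' = p ^ Cfsg.blockDefect p b := Cfsg.Agent.S0908.result p M hM b hb P' hDb
  have hsle : s ≤ (Nat.card N).factorization p := by
    rw [hs]
    exact minExp_le_factorization_card (p := p) hχ₁
  have hquot : ¬ p ^ (s + 1) ∣ Nat.card (N ⧸ P') := by
    intro hdvd
    have h1 : Nat.card N = Nat.card (N ⧸ P') * Nat.card P' :=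
      Subgroup.card_eq_card_quotient_mul_card_subgroup P'
    rw [hcardP', blockDefect_eq, ← hs] at h1
    obtain ⟨aN, haN⟩ : ∃ aN : ℕ, aN = (Nat.card N).factorization p := ⟨_, rfl⟩
    rw [← haN] at h1
    have h2 : p ^ (s + 1) * p ^ (aN - s) ∣ Nat.card N := by
      rw [h1]
      exact Nat.mul_dvd_mul_right hdvd _
    rw [← pow_add] at h2
    have h3 := (hp.pow_dvd_iff_le_factorization Nat.card_pos.ne').1 h2
    omega
  have hlreg : ¬ p ∣ orderOf ((l : N) : N ⧸ P') := by
    intro hdiv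
    have h1 := character_eq_zero_of_defect_zero σ p s hquot (by simpa using hsdvd) _ hdiv
    apply hχ₁l
    rw [hχψ, inflate_apply, ← hσ]
    exact h1
  -- conclusion
  refine ⟨(l : G), hgl, ?_, ?_⟩
  · rw [Subgroup.mem_centralizer_iff]
    intro w hw
    exact hlcomm w hw
  · rintro z ⟨y, hzy, hcomm, ⟨k, hk⟩, hy⟩
    -- `z` is a power of `l`
    have hcop : Nat.Coprime (orderOf y) (p ^ k) :=
      Nat.Coprime.pow_right k ((Nat.Coprime.symm ((Nat.Prime.coprime_iff_not_dvd hp).2 hy)))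
    obtain ⟨j, hj⟩ : ∃ j : ℕ, z = ((l : G) ^ (orderOf y)) ^ j := by
      have h1 : (l : G) ^ (orderOf y) = z ^ (orderOf y) := by
        rw [← hzy, hcomm.mul_pow, pow_orderOf_eq_one, mul_one]
      rw [h1]
      by_cases hk1 : p ^ k = 1
      · refine ⟨0, ?_⟩
        rw [pow_zero]
        rw [hk1] at hk
        exact orderOf_eq_one_iff.1 hk
      · have hk2 : 1 < p ^ k := by
          have : 0 < p ^ k := pow_pos hp.pos k
          omega
        obtain ⟨j, _, hj⟩ := Nat.exists_mul_mod_eq_one_of_coprime hcop hk2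
        refine ⟨j, ?_⟩
        rw [← pow_mul, ← pow_mod_orderOf, hk, hj, pow_one]
    obtain ⟨e, he⟩ : ∃ e : ℕ, z = (l : G) ^ e := ⟨orderOf y * j, by rw [hj, pow_mul]⟩
    constructor
    · -- the image of `z` in the quotient is trivial
      have hzN : z = ((l ^ e : N) : G) := by
        rw [he]
        rfl
      have h1 : ((l ^ e : N) : N ⧸ P') = 1 := by
        have h2 : orderOf ((l ^ e : N) : N ⧸ P') ∣ orderOf ((l : N) : N ⧸ P') := by
          rw [QuotientGroup.mk_pow]
          exact orderOf_pow_dvd e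
        have h3 : orderOf ((l ^ e : N) : N ⧸ P') ∣ p ^ k := by
          have h4 : orderOf ((l ^ e : N) : N ⧸ P') ∣ orderOf (l ^ e : N) :=
            orderOf_map_dvd (QuotientGroup.mk' P') (l ^ e)
          have h5 : orderOf (l ^ e : N) = orderOf z := by
            rw [hzN, Subgroup.orderOf_coe]
          rw [h5, hk] at h4
          exact h4
        obtain ⟨i, _, hi⟩ := (Nat.dvd_prime_pow hp).1 h3
        have h6 : i = 0 := by
          by_contra hi0
          apply hlreg
          refine dvd_trans ?_ h2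
          rw [hi]
          exact dvd_pow_self p hi0
        rw [h6, pow_zero] at hi
        exact orderOf_eq_one_iff.1 hi
      have h7 : (l ^ e : N) ∈ P' := (QuotientGroup.eq_one_iff _).1 h1
      rw [hP'def] at h7
      rw [hzN]
      exact Subgroup.mem_subgroupOf.1 h7
    · intro w hw
      rw [he]
      have h1 := hlcomm w hw
      exact ((Commute.pow_right (show Commute w (l : G) from h1) e).eq).symm


/-- Let B be a block of the finite group G with defect group P (relative to a maximal ideal M of the algebraic integers containing p), and let g be an element at which the central character of some member of B is not in the local ideal at M. Then some conjugate x of g centralizes P and has its p-part in the centre of P. -/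
theorem result {G : Type*} [Group G] [Finite G] (p : ℕ) [Fact p.Prime] (M : Ideal Cfsg.AlgInt) (hM : Cfsg.IsPModular p M) (B : Set (Cfsg.IrrCharacter G)) (hB : Cfsg.IsPBlock M B) (P : Subgroup G) (hP : Cfsg.IsDefectGroup p M B P) (g : G) (hg : ∃ χ ∈ B, ¬ Cfsg.MemLocalIdeal M (Cfsg.centralChar (χ : G → ℂ) g)) : ∃ x : G, IsConj g x ∧ x ∈ Subgroup.centralizer (P : Set G) ∧ ∀ z : G, Cfsg.IsPPart p x z → z ∈ P ∧ ∀ w ∈ P, z * w = w * z := by
  classical
  letI : Fintype G := Fintype.ofFinite G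
  have hPp : IsPGroup p P := by
    obtain ⟨g₀, _, S₀, rfl⟩ := hP
    exact S₀.isPGroup'.map _
  obtain ⟨b, ⟨hb, hDb, hind⟩, _⟩ := (Cfsg.Agent.S0920.result p M hM P hPp).2 B hB hP
  exact aux p M hM B P hPp (Subgroup.normalizer (P : Set G)) Subgroup.le_normalizer le_rfl b hb hDb
    hind g hg

end Cfsg.Agent.S0929
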