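import Mathlib
import Cfsg.Statements.S0930
import Cfsg.Agent.S0929
import Cfsg.Agent.S0876
import Cfsg.Agent.Lib.helper3.HeightZero5
import Cfsg.Agent.Lib.helper3.BlockMinMax3
import Cfsg.Agent.Lib.helper3.DefectOrder3

set_option autoImplicit false
open Cfsg

namespace Cfsg.Agent.S0930

open Cfsg.Agent.Lib.helper3.Block Cfsg.Agent.Lib.helper3.LocalM Cfsg.Agent.Lib.helper3.Irr Cfsg.Agent.Lib.helper3.Central Cfsg.Agent.Lib.helper3.CharBasic Cfsg.Agent.Lib.helper3.BrauerInd

set_option linter.style.haveILetI false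

theorem exists_pow_eq_of_coprime {G : Type*} [Group G] [Finite G] (a b : G) (hab : Commute a b)
    (hcop : Nat.Coprime (orderOf a) (orderOf b)) : ∃ e : ℕ, a = (a * b) ^ e := by
  have h1 : (a * b) ^ (orderOf b) = a ^ (orderOf b) := by
    rw [hab.mul_pow, pow_orderOf_eq_one, mul_one]
  by_cases h : orderOf a = 1
  · refine ⟨0, ?_⟩
    rw [pow_zero]
    exact orderOf_eq_one_iff.1 h
  · have h2 : 1 < orderOf a := by
      have := orderOf_pos a
      omega
    obtain ⟨j, _, hj⟩ := Nat.exists_mul_mod_eq_one_of_coprime hcop.symm h2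
    refine ⟨orderOf b * j, ?_⟩
    rw [pow_mul, h1, ← pow_mul, ← pow_mod_orderOf, hj, pow_one]

/-- Let H be a subgroup of the finite group G and fix a maximal ideal M of the algebraic integers containing the prime p. If the block b of H with defect group D induces the block B of G with defect group P, then every element of the centre of P is conjugate in G to an element of the centre of D. -/
theorem result {G : Type*} [Group G] [Finite G] (p : ℕ) [Fact p.Prime] (M : Ideal Cfsg.AlgInt) (hM : Cfsg.IsPModular p M) (H : Subgroup G) (b : Set (Cfsg.IrrCharacter H)) (B : Set (Cfsg.IrrCharacter G)) (hind : Cfsg.IsInducedBlock M H b B) (D : Subgroup H) (hD : Cfsg.IsDefectGroup p M b D) (P : Subgroup G) (hP : Cfsg.IsDefectGroup p M B P) (x : G) (hx : x ∈ P) (hxc : ∀ w ∈ P, x * w = w * x) : ∃ g : G, g * x * g⁻¹ ∈ D.map H.subtype ∧ ∀ w ∈ D.map H.subtype, (g * x * g⁻¹) * w = w * (g * x * g⁻¹) := by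
  classical
  letI : Fintype G := Fintype.ofFinite G
  haveI hMp := isPrime_of_isPModular hM
  have hMtop : M ≠ ⊤ := hM.2.1.ne_top
  have hp : p.Prime := Fact.out
  obtain ⟨hb, hB, hcong⟩ := id hind
  obtain ⟨y, hy, S, hPS⟩ := id hP
  -- `P` centralizes `y` and is a `p`-group
  have hPy : ∀ w ∈ P, w * y = y * w := by
    intro w hw
    rw [hPS] at hw
    obtain ⟨w', _, rfl⟩ := hw
    have := Subgroup.mem_centralizer_iff.1 w'.2 y (Set.mem_singleton y)
    exact this.symm
  have hPp : IsPGroup p P := by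
    rw [hPS]
    exact S.isPGroup'.map _
  obtain ⟨k, hk⟩ : ∃ k : ℕ, orderOf x = p ^ k := by
    obtain ⟨k, hk⟩ := hPp ⟨x, hx⟩
    have h1 : x ^ p ^ k = 1 := by
      have := congrArg Subtype.val hk
      rwa [Subgroup.coe_pow] at this
    obtain ⟨i, _, hi⟩ := (Nat.dvd_prime_pow hp).1 (orderOf_dvd_of_pow_eq_one h1)
    exact ⟨i, hi⟩
  have hyreg : ¬ p ∣ orderOf y := by
    intro hdiv
    apply hy.2.1
    rw [blockCoeff_eq_zero_of_dvd hM B hB y hdiv]
    exact memLocalIdeal_zero hMtop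
  have hcomm : Commute x y := hPy x hx
  have hcop : Nat.Coprime (orderOf x) (orderOf y) := by
    rw [hk]
    exact Nat.Coprime.pow_left k ((Nat.Prime.coprime_iff_not_dvd hp).2 hyreg)
  obtain ⟨e, he⟩ := exists_pow_eq_of_coprime x y hcomm hcop
  obtain ⟨e', he'⟩ := exists_pow_eq_of_coprime y x hcomm.symm hcop.symm
  rw [← hcomm.eq] at he'
  -- congruence of character values
  have hval : ∀ χ : Cfsg.IrrCharacter G,
      Cfsg.MemLocalIdeal M ((χ : G → ℂ) (x * y) - (χ : G → ℂ) y) := by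
    have h1 : Cfsg.IsPPart p (x * y) x := ⟨y, rfl, hcomm, ⟨k, hk⟩, hyreg⟩
    have h2 : Cfsg.IsPPart p y 1 :=
      ⟨y, one_mul y, Commute.one_left y, ⟨0, by rw [orderOf_one, pow_zero]⟩, hyreg⟩
    apply (Cfsg.Agent.S0876.result p M hM (x * y) y x 1 h1 h2).1
    have : x⁻¹ * (x * y) = 1⁻¹ * y := by group
    rw [this]
  -- a character of height zero
  obtain ⟨χ₁, hχ₁B'⟩ := id hB
  have hχ₁B : χ₁ ∈ B := by
    rw [hχ₁B']
    exact sameBlock_refl hMtop _
  obtain ⟨χ, hχ, hht⟩ := exists_minExp (p := p) ⟨χ₁, hχ₁B⟩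
  obtain ⟨s, hs⟩ : ∃ s : ℕ, s = minExp p B := ⟨_, rfl⟩
  rw [← hs] at hht
  obtain ⟨Cy, hCy⟩ : ∃ Cy : Subgroup G, Cy = Subgroup.centralizer ({y} : Set G) := ⟨_, rfl⟩
  obtain ⟨Cxy, hCxy⟩ : ∃ Cxy : Subgroup G, Cxy = Subgroup.centralizer ({x * y} : Set G) :=
    ⟨_, rfl⟩
  have hle : Cxy ≤ Cy := by
    intro w hw
    rw [hCxy, Subgroup.mem_centralizer_iff] at hw
    rw [hCy, Subgroup.mem_centralizer_iff]
    intro v hv
    rw [Set.mem_singleton_iff] at hv
    rw [hv, he']
    have h1 : Commute (x * y) w := hw (x * y) (Set.mem_singleton _)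
    exact (h1.pow_left e').eq
  have hPle : P ≤ Cxy := by
    intro w hw
    rw [hCxy, Subgroup.mem_centralizer_iff]
    intro v hv
    rw [Set.mem_singleton_iff] at hv
    rw [hv, mul_assoc, ← hPy w hw, ← mul_assoc, hxc w hw, mul_assoc]
  -- the relative index is prime to `p`
  obtain ⟨r, hr⟩ : ∃ r : ℕ, r = Cxy.relIndex Cy := ⟨_, rfl⟩
  have hidx : Cxy.index = r * Cy.index := by
    rw [hr]
    exact (Subgroup.relIndex_mul_index hle).symm
  have hfacCy : (Nat.card Cy).factorization p = Cfsg.blockDefect p B := by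
    rw [hCy]
    exact factorization_centralizer_of_isDefectClass hM B hB y hy
  have hcardP : Nat.card P = p ^ (Nat.card Cy).factorization p := by
    rw [hPS, Subgroup.card_map_of_injective (Subgroup.subtype_injective _), hCy]
    exact Sylow.card_eq_multiplicity S
  have hrp : ¬ p ∣ r := by
    intro hdiv
    have h1 : Nat.card Cy = r * Nat.card Cxy := by
      have e1 : Nat.card G = Nat.card Cxy * Cxy.index := (Subgroup.card_mul_index Cxy).symm
      have e2 : Nat.card G = Nat.card Cy * Cy.index := (Subgroup.card_mul_index Cy).symm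
      rw [hidx] at e1
      have e3 : Nat.card Cy * Cy.index = (r * Nat.card Cxy) * Cy.index := by
        rw [← e2, e1]
        ring
      exact Nat.eq_of_mul_eq_mul_right (Nat.pos_of_ne_zero Subgroup.index_ne_zero_of_finite) e3
    have h2 : Nat.card P ∣ Nat.card Cxy := Subgroup.card_dvd_of_le hPle
    obtain ⟨f, hf⟩ : ∃ f : ℕ, f = (Nat.card Cy).factorization p := ⟨_, rfl⟩
    rw [← hf] at hcardP
    have h3 : p ^ (f + 1) ∣ Nat.card Cy := by
      rw [h1, pow_succ, mul_comm]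
      rw [hcardP] at h2
      exact Nat.mul_dvd_mul hdiv h2
    have h4 := (hp.pow_dvd_iff_le_factorization Nat.card_pos.ne').1 h3
    omega
  -- the class size of `y` and the degree of `χ` have the same `p`-part
  have hsle : s ≤ (Nat.card G).factorization p := by
    rw [hs]
    exact minExp_le_factorization_card (p := p) hχ
  have hfacidx : (Cy.index).factorization p = s := by
    have h1 : Nat.card G = Nat.card Cy * Cy.index := (Subgroup.card_mul_index Cy).symm
    have h2 : (Nat.card G).factorization p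
        = (Nat.card Cy).factorization p + (Cy.index).factorization p := by
      rw [h1, Nat.factorization_mul Nat.card_pos.ne' Subgroup.index_ne_zero_of_finite]
      rfl
    rw [hfacCy, blockDefect_eq, ← hs] at h2
    omega
  obtain ⟨c, hc⟩ : ∃ c : ℕ, c = Cy.index := ⟨_, rfl⟩
  obtain ⟨d, hd⟩ : ∃ d : ℕ, d = Cfsg.charDegree (χ : G → ℂ) := ⟨_, rfl⟩
  have hd0 : d ≠ 0 := by
    rw [hd]
    exact charDegree_ne_zero χ
  have hc0 : c ≠ 0 := by
    rw [hc]
    exact Subgroup.index_ne_zero_of_finite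
  obtain ⟨c', hc'⟩ : ∃ c' : ℕ, c' = c / p ^ s := ⟨_, rfl⟩
  obtain ⟨d', hd'⟩ : ∃ d' : ℕ, d' = d / p ^ s := ⟨_, rfl⟩
  have hcc : c = p ^ s * c' := by
    rw [hc', ← hfacidx, ← hc]
    exact (Nat.ordProj_mul_ordCompl_eq_self c p).symm
  have hdd : d = p ^ s * d' := by
    rw [hd', ← hht, ← hd]
    exact (Nat.ordProj_mul_ordCompl_eq_self d p).symm
  have hd'p : ¬ p ∣ d' := by
    rw [hd', ← hht, ← hd]
    exact Nat.not_dvd_ordCompl hp hd0
  have hd'0 : (d' : ℂ) ≠ 0 := by
    have : d' ≠ 0 := by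
      intro h0
      apply hd'p
      rw [h0]
      exact dvd_zero p
    exact_mod_cast this
  have hquotR : Cfsg.MemLocalRing M ((c' : ℂ) / (d' : ℂ)) := by
    refine ⟨(c' : Cfsg.AlgInt), (d' : Cfsg.AlgInt), ?_, ?_⟩
    · intro h
      exact hd'p ((natCast_mem_iff hM d').1 h)
    · simp
  have hχ1 : (χ : G → ℂ) 1 = (d : ℂ) := by
    rw [hd]
    exact apply_one_eq_charDegree χ
  have hnot : ¬ Cfsg.MemLocalIdeal M (Cfsg.centralChar (χ : G → ℂ) (x * y)) := by
    intro hcon
    have h1 : Cfsg.centralChar (χ : G → ℂ) (x * y)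
        = (r : ℂ) * Cfsg.centralChar (χ : G → ℂ) y
          + ((r : ℂ) * ((c' : ℂ) / (d' : ℂ))) * ((χ : G → ℂ) (x * y) - (χ : G → ℂ) y) := by
      unfold Cfsg.centralChar
      rw [← hCy, ← hCxy, hidx, ← hc, hχ1]
      have hps : ((p ^ s : ℕ) : ℂ) ≠ 0 := by
        exact_mod_cast (pow_pos hp.pos s).ne'
      have hq : (c : ℂ) / (d : ℂ) = (c' : ℂ) / (d' : ℂ) := by
        rw [hcc, hdd]
        push_cast
        rw [mul_div_mul_left _ _ (by exact_mod_cast hps)]
      rw [← hq]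
      push_cast
      ring
    have hrR : Cfsg.MemLocalRing M (r : ℂ) := by
      apply memLocalRing_of_integral
      have := isIntegral_algebraMap (R := ℤ) (A := ℂ) (x := (r : ℤ))
      simpa using this
    have h2 : Cfsg.MemLocalIdeal M
        (((r : ℂ) * ((c' : ℂ) / (d' : ℂ))) * ((χ : G → ℂ) (x * y) - (χ : G → ℂ) y)) :=
      memLocalIdeal_mul_localRing (memLocalRing_mul hrR hquotR) (hval χ)
    have h3 : Cfsg.MemLocalIdeal M ((r : ℂ) * Cfsg.centralChar (χ : G → ℂ) y) := by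
      have h4 := memLocalIdeal_sub hcon h2
      rw [h1, add_sub_cancel_right] at h4
      exact h4
    have hrint : IsIntegral ℤ (r : ℂ) := by
      have := isIntegral_algebraMap (R := ℤ) (A := ℂ) (x := (r : ℤ))
      simpa using this
    rcases memLocalIdeal_or_of_mul hrint (isIntegral_centralChar χ.2 y) h3 with h5 | h5
    · have h6 : Cfsg.MemLocalIdeal M (((r : Cfsg.AlgInt) : Cfsg.AlgInt) : ℂ) := by
        convert h5 using 1
        simp
      exact hrp ((natCast_mem_iff hM r).1 (mem_of_memLocalIdeal h6))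
    · exact hy.2.2 χ hχ h5
  -- pass to `H`
  obtain ⟨ξ, hξ⟩ : ∃ ξ : Cfsg.IrrCharacter H, ξ ∈ b := by
    obtain ⟨ξ, hξ⟩ := hb
    refine ⟨ξ, ?_⟩
    rw [hξ]
    exact sameBlock_refl hMtop _
  have hindg : ¬ Cfsg.MemLocalIdeal M (Cfsg.inducedCentralChar H (ξ : H → ℂ) (x * y)) := by
    intro h1
    apply hnot
    have h2 := memLocalIdeal_sub h1 (hcong ξ hξ χ hχ (x * y))
    rw [sub_sub_cancel] at h2
    exact h2
  obtain ⟨l, hgl, hl⟩ := exists_conj_not_memLocalIdeal H ξ (x * y) hindg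
  obtain ⟨x', hlx', hx'C, hx'P⟩ := Cfsg.Agent.S0929.result p M hM b hb D hD l ⟨ξ, hξ, hl⟩
  obtain ⟨t₁, ht₁⟩ := isConj_iff.1 hgl
  obtain ⟨t₂, ht₂⟩ := isConj_iff.1 hlx'
  obtain ⟨t, ht⟩ : ∃ t : G, t = (t₂ : G) * t₁ := ⟨_, rfl⟩
  have htx' : t * (x * y) * t⁻¹ = (x' : G) := by
    rw [ht, ← ht₂]
    have : ((t₂ * l * t₂⁻¹ : H) : G) = (t₂ : G) * (l : G) * (t₂ : G)⁻¹ := rfl
    rw [this, ← ht₁]
    group
  have hpow : ∀ j : ℕ, ((x' ^ j : H) : G) = t * (x * y) ^ j * t⁻¹ := by
    intro j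
    rw [Subgroup.coe_pow, ← htx', conj_pow]
  have hz' : ((x' ^ e : H) : G) = t * x * t⁻¹ := by
    rw [hpow, ← he]
  have hy' : ((x' ^ e' : H) : G) = t * y * t⁻¹ := by
    rw [hpow, ← he']
  have hppart : Cfsg.IsPPart p x' (x' ^ e) := by
    refine ⟨x' ^ e', ?_, ?_, ⟨k, ?_⟩, ?_⟩
    · apply Subtype.ext
      rw [Subgroup.coe_mul, hz', hy', ← htx']
      group
    · exact Commute.pow_pow_self x' e e'
    · rw [← Subgroup.orderOf_coe, hz', ← hk]
      have : t * x * t⁻¹ = MulAut.conj t x := rfl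
      rw [this, MulEquiv.orderOf_eq]
    · rw [← Subgroup.orderOf_coe, hy']
      have : t * y * t⁻¹ = MulAut.conj t y := rfl
      rw [this, MulEquiv.orderOf_eq]
      exact hyreg
  obtain ⟨hzD, hzc⟩ := hx'P (x' ^ e) hppart
  refine ⟨t, ?_, ?_⟩
  · rw [← hz']
    exact ⟨_, hzD, rfl⟩
  · rintro w ⟨w', hw', rfl⟩
    rw [← hz']
    have := hzc w' hw'
    exact congrArg Subtype.val this

end Cfsg.Agent.S0930
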