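import Mathlib
import Cfsg.Statements.S0931
import Cfsg.Agent.Lib.helper3.DefectOrder3
import Cfsg.Agent.Lib.helper3.BlockMinMax3
import Cfsg.Agent.Lib.helper3.BlockInd
import Cfsg.Agent.Lib.helper3.HallNilp
import Cfsg.Agent.S0914
import Cfsg.Agent.S0927
import Cfsg.Agent.S0908

set_option autoImplicit false
open Cfsg

namespace Cfsg.Agent.S0931

open Cfsg.Agent.Lib.helper3.Block Cfsg.Agent.Lib.helper3.LocalM Cfsg.Agent.Lib.helper3.Central
open Cfsg.Agent.Lib.helper3.Irr Cfsg.Agent.Lib.helper3.CharBasic Cfsg.Agent.Lib.helper3.HallNilp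
set_option linter.style.haveILetI false

/-- Let H be a subgroup of the finite group G and fix a maximal ideal M of the algebraic integers containing the prime p. If the block b of H induces the block B of G, then b has defect 0 if and only if B has defect 0. -/
theorem result {G : Type*} [Group G] [Finite G] (p : ℕ) [Fact p.Prime] (M : Ideal Cfsg.AlgInt) (hM : Cfsg.IsPModular p M) (H : Subgroup G) (b : Set (Cfsg.IrrCharacter H)) (B : Set (Cfsg.IrrCharacter G)) (hind : Cfsg.IsInducedBlock M H b B) : Cfsg.blockDefect p b = 0 ↔ Cfsg.blockDefect p B = 0 := by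
  classical
  letI : Fintype G := Fintype.ofFinite G
  letI : Fintype H := Fintype.ofFinite H
  haveI hMp := isPrime_of_isPModular hM
  have hMtop : M ≠ ⊤ := hM.2.1.ne_top
  have hp : p.Prime := hM.1
  obtain ⟨hb, hB, hcong⟩ := id hind
  constructor
  · intro hb0
    by_contra hne
    have hdpos : 0 < Cfsg.blockDefect p B := Nat.pos_of_ne_zero hne
    -- a character of `b` vanishing on the `p`-singular elements
    obtain ⟨ξ₀, hbeq⟩ := id hb
    have hξ₀ : ξ₀ ∈ b := by
      rw [hbeq]
      exact sameBlock_refl hMtop _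
    have hne' : ((fun χ : Cfsg.IrrCharacter H =>
        (Cfsg.charDegree (χ : H → ℂ)).factorization p) '' b).Nonempty := ⟨_, ξ₀, hξ₀, rfl⟩
    obtain ⟨ξ₁, hξ₁, hξ₁e⟩ := Nat.sInf_mem hne'
    beta_reduce at hξ₁e
    obtain ⟨d₁, hd₁, hdvd₁, hpos₁⟩ := irr_degree_dvd_card ξ₁.2
    have hcd₁ := charDegree_eq hd₁
    have hfull : (Nat.card H).factorization p ≤ d₁.factorization p := by
      unfold Cfsg.blockDefect at hb0
      rw [← hξ₁e, hcd₁] at hb0
      omega
    have hndvd : ¬ p ∣ Nat.card H / Cfsg.charDegree (ξ₁ : H → ℂ) := by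
      rw [hcd₁]
      intro hdiv
      have h1 : p ^ (d₁.factorization p + 1) ∣ Nat.card H := by
        have h2 := mul_dvd_mul (Nat.ordProj_dvd d₁ p) hdiv
        rw [Nat.mul_div_cancel' hdvd₁] at h2
        rw [pow_succ]
        exact h2
      have h3 := (Nat.Prime.pow_dvd_iff_le_factorization hp Nat.card_pos.ne').mp h1
      omega
    have hblock := (Cfsg.Agent.S0914.result p M hM ξ₁).mp hndvd
    have hS : ∀ θ ∈ ({ξ₁} : Set (Cfsg.IrrCharacter H)),
        Cfsg.blockOf M (θ : H → ℂ) ⊆ ({ξ₁} : Set (Cfsg.IrrCharacter H)) := by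
      intro θ hθ
      rw [Set.mem_singleton_iff] at hθ
      rw [hθ, hblock]
    have hvan : ∀ h : H, p ∣ orderOf h → (ξ₁ : H → ℂ) h = 0 := by
      intro h hh
      have h1 := weak_block_orthogonality hM {ξ₁} hS 1 h
        (by rw [orderOf_one]; exact hp.one_lt.ne' ∘ Nat.dvd_one.mp) hh
      rw [Finset.sum_eq_single ξ₁] at h1
      · rw [if_pos (Set.mem_singleton ξ₁), one_mul] at h1
        rcases mul_eq_zero.mp h1 with h2 | h2
        · exact absurd h2 (apply_one_ne_zero ξ₁.2)
        · simpa using h2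
      · intro φ _ hne
        rw [if_neg (by simpa using hne), zero_mul]
      · intro h
        exact absurd (Finset.mem_univ _) h
    -- a defect class of `B`
    obtain ⟨g, hg⟩ := exists_defectClass hM B hB
    have hgp : ¬ p ∣ orderOf g := by
      intro hgp
      apply hg.2.1
      rw [blockCoeff_eq_zero_of_dvd hM B hB g hgp]
      exact memLocalIdeal_zero hMtop
    obtain ⟨P₀⟩ : Nonempty (Sylow p (Subgroup.centralizer ({g} : Set G))) := inferInstance
    have hcard : Nat.card P₀ = p ^ Cfsg.blockDefect p B := by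
      rw [← factorization_centralizer_of_isDefectClass hM B hB g hg]
      exact Sylow.card_eq_multiplicity P₀
    haveI : Nontrivial P₀ := by
      rw [← Finite.one_lt_card_iff_nontrivial, hcard]
      exact Nat.one_lt_pow hne hp.one_lt
    haveI := P₀.isPGroup'.center_nontrivial
    obtain ⟨z, hz⟩ := exists_ne (1 : Subgroup.center P₀)
    obtain ⟨x, hxdef⟩ : ∃ x : Subgroup.centralizer ({g} : Set G), x = ((z : P₀) : _) := ⟨_, rfl⟩
    have hxP : x ∈ (P₀ : Subgroup (Subgroup.centralizer ({g} : Set G))) := by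
      rw [hxdef]
      exact (z : P₀).2
    have hxcent : ∀ w ∈ (P₀ : Subgroup (Subgroup.centralizer ({g} : Set G))), x * w = w * x := by
      intro w hw
      have h1 := (Subgroup.mem_center_iff.mp z.2) ⟨w, hw⟩
      have h2 := congrArg Subtype.val h1
      rw [hxdef]
      exact h2.symm
    have hx1 : (x : G) ≠ 1 := by
      intro h
      apply hz
      apply Subtype.ext
      apply Subtype.ext
      apply Subtype.ext
      rw [← hxdef]
      exact h
    have h927 := (Cfsg.Agent.S0927.result p M hM B hB g hg P₀ x hxP).2 hxcent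
    obtain ⟨χ₀, hBeq⟩ := id hB
    have hχ₀ : χ₀ ∈ B := by
      rw [hBeq]
      exact sameBlock_refl hMtop _
    apply h927 χ₀ hχ₀
    -- x * g is p-singular
    have hxg : (x : G) * g = g * (x : G) := ((Subgroup.mem_centralizer_iff.mp x.2) g rfl).symm
    obtain ⟨kx, hkx⟩ := P₀.isPGroup' ⟨x, hxP⟩
    have hxpow : (x : G) ^ p ^ kx = 1 := by
      have h1 := congrArg Subtype.val hkx
      have h2 := congrArg Subtype.val h1
      simpa using h2
    obtain ⟨j, -, hj⟩ := (Nat.dvd_prime_pow hp).mp (orderOf_dvd_of_pow_eq_one hxpow)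
    have hj0 : j ≠ 0 := by
      intro h0
      rw [h0, pow_zero, orderOf_eq_one_iff] at hj
      exact hx1 hj
    have hsing : p ∣ orderOf ((x : G) * g) := by
      have hcomm : Commute (x : G) g := hxg
      have hcop : (orderOf (x : G)).Coprime (orderOf g) := by
        rw [hj]
        exact Nat.Coprime.pow_left _ ((Nat.Prime.coprime_iff_not_dvd hp).mpr hgp)
      rw [hcomm.orderOf_mul_eq_mul_orderOf_of_coprime hcop, hj]
      exact Dvd.dvd.mul_right (dvd_pow_self p hj0) _
    have hind0 : Cfsg.inducedCentralChar H (ξ₁ : H → ℂ) ((x : G) * g) = 0 := by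
      rw [inducedCentralChar_eq_sum]
      apply Finset.sum_eq_zero
      intro h _
      split_ifs with hc
      · have hh : p ∣ orderOf h := by
          obtain ⟨c, hc'⟩ := isConj_iff.mp hc
          rw [← Subgroup.orderOf_coe, ← hc', orderOf_conj']
          exact hsing
        rw [hvan h hh, zero_div]
      · rfl
    have h5 := hcong ξ₁ hξ₁ χ₀ hχ₀ ((x : G) * g)
    rw [hind0, zero_sub] at h5
    have h6 := memLocalIdeal_neg h5
    rwa [neg_neg] at h6
  · intro hB0
    obtain ⟨g₀, hg₀⟩ := exists_defectClass hM b hb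
    obtain ⟨P⟩ : Nonempty (Sylow p (Subgroup.centralizer ({g₀} : Set H))) := inferInstance
    obtain ⟨D, hDdef⟩ : ∃ D : Subgroup H, D = (P : Subgroup (Subgroup.centralizer
      ({g₀} : Set H))).map (Subgroup.centralizer ({g₀} : Set H)).subtype := ⟨_, rfl⟩
    have hD : Cfsg.IsDefectGroup p M b D := ⟨g₀, hg₀, P, hDdef⟩
    have hDcard := Cfsg.Agent.S0908.result p M hM b hb D hD
    obtain ⟨E, hE, hDE⟩ := exists_defectGroup_ge_of_induced hM H b B hind D hD
    have hEcard := Cfsg.Agent.S0908.result p M hM B hB E hE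
    rw [hB0, pow_zero] at hEcard
    have h1 : Nat.card (D.map H.subtype) = Nat.card D :=
      Subgroup.card_map_of_injective H.subtype_injective
    have h2 : Nat.card (D.map H.subtype) ∣ Nat.card E := Subgroup.card_dvd_of_le hDE
    rw [h1, hDcard, hEcard, Nat.dvd_one] at h2
    by_contra hne
    have := Nat.one_lt_pow hne hp.one_lt
    omega

end Cfsg.Agent.S0931
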