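import Mathlib
import Cfsg.Statements.S0935
import Cfsg.Agent.Lib.helper3.RegPairInd
import Cfsg.Agent.Lib.helper3.ExtFirstMain1

set_option autoImplicit false
open Cfsg

namespace Cfsg.Agent.S0935

set_option linter.style.haveILetI false

open Cfsg Cfsg.Agent.Lib.helper3.Block Cfsg.Agent.Lib.helper3.LocalM Cfsg.Agent.Lib.helper3.Irr Cfsg.Agent.Lib.helper3.CharBasic

/-- Let H be a subgroup of the finite group G and χ an irreducible character of G whose restriction to H is irreducible; fix a maximal ideal M of the algebraic integers containing the prime p and suppose χ and its restriction have height zero in their blocks B and b. If e is a block of H whose induced block is defined, then e induces B if and only if e = b. -/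
theorem result {G : Type*} [Group G] [Finite G] (p : ℕ) [Fact p.Prime] (M : Ideal Cfsg.AlgInt) (hM : Cfsg.IsPModular p M) (H : Subgroup G) (χ : Cfsg.IrrCharacter G) (hres : Cfsg.IsIrrCharacter H (fun h : H => (χ : G → ℂ) h)) (hχ0 : Cfsg.blockHeight p (Cfsg.blockOf M (χ : G → ℂ)) (χ : G → ℂ) = 0) (hψ0 : Cfsg.blockHeight p (Cfsg.blockOf M (fun h : H => (χ : G → ℂ) h)) (fun h : H => (χ : G → ℂ) h) = 0) (e : Set (Cfsg.IrrCharacter H)) (he : Cfsg.InducedBlockDefined M H e) : Cfsg.IsInducedBlock M H e (Cfsg.blockOf M (χ : G → ℂ)) ↔ e = Cfsg.blockOf M (fun h : H => (χ : G → ℂ) h) := by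
  classical
  letI : Fintype G := Fintype.ofFinite G
  letI : Fintype H := Fintype.ofFinite H
  haveI hMp := isPrime_of_isPModular hM
  have hMtop : M ≠ ⊤ := hM.2.1.ne_top
  obtain ⟨ψ, hψ⟩ : ∃ ψ : IrrCharacter H, (ψ : H → ℂ) = fun h : H => (χ : G → ℂ) h :=
    ⟨⟨_, hres⟩, rfl⟩
  rw [← hψ] at hψ0 ⊢
  have hχc := isCharacter_of_isIrrCharacter χ.2
  have hBG : IsPBlock M (blockOf M (χ : G → ℂ)) := ⟨χ, rfl⟩
  have hbH : IsPBlock M (blockOf M (ψ : H → ℂ)) := ⟨ψ, rfl⟩
  have hχB : χ ∈ blockOf M (χ : G → ℂ) := sameBlock_refl hMtop _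
  have hψb : ψ ∈ blockOf M (ψ : H → ℂ) := sameBlock_refl hMtop _
  have hhtχ : (charDegree (χ : G → ℂ)).factorization p = minExp p (blockOf M (χ : G → ℂ)) := by
    have := minExp_le (p := p) hχB
    rw [blockHeight_eq] at hχ0
    omega
  have hhtψ : (charDegree (ψ : H → ℂ)).factorization p = minExp p (blockOf M (ψ : H → ℂ)) := by
    have := minExp_le (p := p) hψb
    rw [blockHeight_eq] at hψ0
    omega
  obtain ⟨w, hw, hpw⟩ := exists_unit_regPair_self hM _ hBG χ hχB hhtχ
  obtain ⟨v, hv, hpv⟩ := exists_unit_regPair_self hM _ hbH ψ hψb hhtψ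
  obtain ⟨B', hB'⟩ := he
  have key : blockOf M (χ : G → ℂ) = B' ↔ e = blockOf M (ψ : H → ℂ) := by
    constructor
    · intro hB
      obtain ⟨ζ, hζ⟩ : ∃ ζ, ζ ∈ e := by
        obtain ⟨ζ, hζ⟩ := hB'.1
        exact ⟨ζ, by rw [hζ]; exact sameBlock_refl hMtop _⟩
      have hc := memLocalIdeal_regPair_sub_of_induced hM H e B' hB' ζ hζ χ (hB ▸ hχB) hχc
      rw [hw, ← hψ] at hc
      have hne : regPair p (ζ : H → ℂ) (ψ : H → ℂ) ≠ 0 := by
        intro h0
        rw [h0, zero_div, zero_sub] at hc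
        have := memLocalIdeal_neg hc
        rw [neg_neg] at this
        exact not_memLocalIdeal_intCast hM w hpw this
      have hs := sameBlock_of_regPair_ne_zero hM ζ ψ hne
      exact isPBlock_eq_of_mem hB'.1 hbH ζ hζ (sameBlock_symm hs)
    · intro he'
      obtain ⟨χ', hχ'⟩ : ∃ χ', χ' ∈ B' := by
        obtain ⟨χ', hχ'⟩ := hB'.2.1
        exact ⟨χ', by rw [hχ']; exact sameBlock_refl hMtop _⟩
      have hc := memLocalIdeal_regPair_sub_of_induced hM H e B' hB' ψ (he' ▸ hψb) χ' hχ' hχc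
      rw [← hψ, hv] at hc
      have hne : regPair p (χ' : G → ℂ) (χ : G → ℂ) ≠ 0 := by
        intro h0
        rw [h0, zero_div, sub_zero] at hc
        exact not_memLocalIdeal_intCast hM v hpv hc
      have hs := sameBlock_of_regPair_ne_zero hM χ' χ hne
      exact isPBlock_eq_of_mem hBG hB'.2.1 χ' (sameBlock_symm hs) hχ'
  constructor
  · intro h
    have h1 : IsInducedBlock M H e (blockOf M (χ : G → ℂ)) ∧ IsInducedBlock M H e B' := ⟨h, hB'⟩
    have h2 := isInducedBlock_unique H e _ _ h hB'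
    exact key.mp h2
  · intro h
    rw [key.mpr h]
    exact hB'


end Cfsg.Agent.S0935
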