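import Mathlib
import Cfsg.Statements.S0937
import Cfsg.Agent.Lib.helper3.RegPairInd
import Cfsg.Agent.Lib.helper3.ExtFirstMain1

set_option autoImplicit false
open Cfsg

namespace Cfsg.Agent.S0937

set_option linter.style.haveILetI false

open Cfsg Cfsg.Agent.Lib.helper3.Block Cfsg.Agent.Lib.helper3.LocalM Cfsg.Agent.Lib.helper3.Irr Cfsg.Agent.Lib.helper3.CharBasic
open scoped ComplexConjugate

/-- Let H be a subgroup of the finite group G and fix a maximal ideal M of the algebraic integers containing the prime p. If the block b of H induces the block B of G and χ ∈ B has height zero, then there is ξ ∈ b of height zero whose multiplicity in the restriction of χ to H is a natural number not divisible by p. -/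
theorem result {G : Type*} [Group G] [Fintype G] (p : ℕ) [Fact p.Prime] (M : Ideal Cfsg.AlgInt) (hM : Cfsg.IsPModular p M) (H : Subgroup G) [Fintype H] (b : Set (Cfsg.IrrCharacter H)) (B : Set (Cfsg.IrrCharacter G)) (hind : Cfsg.IsInducedBlock M H b B) (χ : Cfsg.IrrCharacter G) (hχ : χ ∈ B) (h0 : Cfsg.blockHeight p B (χ : G → ℂ) = 0) : ∃ ξ ∈ b, Cfsg.blockHeight p b (ξ : H → ℂ) = 0 ∧ ∃ n : ℕ, Cfsg.classInner (fun h : H => (χ : G → ℂ) h) (ξ : H → ℂ) = (n : ℂ) ∧ ¬ p ∣ n := by
  classical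
  haveI hMp := isPrime_of_isPModular hM
  have hMtop : M ≠ ⊤ := hM.2.1.ne_top
  have hχc := isCharacter_of_isIrrCharacter χ.2
  have hB : IsPBlock M B := hind.2.1
  have hb : IsPBlock M b := hind.1
  have hhtχ : (charDegree (χ : G → ℂ)).factorization p = minExp p B := by
    have := minExp_le (p := p) hχ
    rw [blockHeight_eq] at h0
    omega
  obtain ⟨w, hw, hpw⟩ := exists_unit_regPair_self hM B hB χ hχ hhtχ
  obtain ⟨ζ, hζ⟩ : ∃ ζ, ζ ∈ b := by
    obtain ⟨ζ, hζ⟩ := hb
    exact ⟨ζ, by rw [hζ]; exact sameBlock_refl hMtop _⟩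
  have hc := memLocalIdeal_regPair_sub_of_induced hM H b B hind ζ hζ χ hχ hχc
  rw [hw] at hc
  -- decomposition of the restriction
  have hresc : IsCharacter H (fun h : H => (χ : G → ℂ) h) := isCharacter_restrict hχc H
  obtain ⟨m, hm⟩ := exists_decomposition_of_isCharacter hresc
  have hinner : ∀ ξ : IrrCharacter H,
      classInner (fun h : H => (χ : G → ℂ) h) (ξ : H → ℂ) = (m ξ : ℂ) := by
    intro ξ
    rw [hm]
    exact classInner_decomposition_left (fun ψ => (m ψ : ℂ)) ξ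
  have hv : ∀ ξ : IrrCharacter H, ∃ v : ℤ,
      regPair p (ζ : H → ℂ) (ξ : H → ℂ) / (ζ : H → ℂ) 1 = (v : ℂ) := fun ξ =>
    exists_int_regPair_div p ζ ξ
  choose v hv using hv
  have hsum : regPair p (ζ : H → ℂ) (fun h : H => (χ : G → ℂ) h) / (ζ : H → ℂ) 1
      = ((∑ ξ : IrrCharacter H, (m ξ : ℤ) * v ξ : ℤ) : ℂ) := by
    push_cast
    have h1 : regPair p (ζ : H → ℂ) (fun h : H => (χ : G → ℂ) h)
        = ∑ ξ : IrrCharacter H, (m ξ : ℂ) * regPair p (ζ : H → ℂ) (ξ : H → ℂ) := by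
      unfold regPair
      simp_rw [Finset.mul_sum]
      rw [Finset.sum_comm]
      apply Finset.sum_congr rfl
      intro g _
      by_cases hg : p ∣ orderOf g
      · simp [hg]
      · simp only [if_neg hg]
        have h2 := congrFun hm g
        rw [h2, Finset.sum_apply, map_sum, Finset.mul_sum]
        apply Finset.sum_congr rfl
        intro ξ _
        rw [Pi.smul_apply, smul_eq_mul, map_mul, Complex.conj_natCast]
        ring
    rw [h1, Finset.sum_div]
    apply Finset.sum_congr rfl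
    intro ξ _
    rw [← hv ξ]
    ring
  rw [hsum] at hc
  have hc2 : MemLocalIdeal M (((∑ ξ : IrrCharacter H, (m ξ : ℤ) * v ξ) - w : ℤ) : ℂ) := by
    convert hc using 1
    push_cast
    rfl
  have hnd : ¬ (p : ℤ) ∣ ∑ ξ : IrrCharacter H, (m ξ : ℤ) * v ξ := by
    intro hd
    apply hpw
    by_contra hpw'
    have h3 : ¬ (p : ℤ) ∣ (∑ ξ : IrrCharacter H, (m ξ : ℤ) * v ξ) - w := by
      intro h4
      apply hpw'
      have := dvd_sub hd h4
      rwa [sub_sub_cancel] at this
    exact not_memLocalIdeal_intCast hM _ h3 hc2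
  obtain ⟨ξ, hξ⟩ : ∃ ξ : IrrCharacter H, ¬ (p : ℤ) ∣ (m ξ : ℤ) * v ξ := by
    by_contra hcon
    push Not at hcon
    exact hnd (Finset.dvd_sum fun ξ _ => hcon ξ)
  have hpm : ¬ (p : ℤ) ∣ (m ξ : ℤ) := fun h => hξ (Dvd.dvd.mul_right h _)
  have hpv : ¬ (p : ℤ) ∣ v ξ := fun h => hξ (Dvd.dvd.mul_left h _)
  have hvne : v ξ ≠ 0 := by
    intro h
    apply hpv
    rw [h]
    exact dvd_zero _
  have hne : regPair p (ζ : H → ℂ) (ξ : H → ℂ) ≠ 0 := by
    intro h
    have := hv ξ
    rw [h, zero_div] at this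
    apply hvne
    exact_mod_cast this.symm
  have hs := sameBlock_of_regPair_ne_zero hM ζ ξ hne
  have hξb : ξ ∈ b := by
    obtain ⟨ζ₀, hζ₀⟩ := hb
    rw [hζ₀] at hζ ⊢
    exact sameBlock_trans hζ hs
  have hht := factorization_eq_minExp_of_regPair hM b hb ξ ζ hξb hζ (v ξ) (hv ξ) hpv
  refine ⟨ξ, hξb, ?_, m ξ, hinner ξ, ?_⟩
  · rw [blockHeight_eq, hht]
    exact Nat.sub_self _
  · intro h
    apply hpm
    exact_mod_cast h


end Cfsg.Agent.S0937
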