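import Mathlib
import Cfsg.Statements.S0939
import Cfsg.Agent.Lib.helper3.BlockPGroup
import Cfsg.Agent.H1.Cores

set_option autoImplicit false
open Cfsg

set_option linter.style.haveILetI false

namespace Cfsg.Agent.S0939

open Cfsg.Agent.Lib.helper3.LocalM Cfsg.Agent.Lib.helper3.Block Cfsg.Agent.Lib.helper3.Irr Cfsg.Agent.Lib.helper3.CharBasic Cfsg.Agent.Lib.helper3.Central Cfsg.Agent.Lib.helper3.Lin

/-- Let G be a finite group with a normal p-complement (the largest normal subgroup O_p'(G) of order prime to p has p-power index). Then, relative to any maximal ideal M of the algebraic integers containing p, the principal block of G is the set of irreducible characters χ with χ n = χ 1 for every n ∈ O_p'(G). -/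
theorem result {G : Type*} [Group G] [Finite G] (p : ℕ) [Fact p.Prime] (M : Ideal Cfsg.AlgInt) (hM : Cfsg.IsPModular p M) (hnc : ∃ k : ℕ, (Cfsg.pPrimeCore p G).index = p ^ k) : Cfsg.principalBlock M G = {χ : Cfsg.IrrCharacter G | ∀ n ∈ Cfsg.pPrimeCore p G, (χ : G → ℂ) n = (χ : G → ℂ) 1} := by
  classical
  letI : Fintype G := Fintype.ofFinite G
  have hp : p.Prime := Fact.out
  haveI hMp : M.IsPrime := hM.2.1.isPrime
  have hMtop : M ≠ ⊤ := hM.2.1.ne_top
  haveI hnorm : (Cfsg.pPrimeCore p G).Normal := Cfsg.Agent.H1.pPrimeCore_normal p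
  letI : Fintype (Cfsg.pPrimeCore p G) := Fintype.ofFinite _
  letI : Fintype (G ⧸ Cfsg.pPrimeCore p G) := Fintype.ofFinite _
  have hcop : ¬ p ∣ Nat.card (Cfsg.pPrimeCore p G) := by
    intro hdvd
    have h1 := Cfsg.Agent.H1.pPrimeCore_coprime (G := G) p
    have h2 := Nat.Coprime.eq_one_of_dvd h1.symm hdvd
    exact hp.one_lt.ne' h2
  ext χ
  constructor
  · intro hχ
    have hχ' : Cfsg.SameBlock M (fun _ : G => (1 : ℂ)) (χ : G → ℂ) := hχ
    obtain ⟨one, hone⟩ : ∃ one : IrrCharacter G, one = ⟨fun _ => 1, isIrrCharacter_one⟩ :=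
      ⟨_, rfl⟩
    obtain ⟨θ, hθ⟩ : ∃ θ : IrrCharacter (Cfsg.pPrimeCore p G),
        θ = ⟨fun _ => 1, isIrrCharacter_one⟩ := ⟨_, rfl⟩
    have hθf : (θ : Cfsg.pPrimeCore p G → ℂ) = fun _ => 1 := by rw [hθ]
    have h1 : one ∈ irrOver (Cfsg.pPrimeCore p G) (θ : Cfsg.pPrimeCore p G → ℂ) := by
      show Cfsg.classInner (fun n : Cfsg.pPrimeCore p G => (one : G → ℂ) n)
        (θ : Cfsg.pPrimeCore p G → ℂ) ≠ 0
      rw [hθf, hone]
      show Cfsg.classInner (fun _ : Cfsg.pPrimeCore p G => (1 : ℂ)) (fun _ => 1) ≠ 0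
      rw [classInner_one_one]
      exact one_ne_zero
    have h2 : χ ∈ Cfsg.blockOf M (one : G → ℂ) := by
      rw [hone]
      exact hχ'
    have h3 := blockOf_subset_irrOver hM _ hcop θ one h1 h2
    rw [hθf] at h3
    intro n hn
    exact apply_eq_of_irrOver_one _ χ h3 n hn
  · intro hker
    have hχc := isCharacter_of_isIrrCharacter χ.2
    have hconst : ∀ g n : G, n ∈ Cfsg.pPrimeCore p G → (χ : G → ℂ) (g * n) = (χ : G → ℂ) g :=
      fun g n hn => apply_mul_of_apply_eq_one hχc (hker n hn) g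
    obtain ⟨ψ, hψ, hχψ⟩ := exists_eq_inflate χ.2 (Cfsg.pPrimeCore p G) hconst
    obtain ⟨k, hk⟩ := hnc
    have hGN : IsPGroup p (G ⧸ Cfsg.pPrimeCore p G) := by
      apply IsPGroup.of_card (n := k)
      rw [← hk, Subgroup.index_eq_card]
    have h1 := sameBlock_of_isPGroup hM hGN
      (⟨fun _ => 1, isIrrCharacter_one⟩ : IrrCharacter (G ⧸ Cfsg.pPrimeCore p G)) ⟨ψ, hψ⟩
    have h2 := sameBlock_inflate (Cfsg.pPrimeCore p G) _ _ h1
    show Cfsg.SameBlock M (fun _ : G => (1 : ℂ)) (χ : G → ℂ)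
    rw [hχψ]
    exact h2

end Cfsg.Agent.S0939
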