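import Mathlib
import Cfsg.Statements.S0953
import Cfsg.Agent.S0920
import Cfsg.Agent.S0912
import Cfsg.Agent.Lib.helper3.NormalSylowBlocks
import Cfsg.Agent.Lib.helper3.FirstMain2

set_option autoImplicit false
open Cfsg

namespace Cfsg.Agent.S0953

open Cfsg.Agent.Lib.helper3.Block Cfsg.Agent.Lib.helper3.LocalM Cfsg.Agent.Lib.helper3.Irr Cfsg.Agent.Lib.helper3.Central Cfsg.Agent.Lib.helper3.CharBasic

set_option linter.style.haveILetI false

/-- An induced block is determined by the inducing block. -/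
theorem induced_unique {G : Type*} [Group G] [Fintype G] {M : Ideal Cfsg.AlgInt} [hMp : M.IsPrime]
    (H : Subgroup G) (b : Set (Cfsg.IrrCharacter H)) (B₁ B₂ : Set (Cfsg.IrrCharacter G))
    (h₁ : Cfsg.IsInducedBlock M H b B₁) (h₂ : Cfsg.IsInducedBlock M H b B₂) : B₁ = B₂ := by
  have hMtop : M ≠ ⊤ := hMp.ne_top
  obtain ⟨ξ, hξ⟩ : ∃ ξ : Cfsg.IrrCharacter H, ξ ∈ b := by
    obtain ⟨ξ, hξ⟩ := h₁.1
    refine ⟨ξ, ?_⟩
    rw [hξ]
    exact sameBlock_refl hMtop _
  obtain ⟨χ₁, hχ₁⟩ := h₁.2.1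
  have hχ₁B : χ₁ ∈ B₁ := by
    rw [hχ₁]
    exact sameBlock_refl hMtop _
  obtain ⟨χ₂, hχ₂⟩ := h₂.2.1
  have hχ₂B : χ₂ ∈ B₂ := by
    rw [hχ₂]
    exact sameBlock_refl hMtop _
  have hsame : Cfsg.SameBlock M (χ₁ : G → ℂ) (χ₂ : G → ℂ) := by
    intro g
    have e1 := h₁.2.2 ξ hξ χ₁ hχ₁B g
    have e2 := h₂.2.2 ξ hξ χ₂ hχ₂B g
    have e3 := memLocalIdeal_sub e2 e1
    convert e3 using 1
    ring
  apply block_eq_of_mem h₁.2.1 h₂.2.1 χ₂ _ hχ₂B
  rw [hχ₁]
  exact hsame

/-- The count, with the normalizer as a variable. -/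
theorem aux {G : Type*} [Group G] [Fintype G] (p : ℕ) [Fact p.Prime] (M : Ideal Cfsg.AlgInt)
    (hM : Cfsg.IsPModular p M) (P : Subgroup G) (hPp : IsPGroup p P) (hPidx : ¬ p ∣ P.index)
    (N : Subgroup G) (hPN : P ≤ N) (hNle : N ≤ Subgroup.normalizer (P : Set G))
    (h1 : ∀ b : Set (Cfsg.IrrCharacter N), Cfsg.IsPBlock M b →
      Cfsg.IsDefectGroup p M b (P.subgroupOf N) → ∃ B : Set (Cfsg.IrrCharacter G),
        Cfsg.IsPBlock M B ∧ Cfsg.IsDefectGroup p M B P ∧ Cfsg.IsInducedBlock M N b B)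
    (h2 : ∀ B : Set (Cfsg.IrrCharacter G), Cfsg.IsPBlock M B → Cfsg.IsDefectGroup p M B P →
      ∃! b : Set (Cfsg.IrrCharacter N), Cfsg.IsPBlock M b ∧
        Cfsg.IsDefectGroup p M b (P.subgroupOf N) ∧ Cfsg.IsInducedBlock M N b B)
    (h3 : ∀ b₁ b₂ : Set (Cfsg.IrrCharacter N), Cfsg.IsDefectGroup p M b₁ (P.subgroupOf N) →
      Cfsg.IsDefectGroup p M b₂ (P.subgroupOf N) → ∀ B : Set (Cfsg.IrrCharacter G),
      Cfsg.IsInducedBlock M N b₁ B → Cfsg.IsInducedBlock M N b₂ B → b₁ = b₂) :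
    Nat.card {B : Set (Cfsg.IrrCharacter G) // Cfsg.IsPBlock M B ∧ Cfsg.IsDefectGroup p M B P}
      = Nat.card {C : ConjClasses N // ∀ n : N, ConjClasses.mk n = C →
          ¬ p ∣ orderOf n ∧ (n : G) ∈ Subgroup.centralizer (P : Set G)} := by
  classical
  haveI hMp := isPrime_of_isPModular hM
  have hMtop : M ≠ ⊤ := hM.2.1.ne_top
  have hp : p.Prime := Fact.out
  letI : Fintype N := Fintype.ofFinite N
  obtain ⟨Q, hQdef⟩ : ∃ Q : Subgroup N, Q = P.subgroupOf N := ⟨_, rfl⟩
  rw [← hQdef] at h1 h2 h3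
  haveI hQn : Q.Normal := by
    rw [hQdef]
    exact (Subgroup.normal_subgroupOf_iff_le_normalizer hPN).mpr hNle
  have hQp : IsPGroup p Q := by
    rw [hQdef]
    exact hPp.comap_subtype
  have hQidx : ¬ p ∣ Q.index := by
    intro h
    apply hPidx
    have : Q.index ∣ P.index := by
      rw [hQdef]
      exact Subgroup.relIndex_dvd_index_of_le hPN
    exact dvd_trans h this
  -- every block of `N` has defect group `Q`
  have hall : ∀ b : Set (Cfsg.IrrCharacter N), Cfsg.IsPBlock M b →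
      Cfsg.IsDefectGroup p M b Q := by
    intro b hb
    obtain ⟨g₀, hg₀⟩ := exists_defectClass hM b hb
    obtain ⟨S₀⟩ : Nonempty (Sylow p (Subgroup.centralizer ({g₀} : Set N))) := inferInstance
    obtain ⟨D, hDdef⟩ : ∃ D : Subgroup N, D = (S₀ : Subgroup (Subgroup.centralizer
        ({g₀} : Set N))).map (Subgroup.centralizer ({g₀} : Set N)).subtype := ⟨_, rfl⟩
    have hDb : Cfsg.IsDefectGroup p M b D := ⟨g₀, hg₀, S₀, hDdef⟩
    have hcore := Cfsg.Agent.S0912.result p M hM b hb D hDb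
    have hQD : Q ≤ D := by
      refine le_trans ?_ hcore
      exact le_sSup ⟨hQn, hQp⟩
    have hDp : IsPGroup p D := by
      rw [hDdef]
      exact S₀.isPGroup'.map _
    obtain ⟨k, hk⟩ := hDp.exists_card_eq
    obtain ⟨m, hm⟩ := hQp.exists_card_eq
    have h4 : Nat.card D ∣ Nat.card Q * Q.index := by
      rw [Subgroup.card_mul_index]
      exact Subgroup.card_subgroup_dvd_card D
    have h5 : Nat.card D ∣ Nat.card Q := by
      apply Nat.Coprime.dvd_of_dvd_mul_right _ h4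
      rw [hk]
      exact Nat.Coprime.pow_left k ((Nat.Prime.coprime_iff_not_dvd hp).2 hQidx)
    have h6 : D = Q := (Subgroup.eq_of_le_of_card_ge hQD (Nat.le_of_dvd Nat.card_pos h5)).symm
    rw [← h6]
    exact hDb
  -- Step 1: the Brauer correspondence is a bijection
  have hstep1 : Nat.card {B : Set (Cfsg.IrrCharacter G) //
      Cfsg.IsPBlock M B ∧ Cfsg.IsDefectGroup p M B P}
      = Nat.card {b : Set (Cfsg.IrrCharacter N) | Cfsg.IsPBlock M b} := by
    symm
    have hex : ∀ b : {b : Set (Cfsg.IrrCharacter N) | Cfsg.IsPBlock M b},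
        ∃ B : Set (Cfsg.IrrCharacter G), Cfsg.IsPBlock M B ∧ Cfsg.IsDefectGroup p M B P ∧
          Cfsg.IsInducedBlock M N (b : Set (Cfsg.IrrCharacter N)) B :=
      fun b => h1 b b.2 (hall b b.2)
    choose f hf using hex
    apply Nat.card_eq_of_bijective
      (fun b => (⟨f b, (hf b).1, (hf b).2.1⟩ : {B : Set (Cfsg.IrrCharacter G) //
        Cfsg.IsPBlock M B ∧ Cfsg.IsDefectGroup p M B P}))
    constructor
    · intro b₁ b₂ h
      have h4 : f b₁ = f b₂ := congrArg Subtype.val h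
      apply Subtype.ext
      apply h3 b₁ b₂ (hall b₁ b₁.2) (hall b₂ b₂.2) (f b₁) (hf b₁).2.2
      rw [h4]
      exact (hf b₂).2.2
    · rintro ⟨B, hB, hBD⟩
      obtain ⟨b, ⟨hb, _, hind⟩, _⟩ := h2 B hB hBD
      refine ⟨⟨b, hb⟩, ?_⟩
      apply Subtype.ext
      exact induced_unique N b _ _ (hf ⟨b, hb⟩).2.2 hind
  -- Step 2: counting the blocks of `N`
  have hstep2 : Nat.card {b : Set (Cfsg.IrrCharacter N) | Cfsg.IsPBlock M b}
      = Nat.card (regCentralClasses p Q) :=
    le_antisymm (card_blocks_le_of_normal_sylow hM Q hQp)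
      (card_classes_le_of_normal_sylow hM Q hQp hQidx)
  rw [hstep1, hstep2]
  -- Step 3: the class condition
  apply Nat.card_congr
  apply Equiv.subtypeEquivRight
  intro C
  unfold regCentralClasses
  rw [Set.mem_ofPred_eq]
  apply forall_congr'
  intro n
  apply imp_congr_right
  intro _
  apply and_congr_right
  intro _
  rw [Subgroup.mem_centralizer_iff, Subgroup.mem_centralizer_iff]
  constructor
  · intro h w hw
    have := h ⟨w, hPN hw⟩ (by rw [hQdef]; exact Subgroup.mem_subgroupOf.2 hw)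
    exact congrArg Subtype.val this
  · intro h u hu
    rw [hQdef] at hu
    apply Subtype.ext
    exact h (u : G) (Subgroup.mem_subgroupOf.1 hu)

/-- Let P be a Sylow p-subgroup of the finite group G with normalizer N, and fix a maximal ideal M of the algebraic integers containing p. The number of blocks of G having P as a defect group equals the number of conjugacy classes of N consisting of elements of order prime to p that centralize P. -/
theorem result {G : Type*} [Group G] [Finite G] (p : ℕ) [Fact p.Prime] (M : Ideal Cfsg.AlgInt) (hM : Cfsg.IsPModular p M) (P : Sylow p G) : Nat.card {B : Set (Cfsg.IrrCharacter G) // Cfsg.IsPBlock M B ∧ Cfsg.IsDefectGroup p M B (P : Subgroup G)} = Nat.card {C : ConjClasses (Subgroup.normalizer ((P : Subgroup G) : Set G)) // ∀ n : Subgroup.normalizer ((P : Subgroup G) : Set G), ConjClasses.mk n = C → ¬ p ∣ orderOf n ∧ (n : G) ∈ Subgroup.centralizer ((P : Subgroup G) : Set G)} := by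
  classical
  letI : Fintype G := Fintype.ofFinite G
  haveI hMp := isPrime_of_isPModular hM
  have hMtop : M ≠ ⊤ := hM.2.1.ne_top
  have hp : p.Prime := Fact.out
  have hPp : IsPGroup p (P : Subgroup G) := P.isPGroup'
  obtain ⟨h1, h2⟩ := Cfsg.Agent.S0920.result p M hM (P : Subgroup G) hPp
  exact aux p M hM (P : Subgroup G) hPp P.not_dvd_index (Subgroup.normalizer ((P : Subgroup G) : Set G))
    Subgroup.le_normalizer le_rfl h1 h2
    (fun b₁ b₂ hD₁ hD₂ B hi₁ hi₂ => induced_normalizer_unique hM (P : Subgroup G) hPp b₁ b₂ hD₁ hD₂ B hi₁ hi₂)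

end Cfsg.Agent.S0953
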