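import Mathlib
import Cfsg.Statements.S0954
import Cfsg.Agent.Lib.helper3.BlockCover3

set_option autoImplicit false
open Cfsg

namespace Cfsg.Agent.S0954

set_option linter.style.haveILetI false

open Cfsg Cfsg.Agent.Lib.helper3.CharBasic Cfsg.Agent.Lib.helper3.Block Cfsg.Agent.Lib.helper3.Central Cfsg.Agent.Lib.helper3.LocalM Cfsg.Agent.Lib.helper3.Irr

/-- Let N be a normal subgroup of the finite group G of order prime to p and of p-power index (a normal p-complement), and fix a maximal ideal M of the algebraic integers containing p. Then two irreducible characters χ, ψ of G lie in the same block if and only if some irreducible character of N has nonzero inner product with both the restriction of χ and the restriction of ψ. -/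
theorem result {G : Type*} [Group G] [Fintype G] (p : ℕ) [Fact p.Prime] (M : Ideal Cfsg.AlgInt) (hM : Cfsg.IsPModular p M) (N : Subgroup G) [N.Normal] [Fintype N] (hN : ¬ p ∣ Nat.card N) (hidx : ∃ k : ℕ, N.index = p ^ k) (χ ψ : Cfsg.IrrCharacter G) : Cfsg.SameBlock M (χ : G → ℂ) (ψ : G → ℂ) ↔ ∃ θ : Cfsg.IrrCharacter N, Cfsg.classInner (fun n : N => (χ : G → ℂ) n) (θ : N → ℂ) ≠ 0 ∧ Cfsg.classInner (fun n : N => (ψ : G → ℂ) n) (θ : N → ℂ) ≠ 0 := by
  classical
  haveI := isPrime_of_isPModular hM
  have hMtop : M ≠ ⊤ := hM.2.1.ne_top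
  constructor
  · intro h
    have hχc := isCharacter_of_isIrrCharacter χ.2
    have hres := isCharacter_restrict hχc N
    have h0 : (fun n : N => (χ : G → ℂ) n) ≠ 0 := by
      intro h0
      have := congrFun h0 1
      exact apply_one_ne_zero χ.2 this
    obtain ⟨θ, hθ⟩ := exists_constituent hres h0
    refine ⟨θ, hθ, ?_⟩
    exact blockOf_subset_irrOver hM N hN θ χ hθ h
  · rintro ⟨θ, h1, h2⟩
    apply sameBlock_of_congr_of_index_pow hM N hidx χ ψ
    intro n hn
    have e1 := centralChar_eq_of_over N χ θ h1 ⟨n, hn⟩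
    have e2 := centralChar_eq_of_over N ψ θ h2 ⟨n, hn⟩
    simp only at e1 e2
    rw [e1, e2, sub_self]
    exact memLocalIdeal_zero hMtop

end Cfsg.Agent.S0954
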