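import Mathlib
import Cfsg.Statements.S0955
import Cfsg.Agent.S0958
import Cfsg.Agent.S0908

set_option autoImplicit false
open Cfsg

set_option linter.style.haveILetI false

namespace Cfsg.Agent.S0955

open Cfsg.Agent.Lib.helper3.Block Cfsg.Agent.Lib.helper3.LocalM Cfsg.Agent.Lib.helper3.Irr Cfsg.Agent.Lib.helper3.CharBasic

/-- Let D be a defect group of a block of the finite group G relative to a maximal ideal M of the algebraic integers containing the prime p. Then D is the largest normal p-subgroup of its own normalizer: O_p(N_G(D)) = D. -/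
theorem result {G : Type*} [Group G] [Finite G] (p : ℕ) [Fact p.Prime] (M : Ideal Cfsg.AlgInt) (hM : Cfsg.IsPModular p M) (B : Set (Cfsg.IrrCharacter G)) (hB : Cfsg.IsPBlock M B) (D : Subgroup G) (hD : Cfsg.IsDefectGroup p M B D) : (Cfsg.pCore p (Subgroup.normalizer (D : Set G))).map (Subgroup.normalizer (D : Set G)).subtype = D := by
  classical
  letI : Fintype G := Fintype.ofFinite G
  haveI : Fintype (Subgroup.normalizer (D : Set G)) := Fintype.ofFinite _
  haveI hMp := isPrime_of_isPModular hM
  have hDN : D ≤ Subgroup.normalizer (D : Set G) := Subgroup.le_normalizer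
  have hDp : IsPGroup p D := by
    obtain ⟨g, -, S, rfl⟩ := hD
    exact S.2.map _
  -- `D` lies in the core
  have hD' : D.subgroupOf (Subgroup.normalizer (D : Set G))
      ≤ Cfsg.pCore p (Subgroup.normalizer (D : Set G)) := by
    apply le_sSup
    refine ⟨?_, hDp.comap_subtype⟩
    exact (Subgroup.normal_subgroupOf_iff_le_normalizer hDN).mpr le_rfl
  have hsub : D ≤ (Cfsg.pCore p (Subgroup.normalizer (D : Set G))).map
      (Subgroup.normalizer (D : Set G)).subtype := by
    intro d hd
    refine ⟨⟨d, hDN hd⟩, hD' ?_, rfl⟩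
    rw [Subgroup.mem_subgroupOf]
    exact hd
  -- a block of the normalizer inducing `B`
  have hPH : D ⊔ Subgroup.centralizer (D : Set G) ≤ Subgroup.normalizer (D : Set G) :=
    sup_le hDN (Subgroup.centralizer_le_normalizer _)
  obtain ⟨b, hind⟩ := (Cfsg.Agent.S0958.result p M hM D (Subgroup.normalizer (D : Set G)) hDp hPH
    le_rfl B hB).mpr ⟨D, hD, 1, by
      intro y hy
      obtain ⟨u, hu, rfl⟩ := hy
      simpa using hu⟩
  have hb := hind.1
  obtain ⟨g₀, hg₀⟩ := exists_defectClass hM b hb
  obtain ⟨S₀⟩ : Nonempty (Sylow p (Subgroup.centralizer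
    ({g₀} : Set (Subgroup.normalizer (D : Set G))))) := inferInstance
  have hDb : Cfsg.IsDefectGroup p M b
      ((S₀ : Subgroup (Subgroup.centralizer ({g₀} : Set (Subgroup.normalizer (D : Set G))))).map
        (Subgroup.centralizer ({g₀} : Set (Subgroup.normalizer (D : Set G)))).subtype) :=
    ⟨g₀, hg₀, S₀, rfl⟩
  have hcore := Cfsg.Agent.S0912.result p M hM b hb _ hDb
  obtain ⟨E, hE, hDE⟩ := Cfsg.Agent.S0917.result p M hM (Subgroup.normalizer (D : Set G)) b hb B
    hB hind _ hDb
  have hcardE := Cfsg.Agent.S0908.result p M hM B hB E hE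
  have hcardD := Cfsg.Agent.S0908.result p M hM B hB D hD
  have hcoreE : (Cfsg.pCore p (Subgroup.normalizer (D : Set G))).map
      (Subgroup.normalizer (D : Set G)).subtype ≤ E :=
    le_trans (Subgroup.map_mono hcore) hDE
  have hDE' : D ≤ E := le_trans hsub hcoreE
  have hEq : D = E := by
    apply Subgroup.eq_of_le_of_card_ge hDE'
    rw [hcardE, hcardD]
  apply le_antisymm
  · exact le_trans hcoreE (le_of_eq hEq.symm)
  · exact hsub

end Cfsg.Agent.S0955
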