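import Mathlib
import Cfsg.Statements.S0956
import Cfsg.Agent.Lib.helper3.GreenCore5
import Cfsg.Agent.Lib.helper3.FirstMain2
import Cfsg.Agent.Lib.helper3.ExtFirstMain2
import Cfsg.Agent.Lib.helper3.SylowNorm
import Cfsg.Agent.S0958
import Cfsg.Agent.S0908

set_option autoImplicit false
open Cfsg

namespace Cfsg.Agent.S0956

set_option linter.style.haveILetI false

open Cfsg Cfsg.Agent.Lib.helper3.Block Cfsg.Agent.Lib.helper3.LocalM Cfsg.Agent.Lib.helper3.Irr Cfsg.Agent.Lib.helper3.CharBasic

/-- Let D be a defect group of a block of the finite group G (relative to a maximal ideal M of the algebraic integers containing the prime p) and P a Sylow p-subgroup containing D. Then there is an element x of order prime to p such that D is a Sylow p-subgroup of the centralizer of x and D = P ∩ x P x⁻¹. -/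
theorem result {G : Type*} [Group G] [Finite G] (p : ℕ) [Fact p.Prime] (M : Ideal Cfsg.AlgInt) (hM : Cfsg.IsPModular p M) (B : Set (Cfsg.IrrCharacter G)) (hB : Cfsg.IsPBlock M B) (D : Subgroup G) (hD : Cfsg.IsDefectGroup p M B D) (P : Sylow p G) (hDP : D ≤ P) : ∃ x : G, ¬ p ∣ orderOf x ∧ (∃ S : Sylow p (Subgroup.centralizer ({x} : Set G)), (S : Subgroup (Subgroup.centralizer ({x} : Set G))).map (Subgroup.centralizer ({x} : Set G)).subtype = D) ∧ (P : Subgroup G) ⊓ (P : Subgroup G).map (MulAut.conj x).toMonoidHom = D := by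
  classical
  letI : Fintype G := Fintype.ofFinite G
  haveI : Fintype (Subgroup.normalizer (D : Set G)) := Fintype.ofFinite _
  haveI hMp := isPrime_of_isPModular hM
  have hMtop : M ≠ ⊤ := hM.2.1.ne_top
  have hDp : IsPGroup p D := isPGroup_of_isDefectGroup hD
  -- the Brauer correspondent
  obtain ⟨b, hind⟩ := (Cfsg.Agent.S0958.result p M hM D (Subgroup.normalizer (D : Set G)) hDp
    (sup_le Subgroup.le_normalizer (Subgroup.centralizer_le_normalizer _)) le_rfl B hB).mpr
    ⟨D, hD, 1, by
      rintro _ ⟨u, hu, rfl⟩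
      simpa using hu⟩
  have hDb := isDefectGroup_normalizer_of_induced hM D hDp B hB hD b hind
  have hb := hind.1
  -- a Sylow subgroup of the normalizer containing `P ⊓ N`
  have hPNp : IsPGroup p (((P : Subgroup G) ⊓ Subgroup.normalizer (D : Set G)).subgroupOf
      (Subgroup.normalizer (D : Set G))) :=
    (P.isPGroup'.to_le inf_le_left).comap_subtype
  obtain ⟨SN, hSN⟩ := IsPGroup.exists_le_sylow hPNp
  obtain ⟨z, hz, hzcard, hzcomm⟩ := exists_defect_intersection hM b hb
    (SN : Subgroup (Subgroup.normalizer (D : Set G))) SN.isPGroup' (Sylow.card_eq_multiplicity SN)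
  obtain ⟨DN, hDN⟩ : ∃ DN : Subgroup (Subgroup.normalizer (D : Set G)),
      DN = D.subgroupOf (Subgroup.normalizer (D : Set G)) := ⟨_, rfl⟩
  rw [← hDN] at hDb
  have hDNmem : ∀ y : Subgroup.normalizer (D : Set G), y ∈ DN ↔ (y : G) ∈ D := by
    intro y
    rw [hDN, Subgroup.mem_subgroupOf]
  have hDNp : IsPGroup p DN := by
    rw [hDN]
    exact hDp.comap_subtype
  haveI hDNn : DN.Normal := by
    rw [hDN]
    exact Subgroup.normal_in_normalizer
  have hDN_le_SN : DN ≤ (SN : Subgroup (Subgroup.normalizer (D : Set G))) :=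
    IsPGroup.le_sylow_of_normal hDNp SN
  have hDN_le_conj : DN ≤ (SN : Subgroup (Subgroup.normalizer (D : Set G))).map
      (MulAut.conj z).toMonoidHom := by
    intro u hu
    refine ⟨z⁻¹ * u * z, hDN_le_SN ?_, ?_⟩
    · have := hDNn.conj_mem u hu z⁻¹
      rwa [inv_inv] at this
    · show z * (z⁻¹ * u * z) * z⁻¹ = u
      group
  have hcardDN : Nat.card DN = p ^ Cfsg.blockDefect p b :=
    Cfsg.Agent.S0908.result p M hM b hb DN hDb
  have hR : DN = (SN : Subgroup (Subgroup.normalizer (D : Set G)))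
      ⊓ (SN : Subgroup (Subgroup.normalizer (D : Set G))).map (MulAut.conj z).toMonoidHom :=
    Subgroup.eq_of_le_of_card_ge (le_inf hDN_le_SN hDN_le_conj) (by rw [hzcard, hcardDN])
  obtain ⟨x, hx⟩ : ∃ x : G, x = (z : G) := ⟨_, rfl⟩
  have hxN : x ∈ Subgroup.normalizer (D : Set G) := hx ▸ z.2
  -- `z` is `p`-regular
  have hzreg : ¬ p ∣ orderOf z := by
    intro h
    apply hz
    rw [blockCoeff_eq_zero_of_dvd hM b hb z h]
    exact memLocalIdeal_zero hMtop
  have hxreg : ¬ p ∣ orderOf x := by
    rw [hx, Subgroup.orderOf_coe]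
    exact hzreg
  -- `D` centralizes `x`
  have hDx : ∀ u ∈ D, u * x = x * u := by
    intro u hu
    have huN : u ∈ Subgroup.normalizer (D : Set G) := Subgroup.le_normalizer hu
    have h1 : (⟨u, huN⟩ : Subgroup.normalizer (D : Set G)) ∈ DN := (hDNmem _).mpr hu
    rw [hR] at h1
    have h2 := hzcomm _ h1
    have h3 := congrArg Subtype.val h2
    rw [hx]
    exact h3
  -- the `p`-part of the centralizer of `z` in the normalizer
  have hle : ¬ Cfsg.blockDefect p b
      < (Nat.card (Subgroup.centralizer ({z} : Set (Subgroup.normalizer (D : Set G))))).factorization p :=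
    fun h => hz (memLocalIdeal_blockCoeff_of_lt hM b hb z h)
  -- `p`-subgroups of `C_G(x) ⊓ N_G(D)` containing `D`
  have hmaxN : ∀ Q : Subgroup G, IsPGroup p Q → D ≤ Q →
      Q ≤ Subgroup.centralizer ({x} : Set G) ⊓ Subgroup.normalizer (D : Set G) → Q = D := by
    intro Q hQ hDQ hQle
    apply le_antisymm _ hDQ
    obtain ⟨K, hK⟩ : ∃ K : Subgroup (Subgroup.normalizer (D : Set G)),
        K = Q.subgroupOf (Subgroup.normalizer (D : Set G)) := ⟨_, rfl⟩
    have hKmem : ∀ y : Subgroup.normalizer (D : Set G), y ∈ K ↔ (y : G) ∈ Q := by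
      intro y
      rw [hK, Subgroup.mem_subgroupOf]
    have hKp : IsPGroup p K := by
      rw [hK]
      exact hQ.comap_subtype
    have hDNK : DN ≤ K := by
      intro y hy
      rw [hKmem]
      exact hDQ ((hDNmem y).mp hy)
    have hKC : K ≤ Subgroup.centralizer ({z} : Set (Subgroup.normalizer (D : Set G))) := by
      intro y hy
      rw [Subgroup.mem_centralizer_singleton_iff]
      have h1 := (Subgroup.mem_inf.mp (hQle ((hKmem y).mp hy))).1
      rw [Subgroup.mem_centralizer_singleton_iff, hx] at h1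
      exact Subtype.ext h1
    obtain ⟨k, hk⟩ := IsPGroup.exists_card_eq hKp
    have hkle : k ≤ Cfsg.blockDefect p b := by
      have h1 : p ^ k ∣ Nat.card (Subgroup.centralizer
          ({z} : Set (Subgroup.normalizer (D : Set G)))) := by
        rw [← hk]
        exact Subgroup.card_dvd_of_le hKC
      have h2 := (Nat.Prime.pow_dvd_iff_le_factorization hM.1 Nat.card_pos.ne').mp h1
      omega
    have hKD : DN = K := by
      apply Subgroup.eq_of_le_of_card_ge hDNK
      rw [hk, hcardDN]
      exact Nat.pow_le_pow_right hM.1.pos hkle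
    intro q hq
    have hqN : q ∈ Subgroup.normalizer (D : Set G) := (Subgroup.mem_inf.mp (hQle hq)).2
    have h1 : (⟨q, hqN⟩ : Subgroup.normalizer (D : Set G)) ∈ K := (hKmem _).mpr hq
    rw [← hKD] at h1
    exact (hDNmem _).mp h1
  refine ⟨x, hxreg, ?_, ?_⟩
  · -- `D` is a Sylow subgroup of the centralizer of `x`
    have hDC : D ≤ Subgroup.centralizer ({x} : Set G) := by
      intro u hu
      rw [Subgroup.mem_centralizer_singleton_iff]
      exact hDx u hu
    have hD0p : IsPGroup p (D.subgroupOf (Subgroup.centralizer ({x} : Set G))) :=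
      hDp.comap_subtype
    obtain ⟨S', hS'⟩ := IsPGroup.exists_le_sylow hD0p
    refine ⟨S', ?_⟩
    apply eq_of_maximal_in_normalizer D (Subgroup.centralizer ({x} : Set G)) hmaxN
    · exact S'.isPGroup'.map _
    · intro u hu
      exact ⟨⟨u, hDC hu⟩, hS' (by rw [Subgroup.mem_subgroupOf]; exact hu), rfl⟩
    · rintro _ ⟨c, -, rfl⟩
      exact c.2
  · -- the intersection of the two Sylow subgroups
    have hPx : ∀ y : G, y ∈ (P : Subgroup G).map (MulAut.conj x).toMonoidHom
        ↔ x⁻¹ * y * x ∈ (P : Subgroup G) := by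
      intro y
      constructor
      · rintro ⟨t, ht, rfl⟩
        have : x⁻¹ * ((MulAut.conj x).toMonoidHom t) * x = t := by
          show x⁻¹ * (x * t * x⁻¹) * x = t
          group
        rw [this]
        exact ht
      · intro h
        refine ⟨x⁻¹ * y * x, h, ?_⟩
        show x * (x⁻¹ * y * x) * x⁻¹ = y
        group
    have hDle : D ≤ (P : Subgroup G) ⊓ (P : Subgroup G).map (MulAut.conj x).toMonoidHom := by
      intro u hu
      refine Subgroup.mem_inf.mpr ⟨hDP hu, ?_⟩
      rw [hPx]
      apply hDP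
      have h1 := (Subgroup.mem_normalizer_iff.mp (Subgroup.inv_mem _ hxN) u).mp hu
      rwa [inv_inv] at h1
    apply eq_of_maximal_in_normalizer D
      ((P : Subgroup G) ⊓ (P : Subgroup G).map (MulAut.conj x).toMonoidHom) _ _
      (P.isPGroup'.to_le inf_le_left) hDle le_rfl
    intro Q hQ hDQ hQle
    apply le_antisymm _ hDQ
    intro y hy
    obtain ⟨hy1, hyN⟩ := Subgroup.mem_inf.mp (hQle hy)
    obtain ⟨hyP, hyPx⟩ := Subgroup.mem_inf.mp hy1
    rw [hPx] at hyPx
    have h1 : (⟨y, hyN⟩ : Subgroup.normalizer (D : Set G))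
        ∈ (SN : Subgroup (Subgroup.normalizer (D : Set G))) := by
      apply hSN
      rw [Subgroup.mem_subgroupOf]
      exact ⟨hyP, hyN⟩
    have hyN' : x⁻¹ * y * x ∈ Subgroup.normalizer (D : Set G) :=
      Subgroup.mul_mem _ (Subgroup.mul_mem _ (Subgroup.inv_mem _ hxN) hyN) hxN
    have h2 : (⟨x⁻¹ * y * x, hyN'⟩ : Subgroup.normalizer (D : Set G))
        ∈ (SN : Subgroup (Subgroup.normalizer (D : Set G))) := by
      apply hSN
      rw [Subgroup.mem_subgroupOf]
      exact ⟨hyPx, hyN'⟩
    have h3 : (⟨y, hyN⟩ : Subgroup.normalizer (D : Set G))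
        ∈ (SN : Subgroup (Subgroup.normalizer (D : Set G))).map (MulAut.conj z).toMonoidHom := by
      refine ⟨_, h2, ?_⟩
      apply Subtype.ext
      show (z : G) * (x⁻¹ * y * x) * (z : G)⁻¹ = y
      rw [← hx]
      group
    have h4 : (⟨y, hyN⟩ : Subgroup.normalizer (D : Set G)) ∈ DN := by
      rw [hR]
      exact ⟨h1, h3⟩
    exact (hDNmem _).mp h4


end Cfsg.Agent.S0956
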