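import Mathlib
import Cfsg.Statements.S0957
import Cfsg.Agent.Lib.helper3.OrbitDvd

set_option autoImplicit false
open Cfsg

namespace Cfsg.Agent.S0957

/-- Let P be a Sylow p-subgroup of the finite group G, let g, h ∈ G and let p ^ d be the order of a Sylow p-subgroup of the centralizer of g. Then the number of pairs (y, z) with y conjugate to g, z conjugate to h and z * y⁻¹ ∈ P is divisible by the order of P divided by p ^ d. -/
theorem result {G : Type*} [Group G] [Finite G] (p : ℕ) [Fact p.Prime] (P : Sylow p G) (g h : G) (S : Sylow p (Subgroup.centralizer ({g} : Set G))) : Nat.card P / Nat.card S ∣ Nat.card {yz : G × G // IsConj g yz.1 ∧ IsConj h yz.2 ∧ yz.2 * yz.1⁻¹ ∈ (P : Subgroup G)} := by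
  classical
  have hp : p.Prime := Fact.out
  let act : MulAction ↥(P : Subgroup G)
      {yz : G × G // IsConj g yz.1 ∧ IsConj h yz.2 ∧ yz.2 * yz.1⁻¹ ∈ (P : Subgroup G)} :=
    { smul := fun u x => ⟨((u : G) * x.1.1 * (u : G)⁻¹, (u : G) * x.1.2 * (u : G)⁻¹),
        x.2.1.trans (isConj_iff.2 ⟨u, rfl⟩), x.2.2.1.trans (isConj_iff.2 ⟨u, rfl⟩), by
          have e : (u : G) * x.1.2 * (u : G)⁻¹ * ((u : G) * x.1.1 * (u : G)⁻¹)⁻¹ =
              (u : G) * (x.1.2 * x.1.1⁻¹) * (u : G)⁻¹ := by group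
          show (u : G) * x.1.2 * (u : G)⁻¹ * ((u : G) * x.1.1 * (u : G)⁻¹)⁻¹ ∈ (P : Subgroup G)
          rw [e]
          exact mul_mem (mul_mem u.2 x.2.2.2) (inv_mem u.2)⟩
      one_smul := fun x => by
        apply Subtype.ext
        apply Prod.ext
        · show ((1 : ↥(P : Subgroup G)) : G) * x.1.1 * ((1 : ↥(P : Subgroup G)) : G)⁻¹ = x.1.1
          simp
        · show ((1 : ↥(P : Subgroup G)) : G) * x.1.2 * ((1 : ↥(P : Subgroup G)) : G)⁻¹ = x.1.2
          simp
      mul_smul := fun u v x => by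
        apply Subtype.ext
        apply Prod.ext
        · show ((u * v : ↥(P : Subgroup G)) : G) * x.1.1 * ((u * v : ↥(P : Subgroup G)) : G)⁻¹ =
            (u : G) * ((v : G) * x.1.1 * (v : G)⁻¹) * (u : G)⁻¹
          rw [Subgroup.coe_mul]; group
        · show ((u * v : ↥(P : Subgroup G)) : G) * x.1.2 * ((u * v : ↥(P : Subgroup G)) : G)⁻¹ =
            (u : G) * ((v : G) * x.1.2 * (v : G)⁻¹) * (u : G)⁻¹
          rw [Subgroup.coe_mul]; group }
  apply Cfsg.Agent.Lib.helper3.OrbitDvd.dvd_card_of_forall_index_stabilizer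
    (α := ↥(P : Subgroup G))
  intro x
  obtain ⟨S', hS'⟩ : ∃ S' : Subgroup ↥(P : Subgroup G), S' = MulAction.stabilizer _ x := ⟨_, rfl⟩
  rw [← hS']
  -- facts about Sylow orders
  have hScard : Nat.card S = p ^ (Nat.card (Subgroup.centralizer ({g} : Set G))).factorization p :=
    S.card_eq_multiplicity
  have hPcard : Nat.card P = p ^ (Nat.card G).factorization p := P.card_eq_multiplicity
  have hSP : Nat.card S ∣ Nat.card P := by
    rw [hScard, hPcard]
    apply pow_dvd_pow
    have hd : Nat.card (Subgroup.centralizer ({g} : Set G)) ∣ Nat.card G :=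
      Subgroup.card_subgroup_dvd_card _
    exact (Nat.factorization_le_iff_dvd Nat.card_pos.ne' Nat.card_pos.ne').2 hd p
  -- the stabilizer embeds in the centralizer of `g`
  obtain ⟨c, hc⟩ := isConj_iff.1 x.2.1
  have hstab : ∀ u : ↥(P : Subgroup G), u ∈ S' → (u : G) * x.1.1 * (u : G)⁻¹ = x.1.1 := by
    intro u hu
    rw [hS', MulAction.mem_stabilizer_iff] at hu
    have := congrArg (fun t : {yz : G × G // IsConj g yz.1 ∧ IsConj h yz.2 ∧
      yz.2 * yz.1⁻¹ ∈ (P : Subgroup G)} => t.1.1) hu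
    exact this
  have hS'dvd : Nat.card S' ∣ Nat.card (Subgroup.centralizer ({g} : Set G)) := by
    let f : ↥S' →* G := (MulAut.conj c⁻¹).toMonoidHom.comp
      ((P : Subgroup G).subtype.comp S'.subtype)
    have hf : ∀ u : ↥S', f u ∈ Subgroup.centralizer ({g} : Set G) := by
      intro u
      rw [Subgroup.mem_centralizer_singleton_iff]
      have h1 := hstab u.1 u.2
      show c⁻¹ * ((u : ↥(P : Subgroup G)) : G) * c⁻¹⁻¹ * g = g * (c⁻¹ * ((u : ↥(P : Subgroup G)) : G) * c⁻¹⁻¹)
      rw [← hc] at h1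
      have h2 : ((u : ↥(P : Subgroup G)) : G) * (c * g * c⁻¹) =
          (c * g * c⁻¹) * ((u : ↥(P : Subgroup G)) : G) := by
        conv_rhs => rw [← h1]
        group
      have h3 : c⁻¹ * (((u : ↥(P : Subgroup G)) : G) * (c * g * c⁻¹)) * c =
          c⁻¹ * ((c * g * c⁻¹) * ((u : ↥(P : Subgroup G)) : G)) * c := by rw [h2]
      have e1 : c⁻¹ * ((u : ↥(P : Subgroup G)) : G) * c⁻¹⁻¹ * g =
          c⁻¹ * (((u : ↥(P : Subgroup G)) : G) * (c * g * c⁻¹)) * c := by group
      have e2 : g * (c⁻¹ * ((u : ↥(P : Subgroup G)) : G) * c⁻¹⁻¹) =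
          c⁻¹ * ((c * g * c⁻¹) * ((u : ↥(P : Subgroup G)) : G)) * c := by group
      rw [e1, e2, h3]
    have hinj : Function.Injective (f.codRestrict _ hf) := by
      intro u v huv
      have h1 : f u = f v := congrArg Subtype.val huv
      have h2 : ((u : ↥(P : Subgroup G)) : G) = ((v : ↥(P : Subgroup G)) : G) :=
        (MulAut.conj c⁻¹).injective h1
      exact Subtype.ext (Subtype.ext h2)
    exact Subgroup.card_dvd_of_injective _ hinj
  have hS'pg : IsPGroup p ↥S' := P.isPGroup'.to_subgroup S'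
  obtain ⟨k, hk⟩ := IsPGroup.iff_card.1 hS'pg
  have hS'S : Nat.card S' ∣ Nat.card S := by
    rw [hk, hScard]
    apply pow_dvd_pow
    rw [hk] at hS'dvd
    exact (hp.pow_dvd_iff_le_factorization Nat.card_pos.ne').1 hS'dvd
  -- index computation
  obtain ⟨t, ht⟩ := hSP
  obtain ⟨r, hr⟩ := hS'S
  have hidx := S'.index_mul_card
  have hSpos : 0 < Nat.card S := Nat.card_pos
  have hS'pos : 0 < Nat.card S' := Nat.card_pos
  have h1 : Nat.card P / Nat.card S = t := by
    rw [ht, Nat.mul_div_cancel_left _ hSpos]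
  have h2 : S'.index = r * t := by
    have h3 : S'.index * Nat.card S' = Nat.card S' * (r * t) := by
      have h4 : Nat.card ↥(P : Subgroup G) = Nat.card S' * (r * t) := by
        have h5 : Nat.card ↥(P : Subgroup G) = Nat.card S * t := ht
        rw [h5, hr, mul_assoc]
      rw [hidx, h4]
    rw [mul_comm] at h3
    exact Nat.eq_of_mul_eq_mul_left hS'pos h3
  rw [h1, h2]
  exact dvd_mul_left t r

end Cfsg.Agent.S0957
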