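import Mathlib
import Cfsg.Statements.S0962
import Cfsg.Agent.Lib.helper3.DefectOrder4

set_option autoImplicit false
open Cfsg

namespace Cfsg.Agent.S0962

open Cfsg.Agent.Lib.helper3.Block Cfsg.Agent.Lib.helper3.LocalM
set_option linter.style.haveILetI false

/-- Fix a maximal ideal M of the algebraic integers containing the prime p and a natural number d. The number of blocks of the finite group G of defect at least d is at most the number of conjugacy classes of p-regular elements of G of defect at least d, where the defect of a class is the exponent of p in the order of the centralizer of any of its elements. -/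
theorem result {G : Type*} [Group G] [Finite G] (p : ℕ) [Fact p.Prime] (M : Ideal Cfsg.AlgInt) (hM : Cfsg.IsPModular p M) (d : ℕ) : Nat.card {B : Set (Cfsg.IrrCharacter G) // Cfsg.IsPBlock M B ∧ d ≤ Cfsg.blockDefect p B} ≤ Nat.card {C : ConjClasses G // ∃ g : G, ConjClasses.mk g = C ∧ Cfsg.IsPRegular p g ∧ d ≤ (Nat.card (Subgroup.centralizer ({g} : Set G))).factorization p} := by
  classical
  letI : Fintype G := Fintype.ofFinite G
  haveI hMp := isPrime_of_isPModular hM
  have hMtop : M ≠ ⊤ := hM.2.1.ne_top
  refine card_blocks_le_card_classes hM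
    {B : Set (Cfsg.IrrCharacter G) | Cfsg.IsPBlock M B ∧ d ≤ Cfsg.blockDefect p B}
    (fun B hB => hB.1)
    {C : ConjClasses G | ∃ g : G, ConjClasses.mk g = C ∧ Cfsg.IsPRegular p g ∧
      d ≤ (Nat.card (Subgroup.centralizer ({g} : Set G))).factorization p} ?_
  intro B hB B' hB' χ hχ C hC
  obtain ⟨x, hx⟩ : ∃ x : G, x = Quotient.out C := ⟨_, rfl⟩
  rw [← hx]
  have hxC : ConjClasses.mk x = C := by
    rw [hx]
    exact Quotient.out_eq C
  have hloc := osima hM B' hB'.1 x
  by_cases hxp : p ∣ orderOf x
  · rw [blockCoeff_eq_zero_of_dvd hM B' hB'.1 x hxp, mul_zero]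
    exact memLocalIdeal_zero hMtop
  · have hlt : (Nat.card (Subgroup.centralizer ({x} : Set G))).factorization p < d := by
      by_contra h
      push Not at h
      exact hC ⟨x, hxC, hxp, h⟩
    have e1 := memLocalIdeal_centralChar_of_lt hM B hB.1 χ hχ x (lt_of_lt_of_le hlt hB.2)
    rw [mul_comm]
    exact memLocalIdeal_mul_localRing hloc e1

end Cfsg.Agent.S0962
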