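import Mathlib
import Cfsg.Statements.S0967
import Cfsg.Agent.Lib.helper3.BlockPGroup

set_option autoImplicit false
open Cfsg

set_option linter.style.haveILetI false

namespace Cfsg.Agent.S0967

open Cfsg.Agent.Lib.helper3.LocalM Cfsg.Agent.Lib.helper3.Block Cfsg.Agent.Lib.helper3.Irr Cfsg.Agent.Lib.helper3.CharBasic Cfsg.Agent.Lib.helper3.Central Cfsg.Agent.Lib.helper3.Lin

/-- Let N be a normal subgroup of the finite group G of order prime to p and fix a maximal ideal M of the algebraic integers containing p. If χ is an irreducible character of G ⧸ N and ψ lies in the block of its inflation χ ∘ (quotient map), then ψ is itself inflated from an irreducible character ψ' of G ⧸ N lying in the block of χ. (Over a normal p'-subgroup, blocks of the quotient are whole blocks of G.) -/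
theorem result {G : Type*} [Group G] [Finite G] (p : ℕ) [Fact p.Prime] (M : Ideal Cfsg.AlgInt) (hM : Cfsg.IsPModular p M) (N : Subgroup G) [N.Normal] (hN : ¬ p ∣ Nat.card N) (χ : Cfsg.IrrCharacter (G ⧸ N)) (ψ : Cfsg.IrrCharacter G) (hψ : ψ ∈ Cfsg.blockOf M ((χ : G ⧸ N → ℂ) ∘ QuotientGroup.mk)) : ∃ ψ' : Cfsg.IrrCharacter (G ⧸ N), (ψ : G → ℂ) = (ψ' : G ⧸ N → ℂ) ∘ QuotientGroup.mk ∧ Cfsg.SameBlock M (χ : G ⧸ N → ℂ) (ψ' : G ⧸ N → ℂ) := by
  classical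
  letI : Fintype G := Fintype.ofFinite G
  letI : Fintype N := Fintype.ofFinite _
  letI : Fintype (G ⧸ N) := Fintype.ofFinite _
  have hp : p.Prime := Fact.out
  haveI hMp : M.IsPrime := hM.2.1.isPrime
  have hMtop : M ≠ ⊤ := hM.2.1.ne_top
  have hψ' : Cfsg.SameBlock M ((χ : G ⧸ N → ℂ) ∘ QuotientGroup.mk) (ψ : G → ℂ) := hψ
  obtain ⟨X, hX⟩ : ∃ X : IrrCharacter G, X = ⟨inflate N (χ : G ⧸ N → ℂ), isIrrCharacter_inflate N χ.2⟩ :=
    ⟨_, rfl⟩
  have hXf : (X : G → ℂ) = (χ : G ⧸ N → ℂ) ∘ QuotientGroup.mk := by rw [hX]; rfl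
  obtain ⟨θ, hθ⟩ : ∃ θ : IrrCharacter N, θ = ⟨fun _ => 1, isIrrCharacter_one⟩ := ⟨_, rfl⟩
  have hθf : (θ : N → ℂ) = fun _ => 1 := by rw [hθ]
  have h1 : X ∈ irrOver N (θ : N → ℂ) := by
    show Cfsg.classInner (fun n : N => (X : G → ℂ) n) (θ : N → ℂ) ≠ 0
    rw [hθf, hXf]
    have e : (fun n : N => ((χ : G ⧸ N → ℂ) ∘ QuotientGroup.mk) (n : G))
        = (χ : G ⧸ N → ℂ) 1 • (fun _ : N => (1 : ℂ)) := by
      funext n
      simp only [Function.comp_apply, Pi.smul_apply, smul_eq_mul, mul_one]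
      have e0 : ((n : G) : G ⧸ N) = 1 := (QuotientGroup.eq_one_iff _).mpr n.2
      rw [e0]
    rw [e, classInner_smul_left, classInner_one_one, mul_one]
    exact apply_one_ne_zero χ.2
  have h2 : ψ ∈ Cfsg.blockOf M (X : G → ℂ) := by
    rw [hXf]
    exact hψ'
  have h3 := blockOf_subset_irrOver hM N hN θ X h1 h2
  rw [hθf] at h3
  have hψc := isCharacter_of_isIrrCharacter ψ.2
  have hconst : ∀ g n : G, n ∈ N → (ψ : G → ℂ) (g * n) = (ψ : G → ℂ) g :=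
    fun g n hn => apply_mul_of_apply_eq_one hψc (apply_eq_of_irrOver_one N ψ h3 n hn) g
  obtain ⟨ψ₀, hψ₀, hψψ₀⟩ := exists_eq_inflate ψ.2 N hconst
  refine ⟨⟨ψ₀, hψ₀⟩, hψψ₀, ?_⟩
  apply sameBlock_of_sameBlock_inflate hM N hN χ ⟨ψ₀, hψ₀⟩
  have e2 : ((⟨ψ₀, hψ₀⟩ : IrrCharacter (G ⧸ N)) : G ⧸ N → ℂ) ∘ QuotientGroup.mk = (ψ : G → ℂ) := by
    rw [hψψ₀]; rfl
  rw [e2]
  exact hψ'

end Cfsg.Agent.S0967
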