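import Mathlib
import Cfsg.Statements.S0968
import Cfsg.Agent.Lib.helper3.CProd7
import Cfsg.Agent.Lib.helper3.Irr7

set_option autoImplicit false
open Cfsg

namespace Cfsg.Agent.S0968

set_option linter.style.haveILetI false

open Cfsg Cfsg.Agent.Lib.helper3.Block Cfsg.Agent.Lib.helper3.LocalM Cfsg.Agent.Lib.helper3.Irr Cfsg.Agent.Lib.helper3.CharBasic

/-- Let P be a p-subgroup of the finite group G with P ⊔ C_G(P) = G, and let B be a block with defect group P relative to a maximal ideal M of the algebraic integers containing p. Then there is exactly one θ ∈ B with θ x = θ 1 for all x ∈ P; for this θ the exponent of p in θ(1) equals the exponent of p in the index of P; and the number of members of B equals the number of conjugacy classes of P. -/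
theorem result {G : Type*} [Group G] [Finite G] (p : ℕ) [Fact p.Prime] (M : Ideal Cfsg.AlgInt) (hM : Cfsg.IsPModular p M) (P : Subgroup G) (hP : IsPGroup p P) (hG : P ⊔ Subgroup.centralizer (P : Set G) = ⊤) (B : Set (Cfsg.IrrCharacter G)) (hB : Cfsg.IsPBlock M B) (hD : Cfsg.IsDefectGroup p M B P) : (∃! θ : Cfsg.IrrCharacter G, θ ∈ B ∧ ∀ x ∈ P, (θ : G → ℂ) x = (θ : G → ℂ) 1) ∧ (∀ θ ∈ B, (∀ x ∈ P, (θ : G → ℂ) x = (θ : G → ℂ) 1) → (Cfsg.charDegree (θ : G → ℂ)).factorization p = P.index.factorization p) ∧ Nat.card B = Nat.card (ConjClasses P) := by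
  classical
  letI : Fintype G := Fintype.ofFinite G
  letI : Fintype P := Fintype.ofFinite _
  letI : Fintype ↥(Subgroup.centralizer (P : Set G)) := Fintype.ofFinite _
  obtain ⟨θ₀, hθ₀B, ζ₀, ψ₀, hθ₀, hζ₀, hker, hdeg, hdegψ, hmem⟩ :=
    cprod_structure hM P hP hG B hB hD
  have hψ₀b := (hmem θ₀ ζ₀ ψ₀ hθ₀).mp hθ₀B
  have huniq : ∀ θ ∈ B, (∀ x ∈ P, (θ : G → ℂ) x = (θ : G → ℂ) 1) → θ = θ₀ := by
    intro θ hθB hkθ
    obtain ⟨ζ, ψ, hθ⟩ := exists_prod_decomp P hG θ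
    have hζ := const_one_of_kernel P (θ : G → ℂ) ζ ψ hθ hkθ
    have hζeq : ζ₀ = ζ := by
      apply Subtype.ext
      funext d
      rw [hζ d, hζ₀ d]
    rw [hζeq] at hθ₀
    have hψ := (hmem θ ζ ψ hθ).mp hθB
    exact (prod_eq_of_same_factor hM P hP hG ψ₀ hdegψ θ θ₀ ζ ψ ψ₀ hψ hψ₀b hθ hθ₀).1
  refine ⟨⟨θ₀, ⟨hθ₀B, hker⟩, fun θ h => huniq θ h.1 h.2⟩, ?_, ?_⟩
  · intro θ hθB hkθ
    rw [huniq θ hθB hkθ]
    exact hdeg
  · rw [← card_irr_eq_card_conjClasses]
    have hspec : ∀ θ : IrrCharacter G, ∃ ψ : IrrCharacter ↥(Subgroup.centralizer (P : Set G)),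
        ∀ (d : P) (c : ↥(Subgroup.centralizer (P : Set G))),
          (θ : G → ℂ) ((d : G) * (c : G))
            = ((Classical.choose (exists_prod_decomp P hG θ) : IrrCharacter P) : P → ℂ) d
              * (ψ : ↥(Subgroup.centralizer (P : Set G)) → ℂ) c :=
      fun θ => Classical.choose_spec (exists_prod_decomp P hG θ)
    apply Nat.card_congr
    refine Equiv.ofBijective
      (fun θ : B => Classical.choose (exists_prod_decomp P hG (θ : IrrCharacter G))) ⟨?_, ?_⟩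
    · intro θ θ' hF
      beta_reduce at hF
      obtain ⟨ψ, hψ⟩ := hspec (θ : IrrCharacter G)
      obtain ⟨ψ', hψ'⟩ := hspec (θ' : IrrCharacter G)
      rw [← hF] at hψ'
      have hb := (hmem _ _ ψ hψ).mp θ.2
      have hb' := (hmem _ _ ψ' hψ').mp θ'.2
      apply Subtype.ext
      exact (prod_eq_of_same_factor hM P hP hG ψ₀ hdegψ _ _ _ ψ ψ' hb hb' hψ hψ').1
    · intro ζ
      obtain ⟨θ, ψ, hψb, hθ⟩ := exists_prod_in_block hM P hP hG ψ₀ ζ
      have hθB : θ ∈ B := (hmem θ ζ ψ hθ).mpr hψb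
      refine ⟨⟨θ, hθB⟩, ?_⟩
      beta_reduce
      obtain ⟨ψ', hψ'⟩ := hspec θ
      exact (prod_decomp_unique P (θ : G → ℂ) _ ζ ψ' ψ hψ' hθ).1

end Cfsg.Agent.S0968
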