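import Cfsg.Statements.S0986
import Mathlib

set_option autoImplicit false
open Cfsg

namespace Cfsg.Agent.S0986

/-- In a finite `p`-subgroup `P`, a proper subgroup `D` is properly contained in `N_P(D)`. -/
theorem exists_mem_normalizer_not_mem {G : Type*} [Group G] [Finite G] {p : ℕ} [Fact p.Prime]
    (P : Subgroup G) (hP : IsPGroup p P) (D : Subgroup G) (hDP : D ≤ P) (hne : D ≠ P) :
    ∃ x ∈ P, x ∈ Subgroup.normalizer (D : Set G) ∧ x ∉ D := by
  have hnil : Group.IsNilpotent P := hP.isNilpotent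
  have hnc := Group.normalizerCondition_of_isNilpotent (G := P)
  have hlt : D.subgroupOf P < ⊤ := by
    rw [lt_top_iff_ne_top]
    intro h
    rw [Subgroup.subgroupOf_eq_top] at h
    exact hne (le_antisymm hDP h)
  have h1 := hnc _ hlt
  rw [← Subgroup.subgroupOf_normalizer_eq hDP] at h1
  obtain ⟨x, hx1, hx2⟩ := SetLike.exists_of_lt h1
  exact ⟨x.1, x.2, hx1, hx2⟩

theorem card_lt_of_le_of_mem {G : Type*} [Group G] [Finite G] (H K : Subgroup G) (hle : H ≤ K)
    (x : G) (hxK : x ∈ K) (hxH : x ∉ H) : Nat.card H < Nat.card K := by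
  by_contra hcon
  push Not at hcon
  have := Subgroup.eq_of_le_of_card_ge hle hcon
  exact hxH (this ▸ hxK)

theorem sylow_eq_of_le {G : Type*} [Group G] [Finite G] {p : ℕ} [Fact p.Prime]
    (P Q : Sylow p G) (h : (P : Subgroup G) ≤ Q) : P = Q := by
  apply Sylow.ext
  apply Subgroup.eq_of_le_of_card_ge h
  rw [P.card_eq_multiplicity, Q.card_eq_multiplicity]

/-- Let P and Q be distinct Sylow p-subgroups of a finite group G chosen so that the order of P ∩ Q is as large as possible among intersections of two distinct Sylow p-subgroups, and let N be the normalizer of P ∩ Q. Then N has more than one Sylow p-subgroup, any two distinct Sylow p-subgroups of N intersect exactly in P ∩ Q, and each Sylow p-subgroup of N lies in exactly one Sylow p-subgroup of G. -/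
theorem result {G : Type*} [Group G] [Finite G] (p : ℕ) [Fact p.Prime] (P Q : Sylow p G) (hPQ : P ≠ Q) (hmax : ∀ P' Q' : Sylow p G, P' ≠ Q' → Nat.card ↥((P' : Subgroup G) ⊓ (Q' : Subgroup G)) ≤ Nat.card ↥((P : Subgroup G) ⊓ (Q : Subgroup G))) : 1 < Nat.card (Sylow p ↥(Subgroup.normalizer (((P : Subgroup G) ⊓ (Q : Subgroup G) : Subgroup G) : Set G))) ∧ (∀ S T : Sylow p ↥(Subgroup.normalizer (((P : Subgroup G) ⊓ (Q : Subgroup G) : Subgroup G) : Set G)), S ≠ T → (S : Subgroup _) ⊓ (T : Subgroup _) = ((P : Subgroup G) ⊓ (Q : Subgroup G)).subgroupOf (Subgroup.normalizer (((P : Subgroup G) ⊓ (Q : Subgroup G) : Subgroup G) : Set G))) ∧ ∀ S : Sylow p ↥(Subgroup.normalizer (((P : Subgroup G) ⊓ (Q : Subgroup G) : Subgroup G) : Set G)), ∃! T : Sylow p G, (S : Subgroup _).map (Subgroup.normalizer (((P : Subgroup G) ⊓ (Q : Subgroup G) : Subgroup G) : Set G)).subtype ≤ (T : Subgroup G) := by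
  classical
  set D : Subgroup G := (P : Subgroup G) ⊓ (Q : Subgroup G) with hD
  set N := Subgroup.normalizer (D : Set G) with hN
  have hDP : D ≤ (P : Subgroup G) := inf_le_left
  have hDQ : D ≤ (Q : Subgroup G) := inf_le_right
  have hDneP : D ≠ (P : Subgroup G) := by
    intro h
    apply hPQ
    apply sylow_eq_of_le
    rw [← h]; exact hDQ
  have hDneQ : D ≠ (Q : Subgroup G) := by
    intro h
    apply hPQ
    symm
    apply sylow_eq_of_le
    rw [← h]; exact hDP
  obtain ⟨x, hxP, hxN, hxD⟩ := exists_mem_normalizer_not_mem (P : Subgroup G) P.2 D hDP hDneP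
  obtain ⟨y, hyQ, hyN, hyD⟩ := exists_mem_normalizer_not_mem (Q : Subgroup G) Q.2 D hDQ hDneQ
  have hDN : D ≤ N := Subgroup.le_normalizer
  have hDpg : IsPGroup p (D.subgroupOf N) := (P.2.to_le hDP).comap_subtype
  -- F1
  have F1 : ∀ S : Sylow p N, D.subgroupOf N ≤ (S : Subgroup N) := fun S =>
    hDpg.le_sylow_of_normal S
  have hcardD : Nat.card (D.subgroupOf N) = Nat.card D :=
    Nat.card_congr (Subgroup.subgroupOfEquivOfLe hDN).toEquiv
  -- every p-subgroup of `G` inside `N` lies in a Sylow subgroup of `N`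
  have hex : ∀ R : Sylow p G, ∃ S : Sylow p N, ((R : Subgroup G) ⊓ N).subgroupOf N ≤ (S : Subgroup N) := by
    intro R
    have h1 : IsPGroup p (((R : Subgroup G) ⊓ N).subgroupOf N) :=
      (R.2.to_le inf_le_left).comap_subtype
    exact h1.exists_le_sylow
  -- F2
  have F2 : ∀ S : Sylow p N, Nat.card D < Nat.card (S : Subgroup N) := by
    intro S
    obtain ⟨S₀, hS₀⟩ := hex P
    have h1 : Nat.card (S : Subgroup N) = Nat.card (S₀ : Subgroup N) := by
      rw [S.card_eq_multiplicity, S₀.card_eq_multiplicity]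
    rw [h1, ← hcardD]
    apply card_lt_of_le_of_mem _ _ (F1 S₀) ⟨x, hxN⟩
    · apply hS₀
      rw [Subgroup.mem_subgroupOf]
      exact ⟨hxP, hxN⟩
    · rw [Subgroup.mem_subgroupOf]
      exact hxD
  have hcardmap : ∀ K : Subgroup N, Nat.card (K.map N.subtype) = Nat.card K := fun K =>
    Subgroup.card_map_of_injective N.subtype_injective
  -- existence of a Sylow subgroup of `G` above
  have F3 : ∀ S : Sylow p N, ∃ T : Sylow p G, (S : Subgroup N).map N.subtype ≤ (T : Subgroup G) :=
    fun S => (S.2.map N.subtype).exists_le_sylow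
  -- uniqueness
  have F4 : ∀ S : Sylow p N, ∀ T₁ T₂ : Sylow p G, (S : Subgroup N).map N.subtype ≤ (T₁ : Subgroup G) →
      (S : Subgroup N).map N.subtype ≤ (T₂ : Subgroup G) → T₁ = T₂ := by
    intro S T₁ T₂ h1 h2
    by_contra hne
    have h3 := hmax T₁ T₂ hne
    have h4 : (S : Subgroup N).map N.subtype ≤ (T₁ : Subgroup G) ⊓ (T₂ : Subgroup G) := le_inf h1 h2
    have h5 := Subgroup.card_le_of_le h4
    rw [hcardmap] at h5
    have := F2 S
    omega
  refine ⟨?_, ?_, ?_⟩
  · -- (a)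
    by_contra hcon
    push Not at hcon
    have hsub : Subsingleton (Sylow p N) := by
      rw [← Finite.card_le_one_iff_subsingleton]
      exact hcon
    obtain ⟨S₁, hS₁⟩ := hex P
    obtain ⟨S₂, hS₂⟩ := hex Q
    have h12 : S₁ = S₂ := Subsingleton.elim _ _
    subst h12
    obtain ⟨T, hT⟩ := F3 S₁
    have hDT : D ≤ (T : Subgroup G) := by
      intro d hd
      apply hT
      exact ⟨⟨d, hDN hd⟩, F1 S₁ (Subgroup.mem_subgroupOf.mpr hd), rfl⟩
    have hxT : x ∈ (T : Subgroup G) := by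
      apply hT
      refine ⟨⟨x, hxN⟩, hS₁ ?_, rfl⟩
      rw [Subgroup.mem_subgroupOf]
      exact ⟨hxP, hxN⟩
    have hyT : y ∈ (T : Subgroup G) := by
      apply hT
      refine ⟨⟨y, hyN⟩, hS₂ ?_, rfl⟩
      rw [Subgroup.mem_subgroupOf]
      exact ⟨hyQ, hyN⟩
    have hPT : P = T := by
      by_contra hne
      have h1 := hmax P T hne
      have h2 : Nat.card D < Nat.card ((P : Subgroup G) ⊓ (T : Subgroup G) : Subgroup G) :=
        card_lt_of_le_of_mem _ _ (le_inf hDP hDT) x ⟨hxP, hxT⟩ hxD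
      omega
    have hQT : Q = T := by
      by_contra hne
      have h1 := hmax Q T hne
      have h2 : Nat.card D < Nat.card ((Q : Subgroup G) ⊓ (T : Subgroup G) : Subgroup G) :=
        card_lt_of_le_of_mem _ _ (le_inf hDQ hDT) y ⟨hyQ, hyT⟩ hyD
      omega
    exact hPQ (hPT.trans hQT.symm)
  · -- (b)
    intro S T hST
    obtain ⟨S', hS'⟩ := F3 S
    obtain ⟨T', hT'⟩ := F3 T
    have hne : S' ≠ T' := by
      intro h
      subst h
      apply hST
      -- both equal `(S' ⊓ N).subgroupOf N`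
      have hK : IsPGroup p (((S' : Subgroup G) ⊓ N).subgroupOf N) :=
        (S'.2.to_le inf_le_left).comap_subtype
      have h1 : (S : Subgroup N) ≤ ((S' : Subgroup G) ⊓ N).subgroupOf N := by
        intro z hz
        rw [Subgroup.mem_subgroupOf]
        exact ⟨hS' ⟨z, hz, rfl⟩, z.2⟩
      have h2 : (T : Subgroup N) ≤ ((S' : Subgroup G) ⊓ N).subgroupOf N := by
        intro z hz
        rw [Subgroup.mem_subgroupOf]
        exact ⟨hT' ⟨z, hz, rfl⟩, z.2⟩
      have h3 := S.is_maximal' hK h1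
      have h4 := T.is_maximal' hK h2
      exact Sylow.ext (h3.symm.trans h4)
    have h1 := hmax S' T' hne
    symm
    apply Subgroup.eq_of_le_of_card_ge (le_inf (F1 S) (F1 T))
    rw [hcardD]
    have h2 : ((S : Subgroup N) ⊓ (T : Subgroup N)).map N.subtype ≤
        (S' : Subgroup G) ⊓ (T' : Subgroup G) := by
      rintro _ ⟨z, hz, rfl⟩
      exact ⟨hS' ⟨z, hz.1, rfl⟩, hT' ⟨z, hz.2, rfl⟩⟩
    have h3 := Subgroup.card_le_of_le h2
    rw [hcardmap] at h3
    omega
  · -- (c)
    intro S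
    obtain ⟨T, hT⟩ := F3 S
    exact ⟨T, hT, fun T' hT' => F4 S T' T hT' hT⟩

end Cfsg.Agent.S0986
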