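import Cfsg.Statements.S0987
import Mathlib
-- import your own Cfsg.Agent.* helpers here

set_option autoImplicit false
open Cfsg

namespace Cfsg.Agent.S0987

/-- order of a Sylow subgroup when the prime divides the order exactly once -/
theorem card_sylow_of_not_dvd {G : Type*} [Group G] [Finite G] {p m : ℕ} [hp : Fact p.Prime]
    (hG : Nat.card G = p * m) (hm : ¬ p ∣ m) (P : Sylow p G) : Nat.card P = p := by
  have hm0 : m ≠ 0 := by rintro rfl; exact hm (dvd_zero p)
  rw [P.card_eq_multiplicity, hG, Nat.factorization_mul hp.out.ne_zero hm0]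
  simp [hp.out.factorization_self, Nat.factorization_eq_zero_of_not_dvd hm]

/-- a group of order `q * r` with `q < r` primes has a unique Sylow `r`-subgroup -/
theorem subsingleton_sylow_of_card_eq_mul {K : Type*} [Group K] [Finite K] {q r : ℕ}
    (hq : q.Prime) [hr : Fact r.Prime] (hqr : q < r) (hK : Nat.card K = q * r) :
    Subsingleton (Sylow r K) := by
  obtain ⟨S⟩ : Nonempty (Sylow r K) := inferInstance
  have hrq : ¬ r ∣ q := fun h => by
    have := Nat.le_of_dvd hq.pos h
    omega
  have hS : Nat.card S = r := card_sylow_of_not_dvd (by rw [hK, mul_comm]) hrq S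
  have hidx : (S : Subgroup K).index = q := by
    have := (S : Subgroup K).card_mul_index
    rw [hS, hK, mul_comm] at this
    exact Nat.eq_of_mul_eq_mul_right hr.out.pos this
  have hdvd : Nat.card (Sylow r K) ∣ q := hidx ▸ S.card_dvd_index
  have hmod : Nat.card (Sylow r K) ≡ 1 [MOD r] := card_sylow_modEq_one r K
  have hone : Nat.card (Sylow r K) = 1 := by
    rcases (Nat.dvd_prime hq).mp hdvd with h | h
    · exact h
    · exfalso
      rw [h] at hmod
      have h1 : q % r = q := Nat.mod_eq_of_lt hqr
      have h2 : 1 % r = 1 := Nat.mod_eq_of_lt hr.out.one_lt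
      unfold Nat.ModEq at hmod
      rw [h1, h2] at hmod
      exact hq.one_lt.ne' hmod
  exact (Nat.card_eq_one_iff_unique.mp hone).1

/-- If a finite group has order pqr for primes p < q < r, then its Sylow r-subgroups are normal. -/
theorem result {G : Type*} [Group G] [Finite G] (p q r : ℕ) (hp : p.Prime) (hq : q.Prime) [Fact r.Prime] (hpq : p < q) (hqr : q < r) (hG : Nat.card G = p * q * r) (R : Sylow r G) : (R : Subgroup G).Normal := by
  have hr : r.Prime := Fact.out
  have hpr : p < r := hpq.trans hqr
  have hG0 : Nat.card G ≠ 1 := by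
    rw [hG]
    intro h
    have := Nat.eq_one_of_mul_eq_one_left h
    exact hr.one_lt.ne' this
  -- the smallest prime divisor is `p`
  have hmin : (Nat.card G).minFac = p := by
    have hpr' := Nat.minFac_prime hG0
    have hdvd : (Nat.card G).minFac ∣ p * q * r := by
      have := Nat.minFac_dvd (Nat.card G)
      rw [hG] at this ⊢
      exact this
    have hle : (Nat.card G).minFac ≤ p :=
      Nat.minFac_le_of_dvd hp.two_le (by rw [hG]; exact Dvd.intro _ (mul_assoc p q r).symm)
    rcases (Nat.Prime.dvd_mul hpr').mp hdvd with h | h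
    · rcases (Nat.Prime.dvd_mul hpr').mp h with h | h
      · exact (Nat.prime_dvd_prime_iff_eq hpr' hp).mp h
      · have := (Nat.prime_dvd_prime_iff_eq hpr' hq).mp h
        omega
    · have := (Nat.prime_dvd_prime_iff_eq hpr' hr).mp h
      omega
  have : Fact p.Prime := ⟨hp⟩
  obtain ⟨P⟩ : Nonempty (Sylow p G) := inferInstance
  have hpqr : ¬ p ∣ q * r := by
    intro h
    rcases (Nat.Prime.dvd_mul hp).mp h with h | h
    · have := (Nat.prime_dvd_prime_iff_eq hp hq).mp h; omega
    · have := (Nat.prime_dvd_prime_iff_eq hp hr).mp h; omega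
  have hP : Nat.card P = p := card_sylow_of_not_dvd (by rw [hG, mul_assoc]) hpqr P
  have hPc : IsCyclic P := by
    exact isCyclic_of_prime_card hP
  have hcompl := IsCyclic.isComplement' hmin hPc
  set K := (MonoidHom.transferSylow P (hPc.normalizer_le_centralizer hmin)).ker with hKdef
  have hKn : K.Normal := MonoidHom.normal_ker _
  have hKcard : Nat.card K = q * r := by
    have := hcompl.card_mul_card
    rw [hG, mul_assoc, mul_comm p] at this
    have hP' : Nat.card (P : Subgroup G) = p := hP
    rw [hP'] at this
    exact Nat.eq_of_mul_eq_mul_right hp.pos this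
  have hsub : Subsingleton (Sylow r K) := subsingleton_sylow_of_card_eq_mul hq hqr hKcard
  obtain ⟨S⟩ : Nonempty (Sylow r K) := inferInstance
  have hSchar : (S : Subgroup K).Characteristic := Sylow.characteristic_of_subsingleton S
  have hSn : ((S : Subgroup K).map K.subtype).Normal := ConjAct.normal_of_characteristic_of_normal
  have hrq : ¬ r ∣ q := fun h => by
    have := Nat.le_of_dvd hq.pos h
    omega
  have hScard : Nat.card ((S : Subgroup K).map K.subtype) = r := by
    rw [Subgroup.card_map_of_injective K.subtype_injective]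
    exact card_sylow_of_not_dvd (by rw [hKcard, mul_comm]) hrq S
  have hSle : (S : Subgroup K).map K.subtype ≤ R :=
    IsPGroup.le_sylow_of_normal (S.2.map _) R
  have hrpq : ¬ r ∣ p * q := by
    intro h
    rcases (Nat.Prime.dvd_mul hr).mp h with h | h
    · have := Nat.le_of_dvd hp.pos h; omega
    · exact hrq h
  have hRcard : Nat.card (R : Subgroup G) = r :=
    card_sylow_of_not_dvd (by rw [hG, mul_comm]) hrpq R
  have heq : (S : Subgroup K).map K.subtype = R := by
    apply Subgroup.eq_of_le_of_card_ge hSle
    rw [hScard, hRcard]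
  rw [← heq]
  exact hSn

end Cfsg.Agent.S0987
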