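import Cfsg.Statements.S0988
import Mathlib
import Cfsg.Agent.Lib.Helper4.Simple
import Cfsg.Agent.Lib.helper3.Burnside

set_option autoImplicit false
open Cfsg

namespace Cfsg.Agent.S0988

open Cfsg.Agent.Lib.Helper4.Sylow Cfsg.Agent.Lib.Helper4.Simple

/-- an automorphism of prime order `t > p` of a group of order `p²` forces `t = p + 1`. -/
theorem aut_order {P : Type*} [Group P] [Finite P] {p t : ℕ} (hp : p.Prime) (ht : t.Prime)
    (hpt : p < t) (hP : Nat.card P = p ^ 2) (hdvd : t ∣ Nat.card (MulAut P)) : t = p + 1 := by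
  haveI : Fact t.Prime := ⟨ht⟩
  haveI : Finite (MulAut P) := Finite.of_injective (fun e : MulAut P => (e : P → P))
    (fun a b h => MulEquiv.ext (congrFun h))
  obtain ⟨α, hα⟩ := exists_prime_orderOf_dvd_card' t hdvd
  let F : Subgroup P :=
    { carrier := {x | α x = x}
      mul_mem' := fun {a b} ha hb => by
        simp only [Set.mem_ofPred_eq] at ha hb ⊢
        rw [map_mul, ha, hb]
      one_mem' := map_one α
      inv_mem' := fun {a} ha => by
        simp only [Set.mem_ofPred_eq] at ha ⊢
        rw [map_inv, ha] }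
  have hpg : IsPGroup t (Subgroup.zpowers α) :=
    IsPGroup.of_card (n := 1) (by rw [Nat.card_zpowers, hα, pow_one])
  have hmod := hpg.card_modEq_card_fixedPoints P
  have hfix : Nat.card (MulAction.fixedPoints (Subgroup.zpowers α) P) = Nat.card F := by
    apply Nat.card_congr
    apply Equiv.subtypeEquivRight
    intro x
    rw [MulAction.mem_fixedPoints]
    constructor
    · intro h
      exact h ⟨α, Subgroup.mem_zpowers α⟩
    · intro h m
      have hle : Subgroup.zpowers α ≤ MulAction.stabilizer (MulAut P) x := by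
        rw [Subgroup.zpowers_le]
        exact h
      exact hle m.2
  rw [hfix, hP] at hmod
  have hFd : Nat.card F ∣ p ^ 2 := by
    rw [← hP]; exact Subgroup.card_subgroup_dvd_card F
  obtain ⟨k, hk, hkF⟩ := (Nat.dvd_prime_pow hp).mp hFd
  have hp2 := hp.two_le
  have ht1 : ¬ t ∣ p - 1 := by
    intro h
    have := Nat.le_of_dvd (by omega) h
    omega
  have ht2 : ¬ t ∣ p := by
    intro h
    have := Nat.le_of_dvd (by omega) h
    omega
  rw [hkF] at hmod
  interval_cases k
  · -- |F| = 1
    have h1 : t ∣ p ^ 2 - p ^ 0 := (Nat.modEq_iff_dvd' (Nat.pow_le_pow_right hp.pos (by omega))).mp hmod.symm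
    have h2 : p ^ 2 - p ^ 0 = (p - 1) * (p + 1) := by
      obtain ⟨m, rfl⟩ : ∃ m, p = m + 1 := ⟨p - 1, by omega⟩
      simp only [pow_zero, Nat.add_sub_cancel]
      ring_nf
      omega
    rw [h2] at h1
    rcases (Nat.Prime.dvd_mul ht).mp h1 with h | h
    · exact absurd h ht1
    · have := Nat.le_of_dvd (by omega) h
      omega
  · -- |F| = p
    exfalso
    have h1 : t ∣ p ^ 2 - p ^ 1 := (Nat.modEq_iff_dvd' (Nat.pow_le_pow_right hp.pos (by omega))).mp hmod.symm
    have h2 : p ^ 2 - p ^ 1 = p * (p - 1) := by
      obtain ⟨m, rfl⟩ : ∃ m, p = m + 1 := ⟨p - 1, by omega⟩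
      simp only [pow_one, Nat.add_sub_cancel]
      have : (m + 1) ^ 2 = (m + 1) * m + (m + 1) := by ring
      rw [this, Nat.add_sub_cancel]
    rw [h2] at h1
    rcases (Nat.Prime.dvd_mul ht).mp h1 with h | h
    · exact ht2 h
    · exact ht1 h
  · -- |F| = p², α = 1
    exfalso
    have hFtop : F = ⊤ := Subgroup.eq_top_of_card_eq F (by rw [hkF, hP])
    have hα1 : α = 1 := by
      apply MulEquiv.ext
      intro x
      have : x ∈ F := by rw [hFtop]; trivial
      exact this
    rw [hα1, orderOf_one] at hα
    exact ht.one_lt.ne hα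

/-- simple groups are not solvable unless of prime order -/
theorem not_solvable {G : Type*} [Group G] [Finite G] [IsSimpleGroup G] (hnp : ¬ (Nat.card G).Prime) :
    ¬ Group.IsSolvable G := by
  intro hs
  have hc : ∀ a b : G, a * b = b * a := IsSimpleGroup.comm_iff_isSolvable.mpr hs
  exact hnp (Cfsg.Agent.Lib.helper3.Burnside.prime_card_of_comm hc)

theorem two_of_succ_prime {p : ℕ} (hp : p.Prime) (hp1 : (p + 1).Prime) : p = 2 := by
  rcases hp.eq_two_or_odd' with h | h
  · exact h
  · exfalso
    have he : Even (p + 1) := h.add_one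
    have := (Nat.Prime.even_iff hp1).mp he
    have := hp.two_le
    omega

theorem core {G : Type*} [Group G] [Finite G] [IsSimpleGroup G] (p q r : ℕ) (hp : p.Prime)
    (hq : q.Prime) (hr : r.Prime) (hqr : q < r) (hG : Nat.card G = p ^ 2 * q * r) :
    Nat.card G = 60 := by
  have hp2 := hp.two_le
  have hq2 := hq.two_le
  have hr2 := hr.two_le
  have hnp : ¬ (Nat.card G).Prime := by
    rw [hG]
    apply Nat.not_prime_mul
    · have : 0 < p ^ 2 * q := by positivity
      have : 4 ≤ p ^ 2 := by nlinarith
      nlinarith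
    · omega
  have hns := not_solvable hnp
  have hpq : p ≠ q := by
    rintro rfl
    apply hns
    refine Cfsg.Agent.Lib.helper3.Burnside.isSolvable_of_card_eq p r hp hr _ G rfl ⟨3, 1, ?_⟩
    rw [hG]; ring
  have hpr : p ≠ r := by
    rintro rfl
    apply hns
    refine Cfsg.Agent.Lib.helper3.Burnside.isSolvable_of_card_eq p q hp hq _ G rfl ⟨3, 1, ?_⟩
    rw [hG]; ring
  haveI : Fact p.Prime := ⟨hp⟩
  haveI : Fact q.Prime := ⟨hq⟩
  haveI : Fact r.Prime := ⟨hr⟩
  have h4 : 4 ≤ p ^ 2 := by nlinarith
  have hbig : 16 ≤ p ^ 2 * q * r := by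
    have h8 : 4 * 2 ≤ p ^ 2 * q := Nat.mul_le_mul h4 hq2
    exact Nat.mul_le_mul h8 hr2
  rcases lt_or_gt_of_ne hpq with hlt | hlt
  · -- p < q < r
    have hGp : Nat.card G = p ^ 2 * (q * r) := by rw [hG]; ring
    have hpm : ¬ p ∣ q * r := by
      intro h
      rcases (Nat.Prime.dvd_mul hp).mp h with h | h
      · have := (Nat.prime_dvd_prime_iff_eq hp hq).mp h
        omega
      · have := (Nat.prime_dvd_prime_iff_eq hp hr).mp h
        omega
    obtain ⟨P⟩ : Nonempty (Sylow p G) := inferInstance
    have hPc : Nat.card P = p ^ 2 := card_sylow_of_card_eq hGp hpm P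
    have hPi : (P : Subgroup G).index = q * r := index_sylow_of_card_eq hGp hpm P
    haveI hPab : IsMulCommutative (P : Subgroup G) :=
      ⟨⟨(IsPGroup.commutative_of_card_eq_prime_sq hPc)⟩⟩
    have hPC : (P : Subgroup G) ≤ Subgroup.centralizer ((P : Subgroup G) : Set G) :=
      Subgroup.le_centralizer _
    have hd1 := relIndex_centralizer_normalizer_dvd (P : Subgroup G)
    have hd2 : (Subgroup.centralizer ((P : Subgroup G) : Set G)).relIndex
        (Subgroup.normalizer ((P : Subgroup G) : Set G)) ∣ q * r := by
      have h3 := Subgroup.relIndex_dvd_of_le_left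
        (Subgroup.normalizer ((P : Subgroup G) : Set G)) hPC
      have h5 : (P : Subgroup G).relIndex (Subgroup.normalizer ((P : Subgroup G) : Set G)) ∣
          q * r := by
        rw [← hPi]; exact Subgroup.relIndex_dvd_index_of_le Subgroup.le_normalizer
      exact dvd_trans h3 h5
    by_cases h23 : p = 2 ∧ q = 3
    · obtain ⟨rfl, rfl⟩ := h23
      have hGr : Nat.card G = r ^ 1 * 12 := by rw [hG]; ring
      have hrm : ¬ r ∣ 12 := by
        intro h
        have h12 := Nat.le_of_dvd (by norm_num) h
        interval_cases r <;> first | omega | (exfalso; revert hr; decide)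
      obtain ⟨R⟩ : Nonempty (Sylow r G) := inferInstance
      have hRc : Nat.card R = r := by rw [card_sylow_of_card_eq hGr hrm R, pow_one]
      have hn_dvd : Nat.card (Sylow r G) ∣ 12 := card_sylow_dvd_of_card_eq hGr hrm
      have hn_mod : Nat.card (Sylow r G) ≡ 1 [MOD r] := card_sylow_modEq_one r G
      have hn_ne : Nat.card (Sylow r G) ≠ 1 :=
        card_sylow_ne_one_of_simple R (by rw [hRc]; omega) (by rw [hRc, hG]; omega)
      have hnN := card_sylow_mul_card_normalizer R
      generalize Nat.card (Sylow r G) = n at hn_dvd hn_mod hn_ne hnN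
      have hn12 : n ≤ 12 := Nat.le_of_dvd (by norm_num) hn_dvd
      have hn0 : 0 < n := Nat.pos_of_dvd_of_pos hn_dvd (by norm_num)
      have hrd : r ∣ n - 1 := (Nat.modEq_iff_dvd' hn0).mp hn_mod.symm
      have hcases : n = 1 ∨ n = 2 ∨ n = 3 ∨ n = 4 ∨ n = 6 ∨ n = 12 := by
        interval_cases n <;> omega
      rcases hcases with rfl | rfl | rfl | rfl | rfl | rfl
      · exact absurd rfl hn_ne
      · exfalso
        have := Nat.le_of_dvd (by norm_num) hrd
        omega
      · exfalso
        have := Nat.le_of_dvd (by norm_num) hrd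
        omega
      · exfalso
        have := Nat.le_of_dvd (by norm_num) hrd
        omega
      · have h5 := Nat.le_of_dvd (by norm_num) hrd
        have hr5 : r = 5 := by
          have : r = 4 ∨ r = 5 := by omega
          rcases this with rfl | rfl
          · exfalso; revert hr; decide
          · rfl
        rw [hG, hr5]; norm_num
      · exfalso
        have hN : Nat.card (Subgroup.normalizer ((R : Subgroup G) : Set G)) =
            Nat.card (R : Subgroup G) * 1 := by
          rw [show Nat.card (R : Subgroup G) = r from hRc, mul_one]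
          rw [hG] at hnN
          omega
        have hcyc : IsCyclic (R : Subgroup G) := isCyclic_of_prime_card hRc
        have hle := normalizer_le_centralizer_of_coprime (R : Subgroup G) hcyc 1 hN
          (Nat.coprime_one_left _)
        refine false_of_simple_of_normalizer_le_centralizer R hle ?_ ?_
        · rw [hRc]; omega
        · rw [hRc, hG]; omega
    · exfalso
      have hcq : Nat.Coprime ((Subgroup.centralizer ((P : Subgroup G) : Set G)).relIndex
          (Subgroup.normalizer ((P : Subgroup G) : Set G))) q := by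
        rw [Nat.coprime_comm, Nat.Prime.coprime_iff_not_dvd hq]
        intro h
        have h6 := aut_order hp hq hlt hPc (dvd_trans h hd1)
        have hp22 := two_of_succ_prime hp (h6 ▸ hq)
        exact h23 ⟨hp22, by omega⟩
      have hcr : Nat.Coprime ((Subgroup.centralizer ((P : Subgroup G) : Set G)).relIndex
          (Subgroup.normalizer ((P : Subgroup G) : Set G))) r := by
        rw [Nat.coprime_comm, Nat.Prime.coprime_iff_not_dvd hr]
        intro h
        have h6 := aut_order hp hr (lt_trans hlt hqr) hPc (dvd_trans h hd1)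
        omega
      have hd_one : (Subgroup.centralizer ((P : Subgroup G) : Set G)).relIndex
          (Subgroup.normalizer ((P : Subgroup G) : Set G)) = 1 :=
        Nat.Coprime.eq_one_of_dvd hcr (Nat.Coprime.dvd_of_dvd_mul_left hcq hd2)
      have hle : Subgroup.normalizer ((P : Subgroup G) : Set G) ≤
          Subgroup.centralizer ((P : Subgroup G) : Set G) := Subgroup.relIndex_eq_one.mp hd_one
      refine false_of_simple_of_normalizer_le_centralizer P hle ?_ ?_
      · rw [hPc]; omega
      · rw [hPc, hGp]
        have : 2 * 3 ≤ q * r := Nat.mul_le_mul hq2 (by omega)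
        have : p ^ 2 * 6 ≤ p ^ 2 * (q * r) := Nat.mul_le_mul_left _ this
        omega
  · -- q < p, q < r : Sylow q
    exfalso
    have hGq : Nat.card G = q ^ 1 * (p ^ 2 * r) := by rw [hG]; ring
    have hqm : ¬ q ∣ p ^ 2 * r := by
      intro h
      rcases (Nat.Prime.dvd_mul hq).mp h with h | h
      · have := (Nat.prime_dvd_prime_iff_eq hq hp).mp (hq.dvd_of_dvd_pow h)
        omega
      · have := (Nat.prime_dvd_prime_iff_eq hq hr).mp h
        omega
    obtain ⟨Q⟩ : Nonempty (Sylow q G) := inferInstance
    have hQc : Nat.card Q = q := by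
      rw [card_sylow_of_card_eq hGq hqm Q, pow_one]
    have hQi : (Q : Subgroup G).index = p ^ 2 * r := index_sylow_of_card_eq hGq hqm Q
    have hcyc : IsCyclic (Q : Subgroup G) := isCyclic_of_prime_card hQc
    have hk := (card_mul_relIndex_normalizer (Q : Subgroup G)).symm
    have hkd : (Q : Subgroup G).relIndex (Subgroup.normalizer ((Q : Subgroup G) : Set G)) ∣
        p ^ 2 * r := by
      rw [← hQi]
      exact Subgroup.relIndex_dvd_index_of_le Subgroup.le_normalizer
    have hcop : Nat.Coprime ((Q : Subgroup G).relIndex (Subgroup.normalizer ((Q : Subgroup G) : Set G)))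
        (Nat.totient (Nat.card (Q : Subgroup G))) := by
      apply Nat.Coprime.coprime_dvd_left hkd
      rw [show Nat.card (Q : Subgroup G) = q from hQc, Nat.totient_prime hq]
      have h1 : Nat.Coprime p (q - 1) := by
        rw [Nat.Prime.coprime_iff_not_dvd hp]
        intro h
        have := Nat.le_of_dvd (by omega) h
        omega
      have h2 : Nat.Coprime r (q - 1) := by
        rw [Nat.Prime.coprime_iff_not_dvd hr]
        intro h
        have := Nat.le_of_dvd (by omega) h
        omega
      exact Nat.Coprime.mul_left (Nat.Coprime.pow_left 2 h1) h2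
    have hle := normalizer_le_centralizer_of_coprime (Q : Subgroup G) hcyc _ hk hcop
    refine false_of_simple_of_normalizer_le_centralizer Q hle ?_ ?_
    · rw [hQc]; omega
    · rw [hQc, hG]
      have h8 : 4 * 2 ≤ p ^ 2 * r := Nat.mul_le_mul h4 hr2
      have : p ^ 2 * q * r = q * (p ^ 2 * r) := by ring
      rw [this]
      have : q * 8 ≤ q * (p ^ 2 * r) := Nat.mul_le_mul_left q h8
      omega

/-- If a finite simple group has order p^2 * q * r with p, q and r prime, then its order is 60. -/
theorem result {G : Type*} [Group G] [Finite G] [IsSimpleGroup G] (p q r : ℕ) (hp : p.Prime) (hq : q.Prime) (hr : r.Prime) (hG : Nat.card G = p ^ 2 * q * r) : Nat.card G = 60 := by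
  rcases lt_trichotomy q r with h | h | h
  · exact core p q r hp hq hr h hG
  · exfalso
    subst h
    have hnp : ¬ (Nat.card G).Prime := by
      rw [hG]
      apply Nat.not_prime_mul
      · have h4 : 4 ≤ p ^ 2 := by nlinarith [hp.two_le]
        have := Nat.mul_le_mul h4 hq.two_le
        omega
      · exact hq.one_lt.ne'
    apply not_solvable hnp
    refine Cfsg.Agent.Lib.helper3.Burnside.isSolvable_of_card_eq p q hp hq _ G rfl ⟨2, 2, ?_⟩
    rw [hG]; ring
  · exact core p r q hp hr hq h (by rw [hG]; ring)

end Cfsg.Agent.S0988
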