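import Cfsg.Statements.S0994
import Mathlib
import Cfsg.Agent.Lib.Helper4.Simple

set_option autoImplicit false
open Cfsg

namespace Cfsg.Agent.S0994

open Cfsg.Agent.Lib.Helper4.Sylow Cfsg.Agent.Lib.Helper4.Simple

/-- No finite simple group has order 1188 = 2^2 * 3^3 * 11. -/
theorem result {G : Type*} [Group G] [Finite G] [IsSimpleGroup G] : Nat.card G ≠ 1188 := by
  intro hG
  have : Fact (Nat.Prime 11) := ⟨by norm_num⟩
  have hG' : Nat.card G = 11 ^ 1 * 108 := by rw [hG]; norm_num
  have hm : ¬ 11 ∣ 108 := by norm_num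
  obtain ⟨P⟩ : Nonempty (Sylow 11 G) := inferInstance
  have hP : Nat.card P = 11 := by simpa using card_sylow_of_card_eq hG' hm P
  have hdvd : Nat.card (Sylow 11 G) ∣ 108 := card_sylow_dvd_of_card_eq hG' hm
  have hmod : Nat.card (Sylow 11 G) ≡ 1 [MOD 11] := card_sylow_modEq_one 11 G
  have hne : Nat.card (Sylow 11 G) ≠ 1 :=
    card_sylow_ne_one_of_simple P (by rw [hP]; norm_num) (by rw [hP, hG]; norm_num)
  have hn : Nat.card (Sylow 11 G) = 12 := by
    have hle := Nat.le_of_dvd (by norm_num) hdvd
    unfold Nat.ModEq at hmod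
    generalize Nat.card (Sylow 11 G) = n at *
    interval_cases n <;> omega
  have hN := card_sylow_mul_card_normalizer P
  rw [hn, hG] at hN
  have hN' : Nat.card (Subgroup.normalizer ((P : Subgroup G) : Set G)) = 99 := by omega
  have hcyc : IsCyclic (P : Subgroup G) := isCyclic_of_prime_card hP
  have hle := normalizer_le_centralizer_of_coprime (P : Subgroup G) hcyc 9
    (by rw [hN']; rw [show Nat.card (P : Subgroup G) = 11 from hP])
    (by rw [show Nat.card (P : Subgroup G) = 11 from hP]; decide)
  exact false_of_simple_of_normalizer_le_centralizer P hle (by rw [hP]; norm_num)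
    (by rw [hP, hG]; norm_num)

end Cfsg.Agent.S0994
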