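import Cfsg.Statements.S1004
import Cfsg.Agent.Lib.Lead.Simple168A
import Mathlib

set_option autoImplicit false
open Cfsg

namespace Cfsg.Agent.S1004

/-- Let G be a simple group of order 168 and T a Sylow 2-subgroup. Then T is dihedral of order 8, T is its own normalizer, and T is the centralizer of any non-identity element of T that commutes with every element of T. -/
theorem result {G : Type*} [Group G] [Finite G] [IsSimpleGroup G] (h : Nat.card G = 168) (T : Sylow 2 G) : Nonempty (↥(T : Subgroup G) ≃* DihedralGroup 4) ∧ Subgroup.normalizer ((T : Subgroup G) : Set G) = T ∧ ∀ z : G, z ∈ (T : Subgroup G) → z ≠ 1 → (∀ t ∈ (T : Subgroup G), t * z = z * t) → Subgroup.centralizer ({z} : Set G) = T := by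
  refine ⟨Cfsg.Agent.Lead.Simple168.dihedral h T, Cfsg.Agent.Lead.Simple168.normalizer_eq h T, ?_⟩
  intro z hz hz1 hcomm
  have hz8 : orderOf z ∣ 8 := (Cfsg.Agent.Lead.Simple168.card2 h T) ▸ Subgroup.orderOf_dvd_natCard _ hz
  have hcard := Cfsg.Agent.Lead.Simple168.card_cent_two_elt h z hz1 hz8
  have hle : (T : Subgroup G) ≤ Subgroup.centralizer ({z} : Set G) := by
    intro t ht
    rw [Subgroup.mem_centralizer_iff]
    intro y hy
    rw [Set.mem_singleton_iff] at hy
    subst hy
    exact (hcomm t ht).symm
  exact (Subgroup.eq_of_le_of_card_ge hle (by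
    rw [Cfsg.Agent.Lead.Simple168.card2 h T]; exact Nat.le_of_dvd (by norm_num) hcard)).symm

end Cfsg.Agent.S1004
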