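import Cfsg.Statements.S1008
import Cfsg.Agent.Lib.Lead.Simple168D
import Mathlib

set_option autoImplicit false
open Cfsg

namespace Cfsg.Agent.S1008

/-- In a simple group of order 168 every maximal subgroup is either isomorphic to the symmetric group of degree 4 or non-abelian of order 21; the maximal subgroups of order 21 form one conjugacy class and those isomorphic to the symmetric group of degree 4 form exactly two conjugacy classes. -/
theorem result {G : Type*} [Group G] [Finite G] [IsSimpleGroup G] (h : Nat.card G = 168) : (∀ M : Subgroup G, IsCoatom M → Nonempty (↥M ≃* Equiv.Perm (Fin 4)) ∨ (Nat.card ↥M = 21 ∧ ¬ IsMulCommutative ↥M)) ∧ (∀ M M' : Subgroup G, IsCoatom M → IsCoatom M' → Nat.card ↥M = 21 → Nat.card ↥M' = 21 → ∃ g : G, M' = M.map (MulAut.conj g).toMonoidHom) ∧ ∃ M₁ M₂ : Subgroup G, IsCoatom M₁ ∧ IsCoatom M₂ ∧ Nonempty (↥M₁ ≃* Equiv.Perm (Fin 4)) ∧ Nonempty (↥M₂ ≃* Equiv.Perm (Fin 4)) ∧ (∀ g : G, M₂ ≠ M₁.map (MulAut.conj g).toMonoidHom) ∧ ∀ M : Subgroup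 G, IsCoatom M → Nonempty (↥M ≃* Equiv.Perm (Fin 4)) → ∃ g : G, M = M₁.map (MulAut.conj g).toMonoidHom ∨ M = M₂.map (MulAut.conj g).toMonoidHom := by
  classical
  refine ⟨?_, ?_, ?_⟩
  · intro M hM
    rcases Cfsg.Agent.Lead.Simple168.coatom_card h M hM with c | c
    · left
      exact Cfsg.Agent.Lead.Simple168.iso_of_card24 h M c
    · right
      exact ⟨c, Cfsg.Agent.Lead.Simple168.not_comm_of_card21 h M c⟩
  · intro M M' hM hM' c c'
    exact Cfsg.Agent.Lead.Simple168.conj_of_card21 h M M' c c'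
  · obtain ⟨T⟩ : Nonempty (Sylow 2 G) := inferInstance
    obtain ⟨⟨U1, hU1T, hU1⟩, ⟨U2, hU2T, hU2⟩, hne, huniv⟩ :=
      Nat.card_eq_two_iff.mp (Cfsg.Agent.Lead.Simple168.card_klein_in_sylow h T)
    have hne' : U1 ≠ U2 := fun h0 => hne (Subtype.ext h0)
    have hall : ∀ U : Subgroup G, U ≤ (T : Subgroup G) → IsKleinFour ↥U → U = U1 ∨ U = U2 := by
      intro U hUT hU
      have hmem : (⟨U, hUT, hU⟩ : {U : Subgroup G // U ≤ (T : Subgroup G) ∧ IsKleinFour ↥U}) ∈
          (Set.univ : Set _) := Set.mem_univ _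
      rw [← huniv, Set.mem_insert_iff, Set.mem_singleton_iff] at hmem
      rcases hmem with c | c
      · left; exact congrArg Subtype.val c
      · right; exact congrArg Subtype.val c
    have c1 := Cfsg.Agent.Lead.Simple168.card_normalizer_klein h U1 hU1
    have c2 := Cfsg.Agent.Lead.Simple168.card_normalizer_klein h U2 hU2
    refine ⟨Subgroup.normalizer (U1 : Set G), Subgroup.normalizer (U2 : Set G),
      Cfsg.Agent.Lead.Simple168.coatom_of_card24 h _ c1,
      Cfsg.Agent.Lead.Simple168.coatom_of_card24 h _ c2,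
      Cfsg.Agent.Lead.Simple168.iso_of_card24 h _ c1,
      Cfsg.Agent.Lead.Simple168.iso_of_card24 h _ c2, ?_, ?_⟩
    · intro g hg
      rw [← Cfsg.Agent.Lead.Simple168.normalizer_map_conj] at hg
      have h1 := Cfsg.Agent.Lead.Simple168.klein_eq_of_normalizer_eq h U2
        (U1.map (MulAut.conj g).toMonoidHom) hU2
        (Cfsg.Agent.Lead.Simple168.isKleinFour_map_conj U1 hU1 g) hg
      exact Cfsg.Agent.Lead.Simple168.klein_not_conj h T U1 U2 hU1T hU2T hU1 hU2 hne' g h1.symm
    · rintro M hM ⟨ψ⟩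
      obtain ⟨V, hVk, hMV⟩ := Cfsg.Agent.Lead.Simple168.exists_klein_normalizer_eq h M ψ
      have hpg : IsPGroup 2 V := by
        apply IsPGroup.of_card (n := 2)
        rw [hVk.card_four]; norm_num
      obtain ⟨T', hVT'⟩ := hpg.exists_le_sylow
      obtain ⟨c, hc⟩ := MulAction.exists_smul_eq G T T'
      have hV0k : IsKleinFour ↥(V.map (MulAut.conj c⁻¹).toMonoidHom) :=
        Cfsg.Agent.Lead.Simple168.isKleinFour_map_conj V hVk c⁻¹
      have hV0T : V.map (MulAut.conj c⁻¹).toMonoidHom ≤ (T : Subgroup G) := by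
        intro x hx
        rw [Cfsg.Agent.Lead.Simple168.mem_map_conj, inv_inv] at hx
        have h1 := hVT' hx
        rw [← hc] at h1
        have h2 := (Cfsg.Agent.Lib.Helper4.SylowPrime.mem_smul_sylow_iff T c _).mp h1
        have e : c⁻¹ * (c * x * c⁻¹) * c = x := by group
        rwa [e] at h2
      have hVeq : V = (V.map (MulAut.conj c⁻¹).toMonoidHom).map (MulAut.conj c).toMonoidHom :=
        (Cfsg.Agent.Lead.Simple168.map_conj_inv_map_conj V c).symm
      refine ⟨c, ?_⟩
      rcases hall _ hV0T hV0k with e | e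
      · left
        rw [hMV, hVeq, e, Cfsg.Agent.Lead.Simple168.normalizer_map_conj]
      · right
        rw [hMV, hVeq, e, Cfsg.Agent.Lead.Simple168.normalizer_map_conj]

end Cfsg.Agent.S1008
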