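import Cfsg.Statements.S1009
import Mathlib
import Cfsg.Agent.Lib.Helper4.SylowPrime

set_option autoImplicit false
open Cfsg

namespace Cfsg.Agent.S1009

open Cfsg.Agent.Lib.Helper4.SylowPrime

/-- Brodkey's Theorem: if a finite group has abelian Sylow p-subgroups, then there are two Sylow p-subgroups whose intersection equals the intersection of all Sylow p-subgroups. -/
theorem result {G : Type*} [Group G] [Finite G] (p : ℕ) [Fact p.Prime] (hab : ∀ P : Sylow p G, IsMulCommutative ↥(P : Subgroup G)) : ∃ P Q : Sylow p G, (P : Subgroup G) ⊓ (Q : Subgroup G) = ⨅ R : Sylow p G, (R : Subgroup G) := by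
  classical
  obtain ⟨⟨S, T⟩, hmin⟩ := Finite.exists_min
    (fun ST : Sylow p G × Sylow p G => Nat.card ((ST.1 : Subgroup G) ⊓ (ST.2 : Subgroup G) : Subgroup G))
  refine ⟨S, T, le_antisymm ?_ ?_⟩
  swap
  · exact le_inf (iInf_le _ S) (iInf_le _ T)
  set D : Subgroup G := (S : Subgroup G) ⊓ (T : Subgroup G) with hD
  set N := Subgroup.normalizer (D : Set G) with hN
  -- commutativity gives `S, T ≤ N`
  have hnorm : ∀ Q : Sylow p G, D ≤ (Q : Subgroup G) → (Q : Subgroup G) ≤ N := by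
    intro Q hDQ
    refine le_trans ?_ (Subgroup.centralizer_le_normalizer (D : Set G))
    intro g hg
    rw [Subgroup.mem_centralizer_iff]
    intro d hd
    have := (hab Q).is_comm.comm ⟨d, hDQ hd⟩ ⟨g, hg⟩
    exact congrArg Subtype.val this
  have hSN := hnorm S inf_le_left
  have hTN := hnorm T inf_le_right
  rw [le_iInf_iff]
  intro R
  -- a Sylow subgroup of `N` containing `R ⊓ N`
  have hpg : IsPGroup p (((R : Subgroup G) ⊓ N).subgroupOf N) := by
    have h1 : IsPGroup p ((R : Subgroup G) ⊓ N : Subgroup G) := R.2.to_le inf_le_left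
    exact h1.comap_subtype
  obtain ⟨Q', hQ'⟩ := hpg.exists_le_sylow
  obtain ⟨n, hn⟩ := MulAction.exists_smul_eq N (S.subtype hSN) Q'
  rw [Sylow.smul_subtype] at hn
  have hRN : (R : Subgroup G) ⊓ N ≤ ((n • S : Sylow p G) : Subgroup G) := by
    intro z hz
    have h1 : (⟨z, hz.2⟩ : N) ∈ ((R : Subgroup G) ⊓ N).subgroupOf N := by
      rw [Subgroup.mem_subgroupOf]; exact hz
    have h2 := hQ' h1
    rw [← hn] at h2
    exact h2
  -- the conjugate `n⁻¹ • R`
  have hle : ((n⁻¹ • R : Sylow p G) : Subgroup G) ⊓ (T : Subgroup G) ≤ D := by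
    intro z hz
    have hzT : z ∈ (T : Subgroup G) := hz.2
    have hzN : z ∈ N := hTN hzT
    have h1 : (n : G)⁻¹⁻¹ * z * (n : G)⁻¹ ∈ (R : Subgroup G) :=
      (mem_smul_sylow_iff R (n : G)⁻¹ z).mp hz.1
    rw [inv_inv] at h1
    have h2 : (n : G) * z * (n : G)⁻¹ ∈ N := mul_mem (mul_mem n.2 hzN) (inv_mem n.2)
    have h3 := hRN ⟨h1, h2⟩
    have h4 : (n : G)⁻¹ * ((n : G) * z * (n : G)⁻¹) * (n : G) ∈ (S : Subgroup G) :=
      (mem_smul_sylow_iff S (n : G) _).mp h3
    have h5 : (n : G)⁻¹ * ((n : G) * z * (n : G)⁻¹) * (n : G) = z := by group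
    rw [h5] at h4
    exact ⟨h4, hzT⟩
  have hcard := hmin (n⁻¹ • R, T)
  have heq : ((n⁻¹ • R : Sylow p G) : Subgroup G) ⊓ (T : Subgroup G) = D :=
    Subgroup.eq_of_le_of_card_ge hle hcard
  intro d hd
  have h1 : (n : G)⁻¹ * d * (n : G) ∈ D := by
    have := (Subgroup.mem_normalizer_iff''.mp n.2 d).mp hd
    exact this
  rw [← heq] at h1
  have h2 := (mem_smul_sylow_iff R (n : G)⁻¹ _).mp h1.1
  have h3 : (n : G)⁻¹⁻¹ * ((n : G)⁻¹ * d * (n : G)) * (n : G)⁻¹ = d := by group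
  rw [h3] at h2
  exact h2

end Cfsg.Agent.S1009
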