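import Cfsg.Statements.S1014
import Mathlib
import Cfsg.Agent.Lib.Helper4.AltEmbed

set_option autoImplicit false
open Cfsg

namespace Cfsg.Agent.S1014

open Cfsg.Agent.Lib.Helper4.Sylow Cfsg.Agent.Lib.Helper4.AltEmbed

/-- No finite simple group has order 1104 = 2^4 * 3 * 23. -/
theorem result {G : Type*} [Group G] [Finite G] [IsSimpleGroup G] : Nat.card G ≠ 1104 := by
  intro hG
  have : Fact (Nat.Prime 23) := ⟨by norm_num⟩
  have hG' : Nat.card G = 23 ^ 1 * 48 := by rw [hG]; norm_num
  have hm : ¬ 23 ∣ 48 := by norm_num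
  obtain ⟨P⟩ : Nonempty (Sylow 23 G) := inferInstance
  have hP : Nat.card (P : Subgroup G) = 23 := by simpa using card_sylow_of_card_eq hG' hm P
  have hdvd : Nat.card (Sylow 23 G) ∣ 48 := card_sylow_dvd_of_card_eq hG' hm
  have hmod : Nat.card (Sylow 23 G) ≡ 1 [MOD 23] := card_sylow_modEq_one 23 G
  have hne : Nat.card (Sylow 23 G) ≠ 1 :=
    card_sylow_ne_one_of_simple P (by rw [hP]; norm_num) (by rw [hP, hG]; norm_num)
  have hn : Nat.card (Sylow 23 G) = 24 := by
    have hle := Nat.le_of_dvd (by norm_num) hdvd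
    unfold Nat.ModEq at hmod
    generalize Nat.card (Sylow 23 G) = n at *
    interval_cases n <;> omega
  have hN := card_sylow_mul_card_normalizer P
  rw [hn, hG] at hN
  have hN' : Nat.card (Subgroup.normalizer ((P : Subgroup G) : Set G)) = 46 := by omega
  have hidx : (Subgroup.normalizer ((P : Subgroup G) : Set G)).index = 24 := by
    rw [← hn]; exact P.card_eq_index_normalizer.symm
  have hNtop : Subgroup.normalizer ((P : Subgroup G) : Set G) ≠ ⊤ := by
    intro h
    rw [h, Subgroup.index_top] at hidx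
    omega
  have key := two_mul_card_normalizer_dvd (by rw [hG]; norm_num) _ hNtop 23 (by norm_num)
    (Or.inr hidx) P hP
  rw [hN'] at key
  revert key
  decide

end Cfsg.Agent.S1014
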