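import Cfsg.Statements.S1015
import Mathlib
import Cfsg.Agent.Lib.Helper4.Simple

set_option autoImplicit false
open Cfsg

namespace Cfsg.Agent.S1015

open Cfsg.Agent.Lib.Helper4.Sylow Cfsg.Agent.Lib.Helper4.Simple

/-- No finite simple group has order 1200 = 2^4 * 3 * 5^2. -/
theorem result {G : Type*} [Group G] [Finite G] [IsSimpleGroup G] : Nat.card G ≠ 1200 := by
  intro hG
  have : Fact (Nat.Prime 5) := ⟨by norm_num⟩
  have hG' : Nat.card G = 5 ^ 2 * 48 := by rw [hG]; norm_num
  have hm : ¬ 5 ∣ 48 := by norm_num
  have hcardP : ∀ P : Sylow 5 G, Nat.card P = 25 := fun P => by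
    simpa using card_sylow_of_card_eq hG' hm P
  obtain ⟨P₀⟩ : Nonempty (Sylow 5 G) := inferInstance
  have hdvd : Nat.card (Sylow 5 G) ∣ 48 := card_sylow_dvd_of_card_eq hG' hm
  have hmod : Nat.card (Sylow 5 G) ≡ 1 [MOD 5] := card_sylow_modEq_one 5 G
  have hne : Nat.card (Sylow 5 G) ≠ 1 :=
    card_sylow_ne_one_of_simple P₀ (by rw [hcardP]; norm_num) (by rw [hcardP, hG]; norm_num)
  have hn : Nat.card (Sylow 5 G) = 6 ∨ Nat.card (Sylow 5 G) = 16 := by
    have hle := Nat.le_of_dvd (by norm_num) hdvd
    unfold Nat.ModEq at hmod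
    generalize Nat.card (Sylow 5 G) = n at *
    interval_cases n <;> omega
  -- a general consequence of a proper subgroup of small index
  have hindex : ∀ H : Subgroup G, H ≠ ⊤ → 10 ≤ H.index := by
    intro H hH
    by_contra hlt
    push Not at hlt
    have h1 := card_dvd_factorial_of_simple H hH
    have h2 : (H.index).factorial ∣ (9).factorial := Nat.factorial_dvd_factorial (by omega)
    have h3 := h1.trans h2
    rw [hG] at h3
    revert h3
    decide
  rcases hn with hn | hn
  · have hN : Nat.card (Sylow 5 G) = (Subgroup.normalizer ((P₀ : Subgroup G) : Set G)).index :=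
      P₀.card_eq_index_normalizer
    rw [hn] at hN
    have hNtop : Subgroup.normalizer ((P₀ : Subgroup G) : Set G) ≠ ⊤ := by
      intro h
      rw [h, Subgroup.index_top] at hN
      omega
    have := hindex _ hNtop
    omega
  · have hnot : ¬ Nat.card (Sylow 5 G) ≡ 1 [MOD 5 ^ 2] := by
      rw [hn]; decide
    obtain ⟨P, R, hPR, hidx⟩ := exists_sylow_index_le 5 2 hnot
    set D : Subgroup G := (P : Subgroup G) ⊓ (R : Subgroup G) with hD
    -- the order of D is 5
    have hDcard : Nat.card D = 5 := by
      have h1 := ((R : Subgroup G).subgroupOf (P : Subgroup G)).card_mul_index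
      rw [show Nat.card (P : Subgroup G) = 25 from hcardP P] at h1
      have h2 : Nat.card ((R : Subgroup G).subgroupOf (P : Subgroup G)) = Nat.card D := by
        rw [← Subgroup.inf_subgroupOf_left]
        exact Nat.card_congr (Subgroup.subgroupOfEquivOfLe inf_le_left).toEquiv
      rw [h2] at h1
      have h3 : ((R : Subgroup G).subgroupOf (P : Subgroup G)).index ≠ 1 := by
        intro h
        rw [← Subgroup.relIndex, Subgroup.relIndex_eq_one] at h
        apply hPR
        have h4 : Nat.card (P : Subgroup G) = Nat.card (R : Subgroup G) := by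
          rw [show Nat.card (P : Subgroup G) = 25 from hcardP P,
            show Nat.card (R : Subgroup G) = 25 from hcardP R]
        have h5 : (P : Subgroup G) = (R : Subgroup G) :=
          Subgroup.eq_of_le_of_card_ge h (le_of_eq h4.symm)
        exact Sylow.ext h5
      norm_num at hidx
      generalize ((R : Subgroup G).subgroupOf (P : Subgroup G)).index = i at *
      have hi : i ∣ 25 := Dvd.intro_left _ h1
      have : i = 5 := by
        interval_cases i <;> omega
      subst this
      omega
    -- P and R normalize D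
    have hnorm : ∀ Q : Sylow 5 G, D ≤ (Q : Subgroup G) →
        (Q : Subgroup G) ≤ Subgroup.normalizer (D : Set G) := by
      intro Q hDQ
      refine le_trans ?_ (Subgroup.centralizer_le_normalizer (D : Set G))
      intro g hg
      rw [Subgroup.mem_centralizer_iff]
      intro d hd
      have hcomm := IsPGroup.isMulCommutative_of_card_eq_prime_sq (p := 5) (G := (Q : Subgroup G))
        (by rw [hcardP Q]; norm_num)
      have := hcomm.is_comm.comm ⟨d, hDQ hd⟩ ⟨g, hg⟩
      exact congrArg Subtype.val this
    have hPN := hnorm P inf_le_left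
    have hRN := hnorm R inf_le_right
    set H := Subgroup.normalizer (D : Set G) with hH
    have hHtop : H ≠ ⊤ := by
      intro h
      have hDn : D.Normal := Subgroup.normalizer_eq_top_iff.mp h
      rcases hDn.eq_bot_or_eq_top with hb | ht
      · rw [hb, Subgroup.card_bot] at hDcard; omega
      · rw [ht, Subgroup.card_top, hG] at hDcard; omega
    have h10 := hindex H hHtop
    have hcard := H.card_mul_index
    rw [hG] at hcard
    have h25 : 25 ∣ Nat.card H := by
      have := Subgroup.card_dvd_of_le hPN
      rwa [show Nat.card (P : Subgroup G) = 25 from hcardP P] at this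
    obtain ⟨m, hm'⟩ := h25
    have hm4 : m ≤ 4 ∧ 1 ≤ m := by
      rw [hm'] at hcard
      constructor
      · by_contra hlt
        push Not at hlt
        have : 25 * 5 * 10 ≤ 25 * m * H.index := Nat.mul_le_mul (Nat.mul_le_mul_left 25 hlt) h10
        omega
      · rcases Nat.eq_zero_or_pos m with h0 | h0
        · subst h0; omega
        · exact h0
    have hHcard : Nat.card H = 5 ^ 2 * m := by rw [hm']; norm_num
    have hm5 : ¬ 5 ∣ m := by omega
    have hdvdH : Nat.card (Sylow 5 H) ∣ m := card_sylow_dvd_of_card_eq hHcard hm5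
    have hmodH : Nat.card (Sylow 5 H) ≡ 1 [MOD 5] := card_sylow_modEq_one 5 H
    have hone : Nat.card (Sylow 5 H) = 1 := by
      have hle := Nat.le_of_dvd (by omega) hdvdH
      unfold Nat.ModEq at hmodH
      obtain ⟨hm4a, hm4b⟩ := hm4
      generalize Nat.card (Sylow 5 H) = n at *
      have hn4 : n ≤ 4 := by omega
      have hn0 : n ≠ 0 := by rintro rfl; simp at hmodH
      interval_cases n <;> omega
    have hsub : Subsingleton (Sylow 5 H) := (Nat.card_eq_one_iff_unique.mp hone).1
    exact hPR (Sylow.subtype_injective (Subsingleton.elim (P.subtype hPN) (R.subtype hRN)))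

end Cfsg.Agent.S1015
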