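import Cfsg.Statements.S1016
import Mathlib
import Cfsg.Agent.Lib.Helper5.Ord1440C

set_option autoImplicit false
open Cfsg

namespace Cfsg.Agent.S1016

/-- No finite simple group has order 1440 = 2^5 * 3^2 * 5. -/
theorem result {G : Type*} [Group G] [Finite G] [IsSimpleGroup G] : Nat.card G ≠ 1440 := by
  intro hG
  have h5p : Fact (Nat.Prime 5) := ⟨by norm_num⟩
  have hG' : Nat.card G = 5 ^ 1 * 288 := by rw [hG]; norm_num
  have hm : ¬ 5 ∣ 288 := by norm_num
  have hcardP : ∀ P : Sylow 5 G, Nat.card (P : Subgroup G) = 5 := fun P => by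
    simpa using Cfsg.Agent.Lib.Helper4.Sylow.card_sylow_of_card_eq hG' hm P
  obtain ⟨P₀⟩ : Nonempty (Sylow 5 G) := inferInstance
  have hdvd : Nat.card (Sylow 5 G) ∣ 288 :=
    Cfsg.Agent.Lib.Helper4.Sylow.card_sylow_dvd_of_card_eq hG' hm
  have hmod : Nat.card (Sylow 5 G) ≡ 1 [MOD 5] := card_sylow_modEq_one 5 G
  have hne : Nat.card (Sylow 5 G) ≠ 1 :=
    Cfsg.Agent.Lib.Helper4.Sylow.card_sylow_ne_one_of_simple P₀
      (by rw [show Nat.card P₀ = Nat.card (P₀ : Subgroup G) from rfl, hcardP]; norm_num)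
      (by rw [show Nat.card P₀ = Nat.card (P₀ : Subgroup G) from rfl, hcardP, hG]; norm_num)
  have hn : Nat.card (Sylow 5 G) = 6 ∨ Nat.card (Sylow 5 G) = 16 ∨ Nat.card (Sylow 5 G) = 36 ∨
      Nat.card (Sylow 5 G) = 96 := by
    have hle := Nat.le_of_dvd (by norm_num) hdvd
    unfold Nat.ModEq at hmod
    generalize Nat.card (Sylow 5 G) = n at *
    interval_cases n <;> omega
  have hNcard : Nat.card (Sylow 5 G) *
      Nat.card (Subgroup.normalizer ((P₀ : Subgroup G) : Set G)) = 1440 := by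
    rw [← hG]; exact Cfsg.Agent.Lib.Helper4.Sylow.card_sylow_mul_card_normalizer P₀
  rcases hn with hn | hn | hn | hn
  · -- six Sylow subgroups: a subgroup of index 6
    have hidx : (Subgroup.normalizer ((P₀ : Subgroup G) : Set G)).index = 6 := by
      rw [← hn]; exact P₀.card_eq_index_normalizer.symm
    have hNtop : Subgroup.normalizer ((P₀ : Subgroup G) : Set G) ≠ ⊤ := by
      intro h
      rw [h, Subgroup.index_top] at hidx
      omega
    have := Cfsg.Agent.Lib.Helper5.Ord1440.seven_le_index hG _ hNtop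
    omega
  · exact Cfsg.Agent.Lib.Helper5.Ord1440.not_sixteen hG hn
  · exact Cfsg.Agent.Lib.Helper5.Ord1440.not_thirtysix hG hn
  · -- 96 Sylow subgroups: `N(P) = C(P)` of order 15
    rw [hn] at hNcard
    have hN15 : Nat.card (Subgroup.normalizer ((P₀ : Subgroup G) : Set G)) = 15 := by omega
    have hle := Cfsg.Agent.Lib.Helper4.Simple.normalizer_le_centralizer_of_coprime
      (P₀ : Subgroup G) (isCyclic_of_prime_card (hcardP P₀)) 3
      (by rw [hN15, hcardP]) (by rw [hcardP]; decide)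
    exact Cfsg.Agent.Lib.Helper4.Simple.false_of_simple_of_normalizer_le_centralizer P₀ hle
      (by rw [show Nat.card P₀ = Nat.card (P₀ : Subgroup G) from rfl, hcardP]; norm_num)
      (by rw [show Nat.card P₀ = Nat.card (P₀ : Subgroup G) from rfl, hcardP, hG]; norm_num)

end Cfsg.Agent.S1016
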