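import Cfsg.Statements.S1017
import Mathlib
import Cfsg.Agent.Lib.Helper5.Ord2016B

set_option autoImplicit false
open Cfsg

namespace Cfsg.Agent.S1017

/-- No finite simple group has order 2016 = 2^5 * 3^2 * 7. -/
theorem result {G : Type*} [Group G] [Finite G] [IsSimpleGroup G] : Nat.card G ≠ 2016 := by
  intro hG
  have h7p : Fact (Nat.Prime 7) := ⟨by norm_num⟩
  have hG' : Nat.card G = 7 ^ 1 * 288 := by rw [hG]; norm_num
  have hm : ¬ 7 ∣ 288 := by norm_num
  have hcardP : ∀ P : Sylow 7 G, Nat.card (P : Subgroup G) = 7 := fun P => by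
    simpa using Cfsg.Agent.Lib.Helper4.Sylow.card_sylow_of_card_eq hG' hm P
  obtain ⟨P₀⟩ : Nonempty (Sylow 7 G) := inferInstance
  have hdvd : Nat.card (Sylow 7 G) ∣ 288 :=
    Cfsg.Agent.Lib.Helper4.Sylow.card_sylow_dvd_of_card_eq hG' hm
  have hmod : Nat.card (Sylow 7 G) ≡ 1 [MOD 7] := card_sylow_modEq_one 7 G
  have hne : Nat.card (Sylow 7 G) ≠ 1 :=
    Cfsg.Agent.Lib.Helper4.Sylow.card_sylow_ne_one_of_simple P₀
      (by rw [show Nat.card P₀ = Nat.card (P₀ : Subgroup G) from rfl, hcardP]; norm_num)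
      (by rw [show Nat.card P₀ = Nat.card (P₀ : Subgroup G) from rfl, hcardP, hG]; norm_num)
  have hn : Nat.card (Sylow 7 G) = 8 ∨ Nat.card (Sylow 7 G) = 36 ∨
      Nat.card (Sylow 7 G) = 288 := by
    have hle := Nat.le_of_dvd (by norm_num) hdvd
    unfold Nat.ModEq at hmod
    generalize Nat.card (Sylow 7 G) = n at *
    interval_cases n <;> omega
  have hNcard : Nat.card (Sylow 7 G) *
      Nat.card (Subgroup.normalizer ((P₀ : Subgroup G) : Set G)) = 2016 := by
    rw [← hG]; exact Cfsg.Agent.Lib.Helper4.Sylow.card_sylow_mul_card_normalizer P₀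
  rcases hn with hn | hn | hn
  · -- eight Sylow subgroups: `G` embeds in the alternating group of degree 8
    rw [hn] at hNcard
    have hN252 : Nat.card (Subgroup.normalizer ((P₀ : Subgroup G) : Set G)) = 252 := by omega
    have hidx : (Subgroup.normalizer ((P₀ : Subgroup G) : Set G)).index = 8 := by
      rw [← hn]; exact P₀.card_eq_index_normalizer.symm
    have hNtop : Subgroup.normalizer ((P₀ : Subgroup G) : Set G) ≠ ⊤ := by
      intro h
      rw [h, Subgroup.index_top] at hidx
      omega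
    have h1 := Cfsg.Agent.Lib.Helper4.AltEmbed.two_mul_card_normalizer_dvd (by omega)
      (Subgroup.normalizer ((P₀ : Subgroup G) : Set G)) hNtop 7 (by norm_num)
      (Or.inr hidx) P₀ (hcardP P₀)
    rw [hN252] at h1
    revert h1
    decide
  · exact Cfsg.Agent.Lib.Helper5.Ord2016.not_thirtysix hG hn
  · -- 288 Sylow subgroups: `N(P) = P`
    rw [hn] at hNcard
    have hN7 : Nat.card (Subgroup.normalizer ((P₀ : Subgroup G) : Set G)) = 7 := by omega
    have hle := Cfsg.Agent.Lib.Helper4.Simple.normalizer_le_centralizer_of_coprime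
      (P₀ : Subgroup G) (isCyclic_of_prime_card (hcardP P₀)) 1
      (by rw [hN7, hcardP]) (by rw [hcardP]; decide)
    exact Cfsg.Agent.Lib.Helper4.Simple.false_of_simple_of_normalizer_le_centralizer P₀ hle
      (by rw [show Nat.card P₀ = Nat.card (P₀ : Subgroup G) from rfl, hcardP]; norm_num)
      (by rw [show Nat.card P₀ = Nat.card (P₀ : Subgroup G) from rfl, hcardP, hG]; norm_num)

end Cfsg.Agent.S1017
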