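import Cfsg.Statements.S1057
import Cfsg.Agent.Lib.Helper6.G22Iso
import Cfsg.Agent.Lib.Helper6.U33SU
import Cfsg.Agent.Lib.Helper6.ChevRing

set_option autoImplicit false
open Cfsg

namespace Cfsg.Agent.S1057

/-- G₂(2)′ ≅ PSU₃(3). -/
theorem result {F K : Type*} [Field F] [Fintype F] [Field K] [Fintype K] (hF : Fintype.card F = 2) (hK : Fintype.card K = 9) :
    Nonempty (↥(commutator ↥(Cfsg.Lie.chevG2.group F)) ≃* Cfsg.PSU 3 K 3) := by
  classical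
  have e : F ≃+* ZMod 2 := (ZMod.ringEquivOfPrime F Nat.prime_two hF).symm
  have e9 : Cfsg.Agent.Lib.Helper8.F9 ≃+* K :=
    FiniteField.ringEquivOfCardEq (by rw [Cfsg.Agent.Lib.Helper8.F9.card, hK])
  exact ⟨((Cfsg.Agent.Lib.Helper6.ChevRing.commutatorEquiv
    (Cfsg.Agent.Lib.Helper6.ChevRing.groupEquiv Cfsg.Lie.chevG2 e)).trans
      (Cfsg.Agent.Lib.Helper6.G22Iso.isoD.trans Cfsg.Agent.Lib.Helper6.U33SU.isoP)).trans
        (Cfsg.Agent.Lib.Helper8.SUTransport.psuEquiv e9 3 3)⟩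

end Cfsg.Agent.S1057
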