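import Cfsg.Statements.S1074
import Cfsg.Agent.Lib.Helper6.F4Syl

set_option autoImplicit false
open Cfsg

namespace Cfsg.Agent.S1074

/-- ²F₄(2)′ has index 2 in ²F₄(2), is simple, and has order `2¹¹ · 3³ · 5² · 13`. -/
theorem result : (commutator ↥(Cfsg.Lie.twistedF4 (ZMod 2) 1)).index = 2 ∧ IsSimpleGroup Cfsg.Lie.TitsGroup ∧ ¬ IsMulCommutative Cfsg.Lie.TitsGroup ∧
    Nat.card Cfsg.Lie.TitsGroup = 2 ^ 11 * 3 ^ 3 * 5 ^ 2 * 13 := by
  open Cfsg.Agent.Lib.Helper6.F4Iso Cfsg.Agent.Lib.Helper6.TitsSub in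
  refine ⟨index_commutator, simple_D, ?_, ?_⟩
  · intro h
    apply not_comm
    have hc : ∀ x y : P4, x * y = y * x := by
      intro x y
      have h1 := h.is_comm.comm (isoD.symm x) (isoD.symm y)
      have h2 := congrArg isoD h1
      simpa only [map_mul, MulEquiv.apply_symm_apply] using h2
    have h3 := congrArg ψ (hc (PresentedGroup.of P4.Gen.x) (PresentedGroup.of P4.Gen.y))
    rw [map_mul, map_mul, ψ_of, ψ_of] at h3
    exact h3
  · exact card_D.trans (by norm_num)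

end Cfsg.Agent.S1074
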