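import Cfsg.Statements.S1080
import Mathlib

set_option autoImplicit false
open Cfsg

namespace Cfsg.Agent.S1080

open Cfsg.Lie
open scoped Matrix

variable {F : Type*} [Field F]

theorem xMat_map (D : ChevalleyDatum) (f : F ≃+* F) (r : Fin D.nroots) (t : F) :
    (D.xMat F r t).map f = D.xMat F r (f t) := by
  ext row col
  simp only [Matrix.map_apply, ChevalleyDatum.xMat, Matrix.of_apply]
  rcases col with i | s
  · rcases row with i' | u
    · simp only
      split_ifs <;> simp
    · simp only
      split_ifs <;> simp
  · simp only
    by_cases h1 : s = r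
    · simp only [if_pos h1]
      rcases row with i' | u
      · simp
      · simp only
        split_ifs <;> simp
    · simp only [if_neg h1]
      by_cases h2 : s.val = D.negIdx.getD r.val 0
      · simp only [if_pos h2]
        rcases row with i' | u
        · simp
        · simp only
          split_ifs <;> simp
      · simp only [if_neg h2]
        rcases row with i' | u
        · simp
        · simp only [map_add, map_list_sum, List.map_map]
          congr 1
          · split_ifs <;> simp
          · congr 1
            apply List.map_congr_left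
            intro km _
            simp

/-- the automorphism of `GL` induced by a field automorphism -/
def glAut (ι : Type) [Fintype ι] [DecidableEq ι] (f : F ≃+* F) : GL ι F ≃* GL ι F :=
  Units.mapEquiv (f.mapMatrix (m := ι)).toMulEquiv

theorem glAut_val (ι : Type) [Fintype ι] [DecidableEq ι] (f : F ≃+* F) (g : GL ι F) :
    ((glAut ι f g : GL ι F) : Matrix ι ι F) = (g : Matrix ι ι F).map f := rfl

theorem glAut_mem (D : ChevalleyDatum) (f : F ≃+* F) (g : GL D.Idx F) (hg : g ∈ D.group F) :
    glAut D.Idx f g ∈ D.group F := by
  unfold ChevalleyDatum.group at hg ⊢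
  induction hg using Subgroup.closure_induction with
  | mem x hx =>
    obtain ⟨r, t, hx⟩ := hx
    apply Subgroup.subset_closure
    exact ⟨r, f t, by rw [glAut_val, hx, xMat_map]⟩
  | one => rw [map_one]; exact Subgroup.one_mem _
  | mul x y _ _ hx hy => rw [map_mul]; exact Subgroup.mul_mem _ hx hy
  | inv x _ hx => rw [map_inv]; exact Subgroup.inv_mem _ hx


/-- Field automorphisms: for every field automorphism `f` there is a group automorphism sending each `x_r(t)` to `x_r(f t)`. -/
theorem result {F : Type*} [Field F] (D : Cfsg.Lie.ChevalleyDatum) (hD : D ∈ [Cfsg.Lie.chevG2, Cfsg.Lie.chevB2, Cfsg.Lie.chevD4, Cfsg.Lie.chevF4, Cfsg.Lie.chevE6, Cfsg.Lie.chevE7, Cfsg.Lie.chevE8]) (f : F ≃+* F) :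
    ∃ α : ↥(D.group F) ≃* ↥(D.group F), ∀ (g : ↥(D.group F)) (r : ℕ) (t : F), r < D.nroots →
      ((g : GL D.Idx F) : Matrix D.Idx D.Idx F) = D.x F r t → ((α g : GL D.Idx F) : Matrix D.Idx D.Idx F) = D.x F r (f t) := by
  refine ⟨{ toFun := fun g => ⟨glAut D.Idx f g.1, glAut_mem D f g.1 g.2⟩
            invFun := fun g => ⟨glAut D.Idx f.symm g.1, glAut_mem D f.symm g.1 g.2⟩
            left_inv := fun g => by
              apply Subtype.ext
              apply Units.ext
              ext i j
              simp [glAut_val]
            right_inv := fun g => by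
              apply Subtype.ext
              apply Units.ext
              ext i j
              simp [glAut_val]
            map_mul' := fun g h => by
              apply Subtype.ext
              simp }, ?_⟩
  intro g r t hr hg
  show ((glAut D.Idx f g.1 : GL D.Idx F) : Matrix D.Idx D.Idx F) = _
  rw [glAut_val, hg]
  unfold Cfsg.Lie.ChevalleyDatum.x
  rw [dif_pos hr, dif_pos hr, xMat_map]

end Cfsg.Agent.S1080
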