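import Cfsg.Statements.S1094
import Cfsg.Agent.Lib.Helper6.CoxDataS
import Cfsg.Agent.Lib.Helper6.CoxDataE
import Cfsg.Agent.Lib.Helper6.CoxOrder

set_option autoImplicit false
open Cfsg

namespace Cfsg.Agent.S1094

open Cfsg.Agent.Lib.Helper6.CoxTable Cfsg.Agent.Lib.Helper6.CoxDataS Cfsg.Agent.Lib.Helper6.CoxDataE

theorem fr2 : List.finRange 2 = [0, 1] := by decide
theorem fr4 : List.finRange 4 = [0, 1, 2, 3] := by decide
theorem fr6 : List.finRange 6 = [0, 1, 2, 3, 4, 5] := by decide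
theorem fr7 : List.finRange 7 = [0, 1, 2, 3, 4, 5, 6] := by decide
theorem fr8 : List.finRange 8 = [0, 1, 2, 3, 4, 5, 6, 7] := by decide

set_option maxRecDepth 100000 in
theorem ord_B2 : orderOf ((List.finRange 2).map (CoxeterMatrix.B 2).simple).prod = 4 := by
  rw [coxElt_eq, fr2]
  exact B2S2.orderOf_wordProd _ 4 (by norm_num) (by decide +kernel) (by decide +kernel)

set_option maxRecDepth 100000 in
theorem ord_G2 : orderOf ((List.finRange 2).map CoxeterMatrix.G₂.simple).prod = 6 := by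
  rw [coxElt_eq, fr2]
  exact G2S2.orderOf_wordProd _ 6 (by norm_num) (by decide +kernel) (by decide +kernel)

set_option maxRecDepth 100000 in
theorem ord_D4 : orderOf ((List.finRange 4).map Cfsg.Lie.coxeterD4.simple).prod = 6 := by
  rw [coxElt_eq, fr4]
  exact D4S4.orderOf_wordProd _ 6 (by norm_num) (by decide +kernel) (by decide +kernel)

set_option maxRecDepth 100000 in
theorem ord_F4 : orderOf ((List.finRange 4).map CoxeterMatrix.F₄.simple).prod = 12 := by
  rw [coxElt_eq, fr4]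
  exact F4S4.orderOf_wordProd _ 12 (by norm_num) (by decide +kernel) (by decide +kernel)

set_option maxRecDepth 100000 in
theorem ord_E6 : orderOf ((List.finRange 6).map CoxeterMatrix.E₆.simple).prod = 12 := by
  rw [coxElt_eq, fr6]
  exact E8S6.orderOf_wordProd _ 12 (by norm_num) (by decide +kernel) (by decide +kernel)

set_option maxRecDepth 100000 in
theorem ord_E7 : orderOf ((List.finRange 7).map CoxeterMatrix.E₇.simple).prod = 18 := by
  rw [coxElt_eq, fr7]
  exact E8S7.orderOf_wordProd _ 18 (by norm_num) (by decide +kernel) (by decide +kernel)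

set_option maxRecDepth 100000 in
theorem ord_E8 : orderOf ((List.finRange 8).map CoxeterMatrix.E₈.simple).prod = 30 := by
  rw [coxElt_eq, fr8]
  exact E8S8.orderOf_wordProd _ 30 (by norm_num) (by decide +kernel) (by decide +kernel)

/-- The Coxeter element `s₁ s₂ ⋯ s_l` of the Coxeter group of type B₂, G₂, D₄, F₄, E₆, E₇, E₈ has order `h = 2N/l` = 4, 6, 6, 12, 12, 18, 30. -/
theorem result (p : (Σ n : ℕ, CoxeterMatrix (Fin n)) × ℕ)
    (hp : p ∈ [(⟨2, CoxeterMatrix.B 2⟩, 4), (⟨2, CoxeterMatrix.G₂⟩, 6), (⟨4, Cfsg.Lie.coxeterD4⟩, 6), (⟨4, CoxeterMatrix.F₄⟩, 12),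
      (⟨6, CoxeterMatrix.E₆⟩, 12), (⟨7, CoxeterMatrix.E₇⟩, 18), (⟨8, CoxeterMatrix.E₈⟩, 30)]) :
    orderOf ((List.finRange p.1.1).map p.1.2.simple).prod = p.2 := by
  simp only [List.mem_cons, List.not_mem_nil, or_false] at hp
  rcases hp with rfl | rfl | rfl | rfl | rfl | rfl | rfl
  · exact ord_B2
  · exact ord_G2
  · exact ord_D4
  · exact ord_F4
  · exact ord_E6
  · exact ord_E7
  · exact ord_E8

end Cfsg.Agent.S1094
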