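import Cfsg.Statements.S1104
import Cfsg.Agent.Lib.Helper5.Tw.E6Perfect

set_option autoImplicit false
open Cfsg

namespace Cfsg.Agent.S1104

/-- ²E₆(q) equals its derived subgroup. -/
theorem result {K : Type*} [Field K] [Fintype K] {q : ℕ} (hq : IsPrimePow q) (hK : Fintype.card K = q ^ 2) : commutator ↥(Cfsg.Lie.twistedE6 K q) = ⊤ := by
  obtain ⟨φ, hφ, hφ2⟩ := Cfsg.Agent.Lib.Helper5.Tw.exists_frob hq hK
  have h2 : 2 ≤ q := hq.one_lt
  have hcard : 3 < Nat.card K := by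
    rw [Nat.card_eq_fintype_card, hK]
    calc 3 < 2 ^ 2 := by norm_num
      _ ≤ q ^ 2 := Nat.pow_le_pow_left h2 2
  exact Cfsg.Agent.Lib.Helper5.Tw.E6.perfect φ q hφ (fun t => hφ2 t) hcard

end Cfsg.Agent.S1104
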