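import Cfsg.Statements.S1109
import Cfsg.Agent.Lib.Helper5.Tw.CoreData

set_option autoImplicit false
open Cfsg

namespace Cfsg.Agent.S1109

/-- The normal core of `B¹ = G¹ ∩ B` in ³D₄(q) is trivial. -/
theorem result {K : Type*} [Field K] [Fintype K] {q : ℕ} (hq : IsPrimePow q) (hK : Fintype.card K = q ^ 3) :
    ((Cfsg.Lie.chevD4.borelSubgroup K ⊓ Cfsg.Lie.twistedD4 K q).subgroupOf (Cfsg.Lie.twistedD4 K q)).normalCore = ⊥ := by
  rw [eq_bot_iff]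
  intro x hx
  rw [Subgroup.mem_bot]
  have hx' : ∀ b : ↥(Cfsg.Lie.twistedD4 K q), b * x * b⁻¹ ∈
      (Cfsg.Lie.chevD4.borelSubgroup K ⊓ Cfsg.Lie.twistedD4 K q).subgroupOf
        (Cfsg.Lie.twistedD4 K q) := hx
  apply Subtype.ext
  apply Cfsg.Agent.Lib.Helper5.Tw.D4.core hq hK (x : GL Cfsg.Lie.chevD4.Idx K)
  intro y hy
  have := hx' ⟨y, hy⟩
  rw [Subgroup.mem_subgroupOf] at this
  exact this.1

end Cfsg.Agent.S1109
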