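import Cfsg.Statements.S1118
import Mathlib
import Cfsg.Agent.H9.RankOne

set_option autoImplicit false
open scoped Pointwise
open Cfsg

namespace Cfsg.Agent.S1118

open Cfsg.Agent.H9.RankOne

theorem result {G Ω : Type*} [Group G] [Finite G] [MulAction G Ω] {a : Ω} {t : G} {Q : Subgroup G}
    (hS : Cfsg.IsRankOneSetup G Ω a t Q) :
    (∀ X : Set G, X ⊆ (Q : Set G) → (∃ x ∈ X, x ≠ 1) → Subgroup.normalizer X ≤ MulAction.stabilizer G a) ∧
      Subgroup.normalizer (Q : Set G) = MulAction.stabilizer G a ∧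
      Subgroup.normalizer (MulAction.stabilizer G a : Set G) = MulAction.stabilizer G a := by
  have h1 : ∀ X : Set G, X ⊆ (Q : Set G) → (∃ x ∈ X, x ≠ 1) →
      Subgroup.normalizer X ≤ MulAction.stabilizer G a := by
    intro X hXQ ⟨x, hxX, hx1⟩ g hg
    rw [Subgroup.mem_set_normalizer_iff] at hg
    have h2 : g * x * g⁻¹ ∈ Q := hXQ ((hg x).1 hxX)
    have h3 : g * x * g⁻¹ ≠ 1 := by
      intro h
      apply hx1
      have : x = g⁻¹ * (g * x * g⁻¹) * g := by group
      rw [this, h]; group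
    have h4 : (g * x * g⁻¹) • (g • a) = g • a := by
      rw [mul_smul, mul_smul, inv_smul_smul, Q_smul_a hS (hXQ hxX)]
    exact fixed_of_Q hS h2 h3 h4
  obtain ⟨s0, hs0Q, hs01, hs0s⟩ := exists_invol hS
  refine ⟨h1, ?_, ?_⟩
  · apply le_antisymm (h1 Q subset_rfl ⟨s0, hs0Q, hs01⟩)
    intro g hg
    rw [Subgroup.mem_set_normalizer_iff]
    intro n
    constructor
    · intro hn; exact hS.conj_mem g hg n hn
    · intro hn
      have := hS.conj_mem g⁻¹ ((MulAction.stabilizer G a).inv_mem hg) _ hn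
      have e : g⁻¹ * (g * n * g⁻¹) * g⁻¹⁻¹ = n := by group
      rwa [e] at this
  · apply le_antisymm _ Subgroup.le_normalizer
    intro g hg
    rw [Subgroup.mem_set_normalizer_iff] at hg
    have h2 : g * s0 * g⁻¹ ∈ MulAction.stabilizer G a := (hg s0).1 (hS.le hs0Q)
    have h3 : g * s0 * g⁻¹ ≠ 1 := by
      intro h
      apply hs01
      have : s0 = g⁻¹ * (g * s0 * g⁻¹) * g := by group
      rw [this, h]; group
    have h5 : (g * s0 * g⁻¹) * (g * s0 * g⁻¹) = 1 := by
      have : (g * s0 * g⁻¹) * (g * s0 * g⁻¹) = g * (s0 * s0) * g⁻¹ := by group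
      rw [this, hs0s]; group
    have h4 : (g * s0 * g⁻¹) • (g • a) = g • a := by
      rw [mul_smul, mul_smul, inv_smul_smul, Q_smul_a hS hs0Q]
    exact invol_fixed hS h2 h3 h5 h4

end Cfsg.Agent.S1118
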