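import Cfsg.Statements.S1119
import Mathlib
import Cfsg.Agent.H9.RankOne

set_option autoImplicit false
open scoped Pointwise
open Cfsg

namespace Cfsg.Agent.S1119

open Cfsg.Agent.H9.RankOne

theorem result {G Ω : Type*} [Group G] [Finite G] [MulAction G Ω] {a : Ω} {t : G} {Q : Subgroup G}
    (hS : Cfsg.IsRankOneSetup G Ω a t Q) :
    (∀ b c : Ω, b ≠ a → c ≠ a → ∃! x : Q, (x : G) • b = c) ∧
      Nat.card Ω = Nat.card Q + 1 ∧
      Nat.card G = Nat.card Q * Nat.card ↥(MulAction.stabilizer G a ⊓ MulAction.stabilizer G (t • a)) * (Nat.card Q + 1) ∧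
      (∃ P : Sylow 2 G, (P : Subgroup G) ≤ Q) ∧
      ∀ g : G, g ∉ MulAction.stabilizer G a → ∃! p : G × G, p.1 ∈ MulAction.stabilizer G a ∧ p.2 ∈ Q ∧ g = p.1 * t * p.2 := by
  refine ⟨fun b c hb hc => Q_regular hS hb hc, card_Ω hS, card_G hS, ?_, ?_⟩
  · -- Sylow
    have : Fact (Nat.Prime 2) := ⟨Nat.prime_two⟩
    obtain ⟨P0⟩ : Nonempty (Sylow 2 Q) := inferInstance
    have hc0 : Nat.card (P0 : Subgroup Q) = 2 ^ (Nat.card Q).factorization 2 :=
      P0.card_eq_multiplicity
    have hfac : (Nat.card G).factorization 2 = (Nat.card Q).factorization 2 := by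
      rw [card_G hS, mul_assoc]
      have hQ0 : Nat.card Q ≠ 0 := Nat.card_pos.ne'
      have hD0 : Nat.card (DD G a t) ≠ 0 := Nat.card_pos.ne'
      rw [Nat.factorization_mul hQ0 (Nat.mul_ne_zero hD0 (Nat.succ_ne_zero _))]
      rw [Finsupp.add_apply]
      have hodd : ¬ 2 ∣ Nat.card (DD G a t) * (Nat.card Q + 1) := by
        rw [← even_iff_two_dvd, Nat.not_even_iff_odd]
        exact hS.odd_card.mul hS.even_card.add_one
      rw [Nat.factorization_eq_zero_of_not_dvd hodd, add_zero]
    have hcard : Nat.card ((P0 : Subgroup Q).map Q.subtype) = 2 ^ (Nat.card G).factorization 2 := by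
      rw [hfac, ← hc0]
      exact Subgroup.card_map_of_injective Q.subtype_injective
    refine ⟨Sylow.ofCard _ hcard, ?_⟩
    show (P0 : Subgroup Q).map Q.subtype ≤ Q
    exact Subgroup.map_subtype_le _
  · intro g hg
    have hga : g⁻¹ • a ≠ a := by
      intro h
      apply hg
      rw [MulAction.mem_stabilizer_iff]
      rw [inv_smul_eq_iff] at h
      exact h.symm
    obtain ⟨y', hy', hy'e⟩ := exists_Q_smul hS hga
    have hti := t_inv hS
    refine ⟨(g * y' * t, y'⁻¹), ⟨?_, Q.inv_mem hy', ?_⟩, ?_⟩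
    · show (g * y' * t) • a = a
      rw [mul_smul, mul_smul, hy'e, smul_inv_smul]
    · show g = g * y' * t * t * y'⁻¹
      have : g * y' * t * t * y'⁻¹ = g * y' * (t * t) * y'⁻¹ := by group
      rw [this, hS.mul_self]; group
    · rintro ⟨x, y⟩ ⟨hx, hy, hxy⟩
      simp only at hx hy hxy
      have h1 : g⁻¹ • a = y⁻¹ • t • a := by
        rw [hxy, mul_inv_rev, mul_inv_rev, hti, mul_smul, mul_smul]
        have : x⁻¹ • a = a := by
          rw [inv_smul_eq_iff]; exact hx.symm
        rw [this]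
      have h2 : (y * y') • (t • a) = t • a := by
        rw [mul_smul, hy'e, h1, smul_inv_smul]
      have h3 : y * y' = 1 := Q_free_b hS (Q.mul_mem hy hy') h2
      have h4 : y = y'⁻¹ := eq_inv_of_mul_eq_one_left h3
      subst h4
      ext
      · show x = g * y' * t
        rw [hxy]
        have : x * t * y'⁻¹ * y' * t = x * (t * t) := by group
        rw [this, hS.mul_self, mul_one]
      · rfl

end Cfsg.Agent.S1119
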