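import Cfsg.Statements.S1124
import Mathlib

set_option autoImplicit false
open scoped Pointwise
open Cfsg

namespace Cfsg.Agent.S1124

section
variable {M : Type*} [Group M]

lemma pow_card_of_mem [Finite M] {X : Subgroup M} {a : M} (ha : a ∈ X) :
    a ^ Nat.card X = 1 := by
  have h := pow_card_eq_one' (G := X) (x := ⟨a, ha⟩)
  have h2 := congrArg (Subtype.val) h
  rw [Subgroup.coe_pow, Subgroup.coe_one] at h2
  exact h2

lemma eq_sq_pow [Finite M] {X : Subgroup M} {m : ℕ} (hm : Nat.card X = 2 * m + 1)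
    {a : M} (ha : a ∈ X) : (a * a) ^ (m + 1) = a := by
  have h1 : a ^ (2 * m + 1) = 1 := hm ▸ pow_card_of_mem ha
  calc (a * a) ^ (m + 1) = a ^ (2 * m + 1) * a := by
        rw [← pow_two, ← pow_mul, ← pow_succ]; congr 1
    _ = a := by rw [h1, one_mul]

lemma sq_inj [Finite M] {X : Subgroup M} {m : ℕ} (hm : Nat.card X = 2 * m + 1)
    {a b : M} (ha : a ∈ X) (hb : b ∈ X) (h : a * a = b * b) : a = b := by
  rw [← eq_sq_pow hm ha, ← eq_sq_pow hm hb, h]

lemma inv_of_order_two {t : M} (ht : orderOf t = 2) : t⁻¹ = t := by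
  have : t ^ 2 = 1 := ht ▸ pow_orderOf_eq_one t
  rw [inv_eq_iff_mul_eq_one, ← pow_two, this]

lemma mem_invertedBy {X : Subgroup M} {t x : M} :
    x ∈ Cfsg.invertedBy X t ↔ x ∈ X ∧ t * x * t⁻¹ = x⁻¹ := Iff.rfl

lemma pow_mem_invertedBy {X : Subgroup M} {t x : M} (hx : x ∈ Cfsg.invertedBy X t) (n : ℕ) :
    x ^ n ∈ Cfsg.invertedBy X t := by
  refine ⟨X.pow_mem hx.1 n, ?_⟩
  have : t * x ^ n * t⁻¹ = (t * x * t⁻¹) ^ n := by
    rw [conj_pow]
  rw [this, hx.2, inv_pow]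

end

theorem result {M : Type*} [Group M] [Finite M]
    (t : M) (ht : orderOf t = 2) (X : Subgroup M) (hodd : Odd (Nat.card X))
    (hnorm : ∀ x ∈ X, t * x * t⁻¹ ∈ X) :
    (∀ x ∈ X, ∃! p : M × M, p.1 ∈ X ⊓ Subgroup.centralizer {t} ∧ p.2 ∈ Cfsg.invertedBy X t ∧ x = p.1 * p.2) ∧
      Nat.card X = Nat.card ↥(X ⊓ Subgroup.centralizer {t}) * Nat.card (Cfsg.invertedBy X t) ∧
      ∀ x ∈ X, MulAut.conj x • Subgroup.closure (Cfsg.invertedBy X t) = Subgroup.closure (Cfsg.invertedBy X t) := by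
  obtain ⟨m, hm⟩ := hodd
  have hti : t⁻¹ = t := inv_of_order_two ht
  have htt : t * t = 1 := by
    have : t ^ 2 = 1 := ht ▸ pow_orderOf_eq_one t
    rwa [pow_two] at this
  -- membership in centralizer
  have hcen : ∀ y : M, y ∈ Subgroup.centralizer {t} ↔ t * y * t⁻¹ = y := by
    intro y
    rw [Subgroup.mem_centralizer_singleton_iff]
    constructor
    · intro h; rw [← h]; simp
    · intro h
      calc y * t = t * y * t⁻¹ * t := by rw [h]
        _ = t * y := by group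
  -- existence and uniqueness
  have key : ∀ x ∈ X, ∃! p : M × M, p.1 ∈ X ⊓ Subgroup.centralizer {t} ∧
      p.2 ∈ Cfsg.invertedBy X t ∧ x = p.1 * p.2 := by
    intro x hx
    set u : M := (t * x * t⁻¹)⁻¹ * x with hu
    have huX : u ∈ X := X.mul_mem (X.inv_mem (hnorm x hx)) hx
    have huZ : u ∈ Cfsg.invertedBy X t := by
      refine ⟨huX, ?_⟩
      rw [hu, hti]
      have : t * ((t * x * t)⁻¹ * x) * t = (t * (t * x * t)⁻¹ * t) * (t * x * t) := by
        have : t * (t * x * t)⁻¹ * t * (t * x * t) = t * (t * x * t)⁻¹ * (t * t) * x * t := by group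
        rw [this, htt]; group
      rw [this]
      have h2 : t * (t * x * t)⁻¹ * t = x⁻¹ := by
        rw [mul_inv_rev, mul_inv_rev, hti]
        calc t * (t * (x⁻¹ * t)) * t = (t * t) * x⁻¹ * (t * t) := by group
          _ = x⁻¹ := by rw [htt]; simp
      rw [h2]; group
    set z : M := u ^ (m + 1) with hz
    have hzZ : z ∈ Cfsg.invertedBy X t := pow_mem_invertedBy huZ _
    have hzz : z * z = u := by
      have := eq_sq_pow hm huX
      rw [hz, ← pow_add]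
      have h1 : u ^ (2 * m + 1) = 1 := hm ▸ pow_card_of_mem huX
      calc u ^ (m + 1 + (m + 1)) = u ^ (2 * m + 1) * u := by rw [← pow_succ]; congr 1; ring
        _ = u := by rw [h1, one_mul]
    refine ⟨(x * z⁻¹, z), ⟨?_, hzZ, by simp⟩, ?_⟩
    · refine ⟨X.mul_mem hx (X.inv_mem hzZ.1), (hcen _).2 ?_⟩
      show t * (x * z⁻¹) * t⁻¹ = x * z⁻¹
      -- t x z⁻¹ t⁻¹ = (t x t⁻¹)(t z⁻¹ t⁻¹) = (t x t⁻¹) z
      have h1 : t * (x * z⁻¹) * t⁻¹ = (t * x * t⁻¹) * (t * z * t⁻¹)⁻¹ := by group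
      rw [h1, hzZ.2, inv_inv]
      -- (t x t⁻¹) z = x z⁻¹  iff z z = (t x t⁻¹)⁻¹ x
      have : z = (t * x * t⁻¹)⁻¹ * x * z⁻¹ := by
        rw [← hu, ← hzz]; group
      calc t * x * t⁻¹ * z = t * x * t⁻¹ * ((t * x * t⁻¹)⁻¹ * x * z⁻¹) := by rw [← this]
        _ = x * z⁻¹ := by group
    · rintro ⟨y', z'⟩ ⟨hy', hz', hxe⟩
      simp only at hy' hz' hxe
      have hy'c : t * y' * t⁻¹ = y' := (hcen y').1 hy'.2
      have : z' * z' = u := by
        rw [hu, hxe]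
        have h1 : t * (y' * z') * t⁻¹ = (t * y' * t⁻¹) * (t * z' * t⁻¹) := by group
        rw [h1, hy'c, hz'.2]; group
      have hzz' : z' = z := sq_inj hm hz'.1 hzZ.1 (this.trans hzz.symm)
      subst hzz'
      ext
      · simp only; rw [hxe]; group
      · rfl
  refine ⟨key, ?_, ?_⟩
  · -- counting
    have e : (↥(X ⊓ Subgroup.centralizer {t}) × (Cfsg.invertedBy X t)) ≃ X := by
      refine Equiv.ofBijective (fun p => ⟨(p.1 : M) * (p.2 : M), X.mul_mem p.1.2.1 p.2.2.1⟩) ⟨?_, ?_⟩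
      · rintro ⟨⟨y1, hy1⟩, ⟨z1, hz1⟩⟩ ⟨⟨y2, hy2⟩, ⟨z2, hz2⟩⟩ h
        simp only [Subtype.mk.injEq] at h
        obtain ⟨p, _, hp⟩ := key (y1 * z1) (X.mul_mem hy1.1 hz1.1)
        have h1 := hp (y1, z1) ⟨hy1, hz1, rfl⟩
        have h2 := hp (y2, z2) ⟨hy2, hz2, h⟩
        have := h1.trans h2.symm
        simp only [Prod.mk.injEq] at this
        simp [this.1, this.2]
      · rintro ⟨x, hx⟩
        obtain ⟨p, ⟨hp1, hp2, hp3⟩, _⟩ := key x hx
        exact ⟨(⟨p.1, hp1⟩, ⟨p.2, hp2⟩), by simp [hp3]⟩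
    rw [← Nat.card_congr e, Nat.card_prod]
  · -- normality
    intro x hx
    have hconjY : ∀ y ∈ X ⊓ Subgroup.centralizer {t}, ∀ z ∈ Cfsg.invertedBy X t,
        y * z * y⁻¹ ∈ Cfsg.invertedBy X t := by
      intro y hy z hz
      refine ⟨X.mul_mem (X.mul_mem hy.1 hz.1) (X.inv_mem hy.1), ?_⟩
      have hyc := (hcen y).1 hy.2
      have h1 : t * (y * z * y⁻¹) * t⁻¹ = (t * y * t⁻¹) * (t * z * t⁻¹) * (t * y * t⁻¹)⁻¹ := by group
      rw [h1, hyc, hz.2]; group
    have hconj : ∀ x ∈ X, ∀ g ∈ Subgroup.closure (Cfsg.invertedBy X t),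
        x * g * x⁻¹ ∈ Subgroup.closure (Cfsg.invertedBy X t) := by
      intro x hx g hg
      obtain ⟨p, ⟨hp1, hp2, hp3⟩, _⟩ := key x hx
      rw [hp3]
      have : p.1 * p.2 * g * (p.1 * p.2)⁻¹ = p.1 * (p.2 * g * p.2⁻¹) * p.1⁻¹ := by group
      rw [this]
      have hin : p.2 * g * p.2⁻¹ ∈ Subgroup.closure (Cfsg.invertedBy X t) :=
        Subgroup.mul_mem _ (Subgroup.mul_mem _ (Subgroup.subset_closure hp2) hg)
          (Subgroup.inv_mem _ (Subgroup.subset_closure hp2))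
      refine Subgroup.closure_induction (p := fun g _ => p.1 * g * p.1⁻¹ ∈ Subgroup.closure (Cfsg.invertedBy X t))
        ?_ ?_ ?_ ?_ hin
      · intro g hg; exact Subgroup.subset_closure (hconjY _ hp1 _ hg)
      · simp
      · intro a b _ _ ha hb
        have : p.1 * (a * b) * p.1⁻¹ = (p.1 * a * p.1⁻¹) * (p.1 * b * p.1⁻¹) := by group
        rw [this]; exact Subgroup.mul_mem _ ha hb
      · intro a _ ha
        have : p.1 * a⁻¹ * p.1⁻¹ = (p.1 * a * p.1⁻¹)⁻¹ := by group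
        rw [this]; exact Subgroup.inv_mem _ ha
    ext g
    rw [Subgroup.mem_pointwise_smul_iff_inv_smul_mem]
    have e1 : (MulAut.conj x)⁻¹ • g = x⁻¹ * g * x := by
      simp [MulAut.smul_def]
    rw [e1]
    constructor
    · intro h
      have := hconj x hx _ h
      have e2 : x * (x⁻¹ * g * x) * x⁻¹ = g := by group
      rwa [e2] at this
    · intro h
      have := hconj x⁻¹ (X.inv_mem hx) _ h
      rwa [inv_inv] at this

end Cfsg.Agent.S1124
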