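import Cfsg.Statements.S1120
import Mathlib
import Cfsg.Agent.H9.RankOne
import Cfsg.Agent.S1124
import Cfsg.Agent.Lib.Lead.PiCore

set_option autoImplicit false
open scoped Pointwise
open Cfsg

namespace Cfsg.Agent.S1120

open Cfsg.Agent.H9.RankOne MulAction

section
variable {G Ω : Type*} [Group G] [Finite G] [MulAction G Ω] {a : Ω} {t : G} {Q : Subgroup G}

/-- an odd-order subgroup contains no involution. -/
lemma no_invol_of_odd {O : Subgroup G} (hO : (Nat.card O).Coprime 2) {z : G} (hz : z ∈ O)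
    (hzz : z * z = 1) : z = 1 := by
  have h1 : orderOf (⟨z, hz⟩ : O) ∣ 2 := by
    apply orderOf_dvd_of_pow_eq_one
    apply Subtype.ext
    rw [pow_two]; exact hzz
  have h2 : orderOf (⟨z, hz⟩ : O) ∣ Nat.card O := orderOf_dvd_natCard _
  have h4 : orderOf (⟨z, hz⟩ : O) = 1 := Nat.eq_one_of_dvd_coprimes hO h2 h1
  rw [orderOf_eq_one_iff] at h4
  exact congrArg Subtype.val h4

/-- Key step: a normal odd-order subgroup `O`, commuting distinct involutions `x, y ∈ G_a`;
an element of `O` inverted by `x` fixes `a`. -/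
lemma inverted_mem_stab (hS : Cfsg.IsRankOneSetup G Ω a t Q) {O : Subgroup G} [hOn : O.Normal]
    (hO : (Nat.card O).Coprime 2) {x y : G} (hx : x ∈ stabilizer G a) (hy : y ∈ stabilizer G a)
    (hy1 : y ≠ 1) (hxy : x ≠ y) (hxx : x * x = 1) (hyy : y * y = 1)
    (hc : x * y = y * x) {o : G} (ho : o ∈ O) (hinv : x * o * x⁻¹ = o⁻¹) :
    o ∈ stabilizer G a := by
  by_contra hoa
  have hxi : x⁻¹ = x := inv_eq_iff_mul_eq_one.2 hxx
  have hinv' : x * o * x = o⁻¹ := by rw [hxi] at hinv; exact hinv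
  have huu : (x * o) * (x * o) = 1 := by
    calc (x * o) * (x * o) = (x * o * x) * o := by group
      _ = 1 := by rw [hinv']; group
  have hua : x * o ∉ stabilizer G a := by
    intro h
    apply hoa
    have : o = x⁻¹ * (x * o) := by group
    rw [this]
    exact (stabilizer G a).mul_mem ((stabilizer G a).inv_mem hx) h
  have hodd := odd_orderOf_mul hS hy hy1 hyy hua huu
  obtain ⟨n, hn, -⟩ := conj_of_odd_pow hyy huu hodd
  -- pass to the quotient by O
  let π := QuotientGroup.mk' O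
  have hπo : π o = 1 := (QuotientGroup.eq_one_iff o).2 ho
  have h1 := congrArg π hn
  simp only [map_mul, map_inv, map_pow] at h1
  rw [hπo, mul_one] at h1
  have hcomm : Commute (π y) (π y * π x) := by
    have : Commute (π y) (π x) := by
      show π y * π x = π x * π y
      rw [← map_mul, ← map_mul, hc]
    exact (Commute.refl _).mul_right this
  have h2 : π y = π x := by
    have h3 : ((π y * π x) ^ n)⁻¹ * π y * (π y * π x) ^ n = π y := by
      have := hcomm.pow_right n
      calc ((π y * π x) ^ n)⁻¹ * π y * (π y * π x) ^ n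
          = ((π y * π x) ^ n)⁻¹ * (π y * (π y * π x) ^ n) := by group
        _ = ((π y * π x) ^ n)⁻¹ * ((π y * π x) ^ n * π y) := by rw [this.eq]
        _ = π y := by group
    rw [h3] at h1
    exact h1
  have h4 : x⁻¹ * y ∈ O := by
    have : π (x⁻¹ * y) = 1 := by rw [map_mul, map_inv, h2]; group
    exact (QuotientGroup.eq_one_iff _).1 this
  have h5 : (x⁻¹ * y) * (x⁻¹ * y) = 1 := by
    rw [hxi]
    calc x * y * (x * y) = x * (y * x) * y := by group
      _ = x * (x * y) * y := by rw [hc]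
      _ = (x * x) * (y * y) := by group
      _ = 1 := by rw [hxx, hyy, one_mul]
  have h6 := no_invol_of_odd hO h4 h5
  apply hxy
  rw [hxi] at h6
  have hyi : y⁻¹ = y := inv_eq_iff_mul_eq_one.2 hyy
  rw [← hyi]
  exact eq_inv_of_mul_eq_one_left h6

end

theorem result {G Ω : Type*} [Group G] [Finite G] [MulAction G Ω] {a : Ω} {t : G} {Q : Subgroup G}
    (hS : Cfsg.IsRankOneSetup G Ω a t Q)
    (h2 : ∃ x y : G, x ≠ 1 ∧ y ≠ 1 ∧ x ≠ y ∧ x * x = 1 ∧ y * y = 1 ∧ x * y = y * x) :
    Cfsg.pPrimeCore 2 G = (MulAction.stabilizer G a).normalCore := by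
  have hp2 : Nat.Prime 2 := Nat.prime_two
  have hOn : (pPrimeCore 2 G).Normal := Cfsg.Agent.Lib.Lead.PiCore.pPrimeCore_normal 2
  have hO : (Nat.card (pPrimeCore 2 G)).Coprime 2 :=
    Cfsg.Agent.Lib.Lead.PiCore.pPrimeCore_coprime hp2
  apply le_antisymm
  · rw [Subgroup.normal_le_normalCore]
    obtain ⟨x, y, hx1, hy1, hxy, hxx, hyy, hc⟩ := h2
    obtain ⟨c, hcx, hcu⟩ := invol_unique_fixed hS hx1 hxx
    have hyc : y • c = c := hcu _ (by
      show x • y • c = y • c
      rw [smul_smul, hc, mul_smul, hcx])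
    have := isPretransitive hS
    obtain ⟨g, hg⟩ := MulAction.exists_smul_eq G c a
    have hgi : g⁻¹ • a = c := by rw [inv_smul_eq_iff, hg]
    have hx'a : g * x * g⁻¹ ∈ stabilizer G a := by
      show (g * x * g⁻¹) • a = a
      rw [mul_smul, mul_smul, hgi, hcx, hg]
    have hy'a : g * y * g⁻¹ ∈ stabilizer G a := by
      show (g * y * g⁻¹) • a = a
      rw [mul_smul, mul_smul, hgi, hyc, hg]
    have hx'1 : g * x * g⁻¹ ≠ 1 := by
      intro h
      apply hx1
      have : x = g⁻¹ * (g * x * g⁻¹) * g := by group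
      rw [this, h]; group
    have hy'1 : g * y * g⁻¹ ≠ 1 := by
      intro h
      apply hy1
      have : y = g⁻¹ * (g * y * g⁻¹) * g := by group
      rw [this, h]; group
    have hx'y' : g * x * g⁻¹ ≠ g * y * g⁻¹ := by
      intro h
      apply hxy
      have : x = g⁻¹ * (g * x * g⁻¹) * g := by group
      rw [this, h]; group
    have hx'x' : (g * x * g⁻¹) * (g * x * g⁻¹) = 1 := by
      calc (g * x * g⁻¹) * (g * x * g⁻¹) = g * (x * x) * g⁻¹ := by group
        _ = 1 := by rw [hxx]; group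
    have hy'y' : (g * y * g⁻¹) * (g * y * g⁻¹) = 1 := by
      calc (g * y * g⁻¹) * (g * y * g⁻¹) = g * (y * y) * g⁻¹ := by group
        _ = 1 := by rw [hyy]; group
    have hc' : (g * x * g⁻¹) * (g * y * g⁻¹) = (g * y * g⁻¹) * (g * x * g⁻¹) := by
      calc (g * x * g⁻¹) * (g * y * g⁻¹) = g * (x * y) * g⁻¹ := by group
        _ = g * (y * x) * g⁻¹ := by rw [hc]
        _ = _ := by group
    obtain ⟨x', hx'⟩ : ∃ x', x' = g * x * g⁻¹ := ⟨_, rfl⟩
    obtain ⟨y', hy'⟩ : ∃ y', y' = g * y * g⁻¹ := ⟨_, rfl⟩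
    rw [← hx'] at hx'a hx'1 hx'y' hx'x' hc'
    rw [← hy'] at hy'a hy'1 hx'y' hy'y' hc'
    intro o ho
    have hx'ord : orderOf x' = 2 :=
      orderOf_eq_prime (by rw [pow_two]; exact hx'x') hx'1
    have hoddO : Odd (Nat.card (pPrimeCore 2 G)) := Nat.coprime_two_right.1 hO
    have hnorm : ∀ z ∈ pPrimeCore 2 G, x' * z * x'⁻¹ ∈ pPrimeCore 2 G :=
      fun z hz => hOn.conj_mem z hz x'
    obtain ⟨hdec, -, -⟩ := Cfsg.Agent.S1124.result x' hx'ord (pPrimeCore 2 G) hoddO hnorm
    obtain ⟨p, ⟨hp1, hp2', hp3⟩, -⟩ := hdec o ho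
    rw [hp3]
    apply Subgroup.mul_mem
    · have hcomm : x' * p.1 = p.1 * x' :=
        (Subgroup.mem_centralizer_iff.1 hp1.2) x' rfl
      have : x' • (p.1 • a) = p.1 • a := by
        rw [smul_smul, hcomm, mul_smul]
        have : x' • a = a := hx'a
        rw [this]
      exact invol_fixed hS hx'a hx'1 hx'x' this
    · exact inverted_mem_stab hS hO hx'a hy'a hy'1 hx'y' hx'x' hy'y' hc' hp2'.1 hp2'.2
  · apply Cfsg.Agent.Lib.Lead.PiCore.le_pPrimeCore (Subgroup.normalCore_normal _)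
    rw [Nat.coprime_two_right]
    by_contra hodd
    rw [Nat.not_odd_iff_even] at hodd
    have : Fact (Nat.Prime 2) := ⟨Nat.prime_two⟩
    obtain ⟨z, hz⟩ := exists_prime_orderOf_dvd_card'
      (G := (MulAction.stabilizer G a).normalCore) 2 hodd.two_dvd
    have hz1 : (z : G) ≠ 1 := by
      intro h
      have : z = 1 := Subtype.ext h
      rw [this, orderOf_one] at hz
      norm_num at hz
    have hzz : (z : G) * (z : G) = 1 := by
      have : z ^ 2 = 1 := hz ▸ pow_orderOf_eq_one z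
      have := congrArg Subtype.val this
      rw [pow_two] at this
      exact this
    have hza : (z : G) ∈ stabilizer G a := Subgroup.normalCore_le _ z.2
    have hzQ : (z : G) ∈ Q := invol_mem_Q hS hza hzz
    have hzt : (t⁻¹ * (z : G) * t⁻¹⁻¹) ∈ stabilizer G a :=
      Subgroup.normalCore_le _
        ((Subgroup.normalCore_normal (stabilizer G a)).conj_mem (z : G) z.2 t⁻¹)
    have hzb : (z : G) • t • a = t • a := by
      have h1 : (t⁻¹ * (z : G) * t⁻¹⁻¹) • a = a := hzt
      rw [inv_inv, mul_smul, mul_smul, inv_smul_eq_iff] at h1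
      exact h1
    exact tsmul_ne hS (fixed_of_Q hS hzQ hz1 hzb)

end Cfsg.Agent.S1120
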