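import Cfsg.Statements.S1121
import Mathlib
import Cfsg.Agent.H9.RankOne

set_option autoImplicit false
open scoped Pointwise
open Cfsg

namespace Cfsg.Agent.S1121

open Cfsg.Agent.H9.RankOne

theorem result {G Ω : Type*} [Group G] [Finite G] [MulAction G Ω] {a : Ω} {t : G} {Q : Subgroup G}
    (hS : Cfsg.IsRankOneSetup G Ω a t Q) :
    (∀ s u : G, s ∈ MulAction.stabilizer G a → s ≠ 1 → s * s = 1 → u ∉ MulAction.stabilizer G a → u ≠ 1 → u * u = 1 → Odd (orderOf (s * u))) ∧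
      ∀ u v : G, u ≠ 1 → u * u = 1 → v ≠ 1 → v * v = 1 → ∃ g : G, g * u * g⁻¹ = v := by
  refine ⟨?_, ?_⟩
  · intro s u hs hs1 hss hu _ huu
    exact odd_orderOf_mul hS hs hs1 hss hu huu
  · intro u v hu1 huu hv1 hvv
    exact invol_conj hS hu1 huu hv1 hvv

end Cfsg.Agent.S1121
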