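import Cfsg.Statements.S1122
import Mathlib
import Cfsg.Agent.H9.RankOne2

set_option autoImplicit false
open scoped Pointwise
open Cfsg

namespace Cfsg.Agent.S1122

open Cfsg.Agent.H9.RankOne

theorem result {G Ω : Type*} [Group G] [Finite G] [MulAction G Ω] {a : Ω} {t : G} {Q : Subgroup G}
    (hS : Cfsg.IsRankOneSetup G Ω a t Q) :
    Nat.card (Cfsg.invertedBy (MulAction.stabilizer G a ⊓ MulAction.stabilizer G (t • a)) t) = Nat.card (Cfsg.involutionsIn (MulAction.stabilizer G a : Set G)) ∧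
      ∀ s ∈ Cfsg.involutionsIn (MulAction.stabilizer G a : Set G), ∀ s' ∈ Cfsg.involutionsIn (MulAction.stabilizer G a : Set G),
        ∃ k ∈ Cfsg.invertedBy (MulAction.stabilizer G a ⊓ MulAction.stabilizer G (t • a)) t, k⁻¹ * s * k = s' := by
  refine ⟨?_, fun s hs s' hs' => exists_K_conj hS hs hs'⟩
  obtain ⟨s0, hs0Q, hs01, hs0s⟩ := exists_invol hS
  have hs0 : s0 ∈ Cfsg.involutionsIn (MulAction.stabilizer G a : Set G) :=
    ⟨hS.le hs0Q, hs01, hs0s⟩
  have hmem : ∀ k ∈ KK G a t, k⁻¹ * s0 * k ∈ Cfsg.involutionsIn (MulAction.stabilizer G a : Set G) := by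
    intro k hk
    refine ⟨?_, ?_, ?_⟩
    · exact (MulAction.stabilizer G a).mul_mem ((MulAction.stabilizer G a).mul_mem
        ((MulAction.stabilizer G a).inv_mem hk.1.1) (hS.le hs0Q)) hk.1.1
    · intro h0
      apply hs01
      have : s0 = k * (k⁻¹ * s0 * k) * k⁻¹ := by group
      rw [this, h0]; group
    · calc k⁻¹ * s0 * k * (k⁻¹ * s0 * k) = k⁻¹ * (s0 * s0) * k := by group
        _ = 1 := by rw [hs0s]; group
  apply Nat.card_congr
  refine Equiv.ofBijective (fun k => ⟨(k : G)⁻¹ * s0 * (k : G), hmem k k.2⟩) ⟨?_, ?_⟩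
  · rintro ⟨k, hk⟩ ⟨k', hk'⟩ h
    have h' : k⁻¹ * s0 * k = k'⁻¹ * s0 * k' := congrArg Subtype.val h
    exact Subtype.ext (K_conj_inj hS hs0 hk hk' h')
  · rintro ⟨s', hs'⟩
    obtain ⟨k, hk, hks⟩ := exists_K_conj hS hs0 hs'
    exact ⟨⟨k, hk⟩, Subtype.ext hks⟩

end Cfsg.Agent.S1122
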