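import Cfsg.Statements.S1123
import Mathlib
import Cfsg.Agent.H9.RankOne

set_option autoImplicit false
open scoped Pointwise
open Cfsg

namespace Cfsg.Agent.S1123

open Cfsg.Agent.H9.RankOne

theorem result {G Ω : Type*} [Group G] [Finite G] [MulAction G Ω] {a : Ω} {t : G} {Q : Subgroup G}
    (hS : Cfsg.IsRankOneSetup G Ω a t Q) :
    ∃! p : G × G, p.1 ∈ Cfsg.involutionsIn (MulAction.stabilizer G a : Set G) ∧ p.2 ∈ Q ∧
      t * p.1 * t = p.2⁻¹ * t * p.2 := by
  obtain ⟨c, hc, hcu⟩ := invol_unique_fixed hS hS.ne_one hS.mul_self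
  have hca : c ≠ a := by
    rintro rfl
    exact hS.not_mem hc
  have hba : t • a ≠ a := tsmul_ne hS
  obtain ⟨⟨r, hrQ⟩, hr, hru⟩ := Q_regular hS hba hca
  have hr : r • t • a = c := hr
  have hti := t_inv hS
  -- the involution u = r⁻¹ t r fixes b
  have hub : (r⁻¹ * t * r) • (t • a) = t • a := by
    rw [mul_smul, mul_smul, hr, hc, ← hr, inv_smul_smul]
  refine ⟨(t * (r⁻¹ * t * r) * t, r), ⟨⟨?_, ?_, ?_⟩, hrQ, ?_⟩, ?_⟩
  · show (t * (r⁻¹ * t * r) * t) • a = a
    rw [mul_smul, mul_smul, hub, t_smul_t_smul hS]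
  · intro h
    have h : t * (r⁻¹ * t * r) * t = 1 := h
    have h1 : r⁻¹ * t * r = t * (t * (r⁻¹ * t * r) * t) * t := by
      have : t * (t * (r⁻¹ * t * r) * t) * t = (t * t) * (r⁻¹ * t * r) * (t * t) := by group
      rw [this, hS.mul_self]; group
    rw [h, mul_one, hS.mul_self] at h1
    apply hS.ne_one
    have : t = r * (r⁻¹ * t * r) * r⁻¹ := by group
    rw [this, h1]; group
  · have : t * (r⁻¹ * t * r) * t * (t * (r⁻¹ * t * r) * t) =
        t * (r⁻¹ * t * r) * (t * t) * (r⁻¹ * t * r) * t := by group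
    rw [this, hS.mul_self]
    have : t * (r⁻¹ * t * r) * 1 * (r⁻¹ * t * r) * t = t * (r⁻¹ * (t * t) * r) * t := by group
    rw [this, hS.mul_self]
    have : t * (r⁻¹ * 1 * r) * t = t * t := by group
    rw [this, hS.mul_self]
  · show t * (t * (r⁻¹ * t * r) * t) * t = r⁻¹ * t * r
    have : t * (t * (r⁻¹ * t * r) * t) * t = (t * t) * (r⁻¹ * t * r) * (t * t) := by group
    rw [this, hS.mul_self]; group
  · rintro ⟨s', r'⟩ ⟨⟨hs'a, hs'1, hs's⟩, hr'Q, he⟩
    simp only at hs'a hs'1 hs's hr'Q he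
    have hs'a : s' • a = a := hs'a
    -- r'⁻¹ t r' fixes b, so t fixes r' b
    have h1 : (r'⁻¹ * t * r') • (t • a) = t • a := by
      rw [← he, mul_smul, mul_smul, t_smul_t_smul hS, hs'a]
    have h2 : t • (r' • t • a) = r' • t • a := by
      have h0 : r' • ((r'⁻¹ * t * r') • (t • a)) = r' • (t • a) := by rw [h1]
      rw [mul_smul, mul_smul, smul_inv_smul] at h0
      exact h0
    have h3 : r' • t • a = c := hcu _ h2
    have h4 : (⟨r', hr'Q⟩ : Q) = ⟨r, hrQ⟩ := hru ⟨r', hr'Q⟩ h3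
    have h5 : r' = r := congrArg Subtype.val h4
    subst h5
    ext
    · show s' = t * (r'⁻¹ * t * r') * t
      rw [← he]
      have : t * (t * s' * t) * t = (t * t) * s' * (t * t) := by group
      rw [this, hS.mul_self]; group
    · rfl

end Cfsg.Agent.S1123
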