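import Cfsg.Statements.S1127
import Mathlib
import Cfsg.Agent.H9.RankOne2
import Cfsg.Agent.S1123

set_option autoImplicit false
open scoped Pointwise
open Cfsg

namespace Cfsg.Agent.S1127

open Cfsg.Agent.H9.RankOne MulAction

section
variable {G Ω : Type*} [Group G] [Finite G] [MulAction G Ω] {a : Ω} {t : G} {Q : Subgroup G}

lemma one_mem_K : (1 : G) ∈ KK G a t := ⟨Subgroup.one_mem _, by simp⟩

lemma conj_mem_invol {d s : G} (hd : d ∈ stabilizer G a)
    (hs : s ∈ Cfsg.involutionsIn (stabilizer G a : Set G)) :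
    d * s * d⁻¹ ∈ Cfsg.involutionsIn (stabilizer G a : Set G) := by
  obtain ⟨hsa, hs1, hss⟩ := hs
  refine ⟨?_, ?_, ?_⟩
  · exact (stabilizer G a).mul_mem ((stabilizer G a).mul_mem hd hsa) ((stabilizer G a).inv_mem hd)
  · intro h0
    apply hs1
    have : s = d⁻¹ * (d * s * d⁻¹) * d := by group
    rw [this, h0]; group
  · calc d * s * d⁻¹ * (d * s * d⁻¹) = d * (s * s) * d⁻¹ := by group
      _ = 1 := by rw [hss]; group

/-- `C_D(t) ≤ C_D(s)` for the special pair. -/
lemma cent_t_le (hS : Cfsg.IsRankOneSetup G Ω a t Q) {s r : G}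
    (hs : s ∈ Cfsg.involutionsIn (stabilizer G a : Set G)) (hr : r ∈ Q)
    (hrel : t * s * t = r⁻¹ * t * r) {d : G} (hd : d ∈ DD G a t) (hdt : d * t = t * d) :
    d * s = s * d := by
  obtain ⟨p, -, hpu⟩ := Cfsg.Agent.S1123.result hS
  have h1 := hpu (s, r) ⟨hs, hr, hrel⟩
  have hdt' : d * t * d⁻¹ = t := by rw [hdt]; group
  have h2 := hpu (d * s * d⁻¹, d * r * d⁻¹) ⟨conj_mem_invol hd.1 hs, hS.conj_mem d hd.1 r hr, by
    show t * (d * s * d⁻¹) * t = (d * r * d⁻¹)⁻¹ * t * (d * r * d⁻¹)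
    calc t * (d * s * d⁻¹) * t = (d * t * d⁻¹) * (d * s * d⁻¹) * (d * t * d⁻¹) := by rw [hdt']
      _ = d * (t * s * t) * d⁻¹ := by group
      _ = d * (r⁻¹ * t * r) * d⁻¹ := by rw [hrel]
      _ = (d * r * d⁻¹)⁻¹ * (d * t * d⁻¹) * (d * r * d⁻¹) := by group
      _ = _ := by rw [hdt']⟩
  have h3 : d * s * d⁻¹ = s := by
    have := h2.trans h1.symm
    exact congrArg Prod.fst this
  calc d * s = d * s * d⁻¹ * d := by group
    _ = s * d := by rw [h3]

/-- `C_D(s) ≤ C_D(t)` for the special pair. -/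
lemma cent_s_le (hS : Cfsg.IsRankOneSetup G Ω a t Q) {s r : G}
    (hs : s ∈ Cfsg.involutionsIn (stabilizer G a : Set G)) (hr : r ∈ Q)
    (hrel : t * s * t = r⁻¹ * t * r) {d : G} (hd : d ∈ DD G a t) (hds : d * s = s * d) :
    d * t = t * d := by
  have hda : d • a = a := hd.1
  have hdb : d • t • a = t • a := hd.2
  have hdia : d⁻¹ • a = a := by rw [inv_smul_eq_iff, hda]
  -- u = d t d⁻¹ is an involution swapping a and t a
  have huu : (d * t * d⁻¹) * (d * t * d⁻¹) = 1 := by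
    calc (d * t * d⁻¹) * (d * t * d⁻¹) = d * (t * t) * d⁻¹ := by group
      _ = 1 := by rw [hS.mul_self]; group
  have hua : (d * t * d⁻¹) • a = t • a := by
    rw [mul_smul, mul_smul, hdia, hdb]
  have hk := mem_K_of_swap hS huu hua
  obtain ⟨h, hh, hhk⟩ := K_sqrt hS hk
  have hu : d * t * d⁻¹ = h⁻¹ * t * h := by
    rw [← tk_eq_conj hS hh, hhk, ← mul_assoc, hS.mul_self, one_mul]
  -- g = h d commutes with t
  have hgt : (h * d) * t = t * (h * d) := by
    calc (h * d) * t = h * (d * t * d⁻¹) * d := by group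
      _ = h * (h⁻¹ * t * h) * d := by rw [hu]
      _ = t * (h * d) := by group
  have hgD : h * d ∈ DD G a t := (DD G a t).mul_mem hh.1 hd
  have hgs := cent_t_le hS hs hr hrel hgD hgt
  -- hence h commutes with s
  have hhs : h⁻¹ * s * h = 1⁻¹ * s * 1 := by
    have e1 : h * s = s * h := by
      calc h * s = (h * d) * (d⁻¹ * s) := by group
        _ = (h * d) * (s * d⁻¹) := by
            have : d⁻¹ * s = s * d⁻¹ := by
              calc d⁻¹ * s = d⁻¹ * (s * d) * d⁻¹ := by group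
                _ = d⁻¹ * (d * s) * d⁻¹ := by rw [hds]
                _ = s * d⁻¹ := by group
            rw [this]
        _ = ((h * d) * s) * d⁻¹ := by group
        _ = (s * (h * d)) * d⁻¹ := by rw [hgs]
        _ = s * h := by group
    calc h⁻¹ * s * h = h⁻¹ * (s * h) := by group
      _ = h⁻¹ * (h * s) := by rw [e1]
      _ = 1⁻¹ * s * 1 := by group
  have h1 : h = 1 := K_conj_inj hS hs hh one_mem_K hhs
  rw [h1] at hu
  calc d * t = d * t * d⁻¹ * d := by group
    _ = t * d := by rw [hu]; group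

end

theorem result {G Ω : Type*} [Group G] [Finite G] [MulAction G Ω] {a : Ω} {t : G} {Q : Subgroup G}
    (hS : Cfsg.IsRankOneSetup G Ω a t Q) :
    (∀ s r : G, s ∈ Cfsg.involutionsIn (MulAction.stabilizer G a : Set G) → r ∈ Q → t * s * t = r⁻¹ * t * r →
        (MulAction.stabilizer G a ⊓ MulAction.stabilizer G (t • a)) ⊓ Subgroup.centralizer {t} = (MulAction.stabilizer G a ⊓ MulAction.stabilizer G (t • a)) ⊓ Subgroup.centralizer {s}) ∧
      (MulAction.stabilizer G a ⊓ MulAction.stabilizer G (t • a)) ⊓ Subgroup.centralizer {t} ⊓ Subgroup.centralizer (Cfsg.invertedBy (MulAction.stabilizer G a ⊓ MulAction.stabilizer G (t • a)) t) =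
        (MulAction.stabilizer G a ⊓ MulAction.stabilizer G (t • a)) ⊓ Subgroup.centralizer (Cfsg.involutionsIn (MulAction.stabilizer G a : Set G)) := by
  have hcs : ∀ (x g : G), g ∈ Subgroup.centralizer {x} ↔ g * x = x * g := by
    intro x g
    rw [Subgroup.mem_centralizer_iff]
    constructor
    · intro h; exact (h x rfl).symm
    · intro h y hy
      rw [Set.mem_singleton_iff] at hy
      rw [hy, h]
  refine ⟨?_, ?_⟩
  · intro s r hs hr hrel
    ext d
    simp only [Subgroup.mem_inf, hcs]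
    constructor
    · rintro ⟨hd, hdt⟩
      exact ⟨hd, cent_t_le hS hs hr hrel (Subgroup.mem_inf.2 hd) hdt⟩
    · rintro ⟨hd, hds⟩
      exact ⟨hd, cent_s_le hS hs hr hrel (Subgroup.mem_inf.2 hd) hds⟩
  · obtain ⟨⟨s, r⟩, ⟨hs, hr, hrel⟩, -⟩ := Cfsg.Agent.S1123.result hS
    simp only at hs hr hrel
    ext d
    simp only [Subgroup.mem_inf, hcs]
    constructor
    · rintro ⟨⟨hd, hdt⟩, hdK⟩
      refine ⟨hd, ?_⟩
      rw [Subgroup.mem_centralizer_iff]
      intro s' hs'
      obtain ⟨k, hk, hks⟩ := exists_K_conj hS hs hs'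
      have h1 : d * s = s * d := cent_t_le hS hs hr hrel (Subgroup.mem_inf.2 hd) hdt
      have h2 : k * d = d * k := (Subgroup.mem_centralizer_iff.1 hdK) k hk
      have h3 : k⁻¹ * d = d * k⁻¹ := by
        calc k⁻¹ * d = k⁻¹ * (d * k) * k⁻¹ := by group
          _ = k⁻¹ * (k * d) * k⁻¹ := by rw [h2]
          _ = d * k⁻¹ := by group
      rw [← hks]
      calc k⁻¹ * s * k * d = k⁻¹ * s * (k * d) := by group
        _ = k⁻¹ * s * (d * k) := by rw [h2]
        _ = k⁻¹ * (s * d) * k := by group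
        _ = k⁻¹ * (d * s) * k := by rw [h1]
        _ = (k⁻¹ * d) * s * k := by group
        _ = d * (k⁻¹ * s * k) := by rw [h3]; group
    · rintro ⟨hd, hdI⟩
      have hdI' := Subgroup.mem_centralizer_iff.1 hdI
      have h1 : d * s = s * d := (hdI' s hs).symm
      have hdt : d * t = t * d := cent_s_le hS hs hr hrel (Subgroup.mem_inf.2 hd) h1
      refine ⟨⟨hd, hdt⟩, ?_⟩
      rw [Subgroup.mem_centralizer_iff]
      intro k hk
      -- k' = d k d⁻¹ ∈ K and conjugates s to the same involution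
      have hdD : d ∈ DD G a t := Subgroup.mem_inf.2 hd
      have hk' : d * k * d⁻¹ ∈ KK G a t := by
        refine ⟨(DD G a t).mul_mem ((DD G a t).mul_mem hdD hk.1) ((DD G a t).inv_mem hdD), ?_⟩
        have hdt' : t * d = d * t := hdt.symm
        have hdt'' : d⁻¹ * t⁻¹ = t⁻¹ * d⁻¹ := by
          rw [← mul_inv_rev, ← mul_inv_rev, hdt]
        calc t * (d * k * d⁻¹) * t⁻¹ = (t * d) * k * (d⁻¹ * t⁻¹) := by group
          _ = (d * t) * k * (t⁻¹ * d⁻¹) := by rw [hdt', hdt'']
          _ = d * (t * k * t⁻¹) * d⁻¹ := by group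
          _ = d * k⁻¹ * d⁻¹ := by rw [hk.2]
          _ = (d * k * d⁻¹)⁻¹ := by group
      have hks : k⁻¹ * s * k ∈ Cfsg.involutionsIn (stabilizer G a : Set G) := by
        have := conj_mem_invol (d := k⁻¹) ((stabilizer G a).inv_mem hk.1.1) hs
        rwa [inv_inv] at this
      have h2 : d * (k⁻¹ * s * k) = (k⁻¹ * s * k) * d := (hdI' _ hks).symm
      have h3 : (d * k * d⁻¹)⁻¹ * s * (d * k * d⁻¹) = k⁻¹ * s * k := by
        calc (d * k * d⁻¹)⁻¹ * s * (d * k * d⁻¹) = d * k⁻¹ * (d⁻¹ * (s * d)) * k * d⁻¹ := by group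
          _ = d * k⁻¹ * (d⁻¹ * (d * s)) * k * d⁻¹ := by rw [h1]
          _ = (d * (k⁻¹ * s * k)) * d⁻¹ := by group
          _ = ((k⁻¹ * s * k) * d) * d⁻¹ := by rw [h2]
          _ = k⁻¹ * s * k := by group
      have h4 : d * k * d⁻¹ = k := K_conj_inj hS hs hk' hk h3
      calc k * d = (d * k * d⁻¹) * d := by rw [h4]
        _ = d * k := by group

end Cfsg.Agent.S1127
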