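import Cfsg.Statements.S1134
import Mathlib
import Cfsg.Agent.H9.RankOne2
import Cfsg.Agent.S1125

set_option autoImplicit false
open scoped Pointwise
open Cfsg

namespace Cfsg.Agent.S1134

open Cfsg.Agent.H9.RankOne MulAction

/-- Elementwise version, without faithfulness or the 2-rank hypothesis. -/
theorem elementwise {G Ω : Type*} [Group G] [Finite G] [MulAction G Ω] {a : Ω} {t : G} {Q : Subgroup G}
    (hS : Cfsg.IsRankOneSetup G Ω a t Q)
    (X : Set G) (hXD : ∀ x ∈ X, x ∈ DD G a t) (hXt : ∀ x ∈ X, x * t = t * x) (g : G)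
    (hYD : ∀ x ∈ X, g * x * g⁻¹ ∈ DD G a t) (hYt : ∀ x ∈ X, (g * x * g⁻¹) * t = t * (g * x * g⁻¹)) :
    ∃ v ∈ DD G a t, v * t = t * v ∧ ∀ x ∈ X, v * x * v⁻¹ = g * x * g⁻¹ := by
  obtain ⟨c, hc, hcu⟩ := invol_unique_fixed hS hS.ne_one hS.mul_self
  have hca : c ≠ a := by
    rintro rfl
    exact hS.not_mem hc
  have hcb : c ≠ t • a := by
    intro h
    have h1 : t • c = t • t • a := by rw [← h]
    rw [hc, t_smul_t_smul hS] at h1
    exact hca h1
  -- elements commuting with t fix c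
  have hfixc : ∀ y : G, y * t = t * y → y • c = c := by
    intro y hy
    apply hcu
    show t • y • c = y • c
    rw [smul_smul, ← hy, mul_smul, hc]
  have hX : X ⊆ ((stabilizer G a ⊓ stabilizer G (t • a) : Subgroup G) : Set G) := fun x hx => hXD x hx
  have h3 : ∃ b c d : Ω, b ≠ c ∧ b ≠ d ∧ c ≠ d ∧ ∀ x ∈ X, x • b = b ∧ x • c = c ∧ x • d = d :=
    ⟨a, t • a, c, (tsmul_ne hS).symm, hca.symm, hcb.symm,
      fun x hx => ⟨(hXD x hx).1, (hXD x hx).2, hfixc x (hXt x hx)⟩⟩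
  -- g⁻¹ a and g⁻¹ (t a) are fixed by X
  have hFa : ∀ x ∈ X, x • a = a := fun x hx => (hXD x hx).1
  have hFb : ∀ x ∈ X, x • t • a = t • a := fun x hx => (hXD x hx).2
  have hga : ∀ x ∈ X, x • g⁻¹ • a = g⁻¹ • a := by
    intro x hx
    have h1 : (g * x * g⁻¹) • a = a := (hYD x hx).1
    rw [mul_smul, mul_smul] at h1
    have h2 : g⁻¹ • (g • x • g⁻¹ • a) = g⁻¹ • a := by rw [h1]
    rwa [inv_smul_smul] at h2
  have hgb : ∀ x ∈ X, x • g⁻¹ • t • a = g⁻¹ • t • a := by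
    intro x hx
    have h1 : (g * x * g⁻¹) • t • a = t • a := (hYD x hx).2
    rw [mul_smul, mul_smul] at h1
    have h2 : g⁻¹ • (g • x • g⁻¹ • t • a) = g⁻¹ • t • a := by rw [h1]
    rwa [inv_smul_smul] at h2
  have hne : g⁻¹ • a ≠ g⁻¹ • t • a := by
    intro h
    exact tsmul_ne hS ((smul_left_cancel _ h).symm)
  obtain ⟨h, hhC, hha, hhb⟩ := Cfsg.Agent.S1125.two_trans hS hX h3 hFa hFb hga hgb
    (tsmul_ne hS).symm hne
  -- g h ∈ D and conjugates X like g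
  have hghD : g * h ∈ DD G a t := by
    refine ⟨?_, ?_⟩
    · show (g * h) • a = a
      rw [mul_smul, hha, smul_inv_smul]
    · show (g * h) • t • a = t • a
      rw [mul_smul, hhb, smul_inv_smul]
  have hghX : ∀ x ∈ X, (g * h) * x * (g * h)⁻¹ = g * x * g⁻¹ := by
    intro x hx
    have := (Subgroup.mem_centralizer_iff.1 hhC) x hx
    calc (g * h) * x * (g * h)⁻¹ = g * (h * x) * h⁻¹ * g⁻¹ := by group
      _ = g * (x * h) * h⁻¹ * g⁻¹ := by rw [this]
      _ = g * x * g⁻¹ := by group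
  -- t' = (g h) t (g h)⁻¹ is an involution swapping a and t a, commuting with Y
  obtain ⟨g', hg'⟩ : ∃ g', g' = g * h := ⟨_, rfl⟩
  rw [← hg'] at hghD hghX
  have hg'a : g' • a = a := hghD.1
  have hg'b : g' • t • a = t • a := hghD.2
  have hg'ia : g'⁻¹ • a = a := by rw [inv_smul_eq_iff, hg'a]
  have huu : (g' * t * g'⁻¹) * (g' * t * g'⁻¹) = 1 := by
    calc (g' * t * g'⁻¹) * (g' * t * g'⁻¹) = g' * (t * t) * g'⁻¹ := by group
      _ = 1 := by rw [hS.mul_self]; group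
  have hua : (g' * t * g'⁻¹) • a = t • a := by
    rw [mul_smul, mul_smul, hg'ia, hg'b]
  have hk := mem_K_of_swap hS huu hua
  obtain ⟨m, hm⟩ := hS.odd_card
  -- square root of k as a power
  obtain ⟨k, hkdef⟩ : ∃ k, k = t * (g' * t * g'⁻¹) := ⟨_, rfl⟩
  rw [← hkdef] at hk
  have hk1 : k ^ (2 * m + 1) = 1 := by
    have h := pow_card_eq_one' (G := DD G a t) (x := ⟨k, hk.1⟩)
    have h2 := congrArg (Subtype.val) h
    rw [Subgroup.coe_pow, Subgroup.coe_one, hm] at h2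
    exact h2
  have hroot : k ^ (m + 1) * k ^ (m + 1) = k := by
    rw [← pow_add]
    calc k ^ (m + 1 + (m + 1)) = k ^ (2 * m + 1) * k := by rw [← pow_succ]; congr 1; ring
      _ = k := by rw [hk1, one_mul]
  have hrK : k ^ (m + 1) ∈ KK G a t := K_pow hk _
  have hconj : g' * t * g'⁻¹ = (k ^ (m + 1))⁻¹ * t * k ^ (m + 1) := by
    rw [← tk_eq_conj hS hrK, hroot, hkdef, ← mul_assoc, hS.mul_self, one_mul]
  -- k commutes with Y = g' X g'⁻¹
  have hkY : ∀ x ∈ X, Commute k (g' * x * g'⁻¹) := by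
    intro x hx
    have h1 : Commute t (g' * x * g'⁻¹) := by
      show t * (g' * x * g'⁻¹) = (g' * x * g'⁻¹) * t
      rw [hghX x hx]
      exact (hYt x hx).symm
    have h2 : Commute (g' * t * g'⁻¹) (g' * x * g'⁻¹) := by
      show (g' * t * g'⁻¹) * (g' * x * g'⁻¹) = (g' * x * g'⁻¹) * (g' * t * g'⁻¹)
      calc (g' * t * g'⁻¹) * (g' * x * g'⁻¹) = g' * (t * x) * g'⁻¹ := by group
        _ = g' * (x * t) * g'⁻¹ := by rw [hXt x hx]
        _ = _ := by group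
    rw [hkdef]
    exact h1.mul_left h2
  refine ⟨k ^ (m + 1) * g', (DD G a t).mul_mem hrK.1 hghD, ?_, ?_⟩
  · calc k ^ (m + 1) * g' * t = k ^ (m + 1) * (g' * t * g'⁻¹) * g' := by group
      _ = k ^ (m + 1) * ((k ^ (m + 1))⁻¹ * t * k ^ (m + 1)) * g' := by rw [hconj]
      _ = t * (k ^ (m + 1) * g') := by group
  · intro x hx
    have h1 : Commute (k ^ (m + 1)) (g' * x * g'⁻¹) := (hkY x hx).pow_left _
    calc k ^ (m + 1) * g' * x * (k ^ (m + 1) * g')⁻¹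
        = (k ^ (m + 1) * (g' * x * g'⁻¹)) * (k ^ (m + 1))⁻¹ := by group
      _ = ((g' * x * g'⁻¹) * k ^ (m + 1)) * (k ^ (m + 1))⁻¹ := by rw [h1.eq]
      _ = g' * x * g'⁻¹ := by group
      _ = g * x * g⁻¹ := hghX x hx

theorem result {G Ω : Type*} [Group G] [Finite G] [MulAction G Ω] [FaithfulSMul G Ω] {a : Ω} {t : G} {Q : Subgroup G}
    (hS : Cfsg.IsRankOneSetup G Ω a t Q)
    (h2 : ∃ x y : G, x ≠ 1 ∧ y ≠ 1 ∧ x ≠ y ∧ x * x = 1 ∧ y * y = 1 ∧ x * y = y * x)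
    (X : Set G) (hX : X ⊆ (((MulAction.stabilizer G a ⊓ MulAction.stabilizer G (t • a)) ⊓ Subgroup.centralizer {t} : Subgroup G) : Set G)) (g : G)
    (hY : (fun x => g * x * g⁻¹) '' X ⊆ (((MulAction.stabilizer G a ⊓ MulAction.stabilizer G (t • a)) ⊓ Subgroup.centralizer {t} : Subgroup G) : Set G)) :
    ∃ v ∈ (MulAction.stabilizer G a ⊓ MulAction.stabilizer G (t • a)) ⊓ Subgroup.centralizer {t}, (fun x => v * x * v⁻¹) '' X = (fun x => g * x * g⁻¹) '' X := by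
  have hcs : ∀ (y : G), y ∈ Subgroup.centralizer {t} ↔ y * t = t * y := by
    intro y
    rw [Subgroup.mem_centralizer_iff]
    constructor
    · intro h; exact (h t rfl).symm
    · intro h z hz
      rw [Set.mem_singleton_iff] at hz
      rw [hz, h]
  have hXD : ∀ x ∈ X, x ∈ DD G a t := fun x hx => (hX hx).1
  have hXt : ∀ x ∈ X, x * t = t * x := fun x hx => (hcs x).1 (hX hx).2
  have hYD : ∀ x ∈ X, g * x * g⁻¹ ∈ DD G a t := fun x hx => (hY ⟨x, hx, rfl⟩).1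
  have hYt : ∀ x ∈ X, (g * x * g⁻¹) * t = t * (g * x * g⁻¹) :=
    fun x hx => (hcs _).1 (hY ⟨x, hx, rfl⟩).2
  obtain ⟨v, hvD, hvt, hvX⟩ := elementwise hS X hXD hXt g hYD hYt
  refine ⟨v, ⟨hvD, (hcs v).2 hvt⟩, ?_⟩
  apply Set.image_congr
  intro x hx
  exact hvX x hx

end Cfsg.Agent.S1134
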