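import Cfsg.Statements.S1137
import Cfsg.Agent.Lib.Helper7.Suz2E

set_option autoImplicit false
open Cfsg

namespace Cfsg.Agent.S1137

/-- In a Suzuki 2-group `P` (a finite non-abelian 2-group with more than one involution admitting a cyclic group of automorphisms regular on its involutions) the involutions are exactly the non-identity central elements, and `Z(P)` is elementary abelian. -/
theorem result {P : Type*} [Group P] (hP : Cfsg.IsSuzukiTwoGroup P) :
    (∀ x : P, (x ≠ 1 ∧ x * x = 1) ↔ (x ∈ Subgroup.center P ∧ x ≠ 1)) ∧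
      ∀ z ∈ Subgroup.center P, z * z = 1 := by
  obtain ⟨hfin, h2g, hna, h2, K, hcyc, hreg⟩ := hP
  haveI := hfin
  letI : CommGroup ↥K := hcyc.commGroup
  exact Cfsg.Agent.Lib.Helper7.Suz2.main h2g hna h2 K.subtype
    (fun x y hx1 hx2 hy1 hy2 => hreg x y hx1 hx2 hy1 hy2)

end Cfsg.Agent.S1137
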