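import Cfsg.Statements.S1139
import Cfsg.Agent.S1137
import Cfsg.Agent.Lib.Helper5.SuzA.Coord
import Cfsg.Agent.Lib.Helper5.SuzA.QuadAut
import Cfsg.Agent.Lib.Helper5.SuzA.TypeA
import Cfsg.Agent.Lib.Helper5.SuzA.OddOrder

set_option autoImplicit false
open Cfsg

namespace Cfsg.Agent.S1139

/-- A Suzuki 2-group `P` with `|P| = |Z(P)|²` is of type A: for some finite field `F` with `|F| = |Z(P)|` and some field automorphism `φ ≠ 1` of odd order, `P` is isomorphic to the group of lower unitriangular matrices with rows `(1,0,0)`, `(x,1,0)`, `(y, φ x, 1)`. -/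
theorem result {P : Type*} [Group P] (hP : Cfsg.IsSuzukiTwoGroup P)
    (hcard : Nat.card P = Nat.card (Subgroup.center P) ^ 2) :
    ∃ (F : Type) (_ : Field F) (_ : Fintype F) (φ : F ≃+* F), Fintype.card F = Nat.card (Subgroup.center P) ∧
      φ ≠ RingEquiv.refl F ∧ Odd (orderOf φ) ∧ Nonempty (P ≃* Cfsg.suzukiTypeA F (φ : F →+* F)) := by
  classical
  have h1137 := Cfsg.Agent.S1137.result hP
  obtain ⟨hfin, h2g, hna, h2, K, hcyc, hreg⟩ := hP
  haveI := hfin
  letI : CommGroup ↥K := hcyc.commGroup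
  obtain ⟨x₀, y₀, hne, hx1, hx2, hy1, hy2⟩ := h2
  have H : Cfsg.Agent.Lib.Helper5.SuzA.Hyp (K.subtype) :=
    { h2g := h2g
      hReg := fun x y hx1 hx2 hy1 hy2 => hreg x y hx1 hx2 hy1 hy2
      hinv := h1137.1
      hZ2 := h1137.2
      hcard := hcard
      hna := hna
      hinv2 := ⟨x₀, hx1, hx2⟩ }
  obtain ⟨n, α, ζ, Q, hn0, hn, hαmul, hα0, hαsurj, hζadd, hζinj, hQ, hQmul, hQ0, hQone, hbi, hne'⟩ :=
    H.exists_coordinates
  letI : Fintype (GaloisField 2 n) := Fintype.ofFinite _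
  obtain ⟨σ, τ, hστ, hQστ⟩ := Cfsg.Agent.Lib.Helper5.SuzA.exists_auts_of_quadratic Q hQmul hbi hne'
  have hcF : Nat.card (GaloisField 2 n) = Nat.card (Subgroup.center P) := by
    rw [GaloisField.card 2 n hn0, hn]
  have hφ : ∀ a, (σ.symm.trans τ) (σ a) = τ a := fun a => by
    rw [RingEquiv.trans_apply, RingEquiv.symm_apply_apply]
  refine ⟨GaloisField 2 n, inferInstance, inferInstance, σ.symm.trans τ, ?_, ?_, ?_, ?_⟩
  · rw [← Nat.card_eq_fintype_card, hcF]
  · intro h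
    apply hστ
    ext a
    have := hφ a
    rw [h] at this
    exact this
  · apply Cfsg.Agent.Lib.Helper5.SuzA.odd_orderOf_of_norm_inj
    intro c hc
    have h1 : c = σ (σ.symm c) := (RingEquiv.apply_symm_apply σ c).symm
    rw [h1, hφ, ← hQστ] at hc
    have := hQone _ hc
    rw [h1, this, map_one]
  · have h2' : (2 : GaloisField 2 n) = 0 := CharTwo.two_eq_zero
    refine Cfsg.Agent.Lib.Helper5.SuzA.exists_iso_typeA h2' ((σ.symm.trans τ : GaloisField 2 n ≃+* GaloisField 2 n) : GaloisField 2 n →+* GaloisField 2 n)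
      (fun x => σ (α x)) ζ ?_ ?_ hζadd hζinj ?_ ?_
    · intro x y
      show σ (α (x * y)) = σ (α x) + σ (α y)
      rw [hαmul, map_add]
    · intro x
      show σ (α x) = 0 ↔ _
      rw [map_eq_zero_iff σ σ.injective, hα0]
    · intro x
      show ζ (x * x) = σ (α x) * (σ.symm.trans τ) (σ (α x))
      rw [hφ, hQ, hQστ]
    · rw [hcard, hcF]

end Cfsg.Agent.S1139
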