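import Cfsg.Statements.S1154
import Cfsg.Agent.Lib.Lead.ReeCube

set_option autoImplicit false
open Cfsg

namespace Cfsg.Agent.S1154

open Cfsg.Lie Cfsg.Agent.Lib.Helper5.Chev Cfsg.Agent.Lib.Helper5.GA Cfsg.Agent.Lib.Helper5.Tw
open Cfsg.Agent.Lib.Helper5.Ree Cfsg.Agent.ReeL

/-- In the small Ree group ²G₂(q), q = 3^(2m+1) with m ≥ 1, realised as G¹ inside the Chevalley group G₂ over the field with q elements (θ the 3^m-th power map), with `U¹ = G¹ ∩ U` (U the positive unipotent subgroup of the ambient G₂): `U¹` has exactly `q² - 1` elements of order 3. -/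
theorem result {K : Type*} [Field K] [Fintype K] {m : ℕ} (hm : 1 ≤ m) (hK : Fintype.card K = 3 ^ (2 * m + 1)) :
    Nat.card {u : ↥(Cfsg.Lie.chevG2.posUnipotent K ⊓ Cfsg.Lie.twistedG2 K (3 ^ m)) // orderOf u = 3} = (3 ^ (2 * m + 1)) ^ 2 - 1 := by
  classical
  have : CharP K 3 := charP3 hK
  let f : K × K × K → ↥(chevG2.posUnipotent K ⊓ twistedG2 K (3 ^ m)) := fun p =>
    ⟨(hadd2 K).wordU (reeWordU (3 ^ m) p.1 p.2.1 p.2.2),
      (pos_twisted_iff hK _).2 ⟨p.1, p.2.1, p.2.2, rfl⟩⟩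
  have hbij : Function.Bijective f := by
    constructor
    · rintro ⟨t, u, v⟩ ⟨t', u', v'⟩ h
      have h' : (hadd2 K).wordU (reeWordU (3 ^ m) t u v)
          = (hadd2 K).wordU (reeWordU (3 ^ m) t' u' v') := congrArg Subtype.val h
      rw [← posSide_rw, ← posSide_rw] at h'
      unfold Side.rw at h'
      obtain ⟨-, e6, -, -, e10, e11⟩ := w6_injective _ _ _ _ _ _ _ _ _ _ _ _ h'
      rw [e6, e10, e11]
    · rintro ⟨g, hg⟩
      obtain ⟨t, u, v, rfl⟩ := (pos_twisted_iff hK g).1 hg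
      exact ⟨(t, u, v), rfl⟩
  have hord : ∀ p : K × K × K, orderOf (f p) = 3 ↔ p.1 = 0 ∧ ¬ (p.2.1 = 0 ∧ p.2.2 = 0) := by
    intro p
    rw [← Subgroup.orderOf_coe]
    show orderOf ((hadd2 K).wordU (reeWordU (3 ^ m) p.1 p.2.1 p.2.2)) = 3 ↔ _
    rw [← posSide_rw]
    exact orderOf_rw_eq_three_iff _ _ _
  -- transport along `f`
  let e1 : {p : K × K × K // p.1 = 0 ∧ ¬ (p.2.1 = 0 ∧ p.2.2 = 0)} ≃
      {u : ↥(chevG2.posUnipotent K ⊓ twistedG2 K (3 ^ m)) // orderOf u = 3} :=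
    (Equiv.ofBijective f hbij).subtypeEquiv (fun p => (hord p).symm)
  let e2 : {p : K × K × K // p.1 = 0 ∧ ¬ (p.2.1 = 0 ∧ p.2.2 = 0)} ≃ {r : K × K // r ≠ 0} :=
    { toFun := fun p => ⟨p.1.2, fun h => p.2.2 ⟨congrArg Prod.fst h, congrArg Prod.snd h⟩⟩
      invFun := fun r => ⟨(0, r.1), rfl, fun h => r.2 (Prod.ext h.1 h.2)⟩
      left_inv := by
        rintro ⟨⟨t, u, v⟩, ht, huv⟩
        simp only at ht
        subst ht
        rfl
      right_inv := by
        rintro ⟨⟨u, v⟩, h⟩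
        rfl }
  rw [← Nat.card_congr e1, Nat.card_congr e2, Nat.card_eq_fintype_card,
    Fintype.card_subtype_compl, Fintype.card_subtype_eq, Fintype.card_prod, hK]
  ring_nf

end Cfsg.Agent.S1154
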