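import Cfsg.Statements.S1163
import Cfsg.Agent.Lib.Helper5.SuzukiBridge
import Cfsg.Agent.Lib.Helper5.SuzukiMax
import Mathlib

set_option autoImplicit false
open Cfsg

namespace Cfsg.Agent.S1163

open Cfsg.Agent.S0335 Cfsg.Agent.Lib.Helper5.Suzuki Cfsg.Agent.Lib.Helper5.SuzukiBridge

/-- the normaliser of the Sylow subgroup is the point stabiliser -/
theorem normalizer_eq {G Ω : Type*} [Group G] [MulAction G Ω] (a : Ω) (S : Subgroup G)
    (hSa : ∀ s ∈ S, s • a = a)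
    (hnorm : ∀ g : G, g • a = a → ∀ s ∈ S, g * s * g⁻¹ ∈ S)
    (hsharp : ∀ x y : Ω, x ≠ a → y ≠ a → ∃! s : ↥S, (s : G) • x = y)
    (h3 : ∃ x y : Ω, x ≠ a ∧ y ≠ a ∧ x ≠ y) :
    Subgroup.normalizer (S : Set G) = MulAction.stabilizer G a := by
  ext g
  rw [Subgroup.mem_normalizer_iff, MulAction.mem_stabilizer_iff]
  constructor
  · intro hg
    by_contra hne
    obtain ⟨x, y, hx, hy, hxy⟩ := h3
    have hfix : ∀ s ∈ S, s • (g • a) = g • a := by
      intro s hs
      have h1 : g⁻¹ * s * g ∈ S := by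
        rw [hg (g⁻¹ * s * g)]
        have : g * (g⁻¹ * s * g) * g⁻¹ = s := by group
        rw [this]
        exact hs
      have := hSa _ h1
      rw [mul_smul, mul_smul, inv_smul_eq_iff] at this
      exact this
    obtain ⟨z, hz, hzne⟩ : ∃ z : Ω, z ≠ a ∧ z ≠ g • a := by
      by_cases h : x = g • a
      · exact ⟨y, hy, fun h' => hxy (h.trans h'.symm)⟩
      · exact ⟨x, hx, h⟩
    obtain ⟨s, hs, -⟩ := hsharp (g • a) z hne hz
    apply hzne
    rw [← hs]
    exact hfix s s.2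
  · intro hg s
    constructor
    · intro hs
      exact hnorm g hg s hs
    · intro hs
      have hg' : g⁻¹ • a = a := by rw [inv_smul_eq_iff, hg]
      have := hnorm g⁻¹ hg' _ hs
      have e : g⁻¹ * (g * s * g⁻¹) * g⁻¹⁻¹ = s := by group
      rw [e] at this
      exact this

theorem abstract_result {G Ω : Type*} [Group G] [Finite G] [MulAction G Ω] [Finite Ω] (a : Ω)
    (S : Subgroup G) (N n : ℕ) (hG : Nat.card G = N * n) (hΩ : Nat.card Ω = n)
    (h2 : MulAction.IsMultiplyPretransitive G Ω 2)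
    (hSa : ∀ s ∈ S, s • a = a)
    (hnorm : ∀ g : G, g • a = a → ∀ s ∈ S, g * s * g⁻¹ ∈ S)
    (hsharp : ∀ x y : Ω, x ≠ a → y ≠ a → ∃! s : ↥S, (s : G) • x = y)
    (h3 : ∃ x y : Ω, x ≠ a ∧ y ≠ a ∧ x ≠ y) :
    Nat.card (Subgroup.normalizer (S : Set G)) = N ∧
    (Subgroup.normalizer (S : Set G)).index = n ∧
    MulAction.IsMultiplyPretransitive G (G ⧸ Subgroup.normalizer (S : Set G)) 2 ∧
    ∀ x y : G ⧸ Subgroup.normalizer (S : Set G), x ≠ (QuotientGroup.mk 1) →
      y ≠ (QuotientGroup.mk 1) → ∃! s : ↥S, (s : G) • x = y := by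
  rw [normalizer_eq a S hSa hnorm hsharp h3]
  have : MulAction.IsPretransitive G Ω := MulAction.isPretransitive_of_is_two_pretransitive
  have hn : 0 < n := by
    rw [← hΩ]
    have : Nonempty Ω := ⟨a⟩
    exact Nat.card_pos
  have hidx : (MulAction.stabilizer G a).index = n := by
    rw [MulAction.index_stabilizer, MulAction.orbit_eq_univ, Set.ncard_univ, hΩ]
  have hcard : Nat.card (MulAction.stabilizer G a) = N := by
    have := Subgroup.card_mul_index (MulAction.stabilizer G a)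
    rw [hidx, hG] at this
    exact Nat.eq_of_mul_eq_mul_right hn this
  -- the equivariant bijection
  have hinj := MulAction.injective_ofQuotientStabilizer G a
  have hφmk : ∀ g : G, MulAction.ofQuotientStabilizer G a (QuotientGroup.mk g) = g • a :=
    fun g => MulAction.ofQuotientStabilizer_mk G a g
  have hφsmul : ∀ (g : G) (q : G ⧸ MulAction.stabilizer G a),
      MulAction.ofQuotientStabilizer G a (g • q) = g • MulAction.ofQuotientStabilizer G a q :=
    fun g q => MulAction.ofQuotientStabilizer_smul G a g q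
  refine ⟨hcard, hidx, ?_, ?_⟩
  · rw [MulAction.is_two_pretransitive_iff] at h2 ⊢
    intro p q r s hpq hrs
    obtain ⟨g, hg1, hg2⟩ := h2 (hinj.ne hpq) (hinj.ne hrs)
    refine ⟨g, hinj ?_, hinj ?_⟩
    · rw [hφsmul, hg1]
    · rw [hφsmul, hg2]
  · intro x y hx hy
    have hx' : MulAction.ofQuotientStabilizer G a x ≠ a := by
      intro h
      apply hx
      apply hinj
      rw [h, hφmk, one_smul]
    have hy' : MulAction.ofQuotientStabilizer G a y ≠ a := by
      intro h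
      apply hy
      apply hinj
      rw [h, hφmk, one_smul]
    obtain ⟨s, hs, hsu⟩ := hsharp _ _ hx' hy'
    refine ⟨s, hinj ?_, ?_⟩
    · rw [hφsmul, hs]
    · intro s' hs'
      apply hsu
      rw [← hφsmul, hs']

/-- For the Suzuki group Sz(q), q = 2^(2m+1) ≥ 8, realised as the elements g of Sp₄(F) with g* = g^θ (θ the 2^(m+1)-th power map, so that θ² is squaring): `|Sz(q)| = q² (q - 1) (q² + 1)`, and there is a Sylow 2-subgroup `S` whose normaliser `H` has order `q²(q-1)` and index `q² + 1`, the action of `Sz(q)` on the cosets of `H` is doubly transitive, and `S` acts regularly on the cosets other than `H` itself. -/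
theorem result {F : Type*} [Field F] [Fintype F] {m : ℕ} (hm : 1 ≤ m) (hF : Fintype.card F = 2 ^ (2 * m + 1)) :
    Nat.card ↥(Cfsg.Lie.Sz F (2 ^ (m + 1))) = (2 ^ (2 * m + 1)) ^ 2 * (2 ^ (2 * m + 1) - 1) * ((2 ^ (2 * m + 1)) ^ 2 + 1) ∧
    ∃ S : Sylow 2 ↥(Cfsg.Lie.Sz F (2 ^ (m + 1))),
      Nat.card (Subgroup.normalizer ((S : Subgroup ↥(Cfsg.Lie.Sz F (2 ^ (m + 1)))) : Set ↥(Cfsg.Lie.Sz F (2 ^ (m + 1))))) = (2 ^ (2 * m + 1)) ^ 2 * (2 ^ (2 * m + 1) - 1) ∧
      (Subgroup.normalizer ((S : Subgroup ↥(Cfsg.Lie.Sz F (2 ^ (m + 1)))) : Set ↥(Cfsg.Lie.Sz F (2 ^ (m + 1))))).index = (2 ^ (2 * m + 1)) ^ 2 + 1 ∧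
      MulAction.IsMultiplyPretransitive ↥(Cfsg.Lie.Sz F (2 ^ (m + 1))) (↥(Cfsg.Lie.Sz F (2 ^ (m + 1))) ⧸ Subgroup.normalizer ((S : Subgroup ↥(Cfsg.Lie.Sz F (2 ^ (m + 1)))) : Set ↥(Cfsg.Lie.Sz F (2 ^ (m + 1))))) 2 ∧
      ∀ x y : ↥(Cfsg.Lie.Sz F (2 ^ (m + 1))) ⧸ Subgroup.normalizer ((S : Subgroup ↥(Cfsg.Lie.Sz F (2 ^ (m + 1)))) : Set ↥(Cfsg.Lie.Sz F (2 ^ (m + 1)))),
        x ≠ (QuotientGroup.mk 1) → y ≠ (QuotientGroup.mk 1) → ∃! s : ↥(S : Subgroup ↥(Cfsg.Lie.Sz F (2 ^ (m + 1)))), (s : ↥(Cfsg.Lie.Sz F (2 ^ (m + 1)))) • x = y := by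
  have : CharP F 2 := charP_of_card hF
  have : Fact (Nat.Prime 2) := ⟨Nat.prime_two⟩
  let e := lieSzEquiv hm hF
  letI : MulAction ↥(Cfsg.Lie.Sz F (2 ^ (m + 1))) (suzukiOvoid F m) :=
    MulAction.compHom _ e.toMonoidHom
  have hsmul : ∀ (g : ↥(Cfsg.Lie.Sz F (2 ^ (m + 1)))) (ω : suzukiOvoid F m), g • ω = e g • ω :=
    fun _ _ => rfl
  obtain ⟨Q, hQ⟩ := sylow_eq_uSub m hF hm
  obtain ⟨S, hScoe⟩ : ∃ S : Sylow 2 ↥(Cfsg.Lie.Sz F (2 ^ (m + 1))),
      (S : Subgroup ↥(Cfsg.Lie.Sz F (2 ^ (m + 1)))) = (Q : Subgroup _).comap e.toMonoidHom :=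
    ⟨Q.comapOfInjective e.toMonoidHom e.injective (by
      rw [MonoidHom.range_eq_top.2 e.surjective]
      exact le_top), Sylow.coe_comapOfInjective _ _ _ _⟩
  have hS : ∀ s, s ∈ (S : Subgroup ↥(Cfsg.Lie.Sz F (2 ^ (m + 1)))) ↔ ∃ a b, e s = tT m hF a b := by
    intro s
    rw [hScoe, Subgroup.mem_comap, hQ, mem_uSub]
    rfl
  refine ⟨?_, S, ?_⟩
  · rw [Nat.card_congr e.toEquiv, card_Sz m hF hm]
    ring
  · refine abstract_result (oinf m : suzukiOvoid F m) (S : Subgroup ↥(Cfsg.Lie.Sz F (2 ^ (m + 1)))) _ _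
      ?_ ?_ ?_ ?_ ?_ ?_ ?_
    · rw [Nat.card_congr e.toEquiv, card_Sz m hF hm]
      ring
    · rw [Cfsg.Agent.S0326.result, hF]
    · rw [MulAction.is_two_pretransitive_iff]
      intro a b c d hab hcd
      obtain ⟨g, hg1, hg2⟩ := (MulAction.is_two_pretransitive_iff.1 (two_transitive m hF)) hab hcd
      refine ⟨e.symm g, ?_, ?_⟩
      · rw [hsmul, MulEquiv.apply_symm_apply, hg1]
      · rw [hsmul, MulEquiv.apply_symm_apply, hg2]
    · intro s hs
      obtain ⟨a, b, h⟩ := (hS s).1 hs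
      rw [hsmul, h, tT_oinf]
    · intro g hg s hs
      rw [hS]
      obtain ⟨a, b, h⟩ := (hS s).1 hs
      rw [hsmul] at hg
      have := conj_mem_uSub m hF hm (e g) (congrArg Subtype.val hg) (e s) ⟨a, b, h⟩
      obtain ⟨a', b', h'⟩ := this
      exact ⟨a', b', by rw [map_mul, map_mul, map_inv, h']⟩
    · intro x y hx hy
      rcases omega_cases m x with rfl | ⟨x1, y1, rfl⟩
      · exact absurd rfl hx
      rcases omega_cases m y with rfl | ⟨x2, y2, rfl⟩
      · exact absurd rfl hy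
      have h2 := two_eq_zero' (F := F)
      refine ⟨⟨e.symm (tT m hF (x2 + x1) (y2 + y1 + sg m (x2 + x1) * x1)),
        (hS _).2 ⟨_, _, MulEquiv.apply_symm_apply _ _⟩⟩, ?_, ?_⟩
      · change e.symm _ • _ = _
        rw [hsmul, MulEquiv.apply_symm_apply, tT_opt]
        congr 1
        · linear_combination x1 * h2
        · linear_combination (y1 + sg m (x2 + x1) * x1) * h2
      · rintro ⟨s, hs⟩ hs'
        obtain ⟨a, b, h⟩ := (hS s).1 hs
        change s • _ = _ at hs'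
        rw [hsmul, h, tT_opt] at hs'
        obtain ⟨h1, h3⟩ := opt_inj m hs'
        apply Subtype.ext
        change s = e.symm _
        rw [MulEquiv.eq_symm_apply, h]
        congr 1
        · linear_combination h1 - x1 * h2
        · rw [← h1]
          have : x1 + a + x1 = a := by linear_combination x1 * h2
          rw [this]
          linear_combination h3 - (y1 + sg m a * x1) * h2
    · refine ⟨opt m 0 0, opt m 1 0, opt_ne_oinf m _ _, opt_ne_oinf m _ _, ?_⟩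
      intro h
      exact zero_ne_one (opt_inj m h).1

end Cfsg.Agent.S1163
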