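import Cfsg.Statements.S1165
import Mathlib
import Cfsg.Agent.H9.RankOne

set_option autoImplicit false
open scoped Pointwise
open Cfsg

namespace Cfsg.Agent.S1165

open Cfsg.Agent.H9.RankOne MulAction

section
variable {G Ω : Type*} [Group G] [MulAction G Ω] {a : Ω} {t : G} {Q : Subgroup G}

lemma canon_inv_smul (hS : Cfsg.IsRankOneSetup G Ω a t Q) {g h f : G} (hg : g ∈ Q)
    (hh : h ∈ DD G a t) : (g * h * t * f)⁻¹ • a = f⁻¹ • t • a := by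
  rw [inv_smul_eq_iff, mul_smul, mul_smul, mul_smul, smul_inv_smul, t_smul_t_smul hS]
  have h1 : h • a = a := hh.1
  rw [h1, Q_smul_a hS hg]

/-- Uniqueness of the canonical form `g h t f`. -/
lemma canon_unique (hS : Cfsg.IsRankOneSetup G Ω a t Q) {g h f g' h' f' : G} (hg : g ∈ Q)
    (hh : h ∈ DD G a t) (hf : f ∈ Q) (hg' : g' ∈ Q) (hh' : h' ∈ DD G a t) (hf' : f' ∈ Q)
    (e : g * h * t * f = g' * h' * t * f') : g = g' ∧ h = h' ∧ f = f' := by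
  have h1 : f⁻¹ • t • a = f'⁻¹ • t • a := by
    rw [← canon_inv_smul hS hg hh, ← canon_inv_smul hS hg' hh', e]
  have h2 : (f' * f⁻¹) • t • a = t • a := by
    rw [mul_smul, h1, smul_inv_smul]
  have h3 : f' * f⁻¹ = 1 := Q_free_b hS (Q.mul_mem hf' (Q.inv_mem hf)) h2
  have hff : f = f' := (mul_inv_eq_one.1 h3).symm
  subst hff
  have h4 : g * h = g' * h' := by
    calc g * h = g * h * t * f * f⁻¹ * t⁻¹ := by group
      _ = g' * h' * t * f * f⁻¹ * t⁻¹ := by rw [e]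
      _ = g' * h' := by group
  have h5 : g'⁻¹ * g = h' * h⁻¹ := by
    calc g'⁻¹ * g = g'⁻¹ * (g * h) * h⁻¹ := by group
      _ = h' * h⁻¹ := by rw [h4]; group
  have h6 : g'⁻¹ * g = 1 :=
    Q_inf_D hS (Q.mul_mem (Q.inv_mem hg') hg) (h5 ▸ (DD G a t).mul_mem hh' ((DD G a t).inv_mem hh))
  have hgg : g = g' := (inv_mul_eq_one.1 h6).symm
  subst hgg
  exact ⟨rfl, (mul_left_cancel h4), rfl⟩

lemma tDt (hS : Cfsg.IsRankOneSetup G Ω a t Q) {x : G} (hx : x ∈ DD G a t) :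
    t * x * t ∈ DD G a t := by
  have hxa : x • a = a := hx.1
  have hxb : x • t • a = t • a := hx.2
  refine ⟨?_, ?_⟩
  · show (t * x * t) • a = a
    rw [mul_smul, mul_smul, hxb, t_smul_t_smul hS]
  · show (t * x * t) • t • a = t • a
    rw [mul_smul, mul_smul, t_smul_t_smul hS, hxa]

end

theorem result {G Ω : Type*} [Group G] [Finite G] [MulAction G Ω] {a : Ω} {t : G} {Q : Subgroup G}
    (hS : Cfsg.IsRankOneSetup G Ω a t Q)
    (x g h f : G) (hx : x ∈ Q) (hx1 : x ≠ 1) (hg : g ∈ Q) (hh : h ∈ (MulAction.stabilizer G a ⊓ MulAction.stabilizer G (t • a))) (hf : f ∈ Q)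
    (heq : t * x * t = g * h * t * f) :
    (∀ g₁ h₁ f₁ : G, g₁ ∈ Q → h₁ ∈ (MulAction.stabilizer G a ⊓ MulAction.stabilizer G (t • a)) → f₁ ∈ Q → t * x⁻¹ * t = g₁ * h₁ * t * f₁ →
        f₁ = g⁻¹ ∧ h₁ = t * h⁻¹ * t) ∧
      (∀ g₂ h₂ f₂ : G, g₂ ∈ Q → h₂ ∈ (MulAction.stabilizer G a ⊓ MulAction.stabilizer G (t • a)) → f₂ ∈ Q → t * f * t = g₂ * h₂ * t * f₂ →
        f₂ = x ∧ h₂ = h⁻¹) ∧
      ∀ c ∈ (MulAction.stabilizer G a ⊓ MulAction.stabilizer G (t • a)), ∀ g₃ h₃ f₃ : G, g₃ ∈ Q → h₃ ∈ (MulAction.stabilizer G a ⊓ MulAction.stabilizer G (t • a)) → f₃ ∈ Q →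
        t * (c⁻¹ * x * c) * t = g₃ * h₃ * t * f₃ →
          f₃ = (t * c * t)⁻¹ * f * (t * c * t) ∧ h₃ = (t * c * t)⁻¹ * h * c := by
  have hti := t_inv hS
  have htt := hS.mul_self
  refine ⟨?_, ?_, ?_⟩
  · intro g₁ h₁ f₁ hg₁ hh₁ hf₁ e
    have e2 : t * x⁻¹ * t = f⁻¹ * (t * h⁻¹ * t) * t * g⁻¹ := by
      have : t * x⁻¹ * t = (t * x * t)⁻¹ := by
        rw [mul_inv_rev, mul_inv_rev, hti, mul_assoc]
      rw [this, heq, mul_inv_rev, mul_inv_rev, mul_inv_rev, hti]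
      calc f⁻¹ * (t * (h⁻¹ * g⁻¹)) = f⁻¹ * (t * h⁻¹ * (t * t) * g⁻¹) := by rw [htt]; group
        _ = f⁻¹ * (t * h⁻¹ * t) * t * g⁻¹ := by group
    have hD : t * h⁻¹ * t ∈ DD G a t := tDt hS ((DD G a t).inv_mem hh)
    obtain ⟨-, h2, h3⟩ := canon_unique hS hg₁ hh₁ hf₁ (Q.inv_mem hf) hD (Q.inv_mem hg) (e.symm.trans e2)
    exact ⟨h3, h2⟩
  · intro g₂ h₂ f₂ hg₂ hh₂ hf₂ e
    have e2 : t * f * t = (h⁻¹ * g⁻¹ * h) * h⁻¹ * t * x := by
      have h1 : t * f = h⁻¹ * g⁻¹ * (t * x * t) := by rw [heq]; group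
      calc t * f * t = h⁻¹ * g⁻¹ * (t * x * t) * t := by rw [h1]
        _ = h⁻¹ * g⁻¹ * t * x * (t * t) := by group
        _ = (h⁻¹ * g⁻¹ * h) * h⁻¹ * t * x := by rw [htt]; group
    have hQ : h⁻¹ * g⁻¹ * h ∈ Q := by
      have := hS.conj_mem h⁻¹ ((DD G a t).inv_mem hh).1 g⁻¹ (Q.inv_mem hg)
      rwa [inv_inv] at this
    obtain ⟨-, h2, h3⟩ := canon_unique hS hg₂ hh₂ hf₂ hQ ((DD G a t).inv_mem hh) hx (e.symm.trans e2)
    exact ⟨h3, h2⟩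
  · intro c hc g₃ h₃ f₃ hg₃ hh₃ hf₃ e
    have hc' : t * c * t ∈ DD G a t := tDt hS hc
    have hc'i : (t * c * t)⁻¹ = t * c⁻¹ * t := by
      rw [mul_inv_rev, mul_inv_rev, hti, mul_assoc]
    have e2 : t * (c⁻¹ * x * c) * t =
        ((t * c * t)⁻¹ * g * (t * c * t)) * ((t * c * t)⁻¹ * h * c) * t * ((t * c * t)⁻¹ * f * (t * c * t)) := by
      have h1 : t * (c⁻¹ * x * c) * t = (t * c⁻¹ * t) * (t * x * t) * (t * c * t) := by
        calc t * (c⁻¹ * x * c) * t = t * c⁻¹ * 1 * x * 1 * c * t := by group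
          _ = t * c⁻¹ * (t * t) * x * (t * t) * c * t := by rw [htt]
          _ = _ := by group
      rw [h1, heq, ← hc'i]
      have h2 : c * t * (t * c * t)⁻¹ = t := by
        rw [hc'i]
        calc c * t * (t * c⁻¹ * t) = c * (t * t) * c⁻¹ * t := by group
          _ = t := by rw [htt]; group
      calc (t * c * t)⁻¹ * (g * h * t * f) * (t * c * t)
          = (t * c * t)⁻¹ * g * h * (t * f * (t * c * t)) := by group
        _ = (t * c * t)⁻¹ * g * h * ((c * t * (t * c * t)⁻¹) * f * (t * c * t)) := by rw [h2]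
        _ = _ := by group
    have hQ1 : (t * c * t)⁻¹ * g * (t * c * t) ∈ Q := by
      have := hS.conj_mem (t * c * t)⁻¹ ((DD G a t).inv_mem hc').1 g hg
      rwa [inv_inv] at this
    have hQ2 : (t * c * t)⁻¹ * f * (t * c * t) ∈ Q := by
      have := hS.conj_mem (t * c * t)⁻¹ ((DD G a t).inv_mem hc').1 f hf
      rwa [inv_inv] at this
    have hD2 : (t * c * t)⁻¹ * h * c ∈ DD G a t :=
      (DD G a t).mul_mem ((DD G a t).mul_mem ((DD G a t).inv_mem hc') hh) hc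
    obtain ⟨-, h2, h3⟩ := canon_unique hS hg₃ hh₃ hf₃ hQ1 hD2 hQ2 (e.symm.trans e2)
    exact ⟨h3, h2⟩

end Cfsg.Agent.S1165
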