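import Cfsg.Statements.S1166
import Mathlib
import Cfsg.Agent.H9.RankOne
import Cfsg.Agent.S1165

set_option autoImplicit false
open scoped Pointwise
open Cfsg

namespace Cfsg.Agent.S1166

open Cfsg.Agent.H9.RankOne MulAction Cfsg.Agent.S1165

theorem result {G Ω : Type*} [Group G] [Finite G] [MulAction G Ω] {a : Ω} {t : G} {Q : Subgroup G}
    (hS : Cfsg.IsRankOneSetup G Ω a t Q)
    (x y gx hx fx gy hy fy : G) (hxQ : x ∈ Q) (hx1 : x ≠ 1) (hyQ : y ∈ Q) (hy1 : y ≠ 1) (hxy : x * y ≠ 1)
    (hgx : gx ∈ Q) (hhx : hx ∈ (MulAction.stabilizer G a ⊓ MulAction.stabilizer G (t • a))) (hfx : fx ∈ Q) (ex : t * x * t = gx * hx * t * fx)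
    (hgy : gy ∈ Q) (hhy : hy ∈ (MulAction.stabilizer G a ⊓ MulAction.stabilizer G (t • a))) (hfy : fy ∈ Q) (ey : t * y * t = gy * hy * t * fy) :
    fx * gy ≠ 1 ∧
      ∀ gz hz fz g' h' f' : G, gz ∈ Q → hz ∈ (MulAction.stabilizer G a ⊓ MulAction.stabilizer G (t • a)) → fz ∈ Q → t * (fx * gy) * t = gz * hz * t * fz →
        g' ∈ Q → h' ∈ (MulAction.stabilizer G a ⊓ MulAction.stabilizer G (t • a)) → f' ∈ Q → t * (x * y) * t = g' * h' * t * f' →
          f' = (t * hy * t)⁻¹ * fz * (t * hy * t) * fy ∧ h' = hx * hz * hy := by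
  have hti := t_inv hS
  have htt := hS.mul_self
  have hprod : t * (x * y) * t = gx * hx * t * (fx * gy) * hy * t * fy := by
    calc t * (x * y) * t = t * x * 1 * y * t := by group
      _ = t * x * (t * t) * y * t := by rw [htt]
      _ = (t * x * t) * (t * y * t) := by group
      _ = (gx * hx * t * fx) * (gy * hy * t * fy) := by rw [ex, ey]
      _ = _ := by group
  have hD'' : t * hy * t ∈ DD G a t := tDt hS hhy
  refine ⟨?_, ?_⟩
  · intro h1
    apply hxy
    rw [h1, mul_one] at hprod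
    have h2 : gx * hx * t * hy * t * fy ∈ stabilizer G a := by
      have : gx * hx * t * hy * t * fy = gx * hx * (t * hy * t) * fy := by group
      rw [this]
      exact (stabilizer G a).mul_mem ((stabilizer G a).mul_mem
        ((stabilizer G a).mul_mem (hS.le hgx) hhx.1) hD''.1) (hS.le hfy)
    rw [← hprod] at h2
    have h3 : (t * (x * y) * t) • a = a := h2
    rw [mul_smul, mul_smul] at h3
    have h4 : t • (t • (x * y) • t • a) = t • a := by rw [h3]
    rw [t_smul_t_smul hS] at h4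
    exact Q_free_b hS (Q.mul_mem hxQ hyQ) h4
  · intro gz hz fz g' h' f' hgz hhz hfz ez hg' hh' hf' e'
    have htz : t * (fx * gy) = gz * hz * t * fz * t := by
      calc t * (fx * gy) = t * (fx * gy) * (t * t) := by rw [htt, mul_one]
        _ = (t * (fx * gy) * t) * t := by group
        _ = gz * hz * t * fz * t := by rw [ez]
    have hkey : t * fz * t * hy * t = hy * t * ((t * hy * t)⁻¹ * fz * (t * hy * t)) := by
      rw [mul_inv_rev, mul_inv_rev, hti]
      calc t * fz * t * hy * t = 1 * 1 * t * fz * t * hy * t := by group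
        _ = (hy * hy⁻¹) * 1 * t * fz * t * hy * t := by rw [mul_inv_cancel]
        _ = hy * (t * t) * hy⁻¹ * t * fz * t * hy * t := by rw [htt]; group
        _ = hy * t * (t * (hy⁻¹ * t) * fz * (t * hy * t)) := by group
    have e2 : t * (x * y) * t = (gx * (hx * gz * hx⁻¹)) * (hx * hz * hy) * t *
        ((t * hy * t)⁻¹ * fz * (t * hy * t) * fy) := by
      rw [hprod]
      calc gx * hx * t * (fx * gy) * hy * t * fy = gx * hx * (t * (fx * gy)) * hy * t * fy := by group
        _ = gx * hx * (gz * hz * t * fz * t) * hy * t * fy := by rw [htz]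
        _ = gx * hx * gz * hz * (t * fz * t * hy * t) * fy := by group
        _ = gx * hx * gz * hz * (hy * t * ((t * hy * t)⁻¹ * fz * (t * hy * t))) * fy := by
            rw [hkey]
        _ = _ := by group
    have hQ1 : gx * (hx * gz * hx⁻¹) ∈ Q := Q.mul_mem hgx (hS.conj_mem hx hhx.1 gz hgz)
    have hD2 : hx * hz * hy ∈ DD G a t := (DD G a t).mul_mem ((DD G a t).mul_mem hhx hhz) hhy
    have hQ3 : (t * hy * t)⁻¹ * fz * (t * hy * t) * fy ∈ Q := by
      apply Q.mul_mem _ hfy
      have := hS.conj_mem (t * hy * t)⁻¹ ((DD G a t).inv_mem hD'').1 fz hfz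
      rwa [inv_inv] at this
    obtain ⟨-, h3, h4⟩ := canon_unique hS hg' hh' hf' hQ1 hD2 hQ3 (e'.symm.trans e2)
    exact ⟨h4, h3⟩

end Cfsg.Agent.S1166
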