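import Cfsg.Statements.S1167
import Cfsg.Agent.Lib.Helper7.ZasC

set_option autoImplicit false
open Cfsg

namespace Cfsg.Agent.S1167

open Cfsg.Agent.Lib.Helper7.ZasU Cfsg.Agent.Lib.Helper7.CAGrp Cfsg.Agent.H9.AutPSL2

/-- Let `G` be a finite simple Zassenhaus group on `Ω`, `U` a normal subgroup of `G_a` regular on `Ω` minus `a` which is an abelian 2-group, and `v` an involution with `v • a ≠ a`. Then there is a unique `u₀ ∈ U`, `u₀ ≠ 1`, with `v u₀ v = u₀ v u₀`. -/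
theorem result {G Ω : Type*} [Group G] [Finite G] [MulAction G Ω] [Finite Ω]
    (hZ : Cfsg.IsZassenhausGroup G Ω) [IsSimpleGroup G] {a : Ω}
    (U : Subgroup G) (hUle : U ≤ MulAction.stabilizer G a)
    (hUn : ∀ h ∈ MulAction.stabilizer G a, ∀ u ∈ U, h * u * h⁻¹ ∈ U)
    (hreg : ∀ c d : Ω, c ≠ a → d ≠ a → ∃! u : U, (u : G) • c = d)
    (hU2 : IsPGroup 2 U) (hUab : ∀ u ∈ U, ∀ u' ∈ U, u * u' = u' * u)
    (v : G) (hv1 : v ≠ 1) (hv2 : v * v = 1) (hva : v • a ≠ a) :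
    ∃! u₀ : G, u₀ ∈ U ∧ u₀ ≠ 1 ∧ v * u₀ * v = u₀ * v * u₀ := by
  haveI : Fact (Nat.Prime 2) := ⟨Nat.prime_two⟩
  obtain ⟨hfaith, -, h3, ⟨g0, hg01, x0, y0, hxy0, hgx0, hgy0⟩, -⟩ := hZ
  have hS : Setup U a := ⟨h3, hUle, hUn, hreg, hU2, hUab⟩
  have hvo : orderOf v = 2 := orderOf_eq_prime (by rw [pow_two]; exact hv2) hv1
  -- a third point
  obtain ⟨z0, hz0⟩ : ∃ z0 : Ω, g0 • z0 ≠ z0 := by
    by_contra hcon
    push Not at hcon
    apply hg01
    apply hfaith.eq_of_smul_eq_smul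
    intro z
    rw [hcon z, one_smul]
  have hz0x : z0 ≠ x0 := fun e => hz0 (by rw [e, hgx0])
  have hz0y : z0 ≠ y0 := fun e => hz0 (by rw [e, hgy0])
  obtain ⟨c, hca, hcb⟩ : ∃ c : Ω, c ≠ a ∧ c ≠ v • a := by
    by_cases hx : x0 ≠ a ∧ x0 ≠ v • a
    · exact ⟨x0, hx⟩
    by_cases hy : y0 ≠ a ∧ y0 ≠ v • a
    · exact ⟨y0, hy⟩
    refine ⟨z0, ?_, ?_⟩
    · intro e
      rw [not_and_or, not_not, not_not] at hx hy
      rcases hx with hx | hx
      · exact hz0x (e.trans hx.symm)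
      · rcases hy with hy | hy
        · exact hz0y (e.trans hy.symm)
        · exact hxy0 (hx.trans hy.symm)
    · intro e
      rw [not_and_or, not_not, not_not] at hx hy
      rcases hx with hx | hx
      · rcases hy with hy | hy
        · exact hxy0 (hx.trans hy.symm)
        · exact hz0y (e.trans hy.symm)
      · exact hz0x (e.trans hx.symm)
  -- a nonidentity element of `U`
  obtain ⟨s₁, hs₁, -⟩ := hreg (v • a) c hva hca
  have hs₁1 : (s₁ : G) ≠ 1 := by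
    intro e
    rw [e, one_smul] at hs₁
    exact hcb hs₁.symm
  obtain ⟨s₀, hs₀, hs₀o⟩ := hS.exists_invol s₁.2 hs₁1
  have hs₀1 := ne_one_of_orderOf hs₀o
  have hsq := hS.sq_eq_one hva hvo
  obtain ⟨F, hF1, hF2, h2, ⟨φ⟩⟩ := hS.exists_iso hva hvo hs₀ hs₀1
  -- the image of `s₀` is conjugate to an upper unitriangular matrix
  have hw₀ : φ s₀ * φ s₀ = 1 := by
    rw [← map_mul, ← pow_two, sq_eq_one_of_orderOf hs₀o, map_one]
  obtain ⟨m, c₀, hm⟩ := Cfsg.Agent.H9.DicksonUN.exists_conj_u (φ s₀) (trace_eq_two h2 _ hw₀)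
  obtain ⟨ψ, hψ⟩ : ∃ ψ : G ≃* Matrix.SpecialLinearGroup (Fin 2) F, ∀ g, ψ g = m * φ g * m⁻¹ :=
    ⟨φ.trans (MulAut.conj m), fun g => by simp [MulAut.conj_apply]⟩
  have hψs₀ : ψ s₀ = u c₀ := by rw [hψ, hm]
  have hc₀ : c₀ ≠ 0 := by
    intro e
    rw [e, u_zero] at hψs₀
    apply hs₀1
    apply ψ.injective
    rw [hψs₀, map_one]
  -- the image of `U`
  have hU_of : ∀ g : G, g ∈ U → ψ g = u ((ψ g).1 0 1) := by
    intro g hg
    have hcomm : ψ g * u c₀ = u c₀ * ψ g := by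
      rw [← hψs₀, ← map_mul, ← map_mul, hUab g hg s₀ hs₀]
    obtain ⟨h10, h0011⟩ := (Cfsg.Agent.H9.DicksonUN.commute_u_iff hc₀ (ψ g)).mp hcomm
    have hgg : ψ g * ψ g = 1 := by
      rw [← map_mul, ← pow_two, hsq g hg, map_one]
    have e00 := congrArg (fun z : Matrix.SpecialLinearGroup (Fin 2) F => z.1 0 0) hgg
    simp only [mul_00, h10, mul_zero, add_zero] at e00
    have h1 : (1 : Matrix.SpecialLinearGroup (Fin 2) F).1 0 0 = 1 := by simp
    rw [h1] at e00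
    have h00 : (ψ g).1 0 0 = 1 := by
      have : ((ψ g).1 0 0 - 1) ^ 2 = 0 := by
        linear_combination e00 - ((ψ g).1 0 0 - 1) * h2
      have := pow_eq_zero_iff (two_ne_zero) |>.1 this
      linear_combination this
    apply ext4
    · rw [h00, u_00]
    · rw [u_01]
    · rw [h10, u_10]
    · rw [← h0011, h00, u_11]
  have hb : v • a ≠ a := hva
  have hU_mem : ∀ (g : G) (β : F), ψ g = u β → g ∈ U := by
    intro g β hg
    apply hS.cent_le hb hs₀ hs₀1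
    apply ψ.injective
    rw [map_mul, map_mul, hg, hψs₀, ← u_add, ← u_add, add_comm]
  -- the image of `v`
  have hvv : ψ v * ψ v = 1 := by rw [← map_mul, hv2, map_one]
  have hγ : (ψ v).1 1 0 ≠ 0 := by
    intro e
    have h1 := conj_u_of_eq (ψ v) e c₀
    have h2' : ψ (v * s₀ * v⁻¹) = u (((ψ v).1 0 0) ^ 2 * c₀) := by
      rw [map_mul, map_mul, map_inv, hψs₀, h1]
      group
    have hmem := hU_mem _ _ h2'
    have h3' : v * s₀ * v⁻¹ = 1 := by
      apply hS.fix_only hmem hb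
      rw [mul_smul, mul_smul, inv_smul_smul, hS.smul_a hs₀]
    apply hs₀1
    have : s₀ = v⁻¹ * (v * s₀ * v⁻¹) * v := by group
    rw [this, h3']; group
  have hkey := key_iff h2 (ψ v) hvv hγ
  have hγinv : ((ψ v).1 1 0)⁻¹ ≠ 0 := inv_ne_zero hγ
  refine ⟨ψ.symm (u ((ψ v).1 1 0)⁻¹), ⟨?_, ?_, ?_⟩, ?_⟩
  · exact hU_mem _ _ (ψ.apply_symm_apply _)
  · intro e
    have := congrArg ψ e
    rw [ψ.apply_symm_apply, map_one, ← u_zero] at this
    exact hγinv (u_injective this)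
  · apply ψ.injective
    rw [map_mul, map_mul, map_mul, map_mul, ψ.apply_symm_apply]
    exact (hkey _).mpr rfl
  · rintro u₁ ⟨hu₁, hu₁1, hrel⟩
    have h1 := hU_of u₁ hu₁
    have h2' := congrArg ψ hrel
    rw [map_mul, map_mul, map_mul, map_mul, h1] at h2'
    have h3' := (hkey _).mp h2'
    apply ψ.injective
    rw [ψ.apply_symm_apply, h1, h3']

end Cfsg.Agent.S1167
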