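import Cfsg.Statements.S1168
import Mathlib
import Cfsg.Agent.S1140

set_option autoImplicit false
open scoped Pointwise
open Cfsg

namespace Cfsg.Agent.S1168

section
variable {F : Type*} [Field F] [Fintype F] [CharP F 2]

lemma two0 : (2 : F) = 0 := CharTwo.two_eq_zero

lemma eq_of_add {a b : F} (h : a + b = 0) : a = b := by
  have h2 : (2 : F) = 0 := two0
  linear_combination h - b * h2

/-- A function with vanishing third difference is the diagonal of a biadditive map. -/
lemma exists_biadditive (q : F → F)
    (hq : ∀ x y z : F, q (x + y + z) + q (x + y) + q (x + z) + q (y + z) + q x + q y + q z = 0) :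
    ∃ C : F →+ F →+ F, ∀ x, q x = C x x := by
  classical
  have h2 : (2 : F) = 0 := two0
  let _ : Algebra (ZMod 2) F := ZMod.algebra F 2
  have hq0 : q 0 = 0 := by
    have := hq 0 0 0
    simp only [add_zero] at this
    linear_combination this - 3 * q 0 * h2
  -- the polarisation
  let B : F →+ F →+ F := AddMonoidHom.mk' (fun x => AddMonoidHom.mk' (fun y => q (x + y) + q x + q y)
    (fun y z => by
      show q (x + (y + z)) + q x + q (y + z) = (q (x + y) + q x + q y) + (q (x + z) + q x + q z)
      apply eq_of_add
      have := hq x y z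
      rw [← add_assoc x y z]
      linear_combination this + q x * h2))
    (fun x z => by
      ext y
      show q (x + z + y) + q (x + z) + q y = (q (x + y) + q x + q y) + (q (z + y) + q z + q y)
      apply eq_of_add
      have := hq x z y
      linear_combination this + q y * h2)
  have hB : ∀ x y, B x y = q (x + y) + q x + q y := fun x y => rfl
  let b := Module.finBasis (ZMod 2) F
  let c : Fin (Module.finrank (ZMod 2) F) → Fin (Module.finrank (ZMod 2) F) → F :=
    fun i j => if i < j then B (b i) (b j) else if i = j then q (b i) else 0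
  let C : F →+ F →+ F := AddMonoidHom.mk' (fun x => AddMonoidHom.mk'
    (fun y => ∑ i, ∑ j, (b.coord i x * b.coord j y) • c i j)
    (fun y z => by
      simp only [map_add, mul_add, add_smul, Finset.sum_add_distrib]))
    (fun x z => by
      ext y
      show ∑ i, ∑ j, (b.coord i (x + z) * b.coord j y) • c i j =
        ∑ i, ∑ j, (b.coord i x * b.coord j y) • c i j + ∑ i, ∑ j, (b.coord i z * b.coord j y) • c i j
      simp only [map_add, add_mul, add_smul, Finset.sum_add_distrib])
  have hC : ∀ x y, C x y = ∑ i, ∑ j, (b.coord i x * b.coord j y) • c i j := fun x y => rfl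
  have hCb : ∀ k l, C (b k) (b l) = c k l := by
    intro k l
    rw [hC]
    simp only [Module.Basis.coord_apply, Module.Basis.repr_self, Finsupp.single_apply]
    rw [Finset.sum_eq_single k, Finset.sum_eq_single l]
    · simp
    · intro j _ hj
      simp [hj.symm]
    · simp
    · intro i _ hi
      simp [hi.symm]
    · simp
  -- extensionality on the basis
  have ext1 : ∀ f g : F →+ F, (∀ i, f (b i) = g (b i)) → f = g := by
    intro f g h
    have : f.toZModLinearMap 2 = g.toZModLinearMap 2 := b.ext (fun i => h i)
    ext x
    exact DFunLike.congr_fun this x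
  have ext2 : ∀ f g : F →+ F →+ F, (∀ i j, f (b i) (b j) = g (b i) (b j)) → f = g := by
    intro f g h
    have h1 : ∀ j, f.flip (b j) = g.flip (b j) := fun j => ext1 _ _ (fun i => h i j)
    ext x y
    have h2 : f x = g x := ext1 _ _ (fun j => DFunLike.congr_fun (h1 j) x)
    rw [h2]
  have hBC : B = C + C.flip := by
    apply ext2
    intro k l
    rw [AddMonoidHom.add_apply, AddMonoidHom.add_apply, AddMonoidHom.flip_apply, hCb, hCb]
    rcases lt_trichotomy k l with h | h | h
    · have h' : ¬ l < k := not_lt.2 h.le
      have h'' : ¬ l = k := h.ne'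
      simp only [c, h, h', h'', if_true, if_false, add_zero]
    · subst h
      simp only [c, lt_irrefl, if_false, if_true]
      rw [hB, show b k + b k = 0 from CharTwo.add_self_eq_zero _, hq0]
      linear_combination (- q (b k)) * h2 + q (b k) * h2
    · have h' : ¬ k < l := not_lt.2 h.le
      have h'' : ¬ k = l := h.ne'
      simp only [c, h, h', h'', if_true, if_false, zero_add]
      rw [hB, hB, add_comm (b k) (b l)]
      ring
  have hBC' : ∀ x y, q (x + y) + q x + q y = C x y + C y x := by
    intro x y
    have := DFunLike.congr_fun (DFunLike.congr_fun hBC x) y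
    rw [hB] at this
    exact this
  let D : F →+ F := AddMonoidHom.mk' (fun x => q x + C x x) (fun x y => by
    show q (x + y) + C (x + y) (x + y) = q x + C x x + (q y + C y y)
    have := hBC' x y
    simp only [map_add, AddMonoidHom.add_apply]
    linear_combination this + (C x y + C y x - q x - q y) * h2)
  have hD0 : D = 0 := by
    apply ext1
    intro i
    show q (b i) + C (b i) (b i) = 0
    rw [hCb]
    simp only [c, lt_irrefl, if_false, if_true]
    exact CharTwo.add_self_eq_zero _
  refine ⟨C, fun x => ?_⟩
  apply eq_of_add
  exact DFunLike.congr_fun hD0 x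

end

theorem result {F : Type*} [Field F] [Fintype F] [CharP F 2]
    (q : F → F)
    (hq : ∀ x y z : F, q (x + y + z) + q (x + y) + q (x + z) + q (y + z) + q x + q y + q z = 0) :
    ∃ (s : Finset ((F ≃+* F) × (F ≃+* F))) (c : (F ≃+* F) × (F ≃+* F) → F),
      ∀ x : F, q x = ∑ p ∈ s, c p * (p.1 x * p.2 x) := by
  obtain ⟨C, hC⟩ := exists_biadditive q hq
  obtain ⟨d, hd⟩ := Cfsg.Agent.S1140.exists_bicoeffs C
  refine ⟨Finset.univ, fun p => d p.2 p.1, fun x => ?_⟩
  rw [hC x, hd x x, Fintype.sum_prod_type_right]

end Cfsg.Agent.S1168
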