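import Mathlib
import Cfsg.Statements.S1176

set_option autoImplicit false
open Cfsg

namespace Cfsg.Agent.S1176

open scoped commutatorElement

/-- Let x₀ be an involution of the finite group G and D its conjugacy class. Assume (a) for each x ∈ D the subgroup W(x) generated by the members of D commuting with x is a 2-group of nilpotency class at most 2, and (b) the product of two distinct commuting members of D again lies in D. Then for all x, y ∈ D, if xy has even order greater than 2, its order is 4. -/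
theorem result {G : Type*} [Group G] [Finite G] (x₀ : G) (hx₀ : orderOf x₀ = 2) (ha : ∀ x : G, IsConj x₀ x → IsPGroup 2 ↥(Subgroup.closure {y : G | IsConj x₀ y ∧ Commute y x}) ∧ ⁅⁅Subgroup.closure {y : G | IsConj x₀ y ∧ Commute y x}, Subgroup.closure {y : G | IsConj x₀ y ∧ Commute y x}⁆, Subgroup.closure {y : G | IsConj x₀ y ∧ Commute y x}⁆ = ⊥) (hb : ∀ x y : G, IsConj x₀ x → IsConj x₀ y → x ≠ y → Commute x y → IsConj x₀ (x * y)) (x y : G) (hx : IsConj x₀ x) (hy : IsConj x₀ y) (heven : Even (orderOf (x * y))) (hgt : 2 < orderOf (x * y)) : orderOf (x * y) = 4 := by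
  -- members of the class are involutions
  have hinv : ∀ w : G, IsConj x₀ w → w * w = 1 := by
    intro w hw
    obtain ⟨c, hc⟩ := isConj_iff.mp hw
    have h1 : orderOf w = 2 := by
      rw [← hc, ← MulAut.conj_apply, MulEquiv.orderOf_eq, hx₀]
    rw [← pow_two, ← h1]; exact pow_orderOf_eq_one w
  have hconj : ∀ w g : G, IsConj x₀ w → IsConj x₀ (g * w * g⁻¹) := by
    intro w g hw
    exact hw.trans (isConj_iff.mpr ⟨g, rfl⟩)
  have hxx := hinv x hx
  have hyy := hinv y hy
  have hxi : x⁻¹ = x := inv_eq_of_mul_eq_one_left hxx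
  have hyi : y⁻¹ = y := inv_eq_of_mul_eq_one_left hyy
  obtain ⟨m, hm⟩ := heven
  have hm2 : 2 ≤ m := by omega
  -- conjugation inverts `u = x * y`
  have hxu : x * (x * y) * x⁻¹ = (x * y)⁻¹ := by
    rw [mul_inv_rev, hxi, hyi, ← mul_assoc, hxx, one_mul]
  have hyu : y * (x * y) * y⁻¹ = (x * y)⁻¹ := by
    rw [mul_inv_rev, hxi, hyi]
    calc y * (x * y) * y = y * x * (y * y) := by group
      _ = y * x := by rw [hyy, mul_one]
  have hzz : (x * y) ^ m * (x * y) ^ m = 1 := by
    rw [← pow_add, ← hm]; exact pow_orderOf_eq_one _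
  have hzi : ((x * y) ^ m)⁻¹ = (x * y) ^ m := inv_eq_of_mul_eq_one_left hzz
  have hz1 : (x * y) ^ m ≠ 1 := pow_ne_one_of_lt_orderOf (by omega) (by omega)
  have hxz : Commute x ((x * y) ^ m) := by
    have h1 : x * (x * y) ^ m * x⁻¹ = (x * y) ^ m := by
      rw [← conj_pow, hxu, inv_pow, hzi]
    calc x * (x * y) ^ m = (x * (x * y) ^ m * x⁻¹) * x := by group
      _ = (x * y) ^ m * x := by rw [h1]
  have hyz : Commute y ((x * y) ^ m) := by
    have h1 : y * (x * y) ^ m * y⁻¹ = (x * y) ^ m := by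
      rw [← conj_pow, hyu, inv_pow, hzi]
    calc y * (x * y) ^ m = (y * (x * y) ^ m * y⁻¹) * y := by group
      _ = (x * y) ^ m * y := by rw [h1]
  -- all `x * u ^ j` lie in the class
  have hall : ∀ j : ℕ, IsConj x₀ (x * (x * y) ^ j) ∧ IsConj x₀ (x * (x * y) ^ (j + 1)) := by
    intro j
    induction j with
    | zero =>
      refine ⟨by simpa using hx, ?_⟩
      rw [zero_add, pow_one, ← mul_assoc, hxx, one_mul]; exact hy
    | succ j ih =>
      refine ⟨ih.2, ?_⟩
      have h1 : x * (x * y) ^ (j + 1 + 1) = (x * y)⁻¹ * (x * (x * y) ^ j) * ((x * y)⁻¹)⁻¹ := by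
        have h2 : (x * y)⁻¹ * x = x * (x * y) := by
          rw [← hxu]; group
        calc x * (x * y) ^ (j + 1 + 1) = (x * (x * y)) * (x * y) ^ j * (x * y) := by
              rw [pow_succ (x * y) (j + 1), pow_succ' (x * y) j]; simp only [mul_assoc]
          _ = ((x * y)⁻¹ * x) * (x * y) ^ j * (x * y) := by rw [h2]
          _ = _ := by group
      rw [h1]
      exact hconj _ _ ih.1
  have hxzD : IsConj x₀ (x * (x * y) ^ m) := (hall m).1
  have hne : x ≠ x * (x * y) ^ m := by
    intro h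
    apply hz1
    have : x * 1 = x * (x * y) ^ m := by rw [mul_one]; exact h
    exact (mul_left_cancel this).symm
  have hcomm : Commute x (x * (x * y) ^ m) := (Commute.refl x).mul_right hxz
  have hzD : IsConj x₀ ((x * y) ^ m) := by
    have := hb x (x * (x * y) ^ m) hx hxzD hne hcomm
    rwa [← mul_assoc, hxx, one_mul] at this
  obtain ⟨-, hcl⟩ := ha _ hzD
  have hxW : x ∈ Subgroup.closure {w : G | IsConj x₀ w ∧ Commute w ((x * y) ^ m)} :=
    Subgroup.subset_closure ⟨hx, hxz⟩
  have hyW : y ∈ Subgroup.closure {w : G | IsConj x₀ w ∧ Commute w ((x * y) ^ m)} :=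
    Subgroup.subset_closure ⟨hy, hyz⟩
  have h1 : ⁅⁅x, y⁆, x⁆ = 1 := by
    have : ⁅⁅x, y⁆, x⁆ ∈ (⊥ : Subgroup G) := by
      rw [← hcl]
      exact Subgroup.commutator_mem_commutator (Subgroup.commutator_mem_commutator hxW hyW) hxW
    exact Subgroup.mem_bot.mp this
  have h2 : ⁅x, y⁆ = (x * y) ^ 2 := by
    rw [commutatorElement_def, hxi, hyi, pow_two]; group
  have h3 : ⁅(x * y) ^ 2, x⁆ = (x * y) ^ 4 := by
    have h4 : x * ((x * y) ^ 2)⁻¹ * x⁻¹ = (x * y) ^ 2 := by
      rw [← inv_pow, ← conj_pow, ← conj_inv, hxu, inv_inv]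
    rw [commutatorElement_def]
    calc (x * y) ^ 2 * x * ((x * y) ^ 2)⁻¹ * x⁻¹ = (x * y) ^ 2 * (x * ((x * y) ^ 2)⁻¹ * x⁻¹) := by
          group
      _ = (x * y) ^ 2 * (x * y) ^ 2 := by rw [h4]
      _ = (x * y) ^ 4 := by rw [← pow_add]
  rw [h2, h3] at h1
  have h5 := orderOf_dvd_of_pow_eq_one h1
  have h6 : orderOf (x * y) ∈ Nat.divisors 4 := Nat.mem_divisors.mpr ⟨h5, by norm_num⟩
  have h7 : Nat.divisors 4 = {1, 2, 4} := by decide
  rw [h7] at h6
  simp only [Finset.mem_insert, Finset.mem_singleton] at h6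
  omega

end Cfsg.Agent.S1176
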