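import Mathlib
import Cfsg.Statements.S1177
import Cfsg.Agent.H2.ConjMap

set_option autoImplicit false
open Cfsg

namespace Cfsg.Agent.S1177

open Cfsg.Agent.H2

/-- Let A be a nontrivial elementary abelian 2-subgroup of a finite group G which is a T.I. set (each conjugate of A meets A trivially or equals A) and which does not commute elementwise with any conjugate of A other than A itself. Then for every a ∈ A, a ≠ 1, every conjugate of A contained in C_G(a) is equal to A (A is weakly closed in C_G(a)). -/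
theorem result {G : Type*} [Group G] [Finite G] (A : Subgroup G) (hA : Cfsg.IsElementaryAbelian 2 A) (hA1 : A ≠ ⊥) (hTI : ∀ g : G, A.map (MulAut.conj g).toMonoidHom ⊓ A = ⊥ ∨ A.map (MulAut.conj g).toMonoidHom = A) (hb : ∀ g : G, (∀ a ∈ A, ∀ b ∈ A.map (MulAut.conj g).toMonoidHom, a * b = b * a) → A.map (MulAut.conj g).toMonoidHom = A) (a : G) (ha : a ∈ A) (ha1 : a ≠ 1) (g : G) (hg : A.map (MulAut.conj g).toMonoidHom ≤ Subgroup.centralizer ({a} : Set G)) : A.map (MulAut.conj g).toMonoidHom = A := by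
  by_contra hne
  set B := A.map (MulAut.conj g).toMonoidHom with hB
  have hAB : B ⊓ A = ⊥ := (hTI g).resolve_right hne
  have hsqA : ∀ x ∈ A, x * x = 1 := fun x hx => by rw [← pow_two]; exact hA.2 x hx
  have hsqB : ∀ x ∈ B, x * x = 1 := by
    intro x hx
    rw [hB, mem_map_conj_iff] at hx
    have := hsqA _ hx
    calc x * x = g * (g⁻¹ * x * g * (g⁻¹ * x * g)) * g⁻¹ := by group
      _ = 1 := by rw [this]; group
  -- step 2: centralizers of nonidentity elements normalize
  have hNA : ∀ a' ∈ A, a' ≠ 1 → ∀ x : G, x * a' = a' * x → x ∈ Subgroup.normalizer (A : Set G) := by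
    intro a' ha' ha'1 x hx
    rw [← map_conj_eq_self_iff_mem_normalizer]
    rcases hTI x with h | h
    · exfalso
      have : a' ∈ A.map (MulAut.conj x).toMonoidHom ⊓ A := by
        refine Subgroup.mem_inf.2 ⟨?_, ha'⟩
        rw [mem_map_conj_iff]
        have : x⁻¹ * a' * x = a' := by
          calc x⁻¹ * a' * x = x⁻¹ * (a' * x) := by group
            _ = x⁻¹ * (x * a') := by rw [hx]
            _ = a' := by group
        rw [this]; exact ha'
      rw [h, Subgroup.mem_bot] at this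
      exact ha'1 this
    · exact h
  have hNB : ∀ b ∈ B, b ≠ 1 → ∀ x : G, x * b = b * x → x ∈ Subgroup.normalizer (B : Set G) := by
    intro b hbB hb1 x hx
    -- transfer to A via conjugation by g
    have hb' : g⁻¹ * b * g ∈ A := (mem_map_conj_iff A g b).1 hbB
    have hb'1 : g⁻¹ * b * g ≠ 1 := by
      intro h
      apply hb1
      calc b = g * (g⁻¹ * b * g) * g⁻¹ := by group
        _ = 1 := by rw [h]; group
    have hx' : (g⁻¹ * x * g) * (g⁻¹ * b * g) = (g⁻¹ * b * g) * (g⁻¹ * x * g) := by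
      calc (g⁻¹ * x * g) * (g⁻¹ * b * g) = g⁻¹ * (x * b) * g := by group
        _ = g⁻¹ * (b * x) * g := by rw [hx]
        _ = (g⁻¹ * b * g) * (g⁻¹ * x * g) := by group
    have := hNA _ hb' hb'1 _ hx'
    rw [← map_conj_eq_self_iff_mem_normalizer] at this ⊢
    rw [hB, ← map_conj_mul]
    have e : x * g = g * (g⁻¹ * x * g) := by group
    rw [e, map_conj_mul, this]
  -- step 3: B ≤ N(A)
  have hBNA : B ≤ Subgroup.normalizer (A : Set G) := by
    intro b hbB
    have := hg hbB
    rw [Subgroup.mem_centralizer_singleton_iff] at this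
    exact hNA a ha ha1 b this
  -- step 4
  have h4 : ∀ b ∈ B, b ≠ 1 → ∀ a'' ∈ A, a'' * b = b * a'' → ∀ b' ∈ B, a'' * b' = b' * a'' := by
    intro b hbB hb1 a'' ha'' hcomm b' hb'
    have h1 : a'' ∈ Subgroup.normalizer (B : Set G) := hNB b hbB hb1 a'' hcomm
    have h2 : a'' * b' * a''⁻¹ * b'⁻¹ ∈ B :=
      B.mul_mem ((Subgroup.mem_normalizer_iff.1 h1 b').1 hb') (B.inv_mem hb')
    have h3 : a'' * b' * a''⁻¹ * b'⁻¹ ∈ A := by
      have : a'' * b' * a''⁻¹ * b'⁻¹ = a'' * (b' * a''⁻¹ * b'⁻¹) := by group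
      rw [this]
      exact A.mul_mem ha'' ((Subgroup.mem_normalizer_iff.1 (hBNA hb') a''⁻¹).1 (A.inv_mem ha''))
    have h5 : a'' * b' * a''⁻¹ * b'⁻¹ ∈ B ⊓ A := Subgroup.mem_inf.2 ⟨h2, h3⟩
    rw [hAB, Subgroup.mem_bot] at h5
    calc a'' * b' = a'' * b' * a''⁻¹ * b'⁻¹ * (b' * a'') := by group
      _ = b' * a'' := by rw [h5, one_mul]
  -- step 5
  have hcent : ∀ a' ∈ A, ∀ b ∈ B, a' * b = b * a' := by
    by_contra hcon
    push Not at hcon
    obtain ⟨a', ha', b₀, hb₀, hab₀⟩ := hcon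
    set A₀ := A ⊓ Subgroup.centralizer (B : Set G) with hA₀
    have hlt : A₀ < A := by
      refine lt_of_le_of_ne inf_le_left ?_
      intro h
      have : a' ∈ A₀ := h ▸ ha'
      have h1 := (Subgroup.mem_centralizer_iff.1 (Subgroup.mem_inf.1 this).2) b₀ hb₀
      exact hab₀ h1.symm
    have hcard : Nat.card A₀ < Nat.card A := by
      have h1 : Nat.card A₀ ∣ Nat.card A := Subgroup.card_dvd_of_le hlt.le
      have h2 : Nat.card A₀ ≠ Nat.card A := by
        intro h
        exact hlt.ne (Subgroup.eq_of_le_of_card_ge hlt.le h.ge)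
      exact lt_of_le_of_ne (Nat.le_of_dvd Nat.card_pos h1) h2
    have hcardB : Nat.card B = Nat.card A := card_map_conj A g
    -- the injective map
    have hf : ∀ b : B, (b : G)⁻¹ * a' * (b : G) * a'⁻¹ ∈ A₀ := by
      intro b
      by_cases hb1 : (b : G) = 1
      · rw [hb1]; simp
      have hc : (b : G)⁻¹ * a' * (b : G) * a'⁻¹ ∈ A := by
        refine A.mul_mem ?_ (A.inv_mem ha')
        have := (Subgroup.mem_normalizer_iff.1 (hBNA (B.inv_mem b.2)) a').1 ha'
        simpa using this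
      refine Subgroup.mem_inf.2 ⟨hc, ?_⟩
      rw [Subgroup.mem_centralizer_iff]
      intro b' hb'
      refine (h4 b b.2 hb1 _ hc ?_ b' hb').symm
      -- c commutes with b
      set c := (b : G)⁻¹ * a' * (b : G) * a'⁻¹ with hcdef
      have hbb := hsqB b b.2
      have hcc := hsqA c hc
      have hbc : (b : G) * c = a' * (b : G) * a'⁻¹ := by
        rw [hcdef]; group
      have hbc2 : (b : G) * c * ((b : G) * c) = 1 := by
        rw [hbc]
        calc a' * (b : G) * a'⁻¹ * (a' * (b : G) * a'⁻¹) = a' * ((b : G) * (b : G)) * a'⁻¹ := by group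
          _ = 1 := by rw [hbb]; group
      -- from b c b c = 1, b b = 1, c c = 1
      have hbinv : (b : G)⁻¹ = (b : G) := inv_eq_of_mul_eq_one_left hbb
      have hcinv : c⁻¹ = c := inv_eq_of_mul_eq_one_left hcc
      calc c * (b : G) = ((b : G) * c)⁻¹ := by rw [mul_inv_rev, hbinv, hcinv]
        _ = (b : G) * c := inv_eq_of_mul_eq_one_left hbc2
    let f : B → A₀ := fun b => ⟨_, hf b⟩
    have hfinj : Function.Injective f := by
      intro b₁ b₂ h
      have h1 : (b₁ : G)⁻¹ * a' * (b₁ : G) * a'⁻¹ = (b₂ : G)⁻¹ * a' * (b₂ : G) * a'⁻¹ :=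
        congrArg Subtype.val h
      have h2 : (b₁ : G)⁻¹ * a' * (b₁ : G) = (b₂ : G)⁻¹ * a' * (b₂ : G) := mul_right_cancel h1
      by_contra hne12
      have h3 : (b₂ : G) * (b₁ : G)⁻¹ ≠ 1 := by
        intro h
        apply hne12
        have : (b₂ : G) = (b₁ : G) := by
          calc (b₂ : G) = (b₂ : G) * (b₁ : G)⁻¹ * (b₁ : G) := by group
            _ = (b₁ : G) := by rw [h, one_mul]
        exact Subtype.ext this.symm
      have h4' : a' * ((b₂ : G) * (b₁ : G)⁻¹) = ((b₂ : G) * (b₁ : G)⁻¹) * a' := by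
        calc a' * ((b₂ : G) * (b₁ : G)⁻¹) = (b₂ : G) * ((b₂ : G)⁻¹ * a' * (b₂ : G)) * (b₁ : G)⁻¹ := by group
          _ = (b₂ : G) * ((b₁ : G)⁻¹ * a' * (b₁ : G)) * (b₁ : G)⁻¹ := by rw [h2]
          _ = ((b₂ : G) * (b₁ : G)⁻¹) * a' := by group
      have := h4 _ (B.mul_mem b₂.2 (B.inv_mem b₁.2)) h3 a' ha' h4' b₀ hb₀
      exact hab₀ this
    have := Nat.card_le_card_of_injective f hfinj
    omega
  exact hne (hb g hcent)

end Cfsg.Agent.S1177
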