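import Cfsg.Statements.S1178

set_option autoImplicit false
open Cfsg

namespace Cfsg.Agent.S1178

theorem mem_map_conj_iff {G : Type*} [Group G] (A : Subgroup G) (g x : G) :
    x ∈ A.map (MulAut.conj g).toMonoidHom ↔ g⁻¹ * x * g ∈ A := by
  constructor
  · rintro ⟨a, ha, rfl⟩
    simpa [MulAut.conj_apply, mul_assoc] using ha
  · intro h
    refine ⟨g⁻¹ * x * g, h, ?_⟩
    simp [MulAut.conj_apply, mul_assoc]

/-- Let A be a subgroup of a Sylow 2-subgroup S of the finite group G which is weakly closed in S. If a conjugate g A g⁻¹ commutes elementwise with A, then g A g⁻¹ = A. -/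
theorem result {G : Type*} [Group G] [Finite G] (S : Sylow 2 G) (A : Subgroup G) (hW : Cfsg.IsWeaklyClosed A (S : Subgroup G)) (g : G) (hc : ∀ a ∈ A, ∀ b ∈ A.map (MulAut.conj g).toMonoidHom, a * b = b * a) : A.map (MulAut.conj g).toMonoidHom = A := by
  obtain ⟨hAS, hcl⟩ := hW
  set B := A.map (MulAut.conj g).toMonoidHom with hB
  -- A and B are 2-groups
  have hA2 : IsPGroup 2 A := S.2.to_le hAS
  have hB2 : IsPGroup 2 B := hA2.map _
  -- A normalizes B
  have hAB : A ≤ Subgroup.normalizer (B : Set G) := by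
    have : A ≤ Subgroup.centralizer (B : Set G) := by
      intro a ha
      rw [Subgroup.mem_centralizer_iff]
      intro b hb
      exact (hc a ha b hb).symm
    exact this.trans (Subgroup.centralizer_le_normalizer _)
  have hJ : IsPGroup 2 (A ⊔ B : Subgroup G) := IsPGroup.to_sup_of_normal_right' hA2 hB2 hAB
  obtain ⟨Q, hQ⟩ := hJ.exists_le_sylow
  obtain ⟨h, rfl⟩ := MulAction.exists_smul_eq G S Q
  -- h • S ≥ A ⊔ B
  have hmemS : ∀ x, x ∈ ((h • S : Sylow 2 G) : Subgroup G) ↔ h⁻¹ * x * h ∈ (S : Subgroup G) := by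
    intro x
    rw [Sylow.coe_subgroup_smul, Subgroup.mem_pointwise_smul_iff_inv_smul_mem]
    simp [MulAut.smul_def]
  have h1 : A.map (MulAut.conj h⁻¹).toMonoidHom ≤ S := by
    intro x hx
    rw [mem_map_conj_iff] at hx
    have := (hmemS _).1 (hQ (Subgroup.mem_sup_left hx))
    simpa [mul_assoc] using this
  have h2 : A.map (MulAut.conj (h⁻¹ * g)).toMonoidHom ≤ S := by
    intro x hx
    rw [mem_map_conj_iff] at hx
    have hb : h * x * h⁻¹ ∈ B := by
      rw [hB, mem_map_conj_iff]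
      simpa [mul_assoc] using hx
    have := (hmemS _).1 (hQ (Subgroup.mem_sup_right hb))
    simpa [mul_assoc] using this
  have e1 := hcl _ h1
  have e2 := hcl _ h2
  ext x
  rw [hB, mem_map_conj_iff]
  -- x ∈ B ↔ g⁻¹ x g ∈ A
  have k1 : ∀ y, y ∈ A ↔ h * y * h⁻¹ ∈ A := by
    intro y
    conv_lhs => rw [← e1, mem_map_conj_iff]
    simp
  have k2 : ∀ y, y ∈ A ↔ (h⁻¹ * g)⁻¹ * y * (h⁻¹ * g) ∈ A := by
    intro y
    conv_lhs => rw [← e2, mem_map_conj_iff]
  have a1 := k1 (h⁻¹ * x * h)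
  have a2 := k2 (h⁻¹ * x * h)
  have e3 : h * (h⁻¹ * x * h) * h⁻¹ = x := by group
  have e4 : (h⁻¹ * g)⁻¹ * (h⁻¹ * x * h) * (h⁻¹ * g) = g⁻¹ * x * g := by group
  rw [e3] at a1
  rw [e4] at a2
  rw [← a1, ← a2]

end Cfsg.Agent.S1178
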