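import Cfsg.Statements.S1183
import Cfsg.Agent.Lib.Helper7.TransferStable
import Cfsg.Agent.S1182
import Cfsg.Agent.H1.PResidual

set_option autoImplicit false
open Cfsg

namespace Cfsg.Agent.S1183
/-- An isolated involution is centralized by a Sylow `2`-subgroup. -/
theorem exists_sylow_le_centralizer {G : Type*} [Group G] [Finite G] (z : G)
    (hz : Cfsg.IsIsolatedInvolution z) :
    ∃ S : Sylow 2 G, (S : Subgroup G) ≤ Subgroup.centralizer ({z} : Set G) := by
  haveI : Fact (Nat.Prime 2) := ⟨Nat.prime_two⟩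
  have hpz : IsPGroup 2 ↥(Subgroup.zpowers z) := by
    apply IsPGroup.of_card (n := 1)
    rw [Nat.card_zpowers, hz.1, pow_one]
  obtain ⟨S, hS⟩ := hpz.exists_le_sylow
  refine ⟨S, ?_⟩
  have hzS : z ∈ (S : Subgroup G) := hS (Subgroup.mem_zpowers z)
  by_contra hcon
  set D : Subgroup ↥(S : Subgroup G) := (Subgroup.centralizer ({z} : Set G)).subgroupOf (S : Subgroup G)
    with hD
  have hDtop : D ≠ ⊤ := by
    intro h
    apply hcon
    rw [hD, Subgroup.subgroupOf_eq_top] at h
    exact h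
  haveI : Group.IsNilpotent ↥(S : Subgroup G) := S.2.isNilpotent
  have hnc := Group.normalizerCondition_of_isNilpotent (G := ↥(S : Subgroup G))
  have hlt := hnc D (lt_top_iff_ne_top.mpr hDtop)
  obtain ⟨g, hgN, hgD⟩ := SetLike.exists_of_lt hlt
  apply hgD
  have hz'D : (⟨z, hzS⟩ : ↥(S : Subgroup G)) ∈ D := by
    rw [hD, Subgroup.mem_subgroupOf, Subgroup.mem_centralizer_singleton_iff]
  have h1 := (Subgroup.mem_normalizer_iff.mp hgN ⟨z, hzS⟩).mp hz'D
  rw [hD, Subgroup.mem_subgroupOf, Subgroup.mem_centralizer_singleton_iff] at h1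
  have h2 : Commute z ((g : G) * z * (g : G)⁻¹) := by
    have : ((g * ⟨z, hzS⟩ * g⁻¹ : ↥(S : Subgroup G)) : G) = (g : G) * z * (g : G)⁻¹ := rfl
    rw [this] at h1
    exact h1.symm
  have h3 := hz.2 (g : G) h2
  rw [hD, Subgroup.mem_subgroupOf, Subgroup.mem_centralizer_singleton_iff]
  calc (g : G) * z = ((g : G) * z * (g : G)⁻¹) * g := by group
    _ = z * g := by rw [h3]

/-- Let z be an isolated involution of the finite group G and C = C_G(z). Then the subgroup of G generated by its elements of odd order is all of G if and only if the subgroup of C generated by its elements of odd order is all of C. -/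
theorem result {G : Type*} [Group G] [Finite G] (z : G) (hz : Cfsg.IsIsolatedInvolution z) : Cfsg.pResidual 2 G = ⊤ ↔ Cfsg.pResidual 2 ↥(Subgroup.centralizer ({z} : Set G)) = ⊤ := by
  classical
  haveI : Fact (Nat.Prime 2) := ⟨Nat.prime_two⟩
  obtain ⟨S, hSC⟩ := exists_sylow_le_centralizer z hz
  set C := Subgroup.centralizer ({z} : Set G) with hC
  have hidx : ¬ 2 ∣ C.index := fun hd =>
    S.not_dvd_index (dvd_trans hd (Subgroup.index_dvd_of_le hSC))
  have hfus : ∀ (h : ↥C) (g : G), g⁻¹ * (h : G) * g ∈ C →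
      ∃ c : ↥C, g⁻¹ * (h : G) * g = ((c⁻¹ * h * c : ↥C) : G) := by
    intro h g hg
    have hx : Commute (h : G) z := (Subgroup.mem_centralizer_singleton_iff.mp h.2)
    have hy : Commute (g⁻¹ * (h : G) * g) z := (Subgroup.mem_centralizer_singleton_iff.mp hg)
    obtain ⟨c, -, hcz, hc⟩ := Cfsg.Agent.S1182.result z hz ⊤
      (by rw [Subgroup.normalizer_eq_top]; exact Subgroup.mem_top z) (h : G) (g⁻¹ * (h : G) * g)
      (Subgroup.mem_top _) (Subgroup.mem_top _) hx hy g⁻¹ (Subgroup.mem_top _) (by rw [inv_inv])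
    have hcC : c ∈ C := Subgroup.mem_centralizer_singleton_iff.mpr hcz
    refine ⟨⟨c, hcC⟩⁻¹, ?_⟩
    rw [← hc]
    simp
  have hT := Cfsg.Agent.Lib.Helper7.TransferStable.pResidual_subgroupOf_le_of_stable C hidx hfus
  constructor
  · intro h
    rw [eq_top_iff]
    refine le_trans ?_ hT
    rw [h]
    intro x _
    exact Subgroup.mem_subgroupOf.mpr (Subgroup.mem_top _)
  · intro h
    have h1 : C ≤ Cfsg.pResidual 2 G := by
      refine le_trans ?_ (Cfsg.Agent.Lib.Helper7.TransferStable.map_pResidual_le 2 C)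
      rw [h]
      intro x hx
      exact ⟨⟨x, hx⟩, Subgroup.mem_top _, rfl⟩
    have h2 := Cfsg.Agent.H1.pResidual_sup_sylow S
    rw [← h2]
    exact (sup_eq_left.mpr (hSC.trans h1)).symm

end Cfsg.Agent.S1183
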