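import Cfsg.Statements.S1189
import Cfsg.Agent.Lib.Lead.QDOrders
import Mathlib

set_option autoImplicit false
set_option linter.style.haveILetI false
set_option linter.unusedVariables false
open Cfsg

namespace Cfsg.Agent.S1189

open Cfsg.Agent.Lead.QD

/-- the data of an abstract quasi-dihedral group -/
theorem exists_dat {S : Type*} [Group S] (hS : Cfsg.IsQuasiDihedral S) :
    ∃ (n : ℕ) (x y : S), Dat n x y (⊤ : Subgroup S) := by
  obtain ⟨n, hn, hcard, x, y, hx, hy, hxy⟩ := hS
  exact ⟨n, x, y, ⟨hn, hx, hy, hxy, Subgroup.mem_top x, Subgroup.mem_top y, by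
    rw [Subgroup.card_top]; exact hcard⟩⟩

/-- A quasi-dihedral 2-group has exactly two conjugacy classes of elements of order 2 and exactly two conjugacy classes of elements of order 4. -/
theorem result {S : Type*} [Group S] [Finite S] (hS : Cfsg.IsQuasiDihedral S) : Nat.card {C : ConjClasses S // ∃ t : S, orderOf t = 2 ∧ ConjClasses.mk t = C} = 2 ∧ Nat.card {C : ConjClasses S // ∃ t : S, orderOf t = 4 ∧ ConjClasses.mk t = C} = 2 := by
  obtain ⟨n, x, y, h⟩ := exists_dat hS
  have hy0 : y * P n x 0 = y := by rw [P_zero, mul_one]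
  constructor
  · rw [Nat.card_eq_two_iff]
    refine ⟨⟨ConjClasses.mk (P n x (c n)), P n x (c n), orderOf_z h, rfl⟩,
      ⟨ConjClasses.mk y, y, h.oy, rfl⟩, ?_, ?_⟩
    · intro hab
      have h1 := congrArg Subtype.val hab
      simp only at h1
      rw [ConjClasses.mk_eq_mk_iff_isConj, isConj_iff] at h1
      obtain ⟨g, hg⟩ := h1
      have h2 := z_comm h g (Subgroup.mem_top g)
      rw [h2, mul_inv_cancel_right] at hg
      exact y_ne_P h 0 (c n) (by rw [hy0]; exact hg.symm)
    · rw [Set.eq_univ_iff_forall]
      rintro ⟨C, t, ht, rfl⟩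
      rcases mem_cases h t (Subgroup.mem_top t) with ⟨i, rfl⟩ | ⟨i, rfl⟩
      · left
        rw [orderOf_P_two h] at ht
        subst ht
        rfl
      · right
        rcases orderOf_yP_cases h i with ⟨hi, -⟩ | ⟨-, ho⟩
        · obtain ⟨j, hj⟩ := exists_conj_yP h i 0 (by linear_combination (-1 : ZMod (2 ^ n)) * hi)
          rw [hy0] at hj
          rw [Set.mem_singleton_iff]
          apply Subtype.ext
          simp only
          rw [ConjClasses.mk_eq_mk_iff_isConj, isConj_iff]
          exact ⟨_, hj⟩
        · rw [ho] at ht; omega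
  · rw [Nat.card_eq_two_iff]
    have ho1 : orderOf (y * P n x 1) = 4 := orderOf_yP_odd h 1 (by rw [mul_one])
    refine ⟨⟨ConjClasses.mk (P n x (d n)), P n x (d n), (orderOf_P_four h _).2 (Or.inl rfl), rfl⟩,
      ⟨ConjClasses.mk (y * P n x 1), y * P n x 1, ho1, rfl⟩, ?_, ?_⟩
    · intro hab
      have h1 := congrArg Subtype.val hab
      simp only at h1
      rw [ConjClasses.mk_eq_mk_iff_isConj, isConj_iff] at h1
      obtain ⟨g, hg⟩ := h1
      rcases mem_cases h g (Subgroup.mem_top g) with ⟨j, rfl⟩ | ⟨j, rfl⟩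
      · rw [P_comm h, mul_inv_cancel_right] at hg
        exact y_ne_P h _ _ hg.symm
      · rw [yP_conj_P h] at hg
        exact y_ne_P h _ _ hg.symm
    · rw [Set.eq_univ_iff_forall]
      rintro ⟨C, t, ht, rfl⟩
      rcases mem_cases h t (Subgroup.mem_top t) with ⟨i, rfl⟩ | ⟨i, rfl⟩
      · left
        rw [orderOf_P_four h] at ht
        rcases ht with rfl | rfl
        · rfl
        · apply Subtype.ext
          simp only
          rw [ConjClasses.mk_eq_mk_iff_isConj, isConj_iff]
          refine ⟨y, ?_⟩
          rw [conj_P h]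
          congr 1
          have h1 := c_mul_d h.hn
          have h2 := c_sq h.hn
          have h3 := two_d h.hn
          have h4 := two_c h.hn
          linear_combination h1 + h2 - h3 - h4
      · right
        rcases orderOf_yP_cases h i with ⟨-, ho⟩ | ⟨hi, -⟩
        · rw [ho] at ht; omega
        · obtain ⟨j, hj⟩ := exists_conj_yP h i 1 (by linear_combination (-1 : ZMod (2 ^ n)) * hi)
          rw [Set.mem_singleton_iff]
          apply Subtype.ext
          simp only
          rw [ConjClasses.mk_eq_mk_iff_isConj, isConj_iff]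
          exact ⟨_, hj⟩

end Cfsg.Agent.S1189
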