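import Cfsg.Statements.S1190
import Cfsg.Agent.Lib.Lead.QDQuat
import Cfsg.Agent.S1189
import Mathlib

set_option autoImplicit false
set_option linter.style.haveILetI false
set_option linter.unusedVariables false
open Cfsg

namespace Cfsg.Agent.S1190

open Cfsg.Agent.Lead.QD

/-- In a quasi-dihedral 2-group S, any two Klein four-subgroups are conjugate, and every Klein four-subgroup T satisfies C_S(T) = T and |N_S(T) : T| = 2. -/
theorem result {S : Type*} [Group S] [Finite S] (hS : Cfsg.IsQuasiDihedral S) : (∀ T₁ T₂ : Subgroup S, IsKleinFour T₁ → IsKleinFour T₂ → ∃ s : S, T₁.map (MulAut.conj s).toMonoidHom = T₂) ∧ (∀ T : Subgroup S, IsKleinFour T → Subgroup.centralizer (T : Set S) = T ∧ T.relIndex (Subgroup.normalizer (T : Set S)) = 2) := by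
  obtain ⟨n, x, y, h⟩ := Cfsg.Agent.S1189.exists_dat hS
  constructor
  · intro T₁ T₂ hT₁ hT₂
    obtain ⟨hc1, he1⟩ := klein_facts T₁ hT₁
    obtain ⟨hc2, he2⟩ := klein_facts T₂ hT₂
    obtain ⟨i1, hi1, hT1⟩ := four_eq h T₁ le_top hc1 he1
    obtain ⟨i2, hi2, hT2⟩ := four_eq h T₂ le_top hc2 he2
    obtain ⟨s, -, hs⟩ := exists_conj_of_Hs h T₁ T₂ i1 i2 2 hT1 hT2
      (by linear_combination hi2 - hi1) (by rw [hc1, hc2])
    exact ⟨s, hs⟩
  · intro T hT
    haveI := hT
    obtain ⟨hc, he⟩ := klein_facts T hT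
    obtain ⟨i, hi, hTi⟩ := four_eq h T le_top hc he
    constructor
    · have := cent_four h T le_top he i hTi
      rwa [top_inf_eq] at this
    · have := relIndex_four h T le_top he i hTi
      rwa [top_inf_eq] at this

end Cfsg.Agent.S1190
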