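import Cfsg.Statements.S1191
import Cfsg.Agent.Lib.Lead.QDQuat
import Cfsg.Agent.S1189
import Mathlib

set_option autoImplicit false
set_option linter.style.haveILetI false
set_option linter.unusedVariables false
open Cfsg

namespace Cfsg.Agent.S1191

open Cfsg.Agent.Lead.QD

/-- In a quasi-dihedral 2-group S, any two subgroups isomorphic to the quaternion group of order 8 are conjugate, and each such subgroup Q satisfies C_S(Q) = Z(Q) and |N_S(Q) : Q| = 2. -/
theorem result {S : Type*} [Group S] [Finite S] (hS : Cfsg.IsQuasiDihedral S) : (∀ Q₁ Q₂ : Subgroup S, Nonempty (Q₁ ≃* QuaternionGroup 2) → Nonempty (Q₂ ≃* QuaternionGroup 2) → ∃ s : S, Q₁.map (MulAut.conj s).toMonoidHom = Q₂) ∧ (∀ Q : Subgroup S, Nonempty (Q ≃* QuaternionGroup 2) → Subgroup.centralizer (Q : Set S) = (Subgroup.center Q).map Q.subtype ∧ Q.relIndex (Subgroup.normalizer (Q : Set S)) = 2) := by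
  obtain ⟨n, x, y, h⟩ := Cfsg.Agent.S1189.exists_dat hS
  constructor
  · rintro Q₁ Q₂ ⟨e1⟩ ⟨e2⟩
    obtain ⟨hc1, hx1, hn1, hu1, -⟩ := quat_facts Q₁ e1
    obtain ⟨hc2, hx2, hn2, hu2, -⟩ := quat_facts Q₂ e2
    obtain ⟨i1, hi1, hQ1⟩ := quat_eq h Q₁ le_top hc1 hx1 hn1 hu1
    obtain ⟨i2, hi2, hQ2⟩ := quat_eq h Q₂ le_top hc2 hx2 hn2 hu2
    obtain ⟨s, -, hs⟩ := exists_conj_of_Hs h Q₁ Q₂ i1 i2 4 hQ1 hQ2
      (by linear_combination hi2 - hi1) (by rw [hc1, hc2])
    exact ⟨s, hs⟩
  · rintro Q ⟨e⟩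
    obtain ⟨hc, hx, hn, hu, hA⟩ := quat_facts Q e
    obtain ⟨i, hi, hQi⟩ := quat_eq h Q le_top hc hx hn hu
    have hmem : ∀ g, g ∈ Q ↔ g ∈ Hs n x y i 4 := by
      intro g; rw [← hQi]; rfl
    have hfourc : 4 * c n = 0 := by
      have := two_c h.hn
      linear_combination 2 * this
    have hzQ : P n x (c n) ∈ Q := (hmem _).2 ⟨c n, hfourc, Or.inl rfl⟩
    constructor
    · apply le_antisymm
      · intro g hg
        have hgQ : g ∈ Q := by
          rcases cent_quat h Q i hQi g (Subgroup.mem_top g) hg with rfl | rfl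
          · exact Q.one_mem
          · exact hzQ
        refine ⟨⟨g, hgQ⟩, ?_, rfl⟩
        rw [SetLike.mem_coe, Subgroup.mem_center_iff]
        intro t
        apply Subtype.ext
        exact (Subgroup.mem_centralizer_iff.1 hg) t t.2
      · rintro _ ⟨q, hq, rfl⟩
        rw [Subgroup.mem_centralizer_iff]
        intro t ht
        have := (Subgroup.mem_center_iff.1 hq) ⟨t, ht⟩
        exact congrArg Subtype.val this
    · have := relIndex_quat h Q le_top hc hA i hQi
      rwa [top_inf_eq] at this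

end Cfsg.Agent.S1191
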