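import Mathlib
import Cfsg.Statements.S1192
import Cfsg.Agent.H2.QuasiDihedral

set_option autoImplicit false
open Cfsg

namespace Cfsg.Agent.S1192

open Cfsg.Agent.H2 Cfsg.Agent.H2.MaxClassSub

/-- A quasi-dihedral group S of order 2^(n+1) has exactly three maximal subgroups; one is cyclic, one is isomorphic to the generalized quaternion group of order 2^n and one to the dihedral group of order 2^n. -/
theorem result {S : Type*} [Group S] [Finite S] (hS : Cfsg.IsQuasiDihedral S) (n : ℕ) (hn : Nat.card S = 2 ^ (n + 1)) : ∃ M₁ M₂ M₃ : Subgroup S, IsCoatom M₁ ∧ IsCoatom M₂ ∧ IsCoatom M₃ ∧ M₁ ≠ M₂ ∧ M₁ ≠ M₃ ∧ M₂ ≠ M₃ ∧ (∀ M : Subgroup S, IsCoatom M → M = M₁ ∨ M = M₂ ∨ M = M₃) ∧ IsCyclic M₁ ∧ Nonempty (M₂ ≃* QuaternionGroup (2 ^ (n - 2))) ∧ Nonempty (M₃ ≃* DihedralGroup (2 ^ (n - 1))) := by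
  obtain ⟨M, hM, hcard, hidx, x, y, hx, hy, hyA, hconj⟩ := QuasiDih.exists_data hS
  have hMn : M = n + 1 := by
    rw [hcard] at hn
    exact Nat.pow_right_injective (le_refl 2) hn
  subst hMn
  have hM3 : 3 ≤ n + 1 := by omega
  have h12 : n + 1 - 2 = n - 1 := by omega
  have h13 : n + 1 - 3 = n - 2 := by omega
  have hxc := not_mem_commutator_self (n + 1) hM3 hcard hidx x hx
  have hyc := not_mem_commutator_of_not_mem (n + 1) hM3 hcard hidx x hx y hyA y hyA
  have hyxA := mul_not_mem (n + 1) hM3 hcard hidx x hx y hyA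
  have hyxc := not_mem_commutator_of_not_mem (n + 1) hM3 hcard hidx x hx y hyA _ hyxA
  obtain ⟨hne1, hne2, hne3⟩ := Msub_ne (n + 1) hM3 hcard hidx x hx y hyA
  refine ⟨Msub x, Msub (y * x), Msub y,
    isCoatom_of_index_two _ (index_Msub (n + 1) hM3 hcard hidx x hxc),
    isCoatom_of_index_two _ (index_Msub (n + 1) hM3 hcard hidx _ hyxc),
    isCoatom_of_index_two _ (index_Msub (n + 1) hM3 hcard hidx y hyc),
    hne2, hne1, hne3.symm, ?_, ?_, ?_, ?_⟩
  · intro K hK
    rcases coatom_cases (n + 1) hM3 hcard hidx x hx y hyA K hK with h | h | h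
    · exact Or.inl h
    · exact Or.inr (Or.inr h)
    · exact Or.inr (Or.inl h)
  · rw [Msub_self (n + 1) hM3 hcard hidx x hx y hyA]
    infer_instance
  · rw [← h13]
    exact QuasiDih.quaternion_Msub (n + 1) hM hcard hidx x y hx hy hyA hconj
  · rw [← h12]
    exact QuasiDih.dihedral_Msub (n + 1) hM hcard hidx x y hx hy hyA hconj

end Cfsg.Agent.S1192
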