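import Mathlib
import Cfsg.Statements.S1193
import Cfsg.Agent.H2.QuasiDihedral

set_option autoImplicit false
open Cfsg

namespace Cfsg.Agent.S1193

open Cfsg.Agent.H2

/-- Let S be quasi-dihedral of order 2^(n+1). Then S' = Φ(S) is cyclic of order 2^(n-1), the centre of S has order 2, and the subgroup generated by the involutions of S is dihedral of order 2^n. -/
theorem result {S : Type*} [Group S] [Finite S] (hS : Cfsg.IsQuasiDihedral S) (n : ℕ) (hn : Nat.card S = 2 ^ (n + 1)) : commutator S = frattini S ∧ IsCyclic (commutator S) ∧ Nat.card (commutator S) = 2 ^ (n - 1) ∧ Nat.card (Subgroup.center S) = 2 ∧ Nonempty (↥(Subgroup.closure {x : S | orderOf x = 2}) ≃* DihedralGroup (2 ^ (n - 1))) := by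
  obtain ⟨M, hM, hcard, hidx, x, y, hx, hy, hyA, hconj⟩ := QuasiDih.exists_data hS
  have hMn : M = n + 1 := by
    rw [hcard] at hn
    exact Nat.pow_right_injective (le_refl 2) hn
  subst hMn
  have hM3 : 3 ≤ n + 1 := by omega
  have h12 : n + 1 - 2 = n - 1 := by omega
  refine ⟨MaxClassSub.commutator_eq_frattini (n + 1) hM3 hcard hidx, ?_, ?_, ?_, ?_⟩
  · rw [MaxClassSub.commutator_eq_zpowers_sq (n + 1) hM3 hcard hidx x hx]
    infer_instance
  · rw [MaxClassTwo.card_commutator (n + 1) hM3 hcard hidx, h12]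
  · exact (MaxClassSub.center_eq (n + 1) hM3 hcard hidx x hx y hyA).2
  · rw [QuasiDih.closure_involutions (n + 1) hM hcard hidx x y hx hy hyA hconj, ← h12]
    exact QuasiDih.dihedral_Msub (n + 1) hM hcard hidx x y hx hy hyA hconj

end Cfsg.Agent.S1193
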