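import Mathlib
import Cfsg.Statements.S1195
import Cfsg.Agent.H2.WreathedInv

set_option autoImplicit false
open Cfsg

namespace Cfsg.Agent.S1195

open Cfsg.Agent.H2

/-- A wreathed 2-group has exactly three conjugacy classes of elements of order 2. -/
theorem result {S : Type*} [Group S] [Finite S] (hS : Cfsg.IsWreathed S) : Nat.card {C : ConjClasses S // ∃ t : S, orderOf t = 2 ∧ ConjClasses.mk t = C} = 3 := by
  obtain ⟨m, hm, hcard, x, y, z, hx, hxy, hint, hz, hzx⟩ := hS
  exact Wreathed.card_involution_classes m hm hcard x y z hx hxy hint hz hzx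

end Cfsg.Agent.S1195
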