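import Cfsg.Statements.S1196
import Mathlib
import Cfsg.Agent.Lib.Lead.Wreathed

set_option autoImplicit false
set_option linter.style.haveILetI false
set_option linter.unusedVariables false
open Cfsg

namespace Cfsg.Agent.S1196

/-- A wreathed 2-group S of order 2^(2n+1) has a unique commutative subgroup of order 2^(2n), and this subgroup is isomorphic to the direct product of two cyclic groups of order 2^n. -/
theorem result {S : Type*} [Group S] [Finite S] (hS : Cfsg.IsWreathed S) (n : ℕ) (hn : Nat.card S = 2 ^ (2 * n + 1)) : (∃! U : Subgroup S, IsMulCommutative U ∧ Nat.card U = 2 ^ (2 * n)) ∧ ∀ U : Subgroup S, IsMulCommutative U → Nat.card U = 2 ^ (2 * n) → Nonempty (U ≃* Multiplicative (ZMod (2 ^ n) × ZMod (2 ^ n))) := by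
  obtain ⟨m, x, y, z, h⟩ := Cfsg.Agent.Lead.Wr.exists_dat hS
  have hmn : m = n := by
    have h1 := h.card
    rw [hn] at h1
    have := Nat.pow_right_injective (le_refl 2) h1
    omega
  subst hmn
  refine ⟨⟨Cfsg.Agent.Lead.Wr.U h, ⟨Cfsg.Agent.Lead.Wr.U_comm h, Cfsg.Agent.Lead.Wr.card_U h⟩, ?_⟩, ?_⟩
  · rintro W ⟨hW, hc⟩
    exact Cfsg.Agent.Lead.Wr.unique_U h W hW hc
  · intro W hW hc
    have hWU := Cfsg.Agent.Lead.Wr.unique_U h W hW hc
    exact ⟨(MulEquiv.subgroupCongr hWU).trans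
      (MulEquiv.ofBijective (Cfsg.Agent.Lead.Wr.Uhom h) (Cfsg.Agent.Lead.Wr.Uhom_bij h)).symm⟩

end Cfsg.Agent.S1196
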