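import Mathlib
import Cfsg.Statements.S1197
import Cfsg.Agent.H2.Wreathed

set_option autoImplicit false
open Cfsg

namespace Cfsg.Agent.S1197

open Cfsg.Agent.H2

/-- Let S be a wreathed 2-group of order 2^(2n+1). Then Z(S) is cyclic of order 2^n, the derived subgroup S' is cyclic of order 2^n, and S/Z(S) is isomorphic to the dihedral group of order 2^(n+1). -/
theorem result {S : Type*} [Group S] [Finite S] (hS : Cfsg.IsWreathed S) (n : ℕ) (hn : Nat.card S = 2 ^ (2 * n + 1)) : IsCyclic (Subgroup.center S) ∧ Nat.card (Subgroup.center S) = 2 ^ n ∧ IsCyclic (commutator S) ∧ Nat.card (commutator S) = 2 ^ n ∧ Nonempty (S ⧸ Subgroup.center S ≃* DihedralGroup (2 ^ n)) := by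
  obtain ⟨m, hm, hcard, x, y, z, hx, hxy, hint, hz, hzx⟩ := hS
  have hmn : m = n := by
    rw [hcard] at hn
    have := Nat.pow_right_injective (le_refl 2) hn
    omega
  subst hmn
  have hcen := Wreathed.center_eq m hm hcard x y z hx hxy hint hz hzx
  have hcomm := Wreathed.commutator_eq m hm hcard x y z hx hxy hint hz hzx
  refine ⟨?_, ?_, ?_, ?_, Wreathed.center_quotient_dihedral m hm hcard x y z hx hxy hint hz hzx⟩
  · rw [hcen]; infer_instance
  · rw [hcen, Nat.card_zpowers, Wreathed.orderOf_xy m x y z hx hxy hint hzx]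
  · rw [hcomm]; infer_instance
  · rw [hcomm, Nat.card_zpowers, Wreathed.orderOf_c m x y z hx hxy hint hzx]

end Cfsg.Agent.S1197
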