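import Cfsg.Statements.S1198
import Mathlib
import Cfsg.Agent.Lib.Lead.Wreathed

set_option autoImplicit false
set_option linter.style.haveILetI false
set_option linter.unusedVariables false
open Cfsg

namespace Cfsg.Agent.S1198

/-- A wreathed 2-group S has a normal Klein four-subgroup T such that every Klein four-subgroup of S other than T is conjugate in S to any other such subgroup; in particular S has exactly two conjugacy classes of Klein four-subgroups. -/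
theorem result {S : Type*} [Group S] [Finite S] (hS : Cfsg.IsWreathed S) : ∃ T : Subgroup S, IsKleinFour T ∧ T.Normal ∧ (∃ T₀ : Subgroup S, IsKleinFour T₀ ∧ T₀ ≠ T) ∧ ∀ T₁ T₂ : Subgroup S, IsKleinFour T₁ → IsKleinFour T₂ → T₁ ≠ T → T₂ ≠ T → ∃ s : S, T₁.map (MulAut.conj s).toMonoidHom = T₂ := by
  obtain ⟨n, x, y, z, h⟩ := Cfsg.Agent.Lead.Wr.exists_dat hS
  refine ⟨Cfsg.Agent.Lead.Wr.T n x y, Cfsg.Agent.Lead.Wr.isKleinFour_T h,
    Cfsg.Agent.Lead.Wr.T_normal h, Cfsg.Agent.Lead.Wr.exists_other h, ?_⟩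
  intro T₁ T₂ h1 h2 hne1 hne2
  obtain ⟨a, rfl⟩ := Cfsg.Agent.Lead.Wr.klein_ne_T h T₁ h1 hne1
  obtain ⟨b, rfl⟩ := Cfsg.Agent.Lead.Wr.klein_ne_T h T₂ h2 hne2
  refine ⟨Cfsg.Agent.Lead.Wr.A n x y (a - b) 0, ?_⟩
  rw [MonoidHom.map_closure, Set.image_pair]
  have e1 : (MulAut.conj (Cfsg.Agent.Lead.Wr.A n x y (a - b) 0)).toMonoidHom
      (z * Cfsg.Agent.Lead.Wr.A n x y a (-a)) = z * Cfsg.Agent.Lead.Wr.A n x y b (-b) :=
    Cfsg.Agent.Lead.Wr.conj_gen h a b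
  have e2 : (MulAut.conj (Cfsg.Agent.Lead.Wr.A n x y (a - b) 0)).toMonoidHom
      (Cfsg.Agent.Lead.Wr.A n x y (Cfsg.Agent.Lead.QD.c n) (Cfsg.Agent.Lead.QD.c n))
      = Cfsg.Agent.Lead.Wr.A n x y (Cfsg.Agent.Lead.QD.c n) (Cfsg.Agent.Lead.QD.c n) :=
    Cfsg.Agent.Lead.Wr.conj_cc h _
  rw [e1, e2]

end Cfsg.Agent.S1198
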