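import Mathlib
import Cfsg.Statements.S1200
import Cfsg.Agent.H2.WreathedOmega

set_option autoImplicit false
open Cfsg

namespace Cfsg.Agent.S1200

open Cfsg.Agent.H2

/-- Let S be a wreathed 2-group of order 2^(2n+1) and Ω the subgroup generated by its involutions. Then Ω has order 2^(n+2) and S/Ω is cyclic: some s ∈ S together with Ω generates S. -/
theorem result {S : Type*} [Group S] [Finite S] (hS : Cfsg.IsWreathed S) (n : ℕ) (hn : Nat.card S = 2 ^ (2 * n + 1)) : Nat.card (Subgroup.closure {x : S | orderOf x = 2}) = 2 ^ (n + 2) ∧ ∃ s : S, Subgroup.closure {x : S | orderOf x = 2} ⊔ Subgroup.zpowers s = ⊤ := by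
  obtain ⟨m, hm, hcard, x, y, z, hx, hxy, hint, hz, hzx⟩ := hS
  have hmn : m = n := by
    rw [hcard] at hn
    have := Nat.pow_right_injective (le_refl 2) hn
    omega
  subst hmn
  rw [Wreathed.closure_involutions m hm hcard x y z hx hxy hint hz hzx]
  exact ⟨Wreathed.card_Om m hm hcard x y z hx hxy hint hz hzx,
    x, Wreathed.Om_sup_zpowers m hm hcard x y z hx hxy hint hz hzx⟩

end Cfsg.Agent.S1200
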