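import Mathlib
import Cfsg.Statements.S1201
import Cfsg.Agent.H2.Wreathed

set_option autoImplicit false
open Cfsg

namespace Cfsg.Agent.S1201

open Cfsg.Agent.H2

/-- If X is a non-commutative subgroup of a wreathed 2-group S, then Z(X) ≤ Z(S). -/
theorem result {S : Type*} [Group S] [Finite S] (hS : Cfsg.IsWreathed S) (X : Subgroup S) (hX : ¬ IsMulCommutative X) : (Subgroup.center X).map X.subtype ≤ Subgroup.center S := by
  obtain ⟨m, hm, hcard, x, y, z, hx, hxy, hint, hz, hzx⟩ := hS
  exact Wreathed.center_le_of_not_comm (Wreathed.Mab x y)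
    (Wreathed.index_Mab m hcard x y z hx hxy hint hzx) (Wreathed.Mab_comm x y hxy) X hX

end Cfsg.Agent.S1201
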