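import Mathlib
import Cfsg.Statements.S1217

set_option autoImplicit false
open scoped MatrixGroups
open Cfsg

namespace Cfsg.Agent.S1217


section Part0

variable {Γ : Type*} [Group Γ] [Finite Γ]

/-- a 2-subgroup embeds into any given Sylow 2-subgroup -/
theorem exists_embedding (H : Subgroup Γ) (hH : IsPGroup 2 H) (P : Sylow 2 Γ) :
    ∃ f : H →* (P : Subgroup Γ), Function.Injective f := by
  obtain ⟨Q, hHQ⟩ := hH.exists_le_sylow
  obtain ⟨g, hg⟩ := MulAction.exists_smul_eq Γ Q P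
  have hmem : ∀ h : H, g * (h : Γ) * g⁻¹ ∈ (P : Subgroup Γ) := by
    intro h
    rw [← hg, Sylow.coe_subgroup_smul]
    have := Subgroup.smul_mem_pointwise_smul (h : Γ) (MulAut.conj g) _ (hHQ h.2)
    rwa [MulAut.smul_def, MulAut.conj_apply] at this
  refine ⟨{ toFun := fun h => ⟨g * (h : Γ) * g⁻¹, hmem h⟩
            map_one' := by apply Subtype.ext; simp
            map_mul' := fun a b => by apply Subtype.ext; simp [mul_assoc] }, ?_⟩
  intro a b hab
  have := congrArg Subtype.val hab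
  simp only [MonoidHom.coe_mk, OneHom.coe_mk] at this
  apply Subtype.ext
  have h1 : g * (a : Γ) * g⁻¹ = g * (b : Γ) * g⁻¹ := this
  have h2 := mul_right_cancel h1
  exact mul_left_cancel h2

theorem isPGroup_zpowers (x : Γ) (n : ℕ) (hx : orderOf x = 2 ^ n) :
    IsPGroup 2 (Subgroup.zpowers x) := by
  apply IsPGroup.of_card (n := n)
  rw [Nat.card_zpowers, hx]

theorem mem_normalizer_of_involution (K : Subgroup Γ) (z : Γ) (hz : z * z = 1)
    (h : ∀ k ∈ K, z * k * z⁻¹ ∈ K) : z ∈ Subgroup.normalizer (K : Set Γ) := by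
  rw [Subgroup.mem_normalizer_iff]
  intro k
  refine ⟨h k, fun hk => ?_⟩
  have hz' : z⁻¹ = z := inv_eq_of_mul_eq_one_left hz
  have := h _ hk
  have e : z * (z * k * z⁻¹) * z⁻¹ = k := by
    rw [hz']
    calc z * (z * k * z) * z = (z * z) * k * (z * z) := by group
      _ = k := by rw [hz, one_mul, mul_one]
  rwa [e] at this

theorem quasiDihedral_of (P : Sylow 2 Γ) (n : ℕ) (hn : 3 ≤ n)
    (hcard : Nat.card (P : Subgroup Γ) = 2 ^ (n + 1)) (x y : Γ) (hx : orderOf x = 2 ^ n)
    (hy : orderOf y = 2) (hxy : y * x * y⁻¹ = x ^ (2 ^ (n - 1) - 1)) :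
    IsQuasiDihedral (P : Subgroup Γ) := by
  have hyy : y * y = 1 := by
    rw [← pow_two, ← hy]; exact pow_orderOf_eq_one y
  have hnorm : y ∈ Subgroup.normalizer (Subgroup.zpowers x : Set Γ) := by
    apply mem_normalizer_of_involution _ _ hyy
    intro k hk
    obtain ⟨i, rfl⟩ := Subgroup.mem_zpowers_iff.mp hk
    have : y * x ^ i * y⁻¹ = (y * x * y⁻¹) ^ i := by
      rw [← MulAut.conj_apply, ← MulAut.conj_apply, map_zpow]
    rw [this, hxy]
    exact Subgroup.zpow_mem _ (Subgroup.pow_mem _ (Subgroup.mem_zpowers x) _) _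
  have hH : IsPGroup 2 (Subgroup.zpowers y ⊔ Subgroup.zpowers x : Subgroup Γ) :=
    IsPGroup.to_sup_of_normal_right' (isPGroup_zpowers y 1 (by rw [hy, pow_one]))
      (isPGroup_zpowers x n hx) (by rw [Subgroup.zpowers_le]; exact hnorm)
  obtain ⟨f, hf⟩ := exists_embedding _ hH P
  have hxH : x ∈ Subgroup.zpowers y ⊔ Subgroup.zpowers x :=
    (le_sup_right : Subgroup.zpowers x ≤ _) (Subgroup.mem_zpowers x)
  have hyH : y ∈ Subgroup.zpowers y ⊔ Subgroup.zpowers x :=
    (le_sup_left : Subgroup.zpowers y ≤ _) (Subgroup.mem_zpowers y)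
  refine ⟨n, hn, hcard, f ⟨x, hxH⟩, f ⟨y, hyH⟩, ?_, ?_, ?_⟩
  · rw [orderOf_injective f hf, Subgroup.orderOf_mk, hx]
  · rw [orderOf_injective f hf, Subgroup.orderOf_mk, hy]
  · rw [← map_inv, ← map_mul, ← map_mul, ← map_pow]
    congr 1
    apply Subtype.ext
    exact hxy

theorem wreathed_of (P : Sylow 2 Γ) (n : ℕ) (hn : 2 ≤ n)
    (hcard : Nat.card (P : Subgroup Γ) = 2 ^ (2 * n + 1)) (x y z : Γ) (hx : orderOf x = 2 ^ n)
    (hxy : x * y = y * x) (hdisj : Subgroup.zpowers x ⊓ Subgroup.zpowers y = ⊥)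
    (hz : orderOf z = 2) (hzx : z * x * z⁻¹ = y) :
    IsWreathed (P : Subgroup Γ) := by
  have hzz : z * z = 1 := by
    rw [← pow_two, ← hz]; exact pow_orderOf_eq_one z
  have hz' : z⁻¹ = z := inv_eq_of_mul_eq_one_left hzz
  have hzy : z * y * z⁻¹ = x := by
    rw [← hzx, hz']
    calc z * (z * x * z) * z = (z * z) * x * (z * z) := by group
      _ = x := by rw [hzz, one_mul, mul_one]
  have hy : orderOf y = 2 ^ n := by
    rw [← hzx, ← hx]
    have := (MulAut.conj z).orderOf_eq x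
    rwa [MulAut.conj_apply] at this
  -- `⟨x⟩⟨y⟩` is a 2-group
  have hnorm1 : x ∈ Subgroup.normalizer (Subgroup.zpowers y : Set Γ) := by
    rw [Subgroup.mem_normalizer_iff]
    intro k
    constructor
    · intro hk
      obtain ⟨i, rfl⟩ := Subgroup.mem_zpowers_iff.mp hk
      have : x * y ^ i * x⁻¹ = y ^ i := by
        have hc : Commute x (y ^ i) := (show Commute x y from hxy).zpow_right i
        rw [hc.eq, mul_inv_cancel_right]
      rw [this]; exact hk
    · intro hk
      obtain ⟨i, hi⟩ := Subgroup.mem_zpowers_iff.mp hk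
      have hc : Commute x (y ^ i) := (show Commute x y from hxy).zpow_right i
      have : k = y ^ i := by
        have h1 : k = x⁻¹ * (x * k * x⁻¹) * x := by group
        rw [h1, ← hi, mul_assoc, ← hc.eq, inv_mul_cancel_left]
      rw [this]
      exact Subgroup.zpow_mem _ (Subgroup.mem_zpowers y) _
  have hA : IsPGroup 2 (Subgroup.zpowers x ⊔ Subgroup.zpowers y : Subgroup Γ) :=
    IsPGroup.to_sup_of_normal_right' (isPGroup_zpowers x n hx) (isPGroup_zpowers y n hy)
      (by rw [Subgroup.zpowers_le]; exact hnorm1)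
  have hnorm2 : z ∈ Subgroup.normalizer
      ((Subgroup.zpowers x ⊔ Subgroup.zpowers y : Subgroup Γ) : Set Γ) := by
    apply mem_normalizer_of_involution _ _ hzz
    intro k hk
    have hmap : (Subgroup.zpowers x ⊔ Subgroup.zpowers y).map (MulAut.conj z).toMonoidHom
        = Subgroup.zpowers x ⊔ Subgroup.zpowers y := by
      rw [Subgroup.map_sup, MonoidHom.map_zpowers, MonoidHom.map_zpowers]
      have e1 : (MulAut.conj z).toMonoidHom x = y := by simpa using hzx
      have e2 : (MulAut.conj z).toMonoidHom y = x := by simpa using hzy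
      rw [e1, e2, sup_comm]
    rw [← hmap]
    exact ⟨k, hk, by simp⟩
  have hH : IsPGroup 2 (Subgroup.zpowers z ⊔ (Subgroup.zpowers x ⊔ Subgroup.zpowers y) :
      Subgroup Γ) :=
    IsPGroup.to_sup_of_normal_right' (isPGroup_zpowers z 1 (by rw [hz, pow_one])) hA
      (by rw [Subgroup.zpowers_le]; exact hnorm2)
  obtain ⟨f, hf⟩ := exists_embedding _ hH P
  have hxH : x ∈ Subgroup.zpowers z ⊔ (Subgroup.zpowers x ⊔ Subgroup.zpowers y) :=
    (le_sup_right : Subgroup.zpowers x ⊔ Subgroup.zpowers y ≤ _)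
      ((le_sup_left : Subgroup.zpowers x ≤ _) (Subgroup.mem_zpowers x))
  have hyH : y ∈ Subgroup.zpowers z ⊔ (Subgroup.zpowers x ⊔ Subgroup.zpowers y) :=
    (le_sup_right : Subgroup.zpowers x ⊔ Subgroup.zpowers y ≤ _)
      ((le_sup_right : Subgroup.zpowers y ≤ _) (Subgroup.mem_zpowers y))
  have hzH : z ∈ Subgroup.zpowers z ⊔ (Subgroup.zpowers x ⊔ Subgroup.zpowers y) :=
    (le_sup_left : Subgroup.zpowers z ≤ _) (Subgroup.mem_zpowers z)
  refine ⟨n, hn, hcard, f ⟨x, hxH⟩, f ⟨y, hyH⟩, f ⟨z, hzH⟩, ?_, ?_, ?_, ?_, ?_⟩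
  · rw [orderOf_injective f hf, Subgroup.orderOf_mk, hx]
  · rw [← map_mul, ← map_mul]
    congr 1
    apply Subtype.ext
    exact hxy
  · rw [eq_bot_iff]
    intro w hw
    obtain ⟨⟨i, hi⟩, ⟨j, hj⟩⟩ := hw
    rw [Subgroup.mem_bot]
    have hi' : f (⟨x, hxH⟩ ^ i) = w := by rw [map_zpow]; exact hi
    have hj' : f (⟨y, hyH⟩ ^ j) = w := by rw [map_zpow]; exact hj
    have h1 : (⟨x, hxH⟩ : ↥(Subgroup.zpowers z ⊔ (Subgroup.zpowers x ⊔ Subgroup.zpowers y))) ^ i
        = ⟨y, hyH⟩ ^ j := hf (hi'.trans hj'.symm)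
    have h2 : x ^ i = y ^ j := by
      have := congrArg Subtype.val h1
      simpa using this
    have h3 : x ^ i ∈ Subgroup.zpowers x ⊓ Subgroup.zpowers y :=
      ⟨Subgroup.zpow_mem _ (Subgroup.mem_zpowers x) _,
        h2 ▸ Subgroup.zpow_mem _ (Subgroup.mem_zpowers y) _⟩
    rw [hdisj, Subgroup.mem_bot] at h3
    rw [← hi']
    have : (⟨x, hxH⟩ : ↥(Subgroup.zpowers z ⊔ (Subgroup.zpowers x ⊔ Subgroup.zpowers y))) ^ i
        = 1 := by
      apply Subtype.ext
      simpa using h3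
    rw [this, map_one]
  · rw [orderOf_injective f hf, Subgroup.orderOf_mk, hz]
  · rw [← map_inv, ← map_mul, ← map_mul]
    congr 1
    apply Subtype.ext
    exact hzx

end Part0

section Part1

theorem fact_two_of_mod_four (m : ℕ) (h : m % 4 = 2) : m.factorization 2 = 1 := by
  obtain ⟨k, rfl⟩ : ∃ k, m = 2 * k := ⟨m / 2, by omega⟩
  have hk : k % 2 = 1 := by omega
  have hk0 : k ≠ 0 := by rintro rfl; simp at hk
  rw [Nat.factorization_mul (by norm_num) hk0, Finsupp.add_apply,
    Nat.Prime.factorization_self Nat.prime_two,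
    Nat.factorization_eq_zero_of_not_dvd (by omega)]

theorem fact_two_of_odd (m : ℕ) (h : m % 2 = 1) : m.factorization 2 = 0 :=
  Nat.factorization_eq_zero_of_not_dvd (by omega)

theorem sq_sub_one (q : ℕ) (hq : 1 ≤ q) : q ^ 2 - 1 = (q - 1) * (q + 1) := by
  obtain ⟨k, rfl⟩ : ∃ k, q = k + 1 := ⟨q - 1, by omega⟩
  apply Nat.sub_eq_of_eq_add
  rw [Nat.add_sub_cancel]; ring

theorem sq_sub_self (q : ℕ) (hq : 1 ≤ q) : q ^ 2 - q = q * (q - 1) := by
  obtain ⟨k, rfl⟩ : ∃ k, q = k + 1 := ⟨q - 1, by omega⟩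
  apply Nat.sub_eq_of_eq_add
  rw [Nat.add_sub_cancel]; ring

theorem v2_case1 (q : ℕ) (h : q % 4 = 1) (hq : 1 < q) :
    2 ≤ (q - 1).factorization 2 ∧
      ((q ^ 2 - 1) * (q ^ 2 - q)).factorization 2 = 2 * (q - 1).factorization 2 + 1 := by
  have h0 : q - 1 ≠ 0 := by omega
  constructor
  · rw [← Nat.Prime.pow_dvd_iff_le_factorization Nat.prime_two h0]
    norm_num
    omega
  · rw [sq_sub_one q (by omega), sq_sub_self q (by omega),
      Nat.factorization_mul (Nat.mul_ne_zero h0 (by omega)) (Nat.mul_ne_zero (by omega) h0),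
      Nat.factorization_mul h0 (by omega), Nat.factorization_mul (by omega) h0]
    simp only [Finsupp.add_apply]
    rw [fact_two_of_mod_four (q + 1) (by omega), fact_two_of_odd q (by omega)]
    ring

theorem v2_case3 (q : ℕ) (h : q % 4 = 3) :
    3 ≤ (q ^ 2 - 1).factorization 2 ∧
      ((q ^ 2 - 1) * (q ^ 2 - q)).factorization 2 = (q ^ 2 - 1).factorization 2 + 1 ∧
      q % 2 ^ (q ^ 2 - 1).factorization 2
        = (2 ^ ((q ^ 2 - 1).factorization 2 - 1) - 1) % 2 ^ (q ^ 2 - 1).factorization 2 ∧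
      ¬ 2 ^ (q ^ 2 - 1).factorization 2 ∣ q - 1 := by
  have h0 : q - 1 ≠ 0 := by omega
  have h1 : (q - 1).factorization 2 = 1 := fact_two_of_mod_four _ (by omega)
  have hq1 : q + 1 ≠ 0 := by omega
  have h2 : 2 ≤ (q + 1).factorization 2 := by
    rw [← Nat.Prime.pow_dvd_iff_le_factorization Nat.prime_two hq1]
    norm_num
    omega
  have hn : (q ^ 2 - 1).factorization 2 = 1 + (q + 1).factorization 2 := by
    rw [sq_sub_one q (by omega), Nat.factorization_mul h0 hq1, Finsupp.add_apply, h1]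
  refine ⟨by omega, ?_, ?_, ?_⟩
  · rw [Nat.factorization_mul (by rw [sq_sub_one q (by omega)]; exact Nat.mul_ne_zero h0 hq1)
      (by rw [sq_sub_self q (by omega)]; exact Nat.mul_ne_zero (by omega) h0), Finsupp.add_apply,
      sq_sub_self q (by omega), Nat.factorization_mul (by omega) h0, Finsupp.add_apply, h1,
      fact_two_of_odd q (by omega)]
  · rw [hn]
    set a := (q + 1).factorization 2 with ha
    have hdecomp := Nat.ordProj_mul_ordCompl_eq_self (q + 1) 2
    have hodd := Nat.not_dvd_ordCompl Nat.prime_two hq1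
    rw [← ha] at hdecomp hodd
    set m := (q + 1) / 2 ^ a with hm
    obtain ⟨k, hk⟩ : ∃ k, m = 2 * k + 1 := ⟨m / 2, by omega⟩
    have e1 : 1 + a - 1 = a := by omega
    rw [e1]
    have e2 : q = 2 ^ (1 + a) * k + (2 ^ a - 1) := by
      have h3 : q + 1 = 2 ^ a * (2 * k + 1) := by rw [← hk]; exact hdecomp.symm
      have h4 : 1 ≤ 2 ^ a := Nat.one_le_two_pow
      have h5 : 2 ^ (1 + a) * k = 2 ^ a * (2 * k) := by rw [pow_add]; ring
      have h6 : 2 ^ a * (2 * k + 1) = 2 ^ a * (2 * k) + 2 ^ a := by ring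
      omega
    conv_lhs => rw [e2]
    rw [Nat.mul_add_mod]
  · intro hdvd
    have := (Nat.Prime.pow_dvd_iff_le_factorization Nat.prime_two h0).mp hdvd
    omega

end Part1

section Part2

open Matrix

/-- units of prescribed order in a finite field -/
theorem exists_unit_order {K : Type*} [Field K] [Finite K] (d : ℕ) (hd : d ∣ Nat.card K - 1) :
    ∃ ζ : Kˣ, orderOf ζ = d := by
  obtain ⟨γ, hγ⟩ := IsCyclic.exists_ofOrder_eq_natCard (α := Kˣ)
  rw [Nat.card_units] at hγ
  have hpos : 0 < Nat.card K - 1 := by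
    have := Finite.one_lt_card (α := K)
    omega
  obtain ⟨e, he⟩ := hd
  have he0 : e ≠ 0 := by rintro rfl; rw [mul_zero] at he; omega
  have hd0 : d ≠ 0 := by rintro rfl; rw [zero_mul] at he; omega
  refine ⟨γ ^ e, ?_⟩
  rw [orderOf_pow_of_dvd he0 (by rw [hγ, he]; exact dvd_mul_left e d), hγ, he,
    Nat.mul_div_cancel _ (Nat.pos_of_ne_zero he0)]

variable {F : Type*} [Field F]

/-- the diagonal matrix `diag(a, b)` -/
def dgm (a b : Fˣ) : GL (Fin 2) F :=
  ⟨!![(a : F), 0; 0, (b : F)], !![((a⁻¹ : Fˣ) : F), 0; 0, ((b⁻¹ : Fˣ) : F)],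
    by simp [Matrix.mul_fin_two, Matrix.one_fin_two],
    by simp [Matrix.mul_fin_two, Matrix.one_fin_two]⟩

theorem dgm_mul (a b c d : Fˣ) : dgm a b * dgm c d = dgm (a * c) (b * d) := by
  apply Units.ext
  simp [dgm, Matrix.mul_fin_two]

theorem dgm_one : dgm (1 : Fˣ) 1 = 1 := by
  apply Units.ext
  simp [dgm, Matrix.one_fin_two]

/-- the two coordinate embeddings of `Fˣ` -/
def dg1 : Fˣ →* GL (Fin 2) F where
  toFun a := dgm a 1
  map_one' := dgm_one
  map_mul' a b := by rw [dgm_mul, one_mul]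

def dg2 : Fˣ →* GL (Fin 2) F where
  toFun a := dgm 1 a
  map_one' := dgm_one
  map_mul' a b := by rw [dgm_mul, one_mul]

theorem dgm_inj {a b c d : Fˣ} (h : dgm a b = dgm c d) : a = c ∧ b = d := by
  have h1 := congrArg (fun g : GL (Fin 2) F => (g : Matrix (Fin 2) (Fin 2) F)) h
  simp only [dgm] at h1
  constructor
  · apply Units.ext
    have := congrFun (congrFun h1 0) 0
    simpa using this
  · apply Units.ext
    have := congrFun (congrFun h1 1) 1
    simpa using this

theorem dg1_injective : Function.Injective (dg1 (F := F)) := fun _ _ h => (dgm_inj h).1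

/-- the swap matrix -/
def swp : GL (Fin 2) F :=
  ⟨!![0, 1; 1, 0], !![0, 1; 1, 0], by simp [Matrix.mul_fin_two, Matrix.one_fin_two],
    by simp [Matrix.mul_fin_two, Matrix.one_fin_two]⟩

theorem swp_mul_self : (swp : GL (Fin 2) F) * swp = 1 := by
  apply Units.ext
  simp [swp, Matrix.mul_fin_two, Matrix.one_fin_two]

theorem swp_ne_one : (swp : GL (Fin 2) F) ≠ 1 := by
  intro h
  have h1 := congrArg (fun g : GL (Fin 2) F => (g : Matrix (Fin 2) (Fin 2) F) 0 0) h
  simp [swp] at h1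

theorem swp_conj (a b : Fˣ) : swp * dgm a b * swp⁻¹ = dgm b a := by
  have : (swp : GL (Fin 2) F)⁻¹ = swp := inv_eq_of_mul_eq_one_left swp_mul_self
  rw [this]
  apply Units.ext
  simp [swp, dgm, Matrix.mul_fin_two]

theorem case_one [Fintype F] (P : Sylow 2 (GL (Fin 2) F)) (h : Fintype.card F % 4 = 1) :
    IsWreathed (P : Subgroup (GL (Fin 2) F)) := by
  classical
  have hq1 : 1 < Fintype.card F := Fintype.one_lt_card
  obtain ⟨hn, hv⟩ := v2_case1 _ h hq1
  set n := (Fintype.card F - 1).factorization 2 with hndef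
  have hcard : Nat.card (P : Subgroup (GL (Fin 2) F)) = 2 ^ (2 * n + 1) := by
    rw [Sylow.card_eq_multiplicity, Matrix.card_GL_field, Fin.prod_univ_two]
    simp only [Fin.val_zero, Fin.val_one, pow_zero, pow_one]
    rw [hv]
  have hdvd : 2 ^ n ∣ Nat.card F - 1 := by
    rw [Nat.card_eq_fintype_card]
    exact Nat.ordProj_dvd _ 2
  obtain ⟨ζ, hζ⟩ := exists_unit_order (K := F) (2 ^ n) hdvd
  apply wreathed_of P n hn hcard (dg1 ζ) (dg2 ζ) swp
  · rw [orderOf_injective dg1 dg1_injective, hζ]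
  · show dgm ζ 1 * dgm 1 ζ = dgm 1 ζ * dgm ζ 1
    rw [dgm_mul, dgm_mul, mul_one, one_mul]
  · rw [eq_bot_iff]
    intro w hw
    obtain ⟨⟨i, hi⟩, ⟨j, hj⟩⟩ := hw
    rw [Subgroup.mem_bot]
    have hi' : dg1 (ζ ^ i) = w := by rw [map_zpow]; exact hi
    have hj' : dg2 (ζ ^ j) = w := by rw [map_zpow]; exact hj
    have h1 : dgm (ζ ^ i) 1 = dgm 1 (ζ ^ j) := hi'.trans hj'.symm
    obtain ⟨h2, -⟩ := dgm_inj h1
    rw [← hi', h2, map_one]
  · exact orderOf_eq_prime (by rw [pow_two]; exact swp_mul_self) swp_ne_one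
  · exact swp_conj ζ 1

end Part2

section Part3

open Matrix

variable {F : Type*} [Field F]

theorem case_three [Fintype F] (P : Sylow 2 (GL (Fin 2) F)) (h : Fintype.card F % 4 = 3) :
    IsQuasiDihedral (P : Subgroup (GL (Fin 2) F)) := by
  classical
  obtain ⟨p, hp⟩ := CharP.exists F
  haveI : Fact p.Prime := ⟨CharP.char_is_prime F p⟩
  obtain ⟨hn, hv, hmod, hndvd⟩ := v2_case3 _ h
  set q := Fintype.card F with hq
  set n := (q ^ 2 - 1).factorization 2 with hndef
  have hcard : Nat.card (P : Subgroup (GL (Fin 2) F)) = 2 ^ (n + 1) := by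
    rw [Sylow.card_eq_multiplicity, Matrix.card_GL_field, Fin.prod_univ_two]
    simp only [Fin.val_zero, Fin.val_one, pow_zero, pow_one]
    rw [← hq, hv]
  -- the quadratic extension
  let K := FiniteField.Extension F p 2
  have hKcard : Nat.card K = q ^ 2 := by
    rw [FiniteField.natCard_extension, Nat.card_eq_fintype_card]
  have hdvd : 2 ^ n ∣ Nat.card K - 1 := by
    rw [hKcard]
    exact Nat.ordProj_dvd _ 2
  obtain ⟨ξ, hξ⟩ := exists_unit_order (K := K) (2 ^ n) hdvd
  let φ : K ≃ₐ[F] K := FiniteField.Extension.frob F p 2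
  have hφ : ∀ v : K, φ v = v ^ q := by
    intro v
    rw [FiniteField.Extension.frob_apply, Nat.card_eq_fintype_card]
  have hφφ : ∀ v : K, φ (φ v) = v := by
    intro v
    rw [hφ, hφ, ← pow_mul, ← pow_two, ← hKcard]
    haveI : Fintype K := Fintype.ofFinite K
    rw [Nat.card_eq_fintype_card]
    exact FiniteField.pow_card v
  -- the two units of `End_F(K)`
  let f : K →* Module.End F K := (Algebra.lmul F K : K →ₐ[F] Module.End F K)
  have hf : Function.Injective f := Algebra.lmul_injective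
  let X : (Module.End F K)ˣ := Units.map f ξ
  have hXv : ∀ (k : ℕ) (v : K), ((X ^ k : (Module.End F K)ˣ) : Module.End F K) v
      = (ξ : K) ^ k * v := by
    intro k v
    show ((Units.map f ξ ^ k : (Module.End F K)ˣ) : Module.End F K) v = _
    rw [← map_pow, Units.coe_map, Units.val_pow_eq_pow_val]
    rfl
  have hXord : orderOf X = 2 ^ n := by
    rw [orderOf_injective (Units.map f) (Units.map_injective hf), hξ]
  let Y : (Module.End F K)ˣ :=
    ⟨φ.toLinearMap, φ.toLinearMap, by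
      apply LinearMap.ext; intro v; exact hφφ v, by
      apply LinearMap.ext; intro v; exact hφφ v⟩
  have hYY : Y * Y = 1 := by
    apply Units.ext
    apply LinearMap.ext
    intro v
    exact hφφ v
  have hYinv : Y⁻¹ = Y := inv_eq_of_mul_eq_one_left hYY
  have hconj : Y * X * Y⁻¹ = X ^ q := by
    rw [hYinv]
    apply Units.ext
    apply LinearMap.ext
    intro v
    rw [hXv]
    show φ ((ξ : K) * φ v) = _
    rw [map_mul, hφφ, hφ]
  have hpow : X ^ q = X ^ (2 ^ (n - 1) - 1) := by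
    rw [pow_eq_pow_iff_modEq, hXord]
    exact hmod
  have hY1 : Y ≠ 1 := by
    intro hY
    rw [hY, inv_one, mul_one, one_mul] at hconj
    have h1 : X ^ (q - 1) = 1 := by
      have hq1 : 1 ≤ q := by omega
      have : X ^ q = X ^ (q - 1) * X := by rw [← pow_succ, Nat.sub_add_cancel hq1]
      rw [this] at hconj
      have h2 : X ^ (q - 1) * X = 1 * X := by rw [one_mul]; exact hconj.symm
      exact mul_right_cancel h2
    have := orderOf_dvd_of_pow_eq_one h1
    rw [hXord] at this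
    exact hndvd this
  have hYord : orderOf Y = 2 := orderOf_eq_prime (by rw [pow_two]; exact hYY) hY1
  -- transport to matrices
  let b : Module.Basis (Fin 2) F K :=
    Module.finBasisOfFinrankEq F K (FiniteField.finrank_extension F p 2)
  let ψ : (Module.End F K)ˣ ≃* GL (Fin 2) F :=
    Units.mapEquiv (LinearMap.toMatrixAlgEquiv b).toRingEquiv.toMulEquiv
  apply quasiDihedral_of P n hn hcard (ψ X) (ψ Y)
  · rw [MulEquiv.orderOf_eq, hXord]
  · rw [MulEquiv.orderOf_eq, hYord]
  · rw [← map_inv, ← map_mul, ← map_mul, ← map_pow, hconj, hpow]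

end Part3

section Part4

theorem result {F : Type*} [Field F] [Fintype F] (P : Sylow 2 (GL (Fin 2) F)) : (Fintype.card F % 4 = 3 → Cfsg.IsQuasiDihedral (P : Subgroup (GL (Fin 2) F))) ∧ (Fintype.card F % 4 = 1 → Cfsg.IsWreathed (P : Subgroup (GL (Fin 2) F))) :=
  ⟨case_three P, case_one P⟩

end Part4

end Cfsg.Agent.S1217
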