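import Mathlib
import Cfsg.Statements.S2636

set_option autoImplicit false
open Cfsg

namespace Cfsg.Agent.S2636

open Module Matrix

theorem card_fixed {F : Type*} [Field F] [Fintype F] {q₀ r : ℕ} (hr : r.Prime)
    (hF : Fintype.card F = q₀ ^ r) (σ : F ≃+* F) (hσ : orderOf σ = r) :
    Nat.card {x : F // σ x = x} = q₀ := by
  classical
  let G : Subgroup (RingAut F) := Subgroup.zpowers σ
  haveI : Finite (RingAut F) := Finite.of_injective (fun e : RingAut F => (e : F → F))
    (fun a b h => RingEquiv.ext (congrFun h))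
  letI : Fintype G := Fintype.ofFinite _
  have h1 : finrank (FixedPoints.subfield G F) F = Fintype.card G :=
    FixedPoints.finrank_eq_card G F
  have h2 : Fintype.card G = r := by
    rw [← Nat.card_eq_fintype_card, Nat.card_zpowers, hσ]
  have hmem : ∀ x : F, x ∈ FixedPoints.subfield G F ↔ σ x = x := by
    intro x
    constructor
    · intro hx
      exact hx ⟨σ, Subgroup.mem_zpowers σ⟩
    · intro hx g
      obtain ⟨g, hg⟩ := g
      obtain ⟨k, rfl⟩ := Subgroup.mem_zpowers_iff.mp hg
      show (σ ^ k) • x = x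
      clear hg
      induction k using Int.induction_on with
      | zero => simp
      | succ i ih =>
        rw [_root_.zpow_add, zpow_one, mul_smul]
        show (σ ^ (i : ℤ)) • (σ x) = x
        rw [hx]; exact ih
      | pred i ih =>
        rw [_root_.zpow_sub, zpow_one, mul_smul]
        have : σ⁻¹ • x = x := by
          show σ.symm x = x
          rw [RingEquiv.symm_apply_eq]; exact hx.symm
        rw [this]; exact ih
  have h3 : Nat.card {x : F // σ x = x} = Nat.card (FixedPoints.subfield G F) :=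
    Nat.card_congr (Equiv.subtypeEquivRight (fun x => (hmem x).symm))
  rw [h3]
  have h4 := Module.card_eq_pow_finrank (K := FixedPoints.subfield G F) (V := F)
  rw [h1, h2, hF] at h4
  rw [Nat.card_eq_fintype_card]
  exact (Nat.pow_left_injective hr.ne_zero h4).symm

section GLpart

variable {F : Type*} [Field F] (σ : F ≃+* F) (n : ℕ)

/-- entrywise `σ` on `GL` -/
noncomputable abbrev sg : GL (Fin n) F →* GL (Fin n) F :=
  Matrix.GeneralLinearGroup.map (σ : F →+* F)

theorem sg_val (g : GL (Fin n) F) : (sg σ n g).1 = g.1.map σ := rfl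

theorem sg_scalar (u : Fˣ) :
    sg σ n (Matrix.GeneralLinearGroup.scalar (Fin n) u) =
      Matrix.GeneralLinearGroup.scalar (Fin n) (Units.map (σ : F →* F) u) := by
  apply Units.ext
  ext i j
  simp only [sg_val, Matrix.GeneralLinearGroup.coe_scalar, Matrix.map_apply, Matrix.scalar_apply,
    Matrix.diagonal_apply]
  split_ifs
  · rfl
  · exact map_zero σ

theorem scalar_mul_val (u : Fˣ) (g : GL (Fin n) F) :
    (Matrix.GeneralLinearGroup.scalar (Fin n) u * g).1 = (u : F) • g.1 := by
  rw [Units.val_mul, Matrix.GeneralLinearGroup.coe_scalar, Matrix.scalar_apply,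
    ← Matrix.smul_eq_diagonal_mul]

/-- the matrices fixed by `σ` -/
noncomputable def Hfix : Subgroup (GL (Fin n) F) := (sg σ n).eqLocus (MonoidHom.id _)

theorem mem_Hfix (g : GL (Fin n) F) : g ∈ Hfix σ n ↔ sg σ n g = g := Iff.rfl

/-- the matrices mapped to a scalar multiple by `σ` -/
noncomputable def Sfix : Subgroup (GL (Fin n) F) where
  carrier := {g | ∃ u : Fˣ, sg σ n g = Matrix.GeneralLinearGroup.scalar (Fin n) u * g}
  mul_mem' := by
    rintro a b ⟨u, hu⟩ ⟨v, hv⟩
    refine ⟨u * v, ?_⟩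
    rw [map_mul, hu, hv, map_mul, mul_assoc, mul_assoc]
    congr 1
    rw [← mul_assoc, ← mul_assoc, Matrix.GeneralLinearGroup.scalar_commute]
  one_mem' := ⟨1, by simp⟩
  inv_mem' := by
    rintro a ⟨u, hu⟩
    refine ⟨u⁻¹, ?_⟩
    rw [map_inv, hu, _root_.mul_inv_rev, ← map_inv, ← Matrix.GeneralLinearGroup.scalar_commute]

theorem mem_Sfix (g : GL (Fin n) F) :
    g ∈ Sfix σ n ↔ ∃ c : F, c ≠ 0 ∧ g.1.map σ = c • g.1 := by
  constructor
  · rintro ⟨u, hu⟩
    refine ⟨u, u.ne_zero, ?_⟩
    rw [← sg_val, hu, scalar_mul_val]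
  · rintro ⟨c, hc, h⟩
    refine ⟨Units.mk0 c hc, ?_⟩
    apply Units.ext
    rw [sg_val, scalar_mul_val, h]
    rfl

theorem Hfix_le_Sfix : Hfix σ n ≤ Sfix σ n := by
  intro g hg
  refine ⟨1, ?_⟩
  rw [(mem_Hfix σ n g).mp hg]
  simp

theorem center_le_Sfix : Subgroup.center (GL (Fin n) F) ≤ Sfix σ n := by
  intro g hg
  rw [Matrix.GeneralLinearGroup.center_eq_range_scalar] at hg
  obtain ⟨v, rfl⟩ := hg
  refine ⟨Units.map (σ : F →* F) v * v⁻¹, ?_⟩
  rw [sg_scalar, ← map_mul, inv_mul_cancel_right]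

theorem Sfix_le (hn : 1 ≤ n) : Sfix σ n ≤ Hfix σ n ⊔ Subgroup.center (GL (Fin n) F) := by
  rintro g ⟨u, hu⟩
  haveI : Nonempty (Fin n) := ⟨⟨0, hn⟩⟩
  have hg0 : g.1 ≠ 0 := by
    intro h
    have h1 := g.mul_inv
    rw [h, zero_mul] at h1
    exact zero_ne_one h1
  obtain ⟨i, j, hij⟩ : ∃ i j, g.1 i j ≠ 0 := by
    by_contra hcon
    apply hg0
    ext i j
    by_contra h
    exact hcon ⟨i, j, h⟩
  let μ : Fˣ := Units.mk0 (g.1 i j) hij
  have hμ : Units.map (σ : F →* F) μ = u * μ := by
    apply Units.ext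
    have h1 := congrArg (fun M : GL (Fin n) F => M.1 i j) hu
    simp only [sg_val, scalar_mul_val, Matrix.map_apply, Matrix.smul_apply, smul_eq_mul] at h1
    exact h1
  have hh : Matrix.GeneralLinearGroup.scalar (Fin n) μ⁻¹ * g ∈ Hfix σ n := by
    rw [mem_Hfix, map_mul, sg_scalar, hu, ← mul_assoc, ← map_mul, map_inv, hμ]
    congr 2
    rw [_root_.mul_inv_rev, mul_assoc, inv_mul_cancel, mul_one]
  have hz : Matrix.GeneralLinearGroup.scalar (Fin n) μ ∈ Subgroup.center (GL (Fin n) F) := by
    rw [Matrix.GeneralLinearGroup.center_eq_range_scalar]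
    exact ⟨μ, rfl⟩
  have hg : g = (Matrix.GeneralLinearGroup.scalar (Fin n) μ⁻¹ * g) *
      Matrix.GeneralLinearGroup.scalar (Fin n) μ := by
    rw [← Matrix.GeneralLinearGroup.scalar_commute, ← mul_assoc, ← map_mul, mul_inv_cancel,
      map_one, one_mul]
  rw [hg]
  exact Subgroup.mul_mem_sup hh hz

theorem Sfix_eq (hn : 1 ≤ n) : Sfix σ n = Hfix σ n ⊔ Subgroup.center (GL (Fin n) F) :=
  le_antisymm (Sfix_le σ n hn) (sup_le (Hfix_le_Sfix σ n) (center_le_Sfix σ n))

end GLpart

section Card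

variable {F : Type*} [Field F] (σ : F ≃+* F) (n : ℕ)

/-- the fixed subfield -/
def F0 : Subfield F := (σ : F →+* F).eqLocusField (RingHom.id F)

theorem mem_F0 (x : F) : x ∈ F0 σ ↔ σ x = x := Iff.rfl

theorem scalar_injective (hn : 1 ≤ n) :
    Function.Injective (Matrix.GeneralLinearGroup.scalar (R := F) (Fin n)) := by
  intro u v huv
  apply Units.ext
  have h1 := congrArg (fun M : GL (Fin n) F => M.1 ⟨0, hn⟩ ⟨0, hn⟩) huv
  simpa [Matrix.GeneralLinearGroup.coe_scalar, Matrix.scalar_apply] using h1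

theorem card_center [Finite F] (hn : 1 ≤ n) :
    Nat.card (Subgroup.center (GL (Fin n) F)) = Nat.card F - 1 := by
  rw [Matrix.GeneralLinearGroup.center_eq_range_scalar, ← Nat.card_units]
  exact Nat.card_congr (MonoidHom.ofInjective (scalar_injective n hn)).toEquiv.symm

theorem map_subtype_injective :
    Function.Injective (Matrix.GeneralLinearGroup.map (n := Fin n) (F0 σ).subtype) := by
  intro g h hgh
  apply Units.ext
  ext i j
  have h1 := congrArg (fun M : GL (Fin n) F => M.1 i j) hgh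
  exact h1

theorem range_map_subtype :
    (Matrix.GeneralLinearGroup.map (n := Fin n) (F0 σ).subtype).range = Hfix σ n := by
  apply le_antisymm
  · rintro _ ⟨h, rfl⟩
    rw [mem_Hfix]
    apply Units.ext
    ext i j
    exact (h.1 i j).2
  · intro g hg
    rw [mem_Hfix] at hg
    have hent : ∀ i j, g.1 i j ∈ F0 σ := by
      intro i j
      have h1 := congrArg (fun M : GL (Fin n) F => M.1 i j) hg
      exact h1
    let M : Matrix (Fin n) (Fin n) (F0 σ) := fun i j => ⟨g.1 i j, hent i j⟩
    have hM : M.map (F0 σ).subtype = g.1 := by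
      ext i j; rfl
    have hdet : M.det ≠ 0 := by
      intro h0
      have h1 : (F0 σ).subtype M.det = (M.map (F0 σ).subtype).det := by
        rw [RingHom.map_det]; rfl
      rw [h0, map_zero, hM] at h1
      exact Matrix.GeneralLinearGroup.det_ne_zero g h1.symm
    refine ⟨Matrix.GeneralLinearGroup.mkOfDetNeZero M hdet, ?_⟩
    apply Units.ext
    ext i j
    rfl

theorem card_Hfix [Finite F] (q₀ : ℕ) (hq : Nat.card (F0 σ) = q₀) :
    Nat.card (Hfix σ n) = ∏ i : Fin n, (q₀ ^ n - q₀ ^ (i : ℕ)) := by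
  classical
  letI : Fintype (F0 σ) := Fintype.ofFinite _
  rw [← range_map_subtype,
    ← Nat.card_congr (MonoidHom.ofInjective (map_subtype_injective σ n)).toEquiv,
    Matrix.card_GL_field, ← Nat.card_eq_fintype_card, hq]

theorem card_center_inf [Finite F] (hn : 1 ≤ n) (q₀ : ℕ) (hq : Nat.card (F0 σ) = q₀) :
    Nat.card ↥(Subgroup.center (GL (Fin n) F) ⊓ Hfix σ n) = q₀ - 1 := by
  let ψ : (F0 σ)ˣ →* GL (Fin n) F :=
    (Matrix.GeneralLinearGroup.scalar (Fin n)).comp (Units.map (F0 σ).subtype.toMonoidHom)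
  have hψinj : Function.Injective ψ := by
    intro a b hab
    have h1 := scalar_injective n hn hab
    apply Units.ext
    apply Subtype.ext
    exact congrArg Units.val h1
  have hrange : ψ.range = Subgroup.center (GL (Fin n) F) ⊓ Hfix σ n := by
    apply le_antisymm
    · rintro _ ⟨w, rfl⟩
      refine Subgroup.mem_inf.mpr ⟨?_, ?_⟩
      · rw [Matrix.GeneralLinearGroup.center_eq_range_scalar]
        exact ⟨_, rfl⟩
      · rw [mem_Hfix]
        have hw : ψ w = Matrix.GeneralLinearGroup.scalar (Fin n)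
            (Units.map (F0 σ).subtype.toMonoidHom w) := rfl
        rw [hw, sg_scalar]
        congr 1
        apply Units.ext
        exact (w.1).2
    · intro g hg
      obtain ⟨hc, hH⟩ := Subgroup.mem_inf.mp hg
      rw [Matrix.GeneralLinearGroup.center_eq_range_scalar] at hc
      obtain ⟨v, rfl⟩ := hc
      rw [mem_Hfix, sg_scalar] at hH
      have h1 := scalar_injective n hn hH
      have hv : (v : F) ∈ F0 σ := congrArg Units.val h1
      refine ⟨Units.mk0 ⟨v, hv⟩ ?_, ?_⟩
      · intro h0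
        exact v.ne_zero (congrArg Subtype.val h0)
      · show Matrix.GeneralLinearGroup.scalar (Fin n) _ = _
        congr 1
        apply Units.ext
        rfl
  rw [← hrange, ← Nat.card_congr (MonoidHom.ofInjective hψinj).toEquiv, Nat.card_units, hq]

end Card

/-- Centraliser of a field automorphism in PGL_n: let F be the field with q = q₀^r elements, σ a field automorphism of F of prime order r (so its fixed field has q₀ elements) and n ≥ 1. The invertible matrices g whose entrywise image under σ is a scalar multiple of g — those whose coset modulo scalars is fixed by σ — number (q − 1)/(q₀ − 1) · |GL_n(q₀)|; equivalently the centraliser in PGL_n(q) of the induced automorphism has the order of PGL_n(q₀). -/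
theorem result {F : Type*} [Field F] [Fintype F] {q₀ r n : ℕ} (hr : r.Prime) (hn : 1 ≤ n) (hF : Fintype.card F = q₀ ^ r) (σ : F ≃+* F) (hσ : orderOf σ = r) : Nat.card {g : GL (Fin n) F // ∃ c : F, c ≠ 0 ∧ (g : Matrix (Fin n) (Fin n) F).map σ = c • (g : Matrix (Fin n) (Fin n) F)} = (q₀ ^ r - 1) / (q₀ - 1) * ∏ i : Fin n, (q₀ ^ n - q₀ ^ (i : ℕ)) := by
  have hq0 : Nat.card (F0 σ) = q₀ := by
    rw [← card_fixed hr hF σ hσ]
    exact Nat.card_congr (Equiv.subtypeEquivRight (fun x => mem_F0 σ x))
  have hS : Nat.card {g : GL (Fin n) F // ∃ c : F, c ≠ 0 ∧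
      (g : Matrix (Fin n) (Fin n) F).map σ = c • (g : Matrix (Fin n) (Fin n) F)} =
      Nat.card (Sfix σ n) :=
    Nat.card_congr (Equiv.subtypeEquivRight (fun g => (mem_Sfix σ n g).symm))
  rw [hS, Sfix_eq σ n hn]
  have h1 : Nat.card (Subgroup.center (GL (Fin n) F)) *
      (Subgroup.center (GL (Fin n) F)).relIndex (Hfix σ n ⊔ Subgroup.center (GL (Fin n) F)) =
      Nat.card ↥(Hfix σ n ⊔ Subgroup.center (GL (Fin n) F)) := by
    rw [← Subgroup.relIndex_bot_left, ← Subgroup.relIndex_bot_left]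
    exact Subgroup.relIndex_mul_relIndex _ _ _ bot_le le_sup_right
  have h2 : (Subgroup.center (GL (Fin n) F)).relIndex
      (Hfix σ n ⊔ Subgroup.center (GL (Fin n) F)) =
      (Subgroup.center (GL (Fin n) F)).relIndex (Hfix σ n) :=
    Subgroup.relIndex_sup_right _ _
  have h3 : Nat.card ↥(Subgroup.center (GL (Fin n) F) ⊓ Hfix σ n) *
      (Subgroup.center (GL (Fin n) F)).relIndex (Hfix σ n) = Nat.card (Hfix σ n) := by
    rw [← Subgroup.inf_relIndex_right (Subgroup.center (GL (Fin n) F)) (Hfix σ n),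
      ← Subgroup.relIndex_bot_left, ← Subgroup.relIndex_bot_left]
    exact Subgroup.relIndex_mul_relIndex _ _ _ bot_le inf_le_right
  rw [card_center n hn, Nat.card_eq_fintype_card, hF, h2] at h1
  rw [card_center_inf σ n hn q₀ hq0, card_Hfix σ n q₀ hq0] at h3
  rw [← h1, ← h3, ← mul_assoc]
  congr 1
  have hdvd : q₀ - 1 ∣ q₀ ^ r - 1 := by
    exact Nat.sub_one_dvd_pow_sub_one q₀ r
  exact (Nat.div_mul_cancel hdvd).symm

end Cfsg.Agent.S2636
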