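import Mathlib
import Cfsg.Statements.S2677
import Cfsg.Agent.S2636
import Cfsg.Agent.S0277

set_option autoImplicit false
open Cfsg

namespace Cfsg.Agent.S2677

open Matrix Cfsg.Agent.S2636

section Gen

variable {F : Type*} [Field F] [Fintype F] {q : ℕ}

/-- membership in `GU` via orthonormality of the columns -/
theorem mem_GU_iff (hF : Fintype.card F = q ^ 2) (n : ℕ) (g : GL (Fin n) F) :
    g ∈ GU n F q ↔ ∀ i j, ∑ k, (g.1 k i) ^ q * g.1 k j = if i = j then 1 else 0 := by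
  obtain ⟨τ, hτ, -, -⟩ := Cfsg.Agent.S0277.exists_frob hF
  constructor
  · intro hg i j
    have h := (Cfsg.Agent.S0277.equivON hF n τ hτ ⟨g, hg⟩).2 i j
    rw [Cfsg.Agent.S0277.stdB_apply] at h
    simp only [hτ] at h
    exact h
  · intro hM u w
    show hermForm n F q (g.1 *ᵥ u) (g.1 *ᵥ w) = hermForm n F q u w
    rw [← Cfsg.Agent.S0277.stdB_eq_hermForm n τ hτ, ← Cfsg.Agent.S0277.stdB_eq_hermForm n τ hτ]
    apply Cfsg.Agent.S0277.stdB_mulVec n τ g.1
    intro i j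
    rw [Cfsg.Agent.S0277.stdB_apply]
    simp only [hτ]
    exact hM i j

theorem one_lt_q (hF : Fintype.card F = q ^ 2) : 1 < q := by
  have h1 : 1 < Fintype.card F := Fintype.one_lt_card
  rw [hF] at h1
  by_contra h
  have : q ≤ 1 := by omega
  have : q ^ 2 ≤ 1 := by nlinarith
  omega

/-- unitary scalars -/
theorem scalar_mem_GU_iff (hF : Fintype.card F = q ^ 2) (n : ℕ) (hn : 1 ≤ n) (μ : Fˣ) :
    Matrix.GeneralLinearGroup.scalar (Fin n) μ ∈ GU n F q ↔ (μ : F) ^ (q + 1) = 1 := by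
  have hq := one_lt_q hF
  rw [mem_GU_iff hF]
  have key : ∀ i j : Fin n, ∑ k, ((Matrix.GeneralLinearGroup.scalar (Fin n) μ).1 k i) ^ q *
      (Matrix.GeneralLinearGroup.scalar (Fin n) μ).1 k j =
      if i = j then (μ : F) ^ (q + 1) else 0 := by
    intro i j
    simp only [Matrix.GeneralLinearGroup.coe_scalar, Matrix.scalar_apply, Matrix.diagonal_apply]
    rw [Finset.sum_eq_single i]
    · by_cases hij : i = j
      · subst hij; simp [pow_succ]
      · simp [hij]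
    · intro k _ hk
      have hq0 : q ≠ 0 := by omega
      simp [hk, hq0]
    · intro h; exact absurd (Finset.mem_univ i) h
  constructor
  · intro h
    have := h ⟨0, hn⟩ ⟨0, hn⟩
    rw [key] at this
    simpa using this
  · intro h i j
    rw [key, h]

theorem card_unitary_scalars (hF : Fintype.card F = q ^ 2) (n : ℕ) (hn : 1 ≤ n) :
    Nat.card ↥(Subgroup.center (GL (Fin n) F) ⊓ GU n F q) = q + 1 := by
  classical
  have hq := one_lt_q hF
  have h1 := Cfsg.Agent.Lib.Helper5.HermCount.card_norm_fiber hF (1 : F)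
  rw [if_neg one_ne_zero, if_pos (one_pow q)] at h1
  rw [← h1, ← Fintype.card_subtype, ← Nat.card_eq_fintype_card]
  refine Nat.card_congr ?_
  refine Equiv.ofBijective (fun g => ⟨(g.1.1 ⟨0, hn⟩ ⟨0, hn⟩ : F), ?_⟩) ⟨?_, ?_⟩
  · obtain ⟨g, hg⟩ := g
    obtain ⟨hc, hU⟩ := Subgroup.mem_inf.mp hg
    rw [Matrix.GeneralLinearGroup.center_eq_range_scalar] at hc
    obtain ⟨μ, rfl⟩ := hc
    have := (scalar_mem_GU_iff hF n hn μ).mp hU
    simpa [Matrix.GeneralLinearGroup.coe_scalar, Matrix.scalar_apply] using this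
  · rintro ⟨g, hg⟩ ⟨g', hg'⟩ h
    obtain ⟨hc, -⟩ := Subgroup.mem_inf.mp hg
    obtain ⟨hc', -⟩ := Subgroup.mem_inf.mp hg'
    rw [Matrix.GeneralLinearGroup.center_eq_range_scalar] at hc hc'
    obtain ⟨μ, rfl⟩ := hc
    obtain ⟨μ', rfl⟩ := hc'
    have h2 : (μ : F) = μ' := by
      have := congrArg Subtype.val h
      simpa [Matrix.GeneralLinearGroup.coe_scalar, Matrix.scalar_apply] using this
    have : μ = μ' := Units.ext h2
    subst this
    rfl
  · rintro ⟨x, hx⟩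
    have hx0 : x ≠ 0 := by
      rintro rfl
      rw [zero_pow (by omega)] at hx
      exact zero_ne_one hx
    refine ⟨⟨Matrix.GeneralLinearGroup.scalar (Fin n) (Units.mk0 x hx0), ?_⟩, ?_⟩
    · refine Subgroup.mem_inf.mpr ⟨?_, ?_⟩
      · rw [Matrix.GeneralLinearGroup.center_eq_range_scalar]; exact ⟨_, rfl⟩
      · exact (scalar_mem_GU_iff hF n hn _).mpr hx
    · apply Subtype.ext
      simp [Matrix.GeneralLinearGroup.coe_scalar, Matrix.scalar_apply]

end Gen

section Main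

variable {K : Type*} [Field K] [Fintype K] {q₀ q r : ℕ} (n : ℕ) (σ : K ≃+* K)

theorem card_F0 (hr : r.Prime) (hq : q = q₀ ^ r) (hK : Fintype.card K = q ^ 2)
    (hσ : orderOf σ = r) : Nat.card (F0 σ) = q₀ ^ 2 := by
  have hK' : Fintype.card K = (q₀ ^ 2) ^ r := by
    rw [hK, hq, ← pow_mul, ← pow_mul, mul_comm]
  rw [← card_fixed hr hK' σ hσ]
  exact Nat.card_congr (Equiv.subtypeEquivRight (fun x => mem_F0 σ x))

theorem pow_q_eq (hr : r.Prime) (hr2 : r ≠ 2) (hq : q = q₀ ^ r) (hK0 : Nat.card (F0 σ) = q₀ ^ 2)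
    (x : K) (hx : x ∈ F0 σ) : x ^ q = x ^ q₀ := by
  classical
  letI : Fintype (F0 σ) := Fintype.ofFinite _
  have h1 : x ^ (q₀ ^ 2) = x := by
    have h := FiniteField.pow_card (⟨x, hx⟩ : F0 σ)
    rw [← Nat.card_eq_fintype_card, hK0] at h
    exact congrArg Subtype.val h
  have h2 : ∀ s : ℕ, x ^ ((q₀ ^ 2) ^ s) = x := by
    intro s
    induction s with
    | zero => simp
    | succ s ih => rw [pow_succ, pow_mul, ih, h1]
  obtain ⟨s, hs⟩ : ∃ s, r = 2 * s + 1 := by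
    rcases hr.eq_two_or_odd' with h | h
    · exact absurd h hr2
    · exact h
  have h3 : q = (q₀ ^ 2) ^ s * q₀ := by
    rw [hq, hs, ← pow_mul, pow_succ]
  rw [h3, pow_mul, h2]

variable (hK : Fintype.card K = q ^ 2) (hK0 : Nat.card (F0 σ) = q₀ ^ 2)
  (hpow : ∀ x : K, x ∈ F0 σ → x ^ q = x ^ q₀)

include hK hK0 hpow in
/-- a matrix over the fixed field is unitary over `K` iff it is unitary over the fixed field -/
theorem map_mem_GU_iff (h : GL (Fin n) (F0 σ)) :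
    Matrix.GeneralLinearGroup.map (F0 σ).subtype h ∈ GU n K q ↔ h ∈ GU n (F0 σ) q₀ := by
  classical
  letI : Fintype (F0 σ) := Fintype.ofFinite _
  have hF0 : Fintype.card (F0 σ) = q₀ ^ 2 := by rw [← Nat.card_eq_fintype_card, hK0]
  rw [mem_GU_iff hK, mem_GU_iff hF0]
  have key : ∀ i j : Fin n,
      ∑ k, ((Matrix.GeneralLinearGroup.map (F0 σ).subtype h).1 k i) ^ q *
        (Matrix.GeneralLinearGroup.map (F0 σ).subtype h).1 k j =
      (F0 σ).subtype (∑ k, (h.1 k i) ^ q₀ * h.1 k j) := by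
    intro i j
    rw [map_sum]
    refine Finset.sum_congr rfl (fun k _ => ?_)
    rw [map_mul, map_pow]
    show ((h.1 k i : K)) ^ q * (h.1 k j : K) = _
    rw [hpow _ (h.1 k i).2]
    rfl
  constructor
  · intro hg i j
    have := hg i j
    rw [key] at this
    apply (F0 σ).subtype.injective
    rw [this]
    split_ifs <;> simp
  · intro hg i j
    rw [key, hg i j]
    split_ifs <;> simp

include hK hK0 hpow in
theorem map_GU_eq :
    (GU n (F0 σ) q₀).map (Matrix.GeneralLinearGroup.map (F0 σ).subtype) =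
      Hfix σ n ⊓ GU n K q := by
  apply le_antisymm
  · rintro _ ⟨h, hh, rfl⟩
    refine Subgroup.mem_inf.mpr ⟨?_, ?_⟩
    · rw [← range_map_subtype]; exact ⟨h, rfl⟩
    · exact (map_mem_GU_iff n σ hK hK0 hpow h).mpr hh
  · intro g hg
    obtain ⟨hH, hU⟩ := Subgroup.mem_inf.mp hg
    rw [← range_map_subtype] at hH
    obtain ⟨h, rfl⟩ := hH
    exact ⟨h, (map_mem_GU_iff n σ hK hK0 hpow h).mp hU, rfl⟩

include hK hK0 hpow in
theorem map_center_GU_eq :
    (Subgroup.center (GL (Fin n) (F0 σ)) ⊓ GU n (F0 σ) q₀).map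
      (Matrix.GeneralLinearGroup.map (F0 σ).subtype) =
      (Subgroup.center (GL (Fin n) K) ⊓ GU n K q) ⊓ (Hfix σ n ⊓ GU n K q) := by
  apply le_antisymm
  · rintro _ ⟨h, hh, rfl⟩
    obtain ⟨hc, hU⟩ := Subgroup.mem_inf.mp hh
    have h1 : Matrix.GeneralLinearGroup.map (F0 σ).subtype h ∈ Hfix σ n ⊓ GU n K q := by
      rw [← map_GU_eq n σ hK hK0 hpow]; exact ⟨h, hU, rfl⟩
    refine Subgroup.mem_inf.mpr ⟨Subgroup.mem_inf.mpr ⟨?_, (Subgroup.mem_inf.mp h1).2⟩, h1⟩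
    rw [Matrix.GeneralLinearGroup.center_eq_range_scalar] at hc ⊢
    obtain ⟨μ, rfl⟩ := hc
    refine ⟨Units.map (F0 σ).subtype.toMonoidHom μ, ?_⟩
    apply Units.ext
    ext i j
    simp only [Matrix.GeneralLinearGroup.coe_scalar, Matrix.scalar_apply, Matrix.diagonal_apply,
      Matrix.GeneralLinearGroup.map_apply]
    split_ifs
    · rfl
    · simp
  · intro g hg
    obtain ⟨hZ, hHU⟩ := Subgroup.mem_inf.mp hg
    rw [← map_GU_eq n σ hK hK0 hpow] at hHU
    obtain ⟨h, hh, rfl⟩ := hHU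
    refine ⟨h, Subgroup.mem_inf.mpr ⟨?_, hh⟩, rfl⟩
    rw [Subgroup.mem_center_iff]
    intro x
    apply map_subtype_injective σ n
    rw [map_mul, map_mul]
    exact Subgroup.mem_center_iff.mp (Subgroup.mem_inf.mp hZ).1 _

end Main

section Main2

variable {K : Type*} [Field K] {q₀ q : ℕ} (n : ℕ) (σ : K ≃+* K)

/-- dividing by a nonzero entry lands in the fixed matrices -/
theorem exists_scalar_mul_mem_Hfix (hn : 1 ≤ n) (g : GL (Fin n) K) (hg : g ∈ Sfix σ n) :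
    ∃ μ : Kˣ, Matrix.GeneralLinearGroup.scalar (Fin n) μ⁻¹ * g ∈ Hfix σ n := by
  obtain ⟨u, hu⟩ := hg
  haveI : Nonempty (Fin n) := ⟨⟨0, hn⟩⟩
  have hg0 : g.1 ≠ 0 := by
    intro h
    have h1 := g.mul_inv
    rw [h, zero_mul] at h1
    exact zero_ne_one h1
  obtain ⟨i, j, hij⟩ : ∃ i j, g.1 i j ≠ 0 := by
    by_contra hcon
    apply hg0
    ext i j
    by_contra h
    exact hcon ⟨i, j, h⟩
  let μ : Kˣ := Units.mk0 (g.1 i j) hij
  have hμ : Units.map (σ : K →* K) μ = u * μ := by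
    apply Units.ext
    have h1 := congrArg (fun M : GL (Fin n) K => M.1 i j) hu
    simp only [sg_val, scalar_mul_val, Matrix.map_apply, Matrix.smul_apply, smul_eq_mul] at h1
    exact h1
  refine ⟨μ, ?_⟩
  rw [mem_Hfix, map_mul, sg_scalar, hu, ← mul_assoc, ← map_mul, map_inv, hμ]
  congr 2
  rw [_root_.mul_inv_rev, mul_assoc, inv_mul_cancel, mul_one]

theorem scalar_mem_Hfix (ν : Kˣ) (hν : (ν : K) ∈ F0 σ) :
    Matrix.GeneralLinearGroup.scalar (Fin n) ν ∈ Hfix σ n := by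
  rw [mem_Hfix, sg_scalar]
  congr 1
  apply Units.ext
  exact hν

variable [Fintype K] (hK : Fintype.card K = q ^ 2) (hK0 : Nat.card (F0 σ) = q₀ ^ 2)
  (hpow : ∀ x : K, x ∈ F0 σ → x ^ q = x ^ q₀)

include hK hK0 hpow in
theorem claimB (hn : 1 ≤ n) :
    GU n K q ⊓ Sfix σ n =
      (Hfix σ n ⊓ GU n K q) ⊔ (Subgroup.center (GL (Fin n) K) ⊓ GU n K q) := by
  classical
  have hq := one_lt_q hK
  apply le_antisymm
  · intro g hg
    obtain ⟨hU, hS⟩ := Subgroup.mem_inf.mp hg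
    obtain ⟨μ, hμ⟩ := exists_scalar_mul_mem_Hfix n σ hn g hS
    set h := Matrix.GeneralLinearGroup.scalar (Fin n) μ⁻¹ * g with hh
    -- entries
    have hent : ∀ i j, h.1 i j ∈ F0 σ := by
      intro i j
      have h1 := congrArg (fun M : GL (Fin n) K => M.1 i j) ((mem_Hfix σ n h).mp hμ)
      exact h1
    have hgh : ∀ i j, g.1 i j = (μ : K) * h.1 i j := by
      intro i j
      have : g = Matrix.GeneralLinearGroup.scalar (Fin n) μ * h := by
        rw [hh, ← mul_assoc, ← map_mul, mul_inv_cancel, map_one, one_mul]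
      rw [this, scalar_mul_val]
      rfl
    -- the norm of μ
    have hcol := (mem_GU_iff hK n g).mp hU ⟨0, hn⟩ ⟨0, hn⟩
    rw [if_pos rfl] at hcol
    have hcol2 : (μ : K) ^ (q + 1) * ∑ k, (h.1 k ⟨0, hn⟩) ^ q * h.1 k ⟨0, hn⟩ = 1 := by
      rw [← hcol, Finset.mul_sum]
      refine Finset.sum_congr rfl (fun k _ => ?_)
      rw [hgh, mul_pow]
      ring
    have hsum_mem : (∑ k, (h.1 k ⟨0, hn⟩) ^ q * h.1 k ⟨0, hn⟩) ∈ F0 σ :=
      Subfield.sum_mem _ (fun k _ => mul_mem (pow_mem (hent _ _) _) (hent _ _))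
    have hlam_mem : (μ : K) ^ (q + 1) ∈ F0 σ := by
      have h1 : (μ : K) ^ (q + 1) = (∑ k, (h.1 k ⟨0, hn⟩) ^ q * h.1 k ⟨0, hn⟩)⁻¹ :=
        eq_inv_of_mul_eq_one_left hcol2
      rw [h1]
      exact inv_mem hsum_mem
    have hlam_q : ((μ : K) ^ (q + 1)) ^ q = (μ : K) ^ (q + 1) := by
      rw [← pow_mul, add_mul, one_mul, pow_add, ← sq, ← hK, FiniteField.pow_card, pow_succ, mul_comm]
    have hlam_q0 : ((μ : K) ^ (q + 1)) ^ q₀ = (μ : K) ^ (q + 1) := by
      rw [← hpow _ hlam_mem, hlam_q]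
    -- a preimage under the norm of the fixed field
    letI : Fintype (F0 σ) := Fintype.ofFinite _
    have hF0 : Fintype.card (F0 σ) = q₀ ^ 2 := by rw [← Nat.card_eq_fintype_card, hK0]
    have hfib := Cfsg.Agent.Lib.Helper5.HermCount.card_norm_fiber hF0
      (⟨(μ : K) ^ (q + 1), hlam_mem⟩ : F0 σ)
    have hne0 : (⟨(μ : K) ^ (q + 1), hlam_mem⟩ : F0 σ) ≠ 0 := by
      intro h0
      have := congrArg Subtype.val h0
      exact pow_ne_zero _ μ.ne_zero this
    have hfix0 : (⟨(μ : K) ^ (q + 1), hlam_mem⟩ : F0 σ) ^ q₀ = ⟨(μ : K) ^ (q + 1), hlam_mem⟩ :=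
      Subtype.ext hlam_q0
    rw [if_neg hne0, if_pos hfix0] at hfib
    have hpos : 0 < (Finset.univ.filter (fun x : F0 σ => x ^ (q₀ + 1) =
        ⟨(μ : K) ^ (q + 1), hlam_mem⟩)).card := by rw [hfib]; omega
    obtain ⟨ν₀, hν₀⟩ := Finset.card_pos.mp hpos
    have hν₀' : ν₀ ^ (q₀ + 1) = ⟨(μ : K) ^ (q + 1), hlam_mem⟩ := (Finset.mem_filter.mp hν₀).2
    have hνval : ((ν₀ : K)) ^ (q + 1) = (μ : K) ^ (q + 1) := by
      rw [pow_succ, hpow _ ν₀.2, ← pow_succ]
      exact congrArg Subtype.val hν₀'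
    have hν0 : (ν₀ : K) ≠ 0 := by
      intro h0
      rw [h0, zero_pow (by omega)] at hνval
      exact pow_ne_zero _ μ.ne_zero hνval.symm
    let ν : Kˣ := Units.mk0 (ν₀ : K) hν0
    -- the unitary scalar
    have hz : Matrix.GeneralLinearGroup.scalar (Fin n) (μ * ν⁻¹) ∈
        Subgroup.center (GL (Fin n) K) ⊓ GU n K q := by
      refine Subgroup.mem_inf.mpr ⟨?_, ?_⟩
      · rw [Matrix.GeneralLinearGroup.center_eq_range_scalar]; exact ⟨_, rfl⟩
      · rw [scalar_mem_GU_iff hK n hn]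
        rw [Units.val_mul, mul_pow, Units.val_inv_eq_inv_val, inv_pow]
        show (μ : K) ^ (q + 1) * ((ν₀ : K) ^ (q + 1))⁻¹ = 1
        rw [hνval, mul_inv_cancel₀ (pow_ne_zero _ μ.ne_zero)]
    have hh2 : Matrix.GeneralLinearGroup.scalar (Fin n) ν * h ∈ Hfix σ n ⊓ GU n K q := by
      refine Subgroup.mem_inf.mpr ⟨?_, ?_⟩
      · exact Subgroup.mul_mem _ (scalar_mem_Hfix n σ ν ν₀.2) hμ
      · have : Matrix.GeneralLinearGroup.scalar (Fin n) ν * h =
            (Matrix.GeneralLinearGroup.scalar (Fin n) (μ * ν⁻¹))⁻¹ * g := by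
          have e : ν * μ⁻¹ = (μ * ν⁻¹)⁻¹ := by rw [_root_.mul_inv_rev, inv_inv]
          rw [hh, ← mul_assoc, ← map_mul, ← map_inv, e]
        rw [this]
        exact Subgroup.mul_mem _ (Subgroup.inv_mem _ (Subgroup.mem_inf.mp hz).2) hU
    have hgeq : g = (Matrix.GeneralLinearGroup.scalar (Fin n) ν * h) *
        Matrix.GeneralLinearGroup.scalar (Fin n) (μ * ν⁻¹) := by
      rw [← Matrix.GeneralLinearGroup.scalar_commute, ← mul_assoc, ← map_mul, hh, ← mul_assoc,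
        ← map_mul]
      have : μ * ν⁻¹ * ν * μ⁻¹ = 1 := by
        rw [mul_assoc μ, inv_mul_cancel, mul_one, mul_inv_cancel]
      rw [this, map_one, one_mul]
    rw [hgeq]
    exact Subgroup.mul_mem_sup hh2 hz
  · apply sup_le
    · intro g hg
      obtain ⟨hH, hU⟩ := Subgroup.mem_inf.mp hg
      exact Subgroup.mem_inf.mpr ⟨hU, Hfix_le_Sfix σ n hH⟩
    · intro g hg
      obtain ⟨hc, hU⟩ := Subgroup.mem_inf.mp hg
      exact Subgroup.mem_inf.mpr ⟨hU, center_le_Sfix σ n hc⟩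

end Main2

theorem normal_of_le_center {G : Type*} [Group G] (H : Subgroup G) (h : H ≤ Subgroup.center G) :
    H.Normal := by
  constructor
  intro z hz g
  have := Subgroup.mem_center_iff.mp (h hz) g
  rw [this, mul_inv_cancel_right]
  exact hz

theorem cast_formula (q₀ n : ℕ) (hq₀ : 1 ≤ q₀) :
    ((q₀ ^ (n * (n - 1) / 2) * ∏ i ∈ Finset.range n,
      (if Even i then q₀ ^ (i + 1) + 1 else q₀ ^ (i + 1) - 1) : ℕ) : ℤ) =
      (q₀ : ℤ) ^ (n * (n - 1) / 2) *
        ∏ i : Fin n, ((q₀ : ℤ) ^ ((i : ℕ) + 1) - (-1) ^ ((i : ℕ) + 1)) := by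
  rw [Finset.prod_range]
  push_cast
  congr 1
  refine Finset.prod_congr rfl (fun i _ => ?_)
  by_cases hi : Even (i : ℕ)
  · rw [if_pos hi]
    have : Odd ((i : ℕ) + 1) := hi.add_one
    rw [this.neg_one_pow]
    push_cast
    ring
  · rw [if_neg hi]
    have : Even ((i : ℕ) + 1) := by
      rw [Nat.not_even_iff_odd] at hi
      exact hi.add_one
    rw [this.neg_one_pow]
    have h1 : 1 ≤ q₀ ^ ((i : ℕ) + 1) := Nat.one_le_pow _ _ hq₀
    push_cast [h1]
    ring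

/-- Centraliser of a field automorphism of odd prime order in PGU_n(q): let q = q₀^r with r an odd prime, K the field with q² elements and σ a field automorphism of K of order r (fixed field of order q₀²). The elements g of GU_n(q) whose entrywise image under σ is a scalar multiple of g — those whose coset modulo the q + 1 unitary scalars is fixed by σ — number (q + 1)/(q₀ + 1) · |GU_n(q₀)|; equivalently the centraliser in PGU_n(q) of the induced automorphism has the order of PGU_n(q₀). -/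
theorem result {K : Type*} [Field K] [Fintype K] {q₀ q r n : ℕ} (hr : r.Prime) (hr2 : r ≠ 2) (hn : 1 ≤ n) (hq : q = q₀ ^ r) (hK : Fintype.card K = q ^ 2) (σ : K ≃+* K) (hσ : orderOf σ = r) : (Nat.card {g : ↥(Cfsg.GU n K q) // ∃ c : K, c ≠ 0 ∧ ((g : GL (Fin n) K) : Matrix (Fin n) (Fin n) K).map σ = c • ((g : GL (Fin n) K) : Matrix (Fin n) (Fin n) K)} : ℤ) = ((q + 1) / (q₀ + 1) : ℕ) * ((q₀ : ℤ) ^ (n * (n - 1) / 2) * ∏ i : Fin n, ((q₀ : ℤ) ^ ((i : ℕ) + 1) - (-1) ^ ((i : ℕ) + 1))) := by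
  classical
  have hK0 := card_F0 σ hr hq hK hσ
  have hpow := pow_q_eq σ hr hr2 hq hK0
  letI : Fintype (F0 σ) := Fintype.ofFinite _
  have hF0 : Fintype.card (F0 σ) = q₀ ^ 2 := by rw [← Nat.card_eq_fintype_card, hK0]
  have hq₀ : 1 < q₀ := one_lt_q hF0
  have hS : Nat.card {g : ↥(Cfsg.GU n K q) // ∃ c : K, c ≠ 0 ∧
      ((g : GL (Fin n) K) : Matrix (Fin n) (Fin n) K).map σ =
        c • ((g : GL (Fin n) K) : Matrix (Fin n) (Fin n) K)} =
      Nat.card ↥(GU n K q ⊓ Sfix σ n) := by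
    refine Nat.card_congr ?_
    refine (Equiv.subtypeEquivRight (fun (g : ↥(GU n K q)) => (mem_Sfix σ n g.1).symm)).trans ?_
    refine (Equiv.subtypeSubtypeEquivSubtypeInter (· ∈ GU n K q) (· ∈ Sfix σ n)).trans ?_
    exact Equiv.subtypeEquivRight (fun x => Subgroup.mem_inf.symm)
  rw [hS, claimB n σ hK hK0 hpow hn]
  haveI : (Subgroup.center (GL (Fin n) K) ⊓ GU n K q).Normal :=
    normal_of_le_center _ inf_le_left
  have h1 : Nat.card ↥(Subgroup.center (GL (Fin n) K) ⊓ GU n K q) *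
      (Subgroup.center (GL (Fin n) K) ⊓ GU n K q).relIndex
        ((Hfix σ n ⊓ GU n K q) ⊔ (Subgroup.center (GL (Fin n) K) ⊓ GU n K q)) =
      Nat.card ↥((Hfix σ n ⊓ GU n K q) ⊔ (Subgroup.center (GL (Fin n) K) ⊓ GU n K q)) := by
    rw [← Subgroup.relIndex_bot_left, ← Subgroup.relIndex_bot_left]
    exact Subgroup.relIndex_mul_relIndex _ _ _ bot_le le_sup_right
  have h2 : (Subgroup.center (GL (Fin n) K) ⊓ GU n K q).relIndex
      ((Hfix σ n ⊓ GU n K q) ⊔ (Subgroup.center (GL (Fin n) K) ⊓ GU n K q)) =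
      (Subgroup.center (GL (Fin n) K) ⊓ GU n K q).relIndex (Hfix σ n ⊓ GU n K q) :=
    Subgroup.relIndex_sup_right _ _
  have h3 : Nat.card ↥((Subgroup.center (GL (Fin n) K) ⊓ GU n K q) ⊓ (Hfix σ n ⊓ GU n K q)) *
      (Subgroup.center (GL (Fin n) K) ⊓ GU n K q).relIndex (Hfix σ n ⊓ GU n K q) =
      Nat.card ↥(Hfix σ n ⊓ GU n K q) := by
    rw [← Subgroup.inf_relIndex_right (Subgroup.center (GL (Fin n) K) ⊓ GU n K q)
      (Hfix σ n ⊓ GU n K q), ← Subgroup.relIndex_bot_left, ← Subgroup.relIndex_bot_left]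
    exact Subgroup.relIndex_mul_relIndex _ _ _ bot_le inf_le_right
  rw [card_unitary_scalars hK n hn, h2] at h1
  have hcA : Nat.card ↥(Hfix σ n ⊓ GU n K q) = q₀ ^ (n * (n - 1) / 2) *
      ∏ i ∈ Finset.range n, (if Even i then q₀ ^ (i + 1) + 1 else q₀ ^ (i + 1) - 1) := by
    rw [← map_GU_eq n σ hK hK0 hpow, Subgroup.card_map_of_injective (map_subtype_injective σ n),
      Cfsg.Agent.S0277.result hF0 n]
  have hcZA : Nat.card ↥((Subgroup.center (GL (Fin n) K) ⊓ GU n K q) ⊓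
      (Hfix σ n ⊓ GU n K q)) = q₀ + 1 := by
    rw [← map_center_GU_eq n σ hK hK0 hpow,
      Subgroup.card_map_of_injective (map_subtype_injective σ n),
      card_unitary_scalars hF0 n hn]
  rw [hcZA, hcA] at h3
  rw [← cast_formula q₀ n hq₀.le, ← h3, ← h1]
  have hdvd : q₀ + 1 ∣ q + 1 := by
    have hodd : Odd r := by
      rcases hr.eq_two_or_odd' with h | h
      · exact absurd h hr2
      · exact h
    have := Odd.nat_add_dvd_pow_add_pow q₀ 1 hodd
    rwa [one_pow, ← hq] at this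
  obtain ⟨t, ht⟩ := hdvd
  rw [ht, Nat.mul_div_cancel_left _ (by omega : 0 < q₀ + 1)]
  push_cast
  ring

end Cfsg.Agent.S2677
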