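import Mathlib
import Cfsg.Statements.S1218
import Cfsg.Agent.S1217
import Cfsg.Agent.S2677

set_option autoImplicit false
open scoped MatrixGroups
open Cfsg

namespace Cfsg.Agent.S1218


section Part0

open Cfsg.Agent.S1217

/-- number theory for `q ≡ 3 (mod 4)` -/
theorem v2_gu_case3 (q : ℕ) (h : q % 4 = 3) :
    2 ≤ (q + 1).factorization 2 ∧
      (q * ((q + 1) * (q ^ 2 - 1))).factorization 2 = 2 * (q + 1).factorization 2 + 1 := by
  have h0 : q - 1 ≠ 0 := by omega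
  have hq1 : q + 1 ≠ 0 := by omega
  have h1 : (q - 1).factorization 2 = 1 := fact_two_of_mod_four _ (by omega)
  constructor
  · rw [← Nat.Prime.pow_dvd_iff_le_factorization Nat.prime_two hq1]
    norm_num
    omega
  · rw [sq_sub_one q (by omega),
      Nat.factorization_mul (by omega) (Nat.mul_ne_zero hq1 (Nat.mul_ne_zero h0 hq1)),
      Nat.factorization_mul hq1 (Nat.mul_ne_zero h0 hq1), Nat.factorization_mul h0 hq1]
    simp only [Finsupp.add_apply]
    rw [h1, fact_two_of_odd q (by omega)]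
    ring

/-- number theory for `q ≡ 1 (mod 4)` -/
theorem v2_gu_case1 (q : ℕ) (h : q % 4 = 1) (hq : 1 < q) :
    3 ≤ (q ^ 2 - 1).factorization 2 ∧
      (q * ((q + 1) * (q ^ 2 - 1))).factorization 2 = (q ^ 2 - 1).factorization 2 + 1 ∧
      2 ^ (q ^ 2 - 1).factorization 2 ∣ q + (2 ^ ((q ^ 2 - 1).factorization 2 - 1) - 1) := by
  have h0 : q - 1 ≠ 0 := by omega
  have hq1 : q + 1 ≠ 0 := by omega
  have h1 : (q + 1).factorization 2 = 1 := fact_two_of_mod_four _ (by omega)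
  have h2 : 2 ≤ (q - 1).factorization 2 := by
    rw [← Nat.Prime.pow_dvd_iff_le_factorization Nat.prime_two h0]
    norm_num
    omega
  have hn : (q ^ 2 - 1).factorization 2 = (q - 1).factorization 2 + 1 := by
    rw [sq_sub_one q (by omega), Nat.factorization_mul h0 hq1, Finsupp.add_apply, h1]
  refine ⟨by omega, ?_, ?_⟩
  · rw [Nat.factorization_mul (by omega)
        (Nat.mul_ne_zero hq1 (by rw [sq_sub_one q (by omega)]; exact Nat.mul_ne_zero h0 hq1)),
      Nat.factorization_mul hq1 (by rw [sq_sub_one q (by omega)]; exact Nat.mul_ne_zero h0 hq1)]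
    simp only [Finsupp.add_apply]
    rw [h1, fact_two_of_odd q (by omega)]
    ring
  · rw [hn]
    set a := (q - 1).factorization 2 with ha
    have hdecomp := Nat.ordProj_mul_ordCompl_eq_self (q - 1) 2
    have hodd := Nat.not_dvd_ordCompl Nat.prime_two h0
    rw [← ha] at hdecomp hodd
    set m := (q - 1) / 2 ^ a with hm
    obtain ⟨k, hk⟩ : ∃ k, m = 2 * k + 1 := ⟨m / 2, by omega⟩
    have e1 : a + 1 - 1 = a := by omega
    rw [e1]
    have h4 : 1 ≤ 2 ^ a := Nat.one_le_two_pow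
    have e2 : q + (2 ^ a - 1) = 2 ^ (a + 1) * (k + 1) := by
      have h3 : q - 1 = 2 ^ a * (2 * k + 1) := by rw [← hk]; exact hdecomp.symm
      have h5 : 2 ^ (a + 1) * (k + 1) = 2 ^ a * (2 * k + 1) + 2 ^ a := by rw [pow_succ]; ring
      omega
    rw [e2]
    exact dvd_mul_right _ _

variable {F : Type*} [Field F] [Fintype F] {q : ℕ}

theorem card_GU2 (hF : Fintype.card F = q ^ 2) :
    Nat.card (Cfsg.GU 2 F q) = q * ((q + 1) * (q ^ 2 - 1)) := by
  rw [Cfsg.Agent.S0277.result hF 2]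
  simp [Finset.prod_range_succ]

theorem two_ne_zero' (hF : Fintype.card F = q ^ 2) (hq : Odd q) : (2 : F) ≠ 0 := by
  apply Ring.two_ne_zero
  intro h2
  have := FiniteField.even_card_of_char_two h2
  rw [hF] at this
  have h3 : Odd (q ^ 2) := hq.pow
  rw [Nat.odd_iff] at h3
  omega

theorem pow_card' (hF : Fintype.card F = q ^ 2) (a : F) : (a ^ q) ^ q = a := by
  rw [← pow_mul, ← pow_two, ← hF]
  exact FiniteField.pow_card a

/-- membership of a diagonal matrix -/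
theorem dgm_mem (hF : Fintype.card F = q ^ 2) (a b : Fˣ) (ha : a ^ (q + 1) = 1)
    (hb : b ^ (q + 1) = 1) : dgm a b ∈ Cfsg.GU 2 F q := by
  rw [Cfsg.Agent.S2677.mem_GU_iff hF]
  have ha' : (a : F) ^ q * a = 1 := by
    rw [← pow_succ, ← Units.val_pow_eq_pow_val, ha, Units.val_one]
  have hb' : (b : F) ^ q * b = 1 := by
    rw [← pow_succ, ← Units.val_pow_eq_pow_val, hb, Units.val_one]
  have hq0 : q ≠ 0 := by
    rintro rfl
    have := Fintype.card_pos (α := F)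
    rw [hF] at this
    simp at this
  intro i j
  fin_cases i <;> fin_cases j <;> simp [dgm, Fin.sum_univ_two, ha', hb', hq0]

theorem swp_mem (hF : Fintype.card F = q ^ 2) : (swp : GL (Fin 2) F) ∈ Cfsg.GU 2 F q := by
  rw [Cfsg.Agent.S2677.mem_GU_iff hF]
  have hq0 : q ≠ 0 := by
    rintro rfl
    have := Fintype.card_pos (α := F)
    rw [hF] at this
    simp at this
  intro i j
  fin_cases i <;> fin_cases j <;> simp [swp, Fin.sum_univ_two, hq0]

end Part0

section Part1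

open Cfsg.Agent.S1217

variable {F : Type*} [Field F] [Fintype F] {q : ℕ}

theorem dg1_mem (hF : Fintype.card F = q ^ 2) (a : Fˣ) (ha : a ^ (q + 1) = 1) :
    dg1 a ∈ Cfsg.GU 2 F q := dgm_mem hF a 1 ha (one_pow _)

theorem dg2_mem (hF : Fintype.card F = q ^ 2) (a : Fˣ) (ha : a ^ (q + 1) = 1) :
    dg2 a ∈ Cfsg.GU 2 F q := dgm_mem hF 1 a (one_pow _) ha

theorem gu_case_three (hF : Fintype.card F = q ^ 2) (P : Sylow 2 ↥(Cfsg.GU 2 F q))
    (h : q % 4 = 3) : IsWreathed (P : Subgroup ↥(Cfsg.GU 2 F q)) := by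
  classical
  obtain ⟨hn, hv⟩ := v2_gu_case3 q h
  set n := (q + 1).factorization 2 with hndef
  have hcard : Nat.card (P : Subgroup ↥(Cfsg.GU 2 F q)) = 2 ^ (2 * n + 1) := by
    rw [Sylow.card_eq_multiplicity, card_GU2 hF, hv]
  have hdvd1 : 2 ^ n ∣ q + 1 := Nat.ordProj_dvd _ 2
  have hdvd : 2 ^ n ∣ Nat.card F - 1 := by
    rw [Nat.card_eq_fintype_card, hF, sq_sub_one q (by omega)]
    exact Dvd.dvd.mul_left hdvd1 _
  obtain ⟨ζ, hζ⟩ := exists_unit_order (K := F) (2 ^ n) hdvd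
  have hζq : ζ ^ (q + 1) = 1 := by
    rw [← orderOf_dvd_iff_pow_eq_one, hζ]
    exact hdvd1
  have h1q : (1 : Fˣ) ^ (q + 1) = 1 := one_pow _
  have hx : orderOf (⟨dg1 ζ, dg1_mem hF ζ hζq⟩ : ↥(Cfsg.GU 2 F q)) = 2 ^ n := by
    rw [Subgroup.orderOf_mk, orderOf_injective dg1 dg1_injective, hζ]
  apply wreathed_of P n hn hcard ⟨dg1 ζ, dg1_mem hF ζ hζq⟩
    ⟨dg2 ζ, dg2_mem hF ζ hζq⟩ ⟨swp, swp_mem hF⟩ hx
  · apply Subtype.ext
    show dgm ζ 1 * dgm 1 ζ = dgm 1 ζ * dgm ζ 1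
    rw [dgm_mul, dgm_mul, mul_one, one_mul]
  · rw [eq_bot_iff]
    intro w hw
    obtain ⟨⟨i, hi⟩, ⟨j, hj⟩⟩ := hw
    rw [Subgroup.mem_bot]
    have hi' : dg1 (ζ ^ i) = (w : GL (Fin 2) F) := by
      rw [map_zpow]
      have := congrArg Subtype.val hi
      simpa using this
    have hj' : dg2 (ζ ^ j) = (w : GL (Fin 2) F) := by
      rw [map_zpow]
      have := congrArg Subtype.val hj
      simpa using this
    have h1 : dgm (ζ ^ i) 1 = dgm 1 (ζ ^ j) := hi'.trans hj'.symm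
    obtain ⟨h2, -⟩ := dgm_inj h1
    apply Subtype.ext
    rw [← hi', h2, map_one]
    rfl
  · rw [Subgroup.orderOf_mk]
    exact orderOf_eq_prime (by rw [pow_two]; exact swp_mul_self) swp_ne_one
  · apply Subtype.ext
    exact swp_conj ζ 1

end Part1

section Part2

open Cfsg.Agent.S1217

variable {F : Type*} [Field F]

/-- the matrix of `diag(a, d)` in the basis `(1, l), (1, -l)` -/
def mat (l a d : F) : Matrix (Fin 2) (Fin 2) F :=
  !![(a + d) / 2, (a - d) / (2 * l); l * (a - d) / 2, (a + d) / 2]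

theorem mat_mul (l : F) (hl : l ≠ 0) (h2 : (2 : F) ≠ 0) (a d a' d' : F) :
    mat l a d * mat l a' d' = mat l (a * a') (d * d') := by
  unfold mat
  rw [Matrix.mul_fin_two]
  ext i j
  fin_cases i <;> fin_cases j <;> simp <;> field_simp <;> ring

theorem mat_one (l : F) (hl : l ≠ 0) (h2 : (2 : F) ≠ 0) : mat l 1 1 = 1 := by
  unfold mat
  rw [Matrix.one_fin_two]
  ext i j
  fin_cases i <;> fin_cases j <;> simp <;> field_simp <;> norm_num

/-- the split torus as a homomorphism -/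
def tor (l : F) (hl : l ≠ 0) (h2 : (2 : F) ≠ 0) : Fˣ × Fˣ →* GL (Fin 2) F where
  toFun u := ⟨mat l u.1 u.2, mat l (u.1⁻¹ : Fˣ) (u.2⁻¹ : Fˣ), by
      rw [mat_mul l hl h2, ← Units.val_mul, ← Units.val_mul, mul_inv_cancel, mul_inv_cancel,
        Units.val_one, mat_one l hl h2], by
      rw [mat_mul l hl h2, ← Units.val_mul, ← Units.val_mul, inv_mul_cancel, inv_mul_cancel,
        Units.val_one, mat_one l hl h2]⟩
  map_one' := by
    apply Units.ext
    show mat l ((1 : Fˣ × Fˣ).1 : F) ((1 : Fˣ × Fˣ).2 : F) = 1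
    simp only [Prod.fst_one, Prod.snd_one, Units.val_one]
    exact mat_one l hl h2
  map_mul' u v := by
    apply Units.ext
    show mat l ((u * v).1 : F) ((u * v).2 : F) = mat l u.1 u.2 * mat l v.1 v.2
    rw [mat_mul l hl h2]
    simp

theorem tor_val (l : F) (hl : l ≠ 0) (h2 : (2 : F) ≠ 0) (u : Fˣ × Fˣ) :
    ((tor l hl h2 u : GL (Fin 2) F) : Matrix (Fin 2) (Fin 2) F) = mat l u.1 u.2 := rfl

theorem tor_injective (l : F) (hl : l ≠ 0) (h2 : (2 : F) ≠ 0) :
    Function.Injective (tor l hl h2) := by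
  intro u v huv
  have h := congrArg (fun g : GL (Fin 2) F => (g : Matrix (Fin 2) (Fin 2) F)) huv
  simp only [tor_val] at h
  have h00 := congrFun (congrFun h 0) 0
  have h10 := congrFun (congrFun h 1) 0
  simp only [mat, Matrix.of_apply, Matrix.cons_val_zero, Matrix.cons_val_one,
    Matrix.cons_val', Matrix.cons_val_fin_one] at h00 h10
  have e1 : (u.1 : F) + u.2 = v.1 + v.2 := by
    field_simp at h00
    exact h00
  have e2 : (u.1 : F) - u.2 = v.1 - v.2 := by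
    field_simp at h10
    exact h10
  have e3 : (u.1 : F) = v.1 := by
    have : (2 : F) * u.1 = 2 * v.1 := by linear_combination e1 + e2
    exact mul_left_cancel₀ h2 this
  have e4 : (u.2 : F) = v.2 := by
    have : (2 : F) * u.2 = 2 * v.2 := by linear_combination e1 - e2
    exact mul_left_cancel₀ h2 this
  exact Prod.ext (Units.ext e3) (Units.ext e4)

/-- conjugation by `diag(1, -1)` swaps the two coordinates of the torus -/
theorem conj_tor (l : F) (hl : l ≠ 0) (h2 : (2 : F) ≠ 0) (a d : Fˣ) :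
    dgm 1 (-1) * tor l hl h2 (a, d) * (dgm 1 (-1))⁻¹ = tor l hl h2 (d, a) := by
  have hinv : (dgm (1 : Fˣ) (-1))⁻¹ = dgm 1 (-1) := by
    apply inv_eq_of_mul_eq_one_left
    rw [dgm_mul, one_mul, neg_mul_neg, one_mul, dgm_one]
  rw [hinv]
  apply Units.ext
  rw [Units.val_mul, Units.val_mul, tor_val, tor_val]
  simp only [dgm, mat]
  rw [Matrix.mul_fin_two, Matrix.mul_fin_two]
  ext i j
  fin_cases i <;> fin_cases j <;> simp <;> ring

end Part2

section Part3

open Cfsg.Agent.S1217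

variable {F : Type*} [Field F] [Fintype F] {q : ℕ}

/-- membership in `GU₂` through the four column conditions -/
theorem mem_GU2_of (hF : Fintype.card F = q ^ 2) (σ : F →+* F) (hσ : ∀ x, σ x = x ^ q)
    (M : GL (Fin 2) F) (m00 m01 m10 m11 : F)
    (hM : (M : Matrix (Fin 2) (Fin 2) F) = !![m00, m01; m10, m11])
    (h00 : σ m00 * m00 + σ m10 * m10 = 1) (h01 : σ m00 * m01 + σ m10 * m11 = 0)
    (h10 : σ m01 * m00 + σ m11 * m10 = 0) (h11 : σ m01 * m01 + σ m11 * m11 = 1) :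
    M ∈ Cfsg.GU 2 F q := by
  rw [Cfsg.Agent.S2677.mem_GU_iff hF]
  intro i j
  rw [Fin.sum_univ_two, hM]
  simp only [← hσ]
  fin_cases i <;> fin_cases j <;> simp <;> assumption

theorem tor_mem (hF : Fintype.card F = q ^ 2) (h2 : (2 : F) ≠ 0) (l : F) (hl0 : l ≠ 0)
    (hl : l ^ q * l = -1) (a : Fˣ) :
    tor l hl0 h2 (a, (a ^ q)⁻¹) ∈ Cfsg.GU 2 F q := by
  obtain ⟨σ, hσ, -, hσσ⟩ := Cfsg.Agent.S0277.exists_frob hF
  have ha0 : (a : F) ≠ 0 := a.ne_zero
  have hB0 : σ (a : F) ≠ 0 := by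
    rw [hσ]; exact pow_ne_zero _ ha0
  have hσl : σ l = -l⁻¹ := by
    have : σ l * l = -1 := by rw [hσ]; exact hl
    field_simp
    linear_combination this
  have hd : (((a ^ q)⁻¹ : Fˣ) : F) = (σ (a : F))⁻¹ := by
    rw [Units.val_inv_eq_inv_val, Units.val_pow_eq_pow_val, hσ]
  have hσ2 : σ (2 : F) = 2 := map_ofNat σ 2
  apply mem_GU2_of hF σ hσ _ _ _ _ _ (tor_val l hl0 h2 _)
  all_goals
    simp only [hd, map_div₀, map_add, map_sub, map_mul, map_inv₀, hσσ, hσl, hσ2]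
    field_simp
    ring

end Part3

section Part4

open Cfsg.Agent.S1217

variable {F : Type*} [Field F] [Fintype F] {q : ℕ}

theorem exists_norm_neg_one (hF : Fintype.card F = q ^ 2) (hq : Odd q) :
    ∃ l : F, l ≠ 0 ∧ l ^ q * l = -1 := by
  have hq1 : 1 < q := Cfsg.Agent.S2677.one_lt_q hF
  have hdvd : 2 * (q + 1) ∣ Nat.card F - 1 := by
    rw [Nat.card_eq_fintype_card, hF, sq_sub_one q (by omega)]
    obtain ⟨k, hk⟩ := hq
    have : q - 1 = 2 * k := by omega
    rw [this]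
    exact ⟨k, by ring⟩
  obtain ⟨l, hlo⟩ := exists_unit_order (K := F) (2 * (q + 1)) hdvd
  refine ⟨(l : F), l.ne_zero, ?_⟩
  have h1 : (l ^ (q + 1)) ^ 2 = 1 := by
    rw [← pow_mul, mul_comm, ← hlo]
    exact pow_orderOf_eq_one l
  have h2 : l ^ (q + 1) ≠ 1 := by
    intro h
    have := orderOf_dvd_of_pow_eq_one h
    rw [hlo] at this
    have := Nat.le_of_dvd (by omega) this
    omega
  have h3 : ((l : F) ^ (q + 1)) ^ 2 = 1 := by
    rw [← Units.val_pow_eq_pow_val, ← Units.val_pow_eq_pow_val, h1, Units.val_one]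
  rw [← pow_succ]
  rcases sq_eq_one_iff.mp h3 with h | h
  · exfalso
    apply h2
    apply Units.ext
    rw [Units.val_pow_eq_pow_val, h, Units.val_one]
  · exact h

theorem gu_case_one (hF : Fintype.card F = q ^ 2) (hq : Odd q) (P : Sylow 2 ↥(Cfsg.GU 2 F q))
    (h : q % 4 = 1) : IsQuasiDihedral (P : Subgroup ↥(Cfsg.GU 2 F q)) := by
  classical
  have hq1 : 1 < q := Cfsg.Agent.S2677.one_lt_q hF
  obtain ⟨hn, hv, hdiv⟩ := v2_gu_case1 q h hq1
  set n := (q ^ 2 - 1).factorization 2 with hndef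
  have hcard : Nat.card (P : Subgroup ↥(Cfsg.GU 2 F q)) = 2 ^ (n + 1) := by
    rw [Sylow.card_eq_multiplicity, card_GU2 hF, hv]
  have h2 : (2 : F) ≠ 0 := two_ne_zero' hF hq
  obtain ⟨l, hl0, hl⟩ := exists_norm_neg_one hF hq
  have hdvd : 2 ^ n ∣ Nat.card F - 1 := by
    rw [Nat.card_eq_fintype_card, hF]
    exact Nat.ordProj_dvd _ 2
  obtain ⟨ξ, hξ⟩ := exists_unit_order (K := F) (2 ^ n) hdvd
  -- the embedding of `Fˣ`
  let emb : Fˣ →* Fˣ × Fˣ :=
    MonoidHom.prod (MonoidHom.id Fˣ) (invMonoidHom.comp (powMonoidHom q))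
  have hemb : ∀ a : Fˣ, emb a = (a, (a ^ q)⁻¹) := fun a => rfl
  have hembinj : Function.Injective emb := by
    intro a b hab
    have := congrArg Prod.fst hab
    exact this
  let T : Fˣ →* GL (Fin 2) F := (tor l hl0 h2).comp emb
  have hTinj : Function.Injective T := (tor_injective l hl0 h2).comp hembinj
  have hTmem : ∀ a : Fˣ, T a ∈ Cfsg.GU 2 F q := fun a => tor_mem hF h2 l hl0 hl a
  have hneg : ((-1 : Fˣ)) ^ (q + 1) = 1 := by
    obtain ⟨k, hk⟩ := hq
    have : q + 1 = 2 * (k + 1) := by omega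
    rw [this, pow_mul]
    simp
  have hYmem : dgm (1 : Fˣ) (-1) ∈ Cfsg.GU 2 F q := dgm_mem hF 1 (-1) (one_pow _) hneg
  have hYY : dgm (1 : Fˣ) (-1) * dgm 1 (-1) = 1 := by
    rw [dgm_mul, one_mul, neg_mul_neg, one_mul, dgm_one]
  have hY1 : dgm (1 : Fˣ) (-1) ≠ 1 := by
    intro hY
    rw [← dgm_one] at hY
    obtain ⟨-, h3⟩ := dgm_inj hY
    have h4 : ((-1 : Fˣ) : F) = 1 := by rw [h3, Units.val_one]
    rw [Units.val_neg, Units.val_one] at h4
    apply h2
    linear_combination -h4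
  apply quasiDihedral_of P n hn hcard ⟨T ξ, hTmem ξ⟩ ⟨dgm 1 (-1), hYmem⟩
  · rw [Subgroup.orderOf_mk, orderOf_injective T hTinj, hξ]
  · rw [Subgroup.orderOf_mk]
    exact orderOf_eq_prime (by rw [pow_two]; exact hYY) hY1
  · apply Subtype.ext
    show dgm 1 (-1) * T ξ * (dgm 1 (-1))⁻¹ = T ξ ^ (2 ^ (n - 1) - 1)
    rw [← map_pow]
    show dgm 1 (-1) * tor l hl0 h2 (emb ξ) * (dgm 1 (-1))⁻¹
      = tor l hl0 h2 (emb (ξ ^ (2 ^ (n - 1) - 1)))
    rw [hemb, hemb, conj_tor]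
    have e1 : ξ ^ (2 ^ (n - 1) - 1) = (ξ ^ q)⁻¹ := by
      rw [eq_inv_iff_mul_eq_one, ← pow_add, ← orderOf_dvd_iff_pow_eq_one, hξ, add_comm]
      exact hdiv
    have e2 : ((ξ ^ q)⁻¹ ^ q)⁻¹ = ξ := by
      rw [inv_pow, inv_inv]
      apply Units.ext
      rw [Units.val_pow_eq_pow_val, Units.val_pow_eq_pow_val]
      exact pow_card' hF _
    rw [e1, e2]

end Part4

section Part5

theorem result {F : Type*} [Field F] [Fintype F] (q : ℕ) (hF : Fintype.card F = q ^ 2) (hq : Odd q) (P : Sylow 2 ↥(Cfsg.preserving (Units.coeHom (Matrix (Fin 2) (Fin 2) F)) (Cfsg.hermForm 2 F q))) : (q % 4 = 1 → Cfsg.IsQuasiDihedral (P : Subgroup ↥(Cfsg.preserving (Units.coeHom (Matrix (Fin 2) (Fin 2) F)) (Cfsg.hermForm 2 F q)))) ∧ (q % 4 = 3 → Cfsg.IsWreathed (P : Subgroup ↥(Cfsg.preserving (Units.coeHom (Matrix (Fin 2) (Fin 2) F)) (Cfsg.hermForm 2 F q)))) :=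
  ⟨gu_case_one hF hq P, gu_case_three hF P⟩

end Part5

end Cfsg.Agent.S1218
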