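import Mathlib
import Cfsg.Statements.S1219

set_option autoImplicit false
open scoped MatrixGroups
open Cfsg

namespace Cfsg.Agent.S1219


section Part0

open Matrix

variable {F : Type*} [Field F]

/-- the diagonal signs `(1,-1,-1)` -/
def eps : Fin 3 → F := ![1, -1, -1]

/-- the diagonal matrix diag(1,-1,-1) -/
def D0 : Matrix (Fin 3) (Fin 3) F := Matrix.diagonal eps

theorem isCompl_eigen (h2 : (2:F) ≠ 0) (f : (Fin 3 → F) →ₗ[F] (Fin 3 → F)) (hff : f ∘ₗ f = LinearMap.id) :
    IsCompl (LinearMap.ker (f - LinearMap.id)) (LinearMap.ker (f + LinearMap.id)) := by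
  have hf : ∀ x, f (f x) = x := fun x => by
    have := LinearMap.congr_fun hff x
    simpa using this
  constructor
  · rw [Submodule.disjoint_def]
    intro x hx hx'
    rw [LinearMap.mem_ker] at hx hx'
    simp only [LinearMap.sub_apply, LinearMap.id_coe, id_eq, LinearMap.add_apply] at hx hx'
    have h1 : f x = x := sub_eq_zero.mp hx
    rw [h1] at hx'
    have : (2:F) • x = 0 := by rw [two_smul]; exact hx'
    rcases smul_eq_zero.mp this with h | h
    · exact absurd h h2
    · exact h
  · rw [codisjoint_iff, Submodule.eq_top_iff']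
    intro x
    rw [Submodule.mem_sup]
    refine ⟨(2:F)⁻¹ • (x + f x), ?_, (2:F)⁻¹ • (x - f x), ?_, ?_⟩
    · rw [LinearMap.mem_ker]
      simp only [LinearMap.sub_apply, LinearMap.add_apply, LinearMap.id_coe, id_eq, map_smul,
        map_add, map_sub, hf]
      rw [smul_eq_zero]
      right
      abel
    · rw [LinearMap.mem_ker]
      simp only [LinearMap.sub_apply, LinearMap.add_apply, LinearMap.id_coe, id_eq, map_smul,
        map_add, map_sub, hf]
      rw [smul_eq_zero]
      right
      abel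
    · rw [← smul_add]
      have : x + f x + (x - f x) = (2:F) • x := by rw [two_smul]; abel
      rw [this, smul_smul, inv_mul_cancel₀ h2, one_smul]

/-- the determinant of an involution in terms of the dimension of the `-1`-eigenspace -/
theorem det_of_involution (h2 : (2:F) ≠ 0) (f : (Fin 3 → F) →ₗ[F] (Fin 3 → F)) (hff : f ∘ₗ f = LinearMap.id) :
    LinearMap.det f = (-1) ^ Module.finrank F (LinearMap.ker (f + LinearMap.id)) := by
  classical
  set U := LinearMap.ker (f - LinearMap.id) with hU
  set W := LinearMap.ker (f + LinearMap.id) with hW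
  have hc : IsCompl U W := isCompl_eigen h2 f hff
  let bU := Module.finBasis F U
  let bW := Module.finBasis F W
  let b := (bU.prod bW).map (Submodule.prodEquivOfIsCompl U W hc)
  have hbl : ∀ i, b (Sum.inl i) = (bU i : Fin 3 → F) := by
    intro i
    simp only [b, Module.Basis.map_apply, Submodule.coe_prodEquivOfIsCompl', Module.Basis.prod_apply,
      Sum.elim_inl, Function.comp_apply, LinearMap.inl_apply, Submodule.coe_zero, add_zero]
  have hbr : ∀ i, b (Sum.inr i) = (bW i : Fin 3 → F) := by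
    intro i
    simp only [b, Module.Basis.map_apply, Submodule.coe_prodEquivOfIsCompl', Module.Basis.prod_apply,
      Sum.elim_inr, Function.comp_apply, LinearMap.inr_apply, Submodule.coe_zero, zero_add]
  have hfl : ∀ i, f (b (Sum.inl i)) = b (Sum.inl i) := by
    intro i
    rw [hbl]
    have h1 : (bU i : Fin 3 → F) ∈ LinearMap.ker (f - LinearMap.id) := (bU i).2
    rw [LinearMap.mem_ker, LinearMap.sub_apply, LinearMap.id_apply, sub_eq_zero] at h1
    exact h1
  have hfr : ∀ i, f (b (Sum.inr i)) = - b (Sum.inr i) := by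
    intro i
    rw [hbr]
    have h1 : (bW i : Fin 3 → F) ∈ LinearMap.ker (f + LinearMap.id) := (bW i).2
    rw [LinearMap.mem_ker, LinearMap.add_apply, LinearMap.id_apply, add_eq_zero_iff_eq_neg] at h1
    exact h1
  have hM : LinearMap.toMatrix b b f = Matrix.diagonal (Sum.elim (fun _ => (1:F)) (fun _ => (-1:F))) := by
    ext i j
    rw [LinearMap.toMatrix_apply]
    rcases j with j | j
    · rw [hfl, Module.Basis.repr_self, Matrix.diagonal_apply, Finsupp.single_apply]
      by_cases h : Sum.inl j = i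
      · subst h; simp
      · rw [if_neg h, if_neg (fun h' => h h'.symm)]
    · rw [hfr, map_neg, Module.Basis.repr_self, Matrix.diagonal_apply, Finsupp.neg_apply,
        Finsupp.single_apply]
      by_cases h : Sum.inr j = i
      · subst h; simp
      · rw [if_neg h, if_neg (fun h' => h h'.symm), neg_zero]
  rw [← LinearMap.det_toMatrix b f, hM, Matrix.det_diagonal, Fintype.prod_sum_type]
  simp

end Part0

section Part1

open Matrix

variable {F : Type*} [Field F]

theorem exists_eigenbasis (h2 : (2:F) ≠ 0) (A : Matrix (Fin 3) (Fin 3) F) (hA : A * A = 1)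
    (hdet : A.det = 1) (hne : A ≠ 1) :
    ∃ N : Matrix (Fin 3) (Fin 3) F, N.det = 1 ∧ A * N = N * D0 := by
  classical
  set f := Matrix.toLin' A with hf
  have hff : f ∘ₗ f = LinearMap.id := by rw [hf, ← Matrix.toLin'_mul, hA, Matrix.toLin'_one]
  have hc := isCompl_eigen h2 f hff
  have hdim : Module.finrank F (LinearMap.ker (f - LinearMap.id)) +
      Module.finrank F (LinearMap.ker (f + LinearMap.id)) = 3 := by
    rw [Submodule.finrank_add_eq_of_isCompl hc, Module.finrank_fin_fun]
  have hd : (-1 : F) ^ Module.finrank F (LinearMap.ker (f + LinearMap.id)) = 1 := by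
    rw [← det_of_involution h2 f hff, hf, LinearMap.det_toLin', hdet]
  have hW0 : Module.finrank F (LinearMap.ker (f + LinearMap.id)) ≠ 0 := by
    intro h0
    rw [Submodule.finrank_eq_zero] at h0
    have htop : LinearMap.ker (f - LinearMap.id) = ⊤ := by
      have := hc.sup_eq_top
      rwa [h0, sup_bot_eq] at this
    apply hne
    have : f = LinearMap.id := by
      apply LinearMap.ext
      intro x
      have hx : x ∈ (⊤ : Submodule F (Fin 3 → F)) := trivial
      rw [← htop] at hx
      rw [LinearMap.mem_ker, LinearMap.sub_apply, sub_eq_zero] at hx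
      exact hx
    rw [hf, ← Matrix.toLin'_one] at this
    exact (Matrix.toLin' : Matrix (Fin 3) (Fin 3) F ≃ₗ[F] _).injective this
  have heven : Even (Module.finrank F (LinearMap.ker (f + LinearMap.id))) := by
    by_contra hodd
    rw [Nat.not_even_iff_odd] at hodd
    rw [hodd.neg_one_pow] at hd
    apply h2
    linear_combination (-1 : F) * hd
  have hW2 : Module.finrank F (LinearMap.ker (f + LinearMap.id)) = 2 := by
    obtain ⟨k, hk⟩ := heven
    omega
  have hU1 : Module.finrank F (LinearMap.ker (f - LinearMap.id)) = 1 := by omega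
  let bU := Module.finBasisOfFinrankEq F (LinearMap.ker (f - LinearMap.id)) hU1
  let bW := Module.finBasisOfFinrankEq F (LinearMap.ker (f + LinearMap.id)) hW2
  let b0 := (bU.prod bW).map (Submodule.prodEquivOfIsCompl _ _ hc)
  let e : Fin 1 ⊕ Fin 2 ≃ Fin 3 := finSumFinEquiv
  let b := b0.reindex e
  have hbl : ∀ i, b0 (Sum.inl i) = (bU i : Fin 3 → F) := by
    intro i
    simp only [b0, Module.Basis.map_apply, Submodule.coe_prodEquivOfIsCompl', Module.Basis.prod_apply,
      Sum.elim_inl, Function.comp_apply, LinearMap.inl_apply, Submodule.coe_zero, add_zero]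
  have hbr : ∀ i, b0 (Sum.inr i) = (bW i : Fin 3 → F) := by
    intro i
    simp only [b0, Module.Basis.map_apply, Submodule.coe_prodEquivOfIsCompl', Module.Basis.prod_apply,
      Sum.elim_inr, Function.comp_apply, LinearMap.inr_apply, Submodule.coe_zero, zero_add]
  have hfl : ∀ i, f (b0 (Sum.inl i)) = b0 (Sum.inl i) := by
    intro i
    rw [hbl]
    have h1 : (bU i : Fin 3 → F) ∈ LinearMap.ker (f - LinearMap.id) := (bU i).2
    rw [LinearMap.mem_ker, LinearMap.sub_apply, LinearMap.id_apply, sub_eq_zero] at h1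
    exact h1
  have hfr : ∀ i, f (b0 (Sum.inr i)) = - b0 (Sum.inr i) := by
    intro i
    rw [hbr]
    have h1 : (bW i : Fin 3 → F) ∈ LinearMap.ker (f + LinearMap.id) := (bW i).2
    rw [LinearMap.mem_ker, LinearMap.add_apply, LinearMap.id_apply, add_eq_zero_iff_eq_neg] at h1
    exact h1
  have hb : ∀ j, f (b j) = (eps j : F) • b j := by
    intro j
    obtain ⟨s, rfl⟩ := e.surjective j
    have hbs : b (e s) = b0 s := by
      simp only [b, Module.Basis.reindex_apply, Equiv.symm_apply_apply]
    rw [hbs]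
    rcases s with i | i
    · rw [hfl]
      have : (eps (e (Sum.inl i)) : F) = (1:F) := by
        fin_cases i; rfl
      rw [this, one_smul]
    · rw [hfr]
      have : (eps (e (Sum.inr i)) : F) = (-1:F) := by
        fin_cases i <;> rfl
      rw [this, neg_smul, one_smul]
  let M : Matrix (Fin 3) (Fin 3) F := Matrix.of fun i j => b j i
  have hMdet : M.det ≠ 0 := by
    have hM : M = (Pi.basisFun F (Fin 3)).toMatrix b := by
      ext i j
      rw [Module.Basis.toMatrix_apply, Pi.basisFun_repr]
      rfl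
    have hinv : Invertible ((Pi.basisFun F (Fin 3)).toMatrix b) :=
      Module.Basis.invertibleToMatrix _ _
    rw [hM]
    exact ((Matrix.isUnit_iff_isUnit_det _).mp (isUnit_of_invertible _)).ne_zero
  have hAM : A * M = M * D0 := by
    ext i j
    rw [D0, Matrix.mul_diagonal]
    have h1 := congrFun (hb j) i
    rw [hf, Matrix.toLin'_apply] at h1
    rw [Matrix.mul_apply]
    rw [Matrix.mulVec, dotProduct] at h1
    simp only [Pi.smul_apply, smul_eq_mul] at h1
    rw [mul_comm]
    exact h1
  refine ⟨M * Matrix.diagonal ![(M.det)⁻¹, 1, 1], ?_, ?_⟩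
  · rw [Matrix.det_mul, Matrix.det_diagonal, Fin.prod_univ_three]
    simp only [Matrix.cons_val_zero, Matrix.cons_val_one, Matrix.cons_val_two, Matrix.head_cons,
      Matrix.tail_cons, mul_one]
    exact mul_inv_cancel₀ hMdet
  · rw [← mul_assoc, hAM, mul_assoc, mul_assoc]
    congr 1
    rw [D0, Matrix.diagonal_mul_diagonal, Matrix.diagonal_mul_diagonal]
    congr 1
    ext i
    exact mul_comm _ _

end Part1

section Part2

open Matrix

variable {F : Type*} [Field F]

theorem D0_det : (D0 : Matrix (Fin 3) (Fin 3) F).det = 1 := by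
  rw [D0, Matrix.det_diagonal, Fin.prod_univ_three]
  simp [eps]

/-- diag(1,-1,-1) as an element of SL3 -/
def D0s : SpecialLinearGroup (Fin 3) F := ⟨D0, D0_det⟩

/-- block matrix `diag(d, [[a,b],[c,e]])` -/
def blk (d a b c e : F) : Matrix (Fin 3) (Fin 3) F := !![d, 0, 0; 0, a, b; 0, c, e]

theorem blk_det (d a b c e : F) : (blk d a b c e).det = d * (a * e - b * c) := by
  rw [blk, Matrix.det_fin_three]
  simp
  ring

theorem blk_mul (d a b c e d' a' b' c' e' : F) :
    blk d a b c e * blk d' a' b' c' e' =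
      blk (d * d') (a * a' + b * c') (a * b' + b * e') (c * a' + e * c') (c * b' + e * e') := by
  rw [blk, blk, blk, Matrix.mul_fin_three]
  simp

theorem blk_one : blk (1:F) 1 0 0 1 = 1 := by
  rw [blk]
  ext i j
  fin_cases i <;> fin_cases j <;> simp

/-- block matrix attached to a `2 × 2` matrix -/
def blkM (d : F) (M : Matrix (Fin 2) (Fin 2) F) : Matrix (Fin 3) (Fin 3) F :=
  blk d (M 0 0) (M 0 1) (M 1 0) (M 1 1)

theorem blkM_det (d : F) (M : Matrix (Fin 2) (Fin 2) F) : (blkM d M).det = d * M.det := by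
  rw [blkM, blk_det, Matrix.det_fin_two]

theorem blkM_mul (d d' : F) (M N : Matrix (Fin 2) (Fin 2) F) :
    blkM d M * blkM d' N = blkM (d * d') (M * N) := by
  rw [blkM, blkM, blkM, blk_mul]
  simp only [Matrix.mul_apply, Fin.sum_univ_two]

theorem blkM_one : blkM (1:F) 1 = 1 := by
  rw [blkM]
  simp only [Matrix.one_apply_eq, Matrix.one_apply_ne, ne_eq, zero_ne_one, one_ne_zero, not_false_eq_true]
  exact blk_one

theorem blkM_comm (d : F) (M : Matrix (Fin 2) (Fin 2) F) : blkM d M * D0 = D0 * blkM d M := by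
  ext i j
  rw [D0, Matrix.mul_diagonal, Matrix.diagonal_mul, blkM, blk]
  fin_cases i <;> fin_cases j <;> simp [eps]

/-- the block embedding `GL2 → SL3`, `M ↦ diag((det M)⁻¹, M)`, as a function -/
def phi0fun (M : GL (Fin 2) F) : SpecialLinearGroup (Fin 3) F :=
  ⟨blkM (((Matrix.GeneralLinearGroup.det M)⁻¹ : Fˣ) : F) (M : Matrix (Fin 2) (Fin 2) F), by
    rw [blkM_det, ← Matrix.GeneralLinearGroup.val_det_apply, Units.inv_mul]⟩

theorem phi0fun_coe (M : GL (Fin 2) F) : ((phi0fun M : SpecialLinearGroup (Fin 3) F) : Matrix (Fin 3) (Fin 3) F) =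
    blkM (((Matrix.GeneralLinearGroup.det M)⁻¹ : Fˣ) : F) (M : Matrix (Fin 2) (Fin 2) F) := rfl

/-- the block embedding `GL2 → SL3`, `M ↦ diag((det M)⁻¹, M)` -/
def phi0 : GL (Fin 2) F →* SpecialLinearGroup (Fin 3) F where
  toFun := phi0fun
  map_one' := by
    apply Subtype.ext
    rw [phi0fun_coe]
    simp only [map_one, inv_one, Units.val_one, Matrix.SpecialLinearGroup.coe_one,
      Matrix.GeneralLinearGroup.coe_one]
    exact blkM_one
  map_mul' M N := by
    apply Subtype.ext
    rw [Matrix.SpecialLinearGroup.coe_mul, phi0fun_coe, phi0fun_coe, phi0fun_coe]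
    rw [blkM_mul, Matrix.GeneralLinearGroup.coe_mul]
    simp only [map_mul, mul_inv, Units.val_mul]

theorem phi0_coe (M : GL (Fin 2) F) : ((phi0 M : SpecialLinearGroup (Fin 3) F) : Matrix (Fin 3) (Fin 3) F) =
    blkM (((Matrix.GeneralLinearGroup.det M)⁻¹ : Fˣ) : F) (M : Matrix (Fin 2) (Fin 2) F) := rfl

theorem phi0_comm (M : GL (Fin 2) F) : phi0 M * D0s = D0s * phi0 M := by
  apply Subtype.ext
  rw [Matrix.SpecialLinearGroup.coe_mul, Matrix.SpecialLinearGroup.coe_mul, phi0_coe]
  exact blkM_comm _ _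

end Part2

section Part3

open Matrix

variable {F : Type*} [Field F]

theorem exists_phi0_eq (h2 : (2:F) ≠ 0) (B : SpecialLinearGroup (Fin 3) F) (r : F)
    (h : ∀ i j, (B : Matrix (Fin 3) (Fin 3) F) i j * eps j = eps i * (B : Matrix (Fin 3) (Fin 3) F) i j * r) :
    ∃ M : GL (Fin 2) F, phi0 M = B := by
  have hdet : (B : Matrix (Fin 3) (Fin 3) F).det = 1 := B.2
  set b := (B : Matrix (Fin 3) (Fin 3) F) with hb
  have h00 := h 0 0
  have h01 := h 0 1
  have h02 := h 0 2
  have h10 := h 1 0
  have h11 := h 1 1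
  have h12 := h 1 2
  have h20 := h 2 0
  have h21 := h 2 1
  have h22 := h 2 2
  simp only [eps, Matrix.cons_val_zero, Matrix.cons_val_one, Matrix.cons_val_two, Matrix.head_cons,
    Matrix.tail_cons] at h00 h01 h02 h10 h11 h12 h20 h21 h22
  have hr : r = 1 := by
    by_contra hr
    have hr' : 1 - r ≠ 0 := sub_ne_zero.mpr (Ne.symm hr)
    have e00 : b 0 0 = 0 := by
      have : b 0 0 * (1 - r) = 0 := by linear_combination h00
      rcases mul_eq_zero.mp this with h | h
      · exact h
      · exact absurd h hr'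
    have e11 : b 1 1 = 0 := by
      have : b 1 1 * (1 - r) = 0 := by linear_combination -h11
      rcases mul_eq_zero.mp this with h | h
      · exact h
      · exact absurd h hr'
    have e12 : b 1 2 = 0 := by
      have : b 1 2 * (1 - r) = 0 := by linear_combination -h12
      rcases mul_eq_zero.mp this with h | h
      · exact h
      · exact absurd h hr'
    have e21 : b 2 1 = 0 := by
      have : b 2 1 * (1 - r) = 0 := by linear_combination -h21
      rcases mul_eq_zero.mp this with h | h
      · exact h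
      · exact absurd h hr'
    have e22 : b 2 2 = 0 := by
      have : b 2 2 * (1 - r) = 0 := by linear_combination -h22
      rcases mul_eq_zero.mp this with h | h
      · exact h
      · exact absurd h hr'
    rw [Matrix.det_fin_three, e00, e11, e12, e21, e22] at hdet
    simp at hdet
  subst hr
  have half : ∀ x : F, x * (-1) = 1 * x * 1 → x = 0 := by
    intro x hx
    have : (2:F) * x = 0 := by linear_combination -hx
    rcases mul_eq_zero.mp this with h | h
    · exact absurd h h2
    · exact h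
  have half' : ∀ x : F, x * 1 = -1 * x * 1 → x = 0 := by
    intro x hx
    have : (2:F) * x = 0 := by linear_combination hx
    rcases mul_eq_zero.mp this with h | h
    · exact absurd h h2
    · exact h
  have e01 : b 0 1 = 0 := half _ h01
  have e02 : b 0 2 = 0 := half _ h02
  have e10 : b 1 0 = 0 := half' _ h10
  have e20 : b 2 0 = 0 := half' _ h20
  have hbeq : b = blkM (b 0 0) !![b 1 1, b 1 2; b 2 1, b 2 2] := by
    rw [blkM, blk]
    conv_lhs => rw [Matrix.eta_fin_three b, e01, e02, e10, e20]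
    simp
  have hdet2 : b 0 0 * (!![b 1 1, b 1 2; b 2 1, b 2 2] : Matrix (Fin 2) (Fin 2) F).det = 1 := by
    rw [← blkM_det, ← hbeq, hdet]
  have hne : (!![b 1 1, b 1 2; b 2 1, b 2 2] : Matrix (Fin 2) (Fin 2) F).det ≠ 0 := by
    intro h0
    rw [h0, mul_zero] at hdet2
    exact zero_ne_one hdet2
  refine ⟨Matrix.GeneralLinearGroup.mkOfDetNeZero _ hne, ?_⟩
  apply Subtype.ext
  show ((phi0fun _ : SpecialLinearGroup (Fin 3) F) : Matrix (Fin 3) (Fin 3) F) = b
  rw [phi0fun_coe]
  conv_rhs => rw [hbeq]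
  have hM : ((Matrix.GeneralLinearGroup.mkOfDetNeZero _ hne : GL (Fin 2) F) : Matrix (Fin 2) (Fin 2) F) =
      !![b 1 1, b 1 2; b 2 1, b 2 2] := rfl
  rw [hM]
  congr 1
  · rw [Units.val_inv_eq_inv_val, Matrix.GeneralLinearGroup.val_det_apply, hM]
    exact (eq_inv_of_mul_eq_one_left hdet2).symm

end Part3

section Part4

open Matrix

variable {F : Type*} [Field F]

/-- the subgroup of scalar matrices of `GL2` with cube `1` -/
def Zs (F : Type*) [Field F] : Subgroup (GL (Fin 2) F) :=
  ((powMonoidHom 3 : Fˣ →* Fˣ).ker).map (Matrix.GeneralLinearGroup.scalar (Fin 2))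

theorem Zs_le_center : Zs F ≤ Subgroup.center (GL (Fin 2) F) := by
  rintro _ ⟨u, -, rfl⟩
  rw [Subgroup.mem_center_iff]
  intro g
  exact (Matrix.GeneralLinearGroup.scalar_commute u g).symm

theorem scalar_injective : Function.Injective (Matrix.GeneralLinearGroup.scalar (Fin 2) : Fˣ →* GL (Fin 2) F) := by
  intro u v h
  have h1 := congrArg (fun g : GL (Fin 2) F => (g : Matrix (Fin 2) (Fin 2) F) 0 0) h
  simp only [Matrix.GeneralLinearGroup.coe_scalar, Matrix.scalar_apply, Matrix.diagonal_apply_eq] at h1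
  exact Units.ext h1

theorem card_Zs [Fintype F] : Nat.card (Zs F) = Nat.gcd (Fintype.card F - 1) 3 := by
  rw [Zs, Subgroup.card_map_of_injective scalar_injective, IsCyclic.card_powMonoidHom_ker,
    Nat.card_units, Nat.card_eq_fintype_card]

/-- the homomorphism `GL2 → PSL3` -/
def phi : GL (Fin 2) F →* Matrix.ProjectiveSpecialLinearGroup (Fin 3) F :=
  (QuotientGroup.mk' (Subgroup.center (SpecialLinearGroup (Fin 3) F))).comp phi0

theorem phi_mem (M : GL (Fin 2) F) :
    phi M ∈ Subgroup.centralizer ({(QuotientGroup.mk D0s : Matrix.ProjectiveSpecialLinearGroup (Fin 3) F)} : Set _) := by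
  rw [Subgroup.mem_centralizer_iff]
  intro x hx
  rw [Set.mem_singleton_iff] at hx
  subst hx
  show (QuotientGroup.mk D0s : Matrix.ProjectiveSpecialLinearGroup (Fin 3) F) * QuotientGroup.mk (phi0 M) =
    QuotientGroup.mk (phi0 M) * QuotientGroup.mk D0s
  rw [← QuotientGroup.mk_mul, ← QuotientGroup.mk_mul, phi0_comm]

/-- the homomorphism `GL2 → C(mk D0)` -/
def phic : GL (Fin 2) F →*
    Subgroup.centralizer ({(QuotientGroup.mk D0s : Matrix.ProjectiveSpecialLinearGroup (Fin 3) F)} : Set _) :=
  phi.codRestrict _ phi_mem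

theorem phic_surjective (h2 : (2:F) ≠ 0) : Function.Surjective (phic : GL (Fin 2) F →* _) := by
  rintro ⟨x, hx⟩
  obtain ⟨B, rfl⟩ := QuotientGroup.mk_surjective x
  rw [Subgroup.mem_centralizer_iff] at hx
  have h1 := hx _ (Set.mem_singleton _)
  rw [← QuotientGroup.mk_mul, ← QuotientGroup.mk_mul, QuotientGroup.eq] at h1
  obtain ⟨r, hr, hrc⟩ := Matrix.SpecialLinearGroup.mem_center_iff.mp h1
  have h3 : B * D0s = D0s * B * ((D0s * B)⁻¹ * (B * D0s)) := by group
  have h4 : (B : Matrix (Fin 3) (Fin 3) F) * D0 = D0 * (B : Matrix (Fin 3) (Fin 3) F) * Matrix.scalar (Fin 3) r := by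
    have := congrArg (fun g : SpecialLinearGroup (Fin 3) F => (g : Matrix (Fin 3) (Fin 3) F)) h3
    simp only [Matrix.SpecialLinearGroup.coe_mul] at this
    rw [hrc]
    exact this
  obtain ⟨M, hM⟩ := exists_phi0_eq h2 B r (by
    intro i j
    have := congrFun (congrFun h4 i) j
    rw [D0, Matrix.mul_diagonal, Matrix.scalar_apply, Matrix.mul_diagonal, Matrix.diagonal_mul] at this
    exact this)
  refine ⟨M, ?_⟩
  apply Subtype.ext
  show (QuotientGroup.mk (phi0 M) : Matrix.ProjectiveSpecialLinearGroup (Fin 3) F) = QuotientGroup.mk B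
  rw [hM]

theorem phic_ker : (phic : GL (Fin 2) F →* _).ker = Zs F := by
  ext M
  rw [MonoidHom.mem_ker]
  have h1 : phic M = 1 ↔ phi0 M ∈ Subgroup.center (SpecialLinearGroup (Fin 3) F) := by
    rw [← QuotientGroup.eq_one_iff]
    constructor
    · intro h
      exact congrArg Subtype.val h
    · intro h
      exact Subtype.ext h
  rw [h1, Matrix.SpecialLinearGroup.mem_center_iff]
  constructor
  · rintro ⟨r, hr, hrM⟩
    rw [phi0_coe] at hrM
    have hr0 : r ≠ 0 := by
      rintro rfl
      simp at hr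
    have e00 := congrFun (congrFun hrM 1) 1
    have e01 := congrFun (congrFun hrM 1) 2
    have e10 := congrFun (congrFun hrM 2) 1
    have e11 := congrFun (congrFun hrM 2) 2
    simp [blkM, blk] at e00 e01 e10 e11
    refine ⟨Units.mk0 r hr0, ?_, ?_⟩
    · rw [SetLike.mem_coe, MonoidHom.mem_ker, powMonoidHom_apply]
      apply Units.ext
      simpa using hr
    · apply Matrix.GeneralLinearGroup.ext
      intro i j
      rw [Matrix.GeneralLinearGroup.coe_scalar]
      fin_cases i <;> fin_cases j <;> simp [← e00, ← e01, ← e10, ← e11]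
  · rintro ⟨u, hu, rfl⟩
    rw [SetLike.mem_coe, MonoidHom.mem_ker, powMonoidHom_apply] at hu
    refine ⟨(u : F), ?_, ?_⟩
    · have := congrArg Units.val hu
      simpa using this
    · rw [phi0_coe, Matrix.GeneralLinearGroup.det_scalar]
      have hu' : ((u ^ Fintype.card (Fin 2))⁻¹ : Fˣ) = u := by
        rw [Fintype.card_fin, inv_eq_iff_eq_inv, eq_inv_iff_mul_eq_one, ← pow_succ]
        exact hu
      rw [hu', Matrix.GeneralLinearGroup.coe_scalar, blkM, blk]
      ext i j
      fin_cases i <;> fin_cases j <;> simp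

theorem main_D0 [Fintype F] (h2 : (2:F) ≠ 0) :
    ∃ (Z : Subgroup (GL (Fin 2) F)) (_ : Z.Normal), Z ≤ Subgroup.center (GL (Fin 2) F) ∧
      Nat.card Z = Nat.gcd (Fintype.card F - 1) 3 ∧
      Nonempty (↥(Subgroup.centralizer ({(QuotientGroup.mk D0s : Matrix.ProjectiveSpecialLinearGroup (Fin 3) F)} : Set _))
        ≃* GL (Fin 2) F ⧸ Z) := by
  refine ⟨(phic : GL (Fin 2) F →* _).ker, inferInstance, ?_, ?_, ?_⟩
  · rw [phic_ker]; exact Zs_le_center
  · rw [phic_ker]; exact card_Zs
  · exact ⟨(QuotientGroup.quotientKerEquivOfSurjective _ (phic_surjective h2)).symm⟩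

end Part4

section Part5

open Matrix

variable {F : Type*} [Field F]

/-- conjugation equivalence between centralizers -/
def centralizerConjEquiv {G : Type*} [Group G] (h s : G) :
    Subgroup.centralizer ({h * s * h⁻¹} : Set G) ≃* Subgroup.centralizer ({s} : Set G) where
  toFun x := ⟨h⁻¹ * x * h, by
    have hx := x.2
    rw [Subgroup.mem_centralizer_iff] at hx ⊢
    intro y hy
    rw [Set.mem_singleton_iff] at hy
    subst hy
    have := hx _ (Set.mem_singleton _)
    calc y * (h⁻¹ * ↑x * h) = h⁻¹ * (h * y * h⁻¹ * ↑x) * h := by group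
      _ = h⁻¹ * (↑x * (h * y * h⁻¹)) * h := by rw [this]
      _ = h⁻¹ * ↑x * h * y := by group⟩
  invFun x := ⟨h * x * h⁻¹, by
    have hx := x.2
    rw [Subgroup.mem_centralizer_iff] at hx ⊢
    intro y hy
    rw [Set.mem_singleton_iff] at hy
    subst hy
    have := hx _ (Set.mem_singleton _)
    calc h * s * h⁻¹ * (h * ↑x * h⁻¹) = h * (s * ↑x) * h⁻¹ := by group
      _ = h * (↑x * s) * h⁻¹ := by rw [this]
      _ = h * ↑x * h⁻¹ * (h * s * h⁻¹) := by group⟩
  left_inv x := by
    apply Subtype.ext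
    show h * (h⁻¹ * ↑x * h) * h⁻¹ = ↑x
    group
  right_inv x := by
    apply Subtype.ext
    show h⁻¹ * (h * ↑x * h⁻¹) * h = ↑x
    group
  map_mul' x y := by
    apply Subtype.ext
    show h⁻¹ * (↑x * ↑y) * h = (h⁻¹ * ↑x * h) * (h⁻¹ * ↑y * h)
    group

theorem exists_lift (t : Matrix.ProjectiveSpecialLinearGroup (Fin 3) F) (ht : orderOf t = 2) :
    ∃ A : SpecialLinearGroup (Fin 3) F, (QuotientGroup.mk A : Matrix.ProjectiveSpecialLinearGroup (Fin 3) F) = t ∧
      A * A = 1 ∧ A ≠ 1 := by
  obtain ⟨A, rfl⟩ := QuotientGroup.mk_surjective t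
  have h1 : (QuotientGroup.mk A : Matrix.ProjectiveSpecialLinearGroup (Fin 3) F) ^ 2 = 1 := by
    rw [← ht]; exact pow_orderOf_eq_one _
  rw [← QuotientGroup.mk_pow, QuotientGroup.eq_one_iff] at h1
  obtain ⟨r, hr, hrA⟩ := Matrix.SpecialLinearGroup.mem_center_iff.mp h1
  rw [Fintype.card_fin] at hr
  let c : SpecialLinearGroup (Fin 3) F := ⟨Matrix.scalar (Fin 3) r, by
    rw [Matrix.scalar_apply, Matrix.det_diagonal, Finset.prod_const, Finset.card_univ, Fintype.card_fin, hr]⟩
  have hc : c ∈ Subgroup.center (SpecialLinearGroup (Fin 3) F) :=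
    Matrix.SpecialLinearGroup.mem_center_iff.mpr ⟨r, by rw [Fintype.card_fin]; exact hr, rfl⟩
  refine ⟨c * A, ?_, ?_, ?_⟩
  · rw [QuotientGroup.mk_mul, (QuotientGroup.eq_one_iff c).mpr hc, one_mul]
  · have hcc : ∀ g : SpecialLinearGroup (Fin 3) F, g * c = c * g := fun g =>
      Subgroup.mem_center_iff.mp hc g
    have h2 : c * A * (c * A) = c * c * (A ^ 2) := by
      rw [pow_two, mul_assoc, ← mul_assoc A c A, hcc A]
      group
    rw [h2]
    apply Subtype.ext
    rw [Matrix.SpecialLinearGroup.coe_mul, Matrix.SpecialLinearGroup.coe_mul, ← hrA,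
      Matrix.SpecialLinearGroup.coe_one]
    show Matrix.scalar (Fin 3) r * Matrix.scalar (Fin 3) r * Matrix.scalar (Fin 3) r = 1
    rw [← map_mul, ← map_mul, ← pow_two, ← pow_succ, hr, map_one]
  · intro h
    have : (QuotientGroup.mk A : Matrix.ProjectiveSpecialLinearGroup (Fin 3) F) = 1 := by
      have h3 : (QuotientGroup.mk (c * A) : Matrix.ProjectiveSpecialLinearGroup (Fin 3) F) = 1 := by
        rw [h]; rfl
      rwa [QuotientGroup.mk_mul, (QuotientGroup.eq_one_iff c).mpr hc, one_mul] at h3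
    rw [this, orderOf_one] at ht
    exact absurd ht (by norm_num)

theorem two_ne_zero_of_odd [Fintype F] (hF : Odd (Fintype.card F)) : (2:F) ≠ 0 := by
  apply Ring.two_ne_zero
  intro h
  have := FiniteField.even_card_of_char_two h
  rw [Nat.odd_iff] at hF
  omega

theorem result {F : Type*} [Field F] [Fintype F] (hF : Odd (Fintype.card F)) (t : Matrix.ProjectiveSpecialLinearGroup (Fin 3) F) (ht : orderOf t = 2) : ∃ (Z : Subgroup (GL (Fin 2) F)) (_ : Z.Normal), Z ≤ Subgroup.center (GL (Fin 2) F) ∧ Nat.card Z = Nat.gcd (Fintype.card F - 1) 3 ∧ Nonempty (↥(Subgroup.centralizer ({t} : Set (Matrix.ProjectiveSpecialLinearGroup (Fin 3) F))) ≃* GL (Fin 2) F ⧸ Z) := by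
  have h2 := two_ne_zero_of_odd hF
  obtain ⟨A, hAt, hAA, hA1⟩ := exists_lift t ht
  obtain ⟨N, hNdet, hAN⟩ := exists_eigenbasis h2 (A : Matrix (Fin 3) (Fin 3) F)
    (by rw [← Matrix.SpecialLinearGroup.coe_mul, hAA, Matrix.SpecialLinearGroup.coe_one]) A.2
    (by
      intro h
      apply hA1
      apply Subtype.ext
      rw [h, Matrix.SpecialLinearGroup.coe_one])
  let g : SpecialLinearGroup (Fin 3) F := ⟨N, hNdet⟩
  have hg : A * g = g * D0s := by
    apply Subtype.ext
    rw [Matrix.SpecialLinearGroup.coe_mul, Matrix.SpecialLinearGroup.coe_mul]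
    exact hAN
  have hA : A = g * D0s * g⁻¹ := by
    rw [← hg]; group
  have ht' : t = (QuotientGroup.mk g : Matrix.ProjectiveSpecialLinearGroup (Fin 3) F) *
      QuotientGroup.mk D0s * (QuotientGroup.mk g)⁻¹ := by
    rw [← hAt, hA]
    rfl
  obtain ⟨Z, hZn, hZc, hZcard, ⟨e⟩⟩ := main_D0 (F := F) h2
  refine ⟨Z, hZn, hZc, hZcard, ⟨?_⟩⟩
  rw [ht']
  exact (centralizerConjEquiv _ _).trans e

end Part5

end Cfsg.Agent.S1219
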