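import Cfsg.Statements.S1227
import Mathlib
import Cfsg.Agent.Lib.Lead.Zass

set_option autoImplicit false
open Cfsg

namespace Cfsg.Agent.S1227

open Cfsg.Agent.Lib.Lead



/-- Let G be a finite group with a Sylow 2-subgroup T that is neither cyclic nor normal, such that the centralizer of every involution is an elementary abelian 2-group; put H = N_G(T), let u be an involution outside H and D = H ∩ uHu⁻¹. Then u inverts every element of D, |H| = |T|·(|T| − 1), and D is a complement to T in H. -/
theorem result {G : Type*} [Group G] [Finite G] (T : Sylow 2 G) (hnc : ¬ IsCyclic (T : Subgroup G)) (hnn : ¬ (T : Subgroup G).Normal) (hC : ∀ t : G, orderOf t = 2 → IsMulCommutative (Subgroup.centralizer ({t} : Set G)) ∧ ∀ c ∈ Subgroup.centralizer ({t} : Set G), c ^ 2 = 1) (u : G) (hu : orderOf u = 2) (huH : u ∉ Subgroup.normalizer ((T : Subgroup G) : Set G)) : (∀ d ∈ Subgroup.normalizer ((T : Subgroup G) : Set G) ⊓ (Subgroup.normalizer ((T : Subgroup G) : Set G)).map (MulAut.conj u).toMonoidHom, u * d * u⁻¹ = d⁻¹)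 ∧ Nat.card (Subgroup.normalizer ((T : Subgroup G) : Set G)) = Nat.card T * (Nat.card T - 1) ∧ Subgroup.IsComplement' ((Subgroup.normalizer ((T : Subgroup G) : Set G) ⊓ (Subgroup.normalizer ((T : Subgroup G) : Set G)).map (MulAut.conj u).toMonoidHom).subgroupOf (Subgroup.normalizer ((T : Subgroup G) : Set G))) ((T : Subgroup G).subgroupOf (Subgroup.normalizer ((T : Subgroup G) : Set G))) := by
  have hinv := Zass.inverts T hnc hnn hC u hu huH
  have hcardN := Zass.card_N T hnc hnn hC u hu huH
  have hcardD := Zass.card_D T hnc hnn hC u hu huH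
  have hDT := Zass.D_inf_T T hnc hnn hC u huH
  set N := Subgroup.normalizer ((T : Subgroup G) : Set G) with hN
  set D := N ⊓ N.map (MulAut.conj u).toMonoidHom with hD
  refine ⟨hinv, ?_, ?_⟩
  · rw [hcardN, ← hcardD, Nat.add_sub_cancel, mul_comm]
  · apply Subgroup.isComplement'_of_card_mul_and_disjoint
    · have h1 : Nat.card ↥(D.subgroupOf N) = Nat.card ↥D :=
        Nat.card_congr (Subgroup.subgroupOfEquivOfLe (inf_le_left : D ≤ N)).toEquiv
      have h2 : Nat.card ↥((T : Subgroup G).subgroupOf N) = Nat.card ↥(T : Subgroup G) :=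
        Nat.card_congr (Subgroup.subgroupOfEquivOfLe (Subgroup.le_normalizer)).toEquiv
      rw [h1, h2, hcardN]
    · rw [disjoint_iff, eq_bot_iff]
      intro x hx
      obtain ⟨h1, h2⟩ := Subgroup.mem_inf.mp hx
      rw [Subgroup.mem_subgroupOf] at h1 h2
      have : (x : G) ∈ D ⊓ (T : Subgroup G) := Subgroup.mem_inf.mpr ⟨h1, h2⟩
      rw [hDT, Subgroup.mem_bot] at this
      rw [Subgroup.mem_bot]
      exact Subtype.ext this

end Cfsg.Agent.S1227
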