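import Cfsg.Statements.S1229
import Mathlib
import Cfsg.Agent.Lib.Lead.Zass3

set_option autoImplicit false
open Cfsg

namespace Cfsg.Agent.S1229

open Cfsg.Agent.Lib.Lead

theorem exists_triple {G : Type*} [Group G] [Finite G] (T : Sylow 2 G)
    (hnc : ¬ IsCyclic (T : Subgroup G)) (hnn : ¬ (T : Subgroup G).Normal)
    (hC : ∀ t : G, orderOf t = 2 → IsMulCommutative (Subgroup.centralizer ({t} : Set G)) ∧
      ∀ c ∈ Subgroup.centralizer ({t} : Set G), c ^ 2 = 1)
    (u : G) (hu : orderOf u = 2) (huN : u ∉ Subgroup.normalizer ((T : Subgroup G) : Set G))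
    (p : G ⧸ Subgroup.normalizer ((T : Subgroup G) : Set G))
    (hp0 : p ≠ ((1 : G) : G ⧸ Subgroup.normalizer ((T : Subgroup G) : Set G)))
    (hpu : p ≠ ((u : G) : G ⧸ Subgroup.normalizer ((T : Subgroup G) : Set G)))
    (a b c : G ⧸ Subgroup.normalizer ((T : Subgroup G) : Set G))
    (hab : a ≠ b) (hac : a ≠ c) (hbc : b ≠ c) :
    ∃ g : G, g • ((1 : G) : G ⧸ Subgroup.normalizer ((T : Subgroup G) : Set G)) = a ∧
      g • ((u : G) : G ⧸ Subgroup.normalizer ((T : Subgroup G) : Set G)) = b ∧ g • p = c := by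
  have hx0u : ((u : G) : G ⧸ Subgroup.normalizer ((T : Subgroup G) : Set G)) ≠
      ((1 : G) : G ⧸ Subgroup.normalizer ((T : Subgroup G) : Set G)) := by
    intro h
    apply huN
    have := QuotientGroup.eq.mp h.symm
    simpa using this
  induction a using QuotientGroup.induction_on with | _ k =>
  have hk0 : k • ((1 : G) : G ⧸ Subgroup.normalizer ((T : Subgroup G) : Set G)) =
      ((k : G) : G ⧸ Subgroup.normalizer ((T : Subgroup G) : Set G)) := by
    rw [MulAction.Quotient.smul_mk, smul_eq_mul, mul_one]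
  have hb' : k⁻¹ • b ≠ ((1 : G) : G ⧸ Subgroup.normalizer ((T : Subgroup G) : Set G)) := by
    intro h
    apply hab
    rw [inv_smul_eq_iff] at h
    rw [h, hk0]
  have hc' : k⁻¹ • c ≠ ((1 : G) : G ⧸ Subgroup.normalizer ((T : Subgroup G) : Set G)) := by
    intro h
    apply hac
    rw [inv_smul_eq_iff] at h
    rw [h, hk0]
  obtain ⟨t, htT, ht⟩ := Zass.T_transitive T hnc hnn hC _ _ hx0u hb'
  have htN : t ∈ Subgroup.normalizer ((T : Subgroup G) : Set G) := Subgroup.le_normalizer htT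
  have ht0 : t • ((1 : G) : G ⧸ Subgroup.normalizer ((T : Subgroup G) : Set G)) =
      ((1 : G) : G ⧸ Subgroup.normalizer ((T : Subgroup G) : Set G)) :=
    (StrEmb2.smul_one_eq_iff t).mpr htN
  have hc0 : t⁻¹ • k⁻¹ • c ≠ ((1 : G) : G ⧸ Subgroup.normalizer ((T : Subgroup G) : Set G)) := by
    intro h
    apply hc'
    rw [inv_smul_eq_iff] at h
    rw [h, ht0]
  have hcu : t⁻¹ • k⁻¹ • c ≠ ((u : G) : G ⧸ Subgroup.normalizer ((T : Subgroup G) : Set G)) := by
    intro h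
    apply hbc
    rw [inv_smul_eq_iff, ht, inv_smul_eq_iff, smul_inv_smul] at h
    exact h.symm
  obtain ⟨d, hd, hdp⟩ := Zass.D_transitive T hnc hnn hC u hu huN p _ hp0 hpu hc0 hcu
  obtain ⟨hd0, hdu⟩ := (Zass.mem_D_iff T hnc hnn hC u d).mp hd
  refine ⟨k * t * d, ?_, ?_, ?_⟩
  · rw [mul_smul, mul_smul, hd0, ht0, hk0]
  · rw [mul_smul, mul_smul, hdu, ht, smul_inv_smul]
  · rw [mul_smul, mul_smul, hdp, smul_inv_smul, smul_inv_smul]

/-- Let G be a finite group with a Sylow 2-subgroup T that is neither cyclic nor normal, such that the centralizer of every involution is an elementary abelian 2-group; put H = N_G(T) and X = G/H. Then G is triply transitive on X, an element fixing three distinct points of X is the identity, and T acts regularly on X minus the point H. -/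
theorem result {G : Type*} [Group G] [Finite G] (T : Sylow 2 G) (hnc : ¬ IsCyclic (T : Subgroup G)) (hnn : ¬ (T : Subgroup G).Normal) (hC : ∀ t : G, orderOf t = 2 → IsMulCommutative (Subgroup.centralizer ({t} : Set G)) ∧ ∀ c ∈ Subgroup.centralizer ({t} : Set G), c ^ 2 = 1) : (∀ x₁ x₂ x₃ y₁ y₂ y₃ : G ⧸ Subgroup.normalizer ((T : Subgroup G) : Set G), x₁ ≠ x₂ → x₁ ≠ x₃ → x₂ ≠ x₃ → y₁ ≠ y₂ → y₁ ≠ y₃ → y₂ ≠ y₃ → ∃ g : G, g • x₁ = y₁ ∧ g • x₂ = y₂ ∧ g • x₃ = y₃) ∧ (∀ g : G, ∀ x₁ x₂ x₃ : G ⧸ Subgroup.normalizer ((T : Subgroup G) : Set G), x₁ ≠ x₂ → x₁ ≠ x₃ → x₂ ≠ x₃ → g • x₁ = x₁ → g • x₂ = x₂ → g • x₃ = x₃ → g = 1) ∧ (∀ x y : G ⧸ Subgroup.normalizer ((T : Subgroup G) : Set G), x ≠ QuotientGroup.mk 1 → y ≠ QuotientGroup.mk 1 → ∃! t : G, t ∈ T ∧ t • x = y) := by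
  obtain ⟨z₀, hz₀⟩ := Zass.exists_ne_base T hnc hnn hC
  obtain ⟨u, hu, huN, -⟩ := Zass.exists_invol_swap T hnc hnn hC z₀ hz₀
  -- a third reference point
  have hx0u : ((1 : G) : G ⧸ Subgroup.normalizer ((T : Subgroup G) : Set G)) ≠
      ((u : G) : G ⧸ Subgroup.normalizer ((T : Subgroup G) : Set G)) := by
    intro h
    apply huN
    have := QuotientGroup.eq.mp h
    simpa using this
  obtain ⟨p, hp0, hpu⟩ : ∃ p : G ⧸ Subgroup.normalizer ((T : Subgroup G) : Set G),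
      p ≠ ((1 : G) : G ⧸ Subgroup.normalizer ((T : Subgroup G) : Set G)) ∧
      p ≠ ((u : G) : G ⧸ Subgroup.normalizer ((T : Subgroup G) : Set G)) := by
    by_contra hcon
    push Not at hcon
    have hsub : (Set.univ : Set (G ⧸ Subgroup.normalizer ((T : Subgroup G) : Set G))) ⊆
        {((1 : G) : G ⧸ Subgroup.normalizer ((T : Subgroup G) : Set G)),
          ((u : G) : G ⧸ Subgroup.normalizer ((T : Subgroup G) : Set G))} := by
      intro p _
      by_cases hp : p = ((1 : G) : G ⧸ Subgroup.normalizer ((T : Subgroup G) : Set G))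
      · exact Or.inl hp
      · exact Or.inr (hcon p hp)
    have h1 := Set.ncard_le_ncard hsub (Set.toFinite _)
    rw [Set.ncard_univ, Set.ncard_pair hx0u, Zass.card_points T hnc hnn hC] at h1
    have := Zass.four_le_card T hnc hC
    omega
  refine ⟨?_, ?_, ?_⟩
  · intro x₁ x₂ x₃ y₁ y₂ y₃ h12 h13 h23 k12 k13 k23
    obtain ⟨g, g1, g2, g3⟩ := exists_triple T hnc hnn hC u hu huN p hp0 hpu x₁ x₂ x₃ h12 h13 h23
    obtain ⟨k, k1, k2, k3⟩ := exists_triple T hnc hnn hC u hu huN p hp0 hpu y₁ y₂ y₃ k12 k13 k23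
    refine ⟨k * g⁻¹, ?_, ?_, ?_⟩
    · rw [mul_smul, ← g1, inv_smul_smul, k1]
    · rw [mul_smul, ← g2, inv_smul_smul, k2]
    · rw [mul_smul, ← g3, inv_smul_smul, k3]
  · intro g x₁ x₂ x₃ h12 h13 h23 f1 f2 f3
    induction x₁ using QuotientGroup.induction_on with | _ k =>
    have hk0 : k • ((1 : G) : G ⧸ Subgroup.normalizer ((T : Subgroup G) : Set G)) =
        ((k : G) : G ⧸ Subgroup.normalizer ((T : Subgroup G) : Set G)) := by
      rw [MulAction.Quotient.smul_mk, smul_eq_mul, mul_one]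
    have e := Zass.three_fix T hnc hnn hC (k⁻¹ * g * k) (k⁻¹ • x₂) (k⁻¹ • x₃) ?_ ?_ ?_ ?_ ?_ ?_
    · calc g = k * (k⁻¹ * g * k) * k⁻¹ := by group
        _ = 1 := by rw [e]; group
    · intro h
      apply h12
      rw [inv_smul_eq_iff] at h
      rw [h, hk0]
    · intro h
      apply h13
      rw [inv_smul_eq_iff] at h
      rw [h, hk0]
    · intro h
      exact h23 (smul_left_cancel _ h)
    · rw [mul_smul, mul_smul, hk0, f1, ← hk0, inv_smul_smul]
    · rw [mul_smul, mul_smul, smul_inv_smul, f2]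
    · rw [mul_smul, mul_smul, smul_inv_smul, f3]
  · intro x y hx hy
    obtain ⟨t, htT, ht⟩ := Zass.T_transitive T hnc hnn hC x y hx hy
    refine ⟨t, ⟨htT, ht⟩, ?_⟩
    rintro t' ⟨ht'T, ht'⟩
    have h2 : (t⁻¹ * t') • x = x := by
      rw [mul_smul, ht', ← ht, inv_smul_smul]
    have h3 := Zass.T_semiregular T hnc hnn hC
      (Subgroup.mul_mem _ (Subgroup.inv_mem _ htT) ht'T) x hx h2
    calc t' = t * (t⁻¹ * t') := by group
      _ = t := by rw [h3, mul_one]

end Cfsg.Agent.S1229
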