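import Mathlib
import Cfsg.Statements.S1231
import Cfsg.Agent.Lib.Helper7.SylowLib
import Cfsg.Agent.H2.ConjMap
import Cfsg.Agent.S1282

set_option autoImplicit false
open Cfsg

namespace Cfsg.Agent.S1231

open Cfsg.Agent.Lib.Helper7 Cfsg.Agent.H2

/-- large rank passes along injective homomorphisms -/
theorem not_pRankLE_of_injective {p j : ℕ} {K L : Type*} [Group K] [Group L] (f : K →* L)
    (hf : Function.Injective f) (h : ¬ Cfsg.PRankLE p j K) : ¬ Cfsg.PRankLE p j L := by
  unfold Cfsg.PRankLE at h ⊢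
  push Not at h ⊢
  obtain ⟨A, hA1, hA2, hA3⟩ := h
  refine ⟨A.map f, inferInstance, ?_, ?_⟩
  · rintro _ ⟨a, ha, rfl⟩
    rw [← map_pow, hA2 a ha, map_one]
  · rw [Subgroup.card_map_of_injective hf]
    exact hA3

theorem not_pRankLE_mono {G : Type*} [Group G] {p j : ℕ} {X Y : Subgroup G} (h : X ≤ Y)
    (hX : ¬ Cfsg.PRankLE p j ↥X) : ¬ Cfsg.PRankLE p j ↥Y :=
  not_pRankLE_of_injective (Subgroup.inclusion h) (Subgroup.inclusion_injective h) hX

theorem not_pRankLE_conj {G : Type*} [Group G] {p j : ℕ} {X : Subgroup G} (g : G)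
    (hX : ¬ Cfsg.PRankLE p j ↥X) : ¬ Cfsg.PRankLE p j ↥(X.map (MulAut.conj g).toMonoidHom) :=
  not_pRankLE_of_injective
    (X.equivMapOfInjective (MulAut.conj g).toMonoidHom (MulAut.conj g).injective).toMonoidHom
    (X.equivMapOfInjective (MulAut.conj g).toMonoidHom (MulAut.conj g).injective).injective hX

/-- a group of large rank contains a `p`-subgroup of large rank -/
theorem exists_pGroup_of_not_pRankLE {G : Type*} [Group G] {p j : ℕ} {K : Subgroup G}
    (hK : ¬ Cfsg.PRankLE p j ↥K) :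
    ∃ E : Subgroup G, E ≤ K ∧ IsPGroup p ↥E ∧ ¬ Cfsg.PRankLE p j ↥E := by
  have hK' := hK
  unfold Cfsg.PRankLE at hK'
  push Not at hK'
  obtain ⟨A, hA1, hA2, hA3⟩ := hK'
  refine ⟨A.map K.subtype, Subgroup.map_subtype_le A, ?_, ?_⟩
  · rintro ⟨_, a, ha, rfl⟩
    refine ⟨1, ?_⟩
    rw [pow_one]
    apply Subtype.ext
    show (K.subtype a) ^ p = 1
    rw [← map_pow, hA2 a ha, map_one]
  · apply not_pRankLE_of_injective
      (A.equivMapOfInjective K.subtype K.subtype_injective).toMonoidHom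
      (A.equivMapOfInjective K.subtype K.subtype_injective).injective
    unfold Cfsg.PRankLE
    push Not
    refine ⟨⊤, ?_, ?_, ?_⟩
    · refine ⟨⟨fun x y => ?_⟩⟩
      apply Subtype.ext
      apply Subtype.ext
      have := isMulCommutative_iff.1 hA1 x.1 y.1
      exact congrArg Subtype.val this
    · intro a _
      apply Subtype.ext
      exact hA2 a.1 a.2
    · rw [Subgroup.card_top]
      exact hA3

theorem conj_mem_normalizer {G : Type*} [Group G] (X : Subgroup G) (h n : G)
    (hn : n ∈ Subgroup.normalizer (X : Set G)) :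
    h * n * h⁻¹ ∈ Subgroup.normalizer ((X.map (MulAut.conj h).toMonoidHom : Subgroup G) : Set G) := by
  rw [← map_conj_eq_self_iff_mem_normalizer] at hn ⊢
  rw [← map_conj_mul]
  have e : h * n * h⁻¹ * h = h * n := by group
  rw [e, map_conj_mul, hn]

/-- Let H be a subgroup of the finite group G, p a prime, k ≥ 1, and P a Sylow p-subgroup of H whose p-rank is at least k. Then N_G(X) ≤ H for every subgroup X of P of p-rank at least k if and only if H ∩ gHg⁻¹ has p-rank less than k for every g ∉ H. -/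
theorem result {G : Type*} [Group G] [Finite G] {p : ℕ} [Fact p.Prime] (k : ℕ) (hk : 1 ≤ k) (H : Subgroup G) (P : Sylow p ↥H) (hP : ¬ Cfsg.PRankLE p (k - 1) ↥(P : Subgroup ↥H)) : (∀ X : Subgroup G, X ≤ (P : Subgroup ↥H).map H.subtype → ¬ Cfsg.PRankLE p (k - 1) ↥X → Subgroup.normalizer (X : Set G) ≤ H) ↔ (∀ g : G, g ∉ H → Cfsg.PRankLE p (k - 1) ↥(H ⊓ H.map (MulAut.conj g).toMonoidHom)) := by
  classical
  have hP' : IsSylowIn p ((P : Subgroup ↥H).map H.subtype) H := IsSylowIn.of_sylow P
  constructor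
  · intro hyp
    -- the hypothesis for all `p`-subgroups of `H` of large rank
    have hyp' : ∀ X : Subgroup G, X ≤ H → IsPGroup p ↥X → ¬ Cfsg.PRankLE p (k - 1) ↥X →
        Subgroup.normalizer (X : Set G) ≤ H := by
      intro X hXH hXp hXr
      obtain ⟨S, hS, hXS⟩ := exists_isSylowIn_ge hXp hXH
      obtain ⟨h, hh, hSh⟩ := hP'.conj hS
      have hX' : X.map (MulAut.conj h⁻¹).toMonoidHom ≤ (P : Subgroup ↥H).map H.subtype := by
        rw [map_conj_le_iff, inv_inv, ← hSh]
        exact hXS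
      have hN := hyp _ hX' (not_pRankLE_conj h⁻¹ hXr)
      intro n hn
      have h1 := hN (conj_mem_normalizer X h⁻¹ n hn)
      have e : n = h * (h⁻¹ * n * h⁻¹⁻¹) * h⁻¹ := by group
      rw [e]
      exact H.mul_mem (H.mul_mem hh h1) (H.inv_mem hh)
    intro g hg
    by_contra hcon
    obtain ⟨E, hEK, hEp, hEr⟩ := exists_pGroup_of_not_pRankLE hcon
    obtain ⟨R, hR, hER⟩ := exists_isSylowIn_ge hEp hEK
    have hRp : IsPGroup p ↥R := hR.isPGroup
    have hRr : ¬ Cfsg.PRankLE p (k - 1) ↥R := not_pRankLE_mono hER hEr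
    have hRH : R ≤ H := hR.1.trans inf_le_left
    have hRHg : R ≤ H.map (MulAut.conj g).toMonoidHom := hR.1.trans inf_le_right
    -- the normalizer of `R` lies in `H` and in its conjugate
    have hN1 : Subgroup.normalizer (R : Set G) ≤ H := hyp' R hRH hRp hRr
    have hRg : R.map (MulAut.conj g⁻¹).toMonoidHom ≤ H := by
      rw [map_conj_le_iff, inv_inv]; exact hRHg
    have hRgp : IsPGroup p ↥(R.map (MulAut.conj g⁻¹).toMonoidHom) :=
      hRp.map _
    have hN2' : Subgroup.normalizer ((R.map (MulAut.conj g⁻¹).toMonoidHom : Subgroup G) : Set G) ≤ H :=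
      hyp' _ hRg hRgp (not_pRankLE_conj g⁻¹ hRr)
    have hN2 : Subgroup.normalizer (R : Set G) ≤ H.map (MulAut.conj g).toMonoidHom := by
      intro n hn
      rw [mem_map_conj_iff]
      have := hN2' (conj_mem_normalizer R g⁻¹ n hn)
      rwa [inv_inv] at this
    -- `R` is a maximal `p`-subgroup of `H` and of its conjugate
    have hmax : ∀ Q : Subgroup G, IsPGroup p ↥Q → R ≤ Q → Q = R := by
      intro Q hQ hRQ
      by_contra hne
      obtain ⟨n, hn⟩ := hQ.exists_card_eq
      have h1 := Cfsg.Agent.S1282.normalizer_inf_not_le p Q R hQ hRQ (fun h => hne h.symm)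
      apply h1
      -- the normalizer of `R` in `Q` is a `p`-subgroup of `H ⊓ H^g` containing `R`
      have h2 : Subgroup.normalizer (R : Set G) ⊓ Q ≤ H ⊓ H.map (MulAut.conj g).toMonoidHom :=
        le_inf (inf_le_left.trans hN1) (inf_le_left.trans hN2)
      have h3 : IsPGroup p ↥(Subgroup.normalizer (R : Set G) ⊓ Q : Subgroup G) :=
        hQ.to_le inf_le_right
      obtain ⟨S, hS, hNS⟩ := exists_isSylowIn_ge h3 h2
      have h4 : R ≤ S := le_trans (le_inf Subgroup.le_normalizer hRQ) hNS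
      have h5 : R = S := Subgroup.eq_of_le_of_card_ge h4 (by rw [hR.2, hS.2])
      exact hNS.trans h5.ge
    -- so `R` and its conjugate are Sylow in `H`
    have hSyl : ∀ Y : Subgroup G, Y ≤ H → IsPGroup p ↥Y →
        (∀ Q : Subgroup G, Q ≤ H → IsPGroup p ↥Q → Y ≤ Q → Q = Y) → IsSylowIn p Y H := by
      intro Y hYH hYp hYmax
      obtain ⟨S, hS, hYS⟩ := exists_isSylowIn_ge hYp hYH
      have := hYmax S hS.1 hS.isPGroup hYS
      rw [← this]; exact hS
    have hR1 : IsSylowIn p R H := hSyl R hRH hRp (fun Q _ hQp hRQ => hmax Q hQp hRQ)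
    have hR2 : IsSylowIn p (R.map (MulAut.conj g⁻¹).toMonoidHom) H := by
      apply hSyl _ hRg hRgp
      intro Q _ hQp hRQ
      have h1 : R ≤ Q.map (MulAut.conj g).toMonoidHom := by
        rw [map_conj_le_iff] at hRQ
        rwa [inv_inv] at hRQ
      have h2 := hmax _ (hQp.map _) h1
      rw [map_conj_eq_iff] at h2
      exact h2
    obtain ⟨h, hh, hconj⟩ := hR1.conj hR2
    -- then `g * h` normalizes `R`
    have h6 : g * h ∈ Subgroup.normalizer (R : Set G) := by
      rw [← map_conj_eq_self_iff_mem_normalizer, map_conj_mul, ← hconj, ← map_conj_mul,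
        mul_inv_cancel, map_conj_one]
    have h7 := hN1 h6
    apply hg
    have e : g = g * h * h⁻¹ := by group
    rw [e]
    exact H.mul_mem h7 (H.inv_mem hh)
  · intro hyp X hXP hXr n hn
    by_contra hnH
    apply hXr
    have hXH : X ≤ H := hXP.trans hP'.1
    have h1 : X ≤ H ⊓ H.map (MulAut.conj n).toMonoidHom := by
      refine le_inf hXH ?_
      rw [← (map_conj_eq_self_iff_mem_normalizer X n).2 hn]
      exact map_conj_mono hXH n
    by_contra hXr'
    exact not_pRankLE_mono h1 hXr' (hyp n hnH)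

end Cfsg.Agent.S1231
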