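import Cfsg.Statements.S1236
import Mathlib
import Cfsg.Agent.S1755

set_option autoImplicit false
open Cfsg

namespace Cfsg.Agent.S1236

open DihedralGroup

set_option linter.unusedVariables false

universe u

/-- generic: four-groups are self-centralising in a group with a "cyclic-like" subgroup of index two -/
theorem self_centralizing {Q : Type u} [Group Q] [Finite Q] (X : Subgroup Q)
    (h1 : ∀ a ∈ X, ∀ b ∈ X, a^2 = 1 → b^2 = 1 → a ≠ 1 → b ≠ 1 → a = b)
    (h2 : ∀ u w : Q, u ∉ X → w ∉ X → u⁻¹ * w ∈ X)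
    (h3 : ∀ v : Q, v ∉ X → v^2 = 1 → ∀ a ∈ X, a * v = v * a → a^2 = 1)
    (V : Subgroup Q) (hV4 : Nat.card V = 4) (hV2 : ∀ v ∈ V, v^2 = 1)
    (c : Q) (hc : ∀ v ∈ V, v * c = c * v) (hVc : ∀ a ∈ V, ∀ b ∈ V, a * b = b * a) : c ∈ V := by
  classical
  obtain ⟨z, hz⟩ : ∃ z : Q, ∀ a ∈ X, a^2 = 1 → a = 1 ∨ a = z := by
    by_cases hex : ∃ a ∈ X, a^2 = 1 ∧ a ≠ 1
    · obtain ⟨a0, ha0, ha02, ha01⟩ := hex
      refine ⟨a0, fun a ha ha2 => ?_⟩
      by_cases ha1 : a = 1
      · left; exact ha1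
      · right; exact h1 a ha a0 ha0 ha2 ha02 ha1 ha01
    · push Not at hex
      exact ⟨1, fun a ha ha2 => Or.inl (hex a ha ha2)⟩
  -- V is not inside X
  obtain ⟨v, hvV, hvX⟩ : ∃ v ∈ V, v ∉ X := by
    by_contra hcon
    push Not at hcon
    have hsub : (V : Set Q) ⊆ {1, z} := by
      intro w hw
      rcases hz w (hcon w hw) (hV2 w hw) with h | h
      · left; exact h
      · right; exact h
    have h0 : Nat.card V = Set.ncard (V : Set Q) := Nat.card_coe_set_eq (V : Set Q)
    have h1' : Set.ncard (V : Set Q) ≤ Set.ncard ({1, z} : Set Q) :=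
      Set.ncard_le_ncard hsub (Set.toFinite _)
    have h2' : Set.ncard ({1, z} : Set Q) ≤ 2 := by
      have := Set.ncard_insert_le (1 : Q) ({z} : Set Q)
      rw [Set.ncard_singleton] at this
      exact this
    omega
  have hv2 : v^2 = 1 := hV2 v hvV
  have hVC : V ≤ Subgroup.centralizer (V : Set Q) := by
    intro a ha
    rw [Subgroup.mem_centralizer_iff]
    intro b hb
    exact hVc b hb a ha
  have hCsub : ((Subgroup.centralizer (V : Set Q) : Subgroup Q) : Set Q) ⊆ {1, z, v, v * z} := by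
    intro d hd
    have hdv : v * d = d * v := (Subgroup.mem_centralizer_iff.1 hd) v hvV
    by_cases hdX : d ∈ X
    · have := h3 v hvX hv2 d hdX hdv.symm
      rcases hz d hdX this with h | h
      · left; exact h
      · right; left; exact h
    · have haX : v⁻¹ * d ∈ X := h2 v d hvX hdX
      have hav : (v⁻¹ * d) * v = v * (v⁻¹ * d) := by
        calc (v⁻¹ * d) * v = v⁻¹ * (d * v) := by group
          _ = v⁻¹ * (v * d) := by rw [hdv]
          _ = v * (v⁻¹ * d) := by group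
      have := h3 v hvX hv2 _ haX hav
      rcases hz _ haX this with h | h
      · right; right; left
        exact (inv_mul_eq_one.1 h).symm
      · right; right; right
        show d = v * z
        rw [← h]; group
  have hcard : Nat.card (Subgroup.centralizer (V : Set Q)) ≤ 4 := by
    have h0 : Nat.card (Subgroup.centralizer (V : Set Q)) =
        Set.ncard ((Subgroup.centralizer (V : Set Q) : Subgroup Q) : Set Q) :=
      Nat.card_coe_set_eq _
    have h1' := Set.ncard_le_ncard hCsub (Set.toFinite _)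
    have a1 := Set.ncard_insert_le (1 : Q) ({z, v, v * z} : Set Q)
    have a2 := Set.ncard_insert_le z ({v, v * z} : Set Q)
    have a3 := Set.ncard_insert_le v ({v * z} : Set Q)
    rw [Set.ncard_singleton] at a3
    omega
  have hEq : V = Subgroup.centralizer (V : Set Q) :=
    Subgroup.eq_of_le_of_card_ge hVC (by rw [hV4]; exact hcard)
  rw [hEq, Subgroup.mem_centralizer_iff]
  exact hc

/-- the rotation subgroup -/
def rot (m : ℕ) : Subgroup (DihedralGroup m) where
  carrier := {g | ∃ i, g = r i}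
  mul_mem' := by
    rintro _ _ ⟨i, rfl⟩ ⟨j, rfl⟩
    exact ⟨i + j, r_mul_r i j⟩
  one_mem' := ⟨0, rfl⟩
  inv_mem' := by
    rintro _ ⟨i, rfl⟩
    exact ⟨-i, inv_r i⟩

theorem mem_rot {m : ℕ} {g : DihedralGroup m} : g ∈ rot m ↔ ∃ i, g = r i := Iff.rfl

theorem not_mem_rot {m : ℕ} {g : DihedralGroup m} (h : g ∉ rot m) : ∃ i, g = sr i := by
  cases g with
  | r i => exact absurd ⟨i, rfl⟩ h
  | sr i => exact ⟨i, rfl⟩

theorem zmod_two_torsion {m : ℕ} [NeZero m] (i j : ZMod m) (hi : i + i = 0) (hj : j + j = 0)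
    (hi0 : i ≠ 0) (hj0 : j ≠ 0) : i = j := by
  have key : ∀ k : ZMod m, k + k = 0 → k ≠ 0 → k.val + k.val = m := by
    intro k hk hk0
    have h1 : ((k.val + k.val : ℕ) : ZMod m) = 0 := by
      push_cast
      rw [ZMod.natCast_zmod_val]
      exact hk
    have h2 : m ∣ k.val + k.val := (ZMod.natCast_eq_zero_iff _ _).1 h1
    have h3 : k.val < m := ZMod.val_lt k
    have h4 : k.val ≠ 0 := fun h => hk0 ((ZMod.val_eq_zero k).1 h)
    obtain ⟨q, hq⟩ := h2
    have hq0 : q ≠ 0 := by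
      rintro rfl
      omega
    have hq1 : q < 2 := by
      by_contra h
      push Not at h
      have := Nat.mul_le_mul_left m h
      omega
    have : q = 1 := by omega
    subst this
    omega
  have a1 := key i hi hi0
  have a2 := key j hj hj0
  apply ZMod.val_injective m
  omega

theorem dihedral_self {m : ℕ} [NeZero m] [Finite (DihedralGroup m)] (V : Subgroup (DihedralGroup m))
    (hV4 : Nat.card V = 4) (hV2 : ∀ v ∈ V, v^2 = 1)
    (c : DihedralGroup m) (hc : ∀ v ∈ V, v * c = c * v)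
    (hVc : ∀ a ∈ V, ∀ b ∈ V, a * b = b * a) : c ∈ V := by
  refine self_centralizing (rot m) ?_ ?_ ?_ V hV4 hV2 c hc hVc
  · rintro _ ⟨i, rfl⟩ _ ⟨j, rfl⟩ ha hb ha1 hb1
    rw [pow_two, r_mul_r, one_def] at ha hb
    have hi : i + i = 0 := r.inj ha
    have hj : j + j = 0 := r.inj hb
    have hi0 : i ≠ 0 := by
      rintro rfl
      exact ha1 rfl
    have hj0 : j ≠ 0 := by
      rintro rfl
      exact hb1 rfl
    rw [zmod_two_torsion i j hi hj hi0 hj0]
  · intro u w hu hw
    obtain ⟨i, rfl⟩ := not_mem_rot hu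
    obtain ⟨j, rfl⟩ := not_mem_rot hw
    rw [inv_sr, sr_mul_sr]
    exact ⟨_, rfl⟩
  · intro v hv hv2 a ha hav
    obtain ⟨i, rfl⟩ := not_mem_rot hv
    obtain ⟨j, rfl⟩ := ha
    rw [r_mul_sr, sr_mul_r] at hav
    have h : i - j = i + j := sr.inj hav
    have hj : j + j = 0 := by linear_combination (-1 : ZMod m) * h
    rw [pow_two, r_mul_r, hj]
    rfl

theorem quasi_self {Q : Type u} [Group Q] [Finite Q] (hS : Cfsg.IsQuasiDihedral Q)
    (V : Subgroup Q) (hV4 : Nat.card V = 4) (hV2 : ∀ v ∈ V, v^2 = 1)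
    (c : Q) (hc : ∀ v ∈ V, v * c = c * v)
    (hVc : ∀ a ∈ V, ∀ b ∈ V, a * b = b * a) : c ∈ V := by
  obtain ⟨n, hn, hcard, x, y, hx, hy, hyx⟩ := hS
  obtain ⟨k, rfl⟩ : ∃ k, n = k + 3 := ⟨n - 3, by omega⟩
  have hy2 : y^2 = 1 := by rw [← hy]; exact pow_orderOf_eq_one y
  obtain ⟨M, hM⟩ : ∃ M, M = 2 ^ k := ⟨_, rfl⟩
  have hM1 : 1 ≤ M := by rw [hM]; exact Nat.one_le_two_pow
  have hord : orderOf x = 8 * M := by rw [hx, hM]; ring
  have he : 2 ^ (k + 3 - 1) - 1 = 4 * M - 1 := by
    rw [hM, show k + 3 - 1 = k + 2 by omega]; ring_nf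
  rw [he] at hyx
  -- the key computation
  have fix : ∀ j : ℕ, y * x^j = x^j * y → (x^j)^2 = 1 := by
    intro j hj
    have h1 : y * x^j * y⁻¹ = x^((4 * M - 1) * j) := by
      rw [← conj_pow, hyx, ← pow_mul]
    have h2 : y * x^j * y⁻¹ = x^j := by rw [hj]; group
    rw [h2] at h1
    have h3 := (pow_eq_pow_iff_modEq).1 h1
    rw [hord] at h3
    have hle : j ≤ (4 * M - 1) * j := Nat.le_mul_of_pos_left j (by omega)
    have h4 : 8 * M ∣ (4 * M - 1) * j - j := (Nat.modEq_iff_dvd' hle).1 h3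
    have h5 : (4 * M - 1) * j - j = 2 * ((2 * M - 1) * j) := by
      obtain ⟨P, hP⟩ : ∃ P, M = P + 1 := ⟨M - 1, by omega⟩
      subst hP
      have e1 : 4 * (P + 1) - 1 = 4 * P + 3 := by omega
      have e2 : 2 * (P + 1) - 1 = 2 * P + 1 := by omega
      rw [e1, e2]
      apply Nat.sub_eq_of_eq_add
      ring
    rw [h5, show 8 * M = 2 * (4 * M) by ring] at h4
    have h6 : 4 * M ∣ (2 * M - 1) * j := Nat.dvd_of_mul_dvd_mul_left (by norm_num) h4
    have hcop : Nat.Coprime (4 * M) (2 * M - 1) := by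
      have h4M : 4 * M = 2 ^ (k + 2) := by rw [hM]; ring
      rw [h4M]
      apply Nat.Coprime.pow_left
      rw [Nat.Prime.coprime_iff_not_dvd Nat.prime_two]
      omega
    have h7 : 4 * M ∣ j := hcop.dvd_of_dvd_mul_left h6
    rw [← pow_mul]
    apply orderOf_dvd_iff_pow_eq_one.1
    rw [hord]
    obtain ⟨q, hq⟩ := h7
    exact ⟨q, by rw [hq]; ring⟩
  have hnat : ∀ a ∈ Subgroup.zpowers x, ∃ j : ℕ, x^j = a := by
    intro a ha
    exact (Submonoid.mem_powers_iff _ _).1 (mem_powers_iff_mem_zpowers.2 ha)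
  -- y is not a power of x
  have hyX : y ∉ Subgroup.zpowers x := by
    intro h
    obtain ⟨j, hj⟩ := hnat y h
    have hcomm : y * x^1 = x^1 * y := by
      rw [pow_one, ← hj, ← pow_succ, ← pow_succ']
    have := fix 1 hcomm
    rw [pow_one] at this
    have h2 := orderOf_dvd_of_pow_eq_one this
    rw [hord] at h2
    have := Nat.le_of_dvd (by norm_num) h2
    omega
  -- index two
  have hidx : (Subgroup.zpowers x).index = 2 := by
    have h1 := (Subgroup.zpowers x).card_mul_index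
    rw [Nat.card_zpowers, hx, hcard] at h1
    have h2 : 2 ^ (k + 3 + 1) = 2 ^ (k + 3) * 2 := pow_succ 2 (k + 3)
    rw [h2] at h1
    exact Nat.eq_of_mul_eq_mul_left (by positivity) h1
  have hii : ∀ u w : Q, u ∉ Subgroup.zpowers x → w ∉ Subgroup.zpowers x →
      u⁻¹ * w ∈ Subgroup.zpowers x := by
    intro u w hu hw
    rw [Subgroup.mul_mem_iff_of_index_two hidx, Subgroup.inv_mem_iff]
    exact iff_of_false hu hw
  refine self_centralizing (Subgroup.zpowers x) ?_ hii ?_ V hV4 hV2 c hc hVc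
  · intro a ha b hb ha2 hb2 ha1 hb1
    have oa : orderOf (⟨a, ha⟩ : ↥(Subgroup.zpowers x)) = 2 := by
      apply orderOf_eq_prime
      · exact Subtype.ext (by simpa using ha2)
      · intro h
        exact ha1 (congrArg Subtype.val h)
    have ob : orderOf (⟨b, hb⟩ : ↥(Subgroup.zpowers x)) = 2 := by
      apply orderOf_eq_prime
      · exact Subtype.ext (by simpa using hb2)
      · intro h
        exact hb1 (congrArg Subtype.val h)
    have := Cfsg.Agent.S1755.unique_involution oa ob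
    exact congrArg Subtype.val this
  · intro v hv hv2 a ha hav
    have hb : y⁻¹ * v ∈ Subgroup.zpowers x := hii y v hyX hv
    obtain ⟨b, hbdef⟩ : ∃ b, b = y⁻¹ * v := ⟨_, rfl⟩
    rw [← hbdef] at hb
    have hy_eq : y = v * b⁻¹ := by rw [hbdef]; group
    have hab : Commute a b := by
      obtain ⟨i, rfl⟩ := Subgroup.mem_zpowers_iff.1 ha
      obtain ⟨j, rfl⟩ := Subgroup.mem_zpowers_iff.1 hb
      exact (Commute.refl x).zpow_zpow i j
    have hav' : Commute a v := hav
    have hay : Commute a y := by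
      rw [hy_eq]
      exact hav'.mul_right hab.inv_right
    obtain ⟨j, rfl⟩ := hnat a ha
    exact fix j hay.eq.symm

/-- Let R be a finite group, t a central involution of R such that R ⧸ ⟨t⟩ is dihedral (of order ≥ 4) or quasi-dihedral, and A ≤ R an elementary abelian subgroup of order 8 containing t. Then C_R(A) = A. -/
theorem result {R : Type*} [Group R] [Finite R] (t : R) (ht : orderOf t = 2) (htz : t ∈ Subgroup.center R) [(Subgroup.zpowers t).Normal] (hq : (∃ m : ℕ, 2 ≤ m ∧ Nonempty (R ⧸ Subgroup.zpowers t ≃* DihedralGroup m)) ∨ Cfsg.IsQuasiDihedral (R ⧸ Subgroup.zpowers t)) (A : Subgroup R) (hA : Cfsg.IsElementaryAbelian 2 A) (hA8 : Nat.card A = 8) (htA : t ∈ A) : Subgroup.centralizer (A : Set R) = A := by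
  classical
  have hself : ∀ (V : Subgroup (R ⧸ Subgroup.zpowers t)), Nat.card V = 4 → (∀ v ∈ V, v^2 = 1) →
      (∀ a ∈ V, ∀ b ∈ V, a * b = b * a) →
      ∀ c : R ⧸ Subgroup.zpowers t, (∀ v ∈ V, v * c = c * v) → c ∈ V := by
    intro V hV4 hV2 hVc c hc
    rcases hq with ⟨m, hm, ⟨φ⟩⟩ | hqd
    · haveI : NeZero m := ⟨by omega⟩
      haveI : Finite (DihedralGroup m) := Finite.of_equiv _ φ.toEquiv
      have g1 : Nat.card (V.map φ.toMonoidHom) = 4 := by
        rw [Subgroup.card_map_of_injective φ.injective]; exact hV4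
      have g2 : ∀ v ∈ V.map φ.toMonoidHom, v^2 = 1 := by
        rintro _ ⟨v, hv, rfl⟩
        show (φ v)^2 = 1
        rw [← map_pow, hV2 v hv, map_one]
      have g3 : ∀ a ∈ V.map φ.toMonoidHom, ∀ b ∈ V.map φ.toMonoidHom, a * b = b * a := by
        rintro _ ⟨a, ha, rfl⟩ _ ⟨b, hb, rfl⟩
        show φ a * φ b = φ b * φ a
        rw [← map_mul, ← map_mul, hVc a ha b hb]
      have g4 : ∀ v ∈ V.map φ.toMonoidHom, v * φ c = φ c * v := by
        rintro _ ⟨v, hv, rfl⟩
        show φ v * φ c = φ c * φ v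
        rw [← map_mul, ← map_mul, hc v hv]
      obtain ⟨a, ha, hac⟩ := dihedral_self (V.map φ.toMonoidHom) g1 g2 (φ c) g4 g3
      have : a = c := φ.injective hac
      rw [← this]; exact ha
    · exact quasi_self hqd V hV4 hV2 c hc hVc
  have hTA : Subgroup.zpowers t ≤ A := Subgroup.zpowers_le.2 htA
  have hker : (QuotientGroup.mk' (Subgroup.zpowers t)).ker = Subgroup.zpowers t :=
    QuotientGroup.ker_mk' _
  have hcardT : Nat.card (Subgroup.zpowers t) = 2 := by rw [Nat.card_zpowers, ht]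
  obtain ⟨Ab, hAb⟩ : ∃ Ab, Ab = A.map (QuotientGroup.mk' (Subgroup.zpowers t)) := ⟨_, rfl⟩
  have hAb4 : Nat.card Ab = 4 := by
    have h1 : Ab.comap (QuotientGroup.mk' (Subgroup.zpowers t)) = A := by
      rw [hAb, Subgroup.comap_map_eq, hker]; exact sup_eq_left.2 hTA
    have h2 : (Ab.comap (QuotientGroup.mk' (Subgroup.zpowers t))).index = Ab.index :=
      Subgroup.index_comap_of_surjective Ab (QuotientGroup.mk'_surjective _)
    rw [h1] at h2
    have h3 := A.card_mul_index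
    have h4 := Ab.card_mul_index
    have h5 : Nat.card R = Nat.card (R ⧸ Subgroup.zpowers t) * Nat.card (Subgroup.zpowers t) :=
      Subgroup.card_eq_card_quotient_mul_card_subgroup _
    rw [hA8, h2] at h3
    rw [hcardT, ← h4] at h5
    have hpos : 0 < Ab.index := Nat.pos_of_ne_zero Subgroup.index_ne_zero_of_finite
    have h6 : (8 : ℕ) * Ab.index = (2 * Nat.card Ab) * Ab.index := by rw [h3, h5]; ring
    have := Nat.eq_of_mul_eq_mul_right hpos h6
    omega
  have hAb2 : ∀ v ∈ Ab, v^2 = 1 := by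
    rw [hAb]
    rintro _ ⟨a, ha, rfl⟩
    rw [← map_pow, hA.2 a ha, map_one]
  have hAbc : ∀ a ∈ Ab, ∀ b ∈ Ab, a * b = b * a := by
    rw [hAb]
    rintro _ ⟨a, ha, rfl⟩ _ ⟨b, hb, rfl⟩
    rw [← map_mul, ← map_mul]
    congr 1
    have := hA.1.is_comm.comm ⟨a, ha⟩ ⟨b, hb⟩
    exact congrArg Subtype.val this
  apply le_antisymm
  · intro c hc
    have hc' : ∀ v ∈ Ab, v * (QuotientGroup.mk' (Subgroup.zpowers t)) c
        = (QuotientGroup.mk' (Subgroup.zpowers t)) c * v := by
      rw [hAb]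
      rintro _ ⟨a, ha, rfl⟩
      rw [← map_mul, ← map_mul, (Subgroup.mem_centralizer_iff.1 hc) a ha]
    have hmem := hself Ab hAb4 hAb2 hAbc _ hc'
    rw [hAb] at hmem
    obtain ⟨a, ha, hac⟩ := hmem
    have h1 : a⁻¹ * c ∈ Subgroup.zpowers t := QuotientGroup.eq.1 hac
    have h2 : a⁻¹ * c ∈ A := hTA h1
    have := A.mul_mem ha h2
    simpa using this
  · intro a ha
    rw [Subgroup.mem_centralizer_iff]
    intro b hb
    have := hA.1.is_comm.comm ⟨b, hb⟩ ⟨a, ha⟩
    exact congrArg Subtype.val this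

end Cfsg.Agent.S1236
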