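import Cfsg.Statements.S1241
import Mathlib

set_option autoImplicit false
set_option linter.style.haveILetI false
open Cfsg

namespace Cfsg.Agent.S1241

/-- Let G be a finite group, p a prime, H a subgroup of index prime to p, K a subgroup of H normal in H with H/K commutative, and g ∈ H ∖ K an element of p-power order such that for all integers m and all a ∈ G with a g^m a⁻¹ ∈ H one has a g^m a⁻¹ ∈ g^m K. Then g ∉ G'. -/
theorem result {G : Type*} [Group G] [Finite G] {p : ℕ} [Fact p.Prime] (H K : Subgroup G) (hHK : K ≤ H) (hKn : (K.subgroupOf H).Normal) (hab : ∀ x ∈ H, ∀ y ∈ H, x * y * x⁻¹ * y⁻¹ ∈ K) (hidx : Nat.Coprime p H.index) (g : G) (hgH : g ∈ H) (hgK : g ∉ K) (hgp : ∃ k : ℕ, orderOf g = p ^ k) (hctrl : ∀ (m : ℤ) (a : G), a * g ^ m * a⁻¹ ∈ H → (a * g ^ m * a⁻¹) * (g ^ m)⁻¹ ∈ K) : g ∉ commutator G := by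
  classical
  intro hgc
  letI : CommGroup (↥H ⧸ K.subgroupOf H) :=
    { (inferInstance : Group (↥H ⧸ K.subgroupOf H)) with
      mul_comm := by
        intro a b
        induction a using QuotientGroup.induction_on with
        | H a =>
        induction b using QuotientGroup.induction_on with
        | H b =>
        rw [← QuotientGroup.mk_mul, ← QuotientGroup.mk_mul]
        apply QuotientGroup.eq.2
        rw [Subgroup.mem_subgroupOf]
        have := hab (b : G)⁻¹ (H.inv_mem b.2) (a : G)⁻¹ (H.inv_mem a.2)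
        have e : (((a * b)⁻¹ * (b * a) : ↥H) : G) = (b : G)⁻¹ * (a : G)⁻¹ * (b : G)⁻¹⁻¹ * (a : G)⁻¹⁻¹ := by
          simp only [Subgroup.coe_mul, Subgroup.coe_inv]
          group
        rw [e]; exact this }
  let ϕ : ↥H →* ↥H ⧸ K.subgroupOf H := QuotientGroup.mk' _
  have : Fintype (Quotient (MulAction.orbitRel (Subgroup.zpowers g) (G ⧸ H))) := Fintype.ofFinite _
  have hV : MonoidHom.transfer ϕ g = 1 := by
    have h1 : commutator G ≤ (MonoidHom.transfer ϕ).ker := Abelianization.commutator_subset_ker _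
    exact h1 hgc
  have hval : ∀ q : Quotient (MulAction.orbitRel (Subgroup.zpowers g) (G ⧸ H)),
      ϕ ⟨q.out.out⁻¹ * g ^ Function.minimalPeriod (g • ·) q.out * q.out.out,
            QuotientGroup.out_conj_pow_minimalPeriod_mem H g q.out⟩
        = ϕ ⟨g, hgH⟩ ^ Function.minimalPeriod (g • ·) q.out := by
    intro q
    have hmem := QuotientGroup.out_conj_pow_minimalPeriod_mem H g q.out
    have h1 := hctrl (Function.minimalPeriod (g • ·) q.out : ℕ) (q.out.out⁻¹)
      (by rw [zpow_natCast, inv_inv]; exact hmem)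
    rw [zpow_natCast, inv_inv] at h1
    rw [← map_pow]
    symm
    apply QuotientGroup.eq.2
    rw [Subgroup.mem_subgroupOf]
    have e : (((⟨g, hgH⟩ ^ Function.minimalPeriod (g • ·) q.out)⁻¹ *
        ⟨q.out.out⁻¹ * g ^ Function.minimalPeriod (g • ·) q.out * q.out.out, hmem⟩ : ↥H) : G) =
        (g ^ Function.minimalPeriod (g • ·) q.out)⁻¹ *
          (q.out.out⁻¹ * g ^ Function.minimalPeriod (g • ·) q.out * q.out.out) := by
      simp
    rw [e]
    -- K is normal in H: conjugate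
    have hn := hKn.conj_mem ⟨_, hHK h1⟩ (Subgroup.mem_subgroupOf.2 h1)
      ⟨(g ^ Function.minimalPeriod (g • ·) q.out)⁻¹, H.inv_mem (H.pow_mem hgH _)⟩
    rw [Subgroup.mem_subgroupOf] at hn
    have e2 : ((⟨(g ^ Function.minimalPeriod (g • ·) q.out)⁻¹, H.inv_mem (H.pow_mem hgH _)⟩ *
        ⟨q.out.out⁻¹ * g ^ Function.minimalPeriod (g • ·) q.out * q.out.out *
          (g ^ Function.minimalPeriod (g • ·) q.out)⁻¹, hHK h1⟩ *
        (⟨(g ^ Function.minimalPeriod (g • ·) q.out)⁻¹, H.inv_mem (H.pow_mem hgH _)⟩ : ↥H)⁻¹ : ↥H) : G) =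
        (g ^ Function.minimalPeriod (g • ·) q.out)⁻¹ *
          (q.out.out⁻¹ * g ^ Function.minimalPeriod (g • ·) q.out * q.out.out) := by
      simp only [Subgroup.coe_mul, Subgroup.coe_inv]
      group
    rw [e2] at hn
    exact hn
  rw [MonoidHom.transfer_eq_prod_quotient_orbitRel_zpowers_quot,
    Finset.prod_congr rfl (fun q _ => hval q), Finset.prod_pow_eq_pow_sum,
    ← Subgroup.index_eq_sum_minimalPeriod] at hV
  -- ϕ g has p-power order, index coprime to p
  obtain ⟨k, hk⟩ := hgp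
  have h1 : orderOf (ϕ ⟨g, hgH⟩) ∣ p ^ k := by
    apply orderOf_dvd_of_pow_eq_one
    rw [← map_pow]
    have : (⟨g, hgH⟩ : ↥H) ^ p ^ k = 1 := by
      apply Subtype.ext
      simp only [Subgroup.coe_pow, Subgroup.coe_one]
      rw [← hk]; exact pow_orderOf_eq_one g
    rw [this, map_one]
  have h2 : orderOf (ϕ ⟨g, hgH⟩) ∣ H.index := orderOf_dvd_of_pow_eq_one hV
  have h3 : orderOf (ϕ ⟨g, hgH⟩) = 1 :=
    Nat.Coprime.eq_one_of_dvd (Nat.Coprime.coprime_dvd_left h2 (hidx.symm.pow_right k)) h1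
  rw [orderOf_eq_one_iff] at h3
  apply hgK
  have := (QuotientGroup.eq_one_iff (⟨g, hgH⟩ : ↥H)).1 h3
  exact Subgroup.mem_subgroupOf.1 this

end Cfsg.Agent.S1241
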