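import Mathlib
import Cfsg.Statements.S1243
import Cfsg.Agent.H2.SylowExtra

set_option autoImplicit false
open Cfsg

namespace Cfsg.Agent.S1243

open Cfsg.Agent.H2

/-- Let T be a Sylow p-subgroup of the finite group G and W ≤ T a subgroup weakly closed in T. If d and g d g⁻¹ both centralize W, then g d g⁻¹ = h d h⁻¹ for some h ∈ N_G(W). -/
theorem result {G : Type*} [Group G] [Finite G] {p : ℕ} [Fact p.Prime] (T : Sylow p G) (W : Subgroup G) (hW : Cfsg.IsWeaklyClosed W (T : Subgroup G)) (d g : G) (hd : d ∈ Subgroup.centralizer (W : Set G)) (hgd : g * d * g⁻¹ ∈ Subgroup.centralizer (W : Set G)) : ∃ h ∈ Subgroup.normalizer (W : Set G), h * d * h⁻¹ = g * d * g⁻¹ := by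
  obtain ⟨hWT, hcl⟩ := hW
  have hWp : IsPGroup p W := T.2.to_le hWT
  set C := Subgroup.centralizer ({d} : Set G) with hC
  have hWC : W ≤ C := by
    intro w hw
    rw [hC, Subgroup.mem_centralizer_singleton_iff]
    exact ((Subgroup.mem_centralizer_iff.1 hd) w hw)
  set W' := W.map (MulAut.conj g⁻¹).toMonoidHom with hW'
  have hW'p : IsPGroup p W' := hWp.map _
  have hW'C : W' ≤ C := by
    intro x hx
    rw [hW', mem_map_conj_iff, inv_inv] at hx
    rw [hC, Subgroup.mem_centralizer_singleton_iff]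
    have := (Subgroup.mem_centralizer_iff.1 hgd) _ hx
    -- (g x g⁻¹) (g d g⁻¹) = (g d g⁻¹) (g x g⁻¹)
    have e1 : g * x * g⁻¹ * (g * d * g⁻¹) = g * (x * d) * g⁻¹ := by group
    have e2 : g * d * g⁻¹ * (g * x * g⁻¹) = g * (d * x) * g⁻¹ := by group
    rw [e1, e2] at this
    have := mul_left_cancel (mul_right_cancel this)
    exact this
  obtain ⟨c, hcC, R, hRp, hRC, hWR, hcR⟩ := exists_conj_common_pgroup C W W' hWp hW'p hWC hW'C
  obtain ⟨Q, hQ⟩ := hRp.exists_le_sylow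
  obtain ⟨x, rfl⟩ := MulAction.exists_smul_eq G T Q
  -- x⁻¹ W x ≤ T
  have h1 : W.map (MulAut.conj x⁻¹).toMonoidHom ≤ T := by
    intro y hy
    rw [mem_map_conj_iff, inv_inv] at hy
    have := hQ (hWR hy)
    rw [mem_sylow_smul_iff] at this
    convert this using 1
    group
  have h2 : W.map (MulAut.conj (x⁻¹ * (c * g⁻¹))).toMonoidHom ≤ T := by
    rw [map_conj_mul, map_conj_mul]
    intro y hy
    rw [mem_map_conj_iff, inv_inv] at hy
    have := hQ (hcR hy)
    rw [mem_sylow_smul_iff] at this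
    convert this using 1
    group
  have e1 := (map_conj_eq_self_iff_mem_normalizer W _).1 (hcl _ h1)
  have e2 := (map_conj_eq_self_iff_mem_normalizer W _).1 (hcl _ h2)
  have e3 : c * g⁻¹ ∈ Subgroup.normalizer (W : Set G) := by
    have : c * g⁻¹ = (x⁻¹)⁻¹ * (x⁻¹ * (c * g⁻¹)) := by group
    rw [this]
    exact Subgroup.mul_mem _ (Subgroup.inv_mem _ e1) e2
  refine ⟨(c * g⁻¹)⁻¹, Subgroup.inv_mem _ e3, ?_⟩
  rw [hC, Subgroup.mem_centralizer_singleton_iff] at hcC
  calc (c * g⁻¹)⁻¹ * d * (c * g⁻¹)⁻¹⁻¹ = g * (c⁻¹ * (d * c)) * g⁻¹ := by group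
    _ = g * (c⁻¹ * (c * d)) * g⁻¹ := by rw [hcC]
    _ = g * d * g⁻¹ := by group

end Cfsg.Agent.S1243
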