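import Mathlib
import Cfsg.Statements.S1246
import Cfsg.Agent.H2.CharP

set_option autoImplicit false

namespace Cfsg.Agent.S1246

open Cfsg.Agent.H2

section

variable {G : Type*} [Group G] [Finite G] (p : ℕ) [Fact p.Prime]

/-- one step: `V ⊴ V₁` -/
theorem step (V V₁ : Subgroup G) (hVV₁ : V ≤ V₁) (hV₁N : V₁ ≤ Subgroup.normalizer (V : Set G))
    (hV₁ : IsPGroup p V₁) (hV : IsCharP p (Subgroup.centralizer (V : Set G))) :
    IsCharP p (Subgroup.centralizer (V₁ : Set G)) := by
  have hV₁H : V₁ ≤ Subgroup.normalizer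
      ((Subgroup.centralizer (V : Set G) : Subgroup G) : Set G) :=
    hV₁N.trans (normalizer_le_normalizer_centralizer' V)
  have hBH : Subgroup.centralizer (V : Set G) ⊔ V₁ ≤ Subgroup.normalizer
      ((Subgroup.centralizer (V : Set G) : Subgroup G) : Set G) :=
    sup_le Subgroup.le_normalizer hV₁H
  have hH'n : ((Subgroup.centralizer (V : Set G)).subgroupOf
      (Subgroup.centralizer (V : Set G) ⊔ V₁)).Normal :=
    (Subgroup.normal_subgroupOf_iff_le_normalizer le_sup_left).2 hBH
  have hH' : IsCharP p ((Subgroup.centralizer (V : Set G)).subgroupOf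
      (Subgroup.centralizer (V : Set G) ⊔ V₁)) :=
    hV.congr p (Subgroup.subgroupOfEquivOfLe le_sup_left).symm
  have hq : ∀ x : ↥(Subgroup.centralizer (V : Set G) ⊔ V₁), ∃ k : ℕ,
      x ^ p ^ k ∈ (Subgroup.centralizer (V : Set G)).subgroupOf
        (Subgroup.centralizer (V : Set G) ⊔ V₁) := by
    rintro ⟨b, hb⟩
    have hb' : b ∈ ((V₁ ⊔ Subgroup.centralizer (V : Set G) : Subgroup G) : Set G) := by
      rw [sup_comm]; exact hb
    rw [Subgroup.coe_mul_of_left_le_normalizer_right _ _ hV₁H] at hb'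
    obtain ⟨v, hv, h, hh, rfl⟩ := hb'
    obtain ⟨k, hk⟩ := hV₁ ⟨v, hv⟩
    have hk' : v ^ p ^ k = 1 := congrArg Subtype.val hk
    refine ⟨k, ?_⟩
    rw [← QuotientGroup.eq_one_iff, QuotientGroup.mk_pow]
    have hvB : v ∈ Subgroup.centralizer (V : Set G) ⊔ V₁ := Subgroup.mem_sup_right hv
    have hhB : h ∈ Subgroup.centralizer (V : Set G) ⊔ V₁ := Subgroup.mem_sup_left hh
    have e1 : (⟨v * h, hb⟩ : ↥(Subgroup.centralizer (V : Set G) ⊔ V₁)) = ⟨v, hvB⟩ * ⟨h, hhB⟩ := rfl
    have e2 : ((⟨h, hhB⟩ : ↥(Subgroup.centralizer (V : Set G) ⊔ V₁)) :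
        ↥(Subgroup.centralizer (V : Set G) ⊔ V₁) ⧸ (Subgroup.centralizer (V : Set G)).subgroupOf
        (Subgroup.centralizer (V : Set G) ⊔ V₁)) = 1 :=
      (QuotientGroup.eq_one_iff _).2 (Subgroup.mem_subgroupOf.2 hh)
    rw [e1, QuotientGroup.mk_mul, e2, mul_one, ← QuotientGroup.mk_pow]
    have e3 : (⟨v, hvB⟩ : ↥(Subgroup.centralizer (V : Set G) ⊔ V₁)) ^ p ^ k = 1 :=
      Subtype.ext hk'
    rw [e3]; rfl
  have hB : IsCharP p ↥(Subgroup.centralizer (V : Set G) ⊔ V₁) :=
    IsCharP.of_normal p _ hH' hq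
  have hP' : IsPGroup p (V₁.subgroupOf (Subgroup.centralizer (V : Set G) ⊔ V₁)) :=
    hV₁.comap_of_injective _ (Subgroup.subtype_injective _)
  have hC := hB.centralizer p _ hP'
  -- transport to `C_G(V₁)`
  have hinj : Function.Injective ((Subgroup.centralizer (V : Set G) ⊔ V₁).subtype.comp
      (Subgroup.centralizer ((V₁.subgroupOf (Subgroup.centralizer (V : Set G) ⊔ V₁) :
        Subgroup ↥(Subgroup.centralizer (V : Set G) ⊔ V₁)) :
        Set ↥(Subgroup.centralizer (V : Set G) ⊔ V₁))).subtype) := by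
    intro a b hab
    exact Subtype.ext (Subtype.ext hab)
  have hrange : ((Subgroup.centralizer (V : Set G) ⊔ V₁).subtype.comp
      (Subgroup.centralizer ((V₁.subgroupOf (Subgroup.centralizer (V : Set G) ⊔ V₁) :
        Subgroup ↥(Subgroup.centralizer (V : Set G) ⊔ V₁)) :
        Set ↥(Subgroup.centralizer (V : Set G) ⊔ V₁))).subtype).range =
      Subgroup.centralizer (V₁ : Set G) := by
    ext y
    constructor
    · rintro ⟨x, rfl⟩
      rw [Subgroup.mem_centralizer_iff]
      intro v hv
      have hvB : v ∈ Subgroup.centralizer (V : Set G) ⊔ V₁ := Subgroup.mem_sup_right hv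
      have := Subgroup.mem_centralizer_iff.1 x.2 ⟨v, hvB⟩ (Subgroup.mem_subgroupOf.2 hv)
      exact congrArg Subtype.val this
    · intro hy
      have hyB : y ∈ Subgroup.centralizer (V : Set G) ⊔ V₁ :=
        Subgroup.mem_sup_left (Subgroup.centralizer_le hVV₁ hy)
      refine ⟨⟨⟨y, hyB⟩, ?_⟩, rfl⟩
      rw [Subgroup.mem_centralizer_iff]
      intro w hw
      apply Subtype.ext
      exact Subgroup.mem_centralizer_iff.1 hy w.1 (Subgroup.mem_subgroupOf.1 hw)
  exact hC.congr p ((MonoidHom.ofInjective hinj).trans (MulEquiv.subgroupCongr hrange))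

/-- the general case, by induction on the index -/
theorem main (n : ℕ) : ∀ (U V : Subgroup G), V ≤ U → IsPGroup p U →
    Nat.card U - Nat.card V = n →
    IsCharP p (Subgroup.centralizer (V : Set G)) → IsCharP p (Subgroup.centralizer (U : Set G)) := by
  induction n using Nat.strong_induction_on with
  | _ n ih =>
    intro U V hVU hU hn hV
    by_cases heq : V = U
    · rw [← heq]; exact hV
    -- the normalizer of V in U is larger
    have hlt : V < U := lt_of_le_of_ne hVU heq
    have hnil : Group.IsNilpotent U := hU.isNilpotent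
    have hnc := Group.normalizerCondition_of_isNilpotent (G := U) (V.subgroupOf U) (by
      rw [lt_top_iff_ne_top, Ne, Subgroup.subgroupOf_eq_top]
      exact fun h => heq (le_antisymm hVU h))
    obtain ⟨u, huN, huV⟩ := SetLike.exists_of_lt hnc
    have hV₁ : V < Subgroup.normalizer (V : Set G) ⊓ U := by
      refine lt_of_le_of_ne (le_inf Subgroup.le_normalizer hVU) ?_
      intro h
      apply huV
      rw [Subgroup.mem_subgroupOf, h]
      refine Subgroup.mem_inf.2 ⟨?_, u.2⟩
      show (u : G) ∈ Subgroup.normalizer (V : Set G)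
      rw [Subgroup.mem_normalizer_iff]
      intro x
      rw [Subgroup.mem_normalizer_iff] at huN
      constructor
      · intro hx
        have := (huN ⟨x, hVU hx⟩).1 (Subgroup.mem_subgroupOf.2 hx)
        exact Subgroup.mem_subgroupOf.1 this
      · intro hx
        have hxU : x ∈ U := by
          have h1 : (u : G)⁻¹ * ((u : G) * x * (u : G)⁻¹) * (u : G) = x := by group
          rw [← h1]
          exact U.mul_mem (U.mul_mem (U.inv_mem u.2) (hVU hx)) u.2
        have := (huN ⟨x, hxU⟩).2 (Subgroup.mem_subgroupOf.2 hx)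
        exact Subgroup.mem_subgroupOf.1 this
    have hstep := step p V (Subgroup.normalizer (V : Set G) ⊓ U) hV₁.le inf_le_left
      (hU.to_le inf_le_right) hV
    have hc1 : Nat.card V < Nat.card (Subgroup.normalizer (V : Set G) ⊓ U : Subgroup G) := by
      by_contra hcon
      push Not at hcon
      exact hV₁.ne (Subgroup.eq_of_le_of_card_ge hV₁.le hcon)
    have hc2 : Nat.card (Subgroup.normalizer (V : Set G) ⊓ U : Subgroup G) ≤ Nat.card U :=
      Subgroup.card_le_of_le inf_le_right
    exact ih (Nat.card U - Nat.card (Subgroup.normalizer (V : Set G) ⊓ U : Subgroup G))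
      (by omega) U _ inf_le_right hU rfl hstep

end

/-- Let V ≤ U be p-subgroups of the finite group G. If the generalized Fitting subgroup of C_G(V) is a p-group, then so is that of C_G(U). -/
theorem result {G : Type*} [Group G] [Finite G] {p : ℕ} [Fact p.Prime] (U V : Subgroup G) (hVU : V ≤ U) (hU : IsPGroup p U) (hV : IsPGroup p ↥(Cfsg.generalizedFittingSubgroup ↥(Subgroup.centralizer (V : Set G)))) : IsPGroup p ↥(Cfsg.generalizedFittingSubgroup ↥(Subgroup.centralizer (U : Set G))) :=
  main p _ U V hVU hU rfl hV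

end Cfsg.Agent.S1246
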