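import Mathlib
import Cfsg.Statements.S1248
import Cfsg.Agent.Lib.Helper5.Herm
import Cfsg.Agent.Lib.Helper8.SUTransport
import Cfsg.Agent.S0278
import Cfsg.Agent.S0279

set_option autoImplicit false
open Cfsg

namespace Cfsg.Agent.S1248


section Part0

open Cfsg.Agent.Lib.Helper5

section field

variable {F : Type*} [Field F] [Fintype F]

theorem charTwo (hF : Fintype.card F = 16) : CharP F 2 :=
  ringChar.of_eq (FiniteField.even_card_iff_char_two.mpr (by rw [hF]))

theorem two_eq_zero (hF : Fintype.card F = 16) : (2 : F) = 0 := by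
  haveI := charTwo hF
  exact CharTwo.two_eq_zero

theorem fadd (hF : Fintype.card F = 16) (x y : F) : (x + y) ^ 4 = x ^ 4 + y ^ 4 :=
  Herm.frob_add (q := 4) (by rw [hF]; norm_num) x y

theorem ffrob (hF : Fintype.card F = 16) (x : F) : (x ^ 4) ^ 4 = x :=
  Herm.frob_frob (q := 4) (by rw [hF]; norm_num) x

theorem exists_not_fixed (hF : Fintype.card F = 16) : ∃ w : F, w ^ 4 ≠ w := by
  classical
  obtain ⟨g, hg⟩ := IsCyclic.exists_generator (α := Fˣ)
  have hord : orderOf g = 15 := by
    rw [orderOf_eq_card_of_forall_mem_zpowers hg, Nat.card_eq_fintype_card, Fintype.card_units, hF]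
  refine ⟨(g : F), fun h => ?_⟩
  have h3 : g ^ 3 = 1 := by
    apply Units.ext
    rw [Units.val_pow_eq_pow_val, Units.val_one]
    have hne : (g : F) ≠ 0 := g.ne_zero
    have : (g : F) * (g : F) ^ 3 = (g : F) * 1 := by
      rw [mul_one, ← pow_succ']
      exact h
    exact mul_left_cancel₀ hne this
  have := orderOf_dvd_of_pow_eq_one h3
  rw [hord] at this
  omega

/-- the "trace" `x ↦ x + x^4` hits every fixed point of the Frobenius -/
theorem exists_trace (hF : Fintype.card F = 16) (t : F) (ht : t ^ 4 = t) :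
    ∃ x : F, x + x ^ 4 = t := by
  obtain ⟨w, hw⟩ := exists_not_fixed hF
  have h2 := two_eq_zero hF
  set s : F := w + w ^ 4 with hs
  have hs0 : s ≠ 0 := by
    intro h
    apply hw
    have : w ^ 4 = w + (w + w ^ 4) - 2 * w := by ring
    rw [this, ← hs, h, h2]
    ring
  have hs4 : s ^ 4 = s := by
    rw [hs, fadd hF, ffrob hF]
    ring
  refine ⟨t * s⁻¹ * w, ?_⟩
  have : (t * s⁻¹ * w) ^ 4 = t * s⁻¹ * w ^ 4 := by
    rw [mul_pow, mul_pow, inv_pow, ht, hs4]
  rw [this]
  have : t * s⁻¹ * w + t * s⁻¹ * w ^ 4 = t * s⁻¹ * s := by rw [hs]; ring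
  rw [this, mul_assoc, inv_mul_cancel₀ hs0, mul_one]

theorem norm_fixed (hF : Fintype.card F = 16) (a : F) : (a * a ^ 4) ^ 4 = a * a ^ 4 := by
  rw [mul_pow, ffrob hF]
  ring

theorem exists_b (hF : Fintype.card F = 16) (a : F) : ∃ b : F, b + b ^ 4 = a * a ^ 4 :=
  exists_trace hF _ (norm_fixed hF a)

/-- the fixed field has 4 elements -/
theorem card_fixed (hF : Fintype.card F = 16) :
    Nat.card {t : F // t + t ^ 4 = 0} = 4 := by
  classical
  let T : F →+ F :=
    { toFun := fun x => x + x ^ 4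
      map_zero' := by simp
      map_add' := fun x y => by rw [fadd hF]; ring }
  have h2 := two_eq_zero hF
  have hker : ∀ t : F, t ∈ T.ker ↔ t + t ^ 4 = 0 := fun t => Iff.rfl
  have hfix : ∀ t : F, t + t ^ 4 = 0 ↔ t ^ 4 = t := by
    intro t
    constructor
    · intro h
      have : t ^ 4 = (t + t ^ 4) - 2 * t + t := by ring
      rw [this, h, h2]; ring
    · intro h
      rw [h]
      have : t + t = 2 * t := by ring
      rw [this, h2, zero_mul]
  have hrange : T.range = T.ker := by
    ext t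
    rw [hker, hfix]
    constructor
    · rintro ⟨x, rfl⟩
      show (x + x ^ 4) ^ 4 = x + x ^ 4
      rw [fadd hF, ffrob hF]; ring
    · intro h
      obtain ⟨x, hx⟩ := exists_trace hF t h
      exact ⟨x, hx⟩
  have h1 := AddSubgroup.card_eq_card_quotient_mul_card_addSubgroup T.ker
  have h3 : Nat.card (F ⧸ T.ker) = Nat.card T.range :=
    Nat.card_congr (QuotientAddGroup.quotientKerEquivRange T).toEquiv
  rw [h3, hrange, Nat.card_eq_fintype_card, hF] at h1
  have h4 : Nat.card {t : F // t + t ^ 4 = 0} = Nat.card T.ker := rfl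
  rw [h4]
  have : Nat.card T.ker ≤ 16 := by nlinarith
  interval_cases (Nat.card T.ker) <;> omega

end field

end Part0

section Part1

open scoped commutatorElement

section core

variable {F : Type*} [Field F] [Fintype F]
variable {X : Type*} [Group X] [Finite X]

theorem core (hF : Fintype.card F = 16) (a b : X → F)
    (ha : ∀ x y, a (x * y) = a x + a y)
    (hb : ∀ x y, b (x * y) = b x + b y + a x * (a y) ^ 4)
    (hinj : ∀ x y, a x = a y → b x = b y → x = y)
    (hcond : ∀ x, b x + (b x) ^ 4 = a x * (a x) ^ 4)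
    (hsurj : ∀ a0 b0 : F, b0 + b0 ^ 4 = a0 * a0 ^ 4 → ∃ x, a x = a0 ∧ b x = b0) :
    Nat.card X = 64 ∧ IsKleinFour (Subgroup.center X) ∧
    Subgroup.center X = Subgroup.closure {x : X | orderOf x = 2} ∧
    Subgroup.center X = commutator X ∧
    Nat.card (X ⧸ Subgroup.center X) = 16 ∧
    ∀ x : X ⧸ Subgroup.center X, x ^ 2 = 1 := by
  classical
  have h2 := two_eq_zero hF
  have hdbl : ∀ t : F, t + t = 0 := fun t => by
    have : t + t = 2 * t := by ring
    rw [this, h2, zero_mul]
  have ha1 : a 1 = 0 := by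
    have := ha 1 1
    rw [mul_one] at this
    have h : a 1 = a 1 + a 1 - a 1 := by ring
    rw [h, ← this]; ring
  have hb1 : b 1 = 0 := by
    have := hb 1 1
    rw [mul_one, ha1, zero_mul, add_zero] at this
    have h : b 1 = b 1 + b 1 - b 1 := by ring
    rw [h, ← this]; ring
  have hone : ∀ x, a x = 0 → b x = 0 → x = 1 := fun x h1 h2' =>
    hinj x 1 (by rw [h1, ha1]) (by rw [h2', hb1])
  -- the hom to F
  let α : X →* Multiplicative F :=
    { toFun := fun x => Multiplicative.ofAdd (a x)
      map_one' := by rw [ha1]; rfl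
      map_mul' := fun x y => by rw [ha]; rfl }
  have hαker : ∀ x, x ∈ α.ker ↔ a x = 0 := by
    intro x
    rw [MonoidHom.mem_ker]
    show Multiplicative.ofAdd (a x) = 1 ↔ _
    exact ⟨fun h => by simpa using congrArg Multiplicative.toAdd h, fun h => by rw [h]; rfl⟩
  have hαsurj : Function.Surjective α := by
    intro y
    obtain ⟨b0, hb0⟩ := exists_b hF (Multiplicative.toAdd y)
    obtain ⟨x, hx, _⟩ := hsurj _ b0 hb0
    exact ⟨x, by show Multiplicative.ofAdd (a x) = y; rw [hx]; rfl⟩
  -- center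
  have hcen : ∀ x, x ∈ Subgroup.center X ↔ a x = 0 := by
    intro x
    rw [Subgroup.mem_center_iff]
    constructor
    · intro hx
      by_contra hne
      obtain ⟨w, hw⟩ := exists_not_fixed hF
      obtain ⟨b0, hb0⟩ := exists_b hF (a x * w)
      obtain ⟨y, hy, _⟩ := hsurj _ b0 hb0
      have h1 := congrArg b (hx y)
      rw [hb, hb, hy] at h1
      apply hw
      have h3 : a x * w * (a x) ^ 4 = a x * (a x * w) ^ 4 := by
        have : b y + b x + a x * w * a x ^ 4 - (b y + b x) = b x + b y + a x * (a x * w) ^ 4 - (b y + b x) := by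
          rw [h1]
        linear_combination this
      have h4 : a x * (a x) ^ 4 ≠ 0 := mul_ne_zero hne (pow_ne_zero 4 hne)
      apply mul_left_cancel₀ h4
      rw [mul_pow] at h3
      linear_combination -h3
    · intro hx y
      apply hinj
      · rw [ha, ha]; ring
      · rw [hb, hb, hx]; ring
  have hceq : Subgroup.center X = α.ker := by
    ext x
    rw [hcen, hαker]
  have hsqc : ∀ x, a x = 0 → x * x = 1 := by
    intro x hx
    apply hone
    · rw [ha, hx]; ring
    · rw [hb, hx]
      have := hdbl (b x)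
      linear_combination this
  have hsq_mem : ∀ x, x * x ∈ Subgroup.center X := by
    intro x
    rw [hcen, ha]
    exact hdbl _
  -- cardinalities
  have hq16 : Nat.card (X ⧸ Subgroup.center X) = 16 := by
    have e1 : X ⧸ Subgroup.center X ≃* X ⧸ α.ker := QuotientGroup.quotientMulEquivOfEq hceq
    have e2 : X ⧸ α.ker ≃* Multiplicative F := QuotientGroup.quotientKerEquivOfSurjective α hαsurj
    rw [Nat.card_congr (e1.trans e2).toEquiv]
    show Nat.card F = 16
    rw [Nat.card_eq_fintype_card, hF]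
  have hc4 : Nat.card (Subgroup.center X) = 4 := by
    rw [← card_fixed hF]
    refine Nat.card_congr (Equiv.ofBijective
      (fun x => ⟨b x.1, by
        have := hcond x.1
        rw [(hcen x.1).1 x.2] at this
        rw [this]; ring⟩) ⟨?_, ?_⟩)
    · intro x y hxy
      apply Subtype.ext
      apply hinj
      · rw [(hcen x.1).1 x.2, (hcen y.1).1 y.2]
      · exact congrArg Subtype.val hxy
    · rintro ⟨t, ht⟩
      obtain ⟨x, hx, hx'⟩ := hsurj 0 t (by rw [ht]; ring)
      exact ⟨⟨x, (hcen x).2 hx⟩, Subtype.ext hx'⟩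
  have hcard : Nat.card X = 64 := by
    rw [Subgroup.card_eq_card_quotient_mul_card_subgroup (Subgroup.center X), hq16, hc4]
  refine ⟨hcard, ?_, ?_, ?_, hq16, ?_⟩
  · -- Klein four
    refine ⟨hc4, ?_⟩
    have hdvd : Monoid.exponent (Subgroup.center X) ∣ 2 := by
      apply Monoid.exponent_dvd_of_forall_pow_eq_one
      intro x
      apply Subtype.ext
      rw [pow_two]
      exact hsqc x.1 ((hcen x.1).1 x.2)
    have hne : Monoid.exponent (Subgroup.center X) ≠ 1 := by
      intro h
      rw [Monoid.exp_eq_one_iff] at h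
      have := Nat.card_unique (α := Subgroup.center X)
      omega
    rcases (Nat.dvd_prime Nat.prime_two).1 hdvd with h | h
    · exact absurd h hne
    · exact h
  · -- closure of involutions
    apply le_antisymm
    · intro x hx
      by_cases hx1 : x = 1
      · rw [hx1]; exact Subgroup.one_mem _
      · apply Subgroup.subset_closure
        show orderOf x = 2
        haveI : Fact (Nat.Prime 2) := ⟨Nat.prime_two⟩
        rw [orderOf_eq_prime_iff]
        exact ⟨by rw [pow_two]; exact hsqc x ((hcen x).1 hx), hx1⟩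
    · rw [Subgroup.closure_le]
      intro x hx
      have hx2 : orderOf x = 2 := hx
      have hx3 : x * x = 1 := by
        rw [← pow_two, ← hx2]; exact pow_orderOf_eq_one x
      rw [SetLike.mem_coe, hcen]
      have h1 := congrArg b hx3
      rw [hb, hb1] at h1
      have h5 : a x * (a x) ^ 4 = 0 := by
        have := hdbl (b x)
        linear_combination h1 - this
      rcases mul_eq_zero.1 h5 with h | h
      · exact h
      · exact pow_eq_zero_iff (by norm_num) |>.1 h
  · -- commutator
    apply le_antisymm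
    · intro x hx
      have hax := (hcen x).1 hx
      have hbx : (b x) ^ 4 = b x := by
        have := hcond x
        rw [hax] at this
        have h3 := hdbl (b x)
        linear_combination this - h3
      obtain ⟨a', ha'⟩ := exists_trace hF (b x) hbx
      obtain ⟨b1, hb1'⟩ := exists_b hF a'
      obtain ⟨g, hg, _⟩ := hsurj a' b1 hb1'
      obtain ⟨b2, hb2'⟩ := exists_b hF 1
      obtain ⟨h, hh, _⟩ := hsurj 1 b2 hb2'
      have hc : ⁅g, h⁆ * (h * g) = g * h := by
        rw [commutatorElement_def]; group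
      have hcm : ⁅g, h⁆ ∈ commutator X := by
        rw [commutator_def]
        exact Subgroup.commutator_mem_commutator (Subgroup.mem_top g) (Subgroup.mem_top h)
      have hca : a ⁅g, h⁆ = 0 := by
        have := congrArg a hc
        rw [ha, ha, ha] at this
        linear_combination this
      have hcb : b ⁅g, h⁆ = b x := by
        have := congrArg b hc
        rw [hb, hb, hb, hca, hg, hh] at this
        have h3 := hdbl (a' ^ 4)
        linear_combination this + ha' - h3
      have : x = ⁅g, h⁆ := hinj _ _ (by rw [hax, hca]) hcb.symm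
      rw [this]; exact hcm
    · rw [hceq]
      exact Abelianization.commutator_subset_ker α
  · intro x
    induction x using QuotientGroup.induction_on with
    | H g =>
      rw [← QuotientGroup.mk_pow, QuotientGroup.eq_one_iff, pow_two]
      exact hsq_mem g

end core

end Part1

section Part2

open Matrix Cfsg

section mats

variable {F : Type*} [Field F] [Fintype F]

def Mab (a b : F) : Matrix (Fin 3) (Fin 3) F :=
  !![1 + b, b, a; b, 1 + b, a; a ^ 4, a ^ 4, 1]

theorem Mab_mul (hF : Fintype.card F = 16) (a b a' b' : F) :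
    Mab a b * Mab a' b' = Mab (a + a') (b + b' + a * a' ^ 4) := by
  have h2 := two_eq_zero hF
  have hf := fadd hF a a'
  ext i j
  fin_cases i <;> fin_cases j
  · simp [Mab, Matrix.mul_apply, Fin.sum_univ_three]; linear_combination (b * b') * h2
  · simp [Mab, Matrix.mul_apply, Fin.sum_univ_three]; linear_combination (b * b') * h2
  · simp [Mab, Matrix.mul_apply, Fin.sum_univ_three]; linear_combination (b * a') * h2
  · simp [Mab, Matrix.mul_apply, Fin.sum_univ_three]; linear_combination (b * b') * h2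
  · simp [Mab, Matrix.mul_apply, Fin.sum_univ_three]; linear_combination (b * b') * h2
  · simp [Mab, Matrix.mul_apply, Fin.sum_univ_three]; linear_combination (b * a') * h2
  · simp [Mab, Matrix.mul_apply, Fin.sum_univ_three]; linear_combination (a ^ 4 * b') * h2 - hf
  · simp [Mab, Matrix.mul_apply, Fin.sum_univ_three]; linear_combination (a ^ 4 * b') * h2 - hf
  · simp [Mab, Matrix.mul_apply, Fin.sum_univ_three]; linear_combination (a ^ 4 * a') * h2

theorem Mab_det (hF : Fintype.card F = 16) (a b : F) : (Mab a b).det = 1 := by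
  have h2 := two_eq_zero hF
  rw [Matrix.det_fin_three]
  simp [Mab]
  linear_combination (b - a * a ^ 4) * h2

theorem Mab_unitary (hF : Fintype.card F = 16) (a b : F) (hc : b + b ^ 4 = a * a ^ 4) :
    ∀ j k, ∑ i, Mab a b i j * (Mab a b i k) ^ 4 = if j = k then 1 else 0 := by
  have h2 := two_eq_zero hF
  have e1 : (1 + b) ^ 4 = 1 + b ^ 4 := by rw [fadd hF, one_pow]
  have e2 : (a ^ 4) ^ 4 = a := ffrob hF a
  intro j k
  fin_cases j <;> fin_cases k
  · simp [Mab, Fin.sum_univ_three]
    linear_combination (1 + b) * e1 + a ^ 4 * e2 + hc + (a * a ^ 4 + b * b ^ 4) * h2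
  · simp [Mab, Fin.sum_univ_three]
    linear_combination b * e1 + a ^ 4 * e2 + hc + (a * a ^ 4 + b * b ^ 4) * h2
  · simp [Mab, Fin.sum_univ_three]
    linear_combination (a ^ 4 + b * a ^ 4) * h2
  · simp [Mab, Fin.sum_univ_three]
    linear_combination b * e1 + a ^ 4 * e2 + hc + (a * a ^ 4 + b * b ^ 4) * h2
  · simp [Mab, Fin.sum_univ_three]
    linear_combination (1 + b) * e1 + a ^ 4 * e2 + hc + (a * a ^ 4 + b * b ^ 4) * h2
  · simp [Mab, Fin.sum_univ_three]
    linear_combination (a ^ 4 + b * a ^ 4) * h2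
  · simp [Mab, Fin.sum_univ_three]
    linear_combination a * e1 + e2 + (a + a * b ^ 4) * h2
  · simp [Mab, Fin.sum_univ_three]
    linear_combination a * e1 + e2 + (a + a * b ^ 4) * h2
  · simp [Mab, Fin.sum_univ_three]
    linear_combination (a * a ^ 4) * h2

end mats

end Part2

section Part3

open Matrix Cfsg Cfsg.Agent.Lib.Helper8.SUTransport

section sub

variable {F : Type*} [Field F] [Fintype F]

/-- the matrix underlying an element of `SU` -/
def toM (g : SU 3 F 4) : Matrix (Fin 3) (Fin 3) F := ((g : Matrix.SpecialLinearGroup (Fin 3) F) : Matrix (Fin 3) (Fin 3) F)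

theorem toM_mul (g h : SU 3 F 4) : toM (g * h) = toM g * toM h := by
  unfold toM
  rw [Subgroup.coe_mul, Matrix.SpecialLinearGroup.coe_mul]

theorem toM_one : toM (1 : SU 3 F 4) = 1 := by
  unfold toM
  rw [Subgroup.coe_one, Matrix.SpecialLinearGroup.coe_one]

theorem toM_inj {g h : SU 3 F 4} (hgh : toM g = toM h) : g = h :=
  Subtype.ext (Subtype.ext hgh)

def mkSU (hF : Fintype.card F = 16) (a b : F) (hc : b + b ^ 4 = a * a ^ 4) : SU 3 F 4 :=
  ⟨⟨Mab a b, Mab_det hF a b⟩,
    (mem_SU_iff 3 4 _).2 (herm_preserve (fadd hF) _ (Mab_unitary hF a b hc))⟩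

theorem toM_mkSU (hF : Fintype.card F = 16) (a b : F) (hc : b + b ^ 4 = a * a ^ 4) :
    toM (mkSU hF a b hc) = Mab a b := rfl

theorem Mab_zero : Mab (0 : F) 0 = 1 := by
  ext i j
  fin_cases i <;> fin_cases j <;> simp [Mab]

def U (hF : Fintype.card F = 16) : Subgroup (SU 3 F 4) where
  carrier := {g | ∃ a b : F, b + b ^ 4 = a * a ^ 4 ∧ toM g = Mab a b}
  one_mem' := ⟨0, 0, by ring, by rw [toM_one, Mab_zero]⟩
  mul_mem' := by
    rintro g h ⟨a, b, hc, hg⟩ ⟨a', b', hc', hh⟩
    refine ⟨a + a', b + b' + a * a' ^ 4, ?_, by rw [toM_mul, hg, hh, Mab_mul hF]⟩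
    have h2 := two_eq_zero hF
    have e1 : (b + b' + a * a' ^ 4) ^ 4 = b ^ 4 + b' ^ 4 + a ^ 4 * a' := by
      rw [fadd hF, fadd hF, mul_pow, ffrob hF]
    have e2 := fadd hF a a'
    rw [e1, e2]
    linear_combination hc + hc'
  inv_mem' := by
    rintro g ⟨a, b, hc, hg⟩
    have h2 := two_eq_zero hF
    have hc2 : (b + a * a ^ 4) + (b + a * a ^ 4) ^ 4 = a * a ^ 4 := by
      rw [fadd hF, norm_fixed hF]
      linear_combination hc + (a * a ^ 4) * h2
    refine ⟨a, b + a * a ^ 4, hc2, ?_⟩
    have h1 : g * mkSU hF a (b + a * a ^ 4) hc2 = 1 := by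
      apply toM_inj
      rw [toM_mul, hg, toM_mkSU, Mab_mul hF, toM_one, ← Mab_zero]
      congr 1
      · linear_combination a * h2
      · linear_combination (b + a * a ^ 4) * h2
    rw [← toM_mkSU hF a (b + a * a ^ 4) hc2]
    congr 1
    exact inv_eq_of_mul_eq_one_right h1

theorem Mab_02 (a b : F) : Mab a b 0 2 = a := by simp [Mab]
theorem Mab_01 (a b : F) : Mab a b 0 1 = b := by simp [Mab]

theorem U_core (hF : Fintype.card F = 16) {X : Type*} [Group X] [Finite X] (e : X ≃* U hF) :
    Nat.card X = 64 ∧ IsKleinFour (Subgroup.center X) ∧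
    Subgroup.center X = Subgroup.closure {x : X | orderOf x = 2} ∧
    Subgroup.center X = commutator X ∧
    Nat.card (X ⧸ Subgroup.center X) = 16 ∧
    ∀ x : X ⧸ Subgroup.center X, x ^ 2 = 1 := by
  have hrep : ∀ x : U hF, toM x.1 = Mab (toM x.1 0 2) (toM x.1 0 1) ∧
      (toM x.1 0 1) + (toM x.1 0 1) ^ 4 = (toM x.1 0 2) * (toM x.1 0 2) ^ 4 := by
    rintro ⟨g, a, b, hc, hg⟩
    show toM g = Mab (toM g 0 2) (toM g 0 1) ∧ _
    rw [hg, Mab_02, Mab_01]
    exact ⟨rfl, hc⟩
  refine core hF (fun x => toM (e x).1 0 2) (fun x => toM (e x).1 0 1) ?_ ?_ ?_ ?_ ?_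
  · intro x y
    show toM (e (x * y)).1 0 2 = _
    rw [map_mul, Subgroup.coe_mul, toM_mul, (hrep (e x)).1, (hrep (e y)).1, Mab_mul hF, Mab_02,
      Mab_02, Mab_02]
  · intro x y
    show toM (e (x * y)).1 0 1 = _
    rw [map_mul, Subgroup.coe_mul, toM_mul, (hrep (e x)).1, (hrep (e y)).1, Mab_mul hF, Mab_01,
      Mab_01, Mab_01, Mab_02, Mab_02]
  · intro x y h1 h2
    apply e.injective
    apply Subtype.ext
    apply toM_inj
    rw [(hrep (e x)).1, (hrep (e y)).1, h1, h2]
  · intro x
    exact (hrep (e x)).2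
  · intro a0 b0 h
    refine ⟨e.symm ⟨mkSU hF a0 b0 h, a0, b0, h, rfl⟩, ?_, ?_⟩
    · show toM (e (e.symm _)).1 0 2 = a0
      rw [MulEquiv.apply_symm_apply]
      show toM (mkSU hF a0 b0 h) 0 2 = a0
      rw [toM_mkSU, Mab_02]
    · show toM (e (e.symm _)).1 0 1 = b0
      rw [MulEquiv.apply_symm_apply]
      show toM (mkSU hF a0 b0 h) 0 1 = b0
      rw [toM_mkSU, Mab_01]

end sub

end Part3

section Part4

open Matrix Cfsg

section final

variable {F : Type*} [Field F] [Fintype F]

theorem card_SU (hF : Fintype.card F = 16) : Nat.card (SU 3 F 4) = 62400 := by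
  have h := Cfsg.Agent.S0278.result (F := F) (q := 4) (by rw [hF]; norm_num) 3 (by norm_num)
  have hp : (∏ i ∈ Finset.range 3, (if Even i then 4 ^ (i + 1) + 1 else 4 ^ (i + 1) - 1)) = 4875 := by
    decide
  rw [hp] at h
  omega

theorem center_bot (hF : Fintype.card F = 16) : Subgroup.center (SU 3 F 4) = ⊥ := by
  have h := Cfsg.Agent.S0279.card_center (F := F) (q := 4) (by rw [hF]; norm_num) 3 (by norm_num)
  have : Nat.gcd 3 (4 + 1) = 1 := by decide
  rw [this] at h
  exact Subgroup.card_eq_one.1 h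

noncomputable def kappa (hF : Fintype.card F = 16) : PSU 3 F 4 ≃* SU 3 F 4 :=
  (QuotientGroup.quotientMulEquivOfEq (center_bot hF)).trans QuotientGroup.quotientBot

theorem fact_62400 : (62400 : ℕ).factorization 2 = 6 := by
  have h : (62400 : ℕ) = 2 ^ 6 * 975 := by norm_num
  rw [h, Nat.factorization_mul (by norm_num) (by norm_num), Nat.Prime.factorization_pow Nat.prime_two]
  simp [Nat.factorization_eq_zero_of_not_dvd (show ¬ 2 ∣ 975 by norm_num)]

end final

theorem result {F : Type*} [Field F] [Fintype F] (hF : Fintype.card F = 16) (S : Sylow 2 (Cfsg.PSU 3 F 4)) : Nat.card S = 64 ∧ IsKleinFour (Subgroup.center (S : Subgroup (Cfsg.PSU 3 F 4))) ∧ Subgroup.center (S : Subgroup (Cfsg.PSU 3 F 4)) = Subgroup.closure {x : (S : Subgroup (Cfsg.PSU 3 F 4)) | orderOf x = 2} ∧ Subgroup.center (S : Subgroup (Cfsg.PSU 3 F 4)) = commutator (S : Subgroup (Cfsg.PSU 3 F 4)) ∧ Nat.card ((S : Subgroup (Cfsg.PSU 3 F 4)) ⧸ Subgroup.center (S : Subgroup (Cfsg.PSU 3 F 4))) = 16 ∧ ∀ x : (S : Subgroup (Cfsg.PSU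 3 F 4)) ⧸ Subgroup.center (S : Subgroup (Cfsg.PSU 3 F 4)), x ^ 2 = 1 := by
  classical
  haveI : Finite (SU 3 F 4) := Nat.finite_of_card_ne_zero (by rw [card_SU hF]; norm_num)
  haveI : Finite (PSU 3 F 4) := Finite.of_equiv _ (kappa hF).symm.toEquiv
  have hG : Nat.card (PSU 3 F 4) = 62400 := by
    rw [Nat.card_congr (kappa hF).toEquiv, card_SU hF]
  have hU64 : Nat.card (U hF) = 64 := (U_core hF (MulEquiv.refl _)).1
  -- the image of U in PSU
  let U' : Subgroup (PSU 3 F 4) := (U hF).map (kappa hF).symm.toMonoidHom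
  let eU : U hF ≃* U' := (U hF).equivMapOfInjective (kappa hF).symm.toMonoidHom (kappa hF).symm.injective
  have hU' : Nat.card U' = 2 ^ (Nat.card (PSU 3 F 4)).factorization 2 := by
    rw [hG, fact_62400, ← Nat.card_congr eU.toEquiv, hU64]; norm_num
  let P : Sylow 2 (PSU 3 F 4) := Sylow.ofCard U' hU'
  obtain ⟨g, hg⟩ := MulAction.exists_smul_eq (PSU 3 F 4) P S
  have e1 : P ≃* (g • P : Sylow 2 (PSU 3 F 4)) := Sylow.equivSMul P g
  have e2 : (S : Subgroup (PSU 3 F 4)) ≃* U hF := by
    rw [← hg]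
    exact e1.symm.trans eU.symm
  exact U_core hF e2



end Part4

end Cfsg.Agent.S1248
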