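import Mathlib
import Cfsg.Statements.S1249
import Cfsg.Agent.H2.ConjMap

set_option autoImplicit false
open Cfsg

namespace Cfsg.Agent.S1249

open Cfsg.Agent.H2

/-- Let P and Q be Sylow p-subgroups of the finite group G both containing the subgroup A. If A is strongly closed in P, then A is strongly closed in Q. -/
theorem result {G : Type*} [Group G] [Finite G] {p : ℕ} [Fact p.Prime] (P Q : Sylow p G) (A : Subgroup G) (hAQ : A ≤ Q) (hA : Cfsg.IsStronglyClosed A (P : Subgroup G)) : Cfsg.IsStronglyClosed A (Q : Subgroup G) := by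
  obtain ⟨hAP, hcl⟩ := hA
  obtain ⟨h, rfl⟩ := MulAction.exists_smul_eq G P Q
  -- conj by h⁻¹ maps A into A
  have h1 : A.map (MulAut.conj h⁻¹).toMonoidHom ≤ A := by
    intro x hx
    rw [mem_map_conj_iff, inv_inv] at hx
    -- x = h⁻¹ (h x h⁻¹) h
    have hxQ := hAQ hx
    rw [mem_sylow_smul_iff] at hxQ
    have e : h⁻¹ * (h * x * h⁻¹) * h = x := by group
    rw [e] at hxQ
    have := hcl _ hx h⁻¹
    rw [inv_inv, e] at this
    exact this hxQ
  have h2 := map_conj_eq_of_le A _ h1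
  refine ⟨hAQ, ?_⟩
  intro x hx g hg
  rw [mem_sylow_smul_iff] at hg
  have e : h⁻¹ * (g * x * g⁻¹) * h = (h⁻¹ * g) * x * (h⁻¹ * g)⁻¹ := by group
  rw [e] at hg
  have h3 := hcl x hx (h⁻¹ * g) hg
  rw [← e] at h3
  have h4 : h⁻¹ * (g * x * g⁻¹) * h ∈ A.map (MulAut.conj h⁻¹).toMonoidHom := by
    rw [h2]; exact h3
  rw [mem_map_conj_iff, inv_inv] at h4
  convert h4 using 1
  group

end Cfsg.Agent.S1249
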