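import Mathlib
import Cfsg.Statements.S1251
import Cfsg.Agent.H2.SCCentB

set_option autoImplicit false
open Cfsg

namespace Cfsg.Agent.S1251

/-- Let S be a Sylow 2-subgroup of the finite group G and A ≤ S strongly closed in S. If H is a subgroup normalized by A with no nontrivial normal subgroup of odd order and A ∩ H = 1, then A ≤ C_G(H). -/
theorem result {G : Type*} [Group G] [Finite G] (S : Sylow 2 G) (A : Subgroup G) (hA : Cfsg.IsStronglyClosed A (S : Subgroup G)) (H : Subgroup G) (hAH : A ≤ Subgroup.normalizer (H : Set G)) (hO : Cfsg.oddCore ↥H = ⊥) (hdisj : A ⊓ H = ⊥) : A ≤ Subgroup.centralizer (H : Set G) := by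
  classical
  have hS2 : IsPGroup 2 (S : Subgroup G) := S.2
  have main : ∀ n : ℕ, ∀ a ∈ A, orderOf a = n → a ∈ Subgroup.centralizer (H : Set G) := by
    intro n
    induction n using Nat.strong_induction_on with
    | _ n ih =>
      intro a ha hn
      by_cases h1 : a = 1
      · rw [h1]; exact Subgroup.one_mem _
      · apply Cfsg.Agent.H2.SCCent.step S A hA H hAH hO hdisj a ha
        apply ih (orderOf (a ^ 2)) _ (a ^ 2) (A.pow_mem ha 2) rfl
        -- the order of a ^ 2 is smaller
        obtain ⟨k, hk⟩ := (IsPGroup.iff_orderOf.1 hS2) ⟨a, hA.1 ha⟩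
        have hk' : orderOf a = 2 ^ k := by
          rw [← hk]; exact (Subgroup.orderOf_mk a (hA.1 ha)).symm
        have hkpos : k ≠ 0 := by
          rintro rfl
          rw [pow_zero, orderOf_eq_one_iff] at hk'
          exact h1 hk'
        obtain ⟨m, rfl⟩ := Nat.exists_eq_succ_of_ne_zero hkpos
        rw [orderOf_pow, ← hn, hk', pow_succ, Nat.gcd_eq_right (dvd_mul_left 2 _),
          Nat.mul_div_cancel _ (by norm_num : 0 < 2)]
        have : 0 < 2 ^ m := by positivity
        omega
  intro a ha
  exact main _ a ha rfl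

end Cfsg.Agent.S1251
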