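import Cfsg.Statements.S3864
import Mathlib
import Cfsg.Agent.Lib.Lead.DihShape3
import Cfsg.Agent.Lib.Lead.TISylow
import Cfsg.Agent.Lib.Lead.Conj
import Cfsg.Agent.Lib.Lead.NormalPComplement
import Cfsg.Agent.Lib.Lead.Subnormal2
import Cfsg.Agent.S0111
import Cfsg.Agent.S0514
import Cfsg.Agent.S0607

set_option autoImplicit false
open Cfsg

namespace Cfsg.Agent.S3864

open scoped Pointwise
open Cfsg.Agent.Lib.Lead

section
variable {G : Type*} [Group G] [Finite G]

theorem conj_into_sylow (P : Sylow 2 G) (w : G) (hw : orderOf w = 2) :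
    ∃ g : G, g * w * g⁻¹ ∈ (P : Subgroup G) := by
  haveI : Fact (Nat.Prime 2) := ⟨Nat.prime_two⟩
  have hp : IsPGroup 2 ↥(Subgroup.zpowers w) := by
    apply IsPGroup.of_card (n := 1)
    rw [pow_one, Nat.card_zpowers, hw]
  obtain ⟨T', hT'⟩ := hp.exists_le_sylow
  obtain ⟨c, hc⟩ := MulAction.exists_smul_eq G T' P
  have hwT' : w ∈ (T' : Subgroup G) := hT' (Subgroup.mem_zpowers w)
  refine ⟨c, ?_⟩
  rw [← hc, TISylow.mem_sylow_smul]
  have : c⁻¹ * (c * w * c⁻¹) * c = w := by group
  rw [this]; exact hwT'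

theorem mk_conj (g x : G) : ConjClasses.mk (g * x * g⁻¹) = ConjClasses.mk x :=
  (ConjClasses.mk_eq_mk_iff_isConj.mpr (isConj_iff.mpr ⟨g, rfl⟩)).symm

theorem orderOf_two_of_sq {w : G} (h : w * w = 1) (h1 : w ≠ 1) : orderOf w = 2 :=
  orderOf_eq_prime (by rw [pow_two]; exact h) h1

theorem no_index_four (P : Sylow 2 G) {R₀ : Subgroup G}
    (hshape : DihShape.Shape (P : Subgroup G) R₀) {c u : G}
    (hgen : ∀ x ∈ R₀, x ∈ Subgroup.zpowers c) (hcR : c ∈ R₀) (huP : u ∈ (P : Subgroup G))
    (huR : u ∉ R₀) (j : ℕ)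
    (hpat : ConjClasses.mk u = ConjClasses.mk (u * c) ∨
      ConjClasses.mk ((c ^ 2) ^ j) = ConjClasses.mk u ∨
      ConjClasses.mk ((c ^ 2) ^ j) = ConjClasses.mk (u * c))
    (K : Subgroup G) (hK : K.Normal) : K.index ≠ 4 := by
  classical
  haveI : Fact (Nat.Prime 2) := ⟨Nat.prime_two⟩
  intro hK4
  haveI := hK
  have hcardq : Nat.card (G ⧸ K) = 2 ^ 2 := hK4
  have hcomm : ∀ a b : G ⧸ K, a * b = b * a :=
    (IsPGroup.isMulCommutative_of_card_eq_prime_sq (p := 2) hcardq).is_comm.comm
  set π := QuotientGroup.mk' K with hπ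
  have hconj : ∀ x y : G, ConjClasses.mk x = ConjClasses.mk y → π x = π y := by
    intro x y h
    obtain ⟨g, hg⟩ := isConj_iff.mp (ConjClasses.mk_eq_mk_iff_isConj.mp h)
    rw [← hg, map_mul, map_mul, map_inv, hcomm (π g) (π x), mul_assoc, mul_inv_cancel, mul_one]
  have hc2 : π c * π c = 1 := by
    have h1 := hshape.invert huP huR hcR
    have h2 : π (u * c * u⁻¹) = π c := by
      rw [map_mul, map_mul, map_inv, hcomm (π u) (π c), mul_assoc, mul_inv_cancel, mul_one]
    rw [h1, map_inv] at h2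
    calc π c * π c = (π c)⁻¹ * π c := by rw [h2]
      _ = 1 := inv_mul_cancel _
  have hz1 : π ((c ^ 2) ^ j) = 1 := by
    rw [map_pow, map_pow, pow_two, hc2, one_pow]
  have hrot : ∀ x ∈ R₀, π x = 1 ∨ π x = π c := by
    intro x hx
    obtain ⟨i, rfl⟩ := Subgroup.mem_zpowers_iff.mp (hgen x hx)
    rw [map_zpow]
    exact DihShape.zpow_of_sq_eq_one hc2 i
  have hP : ∃ t : G ⧸ K, ∀ p ∈ (P : Subgroup G), π p = 1 ∨ π p = t := by
    rcases hpat with h | h | h
    · have h1 := hconj _ _ h
      rw [map_mul] at h1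
      have hc1 : π c = 1 := by
        have : π u * 1 = π u * π c := by rw [mul_one]; exact h1
        exact (mul_left_cancel this).symm
      refine ⟨π u, fun p hp => ?_⟩
      by_cases hpR : p ∈ R₀
      · left
        rcases hrot p hpR with h' | h'
        · exact h'
        · rw [h', hc1]
      · right
        have hmem := hshape.prod u huP p hp huR hpR
        have h2 : π (u⁻¹ * p) = 1 := by
          rcases hrot _ hmem with h' | h'
          · exact h'
          · rw [h', hc1]
        rw [map_mul, map_inv] at h2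
        exact (inv_mul_eq_one.mp h2).symm
    · have h1 := hconj _ _ h
      rw [hz1] at h1
      refine ⟨π c, fun p hp => ?_⟩
      by_cases hpR : p ∈ R₀
      · exact hrot p hpR
      · have hmem := hshape.prod u huP p hp huR hpR
        have h2 : π p = π (u⁻¹ * p) := by rw [map_mul, map_inv, ← h1, inv_one, one_mul]
        rw [h2]; exact hrot _ hmem
    · have h1 := hconj _ _ h
      rw [hz1, map_mul] at h1
      have hu : π u = π c := by
        have h3 : π u = (π c)⁻¹ := eq_inv_of_mul_eq_one_left h1.symm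
        rw [h3]; exact inv_eq_of_mul_eq_one_right hc2
      refine ⟨π c, fun p hp => ?_⟩
      by_cases hpR : p ∈ R₀
      · exact hrot p hpR
      · have hmem := hshape.prod u huP p hp huR hpR
        have h2 : π p = π c * π (u⁻¹ * p) := by
          rw [map_mul, map_inv, ← hu]; group
        rcases hrot _ hmem with h' | h'
        · right; rw [h2, h', mul_one]
        · left; rw [h2, h', hc2]
  obtain ⟨t, ht⟩ := hP
  have htop : (P : Subgroup G) ⊔ K = ⊤ := by
    rw [← Subgroup.index_eq_one]
    have h1 : ((P : Subgroup G) ⊔ K).index ∣ (P : Subgroup G).index :=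
      Subgroup.index_dvd_of_le le_sup_left
    have h2 : ((P : Subgroup G) ⊔ K).index ∣ 2 ^ 2 := by
      have : K.index = 2 ^ 2 := hK4
      rw [← this]; exact Subgroup.index_dvd_of_le le_sup_right
    have h3 : ¬ 2 ∣ (P : Subgroup G).index := P.not_dvd_index
    have h4 : Nat.Coprime ((P : Subgroup G).index) (2 ^ 2) :=
      Nat.Coprime.pow_right 2 ((Nat.Prime.coprime_iff_not_dvd Nat.prime_two).mpr h3).symm
    exact Nat.eq_one_of_dvd_coprimes h4 h1 h2
  have hall : ∀ q : G ⧸ K, q = 1 ∨ q = t := by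
    intro q
    obtain ⟨g, rfl⟩ := QuotientGroup.mk'_surjective K q
    have hg : g ∈ ((P : Subgroup G) ⊔ K : Subgroup G) := by rw [htop]; exact Subgroup.mem_top g
    have hg' : g ∈ ((P : Subgroup G) : Set G) * (K : Set G) := by
      rw [← Subgroup.mul_normal]; exact hg
    obtain ⟨p, hp, k, hk, rfl⟩ := hg'
    have hk1 : π k = 1 := (QuotientGroup.eq_one_iff k).mpr hk
    have : π (p * k) = π p := by rw [map_mul, hk1, mul_one]
    show π (p * k) = 1 ∨ π (p * k) = t
    rw [this]; exact ht p hp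
  have hcard : Nat.card (G ⧸ K) ≤ 2 := by
    have hsub : (Set.univ : Set (G ⧸ K)) ⊆ (({1, t} : Finset (G ⧸ K)) : Set (G ⧸ K)) := by
      intro q _
      simp only [Finset.coe_insert, Finset.coe_singleton, Set.mem_insert_iff,
        Set.mem_singleton_iff]
      exact hall q
    calc Nat.card (G ⧸ K) = (Set.univ : Set (G ⧸ K)).ncard := (Set.ncard_univ _).symm
      _ ≤ ((({1, t} : Finset (G ⧸ K)) : Set (G ⧸ K))).ncard :=
          Set.ncard_le_ncard hsub (Finset.finite_toSet _)
      _ = ({1, t} : Finset (G ⧸ K)).card := Set.ncard_coe_finset _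
      _ ≤ 2 := Finset.card_le_two
  omega

theorem exists_index_two (P : Sylow 2 G) {R₀ : Subgroup G}
    (hshape : DihShape.Shape (P : Subgroup G) R₀) (hidx : R₀.relIndex (P : Subgroup G) = 2)
    {z w : G} (hzR : z ∈ R₀) (hzo : orderOf z = 2) (hwP : w ∈ (P : Subgroup G)) (hwR : w ∉ R₀)
    (hne : ConjClasses.mk w ≠ ConjClasses.mk z) : ∃ N : Subgroup G, N.Normal ∧ N.index = 2 := by
  have hw1 : w ≠ 1 := fun h => hwR (h ▸ R₀.one_mem)
  have hwo : orderOf w = 2 := orderOf_two_of_sq (hshape.sq w hwP hwR) hw1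
  rcases Cfsg.Agent.S0111.result P R₀ hshape.le hidx w hwo hwP hwR with
    ⟨M, hM, hMi, -⟩ | ⟨g, hg⟩
  · exact ⟨M, hM, hMi⟩
  · exfalso
    apply hne
    have ho : orderOf (g * w * g⁻¹) = 2 := by rw [Conj.orderOf_conj]; exact hwo
    have := DihShape.involution_unique hshape.cyc hg hzR ho hzo
    rw [← this, mk_conj]

theorem no_index_two (P : Sylow 2 G) {R₀ : Subgroup G}
    (hshape : DihShape.Shape (P : Subgroup G) R₀) {c z : G}
    (hgen : ∀ x ∈ R₀, x ∈ Subgroup.zpowers c) (hcR : c ∈ R₀) {u : G}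
    (huP : u ∈ (P : Subgroup G)) (huR : u ∉ R₀) (h4 : 4 ∣ Nat.card G)
    (hall : ∀ w : G, orderOf w = 2 → ConjClasses.mk w = ConjClasses.mk z) :
    ∀ N : Subgroup G, N.Normal → N.index ≠ 2 := by
  haveI : Fact (Nat.Prime 2) := ⟨Nat.prime_two⟩
  intro N hN hN2
  have hcardN : Nat.card ↥N * 2 = Nat.card G := by rw [← hN2]; exact N.card_mul_index
  have h2N : 2 ∣ Nat.card ↥N := by
    obtain ⟨k, hk⟩ := h4
    exact ⟨k, by omega⟩
  obtain ⟨w', hw'⟩ := exists_prime_orderOf_dvd_card' 2 h2N
  have hw'o : orderOf (w' : G) = 2 := by rw [Subgroup.orderOf_coe]; exact hw'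
  have hinv : ∀ w : G, orderOf w = 2 → w ∈ N := by
    intro w hw
    have h1 : ConjClasses.mk w = ConjClasses.mk (w' : G) := by
      rw [hall w hw, hall _ hw'o]
    obtain ⟨g, hg⟩ := isConj_iff.mp (ConjClasses.mk_eq_mk_iff_isConj.mp h1.symm)
    rw [← hg]
    exact hN.conj_mem _ w'.2 g
  have hrefl : ∀ p ∈ (P : Subgroup G), p ∉ R₀ → p ∈ N := by
    intro p hp hpR
    apply hinv
    exact orderOf_two_of_sq (hshape.sq p hp hpR) (fun h => hpR (h ▸ R₀.one_mem))
  have hcN : c ∈ N := by
    have h1 := hrefl u huP huR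
    have h2 := hrefl (u * c) (Subgroup.mul_mem _ huP (hshape.le hcR)) (hshape.mul_notMem huR hcR)
    have : c = u⁻¹ * (u * c) := by group
    rw [this]
    exact N.mul_mem (N.inv_mem h1) h2
  have hPN : (P : Subgroup G) ≤ N := by
    intro p hp
    by_cases hpR : p ∈ R₀
    · obtain ⟨i, rfl⟩ := Subgroup.mem_zpowers_iff.mp (hgen p hpR)
      exact N.zpow_mem hcN i
    · exact hrefl p hp hpR
  have h1 : N.index ∣ (P : Subgroup G).index := Subgroup.index_dvd_of_le hPN
  rw [hN2] at h1
  exact P.not_dvd_index h1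

theorem npc (P : Sylow 2 G) {R₀ : Subgroup G}
    (hshape : DihShape.Shape (P : Subgroup G) R₀) {c z u : G}
    (hgen : ∀ x ∈ R₀, x ∈ Subgroup.zpowers c) (hcR : c ∈ R₀) (hzR : z ∈ R₀)
    (hzo : orderOf z = 2)
    (huP : u ∈ (P : Subgroup G)) (huR : u ∉ R₀)
    (h1 : ConjClasses.mk u ≠ ConjClasses.mk z) (h2 : ConjClasses.mk (u * c) ≠ ConjClasses.mk z) :
    Cfsg.HasNormalPComplement 2 G := by
  classical
  haveI : Fact (Nat.Prime 2) := ⟨Nat.prime_two⟩
  have hzsq : z * z = 1 := by rw [← pow_two, ← hzo]; exact pow_orderOf_eq_one z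
  have hz1 : z ≠ 1 := by
    intro h
    rw [h, orderOf_one] at hzo
    norm_num at hzo
  have hzinv : z⁻¹ = z := inv_eq_of_mul_eq_one_right hzsq
  have hzcent : ∀ p ∈ (P : Subgroup G), p * z = z * p := by
    intro p hp
    by_cases hpR : p ∈ R₀
    · obtain ⟨i, rfl⟩ := Subgroup.mem_zpowers_iff.mp (hgen p hpR)
      obtain ⟨k, rfl⟩ := Subgroup.mem_zpowers_iff.mp (hgen z hzR)
      rw [← zpow_add, ← zpow_add, add_comm]
    · have := hshape.invert hp hpR hzR
      rw [hzinv] at this
      calc p * z = (p * z * p⁻¹) * p := by group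
        _ = z * p := by rw [this]
  apply NormalPComplement.hasNormalPComplement_of_p'_centralize P
  intro Q hQP g hg hodd
  rcases DihShape.main hshape P.2 Q hQP g hg hodd with h | ⟨hcard, hexp⟩
  · exact h
  · have hzQ : z ∈ Q := by
      by_contra hn
      have hZe : Cfsg.IsElementaryAbelian 2 (Subgroup.zpowers z) := by
        apply Cfsg.Agent.S0514.elemAb_of_exp_two
        intro q hq
        obtain ⟨k, rfl⟩ := Subgroup.mem_zpowers_iff.mp hq
        rcases DihShape.zpow_of_sq_eq_one hzsq k with h | h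
        · rw [h, one_mul]
        · rw [h, hzsq]
      have hQe := Cfsg.Agent.S0514.elemAb_of_exp_two Q hexp
      have hcent : Q ≤ Subgroup.centralizer ((Subgroup.zpowers z : Subgroup G) : Set G) := by
        intro q hq
        rw [Subgroup.mem_centralizer_iff]
        intro y hy
        obtain ⟨k, rfl⟩ := Subgroup.mem_zpowers_iff.mp hy
        have : Commute z q := (hzcent q (hQP hq)).symm
        exact (this.zpow_left k).eq
      have hE := Cfsg.Agent.S0607.elemAb_sup hQe hZe hcent
      have hET : Q ⊔ Subgroup.zpowers z ≤ (P : Subgroup G) :=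
        sup_le hQP (by rw [Subgroup.zpowers_le]; exact hshape.le hzR)
      have hle := DihShape.card_le_four hshape _ hET (fun q hq => by
        have := hE.2 q hq
        rwa [pow_two] at this)
      have hlt : Q < Q ⊔ Subgroup.zpowers z := by
        refine lt_of_le_of_ne le_sup_left ?_
        intro h
        apply hn
        rw [h]
        exact (le_sup_right : Subgroup.zpowers z ≤ Q ⊔ Subgroup.zpowers z)
          (Subgroup.mem_zpowers z)
      have := Subnormal.card_lt_card_of_lt hlt
      omega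
    have hgz : g * z * g⁻¹ ∈ Q := (Subgroup.mem_normalizer_iff.mp hg z).mp hzQ
    have hgzo : orderOf (g * z * g⁻¹) = 2 := by rw [Conj.orderOf_conj]; exact hzo
    have hcomm : g * z = z * g := by
      by_cases hR : g * z * g⁻¹ ∈ R₀
      · have := DihShape.involution_unique hshape.cyc hR hzR hgzo hzo
        calc g * z = (g * z * g⁻¹) * g := by group
          _ = z * g := by rw [this]
      · exfalso
        rcases hshape.refl_conj_class hgen hcR huP huR (hQP hgz) hR with ⟨x, -, hx⟩ | ⟨x, -, hx⟩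
        · apply h1
          rw [← mk_conj x u, hx, mk_conj]
        · apply h2
          rw [← mk_conj x (u * c), hx, mk_conj]
    exact Cfsg.Agent.S0514.klein_case Q hcard z hzQ hz1 g hg hcomm hodd

end

/-- Let G be a finite group whose Sylow 2-subgroups are dihedral of order 2 ^ n with n ≥ 3, and count the conjugacy classes of involutions of G. Then exactly one of the following holds: there is one class of involutions and no normal subgroup of index 2; there are two classes of involutions, a normal subgroup of index 2 and none of index 4; there are three classes of involutions and G has a normal 2-complement. -/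
theorem result {G : Type*} [Group G] [Finite G] (P : Sylow 2 G) (n : ℕ) (hn : 3 ≤ n) (hdih : Nonempty (↥(P : Subgroup G) ≃* DihedralGroup (2 ^ (n - 1)))) : (Nat.card {C : ConjClasses G // ∃ g : G, ConjClasses.mk g = C ∧ orderOf g = 2} = 1 ∧ ∀ N : Subgroup G, N.Normal → N.index ≠ 2) ∨ (Nat.card {C : ConjClasses G // ∃ g : G, ConjClasses.mk g = C ∧ orderOf g = 2} = 2 ∧ (∃ N : Subgroup G, N.Normal ∧ N.index = 2) ∧ ∀ N : Subgroup G, N.Normal → N.index ≠ 4) ∨ (Nat.card {C : ConjClasses G // ∃ g : G, ConjClasses.mk g = C ∧ orderOf g = 2} = 3 ∧ Cfsg.HasNormalPComplement 2 G) := by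
  classical
  haveI : Fact (Nat.Prime 2) := ⟨Nat.prime_two⟩
  obtain ⟨e⟩ := hdih
  obtain ⟨R₀, hshape⟩ := DihShape.shape_of_injective (P : Subgroup G) e.toMonoidHom e.injective
  haveI := hshape.cyc
  have hm4 : 2 ^ 2 ≤ 2 ^ (n - 1) := Nat.pow_le_pow_right (by norm_num) (by omega)
  have hPnc : ¬ IsCyclic ↥(P : Subgroup G) := by
    intro h
    have h1 : IsCyclic (DihedralGroup (2 ^ (n - 1))) := isCyclic_of_surjective e e.surjective
    have h2 : (2 : ℕ) ^ (n - 1) ≠ 1 := by omega
    exact DihedralGroup.not_isCyclic h2 h1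
  obtain ⟨u, huP, huR⟩ : ∃ u ∈ (P : Subgroup G), u ∉ R₀ := by
    by_contra hcon
    push Not at hcon
    apply hPnc
    exact Subgroup.isCyclic_of_le (H' := R₀) (fun q hq => hcon q hq)
  have hidx : R₀.relIndex (P : Subgroup G) = 2 := hshape.relIndex_eq_two huP huR
  have hcardP : Nat.card ↥(P : Subgroup G) = 2 * 2 ^ (n - 1) := by
    rw [Nat.card_congr e.toEquiv, DihedralGroup.nat_card]
  have hcardR : Nat.card ↥R₀ = 2 ^ (n - 1) := by
    have h1 := (R₀.subgroupOf (P : Subgroup G)).card_mul_index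
    have h2 : Nat.card ↥(R₀.subgroupOf (P : Subgroup G)) = Nat.card ↥R₀ :=
      Nat.card_congr (Subgroup.subgroupOfEquivOfLe hshape.le).toEquiv
    have h3 : (R₀.subgroupOf (P : Subgroup G)).index = 2 := hidx
    rw [h2, h3, hcardP] at h1
    omega
  obtain ⟨c₀, hc₀⟩ := IsCyclic.exists_generator (α := ↥R₀)
  have hcR : (c₀ : G) ∈ R₀ := c₀.2
  have hgen : ∀ x ∈ R₀, x ∈ Subgroup.zpowers (c₀ : G) := by
    intro x hx
    obtain ⟨k, hk⟩ := Subgroup.mem_zpowers_iff.mp (hc₀ ⟨x, hx⟩)
    refine Subgroup.mem_zpowers_iff.mpr ⟨k, ?_⟩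
    have := congrArg Subtype.val hk
    simpa using this
  have hordc : orderOf (c₀ : G) = 2 ^ (n - 1) := by
    rw [← hcardR, ← orderOf_eq_card_of_forall_mem_zpowers hc₀, Subgroup.orderOf_coe]
  set c : G := (c₀ : G) with hc
  set z : G := (c ^ 2) ^ (2 ^ (n - 3)) with hz
  have hzpow : z = c ^ (2 ^ (n - 2)) := by
    rw [hz, ← pow_mul]
    congr 1
    have : n - 2 = (n - 3) + 1 := by omega
    rw [this, pow_succ]; ring
  have hzo : orderOf z = 2 := by
    rw [hzpow, orderOf_pow_of_dvd (by positivity)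
      (by rw [hordc]; exact pow_dvd_pow 2 (by omega)), hordc,
      Nat.pow_div (by omega) (by norm_num)]
    have : n - 1 - (n - 2) = 1 := by omega
    rw [this, pow_one]
  have hzR : z ∈ R₀ := R₀.pow_mem (R₀.pow_mem hcR _) _
  set v : G := u * c with hv
  have hvP : v ∈ (P : Subgroup G) := Subgroup.mul_mem _ huP (hshape.le hcR)
  have hvR : v ∉ R₀ := hshape.mul_notMem huR hcR
  have huo : orderOf u = 2 :=
    orderOf_two_of_sq (hshape.sq u huP huR) (fun h => huR (h ▸ R₀.one_mem))
  have hvo : orderOf v = 2 :=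
    orderOf_two_of_sq (hshape.sq v hvP hvR) (fun h => hvR (h ▸ R₀.one_mem))
  have hcls : ∀ w : G, orderOf w = 2 → ConjClasses.mk w = ConjClasses.mk z ∨
      ConjClasses.mk w = ConjClasses.mk u ∨ ConjClasses.mk w = ConjClasses.mk v := by
    intro w hw
    obtain ⟨g, hg⟩ := conj_into_sylow P w hw
    have ho : orderOf (g * w * g⁻¹) = 2 := by rw [Conj.orderOf_conj]; exact hw
    by_cases hR : g * w * g⁻¹ ∈ R₀
    · left
      rw [← mk_conj g w, DihShape.involution_unique hshape.cyc hR hzR ho hzo]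
    · rcases hshape.refl_conj_class hgen hcR huP huR hg hR with ⟨x, -, hx⟩ | ⟨x, -, hx⟩
      · right; left
        rw [← mk_conj g w, ← hx, mk_conj]
      · right; right
        rw [← mk_conj g w, ← hx, mk_conj]
  have hset : {C : ConjClasses G | ∃ g : G, ConjClasses.mk g = C ∧ orderOf g = 2} =
      {ConjClasses.mk z, ConjClasses.mk u, ConjClasses.mk v} := by
    ext C
    constructor
    · rintro ⟨g, rfl, hg⟩
      rcases hcls g hg with h | h | h
      · rw [h]; exact Set.mem_insert _ _
      · rw [h]; exact Set.mem_insert_of_mem _ (Set.mem_insert _ _)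
      · rw [h]; exact Set.mem_insert_of_mem _ (Set.mem_insert_of_mem _ (Set.mem_singleton _))
    · rintro (rfl | rfl | rfl)
      · exact ⟨z, rfl, hzo⟩
      · exact ⟨u, rfl, huo⟩
      · exact ⟨v, rfl, hvo⟩
  have hcard : Nat.card {C : ConjClasses G // ∃ g : G, ConjClasses.mk g = C ∧ orderOf g = 2} =
      ({ConjClasses.mk z, ConjClasses.mk u, ConjClasses.mk v} : Set (ConjClasses G)).ncard := by
    rw [← hset]
    exact _root_.Nat.card_coe_set_eq _
  have h4G : 4 ∣ Nat.card G := by
    have h1 : Nat.card ↥(P : Subgroup G) ∣ Nat.card G := Subgroup.card_subgroup_dvd_card _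
    rw [hcardP] at h1
    refine dvd_trans ?_ h1
    exact ⟨2 ^ (n - 1) / 2, by
      have : 2 ∣ 2 ^ (n - 1) := dvd_pow_self 2 (by omega)
      omega⟩
  rw [hcard]
  by_cases h1 : ConjClasses.mk u = ConjClasses.mk z
  · by_cases h2 : ConjClasses.mk v = ConjClasses.mk z
    · left
      refine ⟨?_, ?_⟩
      · rw [h1, h2]
        simp
      · apply no_index_two P hshape hgen hcR huP huR h4G (z := z)
        intro w hw
        rcases hcls w hw with h | h | h
        · exact h
        · rw [h, h1]
        · rw [h, h2]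
    · right; left
      refine ⟨?_, exists_index_two P hshape hidx hzR hzo hvP hvR h2, ?_⟩
      · rw [h1]
        have : ({ConjClasses.mk z, ConjClasses.mk z, ConjClasses.mk v} : Set (ConjClasses G)) =
            {ConjClasses.mk z, ConjClasses.mk v} := by
          rw [Set.insert_eq_of_mem (Set.mem_insert _ _)]
        rw [this, Set.ncard_pair (Ne.symm h2)]
      · intro K hK
        exact no_index_four P hshape hgen hcR huP huR (2 ^ (n - 3)) (Or.inr (Or.inl h1.symm)) K hK
  · by_cases h2 : ConjClasses.mk v = ConjClasses.mk z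
    · right; left
      refine ⟨?_, exists_index_two P hshape hidx hzR hzo huP huR h1, ?_⟩
      · rw [h2]
        have : ({ConjClasses.mk z, ConjClasses.mk u, ConjClasses.mk z} : Set (ConjClasses G)) =
            {ConjClasses.mk z, ConjClasses.mk u} := by
          ext C
          simp only [Set.mem_insert_iff, Set.mem_singleton_iff]
          tauto
        rw [this, Set.ncard_pair (Ne.symm h1)]
      · intro K hK
        exact no_index_four P hshape hgen hcR huP huR (2 ^ (n - 3)) (Or.inr (Or.inr h2.symm)) K hK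
    · by_cases h3 : ConjClasses.mk u = ConjClasses.mk v
      · right; left
        refine ⟨?_, exists_index_two P hshape hidx hzR hzo huP huR h1, ?_⟩
        · rw [← h3]
          have : ({ConjClasses.mk z, ConjClasses.mk u, ConjClasses.mk u} :
              Set (ConjClasses G)) = {ConjClasses.mk z, ConjClasses.mk u} := by
            ext C
            simp only [Set.mem_insert_iff, Set.mem_singleton_iff]
            tauto
          rw [this, Set.ncard_pair (Ne.symm h1)]
        · intro K hK
          exact no_index_four P hshape hgen hcR huP huR (2 ^ (n - 3)) (Or.inl h3) K hK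
      · right; right
        refine ⟨?_, npc P hshape hgen hcR hzR hzo huP huR h1 h2⟩
        rw [Set.ncard_eq_three]
        exact ⟨_, _, _, Ne.symm h1, Ne.symm h2, h3, rfl⟩

end Cfsg.Agent.S3864
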