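import Cfsg.Statements.S1255
import Mathlib
import Cfsg.Agent.Lib.Lead.DihShape3
import Cfsg.Agent.Lib.Lead.KleinFour
import Cfsg.Agent.Lib.Lead.Conj
import Cfsg.Agent.S3864
import Cfsg.Agent.S1254

set_option autoImplicit false
open Cfsg

namespace Cfsg.Agent.S1255

open scoped Pointwise
open Cfsg.Agent.Lib.Lead
open Cfsg.Agent.S3864 (conj_into_sylow mk_conj orderOf_two_of_sq exists_index_two no_index_two)

/-- If `3` divides `|N(V) : C(V)|` for a four-group `V`, no involution of `V` is fixed by `N(V)`. -/
theorem klein_moves {Y : Type*} [Group Y] [Finite Y] (V : Subgroup Y) (hV : IsKleinFour ↥V)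
    {x : Y} (hxV : x ∈ V) (hx1 : x ≠ 1)
    (h3 : 3 ∣ (Subgroup.centralizer (V : Set Y)).relIndex (Subgroup.normalizer (V : Set Y))) :
    ∃ g ∈ Subgroup.normalizer (V : Set Y), g * x * g⁻¹ ≠ x := by
  classical
  by_contra hcon
  push Not at hcon
  obtain ⟨y, hyV, hy1, hyx⟩ := KleinFour.KleinFourSub.exists_ne hV x
  haveI : Fintype ↥V := Fintype.ofFinite _
  have hVel : ∀ w ∈ V, w = 1 ∨ w = x ∨ w = y ∨ w = x * y := by
    intro w hw
    have huniv := IsKleinFour.eq_finset_univ (G := ↥V) (x := ⟨x, hxV⟩) (y := ⟨y, hyV⟩)
      (fun h => hx1 (congrArg Subtype.val h)) (fun h => hy1 (congrArg Subtype.val h))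
      (fun h => hyx (congrArg Subtype.val h).symm)
    have hmem : (⟨w, hw⟩ : ↥V) ∈ ({⟨x, hxV⟩ * ⟨y, hyV⟩, ⟨x, hxV⟩, ⟨y, hyV⟩, 1} : Finset ↥V) := by
      rw [huniv]; exact Finset.mem_univ _
    simp only [Finset.mem_insert, Finset.mem_singleton] at hmem
    rcases hmem with h | h | h | h
    · right; right; right; exact congrArg Subtype.val h
    · right; left; exact congrArg Subtype.val h
    · right; right; left; exact congrArg Subtype.val h
    · left; exact congrArg Subtype.val h
  have hxx : x * x = 1 := KleinFour.KleinFourSub.sq_eq_one hV hxV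
  have hsq : ∀ g ∈ Subgroup.normalizer (V : Set Y), g * g ∈ Subgroup.centralizer (V : Set Y) := by
    intro g hg
    have hgx := hcon g hg
    have hgyV : g * y * g⁻¹ ∈ V := (Subgroup.mem_normalizer_iff.mp hg y).mp hyV
    have hgy1 : g * y * g⁻¹ ≠ 1 := by
      intro h
      apply hy1
      have : y = g⁻¹ * (g * y * g⁻¹) * g := by group
      rw [this, h]; group
    have hgyx : g * y * g⁻¹ ≠ x := by
      intro h
      apply hyx
      have h' : g * y * g⁻¹ = g * x * g⁻¹ := by rw [h, hgx]
      exact mul_left_cancel (mul_right_cancel h')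
    have hgg_x : (g * g) * x * (g * g)⁻¹ = x := by
      calc (g * g) * x * (g * g)⁻¹ = g * (g * x * g⁻¹) * g⁻¹ := by group
        _ = x := by rw [hgx, hgx]
    have hgg_y : (g * g) * y * (g * g)⁻¹ = y := by
      rcases hVel _ hgyV with h | h | h | h
      · exact absurd h hgy1
      · exact absurd h hgyx
      · calc (g * g) * y * (g * g)⁻¹ = g * (g * y * g⁻¹) * g⁻¹ := by group
          _ = y := by rw [h, h]
      · calc (g * g) * y * (g * g)⁻¹ = g * (g * y * g⁻¹) * g⁻¹ := by group
          _ = g * (x * y) * g⁻¹ := by rw [h]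
          _ = (g * x * g⁻¹) * (g * y * g⁻¹) := by group
          _ = x * (x * y) := by rw [hgx, h]
          _ = y := by rw [← mul_assoc, hxx, one_mul]
    have cx : x * (g * g) = (g * g) * x := by
      calc x * (g * g) = ((g * g) * x * (g * g)⁻¹) * (g * g) := by rw [hgg_x]
        _ = (g * g) * x := by group
    have cy : y * (g * g) = (g * g) * y := by
      calc y * (g * g) = ((g * g) * y * (g * g)⁻¹) * (g * g) := by rw [hgg_y]
        _ = (g * g) * y := by group
    rw [Subgroup.mem_centralizer_iff]
    intro w hw
    rcases hVel w hw with rfl | rfl | rfl | rfl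
    · simp
    · exact cx
    · exact cy
    · calc x * y * (g * g) = x * (y * (g * g)) := by group
        _ = x * ((g * g) * y) := by rw [cy]
        _ = (x * (g * g)) * y := by group
        _ = (g * g) * x * y := by rw [cx]
        _ = g * g * (x * y) := by group
  set φ := V.normalizerMonoidHom with hφ
  have hker : φ.ker = (Subgroup.centralizer (V : Set Y)).subgroupOf
      (Subgroup.normalizer (V : Set Y)) := Subgroup.normalizerMonoidHom_ker V
  have hcardrange : 3 ∣ Nat.card ↥φ.range := by
    rw [← Subgroup.index_ker, hker]; exact h3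
  haveI : Fact (Nat.Prime 3) := ⟨Nat.prime_three⟩
  obtain ⟨α, hα⟩ := exists_prime_orderOf_dvd_card' 3 hcardrange
  obtain ⟨g, hg⟩ := α.2
  have hgg : g * g ∈ φ.ker := by
    rw [hker, Subgroup.mem_subgroupOf]
    exact hsq g.1 g.2
  have h2 : (α : MulAut ↥V) ^ 2 = 1 := by
    rw [← hg, ← map_pow, pow_two]; exact hgg
  have hα2 : α ^ 2 = 1 := Subtype.ext (by simpa using h2)
  have h1 : orderOf α ∣ 2 := orderOf_dvd_of_pow_eq_one hα2
  rw [hα] at h1
  norm_num at h1

/-- Let X be a finite group whose Sylow 2-subgroup S is dihedral of order 2m ≥ 4. Then X has no subgroup of index 2 and no isolated involution if and only if either all involutions of X are conjugate, or for every Klein four-subgroup U ≤ S the index |N_X(U) : C_X(U)| equals 3 when |S| = 4 and equals 6 when |S| > 4. -/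
theorem result {X : Type*} [Group X] [Finite X] (S : Sylow 2 X) (m : ℕ) (hm : 2 ≤ m) (eS : (S : Subgroup X) ≃* DihedralGroup m) : ((∀ H : Subgroup X, H.index ≠ 2) ∧ (∀ z : X, ¬ Cfsg.IsIsolatedInvolution z)) ↔ ((∀ a b : X, orderOf a = 2 → orderOf b = 2 → IsConj a b) ∨ (∀ U : Subgroup X, U ≤ S → IsKleinFour U → (Subgroup.centralizer (U : Set X)).relIndex (Subgroup.normalizer (U : Set X)) = (if Nat.card S = 4 then 3 else 6))) := by
  classical
  haveI : Fact (Nat.Prime 2) := ⟨Nat.prime_two⟩
  -- `m` is a power of two
  obtain ⟨a, ha⟩ := S.2.exists_card_eq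
  have hcardS : Nat.card ↥(S : Subgroup X) = 2 * m := by
    rw [Nat.card_congr eS.toEquiv, DihedralGroup.nat_card]
  have ha1 : 1 ≤ a := by
    rcases Nat.eq_zero_or_pos a with h | h
    · rw [h, pow_zero, hcardS] at ha; omega
    · exact h
  obtain ⟨k, hk⟩ : ∃ k, m = 2 ^ k := by
    refine ⟨a - 1, ?_⟩
    have : 2 ^ a = 2 * 2 ^ (a - 1) := by
      have : a = (a - 1) + 1 := by omega
      rw [this, pow_succ]; simp; ring
    rw [hcardS, this] at ha
    omega
  subst hk
  have hk1 : 1 ≤ k := by
    rcases Nat.eq_zero_or_pos k with h | h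
    · rw [h, pow_zero] at hm; omega
    · exact h
  obtain ⟨R₀, hshape⟩ := DihShape.shape_of_injective (S : Subgroup X) eS.toMonoidHom eS.injective
  haveI := hshape.cyc
  have hSnc : ¬ IsCyclic ↥(S : Subgroup X) := by
    intro h
    have h1 : IsCyclic (DihedralGroup (2 ^ k)) := isCyclic_of_surjective eS eS.surjective
    have h2 : (2 : ℕ) ^ k ≠ 1 := by omega
    exact DihedralGroup.not_isCyclic h2 h1
  obtain ⟨u, huS, huR⟩ : ∃ u ∈ (S : Subgroup X), u ∉ R₀ := by
    by_contra hcon
    push Not at hcon
    apply hSnc
    exact Subgroup.isCyclic_of_le (H' := R₀) (fun q hq => hcon q hq)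
  have hidx : R₀.relIndex (S : Subgroup X) = 2 := hshape.relIndex_eq_two huS huR
  have hcardR : Nat.card ↥R₀ = 2 ^ k := by
    have h1 := (R₀.subgroupOf (S : Subgroup X)).card_mul_index
    have h2 : Nat.card ↥(R₀.subgroupOf (S : Subgroup X)) = Nat.card ↥R₀ :=
      Nat.card_congr (Subgroup.subgroupOfEquivOfLe hshape.le).toEquiv
    have h3 : (R₀.subgroupOf (S : Subgroup X)).index = 2 := hidx
    rw [h2, h3, hcardS] at h1
    omega
  obtain ⟨c₀, hc₀⟩ := IsCyclic.exists_generator (α := ↥R₀)
  have hcR : (c₀ : X) ∈ R₀ := c₀.2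
  have hgen : ∀ x ∈ R₀, x ∈ Subgroup.zpowers (c₀ : X) := by
    intro x hx
    obtain ⟨i, hi⟩ := Subgroup.mem_zpowers_iff.mp (hc₀ ⟨x, hx⟩)
    refine Subgroup.mem_zpowers_iff.mpr ⟨i, ?_⟩
    have := congrArg Subtype.val hi
    simpa using this
  have hordc : orderOf (c₀ : X) = 2 ^ k := by
    rw [← hcardR, ← orderOf_eq_card_of_forall_mem_zpowers hc₀, Subgroup.orderOf_coe]
  set c : X := (c₀ : X) with hc
  set z : X := c ^ (2 ^ (k - 1)) with hz
  have hzo : orderOf z = 2 := by
    rw [hz, orderOf_pow_of_dvd (by positivity)
      (by rw [hordc]; exact pow_dvd_pow 2 (by omega)), hordc,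
      Nat.pow_div (by omega) (by norm_num)]
    have : k - (k - 1) = 1 := by omega
    rw [this, pow_one]
  have hzR : z ∈ R₀ := R₀.pow_mem hcR _
  have hzsq : z * z = 1 := by rw [← pow_two, ← hzo]; exact pow_orderOf_eq_one z
  have hz1 : z ≠ 1 := by
    intro h
    rw [h, orderOf_one] at hzo
    norm_num at hzo
  have hzinv : z⁻¹ = z := inv_eq_of_mul_eq_one_right hzsq
  set v : X := u * c with hv
  have hvS : v ∈ (S : Subgroup X) := Subgroup.mul_mem _ huS (hshape.le hcR)
  have hvR : v ∉ R₀ := hshape.mul_notMem huR hcR
  have hu1 : u ≠ 1 := fun h => huR (h ▸ R₀.one_mem)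
  have hv1 : v ≠ 1 := fun h => hvR (h ▸ R₀.one_mem)
  have husq : u * u = 1 := hshape.sq u huS huR
  have hvsq : v * v = 1 := hshape.sq v hvS hvR
  have huo : orderOf u = 2 := orderOf_two_of_sq husq hu1
  have hvo : orderOf v = 2 := orderOf_two_of_sq hvsq hv1
  have hzcent : ∀ p ∈ (S : Subgroup X), p * z = z * p := by
    intro p hp
    by_cases hpR : p ∈ R₀
    · obtain ⟨i, rfl⟩ := Subgroup.mem_zpowers_iff.mp (hgen p hpR)
      obtain ⟨j, hj⟩ := Subgroup.mem_zpowers_iff.mp (hgen z hzR)
      rw [← hj, ← zpow_add, ← zpow_add, add_comm]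
    · have := hshape.invert hp hpR hzR
      rw [hzinv] at this
      calc p * z = (p * z * p⁻¹) * p := by group
        _ = z * p := by rw [this]
  have hcls : ∀ w : X, orderOf w = 2 → ConjClasses.mk w = ConjClasses.mk z ∨
      ConjClasses.mk w = ConjClasses.mk u ∨ ConjClasses.mk w = ConjClasses.mk v := by
    intro w hw
    obtain ⟨g, hg⟩ := conj_into_sylow S w hw
    have ho : orderOf (g * w * g⁻¹) = 2 := by rw [Conj.orderOf_conj]; exact hw
    by_cases hR : g * w * g⁻¹ ∈ R₀
    · left
      rw [← mk_conj g w, DihShape.involution_unique hshape.cyc hR hzR ho hzo]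
    · rcases hshape.refl_conj_class hgen hcR huS huR hg hR with ⟨x, -, hx⟩ | ⟨x, -, hx⟩
      · right; left
        rw [← mk_conj g w, ← hx, mk_conj]
      · right; right
        rw [← mk_conj g w, ← hx, mk_conj]
  have h4X : 4 ∣ Nat.card X := by
    have h1 : Nat.card ↥(S : Subgroup X) ∣ Nat.card X := Subgroup.card_subgroup_dvd_card _
    rw [hcardS] at h1
    refine dvd_trans ?_ h1
    exact ⟨2 ^ k / 2, by
      have : 2 ∣ 2 ^ k := dvd_pow_self 2 (by omega)
      omega⟩
  -- the key equivalence: everything reduces to "all involutions are conjugate to `z`"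
  have hfinish : (∀ w : X, orderOf w = 2 → ConjClasses.mk w = ConjClasses.mk z) →
      ((∀ H : Subgroup X, H.index ≠ 2) ∧ (∀ t : X, ¬ Cfsg.IsIsolatedInvolution t)) := by
    intro hallz
    refine ⟨?_, ?_⟩
    · intro H hH
      exact no_index_two S hshape hgen hcR huS huR h4X hallz H
        (Subgroup.normal_of_index_eq_two hH) hH
    · rintro t ⟨hto, hiso⟩
      obtain ⟨h, hh⟩ := isConj_iff.mp (ConjClasses.mk_eq_mk_iff_isConj.mp (hallz t hto).symm)
      obtain ⟨g, hg⟩ := isConj_iff.mp (ConjClasses.mk_eq_mk_iff_isConj.mp (hallz u huo).symm)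
      -- `t = h z h⁻¹`, `u = g z g⁻¹`
      have e1 : (h * g * h⁻¹) * t * (h * g * h⁻¹)⁻¹ = h * u * h⁻¹ := by
        rw [← hh, ← hg]; group
      have hcomm : Commute t ((h * g * h⁻¹) * t * (h * g * h⁻¹)⁻¹) := by
        rw [e1, ← hh]
        show h * z * h⁻¹ * (h * u * h⁻¹) = h * u * h⁻¹ * (h * z * h⁻¹)
        have : u * z = z * u := hzcent u huS
        calc h * z * h⁻¹ * (h * u * h⁻¹) = h * (z * u) * h⁻¹ := by group
          _ = h * (u * z) * h⁻¹ := by rw [this]
          _ = h * u * h⁻¹ * (h * z * h⁻¹) := by group
      have := hiso _ hcomm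
      rw [e1, ← hh] at this
      have huz : u = z := by
        have h2 : h * u * h⁻¹ = h * z * h⁻¹ := this
        exact mul_left_cancel (mul_right_cancel h2)
      exact huR (huz ▸ hzR)
  constructor
  · rintro ⟨hno, -⟩
    left
    have h1 : ConjClasses.mk u = ConjClasses.mk z := by
      by_contra hne
      obtain ⟨N, -, hN2⟩ := exists_index_two S hshape hidx hzR hzo huS huR hne
      exact hno N hN2
    have h2 : ConjClasses.mk v = ConjClasses.mk z := by
      by_contra hne
      obtain ⟨N, -, hN2⟩ := exists_index_two S hshape hidx hzR hzo hvS hvR hne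
      exact hno N hN2
    intro a b hao hbo
    have ha : ConjClasses.mk a = ConjClasses.mk z := by
      rcases hcls a hao with h | h | h
      · exact h
      · rw [h, h1]
      · rw [h, h2]
    have hb : ConjClasses.mk b = ConjClasses.mk z := by
      rcases hcls b hbo with h | h | h
      · exact h
      · rw [h, h1]
      · rw [h, h2]
    exact ConjClasses.mk_eq_mk_iff_isConj.mp (ha.trans hb.symm)
  · rintro (hconj | hK)
    · apply hfinish
      intro w hw
      exact ConjClasses.mk_eq_mk_iff_isConj.mpr (hconj w z hw hzo)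
    · have h3 : ∀ U : Subgroup X, U ≤ (S : Subgroup X) → IsKleinFour ↥U →
          3 ∣ (Subgroup.centralizer (U : Set X)).relIndex (Subgroup.normalizer (U : Set X)) := by
        intro U hU hKU
        rw [hK U hU hKU]
        split_ifs <;> norm_num
      have key : ConjClasses.mk u = ConjClasses.mk z ∧ ConjClasses.mk v = ConjClasses.mk z := by
        rcases Nat.lt_or_ge k 2 with hk2 | hk2
        · -- `|S| = 4`
          have hk' : k = 1 := by omega
          have hzc : z = c := by rw [hz, hk']; simp
          have hSel : ∀ s ∈ (S : Subgroup X), s = 1 ∨ s = z ∨ s = u ∨ s = v := by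
            intro s hs
            have hrot : ∀ x ∈ R₀, x = 1 ∨ x = z := by
              intro x hx
              obtain ⟨i, rfl⟩ := Subgroup.mem_zpowers_iff.mp (hgen x hx)
              rw [hzc]
              exact DihShape.zpow_of_sq_eq_one (by rw [← hzc]; exact hzsq) i
            by_cases hsR : s ∈ R₀
            · rcases hrot s hsR with h | h
              · exact Or.inl h
              · exact Or.inr (Or.inl h)
            · have hmem := hshape.prod u huS s hs huR hsR
              rcases hrot _ hmem with h | h
              · right; right; left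
                have : s = u * (u⁻¹ * s) := by group
                rw [this, h, mul_one]
              · right; right; right
                have : s = u * (u⁻¹ * s) := by group
                rw [this, h, hv, hzc]
          have hSK : IsKleinFour ↥(S : Subgroup X) := by
            apply Cfsg.Agent.S1254.isKleinFour_of
            · rw [hcardS, hk']; norm_num
            · intro s hs
              rcases hSel s hs with rfl | rfl | rfl | rfl
              · simp
              · exact hzsq
              · exact husq
              · exact hvsq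
          have h3S := h3 (S : Subgroup X) le_rfl hSK
          have hmove : ∀ x ∈ (S : Subgroup X), x ≠ 1 → ∃ y ∈ (S : Subgroup X), y ≠ 1 ∧ y ≠ x ∧
              ConjClasses.mk x = ConjClasses.mk y := by
            intro x hx hx1
            obtain ⟨g, hg, hgx⟩ := klein_moves (S : Subgroup X) hSK hx hx1 h3S
            refine ⟨g * x * g⁻¹, (Subgroup.mem_normalizer_iff.mp hg x).mp hx, ?_, hgx,
              (mk_conj g x).symm⟩
            intro h
            apply hx1
            have : x = g⁻¹ * (g * x * g⁻¹) * g := by group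
            rw [this, h]; group
          have hzu : z ≠ u := fun h => huR (h ▸ hzR)
          have hzv : z ≠ v := fun h => hvR (h ▸ hzR)
          have huv : u ≠ v := by
            intro h
            have : c = 1 := by
              have h' : u * 1 = u * c := by rw [mul_one]; exact h
              exact (mul_left_cancel h').symm
            rw [← hzc] at this
            exact hz1 this
          obtain ⟨y1, hy1S, hy11, hy1z, e1⟩ := hmove z (hshape.le hzR) hz1
          obtain ⟨y2, hy2S, hy21, hy2u, e2⟩ := hmove u huS hu1
          obtain ⟨y3, hy3S, hy31, hy3v, e3⟩ := hmove v hvS hv1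
          rcases hSel y1 hy1S with h | h | h | h
          · exact absurd h hy11
          · exact absurd h hy1z
          · -- z ~ u
            rw [h] at e1
            refine ⟨e1.symm, ?_⟩
            rcases hSel y3 hy3S with h' | h' | h' | h'
            · exact absurd h' hy31
            · rw [h'] at e3; exact e3
            · rw [h'] at e3; rw [e3, ← e1]
            · exact absurd h' hy3v
          · -- z ~ v
            rw [h] at e1
            refine ⟨?_, e1.symm⟩
            rcases hSel y2 hy2S with h' | h' | h' | h'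
            · exact absurd h' hy21
            · rw [h'] at e2; exact e2
            · exact absurd h' hy2u
            · rw [h'] at e2; rw [e2, ← e1]
        · -- `|S| > 4`
          set x : X := c ^ (2 ^ (k - 2)) with hx
          have hxR : x ∈ R₀ := R₀.pow_mem hcR _
          have hxx : x * x = z := by
            rw [hx, hz, ← pow_add]
            congr 1
            have : k - 1 = (k - 2) + 1 := by omega
            rw [this, pow_succ]; ring
          have hrefl : ∀ w ∈ (S : Subgroup X), w ∉ R₀ →
              ConjClasses.mk z = ConjClasses.mk w := by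
            intro w hwS hwR
            have hw1 : w ≠ 1 := fun h => hwR (h ▸ R₀.one_mem)
            have hwsq : w * w = 1 := hshape.sq w hwS hwR
            have hzw : z ≠ w := fun h => hwR (h ▸ hzR)
            obtain ⟨V, hVK, hzV, hwV, hVel⟩ := KleinFour.exists_kleinFour hzsq hwsq
              (hzcent w hwS).symm hz1 hw1 hzw
            have hVS : V ≤ (S : Subgroup X) := by
              intro y hy
              rcases hVel y hy with rfl | rfl | rfl | rfl
              · exact Subgroup.one_mem _
              · exact hshape.le hzR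
              · exact hwS
              · exact Subgroup.mul_mem _ (hshape.le hzR) hwS
            obtain ⟨g, hg, hgz⟩ := klein_moves V hVK hzV hz1 (h3 V hVS hVK)
            have hgzV : g * z * g⁻¹ ∈ V := (Subgroup.mem_normalizer_iff.mp hg z).mp hzV
            rcases hVel _ hgzV with h | h | h | h
            · exfalso
              apply hz1
              have : z = g⁻¹ * (g * z * g⁻¹) * g := by group
              rw [this, h]; group
            · exact absurd h hgz
            · rw [← mk_conj g z, h]
            · rw [← mk_conj g z, h]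
              have e : z * w = x⁻¹ * w * (x⁻¹)⁻¹ := by
                rw [inv_inv, hshape.conj_refl hwS hwR hxR, mul_assoc, hxx]
                exact (hzcent w hwS).symm
              rw [e, mk_conj]
          exact ⟨(hrefl u huS huR).symm, (hrefl v hvS hvR).symm⟩
      apply hfinish
      intro w hw
      rcases hcls w hw with h | h | h
      · exact h
      · rw [h, key.1]
      · rw [h, key.2]

end Cfsg.Agent.S1255
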