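import Mathlib
import Cfsg.Statements.S1256
import Cfsg.Agent.H2.DihFourFusion
import Cfsg.Agent.H2.DihFourClasses
import Cfsg.Agent.H2.ConjMap

set_option autoImplicit false
open Cfsg

namespace Cfsg.Agent.S1256

open Cfsg.Agent.H2.DihFourFusion Cfsg.Agent.H2.DihFourClasses

/-- Let X be a finite group whose Sylow 2-subgroup S is dihedral of order 2m ≥ 4. If |S| = 4, any two Klein four-subgroups of X are conjugate; if |S| > 4, there are Klein four-subgroups U₁, U₂ of X that are not conjugate, and every Klein four-subgroup of X is conjugate to U₁ or to U₂. -/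
theorem result {X : Type*} [Group X] [Finite X] (S : Sylow 2 X) (m : ℕ) (hm : 2 ≤ m) (eS : (S : Subgroup X) ≃* DihedralGroup m) : (Nat.card S = 4 → ∀ U V : Subgroup X, IsKleinFour U → IsKleinFour V → (∃ x : X, U.map (MulAut.conj x).toMonoidHom = V)) ∧ (4 < Nat.card S → ∃ U₁ U₂ : Subgroup X, IsKleinFour U₁ ∧ IsKleinFour U₂ ∧ ¬ (∃ x : X, U₁.map (MulAut.conj x).toMonoidHom = U₂) ∧ ∀ V : Subgroup X, IsKleinFour V → (∃ x : X, V.map (MulAut.conj x).toMonoidHom = U₁) ∨ (∃ x : X, V.map (MulAut.conj x).toMonoidHom = U₂)) := by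
  classical
  have h01 : (0 : ZMod 2) ≠ 1 := by decide
  have hcases : ∀ a : ZMod 2, a = 0 ∨ a = 1 := by decide
  have _ : Fact (Nat.Prime 2) := ⟨Nat.prime_two⟩
  have hcardS : Nat.card ↥(S : Subgroup X) = 2 * m := by
    rw [Nat.card_congr eS.toEquiv, DihedralGroup.nat_card]
  -- every Klein four-subgroup is conjugate into `S`
  have hinto : ∀ V : Subgroup X, IsKleinFour ↥V →
      ∃ g : X, V.map (MulAut.conj g).toMonoidHom ≤ (S : Subgroup X) := by
    intro V hV
    have hp : IsPGroup 2 ↥V := IsPGroup.of_card (n := 2) (by rw [IsKleinFour.card_four]; norm_num)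
    obtain ⟨T, hT⟩ := hp.exists_le_sylow
    obtain ⟨c, hc⟩ := MulAction.exists_smul_eq X T S
    refine ⟨c, ?_⟩
    rw [← hc, Cfsg.Agent.H2.sylow_smul_eq_map_conj]
    exact Subgroup.map_mono hT
  constructor
  · intro h4 U V hU hV
    have h4' : Nat.card ↥(S : Subgroup X) = 4 := h4
    have hcU : Nat.card ↥U = 2 ^ (Nat.card X).factorization 2 := by
      rw [← S.card_eq_multiplicity, h4']; exact IsKleinFour.card_four
    have hcV : Nat.card ↥V = 2 ^ (Nat.card X).factorization 2 := by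
      rw [← S.card_eq_multiplicity, h4']; exact IsKleinFour.card_four
    obtain ⟨c, hc⟩ := MulAction.exists_smul_eq X (Sylow.ofCard U hcU) (Sylow.ofCard V hcV)
    refine ⟨c, ?_⟩
    have := congrArg (fun P : Sylow 2 X => (P : Subgroup X)) hc
    simp only [Cfsg.Agent.H2.sylow_smul_eq_map_conj] at this
    exact this
  · intro h4
    have h4' : 4 < Nat.card ↥(S : Subgroup X) := h4
    -- `4 ∣ m`
    obtain ⟨k, hk⟩ := S.2.exists_card_eq
    have hm4 : 4 ∣ m := by
      rw [hcardS] at hk h4'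
      rcases k with _ | _ | _ | k
      · omega
      · omega
      · omega
      · refine ⟨2 ^ k, ?_⟩
        have : 2 ^ (k + 1 + 1 + 1) = 2 * (4 * 2 ^ k) := by ring
        omega
    have h2 : 2 ∣ m := Dvd.dvd.trans (by norm_num) hm4
    have _ : NeZero m := ⟨by omega⟩
    obtain ⟨R₀, hshape⟩ := Cfsg.Agent.Lib.Lead.DihShape.shape_of_injective (S : Subgroup X)
      eS.toMonoidHom eS.injective
    have hS4 : ¬ (Nat.card ↥(S : Subgroup X) = 4 ∧ ∀ q ∈ (S : Subgroup X), q * q = 1) := by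
      intro h; omega
    obtain ⟨U₁, hK₁, hF₁, hσ₁⟩ := exists_four eS h2 0
    obtain ⟨U₂, hK₂, hF₂, hσ₂⟩ := exists_four eS h2 1
    refine ⟨U₁, U₂, hK₁, hK₂, ?_, ?_⟩
    · rintro ⟨x, hx⟩
      have hle : U₁.map (MulAut.conj x).toMonoidHom ≤ (S : Subgroup X) := by rw [hx]; exact hF₂.le
      obtain ⟨s, hs, hes⟩ := fusion_four S hshape hS4 U₁ hF₁.le hF₁.card x hle
      have hc : U₁.map (MulAut.conj s).toMonoidHom = U₂ := by
        show Cfsg.Agent.S1963.cj s U₁ = U₂
        rw [← hes]; exact hx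
      have := par_eq_of_conj eS hm4 hF₁ hF₂ hσ₁ hσ₂ hs hc
      rw [map_zero, map_one] at this
      exact h01 this
    · intro V hV
      obtain ⟨g, hg⟩ := hinto V hV
      have hF : Four (S : Subgroup X) (V.map (MulAut.conj g).toMonoidHom) := by
        refine ⟨hg, ?_, ?_⟩
        · rw [Cfsg.Agent.H2.card_map_conj]; exact IsKleinFour.card_four
        · intro y hy
          rw [Cfsg.Agent.H2.mem_map_conj_iff] at hy
          have := Cfsg.Agent.Lib.Lead.KleinFour.KleinFourSub.sq_eq_one hV hy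
          have e1 : y * y = g * ((g⁻¹ * y * g) * (g⁻¹ * y * g)) * g⁻¹ := by group
          rw [e1, this]
          group
      obtain ⟨i, hi⟩ := exists_refl eS h2 hF
      have hpar : par h2 i = 0 ∨ par h2 i = 1 := hcases _
      rcases hpar with hp | hp
      · left
        obtain ⟨s, hs, hes⟩ := conj_of_par_eq eS h2 hF hF₁ hi hσ₁ (by rw [hp, map_zero])
        refine ⟨s * g, ?_⟩
        rw [Cfsg.Agent.H2.map_conj_mul]
        exact hes
      · right
        obtain ⟨s, hs, hes⟩ := conj_of_par_eq eS h2 hF hF₂ hi hσ₂ (by rw [hp, map_one])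
        refine ⟨s * g, ?_⟩
        rw [Cfsg.Agent.H2.map_conj_mul]
        exact hes

end Cfsg.Agent.S1256
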