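import Mathlib
import Cfsg.Statements.S1258
import Cfsg.Agent.H2.Quasisimple

set_option autoImplicit false
open Cfsg

namespace Cfsg.Agent.S1258

/-- If the central quotient of a finite group X is non-abelian simple, then X = X' Z(X) and the commutator subgroup X' is quasisimple. -/
theorem result {X : Type*} [Group X] [Finite X] (hs : IsSimpleGroup (X ⧸ Subgroup.center X)) (hna : ¬ IsMulCommutative (X ⧸ Subgroup.center X)) : commutator X ⊔ Subgroup.center X = ⊤ ∧ Cfsg.IsQuasisimple ↥(commutator X) := by
  have h1 : commutator X ⊔ Subgroup.center X = ⊤ := by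
    have hmap : (commutator X).map (QuotientGroup.mk' (Subgroup.center X)) =
        commutator (X ⧸ Subgroup.center X) := by
      rw [commutator_def, Subgroup.map_commutator, commutator_def,
        ← MonoidHom.range_eq_map, MonoidHom.range_eq_top.2 (QuotientGroup.mk'_surjective _)]
    have hne : commutator (X ⧸ Subgroup.center X) ≠ ⊥ := by
      intro h
      apply hna
      rw [commutator_def, Subgroup.commutator_eq_bot_iff_le_centralizer] at h
      refine ⟨⟨fun a b => ?_⟩⟩
      have := h (Subgroup.mem_top b)
      rw [Subgroup.mem_centralizer_iff] at this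
      exact this a (Subgroup.mem_top a)
    have htop : commutator (X ⧸ Subgroup.center X) = ⊤ :=
      (Subgroup.Normal.eq_bot_or_eq_top inferInstance).resolve_left hne
    have := congrArg (Subgroup.comap (QuotientGroup.mk' (Subgroup.center X))) (hmap.trans htop)
    rwa [Subgroup.comap_map_eq, QuotientGroup.ker_mk', Subgroup.comap_top] at this
  refine ⟨h1, ?_⟩
  apply Cfsg.Agent.H2.isQuasisimple_of_sup_center_eq_top _ h1 hs
  conv_lhs => rw [← Cfsg.Agent.H2.commutator_sup_center, h1]
  rfl

end Cfsg.Agent.S1258
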