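import Mathlib
import Cfsg.Statements.S1263
import Cfsg.Agent.H2.Layer

set_option autoImplicit false
open Cfsg
open scoped commutatorElement Pointwise

namespace Cfsg.Agent.S1263

open Cfsg.Agent.H2

/-- the centre of a subgroup, viewed in the ambient group -/
def zc {G : Type*} [Group G] (L : Subgroup G) : Subgroup G := (Subgroup.center L).map L.subtype

theorem mem_zc {G : Type*} [Group G] (L : Subgroup G) (x : G) :
    x ∈ zc L ↔ x ∈ L ∧ ∀ h ∈ L, h * x = x * h := mem_map_subtype_center_iff L x

theorem key {G : Type*} [Group G] [Finite G] (T : Finset (Subgroup G))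
    (hT : ∀ L ∈ T, Cfsg.IsComponent L) :
    ∀ z ∈ (⨆ L ∈ T, L : Subgroup G), (∀ L ∈ T, ∀ x ∈ L, x * z = z * x) → z ∈ ⨆ L ∈ T, zc L := by
  classical
  induction T using Finset.induction_on with
  | empty =>
    intro z hz _
    simp at hz
    rw [hz]; exact Subgroup.one_mem _
  | insert L T' hL ih =>
    intro z hz hc
    have hT' : ∀ K ∈ T', Cfsg.IsComponent K := fun K hK => hT K (Finset.mem_insert_of_mem hK)
    have hLc : Cfsg.IsComponent L := hT L (Finset.mem_insert_self _ _)
    rw [Finset.iSup_insert] at hz ⊢
    have hcomm : L ≤ Subgroup.centralizer ((⨆ K ∈ T', K : Subgroup G) : Set G) := by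
      rw [Subgroup.le_centralizer_iff]
      apply iSup₂_le
      intro K hK
      rw [← Subgroup.commutator_eq_bot_iff_le_centralizer]
      apply components_commute (hT' K hK) hLc
      rintro rfl
      exact hL hK
    have hz' : z ∈ ((L ⊔ ⨆ K ∈ T', K : Subgroup G) : Set G) := hz
    rw [Subgroup.coe_mul_of_left_le_normalizer_right L _
      (hcomm.trans (Subgroup.centralizer_le_normalizer _))] at hz'
    obtain ⟨l, hl, e, he, rfl⟩ := Set.mem_mul.1 hz'
    have hl' : l ∈ L := hl
    have he' : e ∈ (⨆ K ∈ T', K : Subgroup G) := he
    -- e commutes with L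
    have heL : ∀ x ∈ L, x * e = e * x := by
      intro x hx
      exact (Subgroup.mem_centralizer_iff.1 (hcomm hx) e he').symm
    -- l is central in L
    have hlz : l ∈ zc L := by
      rw [mem_zc]
      refine ⟨hl', fun x hx => ?_⟩
      have h1 := hc L (Finset.mem_insert_self _ _) x hx
      have h2 := heL x hx
      have : x * l = (x * (l * e)) * e⁻¹ := by group
      rw [this, h1]
      calc l * e * x * e⁻¹ = l * (e * x) * e⁻¹ := by group
        _ = l * (x * e) * e⁻¹ := by rw [h2]
        _ = l * x := by group
    -- e commutes with every K in T'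
    have heK : ∀ K ∈ T', ∀ x ∈ K, x * e = e * x := by
      intro K hK x hx
      have h1 := hc K (Finset.mem_insert_of_mem hK) x hx
      have hKL : K ≠ L := by rintro rfl; exact hL hK
      have h2 : x * l = l * x :=
        (commutator_eq_bot_iff_forall_commute _ _).1 (components_commute (hT' K hK) hLc hKL) x hx l hl'
      have : x * e = l⁻¹ * (l * x) * e := by group
      rw [this, ← h2]
      calc l⁻¹ * (x * l) * e = l⁻¹ * (x * (l * e)) := by group
        _ = l⁻¹ * (l * e * x) := by rw [h1]
        _ = e * x := by group
    have := ih hT' e he' heK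
    exact Subgroup.mul_mem _ (Subgroup.mem_sup_left hlz) (Subgroup.mem_sup_right this)

/-- For a finite group G, Z(E(G)) is the subgroup generated by the centres Z(L) of the components L of G (all viewed as subgroups of G). -/
theorem result {G : Type*} [Group G] [Finite G] : (Subgroup.center ↥(Cfsg.layer G)).map (Cfsg.layer G).subtype = ⨆ L : {K : Subgroup G // Cfsg.IsComponent K}, (Subgroup.center ↥(L : Subgroup G)).map (L : Subgroup G).subtype := by
  classical
  apply le_antisymm
  · intro z hz
    rw [mem_map_subtype_center_iff] at hz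
    have hfin : {K : Subgroup G | Cfsg.IsComponent K}.Finite := Set.toFinite _
    set T := hfin.toFinset with hTdef
    have hT : ∀ L ∈ T, Cfsg.IsComponent L := fun L hL => by simpa [hTdef] using hL
    have hE : Cfsg.layer G = ⨆ L ∈ T, L := by
      apply le_antisymm
      · apply layer_le_iff.2
        intro L hL
        exact le_iSup₂ (f := fun (K : Subgroup G) (_ : K ∈ T) => K) L (by simpa [hTdef] using hL)
      · apply iSup₂_le
        intro L hL
        exact component_le_layer (hT L hL)
    have h1 := key T hT z (hE ▸ hz.1) (fun L hL x hx => hz.2 x (component_le_layer (hT L hL) hx))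
    refine (iSup₂_le ?_ : (⨆ L ∈ T, zc L) ≤ _) h1
    intro L hL
    exact le_iSup (fun L : {K : Subgroup G // Cfsg.IsComponent K} =>
      (Subgroup.center ↥(L : Subgroup G)).map (L : Subgroup G).subtype) ⟨L, hT L hL⟩
  · apply iSup_le
    rintro ⟨L, hL⟩ z hz
    rw [mem_map_subtype_center_iff] at hz ⊢
    refine ⟨component_le_layer hL hz.1, ?_⟩
    have : Cfsg.layer G ≤ Subgroup.centralizer ({z} : Set G) := by
      apply layer_le_iff.2
      intro K hK x hx
      rw [Subgroup.mem_centralizer_singleton_iff]
      by_cases hKL : K = L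
      · subst hKL; exact hz.2 x hx
      · exact (commutator_eq_bot_iff_forall_commute _ _).1 (components_commute hK hL hKL) x hx z hz.1
    intro h hh
    have := this hh
    rwa [Subgroup.mem_centralizer_singleton_iff] at this

end Cfsg.Agent.S1263
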