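import Mathlib
import Cfsg.Statements.S1266
import Cfsg.Agent.H2.LayerQuotient

set_option autoImplicit false
open Cfsg
open scoped commutatorElement

namespace Cfsg.Agent.S1266

open Cfsg.Agent.H2

theorem le_centralizer_pCore_of_centralizes {G : Type*} [Group G] [Finite G] (p : ℕ) [Fact p.Prime]
    (P N Y : Subgroup G) (hP : IsPGroup p P) (hPN : P ≤ N)
    (hNP : N ≤ Subgroup.normalizer (P : Set G)) (hCPN : Subgroup.centralizer (P : Set G) ≤ N)
    (hY : Cfsg.pResidual p Y = ⊤)
    (hYc : ∀ R : Subgroup G, R ≤ N → IsPGroup p R → N ≤ Subgroup.normalizer (R : Set G) →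
      Y ≤ Subgroup.centralizer (R : Set G)) :
    Y ≤ Subgroup.centralizer ((Cfsg.pCore p G : Subgroup G) : Set G) := by
  have hQp : IsPGroup p (Cfsg.pCore p G) := Cfsg.Agent.H1.pCore_isPGroup p
  have hQnorm : Subgroup.normalizer ((Cfsg.pCore p G : Subgroup G) : Set G) = ⊤ :=
    Subgroup.normalizer_eq_top_iff.2 inferInstance
  have h1 : Y ≤ Subgroup.centralizer (P : Set G) := hYc P hPN hP hNP
  have h2 : Y ≤ Subgroup.centralizer ((Cfsg.pCore p G ⊓ N : Subgroup G) : Set G) := by
    apply hYc _ inf_le_right (hQp.to_le inf_le_left)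
    refine le_trans ?_ (normalizer_inf_le_normalizer_inf _ _)
    rw [hQnorm]
    exact le_inf le_top Subgroup.le_normalizer
  apply le_centralizer_of_pq p P (Cfsg.pCore p G) Y hP hQp hY h1
  · rw [hQnorm]; exact le_top
  · rw [hQnorm]; exact le_top
  · refine h2.trans (Subgroup.centralizer_le ?_)
    exact inf_le_inf_left _ hCPN

theorem pResidual_eq_top_of_coprime {G : Type*} [Group G] (p : ℕ) (Y : Subgroup G) [Finite Y]
    (h : (Nat.card Y).Coprime p) : Cfsg.pResidual p Y = ⊤ := by
  rw [eq_top_iff]
  intro k _
  apply Subgroup.subset_closure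
  show (orderOf k).Coprime p
  exact Nat.Coprime.coprime_dvd_left (orderOf_dvd_natCard k) h

/-- Let P be a p-subgroup of the finite group G and N = N_G(P). Then the preimage in N of E(N / O_{p'}(N)) centralizes O_p(G). -/
theorem result {G : Type*} [Group G] [Finite G] (p : ℕ) [Fact p.Prime] (P : Subgroup G) (hP : IsPGroup p ↥P) : (((Cfsg.layer (↥(Subgroup.normalizer ((P : Subgroup G) : Set G)) ⧸ Cfsg.pPrimeCore p ↥(Subgroup.normalizer ((P : Subgroup G) : Set G)))).comap (QuotientGroup.mk' (Cfsg.pPrimeCore p ↥(Subgroup.normalizer ((P : Subgroup G) : Set G))))).map (Subgroup.normalizer ((P : Subgroup G) : Set G)).subtype) ≤ Subgroup.centralizer (Cfsg.pCore p G : Set G) := by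
  have hPN : P ≤ Subgroup.normalizer (P : Set G) := Subgroup.le_normalizer
  have hCPN : Subgroup.centralizer (P : Set G) ≤ Subgroup.normalizer (P : Set G) :=
    Subgroup.centralizer_le_normalizer _
  -- the preimage is L_{p'}(N) O_{p'}(N)
  rw [comap_layer_quotient_pPrimeCore p, Subgroup.map_sup]
  apply sup_le
  · -- p-components
    rw [Subgroup.map_le_iff_le_comap]
    apply sSup_le
    intro K hK
    rw [← Subgroup.map_le_iff_le_comap]
    have hK'N : K.map (Subgroup.normalizer (P : Set G)).subtype ≤ Subgroup.normalizer (P : Set G) :=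
      map_subtype_le _ _
    have hKeq : (K.map (Subgroup.normalizer (P : Set G)).subtype).subgroupOf
        (Subgroup.normalizer (P : Set G)) = K :=
      Subgroup.comap_map_eq_self_of_injective (Subgroup.subtype_injective _) K
    have hperfK : ⁅K, K⁆ = K := pComponent_commutator_eq p hK
    have hperf : Cfsg.pResidual p (K.map (Subgroup.normalizer (P : Set G)).subtype) = ⊤ := by
      have h1 : Group.IsPerfect K := Subgroup.isPerfect_iff.2 hperfK
      have h2 : Group.IsPerfect (K.map (Subgroup.normalizer (P : Set G)).subtype) :=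
        Group.IsPerfect.map _
      exact pResidual_eq_top_of_isPerfect p _
    apply le_centralizer_pCore_of_centralizes p P _ _ hP hPN le_rfl hCPN hperf
    intro R hRN hR hNR
    have hRn : (R.subgroupOf (Subgroup.normalizer (P : Set G))).Normal :=
      (Subgroup.normal_subgroupOf_iff_le_normalizer hRN).2 hNR
    have hRp : IsPGroup p (R.subgroupOf (Subgroup.normalizer (P : Set G))) :=
      hR.comap_of_injective _ (Subgroup.subtype_injective _)
    rw [← Subgroup.commutator_eq_bot_iff_le_centralizer,
      ← commutator_subgroupOf_eq_bot_iff hK'N hRN, hKeq]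
    -- [K, R_N] ≤ O ⊓ R_N = ⊥
    have h1 : ⁅K, R.subgroupOf (Subgroup.normalizer (P : Set G))⁆ ≤
        Cfsg.pPrimeCore p ↥(Subgroup.normalizer (P : Set G)) := by
      rcases pComponent_le_or_commutator_le p hK hRn.isSubnormal with h | h
      · exfalso
        have hsolv : Group.IsSolvable (R.subgroupOf (Subgroup.normalizer (P : Set G))) := by
          have : Group.IsNilpotent (R.subgroupOf (Subgroup.normalizer (P : Set G))) :=
            hRp.isNilpotent
          infer_instance
        have hKs : Group.IsSolvable K :=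
          Group.isSolvable_of_isSolvable_injective (Subgroup.inclusion_injective h)
        have hKp : Group.IsPerfect K := Subgroup.isPerfect_iff.2 hperfK
        have hKnt : Nontrivial K := by
          rw [Subgroup.nontrivial_iff_ne_bot]
          rintro rfl
          have := pComponent_dvd_card p hK
          rw [Subgroup.card_bot] at this
          exact (Fact.out : p.Prime).one_lt.ne' (Nat.dvd_one.1 this)
        exact Group.IsPerfect.not_isSolvable K hKs
      · exact h
    have h2 : ⁅K, R.subgroupOf (Subgroup.normalizer (P : Set G))⁆ ≤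
        R.subgroupOf (Subgroup.normalizer (P : Set G)) := Subgroup.commutator_le_right _ _
    rw [eq_bot_iff]
    refine (le_inf h1 h2).trans ?_
    have hdisj : Disjoint (Cfsg.pPrimeCore p ↥(Subgroup.normalizer (P : Set G)))
        (R.subgroupOf (Subgroup.normalizer (P : Set G))) := by
      apply Subgroup.disjoint_of_coprime_natCard
      obtain ⟨n, hn⟩ := IsPGroup.iff_card.1 hRp
      rw [hn]
      exact Nat.Coprime.pow_right n (Cfsg.Agent.H1.pPrimeCore_coprime p)
    exact hdisj.le_bot
  · -- O_{p'}(N)
    set O' := (Cfsg.pPrimeCore p ↥(Subgroup.normalizer (P : Set G))).map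
      (Subgroup.normalizer (P : Set G)).subtype with hO'
    have hO'N : O' ≤ Subgroup.normalizer (P : Set G) := map_subtype_le _ _
    have hNO' : Subgroup.normalizer (P : Set G) ≤ Subgroup.normalizer (O' : Set G) :=
      le_normalizer_map_subtype_of_normal _ _
    have hO'c : (Nat.card O').Coprime p := by
      rw [hO', ← Nat.card_congr ((Cfsg.pPrimeCore p ↥(Subgroup.normalizer (P : Set G))).equivMapOfInjective
        _ (Subgroup.subtype_injective _)).toEquiv]
      exact Cfsg.Agent.H1.pPrimeCore_coprime p
    apply le_centralizer_pCore_of_centralizes p P _ O' hP hPN le_rfl hCPN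
      (pResidual_eq_top_of_coprime p O' hO'c)
    intro R hRN hR hNR
    rw [← Subgroup.commutator_eq_bot_iff_le_centralizer]
    apply commutator_eq_bot_of_disjoint (hO'N.trans hNR) (hRN.trans hNO')
    apply (Subgroup.disjoint_of_coprime_natCard _).eq_bot
    obtain ⟨n, hn⟩ := IsPGroup.iff_card.1 hR
    rw [hn]
    exact Nat.Coprime.pow_right n hO'c

end Cfsg.Agent.S1266
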