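import Cfsg.Statements.S1271
import Mathlib
import Cfsg.Agent.Lib.Helper4.BalComp
import Cfsg.Agent.Lib.Helper4.BalQuot

set_option autoImplicit false
open Cfsg
open scoped commutatorElement

namespace Cfsg.Agent.S1271


open Cfsg.Agent.Lib.Helper4.BalCore Cfsg.Agent.Lib.Helper4.BalComp in
theorem centralizerPPrimeCore_eq_of_mem_zpowers {G : Type*} [Group G] [Finite G] (p : ℕ)
    [hp : Fact p.Prime] (x : G) (hx : orderOf x = p) (a : G) (ha : a ∈ Subgroup.zpowers x)
    (ha1 : a ≠ 1) : Cfsg.centralizerPPrimeCore p a = Cfsg.centralizerPPrimeCore p x := by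
  have hpp : p.Prime := hp.out
  have hxp : x ^ p = 1 := by rw [← hx]; exact pow_orderOf_eq_one x
  have hap : a ^ p = 1 := by
    obtain ⟨i, rfl⟩ := Subgroup.mem_zpowers_iff.mp ha
    rw [← zpow_natCast, ← zpow_mul, mul_comm, zpow_mul, zpow_natCast, hxp, one_zpow]
  have hao : orderOf a = p := orderOf_eq_prime hap ha1
  have hle : Subgroup.zpowers a ≤ Subgroup.zpowers x := Subgroup.zpowers_le.mpr ha
  have heq : Subgroup.zpowers a = Subgroup.zpowers x := by
    apply Subgroup.eq_of_le_of_card_ge hle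
    rw [Nat.card_zpowers, Nat.card_zpowers, hao, hx]
  have hcen : Subgroup.centralizer ({a} : Set G) = Subgroup.centralizer ({x} : Set G) := by
    rw [← centralizer_zpowers, ← centralizer_zpowers, heq]
  unfold Cfsg.centralizerPPrimeCore
  rw [hcen]

/-- Let G be finite with O_{p'}(G) = 1. Suppose that for every component L of G and every subgroup H ≥ L in which L is normal, the quotient H / C_H(L) is balanced for the prime p. Then G is balanced for p. -/
theorem result {G : Type*} [Group G] [Finite G] (p : ℕ) [Fact p.Prime] (hO : Cfsg.pPrimeCore p G = ⊥) (h : ∀ L : Subgroup G, Cfsg.IsComponent L → ∀ H : Subgroup G, L ≤ H → (L.subgroupOf H).Normal → ∀ [((Subgroup.centralizer (L : Set G)).subgroupOf H).Normal], Cfsg.IsBalancedFor p (↥H ⧸ (Subgroup.centralizer (L : Set G)).subgroupOf H)) : Cfsg.IsBalancedFor p G := by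
  intro x hx
  rw [hO, le_bot_iff]
  have hpp : p.Prime := Fact.out
  have hxp : x ^ p = 1 := by rw [← hx]; exact pow_orderOf_eq_one x
  have hx1 : x ≠ 1 := by
    intro h
    rw [h, orderOf_one] at hx
    exact hpp.one_lt.ne hx
  have hA : Cfsg.IsElementaryAbelian p (Subgroup.zpowers x) := by
    refine ⟨inferInstance, ?_⟩
    intro a ha
    obtain ⟨i, rfl⟩ := Subgroup.mem_zpowers_iff.mp ha
    rw [← zpow_natCast, ← zpow_mul, mul_comm, zpow_mul, zpow_natCast, hxp, one_zpow]
  have hΔ : ∀ a ∈ Subgroup.zpowers x, a ≠ 1 →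
      Cfsg.centralizerPPrimeCore p x ≤ Cfsg.centralizerPPrimeCore p a := by
    intro a ha ha1
    rw [centralizerPPrimeCore_eq_of_mem_zpowers p x hx a ha ha1]
  apply Cfsg.Agent.Lib.Helper4.BalCore.eq_bot_of_forall_component hO (Subgroup.zpowers x) _ hA
    ⟨x, Subgroup.mem_zpowers x, hx1⟩ hΔ
  intro K hK hAK
  have hKne : K ≠ ⊥ := Cfsg.Agent.H2.quasisimple_ne_bot hK.2
  have hAK' : ∀ a ∈ Subgroup.zpowers x, K.map (MulAut.conj a).toMonoidHom = K := by
    intro a ha
    by_cases h1 : a = 1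
    · subst h1
      ext y
      simp
    · exact (hAK a ha h1).1
  obtain ⟨Δ, hΔdef⟩ : ∃ Δ : Subgroup G, Δ = Cfsg.centralizerPPrimeCore p x := ⟨_, rfl⟩
  rw [← hΔdef] at hΔ ⊢
  obtain ⟨N, hNdef⟩ : ∃ N : Subgroup G, N = K ⊔ (Subgroup.zpowers x ⊔ Δ) := ⟨_, rfl⟩
  have hKN : K ≤ N := by rw [hNdef]; exact le_sup_left
  have hAN : Subgroup.zpowers x ≤ N := by rw [hNdef]; exact le_sup_left.trans le_sup_right
  have hΔN : Δ ≤ N := by rw [hNdef]; exact le_sup_right.trans le_sup_right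
  have hN : N ≤ K ⊔ (Subgroup.zpowers x ⊔ Δ) := hNdef.le
  have hNnK : N ≤ Subgroup.normalizer (K : Set G) := by
    rw [hNdef]
    apply sup_le Subgroup.le_normalizer
    apply sup_le
    · intro b hb
      exact Cfsg.Agent.Lib.Helper4.BalComp.mem_normalizer_of_map_conj_eq K b (hAK' b hb)
    · rw [hΔdef]
      exact Cfsg.Agent.Lib.Helper4.BalCore.centralizerPPrimeCore_le_normalizer hO hx K hK
  haveI hKn' : (K.subgroupOf N).Normal :=
    (Subgroup.normal_subgroupOf_iff_le_normalizer hKN).mpr hNnK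
  haveI hCn' : ((Subgroup.centralizer (K : Set G)).subgroupOf N).Normal :=
    Subgroup.normal_subgroupOf_of_le_normalizer
      (hNnK.trans (Cfsg.Agent.H2.FsAct.normalizer_le_normalizer_centralizer K))
  have hbal := h K hK N hKN hKn'
  have hmemC : ∀ y : ↥N, y ∈ (Subgroup.centralizer (K : Set G)).subgroupOf N ↔
      ∀ k ∈ K.subgroupOf N, y * k = k * y := by
    intro y
    rw [Subgroup.mem_subgroupOf, Subgroup.mem_centralizer_iff]
    constructor
    · intro hy k hk
      apply Subtype.ext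
      exact (hy (k : G) (Subgroup.mem_subgroupOf.mp hk)).symm
    · intro hy k hk
      have := hy ⟨k, hKN hk⟩ (Subgroup.mem_subgroupOf.mpr hk)
      exact (congrArg Subtype.val this).symm
  have hY : Cfsg.pPrimeCore p (↥N ⧸ (Subgroup.centralizer (K : Set G)).subgroupOf N) = ⊥ := by
    apply Cfsg.Agent.Lib.Helper4.BalQuot.pPrimeCore_quotient_eq_bot_of_quasisimple p
      (K.subgroupOf N) _ ((Cfsg.Agent.H2.isQuasisimple_subgroupOf hKN).mpr hK.2) ?_ hmemC
    rw [Nat.card_congr (Subgroup.subgroupOfEquivOfLe hKN).toEquiv]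
    exact Cfsg.Agent.H2.component_not_coprime p hO hK
  obtain ⟨φ, hφdef⟩ : ∃ φ : ↥N →* ↥N ⧸ (Subgroup.centralizer (K : Set G)).subgroupOf N,
      φ = QuotientGroup.mk' _ := ⟨_, rfl⟩
  have hφsurj : Function.Surjective φ := by rw [hφdef]; exact QuotientGroup.mk'_surjective _
  have hφ1 : ∀ y : ↥N, φ y = 1 ↔ (y : G) ∈ Subgroup.centralizer (K : Set G) := by
    intro y
    rw [hφdef]
    exact (QuotientGroup.eq_one_iff y).trans Subgroup.mem_subgroupOf
  have hker : ∀ k : ↥N, (k : G) ∈ K → φ k = 1 → ∀ k' ∈ K, (k : G) * k' = k' * (k : G) := by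
    intro k _ hk1 k' hk'
    exact (Subgroup.mem_centralizer_iff.mp ((hφ1 k).mp hk1) k' hk').symm
  have hxN : x ∈ N := hAN (Subgroup.mem_zpowers x)
  have hstep := Cfsg.Agent.Lib.Helper4.BalComp.map_le_of_component hO K (Subgroup.zpowers x) Δ N hK hA
    hAK' hΔ hKN hAN hΔN hN φ hφsurj hker x (Subgroup.mem_zpowers x) hx1
  have hφx1 : φ ⟨x, hxN⟩ ≠ 1 := by
    intro h1
    have hxc : x ∈ Subgroup.centralizer (K : Set G) := (hφ1 ⟨x, hxN⟩).mp h1
    have h2 := (hAK x (Subgroup.mem_zpowers x) hx1).2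
    have h3 : ⁅K, Subgroup.zpowers x⁆ = ⊥ := by
      rw [Subgroup.commutator_eq_bot_iff_le_centralizer, Subgroup.le_centralizer_iff,
        Subgroup.zpowers_le]
      exact hxc
    rw [h3] at h2
    exact hKne h2.symm
  have hφxo : orderOf (φ ⟨x, hxN⟩) = p := by
    apply orderOf_eq_prime _ hφx1
    rw [← map_pow]
    have : (⟨x, hxN⟩ : ↥N) ^ p = 1 := by
      apply Subtype.ext
      rw [Subgroup.coe_pow]
      exact hxp
    rw [this, map_one]
  have h5 := hstep.trans (hbal (φ ⟨x, hxN⟩) hφxo)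
  rw [hY, le_bot_iff] at h5
  intro d hd
  have : φ ⟨d, hΔN hd⟩ ∈ (Δ.subgroupOf N).map φ :=
    Subgroup.mem_map_of_mem φ (Subgroup.mem_subgroupOf.mpr hd)
  rw [h5, Subgroup.mem_bot] at this
  exact (hφ1 _).mp this

end Cfsg.Agent.S1271
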