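import Mathlib
import Cfsg.Statements.S1273
import Cfsg.Agent.H2.PComponent

set_option autoImplicit false
open Cfsg
open scoped commutatorElement

namespace Cfsg.Agent.S1273

open Cfsg.Agent.H2

/-- Let K be a p-component of the finite group X and N a normal subgroup of K whose index in K is prime to p. Then N = K. -/
theorem result {X : Type*} [Group X] [Finite X] (p : ℕ) [Fact p.Prime] (K : Subgroup X) (hK : Cfsg.IsPComponent p K) (N : Subgroup ↥K) [N.Normal] (hidx : (N.index).Coprime p) : N = ⊤ := by
  set π := QuotientGroup.mk' (Cfsg.pPrimeCore p X) with hπ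
  let f : K →* K.map π := π.subgroupMap K
  have hf : Function.Surjective f := π.subgroupMap_surjective K
  have hNfn : (N.map f).Normal := Subgroup.Normal.map inferInstance f hf
  have hqs : Cfsg.IsQuasisimple (K.map π) := hK.2.1.2
  rcases IsQuasisimple.eq_top_or_le_center hqs (N.map f) hNfn.isSubnormal with h | h
  · -- N' = K by minimality
    have hN'K : N.map K.subtype ≤ K := map_subtype_le _ _
    have hsn : (N.map K.subtype).IsSubnormal :=
      isSubnormal_of_normal_in hK.1 hN'K (le_normalizer_map_subtype_of_normal K N)
    have himg : (N.map K.subtype).map π = K.map π := by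
      apply le_antisymm (Subgroup.map_mono hN'K)
      intro x hx
      have : (⟨x, hx⟩ : K.map π) ∈ N.map f := by rw [h]; exact Subgroup.mem_top _
      obtain ⟨n, hn, hfn⟩ := Subgroup.mem_map.1 this
      refine ⟨(n : X), ⟨n, hn, rfl⟩, ?_⟩
      exact congrArg Subtype.val hfn
    have := hK.2.2 _ hsn hN'K himg
    apply Subgroup.map_injective K.subtype_injective
    rw [this, ← MonoidHom.range_eq_map, Subgroup.range_subtype]
  · exfalso
    have h1 : (Subgroup.center (K.map π)).index ∣ (N.map f).index := Subgroup.index_dvd_of_le h
    have h2 : (N.map f).index ∣ N.index := Subgroup.index_map_dvd N hf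
    have h3 : ¬ p ∣ (Subgroup.center (K.map π)).index := by
      intro hp
      exact (Nat.Prime.coprime_iff_not_dvd Fact.out).1 hidx.symm (hp.trans (h1.trans h2))
    have h4 := quasisimple_coprime_of_not_dvd_index_center (K.map π) hqs p h3
    exact component_not_coprime p (pPrimeCore_quotient_eq_bot p) hK.2.1 h4

end Cfsg.Agent.S1273
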