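import Mathlib
import Cfsg.Statements.S1276
import Cfsg.Agent.H2.PComponent2

set_option autoImplicit false
open Cfsg

namespace Cfsg.Agent.S1276

open Cfsg.Agent.H2

/-- Let K be a 2-component of the finite group X. Then K is quasisimple if and only if ⁅K, O(K)⁆ = 1. -/
theorem result {X : Type*} [Group X] [Finite X] (K : Subgroup X) (hK : Cfsg.IsPComponent 2 K) : Cfsg.IsQuasisimple ↥K ↔ ⁅K, ((Cfsg.oddCore ↥K).map K.subtype)⁆ = ⊥ := by
  have : Fact (Nat.Prime 2) := ⟨Nat.prime_two⟩
  have hOK : (Cfsg.oddCore ↥K).map K.subtype ≤ K := map_subtype_le _ _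
  have hiff : ⁅K, ((Cfsg.oddCore ↥K).map K.subtype)⁆ = ⊥ ↔ Cfsg.oddCore ↥K ≤ Subgroup.center K := by
    rw [commutator_eq_bot_iff_forall_commute]
    constructor
    · intro h z hz
      rw [Subgroup.mem_center_iff]
      intro k
      apply Subtype.ext
      exact h k k.2 z (Subgroup.mem_map_of_mem _ hz)
    · rintro h a ha _ ⟨z, hz, rfl⟩
      have := Subgroup.mem_center_iff.1 (h hz) ⟨a, ha⟩
      exact congrArg Subtype.val this
  rw [hiff]
  constructor
  · intro hqs
    rcases IsQuasisimple.eq_top_or_le_center hqs (Cfsg.oddCore ↥K)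
      (inferInstance : (Cfsg.pPrimeCore 2 ↥K).Normal).isSubnormal with h | h
    · exfalso
      have h1 : (Nat.card (Cfsg.pPrimeCore 2 ↥K)).Coprime 2 := Cfsg.Agent.H1.pPrimeCore_coprime 2
      have h2 : Cfsg.pPrimeCore 2 ↥K = ⊤ := h
      rw [h2, Nat.card_congr (Subgroup.topEquiv (G := K)).toEquiv] at h1
      have h3 := pComponent_dvd_card 2 hK
      exact (Nat.Prime.coprime_iff_not_dvd Nat.prime_two).1 h1.symm h3
    · exact h
  · intro h
    have hperf : Group.IsPerfect K := Subgroup.isPerfect_iff.2 (pComponent_commutator_eq 2 hK)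
    exact isQuasisimple_of_quotient_central hperf (Cfsg.pPrimeCore 2 ↥K) h
      (pComponent_quotient_isQuasisimple 2 hK)

end Cfsg.Agent.S1276
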