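import Mathlib
import Cfsg.Statements.S1278
import Cfsg.Agent.H2.PComponent3

set_option autoImplicit false
open Cfsg

namespace Cfsg.Agent.S1278

open Cfsg.Agent.H2

theorem oddCore_map {X : Type*} [Group X] [Finite X] (K : Subgroup X) (hK : K.IsSubnormal) :
    (Cfsg.oddCore ↥K).map K.subtype = Cfsg.pPrimeCore 2 X ⊓ K := by
  have : Cfsg.oddCore ↥K = (Cfsg.pPrimeCore 2 X).subgroupOf K :=
    pPrimeCore_eq_subgroupOf_of_isSubnormal 2 hK
  rw [this, Subgroup.subgroupOf_map_subtype]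

/-- Let K ≠ L be 2-components of the finite group X. Then ⁅K, L⁆ ≤ O(K) ⊓ O(L), and if K is quasisimple then ⁅K, L⁆ = 1. -/
theorem result {X : Type*} [Group X] [Finite X] (K L : Subgroup X) (hK : Cfsg.IsPComponent 2 K) (hL : Cfsg.IsPComponent 2 L) (hne : K ≠ L) : ⁅K, L⁆ ≤ ((Cfsg.oddCore ↥K).map K.subtype) ⊓ ((Cfsg.oddCore ↥L).map L.subtype) ∧ (Cfsg.IsQuasisimple ↥K → ⁅K, L⁆ = ⊥) := by
  have : Fact (Nat.Prime 2) := ⟨Nat.prime_two⟩
  have hLK : L ≤ Subgroup.normalizer (K : Set X) := pComponent_le_normalizer 2 hK hL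
  have hKL : K ≤ Subgroup.normalizer (L : Set X) := pComponent_le_normalizer 2 hL hK
  have h1 : ⁅K, L⁆ ≤ K := Subgroup.le_normalizer_iff_commutator_le_left.1 hLK
  have h2 : ⁅K, L⁆ ≤ L := Subgroup.le_normalizer_iff_commutator_le_right.1 hKL
  have h3 : ⁅K, L⁆ ≤ Cfsg.pPrimeCore 2 X := by
    rcases pComponent_le_or_commutator_le 2 hK hL.1 with h | h
    · exfalso
      -- K ≤ L forces K = L
      have hle : K.map (QuotientGroup.mk' (Cfsg.pPrimeCore 2 X)) ≤
          L.map (QuotientGroup.mk' (Cfsg.pPrimeCore 2 X)) := Subgroup.map_mono h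
      rcases IsQuasisimple.eq_top_or_le_center hL.2.1.2
        ((K.map (QuotientGroup.mk' (Cfsg.pPrimeCore 2 X))).subgroupOf
          (L.map (QuotientGroup.mk' (Cfsg.pPrimeCore 2 X)))) hK.2.1.1.subgroupOf with h1 | h1
      · rw [Subgroup.subgroupOf_eq_top] at h1
        exact hne (pComponent_unique 2 hK hL (le_antisymm hle h1))
      · have hab : ⁅K.map (QuotientGroup.mk' (Cfsg.pPrimeCore 2 X)),
            K.map (QuotientGroup.mk' (Cfsg.pPrimeCore 2 X))⁆ = ⊥ := by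
          rw [commutator_eq_bot_iff_forall_commute]
          intro a ha b hb
          have := Subgroup.mem_center_iff.1 (h1 (show (⟨a, hle ha⟩ :
            L.map (QuotientGroup.mk' (Cfsg.pPrimeCore 2 X))) ∈ _ from
            Subgroup.mem_subgroupOf.2 ha)) ⟨b, hle hb⟩
          exact (congrArg Subtype.val this).symm
        rw [quasisimple_commutator_eq hK.2.1.2] at hab
        exact quasisimple_ne_bot hK.2.1.2 hab
    · exact h
  have hmain : ⁅K, L⁆ ≤ ((Cfsg.oddCore ↥K).map K.subtype) ⊓ ((Cfsg.oddCore ↥L).map L.subtype) := by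
    rw [oddCore_map K hK.1, oddCore_map L hL.1]
    exact le_inf (le_inf h3 h1) (le_inf h3 h2)
  refine ⟨hmain, ?_⟩
  intro hqs
  -- O(K) is central in K
  have hcent : ⁅K, (Cfsg.oddCore ↥K).map K.subtype⁆ = ⊥ := by
    rcases IsQuasisimple.eq_top_or_le_center hqs (Cfsg.oddCore ↥K)
      (inferInstance : (Cfsg.pPrimeCore 2 ↥K).Normal).isSubnormal with h | h
    · exfalso
      have h1 : (Nat.card (Cfsg.pPrimeCore 2 ↥K)).Coprime 2 := Cfsg.Agent.H1.pPrimeCore_coprime 2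
      have h2 : Cfsg.pPrimeCore 2 ↥K = ⊤ := h
      rw [h2, Nat.card_congr (Subgroup.topEquiv (G := K)).toEquiv] at h1
      have h3 := pComponent_dvd_card 2 hK
      exact (Nat.Prime.coprime_iff_not_dvd Nat.prime_two).1 h1.symm h3
    · rw [commutator_eq_bot_iff_forall_commute]
      rintro a ha _ ⟨z, hz, rfl⟩
      have := Subgroup.mem_center_iff.1 (h hz) ⟨a, ha⟩
      exact congrArg Subtype.val this
  have e1 : ⁅⁅K, L⁆, K⁆ = ⊥ := by
    rw [eq_bot_iff]
    calc ⁅⁅K, L⁆, K⁆ ≤ ⁅(Cfsg.oddCore ↥K).map K.subtype, K⁆ :=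
          Subgroup.commutator_mono (hmain.trans inf_le_left) (le_refl K)
      _ = ⁅K, (Cfsg.oddCore ↥K).map K.subtype⁆ := Subgroup.commutator_comm _ _
      _ = ⊥ := hcent
  have e2 : ⁅⁅L, K⁆, K⁆ = ⊥ := by rw [Subgroup.commutator_comm L K]; exact e1
  have e3 : ⁅⁅K, K⁆, L⁆ = ⊥ := Subgroup.commutator_commutator_eq_bot_of_rotate e1 e2
  rwa [pComponent_commutator_eq 2 hK] at e3

end Cfsg.Agent.S1278
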