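import Mathlib
import Cfsg.Statements.S1281
import Cfsg.Agent.H2.CosetFixedPoint

set_option autoImplicit false
open Cfsg

namespace Cfsg.Agent.S1281

open Cfsg.Agent.H2

theorem mem_normalizer_of_conj_mem {G : Type*} [Group G] (M : Subgroup G) (b : G)
    (h1 : ∀ x ∈ M, b * x * b⁻¹ ∈ M) (h2 : ∀ x ∈ M, b⁻¹ * x * b⁻¹⁻¹ ∈ M) :
    b ∈ Subgroup.normalizer (M : Set G) := by
  rw [Subgroup.mem_normalizer_iff]
  intro x
  constructor
  · exact h1 x
  · intro hx
    have := h2 _ hx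
    have e : b⁻¹ * (b * x * b⁻¹) * b⁻¹⁻¹ = x := by group
    rwa [e] at this

/-- Let θ be a solvable A-signalizer functor on the finite group G (A a noncyclic elementary abelian p-subgroup) and N a normal subgroup of order prime to p. Then for all non-identity a, b ∈ A, the image of θ a in G / N meets the centralizer of the image of b inside the image of θ b. -/
theorem result {G : Type*} [Group G] [Finite G] (p : ℕ) [Fact p.Prime] (A : Subgroup G) (hA : Cfsg.IsElementaryAbelian p A) (hA2 : p ^ 2 ≤ Nat.card ↥A) (θ : G → Subgroup G) (hθ : Cfsg.IsSolvableSignalizerFunctor p A θ) (N : Subgroup G) [N.Normal] (hN : ¬ p ∣ Nat.card ↥N) (a b : G) (ha : a ∈ A) (ha1 : a ≠ 1) (hb : b ∈ A) (hb1 : b ≠ 1) : (θ a).map (QuotientGroup.mk' N) ⊓ Subgroup.centralizer {QuotientGroup.mk' N b} ≤ (θ b).map (QuotientGroup.mk' N) := by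
  obtain ⟨⟨-, -, hinv, hbal⟩, -⟩ := hθ
  rintro _ ⟨⟨x, hx, rfl⟩, hc⟩
  have hc : QuotientGroup.mk' N x ∈ Subgroup.centralizer {QuotientGroup.mk' N b} := hc
  rw [Subgroup.mem_centralizer_singleton_iff] at hc
  have hx' : x ∈ θ a := hx
  set M := θ a ⊓ N with hM
  have hbinv : b⁻¹ ∈ A := A.inv_mem hb
  have hbM : b ∈ Subgroup.normalizer (M : Set G) := by
    apply mem_normalizer_of_conj_mem
    · intro m hm
      exact ⟨hinv a ha ha1 b hb m hm.1, (inferInstance : N.Normal).conj_mem m hm.2 b⟩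
    · intro m hm
      exact ⟨hinv a ha ha1 b⁻¹ hbinv m hm.1, (inferInstance : N.Normal).conj_mem m hm.2 b⁻¹⟩
  have hbx : x⁻¹ * b * x * b⁻¹ ∈ M := by
    constructor
    · have : x⁻¹ * b * x * b⁻¹ = x⁻¹ * (b * x * b⁻¹) := by group
      rw [this]
      exact (θ a).mul_mem ((θ a).inv_mem hx') (hinv a ha ha1 b hb x hx')
    · show x⁻¹ * b * x * b⁻¹ ∈ N
      rw [← QuotientGroup.eq_one_iff]
      have : ((x⁻¹ * b * x * b⁻¹ : G) : G ⧸ N) =
          (QuotientGroup.mk' N x)⁻¹ * (QuotientGroup.mk' N b * QuotientGroup.mk' N x) *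
            (QuotientGroup.mk' N b)⁻¹ := by
        simp only [QuotientGroup.mk'_apply, QuotientGroup.mk_mul, QuotientGroup.mk_inv]
        group
      rw [this, ← hc]
      group
  have hBle : Subgroup.zpowers b ≤ cosetStab M x := by
    rw [Subgroup.zpowers_le]
    exact ⟨hbM, hbx⟩
  have hBp : IsPGroup p (Subgroup.zpowers b) := by
    rintro ⟨g, hg⟩
    refine ⟨1, ?_⟩
    apply Subtype.ext
    obtain ⟨k, rfl⟩ := Subgroup.mem_zpowers_iff.1 hg
    show (b ^ k) ^ p ^ 1 = 1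
    rw [pow_one, ← zpow_natCast, ← zpow_mul, mul_comm, zpow_mul, zpow_natCast, hA.2 b hb, one_zpow]
  have hMp : ¬ p ∣ Nat.card M := fun h => hN (h.trans (Subgroup.card_dvd_of_le inf_le_right))
  obtain ⟨m, hm, hfix⟩ := exists_mem_coset_fixed (Subgroup.zpowers b) M hBp hMp x hBle
  have hfixb := hfix b (Subgroup.mem_zpowers b)
  have hxm : x * m ∈ θ b := by
    apply hbal a ha ha1 b hb hb1
    refine ⟨(θ a).mul_mem hx' hm.1, ?_⟩
    show x * m ∈ Subgroup.centralizer {b}
    rw [Subgroup.mem_centralizer_singleton_iff]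
    symm
    calc b * (x * m) = (b * (x * m) * b⁻¹) * b := by group
      _ = x * m * b := by rw [hfixb]
  refine ⟨x * m, hxm, ?_⟩
  rw [map_mul]
  have : QuotientGroup.mk' N m = 1 := (QuotientGroup.eq_one_iff m).2 hm.2
  rw [this, mul_one]

end Cfsg.Agent.S1281
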