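import Mathlib
import Cfsg.Statements.S1286

set_option autoImplicit false
open Cfsg

namespace Cfsg.Agent.S1286

open Equiv

/-- the involution `(0 1)` -/
def ta : Perm (Fin 5) := swap 0 1
/-- the involution `(2 3)` -/
def tb : Perm (Fin 5) := swap 2 3
/-- the three-cycle `(2 3 4)` -/
def c₁ : Perm (Fin 5) := swap 2 3 * swap 3 4
/-- the three-cycle `(0 1 4)` -/
def c₂ : Perm (Fin 5) := swap 0 1 * swap 1 4

/-- the four-group generated by `(0 1)` and `(2 3)` -/
def fourA : Subgroup (Perm (Fin 5)) where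
  carrier := {g | g = 1 ∨ g = ta ∨ g = tb ∨ g = ta * tb}
  one_mem' := Or.inl rfl
  mul_mem' := by
    rintro x y (rfl | rfl | rfl | rfl) (rfl | rfl | rfl | rfl) <;>
      simp only [Set.mem_ofPred_eq] <;> decide
  inv_mem' := by
    rintro x (rfl | rfl | rfl | rfl) <;> simp only [Set.mem_ofPred_eq] <;> decide

theorem mem_fourA (g : Perm (Fin 5)) : g ∈ fourA ↔ g = 1 ∨ g = ta ∨ g = tb ∨ g = ta * tb :=
  Iff.rfl

/-- the functor -/
def theta (g : Perm (Fin 5)) : Subgroup (Perm (Fin 5)) :=
  if g = ta then Subgroup.zpowers c₁ else if g = tb then Subgroup.zpowers c₂ else ⊥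

theorem theta_ta : theta ta = Subgroup.zpowers c₁ := if_pos rfl
theorem theta_tb : theta tb = Subgroup.zpowers c₂ := by
  unfold theta
  rw [if_neg (by decide), if_pos rfl]
theorem theta_tab : theta (ta * tb) = ⊥ := by
  unfold theta
  rw [if_neg (by decide), if_neg (by decide)]

theorem orderOf_c₁ : orderOf c₁ = 3 := by
  have : Fact (Nat.Prime 3) := ⟨by norm_num⟩
  exact orderOf_eq_prime (by decide) (by decide)

theorem orderOf_c₂ : orderOf c₂ = 3 := by
  have : Fact (Nat.Prime 3) := ⟨by norm_num⟩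
  exact orderOf_eq_prime (by decide) (by decide)

theorem mem_zpowers_of_order_three {c g : Perm (Fin 5)} (hc : orderOf c = 3)
    (hg : g ∈ Subgroup.zpowers c) : g = 1 ∨ g = c ∨ g = c⁻¹ := by
  obtain ⟨k, rfl⟩ := Subgroup.mem_zpowers_iff.1 hg
  rw [← zpow_mod_orderOf, hc, Nat.cast_ofNat]
  have h1 : 0 ≤ k % 3 := Int.emod_nonneg _ (by norm_num)
  have h2 : k % 3 < 3 := Int.emod_lt_of_pos _ (by norm_num)
  have hc3 : c ^ 3 = 1 := hc ▸ pow_orderOf_eq_one c
  have h3 : k % 3 = 0 ∨ k % 3 = 1 ∨ k % 3 = 2 := by omega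
  rcases h3 with h | h | h
  · left; rw [h, zpow_zero]
  · right; left; rw [h, zpow_one]
  · right; right
    rw [h]
    rw [eq_inv_iff_mul_eq_one]
    have : c ^ (2 : ℤ) * c = c ^ 3 := by
      rw [zpow_ofNat]; rw [← pow_succ]
    rw [this, hc3]

theorem card_zpowers_three {c : Perm (Fin 5)} (hc : orderOf c = 3) :
    Nat.card (Subgroup.zpowers c) = 3 := by
  rw [Nat.card_zpowers, hc]

theorem mem_zpowers_three_iff {c g : Perm (Fin 5)} (hc : orderOf c = 3) :
    g ∈ Subgroup.zpowers c ↔ g = 1 ∨ g = c ∨ g = c⁻¹ := by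
  constructor
  · exact mem_zpowers_of_order_three hc
  · rintro (rfl | rfl | rfl)
    · exact Subgroup.one_mem _
    · exact Subgroup.mem_zpowers _
    · exact Subgroup.inv_mem _ (Subgroup.mem_zpowers _)

theorem theta_cases (a : Perm (Fin 5)) (ha : a ∈ fourA) (ha1 : a ≠ 1) (x : Perm (Fin 5))
    (hx : x ∈ theta a) :
    x = 1 ∨ (a = ta ∧ (x = c₁ ∨ x = c₁⁻¹)) ∨ (a = tb ∧ (x = c₂ ∨ x = c₂⁻¹)) := by
  rcases ha with rfl | rfl | rfl | rfl
  · exact absurd rfl ha1
  · rw [theta_ta, mem_zpowers_three_iff orderOf_c₁] at hx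
    rcases hx with h | h | h
    · exact Or.inl h
    · exact Or.inr (Or.inl ⟨rfl, Or.inl h⟩)
    · exact Or.inr (Or.inl ⟨rfl, Or.inr h⟩)
  · rw [theta_tb, mem_zpowers_three_iff orderOf_c₂] at hx
    rcases hx with h | h | h
    · exact Or.inl h
    · exact Or.inr (Or.inr ⟨rfl, Or.inl h⟩)
    · exact Or.inr (Or.inr ⟨rfl, Or.inr h⟩)
  · rw [theta_tab, Subgroup.mem_bot] at hx
    exact Or.inl hx

theorem comm_of_mem_centralizer {x b : Perm (Fin 5)}
    (h : x ∈ Subgroup.centralizer ({b} : Set (Perm (Fin 5)))) : b * x = x * b :=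
  Subgroup.mem_centralizer_iff.1 h b rfl

theorem mem_centralizer_of_comm {x b : Perm (Fin 5)} (h : b * x = x * b) :
    x ∈ Subgroup.centralizer ({b} : Set (Perm (Fin 5))) := by
  rw [Subgroup.mem_centralizer_iff]
  intro y hy
  rw [Set.mem_singleton_iff] at hy
  rw [hy]; exact h

theorem isSignalizerFunctor : Cfsg.IsSignalizerFunctor 2 fourA theta := by
  refine ⟨?_, ?_, ?_, ?_⟩
  · intro a ha ha1 x hx
    apply mem_centralizer_of_comm
    rcases theta_cases a ha ha1 x hx with rfl | ⟨rfl, rfl | rfl⟩ | ⟨rfl, rfl | rfl⟩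
    · simp
    all_goals decide
  · intro a ha ha1
    rcases ha with rfl | rfl | rfl | rfl
    · exact absurd rfl ha1
    · rw [theta_ta, card_zpowers_three orderOf_c₁]; norm_num
    · rw [theta_tb, card_zpowers_three orderOf_c₂]; norm_num
    · rw [theta_tab, Subgroup.card_bot]; norm_num
  · intro a ha ha1 b hb x hx
    rcases theta_cases a ha ha1 x hx with rfl | ⟨rfl, rfl | rfl⟩ | ⟨rfl, rfl | rfl⟩
    · simp
    all_goals
      first
      | rw [theta_ta, mem_zpowers_three_iff orderOf_c₁]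
      | rw [theta_tb, mem_zpowers_three_iff orderOf_c₂]
    all_goals
      rcases hb with rfl | rfl | rfl | rfl <;> decide
  · intro a ha ha1 b hb hb1 x hx
    obtain ⟨hxa, hxb⟩ := Subgroup.mem_inf.1 hx
    have hcomm := comm_of_mem_centralizer hxb
    rcases theta_cases a ha ha1 x hxa with rfl | ⟨rfl, rfl | rfl⟩ | ⟨rfl, rfl | rfl⟩
    · exact Subgroup.one_mem _
    all_goals
      rcases hb with rfl | rfl | rfl | rfl
      · exact absurd rfl hb1
      all_goals
        first
        | exact hxa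
        | exact absurd hcomm (by decide)

theorem isSolvable_theta (a : Perm (Fin 5)) : Group.IsSolvable ↥(theta a) := by
  by_cases h1 : a = ta
  · rw [h1, theta_ta]
    exact Group.isSolvable_of_comm (fun x y => mul_comm' x y)
  · by_cases h2 : a = tb
    · rw [h2, theta_tb]
      exact Group.isSolvable_of_comm (fun x y => mul_comm' x y)
    · have : theta a = ⊥ := by
        unfold theta
        rw [if_neg h1, if_neg h2]
      rw [this]
      exact Group.isSolvable_of_comm (fun x y => Subsingleton.elim _ _)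

/-- There exist a finite group X, an elementary abelian subgroup A of order 4 and a solvable A-signalizer functor θ on X for the prime 2 which is not complete. -/
theorem result : ∃ (X : Type) (_ : Group X) (_ : Finite X) (A : Subgroup X) (θ : X → Subgroup X), Cfsg.IsElementaryAbelian 2 A ∧ Nat.card ↥A = 4 ∧ Cfsg.IsSolvableSignalizerFunctor 2 A θ ∧ ¬ Cfsg.IsCompleteSignalizerFunctor 2 A θ := by
  classical
  refine ⟨Perm (Fin 5), inferInstance, inferInstance, fourA, theta, ?_, ?_, ?_, ?_⟩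
  · -- elementary abelian
    refine ⟨⟨⟨?_⟩⟩, ?_⟩
    · rintro ⟨x, hx⟩ ⟨y, hy⟩
      apply Subtype.ext
      show x * y = y * x
      rcases hx with rfl | rfl | rfl | rfl <;> rcases hy with rfl | rfl | rfl | rfl <;> decide
    · rintro x (rfl | rfl | rfl | rfl) <;> decide
  · -- order four
    have : (fourA : Set (Perm (Fin 5))) = {1, ta, tb, ta * tb} := by
      ext g
      simp [fourA]
    have h : Nat.card ↥fourA = Set.ncard (fourA : Set (Perm (Fin 5))) := rfl
    rw [h, this, Set.ncard_insert_of_notMem, Set.ncard_insert_of_notMem,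
      Set.ncard_insert_of_notMem, Set.ncard_singleton]
    · simp only [Set.mem_singleton_iff]; decide
    · simp only [Set.mem_insert_iff, Set.mem_singleton_iff]; decide
    · simp only [Set.mem_insert_iff, Set.mem_singleton_iff]; decide
  · exact ⟨isSignalizerFunctor, fun a _ _ => isSolvable_theta a⟩
  · rintro ⟨-, X, -, hodd, hX⟩
    have h1 : c₁ ∈ X := by
      have := hX ta (Or.inr (Or.inl rfl)) (by decide)
      rw [theta_ta] at this
      have h : c₁ ∈ X ⊓ Subgroup.centralizer ({ta} : Set (Perm (Fin 5))) := by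
        rw [this]; exact Subgroup.mem_zpowers _
      exact (Subgroup.mem_inf.1 h).1
    have h2 : c₂ ∈ X := by
      have := hX tb (Or.inr (Or.inr (Or.inl rfl))) (by decide)
      rw [theta_tb] at this
      have h : c₂ ∈ X ⊓ Subgroup.centralizer ({tb} : Set (Perm (Fin 5))) := by
        rw [this]; exact Subgroup.mem_zpowers _
      exact (Subgroup.mem_inf.1 h).1
    have hw : c₁ * c₂ * c₁ * c₂⁻¹ ∈ X :=
      X.mul_mem (X.mul_mem (X.mul_mem h1 h2) h1) (X.inv_mem h2)
    have hord : orderOf (c₁ * c₂ * c₁ * c₂⁻¹) = 2 := by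
      have : Fact (Nat.Prime 2) := ⟨by norm_num⟩
      exact orderOf_eq_prime (by decide) (by decide)
    apply hodd
    have h3 := orderOf_dvd_natCard (⟨c₁ * c₂ * c₁ * c₂⁻¹, hw⟩ : ↥X)
    rw [Subgroup.orderOf_mk, hord] at h3
    exact h3

end Cfsg.Agent.S1286
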