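import Mathlib
import Cfsg.Statements.S1292
import Cfsg.Agent.H2.LocalFStar2

set_option autoImplicit false
open Cfsg
open scoped commutatorElement

namespace Cfsg.Agent.S1292

open Cfsg.Agent.H2 in
/-- Let G be a finite group such that F*(C_G(t)) = O_2(C_G(t)) for every involution t. Then F*(N_G(T)) = O_2(N_G(T)) for every nontrivial 2-subgroup T of G. -/
theorem result {G : Type*} [Group G] [Finite G] (h : ∀ t : G, orderOf t = 2 → Cfsg.generalizedFittingSubgroup ↥(Subgroup.centralizer ({t} : Set G)) = Cfsg.pCore 2 ↥(Subgroup.centralizer ({t} : Set G))) (T : Subgroup G) (hT : IsPGroup 2 ↥T) (hT1 : T ≠ ⊥) : Cfsg.generalizedFittingSubgroup ↥(Subgroup.normalizer (T : Set G)) = Cfsg.pCore 2 ↥(Subgroup.normalizer (T : Set G)) := by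
  have : Fact (Nat.Prime 2) := ⟨Nat.prime_two⟩
  -- an involution in the centre of T
  have hTnt : Nontrivial T := (Subgroup.nontrivial_iff_ne_bot T).2 hT1
  have hZnt : Nontrivial (Subgroup.center T) := hT.center_nontrivial
  have hZ2 : IsPGroup 2 (Subgroup.center T) := hT.to_subgroup _
  obtain ⟨z, hz⟩ : ∃ z : Subgroup.center T, orderOf z = 2 := by
    obtain ⟨n, hn⟩ := IsPGroup.iff_card.1 hZ2
    have hn0 : n ≠ 0 := by
      rintro rfl
      have : Nat.card (Subgroup.center T) = 1 := by simpa using hn
      have := (Nat.card_eq_one_iff_unique.1 this).1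
      exact not_subsingleton _ this
    have hdvd : 2 ∣ Nat.card (Subgroup.center T) := by rw [hn]; exact dvd_pow_self 2 hn0
    exact exists_prime_orderOf_dvd_card' 2 hdvd
  set t : G := ((z : T) : G) with ht
  have hto : orderOf t = 2 := by
    rw [ht, Subgroup.orderOf_coe, Subgroup.orderOf_coe, hz]
  have htT : t ∈ T := (z : T).2
  have htc : ∀ x ∈ T, x * t = t * x := by
    intro x hx
    have := Subgroup.mem_center_iff.1 z.2 ⟨x, hx⟩
    exact congrArg Subtype.val this
  set H := Subgroup.centralizer ({t} : Set G) with hH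
  set N := Subgroup.normalizer (T : Set G) with hN
  have hQ : Subgroup.centralizer ((Cfsg.pCore 2 H : Subgroup H) : Set H) ≤ Cfsg.pCore 2 H := by
    have := centralizer_generalizedFittingSubgroup_le (G := H)
    rwa [h t hto] at this
  have hTH : T ≤ H := by
    intro x hx
    rw [hH, Subgroup.mem_centralizer_singleton_iff]
    exact htc x hx
  have hTN : T ≤ N := Subgroup.le_normalizer
  have hcentH : ∀ Y : Subgroup G, Y ≤ Subgroup.centralizer (T : Set G) → Y ≤ H := by
    intro Y hY y hy
    rw [hH, Subgroup.mem_centralizer_singleton_iff]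
    exact (Subgroup.mem_centralizer_iff.1 (hY hy) t htT).symm
  obtain ⟨hM1, hM2⟩ := local_of_subgroup 2 H hQ T (N ⊓ H) hT (le_inf hTN hTH) inf_le_right
    inf_le_left (inf_le_inf_right _ (Subgroup.centralizer_le_normalizer _))
  apply generalizedFittingSubgroup_eq_pCore_of_forall
  · -- no components
    rw [eq_bot_iff]
    apply layer_le_iff.2
    intro K hK
    exfalso
    have hK'N : K.map N.subtype ≤ N := map_subtype_le _ _
    have hKeq : (K.map N.subtype).subgroupOf N = K :=
      Subgroup.comap_map_eq_self_of_injective N.subtype_injective K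
    have hqs : Cfsg.IsQuasisimple (K.map N.subtype) :=
      (isQuasisimple_map_of_injective _ N.subtype_injective K).2 hK.2
    have hTn : (T.subgroupOf N).Normal := (Subgroup.normal_subgroupOf_iff_le_normalizer hTN).2 le_rfl
    have hTs : Group.IsSolvable (T.subgroupOf N) := by
      have : Group.IsNilpotent (T.subgroupOf N) :=
        (hT.comap_of_injective N.subtype N.subtype_injective).isNilpotent
      infer_instance
    have hKT : K.map N.subtype ≤ Subgroup.centralizer (T : Set G) := by
      rw [← Subgroup.commutator_eq_bot_iff_le_centralizer,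
        ← commutator_subgroupOf_eq_bot_iff hK'N hTN, hKeq]
      exact component_commutator_normal_solvable hK _ hTs
    have hKM : K.map N.subtype ≤ N ⊓ H := le_inf hK'N (hcentH _ hKT)
    have hcomp : Cfsg.IsComponent ((K.map N.subtype).subgroupOf (N ⊓ H)) := by
      refine ⟨?_, (isQuasisimple_subgroupOf hKM).2 hqs⟩
      apply isSubnormal_subgroupOf_of_le (inf_le_left : N ⊓ H ≤ N)
      rw [hKeq]; exact hK.1
    have := component_le_layer hcomp
    rw [hM1, le_bot_iff] at this
    exact quasisimple_ne_bot hcomp.2 this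
  · intro q hq hq2
    have := Fact.mk hq
    set Y := (Cfsg.pCore q N).map N.subtype with hYdef
    have hYq : IsPGroup q Y := (Cfsg.Agent.H1.pCore_isPGroup q).map _
    have hYN : Y ≤ N := map_subtype_le _ _
    have hNY : N ≤ Subgroup.normalizer (Y : Set G) := le_normalizer_map_subtype_of_normal N _
    have hYT : Y ≤ Subgroup.centralizer (T : Set G) := by
      rw [← Subgroup.commutator_eq_bot_iff_le_centralizer]
      apply commutator_eq_bot_of_disjoint hYN (hTN.trans hNY)
      exact (IsPGroup.disjoint_of_ne q 2 hq2 Y T hYq hT).eq_bot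
    have hYM : Y ≤ N ⊓ H := le_inf hYN (hcentH _ hYT)
    have hYn : (Y.subgroupOf (N ⊓ H)).Normal :=
      (Subgroup.normal_subgroupOf_iff_le_normalizer hYM).2 (inf_le_left.trans hNY)
    have hYq' : IsPGroup q (Y.subgroupOf (N ⊓ H)) :=
      hYq.comap_of_injective _ (Subgroup.subtype_injective _)
    have h3 : Y.subgroupOf (N ⊓ H) ≤ Cfsg.pCore q (N ⊓ H : Subgroup G) :=
      Cfsg.Agent.H1.le_pCore hYn hYq'
    rw [hM2 q hq hq2, le_bot_iff, Subgroup.subgroupOf_eq_bot, disjoint_iff,
      inf_eq_left.2 hYM] at h3
    rw [hYdef] at h3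
    exact (Subgroup.map_eq_bot_iff_of_injective _ N.subtype_injective).1 h3

end Cfsg.Agent.S1292
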