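import Mathlib
import Cfsg.Statements.S1293
import Cfsg.Agent.H2.LayerQuotient
import Cfsg.Agent.H2.CosetFixedPoint
import Cfsg.Agent.S1327
import Cfsg.Agent.S1266

set_option autoImplicit false
open Cfsg
open scoped commutatorElement

namespace Cfsg.Agent.S1293

open Cfsg.Agent.H2

theorem normalizer_le_normalizer_centralizer {Z : Type*} [Group Z] (A : Subgroup Z) :
    Subgroup.normalizer (A : Set Z) ≤ Subgroup.normalizer ((Subgroup.centralizer (A : Set Z) : Subgroup Z) : Set Z) := by
  have key : ∀ g ∈ Subgroup.normalizer (A : Set Z), ∀ c ∈ Subgroup.centralizer (A : Set Z),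
      g * c * g⁻¹ ∈ Subgroup.centralizer (A : Set Z) := by
    intro g hg c hc
    rw [Subgroup.mem_centralizer_iff]
    intro a ha
    have ha' : g⁻¹ * a * g⁻¹⁻¹ ∈ A :=
      (Subgroup.mem_normalizer_iff.1 (Subgroup.inv_mem _ hg) a).1 ha
    have h1 := Subgroup.mem_centralizer_iff.1 hc _ ha'
    calc a * (g * c * g⁻¹) = g * ((g⁻¹ * a * g⁻¹⁻¹) * c) * g⁻¹ := by group
      _ = g * (c * (g⁻¹ * a * g⁻¹⁻¹)) * g⁻¹ := by rw [h1]
      _ = g * c * g⁻¹ * a := by group
  intro g hg
  rw [Subgroup.mem_normalizer_iff]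
  intro c
  constructor
  · exact key g hg c
  · intro h
    have := key g⁻¹ (Subgroup.inv_mem _ hg) _ h
    have e : g⁻¹ * (g * c * g⁻¹) * g⁻¹⁻¹ = c := by group
    rwa [e] at this

section

variable {G : Type*} [Group G] [Finite G] (p : ℕ) [Fact p.Prime]

/-- the key step: a subgroup of the image of `N_G(P)` in `G / O_{p'}(G)` generated by `p'`-elements
and centralizing the normal `p`-subgroups of that image is trivial, when `L_{p'}(G) = 1` -/
theorem key (hL : Cfsg.pLayer p G = ⊥) (P : Subgroup G) (hP : IsPGroup p P)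
    (Ybar : Subgroup (G ⧸ Cfsg.pPrimeCore p G))
    (hY : Cfsg.pResidual p Ybar = ⊤)
    (hYc : ∀ R : Subgroup (G ⧸ Cfsg.pPrimeCore p G),
      R ≤ (Subgroup.normalizer (P : Set G)).map (QuotientGroup.mk' (Cfsg.pPrimeCore p G)) →
      IsPGroup p R →
      (Subgroup.normalizer (P : Set G)).map (QuotientGroup.mk' (Cfsg.pPrimeCore p G)) ≤
        Subgroup.normalizer (R : Set (G ⧸ Cfsg.pPrimeCore p G)) →
      Ybar ≤ Subgroup.centralizer (R : Set (G ⧸ Cfsg.pPrimeCore p G))) : Ybar = ⊥ := by
  have hQ := (Cfsg.Agent.S1327.centralizer_pCore_le_iff (X := G) p).2 hL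
  have hOc : (Nat.card (Cfsg.pPrimeCore p G)).Coprime p := Cfsg.Agent.H1.pPrimeCore_coprime p
  apply eq_bot_of_centralizes_normal_pSubgroups p hQ
    (P.map (QuotientGroup.mk' (Cfsg.pPrimeCore p G)))
    ((Subgroup.normalizer (P : Set G)).map (QuotientGroup.mk' (Cfsg.pPrimeCore p G))) Ybar
    (hP.map _) (Subgroup.map_mono Subgroup.le_normalizer) (Subgroup.le_normalizer_map _) ?_ hY hYc
  -- centralizer of P̄ lies in the image of N
  intro xbar hx
  obtain ⟨x, rfl⟩ := QuotientGroup.mk'_surjective _ xbar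
  obtain ⟨m, hm, hxm⟩ := Cfsg.Agent.S1327.exists_lift_centralizer p (Cfsg.pPrimeCore p G) hOc P hP x hx
  refine ⟨x * m, Subgroup.centralizer_le_normalizer _ hxm, ?_⟩
  have h3 : QuotientGroup.mk' (Cfsg.pPrimeCore p G) m = 1 := (QuotientGroup.eq_one_iff m).2 hm
  rw [map_mul, h3, mul_one]


/-- Claim A: the image of `O_{p'}(N_G(P))` in `G` lies in `O_{p'}(G)`. -/
theorem claimA (hL : Cfsg.pLayer p G = ⊥) (P : Subgroup G) (hP : IsPGroup p P) :
    (Cfsg.pPrimeCore p ↥(Subgroup.normalizer (P : Set G))).map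
      (Subgroup.normalizer (P : Set G)).subtype ≤ Cfsg.pPrimeCore p G := by
  have hDc : (Nat.card ((Cfsg.pPrimeCore p ↥(Subgroup.normalizer (P : Set G))).map
      (Subgroup.normalizer (P : Set G)).subtype)).Coprime p :=
    card_map_coprime _ _ (Cfsg.Agent.H1.pPrimeCore_coprime p)
  have hDbc : (Nat.card (((Cfsg.pPrimeCore p ↥(Subgroup.normalizer (P : Set G))).map
      (Subgroup.normalizer (P : Set G)).subtype).map
        (QuotientGroup.mk' (Cfsg.pPrimeCore p G)))).Coprime p :=
    card_map_coprime _ _ hDc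
  have hDN : Subgroup.normalizer (P : Set G) ≤ Subgroup.normalizer
      (((Cfsg.pPrimeCore p ↥(Subgroup.normalizer (P : Set G))).map
      (Subgroup.normalizer (P : Set G)).subtype : Subgroup G) : Set G) :=
    le_normalizer_map_subtype_of_normal _ _
  have hbot := key p hL P hP
    (((Cfsg.pPrimeCore p ↥(Subgroup.normalizer (P : Set G))).map
      (Subgroup.normalizer (P : Set G)).subtype).map (QuotientGroup.mk' (Cfsg.pPrimeCore p G)))
    (Cfsg.Agent.S1266.pResidual_eq_top_of_coprime p _ hDbc) ?_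
  · rw [Subgroup.map_eq_bot_iff, QuotientGroup.ker_mk'] at hbot
    exact hbot
  · intro R hRN hR hNR
    rw [← Subgroup.commutator_eq_bot_iff_le_centralizer]
    apply commutator_eq_bot_of_disjoint
    · exact (Subgroup.map_mono (map_subtype_le _ _)).trans hNR
    · exact hRN.trans ((Subgroup.map_mono hDN).trans (Subgroup.le_normalizer_map _))
    · rw [eq_bot_iff]
      intro k hk
      rw [Subgroup.mem_bot]
      apply eq_one_of_isPGroup_of_coprime hR hk.2
      have h1 : orderOf k ∣ Nat.card (((Cfsg.pPrimeCore p ↥(Subgroup.normalizer (P : Set G))).map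
        (Subgroup.normalizer (P : Set G)).subtype).map
          (QuotientGroup.mk' (Cfsg.pPrimeCore p G))) := by
        have := orderOf_dvd_natCard (⟨k, hk.1⟩ : ((Cfsg.pPrimeCore p ↥(Subgroup.normalizer (P : Set G))).map
          (Subgroup.normalizer (P : Set G)).subtype).map
            (QuotientGroup.mk' (Cfsg.pPrimeCore p G)))
        rwa [Subgroup.orderOf_mk] at this
      exact Nat.Coprime.coprime_dvd_left h1 hDbc


/-- Claim B: `N_G(P)` has no `p`-components. -/
theorem claimB (hL : Cfsg.pLayer p G = ⊥) (P : Subgroup G) (hP : IsPGroup p P)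
    (K : Subgroup ↥(Subgroup.normalizer (P : Set G))) (hK : Cfsg.IsPComponent p K) : False := by
  have hperfK : ⁅K, K⁆ = K := pComponent_commutator_eq p hK
  have hperfY : ⁅(K.map (Subgroup.normalizer (P : Set G)).subtype).map
      (QuotientGroup.mk' (Cfsg.pPrimeCore p G)),
      (K.map (Subgroup.normalizer (P : Set G)).subtype).map
      (QuotientGroup.mk' (Cfsg.pPrimeCore p G))⁆ =
      (K.map (Subgroup.normalizer (P : Set G)).subtype).map
      (QuotientGroup.mk' (Cfsg.pPrimeCore p G)) := by
    rw [← Subgroup.map_commutator, ← Subgroup.map_commutator, hperfK]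
  have hY : Cfsg.pResidual p ((K.map (Subgroup.normalizer (P : Set G)).subtype).map
      (QuotientGroup.mk' (Cfsg.pPrimeCore p G))) = ⊤ := by
    have : Group.IsPerfect ((K.map (Subgroup.normalizer (P : Set G)).subtype).map
      (QuotientGroup.mk' (Cfsg.pPrimeCore p G))) := Subgroup.isPerfect_iff.2 hperfY
    exact pResidual_eq_top_of_isPerfect p _
  have hbot := key p hL P hP
    ((K.map (Subgroup.normalizer (P : Set G)).subtype).map
      (QuotientGroup.mk' (Cfsg.pPrimeCore p G))) hY ?_
  · rw [Subgroup.map_eq_bot_iff, QuotientGroup.ker_mk'] at hbot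
    have hc1 : (Nat.card (K.map (Subgroup.normalizer (P : Set G)).subtype)).Coprime p :=
      Nat.Coprime.coprime_dvd_left (Subgroup.card_dvd_of_le hbot)
        (Cfsg.Agent.H1.pPrimeCore_coprime p)
    have hc2 : Nat.card (K.map (Subgroup.normalizer (P : Set G)).subtype) = Nat.card K :=
      Subgroup.card_map_of_injective (Subgroup.subtype_injective _)
    rw [hc2] at hc1
    have hdvd := pComponent_dvd_card p hK
    have hp : p.Prime := Fact.out
    exact hp.one_lt.ne' (Nat.dvd_one.1 (hc1 ▸ Nat.dvd_gcd hdvd dvd_rfl))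
  · intro R hRN hR hNR
    -- the preimage of `R` in `N`
    have hNR' : Subgroup.normalizer (P : Set G) ≤ Subgroup.normalizer
        ((R.comap (QuotientGroup.mk' (Cfsg.pPrimeCore p G)) ⊓ Subgroup.normalizer (P : Set G) :
          Subgroup G) : Set G) := by
      refine le_trans ?_ (normalizer_inf_le_normalizer_inf _ _)
      refine le_inf ?_ Subgroup.le_normalizer
      refine le_trans ?_ (Subgroup.le_normalizer_comap _)
      intro n hn
      exact hNR (Subgroup.mem_map_of_mem _ hn)
    have hRn : ((R.comap (QuotientGroup.mk' (Cfsg.pPrimeCore p G)) ⊓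
        Subgroup.normalizer (P : Set G)).subgroupOf (Subgroup.normalizer (P : Set G))).Normal :=
      (Subgroup.normal_subgroupOf_iff_le_normalizer inf_le_right).2 hNR'
    have hRmap : (R.comap (QuotientGroup.mk' (Cfsg.pPrimeCore p G)) ⊓
        Subgroup.normalizer (P : Set G)).map (QuotientGroup.mk' (Cfsg.pPrimeCore p G)) = R := by
      apply le_antisymm
      · rintro _ ⟨x, hx, rfl⟩
        exact hx.1
      · intro r hr
        obtain ⟨n, hn, rfl⟩ := hRN hr
        exact ⟨n, ⟨hr, hn⟩, rfl⟩
    rcases pComponent_le_or_commutator_le p hK hRn.isSubnormal with h | h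
    · -- the image of K is a p-group generated by p'-elements
      have hle : (K.map (Subgroup.normalizer (P : Set G)).subtype).map
          (QuotientGroup.mk' (Cfsg.pPrimeCore p G)) ≤ R := by
        rw [← hRmap]
        apply Subgroup.map_mono
        rintro _ ⟨k, hk, rfl⟩
        exact h hk
      have : (K.map (Subgroup.normalizer (P : Set G)).subtype).map
          (QuotientGroup.mk' (Cfsg.pPrimeCore p G)) ≤ ⊥ := by
        apply le_of_pResidual_eq_top p _ _ hY
        intro k hk hc
        rw [Subgroup.mem_bot]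
        exact eq_one_of_isPGroup_of_coprime hR (hle hk) hc
      exact this.trans bot_le
    · rw [← Subgroup.commutator_eq_bot_iff_le_centralizer, eq_bot_iff]
      have h1 : ⁅K.map (Subgroup.normalizer (P : Set G)).subtype,
          R.comap (QuotientGroup.mk' (Cfsg.pPrimeCore p G)) ⊓ Subgroup.normalizer (P : Set G)⁆ ≤
          Cfsg.pPrimeCore p G := by
        have h2 := Subgroup.map_mono (f := (Subgroup.normalizer (P : Set G)).subtype) h
        rw [Subgroup.map_commutator, Subgroup.subgroupOf_map_subtype, inf_assoc, inf_idem] at h2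
        exact h2.trans (claimA p hL P hP)
      have h3 := Subgroup.map_mono (f := QuotientGroup.mk' (Cfsg.pPrimeCore p G)) h1
      rw [Subgroup.map_commutator, hRmap] at h3
      refine h3.trans ?_
      rintro _ ⟨x, hx, rfl⟩
      rw [Subgroup.mem_bot]
      exact (QuotientGroup.eq_one_iff x).2 hx

end

/-- Let G be finite with L_{p'}(G) = 1, and H = N_G(P) for a nontrivial p-subgroup P. Then L_{p'}(H) = 1 and O_{p'}(H) ≤ O_{p'}(G). -/
theorem result {G : Type*} [Group G] [Finite G] (p : ℕ) [Fact p.Prime] (hL : Cfsg.pLayer p G = ⊥) (P : Subgroup G) (hP : IsPGroup p ↥P) (hP1 : P ≠ ⊥) : Cfsg.pLayer p ↥(Subgroup.normalizer (P : Set G)) = ⊥ ∧ (Cfsg.pPrimeCore p ↥(Subgroup.normalizer (P : Set G))).map (Subgroup.normalizer (P : Set G)).subtype ≤ Cfsg.pPrimeCore p G := by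
  refine ⟨?_, claimA p hL P hP⟩
  rw [eq_bot_iff]
  apply sSup_le
  intro K hK
  exact (claimB p hL P hP K hK).elim

end Cfsg.Agent.S1293
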