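import Cfsg.Statements.S1297
import Mathlib
import Cfsg.Agent.Lib.Helper4.BalLocal
import Cfsg.Agent.Lib.Helper4.BalRed

set_option autoImplicit false
open Cfsg
open scoped commutatorElement

namespace Cfsg.Agent.S1297


theorem isLocallyKBalanced_of_isLocallyBalanced {L : Type*} [Group L]
    (hL : Cfsg.IsLocallyBalanced L) : Cfsg.IsLocallyKBalanced 2 1 L := by
  intro H hH A' hA'el hA'card
  obtain ⟨a, haA, ha1⟩ : ∃ a ∈ A', a ≠ 1 := by
    by_contra hcon
    push Not at hcon
    have : A' = ⊥ := by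
      rw [eq_bot_iff]
      intro a ha
      rw [Subgroup.mem_bot]
      exact hcon a ha
    rw [this, Subgroup.card_bot] at hA'card
    norm_num at hA'card
  have ha2 : orderOf a = 2 := orderOf_eq_prime (hA'el.2 a haA) ha1
  rw [eq_bot_iff, ← hL H hH a ha2]
  unfold Cfsg.signalizerDelta
  exact iInf_le (fun a : {a : ↥H // a ∈ A' ∧ a ≠ 1} => Cfsg.centralizerPPrimeCore 2 (a : ↥H))
    ⟨a, haA, ha1⟩

theorem half {G : Type*} [Group G] [Finite G] (h : ∀ x : G, orderOf x = 2 → ∀ K : Subgroup (↥(Subgroup.centralizer ({x} : Set G)) ⧸ Cfsg.oddCore ↥(Subgroup.centralizer ({x} : Set G))), Cfsg.IsComponent K → Cfsg.IsLocallyBalanced (↥K ⧸ Subgroup.center ↥K))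
    (x y : G) (hx : orderOf x = 2) (hy : orderOf y = 2) (hxy : x * y = y * x) :
    Cfsg.centralizerPPrimeCore 2 x ⊓ Subgroup.centralizer {y} ≤ Cfsg.centralizerPPrimeCore 2 y := by
  have hx2 : x ^ 2 = 1 := by rw [← hx]; exact pow_orderOf_eq_one x
  have hmem : ∀ a ∈ Subgroup.zpowers x, a = 1 ∨ a = x := by
    intro a ha
    obtain ⟨i, rfl⟩ := Subgroup.mem_zpowers_iff.mp ha
    rcases Int.emod_two_eq_zero_or_one i with h0 | h1
    · left
      have : i = 2 * (i / 2) := by omega
      rw [this, zpow_mul, zpow_ofNat, hx2, one_zpow]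
    · right
      have : i = 2 * (i / 2) + 1 := by omega
      rw [this, zpow_add, zpow_mul, zpow_ofNat, hx2, one_zpow, one_mul, zpow_one]
  have hA : Cfsg.IsElementaryAbelian 2 (Subgroup.zpowers x) := by
    refine ⟨inferInstance, ?_⟩
    intro a ha
    rcases hmem a ha with rfl | rfl
    · exact one_pow 2
    · exact hx2
  have hAcard : Nat.card ↥(Subgroup.zpowers x) = 2 ^ 1 := by
    rw [Nat.card_zpowers, hx, pow_one]
  apply Cfsg.Agent.Lib.Helper4.BalRed.le_centralizerPPrimeCore_of_quotient y (Subgroup.zpowers x) _ hA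
    ?_ inf_le_right
  · intro a ha ha1
    rcases hmem a ha with rfl | rfl
    · exact absurd rfl ha1
    · exact inf_le_left
  · intro Ab hAbel hAbcard
    exact Cfsg.Agent.Lib.Helper4.BalLocal.signalizerDelta_eq_bot_of_quotient
      (Cfsg.Agent.H2.pPrimeCore_quotient_eq_bot 2) 1 le_rfl Ab hAbel (hAbcard.trans hAcard)
      (fun K hK => isLocallyKBalanced_of_isLocallyBalanced (h y hy K hK))
  · rw [Subgroup.zpowers_le, Subgroup.mem_centralizer_iff]
    intro z hz
    rw [Set.mem_singleton_iff] at hz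
    subst hz
    exact hxy.symm

/-- Let G be finite. Suppose that for every involution x, writing C = C_G(x), every component K of C / O(C) has K / Z(K) locally balanced. Then G is balanced. -/
theorem result {G : Type*} [Group G] [Finite G] (h : ∀ x : G, orderOf x = 2 → ∀ K : Subgroup (↥(Subgroup.centralizer ({x} : Set G)) ⧸ Cfsg.oddCore ↥(Subgroup.centralizer ({x} : Set G))), Cfsg.IsComponent K → Cfsg.IsLocallyBalanced (↥K ⧸ Subgroup.center ↥K)) : Cfsg.IsBalanced G := by
  intro x y hx hy hxy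
  apply le_antisymm
  · apply le_inf (half h x y hx hy hxy)
    exact inf_le_left.trans (Cfsg.Agent.Lib.Helper4.BalCore.centralizerPPrimeCore_le x)
  · apply le_inf (half h y x hy hx hxy.symm)
    exact inf_le_left.trans (Cfsg.Agent.Lib.Helper4.BalCore.centralizerPPrimeCore_le y)

end Cfsg.Agent.S1297
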