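import Cfsg.Statements.S1299
import Mathlib
import Cfsg.Agent.Lib.Helper4.BalFunctor
import Cfsg.Agent.Lib.Helper4.SigX
import Cfsg.Agent.H1.Card

set_option autoImplicit false
open Cfsg
open scoped commutatorElement

namespace Cfsg.Agent.S1299


open Cfsg.Agent.Lib.Helper4.BalFunctor Cfsg.Agent.Lib.Helper4.BalCore Cfsg.Agent.Lib.Helper4.BalLocal
open Cfsg.Agent.Lib.Helper4.SigX Cfsg.Agent.Lib.Helper7 Cfsg.Agent.Lib.Lead.Conj

theorem exists_le_card_eq {G : Type*} [Group G] [Finite G] {p : ℕ} [Fact p.Prime] (k : ℕ)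
    (B : Subgroup G) (hB : Cfsg.IsElementaryAbelian p B) (hBk : p ^ k ≤ Nat.card ↥B) :
    ∃ B₀ : Subgroup G, B₀ ≤ B ∧ Nat.card ↥B₀ = p ^ k := by
  have hpp : p.Prime := Fact.out
  have hBp : IsPGroup p ↥B := by
    intro g
    refine ⟨1, ?_⟩
    rw [pow_one]
    apply Subtype.ext
    rw [Subgroup.coe_pow]
    exact hB.2 _ g.2
  obtain ⟨m, hm⟩ := IsPGroup.iff_card.mp hBp
  have hkm : k ≤ m := by
    rw [hm] at hBk
    exact (Nat.pow_le_pow_iff_right hpp.one_lt).mp hBk
  have hdvd : p ^ k ∣ Nat.card ↥B := by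
    rw [hm]; exact pow_dvd_pow p hkm
  obtain ⟨K, hK⟩ := Sylow.exists_subgroup_card_pow_prime p hdvd
  refine ⟨K.map B.subtype, Subgroup.map_subtype_le K, ?_⟩
  rw [Subgroup.card_map_of_injective B.subtype_injective, hK]

section
variable {G : Type*} [Group G] [Finite G] {p k : ℕ} [hp : Fact p.Prime]

/-- the functor of the statement -/
def theta (p k : ℕ) (A : Subgroup G) (a : G) : Subgroup G :=
  ⨆ D : {D : Subgroup G // D ≤ A ∧ Nat.card ↥D = p ^ k},
    Cfsg.signalizerDelta p (D : Subgroup G) ⊓ Subgroup.centralizer {a}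

variable (hk : 1 ≤ k) (hbal : Cfsg.IsKBalanced p k G) (A : Subgroup G)
  (hA : Cfsg.IsElementaryAbelian p A)

include hbal hA in
theorem kbal {D : Subgroup G} (hDA : D ≤ A) (hD : Nat.card ↥D = p ^ k) {c : G} (hcA : c ∈ A)
    (hc1 : c ≠ 1) :
    Cfsg.signalizerDelta p D ⊓ Subgroup.centralizer {c} ≤ Cfsg.centralizerPPrimeCore p c := by
  apply hbal D (isElementaryAbelian_of_le hA hDA) hD c (orderOf_eq_of_mem hA hcA hc1)
  intro a ha
  exact comm_of_isElementaryAbelian hA a (hDA ha) c hcA

include hbal hA in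
theorem theta_le_core {a : G} (haA : a ∈ A) (ha1 : a ≠ 1) :
    theta p k A a ≤ Cfsg.centralizerPPrimeCore p a := by
  unfold theta
  apply iSup_le
  rintro ⟨D, hDA, hD⟩
  exact kbal hbal A hA hDA hD haA ha1

include hA in
theorem le_normalizer_piece {D : Subgroup G} (hDA : D ≤ A) {a : G} (haA : a ∈ A) :
    A ≤ Subgroup.normalizer ((Cfsg.signalizerDelta p D ⊓ Subgroup.centralizer {a} : Subgroup G) :
      Set G) := by
  have hcomm := comm_of_isElementaryAbelian hA
  apply le_normalizer_inf
  · exact Cfsg.Agent.Lib.Helper4.BalWeak.le_normalizer_signalizerDelta A D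
      (fun x hx d hd => hcomm x hx d (hDA hd))
  · intro b hb
    apply mem_normalizer_of_conj_mem
    intro r hr
    rw [Subgroup.mem_centralizer_iff] at hr ⊢
    intro y hy
    rw [Set.mem_singleton_iff] at hy
    subst hy
    have h1 : y * r = r * y := hr y (Set.mem_singleton y)
    have h2 : b * y = y * b := hcomm b hb y haA
    have h3 : b⁻¹ * y = y * b⁻¹ := by
      rw [inv_mul_eq_iff_eq_mul, ← mul_assoc, h2, mul_inv_cancel_right]
    calc y * (b * r * b⁻¹) = (y * b) * r * b⁻¹ := by group
      _ = (b * y) * r * b⁻¹ := by rw [h2]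
      _ = b * (y * r) * b⁻¹ := by group
      _ = b * (r * y) * b⁻¹ := by rw [h1]
      _ = b * r * (y * b⁻¹) := by group
      _ = b * r * (b⁻¹ * y) := by rw [h3]
      _ = b * r * b⁻¹ * y := by group

include hA in
theorem le_normalizer_theta {a : G} (haA : a ∈ A) :
    A ≤ Subgroup.normalizer ((theta p k A a : Subgroup G) : Set G) := by
  intro b hb
  apply mem_normalizer_of_conj_mem
  intro r hr
  have hmap : (theta p k A a).map (MulAut.conj b).toMonoidHom ≤ theta p k A a := by
    unfold theta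
    rw [Subgroup.map_iSup]
    apply iSup_le
    rintro ⟨D, hDA, hD⟩
    refine le_trans ?_ (le_iSup (fun D : {D : Subgroup G // D ≤ A ∧ Nat.card ↥D = p ^ k} =>
      Cfsg.signalizerDelta p (D : Subgroup G) ⊓ Subgroup.centralizer {a}) ⟨D, hDA, hD⟩)
    rintro _ ⟨x, hx, rfl⟩
    exact (Subgroup.mem_normalizer_iff.mp (le_normalizer_piece A hA hDA haA hb) x).mp hx
  exact hmap ⟨r, hr, rfl⟩

include hbal hA in
/-- `C_{Δ(D)}(E) ≤ Δ(E)` -/
theorem inf_centralizer_le_delta {D : Subgroup G} (hDA : D ≤ A) (hD : Nat.card ↥D = p ^ k)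
    {E : Subgroup G} (hEA : E ≤ A) :
    Cfsg.signalizerDelta p D ⊓ Subgroup.centralizer (E : Set G) ≤ Cfsg.signalizerDelta p E := by
  conv_rhs => unfold Cfsg.signalizerDelta
  apply le_iInf
  rintro ⟨e, he, he1⟩
  refine le_trans ?_ (kbal hbal A hA hDA hD (hEA he) he1)
  apply inf_le_inf_left
  apply Subgroup.centralizer_le
  intro y hy
  rw [Set.mem_singleton_iff] at hy
  subst hy
  exact he

end

/-- Let G be finite and k-balanced for the prime p (k ≥ 1), A an elementary abelian p-subgroup of order at least p^(k+2) such that O_{p'}(C_G(a)) is solvable for every non-identity a ∈ A. For a ∈ A put θ a = the subgroup generated by the Δ_G(D) ∩ C_G(a) over the subgroups D ≤ A of order p^k. Then θ is an A-signalizer functor. -/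
theorem result {G : Type*} [Group G] [Finite G] (p k : ℕ) [Fact p.Prime] (hk : 1 ≤ k) (hbal : Cfsg.IsKBalanced p k G) (A : Subgroup G) (hA : Cfsg.IsElementaryAbelian p A) (hAk : p ^ (k + 2) ≤ Nat.card ↥A) (hsolv : ∀ a ∈ A, a ≠ 1 → Group.IsSolvable ↥(Cfsg.centralizerPPrimeCore p a)) : Cfsg.IsSignalizerFunctor p A (fun a => ⨆ D : {D : Subgroup G // D ≤ A ∧ Nat.card ↥D = p ^ k}, Cfsg.signalizerDelta p (D : Subgroup G) ⊓ Subgroup.centralizer {a}) := by
  have hpp : p.Prime := Fact.out
  have hcomm := comm_of_isElementaryAbelian hA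
  have hθ : ∀ a : G, (⨆ D : {D : Subgroup G // D ≤ A ∧ Nat.card ↥D = p ^ k},
      Cfsg.signalizerDelta p (D : Subgroup G) ⊓ Subgroup.centralizer {a}) = theta p k A a :=
    fun a => rfl
  simp only [hθ]
  have hAp : IsPGroup p ↥A := by
    intro g
    refine ⟨1, ?_⟩
    rw [pow_one]
    apply Subtype.ext
    rw [Subgroup.coe_pow]
    exact hA.2 _ g.2
  obtain ⟨m, hm⟩ := IsPGroup.iff_card.mp hAp
  have hcopθ : ∀ a ∈ A, a ≠ 1 → (Nat.card ↥(theta p k A a)).Coprime p := by
    intro a haA ha1
    exact Nat.Coprime.coprime_dvd_left (Subgroup.card_dvd_of_le (theta_le_core hbal A hA haA ha1))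
      (centralizerPPrimeCore_coprime a)
  -- cocyclic subgroups are large
  have hEcard : ∀ E ∈ cocyclic A, p ^ (k + 1) ≤ Nat.card ↥E := by
    intro E hE
    have h1 := card_le_of_cocyclic hA hE
    have h2 : p ^ (k + 1) * p ≤ Nat.card ↥E * p := by
      rw [← pow_succ]; exact hAk.trans h1
    exact Nat.le_of_mul_le_mul_right h2 hpp.pos
  have hE1 : ∀ E ∈ cocyclic A, ∃ e ∈ E, e ≠ 1 := fun E hE =>
    exists_ne_one_of_le_card (k + 1) (by omega) (hEcard E hE)
  have hED : ∀ E ∈ cocyclic A, ∃ D : Subgroup G, D ≤ E ∧ Nat.card ↥D = p ^ k := by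
    intro E hE
    exact exists_le_card_eq k E (isElementaryAbelian_of_le hA hE.1)
      ((Nat.pow_le_pow_right hpp.pos (by omega)).trans (hEcard E hE))
  refine ⟨?_, ?_, ?_, ?_⟩
  · intro a haA ha1
    unfold theta
    exact iSup_le (fun D => inf_le_right)
  · intro a haA ha1 hdvd
    have := hcopθ a haA ha1
    rw [Nat.coprime_comm, Nat.Prime.coprime_iff_not_dvd hpp] at this
    exact this hdvd
  · intro a haA ha1 b hbA x hx
    exact (Subgroup.mem_normalizer_iff.mp (le_normalizer_theta A hA haA hbA) x).mp hx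
  · intro a haA ha1 b hbA hb1
    show theta p k A a ⊓ Subgroup.centralizer {b} ≤ theta p k A b
    obtain ⟨X, hX⟩ : ∃ X : Subgroup G, X = theta p k A a := ⟨_, rfl⟩
    rw [← hX]
    have hAX : A ≤ Subgroup.normalizer (X : Set G) := by rw [hX]; exact le_normalizer_theta A hA haA
    have hXW : X ≤ Cfsg.centralizerPPrimeCore p a := by
      rw [hX]; exact theta_le_core hbal A hA haA ha1
    have hcopX : (Nat.card ↥A).Coprime (Nat.card ↥X) := by
      rw [hm, hX]
      exact Nat.Coprime.pow_left m (hcopθ a haA ha1).symm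
    have hsolvX : Group.IsSolvable ↥X := by
      haveI := hsolv a haA ha1
      exact Group.isSolvable_of_isSolvable_injective (f := Subgroup.inclusion hXW)
        (Subgroup.inclusion_injective _)
    have hbot : Subgroup.normalizer (((⊥ : Subgroup G) : Subgroup G) : Set G) = ⊤ :=
      Subgroup.normalizer_eq_top ⊥
    have hgood := good_of_solvable A hcomm _ X ⊥ (fun E => X ⊓ Cfsg.signalizerDelta p E) rfl
      bot_le (hbot ▸ le_top) hAX (hbot ▸ le_top) hcopX hsolvX (fun E hE => inf_le_left)
      (fun E hE => inf_le_right.trans (signalizerDelta_le_centralizer E (hE1 E hE)))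
      (fun E hE => le_normalizer_inf hAX
        (Cfsg.Agent.Lib.Helper4.BalWeak.le_normalizer_signalizerDelta A E
          (fun x hx e he => hcomm x hx e (hE.1 he))))
      (by
        rw [sup_bot_eq]
        conv_lhs => rw [hX]
        unfold theta
        apply iSup_le
        rintro ⟨D, hDA, hD⟩
        obtain ⟨Y, hY⟩ : ∃ Y : Subgroup G,
          Y = Cfsg.signalizerDelta p D ⊓ Subgroup.centralizer {a} := ⟨_, rfl⟩
        rw [← hY]
        have hYX : Y ≤ X := by
          rw [hY, hX]
          exact le_iSup (fun D : {D : Subgroup G // D ≤ A ∧ Nat.card ↥D = p ^ k} =>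
            Cfsg.signalizerDelta p (D : Subgroup G) ⊓ Subgroup.centralizer {a}) ⟨D, hDA, hD⟩
        have hAY : A ≤ Subgroup.normalizer (Y : Set G) := by
          rw [hY]; exact le_normalizer_piece A hA hDA haA
        have hcopY : (Nat.card ↥A).Coprime (Nat.card ↥Y) :=
          Nat.Coprime.coprime_dvd_right (Subgroup.card_dvd_of_le hYX) hcopX
        have hgenY := hgen_eq hcomm (Nat.card ↥Y) Y rfl hAY hcopY
        rw [← hgenY]
        unfold hgen
        apply iSup₂_mono
        intro E hE
        refine le_inf (inf_le_left.trans hYX) ?_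
        rw [hY]
        exact (inf_le_inf_right _ inf_le_left).trans
          (inf_centralizer_le_delta hbal A hA hDA hD hE.1))
      (by
        intro E1 hE1' E2 hE2' E3 hE3'
        rw [sup_bot_eq, sup_bot_eq]
        -- a subgroup of order `p ^ k` inside `E1 ⊓ E2`
        have hinf : p ^ k ≤ Nat.card ↥(E1 ⊓ E2 : Subgroup G) := by
          have hn : E1 ≤ Subgroup.normalizer (E2 : Set G) := by
            intro x hx
            apply mem_normalizer_of_conj_mem
            intro r hr
            have : x * r * x⁻¹ = r := by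
              rw [hcomm x (hE1'.1 hx) r (hE2'.1 hr)]; group
            rw [this]; exact hr
          have h1 := Cfsg.Agent.H1.card_sup_mul_card_inf E1 E2 hn
          have h2 : Nat.card ↥(E1 ⊔ E2 : Subgroup G) ≤ Nat.card ↥A :=
            Subgroup.card_le_of_le (sup_le hE1'.1 hE2'.1)
          have h3 := card_le_of_cocyclic hA hE1'
          have h4 := card_le_of_cocyclic hA hE2'
          have hApos : 0 < Nat.card ↥A := Nat.card_pos
          have h5 : Nat.card ↥A * Nat.card ↥A ≤
              Nat.card ↥A * (Nat.card ↥(E1 ⊓ E2 : Subgroup G) * (p * p)) := by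
            calc Nat.card ↥A * Nat.card ↥A ≤ (Nat.card ↥E1 * p) * (Nat.card ↥E2 * p) :=
                  Nat.mul_le_mul h3 h4
              _ = (Nat.card ↥E1 * Nat.card ↥E2) * (p * p) := by ring
              _ = (Nat.card ↥(E1 ⊔ E2 : Subgroup G) * Nat.card ↥(E1 ⊓ E2 : Subgroup G)) *
                    (p * p) := by rw [h1]
              _ ≤ (Nat.card ↥A * Nat.card ↥(E1 ⊓ E2 : Subgroup G)) * (p * p) :=
                  Nat.mul_le_mul_right _ (Nat.mul_le_mul_right _ h2)
              _ = Nat.card ↥A * (Nat.card ↥(E1 ⊓ E2 : Subgroup G) * (p * p)) := by ring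
          have h6 : Nat.card ↥A ≤ Nat.card ↥(E1 ⊓ E2 : Subgroup G) * (p * p) :=
            Nat.le_of_mul_le_mul_left h5 hApos
          have h7 : p ^ k * (p * p) ≤ Nat.card ↥(E1 ⊓ E2 : Subgroup G) * (p * p) := by
            have : p ^ k * (p * p) = p ^ (k + 2) := by ring
            rw [this]; exact hAk.trans h6
          exact Nat.le_of_mul_le_mul_right h7 (Nat.mul_pos hpp.pos hpp.pos)
        obtain ⟨D, hDE, hD⟩ := exists_le_card_eq k (E1 ⊓ E2)
          (isElementaryAbelian_of_le hA (inf_le_left.trans hE1'.1)) hinf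
        have hDA : D ≤ A := hDE.trans (inf_le_left.trans hE1'.1)
        have hP : X ⊓ Cfsg.signalizerDelta p E1 ⊔ X ⊓ Cfsg.signalizerDelta p E2 ≤
            Cfsg.signalizerDelta p D :=
          sup_le (inf_le_right.trans (signalizerDelta_anti p (hDE.trans inf_le_left)))
            (inf_le_right.trans (signalizerDelta_anti p (hDE.trans inf_le_right)))
        refine le_inf ?_ ?_
        · exact inf_le_left.trans (sup_le inf_le_left inf_le_left)
        · exact (inf_le_inf_right _ hP).trans
            (inf_centralizer_le_delta hbal A hA hDA hD hE3'.1))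
    -- the fixed points of `b`
    obtain ⟨Y, hY⟩ : ∃ Y : Subgroup G, Y = X ⊓ Subgroup.centralizer {b} := ⟨_, rfl⟩
    rw [← hY]
    have hAY : A ≤ Subgroup.normalizer (Y : Set G) := by
      rw [hY]
      apply le_normalizer_inf hAX
      intro c hc
      apply mem_normalizer_of_conj_mem
      intro r hr
      rw [Subgroup.mem_centralizer_iff] at hr ⊢
      intro y hy
      rw [Set.mem_singleton_iff] at hy
      subst hy
      have h1 : y * r = r * y := hr y (Set.mem_singleton y)
      have h2 : c * y = y * c := hcomm c hc y hbA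
      have h3 : c⁻¹ * y = y * c⁻¹ := by
        rw [inv_mul_eq_iff_eq_mul, ← mul_assoc, h2, mul_inv_cancel_right]
      calc y * (c * r * c⁻¹) = (y * c) * r * c⁻¹ := by group
        _ = (c * y) * r * c⁻¹ := by rw [h2]
        _ = c * (y * r) * c⁻¹ := by group
        _ = c * (r * y) * c⁻¹ := by rw [h1]
        _ = c * r * (y * c⁻¹) := by group
        _ = c * r * (c⁻¹ * y) := by rw [h3]
        _ = c * r * c⁻¹ * y := by group
    have hYX : Y ≤ X := by rw [hY]; exact inf_le_left
    have hcopY : (Nat.card ↥A).Coprime (Nat.card ↥Y) :=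
      Nat.Coprime.coprime_dvd_right (Subgroup.card_dvd_of_le hYX) hcopX
    have hgenY := hgen_eq hcomm (Nat.card ↥Y) Y rfl hAY hcopY
    rw [← hgenY]
    unfold hgen
    apply iSup₂_le
    intro E hE
    -- `E' = E ⊔ ⟨b⟩`
    have hE' : E ⊔ Subgroup.zpowers b ∈ cocyclic A := by
      obtain ⟨hEA, c, hcA, hc⟩ := hE
      refine ⟨sup_le hEA (Subgroup.zpowers_le.mpr hbA), c, hcA, ?_⟩
      apply le_antisymm
      · exact sup_le (sup_le hEA (Subgroup.zpowers_le.mpr hbA)) (Subgroup.zpowers_le.mpr hcA)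
      · rw [← hc]
        exact sup_le_sup_right le_sup_left _
    have hbE' : b ∈ E ⊔ Subgroup.zpowers b :=
      Subgroup.mem_sup_right (Subgroup.mem_zpowers b)
    have h1 : Y ⊓ Subgroup.centralizer (E : Set G) ≤
        X ⊓ Subgroup.centralizer ((E ⊔ Subgroup.zpowers b : Subgroup G) : Set G) := by
      rw [hY]
      intro x hx
      obtain ⟨hx1, hxE⟩ := Subgroup.mem_inf.mp hx
      obtain ⟨hxX, hxb⟩ := Subgroup.mem_inf.mp hx1
      refine Subgroup.mem_inf.mpr ⟨hxX, ?_⟩
      have hle : E ⊔ Subgroup.zpowers b ≤ Subgroup.centralizer ({x} : Set G) := by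
        apply sup_le
        · intro e he
          rw [Subgroup.mem_centralizer_iff]
          intro y hy
          rw [Set.mem_singleton_iff] at hy
          subst hy
          exact (Subgroup.mem_centralizer_iff.mp hxE e he).symm
        · rw [Subgroup.zpowers_le, Subgroup.mem_centralizer_iff]
          intro y hy
          rw [Set.mem_singleton_iff] at hy
          subst hy
          exact (Subgroup.mem_centralizer_iff.mp hxb b (Set.mem_singleton b)).symm
      rw [Subgroup.mem_centralizer_iff]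
      intro g hg
      exact (Subgroup.mem_centralizer_iff.mp (hle hg) x (Set.mem_singleton x)).symm
    have h2 := hgood _ hE'
    rw [sup_bot_eq] at h2
    obtain ⟨D, hDE, hD⟩ := hED _ hE'
    have hDA : D ≤ A := hDE.trans hE'.1
    refine h1.trans (h2.trans (inf_le_right.trans ?_))
    refine le_trans ?_ (le_iSup (fun D : {D : Subgroup G // D ≤ A ∧ Nat.card ↥D = p ^ k} =>
      Cfsg.signalizerDelta p (D : Subgroup G) ⊓ Subgroup.centralizer {b}) ⟨D, hDA, hD⟩)
    exact le_inf (signalizerDelta_anti p hDE)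
      ((signalizerDelta_le _ hbE' hb1).trans (centralizerPPrimeCore_le b))

end Cfsg.Agent.S1299
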