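import Mathlib
import Cfsg.Statements.S1300

set_option autoImplicit false
open Cfsg

namespace Cfsg.Agent.S1300

theorem cpc_le_centralizer {G : Type*} [Group G] (p : ℕ) (x : G) :
    Cfsg.centralizerPPrimeCore p x ≤ Subgroup.centralizer ({x} : Set G) := by
  unfold Cfsg.centralizerPPrimeCore
  intro g hg
  obtain ⟨y, -, rfl⟩ := Subgroup.mem_map.1 hg
  exact y.2

theorem delta_eq {G : Type*} [Group G] (A : Subgroup G)
    (hc : Nat.card A = 2 ^ 1) (a : G) (haA : a ∈ A) (ha1 : a ≠ 1) :
    Cfsg.signalizerDelta 2 A = Cfsg.centralizerPPrimeCore 2 a := by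
  have hc2 : Nat.card A = 2 := by simpa using hc
  obtain ⟨y, hy, hyu⟩ := (Nat.card_eq_two_iff' (1 : A)).1 hc2
  have hall : ∀ b ∈ A, b ≠ 1 → b = a := by
    intro b hb hb1
    have h1 : (⟨b, hb⟩ : A) = y := hyu _ (fun h => hb1 (by simpa using congrArg Subtype.val h))
    have h2 : (⟨a, haA⟩ : A) = y := hyu _ (fun h => ha1 (by simpa using congrArg Subtype.val h))
    have := h1.trans h2.symm
    simpa using congrArg Subtype.val this
  unfold Cfsg.signalizerDelta
  apply le_antisymm
  · exact iInf_le (fun b : {a : G // a ∈ A ∧ a ≠ 1} => Cfsg.centralizerPPrimeCore 2 (b : G)) ⟨a, haA, ha1⟩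
  · apply le_iInf
    rintro ⟨b, hb, hb1⟩
    obtain rfl := hall b hb hb1
    exact le_rfl

/-- For a finite group G, balance in the sense of commuting involutions is the same as 1-balance for the prime 2. -/
theorem result {G : Type*} [Group G] [Finite G] : Cfsg.IsBalanced G ↔ Cfsg.IsKBalanced 2 1 G := by
  constructor
  · intro hB A hA hc b hb hcomm
    have hc2 : Nat.card A = 2 := by simpa using hc
    obtain ⟨y, hy, hyu⟩ := (Nat.card_eq_two_iff' (1 : A)).1 hc2
    have hy1 : (y : G) ≠ 1 := fun h => hy (Subtype.ext h)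
    have hy2 : (y : G) ^ 2 = 1 := hA.2 y y.2
    have hord : orderOf (y : G) = 2 := orderOf_eq_prime hy2 hy1
    rw [delta_eq A hc y y.2 hy1]
    have := hB y b hord hb (hcomm y y.2)
    rw [this]
    exact inf_le_left
  · intro hK x y hx hy hxy
    have key : ∀ x y : G, orderOf x = 2 → orderOf y = 2 → x * y = y * x →
        centralizerPPrimeCore 2 x ⊓ Subgroup.centralizer {y} ≤
          centralizerPPrimeCore 2 y ⊓ Subgroup.centralizer {x} := by
      intro x y hx hy hxy
      have hx1 : x ≠ 1 := by
        rintro rfl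
        simp at hx
      have hx2 : x ^ 2 = 1 := by rw [← hx]; exact pow_orderOf_eq_one x
      have hA : IsElementaryAbelian 2 (Subgroup.zpowers x) := by
        refine ⟨inferInstance, ?_⟩
        intro a ha
        obtain ⟨k, rfl⟩ := Subgroup.mem_zpowers_iff.1 ha
        rw [← zpow_natCast, ← zpow_mul, mul_comm, zpow_mul, zpow_natCast, hx2, one_zpow]
      have hc : Nat.card (Subgroup.zpowers x) = 2 ^ 1 := by
        rw [Nat.card_zpowers, hx]; norm_num
      have hcomm : ∀ a ∈ Subgroup.zpowers x, a * y = y * a := by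
        intro a ha
        obtain ⟨k, rfl⟩ := Subgroup.mem_zpowers_iff.1 ha
        exact ((Commute.zpow_left (show Commute x y from hxy) k)).eq
      have h1 := hK (Subgroup.zpowers x) hA hc y hy hcomm
      rw [delta_eq _ hc x (Subgroup.mem_zpowers x) hx1] at h1
      exact le_inf h1 (inf_le_left.trans (cpc_le_centralizer 2 x))
    exact le_antisymm (key x y hx hy hxy) (key y x hy hx hxy.symm)

end Cfsg.Agent.S1300
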