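import Mathlib
import Cfsg.Statements.S1304

set_option autoImplicit false
open Cfsg
open scoped commutatorElement

namespace Cfsg.Agent.S1304

/-- Let X be a perfect group and α an automorphism of X with α(x) x⁻¹ central for every x. Then α is the identity. -/
theorem result {X : Type*} [Group X] (hperf : commutator X = ⊤) (α : X ≃* X) (h : ∀ x : X, α x * x⁻¹ ∈ Subgroup.center X) : ∀ x : X, α x = x := by
  -- the fixed subgroup of α
  let F : Subgroup X :=
    { carrier := {x | α x = x}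
      mul_mem' := by
        intro a b ha hb
        simp only [Set.mem_ofPred_eq] at *
        rw [map_mul, ha, hb]
      one_mem' := by simp
      inv_mem' := by
        intro a ha
        simp only [Set.mem_ofPred_eq] at *
        rw [map_inv, ha] }
  have hF : (⊤ : Subgroup X) ≤ F := by
    rw [← hperf, commutator_def, Subgroup.commutator_le]
    intro x _ y _
    show α ⁅x, y⁆ = ⁅x, y⁆
    have hx := h x
    have hy := h y
    rw [Subgroup.mem_center_iff] at hx hy
    -- α x = zx * x with zx central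
    set zx := α x * x⁻¹ with hzx
    set zy := α y * y⁻¹ with hzy
    have ex : α x = zx * x := by simp [hzx]
    have ey : α y = zy * y := by simp [hzy]
    rw [commutatorElement_def, map_mul, map_mul, map_mul, map_inv, map_inv, ex, ey]
    have c1 : ∀ g, g * zx = zx * g := hx
    have c2 : ∀ g, g * zy = zy * g := hy
    have c1' : ∀ g, g * zx⁻¹ = zx⁻¹ * g := by
      intro g
      have := c1 g
      calc g * zx⁻¹ = zx⁻¹ * (zx * g) * zx⁻¹ := by group
        _ = zx⁻¹ * (g * zx) * zx⁻¹ := by rw [this]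
        _ = zx⁻¹ * g := by group
    have c2' : ∀ g, g * zy⁻¹ = zy⁻¹ * g := by
      intro g
      have := c2 g
      calc g * zy⁻¹ = zy⁻¹ * (zy * g) * zy⁻¹ := by group
        _ = zy⁻¹ * (g * zy) * zy⁻¹ := by rw [this]
        _ = zy⁻¹ * g := by group
    calc zx * x * (zy * y) * (zx * x)⁻¹ * (zy * y)⁻¹
        = zx * x * (zy * y) * (x⁻¹ * zx⁻¹) * (y⁻¹ * zy⁻¹) := by simp [mul_inv_rev]
      _ = zx * (x * zy) * y * x⁻¹ * zx⁻¹ * y⁻¹ * zy⁻¹ := by group
      _ = zx * (zy * x) * y * x⁻¹ * zx⁻¹ * y⁻¹ * zy⁻¹ := by rw [c2 x]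
      _ = zx * zy * (x * y * x⁻¹ * zx⁻¹) * y⁻¹ * zy⁻¹ := by group
      _ = zx * zy * (zx⁻¹ * (x * y * x⁻¹)) * y⁻¹ * zy⁻¹ := by rw [c1' (x * y * x⁻¹)]
      _ = zx * (zy * zx⁻¹) * (x * y * x⁻¹ * y⁻¹ * zy⁻¹) := by group
      _ = zx * (zx⁻¹ * zy) * (zy⁻¹ * (x * y * x⁻¹ * y⁻¹)) := by rw [c1' zy, c2' (x * y * x⁻¹ * y⁻¹)]
      _ = x * y * x⁻¹ * y⁻¹ := by group
  intro x
  exact hF (Subgroup.mem_top x)

end Cfsg.Agent.S1304
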