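import Mathlib
import Cfsg.Statements.S1313
import Cfsg.Agent.H2.Layer

set_option autoImplicit false
open Cfsg

namespace Cfsg.Agent.S1313

/-- the automorphism group of a finite group of order `n` has at most `(n-1)!` elements -/
theorem card_mulAut_le (N : Type*) [Group N] [Finite N] :
    Nat.card (MulAut N) ≤ (Nat.card N - 1).factorial := by
  classical
  have : Fintype N := Fintype.ofFinite N
  let f : MulAut N → Equiv.Perm {x : N // x ≠ 1} := fun φ =>
    (φ.toEquiv).subtypeEquiv (fun a => by
      constructor
      · intro h h'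
        apply h
        have h'' : φ a = 1 := h'
        have : φ a = φ 1 := by rw [h'', map_one]
        exact φ.injective this
      · intro h h'
        apply h
        show φ a = 1
        rw [h', map_one])
  have hf : Function.Injective f := by
    intro φ ψ h
    ext x
    by_cases hx : x = 1
    · rw [hx, map_one, map_one]
    · have := congrArg (fun σ => ((σ ⟨x, hx⟩ : {x : N // x ≠ 1}) : N)) h
      exact this
  have h1 : Nat.card (MulAut N) ≤ Nat.card (Equiv.Perm {x : N // x ≠ 1}) :=
    Nat.card_le_card_of_injective f hf
  have h2 : Nat.card (Equiv.Perm {x : N // x ≠ 1}) = (Nat.card N - 1).factorial := by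
    rw [Nat.card_eq_fintype_card, Fintype.card_perm, Nat.card_eq_fintype_card]
    congr 1
    rw [Fintype.card_subtype_compl, Fintype.card_subtype_eq]
  rw [← h2]; exact h1

/-- For a finite group H, |H| ≤ |F*(H)|!. -/
theorem result {H : Type*} [Group H] [Finite H] : Nat.card H ≤ Nat.factorial (Nat.card ↥(Cfsg.generalizedFittingSubgroup H)) := by
  set N := Cfsg.generalizedFittingSubgroup H with hN
  have hNn : N.Normal := inferInstance
  let φ : H →* MulAut N := MulAut.conjNormal
  have hker : φ.ker ≤ N := by
    refine le_trans ?_ (Cfsg.Agent.H2.centralizer_generalizedFittingSubgroup_le (G := H))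
    intro g hg
    rw [MonoidHom.mem_ker] at hg
    rw [Subgroup.mem_centralizer_iff]
    intro x hx
    have := congrArg (fun ψ : MulAut N => ((ψ ⟨x, hx⟩ : N) : H)) hg
    simp only [MulAut.one_apply] at this
    have h2 : ((φ g ⟨x, hx⟩ : N) : H) = g * x * g⁻¹ := MulAut.conjNormal_apply g ⟨x, hx⟩
    rw [h2] at this
    calc x * g = (g * x * g⁻¹) * g := by rw [this]
      _ = g * x := by group
  have h1 : Nat.card φ.ker ≤ Nat.card N := Subgroup.card_le_of_le hker
  have h2 : Nat.card φ.range ≤ (Nat.card N - 1).factorial :=
    (Subgroup.card_le_card_group _).trans (card_mulAut_le N)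
  have h3 : Nat.card H = Nat.card φ.ker * Nat.card φ.range := by
    rw [← Subgroup.index_ker, Subgroup.card_mul_index]
  have hpos : 0 < Nat.card N := Nat.card_pos
  calc Nat.card H = Nat.card φ.ker * Nat.card φ.range := h3
    _ ≤ Nat.card N * (Nat.card N - 1).factorial := Nat.mul_le_mul h1 h2
    _ = (Nat.card N).factorial := by
      obtain ⟨m, hm⟩ : ∃ m, Nat.card N = m + 1 := ⟨Nat.card N - 1, by omega⟩
      rw [hm, Nat.add_sub_cancel, Nat.factorial_succ]

end Cfsg.Agent.S1313
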