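import Mathlib
import Cfsg.Statements.S1314
import Cfsg.Agent.H2.Components

set_option autoImplicit false
open scoped commutatorElement Pointwise

namespace Cfsg.Agent.S1314

open Cfsg.Agent.H2

section

variable {G : Type*} [Group G]

theorem comm_of_comm (x : G) (L : Subgroup G)
    (hcomm : ⁅L, L.map (MulAut.conj x).toMonoidHom⁆ = ⊥) {a b : G} (ha : a ∈ L) (hb : b ∈ L) :
    a * (x * b * x⁻¹) = (x * b * x⁻¹) * a :=
  (commutator_eq_bot_iff_forall_commute _ _).1 hcomm a ha _ ⟨b, hb, rfl⟩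

/-- the diagonal homomorphism -/
def diag (x : G) (L : Subgroup G) (hcomm : ⁅L, L.map (MulAut.conj x).toMonoidHom⁆ = ⊥) :
    ↥L →* G where
  toFun l := (l : G) * (x * (l : G) * x⁻¹)
  map_one' := by simp
  map_mul' a b := by
    show ((a : G) * b) * (x * ((a : G) * b) * x⁻¹) = (a * (x * a * x⁻¹)) * (b * (x * b * x⁻¹))
    have h := comm_of_comm x L hcomm b.2 a.2
    calc ((a : G) * b) * (x * ((a : G) * b) * x⁻¹)
        = (a : G) * ((b : G) * (x * a * x⁻¹)) * (x * b * x⁻¹) := by group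
      _ = (a : G) * ((x * a * x⁻¹) * b) * (x * b * x⁻¹) := by rw [h]
      _ = _ := by group

end

/-- Let x be an involution of a group G and L a perfect subgroup with ⁅L, x L x⁻¹⁆ = 1. Then l ↦ l (x l x⁻¹) is a group homomorphism π from L to G whose kernel is central in L and whose image lies in C_G(x); and the commutator subgroup of C_{L ⊔ xLx⁻¹}(x) equals the image of π. -/
theorem result {G : Type*} [Group G] [Finite G] (x : G) (hx : orderOf x = 2) (L : Subgroup G) (hperf : ⁅L, L⁆ = L) (hcomm : ⁅L, L.map (MulAut.conj x).toMonoidHom⁆ = ⊥) : ∃ π : ↥L →* G, (∀ l : ↥L, π l = (l : G) * (x * (l : G) * x⁻¹)) ∧ π.ker ≤ Subgroup.center ↥L ∧ π.range ≤ Subgroup.centralizer ({x} : Set G) ∧ ⁅(L ⊔ L.map (MulAut.conj x).toMonoidHom) ⊓ Subgroup.centralizer ({x} : Set G), (L ⊔ L.map (MulAut.conj x).toMonoidHom) ⊓ Subgroup.centralizer ({x} : Set G)⁆ = π.range := by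
  have hx2 : x * x = 1 := by
    have := pow_orderOf_eq_one x
    rwa [hx, pow_two] at this
  have hxinv : x⁻¹ = x := inv_eq_of_mul_eq_one_left hx2
  have hc : ∀ {a b : G}, a ∈ L → b ∈ L → a * (x * b * x⁻¹) = (x * b * x⁻¹) * a :=
    fun ha hb => comm_of_comm x L hcomm ha hb
  have hπ : ∀ l : ↥L, diag x L hcomm l = (l : G) * (x * (l : G) * x⁻¹) := fun l => rfl
  -- range lies in the centralizer of x
  have hrange : (diag x L hcomm).range ≤ Subgroup.centralizer ({x} : Set G) := by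
    rintro _ ⟨l, rfl⟩
    rw [Subgroup.mem_centralizer_iff]
    intro y hy
    rw [Set.mem_singleton_iff] at hy
    subst hy
    rw [hπ]
    have h1 := hc l.2 l.2
    calc y * ((l : G) * (y * l * y⁻¹)) = (y * l * y⁻¹) * ((y * y) * l * (y * y)⁻¹) * y := by group
      _ = (y * l * y⁻¹) * l * y := by rw [hx2]; group
      _ = (l : G) * (y * l * y⁻¹) * y := by rw [← h1]
  have hrangeLL : (diag x L hcomm).range ≤ L ⊔ L.map (MulAut.conj x).toMonoidHom := by
    rintro _ ⟨l, rfl⟩
    rw [hπ]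
    exact Subgroup.mul_mem _ (Subgroup.mem_sup_left l.2) (Subgroup.mem_sup_right ⟨l, l.2, rfl⟩)
  refine ⟨diag x L hcomm, hπ, ?_, hrange, ?_⟩
  · -- kernel is central
    intro l hl
    rw [MonoidHom.mem_ker, hπ] at hl
    rw [Subgroup.mem_center_iff]
    intro m
    apply Subtype.ext
    show (m : G) * l = l * m
    have h1 : (l : G) = (x * (l : G) * x⁻¹)⁻¹ := eq_inv_of_mul_eq_one_left hl
    have h2 : (l : G) = x * (l : G)⁻¹ * x⁻¹ := by
      calc (l : G) = (x * (l : G) * x⁻¹)⁻¹ := h1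
        _ = x * (l : G)⁻¹ * x⁻¹ := by group
    have h3 := hc m.2 (L.inv_mem l.2)
    rw [← h2] at h3
    exact h3
  · apply le_antisymm
    · -- the hard direction
      rw [Subgroup.commutator_le]
      -- decomposition of elements of C
      have hdec : ∀ c ∈ (L ⊔ L.map (MulAut.conj x).toMonoidHom) ⊓ Subgroup.centralizer ({x} : Set G),
          ∃ a : ↥L, ∃ w : G, c = diag x L hcomm a * w ∧ w ∈ L ∧
            w ∈ L.map (MulAut.conj x).toMonoidHom := by
        intro c hcC
        have hnorm : L ≤ Subgroup.normalizer ((L.map (MulAut.conj x).toMonoidHom : Subgroup G) : Set G) := by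
          exact (Subgroup.commutator_eq_bot_iff_le_centralizer.1 hcomm).trans
            (Subgroup.centralizer_le_normalizer _)
        have hmem : c ∈ ((L ⊔ L.map (MulAut.conj x).toMonoidHom : Subgroup G) : Set G) := hcC.1
        rw [Subgroup.coe_mul_of_left_le_normalizer_right _ _ hnorm] at hmem
        obtain ⟨a, ha, b', ⟨b, hb, rfl⟩, rfl⟩ := hmem
        have hcx := Subgroup.mem_centralizer_iff.1 hcC.2 x (Set.mem_singleton x)
        -- x * (a * b^x) = (a * b^x) * x
        have hz : a⁻¹ * b = x * (b * a⁻¹) * x⁻¹ := by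
          have e1 : x * (a * (x * b * x⁻¹)) * x⁻¹ = a * (x * b * x⁻¹) := by
            show x * (a * ((MulAut.conj x).toMonoidHom b)) * x⁻¹ = _
            have : (MulAut.conj x).toMonoidHom b = x * b * x⁻¹ := rfl
            rw [this] at hcx ⊢
            rw [hcx]; group
          have e2 : x * (a * (x * b * x⁻¹)) * x⁻¹ = (x * a * x⁻¹) * ((x * x) * b * (x * x)⁻¹) := by
            group
          rw [e2, hx2] at e1
          simp only [one_mul, inv_one, mul_one] at e1
          -- (x a x⁻¹) * b = a * (x b x⁻¹)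
          have e3 := hc hb ha
          -- b * (x a x⁻¹) = a * (x b x⁻¹)
          rw [← e3] at e1
          calc a⁻¹ * b = a⁻¹ * (b * (x * a * x⁻¹)) * (x * a * x⁻¹)⁻¹ := by group
            _ = a⁻¹ * (a * (x * b * x⁻¹)) * (x * a * x⁻¹)⁻¹ := by rw [e1]
            _ = x * (b * a⁻¹) * x⁻¹ := by group
        refine ⟨⟨a, ha⟩, x * (a⁻¹ * b) * x⁻¹, ?_, ?_, ⟨a⁻¹ * b, L.mul_mem (L.inv_mem ha) hb, rfl⟩⟩
        · rw [hπ]
          show a * (MulAut.conj x).toMonoidHom b = a * (x * a * x⁻¹) * (x * (a⁻¹ * b) * x⁻¹)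
          show a * (x * b * x⁻¹) = a * (x * a * x⁻¹) * (x * (a⁻¹ * b) * x⁻¹)
          group
        · rw [hz]
          have : x * (x * (b * a⁻¹) * x⁻¹) * x⁻¹ = (x * x) * (b * a⁻¹) * (x * x)⁻¹ := by group
          rw [this, hx2]
          simp only [one_mul, inv_one, mul_one]
          exact L.mul_mem hb (L.inv_mem ha)
      -- w central
      have hwc : ∀ w : G, w ∈ L → w ∈ L.map (MulAut.conj x).toMonoidHom →
          ∀ y ∈ L ⊔ L.map (MulAut.conj x).toMonoidHom, w * y = y * w := by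
        intro w hw1 hw2 y hy
        have : w ∈ Subgroup.centralizer ((L ⊔ L.map (MulAut.conj x).toMonoidHom : Subgroup G) : Set G) := by
          have h1 : L ⊔ L.map (MulAut.conj x).toMonoidHom ≤ Subgroup.centralizer ({w} : Set G) := by
            refine sup_le ?_ ?_
            · intro l hl
              rw [Subgroup.mem_centralizer_iff]
              intro u hu
              rw [Set.mem_singleton_iff] at hu
              subst hu
              obtain ⟨v, hv, rfl⟩ := hw2
              exact (hc hl hv).symm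
            · rintro _ ⟨l, hl, rfl⟩
              rw [Subgroup.mem_centralizer_iff]
              intro u hu
              rw [Set.mem_singleton_iff] at hu
              subst hu
              exact hc hw1 hl
          rw [Subgroup.mem_centralizer_iff]
          intro y hy
          exact (Subgroup.mem_centralizer_iff.1 (h1 hy) w (Set.mem_singleton w)).symm
        exact (Subgroup.mem_centralizer_iff.1 this y hy).symm
      intro c₁ hc₁ c₂ hc₂
      obtain ⟨a₁, w₁, rfl, hw₁, hw₁'⟩ := hdec c₁ hc₁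
      obtain ⟨a₂, w₂, rfl, hw₂, hw₂'⟩ := hdec c₂ hc₂
      have hP1 : diag x L hcomm a₁ ∈ L ⊔ L.map (MulAut.conj x).toMonoidHom := hrangeLL ⟨a₁, rfl⟩
      have hP2 : diag x L hcomm a₂ ∈ L ⊔ L.map (MulAut.conj x).toMonoidHom := hrangeLL ⟨a₂, rfl⟩
      have hW2 : w₂ ∈ L ⊔ L.map (MulAut.conj x).toMonoidHom := Subgroup.mem_sup_left hw₂
      have e1 := hwc w₁ hw₁ hw₁' _ hP2
      have e2 := hwc w₁ hw₁ hw₁' _ hW2
      have e3 := hwc w₂ hw₂ hw₂' _ hP1
      have e4 := hwc w₁ hw₁ hw₁' _ hP1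
      have e5 := hwc w₂ hw₂ hw₂' _ hP2
      have key : ⁅diag x L hcomm a₁ * w₁, diag x L hcomm a₂ * w₂⁆ =
          diag x L hcomm ⁅a₁, a₂⁆ := by
        rw [map_commutatorElement]
        generalize diag x L hcomm a₁ = p₁ at *
        generalize diag x L hcomm a₂ = p₂ at *
        rw [commutatorElement_def, commutatorElement_def]
        calc p₁ * w₁ * (p₂ * w₂) * (p₁ * w₁)⁻¹ * (p₂ * w₂)⁻¹
            = p₁ * (w₁ * p₂) * w₂ * w₁⁻¹ * p₁⁻¹ * w₂⁻¹ * p₂⁻¹ := by group
          _ = p₁ * (p₂ * w₁) * w₂ * w₁⁻¹ * p₁⁻¹ * w₂⁻¹ * p₂⁻¹ := by rw [e1]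
          _ = p₁ * p₂ * (w₁ * w₂) * w₁⁻¹ * p₁⁻¹ * w₂⁻¹ * p₂⁻¹ := by group
          _ = p₁ * p₂ * (w₂ * w₁) * w₁⁻¹ * p₁⁻¹ * w₂⁻¹ * p₂⁻¹ := by rw [e2]
          _ = p₁ * p₂ * (w₂ * p₁⁻¹) * w₂⁻¹ * p₂⁻¹ := by group
          _ = p₁ * p₂ * (p₁⁻¹ * w₂) * w₂⁻¹ * p₂⁻¹ := by
              have : w₂ * p₁⁻¹ = p₁⁻¹ * w₂ := by
                calc w₂ * p₁⁻¹ = p₁⁻¹ * (p₁ * w₂) * p₁⁻¹ := by group
                  _ = p₁⁻¹ * (w₂ * p₁) * p₁⁻¹ := by rw [e3]
                  _ = p₁⁻¹ * w₂ := by group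
              rw [this]
          _ = p₁ * p₂ * p₁⁻¹ * p₂⁻¹ := by group
      rw [key]
      exact ⟨_, rfl⟩
    · -- range = [range, range] ≤ [C, C]
      have h1 : (diag x L hcomm).range = ⁅(diag x L hcomm).range, (diag x L hcomm).range⁆ := by
        have h2 : (diag x L hcomm).range = (⊤ : Subgroup L).map (diag x L hcomm) :=
          MonoidHom.range_eq_map _
        have h3 : ⁅(⊤ : Subgroup L), (⊤ : Subgroup L)⁆ = (⊤ : Subgroup L) := by
          apply Subgroup.map_injective L.subtype_injective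
          rw [Subgroup.map_commutator, ← MonoidHom.range_eq_map, Subgroup.range_subtype, hperf]
        rw [h2, ← Subgroup.map_commutator, h3]
      rw [h1]
      exact Subgroup.commutator_mono (le_inf hrangeLL hrange) (le_inf hrangeLL hrange)

end Cfsg.Agent.S1314
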