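import Mathlib
import Cfsg.Statements.S1316
import Cfsg.Agent.H2.Layer

set_option autoImplicit false
open Cfsg
open scoped commutatorElement

namespace Cfsg.Agent.S1316

open Cfsg.Agent.H2

theorem layer_perfect {X : Type*} [Group X] : ⁅Cfsg.layer X, Cfsg.layer X⁆ = Cfsg.layer X := by
  apply le_antisymm
  · have := layer_normal (G := X)
    exact Subgroup.commutator_le_left _ _
  · apply layer_le_iff.2
    intro L hL
    calc L = ⁅L, L⁆ := (quasisimple_commutator_eq hL.2).symm
      _ ≤ _ := Subgroup.commutator_mono (component_le_layer hL) (component_le_layer hL)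

/-- For a finite group X, E(X) equals the intersection of the derived series of F*(X) (its last term). -/
theorem result {X : Type*} [Group X] [Finite X] : (⨅ n : ℕ, (derivedSeries ↥(Cfsg.generalizedFittingSubgroup X) n).map (Cfsg.generalizedFittingSubgroup X).subtype) = Cfsg.layer X := by
  set Fs := Cfsg.generalizedFittingSubgroup X with hFs
  have hEF : Cfsg.layer X ≤ Fs := layer_le_generalizedFittingSubgroup
  apply le_antisymm
  · -- some derived term is inside E
    have hEn : (Cfsg.layer X).Normal := layer_normal
    let f : Fs →* Fs ⧸ (Cfsg.layer X).subgroupOf Fs := QuotientGroup.mk' _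
    -- the quotient is solvable
    have hsolv : Group.IsSolvable (Fs ⧸ (Cfsg.layer X).subgroupOf Fs) := by
      have hFsolv : Group.IsSolvable (Cfsg.fittingSubgroup X) := fittingSubgroup_isSolvable
      let g : Cfsg.fittingSubgroup X →* Fs ⧸ (Cfsg.layer X).subgroupOf Fs :=
        f.comp (Subgroup.inclusion fittingSubgroup_le_generalizedFittingSubgroup)
      have hg : Function.Surjective g := by
        intro q
        obtain ⟨⟨x, hx⟩, rfl⟩ := QuotientGroup.mk'_surjective _ q
        have hx' : x ∈ Cfsg.layer X ⊔ Cfsg.fittingSubgroup X := hx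
        obtain ⟨e, he, y, hy, rfl⟩ := Subgroup.mem_sup_of_normal_right.1 hx'
        refine ⟨⟨y, hy⟩, ?_⟩
        show f ⟨y, _⟩ = f ⟨e * y, hx⟩
        rw [QuotientGroup.mk'_eq_mk']
        refine ⟨⟨y⁻¹ * e * y, ?_⟩, ?_, ?_⟩
        · exact hEF (hEn.conj_mem' e he y)
        · rw [Subgroup.mem_subgroupOf]
          exact hEn.conj_mem' e he y
        · apply Subtype.ext
          show y * (y⁻¹ * e * y) = e * y
          group
      exact Group.isSolvable_of_surjective hg
    obtain ⟨n, hn⟩ := (Group.isSolvable_def _).1 hsolv
    refine (iInf_le _ n).trans ?_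
    have h1 : (derivedSeries Fs n).map f ≤ derivedSeries _ n := map_derivedSeries_le_derivedSeries f n
    rw [hn, le_bot_iff, Subgroup.map_eq_bot_iff, QuotientGroup.ker_mk'] at h1
    calc (derivedSeries Fs n).map Fs.subtype ≤ ((Cfsg.layer X).subgroupOf Fs).map Fs.subtype :=
          Subgroup.map_mono h1
      _ ≤ Cfsg.layer X := by rw [Subgroup.subgroupOf_map_subtype]; exact inf_le_left
  · apply le_iInf
    intro n
    induction n with
    | zero =>
      show Cfsg.layer X ≤ (⊤ : Subgroup Fs).map Fs.subtype
      rw [← MonoidHom.range_eq_map, Subgroup.range_subtype]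
      exact hEF
    | succ n ih =>
      show Cfsg.layer X ≤ (⁅derivedSeries Fs n, derivedSeries Fs n⁆).map Fs.subtype
      rw [Subgroup.map_commutator, ← layer_perfect]
      exact Subgroup.commutator_mono ih ih

end Cfsg.Agent.S1316
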