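import Mathlib
import Cfsg.Statements.S1321
import Cfsg.Agent.H2.Layer

set_option autoImplicit false
open Cfsg

namespace Cfsg.Agent.S1321

/-- Let X be finite and U ≤ X. Then E(X) is generated by C_{E(X)}(U) together with ⁅E(X), U⁆ (indeed it is their product, ⁅E(X), U⁆ being normal in E(X)). -/
theorem result {X : Type*} [Group X] [Finite X] (U : Subgroup X) : Cfsg.layer X = (Cfsg.layer X ⊓ Subgroup.centralizer (U : Set X)) ⊔ ⁅Cfsg.layer X, U⁆ ∧ ⁅Cfsg.layer X, U⁆ ≤ Cfsg.layer X := by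
  have hEn : (Cfsg.layer X).Normal := Cfsg.Agent.H2.layer_normal
  have hM : ⁅Cfsg.layer X, U⁆ ≤ Cfsg.layer X := Subgroup.commutator_le_left _ _
  refine ⟨?_, hM⟩
  apply le_antisymm
  · apply Cfsg.Agent.H2.layer_le_iff.2
    intro L hL
    have hLE : L ≤ Cfsg.layer X := Cfsg.Agent.H2.component_le_layer hL
    -- M = [E,U] is subnormal
    have hMsn : (⁅Cfsg.layer X, U⁆).IsSubnormal := by
      apply Subgroup.IsSubnormal.step _ (Cfsg.layer X) hM hEn.isSubnormal
      rw [Subgroup.normal_subgroupOf_iff_le_normalizer hM]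
      exact Subgroup.normalizer_commutator_ge_left _ _
    rcases Cfsg.Agent.H2.component_le_or_commutator_eq_bot L _ hL hMsn with h | h
    · exact h.trans le_sup_right
    · refine le_trans ?_ le_sup_left
      refine le_inf hLE ?_
      rw [← Subgroup.commutator_eq_bot_iff_le_centralizer]
      have e1 : ⁅⁅L, U⁆, L⁆ = ⊥ := by
        rw [eq_bot_iff]
        calc ⁅⁅L, U⁆, L⁆ ≤ ⁅⁅Cfsg.layer X, U⁆, L⁆ :=
              Subgroup.commutator_mono (Subgroup.commutator_mono hLE (le_refl U)) (le_refl L)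
          _ = ⁅L, ⁅Cfsg.layer X, U⁆⁆ := Subgroup.commutator_comm _ _
          _ = ⊥ := h
      have e2 : ⁅⁅U, L⁆, L⁆ = ⊥ := by rw [Subgroup.commutator_comm U L]; exact e1
      have e3 : ⁅⁅L, L⁆, U⁆ = ⊥ := Subgroup.commutator_commutator_eq_bot_of_rotate e1 e2
      rwa [Cfsg.Agent.H2.quasisimple_commutator_eq hL.2] at e3
  · exact sup_le inf_le_left hM

end Cfsg.Agent.S1321
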