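import Mathlib
import Cfsg.Statements.S1323
import Cfsg.Agent.Lib.Lead.Quasisimple

set_option autoImplicit false
open Cfsg

namespace Cfsg.Agent.S1323


section Part0

open Equiv

section Basic

variable {n : ℕ}

/-- the subgroup `L` -/
def LL (n : ℕ) (h4 : 4 ≤ n) : Subgroup ↥(alternatingGroup (Fin n)) :=
  ⨅ i : Fin 4, MulAction.stabilizer ↥(alternatingGroup (Fin n)) (Fin.castLE h4 i : Fin n)

theorem mem_LL (h4 : 4 ≤ n) (g : ↥(alternatingGroup (Fin n))) :
    g ∈ LL n h4 ↔ ∀ x : Fin n, x.val < 4 → (g : Perm (Fin n)) x = x := by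
  unfold LL
  rw [Subgroup.mem_iInf]
  constructor
  · intro h x hx
    have := h ⟨x.val, hx⟩
    rw [MulAction.mem_stabilizer_iff] at this
    have e : (Fin.castLE h4 ⟨x.val, hx⟩ : Fin n) = x := Fin.ext rfl
    rw [e] at this
    exact this
  · intro h i
    rw [MulAction.mem_stabilizer_iff]
    exact h _ (by simp)

/-- a three-cycle -/
def cyc3 (a b c : Fin n) : Perm (Fin n) := swap a b * swap b c

theorem cyc3_sign {a b c : Fin n} (hab : a ≠ b) (hbc : b ≠ c) : Perm.sign (cyc3 a b c) = 1 := by
  unfold cyc3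
  rw [map_mul, Perm.sign_swap hab, Perm.sign_swap hbc]
  rfl

theorem cyc3_mem {a b c : Fin n} (hab : a ≠ b) (hbc : b ≠ c) :
    cyc3 a b c ∈ alternatingGroup (Fin n) := by
  rw [Perm.mem_alternatingGroup]
  exact cyc3_sign hab hbc

theorem cyc3_apply_first {a b c : Fin n} (hab : a ≠ b) (hac : a ≠ c) : cyc3 a b c a = b := by
  unfold cyc3
  rw [Perm.mul_apply, swap_apply_of_ne_of_ne hab hac, swap_apply_left]

theorem cyc3_apply_other {a b c x : Fin n} (hxa : x ≠ a) (hxb : x ≠ b) (hxc : x ≠ c) :
    cyc3 a b c x = x := by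
  unfold cyc3
  rw [Perm.mul_apply, swap_apply_of_ne_of_ne hxb hxc, swap_apply_of_ne_of_ne hxa hxb]

theorem exists_not_mem (S : Finset (Fin n)) (h : S.card < n) : ∃ x, x ∉ S := by
  by_contra hcon
  have : S = Finset.univ := by
    ext x
    simp only [Finset.mem_univ, iff_true]
    by_contra hx
    exact hcon ⟨x, hx⟩
  rw [this, Finset.card_univ, Fintype.card_fin] at h
  omega

/-- the finset of points below 4 -/
def DD (n : ℕ) : Finset (Fin n) := Finset.univ.filter (fun x => x.val < 4)

theorem mem_DD (x : Fin n) : x ∈ DD n ↔ x.val < 4 := by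
  unfold DD
  simp

theorem card_DD (h4 : 4 ≤ n) : (DD n).card = 4 := by
  have : DD n = Finset.univ.map ⟨Fin.castLE h4, Fin.castLE_injective h4⟩ := by
    ext x
    rw [mem_DD]
    simp only [Finset.mem_map, Finset.mem_univ, Function.Embedding.coeFn_mk, true_and]
    constructor
    · intro hx
      exact ⟨⟨x.val, hx⟩, Fin.ext rfl⟩
    · rintro ⟨i, rfl⟩
      simp
  rw [this, Finset.card_map, Finset.card_univ, Fintype.card_fin]

/-- a 3-cycle on points outside `D` lies in `L` -/
theorem cyc3_mem_LL (h4 : 4 ≤ n) {a b c : Fin n} (hab : a ≠ b) (hbc : b ≠ c)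
    (ha : 4 ≤ a.val) (hb : 4 ≤ b.val) (hc : 4 ≤ c.val) :
    (⟨cyc3 a b c, cyc3_mem hab hbc⟩ : ↥(alternatingGroup (Fin n))) ∈ LL n h4 := by
  rw [mem_LL]
  intro x hx
  apply cyc3_apply_other
  · intro h; rw [h] at hx; omega
  · intro h; rw [h] at hx; omega
  · intro h; rw [h] at hx; omega

/-- two more points outside a finset -/
theorem exists_two (S : Finset (Fin n)) (h : S.card + 2 ≤ n) :
    ∃ u v : Fin n, u ∉ S ∧ v ∉ S ∧ u ≠ v := by
  obtain ⟨u, hu⟩ := exists_not_mem S (by omega)
  obtain ⟨v, hv⟩ := exists_not_mem (insert u S) (by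
    have := Finset.card_insert_le u S
    omega)
  rw [Finset.mem_insert, not_or] at hv
  exact ⟨u, v, hu, hv.2, fun h => hv.1 h.symm⟩

end Basic

end Part0

section Part1

open Equiv

section Quasi

variable {n : ℕ}

theorem quasisimple_alt {α : Type*} [Fintype α] [DecidableEq α] (h5 : 5 ≤ Nat.card α) :
    Cfsg.IsQuasisimple ↥(alternatingGroup α) := by
  refine ⟨⟨commutator_alternatingGroup_eq_top h5⟩, ?_⟩
  have hc : Subgroup.center ↥(alternatingGroup α) = ⊥ :=
    alternatingGroup.center_eq_bot (by omega)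
  haveI : IsSimpleGroup ↥(alternatingGroup α) := alternatingGroup.isSimpleGroup h5
  exact ((QuotientGroup.quotientMulEquivOfEq hc).trans QuotientGroup.quotientBot).isSimpleGroup

/-- the points from 4 on -/
abbrev PP (n : ℕ) : Type := {x : Fin n // 4 ≤ x.val}

theorem card_PP (h4 : 4 ≤ n) : Nat.card (PP n) = n - 4 := by
  rw [Nat.card_eq_fintype_card]
  have h1 : Fintype.card {x : Fin n // ¬ 4 ≤ x.val} = Fintype.card (Fin n) - Fintype.card (PP n) :=
    Fintype.card_subtype_compl _
  have h2 : Fintype.card {x : Fin n // ¬ 4 ≤ x.val} = (DD n).card := by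
    rw [Fintype.card_subtype]
    congr 1
    ext x
    rw [mem_DD]
    simp
  rw [card_DD h4] at h2
  have h3 : Fintype.card (PP n) ≤ Fintype.card (Fin n) := Fintype.card_subtype_le _
  rw [Fintype.card_fin] at h1 h3
  omega

/-- the embedding of `Alt(PP n)` -/
def psi (n : ℕ) : ↥(alternatingGroup (PP n)) →* ↥(alternatingGroup (Fin n)) where
  toFun σ := ⟨Perm.ofSubtype σ.1, by
    rw [Perm.mem_alternatingGroup, Perm.sign_ofSubtype]
    exact Perm.mem_alternatingGroup.1 σ.2⟩
  map_one' := by
    apply Subtype.ext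
    simp
  map_mul' := by
    intro σ τ
    apply Subtype.ext
    simp

theorem psi_injective : Function.Injective (psi n) := by
  intro σ τ h
  have h1 := congrArg Subtype.val h
  apply Subtype.ext
  exact Perm.ofSubtype_injective h1

theorem range_psi (h4 : 4 ≤ n) : (psi n).range = LL n h4 := by
  ext g
  rw [mem_LL]
  constructor
  · rintro ⟨σ, rfl⟩ x hx
    show Perm.ofSubtype σ.1 x = x
    exact Perm.ofSubtype_apply_of_not_mem σ.1 (by omega)
  · intro h
    have hfix : ∀ x : Fin n, ¬ 4 ≤ x.val → (g : Perm (Fin n)) x = x := fun x hx => h x (by omega)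
    have h₁ : ∀ x : Fin n, 4 ≤ ((g : Perm (Fin n)) x).val ↔ 4 ≤ x.val := by
      intro x
      constructor
      · intro hgx
        by_contra hx
        rw [hfix x hx] at hgx
        exact hx hgx
      · intro hx
        by_contra hgx
        have := hfix _ hgx
        have : (g : Perm (Fin n)) x = x := (g : Perm (Fin n)).injective this
        rw [this] at hgx
        exact hgx hx
    have h₂ : ∀ x : Fin n, (g : Perm (Fin n)) x ≠ x → 4 ≤ x.val := by
      intro x hx
      by_contra h'
      exact hx (hfix x h')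
    have e := Perm.ofSubtype_subtypePerm (f := (g : Perm (Fin n))) h₁ h₂
    have hs : Perm.subtypePerm (g : Perm (Fin n)) h₁ ∈ alternatingGroup (PP n) := by
      rw [Perm.mem_alternatingGroup, ← Perm.sign_ofSubtype, e]
      exact Perm.mem_alternatingGroup.1 g.2
    exact ⟨⟨_, hs⟩, Subtype.ext e⟩

theorem quasisimple_LL (h4 : 4 ≤ n) (hn : 9 ≤ n) : Cfsg.IsQuasisimple ↥(LL n h4) := by
  have h5 : 5 ≤ Nat.card (PP n) := by rw [card_PP h4]; omega
  have e : ↥(alternatingGroup (PP n)) ≃* ↥(LL n h4) :=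
    (MonoidHom.ofInjective psi_injective).trans (MulEquiv.subgroupCongr (range_psi h4))
  exact Cfsg.Agent.Lib.Lead.Quasisimple.of_mulEquiv e (quasisimple_alt h5)

end Quasi

end Part1

section Part2

open Equiv

section Centralizer

variable {n : ℕ}

/-- two points outside `D` and away from `x`, `y` -/
theorem exists_two_far (hn : 9 ≤ n) (x y : Fin n) :
    ∃ u v : Fin n, 4 ≤ u.val ∧ 4 ≤ v.val ∧ u ≠ v ∧ u ≠ x ∧ u ≠ y ∧ v ≠ x ∧ v ≠ y := by
  have h4 : 4 ≤ n := by omega
  obtain ⟨u, v, hu, hv, huv⟩ := exists_two (insert x (insert y (DD n))) (by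
    have h1 := Finset.card_insert_le x (insert y (DD n))
    have h2 := Finset.card_insert_le y (DD n)
    rw [card_DD h4] at h2
    omega)
  simp only [Finset.mem_insert, mem_DD, not_or, not_lt] at hu hv
  exact ⟨u, v, hu.2.2, hv.2.2, huv, hu.1, hu.2.1, hv.1, hv.2.1⟩

theorem mem_centralizer_LL (h4 : 4 ≤ n) (hn : 9 ≤ n) (g : ↥(alternatingGroup (Fin n))) :
    g ∈ Subgroup.centralizer (LL n h4 : Set ↥(alternatingGroup (Fin n))) ↔
      ∀ x : Fin n, 4 ≤ x.val → (g : Perm (Fin n)) x = x := by
  rw [Subgroup.mem_centralizer_iff]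
  constructor
  · intro h x hx
    by_contra hgx
    by_cases hy : ((g : Perm (Fin n)) x).val < 4
    · obtain ⟨u, v, hu, hv, huv, hux, -, hvx, -⟩ := exists_two_far hn x x
      have hl := cyc3_mem_LL h4 hux.symm huv hx hu hv
      have hc := h _ hl
      have hc' := congrArg (fun w : ↥(alternatingGroup (Fin n)) => (w : Perm (Fin n)) x) hc
      simp only [Subgroup.coe_mul, Perm.mul_apply] at hc'
      rw [cyc3_apply_first hux.symm hvx.symm] at hc'
      rw [cyc3_apply_other (by intro e; rw [e] at hy; omega) (by intro e; rw [e] at hy; omega)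
        (by intro e; rw [e] at hy; omega)] at hc'
      have := (g : Perm (Fin n)).injective hc'
      exact hux this.symm
    · have hy4 : 4 ≤ ((g : Perm (Fin n)) x).val := by omega
      obtain ⟨u, v, hu, hv, huv, hux, huy, hvx, hvy⟩ := exists_two_far hn x ((g : Perm (Fin n)) x)
      have hl := cyc3_mem_LL h4 huy.symm huv hy4 hu hv
      have hc := h _ hl
      have hc' := congrArg (fun w : ↥(alternatingGroup (Fin n)) => (w : Perm (Fin n)) x) hc
      simp only [Subgroup.coe_mul, Perm.mul_apply] at hc'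
      rw [cyc3_apply_first huy.symm hvy.symm] at hc'
      rw [cyc3_apply_other (Ne.symm hgx) hux.symm hvx.symm] at hc'
      exact huy hc'
  · intro h l hl
    have hl := (mem_LL h4 l).1 hl
    apply Subtype.ext
    rw [Subgroup.coe_mul, Subgroup.coe_mul]
    have hd : Perm.Disjoint (l : Perm (Fin n)) (g : Perm (Fin n)) := by
      intro x
      by_cases hx : x.val < 4
      · left; exact hl x hx
      · right; exact h x (by omega)
    exact hd.commute.eq

/-- the other points of `D` -/
theorem exists_two_in_D (h4 : 4 ≤ n) (d : Fin n) (hd : d.val < 4) :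
    ∃ d' d'' : Fin n, d'.val < 4 ∧ d''.val < 4 ∧ d ≠ d' ∧ d' ≠ d'' ∧ d ≠ d'' := by
  refine ⟨⟨(d.val + 1) % 4, by omega⟩, ⟨(d.val + 2) % 4, by omega⟩, ?_, ?_, ?_, ?_, ?_⟩
  · show (d.val + 1) % 4 < 4; omega
  · show (d.val + 2) % 4 < 4; omega
  · intro h
    have := congrArg Fin.val h
    simp only at this
    omega
  · intro h
    have := congrArg Fin.val h
    simp only at this
    omega
  · intro h
    have := congrArg Fin.val h
    simp only at this
    omega

/-- every point of `D` is moved by an element of the centralizer -/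
theorem exists_moving (h4 : 4 ≤ n) (hn : 9 ≤ n) (d : Fin n) (hd : d.val < 4) :
    ∃ k ∈ Subgroup.centralizer (LL n h4 : Set ↥(alternatingGroup (Fin n))),
      (k : Perm (Fin n)) d ≠ d := by
  obtain ⟨d', d'', h1, h2, h3, h4', h5⟩ := exists_two_in_D h4 d hd
  refine ⟨⟨cyc3 d d' d'', cyc3_mem h3 h4'⟩, ?_, ?_⟩
  · rw [mem_centralizer_LL h4 hn]
    intro x hx
    apply cyc3_apply_other
    · intro e; rw [e] at hx; omega
    · intro e; rw [e] at hx; omega
    · intro e; rw [e] at hx; omega
  · show cyc3 d d' d'' d ≠ d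
    rw [cyc3_apply_first h3 h5]
    exact h3.symm

/-- every point outside `D` is moved by an element of `L` -/
theorem exists_moving_L (h4 : 4 ≤ n) (hn : 9 ≤ n) (x : Fin n) (hx : 4 ≤ x.val) :
    ∃ l ∈ LL n h4, (l : Perm (Fin n)) x ≠ x := by
  obtain ⟨u, v, hu, hv, huv, hux, -, hvx, -⟩ := exists_two_far hn x x
  refine ⟨_, cyc3_mem_LL h4 hux.symm huv hx hu hv, ?_⟩
  show cyc3 x u v x ≠ x
  rw [cyc3_apply_first hux.symm hvx.symm]
  exact hux

end Centralizer

end Part2

section Part3

open Equiv

section Fixers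

variable {n : ℕ}

/-- pointwise fixer of the points satisfying `P` -/
def Fx (n : ℕ) (P : Fin n → Prop) : Subgroup ↥(alternatingGroup (Fin n)) where
  carrier := {h | ∀ x, P x → (h : Perm (Fin n)) x = x}
  mul_mem' := by
    intro a b ha hb x hx
    rw [Subgroup.coe_mul, Perm.mul_apply, hb x hx, ha x hx]
  one_mem' := by
    intro x _
    rfl
  inv_mem' := by
    intro a ha x hx
    rw [Subgroup.coe_inv, Perm.inv_eq_iff_eq, ha x hx]

theorem mem_Fx (P : Fin n → Prop) (h : ↥(alternatingGroup (Fin n))) :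
    h ∈ Fx n P ↔ ∀ x, P x → (h : Perm (Fin n)) x = x := Iff.rfl

theorem LL_eq_Fx (h4 : 4 ≤ n) : LL n h4 = Fx n (fun x => x.val < 4) := by
  ext g
  rw [mem_LL, mem_Fx]

theorem cent_eq_Fx (h4 : 4 ≤ n) (hn : 9 ≤ n) :
    Subgroup.centralizer (LL n h4 : Set ↥(alternatingGroup (Fin n))) = Fx n (fun x => 4 ≤ x.val) := by
  ext g
  rw [mem_centralizer_LL h4 hn, mem_Fx]

theorem conj_apply' (g h : ↥(alternatingGroup (Fin n))) (x : Fin n) :
    ((g * h * g⁻¹ : ↥(alternatingGroup (Fin n))) : Perm (Fin n)) x =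
      (g : Perm (Fin n)) ((h : Perm (Fin n)) ((g : Perm (Fin n))⁻¹ x)) := by
  simp [Subgroup.coe_mul, Perm.mul_apply]

theorem norm_of_pres (P : Fin n → Prop) (g : ↥(alternatingGroup (Fin n)))
    (hg : ∀ x, P ((g : Perm (Fin n)) x) ↔ P x) :
    g ∈ Subgroup.normalizer (Fx n P : Set ↥(alternatingGroup (Fin n))) := by
  rw [Subgroup.mem_normalizer_iff]
  intro h
  constructor
  · intro hh x hx
    rw [conj_apply']
    have hP : P ((g : Perm (Fin n))⁻¹ x) := by
      rw [← hg]
      simpa using hx
    rw [hh _ hP]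
    simp
  · intro hh x hx
    have h1 := hh ((g : Perm (Fin n)) x) ((hg x).2 hx)
    rw [conj_apply'] at h1
    simp at h1
    exact h1

theorem pres_of_norm_aux (P : Fin n → Prop)
    (hmove : ∀ x, ¬ P x → ∃ l ∈ Fx n P, (l : Perm (Fin n)) x ≠ x)
    (g : ↥(alternatingGroup (Fin n)))
    (hg : g ∈ Subgroup.normalizer (Fx n P : Set ↥(alternatingGroup (Fin n)))) :
    ∀ x, P x → P ((g : Perm (Fin n)) x) := by
  intro x hx
  by_contra hgx
  obtain ⟨l, hl, hlx⟩ := hmove _ hgx
  rw [Subgroup.mem_normalizer_iff] at hg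
  have h1 : g⁻¹ * l * g ∈ Fx n P := by
    rw [hg]
    have : g * (g⁻¹ * l * g) * g⁻¹ = l := by group
    rw [this]
    exact hl
  have h2 := h1 x hx
  simp only [Subgroup.coe_mul, Subgroup.coe_inv, Perm.mul_apply] at h2
  apply hlx
  rw [Perm.inv_eq_iff_eq] at h2
  exact h2

theorem pres_of_norm (P : Fin n → Prop)
    (hmove : ∀ x, ¬ P x → ∃ l ∈ Fx n P, (l : Perm (Fin n)) x ≠ x)
    (g : ↥(alternatingGroup (Fin n)))
    (hg : g ∈ Subgroup.normalizer (Fx n P : Set ↥(alternatingGroup (Fin n)))) :
    ∀ x, P ((g : Perm (Fin n)) x) ↔ P x := by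
  intro x
  constructor
  · intro h
    have hg' := inv_mem hg
    have := pres_of_norm_aux P hmove g⁻¹ hg' _ h
    simpa using this
  · exact pres_of_norm_aux P hmove g hg x

theorem mem_map_conj_Fx (P : Fin n → Prop) (g h : ↥(alternatingGroup (Fin n))) :
    h ∈ (Fx n P).map (MulAut.conj g).toMonoidHom ↔
      ∀ x, P x → (h : Perm (Fin n)) ((g : Perm (Fin n)) x) = (g : Perm (Fin n)) x := by
  rw [Subgroup.mem_map]
  constructor
  · rintro ⟨k, hk, rfl⟩ x hx
    show ((g * k * g⁻¹ : ↥(alternatingGroup (Fin n))) : Perm (Fin n)) _ = _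
    rw [conj_apply']
    simp
    rw [hk x hx]
  · intro hh
    refine ⟨g⁻¹ * h * g, ?_, ?_⟩
    · intro x hx
      simp only [Subgroup.coe_mul, Subgroup.coe_inv, Perm.mul_apply]
      rw [hh x hx]
      simp
    · show g * (g⁻¹ * h * g) * g⁻¹ = h
      group

theorem normalizer_eq (h4 : 4 ≤ n) (hn : 9 ≤ n) :
    Subgroup.normalizer (LL n h4 : Set ↥(alternatingGroup (Fin n))) =
      Subgroup.normalizer
        (Subgroup.centralizer (LL n h4 : Set ↥(alternatingGroup (Fin n))) :
          Set ↥(alternatingGroup (Fin n))) := by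
  have hm1 : ∀ x : Fin n, ¬ x.val < 4 → ∃ l ∈ Fx n (fun x => x.val < 4),
      (l : Perm (Fin n)) x ≠ x := by
    intro x hx
    obtain ⟨l, hl, hlx⟩ := exists_moving_L h4 hn x (by omega)
    rw [LL_eq_Fx] at hl
    exact ⟨l, hl, hlx⟩
  have hm2 : ∀ x : Fin n, ¬ 4 ≤ x.val → ∃ l ∈ Fx n (fun x => 4 ≤ x.val),
      (l : Perm (Fin n)) x ≠ x := by
    intro x hx
    obtain ⟨l, hl, hlx⟩ := exists_moving h4 hn x (by omega)
    rw [cent_eq_Fx h4 hn] at hl
    exact ⟨l, hl, hlx⟩
  rw [cent_eq_Fx h4 hn, LL_eq_Fx]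
  ext g
  constructor
  · intro hg
    have h1 := pres_of_norm _ hm1 g hg
    apply norm_of_pres
    intro x
    have := h1 x
    constructor
    · intro h; by_contra h'; have := this.2 (by omega); omega
    · intro h; by_contra h'; have := this.1 (by omega); omega
  · intro hg
    have h1 := pres_of_norm _ hm2 g hg
    apply norm_of_pres
    intro x
    have := h1 x
    constructor
    · intro h; by_contra h'; have := this.2 (by omega); omega
    · intro h; by_contra h'; have := this.1 (by omega); omega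

end Fixers

end Part3

section Part4

open Equiv

section Tight

variable {n : ℕ}

/-- an involution moving at most three points is odd -/
theorem involution_small (h : Perm (Fin n)) (h2 : h * h = 1) (h1 : h ≠ 1)
    (S : Finset (Fin n)) (hS : ∀ z, h z ≠ z → z ∈ S) (hc : S.card ≤ 3) : Perm.sign h = -1 := by
  have hex : ∃ x, h x ≠ x := by
    by_contra hcon
    apply h1
    apply Equiv.ext
    intro x
    by_contra hx
    exact hcon ⟨x, hx⟩
  obtain ⟨x, hx⟩ := hex
  have hhx : h (h x) = x := by
    have := congrArg (fun p : Perm (Fin n) => p x) h2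
    simpa using this
  have hinv : ∀ w, h (h w) = w := by
    intro w
    have := congrArg (fun p : Perm (Fin n) => p w) h2
    simpa using this
  have heq : h = swap x (h x) := by
    apply Equiv.ext
    intro w
    by_cases hwx : w = x
    · rw [hwx, swap_apply_left]
    · by_cases hwy : w = h x
      · rw [hwy, swap_apply_right, hhx]
      · rw [swap_apply_of_ne_of_ne hwx hwy]
        by_contra hw
        -- four distinct moved points
        have m1 : x ∈ S := hS x hx
        have m2 : h x ∈ S := hS (h x) (by rw [hhx]; exact fun e => hx e.symm)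
        have m3 : w ∈ S := hS w hw
        have m4 : h w ∈ S := hS (h w) (by rw [hinv]; exact fun e => hw e.symm)
        have d1 : h w ≠ x := by
          intro e
          apply hwy
          have := congrArg h e
          rw [hinv] at this
          exact this
        have d2 : h w ≠ h x := fun e => hwx (h.injective e)
        have hsub : ({x, h x, w, h w} : Finset (Fin n)) ⊆ S := by
          intro z hz
          simp only [Finset.mem_insert, Finset.mem_singleton] at hz
          rcases hz with rfl | rfl | rfl | rfl <;> assumption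
        have hcard : ({x, h x, w, h w} : Finset (Fin n)).card = 4 := by
          rw [Finset.card_insert_of_notMem, Finset.card_insert_of_notMem,
            Finset.card_insert_of_notMem, Finset.card_singleton]
          · simp only [Finset.mem_singleton]
            exact fun e => hw e.symm
          · simp only [Finset.mem_insert, Finset.mem_singleton, not_or]
            exact ⟨fun e => hwy e.symm, fun e => d2 e.symm⟩
          · simp only [Finset.mem_insert, Finset.mem_singleton, not_or]
            exact ⟨fun e => hx e.symm, fun e => hwx e.symm, fun e => d1 e.symm⟩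
        have := Finset.card_le_card hsub
        omega
  rw [heq]
  exact Perm.sign_swap (fun e => hx e.symm)

/-- a permutation not preserving `D` maps some point of `D` outside -/
theorem witness (h4 : 4 ≤ n) (σ : Perm (Fin n)) (h : ¬ ∀ x, (σ x).val < 4 ↔ x.val < 4) :
    ∃ d : Fin n, d.val < 4 ∧ 4 ≤ (σ d).val := by
  by_contra hcon
  apply h
  have hin : ∀ d : Fin n, d.val < 4 → (σ d).val < 4 := by
    intro d hd
    by_contra hd'
    exact hcon ⟨d, hd, by omega⟩
  have hsub : (DD n).image σ ⊆ DD n := by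
    intro y hy
    obtain ⟨d, hd, rfl⟩ := Finset.mem_image.1 hy
    rw [mem_DD] at hd ⊢
    exact hin d hd
  have hcard : ((DD n).image σ).card = (DD n).card :=
    Finset.card_image_of_injective _ σ.injective
  have heq : (DD n).image σ = DD n := Finset.eq_of_subset_of_card_le hsub (by rw [hcard])
  intro x
  constructor
  · intro hx
    have : σ x ∈ (DD n).image σ := by rw [heq, mem_DD]; exact hx
    obtain ⟨d, hd, hdx⟩ := Finset.mem_image.1 this
    rw [← σ.injective hdx]
    exact (mem_DD d).1 hd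
  · exact hin x

theorem map_conj_eq_of_pres (P : Fin n → Prop) (g : ↥(alternatingGroup (Fin n)))
    (hg : ∀ x, P ((g : Perm (Fin n)) x) ↔ P x) :
    (Fx n P).map (MulAut.conj g).toMonoidHom = Fx n P := by
  ext h
  rw [mem_map_conj_Fx, mem_Fx]
  constructor
  · intro hh y hy
    have hP : P ((g : Perm (Fin n))⁻¹ y) := by
      rw [← hg]; simpa using hy
    have := hh _ hP
    simpa using this
  · intro hh x hx
    exact hh _ ((hg x).2 hx)

theorem tight (h4 : 4 ≤ n) (hn : 9 ≤ n) :
    Cfsg.IsTightlyEmbedded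
      (Subgroup.centralizer (LL n h4 : Set ↥(alternatingGroup (Fin n)))) := by
  rw [cent_eq_Fx h4 hn]
  constructor
  · -- an involution
    let p0 : Fin n := ⟨0, by omega⟩
    let p1 : Fin n := ⟨1, by omega⟩
    let p2 : Fin n := ⟨2, by omega⟩
    let p3 : Fin n := ⟨3, by omega⟩
    have hnd : [p0, p1, p2, p3].Nodup := by
      simp [p0, p1, p2, p3, Fin.ext_iff]
    have h01 : p0 ≠ p1 := by simp [p0, p1, Fin.ext_iff]
    have h23 : p2 ≠ p3 := by simp [p2, p3, Fin.ext_iff]
    have h02 : p0 ≠ p2 := by simp [p0, p2, Fin.ext_iff]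
    have h03 : p0 ≠ p3 := by simp [p0, p3, Fin.ext_iff]
    have hdis := Perm.disjoint_swap_swap hnd
    have hmem : swap p0 p1 * swap p2 p3 ∈ alternatingGroup (Fin n) := by
      rw [Perm.mem_alternatingGroup, map_mul, Perm.sign_swap h01, Perm.sign_swap h23]
      rfl
    have hK : (⟨swap p0 p1 * swap p2 p3, hmem⟩ : ↥(alternatingGroup (Fin n))) ∈
        Fx n (fun x => 4 ≤ x.val) := by
      intro x hx
      show (swap p0 p1 * swap p2 p3) x = x
      have e0 : x ≠ p0 := by intro e; rw [e] at hx; simp [p0] at hx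
      have e1 : x ≠ p1 := by intro e; rw [e] at hx; simp [p1] at hx
      have e2 : x ≠ p2 := by intro e; rw [e] at hx; simp [p2] at hx
      have e3 : x ≠ p3 := by intro e; rw [e] at hx; simp [p3] at hx
      rw [Perm.mul_apply, swap_apply_of_ne_of_ne e2 e3, swap_apply_of_ne_of_ne e0 e1]
    have hsq : (⟨⟨swap p0 p1 * swap p2 p3, hmem⟩, hK⟩ : Fx n (fun x => 4 ≤ x.val)) ^ 2 = 1 := by
      apply Subtype.ext
      apply Subtype.ext
      show (swap p0 p1 * swap p2 p3) ^ 2 = 1
      rw [pow_two]
      calc swap p0 p1 * swap p2 p3 * (swap p0 p1 * swap p2 p3)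
          = swap p0 p1 * (swap p2 p3 * swap p0 p1) * swap p2 p3 := by group
        _ = swap p0 p1 * (swap p0 p1 * swap p2 p3) * swap p2 p3 := by rw [hdis.commute.eq]
        _ = (swap p0 p1 * swap p0 p1) * (swap p2 p3 * swap p2 p3) := by group
        _ = 1 := by rw [swap_mul_self, swap_mul_self, one_mul]
    have hne : (⟨⟨swap p0 p1 * swap p2 p3, hmem⟩, hK⟩ : Fx n (fun x => 4 ≤ x.val)) ≠ 1 := by
      intro e
      have := congrArg (fun w : Fx n (fun x => 4 ≤ x.val) =>
        ((w : ↥(alternatingGroup (Fin n))) : Perm (Fin n)) p0) e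
      simp only [Subgroup.coe_one, Perm.coe_one, id_eq] at this
      have e2 : (swap p0 p1 * swap p2 p3) p0 = p1 := by
        rw [Perm.mul_apply, swap_apply_of_ne_of_ne h02 h03, swap_apply_left]
      exact h01 (this.symm.trans e2)
    have hord : orderOf (⟨⟨swap p0 p1 * swap p2 p3, hmem⟩, hK⟩ : Fx n (fun x => 4 ≤ x.val)) = 2 :=
      orderOf_eq_prime hsq hne
    have := orderOf_dvd_natCard (⟨⟨swap p0 p1 * swap p2 p3, hmem⟩, hK⟩ : Fx n (fun x => 4 ≤ x.val))
    rw [hord] at this
    exact even_iff_two_dvd.2 this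
  · intro g hg
    -- g does not preserve D
    have hnp : ¬ ∀ x, ((g : Perm (Fin n))⁻¹ x).val < 4 ↔ x.val < 4 := by
      intro hp
      apply hg
      have hp' : ∀ x, 4 ≤ (((g⁻¹ : ↥(alternatingGroup (Fin n))) : Perm (Fin n)) x).val ↔ 4 ≤ x.val := by
        intro x
        have := hp x
        rw [Subgroup.coe_inv]
        constructor
        · intro h; by_contra h'; have := this.2 (by omega); omega
        · intro h; by_contra h'; have := this.1 (by omega); omega
      have := norm_of_pres (fun x : Fin n => 4 ≤ x.val) g⁻¹ hp'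
      have h2 := inv_mem this
      rwa [inv_inv] at h2
    obtain ⟨d, hd, hgd⟩ := witness h4 _ hnp
    rw [Nat.odd_iff]
    by_contra hodd
    have h2 : 2 ∣ Nat.card ↥(Fx n (fun x => 4 ≤ x.val) ⊓
        (Fx n (fun x => 4 ≤ x.val)).map (MulAut.conj g).toMonoidHom) := by omega
    haveI : Fact (Nat.Prime 2) := ⟨Nat.prime_two⟩
    obtain ⟨t, ht⟩ := exists_prime_orderOf_dvd_card' 2 h2
    have htK := (Subgroup.mem_inf.1 t.2).1
    have htKg := (Subgroup.mem_inf.1 t.2).2
    rw [mem_Fx] at htK
    rw [mem_map_conj_Fx] at htKg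
    -- t fixes d
    have htd : ((t : ↥(alternatingGroup (Fin n))) : Perm (Fin n)) d = d := by
      have := htKg _ hgd
      simpa using this
    have hsupp : ∀ z, ((t : ↥(alternatingGroup (Fin n))) : Perm (Fin n)) z ≠ z →
        z ∈ (DD n).erase d := by
      intro z hz
      rw [Finset.mem_erase, mem_DD]
      refine ⟨fun e => hz (by rw [e]; exact htd), ?_⟩
      by_contra hz4
      exact hz (htK z (by omega))
    have hcard : ((DD n).erase d).card ≤ 3 := by
      rw [Finset.card_erase_of_mem ((mem_DD d).2 hd), card_DD h4]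
    have ht2 : ((t : ↥(alternatingGroup (Fin n))) : Perm (Fin n)) *
        ((t : ↥(alternatingGroup (Fin n))) : Perm (Fin n)) = 1 := by
      have h3 := pow_orderOf_eq_one t
      rw [ht, pow_two] at h3
      have e1 : (t : ↥(alternatingGroup (Fin n))) * (t : ↥(alternatingGroup (Fin n))) = 1 := by
        have := congrArg Subtype.val h3
        exact this
      have e2 := congrArg Subtype.val e1
      exact e2
    have ht1 : ((t : ↥(alternatingGroup (Fin n))) : Perm (Fin n)) ≠ 1 := by
      intro e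
      have : t = 1 := by
        apply Subtype.ext
        apply Subtype.ext
        exact e
      rw [this, orderOf_one] at ht
      omega
    have hs := involution_small _ ht2 ht1 _ hsupp hcard
    have hs' := Perm.mem_alternatingGroup.1 (t : ↥(alternatingGroup (Fin n))).2
    rw [hs] at hs'
    exact absurd hs' (by decide)

end Tight

end Part4

section Part5

open Equiv
open scoped commutatorElement

section Final

variable {n : ℕ}

theorem comm_cond (h4 : 4 ≤ n) (hn : 9 ≤ n) (g : ↥(alternatingGroup (Fin n)))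
    (hg : (LL n h4).map (MulAut.conj g).toMonoidHom ≠ LL n h4) :
    ⁅LL n h4, (LL n h4).map (MulAut.conj g).toMonoidHom⁆ ≠ ⊥ := by
  rw [LL_eq_Fx] at hg ⊢
  have hnp : ¬ ∀ x, ((g : Perm (Fin n)) x).val < 4 ↔ x.val < 4 := by
    intro hp
    exact hg (map_conj_eq_of_pres _ g hp)
  obtain ⟨d, hd, hgd⟩ := witness h4 _ hnp
  -- the image of D
  let gD : Finset (Fin n) := (DD n).image (g : Perm (Fin n))
  have hgDc : gD.card ≤ 4 := by
    have := Finset.card_image_le (s := DD n) (f := (g : Perm (Fin n)))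
    rw [card_DD h4] at this
    exact this
  have haD : (g : Perm (Fin n)) d ∈ gD := Finset.mem_image_of_mem _ ((mem_DD d).2 hd)
  -- b outside D ∪ gD
  obtain ⟨b, hb⟩ := exists_not_mem (DD n ∪ gD) (by
    have := Finset.card_union_le (DD n) gD
    rw [card_DD h4] at this
    omega)
  rw [Finset.mem_union, not_or, mem_DD] at hb
  -- c outside D ∪ {a, b}
  obtain ⟨c, hc⟩ := exists_not_mem (insert ((g : Perm (Fin n)) d) (insert b (DD n))) (by
    have h1 := Finset.card_insert_le ((g : Perm (Fin n)) d) (insert b (DD n))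
    have h2 := Finset.card_insert_le b (DD n)
    rw [card_DD h4] at h2
    omega)
  simp only [Finset.mem_insert, mem_DD, not_or, not_lt] at hc
  -- d', e outside gD ∪ {b}
  obtain ⟨d', e, hd', he, hde⟩ := exists_two (insert b gD) (by
    have h1 := Finset.card_insert_le b gD
    omega)
  simp only [Finset.mem_insert, not_or] at hd' he
  have hab : (g : Perm (Fin n)) d ≠ b := fun h => hb.2 (h ▸ haD)
  have hx := cyc3_mem_LL h4 hab (Ne.symm hc.2.1) hgd (by omega) hc.2.2
  rw [LL_eq_Fx] at hx
  have hbd' : b ≠ d' := Ne.symm hd'.1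
  have hy : (⟨cyc3 b d' e, cyc3_mem hbd' hde⟩ : ↥(alternatingGroup (Fin n))) ∈
      (Fx n (fun x => x.val < 4)).map (MulAut.conj g).toMonoidHom := by
    rw [mem_map_conj_Fx]
    intro t ht
    have htD : (g : Perm (Fin n)) t ∈ gD := Finset.mem_image_of_mem _ ((mem_DD t).2 ht)
    apply cyc3_apply_other
    · intro h; exact hb.2 (h ▸ htD)
    · intro h; exact hd'.2 (h ▸ htD)
    · intro h; exact he.2 (h ▸ htD)
  intro hbot
  have hmem := Subgroup.commutator_mem_commutator hx hy
  rw [hbot, Subgroup.mem_bot, commutatorElement_eq_one_iff_mul_comm] at hmem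
  have h1 := congrArg (fun w : ↥(alternatingGroup (Fin n)) =>
    (w : Perm (Fin n)) ((g : Perm (Fin n)) d)) hmem
  simp only [Subgroup.coe_mul, Perm.mul_apply] at h1
  have e1 : cyc3 b d' e ((g : Perm (Fin n)) d) = (g : Perm (Fin n)) d := by
    apply cyc3_apply_other hab
    · intro h; exact hd'.2 (h ▸ haD)
    · intro h; exact he.2 (h ▸ haD)
  have e2 : cyc3 ((g : Perm (Fin n)) d) b c ((g : Perm (Fin n)) d) = b :=
    cyc3_apply_first hab (Ne.symm hc.1)
  have e3 : cyc3 b d' e b = d' := cyc3_apply_first hbd' (Ne.symm he.1)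
  rw [e1, e2, e3] at h1
  exact hbd' h1

theorem result (n : ℕ) (h4 : 4 ≤ n) (hn : 9 ≤ n) : Cfsg.IsStandardSubgroup (⨅ i : Fin 4, MulAction.stabilizer ↥(alternatingGroup (Fin n)) (Fin.castLE h4 i : Fin n)) := by
  show Cfsg.IsStandardSubgroup (LL n h4)
  exact ⟨quasisimple_LL h4 hn, tight h4 hn, comm_cond h4 hn, normalizer_eq h4 hn⟩

end Final

end Part5

end Cfsg.Agent.S1323
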