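import Cfsg.Statements.S1328
import Mathlib
import Cfsg.Agent.Lib.Helper4.BalCore
import Cfsg.Agent.Lib.Helper4.BalAut
import Cfsg.Agent.H2.BenderMax
import Cfsg.Agent.Lib.Helper7.PMinimalStructure

set_option autoImplicit false
set_option linter.style.haveILetI false
open Cfsg
open scoped commutatorElement

namespace Cfsg.Agent.S1328


open Cfsg.Agent.Lib.Helper4.BalCore Cfsg.Agent.Lib.Helper4.BalAut Cfsg.Agent.Lib.Lead.Conj

/-- `O_{p'}` of an extension of a group with trivial `p'`-core by a group of order dividing `p` -/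
theorem pPrimeCore_eq_bot_of_normal {Γ : Type*} [Group Γ] [Finite Γ] (p : ℕ) (N : Subgroup Γ)
    [N.Normal] (hidx : N.index ∣ p) (hN : Cfsg.pPrimeCore p ↥N = ⊥) :
    Cfsg.pPrimeCore p Γ = ⊥ := by
  obtain ⟨O, hOdef⟩ : ∃ O : Subgroup Γ, O = Cfsg.pPrimeCore p Γ := ⟨_, rfl⟩
  rw [← hOdef]
  haveI hOn : O.Normal := by rw [hOdef]; exact Cfsg.Agent.H1.pPrimeCore_normal p
  have hOc : (Nat.card ↥O).Coprime p := by rw [hOdef]; exact Cfsg.Agent.H1.pPrimeCore_coprime p
  have hOH : O ⊓ N = ⊥ := by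
    haveI : ((O ⊓ N).subgroupOf N).Normal := by
      refine ⟨fun n hn g => ?_⟩
      rw [Subgroup.mem_subgroupOf] at hn ⊢
      have h1 : (O ⊓ N).Normal := inferInstance
      have := h1.conj_mem (n : Γ) hn (g : Γ)
      simpa using this
    have hc : (Nat.card ↥((O ⊓ N).subgroupOf N)).Coprime p := by
      rw [Nat.card_congr (Subgroup.subgroupOfEquivOfLe (inf_le_right : O ⊓ N ≤ N)).toEquiv]
      exact Nat.Coprime.coprime_dvd_left (Subgroup.card_dvd_of_le inf_le_left) hOc
    have hle := Cfsg.Agent.H1.le_pPrimeCore (p := p) (N := (O ⊓ N).subgroupOf N) inferInstance hc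
    rw [hN, le_bot_iff] at hle
    rw [eq_bot_iff]
    intro x hx
    have : (⟨x, (Subgroup.mem_inf.mp hx).2⟩ : ↥N) ∈ (O ⊓ N).subgroupOf N :=
      Subgroup.mem_subgroupOf.mpr hx
    rw [hle, Subgroup.mem_bot] at this
    rw [Subgroup.mem_bot]
    exact congrArg Subtype.val this
  rw [eq_bot_iff]
  intro x hx
  have h1 : x ^ N.index ∈ N := Subgroup.pow_index_mem N x
  have h2 : x ^ N.index ∈ O ⊓ N := Subgroup.mem_inf.mpr ⟨O.pow_mem hx _, h1⟩
  rw [hOH, Subgroup.mem_bot] at h2
  have h4 : orderOf x ∣ p := (orderOf_dvd_of_pow_eq_one h2).trans hidx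
  have h5 : orderOf x ∣ Nat.card ↥O := by
    have := orderOf_dvd_natCard (⟨x, hx⟩ : ↥O)
    rwa [Subgroup.orderOf_mk] at this
  have h6 : orderOf x = 1 := (Nat.Coprime.coprime_dvd_left h5 hOc).eq_one_of_dvd h4
  rw [Subgroup.mem_bot]
  exact orderOf_eq_one_iff.mp h6

/-- a perfect subgroup lies in every normal subgroup of index dividing a prime -/
theorem le_of_perfect_of_index {Γ : Type*} [Group Γ] [Finite Γ] (p : ℕ) (hp : p.Prime)
    (N K : Subgroup Γ) [N.Normal] (hidx : N.index ∣ p) (hK : ⁅K, K⁆ = K) : K ≤ N := by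
  have hcomm : IsMulCommutative (Γ ⧸ N) := by
    have hcard : Nat.card (Γ ⧸ N) = N.index := rfl
    rcases (Nat.dvd_prime hp).mp hidx with h1 | h1
    · haveI : Subsingleton (Γ ⧸ N) := (Nat.card_eq_one_iff_unique.mp (hcard.trans h1)).1
      exact ⟨⟨fun a b => Subsingleton.elim _ _⟩⟩
    · haveI : Fact p.Prime := ⟨hp⟩
      haveI : IsCyclic (Γ ⧸ N) := isCyclic_of_prime_card (p := p) (hcard.trans h1)
      exact ⟨⟨fun a b => IsCyclic.commGroup.mul_comm a b⟩⟩
  have h2 : _root_.commutator Γ ≤ N := Subgroup.Normal.quotient_commutative_iff_commutator_le.mp hcomm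
  rw [← hK]
  exact (Subgroup.commutator_mono le_top le_top).trans h2

/-- Let G be finite, H ≤ G with O(H) = 1, t an involution of G normalizing H, and Y a nontrivial subgroup of O(C_H(t)). Then some component E of H is normalized by t and by Y and centralized by neither t nor Y. -/
theorem result {G : Type*} [Group G] [Finite G] (H : Subgroup G) (hO : Cfsg.oddCore ↥H = ⊥) (t : G) (ht : orderOf t = 2) (htH : t ∈ Subgroup.normalizer (H : Set G)) (Y : Subgroup G) (hY1 : Y ≠ ⊥) (hY : Y ≤ (Cfsg.oddCore ↥(H ⊓ Subgroup.centralizer ({t} : Set G))).map (H ⊓ Subgroup.centralizer ({t} : Set G)).subtype) : ∃ E : Subgroup ↥H, Cfsg.IsComponent E ∧ (E.map H.subtype).map (MulAut.conj t).toMonoidHom = E.map H.subtype ∧ Y ≤ Subgroup.normalizer ((E.map H.subtype : Subgroup G) : Set G) ∧ ¬ (t ∈ Subgroup.centralizer ((E.map H.subtype : Subgroup G) : Set G)) ∧ ¬ (Y ≤ Subgroup.centralizer ((E.map H.subtype : Subgroup G) : Set G)) := by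
  haveI : Fact (Nat.Prime 2) := ⟨Nat.prime_two⟩
  obtain ⟨X, hXdef⟩ : ∃ X : Subgroup G, X = H ⊔ Subgroup.zpowers t := ⟨_, rfl⟩
  have hHX : H ≤ X := by rw [hXdef]; exact le_sup_left
  have htX : t ∈ X := by rw [hXdef]; exact Subgroup.mem_sup_right (Subgroup.mem_zpowers t)
  have hXnH : X ≤ Subgroup.normalizer (H : Set G) := by
    rw [hXdef]; exact sup_le Subgroup.le_normalizer (Subgroup.zpowers_le.mpr htH)
  have ht2 : t ^ 2 = 1 := by rw [← ht]; exact pow_orderOf_eq_one t
  have ht1 : t ≠ 1 := by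
    intro h; rw [h, orderOf_one] at ht; omega
  obtain ⟨H', hH'⟩ : ∃ H' : Subgroup ↥X, H' = H.subgroupOf X := ⟨_, rfl⟩
  haveI hH'n : H'.Normal := by
    rw [hH']; exact (Subgroup.normal_subgroupOf_iff_le_normalizer hHX).mpr hXnH
  have hcardH' : Nat.card ↥H' = Nat.card ↥H := by
    rw [hH']; exact Nat.card_congr (Subgroup.subgroupOfEquivOfLe hHX).toEquiv
  have hidx : H'.index ∣ 2 := by
    have h1 : Nat.card ↥X ∣ Nat.card ↥(Subgroup.zpowers t) * Nat.card ↥H := by
      rw [hXdef, sup_comm]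
      exact Cfsg.Agent.Lib.Helper7.card_sup_dvd_of_le_normalizer (Subgroup.zpowers t) H
        (Subgroup.zpowers_le.mpr htH)
    rw [Nat.card_zpowers, ht, ← Subgroup.index_mul_card H', hcardH'] at h1
    exact Nat.dvd_of_mul_dvd_mul_right Nat.card_pos h1
  -- `O(X) = 1`
  have hO2 : Cfsg.pPrimeCore 2 ↥H = ⊥ := hO
  have hOH' : Cfsg.pPrimeCore 2 ↥H' = ⊥ := by
    have e : ↥H ≃* ↥H' := by
      rw [hH']; exact (Subgroup.subgroupOfEquivOfLe hHX).symm
    rw [← Cfsg.Agent.H2.pPrimeCore_map_equiv 2 e, hO2, Subgroup.map_bot]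
  have hOX : Cfsg.pPrimeCore 2 ↥X = ⊥ := pPrimeCore_eq_bot_of_normal 2 H' hidx hOH'
  -- the involution inside `X`
  obtain ⟨t', ht'⟩ : ∃ t' : ↥X, t' = ⟨t, htX⟩ := ⟨_, rfl⟩
  have ht'v : (t' : G) = t := by rw [ht']
  have ht'2 : t' ^ 2 = 1 := by
    apply Subtype.ext
    rw [Subgroup.coe_pow, ht'v, ht2]; rfl
  have ht'1 : t' ≠ 1 := by
    intro h
    apply ht1
    rw [← ht'v, h]; rfl
  have ht'o : orderOf t' = 2 := orderOf_eq_prime ht'2 ht'1
  have h2z : t' ^ (2 : ℤ) = 1 := by rw [zpow_two, ← pow_two, ht'2]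
  have hA : Cfsg.IsElementaryAbelian 2 (Subgroup.zpowers t') := by
    refine ⟨?_, ?_⟩
    · rw [← Subgroup.le_centralizer_iff_isMulCommutative]
      intro x hx
      rw [Subgroup.mem_centralizer_iff]
      intro y hy
      obtain ⟨i, rfl⟩ := Subgroup.mem_zpowers_iff.mp hx
      obtain ⟨j, rfl⟩ := Subgroup.mem_zpowers_iff.mp hy
      exact (Commute.zpow_zpow_self t' j i).eq
    · intro a ha
      obtain ⟨i, rfl⟩ := Subgroup.mem_zpowers_iff.mp ha
      rw [← zpow_natCast, ← zpow_mul, mul_comm, zpow_mul]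
      have : t' ^ ((2 : ℕ) : ℤ) = 1 := by rw [zpow_natCast, ht'2]
      rw [this, one_zpow]
  have hAmem : ∀ a ∈ Subgroup.zpowers t', a ≠ 1 → a = t' := by
    intro a ha ha1
    obtain ⟨i, rfl⟩ := Subgroup.mem_zpowers_iff.mp ha
    rcases Int.emod_two_eq_zero_or_one i with h | h
    · exfalso
      apply ha1
      obtain ⟨j, rfl⟩ : ∃ j, i = 2 * j := ⟨i / 2, by omega⟩
      rw [zpow_mul, h2z, one_zpow]
    · obtain ⟨j, rfl⟩ : ∃ j, i = 2 * j + 1 := ⟨i / 2, by omega⟩
      rw [zpow_add, zpow_mul, h2z, one_zpow, one_mul, zpow_one]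
  -- the core of `C_H(t)`
  obtain ⟨WG, hWG⟩ : ∃ WG : Subgroup G, WG = (Cfsg.pPrimeCore 2
      ↥(H ⊓ Subgroup.centralizer ({t} : Set G))).map
      (H ⊓ Subgroup.centralizer ({t} : Set G)).subtype := ⟨_, rfl⟩
  have hYW : Y ≤ WG := by rw [hWG]; exact hY
  have hWHC : WG ≤ H ⊓ Subgroup.centralizer ({t} : Set G) := by
    rw [hWG]; exact Subgroup.map_subtype_le _
  have hWX : WG ≤ X := hWHC.trans (inf_le_left.trans hHX)
  have hYX : Y ≤ X := hYW.trans hWX
  have hWc : (Nat.card ↥(WG.subgroupOf X)).Coprime 2 := by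
    rw [Nat.card_congr (Subgroup.subgroupOfEquivOfLe hWX).toEquiv, hWG,
      Subgroup.card_map_of_injective (Subgroup.subtype_injective _)]
    exact Cfsg.Agent.H1.pPrimeCore_coprime 2
  have hΔ : ∀ a ∈ Subgroup.zpowers t', a ≠ 1 →
      Y.subgroupOf X ≤ Cfsg.centralizerPPrimeCore 2 a := by
    intro a ha ha1
    rw [hAmem a ha ha1]
    unfold Cfsg.centralizerPPrimeCore
    have hle : Y.subgroupOf X ≤ WG.subgroupOf X := by
      intro x hx
      rw [Subgroup.mem_subgroupOf] at hx ⊢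
      exact hYW hx
    refine hle.trans (le_core_of_normal_coprime (p := 2)
      (Subgroup.centralizer ({t'} : Set ↥X)) (WG.subgroupOf X) ?_ ?_ hWc)
    · intro x hx
      rw [Subgroup.mem_subgroupOf] at hx
      have h1 := (Subgroup.mem_inf.mp (hWHC hx)).2
      rw [Subgroup.mem_centralizer_iff] at h1 ⊢
      intro g hg
      rw [Set.mem_singleton_iff] at hg
      subst hg
      apply Subtype.ext
      have := h1 t (Set.mem_singleton t)
      rw [Subgroup.coe_mul, Subgroup.coe_mul, ht'v]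
      exact this
    · intro g hg
      have hgt : (g : G) * t = t * (g : G) := by
        have := Subgroup.mem_centralizer_iff.mp hg t' (Set.mem_singleton t')
        have h2 := congrArg Subtype.val this
        rw [Subgroup.coe_mul, Subgroup.coe_mul, ht'v] at h2
        exact h2.symm
      have hgC : (g : G) ∈ Subgroup.centralizer ({t} : Set G) := by
        rw [Subgroup.mem_centralizer_iff]
        intro y hy
        rw [Set.mem_singleton_iff] at hy
        subst hy
        exact hgt.symm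
      have hgN : (g : G) ∈ Subgroup.normalizer
          ((H ⊓ Subgroup.centralizer ({t} : Set G) : Subgroup G) : Set G) :=
        Subgroup.inf_normalizer_le_normalizer_inf
          (Subgroup.mem_inf.mpr ⟨hXnH g.2, Subgroup.le_normalizer hgC⟩)
      have hgW : (g : G) ∈ Subgroup.normalizer (WG : Set G) := by
        rw [hWG]
        exact normalizer_le_normalizer_core (p := 2) _ hgN
      apply mem_normalizer_of_conj_mem
      intro r hr
      rw [Subgroup.mem_subgroupOf] at hr ⊢
      have := (Subgroup.mem_normalizer_iff.mp hgW (r : G)).mp hr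
      simpa using this
  by_contra hcon
  have hcomp : ∀ K : Subgroup ↥X, Cfsg.IsComponent K →
      (∀ a ∈ Subgroup.zpowers t', a ≠ 1 →
        K.map (MulAut.conj a).toMonoidHom = K ∧ ⁅K, Subgroup.zpowers a⁆ = K) →
      Y.subgroupOf X ≤ Subgroup.centralizer (K : Set ↥X) := by
    intro K hK hAK
    by_contra hnot
    apply hcon
    have hKA := hAK t' (Subgroup.mem_zpowers t') ht'1
    have hKH' : K ≤ H' := le_of_perfect_of_index 2 Nat.prime_two H' K hidx
      (Cfsg.Agent.H2.quasisimple_commutator_eq hK.2)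
    have hK'H : K.map X.subtype ≤ H := by
      rintro _ ⟨k, hk, rfl⟩
      have := hKH' hk
      rw [hH', Subgroup.mem_subgroupOf] at this
      exact this
    have hE := Cfsg.Agent.H2.BenderMax.component_subgroupOf_of_le hHX hK hK'H
    have hEmap : ((K.map X.subtype).subgroupOf H).map H.subtype = K.map X.subtype := by
      rw [Subgroup.subgroupOf_map_subtype, inf_eq_left]; exact hK'H
    refine ⟨(K.map X.subtype).subgroupOf H, hE, ?_, ?_, ?_, ?_⟩
    · rw [hEmap]
      have : (K.map X.subtype).map (MulAut.conj t).toMonoidHom =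
          (K.map (MulAut.conj t').toMonoidHom).map X.subtype := by
        rw [Subgroup.map_map, Subgroup.map_map]
        congr 1
        apply MonoidHom.ext
        intro x
        simp [ht'v]
      rw [this, hKA.1]
    · rw [hEmap]
      intro y hy
      have h1 : (⟨y, hYX hy⟩ : ↥X) ∈ Subgroup.normalizer (K : Set ↥X) :=
        centralizerPPrimeCore_le_normalizer hOX ht'o K hK
          (hΔ t' (Subgroup.mem_zpowers t') ht'1 (Subgroup.mem_subgroupOf.mpr hy))
      apply mem_normalizer_of_conj_mem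
      rintro _ ⟨k, hk, rfl⟩
      refine ⟨(⟨y, hYX hy⟩ : ↥X) * k * (⟨y, hYX hy⟩ : ↥X)⁻¹,
        (Subgroup.mem_normalizer_iff.mp h1 k).mp hk, ?_⟩
      simp
    · rw [hEmap]
      intro hc
      have h3 : ⁅K, Subgroup.zpowers t'⁆ = ⊥ := by
        rw [Subgroup.commutator_eq_bot_iff_le_centralizer, Subgroup.le_centralizer_iff,
          Subgroup.zpowers_le, Subgroup.mem_centralizer_iff]
        intro k hk
        apply Subtype.ext
        have := Subgroup.mem_centralizer_iff.mp hc (k : G) ⟨k, hk, rfl⟩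
        rw [Subgroup.coe_mul, Subgroup.coe_mul, ht'v]
        exact this
      rw [hKA.2] at h3
      exact Cfsg.Agent.H2.quasisimple_ne_bot hK.2 h3
    · rw [hEmap]
      intro hc
      apply hnot
      intro d hd
      rw [Subgroup.mem_centralizer_iff]
      intro k hk
      apply Subtype.ext
      have := Subgroup.mem_centralizer_iff.mp (hc (Subgroup.mem_subgroupOf.mp hd)) (k : G)
        ⟨k, hk, rfl⟩
      rw [Subgroup.coe_mul, Subgroup.coe_mul]
      exact this
  have hΔbot := eq_bot_of_forall_component hOX (Subgroup.zpowers t') (Y.subgroupOf X) hA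
    ⟨t', Subgroup.mem_zpowers t', ht'1⟩ hΔ hcomp
  apply hY1
  rw [eq_bot_iff]
  intro y hy
  have : (⟨y, hYX hy⟩ : ↥X) ∈ Y.subgroupOf X := Subgroup.mem_subgroupOf.mpr hy
  rw [hΔbot, Subgroup.mem_bot] at this
  rw [Subgroup.mem_bot]
  exact congrArg Subtype.val this

end Cfsg.Agent.S1328
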