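import Mathlib
import Cfsg.Statements.S1331
import Cfsg.Agent.H2.HyperplaneGen

set_option autoImplicit false
open Cfsg

namespace Cfsg.Agent.S1331

/-- Let θ be a solvable A-signalizer functor on the finite group G for the prime p, A elementary abelian of rank at least 3, X a member of the family of θ, and B ≤ A with |B| ≥ p². Then X is generated by the subgroups X ∩ ⋂_{d ∈ D, d ≠ 1} θ d, D ranging over the subgroups of index p in B. -/
theorem result {G : Type*} [Group G] [Finite G] (p : ℕ) [Fact p.Prime] (A : Subgroup G) (hA : Cfsg.IsElementaryAbelian p A) (hA3 : p ^ 3 ≤ Nat.card ↥A) (θ : G → Subgroup G) (hθ : Cfsg.IsSolvableSignalizerFunctor p A θ) (X : Subgroup G) (hX : X ∈ Cfsg.signalizerFamily p A θ) (B : Subgroup G) (hB : B ≤ A) (hB2 : p ^ 2 ≤ Nat.card ↥B) : X = ⨆ D : {D : Subgroup G // D ≤ B ∧ D.relIndex B = p}, X ⊓ Cfsg.signalizerInf (D : Subgroup G) θ := by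
  classical
  obtain ⟨-, hpX, hinv, hcent⟩ := hX
  have hp := (Fact.out : p.Prime)
  -- `B` is elementary abelian
  have hBel : Cfsg.IsElementaryAbelian p B := by
    refine ⟨⟨⟨fun a b => ?_⟩⟩, fun b hb => hA.2 b (hB hb)⟩
    have := isMulCommutative_iff.1 hA.1 ⟨a, hB a.2⟩ ⟨b, hB b.2⟩
    apply Subtype.ext
    show (a : G) * b = b * a
    exact congrArg Subtype.val this
  have hBX : B ≤ Subgroup.normalizer (X : Set G) := by
    intro b hb
    rw [Subgroup.mem_normalizer_iff]
    intro x
    constructor
    · exact hinv b (hB hb) x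
    · intro hx
      have := hinv b⁻¹ (A.inv_mem (hB hb)) _ hx
      have e : b⁻¹ * (b * x * b⁻¹) * b⁻¹⁻¹ = x := by group
      rwa [e] at this
  have hgen := Cfsg.Agent.H2.HyperGen.eq_hyperGen B X hBel hpX hBX
  apply le_antisymm
  · -- the key inclusion for subgroups of index exactly `p`
    have key : ∀ D : Subgroup G, D ≤ B → D.relIndex B = p →
        X ⊓ Subgroup.centralizer (D : Set G) ≤
          ⨆ D : {D : Subgroup G // D ≤ B ∧ D.relIndex B = p},
            X ⊓ Cfsg.signalizerInf (D : Subgroup G) θ := by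
      intro D hDB hDp
      refine le_trans ?_ (le_iSup (fun D : {D : Subgroup G // D ≤ B ∧ D.relIndex B = p} =>
        X ⊓ Cfsg.signalizerInf (D : Subgroup G) θ) ⟨D, hDB, hDp⟩)
      intro x hx
      obtain ⟨hxX, hxC⟩ := Subgroup.mem_inf.1 hx
      refine Subgroup.mem_inf.2 ⟨hxX, ?_⟩
      unfold Cfsg.signalizerInf
      rw [Subgroup.mem_iInf]
      rintro ⟨d, hdD, hd1⟩
      apply hcent d (hB (hDB hdD)) hd1
      refine Subgroup.mem_inf.2 ⟨hxX, ?_⟩
      rw [Subgroup.mem_centralizer_iff]
      intro y hy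
      rw [Set.mem_singleton_iff] at hy
      rw [hy]
      exact (Subgroup.mem_centralizer_iff.1 hxC) d hdD
    -- the order of `B`
    have hpg : IsPGroup p ↥B := by
      intro b
      refine ⟨1, ?_⟩
      rw [pow_one]
      exact Subtype.ext (by simpa using hBel.2 b b.2)
    obtain ⟨m, hm⟩ := IsPGroup.exists_card_eq hpg
    have hm2 : 2 ≤ m := by
      by_contra hlt
      push Not at hlt
      have : p ^ m < p ^ 2 := Nat.pow_lt_pow_right hp.one_lt hlt
      omega
    -- a subgroup of index `p`
    obtain ⟨K, hK⟩ := Sylow.exists_subgroup_card_pow_prime (G := ↥B) p (n := m - 1)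
      (by rw [hm]; exact pow_dvd_pow p (by omega))
    have hKind : K.index = p := by
      have h1 := K.card_mul_index
      rw [hK, hm] at h1
      have h2 : p ^ m = p ^ (m - 1) * p := by
        rw [← pow_succ]; congr 1; omega
      rw [h2] at h1
      exact Nat.eq_of_mul_eq_mul_left (pow_pos hp.pos _) h1
    have hD₀B : K.map B.subtype ≤ B := Subgroup.map_subtype_le K
    have hD₀p : (K.map B.subtype).relIndex B = p := by
      rw [Subgroup.relIndex, Subgroup.subgroupOf,
        Subgroup.comap_map_eq_self_of_injective (Subgroup.subtype_injective B)]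
      exact hKind
    refine hgen.le.trans ?_
    unfold Cfsg.Agent.H2.HyperGen.hyperGen
    apply iSup_le
    rintro ⟨D, hDB, hDind⟩
    have hdvd : D.relIndex B ∣ p ^ m := hm ▸ Subgroup.relIndex_dvd_card D B
    obtain ⟨j, hjm, hj⟩ := (Nat.dvd_prime_pow hp).1 hdvd
    have hj1 : j ≤ 1 := by
      by_contra hlt
      push Not at hlt
      have : p ^ 1 < p ^ j := Nat.pow_lt_pow_right hp.one_lt hlt
      rw [pow_one] at this
      omega
    rcases Nat.le_one_iff_eq_zero_or_eq_one.1 hj1 with h0 | h1
    · rw [h0, pow_zero] at hj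
      have hBD : B ≤ D := Subgroup.relIndex_eq_one.1 hj
      refine le_trans ?_ (key _ hD₀B hD₀p)
      apply inf_le_inf_left
      exact Subgroup.centralizer_le (hD₀B.trans hBD)
    · rw [h1, pow_one] at hj
      exact key D hDB hj
  · exact iSup_le (fun _ => inf_le_left)

end Cfsg.Agent.S1331
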