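import Mathlib
import Cfsg.Statements.S1335

set_option autoImplicit false
open Cfsg

namespace Cfsg.Agent.S1335

theorem pRankLE_of_equiv {p k : ℕ} {A B : Type*} [Group A] [Group B] (e : A ≃* B)
    (h : Cfsg.PRankLE p k B) : Cfsg.PRankLE p k A := by
  intro S hS hexp
  have h1 := h (S.map e.toMonoidHom) ?_ ?_
  · rwa [← Nat.card_congr (S.equivMapOfInjective e.toMonoidHom e.injective).toEquiv] at h1
  · refine ⟨⟨?_⟩⟩
    rintro ⟨_, ⟨a, ha, rfl⟩⟩ ⟨_, ⟨b, hb, rfl⟩⟩
    apply Subtype.ext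
    show e a * e b = e b * e a
    have := hS.is_comm.comm ⟨a, ha⟩ ⟨b, hb⟩
    have h2 : a * b = b * a := congrArg Subtype.val this
    rw [← map_mul, ← map_mul, h2]
  · rintro _ ⟨a, ha, rfl⟩
    show (e a) ^ p = 1
    rw [← map_pow, hexp a ha, map_one]

/-- Let H be a subgroup of the finite group G, p a prime, k ≥ 1, P a Sylow p-subgroup of H of p-rank at least k, and suppose N_G(X) ≤ H for every subgroup X ≤ P of p-rank at least k. Then P is a Sylow p-subgroup of G. -/
theorem result {G : Type*} [Group G] [Finite G] {p : ℕ} [Fact p.Prime] (k : ℕ) (hk : 1 ≤ k) (H : Subgroup G) (P : Sylow p ↥H) (hP : ¬ Cfsg.PRankLE p (k - 1) ↥(P : Subgroup ↥H)) (hΓ : (∀ X : Subgroup G, X ≤ (P : Subgroup ↥H).map H.subtype → ¬ Cfsg.PRankLE p (k - 1) ↥X → Subgroup.normalizer (X : Set G) ≤ H)) : ∃ Q : Sylow p G, (Q : Subgroup G) = (P : Subgroup ↥H).map H.subtype := by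
  set P' := (P : Subgroup ↥H).map H.subtype with hP'
  have hP'p : IsPGroup p P' := P.2.map _
  have hP'H : P' ≤ H := by rintro _ ⟨y, -, rfl⟩; exact y.2
  have hrank : ¬ Cfsg.PRankLE p (k - 1) ↥P' := by
    intro h
    exact hP (pRankLE_of_equiv ((P : Subgroup ↥H).equivMapOfInjective H.subtype
      H.subtype_injective) h)
  have hN : Subgroup.normalizer (P' : Set G) ≤ H := hΓ P' le_rfl hrank
  obtain ⟨Q, hQ⟩ := hP'p.exists_le_sylow
  refine ⟨Q, ?_⟩
  by_contra hne
  have hlt : P' < (Q : Subgroup G) := lt_of_le_of_ne hQ (Ne.symm hne)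
  -- normalizer condition in Q
  have hnil : Group.IsNilpotent (Q : Subgroup G) := Q.2.isNilpotent
  have hnc := Group.normalizerCondition_of_isNilpotent (G := (Q : Subgroup G))
  have hne' : P'.subgroupOf (Q : Subgroup G) < ⊤ := by
    rw [lt_top_iff_ne_top, Ne, Subgroup.subgroupOf_eq_top]
    exact not_le_of_gt hlt
  have := hnc _ hne'
  obtain ⟨x, hxN, hxP⟩ := SetLike.exists_of_lt this
  -- x ∈ Q normalizes P', x ∉ P'
  have hxN' : (x : G) ∈ Subgroup.normalizer (P' : Set G) := by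
    rw [Subgroup.mem_normalizer_iff] at hxN ⊢
    intro y
    constructor
    · intro hy
      have := (hxN ⟨y, hQ hy⟩).1 (Subgroup.mem_subgroupOf.2 hy)
      exact Subgroup.mem_subgroupOf.1 this
    · intro hy
      have hyQ : y ∈ (Q : Subgroup G) := by
        have h1 : (x : G) * y * (x : G)⁻¹ ∈ (Q : Subgroup G) := hQ hy
        have h2 := (Q : Subgroup G).mul_mem ((Q : Subgroup G).mul_mem
          ((Q : Subgroup G).inv_mem x.2) h1) x.2
        have e : (x : G)⁻¹ * ((x : G) * y * (x : G)⁻¹) * (x : G) = y := by group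
        rwa [e] at h2
      have := (hxN ⟨y, hyQ⟩).2 (Subgroup.mem_subgroupOf.2 hy)
      exact Subgroup.mem_subgroupOf.1 this
  have hxP' : (x : G) ∉ P' := fun h => hxP (Subgroup.mem_subgroupOf.2 h)
  have hxH : (x : G) ∈ H := hN hxN'
  -- R = P' ⊔ ⟨x⟩ is a p-subgroup of H
  set R := P' ⊔ Subgroup.zpowers (x : G) with hR
  have hRQ : R ≤ (Q : Subgroup G) := sup_le hQ (by rw [Subgroup.zpowers_le]; exact x.2)
  have hRp : IsPGroup p R := Q.2.to_le hRQ
  have hRH : R ≤ H := sup_le hP'H (by rw [Subgroup.zpowers_le]; exact hxH)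
  have hRp' : IsPGroup p (R.subgroupOf H) := hRp.comap_of_injective _ H.subtype_injective
  have hPR : (P : Subgroup ↥H) ≤ R.subgroupOf H := by
    intro y hy
    rw [Subgroup.mem_subgroupOf]
    exact le_sup_left (α := Subgroup G) (Subgroup.mem_map_of_mem H.subtype hy)
  have hmax := P.is_maximal' hRp' hPR
  apply hxP'
  have hx1 : (⟨(x : G), hxH⟩ : H) ∈ R.subgroupOf H := by
    rw [Subgroup.mem_subgroupOf]
    exact le_sup_right (α := Subgroup G) (Subgroup.mem_zpowers _)
  rw [hmax] at hx1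
  exact ⟨⟨(x : G), hxH⟩, hx1, rfl⟩

end Cfsg.Agent.S1335
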