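import Cfsg.Statements.S1336
import Mathlib
import Cfsg.Agent.Lib.Lead.StronglyEmbedded
import Cfsg.Agent.H1.NormalRankTwo

set_option autoImplicit false
open Cfsg
open Cfsg.Agent.Lib.Lead.Conj

namespace Cfsg.Agent.S1336

variable {G : Type*} [Group G]

/-- the conjugate `g A g⁻¹` -/
abbrev cj (g : G) (A : Subgroup G) : Subgroup G := A.map (MulAut.conj g).toMonoidHom

/-- the edge relation of the commuting graph -/
def Rel (p : ℕ) (A B : Subgroup G) : Prop :=
  IsElementaryAbelian p A ∧ p ^ 1 ≤ Nat.card ↥A ∧ IsElementaryAbelian p B ∧ p ^ 1 ≤ Nat.card ↥B ∧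
    ∀ a ∈ A, ∀ b ∈ B, a * b = b * a

theorem mem_cj (g : G) (A : Subgroup G) (x : G) : x ∈ cj g A ↔ g⁻¹ * x * g ∈ A :=
  mem_map_conj A g x

theorem cj_one (A : Subgroup G) : cj 1 A = A := by
  ext x; rw [mem_cj]; simp

theorem cj_mul (g h : G) (A : Subgroup G) : cj g (cj h A) = cj (g * h) A := by
  ext x
  rw [mem_cj, mem_cj, mem_cj]
  have h1 : h⁻¹ * (g⁻¹ * x * g) * h = (g * h)⁻¹ * x * (g * h) := by group
  rw [h1]

theorem cj_inv_cj (g : G) (A : Subgroup G) : cj g⁻¹ (cj g A) = A := by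
  rw [cj_mul, inv_mul_cancel, cj_one]

theorem cj_cj_inv (g : G) (A : Subgroup G) : cj g (cj g⁻¹ A) = A := by
  rw [cj_mul, mul_inv_cancel, cj_one]

theorem card_cj (g : G) (A : Subgroup G) : Nat.card ↥(cj g A) = Nat.card ↥A := card_map_conj A g

theorem ea_cj {p : ℕ} (g : G) {A : Subgroup G} (hA : IsElementaryAbelian p A) :
    IsElementaryAbelian p (cj g A) := by
  obtain ⟨hc, he⟩ := hA
  refine ⟨⟨⟨?_⟩⟩, ?_⟩
  · rintro ⟨x, hx⟩ ⟨y, hy⟩
    apply Subtype.ext
    show x * y = y * x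
    rw [mem_cj] at hx hy
    have h1 := hc.is_comm.comm ⟨_, hx⟩ ⟨_, hy⟩
    have h2 : (g⁻¹ * x * g) * (g⁻¹ * y * g) = (g⁻¹ * y * g) * (g⁻¹ * x * g) :=
      congrArg Subtype.val h1
    have h3 : g * ((g⁻¹ * x * g) * (g⁻¹ * y * g)) * g⁻¹ = x * y := by group
    have h4 : g * ((g⁻¹ * y * g) * (g⁻¹ * x * g)) * g⁻¹ = y * x := by group
    rw [← h3, ← h4, h2]
  · intro x hx
    rw [mem_cj] at hx
    have h1 := he _ hx
    have h := @conj_pow G _ p g⁻¹ x
    rw [inv_inv] at h
    rw [h] at h1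
    have h2 : x ^ p = g * (g⁻¹ * x ^ p * g) * g⁻¹ := by group
    rw [h2, h1]
    group

theorem Rel_cj {p : ℕ} (g : G) {A B : Subgroup G} (h : Rel p A B) : Rel p (cj g A) (cj g B) := by
  obtain ⟨h1, h2, h3, h4, h5⟩ := h
  refine ⟨ea_cj g h1, by rw [card_cj]; exact h2, ea_cj g h3, by rw [card_cj]; exact h4, ?_⟩
  intro a ha b hb
  rw [mem_cj] at ha hb
  have h6 := h5 _ ha _ hb
  have h7 : g * ((g⁻¹ * a * g) * (g⁻¹ * b * g)) * g⁻¹ = a * b := by group
  have h8 : g * ((g⁻¹ * b * g) * (g⁻¹ * a * g)) * g⁻¹ = b * a := by group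
  rw [← h7, ← h8, h6]

theorem Rel_symm {p : ℕ} : Symmetric (Rel (G := G) p) := by
  rintro A B ⟨h1, h2, h3, h4, h5⟩
  exact ⟨h3, h4, h1, h2, fun b hb a ha => (h5 a ha b hb).symm⟩

theorem reach_cj {p : ℕ} (g : G) {A B : Subgroup G} (h : Relation.ReflTransGen (Rel p) A B) :
    Relation.ReflTransGen (Rel p) (cj g A) (cj g B) :=
  Relation.ReflTransGen.lift (cj g) (fun _ _ hab => Rel_cj g hab) _ _ h

theorem reach_symm {p : ℕ} {A B : Subgroup G} (h : Relation.ReflTransGen (Rel p) A B) :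
    Relation.ReflTransGen (Rel p) B A := by
  induction h with
  | refl => exact Relation.ReflTransGen.refl
  | tail _ hbc ih => exact Relation.ReflTransGen.head (Rel_symm hbc) ih

theorem isPGroup_of_ea {p : ℕ} {A : Subgroup G} (hA : IsElementaryAbelian p A) : IsPGroup p ↥A := by
  intro a
  refine ⟨1, ?_⟩
  rw [pow_one]
  ext
  simpa using hA.2 a.1 a.2

theorem dvd_card_of_vertex [Finite G] {p : ℕ} [Fact p.Prime] {A : Subgroup G}
    (hA : IsElementaryAbelian p A) (hc : p ^ 1 ≤ Nat.card ↥A) : p ∣ Nat.card ↥A := by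
  have hp : p.Prime := Fact.out
  obtain ⟨k, hk⟩ := IsPGroup.iff_card.mp (isPGroup_of_ea hA)
  rw [hk] at hc ⊢
  cases k with
  | zero =>
    rw [pow_zero, pow_one] at hc
    exact absurd hc (not_le.mpr hp.one_lt)
  | succ k => exact dvd_pow_self p (Nat.succ_ne_zero k)

theorem ne_bot_of_vertex {p : ℕ} [Fact p.Prime] {A : Subgroup G} (hc : p ^ 1 ≤ Nat.card ↥A) :
    A ≠ ⊥ := by
  have hp : p.Prime := Fact.out
  rintro rfl
  rw [Subgroup.card_bot, pow_one] at hc
  exact absurd hc (not_le.mpr hp.one_lt)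

theorem vertex_zpowers {p : ℕ} {z : G} (hz : orderOf z = p) :
    IsElementaryAbelian p (Subgroup.zpowers z) ∧ p ^ 1 ≤ Nat.card ↥(Subgroup.zpowers z) := by
  refine ⟨⟨⟨⟨?_⟩⟩, ?_⟩, ?_⟩
  · rintro ⟨a, ha⟩ ⟨b, hb⟩
    apply Subtype.ext
    show a * b = b * a
    obtain ⟨i, rfl⟩ := Subgroup.mem_zpowers_iff.mp ha
    obtain ⟨j, rfl⟩ := Subgroup.mem_zpowers_iff.mp hb
    rw [← zpow_add, ← zpow_add, add_comm]
  · intro a ha
    obtain ⟨i, rfl⟩ := Subgroup.mem_zpowers_iff.mp ha
    rw [← zpow_natCast, ← zpow_mul, mul_comm, zpow_mul, zpow_natCast, ← hz, pow_orderOf_eq_one,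
      one_zpow]
  · rw [Nat.card_zpowers, hz, pow_one]

/-- two `p`-subgroups: some central element of order `p` of a Sylow subgroup commutes with the first
and with a conjugate of the second -/
theorem exists_central {K : Type*} [Group K] [Finite K] {p : ℕ} [Fact p.Prime] (A B : Subgroup K)
    (hA : IsPGroup p ↥A) (hB : IsPGroup p ↥B) (hA1 : A ≠ ⊥) :
    ∃ k z : K, orderOf z = p ∧ (∀ a ∈ A, a * z = z * a) ∧ (∀ y ∈ cj k B, y * z = z * y) := by
  obtain ⟨P, hAP⟩ := hA.exists_le_sylow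
  obtain ⟨m, -, hm⟩ := Cfsg.Agent.Lib.Lead.StronglyEmbedded.exists_conj_mem_sylow (M := ⊤) P le_top
    (Q := B) le_top hB
  have hPne : (⊤ : Subgroup ↥(P : Subgroup K)) ≠ ⊥ := by
    intro h
    apply hA1
    rw [eq_bot_iff]
    intro a ha
    have h1 : (⟨a, hAP ha⟩ : ↥(P : Subgroup K)) ∈ (⊤ : Subgroup ↥(P : Subgroup K)) :=
      Subgroup.mem_top _
    rw [h, Subgroup.mem_bot] at h1
    rw [Subgroup.mem_bot]
    exact congrArg Subtype.val h1
  obtain ⟨z, -, hzc, hzo⟩ := Cfsg.Agent.H1.exists_central_order_p P.isPGroup'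
    (⊤ : Subgroup ↥(P : Subgroup K)) hPne
  refine ⟨m⁻¹, (z : K), by rw [Subgroup.orderOf_coe]; exact hzo, ?_, ?_⟩
  · intro a ha
    have h1 := Subgroup.mem_center_iff.mp hzc ⟨a, hAP ha⟩
    exact congrArg Subtype.val h1
  · intro y hy
    rw [mem_cj, inv_inv] at hy
    have h1 := hm _ hy
    have h2 : m⁻¹ * (m * y * m⁻¹) * m = y := by group
    rw [h2] at h1
    have h3 := Subgroup.mem_center_iff.mp hzc ⟨y, h1⟩
    exact congrArg Subtype.val h3

/-- the stabilizer of the connected component of `E` -/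
def stabSub (p : ℕ) (E : Subgroup G) : Subgroup G where
  carrier := {g | ∀ A : Subgroup G,
    Relation.ReflTransGen (Rel p) E A ↔ Relation.ReflTransGen (Rel p) E (cj g A)}
  one_mem' := by
    intro A
    rw [cj_one]
  mul_mem' := by
    intro a b ha hb A
    rw [← cj_mul]
    exact (hb A).trans (ha _)
  inv_mem' := by
    intro a ha A
    have h1 := ha (cj a⁻¹ A)
    rw [cj_cj_inv] at h1
    exact h1.symm

theorem mem_stabSub (p : ℕ) (E : Subgroup G) (g : G) : g ∈ stabSub p E ↔ ∀ A : Subgroup G,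
    Relation.ReflTransGen (Rel p) E A ↔ Relation.ReflTransGen (Rel p) E (cj g A) := Iff.rfl

theorem mem_stabSub_of_reach {p : ℕ} {E : Subgroup G} {g : G}
    (hg : Relation.ReflTransGen (Rel p) E (cj g E)) : g ∈ stabSub p E := by
  rw [mem_stabSub]
  intro A
  constructor
  · intro hA
    exact hg.trans (reach_cj g hA)
  · intro hA
    have h1 := reach_cj g⁻¹ hA
    rw [cj_inv_cj] at h1
    have h2 := reach_cj g⁻¹ hg
    rw [cj_inv_cj] at h2
    exact (reach_symm h2).trans h1

/-- Let G be finite and p prime. Then G has a proper subgroup H with p ∣ |H| and p ∤ |H ∩ gHg⁻¹| for every g ∉ H (a strongly p-embedded subgroup) if and only if G is not 1-connected for p. -/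
theorem result {G : Type*} [Group G] [Finite G] (p : ℕ) [Fact p.Prime] : (∃ H : Subgroup G, H ≠ ⊤ ∧ p ∣ Nat.card ↥H ∧ ∀ g : G, g ∉ H → ¬ p ∣ Nat.card ↥(H ⊓ H.map (MulAut.conj g).toMonoidHom)) ↔ ¬ Cfsg.IsKConnected p 1 G := by
  have hp : p.Prime := Fact.out
  constructor
  · rintro ⟨H, hHtop, hpH, hH⟩ hconn
    obtain ⟨x, hx⟩ := exists_prime_orderOf_dvd_card' p hpH
    have hxo : orderOf (x : G) = p := by rw [Subgroup.orderOf_coe]; exact hx
    obtain ⟨g, hg⟩ : ∃ g : G, g ∉ H := by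
      by_contra hcon
      push Not at hcon
      exact hHtop (eq_top_iff.mpr (fun y _ => hcon y))
    obtain ⟨hv1, hv2⟩ := vertex_zpowers hxo
    have hreach : Relation.ReflTransGen (Rel p) (Subgroup.zpowers (x : G))
        (cj g (Subgroup.zpowers (x : G))) :=
      hconn _ _ hv1 hv2 (ea_cj g hv1) (by rw [card_cj]; exact hv2)
    have hstay : ∀ B : Subgroup G,
        Relation.ReflTransGen (Rel p) (Subgroup.zpowers (x : G)) B → B ≤ H := by
      intro B hB
      induction hB with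
      | refl => exact Subgroup.zpowers_le.mpr x.2
      | @tail b c _ hbc ih =>
        obtain ⟨h1, h2, h3, h4, h5⟩ := hbc
        intro y hy
        by_contra hyH
        apply hH y hyH
        have hle : b ≤ H ⊓ cj y H := by
          intro u hu
          refine Subgroup.mem_inf.mpr ⟨ih hu, ?_⟩
          rw [mem_cj]
          have h6 := h5 u hu y hy
          have h7 : y⁻¹ * u * y = u := by rw [mul_assoc, h6, inv_mul_cancel_left]
          rw [h7]
          exact ih hu
        exact dvd_trans (dvd_card_of_vertex h1 h2) (Subgroup.card_dvd_of_le hle)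
    have hE' := hstay _ hreach
    apply hH g hg
    have hmem : g * (x : G) * g⁻¹ ∈ H ⊓ cj g H :=
      Subgroup.mem_inf.mpr ⟨hE' (conj_mem_map_conj _ g (Subgroup.mem_zpowers _)),
        conj_mem_map_conj H g x.2⟩
    have ho : orderOf (⟨_, hmem⟩ : ↥(H ⊓ cj g H)) = p := by
      rw [Subgroup.orderOf_mk, orderOf_conj, hxo]
    rw [← ho]
    exact orderOf_dvd_natCard _
  · intro hnc
    unfold IsKConnected at hnc
    push Not at hnc
    obtain ⟨E, E', hE, hEc, hE', hE'c, hnot⟩ := hnc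
    have hnot' : ¬ Relation.ReflTransGen (Rel p) E E' := hnot
    have hEne : E ≠ ⊥ := ne_bot_of_vertex hEc
    have hEp := isPGroup_of_ea hE
    have hE'p := isPGroup_of_ea hE'
    have hEH : E ≤ stabSub p E := by
      intro e he
      apply mem_stabSub_of_reach
      have h1 : cj e E = E := by
        ext x
        rw [mem_cj]
        constructor
        · intro hx
          have h2 : x = e * (e⁻¹ * x * e) * e⁻¹ := by group
          rw [h2]
          exact E.mul_mem (E.mul_mem he hx) (E.inv_mem he)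
        · intro hx
          exact E.mul_mem (E.mul_mem (E.inv_mem he) hx) he
      rw [h1]
    have hpH : p ∣ Nat.card ↥(stabSub p E) :=
      dvd_trans (dvd_card_of_vertex hE hEc) (Subgroup.card_dvd_of_le hEH)
    have hHtop : stabSub p E ≠ ⊤ := by
      intro htop
      obtain ⟨k, z, hzo, hzA, hzB⟩ := exists_central E E' hEp hE'p hEne
      obtain ⟨hv1, hv2⟩ := vertex_zpowers hzo
      have hr1 : Rel p E (Subgroup.zpowers z) := ⟨hE, hEc, hv1, hv2, fun a ha b hb => by
        obtain ⟨i, rfl⟩ := Subgroup.mem_zpowers_iff.mp hb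
        exact Commute.zpow_right (hzA a ha) i⟩
      have hr2 : Rel p (cj k E') (Subgroup.zpowers z) :=
        ⟨ea_cj k hE', by rw [card_cj]; exact hE'c, hv1, hv2, fun a ha b hb => by
          obtain ⟨i, rfl⟩ := Subgroup.mem_zpowers_iff.mp hb
          exact Commute.zpow_right (hzB a ha) i⟩
      have hk : k⁻¹ ∈ stabSub p E := by rw [htop]; exact Subgroup.mem_top _
      have h1 : Relation.ReflTransGen (Rel p) E (cj k⁻¹ (Subgroup.zpowers z)) :=
        ((mem_stabSub p E k⁻¹).mp hk _).mp (Relation.ReflTransGen.single hr1)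
      have h2 : Rel p (cj k⁻¹ (Subgroup.zpowers z)) E' := by
        have h3 := Rel_cj k⁻¹ (Rel_symm hr2)
        rwa [cj_inv_cj] at h3
      exact hnot' (h1.tail h2)
    have hord : ∀ t ∈ stabSub p E, orderOf t = p →
        Relation.ReflTransGen (Rel p) E (Subgroup.zpowers t) := by
      intro t htH hto
      have hA1 : E.subgroupOf (stabSub p E) ≠ ⊥ := by
        intro h
        rw [Subgroup.subgroupOf_eq_bot] at h
        exact hEne (h.eq_bot_of_le hEH)
      have hto' : orderOf (⟨t, htH⟩ : ↥(stabSub p E)) = p := by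
        rw [Subgroup.orderOf_mk]; exact hto
      obtain ⟨k, z, hzo, hzA, hzB⟩ := exists_central (K := ↥(stabSub p E))
        (E.subgroupOf (stabSub p E)) (Subgroup.zpowers (⟨t, htH⟩ : ↥(stabSub p E)))
        hEp.comap_subtype (Cfsg.Agent.Lib.Lead.StronglyEmbedded.isPGroup_zpowers hto') hA1
      have hzo' : orderOf (z : G) = p := by rw [Subgroup.orderOf_coe]; exact hzo
      obtain ⟨hv1, hv2⟩ := vertex_zpowers hzo'
      obtain ⟨hw1, hw2⟩ := vertex_zpowers hto
      have hr1 : Rel p E (Subgroup.zpowers (z : G)) := ⟨hE, hEc, hv1, hv2, fun a ha b hb => by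
        obtain ⟨i, rfl⟩ := Subgroup.mem_zpowers_iff.mp hb
        have h1 := hzA ⟨a, hEH ha⟩ (Subgroup.mem_subgroupOf.mpr ha)
        have h2 : a * (z : G) = (z : G) * a := congrArg Subtype.val h1
        exact Commute.zpow_right h2 i⟩
      have hr2 : Rel p (Subgroup.zpowers (z : G)) (cj (k : G) (Subgroup.zpowers t)) :=
        ⟨hv1, hv2, ea_cj _ hw1, by rw [card_cj]; exact hw2, fun b hb y hy => by
          obtain ⟨i, rfl⟩ := Subgroup.mem_zpowers_iff.mp hb
          rw [mem_cj] at hy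
          obtain ⟨j, hj⟩ := Subgroup.mem_zpowers_iff.mp hy
          have hyH : y ∈ stabSub p E := by
            have h1 : y = (k : G) * ((k : G)⁻¹ * y * (k : G)) * (k : G)⁻¹ := by group
            rw [h1, ← hj]
            exact (stabSub p E).mul_mem ((stabSub p E).mul_mem k.2
              ((stabSub p E).zpow_mem htH j)) ((stabSub p E).inv_mem k.2)
          have hy' : (⟨y, hyH⟩ : ↥(stabSub p E)) ∈
              cj k (Subgroup.zpowers (⟨t, htH⟩ : ↥(stabSub p E))) := by
            rw [mem_cj]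
            refine Subgroup.mem_zpowers_iff.mpr ⟨j, ?_⟩
            apply Subtype.ext
            simp only [Subgroup.coe_zpow, Subgroup.coe_mul, Subgroup.coe_inv]
            exact hj
          have h1 := hzB _ hy'
          have h2 : y * (z : G) = (z : G) * y := congrArg Subtype.val h1
          exact (Commute.zpow_right h2 i).symm⟩
      have h1 : Relation.ReflTransGen (Rel p) E (cj (k : G) (Subgroup.zpowers t)) :=
        (Relation.ReflTransGen.single hr1).tail hr2
      exact ((mem_stabSub p E (k : G)).mp k.2 _).mpr h1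
    refine ⟨stabSub p E, hHtop, hpH, ?_⟩
    intro g hgH hdvd
    obtain ⟨t, ht⟩ := exists_prime_orderOf_dvd_card' p hdvd
    have hto : orderOf (t : G) = p := by rw [Subgroup.orderOf_coe]; exact ht
    have ht1 : (t : G) ∈ stabSub p E := (Subgroup.mem_inf.mp t.2).1
    have ht2 : g⁻¹ * (t : G) * g ∈ stabSub p E :=
      (mem_cj g (stabSub p E) _).mp (Subgroup.mem_inf.mp t.2).2
    have h1 := hord _ ht1 hto
    have h2 := hord _ ht2 (by rw [orderOf_conj', hto])
    have h3 : Subgroup.zpowers (g⁻¹ * (t : G) * g) = cj g⁻¹ (Subgroup.zpowers (t : G)) := by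
      show _ = (Subgroup.zpowers (t : G)).map (MulAut.conj g⁻¹).toMonoidHom
      rw [MonoidHom.map_zpowers]
      simp
    rw [h3] at h2
    have h4 := reach_cj g⁻¹ h1
    have h5 : Relation.ReflTransGen (Rel p) E (cj g⁻¹ E) := h2.trans (reach_symm h4)
    have h6 := mem_stabSub_of_reach h5
    exact hgH (by simpa using (stabSub p E).inv_mem h6)

end Cfsg.Agent.S1336
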