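import Mathlib
import Cfsg.Statements.S1338
import Cfsg.Agent.H2.KJ4
import Cfsg.Agent.H2.FixCount
import Cfsg.Agent.Lib.Lead.PGroup
import Cfsg.Agent.S1337

set_option autoImplicit false
open Cfsg
open Cfsg.Agent.H2
set_option linter.style.haveILetI false
set_option linter.unusedVariables false

namespace Cfsg.Agent.S1338

/-- A finite 3-group of 3-rank at least 4 is 2-connected for the prime 3: its commuting graph on elementary abelian subgroups of order ≥ 9 is connected. -/
theorem result {P : Type*} [Group P] [Finite P] (hP : IsPGroup 3 P) (hrk : ¬ Cfsg.PRankLE 3 3 P) : Cfsg.IsKConnected 3 2 P := by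
  classical
  haveI : Fact (Nat.Prime 3) := ⟨Nat.prime_three⟩
  have h3 : (1 : ℕ) < 3 := by norm_num
  unfold Cfsg.PRankLE at hrk
  push Not at hrk
  obtain ⟨A₀, hA₀c, hA₀e, hA₀card⟩ := hrk
  obtain ⟨m, hm⟩ := IsPGroup.iff_card.1 (hP.to_subgroup A₀)
  have hm4 : 4 ≤ m := by
    rw [hm] at hA₀card
    have := (Nat.pow_lt_pow_iff_right h3).1 hA₀card
    omega
  obtain ⟨K, hK⟩ := Sylow.exists_subgroup_card_pow_prime (G := ↥A₀) 3 (n := 4)
    (by rw [hm]; exact pow_dvd_pow 3 hm4)
  obtain ⟨E₀, hE₀def⟩ : ∃ E₀ : Subgroup P, E₀ = K.map A₀.subtype := ⟨_, rfl⟩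
  have hE₀A₀ : E₀ ≤ A₀ := hE₀def ▸ Subgroup.map_subtype_le K
  have hE₀card : Nat.card E₀ = 3 ^ 4 := by
    rw [hE₀def, Subgroup.card_map_of_injective A₀.subtype_injective, hK]
  have hE₀ea : KJ4.EA 3 E₀ :=
    ⟨fun a ha b hb => congrArg Subtype.val
      (hA₀c.is_comm.comm (⟨a, hE₀A₀ ha⟩ : A₀) ⟨b, hE₀A₀ hb⟩), fun a ha => hA₀e a (hE₀A₀ ha)⟩
  obtain ⟨N, hNn, hNea, hNc⟩ := KJ4.main (by norm_num) hP E₀ hE₀ea hE₀card
  haveI := hNn
  have hrk2 : ¬ Cfsg.PRankLE 3 2 P := by
    intro h
    have := h N ⟨⟨fun a b => Subtype.ext (hNea.1 a a.2 b b.2)⟩⟩ hNea.2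
    rw [hNc] at this
    norm_num at this
  obtain ⟨U, hUn, hUea, hUc, hU⟩ := Cfsg.Agent.S1337.result 3 hP hrk2
  -- key: every X of order 9 is centralized by some n ∈ N outside X
  have hkey : ∀ X : Subgroup P, KJ4.EA 3 X → Nat.card X = 3 ^ 2 →
      ∃ n ∈ N, (∀ x ∈ X, x * n = n * x) ∧ n ∉ X := by
    intro X hX hXc
    by_cases hXN : X ≤ N
    · have : ¬ N ≤ X := by
        intro h
        have := Subgroup.card_le_of_le h
        rw [hNc, hXc] at this
        norm_num at this
      obtain ⟨n, hnN, hnX⟩ := SetLike.not_le_iff_exists.1 this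
      exact ⟨n, hnN, fun x hx => hNea.1 x (hXN hx) n hnN, hnX⟩
    · obtain ⟨x₂, hx₂X, hx₂N⟩ := SetLike.not_le_iff_exists.1 hXN
      by_cases hI : X ⊓ N = ⊥
      · have hNne : N ≠ ⊥ := by
          intro h
          rw [h, Subgroup.card_bot] at hNc
          norm_num at hNc
        obtain ⟨z, hzN, hzZ, hz1⟩ :=
          Cfsg.Agent.Lib.Lead.PGroup.exists_mem_center_of_normal hP N hNne
        refine ⟨z, hzN, fun x _ => ((Subgroup.mem_center_iff.1 hzZ) x), ?_⟩
        intro hzX
        have : z ∈ X ⊓ N := Subgroup.mem_inf.2 ⟨hzX, hzN⟩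
        rw [hI, Subgroup.mem_bot] at this
        exact hz1 this
      · -- card (X ⊓ N) = 3
        obtain ⟨i, hi⟩ := IsPGroup.iff_card.1 (hP.to_subgroup (X ⊓ N))
        have hi1 : i = 1 := by
          have hlt : Nat.card (X ⊓ N : Subgroup P) < 3 ^ 2 := by
            rw [← hXc]
            apply lt_of_le_of_ne (Subgroup.card_le_of_le inf_le_left)
            intro heq
            have : X ⊓ N = X := Subgroup.eq_of_le_of_card_ge inf_le_left (le_of_eq heq.symm)
            have hx : x₂ ∈ X ⊓ N := by rw [this]; exact hx₂X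
            exact hx₂N (Subgroup.mem_inf.1 hx).2
          rw [hi] at hlt
          have h1 := (Nat.pow_lt_pow_iff_right h3).1 hlt
          have h0 : i ≠ 0 := by
            intro h0
            rw [h0, pow_zero, Subgroup.card_eq_one] at hi
            exact hI hi
          omega
        subst hi1
        have hx₂3 : x₂ ^ 3 = 1 := hX.2 x₂ hx₂X
        have hfix := Cfsg.Agent.H2.FixCount.card_le_pow_three N hNea.1 hNea.2 x₂ hx₂3
        obtain ⟨C, hCdef⟩ : ∃ C : Subgroup P, C = N ⊓ Subgroup.centralizer ({x₂} : Set P) :=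
          ⟨_, rfl⟩
        rw [← hCdef, hNc] at hfix
        obtain ⟨j, hj⟩ := IsPGroup.iff_card.1 (hP.to_subgroup C)
        have hj2 : 2 ≤ j := by
          rw [hj, ← pow_mul] at hfix
          have := (Nat.pow_le_pow_iff_right h3).1 hfix
          omega
        have hCX : ¬ C ≤ X := by
          intro h
          have hle : C ≤ X ⊓ N := le_inf h (hCdef ▸ inf_le_left)
          have := Subgroup.card_le_of_le hle
          rw [hj, hi] at this
          have := (Nat.pow_le_pow_iff_right h3).1 this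
          omega
        obtain ⟨n, hnC, hnX⟩ := SetLike.not_le_iff_exists.1 hCX
        have hnN : n ∈ N := (Subgroup.mem_inf.1 (hCdef ▸ hnC)).1
        have hnx₂ : n ∈ Subgroup.centralizer ({x₂} : Set P) := (Subgroup.mem_inf.1 (hCdef ▸ hnC)).2
        refine ⟨n, hnN, ?_, hnX⟩
        -- X' = X ⊓ centralizer {n}
        obtain ⟨X', hX'def⟩ : ∃ X' : Subgroup P, X' = X ⊓ Subgroup.centralizer ({n} : Set P) :=
          ⟨_, rfl⟩
        have hIX' : X ⊓ N ≤ X' := by
          rw [hX'def]
          refine le_inf inf_le_left ?_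
          intro y hy
          rw [Subgroup.mem_centralizer_singleton_iff]
          have := hNea.1 y (Subgroup.mem_inf.1 hy).2 n hnN
          first | exact this | exact this.symm
        have hx₂X' : x₂ ∈ X' := by
          rw [hX'def]
          refine Subgroup.mem_inf.2 ⟨hx₂X, ?_⟩
          rw [Subgroup.mem_centralizer_singleton_iff]
          have := Subgroup.mem_centralizer_singleton_iff.1 hnx₂
          first | exact this | exact this.symm
        obtain ⟨l, hl⟩ := IsPGroup.iff_card.1 (hP.to_subgroup X')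
        have hl2 : 2 ≤ l := by
          have hlt : Nat.card (X ⊓ N : Subgroup P) < Nat.card X' := by
            apply lt_of_le_of_ne (Subgroup.card_le_of_le hIX')
            intro heq
            have : X ⊓ N = X' := Subgroup.eq_of_le_of_card_ge hIX' (le_of_eq heq.symm)
            have hx : x₂ ∈ X ⊓ N := by rw [this]; exact hx₂X'
            exact hx₂N (Subgroup.mem_inf.1 hx).2
          rw [hi, hl] at hlt
          have := (Nat.pow_lt_pow_iff_right h3).1 hlt
          omega
        have hX'X : X' = X := by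
          apply Subgroup.eq_of_le_of_card_ge (hX'def ▸ inf_le_left)
          rw [hXc, hl]
          exact Nat.pow_le_pow_right (by norm_num) hl2
        intro x hx
        have hx' : x ∈ X' := hX'X ▸ hx
        rw [hX'def] at hx'
        have := Subgroup.mem_centralizer_singleton_iff.1 (Subgroup.mem_inf.1 hx').2
        first | exact this | exact this.symm
  -- every X is connected to U
  have hconn : ∀ X : Subgroup P, Cfsg.IsElementaryAbelian 3 X → 3 ^ 2 ≤ Nat.card ↥X →
      Relation.ReflTransGen (fun A B : Subgroup P => Cfsg.IsElementaryAbelian 3 A ∧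
        3 ^ 2 ≤ Nat.card ↥A ∧ Cfsg.IsElementaryAbelian 3 B ∧ 3 ^ 2 ≤ Nat.card ↥B ∧
        ∀ a ∈ A, ∀ b ∈ B, a * b = b * a) X U := by
    intro X hX hXc
    refine (hU X hX hXc).2 ?_
    have hXea : KJ4.EA 3 X :=
      ⟨fun a ha b hb => congrArg Subtype.val (hX.1.is_comm.comm (⟨a, ha⟩ : X) ⟨b, hb⟩), hX.2⟩
    -- a big elementary abelian subgroup of the centralizer
    obtain ⟨B₀, hB₀C, hB₀ea, hB₀c⟩ : ∃ B₀ : Subgroup P,
        B₀ ≤ Subgroup.centralizer (X : Set P) ∧ KJ4.EA 3 B₀ ∧ 3 ^ 2 < Nat.card B₀ := by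
      by_cases hXc' : Nat.card X = 3 ^ 2
      · obtain ⟨n, hnN, hnX, hnnX⟩ := hkey X hXea hXc'
        have hn3 : n ^ 3 = 1 := hNea.2 n hnN
        refine ⟨X ⊔ Subgroup.zpowers n, ?_, ?_, ?_⟩
        · apply sup_le
          · intro x hx
            rw [Subgroup.mem_centralizer_iff]
            intro y hy
            exact hXea.1 y hy x hx
          · rw [Subgroup.zpowers_le, Subgroup.mem_centralizer_iff]
            intro y hy
            exact hnX y hy
        · apply KJ4.EA.sup hXea (KJ4.EA.zpowers hn3)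
          intro x hx y hy
          obtain ⟨i, rfl⟩ := Subgroup.mem_zpowers_iff.1 hy
          have c : Commute x n := hnX x hx
          exact (c.zpow_right i).eq
        · rw [← hXc']
          apply lt_of_le_of_ne (Subgroup.card_le_of_le le_sup_left)
          intro heq
          have : X = X ⊔ Subgroup.zpowers n :=
            Subgroup.eq_of_le_of_card_ge le_sup_left (le_of_eq heq.symm)
          apply hnnX
          rw [this]
          exact Subgroup.mem_sup_right (Subgroup.mem_zpowers n)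
      · refine ⟨X, ?_, hXea, lt_of_le_of_ne hXc (fun h => hXc' h.symm)⟩
        intro x hx
        rw [Subgroup.mem_centralizer_iff]
        intro y hy
        exact hXea.1 y hy x hx
    intro hle
    have := hle (B₀.subgroupOf (Subgroup.centralizer (X : Set P)))
      ⟨⟨fun a b => Subtype.ext (Subtype.ext (hB₀ea.1 a.1.1 a.2 b.1.1 b.2))⟩⟩
      (fun a ha => Subtype.ext (by
        rw [Subgroup.coe_pow, Subgroup.coe_one]
        exact hB₀ea.2 a.1 ha))
    have hcard : Nat.card (B₀.subgroupOf (Subgroup.centralizer (X : Set P))) = Nat.card B₀ :=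
      Nat.card_congr (Subgroup.subgroupOfEquivOfLe hB₀C).toEquiv
    rw [hcard] at this
    omega
  intro E E' hE hEc hE' hE'c
  have h1 := hconn E hE hEc
  have h2 := hconn E' hE' hE'c
  have hsymm : ∀ A B : Subgroup P, (Cfsg.IsElementaryAbelian 3 A ∧
        3 ^ 2 ≤ Nat.card ↥A ∧ Cfsg.IsElementaryAbelian 3 B ∧ 3 ^ 2 ≤ Nat.card ↥B ∧
        ∀ a ∈ A, ∀ b ∈ B, a * b = b * a) → (Cfsg.IsElementaryAbelian 3 B ∧
        3 ^ 2 ≤ Nat.card ↥B ∧ Cfsg.IsElementaryAbelian 3 A ∧ 3 ^ 2 ≤ Nat.card ↥A ∧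
        ∀ a ∈ B, ∀ b ∈ A, a * b = b * a) := by
    intro A B h
    exact ⟨h.2.2.1, h.2.2.2.1, h.1, h.2.1, fun b hb a ha => (h.2.2.2.2 a ha b hb).symm⟩
  have hsymmRT : ∀ A B : Subgroup P, Relation.ReflTransGen (fun A B : Subgroup P =>
        Cfsg.IsElementaryAbelian 3 A ∧
        3 ^ 2 ≤ Nat.card ↥A ∧ Cfsg.IsElementaryAbelian 3 B ∧ 3 ^ 2 ≤ Nat.card ↥B ∧
        ∀ a ∈ A, ∀ b ∈ B, a * b = b * a) A B → Relation.ReflTransGen (fun A B : Subgroup P =>
        Cfsg.IsElementaryAbelian 3 A ∧
        3 ^ 2 ≤ Nat.card ↥A ∧ Cfsg.IsElementaryAbelian 3 B ∧ 3 ^ 2 ≤ Nat.card ↥B ∧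
        ∀ a ∈ A, ∀ b ∈ B, a * b = b * a) B A := by
    intro A B h
    induction h with
    | refl => exact Relation.ReflTransGen.refl
    | tail _ hbc ih => exact Relation.ReflTransGen.head (hsymm _ _ hbc) ih
  exact h1.trans (hsymmRT _ _ h2)

end Cfsg.Agent.S1338
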