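import Mathlib
import Cfsg.Statements.S1339
import Cfsg.Agent.Lib.Helper7.FStarLocal2

set_option autoImplicit false
open Cfsg

namespace Cfsg.Agent.S1339

open Matrix

variable {F : Type*} [Field F] {n : ℕ}

/-- all rows except row `i` are those of the identity matrix -/
def IsA (i : Fin n) (M : Matrix (Fin n) (Fin n) F) : Prop :=
  ∀ k, k ≠ i → ∀ l, M k l = (1 : Matrix (Fin n) (Fin n) F) k l

theorem isA_one (i : Fin n) : IsA i (1 : Matrix (Fin n) (Fin n) F) := fun _ _ _ => rfl

theorem isA_mul {i : Fin n} {M N : Matrix (Fin n) (Fin n) F} (hM : IsA i M) (hN : IsA i N) :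
    IsA i (M * N) := by
  intro k hk l
  rw [Matrix.mul_apply]
  have : ∀ m ∈ Finset.univ, M k m * N m l = (1 : Matrix (Fin n) (Fin n) F) k m * N m l :=
    fun m _ => by rw [hM k hk m]
  rw [Finset.sum_congr rfl this, ← Matrix.mul_apply, Matrix.one_mul]
  exact hN k hk l

theorem isA_conj {i : Fin n} {Cm Ci M : Matrix (Fin n) (Fin n) F} (h1 : Cm * Ci = 1)
    (hC : ∀ k, k ≠ i → Cm k i = 0) (hM : IsA i M) : IsA i (Cm * M * Ci) := by
  intro k hk l
  have e : ∀ p, (Cm * M) k p = Cm k p := by
    intro p
    rw [Matrix.mul_apply]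
    have : ∀ m ∈ Finset.univ, Cm k m * M m p = Cm k m * (1 : Matrix (Fin n) (Fin n) F) m p := by
      intro m _
      by_cases hm : m = i
      · subst hm
        rw [hC k hk, zero_mul, zero_mul]
      · rw [hM m hm p]
    rw [Finset.sum_congr rfl this, ← Matrix.mul_apply, Matrix.mul_one]
  rw [Matrix.mul_apply]
  have : ∀ p ∈ Finset.univ, (Cm * M) k p * Ci p l = Cm k p * Ci p l := fun p _ => by rw [e p]
  rw [Finset.sum_congr rfl this, ← Matrix.mul_apply, h1]

theorem isA_sq {i : Fin n} {M : Matrix (Fin n) (Fin n) F} (h2 : (1 : F) + 1 = 0)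
    (hM : IsA i M) (hii : M i i = 1) : M * M = 1 := by
  ext k l
  by_cases hk : k = i
  · subst hk
    rw [Matrix.mul_apply]
    -- split off the term m = k
    rw [← Finset.add_sum_erase Finset.univ _ (Finset.mem_univ k)]
    have : ∀ m ∈ Finset.univ.erase k, M k m * M m l = M k m * (1 : Matrix (Fin n) (Fin n) F) m l := by
      intro m hm
      rw [hM m (Finset.ne_of_mem_erase hm) l]
    rw [Finset.sum_congr rfl this, hii, one_mul]
    by_cases hl : l = k
    · subst hl
      rw [hii, Matrix.one_apply_eq]
      have : ∀ m ∈ Finset.univ.erase l, M l m * (1 : Matrix (Fin n) (Fin n) F) m l = 0 := by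
        intro m hm
        rw [Matrix.one_apply_ne (Finset.ne_of_mem_erase hm), mul_zero]
      rw [Finset.sum_eq_zero this, add_zero]
    · rw [Matrix.one_apply_ne (Ne.symm hl)]
      rw [Finset.sum_eq_single l]
      · rw [Matrix.one_apply_eq, mul_one]
        calc M k l + M k l = M k l * (1 + 1) := by ring
          _ = 0 := by rw [h2, mul_zero]
      · intro m _ hml
        rw [Matrix.one_apply_ne hml, mul_zero]
      · intro h
        exact absurd (Finset.mem_erase.2 ⟨hl, Finset.mem_univ l⟩) h
  · exact isA_mul hM hM k hk l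

theorem comm_structure {i j : Fin n} {M : Matrix (Fin n) (Fin n) F}
    (h : M * Matrix.single i j (1 : F) = Matrix.single i j (1 : F) * M) :
    (∀ k, k ≠ i → M k i = 0) ∧ (∀ l, M j l = if l = j then M i i else 0) := by
  constructor
  · intro k hk
    have := congrFun (congrFun h k) j
    rw [Matrix.mul_single_apply_same, Matrix.single_mul_apply_of_ne (h := hk), mul_one] at this
    exact this
  · intro l
    have := congrFun (congrFun h i) l
    rw [Matrix.single_mul_apply_same, one_mul] at this
    rw [← this]
    by_cases hl : l = j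
    · subst hl
      rw [if_pos rfl, Matrix.mul_single_apply_same, mul_one]
    · rw [if_neg hl, Matrix.mul_single_apply_of_ne (hbj := hl)]

theorem field_two [Fintype F] [DecidableEq F] (hF : Fintype.card F = 2) :
    (∀ x : F, x = 0 ∨ x = 1) ∧ (1 : F) + 1 = 0 := by
  have h01 : ∀ x : F, x = 0 ∨ x = 1 := by
    intro x
    by_contra h
    rw [not_or] at h
    have hc : ({0, 1, x} : Finset F).card = 3 := by
      rw [Finset.card_insert_of_notMem, Finset.card_insert_of_notMem, Finset.card_singleton]
      · rw [Finset.mem_singleton]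
        exact Ne.symm h.2
      · rw [Finset.mem_insert, Finset.mem_singleton, not_or]
        exact ⟨zero_ne_one, Ne.symm h.1⟩
    have := Finset.card_le_univ ({0, 1, x} : Finset F)
    omega
  refine ⟨h01, ?_⟩
  rcases h01 (1 + 1) with h | h
  · exact h
  · exfalso
    have : (1 : F) = 0 := by linear_combination h
    exact one_ne_zero this

/-- Let F be a field with 2 elements, n ≥ 3, and t ∈ SL(n, F) a transvection (t = 1 + E_{ij}, i ≠ j). Then the generalized Fitting subgroup of C(t) is O_2(C(t)). -/
theorem result {F : Type*} [Field F] [Fintype F] [DecidableEq F] (hF : Fintype.card F = 2) (n : ℕ) (hn : 3 ≤ n) (i j : Fin n) (hij : i ≠ j) (t : Matrix.SpecialLinearGroup (Fin n) F) (ht : (t : Matrix (Fin n) (Fin n) F) = Matrix.transvection i j 1) : Cfsg.generalizedFittingSubgroup ↥(Subgroup.centralizer ({t} : Set (Matrix.SpecialLinearGroup (Fin n) F))) = Cfsg.pCore 2 ↥(Subgroup.centralizer ({t} : Set (Matrix.SpecialLinearGroup (Fin n) F))) := by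
  classical
  obtain ⟨h01, h2⟩ := field_two hF
  have htm : t = Matrix.SpecialLinearGroup.transvection hij (1 : F) := Subtype.ext ht
  -- structure of the elements of the centralizer
  have hCs : ∀ c : ↥(Subgroup.centralizer ({t} : Set (Matrix.SpecialLinearGroup (Fin n) F))),
      (∀ k, k ≠ i → c.1.1 k i = 0) ∧ (∀ l, c.1.1 j l = if l = j then c.1.1 i i else 0) := by
    intro c
    apply comm_structure
    have hc := Subgroup.mem_centralizer_singleton_iff.1 c.2
    have hm : c.1.1 * t.1 = t.1 * c.1.1 := by
      rw [← Matrix.SpecialLinearGroup.coe_mul, ← Matrix.SpecialLinearGroup.coe_mul, hc]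
    rw [ht, Matrix.transvection, mul_add, add_mul, mul_one, one_mul] at hm
    exact add_left_cancel hm
  have hCii : ∀ c : ↥(Subgroup.centralizer ({t} : Set (Matrix.SpecialLinearGroup (Fin n) F))),
      c.1.1 i i = 1 := by
    intro c
    have hinv : (c.1⁻¹).1 * c.1.1 = 1 := by
      rw [← Matrix.SpecialLinearGroup.coe_mul, inv_mul_cancel, Matrix.SpecialLinearGroup.coe_one]
    have := congrFun (congrFun hinv i) i
    rw [Matrix.mul_apply, Matrix.one_apply_eq, Finset.sum_eq_single i] at this
    · rcases h01 (c.1.1 i i) with h | h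
      · rw [h, mul_zero] at this
        exact absurd this zero_ne_one
      · exact h
    · intro k _ hk
      rw [(hCs c).1 k hk, mul_zero]
    · intro h
      exact absurd (Finset.mem_univ i) h
  have hsq : ∀ c : ↥(Subgroup.centralizer ({t} : Set (Matrix.SpecialLinearGroup (Fin n) F))),
      IsA i c.1.1 → c * c = 1 := by
    intro c hc
    apply Subtype.ext
    apply Subtype.ext
    show c.1.1 * c.1.1 = 1
    exact isA_sq h2 hc (hCii c)
  let A : Subgroup ↥(Subgroup.centralizer ({t} : Set (Matrix.SpecialLinearGroup (Fin n) F))) :=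
    { carrier := {c | IsA i c.1.1}
      one_mem' := isA_one i
      mul_mem' := by
        intro a b ha hb
        show IsA i (a.1.1 * b.1.1)
        exact isA_mul ha hb
      inv_mem' := by
        intro a ha
        have : a⁻¹ = a := (eq_inv_of_mul_eq_one_left (hsq a ha)).symm
        rw [Set.mem_ofPred_eq, this]
        exact ha }
  have memA : ∀ c, c ∈ A ↔ IsA i c.1.1 := fun c => Iff.rfl
  have hAn : A.Normal := by
    constructor
    intro a ha c
    rw [memA]
    show IsA i (c.1.1 * a.1.1 * (c.1⁻¹).1)
    apply isA_conj _ (hCs c).1 ha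
    rw [← Matrix.SpecialLinearGroup.coe_mul, mul_inv_cancel, Matrix.SpecialLinearGroup.coe_one]
  have hAp : IsPGroup 2 A := by
    intro a
    refine ⟨1, ?_⟩
    rw [pow_one, sq]
    apply Subtype.ext
    exact hsq a.1 a.2
  have hcent : ∀ c : ↥(Subgroup.centralizer ({t} : Set (Matrix.SpecialLinearGroup (Fin n) F))),
      (∀ a ∈ A, a * c = c * a) → c ∈ A := by
    intro c hc
    rw [memA]
    intro l hl m
    have hil : i ≠ l := Ne.symm hl
    have hAB : Matrix.single i l (1 : F) * Matrix.single i j (1 : F) = 0 :=
      Matrix.single_mul_single_of_ne (h := hl) ..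
    have hBA : Matrix.single i j (1 : F) * Matrix.single i l (1 : F) = 0 :=
      Matrix.single_mul_single_of_ne (h := Ne.symm hij) ..
    have hmem : Matrix.SpecialLinearGroup.transvection hil (1 : F) ∈
        Subgroup.centralizer ({t} : Set (Matrix.SpecialLinearGroup (Fin n) F)) := by
      rw [Subgroup.mem_centralizer_singleton_iff, htm]
      apply Subtype.ext
      rw [Matrix.SpecialLinearGroup.coe_mul, Matrix.SpecialLinearGroup.coe_mul,
        Matrix.SpecialLinearGroup.transvection_coe, Matrix.SpecialLinearGroup.transvection_coe]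
      calc (1 + Matrix.single i l (1 : F)) * (1 + Matrix.single i j (1 : F))
          = 1 + Matrix.single i l (1 : F) + Matrix.single i j (1 : F)
            + Matrix.single i l (1 : F) * Matrix.single i j (1 : F) := by noncomm_ring
        _ = 1 + Matrix.single i j (1 : F) + Matrix.single i l (1 : F)
            + Matrix.single i j (1 : F) * Matrix.single i l (1 : F) := by
              rw [hAB, hBA]
              abel
        _ = (1 + Matrix.single i j (1 : F)) * (1 + Matrix.single i l (1 : F)) := by noncomm_ring
    have hal : (⟨_, hmem⟩ : ↥(Subgroup.centralizer ({t} : Set (Matrix.SpecialLinearGroup (Fin n) F)))) ∈ A := by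
      rw [memA]
      intro k hk m'
      show (Matrix.SpecialLinearGroup.transvection hil (1 : F)).1 k m' = _
      rw [Matrix.SpecialLinearGroup.transvection_coe, Matrix.add_apply,
        Matrix.single_apply_of_ne, add_zero]
      rintro ⟨h, -⟩
      exact hk h.symm
    have hcomm := hc _ hal
    have hm : (Matrix.SpecialLinearGroup.transvection hil (1 : F)).1 * c.1.1 =
        c.1.1 * (Matrix.SpecialLinearGroup.transvection hil (1 : F)).1 := by
      have := congrArg (fun z : ↥(Subgroup.centralizer ({t} : Set (Matrix.SpecialLinearGroup (Fin n) F))) => z.1.1) hcomm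
      exact this
    rw [Matrix.SpecialLinearGroup.transvection_coe, mul_add, add_mul, mul_one, one_mul] at hm
    have hm' := (add_left_cancel hm).symm
    have hs := (comm_structure hm').2 m
    rw [hs, hCii c, Matrix.one_apply]
    by_cases hml : m = l
    · subst hml
      simp
    · simp [hml, Ne.symm hml]
  have : Fact (Nat.Prime 2) := ⟨Nat.prime_two⟩
  have hle : A ≤ Cfsg.pCore 2 ↥(Subgroup.centralizer ({t} : Set (Matrix.SpecialLinearGroup (Fin n) F))) :=
    Cfsg.Agent.Lib.Helper7.le_pCore hAn hAp
  have hchar : Cfsg.Agent.Lib.Helper7.IsCharP 2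
      ↥(Subgroup.centralizer ({t} : Set (Matrix.SpecialLinearGroup (Fin n) F))) := by
    intro x hx
    apply hle
    apply hcent
    intro a ha
    exact Subgroup.mem_centralizer_iff.1 hx a (hle ha)
  exact Cfsg.Agent.Lib.Helper7.fstar_eq_pCore_iff_isCharP.2 hchar

end Cfsg.Agent.S1339
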