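import Mathlib
import Cfsg.Statements.S1340
import Cfsg.Agent.Lib.Lead.PiCore
import Cfsg.Agent.H2.LayerQuotient
import Cfsg.Agent.H2.Quasisimple
import Cfsg.Agent.Lib.Lead.Quasisimple
import Cfsg.Agent.S0253
import Cfsg.Agent.S0249
import Cfsg.Agent.S0248

set_option autoImplicit false
open Cfsg

namespace Cfsg.Agent.S1340


section Part0
open Cfsg Matrix

section Block

variable {F : Type*} [Field F] {m : ℕ}

/-- block diagonal matrix `diag(a, B)` -/
def bd (a : F) (B : Matrix (Fin m) (Fin m) F) : Matrix (Fin (m + 1)) (Fin (m + 1)) F :=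
  Matrix.of fun i j =>
    Fin.cases (Fin.cases a (fun _ => 0) j) (fun i' => Fin.cases 0 (fun j' => B i' j') j) i

@[simp] lemma bd_zero_zero (a : F) (B : Matrix (Fin m) (Fin m) F) : bd a B 0 0 = a := rfl
@[simp] lemma bd_zero_succ (a : F) (B : Matrix (Fin m) (Fin m) F) (j : Fin m) :
    bd a B 0 j.succ = 0 := rfl
@[simp] lemma bd_succ_zero (a : F) (B : Matrix (Fin m) (Fin m) F) (i : Fin m) :
    bd a B i.succ 0 = 0 := rfl
@[simp] lemma bd_succ_succ (a : F) (B : Matrix (Fin m) (Fin m) F) (i j : Fin m) :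
    bd a B i.succ j.succ = B i j := rfl

lemma bd_mul (a a' : F) (B B' : Matrix (Fin m) (Fin m) F) :
    bd a B * bd a' B' = bd (a * a') (B * B') := by
  ext i j
  rw [Matrix.mul_apply, Fin.sum_univ_succ]
  refine Fin.cases ?_ (fun i' => ?_) i <;> refine Fin.cases ?_ (fun j' => ?_) j <;>
    simp [Matrix.mul_apply]

lemma bd_one : bd (1 : F) (1 : Matrix (Fin m) (Fin m) F) = 1 := by
  ext i j
  refine Fin.cases ?_ (fun i' => ?_) i <;> refine Fin.cases ?_ (fun j' => ?_) j <;>
    simp [Matrix.one_apply, Fin.succ_ne_zero, Ne.symm (Fin.succ_ne_zero _)]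

lemma bd_inj {a a' : F} {B B' : Matrix (Fin m) (Fin m) F} (h : bd a B = bd a' B') :
    a = a' ∧ B = B' := by
  refine ⟨?_, ?_⟩
  · have := congrFun (congrFun h 0) 0
    simpa using this
  · ext i j
    have := congrFun (congrFun h i.succ) j.succ
    simpa using this

lemma bd_eq_diagonal : bd (-1 : F) (1 : Matrix (Fin m) (Fin m) F) =
    Matrix.diagonal (Fin.cases (-1) (fun _ => 1)) := by
  ext i j
  refine Fin.cases ?_ (fun i' => ?_) i <;> refine Fin.cases ?_ (fun j' => ?_) j <;>
    simp [Matrix.one_apply, Matrix.diagonal_apply, Fin.succ_ne_zero, Ne.symm (Fin.succ_ne_zero _)]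

lemma eq_bd_of_comm (h2 : (2 : F) ≠ 0) (g : Matrix (Fin (m + 1)) (Fin (m + 1)) F)
    (h : g * bd (-1) 1 = bd (-1) 1 * g) :
    g = bd (g 0 0) (g.submatrix Fin.succ Fin.succ) := by
  rw [bd_eq_diagonal] at h
  have key : ∀ i j, g i j * (Fin.cases (-1) (fun _ => 1) j : F) =
      (Fin.cases (-1) (fun _ => 1) i : F) * g i j := by
    intro i j
    have := congrFun (congrFun h i) j
    rwa [Matrix.mul_diagonal, Matrix.diagonal_mul] at this
  ext i j
  refine Fin.cases ?_ (fun i' => ?_) i <;> refine Fin.cases ?_ (fun j' => ?_) j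
  · simp
  · have := key 0 j'.succ
    simp only [Fin.cases_zero, Fin.cases_succ] at this
    have h3 : (2 : F) * g 0 j'.succ = 0 := by linear_combination this
    rw [bd_zero_succ]
    exact (mul_eq_zero.1 h3).resolve_left h2
  · have := key i'.succ 0
    simp only [Fin.cases_zero, Fin.cases_succ] at this
    have h3 : (2 : F) * g i'.succ 0 = 0 := by linear_combination -this
    rw [bd_succ_zero]
    exact (mul_eq_zero.1 h3).resolve_left h2
  · simp

end Block

end Part0

section Part1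
open Cfsg Matrix

section Grp

variable {F : Type*} [Field F] {m : ℕ}

/-- the involution `diag(-1, 1, …, 1)` -/
def tt (F : Type*) [Field F] (m : ℕ) : Matrix.GeneralLinearGroup (Fin (m + 1)) F :=
  ⟨bd (-1) 1, bd (-1) 1, by rw [bd_mul]; simp [bd_one], by rw [bd_mul]; simp [bd_one]⟩

lemma tt_coe : ((tt F m : Matrix.GeneralLinearGroup (Fin (m + 1)) F) :
    Matrix (Fin (m + 1)) (Fin (m + 1)) F) = bd (-1) 1 := rfl

/-- the embedding of `SL_m` as the lower right block -/
def iota (F : Type*) [Field F] (m : ℕ) :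
    Matrix.SpecialLinearGroup (Fin m) F →* Matrix.GeneralLinearGroup (Fin (m + 1)) F where
  toFun A := ⟨bd 1 A.1, bd 1 (A⁻¹).1,
    by rw [bd_mul, one_mul, ← Matrix.SpecialLinearGroup.coe_mul, mul_inv_cancel,
      Matrix.SpecialLinearGroup.coe_one, bd_one],
    by rw [bd_mul, one_mul, ← Matrix.SpecialLinearGroup.coe_mul, inv_mul_cancel,
      Matrix.SpecialLinearGroup.coe_one, bd_one]⟩
  map_one' := Units.ext (by show bd 1 (1 : Matrix.SpecialLinearGroup (Fin m) F).1 = 1; rw [Matrix.SpecialLinearGroup.coe_one, bd_one])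
  map_mul' A B := Units.ext (by
    show bd 1 (A * B : Matrix.SpecialLinearGroup (Fin m) F).1 = bd 1 A.1 * bd 1 B.1
    rw [bd_mul, one_mul, Matrix.SpecialLinearGroup.coe_mul])

lemma iota_coe (A : Matrix.SpecialLinearGroup (Fin m) F) :
    ((iota F m A : Matrix.GeneralLinearGroup (Fin (m + 1)) F) :
      Matrix (Fin (m + 1)) (Fin (m + 1)) F) = bd 1 A.1 := rfl

lemma iota_injective : Function.Injective (iota F m) := by
  intro A B h
  have h1 : bd (1 : F) A.1 = bd 1 B.1 := congrArg (fun g : Matrix.GeneralLinearGroup (Fin (m + 1)) F =>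
    (g : Matrix (Fin (m + 1)) (Fin (m + 1)) F)) h
  exact Subtype.ext (bd_inj h1).2

lemma iota_mem (A : Matrix.SpecialLinearGroup (Fin m) F) :
    iota F m A ∈ Subgroup.centralizer ({tt F m} : Set (Matrix.GeneralLinearGroup (Fin (m + 1)) F)) := by
  rw [Subgroup.mem_centralizer_singleton_iff]
  apply Units.ext
  show bd 1 A.1 * bd (-1) 1 = bd (-1) 1 * bd 1 A.1
  rw [bd_mul, bd_mul]; simp

/-- conjugates of the block `SL_m` by elements of the centralizer stay in the block -/
lemma conj_mem_range (h2 : (2 : F) ≠ 0) (g : Matrix.GeneralLinearGroup (Fin (m + 1)) F)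
    (hg : g ∈ Subgroup.centralizer ({tt F m} : Set (Matrix.GeneralLinearGroup (Fin (m + 1)) F)))
    (A : Matrix.SpecialLinearGroup (Fin m) F) :
    ∃ A' : Matrix.SpecialLinearGroup (Fin m) F, iota F m A' = g * iota F m A * g⁻¹ := by
  have hg' : g⁻¹ ∈ Subgroup.centralizer ({tt F m} : Set (Matrix.GeneralLinearGroup (Fin (m + 1)) F)) :=
    Subgroup.inv_mem _ hg
  rw [Subgroup.mem_centralizer_singleton_iff] at hg hg'
  have e1 : (g : Matrix (Fin (m + 1)) (Fin (m + 1)) F) * bd (-1) 1 =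
      bd (-1) 1 * (g : Matrix (Fin (m + 1)) (Fin (m + 1)) F) := by
    have := congrArg (fun x : Matrix.GeneralLinearGroup (Fin (m + 1)) F =>
      (x : Matrix (Fin (m + 1)) (Fin (m + 1)) F)) hg
    exact this
  have e2 : ((g⁻¹ : Matrix.GeneralLinearGroup (Fin (m + 1)) F) : Matrix (Fin (m + 1)) (Fin (m + 1)) F) *
      bd (-1) 1 = bd (-1) 1 * ((g⁻¹ : Matrix.GeneralLinearGroup (Fin (m + 1)) F) :
        Matrix (Fin (m + 1)) (Fin (m + 1)) F) := by
    have := congrArg (fun x : Matrix.GeneralLinearGroup (Fin (m + 1)) F =>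
      (x : Matrix (Fin (m + 1)) (Fin (m + 1)) F)) hg'
    exact this
  have f1 := eq_bd_of_comm h2 _ e1
  have f2 := eq_bd_of_comm h2 _ e2
  set a := (g : Matrix (Fin (m + 1)) (Fin (m + 1)) F) 0 0
  set B := (g : Matrix (Fin (m + 1)) (Fin (m + 1)) F).submatrix Fin.succ Fin.succ
  set a' := ((g⁻¹ : Matrix.GeneralLinearGroup (Fin (m + 1)) F) : Matrix (Fin (m + 1)) (Fin (m + 1)) F) 0 0
  set B' := ((g⁻¹ : Matrix.GeneralLinearGroup (Fin (m + 1)) F) :
    Matrix (Fin (m + 1)) (Fin (m + 1)) F).submatrix Fin.succ Fin.succ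
  have hone : (g : Matrix (Fin (m + 1)) (Fin (m + 1)) F) *
      ((g⁻¹ : Matrix.GeneralLinearGroup (Fin (m + 1)) F) : Matrix (Fin (m + 1)) (Fin (m + 1)) F) = 1 := by
    rw [← Units.val_mul, mul_inv_cancel]; rfl
  rw [f1, f2, bd_mul, ← bd_one] at hone
  obtain ⟨haa, hBB⟩ := bd_inj hone
  have hdet : (B * A.1 * B').det = 1 := by
    rw [Matrix.det_mul, Matrix.det_mul, A.2, mul_one, ← Matrix.det_mul, hBB, Matrix.det_one]
  refine ⟨⟨B * A.1 * B', hdet⟩, ?_⟩
  apply Units.ext
  show bd 1 (B * A.1 * B') = (g : Matrix (Fin (m + 1)) (Fin (m + 1)) F) * bd 1 A.1 *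
    ((g⁻¹ : Matrix.GeneralLinearGroup (Fin (m + 1)) F) : Matrix (Fin (m + 1)) (Fin (m + 1)) F)
  rw [f1, f2, bd_mul, bd_mul, mul_one, haa]

end Grp

end Part1

section Part2
open Cfsg Matrix

section Abstract

/-- a normal injective image of a quasisimple group of even order gives a component modulo the
core -/
lemma hasComponent_of_hom {S H : Type*} [Group S] [Group H] [Finite H]
    (hS : Cfsg.IsQuasisimple S) (f : S →* H) (hf : Function.Injective f) (hn : f.range.Normal)
    (s : S) (hs : orderOf s = 2) : Cfsg.HasComponent (H ⧸ Cfsg.oddCore H) := by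
  let φ : S →* H ⧸ Cfsg.oddCore H := (QuotientGroup.mk' (Cfsg.oddCore H)).comp f
  have hrange : φ.range = f.range.map (QuotientGroup.mk' (Cfsg.oddCore H)) := by
    rw [MonoidHom.range_eq_map, MonoidHom.range_eq_map, Subgroup.map_map]
  have hnorm : φ.range.Normal := by
    rw [hrange]
    exact Subgroup.Normal.map hn _ (QuotientGroup.mk'_surjective _)
  refine ⟨φ.range, hnorm.isSubnormal, ?_⟩
  rcases Cfsg.Agent.H2.IsQuasisimple.eq_top_or_le_center hS φ.ker
    (MonoidHom.normal_ker φ).isSubnormal with h | h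
  · exfalso
    have h1 : s ∈ φ.ker := by rw [h]; trivial
    rw [MonoidHom.mem_ker] at h1
    have h2 : f s ∈ Cfsg.oddCore H := by
      have : QuotientGroup.mk' (Cfsg.oddCore H) (f s) = 1 := h1
      rwa [QuotientGroup.mk'_apply, QuotientGroup.eq_one_iff] at this
    have h3 : orderOf (f s) = 2 := by rw [orderOf_injective f hf, hs]
    have h4 : orderOf (⟨f s, h2⟩ : Cfsg.oddCore H) = 2 := by
      rw [← h3]; exact (Subgroup.orderOf_coe (⟨f s, h2⟩ : Cfsg.oddCore H)).symm
    have h5 : 2 ∣ Nat.card (Cfsg.oddCore H) := by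
      rw [← h4]; exact orderOf_dvd_natCard _
    have h6 := Cfsg.Agent.Lib.Lead.PiCore.pPrimeCore_coprime (G := H) Nat.prime_two
    have h7 : (2 : ℕ) ∣ 1 := by
      have := Nat.dvd_gcd h5 (dvd_refl 2)
      rwa [Nat.Coprime.gcd_eq_one h6] at this
    omega
  · haveI := MonoidHom.normal_ker φ
    have hq := Cfsg.Agent.H2.isQuasisimple_quotient_of_le_center hS φ.ker h
    exact Cfsg.Agent.Lib.Lead.Quasisimple.of_mulEquiv (QuotientGroup.quotientKerEquivRange φ) hq

end Abstract

end Part2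

section Part3
open Cfsg Matrix

section Fin

variable {F : Type*} [Field F] [Fintype F]

lemma two_ne_zero'' (hF : Odd (Fintype.card F)) : (2 : F) ≠ 0 := by
  apply Ring.two_ne_zero
  intro h
  have := FiniteField.even_card_of_char_two h
  rw [Nat.odd_iff] at hF
  omega

/-- `SL_m(F)` is quasisimple for `m ≥ 3`, or `m = 2` and `|F| ≥ 5` odd -/
lemma sl_quasisimple (hF : Odd (Fintype.card F)) (m : ℕ) (hm : 2 ≤ m)
    (h23 : ¬ (m = 2 ∧ Fintype.card F = 3)) :
    Cfsg.IsQuasisimple (Matrix.SpecialLinearGroup (Fin m) F) := by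
  classical
  by_cases h3 : 3 ≤ m
  · exact ⟨⟨Cfsg.Agent.S0248.result m h3⟩, Cfsg.Agent.S0249.result m h3⟩
  · have hm2 : m = 2 := by omega
    subst hm2
    have hcard : 3 < Fintype.card F := by
      have h1 : 1 < Fintype.card F := Fintype.one_lt_card
      have h2 : Fintype.card F ≠ 3 := fun h => h23 ⟨rfl, h⟩
      obtain ⟨k, hk⟩ := hF
      omega
    have hx : ∃ x : F, x ≠ 0 ∧ x ^ 2 ≠ 1 := by
      have hs : ({0, 1, -1} : Finset F).card < (Finset.univ : Finset F).card := by
        calc ({0, 1, -1} : Finset F).card ≤ 3 := Finset.card_le_three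
          _ < _ := by rw [Finset.card_univ]; exact hcard
      obtain ⟨x, -, hx⟩ := Finset.exists_mem_notMem_of_card_lt_card hs
      simp only [Finset.mem_insert, Finset.mem_singleton, not_or] at hx
      refine ⟨x, hx.1, ?_⟩
      intro h
      have : (x - 1) * (x + 1) = 0 := by linear_combination h
      rcases mul_eq_zero.1 this with h' | h'
      · exact hx.2.1 (by linear_combination h')
      · exact hx.2.2 (by linear_combination h')
    refine ⟨⟨Cfsg.Agent.Lib.Helper5.SLn.commutator_eq_top (Or.inr hx)⟩, ?_⟩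
    exact Cfsg.Agent.S0253.psl_two_simple hx

/-- an involution of `SL_{m+2}(F)` -/
lemma exists_involution (hF : Odd (Fintype.card F)) (m : ℕ) :
    ∃ s : Matrix.SpecialLinearGroup (Fin (m + 2)) F, orderOf s = 2 := by
  classical
  have h2 := two_ne_zero'' hF
  let d : Fin (m + 2) → F := Fin.cons (-1) (Fin.cons (-1) (fun _ => 1))
  have hdet : (Matrix.diagonal d).det = 1 := by
    rw [Matrix.det_diagonal, Fin.prod_univ_succ, Fin.prod_univ_succ]
    simp [d]
  set s : Matrix.SpecialLinearGroup (Fin (m + 2)) F := ⟨Matrix.diagonal d, hdet⟩ with hs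
  have hs1 : (s : Matrix (Fin (m + 2)) (Fin (m + 2)) F) = Matrix.diagonal d := rfl
  refine ⟨s, ?_⟩
  apply orderOf_eq_prime
  · apply Subtype.ext
    rw [Matrix.SpecialLinearGroup.coe_pow, Matrix.SpecialLinearGroup.coe_one, hs1]
    rw [Matrix.diagonal_pow, ← Matrix.diagonal_one]
    congr 1
    funext i
    refine Fin.cases ?_ (fun i' => ?_) i
    · simp [d]
    · refine Fin.cases ?_ (fun i'' => ?_) i'
      · simp [d]
      · simp [d]
  · intro h
    have h1 := congrArg (fun s : Matrix.SpecialLinearGroup (Fin (m + 2)) F => s.1 0 0) h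
    simp only [Matrix.SpecialLinearGroup.coe_one, hs1, Matrix.diagonal_apply_eq, Matrix.one_apply_eq] at h1
    have h3 : d 0 = -1 := rfl
    rw [h3] at h1
    apply h2
    linear_combination -h1

end Fin

end Part3

section Part4
open Cfsg Matrix

section Final

variable {F : Type*} [Field F] [Fintype F] [DecidableEq F]

lemma tt_order (hF : Odd (Fintype.card F)) (m : ℕ) : orderOf (tt F m) = 2 := by
  have h2 := two_ne_zero'' hF
  apply orderOf_eq_prime
  · apply Units.ext
    rw [Units.val_pow_eq_pow_val, tt_coe, pow_two, bd_mul]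
    simp [bd_one]
  · intro h
    have h1 := congrArg (fun g : Matrix.GeneralLinearGroup (Fin (m + 1)) F =>
      (g : Matrix (Fin (m + 1)) (Fin (m + 1)) F) 0 0) h
    simp only [tt_coe, bd_zero_zero, Units.val_one, Matrix.one_apply_eq] at h1
    apply h2
    linear_combination -h1

lemma tt_not_central (hF : Odd (Fintype.card F)) (m : ℕ) :
    tt F (m + 1) ∉ Subgroup.center (Matrix.GeneralLinearGroup (Fin (m + 1 + 1)) F) := by
  have h2 := two_ne_zero'' hF
  intro hc
  rw [Subgroup.mem_center_iff] at hc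
  let E : Matrix.GeneralLinearGroup (Fin (m + 1 + 1)) F :=
    Matrix.GeneralLinearGroup.mkOfDetNeZero (Matrix.transvection (0 : Fin (m + 1 + 1)) (Fin.succ 0) 1)
      (by rw [Matrix.det_transvection_of_ne _ _ (Fin.succ_ne_zero _).symm]; exact one_ne_zero)
  have h1 := hc E
  have h3 : (E : Matrix (Fin (m + 1 + 1)) (Fin (m + 1 + 1)) F) * bd (-1) 1 =
      bd (-1) 1 * (E : Matrix (Fin (m + 1 + 1)) (Fin (m + 1 + 1)) F) := by
    have := congrArg (fun x : Matrix.GeneralLinearGroup (Fin (m + 1 + 1)) F =>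
      (x : Matrix (Fin (m + 1 + 1)) (Fin (m + 1 + 1)) F)) h1
    exact this
  have h4 := eq_bd_of_comm h2 _ h3
  have h5 := congrFun (congrFun h4 0) (Fin.succ 0)
  rw [bd_zero_succ] at h5
  have h6 : (E : Matrix (Fin (m + 1 + 1)) (Fin (m + 1 + 1)) F) 0 (Fin.succ 0) = 1 := by
    show Matrix.transvection (0 : Fin (m + 1 + 1)) (Fin.succ 0) (1 : F) 0 (Fin.succ 0) = 1
    simp [Matrix.transvection, Matrix.one_apply, (Fin.succ_ne_zero (0 : Fin (m + 1))).symm]
  rw [h6] at h5
  exact one_ne_zero h5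

theorem result {F : Type*} [Field F] [Fintype F] [DecidableEq F] (hF : Odd (Fintype.card F)) (n : ℕ) (hn : 3 ≤ n) (h33 : ¬ (n = 3 ∧ Fintype.card F = 3)) : ∃ t : Matrix.GeneralLinearGroup (Fin n) F, orderOf t = 2 ∧ t ∉ Subgroup.center (Matrix.GeneralLinearGroup (Fin n) F) ∧ Cfsg.HasComponent (↥(Subgroup.centralizer ({t} : Set (Matrix.GeneralLinearGroup (Fin n) F))) ⧸ Cfsg.oddCore ↥(Subgroup.centralizer ({t} : Set (Matrix.GeneralLinearGroup (Fin n) F)))) := by
  obtain ⟨m, rfl⟩ : ∃ m, n = m + 2 + 1 := ⟨n - 3, by omega⟩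
  have h2 := two_ne_zero'' hF
  refine ⟨tt F (m + 2), tt_order hF _, tt_not_central hF (m + 1), ?_⟩
  have hS : Cfsg.IsQuasisimple (Matrix.SpecialLinearGroup (Fin (m + 2)) F) :=
    sl_quasisimple hF (m + 2) (by omega) (fun h => h33 ⟨by omega, h.2⟩)
  obtain ⟨s, hs⟩ := exists_involution hF m
  let f : Matrix.SpecialLinearGroup (Fin (m + 2)) F →*
      ↥(Subgroup.centralizer ({tt F (m + 2)} : Set (Matrix.GeneralLinearGroup (Fin (m + 2 + 1)) F))) :=
    (iota F (m + 2)).codRestrict _ iota_mem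
  have hf : Function.Injective f := by
    intro A B h
    apply iota_injective
    exact congrArg Subtype.val h
  have hn' : f.range.Normal := by
    refine ⟨fun x hx g => ?_⟩
    obtain ⟨A, rfl⟩ := hx
    obtain ⟨A', hA'⟩ := conj_mem_range h2 g.1 g.2 A
    refine ⟨A', ?_⟩
    apply Subtype.ext
    exact hA'
  exact hasComponent_of_hom hS f hf hn' s hs

end Final

end Part4

end Cfsg.Agent.S1340
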