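import Mathlib
import Cfsg.Statements.S1342
import Cfsg.Agent.H2.ExtLayer

set_option autoImplicit false

namespace Cfsg.Agent.S1342

open Cfsg.Agent.H2

theorem extendedTwoLayer_eq {X : Type*} [Group X] :
    Cfsg.extendedTwoLayer X = Cfsg.pLayer 2 X ⊔ Cfsg.oddCore X ⊔
      ⨆ T : Sylow 2 ↥(Cfsg.pLayer 2 X ⊔ Cfsg.pPrimePCore 2 X),
        pPrimeCoreCentralizer 2 ((T : Subgroup ↥(Cfsg.pLayer 2 X ⊔ Cfsg.pPrimePCore 2 X)).map
          (Cfsg.pLayer 2 X ⊔ Cfsg.pPrimePCore 2 X).subtype) := rfl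

/-- For a finite group X, L*_{2'}(X) is normal in X. -/
theorem result {X : Type*} [Group X] [Finite X] : (Cfsg.extendedTwoLayer X).Normal := by
  have hLn : (Cfsg.pLayer 2 X).Normal := pLayer_normal 2
  have hMn : (Cfsg.pLayer 2 X ⊔ Cfsg.pPrimePCore 2 X).Normal := inferInstance
  apply normal_of_forall_map_conj_le
  intro g
  rw [extendedTwoLayer_eq, Subgroup.map_sup, Subgroup.map_sup, Subgroup.map_iSup]
  refine sup_le (sup_le ?_ ?_) ?_
  · rw [pLayer_map_equiv 2 (MulAut.conj g)]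
    exact le_sup_left.trans le_sup_left
  · have : (Cfsg.oddCore X).map (MulAut.conj g).toMonoidHom = Cfsg.oddCore X :=
      pPrimeCore_map_equiv 2 (MulAut.conj g)
    rw [this]
    exact le_sup_right.trans le_sup_left
  · apply iSup_le
    intro T
    obtain ⟨T', hT'⟩ := exists_sylow_map_conj (Cfsg.pLayer 2 X ⊔ Cfsg.pPrimePCore 2 X) T g
    rw [pPrimeCoreCentralizer_map_equiv, ← hT']
    exact le_trans (le_iSup (fun T : Sylow 2 ↥(Cfsg.pLayer 2 X ⊔ Cfsg.pPrimePCore 2 X) =>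
      pPrimeCoreCentralizer 2 ((T : Subgroup ↥(Cfsg.pLayer 2 X ⊔ Cfsg.pPrimePCore 2 X)).map
          (Cfsg.pLayer 2 X ⊔ Cfsg.pPrimePCore 2 X).subtype)) T') le_sup_right

end Cfsg.Agent.S1342
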