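import Mathlib
import Cfsg.Statements.S1341
import Cfsg.Agent.H2.ExtLayer
import Cfsg.Agent.S1342

set_option autoImplicit false

namespace Cfsg.Agent.S1341

open Cfsg.Agent.H2 Cfsg.Agent.Lib.Helper7

/-- the subgroup `L_{2'}(X) O(X) O(C_X(T))` is normalized by `L_{2'}(X) O_{2',2}(X)` -/
theorem le_normalizer_aux {X : Type*} [Group X] [Finite X]
    (T : Sylow 2 ↥(Cfsg.pLayer 2 X ⊔ Cfsg.pPrimePCore 2 X)) :
    Cfsg.pLayer 2 X ⊔ Cfsg.pPrimePCore 2 X ≤ Subgroup.normalizer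
      ((Cfsg.pLayer 2 X ⊔ Cfsg.oddCore X ⊔
        pPrimeCoreCentralizer 2 ((T : Subgroup ↥(Cfsg.pLayer 2 X ⊔ Cfsg.pPrimePCore 2 X)).map
          (Cfsg.pLayer 2 X ⊔ Cfsg.pPrimePCore 2 X).subtype) : Subgroup X) : Set X) := by
  have hLn : (Cfsg.pLayer 2 X).Normal := pLayer_normal 2
  have hOn : (Cfsg.oddCore X).Normal := Cfsg.Agent.H1.pPrimeCore_normal 2
  have hT := IsSylowIn.of_sylow T
  -- T normalizes W
  have hTW : (T : Subgroup ↥(Cfsg.pLayer 2 X ⊔ Cfsg.pPrimePCore 2 X)).map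
      (Cfsg.pLayer 2 X ⊔ Cfsg.pPrimePCore 2 X).subtype ≤ Subgroup.normalizer
      ((Cfsg.pLayer 2 X ⊔ Cfsg.oddCore X ⊔
        pPrimeCoreCentralizer 2 ((T : Subgroup ↥(Cfsg.pLayer 2 X ⊔ Cfsg.pPrimePCore 2 X)).map
          (Cfsg.pLayer 2 X ⊔ Cfsg.pPrimePCore 2 X).subtype) : Subgroup X) : Set X) := by
    refine le_trans ?_ (normalizer_inf_le_normalizer_sup _ _)
    refine le_inf (le_trans ?_ (normalizer_inf_le_normalizer_sup _ _)) ?_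
    · rw [Subgroup.normalizer_eq_top_iff.2 hLn, Subgroup.normalizer_eq_top_iff.2 hOn, inf_idem]
      exact le_top
    · refine le_trans ?_ (Subgroup.centralizer_le_normalizer _)
      rw [Subgroup.le_centralizer_iff]
      exact pPrimeCoreOf_le 2 _
  refine sup_le ?_ ?_
  · exact (le_sup_left.trans le_sup_left).trans Subgroup.le_normalizer
  · refine (pPrimePCore_le_sup_of_isSylowIn 2 hT le_sup_right).trans (sup_le ?_ hTW)
    exact (le_sup_right.trans le_sup_left).trans Subgroup.le_normalizer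

/-- Let X be finite and T a Sylow 2-subgroup of L_{2'}(X) O_{2',2}(X). Then L*_{2'}(X) = L_{2'}(X) ⊔ O(X) ⊔ O(C_X(T)). -/
theorem result {X : Type*} [Group X] [Finite X] (T : Sylow 2 ↥(Cfsg.pLayer 2 X ⊔ Cfsg.pPrimePCore 2 X)) : Cfsg.extendedTwoLayer X = Cfsg.pLayer 2 X ⊔ Cfsg.oddCore X ⊔ ((Cfsg.oddCore ↥(Subgroup.centralizer (((T : Subgroup ↥(Cfsg.pLayer 2 X ⊔ Cfsg.pPrimePCore 2 X)).map (Cfsg.pLayer 2 X ⊔ Cfsg.pPrimePCore 2 X).subtype : Subgroup X) : Set X))).map (Subgroup.centralizer (((T : Subgroup ↥(Cfsg.pLayer 2 X ⊔ Cfsg.pPrimePCore 2 X)).map (Cfsg.pLayer 2 X ⊔ Cfsg.pPrimePCore 2 X).subtype : Subgroup X) : Set X)).subtype) := by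
  show Cfsg.extendedTwoLayer X = Cfsg.pLayer 2 X ⊔ Cfsg.oddCore X ⊔
    pPrimeCoreCentralizer 2 ((T : Subgroup ↥(Cfsg.pLayer 2 X ⊔ Cfsg.pPrimePCore 2 X)).map
          (Cfsg.pLayer 2 X ⊔ Cfsg.pPrimePCore 2 X).subtype)
  rw [Cfsg.Agent.S1342.extendedTwoLayer_eq]
  apply le_antisymm
  · refine sup_le le_sup_left (iSup_le fun T' => ?_)
    obtain ⟨h, hh, hT'⟩ := (IsSylowIn.of_sylow T).conj (IsSylowIn.of_sylow T')
    rw [hT', ← pPrimeCoreCentralizer_map_equiv]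
    have h1 := (map_conj_eq_self_iff_mem_normalizer _ h).2 (le_normalizer_aux T hh)
    calc (pPrimeCoreCentralizer 2 ((T : Subgroup ↥(Cfsg.pLayer 2 X ⊔ Cfsg.pPrimePCore 2 X)).map
          (Cfsg.pLayer 2 X ⊔ Cfsg.pPrimePCore 2 X).subtype)).map (MulAut.conj h).toMonoidHom
        ≤ (Cfsg.pLayer 2 X ⊔ Cfsg.oddCore X ⊔
          pPrimeCoreCentralizer 2 ((T : Subgroup ↥(Cfsg.pLayer 2 X ⊔ Cfsg.pPrimePCore 2 X)).map
          (Cfsg.pLayer 2 X ⊔ Cfsg.pPrimePCore 2 X).subtype)).map (MulAut.conj h).toMonoidHom :=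
          Subgroup.map_mono le_sup_right
      _ = _ := h1
  · exact sup_le_sup_left (le_iSup (fun T : Sylow 2 ↥(Cfsg.pLayer 2 X ⊔ Cfsg.pPrimePCore 2 X) =>
      pPrimeCoreCentralizer 2 ((T : Subgroup ↥(Cfsg.pLayer 2 X ⊔ Cfsg.pPrimePCore 2 X)).map
          (Cfsg.pLayer 2 X ⊔ Cfsg.pPrimePCore 2 X).subtype)) T) _

end Cfsg.Agent.S1341
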