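import Mathlib
import Cfsg.Statements.S1343
import Cfsg.Agent.H2.ExtLayer
import Cfsg.Agent.S1341

set_option autoImplicit false

namespace Cfsg.Agent.S1343

open Cfsg.Agent.H2 Cfsg.Agent.Lib.Helper7

/-- Let X be finite. Then L*_{2'}(X) = L_{2'}(X) ⊔ F for some subgroup F of odd order normalized by a Sylow 2-subgroup of X. -/
theorem result {X : Type*} [Group X] [Finite X] : ∃ F : Subgroup X, Odd (Nat.card ↥F) ∧ (∃ S : Sylow 2 X, (S : Subgroup X) ≤ Subgroup.normalizer (F : Set X)) ∧ Cfsg.extendedTwoLayer X = Cfsg.pLayer 2 X ⊔ F := by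
  have hLn : (Cfsg.pLayer 2 X).Normal := pLayer_normal 2
  have hMn : (Cfsg.pLayer 2 X ⊔ Cfsg.pPrimePCore 2 X).Normal := inferInstance
  have hOn : (Cfsg.oddCore X).Normal := Cfsg.Agent.H1.pPrimeCore_normal 2
  obtain ⟨S⟩ : Nonempty (Sylow 2 X) := inferInstance
  have hSM : IsSylowIn 2 ((S : Subgroup X) ⊓ (Cfsg.pLayer 2 X ⊔ Cfsg.pPrimePCore 2 X))
      (Cfsg.pLayer 2 X ⊔ Cfsg.pPrimePCore 2 X) :=
    (IsSylowIn.of_sylow_top S).inf_normal _ le_top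
      (by rw [Subgroup.normalizer_eq_top_iff.2 hMn])
  obtain ⟨T, hT⟩ := hSM.exists_sylow
  have hThat : (T : Subgroup ↥(Cfsg.pLayer 2 X ⊔ Cfsg.pPrimePCore 2 X)).map
      (Cfsg.pLayer 2 X ⊔ Cfsg.pPrimePCore 2 X).subtype =
      (S : Subgroup X) ⊓ (Cfsg.pLayer 2 X ⊔ Cfsg.pPrimePCore 2 X) := by
    rw [hT, Subgroup.subgroupOf_map_subtype, inf_assoc, inf_idem]
  have h41 : Cfsg.extendedTwoLayer X = Cfsg.pLayer 2 X ⊔ Cfsg.oddCore X ⊔
      pPrimeCoreCentralizer 2 ((T : Subgroup ↥(Cfsg.pLayer 2 X ⊔ Cfsg.pPrimePCore 2 X)).map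
          (Cfsg.pLayer 2 X ⊔ Cfsg.pPrimePCore 2 X).subtype) := Cfsg.Agent.S1341.result T
  rw [hThat] at h41
  refine ⟨Cfsg.oddCore X ⊔ pPrimeCoreCentralizer 2
    ((S : Subgroup X) ⊓ (Cfsg.pLayer 2 X ⊔ Cfsg.pPrimePCore 2 X)), ?_, ⟨S, ?_⟩, ?_⟩
  · rw [← Nat.coprime_two_right, sup_comm]
    apply Nat.Coprime.coprime_dvd_left (Cfsg.Agent.H1.card_sup_dvd_of_normal _ _)
    exact Nat.Coprime.mul_left (pPrimeCoreOf_coprime 2 _) (Cfsg.Agent.H1.pPrimeCore_coprime 2)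
  · refine le_trans ?_ (normalizer_inf_le_normalizer_sup _ _)
    refine le_inf ?_ ?_
    · rw [Subgroup.normalizer_eq_top_iff.2 hOn]; exact le_top
    · intro s hs
      rw [← map_conj_eq_self_iff_mem_normalizer, pPrimeCoreCentralizer_map_equiv]
      congr 1
      rw [map_conj_eq_self_iff_mem_normalizer]
      apply normalizer_inf_le_normalizer_inf
      refine ⟨Subgroup.le_normalizer hs, ?_⟩
      rw [Subgroup.normalizer_eq_top_iff.2 hMn]; trivial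
  · rw [h41, sup_assoc]

end Cfsg.Agent.S1343
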