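import Mathlib
import Cfsg.Statements.S1344
import Cfsg.Agent.H2.PComponentSylow
import Cfsg.Agent.S1342

set_option autoImplicit false

namespace Cfsg.Agent.S1344

open Cfsg.Agent.H2 Cfsg.Agent.Lib.Helper7

/-- Let K be a 2-component of the finite group X. Then K ≤ L*_{2'}(X) and K is normal in L*_{2'}(X). -/
theorem result {X : Type*} [Group X] [Finite X] (K : Subgroup X) (hK : Cfsg.IsPComponent 2 K) : K ≤ Cfsg.extendedTwoLayer X ∧ (K.subgroupOf (Cfsg.extendedTwoLayer X)).Normal := by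
  have hLn : (Cfsg.pLayer 2 X).Normal := pLayer_normal 2
  have hMn : (Cfsg.pLayer 2 X ⊔ Cfsg.pPrimePCore 2 X).Normal := inferInstance
  have hKL : K ≤ Cfsg.extendedTwoLayer X := by
    rw [Cfsg.Agent.S1342.extendedTwoLayer_eq]
    exact (pComponent_le_pLayer 2 hK).trans (le_sup_left.trans le_sup_left)
  refine ⟨hKL, (Subgroup.normal_subgroupOf_iff_le_normalizer hKL).2 ?_⟩
  rw [Cfsg.Agent.S1342.extendedTwoLayer_eq]
  refine sup_le (sup_le (pLayer_le_normalizer 2 hK) (pPrimeCore_le_normalizer_pComponent 2 hK)) ?_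
  apply iSup_le
  intro T
  -- a Sylow 2-subgroup of X containing T
  have hT := IsSylowIn.of_sylow T
  obtain ⟨S, hTS⟩ := hT.isPGroup.exists_le_sylow
  have hSM : IsSylowIn 2 ((S : Subgroup X) ⊓ (Cfsg.pLayer 2 X ⊔ Cfsg.pPrimePCore 2 X))
      (Cfsg.pLayer 2 X ⊔ Cfsg.pPrimePCore 2 X) :=
    (IsSylowIn.of_sylow_top S).inf_normal _ le_top
      (by rw [Subgroup.normalizer_eq_top_iff.2 hMn])
  have heq : (T : Subgroup ↥(Cfsg.pLayer 2 X ⊔ Cfsg.pPrimePCore 2 X)).map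
      (Cfsg.pLayer 2 X ⊔ Cfsg.pPrimePCore 2 X).subtype =
      (S : Subgroup X) ⊓ (Cfsg.pLayer 2 X ⊔ Cfsg.pPrimePCore 2 X) := by
    apply Subgroup.eq_of_le_of_card_ge (le_inf hTS hT.1)
    rw [hT.2, hSM.2]
  intro f hf
  rw [← map_conj_eq_self_iff_mem_normalizer]
  apply pComponent_map_conj_eq_of_centralizes 2 hK S f
  intro t ht
  have hfc : f ∈ Subgroup.centralizer
      (((T : Subgroup ↥(Cfsg.pLayer 2 X ⊔ Cfsg.pPrimePCore 2 X)).map
      (Cfsg.pLayer 2 X ⊔ Cfsg.pPrimePCore 2 X).subtype : Subgroup X) : Set X) :=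
    pPrimeCoreOf_le 2 _ hf
  have htT : t ∈ (T : Subgroup ↥(Cfsg.pLayer 2 X ⊔ Cfsg.pPrimePCore 2 X)).map
      (Cfsg.pLayer 2 X ⊔ Cfsg.pPrimePCore 2 X).subtype := by
    rw [heq]
    exact ⟨ht.1, Subgroup.mem_sup_left (pComponent_le_pLayer 2 hK ht.2)⟩
  exact (Subgroup.mem_centralizer_iff.1 hfc t htT).symm

end Cfsg.Agent.S1344
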