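import Mathlib
import Cfsg.Statements.S1348
import Cfsg.Agent.S1340

set_option autoImplicit false
open Cfsg

namespace Cfsg.Agent.S1348


section Part0
open Cfsg Matrix

section Block

variable {F : Type*} [Field F] {m : ℕ}

/-- block diagonal matrix `diag(B, b)` -/
def bs (B : Matrix (Fin m) (Fin m) F) (b : F) : Matrix (Fin (m + 1)) (Fin (m + 1)) F :=
  Matrix.of fun i j =>
    Fin.lastCases (Fin.lastCases b (fun _ => 0) j) (fun i' => Fin.lastCases 0 (fun j' => B i' j') j) i

@[simp] lemma bs_last_last (B : Matrix (Fin m) (Fin m) F) (b : F) :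
    bs B b (Fin.last m) (Fin.last m) = b := by simp [bs]
@[simp] lemma bs_last_castSucc (B : Matrix (Fin m) (Fin m) F) (b : F) (j : Fin m) :
    bs B b (Fin.last m) j.castSucc = 0 := by simp [bs]
@[simp] lemma bs_castSucc_last (B : Matrix (Fin m) (Fin m) F) (b : F) (i : Fin m) :
    bs B b i.castSucc (Fin.last m) = 0 := by simp [bs]
@[simp] lemma bs_castSucc_castSucc (B : Matrix (Fin m) (Fin m) F) (b : F) (i j : Fin m) :
    bs B b i.castSucc j.castSucc = B i j := by simp [bs]

lemma bs_mul (B B' : Matrix (Fin m) (Fin m) F) (b b' : F) :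
    bs B b * bs B' b' = bs (B * B') (b * b') := by
  ext i j
  rw [Matrix.mul_apply, Fin.sum_univ_castSucc]
  refine Fin.lastCases ?_ (fun i' => ?_) i <;> refine Fin.lastCases ?_ (fun j' => ?_) j <;>
    simp [Matrix.mul_apply]

lemma bs_one : bs (1 : Matrix (Fin m) (Fin m) F) (1 : F) = 1 := by
  ext i j
  refine Fin.lastCases ?_ (fun i' => ?_) i <;> refine Fin.lastCases ?_ (fun j' => ?_) j <;>
    simp [Matrix.one_apply, (Fin.castSucc_lt_last _).ne, (Fin.castSucc_lt_last _).ne']

lemma bs_inj {B B' : Matrix (Fin m) (Fin m) F} {b b' : F} (h : bs B b = bs B' b') :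
    B = B' ∧ b = b' := by
  refine ⟨?_, ?_⟩
  · ext i j
    have := congrFun (congrFun h i.castSucc) j.castSucc
    simpa using this
  · have := congrFun (congrFun h (Fin.last m)) (Fin.last m)
    simpa using this

lemma bs_eq_diagonal : bs (-1 : Matrix (Fin m) (Fin m) F) (1 : F) =
    Matrix.diagonal (Fin.lastCases 1 (fun _ => -1)) := by
  ext i j
  refine Fin.lastCases ?_ (fun i' => ?_) i <;> refine Fin.lastCases ?_ (fun j' => ?_) j
  · simp
  · simp [Matrix.diagonal_apply, (Fin.castSucc_lt_last _).ne']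
  · simp [Matrix.diagonal_apply, (Fin.castSucc_lt_last _).ne]
  · simp only [bs_castSucc_castSucc, Matrix.neg_apply, Matrix.one_apply, Matrix.diagonal_apply,
      Fin.lastCases_castSucc, Fin.castSucc_inj]
    split_ifs <;> simp

lemma diagonal_eq_bs : Matrix.diagonal (fun i : Fin (m + 1) => if (i : ℕ) + 1 = m + 1 then (1 : F) else -1)
    = bs (-1 : Matrix (Fin m) (Fin m) F) (1 : F) := by
  rw [bs_eq_diagonal]
  congr 1
  funext i
  refine Fin.lastCases ?_ (fun i' => ?_) i
  · simp
  · have : (i' : ℕ) ≠ m := i'.is_lt.ne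
    simp [this]

lemma eq_bs_of_comm (h2 : (2 : F) ≠ 0) (g : Matrix (Fin (m + 1)) (Fin (m + 1)) F)
    (h : g * bs (-1) 1 = bs (-1) 1 * g) :
    g = bs (g.submatrix Fin.castSucc Fin.castSucc) (g (Fin.last m) (Fin.last m)) := by
  rw [bs_eq_diagonal] at h
  have key : ∀ i j, g i j * (Fin.lastCases 1 (fun _ => -1) j : F) =
      (Fin.lastCases 1 (fun _ => -1) i : F) * g i j := by
    intro i j
    have := congrFun (congrFun h i) j
    rwa [Matrix.mul_diagonal, Matrix.diagonal_mul] at this
  ext i j
  refine Fin.lastCases ?_ (fun i' => ?_) i <;> refine Fin.lastCases ?_ (fun j' => ?_) j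
  · simp
  · have := key (Fin.last m) j'.castSucc
    simp only [Fin.lastCases_last, Fin.lastCases_castSucc] at this
    have h3 : (2 : F) * g (Fin.last m) j'.castSucc = 0 := by linear_combination -this
    rw [bs_last_castSucc]
    exact (mul_eq_zero.1 h3).resolve_left h2
  · have := key i'.castSucc (Fin.last m)
    simp only [Fin.lastCases_last, Fin.lastCases_castSucc] at this
    have h3 : (2 : F) * g i'.castSucc (Fin.last m) = 0 := by linear_combination this
    rw [bs_castSucc_last]
    exact (mul_eq_zero.1 h3).resolve_left h2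
  · simp

lemma det_bs (B : Matrix (Fin m) (Fin m) F) (b : F) : (bs B b).det = B.det * b := by
  rw [Matrix.det_succ_row _ (Fin.last m), Fin.sum_univ_castSucc]
  have h1 : ∀ j : Fin m, (-1 : F) ^ ((Fin.last m : ℕ) + (j.castSucc : ℕ)) *
      bs B b (Fin.last m) j.castSucc *
      ((bs B b).submatrix (Fin.last m).succAbove j.castSucc.succAbove).det = 0 := by
    intro j; simp
  rw [Finset.sum_eq_zero (fun j _ => h1 j), zero_add]
  have h2 : (bs B b).submatrix (Fin.last m).succAbove (Fin.last m).succAbove = B := by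
    ext i j
    simp [Fin.succAbove_last]
  rw [h2, bs_last_last]
  have h3 : (-1 : F) ^ ((Fin.last m : ℕ) + (Fin.last m : ℕ)) = 1 := Even.neg_one_pow ⟨_, rfl⟩
  rw [h3]; ring

end Block

end Part0

section Part1
open Cfsg Matrix

section Grp

variable {F : Type*} [Field F] {m : ℕ}

/-- the embedding of `SL_m` as the upper left block -/
def iota (F : Type*) [Field F] (m : ℕ) :
    Matrix.SpecialLinearGroup (Fin m) F →* Matrix.SpecialLinearGroup (Fin (m + 1)) F where
  toFun A := ⟨bs A.1 1, by rw [det_bs, A.2, mul_one]⟩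
  map_one' := Subtype.ext (by
    show bs (1 : Matrix.SpecialLinearGroup (Fin m) F).1 1 = (1 : Matrix.SpecialLinearGroup (Fin (m + 1)) F).1
    rw [Matrix.SpecialLinearGroup.coe_one, Matrix.SpecialLinearGroup.coe_one, bs_one])
  map_mul' A B := Subtype.ext (by
    have h1 : (A * B : Matrix.SpecialLinearGroup (Fin m) F).1 = A.1 * B.1 :=
      Matrix.SpecialLinearGroup.coe_mul A B
    have h2 : bs (A * B : Matrix.SpecialLinearGroup (Fin m) F).1 (1 : F) = bs A.1 1 * bs B.1 1 := by
      rw [bs_mul, mul_one, h1]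
    exact h2)

lemma iota_coe (A : Matrix.SpecialLinearGroup (Fin m) F) :
    (iota F m A).1 = bs A.1 1 := rfl

lemma iota_injective : Function.Injective (iota F m) := by
  intro A B h
  have h1 : bs A.1 (1 : F) = bs B.1 1 := congrArg Subtype.val h
  exact Subtype.ext (bs_inj h1).1

/-- the involution -/
def tt (F : Type*) [Field F] (m : ℕ) (hm : Even m) : Matrix.SpecialLinearGroup (Fin (m + 1)) F :=
  ⟨bs (-1) 1, by rw [det_bs, mul_one, Matrix.det_neg, Matrix.det_one, Fintype.card_fin,
    hm.neg_one_pow, one_mul]⟩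

lemma tt_coe (hm : Even m) : (tt F m hm).1 = bs (-1) 1 := rfl

lemma tt_mem_range (hm : Even m) : tt F m hm ∈ (iota F m).range := by
  refine ⟨⟨-1, by rw [Matrix.det_neg, Matrix.det_one, Fintype.card_fin, hm.neg_one_pow, one_mul]⟩, ?_⟩
  apply Subtype.ext
  rfl

/-- elements of the centralizer of `t` are block diagonal -/
lemma coe_eq_bs (h2 : (2 : F) ≠ 0) (hm : Even m) (g : Matrix.SpecialLinearGroup (Fin (m + 1)) F)
    (hg : g ∈ Subgroup.centralizer ({tt F m hm} : Set (Matrix.SpecialLinearGroup (Fin (m + 1)) F))) :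
    g.1 = bs (g.1.submatrix Fin.castSucc Fin.castSucc) (g.1 (Fin.last m) (Fin.last m)) := by
  rw [Subgroup.mem_centralizer_singleton_iff] at hg
  apply eq_bs_of_comm h2
  have := congrArg Subtype.val hg
  exact this

lemma corner_mul (h2 : (2 : F) ≠ 0) (hm : Even m) (g h : Matrix.SpecialLinearGroup (Fin (m + 1)) F)
    (hg : g ∈ Subgroup.centralizer ({tt F m hm} : Set (Matrix.SpecialLinearGroup (Fin (m + 1)) F)))
    (hh : h ∈ Subgroup.centralizer ({tt F m hm} : Set (Matrix.SpecialLinearGroup (Fin (m + 1)) F))) :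
    (g * h).1 (Fin.last m) (Fin.last m) = g.1 (Fin.last m) (Fin.last m) * h.1 (Fin.last m) (Fin.last m) := by
  rw [Matrix.SpecialLinearGroup.coe_mul]
  conv_lhs => rw [coe_eq_bs h2 hm g hg, coe_eq_bs h2 hm h hh, bs_mul]
  rw [bs_last_last]

/-- criterion for membership in the block `SL_m` -/
lemma mem_range_iota (h2 : (2 : F) ≠ 0) (hm : Even m) (g : Matrix.SpecialLinearGroup (Fin (m + 1)) F)
    (hg : g ∈ Subgroup.centralizer ({tt F m hm} : Set (Matrix.SpecialLinearGroup (Fin (m + 1)) F)))
    (h1 : g.1 (Fin.last m) (Fin.last m) = 1) : g ∈ (iota F m).range := by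
  have e := coe_eq_bs h2 hm g hg
  rw [h1] at e
  have hdet : (g.1.submatrix Fin.castSucc Fin.castSucc).det = 1 := by
    have := g.2
    rw [e, det_bs, mul_one] at this
    exact this
  refine ⟨⟨_, hdet⟩, ?_⟩
  apply Subtype.ext
  exact e.symm

lemma range_le_centralizer (hm : Even m) :
    (iota F m).range ≤ Subgroup.centralizer ({tt F m hm} : Set (Matrix.SpecialLinearGroup (Fin (m + 1)) F)) := by
  rintro _ ⟨A, rfl⟩
  rw [Subgroup.mem_centralizer_singleton_iff]
  apply Subtype.ext
  rw [Matrix.SpecialLinearGroup.coe_mul, Matrix.SpecialLinearGroup.coe_mul, iota_coe, tt_coe,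
    bs_mul, bs_mul]
  simp

/-- the corner entry as a homomorphism on the centralizer -/
def cornerU (h2 : (2 : F) ≠ 0) (hm : Even m) :
    ↥(Subgroup.centralizer ({tt F m hm} : Set (Matrix.SpecialLinearGroup (Fin (m + 1)) F))) →* Fˣ where
  toFun g := ⟨g.1.1 (Fin.last m) (Fin.last m), (g⁻¹).1.1 (Fin.last m) (Fin.last m),
    by
      rw [← corner_mul h2 hm g.1 (g⁻¹).1 g.2 (g⁻¹).2]
      have : g.1 * (g⁻¹).1 = 1 := by
        have := congrArg Subtype.val (mul_inv_cancel g)
        exact this
      rw [this]; simp,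
    by
      rw [← corner_mul h2 hm (g⁻¹).1 g.1 (g⁻¹).2 g.2]
      have : (g⁻¹).1 * g.1 = 1 := by
        have := congrArg Subtype.val (inv_mul_cancel g)
        exact this
      rw [this]; simp⟩
  map_one' := Units.ext (by simp)
  map_mul' g h := Units.ext (corner_mul h2 hm g.1 h.1 g.2 h.2)

lemma cornerU_coe (h2 : (2 : F) ≠ 0) (hm : Even m)
    (g : ↥(Subgroup.centralizer ({tt F m hm} : Set (Matrix.SpecialLinearGroup (Fin (m + 1)) F)))) :
    ((cornerU h2 hm g : Fˣ) : F) = g.1.1 (Fin.last m) (Fin.last m) := rfl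

end Grp

end Part1

section Part2
open Cfsg Matrix

section Layer

/-- the layer of a group with a normal quasisimple subgroup containing the derived subgroup -/
lemma layer_eq_of_normal {C : Type*} [Group C] (S : Subgroup C) (hn : S.Normal)
    (hS : Cfsg.IsQuasisimple S) (hab : commutator C ≤ S) : Cfsg.layer C = S := by
  apply le_antisymm
  · apply sSup_le
    intro K hK
    have h1 : ⁅K, K⁆ = K := Cfsg.Agent.H2.quasisimple_commutator_eq hK.2
    rw [← h1]
    refine le_trans ?_ hab
    rw [commutator_def]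
    exact Subgroup.commutator_mono le_top le_top
  · apply le_sSup
    exact ⟨hn.isSubnormal, hS⟩

variable {F : Type*} [Field F] {m : ℕ}

lemma range_subgroupOf_eq_ker (h2 : (2 : F) ≠ 0) (hm : Even m) :
    (iota F m).range.subgroupOf
      (Subgroup.centralizer ({tt F m hm} : Set (Matrix.SpecialLinearGroup (Fin (m + 1)) F))) =
      (cornerU h2 hm).ker := by
  ext g
  rw [Subgroup.mem_subgroupOf, MonoidHom.mem_ker]
  constructor
  · rintro ⟨A, hA⟩
    apply Units.ext
    rw [cornerU_coe, ← hA, iota_coe, bs_last_last]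
    rfl
  · intro h
    apply mem_range_iota h2 hm g.1 g.2
    have := congrArg Units.val h
    rw [cornerU_coe] at this
    exact this

end Layer

section Fin

variable {F : Type*} [Field F] [Fintype F] {m : ℕ}

lemma range_quasisimple (hF : Odd (Fintype.card F)) (hm3 : 3 ≤ m) :
    Cfsg.IsQuasisimple ↥(iota F m).range := by
  classical
  have h1 : Cfsg.IsQuasisimple (Matrix.SpecialLinearGroup (Fin m) F) :=
    Cfsg.Agent.S1340.sl_quasisimple hF m (by omega) (by omega)
  exact Cfsg.Agent.Lib.Lead.Quasisimple.of_mulEquiv (MonoidHom.ofInjective iota_injective) h1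

lemma layer_map_eq (hF : Odd (Fintype.card F)) (hm : Even m) (hm3 : 3 ≤ m) :
    (Cfsg.layer ↥(Subgroup.centralizer ({tt F m hm} : Set (Matrix.SpecialLinearGroup (Fin (m + 1)) F)))).map
      (Subgroup.centralizer ({tt F m hm} : Set (Matrix.SpecialLinearGroup (Fin (m + 1)) F))).subtype =
      (iota F m).range := by
  have h2 := Cfsg.Agent.S1340.two_ne_zero'' hF
  have hker := range_subgroupOf_eq_ker h2 hm
  have hlayer : Cfsg.layer ↥(Subgroup.centralizer ({tt F m hm} : Set (Matrix.SpecialLinearGroup (Fin (m + 1)) F))) =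
      (iota F m).range.subgroupOf
        (Subgroup.centralizer ({tt F m hm} : Set (Matrix.SpecialLinearGroup (Fin (m + 1)) F))) := by
    apply layer_eq_of_normal
    · rw [hker]; exact MonoidHom.normal_ker _
    · exact (Cfsg.Agent.H2.isQuasisimple_subgroupOf (range_le_centralizer hm)).2 (range_quasisimple hF hm3)
    · rw [hker]
      exact Abelianization.commutator_subset_ker _
  rw [hlayer, Subgroup.subgroupOf_map_subtype]
  exact inf_eq_left.2 (range_le_centralizer hm)

/-- the centralizer of `t` normalizes the block `SL_m` -/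
lemma centralizer_le_normalizer (hF : Odd (Fintype.card F)) (hm : Even m) :
    Subgroup.centralizer ({tt F m hm} : Set (Matrix.SpecialLinearGroup (Fin (m + 1)) F)) ≤
      Subgroup.normalizer ((iota F m).range : Set (Matrix.SpecialLinearGroup (Fin (m + 1)) F)) := by
  have h2 := Cfsg.Agent.S1340.two_ne_zero'' hF
  have hker := range_subgroupOf_eq_ker h2 hm
  have hn : ((iota F m).range.subgroupOf
      (Subgroup.centralizer ({tt F m hm} : Set (Matrix.SpecialLinearGroup (Fin (m + 1)) F)))).Normal := by
    rw [hker]; exact MonoidHom.normal_ker _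
  exact (Subgroup.normal_subgroupOf_iff_le_normalizer (range_le_centralizer hm)).1 hn

end Fin

end Part2

section Part3
open Cfsg Matrix

section Cent

variable {F : Type*} [Field F] {m : ℕ}

/-- elements centralizing the block `SL_m` are `diag(a,…,a,b)` -/
lemma centralizer_range_coe (h2 : (2 : F) ≠ 0) (hm : Even m)
    (z : Matrix.SpecialLinearGroup (Fin (m + 1)) F)
    (hz : z ∈ Subgroup.centralizer ((iota F m).range : Set (Matrix.SpecialLinearGroup (Fin (m + 1)) F))) :
    ∃ a b : F, z.1 = bs (Matrix.scalar (Fin m) a) b := by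
  have hzt : z ∈ Subgroup.centralizer ({tt F m hm} : Set (Matrix.SpecialLinearGroup (Fin (m + 1)) F)) := by
    rw [Subgroup.mem_centralizer_singleton_iff]
    exact (Subgroup.mem_centralizer_iff.1 hz _ (tt_mem_range hm)).symm
  have e := coe_eq_bs h2 hm z hzt
  set B := z.1.submatrix Fin.castSucc Fin.castSucc with hB
  set b := z.1 (Fin.last m) (Fin.last m) with hb
  have hsc : B ∈ Set.range (Matrix.scalar (Fin m)) := by
    apply Matrix.mem_range_scalar_of_commute_transvectionStruct
    intro ts
    set A : Matrix.SpecialLinearGroup (Fin m) F := ⟨ts.toMatrix, ts.det⟩ with hA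
    have hA1 : A.1 = ts.toMatrix := rfl
    have h1 := Subgroup.mem_centralizer_iff.1 hz (iota F m A) ⟨_, rfl⟩
    have h3 : (iota F m A).1 * z.1 = z.1 * (iota F m A).1 := congrArg Subtype.val h1
    rw [iota_coe, e, bs_mul, bs_mul, hA1] at h3
    exact (bs_inj h3).1
  obtain ⟨a, ha⟩ := hsc
  exact ⟨a, b, by rw [e, ha]⟩

lemma centralizer_range_comm (h2 : (2 : F) ≠ 0) (hm : Even m)
    (z z' : Matrix.SpecialLinearGroup (Fin (m + 1)) F)
    (hz : z ∈ Subgroup.centralizer ((iota F m).range : Set (Matrix.SpecialLinearGroup (Fin (m + 1)) F)))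
    (hz' : z' ∈ Subgroup.centralizer ((iota F m).range : Set (Matrix.SpecialLinearGroup (Fin (m + 1)) F))) :
    z * z' = z' * z := by
  obtain ⟨a, b, e⟩ := centralizer_range_coe h2 hm z hz
  obtain ⟨a', b', e'⟩ := centralizer_range_coe h2 hm z' hz'
  apply Subtype.ext
  rw [Matrix.SpecialLinearGroup.coe_mul, Matrix.SpecialLinearGroup.coe_mul, e, e', bs_mul, bs_mul,
    ← map_mul, ← map_mul, mul_comm a a', mul_comm b b']

lemma centralizer_range_involution (h2 : (2 : F) ≠ 0) (hm : Even m) (hm1 : 1 ≤ m)
    (z : Matrix.SpecialLinearGroup (Fin (m + 1)) F)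
    (hz : z ∈ Subgroup.centralizer ((iota F m).range : Set (Matrix.SpecialLinearGroup (Fin (m + 1)) F)))
    (hz2 : z * z = 1) : z = 1 ∨ z = tt F m hm := by
  obtain ⟨a, b, e⟩ := centralizer_range_coe h2 hm z hz
  have h1 := congrArg Subtype.val hz2
  rw [Matrix.SpecialLinearGroup.coe_mul, Matrix.SpecialLinearGroup.coe_one, e, bs_mul, ← map_mul,
    ← bs_one] at h1
  obtain ⟨h3, h4⟩ := bs_inj h1
  have haa : a * a = 1 := by
    have := congrFun (congrFun h3 ⟨0, hm1⟩) ⟨0, hm1⟩
    simpa using this
  have hdet : a ^ m * b = 1 := by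
    have := z.2
    rw [e, det_bs, Matrix.scalar_apply, Matrix.det_diagonal, Finset.prod_const, Finset.card_univ,
      Fintype.card_fin] at this
    exact this
  have hb1 : b = 1 := by
    have : a ^ m = 1 := by
      obtain ⟨k, hk⟩ := hm
      rw [hk, ← two_mul, pow_mul, pow_two, haa, one_pow]
    rw [this, one_mul] at hdet
    exact hdet
  have ha : a = 1 ∨ a = -1 := by
    have : (a - 1) * (a + 1) = 0 := by linear_combination haa
    rcases mul_eq_zero.1 this with h | h
    · left; linear_combination h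
    · right; linear_combination h
  rcases ha with ha | ha
  · left
    apply Subtype.ext
    rw [e, ha, hb1, map_one, bs_one]
    rfl
  · right
    apply Subtype.ext
    rw [e, ha, hb1, tt_coe]
    congr 1
    rw [Matrix.scalar_apply]
    ext i j
    by_cases hij : i = j
    · subst hij; simp
    · simp [hij]

end Cent

end Part3

section Part4
open Cfsg Matrix

section Abstract

variable {G : Type*} [Group G]

lemma normalizer_le_normalizer_centralizer (L : Subgroup G) :
    Subgroup.normalizer (L : Set G) ≤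
      Subgroup.normalizer (Subgroup.centralizer (L : Set G) : Set G) :=
  (Subgroup.normal_subgroupOf_iff_le_normalizer (Subgroup.centralizer_le_normalizer (L : Set G))).1
    (Subgroup.normal_subgroupOf_centralizer_normalizer (L : Set G))

/-- a quasisimple subgroup whose centralizer is abelian with a unique involution `t`, such that
`C(t)` normalizes it, is standard -/
lemma standard_of_unique_involution [Finite G] (L : Subgroup G) (t : G)
    (hL : Cfsg.IsQuasisimple L) (ht : orderOf t = 2)
    (htZ : t ∈ Subgroup.centralizer (L : Set G))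
    (hN : Subgroup.centralizer ({t} : Set G) ≤ Subgroup.normalizer (L : Set G))
    (huniq : ∀ z ∈ Subgroup.centralizer (L : Set G), z * z = 1 → z = 1 ∨ z = t)
    (hab : ∀ z ∈ Subgroup.centralizer (L : Set G), ∀ z' ∈ Subgroup.centralizer (L : Set G),
      z * z' = z' * z) :
    Cfsg.IsStandardSubgroup L := by
  have ht1 : t ≠ 1 := by
    intro h
    rw [h, orderOf_one] at ht
    omega
  have htt : t * t = 1 := by
    rw [← pow_two, ← ht, pow_orderOf_eq_one]
  set Z := Subgroup.centralizer (L : Set G) with hZ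
  have hNZ : Subgroup.normalizer (Z : Set G) ≤ Subgroup.centralizer ({t} : Set G) := by
    intro g hg
    have h1 : g * t * g⁻¹ ∈ Z := (Subgroup.mem_normalizer_iff.1 hg t).1 htZ
    have h2 : (g * t * g⁻¹) * (g * t * g⁻¹) = 1 := by
      calc (g * t * g⁻¹) * (g * t * g⁻¹) = g * (t * t) * g⁻¹ := by group
        _ = 1 := by rw [htt]; group
    rw [Subgroup.mem_centralizer_singleton_iff]
    rcases huniq _ h1 h2 with h | h
    · exfalso
      apply ht1
      calc t = g⁻¹ * (g * t * g⁻¹) * g := by group
        _ = 1 := by rw [h]; group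
    · calc g * t = (g * t * g⁻¹) * g := by group
        _ = t * g := by rw [h]
  have hNeq : Subgroup.normalizer (L : Set G) = Subgroup.normalizer (Z : Set G) :=
    le_antisymm (normalizer_le_normalizer_centralizer L) (hNZ.trans hN)
  refine ⟨hL, ⟨?_, ?_⟩, ?_, hNeq⟩
  · -- even order
    rw [even_iff_two_dvd]
    have h1 : orderOf (⟨t, htZ⟩ : Z) = 2 := by
      rw [← ht]; exact Subgroup.orderOf_mk t htZ
    rw [← h1]
    exact orderOf_dvd_natCard _
  · intro g hg
    by_contra hodd
    rw [Nat.not_odd_iff_even, even_iff_two_dvd] at hodd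
    haveI : Fact (Nat.Prime 2) := ⟨Nat.prime_two⟩
    obtain ⟨x, hx⟩ := exists_prime_orderOf_dvd_card' 2 hodd
    have hx1 : x.1 ≠ 1 := by
      intro h
      have : x = 1 := Subtype.ext h
      rw [this, orderOf_one] at hx
      omega
    have hx2 : x.1 * x.1 = 1 := by
      have : x ^ 2 = 1 := by rw [← hx, pow_orderOf_eq_one]
      have := congrArg Subtype.val this
      rw [pow_two] at this
      exact this
    have hxZ : x.1 ∈ Z := x.2.1
    have hxt : x.1 = t := (huniq _ hxZ hx2).resolve_left hx1
    obtain ⟨y, hyZ, hy⟩ := x.2.2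
    have hy' : g * y * g⁻¹ = t := by rw [← hxt]; exact hy
    have hyy : y = g⁻¹ * t * g := by rw [← hy']; group
    have hy1 : y ≠ 1 := by
      intro h
      apply ht1
      rw [← hy', h]; group
    have hy2 : y * y = 1 := by
      rw [hyy]
      calc g⁻¹ * t * g * (g⁻¹ * t * g) = g⁻¹ * (t * t) * g := by group
        _ = 1 := by rw [htt]; group
    have hyt : y = t := (huniq _ hyZ hy2).resolve_left hy1
    rw [hyt] at hy'
    apply hg
    rw [← hNeq]
    apply hN
    rw [Subgroup.mem_centralizer_singleton_iff]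
    calc g * t = (g * t * g⁻¹) * g := by group
      _ = t * g := by rw [hy']
  · intro g _ hcomm
    rw [Cfsg.Agent.H2.commutator_eq_bot_iff_forall_commute] at hcomm
    have hle : L.map (MulAut.conj g).toMonoidHom ≤ Z := by
      intro y hy
      rw [hZ, Subgroup.mem_centralizer_iff]
      intro l hl
      exact hcomm l hl y hy
    have h1 : ⁅L, L⁆ = ⊥ := by
      rw [Cfsg.Agent.H2.commutator_eq_bot_iff_forall_commute]
      intro a ha b hb
      have ha' : g * a * g⁻¹ ∈ Z := hle ⟨a, ha, rfl⟩
      have hb' : g * b * g⁻¹ ∈ Z := hle ⟨b, hb, rfl⟩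
      have := hab _ ha' _ hb'
      calc a * b = g⁻¹ * ((g * a * g⁻¹) * (g * b * g⁻¹)) * g := by group
        _ = g⁻¹ * ((g * b * g⁻¹) * (g * a * g⁻¹)) * g := by rw [this]
        _ = b * a := by group
    rw [Cfsg.Agent.H2.quasisimple_commutator_eq hL] at h1
    exact Cfsg.Agent.H2.quasisimple_ne_bot hL h1

end Abstract

end Part4

section Part5
open Cfsg Matrix

lemma tt_order {F : Type*} [Field F] {m : ℕ} (h2 : (2 : F) ≠ 0) (hm : Even m) (hm1 : 1 ≤ m) :
    orderOf (tt F m hm) = 2 := by
  apply orderOf_eq_prime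
  · apply Subtype.ext
    rw [Matrix.SpecialLinearGroup.coe_pow, Matrix.SpecialLinearGroup.coe_one, tt_coe, pow_two,
      bs_mul, neg_mul_neg, one_mul, one_mul, bs_one]
  · intro h
    have h1 := congrArg Subtype.val h
    rw [tt_coe, Matrix.SpecialLinearGroup.coe_one, ← bs_one] at h1
    have h3 := (bs_inj h1).1
    have h4 := congrFun (congrFun h3 ⟨0, hm1⟩) ⟨0, hm1⟩
    simp only [Matrix.neg_apply, Matrix.one_apply_eq] at h4
    apply h2
    linear_combination -h4

theorem result {F : Type*} [Field F] [Fintype F] [DecidableEq F] (hF : Odd (Fintype.card F)) (n : ℕ) (hn : 7 ≤ n) (hodd : Odd n) (t : Matrix.SpecialLinearGroup (Fin n) F) (ht : (t : Matrix (Fin n) (Fin n) F) = Matrix.diagonal (fun i : Fin n => if (i : ℕ) + 1 = n then (1 : F) else -1)) : Cfsg.IsStandardSubgroup ((Cfsg.layer ↥(Subgroup.centralizer ({t} : Set (Matrix.SpecialLinearGroup (Fin n) F)))).map (Subgroup.centralizer ({t} : Set (Matrix.SpecialLinearGroup (Fin n) F))).subtype) := by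
  obtain ⟨m, rfl⟩ : ∃ m, n = m + 1 := ⟨n - 1, by omega⟩
  have hm : Even m := by
    rcases Nat.even_or_odd m with h | h
    · exact h
    · exfalso
      have := Odd.add_odd h odd_one
      exact (Nat.not_odd_iff_even.2 this) hodd
  have h2 := Cfsg.Agent.S1340.two_ne_zero'' hF
  have htt : t = tt F m hm := Subtype.ext (by rw [ht, tt_coe, diagonal_eq_bs])
  subst htt
  rw [layer_map_eq hF hm (by omega)]
  apply standard_of_unique_involution _ (tt F m hm)
  · exact range_quasisimple hF (by omega)
  · exact tt_order h2 hm (by omega)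
  · rw [Subgroup.mem_centralizer_iff]
    intro x hx
    have := range_le_centralizer hm hx
    rw [Subgroup.mem_centralizer_singleton_iff] at this
    exact this
  · exact centralizer_le_normalizer hF hm
  · intro z hz hz2
    exact centralizer_range_involution h2 hm (by omega) z hz hz2
  · intro z hz z' hz'
    exact centralizer_range_comm h2 hm z z' hz hz'

end Part5

end Cfsg.Agent.S1348
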