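import Mathlib
import Cfsg.Statements.S1349
import Cfsg.Agent.H2.DihedralLemma

set_option autoImplicit false
open Cfsg

namespace Cfsg.Agent.S1349

/-- Let G be finite, L ≤ G solvable of odd order, and A an elementary abelian 2-subgroup of order 2^d (d ≥ 1) normalizing L with C_A(L) = 1. Then there are subgroups A_1, …, A_d of A of order 2 generating A and subgroups L_1, …, L_d of L such that each A_i ⊔ L_i is dihedral of order 2 n_i with n_i odd and at least 3, and A_i ⊔ L_i commutes elementwise with A_j ⊔ L_j for i ≠ j. -/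
theorem result {G : Type*} [Group G] [Finite G] (L A : Subgroup G) (hLs : Group.IsSolvable ↥L) (hLodd : Odd (Nat.card ↥L)) (hA : Cfsg.IsElementaryAbelian 2 A) (d : ℕ) (hd : 1 ≤ d) (hAd : Nat.card ↥A = 2 ^ d) (hAL : A ≤ Subgroup.normalizer (L : Set G)) (hfaith : A ⊓ Subgroup.centralizer (L : Set G) = ⊥) : ∃ (Ai : Fin d → Subgroup G) (Li : Fin d → Subgroup G) (n : Fin d → ℕ), (∀ i, Ai i ≤ A ∧ Nat.card ↥(Ai i) = 2 ∧ Li i ≤ L ∧ Odd (n i) ∧ 3 ≤ n i ∧ Nonempty (↥(Ai i ⊔ Li i) ≃* DihedralGroup (n i))) ∧ (⨆ i, Ai i) = A ∧ ∀ i j, i ≠ j → ∀ x ∈ Ai i ⊔ Li i, ∀ y ∈ Ai j ⊔ Li j, x * y = y * x := by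
  obtain ⟨a, x, h1, h2, h3, h4, h5, h6, h7, h8⟩ :=
    Cfsg.Agent.H2.DihedralLemma.core_solvable d A L hLs hLodd hA hAd hAL hfaith
  have hcomm : ∀ i j, a i * a j = a j * a i := fun i j =>
    Cfsg.Agent.H2.DihedralLemma.comm_of_elementaryAbelian hA (h1 i) (h1 j)
  have hord : ∀ i, orderOf (a i) = 2 ∧ orderOf (x i) ≠ 2 := fun i =>
    Cfsg.Agent.H2.DihedralLemma.orderOf_a_eq_two hLodd hA (h1 i) (h2 i) (h3 i) (h4 i)
  have hLdvd : ∀ i, orderOf (x i) ∣ Nat.card ↥L := by
    intro i
    have := orderOf_dvd_natCard (⟨x i, h2 i⟩ : ↥L)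
    rwa [Subgroup.orderOf_mk] at this
  have hx1 : ∀ i, x i ≠ 1 := by
    intro i h
    have := h3 i
    rw [h, orderOf_one] at this
    exact Nat.not_prime_one this
  refine ⟨fun i => Subgroup.zpowers (a i), fun i => Subgroup.zpowers (x i), fun i => orderOf (x i),
    ?_, ?_, ?_⟩
  · intro i
    have hodd : Odd (orderOf (x i)) := by
      obtain ⟨c, hc⟩ := hLdvd i
      rw [hc] at hLodd
      exact (Nat.odd_mul.1 hLodd).1
    refine ⟨by rw [Subgroup.zpowers_le]; exact h1 i, by rw [Nat.card_zpowers]; exact (hord i).1,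
      by rw [Subgroup.zpowers_le]; exact h2 i, hodd, ?_, ?_⟩
    · show 3 ≤ orderOf (x i)
      have := (h3 i).two_le
      have := (hord i).2
      omega
    · exact Cfsg.Agent.H2.DihedralLemma.nonempty_dihedral (hord i).1 (hx1 i) (hord i).2 (h4 i)
  · apply le_antisymm
    · apply iSup_le
      intro i
      rw [Subgroup.zpowers_le]; exact h1 i
    · rw [← h7, Subgroup.closure_le]
      rintro _ ⟨i, rfl⟩
      exact (le_iSup (fun i => Subgroup.zpowers (a i)) i) (Subgroup.mem_zpowers _)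
  · intro i j hij
    have hle : Subgroup.zpowers (a i) ⊔ Subgroup.zpowers (x i) ≤
        Subgroup.centralizer ((Subgroup.zpowers (a j) ⊔ Subgroup.zpowers (x j) : Subgroup G) : Set G) := by
      apply sup_le
      · rw [Subgroup.zpowers_le, Cfsg.Agent.H2.DihedralLemma.mem_centralizer_iff_le]
        apply sup_le
        · rw [Subgroup.zpowers_le, Cfsg.Agent.H2.DihedralLemma.mem_centralizer_zpowers]
          exact hcomm i j
        · rw [Subgroup.zpowers_le, Cfsg.Agent.H2.DihedralLemma.mem_centralizer_zpowers]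
          exact h5 j i (Ne.symm hij)
      · rw [Subgroup.zpowers_le, Cfsg.Agent.H2.DihedralLemma.mem_centralizer_iff_le]
        apply sup_le
        · rw [Subgroup.zpowers_le, Cfsg.Agent.H2.DihedralLemma.mem_centralizer_zpowers]
          exact (h5 i j hij).symm
        · rw [Subgroup.zpowers_le, Cfsg.Agent.H2.DihedralLemma.mem_centralizer_zpowers]
          exact h6 i j hij
    intro u hu v hv
    exact (Subgroup.mem_centralizer_iff.1 (hle hu) v hv).symm

end Cfsg.Agent.S1349
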