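import Cfsg.Statements.S1373
import Cfsg.Agent.Lib.Helper4.BG14L

set_option autoImplicit false
open Cfsg

namespace Cfsg.Agent.S1373

/-- Let G be a minimal simple group of odd order and M a maximal subgroup with standard factorisation M = K U M_σ, K ≠ 1 and U = 1. Then M_σ ∩ C_G(K) has prime order. -/
theorem result {G : Type*} [Group G] [Finite G] (hG : Cfsg.IsMinSimpleOddOrder G)
    (M : Subgroup G) (hM : IsCoatom M) (K U : Subgroup G) (hKU : Cfsg.IsSigmaDecomposition M K U) (hK1 : K ≠ ⊥) (hU : U = ⊥) :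
    (Nat.card ↥(Cfsg.sigmaCore M ⊓ Subgroup.centralizer (K : Set G))).Prime := by
  have hK := hKU.hall
  apply Cfsg.Agent.Lib.Helper4.BG14.card_star_prime_of_P1 hG hM hK hK1
  have h1 := Cfsg.Agent.Lib.BG127H7.card_of_isComplIn hKU.compl
  rw [hU, Subgroup.card_bot, one_mul] at h1
  have h2 := Cfsg.Agent.H1.card_sup_mul_card_inf K (Cfsg.sigmaCore M)
    (hK.1.trans (Cfsg.Agent.H2.BG11.le_normalizer_sigmaCore M))
  rw [Cfsg.Agent.Lib.Helper5.BG14Z.K_inf_sigmaCore hG hM hK, Subgroup.card_bot, mul_one] at h2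
  have h3 : K ⊔ Cfsg.sigmaCore M = M := by
    apply le_antisymm hKU.compl.2.1
    intro m hm
    obtain ⟨a, ha, b, hb, rfl⟩ := hKU.compl.2.2.2 m hm
    rw [hU, Subgroup.mem_bot] at ha
    rw [ha, one_mul]
    exact hb
  rw [← h2, h3]

end Cfsg.Agent.S1373
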