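import Cfsg.Statements.S1382
import Cfsg.Agent.H2.BG16.C
import Cfsg.Agent.Lib.Helper8.BG15G
import Cfsg.Agent.S1437
import Cfsg.Agent.S1357

set_option autoImplicit false
open Cfsg

namespace Cfsg.Agent.S1382

/-- Let G be a minimal simple group of odd order and M a maximal subgroup with standard factorisation M = K U M_σ. Then M is of Type III or of Type IV if and only if K ≠ 1, U = 1 and M_F ≠ M_σ. -/
theorem result {G : Type*} [Group G] [Finite G] (hG : Cfsg.IsMinSimpleOddOrder G)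
    (M : Subgroup G) (hM : IsCoatom M) (K U : Subgroup G) (hKU : Cfsg.IsSigmaDecomposition M K U) :
    (Cfsg.IsOfTypeIII M ∨ Cfsg.IsOfTypeIV M) ↔ (K ≠ ⊥ ∧ U = ⊥ ∧ Cfsg.fittingHallOf M ≠ Cfsg.sigmaCore M) := by
  constructor
  · exact Cfsg.Agent.H2.BG16.s1382_mp hG hM hKU
  · rintro ⟨hK1, hU, hne⟩
    obtain ⟨-, -, hKp, hq, -, -, Q, hQF, hMQ, hQp, hQi, hD⟩ :=
      Cfsg.Agent.S1437.result hG M hM K U hKU hne
    exact Cfsg.Agent.H2.BG16.s1382_mpr hG hM hKU hK1 hU hne hKp hq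
      ⟨Q, hQF, hMQ, hQp, hQi, fun D hc => (hD D hc).1⟩
      (Cfsg.Agent.S1357.result hG M hM K U hKU hne).2.1
      (Cfsg.Agent.Lib.Helper8.BG15.s1356_of hG
        (Cfsg.Agent.Lib.Helper8.BG15.hyp1437m_of
          (fun M hM K U hKU hne => Cfsg.Agent.S1437.result hG M hM K U hKU hne)) M hM)

end Cfsg.Agent.S1382
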