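import Cfsg.Statements.S1386
import Mathlib
import Cfsg.Agent.Lib.Helper4.TypeP

namespace Cfsg.Agent.S1386

open Cfsg.Agent.Lib.Helper4.TypeP

theorem result {G : Type*} [Group G] [Finite G] (W₁ W₂ S U W₂' : Subgroup G) (hW : Cfsg.IsSelfNormalizingCyclic W₁ W₂)
    (hSW : Cfsg.IsComplIn ⁅S, S⁆ W₁ S) (hW₂S : W₂ ≤ S) (hP : Cfsg.IsTypePWith S W₁ U W₂') :
    W₂' = W₂ := by
  have hcop : (Nat.card W₁).Coprime (Nat.card (⁅S, S⁆ : Subgroup G)) := by
    have := hP.W₁_hall
    rwa [relIndex_eq_card_of_complIn hSW] at this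
  obtain ⟨hW1ne, hW2ne, hdisj, hcomm, hcyc, hnorm⟩ := hW
  obtain ⟨hS'le, hW1le, hSdisj, hprod⟩ := hSW
  obtain ⟨x, hxW, hx1⟩ : ∃ x ∈ W₁, x ≠ 1 := by
    by_contra hcon
    push Not at hcon
    exact hW1ne ((Subgroup.eq_bot_iff_forall _).mpr hcon)
  obtain ⟨y, hyW, hy1⟩ : ∃ y ∈ W₂, y ≠ 1 := by
    by_contra hcon
    push Not at hcon
    exact hW2ne ((Subgroup.eq_bot_iff_forall _).mpr hcon)
  -- W₂ ≤ S'
  have h1 : W₂ ≤ ⁅S, S⁆ := by
    intro w hw
    obtain ⟨s, hs, a, ha, hsa⟩ := hprod w (hW₂S hw)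
    have hcomm_wa : a * w = w * a := hcomm a ha w hw
    have hs_eq : s = w * a⁻¹ := by rw [hsa]; group
    have hsa_comm : Commute s a := by
      unfold Commute SemiconjBy
      rw [hs_eq]
      calc w * a⁻¹ * a = w := by group
        _ = a * w * a⁻¹ := by rw [hcomm_wa]; group
        _ = a * (w * a⁻¹) := by group
    have hpow : w ^ (Nat.card (⁅S, S⁆ : Subgroup G)) = a ^ (Nat.card (⁅S, S⁆ : Subgroup G)) := by
      rw [hsa, hsa_comm.mul_pow]
      have : s ^ (Nat.card (⁅S, S⁆ : Subgroup G)) = 1 := by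
        have := pow_card_eq_one' (G := ↥(⁅S, S⁆ : Subgroup G)) (x := ⟨s, hs⟩)
        exact congrArg Subtype.val this
      rw [this, one_mul]
    have ha1 : a ^ (Nat.card (⁅S, S⁆ : Subgroup G)) = 1 := by
      have hm : a ^ (Nat.card (⁅S, S⁆ : Subgroup G)) ∈ W₁ ⊓ W₂ :=
        ⟨W₁.pow_mem ha _, hpow ▸ W₂.pow_mem hw _⟩
      rwa [hdisj, Subgroup.mem_bot] at hm
    have ha2 : a ^ (Nat.card W₁) = 1 := by
      have := pow_card_eq_one' (G := W₁) (x := ⟨a, ha⟩)
      exact congrArg Subtype.val this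
    have hd1 := orderOf_dvd_of_pow_eq_one ha1
    have hd2 := orderOf_dvd_of_pow_eq_one ha2
    have : orderOf a = 1 := Nat.eq_one_of_dvd_coprimes hcop hd2 hd1
    rw [orderOf_eq_one_iff] at this
    rw [hsa, this, mul_one]; exact hs
  have hW2' := hP.W₂_centralizer x hxW hx1
  have h2 : W₂ ≤ W₂' := by
    intro w hw
    rw [← hW2']
    refine ⟨h1 hw, ?_⟩
    exact Subgroup.mem_centralizer_singleton_iff.mpr (hcomm x hxW w hw).symm
  apply le_antisymm _ h2
  -- reverse
  intro t ht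
  obtain ⟨_, _, hdisj', hcomm', hcyc', _⟩ := hP.selfNormalizing
  have htS' : t ∈ ⁅S, S⁆ := by rw [← hW2'] at ht; exact ht.1
  have htx : t * x = x * t := by
    rw [← hW2'] at ht
    exact Subgroup.mem_centralizer_singleton_iff.mp ht.2
  have hty : t * y = y * t := by
    have hcm : IsMulCommutative ↥(W₁ ⊔ W₂') := hcyc'.isMulCommutative
    have := mul_comm' (⟨t, Subgroup.mem_sup_right ht⟩ : ↥(W₁ ⊔ W₂')) ⟨y, Subgroup.mem_sup_right (h2 hyW)⟩
    exact congrArg Subtype.val this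
  have hz : t ∈ Subgroup.normalizer ({x * y} : Set G) := by
    rw [Subgroup.mem_set_normalizer_iff]
    intro h
    simp only [Set.mem_singleton_iff]
    have hc : t * (x * y) = (x * y) * t := by
      rw [← mul_assoc, htx, mul_assoc, hty, mul_assoc]
    constructor
    · rintro rfl
      rw [hc]; group
    · intro hh
      have : h = t⁻¹ * (x * y) * t := by rw [← hh]; group
      rw [this, mul_assoc, ← hc]; group
  rw [hnorm {x * y} ?_ (Set.singleton_nonempty _)] at hz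
  · obtain ⟨a, ha, b, hb, rfl⟩ := mem_sup_of_commute W₁ W₂ hcomm hz
    have : a ∈ ⁅S, S⁆ ⊓ W₁ := by
      refine ⟨?_, ha⟩
      have := Subgroup.mul_mem _ htS' (Subgroup.inv_mem _ (h1 hb))
      simpa using this
    rw [hSdisj, Subgroup.mem_bot] at this
    rw [this, one_mul]; exact hb
  · rw [Set.singleton_subset_iff]
    refine ⟨Subgroup.mul_mem _ (Subgroup.mem_sup_left hxW) (Subgroup.mem_sup_right hyW), ?_⟩
    rintro (h | h)
    · have : y ∈ W₁ ⊓ W₂ := by
        refine ⟨?_, hyW⟩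
        have := W₁.mul_mem (W₁.inv_mem hxW) h
        simpa using this
      rw [hdisj, Subgroup.mem_bot] at this
      exact hy1 this
    · have : x ∈ W₁ ⊓ W₂ := by
        refine ⟨hxW, ?_⟩
        have := W₂.mul_mem h (W₂.inv_mem hyW)
        simpa using this
      rw [hdisj, Subgroup.mem_bot] at this
      exact hx1 this

end Cfsg.Agent.S1386
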