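import Cfsg.Statements.S1387
import Mathlib
import Cfsg.Agent.Lib.Helper4.TypeP

namespace Cfsg.Agent.S1387

open Cfsg.Agent.Lib.Helper4.TypeP

/-- Let M be a subgroup of a finite group G with type-P data (W₁, U, W₂) and H = M_F. Then the Fitting subgroup F(M) is generated by H and the centralizer of H in U. -/
theorem result {G : Type*} [Group G] [Finite G] (M W₁ U W₂ : Subgroup G) (hP : Cfsg.IsTypePWith M W₁ U W₂) :
    Cfsg.fittingOf M = Cfsg.fittingHallOf M ⊔ (U ⊓ Subgroup.centralizer (Cfsg.fittingHallOf M : Set G)) := by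
  have hUM' : U ≤ ⁅M, M⁆ := hP.U_compl.2.1
  have hM'M : ⁅M, M⁆ ≤ M := hP.W₁_compl.1
  have hHM : Cfsg.fittingHallOf M ≤ M := fittingHallOf_le M
  apply le_antisymm
  · have hle : ∀ p : Nat.Primes, (Cfsg.pCore (p : ℕ) M).map M.subtype ≤
        Cfsg.fittingHallOf M ⊔ (U ⊓ Subgroup.centralizer (Cfsg.fittingHallOf M : Set G)) := by
      intro p
      have hpf := Fact.mk p.2
      obtain ⟨n, hn⟩ := (Cfsg.Agent.H1.pCore_isPGroup (G := M) (p : ℕ)).exists_card_eq
      by_cases hp : (p : ℕ) ∣ Nat.card (Cfsg.fittingHall M)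
      · have hc : (Nat.card (Cfsg.pCore (p : ℕ) M)).Coprime (Cfsg.fittingHall M).index := by
          rw [hn]
          apply Nat.Coprime.pow_left
          rw [Nat.Prime.coprime_iff_not_dvd p.2]
          intro hd
          have h1 := Nat.dvd_gcd hp hd
          rw [(fittingHall_coprime M : Nat.gcd _ _ = 1)] at h1
          exact p.2.one_lt.ne' (Nat.dvd_one.mp h1)
        haveI := (fittingHall_mem M).1
        have := le_normal_of_coprime_index (Cfsg.fittingHall M) (Cfsg.pCore (p : ℕ) M) hc
        exact le_trans (Subgroup.map_mono this) le_sup_left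
      · have hc : (Nat.card (Cfsg.pCore (p : ℕ) M)).Coprime (Nat.card (Cfsg.fittingHall M)) := by
          rw [hn]
          apply Nat.Coprime.pow_left
          rwa [Nat.Prime.coprime_iff_not_dvd p.2]
        have hcard : Nat.card ((Cfsg.pCore (p : ℕ) M).map M.subtype) =
            Nat.card (Cfsg.pCore (p : ℕ) M) :=
          Nat.card_congr ((Cfsg.pCore (p : ℕ) M).equivMapOfInjective _
            M.subtype_injective).symm.toEquiv
        have hc' : (Nat.card ((Cfsg.pCore (p : ℕ) M).map M.subtype)).Coprime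
            (Nat.card (Cfsg.fittingHallOf M)) := by
          rw [hcard, card_fittingHallOf]; exact hc
        have hP'F : (Cfsg.pCore (p : ℕ) M).map M.subtype ≤ Cfsg.fittingOf M := by
          apply Subgroup.map_mono
          rw [Cfsg.Agent.H1.fittingSubgroup_eq_iSup_pCore]
          exact le_iSup (fun q : Nat.Primes => Cfsg.pCore (q : ℕ) M) p
        have hP'D : (Cfsg.pCore (p : ℕ) M).map M.subtype ≤ ⁅M, M⁆ := hP'F.trans hP.fitting_le
        have hNP : M ≤ Subgroup.normalizer
            (((Cfsg.pCore (p : ℕ) M).map M.subtype : Subgroup G) : Set G) :=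
          le_normalizer_map_subtype M _
        have hU : (Cfsg.pCore (p : ℕ) M).map M.subtype ≤ U :=
          le_of_coprime_of_card_eq _ U ⁅M, M⁆ hP'D hUM' ((hUM'.trans hM'M).trans hNP)
            (Nat.card (Cfsg.fittingHallOf M)) (card_eq_mul_of_complIn hP.U_compl) hc'
        have hdisj : (Cfsg.pCore (p : ℕ) M).map M.subtype ⊓ Cfsg.fittingHallOf M = ⊥ :=
          Subgroup.inf_eq_bot_of_coprime hc'
        have hC : (Cfsg.pCore (p : ℕ) M).map M.subtype ≤
            Subgroup.centralizer (Cfsg.fittingHallOf M : Set G) := by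
          intro x hx
          rw [Subgroup.mem_centralizer_iff]
          intro h hh
          have hxM : x ∈ M := (hP'D.trans hM'M) hx
          have hhM : h ∈ M := hHM hh
          have h1 : x * h * x⁻¹ ∈ Cfsg.fittingHallOf M :=
            (Subgroup.mem_normalizer_iff.mp (le_normalizer_fittingHallOf M hxM) h).mp hh
          have h2 : h * x⁻¹ * h⁻¹ ∈ (Cfsg.pCore (p : ℕ) M).map M.subtype :=
            (Subgroup.mem_normalizer_iff.mp (hNP hhM) x⁻¹).mp (Subgroup.inv_mem _ hx)
          have h3 : x * h * x⁻¹ * h⁻¹ ∈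
              (Cfsg.pCore (p : ℕ) M).map M.subtype ⊓ Cfsg.fittingHallOf M := by
            refine ⟨?_, Subgroup.mul_mem _ h1 (Subgroup.inv_mem _ hh)⟩
            have := Subgroup.mul_mem _ hx h2
            have e : x * (h * x⁻¹ * h⁻¹) = x * h * x⁻¹ * h⁻¹ := by group
            rwa [e] at this
          rw [hdisj, Subgroup.mem_bot] at h3
          have : x * h = h * x := by
            have e : x * h = (x * h * x⁻¹ * h⁻¹) * (h * x) := by group
            rw [e, h3, one_mul]
          exact this.symm
        exact le_trans (le_inf hU hC) le_sup_right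
    unfold Cfsg.fittingOf
    rw [Cfsg.Agent.H1.fittingSubgroup_eq_iSup_pCore, Subgroup.map_iSup]
    exact iSup_le hle
  · rw [← hP.fitting_eq]
    exact sup_le_sup_left (inf_le_inf_right _ (hUM'.trans hM'M)) _

end Cfsg.Agent.S1387
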