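import Cfsg.Statements.S1388
import Mathlib
import Cfsg.Agent.Lib.Helper4.TypeP
import Cfsg.Agent.S1387

namespace Cfsg.Agent.S1388

open Cfsg.Agent.Lib.Helper4.TypeP

/-- Let M be a subgroup of a finite group G with type-P data (W₁, U, W₂) and H = M_F. Then the derived subgroup of U centralizes H, and if U ≠ 1 then U does not centralize H. -/
theorem result {G : Type*} [Group G] [Finite G] (M W₁ U W₂ : Subgroup G) (hP : Cfsg.IsTypePWith M W₁ U W₂) :
    ⁅U, U⁆ ≤ Subgroup.centralizer (Cfsg.fittingHallOf M : Set G) ∧ (U ≠ ⊥ → ¬ U ≤ Subgroup.centralizer (Cfsg.fittingHallOf M : Set G)) := by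
  have hUM' : U ≤ ⁅M, M⁆ := hP.U_compl.2.1
  have hHM' : Cfsg.fittingHallOf M ≤ ⁅M, M⁆ := hP.U_compl.1
  have hM'M : ⁅M, M⁆ ≤ M := hP.W₁_compl.1
  have hHU : Cfsg.fittingHallOf M ⊓ U = ⊥ := hP.U_compl.2.2.1
  constructor
  · have h1 : ⁅U, U⁆ ≤ Cfsg.fittingOf M := by
      calc ⁅U, U⁆ ≤ ⁅⁅M, M⁆, ⁅M, M⁆⁆ := Subgroup.commutator_mono hUM' hUM'
        _ ≤ _ := hP.derived_two_le
        _ = Cfsg.fittingOf M := hP.fitting_eq
    rw [Cfsg.Agent.S1387.result M W₁ U W₂ hP] at h1
    have h2 : ⁅U, U⁆ ≤ U := by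
      rw [Subgroup.commutator_le]
      intro a ha b hb
      exact U.mul_mem (U.mul_mem (U.mul_mem ha hb) (U.inv_mem ha)) (U.inv_mem hb)
    intro x hx
    have hx1 := h1 hx
    have hK : U ⊓ Subgroup.centralizer (Cfsg.fittingHallOf M : Set G) ≤
        Subgroup.normalizer ((Cfsg.fittingHallOf M : Subgroup G) : Set G) :=
      inf_le_left.trans ((hUM'.trans hM'M).trans (le_normalizer_fittingHallOf M))
    rw [sup_comm, ← SetLike.mem_coe, Subgroup.coe_mul_of_left_le_normalizer_right _ _ hK] at hx1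
    obtain ⟨c, hc, h, hh, rfl⟩ := hx1
    have hmem : h ∈ Cfsg.fittingHallOf M ⊓ U := by
      refine ⟨hh, ?_⟩
      have := U.mul_mem (U.inv_mem hc.1) (h2 hx)
      simpa using this
    rw [hHU, Subgroup.mem_bot] at hmem
    show c * h ∈ _
    rw [hmem, mul_one]; exact hc.2
  · intro hU hcent
    apply hU
    have hn : M ≤ Subgroup.normalizer (U : Set G) := by
      intro m hm
      obtain ⟨d, hd, w, hw, rfl⟩ := hP.W₁_compl.2.2.2 m hm
      obtain ⟨h, hh, u, hu, rfl⟩ := hP.U_compl.2.2.2 d hd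
      have h1 : h ∈ Subgroup.normalizer (U : Set G) :=
        Subgroup.centralizer_le_normalizer _ (Subgroup.le_centralizer_iff.mp hcent hh)
      exact Subgroup.mul_mem _ (Subgroup.mul_mem _ h1 (Subgroup.le_normalizer hu)) (hP.U_normal hw)
    have hcM : Nat.card M = Nat.card (⁅M, M⁆ : Subgroup G) * Nat.card W₁ :=
      card_eq_mul_of_complIn hP.W₁_compl
    have hcM' : Nat.card (⁅M, M⁆ : Subgroup G) = Nat.card (Cfsg.fittingHallOf M) * Nat.card U :=
      card_eq_mul_of_complIn hP.U_compl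
    have hUpos : 0 < Nat.card U := Nat.card_pos
    have hHpos : 0 < Nat.card (Cfsg.fittingHallOf M) := Nat.card_pos
    have hrel : U.relIndex M = Nat.card (Cfsg.fittingHallOf M) * Nat.card W₁ := by
      have := card_mul_relIndex_of_le (hUM'.trans hM'M)
      rw [hcM, hcM'] at this
      have e : Nat.card U * U.relIndex M =
          Nat.card U * (Nat.card (Cfsg.fittingHallOf M) * Nat.card W₁) := by
        rw [this]; ring
      exact Nat.eq_of_mul_eq_mul_left hUpos e
    have hc1 : (Nat.card U).Coprime (Nat.card (Cfsg.fittingHallOf M)) := by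
      have h1 : (Cfsg.fittingHallOf M).relIndex ⁅M, M⁆ = Nat.card U := by
        have := card_mul_relIndex_of_le hHM'
        rw [hcM'] at this
        exact Nat.eq_of_mul_eq_mul_left hHpos this
      have h2 : (Cfsg.fittingHallOf M).relIndex ⁅M, M⁆ ∣ (Cfsg.fittingHallOf M).relIndex M :=
        Dvd.intro _ (Subgroup.relIndex_mul_relIndex _ _ _ hHM' hM'M)
      rw [h1] at h2
      exact ((fittingHallOf_coprime M).coprime_dvd_right h2).symm
    have hc2 : (Nat.card U).Coprime (Nat.card W₁) := by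
      have h1 := hP.W₁_hall
      rw [relIndex_eq_card_of_complIn hP.W₁_compl] at h1
      exact (h1.coprime_dvd_right (Subgroup.card_dvd_of_le hUM')).symm
    have hcop : (Nat.card U).Coprime (U.relIndex M) := by
      rw [hrel]; exact Nat.Coprime.mul_right hc1 hc2
    have hle : U ≤ Cfsg.fittingHallOf M :=
      le_fittingHallOf (hUM'.trans hM'M) hn hP.U_nilpotent hcop
    rw [eq_bot_iff, ← hHU]
    exact le_inf hle le_rfl

end Cfsg.Agent.S1388
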