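import Cfsg.Statements.S1441
import Mathlib
import Cfsg.Agent.Lib.Helper4.Stability

namespace Cfsg.Agent.S1441

open Cfsg.Agent.Lib.Helper4.Stability

/-- an element of `A` of order coprime to `|H|` centralizes every term of the chain -/
lemma mem_centralizer_chain {G : Type*} [Group G] [Finite G] (H A : Subgroup G)
    (n : ℕ) (c : Fin (n + 1) → Subgroup G) (hc0 : c 0 = H) (hcn : c (Fin.last n) = ⊥)
    (hanti : Antitone c) (htriv : ∀ i : Fin n, ⁅c i.castSucc, A⁆ ≤ c i.succ)
    (a : G) (ha : a ∈ A) (hcop : (orderOf a).Coprime (Nat.card H)) (i : Fin (n + 1)) :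
    a ∈ Subgroup.centralizer ((c i : Subgroup G) : Set G) := by
  induction i using Fin.reverseInduction with
  | last =>
    rw [hcn, Subgroup.mem_centralizer_iff]
    intro h hh
    rw [SetLike.mem_coe, Subgroup.mem_bot] at hh
    rw [hh, one_mul, mul_one]
  | cast i ih =>
    rw [Subgroup.mem_centralizer_iff]
    intro x hx
    have hle : c i.succ ≤ H := hc0 ▸ hanti (Fin.zero_le _)
    have hmem : x * a * x⁻¹ * a⁻¹ ∈ c i.succ :=
      htriv i (Subgroup.commutator_mem_commutator hx ha)
    exact commute_of_commutator_mem (c i.succ) a x ih hmem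
      (hcop.coprime_dvd_right (Subgroup.card_dvd_of_le hle))

/-- Let G be a finite group, H a solvable subgroup and A a subgroup normalizing H. Suppose there is a chain H = H₀ ≥ H₁ ≥ ⋯ ≥ H_n = 1 of subgroups normal in H and normalized by A such that A acts trivially on each factor H_{i-1}/H_i (that is, [H_{i-1}, A] ≤ H_i). Then every prime dividing the index of C_A(H) in A divides the order of H. -/
theorem result {G : Type*} [Group G] [Finite G] (H A : Subgroup G) (hH : Group.IsSolvable H) (hA : (A ≤ Subgroup.normalizer (H : Set G)))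
    (n : ℕ) (c : Fin (n + 1) → Subgroup G) (hc0 : c 0 = H) (hcn : c (Fin.last n) = ⊥) (hanti : Antitone c)
    (hcN : ∀ i, H ≤ Subgroup.normalizer ((c i : Subgroup G) : Set G)) (hcA : ∀ i, A ≤ Subgroup.normalizer ((c i : Subgroup G) : Set G))
    (htriv : ∀ i : Fin n, ⁅c i.castSucc, A⁆ ≤ c i.succ) :
    ∀ p : ℕ, p.Prime → p ∣ (A ⊓ Subgroup.centralizer (H : Set G)).relIndex A → p ∣ Nat.card H := by
  intro p hp hdvd
  by_contra hnd
  have hpf := Fact.mk hp
  obtain ⟨P⟩ : Nonempty (Sylow p A) := inferInstance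
  have hle : (P : Subgroup A) ≤ (A ⊓ Subgroup.centralizer (H : Set G)).subgroupOf A := by
    intro x hx
    rw [Subgroup.mem_subgroupOf]
    refine ⟨x.2, ?_⟩
    have hord : (orderOf (x : G)).Coprime (Nat.card H) := by
      obtain ⟨k, hk⟩ := P.isPGroup' ⟨x, hx⟩
      have h1 : (x : G) ^ p ^ k = 1 := by
        have := congrArg (fun y : (P : Subgroup A) => ((y : A) : G)) hk
        simpa using this
      have h2 : orderOf (x : G) ∣ p ^ k := orderOf_dvd_of_pow_eq_one h1
      exact Nat.Coprime.coprime_dvd_left h2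
        (Nat.Coprime.pow_left _ ((Nat.Prime.coprime_iff_not_dvd hp).mpr hnd))
    have := mem_centralizer_chain H A n c hc0 hcn hanti htriv (x : G) x.2 hord 0
    rwa [hc0] at this
  have h1 : (A ⊓ Subgroup.centralizer (H : Set G)).relIndex A ∣ (P : Subgroup A).index :=
    Subgroup.index_dvd_of_le hle
  exact P.not_dvd_index (hdvd.trans h1)

end Cfsg.Agent.S1441
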