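import Cfsg.Statements.S1458
import Mathlib
import Cfsg.Agent.Lib.Helper4.ZJE
import Cfsg.Agent.Lib.Helper4.OddStable
import Cfsg.Agent.Lib.Helper4.OddSolv
import Cfsg.Agent.Lib.Helper4.SolvPSolv
import Cfsg.Agent.Lib.Lead.PiCore

set_option autoImplicit false
open Cfsg
open scoped commutatorElement

namespace Cfsg.Agent.S1458


/-- Let G be a solvable group of odd order, p a prime and S a Sylow p-subgroup of G. Then the subgroup generated by the centre of the Thompson subgroup of S and O_{p'}(G) is normal in G. -/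
theorem result {G : Type*} [Group G] [Finite G] [Group.IsSolvable G] (hodd : Odd (Nat.card G)) (p : ℕ) [Fact p.Prime] (S : Sylow p G) :
    (Cfsg.centerThompsonOf p (S : Subgroup G) ⊔ Cfsg.pPrimeCore p G).Normal := by
  classical
  have hp' : p.Prime := Fact.out
  by_cases hp : p = 2
  · -- `G` is a `2'`-group
    have hcop : (Nat.card ↥(⊤ : Subgroup G)).Coprime p := by
      rw [Subgroup.card_top, hp]
      exact Nat.Coprime.symm ((Nat.Prime.coprime_iff_not_dvd Nat.prime_two).mpr (fun h2 => (Nat.not_even_iff_odd.mpr hodd) (even_iff_two_dvd.mpr h2)))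
    have h1 : (⊤ : Subgroup G) ≤ Cfsg.pPrimeCore p G :=
      Cfsg.Agent.Lib.Lead.PiCore.le_pPrimeCore inferInstance hcop
    have h2 : Cfsg.centerThompsonOf p (S : Subgroup G) ⊔ Cfsg.pPrimeCore p G = ⊤ :=
      top_le_iff.mp (h1.trans le_sup_right)
    rw [h2]
    infer_instance
  · set N := Cfsg.pPrimeCore p G with hN
    haveI hNn : N.Normal := Cfsg.Agent.Lib.Lead.PiCore.pPrimeCore_normal p
    set π := QuotientGroup.mk' N with hπ
    have hπs : Function.Surjective π := QuotientGroup.mk'_surjective N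
    have hoddq : Odd (Nat.card (G ⧸ N)) :=
      Odd.of_dvd_nat hodd (Subgroup.card_quotient_dvd_card N)
    have hbot : Cfsg.pPrimeCore p (G ⧸ N) = ⊥ :=
      Cfsg.Agent.Lib.Lead.PiCore.pPrimeCore_quotient_eq_bot hp'
    let Sbar : Sylow p (G ⧸ N) := S.mapSurjective hπs
    have hSbar : (Sbar : Subgroup (G ⧸ N)) = (S : Subgroup G).map π := rfl
    have hsol := Cfsg.Agent.Lib.Helper4.SolvPSolv.isPSolvable_of_isSolvable p (G ⧸ N)
    have hHH := Cfsg.Agent.Lib.Lead.PSolvable.centralizer_pCore_le hsol hbot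
    have hst : ∀ (V : Subgroup (G ⧸ N)) [V.Normal], IsPGroup p V → Cfsg.IsPStableOn p V :=
      fun V _ hV => Cfsg.Agent.Lib.Helper4.OddStable.isPStableOn_of_odd hoddq hp V hV
    have hD : Cfsg.IsStronglyClosed (Sbar : Subgroup (G ⧸ N)) (Sbar : Subgroup (G ⧸ N)) :=
      ⟨le_rfl, fun x _ g h => h⟩
    have hZn := Cfsg.Agent.Lib.Helper4.ZJE.Z_normal hp hHH hst Sbar _ hD
    have hcopN : (Nat.card ↥N).Coprime p := Cfsg.Agent.Lib.Lead.PiCore.pPrimeCore_coprime hp'
    have hinf : N ⊓ (S : Subgroup G) = ⊥ :=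
      Cfsg.Agent.H1.inf_eq_bot_of_pgroup_coprime N (S : Subgroup G) S.isPGroup' hcopN
    have hinj : ∀ x ∈ (S : Subgroup G), π x = 1 → x = 1 := by
      intro x hx hx1
      have hxN : x ∈ N := by
        rw [hπ, QuotientGroup.mk'_apply, QuotientGroup.eq_one_iff] at hx1
        exact hx1
      have : x ∈ N ⊓ (S : Subgroup G) := ⟨hxN, hx⟩
      rw [hinf, Subgroup.mem_bot] at this
      exact this
    have hmap := (Cfsg.Agent.Lib.Helper4.ZJE.pFunctor_WZE hp).map G (G ⧸ N) π (S : Subgroup G) hinj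
    unfold Cfsg.Agent.Lib.Helper4.ZJE.WZE at hmap
    rw [hSbar, hmap] at hZn
    have hcomap : ((Cfsg.centerThompsonOf p (S : Subgroup G)).map π).comap π =
        Cfsg.centerThompsonOf p (S : Subgroup G) ⊔ N := by
      rw [Subgroup.comap_map_eq, hπ, QuotientGroup.ker_mk']
    rw [← hcomap]
    exact hZn.comap π

end Cfsg.Agent.S1458
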