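import Cfsg.Statements.S1462
import Mathlib
import Cfsg.Agent.S1461
import Cfsg.Agent.S0017
import Cfsg.Agent.H2.PPrimeCore
import Cfsg.Agent.H1.Cores
import Cfsg.Agent.H1.Card
import Cfsg.Agent.H1.Thompson
import Cfsg.Agent.H1.PQ
import Cfsg.Agent.H1.SchmidtStructure
import Cfsg.Agent.Lib.Helper4.Sylow
import Cfsg.Agent.Lib.Lead.OmegaFaithful
import Cfsg.Agent.Lib.Lead.Conj

set_option autoImplicit false
open Cfsg
open scoped commutatorElement

namespace Cfsg.Agent.S1462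


theorem main {G : Type*} [Group G] [Finite G] {p : ℕ} [hp : Fact p.Prime] (hp2 : p ≠ 2)
    {Q : Type*} [Group Q] [Finite Q] (π : G →* Q) (hπ : Function.Surjective π)
    (hker : (Nat.card π.ker).Coprime p)
    (hcent : Subgroup.centralizer (Cfsg.pCore p Q : Set Q) ≤ Cfsg.pCore p Q)
    (S : Sylow p G) (hSn : (S : Subgroup G).map π ≤ Cfsg.pCore p Q)
    (E L : Subgroup G) (hES : E ≤ (S : Subgroup G)) (hE : Cfsg.IsElementaryAbelian p E)
    (hEmax : ∀ B : Subgroup G, Cfsg.IsElementaryAbelian p B → E ≤ B → B = E)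
    (hL : (Nat.card L).Coprime p) (hEL : E ≤ Subgroup.normalizer (L : Set G)) :
    L ≤ π.ker := by
  obtain ⟨Pb, hPb⟩ : ∃ Pb, Pb = Cfsg.pCore p Q := ⟨_, rfl⟩
  obtain ⟨Eb, hEb⟩ : ∃ Eb, Eb = E.map π := ⟨_, rfl⟩
  obtain ⟨Lb, hLb⟩ : ∃ Lb, Lb = L.map π := ⟨_, rfl⟩
  rw [← hPb] at hcent hSn
  haveI hPbn : Pb.Normal := by rw [hPb]; exact Cfsg.Agent.H1.pCore_normal p
  have hPbp : IsPGroup p ↥Pb := by rw [hPb]; exact Cfsg.Agent.H1.pCore_isPGroup p
  have hdisj : (S : Subgroup G) ⊓ π.ker = ⊥ := by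
    apply Subgroup.inf_eq_bot_of_coprime
    obtain ⟨k, hk⟩ := S.isPGroup'.exists_card_eq
    rw [hk]
    exact Nat.Coprime.pow_left k hker.symm
  have hSinj : ∀ s ∈ (S : Subgroup G), π s = 1 → s = 1 := by
    intro s hs h1
    have : s ∈ (S : Subgroup G) ⊓ π.ker := Subgroup.mem_inf.2 ⟨hs, MonoidHom.mem_ker.2 h1⟩
    rw [hdisj] at this
    exact Subgroup.mem_bot.1 this
  have hPbS : Pb ≤ (S : Subgroup G).map π := by
    have h := Cfsg.Agent.H1.pCore_le_sylow (S.mapSurjective hπ)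
    rw [Sylow.coe_mapSurjective] at h
    rw [hPb]; exact h
  have hEb_le : Eb ≤ Pb := by rw [hEb]; exact (Subgroup.map_mono hES).trans hSn
  have hEbp : IsPGroup p ↥Eb := hPbp.to_le hEb_le
  have hLbcop : (Nat.card ↥Lb).Coprime p := by
    rw [hLb]; exact Nat.Coprime.coprime_dvd_left (L.card_map_dvd π) hL
  have hdisjLP : Lb ⊓ Pb = ⊥ := by
    apply Subgroup.inf_eq_bot_of_coprime
    obtain ⟨k, hk⟩ := hPbp.exists_card_eq
    rw [hk]
    exact Nat.Coprime.pow_right k hLbcop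
  have hcomm : ∀ e ∈ E, ∀ l ∈ L, π e * π l = π l * π e := by
    intro e he l hl
    have h1 : π e * π l * (π e)⁻¹ * (π l)⁻¹ ∈ Lb ⊓ Pb := by
      refine Subgroup.mem_inf.2 ⟨?_, ?_⟩
      · have hn := hEL he
        have h0 : e * l * e⁻¹ ∈ L := (Subgroup.mem_normalizer_iff.1 hn l).1 hl
        have h2 : π (e * l * e⁻¹ * l⁻¹) ∈ L.map π :=
          Subgroup.mem_map_of_mem π (L.mul_mem h0 (L.inv_mem hl))
        rw [map_mul, map_mul, map_mul, map_inv, map_inv] at h2
        rw [hLb]; exact h2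
      · have hePb : π e ∈ Pb := hEb_le (by rw [hEb]; exact Subgroup.mem_map_of_mem π he)
        have h3 : π l * (π e)⁻¹ * (π l)⁻¹ ∈ Pb := hPbn.conj_mem _ (Pb.inv_mem hePb) _
        have h4 := Pb.mul_mem hePb h3
        have e1 : π e * (π l * (π e)⁻¹ * (π l)⁻¹) = π e * π l * (π e)⁻¹ * (π l)⁻¹ := by group
        rw [e1] at h4; exact h4
    rw [hdisjLP, Subgroup.mem_bot, mul_inv_eq_one, mul_inv_eq_iff_eq_mul] at h1
    exact h1
  have hEbL : Eb ≤ Subgroup.centralizer (Lb : Set Q) := by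
    intro y hy
    rw [hEb] at hy
    obtain ⟨e, he, rfl⟩ := hy
    rw [Subgroup.mem_centralizer_iff]
    intro z hz
    rw [SetLike.mem_coe, hLb] at hz
    obtain ⟨l, hl, rfl⟩ := hz
    exact (hcomm e he l hl).symm
  have hmax : ∀ y ∈ Pb, (∀ e ∈ E, π e * y = y * π e) → y ^ p = 1 → y ∈ Eb := by
    intro y hy hcom hyp
    obtain ⟨x, hxS, rfl⟩ := hPbS hy
    have hxp : x ^ p = 1 := hSinj _ ((S : Subgroup G).pow_mem hxS p) (by rw [map_pow]; exact hyp)
    have hxc : x ∈ Subgroup.centralizer (E : Set G) := by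
      rw [Subgroup.mem_centralizer_iff]
      intro e he
      have h1 : e * x * e⁻¹ * x⁻¹ = 1 := by
        apply hSinj _ ((S : Subgroup G).mul_mem ((S : Subgroup G).mul_mem ((S : Subgroup G).mul_mem (hES he) hxS)
          ((S : Subgroup G).inv_mem (hES he))) ((S : Subgroup G).inv_mem hxS))
        rw [map_mul, map_mul, map_mul, map_inv, map_inv, hcom e he]
        group
      rw [mul_inv_eq_one, mul_inv_eq_iff_eq_mul] at h1
      exact h1
    have hB := Cfsg.Agent.H1.isElementaryAbelian_sup_zpowers_of_centralizer E hE x hxc hxp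
    have hBE := hEmax _ hB le_sup_left
    have hxB : x ∈ E ⊔ Subgroup.zpowers x :=
      (le_sup_right : Subgroup.zpowers x ≤ E ⊔ Subgroup.zpowers x) (Subgroup.mem_zpowers x)
    rw [hBE] at hxB
    rw [hEb]; exact Subgroup.mem_map_of_mem π hxB
  have hall : ∀ l ∈ Lb, l ∈ Subgroup.centralizer
      ((Pb ⊓ Subgroup.centralizer (Eb : Set Q) : Subgroup Q) : Set Q) := by
    intro l hl
    refine Cfsg.Agent.Lib.Lead.OmegaFaithful.centralizes_of_fixes_small (p := p)
      (Pb ⊓ Subgroup.centralizer (Eb : Set Q)) (hPbp.to_le inf_le_left) l ?_ ?_ ?_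
    · apply Cfsg.Agent.Lib.Lead.Conj.mem_normalizer_of_conj_mem
      intro r hr
      obtain ⟨hr1, hr2⟩ := Subgroup.mem_inf.1 hr
      refine Subgroup.mem_inf.2 ⟨hPbn.conj_mem r hr1 l, ?_⟩
      rw [Subgroup.mem_centralizer_iff]
      intro z hz
      have c1 : Commute z l := (Subgroup.mem_centralizer_iff.1 (hEbL hz) l hl).symm
      have c2 : Commute z r := Subgroup.mem_centralizer_iff.1 hr2 z hz
      exact ((c1.mul_right c2).mul_right c1.inv_right).eq
    · have h1 : orderOf l ∣ Nat.card ↥Lb := by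
        have h := orderOf_dvd_natCard (⟨l, hl⟩ : ↥Lb)
        rwa [← Subgroup.orderOf_coe] at h
      exact Nat.Coprime.coprime_dvd_left h1 hLbcop
    · intro x hx hxsmall
      rcases hxsmall with hxp | ⟨h2, _⟩
      · obtain ⟨hxPb, hxc⟩ := Subgroup.mem_inf.1 hx
        have hxE : x ∈ Eb := hmax x hxPb
          (fun e he => Subgroup.mem_centralizer_iff.1 hxc (π e)
            (by rw [hEb]; exact Subgroup.mem_map_of_mem π he)) hxp
        have c : l * x = x * l := Subgroup.mem_centralizer_iff.1 (hEbL hxE) l hl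
        rw [c, mul_inv_cancel_right]
      · exact absurd h2 hp2
  have hkey : Pb ⊓ Subgroup.centralizer (Eb : Set Q) ≤ Subgroup.centralizer (Lb : Set Q) := by
    intro x hx
    rw [Subgroup.mem_centralizer_iff]
    intro l hl
    exact (Subgroup.mem_centralizer_iff.1 (hall l hl) x hx).symm
  have hpq := Cfsg.Agent.H1.pq_aux p Eb Lb hEbp hLbcop hEbL (Nat.card ↥Pb) Pb rfl hPbp
    (by rw [Subgroup.normalizer_eq_top]; exact le_top)
    (by rw [Subgroup.normalizer_eq_top]; exact le_top) hkey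
  intro l hl
  rw [MonoidHom.mem_ker]
  have hlb : π l ∈ Lb := by rw [hLb]; exact Subgroup.mem_map_of_mem π hl
  have h1 : π l ∈ Lb ⊓ Pb := Subgroup.mem_inf.2 ⟨hlb, hcent (hpq hlb)⟩
  rw [hdisjLP, Subgroup.mem_bot] at h1
  exact h1

/-- Let G be a finite solvable group, p an odd prime with G = O_{p',p,p'}(G), E an elementary abelian p-subgroup contained in no larger elementary abelian p-subgroup of G, and L a subgroup of order coprime to p normalized by E. Then L ≤ O_{p'}(G). -/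
theorem result {G : Type*} [Group G] [Finite G] [Group.IsSolvable G] (p : ℕ) [Fact p.Prime] (hp : p ≠ 2) (hpl : Cfsg.PLengthLE p 1 G) (E L : Subgroup G) (hE : Cfsg.IsElementaryAbelian p E)
    (hEmax : ∀ B : Subgroup G, Cfsg.IsElementaryAbelian p B → E ≤ B → B = E) (hL : (Nat.card L).Coprime p) (hEL : E ≤ Subgroup.normalizer (L : Set G)) :
    L ≤ Cfsg.pPrimeCore p G := by
  have hpf := (inferInstance : Fact p.Prime)
  have hEp : IsPGroup p ↥E := fun g => ⟨1, by
    rw [pow_one]; exact Subtype.ext (by simpa using hE.2 g g.2)⟩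
  obtain ⟨S, hES⟩ := hEp.exists_le_sylow
  obtain ⟨K, M, hKn, hMn, hKM, hKp, ⟨a, hMa⟩, ⟨c, hc, hGc⟩⟩ := Cfsg.Agent.S1461.struct p hpl
  haveI := hKn
  haveI := hMn
  have hGa : Nat.card G = p ^ a * (Nat.card K * c) := by rw [hGc, hMa]; ring
  have hpm : ¬ p ∣ Nat.card K * c := by
    intro h
    rcases (Nat.Prime.dvd_mul hpf.out).mp h with h | h
    · exact (Nat.Prime.coprime_iff_not_dvd hpf.out).mp hKp.symm h
    · exact (Nat.Prime.coprime_iff_not_dvd hpf.out).mp hc.symm h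
  have hSc : Nat.card (S : Subgroup G) = p ^ a :=
    Cfsg.Agent.Lib.Helper4.Sylow.card_sylow_of_card_eq hGa hpm S
  have hMi : M.index.Coprime p := by
    have h1 := M.card_mul_index
    rw [hGc] at h1
    have h2 : M.index = c := Nat.eq_of_mul_eq_mul_left Nat.card_pos h1
    rw [h2]; exact hc
  have hSM : (S : Subgroup G) ≤ M :=
    Cfsg.Agent.H1.pgroup_le_normal_of_coprime_index (S : Subgroup G) M S.isPGroup' hMi
  have hKS : K ⊔ (S : Subgroup G) = M := by
    apply Subgroup.eq_of_le_of_card_ge (sup_le hKM hSM)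
    have h5 := Cfsg.Agent.H1.card_sup_mul_card_inf (S : Subgroup G) K
      (by rw [Subgroup.normalizer_eq_top]; exact le_top)
    have h6 : (S : Subgroup G) ⊓ K = ⊥ :=
      (Subgroup.disjoint_of_coprime_natCard
        (by rw [hSc]; exact Nat.Coprime.pow_left a hKp.symm)).eq_bot
    rw [h6, Subgroup.card_bot, mul_one, sup_comm] at h5
    rw [h5, hMa, hSc, mul_comm]
  have hKT : K ≤ Cfsg.pPrimeCore p G := Cfsg.Agent.H1.le_pPrimeCore hKn hKp
  have hMmap : M.map (QuotientGroup.mk' (Cfsg.pPrimeCore p G)) =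
      (S : Subgroup G).map (QuotientGroup.mk' (Cfsg.pPrimeCore p G)) := by
    rw [← hKS, Subgroup.map_sup]
    have hKb : K.map (QuotientGroup.mk' (Cfsg.pPrimeCore p G)) = ⊥ := by
      rw [eq_bot_iff]
      rintro _ ⟨k, hk, rfl⟩
      rw [Subgroup.mem_bot]
      exact (QuotientGroup.eq_one_iff k).2 (hKT hk)
    rw [hKb, bot_sup_eq]
  have hnormal : ((S : Subgroup G).map (QuotientGroup.mk' (Cfsg.pPrimeCore p G))).Normal := by
    rw [← hMmap]
    exact hMn.map _ (QuotientGroup.mk'_surjective _)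
  have hSn := Cfsg.Agent.H1.le_pCore hnormal (S.isPGroup'.map (QuotientGroup.mk' (Cfsg.pPrimeCore p G)))
  have hker : (Nat.card (QuotientGroup.mk' (Cfsg.pPrimeCore p G)).ker).Coprime p := by
    rw [QuotientGroup.ker_mk']; exact Cfsg.Agent.H1.pPrimeCore_coprime p
  have hcent := Cfsg.Agent.S0017.result (G := G ⧸ Cfsg.pPrimeCore p G) p
    (Cfsg.Agent.H2.pPrimeCore_quotient_eq_bot p)
  have hfin := main hp (QuotientGroup.mk' (Cfsg.pPrimeCore p G)) (QuotientGroup.mk'_surjective _)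
    hker hcent S hSn E L hES hE hEmax hL hEL
  rwa [QuotientGroup.ker_mk'] at hfin

end Cfsg.Agent.S1462
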