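import Mathlib
import Cfsg.Statements.S1491
import Cfsg.Agent.Lib.helper3.AbelianInertia
import Cfsg.Agent.Lib.helper3.CliffCorr
import Cfsg.Agent.Lib.helper3.SolvExt2

set_option autoImplicit false
open Cfsg

namespace Cfsg.Agent.S1491

open Cfsg.Agent.Lib.helper3.Irr Cfsg.Agent.Lib.helper3.IndFun

/-- Let H be a normal subgroup of the finite group G and θ an irreducible character of H with inertia group T, where T/H is abelian (commutators of T lie in H) and the index of H in T is coprime to the order of H. Then the function induced from θ is the sum of a set of exactly [T:H] irreducible characters of G, each of degree [G:T] * θ(1). -/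
theorem result {G : Type*} [Group G] [Fintype G] (H T : Subgroup G) [hN : H.Normal] (θ : H → ℂ) (hθ : Cfsg.IsIrrCharacter H θ) (hT : ∀ g : G, g ∈ T ↔ ∀ h : H, θ ⟨g * h * g⁻¹, hN.conj_mem h h.2 g⟩ = θ h) (hab : ∀ x ∈ T, ∀ y ∈ T, x * y * x⁻¹ * y⁻¹ ∈ H) (hcop : Nat.Coprime (Nat.card H) (H.relIndex T)) : ∃ C : Finset (G → ℂ), (∀ χ ∈ C, Cfsg.IsIrrCharacter G χ) ∧ C.card = H.relIndex T ∧ Cfsg.indFun H θ = ∑ χ ∈ C, χ ∧ ∀ χ ∈ C, χ 1 = (T.index : ℂ) * θ 1 := by
  classical
  letI : Fintype T := Fintype.ofFinite T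
  letI : Fintype H := Fintype.ofFinite H
  letI : Fintype (H.subgroupOf T) := Fintype.ofFinite _
  have hθcf := isClassFunction_of_isCharacter (isCharacter_of_isIrrCharacter hθ)
  have hHT : H ≤ T := by
    intro g hg
    rw [hT]
    intro h
    exact hθcf h ⟨g, hg⟩
  obtain ⟨f, hf, hirr, horth, hind⟩ := clifford_corr_aux H T θ hθ hT hHT
  set θ' := subFun H T θ with hθ'def
  have hθ' : Cfsg.IsIrrCharacter (H.subgroupOf T) θ' := isIrrCharacter_subFun hHT hθ
  have hinv' : ∀ (t : T) (n : H.subgroupOf T),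
      θ' ⟨t * n * t⁻¹, (inferInstance : (H.subgroupOf T).Normal).conj_mem (n : T) n.2 t⟩
        = θ' n := by
    intro t n
    exact (hT t).mp t.2 ⟨((n : T) : G), Subgroup.mem_subgroupOf.mp n.2⟩
  have hab' : ∀ x y : T, x * y * x⁻¹ * y⁻¹ ∈ H.subgroupOf T := by
    intro x y
    rw [Subgroup.mem_subgroupOf]
    exact hab x x.2 y y.2
  have hfeq : ∀ ψ : Cfsg.IrrCharacter T,
      Cfsg.classInner (Cfsg.indFun (H.subgroupOf T) θ') (ψ : T → ℂ) = f ψ := by
    intro ψ
    rw [hf]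
    exact classInner_decomposition_left (fun χ : Cfsg.IrrCharacter T => (f χ : ℂ)) ψ
  -- the extension of `θ'` to `T`
  have hcard : Nat.card (H.subgroupOf T) = Nat.card H :=
    Cfsg.Agent.Lib.helper3.IndFunTrans.card_subgroupOf_of_le hHT
  have hsolv : Group.IsSolvable (T ⧸ H.subgroupOf T) :=
    Group.isSolvable_of_comm (quotient_comm_of_commutator_mem (H.subgroupOf T) hab')
  have hcop' : Nat.Coprime (Nat.card (H.subgroupOf T)) (H.subgroupOf T).index := by
    rw [hcard]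
    exact hcop
  obtain ⟨θh, hθh, hθhN⟩ := Cfsg.Agent.Lib.helper3.SolvExt.exists_extension_of_coprime_solvable
    (H.subgroupOf T) hsolv θ' hθ' hinv' hcop'
  set ψ₀ : Cfsg.IrrCharacter T := ⟨θh, hθh⟩ with hψ₀def
  have hfψ₀ : f ψ₀ = 1 := by
    have h1 := hfeq ψ₀
    have hcf := isClassFunction_of_isCharacter (isCharacter_of_isIrrCharacter hθh)
    have hfr := frobenius_reciprocity (H.subgroupOf T) θ' θh hcf
    have h2 : (fun n : H.subgroupOf T => θh n) = θ' := funext hθhN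
    rw [h2, irr_classInner_self hθ'] at hfr
    have h3 : ((f ψ₀ : ℕ) : ℂ) = 1 := by
      rw [← h1]
      exact hfr
    exact_mod_cast h3
  have hψ₀ : f ψ₀ ≠ 0 := by rw [hfψ₀]; exact one_ne_zero
  have hconst : ∀ ψ : Cfsg.IrrCharacter T, f ψ ≠ 0 → f ψ = 1 := by
    intro ψ hψ
    have h1 : Cfsg.classInner (Cfsg.indFun (H.subgroupOf T) θ') (ψ : T → ℂ) ≠ 0 := by
      rw [hfeq]; exact_mod_cast hψ
    have h2 : Cfsg.classInner (Cfsg.indFun (H.subgroupOf T) θ') (ψ₀ : T → ℂ) ≠ 0 := by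
      rw [hfeq]; exact_mod_cast hψ₀
    have h3 := mult_const_of_abelian_quotient (H.subgroupOf T) θ' hθ' hinv' hab'
      (ψ : T → ℂ) (ψ₀ : T → ℂ) ψ.2 ψ₀.2 h1 h2
    rw [hfeq, hfeq, hfψ₀] at h3
    exact_mod_cast h3
  set S : Finset (Cfsg.IrrCharacter T) := Finset.univ.filter (fun ψ => f ψ ≠ 0) with hSdef
  have hSmem : ∀ ψ, ψ ∈ S ↔ f ψ ≠ 0 := by
    intro ψ; simp [hSdef]
  have hinj : Set.InjOn (fun ψ : Cfsg.IrrCharacter T => Cfsg.indFun T (ψ : T → ℂ)) (S : Set _) := by
    intro ψ hψ ψ' hψ' heq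
    simp only at heq
    by_contra hne
    have h1 := horth ψ ψ' ((hSmem ψ).mp hψ) ((hSmem ψ').mp hψ') hne
    rw [← heq, irr_classInner_self (hirr ψ ((hSmem ψ).mp hψ))] at h1
    exact one_ne_zero h1
  refine ⟨S.image (fun ψ : Cfsg.IrrCharacter T => Cfsg.indFun T (ψ : T → ℂ)), ?_, ?_, ?_, ?_⟩
  · intro χ hχ
    obtain ⟨ψ, hψ, rfl⟩ := Finset.mem_image.mp hχ
    exact hirr ψ ((hSmem ψ).mp hψ)
  · -- the counting identity
    rw [Finset.card_image_of_injOn hinj]
    have h1 := card_mul_classInner_indFun_invariant (H.subgroupOf T) θ' hθ' hinv'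
    have h2 : Cfsg.classInner (Cfsg.indFun (H.subgroupOf T) θ') (Cfsg.indFun (H.subgroupOf T) θ')
        = ((∑ ψ : Cfsg.IrrCharacter T, f ψ ^ 2 : ℕ) : ℂ) := by
      rw [hf]
      exact classInner_self_decomposition f
    have h3 : ∑ ψ : Cfsg.IrrCharacter T, f ψ ^ 2 = S.card := by
      rw [← Finset.sum_subset (Finset.subset_univ S)]
      · rw [Finset.sum_congr rfl (fun ψ hψ => by rw [hconst ψ ((hSmem ψ).mp hψ)]),
          Finset.sum_const, smul_eq_mul]
        simp
      · intro ψ _ hψ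
        have : f ψ = 0 := by
          by_contra h
          exact hψ ((hSmem ψ).mpr h)
        rw [this]; rfl
    rw [h2, h3, hcard] at h1
    have h4 : Nat.card H * S.card = Nat.card T := by exact_mod_cast h1
    have h5 : Nat.card (H.subgroupOf T) * (H.subgroupOf T).index = Nat.card T :=
      Subgroup.card_mul_index _
    rw [hcard, ← h4] at h5
    have hpos : 0 < Nat.card H := Nat.card_pos
    exact (Nat.eq_of_mul_eq_mul_left hpos h5).symm
  · rw [hind, ← Finset.sum_subset (Finset.subset_univ S)]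
    · rw [Finset.sum_image hinj]
      apply Finset.sum_congr rfl
      intro ψ hψ
      rw [hconst ψ ((hSmem ψ).mp hψ), Nat.cast_one, one_smul]
    · intro ψ _ hψ
      have : f ψ = 0 := by
        by_contra h
        exact hψ ((hSmem ψ).mpr h)
      rw [this, Nat.cast_zero, zero_smul]
  · intro χ hχ
    obtain ⟨ψ, hψ, rfl⟩ := Finset.mem_image.mp hχ
    rw [indFun_apply_one]
    have hfe : f ψ = 1 := hconst ψ ((hSmem ψ).mp hψ)
    have h1 := apply_one_of_invariant (H.subgroupOf T) θ' hθ' hinv' (ψ : T → ℂ) ψ.2 1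
      (by rw [hfeq, hfe]) one_ne_zero
    rw [h1]
    have h2 : θ' 1 = θ 1 := rfl
    rw [h2]; simp

end Cfsg.Agent.S1491
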