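import Mathlib
import Cfsg.Statements.S1493
import Cfsg.Agent.Lib.helper3.GalPow

set_option autoImplicit false
open Cfsg

namespace Cfsg.Agent.S1493

open Cfsg.Agent.Lib.helper3.Irr Cfsg.Agent.Lib.helper3.GalPow

/-- Let G be a finite group of order a * b with a and b coprime, let k be coprime to a, and let χ be a character of G. Then there is a character χ' of G such that χ'(g) = χ(g ^ k) whenever the order of g divides a and χ'(g) = χ(g) whenever the order of g is coprime to a; moreover χ' is irreducible if χ is. -/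
theorem result {G : Type*} [Group G] [Finite G] (a b k : ℕ) (hab : Nat.card G = a * b) (hcop : Nat.Coprime a b) (hk : Nat.Coprime k a) (χ : G → ℂ) (hχ : Cfsg.IsCharacter G χ) : ∃ χ' : G → ℂ, Cfsg.IsCharacter G χ' ∧ (Cfsg.IsIrrCharacter G χ → Cfsg.IsIrrCharacter G χ') ∧ (∀ g : G, orderOf g ∣ a → χ' g = χ (g ^ k)) ∧ (∀ g : G, Nat.Coprime (orderOf g) a → χ' g = χ g) := by
  classical
  letI : Fintype G := Fintype.ofFinite G
  have hcard : 0 < Nat.card G := Nat.card_pos
  have ha0 : a ≠ 0 := by rintro rfl; rw [zero_mul] at hab; omega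
  have hb0 : b ≠ 0 := by rintro rfl; rw [mul_zero] at hab; omega
  obtain ⟨k', hk'a, hk'b⟩ := Nat.chineseRemainder hcop k 1
  have hk'copa : Nat.Coprime k' a := by
    have := hk'a.gcd_eq
    unfold Nat.Coprime
    rw [this]
    exact hk
  have hk'copb : Nat.Coprime k' b := by
    have := hk'b.gcd_eq
    unfold Nat.Coprime
    rw [this]
    exact Nat.gcd_one_left b
  have hk'cop : Nat.Coprime k' (Nat.card G) := by
    rw [hab]
    exact Nat.Coprime.mul_right hk'copa hk'copb
  refine ⟨fun g => χ (g ^ k'), ?_, ?_, ?_, ?_⟩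
  · obtain ⟨m, hm⟩ := exists_decomposition_of_isCharacter hχ
    have h1 : (fun g => χ (g ^ k'))
        = ∑ ψ : Cfsg.IrrCharacter G, (m ψ : ℂ) • (fun g => (ψ : G → ℂ) (g ^ k')) := by
      funext g
      rw [hm]
      simp only [Finset.sum_apply, Pi.smul_apply]
    rw [h1]
    apply isCharacter_sum
    intro ψ _
    exact isCharacter_nsmul (isCharacter_of_isIrrCharacter (isIrrCharacter_pow ψ.2 k' hk'cop)) _
  · intro hirr
    exact isIrrCharacter_pow hirr k' hk'cop
  · intro g hg
    simp only
    congr 1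
    rw [pow_eq_pow_iff_modEq]
    exact hk'a.of_dvd hg
  · intro g hg
    simp only
    congr 1
    have h1 : orderOf g ∣ a * b := by
      rw [← hab]
      exact orderOf_dvd_natCard g
    have h2 : orderOf g ∣ b := hg.dvd_of_dvd_mul_left h1
    have h3 : k' ≡ 1 [MOD orderOf g] := hk'b.of_dvd h2
    rw [← pow_eq_pow_iff_modEq] at h3
    rw [h3, pow_one]

end Cfsg.Agent.S1493
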