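import Mathlib
import Cfsg.Statements.S1497

set_option autoImplicit false
open Cfsg

namespace Cfsg.Agent.S1497

/-- Let A be a nonempty subset of the finite group G not containing 1 and L a subgroup. Then A is a TI-subset whose normaliser is L if and only if the Dade hypothesis holds for A, L and the constant choice H(a) = ⊥. -/
theorem result {G : Type*} [Group G] [Finite G] (A : Set G) (hA : A.Nonempty) (h1 : (1 : G) ∉ A) (L : Subgroup G) : (Cfsg.IsTISubset A ∧ Subgroup.normalizer A = L) ↔ Cfsg.DadeHypothesis A L (fun _ => ⊥) := by
  have hcent : ∀ a c : G, c ∈ Subgroup.centralizer ({a} : Set G) ↔ a * c = c * a := by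
    intro a c
    rw [Subgroup.mem_centralizer_iff]
    constructor
    · intro h; exact h a rfl
    · intro h w hw
      rw [Set.mem_singleton_iff] at hw
      rw [hw]; exact h
  constructor
  · rintro ⟨hTI, hN⟩
    have hmemN : ∀ a ∈ A, a ∈ Subgroup.normalizer A := by
      intro a ha
      by_contra hna
      have := hTI a hna a ha (by simpa using ha)
      exact h1 (this ▸ ha)
    have hcentL : ∀ a ∈ A, Subgroup.centralizer ({a} : Set G) ≤ L := by
      intro a ha c hc
      rw [← hN]
      by_contra hcn
      have hca : c * a * c⁻¹ = a := by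
        have := (hcent a c).mp hc
        rw [← this]; group
      have := hTI c hcn a ha (by rw [hca]; exact ha)
      exact h1 (this ▸ ha)
    refine ⟨h1, ?_, ?_, ?_, ?_, ?_, ?_, ?_, ?_⟩
    · intro a ha
      rw [← hN]
      exact hmemN a ha
    · intro x hx a ha
      rw [← hN] at hx
      exact (Subgroup.mem_set_normalizer_iff.mp hx a).mp ha
    · intro a ha g hga
      refine ⟨g, ?_, rfl⟩
      rw [← hN]
      by_contra hgn
      have := hTI g hgn a ha hga
      exact h1 (this ▸ ha)
    · intro a _
      exact bot_le
    · intro a _ c _ u hu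
      rw [Subgroup.mem_bot] at hu
      rw [hu]
      simp
    · intro a _
      exact bot_inf_eq _
    · intro a ha
      rw [bot_sup_eq]
      exact inf_eq_right.mpr (hcentL a ha)
    · intro a _ b _
      simp
  · intro hD
    have hcentL : ∀ a ∈ A, Subgroup.centralizer ({a} : Set G) ≤ L := by
      intro a ha
      have := hD.sup_eq a ha
      rw [bot_sup_eq] at this
      rw [← this]
      exact inf_le_left
    have hfus : ∀ a ∈ A, ∀ g : G, g * a * g⁻¹ ∈ A → g ∈ L := by
      intro a ha g hga
      obtain ⟨x, hxL, hx⟩ := hD.fusion a ha g hga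
      have hc : x⁻¹ * g ∈ Subgroup.centralizer ({a} : Set G) := by
        rw [hcent]
        have h2 : a = x⁻¹ * (g * a * g⁻¹) * x := by rw [← hx]; group
        calc a * (x⁻¹ * g) = x⁻¹ * (g * a * g⁻¹) * x * (x⁻¹ * g) := by rw [← h2]
          _ = x⁻¹ * g * a := by group
      have := L.mul_mem hxL (hcentL a ha hc)
      simpa using this
    have hN : Subgroup.normalizer A = L := by
      apply le_antisymm
      · intro g hg
        obtain ⟨a, ha⟩ := hA
        exact hfus a ha g ((Subgroup.mem_set_normalizer_iff.mp hg a).mp ha)
      · intro x hx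
        rw [Subgroup.mem_set_normalizer_iff]
        intro a
        constructor
        · intro ha; exact hD.conj_mem x hx a ha
        · intro ha
          have := hD.conj_mem x⁻¹ (L.inv_mem hx) _ ha
          simpa [mul_assoc] using this
    refine ⟨?_, hN⟩
    intro g hg x hx hgx
    rw [hN] at hg
    exact absurd (hfus x hx g hgx) hg

end Cfsg.Agent.S1497
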