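import Mathlib
import Cfsg.Statements.S1499

set_option autoImplicit false
open Cfsg

namespace Cfsg.Agent.S1499

/-- Under the Dade hypothesis for (A, L, H), let a, b ∈ A. If an element of the coset a·H(a) is conjugate in G to an element of b·H(b), then a and b are conjugate by an element of L. Moreover the set normaliser of the coset a·H(a) is the centraliser of a. -/
theorem result {G : Type*} [Group G] [Finite G] (A : Set G) (L : Subgroup G) (H : G → Subgroup G) (hD : Cfsg.DadeHypothesis A L H) (a b : G) (ha : a ∈ A) (hb : b ∈ A) : ((∃ u ∈ H a, ∃ v ∈ H b, ∃ g : G, g * (a * u) * g⁻¹ = b * v) → ∃ x ∈ L, x * a * x⁻¹ = b) ∧ Subgroup.normalizer ((fun u : G => a * u) '' (H a : Set G)) = Subgroup.centralizer ({a} : Set G) := by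
  classical
  -- the power trick
  have trick : ∀ (a u : G) (n m : ℕ) (s t : ℤ), a * u = u * a → a ^ n = 1 → u ^ m = 1 →
      (1 : ℤ) = (n : ℤ) * s + (m : ℤ) * t → (a * u) ^ ((m : ℤ) * t) = a := by
    intro a u n m s t hc han hum hst
    have hcm : Commute a u := hc
    rw [hcm.mul_zpow, zpow_mul u, zpow_natCast, hum, one_zpow, mul_one]
    have : (m : ℤ) * t = 1 - (n : ℤ) * s := by linarith
    rw [this, zpow_sub, zpow_one, zpow_mul, zpow_natCast, han, one_zpow, inv_one, mul_one]
  have hcent : ∀ a c : G, c ∈ Subgroup.centralizer ({a} : Set G) ↔ a * c = c * a := by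
    intro a c
    rw [Subgroup.mem_centralizer_iff]
    constructor
    · intro h; exact h a rfl
    · intro h w hw
      rw [Set.mem_singleton_iff] at hw
      rw [hw]; exact h
  -- orders of elements of `A` are coprime to the orders of the `H c`
  have hcop : ∀ a ∈ A, ∀ c ∈ A, Nat.Coprime (orderOf a) (Nat.card (H c)) := by
    intro a ha c hc
    have h1 := hD.coprime c hc a ha
    have ha2 : a ∈ L ⊓ Subgroup.centralizer ({a} : Set G) :=
      ⟨hD.subset ha, (hcent a a).mpr rfl⟩
    have h2 : orderOf a ∣ Nat.card ↥(L ⊓ Subgroup.centralizer ({a} : Set G)) :=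
      Subgroup.orderOf_dvd_natCard _ ha2
    exact (Nat.Coprime.coprime_dvd_right h2 h1).symm
  have hpowH : ∀ (c u : G), u ∈ H c → u ^ (Nat.card (H c)) = 1 := by
    intro c u hu
    have : (⟨u, hu⟩ : H c) ^ (Nat.card (H c)) = 1 := pow_card_eq_one'
    have h := congrArg Subtype.val this
    rw [Subgroup.coe_pow, Subgroup.coe_one] at h
    exact h
  constructor
  · rintro ⟨u, hu, v, hv, g, hg⟩
    -- common exponent
    set n := orderOf a * orderOf b with hn
    set m := Nat.card (H a) * Nat.card (H b) with hm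
    have hnm : Nat.Coprime n m := by
      apply Nat.Coprime.mul_left
      · exact Nat.Coprime.mul_right (hcop a ha a ha) (hcop a ha b hb)
      · exact Nat.Coprime.mul_right (hcop b hb a ha) (hcop b hb b hb)
    have hbez : (1 : ℤ) = (n : ℤ) * Nat.gcdA n m + (m : ℤ) * Nat.gcdB n m := by
      have := Nat.gcd_eq_gcd_ab n m
      rw [hnm] at this
      exact_mod_cast this
    have hau : a * u = u * a := (hcent a u).mp (hD.le_centralizer a ha hu)
    have hbv : b * v = v * b := (hcent b v).mp (hD.le_centralizer b hb hv)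
    have h1 : (a * u) ^ ((m : ℤ) * Nat.gcdB n m) = a := by
      apply trick a u n m _ _ hau _ _ hbez
      · rw [hn, pow_mul, pow_orderOf_eq_one, one_pow]
      · rw [hm, pow_mul, hpowH a u hu, one_pow]
    have h2 : (b * v) ^ ((m : ℤ) * Nat.gcdB n m) = b := by
      apply trick b v n m _ _ hbv _ _ hbez
      · rw [hn, mul_comm, pow_mul, pow_orderOf_eq_one, one_pow]
      · rw [hm, mul_comm, pow_mul, hpowH b v hv, one_pow]
    have h3 : g * a * g⁻¹ = b := by
      rw [← h2, ← hg, conj_zpow, h1]
    obtain ⟨x, hxL, hx⟩ := hD.fusion a ha g (by rw [h3]; exact hb)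
    exact ⟨x, hxL, by rw [hx, h3]⟩
  · ext g
    rw [Subgroup.mem_set_normalizer_iff, hcent]
    constructor
    · intro hg
      have h1 : a ∈ (fun u : G => a * u) '' (H a : Set G) := ⟨1, (H a).one_mem, mul_one a⟩
      obtain ⟨u, hu, hu2⟩ := (hg a).mp h1
      simp only at hu2
      have hau : a * u = u * a := (hcent a u).mp (hD.le_centralizer a ha hu)
      set n := orderOf a with hn
      set m := Nat.card (H a) with hm
      have hnm : Nat.Coprime n m := hcop a ha a ha
      have hbez : (1 : ℤ) = (n : ℤ) * Nat.gcdA n m + (m : ℤ) * Nat.gcdB n m := by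
        have := Nat.gcd_eq_gcd_ab n m
        rw [hnm] at this
        exact_mod_cast this
      have h2 : (a * u) ^ ((m : ℤ) * Nat.gcdB n m) = a :=
        trick a u n m _ _ hau (pow_orderOf_eq_one a) (hpowH a u hu) hbez
      have h3 : a ^ ((m : ℤ) * Nat.gcdB n m) = a := by
        have := trick a 1 n m _ _ (by simp) (pow_orderOf_eq_one a) (one_pow _) hbez
        simpa using this
      have h4 : g * a * g⁻¹ = a := by
        calc g * a * g⁻¹ = g * a ^ ((m : ℤ) * Nat.gcdB n m) * g⁻¹ := by rw [h3]
          _ = (g * a * g⁻¹) ^ ((m : ℤ) * Nat.gcdB n m) := by rw [conj_zpow]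
          _ = (a * u) ^ ((m : ℤ) * Nat.gcdB n m) := by rw [hu2]
          _ = a := h2
      calc a * g = (g * a * g⁻¹) * g := by rw [h4]
        _ = g * a := by group
    · intro hg w
      have hgc : g ∈ Subgroup.centralizer ({a} : Set G) := (hcent a g).mpr hg
      have hgc' : g⁻¹ ∈ Subgroup.centralizer ({a} : Set G) := Subgroup.inv_mem _ hgc
      have hg' : a * g⁻¹ = g⁻¹ * a := (hcent a g⁻¹).mp hgc'
      constructor
      · rintro ⟨u, hu, rfl⟩
        refine ⟨g * u * g⁻¹, hD.conj_mem_H a ha g hgc u hu, ?_⟩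
        simp only
        calc a * (g * u * g⁻¹) = (a * g) * u * g⁻¹ := by group
          _ = g * a * u * g⁻¹ := by rw [hg]
          _ = g * (a * u) * g⁻¹ := by group
      · rintro ⟨u, hu, hu2⟩
        simp only at hu2
        refine ⟨g⁻¹ * u * g, ?_, ?_⟩
        · have := hD.conj_mem_H a ha g⁻¹ hgc' u hu
          simpa using this
        · simp only
          calc a * (g⁻¹ * u * g) = (a * g⁻¹) * u * g := by group
            _ = g⁻¹ * (a * u) * g := by rw [hg']; group
            _ = g⁻¹ * (g * w * g⁻¹) * g := by rw [hu2]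
            _ = w := by group

end Cfsg.Agent.S1499
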