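import Mathlib
import Cfsg.Statements.S1503
import Cfsg.Agent.Lib.helper3.Vanish

set_option autoImplicit false
open Cfsg

namespace Cfsg.Agent.S1503

/-- Let W₁, W₂ ≤ G with W = W₁ ⊔ W₂ and let χ an orthonormal family of irreducible characters of G up to sign, indexed by the linear characters ω of W, with χ_1 = 1, χ_ω = ω on W outside W₁ ∪ W₂, and the induction identity for (1 − φ)(1 − ψ). If θ is an irreducible character of G orthogonal to χ ω for every linear character ω of W, then θ vanishes at every element of W lying outside W₁ ∪ W₂. -/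
theorem result {G : Type*} [Group G] [Fintype G] (W₁ W₂ : Subgroup G) (hW : Cfsg.IsSelfNormalizingCyclic W₁ W₂) (χ : (↥(W₁ ⊔ W₂) →* ℂˣ) → (G → ℂ)) (hχ : Cfsg.IsCyclicTIFamily W₁ W₂ χ) (θ : G → ℂ) (hθ : Cfsg.IsIrrCharacter G θ) (horth : ∀ ω, Cfsg.classInner θ (χ ω) = 0) (w : ↥(W₁ ⊔ W₂)) (hw₁ : (w : G) ∉ W₁) (hw₂ : (w : G) ∉ W₂) : θ w = 0 := by
  classical
  obtain ⟨hW1, hW2, hinf, hcomm, hcyc, hnorm⟩ := hW
  have hxV : ({(w : G)} : Set G) ⊆ (↑(W₁ ⊔ W₂) : Set G) \ (↑W₁ ∪ ↑W₂) := by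
    intro y hy
    rw [Set.mem_singleton_iff] at hy
    subst hy
    exact ⟨w.2, fun h => h.elim hw₁ hw₂⟩
  have hN := hnorm {(w : G)} hxV (Set.singleton_nonempty _)
  have hC : Subgroup.centralizer ({(w : G)} : Set G) = W₁ ⊔ W₂ := by
    refine Eq.trans ?_ hN
    ext g
    rw [Subgroup.mem_centralizer_iff, Subgroup.mem_set_normalizer_iff]
    constructor
    · intro h n
      simp only [Set.mem_singleton_iff]
      have hg : (w : G) * g = g * w := h _ rfl
      constructor
      · rintro rfl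
        rw [← hg]; group
      · intro h2
        have : n = g⁻¹ * (g * n * g⁻¹) * g := by group
        rw [this, h2, mul_assoc, hg]; group
    · intro h y hy
      rw [Set.mem_singleton_iff] at hy
      rw [hy]
      have := (h (w : G)).mp rfl
      rw [Set.mem_singleton_iff] at this
      calc (w : G) * g = (g * w * g⁻¹) * g := by rw [this]
        _ = g * w := by group
  -- the dual group of `W`
  letI : CommGroup ↥(W₁ ⊔ W₂) := IsCyclic.commGroup
  haveI : NeZero ((Monoid.exponent ↥(W₁ ⊔ W₂) : ℕ) : ℂ) :=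
    ⟨Nat.cast_ne_zero.mpr Monoid.exponent_ne_zero_of_finite⟩
  have hcard : Nat.card (↥(W₁ ⊔ W₂) →* ℂˣ) = Nat.card ↥(W₁ ⊔ W₂) :=
    CommGroup.card_monoidHom_of_hasEnoughRootsOfUnity ↥(W₁ ⊔ W₂) ℂ
  letI : Fintype (↥(W₁ ⊔ W₂) →* ℂˣ) := Fintype.ofFinite _
  -- the irreducible characters attached to the family
  have hneg : ∀ ω, ¬ Cfsg.IsIrrCharacter G (χ ω) → Cfsg.IsIrrCharacter G (-χ ω) := by
    intro ω h
    rcases hχ.irr_or_neg ω with h1 | h1
    · exact absurd h1 h
    · exact h1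
  obtain ⟨ι, hι⟩ : ∃ ι : (↥(W₁ ⊔ W₂) →* ℂˣ) → Cfsg.IrrCharacter G,
      ι = fun ω => if h : Cfsg.IsIrrCharacter G (χ ω) then ⟨χ ω, h⟩ else ⟨-χ ω, hneg ω h⟩ :=
    ⟨_, rfl⟩
  have hιval : ∀ ω, (ι ω : G → ℂ) = χ ω ∨ (ι ω : G → ℂ) = -χ ω := by
    intro ω
    rw [hι]
    simp only
    split_ifs with h
    · left; rfl
    · right; rfl
  have hself : ∀ ω, Cfsg.classInner (χ ω) (χ ω) = 1 := by
    intro ω
    rw [hχ.orthonormal, if_pos rfl]
  have hιinj : Function.Injective ι := by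
    intro ω ω' h
    by_contra hne
    have h0 := hχ.orthonormal ω ω'
    rw [if_neg hne] at h0
    have h1 : (ι ω : G → ℂ) = (ι ω' : G → ℂ) := congrArg Subtype.val h
    have h2 := hself ω'
    rcases hιval ω with e | e <;> rcases hιval ω' with e' | e'
    · rw [e, e'] at h1
      rw [h1, h2] at h0
      exact one_ne_zero h0
    · rw [e, e'] at h1
      rw [h1, Cfsg.Agent.Lib.helper3.Irr.classInner_neg_left, h2] at h0
      exact one_ne_zero (neg_eq_zero.mp h0)
    · rw [e, e'] at h1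
      have h3 : χ ω = -χ ω' := by rw [← h1, neg_neg]
      rw [h3, Cfsg.Agent.Lib.helper3.Irr.classInner_neg_left, h2] at h0
      exact one_ne_zero (neg_eq_zero.mp h0)
    · rw [e, e'] at h1
      have h3 : χ ω = χ ω' := neg_injective h1
      rw [h3, h2] at h0
      exact one_ne_zero h0
  have hθnot : (⟨θ, hθ⟩ : Cfsg.IrrCharacter G) ∉ Finset.univ.image ι := by
    intro hmem
    obtain ⟨ω, -, hω⟩ := Finset.mem_image.mp hmem
    have h1 : (ι ω : G → ℂ) = θ := congrArg Subtype.val hω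
    have h0 := horth ω
    have h2 := hself ω
    rcases hιval ω with e | e
    · rw [← h1, e, h2] at h0
      exact one_ne_zero h0
    · rw [← h1, e, Cfsg.Agent.Lib.helper3.Irr.classInner_neg_left, h2] at h0
      exact one_ne_zero (neg_eq_zero.mp h0)
  -- values at `w`
  have hval : ∀ ω, Complex.normSq ((ι ω : G → ℂ) w) = 1 := by
    intro ω
    have h1 := hχ.eq_on ω w hw₁ hw₂
    have h2 : Complex.normSq ((ω w : ℂˣ) : ℂ) = 1 := by
      have hn : ‖((ω w : ℂˣ) : ℂ)‖ = 1 := by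
        apply Complex.norm_eq_one_of_pow_eq_one (n := Nat.card ↥(W₁ ⊔ W₂)) _ Nat.card_pos.ne'
        rw [← Units.val_pow_eq_pow_val, ← map_pow, pow_card_eq_one', map_one, Units.val_one]
      rw [Complex.normSq_eq_norm_sq, hn, one_pow]
    rcases hιval ω with e | e
    · rw [e, h1, h2]
    · rw [e, Pi.neg_apply, Complex.normSq_neg, h1, h2]
  -- column orthogonality
  have hcol := Cfsg.Agent.Lib.helper3.Irr.sum_normSq_eq_card_centralizer (w : G)
  rw [hC] at hcol
  have hle : ∑ ψ ∈ insert (⟨θ, hθ⟩ : Cfsg.IrrCharacter G) (Finset.univ.image ι),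
      Complex.normSq ((ψ : G → ℂ) w) ≤ ∑ ψ : Cfsg.IrrCharacter G, Complex.normSq ((ψ : G → ℂ) w) := by
    apply Finset.sum_le_sum_of_subset_of_nonneg (Finset.subset_univ _)
    intro ψ _ _
    exact Complex.normSq_nonneg _
  rw [Finset.sum_insert hθnot, Finset.sum_image (fun a _ b _ h => hιinj h),
    Finset.sum_congr rfl (fun ω _ => hval ω), Finset.sum_const, Finset.card_univ,
    ← Nat.card_eq_fintype_card, hcard, hcol, nsmul_eq_mul, mul_one] at hle
  have h0 : Complex.normSq (θ w) ≤ 0 := by linarith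
  have h1 : Complex.normSq (θ w) = 0 := le_antisymm h0 (Complex.normSq_nonneg _)
  exact Complex.normSq_eq_zero.mp h1

end Cfsg.Agent.S1503
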