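import Cfsg.Statements.S1504

set_option autoImplicit false
open Cfsg

namespace Cfsg.Agent.S1504

variable {G : Type*} [Group G]

/-- two characters of the join agreeing on both factors agree -/
theorem hom_ext_sup (W₁ W₂ : Subgroup G) (χ χ' : ↥(W₁ ⊔ W₂) →* ℂˣ)
    (h1 : ∀ w : ↥(W₁ ⊔ W₂), (w : G) ∈ W₁ → χ w = χ' w)
    (h2 : ∀ w : ↥(W₁ ⊔ W₂), (w : G) ∈ W₂ → χ w = χ' w) : χ = χ' := by
  have hle1 : W₁.subgroupOf (W₁ ⊔ W₂) ≤ MonoidHom.eqLocus χ χ' := by
    intro w hw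
    exact h1 w (Subgroup.mem_subgroupOf.mp hw)
  have hle2 : W₂.subgroupOf (W₁ ⊔ W₂) ≤ MonoidHom.eqLocus χ χ' := by
    intro w hw
    exact h2 w (Subgroup.mem_subgroupOf.mp hw)
  have htop : MonoidHom.eqLocus χ χ' = ⊤ := by
    rw [eq_top_iff, ← Subgroup.subgroupOf_self (W₁ ⊔ W₂),
      Subgroup.subgroupOf_sup le_sup_left le_sup_right]
    exact sup_le hle1 hle2
  ext w
  have : w ∈ MonoidHom.eqLocus χ χ' := by rw [htop]; exact Subgroup.mem_top w
  exact congrArg Units.val this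

/-- the characters as complex functions -/
noncomputable def ev (W : Type*) [Group W] (χ : W →* ℂˣ) : W → ℂ := fun w => ((χ w : ℂˣ) : ℂ)

theorem ev_linearIndependent (W : Type*) [Group W] : LinearIndependent ℂ (ev W) := by
  have h := linearIndependent_monoidHom W ℂ
  have hinj : Function.Injective (fun χ : W →* ℂˣ => (Units.coeHom ℂ).comp χ) := by
    intro χ χ' h
    ext w
    exact congrArg (fun f : W →* ℂ => f w) h
  exact h.comp _ hinj

/-- Let W₁, W₂ be subgroups of a finite group with W₁ ⊓ W₂ = ⊥ whose elements commute, and W = W₁ ⊔ W₂. For linear characters φ, ψ of W with φ trivial on W₂ and ψ trivial on W₁, the function (1 − φ)(1 − ψ) vanishes on W₁ ∪ W₂; and the family of these functions, indexed by pairs (φ, ψ) with φ ≠ 1 ≠ ψ, is linearly independent over ℂ. -/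
theorem result {G : Type*} [Group G] [Finite G] (W₁ W₂ : Subgroup G) (hdisj : W₁ ⊓ W₂ = ⊥) (hcomm : ∀ a ∈ W₁, ∀ b ∈ W₂, a * b = b * a) : (∀ φ ψ : ↥(W₁ ⊔ W₂) →* ℂˣ, (∀ w : ↥(W₁ ⊔ W₂), (w : G) ∈ W₂ → φ w = 1) → (∀ w : ↥(W₁ ⊔ W₂), (w : G) ∈ W₁ → ψ w = 1) → ∀ w : ↥(W₁ ⊔ W₂), ((w : G) ∈ W₁ ∨ (w : G) ∈ W₂) → (1 - (φ w : ℂ) - (ψ w : ℂ) + (φ w : ℂ) * (ψ w : ℂ)) = 0) ∧ LinearIndependent ℂ (fun p : {p : (↥(W₁ ⊔ W₂) →* ℂˣ) × (↥(W₁ ⊔ W₂) →* ℂˣ) // p.1 ≠ 1 ∧ p.2 ≠ 1 ∧ (∀ w : ↥(W₁ ⊔ W₂), (w : G) ∈ W₂ → p.1 w = 1) ∧ (∀ w : ↥(W₁ ⊔ W₂), (w : G) ∈ W₁ → p.2 w = 1)} => fun w : ↥(W₁ ⊔ W₂) => 1 - (p.1.1 w : ℂ) - (p.1.2 w : ℂ) + (p.1.1 w : ℂ) * (p.1.2 w : ℂ)) := by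
  classical
  refine ⟨?_, ?_⟩
  · intro φ ψ hφ hψ w hw
    rcases hw with hw | hw
    · rw [hψ w hw]; simp
    · rw [hφ w hw]; simp
  · set W := ↥(W₁ ⊔ W₂)
    rw [linearIndependent_iff]
    intro c hc
    -- the coefficient vectors
    let L : {p : (W →* ℂˣ) × (W →* ℂˣ) // p.1 ≠ 1 ∧ p.2 ≠ 1 ∧ (∀ w : W, (w : G) ∈ W₂ → p.1 w = 1) ∧ (∀ w : W, (w : G) ∈ W₁ → p.2 w = 1)} → ((W →* ℂˣ) →₀ ℂ) :=
      fun p => Finsupp.single 1 1 - Finsupp.single p.1.1 1 - Finsupp.single p.1.2 1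
        + Finsupp.single (p.1.1 * p.1.2) 1
    have hL : ∀ p, Finsupp.linearCombination ℂ (ev W) (L p)
        = fun w : W => 1 - (p.1.1 w : ℂ) - (p.1.2 w : ℂ) + (p.1.1 w : ℂ) * (p.1.2 w : ℂ) := by
      intro p
      simp only [L, map_add, map_sub, Finsupp.linearCombination_single, one_smul]
      funext w
      simp [ev]
    have h1 : Finsupp.linearCombination ℂ (ev W) (Finsupp.linearCombination ℂ L c) = 0 := by
      have hfun : (⇑(Finsupp.linearCombination ℂ (ev W)) ∘ L)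
          = (fun p w => 1 - (p.1.1 w : ℂ) - (p.1.2 w : ℂ) + (p.1.1 w : ℂ) * (p.1.2 w : ℂ)) :=
        funext hL
      rw [LinearMap.map_finsupp_linearCombination, hfun]
      exact hc
    have h2 := linearIndependent_iff.mp (ev_linearIndependent W) _ h1
    ext q
    have h3 := DFunLike.congr_fun h2 (q.1.1 * q.1.2)
    rw [Finsupp.linearCombination_apply, Finsupp.sum, Finsupp.finsetSum_apply] at h3
    simp only [Finsupp.smul_apply, smul_eq_mul, Finsupp.zero_apply] at h3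
    obtain ⟨⟨φq, ψq⟩, hφq1, hψq1, hφq, hψq⟩ := q
    have hval : ∀ p : {p : (W →* ℂˣ) × (W →* ℂˣ) // p.1 ≠ 1 ∧ p.2 ≠ 1 ∧ (∀ w : W, (w : G) ∈ W₂ → p.1 w = 1) ∧ (∀ w : W, (w : G) ∈ W₁ → p.2 w = 1)},
        (L p) (φq * ψq) = if p = ⟨⟨φq, ψq⟩, hφq1, hψq1, hφq, hψq⟩ then 1 else 0 := by
      rintro ⟨⟨φp, ψp⟩, hφp1, hψp1, hφp, hψp⟩
      simp only at hφp1 hψp1 hφp hψp hφq1 hψq1 hφq hψq
      have ha : (1 : W →* ℂˣ) ≠ φq * ψq := by
        intro h
        apply hφq1
        apply hom_ext_sup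
        · intro w hw
          have := DFunLike.congr_fun h w
          rw [MonoidHom.mul_apply, hψq w hw, mul_one] at this
          rw [← this]
        · intro w hw
          rw [hφq w hw]; rfl
      have hb : φp ≠ φq * ψq := by
        intro h
        apply hψq1
        apply hom_ext_sup
        · intro w hw
          rw [hψq w hw]; rfl
        · intro w hw
          have := DFunLike.congr_fun h w
          rw [MonoidHom.mul_apply, hφp w hw, hφq w hw, one_mul] at this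
          rw [← this]; rfl
      have hc' : ψp ≠ φq * ψq := by
        intro h
        apply hφq1
        apply hom_ext_sup
        · intro w hw
          have := DFunLike.congr_fun h w
          rw [MonoidHom.mul_apply, hψp w hw, hψq w hw, mul_one] at this
          rw [← this]; rfl
        · intro w hw
          rw [hφq w hw]; rfl
      simp only [L, Finsupp.add_apply, Finsupp.sub_apply, Finsupp.single_apply, if_neg ha, if_neg hb,
        if_neg hc']
      by_cases hpq : φp * ψp = φq * ψq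
      · have e1 : φp = φq := by
          apply hom_ext_sup
          · intro w hw
            have := DFunLike.congr_fun hpq w
            rw [MonoidHom.mul_apply, MonoidHom.mul_apply, hψp w hw, hψq w hw, mul_one, mul_one] at this
            exact this
          · intro w hw
            rw [hφp w hw, hφq w hw]
        have e2 : ψp = ψq := by
          apply hom_ext_sup
          · intro w hw
            rw [hψp w hw, hψq w hw]
          · intro w hw
            have := DFunLike.congr_fun hpq w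
            rw [MonoidHom.mul_apply, MonoidHom.mul_apply, hφp w hw, hφq w hw, one_mul, one_mul] at this
            exact this
        subst e1 e2
        simp
      · have : ¬ (⟨⟨φp, ψp⟩, hφp1, hψp1, hφp, hψp⟩ : {p : (W →* ℂˣ) × (W →* ℂˣ) // p.1 ≠ 1 ∧ p.2 ≠ 1 ∧ (∀ w : W, (w : G) ∈ W₂ → p.1 w = 1) ∧ (∀ w : W, (w : G) ∈ W₁ → p.2 w = 1)})
            = ⟨⟨φq, ψq⟩, hφq1, hψq1, hφq, hψq⟩ := by
          intro h
          apply hpq
          have h' := congrArg Subtype.val h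
          simp only [Prod.mk.injEq] at h'
          rw [h'.1, h'.2]
        rw [if_neg hpq, if_neg this]
        simp
    simp only [hval] at h3
    rw [Finset.sum_eq_single (⟨⟨φq, ψq⟩, hφq1, hψq1, hφq, hψq⟩ : {p : (W →* ℂˣ) × (W →* ℂˣ) // p.1 ≠ 1 ∧ p.2 ≠ 1 ∧ (∀ w : W, (w : G) ∈ W₂ → p.1 w = 1) ∧ (∀ w : W, (w : G) ∈ W₁ → p.2 w = 1)})] at h3
    · simpa using h3
    · intro b _ hb
      rw [if_neg hb, mul_zero]
    · intro hmem
      rw [Finsupp.notMem_support_iff.mp hmem, zero_mul]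


end Cfsg.Agent.S1504
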