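import Mathlib
import Cfsg.Statements.S1506
import Cfsg.Agent.Lib.helper3.Signed

set_option autoImplicit false
open Cfsg

namespace Cfsg.Agent.S1506

/-- Let W₁, W₂ ≤ G form a self-normalising cyclic subgroup W = W₁ ⊔ W₂ and χ an orthonormal family of irreducible characters of G up to sign, indexed by the linear characters ω of W, with χ_1 = 1, χ_ω = ω on W outside W₁ ∪ W₂, and the induction identity for (1 − φ)(1 − ψ). Let θ be a class function of G vanishing at every element of W outside W₁ ∪ W₂. For linear characters φ, φ' of W trivial on W₂ and ψ, ψ' trivial on W₁, the inner products a(ω) = ⟨θ, χ ω⟩ satisfy a(φψ) + a(φ'ψ') = a(φψ') + a(φ'ψ). -/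
theorem result {G : Type*} [Group G] [Fintype G] (W₁ W₂ : Subgroup G) (hW : Cfsg.IsSelfNormalizingCyclic W₁ W₂) (χ : (↥(W₁ ⊔ W₂) →* ℂˣ) → (G → ℂ)) (hχ : Cfsg.IsCyclicTIFamily W₁ W₂ χ) (θ : G → ℂ) (hθ : Cfsg.IsClassFunction G θ) (hθV : ∀ w : ↥(W₁ ⊔ W₂), (w : G) ∉ W₁ → (w : G) ∉ W₂ → θ w = 0) (φ φ' ψ ψ' : ↥(W₁ ⊔ W₂) →* ℂˣ) (hφ₂ : ∀ w : ↥(W₁ ⊔ W₂), (w : G) ∈ W₂ → φ w = 1 ∧ φ' w = 1) (hψ₁ : ∀ w : ↥(W₁ ⊔ W₂), (w : G) ∈ W₁ → ψ w = 1 ∧ ψ' w = 1) : Cfsg.classInner θ (χ (φ * ψ)) + Cfsg.classInner θ (χ (φ' * ψ')) = Cfsg.classInner θ (χ (φ * ψ')) + Cfsg.classInner θ (χ (φ' * ψ)) := by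
  classical
  let _ : Fintype ↥(W₁ ⊔ W₂) := Fintype.ofFinite _
  -- the basic relation
  have key : ∀ φ ψ : ↥(W₁ ⊔ W₂) →* ℂˣ, (∀ w : ↥(W₁ ⊔ W₂), (w : G) ∈ W₂ → φ w = 1) →
      (∀ w : ↥(W₁ ⊔ W₂), (w : G) ∈ W₁ → ψ w = 1) →
      Cfsg.classInner θ (χ (φ * ψ)) = Cfsg.classInner θ (χ φ) + Cfsg.classInner θ (χ ψ)
        - Cfsg.classInner θ (fun _ => 1) := by
    intro φ ψ hφ hψ
    -- the induced function
    have hind : Cfsg.indFun (W₁ ⊔ W₂)
        (fun w => 1 - (φ w : ℂ) - (ψ w : ℂ) + (φ w : ℂ) * (ψ w : ℂ)) =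
        fun g => 1 - χ φ g - χ ψ g + χ (φ * ψ) g := by
      by_cases h1 : φ = 1
      · subst h1
        have hz : (fun w : ↥(W₁ ⊔ W₂) =>
            1 - (((1 : ↥(W₁ ⊔ W₂) →* ℂˣ) w : ℂˣ) : ℂ) - (ψ w : ℂ)
              + (((1 : ↥(W₁ ⊔ W₂) →* ℂˣ) w : ℂˣ) : ℂ) * (ψ w : ℂ)) = fun _ => 0 := by
          funext w
          simp
        rw [hz]
        funext g
        rw [Cfsg.Agent.Lib.helper3.IndFun.indFun_apply]
        have : ∀ z : G, Cfsg.extendByZero (W₁ ⊔ W₂) (fun _ => (0 : ℂ)) z = 0 := by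
          intro z
          by_cases hz : z ∈ W₁ ⊔ W₂
          · rw [Cfsg.Agent.Lib.helper3.IndFun.extendByZero_mem _ _ hz]
          · rw [Cfsg.Agent.Lib.helper3.IndFun.extendByZero_not_mem _ _ hz]
        simp only [this, Finset.sum_const_zero, mul_zero]
        rw [hχ.map_one, one_mul ψ]
        ring
      by_cases h2 : ψ = 1
      · subst h2
        have hz : (fun w : ↥(W₁ ⊔ W₂) =>
            1 - (φ w : ℂ) - (((1 : ↥(W₁ ⊔ W₂) →* ℂˣ) w : ℂˣ) : ℂ)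
              + (φ w : ℂ) * (((1 : ↥(W₁ ⊔ W₂) →* ℂˣ) w : ℂˣ) : ℂ)) = fun _ => 0 := by
          funext w
          simp
        rw [hz]
        funext g
        rw [Cfsg.Agent.Lib.helper3.IndFun.indFun_apply]
        have : ∀ z : G, Cfsg.extendByZero (W₁ ⊔ W₂) (fun _ => (0 : ℂ)) z = 0 := by
          intro z
          by_cases hz : z ∈ W₁ ⊔ W₂
          · rw [Cfsg.Agent.Lib.helper3.IndFun.extendByZero_mem _ _ hz]
          · rw [Cfsg.Agent.Lib.helper3.IndFun.extendByZero_not_mem _ _ hz]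
        simp only [this, Finset.sum_const_zero, mul_zero]
        rw [hχ.map_one, mul_one φ]
        ring
      exact hχ.induced_eq φ ψ h1 h2 hφ hψ
    -- Frobenius reciprocity
    have hfrob := Cfsg.Agent.Lib.helper3.IndFun.frobenius_reciprocity (W₁ ⊔ W₂)
      (fun w => 1 - (φ w : ℂ) - (ψ w : ℂ) + (φ w : ℂ) * (ψ w : ℂ)) θ hθ
    have hzero : Cfsg.classInner
        (fun w : ↥(W₁ ⊔ W₂) => 1 - (φ w : ℂ) - (ψ w : ℂ) + (φ w : ℂ) * (ψ w : ℂ))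
        (fun h : ↥(W₁ ⊔ W₂) => θ h) = 0 := by
      rw [Cfsg.Agent.Lib.helper3.IndFun.classInner_apply]
      have : ∀ w : ↥(W₁ ⊔ W₂),
          (1 - (φ w : ℂ) - (ψ w : ℂ) + (φ w : ℂ) * (ψ w : ℂ)) * (starRingEnd ℂ) (θ w) = 0 := by
        intro w
        by_cases hw1 : (w : G) ∈ W₁
        · rw [hψ w hw1]; simp
        by_cases hw2 : (w : G) ∈ W₂
        · rw [hφ w hw2]; simp
        rw [hθV w hw1 hw2]; simp
      simp only [this, Finset.sum_const_zero, mul_zero]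
    rw [hzero, hind] at hfrob
    have h3 : Cfsg.classInner θ (fun g => 1 - χ φ g - χ ψ g + χ (φ * ψ) g) = 0 := by
      rw [← Cfsg.Agent.Lib.helper3.Irr.classInner_conj_symm, hfrob, map_zero]
    have h4 : (fun g => 1 - χ φ g - χ ψ g + χ (φ * ψ) g)
        = (fun _ => (1 : ℂ)) - χ φ - χ ψ + χ (φ * ψ) := by
      funext g; simp
    rw [h4, Cfsg.Agent.Lib.helper3.Irr.classInner_add_right,
      Cfsg.Agent.Lib.helper3.Irr.classInner_sub_right,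
      Cfsg.Agent.Lib.helper3.Irr.classInner_sub_right] at h3
    linear_combination h3
  rw [key φ ψ (fun w hw => (hφ₂ w hw).1) (fun w hw => (hψ₁ w hw).1),
    key φ' ψ' (fun w hw => (hφ₂ w hw).2) (fun w hw => (hψ₁ w hw).2),
    key φ ψ' (fun w hw => (hφ₂ w hw).1) (fun w hw => (hψ₁ w hw).2),
    key φ' ψ (fun w hw => (hφ₂ w hw).2) (fun w hw => (hψ₁ w hw).1)]
  ring

end Cfsg.Agent.S1506
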