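import Cfsg.Statements.S1510
import Mathlib
import Cfsg.Agent.H1.CoprimeAction

set_option autoImplicit false
set_option linter.style.haveILetI false
open Cfsg

namespace Cfsg.Agent.S1510

/-- Let L be a finite group with a normal subgroup K and a nontrivial cyclic subgroup W₁ of order coprime to its index, K ⊓ W₁ = ⊥ and K ⊔ W₁ = ⊤; let W₂ ≠ ⊥ be a cyclic subgroup of K with K ⊓ C_L(x) = W₂ for every non-identity x ∈ W₁, and suppose W₁ ⊔ W₂ has odd order. Then (W₁, W₂) is a self-normalising cyclic pair in L. -/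
theorem result {L : Type*} [Group L] [Fintype L] (K W₁ W₂ : Subgroup L) [hK : K.Normal] (hKW₁ : K ⊓ W₁ = ⊥) (hKW₁' : K ⊔ W₁ = ⊤) (hW₁ : W₁ ≠ ⊥) (hW₁c : IsCyclic W₁) (hHall : Nat.Coprime (Nat.card W₁) W₁.index) (hW₂ : W₂ ≠ ⊥) (hW₂c : IsCyclic W₂) (hW₂K : W₂ ≤ K) (hC : ∀ x ∈ W₁, x ≠ 1 → K ⊓ Subgroup.centralizer ({x} : Set L) = W₂) (hodd : Odd (Nat.card ↥(W₁ ⊔ W₂))) : Cfsg.IsSelfNormalizingCyclic W₁ W₂ := by
  classical
  -- basic facts
  have hW₁ab : ∀ a ∈ W₁, ∀ b ∈ W₁, a * b = b * a := by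
    intro a ha b hb
    haveI := hW₁c
    have := (IsCyclic.isMulCommutative (α := W₁)).is_comm.comm ⟨a, ha⟩ ⟨b, hb⟩
    exact congrArg Subtype.val this
  have hcomm : ∀ a ∈ W₁, ∀ b ∈ W₂, a * b = b * a := by
    intro a ha b hb
    by_cases ha1 : a = 1
    · rw [ha1, one_mul, mul_one]
    · have hb' : b ∈ K ⊓ Subgroup.centralizer ({a} : Set L) := by rw [hC a ha ha1]; exact hb
      exact (Subgroup.mem_centralizer_singleton_iff.mp (Subgroup.mem_inf.mp hb').2).symm
  have hinf : W₁ ⊓ W₂ = ⊥ := by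
    rw [eq_bot_iff, ← hKW₁]
    exact le_inf (inf_le_right.trans hW₂K) inf_le_left
  -- complement and coprimality
  have hcompl : Subgroup.IsComplement' K W₁ := by
    apply Subgroup.isComplement'_of_disjoint_and_mul_eq_univ (disjoint_iff.mpr hKW₁)
    rw [← Subgroup.normal_mul, hKW₁']; rfl
  have hcop : (Nat.card W₁).Coprime (Nat.card W₂) := by
    have h1 : W₁.index = Nat.card K := hcompl.index_eq_card
    rw [h1] at hHall
    exact Nat.Coprime.coprime_dvd_right (Subgroup.card_dvd_of_le hW₂K) hHall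
  -- membership in `W₁ ⊔ W₂`
  have hmemW : ∀ x : L, x ∈ W₁ ⊔ W₂ ↔ ∃ a ∈ W₁, ∃ b ∈ W₂, x = a * b := by
    intro x
    apply Cfsg.Agent.H1.mem_sup_of_le_normalizer
    intro b hb
    rw [Subgroup.mem_normalizer_iff]
    intro a
    constructor
    · intro ha
      rw [← hcomm a ha b hb, mul_inv_cancel_right]; exact ha
    · intro ha
      have e : a = b⁻¹ * (b * a * b⁻¹) * b := by group
      rw [e, mul_assoc, hcomm _ ha b hb, ← mul_assoc, inv_mul_cancel, one_mul]; exact ha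
  have hmemL : ∀ g : L, ∃ k ∈ K, ∃ w ∈ W₁, g = k * w := by
    intro g
    have hg : g ∈ K ⊔ W₁ := by rw [hKW₁']; exact Subgroup.mem_top g
    exact (Cfsg.Agent.H1.mem_sup_of_le_normalizer K W₁
      (by rw [Subgroup.normalizer_eq_top]; exact le_top)).mp hg
  -- cyclic
  have hcyc : IsCyclic ↥(W₁ ⊔ W₂) := by
    haveI : IsCyclic (W₁ × W₂) := Group.isCyclic_prod_iff.mpr ⟨hW₁c, hW₂c, hcop⟩
    let f : W₁ × W₂ →* ↥(W₁ ⊔ W₂) :=
      MonoidHom.noncommCoprod (Subgroup.inclusion le_sup_left) (Subgroup.inclusion le_sup_right)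
        (fun a b => by
          show _ * _ = _ * _
          apply Subtype.ext
          exact hcomm a a.2 b b.2)
    apply isCyclic_of_surjective f
    rintro ⟨x, hx⟩
    obtain ⟨a, ha, b, hb, rfl⟩ := (hmemW x).mp hx
    refine ⟨(⟨a, ha⟩, ⟨b, hb⟩), ?_⟩
    apply Subtype.ext
    rfl
  refine ⟨hW₁, hW₂, hinf, hcomm, hcyc, ?_⟩
  intro X hX hXne
  -- the CRT exponent
  have hn1 : 1 < Nat.card W₁ := by
    haveI : Nontrivial W₁ := (Subgroup.nontrivial_iff_ne_bot W₁).mpr hW₁
    exact Finite.one_lt_card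
  obtain ⟨m, hm1, hm2⟩ := Nat.chineseRemainder hcop 1 0
  have hpowa : ∀ a ∈ W₁, a ^ m = a := by
    intro a ha
    have h1 : a ^ Nat.card W₁ = 1 := by
      have h := pow_card_eq_one' (G := W₁) (x := ⟨a, ha⟩)
      have h2 := congrArg (fun z : W₁ => (z : L)) h
      simp only [Subgroup.coe_pow, Subgroup.coe_one] at h2
      exact h2
    rw [pow_eq_pow_mod m h1, hm1, Nat.mod_eq_of_lt hn1, pow_one]
  have hpowb : ∀ b ∈ W₂, b ^ m = 1 := by
    intro b hb
    have h1 : b ^ Nat.card W₂ = 1 := by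
      have h := pow_card_eq_one' (G := W₂) (x := ⟨b, hb⟩)
      have h2 := congrArg (fun z : W₂ => (z : L)) h
      simp only [Subgroup.coe_pow, Subgroup.coe_one] at h2
      exact h2
    rw [pow_eq_pow_mod m h1, hm2, Nat.zero_mod, pow_zero]
  apply le_antisymm
  · intro g hg
    rw [Subgroup.mem_set_normalizer_iff] at hg
    obtain ⟨x, hxX⟩ := hXne
    have hx := hX hxX
    obtain ⟨a, ha, b, hb, rfl⟩ := (hmemW x).mp hx.1
    have ha1 : a ≠ 1 := by
      rintro rfl
      apply hx.2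
      right
      rw [one_mul]; exact hb
    have hgx := hX ((hg _).mp hxX)
    obtain ⟨a', ha', b', hb', hab'⟩ := (hmemW _).mp hgx.1
    -- take `m`-th powers
    have e1 : (g * (a * b) * g⁻¹) ^ m = g * a * g⁻¹ := by
      rw [conj_pow, (show Commute a b from hcomm a ha b hb).mul_pow, hpowa a ha, hpowb b hb,
        mul_one]
    have e2 : (a' * b') ^ m = a' := by
      rw [(show Commute a' b' from hcomm a' ha' b' hb').mul_pow, hpowa a' ha', hpowb b' hb',
        mul_one]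
    rw [hab', e2] at e1
    -- decompose `g`
    obtain ⟨k, hk, w, hw, rfl⟩ := hmemL g
    have e3 : k * w * a * (k * w)⁻¹ = k * a * k⁻¹ := by
      have : w * a = a * w := hW₁ab w hw a ha
      calc k * w * a * (k * w)⁻¹ = k * (w * a) * w⁻¹ * k⁻¹ := by group
        _ = k * (a * w) * w⁻¹ * k⁻¹ := by rw [this]
        _ = k * a * k⁻¹ := by group
    rw [e3] at e1
    have h4 : a' * a⁻¹ ∈ K ⊓ W₁ := by
      refine Subgroup.mem_inf.mpr ⟨?_, mul_mem ha' (inv_mem ha)⟩
      rw [e1]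
      have : k * a * k⁻¹ * a⁻¹ = k * (a * k⁻¹ * a⁻¹) := by group
      rw [this]
      exact mul_mem hk (hK.conj_mem _ (inv_mem hk) a)
    rw [hKW₁, Subgroup.mem_bot, mul_inv_eq_one] at h4
    rw [h4] at e1
    have hkc : k ∈ K ⊓ Subgroup.centralizer ({a} : Set L) := by
      refine Subgroup.mem_inf.mpr ⟨hk, ?_⟩
      rw [Subgroup.mem_centralizer_singleton_iff]
      calc k * a = (k * a * k⁻¹) * k := by group
        _ = a * k := by rw [← e1]
    rw [hC a ha ha1] at hkc
    exact mul_mem (Subgroup.mem_sup_right hkc) (Subgroup.mem_sup_left hw)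
  · intro g hg
    rw [Subgroup.mem_set_normalizer_iff]
    have hWc : ∀ x ∈ W₁ ⊔ W₂, g * x = x * g := by
      intro x hx
      haveI := hcyc
      have := (IsCyclic.isMulCommutative (α := ↥(W₁ ⊔ W₂))).is_comm.comm ⟨g, hg⟩ ⟨x, hx⟩
      exact congrArg Subtype.val this
    intro x
    constructor
    · intro hxX
      rw [hWc x (hX hxX).1, mul_inv_cancel_right]; exact hxX
    · intro hgx
      have hc := hWc _ (hX hgx).1
      have e : x = g * x * g⁻¹ := by
        calc x = g⁻¹ * ((g * x * g⁻¹) * g) := by group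
          _ = g⁻¹ * (g * (g * x * g⁻¹)) := by rw [hc]
          _ = g * x * g⁻¹ := by group
      rw [e]; exact hgx

end Cfsg.Agent.S1510
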