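import Mathlib
import Cfsg.Statements.S1512
import Cfsg.Agent.Lib.helper3.FixedClass

set_option autoImplicit false
open Cfsg

namespace Cfsg.Agent.S1512

/-- Let K be a normal subgroup of the finite group L and x a non-identity element whose order is coprime to the order of K, such that K ⊓ C_L(y) = W₂ for every non-identity element y of the cyclic group generated by x. Then the number of conjugacy classes of K mapped to themselves by conjugation by x is at most Nat.card W₂. -/
theorem result {L : Type*} [Group L] [Finite L] (K W₂ : Subgroup L) [hK : K.Normal] (x : L) (hx1 : x ≠ 1) (hx : Nat.Coprime (orderOf x) (Nat.card K)) (hC : ∀ y ∈ Subgroup.zpowers x, y ≠ 1 → K ⊓ Subgroup.centralizer ({y} : Set L) = W₂) : Nat.card {C : ConjClasses K // ConjClasses.map (MulEquiv.toMonoidHom ((MulAut.conjNormal x : MulAut K))) C = C} ≤ Nat.card W₂ := by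
  classical
  have hxnorm : x ∈ Subgroup.normalizer (K : Set L) := by
    rw [Subgroup.normalizer_eq_top]
    exact Subgroup.mem_top x
  have hW : K ⊓ Subgroup.centralizer ({x} : Set L) = W₂ :=
    hC x (Subgroup.mem_zpowers x) hx1
  have hαapp : ∀ h : K, (((MulAut.conjNormal x : MulAut K) h : K) : L) = x * h * x⁻¹ :=
    fun h => MulAut.conjNormal_apply x h
  have key : ∀ C : {C : ConjClasses K // ConjClasses.map (MulEquiv.toMonoidHom
      ((MulAut.conjNormal x : MulAut K))) C = C}, ∃ w : W₂, ∃ hwK : (w : L) ∈ K,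
      ConjClasses.mk (⟨(w : L), hwK⟩ : K) = C.1 := by
    rintro ⟨C, hCfix⟩
    obtain ⟨h, rfl⟩ := ConjClasses.mk_surjective C
    have hconj : IsConj ((MulAut.conjNormal x : MulAut K) h) h :=
      ConjClasses.mk_eq_mk_iff_isConj.mp hCfix
    obtain ⟨k, hk⟩ := isConj_iff.mp hconj
    have hk' : x * (h : L) * x⁻¹ = ((k⁻¹ : K) : L) * (h : L) * ((k⁻¹ : K) : L)⁻¹ := by
      have := congrArg (Subtype.val : K → L) hk
      simp only [Subgroup.coe_mul, Subgroup.coe_inv, hαapp] at this
      simp only [Subgroup.coe_inv, inv_inv]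
      calc x * (h : L) * x⁻¹
          = (k : L)⁻¹ * ((k : L) * (x * (h : L) * x⁻¹) * (k : L)⁻¹) * (k : L) := by group
        _ = (k : L)⁻¹ * (h : L) * (k : L) := by rw [this]
    obtain ⟨a, haK, ha⟩ := Cfsg.Agent.Lib.helper3.CoprimeConj.exists_conj_commute K x hxnorm
      hx (h : L) ((k⁻¹ : K) : L) (k⁻¹ : K).2 hk'
    have hmemK : a * (h : L) * a⁻¹ ∈ K := K.mul_mem (K.mul_mem haK h.2) (K.inv_mem haK)
    have hmemW : a * (h : L) * a⁻¹ ∈ W₂ := by
      rw [← hW, Subgroup.mem_inf]
      refine ⟨hmemK, ?_⟩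
      rw [Subgroup.mem_centralizer_iff]
      intro y hy
      rw [Set.mem_singleton_iff] at hy
      rw [hy]
      exact ha
    refine ⟨⟨_, hmemW⟩, hmemK, ?_⟩
    show ConjClasses.mk (⟨a * (h : L) * a⁻¹, hmemK⟩ : K) = ConjClasses.mk h
    rw [ConjClasses.mk_eq_mk_iff_isConj, isConj_comm, isConj_iff]
    exact ⟨⟨a, haK⟩, Subtype.ext rfl⟩
  choose f hfK hf using key
  apply Nat.card_le_card_of_injective f
  intro C C' hCC'
  apply Subtype.ext
  rw [← hf C, ← hf C']
  congr 1
  apply Subtype.ext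
  show ((f C : W₂) : L) = ((f C' : W₂) : L)
  rw [hCC']

end Cfsg.Agent.S1512
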