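import Mathlib
import Cfsg.Statements.S1515
import Cfsg.Agent.Lib.helper3.NormTwo
import Cfsg.Agent.Lib.helper3.Degrees
import Cfsg.Agent.Lib.helper3.Irr11

set_option autoImplicit false
open Cfsg

namespace Cfsg.Agent.S1515

open Cfsg.Agent.Lib.helper3.Irr Cfsg.Agent.Lib.helper3.IndFun

/-- Let (S, τ, R) be a coherence system from L to G, χ ∈ S, and ψ an integer combination of S with ⟨χ, ψ⟩ = ⟨conj χ, ψ⟩ = 0. Let τ₁ be a linear isometry on the integer combinations of χ − ψ and χ − conj χ, with virtual-character values, agreeing with τ on integer multiples of χ − conj χ. Then the sum over α ∈ R χ of the squared absolute values of ⟨τ₁(χ − ψ), α⟩ is at least ⟨χ, χ⟩; and if ⟨τ₁(χ − ψ), τ₁(χ − ψ)⟩ minus that sum is at least ⟨ψ, ψ⟩, then the sum equals ⟨χ, χ⟩ and every ⟨τ₁(χ − ψ), α⟩ with α ∈ R χ is 0 or 1. -/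
theorem result {L : Type*} [Group L] [Fintype L] {G : Type*} [Group G] [Fintype G] (S : Set (L → ℂ)) (τ : (L → ℂ) → (G → ℂ)) (R : (L → ℂ) → Finset (G → ℂ)) (hS : Cfsg.IsCoherenceSystem S τ R) (χ : L → ℂ) (hχ : χ ∈ S) (ψ : L → ℂ) (hψ : ψ ∈ Cfsg.zspan S) (h1 : Cfsg.classInner χ ψ = 0) (h2 : Cfsg.classInner (Cfsg.conjFun χ) ψ = 0) (τ₁ : (L → ℂ) → (G → ℂ)) (hτ₁ : Cfsg.IsLinearIsometryOn (Cfsg.zspan {χ - ψ, χ - Cfsg.conjFun χ}) τ₁) (hagree : ∀ n : ℤ, τ₁ (n • (χ - Cfsg.conjFun χ)) = τ (n • (χ - Cfsg.conjFun χ))) : (Cfsg.classInner χ χ).re ≤ ∑ α ∈ R χ, ‖Cfsg.classInner (τ₁ (χ - ψ)) α‖ ^ 2 ∧ ((Cfsg.classInner ψ ψ).re ≤ (Cfsg.classInner (τ₁ (χ - ψ)) (τ₁ (χ - ψ))).re - ∑ α ∈ R χ, ‖Cfsg.classInner (τ₁ (χ - ψ)) α‖ ^ 2 → (∑ α ∈ R χ, ‖Cfsg.classInner (τ₁ (χ - ψ)) α‖ ^ 2 = (Cfsg.classInner χ χ).re ∧ ∀ α ∈ R χ, Cfsg.classInner (τ₁ (χ - ψ)) α = 0 ∨ Cfsg.classInner (τ₁ (χ - ψ)) α = 1)) := by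
  classical
  obtain ⟨hadd, hsmul, hinner, hgen⟩ := hτ₁
  have hm1 : χ - ψ ∈ Cfsg.zspan {χ - ψ, χ - Cfsg.conjFun χ} :=
    Submodule.subset_span (by simp)
  have hm2 : χ - Cfsg.conjFun χ ∈ Cfsg.zspan {χ - ψ, χ - Cfsg.conjFun χ} :=
    Submodule.subset_span (by simp)
  have hχbar := hS.conj_mem χ hχ
  have hτeq : τ₁ (χ - Cfsg.conjFun χ) = τ (χ - Cfsg.conjFun χ) := by
    have := hagree 1
    rwa [one_zsmul] at this
  -- integrality of the coefficients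
  have hX := hgen _ hm1
  have hint : ∀ α ∈ R χ, ∃ k : ℤ, Cfsg.classInner (τ₁ (χ - ψ)) α = (k : ℂ) := by
    intro α hα
    obtain ⟨z, hz⟩ := exists_int_decomposition hX
    obtain ⟨w, hw⟩ := exists_int_decomposition (hS.virtual χ hχ α hα)
    rw [hz, hw, classInner_int_decomposition]
    exact ⟨_, rfl⟩
  choose! k hk using hint
  -- the character norm is a natural number
  obtain ⟨n, hn⟩ := exists_nat_classInner_of_isCharacter_of_isCharacter (hS.isCharacter χ hχ)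
    (hS.isCharacter χ hχ)
  have h0a : Cfsg.classInner χ (Cfsg.conjFun χ) = 0 :=
    hS.orthogonal χ hχ _ hχbar (hS.conj_ne χ hχ).symm
  have h0b : Cfsg.classInner ψ χ = 0 := by
    rw [← classInner_conj_symm, h1, map_zero]
  have h0c : Cfsg.classInner ψ (Cfsg.conjFun χ) = 0 := by
    rw [← classInner_conj_symm, h2, map_zero]
  -- the sum of the coefficients
  have hsumk : ((∑ α ∈ R χ, k α : ℤ) : ℂ) = (n : ℂ) := by
    push_cast
    rw [← Finset.sum_congr rfl (fun α hα => hk α hα), ← classInner_sum_right, ← hS.sum_eq χ hχ,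
      ← hτeq, hinner _ hm1 _ hm2, classInner_sub_left, classInner_sub_right, classInner_sub_right,
      hn, h0a, h0b, h0c]
    ring
  have hsumk' : ∑ α ∈ R χ, k α = (n : ℤ) := by exact_mod_cast hsumk
  have hnormk : ∀ α ∈ R χ, ‖Cfsg.classInner (τ₁ (χ - ψ)) α‖ ^ 2 = ((k α ^ 2 : ℤ) : ℝ) := by
    intro α hα
    rw [hk α hα]
    push_cast
    rw [Complex.norm_intCast, sq_abs]
  have hsq : ∑ α ∈ R χ, ‖Cfsg.classInner (τ₁ (χ - ψ)) α‖ ^ 2 = ((∑ α ∈ R χ, k α ^ 2 : ℤ) : ℝ) := by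
    rw [Finset.sum_congr rfl hnormk]
    push_cast
    rfl
  have hle : ∑ α ∈ R χ, k α ≤ ∑ α ∈ R χ, k α ^ 2 := by
    apply Finset.sum_le_sum
    intro α _
    nlinarith [sq_nonneg (k α), sq_nonneg (k α - 1), Int.emod_emod_of_dvd (k α) (dvd_refl 2)]
  have hre : (Cfsg.classInner χ χ).re = (n : ℝ) := by
    rw [hn]
    simp
  constructor
  · rw [hsq, hre]
    have : (n : ℤ) ≤ ∑ α ∈ R χ, k α ^ 2 := by rw [← hsumk']; exact hle
    exact_mod_cast this
  · intro hb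
    -- the norm of τ₁ (χ - ψ)
    have hnormX : Cfsg.classInner (τ₁ (χ - ψ)) (τ₁ (χ - ψ))
        = (n : ℂ) + Cfsg.classInner ψ ψ := by
      rw [hinner _ hm1 _ hm1, classInner_sub_left, classInner_sub_right, classInner_sub_right,
        hn, h1, h0b]
      ring
    rw [hnormX, hsq] at hb
    simp only [Complex.add_re, Complex.natCast_re] at hb
    have hle2 : ((∑ α ∈ R χ, k α ^ 2 : ℤ) : ℝ) ≤ (n : ℝ) := by linarith
    have hle2' : ∑ α ∈ R χ, k α ^ 2 ≤ (n : ℤ) := by exact_mod_cast hle2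
    have heq : ∑ α ∈ R χ, k α ^ 2 = (n : ℤ) := le_antisymm hle2' (by rw [← hsumk']; exact hle)
    constructor
    · rw [hsq, hre, heq]
      simp
    · intro α hα
      have hterm : ∀ β ∈ R χ, k β ≤ k β ^ 2 := by
        intro β _
        nlinarith [sq_nonneg (k β), sq_nonneg (k β - 1)]
      have hsumeq : ∑ β ∈ R χ, k β = ∑ β ∈ R χ, k β ^ 2 := by rw [hsumk', heq]
      have := (Finset.sum_eq_sum_iff_of_le hterm).mp hsumeq α hα
      rw [hk α hα]
      have h3 : k α * (k α - 1) = 0 := by ring_nf; ring_nf at this; omega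
      rcases mul_eq_zero.mp h3 with h4 | h4
      · left; rw [h4]; simp
      · right
        have : k α = 1 := by omega
        rw [this]; simp

end Cfsg.Agent.S1515
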