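import Mathlib
import Cfsg.Statements.S1527
import Cfsg.Agent.Lib.helper3.TICount

set_option autoImplicit false
open Cfsg

namespace Cfsg.Agent.S1527

open Cfsg.Agent.Lib.helper3.TICount

/-- Let G be a finite group and H i (i in a finite index type) subgroups of pairwise coprime orders, each of whose underlying sets is a TI-subset of G, such that every non-identity element of G is conjugate to an element of some H i. Then Nat.card G − 1 = Σ_i [G : N_G(H i)] · (Nat.card (H i) − 1). -/
theorem result {G : Type*} [Group G] [Finite G] {ι : Type*} [Fintype ι] (H : ι → Subgroup G) (hcop : ∀ i j, i ≠ j → Nat.Coprime (Nat.card (H i)) (Nat.card (H j))) (hTI : ∀ i, Cfsg.IsTISubset (H i : Set G)) (hcover : ∀ g : G, g ≠ 1 → ∃ i, ∃ x : G, x * g * x⁻¹ ∈ H i) : Nat.card G - 1 = ∑ i, (Subgroup.normalizer (H i : Set G)).index * (Nat.card (H i) - 1) := by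
  classical
  have := Fintype.ofFinite G
  -- cardinality of each piece
  have hpiece : ∀ i, Nat.card (conjInto (H i)) =
      (Subgroup.normalizer (H i : Set G)).index * (Nat.card (H i) - 1) := by
    intro i
    have h1 := card_conjInto_mul (H i) (hTI i)
    have h2 := (Subgroup.normalizer (H i : Set G)).card_mul_index
    have hpos : 0 < Nat.card (Subgroup.normalizer (H i : Set G)) := Nat.card_pos
    rw [← h2, mul_assoc] at h1
    rw [mul_comm] at h1
    exact Nat.eq_of_mul_eq_mul_left hpos h1
  -- the pieces are pairwise disjoint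
  have hdisj : ∀ i j, i ≠ j → ∀ g : G, g ∈ conjInto (H i) → g ∉ conjInto (H j) := by
    intro i j hij g hgi hgj
    obtain ⟨hg1, x, hx⟩ := hgi
    obtain ⟨-, y, hy⟩ := hgj
    have ho : ∀ (K : Subgroup G) (z : G), z * g * z⁻¹ ∈ K → orderOf g ∣ Nat.card K := by
      intro K z hz
      have h1 : orderOf (z * g * z⁻¹) = orderOf g := by
        have := (MulAut.conj z).orderOf_eq g
        simpa using this
      rw [← h1]
      have := orderOf_dvd_natCard (⟨_, hz⟩ : K)
      rwa [Subgroup.orderOf_mk] at this
    have := Nat.eq_one_of_dvd_coprimes (hcop i j hij) (ho _ x hx) (ho _ y hy)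
    exact hg1 (orderOf_eq_one_iff.1 this)
  have hunion : (Finset.univ.filter (fun g : G => g ≠ 1)) =
      Finset.univ.biUnion (fun i => Finset.univ.filter (fun g : G => g ∈ conjInto (H i))) := by
    ext g
    simp only [Finset.mem_filter, Finset.mem_univ, true_and, Finset.mem_biUnion]
    constructor
    · intro hg
      obtain ⟨i, x, hx⟩ := hcover g hg
      exact ⟨i, hg, x, hx⟩
    · rintro ⟨i, hg, -⟩
      exact hg
  have hcard1 : (Finset.univ.filter (fun g : G => g ≠ 1)).card = Nat.card G - 1 := by
    rw [Finset.filter_ne' Finset.univ (1 : G), Finset.card_erase_of_mem (Finset.mem_univ _),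
      Finset.card_univ, Nat.card_eq_fintype_card]
  rw [← hcard1, hunion, Finset.card_biUnion]
  · apply Finset.sum_congr rfl
    intro i _
    rw [← hpiece i, Nat.card_eq_fintype_card, Fintype.card_subtype]
  · intro i _ j _ hij
    show Disjoint _ _
    rw [Finset.disjoint_left]
    intro g hgi hgj
    simp only [Finset.mem_filter, Finset.mem_univ, true_and] at hgi hgj
    exact hdisj i j hij g hgi hgj

end Cfsg.Agent.S1527
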