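import Mathlib
import Cfsg.Statements.S1533
import Cfsg.Agent.Lib.helper3.Feit4

set_option autoImplicit false
open Cfsg

namespace Cfsg.Agent.S1533

open Cfsg.Agent.Lib.helper3.Feit Cfsg.Agent.Lib.helper3.Tifn

/-- Let G be a finite group, p an odd prime, and P a nontrivial Sylow p-subgroup whose underlying set is a TI-subset of G, with P properly contained in its set normaliser N and C_G(x) ≤ P for every non-identity x ∈ P. Let S be the set of irreducible characters χ of N with χ x ≠ χ 1 for some x ∈ P. Then either S has exactly one member, P is elementary abelian and Nat.card P = [N:P] + 1; or (S, N minus 1, induction to G) is coherent. -/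
theorem result {G : Type*} [Group G] [Fintype G] (p : ℕ) [Fact p.Prime] (hp : p ≠ 2) (P : Sylow p G) (hP1 : (P : Subgroup G) ≠ ⊥) (hTI : Cfsg.IsTISubset ((P : Subgroup G) : Set G)) (hlt : (P : Subgroup G) < Subgroup.normalizer ((P : Subgroup G) : Set G)) (hC : ∀ k ∈ (P : Subgroup G), k ≠ 1 → Subgroup.centralizer ({k} : Set G) ≤ (P : Subgroup G)) [Fintype ↥(Subgroup.normalizer ((P : Subgroup G) : Set G))] : (Nat.card {χ : ↥(Subgroup.normalizer ((P : Subgroup G) : Set G)) → ℂ // Cfsg.IsIrrCharacter ↥(Subgroup.normalizer ((P : Subgroup G) : Set G)) χ ∧ ∃ x : ↥(Subgroup.normalizer ((P : Subgroup G) : Set G)), (x : G) ∈ (P : Subgroup G) ∧ χ x ≠ χ 1} = 1 ∧ Cfsg.IsElementaryAbelian p (P : Subgroup G) ∧ Nat.card (P : Subgroup G) = ((P : Subgroup G).subgroupOf (Subgroup.normalizer ((P : Subgroup G) : Set G))).index + 1) ∨ Cfsg.IsCoherent {χ : ↥(Subgroup.normalizer ((P : Subgroup G) : Set G)) → ℂ | Cfsg.IsIrrCharacter ↥(Subgroup.normalizer ((P : Subgroup G) : Set G)) χ ∧ ∃ x : ↥(Subgroup.normalizer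 ((P : Subgroup G) : Set G)), (x : G) ∈ (P : Subgroup G) ∧ χ x ≠ χ 1} {1}ᶜ (fun α => Cfsg.indFun (Subgroup.normalizer ((P : Subgroup G) : Set G)) α) := by
  classical
  have hPp : IsPGroup p (P : Subgroup G) := P.2
  have hpr : p.Prime := Fact.out
  obtain ⟨n, hn⟩ := IsPGroup.iff_card.mp hPp
  have hoddP : Odd (Nat.card (P : Subgroup G)) := by
    rw [hn]
    exact (hpr.odd_of_ne_two hp).pow
  have hn0 : n ≠ 0 := by
    rintro rfl
    rw [pow_zero] at hn
    exact hP1 (Subgroup.card_eq_one.mp hn)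
  rcases tifn_trichotomy (P : Subgroup G) hPp.isNilpotent hP1 hTI hC with h | h | h
  · left
    obtain ⟨h1, h2, h3, h4⟩ := h
    refine ⟨h1, ⟨⟨⟨fun a b => Subtype.ext (h3 a a.2 b b.2)⟩⟩, ?_⟩, h2⟩
    exact h4 p hpr (by rw [hn]; exact dvd_pow_self p hn0)
  · right
    exact h
  · exfalso
    obtain ⟨hna, hnodd⟩ := h
    apply hnodd
    haveI : ((P : Subgroup G).subgroupOf (Subgroup.normalizer ((P : Subgroup G) : Set G))).Normal :=
      Subgroup.normal_in_normalizer
    have hcardKH : Nat.card ((P : Subgroup G).subgroupOf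
        (Subgroup.normalizer ((P : Subgroup G) : Set G))) = Nat.card (P : Subgroup G) :=
      Nat.card_congr (Subgroup.subgroupOfEquivOfLe Subgroup.le_normalizer).toEquiv
    apply Cfsg.Agent.H2.PF6.odd_card_of_nonabelian_kernel _
      (centralizer_le_subgroupOf (P : Subgroup G) hC) _ (by rw [hcardKH]; exact hoddP)
    intro hab
    apply hna
    intro a ha b hb
    have := hab ⟨a, Subgroup.le_normalizer ha⟩ (Subgroup.mem_subgroupOf.mpr ha)
      ⟨b, Subgroup.le_normalizer hb⟩ (Subgroup.mem_subgroupOf.mpr hb)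
    exact congrArg Subtype.val this

end Cfsg.Agent.S1533
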