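import Mathlib
import Cfsg.Statements.S1536
import Cfsg.Agent.Lib.helper3.FixedClass
import Cfsg.Agent.Lib.helper3.Brauer
import Cfsg.Agent.Lib.helper3.Irr11

set_option autoImplicit false
open Cfsg

namespace Cfsg.Agent.S1536

/-- Let H be a normal subgroup of the finite group M whose order is coprime to its index. For x ∈ M: some non-principal irreducible character of H is unchanged under h ↦ θ(x h x⁻¹) if and only if some non-identity element of H commutes with x. -/
theorem result {M : Type*} [Group M] [Finite M] (H : Subgroup M) [hN : H.Normal] (hHall : Nat.Coprime (Nat.card H) H.index) (x : M) : (∃ θ : H → ℂ, Cfsg.IsIrrCharacter H θ ∧ θ ≠ (fun _ => 1) ∧ (fun h : H => θ ⟨x * h * x⁻¹, hN.conj_mem h h.2 x⟩) = θ) ↔ ∃ h ∈ H, h ≠ 1 ∧ x * h = h * x := by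
  classical
  set α : H ≃* H := MulAut.conjNormal x with hα
  have hαapp : ∀ h : H, ((α h : H) : M) = x * h * x⁻¹ := fun h => MulAut.conjNormal_apply x h
  have hB := Cfsg.Agent.Lib.helper3.Irr.brauer_permutation_aut α
  have hxnorm : x ∈ Subgroup.normalizer (H : Set M) := by
    rw [Subgroup.normalizer_eq_top]
    exact Subgroup.mem_top x
  constructor
  · rintro ⟨θ, hθ, hθ1, hfix⟩
    -- two fixed characters
    have hfixθ : ((⟨θ, hθ⟩ : Cfsg.IrrCharacter H) : H → ℂ) ∘ α = θ := by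
      funext h
      have h5 : θ ⟨x * h * x⁻¹, hN.conj_mem h h.2 x⟩ = θ h := congrFun hfix h
      rw [← h5]
      show θ (α h) = θ ⟨x * h * x⁻¹, _⟩
      congr 1
    have hfix1 : ((⟨fun _ => 1, Cfsg.Agent.Lib.helper3.Irr.isIrrCharacter_one⟩ :
        Cfsg.IrrCharacter H) : H → ℂ) ∘ α = fun _ => 1 := rfl
    have : Nontrivial {χ : Cfsg.IrrCharacter H // (χ : H → ℂ) ∘ α = (χ : H → ℂ)} :=
      ⟨⟨⟨⟨θ, hθ⟩, hfixθ⟩, ⟨⟨fun _ => 1, Cfsg.Agent.Lib.helper3.Irr.isIrrCharacter_one⟩, hfix1⟩,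
        fun h => hθ1 (congrArg (fun χ => ((χ : {χ : Cfsg.IrrCharacter H //
          (χ : H → ℂ) ∘ α = (χ : H → ℂ)}) : Cfsg.IrrCharacter H).1) h)⟩⟩
    have h2 : 1 < Nat.card {χ : Cfsg.IrrCharacter H // (χ : H → ℂ) ∘ α = (χ : H → ℂ)} :=
      Finite.one_lt_card
    rw [← hB] at h2
    have : Nontrivial {C : ConjClasses H // ConjClasses.map α.toMonoidHom C = C} :=
      Finite.one_lt_card_iff_nontrivial.mp h2
    have h1fix : ConjClasses.map α.toMonoidHom (ConjClasses.mk (1 : H)) = ConjClasses.mk 1 := by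
      show ConjClasses.mk (α 1) = _
      rw [map_one]
    obtain ⟨⟨C, hC⟩, hne⟩ := exists_ne (⟨ConjClasses.mk 1, h1fix⟩ :
      {C : ConjClasses H // ConjClasses.map α.toMonoidHom C = C})
    obtain ⟨h, rfl⟩ := ConjClasses.mk_surjective C
    have hh1 : h ≠ 1 := by
      rintro rfl
      exact hne rfl
    have hconj : IsConj (α h) h := ConjClasses.mk_eq_mk_iff_isConj.mp hC
    obtain ⟨k, hk⟩ := isConj_iff.mp hconj
    -- in `M`
    have hk' : x * (h : M) * x⁻¹ = (k⁻¹ : H) * (h : M) * ((k⁻¹ : H) : M)⁻¹ := by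
      have := congrArg (Subtype.val : H → M) hk
      simp only [Subgroup.coe_mul, Subgroup.coe_inv, hαapp] at this
      simp only [Subgroup.coe_inv, inv_inv]
      calc x * (h : M) * x⁻¹ = (k : M)⁻¹ * ((k : M) * (x * (h : M) * x⁻¹) * (k : M)⁻¹) * (k : M) := by
            group
        _ = (k : M)⁻¹ * (h : M) * (k : M) := by rw [this]
    have hh1' : (h : M) ≠ 1 := fun h0 => hh1 (Subtype.ext h0)
    by_cases hxm : x ^ H.index = 1
    · have hord : orderOf x ∣ H.index := orderOf_dvd_of_pow_eq_one hxm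
      have hcop : Nat.Coprime (orderOf x) (Nat.card H) :=
        (Nat.Coprime.coprime_dvd_right hord hHall).symm
      obtain ⟨a, haH, ha⟩ := Cfsg.Agent.Lib.helper3.CoprimeConj.exists_conj_commute H x hxnorm
        hcop (h : M) ((k⁻¹ : H) : M) (k⁻¹ : H).2 hk'
      refine ⟨a * h * a⁻¹, H.mul_mem (H.mul_mem haH h.2) (H.inv_mem haH), ?_, ha⟩
      intro h0
      apply hh1'
      have : (h : M) = a⁻¹ * (a * h * a⁻¹) * a := by group
      rw [this, h0]
      group
    · refine ⟨x ^ H.index, ?_, hxm, ?_⟩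
      · have : ((x : M) : M ⧸ H) ^ H.index = 1 := by
          rw [Subgroup.index_eq_card]
          exact pow_card_eq_one'
        rw [← QuotientGroup.mk_pow] at this
        exact (QuotientGroup.eq_one_iff _).mp this
      · rw [← pow_succ', pow_succ]
  · rintro ⟨h, hhH, hh1, hxh⟩
    have h1fix : ConjClasses.map α.toMonoidHom (ConjClasses.mk (1 : H)) = ConjClasses.mk 1 := by
      show ConjClasses.mk (α 1) = _
      rw [map_one]
    have hhfix : ConjClasses.map α.toMonoidHom (ConjClasses.mk (⟨h, hhH⟩ : H))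
        = ConjClasses.mk ⟨h, hhH⟩ := by
      show ConjClasses.mk (α ⟨h, hhH⟩) = _
      congr 1
      apply Subtype.ext
      rw [hαapp]
      show x * h * x⁻¹ = h
      rw [hxh]; group
    have : Nontrivial {C : ConjClasses H // ConjClasses.map α.toMonoidHom C = C} := by
      refine ⟨⟨⟨_, hhfix⟩, ⟨_, h1fix⟩, ?_⟩⟩
      intro h0
      have h2 := congrArg Subtype.val h0
      simp only at h2
      have h3 : IsConj (⟨h, hhH⟩ : H) 1 := ConjClasses.mk_eq_mk_iff_isConj.mp h2
      have h4 : (⟨h, hhH⟩ : H) = 1 := isConj_one_left.mp h3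
      exact hh1 (congrArg Subtype.val h4)
    have h2 : 1 < Nat.card {C : ConjClasses H // ConjClasses.map α.toMonoidHom C = C} :=
      Finite.one_lt_card
    rw [hB] at h2
    have : Nontrivial {χ : Cfsg.IrrCharacter H // (χ : H → ℂ) ∘ α = (χ : H → ℂ)} :=
      Finite.one_lt_card_iff_nontrivial.mp h2
    have hfix1 : ((⟨fun _ => 1, Cfsg.Agent.Lib.helper3.Irr.isIrrCharacter_one⟩ :
        Cfsg.IrrCharacter H) : H → ℂ) ∘ α = fun _ => 1 := rfl
    obtain ⟨⟨χ, hχ⟩, hne⟩ := exists_ne (⟨⟨fun _ => 1,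
      Cfsg.Agent.Lib.helper3.Irr.isIrrCharacter_one⟩, hfix1⟩ :
        {χ : Cfsg.IrrCharacter H // (χ : H → ℂ) ∘ α = (χ : H → ℂ)})
    refine ⟨χ.1, χ.2, ?_, ?_⟩
    · intro h0
      apply hne
      apply Subtype.ext
      apply Subtype.ext
      exact h0
    · funext h'
      have := congrFun hχ h'
      rw [← this]
      show χ.1 _ = χ.1 (α h')
      congr 1

end Cfsg.Agent.S1536
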