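import Mathlib
import Cfsg.Statements.S1546

set_option autoImplicit false
open Cfsg

namespace Cfsg.Agent.S1546

/-- Let p and q be odd primes and N = (p ^ q − 1) / (p − 1) = 1 + p + ⋯ + p^(q−1). Then N is odd; if p ≡ 1 (mod q) then q ∣ N; and if p is not ≡ 1 (mod q) then N is coprime to p − 1 and every divisor of N is ≡ 1 (mod q). -/
theorem result (p q : ℕ) (hp : p.Prime) (hq : q.Prime) (hp2 : p ≠ 2) (hq2 : q ≠ 2) : Odd ((p ^ q - 1) / (p - 1)) ∧ (p % q = 1 → q ∣ (p ^ q - 1) / (p - 1)) ∧ (p % q ≠ 1 → Nat.Coprime ((p ^ q - 1) / (p - 1)) (p - 1) ∧ ∀ x : ℕ, x ∣ (p ^ q - 1) / (p - 1) → x % q = 1) := by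
  have hp3 : 2 ≤ p := hp.two_le
  have hq1 : 1 < q := hq.one_lt
  have hN : (p ^ q - 1) / (p - 1) = ∑ k ∈ Finset.range q, p ^ k := (Nat.geomSum_eq hp3 q).symm
  rw [hN]
  set N := ∑ k ∈ Finset.range q, p ^ k with hNdef
  have hpodd : Odd p := hp.odd_of_ne_two hp2
  have hqodd : Odd q := hq.odd_of_ne_two hq2
  have hmul : N * (p - 1) = p ^ q - 1 := by
    rw [hNdef]
    exact geom_sum_mul_of_one_le (by omega) q
  -- if `p ≡ 1 (mod r)` then `N ≡ q (mod r)`
  have hcast : ∀ r : ℕ, (p : ZMod r) = 1 → (N : ZMod r) = (q : ZMod r) := by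
    intro r h
    rw [hNdef]
    push_cast
    rw [h]
    simp
  have aux : p % q ≠ 1 → ∀ r : ℕ, r.Prime → r ∣ N → (p : ZMod r) = 1 → False := by
    intro hne r hr hrN hp1
    have h1 := hcast r hp1
    rw [(ZMod.natCast_eq_zero_iff N r).mpr hrN] at h1
    have hrq : r ∣ q := (ZMod.natCast_eq_zero_iff q r).mp h1.symm
    have : r = q := (Nat.prime_dvd_prime_iff_eq hr hq).mp hrq
    subst this
    apply hne
    have h2 : ((p : ℕ) : ZMod r) = ((1 : ℕ) : ZMod r) := by rw [hp1]; simp
    rw [ZMod.natCast_eq_natCast_iff'] at h2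
    rw [h2, Nat.mod_eq_of_lt hq1]
  refine ⟨?_, ?_, ?_⟩
  · rw [hNdef, Finset.odd_sum_iff_odd_card_odd]
    have : (Finset.range q).filter (fun x => Odd (p ^ x)) = Finset.range q := by
      apply Finset.filter_true_of_mem
      intro k _
      exact hpodd.pow
    rw [this, Finset.card_range]
    exact hqodd
  · intro h
    rw [← ZMod.natCast_eq_zero_iff]
    have hp1 : (p : ZMod q) = 1 := by
      have h2 : ((p : ℕ) : ZMod q) = ((1 : ℕ) : ZMod q) := by
        rw [ZMod.natCast_eq_natCast_iff', h, Nat.mod_eq_of_lt hq1]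
      rw [h2]; simp
    rw [hcast q hp1]
    simp
  · intro hne
    have key : ∀ r : ℕ, r.Prime → r ∣ N → r % q = 1 := by
      intro r hr hrN
      have : Fact r.Prime := ⟨hr⟩
      have hpq : ((p : ZMod r)) ^ q = 1 := by
        have h1 : r ∣ p ^ q - 1 := by rw [← hmul]; exact Dvd.dvd.mul_right hrN _
        have h2 : ((p ^ q - 1 : ℕ) : ZMod r) = 0 := (ZMod.natCast_eq_zero_iff _ _).mpr h1
        have h3 : 1 ≤ p ^ q := Nat.one_le_pow _ _ (by omega)
        rw [Nat.cast_sub h3] at h2
        push_cast at h2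
        exact sub_eq_zero.mp h2
      have hp0 : (p : ZMod r) ≠ 0 := by
        intro h0
        rw [h0, zero_pow (by omega)] at hpq
        exact zero_ne_one hpq
      set u : (ZMod r)ˣ := Units.mk0 (p : ZMod r) hp0 with hu
      have huq : u ^ q = 1 := by
        apply Units.ext
        rw [Units.val_pow_eq_pow_val, hu, Units.val_mk0, hpq, Units.val_one]
      have hord := orderOf_dvd_of_pow_eq_one huq
      rcases (Nat.dvd_prime hq).mp hord with h1 | h1
      · exfalso
        have : u = 1 := orderOf_eq_one_iff.mp h1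
        have hp1 : (p : ZMod r) = 1 := by
          have := congrArg Units.val this
          rwa [hu, Units.val_mk0, Units.val_one] at this
        exact aux hne r hr hrN hp1
      · have h2 : orderOf u ∣ Fintype.card (ZMod r)ˣ := orderOf_dvd_card
        rw [ZMod.card_units, h1] at h2
        obtain ⟨t, ht⟩ := h2
        have hr1 : 1 ≤ r := hr.one_lt.le
        have : r = 1 + q * t := by omega
        rw [this, Nat.add_mul_mod_self_left, Nat.mod_eq_of_lt hq1]
    constructor
    · apply Nat.coprime_of_dvd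
      intro r hr hrN hrp
      have : Fact r.Prime := ⟨hr⟩
      have hp1 : (p : ZMod r) = 1 := by
        have h2 : ((p - 1 : ℕ) : ZMod r) = 0 := (ZMod.natCast_eq_zero_iff _ _).mpr hrp
        rw [Nat.cast_sub (by omega)] at h2
        push_cast at h2
        exact sub_eq_zero.mp h2
      exact aux hne r hr hrN hp1
    · intro x hx
      have hNpos : 0 < N := by
        rw [hNdef]
        apply Finset.sum_pos
        · intro k _; exact Nat.pow_pos (by omega)
        · exact ⟨0, Finset.mem_range.mpr (by omega)⟩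
      induction x using Nat.recOnMul with
      | zero =>
        exfalso
        rw [zero_dvd_iff] at hx
        omega
      | one => exact Nat.mod_eq_of_lt hq1
      | prime r hr => exact key r hr hx
      | mul a b iha ihb =>
        have ha := iha (Dvd.dvd.trans (Dvd.intro _ rfl) hx)
        have hb := ihb (Dvd.dvd.trans (Dvd.intro_left _ rfl) hx)
        rw [Nat.mul_mod, ha, hb, Nat.mod_eq_of_lt hq1]

end Cfsg.Agent.S1546
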