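import Cfsg.Statements.S1555
import Cfsg.Agent.Lib.Helper6.GolayFlag

set_option autoImplicit false
open scoped Pointwise
open Cfsg

namespace Cfsg.Agent.S1555

open Cfsg.Agent.Lib.Helper6.Golay Cfsg.Agent.Lib.Helper6.PermChain
open scoped Pointwise

set_option maxHeartbeats 4000000 in
theorem c2 : countBelow (fun m => pc 24 (combo m) == 8 && (octad0 &&& combo m == 8388609)) 4096 = 16 := by
  decide +kernel

set_option maxHeartbeats 4000000 in
theorem c4 : countBelow (fun m => pc 24 (combo m) == 8 && (octad0 &&& combo m == 8388615)) 4096 = 4 := by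
  decide +kernel

/-- reduction to a reference flag inside the reference octad -/
theorem aux {o s : Finset GolayPt} (ho : o ∈ octads) (hs : s ⊆ o) (s0 : ℕ) (hs0 : s0 &&& 8388623 = s0)
    (hcard : s.card = pc 24 s0) :
    {o' : Finset GolayPt | o' ∈ octads ∧ o ∩ o' = s}.ncard =
      countBelow (fun m => pc 24 (combo m) == 8 && (octad0 &&& combo m == s0)) 4096 := by
  have hs0lt : s0 < 2 ^ 24 := by
    rw [← hs0]; exact Nat.and_lt_two_pow _ (by norm_num)
  have hsub0 : fs s0 ⊆ fs 8388623 := by
    rw [← hs0, fs_and]; exact Finset.inter_subset_right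
  have ht0o : fs 8388623 ⊆ fs octad0 := by decide
  have ht0c : (fs 8388623).card = 5 := by rw [card_fs]; decide
  have hle : s.card ≤ 5 := by
    rw [hcard, ← card_fs, ← ht0c]; exact Finset.card_le_card hsub0
  obtain ⟨t, hst, hto, htc⟩ := Finset.exists_subsuperset_card_eq hs hle (by rw [ho.2]; norm_num)
  obtain ⟨g, hg, hgs, hgt⟩ := exists_M24_flag hsub0 hst (by rw [card_fs, hcard]) (by rw [ht0c, htc])
    (by rw [ht0c])
  have hgo : g • fs octad0 = o := by
    apply octad_unique (smul_mem_octads hg octad0_mem) ho htc _ hto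
    rw [← hgt]
    exact Finset.smul_finset_subset_smul_finset ht0o
  rw [← hgo, ← hgs]
  rw [ncard_smul_transfer hg _ (fun g hg x hx => smul_mem_octads hg hx)
    (fun x => fs octad0 ∩ x = fs s0) (fun x => g • fs octad0 ∩ x = g • fs s0)
    (fun x => by rw [← Finset.smul_finset_inter, smul_left_cancel_iff])]
  apply ncard_wordsOfWeight_filter 8 _ (fun n => octad0 &&& n == s0)
  intro n hn
  rw [← fs_and, beq_iff_eq]
  constructor
  · intro h
    exact fs_injOn (Nat.and_lt_two_pow _ (lt_of_inCode hn)) hs0lt h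
  · intro h; rw [h]


/-- Bottom row of the Leech triangle: an octad is met in a prescribed pair of its points by exactly 16 octads and in a prescribed 4-subset by exactly 4 octads. -/
theorem result (o : Finset Cfsg.GolayPt) (ho : o ∈ Cfsg.octads) (s : Finset Cfsg.GolayPt) (hs : s ⊆ o) : (s.card = 2 → {o' : Finset Cfsg.GolayPt | o' ∈ Cfsg.octads ∧ o ∩ o' = s}.ncard = 16) ∧ (s.card = 4 → {o' : Finset Cfsg.GolayPt | o' ∈ Cfsg.octads ∧ o ∩ o' = s}.ncard = 4) := by
  refine ⟨fun h2 => ?_, fun h4 => ?_⟩
  · rw [aux ho hs 8388609 (by decide) (by rw [h2]; decide)]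
    exact c2
  · rw [aux ho hs 8388615 (by decide) (by rw [h4]; decide)]
    exact c4

end Cfsg.Agent.S1555
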