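import Cfsg.Statements.S1587
import Mathlib

set_option autoImplicit false
open Matrix
open Cfsg

namespace Cfsg.Agent.S1587

/-- First step of the characterisation of the rank-24 lattice: in an even lattice without roots, norm-8 vectors congruent modulo 2 are equal, opposite or orthogonal. -/
theorem result (B : Matrix (Fin 24) (Fin 24) ℤ) (hsymm : B.IsSymm) (hpos : ∀ x : Fin 24 → ℤ, x ≠ 0 → 0 < x ⬝ᵥ (B *ᵥ x)) (heven : ∀ x : Fin 24 → ℤ, (2 : ℤ) ∣ x ⬝ᵥ (B *ᵥ x)) (h2 : ∀ x : Fin 24 → ℤ, x ⬝ᵥ (B *ᵥ x) ≠ 2) (x y : Fin 24 → ℤ) (hx : x ⬝ᵥ (B *ᵥ x) = 8) (hy : y ⬝ᵥ (B *ᵥ y) = 8) (hc : ∀ i, (2 : ℤ) ∣ (x - y) i) : y = x ∨ y = -x ∨ x ⬝ᵥ (B *ᵥ y) = 0 := by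
  -- symmetry of the bilinear form
  have hsym : ∀ u v : Fin 24 → ℤ, u ⬝ᵥ (B *ᵥ v) = v ⬝ᵥ (B *ᵥ u) := by
    intro u v
    rw [Matrix.dotProduct_mulVec, ← Matrix.mulVec_transpose, hsymm.eq, dotProduct_comm]
  -- z and w
  have hz : ∃ z : Fin 24 → ℤ, x - y = (2 : ℤ) • z := by
    choose z hz using hc
    exact ⟨z, funext fun i => by simp [hz i]⟩
  have hw : ∃ w : Fin 24 → ℤ, x + y = (2 : ℤ) • w := by
    obtain ⟨z, hz⟩ := hz
    refine ⟨z + y, ?_⟩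
    have : x + y = (x - y) + (2 : ℤ) • y := by
      ext i; simp; ring
    rw [this, hz, smul_add]
  obtain ⟨z, hz⟩ := hz
  obtain ⟨w, hw⟩ := hw
  set b := x ⬝ᵥ (B *ᵥ y) with hb
  have hb' : y ⬝ᵥ (B *ᵥ x) = b := hsym y x
  have e1 : (x - y) ⬝ᵥ (B *ᵥ (x - y)) = 16 - 2 * b := by
    rw [Matrix.mulVec_sub, sub_dotProduct, dotProduct_sub, dotProduct_sub, hx, hy, hb', ← hb]; ring
  have e2 : (x + y) ⬝ᵥ (B *ᵥ (x + y)) = 16 + 2 * b := by
    rw [Matrix.mulVec_add, add_dotProduct, dotProduct_add, dotProduct_add, hx, hy, hb', ← hb]; ring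
  have e3 : ((2 : ℤ) • z) ⬝ᵥ (B *ᵥ ((2 : ℤ) • z)) = 4 * (z ⬝ᵥ (B *ᵥ z)) := by
    rw [Matrix.mulVec_smul, smul_dotProduct, dotProduct_smul, smul_eq_mul, smul_eq_mul]; ring
  have e4 : ((2 : ℤ) • w) ⬝ᵥ (B *ᵥ ((2 : ℤ) • w)) = 4 * (w ⬝ᵥ (B *ᵥ w)) := by
    rw [Matrix.mulVec_smul, smul_dotProduct, dotProduct_smul, smul_eq_mul, smul_eq_mul]; ring
  rw [hz, e3] at e1
  rw [hw, e4] at e2
  -- constraints on q(z), q(w)
  have pos : ∀ v : Fin 24 → ℤ, 0 ≤ v ⬝ᵥ (B *ᵥ v) := by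
    intro v
    by_cases hv : v = 0
    · subst hv; simp
    · exact (hpos v hv).le
  obtain ⟨kz, hkz⟩ := heven z
  obtain ⟨kw, hkw⟩ := heven w
  have hz0 := pos z
  have hw0 := pos w
  have hz2 := h2 z
  have hw2 := h2 w
  have hsum : z ⬝ᵥ (B *ᵥ z) + w ⬝ᵥ (B *ᵥ w) = 8 := by linarith
  -- case analysis on kz
  have hkz0 : 0 ≤ kz := by omega
  have hkw0 : 0 ≤ kw := by omega
  have hk : kz + kw = 4 := by omega
  have hkz1 : kz ≠ 1 := by omega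
  have hkw1 : kw ≠ 1 := by omega
  have hcases : kz = 0 ∨ kz = 2 ∨ kz = 4 := by omega
  rcases hcases with h | h | h
  · -- z = 0, so x = y
    left
    have hzz : z = 0 := by
      by_contra hne
      have := hpos z hne
      omega
    rw [hzz, smul_zero, sub_eq_zero] at hz
    exact hz.symm
  · right; right
    omega
  · -- w = 0, so y = -x
    right; left
    have hww : w = 0 := by
      by_contra hne
      have := hpos w hne
      omega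
    rw [hww, smul_zero] at hw
    exact (neg_eq_of_add_eq_zero_right hw).symm ▸ rfl

end Cfsg.Agent.S1587
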