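import Cfsg.Statements.S1589
import Cfsg.Agent.Lib.Helper8.M24Idx.PartC5

set_option autoImplicit false
open scoped Pointwise
open Cfsg

namespace Cfsg.Agent.S1589

/-- Subgroups of the group of the length-24 code of index 759, 276 and 1771 are exactly the octad, duad and sextet stabilisers, and no subgroup has index 253. -/
theorem result : (∀ H : Subgroup ↥Cfsg.M24, H.index = 759 → ∃ o ∈ Cfsg.octads, H = MulAction.stabilizer Cfsg.M24 o) ∧ (∀ H : Subgroup ↥Cfsg.M24, H.index = 276 → ∃ s : Finset Cfsg.GolayPt, s.card = 2 ∧ H = MulAction.stabilizer Cfsg.M24 s) ∧ (∀ H : Subgroup ↥Cfsg.M24, H.index = 1771 → ∃ S ∈ Cfsg.sextets, H = MulAction.stabilizer Cfsg.M24 S) ∧ ∀ H : Subgroup ↥Cfsg.M24, H.index ≠ 253 := by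
  classical
  have hφ : Function.Injective Cfsg.M24.subtype := Cfsg.M24.subtype_injective
  have hcardK : ∀ (H : Subgroup ↥Cfsg.M24) (n m : ℕ), H.index = n → n * m = 244823040 →
      Nat.card (H.map Cfsg.M24.subtype) = m := by
    intro H n m hn hm
    rw [Subgroup.card_map_of_injective hφ]
    have h1 := Subgroup.card_mul_index H
    rw [hn, Cfsg.Agent.Lib.Helper6.Golay.card_M24] at h1
    have hn0 : 0 < n := by
      rcases Nat.eq_zero_or_pos n with h | h
      · subst h; simp at hm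
      · exact h
    have : Nat.card H * n = m * n := by rw [h1, ← hm, mul_comm]
    exact Nat.eq_of_mul_eq_mul_right hn0 this
  have hle : ∀ H : Subgroup ↥Cfsg.M24, H.map Cfsg.M24.subtype ≤ Cfsg.M24 := by
    rintro H _ ⟨h, _, rfl⟩
    exact h.2
  have hmem : ∀ (H : Subgroup ↥Cfsg.M24) (h : ↥Cfsg.M24), h ∈ H ↔ (h : Equiv.Perm Cfsg.GolayPt) ∈
      H.map Cfsg.M24.subtype := fun H h => (Subgroup.mem_map_iff_mem hφ).symm
  refine ⟨?_, ?_, ?_, ?_⟩
  · intro H hH
    obtain ⟨o, ho, hK⟩ := Cfsg.Agent.Lib.Helper8.M24Idx.main_octad _ (hle H)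
      (hcardK H 759 322560 hH (by norm_num))
    refine ⟨o, ho, ?_⟩
    ext h
    rw [MulAction.mem_stabilizer_iff, hmem H h, hK]
    constructor
    · rintro ⟨_, h2⟩
      exact h2
    · intro h2
      exact ⟨h.2, h2⟩
  · intro H hH
    obtain ⟨s, hs, hK⟩ := Cfsg.Agent.Lib.Helper8.M24Idx.main_duad _ (hle H)
      (hcardK H 276 887040 hH (by norm_num))
    refine ⟨s, hs, ?_⟩
    ext h
    rw [MulAction.mem_stabilizer_iff, hmem H h, hK]
    constructor
    · rintro ⟨_, h2⟩
      exact h2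
    · intro h2
      exact ⟨h.2, h2⟩
  · intro H hH
    obtain ⟨S, hS, hK⟩ := Cfsg.Agent.Lib.Helper8.M24Idx.main_sextet _ (hle H)
      (hcardK H 1771 138240 hH (by norm_num))
    refine ⟨S, hS, ?_⟩
    ext h
    rw [MulAction.mem_stabilizer_iff, hmem H h, hK]
    constructor
    · rintro ⟨_, h2⟩
      exact h2
    · intro h2
      exact ⟨h.2, h2⟩
  · intro H hH
    exact Cfsg.Agent.Lib.Helper8.M24Idx.no_card_967680 _ (hle H) (hcardK H 253 967680 hH (by norm_num))

end Cfsg.Agent.S1589
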