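import Mathlib
import Cfsg.Statements.S1590
import Cfsg.Agent.Lib.Helper8.TernaryGolay

set_option autoImplicit false
open Cfsg

namespace Cfsg.Agent.S1590

open Cfsg.Agent.Lib.Helper8.TernaryGolay

set_option maxRecDepth 100000 in
theorem wt_cases : ∀ c : Fin 6 → Z3, (ternarySupport (g c)).card = 0 ∨ (ternarySupport (g c)).card = 6 ∨
    (ternarySupport (g c)).card = 9 ∨ (ternarySupport (g c)).card = 12 := by
  decide +kernel

set_option maxRecDepth 100000 in
theorem cnt6 : (Finset.univ.filter fun c : Fin 6 → Z3 => (ternarySupport (g c)).card = 6).card = 264 := by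
  decide +kernel

set_option maxRecDepth 100000 in
theorem cnt9 : (Finset.univ.filter fun c : Fin 6 → Z3 => (ternarySupport (g c)).card = 9).card = 440 := by
  decide +kernel

set_option maxRecDepth 100000 in
theorem cnt12 : (Finset.univ.filter fun c : Fin 6 → Z3 => (ternarySupport (g c)).card = 12).card = 24 := by
  decide +kernel

theorem ncard_wt (k : ℕ) : {x : ArrayPt → ZMod 3 | x ∈ ternaryGolayCode ∧ (ternarySupport x).card = k}.ncard =
    (Finset.univ.filter fun c : Fin 6 → Z3 => (ternarySupport (g c)).card = k).card := by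
  have h : {x : ArrayPt → ZMod 3 | x ∈ ternaryGolayCode ∧ (ternarySupport x).card = k} =
      g '' (↑(Finset.univ.filter fun c : Fin 6 → Z3 => (ternarySupport (g c)).card = k) : Set (Fin 6 → Z3)) := by
    ext x
    simp only [Set.mem_ofPred_eq, Set.mem_image, Finset.coe_filter, Finset.mem_univ, true_and]
    constructor
    · rintro ⟨hx, hk⟩
      obtain ⟨c, rfl⟩ := (mem_iff x).1 hx
      exact ⟨c, hk, rfl⟩
    · rintro ⟨c, hk, rfl⟩
      exact ⟨g_mem c, hk⟩
  rw [h, Set.ncard_image_of_injective _ g_injective, Set.ncard_coe_finset]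

theorem card_code : Nat.card ↥ternaryGolayCode = 729 := by
  have e : (Fin 6 → Z3) ≃ ↥ternaryGolayCode :=
    Equiv.ofBijective (fun c => ⟨g c, g_mem c⟩) ⟨fun c c' h => g_injective (congrArg Subtype.val h),
      fun ⟨x, hx⟩ => by
        obtain ⟨c, rfl⟩ := (mem_iff x).1 hx
        exact ⟨c, rfl⟩⟩
  rw [← Nat.card_congr e, Nat.card_eq_fintype_card, Fintype.card_fun, ZMod.card, Fintype.card_fin]
  norm_num

/-- The length-12 ternary code has 729 words with weight distribution 0^1 6^264 9^440 12^24. -/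
theorem result : Nat.card ↥Cfsg.ternaryGolayCode = 729 ∧ (∀ x ∈ Cfsg.ternaryGolayCode, x ≠ 0 → (Cfsg.ternarySupport x).card = 6 ∨ (Cfsg.ternarySupport x).card = 9 ∨ (Cfsg.ternarySupport x).card = 12) ∧ {x : Cfsg.ArrayPt → ZMod 3 | x ∈ Cfsg.ternaryGolayCode ∧ (Cfsg.ternarySupport x).card = 6}.ncard = 264 ∧ {x : Cfsg.ArrayPt → ZMod 3 | x ∈ Cfsg.ternaryGolayCode ∧ (Cfsg.ternarySupport x).card = 9}.ncard = 440 ∧ {x : Cfsg.ArrayPt → ZMod 3 | x ∈ Cfsg.ternaryGolayCode ∧ (Cfsg.ternarySupport x).card = 12}.ncard = 24 := by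
  refine ⟨card_code, ?_, ?_, ?_, ?_⟩
  · intro x hx hx0
    obtain ⟨c, rfl⟩ := (mem_iff x).1 hx
    rcases wt_cases c with h | h
    · exfalso
      apply hx0
      rw [Finset.card_eq_zero] at h
      funext p
      by_contra hp
      have : p ∈ ternarySupport (g c) := by
        unfold ternarySupport
        rw [Finset.mem_filter]
        exact ⟨Finset.mem_univ _, hp⟩
      rw [h] at this
      exact Finset.notMem_empty _ this
    · exact h
  · rw [ncard_wt, cnt6]
  · rw [ncard_wt, cnt9]
  · rw [ncard_wt, cnt12]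

end Cfsg.Agent.S1590
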