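import Mathlib
import Cfsg.Statements.S1591
import Cfsg.Agent.Lib.Helper8.TernaryGolay

set_option autoImplicit false
open Cfsg

namespace Cfsg.Agent.S1591

open Cfsg.Agent.Lib.Helper8.TernaryGolay

theorem gb_dot : ∀ i j : Fin 6, ∑ p, gb i p * gb j p = 0 := by decide +kernel

/-- Any two words of the length-12 ternary code have dot product zero. -/
theorem result (x y : Cfsg.ArrayPt → ZMod 3) (hx : x ∈ Cfsg.ternaryGolayCode) (hy : y ∈ Cfsg.ternaryGolayCode) : ∑ p, x p * y p = 0 := by
  obtain ⟨c, rfl⟩ := (mem_iff x).1 hx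
  obtain ⟨c', rfl⟩ := (mem_iff y).1 hy
  calc ∑ p, g c p * g c' p = ∑ p, ∑ i, ∑ j, (c i * c' j) * (gb i p * gb j p) := by
        refine Finset.sum_congr rfl (fun p _ => ?_)
        simp only [g]
        rw [Finset.sum_mul_sum]
        refine Finset.sum_congr rfl (fun i _ => Finset.sum_congr rfl (fun j _ => ?_))
        ring
    _ = ∑ i, ∑ j, (c i * c' j) * ∑ p, (gb i p * gb j p) := by
        rw [Finset.sum_comm]
        refine Finset.sum_congr rfl (fun i _ => ?_)
        rw [Finset.sum_comm]
        refine Finset.sum_congr rfl (fun j _ => ?_)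
        rw [Finset.mul_sum]
    _ = 0 := by
        simp only [gb_dot, mul_zero, Finset.sum_const_zero]

end Cfsg.Agent.S1591
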