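import Mathlib
import Cfsg.Statements.S1593
import Cfsg.Agent.Lib.Helper8.TernaryGolayMask
import Cfsg.Agent.S1591

set_option autoImplicit false
open Cfsg

namespace Cfsg.Agent.S1593

open Cfsg.Agent.Lib.Helper8.TernaryGolay

/-- negate the entries at the positions of a bitmask -/
def flipW (m : ℕ) (x : Word) : Word := fun p => if m.testBit (idx p) = true then - x p else x p

set_option maxRecDepth 100000 in
theorem D5 : ∀ m < 4096, (∀ i j : Fin 6, ∑ p, flipW m (gb i) p * gb j p = 0) → m = 0 ∨ m = 4095 := by
  decide +kernel

theorem full_testBit : ∀ p : ArrayPt, (4095 : ℕ).testBit (idx p) = true := by decide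

theorem units_cases : ∀ u : (ZMod 3)ˣ, u = 1 ∨ u = -1 := by decide

theorem gb_mem (i : Fin 6) : gb i ∈ ternaryGolayCode := (isWord_iff _).2 (gb_isWord i)

/-- The only sign changes preserving the length-12 ternary code are the identity and negation of all coordinates. -/
theorem result (c : Cfsg.ArrayPt → (ZMod 3)ˣ) (h : (∀ x ∈ Cfsg.ternaryGolayCode, Cfsg.monomialMap 1 c x ∈ Cfsg.ternaryGolayCode)) : (∀ p, c p = 1) ∨ (∀ p, c p = -1) := by
  classical
  obtain ⟨m, hm, hs⟩ := exists_mask (Finset.univ.filter (fun p => c p = -1))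
  have hbit : ∀ p, m.testBit (idx p) = true ↔ c p = -1 := by
    intro p
    rw [← mem_setOf, hs, Finset.mem_filter]
    simp
  have hflip : ∀ x : Word, monomialMap 1 c x = flipW m x := by
    intro x
    funext p
    have e1 : (Equiv.symm (1 : Equiv.Perm ArrayPt)) p = p := rfl
    unfold monomialMap flipW
    rw [e1]
    by_cases hp : c p = -1
    · rw [if_pos ((hbit p).2 hp), hp]
      simp
    · rw [if_neg (fun hh => hp ((hbit p).1 hh))]
      rcases units_cases (c p) with h1 | h1
      · rw [h1]; simp
      · exact absurd h1 hp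
  have hdot : ∀ i j : Fin 6, ∑ p, flipW m (gb i) p * gb j p = 0 := by
    intro i j
    have h1 := h (gb i) (gb_mem i)
    rw [hflip] at h1
    exact Cfsg.Agent.S1591.result _ _ h1 (gb_mem j)
  rcases D5 m hm hdot with h0 | h1
  · left
    intro p
    rcases units_cases (c p) with h2 | h2
    · exact h2
    · have := (hbit p).2 h2
      rw [h0, Nat.zero_testBit] at this
      exact absurd this Bool.false_ne_true
  · right
    intro p
    apply (hbit p).1
    rw [h1]
    exact full_testBit p

end Cfsg.Agent.S1593
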