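import Mathlib
import Cfsg.Statements.S1594
import Cfsg.Agent.Lib.Helper8.TernaryGolayM12
import Cfsg.Agent.S1593

set_option autoImplicit false
open Cfsg

namespace Cfsg.Agent.S1594

open Cfsg.Agent.Lib.Helper8.TernaryGolay Cfsg.Agent.Lib.Helper8.MonomialAut
open scoped Pointwise

instance finCode : Finite ↥ternaryGolayCode := inferInstance

/-- the permutation parts -/
noncomputable abbrev P : Subgroup (Equiv.Perm ArrayPt) := permSubgroup ternaryGolayCode

theorem mem_P (σ : Equiv.Perm ArrayPt) : σ ∈ P ↔ ∃ c, Pres ternaryGolayCode σ c := Iff.rfl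

/-! ### monomial maps are linear -/

theorem mm_smul (σ : Equiv.Perm ArrayPt) (c : ArrayPt → (ZMod 3)ˣ) (a : Z3) (x : Word) :
    monomialMap σ c (a • x) = a • monomialMap σ c x := by
  funext i; simp [mm_apply, mul_left_comm]

theorem mm_zero (σ : Equiv.Perm ArrayPt) (c : ArrayPt → (ZMod 3)ˣ) :
    monomialMap σ c (0 : Word) = 0 := by
  funext i; simp [mm_apply]

theorem pres_of_gb (σ : Equiv.Perm ArrayPt) (c : ArrayPt → (ZMod 3)ˣ)
    (h : ∀ i, monomialMap σ c (gb i) ∈ ternaryGolayCode) : Pres ternaryGolayCode σ c := by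
  intro x hx
  obtain ⟨a, rfl⟩ := (mem_iff x).1 hx
  have hg : g a = ∑ i, a i • gb i := by
    funext p
    simp [g, Finset.sum_apply]
  rw [hg]
  have hsum : ∀ s : Finset (Fin 6), monomialMap σ c (∑ i ∈ s, a i • gb i) =
      ∑ i ∈ s, a i • monomialMap σ c (gb i) := by
    intro s
    induction s using Finset.induction_on with
    | empty => simp [mm_zero]
    | insert j s hj ih => rw [Finset.sum_insert hj, Finset.sum_insert hj, mm_add, mm_smul, ih]
  rw [hsum]
  exact Submodule.sum_mem _ (fun i _ => Submodule.smul_mem _ _ (h i))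

theorem permOf_mem (e : List ℕ × List ℕ × List ℕ) (he : e ∈ TD) : permOf e ∈ P := by
  refine ⟨sgnOf e, pres_of_gb _ _ (fun i => ?_)⟩
  rw [mmE_eq e (D6 e he), isWord_iff]
  exact D7 e he i

/-! ### 5-transitivity -/

theorem extend (Q : Subgroup (Equiv.Perm ArrayPt)) (b : ℕ → ArrayPt)
    (hT : ∀ k < 5, ∀ y, (∀ i < k, y ≠ b i) →
      ∃ τ ∈ Q, (∀ i < k, τ (b i) = b i) ∧ τ (b k) = y) :
    ∀ j ≤ 5, ∀ t : ℕ → ArrayPt, (∀ i < 5, ∀ i' < 5, t i = t i' → i = i') →
      (∀ i < 5 - j, t i = b i) → ∃ σ ∈ Q, ∀ i < 5, σ (b i) = t i := by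
  intro j
  induction j with
  | zero =>
    intro _ t _ ht
    exact ⟨1, Q.one_mem, fun i hi => by rw [Equiv.Perm.one_apply]; exact (ht i (by omega)).symm⟩
  | succ j ih =>
    intro hj t hinj ht
    have hk : 5 - (j + 1) < 5 := by omega
    obtain ⟨τ, hτQ, hτfix, hτk⟩ := hT (5 - (j + 1)) hk (t (5 - (j + 1))) (by
      intro i hi h
      rw [← ht i hi] at h
      have := hinj _ hk _ (by omega) h
      omega)
    obtain ⟨σ', hσ'Q, hσ'⟩ := ih (by omega) (fun i => τ⁻¹ (t i)) (by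
      intro i hi i' hi' h
      exact hinj i hi i' hi' (τ⁻¹.injective h)) (by
      intro i hi
      show τ⁻¹ (t i) = b i
      rw [Equiv.Perm.inv_eq_iff_eq]
      by_cases hik : i < 5 - (j + 1)
      · rw [hτfix i hik, ht i hik]
      · have : i = 5 - (j + 1) := by omega
        rw [this, hτk])
    refine ⟨τ * σ', Q.mul_mem hτQ hσ'Q, fun i hi => ?_⟩
    rw [Equiv.Perm.mul_apply, hσ' i hi]
    exact τ.apply_symm_apply (t i)

theorem trans5 (t : ℕ → ArrayPt) (hinj : ∀ i < 5, ∀ i' < 5, t i = t i' → i = i') :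
    ∃ σ ∈ P, ∀ i < 5, σ (bp i) = t i := by
  refine extend P bp ?_ 5 le_rfl t hinj (fun i hi => by omega)
  intro k hk y hy
  obtain ⟨h1, h2, h3⟩ := D8 k hk y hy
  have hv := D6 _ h1
  refine ⟨permOf _, permOf_mem _ h1, fun i hi => ?_, ?_⟩
  · rw [permOf_apply _ hv]; exact h2 i hi
  · rw [permOf_apply _ hv]; exact h3

/-! ### permutation parts preserve the hexads -/

theorem supp_mm (σ : Equiv.Perm ArrayPt) (c : ArrayPt → (ZMod 3)ˣ) (x : Word) :
    ternarySupport (monomialMap σ c x) = σ • ternarySupport x := by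
  ext p
  rw [← Finset.inv_smul_mem_iff]
  simp only [ternarySupport, Finset.mem_filter, Finset.mem_univ, true_and, mm_apply, ne_eq,
    mul_eq_zero, Units.ne_zero, false_or]
  rfl

theorem smul_hexads_subset (σ : Equiv.Perm ArrayPt) (hσ : σ ∈ P) : σ • hexads ⊆ hexads := by
  obtain ⟨c, hc⟩ := hσ
  rintro _ ⟨h, ⟨x, hx, rfl, h6⟩, rfl⟩
  refine ⟨monomialMap σ c x, hc x hx, supp_mm σ c x, ?_⟩
  show (σ • ternarySupport x).card = 6
  rw [Finset.card_smul_finset]; exact h6

theorem P_le : P ≤ setSystemAut hexads := by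
  intro σ hσ
  rw [MulAction.mem_stabilizer_iff]
  apply Set.Subset.antisymm (smul_hexads_subset σ hσ)
  have h := smul_hexads_subset σ⁻¹ (P.inv_mem hσ)
  rw [Set.smul_set_subset_iff_subset_inv_smul_set, inv_inv] at h
  exact h

/-! ### rigidity -/

theorem step_lemma (τ : Equiv.Perm ArrayPt) (hτ : τ ∈ setSystemAut hexads)
    (hfix : ∀ p, 6 ≤ idx p → τ p = p) (x y : ArrayPt) (hy : τ x = y) (mA mB : ℕ)
    (hA : mA ∈ HM) (hB : mB ∈ HM) (hx : x ∈ setOf mA) (hS : Step y mA mB) :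
    τ • setOf mA = setOf mB := by
  obtain ⟨h5, hsub⟩ := hS
  obtain ⟨b, _, hb⟩ := hexads_steiner _ h5
  have h1 : τ • setOf mA ∈ hexads := by
    have : τ • setOf mA ∈ τ • hexads := Set.smul_mem_smul_set ((mem_hexads_iff _).2 ⟨mA, hA, rfl⟩)
    rwa [MulAction.mem_stabilizer_iff.1 hτ] at this
  have h2 : setOf mB ∈ hexads := (mem_hexads_iff _).2 ⟨mB, hB, rfl⟩
  have h3 : insert y ((setOf mA).filter (fun p => 6 ≤ idx p)) ⊆ τ • setOf mA := by
    intro p hp
    rw [Finset.mem_insert] at hp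
    rcases hp with rfl | hp
    · rw [← hy]; exact Finset.smul_mem_smul_finset hx
    · rw [Finset.mem_filter] at hp
      have := hfix p hp.2
      rw [← this]
      exact Finset.smul_mem_smul_finset hp.1
  rw [hb _ ⟨h1, h3⟩, hb _ ⟨h2, hsub⟩]

theorem rigid (τ : Equiv.Perm ArrayPt) (hτ : τ ∈ setSystemAut hexads)
    (hfix : ∀ p, 6 ≤ idx p → τ p = p) : τ = 1 := by
  have hK : ∀ p, idx p < 6 → idx (τ p) < 6 := by
    intro p hp
    by_contra hcon
    have h1 := hfix (τ p) (by omega)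
    have h2 := τ.injective h1
    rw [h2] at hcon
    exact hcon hp
  refine Equiv.ext (fun x => ?_)
  rw [Equiv.Perm.one_apply]
  by_contra hne
  have hx6 : idx x < 6 := by
    by_contra hcon
    exact hne (hfix x (by omega))
  obtain ⟨hz6, hzx, hA, hA', hB, hB', hxA, hzA, hxA', hzA', hint, hS, hS'⟩ :=
    D9 x (τ x) hx6 (hK x hx6) (fun h => hne h.symm)
  set w := WT.getD (6 * idx x + idx (τ x)) ((0, 0), 0, 0, 0, 0) with hw
  have e1 := step_lemma τ hτ hfix x (τ x) rfl _ _ hA hB hxA hS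
  have e2 := step_lemma τ hτ hfix x (τ x) rfl _ _ hA' hB' hxA' hS'
  have m1 : τ w.1 ∈ setOf w.2.2.2.1 := by
    rw [← e1]; exact Finset.smul_mem_smul_finset hzA
  have m2 : τ w.1 ∈ setOf w.2.2.2.2 := by
    rw [← e2]; exact Finset.smul_mem_smul_finset hzA'
  exact hzx (τ.injective (hint _ m1 (hK _ hz6) m2))

theorem six_le_cases : ∀ p : ArrayPt, 6 ≤ idx p → (∃ i < 5, p = bp i) ∨ p = pt 11 := by decide

theorem base_facts : ((setOf 1984 : Finset ArrayPt)).card = 5 ∧
    (setOf 1984 : Finset ArrayPt) ⊆ setOf 4032 ∧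
    (∀ p ∈ (setOf 1984 : Finset ArrayPt), ∃ i < 5, p = bp i) ∧ (∀ i < 5, bp i ∈ (setOf 4032 : Finset ArrayPt)) ∧
    pt 11 ∈ (setOf 4032 : Finset ArrayPt) ∧
    (∀ p ∈ (setOf 4032 : Finset ArrayPt), (∃ i < 5, p = bp i) ∨ p = pt 11) ∧ (4032 : ℕ) ∈ HM := by
  decide +kernel

theorem rigid' (τ : Equiv.Perm ArrayPt) (hτ : τ ∈ setSystemAut hexads)
    (hfix : ∀ i < 5, τ (bp i) = bp i) : τ = 1 := by
  apply rigid τ hτ
  obtain ⟨h5, hsub, hbs, hb4032, h11, hcases, h0⟩ := base_facts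
  -- τ • h0 = h0
  have e0 : τ • (setOf 4032 : Finset ArrayPt) = setOf 4032 := by
    obtain ⟨b, _, hb⟩ := hexads_steiner _ h5
    have h1 : τ • (setOf 4032 : Finset ArrayPt) ∈ hexads := by
      have : τ • (setOf 4032 : Finset ArrayPt) ∈ τ • hexads :=
        Set.smul_mem_smul_set ((mem_hexads_iff _).2 ⟨4032, h0, rfl⟩)
      rwa [MulAction.mem_stabilizer_iff.1 hτ] at this
    have h2 : (setOf 4032 : Finset ArrayPt) ∈ hexads := (mem_hexads_iff _).2 ⟨4032, h0, rfl⟩
    have h3 : (setOf 1984 : Finset ArrayPt) ⊆ τ • (setOf 4032 : Finset ArrayPt) := by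
      intro p hp
      obtain ⟨i, hi, rfl⟩ := hbs p hp
      rw [← hfix i hi]
      exact Finset.smul_mem_smul_finset (hb4032 i hi)
    rw [hb _ ⟨h1, h3⟩, hb _ ⟨h2, hsub⟩]
  have h11' : τ (pt 11) = pt 11 := by
    have hm : τ (pt 11) ∈ (setOf 4032 : Finset ArrayPt) := by
      rw [← e0]; exact Finset.smul_mem_smul_finset h11
    rcases hcases _ hm with ⟨i, hi, h⟩ | h
    · rw [← hfix i hi] at h
      have := τ.injective h
      have hne : ∀ i < 5, pt 11 ≠ bp i := by decide
      exact absurd this (hne i hi)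
    · exact h
  intro p hp
  rcases six_le_cases p hp with ⟨i, hi, rfl⟩ | rfl
  · exact hfix i hi
  · exact h11'

/-! ### assembly -/

theorem P_eq : (P : Set (Equiv.Perm ArrayPt)) = (setSystemAut hexads : Set (Equiv.Perm ArrayPt)) := by
  apply Set.Subset.antisymm (fun σ hσ => P_le hσ)
  intro h hh
  have hbinj : ∀ i < 5, ∀ i' < 5, bp i = bp i' → i = i' := by decide
  obtain ⟨σ, hσP, hσ⟩ := trans5 (fun i => h (bp i)) (by
    intro i hi i' hi' e
    exact hbinj i hi i' hi' (h.injective e))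
  have h1 : σ⁻¹ * h = 1 := by
    apply rigid' _ ((setSystemAut hexads).mul_mem ((setSystemAut hexads).inv_mem (P_le hσP)) hh)
    intro i hi
    rw [Equiv.Perm.mul_apply, ← hσ i hi]
    exact σ.symm_apply_apply (bp i)
  have h2 : h = σ := by
    rw [inv_mul_eq_one] at h1
    exact h1.symm
  rw [h2]; exact hσP

theorem card_P : Nat.card P = 95040 := by
  have hbinj : ∀ i < 5, ∀ i' < 5, bp i = bp i' → i = i' := by decide
  let f : P → (Fin 5 ↪ ArrayPt) := fun σ =>
    ⟨fun i => σ.1 (bp i.1), fun i i' e => Fin.ext (hbinj i.1 i.2 i'.1 i'.2 (σ.1.injective e))⟩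
  have hf : Function.Bijective f := by
    constructor
    · intro σ τ e
      have e' : ∀ i < 5, σ.1 (bp i) = τ.1 (bp i) := fun i hi =>
        congrFun (congrArg (fun (u : Fin 5 ↪ ArrayPt) => (u : Fin 5 → ArrayPt)) e) ⟨i, hi⟩
      have h1 : τ.1⁻¹ * σ.1 = 1 := by
        apply rigid' _ (P_le (P.mul_mem (P.inv_mem τ.2) σ.2))
        intro i hi
        rw [Equiv.Perm.mul_apply, e' i hi]
        exact τ.1.symm_apply_apply (bp i)
      rw [inv_mul_eq_one] at h1
      exact Subtype.ext h1.symm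
    · intro t
      obtain ⟨σ, hσP, hσ⟩ := trans5 (fun i => if h : i < 5 then t ⟨i, h⟩ else bp 0) (by
        intro i hi i' hi' e
        rw [dif_pos hi, dif_pos hi'] at e
        exact congrArg Fin.val (t.injective e))
      refine ⟨⟨σ, hσP⟩, ?_⟩
      apply DFunLike.ext
      intro i
      show σ (bp i.1) = t i
      rw [hσ i.1 i.2, dif_pos i.2]
  rw [Nat.card_congr (Equiv.ofBijective f hf), Nat.card_eq_fintype_card, Fintype.card_embedding_eq]
  rfl

theorem diag_eq : diagAuts ternaryGolayCode = {1, -1} := by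
  ext d
  simp only [Set.mem_insert_iff, Set.mem_singleton_iff]
  constructor
  · intro hd
    rcases S1593.result d hd with h | h
    · left; funext p; exact h p
    · right; funext p; exact h p
  · rintro (rfl | rfl)
    · exact pres_one
    · intro x hx
      have : monomialMap (1 : Equiv.Perm ArrayPt) (-1 : ArrayPt → (ZMod 3)ˣ) x = -x := by
        funext p
        have h1 : (Equiv.symm (1 : Equiv.Perm ArrayPt)) p = p := rfl
        simp [mm_apply, h1]
      rw [this]
      exact Submodule.neg_mem _ hx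

theorem card_diag : Nat.card (diagAuts ternaryGolayCode) = 2 := by
  rw [diag_eq, Nat.card_coe_set_eq, Set.ncard_pair]
  intro h
  have := congrFun h (0, 0)
  revert this
  decide

/-- The monomial automorphism group of the length-12 ternary code has order 190080 and its permutation parts are exactly the automorphisms of its hexad system. -/
theorem result : Nat.card {f : Equiv.Perm Cfsg.ArrayPt × (Cfsg.ArrayPt → (ZMod 3)ˣ) // (∀ x ∈ Cfsg.ternaryGolayCode, Cfsg.monomialMap f.1 f.2 x ∈ Cfsg.ternaryGolayCode)} = 190080 ∧ {σ : Equiv.Perm Cfsg.ArrayPt | ∃ c : Cfsg.ArrayPt → (ZMod 3)ˣ, (∀ x ∈ Cfsg.ternaryGolayCode, Cfsg.monomialMap σ c x ∈ Cfsg.ternaryGolayCode)} = (Cfsg.setSystemAut {h : Finset Cfsg.ArrayPt | ∃ x ∈ Cfsg.ternaryGolayCode, Cfsg.ternarySupport x = h ∧ h.card = 6} : Set (Equiv.Perm Cfsg.ArrayPt)) := by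
  refine ⟨?_, P_eq⟩
  rw [card_aut]
  have h1 : Nat.card (permParts ternaryGolayCode) = 95040 := card_P
  rw [h1, card_diag]

end Cfsg.Agent.S1594
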