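import Cfsg.Statements.S1595
import Cfsg.Agent.Lib.Helper6.SteinerExact

set_option autoImplicit false
open Cfsg

namespace Cfsg.Agent.S1595
open Cfsg.Agent.Lib.Helper6.Steiner

/-- Leech triangle of S(5, 6, 12): blocks meet in 0, 2, 3 or 4 points, and a block is met exactly in a given 2-, 3- or 4-subset by 3, 2, 3 blocks respectively. -/
theorem result {α : Type*} [Fintype α] [DecidableEq α] (hα : Fintype.card α = 12) {B : Set (Finset α)} (hB : Cfsg.IsSteinerSystem 5 6 B) (b : Finset α) (hb : b ∈ B) : (∀ c ∈ B, c ≠ b → (b ∩ c).card = 0 ∨ (b ∩ c).card = 2 ∨ (b ∩ c).card = 3 ∨ (b ∩ c).card = 4) ∧ ∀ s ⊆ b, (s.card = 2 → {c : Finset α | c ∈ B ∧ b ∩ c = s}.ncard = 3) ∧ (s.card = 3 → {c : Finset α | c ∈ B ∧ b ∩ c = s}.ncard = 2) ∧ (s.card = 4 → {c : Finset α | c ∈ B ∧ b ∩ c = s}.ncard = 3) := by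
  refine ⟨?_, ?_⟩
  · intro c hc hcb
    obtain ⟨h0, h1, h2, h3, h4, h5, h6⟩ := nI_5_6_12 hα hB hb
    have hpos := nI_pos_of_mem (B := B) (b := b) hc
    have hle := inter_card_le hB hb c
    have hne : (b ∩ c).card ≠ 6 := fun h => hcb (eq_of_inter_card hB hb hc h).symm
    interval_cases h : (b ∩ c).card <;> simp_all
  · intro s hs
    obtain ⟨m4, m3, m2⟩ := muE_5_6_12 hα hB hb hs
    exact ⟨m2, m3, m4⟩

end Cfsg.Agent.S1595
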