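import Cfsg.Statements.S1601
import Cfsg.Agent.S0498
import Cfsg.Agent.Lib.Helper5.M11Pt.Glue

set_option autoImplicit false
open scoped Pointwise
open Cfsg

namespace Cfsg.Agent.S1601

/-- In the 3-transitive action of the smallest Mathieu group on the complementary dodecad, a point stabiliser is isomorphic to PSL(2, 11). -/
theorem result (d : Finset Cfsg.GolayPt) (hd : d ∈ Cfsg.dodecads) (p q : Cfsg.GolayPt) (hp : p ∈ d) (hq : q ∉ d) : Nonempty (↥(MulAction.stabilizer Cfsg.M24 d ⊓ MulAction.stabilizer Cfsg.M24 p ⊓ MulAction.stabilizer Cfsg.M24 q) ≃* Matrix.ProjectiveSpecialLinearGroup (Fin 2) (ZMod 11)) := by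
  have hs : IsSimpleGroup ↥(Cfsg.Agent.Lib.Helper5.M11Pt.Hq d p q) :=
    Cfsg.Agent.Lib.Helper5.M11Pt.simple_Hq hd hp hq
  have hc : Nat.card ↥(Cfsg.Agent.Lib.Helper5.M11Pt.Hq d p q) = 660 :=
    Cfsg.Agent.Lib.Helper5.M11Pt.card_Hq hd hp hq
  have hF : Fintype.card (ZMod 11) = 11 := ZMod.card 11
  have : Fact (Nat.Prime 11) := ⟨by norm_num⟩
  exact Cfsg.Agent.S0498.result (G := ↥(Cfsg.Agent.Lib.Helper5.M11Pt.Hq d p q)) 11 (Or.inl rfl)
    (by rw [hc]; norm_num) hF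

end Cfsg.Agent.S1601
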