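import Cfsg.Statements.S1604
import Cfsg.Agent.Lib.Helper6.GolayRank_A1604
import Cfsg.Agent.Lib.Helper6.GolayRankGlue
import Cfsg.Agent.Lib.Helper6.GolayFlag3

set_option autoImplicit false
open scoped Pointwise
open Cfsg

namespace Cfsg.Agent.S1604

open Cfsg.Agent.Lib.Helper6.Golay Cfsg.Agent.Lib.Helper6.PermChain
open scoped Pointwise

theorem struct_eq (t : Equiv.Perm GolayPt) :
    R0_A1604.map (fun r => t • fs r) = [{t (pt 23)}, {t (pt 0)}, t • fs octad0] := by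
  simp only [R0_A1604, List.map_cons, List.map_nil]
  rw [show (8388608 : ℕ) = 2 ^ 23 by norm_num, smul_fs_pow t 23 (by norm_num),
    show (1 : ℕ) = 2 ^ 0 by norm_num, smul_fs_pow t 0 (by norm_num)]
  rfl

theorem sigF_iff (t : Equiv.Perm GolayPt) (b : Finset GolayPt) (k : ℕ) :
    sigF (R0_A1604.map (fun r => t • fs r)) b = [1, 1, k] ↔
      t (pt 23) ∈ b ∧ t (pt 0) ∈ b ∧ (t • fs octad0 ∩ b).card = k := by
  rw [struct_eq]
  show [(b ∩ {t (pt 23)}).card, (b ∩ {t (pt 0)}).card, (b ∩ t • fs octad0).card] = [1, 1, k] ↔ _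
  rw [List.cons.injEq, List.cons.injEq, List.cons.injEq, Finset.inter_comm b (t • fs octad0),
    card_inter_singleton_eq_one, card_inter_singleton_eq_one]
  simp only [and_true]

theorem count_eq (t : Equiv.Perm GolayPt) (ht : t ∈ M24) (k : ℕ) :
    {x : Finset GolayPt | x ∈ octads ∧ t (pt 23) ∈ x ∧ t (pt 0) ∈ x ∧
        (t • fs octad0 ∩ x).card = k}.ncard =
      countBelow (fun m => pc 24 (combo m) == 8 && (sig R0_A1604 (combo m) == [1, 1, k])) 4096 := by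
  rw [← rank_count R0_A1604 8 [1, 1, k] ht]
  congr 1
  ext b
  simp only [Set.mem_ofPred_eq, sigF_iff]
  rfl


/-- A hexad stabiliser in the two-point stabiliser has orbits of sizes 1, 16, 60 on the 77 hexads: the 16 hexads disjoint from it and the 60 meeting it in two points. -/
theorem result (p q : Cfsg.GolayPt) (hpq : p ≠ q) (o o' o'' : Finset Cfsg.GolayPt) (ho : o ∈ Cfsg.octads) (ho' : o' ∈ Cfsg.octads) (ho'' : o'' ∈ Cfsg.octads) (hp : p ∈ o ∧ p ∈ o' ∧ p ∈ o'') (hq : q ∈ o ∧ q ∈ o' ∧ q ∈ o'') (h : (o ∩ o').card = (o ∩ o'').card) : {x : Finset Cfsg.GolayPt | x ∈ Cfsg.octads ∧ p ∈ x ∧ q ∈ x ∧ (o ∩ x).card = 2}.ncard = 16 ∧ {x : Finset Cfsg.GolayPt | x ∈ Cfsg.octads ∧ p ∈ x ∧ q ∈ x ∧ (o ∩ x).card = 4}.ncard = 60 ∧ ∃ g : Equiv.Perm Cfsg.GolayPt, g ∈ Cfsg.M24 ∧ g p = p ∧ g q = q ∧ g • o = o ∧ g • o' = o'' := by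
  obtain ⟨t, ht, rfl, rfl, rfl⟩ := exists_M24_octad_two_points_in ho hpq hp.1 hq.1
  refine ⟨(count_eq t ht 2).trans cnt_A1604_0, (count_eq t ht 4).trans cnt_A1604_1, ?_⟩
  have key : ∀ σ, ClassCert R0_A1604 8 [1, 1, σ] → (t • fs octad0 ∩ o').card = σ →
      ∃ g : Equiv.Perm GolayPt, g ∈ M24 ∧ g (t (pt 23)) = t (pt 23) ∧ g (t (pt 0)) = t (pt 0) ∧
        g • (t • fs octad0) = t • fs octad0 ∧ g • o' = o'' := by
    intro σ hc hσ
    obtain ⟨g, hg, hgR, hgb⟩ := rank_map hc ht ho' ho''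
      ((sigF_iff t o' σ).mpr ⟨hp.2.1, hq.2.1, hσ⟩)
      ((sigF_iff t o'' σ).mpr ⟨hp.2.2, hq.2.2, by rw [← h, hσ]⟩)
    refine ⟨g, hg, ?_, ?_, hgR octad0 (by decide), hgb⟩
    · have := hgR 8388608 (by decide)
      rw [show (8388608 : ℕ) = 2 ^ 23 by norm_num, smul_fs_pow t 23 (by norm_num)] at this
      exact smul_singleton_eq this
    · have := hgR 1 (by decide)
      rw [show (1 : ℕ) = 2 ^ 0 by norm_num, smul_fs_pow t 0 (by norm_num)] at this
      exact smul_singleton_eq this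
  rcases octad_inter_cases ho ho' with hk | hk | hk | hk
  · exfalso
    have : t (pt 23) ∈ t • fs octad0 ∩ o' := Finset.mem_inter.mpr ⟨hp.1, hp.2.1⟩
    rw [Finset.card_eq_zero.mp hk] at this
    exact Finset.notMem_empty _ this
  · exact key 2 cc_A1604_0 hk
  · exact key 4 cc_A1604_1 hk
  · refine ⟨1, M24.one_mem, rfl, rfl, one_smul _ _, ?_⟩
    rw [one_smul]
    exact eq_of_full_inter ho.2 ho'.2 ho''.2 hk (by rw [← h, hk])

end Cfsg.Agent.S1604
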