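import Cfsg.Statements.S1605
import Cfsg.Agent.Lib.Helper6.GolayRank_A1605a
import Cfsg.Agent.Lib.Helper6.GolayRank_A1605b
import Cfsg.Agent.Lib.Helper6.GolayRankGlue
import Cfsg.Agent.Lib.Helper6.GolayFlag3

set_option autoImplicit false
open scoped Pointwise
open Cfsg

namespace Cfsg.Agent.S1605

open Cfsg.Agent.Lib.Helper6.Golay Cfsg.Agent.Lib.Helper6.PermChain
open scoped Pointwise

theorem struct_a (t : Equiv.Perm GolayPt) :
    R0_A1605a.map (fun r => t • fs r) = [{t (pt 23)}, {t (pt 4)}] := by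
  simp only [R0_A1605a, List.map_cons, List.map_nil]
  rw [show (8388608 : ℕ) = 2 ^ 23 by norm_num, smul_fs_pow t 23 (by norm_num),
    show (16 : ℕ) = 2 ^ 4 by norm_num, smul_fs_pow t 4 (by norm_num)]

theorem sigF_a (t : Equiv.Perm GolayPt) (b : Finset GolayPt) :
    sigF (R0_A1605a.map (fun r => t • fs r)) b = [1, 0] ↔ t (pt 23) ∈ b ∧ t (pt 4) ∉ b := by
  rw [struct_a]
  show [(b ∩ {t (pt 23)}).card, (b ∩ {t (pt 4)}).card] = [1, 0] ↔ _
  rw [List.cons.injEq, List.cons.injEq, card_inter_singleton_eq_one, card_inter_singleton_eq_zero]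
  simp only [and_true]

theorem struct_b (t : Equiv.Perm GolayPt) :
    R0_A1605b.map (fun r => t • fs r) = [{t (pt 23)}, {t (pt 4)}, t • fs octad0] := by
  simp only [R0_A1605b, List.map_cons, List.map_nil]
  rw [show (8388608 : ℕ) = 2 ^ 23 by norm_num, smul_fs_pow t 23 (by norm_num),
    show (16 : ℕ) = 2 ^ 4 by norm_num, smul_fs_pow t 4 (by norm_num)]
  rfl

theorem sigF_b (t : Equiv.Perm GolayPt) (b : Finset GolayPt) (k : ℕ) :
    sigF (R0_A1605b.map (fun r => t • fs r)) b = [1, 0, k] ↔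
      (t (pt 23) ∈ b ∧ t (pt 4) ∉ b) ∧ (t • fs octad0 ∩ b).card = k := by
  rw [struct_b]
  show [(b ∩ {t (pt 23)}).card, (b ∩ {t (pt 4)}).card, (b ∩ t • fs octad0).card] = [1, 0, k] ↔ _
  rw [List.cons.injEq, List.cons.injEq, List.cons.injEq, Finset.inter_comm b (t • fs octad0),
    card_inter_singleton_eq_one, card_inter_singleton_eq_zero]
  simp only [and_true, and_assoc]

/-- transitivity of the two-point stabilizer on the octads through the first and not the second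
point -/
theorem trans_a {t : Equiv.Perm GolayPt} (ht : t ∈ M24) {o o' : Finset GolayPt}
    (ho : o ∈ octads ∧ t (pt 23) ∈ o ∧ t (pt 4) ∉ o)
    (ho' : o' ∈ octads ∧ t (pt 23) ∈ o' ∧ t (pt 4) ∉ o') :
    ∃ g : Equiv.Perm GolayPt, g ∈ M24 ∧ g (t (pt 23)) = t (pt 23) ∧ g (t (pt 4)) = t (pt 4) ∧
      g • o = o' := by
  obtain ⟨g, hg, hgR, hgb⟩ := rank_map cc_A1605a_0 ht ho.1 ho'.1
    ((sigF_a t o).mpr ho.2) ((sigF_a t o').mpr ho'.2)
  refine ⟨g, hg, ?_, ?_, hgb⟩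
  · have := hgR 8388608 (by decide)
    rw [show (8388608 : ℕ) = 2 ^ 23 by norm_num, smul_fs_pow t 23 (by norm_num)] at this
    exact smul_singleton_eq this
  · have := hgR 16 (by decide)
    rw [show (16 : ℕ) = 2 ^ 4 by norm_num, smul_fs_pow t 4 (by norm_num)] at this
    exact smul_singleton_eq this

theorem count_a (t : Equiv.Perm GolayPt) (ht : t ∈ M24) :
    {x : Finset GolayPt | (x ∈ octads ∧ t (pt 23) ∈ x ∧ t (pt 4) ∉ x)}.ncard = 176 := by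
  rw [← cnt_A1605a_0, ← rank_count R0_A1605a 8 [1, 0] ht]
  congr 1
  ext b
  simp only [Set.mem_ofPred_eq, sigF_a]
  rfl

theorem count_b (t : Equiv.Perm GolayPt) (ht : t ∈ M24) (k : ℕ) :
    {x : Finset GolayPt | (x ∈ octads ∧ t (pt 23) ∈ x ∧ t (pt 4) ∉ x) ∧
        (t • fs octad0 ∩ x).card = k}.ncard =
      countBelow (fun m => pc 24 (combo m) == 8 && (sig R0_A1605b (combo m) == [1, 0, k])) 4096 := by
  rw [← rank_count R0_A1605b 8 [1, 0, k] ht]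
  congr 1
  ext b
  simp only [Set.mem_ofPred_eq, sigF_b]
  constructor
  · rintro ⟨⟨h1, h2, h3⟩, h4⟩; exact ⟨h1, ⟨h2, h3⟩, h4⟩
  · rintro ⟨h1, ⟨h2, h3⟩, h4⟩; exact ⟨⟨h1, h2, h3⟩, h4⟩


/-- the third part, for the structure in reference form -/
theorem part3 {t : Equiv.Perm GolayPt} (ht : t ∈ M24)
    (ho : t • fs octad0 ∈ octads ∧ t (pt 23) ∈ t • fs octad0 ∧ t (pt 4) ∉ t • fs octad0) :
    {x : Finset GolayPt | (x ∈ octads ∧ t (pt 23) ∈ x ∧ t (pt 4) ∉ x) ∧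
        (t • fs octad0 ∩ x).card = 2}.ncard = 70 ∧
    {x : Finset GolayPt | (x ∈ octads ∧ t (pt 23) ∈ x ∧ t (pt 4) ∉ x) ∧
        (t • fs octad0 ∩ x).card = 4}.ncard = 105 ∧
    ∀ o' o'' : Finset GolayPt, (o' ∈ octads ∧ t (pt 23) ∈ o' ∧ t (pt 4) ∉ o') →
      (o'' ∈ octads ∧ t (pt 23) ∈ o'' ∧ t (pt 4) ∉ o'') →
      (t • fs octad0 ∩ o').card = (t • fs octad0 ∩ o'').card →
      ∃ g : Equiv.Perm GolayPt, g ∈ M24 ∧ g (t (pt 23)) = t (pt 23) ∧ g (t (pt 4)) = t (pt 4) ∧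
        g • (t • fs octad0) = t • fs octad0 ∧ g • o' = o'' := by
  refine ⟨(count_b t ht 2).trans cnt_A1605b_0, (count_b t ht 4).trans cnt_A1605b_1, ?_⟩
  intro o' o'' ho' ho'' hcard
  have key : ∀ σ, ClassCert R0_A1605b 8 [1, 0, σ] → (t • fs octad0 ∩ o').card = σ →
      ∃ g : Equiv.Perm GolayPt, g ∈ M24 ∧ g (t (pt 23)) = t (pt 23) ∧ g (t (pt 4)) = t (pt 4) ∧
        g • (t • fs octad0) = t • fs octad0 ∧ g • o' = o'' := by
    intro σ hc hσ
    obtain ⟨g, hg, hgR, hgb⟩ := rank_map hc ht ho'.1 ho''.1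
      ((sigF_b t o' σ).mpr ⟨ho'.2, hσ⟩) ((sigF_b t o'' σ).mpr ⟨ho''.2, by rw [← hcard, hσ]⟩)
    refine ⟨g, hg, ?_, ?_, hgR octad0 (by decide), hgb⟩
    · have := hgR 8388608 (by decide)
      rw [show (8388608 : ℕ) = 2 ^ 23 by norm_num, smul_fs_pow t 23 (by norm_num)] at this
      exact smul_singleton_eq this
    · have := hgR 16 (by decide)
      rw [show (16 : ℕ) = 2 ^ 4 by norm_num, smul_fs_pow t 4 (by norm_num)] at this
      exact smul_singleton_eq this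
  rcases octad_inter_cases ho.1 ho'.1 with hk | hk | hk | hk
  · exfalso
    have : t (pt 23) ∈ t • fs octad0 ∩ o' := Finset.mem_inter.mpr ⟨ho.2.1, ho'.2.1⟩
    rw [Finset.card_eq_zero.mp hk] at this
    exact Finset.notMem_empty _ this
  · exact key 2 cc_A1605b_0 hk
  · exact key 4 cc_A1605b_1 hk
  · refine ⟨1, M24.one_mem, rfl, rfl, one_smul _ _, ?_⟩
    rw [one_smul]
    exact eq_of_full_inter ho.1.2 ho'.1.2 ho''.1.2 hk (by rw [← hcard, hk])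


/-- The two-point stabiliser acts on the 176 octads through the first point avoiding the second with rank 3 and subdegrees 1, 70, 105 (intersections 8, 2, 4). -/
theorem result (p q : Cfsg.GolayPt) (hpq : p ≠ q) : {x : Finset Cfsg.GolayPt | (x ∈ Cfsg.octads ∧ p ∈ x ∧ q ∉ x)}.ncard = 176 ∧ (∀ o o' : Finset Cfsg.GolayPt, (o ∈ Cfsg.octads ∧ p ∈ o ∧ q ∉ o) → (o' ∈ Cfsg.octads ∧ p ∈ o' ∧ q ∉ o') → ∃ g : Equiv.Perm Cfsg.GolayPt, g ∈ Cfsg.M24 ∧ g p = p ∧ g q = q ∧ g • o = o') ∧ ∀ o : Finset Cfsg.GolayPt, (o ∈ Cfsg.octads ∧ p ∈ o ∧ q ∉ o) → {x : Finset Cfsg.GolayPt | (x ∈ Cfsg.octads ∧ p ∈ x ∧ q ∉ x) ∧ (o ∩ x).card = 2}.ncard = 70 ∧ {x : Finset Cfsg.GolayPt | (x ∈ Cfsg.octads ∧ p ∈ x ∧ q ∉ x) ∧ (o ∩ x).card = 4}.ncard = 105 ∧ ∀ o' o'' : Finset Cfsg.GolayPt, (o' ∈ Cfsg.octads ∧ p ∈ o' ∧ q ∉ o') → (o'' ∈ Cfsg.octads ∧ p ∈ o'' ∧ q ∉ o'') → (o ∩ o').card = (o ∩ o'').card → ∃ g : Equiv.Perm Cfsg.GolayPt,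 g ∈ Cfsg.M24 ∧ g p = p ∧ g q = q ∧ g • o = o ∧ g • o' = o'' := by
  obtain ⟨t1, ht1, rfl, rfl⟩ := exists_M24_pair (p := pt 23) (q := pt 4) (by decide) hpq
  refine ⟨count_a t1 ht1, fun o o' ho ho' => trans_a ht1 ho ho', ?_⟩
  intro o ho
  -- move the reference octad onto `o`
  have href : fs octad0 ∈ octads ∧ pt 23 ∈ fs octad0 ∧ pt 4 ∉ fs octad0 :=
    ⟨octad0_mem, by decide, by decide⟩
  have href' : t1 • fs octad0 ∈ octads ∧ t1 (pt 23) ∈ t1 • fs octad0 ∧ t1 (pt 4) ∉ t1 • fs octad0 := by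
    refine ⟨smul_mem_octads ht1 octad0_mem, ?_, ?_⟩
    · rw [Finset.mem_smul_finset]; exact ⟨pt 23, href.2.1, rfl⟩
    · intro hmem
      rw [Finset.mem_smul_finset] at hmem
      obtain ⟨y, hy, hyt⟩ := hmem
      rw [Equiv.Perm.smul_def] at hyt
      exact href.2.2 (t1.injective hyt ▸ hy)
  obtain ⟨h, hh, hh23, hh4, hho⟩ := trans_a ht1 href' ho
  -- the combined element
  have ht : h * t1 ∈ M24 := M24.mul_mem hh ht1
  have e23 : (h * t1) (pt 23) = t1 (pt 23) := by rw [Equiv.Perm.mul_apply, hh23]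
  have e4 : (h * t1) (pt 4) = t1 (pt 4) := by rw [Equiv.Perm.mul_apply, hh4]
  have eo : (h * t1) • fs octad0 = o := by rw [mul_smul, hho]
  have := part3 ht (by rw [e23, e4, eo]; exact ho)
  rw [e23, e4, eo] at this
  exact this

end Cfsg.Agent.S1605
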