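import Cfsg.Statements.S1606
import Cfsg.Agent.Lib.Helper8.M22Idx.Main

set_option autoImplicit false
open scoped Pointwise
open Cfsg

namespace Cfsg.Agent.S1606

open Cfsg.Agent.Lib.Helper6.Golay Cfsg.Agent.Lib.Helper6.PermChain Cfsg.Agent.Lib.Helper8.M22Idx

/-- the statement for a subgroup `A` of `M24` equal to the stabiliser of the two points -/
theorem aux (p q : Cfsg.GolayPt) (hpq : p ≠ q) (A : Subgroup ↥Cfsg.M24)
    (hA : A = MulAction.stabilizer Cfsg.M24 p ⊓ MulAction.stabilizer Cfsg.M24 q) (H : Subgroup ↥A) :
    H.index ≠ 56 ∧ H.index ≠ 210 := by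
  -- the image of `A` among the permutations is the stabiliser of the two points
  have hAmap : A.map Cfsg.M24.subtype = fixL M24 [p, q] := by
    ext g
    rw [Subgroup.mem_map, mem_fixL]
    constructor
    · rintro ⟨a, ha, rfl⟩
      rw [hA, Subgroup.mem_inf, MulAction.mem_stabilizer_iff, MulAction.mem_stabilizer_iff] at ha
      refine ⟨a.2, ?_⟩
      intro r hr
      simp only [List.mem_cons, List.not_mem_nil, or_false] at hr
      rcases hr with rfl | rfl
      · exact ha.1
      · exact ha.2
    · rintro ⟨hg, hfix⟩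
      refine ⟨⟨g, hg⟩, ?_, rfl⟩
      rw [hA, Subgroup.mem_inf, MulAction.mem_stabilizer_iff, MulAction.mem_stabilizer_iff]
      exact ⟨hfix p (by simp), hfix q (by simp)⟩
  have hAcard : Nat.card A = 443520 := by
    rw [← Subgroup.card_map_of_injective (K := A) Cfsg.M24.subtype_injective, hAmap]
    exact card_fixL_pair hpq
  -- the image of `H` among the permutations
  set K : Subgroup (Equiv.Perm Cfsg.GolayPt) := (H.map A.subtype).map Cfsg.M24.subtype with hKdef
  have hKcard : Nat.card K = Nat.card H := by
    rw [hKdef, Subgroup.card_map_of_injective Cfsg.M24.subtype_injective,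
      Subgroup.card_map_of_injective A.subtype_injective]
  have hKle : K ≤ fixL M24 [p, q] := by
    rw [← hAmap]
    apply Subgroup.map_mono
    rintro _ ⟨h, _, rfl⟩
    exact h.2
  have hmul : H.index * Nat.card H = 443520 := by
    rw [Subgroup.index_mul_card, hAcard]
  obtain ⟨h2112, h7920⟩ := card_ne_of_le_fixL hpq K hKle
  rw [hKcard] at h2112 h7920
  constructor
  · intro h56
    rw [h56] at hmul
    exact h7920 (by omega)
  · intro h210
    rw [h210] at hmul
    exact h2112 (by omega)

/-- The stabiliser of two points in the group of the length-24 code has no subgroups of index 56 or 210. -/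
theorem result (p q : Cfsg.GolayPt) (hpq : p ≠ q) (H : Subgroup ↥(MulAction.stabilizer Cfsg.M24 p ⊓ MulAction.stabilizer Cfsg.M24 q)) : H.index ≠ 56 ∧ H.index ≠ 210 :=
  aux p q hpq _ rfl H

end Cfsg.Agent.S1606
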