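import Cfsg.Statements.S1608
import Cfsg.Agent.Lib.Helper6.GolayRank_A1608
import Cfsg.Agent.Lib.Helper6.GolayRankGlue

set_option autoImplicit false
open scoped Pointwise
open Cfsg

namespace Cfsg.Agent.S1608

open Cfsg.Agent.Lib.Helper6.Golay Cfsg.Agent.Lib.Helper6.PermChain
open scoped Pointwise

theorem struct_eq (t : Equiv.Perm GolayPt) :
    R0_A1608.map (fun r => t • fs r) = [t • fs octad0, {t (pt 4)}] := by
  simp only [R0_A1608, List.map_cons, List.map_nil]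
  rw [show (16 : ℕ) = 2 ^ 4 by norm_num, smul_fs_pow t 4 (by norm_num)]
  rfl

theorem sigF_iff (t : Equiv.Perm GolayPt) (b : Finset GolayPt) (k : ℕ) :
    sigF (R0_A1608.map (fun r => t • fs r)) b = [k, 0] ↔
      t (pt 4) ∉ b ∧ (t • fs octad0 ∩ b).card = k := by
  rw [struct_eq]
  show [(b ∩ t • fs octad0).card, (b ∩ {t (pt 4)}).card] = [k, 0] ↔ _
  rw [List.cons.injEq, List.cons.injEq, Finset.inter_comm b (t • fs octad0),
    card_inter_singleton_eq_zero]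
  simp only [and_true]
  exact and_comm

theorem count_eq (t : Equiv.Perm GolayPt) (ht : t ∈ M24) (k : ℕ) :
    {o' : Finset GolayPt | o' ∈ octads ∧ t (pt 4) ∉ o' ∧ (t • fs octad0 ∩ o').card = k}.ncard =
      countBelow (fun m => pc 24 (combo m) == 8 && (sig R0_A1608 (combo m) == [k, 0])) 4096 := by
  rw [← rank_count R0_A1608 8 [k, 0] ht]
  congr 1
  ext b
  simp only [Set.mem_ofPred_eq, sigF_iff]
  rfl


/-- The point stabiliser acts on the 506 octads avoiding the point with rank 4 and subdegrees 1, 15, 210, 280, the suborbits being given by intersection size with the fixed octad. -/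
theorem result (x : Cfsg.GolayPt) (o : Finset Cfsg.GolayPt) (ho : o ∈ Cfsg.octads) (hx : x ∉ o) : {o' : Finset Cfsg.GolayPt | o' ∈ Cfsg.octads ∧ x ∉ o' ∧ (o ∩ o').card = 0}.ncard = 15 ∧ {o' : Finset Cfsg.GolayPt | o' ∈ Cfsg.octads ∧ x ∉ o' ∧ (o ∩ o').card = 4}.ncard = 210 ∧ {o' : Finset Cfsg.GolayPt | o' ∈ Cfsg.octads ∧ x ∉ o' ∧ (o ∩ o').card = 2}.ncard = 280 ∧ ∀ o' o'' : Finset Cfsg.GolayPt, o' ∈ Cfsg.octads → o'' ∈ Cfsg.octads → x ∉ o' → x ∉ o'' → (o ∩ o').card = (o ∩ o'').card → ∃ g : Equiv.Perm Cfsg.GolayPt, g ∈ Cfsg.M24 ∧ g x = x ∧ g • o = o ∧ g • o' = o'' := by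
  obtain ⟨t, ht, rfl, rfl⟩ := exists_M24_octad_point_out ho hx
  refine ⟨(count_eq t ht 0).trans cnt_A1608_0, (count_eq t ht 4).trans cnt_A1608_1,
    (count_eq t ht 2).trans cnt_A1608_2, ?_⟩
  intro o' o'' ho' ho'' hx' hx'' h
  have key : ∀ σ, ClassCert R0_A1608 8 [σ, 0] → (t • fs octad0 ∩ o').card = σ →
      ∃ g : Equiv.Perm GolayPt, g ∈ M24 ∧ g (t (pt 4)) = t (pt 4) ∧
        g • (t • fs octad0) = t • fs octad0 ∧ g • o' = o'' := by
    intro σ hc hσ
    obtain ⟨g, hg, hgR, hgb⟩ := rank_map hc ht ho' ho'' ((sigF_iff t o' σ).mpr ⟨hx', hσ⟩)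
      ((sigF_iff t o'' σ).mpr ⟨hx'', by rw [← h, hσ]⟩)
    refine ⟨g, hg, ?_, hgR octad0 (by decide), hgb⟩
    have := hgR 16 (by decide)
    rw [show (16 : ℕ) = 2 ^ 4 by norm_num, smul_fs_pow t 4 (by norm_num)] at this
    exact smul_singleton_eq this
  rcases octad_inter_cases ho ho' with hk | hk | hk | hk
  · exact key 0 cc_A1608_0 hk
  · exact key 2 cc_A1608_2 hk
  · exact key 4 cc_A1608_1 hk
  · refine ⟨1, M24.one_mem, rfl, one_smul _ _, ?_⟩
    rw [one_smul]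
    exact eq_of_full_inter ho.2 ho'.2 ho''.2 hk (by rw [← h, hk])

end Cfsg.Agent.S1608
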