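import Cfsg.Statements.S1609
import Cfsg.Agent.Lib.Helper8.M23Idx.Main

set_option autoImplicit false
open scoped Pointwise
open Cfsg

namespace Cfsg.Agent.S1609

/-- Subgroups of index 253 in the Mathieu group of degree 23 are exactly the duad stabilisers and the heptad stabilisers. -/
theorem result (x : Cfsg.GolayPt) (H : Subgroup ↥(MulAction.stabilizer Cfsg.M24 x)) (hH : H.index = 253) : (∃ s : Finset Cfsg.GolayPt, s.card = 2 ∧ x ∉ s ∧ H = (MulAction.stabilizer Cfsg.M24 s).subgroupOf (MulAction.stabilizer Cfsg.M24 x)) ∨ ∃ o ∈ Cfsg.octads, x ∈ o ∧ H = (MulAction.stabilizer Cfsg.M24 o).subgroupOf (MulAction.stabilizer Cfsg.M24 x) := by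
  classical
  -- the subgroup as a group of permutations
  let φ : ↥(MulAction.stabilizer Cfsg.M24 x) →* Equiv.Perm Cfsg.GolayPt :=
    (Cfsg.M24.subtype).comp (MulAction.stabilizer Cfsg.M24 x).subtype
  have hφ : Function.Injective φ := by
    intro a b hab
    exact Subtype.ext (Subtype.ext hab)
  set K := H.map φ with hK
  have hKle : K ≤ Cfsg.Agent.Lib.Helper6.PermChain.fixL Cfsg.M24 [x] := by
    rintro _ ⟨h, _, rfl⟩
    rw [Cfsg.Agent.Lib.Helper6.PermChain.mem_fixL]
    refine ⟨(h : Cfsg.M24).2, ?_⟩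
    intro p hp
    simp only [List.mem_cons, List.not_mem_nil, or_false] at hp
    subst hp
    exact h.2
  have hScard : Nat.card (MulAction.stabilizer Cfsg.M24 x) = 10200960 := by
    have e : (MulAction.stabilizer Cfsg.M24 x).map Cfsg.M24.subtype = Cfsg.Agent.Lib.Helper6.PermChain.fixL Cfsg.M24 [x] := by
      ext g
      rw [Cfsg.Agent.Lib.Helper6.PermChain.mem_fixL]
      constructor
      · rintro ⟨h, hh, rfl⟩
        refine ⟨h.2, ?_⟩
        intro p hp
        simp only [List.mem_cons, List.not_mem_nil, or_false] at hp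
        subst hp
        exact hh
      · rintro ⟨hg, hfix⟩
        exact ⟨⟨g, hg⟩, hfix x (by simp), rfl⟩
    rw [← Subgroup.card_map_of_injective Cfsg.M24.subtype_injective, e]
    exact Cfsg.Agent.Lib.Helper6.Golay.card_fixL_single x
  have hKcard : Nat.card K = 40320 := by
    rw [hK, Subgroup.card_map_of_injective hφ]
    have := Subgroup.card_mul_index H
    rw [hH, hScard] at this
    omega
  have hmem : ∀ h : ↥(MulAction.stabilizer Cfsg.M24 x), h ∈ H ↔ φ h ∈ K := fun h => (Subgroup.mem_map_iff_mem hφ).symm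
  rcases Cfsg.Agent.Lib.Helper8.M23Idx.main_perm x K hKle hKcard with ⟨s, hs2, hxs, hKs⟩ | ⟨o, ho, hxo, hKo⟩
  · left
    refine ⟨s, hs2, hxs, ?_⟩
    ext h
    rw [Subgroup.mem_subgroupOf, MulAction.mem_stabilizer_iff, hmem h, hKs]
    constructor
    · rintro ⟨_, _, h3⟩
      exact h3
    · intro h3
      exact ⟨(h : Cfsg.M24).2, h.2, h3⟩
  · right
    refine ⟨o, ho, hxo, ?_⟩
    ext h
    rw [Subgroup.mem_subgroupOf, MulAction.mem_stabilizer_iff, hmem h, hKo]
    constructor
    · rintro ⟨_, _, h3⟩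
      exact h3
    · intro h3
      exact ⟨(h : Cfsg.M24).2, h.2, h3⟩

end Cfsg.Agent.S1609
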