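import Mathlib
import Cfsg.Statements.S1610
import Cfsg.Agent.Lib.Helper8.Hexacode

set_option autoImplicit false
open Cfsg

namespace Cfsg.Agent.S1610

open Cfsg.Agent.Lib.Helper8.Hexacode

/-- weight of a concrete word -/
def wt4 (y : Fin 6 → F4) : ℕ := (Finset.univ.filter fun i => y i ≠ 0).card

theorem C1 : ∀ t, word t ≠ 0 → wt4 (word t) = 4 ∨ wt4 (word t) = 6 := by decide +kernel

theorem C2 : (Finset.univ.filter (fun t : F4 × F4 × F4 => wt4 (word t) = 4)).card = 45 := by
  decide +kernel

theorem C3 : (Finset.univ.filter (fun t : F4 × F4 × F4 => wt4 (word t) = 6)).card = 18 := by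
  decide +kernel

/-- Over the field with 4 elements, the hexacode has 64 words; every non-zero word has weight 4 or 6, with 45 words of weight 4 and 18 words of weight 6. -/
theorem result (F : Type*) [Field F] [Fintype F] [DecidableEq F] (hF : Fintype.card F = 4) (ω : F) (hω : ω ^ 2 + ω + 1 = 0) : Nat.card ↥(Cfsg.hexacode F ω) = 64 ∧ (∀ x ∈ Cfsg.hexacode F ω, x ≠ 0 → (Finset.univ.filter fun i => x i ≠ 0).card = 4 ∨ (Finset.univ.filter fun i => x i ≠ 0).card = 6) ∧ {x : Fin 6 → F | x ∈ Cfsg.hexacode F ω ∧ (Finset.univ.filter fun i => x i ≠ 0).card = 4}.ncard = 45 ∧ {x : Fin 6 → F | x ∈ Cfsg.hexacode F ω ∧ (Finset.univ.filter fun i => x i ≠ 0).card = 6}.ncard = 18 := by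
  obtain ⟨e, he⟩ := exists_iso F hF ω hω
  let W : F4 × F4 × F4 → (Fin 6 → F) := fun t i => e.symm (word t i)
  have hWinj : Function.Injective W := by
    intro t t' h
    apply word_injective
    funext i
    exact e.symm.injective (congrFun h i)
  have hmem : ∀ x, x ∈ hexacode F ω ↔ ∃ t, W t = x := by
    intro x
    rw [← map_mem_iff e ω x, he, mem_iff_word]
    constructor
    · rintro ⟨t, ht⟩
      refine ⟨t, ?_⟩
      funext i
      show e.symm (word t i) = x i
      rw [ht, RingEquiv.symm_apply_apply]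
    · rintro ⟨t, rfl⟩
      refine ⟨t, ?_⟩
      funext i
      show word t i = e (e.symm (word t i))
      rw [RingEquiv.apply_symm_apply]
  have hwt : ∀ t, (Finset.univ.filter fun i => W t i ≠ 0).card = wt4 (word t) := by
    intro t
    unfold wt4
    congr 1
    apply Finset.filter_congr
    intro i _
    show e.symm (word t i) ≠ 0 ↔ word t i ≠ 0
    rw [Ne, Ne, map_eq_zero_iff e.symm e.symm.injective]
  have hset : ∀ k : ℕ, {x : Fin 6 → F | x ∈ hexacode F ω ∧ (Finset.univ.filter fun i => x i ≠ 0).card = k}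
      = W '' (↑(Finset.univ.filter (fun t : F4 × F4 × F4 => wt4 (word t) = k)) : Set (F4 × F4 × F4)) := by
    intro k
    ext x
    simp only [Set.mem_setOf_eq, Set.mem_image, Finset.coe_filter, Finset.mem_univ, true_and]
    constructor
    · rintro ⟨hx, hk⟩
      obtain ⟨t, rfl⟩ := (hmem x).1 hx
      exact ⟨t, by rw [← hwt t]; exact hk, rfl⟩
    · rintro ⟨t, ht, rfl⟩
      exact ⟨(hmem _).2 ⟨t, rfl⟩, by rw [hwt t]; exact ht⟩
  refine ⟨?_, ?_, ?_, ?_⟩
  · have hrange : (hexacode F ω : Set (Fin 6 → F)) = Set.range W := by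
      ext x
      exact hmem x
    have : Nat.card ↥(hexacode F ω) = Nat.card (Set.range W) := by
      show Nat.card ((hexacode F ω : Set (Fin 6 → F))) = _
      rw [hrange]
    rw [this, Nat.card_range_of_injective hWinj, Nat.card_eq_fintype_card]
    rfl
  · intro x hx hx0
    obtain ⟨t, rfl⟩ := (hmem x).1 hx
    rw [hwt t]
    apply C1 t
    intro h0
    apply hx0
    funext i
    show e.symm (word t i) = 0
    rw [h0]; exact map_zero _
  · rw [hset 4, Set.ncard_image_of_injective _ hWinj, Set.ncard_coe_finset, C2]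
  · rw [hset 6, Set.ncard_image_of_injective _ hWinj, Set.ncard_coe_finset, C3]

end Cfsg.Agent.S1610
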