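import Cfsg.Statements.S1618
import Cfsg.Agent.S0215
import Cfsg.Agent.Lib.Helper5.Grp.OddTransp

set_option autoImplicit false
open Cfsg

namespace Cfsg.Agent.S1618

/-- A group generated by a class of involutions whose pairwise products (of distinct members) have p-power order for a fixed odd prime p has nilpotent derived subgroup. -/
theorem result {G : Type*} [Group G] [Finite G] (p : ℕ) (hp : p.Prime) (hodd : p ≠ 2) {D : Set G} (hinv : ∀ d ∈ D, orderOf d = 2) (hconj : ∃ d ∈ D, D = conjugatesOf d) (hgen : Subgroup.closure D = ⊤) (hprod : ∀ x ∈ D, ∀ y ∈ D, x ≠ y → ∃ k : ℕ, orderOf (x * y) = p ^ k) : Group.IsNilpotent ↥(commutator G) := by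
  classical
  obtain ⟨d, hdD, hDeq⟩ := hconj
  have hd2 : orderOf d = 2 := hinv d hdD
  have hd : d * d = 1 := by rw [← pow_two, ← hd2, pow_orderOf_eq_one]
  have hd' : d⁻¹ = d := inv_eq_of_mul_eq_one_right hd
  have : Fact (Nat.Prime 2) := ⟨Nat.prime_two⟩
  have : Fact p.Prime := ⟨hp⟩
  -- a Sylow 2-subgroup containing d
  have hz2 : IsPGroup 2 ↥(Subgroup.zpowers d) := by
    apply IsPGroup.of_card (n := 1)
    rw [Nat.card_zpowers, hd2, pow_one]
  obtain ⟨P, hP⟩ := hz2.exists_le_sylow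
  have hdP : d ∈ P := hP (Subgroup.mem_zpowers d)
  -- isolation
  have hiso : ∀ g : G, g * d * g⁻¹ ∈ P → g * d * g⁻¹ = d := by
    intro g hg
    by_contra hne
    have hgD : g * d * g⁻¹ ∈ D := by
      rw [hDeq, Cfsg.Agent.Lib.Helper5.OddTr.mem_conj_iff]; exact ⟨g, rfl⟩
    obtain ⟨k, hk⟩ := hprod d hdD (g * d * g⁻¹) hgD (fun h => hne h.symm)
    have hmem : d * (g * d * g⁻¹) ∈ (P : Subgroup G) := Subgroup.mul_mem _ hdP hg
    obtain ⟨j, hj⟩ := (IsPGroup.iff_orderOf.mp P.isPGroup') ⟨d * (g * d * g⁻¹), hmem⟩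
    rw [Subgroup.orderOf_mk, hk] at hj
    have hk0 : k = 0 := by
      by_contra hk0
      have h1 : p ∣ 2 ^ j := by rw [← hj]; exact dvd_pow_self p hk0
      have h2 := (Nat.prime_dvd_prime_iff_eq hp Nat.prime_two).1 (hp.dvd_of_dvd_pow h1)
      exact hodd h2
    rw [hk0, pow_zero, orderOf_eq_one_iff] at hk
    apply hne
    have : g * d * g⁻¹ = d⁻¹ := (inv_eq_of_mul_eq_one_right hk).symm
    rw [this, hd']
  obtain ⟨N, hNn, hNodd, hN⟩ := Cfsg.Agent.S0215.result P d hd2 hdP hiso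
  obtain ⟨S, hS, hle⟩ := Cfsg.Agent.Lib.Helper5.OddTr.commutator_le_pgroup p hp d hDeq hd2 hprod hgen
    N hNn hNodd hN
  have hpg : IsPGroup p ↥(commutator G) := hS.to_le hle
  exact hpg.isNilpotent

end Cfsg.Agent.S1618
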