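import Cfsg.Statements.S1620
import Cfsg.Agent.Lib.Helper5.J2Iso
import Cfsg.Agent.Lib.Helper7.J2Perm
import Cfsg.Agent.Lib.Helper8.J2Simp
-- import your own Cfsg.Agent.* helpers here

set_option autoImplicit false
open Quaternion
open Cfsg

namespace Cfsg.Agent.S1620

/-- The Hall–Janko group is simple and non-abelian. -/
theorem result : IsSimpleGroup Cfsg.Spor.J2 ∧ ∃ a b : Cfsg.Spor.J2, a * b ≠ b * a :=
  Cfsg.Agent.Lib.Helper5.J2Iso.S1620_of
    (Cfsg.Agent.Lib.Helper8.J2Simp.simple_PJ2 Cfsg.Agent.Lib.Helper7.J2Perm.card_PJ2)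

end Cfsg.Agent.S1620
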