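import Mathlib
import Cfsg.Statements.S2644
import Cfsg.Agent.Lib.Helper8.SUConjB

set_option autoImplicit false
open Cfsg

namespace Cfsg.Agent.S2644

open Matrix Cfsg.Agent.S5631 Cfsg.Agent.S5643 Cfsg.Agent.Lib.Helper8.Unitary
  Cfsg.Agent.Lib.Helper8.SUGen Cfsg.Agent.Lib.Helper8.SUMax Cfsg.Agent.Lib.Helper8.SUConj
  Cfsg.Agent.Lib.Helper5.Herm Cfsg.Agent.S0781

/-- In the special unitary group SU_n(q) with n ≥ 3 (isometries of Σ u_i v_i^q of determinant one over the field with q² elements), any two transvections (elements t with t − 1 of rank one and square zero) are conjugate. -/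
theorem result {K : Type*} [Field K] [Fintype K] {q n : ℕ} (hK : Fintype.card K = q ^ 2) (hn : 3 ≤ n) (s t : ↥(Cfsg.SU n K q)) (hs : Cfsg.IsTransvection (((s : GL (Fin n) K) : Matrix (Fin n) (Fin n) K))) (ht : Cfsg.IsTransvection (((t : GL (Fin n) K) : Matrix (Fin n) (Fin n) K))) : IsConj s t := by
  have hf := herm_unitary hK n
  have hs' : Cfsg.IsTransvection ((phi n s : GL (Fin n) K) : Matrix (Fin n) (Fin n) K) := hs
  have ht' : Cfsg.IsTransvection ((phi n t : GL (Fin n) K) : Matrix (Fin n) (Fin n) K) := ht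
  obtain ⟨u, hu, z, hu0, hz0, hz, es⟩ :=
    transvection_form hf (phi n s) (SUf_iso _ (phi_mem n s)) hs'.1 hs'.2
  obtain ⟨u', hu', z', hu'0, hz'0, hz', et⟩ :=
    transvection_form hf (phi n t) (SUf_iso _ (phi_mem n t)) ht'.1 ht'.2
  obtain ⟨g, hg, e⟩ := conj_ut_any hf hn u u' hu hu' hu0 hu'0 z z' hz0 hz'0 hz hz'
  obtain ⟨c, rfl⟩ := exists_lift n g hg
  rw [isConj_iff]
  refine ⟨c, ?_⟩
  apply phi_injective n
  rw [map_mul, map_mul, map_inv, es, et, e]

end Cfsg.Agent.S2644
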