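import Mathlib
import Cfsg.Statements.S1631
import Cfsg.Agent.Lib.Helper8.SUConjC
import Cfsg.Agent.S2644

set_option autoImplicit false
open scoped MatrixGroups
open Cfsg

namespace Cfsg.Agent.S1631


section Part0

open Matrix Cfsg.Agent.S5631 Cfsg.Agent.S5643 Cfsg.Agent.Lib.Helper8.Unitary
  Cfsg.Agent.Lib.Helper8.SUGen Cfsg.Agent.Lib.Helper8.SUMax Cfsg.Agent.Lib.Helper8.SUConj
  Cfsg.Agent.Lib.Helper5.Herm Cfsg.Agent.S0781 Cfsg.Agent.S0283

section Four

variable {F : Type} [Field F] [Fintype F] (hF4 : Fintype.card F = 4)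
include hF4

lemma two_eq_zero : (2 : F) = 0 := by
  have h := Nat.cast_card_eq_zero F
  rw [hF4] at h
  have h4 : (2 : F) * 2 = 0 := by
    have : ((4 : ℕ) : F) = 2 * 2 := by norm_num
    rw [← this]; exact h
  exact mul_self_eq_zero.1 h4

lemma cube_eq_one (e : F) (he : e ≠ 0) : e ^ 3 = 1 := by
  have := FiniteField.pow_card_sub_one_eq_one e he
  rwa [hF4] at this

lemma card_sq : Fintype.card F = 2 ^ 2 := by rw [hF4]; norm_num

/-- nonzero trace-zero elements are `1` -/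
lemma tr_zero_eq_one (z : F) (hz0 : z ≠ 0) (hz : z + (frobEquiv (card_sq hF4)) z = 0) : z = 1 := by
  rw [frobEquiv_apply] at hz
  have h1 : z * (1 + z) = 0 := by linear_combination hz
  rcases mul_eq_zero.1 h1 with h | h
  · exact absurd h hz0
  · have h2 := two_eq_zero hF4
    linear_combination h - h2

lemma one_tr_zero : (1 : F) + (frobEquiv (card_sq hF4)) 1 = 0 := by
  rw [map_one]
  linear_combination two_eq_zero hF4

end Four

variable {F : Type} [Field F] [Fintype F] (hF4 : Fintype.card F = 4) (n : ℕ)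

/-- the set of elements with `g - 1` of rank one -/
def DD : Set ↥(Cfsg.SU n F 2) :=
  {g | (((g : Matrix.SpecialLinearGroup (Fin n) F) : Matrix (Fin n) (Fin n) F) - 1).rank = 1}

include hF4 in
lemma DD_form (g : ↥(Cfsg.SU n F 2)) (hg : g ∈ DD n) :
    ∃ (u : Fin n → F) (hu : hermForm n F 2 u u = 0), u ≠ 0 ∧
      phi n g = ut (herm_unitary (card_sq hF4) n) u hu 1 := by
  have hf := herm_unitary (card_sq hF4) n
  have hrank : (((phi n g : GL (Fin n) F) : Matrix (Fin n) (Fin n) F) - 1).rank = 1 := hg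
  have hdet : (1 + (((phi n g : GL (Fin n) F) : Matrix (Fin n) (Fin n) F) - 1)).det = 1 := by
    rw [add_sub_cancel]
    exact SUf_det _ (phi_mem n g)
  have hsq := sq_zero_of_rank_one _ hrank hdet
  obtain ⟨u, hu, z, hu0, hz0, hz, e⟩ :=
    transvection_form hf (phi n g) (SUf_iso _ (phi_mem n g)) hrank hsq
  have hz1 := tr_zero_eq_one hF4 z hz0 hz
  subst hz1
  exact ⟨u, hu, hu0, e⟩

include hF4 in
lemma DD_of (u : Fin n → F) (hu : hermForm n F 2 u u = 0) (hu0 : u ≠ 0) :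
    ∃ g ∈ DD n, phi n g = ut (herm_unitary (card_sq hF4) n) u hu 1 := by
  have hf := herm_unitary (card_sq hF4) n
  obtain ⟨g, hg⟩ := exists_lift n (ut hf u hu 1) (ut_mem_SUf hf u hu 1 (one_tr_zero hF4))
  refine ⟨g, ?_, hg⟩
  show (((phi n g : GL (Fin n) F) : Matrix (Fin n) (Fin n) F) - 1).rank = 1
  rw [hg]
  exact rank_ut hf u hu hu0 1 one_ne_zero

include hF4 in
lemma ut_sq (u : Fin n → F) (hu : hermForm n F 2 u u = 0) :
    ut (herm_unitary (card_sq hF4) n) u hu 1 * ut (herm_unitary (card_sq hF4) n) u hu 1 = 1 := by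
  rw [ut_mul, ← ut_zero (herm_unitary (card_sq hF4) n) u hu]
  congr 1
  linear_combination two_eq_zero hF4

include hF4 in
lemma DD_order (g : ↥(Cfsg.SU n F 2)) (hg : g ∈ DD n) : orderOf g = 2 := by
  obtain ⟨u, hu, hu0, e⟩ := DD_form hF4 n g hg
  apply orderOf_eq_prime
  · apply phi_injective n
    rw [pow_two, map_mul, e, map_one]
    exact ut_sq hF4 n u hu
  · intro h1
    have : phi n g = 1 := by rw [h1, map_one]
    rw [e] at this
    exact ut_ne_one (herm_unitary (card_sq hF4) n) u hu hu0 1 one_ne_zero this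

include hF4 in
lemma DD_prod (g h : ↥(Cfsg.SU n F 2)) (hg : g ∈ DD n) (hh : h ∈ DD n) :
    (g * h) ^ 2 = 1 ∨ (g * h) ^ 3 = 1 := by
  have hf := herm_unitary (card_sq hF4) n
  obtain ⟨u, hu, hu0, e⟩ := DD_form hF4 n g hg
  obtain ⟨u', hu', hu'0, e'⟩ := DD_form hF4 n h hh
  have hs := ut_sq hF4 n u hu
  have hs' := ut_sq hF4 n u' hu'
  by_cases hperp : hermForm n F 2 u u' = 0
  · left
    apply phi_injective n
    rw [map_pow, map_mul, e, e', map_one, pow_two]
    have hc := ut_comm_of_perp hf u u' hu hu' hperp 1 1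
    calc ut hf u hu 1 * ut hf u' hu' 1 * (ut hf u hu 1 * ut hf u' hu' 1)
        = ut hf u hu 1 * (ut hf u' hu' 1 * ut hf u hu 1) * ut hf u' hu' 1 := by group
      _ = ut hf u hu 1 * (ut hf u hu 1 * ut hf u' hu' 1) * ut hf u' hu' 1 := by rw [hc]
      _ = (ut hf u hu 1 * ut hf u hu 1) * (ut hf u' hu' 1 * ut hf u' hu' 1) := by group
      _ = 1 := by rw [hs, hs', one_mul]
  · right
    apply phi_injective n
    rw [map_pow, map_mul, e, e', map_one]
    have hN : hermForm n F 2 u u' * (frobEquiv (card_sq hF4)) (hermForm n F 2 u u') = 1 := by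
      rw [frobEquiv_apply, ← pow_succ']
      exact cube_eq_one hF4 _ hperp
    have hb := ut_braid hf u u' hu hu' hN 1 (map_one _)
      (by linear_combination two_eq_zero hF4)
    calc (ut hf u hu 1 * ut hf u' hu' 1) ^ 3
        = (ut hf u hu 1 * ut hf u' hu' 1 * ut hf u hu 1) *
            (ut hf u' hu' 1 * ut hf u hu 1 * ut hf u' hu' 1) := by
          rw [pow_succ, pow_two]; simp only [mul_assoc]
      _ = (ut hf u' hu' 1 * ut hf u hu 1 * ut hf u' hu' 1) *
            (ut hf u' hu' 1 * ut hf u hu 1 * ut hf u' hu' 1) := by rw [hb]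
      _ = ut hf u' hu' 1 * ut hf u hu 1 * (ut hf u' hu' 1 * ut hf u' hu' 1) * ut hf u hu 1 *
            ut hf u' hu' 1 := by group
      _ = ut hf u' hu' 1 * (ut hf u hu 1 * ut hf u hu 1) * ut hf u' hu' 1 := by
          rw [hs', mul_one]; group
      _ = 1 := by rw [hs, mul_one, hs']

end Part0

section Part1

open Matrix Cfsg.Agent.S5631 Cfsg.Agent.S5643 Cfsg.Agent.Lib.Helper8.Unitary
  Cfsg.Agent.Lib.Helper8.SUGen Cfsg.Agent.Lib.Helper8.SUMax Cfsg.Agent.Lib.Helper8.SUConj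
  Cfsg.Agent.Lib.Helper5.Herm Cfsg.Agent.S0781 Cfsg.Agent.S0283

variable {F : Type} [Field F] [Fintype F] (hF4 : Fintype.card F = 4) (n : ℕ)

/-- `DD` is closed under conjugation -/
lemma DD_conj (c d : ↥(Cfsg.SU n F 2)) (hd : d ∈ DD n) : c * d * c⁻¹ ∈ DD n := by
  show (((phi n (c * d * c⁻¹) : GL (Fin n) F) : Matrix (Fin n) (Fin n) F) - 1).rank = 1
  have hd' : (((phi n d : GL (Fin n) F) : Matrix (Fin n) (Fin n) F) - 1).rank = 1 := hd
  have e : ((phi n (c * d * c⁻¹) : GL (Fin n) F) : Matrix (Fin n) (Fin n) F) - 1 =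
      ((phi n c : GL (Fin n) F) : Matrix (Fin n) (Fin n) F) *
        (((phi n d : GL (Fin n) F) : Matrix (Fin n) (Fin n) F) - 1) *
        (((phi n c)⁻¹ : GL (Fin n) F) : Matrix (Fin n) (Fin n) F) := by
    rw [map_mul, map_mul, map_inv, Units.val_mul, Units.val_mul, mul_sub, sub_mul, mul_one,
      Units.mul_inv]
  have hu1 : IsUnit ((phi n c : GL (Fin n) F) : Matrix (Fin n) (Fin n) F).det := by
    rw [SUf_det _ (phi_mem n c)]; exact isUnit_one
  have hu2 : IsUnit (((phi n c)⁻¹ : GL (Fin n) F) : Matrix (Fin n) (Fin n) F).det := by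
    rw [SUf_det _ ((SUf (hermForm n F 2)).inv_mem (phi_mem n c))]; exact isUnit_one
  rw [e, Matrix.rank_mul_eq_left_of_isUnit_det _ _ hu2,
    Matrix.rank_mul_eq_right_of_isUnit_det _ _ hu1]
  exact hd'

include hF4 in
lemma DD_isTransvection (d : ↥(Cfsg.SU n F 2)) (hd : d ∈ DD n) :
    Cfsg.IsTransvection (((d : GL (Fin n) F) : Matrix (Fin n) (Fin n) F)) := by
  have hrank : (((phi n d : GL (Fin n) F) : Matrix (Fin n) (Fin n) F) - 1).rank = 1 := hd
  have hdet : (1 + (((phi n d : GL (Fin n) F) : Matrix (Fin n) (Fin n) F) - 1)).det = 1 := by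
    rw [add_sub_cancel]
    exact SUf_det _ (phi_mem n d)
  exact ⟨hrank, sq_zero_of_rank_one _ hrank hdet⟩

include hF4 in
lemma DD_class (hn : 4 ≤ n) : ∃ d ∈ DD (F := F) n, DD n = conjugatesOf d := by
  have hf := herm_unitary (card_sq hF4) n
  obtain ⟨u, hu0, hu⟩ := exists_iso hf (by omega : 2 ≤ n)
  obtain ⟨d₀, hd₀, -⟩ := DD_of hF4 n u hu hu0
  refine ⟨d₀, hd₀, Set.ext fun d => ⟨fun hd => ?_, fun hd => ?_⟩⟩
  · exact Cfsg.Agent.S2644.result (card_sq hF4) (by omega) d₀ d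
      (DD_isTransvection hF4 n d₀ hd₀) (DD_isTransvection hF4 n d hd)
  · obtain ⟨c, hc⟩ := isConj_iff.1 hd
    rw [← hc]
    exact DD_conj n c d₀ hd₀

include hF4 in
lemma DD_closure (hn : 4 ≤ n) : Subgroup.closure (DD (F := F) n) = ⊤ := by
  have hf := herm_unitary (card_sq hF4) n
  apply eq_top_of_map n
  refine (SU_le_TT (card_sq hF4) n (by omega) (by omega)).trans ?_
  rw [TT, Subgroup.closure_le]
  rintro g ⟨u, hu, z, hz, rfl⟩
  by_cases hu0 : u = 0
  · subst hu0
    rw [ut_zero_left]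
    exact Subgroup.one_mem _
  by_cases hz0 : z = 0
  · subst hz0
    rw [ut_zero]
    exact Subgroup.one_mem _
  have hz1 := tr_zero_eq_one hF4 z hz0 hz
  subst hz1
  obtain ⟨g, hg, e⟩ := DD_of hF4 n u hu hu0
  exact ⟨g, Subgroup.subset_closure hg, e⟩

/-- The unitary transvections of SU(n, 2), n ≥ 4, form a generating conjugacy class of 3-transpositions. -/
theorem result (F : Type) [Field F] [Fintype F] [DecidableEq F] (hF : Fintype.card F = 4) (n : ℕ) (hn : 4 ≤ n) : Cfsg.IsThreeTranspositionClass {g : ↥(Cfsg.SU n F 2) | (((g : Matrix.SpecialLinearGroup (Fin n) F) : Matrix (Fin n) (Fin n) F) - 1).rank = 1} := by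
  refine ⟨⟨fun d hd => DD_order hF n d hd, fun d hd e he => DD_prod hF n d e hd he⟩,
    DD_class hF n hn, DD_closure hF n hn⟩

end Part1

end Cfsg.Agent.S1631
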