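import Cfsg.Statements.S1633
import Cfsg.Agent.Lib.Helper6.U35Co
import Cfsg.Agent.Lib.Helper8.SUTransport

set_option autoImplicit false
open Cfsg

namespace Cfsg.Agent.S1633

/-- The Higman–Sims group acts transitively on 352 vectors, a set closed under x ↦ −w − x, with vector stabiliser isomorphic to PSU(3, 5). -/
theorem result (v w : ↥Cfsg.leechLattice) (hv : Cfsg.sqNorm (v : Cfsg.GolayPt → ℤ) = 48) (hw : Cfsg.sqNorm (w : Cfsg.GolayPt → ℤ) = 48) (hvw : Cfsg.dotInt (v : Cfsg.GolayPt → ℤ) (w : Cfsg.GolayPt → ℤ) = -32) (F : Type) [Field F] [Fintype F] (hF : Fintype.card F = 25) : {x : ↥Cfsg.leechLattice | Cfsg.sqNorm (x : Cfsg.GolayPt → ℤ) = 32 ∧ Cfsg.dotInt (v : Cfsg.GolayPt → ℤ) (x : Cfsg.GolayPt → ℤ) = 16 ∧ Cfsg.dotInt (w : Cfsg.GolayPt → ℤ) (x : Cfsg.GolayPt → ℤ) = -24}.ncard = 352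 ∧ (∀ x ∈ {x : ↥Cfsg.leechLattice | Cfsg.sqNorm (x : Cfsg.GolayPt → ℤ) = 32 ∧ Cfsg.dotInt (v : Cfsg.GolayPt → ℤ) (x : Cfsg.GolayPt → ℤ) = 16 ∧ Cfsg.dotInt (w : Cfsg.GolayPt → ℤ) (x : Cfsg.GolayPt → ℤ) = -24}, -w - x ∈ {x : ↥Cfsg.leechLattice | Cfsg.sqNorm (x : Cfsg.GolayPt → ℤ) = 32 ∧ Cfsg.dotInt (v : Cfsg.GolayPt → ℤ) (x : Cfsg.GolayPt → ℤ) = 16 ∧ Cfsg.dotInt (w : Cfsg.GolayPt → ℤ) (x : Cfsg.GolayPt → ℤ) = -24}) ∧ (∀ x ∈ {x : ↥Cfsg.leechLattice | Cfsg.sqNorm (x : Cfsg.GolayPt → ℤ) = 32 ∧ Cfsg.dotInt (v : Cfsg.GolayPt → ℤ) (x : Cfsg.GolayPt → ℤ) = 16 ∧ Cfsg.dotInt (w : Cfsg.GolayPt → ℤ) (x : Cfsg.GolayPt → ℤ) = -24}, ∀ x' ∈ {x : ↥Cfsg.leechLattice | Cfsg.sqNorm (x : Cfsg.GolayPt → ℤ) = 32 ∧ Cfsg.dotInt (v : Cfsg.GolayPt → ℤ) (x : Cfsg.GolayPt → ℤ) = 16 ∧ Cfsg.dotInt (w : Cfsg.GolayPt →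 ℤ) (x : Cfsg.GolayPt → ℤ) = -24}, ∃ g : ↥Cfsg.Co0, g • v = v ∧ g • w = w ∧ g • x = x') ∧ ∀ x ∈ {x : ↥Cfsg.leechLattice | Cfsg.sqNorm (x : Cfsg.GolayPt → ℤ) = 32 ∧ Cfsg.dotInt (v : Cfsg.GolayPt → ℤ) (x : Cfsg.GolayPt → ℤ) = 16 ∧ Cfsg.dotInt (w : Cfsg.GolayPt → ℤ) (x : Cfsg.GolayPt → ℤ) = -24}, Nonempty (↥(MulAction.stabilizer ↥Cfsg.Co0 v ⊓ MulAction.stabilizer ↥Cfsg.Co0 w ⊓ MulAction.stabilizer ↥Cfsg.Co0 x) ≃* Cfsg.PSU 3 F 5) := by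
  classical
  have e25 : F ≃+* Cfsg.Agent.Lib.Helper6.F25 :=
    FiniteField.ringEquivOfCardEq (by rw [Cfsg.Agent.Lib.Helper6.F25.card, hF])
  obtain ⟨h1, h3⟩ := Cfsg.Agent.Lib.Helper6.Leech.hs352_main v w hv hw hvw
  refine ⟨h1, ?_, h3, ?_⟩
  · rintro x ⟨hx1, hx2, hx3⟩
    have e : ((-w - x : ↥Cfsg.leechLattice) : Cfsg.GolayPt → ℤ) =
        -((w : Cfsg.GolayPt → ℤ) + (x : Cfsg.GolayPt → ℤ)) := by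
      show -(w : Cfsg.GolayPt → ℤ) - (x : Cfsg.GolayPt → ℤ) = _
      abel
    refine ⟨?_, ?_, ?_⟩
    · rw [e, Cfsg.Agent.Lib.Helper6.Leech.u5_norm_neg, Cfsg.Agent.Lib.Helper6.Leech.sqNorm_add, hw, hx3, hx1]
      norm_num
    · rw [e, Cfsg.Agent.Lib.Helper6.Leech.u5_dot_neg_right,
        Cfsg.Agent.Lib.Helper6.Leech.u5_dot_add_right, hvw, hx2]
      norm_num
    · rw [e, Cfsg.Agent.Lib.Helper6.Leech.u5_dot_neg_right,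
        Cfsg.Agent.Lib.Helper6.Leech.u5_dot_add_right,
        ← Cfsg.Agent.Lib.Helper6.Leech.sqNorm_eq_dot, hw, hx3]
      norm_num
  · intro x hx
    obtain ⟨e⟩ := Cfsg.Agent.Lib.Helper6.Leech.stab_hs_triple_equiv v w x hv hw hvw hx
    exact ⟨e.trans (Cfsg.Agent.Lib.Helper6.U35Unit.isoPSU.trans
      (Cfsg.Agent.Lib.Helper8.SUTransport.psuEquiv e25 3 5).symm)⟩

end Cfsg.Agent.S1633
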