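import Cfsg.Statements.S1640
import Cfsg.Agent.Lib.Helper6.LeechCo3B

set_option autoImplicit false
open Cfsg

namespace Cfsg.Agent.S1640

/-- The stabiliser of a vector of customary norm 6 is transitive on the 11178 minimal vectors of customary inner product −2 with it. -/
theorem result (u : ↥Cfsg.leechLattice) (hu : Cfsg.sqNorm (u : Cfsg.GolayPt → ℤ) = 48) : {x : ↥Cfsg.leechLattice | Cfsg.sqNorm (x : Cfsg.GolayPt → ℤ) = 32 ∧ Cfsg.dotInt (u : Cfsg.GolayPt → ℤ) (x : Cfsg.GolayPt → ℤ) = -16}.ncard = 11178 ∧ ∀ x ∈ {x : ↥Cfsg.leechLattice | Cfsg.sqNorm (x : Cfsg.GolayPt → ℤ) = 32 ∧ Cfsg.dotInt (u : Cfsg.GolayPt → ℤ) (x : Cfsg.GolayPt → ℤ) = -16}, ∀ x' ∈ {x : ↥Cfsg.leechLattice | Cfsg.sqNorm (x : Cfsg.GolayPt → ℤ) = 32 ∧ Cfsg.dotInt (u : Cfsg.GolayPt → ℤ) (x : Cfsg.GolayPt → ℤ) = -16}, ∃ g : ↥Cfsg.Co0, g • u = u ∧ g • x = x' := by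
  refine ⟨?_, ?_⟩
  · have h := Cfsg.Agent.Lib.Helper6.Leech.census_48_neg16 Cfsg.Agent.Lib.Helper6.Leech.co0_transitive_48 u hu
    rw [← h, ← Set.ncard_image_of_injective _ Subtype.val_injective]
    congr 1
    ext x
    simp only [Set.mem_image, Set.mem_ofPred_eq, Cfsg.Agent.Lib.Helper6.Leech.census]
    constructor
    · rintro ⟨v, ⟨h1, h2⟩, rfl⟩
      exact ⟨v.2, h1, h2⟩
    · rintro ⟨h0, h1, h2⟩
      exact ⟨⟨x, h0⟩, ⟨h1, h2⟩, rfl⟩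
  · rintro x ⟨hx1, hx2⟩ x' ⟨hx1', hx2'⟩
    exact Cfsg.Agent.Lib.Helper6.Leech.co3_transitive_11178 u x x' hu hx1 hx1' hx2 hx2'

end Cfsg.Agent.S1640
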