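import Cfsg.Statements.S1691
import Mathlib

set_option autoImplicit false
open Cfsg

namespace Cfsg.Agent.S1691

open Cfsg.Spor

/-- Coxeter relation in a presented group. -/
theorem cox_rel {α : Type*} [DecidableEq α] (edges : List (α × ℕ × α)) (extra : List (FreeGroup α))
    (x y : α) (hx : x ∈ coxNodes edges) (hy : y ∈ coxNodes edges) :
    ((PresentedGroup.of x : CoxPresented α edges extra) * PresentedGroup.of y) ^ coxLabel edges x y = 1 := by
  have : (FreeGroup.of x * FreeGroup.of y) ^ coxLabel edges x y ∈ coxRelators edges ∪ {r | r ∈ extra} :=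
    Or.inl ⟨x, hx, y, hy, rfl⟩
  have h := PresentedGroup.one_of_mem this
  rw [map_pow, map_mul] at h
  exact h

/-- In a commutative group, two involutions whose product has order dividing 3 are equal. -/
theorem eq_of_cube {A : Type*} [CommGroup A] (s t : A) (hs : s ^ 2 = 1) (ht : t ^ 2 = 1)
    (h : (s * t) ^ 3 = 1) : s = t := by
  have h1 : s * t = 1 := by
    have h3 : (s * t) ^ 3 = s * t := by
      rw [mul_pow, pow_succ s 2, pow_succ t 2, hs, ht, one_mul, one_mul]
    rw [← h3]; exact h
  have h2 : s = t⁻¹ := eq_inv_of_mul_eq_one_left h1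
  rw [h2]
  exact inv_eq_of_mul_eq_one_right (by rw [← pow_two]; exact ht)

/-- The commutator subgroup of the presented group Fi₂₄ has index 2 (the presented group is Fi₂₄′:2 with Fi₂₄′ its derived subgroup). -/
theorem result : (commutator Cfsg.Spor.Fi24).index = 2 := by
  -- the parity homomorphism
  let f : Fi24.Gen → Multiplicative (ZMod 2) := fun _ => Multiplicative.ofAdd 1
  have hff : ∀ x y : Fi24.Gen, f x * f y = 1 := by
    intro x y
    show Multiplicative.ofAdd (1 : ZMod 2) * Multiplicative.ofAdd (1 : ZMod 2) = 1
    decide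
  have hf : ∀ r ∈ coxRelators Fi24.edges ∪ {r | r ∈ Fi24.extra}, FreeGroup.lift f r = 1 := by
    rintro r (⟨x, -, y, -, rfl⟩ | hr)
    · rw [map_pow, map_mul, FreeGroup.lift_apply_of, FreeGroup.lift_apply_of, hff x y, one_pow]
    · have hr' : r ∈ Fi24.extra := hr
      simp only [Fi24.extra, List.mem_cons, List.not_mem_nil, or_false] at hr'
      rcases hr' with rfl | rfl
      · simp only [map_mul, map_pow, map_inv, FreeGroup.lift_apply_of]
        show Multiplicative.ofAdd (1 : ZMod 2) * _ = 1
        decide
      · simp only [map_mul, map_pow, map_inv, FreeGroup.lift_apply_of]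
        decide
  let φ : Fi24 →* Multiplicative (ZMod 2) := PresentedGroup.toGroup hf
  let φ' : Abelianization Fi24 →* Multiplicative (ZMod 2) := Abelianization.lift φ
  -- images of generators in the abelianization
  let s : Fi24.Gen → Abelianization Fi24 := fun x => Abelianization.of (PresentedGroup.of x)
  have hnode : ∀ x : Fi24.Gen, x ∈ coxNodes Fi24.edges := by
    intro x; cases x <;> decide
  have hsq : ∀ x : Fi24.Gen, s x ^ 2 = 1 := by
    intro x
    have h := cox_rel Fi24.edges Fi24.extra x x (hnode x) (hnode x)
    have hl : coxLabel Fi24.edges x x = 1 := by simp [coxLabel]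
    rw [hl, pow_one] at h
    show (Abelianization.of (PresentedGroup.of x)) ^ 2 = 1
    rw [← map_pow, pow_two, h, map_one]
  have hadj : ∀ x y : Fi24.Gen, coxLabel Fi24.edges x y = 3 → s x = s y := by
    intro x y hl
    have h := cox_rel Fi24.edges Fi24.extra x y (hnode x) (hnode y)
    rw [hl] at h
    apply eq_of_cube _ _ (hsq x) (hsq y)
    show (Abelianization.of (PresentedGroup.of x) * Abelianization.of (PresentedGroup.of y)) ^ 3 = 1
    rw [← map_mul, ← map_pow, h, map_one]
  have e1 := hadj .l .k (by decide)
  have e2 := hadj .k .a (by decide)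
  have e3 := hadj .a .b (by decide)
  have e4 := hadj .b .c (by decide)
  have e5 := hadj .c .d (by decide)
  have e6 := hadj .d .e (by decide)
  have e7 := hadj .d .h (by decide)
  have e8 := hadj .e .f (by decide)
  have e9 := hadj .f .g (by decide)
  have e10 := hadj .g .j (by decide)
  have e11 := hadj .h .i (by decide)
  have hall : ∀ x : Fi24.Gen, s x = s .l := by
    intro x
    cases x
    · rfl
    · exact e1.symm
    · exact (e1.trans e2).symm
    · exact (e1.trans (e2.trans e3)).symm
    · exact (e1.trans (e2.trans (e3.trans e4))).symm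
    · exact (e1.trans (e2.trans (e3.trans (e4.trans e5)))).symm
    · exact (e1.trans (e2.trans (e3.trans (e4.trans (e5.trans e6))))).symm
    · exact (e1.trans (e2.trans (e3.trans (e4.trans (e5.trans (e6.trans e8)))))).symm
    · exact (e1.trans (e2.trans (e3.trans (e4.trans (e5.trans (e6.trans (e8.trans e9))))))).symm
    · exact (e1.trans (e2.trans (e3.trans (e4.trans (e5.trans (e6.trans (e8.trans (e9.trans e10)))))))).symm
    · exact (e1.trans (e2.trans (e3.trans (e4.trans (e5.trans e7))))).symm
    · exact (e1.trans (e2.trans (e3.trans (e4.trans (e5.trans (e7.trans e11)))))).symm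
  set t0 := s .l with ht0
  -- the abelianization is generated by t0
  have hgen : ∀ z : Abelianization Fi24, z ∈ Subgroup.zpowers t0 := by
    intro z
    obtain ⟨g, rfl⟩ := QuotientGroup.mk_surjective z
    have hg : g ∈ (⊤ : Subgroup Fi24) := Subgroup.mem_top g
    rw [← PresentedGroup.closure_range_of] at hg
    induction hg using Subgroup.closure_induction with
    | mem x hx =>
      obtain ⟨a, rfl⟩ := hx
      have : (QuotientGroup.mk (PresentedGroup.of a) : Abelianization Fi24) = s a := rfl
      rw [this, hall a]
      exact Subgroup.mem_zpowers t0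
    | one => exact Subgroup.one_mem _
    | mul a b _ _ ha hb => exact Subgroup.mul_mem _ ha hb
    | inv a _ ha => exact Subgroup.inv_mem _ ha
  have hcard : Nat.card (Abelianization Fi24) = orderOf t0 :=
    (orderOf_eq_card_of_forall_mem_zpowers hgen).symm
  have ht1 : t0 ≠ 1 := by
    intro h
    have h2 : φ' t0 = Multiplicative.ofAdd 1 := by
      show Abelianization.lift φ (Abelianization.of (PresentedGroup.of Fi24.Gen.l)) = _
      rw [Abelianization.lift_apply_of]
      exact PresentedGroup.toGroup.of hf
    rw [h, map_one] at h2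
    revert h2
    decide
  have hord : orderOf t0 = 2 := orderOf_eq_prime (hsq .l) ht1
  show Nat.card (Fi24 ⧸ commutator Fi24) = 2
  exact hcard.trans hord

end Cfsg.Agent.S1691
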