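import Mathlib
import Cfsg.Statements.S1717

set_option autoImplicit false
open Cfsg

namespace Cfsg.Agent.S1717


section Part0

open Matrix

abbrev M5 := Matrix (Fin 5) (Fin 5) (ZMod 2)
abbrev SL5 := Matrix.SpecialLinearGroup (Fin 5) (ZMod 2)

/-- weights defining the adapted order `0 < 2 < 3 < 4 < 1` -/
def wt : Fin 5 → ℕ := ![0, 4, 1, 2, 3]

theorem wt_le (j : Fin 5) : wt j ≤ 4 := by fin_cases j <;> simp [wt]

/-- matrices supported on the entries raising the weight by at least `k` -/
def Filt (k : ℕ) : Set M5 := {M | ∀ i j, M i j ≠ 0 → wt i + k ≤ wt j}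

theorem filt_zero (k : ℕ) : (0 : M5) ∈ Filt k := fun i j h => absurd rfl h

theorem filt_one : (1 : M5) ∈ Filt 0 := by
  intro i j h
  by_cases hij : i = j
  · subst hij; omega
  · exact absurd (Matrix.one_apply_ne hij) h

theorem filt_add {k : ℕ} {M N : M5} (hM : M ∈ Filt k) (hN : N ∈ Filt k) : M + N ∈ Filt k := by
  intro i j h
  by_cases h1 : M i j = 0
  · apply hN
    rw [Matrix.add_apply, h1, zero_add] at h
    exact h
  · exact hM i j h1

theorem filt_mul {a b : ℕ} {M N : M5} (hM : M ∈ Filt a) (hN : N ∈ Filt b) :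
    M * N ∈ Filt (a + b) := by
  intro i j h
  rw [Matrix.mul_apply] at h
  obtain ⟨l, -, hl⟩ := Finset.exists_ne_zero_of_sum_ne_zero h
  have h1 : M i l ≠ 0 := left_ne_zero_of_mul hl
  have h2 : N l j ≠ 0 := right_ne_zero_of_mul hl
  have := hM i l h1
  have := hN l j h2
  omega

theorem filt_mono {a b : ℕ} (hab : a ≤ b) {M : M5} (hM : M ∈ Filt b) : M ∈ Filt a := by
  intro i j h
  have := hM i j h
  omega

theorem filt_five {M : M5} (hM : M ∈ Filt 5) : M = 0 := by
  ext i j
  by_contra h
  have h1 := hM i j h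
  have h2 := wt_le j
  omega

theorem filt_pow {N : M5} (hN : N ∈ Filt 1) (k : ℕ) : N ^ k ∈ Filt k := by
  induction k with
  | zero => rw [pow_zero]; exact filt_one
  | succ k ih => rw [pow_succ]; exact filt_mul ih hN

/-- the unitriangular matrices for the adapted order -/
def Ucar : Set SL5 := {g | (g : M5) - 1 ∈ Filt 1}

theorem ucar_one : (1 : SL5) ∈ Ucar := by
  show ((1 : SL5) : M5) - 1 ∈ Filt 1
  rw [Matrix.SpecialLinearGroup.coe_one, sub_self]
  exact filt_zero 1

theorem ucar_mul {g h : SL5} (hg : g ∈ Ucar) (hh : h ∈ Ucar) : g * h ∈ Ucar := by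
  show ((g * h : SL5) : M5) - 1 ∈ Filt 1
  have : ((g * h : SL5) : M5) - 1 = ((g : M5) - 1) + ((h : M5) - 1) + ((g : M5) - 1) * ((h : M5) - 1) := by
    rw [Matrix.SpecialLinearGroup.coe_mul]; noncomm_ring
  rw [this]
  exact filt_add (filt_add hg hh) (filt_mono (by omega) (filt_mul hg hh))

theorem ucar_pow {g : SL5} (hg : g ∈ Ucar) (k : ℕ) : g ^ k ∈ Ucar := by
  induction k with
  | zero => rw [pow_zero]; exact ucar_one
  | succ k ih => rw [pow_succ]; exact ucar_mul ih hg

theorem ucar_pow_eight {g : SL5} (hg : g ∈ Ucar) : g ^ 8 = 1 := by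
  apply Subtype.ext
  rw [Matrix.SpecialLinearGroup.coe_pow, Matrix.SpecialLinearGroup.coe_one]
  have h1 : (g : M5) = 1 + ((g : M5) - 1) := by abel
  have h2 : ((g : M5) - 1) ^ 8 = 0 := filt_five (filt_mono (by omega) (filt_pow hg 8))
  have h3 : (1 + ((g : M5) - 1)) ^ 2 ^ 3 = 1 ^ 2 ^ 3 + ((g : M5) - 1) ^ 2 ^ 3 :=
    add_pow_char_pow_of_commute 2 3 (Commute.one_left _)
  norm_num at h3
  rw [h3, h2, add_zero]

/-- the unitriangular group for the adapted order -/
def U : Subgroup SL5 where
  carrier := Ucar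
  one_mem' := ucar_one
  mul_mem' := ucar_mul
  inv_mem' := by
    intro g hg
    have h1 : g⁻¹ = g ^ 7 := by
      rw [inv_eq_iff_mul_eq_one, ← pow_succ', ucar_pow_eight hg]
    rw [h1]
    exact ucar_pow hg 7

theorem isPGroup_U : IsPGroup 2 ↥U := by
  intro g
  refine ⟨3, ?_⟩
  apply Subtype.ext
  rw [Subgroup.coe_pow, Subgroup.coe_one]
  exact ucar_pow_eight g.2

theorem diag_of_mem {g : SL5} (hg : g ∈ Ucar) (i : Fin 5) : (g : M5) i i = 1 := by
  by_contra h
  have h1 : ((g : M5) - 1) i i ≠ 0 := by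
    rw [Matrix.sub_apply, Matrix.one_apply_eq]
    exact sub_ne_zero.mpr h
  have := hg i i h1
  omega

theorem offdiag_of_mem {g : SL5} (hg : g ∈ Ucar) {i j : Fin 5} (hij : i ≠ j)
    (hw : wt j < wt i + 1) : (g : M5) i j = 0 := by
  by_contra h
  have h1 : ((g : M5) - 1) i j ≠ 0 := by
    rw [Matrix.sub_apply, Matrix.one_apply_ne hij, sub_zero]
    exact h
  have := hg i j h1
  omega

end Part0

section Part1

open Matrix

/-- the elementary transvection `1 + E_ij` as an element of `SL₅(2)` -/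
def tv (i j : Fin 5) (hij : i ≠ j) : SL5 :=
  ⟨Matrix.transvection i j 1, Matrix.det_transvection_of_ne i j hij 1⟩

theorem tv_coe (i j : Fin 5) (hij : i ≠ j) : ((tv i j hij : SL5) : M5) = 1 + Matrix.single i j 1 := rfl

theorem tv_mem (i j : Fin 5) (hij : i ≠ j) (hw : wt i + 1 ≤ wt j) : tv i j hij ∈ U := by
  show ((tv i j hij : SL5) : M5) - 1 ∈ Filt 1
  rw [tv_coe, add_sub_cancel_left]
  intro k l h
  by_cases hkl : i = k ∧ j = l
  · obtain ⟨rfl, rfl⟩ := hkl
    exact hw
  · exact absurd (Matrix.single_apply_of_ne i j 1 k l hkl) h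

/-- every element of `U` commutes with `1 + E₀₁` -/
theorem U_le_centralizer (s : SL5) (hs : (s : M5) = Matrix.transvection 0 1 1) :
    U ≤ Subgroup.centralizer ({s} : Set SL5) := by
  intro g hg
  rw [Subgroup.mem_centralizer_iff]
  intro h hh
  rw [Set.mem_singleton_iff] at hh
  subst hh
  apply Subtype.ext
  rw [Matrix.SpecialLinearGroup.coe_mul, Matrix.SpecialLinearGroup.coe_mul, hs, Matrix.transvection,
    add_mul, mul_add, one_mul, mul_one]
  congr 1
  have hg' : g ∈ Ucar := hg
  ext k l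
  by_cases hk : k = 0
  · subst hk
    rw [Matrix.single_mul_apply_same, one_mul]
    by_cases hl : l = 1
    · subst hl
      rw [Matrix.mul_single_apply_same, mul_one, diag_of_mem hg', diag_of_mem hg']
    · rw [Matrix.mul_single_apply_of_ne _ _ _ _ _ hl]
      exact offdiag_of_mem hg' (Ne.symm hl) (by
        have := wt_le l
        have h4 : wt 1 = 4 := rfl
        omega)
  · rw [Matrix.single_mul_apply_of_ne _ _ _ _ _ hk]
    by_cases hl : l = 1
    · subst hl
      rw [Matrix.mul_single_apply_same, mul_one]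
      exact (offdiag_of_mem hg' hk (by simp [wt])).symm
    · rw [Matrix.mul_single_apply_of_ne _ _ _ _ _ hl]

/-- entries of a matrix commuting with `E_ij` -/
theorem comm_entries (g : M5) (i j : Fin 5)
    (h : Matrix.single i j (1 : ZMod 2) * g = g * Matrix.single i j 1) :
    (∀ l, l ≠ j → g j l = 0) ∧ (∀ k, k ≠ i → g k i = 0) ∧ g j j = g i i := by
  refine ⟨fun l hl => ?_, fun k hk => ?_, ?_⟩
  · have := congrFun (congrFun h i) l
    rw [Matrix.single_mul_apply_same, one_mul, Matrix.mul_single_apply_of_ne _ _ _ _ _ hl] at this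
    exact this
  · have := congrFun (congrFun h k) j
    rw [Matrix.single_mul_apply_of_ne _ _ _ _ _ hk, Matrix.mul_single_apply_same, mul_one] at this
    exact this.symm
  · have := congrFun (congrFun h i) j
    rw [Matrix.single_mul_apply_same, one_mul, Matrix.mul_single_apply_same, mul_one] at this
    exact this

theorem comm_tv (g : SL5) (i j : Fin 5) (hij : i ≠ j) (h : tv i j hij * g = g * tv i j hij) :
    Matrix.single i j (1 : ZMod 2) * (g : M5) = (g : M5) * Matrix.single i j 1 := by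
  have h1 := congrArg (fun x : SL5 => (x : M5)) h
  simp only [Matrix.SpecialLinearGroup.coe_mul, tv_coe, add_mul, mul_add, one_mul, mul_one] at h1
  exact add_left_cancel h1

/-- an element of `SL₅(2)` commuting with the six transvections is `1` or `1 + E₀₁` -/
theorem commutant (g : SL5)
    (h02 : tv 0 2 (by decide) * g = g * tv 0 2 (by decide))
    (h03 : tv 0 3 (by decide) * g = g * tv 0 3 (by decide))
    (h04 : tv 0 4 (by decide) * g = g * tv 0 4 (by decide))
    (h21 : tv 2 1 (by decide) * g = g * tv 2 1 (by decide))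
    (h31 : tv 3 1 (by decide) * g = g * tv 3 1 (by decide))
    (h41 : tv 4 1 (by decide) * g = g * tv 4 1 (by decide)) :
    (g : M5) = 1 ∨ (g : M5) = Matrix.transvection 0 1 1 := by
  obtain ⟨r2, c0, d2⟩ := comm_entries _ _ _ (comm_tv g _ _ _ h02)
  obtain ⟨r3, -, d3⟩ := comm_entries _ _ _ (comm_tv g _ _ _ h03)
  obtain ⟨r4, -, d4⟩ := comm_entries _ _ _ (comm_tv g _ _ _ h04)
  obtain ⟨r1, c2, d1⟩ := comm_entries _ _ _ (comm_tv g _ _ _ h21)
  obtain ⟨-, c3, -⟩ := comm_entries _ _ _ (comm_tv g _ _ _ h31)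
  obtain ⟨-, c4, -⟩ := comm_entries _ _ _ (comm_tv g _ _ _ h41)
  -- the diagonal entry is 1
  have hc : (g : M5) 0 0 = 1 := by
    by_contra hne
    have h0 : (g : M5) 0 0 = 0 := by
      have : ∀ x : ZMod 2, x ≠ 1 → x = 0 := by decide
      exact this _ hne
    have hdet : (g : M5).det = 0 := by
      apply Matrix.det_eq_zero_of_row_eq_zero 2
      intro l
      by_cases hl : l = 2
      · subst hl; rw [d2, h0]
      · exact r2 l hl
    rw [g.2] at hdet
    exact one_ne_zero hdet
  have e22 : (g : M5) 2 2 = 1 := by rw [d2, hc]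
  have e33 : (g : M5) 3 3 = 1 := by rw [d3, hc]
  have e44 : (g : M5) 4 4 = 1 := by rw [d4, hc]
  have e11 : (g : M5) 1 1 = 1 := by rw [d1, e22]
  have hd : (g : M5) 0 1 = 0 ∨ (g : M5) 0 1 = 1 := by
    have : ∀ x : ZMod 2, x = 0 ∨ x = 1 := by decide
    exact this _
  rcases hd with hd | hd
  · left
    ext k l
    fin_cases k <;> fin_cases l <;>
      simp [hc, e11, e22, e33, e44, hd, r1, r2, r3, r4, c0, c2, c3, c4]
  · right
    ext k l
    fin_cases k <;> fin_cases l <;>
      simp [Matrix.transvection, Matrix.single, hc, e11, e22, e33, e44, hd, r1, r2, r3, r4, c0, c2, c3, c4]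

end Part1

section Part2

open Matrix

/-- a Sylow 2-subgroup of `C(z)` whose centre is `{1, z}` is a Sylow 2-subgroup of the group -/
theorem odd_index_of_center {G : Type*} [Group G] [Finite G] (z : G) (hz : orderOf z = 2)
    (C : Subgroup G) (hCz : ∀ y, y ∈ C ↔ y * z = z * y)
    (T : Sylow 2 C)
    (hZ : ∀ y : C, y ∈ (T : Subgroup C) →
      (∀ w ∈ (T : Subgroup C), w * y = y * w) →
      y = 1 ∨ (y : G) = z) :
    ¬ 2 ∣ ((T : Subgroup C).map C.subtype).index := by
  classical
  have hz1 : z ≠ 1 := by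
    intro h
    rw [h, orderOf_one] at hz
    omega
  set P := (T : Subgroup C).map C.subtype with hPdef
  have hP : IsPGroup 2 P := T.2.map _
  have hPC : P ≤ C := by
    rintro _ ⟨t, -, rfl⟩
    exact t.2
  have hzC : ∀ y ∈ C, y * z = z * y := fun y hy => (hCz y).mp hy
  obtain ⟨S, hPS⟩ := hP.exists_le_sylow
  by_cases hPeq : P = S
  · rw [hPeq]
    exact S.not_dvd_index
  exfalso
  have hlt : P.subgroupOf S < ⊤ := by
    rw [lt_top_iff_ne_top]
    intro h
    apply hPeq
    apply le_antisymm hPS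
    intro x hx
    have : (⟨x, hx⟩ : S) ∈ P.subgroupOf S := by rw [h]; trivial
    exact this
  haveI : Group.IsNilpotent (S : Subgroup G) := (S.isPGroup').isNilpotent
  have hnc := Group.normalizerCondition_of_isNilpotent (G := (S : Subgroup G)) _ hlt
  obtain ⟨x, hxN, hxP⟩ := SetLike.exists_of_lt hnc
  rw [Subgroup.mem_normalizer_iff] at hxN
  -- conjugation by `x` preserves `P`
  have hconj : ∀ y ∈ P, (x : G) * y * (x : G)⁻¹ ∈ P := by
    intro y hy
    have := (hxN ⟨y, hPS hy⟩).mp hy
    exact this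
  have hconj' : ∀ y ∈ P, (x : G)⁻¹ * y * (x : G) ∈ P := by
    intro y hy
    have h1 : (x⁻¹ * ⟨y, hPS hy⟩ * x : S) ∈ P.subgroupOf S := by
      rw [hxN]
      have : x * (x⁻¹ * ⟨y, hPS hy⟩ * x) * x⁻¹ = ⟨y, hPS hy⟩ := by group
      rw [this]
      exact hy
    exact h1
  -- `z` lies in `P`
  have hzT : ∃ hzc : z ∈ C, (⟨z, hzc⟩ : C) ∈ (T : Subgroup C) := by
    have h2 : 2 ∣ Nat.card C := by
      have hzc : z ∈ C := (hCz z).mpr rfl
      have : orderOf (⟨z, hzc⟩ : C) = 2 := by
        rw [← hz]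
        exact Subgroup.orderOf_mk z hzc
      rw [← this]
      exact orderOf_dvd_natCard _
    haveI : Nontrivial (T : Subgroup C) := by
      rw [Subgroup.nontrivial_iff_ne_bot]
      exact T.ne_bot_of_dvd_card h2
    haveI := T.2.center_nontrivial
    obtain ⟨y, hy⟩ := exists_ne (1 : Subgroup.center (T : Subgroup C))
    have hy1 : ((y : (T : Subgroup C)) : C) ≠ 1 := by
      intro h
      apply hy
      apply Subtype.ext
      apply Subtype.ext
      exact h
    have hyc : ∀ w ∈ (T : Subgroup C), w * ((y : (T : Subgroup C)) : C) = ((y : (T : Subgroup C)) : C) * w := by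
      intro w hw
      have := Subgroup.mem_center_iff.mp y.2 ⟨w, hw⟩
      exact congrArg Subtype.val this
    rcases hZ _ (y : (T : Subgroup C)).2 hyc with h | h
    · exact absurd h hy1
    · refine ⟨h ▸ ((y : (T : Subgroup C)) : C).2, ?_⟩
      have : (⟨z, h ▸ ((y : (T : Subgroup C)) : C).2⟩ : C) = ((y : (T : Subgroup C)) : C) :=
        Subtype.ext h.symm
      rw [this]
      exact (y : (T : Subgroup C)).2
  obtain ⟨hzc, hzT'⟩ := hzT
  have hzP : z ∈ P := ⟨⟨z, hzc⟩, hzT', rfl⟩
  -- `x` centralizes `z`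
  have hw := hconj z hzP
  obtain ⟨w', hw'T, hw'⟩ := hw
  have hw'c : ∀ t ∈ (T : Subgroup C), t * w' = w' * t := by
    intro t ht
    apply Subtype.ext
    rw [Subgroup.coe_mul, Subgroup.coe_mul]
    have hw'' : (w' : G) = (x : G) * z * (x : G)⁻¹ := hw'
    rw [hw'']
    have htP : (t : G) ∈ P := ⟨t, ht, rfl⟩
    have hy := hconj' _ htP
    have hyz := hzC _ (hPC hy)
    have e1 : (t : G) = (x : G) * ((x : G)⁻¹ * t * x) * (x : G)⁻¹ := by group
    calc (t : G) * ((x : G) * z * (x : G)⁻¹)
        = (x : G) * (((x : G)⁻¹ * t * x) * z) * (x : G)⁻¹ := by group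
      _ = (x : G) * (z * ((x : G)⁻¹ * t * x)) * (x : G)⁻¹ := by rw [hyz]
      _ = (x : G) * z * (x : G)⁻¹ * t := by group
  have hxz : (x : G) * z * (x : G)⁻¹ = z := by
    rcases hZ w' hw'T hw'c with h | h
    · exfalso
      apply hz1
      have h1 : (x : G) * z * (x : G)⁻¹ = 1 := by
        have : (w' : G) = 1 := by rw [h]; rfl
        rw [← this]; exact hw'.symm
      have : z = (x : G)⁻¹ * ((x : G) * z * (x : G)⁻¹) * x := by group
      rw [this, h1]; group
    · exact hw'.symm.trans h
  have hxC : (x : G) ∈ C := by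
    rw [hCz]
    calc (x : G) * z = ((x : G) * z * (x : G)⁻¹) * x := by group
      _ = z * x := by rw [hxz]
  -- maximality of `T`
  have hQ : IsPGroup 2 ((S : Subgroup G).subgroupOf C) :=
    (S.isPGroup').comap_of_injective C.subtype C.subtype_injective
  have hTQ : (T : Subgroup C) ≤ (S : Subgroup G).subgroupOf C := by
    intro t ht
    exact hPS ⟨t, ht, rfl⟩
  have hmax := T.is_maximal' hQ hTQ
  have hxQ : (⟨(x : G), hxC⟩ : C) ∈ (S : Subgroup G).subgroupOf C := x.2
  rw [hmax] at hxQ
  apply hxP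
  exact ⟨⟨(x : G), hxC⟩, hxQ, rfl⟩

end Part2

section Part3

open Matrix

/-- an element of `C(s)` commuting with all of `U` is `1` or `s` -/
theorem commutant' (s : SL5) (hs : (s : M5) = Matrix.transvection 0 1 1)
    (g : Subgroup.centralizer ({s} : Set SL5))
    (hg : ∀ v : Subgroup.centralizer ({s} : Set SL5), (v : SL5) ∈ U → v * g = g * v) :
    g = 1 ∨ (g : SL5) = s := by
  have key : ∀ (i j : Fin 5) (hij : i ≠ j) (hw : wt i + 1 ≤ wt j),
      tv i j hij * (g : SL5) = (g : SL5) * tv i j hij := by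
    intro i j hij hw
    have hm := tv_mem i j hij hw
    have := hg ⟨tv i j hij, U_le_centralizer s hs hm⟩ hm
    exact congrArg Subtype.val this
  rcases commutant (g : SL5) (key 0 2 (by decide) (by simp [wt])) (key 0 3 (by decide) (by simp [wt]))
    (key 0 4 (by decide) (by simp [wt])) (key 2 1 (by decide) (by simp [wt]))
    (key 3 1 (by decide) (by simp [wt])) (key 4 1 (by decide) (by simp [wt])) with h | h
  · left
    apply Subtype.ext
    apply Subtype.ext
    rw [h]; rfl
  · right
    apply Subtype.ext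
    rw [h, hs]

theorem result {G : Type*} [Group G] [Finite G] (s : Matrix.SpecialLinearGroup (Fin 5) (ZMod 2)) (hs : (s : Matrix (Fin 5) (Fin 5) (ZMod 2)) = Matrix.transvection 0 1 1) (z : G) (hz : orderOf z = 2) (e : (Subgroup.centralizer ({z} : Set G)) ≃* Subgroup.centralizer ({s} : Set (Matrix.SpecialLinearGroup (Fin 5) (ZMod 2)))) (T : Sylow 2 (Subgroup.centralizer ({z} : Set G))) : ¬ 2 ∣ ((T : Subgroup (Subgroup.centralizer ({z} : Set G))).map (Subgroup.subtype (Subgroup.centralizer ({z} : Set G)))).index := by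
  classical
  have hCz : ∀ y, y ∈ Subgroup.centralizer ({z} : Set G) ↔ y * z = z * y := by
    intro y
    rw [Subgroup.mem_centralizer_iff]
    constructor
    · intro h; exact (h z rfl).symm
    · intro h w hw
      rw [Set.mem_singleton_iff.mp hw]; exact h.symm
  have hz1 : z ≠ 1 := by
    intro h
    rw [h, orderOf_one] at hz
    omega
  apply odd_index_of_center z hz _ hCz T
  intro y hyT hycomm
  -- the central element `z'`
  have hzc : z ∈ Subgroup.centralizer ({z} : Set G) := (hCz z).mpr rfl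
  have hz'comm : ∀ c : Subgroup.centralizer ({z} : Set G), c * ⟨z, hzc⟩ = ⟨z, hzc⟩ * c := by
    intro c
    apply Subtype.ext
    exact (hCz c).mp c.2
  -- `e z' = s'`
  have hez : ((e ⟨z, hzc⟩ : Subgroup.centralizer ({s} : Set SL5)) : SL5) = s := by
    have h1 : ∀ v : Subgroup.centralizer ({s} : Set SL5), (v : SL5) ∈ U →
        v * e ⟨z, hzc⟩ = e ⟨z, hzc⟩ * v := by
      intro v _
      have := hz'comm (e.symm v)
      have h2 := congrArg e this
      rw [map_mul, map_mul, e.apply_symm_apply] at h2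
      exact h2
    rcases commutant' s hs _ h1 with h | h
    · exfalso
      apply hz1
      have h3 : (⟨z, hzc⟩ : Subgroup.centralizer ({z} : Set G)) = 1 := by
        apply e.injective
        rw [h, map_one]
      exact congrArg Subtype.val h3
    · exact h
  -- the 2-group `U₁`
  set U₀ : Subgroup (Subgroup.centralizer ({s} : Set SL5)) :=
    U.subgroupOf (Subgroup.centralizer ({s} : Set SL5)) with hU₀
  have hU₀p : IsPGroup 2 U₀ :=
    isPGroup_U.comap_of_injective _ (Subgroup.subtype_injective _)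
  have hU₁p : IsPGroup 2 (U₀.comap e.toMonoidHom) :=
    hU₀p.comap_of_injective _ e.injective
  obtain ⟨T'', hU₁⟩ := hU₁p.exists_le_sylow
  obtain ⟨c, hc⟩ := MulAction.exists_smul_eq (Subgroup.centralizer ({z} : Set G)) T'' T
  have hmem : ∀ u ∈ U₀.comap e.toMonoidHom, c * u * c⁻¹ ∈ (T : Subgroup _) := by
    intro u hu
    rw [← hc, Sylow.coe_subgroup_smul]
    have := Subgroup.smul_mem_pointwise_smul u (MulAut.conj c) _ (hU₁ hu)
    rwa [MulAut.smul_def, MulAut.conj_apply] at this
  -- `c⁻¹ y c` commutes with `U₁`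
  have hy1 : ∀ v : Subgroup.centralizer ({s} : Set SL5), (v : SL5) ∈ U →
      v * e (c⁻¹ * y * c) = e (c⁻¹ * y * c) * v := by
    intro v hv
    have hu : e.symm v ∈ U₀.comap e.toMonoidHom := by
      show e (e.symm v) ∈ U₀
      rw [e.apply_symm_apply]
      exact hv
    have h1 := hycomm _ (hmem _ hu)
    have h2 : e.symm v * (c⁻¹ * y * c) = (c⁻¹ * y * c) * e.symm v := by
      have : e.symm v * (c⁻¹ * y * c) = c⁻¹ * ((c * e.symm v * c⁻¹) * y) * c := by group
      rw [this, h1]; group
    have h3 := congrArg e h2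
    rw [map_mul e (e.symm v), map_mul e _ (e.symm v), e.apply_symm_apply] at h3
    exact h3
  rcases commutant' s hs _ hy1 with h | h
  · left
    have h1 : c⁻¹ * y * c = 1 := by
      apply e.injective
      rw [h, map_one]
    have : y = c * (c⁻¹ * y * c) * c⁻¹ := by group
    rw [this, h1]; group
  · right
    have h1 : c⁻¹ * y * c = ⟨z, hzc⟩ := by
      apply e.injective
      apply Subtype.ext
      rw [h, hez]
    have h2 : y = c * (c⁻¹ * y * c) * c⁻¹ := by group
    rw [h2, h1, hz'comm c, mul_assoc, mul_inv_cancel, mul_one]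

end Part3

end Cfsg.Agent.S1717
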