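import Cfsg.Statements.S1754
import Mathlib
import Cfsg.Agent.Lib.Lead.Quasisimple

set_option autoImplicit false
open Cfsg

namespace Cfsg.Agent.S1754

/-- Let A be a standard subgroup of the finite group G (A quasisimple, C_G(A) tightly embedded of even order, A commuting elementwise with no other conjugate of itself, and N_G(A) = N_G(C_G(A))), and let t be an involution of G centralizing A. Then the centralizer of t lies in the normalizer of A; in particular A, viewed inside C_G(t), is a component of C_G(t). -/
theorem result {G : Type*} [Group G] [Finite G]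
    (A : Subgroup G) (hA : Cfsg.IsStandardSubgroup A) (t : G) (ht : orderOf t = 2) (htA : t ∈ Subgroup.centralizer (A : Set G)) :
    Subgroup.centralizer ({t} : Set G) ≤ Subgroup.normalizer (A : Set G) ∧
      Cfsg.IsComponent (A.subgroupOf (Subgroup.centralizer ({t} : Set G))) := by
  obtain ⟨hq, ⟨-, htight⟩, -, hnorm⟩ := hA
  set K := Subgroup.centralizer (A : Set G) with hK
  have ht1 : t ≠ 1 := by
    intro h; rw [h, orderOf_one] at ht; omega
  have hle : Subgroup.centralizer ({t} : Set G) ≤ Subgroup.normalizer (A : Set G) := by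
    intro c hc
    rw [hnorm]
    by_contra hcN
    have hodd := htight c hcN
    -- t lies in K ⊓ K^c
    have hmem : t ∈ K ⊓ K.map (MulAut.conj c).toMonoidHom := by
      refine Subgroup.mem_inf.mpr ⟨htA, ⟨t, htA, ?_⟩⟩
      rw [Subgroup.mem_centralizer_iff] at hc
      have := hc t rfl
      show c * t * c⁻¹ = t
      rw [← this]; group
    -- so the order of the intersection is even
    have hdvd : orderOf (⟨t, hmem⟩ : ↥(K ⊓ K.map (MulAut.conj c).toMonoidHom)) ∣
        Nat.card ↥(K ⊓ K.map (MulAut.conj c).toMonoidHom) := orderOf_dvd_natCard _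
    have : orderOf (⟨t, hmem⟩ : ↥(K ⊓ K.map (MulAut.conj c).toMonoidHom)) = 2 := by
      rw [← ht]
      exact (Subgroup.orderOf_coe (⟨t, hmem⟩ : ↥(K ⊓ K.map (MulAut.conj c).toMonoidHom))).symm
    rw [this] at hdvd
    exact (Nat.not_even_iff_odd.mpr hodd) (even_iff_two_dvd.mpr hdvd)
  have hAC : A ≤ Subgroup.centralizer ({t} : Set G) := by
    intro a ha
    rw [Subgroup.mem_centralizer_iff]
    intro x hx
    rw [Set.mem_singleton_iff] at hx
    subst hx
    rw [Subgroup.mem_centralizer_iff] at htA
    exact (htA a ha).symm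
  refine ⟨hle, ?_, ?_⟩
  · -- normal, hence subnormal
    apply Subgroup.Normal.isSubnormal
    exact (Subgroup.normal_subgroupOf_iff_le_normalizer hAC).mpr hle
  · -- quasisimple
    exact Cfsg.Agent.Lib.Lead.Quasisimple.of_mulEquiv (Subgroup.subgroupOfEquivOfLe hAC).symm hq

end Cfsg.Agent.S1754
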