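import Cfsg.Statements.S5395

set_option autoImplicit false
open Cfsg

namespace Cfsg.Agent.S5395

open scoped commutatorElement

/-- For an endomorphism `φ` with `φ x * x⁻¹` central for all `x`, the map `x ↦ φ x * x⁻¹` is a
homomorphism into the centre. -/
def lam {E : Type*} [Group E] (φ : E →* E) (h : ∀ x : E, φ x * x⁻¹ ∈ Subgroup.center E) :
    E →* Subgroup.center E where
  toFun x := ⟨φ x * x⁻¹, h x⟩
  map_one' := by
    apply Subtype.ext
    simp
  map_mul' x y := by
    apply Subtype.ext
    simp only [map_mul, mul_inv_rev, Subgroup.coe_mul]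
    have hc := Subgroup.mem_center_iff.mp (h y) (x⁻¹)
    calc φ x * φ y * (y⁻¹ * x⁻¹) = φ x * ((φ y * y⁻¹) * x⁻¹) := by group
      _ = φ x * (x⁻¹ * (φ y * y⁻¹)) := by rw [hc]
      _ = φ x * x⁻¹ * (φ y * y⁻¹) := by group

theorem lam_apply {E : Type*} [Group E] (φ : E →* E) (h : ∀ x : E, φ x * x⁻¹ ∈ Subgroup.center E)
    (x : E) : ((lam φ h x : Subgroup.center E) : E) = φ x * x⁻¹ := rfl

theorem result {E : Type*} [Group E] [Finite E] (hE : Cfsg.IsExtraspecial 2 E) (φ : E ≃* E) (hφ : ∀ x : E, φ x * x⁻¹ ∈ Subgroup.center E) : ∃ g : E, ∀ x : E, φ x = g * x * g⁻¹ := by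
  have : Fact (Nat.Prime 2) := ⟨Nat.prime_two⟩
  obtain ⟨⟨_, _, hcomm⟩, hZ2⟩ := hE
  -- inner automorphisms are trivial modulo the centre
  have hconj : ∀ g x : E, (MulAut.conj g).toMonoidHom x * x⁻¹ ∈ Subgroup.center E := by
    intro g x
    rw [← hcomm]
    have : (MulAut.conj g).toMonoidHom x * x⁻¹ = ⁅g, x⁆ := by
      simp [commutatorElement_def]
    rw [this]
    exact Subgroup.commutator_mem_commutator (Subgroup.mem_top g) (Subgroup.mem_top x)
  -- an injective hom from the centre to ℂˣ
  have hcardU : Nat.card ℤˣ = 2 := by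
    rw [Nat.card_eq_fintype_card]; rfl
  let e : Subgroup.center E ≃* ℤˣ := mulEquivOfPrimeCardEq hZ2 hcardU
  let ι : Subgroup.center E →* ℂˣ := (Units.map (Int.castRingHom ℂ : ℤ →* ℂ)).comp e.toMonoidHom
  have hι : Function.Injective ι := by
    intro a b hab
    apply e.injective
    have h1 : Units.map (Int.castRingHom ℂ : ℤ →* ℂ) (e a) = Units.map (Int.castRingHom ℂ : ℤ →* ℂ) (e b) := hab
    have h2 := congrArg Units.val h1
    simp only [Units.coe_map, MonoidHom.coe_coe, eq_intCast, Int.cast_inj] at h2
    exact Units.ext h2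
  -- the hom F : E →* (Abelianization E →* ℂˣ)
  let F : E →* (Abelianization E →* ℂˣ) :=
    { toFun := fun g => Abelianization.lift (ι.comp (lam (MulAut.conj g).toMonoidHom (hconj g)))
      map_one' := by
        apply Abelianization.hom_ext
        ext x
        simp only [MonoidHom.coe_comp, Function.comp_apply, Abelianization.lift_apply_of, MonoidHom.one_apply]
        have : lam (MulAut.conj (1 : E)).toMonoidHom (hconj 1) x = 1 := by
          apply Subtype.ext
          rw [lam_apply]
          simp
        rw [this, map_one]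
      map_mul' := by
        intro g h
        apply Abelianization.hom_ext
        ext x
        simp only [MonoidHom.coe_comp, Function.comp_apply, Abelianization.lift_apply_of, MonoidHom.mul_apply]
        have : lam (MulAut.conj (g * h)).toMonoidHom (hconj (g * h)) x =
            lam (MulAut.conj g).toMonoidHom (hconj g) x * lam (MulAut.conj h).toMonoidHom (hconj h) x := by
          apply Subtype.ext
          rw [Subgroup.coe_mul, lam_apply, lam_apply, lam_apply]
          have hc := Subgroup.mem_center_iff.mp (hconj h x) g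
          simp only [MulEquiv.toMonoidHom_eq_coe, MonoidHom.coe_coe, MulAut.conj_apply] at hc ⊢
          calc g * h * x * (g * h)⁻¹ * x⁻¹ = g * (h * x * h⁻¹ * x⁻¹) * x * g⁻¹ * x⁻¹ := by group
            _ = (h * x * h⁻¹ * x⁻¹) * g * x * g⁻¹ * x⁻¹ := by rw [hc]
            _ = g * x * g⁻¹ * x⁻¹ * (h * x * h⁻¹ * x⁻¹) := by
              have hc2 := Subgroup.mem_center_iff.mp (hconj h x) (g * x * g⁻¹ * x⁻¹)
              simp only [MulEquiv.toMonoidHom_eq_coe, MonoidHom.coe_coe, MulAut.conj_apply] at hc2
              rw [hc2]; group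
        rw [this, map_mul] }
  have hFapp : ∀ g x : E, F g (Abelianization.of x) = ι (lam (MulAut.conj g).toMonoidHom (hconj g) x) := by
    intro g x
    exact Abelianization.lift_apply_of _ x
  -- kernel of F lies in the centre
  have hker : Nat.card F.ker ≤ 2 := by
    rw [← hZ2]
    apply Nat.card_le_card_of_injective (fun g : F.ker => (⟨g.1, ?_⟩ : Subgroup.center E))
    · intro a b hab
      apply Subtype.ext
      exact congrArg (fun z : Subgroup.center E => (z : E)) hab
    · rw [Subgroup.mem_center_iff]
      intro x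
      have h1 : F g.1 = 1 := g.2
      have h2 : F g.1 (Abelianization.of x) = 1 := by rw [h1]; rfl
      rw [hFapp] at h2
      have h3 : lam (MulAut.conj g.1).toMonoidHom (hconj g.1) x = 1 := hι (by rw [h2, map_one])
      have h4 := congrArg Subtype.val h3
      rw [lam_apply] at h4
      simp only [MulEquiv.toMonoidHom_eq_coe, MonoidHom.coe_coe, MulAut.conj_apply, Subgroup.coe_one] at h4
      calc x * g.1 = (g.1 * x * (g.1)⁻¹ * x⁻¹)⁻¹ * (g.1 * x) := by group
        _ = g.1 * x := by rw [h4, inv_one, one_mul]
  -- cardinalities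
  have hne : NeZero (Monoid.exponent (Abelianization E)) := ⟨Monoid.exponent_ne_zero_of_finite⟩
  have hcardHom : Nat.card (Abelianization E →* ℂˣ) = Nat.card (Abelianization E) :=
    CommGroup.card_monoidHom_of_hasEnoughRootsOfUnity (Abelianization E) ℂ
  have hcardA : Nat.card E = Nat.card (Abelianization E) * 2 := by
    have h1 := Subgroup.card_eq_card_quotient_mul_card_subgroup (commutator E)
    have h2 : Nat.card (commutator E) = 2 := by rw [hcomm]; exact hZ2
    rw [h2] at h1
    exact h1
  have hApos : 0 < Nat.card (Abelianization E) := Nat.card_pos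
  have hsurj : Function.Surjective F := by
    apply MonoidHom.surjective_of_card_ker_le_div
    rw [hcardHom, hcardA, Nat.mul_div_cancel_left _ hApos]
    exact hker
  -- apply to φ
  obtain ⟨g, hg⟩ := hsurj (Abelianization.lift (ι.comp (lam φ.toMonoidHom hφ)))
  refine ⟨g, fun x => ?_⟩
  have h1 := congrArg (fun f => f (Abelianization.of x)) hg
  simp only [hFapp, Abelianization.lift_apply_of, MonoidHom.coe_comp, Function.comp_apply] at h1
  have h2 := congrArg (fun z : Subgroup.center E => (z : E)) (hι h1)
  simp only [lam_apply] at h2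
  simp only [MulEquiv.toMonoidHom_eq_coe, MonoidHom.coe_coe, MulAut.conj_apply] at h2
  exact (mul_right_cancel h2).symm

end Cfsg.Agent.S5395
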