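import Cfsg.Statements.S1756
import Cfsg.Agent.S5395

set_option autoImplicit false
set_option linter.style.haveILetI false
open Cfsg

namespace Cfsg.Agent.S1756

/-- conjugation by a normalizing element as an automorphism of the subgroup -/
def conjAut {G : Type*} [Group G] (Q : Subgroup G) (t : G) (ht : t ∈ Subgroup.normalizer (Q : Set G)) :
    ↥Q ≃* ↥Q where
  toFun a := ⟨t * a * t⁻¹, (Subgroup.mem_normalizer_iff.mp ht a).mp a.2⟩
  invFun a := ⟨t⁻¹ * a * t, by
    have := (Subgroup.mem_normalizer_iff.mp (Subgroup.inv_mem _ ht) a).mp a.2
    simpa using this⟩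
  left_inv a := by apply Subtype.ext; simp only; group
  right_inv a := by apply Subtype.ext; simp only; group
  map_mul' a b := by apply Subtype.ext; simp only [Subgroup.coe_mul]; group

theorem result {G : Type*} [Group G] [Finite G] (Q : Subgroup G)
    (hQ : Cfsg.IsExtraspecial 2 ↥Q) (t : G) (ht : orderOf t = 2) (htN : t ∈ Subgroup.normalizer (Q : Set G))
    (hi : (Subgroup.centralizer ({t} : Set G) ⊓ Q).relIndex Q ≤ 2) :
    t ∈ Q ⊔ Subgroup.centralizer (Q : Set G) := by
  have htt : t * t = 1 := by rw [← pow_two, ← ht]; exact pow_orderOf_eq_one t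
  have htinv : t⁻¹ = t := inv_eq_of_mul_eq_one_right htt
  have h0 : (Subgroup.centralizer ({t} : Set G) ⊓ Q).relIndex Q ≠ 0 := Subgroup.index_ne_zero_of_finite
  have hcases : (Subgroup.centralizer ({t} : Set G) ⊓ Q).relIndex Q = 1 ∨
      (Subgroup.centralizer ({t} : Set G) ⊓ Q).relIndex Q = 2 := by omega
  rcases hcases with h1 | h2
  · -- `t` centralizes `Q`
    apply Subgroup.mem_sup_right
    rw [Subgroup.relIndex_eq_one] at h1
    rw [Subgroup.mem_centralizer_iff]
    intro a ha
    have := (Subgroup.mem_inf.mp (h1 ha)).1
    rw [Subgroup.mem_centralizer_iff] at this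
    exact (this t rfl).symm
  · set φ := conjAut Q t htN with hφ
    have hφval : ∀ a : ↥Q, ((φ a : ↥Q) : G) = t * a * t⁻¹ := fun a => rfl
    set C' : Subgroup ↥Q := (Subgroup.centralizer ({t} : Set G) ⊓ Q).subgroupOf Q with hC'
    have hidx : C'.index = 2 := h2
    -- (F1)
    have hF1 : ∀ a : ↥Q, a ∈ C' ↔ φ a = a := by
      intro a
      rw [hC', Subgroup.mem_subgroupOf, Subgroup.mem_inf, Subgroup.mem_centralizer_iff]
      constructor
      · rintro ⟨h, -⟩
        apply Subtype.ext
        rw [hφval]
        have := h t rfl
        rw [this]; group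
      · intro h
        refine ⟨?_, a.2⟩
        intro x hx
        rw [Set.mem_singleton_iff.mp hx]
        have h' : t * (a : G) * t⁻¹ = a := by rw [← hφval, h]
        calc t * (a : G) = (t * a * t⁻¹) * t := by group
          _ = a * t := by rw [h']
    -- (F2)
    have hF2 : ∀ a : ↥Q, φ (φ a) = a := by
      intro a
      apply Subtype.ext
      rw [hφval, hφval, htinv]
      calc t * (t * (a : G) * t) * t = (t * t) * a * (t * t) := by group
        _ = a := by rw [htt]; group
    have hnormal : C'.Normal := Subgroup.normal_of_index_eq_two hidx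
    have hφmem : ∀ a : ↥Q, φ a * a⁻¹ ∈ Subgroup.center ↥Q := by
      intro a
      by_cases ha : a ∈ C'
      · rw [(hF1 a).mp ha, mul_inv_cancel]; exact Subgroup.one_mem _
      · set y := φ a with hy
        set c := a⁻¹ * y with hc
        have hyC : y ∉ C' := by
          intro h
          have h1 := (hF1 y).mp h
          rw [hy, hF2] at h1
          exact ha ((hF1 a).mpr h1.symm)
        have ha' : a⁻¹ ∉ C' := fun h => ha (by simpa using C'.inv_mem h)
        have hcC : c ∈ C' := by
          rw [hc, Subgroup.mul_mem_iff_of_index_two hidx]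
          exact ⟨fun h => absurd h ha', fun h => absurd h hyC⟩
        have hφc : φ c = c := (hF1 c).mp hcC
        have hyac : y = a * c := by rw [hc]; group
        -- c commutes with C'
        have hcd : ∀ d ∈ C', c * d = d * c := by
          intro d hd
          have h1 : a * d * a⁻¹ ∈ C' := hnormal.conj_mem d hd a
          have h2 := (hF1 _).mp h1
          rw [map_mul, map_mul, map_inv, (hF1 d).mp hd, ← hy, hyac] at h2
          -- a c d (a c)⁻¹ = a d a⁻¹
          have h3 : c * d * c⁻¹ = d := by
            have := congrArg (fun z => a⁻¹ * z * a) h2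
            calc c * d * c⁻¹ = a⁻¹ * (a * c * d * (a * c)⁻¹) * a := by group
              _ = a⁻¹ * (a * d * a⁻¹) * a := this
              _ = d := by group
          calc c * d = c * d * c⁻¹ * c := by group
            _ = d * c := by rw [h3]
        -- c² = 1
        have hcc : c * c = 1 := by
          have h1 : φ y = a := hF2 a
          rw [hyac, map_mul, hφc, ← hy, hyac] at h1
          calc c * c = a⁻¹ * (a * c * c) := by group
            _ = a⁻¹ * a := by rw [h1]
            _ = 1 := by group
        have hcinv : c⁻¹ = c := inv_eq_of_mul_eq_one_right hcc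
        -- c commutes with a
        have hca : c * a = a * c := by
          have h1 : a ^ 2 ∈ C' := Subgroup.sq_mem_of_index_two hidx a
          have h2 := (hF1 _).mp h1
          rw [map_pow, ← hy, hyac, pow_two, pow_two] at h2
          -- a c a c = a a
          have h3 : c * a * c = a := by
            calc c * a * c = a⁻¹ * (a * c * (a * c)) := by group
              _ = a⁻¹ * (a * a) := by rw [h2]
              _ = a := by group
          calc c * a = c * a * c * c⁻¹ := by group
            _ = a * c⁻¹ := by rw [h3]
            _ = a * c := by rw [hcinv]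
        -- c is central
        have hcen : c ∈ Subgroup.center ↥Q := by
          rw [Subgroup.mem_center_iff]
          intro b
          by_cases hb : b ∈ C'
          · exact (hcd b hb).symm
          · have hab : a⁻¹ * b ∈ C' := by
              rw [Subgroup.mul_mem_iff_of_index_two hidx]
              exact ⟨fun h => absurd h ha', fun h => absurd h hb⟩
            have h1 := hcd _ hab
            calc b * c = a * (a⁻¹ * b * c) := by group
              _ = a * (c * (a⁻¹ * b)) := by rw [h1]
              _ = (a * c) * (a⁻¹ * b) := by group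
              _ = (c * a) * (a⁻¹ * b) := by rw [hca]
              _ = c * b := by group
        have : y * a⁻¹ = c := by
          rw [hyac]
          rw [Subgroup.mem_center_iff] at hcen
          calc a * c * a⁻¹ = (a * c) * a⁻¹ := rfl
            _ = (c * a) * a⁻¹ := by rw [hca]
            _ = c := by group
        rw [this]
        exact hcen
    obtain ⟨g, hg⟩ := Cfsg.Agent.S5395.result hQ φ hφmem
    have hcent : (g : G)⁻¹ * t ∈ Subgroup.centralizer (Q : Set G) := by
      rw [Subgroup.mem_centralizer_iff]
      intro x hx
      have h1 := congrArg (fun z : ↥Q => (z : G)) (hg ⟨x, hx⟩)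
      simp only [hφval, Subgroup.coe_mul, Subgroup.coe_inv] at h1
      -- t x t⁻¹ = g x g⁻¹
      calc x * ((g : G)⁻¹ * t) = (g : G)⁻¹ * ((g : G) * x * (g : G)⁻¹) * t := by group
        _ = (g : G)⁻¹ * (t * x * t⁻¹) * t := by rw [h1]
        _ = (g : G)⁻¹ * t * x := by group
    have : t = (g : G) * ((g : G)⁻¹ * t) := by group
    rw [this]
    exact Subgroup.mul_mem_sup g.2 hcent

end Cfsg.Agent.S1756
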