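import Cfsg.Statements.S1757
import Mathlib

set_option autoImplicit false
open Cfsg

namespace Cfsg.Agent.S1757

/-- Let p be a prime and A, B p-subgroups of the finite group G, each of which meets every conjugate of itself other than itself trivially. Suppose the order of A is at most that of B, A and B intersect trivially, and B normalizes A. Then A and B commute elementwise. -/
theorem result {G : Type*} [Group G] [Finite G] (p : ℕ) [Fact p.Prime] (A B : Subgroup G)
    (hA : IsPGroup p ↥A) (hB : IsPGroup p ↥B)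
    (hAti : ∀ g : G, A.map (MulAut.conj g).toMonoidHom = A ∨ A.map (MulAut.conj g).toMonoidHom ⊓ A = ⊥)
    (hBti : ∀ g : G, B.map (MulAut.conj g).toMonoidHom = B ∨ B.map (MulAut.conj g).toMonoidHom ⊓ B = ⊥)
    (hle : Nat.card ↥A ≤ Nat.card ↥B) (hAB : A ⊓ B = ⊥) (hN : B ≤ Subgroup.normalizer (A : Set G)) : ⁅A, B⁆ = ⊥ := by
  rw [Subgroup.commutator_eq_bot_iff_le_centralizer]
  intro a ha
  by_contra hcon
  -- the centralizer of `a` in `B` is trivial
  have hmemA : ∀ b ∈ B, b * a * b⁻¹ ∈ A := by
    intro b hb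
    have := hN hb
    rw [Subgroup.mem_normalizer_iff] at this
    exact (this a).1 ha
  have hcent : ∀ b ∈ B, b * a = a * b → b = 1 := by
    intro b hb hcomm
    by_contra hb1
    apply hcon
    have hconj : B.map (MulAut.conj a).toMonoidHom = B := by
      rcases hBti a with h | h
      · exact h
      · exfalso
        apply hb1
        have : b ∈ B.map (MulAut.conj a).toMonoidHom ⊓ B := by
          refine ⟨⟨b, hb, ?_⟩, hb⟩
          simp only [MulEquiv.coe_toMonoidHom, MulAut.conj_apply]
          rw [← hcomm, mul_inv_cancel_right]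
        rw [h] at this
        exact this
    rw [Subgroup.mem_centralizer_iff]
    intro b' hb'
    -- a b' a⁻¹ b'⁻¹ ∈ A ⊓ B
    have h1 : a * b' * a⁻¹ ∈ B := by
      rw [← hconj]
      exact ⟨b', hb', by simp⟩
    have h2 : a * b' * a⁻¹ * b'⁻¹ ∈ A ⊓ B := by
      refine ⟨?_, B.mul_mem h1 (B.inv_mem hb')⟩
      have : a * b' * a⁻¹ * b'⁻¹ = a * (b' * a * b'⁻¹)⁻¹ := by group
      rw [this]
      exact A.mul_mem ha (A.inv_mem (hmemA b' hb'))
    rw [hAB, Subgroup.mem_bot] at h2
    have : a * b' * a⁻¹ = b' := by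
      rw [mul_inv_eq_one] at h2
      exact h2
    rw [mul_inv_eq_iff_eq_mul] at this
    exact this.symm
  have ha1 : a ≠ 1 := by
    rintro rfl
    exact hcon (Subgroup.one_mem _)
  let f : ↥B → ↥A := fun b => ⟨b * a * (b : G)⁻¹, hmemA b b.2⟩
  have hinj : Function.Injective f := by
    intro b b' hbb'
    have h : (b : G) * a * (b : G)⁻¹ = b' * a * (b' : G)⁻¹ := congrArg Subtype.val hbb'
    have h3 := hcent ((b' : G)⁻¹ * b) (B.mul_mem (B.inv_mem b'.2) b.2) ?_
    · ext
      rw [inv_mul_eq_one] at h3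
      exact h3.symm
    · have : a = (b : G)⁻¹ * (b' * a * (b' : G)⁻¹) * b := by rw [← h]; group
      calc (b' : G)⁻¹ * b * a = (b' : G)⁻¹ * b * ((b : G)⁻¹ * (b' * a * (b' : G)⁻¹) * b) := by rw [← this]
        _ = a * ((b' : G)⁻¹ * b) := by group
  have hnsurj : ¬ Function.Surjective f := by
    intro hs
    obtain ⟨b, hb⟩ := hs 1
    have h : (b : G) * a * (b : G)⁻¹ = 1 := congrArg Subtype.val hb
    apply ha1
    have : a = (b : G)⁻¹ * ((b : G) * a * (b : G)⁻¹) * b := by group
    rw [this, h]
    group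
  haveI : Fintype ↥A := Fintype.ofFinite _
  haveI : Fintype ↥B := Fintype.ofFinite _
  have := Fintype.card_lt_of_injective_not_surjective f hinj hnsurj
  rw [← Nat.card_eq_fintype_card, ← Nat.card_eq_fintype_card] at this
  omega

end Cfsg.Agent.S1757
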