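import Cfsg.Statements.S1774
import Cfsg.Agent.Lib.Lead.SympAbs
import Cfsg.Agent.Lib.Lead.SympCore
import Cfsg.Agent.H2.Layer

set_option autoImplicit false
open Cfsg

namespace Cfsg.Agent.S1774

open Cfsg.Agent.Lib.Lead in
/-- The hypotheses give the interface `Core`. -/
theorem core_of_hyp {G : Type*} [Group G] [Finite G] (z : G) (hzz : z * z = 1) (hz1 : z ≠ 1)
    (C : Subgroup G) (hC : ∀ c, c ∈ C ↔ c * z = z * c)
    (hQ : Cfsg.IsOfSymplecticType ↥(Cfsg.generalizedFittingSubgroup ↥C))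
    (h4 : ∀ q ∈ (Cfsg.generalizedFittingSubgroup ↥C).map C.subtype, q ^ 4 = 1) :
    SympCore.Core z ((Cfsg.generalizedFittingSubgroup ↥C).map C.subtype) := by
  have : Fact (Nat.Prime 2) := ⟨Nat.prime_two⟩
  obtain ⟨F, hF⟩ : ∃ F : Subgroup ↥C, F = Cfsg.generalizedFittingSubgroup ↥C := ⟨_, rfl⟩
  rw [← hF] at hQ h4 ⊢
  have hFn : F.Normal := by rw [hF]; infer_instance
  have hFc : Subgroup.centralizer (F : Set ↥C) ≤ F := by
    rw [hF]; exact Cfsg.Agent.H2.centralizer_generalizedFittingSubgroup_le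
  have hFfit : Cfsg.fittingSubgroup ↥C ≤ F := by
    rw [hF]; exact Cfsg.Agent.H2.fittingSubgroup_le_generalizedFittingSubgroup
  have hmemQ : ∀ q : G, q ∈ F.map C.subtype ↔ ∃ hq : q ∈ C, (⟨q, hq⟩ : ↥C) ∈ F := by
    intro q
    constructor
    · rintro ⟨f, hf, rfl⟩
      exact ⟨f.2, hf⟩
    · rintro ⟨hq, hf⟩
      exact ⟨⟨q, hq⟩, hf, rfl⟩
  have h4T : ∀ t : ↥F, t ^ 4 = 1 := by
    intro t
    have := h4 (t.1.1) ⟨t.1, t.2, rfl⟩
    apply Subtype.ext
    apply Subtype.ext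
    simpa using this
  have hnil : Group.IsNilpotent ↥F := hQ.1.isNilpotent
  have cyc := hQ.2
  -- `z` in `F`
  have hzC : z ∈ C := (hC z).mpr rfl
  have hzF : (⟨z, hzC⟩ : ↥C) ∈ F := by
    apply hFc
    rw [Subgroup.mem_centralizer_iff]
    intro f _
    apply Subtype.ext
    exact (hC f.1).mp f.2
  have hzcen : ∀ t : ↥F, t * ⟨⟨z, hzC⟩, hzF⟩ = ⟨⟨z, hzC⟩, hzF⟩ * t := by
    intro t
    apply Subtype.ext
    apply Subtype.ext
    exact (hC t.1.1).mp t.1.2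
  have hzzT : (⟨⟨z, hzC⟩, hzF⟩ : ↥F) * ⟨⟨z, hzC⟩, hzF⟩ = 1 := by
    apply Subtype.ext
    apply Subtype.ext
    exact hzz
  have hz1T : (⟨⟨z, hzC⟩, hzF⟩ : ↥F) ≠ 1 := by
    intro h
    apply hz1
    have := congrArg (fun t : ↥F => (t.1.1 : G)) h
    simpa using this
  have key : ∀ w : ↥F, (∀ t : ↥F, t * w = w * t) → w * w = 1 →
      (w.1.1 : G) = 1 ∨ (w.1.1 : G) = z := by
    intro w hw hww
    rcases SympAbs.central_inv cyc w ⟨⟨z, hzC⟩, hzF⟩ hw hzcen hww hzzT hz1T with h | h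
    · left
      have := congrArg (fun t : ↥F => (t.1.1 : G)) h
      simpa using this
    · right
      have := congrArg (fun t : ↥F => (t.1.1 : G)) h
      simpa using this
  refine ⟨hzz, hz1, (hmemQ z).mpr ⟨hzC, hzF⟩, ?_, hQ.1.map _, ?_, ?_, ?_, ?_, ?_, ?_⟩
  · -- cent
    intro q hq
    obtain ⟨hqC, -⟩ := (hmemQ q).mp hq
    exact (hC q).mp hqC
  · -- norm
    intro c hc q hq
    obtain ⟨hqC, hqF⟩ := (hmemQ q).mp hq
    have hcC : c ∈ C := (hC c).mpr hc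
    rw [hmemQ]
    refine ⟨C.mul_mem (C.mul_mem hcC hqC) (C.inv_mem hcC), ?_⟩
    have := hFn.conj_mem ⟨q, hqC⟩ hqF ⟨c, hcC⟩
    exact this
  · -- selfc
    intro c hc hcq
    have hcC : c ∈ C := (hC c).mpr hc
    rw [hmemQ]
    refine ⟨hcC, ?_⟩
    apply hFc
    rw [Subgroup.mem_centralizer_iff]
    intro f hf
    apply Subtype.ext
    exact (hcq f.1 ((hmemQ f.1).mpr ⟨f.2, hf⟩)).symm
  · -- max
    intro M hMz hM2 hMn
    have hM'n : (M.subgroupOf C).Normal := by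
      refine ⟨fun n hn g => ?_⟩
      rw [Subgroup.mem_subgroupOf] at hn ⊢
      exact hMn g.1 ((hC g.1).mp g.2) n.1 hn
    have hM'2 : IsPGroup 2 ↥(M.subgroupOf C) := hM2.comap_subtype
    have hM'nil : Group.IsNilpotent ↥(M.subgroupOf C) := hM'2.isNilpotent
    have hle : M.subgroupOf C ≤ Cfsg.fittingSubgroup ↥C := le_sSup ⟨hM'n, hM'nil⟩
    intro m hm
    have hmC : m ∈ C := (hC m).mpr (hMz m hm)
    rw [hmemQ]
    refine ⟨hmC, hFfit (hle ?_)⟩
    rw [Subgroup.mem_subgroupOf]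
    exact hm
  · -- comm
    intro x hx y hy
    obtain ⟨hxC, hxF⟩ := (hmemQ x).mp hx
    obtain ⟨hyC, hyF⟩ := (hmemQ y).mp hy
    have := key ((⟨⟨x, hxC⟩, hxF⟩ : ↥F) * ⟨⟨y, hyC⟩, hyF⟩ * (⟨⟨x, hxC⟩, hxF⟩ : ↥F)⁻¹ *
      (⟨⟨y, hyC⟩, hyF⟩ : ↥F)⁻¹)
      (fun t => SympAbs.comm_central hnil h4T cyc _ _ t) (SympAbs.comm_sq hnil h4T cyc _ _)
    simpa using this
  · -- sq
    intro x hx
    obtain ⟨hxC, hxF⟩ := (hmemQ x).mp hx
    have h1 : ((⟨⟨x, hxC⟩, hxF⟩ : ↥F) * ⟨⟨x, hxC⟩, hxF⟩) * (⟨⟨x, hxC⟩, hxF⟩ * ⟨⟨x, hxC⟩, hxF⟩) = 1 := by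
      have := h4T ⟨⟨x, hxC⟩, hxF⟩
      rw [← this]; simp [pow_succ, mul_assoc]
    have := key ((⟨⟨x, hxC⟩, hxF⟩ : ↥F) * ⟨⟨x, hxC⟩, hxF⟩)
      (fun t => SympAbs.sq_central hnil h4T cyc _ t) h1
    simpa using this
  · -- cinv
    intro ι hι hcen hsq
    obtain ⟨hιC, hιF⟩ := (hmemQ ι).mp hι
    have h1 : ∀ t : ↥F, t * (⟨⟨ι, hιC⟩, hιF⟩ : ↥F) = ⟨⟨ι, hιC⟩, hιF⟩ * t := by
      intro t
      apply Subtype.ext
      apply Subtype.ext
      exact (hcen t.1.1 ((hmemQ t.1.1).mpr ⟨t.1.2, t.2⟩)).symm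
    have h2 : (⟨⟨ι, hιC⟩, hιF⟩ : ↥F) * ⟨⟨ι, hιC⟩, hιF⟩ = 1 := by
      apply Subtype.ext
      apply Subtype.ext
      exact hsq
    have := key _ h1 h2
    simpa using this

/-- Let G be a finite group and let z be an involution of G such that Q, the generalized Fitting subgroup of the centralizer C of z, is a 2-group of symplectic type (every characteristic abelian subgroup of Q is cyclic); suppose every element of Q has order dividing 4. Let g ∈ G with z' = g z g⁻¹ ≠ z and z' ∈ Q. Then z lies in the conjugate g Q g⁻¹, and the subgroup X generated by Q and g Q g⁻¹ induces every automorphism of the four-group generated by z and z': for any two distinct non-identity elements u, v of that four-group there is x ∈ X with x z x⁻¹ = u and x z' x⁻¹ = v. -/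
theorem result {G : Type*} [Group G] [Finite G] (z : G) (hz : orderOf z = 2) (hQ : Cfsg.IsOfSymplecticType ↥(Cfsg.generalizedFittingSubgroup ↥(Subgroup.centralizer ({z} : Set G))))
    (h4 : ∀ q ∈ (Cfsg.generalizedFittingSubgroup ↥(Subgroup.centralizer ({z} : Set G))).map (Subgroup.centralizer ({z} : Set G)).subtype, q ^ 4 = 1) (g : G) (hne : g * z * g⁻¹ ≠ z) (hin : g * z * g⁻¹ ∈ (Cfsg.generalizedFittingSubgroup ↥(Subgroup.centralizer ({z} : Set G))).map (Subgroup.centralizer ({z} : Set G)).subtype) :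
    z ∈ ((Cfsg.generalizedFittingSubgroup ↥(Subgroup.centralizer ({z} : Set G))).map (Subgroup.centralizer ({z} : Set G)).subtype).map (MulAut.conj g).toMonoidHom ∧
      ∀ u ∈ Subgroup.closure ({z, g * z * g⁻¹} : Set G), ∀ v ∈ Subgroup.closure ({z, g * z * g⁻¹} : Set G),
        u ≠ 1 → v ≠ 1 → u ≠ v →
          ∃ x ∈ (Cfsg.generalizedFittingSubgroup ↥(Subgroup.centralizer ({z} : Set G))).map (Subgroup.centralizer ({z} : Set G)).subtype ⊔ ((Cfsg.generalizedFittingSubgroup ↥(Subgroup.centralizer ({z} : Set G))).map (Subgroup.centralizer ({z} : Set G)).subtype).map (MulAut.conj g).toMonoidHom, x * z * x⁻¹ = u ∧ x * (g * z * g⁻¹) * x⁻¹ = v := by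
  have hzz : z * z = 1 := by
    have := pow_orderOf_eq_one z
    rw [hz, pow_two] at this
    exact this
  have hz1 : z ≠ 1 := by
    intro h
    rw [h, orderOf_one] at hz
    norm_num at hz
  have hCmem : ∀ c, c ∈ Subgroup.centralizer ({z} : Set G) ↔ c * z = z * c := by
    intro c
    rw [Subgroup.mem_centralizer_iff]
    constructor
    · intro hc; exact (hc z rfl).symm
    · intro hc x hx; rw [Set.mem_singleton_iff.mp hx]; exact hc.symm
  have hcore := core_of_hyp z hzz hz1 _ hCmem hQ h4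
  have hcz : ∀ n : G, n * z * n⁻¹ = g * z * g⁻¹ → (g⁻¹ * n) * z = z * (g⁻¹ * n) := by
    intro n hn
    calc (g⁻¹ * n) * z = g⁻¹ * (n * z * n⁻¹) * n := by group
      _ = g⁻¹ * (g * z * g⁻¹) * n := by rw [hn]
      _ = z * (g⁻¹ * n) := by group
  have hP : Cfsg.Agent.Lib.Lead.SympCore.Pair z (g * z * g⁻¹)
      ((Cfsg.generalizedFittingSubgroup ↥(Subgroup.centralizer ({z} : Set G))).map
        (Subgroup.centralizer ({z} : Set G)).subtype)
      (((Cfsg.generalizedFittingSubgroup ↥(Subgroup.centralizer ({z} : Set G))).map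
        (Subgroup.centralizer ({z} : Set G)).subtype).map (MulAut.conj g).toMonoidHom) := by
    refine ⟨hcore, hcore.map (MulAut.conj g), hin, hne, ⟨g, rfl⟩, ?_, ?_⟩
    · intro n hn q hq
      have h1 := hcore.norm (g⁻¹ * n) (hcz n hn) q hq
      refine ⟨_, h1, ?_⟩
      change g * ((g⁻¹ * n) * q * (g⁻¹ * n)⁻¹) * g⁻¹ = n * q * n⁻¹
      group
    · rintro n hn _ ⟨q, hq, rfl⟩
      have h0 : (g⁻¹ * n)⁻¹ * z = z * (g⁻¹ * n)⁻¹ :=
        (Cfsg.Agent.Lib.Lead.SympCore.commute_inv_iff _ _).mpr (hcz n hn)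
      have h1 := hcore.norm (g⁻¹ * n)⁻¹ h0 q hq
      have e : n⁻¹ * (g * q * g⁻¹) * n = (g⁻¹ * n)⁻¹ * q * (g⁻¹ * n)⁻¹⁻¹ := by group
      change n⁻¹ * (g * q * g⁻¹) * n ∈ _
      rw [e]
      exact h1
  exact hP.main

end Cfsg.Agent.S1774
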