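import Cfsg.Statements.S1780
import Mathlib

set_option autoImplicit false
open Cfsg

namespace Cfsg.Agent.S1780

theorem ring_lemma {R : Type*} [Ring R] (τ : R) (k m : ℕ) (hτ : τ ^ (2 ^ k) = 1) (h2 : (2 : R) ^ m = 0)
    (M : Type*) [AddCommGroup M] (act : R →+* AddMonoid.End M)
    (hyp : ∀ x : M, act (τ * τ - 1) x = 0 → act (τ - 1) x = 0) : ∀ x : M, act (τ - 1) x = 0 := by
  set N : R := τ - 1 with hN
  -- N is nilpotent
  have hNnil : IsNilpotent N := by
    have hc : Commute N 1 := Commute.one_right N
    obtain ⟨r, hr⟩ := hc.exists_add_pow_prime_pow_eq Nat.prime_two k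
    have e1 : N + 1 = τ := by rw [hN]; abel
    rw [e1, hτ, one_pow] at hr
    have e2 : N ^ (2 ^ k) = 2 * (-(N * r)) := by
      have h0 : N ^ 2 ^ k + 1 + ((2 : ℕ) : R) * N * 1 * r - 1 = 0 := by rw [← hr]; abel
      push_cast at h0
      have h3 : N ^ 2 ^ k = -(2 * (N * r)) := by
        have : N ^ 2 ^ k + 2 * (N * r) = 0 := by
          rw [← h0]; noncomm_ring
        exact eq_neg_of_add_eq_zero_left this
      rw [h3, mul_neg]
    refine ⟨2 ^ k * m, ?_⟩
    rw [pow_mul, e2]
    have hc2 : Commute (2 : R) (-(N * r)) := by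
      have := (Nat.cast_commute 2 (-(N * r)) : Commute ((2 : ℕ) : R) (-(N * r)))
      simpa using this
    rw [hc2.mul_pow, h2, zero_mul]
  -- f = N + 2 nilpotent, commutes with N
  have h2nil : IsNilpotent (2 : R) := ⟨m, h2⟩
  have hc2N : Commute N (2 : R) := by
    have := (Nat.cast_commute 2 N : Commute ((2 : ℕ) : R) N)
    simpa using this.symm
  have hfnil : IsNilpotent (N + 2) := Commute.isNilpotent_add hc2N hNnil h2nil
  obtain ⟨j, hj⟩ := hfnil
  have hNf : N * (N + 2) = τ * τ - 1 := by rw [hN]; noncomm_ring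
  have key : ∀ i : ℕ, i ≤ j → ∀ x : M, act (N * (N + 2) ^ (j - i)) x = 0 := by
    intro i
    induction i with
    | zero => intro _ x; simp [hj]
    | succ i ih =>
      intro hi x
      have h1 := ih (by omega) x
      have e : j - i = (j - (i + 1)) + 1 := by omega
      rw [e, pow_succ', ← mul_assoc, hNf, map_mul] at h1
      have := hyp _ h1
      rw [map_mul]
      exact this
  intro x
  have := key j le_rfl x
  simpa using this

/-- Let A be a finite abelian 2-group and t an automorphism of A whose order is a power of 2. If every element of A fixed by t² is fixed by t, then t fixes every element of A. -/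
theorem result {A : Type*} [CommGroup A] [Finite A]
    (hA : IsPGroup 2 A) (t : MulAut A) (ht : ∃ k : ℕ, orderOf t = 2 ^ k) (hC : ∀ a : A, t (t a) = a → t a = a) :
    ∀ a : A, t a = a := by
  obtain ⟨k, hk⟩ := ht
  haveI : Fact (Nat.Prime 2) := ⟨Nat.prime_two⟩
  obtain ⟨m, hm⟩ := IsPGroup.iff_card.mp hA
  let τ : AddMonoid.End (Additive A) := MonoidHom.toAdditive t.toMonoidHom
  have hτapp : ∀ x : Additive A, τ x = Additive.ofMul (t (Additive.toMul x)) := fun x => rfl
  have hpow : ∀ n : ℕ, ∀ x : Additive A, (τ ^ n) x = Additive.ofMul ((t ^ n) (Additive.toMul x)) := by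
    intro n
    induction n with
    | zero => intro x; simp
    | succ n ih =>
      intro x
      rw [pow_succ, pow_succ]
      show (τ ^ n) (τ x) = _
      rw [ih, hτapp]
      rfl
  have hτ : τ ^ (2 ^ k) = 1 := by
    ext x
    rw [hpow, ← hk, pow_orderOf_eq_one]
    rfl
  have h2 : (2 : AddMonoid.End (Additive A)) ^ m = 0 := by
    ext x
    have e : (2 : AddMonoid.End (Additive A)) ^ m = ((2 ^ m : ℕ) : AddMonoid.End (Additive A)) := by
      push_cast; rfl
    rw [e, AddMonoid.End.natCast_apply]
    show Additive.ofMul ((Additive.toMul x) ^ (2 ^ m)) = 0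
    rw [← hm, pow_card_eq_one']
    rfl
  have main := ring_lemma τ k m hτ h2 (Additive A) (RingHom.id _) (by
    intro x hx
    have hx' : τ (τ x) - x = 0 := hx
    have h1 : t (t (Additive.toMul x)) = Additive.toMul x := by
      have := sub_eq_zero.mp hx'
      exact congrArg Additive.toMul this
    have h2 := hC _ h1
    show τ x - x = 0
    rw [sub_eq_zero, hτapp, h2]
    rfl)
  intro a
  have := main (Additive.ofMul a)
  have h3 : τ (Additive.ofMul a) - Additive.ofMul a = 0 := this
  rw [sub_eq_zero] at h3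
  exact congrArg Additive.toMul h3

end Cfsg.Agent.S1780
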