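import Cfsg.Statements.S1781
import Mathlib
import Cfsg.Agent.S1780

set_option autoImplicit false
open Cfsg

namespace Cfsg.Agent.S1781

theorem mem_map_conj {G : Type*} [Group G] (H : Subgroup G) (k x : G) :
    x ∈ H.map (MulAut.conj k).toMonoidHom ↔ k⁻¹ * x * k ∈ H := by
  constructor
  · rintro ⟨t, ht, rfl⟩
    have : k⁻¹ * ((MulAut.conj k).toMonoidHom t) * k = t := by
      show k⁻¹ * (k * t * k⁻¹) * k = t
      group
    rw [this]; exact ht
  · intro h
    refine ⟨k⁻¹ * x * k, h, ?_⟩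
    show k * (k⁻¹ * x * k) * k⁻¹ = x
    group

/-- the TI property -/
def TI {G : Type*} [Group G] (A : Subgroup G) : Prop :=
  ∀ h : G, A.map (MulAut.conj h).toMonoidHom = A ∨ A.map (MulAut.conj h).toMonoidHom ⊓ A = ⊥

theorem TI_conj {G : Type*} [Group G] (A : Subgroup G) (hA : TI A) (g : G) :
    TI (A.map (MulAut.conj g).toMonoidHom) := by
  intro h
  -- (A^g)^h = A^g  iff  A^(g⁻¹ h g) = A
  have key : ∀ x : G, x ∈ (A.map (MulAut.conj g).toMonoidHom).map (MulAut.conj h).toMonoidHom ↔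
      g⁻¹ * x * g ∈ A.map (MulAut.conj (g⁻¹ * h * g)).toMonoidHom := by
    intro x
    rw [mem_map_conj, mem_map_conj, mem_map_conj]
    have : (g⁻¹ * h * g)⁻¹ * (g⁻¹ * x * g) * (g⁻¹ * h * g) = g⁻¹ * (h⁻¹ * x * h) * g := by group
    rw [this]
  rcases hA (g⁻¹ * h * g) with h1 | h1
  · left
    ext x
    rw [key, h1, mem_map_conj]
  · right
    rw [eq_bot_iff]
    intro x hx
    obtain ⟨hx1, hx2⟩ := Subgroup.mem_inf.mp hx
    rw [key] at hx1
    rw [mem_map_conj] at hx2
    have : g⁻¹ * x * g ∈ A.map (MulAut.conj (g⁻¹ * h * g)).toMonoidHom ⊓ A := Subgroup.mem_inf.mpr ⟨hx1, hx2⟩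
    rw [h1, Subgroup.mem_bot] at this
    rw [Subgroup.mem_bot]
    calc x = g * (g⁻¹ * x * g) * g⁻¹ := by group
      _ = 1 := by rw [this]; group

/-- centralizers of nonidentity elements of a TI subgroup normalize it -/
theorem cent_le_norm {G : Type*} [Group G] (A : Subgroup G) (hA : TI A) (x : G) (hx : x ∈ A) (hx1 : x ≠ 1)
    (c : G) (hc : c * x = x * c) : c ∈ Subgroup.normalizer (A : Set G) := by
  rcases hA c with h1 | h1
  · rw [Subgroup.mem_normalizer_iff]
    intro y
    conv_rhs => rw [← h1, mem_map_conj]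
    have : c⁻¹ * (c * y * c⁻¹) * c = y := by group
    rw [this]
  · exfalso
    apply hx1
    have : x ∈ A.map (MulAut.conj c).toMonoidHom ⊓ A := by
      refine Subgroup.mem_inf.mpr ⟨?_, hx⟩
      rw [mem_map_conj]
      have : c⁻¹ * x * c = x := by
        calc c⁻¹ * x * c = c⁻¹ * (x * c) := by group
          _ = c⁻¹ * (c * x) := by rw [hc]
          _ = x := by group
      rw [this]; exact hx
    rw [h1, Subgroup.mem_bot] at this
    exact this

/-- key lemma -/
theorem key {G : Type*} [Group G] [Finite G] (A B : Subgroup G) (hA2 : IsPGroup 2 ↥A)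
    (hB2 : IsPGroup 2 ↥B) (hBa : IsMulCommutative ↥B) (hAT : TI A) (hBT : TI B)
    (hAB : A ⊓ B = ⊥) (d : G) (hdA : d ∈ A) (hdN : d ∈ Subgroup.normalizer (B : Set G)) (hd2 : d ^ 2 ≠ 1) :
    B ≤ Subgroup.normalizer (A : Set G) := by
  classical
  have hd1 : d ≠ 1 := by
    intro h; apply hd2; rw [h, one_pow]
  -- elements of A ∩ N(B) and B ∩ N(A) commute
  have hcomm : ∀ a ∈ A, a ∈ Subgroup.normalizer (B : Set G) → ∀ b ∈ B, b ∈ Subgroup.normalizer (A : Set G) →
      a * b = b * a := by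
    intro a haA haN b hbB hbN
    have h1 : a * b * a⁻¹ * b⁻¹ ∈ A ⊓ B := by
      refine Subgroup.mem_inf.mpr ⟨?_, ?_⟩
      · rw [Subgroup.mem_normalizer_iff] at hbN
        have := (hbN a⁻¹).mp (A.inv_mem haA)
        have e : a * b * a⁻¹ * b⁻¹ = a * (b * a⁻¹ * b⁻¹) := by group
        rw [e]; exact A.mul_mem haA this
      · rw [Subgroup.mem_normalizer_iff] at haN
        have := (haN b).mp hbB
        exact B.mul_mem this (B.inv_mem hbB)
    rw [hAB, Subgroup.mem_bot] at h1
    calc a * b = (a * b * a⁻¹ * b⁻¹) * (b * a) := by group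
      _ = b * a := by rw [h1, one_mul]
  -- conjugation by d as an automorphism of B
  letI : CommGroup ↥B := { (inferInstance : Group ↥B) with mul_comm := fun a b => hBa.is_comm.comm a b }
  have hdN' := hdN
  rw [Subgroup.mem_normalizer_iff] at hdN'
  let t : MulAut ↥B :=
    { toFun := fun b => ⟨d * b * d⁻¹, (hdN' b).mp b.2⟩
      invFun := fun b => ⟨d⁻¹ * b * d, by
        have := (hdN' (d⁻¹ * b * d)).mpr (by
          have e : d * (d⁻¹ * (b : G) * d) * d⁻¹ = b := by group
          rw [e]; exact b.2)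
        exact this⟩
      left_inv := fun b => by apply Subtype.ext; show d⁻¹ * (d * (b : G) * d⁻¹) * d = b; group
      right_inv := fun b => by apply Subtype.ext; show d * (d⁻¹ * (b : G) * d) * d⁻¹ = b; group
      map_mul' := fun a b => by apply Subtype.ext; show d * ((a : G) * b) * d⁻¹ = (d * a * d⁻¹) * (d * b * d⁻¹); group }
  have htapp : ∀ b : ↥B, ((t b : ↥B) : G) = d * b * d⁻¹ := fun b => rfl
  have htpow : ∀ n : ℕ, ∀ b : ↥B, (((t ^ n) b : ↥B) : G) = d ^ n * b * (d ^ n)⁻¹ := by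
    intro n
    induction n with
    | zero => intro b; simp
    | succ n ih =>
      intro b
      rw [pow_succ']
      show ((t ((t ^ n) b) : ↥B) : G) = _
      rw [htapp, ih, pow_succ']
      group
  have htord : ∃ k : ℕ, orderOf t = 2 ^ k := by
    obtain ⟨j, hj⟩ := hA2 ⟨d, hdA⟩
    have hj' : d ^ (2 ^ j) = 1 := by
      have := congrArg Subtype.val hj
      simpa using this
    have : t ^ (2 ^ j) = 1 := by
      ext b
      rw [htpow, hj']
      simp
    have hdvd := orderOf_dvd_of_pow_eq_one this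
    obtain ⟨k, _, hk⟩ := (Nat.dvd_prime_pow Nat.prime_two).mp hdvd
    exact ⟨k, hk⟩
  have hC : ∀ b : ↥B, t (t b) = b → t b = b := by
    intro b hb
    have hb' : d * (d * (b : G) * d⁻¹) * d⁻¹ = b := congrArg Subtype.val hb
    -- b commutes with d^2
    have h1 : (b : G) * d ^ 2 = d ^ 2 * b := by
      calc (b : G) * d ^ 2 = (d * (d * (b : G) * d⁻¹) * d⁻¹) * d ^ 2 := by rw [hb']
        _ = d ^ 2 * b := by rw [pow_two]; group
    have hbN : (b : G) ∈ Subgroup.normalizer (A : Set G) :=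
      cent_le_norm A hAT (d ^ 2) (A.pow_mem hdA 2) hd2 b h1
    have h2 := hcomm d hdA hdN b b.2 hbN
    apply Subtype.ext
    rw [htapp, h2]
    group
  have hfix := Cfsg.Agent.S1780.result hB2 t htord hC
  intro b hb
  have h3 := hfix ⟨b, hb⟩
  have h4 : d * b * d⁻¹ = b := congrArg Subtype.val h3
  apply cent_le_norm A hAT d hdA hd1 b
  calc b * d = (d * b * d⁻¹) * d := by rw [h4]
    _ = d * b := by group

/-- Let A be an abelian 2-subgroup of the finite group G such that every conjugate of A equals A or meets A trivially, and let g ∈ G with g A g⁻¹ ≠ A. Then either the subgroup of those elements of A that normalize g A g⁻¹ is an elementary abelian 2-group, or A and g A g⁻¹ commute elementwise. -/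
theorem result {G : Type*} [Group G] [Finite G] (A : Subgroup G)
    (hA2 : IsPGroup 2 ↥A) (hAa : IsMulCommutative ↥A)
    (hti : ∀ h : G, A.map (MulAut.conj h).toMonoidHom = A ∨ A.map (MulAut.conj h).toMonoidHom ⊓ A = ⊥)
    (g : G) (hg : A.map (MulAut.conj g).toMonoidHom ≠ A) :
    Cfsg.IsElementaryAbelian 2 (A ⊓ Subgroup.normalizer ((A.map (MulAut.conj g).toMonoidHom : Subgroup G) : Set G)) ∨
      ⁅A, A.map (MulAut.conj g).toMonoidHom⁆ = ⊥ := by
  classical
  set B := A.map (MulAut.conj g).toMonoidHom with hB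
  have hAT : TI A := hti
  have hBT : TI B := TI_conj A hAT g
  have hAB : A ⊓ B = ⊥ := by
    rcases hti g with h | h
    · exact absurd h hg
    · rw [inf_comm]; exact h
  have hB2 : IsPGroup 2 ↥B := hA2.map _
  have hBa : IsMulCommutative ↥B := by
    refine ⟨⟨?_⟩⟩
    rintro ⟨x, hx⟩ ⟨y, hy⟩
    apply Subtype.ext
    obtain ⟨x', hx', rfl⟩ := hx
    obtain ⟨y', hy', rfl⟩ := hy
    have := hAa.is_comm.comm ⟨x', hx'⟩ ⟨y', hy'⟩
    have h2 : x' * y' = y' * x' := congrArg Subtype.val this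
    show (MulAut.conj g).toMonoidHom x' * (MulAut.conj g).toMonoidHom y' = (MulAut.conj g).toMonoidHom y' * (MulAut.conj g).toMonoidHom x'
    rw [← map_mul, ← map_mul, h2]
  by_cases hel : Cfsg.IsElementaryAbelian 2 (A ⊓ Subgroup.normalizer ((B : Subgroup G) : Set G))
  · left; exact hel
  · right
    -- find d in A ∩ N(B) with d^2 ≠ 1
    have hex : ∃ d ∈ A ⊓ Subgroup.normalizer ((B : Subgroup G) : Set G), d ^ 2 ≠ 1 := by
      by_contra hcon
      push Not at hcon
      apply hel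
      refine ⟨⟨⟨?_⟩⟩, hcon⟩
      rintro ⟨x, hx⟩ ⟨y, hy⟩
      apply Subtype.ext
      have := hAa.is_comm.comm ⟨x, (Subgroup.mem_inf.mp hx).1⟩ ⟨y, (Subgroup.mem_inf.mp hy).1⟩
      have h2 : x * y = y * x := congrArg Subtype.val this
      exact h2
    obtain ⟨d, hd, hd2⟩ := hex
    obtain ⟨hdA, hdN⟩ := Subgroup.mem_inf.mp hd
    have hBN : B ≤ Subgroup.normalizer (A : Set G) := key A B hA2 hB2 hBa hAT hBT hAB d hdA hdN hd2
    -- e = g d g⁻¹ ∈ B with e^2 ≠ 1
    have heB : g * d * g⁻¹ ∈ B := ⟨d, hdA, rfl⟩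
    have he2 : (g * d * g⁻¹) ^ 2 ≠ 1 := by
      intro h
      apply hd2
      rw [conj_pow] at h
      calc d ^ 2 = g⁻¹ * (g * d ^ 2 * g⁻¹) * g := by group
        _ = 1 := by rw [h]; group
    have hAN : A ≤ Subgroup.normalizer (B : Set G) :=
      key B A hB2 hA2 hAa hBT hAT (by rw [inf_comm]; exact hAB) (g * d * g⁻¹) heB (hBN heB) he2
    rw [Subgroup.commutator_eq_bot_iff_le_centralizer]
    intro a ha
    rw [Subgroup.mem_centralizer_iff]
    intro b hb
    have h1 : a * b * a⁻¹ * b⁻¹ ∈ A ⊓ B := by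
      refine Subgroup.mem_inf.mpr ⟨?_, ?_⟩
      · have hbN := hBN hb
        rw [Subgroup.mem_normalizer_iff] at hbN
        have := (hbN a⁻¹).mp (A.inv_mem ha)
        have e : a * b * a⁻¹ * b⁻¹ = a * (b * a⁻¹ * b⁻¹) := by group
        rw [e]; exact A.mul_mem ha this
      · have haN := hAN ha
        rw [Subgroup.mem_normalizer_iff] at haN
        have := (haN b).mp hb
        exact B.mul_mem this (B.inv_mem hb)
    rw [hAB, Subgroup.mem_bot] at h1
    calc b * a = (a * b * a⁻¹ * b⁻¹)⁻¹ * (a * b) := by group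
      _ = a * b := by rw [h1, inv_one, one_mul]

end Cfsg.Agent.S1781
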