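import Cfsg.Statements.S1782
import Cfsg.Agent.H1.PGroup

set_option autoImplicit false
open Cfsg

namespace Cfsg.Agent.S1782

theorem descent {S : Type*} [Group S] (hS : IsPGroup 2 S) (N : Subgroup S) (x : S) (hx : x ∉ N) :
    ∃ j : ℕ, x ^ (2 ^ j) ∉ N ∧ (x ^ (2 ^ j)) ^ 2 ∈ N := by
  classical
  have h1 : ∃ k : ℕ, x ^ (2 ^ k) ∈ N := by
    obtain ⟨k, hk⟩ := hS x
    exact ⟨k, by rw [hk]; exact N.one_mem⟩
  have hk0 : Nat.find h1 ≠ 0 := by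
    intro h0
    have := Nat.find_spec h1
    rw [h0, pow_zero, pow_one] at this
    exact hx this
  obtain ⟨j, hj⟩ := Nat.exists_eq_succ_of_ne_zero hk0
  refine ⟨j, ?_, ?_⟩
  · exact Nat.find_min h1 (by omega)
  · have := Nat.find_spec h1
    rw [hj, Nat.succ_eq_add_one, pow_succ, pow_mul] at this
    exact this

theorem exists_normal_proper {S : Type*} [Group S] [Finite S] (hS : IsPGroup 2 S) (U H : Subgroup S)
    (hUH : U ≤ H) (hne : U ≠ H) :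
    ∃ M : Subgroup S, U ≤ M ∧ M ≤ H ∧ M ≠ H ∧ ∀ h ∈ H, ∀ m ∈ M, h * m * h⁻¹ ∈ M := by
  haveI : Fact (Nat.Prime 2) := ⟨Nat.prime_two⟩
  have hU' : U.subgroupOf H ≠ ⊤ := by
    intro h
    rw [Subgroup.subgroupOf_eq_top] at h
    exact hne (le_antisymm hUH h)
  obtain ⟨M', hM', hUM'⟩ := (eq_top_or_exists_le_coatom (U.subgroupOf H)).resolve_left hU'
  have hnorm := (Cfsg.Agent.H1.coatom_normal_index_of_pgroup (hS.to_subgroup H) M' hM').1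
  refine ⟨M'.map H.subtype, ?_, Subgroup.map_subtype_le M', ?_, ?_⟩
  · intro u hu
    exact Subgroup.mem_map.mpr ⟨⟨u, hUH hu⟩, hUM' (Subgroup.mem_subgroupOf.mpr hu), rfl⟩
  · intro h
    apply hM'.1
    rw [eq_top_iff]
    intro x _
    have hx : (x : S) ∈ M'.map H.subtype := by rw [h]; exact x.2
    obtain ⟨y, hy, hyx⟩ := Subgroup.mem_map.mp hx
    have : y = x := Subtype.ext hyx
    rw [← this]; exact hy
  · intro h hh m hm
    obtain ⟨y, hy, rfl⟩ := Subgroup.mem_map.mp hm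
    exact Subgroup.mem_map.mpr ⟨⟨h, hh⟩ * y * ⟨h, hh⟩⁻¹, hnorm.conj_mem y hy ⟨h, hh⟩, rfl⟩

theorem key_identity {S : Type*} [Group S] (a b : S)
    (h1 : (b * a⁻¹ * b⁻¹) * a = a * (b * a⁻¹ * b⁻¹))
    (h2 : (a * b * a⁻¹) * b⁻¹ = b⁻¹ * (a * b * a⁻¹)) :
    a ^ 2 * b * (a ^ 2)⁻¹ * b⁻¹ = a * b ^ 2 * a⁻¹ * (b ^ 2)⁻¹ := by
  have e1 : (a * (b * a⁻¹ * b⁻¹)) ^ 2 = a ^ 2 * (b * a⁻¹ * b⁻¹) ^ 2 :=
    (show Commute a (b * a⁻¹ * b⁻¹) from h1.symm).mul_pow 2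
  have e2 : ((a * b * a⁻¹) * b⁻¹) ^ 2 = (a * b * a⁻¹) ^ 2 * (b⁻¹) ^ 2 :=
    (show Commute (a * b * a⁻¹) b⁻¹ from h2).mul_pow 2
  have e3 : a * (b * a⁻¹ * b⁻¹) = (a * b * a⁻¹) * b⁻¹ := by group
  have e4 : a ^ 2 * (b * a⁻¹ * b⁻¹) ^ 2 = a ^ 2 * b * (a ^ 2)⁻¹ * b⁻¹ := by
    simp only [pow_two]; group
  have e5 : (a * b * a⁻¹) ^ 2 * (b⁻¹) ^ 2 = a * b ^ 2 * a⁻¹ * (b ^ 2)⁻¹ := by
    simp only [pow_two]; group
  rw [← e4, ← e1, e3, e2, e5]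

theorem main {S : Type*} [Group S] [Finite S] (hS : IsPGroup 2 S) :
    ∀ n : ℕ, ∀ H : Subgroup S, Nat.card H = n → ∀ Δ : Set (Subgroup S),
      (∀ R ∈ Δ, R ≤ H) →
      (∀ s ∈ H, ∀ R ∈ Δ, R.map (MulAut.conj s).toMonoidHom ∈ Δ) →
      (∀ R ∈ Δ, ∃ x ∈ R, x ^ 2 ≠ 1) →
      (∀ R ∈ Δ, ∀ T ∈ Δ, Nat.card R = Nat.card T) →
      (∀ R ∈ Δ, ∀ T ∈ Δ, R = T ∨ R ⊓ T = ⊥) →
      ∀ R ∈ Δ, ∀ T ∈ Δ, R ≠ T → ∀ r ∈ R, ∀ t ∈ T, r * t = t * r := by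
  intro n
  induction n using Nat.strong_induction_on with
  | _ n ih =>
  intro H hn Δ hle hinv hsq hord hti
  have F1 : ∀ U ∈ Δ, ∀ s ∈ H, s ∉ (Subgroup.normalizer (U : Set S)) →
      (∀ u ∈ U, ∀ v ∈ U, (s * u * s⁻¹) * v = v * (s * u * s⁻¹)) ∧
      (∀ u ∈ U, s * u * s⁻¹ ∈ U → u = 1) := by
    intro U hU s hs hsN
    have hU' : U.map (MulAut.conj s).toMonoidHom ∈ Δ := hinv s hs U hU
    have hmem : ∀ u ∈ U, s * u * s⁻¹ ∈ U.map (MulAut.conj s).toMonoidHom := by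
      intro u hu
      exact Subgroup.mem_map.mpr ⟨u, hu, by simp [MulAut.conj_apply]⟩
    have hneq : U.map (MulAut.conj s).toMonoidHom ≠ U := by
      intro h
      apply hsN
      rw [Subgroup.mem_normalizer_iff]
      intro x
      constructor
      · intro hx
        rw [← h]; exact hmem x hx
      · intro hx
        rw [← h] at hx
        obtain ⟨y, hy, hyx⟩ := Subgroup.mem_map.mp hx
        have : y = x := by
          have h1 : s * y * s⁻¹ = s * x * s⁻¹ := by simpa [MulAut.conj_apply] using hyx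
          exact mul_left_cancel (mul_right_cancel h1)
        rw [← this]; exact hy
    have hbot := (hti _ hU' U hU).resolve_left hneq
    refine ⟨?_, ?_⟩
    · have hUH : U ≠ H := by
        intro h
        apply hneq
        have h1 : U.map (MulAut.conj s).toMonoidHom ≤ U := by
          rw [h]; rw [h] at hU'; exact hle _ hU'
        exact Subgroup.eq_of_le_of_card_ge h1 (hord _ hU _ hU').le
      obtain ⟨M, hUM, hMH, hMne, hMnorm⟩ := exists_normal_proper hS U H (hle U hU) hUH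
      have hcardM : Nat.card M < n := by
        rw [← hn]
        exact lt_of_le_of_ne (Subgroup.card_le_of_le hMH)
          (fun h => hMne (Subgroup.eq_of_le_of_card_ge hMH h.ge))
      have key := ih (Nat.card M) hcardM M rfl {V | V ∈ Δ ∧ V ≤ M} (fun V hV => hV.2)
        (fun m hm V hV => ⟨hinv m (hMH hm) V hV.1, by
          intro y hy
          obtain ⟨v, hv, rfl⟩ := Subgroup.mem_map.mp hy
          have : (MulAut.conj m).toMonoidHom v = m * v * m⁻¹ := by simp [MulAut.conj_apply]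
          rw [this]
          exact M.mul_mem (M.mul_mem hm (hV.2 hv)) (M.inv_mem hm)⟩)
        (fun V hV => hsq V hV.1) (fun V hV W hW => hord V hV.1 W hW.1)
        (fun V hV W hW => hti V hV.1 W hW.1)
      intro u hu v hv
      have hU'M : U.map (MulAut.conj s).toMonoidHom ≤ M := by
        intro y hy
        obtain ⟨w, hw, rfl⟩ := Subgroup.mem_map.mp hy
        have : (MulAut.conj s).toMonoidHom w = s * w * s⁻¹ := by simp [MulAut.conj_apply]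
        rw [this]
        exact hMnorm s hs w (hUM hw)
      exact key _ ⟨hU', hU'M⟩ U ⟨hU, hUM⟩ hneq _ (hmem u hu) v hv
    · intro u hu hsu
      have hin : s * u * s⁻¹ ∈ U.map (MulAut.conj s).toMonoidHom ⊓ U := ⟨hmem u hu, hsu⟩
      rw [hbot, Subgroup.mem_bot] at hin
      have h2 : u = s⁻¹ * (s * u * s⁻¹) * s := by group
      rw [h2, hin]; group
  have F2 : ∀ U ∈ Δ, ∀ V ∈ Δ, (∀ v ∈ V, v ∈ (Subgroup.normalizer (U : Set S))) → ∀ u ∈ U, u ∈ (Subgroup.normalizer (V : Set S)) := by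
    intro U hU V hV hVU u hu
    by_contra huN
    obtain ⟨-, hβ⟩ := F1 V hV u (hle U hU hu) huN
    let f : V → U := fun v => ⟨u * v * u⁻¹ * (v : S)⁻¹, by
      have h1 : (v : S) * u⁻¹ * (v : S)⁻¹ ∈ U :=
        (Subgroup.mem_normalizer_iff.mp (hVU v v.2) u⁻¹).mp (U.inv_mem hu)
      have : u * v * u⁻¹ * (v : S)⁻¹ = u * ((v : S) * u⁻¹ * (v : S)⁻¹) := by group
      rw [this]; exact U.mul_mem hu h1⟩
    have hf : Function.Injective f := by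
      intro v w hvw
      have h1 : u * v * u⁻¹ * (v : S)⁻¹ = u * w * u⁻¹ * (w : S)⁻¹ := congrArg Subtype.val hvw
      have hg : u * ((w : S)⁻¹ * v) * u⁻¹ = (w : S)⁻¹ * v := by
        calc u * ((w : S)⁻¹ * v) * u⁻¹
            = u * ((w : S)⁻¹ * (u⁻¹ * (u * v * u⁻¹ * (v : S)⁻¹)) * v) := by group
          _ = u * ((w : S)⁻¹ * (u⁻¹ * (u * w * u⁻¹ * (w : S)⁻¹)) * v) := by rw [h1]
          _ = (w : S)⁻¹ * v := by group
      have hgV : (w : S)⁻¹ * v ∈ V := V.mul_mem (V.inv_mem w.2) v.2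
      have := hβ _ hgV (by rw [hg]; exact hgV)
      exact Subtype.ext (inv_mul_eq_one.mp this).symm
    have hbij := hf.bijective_of_nat_card_le (hord U hU V hV).le
    obtain ⟨v₀, hv₀⟩ := hbij.2 ⟨u, hu⟩
    have h1 : u * v₀ * u⁻¹ * (v₀ : S)⁻¹ = u := congrArg Subtype.val hv₀
    have h2 : u⁻¹ = (v₀ : S)⁻¹ * (u⁻¹ * (u * v₀ * u⁻¹ * (v₀ : S)⁻¹)) * v₀ := by group
    rw [h1] at h2
    have h3 : u⁻¹ = 1 := by rw [h2]; group
    apply huN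
    rw [inv_eq_one.mp h3]
    exact (Subgroup.normalizer (V : Set S)).one_mem
  intro R hR T hT hRT
  by_contra hcon
  push Not at hcon
  obtain ⟨r₀, hr₀, t₀, ht₀, hne⟩ := hcon
  have hbotRT : R ⊓ T = ⊥ := (hti R hR T hT).resolve_left hRT
  have comm_of : (∀ t ∈ T, t ∈ (Subgroup.normalizer (R : Set S))) → (∀ r ∈ R, r ∈ (Subgroup.normalizer (T : Set S))) → False := by
    intro h1 h2
    apply hne
    have hmemR : r₀ * t₀ * r₀⁻¹ * t₀⁻¹ ∈ R := by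
      have : t₀ * r₀⁻¹ * t₀⁻¹ ∈ R :=
        (Subgroup.mem_normalizer_iff.mp (h1 t₀ ht₀) r₀⁻¹).mp (R.inv_mem hr₀)
      have e : r₀ * t₀ * r₀⁻¹ * t₀⁻¹ = r₀ * (t₀ * r₀⁻¹ * t₀⁻¹) := by group
      rw [e]; exact R.mul_mem hr₀ this
    have hmemT : r₀ * t₀ * r₀⁻¹ * t₀⁻¹ ∈ T := by
      have : r₀ * t₀ * r₀⁻¹ ∈ T := (Subgroup.mem_normalizer_iff.mp (h2 r₀ hr₀) t₀).mp ht₀
      exact T.mul_mem this (T.inv_mem ht₀)
    have hin : r₀ * t₀ * r₀⁻¹ * t₀⁻¹ ∈ R ⊓ T := ⟨hmemR, hmemT⟩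
    rw [hbotRT, Subgroup.mem_bot] at hin
    have e : r₀ * t₀ = (r₀ * t₀ * r₀⁻¹ * t₀⁻¹) * (t₀ * r₀) := by group
    rw [e, hin, one_mul]
  have hexb : ∃ b₀ ∈ T, b₀ ∉ (Subgroup.normalizer (R : Set S)) := by
    by_contra h
    push Not at h
    exact comm_of h (F2 R hR T hT h)
  have hexa : ∃ a₀ ∈ R, a₀ ∉ (Subgroup.normalizer (T : Set S)) := by
    by_contra h
    push Not at h
    exact comm_of (F2 T hT R hR h) h
  obtain ⟨a₀, ha₀, ha₀N⟩ := hexa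
  obtain ⟨b₀, hb₀, hb₀N⟩ := hexb
  obtain ⟨ja, haN, ha2⟩ := descent hS (Subgroup.normalizer (T : Set S)) a₀ ha₀N
  obtain ⟨jb, hbN, hb2⟩ := descent hS (Subgroup.normalizer (R : Set S)) b₀ hb₀N
  obtain ⟨a, haeq⟩ : ∃ a, a = a₀ ^ (2 ^ ja) := ⟨_, rfl⟩
  obtain ⟨b, hbeq⟩ : ∃ b, b = b₀ ^ (2 ^ jb) := ⟨_, rfl⟩
  rw [← haeq] at haN ha2
  rw [← hbeq] at hbN hb2
  have ha : a ∈ R := by rw [haeq]; exact R.pow_mem ha₀ _
  have hb : b ∈ T := by rw [hbeq]; exact T.pow_mem hb₀ _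
  obtain ⟨hαT, hβT⟩ := F1 T hT a (hle R hR ha) haN
  obtain ⟨hαR, hβR⟩ := F1 R hR b (hle T hT hb) hbN
  have sq : ∀ a' ∈ R, a' ∉ (Subgroup.normalizer (T : Set S)) → ∀ b' ∈ T, b' ∉ (Subgroup.normalizer (R : Set S)) →
      a' ^ 2 * b' * (a' ^ 2)⁻¹ * b'⁻¹ = a' * b' ^ 2 * a'⁻¹ * (b' ^ 2)⁻¹ := by
    intro a' ha' ha'N b' hb' hb'N
    obtain ⟨hαT', -⟩ := F1 T hT a' (hle R hR ha') ha'N
    obtain ⟨hαR', -⟩ := F1 R hR b' (hle T hT hb') hb'N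
    exact key_identity a' b' (hαR' a'⁻¹ (R.inv_mem ha') a' ha') (hαT' b' hb' b'⁻¹ (T.inv_mem hb'))
  -- step 4
  have hid := sq a ha haN b hb hbN
  have hLT : a ^ 2 * b * (a ^ 2)⁻¹ * b⁻¹ ∈ T :=
    T.mul_mem ((Subgroup.mem_normalizer_iff.mp ha2 b).mp hb) (T.inv_mem hb)
  have hRR : a * b ^ 2 * a⁻¹ * (b ^ 2)⁻¹ ∈ R := by
    have h1 : b ^ 2 * a⁻¹ * (b ^ 2)⁻¹ ∈ R :=
      (Subgroup.mem_normalizer_iff.mp hb2 a⁻¹).mp (R.inv_mem ha)
    have e : a * b ^ 2 * a⁻¹ * (b ^ 2)⁻¹ = a * (b ^ 2 * a⁻¹ * (b ^ 2)⁻¹) := by group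
    rw [e]; exact R.mul_mem ha h1
  have hR1 : a * b ^ 2 * a⁻¹ * (b ^ 2)⁻¹ = 1 := by
    have hin : a * b ^ 2 * a⁻¹ * (b ^ 2)⁻¹ ∈ R ⊓ T := ⟨hRR, by rw [← hid]; exact hLT⟩
    rw [hbotRT, Subgroup.mem_bot] at hin
    exact hin
  have hb2one : b ^ 2 = 1 := by
    have e : a * b ^ 2 * a⁻¹ = (a * b ^ 2 * a⁻¹ * (b ^ 2)⁻¹) * b ^ 2 := by group
    rw [hR1, one_mul] at e
    exact hβT (b ^ 2) (T.pow_mem hb 2) (by rw [e]; exact T.pow_mem hb 2)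
  -- step 5
  have inv_of : ∀ a' ∈ R, a' ∉ (Subgroup.normalizer (T : Set S)) → a' ^ 2 = 1 := by
    intro a' ha' ha'N
    have hid' := sq a' ha' ha'N b hb hbN
    have hR1' : a' * b ^ 2 * a'⁻¹ * (b ^ 2)⁻¹ = 1 := by rw [hb2one]; group
    have hL1 : a' ^ 2 * b * (a' ^ 2)⁻¹ * b⁻¹ = 1 := hid'.trans hR1'
    have e : b * (a' ^ 2)⁻¹ * b⁻¹ = (a' ^ 2)⁻¹ * (a' ^ 2 * b * (a' ^ 2)⁻¹ * b⁻¹) := by group
    rw [hL1, mul_one] at e
    have hm : (a' ^ 2)⁻¹ ∈ R := R.inv_mem (R.pow_mem ha' 2)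
    exact inv_eq_one.mp (hβR _ hm (by rw [e]; exact hm))
  -- step 6
  obtain ⟨x, hx, hx2⟩ := hsq R hR
  have hxN : x ∈ (Subgroup.normalizer (T : Set S)) := by
    by_contra h
    exact hx2 (inv_of x hx h)
  have hx1 : x ∉ (⊥ : Subgroup S) := by
    intro h
    rw [Subgroup.mem_bot] at h
    apply hx2; rw [h]; exact one_pow 2
  obtain ⟨jz, hz1, hz2⟩ := descent hS ⊥ x hx1
  obtain ⟨z, hzeq⟩ : ∃ z, z = x ^ (2 ^ jz) := ⟨_, rfl⟩
  rw [← hzeq] at hz1 hz2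
  rw [Subgroup.mem_bot] at hz1 hz2
  have hz : z ∈ R := by rw [hzeq]; exact R.pow_mem hx _
  have hzN : z ∈ (Subgroup.normalizer (T : Set S)) := by rw [hzeq]; exact (Subgroup.normalizer (T : Set S)).pow_mem hxN _
  -- step 7
  have haz : a * z ∈ R := R.mul_mem ha hz
  have hazN : a * z ∉ (Subgroup.normalizer (T : Set S)) := by
    intro h
    apply haN
    have e : a = (a * z) * z⁻¹ := by group
    rw [e]; exact (Subgroup.normalizer (T : Set S)).mul_mem h ((Subgroup.normalizer (T : Set S)).inv_mem hzN)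
  have haz2 := inv_of (a * z) haz hazN
  have ha2one := inv_of a ha haN
  have hzinv : z⁻¹ = z := by
    have e : z = z ^ 2 * z⁻¹ := by group
    rw [hz2, one_mul] at e
    exact e.symm
  have hconj : a * z * a⁻¹ = z := by
    have e : a * z * a⁻¹ = (a * z) ^ 2 * z⁻¹ * (a ^ 2)⁻¹ := by simp only [pow_two]; group
    rw [e, haz2, ha2one, hzinv]; group
  have hcomm : (b * z⁻¹ * b⁻¹) * a = a * (b * z⁻¹ * b⁻¹) := hαR z⁻¹ (R.inv_mem hz) a ha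
  have had : a * (z * b * z⁻¹ * b⁻¹) * a⁻¹ = z * b * z⁻¹ * b⁻¹ := by
    calc a * (z * b * z⁻¹ * b⁻¹) * a⁻¹ = (a * z * a⁻¹) * (a * (b * z⁻¹ * b⁻¹)) * a⁻¹ := by group
      _ = z * ((b * z⁻¹ * b⁻¹) * a) * a⁻¹ := by rw [hconj, hcomm]
      _ = z * b * z⁻¹ * b⁻¹ := by group
  have hdT : z * b * z⁻¹ * b⁻¹ ∈ T :=
    T.mul_mem ((Subgroup.mem_normalizer_iff.mp hzN b).mp hb) (T.inv_mem hb)
  have hd1 : z * b * z⁻¹ * b⁻¹ = 1 := hβT _ hdT (by rw [had]; exact hdT)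
  have e : b * z⁻¹ * b⁻¹ = z⁻¹ * (z * b * z⁻¹ * b⁻¹) := by group
  rw [hd1, mul_one] at e
  have hzi1 : z⁻¹ = 1 := hβR z⁻¹ (R.inv_mem hz) (by rw [e]; exact R.inv_mem hz)
  exact hz1 (inv_eq_one.mp hzi1)

/-- Let S be a finite 2-group and Δ a set of subgroups of S closed under conjugation by S, all of the same order, each with nontrivial Frattini subgroup, and such that two distinct members of Δ meet trivially. Then any two distinct members of Δ commute elementwise. -/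
theorem result {S : Type*} [Group S] [Finite S] (hS : IsPGroup 2 S)
    (Δ : Set (Subgroup S)) (hinv : ∀ s : S, ∀ R ∈ Δ, R.map (MulAut.conj s).toMonoidHom ∈ Δ)
    (hΦ : ∀ R ∈ Δ, frattini ↥R ≠ ⊥) (hord : ∀ R ∈ Δ, ∀ T ∈ Δ, Nat.card ↥R = Nat.card ↥T)
    (hti : ∀ R ∈ Δ, ∀ T ∈ Δ, R = T ∨ R ⊓ T = ⊥) :
    ∀ R ∈ Δ, ∀ T ∈ Δ, R ≠ T → ⁅R, T⁆ = ⊥ := by

  intro R hR T hT hRT
  haveI : Fact (Nat.Prime 2) := ⟨Nat.prime_two⟩
  have hsq : ∀ R ∈ Δ, ∃ x ∈ R, x ^ 2 ≠ 1 := by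
    intro R hR
    by_contra h
    push Not at h
    apply hΦ R hR
    have hexp : ∀ v : R, v ^ 2 = 1 := fun v => Subtype.ext (by simpa using h v v.2)
    apply Cfsg.Agent.H1.frattini_eq_bot_of_elementary_abelian (p := 2) _ hexp
    intro a b
    have e1 : b * a = a⁻¹ * (a * b) ^ 2 * b⁻¹ := by simp only [pow_two]; group
    have e2 : a * b = a ^ 2 * (a⁻¹ * b⁻¹) * b ^ 2 := by group
    rw [hexp, mul_one] at e1
    rw [hexp, hexp, one_mul, mul_one] at e2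
    rw [e1, e2]
  have hmain := main hS (Nat.card (⊤ : Subgroup S)) ⊤ rfl Δ (fun R _ => le_top)
    (fun s _ R hR => hinv s R hR) hsq hord hti R hR T hT hRT
  rw [Subgroup.commutator_eq_bot_iff_le_centralizer]
  intro r hr
  rw [Subgroup.mem_centralizer_iff]
  intro t ht
  exact (hmain r hr t ht).symm

end Cfsg.Agent.S1782
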