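import Cfsg.Statements.S1783
import Cfsg.Agent.Lib.Lead.TISquares
import Cfsg.Agent.H2.Layer

set_option autoImplicit false
open Cfsg

namespace Cfsg.Agent.S1783

/-- Let X be a finite group whose generalized Fitting subgroup equals its largest normal 2-subgroup Q, and let A be an abelian 2-subgroup of X such that every conjugate of A equals A or meets A trivially. Let B be the subgroup generated by the squares of the elements of A. Then B lies in Q, and if B is not an elementary abelian 2-group then the normal closure of B in X is commutative. -/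
theorem result {X : Type*} [Group X] [Finite X]
    (hX : Cfsg.generalizedFittingSubgroup X = Cfsg.pCore 2 X) (A : Subgroup X) (hA2 : IsPGroup 2 ↥A) (hAa : IsMulCommutative ↥A)
    (hti : ∀ h : X, A.map (MulAut.conj h).toMonoidHom = A ∨ A.map (MulAut.conj h).toMonoidHom ⊓ A = ⊥) :
    Subgroup.closure ((fun a : X => a ^ 2) '' (A : Set X)) ≤ Cfsg.pCore 2 X ∧
      (¬ Cfsg.IsElementaryAbelian 2 (Subgroup.closure ((fun a : X => a ^ 2) '' (A : Set X))) →
        IsMulCommutative ↥(Subgroup.normalClosure ((fun a : X => a ^ 2) '' (A : Set X)))) := by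
  classical
  haveI hQn : (Cfsg.pCore 2 X).Normal := Cfsg.Agent.Lib.Helper7.pCore_normal 2 X
  have hQ2 : IsPGroup 2 (Cfsg.pCore 2 X) := Cfsg.Agent.Lib.Helper7.pCore_isPGroup 2 X
  have hQmax : ∀ K : Subgroup X, K.Normal → IsPGroup 2 K → K ≤ Cfsg.pCore 2 X :=
    fun K hK hK2 => Cfsg.Agent.Lib.Helper7.le_pCore hK hK2
  have hcent : ∀ g : X, (∀ q ∈ Cfsg.pCore 2 X, g * q = q * g) → g ∈ Cfsg.pCore 2 X := by
    intro g hg
    have h1 := Cfsg.Agent.H2.centralizer_generalizedFittingSubgroup_le (G := X)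
    rw [hX] at h1
    apply h1
    rw [Subgroup.mem_centralizer_iff]
    intro q hq
    exact (hg q hq).symm
  have hAa' : ∀ x ∈ A, ∀ y ∈ A, x * y = y * x := by
    intro x hx y hy
    have := hAa.is_comm.comm ⟨x, hx⟩ ⟨y, hy⟩
    exact congrArg Subtype.val this
  -- the main dichotomy
  by_cases hfour : ∃ a ∈ A, a ^ 2 ≠ 1
  · obtain ⟨a1, ha1, ha1sq⟩ := hfour
    obtain ⟨j, hj4, hj2⟩ := Cfsg.Agent.Lib.Lead.TISquares.exists_order_four hA2 ha1 ha1sq
    have hKP := Cfsg.Agent.Lib.Lead.TISquares.commute_conj (Cfsg.pCore 2 X) A hQ2 hA2 hAa' hti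
      (a1 ^ j) (A.pow_mem ha1 j) hj4 hj2
    have hsqQ := Cfsg.Agent.Lib.Lead.TISquares.sq_mem_core (Cfsg.pCore 2 X) A hQ2 hQmax hcent hKP
    have hB : Subgroup.closure ((fun a : X => a ^ 2) '' (A : Set X)) ≤ Cfsg.pCore 2 X := by
      rw [Subgroup.closure_le]
      rintro z ⟨a, ha, rfl⟩
      exact hsqQ a ha
    refine ⟨hB, fun hne => ?_⟩
    -- some square has nontrivial square
    have hex : ∃ a ∈ A, (a ^ 2) ^ 2 ≠ 1 := by
      by_contra hcon
      push Not at hcon
      apply hne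
      have hBA : Subgroup.closure ((fun a : X => a ^ 2) '' (A : Set X)) ≤ A := by
        rw [Subgroup.closure_le]
        rintro z ⟨a, ha, rfl⟩
        exact A.pow_mem ha 2
      refine ⟨⟨⟨fun x y => Subtype.ext (hAa' _ (hBA x.2) _ (hBA y.2))⟩⟩, ?_⟩
      intro b hb
      induction hb using Subgroup.closure_induction with
      | mem z hz =>
        obtain ⟨a, ha, rfl⟩ := hz
        exact hcon a ha
      | one => simp
      | mul x y hx hy ihx ihy =>
        have hc := hAa' _ (hBA hx) _ (hBA hy)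
        rw [pow_two] at ihx ihy ⊢
        calc x * y * (x * y) = x * (y * x) * y := by group
          _ = x * (x * y) * y := by rw [hc]
          _ = (x * x) * (y * y) := by group
          _ = 1 := by rw [ihx, ihy, one_mul]
      | inv x _ ihx =>
        rw [inv_pow, ihx, inv_one]
    have hcomm := Cfsg.Agent.Lib.Lead.TISquares.sq_commute (Cfsg.pCore 2 X) A hA2 hAa' hti hKP
      hsqQ hex
    show IsMulCommutative ↥(Subgroup.closure (Group.conjugatesOfSet ((fun a : X => a ^ 2) '' (A : Set X))))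
    apply Subgroup.isMulCommutative_closure
    intro x hx y hy
    rw [Group.mem_conjugatesOfSet_iff] at hx hy
    obtain ⟨_, ⟨a, ha, rfl⟩, hxc⟩ := hx
    obtain ⟨_, ⟨a', ha', rfl⟩, hyc⟩ := hy
    rw [isConj_iff] at hxc hyc
    obtain ⟨c, rfl⟩ := hxc
    obtain ⟨c', rfl⟩ := hyc
    have h1 := hcomm a ha a' ha' (c⁻¹ * c')
    simp only at h1 ⊢
    calc c * a ^ 2 * c⁻¹ * (c' * a' ^ 2 * c'⁻¹)
        = c * (a ^ 2 * ((c⁻¹ * c') * a' ^ 2 * (c⁻¹ * c')⁻¹)) * c⁻¹ := by group
      _ = c * (((c⁻¹ * c') * a' ^ 2 * (c⁻¹ * c')⁻¹) * a ^ 2) * c⁻¹ := by rw [h1]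
      _ = c' * a' ^ 2 * c'⁻¹ * (c * a ^ 2 * c⁻¹) := by group
  · push Not at hfour
    have hB : Subgroup.closure ((fun a : X => a ^ 2) '' (A : Set X)) = ⊥ := by
      rw [Subgroup.closure_eq_bot_iff]
      rintro z ⟨a, ha, rfl⟩
      exact hfour a ha
    refine ⟨hB ▸ bot_le, fun hne => ?_⟩
    exfalso
    apply hne
    rw [hB]
    refine ⟨⟨⟨fun x y => ?_⟩⟩, ?_⟩
    · apply Subtype.ext
      have hx := Subgroup.mem_bot.mp x.2
      have hy := Subgroup.mem_bot.mp y.2
      simp [hx, hy]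
    · intro a ha
      rw [Subgroup.mem_bot] at ha
      rw [ha, one_pow]

end Cfsg.Agent.S1783
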