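import Mathlib
import Cfsg.Statements.S1784
import Cfsg.Agent.S1265
import Cfsg.Agent.Lib.Lead.ES2Perp

set_option autoImplicit false
open Cfsg
open scoped commutatorElement

namespace Cfsg.Agent.S1784

open Cfsg.Agent.Lead.ES2 Cfsg.Agent.Lead.ES2Perp

/-- Let G be a finite group and let z be an involution of G such that Q, the generalized Fitting subgroup of the centralizer C of z, is a 2-group of symplectic type (every characteristic abelian subgroup of Q is cyclic); suppose Q is extraspecial, and view Q inside G. Let α be an involution of C that is not in Q, and let Q₀ be the subgroup of those q ∈ Q whose commutator with α lies in the subgroup generated by z. Then (a) the subgroup generated by the commutators α q α⁻¹ q⁻¹, q ∈ Q, equals the centre of Q₀; and (b) if Q₀ is not contained in the product of the centralizer of α in Q with the subgroup generated by z, then some element of Q conjugates α to α z. -/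
theorem result {G : Type*} [Group G] [Finite G] (z : G) (hz : orderOf z = 2) (hQ : Cfsg.IsOfSymplecticType ↥(Cfsg.generalizedFittingSubgroup ↥(Subgroup.centralizer ({z} : Set G)))) (hE : Cfsg.IsExtraspecial 2 ↥(Cfsg.generalizedFittingSubgroup ↥(Subgroup.centralizer ({z} : Set G))))
    (α : G) (hα : orderOf α = 2) (hαC : α ∈ Subgroup.centralizer ({z} : Set G)) (hαQ : α ∉ (Cfsg.generalizedFittingSubgroup ↥(Subgroup.centralizer ({z} : Set G))).map (Subgroup.centralizer ({z} : Set G)).subtype)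
    (Q₀ : Subgroup G) (hQ₀ : ∀ q : G, q ∈ Q₀ ↔ (q ∈ (Cfsg.generalizedFittingSubgroup ↥(Subgroup.centralizer ({z} : Set G))).map (Subgroup.centralizer ({z} : Set G)).subtype ∧ α * q * α⁻¹ * q⁻¹ ∈ Subgroup.zpowers z)) :
    Subgroup.closure ((fun q : G => α * q * α⁻¹ * q⁻¹) '' ((Cfsg.generalizedFittingSubgroup ↥(Subgroup.centralizer ({z} : Set G))).map (Subgroup.centralizer ({z} : Set G)).subtype : Set G)) = (Subgroup.center ↥Q₀).map Q₀.subtype ∧
      (¬ Q₀ ≤ ((Cfsg.generalizedFittingSubgroup ↥(Subgroup.centralizer ({z} : Set G))).map (Subgroup.centralizer ({z} : Set G)).subtype ⊓ Subgroup.centralizer ({α} : Set G)) ⊔ Subgroup.zpowers z →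
        ∃ q ∈ (Cfsg.generalizedFittingSubgroup ↥(Subgroup.centralizer ({z} : Set G))).map (Subgroup.centralizer ({z} : Set G)).subtype, q * α * q⁻¹ = α * z) := by
  classical
  set C := Subgroup.centralizer ({z} : Set G) with hC
  set Q := Cfsg.generalizedFittingSubgroup ↥C with hQdef
  set N := Q.map C.subtype with hN
  haveI hQn : Q.Normal := inferInstance
  have hz1 : z ≠ 1 := by intro h; rw [h, orderOf_one] at hz; norm_num at hz
  have hzz : z * z = 1 := by rw [← pow_two, ← hz]; exact pow_orderOf_eq_one z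
  have hαα : α * α = 1 := by rw [← pow_two, ← hα]; exact pow_orderOf_eq_one α
  have hαinv : α⁻¹ = α := inv_eq_of_mul_eq_one_right hαα
  have hmemC : ∀ g, g ∈ C ↔ g * z = z * g := fun g => Subgroup.mem_centralizer_singleton_iff
  have hzC : z ∈ C := (hmemC z).mpr rfl
  have hαz : α * z = z * α := (hmemC α).mp hαC
  have hzp : ∀ x : G, x ∈ Subgroup.zpowers z ↔ x = 1 ∨ x = z := mem_zpowers_two hz
  -- membership in N
  have hmemN : ∀ g : G, g ∈ N ↔ ∃ h : g ∈ C, (⟨g, h⟩ : C) ∈ Q := by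
    intro g
    constructor
    · rintro ⟨x, hx, rfl⟩
      exact ⟨x.2, hx⟩
    · rintro ⟨h, hx⟩
      exact ⟨⟨g, h⟩, hx, rfl⟩
  -- z in Q
  have hzQ : (⟨z, hzC⟩ : C) ∈ Q := by
    apply Cfsg.Agent.S1265.result
    rw [Subgroup.mem_centralizer_iff]
    intro h _
    apply Subtype.ext
    exact (hmemC h.1).mp h.2
  -- the embedding
  let ι : ↥Q →* G := C.subtype.comp Q.subtype
  have hι : Function.Injective ι := fun a b hab => Subtype.ext (Subtype.ext hab)
  have hιN : ∀ x : ↥Q, ι x ∈ N := fun x => ⟨x.1, x.2, rfl⟩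
  have hNι : ∀ g ∈ N, ∃ x : ↥Q, ι x = g := by
    intro g hg
    obtain ⟨h, hx⟩ := (hmemN g).mp hg
    exact ⟨⟨⟨g, h⟩, hx⟩, rfl⟩
  -- extraspecial structure
  obtain ⟨z₀, hes₀, -⟩ := es_of_extraspecial hE
  let zQ : ↥Q := ⟨⟨z, hzC⟩, hzQ⟩
  have hzQ1 : zQ ≠ 1 := fun h => hz1 (congrArg ι h)
  have hzQc : ∀ x : ↥Q, x * zQ = zQ * x := by
    intro x
    apply hι
    rw [map_mul, map_mul]
    exact (hmemC (ι x)).mp x.1.2
  have hzz₀ : zQ = z₀ := (hes₀.cent zQ hzQc).resolve_left hzQ1
  have hes : ES zQ := hzz₀ ▸ hes₀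
  -- the automorphism
  let αC : C := ⟨α, hαC⟩
  let φ : ↥Q →* ↥Q := (MulAut.conjNormal αC : MulAut ↥Q).toMonoidHom
  have hφι : ∀ x : ↥Q, ι (φ x) = α * ι x * α⁻¹ := by
    intro x
    show (((MulAut.conjNormal αC : MulAut ↥Q) x : C) : G) = α * ι x * α⁻¹
    rw [MulAut.conjNormal_apply]
    rfl
  have hφ2 : ∀ x, φ (φ x) = x := by
    intro x
    apply hι
    rw [hφι, hφι, hαinv]
    calc α * (α * ι x * α) * α = (α * α) * ι x * (α * α) := by group
      _ = ι x := by rw [hαα, one_mul, mul_one]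
  have hφz : φ zQ = zQ := by
    apply hι
    rw [hφι]
    show α * z * α⁻¹ = z
    rw [hαz, mul_inv_cancel_right]
  have hne : ∃ q, φ q ≠ q := by
    by_contra hcon
    push_neg at hcon
    apply hαQ
    rw [hmemN]
    refine ⟨hαC, ?_⟩
    apply Cfsg.Agent.S1265.result
    rw [Subgroup.mem_centralizer_iff]
    intro h hh
    apply Subtype.ext
    have := congrArg ι (hcon ⟨h, hh⟩)
    rw [hφι] at this
    show (h : G) * α = α * h
    have h2 : ι ⟨h, hh⟩ = (h : G) := rfl
    rw [h2] at this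
    calc (h : G) * α = (α * h * α⁻¹) * α := by rw [this]
      _ = α * h := by group
  -- the comparison of the commutators
  have hcι : ∀ x : ↥Q, ι (φ x * x⁻¹) = α * ι x * α⁻¹ * (ι x)⁻¹ := by
    intro x; rw [map_mul, map_inv, hφι]
  let Q₀' : Subgroup ↥Q := Q₀.comap ι
  have hQ₀' : ∀ x, x ∈ Q₀' ↔ (φ x * x⁻¹ = 1 ∨ φ x * x⁻¹ = zQ) := by
    intro x
    show ι x ∈ Q₀ ↔ _
    rw [hQ₀, ← hcι, hzp]
    constructor
    · rintro ⟨-, h | h⟩
      · left; apply hι; rw [h, map_one]
      · right; apply hι; rw [h]; rfl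
    · intro h
      refine ⟨hιN x, ?_⟩
      rcases h with h | h
      · left; rw [h, map_one]
      · right; rw [h]; rfl
  have hcore := core hes φ hφ2 hφz hne Q₀' hQ₀'
  have hQ₀N : Q₀ ≤ N := fun q hq => ((hQ₀ q).mp hq).1
  refine ⟨?_, ?_⟩
  · -- (a)
    have himg : (fun q : G => α * q * α⁻¹ * q⁻¹) '' (N : Set G) =
        ι '' (Set.range fun q => φ q * q⁻¹) := by
      ext g
      constructor
      · rintro ⟨q, hq, rfl⟩
        obtain ⟨x, rfl⟩ := hNι q hq
        exact ⟨φ x * x⁻¹, ⟨x, rfl⟩, hcι x⟩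
      · rintro ⟨_, ⟨x, rfl⟩, rfl⟩
        exact ⟨ι x, hιN x, (hcι x).symm⟩
    rw [himg, ← MonoidHom.map_closure, hcore]
    ext g
    constructor
    · rintro ⟨x, ⟨hx1, hx2⟩, rfl⟩
      have hx1' : ι x ∈ Q₀ := hx1
      refine ⟨⟨ι x, hx1'⟩, ?_, rfl⟩
      rw [SetLike.mem_coe, Subgroup.mem_center_iff]
      intro w
      apply Subtype.ext
      obtain ⟨y, hy⟩ := hNι w.1 (hQ₀N w.2)
      have hyQ : y ∈ Q₀' := by show ι y ∈ Q₀; rw [hy]; exact w.2
      have hx2' : x ∈ Subgroup.centralizer (Q₀' : Set ↥Q) := hx2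
      rw [Subgroup.mem_centralizer_iff] at hx2'
      have := congrArg ι (hx2' y hyQ)
      rw [map_mul, map_mul, hy] at this
      exact this
    · rintro ⟨w, hw, rfl⟩
      rw [SetLike.mem_coe, Subgroup.mem_center_iff] at hw
      obtain ⟨x, hx⟩ := hNι w.1 (hQ₀N w.2)
      refine ⟨x, ⟨?_, ?_⟩, hx⟩
      · show ι x ∈ Q₀; rw [hx]; exact w.2
      · show x ∈ Subgroup.centralizer (Q₀' : Set ↥Q)
        rw [Subgroup.mem_centralizer_iff]
        intro y hy
        have hy' : ι y ∈ Q₀ := hy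
        have := congrArg Subtype.val (hw ⟨ι y, hy'⟩)
        apply hι
        rw [map_mul, map_mul, hx]
        exact this
  · -- (b)
    intro hnot
    obtain ⟨q, hq, hqn⟩ := SetLike.not_le_iff_exists.mp hnot
    obtain ⟨hqN, hqz⟩ := (hQ₀ q).mp hq
    rw [hzp] at hqz
    rcases hqz with h | h
    · exfalso
      apply hqn
      apply Subgroup.mem_sup_left
      refine ⟨hqN, ?_⟩
      show q ∈ Subgroup.centralizer ({α} : Set G)
      rw [Subgroup.mem_centralizer_singleton_iff]
      calc q * α = (α * q * α⁻¹ * q⁻¹)⁻¹ * (α * q) := by group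
        _ = α * q := by rw [h, inv_one, one_mul]
    · refine ⟨q, hqN, ?_⟩
      rw [hαinv] at h
      calc q * α * q⁻¹ = (α * α) * (q * α * q⁻¹) := by rw [hαα, one_mul]
        _ = α * (α * q * α * q⁻¹) := by group
        _ = α * z := by rw [h]

end Cfsg.Agent.S1784
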