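import Cfsg.Statements.S1785
import Cfsg.Agent.H1.ElemAbelian
import Cfsg.Agent.H1.Card
import Mathlib

set_option autoImplicit false
open Cfsg

namespace Cfsg.Agent.S1785

section S1785aux

variable {X : Type*} [Group X]

theorem ea_mono {D D' : Subgroup X} (h : D' ≤ D) (hD : Cfsg.IsElementaryAbelian 2 D) :
    Cfsg.IsElementaryAbelian 2 D' := by
  obtain ⟨hab, hexp⟩ := hD
  refine ⟨⟨⟨?_⟩⟩, fun a ha => hexp a (h ha)⟩
  rintro ⟨a, ha⟩ ⟨b, hb⟩
  apply Subtype.ext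
  show a * b = b * a
  exact congrArg Subtype.val (hab.is_comm.comm (⟨a, h ha⟩ : D) ⟨b, h hb⟩)

theorem ea_comm {D : Subgroup X} (hD : Cfsg.IsElementaryAbelian 2 D) {a b : X} (ha : a ∈ D)
    (hb : b ∈ D) : a * b = b * a :=
  congrArg Subtype.val (hD.1.is_comm.comm ⟨a, ha⟩ ⟨b, hb⟩)

theorem ea_isPGroup {D : Subgroup X} (hD : Cfsg.IsElementaryAbelian 2 D) : IsPGroup 2 D := by
  intro g
  refine ⟨1, ?_⟩
  apply Subtype.ext
  rw [pow_one]
  exact hD.2 g g.2

theorem comm_eq_bot_of_le {C D T : Subgroup X} (hT : Cfsg.IsElementaryAbelian 2 T) (hC : C ≤ T)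
    (hD : D ≤ T) : ⁅C, D⁆ = ⊥ := by
  rw [Subgroup.commutator_eq_bot_iff_le_centralizer]
  intro c hc
  rw [Subgroup.mem_centralizer_iff]
  intro d hd
  exact ea_comm hT (hD hd) (hC hc)

theorem mem_cent_singleton {x t : X} : x ∈ Subgroup.centralizer ({t} : Set X) ↔ t * x = x * t := by
  rw [Subgroup.mem_centralizer_iff]
  constructor
  · intro h; exact h t rfl
  · intro h y hy; rw [Set.mem_singleton_iff] at hy; rw [hy]; exact h

theorem lt_sup_zpowers {K : Subgroup X} {x : X} (hx : x ∉ K) : K < K ⊔ Subgroup.zpowers x := by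
  refine lt_of_le_of_ne le_sup_left ?_
  intro h
  apply hx
  rw [h]
  exact Subgroup.mem_sup_right (Subgroup.mem_zpowers x)

theorem card_zpowers_invol {x : X} (h2 : x ^ 2 = 1) (h1 : x ≠ 1) :
    Nat.card (Subgroup.zpowers x) = 2 := by
  rw [Nat.card_zpowers]; exact orderOf_eq_prime h2 h1

theorem card_ge_double [Finite X] {K K' : Subgroup X} (h : K < K') :
    2 * Nat.card K ≤ Nat.card K' := by
  obtain ⟨m, hm⟩ := Subgroup.card_dvd_of_le h.le
  have hpos : 0 < Nat.card K := Nat.card_pos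
  have hlt : Nat.card K < Nat.card K' := by
    by_contra hge
    push Not at hge
    exact h.ne (Subgroup.eq_of_le_of_card_ge h.le hge)
  rw [hm] at hlt ⊢
  have h2 : 2 ≤ m := by
    by_contra hm2
    push Not at hm2
    interval_cases m
    · simp at hlt
    · simp at hlt
  calc 2 * Nat.card K = Nat.card K * 2 := mul_comm _ _
    _ ≤ Nat.card K * m := Nat.mul_le_mul_left _ h2

theorem card_sup_two_le [Finite X] {x y : X} (hx2 : x ^ 2 = 1) (hy2 : y ^ 2 = 1)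
    (hxy : x * y = y * x) :
    Nat.card (Subgroup.zpowers x ⊔ Subgroup.zpowers y : Subgroup X) ≤ 4 := by
  have hnorm : Subgroup.zpowers x ≤
      Subgroup.normalizer ((Subgroup.zpowers y : Subgroup X) : Set X) := by
    refine le_trans ?_ (Subgroup.centralizer_le_normalizer _)
    rw [Subgroup.zpowers_le, Subgroup.mem_centralizer_iff]
    intro h hh
    obtain ⟨k, rfl⟩ := Subgroup.mem_zpowers_iff.mp hh
    have hc : Commute y x := hxy.symm
    exact (hc.zpow_left k).eq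
  have h := Cfsg.Agent.H1.card_sup_mul_card_inf (Subgroup.zpowers x) (Subgroup.zpowers y) hnorm
  have hcx : Nat.card (Subgroup.zpowers x) ≤ 2 := by
    rw [Nat.card_zpowers]
    exact Nat.le_of_dvd (by norm_num) (orderOf_dvd_of_pow_eq_one hx2)
  have hcy : Nat.card (Subgroup.zpowers y) ≤ 2 := by
    rw [Nat.card_zpowers]
    exact Nat.le_of_dvd (by norm_num) (orderOf_dvd_of_pow_eq_one hy2)
  have hpos : 0 < Nat.card (Subgroup.zpowers x ⊓ Subgroup.zpowers y : Subgroup X) := Nat.card_pos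
  have h4 : Nat.card (Subgroup.zpowers x) * Nat.card (Subgroup.zpowers y) ≤ 4 := by
    calc Nat.card (Subgroup.zpowers x) * Nat.card (Subgroup.zpowers y) ≤ 2 * 2 :=
          Nat.mul_le_mul hcx hcy
      _ = 4 := by norm_num
  calc Nat.card (Subgroup.zpowers x ⊔ Subgroup.zpowers y : Subgroup X)
      = Nat.card (Subgroup.zpowers x ⊔ Subgroup.zpowers y : Subgroup X) * 1 := (mul_one _).symm
    _ ≤ Nat.card (Subgroup.zpowers x ⊔ Subgroup.zpowers y : Subgroup X) *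
          Nat.card (Subgroup.zpowers x ⊓ Subgroup.zpowers y : Subgroup X) :=
        Nat.mul_le_mul_left _ hpos
    _ = Nat.card (Subgroup.zpowers x) * Nat.card (Subgroup.zpowers y) := h
    _ ≤ 4 := h4

theorem exists_central_in_normal [Finite X] {p : ℕ} [Fact p.Prime]
    (hX : IsPGroup p X) (E : Subgroup X) [E.Normal] (hE : E ≠ ⊥) :
    ∃ u ∈ E, u ≠ 1 ∧ u ∈ Subgroup.center X := by
  have hdvd : p ∣ Nat.card E := by
    obtain ⟨n, hn⟩ := IsPGroup.iff_card.mp (hX.to_subgroup E)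
    have hn0 : n ≠ 0 := by
      rintro rfl
      rw [pow_zero, Subgroup.card_eq_one] at hn
      exact hE hn
    rw [hn]; exact dvd_pow_self p hn0
  have h1 : (1 : E) ∈ MulAction.fixedPoints (ConjAct X) E := by
    intro g
    apply Subtype.ext
    rw [ConjAct.Subgroup.val_conj_smul]
    simp
  obtain ⟨b, hb, hne⟩ :=
    (hX.of_equiv ConjAct.toConjAct).exists_fixed_point_of_prime_dvd_card_of_fixed_point E hdvd h1
  refine ⟨b, b.2, fun h => hne (Subtype.ext h.symm), ?_⟩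
  rw [Subgroup.mem_center_iff]
  intro g
  have h2 := congrArg Subtype.val (hb (ConjAct.toConjAct g))
  rw [ConjAct.Subgroup.val_conj_smul, ConjAct.toConjAct_smul] at h2
  calc g * (b : X) = g * b * g⁻¹ * g := by group
    _ = b * g := by rw [h2]

theorem halving [Finite X] (W : Subgroup X) (hW : Cfsg.IsElementaryAbelian 2 W)
    (t : X) (ht : t ^ 2 = 1) (hnorm : ∀ w ∈ W, t * w * t⁻¹ ∈ W) :
    Nat.card W ≤ Nat.card (W ⊓ Subgroup.centralizer {t} : Subgroup X) ^ 2 := by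
  have hcomm : ∀ a ∈ W, ∀ b ∈ W, a * b = b * a := fun a ha b hb => ea_comm hW ha hb
  have hexp := hW.2
  have htt : t * t = 1 := by rw [← pow_two]; exact ht
  obtain ⟨C, hC⟩ : ∃ C : Subgroup X, C = W ⊓ Subgroup.centralizer {t} := ⟨_, rfl⟩
  rw [← hC]
  have hCmem : ∀ x, x ∈ C ↔ x ∈ W ∧ t * x = x * t := by
    intro x
    rw [hC, Subgroup.mem_inf, mem_cent_singleton]
  let φ : W →* W :=
    { toFun := fun w => ⟨(w : X) * (t * w * t⁻¹), W.mul_mem w.2 (hnorm w w.2)⟩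
      map_one' := by apply Subtype.ext; simp
      map_mul' := by
        intro a b
        apply Subtype.ext
        show ((a : X) * b) * (t * ((a : X) * b) * t⁻¹)
          = ((a : X) * (t * a * t⁻¹)) * ((b : X) * (t * b * t⁻¹))
        have h1 := hcomm _ b.2 _ (hnorm a a.2)
        calc ((a : X) * b) * (t * ((a : X) * b) * t⁻¹)
            = a * (b * (t * a * t⁻¹)) * (t * b * t⁻¹) := by group
          _ = a * ((t * a * t⁻¹) * b) * (t * b * t⁻¹) := by rw [h1]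
          _ = _ := by group }
  have hφ : ∀ w : W, ((φ w : W) : X) = (w : X) * (t * w * t⁻¹) := fun w => rfl
  have hker : φ.ker ≤ C.subgroupOf W := by
    intro w hw
    rw [MonoidHom.mem_ker] at hw
    have h1 : (w : X) * (t * w * t⁻¹) = 1 := by rw [← hφ, hw]; rfl
    rw [Subgroup.mem_subgroupOf, hCmem]
    refine ⟨w.2, ?_⟩
    have hw2 : (w : X) * w = 1 := by rw [← pow_two]; exact hexp w w.2
    have h3 : t * w * t⁻¹ = (w : X) := by
      have e1 : t * w * t⁻¹ = (w : X)⁻¹ := eq_inv_of_mul_eq_one_right h1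
      rw [e1]; exact inv_eq_of_mul_eq_one_right hw2
    calc t * (w : X) = t * w * t⁻¹ * t := by group
      _ = w * t := by rw [h3]
  have hrange : φ.range ≤ C.subgroupOf W := by
    rintro _ ⟨w, rfl⟩
    rw [Subgroup.mem_subgroupOf, hCmem, hφ]
    refine ⟨W.mul_mem w.2 (hnorm w w.2), ?_⟩
    have hy : t * (t * w * t⁻¹) * t⁻¹ = (w : X) := by
      calc t * (t * (w : X) * t⁻¹) * t⁻¹ = (t * t) * w * (t * t)⁻¹ := by group
        _ = w := by rw [htt]; group
    calc t * ((w : X) * (t * w * t⁻¹)) = (t * w * t⁻¹) * (t * (t * w * t⁻¹) * t⁻¹) * t := by group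
      _ = (t * w * t⁻¹) * w * t := by rw [hy]
      _ = (w : X) * (t * w * t⁻¹) * t := by rw [hcomm _ (hnorm w w.2) _ w.2]
  have h1 : Nat.card W = Nat.card φ.ker * Nat.card φ.range := by
    rw [← Subgroup.index_ker φ, Subgroup.card_mul_index]
  have h2 : Nat.card (C.subgroupOf W) = Nat.card C := by
    have hCW : C ≤ W := by rw [hC]; exact inf_le_left
    exact Nat.card_congr (Subgroup.subgroupOfEquivOfLe hCW).toEquiv
  have h3 := Subgroup.card_le_of_le hker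
  have h4 := Subgroup.card_le_of_le hrange
  rw [h1, pow_two, ← h2]
  exact Nat.mul_le_mul h3 h4

theorem two_pow_le_of_sq {c k m j : ℕ} (hk : c = 2 ^ k) (h : 2 ^ m ≤ c ^ 2) (hmj : 2 * j ≤ m + 1) :
    2 ^ j ≤ c := by
  rw [hk, ← pow_mul] at h
  have h1 : m ≤ k * 2 := (Nat.pow_le_pow_iff_right (by norm_num)).mp h
  rw [hk]
  exact Nat.pow_le_pow_right (by norm_num) (by omega)

theorem cent_ge [Finite X] (W : Subgroup X) (hW : Cfsg.IsElementaryAbelian 2 W)
    (t : X) (ht : t ^ 2 = 1) (hnorm : ∀ w ∈ W, t * w * t⁻¹ ∈ W) {m j : ℕ}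
    (hm : 2 ^ m ≤ Nat.card W) (hmj : 2 * j ≤ m + 1) :
    2 ^ j ≤ Nat.card (W ⊓ Subgroup.centralizer {t} : Subgroup X) := by
  haveI : Fact (Nat.Prime 2) := ⟨Nat.prime_two⟩
  have h := halving W hW t ht hnorm
  have hp : IsPGroup 2 (W ⊓ Subgroup.centralizer {t} : Subgroup X) :=
    ea_isPGroup (ea_mono inf_le_left hW)
  obtain ⟨k, hk⟩ := IsPGroup.iff_card.mp hp
  exact two_pow_le_of_sq hk (hm.trans h) hmj

theorem exists_E8 [Finite X] {D : Subgroup X} (hD : Cfsg.IsElementaryAbelian 2 D)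
    (h8 : 8 ≤ Nat.card D) (K : Subgroup X) (hK : K ≤ D) {j : ℕ} (hKc : Nat.card K = 2 ^ j)
    (hj : j ≤ 3) :
    ∃ A : Subgroup X, K ≤ A ∧ A ≤ D ∧ Cfsg.IsElementaryAbelian 2 A ∧ Nat.card A = 8 := by
  haveI : Fact (Nat.Prime 2) := ⟨Nat.prime_two⟩
  obtain ⟨k, hk⟩ := IsPGroup.iff_card.mp (ea_isPGroup hD)
  have hk3 : 3 ≤ k := by
    by_contra hlt
    push Not at hlt
    have h1 : 2 ^ k ≤ 2 ^ 2 := Nat.pow_le_pow_right (by norm_num) (by omega)
    have h2 : (2 : ℕ) ^ 2 = 4 := by norm_num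
    omega
  have hdvd : 2 ^ 3 ∣ Nat.card D := by rw [hk]; exact pow_dvd_pow 2 hk3
  have hKc' : Nat.card (K.subgroupOf D) = 2 ^ j := by
    rw [← hKc]; exact Nat.card_congr (Subgroup.subgroupOfEquivOfLe hK).toEquiv
  obtain ⟨A', hA'c, hA'K⟩ :=
    Sylow.exists_subgroup_card_pow_prime_le 2 hdvd (K.subgroupOf D) hKc' hj
  refine ⟨A'.map D.subtype, ?_, Subgroup.map_subtype_le A',
    ea_mono (Subgroup.map_subtype_le A') hD, ?_⟩
  · rw [← Subgroup.map_subgroupOf_eq_of_le hK]; exact Subgroup.map_mono hA'K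
  · rw [Subgroup.card_map_of_injective D.subtype_injective, hA'c]; norm_num

/-- the centralizers in `E` of two commuting involutions -/
theorem cent_two [Finite X] (E : Subgroup X) [hEn : E.Normal] (hE : Cfsg.IsElementaryAbelian 2 E)
    (hE32 : 32 ≤ Nat.card E) (v b : X) (v2 : v ^ 2 = 1) (b2 : b ^ 2 = 1) (hvb : v * b = b * v) :
    8 ≤ Nat.card (E ⊓ Subgroup.centralizer {v} : Subgroup X) ∧
    4 ≤ Nat.card ((E ⊓ Subgroup.centralizer {v}) ⊓ Subgroup.centralizer {b} : Subgroup X) := by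
  have h1 : 2 ^ 3 ≤ Nat.card (E ⊓ Subgroup.centralizer {v} : Subgroup X) :=
    cent_ge E hE v v2 (fun w hw => hEn.conj_mem w hw v) (m := 5) (j := 3)
      (by norm_num; exact hE32) (by norm_num)
  have hvb' : v * b⁻¹ = b⁻¹ * v := by
    calc v * b⁻¹ = b⁻¹ * (b * v) * b⁻¹ := by group
      _ = b⁻¹ * (v * b) * b⁻¹ := by rw [hvb]
      _ = b⁻¹ * v := by group
  have hnormb : ∀ w ∈ (E ⊓ Subgroup.centralizer {v} : Subgroup X),
      b * w * b⁻¹ ∈ (E ⊓ Subgroup.centralizer {v} : Subgroup X) := by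
    intro w hw
    rw [Subgroup.mem_inf, mem_cent_singleton] at hw ⊢
    refine ⟨hEn.conj_mem w hw.1 b, ?_⟩
    calc v * (b * w * b⁻¹) = (v * b) * w * b⁻¹ := by group
      _ = (b * v) * w * b⁻¹ := by rw [hvb]
      _ = b * (v * w) * b⁻¹ := by group
      _ = b * (w * v) * b⁻¹ := by rw [hw.2]
      _ = b * w * (v * b⁻¹) := by group
      _ = b * w * (b⁻¹ * v) := by rw [hvb']
      _ = b * w * b⁻¹ * v := by group
  have h2 : 2 ^ 2 ≤ Nat.card ((E ⊓ Subgroup.centralizer {v}) ⊓ Subgroup.centralizer {b} :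
      Subgroup X) :=
    cent_ge _ (ea_mono inf_le_left hE) b b2 hnormb (m := 3) (j := 2) h1 (by norm_num)
  constructor
  · calc 8 = 2 ^ 3 := by norm_num
      _ ≤ _ := h1
  · calc 4 = 2 ^ 2 := by norm_num
      _ ≤ _ := h2

/-- the adjacency relation of the statement -/
@[reducible] def Rel8 (C D : Subgroup X) : Prop :=
  Cfsg.IsElementaryAbelian 2 C ∧ Nat.card ↥C = 8 ∧ Cfsg.IsElementaryAbelian 2 D ∧
    Nat.card ↥D = 8 ∧ ⁅C, D⁆ = ⊥

theorem rel8_symm {C D : Subgroup X} (h : Rel8 C D) : Rel8 D C := by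
  obtain ⟨h1, h2, h3, h4, h5⟩ := h
  exact ⟨h3, h4, h1, h2, by rw [Subgroup.commutator_comm]; exact h5⟩

theorem chain_symm {C D : Subgroup X} (h : Relation.ReflTransGen Rel8 C D) :
    Relation.ReflTransGen Rel8 D C := by
  induction h with
  | refl => exact Relation.ReflTransGen.refl
  | tail _ hbc ih => exact (Relation.ReflTransGen.single (rel8_symm hbc)).trans ih

theorem mem_cent_of_forall {H : Subgroup X} {x : X} (h : ∀ y ∈ H, y * x = x * y) :
    x ∈ Subgroup.centralizer (H : Set X) := by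
  rw [Subgroup.mem_centralizer_iff]
  intro y hy
  exact h y hy

theorem connect [Finite X] (hX : IsPGroup 2 X) (E : Subgroup X) [hEn : E.Normal]
    (hE : Cfsg.IsElementaryAbelian 2 E) (hE32 : 32 ≤ Nat.card E) (A : Subgroup X)
    (hA : Cfsg.IsElementaryAbelian 2 A) (hA8 : Nat.card A = 8) :
    ∃ A' : Subgroup X, A' ≤ E ∧ Cfsg.IsElementaryAbelian 2 A' ∧ Nat.card A' = 8 ∧
      Relation.ReflTransGen Rel8 A A' := by
  haveI : Fact (Nat.Prime 2) := ⟨Nat.prime_two⟩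
  by_cases hAE : A ≤ E
  · exact ⟨A, hAE, hA, hA8, Relation.ReflTransGen.refl⟩
  obtain ⟨v, hvA, hvE⟩ := SetLike.not_le_iff_exists.mp hAE
  have v2 : v ^ 2 = 1 := hA.2 v hvA
  have v1 : v ≠ 1 := fun h => hvE (h ▸ E.one_mem)
  have hEne : E ≠ ⊥ := by
    intro h
    rw [h, Subgroup.card_bot] at hE32
    omega
  obtain ⟨u, huE, hu1, huZ⟩ := exists_central_in_normal hX E hEne
  have hu2 : u ^ 2 = 1 := hE.2 u huE
  have huc : ∀ g : X, g * u = u * g := fun g => Subgroup.mem_center_iff.mp huZ g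
  have hcv : Nat.card (Subgroup.zpowers v) = 2 := card_zpowers_invol v2 v1
  have hcu : Nat.card (Subgroup.zpowers u) = 2 := card_zpowers_invol hu2 hu1
  have hu_v : u ∉ Subgroup.zpowers v := by
    intro h
    have hle : Subgroup.zpowers u ≤ Subgroup.zpowers v := Subgroup.zpowers_le.mpr h
    have heq := Subgroup.eq_of_le_of_card_ge hle (by rw [hcv, hcu])
    have : v ∈ Subgroup.zpowers u := by rw [heq]; exact Subgroup.mem_zpowers v
    exact hvE ((Subgroup.zpowers_le.mpr huE) this)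
  obtain ⟨S, hS⟩ : ∃ S : Subgroup X, S = Subgroup.zpowers v ⊔ Subgroup.zpowers u := ⟨_, rfl⟩
  have hS4 : Nat.card S ≤ 4 := by rw [hS]; exact card_sup_two_le v2 hu2 (huc v)
  have hS4' : 4 ≤ Nat.card S := by
    have := card_ge_double (lt_sup_zpowers hu_v)
    rw [← hS, hcv] at this
    omega
  have hAS : ¬ A ≤ S := by
    intro h
    have := Subgroup.card_le_of_le h
    omega
  obtain ⟨b, hbA, hbS⟩ := SetLike.not_le_iff_exists.mp hAS
  have b2 : b ^ 2 = 1 := hA.2 b hbA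
  have hvb : v * b = b * v := ea_comm hA hvA hbA
  have hb_v : b ∉ Subgroup.zpowers v := fun h => hbS (by rw [hS]; exact Subgroup.mem_sup_left h)
  obtain ⟨V, hV⟩ : ∃ V : Subgroup X, V = Subgroup.zpowers v ⊔ Subgroup.zpowers b := ⟨_, rfl⟩
  have hVA : V ≤ A := by
    rw [hV]; exact sup_le (Subgroup.zpowers_le.mpr hvA) (Subgroup.zpowers_le.mpr hbA)
  have hV4 : Nat.card V ≤ 4 := by rw [hV]; exact card_sup_two_le v2 b2 hvb
  have hV4' : 4 ≤ Nat.card V := by
    have := card_ge_double (lt_sup_zpowers hb_v)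
    rw [← hV, hcv] at this
    omega
  have hu_V : u ∉ V := by
    intro h
    have hle : S ≤ V := by
      rw [hS]; exact sup_le (by rw [hV]; exact le_sup_left) (Subgroup.zpowers_le.mpr h)
    have heq := Subgroup.eq_of_le_of_card_ge hle (by omega)
    apply hbS
    rw [heq, hV]
    exact Subgroup.mem_sup_right (Subgroup.mem_zpowers b)
  -- first link
  obtain ⟨D₁, hD₁def⟩ : ∃ D₁ : Subgroup X, D₁ = V ⊔ Subgroup.zpowers u := ⟨_, rfl⟩
  obtain ⟨T₁, hT₁def⟩ : ∃ T₁ : Subgroup X, T₁ = A ⊔ Subgroup.zpowers u := ⟨_, rfl⟩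
  have hucent : ∀ H : Subgroup X, u ∈ Subgroup.centralizer (H : Set X) := fun H =>
    mem_cent_of_forall (fun y _ => huc y)
  have hT₁ : Cfsg.IsElementaryAbelian 2 T₁ := by
    rw [hT₁def]
    exact Cfsg.Agent.H1.isElementaryAbelian_sup_zpowers 2 A hA u (hucent A) hu2
  have hD₁T₁ : D₁ ≤ T₁ := by rw [hD₁def, hT₁def]; exact sup_le_sup_right hVA _
  have hD₁ : Cfsg.IsElementaryAbelian 2 D₁ := ea_mono hD₁T₁ hT₁
  have hD₁8 : 8 ≤ Nat.card D₁ := by
    have := card_ge_double (lt_sup_zpowers hu_V)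
    rw [← hD₁def] at this
    omega
  obtain ⟨A₁, -, hA₁D, hA₁, hA₁8⟩ :=
    exists_E8 hD₁ hD₁8 ⊥ bot_le (j := 0) (by simp) (by norm_num)
  have r1 : Rel8 A A₁ :=
    ⟨hA, hA8, hA₁, hA₁8, comm_eq_bot_of_le hT₁ (by rw [hT₁def]; exact le_sup_left)
      (hA₁D.trans hD₁T₁)⟩
  -- centralizers
  obtain ⟨C₁, hC₁def⟩ : ∃ C₁ : Subgroup X, C₁ = E ⊓ Subgroup.centralizer {v} := ⟨_, rfl⟩
  obtain ⟨C₂, hC₂def⟩ : ∃ C₂ : Subgroup X, C₂ = C₁ ⊓ Subgroup.centralizer {b} := ⟨_, rfl⟩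
  obtain ⟨hC₁8, hC₂4⟩ := cent_two E hE hE32 v b v2 b2 hvb
  rw [← hC₁def, ← hC₂def] at hC₂4
  rw [← hC₁def] at hC₁8
  have hC₁E : C₁ ≤ E := by rw [hC₁def]; exact inf_le_left
  have hC₂C₁ : C₂ ≤ C₁ := by rw [hC₂def]; exact inf_le_left
  have hC₁ : Cfsg.IsElementaryAbelian 2 C₁ := ea_mono hC₁E hE
  have hC₂ : Cfsg.IsElementaryAbelian 2 C₂ := ea_mono hC₂C₁ hC₁
  have hvC₁ : v ∈ Subgroup.centralizer (C₁ : Set X) := by
    apply mem_cent_of_forall
    intro y hy
    rw [hC₁def, Subgroup.mem_inf, mem_cent_singleton] at hy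
    exact hy.2.symm
  have hvC₂ : v ∈ Subgroup.centralizer (C₂ : Set X) := by
    apply mem_cent_of_forall
    intro y hy
    exact (Subgroup.mem_centralizer_iff.mp hvC₁) y (hC₂C₁ hy)
  obtain ⟨D₂, hD₂def⟩ : ∃ D₂ : Subgroup X, D₂ = C₂ ⊔ Subgroup.zpowers v := ⟨_, rfl⟩
  have hD₂ : Cfsg.IsElementaryAbelian 2 D₂ := by
    rw [hD₂def]
    exact Cfsg.Agent.H1.isElementaryAbelian_sup_zpowers 2 C₂ hC₂ v hvC₂ v2
  have hvC₂' : v ∉ C₂ := fun h => hvE (hC₁E (hC₂C₁ h))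
  have hD₂8 : 8 ≤ Nat.card D₂ := by
    have := card_ge_double (lt_sup_zpowers hvC₂')
    rw [← hD₂def] at this
    omega
  -- T₂
  obtain ⟨T₂a, hT₂adef⟩ : ∃ T : Subgroup X, T = D₂ ⊔ Subgroup.zpowers b := ⟨_, rfl⟩
  obtain ⟨T₂, hT₂def⟩ : ∃ T : Subgroup X, T = T₂a ⊔ Subgroup.zpowers u := ⟨_, rfl⟩
  have hbD₂ : b ∈ Subgroup.centralizer (D₂ : Set X) := by
    have hle : D₂ ≤ Subgroup.centralizer ({b} : Set X) := by
      rw [hD₂def]
      apply sup_le
      · rw [hC₂def]; exact inf_le_right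
      · rw [Subgroup.zpowers_le, mem_cent_singleton]; exact hvb.symm
    apply mem_cent_of_forall
    intro y hy
    exact (mem_cent_singleton.mp (hle hy)).symm
  have hT₂a : Cfsg.IsElementaryAbelian 2 T₂a := by
    rw [hT₂adef]
    exact Cfsg.Agent.H1.isElementaryAbelian_sup_zpowers 2 D₂ hD₂ b hbD₂ b2
  have hT₂ : Cfsg.IsElementaryAbelian 2 T₂ := by
    rw [hT₂def]
    exact Cfsg.Agent.H1.isElementaryAbelian_sup_zpowers 2 T₂a hT₂a u (hucent T₂a) hu2
  have hD₂T₂ : D₂ ≤ T₂ := by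
    rw [hT₂def, hT₂adef]; exact le_sup_left.trans le_sup_left
  have hD₁T₂ : D₁ ≤ T₂ := by
    rw [hD₁def, hV, hT₂def, hT₂adef, hD₂def]
    refine sup_le (sup_le ?_ ?_) le_sup_right
    · exact le_sup_right.trans (le_sup_left.trans le_sup_left)
    · exact le_sup_right.trans le_sup_left
  obtain ⟨A₂, -, hA₂D, hA₂, hA₂8⟩ :=
    exists_E8 hD₂ hD₂8 ⊥ bot_le (j := 0) (by simp) (by norm_num)
  have r2 : Rel8 A₁ A₂ :=
    ⟨hA₁, hA₁8, hA₂, hA₂8, comm_eq_bot_of_le hT₂ (hA₁D.trans hD₁T₂) (hA₂D.trans hD₂T₂)⟩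
  -- T₃
  obtain ⟨T₃, hT₃def⟩ : ∃ T : Subgroup X, T = C₁ ⊔ Subgroup.zpowers v := ⟨_, rfl⟩
  have hT₃ : Cfsg.IsElementaryAbelian 2 T₃ := by
    rw [hT₃def]
    exact Cfsg.Agent.H1.isElementaryAbelian_sup_zpowers 2 C₁ hC₁ v hvC₁ v2
  have hD₂T₃ : D₂ ≤ T₃ := by
    rw [hD₂def, hT₃def]; exact sup_le_sup_right hC₂C₁ _
  obtain ⟨A₃, -, hA₃D, hA₃, hA₃8⟩ :=
    exists_E8 hC₁ hC₁8 ⊥ bot_le (j := 0) (by simp) (by norm_num)
  have r3 : Rel8 A₂ A₃ :=
    ⟨hA₂, hA₂8, hA₃, hA₃8, comm_eq_bot_of_le hT₃ (hA₂D.trans hD₂T₃)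
      (hA₃D.trans (by rw [hT₃def]; exact le_sup_left))⟩
  exact ⟨A₃, hA₃D.trans hC₁E, hA₃, hA₃8,
    ((Relation.ReflTransGen.single r1).tail r2).tail r3⟩

end S1785aux

/-- Let X be a finite 2-group having a normal elementary abelian subgroup of order at least 32. Then (a) for any two elementary abelian subgroups A, B of X of order 8 there is a chain A = A₁, A₂, …, Aₙ = B of elementary abelian subgroups of order 8 in which consecutive members commute elementwise; and (b) every elementary abelian subgroup of X of order 4 is contained in an elementary abelian subgroup of order 8. -/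
theorem result {X : Type*} [Group X] [Finite X]
    (hX : IsPGroup 2 X) (E : Subgroup X) [E.Normal] (hE : Cfsg.IsElementaryAbelian 2 E) (hE32 : 32 ≤ Nat.card ↥E) :
    (∀ A B : Subgroup X, Cfsg.IsElementaryAbelian 2 A → Nat.card ↥A = 8 → Cfsg.IsElementaryAbelian 2 B → Nat.card ↥B = 8 →
        Relation.ReflTransGen
          (fun C D : Subgroup X => Cfsg.IsElementaryAbelian 2 C ∧ Nat.card ↥C = 8 ∧ Cfsg.IsElementaryAbelian 2 D ∧ Nat.card ↥D = 8 ∧ ⁅C, D⁆ = ⊥)
          A B) ∧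
      (∀ V : Subgroup X, Cfsg.IsElementaryAbelian 2 V → Nat.card ↥V = 4 →
        ∃ A : Subgroup X, V ≤ A ∧ Cfsg.IsElementaryAbelian 2 A ∧ Nat.card ↥A = 8) := by

  classical
  haveI : Fact (Nat.Prime 2) := ⟨Nat.prime_two⟩
  have hE8 : 8 ≤ Nat.card ↥E := by omega
  constructor
  · intro A B hA hA8 hB hB8
    obtain ⟨A', hA'E, hA', hA'8, cA⟩ := connect hX E hE hE32 A hA hA8
    obtain ⟨B', hB'E, hB', hB'8, cB⟩ := connect hX E hE hE32 B hB hB8
    have r : Rel8 A' B' := ⟨hA', hA'8, hB', hB'8, comm_eq_bot_of_le hE hA'E hB'E⟩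
    exact (cA.tail r).trans (chain_symm cB)
  · intro V hV hV4
    by_cases hVE : V ≤ E
    · obtain ⟨A, hVA, -, hA, hA8⟩ := exists_E8 hE hE8 V hVE (j := 2) (by rw [hV4]; norm_num)
        (by norm_num)
      exact ⟨A, hVA, hA, hA8⟩
    obtain ⟨v, hvV, hvE⟩ := SetLike.not_le_iff_exists.mp hVE
    have v2 : v ^ 2 = 1 := hV.2 v hvV
    have v1 : v ≠ 1 := fun h => hvE (h ▸ E.one_mem)
    have hcv : Nat.card (Subgroup.zpowers v) = 2 := card_zpowers_invol v2 v1
    have hVv : ¬ V ≤ Subgroup.zpowers v := by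
      intro h
      have := Subgroup.card_le_of_le h
      omega
    obtain ⟨b, hbV, hb_v⟩ := SetLike.not_le_iff_exists.mp hVv
    have b2 : b ^ 2 = 1 := hV.2 b hbV
    have hvb : v * b = b * v := ea_comm hV hvV hbV
    have hVeq : Subgroup.zpowers v ⊔ Subgroup.zpowers b = V := by
      have hle : Subgroup.zpowers v ⊔ Subgroup.zpowers b ≤ V :=
        sup_le (Subgroup.zpowers_le.mpr hvV) (Subgroup.zpowers_le.mpr hbV)
      apply Subgroup.eq_of_le_of_card_ge hle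
      have := card_ge_double (lt_sup_zpowers hb_v)
      omega
    obtain ⟨C₁, hC₁def⟩ : ∃ C₁ : Subgroup X, C₁ = E ⊓ Subgroup.centralizer {v} := ⟨_, rfl⟩
    obtain ⟨C₂, hC₂def⟩ : ∃ C₂ : Subgroup X, C₂ = C₁ ⊓ Subgroup.centralizer {b} := ⟨_, rfl⟩
    obtain ⟨hC₁8, hC₂4⟩ := cent_two E hE hE32 v b v2 b2 hvb
    rw [← hC₁def, ← hC₂def] at hC₂4
    have hC₁E : C₁ ≤ E := by rw [hC₁def]; exact inf_le_left
    have hC₂C₁ : C₂ ≤ C₁ := by rw [hC₂def]; exact inf_le_left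
    have hC₂ : Cfsg.IsElementaryAbelian 2 C₂ := ea_mono (hC₂C₁.trans hC₁E) hE
    have hvC₂ : v ∈ Subgroup.centralizer (C₂ : Set X) := by
      apply mem_cent_of_forall
      intro y hy
      have := hC₂C₁ hy
      rw [hC₁def, Subgroup.mem_inf, mem_cent_singleton] at this
      exact this.2.symm
    obtain ⟨D₂, hD₂def⟩ : ∃ D₂ : Subgroup X, D₂ = C₂ ⊔ Subgroup.zpowers v := ⟨_, rfl⟩
    have hD₂ : Cfsg.IsElementaryAbelian 2 D₂ := by
      rw [hD₂def]
      exact Cfsg.Agent.H1.isElementaryAbelian_sup_zpowers 2 C₂ hC₂ v hvC₂ v2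
    have hvC₂' : v ∉ C₂ := fun h => hvE (hC₁E (hC₂C₁ h))
    have hD₂8 : 8 ≤ Nat.card D₂ := by
      have := card_ge_double (lt_sup_zpowers hvC₂')
      rw [← hD₂def] at this
      omega
    obtain ⟨D, hDdef⟩ : ∃ D : Subgroup X, D = D₂ ⊔ Subgroup.zpowers b := ⟨_, rfl⟩
    have hbD₂ : b ∈ Subgroup.centralizer (D₂ : Set X) := by
      have hle : D₂ ≤ Subgroup.centralizer ({b} : Set X) := by
        rw [hD₂def]
        apply sup_le
        · rw [hC₂def]; exact inf_le_right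
        · rw [Subgroup.zpowers_le, mem_cent_singleton]; exact hvb.symm
      apply mem_cent_of_forall
      intro y hy
      exact (mem_cent_singleton.mp (hle hy)).symm
    have hD : Cfsg.IsElementaryAbelian 2 D := by
      rw [hDdef]
      exact Cfsg.Agent.H1.isElementaryAbelian_sup_zpowers 2 D₂ hD₂ b hbD₂ b2
    have hD8 : 8 ≤ Nat.card D := by
      have : D₂ ≤ D := by rw [hDdef]; exact le_sup_left
      exact hD₂8.trans (Subgroup.card_le_of_le this)
    have hVD : V ≤ D := by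
      rw [← hVeq, hDdef, hD₂def]
      exact sup_le (le_sup_right.trans le_sup_left) le_sup_right
    obtain ⟨A, hVA, -, hA, hA8⟩ := exists_E8 hD hD8 V hVD (j := 2) (by rw [hV4]; norm_num)
      (by norm_num)
    exact ⟨A, hVA, hA, hA8⟩

end Cfsg.Agent.S1785
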