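import Cfsg.Statements.S1850
import Mathlib
import Cfsg.Agent.Lib.Helper7.FStarLocal3
import Cfsg.Agent.Lib.Helper7.FStarLocal
import Cfsg.Agent.Lib.Helper7.FStarLocal2
import Cfsg.Agent.H2.CharP

set_option autoImplicit false
open Cfsg

namespace Cfsg.Agent.S1850

section

open Cfsg.Agent.Lib.Helper7


section chain
variable {G : Type*} [Group G] [Finite G] {p : ℕ} [Fact p.Prime]

/-- in a `p`-group `U`, a proper subgroup is properly contained in its normalizer in `U` -/
theorem lt_inf_normalizer (U : Subgroup G) (hU : IsPGroup p ↥U) (B : Subgroup G) (hBU : B ≤ U)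
    (hne : B ≠ U) : B < U ⊓ Subgroup.normalizer (B : Set G) := by
  haveI : Group.IsNilpotent ↥U := hU.isNilpotent
  have hlt : B.subgroupOf U < ⊤ := by
    rw [lt_top_iff_ne_top]
    intro h
    apply hne
    apply le_antisymm hBU
    rw [Subgroup.subgroupOf_eq_top] at h
    exact h
  have h1 := normalizerCondition_of_isNilpotent (G := ↥U) (B.subgroupOf U) hlt
  rw [← Subgroup.subgroupOf_normalizer_eq hBU] at h1
  refine lt_of_le_of_ne (le_inf hBU Subgroup.le_normalizer) ?_
  intro heq
  apply h1.ne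
  ext x
  rw [Subgroup.mem_subgroupOf, Subgroup.mem_subgroupOf]
  constructor
  · intro hx
    exact Subgroup.le_normalizer hx
  · intro hx
    rw [heq]
    exact ⟨x.2, hx⟩

/-- if `C ≤ U` are `p`-subgroups and `N_G(C)` has characteristic `p` then so has `N_G(U)` -/
theorem chain (U : Subgroup G) (hU : IsPGroup p ↥U) (C : Subgroup G) (hCU : C ≤ U)
    (hC : Cfsg.generalizedFittingSubgroup ↥(Subgroup.normalizer (C : Set G))
      = Cfsg.pCore p ↥(Subgroup.normalizer (C : Set G))) :
    Cfsg.generalizedFittingSubgroup ↥(Subgroup.normalizer (U : Set G))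
      = Cfsg.pCore p ↥(Subgroup.normalizer (U : Set G)) := by
  obtain ⟨B, hCB, hB⟩ := Finite.exists_le_maximal
    (p := fun B : Subgroup G => C ≤ B ∧ B ≤ U ∧
      Cfsg.generalizedFittingSubgroup ↥(Subgroup.normalizer (B : Set G))
        = Cfsg.pCore p ↥(Subgroup.normalizer (B : Set G))) (a := C) ⟨le_rfl, hCU, hC⟩
  obtain ⟨⟨h1, h2, h3⟩, hmax⟩ := hB
  by_cases hBU : B = U
  · rw [← hBU]; exact h3
  · exfalso
    have hlt := lt_inf_normalizer U hU B h2 hBU
    obtain ⟨B', hB'⟩ : ∃ B' : Subgroup G, B' = U ⊓ Subgroup.normalizer (B : Set G) := ⟨_, rfl⟩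
    rw [← hB'] at hlt
    have hB'U : B' ≤ U := by rw [hB']; exact inf_le_left
    have hn : (B.subgroupOf B').Normal := by
      rw [Subgroup.normal_subgroupOf_iff_le_normalizer hlt.le, hB']
      exact inf_le_right
    have h4 := (charP_normalizer_centralizer_of_normal_subgroup B' B (hU.to_le hB'U) hlt.le hn h3).1
    have h5 := hmax ⟨h1.trans hlt.le, hB'U, h4⟩ hlt.le
    exact (lt_of_lt_of_le hlt h5).false

end chain

end

section

open Cfsg.Agent.Lib.Helper7


/-- Let G be a non-abelian finite simple QTKE-group and T a Sylow 2-subgroup of G. If U is a nontrivial 2-subgroup of G with U ∩ Z(T) ≠ 1, then F*(N_G(U)) = O₂(N_G(U)). -/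
theorem result {G : Type*} [Group G] [Finite G] [IsSimpleGroup G]
    (hG : ¬ IsMulCommutative G) (hQ : Cfsg.IsQTKE G) (T : Sylow 2 G) (U : Subgroup G)
    (hU : IsPGroup 2 ↥U) (hZ : U ⊓ ((T : Subgroup G) ⊓ Subgroup.centralizer ((T : Subgroup G) : Set G)) ≠ ⊥) :
    Subgroup.normalizer (U : Set G) ∈ Cfsg.calHe G := by
  haveI : Fact (Nat.Prime 2) := ⟨Nat.prime_two⟩
  obtain ⟨⟨z, hz⟩, hz1⟩ := (Subgroup.ne_bot_iff_exists_ne_one).mp hZ
  have hz1' : z ≠ 1 := fun h => hz1 (Subtype.ext h)
  obtain ⟨hzU, hzT, hzC⟩ := hz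
  -- the centralizer of `z` has characteristic 2
  have hzp : IsPGroup 2 ↥(Subgroup.zpowers z) := T.isPGroup'.to_le (Subgroup.zpowers_le.mpr hzT)
  have hzne : Subgroup.zpowers z ≠ ⊥ := by rw [Ne, Subgroup.zpowers_eq_bot]; exact hz1'
  have hTz : (T : Subgroup G) ≤ Subgroup.centralizer ((Subgroup.zpowers z : Subgroup G) : Set G) := by
    rw [Subgroup.le_centralizer_iff, Subgroup.zpowers_le]
    exact hzC
  have hchar : IsCharP 2 ↥(Subgroup.normalizer ((Subgroup.zpowers z : Subgroup G) : Set G)) :=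
    hQ.2.2 _ ⟨Subgroup.zpowers z, hzp, hzne, rfl⟩
      ⟨T, hTz.trans (Subgroup.centralizer_le_normalizer _)⟩
  have hCN : Subgroup.centralizer ({z} : Set G)
      ≤ Subgroup.normalizer ((Subgroup.zpowers z : Subgroup G) : Set G) := by
    rw [centralizer_singleton_eq_centralizer_zpowers]
    exact Subgroup.centralizer_le_normalizer _
  haveI : ((Subgroup.centralizer ({z} : Set G)).subgroupOf
      (Subgroup.normalizer ((Subgroup.zpowers z : Subgroup G) : Set G))).Normal := by
    rw [Subgroup.normal_subgroupOf_iff_le_normalizer hCN,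
      centralizer_singleton_eq_centralizer_zpowers]
    exact Cfsg.Agent.H2.normalizer_le_normalizer_centralizer' _
  have h1 := hchar.normal ((Subgroup.centralizer ({z} : Set G)).subgroupOf
      (Subgroup.normalizer ((Subgroup.zpowers z : Subgroup G) : Set G)))
  have h2 : IsCharP 2 ↥(Subgroup.centralizer ({z} : Set G)) :=
    h1.of_equiv (Subgroup.subgroupOfEquivOfLe hCN)
  have h3 := fstar_eq_pCore_iff_isCharP.mpr h2
  -- `U₁ = C_U(z)`
  have hU1 : IsPGroup 2 ↥(U ⊓ Subgroup.centralizer ({z} : Set G)) := hU.to_le inf_le_left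
  have hzU1 : z ∈ U ⊓ Subgroup.centralizer ({z} : Set G) :=
    ⟨hzU, Subgroup.mem_centralizer_singleton_iff.mpr rfl⟩
  have hcomm : ∀ x ∈ U ⊓ Subgroup.centralizer ({z} : Set G), x * z = z * x := by
    intro x hx
    exact Subgroup.mem_centralizer_singleton_iff.mp hx.2
  have h4 := fstar_normalizer_of_fstar_centralizer _ hU1 z hzU1 hcomm h3
  exact chain U hU _ inf_le_left h4

end

end Cfsg.Agent.S1850
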