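import Cfsg.Statements.S1892
import Mathlib
import Cfsg.Agent.Lib.Lead.PSolvable
import Cfsg.Agent.Lib.Lead.ConjAut
import Cfsg.Agent.Lib.Lead.Conj

set_option autoImplicit false
open Cfsg

namespace Cfsg.Agent.S1892

open Cfsg.Agent.Lib.Lead.PSolvable Cfsg.Agent.Lib.Lead.ConjAut Cfsg.Agent.Lib.Lead.OmegaFaithful
open scoped commutatorElement

/-- the elements normalizing `P₀` and acting trivially on `R` modulo `P₀` -/
def stab {S : Type*} [Group S] (R P₀ : Subgroup S) [hR : R.Normal] : Subgroup S where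
  carrier := {y | y ∈ Subgroup.normalizer (P₀ : Set S) ∧ ∀ x ∈ R, y * x * y⁻¹ * x⁻¹ ∈ P₀}
  one_mem' := ⟨one_mem _, fun x _ => by simp⟩
  mul_mem' := by
    rintro y₁ y₂ ⟨h1, h1'⟩ ⟨h2, h2'⟩
    refine ⟨mul_mem h1 h2, fun x hx => ?_⟩
    have e : y₁ * y₂ * x * (y₁ * y₂)⁻¹ * x⁻¹ =
        (y₁ * (y₂ * x * y₂⁻¹ * x⁻¹) * y₁⁻¹) * (y₁ * x * y₁⁻¹ * x⁻¹) := by group
    rw [e]
    exact mul_mem ((Subgroup.mem_normalizer_iff.1 h1 _).1 (h2' x hx)) (h1' x hx)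
  inv_mem' := by
    rintro y ⟨h1, h1'⟩
    refine ⟨inv_mem h1, fun x hx => ?_⟩
    have e : y⁻¹ * x * y⁻¹⁻¹ * x⁻¹ = y⁻¹ * (y * x * y⁻¹ * x⁻¹)⁻¹ * y⁻¹⁻¹ := by group
    rw [e]
    exact (Subgroup.mem_normalizer_iff.1 (inv_mem h1) _).1 (inv_mem (h1' x hx))

/-- Let S be a finite p-solvable group with no nontrivial normal subgroup of order prime to p, A a p-subgroup of S, and Q a nontrivial A-invariant subgroup of order prime to p with [A, Q] = Q. Then the commutator [O_p(S), A, Q] is nontrivial. -/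
theorem result {S : Type*} [Group S] [Finite S] {p : ℕ} [Fact p.Prime]
    (hS : Cfsg.IsPSolvable p S) (hred : Cfsg.pPrimeCore p S = ⊥)
    (A Q : Subgroup S) (hA : IsPGroup p A) (hQ : ¬ p ∣ Nat.card Q) (hQ1 : Q ≠ ⊥)
    (hinv : ∀ a ∈ A, ∀ x ∈ Q, a * x * a⁻¹ ∈ Q) (hAQ : ⁅A, Q⁆ = Q) :
    ⁅⁅Cfsg.pCore p S, A⁆, Q⁆ ≠ ⊥ := by
  have hp : p.Prime := Fact.out
  intro hcon
  haveI hRn : (Cfsg.pCore p S).Normal := Cfsg.Agent.H1.pCore_normal p
  have hRp : IsPGroup p ↥(Cfsg.pCore p S) := Cfsg.Agent.H1.pCore_isPGroup p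
  have hP₀R : ⁅Cfsg.pCore p S, A⁆ ≤ Cfsg.pCore p S := Subgroup.commutator_le_left _ _
  -- `Q` centralizes `P₀`
  have hQc : ∀ q ∈ Q, ∀ d ∈ ⁅Cfsg.pCore p S, A⁆, q * d = d * q := by
    intro q hq d hd
    have h1 : ⁅d, q⁆ ∈ ⁅⁅Cfsg.pCore p S, A⁆, Q⁆ := Subgroup.commutator_mem_commutator hd hq
    rw [hcon, Subgroup.mem_bot, commutatorElement_def] at h1
    calc q * d = (d * q * d⁻¹ * q⁻¹)⁻¹ * (d * q) := by group
      _ = d * q := by rw [h1]; group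
  -- `A ≤ stab`
  have hAst : A ≤ stab (Cfsg.pCore p S) ⁅Cfsg.pCore p S, A⁆ := by
    intro a ha
    refine ⟨?_, fun x hx => ?_⟩
    · apply Cfsg.Agent.Lib.Lead.Conj.mem_normalizer_of_conj_mem
      intro r hr
      have hmap : (⁅Cfsg.pCore p S, A⁆).map (MulAut.conj a).toMonoidHom ≤ ⁅Cfsg.pCore p S, A⁆ := by
        rw [Subgroup.map_commutator]
        apply Subgroup.commutator_mono
        · rintro _ ⟨y, hy, rfl⟩
          exact hRn.conj_mem y hy a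
        · rintro _ ⟨y, hy, rfl⟩
          exact mul_mem (mul_mem ha hy) (inv_mem ha)
      exact hmap ⟨r, hr, rfl⟩
    · have h1 : ⁅a, x⁆ ∈ ⁅A, Cfsg.pCore p S⁆ := Subgroup.commutator_mem_commutator ha hx
      rw [Subgroup.commutator_comm] at h1
      rwa [commutatorElement_def] at h1
  -- `Q` normalizes `stab`
  have hQst : ∀ q ∈ Q, ∀ y ∈ stab (Cfsg.pCore p S) ⁅Cfsg.pCore p S, A⁆,
      q * y * q⁻¹ ∈ stab (Cfsg.pCore p S) ⁅Cfsg.pCore p S, A⁆ := by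
    rintro q hq y ⟨hy1, hy2⟩
    have hqN : q ∈ Subgroup.normalizer ((⁅Cfsg.pCore p S, A⁆ : Subgroup S) : Set S) := by
      apply Subgroup.centralizer_le_normalizer
      rw [Subgroup.mem_centralizer_iff]
      intro d hd
      exact (hQc q hq d hd).symm
    refine ⟨mul_mem (mul_mem hqN hy1) (inv_mem hqN), fun x hx => ?_⟩
    have hx' : q⁻¹ * x * q⁻¹⁻¹ ∈ Cfsg.pCore p S := hRn.conj_mem x hx q⁻¹
    have h1 := hy2 _ hx'
    have h2 := hQc q hq _ h1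
    have e : q * y * q⁻¹ * x * (q * y * q⁻¹)⁻¹ * x⁻¹ =
        q * (y * (q⁻¹ * x * q⁻¹⁻¹) * y⁻¹ * (q⁻¹ * x * q⁻¹⁻¹)⁻¹) * q⁻¹ := by group
    rw [e, h2]
    have e2 : y * (q⁻¹ * x * q⁻¹⁻¹) * y⁻¹ * (q⁻¹ * x * q⁻¹⁻¹)⁻¹ * q * q⁻¹ =
        y * (q⁻¹ * x * q⁻¹⁻¹) * y⁻¹ * (q⁻¹ * x * q⁻¹⁻¹)⁻¹ := by group
    rw [e2]; exact h1
  -- `Q ≤ stab`
  have hQle : Q ≤ stab (Cfsg.pCore p S) ⁅Cfsg.pCore p S, A⁆ := by
    rw [← hAQ, Subgroup.commutator_le]
    intro a ha q hq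
    rw [commutatorElement_def]
    have h1 := hAst ha
    have h2 := hQst q hq a⁻¹ (inv_mem h1)
    have e : a * q * a⁻¹ * q⁻¹ = a * (q * a⁻¹ * q⁻¹) := by group
    rw [e]
    exact mul_mem h1 h2
  -- `Q` centralizes `O_p(S)`
  have hQcent : Q ≤ Subgroup.centralizer ((Cfsg.pCore p S : Subgroup S) : Set S) := by
    intro q hq
    rw [Subgroup.mem_centralizer_iff]
    intro x hx
    have hqN : q ∈ Subgroup.normalizer ((Cfsg.pCore p S : Subgroup S) : Set S) := by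
      rw [Subgroup.normalizer_eq_top]; exact Subgroup.mem_top q
    obtain ⟨a, ha, hoa⟩ := exists_mulAut (Cfsg.pCore p S) q hqN
    have hqcop : (orderOf q).Coprime p := by
      have h1 : orderOf q ∣ Nat.card ↥Q := by
        have := orderOf_dvd_natCard (⟨q, hq⟩ : ↥Q)
        rwa [Subgroup.orderOf_mk] at this
      exact Nat.Coprime.coprime_dvd_left h1 ((Nat.Prime.coprime_iff_not_dvd hp).2 hQ).symm
    have hacop : (orderOf a).Coprime p := Nat.Coprime.coprime_dvd_left hoa hqcop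
    -- the commutator `d = x q x⁻¹ q⁻¹`
    have hd : x * q * x⁻¹ * q⁻¹ ∈ ⁅Cfsg.pCore p S, A⁆ := by
      have := inv_mem ((hQle hq).2 x hx)
      have e : (q * x * q⁻¹ * x⁻¹)⁻¹ = x * q * x⁻¹ * q⁻¹ := by group
      rwa [e] at this
    have hdR : x * q * x⁻¹ * q⁻¹ ∈ Cfsg.pCore p S := hP₀R hd
    obtain ⟨j, hj⟩ := hRp ⟨_, hdR⟩
    have h1 : a (⟨x, hx⟩⁻¹ : ↥(Cfsg.pCore p S)) = (⟨x, hx⟩⁻¹ : ↥(Cfsg.pCore p S)) * ⟨_, hdR⟩ := by
      apply Subtype.ext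
      rw [ha, Subgroup.coe_mul]
      simp only [Subgroup.coe_inv]
      group
    have h2 : a (⟨_, hdR⟩ : ↥(Cfsg.pCore p S)) = ⟨_, hdR⟩ := by
      apply Subtype.ext
      rw [ha]
      have := hQc q hq _ hd
      simp only
      rw [this]; group
    have h3 := eq_one_of_step a hacop h1 h2 hj
    have h4 : x * q * x⁻¹ * q⁻¹ = 1 := congrArg Subtype.val h3
    calc x * q = (x * q * x⁻¹ * q⁻¹) * (q * x) := by group
      _ = q * x := by rw [h4, one_mul]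
  have hHH := centralizer_pCore_le hS hred
  have hQR : Q ≤ Cfsg.pCore p S := hQcent.trans hHH
  have hQp : IsPGroup p ↥Q := hRp.to_le hQR
  obtain ⟨k, hk⟩ := IsPGroup.iff_card.1 hQp
  have hk0 : k = 0 := by
    by_contra hne
    exact hQ (hk ▸ dvd_pow_self p hne)
  rw [hk0, pow_zero, Subgroup.card_eq_one] at hk
  exact hQ1 hk

end Cfsg.Agent.S1892
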