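import Cfsg.Statements.S1894
import Mathlib
import Cfsg.Agent.Lib.Lead.PGroup

set_option autoImplicit false
open Cfsg

namespace Cfsg.Agent.S1894

/-- Let P be a finite p-group, A a normal subgroup of P and B an abelian subgroup of A that is normal in P. Then some subgroup C of A containing B is normal in P and is self-centralizing and normal in A (C ∈ SCN(A)). -/
theorem result {P : Type*} [Group P] [Finite P] {p : ℕ} [Fact p.Prime] (hP : IsPGroup p P)
    (A : Subgroup P) [A.Normal] (B : Subgroup P) [B.Normal] (hBA : B ≤ A) (hB : IsMulCommutative B) :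
    ∃ C : Subgroup P, C.Normal ∧ B ≤ C ∧ Cfsg.IsSCN A C := by
  classical
  let 𝒮 : Set (Subgroup P) := {C | C.Normal ∧ B ≤ C ∧ C ≤ A ∧ IsMulCommutative ↥C}
  have h𝒮fin : 𝒮.Finite := Set.toFinite 𝒮
  have h𝒮ne : 𝒮.Nonempty := ⟨B, inferInstance, le_rfl, hBA, hB⟩
  obtain ⟨C, hC⟩ := h𝒮fin.exists_maximal h𝒮ne
  obtain ⟨hCn, hBC, hCA, hCab⟩ := hC.prop
  have hCcent : C ≤ Subgroup.centralizer (C : Set P) := by
    intro a ha
    rw [Subgroup.mem_centralizer_iff]
    intro b hb
    have := hCab.is_comm.comm ⟨b, hb⟩ ⟨a, ha⟩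
    exact congrArg Subtype.val this
  refine ⟨C, hCn, hBC, hCA, ?_, ?_⟩
  · rw [Subgroup.normalizer_eq_top]; exact le_top
  · apply le_antisymm _ (le_inf hCA hCcent)
    by_contra hnot
    -- D = A ⊓ C_P(C) is not contained in C
    set D : Subgroup P := A ⊓ Subgroup.centralizer (C : Set P) with hD
    haveI : (Subgroup.centralizer (C : Set P)).Normal := Subgroup.normal_centralizer
    haveI hDn : D.Normal := inferInstance
    -- pass to the quotient
    let Q := P ⧸ C
    have hQ : IsPGroup p Q := hP.to_quotient C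
    let D' : Subgroup Q := D.map (QuotientGroup.mk' C)
    haveI : D'.Normal := Subgroup.Normal.map hDn _ (QuotientGroup.mk'_surjective C)
    have hD' : D' ≠ ⊥ := by
      intro h
      apply hnot
      intro d hd
      have : (QuotientGroup.mk' C d) ∈ D' := ⟨d, hd, rfl⟩
      rw [h, Subgroup.mem_bot] at this
      exact (QuotientGroup.eq_one_iff d).mp this
    obtain ⟨y, hyD, hyZ, hy1⟩ :=
      Cfsg.Agent.Lib.Lead.PGroup.exists_mem_center_of_normal hQ D' hD'
    obtain ⟨x, hxD, rfl⟩ := hyD
    have hxC : x ∉ C := fun h => hy1 ((QuotientGroup.eq_one_iff x).mpr h)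
    have hxA : x ∈ A := (Subgroup.mem_inf.mp hxD).1
    have hxcent : x ∈ Subgroup.centralizer (C : Set P) := (Subgroup.mem_inf.mp hxD).2
    -- E = C ⊔ ⟨x⟩
    set E : Subgroup P := C ⊔ Subgroup.zpowers x with hE
    have hxE : x ∈ E := (le_sup_right : Subgroup.zpowers x ≤ E) (Subgroup.mem_zpowers x)
    have hCE : C ≤ E := le_sup_left
    have hEA : E ≤ A := sup_le hCA (by rw [Subgroup.zpowers_le]; exact hxA)
    -- E is normal
    have hEn : E.Normal := by
      have key : ∀ g : P, E.map (MulAut.conj g).toMonoidHom ≤ E := by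
        intro g
        rw [hE, Subgroup.map_sup]
        apply sup_le
        · intro c hc
          obtain ⟨c', hc', rfl⟩ := hc
          exact hCE (hCn.conj_mem c' hc' g)
        · rw [MonoidHom.map_zpowers, Subgroup.zpowers_le]
          show g * x * g⁻¹ ∈ E
          -- g x g⁻¹ x⁻¹ ∈ C
          rw [Subgroup.mem_center_iff] at hyZ
          have h1 := hyZ (QuotientGroup.mk' C g)
          have h2 : (QuotientGroup.mk' C) (x⁻¹ * (g * x * g⁻¹)) = 1 := by
            simp only [map_mul, map_inv]
            rw [h1]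
            group
          have h3 : x⁻¹ * (g * x * g⁻¹) ∈ C := (QuotientGroup.eq_one_iff _).mp h2
          have : g * x * g⁻¹ = x * (x⁻¹ * (g * x * g⁻¹)) := by group
          rw [this]
          exact E.mul_mem hxE (hCE h3)
      exact ⟨fun n hn g => key g ⟨n, hn, rfl⟩⟩
    -- E is abelian
    have hEab : IsMulCommutative ↥E := by
      have hgen : E = Subgroup.closure ((C : Set P) ∪ {x}) := by
        rw [hE, Subgroup.closure_union, Subgroup.closure_eq, Subgroup.zpowers_eq_closure]
      have hsub : ((C : Set P) ∪ {x}) ⊆ Subgroup.centralizer ((C : Set P) ∪ {x}) := by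
        intro a ha
        rw [SetLike.mem_coe, Subgroup.mem_centralizer_iff]
        intro b hb
        rcases ha with ha | ha <;> rcases hb with hb | hb
        · have := hCab.is_comm.comm ⟨b, hb⟩ ⟨a, ha⟩
          exact congrArg Subtype.val this
        · rw [Set.mem_singleton_iff] at hb; subst hb
          rw [Subgroup.mem_centralizer_iff] at hxcent
          exact (hxcent a ha).symm
        · rw [Set.mem_singleton_iff] at ha; subst ha
          rw [Subgroup.mem_centralizer_iff] at hxcent
          exact hxcent b hb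
        · rw [Set.mem_singleton_iff] at ha hb; subst ha; subst hb; rfl
      have hle : E ≤ Subgroup.centralizer (E : Set P) := by
        rw [hgen, Subgroup.centralizer_closure, Subgroup.closure_le]
        exact hsub
      refine ⟨⟨fun a b => ?_⟩⟩
      have := hle a.2
      rw [Subgroup.mem_centralizer_iff] at this
      exact Subtype.ext (this b b.2).symm
    have hE𝒮 : E ∈ 𝒮 := ⟨hEn, le_trans hBC hCE, hEA, hEab⟩
    have := hC.le_of_ge hE𝒮 hCE
    exact hxC (this hxE)

end Cfsg.Agent.S1894
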