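import Mathlib
import Cfsg.Statements.S1895
import Cfsg.Agent.H2.ChiefRank2B

set_option autoImplicit false
open Cfsg

namespace Cfsg.Agent.S1895

/-- Let p be an odd prime and G a finite p-solvable group with no elementary abelian subgroup of order p³. Then every chief factor H/K of G (H, K normal in G with no normal subgroup of G strictly between them) whose order is a power of p has order p or p². -/
theorem result {G : Type*} [Group G] [Finite G] {p : ℕ} [Fact p.Prime] (hp : p ≠ 2)
    (hG : Cfsg.IsPSolvable p G) (hr : Cfsg.PRankLE p 2 G)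
    (H K : Subgroup G) [H.Normal] [K.Normal] (hKH : K < H) (hpow : ∃ n : ℕ, K.relIndex H = p ^ n)
    (hchief : ∀ L : Subgroup G, L.Normal → K ≤ L → L ≤ H → L = K ∨ L = H) :
    K.relIndex H = p ∨ K.relIndex H = p ^ 2 := by
  classical
  have hpp : p.Prime := Fact.out
  obtain ⟨n, hn⟩ := hpow
  have hn0 : n ≠ 0 := by
    rintro rfl
    rw [pow_zero, Subgroup.relIndex_eq_one] at hn
    exact (not_le_of_gt hKH) hn
  -- a Sylow `p`-subgroup of `H`
  obtain ⟨P₀⟩ : Nonempty (Sylow p ↥H) := inferInstance
  set S : Subgroup G := (P₀ : Subgroup ↥H).map H.subtype with hS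
  have hSH : S ≤ H := Subgroup.map_subtype_le _
  have hSp : IsPGroup p S := P₀.isPGroup'.map H.subtype
  have hSidx : ¬ p ∣ S.relIndex H := by
    have h2 : S.relIndex H = (P₀ : Subgroup ↥H).index := by
      unfold Subgroup.relIndex Subgroup.subgroupOf
      rw [hS, Subgroup.comap_map_eq_self_of_injective H.subtype_injective]
    rw [h2]
    exact P₀.not_dvd_index
  -- `H = S ⊔ K`
  have hSK : S ⊔ K = H := by
    apply le_antisymm (sup_le hSH hKH.le)
    rw [← Subgroup.relIndex_eq_one]
    have h1 : (S ⊔ K).relIndex H ∣ K.relIndex H := Subgroup.relIndex_dvd_of_le_left H le_sup_right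
    have h2 : (S ⊔ K).relIndex H ∣ S.relIndex H := Subgroup.relIndex_dvd_of_le_left H le_sup_left
    rw [hn] at h1
    obtain ⟨a, -, ha⟩ := (Nat.dvd_prime_pow hpp).mp h1
    rcases Nat.eq_zero_or_pos a with rfl | hapos
    · rw [ha, pow_zero]
    · exfalso
      apply hSidx
      refine dvd_trans ?_ h2
      rw [ha]
      exact dvd_pow_self p hapos.ne'
  have hSnotK : ¬ S ≤ K := by
    intro h
    have : H ≤ K := by rw [← hSK]; exact sup_le h le_rfl
    exact (not_le_of_gt hKH) this
  -- Frattini
  have hfrat : Subgroup.normalizer (S : Set G) ⊔ H = ⊤ := Sylow.normalizer_sup_eq_top P₀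
  set N : Subgroup G := Subgroup.normalizer (S : Set G) with hN
  have hSN : S ≤ N := Subgroup.le_normalizer
  -- apply the theorem in the group `↥N`
  have hKn' : ((S ⊓ K).subgroupOf N).Normal := by
    constructor
    intro x hx g
    rw [Subgroup.mem_subgroupOf] at hx ⊢
    obtain ⟨hxS, hxK⟩ := Subgroup.mem_inf.mp hx
    refine Subgroup.mem_inf.mpr ⟨?_, ?_⟩
    · have := (Subgroup.mem_normalizer_iff.mp g.2 (x : G)).mp hxS
      simpa using this
    · have := (inferInstance : K.Normal).conj_mem (x : G) hxK (g : G)
      simpa using this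
  have hmem_map : ∀ (L' : Subgroup ↥N) (x : ↥N), (x : G) ∈ L'.map N.subtype ↔ x ∈ L' := by
    intro L' x
    exact Subgroup.mem_map_iff_mem N.subtype_injective
  have key := Cfsg.Agent.H2.ChiefRank2.chief_le_sq (G := ↥N) hp (Nat.card (S.subgroupOf N)) (S.subgroupOf N)
    ((S ⊓ K).subgroupOf N) inferInstance hKn' le_rfl
    (hSp.comap_of_injective N.subtype N.subtype_injective)
    (by
      intro A _ hA hAp
      have h1 := hr (A.map N.subtype)
        (by
          refine ⟨⟨?_⟩⟩
          rintro ⟨_, ⟨a, ha, rfl⟩⟩ ⟨_, ⟨b, hb, rfl⟩⟩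
          apply Subtype.ext
          have := hA.is_comm.comm ⟨a, ha⟩ ⟨b, hb⟩
          have h2 := congrArg (fun u : ↥A => ((u : ↥N) : G)) this
          simpa using h2)
        (by
          rintro _ ⟨a, ha, rfl⟩
          have := hAp a ha
          have h2 := congrArg (fun u : ↥N => (u : G)) this
          simpa using h2)
      rwa [Subgroup.card_map_of_injective N.subtype_injective] at h1)
    (by
      refine lt_of_le_of_ne ?_ ?_
      · intro x hx
        rw [Subgroup.mem_subgroupOf] at hx ⊢
        exact (Subgroup.mem_inf.mp hx).1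
      · intro h
        apply hSnotK
        intro s hs
        have h1 : (⟨s, hSN hs⟩ : ↥N) ∈ S.subgroupOf N := by
          rw [Subgroup.mem_subgroupOf]; exact hs
        rw [← h, Subgroup.mem_subgroupOf] at h1
        exact (Subgroup.mem_inf.mp h1).2)
    (by
      intro L' hL'n hKL hLS
      set L : Subgroup G := L'.map N.subtype with hL
      have hLS' : L ≤ S := by
        rintro _ ⟨x, hx, rfl⟩
        have := hLS hx
        rwa [Subgroup.mem_subgroupOf] at this
      have hSKL : S ⊓ K ≤ L := by
        intro x hx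
        have hxN : x ∈ N := hSN (Subgroup.mem_inf.mp hx).1
        have h1 : (⟨x, hxN⟩ : ↥N) ∈ (S ⊓ K).subgroupOf N := by
          rw [Subgroup.mem_subgroupOf]; exact hx
        exact (hmem_map L' ⟨x, hxN⟩).mpr (hKL h1)
      -- `L ⊔ K` is normal in `G`
      have hLKn : (L ⊔ K).Normal := by
        have h1 : N ≤ Subgroup.normalizer ((L ⊔ K : Subgroup G) : Set G) := by
          intro g hg
          rw [Subgroup.mem_normalizer_iff]
          have hconj : ∀ g : G, g ∈ N → ∀ y ∈ L ⊔ K, g * y * g⁻¹ ∈ L ⊔ K := by
            intro g hg y hy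
            obtain ⟨l, hl, k, hk, rfl⟩ := Subgroup.mem_sup_of_normal_right.mp hy
            have h2 : g * (l * k) * g⁻¹ = (g * l * g⁻¹) * (g * k * g⁻¹) := by group
            rw [h2]
            refine Subgroup.mul_mem _ (le_sup_left (a := L) ?_)
              (le_sup_right (a := L) ((inferInstance : K.Normal).conj_mem k hk g))
            obtain ⟨l', hl', rfl⟩ := hl
            have := hL'n.conj_mem l' hl' ⟨g, hg⟩
            exact ⟨_, this, by simp⟩
          intro y
          constructor
          · exact hconj g hg y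
          · intro hy
            have := hconj g⁻¹ (N.inv_mem hg) _ hy
            have h3 : g⁻¹ * (g * y * g⁻¹) * g⁻¹⁻¹ = y := by group
            rwa [h3] at this
        have h2 : H ≤ Subgroup.normalizer ((L ⊔ K : Subgroup G) : Set G) := by
          rw [← hSK]
          apply sup_le (hSN.trans h1)
          exact le_trans (le_sup_right : K ≤ L ⊔ K) Subgroup.le_normalizer
        have h3 : Subgroup.normalizer ((L ⊔ K : Subgroup G) : Set G) = ⊤ := by
          rw [eq_top_iff, ← hfrat]
          exact sup_le h1 h2
        exact Subgroup.normalizer_eq_top_iff.mp h3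
      rcases hchief (L ⊔ K) hLKn le_sup_right (sup_le (hLS'.trans hSH) hKH.le) with h | h
      · left
        apply le_antisymm _ hKL
        intro x hx
        rw [Subgroup.mem_subgroupOf]
        have hxL : (x : G) ∈ L := (hmem_map L' x).mpr hx
        exact Subgroup.mem_inf.mpr ⟨hLS' hxL, h ▸ (le_sup_left : L ≤ L ⊔ K) hxL⟩
      · right
        apply le_antisymm hLS
        intro x hx
        rw [Subgroup.mem_subgroupOf] at hx
        have hxH : (x : G) ∈ L ⊔ K := by rw [h]; exact hSH hx
        obtain ⟨l, hl, k, hk, hlk⟩ := Subgroup.mem_sup_of_normal_right.mp hxH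
        have hkS : k ∈ S := by
          have : k = l⁻¹ * (x : G) := by rw [← hlk]; group
          rw [this]
          exact S.mul_mem (S.inv_mem (hLS' hl)) hx
        have hxL : (x : G) ∈ L := by
          rw [← hlk]
          exact L.mul_mem hl (hSKL (Subgroup.mem_inf.mpr ⟨hkS, hk⟩))
        exact (hmem_map L' x).mp hxL)
  -- transfer the index
  have hidx : ((S ⊓ K).subgroupOf N).relIndex (S.subgroupOf N) = K.relIndex H := by
    rw [Subgroup.relIndex_subgroupOf hSN, Subgroup.inf_relIndex_left, ← Subgroup.relIndex_sup_right,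
      hSK]
  rw [hidx, hn] at key
  have hn2 : n ≤ 2 := (Nat.pow_le_pow_iff_right hpp.one_lt).mp key
  rw [hn]
  have : n = 1 ∨ n = 2 := by omega
  rcases this with rfl | rfl
  · left; rw [pow_one]
  · right; rfl

end Cfsg.Agent.S1895
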