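import Mathlib
import Cfsg.Statements.S1897
import Cfsg.Agent.Lib.Helper8.PSU33Table
import Cfsg.Agent.Lib.Helper8.F9
import Cfsg.Agent.Lib.Helper5.Herm
import Cfsg.Agent.S0255
import Cfsg.Agent.S0253

set_option autoImplicit false
open Cfsg

namespace Cfsg.Agent.S1897

open Matrix Cfsg.Agent.Lib.Helper8 Cfsg.Agent.Lib.Helper8.PSL27Table
  Cfsg.Agent.Lib.Helper8.PSU33Table
open Cfsg.Agent.S0255 (M3 v v_lt cast_v mcode mcode_mul ndet_of_det S3 card_S3)

/-- decoding of `a + 3 b` -/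
def dec9 (n : ℕ) : F9 := ⟨((n % 3 : ℕ) : ZMod 3), ((n / 3 : ℕ) : ZMod 3)⟩

theorem ent_lt (m k : ℕ) : ent m k < 9 := Nat.mod_lt _ (by norm_num)

theorem nadd9_lt (x y : ℕ) : nadd9 x y < 9 := by unfold nadd9; omega

theorem nmul9_lt (x y : ℕ) : nmul9 x y < 9 := by unfold nmul9; omega

theorem nneg9_lt (x : ℕ) : nneg9 x < 9 := by unfold nneg9; omega

theorem nconj9_lt (x : ℕ) : nconj9 x < 9 := by unfold nconj9; omega

theorem dec9_add {x y : ℕ} (hx : x < 9) (hy : y < 9) : dec9 (nadd9 x y) = dec9 x + dec9 y := by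
  have h : ∀ x < 9, ∀ y < 9, dec9 (nadd9 x y) = dec9 x + dec9 y := by decide
  exact h x hx y hy

theorem dec9_mul {x y : ℕ} (hx : x < 9) (hy : y < 9) : dec9 (nmul9 x y) = dec9 x * dec9 y := by
  have h : ∀ x < 9, ∀ y < 9, dec9 (nmul9 x y) = dec9 x * dec9 y := by decide
  exact h x hx y hy

theorem dec9_neg {x : ℕ} (hx : x < 9) : dec9 (nneg9 x) = -dec9 x := by
  have h : ∀ x < 9, dec9 (nneg9 x) = -dec9 x := by decide
  exact h x hx

theorem dec9_conj {x : ℕ} (hx : x < 9) : dec9 (nconj9 x) = dec9 x ^ 3 := by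
  have h : ∀ x < 9, dec9 (nconj9 x) = dec9 x ^ 3 := by decide
  exact h x hx

theorem dec9_one : dec9 1 = 1 := rfl

theorem dec9_zero : dec9 0 = 0 := rfl

/-- the decoded `n`-th entry of the image of `A` -/
abbrev dd (A : M3) (n : ℕ) : F9 := dec9 (ent (look9 (mcode A)) n)

/-- the image matrix over `F9` -/
def T9 (A : M3) : Matrix (Fin 3) (Fin 3) F9 :=
  !![dd A 0, dd A 1, dd A 2; dd A 3, dd A 4, dd A 5; dd A 6, dd A 7, dd A 8]

theorem T9_mul_of {A B : M3} (h : nhomOK9 (v A 0 0) (v A 0 1) (v A 0 2) (v A 1 0) (v A 1 1) (v A 1 2) (v A 2 0) (v A 2 1) (v A 2 2) (v B 0 0) (v B 0 1) (v B 0 2) (v B 1 0) (v B 1 1) (v B 1 2) (v B 2 0) (v B 2 1) (v B 2 2) = true) :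
    T9 (A * B) = T9 A * T9 B := by
  unfold nhomOK9 at h
  simp only [← mcode_mul] at h
  have hA : ncode (v A 0 0) (v A 0 1) (v A 0 2) (v A 1 0) (v A 1 1) (v A 1 2) (v A 2 0) (v A 2 1) (v A 2 2) = mcode A := rfl
  have hB : ncode (v B 0 0) (v B 0 1) (v B 0 2) (v B 1 0) (v B 1 1) (v B 1 2) (v B 2 0) (v B 2 1) (v B 2 2) = mcode B := rfl
  simp only [hA, hB, Bool.and_eq_true] at h
  obtain ⟨⟨⟨⟨⟨⟨⟨⟨h0, h1⟩, h2⟩, h3⟩, h4⟩, h5⟩, h6⟩, h7⟩, h8⟩ := h
  have e0 := congrArg dec9 (Nat.eq_of_beq_eq_true h0)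
  have e1 := congrArg dec9 (Nat.eq_of_beq_eq_true h1)
  have e2 := congrArg dec9 (Nat.eq_of_beq_eq_true h2)
  have e3 := congrArg dec9 (Nat.eq_of_beq_eq_true h3)
  have e4 := congrArg dec9 (Nat.eq_of_beq_eq_true h4)
  have e5 := congrArg dec9 (Nat.eq_of_beq_eq_true h5)
  have e6 := congrArg dec9 (Nat.eq_of_beq_eq_true h6)
  have e7 := congrArg dec9 (Nat.eq_of_beq_eq_true h7)
  have e8 := congrArg dec9 (Nat.eq_of_beq_eq_true h8)
  simp only [dec9_add, dec9_mul, nadd9_lt, nmul9_lt, ent_lt] at e0 e1 e2 e3 e4 e5 e6 e7 e8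
  unfold T9
  rw [Matrix.mul_fin_three]
  unfold dd
  rw [e0, e1, e2, e3, e4, e5, e6, e7, e8]

theorem T9_unitary {A : M3} (hA : A.det = 1) (j k : Fin 3) :
    ∑ i, T9 A i j * (T9 A i k) ^ 3 = if j = k then 1 else 0 := by
  obtain ⟨hrow, -, -⟩ := check_gen9 (v_lt A 0 0) (v_lt A 0 1) (v_lt A 0 2) (v_lt A 1 0) (v_lt A 1 1) (v_lt A 1 2) (v_lt A 2 0) (v_lt A 2 1) (v_lt A 2 2) (ndet_of_det hA)
  unfold nrowOK9 at hrow
  have hm : ncode (v A 0 0) (v A 0 1) (v A 0 2) (v A 1 0) (v A 1 1) (v A 1 2) (v A 2 0) (v A 2 1) (v A 2 2) = mcode A := rfl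
  simp only [hm, Bool.and_eq_true] at hrow
  obtain ⟨⟨⟨⟨⟨⟨⟨⟨⟨hdet, u00⟩, u01⟩, u02⟩, u10⟩, u11⟩, u12⟩, u20⟩, u21⟩, u22⟩ := hrow
  rw [Fin.sum_univ_three]
  fin_cases j <;> fin_cases k
  · show dd A 0 * dd A 0 ^ 3 + dd A 3 * dd A 3 ^ 3 + dd A 6 * dd A 6 ^ 3 = 1
    have e := congrArg dec9 (Nat.eq_of_beq_eq_true u00)
    simp only [dec9_add, dec9_mul, dec9_conj, nadd9_lt, nmul9_lt, nconj9_lt, ent_lt] at e
    exact e
  · show dd A 0 * dd A 1 ^ 3 + dd A 3 * dd A 4 ^ 3 + dd A 6 * dd A 7 ^ 3 = 0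
    have e := congrArg dec9 (Nat.eq_of_beq_eq_true u01)
    simp only [dec9_add, dec9_mul, dec9_conj, nadd9_lt, nmul9_lt, nconj9_lt, ent_lt] at e
    exact e
  · show dd A 0 * dd A 2 ^ 3 + dd A 3 * dd A 5 ^ 3 + dd A 6 * dd A 8 ^ 3 = 0
    have e := congrArg dec9 (Nat.eq_of_beq_eq_true u02)
    simp only [dec9_add, dec9_mul, dec9_conj, nadd9_lt, nmul9_lt, nconj9_lt, ent_lt] at e
    exact e
  · show dd A 1 * dd A 0 ^ 3 + dd A 4 * dd A 3 ^ 3 + dd A 7 * dd A 6 ^ 3 = 0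
    have e := congrArg dec9 (Nat.eq_of_beq_eq_true u10)
    simp only [dec9_add, dec9_mul, dec9_conj, nadd9_lt, nmul9_lt, nconj9_lt, ent_lt] at e
    exact e
  · show dd A 1 * dd A 1 ^ 3 + dd A 4 * dd A 4 ^ 3 + dd A 7 * dd A 7 ^ 3 = 1
    have e := congrArg dec9 (Nat.eq_of_beq_eq_true u11)
    simp only [dec9_add, dec9_mul, dec9_conj, nadd9_lt, nmul9_lt, nconj9_lt, ent_lt] at e
    exact e
  · show dd A 1 * dd A 2 ^ 3 + dd A 4 * dd A 5 ^ 3 + dd A 7 * dd A 8 ^ 3 = 0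
    have e := congrArg dec9 (Nat.eq_of_beq_eq_true u12)
    simp only [dec9_add, dec9_mul, dec9_conj, nadd9_lt, nmul9_lt, nconj9_lt, ent_lt] at e
    exact e
  · show dd A 2 * dd A 0 ^ 3 + dd A 5 * dd A 3 ^ 3 + dd A 8 * dd A 6 ^ 3 = 0
    have e := congrArg dec9 (Nat.eq_of_beq_eq_true u20)
    simp only [dec9_add, dec9_mul, dec9_conj, nadd9_lt, nmul9_lt, nconj9_lt, ent_lt] at e
    exact e
  · show dd A 2 * dd A 1 ^ 3 + dd A 5 * dd A 4 ^ 3 + dd A 8 * dd A 7 ^ 3 = 0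
    have e := congrArg dec9 (Nat.eq_of_beq_eq_true u21)
    simp only [dec9_add, dec9_mul, dec9_conj, nadd9_lt, nmul9_lt, nconj9_lt, ent_lt] at e
    exact e
  · show dd A 2 * dd A 2 ^ 3 + dd A 5 * dd A 5 ^ 3 + dd A 8 * dd A 8 ^ 3 = 1
    have e := congrArg dec9 (Nat.eq_of_beq_eq_true u22)
    simp only [dec9_add, dec9_mul, dec9_conj, nadd9_lt, nmul9_lt, nconj9_lt, ent_lt] at e
    exact e

theorem det_T9 {A : M3} (hA : A.det = 1) : (T9 A).det = 1 := by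
  obtain ⟨hrow, -, -⟩ := check_gen9 (v_lt A 0 0) (v_lt A 0 1) (v_lt A 0 2) (v_lt A 1 0) (v_lt A 1 1) (v_lt A 1 2) (v_lt A 2 0) (v_lt A 2 1) (v_lt A 2 2) (ndet_of_det hA)
  unfold nrowOK9 at hrow
  have hm : ncode (v A 0 0) (v A 0 1) (v A 0 2) (v A 1 0) (v A 1 1) (v A 1 2) (v A 2 0) (v A 2 1) (v A 2 2) = mcode A := rfl
  simp only [hm, Bool.and_eq_true] at hrow
  obtain ⟨⟨⟨⟨⟨⟨⟨⟨⟨hdet, -⟩, -⟩, -⟩, -⟩, -⟩, -⟩, -⟩, -⟩, -⟩ := hrow
  have e := congrArg dec9 (Nat.eq_of_beq_eq_true hdet)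
  simp only [dec9_add, dec9_mul, dec9_neg, nadd9_lt, nmul9_lt, nneg9_lt, ent_lt] at e
  unfold T9
  rw [Matrix.det_fin_three]
  show dd A 0 * dd A 4 * dd A 8 - dd A 0 * dd A 5 * dd A 7 - dd A 1 * dd A 3 * dd A 8 +
    dd A 1 * dd A 5 * dd A 6 + dd A 2 * dd A 3 * dd A 7 - dd A 2 * dd A 4 * dd A 6 = 1
  rw [dec9_one] at e
  unfold dd
  linear_combination e

/-- first generator -/
def g1 : M3 := !![0, 0, 1; 0, 1, 0; 1, 0, 0]

/-- second generator -/
def g2 : M3 := !![0, 1, 0; 1, 0, 1; 1, 1, 0]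

theorem det_g1 : g1.det = 1 := by decide +kernel

theorem det_g2 : g2.det = 1 := by decide +kernel

def G1 : S3 := ⟨g1, det_g1⟩

def G2 : S3 := ⟨g2, det_g2⟩

theorem T9_mul_g1 {A : M3} (hA : A.det = 1) : T9 (A * g1) = T9 A * T9 g1 := by
  obtain ⟨-, h, -⟩ := check_gen9 (v_lt A 0 0) (v_lt A 0 1) (v_lt A 0 2) (v_lt A 1 0) (v_lt A 1 1) (v_lt A 1 2) (v_lt A 2 0) (v_lt A 2 1) (v_lt A 2 2) (ndet_of_det hA)
  exact T9_mul_of h

theorem T9_mul_g2 {A : M3} (hA : A.det = 1) : T9 (A * g2) = T9 A * T9 g2 := by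
  obtain ⟨-, -, h⟩ := check_gen9 (v_lt A 0 0) (v_lt A 0 1) (v_lt A 0 2) (v_lt A 1 0) (v_lt A 1 1) (v_lt A 1 2) (v_lt A 2 0) (v_lt A 2 1) (v_lt A 2 2) (ndet_of_det hA)
  exact T9_mul_of h

set_option maxRecDepth 100000 in
theorem T9_one : T9 1 = 1 := by decide +kernel

set_option maxRecDepth 100000 in
theorem T9_noncomm : T9 g2 * T9 g1 ≠ T9 g1 * T9 g2 := by decide +kernel

/-- multiplicativity against a fixed right factor -/
def PP (B : S3) : Prop := ∀ A : S3, T9 ((A * B : S3) : M3) = T9 (A : M3) * T9 (B : M3)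

theorem PP_G1 : PP G1 := fun A => by
  rw [Matrix.SpecialLinearGroup.coe_mul]
  exact T9_mul_g1 A.2

theorem PP_G2 : PP G2 := fun A => by
  rw [Matrix.SpecialLinearGroup.coe_mul]
  exact T9_mul_g2 A.2

theorem two_ne : ∃ x : ZMod 7, x ≠ 0 ∧ x ^ 2 ≠ 1 := ⟨2, by decide, by decide⟩

theorem simple_S3 : IsSimpleGroup S3 := by
  have : Fact (Nat.Prime 7) := ⟨by norm_num⟩
  have hc2 : Nat.card (Matrix.ProjectiveSpecialLinearGroup (Fin 2) (ZMod 7)) = 168 := by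
    have h := Cfsg.Agent.S0243.result (F := ZMod 7) (q := 7) (ZMod.card 7) 2 le_rfl
    simp [Fin.prod_univ_two] at h
    rw [Nat.card_eq_fintype_card]
    omega
  have f2 : Finite (Matrix.ProjectiveSpecialLinearGroup (Fin 2) (ZMod 7)) :=
    Nat.finite_of_card_ne_zero (by rw [hc2]; norm_num)
  have b2 : Function.Bijective (Cfsg.Agent.S0255.psi (RingEquiv.refl (ZMod 7))) :=
    (Cfsg.Agent.S0255.psi_injective _).bijective_of_nat_card_le (by rw [hc2, card_S3])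
  have hs : IsSimpleGroup (Matrix.ProjectiveSpecialLinearGroup (Fin 2) (ZMod 7)) :=
    Cfsg.Agent.S0253.psl_two_simple (F := ZMod 7) two_ne
  exact MulEquiv.isSimpleGroup (MulEquiv.ofBijective _ b2)

theorem S3_equiv {K : Type*} [Field K] [Fintype K] (hK : Fintype.card K = 7) :
    Nonempty (S3 ≃* Matrix.ProjectiveSpecialLinearGroup (Fin 2) K) := by
  have : Fact (Nat.Prime 7) := ⟨by norm_num⟩
  have e : ZMod 7 ≃+* K := ZMod.ringEquivOfPrime K (by norm_num) hK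
  have hc2 : Nat.card (Matrix.ProjectiveSpecialLinearGroup (Fin 2) K) = 168 := by
    have h := Cfsg.Agent.S0243.result hK 2 le_rfl
    simp [Fin.prod_univ_two] at h
    omega
  have f2 : Finite (Matrix.ProjectiveSpecialLinearGroup (Fin 2) K) :=
    Nat.finite_of_card_ne_zero (by rw [hc2]; norm_num)
  have b2 : Function.Bijective (Cfsg.Agent.S0255.psi e) :=
    (Cfsg.Agent.S0255.psi_injective e).bijective_of_nat_card_le (by rw [hc2, card_S3])
  exact ⟨MulEquiv.ofBijective _ b2⟩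

set_option maxRecDepth 100000 in
theorem closure_top : Subgroup.closure ({G1, G2} : Set S3) = ⊤ := by
  have hs := simple_S3
  set H := Subgroup.closure ({G1, G2} : Set S3) with hH
  have h1 : G1 ∈ H := Subgroup.subset_closure (by simp)
  have h2 : G2 ∈ H := Subgroup.subset_closure (by simp)
  have : Fact (Nat.Prime 7) := ⟨by norm_num⟩
  have : Fact (Nat.Prime 3) := ⟨by norm_num⟩
  have : Fact (Nat.Prime 2) := ⟨by norm_num⟩
  have o7 : orderOf (G1 * G2) = 7 := orderOf_eq_prime (by decide +kernel) (by decide +kernel)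
  have o3 : orderOf G2 = 3 := orderOf_eq_prime (by decide +kernel) (by decide +kernel)
  have o4 : orderOf (G1 * G2 * G1⁻¹ * G2⁻¹) = 2 ^ (1 + 1) :=
    orderOf_eq_prime_pow (by decide +kernel) (by decide +kernel)
  have fS : Finite S3 := Nat.finite_of_card_ne_zero (by rw [card_S3]; norm_num)
  have d7 : 7 ∣ Nat.card H := by
    have := Subgroup.orderOf_dvd_natCard H (H.mul_mem h1 h2)
    rw [o7] at this
    exact this
  have d3 : 3 ∣ Nat.card H := by
    have := Subgroup.orderOf_dvd_natCard H h2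
    rw [o3] at this
    exact this
  have d4 : 4 ∣ Nat.card H := by
    have := Subgroup.orderOf_dvd_natCard H
      (H.mul_mem (H.mul_mem (H.mul_mem h1 h2) (H.inv_mem h1)) (H.inv_mem h2))
    rw [o4] at this
    exact this
  have d84 : 84 ∣ Nat.card H := by
    have d21 : 21 ∣ Nat.card H := Nat.Coprime.mul_dvd_of_dvd_of_dvd (by norm_num) d7 d3
    exact Nat.Coprime.mul_dvd_of_dvd_of_dvd (by norm_num) d21 d4
  have hidx : Nat.card H * H.index = 168 := by rw [Subgroup.card_mul_index, card_S3]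
  obtain ⟨c, hc⟩ := d84
  rw [hc] at hidx
  have hci : c * H.index = 2 := by nlinarith
  have hi : H.index = 1 ∨ H.index = 2 := by
    have hdv : H.index ∣ 2 := Dvd.intro_left _ hci
    have := (Nat.dvd_prime Nat.prime_two).1 hdv
    exact this
  rcases hi with hi | hi
  · exact Subgroup.index_eq_one.1 hi
  · have hn : H.Normal := Subgroup.normal_of_index_eq_two hi
    rcases hn.eq_bot_or_eq_top with hb | ht
    · exfalso
      rw [hb] at h2
      have : G2 = 1 := Subgroup.mem_bot.1 h2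
      revert this
      decide +kernel
    · exact ht

theorem PP_all (B : S3) : PP B := by
  have hB : B ∈ Subgroup.closure ({G1, G2} : Set S3) := by rw [closure_top]; trivial
  refine Subgroup.closure_induction (p := fun B _ => PP B) ?_ ?_ ?_ ?_ hB
  · intro x hx
    rcases hx with rfl | rfl
    · exact PP_G1
    · exact PP_G2
  · intro A
    rw [mul_one, Matrix.SpecialLinearGroup.coe_one, T9_one, mul_one]
  · intro x y _ _ hx hy A
    calc T9 ((A * (x * y) : S3) : M3) = T9 ((A * x * y : S3) : M3) := by rw [mul_assoc]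
      _ = T9 (A : M3) * T9 (x : M3) * T9 (y : M3) := by rw [hy (A * x), hx A]
      _ = T9 (A : M3) * T9 ((x * y : S3) : M3) := by rw [hy x, mul_assoc]
  · intro x _ hx A
    have e1 : T9 ((x⁻¹ : S3) : M3) * T9 (x : M3) = 1 := by
      rw [← hx x⁻¹, inv_mul_cancel, Matrix.SpecialLinearGroup.coe_one, T9_one]
    have e2 : T9 (x : M3) * T9 ((x⁻¹ : S3) : M3) = 1 := _root_.mul_eq_one_comm.1 e1
    have e3 : T9 ((A * x⁻¹ : S3) : M3) * T9 (x : M3) = T9 (A : M3) := by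
      rw [← hx (A * x⁻¹), inv_mul_cancel_right]
    calc T9 ((A * x⁻¹ : S3) : M3)
        = T9 ((A * x⁻¹ : S3) : M3) * (T9 (x : M3) * T9 ((x⁻¹ : S3) : M3)) := by
          rw [e2, mul_one]
      _ = T9 (A : M3) * T9 ((x⁻¹ : S3) : M3) := by rw [← mul_assoc, e3]

section field

variable {F : Type*} [Field F] (f : F9 →+* F)

/-- the image over `F` -/
def M9 (A : S3) : Matrix (Fin 3) (Fin 3) F := (T9 (A : M3)).map f

theorem M9_mul (A B : S3) : M9 f (A * B) = M9 f A * M9 f B := by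
  unfold M9
  rw [PP_all B A, Matrix.map_mul]

theorem det_M9 (A : S3) : (M9 f A).det = 1 := by
  unfold M9
  rw [← RingHom.mapMatrix_apply, ← RingHom.map_det, det_T9 A.2, map_one]

theorem M9_unitary (A : S3) (j k : Fin 3) :
    ∑ i, M9 f A i j * (M9 f A i k) ^ 3 = if j = k then 1 else 0 := by
  unfold M9
  simp only [Matrix.map_apply, ← map_pow, ← map_mul, ← map_sum]
  rw [T9_unitary A.2]
  split_ifs <;> simp

/-- the homomorphism to `SL_3(F)` -/
def thetaSL : S3 →* SpecialLinearGroup (Fin 3) F :=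
  MonoidHom.mk' (fun A => ⟨M9 f A, det_M9 f A⟩) (fun A B => Subtype.ext (M9_mul f A B))

theorem herm_preserve (hadd : ∀ a b : F, (a + b) ^ 3 = a ^ 3 + b ^ 3)
    (M : Matrix (Fin 3) (Fin 3) F)
    (hU : ∀ j k, ∑ i, M i j * (M i k) ^ 3 = if j = k then 1 else 0) (u w : Fin 3 → F) :
    hermForm 3 F 3 (M *ᵥ u) (M *ᵥ w) = hermForm 3 F 3 u w := by
  have h00 := hU 0 0
  have h01 := hU 0 1
  have h02 := hU 0 2
  have h10 := hU 1 0
  have h11 := hU 1 1
  have h12 := hU 1 2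
  have h20 := hU 2 0
  have h21 := hU 2 1
  have h22 := hU 2 2
  rw [Fin.sum_univ_three] at h00 h01 h02 h10 h11 h12 h20 h21 h22
  rw [if_pos rfl] at h00 h11 h22
  rw [if_neg (by decide)] at h01 h02 h10 h12 h20 h21
  unfold hermForm
  simp only [Matrix.mulVec, dotProduct, Fin.sum_univ_three, hadd, mul_pow]
  linear_combination (u 0 * w 0 ^ 3) * h00 + (u 0 * w 1 ^ 3) * h01 + (u 0 * w 2 ^ 3) * h02 +
    (u 1 * w 0 ^ 3) * h10 + (u 1 * w 1 ^ 3) * h11 + (u 1 * w 2 ^ 3) * h12 +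
    (u 2 * w 0 ^ 3) * h20 + (u 2 * w 1 ^ 3) * h21 + (u 2 * w 2 ^ 3) * h22

theorem theta_mem (hadd : ∀ a b : F, (a + b) ^ 3 = a ^ 3 + b ^ 3) (A : S3) :
    thetaSL f A ∈ SU 3 F 3 := by
  show ∀ u w, hermForm 3 F 3 (M9 f A *ᵥ u) (M9 f A *ᵥ w) = hermForm 3 F 3 u w
  intro u w
  exact herm_preserve hadd (M9 f A) (M9_unitary f A) u w

/-- the homomorphism to `SU_3(3)` -/
def thetaSU (hadd : ∀ a b : F, (a + b) ^ 3 = a ^ 3 + b ^ 3) : S3 →* SU 3 F 3 :=
  (thetaSL f).codRestrict (SU 3 F 3) (theta_mem f hadd)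

/-- the homomorphism to `PSU_3(3)` -/
def theta (hadd : ∀ a b : F, (a + b) ^ 3 = a ^ 3 + b ^ 3) : S3 →* PSU 3 F 3 :=
  (QuotientGroup.mk' (Subgroup.center (SU 3 F 3))).comp (thetaSU f hadd)

theorem theta_injective (hadd : ∀ a b : F, (a + b) ^ 3 = a ^ 3 + b ^ 3) :
    Function.Injective (theta f hadd) := by
  have hs := simple_S3
  rw [← MonoidHom.ker_eq_bot_iff]
  rcases (theta f hadd).normal_ker.eq_bot_or_eq_top with h | h
  · exact h
  · exfalso
    have h1 : G1 ∈ (theta f hadd).ker := by rw [h]; trivial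
    rw [MonoidHom.mem_ker] at h1
    have h2 : thetaSU f hadd G1 ∈ Subgroup.center (SU 3 F 3) :=
      (QuotientGroup.eq_one_iff _).1 h1
    have h3 := Subgroup.mem_center_iff.1 h2 (thetaSU f hadd G2)
    have h4 : M9 f G2 * M9 f G1 = M9 f G1 * M9 f G2 :=
      congrArg (fun x : SU 3 F 3 => ((x : SpecialLinearGroup (Fin 3) F) : Matrix (Fin 3) (Fin 3) F)) h3
    unfold M9 at h4
    rw [← Matrix.map_mul, ← Matrix.map_mul] at h4
    exact T9_noncomm (Matrix.map_injective f.injective h4)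

end field

/-- The projective special unitary group PSU₃(3) (realised over the field with 9 elements) has a subgroup isomorphic to PSL₂(7). -/
theorem result {F : Type*} [Field F] [Fintype F] (hF : Fintype.card F = 9)
    {K : Type*} [Field K] [Fintype K] (hK : Fintype.card K = 7) :
    ∃ H : Subgroup (Cfsg.PSU 3 F 3), Nonempty (H ≃* Matrix.ProjectiveSpecialLinearGroup (Fin 2) K) := by
  have e : F9 ≃+* F :=
    FiniteField.ringEquivOfCardEq (K := F9) (K' := F) (by rw [hF, F9.card])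
  have hadd : ∀ a b : F, (a + b) ^ 3 = a ^ 3 + b ^ 3 :=
    Cfsg.Agent.Lib.Helper5.Herm.frob_add (q := 3) (by rw [hF]; norm_num)
  obtain ⟨φ⟩ := S3_equiv hK
  exact ⟨(theta e.toRingHom hadd).range,
    ⟨(MonoidHom.ofInjective (theta_injective e.toRingHom hadd)).symm.trans φ⟩⟩

end Cfsg.Agent.S1897
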