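import Cfsg.Statements.S1898
import Cfsg.Agent.Lib.Lead.OmegaFaithful

set_option autoImplicit false
open Cfsg

namespace Cfsg.Agent.S1898

open scoped commutatorElement


/-- Let X be a finite 2-group whose derived subgroup is elementary abelian and central. Then the subgroup generated by the elements of order dividing 4 has exponent dividing 4, and every automorphism of X fixing each element of order dividing 4 has 2-power order. -/
theorem result {X : Type*} [Group X] [Finite X] (hX : IsPGroup 2 X)
    (hel : Cfsg.IsElementaryAbelian 2 (commutator X)) (hcen : commutator X ≤ Subgroup.center X) :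
    (∀ x ∈ Subgroup.closure {g : X | g ^ 4 = 1}, x ^ 4 = 1) ∧
      ∀ φ : MulAut X, (∀ g : X, g ^ 4 = 1 → φ g = g) → ∃ k : ℕ, φ ^ (2 ^ k) = 1 := by

  haveI : Fact (Nat.Prime 2) := ⟨Nat.prime_two⟩
  refine ⟨?_, ?_⟩
  · intro x hx
    induction hx using Subgroup.closure_induction with
    | mem g hg => exact hg
    | one => exact one_pow 4
    | mul x y _ _ hx4 hy4 =>
      obtain ⟨z, hz⟩ : ∃ z, z = y⁻¹ * x⁻¹ * y * x := ⟨_, rfl⟩
      have hzc : z ∈ commutator X := by
        have h1 : z = ⁅y⁻¹, x⁻¹⁆ := by rw [hz, commutatorElement_def]; group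
        rw [h1, commutator_def]
        exact Subgroup.commutator_mem_commutator (Subgroup.mem_top _) (Subgroup.mem_top _)
      have hzcen := hcen hzc
      rw [Subgroup.mem_center_iff] at hzcen
      have hz2 : z ^ 2 = 1 := hel.2 z hzc
      have h : y * x = x * y * z := by rw [hz]; group
      have key := Cfsg.Agent.Lib.Lead.OmegaFaithful.class_two_pow h (hzcen x).symm (hzcen y).symm 4
      rw [key, hx4, hy4, one_mul, one_mul]
      have : (∑ i ∈ Finset.range 4, i) = 2 * 3 := by decide
      rw [this, pow_mul, hz2, one_pow]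
    | inv x _ hx4 => rw [inv_pow, hx4, inv_one]
  · intro φ hφ
    obtain ⟨k, m, hm, hkm⟩ := Nat.exists_eq_two_pow_mul_odd (n := orderOf φ) (orderOf_pos φ).ne'
    refine ⟨k, ?_⟩
    have hψm : (φ ^ (2 ^ k)) ^ m = 1 := by rw [← pow_mul, ← hkm, pow_orderOf_eq_one]
    have hcop : Nat.Coprime (orderOf (φ ^ (2 ^ k))) 2 := by
      have d1 : orderOf (φ ^ (2 ^ k)) ∣ m := orderOf_dvd_of_pow_eq_one hψm
      exact Nat.Coprime.coprime_dvd_left d1 (Nat.Coprime.symm (Nat.coprime_two_left.mpr hm))
    have hfix : ∀ n : ℕ, ∀ g : X, g ^ 4 = 1 → (φ ^ n) g = g := by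
      intro n
      induction n with
      | zero => intro g _; simp
      | succ n ih =>
        intro g hg
        rw [pow_succ, MulAut.mul_apply, hφ g hg, ih g hg]
    apply Cfsg.Agent.Lib.Lead.OmegaFaithful.eq_one_of_fixes_small hX _ hcop
    intro x hx
    apply hfix
    rcases hx with hx | ⟨_, hx⟩
    · have : x ^ 4 = (x ^ 2) ^ 2 := by rw [← pow_mul]
      rw [this, hx, one_pow]
    · exact hx

end Cfsg.Agent.S1898
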