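import Cfsg.Statements.S1899

set_option autoImplicit false
open Cfsg

namespace Cfsg.Agent.S1899

theorem result {A : Type*} [CommGroup A] [Finite A] (hA : IsPGroup 2 A)
    {n : ℕ} (hn : Odd n) (hn1 : 1 < n) (d t : MulAut A) (hd : d ^ n = 1) (ht : t ^ 2 = 1) (hdt : t * d * t⁻¹ = d⁻¹)
    (hfix : ∀ a : A, d a = a → a = 1) :
    (MulEquiv.toMonoidHom t).eqLocus (MonoidHom.id A) ⊓ ((MulEquiv.toMonoidHom t).eqLocus (MonoidHom.id A)).map d.toMonoidHom = ⊥ ∧
      (MulEquiv.toMonoidHom t).eqLocus (MonoidHom.id A) ⊔ ((MulEquiv.toMonoidHom t).eqLocus (MonoidHom.id A)).map d.toMonoidHom = ⊤ := by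
  obtain ⟨m, rfl⟩ := hn
  have hmemC : ∀ a : A, a ∈ (MulEquiv.toMonoidHom t).eqLocus (MonoidHom.id A) ↔ t a = a := by
    intro a; rfl
  have htt : ∀ a : A, t (t a) = a := by
    intro a
    have : (t ^ 2) a = a := by rw [ht]; rfl
    rwa [pow_two] at this
  -- t d = d⁻¹ t
  have htd : ∀ a : A, t (d a) = d⁻¹ (t a) := by
    intro a
    have h1 : t * d = d⁻¹ * t := by
      have := congrArg (· * t) hdt
      simpa [mul_assoc] using this
    have := congrArg (fun f : MulAut A => f a) h1
    simpa [MulAut.mul_apply] using this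
  -- d^(2m) = d⁻¹
  have hd2m : d ^ (2 * m) = d⁻¹ := by
    have : d ^ (2 * m) * d = 1 := by rw [← pow_succ]; exact hd
    exact eq_inv_of_mul_eq_one_left this
  have hdd : ∀ a : A, d (d⁻¹ a) = a := fun a => by
    have : (d * d⁻¹) a = a := by rw [mul_inv_cancel]; rfl
    simpa [MulAut.mul_apply] using this
  have hdd' : ∀ a : A, d⁻¹ (d a) = a := fun a => by
    have : (d⁻¹ * d) a = a := by rw [inv_mul_cancel]; rfl
    simpa [MulAut.mul_apply] using this
  refine ⟨?_, ?_⟩
  · rw [eq_bot_iff]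
    rintro a ⟨haC, c, hcC, hca⟩
    rw [Subgroup.mem_bot]
    have h1 : t a = a := (hmemC a).mp haC
    have h2 : t c = c := (hmemC c).mp hcC
    have hca' : d c = a := hca
    -- d⁻¹ c = d c
    have h3 : d⁻¹ c = d c := by
      have := htd c
      rw [h2, hca', h1] at this
      rw [hca']; exact this.symm
    -- d (d c) = c
    have h4 : d (d c) = c := by rw [← h3, hdd]
    -- (d^2)^k c = c
    have h5 : ∀ k : ℕ, (d ^ (2 * k)) c = c := by
      intro k
      induction k with
      | zero => simp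
      | succ k ih =>
        have : d ^ (2 * (k + 1)) = d ^ (2 * k) * (d * d) := by
          rw [mul_add, pow_add]; simp [pow_two]
        rw [this, MulAut.mul_apply, MulAut.mul_apply, h4, ih]
    have h6 : d⁻¹ c = c := by rw [← hd2m]; exact h5 m
    have h7 : d c = c := by rw [← h3]; exact h6
    have hc1 : c = 1 := hfix c h7
    rw [← hca', hc1]; exact map_one d
  · rw [eq_top_iff]
    intro b _
    -- notation
    have hC1 : ∀ a : A, a * t a ∈ (MulEquiv.toMonoidHom t).eqLocus (MonoidHom.id A) := by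
      intro a
      rw [hmemC, map_mul, htt, mul_comm]
    have hC2 : ∀ a : A, a * d (t (d⁻¹ a)) ∈
        ((MulEquiv.toMonoidHom t).eqLocus (MonoidHom.id A)).map d.toMonoidHom := by
      intro a
      refine ⟨d⁻¹ a * t (d⁻¹ a), hC1 _, ?_⟩
      change d (d⁻¹ a * t (d⁻¹ a)) = _
      rw [map_mul, hdd]
    have hM1 : ∀ a : A, t a * (d (t (d⁻¹ a)))⁻¹ ∈
        (MulEquiv.toMonoidHom t).eqLocus (MonoidHom.id A) ⊔
          ((MulEquiv.toMonoidHom t).eqLocus (MonoidHom.id A)).map d.toMonoidHom := by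
      intro a
      have h1 := Subgroup.mem_sup_left (T := ((MulEquiv.toMonoidHom t).eqLocus
        (MonoidHom.id A)).map d.toMonoidHom) (hC1 a)
      have h2 := Subgroup.mem_sup_right (S := (MulEquiv.toMonoidHom t).eqLocus
        (MonoidHom.id A)) (hC2 a)
      have := Subgroup.mul_mem _ h1 (Subgroup.inv_mem _ h2)
      convert this using 1
      rw [mul_inv, mul_comm a (t a), mul_assoc, ← mul_assoc a, mul_inv_cancel, one_mul]
    -- substitute a = d (t (d⁻¹ b)) : then t a = t d t d⁻¹ b = d⁻¹ d⁻¹ b, and d t d⁻¹ a = b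
    have hM2 : ∀ b : A, d⁻¹ (d⁻¹ b) * b⁻¹ ∈
        (MulEquiv.toMonoidHom t).eqLocus (MonoidHom.id A) ⊔
          ((MulEquiv.toMonoidHom t).eqLocus (MonoidHom.id A)).map d.toMonoidHom := by
      intro b
      have := hM1 (d (t (d⁻¹ b)))
      rwa [htd, htt, hdd', htt, hdd] at this
    -- powers of e = d⁻¹ d⁻¹
    have hM3 : ∀ (k : ℕ) (b : A), ((d⁻¹) ^ (2 * k)) b * b⁻¹ ∈
        (MulEquiv.toMonoidHom t).eqLocus (MonoidHom.id A) ⊔
          ((MulEquiv.toMonoidHom t).eqLocus (MonoidHom.id A)).map d.toMonoidHom := by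
      intro k
      induction k with
      | zero => intro b; simp
      | succ k ih =>
        intro b
        have e : (d⁻¹) ^ (2 * (k + 1)) = (d⁻¹ * d⁻¹) * (d⁻¹) ^ (2 * k) := by
          have : 2 * (k + 1) = 2 + 2 * k := by ring
          rw [this, pow_add, pow_two]
        rw [e, MulAut.mul_apply, MulAut.mul_apply]
        have h1 := hM2 (((d⁻¹) ^ (2 * k)) b)
        have h2 := ih b
        have := Subgroup.mul_mem _ h1 h2
        convert this using 1
        rw [mul_assoc, ← mul_assoc _ (((d⁻¹) ^ (2 * k)) b), inv_mul_cancel, one_mul]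
    have hdm : (d⁻¹) ^ (2 * m) = d := by
      rw [inv_pow, hd2m, inv_inv]
    have hM4 : ∀ b : A, d b * b⁻¹ ∈
        (MulEquiv.toMonoidHom t).eqLocus (MonoidHom.id A) ⊔
          ((MulEquiv.toMonoidHom t).eqLocus (MonoidHom.id A)).map d.toMonoidHom := by
      intro b
      have := hM3 m b
      rwa [hdm] at this
    have hM5 : ∀ (i : ℕ) (b : A), (d ^ i) b * b⁻¹ ∈
        (MulEquiv.toMonoidHom t).eqLocus (MonoidHom.id A) ⊔
          ((MulEquiv.toMonoidHom t).eqLocus (MonoidHom.id A)).map d.toMonoidHom := by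
      intro i
      induction i with
      | zero => intro b; simp
      | succ i ih =>
        intro b
        rw [pow_succ', MulAut.mul_apply]
        have h1 := hM4 ((d ^ i) b)
        have h2 := ih b
        have := Subgroup.mul_mem _ h1 h2
        convert this using 1
        rw [mul_assoc, ← mul_assoc _ ((d ^ i) b), inv_mul_cancel, one_mul]
    -- the norm
    have hN : ∏ i ∈ Finset.range (2 * m + 1), (d ^ i) b = 1 := by
      apply hfix
      rw [map_prod]
      have h1 : ∀ i ∈ Finset.range (2 * m + 1), d ((d ^ i) b) = (d ^ (i + 1)) b := by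
        intro i _
        rw [pow_succ', MulAut.mul_apply]
      rw [Finset.prod_congr rfl h1]
      have h2 := Finset.prod_range_succ' (fun i => (d ^ i) b) (2 * m + 1)
      have h3 := Finset.prod_range_succ (fun i => (d ^ i) b) (2 * m + 1)
      rw [h3] at h2
      simp only [hd, pow_zero, MulAut.one_apply] at h2
      exact (mul_right_cancel h2).symm
    have hN2 : (∏ i ∈ Finset.range (2 * m + 1), (d ^ i) b) * (b ^ (2 * m + 1))⁻¹ ∈
        (MulEquiv.toMonoidHom t).eqLocus (MonoidHom.id A) ⊔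
          ((MulEquiv.toMonoidHom t).eqLocus (MonoidHom.id A)).map d.toMonoidHom := by
      have : (∏ i ∈ Finset.range (2 * m + 1), (d ^ i) b) * (b ^ (2 * m + 1))⁻¹ =
          ∏ i ∈ Finset.range (2 * m + 1), ((d ^ i) b * b⁻¹) := by
        rw [Finset.prod_mul_distrib, Finset.prod_const, Finset.card_range, inv_pow]
      rw [this]
      exact Subgroup.prod_mem _ (fun i _ => hM5 i b)
    rw [hN, one_mul] at hN2
    have hbn : b ^ (2 * m + 1) ∈
        (MulEquiv.toMonoidHom t).eqLocus (MonoidHom.id A) ⊔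
          ((MulEquiv.toMonoidHom t).eqLocus (MonoidHom.id A)).map d.toMonoidHom := by
      have := Subgroup.inv_mem _ hN2
      rwa [inv_inv] at this
    -- coprimality
    have hcop : (Nat.card A).Coprime (2 * m + 1) := by
      obtain ⟨k, hk⟩ := IsPGroup.iff_card.mp hA
      rw [hk]
      apply Nat.Coprime.pow_left
      rw [Nat.coprime_two_left]; exact ⟨m, rfl⟩
    have : b = (b ^ (2 * m + 1)) ^ ((Nat.card A).gcdB (2 * m + 1)) :=
      ((powCoprime hcop).left_inv b).symm
    rw [this]
    exact Subgroup.zpow_mem _ hbn _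

end Cfsg.Agent.S1899
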