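import Cfsg.Statements.S1900
import Cfsg.Agent.Lib.Helper7.CoprimeGen5
import Cfsg.Agent.Lib.Helper7.CoprimeGen3
import Cfsg.Agent.S0026
import Cfsg.Agent.H1.CoprimeAction
import Cfsg.Agent.Lib.Lead.Conj

set_option autoImplicit false
open Cfsg

namespace Cfsg.Agent.S1900

open scoped commutatorElement
theorem normalizer_grow {G : Type*} [Group G] [Finite G] {p : ℕ} [Fact p.Prime] (P N : Subgroup G)
    (hP : IsPGroup p P) (hNP : N ≤ P) (hne : N ≠ P) :
    ∃ g ∈ P, g ∈ Subgroup.normalizer (N : Set G) ∧ g ∉ N := by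
  haveI : Group.IsNilpotent P := hP.isNilpotent
  have hnc : NormalizerCondition P := Group.normalizerCondition_of_isNilpotent
  have hlt : N.subgroupOf P < ⊤ := by
    rw [lt_top_iff_ne_top]
    intro h; rw [Subgroup.subgroupOf_eq_top] at h; exact hne (le_antisymm hNP h)
  have h2 := hnc _ hlt
  obtain ⟨g, hgN, hgn⟩ := SetLike.exists_of_lt h2
  refine ⟨g, g.2, ?_, ?_⟩
  · rw [← Subgroup.subgroupOf_normalizer_eq hNP] at hgN
    exact Subgroup.mem_subgroupOf.mp hgN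
  · intro h; exact hgn (Subgroup.mem_subgroupOf.mpr h)

theorem centralizer_singleton_eq {G : Type*} [Group G] (x : G) :
    Subgroup.centralizer {x} = Subgroup.centralizer (Subgroup.zpowers x : Set G) := by
  ext y
  rw [Subgroup.mem_centralizer_iff, Subgroup.mem_centralizer_iff]
  constructor
  · intro h z hz
    obtain ⟨n, rfl⟩ := Subgroup.mem_zpowers_iff.mp hz
    have hc : Commute x y := h x rfl
    exact (hc.zpow_left n).eq
  · intro h z hz
    rw [Set.mem_singleton_iff] at hz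
    rw [hz]
    exact h x (Subgroup.mem_zpowers x)

theorem exgen {G : Type*} [Group G] {q : ℕ} [hq : Fact q.Prime] (X : Subgroup G) (hX : Nat.card X = q) :
    ∃ x ∈ X, x ≠ 1 ∧ ∀ Y : Subgroup G, x ∈ Y → X ≤ Y := by
  have hne : X ≠ ⊥ := by
    intro h; rw [h, Subgroup.card_bot] at hX; exact hq.out.one_lt.ne hX
  obtain ⟨a, ha⟩ := (Subgroup.ne_bot_iff_exists_ne_one).mp hne
  have htop := zpowers_eq_top_of_prime_card hX ha
  refine ⟨a.1, a.2, fun h => ha (Subtype.ext h), ?_⟩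
  intro Y haY y hy
  have hm : (⟨y, hy⟩ : X) ∈ Subgroup.zpowers a := by rw [htop]; exact Subgroup.mem_top _
  obtain ⟨n, hn⟩ := Subgroup.mem_zpowers_iff.mp hm
  have hy2 : y = (a.1) ^ n := by
    have := congrArg Subtype.val hn
    rw [Subgroup.coe_zpow] at this
    exact this.symm
  rw [hy2]; exact Y.zpow_mem haY n

/-- Let S = PQ be a finite group with P a normal Sylow p-subgroup and Q elementary abelian of order q², q a prime different from p. If exactly two subgroups X₁, X₂ of order q in Q have a nontrivial centralizer in P, then P is the internal direct product of C_P(X₁) and C_P(X₂): they commute elementwise, meet trivially and generate P. -/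
theorem result {S : Type*} [Group S] [Finite S] {p q : ℕ} [Fact p.Prime] [Fact q.Prime] (hpq : p ≠ q)
    (P : Sylow p S) [(P : Subgroup S).Normal] (Q : Subgroup S) (hQ : Cfsg.IsElementaryAbelian q Q) (hQc : Nat.card Q = q ^ 2)
    (hS : (P : Subgroup S) ⊔ Q = ⊤)
    (X₁ X₂ : Subgroup S) (h₁ : X₁ ≤ Q) (h₂ : X₂ ≤ Q) (h₁₂ : X₁ ≠ X₂) (hc₁ : Nat.card X₁ = q) (hc₂ : Nat.card X₂ = q)
    (hf₁ : (P : Subgroup S) ⊓ Subgroup.centralizer (X₁ : Set S) ≠ ⊥)
    (hf₂ : (P : Subgroup S) ⊓ Subgroup.centralizer (X₂ : Set S) ≠ ⊥)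
    (honly : ∀ X : Subgroup S, X ≤ Q → Nat.card X = q →
      (P : Subgroup S) ⊓ Subgroup.centralizer (X : Set S) ≠ ⊥ → X = X₁ ∨ X = X₂) :
    ⁅(P : Subgroup S) ⊓ Subgroup.centralizer (X₁ : Set S), (P : Subgroup S) ⊓ Subgroup.centralizer (X₂ : Set S)⁆ = ⊥ ∧
      ((P : Subgroup S) ⊓ Subgroup.centralizer (X₁ : Set S)) ⊓ ((P : Subgroup S) ⊓ Subgroup.centralizer (X₂ : Set S)) = ⊥ ∧
      ((P : Subgroup S) ⊓ Subgroup.centralizer (X₁ : Set S)) ⊔ ((P : Subgroup S) ⊓ Subgroup.centralizer (X₂ : Set S)) = P := by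

  classical
  have hp : p.Prime := Fact.out
  have hq : q.Prime := Fact.out
  obtain ⟨hQcomm, hQexp⟩ := hQ
  haveI := hQcomm
  have hcommQ : ∀ x ∈ Q, ∀ y ∈ Q, x * y = y * x := by
    intro x hx y hy
    have := hQcomm.is_comm.comm (⟨x, hx⟩ : Q) ⟨y, hy⟩
    exact congrArg Subtype.val this
  have hPp : IsPGroup p (P : Subgroup S) := P.isPGroup'
  have hcoppq : Nat.Coprime q p := (Nat.coprime_primes hq hp).mpr (Ne.symm hpq)
  have hcopQ : ∀ K : Subgroup S, K ≤ P → (Nat.card Q).Coprime (Nat.card K) := by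
    intro K hK
    obtain ⟨k, hk⟩ := (hPp.to_le hK).exists_card_eq
    rw [hQc, hk]
    exact Nat.Coprime.pow _ _ hcoppq
  have hcopX : ∀ X K : Subgroup S, Nat.card X = q → K ≤ P → (Nat.card X).Coprime (Nat.card K) := by
    intro X K hX hK
    obtain ⟨k, hk⟩ := (hPp.to_le hK).exists_card_eq
    rw [hX, hk]
    exact Nat.Coprime.pow_right _ hcoppq
  have hsolv : ∀ K : Subgroup S, K ≤ P → Group.IsSolvable K := by
    intro K hK
    haveI := (hPp.to_le hK).isNilpotent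
    exact IsNilpotent.to_isSolvable
  have hQnc : ¬ IsCyclic Q := by
    intro h
    obtain ⟨g, hg⟩ := h.exists_generator
    have h1 : orderOf g = Nat.card Q := orderOf_eq_card_of_forall_mem_zpowers hg
    have h2 : g ^ q = 1 := Subtype.ext (by simpa using hQexp g g.2)
    have h3 : orderOf g ∣ q := orderOf_dvd_of_pow_eq_one h2
    rw [h1, hQc] at h3
    have := Nat.le_of_dvd hq.pos h3
    nlinarith [hq.two_le]
  have hQP : Q ≤ Subgroup.normalizer ((P : Subgroup S) : Set S) := by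
    rw [Subgroup.normalizer_eq_top]; exact le_top
  have hnormC : ∀ K X : Subgroup S, Q ≤ Subgroup.normalizer (K : Set S) → X ≤ Q →
      Q ≤ Subgroup.normalizer ((K ⊓ Subgroup.centralizer (X : Set S) : Subgroup S) : Set S) :=
    fun K X hK hX => Cfsg.Agent.Lib.Helper7.centralizer_singleton_inf_normalized hcommQ hK
      (B := (X : Set S)) (fun x hx => hX hx)
  have hnormN : ∀ K L : Subgroup S, Q ≤ Subgroup.normalizer (K : Set S) →
      Q ≤ Subgroup.normalizer (L : Set S) →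
      Q ≤ Subgroup.normalizer ((K ⊓ Subgroup.normalizer (L : Set S) : Subgroup S) : Set S) := by
    intro K L hK hL
    refine le_trans ?_ Subgroup.inf_normalizer_le_normalizer_inf
    exact le_inf hK (hL.trans Subgroup.le_normalizer)
  -- generation
  have gen : ∀ K : Subgroup S, K ≤ P → Q ≤ Subgroup.normalizer (K : Set S) →
      K ≤ (K ⊓ Subgroup.centralizer (X₁ : Set S)) ⊔ (K ⊓ Subgroup.centralizer (X₂ : Set S)) := by
    intro K hKP hQK
    have h := Cfsg.Agent.Lib.Helper7.cgen_eq_of_not_isCyclic Q K hQnc hQK (hcopQ K hKP)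
    refine le_trans (le_of_eq h.symm) ?_
    rw [Cfsg.Agent.Lib.Helper7.cgen]
    apply iSup₂_le
    intro x hx
    obtain ⟨hxQ, hx1⟩ := hx
    by_cases hbot : K ⊓ Subgroup.centralizer {x} = ⊥
    · rw [hbot]; exact bot_le
    · have hzle : Subgroup.zpowers x ≤ Q := (Subgroup.zpowers_le).mpr hxQ
      have hcard : Nat.card (Subgroup.zpowers x) = q := by
        rw [Nat.card_zpowers]; exact orderOf_eq_prime (hQexp x hxQ) hx1
      have hcent := centralizer_singleton_eq x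
      have hne : (P : Subgroup S) ⊓ Subgroup.centralizer (Subgroup.zpowers x : Set S) ≠ ⊥ := by
        intro h0
        apply hbot
        rw [eq_bot_iff, ← h0, hcent]
        exact inf_le_inf_right _ hKP
      rcases honly _ hzle hcard hne with h1 | h2
      · rw [hcent, h1]; exact le_sup_left
      · rw [hcent, h2]; exact le_sup_right
  obtain ⟨x₁, hx₁, hx₁1, hx₁g⟩ := exgen X₁ hc₁
  obtain ⟨x₂, hx₂, hx₂1, hx₂g⟩ := exgen X₂ hc₂
  have hx₁2 : x₁ ∉ X₂ := by
    intro h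
    apply h₁₂
    exact Subgroup.eq_of_le_of_card_ge (hx₁g X₂ h) (by rw [hc₁, hc₂])
  have hx₂1' : x₂ ∉ X₁ := by
    intro h
    apply h₁₂
    exact (Subgroup.eq_of_le_of_card_ge (hx₂g X₁ h) (by rw [hc₁, hc₂])).symm
  obtain ⟨P₁, hP₁⟩ : ∃ P₁, P₁ = (P : Subgroup S) ⊓ Subgroup.centralizer (X₁ : Set S) := ⟨_, rfl⟩
  obtain ⟨P₂, hP₂⟩ : ∃ P₂, P₂ = (P : Subgroup S) ⊓ Subgroup.centralizer (X₂ : Set S) := ⟨_, rfl⟩
  rw [← hP₁, ← hP₂]
  have hP₁P : P₁ ≤ P := by rw [hP₁]; exact inf_le_left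
  have hP₂P : P₂ ≤ P := by rw [hP₂]; exact inf_le_left
  have hP₁C : P₁ ≤ Subgroup.centralizer (X₁ : Set S) := by rw [hP₁]; exact inf_le_right
  have hP₂C : P₂ ≤ Subgroup.centralizer (X₂ : Set S) := by rw [hP₂]; exact inf_le_right
  have hinf : P₁ ⊓ P₂ = ⊥ := by
    by_contra hne
    have hx₃Q : x₁ * x₂ ∈ Q := Q.mul_mem (h₁ hx₁) (h₂ hx₂)
    have hx₃1 : x₁ * x₂ ≠ 1 := by
      intro h
      apply hx₁2
      rw [eq_inv_of_mul_eq_one_left h]
      exact X₂.inv_mem hx₂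
    have hcard : Nat.card (Subgroup.zpowers (x₁ * x₂)) = q := by
      rw [Nat.card_zpowers]; exact orderOf_eq_prime (hQexp _ hx₃Q) hx₃1
    have hne3 : (P : Subgroup S) ⊓ Subgroup.centralizer (Subgroup.zpowers (x₁ * x₂) : Set S) ≠ ⊥ := by
      intro h0
      apply hne
      rw [eq_bot_iff, ← h0, ← centralizer_singleton_eq]
      intro y hy
      obtain ⟨hy1, hy2⟩ := Subgroup.mem_inf.mp hy
      refine Subgroup.mem_inf.mpr ⟨hP₁P hy1, ?_⟩
      rw [Subgroup.mem_centralizer_iff]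
      intro z hz
      rw [Set.mem_singleton_iff] at hz
      rw [hz]
      have e1 : x₁ * y = y * x₁ := (Subgroup.mem_centralizer_iff.mp (hP₁C hy1)) x₁ hx₁
      have e2 : x₂ * y = y * x₂ := (Subgroup.mem_centralizer_iff.mp (hP₂C hy2)) x₂ hx₂
      rw [mul_assoc, e2, ← mul_assoc, e1, mul_assoc]
    rcases honly _ ((Subgroup.zpowers_le).mpr hx₃Q) hcard hne3 with h | h
    · apply hx₂1'
      have hm : x₁ * x₂ ∈ X₁ := by rw [← h]; exact Subgroup.mem_zpowers _
      have e : x₂ = x₁⁻¹ * (x₁ * x₂) := by group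
      rw [e]; exact X₁.mul_mem (X₁.inv_mem hx₁) hm
    · apply hx₁2
      have hm : x₁ * x₂ ∈ X₂ := by rw [← h]; exact Subgroup.mem_zpowers _
      have e : x₁ = (x₁ * x₂) * x₂⁻¹ := by group
      rw [e]; exact X₂.mul_mem hm (X₂.inv_mem hx₂)
  have hQP₁ : Q ≤ Subgroup.normalizer (P₁ : Set S) := by rw [hP₁]; exact hnormC _ X₁ hQP h₁
  obtain ⟨N, hN⟩ : ∃ N, N = (P : Subgroup S) ⊓ Subgroup.normalizer (P₁ : Set S) := ⟨_, rfl⟩
  have hNP : N ≤ P := by rw [hN]; exact inf_le_left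
  have hNnorm : N ≤ Subgroup.normalizer (P₁ : Set S) := by rw [hN]; exact inf_le_right
  have hQN : Q ≤ Subgroup.normalizer (N : Set S) := by rw [hN]; exact hnormN _ _ hQP hQP₁
  have hP₁N : P₁ ≤ N := by rw [hN]; exact le_inf hP₁P Subgroup.le_normalizer
  obtain ⟨B, hB⟩ : ∃ B, B = N ⊓ Subgroup.centralizer (X₂ : Set S) := ⟨_, rfl⟩
  have hBN : B ≤ N := by rw [hB]; exact inf_le_left
  have hBC : B ≤ Subgroup.centralizer (X₂ : Set S) := by rw [hB]; exact inf_le_right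
  have hQB : Q ≤ Subgroup.normalizer (B : Set S) := by rw [hB]; exact hnormC _ X₂ hQN h₂
  have hBP₂ : B ≤ P₂ := by rw [hP₂]; exact le_inf (hBN.trans hNP) hBC
  have hBnorm : B ≤ Subgroup.normalizer (P₁ : Set S) := hBN.trans hNnorm
  have hNC₁ : N ⊓ Subgroup.centralizer (X₁ : Set S) ≤ P₁ := by
    rw [hP₁]; exact inf_le_inf_right _ hNP
  -- Step A
  have hBX₁ : ⁅B, X₁⁆ = B := by
    have h26 := Cfsg.Agent.S0026.result X₁ B (h₁.trans hQB) (hcopX X₁ B hc₁ (hBN.trans hNP))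
      (Or.inr (hsolv B (hBN.trans hNP)))
    have h0 : B ⊓ Subgroup.centralizer (X₁ : Set S) = ⊥ := by
      rw [eq_bot_iff, ← hinf]
      refine le_inf ?_ (inf_le_left.trans hBP₂)
      rw [hP₁]; exact inf_le_inf_right _ (hBN.trans hNP)
    rw [h0, sup_bot_eq] at h26
    exact h26
  have hP₁X₁ : ⁅P₁, X₁⁆ = ⊥ := Subgroup.commutator_eq_bot_iff_le_centralizer.mpr hP₁C
  have hBP₁ : ⁅B, P₁⁆ = ⊥ := by
    have h1 : ⁅⁅X₁, P₁⁆, B⁆ = ⊥ := by
      rw [Subgroup.commutator_comm X₁ P₁, hP₁X₁]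
      exact Subgroup.commutator_bot_left B
    have h2 : ⁅⁅P₁, B⁆, X₁⁆ = ⊥ := by
      rw [eq_bot_iff, ← hP₁X₁]
      exact Subgroup.commutator_mono (Subgroup.le_normalizer_iff_commutator_le_left.mp hBnorm) le_rfl
    have h3 := Subgroup.commutator_commutator_eq_bot_of_rotate h1 h2
    rw [hBX₁] at h3
    exact h3
  -- Step C
  have hP₁X₂ : ⁅P₁, X₂⁆ = P₁ := by
    have h26 := Cfsg.Agent.S0026.result X₂ P₁ (h₂.trans hQP₁) (hcopX X₂ P₁ hc₂ hP₁P)
      (Or.inr (hsolv P₁ hP₁P))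
    have h0 : P₁ ⊓ Subgroup.centralizer (X₂ : Set S) = ⊥ := by
      rw [eq_bot_iff, ← hinf]
      refine le_inf inf_le_left ?_
      rw [hP₂]; exact inf_le_inf_right _ hP₁P
    rw [h0, sup_bot_eq] at h26
    exact h26
  have hNX₂ : ⁅N, X₂⁆ ≤ P₁ := by
    rw [Subgroup.commutator_le]
    intro n hn x hx
    have hn' : n ∈ P₁ ⊔ B := by
      have := gen N hNP hQN hn
      refine (sup_le_sup hNC₁ (le_of_eq hB.symm)) this
    obtain ⟨a, ha, b', hb', rfl⟩ := (Cfsg.Agent.H1.mem_sup_of_le_normalizer P₁ B hBnorm).mp hn'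
    have hbx : x * b' = b' * x := (Subgroup.mem_centralizer_iff.mp (hBC hb')) x hx
    have e : ⁅a * b', x⁆ = ⁅a, x⁆ := by
      rw [commutatorElement_def, commutatorElement_def]
      calc a * b' * x * (a * b')⁻¹ * x⁻¹ = a * (b' * x) * b'⁻¹ * a⁻¹ * x⁻¹ := by group
        _ = a * (x * b') * b'⁻¹ * a⁻¹ * x⁻¹ := by rw [hbx]
        _ = a * x * a⁻¹ * x⁻¹ := by group
    rw [e, ← hP₁X₂]
    exact Subgroup.commutator_mem_commutator ha hx
  have hNeq : N = P := by
    by_contra hne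
    obtain ⟨g, hgP, hgN, hgnot⟩ := normalizer_grow (P : Subgroup S) N hPp hNP hne
    obtain ⟨N₂, hN₂⟩ : ∃ N₂, N₂ = (P : Subgroup S) ⊓ Subgroup.normalizer (N : Set S) := ⟨_, rfl⟩
    have hN₂P : N₂ ≤ P := by rw [hN₂]; exact inf_le_left
    have hQN₂ : Q ≤ Subgroup.normalizer (N₂ : Set S) := by rw [hN₂]; exact hnormN _ _ hQP hQN
    have hgN₂ : g ∈ N₂ := by rw [hN₂]; exact Subgroup.mem_inf.mpr ⟨hgP, hgN⟩
    have hg2 := gen N₂ hN₂P hQN₂ hgN₂
    apply hgnot
    refine (sup_le ?_ ?_ : _ ≤ N) hg2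
    · refine le_trans ?_ hP₁N
      rw [hP₁]; exact inf_le_inf_right _ hN₂P
    · intro b hb
      obtain ⟨hb1, hb2⟩ := Subgroup.mem_inf.mp hb
      rw [hN₂] at hb1
      obtain ⟨hbP, hbN⟩ := Subgroup.mem_inf.mp hb1
      rw [hN]
      refine Subgroup.mem_inf.mpr ⟨hbP, ?_⟩
      apply Cfsg.Agent.Lib.Lead.Conj.mem_normalizer_of_conj_mem
      intro a ha
      have hmap : (⁅P₁, X₂⁆).map (MulAut.conj b).toMonoidHom ≤ ⁅N, X₂⁆ := by
        rw [Subgroup.map_commutator]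
        apply Subgroup.commutator_mono
        · rintro _ ⟨a', ha', rfl⟩
          have : b * a' * b⁻¹ ∈ N := (Subgroup.mem_normalizer_iff.mp hbN a').mp (hP₁N ha')
          simpa [MulAut.conj_apply] using this
        · rintro _ ⟨x, hx, rfl⟩
          have hbx : x * b = b * x := (Subgroup.mem_centralizer_iff.mp hb2) x hx
          have : (MulAut.conj b).toMonoidHom x = x := by
            simp only [MulEquiv.coe_toMonoidHom, MulAut.conj_apply]
            rw [← hbx]; group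
          rw [this]; exact hx
      rw [hP₁X₂] at hmap
      apply hNX₂
      apply hmap
      exact Subgroup.mem_map.mpr ⟨a, ha, by simp [MulAut.conj_apply]⟩
  have hP₂B : P₂ ≤ B := by
    rw [hB, hNeq, hP₂]
  refine ⟨?_, hinf, ?_⟩
  · rw [Subgroup.commutator_comm, eq_bot_iff, ← hBP₁]
    exact Subgroup.commutator_mono hP₂B le_rfl
  · apply le_antisymm (sup_le hP₁P hP₂P)
    have := gen (P : Subgroup S) le_rfl hQP
    rw [← hP₁, ← hP₂] at this
    exact this

end Cfsg.Agent.S1900
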