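import Cfsg.Statements.S1901
import Mathlib
import Cfsg.Agent.Lib.Lead.PSolvable
import Cfsg.Agent.Lib.Lead.OmegaFaithful
import Cfsg.Agent.Lib.Lead.ConjAut
import Cfsg.Agent.Lib.Lead.Conj
import Cfsg.Agent.Lib.Helper7.SylowLib

set_option autoImplicit false
open Cfsg

namespace Cfsg.Agent.S1901

open Cfsg.Agent.Lib.Lead.PSolvable Cfsg.Agent.Lib.Lead.OmegaFaithful Cfsg.Agent.Lib.Lead.Conj
open Cfsg.Agent.Lib.Helper7

theorem eq_one_of_pow_of_dvd {H : Type*} [Group H] {p : ℕ} (hp : p.Prime) {c : H} {j n : ℕ}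
    (h1 : c ^ p ^ j = 1) (h2 : orderOf c ∣ n) (hn : ¬ p ∣ n) : c = 1 := by
  have d1 := orderOf_dvd_of_pow_eq_one h1
  have hc : (p ^ j).Coprime n := Nat.Coprime.pow_left j ((Nat.Prime.coprime_iff_not_dvd hp).2 hn)
  exact orderOf_eq_one_iff.1 (Nat.eq_one_of_dvd_coprimes hc d1 h2)

theorem orderOf_dvd_card_of_mem {H : Type*} [Group H] {Q : Subgroup H} {c : H} (hc : c ∈ Q) :
    orderOf c ∣ Nat.card ↥Q := by
  have := orderOf_dvd_natCard (⟨c, hc⟩ : ↥Q)
  rwa [Subgroup.orderOf_mk] at this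

/-- a `p`-element of `N(D)` centralizes `D` as soon as a Sylow `p`-subgroup of `G` does -/
theorem mem_centralizer_of_sylow_le {G : Type*} [Group G] [Finite G] {p : ℕ} [hp : Fact p.Prime]
    (P : Sylow p G) (D : Subgroup G) (hPD : (P : Subgroup G) ≤ Subgroup.centralizer (D : Set G))
    (x : G) (hx : x ∈ Subgroup.normalizer (D : Set G)) {k : ℕ} (hxk : x ^ p ^ k = 1) :
    x ∈ Subgroup.centralizer (D : Set G) := by
  have hzp : IsPGroup p ↥(Subgroup.zpowers x) := by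
    have hd : orderOf x ∣ p ^ k := orderOf_dvd_of_pow_eq_one hxk
    obtain ⟨j, -, hj⟩ := (Nat.dvd_prime_pow hp.out).1 hd
    exact IsPGroup.of_card (n := j) (by rw [Nat.card_zpowers, hj])
  have hzN : Subgroup.zpowers x ≤ Subgroup.normalizer (D : Set G) := by
    rw [Subgroup.zpowers_le]; exact hx
  obtain ⟨T, hT, hxT⟩ := exists_isSylowIn_ge hzp hzN
  have hPN : (P : Subgroup G) ≤ Subgroup.normalizer (D : Set G) :=
    hPD.trans (Subgroup.centralizer_le_normalizer _)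
  obtain ⟨h, hh, hTeq⟩ := (IsSylowIn.of_sylow_le P hPN).conj hT
  have hxT' : x ∈ T := hxT (Subgroup.mem_zpowers x)
  rw [hTeq, mem_map_conj] at hxT'
  have hg := hPD hxT'
  rw [Subgroup.mem_centralizer_iff] at hg ⊢
  intro d hd
  have hd' : h⁻¹ * d * h⁻¹⁻¹ ∈ D := (Subgroup.mem_normalizer_iff.1 (inv_mem hh) d).1 hd
  have := hg _ hd'
  calc d * x = h * ((h⁻¹ * d * h⁻¹⁻¹) * (h⁻¹ * x * h)) * h⁻¹ := by group
    _ = h * ((h⁻¹ * x * h) * (h⁻¹ * d * h⁻¹⁻¹)) * h⁻¹ := by rw [this]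
    _ = x * d := by group

/-- the main induction -/
theorem aux.{u} {p : ℕ} [hp : Fact p.Prime] : ∀ (n : ℕ) (G : Type u) [Group G] [Finite G], Nat.card G = n →
    Cfsg.IsPSolvable p G → ∀ Q : Subgroup G, ¬ p ∣ Nat.card ↥Q → ∀ P : Sylow p G,
    Q ≤ Subgroup.normalizer ((P : Subgroup G) : Set G) →
    ∀ x ∈ Subgroup.normalizer (Q : Set G), ∀ k : ℕ, x ^ p ^ k = 1 →
      x ∈ Subgroup.centralizer (Q : Set G) := by
  intro n
  induction n using Nat.strong_induction_on with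
  | _ n ih =>
  intro G _ _ hcard hsol Q hQ P hQP x hx k hxk
  by_cases htriv : Subsingleton G
  · have : x = 1 := Subsingleton.elim _ _
    rw [this]; exact one_mem _
  haveI : Nontrivial G := not_subsingleton_iff_nontrivial.1 htriv
  obtain ⟨M, hMn, hMne, hM⟩ := IsPSolvable.exists_normal hsol
  haveI := hMn
  -- the quotient
  have hlt : Nat.card (G ⧸ M) < n := by
    rw [← hcard, ← M.card_mul_index, ← Subgroup.index_eq_card]
    have h1 : 1 < Nat.card ↥M := (Subgroup.one_lt_card_iff_ne_bot M).2 hMne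
    have h2 : 0 < M.index := Nat.pos_of_ne_zero Subgroup.index_ne_zero_of_finite
    nlinarith
  have hsurj : Function.Surjective (QuotientGroup.mk' M) := QuotientGroup.mk'_surjective M
  have hQbar : ¬ p ∣ Nat.card ↥(Q.map (QuotientGroup.mk' M)) := fun h =>
    hQ (dvd_trans h (Subgroup.card_map_dvd Q _))
  have hQPbar : Q.map (QuotientGroup.mk' M) ≤
      Subgroup.normalizer (((P.mapSurjective hsurj : Sylow p (G ⧸ M)) : Subgroup (G ⧸ M)) : Set (G ⧸ M)) := by
    rw [Sylow.coe_mapSurjective]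
    exact (Subgroup.map_mono hQP).trans (Subgroup.le_normalizer_map _)
  have hxbar : QuotientGroup.mk' M x ∈ Subgroup.normalizer ((Q.map (QuotientGroup.mk' M) : Subgroup _) : Set _) :=
    Subgroup.le_normalizer_map _ (Subgroup.mem_map_of_mem _ hx)
  have hIH := ih _ hlt (G ⧸ M) rfl (IsPSolvable.quotient M hsol) _ hQbar (P.mapSurjective hsurj) hQPbar
    _ hxbar k (by rw [← map_pow, hxk, map_one])
  -- commutators lie in `M ∩ Q`
  have hcM : ∀ y ∈ Q, x * y * x⁻¹ * y⁻¹ ∈ M := by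
    intro y hy
    have hcomm := Subgroup.mem_centralizer_iff.1 hIH _ (Subgroup.mem_map_of_mem (QuotientGroup.mk' M) hy)
    apply (QuotientGroup.eq_one_iff _).1
    have e : ((x * y * x⁻¹ * y⁻¹ : G) : G ⧸ M) = QuotientGroup.mk' M x * QuotientGroup.mk' M y *
        (QuotientGroup.mk' M x)⁻¹ * (QuotientGroup.mk' M y)⁻¹ := by
      simp only [QuotientGroup.mk'_apply, QuotientGroup.mk_mul, QuotientGroup.mk_inv]
    rw [e, ← hcomm]
    group
  have hcQ : ∀ y ∈ Q, x * y * x⁻¹ * y⁻¹ ∈ Q := fun y hy =>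
    mul_mem ((Subgroup.mem_normalizer_iff.1 hx y).1 hy) (inv_mem hy)
  rw [Subgroup.mem_centralizer_iff]
  rcases hM with hMp | hMc
  · -- `M` a `p`-group
    intro y hy
    obtain ⟨j, hj⟩ := hMp ⟨_, hcM y hy⟩
    have hj' : (x * y * x⁻¹ * y⁻¹) ^ p ^ j = 1 := by
      have := congrArg Subtype.val hj
      simpa using this
    have h1 := eq_one_of_pow_of_dvd hp.out hj' (orderOf_dvd_card_of_mem (hcQ y hy)) hQ
    calc y * x = (x * y * x⁻¹ * y⁻¹)⁻¹ * (x * y) := by group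
      _ = x * y := by rw [h1]; group
  · -- `M` a `p'`-group
    -- `P` centralizes `D = M ⊓ Q`
    have hPD : (P : Subgroup G) ≤ Subgroup.centralizer ((M ⊓ Q : Subgroup G) : Set G) := by
      intro g hg
      rw [Subgroup.mem_centralizer_iff]
      intro d hd
      have hdM : d ∈ M := (Subgroup.mem_inf.1 hd).1
      have hdQ : d ∈ Q := (Subgroup.mem_inf.1 hd).2
      have h1 : g * d * g⁻¹ * d⁻¹ ∈ M := mul_mem (hMn.conj_mem d hdM g) (inv_mem hdM)
      have h2 : g * d * g⁻¹ * d⁻¹ ∈ (P : Subgroup G) := by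
        have hdN := hQP hdQ
        have := (Subgroup.mem_normalizer_iff.1 hdN g⁻¹).1 (inv_mem hg)
        have e : g * d * g⁻¹ * d⁻¹ = g * (d * g⁻¹ * d⁻¹) := by group
        rw [e]
        exact mul_mem hg this
      obtain ⟨j, hj⟩ := P.isPGroup' ⟨_, h2⟩
      have hj' : (g * d * g⁻¹ * d⁻¹) ^ p ^ j = 1 := by
        have := congrArg Subtype.val hj
        simpa using this
      have hMnd : ¬ p ∣ Nat.card ↥M := (Nat.Prime.coprime_iff_not_dvd hp.out).1 hMc.symm
      have h3 := eq_one_of_pow_of_dvd hp.out hj' (orderOf_dvd_card_of_mem h1) hMnd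
      calc d * g = (g * d * g⁻¹ * d⁻¹)⁻¹ * (g * d) := by group
        _ = g * d := by rw [h3]; group
    have hxD : x ∈ Subgroup.normalizer ((M ⊓ Q : Subgroup G) : Set G) := by
      apply mem_normalizer_of_conj_mem
      intro r hr
      exact Subgroup.mem_inf.2 ⟨hMn.conj_mem r (Subgroup.mem_inf.1 hr).1 x,
        (Subgroup.mem_normalizer_iff.1 hx r).1 (Subgroup.mem_inf.1 hr).2⟩
    have hxC := mem_centralizer_of_sylow_le P (M ⊓ Q) hPD x hxD hxk
    intro y hy
    -- the automorphism of `Q` induced by `x`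
    obtain ⟨a, ha, hoa⟩ := Cfsg.Agent.Lib.Lead.ConjAut.exists_mulAut Q x hx
    have hdQ : y * x * y⁻¹ * x⁻¹ ∈ Q := by
      have := inv_mem (hcQ y hy)
      have e : (x * y * x⁻¹ * y⁻¹)⁻¹ = y * x * y⁻¹ * x⁻¹ := by group
      rwa [e] at this
    have hdM : y * x * y⁻¹ * x⁻¹ ∈ M := by
      have := inv_mem (hcM y hy)
      have e : (x * y * x⁻¹ * y⁻¹)⁻¹ = y * x * y⁻¹ * x⁻¹ := by group
      rwa [e] at this
    have h1 : a (⟨y, hy⟩⁻¹ : ↥Q) = (⟨y, hy⟩⁻¹ : ↥Q) * ⟨_, hdQ⟩ := by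
      apply Subtype.ext
      rw [ha, Subgroup.coe_mul]
      simp only [Subgroup.coe_inv]
      group
    have h2 : a (⟨_, hdQ⟩ : ↥Q) = ⟨_, hdQ⟩ := by
      apply Subtype.ext
      rw [ha]
      have := Subgroup.mem_centralizer_iff.1 hxC _ (Subgroup.mem_inf.2 ⟨hdM, hdQ⟩)
      simp only
      rw [← this]; group
    have h3 := pow_apply_step a h1 h2 (orderOf a)
    rw [pow_orderOf_eq_one, MulAut.one_apply] at h3
    have h4 : (⟨_, hdQ⟩ : ↥Q) ^ orderOf a = 1 := by
      have : (⟨y, hy⟩⁻¹ : ↥Q) * 1 = (⟨y, hy⟩⁻¹ : ↥Q) * (⟨_, hdQ⟩ : ↥Q) ^ orderOf a := by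
        rw [mul_one]; exact h3
      exact (mul_left_cancel this).symm
    have h5 : (y * x * y⁻¹ * x⁻¹) ^ orderOf a = 1 := by
      have := congrArg Subtype.val h4
      simpa using this
    have hox : orderOf x ∣ p ^ k := orderOf_dvd_of_pow_eq_one hxk
    obtain ⟨j, -, hj⟩ := (Nat.dvd_prime_pow hp.out).1 (dvd_trans hoa hox)
    rw [hj] at h5
    have h6 := eq_one_of_pow_of_dvd hp.out h5 (orderOf_dvd_card_of_mem hdQ) hQ
    calc y * x = (y * x * y⁻¹ * x⁻¹) * (x * y) := by group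
      _ = x * y := by rw [h6, one_mul]

/-- Let G be a finite p-solvable group and Q a subgroup of order prime to p such that p divides the index of C_G(Q) in N_G(Q). Then Q normalizes no Sylow p-subgroup of G. -/
theorem result {G : Type*} [Group G] [Finite G] {p : ℕ} [Fact p.Prime]
    (hG : Cfsg.IsPSolvable p G) (Q : Subgroup G) (hQ : ¬ p ∣ Nat.card Q)
    (hA : p ∣ (Subgroup.centralizer (Q : Set G)).relIndex (Subgroup.normalizer (Q : Set G)))
    (P : Sylow p G) : ¬ Q ≤ Subgroup.normalizer ((P : Subgroup G) : Set G) := by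
  intro hQP
  have hp : p.Prime := Fact.out
  have hall : ∀ x ∈ Subgroup.normalizer (Q : Set G), ∀ k : ℕ, x ^ p ^ k = 1 →
      x ∈ Subgroup.centralizer (Q : Set G) := aux _ G rfl hG Q hQ P hQP
  obtain ⟨T⟩ : Nonempty (Sylow p ↥(Subgroup.normalizer (Q : Set G))) := inferInstance
  have hTle : (T : Subgroup ↥(Subgroup.normalizer (Q : Set G))) ≤
      (Subgroup.centralizer (Q : Set G)).subgroupOf (Subgroup.normalizer (Q : Set G)) := by
    intro t ht
    rw [Subgroup.mem_subgroupOf]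
    obtain ⟨k, hk⟩ := T.isPGroup' ⟨t, ht⟩
    have hk' : (t : G) ^ p ^ k = 1 := by
      have := congrArg Subtype.val (congrArg Subtype.val hk)
      simpa using this
    exact hall t.1 t.2 k hk'
  have h1 : ((Subgroup.centralizer (Q : Set G)).subgroupOf (Subgroup.normalizer (Q : Set G))).index ∣
      (T : Subgroup ↥(Subgroup.normalizer (Q : Set G))).index := Subgroup.index_dvd_of_le hTle
  exact T.not_dvd_index (dvd_trans hA h1)

end Cfsg.Agent.S1901
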