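import Cfsg.Statements.S1902
import Mathlib
import Cfsg.Agent.Lib.Helper4.PQOmega
import Cfsg.Agent.Lib.Lead.PSolvable

set_option autoImplicit false
open Cfsg
open scoped commutatorElement

namespace Cfsg.Agent.S1902

theorem omega_aux {G : Type*} [Group G] [Finite G] {p : ℕ} [Fact p.Prime] (C : Subgroup G) (P : Sylow p ↥C)
    (B : Subgroup G) (hBC : B ≤ C) (hBp : IsPGroup p ↥B)
    (hsub : ∀ y ∈ ((P : Subgroup ↥C).map C.subtype : Subgroup G), orderOf y = p → y ∈ B)
    (hord : ∀ b ∈ B, b ≠ 1 → orderOf b = p) :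
    ∀ x ∈ C, x ∈ Subgroup.centralizer (B : Set G) → orderOf x = p → x ∈ B := by
  classical
  intro x hxC hx hxo
  have hzp : IsPGroup p ↥(Subgroup.zpowers x) := by
    rw [IsPGroup.iff_card, Nat.card_zpowers, hxo]
    exact ⟨1, (pow_one p).symm⟩
  have hzn : Subgroup.zpowers x ≤ Subgroup.normalizer (B : Set G) := by
    rw [Subgroup.zpowers_le]
    exact Subgroup.centralizer_le_normalizer _ hx
  have hKp : IsPGroup p ↥(Subgroup.zpowers x ⊔ B) := IsPGroup.to_sup_of_normal_right' hzp hBp hzn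
  have hKC : Subgroup.zpowers x ⊔ B ≤ C := sup_le (by rw [Subgroup.zpowers_le]; exact hxC) hBC
  set K := Subgroup.zpowers x ⊔ B with hK
  have hKp' : IsPGroup p ↥(K.subgroupOf C) := by
    have : IsPGroup p ↥(K.comap C.subtype) :=
      hKp.comap_of_injective C.subtype C.subtype_injective
    exact this
  obtain ⟨P', hP'⟩ := hKp'.exists_le_sylow
  obtain ⟨c, hc⟩ := MulAction.exists_smul_eq (↥C) P P'
  -- every element of K is conjugate by c⁻¹ into PG
  have hconj : ∀ y ∈ K, (c : G)⁻¹ * y * (c : G) ∈ ((P : Subgroup ↥C).map C.subtype : Subgroup G) := by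
    intro y hy
    have hyC : y ∈ C := hKC hy
    have h1 : (⟨y, hyC⟩ : ↥C) ∈ (P' : Subgroup ↥C) := hP' (by
      rw [Subgroup.mem_subgroupOf]; exact hy)
    rw [← hc, Sylow.smul_def, Sylow.pointwise_smul_def, Subgroup.mem_pointwise_smul_iff_inv_smul_mem] at h1
    rw [Subgroup.mem_map]
    refine ⟨_, h1, ?_⟩
    simp [MulAut.smul_def]
  have hordconj : ∀ y : G, orderOf ((c : G)⁻¹ * y * (c : G)) = orderOf y := by
    intro y
    have := orderOf_injective (MulAut.conj (c : G)⁻¹).toMonoidHom (MulAut.conj (c : G)⁻¹).injective y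
    simpa [MulAut.conj_apply] using this
  have hBB : B.map (MulAut.conj (c : G)⁻¹).toMonoidHom ≤ B := by
    rintro _ ⟨b, hb, rfl⟩
    by_cases hb1 : b = 1
    · subst hb1; simp
    · have h2 := hconj b (le_sup_right (a := Subgroup.zpowers x) hb)
      have h3 : orderOf ((c : G)⁻¹ * b * (c : G)) = p := by rw [hordconj]; exact hord b hb hb1
      have := hsub _ h2 h3
      simpa [MulAut.conj_apply] using this
  have hBeq : B.map (MulAut.conj (c : G)⁻¹).toMonoidHom = B := by
    apply Subgroup.eq_of_le_of_card_ge hBB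
    rw [Subgroup.card_map_of_injective (MulAut.conj (c : G)⁻¹).injective]
  have hxK : x ∈ K := le_sup_left (b := B) (Subgroup.mem_zpowers x)
  have h4 : (c : G)⁻¹ * x * (c : G) ∈ B := hsub _ (hconj x hxK) (by rw [hordconj]; exact hxo)
  rw [← hBeq] at h4
  obtain ⟨b, hb, hbx⟩ := h4
  have : b = x := by
    have h5 : (MulAut.conj (c : G)⁻¹) b = (MulAut.conj (c : G)⁻¹) x := by
      simpa [MulAut.conj_apply] using hbx
    exact (MulAut.conj (c : G)⁻¹).injective h5
  rw [← this]; exact hb

/-- Let p be an odd prime, G a finite p-solvable group, and B an elementary abelian subgroup of order p² such that B is the subgroup generated by the elements of order p of some Sylow p-subgroup of C_G(b₀), for some nontrivial b₀ ∈ B. Then every B-invariant subgroup of G of order prime to p lies in O_{p'}(G). -/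
theorem result {G : Type*} [Group G] [Finite G] {p : ℕ} [Fact p.Prime] (hp : p ≠ 2)
    (hG : Cfsg.IsPSolvable p G) (B : Subgroup G) (hB : Cfsg.IsElementaryAbelian p B) (hBc : Nat.card B = p ^ 2)
    (b₀ : G) (hb₀ : b₀ ∈ B) (hb₁ : b₀ ≠ 1) (P : Sylow p ↥(Subgroup.centralizer ({b₀} : Set G)))
    (hBP : B = Subgroup.closure {x : G | x ∈ ((P : Subgroup ↥(Subgroup.centralizer ({b₀} : Set G))).map
      (Subgroup.centralizer ({b₀} : Set G)).subtype : Subgroup G) ∧ orderOf x = p})
    (Q : Subgroup G) (hQ : ¬ p ∣ Nat.card Q) (hinv : ∀ b ∈ B, ∀ x ∈ Q, b * x * b⁻¹ ∈ Q) :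
    Q ≤ Cfsg.pPrimeCore p G := by
  classical
  have hpp : p.Prime := Fact.out
  have hBp : IsPGroup p ↥B := by
    intro ⟨b, hb⟩
    refine ⟨1, ?_⟩
    apply Subtype.ext
    simp only [pow_one, Subgroup.coe_pow, Subgroup.coe_one]
    exact hB.2 b hb
  have hord : ∀ b ∈ B, b ≠ 1 → orderOf b = p := fun b hb hb1 => orderOf_eq_prime (hB.2 b hb) hb1
  have hBcomm : ∀ a ∈ B, ∀ b ∈ B, a * b = b * a := by
    intro a ha b hb
    have := hB.1.is_comm.comm ⟨a, ha⟩ ⟨b, hb⟩
    exact congrArg Subtype.val this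
  have hBC : B ≤ Subgroup.centralizer ({b₀} : Set G) := by
    intro b hb
    rw [Subgroup.mem_centralizer_iff]
    intro y hy
    rw [Set.mem_singleton_iff] at hy
    subst hy
    exact hBcomm _ hb₀ _ hb
  have hsub : ∀ y ∈ ((P : Subgroup ↥(Subgroup.centralizer ({b₀} : Set G))).map
      (Subgroup.centralizer ({b₀} : Set G)).subtype : Subgroup G), orderOf y = p → y ∈ B := by
    intro y hy hyo
    rw [hBP]
    exact Subgroup.subset_closure ⟨hy, hyo⟩
  have hΩ : ∀ x ∈ Subgroup.centralizer (B : Set G), orderOf x = p → x ∈ B := by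
    intro x hx hxo
    have hxC : x ∈ Subgroup.centralizer ({b₀} : Set G) := by
      rw [Subgroup.mem_centralizer_iff]
      intro y hy
      rw [Set.mem_singleton_iff] at hy
      subst hy
      exact hx _ hb₀
    exact omega_aux _ P B hBC hBp hsub hord x hxC hx hxo
  have hnorm : B ≤ Subgroup.normalizer (Q : Set G) := by
    intro b hb
    rw [Subgroup.mem_normalizer_iff]
    intro y
    refine ⟨fun hy => hinv b hb y hy, fun hy => ?_⟩
    have := hinv b⁻¹ (B.inv_mem hb) _ hy
    simpa [mul_assoc] using this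
  exact Cfsg.Agent.Lib.Helper4.PQOmega.le_pPrimeCore_of_invariant hp
    (Cfsg.Agent.Lib.Lead.PSolvable.IsPSolvable.isPConstrained hG) B hBp hΩ Q hQ hnorm

end Cfsg.Agent.S1902
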