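import Cfsg.Statements.S1905
import Cfsg.Agent.Lib.Lead.StrEmb2
import Cfsg.Agent.Lib.Lead.Conj
import Cfsg.Agent.Lib.Helper7.SylowLib
import Mathlib

set_option autoImplicit false
open Cfsg

namespace Cfsg.Agent.S1905

open Cfsg.Agent.Lib.Lead.StrEmb2 Cfsg.Agent.Lib.Lead.Conj Cfsg.Agent.Lib.Helper7
section S1905aux

variable {S : Type*} [Group S]

theorem mem_cent_singleton {x t : S} : x ∈ Subgroup.centralizer ({t} : Set S) ↔ t * x = x * t := by
  rw [Subgroup.mem_centralizer_iff]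
  constructor
  · intro h; exact h t rfl
  · intro h y hy; rw [Set.mem_singleton_iff] at hy; rw [hy]; exact h

/-- the strong embedding property -/
theorem se_prop [Finite S] (M : Subgroup S)
    (hC : ∀ i ∈ M, orderOf i = 2 → Subgroup.centralizer ({i} : Set S) ≤ M)
    (XS : Subgroup S) (hXS : IsSylowIn 2 XS M)
    (hN : Subgroup.normalizer (XS : Set S) ≤ M)
    (x : S) (hxM : x ∈ M) (hx2 : orderOf x = 2) (g : S) (hy : g * x * g⁻¹ ∈ M) : g ∈ M := by
  haveI : Fact (Nat.Prime 2) := ⟨Nat.prime_two⟩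
  have hx1 : x ≠ 1 := by
    rintro rfl
    rw [orderOf_one] at hx2
    norm_num at hx2
  have hQ : IsPGroup 2 ↥(Subgroup.zpowers x) :=
    IsPGroup.of_card (n := 1) (by rw [Nat.card_zpowers, hx2, pow_one])
  obtain ⟨X₁, hX₁, hQX₁⟩ := exists_isSylowIn_ge hQ (Subgroup.zpowers_le.mpr hxM)
  have hxX₁ : x ∈ X₁ := hQX₁ (Subgroup.mem_zpowers x)
  obtain ⟨m, hmM, hX₁eq⟩ := hXS.conj hX₁
  have hNX₁ : Subgroup.normalizer (X₁ : Set S) ≤ M := by
    intro n hn
    have h1 : m⁻¹ * n * m ∈ Subgroup.normalizer (XS : Set S) := by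
      apply mem_normalizer_of_conj_mem
      intro r hr
      have h2 : m * r * m⁻¹ ∈ X₁ := by rw [hX₁eq]; exact conj_mem_map_conj XS m hr
      have h3 : n * (m * r * m⁻¹) * n⁻¹ ∈ X₁ := (Subgroup.mem_normalizer_iff.mp hn _).mp h2
      rw [hX₁eq, mem_map_conj] at h3
      have e : m⁻¹ * n * m * r * (m⁻¹ * n * m)⁻¹ = m⁻¹ * (n * (m * r * m⁻¹) * n⁻¹) * m := by group
      rw [e]; exact h3
    have h2 := hN h1
    have e : n = m * (m⁻¹ * n * m) * m⁻¹ := by group
    rw [e]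
    exact M.mul_mem (M.mul_mem hmM h2) (M.inv_mem hmM)
  -- a central involution of X₁
  haveI : Nontrivial ↥X₁ := ⟨⟨⟨x, hxX₁⟩, 1, fun h => hx1 (congrArg Subtype.val h)⟩⟩
  have hpX₁ : IsPGroup 2 ↥X₁ := hX₁.isPGroup
  have hZnt : Nontrivial (Subgroup.center ↥X₁) := IsPGroup.center_nontrivial hpX₁
  obtain ⟨n, hn0, hn⟩ := (hpX₁.to_subgroup (Subgroup.center ↥X₁)).nontrivial_iff_card.mp hZnt
  have h2 : 2 ∣ Nat.card (Subgroup.center ↥X₁) := by
    rw [hn]; exact dvd_pow_self 2 (Nat.pos_iff_ne_zero.mp hn0)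
  obtain ⟨⟨z₁, hz₁Z⟩, hz₁⟩ := exists_prime_orderOf_dvd_card' 2 h2
  rw [Subgroup.orderOf_mk] at hz₁
  have hz2 : orderOf (z₁ : S) = 2 := by rw [Subgroup.orderOf_coe]; exact hz₁
  have hzc : ∀ a ∈ X₁, a * (z₁ : S) = (z₁ : S) * a := fun a ha =>
    congrArg Subtype.val (Subgroup.mem_center_iff.mp hz₁Z ⟨a, ha⟩)
  obtain ⟨z, hz⟩ : ∃ z : S, z = (z₁ : S) := ⟨_, rfl⟩
  rw [← hz] at hz2 hzc
  have hz'2 : orderOf (g * z * g⁻¹) = 2 := by rw [orderOf_conj]; exact hz2
  have hy2 : orderOf (g * x * g⁻¹) = 2 := by rw [orderOf_conj]; exact hx2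
  have hz'M : g * z * g⁻¹ ∈ M := by
    apply hC (g * x * g⁻¹) hy hy2
    rw [mem_cent_singleton]
    have := hzc x hxX₁
    calc g * x * g⁻¹ * (g * z * g⁻¹) = g * (x * z) * g⁻¹ := by group
      _ = g * (z * x) * g⁻¹ := by rw [this]
      _ = g * z * g⁻¹ * (g * x * g⁻¹) := by group
  have hcz' := hC (g * z * g⁻¹) hz'M hz'2
  obtain ⟨X', hX'def⟩ : ∃ X' : Subgroup S, X' = X₁.map (MulAut.conj g).toMonoidHom := ⟨_, rfl⟩
  have hX'M : X' ≤ M := by
    intro a ha
    apply hcz'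
    rw [hX'def] at ha
    obtain ⟨r, hr, rfl⟩ := ha
    rw [mem_cent_singleton]
    show g * z * g⁻¹ * (g * r * g⁻¹) = g * r * g⁻¹ * (g * z * g⁻¹)
    have := hzc r hr
    calc g * z * g⁻¹ * (g * r * g⁻¹) = g * (z * r) * g⁻¹ := by group
      _ = g * (r * z) * g⁻¹ := by rw [this]
      _ = g * r * g⁻¹ * (g * z * g⁻¹) := by group
  have hX' : IsSylowIn 2 X' M := ⟨hX'M, by rw [hX'def, card_map_conj]; exact hX₁.2⟩
  obtain ⟨m₂, hm₂M, hX'eq⟩ := hX₁.conj hX'
  have h3 : m₂⁻¹ * g ∈ Subgroup.normalizer (X₁ : Set S) := by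
    apply mem_normalizer_of_conj_mem
    intro r hr
    have h4 : g * r * g⁻¹ ∈ X' := by rw [hX'def]; exact conj_mem_map_conj X₁ g hr
    rw [hX'eq, mem_map_conj] at h4
    have e : m₂⁻¹ * g * r * (m₂⁻¹ * g)⁻¹ = m₂⁻¹ * (g * r * g⁻¹) * m₂ := by group
    rw [e]; exact h4
  have h4 := hNX₁ h3
  have e : g = m₂ * (m₂⁻¹ * g) := by group
  rw [e]
  exact M.mul_mem hm₂M h4

end S1905aux

/-- Let M be a subgroup of even order of a finite group S such that M contains the centralizer in S of each of its involutions and the normal core of M in S has odd order. Then all involutions of S are conjugate. If moreover N_S(X) ≤ M for a Sylow 2-subgroup X of M and I is an involution in the centre of X, then all involutions of M are conjugate in M and M = M₀ C_M(I) for some subgroup M₀ of M of odd order. -/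
theorem result {S : Type*} [Group S] [Finite S] (M : Subgroup S) (hM : Even (Nat.card M))
    (hC : ∀ i ∈ M, orderOf i = 2 → Subgroup.centralizer ({i} : Set S) ≤ M) (hcore : Odd (Nat.card M.normalCore)) :
    (∀ x y : S, orderOf x = 2 → orderOf y = 2 → IsConj x y) ∧
      ∀ (X : Sylow 2 M) (I : M), I ∈ (Subgroup.center ↥(X : Subgroup ↥M)).map (X : Subgroup ↥M).subtype → orderOf I = 2 →
        Subgroup.normalizer (((X : Subgroup M).map M.subtype : Subgroup S) : Set S) ≤ M →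
        (∀ x y : M, orderOf x = 2 → orderOf y = 2 → IsConj x y) ∧
          ∃ M₀ : Subgroup M, Odd (Nat.card M₀) ∧
            ∀ m : M, ∃ a ∈ M₀, ∃ c ∈ Subgroup.centralizer ({I} : Set M), m = a * c := by

  classical
  haveI : Fact (Nat.Prime 2) := ⟨Nat.prime_two⟩
  -- an involution of M
  obtain ⟨⟨t₀, ht₀M⟩, ht₀⟩ := exists_prime_orderOf_dvd_card' 2 (even_iff_two_dvd.mp hM)
  rw [Subgroup.orderOf_mk] at ht₀
  have hmemcore : ∀ s : S, (∀ b : S, b * s * b⁻¹ ∈ M) → s ∈ M.normalCore := fun s h => h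
  have claimA : ∀ i ∈ M, orderOf i = 2 → ∀ s : S, orderOf s = 2 → IsConj i s ∨ s ∈ M := by
    intro i hiM hi2 s hs2
    rcases dihedral_dichotomy i s (invol_mul_self hi2) (invol_mul_self hs2) with
      ⟨z, hz2, hzi, hzs⟩ | ⟨w, hww, hw⟩
    · right
      have hzM : z ∈ M := hC i hiM hi2 (mem_cent_singleton.mpr hzi.symm)
      exact hC z hzM hz2 (mem_cent_singleton.mpr hzs)
    · left
      exact isConj_iff.mpr ⟨w, hw⟩
  have claimB : ∀ s : S, orderOf s = 2 → IsConj t₀ s := by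
    intro s hs2
    by_contra hnc
    have hall : ∀ b : S, b * s * b⁻¹ ∈ M := by
      intro b
      have hb2 : orderOf (b * s * b⁻¹) = 2 := by rw [orderOf_conj]; exact hs2
      rcases claimA t₀ ht₀M ht₀ _ hb2 with h | h
      · exfalso
        apply hnc
        have h1 : IsConj (b * s * b⁻¹) s := isConj_iff.mpr ⟨b⁻¹, by group⟩
        exact h.trans h1
      · exact h
    exact not_odd_of_mem _ s (hmemcore s hall) hs2 hcore
  have part1 : ∀ x y : S, orderOf x = 2 → orderOf y = 2 → IsConj x y := fun x y hx hy =>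
    (claimB x hx).symm.trans (claimB y hy)
  refine ⟨part1, ?_⟩
  intro X I hIZ hI2 hN
  obtain ⟨XS, hXSdef⟩ : ∃ XS : Subgroup S, XS = (X : Subgroup M).map M.subtype := ⟨_, rfl⟩
  rw [← hXSdef] at hN
  have hXS : IsSylowIn 2 XS M := by rw [hXSdef]; exact IsSylowIn.of_sylow X
  have SE : ∀ x ∈ M, orderOf x = 2 → ∀ g : S, g * x * g⁻¹ ∈ M → g ∈ M :=
    fun x hxM hx2 g hy => se_prop M hC XS hXS hN x hxM hx2 g hy
  constructor
  · intro x y hx hy
    have hx' : orderOf (x : S) = 2 := by rw [Subgroup.orderOf_coe]; exact hx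
    have hy' : orderOf (y : S) = 2 := by rw [Subgroup.orderOf_coe]; exact hy
    obtain ⟨g, hg⟩ := isConj_iff.mp (part1 _ _ hx' hy')
    have hgM : g ∈ M := SE x x.2 hx' g (by rw [hg]; exact y.2)
    exact isConj_iff.mpr ⟨⟨g, hgM⟩, Subtype.ext hg⟩
  · obtain ⟨t, ht⟩ : ∃ t : S, t = (I : S) := ⟨_, rfl⟩
    have htM : t ∈ M := by rw [ht]; exact I.2
    have ht2 : orderOf t = 2 := by rw [ht, Subgroup.orderOf_coe]; exact hI2
    -- an involution outside M
    have hexu : ∃ u : S, orderOf u = 2 ∧ u ∉ M := by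
      by_contra hcon
      push Not at hcon
      have hall : ∀ b : S, b * t * b⁻¹ ∈ M := fun b => hcon _ (by rw [orderOf_conj]; exact ht2)
      exact not_odd_of_mem _ t (hmemcore t hall) ht2 hcore
    obtain ⟨u, hu2, huM⟩ := hexu
    have huu : u * u = 1 := invol_mul_self hu2
    have huinv : u⁻¹ = u := inv_eq_of_mul_eq_one_right huu
    obtain ⟨D, hDdef⟩ : ∃ D : Subgroup S, D = M ⊓ M.map (MulAut.conj u).toMonoidHom := ⟨_, rfl⟩
    have hDM : D ≤ M := by rw [hDdef]; exact inf_le_left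
    have hDodd : Odd (Nat.card D) := by
      rw [← Nat.not_even_iff_odd]
      intro hev
      obtain ⟨⟨x, hxD⟩, hx⟩ := exists_prime_orderOf_dvd_card' 2 (even_iff_two_dvd.mp hev)
      rw [Subgroup.orderOf_mk] at hx
      rw [hDdef, Subgroup.mem_inf, mem_map_conj] at hxD
      have h1 : u⁻¹ * x * (u⁻¹)⁻¹ ∈ M := by rw [inv_inv]; exact hxD.2
      have h2 := SE x hxD.1 hx u⁻¹ h1
      exact huM (by rw [← inv_inv u]; exact M.inv_mem h2)
    refine ⟨D.subgroupOf M, ?_, ?_⟩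
    · rw [card_subgroupOf_of_le hDM]; exact hDodd
    · intro m
      obtain ⟨v, hv⟩ : ∃ v : S, v = (m : S) * t * (m : S)⁻¹ := ⟨_, rfl⟩
      have hvM : v ∈ M := by rw [hv]; exact M.mul_mem (M.mul_mem m.2 htM) (M.inv_mem m.2)
      have hv2 : orderOf v = 2 := by rw [hv, orderOf_conj]; exact ht2
      have huv2 : orderOf (u * v * u⁻¹) = 2 := by rw [orderOf_conj]; exact hv2
      rcases dihedral_dichotomy t (u * v * u⁻¹) (invol_mul_self ht2) (invol_mul_self huv2) with
        ⟨z, hz2, hzt, hzs⟩ | ⟨w, hww, hw⟩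
      · exfalso
        have hzM : z ∈ M := hC t htM ht2 (mem_cent_singleton.mpr hzt.symm)
        have h1 : u * v * u⁻¹ ∈ M := hC z hzM hz2 (mem_cent_singleton.mpr hzs)
        exact huM (SE v hvM hv2 u h1)
      · have hwinv : w⁻¹ = w := inv_eq_of_mul_eq_one_right hww
        obtain ⟨d, hd⟩ : ∃ d : S, d = u⁻¹ * w := ⟨_, rfl⟩
        have hdt : d * t * d⁻¹ = v := by
          rw [hd]
          calc u⁻¹ * w * t * (u⁻¹ * w)⁻¹ = u⁻¹ * (w * t * w⁻¹) * u := by group
            _ = u⁻¹ * (u * v * u⁻¹) * u := by rw [hw]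
            _ = v := by group
        have hdM : d ∈ M := SE t htM ht2 d (by rw [hdt]; exact hvM)
        have hdD : d ∈ D := by
          rw [hDdef, Subgroup.mem_inf, mem_map_conj]
          refine ⟨hdM, ?_⟩
          have e : u⁻¹ * d * u = d⁻¹ := by
            rw [hd]
            calc u⁻¹ * (u⁻¹ * w) * u = (u⁻¹ * u⁻¹) * w * u := by group
              _ = (u * u) * w * u := by rw [huinv]
              _ = w * u := by rw [huu, one_mul]
              _ = w⁻¹ * u := by rw [hwinv]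
              _ = (u⁻¹ * w)⁻¹ := by group
          rw [e]; exact M.inv_mem hdM
        refine ⟨⟨d, hdM⟩, Subgroup.mem_subgroupOf.mpr hdD, (⟨d, hdM⟩ : M)⁻¹ * m, ?_,
          (mul_inv_cancel_left _ m).symm⟩
        rw [mem_cent_singleton]
        apply Subtype.ext
        show (I : S) * (d⁻¹ * (m : S)) = d⁻¹ * (m : S) * (I : S)
        rw [← ht]
        have h1 : d * t * d⁻¹ = (m : S) * t * (m : S)⁻¹ := by rw [hdt, hv]
        calc t * (d⁻¹ * (m : S)) = d⁻¹ * (d * t * d⁻¹) * (m : S) := by group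
          _ = d⁻¹ * ((m : S) * t * (m : S)⁻¹) * (m : S) := by rw [h1]
          _ = d⁻¹ * (m : S) * t := by group

end Cfsg.Agent.S1905
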