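import Cfsg.Statements.S1921
import Cfsg.Agent.H2.Layer
import Cfsg.Agent.H2.Components
import Cfsg.Agent.H2.Quasisimple
import Cfsg.Agent.H1.CoprimeAction

set_option autoImplicit false
open Cfsg

namespace Cfsg.Agent.S1921



/-- Let a be an involution of a finite group H and L a component of H with a L a⁻¹ ≠ L; put M = ⟨L, aLa⁻¹⟩ and let J be the subgroup generated by the elements x · a x a⁻¹ with x ∈ L (the diagonal). Then every element of M outside J·Z(M) generates M together with J. -/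
theorem result {H : Type*} [Group H] [Finite H] (a : H) (ha : orderOf a = 2) (L : Subgroup H) (hL : Cfsg.IsComponent L)
    (hLa : L.map (MulAut.conj a).toMonoidHom ≠ L) (x : H) (hxM : x ∈ L ⊔ L.map (MulAut.conj a).toMonoidHom)
    (hxJ : x ∉ Subgroup.closure {y : H | ∃ l ∈ L, y = l * (a * l * a⁻¹)} ⊔
      ((L ⊔ L.map (MulAut.conj a).toMonoidHom) ⊓ Subgroup.centralizer ((L ⊔ L.map (MulAut.conj a).toMonoidHom : Subgroup H) : Set H))) :
    Subgroup.closure {y : H | ∃ l ∈ L, y = l * (a * l * a⁻¹)} ⊔ Subgroup.zpowers x = L ⊔ L.map (MulAut.conj a).toMonoidHom := by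

  obtain ⟨La, hLaeq⟩ : ∃ La, La = L.map (MulAut.conj a).toMonoidHom := ⟨_, rfl⟩
  rw [← hLaeq] at hLa hxM hxJ ⊢
  have hLac : Cfsg.IsComponent La := by rw [hLaeq]; exact Cfsg.Agent.H2.component_conj hL a
  have hcomm0 : ⁅L, La⁆ = ⊥ := Cfsg.Agent.H2.components_commute hL hLac hLa.symm
  have hcomm : ∀ l ∈ L, ∀ m ∈ La, l * m = m * l := by
    intro l hl m hm
    have h1 := (Subgroup.commutator_eq_bot_iff_le_centralizer.mp hcomm0) hl
    exact ((Subgroup.mem_centralizer_iff.mp h1) m hm).symm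
  have hmemLa : ∀ y ∈ L, a * y * a⁻¹ ∈ La := by
    intro y hy; rw [hLaeq]; exact Subgroup.mem_map.mpr ⟨y, hy, by simp [MulAut.conj_apply]⟩
  obtain ⟨J, hJ⟩ : ∃ J, J = Subgroup.closure {y : H | ∃ l ∈ L, y = l * (a * l * a⁻¹)} := ⟨_, rfl⟩
  rw [← hJ] at hxJ ⊢
  have hgenJ : ∀ y ∈ L, y * (a * y * a⁻¹) ∈ J := by
    intro y hy; rw [hJ]; exact Subgroup.subset_closure ⟨y, hy, rfl⟩
  obtain ⟨M, hM⟩ : ∃ M, M = L ⊔ La := ⟨_, rfl⟩
  rw [← hM] at hxM hxJ ⊢
  have hLM : L ≤ M := by rw [hM]; exact le_sup_left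
  have hLaM : La ≤ M := by rw [hM]; exact le_sup_right
  have hJM : J ≤ M := by
    rw [hJ, Subgroup.closure_le]
    rintro y ⟨l, hl, rfl⟩
    exact M.mul_mem (hLM hl) (hLaM (hmemLa l hl))
  apply le_antisymm
  · exact sup_le hJM (Subgroup.zpowers_le.mpr hxM)
  · obtain ⟨K, hK⟩ : ∃ K, K = J ⊔ Subgroup.zpowers x := ⟨_, rfl⟩
    rw [← hK]
    have hJK : J ≤ K := by rw [hK]; exact le_sup_left
    have hxK : x ∈ K := by rw [hK]; exact le_sup_right (a := J) (Subgroup.mem_zpowers x)
    have hLan : La ≤ Subgroup.normalizer (L : Set H) := by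
      refine le_trans ?_ (Subgroup.centralizer_le_normalizer _)
      rw [← Subgroup.commutator_eq_bot_iff_le_centralizer, Subgroup.commutator_comm]; exact hcomm0
    have hx' : x ∈ L ⊔ La := by rw [← hM]; exact hxM
    obtain ⟨l₁, hl₁, m, hm, hxeq⟩ := (Cfsg.Agent.H1.mem_sup_of_le_normalizer L La hLan).mp hx'
    rw [hLaeq] at hm
    obtain ⟨l₂, hl₂, hml⟩ := Subgroup.mem_map.mp hm
    have hml' : m = a * l₂ * a⁻¹ := by rw [← hml]; simp [MulAut.conj_apply]
    obtain ⟨l, hl⟩ : ∃ l, l = l₁ * l₂⁻¹ := ⟨_, rfl⟩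
    have hlL : l ∈ L := by rw [hl]; exact L.mul_mem hl₁ (L.inv_mem hl₂)
    have hlK : l ∈ K := by
      have e : l = x * (l₂ * (a * l₂ * a⁻¹))⁻¹ := by rw [hl, hxeq, hml']; group
      rw [e]; exact K.mul_mem hxK (K.inv_mem (hJK (hgenJ l₂ hl₂)))
    have hnc : ∃ l' ∈ L, l * l' ≠ l' * l := by
      by_contra hno
      push Not at hno
      apply hxJ
      have hlZ : l ∈ M ⊓ Subgroup.centralizer (M : Set H) := by
        refine Subgroup.mem_inf.mpr ⟨hLM hlL, ?_⟩
        have h1 : M ≤ Subgroup.centralizer ({l} : Set H) := by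
          rw [hM]
          apply sup_le
          · intro y hy
            rw [Subgroup.mem_centralizer_iff]
            intro h hh
            rw [Set.mem_singleton_iff] at hh
            rw [hh]; exact hno y hy
          · intro y hy
            rw [Subgroup.mem_centralizer_iff]
            intro h hh
            rw [Set.mem_singleton_iff] at hh
            rw [hh]; exact hcomm l hlL y hy
        rw [Subgroup.mem_centralizer_iff]
        intro h hh
        have h2 := (Subgroup.mem_centralizer_iff.mp (h1 hh)) l rfl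
        exact h2.symm
      have e : x = l * (l₂ * (a * l₂ * a⁻¹)) := by rw [hl, hxeq, hml']; group
      rw [e]
      exact Subgroup.mul_mem _ (Subgroup.mem_sup_right hlZ) (Subgroup.mem_sup_left (hgenJ l₂ hl₂))
    obtain ⟨l', hl', hne⟩ := hnc
    have hnorm : ((K ⊓ L).subgroupOf L).Normal := by
      constructor
      intro n hn y
      rw [Subgroup.mem_subgroupOf] at hn ⊢
      obtain ⟨hnK, hnL⟩ := Subgroup.mem_inf.mp hn
      refine Subgroup.mem_inf.mpr ⟨?_, ?_⟩
      · have hy := y.2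
        have e : ((y * n * y⁻¹ : L) : H) =
            ((y : H) * (a * y * a⁻¹)) * (n : H) * ((y : H) * (a * y * a⁻¹))⁻¹ := by
          have hc := hcomm (n : H) hnL (a * y * a⁻¹) (hmemLa y hy)
          simp only [Subgroup.coe_mul, Subgroup.coe_inv]
          calc (y : H) * n * (y : H)⁻¹
              = (y : H) * ((n : H) * (a * y * a⁻¹)) * (a * y * a⁻¹)⁻¹ * (y : H)⁻¹ := by group
            _ = (y : H) * ((a * y * a⁻¹) * (n : H)) * (a * y * a⁻¹)⁻¹ * (y : H)⁻¹ := by rw [hc]
            _ = _ := by group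
        rw [e]
        exact K.mul_mem (K.mul_mem (hJK (hgenJ y hy)) hnK) (K.inv_mem (hJK (hgenJ y hy)))
      · exact (y * n * y⁻¹).2
    rcases Cfsg.Agent.H2.IsQuasisimple.eq_top_or_le_center hL.2 _ hnorm.isSubnormal with h1 | h1
    · have hLK : L ≤ K := by
        intro y hy
        have hm2 : (⟨y, hy⟩ : L) ∈ (K ⊓ L).subgroupOf L := by rw [h1]; exact Subgroup.mem_top _
        exact (Subgroup.mem_inf.mp (Subgroup.mem_subgroupOf.mp hm2)).1
      rw [hM]
      apply sup_le hLK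
      intro m' hm'
      rw [hLaeq] at hm'
      obtain ⟨y, hy, rfl⟩ := Subgroup.mem_map.mp hm'
      have e : (MulAut.conj a).toMonoidHom y = y⁻¹ * (y * (a * y * a⁻¹)) := by
        simp [MulAut.conj_apply]
      rw [e]
      exact K.mul_mem (K.inv_mem (hLK hy)) (hJK (hgenJ y hy))
    · exfalso
      have hm2 : (⟨l, hlL⟩ : L) ∈ (K ⊓ L).subgroupOf L :=
        Subgroup.mem_subgroupOf.mpr (Subgroup.mem_inf.mpr ⟨hlK, hlL⟩)
      have hc := h1 hm2
      rw [Subgroup.mem_center_iff] at hc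
      have h3 := hc ⟨l', hl'⟩
      apply hne
      exact (congrArg Subtype.val h3).symm

end Cfsg.Agent.S1921
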