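import Cfsg.Statements.S1922
import Mathlib
import Cfsg.Agent.H1.SylowMore
import Cfsg.Agent.H1.SylowUniqueMax
import Cfsg.Agent.H1.UniqueFixedPoint

set_option autoImplicit false
open Cfsg

namespace Cfsg.Agent.S1922

set_option autoImplicit false
set_option linter.unusedVariables false
set_option linter.unusedSectionVars false
set_option linter.style.haveILetI false
open H1

/-- Let z be an involution of a finite group G and H a proper subgroup such that z lies in gHg⁻¹ exactly when g ∈ H. Then the following are equivalent: (1) for every conjugate t ≠ z of z commuting with z, the product zt lies in gHg⁻¹ exactly when g ∈ H; (2) z lies in the centre of some Sylow 2-subgroup of G, and for every conjugate t ≠ z of z commuting with z, the centralizer of zt is contained in H. -/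
theorem result {G : Type*} [Group G] [Finite G] (z : G) (hz : orderOf z = 2) (H : Subgroup G) (hH : H ≠ ⊤)
    (h0 : ∀ g : G, z ∈ H.map (MulAut.conj g).toMonoidHom ↔ g ∈ H) :
    (∀ t : G, IsConj z t → t ≠ z → t * z = z * t → ∀ g : G, z * t ∈ H.map (MulAut.conj g).toMonoidHom ↔ g ∈ H) ↔
      ((∃ P : Sylow 2 G, z ∈ (Subgroup.center ↥(P : Subgroup G)).map (P : Subgroup G).subtype) ∧
        ∀ t : G, IsConj z t → t ≠ z → t * z = z * t → Subgroup.centralizer ({z * t} : Set G) ≤ H) := by
  have hz2 : z * z = 1 := by rw [← sq, ← hz, pow_orderOf_eq_one]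
  have hzH : z ∈ H := by
    have := (h0 1).2 H.one_mem
    rw [mem_map_conj_iff] at this
    simpa using this
  have hCz : ∀ c : G, c * z = z * c → c ∈ H := by
    intro c hc
    apply (h0 c).1
    rw [mem_map_conj_iff]
    have : c⁻¹ * z * c = z := by rw [mul_assoc, ← hc, inv_mul_cancel_left]
    rw [this]; exact hzH
  -- translation of "unique fixed point"
  have hUF : ∀ y : G, (∀ g : G, y ∈ H.map (MulAut.conj g).toMonoidHom ↔ g ∈ H) → UF H y ((1 : G) : G ⧸ H) := by
    intro y hy ω
    induction ω using QuotientGroup.induction_on with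
    | H g =>
      rw [smul_coset_eq_iff, ← mem_map_conj_iff, hy g, eq_comm, QuotientGroup.eq, inv_one, one_mul]
  have hUF' : ∀ y : G, UF H y ((1 : G) : G ⧸ H) → ∀ g : G, y ∈ H.map (MulAut.conj g).toMonoidHom ↔ g ∈ H := by
    intro y hy g
    rw [mem_map_conj_iff, ← smul_coset_eq_iff, hy (g : G ⧸ H), eq_comm, QuotientGroup.eq, inv_one, one_mul]
  constructor
  · intro h1
    have D : UFData H z := ⟨hz2, hUF z h0, fun t ht htne htc => hUF _ (h1 t ht htne htc)⟩
    refine ⟨?_, ?_⟩
    · obtain ⟨P, hzP, hPc⟩ := D.exists_sylow_center hH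
      refine ⟨P, Subgroup.mem_map.2 ⟨⟨z, hzP⟩, ?_, rfl⟩⟩
      rw [Subgroup.mem_center_iff]
      intro x
      exact Subtype.ext (hPc x.1 x.2)
    · intro t ht htne htc c hc
      rw [Subgroup.mem_centralizer_iff] at hc
      have hc' := hc (z * t) rfl
      apply (h1 t ht htne htc c).1
      rw [mem_map_conj_iff]
      have e : c⁻¹ * (z * t) * c = z * t := by rw [mul_assoc, hc', inv_mul_cancel_left]
      rw [e]
      have := (h1 t ht htne htc 1).2 H.one_mem
      rw [mem_map_conj_iff] at this
      simpa using this
  · rintro ⟨⟨P, hP⟩, hC⟩ t ht htne htc g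
    obtain ⟨⟨z', hz'P⟩, hz'c, hz'⟩ := Subgroup.mem_map.1 hP
    have hz'' : z' = z := hz'
    subst hz''
    have hPc : ∀ x ∈ (P : Subgroup G), x * z' = z' * x := by
      intro x hx
      have := Subgroup.mem_center_iff.1 hz'c ⟨x, hx⟩
      exact congrArg Subtype.val this
    have hPH : (P : Subgroup G) ≤ H := fun x hx => hCz x (hPc x hx)
    have htH : t ∈ H := hCz t htc
    constructor
    · intro hu
      rw [mem_map_conj_iff] at hu
      set u := z' * t with hu_def
      have hu2 : u * u = 1 := by
        have ht2 : t * t = 1 := by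
          obtain ⟨w, rfl⟩ := isConj_iff.1 ht
          have : w * z' * w⁻¹ * (w * z' * w⁻¹) = w * (z' * z') * w⁻¹ := by group
          rw [this, hz2]; group
        calc u * u = z' * (t * z') * t := by rw [hu_def]; group
          _ = z' * (z' * t) * t := by rw [htc]
          _ = (z' * z') * (t * t) := by group
          _ = 1 := by rw [hz2, ht2, one_mul]
      set u' := g⁻¹ * u * g with hu'
      have hu'2 : u' * u' = 1 := by
        calc u' * u' = g⁻¹ * (u * u) * g := by rw [hu']; group
          _ = 1 := by rw [hu2]; group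
      have hQ : IsPGroup 2 (Subgroup.zpowers u') := by
        rintro ⟨y, hy⟩
        obtain ⟨m, rfl⟩ := Subgroup.mem_zpowers_iff.1 hy
        refine ⟨1, ?_⟩
        ext
        simp only [pow_one, Subgroup.coe_pow, Subgroup.coe_one]
        rw [← zpow_natCast, ← zpow_mul, mul_comm, zpow_mul, zpow_natCast, pow_two, hu'2, one_zpow]
      have hQH : Subgroup.zpowers u' ≤ H := by
        rw [Subgroup.zpowers_le]; exact hu
      have hidx : ¬ 2 ∣ (P : Subgroup G).relIndex H := by
        intro h
        exact P.not_dvd_index (h.trans (Subgroup.relIndex_dvd_index_of_le hPH))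
      obtain ⟨k, hkH, hk⟩ := exists_le_map_conj_of_pgroup H (P : Subgroup G) (Subgroup.zpowers u') hPH
        P.isPGroup' hidx hQH hQ
      have h1 := hk (Subgroup.mem_zpowers u')
      rw [mem_map_conj_iff] at h1
      -- `w = g * k`
      have h2 := hPc _ h1
      -- `w z w⁻¹` commutes with `u`
      have h3 : (g * k) * z' * (g * k)⁻¹ ∈ Subgroup.centralizer ({u} : Set G) := by
        rw [Subgroup.mem_centralizer_iff]
        intro y hy
        rw [Set.mem_singleton_iff] at hy
        subst hy
        have e1 : k⁻¹ * u' * k = (g * k)⁻¹ * u * (g * k) := by rw [hu']; group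
        rw [e1] at h2
        calc u * (g * k * z' * (g * k)⁻¹)
            = (g * k) * ((g * k)⁻¹ * u * (g * k) * z') * (g * k)⁻¹ := by group
          _ = (g * k) * (z' * ((g * k)⁻¹ * u * (g * k))) * (g * k)⁻¹ := by rw [h2]
          _ = g * k * z' * (g * k)⁻¹ * u := by group
      have h4 : (g * k) * z' * (g * k)⁻¹ ∈ H := hC t ht htne htc h3
      have h5 : (g * k)⁻¹ ∈ H := by
        apply (h0 _).1
        rw [mem_map_conj_iff, inv_inv]
        exact h4
      have h6 : g * k ∈ H := by
        have := H.inv_mem h5
        rwa [inv_inv] at this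
      have := H.mul_mem h6 (H.inv_mem hkH)
      rwa [mul_inv_cancel_right] at this
    · intro hg
      rw [mem_map_conj_iff]
      exact H.mul_mem (H.mul_mem (H.inv_mem hg) (H.mul_mem hzH htH)) hg

end Cfsg.Agent.S1922
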