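import Mathlib
import Cfsg.Statements.S1924
import Cfsg.Agent.H2.DihedralTransfer
import Cfsg.Agent.H1.PResidual
import Cfsg.Agent.Lib.Lead.PResidual

set_option autoImplicit false
open Cfsg

namespace Cfsg.Agent.S1924

/-- A consequence of Thompson's transfer lemma. Let G be a finite group, L a subgroup with O²(L) = L, T a Sylow 2-subgroup of L and S a Sylow 2-subgroup of G containing T. Suppose D ≤ S is a dihedral subgroup of order at least 4 (the four-group counts) with D ∩ T = 1 and S = TD as a set of products (so |S| = |T|·|D|), and C ≤ D is cyclic of index 2 in D. If no involution of D outside C is G-conjugate to an involution of the subgroup generated by T and C, and the involution of C is not G-conjugate to any involution of T, then G has a normal subgroup K, containing every Sylow 2-subgroup of L as a Sylow 2-subgroup, with G = KD. -/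
theorem result {G : Type*} [Group G] [Finite G] (L T S D C : Subgroup G) (hL : Cfsg.pResidual 2 ↥L = ⊤)
    (hTL : T ≤ L) (hT2 : IsPGroup 2 T) (hTsyl : ¬ 2 ∣ T.relIndex L)
    (hS2 : IsPGroup 2 S) (hSsyl : ¬ 2 ∣ S.index) (hTS : T ≤ S)
    (hDS : D ≤ S) (hDih : ∃ n : ℕ, 2 ≤ n ∧ Nonempty (↥D ≃* DihedralGroup n)) (hDT : D ⊓ T = ⊥) (hTD : T ⊔ D = S) (hTDc : Nat.card T * Nat.card D = Nat.card S)
    (hCD : C ≤ D) (hC : IsCyclic ↥C) (hCi : C.relIndex D = 2)
    (h1 : ∀ x ∈ D, x ∉ C → orderOf x = 2 → ∀ g : G, g * x * g⁻¹ ∈ T ⊔ C → False)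
    (h2 : ∀ c ∈ C, orderOf c = 2 → ∀ g : G, g * c * g⁻¹ ∈ T → False) :
    ∃ K : Subgroup G, K.Normal ∧ K ⊔ D = ⊤ ∧
      ∀ T' : Subgroup G, T' ≤ L → IsPGroup 2 T' → ¬ 2 ∣ T'.relIndex L → T' ≤ K ∧ ¬ 2 ∣ T'.relIndex K := by
  have hp2 : Fact (Nat.Prime 2) := ⟨Nat.prime_two⟩
  have hKn : (Cfsg.pResidual 2 G).Normal := Cfsg.Agent.H1.pResidual_normal 2
  have hLK : L ≤ Cfsg.pResidual 2 G := Cfsg.Agent.H2.DihedralTransfer.le_pResidual_of_eq_top L 2 hL
  have hmain := Cfsg.Agent.H2.DihedralTransfer.main L T S D C (Cfsg.pResidual 2 G) hKn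
    (Cfsg.Agent.Lib.Lead.PResidual.sup_eq_top S hSsyl) hLK
    (by
      intro N hNn hN2
      have : N.Normal := hNn
      apply Cfsg.Agent.H1.pResidual_le_of_isPGroup_quotient N
      apply IsPGroup.of_card (n := 1)
      rw [pow_one]
      exact hN2)
    (fun N hN2 => Cfsg.Agent.H2.DihedralTransfer.pResidual_no_index_two N hN2)
    hTL hS2 hSsyl hTS hDS hDih hDT hTD hTDc hCD hC hCi h1 h2
  obtain ⟨hKD, hTK, hTodd⟩ := hmain
  refine ⟨Cfsg.pResidual 2 G, hKn, hKD, ?_⟩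
  intro T' hT'L hT'2 hT'syl
  have hT'K : T' ≤ Cfsg.pResidual 2 G := hT'L.trans hLK
  refine ⟨hT'K, ?_⟩
  have hcardT := Cfsg.Agent.H2.DihedralTransfer.card_eq_of_sylow L T T' hTL hT'L hT2 hT'2 hTsyl hT'syl
  have e1 := Cfsg.Agent.H1.card_eq_relIndex_mul_card hT'K
  have e2 := Cfsg.Agent.H1.card_eq_relIndex_mul_card hTK
  rw [hcardT] at e1
  have : T'.relIndex (Cfsg.pResidual 2 G) = T.relIndex (Cfsg.pResidual 2 G) :=
    Nat.eq_of_mul_eq_mul_right Nat.card_pos (e1.symm.trans e2)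
  rw [this]
  exact hTodd

end Cfsg.Agent.S1924
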