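import Cfsg.Statements.S1939
import Mathlib

set_option autoImplicit false
open Cfsg

namespace Cfsg.Agent.S1939

/-- Let S be a Sylow p-subgroup of the finite group G and a an element of S that is the only G-conjugate of a lying in S. Then every power of a has the same property: for every n, the only G-conjugate of a^n lying in S is a^n. -/
theorem result {G : Type*} [Group G] [Finite G] {p : ℕ} [Fact p.Prime] (S : Sylow p G) (a : G)
    (haS : a ∈ (S : Subgroup G)) (hwc : ∀ g : G, g * a * g⁻¹ ∈ (S : Subgroup G) → g * a * g⁻¹ = a) (n : ℕ) :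
    ∀ g : G, g * a ^ n * g⁻¹ ∈ (S : Subgroup G) → g * a ^ n * g⁻¹ = a ^ n := by
  intro g hg
  classical
  set y := g * a ^ n * g⁻¹ with hy
  -- a is central in S
  have hacen : ∀ s ∈ (S : Subgroup G), s * a = a * s := by
    intro s hs
    have h1 : s * a * s⁻¹ ∈ (S : Subgroup G) :=
      (S : Subgroup G).mul_mem ((S : Subgroup G).mul_mem hs haS) ((S : Subgroup G).inv_mem hs)
    have h2 := hwc s h1
    calc s * a = (s * a * s⁻¹) * s := by group
      _ = a * s := by rw [h2]
  -- C = centralizer of y
  let C : Subgroup G := Subgroup.centralizer ({y} : Set G)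
  have haC : a ∈ C := by
    rw [Subgroup.mem_centralizer_iff]
    intro z hz
    rw [Set.mem_singleton_iff] at hz
    subst hz
    exact hacen y hg
  -- g • S ≤ C
  have hgS : ((g • S : Sylow p G) : Subgroup G) ≤ C := by
    intro z hz
    rw [Sylow.coe_subgroup_smul, Subgroup.mem_pointwise_smul_iff_inv_smul_mem] at hz
    rw [MulAut.smul_def, MulAut.conj_inv_apply] at hz
    rw [Subgroup.mem_centralizer_iff]
    intro w hw
    rw [Set.mem_singleton_iff] at hw
    subst hw
    -- z = g s g⁻¹ with s ∈ S commuting with a^n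
    have h1 := hacen _ hz
    have h2 : (g⁻¹ * z * g) * a ^ n = a ^ n * (g⁻¹ * z * g) := by
      have : Commute (g⁻¹ * z * g) a := h1
      exact (this.pow_right n).eq
    rw [hy]
    calc g * a ^ n * g⁻¹ * z = g * (a ^ n * (g⁻¹ * z * g)) * g⁻¹ := by group
      _ = g * ((g⁻¹ * z * g) * a ^ n) * g⁻¹ := by rw [h2]
      _ = z * (g * a ^ n * g⁻¹) := by group
  let P1 : Sylow p C := (g • S).subtype hgS
  -- the p-subgroup generated by a in C
  have hpa : IsPGroup p ((Subgroup.zpowers a).subgroupOf C) := by
    have : IsPGroup p (Subgroup.zpowers a) :=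
      S.isPGroup'.to_le (by rw [Subgroup.zpowers_le]; exact haS)
    exact this.comap_subtype
  obtain ⟨Q, hQ⟩ := hpa.exists_le_sylow
  obtain ⟨c, hc⟩ := MulAction.exists_smul_eq C P1 Q
  have haQ : (⟨a, haC⟩ : C) ∈ (Q : Subgroup C) := by
    apply hQ
    rw [Subgroup.mem_subgroupOf]
    exact Subgroup.mem_zpowers a
  rw [← hc, Sylow.smul_subtype] at haQ
  have haQ' : a ∈ (((c : G) • (g • S) : Sylow p G) : Subgroup G) := by
    have := haQ
    rw [Sylow.coe_subtype, Subgroup.mem_subgroupOf] at this
    exact this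
  rw [← mul_smul, Sylow.coe_subgroup_smul, Subgroup.mem_pointwise_smul_iff_inv_smul_mem,
    MulAut.smul_def, MulAut.conj_inv_apply] at haQ'
  have h3 := hwc ((c : G) * g)⁻¹ (by simpa using haQ')
  -- so c*g commutes with a
  have h4 : ((c : G) * g) * a = a * ((c : G) * g) := by
    have : ((c : G) * g)⁻¹ * a * ((c : G) * g) = a := by simpa using h3
    calc ((c : G) * g) * a = ((c : G) * g) * (((c : G) * g)⁻¹ * a * ((c : G) * g)) := by rw [this]
      _ = a * ((c : G) * g) := by group
  have h5 : ((c : G) * g) * a ^ n = a ^ n * ((c : G) * g) := by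
    have : Commute ((c : G) * g) a := h4
    exact (this.pow_right n).eq
  have hcy : (c : G) * y = y * (c : G) := by
    have := c.2
    rw [Subgroup.mem_centralizer_iff] at this
    exact (this y rfl).symm
  -- conclude
  have h7 : (c : G) * y * (c : G)⁻¹ = a ^ n := by
    rw [hy]
    calc (c : G) * (g * a ^ n * g⁻¹) * (c : G)⁻¹ = (((c : G) * g) * a ^ n) * ((c : G) * g)⁻¹ := by group
      _ = a ^ n := by rw [h5]; group
  calc y = (y * (c : G)) * (c : G)⁻¹ := by group
    _ = (c : G) * y * (c : G)⁻¹ := by rw [hcy]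
    _ = a ^ n := h7

end Cfsg.Agent.S1939
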