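import Cfsg.Statements.S1940
import Mathlib

set_option autoImplicit false
open Cfsg

namespace Cfsg.Agent.S1940

/-- Let the finite group L act by automorphisms on the finite abelian group M, and let N be an L-invariant subgroup of M such that M/N is a p-group on which L acts trivially (every l • m lies in the coset mN). If every element of M is a product of an element of N and an element fixed by a Sylow p-subgroup T of L, then every element of M is a product of an element of N and an element fixed by all of L. -/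
theorem result {L : Type*} [Group L] [Finite L] {M : Type*} [CommGroup M] [Finite M] [MulDistribMulAction L M]
    {p : ℕ} [Fact p.Prime] (N : Subgroup M) (hN : ∀ (l : L) (m : M), m ∈ N → l • m ∈ N)
    (hquot : IsPGroup p (M ⧸ N)) (htriv : ∀ (l : L) (m : M), (l • m) * m⁻¹ ∈ N) (T : Sylow p L)
    (hT : ∀ m : M, ∃ n ∈ N, ∃ c : M, (∀ t ∈ (T : Subgroup L), t • c = c) ∧ m = n * c) :
    ∀ m : M, ∃ n ∈ N, ∃ c : M, (∀ l : L, l • c = c) ∧ m = n * c := by
  classical
  intro m
  obtain ⟨n, hn, c, hc, rfl⟩ := hT m
  letI : Fintype (L ⧸ (T : Subgroup L)) := Fintype.ofFinite _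
  set c' : M := ∏ q : L ⧸ (T : Subgroup L), (q.out • c) with hc'
  have hfix : ∀ l : L, l • c' = c' := by
    intro l
    rw [hc', Finset.smul_prod']
    have h : ∀ q : L ⧸ (T : Subgroup L), l • (q.out • c) = (l • q).out • c := by
      intro q
      have h1 : ((l • q).out)⁻¹ * (l * q.out) ∈ (T : Subgroup L) := by
        rw [← QuotientGroup.eq]
        rw [QuotientGroup.out_eq']
        have : ((l * q.out : L) : L ⧸ (T : Subgroup L)) = l • ((q.out : L) : L ⧸ (T : Subgroup L)) := rfl
        rw [this, QuotientGroup.out_eq']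
      have h2 := hc _ h1
      rw [← mul_smul]
      calc (l * q.out) • c = ((l • q).out * (((l • q).out)⁻¹ * (l * q.out))) • c := by
            congr 1; group
        _ = (l • q).out • c := by rw [mul_smul, h2]
    simp_rw [h]
    exact Equiv.prod_comp (MulAction.toPerm l) (fun q : L ⧸ (T : Subgroup L) => q.out • c)
  -- image of c' in M ⧸ N
  have hmk : ((c' : M) : M ⧸ N) = ((c : M) : M ⧸ N) ^ (T : Subgroup L).index := by
    rw [hc', QuotientGroup.mk_prod]
    have : ∀ q : L ⧸ (T : Subgroup L), (((q.out • c : M)) : M ⧸ N) = ((c : M) : M ⧸ N) := by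
      intro q
      rw [QuotientGroup.eq]
      have := htriv q.out c
      have h3 := N.inv_mem this
      rw [mul_comm]
      simpa using h3
    simp_rw [this]
    rw [Finset.prod_const, Finset.card_univ, Subgroup.index_eq_card, Nat.card_eq_fintype_card]
  have hcop : ((T : Subgroup L).index).Coprime (orderOf ((c : M) : M ⧸ N)) := by
    have h1 : p.Coprime (T : Subgroup L).index := by
      rw [Nat.Prime.coprime_iff_not_dvd Fact.out]
      exact T.not_dvd_index
    exact (hquot.orderOf_coprime h1 _).symm
  obtain ⟨s, hs⟩ := exists_pow_eq_self_of_coprime hcop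
  rw [← hmk] at hs
  have hs' : ((c' ^ s : M) : M ⧸ N) = ((c : M) : M ⧸ N) := hs
  rw [QuotientGroup.eq] at hs'
  refine ⟨n * (c * (c' ^ s)⁻¹), N.mul_mem hn ?_, c' ^ s, ?_, ?_⟩
  · have := N.inv_mem hs'
    have h5 : ((c' ^ s)⁻¹ * c)⁻¹ = c⁻¹ * c' ^ s := by group
    rw [h5] at this
    have h6 : c * (c' ^ s)⁻¹ = (c⁻¹ * c' ^ s)⁻¹ := by
      rw [mul_inv_rev, inv_inv, mul_comm]
    rw [h6]
    exact N.inv_mem this
  · intro l
    rw [smul_pow', hfix l]
  · rw [mul_assoc, mul_assoc, inv_mul_cancel, mul_one]

end Cfsg.Agent.S1940
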