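import Cfsg.Statements.S1941
import Cfsg.Agent.H2.Layer
import Cfsg.Agent.S1327
import Cfsg.Agent.H1.Cores

set_option autoImplicit false
open Cfsg

namespace Cfsg.Agent.S1941



/-- Let G be a finite group with no nontrivial normal subgroup of order prime to p, T a Sylow p-subgroup of G and E(G) the layer of G (the subgroup generated by its components). An automorphism of G of p-power order that fixes T and E(G) elementwise is inner. -/
theorem result {G : Type*} [Group G] [Finite G] {p : ℕ} [Fact p.Prime] (hcore : Cfsg.pPrimeCore p G = ⊥)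
    (T : Sylow p G) (α : MulAut G) (hα : ∃ j : ℕ, orderOf α = p ^ j) (hfixT : ∀ x ∈ (T : Subgroup G), α x = x)
    (hfixE : ∀ x ∈ Cfsg.layer G, α x = x) : ∃ g : G, ∀ x : G, α x = g * x * g⁻¹ := by

  classical
  obtain ⟨j, hj⟩ := hα
  have hp : p.Prime := Fact.out
  obtain ⟨Fs, hFs⟩ : ∃ Fs, Fs = Cfsg.generalizedFittingSubgroup G := ⟨_, rfl⟩
  haveI hFsn : Fs.Normal := by rw [hFs]; infer_instance
  let Fix : Subgroup G :=
    { carrier := {x | α x = x}
      mul_mem' := by
        intro a b ha hb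
        simp only [Set.mem_ofPred_eq] at *
        rw [map_mul, ha, hb]
      one_mem' := map_one α
      inv_mem' := by
        intro a ha
        simp only [Set.mem_ofPred_eq] at *
        rw [map_inv, ha] }
  have hfixF : ∀ x ∈ Fs, α x = x := by
    have hle : Fs ≤ Fix := by
      rw [hFs, Cfsg.generalizedFittingSubgroup]
      apply sup_le
      · intro x hx; exact hfixE x hx
      · rw [Cfsg.Agent.S1327.fittingSubgroup_eq_pCore_of_pPrimeCore_eq_bot (p := p) hcore]
        intro x hx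
        exact hfixT x (Cfsg.Agent.H1.pCore_le_sylow T hx)
    intro x hx
    exact hle hx
  obtain ⟨Z, hZ⟩ : ∃ Z, Z = Subgroup.centralizer (Fs : Set G) := ⟨_, rfl⟩
  haveI hZn : Z.Normal := by rw [hZ]; infer_instance
  have hZF : Z ≤ Fs := by
    rw [hZ, hFs]; exact Cfsg.Agent.H2.centralizer_generalizedFittingSubgroup_le
  have hZcomm : ∀ a ∈ Z, ∀ b ∈ Z, a * b = b * a := by
    intro a ha b hb
    rw [hZ] at ha
    exact ((Subgroup.mem_centralizer_iff.mp ha) b (hZF hb)).symm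
  have hfixZ : ∀ z ∈ Z, α z = z := fun z hz => hfixF z (hZF hz)
  have hεZ : ∀ g : G, g * (α g)⁻¹ ∈ Z := by
    intro g
    rw [hZ, Subgroup.mem_centralizer_iff]
    intro f hf
    have h1 : g⁻¹ * f * g ∈ Fs := by
      have := hFsn.conj_mem f hf g⁻¹
      simpa using this
    have h2 := hfixF _ h1
    rw [map_mul, map_mul, map_inv, hfixF f hf] at h2
    calc f * (g * (α g)⁻¹) = g * (g⁻¹ * f * g) * (α g)⁻¹ := by group
      _ = g * ((α g)⁻¹ * f * α g) * (α g)⁻¹ := by rw [h2]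
      _ = g * (α g)⁻¹ * f := by group
  have hpow : ∀ (k : ℕ) (g : G), (α ^ k) g = (g * (α g)⁻¹)⁻¹ ^ k * g := by
    intro k g
    induction k with
    | zero => simp
    | succ k ih =>
      have e1 : α g = (g * (α g)⁻¹)⁻¹ * g := by group
      calc (α ^ (k + 1)) g = α ((α ^ k) g) := by rw [pow_succ', MulAut.mul_apply]
        _ = α ((g * (α g)⁻¹)⁻¹ ^ k * g) := by rw [ih]
        _ = (g * (α g)⁻¹)⁻¹ ^ k * α g := by
            rw [map_mul, map_pow, map_inv, hfixZ _ (hεZ g)]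
        _ = (g * (α g)⁻¹)⁻¹ ^ k * ((g * (α g)⁻¹)⁻¹ * g) := by rw [← e1]
        _ = (g * (α g)⁻¹)⁻¹ ^ (k + 1) * g := by rw [pow_succ, mul_assoc]
  have hεp : ∀ g : G, (g * (α g)⁻¹) ^ (p ^ j) = 1 := by
    intro g
    have h1 := hpow (p ^ j) g
    rw [← hj, pow_orderOf_eq_one, MulAut.one_apply] at h1
    have h2 : (g * (α g)⁻¹)⁻¹ ^ (orderOf α) * g = 1 * g := by rw [one_mul]; exact h1.symm
    have h3 := mul_right_cancel h2
    rw [inv_pow, inv_eq_one, hj] at h3
    exact h3
  letI : CommGroup Z :=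
    { (inferInstance : Group Z) with
      mul_comm := fun a b => Subtype.ext (hZcomm a a.2 b b.2) }
  let ε : G → Z := fun g => ⟨g * (α g)⁻¹, hεZ g⟩
  have hεT : ∀ g : G, ∀ t ∈ (T : Subgroup G), ε (g * t) = ε g := by
    intro g t ht
    apply Subtype.ext
    show g * t * (α (g * t))⁻¹ = g * (α g)⁻¹
    rw [map_mul, hfixT t ht]; group
  have hcoc : ∀ h g : G, ε (h * g) = MulAut.conjNormal h (ε g) * ε h := by
    intro h g
    apply Subtype.ext
    rw [Subgroup.coe_mul, MulAut.conjNormal_apply]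
    show h * g * (α (h * g))⁻¹ = h * (g * (α g)⁻¹) * h⁻¹ * (h * (α h)⁻¹)
    rw [map_mul]; group
  haveI : Fintype (G ⧸ (T : Subgroup G)) := Fintype.ofFinite _
  obtain ⟨u, hu⟩ : ∃ u : Z, u = ∏ c : G ⧸ (T : Subgroup G), ε c.out := ⟨_, rfl⟩
  obtain ⟨n, hn⟩ : ∃ n, n = (T : Subgroup G).index := ⟨_, rfl⟩
  have hkey : ∀ h : G, MulAut.conjNormal h u * (ε h) ^ n = u := by
    intro h
    have h1 : ∀ c : G ⧸ (T : Subgroup G),
        MulAut.conjNormal h (ε c.out) = ε ((h • c).out) * (ε h)⁻¹ := by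
      intro c
      have e1 : ε (h * c.out) = ε ((h • c).out) := by
        have hq : (((h • c).out : G) : G ⧸ (T : Subgroup G)) = ((h * c.out : G) : G ⧸ (T : Subgroup G)) := by
          rw [QuotientGroup.out_eq']
          calc h • c = h • ((c.out : G) : G ⧸ (T : Subgroup G)) := by rw [QuotientGroup.out_eq']
            _ = _ := rfl
        have ht := QuotientGroup.eq.mp hq
        have e : h * c.out = (h • c).out * (((h • c).out)⁻¹ * (h * c.out)) := by group
        rw [e]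
        exact hεT _ _ ht
      rw [← e1, hcoc, mul_inv_cancel_right]
    have h2 : MulAut.conjNormal h u = ∏ c : G ⧸ (T : Subgroup G), (ε ((h • c).out) * (ε h)⁻¹) := by
      rw [hu, map_prod]
      exact Finset.prod_congr rfl (fun c _ => h1 c)
    have h3 : ∏ c : G ⧸ (T : Subgroup G), ε ((h • c).out) = u := by
      rw [hu]
      exact Equiv.prod_comp (MulAction.toPerm h) (fun c : G ⧸ (T : Subgroup G) => ε c.out)
    have hcard : Fintype.card (G ⧸ (T : Subgroup G)) = n := by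
      rw [hn, Subgroup.index_eq_card, Nat.card_eq_fintype_card]
    rw [h2, Finset.prod_mul_distrib, h3, Finset.prod_const, Finset.card_univ, hcard, inv_pow,
      inv_mul_cancel_right]
  have hcop : Nat.Coprime n (p ^ j) := by
    have hnd : ¬ p ∣ n := by rw [hn]; exact T.not_dvd_index
    exact Nat.Coprime.pow_right j ((Nat.Prime.coprime_iff_not_dvd hp).mpr hnd).symm
  have hbez := Nat.gcd_eq_gcd_ab n (p ^ j)
  rw [hcop.gcd_eq_one] at hbez
  obtain ⟨a, ha⟩ : ∃ a : ℤ, a = Nat.gcdA n (p ^ j) := ⟨_, rfl⟩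
  obtain ⟨b, hb⟩ : ∃ b : ℤ, b = Nat.gcdB n (p ^ j) := ⟨_, rfl⟩
  rw [← ha, ← hb] at hbez
  have hεp' : ∀ h : G, (ε h) ^ (p ^ j) = 1 := fun h => Subtype.ext (by
    rw [Subgroup.coe_pow]; exact hεp h)
  have hεw : ∀ h : G, ε h = (MulAut.conjNormal h (u ^ a))⁻¹ * u ^ a := by
    intro h
    have h1 : (ε h) ^ n = (MulAut.conjNormal h u)⁻¹ * u := by
      rw [eq_inv_mul_iff_mul_eq]; exact hkey h
    have h2 : ε h = ((ε h) ^ n) ^ a := by
      have : ε h = (ε h) ^ ((n : ℤ) * a + ((p ^ j : ℕ) : ℤ) * b) := by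
        rw [← hbez]; simp
      rw [zpow_add, zpow_mul, zpow_mul, zpow_natCast, zpow_natCast, hεp' h, one_zpow, mul_one] at this
      exact this
    rw [h2, h1, mul_zpow, inv_zpow, map_zpow]
  refine ⟨((u ^ a : Z) : G)⁻¹, ?_⟩
  intro h
  have e := congrArg Subtype.val (hεw h)
  rw [Subgroup.coe_mul, Subgroup.coe_inv, MulAut.conjNormal_apply] at e
  have e' : h * (α h)⁻¹ = (h * ((u ^ a : Z) : G) * h⁻¹)⁻¹ * ((u ^ a : Z) : G) := e
  have e2 : α h = (h * (α h)⁻¹)⁻¹ * h := by group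
  rw [e2, e']; group

end Cfsg.Agent.S1941
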