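import Cfsg.Statements.S1944
import Cfsg.Agent.H1.Cores
import Cfsg.Agent.Lib.Helper7.SylowLift

set_option autoImplicit false
open Cfsg

namespace Cfsg.Agent.S1944

theorem core {G : Type*} [Group G] [Finite G] {p : ℕ} [Fact p.Prime] (S : Sylow p G)
    (K₀ : Subgroup G) [hK₀n : K₀.Normal] (hK₀c : (Nat.card K₀).Coprime p)
    (hZ : ((S : Subgroup G) ⊓ Subgroup.centralizer ((S : Subgroup G) : Set G)) ≤
      (Cfsg.pCore p (G ⧸ K₀)).comap (QuotientGroup.mk' K₀)) :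
    ∃ W K : Subgroup G, (∀ x : G, x ∈ W ↔ (x ∈ (S : Subgroup G) ∧ ∀ g : G, g * x * g⁻¹ ∈ (S : Subgroup G) → g * x * g⁻¹ = x)) ∧
      K ≤ ((S : Subgroup G) ⊓ Subgroup.centralizer ((S : Subgroup G) : Set G)) ∧ W ⊓ K = ⊥ ∧ W ⊔ K = ((S : Subgroup G) ⊓ Subgroup.centralizer ((S : Subgroup G) : Set G)) := by
  classical
  have hp : p.Prime := Fact.out
  obtain ⟨π, hπ⟩ : ∃ π : G →* G ⧸ K₀, π = QuotientGroup.mk' K₀ := ⟨_, rfl⟩
  rw [← hπ] at hZ
  have hπs : Function.Surjective π := by rw [hπ]; exact QuotientGroup.mk'_surjective K₀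
  have hπk : ∀ x : G, π x = 1 ↔ x ∈ K₀ := by
    intro x; rw [hπ]; exact QuotientGroup.eq_one_iff x
  obtain ⟨O, hO⟩ : ∃ O, O = Cfsg.pCore p (G ⧸ K₀) := ⟨_, rfl⟩
  rw [← hO] at hZ
  haveI hOn : O.Normal := by rw [hO]; infer_instance
  have hOS : O ≤ (S : Subgroup G).map π := by
    have h1 : Cfsg.pCore p (G ⧸ K₀) ≤ (S : Subgroup G).map π :=
      Cfsg.Agent.H1.pCore_le_sylow (S.mapSurjective hπs)
    rw [hO]; exact h1
  have hinj : ∀ s ∈ (S : Subgroup G), π s = 1 → s = 1 := by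
    intro s hs h1
    have hsK : s ∈ K₀ := (hπk s).mp h1
    obtain ⟨k, hk⟩ := S.isPGroup'.exists_card_eq
    have hcop : (Nat.card (S : Subgroup G)).Coprime (Nat.card K₀) := by
      rw [hk]; exact Nat.Coprime.pow_left k hK₀c.symm
    have hd := (Subgroup.disjoint_of_coprime_natCard hcop).eq_bot
    have hm : s ∈ (S : Subgroup G) ⊓ K₀ := Subgroup.mem_inf.mpr ⟨hs, hsK⟩
    rw [hd, Subgroup.mem_bot] at hm
    exact hm
  obtain ⟨ZS, hZS⟩ : ∃ ZS, ZS = (S : Subgroup G) ⊓ Subgroup.centralizer ((S : Subgroup G) : Set G) :=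
    ⟨_, rfl⟩
  rw [← hZS] at hZ ⊢
  have hZS_S : ZS ≤ S := by rw [hZS]; exact inf_le_left
  have hZS_C : ∀ z ∈ ZS, ∀ s ∈ (S : Subgroup G), s * z = z * s := by
    intro z hz s hs
    rw [hZS] at hz
    exact (Subgroup.mem_centralizer_iff.mp hz.2) s hs
  have hZO : ∀ z ∈ ZS, π z ∈ O := fun z hz => hZ hz
  obtain ⟨A, hA⟩ : ∃ A, A = O ⊓ Subgroup.centralizer (O : Set (G ⧸ K₀)) := ⟨_, rfl⟩
  haveI hAn : A.Normal := by rw [hA]; infer_instance
  have hAcomm : ∀ a ∈ A, ∀ b ∈ A, a * b = b * a := by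
    intro a ha b hb
    rw [hA] at ha hb
    exact ((Subgroup.mem_centralizer_iff.mp ha.2) b hb.1).symm
  have hZA : ∀ z ∈ ZS, π z ∈ A := by
    intro z hz
    rw [hA]
    refine Subgroup.mem_inf.mpr ⟨hZO z hz, ?_⟩
    rw [Subgroup.mem_centralizer_iff]
    intro v hv
    obtain ⟨s, hs, rfl⟩ := Subgroup.mem_map.mp (hOS hv)
    rw [← map_mul, ← map_mul, hZS_C z hz s hs]
  letI : CommGroup A :=
    { (inferInstance : Group A) with
      mul_comm := fun a b => Subtype.ext (hAcomm a a.2 b b.2) }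
  let ζ : ZS →* A := (π.comp ZS.subtype).codRestrict A (fun z => hZA z.1 z.2)
  have hζ : ∀ z : ZS, ((ζ z : A) : G ⧸ K₀) = π z.1 := fun z => rfl
  obtain ⟨Sb, hSb⟩ : ∃ Sb : Subgroup (G ⧸ K₀), Sb = (S : Subgroup G).map π := ⟨_, rfl⟩
  haveI : Fintype ((G ⧸ K₀) ⧸ Sb) := Fintype.ofFinite _
  let τ : A →* A :=
    ∏ c : (G ⧸ K₀) ⧸ Sb, (MulAut.conjNormal (c.out : G ⧸ K₀) : MulAut A).toMonoidHom
  have hτ : ∀ v : A, τ v = ∏ c : (G ⧸ K₀) ⧸ Sb, MulAut.conjNormal (c.out : G ⧸ K₀) v := by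
    intro v
    simp only [τ, MonoidHom.finsetProd_apply, MulEquiv.coe_toMonoidHom]
  have hfixS : ∀ z : ZS, ∀ t ∈ Sb, MulAut.conjNormal t (ζ z) = ζ z := by
    intro z t ht
    rw [hSb] at ht
    obtain ⟨s, hs, rfl⟩ := Subgroup.mem_map.mp ht
    apply Subtype.ext
    rw [MulAut.conjNormal_apply, hζ, ← map_inv, ← map_mul, ← map_mul, hZS_C z.1 z.2 s hs,
      mul_inv_cancel_right]
  have hconj_mul : ∀ (h g : G ⧸ K₀) (v : A),
      MulAut.conjNormal (h * g) v = MulAut.conjNormal h (MulAut.conjNormal g v) := by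
    intro h g v; rw [map_mul, MulAut.mul_apply]
  have hfixed : ∀ (z : ZS) (h : G ⧸ K₀), MulAut.conjNormal h (τ (ζ z)) = τ (ζ z) := by
    intro z h
    rw [hτ, map_prod]
    have h1 : ∀ c : (G ⧸ K₀) ⧸ Sb,
        MulAut.conjNormal h (MulAut.conjNormal (c.out : G ⧸ K₀) (ζ z)) =
          MulAut.conjNormal ((h • c).out : G ⧸ K₀) (ζ z) := by
      intro c
      have hq : (((h • c).out : G ⧸ K₀) : (G ⧸ K₀) ⧸ Sb) =
          ((h * c.out : G ⧸ K₀) : (G ⧸ K₀) ⧸ Sb) := by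
        rw [QuotientGroup.out_eq']
        calc h • c = h • ((c.out : G ⧸ K₀) : (G ⧸ K₀) ⧸ Sb) := by rw [QuotientGroup.out_eq']
          _ = _ := rfl
      have ht := QuotientGroup.eq.mp hq
      have e : h * c.out = (h • c).out * (((h • c).out)⁻¹ * (h * c.out)) := by group
      rw [← hconj_mul, e, hconj_mul, hfixS z _ ht]
    rw [Finset.prod_congr rfl (fun c _ => h1 c)]
    exact Equiv.prod_comp (MulAction.toPerm h)
      (fun c : (G ⧸ K₀) ⧸ Sb => MulAut.conjNormal (c.out : G ⧸ K₀) (ζ z))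
  obtain ⟨n, hn⟩ : ∃ n, n = Fintype.card ((G ⧸ K₀) ⧸ Sb) := ⟨_, rfl⟩
  have hnp : Nat.Coprime n p := by
    have h1 : ¬ p ∣ Sb.index := by
      rw [hSb]; exact (S.mapSurjective hπs).not_dvd_index
    rw [Subgroup.index_eq_card, Nat.card_eq_fintype_card, ← hn] at h1
    exact ((Nat.Prime.coprime_iff_not_dvd hp).mpr h1).symm
  have hcentral : ∀ z : ZS, (∀ h : G ⧸ K₀, h * π z.1 = π z.1 * h) → τ (ζ z) = (ζ z) ^ n := by
    intro z hz
    rw [hτ]
    have h1 : ∀ c : (G ⧸ K₀) ⧸ Sb, MulAut.conjNormal (c.out : G ⧸ K₀) (ζ z) = ζ z := by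
      intro c
      apply Subtype.ext
      rw [MulAut.conjNormal_apply, hζ, hz, mul_inv_cancel_right]
    rw [Finset.prod_congr rfl (fun c _ => h1 c), Finset.prod_const, Finset.card_univ, hn]
  refine ⟨ZS ⊓ (Subgroup.center (G ⧸ K₀)).comap π, (τ.comp ζ).ker.map ZS.subtype, ?_,
    Subgroup.map_subtype_le _, ?_, ?_⟩
  · intro x
    constructor
    · intro hx
      obtain ⟨hxZ, hxc⟩ := Subgroup.mem_inf.mp hx
      have hxc' : ∀ h : G ⧸ K₀, h * π x = π x * h :=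
        fun h => (Subgroup.mem_center_iff.mp (Subgroup.mem_comap.mp hxc)) h
      refine ⟨hZS_S hxZ, ?_⟩
      intro g hg
      have h1 : π (g * x * g⁻¹ * x⁻¹) = 1 := by
        rw [map_mul, map_mul, map_mul, map_inv, map_inv, hxc' (π g), mul_inv_cancel_right,
          mul_inv_cancel]
      have h2 := hinj _ ((S : Subgroup G).mul_mem hg ((S : Subgroup G).inv_mem (hZS_S hxZ))) h1
      exact mul_inv_eq_one.mp h2
    · rintro ⟨hxS, hwc⟩
      have hxC : x ∈ Subgroup.centralizer ((S : Subgroup G) : Set G) := by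
        rw [Subgroup.mem_centralizer_iff]
        intro s hs
        have h1 : s * x * s⁻¹ ∈ (S : Subgroup G) :=
          (S : Subgroup G).mul_mem ((S : Subgroup G).mul_mem hs hxS) ((S : Subgroup G).inv_mem hs)
        have h2 := hwc s h1
        calc s * x = (s * x * s⁻¹) * s := by group
          _ = x * s := by rw [h2]
      have hxZ : x ∈ ZS := by rw [hZS]; exact Subgroup.mem_inf.mpr ⟨hxS, hxC⟩
      refine Subgroup.mem_inf.mpr ⟨hxZ, ?_⟩
      rw [Subgroup.mem_comap, Subgroup.mem_center_iff]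
      intro γ
      have hγ : ∀ y ∈ Subgroup.zpowers x, γ * (QuotientGroup.mk y : G ⧸ K₀) * γ⁻¹ ∈
          ((S : Subgroup G).map (QuotientGroup.mk' K₀)) := by
        intro y hy
        have hyZ : y ∈ ZS := (Subgroup.zpowers_le.mpr hxZ) hy
        have h1 : π y ∈ O := hZO y hyZ
        have h2 : γ * π y * γ⁻¹ ∈ O := hOn.conj_mem _ h1 γ
        have h3 := hOS h2
        rw [hπ] at h3
        exact h3
      obtain ⟨g', hg'⟩ := Cfsg.Agent.Lib.Helper7.exists_lift_conj_of_quotient K₀ S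
        (Subgroup.zpowers x) (Subgroup.zpowers_le.mpr hxS) γ hγ
      obtain ⟨h1, h2⟩ := hg' x (Subgroup.mem_zpowers x)
      rw [hwc g' h1] at h2
      have h3 : π x = γ * π x * γ⁻¹ := by rw [hπ]; exact h2
      calc γ * π x = (γ * π x * γ⁻¹) * γ := by group
        _ = π x * γ := by rw [← h3]
  · rw [eq_bot_iff]
    intro x hx
    obtain ⟨hxW, hxK⟩ := Subgroup.mem_inf.mp hx
    obtain ⟨hxZ, hxc⟩ := Subgroup.mem_inf.mp hxW
    obtain ⟨z, hz, hzx⟩ := Subgroup.mem_map.mp hxK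
    have hzx' : z.1 = x := hzx
    have hc : ∀ h : G ⧸ K₀, h * π z.1 = π z.1 * h := by
      rw [hzx']
      exact fun h => (Subgroup.mem_center_iff.mp (Subgroup.mem_comap.mp hxc)) h
    have h1 : (ζ z) ^ n = 1 := by
      rw [← hcentral z hc]; exact (MonoidHom.mem_ker).mp hz
    have h2 : π (x ^ n) = 1 := by
      have := congrArg Subtype.val h1
      rw [Subgroup.coe_pow, hζ, hzx', ← map_pow] at this
      exact this
    have h3 : x ^ n = 1 := hinj _ ((S : Subgroup G).pow_mem (hZS_S hxZ) n) h2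
    obtain ⟨k, hk⟩ := (S.isPGroup' ⟨x, hZS_S hxZ⟩)
    have hk' : x ^ (p ^ k) = 1 := by simpa using congrArg Subtype.val hk
    have d1 : orderOf x ∣ n := orderOf_dvd_of_pow_eq_one h3
    have d2 : orderOf x ∣ p ^ k := orderOf_dvd_of_pow_eq_one hk'
    have h4 : orderOf x = 1 :=
      Nat.Coprime.eq_one_of_dvd (Nat.Coprime.coprime_dvd_left d1 (hnp.pow_right k)) d2
    rw [Subgroup.mem_bot]; exact orderOf_eq_one_iff.mp h4
  · apply le_antisymm (sup_le inf_le_left (Subgroup.map_subtype_le _))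
    intro z hz
    obtain ⟨v, hv⟩ : ∃ v : A, v = τ (ζ ⟨z, hz⟩) := ⟨_, rfl⟩
    have hvfix : ∀ h : G ⧸ K₀, MulAut.conjNormal h v = v := by rw [hv]; exact hfixed ⟨z, hz⟩
    have hvO : (v : G ⧸ K₀) ∈ O := by
      have h1 : A ≤ O := by rw [hA]; exact inf_le_left
      exact h1 v.2
    obtain ⟨s, hs, hsv⟩ := Subgroup.mem_map.mp (hOS hvO)
    have hvc : ∀ h : G ⧸ K₀, h * π s = π s * h := by
      intro h
      have := congrArg Subtype.val (hvfix h)
      rw [MulAut.conjNormal_apply, ← hsv] at this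
      calc h * π s = (h * π s * h⁻¹) * h := by group
        _ = π s * h := by rw [this]
    have hsC : s ∈ Subgroup.centralizer ((S : Subgroup G) : Set G) := by
      rw [Subgroup.mem_centralizer_iff]
      intro t ht
      have h1 : π (t * s * t⁻¹ * s⁻¹) = 1 := by
        rw [map_mul, map_mul, map_mul, map_inv, map_inv, hvc (π t), mul_inv_cancel_right,
          mul_inv_cancel]
      have h2 := hinj _ ((S : Subgroup G).mul_mem ((S : Subgroup G).mul_mem
        ((S : Subgroup G).mul_mem ht hs) ((S : Subgroup G).inv_mem ht))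
        ((S : Subgroup G).inv_mem hs)) h1
      have h3 : t * s * t⁻¹ = s := mul_inv_eq_one.mp h2
      calc t * s = (t * s * t⁻¹) * t := by group
        _ = s * t := by rw [h3]
    have hsZ : s ∈ ZS := by rw [hZS]; exact Subgroup.mem_inf.mpr ⟨hs, hsC⟩
    have hζs : ζ ⟨s, hsZ⟩ = v := Subtype.ext hsv
    obtain ⟨k, hk⟩ := (S.isPGroup'.to_le hZS_S).exists_card_eq
    have hcop : Nat.Coprime n (p ^ k) := hnp.pow_right k
    have hbez := Nat.gcd_eq_gcd_ab n (p ^ k)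
    rw [hcop.gcd_eq_one] at hbez
    obtain ⟨a, ha⟩ : ∃ a : ℤ, a = Nat.gcdA n (p ^ k) := ⟨_, rfl⟩
    obtain ⟨b, hb⟩ : ∃ b : ℤ, b = Nat.gcdB n (p ^ k) := ⟨_, rfl⟩
    rw [← ha, ← hb] at hbez
    obtain ⟨w, hw⟩ : ∃ w : ZS, w = (⟨s, hsZ⟩ : ZS) ^ a := ⟨_, rfl⟩
    have hwc : ∀ h : G ⧸ K₀, h * π w.1 = π w.1 * h := by
      intro h
      rw [hw, Subgroup.coe_zpow, map_zpow]
      exact ((Commute.zpow_right (show Commute h (π s) from hvc h) a)).eq
    have hspk : (⟨s, hsZ⟩ : ZS) ^ (p ^ k) = 1 := by rw [← hk]; exact pow_card_eq_one'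
    have hτw : τ (ζ w) = v := by
      rw [hcentral w hwc, hw, map_zpow, hζs]
      have hvpk : v ^ (p ^ k) = 1 := by rw [← hζs, ← map_pow, hspk, map_one]
      have hv1 : v = v ^ ((n : ℤ) * a + ((p ^ k : ℕ) : ℤ) * b) := by rw [← hbez]; simp
      rw [zpow_add, zpow_mul, zpow_mul, zpow_natCast, zpow_natCast, hvpk, one_zpow, mul_one] at hv1
      rw [← zpow_natCast, ← zpow_mul, mul_comm, zpow_mul, zpow_natCast]
      exact hv1.symm
    have hK : (⟨z, hz⟩ * w⁻¹ : ZS) ∈ (τ.comp ζ).ker := by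
      rw [MonoidHom.mem_ker, MonoidHom.comp_apply, map_mul, map_mul, map_inv, map_inv, hτw, ← hv,
        mul_inv_cancel]
    have hwW : w.1 ∈ ZS ⊓ (Subgroup.center (G ⧸ K₀)).comap π := by
      refine Subgroup.mem_inf.mpr ⟨w.2, ?_⟩
      rw [Subgroup.mem_comap, Subgroup.mem_center_iff]
      exact hwc
    have e : z = (z * (w.1)⁻¹) * w.1 := by group
    rw [e]
    refine Subgroup.mul_mem _ (Subgroup.mem_sup_right ?_) (Subgroup.mem_sup_left hwW)
    exact Subgroup.mem_map.mpr ⟨⟨z, hz⟩ * w⁻¹, hK, rfl⟩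

/-- Let S be a Sylow p-subgroup of the finite group G and suppose that the centre Z(S) lies in O_{p',p}(G). The elements of S each of which is its only G-conjugate in S form a subgroup W of Z(S); W is then a direct factor of Z(S): there is a subgroup K of Z(S) with W ∩ K = 1 and WK = Z(S). -/
theorem result {G : Type*} [Group G] [Finite G] {p : ℕ} [Fact p.Prime] (S : Sylow p G)
    (hZ : ((S : Subgroup G) ⊓ Subgroup.centralizer ((S : Subgroup G) : Set G)) ≤ Cfsg.pPrimePCore p G) :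
    ∃ W K : Subgroup G, (∀ x : G, x ∈ W ↔ (x ∈ (S : Subgroup G) ∧ ∀ g : G, g * x * g⁻¹ ∈ (S : Subgroup G) → g * x * g⁻¹ = x)) ∧
      K ≤ ((S : Subgroup G) ⊓ Subgroup.centralizer ((S : Subgroup G) : Set G)) ∧ W ⊓ K = ⊥ ∧ W ⊔ K = ((S : Subgroup G) ⊓ Subgroup.centralizer ((S : Subgroup G) : Set G)) := by

  exact core S (Cfsg.pPrimeCore p G) (Cfsg.Agent.H1.pPrimeCore_coprime p) hZ

end Cfsg.Agent.S1944
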