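import Cfsg.Statements.S1977
import Cfsg.Agent.S2011

set_option autoImplicit false
set_option linter.style.haveILetI false
open Cfsg

namespace Cfsg.Agent.S1977

open scoped commutatorElement

variable {P : Type*} [Group P]

/-- conjugation by a normalizing element preserves the centralizer -/
theorem conj_mem_centralizer {B : Subgroup P} {q c : P} (hq : q ∈ Subgroup.normalizer (B : Set P))
    (hc : c ∈ Subgroup.centralizer (B : Set P)) : q * c * q⁻¹ ∈ Subgroup.centralizer (B : Set P) := by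
  rw [Subgroup.mem_centralizer_iff] at hc ⊢
  intro b hb
  have hb' : q⁻¹ * b * q ∈ B := by
    have := (Subgroup.mem_normalizer_iff.mp (Subgroup.inv_mem _ hq) b).mp hb
    simpa using this
  have := hc _ hb'
  calc b * (q * c * q⁻¹) = q * (q⁻¹ * b * q * c) * q⁻¹ := by group
    _ = q * (c * (q⁻¹ * b * q)) * q⁻¹ := by rw [this]
    _ = q * c * q⁻¹ * b := by group

/-- the descending series `[C, Q, …, Q]` -/
def D (B Q : Subgroup P) : ℕ → Subgroup P
  | 0 => Subgroup.centralizer (B : Set P)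
  | i + 1 => ⁅D B Q i, Q⁆

theorem D_le_centralizer (B Q : Subgroup P) (hQB : Q ≤ Subgroup.normalizer (B : Set P)) (i : ℕ) :
    D B Q i ≤ Subgroup.centralizer (B : Set P) := by
  induction i with
  | zero => exact le_refl _
  | succ i ih =>
    change ⁅D B Q i, Q⁆ ≤ _
    rw [Subgroup.commutator_le]
    intro c hc q hq
    have hc' := ih hc
    have h1 : q * c⁻¹ * q⁻¹ ∈ Subgroup.centralizer (B : Set P) :=
      conj_mem_centralizer (hQB hq) (Subgroup.inv_mem _ hc')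
    have : ⁅c, q⁆ = c * (q * c⁻¹ * q⁻¹) := by rw [commutatorElement_def]; group
    rw [this]
    exact Subgroup.mul_mem _ hc' h1

theorem D_le_lcs (B Q : Subgroup P) (i : ℕ) :
    D B Q i ≤ (⊤ : Subgroup P).lowerCentralSeries i := by
  induction i with
  | zero => exact le_top
  | succ i ih =>
    change ⁅D B Q i, Q⁆ ≤ _
    rw [Subgroup.lowerCentralSeries_succ]
    exact Subgroup.commutator_mono ih le_top

/-- key existence lemma -/
theorem exists_good [Finite P] {p : ℕ} [Fact p.Prime] (hP : IsPGroup p P) (B Q : Subgroup P)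
    (hQB : Q ≤ Subgroup.normalizer (B : Set P)) (hC : ¬ Subgroup.centralizer (B : Set P) ≤ B) :
    ∃ x, x ∈ Subgroup.centralizer (B : Set P) ∧ x ∉ B ∧
      ∀ t ∈ Subgroup.zpowers x, ∀ q ∈ Q, ⁅t, q⁆ ∈ B ⊓ Subgroup.centralizer (B : Set P) := by
  haveI : Group.IsNilpotent P := hP.isNilpotent
  obtain ⟨n, hn⟩ := (Subgroup.isNilpotent_iff_lowerCentralSeries (⊤ : Subgroup P)).mp inferInstance
  have hex : ∃ n, D B Q n ≤ B ⊓ Subgroup.centralizer (B : Set P) :=
    ⟨n, by have := D_le_lcs B Q n; rw [hn] at this; exact le_trans this bot_le⟩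
  classical
  have h0 : Nat.find hex ≠ 0 := by
    intro h0
    have := Nat.find_spec hex
    rw [h0] at this
    exact hC (le_trans this inf_le_left)
  obtain ⟨m, hm⟩ := Nat.exists_eq_succ_of_ne_zero h0
  have h1 : ¬ D B Q m ≤ B ⊓ Subgroup.centralizer (B : Set P) :=
    Nat.find_min hex (by omega)
  have h2 : D B Q (m + 1) ≤ B ⊓ Subgroup.centralizer (B : Set P) := by
    have := Nat.find_spec hex
    rwa [hm] at this
  obtain ⟨x, hx, hxZ⟩ := SetLike.not_le_iff_exists.mp h1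
  have hxC : x ∈ Subgroup.centralizer (B : Set P) := D_le_centralizer B Q hQB m hx
  refine ⟨x, hxC, fun hxB => hxZ ⟨hxB, hxC⟩, ?_⟩
  intro t ht q hq
  apply h2
  exact Subgroup.commutator_mem_commutator ((Subgroup.zpowers_le.mpr hx) ht) hq

/-- commutators are not affected by "central" factors -/
theorem comm_mul_central {a b t s : P} (h1 : t * a = a * t) (h2 : t * b = b * t)
    (h4 : s * b = b * s) (h3 : s * a = a * s) (h5 : t * s = s * t) :
    ⁅a * t, b * s⁆ = ⁅a, b⁆ := by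
  have e1 : a * t * (b * s) = a * b * (t * s) := by
    calc a * t * (b * s) = a * (t * b) * s := by simp only [mul_assoc]
      _ = a * (b * t) * s := by rw [h2]
      _ = a * b * (t * s) := by simp only [mul_assoc]
  have h1' : a⁻¹ * t⁻¹ = t⁻¹ * a⁻¹ := by rw [← mul_inv_rev, ← mul_inv_rev, h1]
  have h4' : b⁻¹ * s⁻¹ = s⁻¹ * b⁻¹ := by rw [← mul_inv_rev, ← mul_inv_rev, h4]
  have h3' : a⁻¹ * s = s * a⁻¹ := by
    calc a⁻¹ * s = a⁻¹ * (s * a) * a⁻¹ := by group
      _ = a⁻¹ * (a * s) * a⁻¹ := by rw [h3]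
      _ = s * a⁻¹ := by group
  have h2' : b⁻¹ * t = t * b⁻¹ := by
    calc b⁻¹ * t = b⁻¹ * (t * b) * b⁻¹ := by group
      _ = b⁻¹ * (b * t) * b⁻¹ := by rw [h2]
      _ = t * b⁻¹ := by group
  rw [commutatorElement_def, commutatorElement_def, e1, mul_inv_rev, mul_inv_rev, ← h1', ← h4']
  calc a * b * (t * s) * (a⁻¹ * t⁻¹) * (b⁻¹ * s⁻¹)
      = a * b * t * (s * a⁻¹) * t⁻¹ * (b⁻¹ * s⁻¹) := by simp only [mul_assoc]
    _ = a * b * t * (a⁻¹ * s) * t⁻¹ * (b⁻¹ * s⁻¹) := by rw [h3']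
    _ = a * b * (t * a⁻¹) * (s * t⁻¹) * (b⁻¹ * s⁻¹) := by simp only [mul_assoc]
    _ = a * b * (a⁻¹ * t) * (t⁻¹ * s) * (b⁻¹ * s⁻¹) := by
        have e : t * a⁻¹ = a⁻¹ * t := by
          calc t * a⁻¹ = a⁻¹ * (a * t) * a⁻¹ := by group
            _ = a⁻¹ * (t * a) * a⁻¹ := by rw [h1]
            _ = a⁻¹ * t := by group
        have e' : s * t⁻¹ = t⁻¹ * s := by
          calc s * t⁻¹ = t⁻¹ * (t * s) * t⁻¹ := by group
            _ = t⁻¹ * (s * t) * t⁻¹ := by rw [h5]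
            _ = t⁻¹ * s := by group
        rw [e, e']
    _ = a * b * a⁻¹ * (s * b⁻¹) * s⁻¹ := by group
    _ = a * b * a⁻¹ * (b⁻¹ * s) * s⁻¹ := by
        have e : s * b⁻¹ = b⁻¹ * s := by
          calc s * b⁻¹ = b⁻¹ * (b * s) * b⁻¹ := by group
            _ = b⁻¹ * (s * b) * b⁻¹ := by rw [h4]
            _ = b⁻¹ * s := by group
        rw [e]
    _ = a * b * a⁻¹ * b⁻¹ := by group

section Extension

variable {B : Subgroup P} {x : P}

/-- elements of `B ⊔ ⟨x⟩` for `x ∈ C(B)` -/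
theorem mem_ext (hx : x ∈ Subgroup.centralizer (B : Set P)) {y : P}
    (hy : y ∈ B ⊔ Subgroup.zpowers x) : ∃ b ∈ B, ∃ t ∈ Subgroup.zpowers x, y = b * t := by
  apply Cfsg.Agent.S2011.mem_sup_of_commute _ hy
  intro a ha t ht
  have : Subgroup.zpowers x ≤ Subgroup.centralizer (B : Set P) := Subgroup.zpowers_le.mpr hx
  exact (Subgroup.mem_centralizer_iff.mp (this ht)) a ha

theorem zp_comm_B (hx : x ∈ Subgroup.centralizer (B : Set P)) {t : P}
    (ht : t ∈ Subgroup.zpowers x) {b : P} (hb : b ∈ B) : t * b = b * t := by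
  have : Subgroup.zpowers x ≤ Subgroup.centralizer (B : Set P) := Subgroup.zpowers_le.mpr hx
  exact ((Subgroup.mem_centralizer_iff.mp (this ht)) b hb).symm

theorem zp_comm_zp {t s : P} (ht : t ∈ Subgroup.zpowers x) (hs : s ∈ Subgroup.zpowers x) :
    t * s = s * t := by
  obtain ⟨k, rfl⟩ := ht
  obtain ⟨l, rfl⟩ := hs
  rw [← zpow_add, ← zpow_add, add_comm]

/-- `Z(B) ≤ Z(B ⊔ ⟨x⟩)` -/
theorem center_le_ext (hx : x ∈ Subgroup.centralizer (B : Set P)) :
    B ⊓ Subgroup.centralizer (B : Set P) ≤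
      (B ⊔ Subgroup.zpowers x) ⊓ Subgroup.centralizer ((B ⊔ Subgroup.zpowers x : Subgroup P) : Set P) := by
  intro z hz
  obtain ⟨hzB, hzC⟩ := Subgroup.mem_inf.mp hz
  refine Subgroup.mem_inf.mpr ⟨Subgroup.mem_sup_left hzB, ?_⟩
  rw [Subgroup.mem_centralizer_iff]
  intro y hy
  obtain ⟨b, hb, t, ht, rfl⟩ := mem_ext hx hy
  have h1 : b * z = z * b := (Subgroup.mem_centralizer_iff.mp hzC) b hb
  have h2 : t * z = z * t := zp_comm_B hx ht hzB
  calc b * t * z = b * (t * z) := by rw [mul_assoc]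
    _ = b * (z * t) := by rw [h2]
    _ = (b * z) * t := by rw [mul_assoc]
    _ = z * b * t := by rw [h1]
    _ = z * (b * t) := by rw [mul_assoc]

/-- `B ⊔ ⟨x⟩` has class at most two -/
theorem classTwo_ext (hB : B ∈ Cfsg.classTwoSubgroups P) (hx : x ∈ Subgroup.centralizer (B : Set P)) :
    B ⊔ Subgroup.zpowers x ∈ Cfsg.classTwoSubgroups P := by
  change ⁅B ⊔ Subgroup.zpowers x, B ⊔ Subgroup.zpowers x⁆ ≤ _
  rw [Subgroup.commutator_le]
  intro y₁ hy₁ y₂ hy₂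
  obtain ⟨b₁, hb₁, t₁, ht₁, rfl⟩ := mem_ext hx hy₁
  obtain ⟨b₂, hb₂, t₂, ht₂, rfl⟩ := mem_ext hx hy₂
  rw [comm_mul_central (zp_comm_B hx ht₁ hb₁) (zp_comm_B hx ht₁ hb₂) (zp_comm_B hx ht₂ hb₂)
    (zp_comm_B hx ht₂ hb₁) (zp_comm_zp ht₁ ht₂)]
  have h0 : ⁅b₁, b₂⁆ ∈ B := by
    rw [commutatorElement_def]
    exact B.mul_mem (B.mul_mem (B.mul_mem hb₁ hb₂) (B.inv_mem hb₁)) (B.inv_mem hb₂)
  have h1 : ⁅b₁, b₂⁆ ∈ B ⊓ Subgroup.centralizer (B : Set P) :=
    Subgroup.mem_inf.mpr ⟨h0, hB (Subgroup.commutator_mem_commutator hb₁ hb₂)⟩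
  exact (Subgroup.mem_inf.mp (center_le_ext hx h1)).2

/-- commutators of `B ⊔ ⟨x⟩` with `A` -/
theorem comm_ext_le (hx : x ∈ Subgroup.centralizer (B : Set P)) {A N : Subgroup P}
    (h1 : ∀ t ∈ Subgroup.zpowers x, ∀ a ∈ A, ⁅t, a⁆ ∈ B ⊓ Subgroup.centralizer (B : Set P))
    (h2 : ⁅B, A⁆ ≤ N) (hZN : B ⊓ Subgroup.centralizer (B : Set P) ≤ N) :
    ⁅B ⊔ Subgroup.zpowers x, A⁆ ≤ N := by
  rw [Subgroup.commutator_le]
  intro y hy a ha
  obtain ⟨b, hb, t, ht, rfl⟩ := mem_ext hx hy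
  have e : ⁅b * t, a⁆ = b * ⁅t, a⁆ * b⁻¹ * ⁅b, a⁆ := by
    simp only [commutatorElement_def]; group
  rw [e]
  have h3 := h1 t ht a ha
  have h4 : b * ⁅t, a⁆ * b⁻¹ = ⁅t, a⁆ := by
    have := (Subgroup.mem_centralizer_iff.mp (Subgroup.mem_inf.mp h3).2) b hb
    rw [this]; group
  rw [h4]
  exact Subgroup.mul_mem _ (hZN h3) (h2 (Subgroup.commutator_mem_commutator hb ha))

end Extension

theorem result {P : Type*} [Group P] [Finite P] {p : ℕ} [Fact p.Prime] (hP : IsPGroup p P) (B : Subgroup P) (𝒦 : Set (Subgroup P)) (h𝒦 : 𝒦 = Cfsg.classTwoSubgroups P ∨ (∃ n, 𝒦 = Cfsg.kLowerStarFamily (Cfsg.kSeqOdd P n)) ∨ ∃ n, 𝒦 = Cfsg.kUpperStarFamily (Cfsg.kSeqEven P n)) (hB : B ∈ 𝒦) (hmax : ∀ C ∈ 𝒦, B ≤ C → C = B) : Subgroup.centralizer (B : Set P) ≤ B := by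
  by_contra hC
  rcases h𝒦 with rfl | ⟨n, rfl⟩ | ⟨n, rfl⟩
  · obtain ⟨x, hxC, hxB, -⟩ := exists_good hP B ⊥ bot_le hC
    have h1 := hmax _ (classTwo_ext hB hxC) le_sup_left
    apply hxB
    rw [← h1]
    exact Subgroup.mem_sup_right (Subgroup.mem_zpowers x)
  · obtain ⟨hB2, hQN, hBA⟩ := hB
    obtain ⟨x, hxC, hxB, hgood⟩ := exists_good hP B _ hQN hC
    have hmem : B ⊔ Subgroup.zpowers x ∈ Cfsg.kLowerStarFamily (Cfsg.kSeqOdd P n) := by
      refine ⟨classTwo_ext hB2 hxC, ?_, ?_⟩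
      · rw [Subgroup.le_normalizer_iff_commutator_le_left]
        apply comm_ext_le hxC hgood
        · exact le_trans (Subgroup.le_normalizer_iff_commutator_le_left.mp hQN) le_sup_left
        · exact le_trans inf_le_left le_sup_left
      · intro A hA hAQ hBN h3 h4
        have h5 : ⁅B, A⁆ ≤ B ⊓ Subgroup.centralizer (B : Set P) := by
          apply hBA A hA hAQ (le_trans le_sup_left hBN)
          · rw [eq_bot_iff, ← h3]
            exact Subgroup.commutator_mono le_sup_left le_rfl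
          · rw [eq_bot_iff, ← h4]
            exact Subgroup.commutator_mono (Subgroup.commutator_mono (center_le_ext hxC) le_rfl) le_rfl
        exact comm_ext_le hxC (fun t ht a ha => hgood t ht a (hAQ ha))
          (le_trans h5 (center_le_ext hxC)) (center_le_ext hxC)
    have h1 := hmax _ hmem le_sup_left
    apply hxB
    rw [← h1]
    exact Subgroup.mem_sup_right (Subgroup.mem_zpowers x)
  · obtain ⟨hB2, hBQ⟩ := hB
    have hQN : Cfsg.kSeqEven P n ≤ Subgroup.normalizer (B : Set P) := by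
      rw [Subgroup.le_normalizer_iff_commutator_le_left]
      exact le_trans hBQ inf_le_left
    obtain ⟨x, hxC, hxB, hgood⟩ := exists_good hP B _ hQN hC
    have hmem : B ⊔ Subgroup.zpowers x ∈ Cfsg.kUpperStarFamily (Cfsg.kSeqEven P n) := by
      refine ⟨classTwo_ext hB2 hxC, ?_⟩
      exact comm_ext_le hxC hgood (le_trans hBQ (center_le_ext hxC)) (center_le_ext hxC)
    have h1 := hmax _ hmem le_sup_left
    apply hxB
    rw [← h1]
    exact Subgroup.mem_sup_right (Subgroup.mem_zpowers x)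

end Cfsg.Agent.S1977
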