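import Cfsg.Statements.S1978
import Cfsg.Agent.S1977

set_option autoImplicit false
set_option linter.style.haveILetI false
open Cfsg

namespace Cfsg.Agent.S1978

open scoped commutatorElement

variable {P : Type*} [Group P]

theorem upper_antitone {Q Q' : Subgroup P} (h : Q ≤ Q') :
    Cfsg.kUpperStarFamily Q' ⊆ Cfsg.kUpperStarFamily Q := by
  rintro B ⟨h1, h2⟩
  exact ⟨h1, le_trans (Subgroup.commutator_mono le_rfl h) h2⟩

theorem lower_antitone {Q Q' : Subgroup P} (h : Q ≤ Q') :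
    Cfsg.kLowerStarFamily Q' ⊆ Cfsg.kLowerStarFamily Q := by
  rintro B ⟨h1, h2, h3⟩
  exact ⟨h1, le_trans h h2, fun A hA hAQ => h3 A hA (le_trans hAQ h)⟩

theorem kSeqOdd_succ_mono {Q Q' : Subgroup P} (h : Q ≤ Q') :
    sSup (Cfsg.kUpperStarFamily (sSup (Cfsg.kLowerStarFamily Q))) ≤
      sSup (Cfsg.kUpperStarFamily (sSup (Cfsg.kLowerStarFamily Q'))) :=
  sSup_le_sSup (upper_antitone (sSup_le_sSup (lower_antitone h)))

theorem kSeqOdd_antitone : Antitone (Cfsg.kSeqOdd P) := by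
  apply antitone_nat_of_succ_le
  intro n
  induction n with
  | zero => exact le_top
  | succ n ih => exact kSeqOdd_succ_mono ih

theorem bot_mem_lower (Q : Subgroup P) : (⊥ : Subgroup P) ∈ Cfsg.kLowerStarFamily Q := by
  refine ⟨?_, ?_, ?_⟩
  · change ⁅(⊥ : Subgroup P), (⊥ : Subgroup P)⁆ ≤ _
    simp
  · intro q _
    rw [Subgroup.mem_normalizer_iff]
    intro h
    simp only [Subgroup.mem_bot]
    constructor
    · rintro rfl; simp
    · intro hh
      have : q * h * q⁻¹ = q * 1 * q⁻¹ := by rw [hh]; simp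
      simpa using this
  · intro A _ _ _ _ _
    simp

theorem bot_mem_upper (Q : Subgroup P) : (⊥ : Subgroup P) ∈ Cfsg.kUpperStarFamily Q := by
  refine ⟨?_, ?_⟩
  · change ⁅(⊥ : Subgroup P), (⊥ : Subgroup P)⁆ ≤ _
    simp
  · simp

/-- a family as in S1977 that contains `⊥` has join containing its own centralizer (indeed the
centralizer of any larger subgroup) -/
theorem centralizer_le_sSup [Finite P] {p : ℕ} [Fact p.Prime] (hP : IsPGroup p P)
    (𝒦 : Set (Subgroup P))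
    (h𝒦 : 𝒦 = Cfsg.classTwoSubgroups P ∨ (∃ n, 𝒦 = Cfsg.kLowerStarFamily (Cfsg.kSeqOdd P n)) ∨
      ∃ n, 𝒦 = Cfsg.kUpperStarFamily (Cfsg.kSeqEven P n))
    (hbot : (⊥ : Subgroup P) ∈ 𝒦) (K : Subgroup P) (hK : sSup 𝒦 ≤ K) :
    Subgroup.centralizer (K : Set P) ≤ sSup 𝒦 := by
  obtain ⟨B, -, hB⟩ := Finite.exists_le_maximal (p := fun C => C ∈ 𝒦) hbot
  have h1 : Subgroup.centralizer (B : Set P) ≤ B := by
    apply Cfsg.Agent.S1977.result hP B 𝒦 h𝒦 hB.1
    intro C hC hBC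
    exact le_antisymm (hB.2 hC hBC) hBC
  have h2 : B ≤ sSup 𝒦 := le_sSup hB.1
  exact le_trans (Subgroup.centralizer_le (le_trans h2 hK)) (le_trans h1 h2)

theorem result {P : Type*} [Group P] [Finite P] {p : ℕ} [Fact p.Prime] (hP : IsPGroup p P) : Subgroup.centralizer (Cfsg.kInfLower P : Set P) ≤ Cfsg.kInfLower P ∧ Subgroup.center P ≤ Subgroup.centralizer (Cfsg.kInfLower P : Set P) ∧ Subgroup.centralizer (Cfsg.kInfUpper P : Set P) ≤ Cfsg.kInfUpper P ∧ Subgroup.center P ≤ Subgroup.centralizer (Cfsg.kInfUpper P : Set P) := by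
  refine ⟨?_, Subgroup.center_le_centralizer _, ?_, Subgroup.center_le_centralizer _⟩
  · have h0 : Cfsg.kSeqEven P 0 ≤ Cfsg.kInfLower P := le_iSup (Cfsg.kSeqEven P) 0
    exact le_trans (centralizer_le_sSup hP _ (Or.inr (Or.inl ⟨0, rfl⟩)) (bot_mem_lower _) _ h0) h0
  · -- stabilization
    obtain ⟨N, -, hN⟩ := (measure (fun n => Nat.card (Cfsg.kSeqOdd P n))).wf.has_min Set.univ
      ⟨0, trivial⟩
    have hle : ∀ m, Cfsg.kSeqOdd P N ≤ Cfsg.kSeqOdd P m := by
      intro m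
      rcases le_total m N with h | h
      · exact kSeqOdd_antitone h
      · have h1 := kSeqOdd_antitone (P := P) h
        have h2 : ¬ Nat.card (Cfsg.kSeqOdd P m) < Nat.card (Cfsg.kSeqOdd P N) := hN m trivial
        exact le_of_eq (Subgroup.eq_of_le_of_card_ge h1 (not_lt.mp h2)).symm
    have heq : Cfsg.kInfUpper P = Cfsg.kSeqOdd P N :=
      le_antisymm (iInf_le _ N) (le_iInf hle)
    rw [heq]
    cases N with
    | zero => exact le_top
    | succ N =>
      exact centralizer_le_sSup hP _ (Or.inr (Or.inr ⟨N, rfl⟩)) (bot_mem_upper _) _ le_rfl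

end Cfsg.Agent.S1978
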