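import Cfsg.Statements.S1968
import Mathlib
import Cfsg.Agent.Lib.Lead.ConjFamily
import Cfsg.Agent.S1963
import Cfsg.Agent.S1965
import Cfsg.Agent.S1961

set_option autoImplicit false
set_option linter.style.haveILetI false
set_option linter.unusedSectionVars false
open Cfsg Cfsg.Agent.Lib.Helper7 Cfsg.Agent.Lib.Lead.Conj Cfsg.Agent.Lib.Lead.ConjFamily Cfsg.Agent.S1963
  Cfsg.Agent.S1965 Cfsg.Agent.S1961

namespace Cfsg.Agent.S1968

variable {G : Type*} [Group G]

/-- in a chain moving `A`, some step moves `A`. -/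
theorem exists_moving_step (𝓕 : Set (Subgroup G)) (A : Set G) :
    ∀ l : List (Subgroup G × G), DecL 𝓕 l A → rc (prodL l) A ≠ A →
      ∃ T ∈ 𝓕, ∃ x ∈ Subgroup.normalizer (T : Set G), A ⊆ (T : Set G) ∧ rc x A ≠ A := by
  intro l
  induction l with
  | nil =>
    intro _ h
    rw [prodL_nil, rc_one] at h
    exact absurd rfl h
  | cons c l ih =>
    obtain ⟨T, x⟩ := c
    rintro ⟨hT, hx, hAT, hdec⟩ hne
    by_cases hx' : rc x A = A
    · rw [hx'] at hdec
      rw [prodL_cons, rc_mul, hx'] at hne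
      exact ih hdec hne
    · exact ⟨T, hT, x, hx, hAT, hx'⟩

theorem result {G : Type*} [Group G] [Finite G] {p : ℕ} [Fact p.Prime] (S : Sylow p G) (W : Subgroup G → Subgroup G) (hW : Cfsg.IsConjugacyFunctor p W) (hWZ : ∀ P : Subgroup G, IsPGroup p ↥P → P ⊓ Subgroup.centralizer (P : Set G) ≤ W P) (A : Subgroup G) (hAZ : A ≤ (S : Subgroup G) ⊓ Subgroup.centralizer ((S : Subgroup G) : Set G)) (hAN : Subgroup.normalizer ((W (S : Subgroup G) : Subgroup G) : Set G) ≤ Subgroup.normalizer ((A : Subgroup G) : Set G)) (hnwc : ¬ Cfsg.IsWeaklyClosed A (S : Subgroup G)) : ∃ T : Subgroup G, Cfsg.IsWellPlaced p W (S : Subgroup G) T ∧ A ≤ T ∧ Subgroup.normalizer ((W ((S : Subgroup G) ⊓ Subgroup.normalizer ((T : Subgroup G) : Set G)) : Subgroup G) : Set G) ≤ Subgroup.normalizer ((A : Subgroup G) : Set G) ∧ ¬ p ∣ ((S : Subgroup G) ⊓ Subgroup.normalizer ((T : Subgroup G) : Set G)).relIndex (Subgroup.normalizer ((T : Subgroup G) : Set G)) ∧ A ≤ Subgroup.centralizer (((S :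 Subgroup G) ⊓ Subgroup.normalizer ((T : Subgroup G) : Set G) : Subgroup G) : Set G) ∧ ∃ g ∈ Subgroup.normalizer ((T : Subgroup G) : Set G), A.map (MulAut.conj g).toMonoidHom ≤ (S : Subgroup G) ⊓ Subgroup.normalizer ((T : Subgroup G) : Set G) ∧ A.map (MulAut.conj g).toMonoidHom ≠ A := by
  have hAS : A ≤ (S : Subgroup G) := hAZ.trans inf_le_left
  have hAC : A ≤ Subgroup.centralizer ((S : Subgroup G) : Set G) := hAZ.trans inf_le_right
  -- the set of candidates
  let 𝒯 : Set (Subgroup G) := {T | IsWellPlaced p W (S : Subgroup G) T ∧ A ≤ T ∧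
    ∃ g ∈ Subgroup.normalizer (T : Set G), cj g A ≠ A}
  -- Step 1: nonempty
  have hne : 𝒯.Nonempty := by
    unfold IsWeaklyClosed at hnwc
    push Not at hnwc
    obtain ⟨g, hgS, hgA⟩ := hnwc hAS
    have hrc : rc g⁻¹ (A : Set G) ⊆ ((S : Subgroup G) : Set G) := by
      rw [rc_coe, inv_inv]; exact hgS
    obtain ⟨l, hl, hdec⟩ := Cfsg.Agent.S1965.main S {T : Subgroup G | IsWellPlaced p W (S : Subgroup G) T}
      (fun U hU => hU.1)
      (fun T hT => by
        obtain ⟨g, hg⟩ := Cfsg.Agent.S1963.result S W hW T hT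
        exact ⟨T.map (MulAut.conj g).toMonoidHom, hg, ⟨g, rfl⟩, hg.2 0⟩)
      _ (A : Set G) g⁻¹ hAS hrc rfl
    have hmove : rc (prodL l) (A : Set G) ≠ (A : Set G) := by
      rw [hl, rc_coe, inv_inv]
      intro h
      exact hgA (SetLike.coe_injective h)
    obtain ⟨T, hT, x, hx, hAT, hxA⟩ := exists_moving_step _ _ l hdec hmove
    refine ⟨T, hT, hAT, x⁻¹, Subgroup.inv_mem _ hx, ?_⟩
    intro h
    apply hxA
    rw [rc_coe]
    exact congrArg _ h
  -- Step 2: choose `T` with `N_S(T)` as large as possible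
  obtain ⟨T, hT𝒯, hTmax⟩ := (measure (fun T : Subgroup G =>
    Nat.card ↥(S : Subgroup G) - Nat.card ↥(NS S T))).wf.has_min 𝒯 hne
  obtain ⟨hTwp, hAT, g, hgN, hgA⟩ := hT𝒯
  have hTR : T ≤ NS S T := le_inf hTwp.1 Subgroup.le_normalizer
  have hRp : IsPGroup p ↥(NS S T) := isPGroup_NS S T
  have hAR : A ≤ NS S T := hAT.trans hTR
  have hACR : A ≤ Subgroup.centralizer ((NS S T : Subgroup G) : Set G) :=
    hAC.trans (Subgroup.centralizer_le (inf_le_left : NS S T ≤ (S : Subgroup G)))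
  refine ⟨T, hTwp, hAT, ?_, hTwp.2 0, hACR, g, hgN, ?_, hgA⟩
  · -- `N_G(W(R))` normalizes `A`
    intro y hy
    by_contra hyA
    have hT₁wp := wellPlaced_tower S hW hTwp 1
    have hT₁ : functorTower W (S : Subgroup G) T 1 = W (NS S T) := rfl
    rw [hT₁] at hT₁wp
    have hAT₁ : A ≤ W (NS S T) := (le_inf hAR hACR).trans (hWZ _ hRp)
    have hyA' : cj y A ≠ A := by
      intro h
      apply hyA
      apply mem_normalizer_of_conj_mem
      intro r hr
      rw [← h]
      exact conj_mem_map_conj _ y hr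
    have hT₁𝒯 : W (NS S T) ∈ 𝒯 := ⟨hT₁wp, hAT₁, y, hy, hyA'⟩
    have hmax := hTmax _ hT₁𝒯
    have hmono : NS S T ≤ NS S (W (NS S T)) := NS_mono S hW T 0
    have hle : Nat.card ↥(NS S (W (NS S T))) ≤ Nat.card ↥(S : Subgroup G) :=
      Nat.le_of_dvd Nat.card_pos (Subgroup.card_dvd_of_le inf_le_left)
    have hle2 : Nat.card ↥(NS S T) ≤ Nat.card ↥(NS S (W (NS S T))) :=
      Nat.le_of_dvd Nat.card_pos (Subgroup.card_dvd_of_le hmono)
    have hcard : Nat.card ↥(NS S (W (NS S T))) ≤ Nat.card ↥(NS S T) := by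
      by_contra hlt
      apply hmax
      show Nat.card ↥(S : Subgroup G) - Nat.card ↥(NS S (W (NS S T))) <
        Nat.card ↥(S : Subgroup G) - Nat.card ↥(NS S T)
      omega
    have heq : NS S T = NS S (W (NS S T)) := Subgroup.eq_of_le_of_card_ge hmono hcard
    -- hence `R = S`
    have hRS : NS S T = (S : Subgroup G) := by
      by_contra hRS'
      have hlt : NS S T < NS S (NS S T) := exists_mem_normalizer_not_mem S inf_le_left hRS'
      have hV := hW (NS S T) hRp
      have hNN : NS S (NS S T) ≤ NS S (W (NS S T)) := by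
        refine le_inf inf_le_left ?_
        intro x hx
        have h3 := hV.2.2 x
        have h4 : cj x (NS S T) = NS S T := cj_eq_of_mem_normalizer hx.2
        unfold cj at h4
        rw [h4] at h3
        apply mem_normalizer_of_conj_mem
        intro r hr
        rw [h3]
        exact conj_mem_map_conj _ x hr
      rw [← heq] at hNN
      exact absurd (lt_of_lt_of_le hlt hNN) (lt_irrefl _)
    have hy' : y ∈ Subgroup.normalizer ((W (NS S T) : Subgroup G) : Set G) := hy
    rw [hRS] at hy'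
    exact hyA (hAN hy')
  · -- `A^g ≤ T ≤ N_S(T)`
    have : cj g A ≤ cj g T := cj_mono g hAT
    rw [cj_eq_of_mem_normalizer hgN] at this
    exact this.trans hTR

end Cfsg.Agent.S1968
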