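import Cfsg.Statements.S1985
import Mathlib
import Cfsg.Agent.Lib.Lead.KInf9
import Cfsg.Agent.S1973

set_option autoImplicit false
universe u
open Cfsg

namespace Cfsg.Agent.S1985

/-- Let p be an odd prime and G a finite group. Then the lower K-infinity subgroup controls weak closure of elements in G: the lower K-infinity subgroup of every p-subgroup P of G contains Z(P), and for some (equivalently, every) Sylow p-subgroup S of G, with K the lower K-infinity subgroup of S, every element of S commuting with all of N_G(K) is weakly closed in S with respect to G (every G-conjugate of it lying in S equals it). -/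
theorem result {G : Type u} [Group G] [Finite G] {p : ℕ} [Fact p.Prime] (hp : p ≠ 2) : Cfsg.ControlsWeakClosureOfElementsIn p (Cfsg.inducedFunctor (G := G) Cfsg.kInfLower) ⊤ := by
  refine Cfsg.Agent.S1973.result (Cfsg.inducedFunctor (G := G) Cfsg.kInfLower)
    (Cfsg.Agent.Lib.Lead.KInf.isConjugacyFunctor_kInfLower p G)
    (fun P _ => Cfsg.Agent.Lib.Lead.KInf.center_le_induced_kInfLower P) ?_ ⊤
  intro H T hTH hTp hidx hn
  obtain ⟨g, hgT, hgP, hquad⟩ := Cfsg.Agent.Lib.Lead.KInf.local_quadratic H T hTH hTp hidx hn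
  refine ⟨g, hgT, hgP, ?_⟩
  intro U V _ hU
  have hp2 : 2 ≤ p - 1 := by
    have := (Fact.out : p.Prime).two_le
    omega
  have h1 : Cfsg.iterCommutator (Cfsg.pCoreOf p H ⊓ Subgroup.centralizer ((Cfsg.pCoreOf p H : Subgroup G) : Set G))
      (Subgroup.zpowers g) (p - 1) ≤ ⊥ :=
    Cfsg.Agent.Lib.Lead.KInf.iter_le_of_le hp2 (le_of_eq hquad)
  exact ((Cfsg.Agent.Lib.Lead.KInf.iter_mono hU (Subgroup.zpowers g) (p - 1)).trans h1).trans bot_le

end Cfsg.Agent.S1985
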