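import Cfsg.Statements.S1945
import Cfsg.Agent.S1944
import Cfsg.Agent.S5295
import Cfsg.Agent.S5076
import Cfsg.Agent.Lib.Helper7.WeaklyClosedElt
import Cfsg.Agent.Lib.Lead.PSolvable
import Cfsg.Agent.Lib.Helper4.SolvPSolv

set_option autoImplicit false
open Cfsg

namespace Cfsg.Agent.S1945

/-- the solvable case: `Z(S) ≤ O_{p',p}(G)` -/
theorem center_le_pPrimePCore {G : Type*} [Group G] [Finite G] {p : ℕ} [Fact p.Prime] (S : Sylow p G)
    (hsol : Group.IsSolvable G) :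
    ((S : Subgroup G) ⊓ Subgroup.centralizer ((S : Subgroup G) : Set G)) ≤ Cfsg.pPrimePCore p G := by
  have hps : Cfsg.IsPSolvable p G := Cfsg.Agent.Lib.Helper4.SolvPSolv.isPSolvable_of_isSolvable p G
  have hcon := Cfsg.Agent.Lib.Lead.PSolvable.IsPSolvable.isPConstrained hps
  haveI hnorm : (Cfsg.pPrimePCore p G).Normal := by
    unfold Cfsg.pPrimePCore
    have : (Cfsg.pCore p (G ⧸ Cfsg.pPrimeCore p G)).Normal := Cfsg.Agent.H1.pCore_normal p
    exact Subgroup.Normal.comap this _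
  obtain ⟨P₁⟩ : Nonempty (Sylow p ↥(Cfsg.pPrimePCore p G)) := inferInstance
  have hP₁ : IsPGroup p ↥((P₁ : Subgroup ↥(Cfsg.pPrimePCore p G)).map (Cfsg.pPrimePCore p G).subtype) :=
    P₁.isPGroup'.map _
  obtain ⟨Q, hQ⟩ := hP₁.exists_le_sylow
  obtain ⟨g, hg⟩ := MulAction.exists_smul_eq G Q S
  intro z hz
  have hzS : z ∈ (S : Subgroup G) := hz.1
  have hzC : z ∈ Subgroup.centralizer ((S : Subgroup G) : Set G) := hz.2
  -- z' = g⁻¹ z g ∈ Q centralizes Q
  have hmemS : ∀ y : G, y ∈ (S : Subgroup G) ↔ g⁻¹ * y * g ∈ (Q : Subgroup G) := by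
    intro y
    rw [← hg, Sylow.coe_subgroup_smul, Subgroup.mem_pointwise_smul_iff_inv_smul_mem]
    simp [MulAut.smul_def]
  have hz' : g⁻¹ * z * g ∈ Subgroup.centralizer
      (((P₁ : Subgroup ↥(Cfsg.pPrimePCore p G)).map (Cfsg.pPrimePCore p G).subtype : Subgroup G) : Set G) := by
    rw [Subgroup.mem_centralizer_iff]
    intro y hy
    have hyQ : y ∈ (Q : Subgroup G) := hQ hy
    have hyS : g * y * g⁻¹ ∈ (S : Subgroup G) := by
      rw [hmemS]
      have : g⁻¹ * (g * y * g⁻¹) * g = y := by group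
      rw [this]; exact hyQ
    have hc := (Subgroup.mem_centralizer_iff.mp hzC) _ hyS
    -- (g y g⁻¹) z = z (g y g⁻¹)
    calc y * (g⁻¹ * z * g) = g⁻¹ * ((g * y * g⁻¹) * z) * g := by group
      _ = g⁻¹ * (z * (g * y * g⁻¹)) * g := by rw [hc]
      _ = g⁻¹ * z * g * y := by group
  have h1 : g⁻¹ * z * g ∈ Cfsg.pPrimePCore p G := hcon P₁ hz'
  have h2 := hnorm.conj_mem _ h1 g
  have : g * (g⁻¹ * z * g) * g⁻¹ = z := by group
  rw [this] at h2
  exact h2

/-- Let S be a Sylow p-subgroup of the finite group G, and assume that p is odd or that G is solvable. The elements of S each of which is its only G-conjugate in S form a subgroup W of Z(S); W is then a direct factor of Z(S): there is a subgroup K of Z(S) with W ∩ K = 1 and WK = Z(S). (For p = 2 and G not solvable this can fail.) -/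
theorem result {G : Type*} [Group G] [Finite G] {p : ℕ} [Fact p.Prime] (S : Sylow p G) (h : p ≠ 2 ∨ Group.IsSolvable G) :
    ∃ W K : Subgroup G, (∀ x : G, x ∈ W ↔ (x ∈ (S : Subgroup G) ∧ ∀ g : G, g * x * g⁻¹ ∈ (S : Subgroup G) → g * x * g⁻¹ = x)) ∧
      K ≤ ((S : Subgroup G) ⊓ Subgroup.centralizer ((S : Subgroup G) : Set G)) ∧ W ⊓ K = ⊥ ∧ W ⊔ K = ((S : Subgroup G) ⊓ Subgroup.centralizer ((S : Subgroup G) : Set G)) := by
  rcases h with hp | hsol
  · have hS : IsPGroup p ↥(S : Subgroup G) := S.isPGroup'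
    have hF := Cfsg.Agent.S5076.result p S
    obtain ⟨K, hK1, hK2, hK3⟩ := Cfsg.Agent.S5295.result p hp hS (Cfsg.groupFusionSystem (S : Subgroup G)) hF
    refine ⟨(Cfsg.groupFusionSystem (S : Subgroup G)).center, K, ?_, hK1, hK2, hK3⟩
    intro x
    rw [Cfsg.Agent.Lib.Helper7.WeaklyClosedElt.mem_center_iff p hS _ hF x]
    constructor
    · rintro ⟨hxS, hcl⟩
      refine ⟨hxS, fun g hg => hcl _ ⟨Cfsg.conjHom (Subgroup.zpowers x) g, ?_, rfl⟩⟩
      refine ⟨Subgroup.zpowers_le.mpr hxS, fun y => ?_, g, fun y => rfl⟩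
      obtain ⟨n, hn⟩ := Subgroup.mem_zpowers_iff.mp y.2
      show g * (y : G) * g⁻¹ ∈ (S : Subgroup G)
      rw [← hn, ← conj_zpow]
      exact Subgroup.zpow_mem _ hg n
    · rintro ⟨hxS, hwc⟩
      refine ⟨hxS, ?_⟩
      rintro y ⟨φ, ⟨hle, hφS, g, hg⟩, rfl⟩
      have h1 := hφS ⟨x, Subgroup.mem_zpowers x⟩
      rw [hg] at h1 ⊢
      exact hwc g h1
  · exact Cfsg.Agent.S1944.result S (center_le_pPrimePCore S hsol)

end Cfsg.Agent.S1945
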