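import Cfsg.Statements.S1947
import Mathlib
import Cfsg.Agent.Lib.Lead.OmegaFaithful
import Cfsg.Agent.Lib.Lead.NormalPComplement

set_option autoImplicit false
open Cfsg

namespace Cfsg.Agent.S1947



/-- Let G be a finite group and p a prime. If every element of G of order dividing p (dividing 4 when p = 2) lies in some fixed term Z_n(G) of the upper central series, then G has a normal p-complement. -/
theorem result {G : Type*} [Group G] [Finite G] {p : ℕ} [Fact p.Prime] (n : ℕ)
    (h : ∀ a : G, (a ^ p = 1 ∨ (p = 2 ∧ a ^ 4 = 1)) → a ∈ Subgroup.upperCentralSeries G n) : Cfsg.HasNormalPComplement p G := by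
  classical
  obtain ⟨P⟩ : Nonempty (Sylow p G) := inferInstance
  apply Cfsg.Agent.Lib.Lead.NormalPComplement.hasNormalPComplement_of_p'_centralize P
  intro Q hQ g hg hgp
  have hQp : IsPGroup p ↥Q := P.isPGroup'.to_le hQ
  have hord : Nat.Coprime (orderOf (MulAut.conj g)) p :=
    Nat.Coprime.coprime_dvd_left (orderOf_map_dvd _ g) hgp
  have key : ∀ i : ℕ, ∀ x ∈ Q, x ∈ Subgroup.upperCentralSeries G i → g * x * g⁻¹ = x := by
    intro i
    induction i with
    | zero =>
      intro x _ hx
      rw [Subgroup.upperCentralSeries_zero, Subgroup.mem_bot] at hx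
      rw [hx]; group
    | succ i ih =>
      intro x hxQ hx
      have hd1 : x⁻¹ * (g * x * g⁻¹) ∈ Q :=
        Q.mul_mem (Q.inv_mem hxQ) ((Subgroup.mem_normalizer_iff.1 hg x).1 hxQ)
      have hd2 : x⁻¹ * (g * x * g⁻¹) ∈ Subgroup.upperCentralSeries G i := by
        have hx' : x⁻¹ ∈ Subgroup.upperCentralSeries G (i + 1) := inv_mem hx
        rw [Subgroup.mem_upperCentralSeries_succ_iff] at hx'
        have h1 := hx' g
        have e : x⁻¹ * (g * x * g⁻¹) = x⁻¹ * g * x⁻¹⁻¹ * g⁻¹ := by group
        rw [e]; exact h1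
      have hfix := ih _ hd1 hd2
      obtain ⟨j, hj⟩ := hQp ⟨_, hd1⟩
      have hj' : (x⁻¹ * (g * x * g⁻¹)) ^ p ^ j = 1 := by
        have := congrArg Subtype.val hj
        simpa using this
      have hax : (MulAut.conj g) x = x * (x⁻¹ * (g * x * g⁻¹)) := by
        rw [MulAut.conj_apply]; group
      have had : (MulAut.conj g) (x⁻¹ * (g * x * g⁻¹)) = x⁻¹ * (g * x * g⁻¹) := by
        rw [MulAut.conj_apply]; exact hfix
      have h1 := Cfsg.Agent.Lib.Lead.OmegaFaithful.eq_one_of_step (MulAut.conj g) hord hax had hj'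
      calc g * x * g⁻¹ = x * (x⁻¹ * (g * x * g⁻¹)) := by group
        _ = x := by rw [h1, mul_one]
  apply Cfsg.Agent.Lib.Lead.OmegaFaithful.centralizes_of_fixes_small Q hQp g hg hgp
  intro x hx hsmall
  exact key n x hx (h x hsmall)

end Cfsg.Agent.S1947
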