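import Cfsg.Statements.S1948
import Mathlib
import Cfsg.Agent.H1.Cores
import Cfsg.Agent.H2.PPrimeCore
import Cfsg.Agent.Lib.Lead.PComplement
import Cfsg.Agent.Lib.Helper7.SylowLib

set_option autoImplicit false
open Cfsg

namespace Cfsg.Agent.S1948

open Cfsg.Agent.Lib.Helper7

/-- If `T` is a normal Sylow `p`-subgroup of `H` and `O_{p'}(H) = 1`, then `C_H(T) ≤ T`. -/
theorem centralizer_le_of_normal_sylow {H : Type*} [Group H] [Finite H] {p : ℕ} [hp : Fact p.Prime]
    (T : Sylow p H) [hT : (T : Subgroup H).Normal] (hbot : pPrimeCore p H = ⊥) :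
    Subgroup.centralizer ((T : Subgroup H) : Set H) ≤ (T : Subgroup H) := by
  set C := Subgroup.centralizer ((T : Subgroup H) : Set H) with hC
  haveI hCn : C.Normal := Subgroup.normal_centralizer
  have hsyl : IsSylowIn p ((T : Subgroup H) ⊓ C) C :=
    (IsSylowIn.of_sylow_top T).inf_normal C le_top (by rw [Subgroup.normalizer_eq_top])
  obtain ⟨R, hR⟩ := hsyl.exists_sylow
  have hRc : (R : Subgroup ↥C) ≤ Subgroup.center ↥C := by
    intro x hx
    rw [hR, Subgroup.mem_subgroupOf] at hx
    rw [Subgroup.mem_center_iff]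
    intro c
    apply Subtype.ext
    have := Subgroup.mem_centralizer_iff.1 c.2 x.1 hx.1
    rw [Subgroup.coe_mul, Subgroup.coe_mul]
    exact this.symm
  have hcard := Cfsg.Agent.Lib.Lead.PComplement.card_eq_card_pPrimeCore_mul_of_central_sylow R hRc
  have hO : pPrimeCore p ↥C = ⊥ := by
    have := Cfsg.Agent.H2.pPrimeCore_map_subtype_le_of_isSubnormal p hCn.isSubnormal
    rw [hbot, le_bot_iff] at this
    exact (Subgroup.map_eq_bot_iff_of_injective _ C.subtype_injective).1 this
  rw [hO, Subgroup.card_bot, one_mul] at hcard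
  have hRtop : (R : Subgroup ↥C) = ⊤ := (Subgroup.card_eq_iff_eq_top _).1 hcard.symm
  intro x hx
  have : (⟨x, hx⟩ : ↥C) ∈ (R : Subgroup ↥C) := hRtop ▸ Subgroup.mem_top _
  rw [hR, Subgroup.mem_subgroupOf] at this
  exact this.1

/-- Let S be a Sylow p-subgroup of the finite group G. Then G = N_G(S)·O_{p'}(G) if and only if G is p-constrained and N_G(S) controls fusion in S, in the sense that whenever a subgroup Q of S has a conjugate g Q g⁻¹ inside S, the element g is a product n c with n normalizing S and c centralizing Q. -/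
theorem result {G : Type*} [Group G] [Finite G] {p : ℕ} [Fact p.Prime] (S : Sylow p G) :
    Subgroup.normalizer ((S : Subgroup G) : Set G) ⊔ Cfsg.pPrimeCore p G = ⊤ ↔
      (Cfsg.IsPConstrained p G ∧
        ∀ Q : Subgroup G, Q ≤ (S : Subgroup G) → ∀ g : G, Q.map (MulAut.conj g).toMonoidHom ≤ (S : Subgroup G) →
          ∃ n ∈ Subgroup.normalizer ((S : Subgroup G) : Set G), ∃ c ∈ Subgroup.centralizer (Q : Set G), g = n * c) := by
  have hp' : p.Prime := Fact.out
  set K := Cfsg.pPrimeCore p G with hK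
  haveI hKn : K.Normal := Cfsg.Agent.H1.pPrimeCore_normal p
  have hKc : (Nat.card K).Coprime p := Cfsg.Agent.H1.pPrimeCore_coprime p
  set M := Cfsg.pPrimePCore p G with hM
  have hMmem : ∀ x : G, x ∈ M ↔ QuotientGroup.mk' K x ∈ Cfsg.pCore p (G ⧸ K) := fun x => Iff.rfl
  haveI hMn : M.Normal := by
    rw [hM]; unfold Cfsg.pPrimePCore
    exact Subgroup.Normal.comap (Cfsg.Agent.H1.pCore_normal p) _
  have hKM : K ≤ M := by
    intro x hx
    rw [hMmem]
    have : QuotientGroup.mk' K x = 1 := (QuotientGroup.eq_one_iff x).2 hx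
    rw [this]; exact one_mem _
  have hSK : (S : Subgroup G) ⊓ K = ⊥ := by
    apply (Subgroup.disjoint_of_coprime_natCard ?_).eq_bot
    obtain ⟨n, hn⟩ := IsPGroup.iff_card.mp S.isPGroup'
    rw [hn]
    exact Nat.Coprime.pow_left n hKc.symm
  constructor
  · intro h
    constructor
    · -- `p`-constraint
      have hsurj : Function.Surjective (QuotientGroup.mk' K) := QuotientGroup.mk'_surjective K
      set Sbar : Sylow p (G ⧸ K) := S.mapSurjective hsurj with hSbar
      have hSbar_coe : (Sbar : Subgroup (G ⧸ K)) = (S : Subgroup G).map (QuotientGroup.mk' K) :=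
        Sylow.coe_mapSurjective hsurj S
      haveI hSn : (Sbar : Subgroup (G ⧸ K)).Normal := by
        rw [hSbar_coe]
        constructor
        intro y hy g
        obtain ⟨g, rfl⟩ := hsurj g
        obtain ⟨s, hs, rfl⟩ := hy
        have hg : g ∈ Subgroup.normalizer ((S : Subgroup G) : Set G) ⊔ K := h ▸ Subgroup.mem_top g
        obtain ⟨n, hn, k, hk, rfl⟩ := Subgroup.mem_sup_of_normal_right.1 hg
        refine ⟨n * s * n⁻¹, (Subgroup.mem_normalizer_iff.1 hn s).1 hs, ?_⟩
        have hk1 : QuotientGroup.mk' K k = 1 := (QuotientGroup.eq_one_iff k).2 hk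
        simp only [map_mul, map_inv, hk1, mul_one]
      have hbot : Cfsg.pPrimeCore p (G ⧸ K) = ⊥ := Cfsg.Agent.H2.pPrimeCore_quotient_eq_bot p
      have hcent := centralizer_le_of_normal_sylow Sbar hbot
      haveI huniq : Subsingleton (Sylow p (G ⧸ K)) :=
        (Sylow.unique_of_normal Sbar hSn).instSubsingleton
      have hSO : (Sbar : Subgroup (G ⧸ K)) ≤ Cfsg.pCore p (G ⧸ K) :=
        Cfsg.Agent.H1.le_pCore hSn Sbar.isPGroup'
      intro P
      obtain ⟨S', hS'⟩ := (P.isPGroup'.map M.subtype).exists_le_sylow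
      have hS'bar : (S' : Subgroup G).map (QuotientGroup.mk' K) = (Sbar : Subgroup _) := by
        rw [← Sylow.coe_mapSurjective hsurj S', Subsingleton.elim (S'.mapSurjective hsurj) Sbar]
      have hS'M : (S' : Subgroup G) ≤ M := by
        intro x hx
        rw [hMmem]
        apply hSO; rw [← hS'bar]; exact Subgroup.mem_map_of_mem _ hx
      have hPS' : (P : Subgroup M).map M.subtype = S' := by
        have hle : (P : Subgroup M) ≤ (S' : Subgroup G).subgroupOf M := by
          intro x hx
          rw [Subgroup.mem_subgroupOf]; exact hS' (Subgroup.mem_map_of_mem _ hx)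
        have hpg : IsPGroup p ((S' : Subgroup G).subgroupOf M) := S'.isPGroup'.comap_subtype
        have := P.is_maximal' hpg hle
        rw [← this]
        exact Subgroup.map_subgroupOf_eq_of_le hS'M
      rw [hPS']
      intro x hx
      rw [hMmem]
      apply hSO; apply hcent
      rw [Subgroup.mem_centralizer_iff]
      intro y hy
      rw [SetLike.mem_coe, ← hS'bar] at hy
      obtain ⟨s, hs, rfl⟩ := hy
      have := Subgroup.mem_centralizer_iff.1 hx s hs
      rw [← map_mul, ← map_mul, this]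
    · -- fusion
      intro Q hQ g hg
      have hgm : g ∈ Subgroup.normalizer ((S : Subgroup G) : Set G) ⊔ K := h ▸ Subgroup.mem_top g
      obtain ⟨n, hn, k, hk, rfl⟩ := Subgroup.mem_sup_of_normal_right.1 hgm
      refine ⟨n, hn, k, ?_, rfl⟩
      rw [Subgroup.mem_centralizer_iff]
      intro x hx
      have h1 : (n * k) * x * (n * k)⁻¹ ∈ (S : Subgroup G) :=
        hg ⟨x, hx, by simp only [MulEquiv.coe_toMonoidHom, MulAut.conj_apply]⟩
      have h2 : k * x * k⁻¹ ∈ (S : Subgroup G) := by
        have := (Subgroup.mem_normalizer_iff.1 (inv_mem hn) _).1 h1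
        have e : n⁻¹ * (n * k * x * (n * k)⁻¹) * n⁻¹⁻¹ = k * x * k⁻¹ := by group
        rwa [e] at this
      have h3 : k * x * k⁻¹ * x⁻¹ ∈ (S : Subgroup G) ⊓ K := by
        refine Subgroup.mem_inf.2 ⟨mul_mem h2 (inv_mem (hQ hx)), ?_⟩
        have : k * (x * k⁻¹ * x⁻¹) ∈ K := mul_mem hk (hKn.conj_mem _ (inv_mem hk) x)
        have e : k * (x * k⁻¹ * x⁻¹) = k * x * k⁻¹ * x⁻¹ := by group
        rwa [e] at this
      rw [hSK, Subgroup.mem_bot] at h3
      calc x * k = (k * x * k⁻¹ * x⁻¹)⁻¹ * (k * x) := by group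
        _ = k * x := by rw [h3]; group
  · rintro ⟨hc, hf⟩
    have hsyl : IsSylowIn p ((S : Subgroup G) ⊓ M) M :=
      (IsSylowIn.of_sylow_top S).inf_normal M le_top (by rw [Subgroup.normalizer_eq_top])
    obtain ⟨R, hR⟩ := hsyl.exists_sylow
    have hRmap : (R : Subgroup M).map M.subtype = (S : Subgroup G) ⊓ M := by
      rw [hR]; exact Subgroup.map_subgroupOf_eq_of_le inf_le_right
    have hfr := Sylow.normalizer_sup_eq_top R
    rw [hRmap] at hfr
    have hcR := hc R
    rw [hRmap] at hcR
    have hN : Subgroup.normalizer (((S : Subgroup G) ⊓ M : Subgroup G) : Set G) ≤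
        Subgroup.normalizer ((S : Subgroup G) : Set G) ⊔ M := by
      intro g hg
      have hgQ : ((S : Subgroup G) ⊓ M).map (MulAut.conj g).toMonoidHom ≤ S := by
        rintro _ ⟨x, hx, rfl⟩
        exact (Subgroup.mem_inf.1 ((Subgroup.mem_normalizer_iff.1 hg x).1 hx)).1
      obtain ⟨n, hn, c, hcc, rfl⟩ := hf _ inf_le_left g hgQ
      exact Subgroup.mul_mem_sup hn (hcR hcc)
    have hMle : M ≤ Subgroup.normalizer ((S : Subgroup G) : Set G) ⊔ K := by
      have hX : (S : Subgroup G) ⊓ M ⊔ K = M := by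
        apply Subgroup.eq_of_le_of_card_ge (sup_le inf_le_right hKM)
        have hMcard : Nat.card M = Nat.card (Cfsg.pCore p (G ⧸ K)) * Nat.card K :=
          Cfsg.Agent.H2.card_comap_mk' K (Cfsg.pCore p (G ⧸ K))
        obtain ⟨a, ha⟩ := IsPGroup.iff_card.mp (Cfsg.Agent.H1.pCore_isPGroup (G := G ⧸ K) p)
        have hKndvd : ¬ p ∣ Nat.card K := (Nat.Prime.coprime_iff_not_dvd hp').1 hKc.symm
        have hfac : (Nat.card M).factorization p = a := by
          rw [hMcard, ha, Nat.factorization_mul (pow_ne_zero a hp'.ne_zero) Nat.card_pos.ne',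
            Finsupp.add_apply, hp'.factorization_pow, Finsupp.single_eq_same,
            Nat.factorization_eq_zero_of_not_dvd hKndvd, add_zero]
        have h1 : p ^ a ∣ Nat.card ↥((S : Subgroup G) ⊓ M ⊔ K) := by
          rw [← hfac, ← hsyl.2]
          exact Subgroup.card_dvd_of_le le_sup_left
        have h2 : Nat.card K ∣ Nat.card ↥((S : Subgroup G) ⊓ M ⊔ K) :=
          Subgroup.card_dvd_of_le le_sup_right
        have h3 : p ^ a * Nat.card K ∣ Nat.card ↥((S : Subgroup G) ⊓ M ⊔ K) :=
          Nat.Coprime.mul_dvd_of_dvd_of_dvd (Nat.Coprime.pow_left a hKc.symm) h1 h2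
        rw [hMcard, ha]
        exact Nat.le_of_dvd Nat.card_pos h3
      rw [← hX]
      exact sup_le (inf_le_left.trans Subgroup.le_normalizer |>.trans le_sup_left) le_sup_right
    rw [eq_top_iff, ← hfr]
    apply sup_le
    · exact hN.trans (sup_le le_sup_left hMle)
    · exact hMle

end Cfsg.Agent.S1948
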