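import Cfsg.Statements.S1949
import Cfsg.Agent.H1.CriticalSubgroup
import Cfsg.Agent.H1.AutOrbC
import Cfsg.Agent.H1.PGroup

set_option autoImplicit false
open Cfsg
open scoped commutatorElement

namespace Cfsg.Agent.S1949

section aux

variable {P : Type*} [Group P]

theorem iter_fix (β : MulAut P) (x c : P) (hx : β x = x * c) (hc : β c = c) (j : ℕ) :
    (β ^ j) x = x * c ^ j := by
  induction j with
  | zero => simp
  | succ j ih =>
    rw [pow_succ', MulAut.mul_apply, ih, map_mul, map_pow, hx, hc, mul_assoc, ← pow_succ']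

theorem fix_of_fixed_comm [Finite P] {p : ℕ} [Fact p.Prime] (hP : IsPGroup p P) (β : MulAut P)
    (hβ : (orderOf β).Coprime p) (x : P) (hc : β (x⁻¹ * β x) = x⁻¹ * β x) : β x = x := by
  obtain ⟨c, hcdef⟩ : ∃ c, c = x⁻¹ * β x := ⟨_, rfl⟩
  rw [← hcdef] at hc
  have hx : β x = x * c := by rw [hcdef]; group
  have h1 := iter_fix β x c hx hc (orderOf β)
  rw [pow_orderOf_eq_one, MulAut.one_apply] at h1
  have h2 : c ^ orderOf β = 1 := by
    have h := mul_left_cancel (a := x) (b := 1) (c := c ^ orderOf β) (by rw [mul_one]; exact h1)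
    exact h.symm
  have h3 : orderOf c ∣ orderOf β := orderOf_dvd_of_pow_eq_one h2
  obtain ⟨k, hk⟩ := hP c
  have h4 : orderOf c ∣ p ^ k := orderOf_dvd_of_pow_eq_one hk
  have h5 : orderOf c ∣ 1 := by
    have h6 : (orderOf β).Coprime (p ^ k) := Nat.Coprime.pow_right k hβ
    rw [← h6]
    exact Nat.dvd_gcd h3 h4
  have h7 : c = 1 := orderOf_eq_one_iff.mp (Nat.dvd_one.mp h5)
  rw [hx, h7, mul_one]

theorem comm_pow_of_commute (x y : P) (h : Commute ⁅x, y⁆ x) (k : ℕ) : ⁅x ^ k, y⁆ = ⁅x, y⁆ ^ k := by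
  induction k with
  | zero => simp
  | succ k ih =>
    have h1 : ⁅x ^ (k + 1), y⁆ = x * ⁅x ^ k, y⁆ * x⁻¹ * ⁅x, y⁆ := by
      simp only [commutatorElement_def, pow_succ']; group
    rw [h1, ih]
    have h2 : x * ⁅x, y⁆ ^ k * x⁻¹ = ⁅x, y⁆ ^ k := by
      have h3 := (h.pow_left k).eq
      rw [← h3, mul_inv_cancel_right]
    rw [h2, pow_succ]

/-- a subgroup generated by an abelian subgroup and an element commuting with it is abelian -/
theorem sup_zpowers_comm (A : Subgroup P) (hA : ∀ a ∈ A, ∀ b ∈ A, a * b = b * a) (z : P)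
    (hz : ∀ a ∈ A, z * a = a * z) :
    ∀ x ∈ A ⊔ Subgroup.zpowers z, ∀ y ∈ A ⊔ Subgroup.zpowers z, x * y = y * x := by
  have h1 : ∀ a ∈ A, A ⊔ Subgroup.zpowers z ≤ Subgroup.centralizer ({a} : Set P) := by
    intro a ha
    apply sup_le
    · intro b hb
      rw [Subgroup.mem_centralizer_iff]
      intro h hh
      rw [Set.mem_singleton_iff] at hh
      subst hh
      exact hA h ha b hb
    · rw [Subgroup.zpowers_le, Subgroup.mem_centralizer_iff]
      intro h hh
      rw [Set.mem_singleton_iff] at hh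
      subst hh
      exact (hz h ha).symm
  have h2 : A ⊔ Subgroup.zpowers z ≤ Subgroup.centralizer ({z} : Set P) := by
    apply sup_le
    · intro b hb
      rw [Subgroup.mem_centralizer_iff]
      intro h hh
      rw [Set.mem_singleton_iff] at hh
      subst hh
      exact hz b hb
    · rw [Subgroup.zpowers_le, Subgroup.mem_centralizer_iff]
      intro h hh
      rw [Set.mem_singleton_iff] at hh
      subst hh
      rfl
  have h3 : A ⊔ Subgroup.zpowers z ≤
      Subgroup.centralizer ((A ⊔ Subgroup.zpowers z : Subgroup P) : Set P) := by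
    apply sup_le
    · intro a ha
      rw [Subgroup.mem_centralizer_iff]
      intro y hy
      have := Subgroup.mem_centralizer_iff.mp (h1 a ha hy) a (Set.mem_singleton a)
      exact this.symm
    · rw [Subgroup.zpowers_le, Subgroup.mem_centralizer_iff]
      intro y hy
      have := Subgroup.mem_centralizer_iff.mp (h2 hy) z (Set.mem_singleton z)
      exact this.symm
  intro x hx y hy
  exact (Subgroup.mem_centralizer_iff.mp (h3 hx) y hy).symm

end aux

/-- Let P be a finite p-group and G a group of automorphisms of P containing the inner automorphisms. Then there is a G-invariant subgroup D of P, contained in the subgroup generated by the elements x⁻¹α(x) with x in P and α in O^p(G), of exponent dividing p when p is odd and dividing 4 when p = 2, with [D, P] ≤ Z(D), such that every automorphism in G of order prime to p that fixes D elementwise is the identity; moreover every maximal abelian subgroup A of D is normal in P and every automorphism in G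 fixing A elementwise has p-power order. -/
theorem result {P : Type*} [Group P] [Finite P] {p : ℕ} [Fact p.Prime] (hP : IsPGroup p P)
    (G : Subgroup (MulAut P)) (hG : Cfsg.Inn P ≤ G) :
    ∃ D : Subgroup P,
      (∀ α ∈ G, D.map α.toMonoidHom = D) ∧
      D ≤ Subgroup.closure {y : P | ∃ α ∈ Cfsg.pResidual p ↥G, ∃ x : P, y = x⁻¹ * (α : MulAut P) x} ∧
      (∀ d ∈ D, d ^ p = 1 ∨ (p = 2 ∧ d ^ 4 = 1)) ∧
      ⁅D, (⊤ : Subgroup P)⁆ ≤ D ⊓ Subgroup.centralizer (D : Set P) ∧
      (∀ α ∈ G, (orderOf α).Coprime p → (∀ d ∈ D, α d = d) → α = 1) ∧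
      ∀ A : Subgroup P, A ≤ D → IsMulCommutative ↥A →
        (∀ B : Subgroup P, A ≤ B → B ≤ D → IsMulCommutative ↥B → B = A) →
        A.Normal ∧ ∀ α ∈ G, (∀ a ∈ A, α a = a) → ∃ k : ℕ, orderOf α = p ^ k := by
  classical
  have hp : p.Prime := Fact.out
  obtain ⟨H, hHchar, hΦ, hHP, hCH⟩ := Cfsg.Agent.H1.exists_critical_subgroup' hP
  have := hHchar
  have hHn : H.Normal := inferInstance
  have hHG : ∀ α : MulAut P, ∀ x ∈ H, α x ∈ H := by
    intro α x hx
    have h := Subgroup.characteristic_iff_map_eq.mp hHchar α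
    rw [← h]
    exact Subgroup.mem_map_of_mem _ hx
  have hcomm_mem : ∀ x ∈ H, ∀ g : P, ⁅x, g⁆ ∈ H ⊓ Subgroup.centralizer (H : Set P) := fun x hx g =>
    hHP (Subgroup.commutator_mem_commutator hx (Subgroup.mem_top g))
  have hpowZ : ∀ x ∈ H, x ^ p ∈ Subgroup.centralizer (H : Set P) := by
    intro x hx
    have hHp : IsPGroup p ↥H := hP.to_subgroup H
    have h1 := Cfsg.Agent.H1.pow_p_mem_frattini hHp (⟨x, hx⟩ : ↥H)
    have h2 := hΦ (Subgroup.mem_map_of_mem H.subtype h1)
    simpa using h2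
  -- commutators in H have order dividing p
  have hcommp : ∀ x ∈ H, ∀ y ∈ H, ⁅x, y⁆ ^ p = 1 := by
    intro x hx y hy
    have hz := (hcomm_mem x hx y).2
    have hcz : Commute ⁅x, y⁆ x := (Subgroup.mem_centralizer_iff.mp hz x hx).symm
    rw [← comm_pow_of_commute x y hcz p]
    have h1 := Subgroup.mem_centralizer_iff.mp (hpowZ x hx) y hy
    rw [commutatorElement_def, ← h1]
    group
  -- the exponent
  obtain ⟨e, he⟩ : ∃ e : ℕ, e = if p = 2 then 4 else p := ⟨_, rfl⟩
  have hpe : p ∣ e.choose 2 := by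
    by_cases h2 : p = 2
    · rw [he, if_pos h2, h2]
      decide
    · rw [he, if_neg h2, Nat.choose_two_right]
      obtain ⟨m, hm⟩ := hp.odd_of_ne_two h2
      have h3 : p - 1 = m * 2 := by omega
      rw [h3, ← mul_assoc, Nat.mul_div_cancel _ (by norm_num : 0 < 2)]
      exact dvd_mul_right p m
  -- the `e`-th power map is multiplicative on `H`
  have hpowmul : ∀ a ∈ H, ∀ b ∈ H, (a * b) ^ e = a ^ e * b ^ e := by
    intro a ha b hb
    have hc2 : ∀ u v : ↥H, ⁅u, v⁆ ∈ Subgroup.center ↥H := by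
      intro u v
      rw [Subgroup.mem_center_iff]
      intro w
      apply Subtype.ext
      have hz := (hcomm_mem u u.2 v).2
      have h := Subgroup.mem_centralizer_iff.mp hz w w.2
      simpa [commutatorElement_def] using h
    have h1 := Cfsg.Agent.H1.AutOrbC.mul_pow_class2 hc2 (⟨a, ha⟩ : ↥H) ⟨b, hb⟩ e
    have h2 : (⁅(⟨b, hb⟩ : ↥H), (⟨a, ha⟩ : ↥H)⁆) ^ (e.choose 2) = 1 := by
      obtain ⟨t, ht⟩ := hpe
      rw [ht, pow_mul]
      have h3 : (⁅(⟨b, hb⟩ : ↥H), (⟨a, ha⟩ : ↥H)⁆) ^ p = 1 := by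
        apply Subtype.ext
        have h := hcommp b hb a ha
        simpa [commutatorElement_def] using h
      rw [h3, one_pow]
    rw [h2, mul_one] at h1
    have h4 := congrArg (Subtype.val) h1
    simpa using h4
  obtain ⟨R, hR⟩ : ∃ R : Subgroup ↥G, R = Cfsg.pResidual p ↥G := ⟨_, rfl⟩
  have hRgen : ∀ α : ↥G, (orderOf (α : MulAut P)).Coprime p → α ∈ R := by
    intro α hα
    rw [hR]
    apply Subgroup.subset_closure
    show Nat.Coprime (orderOf α) p
    rw [Subgroup.orderOf_coe] at hα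
    exact hα
  have hRconj : ∀ β α : ↥G, α ∈ R → β * α * β⁻¹ ∈ R := by
    intro β α hα
    have h1 : R.map (MulAut.conj β).toMonoidHom ≤ R := by
      rw [Subgroup.map_le_iff_le_comap, hR]
      unfold Cfsg.pResidual
      rw [Subgroup.closure_le]
      intro g hg
      rw [Subgroup.coe_comap, Set.mem_preimage]
      apply Subgroup.subset_closure
      show Nat.Coprime (orderOf ((MulAut.conj β) g)) p
      rw [MulEquiv.orderOf_eq]
      exact hg
    have h2 := h1 (Subgroup.mem_map_of_mem _ hα)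
    simpa [MulAut.conj_apply] using h2
  obtain ⟨D₁, hD₁⟩ : ∃ D₁ : Subgroup P, D₁ = Subgroup.closure
      {y : P | ∃ α ∈ R, ∃ x ∈ H, y = x⁻¹ * ((α : ↥G) : MulAut P) x} := ⟨_, rfl⟩
  have hgenmem : ∀ α ∈ R, ∀ x ∈ H, x⁻¹ * ((α : ↥G) : MulAut P) x ∈ D₁ := by
    intro α hα x hx
    rw [hD₁]
    exact Subgroup.subset_closure ⟨α, hα, x, hx, rfl⟩
  have hD₁H : D₁ ≤ H := by
    rw [hD₁, Subgroup.closure_le]
    rintro y ⟨α, -, x, hx, rfl⟩
    exact mul_mem (inv_mem hx) (hHG _ x hx)
  have hD₁tgt : D₁ ≤ Subgroup.closure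
      {y : P | ∃ α ∈ Cfsg.pResidual p ↥G, ∃ x : P, y = x⁻¹ * (α : MulAut P) x} := by
    rw [hD₁]
    apply Subgroup.closure_mono
    rintro y ⟨α, hα, x, -, rfl⟩
    exact ⟨α, hR ▸ hα, x, rfl⟩
  have hD₁inv : ∀ β ∈ G, ∀ d ∈ D₁, (β : MulAut P) d ∈ D₁ := by
    intro β hβ
    have h1 : D₁ ≤ D₁.comap (β : MulAut P).toMonoidHom := by
      conv_lhs => rw [hD₁]
      rw [Subgroup.closure_le]
      rintro y ⟨α, hα, x, hx, rfl⟩
      show β (x⁻¹ * ((α : ↥G) : MulAut P) x) ∈ D₁
      have h2 := hgenmem (⟨β, hβ⟩ * α * ⟨β, hβ⟩⁻¹) (hRconj ⟨β, hβ⟩ α hα) (β x) (hHG β x hx)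
      have h3 : (β x)⁻¹ * (((⟨β, hβ⟩ * α * ⟨β, hβ⟩⁻¹ : ↥G)) : MulAut P) (β x)
          = β (x⁻¹ * ((α : ↥G) : MulAut P) x) := by
        simp [MulAut.mul_apply]
      rw [← h3]; exact h2
    intro d hd
    exact h1 hd
  let D : Subgroup P :=
    { carrier := {d | d ∈ D₁ ∧ d ^ e = 1}
      one_mem' := ⟨one_mem _, one_pow _⟩
      mul_mem' := by
        rintro a b ⟨ha, ha'⟩ ⟨hb, hb'⟩
        refine ⟨mul_mem ha hb, ?_⟩
        rw [hpowmul a (hD₁H ha) b (hD₁H hb), ha', hb', one_mul]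
      inv_mem' := by
        rintro a ⟨ha, ha'⟩
        exact ⟨inv_mem ha, by rw [inv_pow, ha', inv_one]⟩ }
  have hmemD : ∀ d, d ∈ D ↔ (d ∈ D₁ ∧ d ^ e = 1) := fun d => Iff.rfl
  have hDD₁ : D ≤ D₁ := fun d hd => ((hmemD d).1 hd).1
  have hDH : D ≤ H := hDD₁.trans hD₁H
  have hDinv : ∀ β ∈ G, ∀ d ∈ D, (β : MulAut P) d ∈ D := by
    intro β hβ d hd
    obtain ⟨h1, h2⟩ := (hmemD d).1 hd
    exact (hmemD _).2 ⟨hD₁inv β hβ d h1, by rw [← map_pow, h2, map_one]⟩
  have hconjG : ∀ g : P, MulAut.conj g ∈ G := fun g => hG ⟨g, rfl⟩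
  have hDnorm : ∀ g : P, ∀ d ∈ D, g * d * g⁻¹ ∈ D := by
    intro g d hd
    have h := hDinv _ (hconjG g) d hd
    simpa [MulAut.conj_apply] using h
  have hexp : ∀ x : P, ∃ k : ℕ, x ^ e ^ k = 1 := by
    intro x
    obtain ⟨k, hk⟩ := hP x
    refine ⟨k, ?_⟩
    have h1 : p ^ k ∣ e ^ k := by
      apply pow_dvd_pow_of_dvd
      by_cases h2 : p = 2
      · rw [he, if_pos h2, h2]; norm_num
      · rw [he, if_neg h2]
    obtain ⟨t, ht⟩ := h1
    rw [ht, pow_mul, hk, one_pow]
  have hdet : ∀ α ∈ G, (orderOf α).Coprime p → (∀ d ∈ D, α d = d) → α = 1 := by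
    intro α hα hcop hfix
    have hA : ∀ k : ℕ, ∀ x ∈ D₁, x ^ e ^ k = 1 → α x = x := by
      intro k
      induction k with
      | zero =>
        intro x _ hx
        rw [pow_zero, pow_one] at hx
        rw [hx, map_one]
      | succ k ih =>
        intro x hx hxk
        have hy : α (x ^ e) = x ^ e := by
          apply ih (x ^ e) (pow_mem hx e)
          rw [← pow_mul, ← pow_succ']
          exact hxk
        apply fix_of_fixed_comm hP α hcop x
        apply hfix
        refine (hmemD _).2 ⟨mul_mem (inv_mem hx) (hD₁inv α hα x hx), ?_⟩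
        rw [hpowmul _ (inv_mem (hD₁H hx)) _ (hHG α x (hD₁H hx)), inv_pow, ← map_pow, hy,
          inv_mul_cancel]
    have hA' : ∀ x ∈ D₁, α x = x := by
      intro x hx
      obtain ⟨k, hk⟩ := hexp x
      exact hA k x hx hk
    have hB : ∀ x ∈ H, α x = x := by
      intro x hx
      apply fix_of_fixed_comm hP α hcop x
      apply hA'
      exact hgenmem ⟨α, hα⟩ (hRgen ⟨α, hα⟩ hcop) x hx
    apply MulEquiv.ext
    intro g
    rw [MulAut.one_apply]
    apply fix_of_fixed_comm hP α hcop g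
    apply hB
    apply hCH
    rw [Subgroup.mem_centralizer_iff]
    intro h hh
    have h1 : α (g * h * g⁻¹) = g * h * g⁻¹ := hB _ (hHn.conj_mem h hh g)
    rw [map_mul, map_mul, map_inv, hB h hh] at h1
    have h2 : α g * h = g * h * g⁻¹ * α g := by rw [← h1]; group
    calc h * (g⁻¹ * α g) = g⁻¹ * (g * h * g⁻¹ * α g) := by group
      _ = g⁻¹ * (α g * h) := by rw [h2]
      _ = g⁻¹ * α g * h := by group
  refine ⟨D, ?_, hDD₁.trans hD₁tgt, ?_, ?_, hdet, ?_⟩
  · intro α hα
    apply le_antisymm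
    · rintro _ ⟨d, hd, rfl⟩
      exact hDinv α hα d hd
    · intro d hd
      refine ⟨α⁻¹ d, hDinv α⁻¹ (inv_mem hα) d hd, ?_⟩
      simp
  · intro d hd
    obtain ⟨-, h2⟩ := (hmemD d).1 hd
    by_cases hp2 : p = 2
    · right
      rw [he, if_pos hp2] at h2
      exact ⟨hp2, h2⟩
    · left
      rw [he, if_neg hp2] at h2
      exact h2
  · rw [Subgroup.commutator_le]
    intro d hd g _
    refine Subgroup.mem_inf.mpr ⟨?_, ?_⟩
    · have h1 : ⁅d, g⁆ = d * (g * d⁻¹ * g⁻¹) := by rw [commutatorElement_def]; group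
      rw [h1]
      exact mul_mem hd (hDnorm g _ (inv_mem hd))
    · exact Subgroup.centralizer_le hDH (hcomm_mem d (hDH hd) g).2
  · intro A hAD hAcomm hAmax
    have hAab : ∀ a ∈ A, ∀ b ∈ A, a * b = b * a := by
      intro a ha b hb
      have h := hAcomm.is_comm.comm (⟨a, ha⟩ : ↥A) ⟨b, hb⟩
      exact congrArg Subtype.val h
    have hmaxmem : ∀ z ∈ D, (∀ a ∈ A, z * a = a * z) → z ∈ A := by
      intro z hz hza
      have hB := hAmax (A ⊔ Subgroup.zpowers z) le_sup_left
        (sup_le hAD (Subgroup.zpowers_le.mpr hz))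
        ⟨⟨fun x y => Subtype.ext (sup_zpowers_comm A hAab z hza x x.2 y y.2)⟩⟩
      rw [← hB]
      exact Subgroup.mem_sup_right (Subgroup.mem_zpowers z)
    have hAn : A.Normal := by
      refine ⟨fun a ha g => ?_⟩
      have hz : ⁅g, a⁆ ∈ A := by
        apply hmaxmem
        · have h1 : ⁅g, a⁆ = (g * a * g⁻¹) * a⁻¹ := by rw [commutatorElement_def]
          rw [h1]
          exact mul_mem (hDnorm g a (hAD ha)) (inv_mem (hAD ha))
        · intro b hb
          have h1 : ⁅g, a⁆ = (⁅a, g⁆)⁻¹ := by simp only [commutatorElement_def]; group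
          have h2 := inv_mem (Subgroup.mem_inf.mp (hcomm_mem a (hDH (hAD ha)) g)).2
          rw [← h1] at h2
          exact (Subgroup.mem_centralizer_iff.mp h2 b (hDH (hAD hb))).symm
      have h3 : g * a * g⁻¹ = ⁅g, a⁆ * a := by rw [commutatorElement_def]; group
      rw [h3]
      exact mul_mem hz ha
    refine ⟨hAn, ?_⟩
    intro α hα hfixA
    obtain ⟨k, m, hm, hn⟩ := Nat.exists_eq_pow_mul_and_not_dvd (orderOf_pos α).ne' p hp.ne_one
    refine ⟨k, ?_⟩
    have hβG : α ^ p ^ k ∈ G := pow_mem hα _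
    have hβord : orderOf (α ^ p ^ k) = m := by
      rw [orderOf_pow' α (pow_ne_zero k hp.ne_zero), hn]
      rw [Nat.gcd_eq_right (dvd_mul_right _ _)]
      exact Nat.mul_div_cancel_left m (pow_pos hp.pos k)
    have hβcop : (orderOf (α ^ p ^ k)).Coprime p := by
      rw [hβord]
      exact ((Nat.Prime.coprime_iff_not_dvd hp).mpr hm).symm
    have hβA : ∀ a ∈ A, (α ^ p ^ k) a = a := by
      intro a ha
      have h : ∀ j : ℕ, (α ^ j) a = a := by
        intro j
        induction j with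
        | zero => simp
        | succ j ih => rw [pow_succ, MulAut.mul_apply, hfixA a ha, ih]
      exact h _
    have hβ1 : α ^ p ^ k = 1 := by
      apply hdet _ hβG hβcop
      intro d hd
      apply fix_of_fixed_comm hP _ hβcop d
      apply hβA
      apply hmaxmem
      · exact mul_mem (inv_mem hd) (hDinv _ hβG d hd)
      · intro a ha
        obtain ⟨β, hβ⟩ : ∃ β, β = α ^ p ^ k := ⟨_, rfl⟩
        rw [← hβ] at hβA ⊢
        have h1 : β (d * a * d⁻¹) = d * a * d⁻¹ := hβA _ (hAn.conj_mem a ha d)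
        rw [map_mul, map_mul, map_inv, hβA a ha] at h1
        have h2 : β d * a = d * a * d⁻¹ * β d := by rw [← h1]; group
        calc d⁻¹ * β d * a = d⁻¹ * (β d * a) := by group
          _ = d⁻¹ * (d * a * d⁻¹ * β d) := by rw [h2]
          _ = a * (d⁻¹ * β d) := by group
    have hm1 : m = 1 := by
      rw [← hβord, hβ1, orderOf_one]
    rw [hn, hm1, mul_one]

end Cfsg.Agent.S1949
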