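import Cfsg.Statements.S1952
import Mathlib
import Cfsg.Agent.S0651

set_option autoImplicit false
open Cfsg
open scoped commutatorElement

namespace Cfsg.Agent.S1952


set_option linter.unusedVariables false
set_option linter.style.haveILetI false
open scoped IsMulCommutative

/-- a hyperplane of an elementary abelian group missing a given nontrivial element -/
theorem exists_hyperplane {A : Type*} [CommGroup A] [Finite A] (p : ℕ) [Fact p.Prime]
    (hexp : ∀ a : A, a ^ p = 1) (z : A) (hz : z ≠ 1) :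
    ∃ H : Subgroup A, z ∉ H ∧ H.index = p := by
  classical
  have hp : p.Prime := Fact.out
  obtain ⟨H, hzH, hmax⟩ := Set.exists_max_image {H : Subgroup A | z ∉ H} (fun H => Nat.card H)
    (Set.toFinite _) ⟨⊥, by simpa [Subgroup.mem_bot] using hz⟩
  have hzH' : z ∉ H := hzH
  refine ⟨H, hzH', ?_⟩
  have htop : H ⊔ Subgroup.zpowers z = ⊤ := by
    rw [eq_top_iff]
    intro a _
    by_cases haH : a ∈ H
    · exact Subgroup.mem_sup_left haH
    · have h1 : z ∈ H ⊔ Subgroup.zpowers a := by
        by_contra hn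
        have h2 : Nat.card ↥(H ⊔ Subgroup.zpowers a) ≤ Nat.card ↥H := hmax (H ⊔ Subgroup.zpowers a) hn
        have h3 : H < H ⊔ Subgroup.zpowers a := by
          refine lt_of_le_of_ne le_sup_left ?_
          intro heq
          apply haH
          rw [heq]
          exact Subgroup.mem_sup_right (Subgroup.mem_zpowers a)
        exact absurd (Cfsg.Agent.S0651.card_lt_of_lt h3) (not_lt.mpr h2)
      obtain ⟨h, hh, w, hw, hhw⟩ := Subgroup.mem_sup.mp h1
      obtain ⟨k, rfl⟩ := Subgroup.mem_zpowers_iff.mp hw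
      have hak : a ^ k ∉ H := by
        intro hc
        apply hzH'
        rw [← hhw]; exact H.mul_mem hh hc
      have hpk : ¬ (p : ℤ) ∣ k := by
        rintro ⟨m, rfl⟩
        apply hak
        rw [zpow_mul, zpow_natCast, hexp, one_zpow]
        exact H.one_mem
      have hcop : IsCoprime (p : ℤ) k :=
        (Prime.coprime_iff_not_dvd (Nat.prime_iff_prime_int.mp hp)).mpr hpk
      obtain ⟨u, v, huv⟩ := hcop
      have ha : a = (a ^ k) ^ v := by
        have h4 : a ^ (1 : ℤ) = a ^ (u * (p : ℤ) + v * k) := by rw [huv]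
        rw [zpow_one, zpow_add, mul_comm u, zpow_mul, zpow_natCast, hexp, one_zpow, one_mul,
          mul_comm v, zpow_mul] at h4
        exact h4
      have hak2 : a ^ k ∈ H ⊔ Subgroup.zpowers z := by
        have h5 : a ^ k = h⁻¹ * z := by rw [← hhw]; group
        rw [h5]
        exact Subgroup.mul_mem _ (Subgroup.mem_sup_left (H.inv_mem hh))
          (Subgroup.mem_sup_right (Subgroup.mem_zpowers z))
      rw [ha]
      exact Subgroup.zpow_mem _ hak2 v
  have hZ : Nat.card (Subgroup.zpowers z) = p := by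
    rw [Nat.card_zpowers]; exact orderOf_eq_prime (hexp z) hz
  have h1 : H.index = H.relIndex (Subgroup.zpowers z) := by
    rw [← Subgroup.relIndex_top_right, ← htop, Subgroup.relIndex_sup_left]
  have h2 : H.relIndex (Subgroup.zpowers z) ∣ p := hZ ▸ Subgroup.relIndex_dvd_card H (Subgroup.zpowers z)
  rcases (Nat.dvd_prime hp).mp h2 with h3 | h3
  · exfalso
    rw [Subgroup.relIndex_eq_one] at h3
    exact hzH' (h3 (Subgroup.mem_zpowers z))
  · rw [h1, h3]

/-- the core of a hyperplane missing the norm of `x` has index at least `p ^ p` in `A` -/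
theorem core_index {P : Type*} [Group P] [Finite P] {p : ℕ} [Fact p.Prime] (A : Subgroup P)
    [hAn : A.Normal] (hA : Cfsg.IsElementaryAbelian p A) (hidx : A.index = p) (x y : P)
    (hx : x ∈ A) (C : Subgroup P) [hCn : C.Normal] (hCA : C ≤ A)
    (hz : ((List.range p).map (fun i => (y ^ i)⁻¹ * x * y ^ i)).prod ∉ C) :
    p ^ p ≤ C.relIndex A := by
  classical
  have hp : p.Prime := Fact.out
  haveI : NeZero p := ⟨hp.ne_zero⟩
  haveI hAc : IsMulCommutative ↥A := hA.1
  have hexp : ∀ a : ↥A, a ^ p = 1 := fun a => Subtype.ext (by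
    rw [Subgroup.coe_pow, Subgroup.coe_one]; exact hA.2 a a.2)
  have hyp : y ^ p ∈ A := hidx ▸ Subgroup.pow_index_mem A y
  have hxnmem : ∀ i : ℕ, (y ^ i)⁻¹ * x * y ^ i ∈ A := fun i => hAn.conj_mem' x hx (y ^ i)
  obtain ⟨xn, hxn⟩ : ∃ xn : ℕ → ↥A, ∀ i, ((xn i : ↥A) : P) = (y ^ i)⁻¹ * x * y ^ i :=
    ⟨fun i => ⟨_, hxnmem i⟩, fun i => rfl⟩
  have hcomm : (y ^ p)⁻¹ * x * y ^ p = x := by
    have h1 : (⟨y ^ p, hyp⟩ : ↥A) * ⟨x, hx⟩ = ⟨x, hx⟩ * ⟨y ^ p, hyp⟩ := mul_comm' _ _
    have h2 : y ^ p * x = x * y ^ p := congrArg Subtype.val h1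
    rw [mul_assoc, ← h2, ← mul_assoc, inv_mul_cancel, one_mul]
  have hxn_p : ∀ i k : ℕ, xn (i + p * k) = xn i := by
    intro i k
    induction k with
    | zero => simp
    | succ k ih =>
      rw [← ih]
      apply Subtype.ext
      rw [hxn, hxn]
      have h3 : i + p * (k + 1) = p + (i + p * k) := by ring
      rw [h3, pow_add y p, mul_inv_rev]
      calc (y ^ (i + p * k))⁻¹ * (y ^ p)⁻¹ * x * (y ^ p * y ^ (i + p * k))
          = (y ^ (i + p * k))⁻¹ * ((y ^ p)⁻¹ * x * y ^ p) * y ^ (i + p * k) := by group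
        _ = _ := by rw [hcomm]
  have hxn_mod : ∀ n : ℕ, xn n = xn (n % p) := by
    intro n
    conv_lhs => rw [← Nat.mod_add_div n p]
    exact hxn_p _ _
  obtain ⟨xz, hxz⟩ : ∃ xz : ZMod p → ↥A, ∀ i, xz i = xn i.val :=
    ⟨fun i => xn i.val, fun i => rfl⟩
  obtain ⟨φ, hφ⟩ : ∃ φ : MulAut ↥A, ∀ a : ↥A, ((φ a : ↥A) : P) = y⁻¹ * a * y :=
    ⟨MulAut.conjNormal y⁻¹, fun a => by rw [MulAut.conjNormal_apply, inv_inv]⟩
  have hφx : ∀ i : ZMod p, φ (xz i) = xz (i + 1) := by
    intro i
    have h1 : (i + 1).val = (i.val + 1) % p := by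
      rw [ZMod.val_add, ZMod.val_one]
    rw [hxz, hxz, h1, ← hxn_mod]
    apply Subtype.ext
    rw [hφ, hxn, hxn]
    group
  obtain ⟨πf, hπf⟩ : ∃ πf : (ZMod p → ZMod p) → ↥A, ∀ c, πf c = ∏ i, xz i ^ (c i).val :=
    ⟨fun c => ∏ i, xz i ^ (c i).val, fun c => rfl⟩
  have hπadd : ∀ c c', πf (c + c') = πf c * πf c' := by
    intro c c'
    rw [hπf, hπf, hπf, ← Finset.prod_mul_distrib]
    apply Finset.prod_congr rfl
    intro i _
    rw [Pi.add_apply, ZMod.val_add, ← pow_add]
    exact (pow_eq_pow_mod _ (hexp (xz i))).symm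
  have hπ0 : πf 0 = 1 := by
    rw [hπf]; simp
  have hπshift : ∀ c : ZMod p → ZMod p, φ (πf c) = πf (fun j => c (j - 1)) := by
    intro c
    rw [hπf, hπf, map_prod]
    simp only [map_pow, hφx]
    exact Fintype.prod_equiv (Equiv.addRight (1 : ZMod p)) _ _ (fun i => by simp)
  obtain ⟨K', hK'⟩ : ∃ K' : AddSubgroup (ZMod p → ZMod p),
      ∀ c, c ∈ K' ↔ ((πf c : ↥A) : P) ∈ C :=
    ⟨{ carrier := {c | ((πf c : ↥A) : P) ∈ C}
       zero_mem' := by
         show ((πf 0 : ↥A) : P) ∈ C
         rw [hπ0]; exact C.one_mem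
       add_mem' := by
         intro c c' hc hc'
         show ((πf (c + c') : ↥A) : P) ∈ C
         rw [hπadd, Subgroup.coe_mul]; exact C.mul_mem hc hc'
       neg_mem' := by
         intro c hc
         show ((πf (-c) : ↥A) : P) ∈ C
         have h1 : πf (-c) * πf c = 1 := by rw [← hπadd, neg_add_cancel, hπ0]
         have h2 : πf (-c) = (πf c)⁻¹ := eq_inv_of_mul_eq_one_left h1
         rw [h2, Subgroup.coe_inv]; exact C.inv_mem hc }, fun c => Iff.rfl⟩
  obtain ⟨z, hzdef⟩ : ∃ z : P, z = ((List.range p).map (fun i => (y ^ i)⁻¹ * x * y ^ i)).prod :=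
    ⟨_, rfl⟩
  rw [← hzdef] at hz
  have hprodrange : ∀ n : ℕ, ((∏ k ∈ Finset.range n, xn k : ↥A) : P) =
      ((List.range n).map (fun i => (y ^ i)⁻¹ * x * y ^ i)).prod := by
    intro n
    induction n with
    | zero => simp
    | succ n ih =>
      rw [Finset.prod_range_succ, Subgroup.coe_mul, ih, hxn, List.range_succ, List.map_append,
        List.prod_append]
      simp
  have hprodz : ∏ i, xz i = ∏ k ∈ Finset.range p, xn k := by
    apply Finset.prod_nbij' (fun i : ZMod p => i.val) (fun k : ℕ => (k : ZMod p))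
    · intro i _; exact Finset.mem_range.mpr (ZMod.val_lt i)
    · intro k _; exact Finset.mem_univ _
    · intro i _; exact ZMod.natCast_zmod_val i
    · intro k hk; exact ZMod.val_natCast_of_lt (Finset.mem_range.mp hk)
    · intro i _; exact hxz i
  have hzprod : ((∏ i, xz i : ↥A) : P) = z := by
    rw [hprodz, hprodrange, hzdef]
  have hzp : z ^ p = 1 := by
    rw [← hzprod, ← Subgroup.coe_pow, hexp]; rfl
  have hKbot : K' = ⊥ := by
    by_contra hne
    have hsh : ∀ c ∈ K', (fun j => c (j - 1)) ∈ K' := by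
      intro c hc
      rw [hK'] at hc ⊢
      rw [← hπshift, hφ]
      have h1 := hCn.conj_mem _ hc y⁻¹
      rwa [inv_inv] at h1
    have hush : ∀ c ∈ K', (fun j => c (j + 1)) ∈ K' := by
      intro c hc
      rw [hK'] at hc ⊢
      have h1 := hπshift (fun j => c (j + 1))
      have h2 : (fun j : ZMod p => (fun j => c (j + 1)) (j - 1)) = c := by
        funext j; simp
      rw [h2] at h1
      have h3 : ((πf c : ↥A) : P) = y⁻¹ * (πf (fun j => c (j + 1)) : P) * y := by
        rw [← h1, hφ]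
      have h4 : ((πf (fun j => c (j + 1)) : ↥A) : P) = y * (πf c : P) * y⁻¹ := by
        rw [h3]; group
      rw [h4]
      exact hCn.conj_mem _ hc y
    haveI : Fintype ↥K' := Fintype.ofFinite _
    let σ : Equiv.Perm ↥K' :=
      { toFun := fun c => ⟨fun j => c.1 (j - 1), hsh c.1 c.2⟩
        invFun := fun c => ⟨fun j => c.1 (j + 1), hush c.1 c.2⟩
        left_inv := fun c => Subtype.ext (funext fun j => by
          show c.1 (j + 1 - 1) = c.1 j
          rw [add_sub_cancel_right])
        right_inv := fun c => Subtype.ext (funext fun j => by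
          show c.1 (j - 1 + 1) = c.1 j
          rw [sub_add_cancel]) }
    have hσ1 : ∀ (c : ↥K') (j : ZMod p), (σ c).1 j = c.1 (j - 1) := fun c j => rfl
    have hpow : ∀ (n : ℕ) (c : ↥K') (j : ZMod p),
        ((σ ^ n) c).1 j = c.1 (j - (n : ZMod p)) := by
      intro n
      induction n with
      | zero => intro c j; simp
      | succ n ih =>
        intro c j
        rw [pow_succ', Equiv.Perm.mul_apply, hσ1, ih]
        congr 1
        push_cast
        ring
    have hσp : σ ^ p ^ 1 = 1 := by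
      rw [pow_one]
      apply Equiv.Perm.ext
      intro c
      apply Subtype.ext
      funext j
      rw [hpow, ZMod.natCast_self, sub_zero, Equiv.Perm.one_apply]
    have hmod := Equiv.Perm.card_compl_support_modEq hσp
    have hdvd : p ∣ Fintype.card ↥K' := by
      rw [← Nat.card_eq_fintype_card]
      have h1 : Nat.card ↥K' ∣ Nat.card (ZMod p → ZMod p) :=
        AddSubgroup.card_addSubgroup_dvd_card K'
      rw [Nat.card_fun, Nat.card_zmod] at h1
      obtain ⟨d, -, hd⟩ := (Nat.dvd_prime_pow hp).mp h1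
      rcases Nat.eq_zero_or_pos d with h0 | h0
      · exfalso
        rw [h0, pow_zero] at hd
        exact hne (AddSubgroup.card_eq_one.mp hd)
      · rw [hd]; exact dvd_pow_self p h0.ne'
    have hdvd2 : p ∣ σ.supportᶜ.card :=
      Nat.modEq_zero_iff_dvd.mp (hmod.trans (Nat.modEq_zero_iff_dvd.mpr hdvd))
    have h0mem : (0 : ↥K') ∈ σ.supportᶜ := by
      rw [Finset.mem_compl, Equiv.Perm.mem_support, not_not]
      apply Subtype.ext
      funext j
      rw [hσ1]
      simp
    have hcard1 : 1 < σ.supportᶜ.card := by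
      have hpos : 0 < σ.supportᶜ.card := Finset.card_pos.mpr ⟨0, h0mem⟩
      have h1 := Nat.le_of_dvd hpos hdvd2
      exact lt_of_lt_of_le hp.one_lt h1
    obtain ⟨c, hcfix, hc0⟩ := Finset.exists_mem_ne hcard1 (0 : ↥K')
    rw [Finset.mem_compl, Equiv.Perm.mem_support, not_not] at hcfix
    have hstep : ∀ j : ZMod p, c.1 (j - 1) = c.1 j := by
      intro j
      have h1 := congrFun (congrArg Subtype.val hcfix) j
      rwa [hσ1] at h1
    have hconstn : ∀ n : ℕ, c.1 (n : ZMod p) = c.1 0 := by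
      intro n
      induction n with
      | zero => simp
      | succ n ih =>
        have h1 := hstep ((n : ZMod p) + 1)
        rw [add_sub_cancel_right] at h1
        rw [Nat.cast_succ, ← h1, ih]
    have hconst : ∀ j : ZMod p, c.1 j = c.1 0 := by
      intro j
      rw [← ZMod.natCast_zmod_val j]; exact hconstn _
    have hc00 : c.1 0 ≠ 0 := by
      intro h
      apply hc0
      apply Subtype.ext
      funext j
      rw [hconst, h]; rfl
    have hπc : πf c.1 = (∏ i, xz i) ^ (c.1 0).val := by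
      rw [hπf, ← Finset.prod_pow]
      apply Finset.prod_congr rfl
      intro i _
      rw [hconst i]
    have hzc : z ^ (c.1 0).val ∈ C := by
      have h1 : ((πf c.1 : ↥A) : P) ∈ C := (hK' c.1).mp c.2
      rw [hπc, Subgroup.coe_pow, hzprod] at h1
      exact h1
    apply hz
    have h5 : z = (z ^ (c.1 0).val) ^ ((c.1 0)⁻¹).val := by
      rw [← pow_mul, pow_eq_pow_mod _ hzp, ← ZMod.val_mul, mul_inv_cancel₀ hc00, ZMod.val_one,
        pow_one]
    rw [h5]
    exact C.pow_mem hzc _
  have hinj : Function.Injective (fun c : ZMod p → ZMod p =>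
      (QuotientGroup.mk (πf c) : ↥A ⧸ C.subgroupOf A)) := by
    intro c c' hcc
    have h1 : (πf c)⁻¹ * πf c' ∈ C.subgroupOf A := QuotientGroup.eq.mp hcc
    have h2 : πf (c' - c) = (πf c)⁻¹ * πf c' := by
      have h3 : πf (c' - c) * πf c = πf c' := by rw [← hπadd, sub_add_cancel]
      calc πf (c' - c) = πf (c' - c) * πf c * (πf c)⁻¹ := by rw [mul_inv_cancel_right]
        _ = πf c' * (πf c)⁻¹ := by rw [h3]
        _ = (πf c)⁻¹ * πf c' := mul_comm' _ _
    have h3 : c' - c ∈ K' := by
      rw [hK']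
      have h4 : πf (c' - c) ∈ C.subgroupOf A := by rw [h2]; exact h1
      exact h4
    rw [hKbot, AddSubgroup.mem_bot, sub_eq_zero] at h3
    exact h3.symm
  have hfin := Nat.card_le_card_of_injective _ hinj
  rw [Nat.card_fun, Nat.card_zmod] at hfin
  exact hfin

/-- Let P be a finite p-group with a normal elementary abelian subgroup A of index p, and let x ∈ A and y ∈ P with y outside A. If the product of the p conjugates y^(-i) x y^i (i = 0, …, p−1) is not the identity, then the wreath product Z_p ≀ Z_p, realised as a Sylow p-subgroup of the symmetric group of degree p², is a homomorphic image of P. -/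
theorem result {P : Type*} [Group P] [Finite P] {p : ℕ} [Fact p.Prime] (hP : IsPGroup p P) (A : Subgroup P) [A.Normal]
    (hA : Cfsg.IsElementaryAbelian p A) (hidx : A.index = p) (x y : P) (hx : x ∈ A) (hy : y ∉ A)
    (hprod : ((List.range p).map (fun i => (y ^ i)⁻¹ * x * y ^ i)).prod ≠ 1) :
    ∃ (Q : Sylow p (Equiv.Perm (Fin (p ^ 2)))) (f : P →* ↥(Q : Subgroup (Equiv.Perm (Fin (p ^ 2))))), Function.Surjective f := by
  classical
  have hp : p.Prime := Fact.out
  have hAn : A.Normal := inferInstance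
  obtain ⟨z, hzdef⟩ : ∃ z : P, z = ((List.range p).map (fun i => (y ^ i)⁻¹ * x * y ^ i)).prod :=
    ⟨_, rfl⟩
  have hzA : z ∈ A := by
    rw [hzdef]
    apply Subgroup.list_prod_mem
    intro g hg
    rw [List.mem_map] at hg
    obtain ⟨i, -, rfl⟩ := hg
    exact hAn.conj_mem' x hx (y ^ i)
  haveI hAc : IsMulCommutative ↥A := hA.1
  have hexp : ∀ a : ↥A, a ^ p = 1 := fun a => Subtype.ext (by
    rw [Subgroup.coe_pow, Subgroup.coe_one]; exact hA.2 a a.2)
  have hz1 : (⟨z, hzA⟩ : ↥A) ≠ 1 := by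
    intro h
    apply hprod
    rw [← hzdef]
    exact congrArg Subtype.val h
  obtain ⟨H', hzH', hH'idx⟩ := exists_hyperplane (A := ↥A) p hexp ⟨z, hzA⟩ hz1
  obtain ⟨H, hHdef⟩ : ∃ H : Subgroup P, H = H'.map A.subtype := ⟨_, rfl⟩
  have hHidx : H.index = p ^ 2 := by
    rw [hHdef, Subgroup.index_map_subtype, hH'idx, hidx, pow_two]
  have hHA : H ≤ A := by rw [hHdef]; exact Subgroup.map_subtype_le _
  have hzH : z ∉ H := by
    rw [hHdef]
    rintro ⟨w, hw, hwz⟩
    have h1 : w = ⟨z, hzA⟩ := Subtype.ext hwz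
    rw [h1] at hw
    exact hzH' hw
  have hCA : H.normalCore ≤ A := (Subgroup.normalCore_le H).trans hHA
  have hzC : z ∉ H.normalCore := fun h => hzH (Subgroup.normalCore_le H h)
  have hrel : p ^ p ≤ H.normalCore.relIndex A :=
    core_index A hA hidx x y hx H.normalCore hCA (by rw [← hzdef]; exact hzC)
  have hCidx : p ^ (p + 1) ≤ H.normalCore.index := by
    rw [← Subgroup.relIndex_mul_index hCA, hidx, pow_succ]
    exact Nat.mul_le_mul_right p hrel
  have hcard : Nat.card (P ⧸ H) = p ^ 2 := by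
    rw [← Subgroup.index_eq_card]; exact hHidx
  obtain ⟨e⟩ : Nonempty ((P ⧸ H) ≃ Fin (p ^ 2)) := ⟨Finite.equivFinOfCardEq hcard⟩
  obtain ⟨ρ, hρ⟩ : ∃ ρ : P →* Equiv.Perm (Fin (p ^ 2)),
      ρ = (e.permCongrHom.toMonoidHom).comp (MulAction.toPermHom P (P ⧸ H)) := ⟨_, rfl⟩
  have hker : ρ.ker = H.normalCore := by
    ext g
    rw [Subgroup.normalCore_eq_ker, MonoidHom.mem_ker, MonoidHom.mem_ker, hρ]
    show e.permCongrHom (MulAction.toPermHom P (P ⧸ H) g) = 1 ↔ _
    exact MulEquiv.map_eq_one_iff e.permCongrHom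
  have hrange : Nat.card ρ.range = H.normalCore.index := by
    rw [← hker, Subgroup.index_ker]
  have hpg : IsPGroup p ρ.range :=
    IsPGroup.of_surjective hP ρ.rangeRestrict ρ.rangeRestrict_surjective
  obtain ⟨Q, hQ⟩ := hpg.exists_le_sylow
  have hQcard : Nat.card ↥(Q : Subgroup (Equiv.Perm (Fin (p ^ 2)))) = p ^ (p + 1) := by
    rw [Sylow.card_eq_multiplicity, Nat.card_perm, Nat.card_fin, Nat.factorization_def _ hp]
    congr 1
    have h1 : padicValNat p (p * 1).factorial = padicValNat p (1).factorial + 1 :=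
      padicValNat_factorial_mul 1
    have h2 : padicValNat p (p * p).factorial = padicValNat p (p).factorial + p :=
      padicValNat_factorial_mul p
    rw [mul_one, Nat.factorial_one, padicValNat.one] at h1
    rw [pow_two, h2, h1]; ring
  have hQeq : ρ.range = Q :=
    Subgroup.eq_of_le_of_card_ge hQ (by rw [hQcard, hrange]; exact hCidx)
  refine ⟨Q, ρ.codRestrict Q (fun g => hQ ⟨g, rfl⟩), ?_⟩
  rintro ⟨q, hq⟩
  have hq' : q ∈ ρ.range := by rw [hQeq]; exact hq
  obtain ⟨g, rfl⟩ := hq'
  exact ⟨g, Subtype.ext rfl⟩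

end Cfsg.Agent.S1952
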