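import Cfsg.Statements.S1956
import Mathlib

set_option autoImplicit false
open Cfsg

namespace Cfsg.Agent.S1956

/-- Let P be a Sylow p-subgroup of the finite group G such that every element of P of order dividing p (dividing 4 when p = 2) is central in P. Then the fusion of these elements is controlled by N_G(P): if such an element a of P has g a g⁻¹ in P, then g = n c with n normalizing P and c commuting with a. -/
theorem result {G : Type*} [Group G] [Finite G] {p : ℕ} [Fact p.Prime] (P : Sylow p G)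
    (hcen : ∀ a ∈ (P : Subgroup G), (a ^ p = 1 ∨ (p = 2 ∧ a ^ 4 = 1)) → ∀ y ∈ (P : Subgroup G), a * y = y * a) :
    ∀ a ∈ (P : Subgroup G), (a ^ p = 1 ∨ (p = 2 ∧ a ^ 4 = 1)) → ∀ g : G, g * a * g⁻¹ ∈ (P : Subgroup G) →
      ∃ n ∈ Subgroup.normalizer ((P : Subgroup G) : Set G), ∃ c : G, c * a = a * c ∧ g = n * c := by
  intro a haP ha g hg
  classical
  set b := g * a * g⁻¹ with hb
  have hb' : b ^ p = 1 ∨ (p = 2 ∧ b ^ 4 = 1) := by
    rcases ha with h | ⟨h2, h4⟩
    · left
      rw [hb, conj_pow, h]; group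
    · right
      refine ⟨h2, ?_⟩
      rw [hb, conj_pow, h4]; group
  have hbcen := hcen b hg hb'
  have hacen := hcen a haP ha
  let C : Subgroup G := Subgroup.centralizer ({b} : Set G)
  have hPC : (P : Subgroup G) ≤ C := by
    intro z hz
    rw [Subgroup.mem_centralizer_iff]
    intro w hw
    rw [Set.mem_singleton_iff] at hw
    subst hw
    exact hbcen z hz
  have hgPC : ((g • P : Sylow p G) : Subgroup G) ≤ C := by
    intro z hz
    rw [Sylow.coe_subgroup_smul, Subgroup.mem_pointwise_smul_iff_inv_smul_mem] at hz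
    rw [MulAut.smul_def, MulAut.conj_inv_apply] at hz
    rw [Subgroup.mem_centralizer_iff]
    intro w hw
    rw [Set.mem_singleton_iff] at hw
    subst hw
    have h1 := hacen _ hz
    rw [hb]
    calc g * a * g⁻¹ * z = g * (a * (g⁻¹ * z * g)) * g⁻¹ := by group
      _ = g * ((g⁻¹ * z * g) * a) * g⁻¹ := by rw [h1]
      _ = z * (g * a * g⁻¹) := by group
  obtain ⟨c, hc⟩ := MulAction.exists_smul_eq C ((g • P).subtype hgPC) (P.subtype hPC)
  rw [Sylow.smul_subtype] at hc
  have hc' : ((c : G) • (g • P) : Sylow p G) = P := Sylow.subtype_injective hc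
  rw [← mul_smul] at hc'
  have hn : (c : G) * g ∈ Subgroup.normalizer ((P : Subgroup G) : Set G) :=
    Sylow.smul_eq_iff_mem_normalizer.mp hc'
  refine ⟨(c : G) * g, hn, g⁻¹ * (c : G)⁻¹ * g, ?_, by group⟩
  have hcb : (c : G) * b = b * (c : G) := by
    have := c.2
    rw [Subgroup.mem_centralizer_iff] at this
    exact (this b rfl).symm
  have hcb' : (c : G)⁻¹ * b = b * (c : G)⁻¹ := by
    calc (c : G)⁻¹ * b = (c : G)⁻¹ * (b * (c : G)) * (c : G)⁻¹ := by group
      _ = (c : G)⁻¹ * ((c : G) * b) * (c : G)⁻¹ := by rw [hcb]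
      _ = b * (c : G)⁻¹ := by group
  calc g⁻¹ * (c : G)⁻¹ * g * a = g⁻¹ * ((c : G)⁻¹ * (g * a * g⁻¹)) * g := by group
    _ = g⁻¹ * ((g * a * g⁻¹) * (c : G)⁻¹) * g := by rw [← hb, hcb']
    _ = a * (g⁻¹ * (c : G)⁻¹ * g) := by group

end Cfsg.Agent.S1956
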