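import Cfsg.Statements.S1966
import Mathlib

set_option autoImplicit false
open Cfsg

namespace Cfsg.Agent.S1966

/-- Let p be a prime, G a finite group with Sylow p-subgroup S and 𝓕 a conjugation family for S in G. Then the members of 𝓕 containing O_p(G) still form a conjugation family for S in G. -/
theorem result {G : Type*} [Group G] [Finite G] {p : ℕ} [Fact p.Prime] (S : Sylow p G) (𝓕 : Set (Subgroup G)) (h : Cfsg.IsConjugationFamily 𝓕 (S : Subgroup G)) : Cfsg.IsConjugationFamily {T : Subgroup G | T ∈ 𝓕 ∧ Cfsg.pCore p G ≤ T} (S : Subgroup G) := by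
  obtain ⟨h1, h2⟩ := h
  have hR : Cfsg.pCore p G ≤ (S : Subgroup G) :=
    sSup_le (fun N hN => by haveI := hN.1; exact hN.2.le_sylow_of_normal S)
  have hRn : (Cfsg.pCore p G).Normal := Subgroup.sSup_normal _ (fun N hN => hN.1)
  refine ⟨fun T hT => h1 T hT.1, ?_⟩
  intro A g hAne hAS hAg
  have hsub : (fun a => g⁻¹ * a * g) '' (A ∪ (Cfsg.pCore p G : Set G)) ⊆ (S : Set G) := by
    rintro _ ⟨a, ha | ha, rfl⟩
    · exact hAg ⟨a, ha, rfl⟩
    · apply hR
      have := hRn.conj_mem a ha g⁻¹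
      simpa using this
  obtain ⟨n, T, x, hprod, hT, hx, h0, hstep⟩ := h2 (A ∪ (Cfsg.pCore p G : Set G)) g
    (hAne.mono Set.subset_union_left) (Set.union_subset hAS hR) hsub
  refine ⟨n, T, x, hprod, ?_, hx, fun h => Set.subset_union_left.trans (h0 h),
    fun i h => (Set.image_mono Set.subset_union_left).trans (hstep i h)⟩
  intro i
  refine ⟨hT i, ?_⟩
  obtain ⟨j, hj⟩ := i
  cases j with
  | zero =>
    intro r hr
    exact h0 hj (Set.mem_union_right _ hr)
  | succ j =>
    intro r hr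
    have hj' : j < n := by omega
    have := hstep ⟨j, hj'⟩ hj
    set y := ((List.ofFn x).take (j + 1)).prod with hy
    have hr' : y * r * y⁻¹ ∈ Cfsg.pCore p G := hRn.conj_mem r hr y
    have h3 := this ⟨y * r * y⁻¹, Set.mem_union_right _ hr', rfl⟩
    have h4 : y⁻¹ * (y * r * y⁻¹) * y = r := by group
    have h5 : y⁻¹ * (y * r * y⁻¹) * y ∈ T ⟨j + 1, hj⟩ := h3
    rw [h4] at h5
    exact h5

end Cfsg.Agent.S1966
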