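import Cfsg.Statements.S1967
import Mathlib

set_option autoImplicit false
open Cfsg

namespace Cfsg.Agent.S1967

theorem mem_map_conj {G : Type*} [Group G] (H : Subgroup G) (k x : G) :
    x ∈ H.map (MulAut.conj k).toMonoidHom ↔ k⁻¹ * x * k ∈ H := by
  constructor
  · rintro ⟨t, ht, rfl⟩
    have : k⁻¹ * ((MulAut.conj k).toMonoidHom t) * k = t := by
      show k⁻¹ * (k * t * k⁻¹) * k = t
      group
    rw [this]; exact ht
  · intro h
    refine ⟨k⁻¹ * x * k, h, ?_⟩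
    show k * (k⁻¹ * x * k) * k⁻¹ = x
    group

/-- Let p be a prime, G a finite group with Sylow p-subgroup S and W a conjugacy functor for p on G. Then W controls strong fusion in G if and only if, whenever T ≤ S and g ∈ G satisfy gTg⁻¹ ≤ S, one can write g = n c with n ∈ N_G(W(S)) and c ∈ C_G(T). -/
theorem result {G : Type*} [Group G] [Finite G] {p : ℕ} [Fact p.Prime] (S : Sylow p G) (W : Subgroup G → Subgroup G) (hW : Cfsg.IsConjugacyFunctor p W) : Cfsg.ControlsStrongFusionIn p W ⊤ ↔ ∀ (T : Subgroup G) (g : G), T ≤ (S : Subgroup G) → T.map (MulAut.conj g).toMonoidHom ≤ (S : Subgroup G) → ∃ n ∈ Subgroup.normalizer ((W (S : Subgroup G) : Subgroup G) : Set G), ∃ c ∈ Subgroup.centralizer (T : Set G), g = n * c := by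
  constructor
  · rintro ⟨T0, -, hT0, hidx, hfus⟩ T g hTS hTg
    rw [Subgroup.relIndex_top_right] at hidx
    obtain ⟨k, hk⟩ := MulAction.exists_smul_eq G (hT0.toSylow hidx) S
    -- membership in S
    have hS : ∀ x : G, x ∈ (S : Subgroup G) ↔ k⁻¹ * x * k ∈ T0 := by
      intro x
      rw [← hk, Sylow.coe_subgroup_smul, Subgroup.mem_pointwise_smul_iff_inv_smul_mem,
        MulAut.smul_def, MulAut.conj_inv_apply]
      rfl
    have hSmap : T0.map (MulAut.conj k).toMonoidHom = (S : Subgroup G) := by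
      ext x
      rw [mem_map_conj, hS]
    have hWS : W (S : Subgroup G) = (W T0).map (MulAut.conj k).toMonoidHom := by
      rw [← hSmap]; exact (hW T0 hT0).2.2 k
    -- apply control of fusion
    let A : Set G := (fun t => k⁻¹ * t * k) '' (T : Set G)
    have hA : A ⊆ T0 := by
      rintro _ ⟨t, ht, rfl⟩
      exact (hS t).mp (hTS ht)
    have hA' : (fun a => (k⁻¹ * g * k) * a * (k⁻¹ * g * k)⁻¹) '' A ⊆ T0 := by
      rintro _ ⟨_, ⟨t, ht, rfl⟩, rfl⟩
      have h1 : g * t * g⁻¹ ∈ (S : Subgroup G) := by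
        apply hTg
        rw [mem_map_conj]
        have : g⁻¹ * (g * t * g⁻¹) * g = t := by group
        rw [this]; exact ht
      have h2 := (hS _).mp h1
      have h3 : (k⁻¹ * g * k) * (k⁻¹ * t * k) * (k⁻¹ * g * k)⁻¹ = k⁻¹ * (g * t * g⁻¹) * k := by group
      show (k⁻¹ * g * k) * (k⁻¹ * t * k) * (k⁻¹ * g * k)⁻¹ ∈ T0
      rw [h3]; exact h2
    obtain ⟨x, hx, hxa⟩ := hfus A (k⁻¹ * g * k) (Subgroup.mem_top _) hA hA'
    have hxN : x ∈ Subgroup.normalizer ((W T0 : Subgroup G) : Set G) := (Subgroup.mem_inf.mp hx).2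
    refine ⟨k * x * k⁻¹, ?_, (k * x * k⁻¹)⁻¹ * g, ?_, by group⟩
    · rw [hWS, Subgroup.mem_normalizer_iff]
      intro h
      rw [mem_map_conj, mem_map_conj]
      rw [Subgroup.mem_normalizer_iff] at hxN
      rw [hxN (k⁻¹ * h * k)]
      have : k⁻¹ * (k * x * k⁻¹ * h * (k * x * k⁻¹)⁻¹) * k = x * (k⁻¹ * h * k) * x⁻¹ := by group
      rw [this]
    · rw [Subgroup.mem_centralizer_iff]
      intro t ht
      have h1 := hxa (k⁻¹ * t * k) ⟨t, ht, rfl⟩
      have h2 : (k * x * k⁻¹) * t * (k * x * k⁻¹)⁻¹ = g * t * g⁻¹ := by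
        calc (k * x * k⁻¹) * t * (k * x * k⁻¹)⁻¹ = k * (x * (k⁻¹ * t * k) * x⁻¹) * k⁻¹ := by group
          _ = k * ((k⁻¹ * g * k) * (k⁻¹ * t * k) * (k⁻¹ * g * k)⁻¹) * k⁻¹ := by rw [h1]
          _ = g * t * g⁻¹ := by group
      calc t * ((k * x * k⁻¹)⁻¹ * g) = (k * x * k⁻¹)⁻¹ * ((k * x * k⁻¹) * t * (k * x * k⁻¹)⁻¹) * (k * x * k⁻¹) * ((k * x * k⁻¹)⁻¹ * g) := by group
        _ = (k * x * k⁻¹)⁻¹ * (g * t * g⁻¹) * (k * x * k⁻¹) * ((k * x * k⁻¹)⁻¹ * g) := by rw [h2]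
        _ = (k * x * k⁻¹)⁻¹ * g * t := by group
  · intro hctl
    refine ⟨(S : Subgroup G), le_top, S.isPGroup', ?_, ?_⟩
    · rw [Subgroup.relIndex_top_right]
      exact S.not_dvd_index
    · intro A h _ hA hAh
      obtain ⟨n, hn, c, hc, hg⟩ := hctl (Subgroup.closure A) h
        ((Subgroup.closure_le _).mpr hA) (by
          rw [MonoidHom.map_closure, Subgroup.closure_le]
          rintro _ ⟨a, ha, rfl⟩
          exact hAh ⟨a, ha, rfl⟩)
      refine ⟨n, Subgroup.mem_inf.mpr ⟨Subgroup.mem_top _, hn⟩, ?_⟩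
      intro a ha
      rw [Subgroup.mem_centralizer_iff] at hc
      have h1 := hc a (Subgroup.subset_closure ha)
      rw [hg]
      calc n * a * n⁻¹ = n * (a * c) * c⁻¹ * n⁻¹ := by group
        _ = n * (c * a) * c⁻¹ * n⁻¹ := by rw [h1]
        _ = n * c * a * (n * c)⁻¹ := by group

end Cfsg.Agent.S1967
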