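import Cfsg.Statements.S1970
import Mathlib
import Cfsg.Agent.Lib.Lead.GTTransfer3

set_option autoImplicit false
set_option linter.style.haveILetI false
open Cfsg

namespace Cfsg.Agent.S1970

universe u
open Cfsg.Agent.Lib.Helper4.GTFus Cfsg.Agent.Lib.Helper4.GTSec Cfsg.Agent.Lib.Helper4.GT2
  Cfsg.Agent.Lib.Lead.GTTransfer
open scoped commutatorElement

section

variable {p : ℕ} [Fact p.Prime] {W : ∀ (Q : Type u) [Group Q], Subgroup Q}

theorem h𝓦_single (hW : Cfsg.IsCharPFunctor.{u} p W) :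
    ∀ W' ∈ ({W} : Set (∀ (Q : Type u) [Group Q], Subgroup Q)), Cfsg.IsCharPFunctor.{u} p W' := by
  rintro _ rfl; exact hW

/-- the constrained case, from the focal condition -/
theorem ft_of_constrained_focal (hW : Cfsg.IsCharPFunctor.{u} p W) (G : Type u) [Group G]
    (X : Type u) [Group X] [Finite X] (hX : IsSec G X)
    (ih : ∀ (Y : Type u) [Group Y] [Finite Y], Nat.card Y < Nat.card X → IsSec G Y →
      FamilyControlsTransferIn p (Ind ({W} : Set (∀ (Q : Type u) [Group Q], Subgroup Q)) Y) ⊤)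
    (hc : Subgroup.centralizer ((Cfsg.pCore p X : Subgroup X) : Set X) ≤ Cfsg.pCore p X)
    (hfocal : ∀ T : Sylow p X, Cfsg.pCore p X ⊓ commutator X = Cfsg.pCore p X ⊓
      ⁅Subgroup.normalizer ((Cfsg.inducedFunctor (G := X) W (T : Subgroup X) : Subgroup X) : Set X),
        Subgroup.normalizer ((Cfsg.inducedFunctor (G := X) W (T : Subgroup X) : Subgroup X) : Set X)⁆) :
    FamilyControlsTransferIn p (Ind ({W} : Set (∀ (Q : Type u) [Group Q], Subgroup Q)) X) ⊤ := by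
  have h𝓦 := h𝓦_single hW
  obtain ⟨S⟩ : Nonempty (Sylow p X) := inferInstance
  haveI hPn : (Cfsg.pCore p X).Normal := Cfsg.Agent.H1.pCore_normal p
  set P := Cfsg.pCore p X with hP
  have hPp : IsPGroup p ↥P := Cfsg.Agent.H1.pCore_isPGroup p
  have hPS : P ≤ (S : Subgroup X) := hPp.le_sylow_of_normal S
  have hPcore : ∀ Q : Subgroup X, Q.Normal → IsPGroup p ↥Q → Q ≤ P :=
    fun Q hQn hQp => Cfsg.Agent.H1.le_pCore hQn hQp
  apply ft_of_ctl S
  have key : P ⊓ ⁅(⊤ : Subgroup X), ⊤⁆ ≤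
      Foc ({W} : Set (∀ (Q : Type u) [Group Q], Subgroup Q)) X (S : Subgroup X) ⊤ := by
    intro x hx
    have hx' : x ∈ P ⊓ commutator X := hx
    rw [hfocal S] at hx'
    have h1 := le_foc (𝓦 := ({W} : Set (∀ (Q : Type u) [Group Q], Subgroup Q))) X (S : Subgroup X) ⊤
      (W := W) rfl
    apply h1
    rw [top_inf_eq]
    exact ⟨hPS hx'.1, hx'.2⟩
  by_cases hne : P = (S : Subgroup X)
  · exact (inf_le_inf_right _ (le_of_eq hne.symm)).trans key
  · have hPbot : P ≠ ⊥ := by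
      intro hb
      apply hne
      rw [hb] at hc ⊢
      have h1 : (⊤ : Subgroup X) ≤ ⊥ := by
        refine le_trans ?_ hc
        intro x _
        rw [Subgroup.mem_centralizer_iff]
        intro y hy
        have : y = 1 := hy
        rw [this]; simp
      symm
      rw [eq_bot_iff]
      exact le_top.trans h1
    have hq : FamilyControlsTransferIn p
        (Ind ({W} : Set (∀ (Q : Type u) [Group Q], Subgroup Q)) (X ⧸ P)) ⊤ := by
      have h1 : Nat.card (X ⧸ P) < Nat.card X := by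
        rw [Subgroup.card_eq_card_quotient_mul_card_subgroup P]
        have h2 : 1 < Nat.card ↥P := (Subgroup.one_lt_card_iff_ne_bot P).mpr hPbot
        have h3 : 0 < Nat.card (X ⧸ P) := Nat.card_pos
        nlinarith
      exact ih (X ⧸ P) h1 (isSec_quot G X P hX)
    have hsub : ∀ L : Subgroup X, L ≠ ⊤ → (S : Subgroup X) ≤ L →
        (S : Subgroup X) ⊓ ⁅L, L⁆ ≤
          Foc ({W} : Set (∀ (Q : Type u) [Group Q], Subgroup Q)) X (S : Subgroup X) ⊤ := by
      intro L hL hSL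
      have h1 : Nat.card ↥L < Nat.card X := by
        refine lt_of_le_of_ne (Nat.le_of_dvd Nat.card_pos (Subgroup.card_subgroup_dvd_card L)) ?_
        intro h
        exact hL ((Subgroup.card_eq_iff_eq_top L).mp h)
      exact le_foc_of_subgroup h𝓦 S L hSL (ih ↥L h1 (isSec_sub G X L hX))
    exact (quot_step h𝓦 S P hPp hPS hne hPcore hq hsub).trans (sup_le le_rfl key)

theorem all_sections (hW : Cfsg.IsCharPFunctor.{u} p W) (G : Type u) [Group G] [Finite G]
    (hloc : ∀ (K R : Subgroup G) [hR : (R.subgroupOf K).Normal], Subgroup.centralizer ((Cfsg.pCore p (↥K ⧸ R.subgroupOf K) : Subgroup (↥K ⧸ R.subgroupOf K)) : Set (↥K ⧸ R.subgroupOf K)) ≤ Cfsg.pCore p (↥K ⧸ R.subgroupOf K) → ∀ T : Sylow p (↥K ⧸ R.subgroupOf K), Cfsg.pCore p (↥K ⧸ R.subgroupOf K) ⊓ commutator (↥K ⧸ R.subgroupOf K) = Cfsg.pCore p (↥K ⧸ R.subgroupOf K) ⊓ ⁅Subgroup.normalizer ((Cfsg.inducedFunctor (G := (↥K ⧸ R.subgroupOf K)) W ((T : Subgroup (↥K ⧸ R.subgroupOf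 K))) : Subgroup (↥K ⧸ R.subgroupOf K)) : Set (↥K ⧸ R.subgroupOf K)), Subgroup.normalizer ((Cfsg.inducedFunctor (G := (↥K ⧸ R.subgroupOf K)) W ((T : Subgroup (↥K ⧸ R.subgroupOf K))) : Subgroup (↥K ⧸ R.subgroupOf K)) : Set (↥K ⧸ R.subgroupOf K))⁆) :
    ∀ (n : ℕ) (X : Type u) [Group X] [Finite X], Nat.card X = n → IsSec G X →
      FamilyControlsTransferIn p (Ind ({W} : Set (∀ (Q : Type u) [Group Q], Subgroup Q)) X) ⊤ := by
  have h𝓦 := h𝓦_single hW
  intro n
  induction n using Nat.strong_induction_on with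
  | _ n ih =>
  intro X _ _ hn hX
  have ih' : ∀ (Y : Type u) [Group Y] [Finite Y], Nat.card Y < Nat.card X → IsSec G Y →
      FamilyControlsTransferIn p (Ind ({W} : Set (∀ (Q : Type u) [Group Q], Subgroup Q)) Y) ⊤ :=
    fun Y _ _ hY hYs => ih _ (hn ▸ hY) Y rfl hYs
  refine main_step h𝓦 G X hX ih' (fun hc => ?_)
  obtain ⟨K, R, hR, ⟨e⟩⟩ := isSec_equiv G X hX
  haveI := hR
  have hc₀ := constrained_equiv e hc
  have hX₀ : IsSec G (↥K ⧸ R.subgroupOf K) := isSec_quot G ↥K _ (isSec_sub G G K (isSec_self G))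
  have hcard : Nat.card (↥K ⧸ R.subgroupOf K) = Nat.card X := (Nat.card_congr e.toEquiv).symm
  have h1 := ft_of_constrained_focal hW G (↥K ⧸ R.subgroupOf K) hX₀
    (fun Y _ _ hY hYs => ih' Y (hcard ▸ hY) hYs) hc₀ (hloc K R hc₀)
  exact ft_equiv h𝓦 e.symm h1

end

/-- Let p be a prime, G a finite group and W an isomorphism-invariant p-group functor (W assigns to every group Q a subgroup W(Q), nontrivial whenever Q is a nontrivial finite p-group, and every isomorphism from a finite p-group Q onto a group R carries W(Q) onto W(R)). Suppose that for every section G* = K/R of G with C_{G*}(O_p(G*)) ≤ O_p(G*) and every Sylow p-subgroup S* of G*, one has O_p(G*) ∩ (G*)' = O_p(G*) ∩ (N_{G*}(W(S*)))'. Then W controls transfer in every section G* of G: S* ∩ (G*)' = S* ∩ (N_{G*}(W(S*)))' for a Sylow p-subgroup S* of G*. -/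
theorem result {G : Type u} [Group G] [Finite G] {p : ℕ} [Fact p.Prime] (W : ∀ (Q : Type u) [Group Q], Subgroup Q) (hW : Cfsg.IsCharPFunctor.{u} p W) (hloc : ∀ (K R : Subgroup G) [hR : (R.subgroupOf K).Normal], Subgroup.centralizer ((Cfsg.pCore p (↥K ⧸ R.subgroupOf K) : Subgroup (↥K ⧸ R.subgroupOf K)) : Set (↥K ⧸ R.subgroupOf K)) ≤ Cfsg.pCore p (↥K ⧸ R.subgroupOf K) → ∀ T : Sylow p (↥K ⧸ R.subgroupOf K), Cfsg.pCore p (↥K ⧸ R.subgroupOf K) ⊓ commutator (↥K ⧸ R.subgroupOf K) = Cfsg.pCore p (↥K ⧸ R.subgroupOf K) ⊓ ⁅Subgroup.normalizer ((Cfsg.inducedFunctor (G := (↥K ⧸ R.subgroupOf K)) W ((T : Subgroup (↥K ⧸ R.subgroupOf K))) : Subgroup (↥K ⧸ R.subgroupOf K)) : Set (↥K ⧸ R.subgroupOf K)), Subgroup.normalizer ((Cfsg.inducedFunctor (G := (↥K ⧸ R.subgroupOf K)) W ((T : Subgroup (↥K ⧸ R.subgroupOf K))) : Subgroup (↥K ⧸ R.subgroupOf K)) : Set (↥K ⧸ R.subgroupOf K))⁆) : ∀ (K R : Subgroup G) [hR : (R.subgroupOf K).Normal], Cfsg.ControlsTransferIn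 p (Cfsg.inducedFunctor (G := (↥K ⧸ R.subgroupOf K)) W) ⊤ := by
  intro K R hR
  have hX₀ : IsSec G (↥K ⧸ R.subgroupOf K) := isSec_quot G ↥K _ (isSec_sub G G K (isSec_self G))
  obtain ⟨T, hT1, hTp, hTidx, heq⟩ := all_sections hW G hloc _ (↥K ⧸ R.subgroupOf K) rfl hX₀
  refine ⟨T, hT1, hTp, hTidx, ?_⟩
  rw [foc_eq] at heq
  rw [heq]
  unfold Foc
  rw [iSup_singleton]

end Cfsg.Agent.S1970
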