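import Cfsg.Statements.S1975
import Mathlib

set_option autoImplicit false
open Cfsg

namespace Cfsg.Agent.S1975

theorem lower_anti {P : Type*} [Group P] {Q Q' : Subgroup P} (h : Q ≤ Q') :
    Cfsg.kLowerStarFamily Q' ⊆ Cfsg.kLowerStarFamily Q := by
  intro B hB
  obtain ⟨h1, h2, h3⟩ := hB
  exact ⟨h1, le_trans h h2, fun A hA hAQ => h3 A hA (le_trans hAQ h)⟩

theorem upper_anti {P : Type*} [Group P] {Q Q' : Subgroup P} (h : Q ≤ Q') :
    Cfsg.kUpperStarFamily Q' ⊆ Cfsg.kUpperStarFamily Q := by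
  intro B hB
  obtain ⟨h1, h2⟩ := hB
  exact ⟨h1, le_trans (Subgroup.commutator_mono le_rfl h) h2⟩

theorem mono_all {P : Type*} [Group P] (n : ℕ) :
    Cfsg.kSeqOdd P (n + 1) ≤ Cfsg.kSeqOdd P n ∧ Cfsg.kSeqEven P n ≤ Cfsg.kSeqEven P (n + 1) := by
  induction n with
  | zero =>
    have h0 : Cfsg.kSeqOdd P (0 + 1) ≤ Cfsg.kSeqOdd P 0 := by
      show _ ≤ (⊤ : Subgroup P)
      exact le_top
    exact ⟨h0, sSup_le_sSup (lower_anti h0)⟩
  | succ n ih =>
    have h1 : Cfsg.kSeqOdd P (n + 1 + 1) ≤ Cfsg.kSeqOdd P (n + 1) := by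
      show sSup (Cfsg.kUpperStarFamily (Cfsg.kSeqEven P (n + 1))) ≤
        sSup (Cfsg.kUpperStarFamily (Cfsg.kSeqEven P n))
      exact sSup_le_sSup (upper_anti ih.2)
    exact ⟨h1, sSup_le_sSup (lower_anti h1)⟩

/-- Let P be a finite p-group. In the K-sequence of P the odd-indexed terms decrease and the even-indexed terms increase: with the numbering used here, kSeqOdd P (n+1) ≤ kSeqOdd P n and kSeqEven P n ≤ kSeqEven P (n+1) for every n. -/
theorem result {P : Type*} [Group P] [Finite P] {p : ℕ} [Fact p.Prime] (hP : IsPGroup p P) (n : ℕ) : Cfsg.kSeqOdd P (n + 1) ≤ Cfsg.kSeqOdd P n ∧ Cfsg.kSeqEven P n ≤ Cfsg.kSeqEven P (n + 1) := by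
  exact mono_all n

end Cfsg.Agent.S1975
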