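import Cfsg.Statements.S1976
import Mathlib

set_option autoImplicit false
open Cfsg

namespace Cfsg.Agent.S1976

theorem lower_anti {P : Type*} [Group P] {Q Q' : Subgroup P} (h : Q ≤ Q') :
    Cfsg.kLowerStarFamily Q' ⊆ Cfsg.kLowerStarFamily Q := by
  intro B hB
  obtain ⟨h1, h2, h3⟩ := hB
  exact ⟨h1, le_trans h h2, fun A hA hAQ => h3 A hA (le_trans hAQ h)⟩

theorem upper_anti {P : Type*} [Group P] {Q Q' : Subgroup P} (h : Q ≤ Q') :
    Cfsg.kUpperStarFamily Q' ⊆ Cfsg.kUpperStarFamily Q := by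
  intro B hB
  obtain ⟨h1, h2⟩ := hB
  exact ⟨h1, le_trans (Subgroup.commutator_mono le_rfl h) h2⟩

theorem mono_all {P : Type*} [Group P] (n : ℕ) :
    Cfsg.kSeqOdd P (n + 1) ≤ Cfsg.kSeqOdd P n ∧ Cfsg.kSeqEven P n ≤ Cfsg.kSeqEven P (n + 1) := by
  induction n with
  | zero =>
    have h0 : Cfsg.kSeqOdd P (0 + 1) ≤ Cfsg.kSeqOdd P 0 := by
      show _ ≤ (⊤ : Subgroup P)
      exact le_top
    exact ⟨h0, sSup_le_sSup (lower_anti h0)⟩
  | succ n ih =>
    have h1 : Cfsg.kSeqOdd P (n + 1 + 1) ≤ Cfsg.kSeqOdd P (n + 1) := by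
      show sSup (Cfsg.kUpperStarFamily (Cfsg.kSeqEven P (n + 1))) ≤
        sSup (Cfsg.kUpperStarFamily (Cfsg.kSeqEven P n))
      exact sSup_le_sSup (upper_anti ih.2)
    exact ⟨h1, sSup_le_sSup (lower_anti h1)⟩

theorem even_mono {P : Type*} [Group P] : Monotone (Cfsg.kSeqEven P) :=
  monotone_nat_of_le_succ fun n => (mono_all n).2

theorem odd_anti {P : Type*} [Group P] : Antitone (Cfsg.kSeqOdd P) :=
  antitone_nat_of_succ_le fun n => (mono_all n).1

/-- Let P be a finite p-group. The K-sequence of P is eventually constant on each parity: from some index on, every even-indexed term equals the lower K-infinity subgroup and every odd-indexed term equals the upper K-infinity subgroup. -/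
theorem result {P : Type*} [Group P] [Finite P] {p : ℕ} [Fact p.Prime] (hP : IsPGroup p P) : ∃ n : ℕ, ∀ m : ℕ, n ≤ m → Cfsg.kSeqEven P m = Cfsg.kInfLower P ∧ Cfsg.kSeqOdd P m = Cfsg.kInfUpper P := by
  haveI : Finite (Subgroup P) := inferInstance
  obtain ⟨n1, h1⟩ := WellFoundedGT.monotone_chain_condition
    (⟨Cfsg.kSeqEven P, even_mono⟩ : ℕ →o Subgroup P)
  obtain ⟨n2, h2⟩ := WellFoundedLT.antitone_chain_condition (odd_anti (P := P))
  have hL : Cfsg.kInfLower P = Cfsg.kSeqEven P n1 := by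
    apply le_antisymm
    · apply iSup_le
      intro m
      rcases le_total n1 m with h | h
      · exact (h1 m h).ge
      · exact even_mono h
    · exact le_iSup (Cfsg.kSeqEven P) n1
  have hU : Cfsg.kInfUpper P = Cfsg.kSeqOdd P n2 := by
    apply le_antisymm
    · exact iInf_le (Cfsg.kSeqOdd P) n2
    · apply le_iInf
      intro m
      rcases le_total n2 m with h | h
      · exact (h2 m h).le
      · exact odd_anti h
  refine ⟨max n1 n2, fun m hm => ⟨?_, ?_⟩⟩
  · rw [hL]; exact (h1 m (le_trans (le_max_left _ _) hm)).symm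
  · rw [hU]; exact (h2 m (le_trans (le_max_right _ _) hm)).symm

end Cfsg.Agent.S1976
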