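import Cfsg.Statements.S1979
import Mathlib

set_option autoImplicit false
open Cfsg

namespace Cfsg.Agent.S1979

section S1979aux

variable {P : Type*} [Group P] (Q : Subgroup P)

theorem cent_iff (H K : Subgroup ↥Q) :
    H ≤ Subgroup.centralizer (K : Set ↥Q) ↔
      H.map Q.subtype ≤ Subgroup.centralizer ((K.map Q.subtype : Subgroup P) : Set P) := by
  rw [← Subgroup.commutator_eq_bot_iff_le_centralizer,
    ← Subgroup.commutator_eq_bot_iff_le_centralizer, ← Subgroup.map_commutator,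
    Subgroup.map_eq_bot_iff_of_injective _ Q.subtype_injective]

theorem zmap (B : Subgroup ↥Q) :
    (B ⊓ Subgroup.centralizer (B : Set ↥Q)).map Q.subtype =
      B.map Q.subtype ⊓ Subgroup.centralizer ((B.map Q.subtype : Subgroup P) : Set P) := by
  ext x
  rw [Subgroup.mem_inf, Subgroup.mem_map]
  constructor
  · rintro ⟨y, hy, rfl⟩
    rw [Subgroup.mem_inf] at hy
    refine ⟨Subgroup.mem_map_of_mem _ hy.1, ?_⟩
    rw [Subgroup.mem_centralizer_iff]
    rintro _ ⟨b, hb, rfl⟩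
    have := Subgroup.mem_centralizer_iff.mp hy.2 b hb
    exact congrArg Subtype.val this
  · rintro ⟨hxB, hC⟩
    obtain ⟨y, hyB, rfl⟩ := Subgroup.mem_map.mp hxB
    refine ⟨y, Subgroup.mem_inf.mpr ⟨hyB, ?_⟩, rfl⟩
    rw [Subgroup.mem_centralizer_iff]
    intro b hb
    apply Subtype.ext
    exact Subgroup.mem_centralizer_iff.mp hC (b : P) (Subgroup.mem_map_of_mem Q.subtype hb)

theorem classTwo_iff (B : Subgroup ↥Q) :
    B ∈ Cfsg.classTwoSubgroups ↥Q ↔ B.map Q.subtype ∈ Cfsg.classTwoSubgroups P := by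
  show ⁅B, B⁆ ≤ Subgroup.centralizer (B : Set ↥Q) ↔
    ⁅B.map Q.subtype, B.map Q.subtype⁆ ≤
      Subgroup.centralizer ((B.map Q.subtype : Subgroup P) : Set P)
  rw [cent_iff, Subgroup.map_commutator]

theorem le_Z_iff (H B : Subgroup ↥Q) :
    H ≤ B ⊓ Subgroup.centralizer (B : Set ↥Q) ↔
      H.map Q.subtype ≤
        B.map Q.subtype ⊓ Subgroup.centralizer ((B.map Q.subtype : Subgroup P) : Set P) := by
  rw [← zmap, Subgroup.map_le_map_iff_of_injective Q.subtype_injective]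

theorem norm_iff (H K : Subgroup ↥Q) :
    H ≤ Subgroup.normalizer (K : Set ↥Q) ↔
      H.map Q.subtype ≤ Subgroup.normalizer ((K.map Q.subtype : Subgroup P) : Set P) := by
  rw [Subgroup.le_normalizer_iff_commutator_le_right,
    Subgroup.le_normalizer_iff_commutator_le_right, ← Subgroup.map_commutator,
    Subgroup.map_le_map_iff_of_injective Q.subtype_injective]

theorem bot1_iff (B A : Subgroup ↥Q) :
    ⁅B, ⁅A, A⁆⁆ = ⊥ ↔ ⁅B.map Q.subtype, ⁅A.map Q.subtype, A.map Q.subtype⁆⁆ = ⊥ := by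
  rw [← Subgroup.map_commutator, ← Subgroup.map_commutator,
    Subgroup.map_eq_bot_iff_of_injective _ Q.subtype_injective]

theorem bot2_iff (B A : Subgroup ↥Q) :
    ⁅⁅B ⊓ Subgroup.centralizer (B : Set ↥Q), A⁆, A⁆ = ⊥ ↔
      ⁅⁅B.map Q.subtype ⊓ Subgroup.centralizer ((B.map Q.subtype : Subgroup P) : Set P),
        A.map Q.subtype⁆, A.map Q.subtype⁆ = ⊥ := by
  rw [← zmap, ← Subgroup.map_commutator, ← Subgroup.map_commutator,
    Subgroup.map_eq_bot_iff_of_injective _ Q.subtype_injective]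

theorem upper_iff (B R : Subgroup ↥Q) :
    B ∈ Cfsg.kUpperStarFamily R ↔ B.map Q.subtype ∈ Cfsg.kUpperStarFamily (R.map Q.subtype) := by
  show (B ∈ Cfsg.classTwoSubgroups ↥Q ∧ ⁅B, R⁆ ≤ B ⊓ Subgroup.centralizer (B : Set ↥Q)) ↔
    (B.map Q.subtype ∈ Cfsg.classTwoSubgroups P ∧
      ⁅B.map Q.subtype, R.map Q.subtype⁆ ≤
        B.map Q.subtype ⊓ Subgroup.centralizer ((B.map Q.subtype : Subgroup P) : Set P))
  rw [classTwo_iff, le_Z_iff, Subgroup.map_commutator]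

theorem lower_iff (B R : Subgroup ↥Q) :
    B ∈ Cfsg.kLowerStarFamily R ↔ B.map Q.subtype ∈ Cfsg.kLowerStarFamily (R.map Q.subtype) := by
  constructor
  · rintro ⟨h1, h2, h3⟩
    refine ⟨(classTwo_iff Q B).mp h1, (norm_iff Q R B).mp h2, ?_⟩
    intro A' hA'c hA'R hBA' hc1 hc2
    have hA'Q : A' ≤ Q := hA'R.trans (Subgroup.map_subtype_le R)
    obtain ⟨A, hA⟩ : ∃ A : Subgroup ↥Q, A.map Q.subtype = A' :=
      ⟨A'.subgroupOf Q, Subgroup.map_subgroupOf_eq_of_le hA'Q⟩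
    subst hA
    have := h3 A ((classTwo_iff Q A).mpr hA'c)
      ((Subgroup.map_le_map_iff_of_injective Q.subtype_injective).mp hA'R)
      ((norm_iff Q B A).mpr hBA') ((bot1_iff Q B A).mpr hc1) ((bot2_iff Q B A).mpr hc2)
    rw [le_Z_iff, Subgroup.map_commutator] at this
    exact this
  · rintro ⟨h1, h2, h3⟩
    refine ⟨(classTwo_iff Q B).mpr h1, (norm_iff Q R B).mpr h2, ?_⟩
    intro A hAc hAR hBA hc1 hc2
    have := h3 (A.map Q.subtype) ((classTwo_iff Q A).mp hAc) (Subgroup.map_mono hAR)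
      ((norm_iff Q B A).mp hBA) ((bot1_iff Q B A).mp hc1) ((bot2_iff Q B A).mp hc2)
    rw [le_Z_iff, Subgroup.map_commutator]
    exact this

theorem lower_anti {G : Type*} [Group G] {R₁ R₂ : Subgroup G} (h : R₁ ≤ R₂) {B : Subgroup G}
    (hB : B ∈ Cfsg.kLowerStarFamily R₂) : B ∈ Cfsg.kLowerStarFamily R₁ :=
  ⟨hB.1, h.trans hB.2.1, fun A hA hAR => hB.2.2 A hA (hAR.trans h)⟩

theorem upper_anti {G : Type*} [Group G] {R₁ R₂ : Subgroup G} (h : R₁ ≤ R₂) {B : Subgroup G}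
    (hB : B ∈ Cfsg.kUpperStarFamily R₂) : B ∈ Cfsg.kUpperStarFamily R₁ :=
  ⟨hB.1, (Subgroup.commutator_mono le_rfl h).trans hB.2⟩

theorem seqOdd_succ (G : Type*) [Group G] (n : ℕ) :
    Cfsg.kSeqOdd G (n + 1) = sSup (Cfsg.kUpperStarFamily (Cfsg.kSeqEven G n)) := rfl

theorem seqEven_def (G : Type*) [Group G] (n : ℕ) :
    Cfsg.kSeqEven G n = sSup (Cfsg.kLowerStarFamily (Cfsg.kSeqOdd G n)) := rfl

/-- from odd terms to even terms -/
theorem step_even (hQe : ∀ n, Cfsg.kSeqEven P n ≤ Q) (n : ℕ)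
    (hA : (Cfsg.kSeqOdd ↥Q n).map Q.subtype ≤ Cfsg.kSeqOdd P n)
    (hB : Cfsg.kSeqOdd P (n + 1) ≤ (Cfsg.kSeqOdd ↥Q n).map Q.subtype) :
    Cfsg.kSeqEven P n ≤ (Cfsg.kSeqEven ↥Q n).map Q.subtype ∧
      (Cfsg.kSeqEven ↥Q n).map Q.subtype ≤ Cfsg.kSeqEven P (n + 1) := by
  constructor
  · rw [seqEven_def P n]
    apply sSup_le
    intro B hB'
    have hBQ : B ≤ Q := (le_sSup hB').trans (by rw [← seqEven_def]; exact hQe n)
    have h1 : B ∈ Cfsg.kLowerStarFamily ((Cfsg.kSeqOdd ↥Q n).map Q.subtype) := lower_anti hA hB'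
    have h2 : (B.subgroupOf Q).map Q.subtype = B := Subgroup.map_subgroupOf_eq_of_le hBQ
    rw [← h2] at h1 ⊢
    have h3 := (lower_iff Q _ _).mpr h1
    rw [seqEven_def ↥Q n]
    exact Subgroup.map_mono (le_sSup h3)
  · rw [seqEven_def ↥Q n, Subgroup.map_le_iff_le_comap]
    apply sSup_le
    intro B hB'
    rw [← Subgroup.map_le_iff_le_comap, seqEven_def P (n + 1)]
    apply le_sSup
    exact lower_anti hB ((lower_iff Q _ _).mp hB')

/-- from even terms to the next odd terms -/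
theorem step_odd (hQo : ∀ n, Cfsg.kSeqOdd P (n + 1) ≤ Q) (n : ℕ)
    (hC : Cfsg.kSeqEven P n ≤ (Cfsg.kSeqEven ↥Q n).map Q.subtype)
    (hD : (Cfsg.kSeqEven ↥Q n).map Q.subtype ≤ Cfsg.kSeqEven P (n + 1)) :
    (Cfsg.kSeqOdd ↥Q (n + 1)).map Q.subtype ≤ Cfsg.kSeqOdd P (n + 1) ∧
      Cfsg.kSeqOdd P (n + 2) ≤ (Cfsg.kSeqOdd ↥Q (n + 1)).map Q.subtype := by
  constructor
  · rw [seqOdd_succ ↥Q n, Subgroup.map_le_iff_le_comap]
    apply sSup_le
    intro B hB'
    rw [← Subgroup.map_le_iff_le_comap, seqOdd_succ P n]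
    apply le_sSup
    exact upper_anti hC ((upper_iff Q _ _).mp hB')
  · rw [seqOdd_succ P (n + 1)]
    apply sSup_le
    intro B hB'
    have hBQ : B ≤ Q := (le_sSup hB').trans (by rw [← seqOdd_succ]; exact hQo (n + 1))
    have h1 : B ∈ Cfsg.kUpperStarFamily ((Cfsg.kSeqEven ↥Q n).map Q.subtype) := upper_anti hD hB'
    have h2 : (B.subgroupOf Q).map Q.subtype = B := Subgroup.map_subgroupOf_eq_of_le hBQ
    rw [← h2] at h1 ⊢
    have h3 := (upper_iff Q _ _).mpr h1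
    rw [seqOdd_succ ↥Q n]
    exact Subgroup.map_mono (le_sSup h3)

theorem key (hQe : ∀ n, Cfsg.kSeqEven P n ≤ Q) (hQo : ∀ n, Cfsg.kSeqOdd P (n + 1) ≤ Q) (n : ℕ) :
    ((Cfsg.kSeqOdd ↥Q n).map Q.subtype ≤ Cfsg.kSeqOdd P n ∧
      Cfsg.kSeqOdd P (n + 1) ≤ (Cfsg.kSeqOdd ↥Q n).map Q.subtype) ∧
    (Cfsg.kSeqEven P n ≤ (Cfsg.kSeqEven ↥Q n).map Q.subtype ∧
      (Cfsg.kSeqEven ↥Q n).map Q.subtype ≤ Cfsg.kSeqEven P (n + 1)) := by
  induction n with
  | zero =>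
    have h0 : (Cfsg.kSeqOdd ↥Q 0).map Q.subtype = Q := by
      show (⊤ : Subgroup ↥Q).map Q.subtype = Q
      rw [← MonoidHom.range_eq_map, Subgroup.range_subtype]
    have hA : (Cfsg.kSeqOdd ↥Q 0).map Q.subtype ≤ Cfsg.kSeqOdd P 0 := by
      show _ ≤ (⊤ : Subgroup P)
      exact le_top
    have hB : Cfsg.kSeqOdd P (0 + 1) ≤ (Cfsg.kSeqOdd ↥Q 0).map Q.subtype := by
      rw [h0]; exact hQo 0
    exact ⟨⟨hA, hB⟩, step_even Q hQe 0 hA hB⟩
  | succ n ih =>
    obtain ⟨hA, hB⟩ := step_odd Q hQo n ih.2.1 ih.2.2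
    exact ⟨⟨hA, hB⟩, step_even Q hQe (n + 1) hA hB⟩

end S1979aux

/-- Let P be a finite p-group and Q a subgroup of P containing every term of the K-sequence of P of nonnegative index (every even-indexed term and every odd-indexed term after the initial term P). Then the K-infinity subgroups of Q, computed in Q and viewed in P, equal those of P. -/
theorem result {P : Type*} [Group P] [Finite P] {p : ℕ} [Fact p.Prime] (hP : IsPGroup p P) (Q : Subgroup P) (hQ : ∀ n : ℕ, Cfsg.kSeqEven P n ≤ Q ∧ Cfsg.kSeqOdd P (n + 1) ≤ Q) : (Cfsg.kInfLower ↥Q).map Q.subtype = Cfsg.kInfLower P ∧ (Cfsg.kInfUpper ↥Q).map Q.subtype = Cfsg.kInfUpper P := by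

  have hQe : ∀ n, Cfsg.kSeqEven P n ≤ Q := fun n => (hQ n).1
  have hQo : ∀ n, Cfsg.kSeqOdd P (n + 1) ≤ Q := fun n => (hQ n).2
  have hk := key Q hQe hQo
  constructor
  · show (⨆ n, Cfsg.kSeqEven ↥Q n).map Q.subtype = ⨆ n, Cfsg.kSeqEven P n
    rw [Subgroup.map_iSup]
    apply le_antisymm
    · apply iSup_le
      intro n
      exact (hk n).2.2.trans (le_iSup (fun n => Cfsg.kSeqEven P n) (n + 1))
    · apply iSup_le
      intro n
      exact (hk n).2.1.trans (le_iSup (fun n => (Cfsg.kSeqEven ↥Q n).map Q.subtype) n)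
  · show (⨅ n, Cfsg.kSeqOdd ↥Q n).map Q.subtype = ⨅ n, Cfsg.kSeqOdd P n
    rw [Subgroup.map_iInf _ Q.subtype_injective]
    apply le_antisymm
    · apply le_iInf
      intro n
      exact (iInf_le (fun n => (Cfsg.kSeqOdd ↥Q n).map Q.subtype) n).trans (hk n).1.1
    · apply le_iInf
      intro n
      exact (iInf_le (fun n => Cfsg.kSeqOdd P n) (n + 1)).trans (hk n).1.2

end Cfsg.Agent.S1979
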