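import Cfsg.Statements.S1980
import Mathlib

set_option autoImplicit false
open Cfsg

namespace Cfsg.Agent.S1980

theorem abelian_le_centralizer {P : Type*} [Group P] (A : Subgroup P) (hA : IsMulCommutative ↥A) :
    A ≤ Subgroup.centralizer (A : Set P) := by
  intro a ha
  rw [Subgroup.mem_centralizer_iff]
  intro b hb
  have := hA.is_comm.comm ⟨b, hb⟩ ⟨a, ha⟩
  exact congrArg Subtype.val this

theorem abelian_comm_bot {P : Type*} [Group P] (A : Subgroup P) (hA : IsMulCommutative ↥A) :
    ⁅A, A⁆ = ⊥ := by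
  rw [Subgroup.commutator_eq_bot_iff_le_centralizer]
  exact abelian_le_centralizer A hA

theorem all_families {P : Type*} [Group P] (A : Subgroup P) [A.Normal] (hA : IsMulCommutative ↥A) :
    A ∈ Cfsg.classTwoSubgroups P ∧ ∀ Q : Subgroup P,
      A ∈ Cfsg.kLowerStarFamily Q ∧ A ∈ Cfsg.kUpperStarFamily Q := by
  have h2 : A ∈ Cfsg.classTwoSubgroups P := by
    show ⁅A, A⁆ ≤ _
    rw [abelian_comm_bot A hA]; exact bot_le
  have hinf : A ⊓ Subgroup.centralizer (A : Set P) = A :=
    inf_eq_left.mpr (abelian_le_centralizer A hA)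
  refine ⟨h2, fun Q => ⟨⟨h2, ?_, ?_⟩, ⟨h2, ?_⟩⟩⟩
  · rw [Subgroup.normalizer_eq_top]; exact le_top
  · intro B _ _ _ _ _
    rw [hinf]
    exact Subgroup.commutator_le_left A B
  · rw [hinf]
    exact Subgroup.commutator_le_left A Q

/-- Let P be a finite p-group and A an abelian normal subgroup of P. Then A belongs to every family used to build the K-sequence of P: the class-two family, every lower-star family relative to an odd-indexed term, and every upper-star family relative to an even-indexed term. In particular A lies in every term of the K-sequence. -/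
theorem result {P : Type*} [Group P] [Finite P] {p : ℕ} [Fact p.Prime] (hP : IsPGroup p P) (A : Subgroup P) [A.Normal] (hA : IsMulCommutative ↥A) : A ∈ Cfsg.classTwoSubgroups P ∧ ∀ n : ℕ, A ∈ Cfsg.kLowerStarFamily (Cfsg.kSeqOdd P n) ∧ A ∈ Cfsg.kUpperStarFamily (Cfsg.kSeqEven P n) := by
  obtain ⟨h1, h2⟩ := all_families A hA
  exact ⟨h1, fun n => ⟨(h2 _).1, (h2 _).2⟩⟩

end Cfsg.Agent.S1980
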