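import Cfsg.Statements.S1981
import Mathlib

set_option autoImplicit false
open Cfsg

namespace Cfsg.Agent.S1981

theorem abelian_le_centralizer {P : Type*} [Group P] (A : Subgroup P) (hA : IsMulCommutative ↥A) :
    A ≤ Subgroup.centralizer (A : Set P) := by
  intro a ha
  rw [Subgroup.mem_centralizer_iff]
  intro b hb
  have := hA.is_comm.comm ⟨b, hb⟩ ⟨a, ha⟩
  exact congrArg Subtype.val this

theorem abelian_comm_bot {P : Type*} [Group P] (A : Subgroup P) (hA : IsMulCommutative ↥A) :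
    ⁅A, A⁆ = ⊥ := by
  rw [Subgroup.commutator_eq_bot_iff_le_centralizer]
  exact abelian_le_centralizer A hA

theorem all_families {P : Type*} [Group P] (A : Subgroup P) [A.Normal] (hA : IsMulCommutative ↥A) :
    A ∈ Cfsg.classTwoSubgroups P ∧ ∀ Q : Subgroup P,
      A ∈ Cfsg.kLowerStarFamily Q ∧ A ∈ Cfsg.kUpperStarFamily Q := by
  have h2 : A ∈ Cfsg.classTwoSubgroups P := by
    show ⁅A, A⁆ ≤ _
    rw [abelian_comm_bot A hA]; exact bot_le
  have hinf : A ⊓ Subgroup.centralizer (A : Set P) = A :=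
    inf_eq_left.mpr (abelian_le_centralizer A hA)
  refine ⟨h2, fun Q => ⟨⟨h2, ?_, ?_⟩, ⟨h2, ?_⟩⟩⟩
  · rw [Subgroup.normalizer_eq_top]; exact le_top
  · intro B _ _ _ _ _
    rw [hinf]
    exact Subgroup.commutator_le_left A B
  · rw [hinf]
    exact Subgroup.commutator_le_left A Q

/-- Let P be a finite p-group generated by its abelian normal subgroups. Then both K-infinity subgroups of P equal P. -/
theorem result {P : Type*} [Group P] [Finite P] {p : ℕ} [Fact p.Prime] (hP : IsPGroup p P) (hgen : ⨆ A ∈ {A : Subgroup P | A.Normal ∧ IsMulCommutative ↥A}, A = ⊤) : Cfsg.kInfLower P = ⊤ ∧ Cfsg.kInfUpper P = ⊤ := by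
  have key : ∀ F : Set (Subgroup P),
      (∀ A : Subgroup P, A.Normal → IsMulCommutative ↥A → A ∈ F) → sSup F = ⊤ := by
    intro F hF
    rw [eq_top_iff, ← hgen]
    apply iSup₂_le
    intro A hA
    exact le_sSup (hF A hA.1 hA.2)
  have hE : ∀ n, Cfsg.kSeqEven P n = ⊤ := fun n =>
    key _ (fun A hn hA => by haveI := hn; exact ((all_families A hA).2 _).1)
  have hO : ∀ n, Cfsg.kSeqOdd P n = ⊤ := by
    intro n
    cases n with
    | zero => rfl
    | succ n => exact key _ (fun A hn hA => by haveI := hn; exact ((all_families A hA).2 _).2)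
  constructor
  · show ⨆ n, Cfsg.kSeqEven P n = ⊤
    simp [hE]
  · show ⨅ n, Cfsg.kSeqOdd P n = ⊤
    simp [hO]

end Cfsg.Agent.S1981
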