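import Cfsg.Statements.S1984
import Mathlib
import Cfsg.Agent.Lib.Lead.KInf6
import Cfsg.Agent.S1972

set_option autoImplicit false
universe u
open Cfsg

namespace Cfsg.Agent.S1984

/-- Let p ≥ 5 be a prime and G a finite group. Then the lower K-infinity subgroup controls transfer in G: for some (equivalently, every) Sylow p-subgroup S of G, S ∩ G' = S ∩ (N_G(K))', where K is the lower K-infinity subgroup of S. -/
theorem result {G : Type u} [Group G] [Finite G] {p : ℕ} [Fact p.Prime] (hp : 5 ≤ p) : Cfsg.ControlsTransferIn p (Cfsg.inducedFunctor (G := G) Cfsg.kInfLower) ⊤ := by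
  have hW : Cfsg.IsCharPFunctor.{u} p Cfsg.kInfLower :=
    Cfsg.Agent.Lib.Lead.KInf.isCharPFunctor_kInfLower p
  have hloc : ∀ (K R : Subgroup G) [hR : (R.subgroupOf K).Normal], Subgroup.centralizer ((Cfsg.pCore p (↥K ⧸ R.subgroupOf K) : Subgroup (↥K ⧸ R.subgroupOf K)) : Set (↥K ⧸ R.subgroupOf K)) ≤ Cfsg.pCore p (↥K ⧸ R.subgroupOf K) → ∀ T : Sylow p (↥K ⧸ R.subgroupOf K), ¬ (Cfsg.inducedFunctor (G := (↥K ⧸ R.subgroupOf K)) Cfsg.kInfLower ((T : Subgroup (↥K ⧸ R.subgroupOf K)))).Normal → ∃ g : (↥K ⧸ R.subgroupOf K), g ∈ (T : Subgroup (↥K ⧸ R.subgroupOf K)) ∧ g ∉ Cfsg.pCore p (↥K ⧸ R.subgroupOf K) ∧ ∀ U V : Subgroup (↥K ⧸ R.subgroupOf K), Cfsg.IsChiefFactor U V → U ≤ Cfsg.pCore p (↥K ⧸ R.subgroupOf K) → Cfsg.iterCommutator U (Subgroup.zpowers g) (p - 1) ≤ V := by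
    intro K R hR _ T hT
    obtain ⟨g, hgT, hgP, hg4, -⟩ := Cfsg.Agent.Lib.Lead.KInf.engel_of_not_normal T (Or.inl hT)
    refine ⟨g, hgT, hgP, ?_⟩
    intro U V hUV hU
    haveI := hUV.2.2.1
    exact Cfsg.Agent.Lib.Lead.KInf.iter_le_of_le (by omega) (hg4 U V hUV hU)
  obtain ⟨T, hT1, hTp, hTidx, heq⟩ := Cfsg.Agent.S1972.all_sections' hW G hloc _ G rfl
    (Cfsg.Agent.Lib.Helper4.GTSec.isSec_self G)
  refine ⟨T, hT1, hTp, hTidx, ?_⟩
  rw [Cfsg.Agent.Lib.Lead.GTTransfer.foc_eq] at heq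
  rw [heq]
  unfold Cfsg.Agent.Lib.Lead.GTTransfer.Foc
  rw [iSup_singleton]

end Cfsg.Agent.S1984
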