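import Cfsg.Statements.S2006
import Mathlib
import Cfsg.Agent.Lib.Helper4.GTSec
import Cfsg.Agent.Lib.Helper7.EngD

set_option autoImplicit false
universe u
open Cfsg

namespace Cfsg.Agent.S2006
open Cfsg.Agent.Lib.Helper4.PNil Cfsg.Agent.Lib.Helper4.GT Cfsg.Agent.Lib.Helper4.GT2
  Cfsg.Agent.Lib.Helper4.GTSec

/-- Let p be a prime, G a finite group with Sylow p-subgroup S, and W an isomorphism-invariant p-group functor (W assigns to every group Q a subgroup W(Q), nontrivial whenever Q is a nontrivial finite p-group, and every isomorphism from a finite p-group Q onto a group R carries W(Q) onto W(R)). Suppose N_G(W(S)) has a normal p-complement, and that whenever G* = K/R is a section of G with C_{G*}(O_p(G*)) ≤ O_p(G*) and S* is a Sylow p-subgroup of G* with W(S*) not normal in G*, there are an element g of S* outside O_p(G*) and a chief factor X/Y of G* with X ≤ O_p(G*) such that [X, g, …, g] ≤ Y with p − 1 entries g but [X, g] ≰ Y. Then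 G has a normal p-complement. -/
theorem result {G : Type u} [Group G] [Finite G] {p : ℕ} [Fact p.Prime] (W : ∀ (Q : Type u) [Group Q], Subgroup Q) (hW : Cfsg.IsCharPFunctor.{u} p W) (S : Sylow p G) (hN : Cfsg.HasNormalPComplement p ↥(Subgroup.normalizer ((Cfsg.inducedFunctor (G := G) W (S : Subgroup G) : Subgroup G) : Set G))) (hloc : ∀ (K R : Subgroup G) [hR : (R.subgroupOf K).Normal], Subgroup.centralizer ((Cfsg.pCore p (↥K ⧸ R.subgroupOf K) : Subgroup (↥K ⧸ R.subgroupOf K)) : Set (↥K ⧸ R.subgroupOf K)) ≤ Cfsg.pCore p (↥K ⧸ R.subgroupOf K) → ∀ T : Sylow p (↥K ⧸ R.subgroupOf K), ¬ (Cfsg.inducedFunctor (G := (↥K ⧸ R.subgroupOf K)) W ((T : Subgroup (↥K ⧸ R.subgroupOf K)))).Normal → ∃ g : (↥K ⧸ R.subgroupOf K), g ∈ (T : Subgroup (↥K ⧸ R.subgroupOf K)) ∧ g ∉ Cfsg.pCore p (↥K ⧸ R.subgroupOf K) ∧ ∃ U V : Subgroup (↥K ⧸ R.subgroupOf K), Cfsg.IsChiefFactor U V ∧ U ≤ Cfsg.pCore p (↥K ⧸ R.subgroupOf K) ∧ Cfsg.iterCommutator U (Subgroup.zpowers g)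 (p - 1) ≤ V ∧ ¬ ⁅U, Subgroup.zpowers g⁆ ≤ V) : Cfsg.HasNormalPComplement p G := by
  have hW' := pFunctor2_induced W hW
  rw [← pnil_top_iff]
  rw [← pnil_iff_hasNormalPComplement] at hN
  refine gt_all2 (full := True) hW' (IsSec G) (fun X _ _ L h => isSec_sub G X L h)
    (fun X _ _ M _ h => isSec_quot G X M h) ?_ (Nat.card G) G rfl (isSec_self G) S (S : Subgroup G)
    (fun _ => rfl) ⟨le_rfl, fun x _ g hg => hg⟩ hN
  intro X _ _ hX P D hfull hD hfc hNX
  have hDP : D = (P : Subgroup X) := hfull trivial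
  subst hDP
  by_cases hnX : (WAmb W X (P : Subgroup X)).Normal
  · rw [Subgroup.normalizer_eq_top_iff.mpr hnX] at hNX
    exact hNX
  exfalso
  obtain ⟨K, R, hR, ⟨e⟩⟩ := isSec_equiv G X hX
  haveI := hR
  have hpc : (Cfsg.pCore p X).map e.toMonoidHom = Cfsg.pCore p (↥K ⧸ R.subgroupOf K) :=
    Cfsg.Agent.Lib.Helper7.pCore_map_equiv e
  have hcentY : Subgroup.centralizer ((Cfsg.pCore p (↥K ⧸ R.subgroupOf K) :
      Subgroup (↥K ⧸ R.subgroupOf K)) : Set (↥K ⧸ R.subgroupOf K)) ≤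
      Cfsg.pCore p (↥K ⧸ R.subgroupOf K) := by
    intro y hy
    have hx : e.symm y ∈ Subgroup.centralizer (Cfsg.pCore p X : Set X) := by
      rw [Subgroup.mem_centralizer_iff]
      intro h hh
      have h1 : e h ∈ Cfsg.pCore p (↥K ⧸ R.subgroupOf K) := by
        rw [← hpc]; exact ⟨h, hh, rfl⟩
      have h2 := Subgroup.mem_centralizer_iff.mp hy (e h) h1
      have h3 := congrArg e.symm h2
      rw [map_mul, map_mul, e.symm_apply_apply] at h3
      exact h3
    have h4 := hfc.cent hx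
    rw [← hpc]
    exact ⟨e.symm y, h4, e.apply_symm_apply y⟩
  have hes : Function.Surjective e.toMonoidHom := e.surjective
  have hT : ((P.mapSurjective hes : Sylow p (↥K ⧸ R.subgroupOf K)) :
      Subgroup (↥K ⧸ R.subgroupOf K)) = (P : Subgroup X).map e.toMonoidHom :=
    Sylow.coe_mapSurjective hes P
  have hmap := hW'.map X (↥K ⧸ R.subgroupOf K) e.toMonoidHom (P : Subgroup X) P.isPGroup'
    (fun x _ hx => by
      have h1 : e x = e 1 := by rw [map_one]; exact hx
      exact e.injective h1)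
  have hnotY : ¬ (Cfsg.inducedFunctor (G := (↥K ⧸ R.subgroupOf K)) W
      ((P.mapSurjective hes : Sylow p (↥K ⧸ R.subgroupOf K)) : Subgroup (↥K ⧸ R.subgroupOf K))).Normal := by
    intro hn
    rw [hT] at hn
    have hn' : ((WAmb W X (P : Subgroup X)).map e.toMonoidHom).Normal := by
      rw [← hmap]; exact hn
    have hn'' : (WAmb W X (P : Subgroup X)).Normal := by
      have h1 := hn'.comap e.toMonoidHom
      rw [Subgroup.comap_map_eq_self_of_injective e.injective] at h1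
      exact h1
    exact hnX hn''
  obtain ⟨g, hgT, hgH, U, V, hUV, hUH, hE, hne⟩ := hloc K R hcentY (P.mapSurjective hes) hnotY
  obtain ⟨K₁, hK₁n, hHK₁, hcop, hab, hidx⟩ := hfc.series
  haveI : (Cfsg.pCore p (↥K ⧸ R.subgroupOf K)).Normal := Cfsg.Agent.H9.pCore_normal p _
  haveI hAn : (K₁.map e.toMonoidHom).Normal := hK₁n.map e.toMonoidHom e.surjective
  have hHp : IsPGroup p ↥(Cfsg.pCore p (↥K ⧸ R.subgroupOf K)) := Cfsg.Agent.H9.pCore_isPGroup p _
  have hHA : Cfsg.pCore p (↥K ⧸ R.subgroupOf K) ≤ K₁.map e.toMonoidHom := by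
    rw [← hpc]; exact Subgroup.map_mono hHK₁
  have hcopY : ((Cfsg.pCore p (↥K ⧸ R.subgroupOf K)).relIndex (K₁.map e.toMonoidHom)).Coprime p := by
    rw [← hpc, Subgroup.relIndex_map_map_of_injective _ _ e.injective]; exact hcop
  have habY : ⁅K₁.map e.toMonoidHom, K₁.map e.toMonoidHom⁆ ≤ Cfsg.pCore p (↥K ⧸ R.subgroupOf K) := by
    rw [← hpc, ← Subgroup.map_commutator]; exact Subgroup.map_mono hab
  have hidxY : ∃ k : ℕ, (K₁.map e.toMonoidHom).index = p ^ k := by
    obtain ⟨k, hk⟩ := hidx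
    exact ⟨k, by rw [Subgroup.index_map_of_bijective e.bijective, hk]⟩
  have hgp : ∃ j : ℕ, g ^ p ^ j = 1 := by
    obtain ⟨j, hj⟩ := (P.mapSurjective hes).isPGroup' ⟨g, hgT⟩
    refine ⟨j, ?_⟩
    have := congrArg Subtype.val hj
    rw [Subgroup.coe_pow, Subgroup.coe_one] at this
    exact this
  exact Cfsg.Agent.Lib.Helper7.Eng.chief_engel_false U V hUV (Cfsg.pCore p (↥K ⧸ R.subgroupOf K))
    (K₁.map e.toMonoidHom) hHp hUH hHA hcopY habY hidxY g hgp hE hne

end Cfsg.Agent.S2006
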