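import Cfsg.Statements.S2007
import Mathlib
import Cfsg.Agent.Lib.Lead.PComplement
import Cfsg.Agent.Lib.Lead.StronglyEmbedded

set_option autoImplicit false
set_option linter.style.haveILetI false
open Cfsg Cfsg.Agent.Lib.Lead.PComplement

namespace Cfsg.Agent.S2007

/-- Let p be a prime, G a finite group with Sylow p-subgroup S, and T a normal subgroup of S containing C_S(T). If N_G(T)/C_G(T) is a p-group (every element of N_G(T) of order prime to p centralizes T), then N_G(T) has a normal p-complement. -/
theorem result {G : Type*} [Group G] [Finite G] {p : ℕ} [Fact p.Prime] (S : Sylow p G) (T : Subgroup G) (hTS : T ≤ (S : Subgroup G)) (hTn : (S : Subgroup G) ≤ Subgroup.normalizer ((T : Subgroup G) : Set G)) (hC : (S : Subgroup G) ⊓ Subgroup.centralizer ((T : Subgroup G) : Set G) ≤ T) (hN : ∀ g ∈ Subgroup.normalizer ((T : Subgroup G) : Set G), (orderOf g).Coprime p → g ∈ Subgroup.centralizer ((T : Subgroup G) : Set G)) : Cfsg.HasNormalPComplement p ↥(Subgroup.normalizer ((T : Subgroup G) : Set G)) := by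
  classical
  have hSN : (S : Subgroup G) ≤ Subgroup.normalizer (T : Set G) := hTn
  haveI hCn : ((Subgroup.centralizer (T : Set G)).subgroupOf (Subgroup.normalizer (T : Set G))).Normal :=
    Subgroup.normal_subgroupOf_centralizer_normalizer (T : Set G)
  -- (a) the quotient is a `p`-group
  have hquot : IsPGroup p (↥(Subgroup.normalizer (T : Set G)) ⧸
      (Subgroup.centralizer (T : Set G)).subgroupOf (Subgroup.normalizer (T : Set G))) := by
    apply isPGroup_quotient_of_coprime_mem
    intro g hg
    rw [Subgroup.mem_subgroupOf]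
    apply hN _ g.2
    rw [Subgroup.orderOf_coe]
    exact hg
  -- (b) a Sylow subgroup of `C` lies in `T`
  obtain ⟨P₀⟩ : Nonempty (Sylow p ↥((Subgroup.centralizer (T : Set G)).subgroupOf
    (Subgroup.normalizer (T : Set G)))) := inferInstance
  have hP₀T : ∀ x : ↥((Subgroup.centralizer (T : Set G)).subgroupOf (Subgroup.normalizer (T : Set G))),
      x ∈ P₀ → ((x : ↥(Subgroup.normalizer (T : Set G))) : G) ∈ T := by
    set PG : Subgroup G := ((P₀ : Subgroup ↥((Subgroup.centralizer (T : Set G)).subgroupOf
      (Subgroup.normalizer (T : Set G)))).map (Subgroup.subtype _)).map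
      (Subgroup.normalizer (T : Set G)).subtype with hPG
    have hPGN : PG ≤ Subgroup.normalizer (T : Set G) := by
      rintro _ ⟨y, _, rfl⟩
      exact y.2
    have hPGp : IsPGroup p ↥PG := (P₀.isPGroup'.map _).map _
    obtain ⟨m, hmN, hm⟩ :=
      Cfsg.Agent.Lib.Lead.StronglyEmbedded.exists_conj_mem_sylow S hSN hPGN hPGp
    intro x hx
    have hxPG : ((x : ↥(Subgroup.normalizer (T : Set G))) : G) ∈ PG :=
      ⟨(x : ↥(Subgroup.normalizer (T : Set G))), ⟨x, hx, rfl⟩, rfl⟩
    have h1 := hm _ hxPG
    have hxC : ((x : ↥(Subgroup.normalizer (T : Set G))) : G) ∈ Subgroup.centralizer (T : Set G) :=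
      Subgroup.mem_subgroupOf.mp x.2
    set xx : G := ((x : ↥(Subgroup.normalizer (T : Set G))) : G) with hxx
    have h2 : m⁻¹ * xx * m ∈ Subgroup.centralizer (T : Set G) := by
      rw [Subgroup.mem_centralizer_iff]
      intro t ht
      have ht' : m * t * m⁻¹ ∈ T := (Subgroup.mem_normalizer_iff.mp hmN t).mp ht
      have := Subgroup.mem_centralizer_iff.mp hxC _ ht'
      calc t * (m⁻¹ * xx * m) = m⁻¹ * ((m * t * m⁻¹) * xx) * m := by group
        _ = m⁻¹ * (xx * (m * t * m⁻¹)) * m := by rw [this]
        _ = m⁻¹ * xx * m * t := by group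
    have h3 : m⁻¹ * xx * m ∈ T := hC ⟨h1, h2⟩
    have h4 := (Subgroup.mem_normalizer_iff.mp hmN _).mp h3
    have e : m * (m⁻¹ * xx * m) * m⁻¹ = xx := by group
    rwa [e] at h4
  -- (c) hence it is central
  have hcent : (P₀ : Subgroup ↥((Subgroup.centralizer (T : Set G)).subgroupOf
      (Subgroup.normalizer (T : Set G)))) ≤ Subgroup.center ↥((Subgroup.centralizer (T : Set G)).subgroupOf
      (Subgroup.normalizer (T : Set G))) := by
    intro x hx
    rw [Subgroup.mem_center_iff]
    intro c
    have hxT := hP₀T x hx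
    have hcC : ((c : ↥(Subgroup.normalizer (T : Set G))) : G) ∈ Subgroup.centralizer (T : Set G) :=
      Subgroup.mem_subgroupOf.mp c.2
    have := Subgroup.mem_centralizer_iff.mp hcC _ hxT
    apply Subtype.ext
    apply Subtype.ext
    exact this.symm
  exact hasNormalPComplement_of_normal_of_central_sylow _ hquot P₀ hcent

end Cfsg.Agent.S2007
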