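import Cfsg.Statements.S1988
import Cfsg.Agent.Lib.Lead.KInf16
import Cfsg.Agent.S2006
import Cfsg.Agent.S2007
import Cfsg.Agent.S1978

set_option autoImplicit false
universe u
open Cfsg

namespace Cfsg.Agent.S1988

/-- Let p be an odd prime, G a finite group with Sylow p-subgroup S and K the lower K-infinity subgroup of S. If N_G(K) has a normal p-complement, or if N_G(K)/C_G(K) is a p-group (every element of N_G(K) of order prime to p centralizes K), then G has a normal p-complement. -/
theorem result {G : Type u} [Group G] [Finite G] {p : ℕ} [Fact p.Prime] (hp : p ≠ 2) (S : Sylow p G) (h : Cfsg.HasNormalPComplement p ↥(Subgroup.normalizer ((Cfsg.inducedFunctor Cfsg.kInfLower (S : Subgroup G) : Subgroup G) : Set G)) ∨ ∀ g ∈ Subgroup.normalizer ((Cfsg.inducedFunctor Cfsg.kInfLower (S : Subgroup G) : Subgroup G) : Set G), (orderOf g).Coprime p → g ∈ Subgroup.centralizer ((Cfsg.inducedFunctor Cfsg.kInfLower (S : Subgroup G) : Subgroup G) : Set G)) : Cfsg.HasNormalPComplement p G := by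
  have hpp : p.Prime := Fact.out
  have hW : Cfsg.IsCharPFunctor.{u} p Cfsg.kInfLower :=
    Cfsg.Agent.Lib.Lead.KInf.isCharPFunctor_kInfLower p
  -- the first alternative holds
  have hN : Cfsg.HasNormalPComplement p ↥(Subgroup.normalizer
      ((Cfsg.inducedFunctor Cfsg.kInfLower (S : Subgroup G) : Subgroup G) : Set G)) := by
    rcases h with h | h
    · exact h
    · have hch : (Cfsg.kInfLower ↥(S : Subgroup G)).Characteristic := by
        rw [Subgroup.characteristic_iff_map_eq]
        intro φ
        exact Cfsg.Agent.Lib.Lead.KInf.kInfLower_iso φ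
      refine Cfsg.Agent.S2007.result S _ (Subgroup.map_subtype_le _) ?_ ?_ h
      · exact (Subgroup.le_normalizer).trans
          (Cfsg.Agent.Lib.Helper7.normalizer_le_normalizer_of_characteristic _ _ hch)
      · intro x hx
        obtain ⟨hxS, hxC⟩ := Subgroup.mem_inf.mp hx
        have h1 := (Cfsg.Agent.S1978.result (P := ↥(S : Subgroup G)) S.isPGroup').1
        have h2 : (⟨x, hxS⟩ : ↥(S : Subgroup G)) ∈
            Subgroup.centralizer (Cfsg.kInfLower ↥(S : Subgroup G) : Set ↥(S : Subgroup G)) := by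
          rw [Subgroup.mem_centralizer_iff]
          intro y hy
          apply Subtype.ext
          have h3 := Subgroup.mem_centralizer_iff.mp hxC (y : G) ⟨y, hy, rfl⟩
          simpa using h3
        exact ⟨⟨x, hxS⟩, h1 h2, rfl⟩
  refine Cfsg.Agent.S2006.result Cfsg.kInfLower hW S hN ?_
  intro K R hR hc T hnn
  obtain ⟨g, hgT, hgO, U, V, hch, hU, hq, hnt⟩ :=
    Cfsg.Agent.Lib.Lead.KInf.exists_good_of_not_normal T (Or.inl hnn) hc
  refine ⟨g, hgT, hgO, U, V, hch, hU, ?_, hnt⟩
  haveI := hch.2.2.1
  have h2 : 2 ≤ p - 1 := by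
    have := hpp.two_le
    omega
  exact Cfsg.Agent.Lib.Lead.KInf.iter_le_of_le h2 hq

end Cfsg.Agent.S1988
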