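import Cfsg.Statements.S1990
import Mathlib
import Cfsg.Agent.Lib.Helper4.GTCtl

set_option autoImplicit false
open Cfsg
open scoped commutatorElement

namespace Cfsg.Agent.S1990

open Cfsg.Agent.Lib.Helper4.PNil Cfsg.Agent.Lib.Helper4.GT Cfsg.Agent.Lib.Helper4.GT2
  Cfsg.Agent.Lib.Helper4.GTSec Cfsg.Agent.Lib.Helper4.Series Cfsg.Agent.Lib.Helper4.GTCtl

universe u

/-- Let p be an odd prime, G a finite group with Sylow p-subgroup S, and W an isomorphism-invariant p-group functor (W assigns to every group Q a subgroup W(Q), nontrivial whenever Q is a nontrivial finite p-group, and every isomorphism from a finite p-group Q onto a group R carries W(Q) onto W(R)). Suppose N_G(W(S)) has a normal p-complement, and W(T) controls strong fusion in every section G* = K/R of G all of whose sections are p-stable in the normalizer form, for every Sylow p-subgroup T of G*. Then G has a normal p-complement. -/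
theorem result {G : Type u} [Group G] [Finite G] {p : ℕ} [Fact p.Prime] (hp : p ≠ 2) (W : ∀ (Q : Type u) [Group Q], Subgroup Q) (hW : Cfsg.IsCharPFunctor.{u} p W) (S : Sylow p G) (hN : Cfsg.HasNormalPComplement p ↥(Subgroup.normalizer ((Cfsg.inducedFunctor (G := G) W (S : Subgroup G) : Subgroup G) : Set G))) (hctl : ∀ (K R : Subgroup G) [hR : (R.subgroupOf K).Normal], (∀ (K' R' : Subgroup (↥K ⧸ R.subgroupOf K)) [hR' : (R'.subgroupOf K').Normal], Cfsg.IsNormalizerPStable p (↥K' ⧸ R'.subgroupOf K')) → ∀ T : Sylow p (↥K ⧸ R.subgroupOf K), Cfsg.ControlsStrongFusion p (Cfsg.inducedFunctor (G := (↥K ⧸ R.subgroupOf K)) W (T : Subgroup (↥K ⧸ R.subgroupOf K)))) : Cfsg.HasNormalPComplement p G := by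
  have hW' := pFunctor2_induced W hW
  rw [← pnil_top_iff]
  rw [← pnil_iff_hasNormalPComplement] at hN
  refine gt_all2 (full := True) hW' (IsSec G) (fun X _ _ L h => isSec_sub G X L h)
    (fun X _ _ M _ h => isSec_quot G X M h) ?_ (Nat.card G) G rfl (isSec_self G) S (S : Subgroup G)
    (fun _ => rfl) ⟨le_rfl, fun x _ g hg => hg⟩ hN
  intro X _ _ hX P D hfull hD hfc hNX
  have hDP : D = (P : Subgroup X) := hfull trivial
  subst hDP
  obtain ⟨K, R, hR, ⟨e⟩⟩ := isSec_equiv G X hX
  haveI := hR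
  obtain ⟨K₁, hK₁n, hHK, hcop, hab, hidx⟩ := hfc.series
  haveI := hK₁n
  haveI : (Cfsg.pCore p X).Normal := Cfsg.Agent.H9.pCore_normal p X
  have hsX : HasSeries p X :=
    ⟨Cfsg.pCore p X, K₁, seriesData_of_index (Cfsg.pCore p X) K₁ hHK
      (Cfsg.Agent.H9.pCore_isPGroup p X) hcop hab hidx⟩
  have hsY : HasSeries p (↥K ⧸ R.subgroupOf K) := hsX.of_surjective e.toMonoidHom e.surjective
  have hstab : ∀ (K' R' : Subgroup (↥K ⧸ R.subgroupOf K)) [hR' : (R'.subgroupOf K').Normal],
      Cfsg.IsNormalizerPStable p (↥K' ⧸ R'.subgroupOf K') := by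
    intro K' R' hR'
    exact isNormalizerPStable_of_hasSeries hp
      ((hsY.subgroup K').of_surjective (QuotientGroup.mk' _) (QuotientGroup.mk'_surjective _))
  have hes : Function.Surjective e.toMonoidHom := e.surjective
  have hc0 := hctl K R hstab (P.mapSurjective hes)
  obtain ⟨T₁, hT₁N, hc1⟩ := control_own hW' (P.mapSurjective hes) hc0
  have hT : ((P.mapSurjective hes : Sylow p (↥K ⧸ R.subgroupOf K)) :
      Subgroup (↥K ⧸ R.subgroupOf K)) = (P : Subgroup X).map e.toMonoidHom :=
    Sylow.coe_mapSurjective hes P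
  have hmap := hW'.map X (↥K ⧸ R.subgroupOf K) e.toMonoidHom (P : Subgroup X) P.isPGroup'
    (fun x _ hx => by
      have h1 : e x = e 1 := by rw [map_one]; exact hx
      exact e.injective h1)
  have hNY : PNil p (Subgroup.normalizer ((WAmb W (↥K ⧸ R.subgroupOf K)
      ((P.mapSurjective hes : Sylow p (↥K ⧸ R.subgroupOf K)) : Subgroup (↥K ⧸ R.subgroupOf K)) :
      Subgroup (↥K ⧸ R.subgroupOf K)) : Set (↥K ⧸ R.subgroupOf K))) := by
    rw [hT, hmap, ← Subgroup.map_equiv_normalizer_eq]
    exact pnil_map_equiv e hNX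
  have hY := pnil_of_control T₁ _ hT₁N hNY hc1
  have h2 := pnil_map_equiv e.symm hY
  have h3 : (⊤ : Subgroup (↥K ⧸ R.subgroupOf K)).map e.symm.toMonoidHom = ⊤ := by
    rw [← MonoidHom.range_eq_map, MonoidHom.range_eq_top]
    exact e.symm.surjective
  rw [h3] at h2
  exact h2

end Cfsg.Agent.S1990
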