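import Cfsg.Statements.S1996
import Mathlib
import Cfsg.Agent.Lib.Helper4.GTFus6

set_option autoImplicit false
open Cfsg
open scoped commutatorElement

namespace Cfsg.Agent.S1996

universe u
open Cfsg.Agent.Lib.Helper4.GTFus Cfsg.Agent.Lib.Helper4.GTSec Cfsg.Agent.Lib.Helper4.GT2 Cfsg.Agent.S1959

/-- Let p be a prime, G a finite group and W₁, W₂ two isomorphism-invariant p-group functors (W assigns to every group Q a subgroup W(Q), nontrivial whenever Q is a nontrivial finite p-group, and every isomorphism from a finite p-group Q onto a group R carries W(Q) onto W(R)). Suppose that G* = N_{G*}(W₁(S*)) N_{G*}(W₂(S*)) whenever G* = K/R is a section of G with C_{G*}(O_p(G*)) ≤ O_p(G*) and S* is a Sylow p-subgroup of G*. Then the pair {W₁, W₂} controls strong fusion in G. -/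
theorem result {G : Type u} [Group G] [Finite G] {p : ℕ} [Fact p.Prime] (W₁ W₂ : ∀ (Q : Type u) [Group Q], Subgroup Q) (hW₁ : Cfsg.IsCharPFunctor.{u} p W₁) (hW₂ : Cfsg.IsCharPFunctor.{u} p W₂) (hfac : ∀ (K R : Subgroup G) [hR : (R.subgroupOf K).Normal], Subgroup.centralizer ((Cfsg.pCore p (↥K ⧸ R.subgroupOf K) : Subgroup (↥K ⧸ R.subgroupOf K)) : Set (↥K ⧸ R.subgroupOf K)) ≤ Cfsg.pCore p (↥K ⧸ R.subgroupOf K) → ∀ T : Sylow p (↥K ⧸ R.subgroupOf K), ∀ x : (↥K ⧸ R.subgroupOf K), ∃ a ∈ Subgroup.normalizer ((Cfsg.inducedFunctor (G := (↥K ⧸ R.subgroupOf K)) W₁ (T : Subgroup (↥K ⧸ R.subgroupOf K)) : Subgroup (↥K ⧸ R.subgroupOf K)) : Set (↥K ⧸ R.subgroupOf K)), ∃ b ∈ Subgroup.normalizer ((Cfsg.inducedFunctor (G := (↥K ⧸ R.subgroupOf K)) W₂ (T : Subgroup (↥K ⧸ R.subgroupOf K)) : Subgroup (↥K ⧸ R.subgroupOf K)) : Set (↥K ⧸ R.subgroupOf K)), x = a * b) : Cfsg.FamilyControlsStrongFusionIn p {Cfsg.inducedFunctor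 (G := G) W₁, Cfsg.inducedFunctor (G := G) W₂} ⊤ := by
  have h𝓦 : ∀ W' ∈ ({W₁, W₂} : Set (∀ (Q : Type u) [Group Q], Subgroup Q)), Cfsg.IsCharPFunctor.{u} p W' := by
    rintro W' (rfl | rfl)
    · exact hW₁
    · exact hW₂
  have hfam := main_sections h𝓦 G (fun K' R' hR' hc => by
    obtain ⟨T'⟩ : Nonempty (Sylow p (↥K' ⧸ R'.subgroupOf K')) := inferInstance
    have hf := hfac K' R' hc T'
    have hT : ∀ W', Cfsg.IsCharPFunctor.{u} p W' → (T' : Subgroup (↥K' ⧸ R'.subgroupOf K')) ≤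
        Subgroup.normalizer ((Cfsg.inducedFunctor (G := ↥K' ⧸ R'.subgroupOf K') W'
          (T' : Subgroup (↥K' ⧸ R'.subgroupOf K')) : Subgroup (↥K' ⧸ R'.subgroupOf K')) :
          Set (↥K' ⧸ R'.subgroupOf K')) := fun W' hW' =>
      Subgroup.le_normalizer.trans (normalizer_le_normalizer_W2 (pFunctor2_induced W' hW') _ T'.isPGroup')
    exact family_of_ch T' (fun A g hA hgA => ch_of_factorization T'
      (Cfsg.inducedFunctor (G := ↥K' ⧸ R'.subgroupOf K') W₁)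
      (Cfsg.inducedFunctor (G := ↥K' ⧸ R'.subgroupOf K') W₂) (show Cfsg.inducedFunctor (G := ↥K' ⧸ R'.subgroupOf K') W₁ ∈
        Ind ({W₁, W₂} : Set (∀ (Q : Type u) [Group Q], Subgroup Q)) (↥K' ⧸ R'.subgroupOf K') from
        ⟨W₁, Or.inl rfl, rfl⟩)
      (show Cfsg.inducedFunctor (G := ↥K' ⧸ R'.subgroupOf K') W₂ ∈
        Ind ({W₁, W₂} : Set (∀ (Q : Type u) [Group Q], Subgroup Q)) (↥K' ⧸ R'.subgroupOf K') from
        ⟨W₂, Or.inr rfl, rfl⟩)
      (hT W₁ hW₁) (hT W₂ hW₂) hf A g hA hgA)) G (isSec_self G)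
  have e : Ind ({W₁, W₂} : Set (∀ (Q : Type u) [Group Q], Subgroup Q)) G =
      {Cfsg.inducedFunctor (G := G) W₁, Cfsg.inducedFunctor (G := G) W₂} := by
    unfold Ind
    rw [Set.image_pair]
  rw [e] at hfam
  exact hfam

end Cfsg.Agent.S1996
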