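import Cfsg.Statements.S1997
import Mathlib
import Cfsg.Agent.Lib.Helper4.GTFus9

set_option autoImplicit false
open Cfsg
open scoped commutatorElement

namespace Cfsg.Agent.S1997

universe u
open Cfsg.Agent.Lib.Helper4.GTFus Cfsg.Agent.Lib.Helper4.GTSec Cfsg.Agent.Lib.Helper4.GT2 Cfsg.Agent.S1959 Cfsg.Agent.S1963 Cfsg.Agent.Lib.Lead.Conj

/-- Let p be a prime, G a finite group with Sylow p-subgroup S, and W₁, W₂ two isomorphism-invariant p-group functors (W assigns to every group Q a subgroup W(Q), nontrivial whenever Q is a nontrivial finite p-group, and every isomorphism from a finite p-group Q onto a group R carries W(Q) onto W(R)). Suppose that G* = C_{G*}(Ω₁Z(S*)) N_{G*}(W₁(S*)) = C_{G*}(Ω₁Z(S*)) N_{G*}(W₂(S*)) = N_{G*}(W₁(S*)) N_{G*}(W₂(S*)) whenever G* = K/R is a section of G with C_{G*}(O_p(G*)) ≤ O_p(G*) and S* is a Sylow p-subgroup of G*, where Ω₁Z denotes the subgroup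 generated by the elements of order dividing p in the centre. Suppose also Ω₁Z(S) ≤ W₁(S) ∩ W₂(S), and let A be the normal closure of Ω₁Z(S) in N_G(W₁(S)). Then A is an elementary abelian subgroup of S, strongly closed in S with respect to G, and A controls strong fusion in G. -/
theorem result {G : Type u} [Group G] [Finite G] {p : ℕ} [Fact p.Prime] (S : Sylow p G) (W₁ W₂ : ∀ (Q : Type u) [Group Q], Subgroup Q) (hW₁ : Cfsg.IsCharPFunctor.{u} p W₁) (hW₂ : Cfsg.IsCharPFunctor.{u} p W₂) (hfac : ∀ (K R : Subgroup G) [hR : (R.subgroupOf K).Normal], Subgroup.centralizer ((Cfsg.pCore p (↥K ⧸ R.subgroupOf K) : Subgroup (↥K ⧸ R.subgroupOf K)) : Set (↥K ⧸ R.subgroupOf K)) ≤ Cfsg.pCore p (↥K ⧸ R.subgroupOf K) → ∀ T : Sylow p (↥K ⧸ R.subgroupOf K), (∀ x : (↥K ⧸ R.subgroupOf K), ∃ a ∈ Subgroup.centralizer ((Cfsg.omegaOne p ((T : Subgroup (↥K ⧸ R.subgroupOf K)) ⊓ Subgroup.centralizer (((T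 : Subgroup (↥K ⧸ R.subgroupOf K)) : Subgroup (↥K ⧸ R.subgroupOf K)) : Set (↥K ⧸ R.subgroupOf K))) : Subgroup (↥K ⧸ R.subgroupOf K)) : Set (↥K ⧸ R.subgroupOf K)), ∃ b ∈ Subgroup.normalizer ((Cfsg.inducedFunctor (G := (↥K ⧸ R.subgroupOf K)) W₁ (T : Subgroup (↥K ⧸ R.subgroupOf K)) : Subgroup (↥K ⧸ R.subgroupOf K)) : Set (↥K ⧸ R.subgroupOf K)), x = a * b) ∧ (∀ x : (↥K ⧸ R.subgroupOf K), ∃ a ∈ Subgroup.centralizer ((Cfsg.omegaOne p ((T : Subgroup (↥K ⧸ R.subgroupOf K)) ⊓ Subgroup.centralizer (((T : Subgroup (↥K ⧸ R.subgroupOf K)) : Subgroup (↥K ⧸ R.subgroupOf K)) : Set (↥K ⧸ R.subgroupOf K))) : Subgroup (↥K ⧸ R.subgroupOf K)) : Set (↥K ⧸ R.subgroupOf K)), ∃ b ∈ Subgroup.normalizer ((Cfsg.inducedFunctor (G := (↥K ⧸ R.subgroupOf K)) W₂ (T : Subgroup (↥K ⧸ R.subgroupOf K)) : Subgroup (↥K ⧸ R.subgroupOf K)) : Set (↥K ⧸ R.subgroupOf K)), x = a * b) ∧ (∀ x : (↥K ⧸ R.subgroupOf K), ∃ a ∈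 Subgroup.normalizer ((Cfsg.inducedFunctor (G := (↥K ⧸ R.subgroupOf K)) W₁ (T : Subgroup (↥K ⧸ R.subgroupOf K)) : Subgroup (↥K ⧸ R.subgroupOf K)) : Set (↥K ⧸ R.subgroupOf K)), ∃ b ∈ Subgroup.normalizer ((Cfsg.inducedFunctor (G := (↥K ⧸ R.subgroupOf K)) W₂ (T : Subgroup (↥K ⧸ R.subgroupOf K)) : Subgroup (↥K ⧸ R.subgroupOf K)) : Set (↥K ⧸ R.subgroupOf K)), x = a * b)) (hZ : Cfsg.omegaOne p ((S : Subgroup G) ⊓ Subgroup.centralizer (((S : Subgroup G) : Subgroup G) : Set G)) ≤ Cfsg.inducedFunctor (G := G) W₁ (S : Subgroup G) ⊓ Cfsg.inducedFunctor (G := G) W₂ (S : Subgroup G)) (N₁ : Subgroup G) (hN₁ : N₁ = Subgroup.normalizer ((Cfsg.inducedFunctor (G := G) W₁ (S : Subgroup G) : Subgroup G) : Set G)) (A : Subgroup G) (hA : A = (Subgroup.normalClosure (((Cfsg.omegaOne p ((S : Subgroup G) ⊓ Subgroup.centralizer (((S : Subgroup G) : Subgroup G) : Set G))).subgroupOf N₁ : Subgroup ↥N₁) :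 Set ↥N₁)).map N₁.subtype) : A ≤ (S : Subgroup G) ∧ Cfsg.IsElementaryAbelian p A ∧ Cfsg.IsStronglyClosed A (S : Subgroup G) ∧ Cfsg.ControlsStrongFusion p A := by
  subst hN₁
  have hW₁2 := pFunctor2_induced W₁ hW₁
  have hW₂2 := pFunctor2_induced W₂ hW₂
  set Z : Subgroup G := Cfsg.omegaOne p ((S : Subgroup G) ⊓ Subgroup.centralizer (((S : Subgroup G) : Subgroup G) : Set G))
    with hZdef
  set V₁ : Subgroup G := Cfsg.inducedFunctor (G := G) W₁ (S : Subgroup G) with hV₁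
  set V₂ : Subgroup G := Cfsg.inducedFunctor (G := G) W₂ (S : Subgroup G) with hV₂
  set N₁ : Subgroup G := Subgroup.normalizer (V₁ : Set G) with hN₁
  set N₂ : Subgroup G := Subgroup.normalizer (V₂ : Set G) with hN₂
  have hA' : A = ncIn N₁ Z := hA
  have hV₁S : V₁ ≤ (S : Subgroup G) := hW₁2.le G _ S.isPGroup'
  have hV₂S : V₂ ≤ (S : Subgroup G) := hW₂2.le G _ S.isPGroup'
  have hSN₁ : (S : Subgroup G) ≤ N₁ :=
    Subgroup.le_normalizer.trans (normalizer_le_normalizer_W2 hW₁2 _ S.isPGroup')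
  have hSN₂ : (S : Subgroup G) ≤ N₂ :=
    Subgroup.le_normalizer.trans (normalizer_le_normalizer_W2 hW₂2 _ S.isPGroup')
  have hZS : Z ≤ (S : Subgroup G) := (omegaOneCenter_le _).trans inf_le_left
  have F₁ : ∀ x ∈ N₁, ∃ a ∈ N₁ ⊓ Subgroup.centralizer (Z : Set G), ∃ b ∈ N₁ ⊓ N₂, x = a * b :=
    cz_factorization W₂ hW₂ S (fun K R hR hc T => (hfac K R hc T).2.1) _ N₁ V₁ hSN₁ hV₁S
      (hZ.trans inf_le_left) le_rfl rfl
  have F₂ : ∀ x ∈ N₂, ∃ a ∈ N₂ ⊓ Subgroup.centralizer (Z : Set G), ∃ b ∈ N₂ ⊓ N₁, x = a * b :=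
    cz_factorization W₁ hW₁ S (fun K R hR hc T => (hfac K R hc T).1) _ N₂ V₂ hSN₂ hV₂S
      (hZ.trans inf_le_right) le_rfl rfl
  have hZN : Z ≤ N₁ ⊓ N₂ := hZS.trans (le_inf hSN₁ hSN₂)
  have hAN₂ : N₂ ≤ Subgroup.normalizer (A : Set G) := by rw [hA']; exact ncIn_normalized hZN F₁ F₂
  have hAN₁ : N₁ ≤ Subgroup.normalizer (A : Set G) := by rw [hA']; exact ncIn_le_normalizer N₁ Z
  -- `A` lies in `Ω₁Z(W₁(S))`
  set B₀ : Subgroup G := Cfsg.omegaOne p (V₁ ⊓ Subgroup.centralizer (V₁ : Set G)) with hB₀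
  have hB₀le := omegaOneCenter_le (p := p) V₁
  have hZB₀ : Z ≤ B₀ := by
    rw [hZdef]
    unfold Cfsg.omegaOne
    rw [Subgroup.closure_le]
    intro x hx
    apply Subgroup.subset_closure
    have hxZ : x ∈ Z := Subgroup.subset_closure hx
    exact ⟨⟨(hZ hxZ).1, Subgroup.centralizer_le hV₁S hx.1.2⟩, hx.2⟩
  have hN₁B₀ : N₁ ≤ Subgroup.normalizer (B₀ : Set G) := by
    intro n hn
    apply mem_normalizer_of_cj_le
    rw [hB₀]
    unfold cj Cfsg.omegaOne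
    rw [MonoidHom.map_closure, Subgroup.closure_le]
    rintro _ ⟨y, ⟨hy, hyp⟩, rfl⟩
    apply Subgroup.subset_closure
    refine ⟨⟨(Subgroup.mem_normalizer_iff.mp hn y).mp hy.1, ?_⟩, ?_⟩
    · exact (Subgroup.mem_normalizer_iff.mp (normalizer_le_normalizer_centralizer' V₁ hn) y).mp hy.2
    · show (n * y * n⁻¹) ^ p = 1
      rw [conj_pow, hyp, mul_one, mul_inv_cancel]
  have hAB₀ : A ≤ B₀ := by rw [hA']; exact ncIn_le hZB₀ hN₁B₀
  have hB₀el : Cfsg.IsElementaryAbelian p B₀ := omegaOneCenter_elem V₁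
  have hAS : A ≤ (S : Subgroup G) := hAB₀.trans (hB₀le.trans (inf_le_left.trans hV₁S))
  have hAel : Cfsg.IsElementaryAbelian p A := by
    refine ⟨⟨⟨fun a b => Subtype.ext ?_⟩⟩, fun a ha => hB₀el.2 a (hAB₀ ha)⟩
    exact (Subgroup.mem_centralizer_iff.mp (hB₀le (hAB₀ b.2)).2) a (hB₀le (hAB₀ a.2)).1
  -- control of strong fusion
  obtain ⟨h𝓦, hfam⟩ := pair_control W₁ W₂ hW₁ hW₂ (fun K R hR hc T => (hfac K R hc T).2.2)
  have hctl : ∀ A' : Set G, A' ⊆ ((S : Subgroup G) : Set G) →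
      Cfsg.ControlsStrongFusionOf (Subgroup.normalizer (A : Set G)) (S : Subgroup G) A' := by
    intro A' hA'
    refine ⟨hA', fun g hgA' => ?_⟩
    have hch := ch_of_top h𝓦 S hfam hA' hgA'
    obtain ⟨x, hx, hxa⟩ := ch_mem_of_le (L := Subgroup.normalizer (A : Set G)) (by
      rintro _ ⟨W', (rfl | rfl), rfl⟩
      · exact hAN₁
      · exact hAN₂) hch
    exact ⟨x, hx, fun a ha => (hxa a ha).symm⟩
  refine ⟨hAS, hAel, ⟨hAS, ?_⟩, ⟨S, hAS, hctl⟩⟩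
  intro x hx g hg
  obtain ⟨-, h2⟩ := hctl {x} (by
    intro y hy
    rw [Set.mem_singleton_iff] at hy
    rw [hy]; exact hAS hx)
  obtain ⟨y, hy, hya⟩ := h2 g (by
    rintro _ ⟨a, ha, rfl⟩
    rw [Set.mem_singleton_iff] at ha
    rw [ha]; exact hg)
  rw [hya x rfl]
  exact (Subgroup.mem_normalizer_iff.mp hy x).mp hx

end Cfsg.Agent.S1997
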