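import Cfsg.Statements.S1998
import Mathlib
import Cfsg.Agent.Lib.Lead.GTTransfer3
import Cfsg.Agent.Lib.Lead.EngelTransfer

set_option autoImplicit false
set_option linter.style.haveILetI false
set_option linter.unusedVariables false
universe u
open Cfsg

namespace Cfsg.Agent.S1998

open Cfsg.Agent.Lib.Helper4.GTFus Cfsg.Agent.Lib.Helper4.GTSec Cfsg.Agent.Lib.Helper4.GT2
  Cfsg.Agent.Lib.Lead.GTTransfer Cfsg.Agent.Lib.Lead.EngelTransfer Cfsg.Agent.Lib.Helper7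
  Cfsg.Agent.Lib.Lead.Conj
open scoped commutatorElement

/-- if all commutators `[g, y]`, `y ∈ P`, lie in `T₁ ⊇ S'`, then `P ∩ G' ≤ T₁` -/
theorem inf_commutator_le_of_central_mod {p : ℕ} [Fact p.Prime] {X : Type*} [Group X] [Finite X]
    (S : Sylow p X) (P T₁ : Subgroup X) (hPS : P ≤ (S : Subgroup X)) (hT₁S : T₁ ≤ (S : Subgroup X))
    (hST₁ : ⁅(S : Subgroup X), (S : Subgroup X)⁆ ≤ T₁)
    (hcomm : ∀ (g : X), ∀ y ∈ P, ⁅g, y⁆ ∈ T₁) :
    P ⊓ ⁅(⊤ : Subgroup X), ⊤⁆ ≤ T₁ := by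
  intro x hx
  set Dq : Subgroup (Abelianization ↥(S : Subgroup X)) :=
    (T₁.subgroupOf (S : Subgroup X)).map Abelianization.of with hDq
  set φ : ↥(S : Subgroup X) →* Abelianization ↥(S : Subgroup X) ⧸ Dq :=
    (QuotientGroup.mk' Dq).comp Abelianization.of with hφ
  have hφT : ∀ (y : X) (hy : y ∈ (S : Subgroup X)), y ∈ T₁ → φ ⟨y, hy⟩ = 1 := by
    intro y hy hyT
    show ((Abelianization.of ⟨y, hy⟩ : Abelianization ↥(S : Subgroup X)) :
      Abelianization ↥(S : Subgroup X) ⧸ Dq) = 1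
    rw [QuotientGroup.eq_one_iff]
    exact ⟨⟨y, hy⟩, Subgroup.mem_subgroupOf.mpr hyT, rfl⟩
  have hφker : ∀ y : ↥(S : Subgroup X), φ y = 1 → (y : X) ∈ T₁ := by
    intro y hy
    have h2 : (Abelianization.of y : Abelianization ↥(S : Subgroup X)) ∈ Dq :=
      (QuotientGroup.eq_one_iff _).mp hy
    obtain ⟨t, ht, hty⟩ := h2
    have h3 : t⁻¹ * y ∈ commutator ↥(S : Subgroup X) := by
      rw [← Abelianization.ker_of, MonoidHom.mem_ker, map_mul, map_inv, hty, inv_mul_cancel]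
    have h4 : (t : X)⁻¹ * (y : X) ∈ ⁅(S : Subgroup X), (S : Subgroup X)⁆ := by
      rw [← Subgroup.map_subtype_commutator]
      exact ⟨_, h3, rfl⟩
    have e : (y : X) = (t : X) * ((t : X)⁻¹ * (y : X)) := by group
    rw [e]
    exact T₁.mul_mem (Subgroup.mem_subgroupOf.mp ht) (hST₁ h4)
  have hxS : x ∈ (S : Subgroup X) := hPS hx.1
  have hstab : ∀ (n : ℕ) (g : X) (hg : g⁻¹ * (((⟨x, hxS⟩ : ↥(S : Subgroup X)) : X) ^ n) * g ∈ (S : Subgroup X)),
      φ ⟨g⁻¹ * (((⟨x, hxS⟩ : ↥(S : Subgroup X)) : X) ^ n) * g, hg⟩ =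
        φ ((⟨x, hxS⟩ : ↥(S : Subgroup X)) ^ n) := by
    intro n g hg
    have hxn : x ^ n ∈ P := P.pow_mem hx.1 n
    have hc : ⁅g⁻¹, x ^ n⁆ ∈ T₁ := hcomm g⁻¹ _ hxn
    have hcS : ⁅g⁻¹, x ^ n⁆ ∈ (S : Subgroup X) := hT₁S hc
    have e : (⟨g⁻¹ * (((⟨x, hxS⟩ : ↥(S : Subgroup X)) : X) ^ n) * g, hg⟩ : ↥(S : Subgroup X)) =
        (⟨⁅g⁻¹, x ^ n⁆, hcS⟩ : ↥(S : Subgroup X)) * (⟨x, hxS⟩ : ↥(S : Subgroup X)) ^ n := by
      apply Subtype.ext
      simp only [Subgroup.coe_mul, Subgroup.coe_pow, commutatorElement_def]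
      group
    rw [e, map_mul, hφT _ hcS hc, one_mul]
  have htr := transfer_pow_of_stable_elem φ ⟨x, hxS⟩ hstab
  have h1 : MonoidHom.transfer φ x = 1 := Abelianization.commutator_subset_ker _ hx.2
  have h3 : φ ⟨x, hxS⟩ ^ (S : Subgroup X).index = 1 := by
    rw [← htr]; exact h1
  obtain ⟨a, ha⟩ := S.isPGroup' ⟨x, hxS⟩
  have h4 : φ ⟨x, hxS⟩ ^ p ^ a = 1 := by rw [← map_pow, ha, map_one]
  have hp : p.Prime := Fact.out
  have hcop : Nat.Coprime (p ^ a) (S : Subgroup X).index :=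
    Nat.Coprime.pow_left a ((Nat.Prime.coprime_iff_not_dvd hp).mpr S.not_dvd_index)
  have h5 : orderOf (φ ⟨x, hxS⟩) = 1 :=
    Nat.Coprime.eq_one_of_dvd (Nat.Coprime.coprime_dvd_left (orderOf_dvd_of_pow_eq_one h4) hcop)
      (orderOf_dvd_of_pow_eq_one h3)
  rw [orderOf_eq_one_iff] at h5
  exact hφker _ h5

theorem result {G : Type u} [Group G] [Finite G] {p : ℕ} [Fact p.Prime] (S : Sylow p G) (𝓦 : Set (∀ (Q : Type u) [Group Q], Subgroup Q)) (h𝓦 : ∀ W ∈ 𝓦, Cfsg.IsCharPFunctor.{u} p W) (hne : 𝓦.Nonempty) (hsec : ∀ (K R : Subgroup G) [hR : (R.subgroupOf K).Normal], (K = ⊤ → R ≠ ⊥) → Cfsg.FamilyControlsTransferIn p ((fun W => Cfsg.inducedFunctor (G := (↥K ⧸ R.subgroupOf K)) W) '' 𝓦) ⊤) (hG : ¬ Cfsg.FamilyControlsTransferIn p ((fun W => Cfsg.inducedFunctor (G := G) W) '' 𝓦) ⊤) (T M : Subgroup G) (hT : T = (⨆ W ∈ 𝓦, (S : Subgroup G) ⊓ ⁅Subgroup.normalizer ((Cfsg.inducedFunctor (G := G) W (S : Subgroup G)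 : Subgroup G) : Set G), Subgroup.normalizer ((Cfsg.inducedFunctor (G := G) W (S : Subgroup G) : Subgroup G) : Set G)⁆)) (hM : M = Subgroup.normalizer ((T ⊓ Cfsg.pCore p G : Subgroup G) : Set G)) : Subgroup.centralizer ((Cfsg.pCore p G : Subgroup G) : Set G) ≤ Cfsg.pCore p G ∧ (M ≠ ⊤ ∧ ∀ H : Subgroup G, (S : Subgroup G) ≤ H → H ≠ ⊤ → H ≤ M) ∧ (⁅Cfsg.pCore p G, M⁆ ≤ Cfsg.pCore p G ⊓ ⁅M, M⁆ ∧ Cfsg.pCore p G ⊓ ⁅M, M⁆ ≤ Cfsg.pCore p G ⊓ T) ∧ ∀ u : G, u ∈ (S : Subgroup G) → u ∉ Cfsg.pCore p G → ∃ U V : Subgroup G, Cfsg.IsChiefFactor U V ∧ U ≤ Cfsg.pCore p G ∧ ¬ Cfsg.iterCommutator U (Subgroup.zpowers u) (p - 1) ≤ V := by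
  have hG' : ¬ FamilyControlsTransferIn p (Ind 𝓦 G) ⊤ := hG
  -- the proper sections
  have ih : ∀ (Y : Type u) [Group Y] [Finite Y], Nat.card Y < Nat.card G → IsSec G Y →
      FamilyControlsTransferIn p (Ind 𝓦 Y) ⊤ := by
    intro Y _ _ hcard hY
    obtain ⟨K, R, hR, ⟨e⟩⟩ := isSec_equiv G Y hY
    haveI := hR
    have hcond : K = ⊤ → R ≠ ⊥ := by
      rintro rfl rfl
      have h1 : Nat.card (↥(⊤ : Subgroup G) ⧸ (⊥ : Subgroup G).subgroupOf ⊤) = Nat.card G := by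
        have h2 : ((⊥ : Subgroup G).subgroupOf ⊤) = ⊥ := by simp
        have h3 := Subgroup.card_eq_card_quotient_mul_card_subgroup ((⊥ : Subgroup G).subgroupOf ⊤)
        rw [h2, Subgroup.card_bot, mul_one, Subgroup.card_top] at h3
        rw [h2]
        convert h3.symm using 2
      rw [← h1, Nat.card_congr e.toEquiv] at hcard
      exact lt_irrefl _ hcard
    exact ft_equiv h𝓦 e.symm (hsec K R hcond)
  haveI hPn : (Cfsg.pCore p G).Normal := Cfsg.Agent.H1.pCore_normal p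
  set P := Cfsg.pCore p G with hP
  have hPp : IsPGroup p ↥P := Cfsg.Agent.H1.pCore_isPGroup p
  have hPS : P ≤ (S : Subgroup G) := hPp.le_sylow_of_normal S
  have hPcore : ∀ Q : Subgroup G, Q.Normal → IsPGroup p ↥Q → Q ≤ P :=
    fun Q hQn hQp => Cfsg.Agent.H1.le_pCore hQn hQp
  have hFT : Foc 𝓦 G (S : Subgroup G) ⊤ = T := by
    rw [hT]
    unfold Foc
    simp only [top_inf_eq]
  have hnctl : ¬ ((S : Subgroup G) ⊓ ⁅(⊤ : Subgroup G), ⊤⁆ ≤ Foc 𝓦 G (S : Subgroup G) ⊤) :=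
    fun h => hG' (ft_of_ctl S h)
  have hsub : ∀ L : Subgroup G, L ≠ ⊤ → (S : Subgroup G) ≤ L →
      (S : Subgroup G) ⊓ ⁅L, L⁆ ≤ Foc 𝓦 G (S : Subgroup G) ⊤ := by
    intro L hL hSL
    have h1 : Nat.card ↥L < Nat.card G := by
      refine lt_of_le_of_ne (Nat.le_of_dvd Nat.card_pos (Subgroup.card_subgroup_dvd_card L)) ?_
      intro h
      exact hL ((Subgroup.card_eq_iff_eq_top L).mp h)
    exact le_foc_of_subgroup h𝓦 S L hSL (ih ↥L h1 (isSec_sub G G L (isSec_self G)))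
  -- (1) constrained
  have hc : Subgroup.centralizer ((P : Subgroup G) : Set G) ≤ P := by
    by_contra hc
    exact hG' (main_step h𝓦 G G (isSec_self G) ih (fun hc' => absurd hc' hc))
  -- `P ≠ S`
  have hPneS : P ≠ (S : Subgroup G) := by
    intro hPS'
    apply hnctl
    obtain ⟨W, hW⟩ := hne
    have hW2 := pFunctor2_induced W (h𝓦 W hW)
    have h1 := le_foc (𝓦 := 𝓦) G (S : Subgroup G) ⊤ (W := W) hW
    have hSn : (S : Subgroup G).Normal := by rw [← hPS']; exact hPn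
    have h2 : Subgroup.normalizer ((Cfsg.inducedFunctor (G := G) W (S : Subgroup G) : Subgroup G) : Set G) = ⊤ := by
      rw [eq_top_iff]
      refine le_trans ?_ (normalizer_le_normalizer_W2 hW2 (S : Subgroup G) S.isPGroup')
      rw [Subgroup.normalizer_eq_top_iff.mpr hSn]
    rw [h2, top_inf_eq] at h1
    exact h1
  have hPbot : P ≠ ⊥ := by
    intro hb
    apply hPneS
    rw [hb] at hc ⊢
    have h1 : (⊤ : Subgroup G) ≤ ⊥ := by
      refine le_trans ?_ hc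
      intro x _
      rw [Subgroup.mem_centralizer_iff]
      intro y hy
      have : y = 1 := hy
      rw [this]; simp
    symm
    rw [eq_bot_iff]
    exact le_top.trans h1
  have hq : FamilyControlsTransferIn p (Ind 𝓦 (G ⧸ P)) ⊤ := by
    have h1 : Nat.card (G ⧸ P) < Nat.card G := by
      rw [Subgroup.card_eq_card_quotient_mul_card_subgroup P]
      have h2 : 1 < Nat.card ↥P := (Subgroup.one_lt_card_iff_ne_bot P).mpr hPbot
      have h3 : 0 < Nat.card (G ⧸ P) := Nat.card_pos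
      nlinarith
    exact ih (G ⧸ P) h1 (isSec_quot G G P (isSec_self G))
  have hquot := quot_step h𝓦 S P hPp hPS hPneS hPcore hq hsub
  -- the key failure
  have hkey : ¬ (P ⊓ ⁅(⊤ : Subgroup G), ⊤⁆ ≤ Foc 𝓦 G (S : Subgroup G) ⊤) :=
    fun h => hnctl (hquot.trans (sup_le le_rfl h))
  have hStop : (S : Subgroup G) ≠ ⊤ := by
    intro h
    apply hPneS
    apply le_antisymm hPS
    apply hPcore _ _ S.isPGroup'
    rw [h]; infer_instance
  have hSST : ⁅(S : Subgroup G), (S : Subgroup G)⁆ ≤ T := by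
    rw [← hFT]
    exact (le_inf (commutator_self_le _) le_rfl).trans (hsub _ hStop le_rfl)
  have hTS : T ≤ (S : Subgroup G) := by
    rw [← hFT]; exact (foc_le G _ _).trans inf_le_left
  -- commutators with proper subgroups containing `S`
  have hcommH : ∀ H : Subgroup G, (S : Subgroup G) ≤ H → H ≠ ⊤ → ∀ h ∈ H, ∀ y ∈ P, ⁅h, y⁆ ∈ T ⊓ P := by
    intro H hSH hH h hh y hy
    have h1 : ⁅h, y⁆ ∈ P := by
      rw [commutatorElement_def]
      exact P.mul_mem (hPn.conj_mem y hy h) (P.inv_mem hy)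
    have h2 : ⁅h, y⁆ ∈ ⁅H, H⁆ := Subgroup.commutator_mem_commutator hh (hSH (hPS hy))
    refine ⟨?_, h1⟩
    rw [← hFT]
    exact hsub H hH hSH ⟨hPS h1, h2⟩
  have hHM : ∀ H : Subgroup G, (S : Subgroup G) ≤ H → H ≠ ⊤ → H ≤ M := by
    intro H hSH hH h hh
    rw [hM]
    apply mem_normalizer_of_conj_mem
    intro y hy
    have h1 := hcommH H hSH hH h hh y hy.2
    have e : h * y * h⁻¹ = ⁅h, y⁆ * y := by rw [commutatorElement_def]; group
    rw [e]
    exact Subgroup.mul_mem _ h1 hy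
  have hSM : (S : Subgroup G) ≤ M := hHM _ le_rfl hStop
  have hMtop : M ≠ ⊤ := by
    intro hMt
    apply hkey
    rw [hFT]
    have hDn : (T ⊓ P).Normal := by
      rw [← Subgroup.normalizer_eq_top_iff, ← hM]; exact hMt
    -- the subgroup acting trivially on `P / D`
    set C : Subgroup G := (Subgroup.centralizer ((P.map (QuotientGroup.mk' (T ⊓ P)) : Subgroup (G ⧸ (T ⊓ P))) :
      Set (G ⧸ (T ⊓ P)))).comap (QuotientGroup.mk' (T ⊓ P)) with hC
    have hmemC : ∀ g : G, g ∈ C ↔ ∀ y ∈ P, ⁅g⁻¹, y⁻¹⁆ ∈ T ⊓ P := by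
      intro g
      rw [hC, Subgroup.mem_comap, Subgroup.mem_centralizer_iff]
      constructor
      · intro h y hy
        have h1 := h _ (Subgroup.mem_map_of_mem _ hy)
        rw [← map_mul, ← map_mul] at h1
        have h2 := QuotientGroup.eq.mp h1
        have e : ⁅g⁻¹, y⁻¹⁆ = (y * g)⁻¹ * (g * y) := by rw [commutatorElement_def]; group
        rw [e]; exact h2
      · rintro h _ ⟨y, hy, rfl⟩
        rw [← map_mul, ← map_mul]
        apply QuotientGroup.eq.mpr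
        have e : ⁅g⁻¹, y⁻¹⁆ = (y * g)⁻¹ * (g * y) := by rw [commutatorElement_def]; group
        rw [← e]; exact h y hy
    haveI hPbn : (P.map (QuotientGroup.mk' (T ⊓ P))).Normal :=
      hPn.map _ (QuotientGroup.mk'_surjective _)
    haveI hCn : C.Normal := by
      rw [hC]
      exact Subgroup.Normal.comap Subgroup.normal_centralizer _
    have hHC : ∀ H : Subgroup G, (S : Subgroup G) ≤ H → H ≠ ⊤ → H ≤ C := by
      intro H hSH hH h hh
      rw [hmemC]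
      intro y hy
      exact hcommH H hSH hH h⁻¹ (H.inv_mem hh) y⁻¹ (P.inv_mem hy)
    have hSC : (S : Subgroup G) ≤ C := hHC _ le_rfl hStop
    have hNS : Subgroup.normalizer (((S : Subgroup G) : Subgroup G) : Set G) ≠ ⊤ := by
      intro h
      apply hPneS
      apply le_antisymm hPS
      exact hPcore _ (Subgroup.normalizer_eq_top_iff.mp h) S.isPGroup'
    have hNSC : Subgroup.normalizer (((S : Subgroup G) : Subgroup G) : Set G) ≤ C :=
      hHC _ Subgroup.le_normalizer hNS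
    have hfr := Sylow.normalizer_sup_eq_top' S hSC
    have hCtop : C = ⊤ := by
      rw [eq_top_iff, ← hfr]
      exact sup_le hNSC le_rfl
    have hall : ∀ (g : G), ∀ y ∈ P, ⁅g, y⁆ ∈ T := by
      intro g y hy
      have hg : g⁻¹ ∈ C := by rw [hCtop]; trivial
      have := (hmemC g⁻¹).mp hg y⁻¹ (P.inv_mem hy)
      rw [inv_inv, inv_inv] at this
      exact this.1
    exact inf_commutator_le_of_central_mod S P T hPS hTS hSST hall
  refine ⟨hc, ⟨hMtop, hHM⟩, ⟨?_, ?_⟩, ?_⟩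
  · exact le_inf (Subgroup.commutator_le_left P M)
      (Subgroup.commutator_mono (hPS.trans hSM) le_rfl)
  · refine le_inf inf_le_left ?_
    rw [← hFT]
    exact (inf_le_inf_right _ hPS).trans (hsub M hMtop hSM)
  · intro u huS huP
    by_contra hcon
    push Not at hcon
    have hu : Eng p P u := fun U V hUV hUP => hcon U V hUV hUP
    apply hkey
    set 𝒱 : Set G := {v | v ∈ (S : Subgroup G) ∧ Eng p P v} with h𝒱
    have h𝒱S : 𝒱 ⊆ (S : Subgroup G) := fun v hv => hv.1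
    have h𝒱conj : ∀ v ∈ 𝒱, ∀ g : G, g⁻¹ * v * g ∈ (S : Subgroup G) → g⁻¹ * v * g ∈ 𝒱 := by
      intro v hv g hg
      refine ⟨hg, ?_⟩
      have := hv.2.conj g⁻¹
      rwa [inv_inv] at this
    have h𝒱inv : ∀ v ∈ 𝒱, v⁻¹ ∈ 𝒱 := fun v hv => ⟨Subgroup.inv_mem _ hv.1, hv.2.inv⟩
    have h𝒱eng : ∀ v ∈ 𝒱, Eng p P v := fun v hv => hv.2
    have hu𝒱 : u ∈ 𝒱 := ⟨huS, hu⟩
    have hA := inf_commutator_le_of_engel S P hPp hPS 𝒱 h𝒱S h𝒱conj h𝒱inv h𝒱eng
    have hSME := sylow_le_normalizer_closure S 𝒱 h𝒱S h𝒱conj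
    have hMne : Subgroup.normalizer ((Subgroup.closure 𝒱 : Subgroup G) : Set G) ≠ ⊤ := by
      intro h
      rw [Subgroup.normalizer_eq_top_iff] at h
      apply huP
      have hES : Subgroup.closure 𝒱 ≤ (S : Subgroup G) := (Subgroup.closure_le _).mpr h𝒱S
      exact hPcore _ h (S.isPGroup'.to_le hES) (Subgroup.subset_closure hu𝒱)
    intro x hx
    have hx' : x ∈ P ⊓ commutator G := hx
    exact hsub _ hMne hSME ⟨hPS hx.1, hA hx'⟩

end Cfsg.Agent.S1998
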