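import Cfsg.Statements.S2002
import Cfsg.Agent.Lib.Helper7.PairFusion

set_option autoImplicit false
open Cfsg

namespace Cfsg.Agent.S2002

/-- Let p be a prime dividing the order of the finite group G, P a Sylow p-subgroup, W a conjugacy functor for p on G with Z(H) ≤ W(H) for every nontrivial p-subgroup H, and V a central functor (a conjugacy functor with V(H) ≤ Z(H), and V(H) ≤ V(K) whenever Z(H) ≤ Z(K)). Say that W with V controls strong fusion in a subgroup L when some Sylow p-subgroup Q of L has the property: whenever X ⊆ Q and a ∈ L with a⁻¹Xa ⊆ Q, then a = c b with c ∈ C_L(X) and b = b₁ ⋯ bₙ a product of elements each in N_L(W(Q)) or in C_L(V(Q)) such that every partial conjugate (b₁ ⋯ bₖ)⁻¹ X (b₁ ⋯ bₖ) lies in Q. If W with V controls strong fusion in N_G(H) for every subgroup H with Z(P) ≤ H ≤ P, then W with V controls strong fusion in G. -/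
theorem result {G : Type*} [Group G] [Finite G] {p : ℕ} [Fact p.Prime] (hdiv : p ∣ Nat.card G) (P : Sylow p G) (W V : Subgroup G → Subgroup G) (hW : Cfsg.IsConjugacyFunctor p W) (hV : Cfsg.IsConjugacyFunctor p V) (hWZ : ∀ H : Subgroup G, IsPGroup p ↥H → H ⊓ Subgroup.centralizer ((H : Subgroup G) : Set G) ≤ W H) (hVZ : ∀ H : Subgroup G, IsPGroup p ↥H → V H ≤ H ⊓ Subgroup.centralizer ((H : Subgroup G) : Set G)) (hVmono : ∀ H K : Subgroup G, IsPGroup p ↥H → IsPGroup p ↥K → H ≠ ⊥ → K ≠ ⊥ → H ⊓ Subgroup.centralizer ((H : Subgroup G) : Set G) ≤ K ⊓ Subgroup.centralizer ((K : Subgroup G) : Set G) → V H ≤ V K) (hloc : ∀ H : Subgroup G, (P : Subgroup G) ⊓ Subgroup.centralizer (((P : Subgroup G) : Subgroup G) : Set G) ≤ H → H ≤ (P : Subgroup G) → ∃ Q : Subgroup G, Q ≤ Subgroup.normalizer ((H : Subgroup G) : Set G) ∧ IsPGroup p ↥Q ∧ ¬ p ∣ (Q).relIndex (Subgroup.normalizer ((H : Subgroup G) : Set G)) ∧ ∀ (X :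 Set G) (a : G), X ⊆ Q → a ∈ Subgroup.normalizer ((H : Subgroup G) : Set G) → (fun x => a⁻¹ * x * a) '' X ⊆ Q → ∃ c ∈ Subgroup.normalizer ((H : Subgroup G) : Set G) ⊓ Subgroup.centralizer X, ∃ (n : ℕ) (b : Fin n → G), (∀ i, b i ∈ Subgroup.normalizer ((H : Subgroup G) : Set G) ⊓ Subgroup.normalizer ((W Q : Subgroup G) : Set G) ∨ b i ∈ Subgroup.normalizer ((H : Subgroup G) : Set G) ⊓ Subgroup.centralizer ((V Q : Subgroup G) : Set G)) ∧ a = c * (List.ofFn b).prod ∧ ∀ k : ℕ, k ≤ n → (fun x => (((List.ofFn b).take k).prod)⁻¹ * x * ((List.ofFn b).take k).prod) '' ((fun x => c⁻¹ * x * c) '' X) ⊆ Q) : ∃ Q : Subgroup G, IsPGroup p ↥Q ∧ ¬ p ∣ Q.index ∧ ∀ (X : Set G) (a : G), X ⊆ Q → (fun x => a⁻¹ * x * a) '' X ⊆ Q → ∃ c ∈ Subgroup.centralizer X, ∃ (n : ℕ) (b : Fin n → G), (∀ i, b i ∈ ⊤ ⊓ Subgroup.normalizer ((W Q : Subgroup G) : Set G) ∨ b i ∈ ⊤ ⊓ Subgroup.centralizer ((V Q : Subgroup G) : Set G)) ∧ a = c * (List.ofFn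 b).prod ∧ ∀ k : ℕ, k ≤ n → (fun x => (((List.ofFn b).take k).prod)⁻¹ * x * ((List.ofFn b).take k).prod) '' ((fun x => c⁻¹ * x * c) '' X) ⊆ Q := by
  classical
  have hP1 : (P : Subgroup G) ≠ ⊥ := P.ne_bot_of_dvd_card hdiv
  refine ⟨(P : Subgroup G), P.isPGroup', P.not_dvd_index, ?_⟩
  intro X a hX haX
  -- the local hypotheses in list form
  have hlocL : ∀ H : Subgroup G, Cfsg.Agent.Lib.Helper7.PairFusion.ZP P ≤ H → H ≤ (P : Subgroup G) →
      ∃ Q : Subgroup G, Q ≤ Subgroup.normalizer (H : Set G) ∧ IsPGroup p ↥Q ∧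
        ¬ p ∣ Q.relIndex (Subgroup.normalizer (H : Set G)) ∧
        Cfsg.Agent.Lib.Helper7.PairFusion.LocAt W V H Q := by
    intro H hZH hHP
    obtain ⟨Q, hQN, hQp, hQrel, hQ⟩ := hloc H hZH hHP
    refine ⟨Q, hQN, hQp, hQrel, ?_⟩
    intro Y b hY hb hbY
    obtain ⟨c, hc, n, f, hf, hbc, hk⟩ := hQ Y b hY hb hbY
    exact Cfsg.Agent.Lib.Helper7.PairFusion.Gd.of_fin ⟨c, hc.2, n, f, hf, hbc, hk⟩
  have hlocNS : ∀ H : Subgroup G, Cfsg.Agent.Lib.Helper7.PairFusion.ZP P ≤ H →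
      Cfsg.IsWellPlaced p W (P : Subgroup G) H →
      Cfsg.Agent.Lib.Helper7.PairFusion.LocAt W V H (Cfsg.Agent.S1963.NS P H) :=
    fun H hZH hH => Cfsg.Agent.Lib.Helper7.PairFusion.locAt_NS P hW hV hlocL hZH hH.1 (hH.2 0)
  have hA : Subgroup.closure X ≤ (P : Subgroup G) := (Subgroup.closure_le _).mpr hX
  have hAg : Cfsg.Agent.Lib.Lead.ConjFamily.rc a ((Subgroup.closure X : Subgroup G) : Set G) ⊆
      ((P : Subgroup G) : Set G) := by
    rw [Cfsg.Agent.Lib.Lead.ConjFamily.rc_coe]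
    have : (Subgroup.closure X).map (MulAut.conj a⁻¹).toMonoidHom ≤ (P : Subgroup G) := by
      rw [MonoidHom.map_closure, Subgroup.closure_le]
      rintro _ ⟨x, hx, rfl⟩
      apply haX
      exact ⟨x, hx, by simp [MulAut.conj_apply]⟩
    exact this
  have key := Cfsg.Agent.Lib.Helper7.PairFusion.main P hW hWZ hVmono hP1 hlocNS _
    (Subgroup.closure X) a hA hAg rfl
  have key2 := key.mono (Subgroup.subset_closure : X ⊆ _)
  obtain ⟨c, hc, n, b, hb, hab, hk⟩ := key2.to_fin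
  exact ⟨c, hc, n, b, fun i => (hb i).imp (fun h => ⟨Subgroup.mem_top _, h⟩) (fun h => ⟨Subgroup.mem_top _, h⟩),
    hab, hk⟩

end Cfsg.Agent.S2002
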