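import Cfsg.Statements.S2005
import Mathlib
import Cfsg.Agent.Lib.Helper4.GTSec

set_option autoImplicit false
open Cfsg
open scoped commutatorElement

namespace Cfsg.Agent.S2005

open Cfsg.Agent.Lib.Helper4.PNil Cfsg.Agent.Lib.Helper4.GT Cfsg.Agent.Lib.Helper4.GT2
  Cfsg.Agent.Lib.Helper4.GTSec

universe u

/-- Thompson's normal p-complement criterion in functor form. Let p be a prime, G a finite group with Sylow p-subgroup S, and W an isomorphism-invariant p-group functor (W assigns to every group Q a subgroup W(Q), nontrivial whenever Q is a nontrivial finite p-group, and every isomorphism from a finite p-group Q onto a group R carries W(Q) onto W(R)). Suppose N_G(W(S)) has a normal p-complement, and that W(S*) is normal in G* whenever G* = K/R is a section of G with C_{G*}(O_p(G*)) ≤ O_p(G*) such that G*/O_p(G*) has a normal p-complement, and S* is a Sylow p-subgroup of G* that is a maximal subgroup of G*. Then G has a normal p-complement. -/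
theorem result {G : Type u} [Group G] [Finite G] {p : ℕ} [Fact p.Prime] (W : ∀ (Q : Type u) [Group Q], Subgroup Q) (hW : Cfsg.IsCharPFunctor.{u} p W) (S : Sylow p G) (hN : Cfsg.HasNormalPComplement p ↥(Subgroup.normalizer ((Cfsg.inducedFunctor (G := G) W (S : Subgroup G) : Subgroup G) : Set G))) (hloc : ∀ (K R : Subgroup G) [hR : (R.subgroupOf K).Normal], Subgroup.centralizer ((Cfsg.pCore p (↥K ⧸ R.subgroupOf K) : Subgroup (↥K ⧸ R.subgroupOf K)) : Set (↥K ⧸ R.subgroupOf K)) ≤ Cfsg.pCore p (↥K ⧸ R.subgroupOf K) → Cfsg.HasNormalPComplement p ((↥K ⧸ R.subgroupOf K) ⧸ Cfsg.pCore p (↥K ⧸ R.subgroupOf K)) → ∀ T : Sylow p (↥K ⧸ R.subgroupOf K), IsCoatom (T : Subgroup (↥K ⧸ R.subgroupOf K)) → (Cfsg.inducedFunctor (G := (↥K ⧸ R.subgroupOf K)) W ((T : Subgroup (↥K ⧸ R.subgroupOf K)))).Normal) : Cfsg.HasNormalPComplement p G := by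
  have hW' := pFunctor2_induced W hW
  rw [← pnil_top_iff]
  rw [← pnil_iff_hasNormalPComplement] at hN
  refine gt_all2 (full := True) hW' (IsSec G) (fun X _ _ L h => isSec_sub G X L h)
    (fun X _ _ M _ h => isSec_quot G X M h) ?_ (Nat.card G) G rfl (isSec_self G) S (S : Subgroup G)
    (fun _ => rfl) ⟨le_rfl, fun x _ g hg => hg⟩ hN
  intro X _ _ hX P D hfull hD hfc hNX
  have hDP : D = (P : Subgroup X) := hfull trivial
  subst hDP
  by_cases hP : (P : Subgroup X) = ⊤
  · exact pnil_top_of_sylow_eq_top P hP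
  have hco := sylow_isCoatom P hfc hP
  obtain ⟨K, R, hR, ⟨e⟩⟩ := isSec_equiv G X hX
  haveI := hR
  have hpc : (Cfsg.pCore p X).map e.toMonoidHom = Cfsg.pCore p (↥K ⧸ R.subgroupOf K) :=
    Cfsg.Agent.Lib.Helper7.pCore_map_equiv e
  have hcentY : Subgroup.centralizer ((Cfsg.pCore p (↥K ⧸ R.subgroupOf K) :
      Subgroup (↥K ⧸ R.subgroupOf K)) : Set (↥K ⧸ R.subgroupOf K)) ≤
      Cfsg.pCore p (↥K ⧸ R.subgroupOf K) := by
    intro y hy
    have hx : e.symm y ∈ Subgroup.centralizer (Cfsg.pCore p X : Set X) := by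
      rw [Subgroup.mem_centralizer_iff]
      intro h hh
      have h1 : e h ∈ Cfsg.pCore p (↥K ⧸ R.subgroupOf K) := by
        rw [← hpc]; exact ⟨h, hh, rfl⟩
      have h2 := Subgroup.mem_centralizer_iff.mp hy (e h) h1
      have h3 := congrArg e.symm h2
      rw [map_mul, map_mul, e.symm_apply_apply] at h3
      exact h3
    have h4 := hfc.cent hx
    rw [← hpc]
    exact ⟨e.symm y, h4, e.apply_symm_apply y⟩
  have hquotY : Cfsg.HasNormalPComplement p ((↥K ⧸ R.subgroupOf K) ⧸
      Cfsg.pCore p (↥K ⧸ R.subgroupOf K)) := by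
    haveI : (Cfsg.pCore p X).Normal := Cfsg.Agent.H9.pCore_normal p X
    haveI : (Cfsg.pCore p (↥K ⧸ R.subgroupOf K)).Normal := Cfsg.Agent.H9.pCore_normal p _
    obtain ⟨Mb, hMbn, hMbc, ⟨k, hMbk⟩, -⟩ := hfc.quot
    have h1 : PNil p (⊤ : Subgroup (X ⧸ Cfsg.pCore p X)) := by
      refine ⟨Mb, le_top, ?_, hMbc, k, ?_⟩
      · rw [Subgroup.normalizer_eq_top_iff.mpr hMbn]
      · rw [Subgroup.relIndex_top_right]; exact hMbk
    have h2 := pnil_map_equiv (QuotientGroup.congr (Cfsg.pCore p X)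
      (Cfsg.pCore p (↥K ⧸ R.subgroupOf K)) e hpc) h1
    have h3 : (⊤ : Subgroup (X ⧸ Cfsg.pCore p X)).map (QuotientGroup.congr (Cfsg.pCore p X)
        (Cfsg.pCore p (↥K ⧸ R.subgroupOf K)) e hpc).toMonoidHom = ⊤ := by
      rw [← MonoidHom.range_eq_map, MonoidHom.range_eq_top]
      exact (QuotientGroup.congr (Cfsg.pCore p X)
        (Cfsg.pCore p (↥K ⧸ R.subgroupOf K)) e hpc).surjective
    rw [h3, pnil_top_iff] at h2
    exact h2
  have hes : Function.Surjective e.toMonoidHom := e.surjective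
  have hT : ((P.mapSurjective hes : Sylow p (↥K ⧸ R.subgroupOf K)) :
      Subgroup (↥K ⧸ R.subgroupOf K)) = (P : Subgroup X).map e.toMonoidHom :=
    Sylow.coe_mapSurjective hes P
  have hTco : IsCoatom ((P.mapSurjective hes : Sylow p (↥K ⧸ R.subgroupOf K)) :
      Subgroup (↥K ⧸ R.subgroupOf K)) := by
    rw [hT]
    have h1 : (P : Subgroup X).map e.toMonoidHom = e.mapSubgroup (P : Subgroup X) := rfl
    rw [h1]
    exact (OrderIso.isCoatom_iff e.mapSubgroup _).mpr hco
  have hn := hloc K R hcentY hquotY (P.mapSurjective hes) hTco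
  rw [hT] at hn
  have hmap := hW'.map X (↥K ⧸ R.subgroupOf K) e.toMonoidHom (P : Subgroup X) P.isPGroup'
    (fun x _ hx => by
      have h1 : e x = e 1 := by rw [map_one]; exact hx
      exact e.injective h1)
  have hn' : ((WAmb W X (P : Subgroup X)).map e.toMonoidHom).Normal := by
    rw [← hmap]; exact hn
  have hn'' : (WAmb W X (P : Subgroup X)).Normal := by
    have h1 := hn'.comap e.toMonoidHom
    rw [Subgroup.comap_map_eq_self_of_injective e.injective] at h1
    exact h1
  rw [Subgroup.normalizer_eq_top_iff.mpr hn''] at hNX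
  exact hNX

end Cfsg.Agent.S2005
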