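import Cfsg.Statements.S2009
import Mathlib

set_option autoImplicit false
open Cfsg

namespace Cfsg.Agent.S2009

/-- A normal subgroup meeting the centralizer of each of three involutions `s`, `t`, `s * t`
trivially is trivial. -/
theorem core {H : Type*} [Group H] [Finite H] (N : Subgroup H) [N.Normal] (s t : H)
    (hs : s * s = 1) (ht : t * t = 1)
    (hNs : N ⊓ Subgroup.centralizer ({s} : Set H) = ⊥)
    (hNt : N ⊓ Subgroup.centralizer ({t} : Set H) = ⊥)
    (hNst : N ⊓ Subgroup.centralizer ({s * t} : Set H) = ⊥) : N = ⊥ := by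
  -- a fixed-point-free involution inverts N
  have inv : ∀ u : H, u * u = 1 → N ⊓ Subgroup.centralizer ({u} : Set H) = ⊥ →
      ∀ x ∈ N, u * x * u⁻¹ = x⁻¹ := by
    intro u hu hNu
    have hu' : u⁻¹ = u := inv_eq_of_mul_eq_one_right hu
    let φ : N → N := fun n => ⟨(n : H)⁻¹ * (u * n * u⁻¹),
      N.mul_mem (N.inv_mem n.2) (Subgroup.Normal.conj_mem inferInstance _ n.2 u)⟩
    have hφ : Function.Injective φ := by
      intro n m hnm
      have h1 : (n : H)⁻¹ * (u * n * u⁻¹) = (m : H)⁻¹ * (u * m * u⁻¹) := congrArg Subtype.val hnm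
      have h2 : (m : H) * (n : H)⁻¹ ∈ N ⊓ Subgroup.centralizer ({u} : Set H) := by
        refine Subgroup.mem_inf.mpr ⟨N.mul_mem m.2 (N.inv_mem n.2), ?_⟩
        rw [Subgroup.mem_centralizer_iff]
        intro w hw
        rw [Set.mem_singleton_iff] at hw
        subst hw
        have h3 : (m : H) * (n : H)⁻¹ = w * ((m : H) * (n : H)⁻¹) * w⁻¹ := by
          calc (m : H) * (n : H)⁻¹ = (m : H) * ((n : H)⁻¹ * (w * n * w⁻¹)) * (w * (n : H)⁻¹ * w⁻¹) := by group
            _ = (m : H) * ((m : H)⁻¹ * (w * m * w⁻¹)) * (w * (n : H)⁻¹ * w⁻¹) := by rw [h1]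
            _ = w * ((m : H) * (n : H)⁻¹) * w⁻¹ := by group
        calc w * ((m : H) * (n : H)⁻¹) = (w * ((m : H) * (n : H)⁻¹) * w⁻¹) * w := by group
          _ = (m : H) * (n : H)⁻¹ * w := by rw [← h3]
      rw [hNu, Subgroup.mem_bot] at h2
      have : (m : H) = n := by
        calc (m : H) = (m : H) * (n : H)⁻¹ * n := by group
          _ = n := by rw [h2, one_mul]
      exact Subtype.ext this.symm
    have hsurj : Function.Surjective φ := Finite.surjective_of_injective hφ
    intro x hx
    obtain ⟨n, hn⟩ := hsurj ⟨x, hx⟩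
    have hx' : x = (n : H)⁻¹ * (u * n * u⁻¹) := (congrArg Subtype.val hn).symm
    rw [hx', hu']
    calc u * ((n : H)⁻¹ * (u * n * u)) * u = (u * (n : H)⁻¹ * u) * (n : H) * (u * u) := by group
      _ = (u * (n : H)⁻¹ * u) * (n : H) := by rw [hu, mul_one]
      _ = ((n : H)⁻¹ * (u * n * u))⁻¹ := by
        rw [mul_inv_rev, mul_inv_rev, mul_inv_rev, inv_inv]
        nth_rewrite 3 [← hu']
        nth_rewrite 4 [← hu']
        rw [inv_inv]
        group
  have hsinv := inv s hs hNs
  have htinv := inv t ht hNt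
  rw [eq_bot_iff]
  intro x hx
  have hxst : x ∈ N ⊓ Subgroup.centralizer ({s * t} : Set H) := by
    refine Subgroup.mem_inf.mpr ⟨hx, ?_⟩
    rw [Subgroup.mem_centralizer_iff]
    intro w hw
    rw [Set.mem_singleton_iff] at hw
    subst hw
    have h1 : t * x * t⁻¹ = x⁻¹ := htinv x hx
    have h2 : s * x⁻¹ * s⁻¹ = x⁻¹⁻¹ := hsinv x⁻¹ (N.inv_mem hx)
    rw [inv_inv] at h2
    calc s * t * x = s * (t * x * t⁻¹) * s⁻¹ * (s * t) := by group
      _ = x * (s * t) := by rw [h1, h2]
  rw [hNst] at hxst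
  exact hxst

/-- Let H be a finite group and z an involution such that every proper normal subgroup of H meets the centralizer of z trivially, and suppose z lies in a Klein four-subgroup E of H all three of whose involutions are conjugate to z in H. Then H is simple. -/
theorem result {H : Type*} [Group H] [Finite H] (z : H) (hz : orderOf z = 2) (hN : ∀ N : Subgroup H, N.Normal → N ≠ ⊤ → N ⊓ Subgroup.centralizer ({z} : Set H) = ⊥) (E : Subgroup H) (hE : IsKleinFour ↥E) (hzE : z ∈ E) (hc : ∀ e ∈ E, e ≠ 1 → IsConj z e) : IsSimpleGroup H := by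
  classical
  have hz1 : z ≠ 1 := by
    intro h; rw [h, orderOf_one] at hz; omega
  have hzz : z * z = 1 := by
    have := pow_orderOf_eq_one z
    rw [hz, pow_two] at this; exact this
  -- pick e in E with e ≠ 1, e ≠ z
  have hcard : Nat.card E = 4 := hE.card_four
  have : ∃ e : E, e ≠ 1 ∧ e ≠ ⟨z, hzE⟩ := by
    by_contra hcon
    push Not at hcon
    have hsub : (Set.univ : Set E) ⊆ {1, ⟨z, hzE⟩} := by
      intro e _
      by_cases he : e = 1
      · left; exact he
      · right; exact hcon e he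
    have h1 : Nat.card E ≤ 2 := by
      rw [← Set.ncard_univ]
      calc (Set.univ : Set E).ncard ≤ ({1, ⟨z, hzE⟩} : Set E).ncard :=
            Set.ncard_le_ncard hsub (Set.toFinite _)
        _ ≤ 2 := Set.ncard_insert_le _ _ |>.trans (by simp)
    omega
  obtain ⟨e, he1, hez⟩ := this
  have hee : (e : H) * e = 1 := by
    have := IsKleinFour.mul_self e
    exact congrArg Subtype.val this
  have he1' : (e : H) ≠ 1 := fun h => he1 (Subtype.ext h)
  have hez' : (e : H) ≠ z := fun h => hez (Subtype.ext h)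
  have hze1 : z * (e : H) ≠ 1 := by
    intro h
    apply hez'
    calc (e : H) = z * z * e := by rw [hzz, one_mul]
      _ = z * (z * e) := by group
      _ = z := by rw [h, mul_one]
  have hzeE : z * (e : H) ∈ E := E.mul_mem hzE e.2
  -- the centralizer condition transfers along conjugacy
  have conjN : ∀ N : Subgroup H, N.Normal → N ≠ ⊤ → ∀ u : H, IsConj z u →
      N ⊓ Subgroup.centralizer ({u} : Set H) = ⊥ := by
    intro N hNn hNt u hu
    rw [isConj_iff] at hu
    obtain ⟨c, hc⟩ := hu
    rw [eq_bot_iff]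
    intro x hx
    obtain ⟨hxN, hxu⟩ := Subgroup.mem_inf.mp hx
    have h1 : c⁻¹ * x * c ∈ N ⊓ Subgroup.centralizer ({z} : Set H) := by
      refine Subgroup.mem_inf.mpr ⟨by simpa using hNn.conj_mem x hxN c⁻¹, ?_⟩
      rw [Subgroup.mem_centralizer_iff] at hxu ⊢
      intro w hw
      rw [Set.mem_singleton_iff] at hw
      subst hw
      have h2 := hxu u rfl
      rw [← hc] at h2
      calc w * (c⁻¹ * x * c) = c⁻¹ * (c * w * c⁻¹ * x) * c := by group
        _ = c⁻¹ * (x * (c * w * c⁻¹)) * c := by rw [h2]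
        _ = c⁻¹ * x * c * w := by group
    rw [hN N hNn hNt, Subgroup.mem_bot] at h1
    rw [Subgroup.mem_bot]
    calc x = c * (c⁻¹ * x * c) * c⁻¹ := by group
      _ = 1 := by rw [h1]; group
  haveI : Nontrivial H := ⟨⟨z, 1, hz1⟩⟩
  refine ⟨?_⟩
  intro N hNn
  by_cases hNt : N = ⊤
  · right; exact hNt
  · left
    haveI := hNn
    have hcomm : z * (e : H) = e * z := by
      have := (IsKleinFour.isMulCommutative (G := E)).is_comm.comm ⟨z, hzE⟩ e
      exact congrArg Subtype.val this
    refine core N z e hzz hee (hN N hNn hNt) (conjN N hNn hNt e (hc e e.2 he1'))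
      (conjN N hNn hNt (z * e) (hc _ hzeE hze1))

end Cfsg.Agent.S2009
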