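import Cfsg.Statements.S2008
import Mathlib
import Cfsg.Agent.S2009

set_option autoImplicit false
open Cfsg

namespace Cfsg.Agent.S2008

/-- Let H be a finite group and z an involution such that every proper normal subgroup of H meets the centralizer of z trivially, and suppose z lies in a Klein four-subgroup E of H all three of whose involutions are conjugate to z in H. Then H has no non-trivial abelian normal subgroup. -/
theorem result {H : Type*} [Group H] [Finite H] (z : H) (hz : orderOf z = 2) (hN : ∀ N : Subgroup H, N.Normal → N ≠ ⊤ → N ⊓ Subgroup.centralizer ({z} : Set H) = ⊥) (E : Subgroup H) (hE : IsKleinFour ↥E) (hzE : z ∈ E) (hc : ∀ e ∈ E, e ≠ 1 → IsConj z e) (N : Subgroup H) [N.Normal] (hab : IsMulCommutative ↥N) : N = ⊥ := by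
  classical
  have hsimple : IsSimpleGroup H := Cfsg.Agent.S2009.result z hz hN E hE hzE hc
  rcases hsimple.eq_bot_or_eq_top_of_normal N inferInstance with h | h
  · exact h
  · exfalso
    have hcomm : ∀ a b : H, a * b = b * a := by
      intro a b
      have ha : a ∈ N := by rw [h]; trivial
      have hb : b ∈ N := by rw [h]; trivial
      have := hab.is_comm.comm ⟨a, ha⟩ ⟨b, hb⟩
      exact congrArg Subtype.val this
    have hcard : Nat.card E = 4 := hE.card_four
    have : ∃ e : E, e ≠ 1 ∧ e ≠ ⟨z, hzE⟩ := by
      by_contra hcon
      push Not at hcon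
      have hsub : (Set.univ : Set E) ⊆ {1, ⟨z, hzE⟩} := by
        intro e _
        by_cases he : e = 1
        · left; exact he
        · right; exact hcon e he
      have h1 : Nat.card E ≤ 2 := by
        rw [← Set.ncard_univ]
        calc (Set.univ : Set E).ncard ≤ ({1, ⟨z, hzE⟩} : Set E).ncard :=
              Set.ncard_le_ncard hsub (Set.toFinite _)
          _ ≤ 2 := Set.ncard_insert_le _ _ |>.trans (by simp)
      omega
    obtain ⟨e, he1, hez⟩ := this
    have he1' : (e : H) ≠ 1 := fun h => he1 (Subtype.ext h)
    have hconj := hc e e.2 he1'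
    rw [isConj_iff] at hconj
    obtain ⟨c, hc'⟩ := hconj
    apply hez
    apply Subtype.ext
    show (e : H) = z
    rw [← hc', hcomm c z]
    group

end Cfsg.Agent.S2008
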