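import Cfsg.Statements.S2014
import Mathlib
import Cfsg.Agent.Lib.Lead.PResidual

set_option autoImplicit false
open Cfsg

namespace Cfsg.Agent.S2014

/-- Let P be a Sylow p-subgroup of a finite group G and A, C ≤ P subgroups conjugate in G, with C extremal: N_P(C) is a Sylow p-subgroup of N_G(C). Then there is g with gAg⁻¹ = C and g N_P(A) g⁻¹ ≤ N_P(C); moreover, given any h with hAh⁻¹ = C, g can be chosen so that h g⁻¹ lies in O^p(N_G(C)), the subgroup of N_G(C) generated by its elements of order prime to p. -/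
theorem result {G : Type*} [Group G] [Finite G] (p : ℕ) [Fact p.Prime] (P : Sylow p G) (A C : Subgroup G) (hA : A ≤ P) (hC : C ≤ P) (hext : ¬ p ∣ ((P : Subgroup G) ⊓ Subgroup.normalizer ((C : Subgroup G) : Set G)).relIndex (Subgroup.normalizer ((C : Subgroup G) : Set G))) (h : G) (hh : A.map (MulAut.conj h).toMonoidHom = C) : ∃ g : G, A.map (MulAut.conj g).toMonoidHom = C ∧ ((P : Subgroup G) ⊓ Subgroup.normalizer ((A : Subgroup G) : Set G)).map (MulAut.conj g).toMonoidHom ≤ (P : Subgroup G) ⊓ Subgroup.normalizer ((C : Subgroup G) : Set G) ∧ h * g⁻¹ ∈ (Cfsg.pResidual p ↥(Subgroup.normalizer ((C : Subgroup G) : Set G))).map (Subgroup.normalizer ((C : Subgroup G) : Set G)).subtype := by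
  classical
  set N : Subgroup G := Subgroup.normalizer ((C : Subgroup G) : Set G) with hN
  -- membership in a conjugate
  have mem_map : ∀ (H : Subgroup G) (k x : G), x ∈ H.map (MulAut.conj k).toMonoidHom ↔ k⁻¹ * x * k ∈ H := by
    intro H k x
    constructor
    · rintro ⟨t, ht, rfl⟩
      have : k⁻¹ * ((MulAut.conj k).toMonoidHom t) * k = t := by
        show k⁻¹ * (k * t * k⁻¹) * k = t
        group
      rw [this]; exact ht
    · intro h
      refine ⟨k⁻¹ * x * k, h, ?_⟩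
      show k * (k⁻¹ * x * k) * k⁻¹ = x
      group
  -- Q = h (N_P(A)) h⁻¹
  set Q : Subgroup G := ((P : Subgroup G) ⊓ Subgroup.normalizer ((A : Subgroup G) : Set G)).map
    (MulAut.conj h).toMonoidHom with hQ
  have hQN : Q ≤ N := by
    intro x hx
    rw [hQ, mem_map] at hx
    have hx2 := (Subgroup.mem_inf.mp hx).2
    rw [hN, Subgroup.mem_normalizer_iff]
    intro c
    rw [← hh, mem_map, mem_map]
    rw [Subgroup.mem_normalizer_iff] at hx2
    rw [hx2 (h⁻¹ * c * h)]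
    have : h⁻¹ * x * h * (h⁻¹ * c * h) * (h⁻¹ * x * h)⁻¹ = h⁻¹ * (x * c * x⁻¹) * h := by group
    rw [this]
  have hQp : IsPGroup p Q := by
    rw [hQ]
    exact (P.isPGroup'.to_le inf_le_left).map _
  -- Sylow of N
  have hRp : IsPGroup p (((P : Subgroup G) ⊓ N).subgroupOf N) :=
    (P.isPGroup'.to_le inf_le_left).comap_subtype
  let Rs : Sylow p N := hRp.toSylow hext
  have hQ'p : IsPGroup p (Q.subgroupOf N) := hQp.comap_subtype
  obtain ⟨S', hS'⟩ := hQ'p.exists_le_sylow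
  obtain ⟨n, hn⟩ := MulAction.exists_smul_eq N S' Rs
  -- decompose n = r * m
  obtain ⟨r, hr, m, hm, hnrm⟩ := Cfsg.Agent.Lib.Lead.PResidual.exists_mul (p := p)
    (((P : Subgroup G) ⊓ N).subgroupOf N) hext n
  -- n Q n⁻¹ ≤ P ⊓ N
  have hnQ : ∀ x ∈ Q, (n : G) * x * (n : G)⁻¹ ∈ (P : Subgroup G) ⊓ N := by
    intro x hx
    have hxN : x ∈ N := hQN hx
    have h1 : (⟨x, hxN⟩ : N) ∈ (S' : Subgroup N) := hS' (by rw [Subgroup.mem_subgroupOf]; exact hx)
    have h2 : n * ⟨x, hxN⟩ * n⁻¹ ∈ ((n • S' : Sylow p N) : Subgroup N) := by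
      rw [Sylow.coe_subgroup_smul, Subgroup.mem_pointwise_smul_iff_inv_smul_mem,
        MulAut.smul_def, MulAut.conj_inv_apply]
      have : n⁻¹ * (n * ⟨x, hxN⟩ * n⁻¹) * n = ⟨x, hxN⟩ := by group
      rw [this]; exact h1
    rw [hn] at h2
    have h3 : n * ⟨x, hxN⟩ * n⁻¹ ∈ ((P : Subgroup G) ⊓ N).subgroupOf N := h2
    rw [Subgroup.mem_subgroupOf] at h3
    simpa using h3
  -- m Q m⁻¹ ≤ P ⊓ N
  have hmQ : ∀ x ∈ Q, (m : G) * x * (m : G)⁻¹ ∈ (P : Subgroup G) ⊓ N := by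
    intro x hx
    have h1 := hnQ x hx
    have hr' : (r : G) ∈ (P : Subgroup G) ⊓ N := by
      rw [Subgroup.mem_subgroupOf] at hr; exact hr
    have h2 : (n : G) = (r : G) * (m : G) := by rw [hnrm]; rfl
    rw [h2] at h1
    have h3 := Subgroup.mul_mem _ (Subgroup.mul_mem _ (Subgroup.inv_mem _ hr') h1) hr'
    have h4 : (r : G)⁻¹ * ((r : G) * (m : G) * x * ((r : G) * (m : G))⁻¹) * (r : G) = (m : G) * x * (m : G)⁻¹ := by
      group
    rw [h4] at h3
    exact h3
  have hmN : (m : G) ∈ N := m.2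
  refine ⟨(m : G) * h, ?_, ?_, ?_⟩
  · -- (m h) A (m h)⁻¹ = C
    ext x
    rw [mem_map]
    have e1 : ((m : G) * h)⁻¹ * x * ((m : G) * h) = h⁻¹ * ((m : G)⁻¹ * x * (m : G)) * h := by group
    rw [e1, ← mem_map, hh]
    have hmN' : (m : G)⁻¹ ∈ Subgroup.normalizer ((C : Subgroup G) : Set G) := N.inv_mem hmN
    rw [Subgroup.mem_normalizer_iff] at hmN'
    rw [hmN' x, inv_inv]
  · intro x hx
    rw [mem_map] at hx
    have hx' : h * (((m : G) * h)⁻¹ * x * ((m : G) * h)) * h⁻¹ ∈ Q := by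
      rw [hQ, mem_map]
      have : h⁻¹ * (h * (((m : G) * h)⁻¹ * x * ((m : G) * h)) * h⁻¹) * h = ((m : G) * h)⁻¹ * x * ((m : G) * h) := by
        group
      rw [this]; exact hx
    have := hmQ _ hx'
    have e2 : (m : G) * (h * (((m : G) * h)⁻¹ * x * ((m : G) * h)) * h⁻¹) * (m : G)⁻¹ = x := by group
    rw [e2] at this
    exact this
  · refine ⟨m⁻¹, Subgroup.inv_mem _ hm, ?_⟩
    show ((m⁻¹ : N) : G) = h * ((m : G) * h)⁻¹
    rw [Subgroup.coe_inv]
    group

end Cfsg.Agent.S2014
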