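import Cfsg.Statements.S2034
import Cfsg.Agent.H9.M11Mult

set_option autoImplicit false
open Cfsg

namespace Cfsg.Agent.S2034

/-- The Schur multiplier of the Mathieu group M₁₁ (the stabiliser of a dodecad and one of its points in the automorphism group of the length-24 binary code) is trivial; here the Schur multiplier is described through stem extensions, as in the definitions: surjective homomorphisms onto the group from a finite group, whose kernel is central in that finite group and contained in that finite group's commutator subgroup. -/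
theorem result : Cfsg.HasCyclicSchurMultiplier ↥Cfsg.Spor.M11 1 := by
  obtain ⟨e⟩ := Cfsg.Agent.Lib.Helper6.Golay.M11Out.nonempty_equiv_SporM11
  have : Finite ↥Cfsg.Spor.M11 := Finite.of_equiv _ e.toEquiv
  apply Cfsg.Agent.H1.hasCyclicSchurMultiplier_one_of_ker_eq_bot
  intro Γ _ _ σ hσ
  obtain ⟨hsurj, hcen, hder⟩ := hσ
  let σ' : Γ →* Cfsg.Agent.Lib.Helper6.Golay.M11Out.G0 := e.symm.toMonoidHom.comp σ
  have hker : σ'.ker = σ.ker := by
    ext x
    rw [MonoidHom.mem_ker, MonoidHom.mem_ker]
    show e.symm (σ x) = 1 ↔ σ x = 1
    rw [MulEquiv.map_eq_one_iff]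
  have hsurj' : Function.Surjective σ' := e.symm.surjective.comp hsurj
  have := Cfsg.Agent.H9.M11Mult.ker_eq_bot σ' hsurj' (by rw [hker]; exact hcen) (by rw [hker]; exact hder)
  rw [← hker]
  exact this

end Cfsg.Agent.S2034
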