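import Cfsg.Statements.S2049
import Cfsg.Agent.Lib.Helper8.HeMult
import Cfsg.Agent.H1.StemMeta

set_option autoImplicit false
open Cfsg

namespace Cfsg.Agent.S2049

/-- The Schur multiplier of the Held group (the finitely presented group of the definitions) is trivial; here the Schur multiplier is described through stem extensions, as in the definitions: surjective homomorphisms onto the group from a finite group, whose kernel is central in that finite group and contained in that finite group's commutator subgroup. -/
theorem result : Cfsg.HasCyclicSchurMultiplier Cfsg.Spor.He 1 := by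
  have : Finite Cfsg.Spor.He := Cfsg.Agent.Lib.Helper8.HeMult.finiteHe
  apply Cfsg.Agent.H1.hasCyclicSchurMultiplier_one_of_ker_eq_bot
  intro Γ _ _ σ hσ
  exact Cfsg.Agent.Lib.Helper8.HeMult.ker_eq_bot_He σ hσ.1 hσ.2.1 hσ.2.2

end Cfsg.Agent.S2049
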