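import Cfsg.Statements.S2052
import Cfsg.Agent.Lib.Lead.ON3.C3
import Cfsg.Agent.Lib.Lead.ON3.Cover
import Cfsg.Agent.Lib.Helper6.ONSimple
import Cfsg.Agent.Lib.Helper7.ONSplitE
import Cfsg.Agent.Lib.Helper8.ONM.Final

set_option autoImplicit false
open Cfsg

namespace Cfsg.Agent.S2052

/-- The Schur multiplier of the O'Nan group (the finitely presented group of the definitions) is cyclic of order 3; here the Schur multiplier is described through stem extensions, as in the definitions: surjective homomorphisms onto the group from a finite group, whose kernel is central in that finite group and contained in that finite group's commutator subgroup. -/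
theorem result : Cfsg.HasCyclicSchurMultiplier Cfsg.Spor.ON 3 :=
  ⟨Cfsg.Agent.Lib.Lead.ON3.exists_cover Cfsg.Agent.Lib.Lead.ON3.C3.data Cfsg.Agent.Lib.Lead.ON3.C3.hmove
      Cfsg.Agent.Lib.Helper6.ONSimple.ub.1,
    fun Γ _ _ σ hσ => Cfsg.Agent.Lib.Helper7.ONSplit.on_upper_of Cfsg.Agent.Lib.Helper8.ONM.hcert_odd
      Cfsg.Agent.Lib.Helper8.ONM.hcert_two Γ σ hσ⟩

end Cfsg.Agent.S2052
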