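-- S2082 (row 2082): the outer automorphism group of the Harada–Norton group has order 2.
-- Certificate: Cfsg/Agent/Lib/Lead/HNOut (generated; permutation action on the 1539000 cosets of 2.HS:2).
import Cfsg.Statements.S2082
import Cfsg.Agent.Lib.Lead.HNOut.Out

set_option autoImplicit false
open Cfsg

namespace Cfsg.Agent.S2082

/-- The outer automorphism group of the Harada–Norton group (the finitely presented group of the definitions) has order 2. -/
theorem result : Nat.card (Cfsg.Out Cfsg.Spor.HN) = 2 := Cfsg.Agent.HNOut.card_out

end Cfsg.Agent.S2082
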