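import Cfsg.Statements.S2107
import Cfsg.Agent.Lib.Lead.MSInstE8
import Cfsg.Agent.Lib.Helper5.UC.Mult
import Cfsg.Agent.H1.StemMeta

set_option autoImplicit false
open Cfsg

namespace Cfsg.Agent.S2107

/-- Schur multipliers of the Chevalley groups of type E₈: over every finite field the Schur multiplier of E₈(q) is trivial (here the Schur multiplier is described through stem extensions, as in the definitions). -/
theorem result {F : Type*} [Field F] [Fintype F] : Cfsg.HasCyclicSchurMultiplier ↥(Cfsg.Lie.chevE8.group F) 1 := by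
  apply Cfsg.Agent.H1.hasCyclicSchurMultiplier_one_of_ker_eq_bot
  intro Γ _ _ σ hσ
  obtain ⟨hsurj, hcen, hder⟩ := hσ
  obtain ⟨e⟩ := Cfsg.Agent.Lib.Helper5.UC.exists_cover_equiv_group (K := F) (D := Cfsg.Lie.chevE8)
    (by simp)
  have hψs : Function.Surjective (e.symm.toMonoidHom.comp σ) := e.symm.surjective.comp hsurj
  have hψc : ∀ z : Γ, (e.symm.toMonoidHom.comp σ) z = 1 → ∀ y : Γ, z * y = y * z := by
    intro z hz y
    have h1 : σ z = 1 := by
      have : e.symm (σ z) = e.symm 1 := by rw [map_one]; exact hz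
      exact e.symm.injective this
    exact (Subgroup.mem_center_iff.1 (hcen (MonoidHom.mem_ker.2 h1)) y).symm
  obtain ⟨φ, hφ⟩ := Cfsg.Agent.MilnorStein.cover_splits_E8 _ hψs hψc
  apply Cfsg.Agent.Lib.Helper5.UC.ker_eq_bot_of_section σ (φ.comp e.symm.toMonoidHom) ?_ hcen hder
  intro g
  have := DFunLike.congr_fun hφ (e.symm g)
  exact e.symm.injective this

end Cfsg.Agent.S2107
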