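import Cfsg.Statements.S2111
import Mathlib
import Cfsg.Agent.Lib.Helper5.MultSz.Stem

set_option autoImplicit false
open Cfsg

namespace Cfsg.Agent.S2111

/-- Schur multipliers of the Suzuki groups: for q = 2^(2m+1) with m ≥ 2 the Schur multiplier of Sz(q) is trivial (here the Schur multiplier is described through stem extensions, as in the definitions); q = 8 is exceptional. -/
theorem result {F : Type*} [Field F] [Fintype F] {m : ℕ} (hm : 2 ≤ m) (hF : Fintype.card F = 2 ^ (2 * m + 1)) : Cfsg.HasCyclicSchurMultiplier ↥(Cfsg.Lie.Sz F (2 ^ (m + 1))) 1 := by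
  haveI := Cfsg.Agent.Lib.Helper5.Suzuki.charP_of_card hF
  have hm1 : 1 ≤ m := by omega
  apply Cfsg.Agent.H1.hasCyclicSchurMultiplier_one_of_ker_eq_bot
  intro Γ _ _ σ hσ
  obtain ⟨hsurj, hcen, hder⟩ := hσ
  let e := Cfsg.Agent.Lib.Helper5.SuzukiBridge.lieSzEquiv hm1 hF
  let σ' : Γ →* Sz F m := e.toMonoidHom.comp σ
  have hker : σ'.ker = σ.ker := by
    ext x
    rw [MonoidHom.mem_ker, MonoidHom.mem_ker]
    show e (σ x) = 1 ↔ σ x = 1
    rw [MulEquiv.map_eq_one_iff]
  have hsurj' : Function.Surjective σ' := e.surjective.comp hsurj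
  have := Cfsg.Agent.Lib.Helper5.MultSz.ker_eq_bot_of_stem m hF σ' hm hsurj'
    (by rw [hker]; exact hcen) (by rw [hker]; exact hder)
  rw [← hker]
  exact this

end Cfsg.Agent.S2111
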