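import Cfsg.Statements.S2121
import Cfsg.Agent.S2156
import Cfsg.Agent.Lib.Lead.ExcIsoG2
import Cfsg.Agent.Lib.Lead.OutExc
import Cfsg.Agent.Lib.Helper5.AutBN.OutIndex
import Cfsg.Agent.Lib.Helper5.AutBN.OutSym
import Cfsg.Agent.Lib.Helper5.Chev.HCardAll
import Cfsg.Agent.Lib.Helper5.Chev.HcG2

set_option autoImplicit false
open Cfsg

namespace Cfsg.Agent.S2121

open Cfsg.Lie Cfsg.Agent.Lib.Helper5 Cfsg.Agent.Lib.Helper5.Chev Cfsg.Agent.Lib.Helper5.AutBN
  Cfsg.Agent.ChevAut Cfsg.Agent.ExcIso

theorem symG2' (π : Equiv.Perm (Fin chevG2.rank)) (_h : chevG2.IsDiagramSymmetry π) :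
    π = 1 ∨ π = piG2 := by
  revert π
  decide

theorem piG2_ne_one : piG2 ≠ 1 := by decide

theorem isLong_G2 : chevG2.isLong (chevG2.simple 0) = false ∧ chevG2.isLong (chevG2.simple 1) = true := by
  decide +kernel

theorem cartan_G2 : chevG2.cartan 0 (chevG2.simple 1) = -3 ∧ chevG2.cartan 1 (chevG2.simple 0) = -1 := by
  decide +kernel

/-- no graph automorphism exchanges the root lengths of `G₂` unless the characteristic is 3 -/
theorem no_graph {F : Type*} [Field F] [Fintype F] (p f : ℕ) [Fact p.Prime] [CharP F p]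
    (hF : Fintype.card F = p ^ f) (hq : 3 ≤ p ^ f) (hp3 : p ≠ 3) :
    ¬ ∃ g : ↥(chevG2.group F) ≃* ↥(chevG2.group F), GraphBody chevG2 piG2 g := by
  rintro ⟨g, hg⟩
  have hD : chevG2 ∈ [chevG2, chevB2, chevD4, chevF4, chevE6, chevE7, chevE8] := by simp
  have hchar : ringChar F = p := ringChar.eq F p
  have key : ∀ t : F, t ≠ 0 → t ^ 3 = t ^ p := by
    intro t ht
    have h := graphBody_pow_eq chevG2 hD p piG2 g hg ⟨0, by decide⟩ ⟨1, by decide⟩ t ht
    have e1 : (piG2 ⟨0, by decide⟩ : Fin chevG2.rank) = ⟨1, by decide⟩ := by decide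
    have e2 : (piG2 ⟨1, by decide⟩ : Fin chevG2.rank) = ⟨0, by decide⟩ := by decide
    rw [e1, e2] at h
    simp only [ChevalleyDatum.graphExp, isLong_G2.1, isLong_G2.2, cartan_G2.1, cartan_G2.2,
      Bool.not_false, Bool.not_true, Bool.and_true, Bool.and_false, if_true,
      Bool.false_eq_true, if_false, pow_one, hchar] at h
    -- h : t ^ (-3) = (t ^ p) ^ (-1)
    have h' := congrArg (fun z : F => z⁻¹) h
    simp only [zpow_neg, inv_inv, zpow_one] at h'
    exact_mod_cast h'
  by_cases hp2 : p = 2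
  · subst hp2
    -- there is an element different from 0 and 1
    have h3 : 2 < Fintype.card F := by rw [hF]; omega
    obtain ⟨a, b, c, hab, hac, hbc⟩ := Fintype.two_lt_card_iff.1 h3
    have hall : ∀ t : F, t = 0 ∨ t = 1 := by
      intro t
      by_cases ht : t = 0
      · exact Or.inl ht
      · right
        have h := key t ht
        have : t ^ 2 * t = t ^ 2 * 1 := by linear_combination h
        exact mul_left_cancel₀ (pow_ne_zero 2 ht) this
    rcases hall a with ha | ha <;> rcases hall b with hb | hb <;> rcases hall c with hc | hc <;>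
      simp_all
  · have h2 : (2 : F) ≠ 0 := by
      intro h
      have : ((2 : ℕ) : F) = 0 := by exact_mod_cast h
      rw [CharP.cast_eq_zero_iff F p] at this
      have := (Nat.prime_dvd_prime_iff_eq Fact.out Nat.prime_two).1 this
      exact hp2 this
    have h := key 2 h2
    have hf : (2 : F) ^ p = 2 := by
      have := map_natCast (frobenius F p) 2
      rw [frobenius_def] at this
      exact_mod_cast this
    rw [hf] at h
    have h6 : ((6 : ℕ) : F) = 0 := by
      push_cast
      linear_combination h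
    rw [CharP.cast_eq_zero_iff F p] at h6
    have hp : p.Prime := Fact.out
    have : p ∣ 2 * 3 := h6
    rcases (Nat.Prime.dvd_mul hp).1 this with h | h
    · exact hp2 ((Nat.prime_dvd_prime_iff_eq hp Nat.prime_two).1 h)
    · exact hp3 ((Nat.prime_dvd_prime_iff_eq hp Nat.prime_three).1 h)


/-- Outer automorphisms of the Chevalley groups of type G₂: over a field with q = p^f (p prime) ≥ 3 elements, the outer automorphism group of G₂(q) has order f when p ≠ 3 and 2f when p = 3 (field automorphisms, and in characteristic 3 also the exceptional graph automorphism). -/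
theorem result {F : Type*} [Field F] [Fintype F] (p f : ℕ) [Fact p.Prime] [CharP F p] (hF : Fintype.card F = p ^ f) (hq : 3 ≤ p ^ f) : Nat.card (Cfsg.Out ↥(Cfsg.Lie.chevG2.group F)) = (if p = 3 then 2 * f else f) := by
  have hD : chevG2 ∈ [chevG2, chevB2, chevD4, chevF4, chevE6, chevE7, chevE8] := by simp
  have hd : (1 : ℤ) ≠ 0 := one_ne_zero
  have hcard := card_DF_mul_card_diagonal (F := F) chevG2 hD MG2 1 hd coordG2 HcG2.Mt HcG2.hC
  rw [card_ringAut p f hF, card_diagonal_G2] at hcard
  have hq1 : 0 < (Fintype.card F - 1) ^ 2 := by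
    apply pow_pos
    rw [hF]; omega
  have hDF : Nat.card (DF (F := F) chevG2 hD MG2 1 hd coordG2) = f := by
    apply Nat.eq_of_mul_eq_mul_right hq1
    rw [hcard]
    show (Fintype.card F - 1) ^ 2 * f = f * (Fintype.card F - 1) ^ 2
    ring
  by_cases hp3 : p = 3
  · subst hp3
    rw [if_pos rfl]
    have : PerfectRing F 3 := PerfectRing.ofFiniteOfIsReduced 3 F
    obtain ⟨γ, hγ, hsq, hP, hP'⟩ := exists_graphAut_G2 (K := F)
    have hsq' : outMk chevG2 (γ * γ) ∈ DF (F := F) chevG2 hD MG2 1 hd coordG2 := by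
      have e : γ * γ = fieldAut chevG2 (frobeniusEquiv F 3) := by
        apply MulEquiv.ext
        intro y
        rw [MulAut.mul_apply, hsq]
      rw [e]
      exact fieldOut_mem_DF chevG2 hD MG2 1 hd coordG2 (frobeniusEquiv F 3)
    have hidx := index_DF_eq_two (F := F) chevG2 hD MG2 1 hd coordG2 piG2 piG2_ne_one symG2' γ hγ
      hP hP' hsq'
    have hmul := (DF (F := F) chevG2 hD MG2 1 hd coordG2).card_mul_index
    rw [hidx, hDF] at hmul
    omega
  · rw [if_neg hp3]
    have htop := DF_eq_top (F := F) chevG2 hD MG2 1 hd coordG2 piG2 symG2'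
      (no_graph p f hF hq hp3)
    rw [← hDF, htop, Subgroup.card_top]

end Cfsg.Agent.S2121
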