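import Cfsg.Statements.S2122
import Cfsg.Agent.S2156
import Cfsg.Agent.Lib.Lead.ExcIsoF4
import Cfsg.Agent.Lib.Lead.OutExc
import Cfsg.Agent.Lib.Helper5.AutBN.OutIndex
import Cfsg.Agent.Lib.Helper5.AutBN.OutSym
import Cfsg.Agent.Lib.Helper5.Chev.HCardAll
import Cfsg.Agent.Lib.Helper5.Chev.HcF4

set_option autoImplicit false
open Cfsg

namespace Cfsg.Agent.S2122

open Cfsg.Lie Cfsg.Agent.Lib.Helper5 Cfsg.Agent.Lib.Helper5.Chev Cfsg.Agent.Lib.Helper5.AutBN
  Cfsg.Agent.ChevAut Cfsg.Agent.ExcIso

theorem symF4' : ∀ π : Equiv.Perm (Fin chevF4.rank), chevF4.IsDiagramSymmetry π →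
    π = 1 ∨ π = piF4 := by
  unfold ChevalleyDatum.IsDiagramSymmetry
  decide +kernel

theorem piF4_ne_one : piF4 ≠ 1 := by decide

theorem isLong_F4 : chevF4.isLong (chevF4.simple 1) = false ∧ chevF4.isLong (chevF4.simple 2) = true := by
  decide +kernel

theorem cartan_F4 : chevF4.cartan 1 (chevF4.simple 2) = -2 ∧ chevF4.cartan 2 (chevF4.simple 1) = -1 := by
  decide +kernel

/-- no graph automorphism exchanges the root lengths of `F₄` unless the characteristic is 2 -/
theorem no_graph {F : Type*} [Field F] [Fintype F] (p : ℕ) [Fact p.Prime] [CharP F p]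
    (hp2 : p ≠ 2) :
    ¬ ∃ g : ↥(chevF4.group F) ≃* ↥(chevF4.group F), GraphBody chevF4 piF4 g := by
  rintro ⟨g, hg⟩
  have hD : chevF4 ∈ [chevG2, chevB2, chevD4, chevF4, chevE6, chevE7, chevE8] := by simp
  have hchar : ringChar F = p := ringChar.eq F p
  have key : ∀ t : F, t ≠ 0 → t ^ 2 = t ^ p := by
    intro t ht
    have h := graphBody_pow_eq chevF4 hD p piF4 g hg ⟨1, by decide⟩ ⟨2, by decide⟩ t ht
    have e1 : (piF4 ⟨1, by decide⟩ : Fin chevF4.rank) = ⟨2, by decide⟩ := by decide
    have e2 : (piF4 ⟨2, by decide⟩ : Fin chevF4.rank) = ⟨1, by decide⟩ := by decide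
    rw [e1, e2] at h
    simp only [ChevalleyDatum.graphExp, isLong_F4.1, isLong_F4.2, cartan_F4.1, cartan_F4.2,
      Bool.not_false, Bool.not_true, Bool.and_true, Bool.and_false, if_true,
      Bool.false_eq_true, if_false, pow_one, hchar] at h
    have h' := congrArg (fun z : F => z⁻¹) h
    simp only [zpow_neg, inv_inv, zpow_one] at h'
    exact_mod_cast h'
  have h2 : (2 : F) ≠ 0 := by
    intro h
    have : ((2 : ℕ) : F) = 0 := by exact_mod_cast h
    rw [CharP.cast_eq_zero_iff F p] at this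
    have := (Nat.prime_dvd_prime_iff_eq Fact.out Nat.prime_two).1 this
    exact hp2 this
  have h := key 2 h2
  have hf : (2 : F) ^ p = 2 := by
    have := map_natCast (frobenius F p) 2
    rw [frobenius_def] at this
    exact_mod_cast this
  rw [hf] at h
  apply h2
  linear_combination h


/-- Outer automorphisms of the Chevalley groups of type F₄: over a field with q = p^f (p prime) elements, the outer automorphism group of F₄(q) has order gcd(2, p) · f (field automorphisms, and in characteristic 2 also the exceptional graph automorphism). -/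
theorem result {F : Type*} [Field F] [Fintype F] (p f : ℕ) [Fact p.Prime] [CharP F p] (hF : Fintype.card F = p ^ f) : Nat.card (Cfsg.Out ↥(Cfsg.Lie.chevF4.group F)) = Nat.gcd 2 p * f := by
  have hD : chevF4 ∈ [chevG2, chevB2, chevD4, chevF4, chevE6, chevE7, chevE8] := by simp
  have hd : (1 : ℤ) ≠ 0 := one_ne_zero
  have hcard := card_DF_mul_card_diagonal (F := F) chevF4 hD MF4 1 hd coordF4 HcF4.Mt HcF4.hC
  rw [card_ringAut p f hF, card_diagonal_F4] at hcard
  have hq1 : 0 < (Fintype.card F - 1) ^ 4 := by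
    apply pow_pos
    have := Fintype.one_lt_card (α := F)
    omega
  have hDF : Nat.card (DF (F := F) chevF4 hD MF4 1 hd coordF4) = f := by
    apply Nat.eq_of_mul_eq_mul_right hq1
    rw [hcard]
    show (Fintype.card F - 1) ^ 4 * f = f * (Fintype.card F - 1) ^ 4
    ring
  by_cases hp2 : p = 2
  · subst hp2
    have : PerfectRing F 2 := PerfectRing.ofFiniteOfIsReduced 2 F
    obtain ⟨γ, hγ, hsq, hP, hP'⟩ := exists_graphAut_F4 (K := F)
    have hsq' : outMk chevF4 (γ * γ) ∈ DF (F := F) chevF4 hD MF4 1 hd coordF4 := by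
      have e : γ * γ = fieldAut chevF4 (frobeniusEquiv F 2) := by
        apply MulEquiv.ext
        intro y
        rw [MulAut.mul_apply, hsq]
      rw [e]
      exact fieldOut_mem_DF chevF4 hD MF4 1 hd coordF4 (frobeniusEquiv F 2)
    have hidx := index_DF_eq_two (F := F) chevF4 hD MF4 1 hd coordF4 piF4 piF4_ne_one symF4' γ hγ
      hP hP' hsq'
    have hmul := (DF (F := F) chevF4 hD MF4 1 hd coordF4).card_mul_index
    rw [hidx, hDF] at hmul
    rw [Nat.gcd_self]
    omega
  · have hg : Nat.gcd 2 p = 1 :=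
      (Nat.coprime_primes Nat.prime_two Fact.out).2 (fun h => hp2 h.symm)
    rw [hg, one_mul]
    have htop := DF_eq_top (F := F) chevF4 hD MF4 1 hd coordF4 piF4 symF4' (no_graph p hp2)
    rw [← hDF, htop, Subgroup.card_top]

end Cfsg.Agent.S2122
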