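import Cfsg.Statements.S2123
import Cfsg.Agent.S2156
import Cfsg.Agent.S1081
import Cfsg.Agent.Lib.Helper5.AutBN.OutIndex
import Cfsg.Agent.Lib.Helper5.Chev.HCardAll
import Cfsg.Agent.Lib.Helper5.Chev.HcE6

set_option autoImplicit false
set_option maxRecDepth 1000000
open Cfsg

namespace Cfsg.Agent.S2123

open Cfsg.Lie Cfsg.Agent.Lib.Helper5 Cfsg.Agent.Lib.Helper5.Chev Cfsg.Agent.Lib.Helper5.AutBN
  Cfsg.Agent.ChevAut

/-- the symmetry of the diagram of `E₆` -/
def piE6 : Equiv.Perm (Fin chevE6.rank) :=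
  Equiv.swap ⟨0, by decide⟩ ⟨5, by decide⟩ * Equiv.swap ⟨2, by decide⟩ ⟨4, by decide⟩

theorem piE6_list : (List.ofFn fun i => (piE6 i).val) = [5, 1, 4, 3, 2, 0] := by decide

theorem piE6_ne_one : piE6 ≠ 1 := by decide

theorem piE6_mul_self : piE6 * piE6 = 1 := by decide

theorem one_list :
    (List.ofFn fun i => ((1 : Equiv.Perm (Fin chevE6.rank)) i).val) = [0, 1, 2, 3, 4, 5] := by
  decide

theorem perm_eq_of_list (π π' : Equiv.Perm (Fin chevE6.rank))
    (h : (List.ofFn fun i => (π i).val) = List.ofFn fun i => (π' i).val) : π = π' := by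
  have := List.ofFn_injective h
  apply Equiv.ext
  intro i
  exact Fin.ext (congrFun this i)

theorem symE6 (π : Equiv.Perm (Fin chevE6.rank)) (hπ : chevE6.IsDiagramSymmetry π) :
    π = 1 ∨ π = piE6 := by
  have hcl := classE6 π hπ
  simp only [List.mem_cons, List.not_mem_nil, or_false] at hcl
  rcases hcl with h | h
  · left
    exact perm_eq_of_list _ _ (h.trans one_list.symm)
  · right
    exact perm_eq_of_list _ _ (h.trans piE6_list.symm)

theorem piE6_sym : chevE6.IsDiagramSymmetry piE6 := by decide +kernel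

theorem exists_graph {F : Type*} [Field F] :
    ∃ g : ↥(chevE6.group F) ≃* ↥(chevE6.group F), ActsVia chevE6 piE6 g := by
  obtain ⟨α, hα⟩ := Cfsg.Agent.S1081.main (F := F) chevE6 [5, 1, 4, 3, 2, 0] Cfsg.Agent.S1081.sgE6
    Cfsg.Agent.S1081.epE6 Cfsg.Agent.S1081.certE6 (by decide)
  refine ⟨α, ?_⟩
  intro y i t
  have := hα y i.val t i.2
  rw [getD_of_ofFn piE6 _ piE6_list i] at this
  exact this

/-- Outer automorphisms of the (adjoint, simple) Chevalley groups of type E₆: over a field with q = p^f (p prime) elements, the outer automorphism group of E₆(q) has order 2 · gcd(3, q − 1) · f (diagonal, field and graph automorphisms). -/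
theorem result {F : Type*} [Field F] [Fintype F] (p f : ℕ) [Fact p.Prime] [CharP F p] (hF : Fintype.card F = p ^ f) : Nat.card (Cfsg.Out ↥(Cfsg.Lie.chevE6.group F)) = 2 * Nat.gcd 3 (p ^ f - 1) * f := by
  have hD : chevE6 ∈ [chevG2, chevB2, chevD4, chevF4, chevE6, chevE7, chevE8] := by simp
  have hD46 : chevE6 ∈ [chevD4, chevE6] := by simp
  have hd : (3 : ℤ) ≠ 0 := by norm_num
  obtain ⟨g0, hg0⟩ := exists_graph (F := F)
  have hg0' : ActsVia chevE6 piE6.symm g0.symm := hg0.symm hD
  have hP := presUV_graph chevE6 hD46 piE6 piE6_sym g0 hg0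
  have hP' : PresUV chevE6 g0⁻¹ :=
    presUV_graph chevE6 hD46 piE6.symm (isDiagramSymmetry_symm chevE6 piE6 piE6_sym) g0.symm hg0'
  have hsq : g0 * g0 = 1 := by
    have h1 : ActsVia chevE6 (piE6 * piE6) (g0 * g0) := hg0.mul hg0
    rw [piE6_mul_self] at h1
    exact ActsVia.unique hD h1 (ActsVia.one chevE6)
  have hidx := index_DF_eq_two (F := F) chevE6 hD ME6 3 hd coordE6 piE6 piE6_ne_one symE6 g0
    (graphBody_of_actsVia chevE6 hD46 piE6 g0 hg0) hP hP'
    (by rw [hsq, map_one]; exact Subgroup.one_mem _)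
  have hcard := card_DF_mul_card_diagonal (F := F) chevE6 hD ME6 3 hd coordE6 HcE6.Mt HcE6.hC
  rw [card_ringAut p f hF] at hcard
  have h2 := card_diagonal_E6 (F := F)
  have hmul := (DF (F := F) chevE6 hD ME6 3 hd coordE6).card_mul_index
  rw [hidx] at hmul
  have hcard' : Nat.card (DF (F := F) chevE6 hD ME6 3 hd coordE6) *
      Nat.card (chevE6.diagonalSubgroup F) = (Fintype.card F - 1) ^ 6 * f := hcard
  rw [← h2, hF] at hcard'
  have hpos : 0 < Nat.card (chevE6.diagonalSubgroup F) := Nat.card_pos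
  apply Nat.eq_of_mul_eq_mul_right hpos
  rw [← hmul]
  calc Nat.card (DF (F := F) chevE6 hD ME6 3 hd coordE6) * 2 * Nat.card (chevE6.diagonalSubgroup F)
      = 2 * (Nat.card (DF (F := F) chevE6 hD ME6 3 hd coordE6) *
          Nat.card (chevE6.diagonalSubgroup F)) := by ring
    _ = _ := by
        rw [hcard']
        ring

end Cfsg.Agent.S2123
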