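import Cfsg.Statements.S2124
import Cfsg.Agent.S2156
import Cfsg.Agent.Lib.Helper5.AutBN.OutCount2
import Cfsg.Agent.Lib.Helper5.Chev.HCardAll

set_option autoImplicit false
open Cfsg

namespace Cfsg.Agent.S2124

open Cfsg.Lie Cfsg.Agent.Lib.Helper5 Cfsg.Agent.Lib.Helper5.Chev Cfsg.Agent.Lib.Helper5.AutBN
  Cfsg.Agent.ChevAut

/-- Outer automorphisms of the (adjoint, simple) Chevalley groups of type E₇: over a field with q = p^f (p prime) elements, the outer automorphism group of E₇(q) has order gcd(2, q − 1) · f (diagonal and field automorphisms). -/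
theorem result {F : Type*} [Field F] [Fintype F] (p f : ℕ) [Fact p.Prime] [CharP F p] (hF : Fintype.card F = p ^ f) : Nat.card (Cfsg.Out ↥(Cfsg.Lie.chevE7.group F)) = Nat.gcd 2 (p ^ f - 1) * f := by
  have hD : chevE7 ∈ [chevG2, chevB2, chevD4, chevF4, chevE6, chevE7, chevE8] := by simp
  have h1 := card_out_mul_card_diagonal (F := F) chevE7 hD ME7 2 (by norm_num) coordE7 HcE7.Mt
    HcE7.hC (eq_one_of_walk_inj chevE7 walk_inj_E7)
    (fun θ => Cfsg.Agent.S2156.result chevE7 hD θ)
  rw [card_ringAut p f hF] at h1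
  have h2 := card_diagonal_E7 (F := F)
  have h1' : Nat.card (Cfsg.Out ↥(chevE7.group F)) * Nat.card (chevE7.diagonalSubgroup F)
      = (Fintype.card F - 1) ^ 7 * f := h1
  rw [← h2, hF] at h1'
  have hpos : 0 < Nat.card (chevE7.diagonalSubgroup F) := Nat.card_pos
  apply Nat.eq_of_mul_eq_mul_right hpos
  rw [h1']
  ring

end Cfsg.Agent.S2124
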