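import Cfsg.Statements.S2125
import Cfsg.Agent.S2156
import Cfsg.Agent.Lib.Helper5.AutBN.OutTools2

set_option autoImplicit false
open Cfsg

namespace Cfsg.Agent.S2125

open Cfsg.Lie Cfsg.Agent.Lib.Helper5 Cfsg.Agent.Lib.Helper5.Chev Cfsg.Agent.Lib.Helper5.AutBN
  Cfsg.Agent.ChevAut

theorem graphExp_same (D : ChevalleyDatum) (c i : ℕ) : D.graphExp c i i = 1 := by
  unfold ChevalleyDatum.graphExp
  cases D.isLong (D.simple i) <;> simp

/-- Outer automorphisms of the Chevalley groups of type E₈: over a field with p^f elements, p prime, the outer automorphism group of E₈(p^f) has order f (field automorphisms only). -/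
theorem result {F : Type*} [Field F] [Fintype F] (p f : ℕ) [Fact p.Prime] [CharP F p] (hF : Fintype.card F = p ^ f) : Nat.card (Cfsg.Out ↥(Cfsg.Lie.chevE8.group F)) = f := by
  have hD : chevE8 ∈ [chevG2, chevB2, chevD4, chevF4, chevE6, chevE7, chevE8] := by simp
  have hadd := allAdd_all (F := F) chevE8 hD
  rw [← card_ringAut p f hF]
  symm
  let Ψ : (F ≃+* F) →* Cfsg.Out ↥(chevE8.group F) :=
    (QuotientGroup.mk' (Cfsg.Inn ↥(chevE8.group F))).comp (fieldAutHom chevE8)
  apply Nat.card_congr
  refine Equiv.ofBijective Ψ ⟨?_, ?_⟩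
  · -- injectivity
    rw [injective_iff_map_eq_one]
    intro σ hσ
    have h1 : fieldAut chevE8 σ ∈ Cfsg.Inn ↥(chevE8.group F) :=
      (QuotientGroup.eq_one_iff _).1 hσ
    obtain ⟨x, hx⟩ := h1
    have h2 := of_conj_eq_diag_field chevE8 hD hadd (x : GL chevE8.Idx F) x.2 σ (fun _ => 1)
      (by
        intro r hr t
        have h3 := DFunLike.congr_fun hx (⟨hadd.xU r t, hadd.xU_mem_group r t⟩ : ↥(chevE8.group F))
        have h4 := congrArg Subtype.val h3
        rw [MulAut.conj_apply] at h4
        simp only [Subgroup.coe_mul, Subgroup.coe_inv] at h4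
        rw [h4]
        apply Units.ext
        rw [fieldAut_val]
        show (chevE8.x F r t).map σ = chevE8.x F r (((1 : Fˣ) : F) * σ t)
        rw [x_map, Units.val_one, one_mul])
    apply RingEquiv.ext
    intro t
    exact h2.2.1 t
  · -- surjectivity
    intro ω
    obtain ⟨θ, rfl⟩ := QuotientGroup.mk_surjective ω
    obtain ⟨x, d, g, f', hd, hg, hf, hθ⟩ := Cfsg.Agent.S2156.result chevE8 hD θ
    -- the field part
    obtain ⟨σ, hσ⟩ := hf
    have hf' : f' = fieldAut chevE8 σ := eq_fieldAut chevE8 hD σ f' hσ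
    -- the graph part
    obtain ⟨π, hπ, hgπ⟩ := hg
    have hπ1 : π = 1 := eq_one_of_walk_inj chevE8 walk_inj_E8 π hπ
    have hg' : g = MulEquiv.refl _ := by
      apply eq_refl_of_graph chevE8 hD g
      intro y i t
      have := hgπ y i t
      rw [hπ1, Equiv.Perm.one_apply, graphExp_same, pow_one] at this
      exact this
    -- the diagonal part
    obtain ⟨χ, hχ, hdχ⟩ := hd
    obtain ⟨h, -, hdh⟩ := diag_inner_of_solution chevE8 hD χ hχ
      (solU chevE8 ME8 (fun j => χ (chevE8.simple j)))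
      (by
        intro i hi
        rw [chiL_solU chevE8 coordE8 _ i hi, zpow_one])
      d hdχ
    refine ⟨σ, ?_⟩
    show QuotientGroup.mk' _ (fieldAut chevE8 σ) = QuotientGroup.mk' _ θ
    have e : θ = MulAut.conj (x * h) * fieldAut chevE8 σ := by
      apply MulEquiv.ext
      intro y
      rw [hθ y, hg', hdh, hf', MulAut.mul_apply, MulAut.conj_apply, MulAut.conj_apply]
      show x * (h * (fieldAut chevE8 σ) y * h⁻¹) * x⁻¹ = _
      group
    rw [e, map_mul]
    have h1 : QuotientGroup.mk' (Cfsg.Inn ↥(chevE8.group F)) (MulAut.conj (x * h)) = 1 :=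
      (QuotientGroup.eq_one_iff _).2 ⟨x * h, rfl⟩
    rw [h1, one_mul]

end Cfsg.Agent.S2125
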