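import Cfsg.Statements.S2126
import Cfsg.Agent.Lib.Helper5.SuzukiAutD
import Cfsg.Agent.Lib.Helper5.SuzukiBridge
import Mathlib

set_option autoImplicit false
open Cfsg

namespace Cfsg.Agent.S2126
open Cfsg.Agent.Lib.Helper5.Suzuki

/-- Outer automorphisms of the Suzuki groups: for q = 2^(2m+1) with m ≥ 1 the outer automorphism group of Sz(q) has order 2m + 1 (field automorphisms only). -/
theorem result {F : Type*} [Field F] [Fintype F] {m : ℕ} (hm : 1 ≤ m) (hF : Fintype.card F = 2 ^ (2 * m + 1)) : Nat.card (Cfsg.Out ↥(Cfsg.Lie.Sz F (2 ^ (m + 1)))) = 2 * m + 1 := by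
  classical
  haveI : CharP F 2 := charP_of_card hF
  let e : ↥(Cfsg.Lie.Sz F (2 ^ (m + 1))) ≃* ↥(Cfsg.Sz F m) :=
    Cfsg.Agent.Lib.Helper5.SuzukiBridge.lieSzEquiv hm hF
  haveI : Finite ↥(Cfsg.Lie.Sz F (2 ^ (m + 1))) := Finite.of_equiv _ e.symm.toEquiv
  -- cardinality of the automorphism group
  have hA : Nat.card (MulAut ↥(Cfsg.Lie.Sz F (2 ^ (m + 1)))) =
      Nat.card ↥(Cfsg.Lie.Sz F (2 ^ (m + 1))) * (2 * m + 1) := by
    rw [Nat.card_congr (MulAut.congr e).toEquiv, card_mulAut m hF hm, Nat.card_congr e.toEquiv]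
  -- cardinality of the inner automorphism group
  have hinj : Function.Injective (MulAut.conj : ↥(Cfsg.Lie.Sz F (2 ^ (m + 1))) →* _) := by
    rw [injective_iff_map_eq_one]
    intro x hx
    have hc : e x ∈ Subgroup.center ↥(Cfsg.Sz F m) := by
      rw [Subgroup.mem_center_iff]
      intro y
      have h1 := DFunLike.congr_fun hx (e.symm y)
      rw [MulAut.conj_apply, MulAut.one_apply] at h1
      have h2 := congrArg e h1
      rw [map_mul, map_mul, map_inv, MulEquiv.apply_symm_apply] at h2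
      have h3 : e x * y = y * e x := by
        have h4 : e x * y = e x * y * (e x)⁻¹ * e x := by group
        rw [h4, h2]
      exact h3.symm
    rw [center_eq_bot m hF hm, Subgroup.mem_bot] at hc
    exact e.injective (hc.trans (map_one e).symm)
  have hI : Nat.card (Cfsg.Inn ↥(Cfsg.Lie.Sz F (2 ^ (m + 1)))) =
      Nat.card ↥(Cfsg.Lie.Sz F (2 ^ (m + 1))) :=
    (Nat.card_congr (MonoidHom.ofInjective hinj).toEquiv).symm
  have hidx := Subgroup.card_mul_index (Cfsg.Inn ↥(Cfsg.Lie.Sz F (2 ^ (m + 1))))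
  rw [hA, hI] at hidx
  have hpos : 0 < Nat.card ↥(Cfsg.Lie.Sz F (2 ^ (m + 1))) := Nat.card_pos
  have := Nat.eq_of_mul_eq_mul_left hpos hidx
  rw [← this]
  exact (Subgroup.index_eq_card _).symm

end Cfsg.Agent.S2126
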