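import Cfsg.Statements.S2129
import Cfsg.Agent.Lib.Helper5.Tw.D4AutC
import Cfsg.Agent.Lib.Lead.TwD4Shape

set_option autoImplicit false
open Cfsg

namespace Cfsg.Agent.S2129

open Cfsg.Lie Cfsg.Agent.Lib.Helper5.Tw.D4 in
/-- Outer automorphisms of the triality-twisted groups: for q = p^f (p prime), with the group realised over the field with q³ elements, the outer automorphism group of ³D₄(q) has order 3f (the field automorphisms of the cubic extension). -/
theorem result {K : Type*} [Field K] [Fintype K] (p f : ℕ) [Fact p.Prime] [CharP K p] (hK : Fintype.card K = p ^ (3 * f)) (hf : 1 ≤ f) : Nat.card (Cfsg.Out ↥(Cfsg.Lie.twistedD4 K (p ^ f))) = 3 * f := by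
  apply Cfsg.Agent.Lib.Helper5.Tw.D4.card_out p f hK hf
  intro th h1 h2 h3 h4
  exact Cfsg.Agent.TwRankOne.D4.d4_shape p f hK hf (twistedD4 K (p ^ f)).subtype
    (Subgroup.subtype_injective _) (qA (p ^ f)) (qAm (p ^ f)) (qB (p ^ f)) (qBm (p ^ f))
    (fun t => gA_val (p ^ f) t) (fun t => gAm_val (p ^ f) t)
    (fun u hu => by
      show ((qB (p ^ f) u : ↥(twistedD4 K (p ^ f))) : GL chevD4.Idx K).val = _
      rw [qB_val (p ^ f) u hu, gB_val])
    (fun u hu => by
      show ((qBm (p ^ f) u : ↥(twistedD4 K (p ^ f))) : GL chevD4.Idx K).val = _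
      rw [qBm_val (p ^ f) u hu, gBm_val])
    th h1 h2 h3 h4

end Cfsg.Agent.S2129
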