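import Cfsg.Statements.S2149
import Cfsg.Agent.Lib.Lead.U35Min.Concrete
import Cfsg.Agent.Lib.Helper6.U35Unit
import Cfsg.Agent.Lib.Helper8.SUTransport

set_option autoImplicit false
open Cfsg

namespace Cfsg.Agent.S2149

/-- Minimal index of a proper subgroup of PSU₃(5), realised over the field with 25 elements: every proper subgroup has index at least 50, and that index is attained. -/
theorem result {F : Type*} [Field F] [Fintype F] (hF : Fintype.card F = 25) : (∀ H : Subgroup (Cfsg.PSU 3 F 5), H ≠ ⊤ → 50 ≤ H.index) ∧ (∃ H : Subgroup (Cfsg.PSU 3 F 5), H.index = 50) := by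
  classical
  have e25 : F ≃+* Cfsg.Agent.Lib.Helper6.F25 :=
    FiniteField.ringEquivOfCardEq (by rw [Cfsg.Agent.Lib.Helper6.F25.card, hF])
  let e : Cfsg.Agent.Lib.Helper6.U35Sub.T5 ≃* Cfsg.PSU 3 F 5 :=
    Cfsg.Agent.Lib.Helper6.U35Unit.isoPSU.trans (Cfsg.Agent.Lib.Helper8.SUTransport.psuEquiv e25 3 5).symm
  constructor
  · intro H hH
    let e2 : Cfsg.PSU 3 F 5 ≃* ↥Cfsg.Agent.Lib.Lead.U35Min.P := e.symm.trans Cfsg.Agent.Lib.Lead.U35Min.isoP
    have hinj : Function.Injective (e2 : Cfsg.PSU 3 F 5 →* ↥Cfsg.Agent.Lib.Lead.U35Min.P) := e2.injective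
    have hne : H.map (e2 : Cfsg.PSU 3 F 5 →* ↥Cfsg.Agent.Lib.Lead.U35Min.P) ≠ ⊤ := by
      intro h
      apply hH
      rw [← Subgroup.comap_map_eq_self_of_injective hinj H, h, Subgroup.comap_top]
    have := Cfsg.Agent.Lib.Lead.U35Min.index_ge _ hne
    rwa [Subgroup.index_map_equiv] at this
  · refine ⟨((Subgroup.closure Cfsg.Agent.Lib.Helper6.U35TTC.S).map (PresentedGroup.mk
      (Cfsg.Spor.coxRelators Cfsg.Agent.Lib.Helper6.U35Sub.T5.edges ∪
        {r | r ∈ Cfsg.Agent.Lib.Helper6.U35Sub.T5.extra}))).map (e : Cfsg.Agent.Lib.Helper6.U35Sub.T5 →* Cfsg.PSU 3 F 5), ?_⟩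
    rw [Subgroup.index_map_equiv]
    exact Cfsg.Agent.Lib.Helper6.U35TTC.main

end Cfsg.Agent.S2149
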