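import Cfsg.Statements.S2155
import Cfsg.Agent.Lib.Helper5.Chev.ParaCent
import Cfsg.Agent.H2.CharP
import Cfsg.Agent.S2326

set_option autoImplicit false
open Cfsg

namespace Cfsg.Agent.S2155

/-- In a Chevalley group of type G₂, B₂, D₄, F₄, E₆, E₇ or E₈ over a finite field of characteristic p (for types G₂ and B₂ the field is assumed to have at least 3 elements, so that the group is simple), the generalized Fitting subgroup of every proper standard parabolic subgroup P_J is a p-group (P_J is p-constrained with trivial largest normal subgroup of order prime to p). -/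
theorem result {F : Type*} [Field F] [Fintype F] (p : ℕ) [Fact p.Prime] [CharP F p] (D : Cfsg.Lie.ChevalleyDatum) (hD : D ∈ [Cfsg.Lie.chevG2, Cfsg.Lie.chevB2, Cfsg.Lie.chevD4, Cfsg.Lie.chevF4, Cfsg.Lie.chevE6, Cfsg.Lie.chevE7, Cfsg.Lie.chevE8]) (hq : (D = Cfsg.Lie.chevG2 ∨ D = Cfsg.Lie.chevB2) → 3 ≤ Fintype.card F) (J : Set ℕ) (hJ : ∃ i, i < D.rank ∧ i ∉ J) : IsPGroup p ↥(Cfsg.generalizedFittingSubgroup ↥(D.parabolicSubgroup F J)) := by
  classical
  have hadd := Cfsg.Agent.Lib.Helper5.Chev.allAdd_all (F := F) D hD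
  have hPN := (Cfsg.Agent.Lib.Helper5.Chev.levi_decomposition_all (F := F) D hD J).1
  have hPG := Cfsg.Agent.Lib.Helper5.Chev.parabolic_le_group (F := F) D hD J
  have hBP : D.borelSubgroup F ≤ D.parabolicSubgroup F J := le_sup_left
  have hUB : D.posUnipotent F ≤ D.borelSubgroup F := le_sup_left
  have hRU : D.unipotentRadical F J ≤ D.posUnipotent F := by
    unfold Cfsg.Lie.ChevalleyDatum.unipotentRadical Cfsg.Lie.ChevalleyDatum.posUnipotent
    apply Subgroup.closure_mono
    rintro g ⟨r, t, h1, -, h3⟩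
    exact ⟨r, t, h1, h3⟩
  have hRP : D.unipotentRadical F J ≤ D.parabolicSubgroup F J := hRU.trans (hUB.trans hBP)
  -- the elements of `U` have `p`-power order
  have hUp : ∀ g ∈ D.posUnipotent F, ∃ k : ℕ, g ^ (p ^ k) = 1 := by
    intro g hg
    obtain ⟨S, hS⟩ := Cfsg.Agent.S2326.result (F := F) p D hD
    have hgG : g ∈ D.group F := hadd.borel_le (hUB hg)
    have hmem : (⟨g, hgG⟩ : ↥(D.group F)) ∈ (S : Subgroup ↥(D.group F)) := by
      rw [hS, Subgroup.mem_subgroupOf]
      exact hg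
    obtain ⟨k, hk⟩ := S.isPGroup' ⟨⟨g, hgG⟩, hmem⟩
    refine ⟨k, ?_⟩
    have := congrArg (fun x : ↥(S : Subgroup ↥(D.group F)) => ((x : ↥(D.group F)) : GL D.Idx F)) hk
    simpa using this
  -- the subgroup `U_J` of `P_J`
  have hQn : ((D.unipotentRadical F J).subgroupOf (D.parabolicSubgroup F J)).Normal :=
    (Subgroup.normal_subgroupOf_iff_le_normalizer hRP).2 hPN
  have hQp : IsPGroup p ((D.unipotentRadical F J).subgroupOf (D.parabolicSubgroup F J)) := by
    intro q
    obtain ⟨k, hk⟩ := hUp _ (hRU (Subgroup.mem_subgroupOf.1 q.2))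
    refine ⟨k, ?_⟩
    apply Subtype.ext
    apply Subtype.ext
    simpa using hk
  -- its centraliser
  have hCp : IsPGroup p (Subgroup.centralizer
      (((D.unipotentRadical F J).subgroupOf (D.parabolicSubgroup F J) :
        Subgroup ↥(D.parabolicSubgroup F J)) : Set ↥(D.parabolicSubgroup F J))) := by
    intro c
    have hcU : ((c : ↥(D.parabolicSubgroup F J)) : GL D.Idx F) ∈ D.posUnipotent F := by
      apply Cfsg.Agent.Lib.Helper5.Chev.centralizer_radical_le (F := F) D hD J hJ
      rw [Subgroup.mem_inf]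
      refine ⟨?_, (c : ↥(D.parabolicSubgroup F J)).2⟩
      rw [Subgroup.mem_centralizer_iff]
      intro y hy
      have h1 := Subgroup.mem_centralizer_iff.1 c.2 ⟨y, hRP hy⟩
        (by rw [SetLike.mem_coe, Subgroup.mem_subgroupOf]; exact hy)
      exact congrArg Subtype.val h1
    obtain ⟨k, hk⟩ := hUp _ hcU
    refine ⟨k, ?_⟩
    apply Subtype.ext
    apply Subtype.ext
    simpa using hk
  have := hQn
  have hQle : (D.unipotentRadical F J).subgroupOf (D.parabolicSubgroup F J)
      ≤ Cfsg.pCore p ↥(D.parabolicSubgroup F J) := le_sSup ⟨hQn, hQp⟩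
  have hQ : Subgroup.centralizer ((Cfsg.pCore p ↥(D.parabolicSubgroup F J) :
      Subgroup ↥(D.parabolicSubgroup F J)) : Set ↥(D.parabolicSubgroup F J))
      ≤ Cfsg.pCore p ↥(D.parabolicSubgroup F J) := by
    refine (Subgroup.centralizer_le hQle).trans ?_
    exact le_sSup ⟨inferInstance, hCp⟩
  have h := Cfsg.Agent.H2.generalizedFittingSubgroup_eq_pCore_of_local p hQ
    (Cfsg.pCore p ↥(D.parabolicSubgroup F J)) ⊤ (Cfsg.Agent.H1.pCore_isPGroup p) le_top
    (by
      have : (Cfsg.pCore p ↥(D.parabolicSubgroup F J)).Normal := inferInstance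
      rw [Subgroup.normalizer_eq_top_iff.2 this]) le_top
  have h2 : Cfsg.Agent.H2.IsCharP p ↥(⊤ : Subgroup ↥(D.parabolicSubgroup F J)) := by
    unfold Cfsg.Agent.H2.IsCharP
    rw [h]
    exact Cfsg.Agent.H1.pCore_isPGroup p
  exact Cfsg.Agent.H2.IsCharP.congr p Subgroup.topEquiv h2

end Cfsg.Agent.S2155
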