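import Cfsg.Statements.S2159
import Cfsg.Agent.S2123
import Cfsg.Agent.Lib.Helper5.AutBN.OutFinal

set_option autoImplicit false
set_option maxRecDepth 1000000
open Cfsg

namespace Cfsg.Agent.S2159

open Cfsg.Lie Cfsg.Agent.Lib.Helper5 Cfsg.Agent.Lib.Helper5.Chev Cfsg.Agent.Lib.Helper5.AutBN
  Cfsg.Agent.ChevAut

/-- Structure of the outer automorphism group of the Chevalley group `G` of type G₂, B₂, D₄, F₄, E₆, E₇ or E₈ over a finite field. Let `D̄` be the image in `Out(G)` of the subgroup generated by the diagonal automorphisms and `F̄` the image of the subgroup generated by the field automorphisms. Then `D̄` is a normal abelian subgroup of `Out(G)`, `F̄` is cyclic, `D̄F̄` is a normal subgroup, and the quotient of `Out(G)` by `D̄F̄` is trivial, of order 2, or non-abelian of order 6 (so isomorphic to the symmetric group on three letters): its index is 1 or 2, or it is 6 with the commutator subgroup of `Out(G)` not inside `D̄F̄`. -/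
theorem result {F : Type*} [Field F] [Finite F] (D : Cfsg.Lie.ChevalleyDatum) (hD : D ∈ [Cfsg.Lie.chevG2, Cfsg.Lie.chevB2, Cfsg.Lie.chevD4, Cfsg.Lie.chevF4, Cfsg.Lie.chevE6, Cfsg.Lie.chevE7, Cfsg.Lie.chevE8])
    (Dbar Fbar : Subgroup (Cfsg.Out ↥(D.group F)))
    (hDbar : Dbar = (Subgroup.closure {φ : MulAut ↥(D.group F) | D.IsDiagonalAut φ}).map (QuotientGroup.mk' (Cfsg.Inn ↥(D.group F))))
    (hFbar : Fbar = (Subgroup.closure {φ : MulAut ↥(D.group F) | D.IsFieldAut φ}).map (QuotientGroup.mk' (Cfsg.Inn ↥(D.group F)))) :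
    Dbar.Normal ∧ IsMulCommutative ↥Dbar ∧ IsCyclic ↥Fbar ∧ (Dbar ⊔ Fbar).Normal ∧
      ((Dbar ⊔ Fbar).index = 1 ∨ (Dbar ⊔ Fbar).index = 2 ∨
        ((Dbar ⊔ Fbar).index = 6 ∧ ¬ commutator (Cfsg.Out ↥(D.group F)) ≤ Dbar ⊔ Fbar)) := by
  obtain ⟨M, d, hd, hM⟩ := coord_known D hD
  have hDb : Dbar = (diagOut (F := F) D hD M d hd hM).range := by
    rw [hDbar, map_closure_diagonal D hD M d hd hM]
  have hFb : Fbar = (fieldOut (F := F) D).range := by
    rw [hFbar, map_closure_field D hD]
  have hsup : Dbar ⊔ Fbar = DF (F := F) D hD M d hd hM := by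
    rw [hDb, hFb, DF_eq_sup]
  refine ⟨?_, ?_, ?_, ?_, ?_⟩
  · rw [hDb]
    exact diagOut_range_normal D hD M d hd hM
  · subst hDb
    refine ⟨⟨?_⟩⟩
    rintro ⟨_, c, rfl⟩ ⟨_, c', rfl⟩
    apply Subtype.ext
    show diagOut D hD M d hd hM c * diagOut D hD M d hd hM c'
      = diagOut D hD M d hd hM c' * diagOut D hD M d hd hM c
    rw [← map_mul, ← map_mul, mul_comm]
  · subst hFb
    have := isCyclic_ringAut (F := F)
    exact isCyclic_of_surjective (fieldOut (F := F) D).rangeRestrict
      (fieldOut (F := F) D).rangeRestrict_surjective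
  · rw [hsup]
    exact DF_normal D hD M d hd hM
  · rw [hsup]
    have hD' := hD
    simp only [List.mem_cons, List.not_mem_nil, or_false] at hD'
    rcases hD' with rfl | rfl | rfl | rfl | rfl | rfl | rfl
    · rcases index_DF_le_two (F := F) chevG2 hD M d hd hM piG2 (fun π _ => symG2 π) with h | h
      · exact Or.inl h
      · exact Or.inr (Or.inl h)
    · rcases index_DF_le_two (F := F) chevB2 hD M d hd hM piB2 (fun π _ => symB2 π) with h | h
      · exact Or.inl h
      · exact Or.inr (Or.inl h)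
    · exact Or.inr (Or.inr ⟨index_DF_D4 hD M d hd hM, commutator_not_le_DF_D4 hD M d hd hM⟩)
    · rcases index_DF_le_two (F := F) chevF4 hD M d hd hM piF4 symF4 with h | h
      · exact Or.inl h
      · exact Or.inr (Or.inl h)
    · rcases index_DF_le_two (F := F) chevE6 hD M d hd hM Cfsg.Agent.S2123.piE6
        Cfsg.Agent.S2123.symE6 with h | h
      · exact Or.inl h
      · exact Or.inr (Or.inl h)
    · rcases index_DF_le_two (F := F) chevE7 hD M d hd hM 1
        (fun π hπ => Or.inl (eq_one_of_walk_inj chevE7 walk_inj_E7 π hπ)) with h | h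
      · exact Or.inl h
      · exact Or.inr (Or.inl h)
    · rcases index_DF_le_two (F := F) chevE8 hD M d hd hM 1
        (fun π hπ => Or.inl (eq_one_of_walk_inj chevE8 walk_inj_E8 π hπ)) with h | h
      · exact Or.inl h
      · exact Or.inr (Or.inl h)

end Cfsg.Agent.S2159
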