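import Cfsg.Statements.S2162
import Mathlib
import Cfsg.Agent.H9.SqZero

set_option autoImplicit false

namespace Cfsg.Agent.S2162

open Module Matrix

theorem sq_zero {F : Type*} [Field F] [CharP F 2] {n : ℕ} (a : Matrix.SpecialLinearGroup (Fin n) F)
    (ha : orderOf a = 2) :
    ((a : Matrix (Fin n) (Fin n) F) - 1) * ((a : Matrix (Fin n) (Fin n) F) - 1) = 0 := by
  have h1 : a ^ 2 = 1 := by
    rw [← ha]; exact pow_orderOf_eq_one a
  have h2 : (a : Matrix (Fin n) (Fin n) F) * (a : Matrix (Fin n) (Fin n) F) = 1 := by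
    have := congrArg Subtype.val h1
    rw [pow_two] at this
    exact this
  have h3 : ∀ M : Matrix (Fin n) (Fin n) F, M + M = 0 := by
    intro M
    ext i j
    exact CharTwo.add_self_eq_zero _
  rw [Matrix.sub_mul, Matrix.mul_sub, Matrix.mul_sub, h2, Matrix.one_mul, Matrix.mul_one,
    Matrix.mul_one]
  have : (1 : Matrix (Fin n) (Fin n) F) - (a : Matrix (Fin n) (Fin n) F) -
      ((a : Matrix (Fin n) (Fin n) F) - 1) = (1 + 1) - ((a : Matrix (Fin n) (Fin n) F) + a) := by
    abel
  rw [this, h3, h3, sub_zero]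

/-- Conjugacy of involutions in the special linear group over a finite field of characteristic two, in dimension at least 3: two elements of order 2 of SL_n(F) are conjugate in SL_n(F) exactly when the matrices a − 1 and b − 1 have the same rank (the rank of a − 1 is the dimension of the commutator space [V, a]). -/
theorem result {F : Type*} [Field F] [Fintype F] [CharP F 2] {n : ℕ} (hn : 3 ≤ n) (a b : Matrix.SpecialLinearGroup (Fin n) F) (ha : orderOf a = 2) (hb : orderOf b = 2) :
    IsConj a b ↔ ((a : Matrix (Fin n) (Fin n) F) - 1).rank = ((b : Matrix (Fin n) (Fin n) F) - 1).rank := by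
  constructor
  · intro h
    obtain ⟨c, hc⟩ := isConj_iff.1 h
    have hcc : (c : Matrix (Fin n) (Fin n) F) * ((c⁻¹ : Matrix.SpecialLinearGroup (Fin n) F) :
        Matrix (Fin n) (Fin n) F) = 1 := by
      have := congrArg Subtype.val (mul_inv_cancel c)
      exact this
    have h1 : (b : Matrix (Fin n) (Fin n) F) - 1 = (c : Matrix (Fin n) (Fin n) F) *
        ((a : Matrix (Fin n) (Fin n) F) - 1) *
        ((c⁻¹ : Matrix.SpecialLinearGroup (Fin n) F) : Matrix (Fin n) (Fin n) F) := by
      rw [← hc, Matrix.mul_sub, Matrix.sub_mul, Matrix.mul_one, hcc]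
      rfl
    have hdet : ∀ g : Matrix.SpecialLinearGroup (Fin n) F,
        IsUnit (g : Matrix (Fin n) (Fin n) F).det := by
      intro g
      rw [g.2]
      exact isUnit_one
    rw [h1, Matrix.rank_mul_eq_left_of_isUnit_det _ _ (hdet _),
      Matrix.rank_mul_eq_right_of_isUnit_det _ _ (hdet _)]
  · intro h
    set Na := ((a : Matrix (Fin n) (Fin n) F) - 1).mulVecLin with hNa
    set Nb := ((b : Matrix (Fin n) (Fin n) F) - 1).mulVecLin with hNb
    have hNa2 : ∀ x, Na (Na x) = 0 := by
      intro x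
      rw [hNa, Matrix.mulVecLin_apply, Matrix.mulVecLin_apply, Matrix.mulVec_mulVec, sq_zero a ha,
        Matrix.zero_mulVec]
    have hNb2 : ∀ x, Nb (Nb x) = 0 := by
      intro x
      rw [hNb, Matrix.mulVecLin_apply, Matrix.mulVecLin_apply, Matrix.mulVec_mulVec, sq_zero b hb,
        Matrix.zero_mulVec]
    have hNa0 : Na ≠ 0 := by
      intro h0
      have h1 : (a : Matrix (Fin n) (Fin n) F) - 1 = 0 := by
        apply Matrix.toLin'.injective
        rw [map_zero, Matrix.toLin'_apply']
        exact h0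
      have h2 : a = 1 := by
        apply Subtype.ext
        exact sub_eq_zero.1 h1
      rw [h2, orderOf_one] at ha
      omega
    have hrk : finrank F (LinearMap.range Na) = finrank F (LinearMap.range Nb) := h
    obtain ⟨g, hg⟩ := Cfsg.Agent.H9.SqZero.exists_equiv Na Nb hNa2 hNb2 hrk
    have hδ : LinearMap.det g.toLinearMap ≠ 0 := (LinearEquiv.isUnit_det' g).ne_zero
    obtain ⟨ν, hν⟩ := FiniteField.isSquare_of_char_two (ringChar.eq F 2) (LinearMap.det g.toLinearMap)⁻¹
    obtain ⟨c, hc1, hc2⟩ := Cfsg.Agent.H9.SqZero.exists_commute_det Na hNa2 hNa0 ν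
    set hh : (Fin n → F) →ₗ[F] (Fin n → F) := g.toLinearMap ∘ₗ c with hhh
    have hdet : LinearMap.det hh = 1 := by
      rw [hhh, LinearMap.det_comp, hc2, pow_two, ← hν, mul_inv_cancel₀ hδ]
    have hcomm : ∀ x, hh (Na x) = Nb (hh x) := by
      intro x
      rw [hhh, LinearMap.comp_apply, LinearMap.comp_apply, hc1, LinearEquiv.coe_coe, hg]
    set H := LinearMap.toMatrix' hh with hH
    have hHdet : H.det = 1 := by
      rw [hH, LinearMap.det_toMatrix', hdet]
    have hHx : ∀ x, H *ᵥ x = hh x := fun x => LinearMap.toMatrix'_mulVec hh x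
    have hHN : H * ((a : Matrix (Fin n) (Fin n) F) - 1) = ((b : Matrix (Fin n) (Fin n) F) - 1) * H := by
      rw [Matrix.ext_iff_mulVec]
      intro x
      rw [← Matrix.mulVec_mulVec, ← Matrix.mulVec_mulVec, hHx, hHx]
      exact hcomm x
    have hHab : H * (a : Matrix (Fin n) (Fin n) F) = (b : Matrix (Fin n) (Fin n) F) * H := by
      rw [Matrix.mul_sub, Matrix.sub_mul, Matrix.mul_one, Matrix.one_mul] at hHN
      exact sub_left_injective hHN
    rw [isConj_iff]
    set HS : Matrix.SpecialLinearGroup (Fin n) F := ⟨H, hHdet⟩ with hHS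
    refine ⟨HS, ?_⟩
    rw [mul_inv_eq_iff_eq_mul]
    apply Subtype.ext
    exact hHab

end Cfsg.Agent.S2162
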