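import Mathlib
import Cfsg.Statements.S2164
import Cfsg.Agent.Lib.Helper8.SUInvC
import Cfsg.Agent.S0278
import Cfsg.Agent.S0781

set_option autoImplicit false
open Cfsg

namespace Cfsg.Agent.S2164


section Part0

open Matrix Cfsg.Agent.S5631 Cfsg.Agent.S5643 Cfsg.Agent.Lib.Helper8.Unitary
  Cfsg.Agent.Lib.Helper8.SUGen Cfsg.Agent.Lib.Helper8.SUMax Cfsg.Agent.Lib.Helper8.SUConj
  Cfsg.Agent.Lib.Helper8.SUInv Cfsg.Agent.S0781

section Abstract

variable {n : ℕ} {F : Type*} [Field F] {σ : F ≃+* F} {f : (Fin n → F) → (Fin n → F) → F}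
variable (hf : Cfsg.Geo.IsUnitaryForm σ f)

lemma sq_surj [Finite F] (h2 : (2 : F) = 0) (d : F) : ∃ l : F, l * l = d := by
  have hinj : Function.Injective (fun y : F => y * y) := by
    intro y z hyz
    have hyz' : y * y = z * z := hyz
    have : (y - z) * (y - z) = 0 := by
      linear_combination hyz' + (z * z - y * z) * h2
    have := mul_self_eq_zero.1 this
    exact sub_eq_zero.1 this
  exact Finite.surjective_of_injective hinj d

lemma eq_one_of_sq (h2 : (2 : F) = 0) (y : F) (hy : y * y = 1) : y = 1 := by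
  have : (y - 1) * (y - 1) = 0 := by
    linear_combination hy + (1 - y) * h2
  have := mul_self_eq_zero.1 this
  exact sub_eq_zero.1 this

include hf in
lemma conj_SUf_aux [Fintype F] (h2 : (2 : F) = 0)
    (hdetN : ∀ g : GL (Fin n) F,
      (∀ v w, f ((g : Matrix (Fin n) (Fin n) F) *ᵥ v) ((g : Matrix (Fin n) (Fin n) F) *ᵥ w)
        = f v w) →
      (g : Matrix (Fin n) (Fin n) F).det * σ ((g : Matrix (Fin n) (Fin n) F).det) = 1)
    (a b : GL (Fin n) F) (hb : b ∈ SUf f)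
    (hb2 : (b : Matrix (Fin n) (Fin n) F) * (b : Matrix (Fin n) (Fin n) F) = 1)
    (hne : a ≠ 1) {r : ℕ} (u x u' x' : Fin r → Fin n → F)
    (hNa : NF f (a : Matrix (Fin n) (Fin n) F) u x)
    (hNb : NF f (b : Matrix (Fin n) (Fin n) F) u' x') :
    ∃ h ∈ SUf f, h * a = b * h := by
  have hr : 0 < r := by
    by_contra hr0
    have hr0' : r = 0 := by omega
    subst hr0'
    apply hne
    apply Units.ext
    rw [Matrix.ext_iff_mulVec]
    intro y
    rw [hNa.ay y (fun i => i.elim0) (fun i => i.elim0)]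
    exact (Matrix.one_mulVec y).symm
  obtain ⟨g, hgiso, hgc⟩ := conj_of_NF hf hNa hNb
  have hδ := hdetN g hgiso
  set δ := (g : Matrix (Fin n) (Fin n) F).det with hδdef
  have hδ0 : δ ≠ 0 := by
    intro h0
    rw [h0, zero_mul] at hδ
    exact zero_ne_one hδ
  obtain ⟨l, hl⟩ := sq_surj h2 δ⁻¹
  have hlN : l * σ l = 1 := by
    apply eq_one_of_sq h2
    have h1 : l * σ l * (l * σ l) = (l * l) * σ (l * l) := by rw [map_mul]; ring
    rw [h1, hl, map_inv₀, ← mul_inv, hδ, inv_one]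
  have i₀ : Fin r := ⟨0, hr⟩
  have hp : HP f (u' i₀) (x' i₀) := ⟨hNb.uu _ _, hNb.xx _ _, by rw [hNb.ux]; simp⟩
  have hbiso := SUf_iso b hb
  have hdetS : (sc f (u' i₀) (x' i₀) l).det ≠ 0 := by
    rw [det_sc hf hp, hl]
    exact inv_ne_zero hδ0
  set t : GL (Fin n) F := Matrix.GeneralLinearGroup.mkOfDetNeZero (sc f (u' i₀) (x' i₀) l) hdetS
    with ht
  have htcoe : (t : Matrix (Fin n) (Fin n) F) = sc f (u' i₀) (x' i₀) l := rfl
  refine ⟨t * g, ⟨fun v w => ?_, ?_⟩, ?_⟩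
  · show f (((t * g : GL (Fin n) F) : Matrix (Fin n) (Fin n) F) *ᵥ v)
      (((t * g : GL (Fin n) F) : Matrix (Fin n) (Fin n) F) *ᵥ w) = f v w
    rw [Units.val_mul, ← Matrix.mulVec_mulVec, ← Matrix.mulVec_mulVec, htcoe,
      sc_iso hf hp l hlN, hgiso]
  · show t * g ∈ (Matrix.GeneralLinearGroup.det : GL (Fin n) F →* Fˣ).ker
    rw [MonoidHom.mem_ker]
    apply Units.ext
    rw [Matrix.GeneralLinearGroup.val_det_apply, Units.val_mul, Matrix.det_mul, htcoe,
      det_sc hf hp, hl, ← hδdef]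
    rw [inv_mul_cancel₀ hδ0]
    rfl
  · apply Units.ext
    rw [Units.val_mul, Units.val_mul, Units.val_mul, Units.val_mul, htcoe, Matrix.mul_assoc, hgc,
      ← Matrix.mul_assoc, sc_comm hf hbiso hb2 hp (hNb.au i₀) (hNb.ax i₀) l, Matrix.mul_assoc]

include hf in
lemma conj_SUf [Fintype F] (h2 : (2 : F) = 0)
    (hdetN : ∀ g : GL (Fin n) F,
      (∀ v w, f ((g : Matrix (Fin n) (Fin n) F) *ᵥ v) ((g : Matrix (Fin n) (Fin n) F) *ᵥ w)
        = f v w) →
      (g : Matrix (Fin n) (Fin n) F).det * σ ((g : Matrix (Fin n) (Fin n) F).det) = 1)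
    (a b : GL (Fin n) F) (ha : a ∈ SUf f) (hb : b ∈ SUf f)
    (ha2 : (a : Matrix (Fin n) (Fin n) F) * (a : Matrix (Fin n) (Fin n) F) = 1)
    (hb2 : (b : Matrix (Fin n) (Fin n) F) * (b : Matrix (Fin n) (Fin n) F) = 1)
    (hne : a ≠ 1)
    (hr : ((a : Matrix (Fin n) (Fin n) F) - 1).rank = ((b : Matrix (Fin n) (Fin n) F) - 1).rank) :
    ∃ h ∈ SUf f, h * a = b * h := by
  obtain ⟨u, x, hNa⟩ := exists_NF hf (a : Matrix (Fin n) (Fin n) F) (SUf_iso a ha) ha2 h2
  obtain ⟨u', x', hNb⟩ := exists_NF hf (b : Matrix (Fin n) (Fin n) F) (SUf_iso b hb) hb2 h2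
  revert u x u' x'
  rw [hr]
  intro u x hNa u' x' hNb
  exact conj_SUf_aux hf h2 hdetN a b hb hb2 hne u x u' x' hNa hNb

end Abstract

end Part0

section Part1

open Matrix Cfsg.Agent.S5631 Cfsg.Agent.S5643 Cfsg.Agent.Lib.Helper8.Unitary
  Cfsg.Agent.Lib.Helper8.SUGen Cfsg.Agent.Lib.Helper8.SUMax Cfsg.Agent.Lib.Helper8.SUConj
  Cfsg.Agent.Lib.Helper8.SUInv Cfsg.Agent.S0781

section Concrete

variable {F : Type*} [Field F] [Fintype F] {n q : ℕ}

lemma detN (hF : Fintype.card F = q ^ 2) (g : GL (Fin n) F)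
    (hg : ∀ v w, hermForm n F q ((g : Matrix (Fin n) (Fin n) F) *ᵥ v)
      ((g : Matrix (Fin n) (Fin n) F) *ᵥ w) = hermForm n F q v w) :
    (g : Matrix (Fin n) (Fin n) F).det * frobEquiv hF ((g : Matrix (Fin n) (Fin n) F).det) = 1 := by
  have hmem : g ∈ GU n F q := hg
  have := Cfsg.Agent.S0278.det_mem_N1 hF n ⟨g, hmem⟩
  rw [Cfsg.Agent.S0278.mem_N1] at this
  rw [frobEquiv_apply, ← pow_succ']
  exact this

lemma rank_of_isConj (a b : Matrix.SpecialLinearGroup (Fin n) F) (h : IsConj a b) :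
    ((a : Matrix (Fin n) (Fin n) F) - 1).rank = ((b : Matrix (Fin n) (Fin n) F) - 1).rank := by
  obtain ⟨c, hc⟩ := isConj_iff.1 h
  have hcc : (c : Matrix (Fin n) (Fin n) F) *
      ((c⁻¹ : Matrix.SpecialLinearGroup (Fin n) F) : Matrix (Fin n) (Fin n) F) = 1 := by
    rw [← Matrix.SpecialLinearGroup.coe_mul, mul_inv_cancel, Matrix.SpecialLinearGroup.coe_one]
  have e : (b : Matrix (Fin n) (Fin n) F) - 1 =
      (c : Matrix (Fin n) (Fin n) F) * ((a : Matrix (Fin n) (Fin n) F) - 1) *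
        ((c⁻¹ : Matrix.SpecialLinearGroup (Fin n) F) : Matrix (Fin n) (Fin n) F) := by
    rw [← hc, Matrix.SpecialLinearGroup.coe_mul, Matrix.SpecialLinearGroup.coe_mul, mul_sub,
      sub_mul, mul_one, hcc]
  have hu1 : IsUnit (c : Matrix (Fin n) (Fin n) F).det := by
    rw [c.2]; exact isUnit_one
  have hu2 : IsUnit ((c⁻¹ : Matrix.SpecialLinearGroup (Fin n) F) :
      Matrix (Fin n) (Fin n) F).det := by
    rw [(c⁻¹).2]; exact isUnit_one
  rw [e, Matrix.rank_mul_eq_left_of_isUnit_det _ _ hu2,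
    Matrix.rank_mul_eq_right_of_isUnit_det _ _ hu1]

end Concrete

theorem result {F : Type*} [Field F] [Fintype F] [CharP F 2] {n q : ℕ} (hF : Fintype.card F = q ^ 2) (hn : 3 ≤ n) (a b : ↥(Cfsg.SU n F q)) (ha : orderOf a = 2) (hb : orderOf b = 2) :
    (IsConj a b ↔ IsConj (a : Matrix.SpecialLinearGroup (Fin n) F) (b : Matrix.SpecialLinearGroup (Fin n) F)) ∧
    (IsConj a b ↔ (((a : Matrix.SpecialLinearGroup (Fin n) F) : Matrix (Fin n) (Fin n) F) - 1).rank = (((b : Matrix.SpecialLinearGroup (Fin n) F) : Matrix (Fin n) (Fin n) F) - 1).rank) := by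
  have h2 : (2 : F) = 0 := by
    have := CharP.cast_eq_zero F 2
    exact_mod_cast this
  have hf := herm_unitary hF n
  have key : (((a : Matrix.SpecialLinearGroup (Fin n) F) : Matrix (Fin n) (Fin n) F) - 1).rank =
      (((b : Matrix.SpecialLinearGroup (Fin n) F) : Matrix (Fin n) (Fin n) F) - 1).rank →
      IsConj a b := by
    intro hr
    have ha2 : a * a = 1 := by rw [← pow_two, ← ha, pow_orderOf_eq_one]
    have hb2 : b * b = 1 := by rw [← pow_two, ← hb, pow_orderOf_eq_one]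
    have hne : a ≠ 1 := by
      intro h
      rw [h, orderOf_one] at ha
      omega
    obtain ⟨h, hh, hc⟩ := conj_SUf hf h2 (detN hF) (phi n a) (phi n b) (phi_mem n a) (phi_mem n b)
      (by rw [← Units.val_mul, ← map_mul, ha2, map_one]; rfl)
      (by rw [← Units.val_mul, ← map_mul, hb2, map_one]; rfl)
      (by
        intro h
        apply hne
        apply phi_injective n
        rw [h, map_one]) hr
    obtain ⟨c, rfl⟩ := exists_lift n h hh
    rw [isConj_iff]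
    refine ⟨c, ?_⟩
    apply phi_injective n
    rw [map_mul, map_mul, map_inv, hc, mul_inv_cancel_right]
  have h12 : IsConj a b →
      IsConj (a : Matrix.SpecialLinearGroup (Fin n) F) (b : Matrix.SpecialLinearGroup (Fin n) F) :=
    fun h => MonoidHom.map_isConj (Subgroup.subtype _) h
  exact ⟨⟨h12, fun h => key (rank_of_isConj _ _ h)⟩, ⟨fun h => rank_of_isConj _ _ (h12 h), key⟩⟩

end Part1

end Cfsg.Agent.S2164
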