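import Cfsg.Statements.S2165
import Cfsg.Agent.S2163
import Mathlib

set_option autoImplicit false
open Cfsg

namespace Cfsg.Agent.S2165

open Matrix Cfsg.Agent.S2163

variable {F : Type*} [Field F]

/-- the permutation matrix -/
def PP (F : Type*) [Field F] (n ℓ : ℕ) : Matrix (Fin n) (Fin n) F :=
  Matrix.of (fun i j : Fin n => if (j.val < ℓ ∧ i.val = j.val + (n - ℓ)) ∨
    (i.val < ℓ ∧ j.val = i.val + (n - ℓ)) ∨ (i = j ∧ ℓ ≤ i.val ∧ i.val < n - ℓ) then (1 : F) else 0)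

/-- the factor -/
def CC (F : Type*) [Field F] (n ℓ : ℕ) : Matrix (Fin n) (Fin ℓ) F := (BB F n ℓ)ᵀ + AA F n ℓ

theorem BB_mul_AA {n ℓ : ℕ} (h2 : 2 * ℓ ≤ n) : BB F n ℓ * AA F n ℓ = 0 := by
  ext k k'
  rw [Matrix.mul_apply, Matrix.zero_apply]
  apply Finset.sum_eq_zero
  intro j _
  simp only [AA, BB, Matrix.of_apply]
  by_cases h : j.val = k.val
  · have : ¬ (j.val = k'.val + (n - ℓ)) := by
      have := k.2
      omega
    rw [if_neg this, mul_zero]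
  · rw [if_neg h, zero_mul]

theorem BBt_mul_BB (n ℓ : ℕ) :
    (BB F n ℓ)ᵀ * BB F n ℓ = Matrix.of (fun i j : Fin n => if i = j ∧ i.val < ℓ then (1 : F) else 0) := by
  ext i j
  rw [Matrix.mul_apply]
  simp only [BB, Matrix.of_apply, Matrix.transpose_apply]
  by_cases h : i = j ∧ i.val < ℓ
  · have e : j.val = i.val := congrArg Fin.val h.1.symm
    rw [if_pos h, Finset.sum_eq_single ⟨i.val, h.2⟩]
    · rw [if_pos rfl, if_pos e, one_mul]
    · intro k _ hk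
      have : ¬ (i.val = k.val) := fun h3 => hk (Fin.ext h3.symm)
      rw [if_neg this, zero_mul]
    · intro h3
      exact absurd (Finset.mem_univ _) h3
  · rw [if_neg h]
    apply Finset.sum_eq_zero
    intro k _
    by_cases h3 : i.val = k.val
    · have : ¬ (j.val = k.val) := by
        intro h4
        apply h
        refine ⟨Fin.ext (h3.trans h4.symm), by rw [h3]; exact k.2⟩
      rw [if_neg this, mul_zero]
    · rw [if_neg h3, zero_mul]

theorem AA_mul_AAt (n ℓ : ℕ) (hl : ℓ ≤ n) :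
    AA F n ℓ * (AA F n ℓ)ᵀ =
      Matrix.of (fun i j : Fin n => if i = j ∧ n - ℓ ≤ i.val then (1 : F) else 0) := by
  ext i j
  rw [Matrix.mul_apply]
  simp only [AA, Matrix.of_apply, Matrix.transpose_apply]
  by_cases h : i = j ∧ n - ℓ ≤ i.val
  · have hk : i.val - (n - ℓ) < ℓ := by have := i.2; omega
    rw [if_pos h, Finset.sum_eq_single ⟨i.val - (n - ℓ), hk⟩]
    · have e1 : i.val = i.val - (n - ℓ) + (n - ℓ) := by omega
      have e2 : j.val = i.val - (n - ℓ) + (n - ℓ) := by rw [← h.1]; omega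
      rw [if_pos e1, if_pos e2, one_mul]
    · intro k _ hk'
      have : ¬ (i.val = k.val + (n - ℓ)) := by
        intro h3
        apply hk'
        apply Fin.ext
        change k.val = i.val - (n - ℓ)
        omega
      rw [if_neg this, zero_mul]
    · intro h3
      exact absurd (Finset.mem_univ _) h3
  · rw [if_neg h]
    apply Finset.sum_eq_zero
    intro k _
    by_cases h3 : i.val = k.val + (n - ℓ)
    · have : ¬ (j.val = k.val + (n - ℓ)) := by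
        intro h4
        apply h
        refine ⟨Fin.ext (h3.trans h4.symm), by omega⟩
      rw [if_neg this, mul_zero]
    · rw [if_neg h3, zero_mul]

variable [CharP F 2]

theorem PP_eq {n ℓ : ℕ} (h1 : 1 ≤ ℓ) (h2 : 2 * ℓ ≤ n) :
    PP F n ℓ = 1 + CC F n ℓ * (CC F n ℓ)ᵀ := by
  have hl : ℓ ≤ n := by omega
  have h11 : (1 : F) + 1 = 0 := CharTwo.add_self_eq_zero 1
  have hexp : CC F n ℓ * (CC F n ℓ)ᵀ = (BB F n ℓ)ᵀ * BB F n ℓ + (NN F n ℓ)ᵀ + NN F n ℓ +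
      AA F n ℓ * (AA F n ℓ)ᵀ := by
    unfold CC
    rw [Matrix.transpose_add, Matrix.transpose_transpose, Matrix.add_mul, Matrix.mul_add,
      Matrix.mul_add, NN_eq hl, Matrix.transpose_mul]
    abel
  rw [hexp, BBt_mul_BB, AA_mul_AAt n ℓ hl]
  ext i j
  simp only [PP, Matrix.add_apply, Matrix.of_apply, Matrix.transpose_apply, NN_apply]
  by_cases hij : i = j
  · subst hij
    rw [Matrix.one_apply_eq]
    have c1 : ¬ (i.val < ℓ ∧ i.val = i.val + (n - ℓ)) := by omega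
    simp only [c1, false_or, true_and, if_false, add_zero]
    by_cases ha : i.val < ℓ
    · have hb : ¬ (n - ℓ ≤ i.val) := by omega
      have hc : ¬ (ℓ ≤ i.val ∧ i.val < n - ℓ) := by omega
      rw [if_pos ha, if_neg hb, if_neg hc, add_zero, h11]
    · by_cases hb : n - ℓ ≤ i.val
      · have hc : ¬ (ℓ ≤ i.val ∧ i.val < n - ℓ) := by omega
        rw [if_neg ha, if_pos hb, if_neg hc, zero_add, h11]
      · have hc : ℓ ≤ i.val ∧ i.val < n - ℓ := by omega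
        rw [if_neg ha, if_neg hb, if_pos hc, add_zero, add_zero]
  · rw [Matrix.one_apply_ne hij]
    simp only [hij, false_and, or_false, if_false, add_zero, zero_add]
    by_cases c1 : j.val < ℓ ∧ i.val = j.val + (n - ℓ)
    · have c2 : ¬ (i.val < ℓ ∧ j.val = i.val + (n - ℓ)) := by omega
      rw [if_pos (Or.inl c1), if_pos c1, if_neg c2, zero_add]
    · by_cases c2 : i.val < ℓ ∧ j.val = i.val + (n - ℓ)
      · rw [if_pos (Or.inr c2), if_neg c1, if_pos c2, add_zero]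
      · rw [if_neg (by tauto), if_neg c1, if_neg c2, add_zero]

theorem CCt_mul_CC {n ℓ : ℕ} (h2 : 2 * ℓ ≤ n) : (CC F n ℓ)ᵀ * CC F n ℓ = 0 := by
  have hl : ℓ ≤ n := by omega
  unfold CC
  rw [Matrix.transpose_add, Matrix.transpose_transpose, Matrix.add_mul, Matrix.mul_add,
    Matrix.mul_add, BB_mul_tr n ℓ hl, AA_tr_mul n ℓ hl, BB_mul_AA h2]
  have : (AA F n ℓ)ᵀ * (BB F n ℓ)ᵀ = 0 := by
    rw [← Matrix.transpose_mul, BB_mul_AA h2, Matrix.transpose_zero]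
  rw [this, add_zero, zero_add]
  ext i j
  exact CharTwo.add_self_eq_zero _

theorem PP_sq {n ℓ : ℕ} (h1 : 1 ≤ ℓ) (h2 : 2 * ℓ ≤ n) : PP F n ℓ * PP F n ℓ = 1 := by
  rw [PP_eq h1 h2]
  set M := CC F n ℓ * (CC F n ℓ)ᵀ with hM
  have hMM : M * M = 0 := by
    rw [hM, Matrix.mul_assoc, ← Matrix.mul_assoc (CC F n ℓ)ᵀ, CCt_mul_CC h2, Matrix.zero_mul,
      Matrix.mul_zero]
  have hM2 : M + M = 0 := by
    ext i j
    exact CharTwo.add_self_eq_zero _
  rw [Matrix.add_mul, Matrix.mul_add, Matrix.mul_add, hMM, Matrix.one_mul, Matrix.mul_one,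
    Matrix.one_mul, add_zero, add_assoc, hM2, add_zero]

theorem PP_transpose {n ℓ : ℕ} (h1 : 1 ≤ ℓ) (h2 : 2 * ℓ ≤ n) : (PP F n ℓ)ᵀ = PP F n ℓ := by
  rw [PP_eq h1 h2, Matrix.transpose_add, Matrix.transpose_one, Matrix.transpose_mul,
    Matrix.transpose_transpose]

theorem det_PP {n ℓ : ℕ} (h1 : 1 ≤ ℓ) (h2 : 2 * ℓ ≤ n) : (PP F n ℓ).det = 1 := by
  have h := congrArg Matrix.det (PP_sq (F := F) h1 h2)
  rw [Matrix.det_mul, Matrix.det_one] at h
  have : ((PP F n ℓ).det - 1) ^ 2 = 0 := by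
    have h11 : (2 : F) = 0 := CharTwo.two_eq_zero
    linear_combination h - ((PP F n ℓ).det - 1) * h11
  exact sub_eq_zero.1 (pow_eq_zero_iff (by norm_num) |>.1 this)

theorem rank_PP_sub {n ℓ : ℕ} (h1 : 1 ≤ ℓ) (h2 : 2 * ℓ ≤ n) : (PP F n ℓ - 1).rank = ℓ := by
  have hl : ℓ ≤ n := by omega
  rw [PP_eq h1 h2, add_sub_cancel_left]
  apply le_antisymm
  · calc (CC F n ℓ * (CC F n ℓ)ᵀ).rank ≤ (CC F n ℓ).rank := Matrix.rank_mul_le_left _ _
      _ ≤ Fintype.card (Fin ℓ) := Matrix.rank_le_card_width _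
      _ = ℓ := Fintype.card_fin ℓ
  · have hBC : BB F n ℓ * CC F n ℓ = 1 := by
      unfold CC
      rw [Matrix.mul_add, BB_mul_tr n ℓ hl, BB_mul_AA h2, add_zero]
    have h3 : BB F n ℓ * (CC F n ℓ * (CC F n ℓ)ᵀ) * (BB F n ℓ)ᵀ = 1 := by
      rw [← Matrix.mul_assoc, hBC, Matrix.one_mul, ← Matrix.transpose_mul, hBC, Matrix.transpose_one]
    calc ℓ = Fintype.card (Fin ℓ) := (Fintype.card_fin ℓ).symm
      _ = (1 : Matrix (Fin ℓ) (Fin ℓ) F).rank := (Matrix.rank_one).symm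
      _ = (BB F n ℓ * (CC F n ℓ * (CC F n ℓ)ᵀ) * (BB F n ℓ)ᵀ).rank := by rw [h3]
      _ ≤ (BB F n ℓ * (CC F n ℓ * (CC F n ℓ)ᵀ)).rank := Matrix.rank_mul_le_left _ _
      _ ≤ (CC F n ℓ * (CC F n ℓ)ᵀ).rank := Matrix.rank_mul_le_right _ _


theorem PP_pow (n ℓ q : ℕ) (hq : q ≠ 0) (i j : Fin n) : PP F n ℓ i j ^ q = PP F n ℓ i j := by
  simp only [PP, Matrix.of_apply]
  split_ifs
  · rw [one_pow]
  · rw [zero_pow hq]

theorem PP_herm {n ℓ q e : ℕ} (h1 : 1 ≤ ℓ) (h2 : 2 * ℓ ≤ n) (hq : q = 2 ^ e) (u v : Fin n → F) :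
    hermForm n F q (PP F n ℓ *ᵥ u) (PP F n ℓ *ᵥ v) = hermForm n F q u v := by
  have hq0 : q ≠ 0 := by rw [hq]; positivity
  have hpow : ∀ i, (PP F n ℓ *ᵥ v) i ^ q = (PP F n ℓ *ᵥ (fun k => v k ^ q)) i := by
    intro i
    simp only [Matrix.mulVec, dotProduct]
    rw [hq, sum_pow_char_pow]
    apply Finset.sum_congr rfl
    intro j _
    rw [mul_pow, ← hq, PP_pow n ℓ q hq0]
  unfold hermForm
  simp only [hpow]
  change (PP F n ℓ *ᵥ u) ⬝ᵥ (PP F n ℓ *ᵥ (fun k => v k ^ q)) = u ⬝ᵥ (fun k => v k ^ q)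
  rw [Matrix.dotProduct_mulVec, ← Matrix.mulVec_transpose, PP_transpose h1 h2, Matrix.mulVec_mulVec,
    PP_sq h1 h2, Matrix.one_mulVec]

theorem result {F : Type*} [Field F] [Fintype F] [CharP F 2] {n q : ℕ} (hF : Fintype.card F = q ^ 2) (hn : 3 ≤ n) (ℓ : ℕ) (h1 : 1 ≤ ℓ) (h2 : 2 * ℓ ≤ n) :
    ∃ a : ↥(Cfsg.SU n F q), (((a : Matrix.SpecialLinearGroup (Fin n) F) : Matrix (Fin n) (Fin n) F) = Matrix.of (fun i j : Fin n => if (j.val < ℓ ∧ i.val = j.val + (n - ℓ)) ∨ (i.val < ℓ ∧ j.val = i.val + (n - ℓ)) ∨ (i = j ∧ ℓ ≤ i.val ∧ i.val < n - ℓ) then (1 : F) else 0)) ∧ orderOf a = 2 ∧ ((((a : Matrix.SpecialLinearGroup (Fin n) F) : Matrix (Fin n) (Fin n) F)) - 1).rank = ℓ := by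
  -- `q` is a power of two
  have hq : ∃ e, q = 2 ^ e := by
    obtain ⟨⟨k, hk⟩, _, hk'⟩ := FiniteField.card F 2
    have hk'' : Fintype.card F = 2 ^ k := hk'
    have : q ∣ 2 ^ (k : ℕ) := by
      rw [← hk'', hF]
      exact Dvd.intro_left (q ^ 1) (by ring)
    obtain ⟨e, _, he⟩ := (Nat.dvd_prime_pow Nat.prime_two).1 this
    exact ⟨e, he⟩
  obtain ⟨e, hq⟩ := hq
  set s : Matrix.SpecialLinearGroup (Fin n) F := ⟨PP F n ℓ, det_PP h1 h2⟩ with hs
  have hmem : s ∈ Cfsg.SU n F q := by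
    intro u v
    have : slToMat n F s = PP F n ℓ := rfl
    rw [this]
    exact PP_herm h1 h2 hq u v
  refine ⟨⟨s, hmem⟩, rfl, ?_, rank_PP_sub h1 h2⟩
  have : Fact (Nat.Prime 2) := ⟨Nat.prime_two⟩
  apply orderOf_eq_prime
  · apply Subtype.ext
    apply Subtype.ext
    rw [pow_two]
    exact PP_sq h1 h2
  · intro h
    have h3 : PP F n ℓ = 1 := congrArg (fun x : ↥(Cfsg.SU n F q) => (x.1.1 : Matrix (Fin n) (Fin n) F)) h
    have h5 := rank_PP_sub (F := F) h1 h2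
    rw [h3, sub_self, Matrix.rank_zero] at h5
    omega

end Cfsg.Agent.S2165
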