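import Cfsg.Statements.S2167
import Cfsg.Agent.Lib.Helper5.Symp
import Cfsg.Agent.Lib.Helper5.AltEven
import Mathlib

set_option autoImplicit false
open Cfsg

namespace Cfsg.Agent.S2167

open Matrix Cfsg Cfsg.Agent.Lib.Helper5.Symp Cfsg.Agent.Lib.Helper5.AltEven

set_option linter.unusedSectionVars false
set_option linter.unusedVariables false

variable {F : Type*} [Field F] [Fintype F] [CharP F 2] {m : ℕ}

theorem two_eq_zero' : (2 : F) = 0 := by
  have := CharP.cast_eq_zero F 2
  exact_mod_cast this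

theorem neg_eq_self (x : F) : -x = x := by
  have h : x + x = 0 := by rw [← two_mul, two_eq_zero', zero_mul]
  exact neg_eq_of_add_eq_zero_left h

/-- squaring is surjective on a finite field of characteristic two -/
theorem sq_surj (d : F) : ∃ s : F, s ^ 2 = d := by
  have hinj : Function.Injective (fun x : F => x ^ 2) := by
    intro x y hxy
    have h1 : (x - y) ^ 2 = 0 := by
      have h3 : (x - y) ^ 2 = x ^ 2 - 2 * x * y + y ^ 2 := by ring
      simp only at hxy
      rw [h3, two_eq_zero', hxy]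
      have h4 : y ^ 2 + y ^ 2 = 0 := by rw [← two_mul, two_eq_zero', zero_mul]
      linear_combination h4
    exact sub_eq_zero.1 ((pow_eq_zero_iff (two_ne_zero)).1 h1)
  exact (Finite.injective_iff_surjective.1 hinj) d

theorem card_ker_mul {V : Type*} [AddCommGroup V] [Finite V] (φ : V →+ F)
    (hφ : Function.Surjective φ) :
    Nat.card {v : V // φ v = 0} * Fintype.card F = Nat.card V := by
  rw [AddSubgroup.card_eq_card_quotient_mul_card_addSubgroup φ.ker,
    Nat.card_congr (QuotientAddGroup.quotientKerEquivOfSurjective φ hφ).toEquiv,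
    Nat.card_eq_fintype_card (α := F), mul_comm]
  congr 1

theorem main_count (A : Matrix (Fin m ⊕ Fin m) (Fin m ⊕ Fin m) F)
    (hA : A ∈ Matrix.symplecticGroup (Fin m) F) (hAA : A * A = 1) :
    (Nat.card {v : Fin m ⊕ Fin m → F // sympForm m F v (A *ᵥ v) = 0} = Fintype.card F ^ (2 * m) ∨
     Nat.card {v : Fin m ⊕ Fin m → F // sympForm m F v (A *ᵥ v) = 0} * Fintype.card F
       = Fintype.card F ^ (2 * m)) := by
  classical
  have hcardV : Nat.card (Fin m ⊕ Fin m → F) = Fintype.card F ^ (2 * m) := by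
    rw [Nat.card_eq_fintype_card, Fintype.card_fun, Fintype.card_sum, Fintype.card_fin, two_mul]
  have hadd : ∀ u v : Fin m ⊕ Fin m → F, sympForm m F (u + v) (A *ᵥ (u + v))
      = sympForm m F u (A *ᵥ u) + sympForm m F v (A *ᵥ v) := by
    intro u v
    rw [Matrix.mulVec_add, sympForm_add_left, sympForm_add_right, sympForm_add_right]
    have h1 : sympForm m F v (A *ᵥ u) = sympForm m F u (A *ᵥ v) := by
      rw [← sympForm_of_mem m hA v (A *ᵥ u), Matrix.mulVec_mulVec, hAA, Matrix.one_mulVec,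
        sympForm_swap, neg_eq_self]
    rw [h1]
    have h2 : sympForm m F u (A *ᵥ v) + sympForm m F u (A *ᵥ v) = 0 := by
      rw [← two_mul, two_eq_zero', zero_mul]
    linear_combination h2
  have hsmul : ∀ (c : F) (v : Fin m ⊕ Fin m → F), sympForm m F (c • v) (A *ᵥ (c • v))
      = c ^ 2 * sympForm m F v (A *ᵥ v) := by
    intro c v
    rw [Matrix.mulVec_smul, sympForm_smul_left, sympForm_smul_right]
    ring
  let φ : (Fin m ⊕ Fin m → F) →+ F :=
    { toFun := fun v => sympForm m F v (A *ᵥ v)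
      map_zero' := by simp [sympForm_zero_left]
      map_add' := hadd }
  by_cases hall : ∀ v : Fin m ⊕ Fin m → F, sympForm m F v (A *ᵥ v) = 0
  · left
    rw [← hcardV]
    exact Nat.card_congr (Equiv.subtypeUnivEquiv hall)
  · right
    push Not at hall
    obtain ⟨v₀, hv₀⟩ := hall
    have hsurj : Function.Surjective φ := by
      intro d
      obtain ⟨s, hs⟩ := sq_surj (d / sympForm m F v₀ (A *ᵥ v₀))
      refine ⟨s • v₀, ?_⟩
      show sympForm m F (s • v₀) (A *ᵥ (s • v₀)) = d
      rw [hsmul, hs, div_mul_cancel₀ _ hv₀]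
    rw [← hcardV]
    exact card_ker_mul φ hsurj

theorem main_even (A : Matrix (Fin m ⊕ Fin m) (Fin m ⊕ Fin m) F)
    (hall : ∀ v : Fin m ⊕ Fin m → F, sympForm m F v (A *ᵥ v) = 0) : Even (A - 1).rank := by
  rw [← Matrix.rank_mul_eq_right_of_isUnit_det (Matrix.J (Fin m) F) (A - 1)
    (Matrix.isUnit_det_J (Fin m) F)]
  apply even_rank_of_alt
  intro v
  rw [← Matrix.mulVec_mulVec, Matrix.sub_mulVec, Matrix.one_mulVec]
  show sympForm m F v (A *ᵥ v - v) = 0
  rw [sympForm_sub_right, hall, sympForm_self, sub_zero]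


/-- For an involution t of the symplectic group Sp_{2m}(F), m ≥ 2, F a finite field of characteristic two (matrices A with A J Aᵀ = J acting on column vectors, alternating form f(u, v) = u ⬝ (J v)): the set V(t) of vectors v with f(v, t v) = 0 has either q^{2m} or q^{2m−1} elements, q the order of F (it is a subspace of codimension at most 1), and if it is the whole space then t − 1 has even rank. -/
theorem result {F : Type*} [Field F] [Fintype F] [CharP F 2] {m : ℕ} (hm : 2 ≤ m) (a : ↥(Matrix.symplecticGroup (Fin m) F)) (ha : orderOf a = 2) :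
    (Nat.card {v : Fin m ⊕ Fin m → F // Cfsg.sympForm m F v (Matrix.mulVec ((a : ↥(Matrix.symplecticGroup (Fin m) F)) : Matrix (Fin m ⊕ Fin m) (Fin m ⊕ Fin m) F) v) = 0} = Fintype.card F ^ (2 * m) ∨ Nat.card {v : Fin m ⊕ Fin m → F // Cfsg.sympForm m F v (Matrix.mulVec ((a : ↥(Matrix.symplecticGroup (Fin m) F)) : Matrix (Fin m ⊕ Fin m) (Fin m ⊕ Fin m) F) v) = 0} * Fintype.card F = Fintype.card F ^ (2 * m)) ∧
    ((∀ v : Fin m ⊕ Fin m → F, Cfsg.sympForm m F v (Matrix.mulVec ((a : ↥(Matrix.symplecticGroup (Fin m) F)) : Matrix (Fin m ⊕ Fin m) (Fin m ⊕ Fin m) F) v) = 0) → Even (((a : ↥(Matrix.symplecticGroup (Fin m) F)) : Matrix (Fin m ⊕ Fin m) (Fin m ⊕ Fin m) F) - 1).rank) := by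
  have hAA : (a : Matrix (Fin m ⊕ Fin m) (Fin m ⊕ Fin m) F) * (a : Matrix (Fin m ⊕ Fin m) (Fin m ⊕ Fin m) F) = 1 := by
    have h1 : a ^ 2 = 1 := by rw [← ha]; exact pow_orderOf_eq_one a
    rw [pow_two] at h1
    have := congrArg (fun x : ↥(Matrix.symplecticGroup (Fin m) F) =>
      (x : Matrix (Fin m ⊕ Fin m) (Fin m ⊕ Fin m) F)) h1
    simpa using this
  exact ⟨main_count _ a.2 hAA, main_even _⟩

end Cfsg.Agent.S2167
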