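import Mathlib
import Cfsg.Statements.S2172
import Cfsg.Agent.Lib.Helper8.SpInvH
import Cfsg.Agent.Lib.Helper5.Orth.PlusMinusForm

set_option autoImplicit false
open Cfsg

namespace Cfsg.Agent.S2172

/-- Splitting of involution classes from O to Ω for the hyperbolic quadratic form Q = Σ x_i y_i in dimension 2m over a finite field F of characteristic two, m ≥ 4. Let t, s be involutions of the commutator subgroup Ω that are conjugate in the full isometry group O. If it is not the case that t − 1 has rank m and Q(v + t v) = 0 for every vector v, then t and s are conjugate by an element of Ω. If t − 1 has rank m and Q(v + t v) = 0 for all v, then t and s are conjugate by an element of Ω exactly when the intersection of the images of t − 1 and s − 1 has even dimension (so the class of t in O meets at most two classes of Ω). -/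
theorem result {F : Type*} [Field F] [Fintype F] [CharP F 2] {m : ℕ} (hm : 4 ≤ m) (t s : ↥(Cfsg.isometryGroup F (Cfsg.quadFormPlus m F))) (ht : orderOf t = 2) (hs : orderOf s = 2) (htO : t ∈ Cfsg.Omega F (Cfsg.quadFormPlus m F)) (hsO : s ∈ Cfsg.Omega F (Cfsg.quadFormPlus m F)) (hconj : IsConj t s) :
    (¬ (((((t : ↥(Cfsg.isometryGroup F (Cfsg.quadFormPlus m F))) : GL (Fin m ⊕ Fin m) F) : Matrix (Fin m ⊕ Fin m) (Fin m ⊕ Fin m) F) - 1).rank = m ∧ ∀ v : Fin m ⊕ Fin m → F, Cfsg.quadFormPlus m F (v + Matrix.mulVec (((t : ↥(Cfsg.isometryGroup F (Cfsg.quadFormPlus m F))) : GL (Fin m ⊕ Fin m) F) : Matrix (Fin m ⊕ Fin m) (Fin m ⊕ Fin m) F) v) = 0) →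
      ∃ g ∈ Cfsg.Omega F (Cfsg.quadFormPlus m F), g * t * g⁻¹ = s) ∧
    ((((((t : ↥(Cfsg.isometryGroup F (Cfsg.quadFormPlus m F))) : GL (Fin m ⊕ Fin m) F) : Matrix (Fin m ⊕ Fin m) (Fin m ⊕ Fin m) F) - 1).rank = m ∧ ∀ v : Fin m ⊕ Fin m → F, Cfsg.quadFormPlus m F (v + Matrix.mulVec (((t : ↥(Cfsg.isometryGroup F (Cfsg.quadFormPlus m F))) : GL (Fin m ⊕ Fin m) F) : Matrix (Fin m ⊕ Fin m) (Fin m ⊕ Fin m) F) v) = 0) →
      ((∃ g ∈ Cfsg.Omega F (Cfsg.quadFormPlus m F), g * t * g⁻¹ = s) ↔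
        Even (Module.finrank F ↥(LinearMap.range (Matrix.toLin' ((((t : ↥(Cfsg.isometryGroup F (Cfsg.quadFormPlus m F))) : GL (Fin m ⊕ Fin m) F) : Matrix (Fin m ⊕ Fin m) (Fin m ⊕ Fin m) F) - 1)) ⊓ LinearMap.range (Matrix.toLin' ((((s : ↥(Cfsg.isometryGroup F (Cfsg.quadFormPlus m F))) : GL (Fin m ⊕ Fin m) F) : Matrix (Fin m ⊕ Fin m) (Fin m ⊕ Fin m) F) - 1)))))) := by
  have hQ := Cfsg.Agent.Lib.Helper5.OrthPM.quadFormPlus_nondeg (F := F) m
  have hcard : Fintype.card (Fin m ⊕ Fin m) = 2 * m := by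
    rw [Fintype.card_sum, Fintype.card_fin]; ring
  have h4 : Fintype.card F ≠ 2 ∨ Fintype.card (Fin m ⊕ Fin m) ≠ 4 :=
    Or.inr (by rw [hcard]; omega)
  constructor
  · intro hnot
    by_cases halt : Cfsg.Agent.Lib.Helper8.SpInv.IsAltQ (Cfsg.quadFormPlus m F) t
    · have h1 := (Cfsg.Agent.Lib.Helper8.SpInv.isAltQ_iff t).1 halt
      have hr : ((((t : ↥(Cfsg.isometryGroup F (Cfsg.quadFormPlus m F))) :
          GL (Fin m ⊕ Fin m) F) : Matrix (Fin m ⊕ Fin m) (Fin m ⊕ Fin m) F) - 1).rank ≠ m :=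
        fun h => hnot ⟨h, h1⟩
      have hr2 := Cfsg.Agent.Lib.Helper8.SpInv.two_rank_le_Q hQ t ht
      rw [hcard] at hr2
      obtain ⟨z, hz1, hz2⟩ := Cfsg.Agent.Lib.Helper8.SpInv.exists_odd_centralizer_of_rank_lt hQ t
        (by rw [hcard]; omega)
      exact Cfsg.Agent.Lib.Helper8.SpInv.omega_conj_of_odd_centralizer hQ h4 t s hconj z hz1 hz2
    · obtain ⟨z, hz1, hz2⟩ :=
        Cfsg.Agent.Lib.Helper8.SpInv.exists_odd_centralizer_nonalt hQ t ht halt
      exact Cfsg.Agent.Lib.Helper8.SpInv.omega_conj_of_odd_centralizer hQ h4 t s hconj z hz1 hz2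
  · rintro ⟨hrank, halt⟩
    exact Cfsg.Agent.Lib.Helper8.SpInv.omega_conj_iff_of_maxTS hQ h4 m hcard t s htO hconj hrank
      halt

end Cfsg.Agent.S2172
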