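import Mathlib
import Cfsg.Statements.S2173
import Cfsg.Agent.Lib.Helper8.SpInvH
import Cfsg.Agent.Lib.Helper8.MinusTS

set_option autoImplicit false
open Cfsg

namespace Cfsg.Agent.S2173

/-- For the quadratic form Σ x_i y_i + (z₁² + c z₁ z₂ + d z₂²) in dimension 2m with anisotropic binary part over a finite field F of characteristic two, m ≥ 4 (minus type): two involutions of the commutator subgroup Ω that are conjugate in the full isometry group O are conjugate by an element of Ω (no class of involutions of O inside Ω splits). -/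
theorem result {F : Type*} [Field F] [Fintype F] [CharP F 2] {m : ℕ} (hm : 4 ≤ m) (c d : F) (hcd : ∀ z₁ z₂ : F, z₁ ^ 2 + c * z₁ * z₂ + d * z₂ ^ 2 = 0 → z₁ = 0 ∧ z₂ = 0) (t s : ↥(Cfsg.isometryGroup F (Cfsg.quadFormMinus (m - 1) F c d))) (ht : orderOf t = 2) (hs : orderOf s = 2) (htO : t ∈ Cfsg.Omega F (Cfsg.quadFormMinus (m - 1) F c d)) (hsO : s ∈ Cfsg.Omega F (Cfsg.quadFormMinus (m - 1) F c d)) (hconj : IsConj t s) :
    ∃ g ∈ Cfsg.Omega F (Cfsg.quadFormMinus (m - 1) F c d), g * t * g⁻¹ = s := by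
  have hQ := Cfsg.Agent.H9.Orth.isNondeg_quadFormMinus (F := F) (m - 1) c d hcd
  have hcard : Fintype.card ((Fin (m - 1) ⊕ Fin (m - 1)) ⊕ Fin 2) = 2 * m := by
    rw [Fintype.card_sum, Fintype.card_sum, Fintype.card_fin, Fintype.card_fin]; omega
  have h4 : Fintype.card F ≠ 2 ∨ Fintype.card ((Fin (m - 1) ⊕ Fin (m - 1)) ⊕ Fin 2) ≠ 4 :=
    Or.inr (by rw [hcard]; omega)
  by_cases halt : Cfsg.Agent.Lib.Helper8.SpInv.IsAltQ (Cfsg.quadFormMinus (m - 1) F c d) t
  · have h1 := (Cfsg.Agent.Lib.Helper8.SpInv.isAltQ_iff t).1 halt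
    have hts := Cfsg.Agent.Lib.Helper8.SpInv.imS_ts_of_alt t h1
    have hle := Cfsg.Agent.Lib.Helper8.MinusTS.no_ts (m - 1) c d hcd _ hts
    rw [← Cfsg.Agent.Lib.Helper5.OrthPar.rank_eq] at hle
    obtain ⟨z, hz1, hz2⟩ := Cfsg.Agent.Lib.Helper8.SpInv.exists_odd_centralizer_of_rank_lt hQ t
      (by rw [hcard]; omega)
    exact Cfsg.Agent.Lib.Helper8.SpInv.omega_conj_of_odd_centralizer hQ h4 t s hconj z hz1 hz2
  · obtain ⟨z, hz1, hz2⟩ :=
      Cfsg.Agent.Lib.Helper8.SpInv.exists_odd_centralizer_nonalt hQ t ht halt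
    exact Cfsg.Agent.Lib.Helper8.SpInv.omega_conj_of_odd_centralizer hQ h4 t s hconj z hz1 hz2

end Cfsg.Agent.S2173
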