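import Cfsg.Statements.S2177
import Cfsg.Agent.Lib.Helper5.Chev.G2Inv7

set_option autoImplicit false
open Cfsg

namespace Cfsg.Agent.S2177

/-- Conjugacy classes of involutions in the Chevalley group of type G₂ over a finite field F of characteristic two with at least four elements (the matrix group generated by the root elements x_r(t)). In this problem's root numbering for type G₂ (the Chevalley data module; p₁ = a short, p₂ = b long; roots indexed by coefficient vectors in increasing order) let 11 be the highest root 3a + 2b (long) and 9 the short root 2a + b; consider x_{3a+2b}(1) and x_{2a+b}(1). Then: each invertible matrix equal to one of these two products lies in the group and has order 2; every element of order 2 of the group is conjugate in the group to one of them; and no two of them are conjugate in the group (so, the two matrices being distinct, the group has exactly two conjugacy classes of involutions).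 -/
theorem result {F : Type*} [Field F] [Fintype F] [CharP F 2] (hF : 4 ≤ Fintype.card F) :
    (∀ y : GL Cfsg.Lie.chevG2.Idx F, ((y : GL Cfsg.Lie.chevG2.Idx F) : Matrix Cfsg.Lie.chevG2.Idx Cfsg.Lie.chevG2.Idx F) ∈ [Cfsg.Lie.chevG2.x F 11 1, Cfsg.Lie.chevG2.x F 9 1] → y ∈ Cfsg.Lie.chevG2.group F ∧ orderOf y = 2) ∧
    (∀ g ∈ Cfsg.Lie.chevG2.group F, orderOf g = 2 → ∃ y ∈ Cfsg.Lie.chevG2.group F, ((y : GL Cfsg.Lie.chevG2.Idx F) : Matrix Cfsg.Lie.chevG2.Idx Cfsg.Lie.chevG2.Idx F) ∈ [Cfsg.Lie.chevG2.x F 11 1, Cfsg.Lie.chevG2.x F 9 1] ∧ ∃ h ∈ Cfsg.Lie.chevG2.group F, h * g * h⁻¹ = y) ∧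
    (∀ y₁ ∈ Cfsg.Lie.chevG2.group F, ∀ y₂ ∈ Cfsg.Lie.chevG2.group F, ((y₁ : GL Cfsg.Lie.chevG2.Idx F) : Matrix Cfsg.Lie.chevG2.Idx Cfsg.Lie.chevG2.Idx F) ∈ [Cfsg.Lie.chevG2.x F 11 1, Cfsg.Lie.chevG2.x F 9 1] → ((y₂ : GL Cfsg.Lie.chevG2.Idx F) : Matrix Cfsg.Lie.chevG2.Idx Cfsg.Lie.chevG2.Idx F) ∈ [Cfsg.Lie.chevG2.x F 11 1, Cfsg.Lie.chevG2.x F 9 1] →
      (∃ h ∈ Cfsg.Lie.chevG2.group F, h * y₁ * h⁻¹ = y₂) → ((y₁ : GL Cfsg.Lie.chevG2.Idx F) : Matrix Cfsg.Lie.chevG2.Idx Cfsg.Lie.chevG2.Idx F) = ((y₂ : GL Cfsg.Lie.chevG2.Idx F) : Matrix Cfsg.Lie.chevG2.Idx Cfsg.Lie.chevG2.Idx F)) := by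
  classical
  have hadd := Cfsg.Agent.Lib.Helper5.Chev.allAdd_all (F := F) Cfsg.Lie.chevG2
    Cfsg.Agent.Lib.Helper5.Chev.G2S.memG2
  have hinj := Cfsg.Agent.Lib.Helper5.Chev.xInj_all (F := F) Cfsg.Lie.chevG2
    Cfsg.Agent.Lib.Helper5.Chev.G2S.memG2
  have h01 : (1 : F) ≠ 0 := one_ne_zero
  -- the two elements
  have hord : ∀ r, r = 11 ∨ r = 9 → hadd.xU r 1 ∈ Cfsg.Lie.chevG2.group F ∧
      orderOf (hadd.xU r 1) = 2 := by
    intro r hr
    refine ⟨hadd.xU_mem_group r 1, ?_⟩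
    have : Fact (Nat.Prime 2) := ⟨Nat.prime_two⟩
    apply orderOf_eq_prime
    · rw [pow_two]
      apply Units.ext
      rw [Units.val_mul]
      show Cfsg.Lie.chevG2.x F r 1 * Cfsg.Lie.chevG2.x F r 1 = 1
      rw [hadd.x_add r 1 1, CharTwo.add_self_eq_zero]
      exact Cfsg.Agent.Lib.Helper5.Chev.x_zero r
    · intro h1
      have h2 : Cfsg.Lie.chevG2.x F r 1 = 1 := congrArg Units.val h1
      have hr' : r < Cfsg.Lie.chevG2.nroots := by
        rw [Cfsg.Agent.Lib.Helper5.Chev.G2I.nroots_G2]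
        rcases hr with rfl | rfl <;> decide
      exact h01 (hinj r hr' 1 h2)
  have hmat : ∀ y : GL Cfsg.Lie.chevG2.Idx F,
      ((y : GL Cfsg.Lie.chevG2.Idx F) : Matrix Cfsg.Lie.chevG2.Idx Cfsg.Lie.chevG2.Idx F) ∈
        [Cfsg.Lie.chevG2.x F 11 1, Cfsg.Lie.chevG2.x F 9 1] →
      y = hadd.xU 11 1 ∨ y = hadd.xU 9 1 := by
    intro y hy
    rw [List.mem_cons, List.mem_singleton] at hy
    rcases hy with h | h
    · exact Or.inl (Units.ext h)
    · exact Or.inr (Units.ext h)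
  refine ⟨?_, ?_, ?_⟩
  · intro y hy
    rcases hmat y hy with rfl | rfl
    · exact hord 11 (Or.inl rfl)
    · exact hord 9 (Or.inr rfl)
  · intro g hg hg2
    have hgg : g * g = 1 := by rw [← pow_two, ← hg2]; exact pow_orderOf_eq_one g
    have hg1 : g ≠ 1 := by
      intro h
      rw [h, orderOf_one] at hg2
      omega
    rcases Cfsg.Agent.Lib.Helper5.Chev.G2I.classify_G2 g hg hgg hg1 hadd with k | k
    · refine ⟨hadd.xU 11 1, hadd.xU_mem_group 11 1, ?_, k⟩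
      exact List.mem_cons_self
    · refine ⟨hadd.xU 9 1, hadd.xU_mem_group 9 1, ?_, k⟩
      exact List.mem_cons_of_mem _ List.mem_cons_self
  · intro y₁ hy₁ y₂ hy₂ hm₁ hm₂ hc
    rcases hmat y₁ hm₁ with rfl | rfl <;> rcases hmat y₂ hm₂ with rfl | rfl
    · rfl
    · exact absurd hc (Cfsg.Agent.Lib.Helper5.Chev.G2I.not_conj hadd)
    · exfalso
      obtain ⟨h, hh, hconj⟩ := hc
      apply Cfsg.Agent.Lib.Helper5.Chev.G2I.not_conj hadd
      refine ⟨h⁻¹, (Cfsg.Lie.chevG2.group F).inv_mem hh, ?_⟩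
      rw [← hconj]
      group
    · rfl

end Cfsg.Agent.S2177
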