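import Cfsg.Statements.S2197
import Cfsg.Agent.Lib.Lead.TitsTT.Abstract
import Cfsg.Agent.Lib.Helper8.Tits2T
import Cfsg.Agent.Lib.Helper6.F4Tits

set_option autoImplicit false
open Cfsg

namespace Cfsg.Agent.S2197

open Cfsg.Agent.Lib.Helper8.Tits2T Cfsg.Agent.Lib.Helper6.F4Iso

/-- the group of permutations of the 1600 points is the derived subgroup of `²F₄(2)` -/
noncomputable def isoTits : ↥P ≃* commutator ↥G := isoP.symm.trans isoD.symm

/-- a group isomorphic to the group of permutations of the 1600 points has no faithful doubly transitive action -/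
theorem main {G' : Type} [Group G'] (e : ↥P ≃* G') {Ω : Type*} [Fintype Ω] [MulAction G' Ω] [FaithfulSMul G' Ω]
    (hΩ : 3 ≤ Fintype.card Ω) : ¬ MulAction.IsMultiplyPretransitive G' Ω 2 := by
  obtain ⟨P3, P5, y0, x5, x, y, hP3, h3, hP5, h5, hx, hy, hyx⟩ := tits_facts
  have hfin : Finite ↥P := Nat.finite_of_card_ne_zero (by rw [card_P]; norm_num)
  exact Cfsg.Agent.Lib.Lead.TitsTT.no_two_transitive_of_equiv e card_P P3 hP3 y0 h3
    P5 hP5 x5 h5 x y hx hy 3 (by norm_num) hyx hΩ

/-- The Tits group (the commutator subgroup of ²F₄(2)) has no faithful 2-transitive action on a finite set with more than two points. -/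
theorem result {Ω : Type*} [Fintype Ω] [MulAction Cfsg.Lie.TitsGroup Ω] [FaithfulSMul Cfsg.Lie.TitsGroup Ω] (hΩ : 3 ≤ Fintype.card Ω) :
    ¬ MulAction.IsMultiplyPretransitive Cfsg.Lie.TitsGroup Ω 2 :=
  @main (commutator ↥G) (Subgroup.toGroup (commutator ↥G)) isoTits Ω inferInstance inferInstance inferInstance hΩ

end Cfsg.Agent.S2197
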