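import Cfsg.Statements.S2214
import Cfsg.Agent.Lib.Helper5.Frob.Norm

set_option autoImplicit false
open Cfsg

namespace Cfsg.Agent.S2214

/-- Let k be an algebraically closed field of prime characteristic p, G the adjoint Chevalley group of type G₂, B₂, D₄, F₄, E₆, E₇ or E₈ over k (the matrix group generated by the root elements x_s(t), t ∈ k, acting on the Lie algebra), q = p^a with a ≥ 1, and K a subgroup of G containing every root element x_s(t) with t^q = t and consisting of matrices all of whose entries c satisfy c^q = c. Then the centralizer of K in G is trivial, and the normalizer of K in G is exactly the set of elements of G all of whose entries c satisfy c^q = c. -/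
theorem result {k : Type*} [Field k] [IsAlgClosed k] (p : ℕ) [Fact p.Prime] [CharP k p] (D : Cfsg.Lie.ChevalleyDatum) (hD : D ∈ [Cfsg.Lie.chevG2, Cfsg.Lie.chevB2, Cfsg.Lie.chevD4, Cfsg.Lie.chevF4, Cfsg.Lie.chevE6, Cfsg.Lie.chevE7, Cfsg.Lie.chevE8]) (a : ℕ) (ha : 1 ≤ a) (K : Subgroup (GL D.Idx k)) (hKG : K ≤ D.group k)
    (hLK : Subgroup.closure {g : GL D.Idx k | ∃ (s : ℕ) (t : k), t ^ (p ^ a) = t ∧ (g : Matrix D.Idx D.Idx k) = D.x k s t} ≤ K)
    (hKfix : ∀ g ∈ K, ∀ i j : D.Idx, ((g : Matrix D.Idx D.Idx k) i j) ^ (p ^ a) = (g : Matrix D.Idx D.Idx k) i j) :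
    D.group k ⊓ Subgroup.centralizer (K : Set (GL D.Idx k)) = ⊥ ∧
    ∀ g : GL D.Idx k, g ∈ D.group k → (g ∈ Subgroup.normalizer (K : Set (GL D.Idx k)) ↔ ∀ i j : D.Idx, ((g : Matrix D.Idx D.Idx k) i j) ^ (p ^ a) = (g : Matrix D.Idx D.Idx k) i j) := by
  classical
  have hadd := Cfsg.Agent.Lib.Helper5.Chev.allAdd_all (F := k) D hD
  have hφdef : ∀ x : k, iterateFrobenius k p a x = x ^ (p ^ a) := fun x => iterateFrobenius_def p a x
  have hφ : Function.Surjective (iterateFrobenius k p a) := by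
    intro x
    obtain ⟨z, hz⟩ := IsAlgClosed.exists_pow_nat_eq x (pow_pos (Fact.out : p.Prime).pos a)
    exact ⟨z, by rw [hφdef, hz]⟩
  have hfixG : Cfsg.Agent.Lib.Helper5.Frob.fixGroup D (iterateFrobenius k p a) ≤ K := by
    refine le_trans ?_ hLK
    unfold Cfsg.Agent.Lib.Helper5.Frob.fixGroup
    apply Subgroup.closure_mono
    rintro g ⟨s, t, ht, hg⟩
    exact ⟨s, t, by rw [← hφdef, ht], hg⟩
  have hKfix' : ∀ x ∈ K, Cfsg.Agent.Lib.Helper5.Frob.sig (iterateFrobenius k p a) x = x := by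
    intro x hx
    rw [Cfsg.Agent.Lib.Helper5.Frob.sig_fixed_iff]
    intro i j
    rw [hφdef]
    exact hKfix x hx i j
  constructor
  · rw [eq_bot_iff]
    intro g hgg
    have hgG : g ∈ D.group k := hgg.1
    have hgC : g ∈ Subgroup.centralizer (K : Set (GL D.Idx k)) := hgg.2
    rw [Subgroup.mem_bot]
    rw [Subgroup.mem_centralizer_iff] at hgC
    apply Cfsg.Agent.Lib.Helper5.Frob.cent_eq_one hD K
      (fun s => ⟨hfixG (Cfsg.Agent.Lib.Helper5.Frob.pm_one_mem_fixGroup _ hadd s).1,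
        hfixG (Cfsg.Agent.Lib.Helper5.Frob.pm_one_mem_fixGroup _ hadd s).2⟩) g hgG
    intro x hx
    exact (hgC x hx).symm
  · intro g hg
    rw [Cfsg.Agent.Lib.Helper5.Frob.normalizer_iff (iterateFrobenius k p a) hD hφ K hKG hfixG hKfix' g hg,
      Cfsg.Agent.Lib.Helper5.Frob.sig_fixed_iff]
    constructor
    · intro h i j
      rw [← hφdef]
      exact h i j
    · intro h i j
      rw [hφdef]
      exact h i j

end Cfsg.Agent.S2214
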