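import Cfsg.Statements.S2231
import Cfsg.Agent.Lib.Helper5.GL2
import Mathlib

set_option autoImplicit false
open Cfsg

namespace Cfsg.Agent.S2231
open Cfsg.Agent.Lib.Helper5

/-- all Sylow `p`-subgroups are abelian -/
def AbSyl (p : ℕ) (G : Type*) [Group G] : Prop :=
  ∀ P : Sylow p G, ∀ a ∈ P, ∀ b ∈ P, a * b = b * a

theorem abSyl_of_injective {p : ℕ} [Fact p.Prime] {H G : Type*} [Group H] [Group G] (f : H →* G)
    (hf : Function.Injective f) (h : AbSyl p G) : AbSyl p H := by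
  intro P a ha b hb
  obtain ⟨Q, hQ⟩ := (P.2.map f).exists_le_sylow
  apply hf
  rw [map_mul, map_mul]
  exact h Q _ (hQ (Subgroup.mem_map_of_mem f ha)) _ (hQ (Subgroup.mem_map_of_mem f hb))

theorem abSyl_of_surjective {p : ℕ} [Fact p.Prime] {G G' : Type*} [Group G] [Finite G] [Group G']
    (f : G →* G') (hf : Function.Surjective f) (h : AbSyl p G) : AbSyl p G' := by
  intro P a ha b hb
  obtain ⟨Q, rfl⟩ := Sylow.mapSurjective_surjective hf p P
  obtain ⟨a', ha', rfl⟩ := ha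
  obtain ⟨b', hb', rfl⟩ := hb
  rw [← map_mul, ← map_mul, h Q a' ha' b' hb']

theorem abSyl_gl2 {p : ℕ} [Fact p.Prime] {K : Type*} [Field K] [Fintype K] [CharP K p] :
    AbSyl p (Matrix.GeneralLinearGroup (Fin 2) K) := by
  intro P a ha b hb
  obtain ⟨g, hg⟩ := GL2.exists_conj p P
  have hU : ∀ u v : Matrix.GeneralLinearGroup (Fin 2) K, u ∈ (GL2.U : Subgroup _) →
      v ∈ (GL2.U : Subgroup _) → u * v = v * u := by
    rintro u v ⟨a1, a2, a3⟩ ⟨b1, b2, b3⟩
    apply GL2.ext2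
    · rw [GL2.mul00, GL2.mul00, a1, a2, b1, b2]; ring
    · rw [GL2.mul01, GL2.mul01, a1, a3, b1, b3]; ring
    · rw [GL2.mul10, GL2.mul10, a2, a3, b2, b3]; ring
    · rw [GL2.mul11, GL2.mul11, a2, a3, b2, b3]; ring
  have hcomm : (g⁻¹ * a * g) * (g⁻¹ * b * g) = (g⁻¹ * b * g) * (g⁻¹ * a * g) :=
    hU _ _ ((hg a).1 ha) ((hg b).1 hb)
  have e1 : a * b = g * ((g⁻¹ * a * g) * (g⁻¹ * b * g)) * g⁻¹ := by group
  have e2 : b * a = g * ((g⁻¹ * b * g) * (g⁻¹ * a * g)) * g⁻¹ := by group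
  rw [e1, e2, hcomm]

theorem abSyl_psl2 {p : ℕ} [Fact p.Prime] {K : Type*} [Field K] [Fintype K] [CharP K p] :
    AbSyl p (Matrix.ProjectiveSpecialLinearGroup (Fin 2) K) := by
  classical
  have h1 : AbSyl p (Matrix.SpecialLinearGroup (Fin 2) K) :=
    abSyl_of_injective (Matrix.SpecialLinearGroup.toGL) Matrix.SpecialLinearGroup.toGL_injective
      abSyl_gl2
  exact abSyl_of_surjective (QuotientGroup.mk' _) (QuotientGroup.mk'_surjective _) h1

theorem abSyl_of_involves {p : ℕ} [Fact p.Prime] {H G : Type*} [Group H] [Group G] [Finite G]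
    (hinv : Cfsg.Involves H G) (h : AbSyl p G) : AbSyl p H := by
  obtain ⟨K, R, hn, ⟨e⟩⟩ := hinv
  have h1 : AbSyl p K := abSyl_of_injective K.subtype K.subtype_injective h
  have h2 : AbSyl p (K ⧸ R.subgroupOf K) :=
    abSyl_of_surjective (QuotientGroup.mk' _) (QuotientGroup.mk'_surjective _) h1
  exact abSyl_of_injective e.symm.toMonoidHom e.symm.injective h2

/-- upper unitriangular `3 × 3` matrices -/
def UT {p : ℕ} (M : Matrix (Fin 3) (Fin 3) (ZMod p)) : Prop :=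
  M 0 0 = 1 ∧ M 1 1 = 1 ∧ M 2 2 = 1 ∧ M 1 0 = 0 ∧ M 2 0 = 0 ∧ M 2 1 = 0

theorem UT_one {p : ℕ} : UT (1 : Matrix (Fin 3) (Fin 3) (ZMod p)) := by
  simp [UT]

theorem UT_mul {p : ℕ} {M N : Matrix (Fin 3) (Fin 3) (ZMod p)} (hM : UT M) (hN : UT N) :
    UT (M * N) := by
  obtain ⟨m1, m2, m3, m4, m5, m6⟩ := hM
  obtain ⟨n1, n2, n3, n4, n5, n6⟩ := hN
  refine ⟨?_, ?_, ?_, ?_, ?_, ?_⟩ <;>
    simp [Matrix.mul_apply, Fin.sum_univ_three, m1, m2, m3, m4, m5, m6, n1, n2, n3, n4, n5, n6]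

theorem UT_pow {p : ℕ} {M : Matrix (Fin 3) (Fin 3) (ZMod p)} (hM : UT M) (n : ℕ) : UT (M ^ n) := by
  induction n with
  | zero => rw [pow_zero]; exact UT_one
  | succ n ih => rw [pow_succ]; exact UT_mul ih hM

theorem UT_pow_p {p : ℕ} [Fact p.Prime] (hp : p ≠ 2) {M : Matrix (Fin 3) (Fin 3) (ZMod p)}
    (hM : UT M) : M ^ p = 1 := by
  obtain ⟨m1, m2, m3, m4, m5, m6⟩ := hM
  have hp3 : 3 ≤ p := by
    have := (Fact.out : p.Prime).two_le
    omega
  have hN : (M - 1) ^ 3 = 0 := by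
    ext i j
    fin_cases i <;> fin_cases j <;>
      simp [pow_succ, Matrix.mul_apply, Fin.sum_univ_three, m1, m2, m3, m4, m5, m6]
  have hNp : (M - 1) ^ p = 0 := by
    obtain ⟨k, hk⟩ : ∃ k, p = 3 + k := ⟨p - 3, by omega⟩
    calc (M - 1) ^ p = (M - 1) ^ (3 + k) := by rw [← hk]
      _ = 0 := by rw [pow_add, hN, zero_mul]
  have hc : Commute (M - 1) 1 := Commute.one_right _
  have := add_pow_char_of_commute p hc
  rw [sub_add_cancel, hNp, one_pow, zero_add] at this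
  exact this

/-- the two standard unitriangular generators -/
def xM (p : ℕ) : Matrix (Fin 3) (Fin 3) (ZMod p) := !![1, 1, 0; 0, 1, 0; 0, 0, 1]
def yM (p : ℕ) : Matrix (Fin 3) (Fin 3) (ZMod p) := !![1, 0, 0; 0, 1, 1; 0, 0, 1]

theorem det_xM (p : ℕ) : (xM p).det = 1 := by
  simp [xM, Matrix.det_fin_three]

theorem det_yM (p : ℕ) : (yM p).det = 1 := by
  simp [yM, Matrix.det_fin_three]

theorem UT_xM (p : ℕ) : UT (xM p) := by simp [UT, xM]
theorem UT_yM (p : ℕ) : UT (yM p) := by simp [UT, yM]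

def xS (p : ℕ) : Matrix.SpecialLinearGroup (Fin 3) (ZMod p) := ⟨xM p, det_xM p⟩
def yS (p : ℕ) : Matrix.SpecialLinearGroup (Fin 3) (ZMod p) := ⟨yM p, det_yM p⟩

theorem xS_mem (p : ℕ) : xS p ∈ Cfsg.qd p := by
  apply Subgroup.subset_closure
  refine ⟨?_, ?_, ?_⟩ <;> simp [xS, xM]

theorem yS_mem (p : ℕ) : yS p ∈ Cfsg.qd p := by
  apply Subgroup.subset_closure
  refine ⟨?_, ?_, ?_⟩ <;> simp [yS, yM]

theorem not_abSyl_qd {p : ℕ} [Fact p.Prime] (hp : p ≠ 2) : ¬ AbSyl p ↥(Cfsg.qd p) := by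
  intro h
  have hp1 : (1 : ZMod p) ≠ 0 := one_ne_zero
  let x' : ↥(Cfsg.qd p) := ⟨xS p, xS_mem p⟩
  let y' : ↥(Cfsg.qd p) := ⟨yS p, yS_mem p⟩
  let V : Subgroup ↥(Cfsg.qd p) := Subgroup.closure {x', y'}
  have hUT : ∀ g ∈ V, UT (g.1.1) := by
    intro g hg
    induction hg using Subgroup.closure_induction with
    | mem g hg =>
      rcases hg with rfl | rfl
      · exact UT_xM p
      · exact UT_yM p
    | one => exact UT_one
    | mul a b _ _ iha ihb => exact UT_mul iha ihb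
    | inv a _ iha =>
      have h1 : a.1.1 ^ p = 1 := UT_pow_p hp iha
      have h2 : a ^ p = 1 := by
        apply Subtype.ext
        apply Subtype.ext
        simpa using h1
      have h3 : a⁻¹ = a ^ (p - 1) := by
        have hp0 : p = (p - 1) + 1 := by
          have := (Fact.out : p.Prime).two_le
          omega
        rw [inv_eq_iff_mul_eq_one, ← pow_succ', ← hp0, h2]
      rw [h3]
      have : ((a ^ (p - 1) : ↥(Cfsg.qd p)).1.1) = a.1.1 ^ (p - 1) := by simp
      rw [this]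
      exact UT_pow iha _
  have hV : IsPGroup p V := by
    intro g
    refine ⟨1, ?_⟩
    rw [pow_one]
    apply Subtype.ext
    apply Subtype.ext
    apply Subtype.ext
    have := UT_pow_p hp (hUT g.1 g.2)
    simpa using this
  obtain ⟨Q, hQ⟩ := hV.exists_le_sylow
  have hx : x' ∈ Q := hQ (Subgroup.subset_closure (by simp))
  have hy : y' ∈ Q := hQ (Subgroup.subset_closure (by simp))
  have hc := h Q x' hx y' hy
  have hc' : xM p * yM p = yM p * xM p := by
    have := congrArg (fun g : ↥(Cfsg.qd p) => g.1.1) hc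
    exact this
  have h02 := congrFun (congrFun hc' 0) 2
  simp [xM, yM, Matrix.mul_apply, Fin.sum_univ_three] at h02

/-- Let p be an odd prime and K a finite field of characteristic p. Then Qd(p) (the natural semidirect product of an elementary abelian group of order p² by SL₂(p)) is not involved in the projective special linear group PSL₂(K). -/
theorem result {p : ℕ} [Fact p.Prime] (hp : p ≠ 2) {K : Type*} [Field K] [Fintype K] [CharP K p] : ¬ Cfsg.Involves ↥(Cfsg.qd p) (Matrix.ProjectiveSpecialLinearGroup (Fin 2) K) := by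
  classical
  intro hinv
  exact not_abSyl_qd hp (abSyl_of_involves hinv abSyl_psl2)

end Cfsg.Agent.S2231
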