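import Cfsg.Statements.S2232
import Mathlib
import Cfsg.Agent.Lib.Helper7.Qd6
import Cfsg.Agent.Lib.Helper5.SU3Inv
import Cfsg.Agent.Lib.Helper5.HermCount

set_option autoImplicit false
open Cfsg

namespace Cfsg.Agent.S2232

/-- `G` has a normal Sylow `p`-subgroup. -/
def PClosed (p : ℕ) (G : Type*) [Group G] : Prop := ∃ S : Sylow p G, (S : Subgroup G).Normal

section generic
variable {p : ℕ} [Fact p.Prime]

theorem le_of_normal_sylow {G : Type*} [Group G] [Finite G] (S : Sylow p G) [hS : (S : Subgroup G).Normal]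
    (Q : Subgroup G) (hQ : IsPGroup p Q) : Q ≤ (S : Subgroup G) := by
  obtain ⟨P, hP⟩ := hQ.exists_le_sylow
  obtain ⟨g, hg⟩ := MulAction.exists_smul_eq G S P
  rw [Sylow.smul_eq_of_normal] at hg
  rw [hg]; exact hP

theorem PClosed.of_injective {G H : Type*} [Group G] [Finite G] [Group H] [Finite H] (f : H →* G)
    (hf : Function.Injective f) (h : PClosed p G) : PClosed p H := by
  obtain ⟨S, hS⟩ := h
  have hT : IsPGroup p ((S : Subgroup G).comap f) := S.2.comap_of_injective f hf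
  obtain ⟨P, hP⟩ := hT.exists_le_sylow
  have hPle : (P : Subgroup H) ≤ (S : Subgroup G).comap f := by
    intro x hx
    have h1 : ((P : Subgroup H).map f) ≤ (S : Subgroup G) :=
      le_of_normal_sylow S _ (P.2.map f)
    exact h1 ⟨x, hx, rfl⟩
  have heq : (P : Subgroup H) = (S : Subgroup G).comap f := le_antisymm hPle hP
  refine ⟨P, ?_⟩
  rw [heq]
  exact hS.comap f

theorem PClosed.of_surjective {G X : Type*} [Group G] [Finite G] [Group X] [Finite X] (f : G →* X)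
    (hf : Function.Surjective f) (h : PClosed p G) : PClosed p X := by
  obtain ⟨S, hS⟩ := h
  refine ⟨S.mapSurjective hf, ?_⟩
  rw [Sylow.coe_mapSurjective]
  exact hS.map f hf

end generic

section generic
variable {p : ℕ} [Fact p.Prime]

theorem sylow_map_eq_top {A B : Type*} [Group A] [Finite A] [Group B] [Finite B] (f : A →* B)
    (hf : Function.Surjective f) (hB : IsPGroup p B) (P : Sylow p A) :
    (P : Subgroup A).map f = ⊤ := by
  have h1 : ((P.mapSurjective hf : Sylow p B) : Subgroup B) = (P : Subgroup A).map f := rfl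
  rw [← h1]
  have h2 : (⊤ : Subgroup B) ≤ ((P.mapSurjective hf : Sylow p B) : Subgroup B) := by
    have hT : IsPGroup p (⊤ : Subgroup B) := hB.to_subgroup ⊤
    obtain ⟨Q, hQ⟩ := hT.exists_le_sylow
    have hcard : Nat.card (Q : Subgroup B) = Nat.card ((P.mapSurjective hf : Sylow p B) : Subgroup B) :=
      Sylow.card_eq_multiplicity _ |>.trans (Sylow.card_eq_multiplicity _).symm
    have hQtop : (Q : Subgroup B) = ⊤ := top_le_iff.1 hQ
    have h3 : Nat.card ((P.mapSurjective hf : Sylow p B) : Subgroup B) = Nat.card B := by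
      rw [← hcard, hQtop, Subgroup.card_top]
    exact (Subgroup.card_eq_iff_eq_top _).1 h3 |>.ge
  exact top_le_iff.1 h2

end generic

section generic
variable {p : ℕ} [Fact p.Prime]

theorem pclosed_of_hom {K X : Type*} [Group K] [Finite K] [Group X] [Finite X]
    (hloc : ∀ Q : Subgroup K, IsPGroup p Q → Q ≠ ⊥ → PClosed p ↥(Subgroup.normalizer (Q : Set K)))
    (π : K →* X) (hπ : Function.Surjective π) (E : Subgroup X) [hE : E.Normal] (hEp : IsPGroup p E)
    (hE1 : E ≠ ⊥) : PClosed p X := by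
  classical
  set E' : Subgroup K := E.comap π with hE'
  haveI : E'.Normal := hE.comap π
  obtain ⟨P⟩ : Nonempty (Sylow p E') := inferInstance
  have hfr := Sylow.normalizer_sup_eq_top P
  set Q : Subgroup K := (P : Subgroup E').map E'.subtype with hQ
  -- image of Q is E
  have hQE : Q.map π = E := by
    let f' : E' →* E := (π.comp E'.subtype).codRestrict E (fun x => x.2)
    have hf' : Function.Surjective f' := by
      rintro ⟨y, hy⟩
      obtain ⟨x, rfl⟩ := hπ y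
      exact ⟨⟨x, hy⟩, rfl⟩
    have h1 := sylow_map_eq_top f' hf' hEp P
    apply le_antisymm
    · rintro _ ⟨_, ⟨x, hx, rfl⟩, rfl⟩
      exact x.2
    · intro y hy
      have h2 : (⟨y, hy⟩ : E) ∈ (P : Subgroup E').map f' := by rw [h1]; trivial
      obtain ⟨x, hx, hxy⟩ := h2
      refine ⟨x.1, ⟨x, hx, rfl⟩, ?_⟩
      exact congrArg Subtype.val hxy
  have hQ1 : Q ≠ ⊥ := by
    intro h
    rw [h, Subgroup.map_bot] at hQE
    exact hE1 hQE.symm
  have hQp : IsPGroup p Q := P.2.map _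
  have hcl := hloc Q hQp hQ1
  -- restriction of π to the normalizer is onto
  let g : ↥(Subgroup.normalizer (Q : Set K)) →* X := π.comp (Subgroup.subtype _)
  have hg : Function.Surjective g := by
    intro y
    obtain ⟨x, rfl⟩ := hπ y
    have hx : x ∈ Subgroup.normalizer (Q : Set K) ⊔ E' := by rw [hfr]; trivial
    have hx' : x ∈ ((Subgroup.normalizer (Q : Set K) ⊔ E' : Subgroup K) : Set K) := hx
    rw [Subgroup.mul_normal, Set.mem_mul] at hx'
    obtain ⟨a, ha, b, hb, rfl⟩ := hx'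
    have hb' : π b ∈ Q.map π := by rw [hQE]; exact hb
    obtain ⟨c, hc, hcb⟩ := hb'
    refine ⟨⟨a * c, Subgroup.mul_mem _ ha (Subgroup.le_normalizer hc)⟩, ?_⟩
    change π (a * c) = π (a * b)
    rw [map_mul, map_mul, hcb]
  exact PClosed.of_surjective g hg hcl

end generic

open Cfsg.Agent.Lib.Helper7

section qdfacts
variable {p : ℕ} [Fact p.Prime]

theorem qd_eq : (Cfsg.qd p : Subgroup (Matrix.SpecialLinearGroup (Fin 3) (ZMod p))) = qdOver (ZMod p) := rfl

theorem qd_normal_pgroup :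
    ∃ E : Subgroup ↥(qdOver (ZMod p)), E.Normal ∧ IsPGroup p E ∧ E ≠ ⊥ := by
  refine ⟨(blockHom (K := ZMod p)).ker, inferInstance, isPGroup_ker_blockHom, ?_⟩
  intro h
  have h1 : translHom (K := ZMod p) (Multiplicative.ofAdd ![1, 0]) ∈ (blockHom (K := ZMod p)).ker := by
    rw [ker_blockHom_eq_range]; exact ⟨_, rfl⟩
  rw [h, Subgroup.mem_bot] at h1
  have h2 : translHom (K := ZMod p) (Multiplicative.ofAdd ![1, 0]) = translHom 1 := by
    rw [h1, map_one]
  have h3 := translHom_injective h2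
  have h4 : (![1, 0] : Fin 2 → ZMod p) = 0 := by
    have := congrArg Multiplicative.toAdd h3
    simpa using this
  have h5 := congrFun h4 0
  simp at h5

theorem qd_not_pclosed : ¬ PClosed p ↥(qdOver (ZMod p)) := by
  rintro ⟨S, hS⟩
  obtain ⟨P₀, hP₀⟩ := exists_sylow_eq_utHom_range (K := ZMod p) (p := p)
  obtain ⟨g, hg⟩ := MulAction.exists_smul_eq ↥(qdOver (ZMod p)) S P₀
  rw [Sylow.smul_eq_of_normal] at hg
  have hn : ((utHom (K := ZMod p)).range).Normal := by rw [← hP₀, ← hg]; exact hS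
  have hle : (utHom (K := ZMod p)).range ≤ pCore p ↥(qdOver (ZMod p)) :=
    le_sSup ⟨hn, isPGroup_utHom_range⟩
  rw [pCore_qdOver] at hle
  have hmem : utHom (K := ZMod p) ⟨1, 0, 0⟩ ∈ (blockHom (K := ZMod p)).ker := hle ⟨_, rfl⟩
  rw [mem_ker_blockHom_iff] at hmem
  have h01 := hmem.2.1
  have : ((utHom (K := ZMod p) ⟨1, 0, 0⟩ : ↥(qdOver (ZMod p))).1.1) 0 1 = 1 := by
    change utMat (1 : ZMod p) 0 0 0 1 = 1
    simp [utMat]
  rw [this] at h01
  exact one_ne_zero h01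

end qdfacts

open Cfsg.Agent.Lib.Helper7

section glue
variable {p : ℕ} [Fact p.Prime]

theorem not_involves_of_locals {G : Type*} [Group G] [Finite G]
    (hloc : ∀ Q : Subgroup G, IsPGroup p Q → Q ≠ ⊥ → PClosed p ↥(Subgroup.normalizer (Q : Set G))) :
    ¬ Cfsg.Involves ↥(Cfsg.qd p) G := by
  rintro ⟨K, R, hn, ⟨e⟩⟩
  haveI := hn
  obtain ⟨E, hEn, hEp, hE1⟩ := qd_normal_pgroup (p := p)
  haveI := hEn
  apply qd_not_pclosed (p := p)
  have hlocK : ∀ Q : Subgroup ↥K, IsPGroup p Q → Q ≠ ⊥ →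
      PClosed p ↥(Subgroup.normalizer (Q : Set ↥K)) := by
    intro Q hQ hQ1
    have hQ' : IsPGroup p (Q.map K.subtype) := hQ.map _
    have hQ1' : Q.map K.subtype ≠ ⊥ := by
      intro h
      apply hQ1
      rw [eq_bot_iff]
      intro x hx
      have : K.subtype x ∈ Q.map K.subtype := ⟨x, hx, rfl⟩
      rw [h, Subgroup.mem_bot] at this
      rw [Subgroup.mem_bot]
      exact Subtype.ext this
    have hcl := hloc _ hQ' hQ1'
    let f : ↥(Subgroup.normalizer (Q : Set ↥K)) →* ↥(Subgroup.normalizer ((Q.map K.subtype : Subgroup G) : Set G)) :=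
      { toFun := fun x => ⟨(x.1 : G), by
          rw [Subgroup.mem_normalizer_iff]
          intro h
          have hx := Subgroup.mem_normalizer_iff.1 x.2
          constructor
          · rintro ⟨y, hy, rfl⟩
            exact ⟨x.1 * y * x.1⁻¹, (hx y).1 hy, by simp⟩
          · rintro ⟨y, hy, hyh⟩
            have hh : h = ((x.1⁻¹ * y * x.1 : ↥K) : G) := by
              have : (y : G) = (x.1 : G) * h * (x.1 : G)⁻¹ := by simpa using hyh
              rw [Subgroup.coe_mul, Subgroup.coe_mul, Subgroup.coe_inv, this]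
              group
            rw [hh]
            refine ⟨x.1⁻¹ * y * x.1, ?_, rfl⟩
            have := (hx (x.1⁻¹ * y * x.1)).2
            apply this
            have e1 : x.1 * (x.1⁻¹ * y * x.1) * x.1⁻¹ = y := by group
            rw [e1]; exact hy⟩
        map_one' := rfl
        map_mul' := fun _ _ => rfl }
    have hf : Function.Injective f := by
      intro a b hab
      have : ((a.1 : ↥K) : G) = ((b.1 : ↥K) : G) := congrArg (fun z => (z.1 : G)) hab
      exact Subtype.ext (Subtype.ext this)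
    exact PClosed.of_injective f hf hcl
  exact pclosed_of_hom hlocK (e.toMonoidHom.comp (QuotientGroup.mk' (R.subgroupOf K)))
    (e.surjective.comp (QuotientGroup.mk'_surjective _)) E hEp hE1

theorem involves_of_quotient {G : Type*} [Group G] (Z : Subgroup G) [Z.Normal] {H : Type*} [Group H]
    (h : Cfsg.Involves H (G ⧸ Z)) : Cfsg.Involves H G := by
  obtain ⟨K', R', hn, ⟨e⟩⟩ := h
  haveI := hn
  let K : Subgroup G := K'.comap (QuotientGroup.mk' Z)
  let R : Subgroup G := R'.comap (QuotientGroup.mk' Z)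
  let φ : ↥K →* (↥K' ⧸ R'.subgroupOf K') :=
    (QuotientGroup.mk' (R'.subgroupOf K')).comp
      (((QuotientGroup.mk' Z).comp K.subtype).codRestrict K' (fun x => x.2))
  have hφ : Function.Surjective φ := by
    intro y
    obtain ⟨⟨y', hy'⟩, rfl⟩ := QuotientGroup.mk'_surjective _ y
    obtain ⟨x, rfl⟩ := QuotientGroup.mk'_surjective Z y'
    exact ⟨⟨x, hy'⟩, rfl⟩
  have hker : φ.ker = R.subgroupOf K := by
    ext x
    rw [MonoidHom.mem_ker]
    change (QuotientGroup.mk' (R'.subgroupOf K')) _ = 1 ↔ _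
    rw [QuotientGroup.mk'_apply, QuotientGroup.eq_one_iff]
    rfl
  have hnorm : (R.subgroupOf K).Normal := hker ▸ inferInstance
  refine ⟨K, R, hnorm, ⟨?_⟩⟩
  exact ((QuotientGroup.quotientMulEquivOfEq hker.symm).trans
    (QuotientGroup.quotientKerEquivOfSurjective φ hφ)).trans e

end glue

open Matrix

section linalg
variable {F : Type*} [Field F]

theorem exists_smul_of_cross_eq_zero (u w : Fin 3 → F) (hw : w ≠ 0) (h : u ⨯₃ w = 0) :
    ∃ t : F, u = t • w := by
  by_contra hne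
  push Not at hne
  have hli : LinearIndependent F ![w, u] := by
    rw [LinearIndependent.pair_iff' hw]
    intro a ha
    exact hne a ha.symm
  have h1 := (crossProduct_ne_zero_iff_linearIndependent).2 hli
  apply h1
  have h2 : w ⨯₃ u = -(u ⨯₃ w) := (cross_anticomm u w).symm
  rw [h2, h, neg_zero]

theorem exists_smul_cross (a b x : Fin 3 → F) (ha : a ⬝ᵥ x = 0) (hb : b ⬝ᵥ x = 0)
    (hab : a ⨯₃ b ≠ 0) : ∃ t : F, x = t • (a ⨯₃ b) := by
  apply exists_smul_of_cross_eq_zero _ _ hab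
  rw [cross_cross_eq_smul_sub_smul', dotProduct_comm x b, hb, ha]
  simp

theorem det_mulVec3 (M : Matrix (Fin 3) (Fin 3) F) (a b c : Fin 3 → F) :
    Matrix.det ![M *ᵥ a, M *ᵥ b, M *ᵥ c] = M.det * Matrix.det ![a, b, c] := by
  have h : Matrix.of ![M *ᵥ a, M *ᵥ b, M *ᵥ c] = Matrix.of ![a, b, c] * Mᵀ := by
    ext i j
    fin_cases i <;> simp [Matrix.mul_apply, Matrix.mulVec, dotProduct, mul_comm]
  change Matrix.det (Matrix.of ![M *ᵥ a, M *ᵥ b, M *ᵥ c]) = M.det * Matrix.det (Matrix.of ![a, b, c])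
  rw [h, det_mul, det_transpose, mul_comm]

theorem mulVec_dot_cross (M : Matrix (Fin 3) (Fin 3) F) (z a b : Fin 3 → F) :
    (M *ᵥ z) ⬝ᵥ ((M *ᵥ a) ⨯₃ (M *ᵥ b)) = M.det * (z ⬝ᵥ (a ⨯₃ b)) := by
  rw [triple_product_eq_det, triple_product_eq_det, det_mulVec3]

theorem eq_one_of_fix3 (M : Matrix (Fin 3) (Fin 3) F) (a b c : Fin 3 → F)
    (ha : M *ᵥ a = a) (hb : M *ᵥ b = b) (hc : M *ᵥ c = c)
    (hdet : Matrix.det ![a, b, c] ≠ 0) : M = 1 := by
  have h : Matrix.of ![M *ᵥ a, M *ᵥ b, M *ᵥ c] = Matrix.of ![a, b, c] * Mᵀ := by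
    ext i j
    fin_cases i <;> simp [Matrix.mul_apply, Matrix.mulVec, dotProduct, mul_comm]
  rw [ha, hb, hc] at h
  set P : Matrix (Fin 3) (Fin 3) F := Matrix.of ![a, b, c] with hP
  have hu : IsUnit P.det := isUnit_iff_ne_zero.2 hdet
  have h2 : Mᵀ = 1 := by
    calc Mᵀ = (P⁻¹ * P) * Mᵀ := by rw [Matrix.nonsing_inv_mul P hu, Matrix.one_mul]
      _ = P⁻¹ * (P * Mᵀ) := by rw [Matrix.mul_assoc]
      _ = P⁻¹ * P := by rw [← h]
      _ = 1 := Matrix.nonsing_inv_mul P hu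
  have h3 : Mᵀᵀ = (1 : Matrix (Fin 3) (Fin 3) F)ᵀ := by rw [h2]
  simpa using h3

theorem pow_mulVec_of_eigen (M : Matrix (Fin 3) (Fin 3) F) (v : Fin 3 → F) (l : F)
    (h : M *ᵥ v = l • v) (k : ℕ) : (M ^ k) *ᵥ v = l ^ k • v := by
  induction k with
  | zero => simp
  | succ k ih =>
    rw [pow_succ, ← Matrix.mulVec_mulVec, h, Matrix.mulVec_smul, ih, smul_smul, pow_succ, mul_comm]

end linalg

open Matrix Cfsg.Agent.Lib.Helper5.Herm

section unitary
variable {F : Type*} [Field F] [Fintype F] {q : ℕ}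

/-- coordinatewise `q`-th power -/
def fr (q : ℕ) (v : Fin 3 → F) : Fin 3 → F := fun i => v i ^ q

theorem herm_eq_dot (u v : Fin 3 → F) : hermForm 3 F q u v = u ⬝ᵥ fr q v := rfl

theorem fr_cross (hF : Fintype.card F = q ^ 2) (a b : Fin 3 → F) :
    fr q (a ⨯₃ b) = fr q a ⨯₃ fr q b := by
  ext i
  fin_cases i <;> simp [fr, cross_apply, frob_sub hF, mul_pow]

theorem fr_ne_zero (hq : q ≠ 0) (v : Fin 3 → F) (hv : v ≠ 0) : fr q v ≠ 0 := by
  intro h
  apply hv
  funext i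
  have := congrFun h i
  simp only [fr, Pi.zero_apply] at this
  exact (pow_eq_zero_iff hq).1 this

theorem eq_one_of_fix_two (hF : Fintype.card F = q ^ 2) (M : Matrix (Fin 3) (Fin 3) F)
    (hdet : M.det = 1)
    (hM : ∀ x y, hermForm 3 F q (M *ᵥ x) (M *ᵥ y) = hermForm 3 F q x y)
    (v v' : Fin 3 → F) (hv : hermForm 3 F q v v = 0) (hv' : hermForm 3 F q v' v' = 0)
    (hfix : M *ᵥ v = v) (hfix' : M *ᵥ v' = v') (hc : v ⨯₃ v' ≠ 0) : M = 1 := by
  have hq : q ≠ 0 := by have := one_lt_q hF; omega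
  obtain ⟨l, hl⟩ : ∃ l, l = fr q v := ⟨_, rfl⟩
  obtain ⟨l', hl'⟩ : ∃ l', l' = fr q v' := ⟨_, rfl⟩
  have h1 : v ⬝ᵥ l = 0 := by rw [hl]; exact hv
  have h2 : v' ⬝ᵥ l' = 0 := by rw [hl']; exact hv'
  obtain ⟨β, hβ⟩ : ∃ β, β = v' ⬝ᵥ l := ⟨_, rfl⟩
  have h3 : v ⬝ᵥ l' = β ^ q := by
    rw [hβ, hl, hl']; exact hermForm_swap hF 3 v v'
  have hy : l ⨯₃ l' ≠ 0 := by
    rw [hl, hl', ← fr_cross hF]; exact fr_ne_zero hq _ hc
  have hβ0 : β ≠ 0 := by
    intro h0
    have h3' : v ⬝ᵥ l' = 0 := by rw [h3, h0, zero_pow hq]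
    have h4 : v' ⬝ᵥ l = 0 := by rw [← hβ, h0]
    obtain ⟨t, ht⟩ := exists_smul_cross l l' v (by rw [dotProduct_comm]; exact h1)
      (by rw [dotProduct_comm]; exact h3') hy
    obtain ⟨t', ht'⟩ := exists_smul_cross l l' v' (by rw [dotProduct_comm]; exact h4)
      (by rw [dotProduct_comm]; exact h2) hy
    apply hc
    rw [ht, ht']
    simp [cross_self]
  have hMl : ∀ x, (M *ᵥ x) ⬝ᵥ l = x ⬝ᵥ l := fun x => by
    have := hM x v; rw [hfix] at this; rw [hl]; exact this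
  have hMl' : ∀ x, (M *ᵥ x) ⬝ᵥ l' = x ⬝ᵥ l' := fun x => by
    have := hM x v'; rw [hfix'] at this; rw [hl']; exact this
  obtain ⟨δ, hδ⟩ := exists_smul_cross l l' (M *ᵥ (l ⨯₃ l'))
    (by rw [dotProduct_comm, hMl, dotProduct_comm]; exact dot_self_cross l l')
    (by rw [dotProduct_comm, hMl', dotProduct_comm]; exact dot_cross_self l l') hy
  have key := mulVec_dot_cross M (l ⨯₃ l') v v'
  rw [hfix, hfix', hdet, one_mul, hδ, smul_dotProduct, smul_eq_mul] at key
  have hD : (l ⨯₃ l') ⬝ᵥ (v ⨯₃ v') ≠ 0 := by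
    rw [cross_dot_cross, dotProduct_comm l v, h1, zero_mul, zero_sub, dotProduct_comm l v', ← hβ,
      dotProduct_comm l' v, h3]
    exact neg_ne_zero.2 (mul_ne_zero hβ0 (pow_ne_zero _ hβ0))
  have hδ1 : δ = 1 := by
    have : (δ - 1) * ((l ⨯₃ l') ⬝ᵥ (v ⨯₃ v')) = 0 := by rw [sub_mul, key, one_mul, sub_self]
    rcases mul_eq_zero.1 this with h | h
    · exact sub_eq_zero.1 h
    · exact absurd h hD
  apply eq_one_of_fix3 M v v' (l ⨯₃ l') hfix hfix' (by rw [hδ, hδ1, one_smul])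
  rw [← triple_product_eq_det, triple_product_permutation, triple_product_permutation]
  exact hD

theorem unipotent_of_fix (hF : Fintype.card F = q ^ 2) (M : Matrix (Fin 3) (Fin 3) F)
    (hdet : M.det = 1)
    (hM : ∀ x y, hermForm 3 F q (M *ᵥ x) (M *ᵥ y) = hermForm 3 F q x y)
    (v : Fin 3 → F) (hv0 : v ≠ 0) (hv : hermForm 3 F q v v = 0)
    (hfix : M *ᵥ v = v) : (M - 1) ^ 3 = 0 := by
  have hq : q ≠ 0 := by have := one_lt_q hF; omega
  obtain ⟨l, hl⟩ : ∃ l, l = fr q v := ⟨_, rfl⟩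
  have hl0 : l ≠ 0 := by rw [hl]; exact fr_ne_zero hq v hv0
  have h1 : v ⬝ᵥ l = 0 := by rw [hl]; exact hv
  have hMl : ∀ x, (M *ᵥ x) ⬝ᵥ l = x ⬝ᵥ l := fun x => by
    have := hM x v; rw [hfix] at this; rw [hl]; exact this
  have hii : ∀ x, x ⬝ᵥ l = 0 → v ⨯₃ (M *ᵥ x) = v ⨯₃ x := by
    intro x hx
    have hc : (v ⨯₃ (M *ᵥ x)) ⨯₃ l = 0 := by
      rw [cross_cross_eq_smul_sub_smul, h1, hMl, hx]; simp
    obtain ⟨τ, hτ⟩ := exists_smul_of_cross_eq_zero _ _ hl0 hc
    apply dotProduct_eq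
    intro z
    have key := mulVec_dot_cross M z v x
    rw [hfix, hdet, one_mul] at key
    rw [dotProduct_comm, dotProduct_comm (v ⨯₃ x) z, ← key, hτ, dotProduct_smul, dotProduct_smul,
      hMl]
  have hiii : ∀ x, x ⬝ᵥ l = 0 → (M - 1) *ᵥ ((M - 1) *ᵥ x) = 0 := by
    intro x hx
    have h0 : (M *ᵥ x - x) ⨯₃ v = 0 := by
      rw [map_sub, LinearMap.sub_apply, ← cross_anticomm v (M *ᵥ x), ← cross_anticomm v x, hii x hx]
      simp
    obtain ⟨s, hs⟩ := exists_smul_of_cross_eq_zero _ _ hv0 h0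
    have e1 : (M - 1) *ᵥ x = s • v := by rw [Matrix.sub_mulVec, Matrix.one_mulVec, hs]
    rw [e1, Matrix.mulVec_smul, Matrix.sub_mulVec, Matrix.one_mulVec, hfix, sub_self, smul_zero]
  rw [Matrix.ext_iff_mulVec]
  intro x
  rw [pow_three, ← Matrix.mulVec_mulVec, ← Matrix.mulVec_mulVec, Matrix.zero_mulVec]
  apply hiii
  rw [Matrix.sub_mulVec, Matrix.one_mulVec, sub_dotProduct, hMl, sub_self]

theorem pow_p_eq_one {p : ℕ} [Fact p.Prime] [CharP F p] (hp3 : 3 ≤ p)
    (M : Matrix (Fin 3) (Fin 3) F) (h : (M - 1) ^ 3 = 0) : M ^ p = 1 := by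
  have h1 : (M - 1) ^ p = M ^ p - 1 ^ p := sub_pow_char_of_commute p (Commute.one_right M)
  have h2 : (M - 1) ^ p = 0 := by
    rw [show p = 3 + (p - 3) by omega, pow_add, h, zero_mul]
  rw [h2, one_pow] at h1
  exact sub_eq_zero.1 h1.symm

end unitary

open Matrix Cfsg.Agent.Lib.Helper5.Herm Cfsg.Agent.Lib.Helper5.HermCount Cfsg.Agent.Lib.Helper5.SU3Inv

section action
variable {F : Type*} [Field F] [Fintype F] {q : ℕ}

/-- nonzero isotropic vectors -/
abbrev IsoVec (F : Type*) [Field F] (q : ℕ) : Type _ :=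
  {v : Fin 3 → F // v ≠ 0 ∧ hermForm 3 F q v v = 0}

/-- the matrix of an element of `SU_3` -/
def mat (g : SU 3 F q) : Matrix (Fin 3) (Fin 3) F := (g.1 : Matrix (Fin 3) (Fin 3) F)

theorem mat_one : mat (1 : SU 3 F q) = 1 := rfl

theorem mat_mul (g h : SU 3 F q) : mat (g * h) = mat g * mat h := rfl

theorem mat_det (g : SU 3 F q) : (mat g).det = 1 := g.1.2

theorem mat_herm (g : SU 3 F q) (x y : Fin 3 → F) :
    hermForm 3 F q (mat g *ᵥ x) (mat g *ᵥ y) = hermForm 3 F q x y := su_herm 3 g x y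

theorem mat_pow (g : SU 3 F q) (k : ℕ) : mat (g ^ k) = mat g ^ k := by
  induction k with
  | zero => simp [mat_one]
  | succ k ih => rw [pow_succ, pow_succ, mat_mul, ih]

theorem mat_inv_mulVec (g : SU 3 F q) (v : Fin 3 → F) : mat g⁻¹ *ᵥ (mat g *ᵥ v) = v := by
  rw [Matrix.mulVec_mulVec, ← mat_mul, inv_mul_cancel, mat_one, Matrix.one_mulVec]

theorem mat_mulVec_inv (g : SU 3 F q) (v : Fin 3 → F) : mat g *ᵥ (mat g⁻¹ *ᵥ v) = v := by
  rw [Matrix.mulVec_mulVec, ← mat_mul, mul_inv_cancel, mat_one, Matrix.one_mulVec]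

theorem mat_ext (g h : SU 3 F q) (e : mat g = mat h) : g = h := su_ext 3 g h e

instance isoVecAction : MulAction (SU 3 F q) (IsoVec F q) where
  smul g v := ⟨mat g *ᵥ v.1, by
    intro h
    apply v.2.1
    have := mat_inv_mulVec g v.1
    rw [h, Matrix.mulVec_zero] at this
    exact this.symm, by rw [mat_herm]; exact v.2.2⟩
  one_smul v := by
    apply Subtype.ext
    change mat (1 : SU 3 F q) *ᵥ v.1 = v.1
    rw [mat_one, Matrix.one_mulVec]
  mul_smul g h v := by
    apply Subtype.ext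
    change mat (g * h) *ᵥ v.1 = mat g *ᵥ (mat h *ᵥ v.1)
    rw [mat_mul, Matrix.mulVec_mulVec]

theorem isoVec_smul_val (g : SU 3 F q) (v : IsoVec F q) : (g • v).1 = mat g *ᵥ v.1 := rfl

theorem card_isoVec :
    Nat.card {v : Fin 3 → F // hermForm 3 F q v v = 0} = Nat.card (IsoVec F q) + 1 := by
  classical
  rw [← Finite.card_option]
  apply Nat.card_congr
  exact
  { toFun := fun v => if h : v.1 = 0 then none else some ⟨v.1, h, v.2⟩
    invFun := fun o => match o with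
      | none => ⟨0, by simp [hermForm]⟩
      | some w => ⟨w.1, w.2.2⟩
    left_inv := fun v => by
      by_cases h : v.1 = 0
      · simp only [dif_pos h]; exact Subtype.ext h.symm
      · simp only [dif_neg h]
    right_inv := fun o => by
      cases o with
      | none => simp
      | some w => simp [w.2.1] }

theorem not_dvd_card_isoVec {p n : ℕ} [Fact p.Prime] (hn : 1 ≤ n)
    (hF : Fintype.card F = (p ^ n) ^ 2) : ¬ p ∣ Nat.card (IsoVec F (p ^ n)) := by
  have hp := (Fact.out : p.Prime)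
  obtain ⟨q, hq⟩ : ∃ q, q = p ^ n := ⟨_, rfl⟩
  rw [← hq] at hF ⊢
  have hz := card_isoVec (F := F) (q := q)
  rw [card_hermForm_eq, (cnt_eq_uz hF 3).2] at hz
  obtain ⟨h1, h2⟩ := uz_closed (q := q) (one_lt_q hF) 3
  intro hdvd
  have hpq : (p : ℤ) ∣ (q : ℤ) := by
    rw [hq]; exact_mod_cast dvd_pow_self p (by omega)
  have hq0 : (q : ℤ) ≠ 0 := by
    have := one_lt_q hF
    exact_mod_cast (by omega : q ≠ 0)
  have hz2 : ((uz q 3).2 : ℤ) = (q : ℤ) * ((q : ℤ) ^ 5 - ((q : ℤ) - 1) * ((q : ℤ) * ((q : ℤ) ^ 3 + 1))) := by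
    apply mul_left_cancel₀ hq0
    linear_combination (q : ℤ) * h2 - ((q : ℤ) - 1) * h1
  have hpz : (p : ℤ) ∣ ((uz q 3).2 : ℤ) := by
    rw [hz2]; exact Dvd.dvd.mul_right hpq _
  have hpc : (p : ℤ) ∣ (Nat.card (IsoVec F q) : ℤ) := by exact_mod_cast hdvd
  have h3 : ((uz q 3).2 : ℤ) = (Nat.card (IsoVec F q) : ℤ) + 1 := by exact_mod_cast hz
  have h4 : (p : ℤ) ∣ 1 := by
    have := dvd_sub hpz hpc
    rwa [h3, add_sub_cancel_left] at this
  have h5 := Int.le_of_dvd one_pos h4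
  have := hp.two_le
  omega

theorem exists_fixed_iso {p n : ℕ} [Fact p.Prime] (hn : 1 ≤ n)
    (hF : Fintype.card F = (p ^ n) ^ 2) (Q : Subgroup (SU 3 F (p ^ n))) (hQ : IsPGroup p Q) :
    ∃ v : Fin 3 → F, v ≠ 0 ∧ hermForm 3 F (p ^ n) v v = 0 ∧ ∀ h ∈ Q, mat h *ᵥ v = v := by
  obtain ⟨w, hw⟩ := hQ.nonempty_fixed_point_of_prime_not_dvd_card (IsoVec F (p ^ n))
    (not_dvd_card_isoVec hn hF)
  refine ⟨w.1, w.2.1, w.2.2, fun h hh => ?_⟩
  have := hw ⟨h, hh⟩
  exact congrArg Subtype.val this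

end action

open Matrix Cfsg.Agent.Lib.Helper5.Herm Cfsg.Agent.Lib.Helper5.HermCount Cfsg.Agent.Lib.Helper5.SU3Inv

section main
variable {p : ℕ} [Fact p.Prime] {F : Type*} [Field F] [Fintype F] [CharP F p]

theorem pclosed_normalizer (hp : p ≠ 2) (n : ℕ) (hn : 1 ≤ n) (hF : Fintype.card F = (p ^ n) ^ 2)
    (Q : Subgroup (SU 3 F (p ^ n))) (hQ : IsPGroup p Q) (hQ1 : Q ≠ ⊥) :
    PClosed p ↥(Subgroup.normalizer (Q : Set (SU 3 F (p ^ n)))) := by
  have hp3 : 3 ≤ p := by have := (Fact.out : p.Prime).two_le; omega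
  obtain ⟨v, hv0, hv, hfix⟩ := exists_fixed_iso hn hF Q hQ
  obtain ⟨h, hhQ, hh1⟩ : ∃ h ∈ Q, h ≠ 1 := by
    obtain ⟨a, ha⟩ := (Subgroup.ne_bot_iff_exists_ne_one).1 hQ1
    exact ⟨a.1, a.2, fun e => ha (Subtype.ext e)⟩
  have hscale : ∀ x ∈ Subgroup.normalizer (Q : Set (SU 3 F (p ^ n))),
      ∃ l : F, mat x *ᵥ v = l • v := by
    intro x hx
    have hx' : x⁻¹ * h * x ∈ Q := by
      have := (Subgroup.mem_normalizer_iff.1 (inv_mem hx) h).1 hhQ
      simpa using this
    have e1 : mat h *ᵥ (mat x *ᵥ v) = mat x *ᵥ v := by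
      have h1 := hfix _ hx'
      rw [mat_mul, mat_mul, ← Matrix.mulVec_mulVec, ← Matrix.mulVec_mulVec] at h1
      have h2 := congrArg (fun w => mat x *ᵥ w) h1
      simp only [mat_mulVec_inv] at h2
      exact h2
    by_contra hne
    push Not at hne
    apply hh1
    apply mat_ext
    rw [mat_one]
    apply eq_one_of_fix_two hF (mat h) (mat_det h) (mat_herm h) v (mat x *ᵥ v) hv
      (by rw [mat_herm]; exact hv) (hfix h hhQ) e1
    intro hc
    have hc' : (mat x *ᵥ v) ⨯₃ v = 0 := by rw [← cross_anticomm, hc, neg_zero]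
    obtain ⟨t, ht⟩ := exists_smul_of_cross_eq_zero _ _ hv0 hc'
    exact hne t ht
  let P0 : Subgroup ↥(Subgroup.normalizer (Q : Set (SU 3 F (p ^ n)))) :=
    { carrier := {x | mat x.1 *ᵥ v = v}
      one_mem' := by
        change mat (1 : SU 3 F (p ^ n)) *ᵥ v = v
        rw [mat_one, Matrix.one_mulVec]
      mul_mem' := fun {a b} ha hb => by
        change mat (a.1 * b.1) *ᵥ v = v
        change mat a.1 *ᵥ v = v at ha
        change mat b.1 *ᵥ v = v at hb
        rw [mat_mul, ← Matrix.mulVec_mulVec, hb, ha]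
      inv_mem' := fun {a} ha => by
        change mat (a.1)⁻¹ *ᵥ v = v
        change mat a.1 *ᵥ v = v at ha
        have := mat_inv_mulVec a.1 v
        rw [ha] at this
        exact this }
  have hP0mem : ∀ x, x ∈ P0 ↔ mat x.1 *ᵥ v = v := fun x => Iff.rfl
  have hP0n : P0.Normal := ⟨fun a ha g => by
    rw [hP0mem] at ha ⊢
    change mat (g.1 * a.1 * (g.1)⁻¹) *ᵥ v = v
    rw [mat_mul, mat_mul, ← Matrix.mulVec_mulVec, ← Matrix.mulVec_mulVec]
    obtain ⟨l, hl⟩ := hscale (g.1)⁻¹ (inv_mem g.2)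
    rw [hl, Matrix.mulVec_smul, ha, ← hl, mat_mulVec_inv]⟩
  have hP0p : IsPGroup p P0 := by
    rintro ⟨x, hx⟩
    rw [hP0mem] at hx
    refine ⟨1, ?_⟩
    apply Subtype.ext
    apply Subtype.ext
    change (x.1) ^ (p ^ 1) = 1
    apply mat_ext
    rw [mat_pow, mat_one, pow_one]
    exact pow_p_eq_one hp3 (mat x.1)
      (unipotent_of_fix hF (mat x.1) (mat_det _) (mat_herm _) v hv0 hv hx)
  obtain ⟨S, hS⟩ := hP0p.exists_le_sylow
  refine ⟨S, ?_⟩
  have hSP : (S : Subgroup ↥(Subgroup.normalizer (Q : Set (SU 3 F (p ^ n))))) = P0 := by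
    apply le_antisymm _ hS
    intro x hx
    obtain ⟨k, hk⟩ := S.isPGroup' ⟨x, hx⟩
    have hk' : x.1 ^ (p ^ k) = 1 := by
      have h1 := congrArg Subtype.val hk
      have h2 := congrArg Subtype.val h1
      simpa using h2
    obtain ⟨l, hl⟩ := hscale x.1 x.2
    have h2 := pow_mulVec_of_eigen (mat x.1) v l hl (p ^ k)
    rw [← mat_pow, hk', mat_one, Matrix.one_mulVec] at h2
    have hl1 : l ^ (p ^ k) = 1 := by
      obtain ⟨i, hi⟩ : ∃ i, v i ≠ 0 := by
        by_contra hcon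
        push Not at hcon
        exact hv0 (funext hcon)
      have h3 := congrFun h2 i
      simp only [Pi.smul_apply, smul_eq_mul] at h3
      have h4 : 1 * v i = l ^ (p ^ k) * v i := by rw [one_mul]; exact h3
      exact (mul_right_cancel₀ hi h4).symm
    have hl' : l = 1 := by
      have h3 : (l - 1) ^ (p ^ k) = 0 := by rw [sub_pow_char_pow, hl1, one_pow, sub_self]
      have hpk : p ^ k ≠ 0 := pow_ne_zero _ (Fact.out : p.Prime).ne_zero
      exact sub_eq_zero.1 ((pow_eq_zero_iff hpk).1 h3)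
    rw [hP0mem, hl, hl', one_smul]
  rw [hSP]
  exact hP0n

end main

/-- Let p be an odd prime, q a power of p and K a finite field with q² elements. Then Qd(p) (the natural semidirect product of an elementary abelian group of order p² by SL₂(p)) is not involved in the projective special unitary group PSU₃(q) realised over K. -/
theorem result {p : ℕ} [Fact p.Prime] (hp : p ≠ 2) {K : Type*} [Field K] [Fintype K] [CharP K p] (n : ℕ) (hn : 1 ≤ n) (hK : Fintype.card K = (p ^ n) ^ 2) : ¬ Cfsg.Involves ↥(Cfsg.qd p) (Cfsg.PSU 3 K (p ^ n)) := by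
  intro h
  haveI : Finite (Matrix.SpecialLinearGroup (Fin 3) K) :=
    Finite.of_injective (fun g => (g : Matrix (Fin 3) (Fin 3) K)) Subtype.val_injective
  haveI : Finite (SU 3 K (p ^ n)) := inferInstance
  exact not_involves_of_locals (fun Q hQ hQ1 => pclosed_normalizer hp n hn hK Q hQ hQ1)
    (involves_of_quotient _ h)

end Cfsg.Agent.S2232
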