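import Cfsg.Statements.S2239
import Cfsg.Agent.Lib.Helper5.SuzukiSubC
import Mathlib

set_option autoImplicit false
open Cfsg

namespace Cfsg.Agent.S2239
open Cfsg.Agent.Lib.Helper5.Suzuki

/-- Subfield subgroups of the Suzuki group: let q = 2^(2m+1) and s = 2^(2k+1) with m, k ≥ 1 and 2k+1 dividing 2m+1 (so q is a power of s), both groups realised as stabilisers in SL₄ of the Suzuki–Tits ovoid. Then Sz(q) has a subgroup isomorphic to Sz(s), and any two subgroups of Sz(q) isomorphic to Sz(s) are conjugate. -/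
theorem result {F : Type*} [Field F] [Fintype F] {m : ℕ} (hm : 1 ≤ m) (hF : Fintype.card F = 2 ^ (2 * m + 1)) {K : Type*} [Field K] [Fintype K] {k : ℕ} (hk : 1 ≤ k) (hK : Fintype.card K = 2 ^ (2 * k + 1)) (hdiv : 2 * k + 1 ∣ 2 * m + 1) :
    (∃ S : Subgroup ↥(Cfsg.Sz F m), Nonempty (↥S ≃* ↥(Cfsg.Sz K k))) ∧
    ∀ S₁ S₂ : Subgroup ↥(Cfsg.Sz F m), Nonempty (↥S₁ ≃* ↥(Cfsg.Sz K k)) → Nonempty (↥S₂ ≃* ↥(Cfsg.Sz K k)) →
      ∃ g : ↥(Cfsg.Sz F m), S₂ = S₁.map (MulAut.conj g).toMonoidHom := by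
  classical
  haveI : CharP F 2 := charP_of_card hF
  haveI : CharP K 2 := charP_of_card hK
  obtain ⟨j, hmk⟩ := exists_j m k hdiv
  obtain ⟨ψ₀⟩ := exists_ringHom m k hF hK hdiv
  constructor
  · refine ⟨(embHom m k hF hK hk j hmk ψ₀).range, ⟨?_⟩⟩
    exact (MonoidHom.ofInjective (embHom_injective m k hF hK hk j hmk ψ₀)).symm
  · have key : ∀ S : Subgroup ↥(Cfsg.Sz F m), Nonempty (↥S ≃* ↥(Cfsg.Sz K k)) →
        ∃ g : ↥(Cfsg.Sz F m),
          S = (embHom m k hF hK hk j hmk ψ₀).range.map (MulAut.conj g).toMonoidHom := by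
      rintro S ⟨e⟩
      let θ : ↥(Cfsg.Sz K k) →* ↥(Cfsg.Sz F m) := S.subtype.comp e.symm.toMonoidHom
      have hθdef : ∀ y, θ y = ((e.symm y : ↥S) : ↥(Cfsg.Sz F m)) := fun y => rfl
      have hθ : Function.Injective θ := by
        intro y y' hyy
        rw [hθdef, hθdef] at hyy
        exact e.symm.injective (Subtype.ext hyy)
      have hrange : θ.range = S := by
        ext x
        constructor
        · rintro ⟨y, rfl⟩
          exact (e.symm y).2
        · intro hx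
          refine ⟨e ⟨x, hx⟩, ?_⟩
          rw [hθdef, MulEquiv.symm_apply_apply]
      obtain ⟨h, hN⟩ := exists_normHom m k hF hK hm hk θ hθ
      obtain ⟨c₀, ψ, hdec⟩ := hN.decomp m k hF hK hk j hmk
      have hdec' : ∀ y, h * θ y * h⁻¹ =
          dD m hF c₀ * embHom m k hF hK hk j hmk ψ y * (dD m hF c₀)⁻¹ := by
        intro y
        have h1 := DFunLike.congr_fun hdec y
        rw [conjHom_apply] at h1
        exact h1
      have hθy : ∀ y, θ y = (h⁻¹ * dD m hF c₀) * embHom m k hF hK hk j hmk ψ y *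
          (h⁻¹ * dD m hF c₀)⁻¹ := by
        intro y
        have e1 : θ y = h⁻¹ * (h * θ y * h⁻¹) * h := by group
        rw [e1, hdec']
        group
      refine ⟨h⁻¹ * dD m hF c₀, ?_⟩
      rw [← hrange]
      ext x
      rw [Subgroup.mem_map]
      constructor
      · rintro ⟨y, rfl⟩
        refine ⟨embHom m k hF hK hk j hmk ψ y,
          embHom_range_le m k hF hK hk j hmk ψ₀ ψ ⟨y, rfl⟩, ?_⟩
        rw [hθy]
        rfl
      · rintro ⟨z, hz, rfl⟩
        obtain ⟨y, rfl⟩ := embHom_range_le m k hF hK hk j hmk ψ ψ₀ hz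
        refine ⟨y, ?_⟩
        rw [hθy]
        rfl
    intro S₁ S₂ h₁ h₂
    obtain ⟨g₁, hg₁⟩ := key S₁ h₁
    obtain ⟨g₂, hg₂⟩ := key S₂ h₂
    refine ⟨g₂ * g₁⁻¹, ?_⟩
    rw [hg₁, hg₂, Subgroup.map_map]
    congr 1
    ext x
    simp only [MonoidHom.comp_apply, MulEquiv.coe_toMonoidHom, MulAut.conj_apply]
    group

end Cfsg.Agent.S2239
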