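import Cfsg.Statements.S2240
import Cfsg.Agent.Lib.Helper5.SuzukiSimple
import Mathlib

set_option autoImplicit false
open Cfsg

namespace Cfsg.Agent.S2240

open Cfsg.Agent.Lib.Helper5.Suzuki Cfsg.Agent.S0335

/-- the multiplicative stability property of an additive subgroup -/
def StabProp {F : Type*} [Field F] (A : AddSubgroup F) : Prop :=
  ∀ β : F, β ≠ 0 → (∃ c ∈ A, c ≠ 0 ∧ β * c ∈ A) → ∀ c, c ∈ A ↔ β * c ∈ A

section field
variable {F : Type*} [Field F] [Fintype F]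

/-- the subfield attached to a stable additive subgroup -/
def subfieldOf (A : AddSubgroup F) (hA : StabProp A) (a₀ : F) (ha₀ : a₀ ∈ A) (h0 : a₀ ≠ 0) :
    Subfield F where
  carrier := {t | t * a₀ ∈ A}
  mul_mem' := by
    intro s t hs ht
    by_cases hs0 : s = 0
    · change s * t * a₀ ∈ A
      rw [hs0, zero_mul, zero_mul]; exact A.zero_mem
    · have := (hA s hs0 ⟨a₀, ha₀, h0, hs⟩ (t * a₀)).1 ht
      change s * t * a₀ ∈ A
      rwa [mul_assoc]
  one_mem' := by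
    change 1 * a₀ ∈ A
    rwa [one_mul]
  add_mem' := by
    intro s t hs ht
    change (s + t) * a₀ ∈ A
    rw [add_mul]
    exact A.add_mem hs ht
  zero_mem' := by
    change 0 * a₀ ∈ A
    rw [zero_mul]; exact A.zero_mem
  neg_mem' := by
    intro s hs
    change -s * a₀ ∈ A
    rw [neg_mul]
    exact A.neg_mem hs
  inv_mem' := by
    intro s hs
    by_cases hs0 : s = 0
    · change s⁻¹ * a₀ ∈ A
      rw [hs0, inv_zero, zero_mul]; exact A.zero_mem
    · apply (hA s hs0 ⟨a₀, ha₀, h0, hs⟩ (s⁻¹ * a₀)).2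
      rw [← mul_assoc, mul_inv_cancel₀ hs0, one_mul]
      exact ha₀

theorem card_subfieldOf (A : AddSubgroup F) (hA : StabProp A) (a₀ : F) (ha₀ : a₀ ∈ A) (h0 : a₀ ≠ 0) :
    Nat.card (subfieldOf A hA a₀ ha₀ h0) = Nat.card A := by
  apply Nat.card_congr
  refine Equiv.ofBijective (fun t => ⟨t.1 * a₀, t.2⟩) ⟨?_, ?_⟩
  · intro s t h
    have : s.1 * a₀ = t.1 * a₀ := congrArg Subtype.val h
    exact Subtype.ext (mul_right_cancel₀ h0 this)
  · rintro ⟨c, hc⟩
    refine ⟨⟨c / a₀, ?_⟩, ?_⟩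
    · change c / a₀ * a₀ ∈ A
      rwa [div_mul_cancel₀ c h0]
    · apply Subtype.ext
      change c / a₀ * a₀ = c
      rw [div_mul_cancel₀ c h0]

theorem dvd_of_stable {k n : ℕ} (hF : Fintype.card F = 2 ^ k) (A : AddSubgroup F) (hA : StabProp A)
    (hcard : Nat.card A = 2 ^ n) (hn : 1 ≤ n) : n ∣ k := by
  classical
  -- a nonzero element
  have hex : ∃ a₀ ∈ A, a₀ ≠ 0 := by
    by_contra hcon
    push Not at hcon
    have : Nat.card A ≤ 1 := by
      rw [Nat.card_eq_fintype_card]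
      apply Fintype.card_le_one_iff.2
      intro x y
      apply Subtype.ext
      rw [hcon x.1 x.2, hcon y.1 y.2]
    rw [hcard] at this
    have : 2 ^ 1 ≤ 2 ^ n := Nat.pow_le_pow_right (by norm_num) hn
    omega
  obtain ⟨a₀, ha₀, h0⟩ := hex
  set K := subfieldOf A hA a₀ ha₀ h0 with hK
  have hKc : Fintype.card K = 2 ^ n := by
    rw [← Nat.card_eq_fintype_card, card_subfieldOf, hcard]
  have := Module.card_eq_pow_finrank (K := K) (V := F)
  rw [hF, hKc, ← pow_mul] at this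
  have := Nat.pow_right_injective (le_refl 2) this
  exact ⟨_, this⟩


omit [Fintype F] in
theorem stabProp_subfield (K₀ : Subfield F) : StabProp K₀.toSubring.toAddSubgroup := by
  intro β hβ ⟨c, hc, hc0, hβc⟩ c'
  have hβmem : β ∈ K₀ := by
    have : β = β * c * c⁻¹ := by field_simp
    rw [this]
    exact K₀.mul_mem hβc (K₀.inv_mem hc)
  constructor
  · intro h
    exact K₀.mul_mem hβmem h
  · intro h
    have : c' = β⁻¹ * (β * c') := by field_simp
    rw [this]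
    exact K₀.mul_mem (K₀.inv_mem hβmem) h

theorem exists_stable [CharP F 2] {k n : ℕ} (hF : Fintype.card F = 2 ^ k) (hn : 1 ≤ n) (hnk : n ∣ k) :
    ∃ A : AddSubgroup F, Nat.card A = 2 ^ n ∧ StabProp A := by
  haveI : Fact (Nat.Prime 2) := ⟨Nat.prime_two⟩
  letI : Algebra (ZMod 2) F := ZMod.algebra F 2
  have h1 : Module.finrank (ZMod 2) (GaloisField 2 n) = n := GaloisField.finrank 2 (by omega)
  have h2 : Module.finrank (ZMod 2) F = k := by
    have := FiniteField.pow_finrank_eq_card 2 F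
    rw [hF] at this
    exact Nat.pow_right_injective (le_refl 2) this
  obtain ⟨f⟩ := FiniteField.nonempty_algHom_of_finrank_dvd (F := ZMod 2) (K := GaloisField 2 n) (L := F)
    (by rw [h1, h2]; exact hnk)
  refine ⟨f.fieldRange.toSubfield.toSubring.toAddSubgroup, ?_, stabProp_subfield _⟩
  have e : GaloisField 2 n ≃ f.fieldRange.toSubfield.toSubring.toAddSubgroup :=
    Equiv.ofBijective (fun x => ⟨f x, ⟨x, rfl⟩⟩) ⟨fun x y h => f.injective (congrArg Subtype.val h), by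
      rintro ⟨_, x, rfl⟩
      exact ⟨x, rfl⟩⟩
  rw [← Nat.card_congr e, GaloisField.card 2 n (by omega)]

end field


section group
variable {F : Type*} [Field F] [Fintype F] [CharP F 2] (m : ℕ)
set_option linter.unusedSectionVars false
variable (hF : Fintype.card F = 2 ^ (2 * m + 1))

theorem conj_mul (g : Sz F m) (c c' : F) :
    g * tT m hF 0 c * g⁻¹ * (g * tT m hF 0 c' * g⁻¹) = g * tT m hF 0 (c + c') * g⁻¹ := by
  have : tT m hF 0 c * tT m hF 0 c' = tT m hF 0 (c + c') := by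
    rw [tT_mul, sg_zero, zero_mul, add_zero, add_zero]
  rw [← this]
  group

theorem conj_inv (g : Sz F m) (c : F) :
    (g * tT m hF 0 c * g⁻¹)⁻¹ = g * tT m hF 0 c * g⁻¹ := by
  have : (tT m hF 0 c)⁻¹ = tT m hF 0 c := by
    rw [tT_inv, sg_zero, zero_mul, add_zero]
  rw [mul_inv_rev, mul_inv_rev, inv_inv, this, mul_assoc]

/-- the subgroup `g {tT 0 c : c ∈ A} g⁻¹` -/
def eSub (g : Sz F m) (A : AddSubgroup F) : Subgroup (Sz F m) where
  carrier := {x | ∃ c ∈ A, x = g * tT m hF 0 c * g⁻¹}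
  mul_mem' := by
    rintro _ _ ⟨c, hc, rfl⟩ ⟨c', hc', rfl⟩
    exact ⟨c + c', A.add_mem hc hc', conj_mul m hF g c c'⟩
  one_mem' := ⟨0, A.zero_mem, by rw [tT_zero, mul_one, mul_inv_cancel]⟩
  inv_mem' := by
    rintro _ ⟨c, hc, rfl⟩
    exact ⟨c, hc, conj_inv m hF g c⟩

theorem conj_inj (g : Sz F m) {c c' : F}
    (h : g * tT m hF 0 c * g⁻¹ = g * tT m hF 0 c' * g⁻¹) : c = c' :=
  (tT_inj m hF (mul_left_cancel (mul_right_cancel h))).2

theorem mem_eSub_iff (g : Sz F m) (A : AddSubgroup F) (c : F) :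
    g * tT m hF 0 c * g⁻¹ ∈ eSub m hF g A ↔ c ∈ A := by
  constructor
  · rintro ⟨c', hc', h⟩
    rwa [conj_inj m hF g h]
  · intro h
    exact ⟨c, h, rfl⟩

theorem conj_eq_one_iff (g : Sz F m) (c : F) : g * tT m hF 0 c * g⁻¹ = 1 ↔ c = 0 := by
  constructor
  · intro h
    have : g * tT m hF 0 c * g⁻¹ = g * tT m hF 0 0 * g⁻¹ := by
      rw [h, tT_zero, mul_one, mul_inv_cancel]
    exact conj_inj m hF g this
  · rintro rfl
    rw [tT_zero, mul_one, mul_inv_cancel]

theorem card_eSub (g : Sz F m) (A : AddSubgroup F) : Nat.card (eSub m hF g A) = Nat.card A := by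
  symm
  apply Nat.card_congr
  refine Equiv.ofBijective (fun c => ⟨g * tT m hF 0 c.1 * g⁻¹, c.1, c.2, rfl⟩) ⟨?_, ?_⟩
  · intro c c' h
    exact Subtype.ext (conj_inj m hF g (congrArg Subtype.val h))
  · rintro ⟨_, c, hc, rfl⟩
    exact ⟨⟨c, hc⟩, rfl⟩

theorem elemAb_eSub (g : Sz F m) (A : AddSubgroup F) : IsElementaryAbelian 2 (eSub m hF g A) := by
  constructor
  · constructor
    constructor
    rintro ⟨_, c, hc, rfl⟩ ⟨_, c', hc', rfl⟩
    apply Subtype.ext
    change g * tT m hF 0 c * g⁻¹ * (g * tT m hF 0 c' * g⁻¹) =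
      g * tT m hF 0 c' * g⁻¹ * (g * tT m hF 0 c * g⁻¹)
    rw [conj_mul, conj_mul, add_comm]
  · rintro _ ⟨c, hc, rfl⟩
    have h2 := two_eq_zero' (F := F)
    rw [pow_two, conj_mul, conj_eq_one_iff]
    linear_combination c * h2


include hF in
theorem exists_eSub (hm : 1 ≤ m) (E : Subgroup (Sz F m)) (hE : IsElementaryAbelian 2 E) :
    ∃ (g : Sz F m) (A : AddSubgroup F), E = eSub m hF g A := by
  have : Fact (Nat.Prime 2) := ⟨Nat.prime_two⟩
  have hp : IsPGroup 2 E := by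
    intro x
    refine ⟨1, ?_⟩
    apply Subtype.ext
    rw [pow_one, Subgroup.coe_pow, Subgroup.coe_one]
    exact hE.2 x.1 x.2
  obtain ⟨P, hP⟩ := hp.exists_le_sylow
  obtain ⟨g, hg⟩ := sylow_conj m hF hm P
  have hform : ∀ e ∈ E, ∃ c, e = g * tT m hF 0 c * g⁻¹ := by
    intro e he
    obtain ⟨a, b, rfl⟩ := (hg e).1 (hP he)
    have hsq := hE.2 _ he
    have e1 : (g * tT m hF a b * g⁻¹) ^ 2 = g * (tT m hF a b * tT m hF a b) * g⁻¹ := by
      rw [pow_two]; group
    rw [e1, tT_sq] at hsq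
    have := (conj_eq_one_iff m hF g _).1 hsq
    have ha : a = 0 := by
      rcases mul_eq_zero.1 this with h' | h'
      · exact sg_eq_zero m a h'
      · exact h'
    exact ⟨b, by rw [ha]⟩
  refine ⟨g, { carrier := {c | g * tT m hF 0 c * g⁻¹ ∈ E}
               add_mem' := ?_
               zero_mem' := ?_
               neg_mem' := ?_ }, ?_⟩
  · intro c c' hc hc'
    change g * tT m hF 0 (c + c') * g⁻¹ ∈ E
    rw [← conj_mul]
    exact E.mul_mem hc hc'
  · change g * tT m hF 0 0 * g⁻¹ ∈ E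
    rw [(conj_eq_one_iff m hF g 0).2 rfl]
    exact E.one_mem
  · intro c hc
    have h2 := two_eq_zero' (F := F)
    change g * tT m hF 0 (-c) * g⁻¹ ∈ E
    have : -c = c := by linear_combination (-c) * h2
    rw [this]
    exact hc
  · ext e
    constructor
    · intro he
      obtain ⟨c, rfl⟩ := hform e he
      exact ⟨c, he, rfl⟩
    · rintro ⟨c, hc, rfl⟩
      exact hc

include hF in
theorem conj_eSub_elem (g : Sz F m) (a b : F) (α : Fˣ) (c : F) :
    g * (tT m hF a b * dD m hF α) * g⁻¹ * (g * tT m hF 0 c * g⁻¹) *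
      (g * (tT m hF a b * dD m hF α) * g⁻¹)⁻¹ = g * tT m hF 0 (sg m (α : F) * α * c) * g⁻¹ := by
  have e : g * (tT m hF a b * dD m hF α) * g⁻¹ * (g * tT m hF 0 c * g⁻¹) *
      (g * (tT m hF a b * dD m hF α) * g⁻¹)⁻¹ =
      g * (tT m hF a b * (dD m hF α * tT m hF 0 c * (dD m hF α)⁻¹) * (tT m hF a b)⁻¹) * g⁻¹ := by
    group
  rw [e, dD_conj, tT_conj, mul_zero, sg_zero, mul_zero, zero_mul, add_zero, add_zero]

include hF in
/-- a central translation fixes only the point at infinity -/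
theorem tT_fixed' (b : F) (hb : b ≠ 0) (p : Projectivization F (Fin 4 → F))
    (hp : p ∈ suzukiOvoid F m) (h : tT m hF 0 b • p = p) : p = pinf := by
  rcases (mem_ovoid_iff m p).1 hp with rfl | ⟨x, y, rfl⟩
  · rfl
  · exfalso
    rw [tT_pt] at h
    have := (pt_inj m h).2
    apply hb
    rw [sg_zero, zero_mul, add_zero] at this
    linear_combination this

include hF in
theorem ti_iff (hm : 1 ≤ m) (g : Sz F m) (A : AddSubgroup F) :
    (∀ x : Sz F m, eSub m hF g A ⊓ (eSub m hF g A).map (MulAut.conj x).toMonoidHom ≠ ⊥ →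
      x ∈ Subgroup.normalizer (eSub m hF g A : Set (Sz F m))) ↔ StabProp A := by
  constructor
  · intro hTI β hβ ⟨c₁, hc₁, hc₁0, hβc₁⟩ c
    obtain ⟨α, hα⟩ := exists_sg_mul_self m hF β hβ
    set x := g * (tT m hF 0 0 * dD m hF α) * g⁻¹ with hx
    have hxconj : ∀ c : F, x * (g * tT m hF 0 c * g⁻¹) * x⁻¹ = g * tT m hF 0 (β * c) * g⁻¹ := by
      intro c
      rw [hx, conj_eSub_elem, hα]
    have hne : eSub m hF g A ⊓ (eSub m hF g A).map (MulAut.conj x).toMonoidHom ≠ ⊥ := by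
      intro hbot
      have hmem : g * tT m hF 0 (β * c₁) * g⁻¹ ∈
          eSub m hF g A ⊓ (eSub m hF g A).map (MulAut.conj x).toMonoidHom := by
        refine ⟨⟨_, hβc₁, rfl⟩, ?_⟩
        refine ⟨g * tT m hF 0 c₁ * g⁻¹, ⟨_, hc₁, rfl⟩, ?_⟩
        change x * (g * tT m hF 0 c₁ * g⁻¹) * x⁻¹ = _
        exact hxconj c₁
      rw [hbot, Subgroup.mem_bot, conj_eq_one_iff] at hmem
      exact mul_ne_zero hβ hc₁0 hmem
    have hnorm := hTI x hne
    have := Subgroup.mem_normalizer_iff.1 hnorm (g * tT m hF 0 c * g⁻¹)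
    rw [hxconj c] at this
    change g * tT m hF 0 c * g⁻¹ ∈ eSub m hF g A ↔ g * tT m hF 0 (β * c) * g⁻¹ ∈ eSub m hF g A at this
    rwa [mem_eSub_iff, mem_eSub_iff] at this
  · intro hS x hne
    obtain ⟨⟨y, hy⟩, hy1'⟩ := (Subgroup.ne_bot_iff_exists_ne_one).1 hne
    have hy1 : y ≠ 1 := fun h => hy1' (Subtype.ext h)
    obtain ⟨⟨c, hc, rfl⟩, ⟨_, ⟨c', hc', rfl⟩, hconj⟩⟩ := hy
    change x * (g * tT m hF 0 c' * g⁻¹) * x⁻¹ = g * tT m hF 0 c * g⁻¹ at hconj
    have hc0 : c ≠ 0 := fun h => hy1 ((conj_eq_one_iff m hF g c).2 h)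
    have hc'0 : c' ≠ 0 := by
      rintro rfl
      rw [(conj_eq_one_iff m hF g 0).2 rfl, mul_one, mul_inv_cancel] at hconj
      exact hy1 hconj.symm
    -- `z = g⁻¹ x g` fixes the point at infinity
    set z := g⁻¹ * x * g with hz
    have hzc : z * tT m hF 0 c' * z⁻¹ = tT m hF 0 c := by
      have : z * tT m hF 0 c' * z⁻¹ = g⁻¹ * (x * (g * tT m hF 0 c' * g⁻¹) * x⁻¹) * g := by
        rw [hz]; group
      rw [this, hconj]
      group
    have hzinf : z • (pinf : Projectivization F (Fin 4 → F)) = pinf := by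
      apply tT_fixed' m hF c hc0 _ (smul_mem_ovoid m z (pinf_mem m))
      rw [← hzc, mul_smul, mul_smul, inv_smul_smul, tT_pinf]
    obtain ⟨a, b, α, hzdec⟩ := stab_inf m hF hm z hzinf
    have hxdec : x = g * (tT m hF a b * dD m hF α) * g⁻¹ := by
      rw [← hzdec, hz]; group
    set β := sg m (α : F) * α with hβ
    have hβ0 : β ≠ 0 := mul_ne_zero (fun h => α.ne_zero (sg_eq_zero m _ h)) α.ne_zero
    have hxconj : ∀ c : F, x * (g * tT m hF 0 c * g⁻¹) * x⁻¹ = g * tT m hF 0 (β * c) * g⁻¹ := by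
      intro c
      rw [hxdec, conj_eSub_elem]
    rw [hxconj c'] at hconj
    have hcc' : β * c' = c := conj_inj m hF g hconj
    have hiff := hS β hβ0 ⟨c', hc', hc'0, by rw [hcc']; exact hc⟩
    apply Subgroup.mem_normalizer_fintype
    rintro _ ⟨c'', hc'', rfl⟩
    rw [hxconj c'']
    exact ⟨_, (hiff c'').1 hc'', rfl⟩

end group

theorem result {F : Type*} [Field F] [Fintype F] {m : ℕ} (hm : 1 ≤ m) (hF : Fintype.card F = 2 ^ (2 * m + 1)) (n : ℕ) (hn : 2 ≤ n) :
    (∃ E : Subgroup ↥(Cfsg.Sz F m), Cfsg.IsElementaryAbelian 2 E ∧ Nat.card ↥E = 2 ^ n ∧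
      ∀ x : ↥(Cfsg.Sz F m), E ⊓ E.map (MulAut.conj x).toMonoidHom ≠ ⊥ → x ∈ Subgroup.normalizer (E : Set ↥(Cfsg.Sz F m))) ↔ n ∣ 2 * m + 1 := by
  haveI := charP_of_card hF
  constructor
  · rintro ⟨E, hE, hcard, hTI⟩
    obtain ⟨g, A, rfl⟩ := exists_eSub m hF hm E hE
    rw [card_eSub] at hcard
    exact dvd_of_stable hF A ((ti_iff m hF hm g A).1 hTI) hcard (by omega)
  · intro hdvd
    obtain ⟨A, hAcard, hA⟩ := exists_stable hF (by omega : 1 ≤ n) hdvd
    refine ⟨eSub m hF 1 A, elemAb_eSub m hF 1 A, ?_, (ti_iff m hF hm 1 A).2 hA⟩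
    rw [card_eSub, hAcard]

end Cfsg.Agent.S2240
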