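import Cfsg.Statements.S2241
import Cfsg.Agent.Lib.Helper5.SuzukiReal
import Mathlib

set_option autoImplicit false
open Cfsg

namespace Cfsg.Agent.S2241

open Cfsg.Agent.Lib.Helper5.Suzuki in
/-- Real 2-elements of the Suzuki group: with q = 2^(2m+1), m ≥ 1, and the group realised as the stabiliser in SL₄ of the Suzuki–Tits ovoid, a non-identity element of a Sylow 2-subgroup is conjugate to its inverse if and only if it is an involution; in particular no element of order 4 is conjugate to its inverse. -/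
theorem result {F : Type*} [Field F] [Fintype F] {m : ℕ} (hm : 1 ≤ m) (hF : Fintype.card F = 2 ^ (2 * m + 1)) (P : Sylow 2 ↥(Cfsg.Sz F m)) (g : ↥(Cfsg.Sz F m)) (hg : g ∈ (P : Subgroup ↥(Cfsg.Sz F m))) (h1 : g ≠ 1) :
    IsConj g g⁻¹ ↔ orderOf g = 2 := by
  haveI := charP_of_card hF
  obtain ⟨h, hh⟩ := sylow_conj m hF hm P
  obtain ⟨a, b, rfl⟩ := (hh g).1 hg
  have hab : ¬ (a = 0 ∧ b = 0) := by
    rintro ⟨rfl, rfl⟩
    apply h1
    rw [tT_zero, mul_one, mul_inv_cancel]
  have e1 : orderOf (h * tT m hF a b * h⁻¹) = orderOf (tT m hF a b) := by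
    have := MulEquiv.orderOf_eq (MulAut.conj h) (tT m hF a b)
    rwa [MulAut.conj_apply] at this
  have e2 : IsConj (h * tT m hF a b * h⁻¹) (h * tT m hF a b * h⁻¹)⁻¹ ↔
      IsConj (tT m hF a b) (tT m hF a b)⁻¹ := by
    rw [isConj_iff, isConj_iff]
    constructor
    · rintro ⟨c, hc⟩
      refine ⟨h⁻¹ * c * h, ?_⟩
      have : (tT m hF a b)⁻¹ = h⁻¹ * (h * tT m hF a b * h⁻¹)⁻¹ * h := by group
      rw [this, ← hc]
      group
    · rintro ⟨c, hc⟩
      refine ⟨h * c * h⁻¹, ?_⟩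
      have : (h * tT m hF a b * h⁻¹)⁻¹ = h * (tT m hF a b)⁻¹ * h⁻¹ := by group
      rw [this, ← hc]
      group
  rw [e1, e2, isConj_tT_inv_iff m hF hm, orderOf_tT_eq_two_iff m hF a b hab]

end Cfsg.Agent.S2241
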