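import Cfsg.Statements.S4628
import Mathlib
import Cfsg.Agent.S4624
import Cfsg.Agent.S0265
import Cfsg.Agent.Lib.Helper4.EAKernelC
import Cfsg.Agent.Lib.Helper4.GLUtil
import Cfsg.Agent.Lib.Helper4.GLOrders

set_option autoImplicit false
open Cfsg

namespace Cfsg.Agent.S4628

open Cfsg.Agent.S4624 Cfsg.Agent.Helper4.Wreath Cfsg.Agent.Helper4.EAK
open scoped commutatorElement Pointwise

section Semidihedral

/-- a group with an abelian subgroup of index two, acted on in the semidihedral fashion -/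
theorem EA2_semidihedral {N : Type*} [Group N] [Finite N] (T : Subgroup N) (hidx : T.index = 2)
    (hab : ∀ a ∈ T, ∀ b ∈ T, a * b = b * a)
    (s : N) (hsT : s ∉ T) (hs : s * s = 1)
    (u : N) (huT : u ∈ T) (hu4 : (u * u) * (u * u) = 1) (hsu : s * u * s⁻¹ = u⁻¹)
    (hnorm : ∀ t ∈ T, (∃ k : ℕ, t ^ (2 ^ k) = 1) →
      s * t * s⁻¹ * t = 1 ∨ s * t * s⁻¹ * t = u * u) : EA2 N := by
  have hsinv : s⁻¹ = s := inv_eq_of_mul_eq_one_left hs
  have hsp : IsPGroup 2 (Subgroup.zpowers s) :=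
    Cfsg.Agent.S2648.isPGroup_zpowers 2 1 s (by rw [pow_one, pow_two, hs])
  obtain ⟨Q, hQ⟩ := hsp.exists_le_sylow
  have hsQ : s ∈ (Q : Subgroup N) := hQ (Subgroup.mem_zpowers s)
  refine ⟨Q, ?_⟩
  have hcoset : ∀ n : N, n ∉ T → s * n ∈ T := by
    intro n hn
    rw [Subgroup.mul_mem_iff_of_index_two hidx]
    exact ⟨fun h => absurd h hsT, fun h => absurd h hn⟩
  have hnormal : (Subgroup.zpowers u).Normal := by
    constructor
    intro y hy n
    obtain ⟨m, rfl⟩ := Subgroup.mem_zpowers_iff.1 hy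
    rw [← MulAut.conj_apply, map_zpow]
    apply Subgroup.zpow_mem
    rw [MulAut.conj_apply]
    by_cases hn : n ∈ T
    · have : n * u * n⁻¹ = u := by rw [hab n hn u huT, mul_inv_cancel_right]
      rw [this]; exact Subgroup.mem_zpowers u
    · have h1 := hcoset n hn
      have h2 : n = s * (s * n) := by rw [← mul_assoc, hs, one_mul]
      have h3 : n * u * n⁻¹ = u⁻¹ := by
        rw [h2, mul_inv_rev, ← hsu]
        have : (s * n) * u * (s * n)⁻¹ = u := by
          rw [hab _ h1 u huT, mul_inv_cancel_right]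
        calc s * (s * n) * u * ((s * n)⁻¹ * s⁻¹)
            = s * ((s * n) * u * (s * n)⁻¹) * s⁻¹ := by group
          _ = s * u * s⁻¹ := by rw [this]
      rw [h3]; exact Subgroup.inv_mem _ (Subgroup.mem_zpowers u)
  have hu4' : u ^ (2 ^ 2) = 1 := by
    have : u ^ (2 ^ 2) = (u * u) * (u * u) := by
      norm_num [pow_succ, mul_assoc]
    rw [this, hu4]
  have huQ : u ∈ (Q : Subgroup N) :=
    (Cfsg.Agent.S2648.isPGroup_zpowers 2 2 u hu4').le_sylow_of_normal Q (Subgroup.mem_zpowers u)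
  have hz : u * u ∈ ⁅(Q : Subgroup N), (Q : Subgroup N)⁆ := by
    have h1 := Subgroup.commutator_mem_commutator hsQ huQ
    have h2 : ⁅s, u⁆ = (u * u)⁻¹ := by
      rw [commutatorElement_def, hsu, mul_inv_rev]
    rw [h2] at h1
    exact (Subgroup.inv_mem_iff _).1 h1
  have h2el : ∀ x ∈ (Q : Subgroup N), ∃ k : ℕ, x ^ (2 ^ k) = 1 := by
    intro x hx
    obtain ⟨k, hk⟩ := Q.isPGroup' ⟨x, hx⟩
    refine ⟨k, ?_⟩
    have := congrArg Subtype.val hk
    simpa using this
  have hcaseT : ∀ x ∈ (Q : Subgroup N), x ∈ T →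
      x ^ 2 ∈ ⁅(Q : Subgroup N), (Q : Subgroup N)⁆ := by
    intro x hxQ hxT
    have h1 := Subgroup.commutator_mem_commutator hsQ hxQ
    rw [commutatorElement_def] at h1
    rcases hnorm x hxT (h2el x hxQ) with h | h
    · have h3 : s * x * s⁻¹ = x⁻¹ := eq_inv_of_mul_eq_one_left h
      rw [h3] at h1
      have : x⁻¹ * x⁻¹ = (x ^ 2)⁻¹ := by rw [pow_two, mul_inv_rev]
      rw [this] at h1
      exact (Subgroup.inv_mem_iff _).1 h1
    · have h3 : s * x * s⁻¹ = u * u * x⁻¹ := by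
        rw [← h, mul_inv_cancel_right]
      rw [h3] at h1
      have : u * u * x⁻¹ * x⁻¹ = (u * u) * (x ^ 2)⁻¹ := by
        rw [pow_two, mul_inv_rev, mul_assoc]
      rw [this] at h1
      have h4 := Subgroup.mul_mem _ (Subgroup.inv_mem _ hz) h1
      rw [inv_mul_cancel_left] at h4
      exact (Subgroup.inv_mem_iff _).1 h4
  intro x hxQ
  by_cases hxT : x ∈ T
  · exact hcaseT x hxQ hxT
  · have h1 := hcoset x hxT
    have h1Q : s * x ∈ (Q : Subgroup N) := Subgroup.mul_mem _ hsQ hxQ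
    have h2 : x ^ 2 = s * (s * x) * s⁻¹ * (s * x) := by
      rw [hsinv, pow_two]
      calc x * x = (s * s) * x * ((s * s) * x) := by rw [hs, one_mul]
        _ = s * (s * x) * s * (s * x) := by group
    rw [h2]
    rcases hnorm (s * x) h1 (h2el _ h1Q) with h | h
    · rw [h]; exact Subgroup.one_mem _
    · rw [h]; exact hz

end Semidihedral

open Cfsg.Agent.S4624 Cfsg.Agent.Helper4.Wreath Cfsg.Agent.Helper4.EAK
open scoped commutatorElement Pointwise
open Matrix

section Torus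
variable {F : Type*} [Field F]

local notation "M2" => Matrix (Fin 2) (Fin 2) F

/-- the matrix of multiplication by a square root of `-1` -/
def Jm : Matrix (Fin 2) (Fin 2) F := !![0, -1; 1, 0]

/-- the reflection -/
def sm : Matrix (Fin 2) (Fin 2) F := !![1, 0; 0, -1]

theorem Jm_mul_Jm : (Jm : Matrix (Fin 2) (Fin 2) F) * Jm = -1 := by
  unfold Jm
  ext i j
  fin_cases i <;> fin_cases j <;> simp [Matrix.mul_apply, Fin.sum_univ_two]

theorem sm_mul_sm : (sm : Matrix (Fin 2) (Fin 2) F) * sm = 1 := by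
  unfold sm
  ext i j
  fin_cases i <;> fin_cases j <;> simp [Matrix.mul_apply, Fin.sum_univ_two]

theorem sm_mul_Jm : (sm : Matrix (Fin 2) (Fin 2) F) * Jm = -(Jm * sm) := by
  unfold sm Jm
  ext i j
  fin_cases i <;> fin_cases j <;> simp [Matrix.mul_apply, Fin.sum_univ_two]

/-- `J` as an invertible matrix -/
def Jg : GL (Fin 2) F := ⟨Jm, -Jm, by rw [mul_neg, Jm_mul_Jm, neg_neg], by rw [neg_mul, Jm_mul_Jm, neg_neg]⟩

/-- `s` as an invertible matrix -/
def sg : GL (Fin 2) F := ⟨sm, sm, sm_mul_sm, sm_mul_sm⟩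

theorem Jg_coe : ((Jg : GL (Fin 2) F) : Matrix (Fin 2) (Fin 2) F) = Jm := rfl
theorem sg_coe : ((sg : GL (Fin 2) F) : Matrix (Fin 2) (Fin 2) F) = sm := rfl

theorem sg_mul_sg : (sg : GL (Fin 2) F) * sg = 1 := Units.ext sm_mul_sm

theorem inv_comm_of_comm {R : Type*} [Monoid R] (a : Rˣ) (J : R)
    (h : (a : R) * J = J * (a : R)) : ((a⁻¹ : Rˣ) : R) * J = J * ((a⁻¹ : Rˣ) : R) := by
  rw [Units.inv_mul_eq_iff_eq_mul, ← mul_assoc, h, mul_assoc, Units.mul_inv, mul_one]

theorem inv_anti_of_anti {R : Type*} [Ring R] (a : Rˣ) (J : R)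
    (h : (a : R) * J = -(J * (a : R))) : ((a⁻¹ : Rˣ) : R) * J = -(J * ((a⁻¹ : Rˣ) : R)) := by
  rw [Units.inv_mul_eq_iff_eq_mul, mul_neg, ← mul_assoc, h, neg_mul, neg_neg, mul_assoc,
    Units.mul_inv, mul_one]

/-- the normalizer of the torus -/
def Nn : Subgroup (GL (Fin 2) F) where
  carrier := {g | (g : M2) * (Jm : M2) = (Jm : M2) * (g : M2)
    ∨ (g : M2) * (Jm : M2) = -((Jm : M2) * (g : M2))}
  one_mem' := Or.inl (by rw [Units.val_one, one_mul, mul_one])
  mul_mem' := by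
    rintro a b (ha | ha) (hb | hb)
    · left
      rw [Units.val_mul, mul_assoc, hb, ← mul_assoc, ha, mul_assoc]
    · right
      rw [Units.val_mul, mul_assoc, hb, mul_neg, ← mul_assoc, ha, mul_assoc]
    · right
      rw [Units.val_mul, mul_assoc, hb, ← mul_assoc, ha, neg_mul, mul_assoc]
    · left
      rw [Units.val_mul, mul_assoc, hb, mul_neg, ← mul_assoc, ha, neg_mul, neg_neg, mul_assoc]
  inv_mem' := by
    rintro a (ha | ha)
    · left
      exact inv_comm_of_comm a Jm ha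
    · right
      exact inv_anti_of_anti a Jm ha

/-- the torus -/
def Tn : Subgroup (GL (Fin 2) F) where
  carrier := {g | (g : M2) * (Jm : M2) = (Jm : M2) * (g : M2)}
  one_mem' := by
    show ((1 : GL (Fin 2) F) : M2) * (Jm : M2) = (Jm : M2) * ((1 : GL (Fin 2) F) : M2)
    rw [Units.val_one, one_mul, mul_one]
  mul_mem' := by
    intro a b ha hb
    show ((a * b : GL (Fin 2) F) : M2) * (Jm : M2) = (Jm : M2) * ((a * b : GL (Fin 2) F) : M2)
    have ha' : (a : M2) * (Jm : M2) = (Jm : M2) * (a : M2) := ha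
    have hb' : (b : M2) * (Jm : M2) = (Jm : M2) * (b : M2) := hb
    rw [Units.val_mul, mul_assoc, hb', ← mul_assoc, ha', mul_assoc]
  inv_mem' := by
    intro a ha
    exact inv_comm_of_comm a Jm ha

theorem mem_Tn {g : GL (Fin 2) F} :
    g ∈ Tn ↔ (g : M2) * (Jm : M2) = (Jm : M2) * (g : M2) := Iff.rfl

theorem mem_Nn {g : GL (Fin 2) F} :
    g ∈ Nn ↔ ((g : M2) * (Jm : M2) = (Jm : M2) * (g : M2)
      ∨ (g : M2) * (Jm : M2) = -((Jm : M2) * (g : M2))) := Iff.rfl

theorem Tn_le_Nn : (Tn : Subgroup (GL (Fin 2) F)) ≤ Nn := fun _ h => Or.inl h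

theorem Jg_mem_Tn : (Jg : GL (Fin 2) F) ∈ Tn := by
  rw [mem_Tn, Jg_coe]

theorem sg_mem_Nn : (sg : GL (Fin 2) F) ∈ Nn := by
  rw [mem_Nn, sg_coe]
  exact Or.inr sm_mul_Jm

/-- entries of an element of the torus -/
theorem entries_of_comm {g : M2} (h : g * (Jm : M2) = (Jm : M2) * g) :
    g 1 1 = g 0 0 ∧ g 0 1 = -g 1 0 := by
  have h1 := congrFun (congrFun h 1) 0
  have h2 := congrFun (congrFun h 0) 0
  rw [Matrix.mul_apply, Matrix.mul_apply, Fin.sum_univ_two, Fin.sum_univ_two] at h1 h2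
  simp [Jm] at h1 h2
  exact ⟨h1, h2⟩

/-- entries of an element of the other coset -/
theorem entries_of_anti {g : M2} (h : g * (Jm : M2) = -((Jm : M2) * g)) :
    g 1 1 = -g 0 0 ∧ g 0 1 = g 1 0 := by
  have h1 := congrFun (congrFun h 1) 0
  have h2 := congrFun (congrFun h 0) 0
  rw [Matrix.neg_apply, Matrix.mul_apply, Matrix.mul_apply, Fin.sum_univ_two,
    Fin.sum_univ_two] at h1 h2
  simp [Jm] at h1 h2
  exact ⟨h1, h2⟩

theorem eq_of_entries {g : M2} (h1 : g 1 1 = g 0 0) (h2 : g 0 1 = -g 1 0) :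
    g = !![g 0 0, -g 1 0; g 1 0, g 0 0] := by
  ext i j
  fin_cases i <;> fin_cases j <;> simp [h1, h2]

theorem Tn_comm (a b : GL (Fin 2) F) (ha : a ∈ Tn) (hb : b ∈ Tn) : a * b = b * a := by
  obtain ⟨a1, a2⟩ := entries_of_comm (mem_Tn.1 ha)
  obtain ⟨b1, b2⟩ := entries_of_comm (mem_Tn.1 hb)
  apply Units.ext
  rw [Units.val_mul, Units.val_mul, eq_of_entries a1 a2, eq_of_entries b1 b2]
  ext i j
  fin_cases i <;> fin_cases j <;> simp [Matrix.mul_apply, Fin.sum_univ_two] <;> ring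

end Torus

open Cfsg.Agent.S4624 Cfsg.Agent.Helper4.Wreath Cfsg.Agent.Helper4.EAK
open scoped commutatorElement Pointwise
open Matrix

section TorusB
variable {F : Type*} [Field F]

local notation "M2" => Matrix (Fin 2) (Fin 2) F

theorem two_ne_zero_of_neg_one_ne (h : (-1 : F) ≠ 1) : (2 : F) ≠ 0 := by
  intro h2
  apply h
  have : (1 : F) + 1 = 0 := by rw [one_add_one_eq_two, h2]
  exact neg_eq_of_add_eq_zero_left this

/-- an invertible matrix cannot both commute and anticommute with `J` -/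
theorem not_both (hF : (-1 : F) ≠ 1) (g : GL (Fin 2) F)
    (h1 : (g : M2) * (Jm : M2) = (Jm : M2) * (g : M2))
    (h2 : (g : M2) * (Jm : M2) = -((Jm : M2) * (g : M2))) : False := by
  obtain ⟨a1, a2⟩ := entries_of_comm h1
  obtain ⟨b1, b2⟩ := entries_of_anti h2
  have h2' := two_ne_zero_of_neg_one_ne hF
  have e1 : (g : M2) 0 0 = 0 := by
    have : (2 : F) * (g : M2) 0 0 = 0 := by linear_combination b1 - a1
    rcases mul_eq_zero.1 this with h | h
    · exact absurd h h2'
    · exact h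
  have e2 : (g : M2) 1 0 = 0 := by
    have : (2 : F) * (g : M2) 1 0 = 0 := by linear_combination a2 - b2
    rcases mul_eq_zero.1 this with h | h
    · exact absurd h h2'
    · exact h
  have hdet : Matrix.det (g : M2) = 0 := by
    rw [Matrix.det_fin_two, e1, e2]
    ring
  have := (Matrix.GeneralLinearGroup.det g).ne_zero
  exact this hdet

theorem sg_not_mem_Tn (hF : (-1 : F) ≠ 1) : (sg : GL (Fin 2) F) ∉ Tn := by
  intro h
  exact not_both hF sg h sm_mul_Jm

/-- the torus has index two in its normalizer -/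
theorem index_Tn (hF : (-1 : F) ≠ 1) :
    ((Tn : Subgroup (GL (Fin 2) F)).subgroupOf Nn).index = 2 := by
  rw [Subgroup.index_eq_two_iff]
  refine ⟨⟨sg, sg_mem_Nn⟩, ?_⟩
  rintro ⟨b, hb⟩
  rw [Subgroup.mem_subgroupOf, Subgroup.mem_subgroupOf]
  show Xor' (b * sg ∈ Tn) (b ∈ Tn)
  rcases hb with hb | hb
  · right
    refine ⟨hb, ?_⟩
    intro h
    apply not_both hF (b * sg) h
    rw [Units.val_mul, sg_coe, mul_assoc, sm_mul_Jm, mul_neg, ← mul_assoc, hb, mul_assoc]
  · left
    refine ⟨?_, ?_⟩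
    · show ((b * sg : GL (Fin 2) F) : M2) * (Jm : M2) = (Jm : M2) * ((b * sg : GL (Fin 2) F) : M2)
      rw [Units.val_mul, sg_coe, mul_assoc, sm_mul_Jm, mul_neg, ← mul_assoc, hb, neg_mul, neg_neg,
        mul_assoc]
    · intro h
      exact not_both hF b h hb

/-- the norm relation -/
theorem norm_rel (t : GL (Fin 2) F) (ht : t ∈ Tn) :
    ((sg * t * sg⁻¹ * t : GL (Fin 2) F) : M2)
      = Matrix.det (t : M2) • (1 : M2) := by
  obtain ⟨a1, a2⟩ := entries_of_comm (mem_Tn.1 ht)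
  have hs : (sg : GL (Fin 2) F)⁻¹ = sg := inv_eq_of_mul_eq_one_left sg_mul_sg
  rw [hs, Units.val_mul, Units.val_mul, Units.val_mul, sg_coe, Matrix.det_fin_two]
  conv_lhs => rw [eq_of_entries a1 a2]
  unfold sm
  ext i j
  fin_cases i <;> fin_cases j <;> simp [Matrix.mul_apply, Fin.sum_univ_two, a1, a2] <;> ring

theorem sg_conj_Jg : (sg : GL (Fin 2) F) * Jg * sg⁻¹ = Jg⁻¹ := by
  have hs : (sg : GL (Fin 2) F)⁻¹ = sg := inv_eq_of_mul_eq_one_left sg_mul_sg
  rw [hs]
  apply Units.ext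
  rw [Units.val_mul, Units.val_mul, sg_coe, Jg_coe, sm_mul_Jm, neg_mul, mul_assoc, sm_mul_sm,
    mul_one]
  rfl

theorem Jg_mul_Jg_coe : ((Jg * Jg : GL (Fin 2) F) : M2) = -1 := by
  rw [Units.val_mul, Jg_coe, Jm_mul_Jm]

theorem Jg_four : ((Jg : GL (Fin 2) F) * Jg) * (Jg * Jg) = 1 := by
  apply Units.ext
  rw [Units.val_mul, Jg_mul_Jg_coe, neg_mul_neg, one_mul]
  rfl

end TorusB

section Finite
variable {F : Type*} [Field F] [Fintype F]

local notation "M2" => Matrix (Fin 2) (Fin 2) F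

/-- two-power roots of unity in a field with `q ≡ 3 (mod 4)` elements -/
theorem eq_one_or_neg_one (h4 : Fintype.card F % 4 = 3) (d : F) (k : ℕ)
    (hd : d ^ (2 ^ k) = 1) : d = 1 ∨ d = -1 := by
  have hd0 : d ≠ 0 := by
    rintro rfl
    rw [zero_pow (by positivity)] at hd
    exact zero_ne_one hd
  have h1 : orderOf d ∣ 2 ^ k := orderOf_dvd_of_pow_eq_one hd
  have h2 : orderOf d ∣ Fintype.card F - 1 :=
    orderOf_dvd_of_pow_eq_one (FiniteField.pow_card_sub_one_eq_one d hd0)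
  obtain ⟨j, _, hj⟩ := (Nat.dvd_prime_pow Nat.prime_two).1 h1
  have hj1 : j ≤ 1 := by
    by_contra hcon
    push Not at hcon
    have : 2 ^ 2 ∣ orderOf d := by
      rw [hj]
      exact pow_dvd_pow 2 hcon
    have h3 := dvd_trans this h2
    omega
  have hsq : d ^ 2 = 1 := by
    have : orderOf d ∣ 2 := by
      rw [hj]
      interval_cases j <;> simp
    exact orderOf_dvd_iff_pow_eq_one.1 this
  have : (d - 1) * (d + 1) = 0 := by linear_combination hsq
  rcases mul_eq_zero.1 this with h | h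
  · left; exact sub_eq_zero.1 h
  · right; exact eq_neg_of_add_eq_zero_left h

theorem neg_one_ne_one_of_odd (hodd : Odd (Fintype.card F)) : (-1 : F) ≠ 1 := by
  intro h
  have h2 : (2 : F) = 0 := by
    have : (1 : F) + 1 = 0 := by
      nth_rewrite 1 [← h]
      exact neg_add_cancel 1
    rw [← one_add_one_eq_two, this]
  have hchar : ringChar F = 2 := by
    have hdvd : ringChar F ∣ 2 := by
      rw [← Nat.cast_ofNat (R := F)] at h2
      exact (ringChar.spec F 2).1 h2
    have hp := CharP.char_is_prime F (ringChar F)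
    exact (Nat.prime_dvd_prime_iff_eq hp Nat.prime_two).1 hdvd
  have := FiniteField.even_card_of_char_two hchar
  have h3 := Nat.odd_iff.1 hodd
  omega

/-- the norm of a `2`-element of the torus -/
theorem norm_two_el (h4 : Fintype.card F % 4 = 3) (t : GL (Fin 2) F) (ht : t ∈ Tn)
    (h2 : ∃ k : ℕ, t ^ (2 ^ k) = 1) :
    sg * t * sg⁻¹ * t = 1 ∨ sg * t * sg⁻¹ * t = Jg * Jg := by
  obtain ⟨k, hk⟩ := h2
  have hdet : Matrix.det (t : M2) ^ (2 ^ k) = 1 := by
    have := congrArg (fun g : GL (Fin 2) F => Matrix.det (g : M2)) hk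
    simp only [Units.val_pow_eq_pow_val, Matrix.det_pow, Units.val_one, Matrix.det_one] at this
    exact this
  rcases eq_one_or_neg_one h4 _ k hdet with h | h
  · left
    apply Units.ext
    rw [norm_rel t ht, h, one_smul]
    rfl
  · right
    apply Units.ext
    rw [norm_rel t ht, h, Jg_mul_Jg_coe, neg_smul, one_smul]

end Finite

open Cfsg.Agent.S4624 Cfsg.Agent.Helper4.Wreath Cfsg.Agent.Helper4.EAK
open scoped commutatorElement Pointwise
open Matrix

section Count
variable {F : Type*} [Field F] [Fintype F]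

local notation "M2" => Matrix (Fin 2) (Fin 2) F

theorem sq_add_sq_ne_zero (h4 : Fintype.card F % 4 = 3) (x y : F) (h : (x, y) ≠ (0, 0)) :
    x ^ 2 + y ^ 2 ≠ 0 := by
  intro h0
  have hns : ¬ IsSquare (-1 : F) := by
    rw [FiniteField.isSquare_neg_one_iff]
    omega
  by_cases hy : y = 0
  · rw [hy] at h0 h
    have : x = 0 := by
      have : x ^ 2 = 0 := by linear_combination h0
      exact pow_eq_zero_iff (by norm_num) |>.1 this
    rw [this] at h
    exact h rfl
  · apply hns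
    refine ⟨x / y, ?_⟩
    field_simp
    linear_combination -h0

/-- the matrix `x + yJ` -/
def tmat (x y : F) : M2 := !![x, -y; y, x]

theorem det_tmat (x y : F) : Matrix.det (tmat x y) = x ^ 2 + y ^ 2 := by
  unfold tmat
  rw [Matrix.det_fin_two]
  simp
  ring

theorem tmat_comm (x y : F) : tmat x y * (Jm : M2) = (Jm : M2) * tmat x y := by
  unfold tmat Jm
  ext i j
  fin_cases i <;> fin_cases j <;> simp [Matrix.mul_apply, Fin.sum_univ_two]

/-- the torus is in bijection with the nonzero pairs -/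
noncomputable def TnEquiv (h4 : Fintype.card F % 4 = 3) :
    (Tn : Subgroup (GL (Fin 2) F)) ≃ {p : F × F // p ≠ (0, 0)} where
  toFun g := ⟨((g.1 : M2) 0 0, (g.1 : M2) 1 0), by
    intro h
    have h1 := (Prod.mk.inj h).1
    have h2 := (Prod.mk.inj h).2
    have hdet : Matrix.det (g.1 : M2) = 0 := by
      rw [Matrix.det_fin_two, h1, h2]
      ring
    exact (Matrix.GeneralLinearGroup.det g.1).ne_zero hdet⟩
  invFun p := ⟨Matrix.GeneralLinearGroup.mkOfDetNeZero (tmat p.1.1 p.1.2) (by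
      rw [det_tmat]
      exact sq_add_sq_ne_zero h4 _ _ p.2), by
    rw [mem_Tn]
    exact tmat_comm _ _⟩
  left_inv g := by
    apply Subtype.ext
    apply Units.ext
    obtain ⟨a1, a2⟩ := entries_of_comm (mem_Tn.1 g.2)
    show tmat ((g.1 : M2) 0 0) ((g.1 : M2) 1 0) = (g.1 : M2)
    rw [eq_of_entries a1 a2]
    rfl
  right_inv p := by
    apply Subtype.ext
    rfl

theorem card_Tn (h4 : Fintype.card F % 4 = 3) :
    Nat.card (Tn : Subgroup (GL (Fin 2) F)) = Fintype.card F ^ 2 - 1 := by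
  classical
  rw [Nat.card_congr (TnEquiv h4), Nat.card_eq_fintype_card, Fintype.card_subtype_compl,
    Fintype.card_prod]
  simp [pow_two]

theorem card_Nn (hodd : Odd (Fintype.card F)) (h4 : Fintype.card F % 4 = 3) :
    Nat.card (Nn : Subgroup (GL (Fin 2) F)) = (Fintype.card F ^ 2 - 1) * 2 := by
  have h1 := Subgroup.card_mul_index ((Tn : Subgroup (GL (Fin 2) F)).subgroupOf Nn)
  rw [index_Tn (neg_one_ne_one_of_odd hodd),
    Nat.card_congr (Subgroup.subgroupOfEquivOfLe Tn_le_Nn).toEquiv, card_Tn h4] at h1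
  exact h1.symm

theorem v2_Nn (hodd : Odd (Fintype.card F)) (h4 : Fintype.card F % 4 = 3) :
    (Nat.card (Nn : Subgroup (GL (Fin 2) F))).factorization 2
      = (Nat.card (GL (Fin 2) F)).factorization 2 := by
  have hq3 : 3 ≤ Fintype.card F := by omega
  have hpos : Fintype.card F ^ 2 - 1 ≠ 0 :=
    Cfsg.Agent.Helper4.GLOrders.pow_sub_one_ne_zero _ hq3 1
  rw [Nat.factorization_def _ Nat.prime_two, Nat.factorization_def _ Nat.prime_two,
    card_Nn hodd h4, Cfsg.Agent.Helper4.GLOrders.v2_card_GL hodd 2,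
    Finset.sum_range_succ, Finset.sum_range_one, padicValNat.mul hpos (by norm_num),
    padicValNat_self]
  simp only [zero_add, pow_one]
  rw [v2_of_mod4 (Fintype.card F - 1) (by omega)]
  ring

/-- the Sylow `2`-subgroups of `GL₂(q)`, `q ≡ 3 (mod 4)`, have elementary abelianization -/
theorem EA2_GL2 (hodd : Odd (Fintype.card F)) (h4 : Fintype.card F % 4 = 3) :
    EA2 (GL (Fin 2) F) := by
  classical
  have hF := neg_one_ne_one_of_odd hodd
  apply EA2_of_injective (Nn : Subgroup (GL (Fin 2) F)).subtype Subtype.coe_injective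
    (v2_Nn hodd h4)
  apply EA2_semidihedral ((Tn : Subgroup (GL (Fin 2) F)).subgroupOf Nn) (index_Tn hF)
    (s := ⟨sg, sg_mem_Nn⟩) (u := ⟨Jg, Tn_le_Nn Jg_mem_Tn⟩)
  · rintro ⟨a, ha'⟩ ha ⟨b, hb'⟩ hb
    apply Subtype.ext
    exact Tn_comm a b ha hb
  · intro h
    exact sg_not_mem_Tn hF h
  · apply Subtype.ext
    exact sg_mul_sg
  · exact Jg_mem_Tn
  · apply Subtype.ext
    exact Jg_four
  · apply Subtype.ext
    exact sg_conj_Jg
  · rintro ⟨t, ht'⟩ ht ⟨k, hk⟩
    have h2 : ∃ k : ℕ, t ^ (2 ^ k) = 1 := ⟨k, congrArg Subtype.val hk⟩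
    rcases norm_two_el h4 t ht h2 with h | h
    · left
      apply Subtype.ext
      exact h
    · right
      apply Subtype.ext
      exact h

end Count

open Cfsg.Agent.S4624 Cfsg.Agent.Helper4.Wreath Cfsg.Agent.Helper4.EAK
open Cfsg.Agent.Helper4.GLWreath Cfsg.Agent.Helper4.GLUtil Cfsg.Agent.Helper4.GLOrders
open scoped commutatorElement Pointwise
open Matrix

section Final
variable {F : Type*} [Field F] [Fintype F]

/-- the index equivalence -/
def idxEquiv (m : ℕ) : (Fin 2 × Fin m) ⊕ Fin 1 ≃ Fin (2 * m + 1) :=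
  (Equiv.sumCongr finProdFinEquiv (Equiv.refl _)).trans finSumFinEquiv

/-- the embedding of `GL₂ ≀ S_m` into `SL_{2m+1}` -/
def emb (m : ℕ) : Wr (Fin m) (GL (Fin 2) F) →* Matrix.SpecialLinearGroup (Fin (2 * m + 1)) F :=
  (slReindex (idxEquiv m)).toMonoidHom.comp (bdOne.comp Phi)

theorem emb_injective (m : ℕ) : Function.Injective (emb (F := F) m) := by
  intro x y hxy
  apply Phi_injective
  apply bdOne_injective
  exact (slReindex (idxEquiv m)).injective hxy

theorem card_Wr {ι : Type*} [Fintype ι] {H : Type*} [Group H] :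
    Nat.card (Wr ι H) = Nat.card H ^ Fintype.card ι * Nat.card (Equiv.Perm ι) := by
  have h2 : Nat.card (Wr ι H) = Nat.card (ι → H) * Nat.card (Equiv.Perm ι) :=
    SemidirectProduct.card
  have h3 : Nat.card (ι → H) = Nat.card H ^ Nat.card ι := Nat.card_fun
  have h4 : Nat.card ι = Fintype.card ι := Nat.card_eq_fintype_card
  rw [h2, h3, h4]

theorem v2_Wr (n m : ℕ) :
    padicValNat 2 (Nat.card (Wr (Fin m) (GL (Fin n) F)))
      = m * padicValNat 2 (Nat.card (GL (Fin n) F)) + padicValNat 2 m.factorial := by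
  rw [card_Wr, Fintype.card_fin, Nat.card_perm, Nat.card_fin,
    padicValNat.mul (pow_ne_zero _ Nat.card_pos.ne') (Nat.factorial_ne_zero m), padicValNat.pow]

theorem v2_emb (hodd : Odd (Fintype.card F)) (m : ℕ) :
    (Nat.card (Wr (Fin m) (GL (Fin 2) F))).factorization 2
      = (Nat.card (Matrix.SpecialLinearGroup (Fin (2 * m + 1)) F)).factorization 2 := by
  have hq3 : 3 ≤ Fintype.card F := by
    have hq1 : 1 < Fintype.card F := Fintype.one_lt_card
    rcases hodd with ⟨k, hk⟩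
    omega
  rw [Nat.factorization_def _ Nat.prime_two, Nat.factorization_def _ Nat.prime_two, v2_Wr]
  have h1 := v2_card_GL hodd (2 * 1)
  rw [v2_sum_even _ hq3 hodd 1] at h1
  have h2 := v2_card_GL hodd (2 * m + 1)
  rw [v2_sum_odd _ hq3 hodd m, Cfsg.Agent.S0265.card_gl_eq (2 * m + 1) (by omega),
    padicValNat.mul (by omega) Nat.card_pos.ne'] at h2
  rw [mul_one] at h1
  rw [h1]
  simp only [Nat.factorial_one, padicValNat.one, add_zero, one_mul]
  omega

theorem EA2_SL_odd (hodd : Odd (Fintype.card F)) (h4 : Fintype.card F % 4 = 3) (m : ℕ) :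
    EA2 (Matrix.SpecialLinearGroup (Fin (2 * m + 1)) F) := by
  classical
  haveI : Finite (Wr (Fin m) (GL (Fin 2) F)) := Cfsg.Agent.S2250.finite_Wr
  have h1 : EA2 (Wr (Fin m) (GL (Fin 2) F)) := EA2_wr (EA2_GL2 hodd h4) (EA2_perm m)
  exact EA2_of_injective (emb m) (emb_injective m) (v2_emb hodd m) h1

end Final

/-- Let F be a finite field of odd order q with 4 dividing q + 1, and m ≥ 1. Then a Sylow 2-subgroup P of SL_{2m+1}(F) has P/P' elementary abelian: the square of every element of P lies in the derived subgroup of P. -/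
theorem result {F : Type*} [Field F] [Fintype F] (hF : Odd (Fintype.card F)) (hq : 4 ∣ Fintype.card F + 1) (m : ℕ) (hm : 1 ≤ m) (P : Sylow 2 (Matrix.SpecialLinearGroup (Fin (2 * m + 1)) F)) :
    ∀ x : (P : Subgroup (Matrix.SpecialLinearGroup (Fin (2 * m + 1)) F)), x ^ 2 ∈ commutator (P : Subgroup (Matrix.SpecialLinearGroup (Fin (2 * m + 1)) F)) := by
  intro x
  apply mem_commutator_subtype
  have h4 : Fintype.card F % 4 = 3 := by omega
  have h := EA2_all (EA2_SL_odd hF h4 m) P x.1 x.2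
  simpa using h

end Cfsg.Agent.S4628
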