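import Cfsg.Statements.S2249
import Mathlib
import Cfsg.Agent.S2250
import Cfsg.Agent.S4628

set_option autoImplicit false
open Cfsg

namespace Cfsg.Agent.S2249

open Cfsg.Agent.S4010

universe u

section Bound
variable {F : Type*} [Field F] {E : Type*} [Group E] [Finite E]

theorem ea_bound_gl (h2 : (2 : F) ≠ 0) :
    ∀ d : ℕ, ∀ (V : Type u) [AddCommGroup V] [Module F V] [FiniteDimensional F V],
      Module.finrank F V = d →
      ∀ ρ : E →* Module.End F V, (∀ e, ρ e * ρ e = 1) → (∀ e e', ρ e * ρ e' = ρ e' * ρ e) →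
        ρ.ker.index ≤ 2 ^ d := by
  intro d
  induction d using Nat.strong_induction_on with
  | _ d ih =>
    intro V _ _ _ hV ρ hsq hcomm
    by_cases hcase : ∀ e, ρ e = 1 ∨ ρ e = -1
    · -- the scalar case
      by_cases hker : ρ.ker = ⊤
      · rw [hker, Subgroup.index_top]
        exact Nat.one_le_two_pow
      · obtain ⟨e₀, he₀⟩ : ∃ e₀, e₀ ∉ ρ.ker := by
          by_contra hcon
          push Not at hcon
          exact hker (eq_top_iff.2 fun g _ => hcon g)
        have he₀' : ρ e₀ = -1 := by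
          rcases hcase e₀ with h | h
          · exact absurd (MonoidHom.mem_ker.2 h) he₀
          · exact h
        haveI : Nontrivial V := by
          by_contra hV'
          rw [not_nontrivial_iff_subsingleton] at hV'
          apply he₀
          rw [MonoidHom.mem_ker]
          apply LinearMap.ext
          intro v
          exact Subsingleton.elim _ _
        have hd2 : 1 ≤ d := hV ▸ Module.finrank_pos
        have hinv : ρ e₀⁻¹ = -1 := by
          have h1 : ρ e₀⁻¹ * ρ e₀ = 1 := by rw [← map_mul, inv_mul_cancel, map_one]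
          rw [he₀'] at h1
          have : ρ e₀⁻¹ = -(ρ e₀⁻¹ * -1) := by rw [mul_neg, mul_one, neg_neg]
          rw [this, h1]
        have hidx : ρ.ker.index ≤ 2 := by
          have hsurj : Function.Surjective
              (fun i : Fin 2 => if i = 0 then (1 : E ⧸ ρ.ker) else (e₀ : E ⧸ ρ.ker)) := by
            intro x
            obtain ⟨e, rfl⟩ := QuotientGroup.mk_surjective x
            rcases hcase e with h | h
            · refine ⟨0, ?_⟩
              simp only [if_true]
              exact ((QuotientGroup.eq_one_iff e).2 (MonoidHom.mem_ker.2 h)).symm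
            · refine ⟨1, ?_⟩
              simp only [Fin.isValue, one_ne_zero, if_false]
              rw [QuotientGroup.eq, MonoidHom.mem_ker, map_mul, hinv, h, neg_mul_neg, one_mul]
          have := Nat.card_le_card_of_surjective _ hsurj
          rw [Nat.card_fin] at this
          exact this
        calc ρ.ker.index ≤ 2 := hidx
          _ = 2 ^ 1 := (pow_one 2).symm
          _ ≤ 2 ^ d := Nat.pow_le_pow_right (by norm_num) hd2
    · push Not at hcase
      obtain ⟨a, ha1, ha2⟩ := hcase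
      obtain ⟨A, hA⟩ : ∃ A, A = ρ a := ⟨_, rfl⟩
      rw [← hA] at ha1 ha2
      have hAA : A * A = 1 := hA ▸ hsq a
      have hAAv : ∀ v, A (A v) = v := by
        intro v
        have := congrArg (fun f : Module.End F V => f v) hAA
        simpa using this
      have hAcomm : ∀ e, ρ e * A = A * ρ e := fun e => hA ▸ hcomm e a
      -- the eigenspaces
      obtain ⟨Vp, hVp⟩ : ∃ Vp, Vp = LinearMap.ker (A - 1) := ⟨_, rfl⟩
      obtain ⟨Vm, hVm⟩ : ∃ Vm, Vm = LinearMap.ker (A + 1) := ⟨_, rfl⟩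
      have memp : ∀ v, v ∈ Vp ↔ A v = v := by
        intro v
        rw [hVp, LinearMap.mem_ker, LinearMap.sub_apply, Module.End.one_apply, sub_eq_zero]
      have memm : ∀ v, v ∈ Vm ↔ A v = -v := by
        intro v
        rw [hVm, LinearMap.mem_ker, LinearMap.add_apply, Module.End.one_apply,
          add_eq_zero_iff_eq_neg]
      have hdec : ∀ v : V, ∃ x ∈ Vp, ∃ y ∈ Vm, x + y = v := by
        intro v
        refine ⟨(2 : F)⁻¹ • (v + A v), ?_, (2 : F)⁻¹ • (v - A v), ?_, ?_⟩
        · rw [memp, map_smul, map_add, hAAv, add_comm]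
        · rw [memm, map_smul, map_sub, hAAv, ← smul_neg, neg_sub]
        · rw [← smul_add, add_add_sub_cancel, ← two_smul F v, smul_smul, inv_mul_cancel₀ h2,
            one_smul]
      have hcompl : IsCompl Vp Vm := by
        constructor
        · rw [Submodule.disjoint_def]
          intro v hp hm
          rw [memp] at hp
          rw [memm] at hm
          have h3 : (2 : F) • v = 0 := by
            rw [two_smul]
            nth_rewrite 1 [← hp]
            rw [hm, neg_add_cancel]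
          rcases smul_eq_zero.1 h3 with h | h
          · exact absurd h h2
          · exact h
        · rw [codisjoint_iff, eq_top_iff]
          intro v _
          obtain ⟨x, hx, y, hy, rfl⟩ := hdec v
          exact Submodule.add_mem_sup hx hy
      have hVpt : Vp ≠ ⊤ := by
        intro e
        apply ha1
        apply LinearMap.ext
        intro v
        have : v ∈ Vp := e ▸ Submodule.mem_top
        rw [memp] at this
        rw [this, Module.End.one_apply]
      have hVmt : Vm ≠ ⊤ := by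
        intro e
        apply ha2
        apply LinearMap.ext
        intro v
        have : v ∈ Vm := e ▸ Submodule.mem_top
        rw [memm] at this
        rw [this, LinearMap.neg_apply, Module.End.one_apply]
      have hdp : Module.finrank F Vp < d := hV ▸ Submodule.finrank_lt hVpt
      have hdm : Module.finrank F Vm < d := hV ▸ Submodule.finrank_lt hVmt
      have hsum : Module.finrank F Vp + Module.finrank F Vm = d :=
        hV ▸ Submodule.finrank_add_eq_of_isCompl hcompl
      -- invariance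
      have hinvp : ∀ e, Vp ≤ Vp.comap (ρ e) := by
        intro e v hv
        rw [Submodule.mem_comap, memp]
        rw [memp] at hv
        have := congrArg (fun f : Module.End F V => f v) (hAcomm e)
        simp only [Module.End.mul_apply] at this
        rw [← this, hv]
      have hinvm : ∀ e, Vm ≤ Vm.comap (ρ e) := by
        intro e v hv
        rw [Submodule.mem_comap, memm]
        rw [memm] at hv
        have := congrArg (fun f : Module.End F V => f v) (hAcomm e)
        simp only [Module.End.mul_apply] at this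
        rw [← this, hv, map_neg]
      have ip := ih _ hdp Vp rfl
        (resRep ρ Vp hinvp)
        (fun e => by
          apply LinearMap.ext
          intro w
          apply Subtype.ext
          have := congrArg (fun f : Module.End F V => f w.1) (hsq e)
          simpa [resRep_apply] using this)
        (fun e e' => by
          apply LinearMap.ext
          intro w
          apply Subtype.ext
          have := congrArg (fun f : Module.End F V => f w.1) (hcomm e e')
          simpa [resRep_apply] using this)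
      have im := ih _ hdm Vm rfl
        (resRep ρ Vm hinvm)
        (fun e => by
          apply LinearMap.ext
          intro w
          apply Subtype.ext
          have := congrArg (fun f : Module.End F V => f w.1) (hsq e)
          simpa [resRep_apply] using this)
        (fun e e' => by
          apply LinearMap.ext
          intro w
          apply Subtype.ext
          have := congrArg (fun f : Module.End F V => f w.1) (hcomm e e')
          simpa [resRep_apply] using this)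
      have hle : (resRep ρ Vp hinvp).ker ⊓ (resRep ρ Vm hinvm).ker ≤ ρ.ker := by
        intro e he
        obtain ⟨h1, h2'⟩ := Subgroup.mem_inf.1 he
        rw [MonoidHom.mem_ker] at h1 h2' ⊢
        apply LinearMap.ext
        intro u
        obtain ⟨x, hx, y, hy, rfl⟩ := hdec u
        have e1 : ρ e x = x := by
          have := congrArg (fun f : Module.End F Vp => ((f ⟨x, hx⟩ : Vp) : V)) h1
          simpa [resRep_apply] using this
        have e2 : ρ e y = y := by
          have := congrArg (fun f : Module.End F Vm => ((f ⟨y, hy⟩ : Vm) : V)) h2'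
          simpa [resRep_apply] using this
        rw [map_add, e1, e2, Module.End.one_apply]
      have h5 : ρ.ker.index ≤ ((resRep ρ Vp hinvp).ker ⊓ (resRep ρ Vm hinvm).ker).index :=
        Nat.le_of_dvd (Nat.pos_of_ne_zero Subgroup.index_ne_zero_of_finite)
          (Subgroup.index_dvd_of_le hle)
      have h6 := Subgroup.index_inf_le (H := (resRep ρ Vp hinvp).ker) (K := (resRep ρ Vm hinvm).ker)
      calc ρ.ker.index ≤ _ := h5
        _ ≤ _ := h6
        _ ≤ 2 ^ (Module.finrank F Vp) * 2 ^ (Module.finrank F Vm) :=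
            Nat.mul_le_mul ip im
        _ = 2 ^ (Module.finrank F Vp + Module.finrank F Vm) := (pow_add _ _ _).symm
        _ = 2 ^ d := by rw [hsum]

end Bound

section Upper
variable {F : Type*} [Field F] [Fintype F] {n : ℕ}

/-- the natural representation -/
noncomputable def vecRepGL (E : Subgroup (Matrix.GeneralLinearGroup (Fin n) F)) :
    E →* Module.End F (Fin n → F) :=
  (Matrix.toLinAlgEquiv' (R := F) (n := Fin n)).toRingEquiv.toRingHom.toMonoidHom.comp
    ((Units.coeHom _).comp E.subtype)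

theorem vecRepGL_injective (E : Subgroup (Matrix.GeneralLinearGroup (Fin n) F)) :
    Function.Injective (vecRepGL E) := by
  intro g h hgh
  apply Subtype.ext
  apply Units.ext
  exact (Matrix.toLinAlgEquiv' (R := F) (n := Fin n)).injective hgh

theorem card_le_of_elemAb_gl (h2 : (2 : F) ≠ 0) (E : Subgroup (Matrix.GeneralLinearGroup (Fin n) F))
    (hE : Cfsg.IsElementaryAbelian 2 E) : Nat.card E ≤ 2 ^ n := by
  classical
  have hfin : Module.finrank F (Fin n → F) = n := by
    rw [Module.finrank_fintype_fun_eq_card, Fintype.card_fin]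
  have hker : (vecRepGL E).ker = ⊥ := (MonoidHom.ker_eq_bot_iff _).2 (vecRepGL_injective E)
  have key := ea_bound_gl (E := E) h2 n (Fin n → F) hfin
    (vecRepGL E)
    (fun e => by
      rw [← map_mul]
      have : e * e = 1 := by
        apply Subtype.ext
        have := hE.2 e.1 e.2
        rw [pow_two] at this
        exact this
      rw [this, map_one])
    (fun e e' => by
      rw [← map_mul, ← map_mul]
      congr 1
      exact hE.1.is_comm.comm e e')
  rw [hker, Subgroup.index_bot] at key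
  exact key

end Upper

open Cfsg.Agent.S4624 Cfsg.Agent.Helper4.Wreath Cfsg.Agent.Helper4.EAK

section Signs
variable {ι : Type*} {H : Type*} [Group H]

/-- the sign subgroup of the wreath product attached to a central involution -/
def sgPiG (z : ℤˣ →* H) : (ι → ℤˣ) →* Wr ι H where
  toFun ε := SemidirectProduct.inl (fun i => z (ε i))
  map_one' := by
    rw [← map_one (SemidirectProduct.inl)]
    congr 1
    funext i
    simp
  map_mul' ε ε' := by
    rw [← map_mul (SemidirectProduct.inl)]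
    congr 1
    funext i
    simp

theorem sgPiG_injective (z : ℤˣ →* H) (hz : Function.Injective z) :
    Function.Injective (sgPiG (ι := ι) z) := by
  intro ε ε' h
  have h1 := SemidirectProduct.inl_injective h
  funext i
  exact hz (congrFun h1 i)

theorem sgPiG_normal (z : ℤˣ →* H) (hc : ∀ u a, a * z u = z u * a) :
    ((sgPiG (ι := ι) z).range).Normal := by
  constructor
  rintro _ ⟨ε, rfl⟩ w
  refine ⟨fun i => ε (w.right.symm i), ?_⟩
  apply SemidirectProduct.ext
  · funext i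
    have hr : (sgPiG (ι := ι) z ε).right = 1 := rfl
    have hl : (sgPiG (ι := ι) z ε).left = fun i => z (ε i) := rfl
    show z (ε (w.right.symm i)) = (w * sgPiG z ε * w⁻¹).left i
    simp only [SemidirectProduct.mul_left, SemidirectProduct.inv_left, Pi.mul_apply,
      permAut_apply, SemidirectProduct.mul_right, hr, hl, mul_one, Pi.inv_apply,
      Equiv.Perm.inv_def, Equiv.symm_symm, Equiv.apply_symm_apply]
    rw [hc, mul_assoc, mul_inv_cancel, mul_one]
  · show (1 : Equiv.Perm ι) = (w * sgPiG z ε * w⁻¹).right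
    rw [SemidirectProduct.mul_right, SemidirectProduct.mul_right, SemidirectProduct.inv_right]
    have : (sgPiG (ι := ι) z ε).right = 1 := rfl
    rw [this, mul_one, mul_inv_cancel]

theorem sgPiG_elemAb (z : ℤˣ →* H) : Cfsg.IsElementaryAbelian 2 (sgPiG (ι := ι) z).range := by
  constructor
  · constructor
    constructor
    rintro ⟨_, ⟨ε, rfl⟩⟩ ⟨_, ⟨ε', rfl⟩⟩
    apply Subtype.ext
    show sgPiG z ε * sgPiG z ε' = sgPiG z ε' * sgPiG z ε
    rw [← map_mul, ← map_mul, mul_comm]
  · rintro _ ⟨ε, rfl⟩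
    rw [← map_pow]
    have : ε ^ 2 = 1 := by
      funext i
      rw [Pi.pow_apply, Pi.one_apply, Int.units_sq]
    rw [this, map_one]

theorem sgPiG_card [Fintype ι] (z : ℤˣ →* H) (hz : Function.Injective z) :
    Nat.card (sgPiG (ι := ι) z).range = 2 ^ Fintype.card ι := by
  rw [Nat.card_congr (MonoidHom.ofInjective (sgPiG_injective z hz)).toEquiv.symm, Nat.card_fun,
    Nat.card_eq_fintype_card, Nat.card_eq_fintype_card, Fintype.card_units_int]

end Signs

section TransportBack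

theorem transport_back {X Y : Type*} [Group X] [Group Y] (Φ : X →* Y) (hΦ : Function.Injective Φ)
    (S₀ : Subgroup X) (E : Subgroup ↥(S₀.map Φ)) (hn : E.Normal)
    (hE : Cfsg.IsElementaryAbelian 2 E) :
    ∃ E₀ : Subgroup X, E₀ ≤ S₀ ∧ (∀ s ∈ S₀, ∀ e ∈ E₀, s * e * s⁻¹ ∈ E₀) ∧
      (∀ a ∈ E₀, ∀ b ∈ E₀, a * b = b * a) ∧ (∀ a ∈ E₀, a ^ 2 = 1) ∧
      Nat.card E₀ = Nat.card E := by
  obtain ⟨E', hE'⟩ : ∃ E', E' = E.map (S₀.map Φ).subtype := ⟨_, rfl⟩
  have hmem : ∀ y, y ∈ E' ↔ ∃ h : y ∈ S₀.map Φ, (⟨y, h⟩ : ↥(S₀.map Φ)) ∈ E := by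
    intro y
    rw [hE']
    constructor
    · rintro ⟨⟨y', hy'⟩, hyE, rfl⟩
      exact ⟨hy', hyE⟩
    · rintro ⟨h, hyE⟩
      exact ⟨⟨y, h⟩, hyE, rfl⟩
  have hle' : E' ≤ S₀.map Φ := fun y hy => ((hmem y).1 hy).1
  refine ⟨E'.comap Φ, ?_, ?_, ?_, ?_, ?_⟩
  · intro x hx
    rw [Subgroup.mem_comap] at hx
    obtain ⟨s, hs, hsx⟩ := hle' hx
    rwa [← hΦ hsx]
  · intro s hs e he
    rw [Subgroup.mem_comap] at he ⊢
    obtain ⟨h, heE⟩ := (hmem _).1 he
    have hs' : Φ s ∈ S₀.map Φ := ⟨s, hs, rfl⟩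
    have := hn.conj_mem _ heE ⟨Φ s, hs'⟩
    rw [hmem]
    refine ⟨?_, ?_⟩
    · rw [map_mul, map_mul, map_inv]
      exact Subgroup.mul_mem _ (Subgroup.mul_mem _ hs' h) (Subgroup.inv_mem _ hs')
    · convert this using 1
      apply Subtype.ext
      simp
  · intro a ha b hb
    rw [Subgroup.mem_comap] at ha hb
    obtain ⟨h1, haE⟩ := (hmem _).1 ha
    obtain ⟨h2, hbE⟩ := (hmem _).1 hb
    apply hΦ
    rw [map_mul, map_mul]
    have := hE.1.is_comm.comm (⟨_, haE⟩ : E) ⟨_, hbE⟩
    have h3 := congrArg (fun x : E => ((x : ↥(S₀.map Φ)) : Y)) this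
    exact h3
  · intro a ha
    rw [Subgroup.mem_comap] at ha
    obtain ⟨h1, haE⟩ := (hmem _).1 ha
    apply hΦ
    rw [map_pow, map_one]
    have := hE.2 _ haE
    have h3 := congrArg (fun x : ↥(S₀.map Φ) => (x : Y)) this
    exact h3
  · have h1 : (E'.comap Φ).map Φ = E' := by
      apply Subgroup.map_comap_eq_self
      intro y hy
      obtain ⟨s, _, hsx⟩ := hle' hy
      exact ⟨s, hsx⟩
    rw [← Subgroup.card_map_of_injective hΦ, h1, hE',
      Subgroup.card_map_of_injective (Subgroup.subtype_injective _)]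

theorem card_le_prod {X₁ X₂ : Type*} [Group X₁] [Group X₂] [Finite X₁] [Finite X₂]
    (E₀ : Subgroup (X₁ × X₂)) :
    Nat.card E₀ ≤ Nat.card (E₀.map (MonoidHom.fst X₁ X₂))
      * Nat.card (E₀.map (MonoidHom.snd X₁ X₂)) := by
  rw [← Nat.card_prod]
  apply Nat.card_le_card_of_injective
    (fun e : E₀ => ((⟨e.1.1, ⟨e.1, e.2, rfl⟩⟩ : E₀.map (MonoidHom.fst X₁ X₂)),
      (⟨e.1.2, ⟨e.1, e.2, rfl⟩⟩ : E₀.map (MonoidHom.snd X₁ X₂))))
  intro e e' h
  have h1 := congrArg (fun p => (p.1 : X₁)) h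
  have h2 := congrArg (fun p => (p.2 : X₂)) h
  apply Subtype.ext
  exact Prod.ext h1 h2

end TransportBack

section LemmaU
variable {ι : Type*} [DecidableEq ι] [Fintype ι] {H : Type*} [Group H]

theorem conj_single (w : Wr ι H) (j : ι) (h : H) :
    w * single j h * w⁻¹
      = single (w.right j) (w.left (w.right j) * h * (w.left (w.right j))⁻¹) := by
  apply SemidirectProduct.ext
  · funext i
    simp only [SemidirectProduct.mul_left, SemidirectProduct.inv_left, Pi.mul_apply,
      permAut_apply, SemidirectProduct.mul_right, single_right, single_left, mul_one,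
      Pi.inv_apply, Equiv.Perm.inv_def, Equiv.symm_symm, Equiv.apply_symm_apply]
    by_cases hi : i = w.right j
    · subst hi
      rw [Equiv.symm_apply_apply, Pi.mulSingle_eq_same, Pi.mulSingle_eq_same]
    · have : w.right.symm i ≠ j := by
        intro e
        apply hi
        rw [← e, Equiv.apply_symm_apply]
      rw [Pi.mulSingle_eq_of_ne this, Pi.mulSingle_eq_of_ne hi, mul_one, mul_inv_cancel]
  · rw [SemidirectProduct.mul_right, SemidirectProduct.mul_right, SemidirectProduct.inv_right,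
      single_right, single_right, mul_one, mul_inv_cancel]

variable (Q Z : Subgroup H) (T : Subgroup (Equiv.Perm ι))
  (hQ1 : ∃ x₀ ∈ Q, x₀ ^ 2 ≠ 1)
  (hQ2 : ∀ t ∈ Q, t ^ 2 = 1 → (∀ x ∈ Q, Commute (x * t * x⁻¹) t) → t ∈ Z)
  (E₁ : Subgroup (Wr ι H)) (hle : E₁ ≤ wrSub Q T)
  (hnorm : ∀ w ∈ wrSub Q T, ∀ e ∈ E₁, w * e * w⁻¹ ∈ E₁)
  (hcomm : ∀ a ∈ E₁, ∀ b ∈ E₁, a * b = b * a) (hsq : ∀ a ∈ E₁, a ^ 2 = 1)

include hQ1 hnorm hsq in
theorem right_eq_one_of_mem (e : Wr ι H) (he : e ∈ E₁) : e.right = 1 := by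
  by_contra hne
  obtain ⟨j, hj⟩ : ∃ j, e.right j ≠ j := by
    by_contra hcon
    push Not at hcon
    exact hne (Equiv.ext hcon)
  obtain ⟨x₀, hx₀, hx₀2⟩ := hQ1
  have hs : single j x₀ ∈ wrSub Q T := single_mem_wrSub Q T j hx₀
  have hc : single j x₀ * e * (single j x₀)⁻¹ * e⁻¹ ∈ E₁ :=
    E₁.mul_mem (hnorm _ hs e he) (E₁.inv_mem he)
  have e1 : single j x₀ * e * (single j x₀)⁻¹ * e⁻¹
      = single j x₀ * (e * single j x₀⁻¹ * e⁻¹) := by
    rw [map_inv]
    group
  rw [e1, conj_single] at hc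
  have h2 := hsq _ hc
  have h3 := congrArg (fun w : Wr ι H => w.left j) h2
  simp only [pow_two, SemidirectProduct.mul_left, SemidirectProduct.mul_right, single_right,
    single_left, mul_one, map_one, MulAut.one_apply, Pi.mul_apply, Pi.mulSingle_eq_same,
    Pi.mulSingle_eq_of_ne (Ne.symm hj), SemidirectProduct.one_left, Pi.one_apply] at h3
  apply hx₀2
  rw [pow_two]
  exact h3

include hQ1 hQ2 hle hnorm hcomm hsq in
theorem left_mem_of_mem (e : Wr ι H) (he : e ∈ E₁) (i : ι) : e.left i ∈ Z := by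
  have hr := right_eq_one_of_mem Q T hQ1 E₁ hnorm hsq e he
  have hrr : ∀ e' ∈ E₁, e'.right = 1 := right_eq_one_of_mem Q T hQ1 E₁ hnorm hsq
  apply hQ2
  · exact (hle he).1 i
  · have h2 := hsq e he
    have h3 := congrArg (fun w : Wr ι H => w.left i) h2
    simp only [pow_two, SemidirectProduct.mul_left, hr, map_one, MulAut.one_apply, Pi.mul_apply,
      SemidirectProduct.one_left, Pi.one_apply] at h3
    rw [pow_two]
    exact h3
  · intro x hx
    have hs : single i x ∈ wrSub Q T := single_mem_wrSub Q T i hx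
    have hc := hnorm _ hs e he
    have h2 := hcomm _ hc e he
    have h3 := congrArg (fun w : Wr ι H => w.left i) h2
    simp only [SemidirectProduct.mul_left, SemidirectProduct.mul_right, SemidirectProduct.inv_left,
      SemidirectProduct.inv_right, single_right, single_left, hr, mul_one, map_one, inv_one,
      MulAut.one_apply, Pi.mul_apply, Pi.inv_apply, Pi.mulSingle_eq_same] at h3
    exact h3

include hQ1 hQ2 hle hnorm hcomm hsq in
theorem lemmaU [Finite H] : Nat.card E₁ ≤ Nat.card Z ^ Fintype.card ι := by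
  have hrr : ∀ e' ∈ E₁, e'.right = 1 := right_eq_one_of_mem Q T hQ1 E₁ hnorm hsq
  have hll := left_mem_of_mem Q Z T hQ1 hQ2 E₁ hle hnorm hcomm hsq
  have h1 : Nat.card (ι → Z) = Nat.card Z ^ Fintype.card ι := by
    rw [Nat.card_fun, Nat.card_eq_fintype_card (α := ι)]
  rw [← h1]
  apply Nat.card_le_card_of_injective (fun e : E₁ => fun i => (⟨e.1.left i, hll e.1 e.2 i⟩ : Z))
  intro e e' h
  apply Subtype.ext
  apply SemidirectProduct.ext
  · funext i
    have := congrFun h i
    exact congrArg Subtype.val this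
  · rw [hrr e.1 e.2, hrr e'.1 e'.2]

end LemmaU

open Cfsg.Agent.S4624 Cfsg.Agent.Helper4.Wreath Cfsg.Agent.Helper4.EAK
open Cfsg.Agent.Helper4.GLWreath Cfsg.Agent.Helper4.GLUtil Cfsg.Agent.Helper4.GLOrders
open Matrix

section ZGL
variable {F : Type*} [Field F] (κ : Type*) [Fintype κ] [DecidableEq κ]

/-- scalar signs -/
def zGL : ℤˣ →* GL κ F :=
  (Units.map (Matrix.scalar κ : F →+* Matrix κ κ F).toMonoidHom).comp
    (Units.map (Int.castRingHom F).toMonoidHom)

theorem zGL_coe (u : ℤˣ) :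
    ((zGL (F := F) κ u : GL κ F) : Matrix κ κ F) = Matrix.scalar κ (((u : ℤ) : F)) := rfl

theorem zGL_central (u : ℤˣ) (a : GL κ F) : a * zGL κ u = zGL κ u * a := by
  apply Units.ext
  rw [Units.val_mul, Units.val_mul, zGL_coe]
  exact ((Matrix.scalar_commute _ (fun r' => Commute.all _ r') _).eq).symm

theorem zGL_injective [Nonempty κ] (h2 : (2 : F) ≠ 0) : Function.Injective (zGL (F := F) κ) := by
  rw [injective_iff_map_eq_one]
  intro u hu
  rcases Int.units_eq_one_or u with h | h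
  · exact h
  · exfalso
    obtain ⟨k⟩ := ‹Nonempty κ›
    have h1 := congrArg (fun m : GL κ F => (m : Matrix κ κ F) k k) hu
    rw [h] at h1
    simp only [zGL_coe, Units.val_one, Matrix.one_apply_eq] at h1
    rw [Matrix.scalar_apply, Matrix.diagonal_apply_eq] at h1
    apply h2
    have : (-1 : F) = 1 := by simpa using h1
    linear_combination -this

end ZGL

section Orders
variable (q : ℕ) (hq3 : 3 ≤ q) (hodd : Odd q)

include hq3 hodd in
theorem v2_term1 (h4 : q % 4 = 1) (j : ℕ) :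
    padicValNat 2 (q ^ (j + 1) - 1) = padicValNat 2 (q - 1) + padicValNat 2 (j + 1) := by
  have h2q : ¬ 2 ∣ q := by
    rw [Nat.two_dvd_ne_zero]
    exact Nat.odd_iff.1 hodd
  rcases Nat.even_or_odd (j + 1) with he | ho
  · have h1 := padicValNat.pow_two_sub_one (x := q) (n := j + 1) (by omega) h2q (by omega) he
    rw [v2_of_mod4 (q + 1) (by omega)] at h1
    omega
  · rw [v2_odd_pow q hq3 hodd (j + 1) ho]
    have : ¬ 2 ∣ j + 1 := by
      rw [Nat.two_dvd_ne_zero]
      exact Nat.odd_iff.1 ho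
    rw [padicValNat.eq_zero_of_not_dvd this, add_zero]

include hq3 hodd in
theorem v2_sum1 (h4 : q % 4 = 1) (n : ℕ) :
    ∑ j ∈ Finset.range n, padicValNat 2 (q ^ (j + 1) - 1)
      = n * padicValNat 2 (q - 1) + padicValNat 2 n.factorial := by
  induction n with
  | zero => simp
  | succ n ih =>
    rw [Finset.sum_range_succ, ih, v2_term1 q hq3 hodd h4 n, Nat.factorial_succ,
      padicValNat.mul (by omega) (Nat.factorial_ne_zero n)]
    ring

end Orders

section Conj

theorem exists_conj_gen {X G : Type*} [Group X] [Group G] [Finite G] (Φ : X →* G)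
    (hΦ : Function.Injective Φ) (S₀ : Subgroup X)
    (hcard : Nat.card S₀ = 2 ^ (Nat.card G).factorization 2) (S : Sylow 2 G) :
    ∃ g : G, (S : Subgroup G) = S₀.map ((MulAut.conj g).toMonoidHom.comp Φ) := by
  have hcard' : Nat.card (S₀.map Φ) = 2 ^ (Nat.card G).factorization 2 := by
    rw [Subgroup.card_map_of_injective hΦ, hcard]
  obtain ⟨g, hg⟩ := MulAction.exists_smul_eq G (Sylow.ofCard _ hcard') S
  refine ⟨g, ?_⟩
  rw [← hg, Sylow.coe_subgroup_smul, ← Subgroup.map_map]
  rfl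

end Conj

section CaseOne
variable {F : Type*} [Field F] [Fintype F]

theorem upper_gl (h2 : (2 : F) ≠ 0) {n : ℕ} (S : Subgroup (GL (Fin n) F)) (E : Subgroup ↥S)
    (hE : Cfsg.IsElementaryAbelian 2 E) : Nat.card E ≤ 2 ^ n := by
  have hE' : Cfsg.IsElementaryAbelian 2 (E.map S.subtype) := by
    constructor
    · constructor
      constructor
      rintro ⟨_, ⟨a, ha, rfl⟩⟩ ⟨_, ⟨b, hb, rfl⟩⟩
      apply Subtype.ext
      show (a : GL (Fin n) F) * b = b * a
      have := hE.1.is_comm.comm (⟨a, ha⟩ : E) ⟨b, hb⟩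
      have h3 := congrArg (fun x : E => ((x : S) : GL (Fin n) F)) this
      exact h3
    · rintro _ ⟨a, ha, rfl⟩
      have := hE.2 a ha
      have h3 := congrArg (fun x : S => (x : GL (Fin n) F)) this
      exact h3
  have := card_le_of_elemAb_gl h2 _ hE'
  rwa [Subgroup.card_map_of_injective (Subgroup.subtype_injective _)] at this

/-- the monomial embedding -/
def emb1 (n : ℕ) : Wr (Fin n) (GL (Fin 1) F) →* GL (Fin n) F :=
  (glReindex (Equiv.uniqueProd (Fin n) (Fin 1))).toMonoidHom.comp Phi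

theorem emb1_injective (n : ℕ) : Function.Injective (emb1 (F := F) n) := by
  intro x y hxy
  apply Phi_injective
  exact (glReindex (Equiv.uniqueProd (Fin n) (Fin 1))).injective hxy

theorem v2_emb1 (hodd : Odd (Fintype.card F)) (h4 : Fintype.card F % 4 = 1) (n : ℕ) :
    (Nat.card (Wr (Fin n) (GL (Fin 1) F))).factorization 2
      = (Nat.card (GL (Fin n) F)).factorization 2 := by
  have hq3 : 3 ≤ Fintype.card F := by
    have hq1 : 1 < Fintype.card F := Fintype.one_lt_card
    rcases hodd with ⟨k, hk⟩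
    omega
  rw [Nat.factorization_def _ Nat.prime_two, Nat.factorization_def _ Nat.prime_two,
    Cfsg.Agent.S4628.v2_Wr, v2_card_GL hodd n, v2_card_GL hodd 1, v2_sum1 _ hq3 hodd h4 n]
  simp

theorem exists_case1 (hodd : Odd (Fintype.card F)) (h4 : Fintype.card F % 4 = 1) (n : ℕ)
    (S : Sylow 2 (GL (Fin n) F)) :
    ∃ E : Subgroup ↥(S : Subgroup (GL (Fin n) F)), E.Normal ∧ Cfsg.IsElementaryAbelian 2 E ∧
      2 ^ n ≤ Nat.card ↥E := by
  classical
  have h2 : (2 : F) ≠ 0 := Cfsg.Agent.S2648.two_ne_zero_of_odd hodd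
  haveI : Finite (Wr (Fin n) (GL (Fin 1) F)) := Cfsg.Agent.S2250.finite_Wr
  obtain ⟨SW⟩ : Nonempty (Sylow 2 (Wr (Fin n) (GL (Fin 1) F))) := inferInstance
  have hcard : Nat.card (SW : Subgroup (Wr (Fin n) (GL (Fin 1) F)))
      = 2 ^ (Nat.card (GL (Fin n) F)).factorization 2 := by
    rw [SW.card_eq_multiplicity, v2_emb1 hodd h4 n]
  obtain ⟨g, hg⟩ := exists_conj_gen (emb1 n) (emb1_injective n) _ hcard S
  have hzinj := zGL_injective (F := F) (Fin 1) h2
  have hc : Nat.card (sgPiG (ι := Fin n) (zGL (F := F) (Fin 1))).range = 2 ^ n := by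
    rw [sgPiG_card _ hzinj, Fintype.card_fin]
  have hp : IsPGroup 2 (sgPiG (ι := Fin n) (zGL (F := F) (Fin 1))).range := IsPGroup.of_card hc
  haveI := sgPiG_normal (ι := Fin n) (zGL (F := F) (Fin 1)) (zGL_central (Fin 1))
  have hle := hp.le_sylow_of_normal SW
  obtain ⟨E, hE1, hE2, hE3⟩ := Cfsg.Agent.S2250.transport ((MulAut.conj g).toMonoidHom.comp (emb1 n))
    ((MulAut.conj g).injective.comp (emb1_injective n)) _ _ hle
    (sgPiG_normal _ (zGL_central (Fin 1))) (sgPiG_elemAb _)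
  rw [hg]
  exact ⟨E, hE1, hE2, by rw [hE3, hc]⟩

end CaseOne

open Cfsg.Agent.S4624 Cfsg.Agent.S4628 Cfsg.Agent.Helper4.Wreath Cfsg.Agent.Helper4.EAK
open Cfsg.Agent.Helper4.GLWreath Cfsg.Agent.Helper4.GLUtil Cfsg.Agent.Helper4.GLOrders
open Matrix

section GL2
variable {F : Type*} [Field F] [Fintype F]

local notation "M2" => Matrix (Fin 2) (Fin 2) F

theorem not_isSquare_neg_one (h4 : Fintype.card F % 4 = 3) : ¬ IsSquare (-1 : F) := by
  rw [FiniteField.isSquare_neg_one_iff]
  omega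

/-- involutions of the torus are scalar -/
theorem Tn_invol (h4 : Fintype.card F % 4 = 3) (h2 : (2 : F) ≠ 0) (t : GL (Fin 2) F)
    (ht : t ∈ Tn) (ht2 : t * t = 1) : (t : M2) = 1 ∨ (t : M2) = -1 := by
  obtain ⟨a1, a2⟩ := entries_of_comm (mem_Tn.1 ht)
  have hm : (t : M2) * (t : M2) = 1 := by rw [← Units.val_mul, ht2, Units.val_one]
  have e00 := congrFun (congrFun hm 0) 0
  have e10 := congrFun (congrFun hm 1) 0
  rw [Matrix.mul_apply, Fin.sum_univ_two] at e00 e10
  rw [Matrix.one_apply_eq] at e00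
  rw [Matrix.one_apply_ne (by decide)] at e10
  rw [a2] at e00
  rw [a1] at e10
  have hab : (t : M2) 0 0 * (t : M2) 1 0 = 0 := by
    have : (2 : F) * ((t : M2) 0 0 * (t : M2) 1 0) = 0 := by linear_combination e10
    rcases mul_eq_zero.1 this with h | h
    · exact absurd h h2
    · exact h
  rcases mul_eq_zero.1 hab with ha | hb
  · exfalso
    apply not_isSquare_neg_one h4
    refine ⟨(t : M2) 1 0, ?_⟩
    rw [ha] at e00
    linear_combination e00
  · rw [hb] at e00
    have : ((t : M2) 0 0 - 1) * ((t : M2) 0 0 + 1) = 0 := by linear_combination e00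
    rcases mul_eq_zero.1 this with h | h
    · left
      rw [eq_of_entries a1 a2, hb, sub_eq_zero.1 h]
      ext i j
      fin_cases i <;> fin_cases j <;> simp
    · right
      rw [eq_of_entries a1 a2, hb, eq_neg_of_add_eq_zero_left h]
      ext i j
      fin_cases i <;> fin_cases j <;> simp

/-- the key computation for an involution outside the torus -/
theorem anti_key (h2 : (2 : F) ≠ 0) (t x y : GL (Fin 2) F)
    (ht : (t : M2) * (Jm : M2) = -((Jm : M2) * (t : M2))) (ht2 : t * t = 1)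
    (hx : x ∈ Tn) (hy : y ∈ Tn) (hxy : x * y = 1)
    (hc : x * t * y * t = t * (x * t * y)) :
    (x : M2) 0 0 * (x : M2) 1 0 = 0 := by
  obtain ⟨t1, t2⟩ := entries_of_anti ht
  obtain ⟨x1, x2⟩ := entries_of_comm (mem_Tn.1 hx)
  obtain ⟨y1, y2⟩ := entries_of_comm (mem_Tn.1 hy)
  have hm : (t : M2) * (t : M2) = 1 := by rw [← Units.val_mul, ht2, Units.val_one]
  have hxym : (x : M2) * (y : M2) = 1 := by rw [← Units.val_mul, hxy, Units.val_one]
  have hcm : (x : M2) * (t : M2) * (y : M2) * (t : M2) = (t : M2) * ((x : M2) * (t : M2) * (y : M2)) := by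
    have := congrArg (fun g : GL (Fin 2) F => (g : M2)) hc
    simpa only [Units.val_mul] using this
  have e00 := congrFun (congrFun hm 0) 0
  have f00 := congrFun (congrFun hxym 0) 0
  have f10 := congrFun (congrFun hxym 1) 0
  have g10 := congrFun (congrFun hcm 1) 0
  simp only [Matrix.mul_apply, Fin.sum_univ_two, Matrix.one_apply_eq,
    Matrix.one_apply_ne (show (1 : Fin 2) ≠ 0 by decide), t1, t2, x1, x2, y1, y2] at e00 f00 f10 g10
  obtain ⟨a, ha⟩ : ∃ a, a = (t : M2) 0 0 := ⟨_, rfl⟩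
  obtain ⟨b, hb⟩ : ∃ b, b = (t : M2) 1 0 := ⟨_, rfl⟩
  obtain ⟨c, hc'⟩ : ∃ c, c = (x : M2) 0 0 := ⟨_, rfl⟩
  obtain ⟨d, hd⟩ : ∃ d, d = (x : M2) 1 0 := ⟨_, rfl⟩
  obtain ⟨c', hc''⟩ : ∃ c', c' = (y : M2) 0 0 := ⟨_, rfl⟩
  obtain ⟨d', hd'⟩ : ∃ d', d' = (y : M2) 1 0 := ⟨_, rfl⟩
  rw [← ha, ← hb] at e00 g10
  rw [← hc', ← hd, ← hc'', ← hd'] at f00 f10 g10
  rw [← hc', ← hd]
  -- e00 : a * a + b * b = 1 ; f00 : c * c' + -d * d' = 1 ; f10 : d * c' + c * d' = 0
  have k1 : (2 : F) * (d * c' - c * d') = 0 := by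
    linear_combination g10 - 2 * (d * c' - c * d') * e00
  have k2 : d * c' - c * d' = 0 := by
    rcases mul_eq_zero.1 k1 with h | h
    · exact absurd h h2
    · exact h
  have k3 : (2 : F) * (c * d') = 0 := by linear_combination f10 - k2
  have k4 : c * d' = 0 := by
    rcases mul_eq_zero.1 k3 with h | h
    · exact absurd h h2
    · exact h
  have k5 : d * c' = 0 := by linear_combination k2 + k4
  linear_combination (-(c * d)) * f00 + c ^ 2 * k5 - d ^ 2 * k4

end GL2

open Cfsg.Agent.S4624 Cfsg.Agent.S4628 Cfsg.Agent.Helper4.Wreath Cfsg.Agent.Helper4.EAK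
open Cfsg.Agent.Helper4.GLWreath Cfsg.Agent.Helper4.GLUtil Cfsg.Agent.Helper4.GLOrders
open Matrix

section GL2b
variable {F : Type*} [Field F] [Fintype F]

local notation "M2" => Matrix (Fin 2) (Fin 2) F

/-- the elements of the torus of order dividing four -/
theorem Tn_four (h4 : Fintype.card F % 4 = 3) (x : GL (Fin 2) F) (hx : x ∈ Tn)
    (h0 : (x : M2) 0 0 * (x : M2) 1 0 = 0)
    (hdet : Matrix.det (x : M2) = 1 ∨ Matrix.det (x : M2) = -1) :
    (x : M2) = 1 ∨ (x : M2) = -1 ∨ (x : M2) = Jm ∨ (x : M2) = -Jm := by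
  obtain ⟨a1, a2⟩ := entries_of_comm (mem_Tn.1 hx)
  have hns := not_isSquare_neg_one h4
  rw [Matrix.det_fin_two, a1, a2] at hdet
  obtain ⟨c, hc⟩ : ∃ c, c = (x : M2) 0 0 := ⟨_, rfl⟩
  obtain ⟨d, hd⟩ : ∃ d, d = (x : M2) 1 0 := ⟨_, rfl⟩
  have hx' := eq_of_entries a1 a2
  rw [← hc, ← hd] at hdet h0 hx'
  rcases mul_eq_zero.1 h0 with h | h
  · rw [h] at hdet hx'
    rcases hdet with hdet | hdet
    · have : (d - 1) * (d + 1) = 0 := by linear_combination hdet
      rcases mul_eq_zero.1 this with h' | h'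
      · right; right; left
        rw [hx', sub_eq_zero.1 h']
        rfl
      · right; right; right
        rw [hx', eq_neg_of_add_eq_zero_left h']
        unfold Jm
        ext i j
        fin_cases i <;> fin_cases j <;> simp
    · exfalso
      apply hns
      exact ⟨d, by linear_combination -hdet⟩
  · rw [h] at hdet hx'
    rcases hdet with hdet | hdet
    · have : (c - 1) * (c + 1) = 0 := by linear_combination hdet
      rcases mul_eq_zero.1 this with h' | h'
      · left
        rw [hx', sub_eq_zero.1 h']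
        ext i j
        fin_cases i <;> fin_cases j <;> simp
      · right; left
        rw [hx', eq_neg_of_add_eq_zero_left h']
        ext i j
        fin_cases i <;> fin_cases j <;> simp
    · exfalso
      apply hns
      exact ⟨c, by linear_combination -hdet⟩

/-- determinants of `2`-elements -/
theorem det_two_el (h4 : Fintype.card F % 4 = 3) (x : GL (Fin 2) F) (k : ℕ)
    (hk : x ^ (2 ^ k) = 1) : Matrix.det (x : M2) = 1 ∨ Matrix.det (x : M2) = -1 := by
  have hdet : Matrix.det (x : M2) ^ (2 ^ k) = 1 := by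
    have := congrArg (fun g : GL (Fin 2) F => Matrix.det (g : M2)) hk
    simp only [Units.val_pow_eq_pow_val, Matrix.det_pow, Units.val_one, Matrix.det_one] at this
    exact this
  exact eq_one_or_neg_one h4 _ k hdet

/-- a subgroup of the normalizer meets the torus in a subgroup of index at most two -/
theorem card_le_two_mul (hF : (-1 : F) ≠ 1) (Q : Subgroup (GL (Fin 2) F)) (hQ : Q ≤ Nn) :
    Nat.card Q ≤ 2 * Nat.card ((Tn : Subgroup (GL (Fin 2) F)) ⊓ Q : Subgroup (GL (Fin 2) F)) := by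
  have h1 : (Tn : Subgroup (GL (Fin 2) F)).relIndex Nn = 2 := index_Tn hF
  have h2 : (Tn : Subgroup (GL (Fin 2) F)).relIndex Q ≤ 2 := by
    have := Subgroup.relIndex_le_of_le_right (H := (Tn : Subgroup (GL (Fin 2) F))) hQ
      (by rw [h1]; norm_num)
    exact le_trans this (le_of_eq h1)
  have h3 := Subgroup.card_mul_index ((Tn : Subgroup (GL (Fin 2) F)).subgroupOf Q)
  have h4 : Nat.card ((Tn : Subgroup (GL (Fin 2) F)).subgroupOf Q)
      = Nat.card ((Tn : Subgroup (GL (Fin 2) F)) ⊓ Q : Subgroup (GL (Fin 2) F)) := by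
    rw [← Subgroup.inf_subgroupOf_right]
    exact Nat.card_congr (Subgroup.subgroupOfEquivOfLe inf_le_right).toEquiv
  rw [h4] at h3
  have h5 : ((Tn : Subgroup (GL (Fin 2) F)).subgroupOf Q).index ≤ 2 := h2
  calc Nat.card Q = _ := h3.symm
    _ ≤ Nat.card ((Tn : Subgroup (GL (Fin 2) F)) ⊓ Q : Subgroup (GL (Fin 2) F)) * 2 :=
        Nat.mul_le_mul_left _ h5
    _ = _ := mul_comm _ _

/-- a subgroup all of whose elements have one of four shapes has at most four elements -/
theorem card_le_four (K : Subgroup (GL (Fin 2) F))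
    (h : ∀ x ∈ K, (x : M2) = 1 ∨ (x : M2) = -1 ∨ (x : M2) = Jm ∨ (x : M2) = -Jm) :
    Nat.card K ≤ 4 := by
  classical
  have h1 : Nat.card K ≤ Nat.card ↥({1, -1, Jm, -Jm} : Finset M2) := by
    apply Nat.card_le_card_of_injective
      (fun x : K => (⟨(x.1 : M2), by
        rcases h x.1 x.2 with h' | h' | h' | h' <;> rw [h'] <;> simp⟩ :
          ↥({1, -1, Jm, -Jm} : Finset M2)))
    intro x y hxy
    apply Subtype.ext
    apply Units.ext
    exact congrArg Subtype.val hxy
  have h2 : Nat.card ↥({1, -1, Jm, -Jm} : Finset M2) = ({1, -1, Jm, -Jm} : Finset M2).card := by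
    rw [Nat.card_eq_fintype_card, Fintype.card_coe]
  rw [h2] at h1
  exact le_trans h1 Finset.card_le_four

end GL2b

open Cfsg.Agent.S4624 Cfsg.Agent.S4628 Cfsg.Agent.Helper4.Wreath Cfsg.Agent.Helper4.EAK
open Cfsg.Agent.Helper4.GLWreath Cfsg.Agent.Helper4.GLUtil Cfsg.Agent.Helper4.GLOrders
open Matrix

section GL2c
variable {F : Type*} [Field F] [Fintype F]

local notation "M2" => Matrix (Fin 2) (Fin 2) F

theorem exists_Q (hodd : Odd (Fintype.card F)) (h4 : Fintype.card F % 4 = 3) :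
    ∃ Q : Sylow 2 (GL (Fin 2) F), (Q : Subgroup (GL (Fin 2) F)) ≤ Nn
      ∧ Jg ∈ (Q : Subgroup (GL (Fin 2) F)) := by
  classical
  have hJ : (⟨Jg, Tn_le_Nn Jg_mem_Tn⟩ : (Nn : Subgroup (GL (Fin 2) F))) ^ (2 ^ 2) = 1 := by
    apply Subtype.ext
    show (Jg : GL (Fin 2) F) ^ (2 ^ 2) = 1
    have : (Jg : GL (Fin 2) F) ^ (2 ^ 2) = (Jg * Jg) * (Jg * Jg) := by
      rw [show (2 : ℕ) ^ 2 = 2 + 2 by norm_num, pow_add, pow_two]
    rw [this, Jg_four]
  have hp := Cfsg.Agent.S2648.isPGroup_zpowers 2 2 _ hJ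
  obtain ⟨P, hP⟩ := hp.exists_le_sylow
  have hcard : Nat.card ((P : Subgroup (Nn : Subgroup (GL (Fin 2) F))).map
      (Nn : Subgroup (GL (Fin 2) F)).subtype) = 2 ^ (Nat.card (GL (Fin 2) F)).factorization 2 := by
    rw [Subgroup.card_map_of_injective (Subgroup.subtype_injective _), P.card_eq_multiplicity,
      v2_Nn hodd h4]
  refine ⟨Sylow.ofCard _ hcard, ?_, ?_⟩
  · rw [Sylow.coe_ofCard]
    rintro _ ⟨x, _, rfl⟩
    exact x.2
  · rw [Sylow.coe_ofCard]
    exact ⟨⟨Jg, Tn_le_Nn Jg_mem_Tn⟩, hP (Subgroup.mem_zpowers _), rfl⟩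

theorem Jg_sq_ne_one (hF : (-1 : F) ≠ 1) : (Jg : GL (Fin 2) F) ^ 2 ≠ 1 := by
  intro h
  rw [pow_two] at h
  have h1 := congrArg (fun g : GL (Fin 2) F => (g : M2) 0 0) h
  simp only [Jg_mul_Jg_coe, Units.val_one, Matrix.neg_apply, Matrix.one_apply_eq] at h1
  exact hF h1

theorem card_Q_ge (hodd : Odd (Fintype.card F)) (h4 : Fintype.card F % 4 = 3)
    (Q : Sylow 2 (GL (Fin 2) F)) : 16 ≤ Nat.card (Q : Subgroup (GL (Fin 2) F)) := by
  have hq3 : 3 ≤ Fintype.card F := by omega
  rw [Q.card_eq_multiplicity, Nat.factorization_def _ Nat.prime_two, v2_card_GL hodd (2 * 1),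
    v2_sum_even _ hq3 hodd 1, v2_of_mod4 (Fintype.card F - 1) (by omega)]
  have h1 : 2 ≤ padicValNat 2 (Fintype.card F + 1) := by
    rw [← padicValNat_dvd_iff_le (by omega)]
    norm_num
    omega
  calc 16 = 2 ^ 4 := by norm_num
    _ ≤ _ := Nat.pow_le_pow_right (by norm_num) (by
      simp only [Nat.factorial_one, padicValNat.one, add_zero, one_mul]
      omega)

theorem Q2 (hodd : Odd (Fintype.card F)) (h4 : Fintype.card F % 4 = 3)
    (Q : Sylow 2 (GL (Fin 2) F)) (hQN : (Q : Subgroup (GL (Fin 2) F)) ≤ Nn) :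
    ∀ t ∈ (Q : Subgroup (GL (Fin 2) F)), t ^ 2 = 1 →
      (∀ x ∈ (Q : Subgroup (GL (Fin 2) F)), Commute (x * t * x⁻¹) t) →
      t ∈ (zGL (F := F) (Fin 2)).range := by
  intro t ht ht2 hcomm
  have hF := neg_one_ne_one_of_odd hodd
  have h2 : (2 : F) ≠ 0 := Cfsg.Agent.S2648.two_ne_zero_of_odd hodd
  have htt : t * t = 1 := by rw [← pow_two]; exact ht2
  rcases hQN ht with hT | hA
  · rcases Tn_invol h4 h2 t hT htt with h | h
    · refine ⟨1, Units.ext ?_⟩
      rw [map_one]
      exact h.symm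
    · refine ⟨-1, Units.ext ?_⟩
      rw [zGL_coe, h]
      ext i j
      fin_cases i <;> fin_cases j <;> simp
  · exfalso
    have hall : ∀ x ∈ ((Tn : Subgroup (GL (Fin 2) F)) ⊓ Q : Subgroup (GL (Fin 2) F)),
        (x : M2) = 1 ∨ (x : M2) = -1 ∨ (x : M2) = Jm ∨ (x : M2) = -Jm := by
      intro x hx
      obtain ⟨hxT, hxQ⟩ := Subgroup.mem_inf.1 hx
      have hc := hcomm x hxQ
      have h0 := anti_key h2 t x x⁻¹ hA htt hxT (Subgroup.inv_mem _ hxT) (mul_inv_cancel x) hc.eq
      obtain ⟨k, hk⟩ := Q.isPGroup' ⟨x, hxQ⟩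
      have hk' : x ^ (2 ^ k) = 1 := congrArg Subtype.val hk
      exact Tn_four h4 x hxT h0 (det_two_el h4 x k hk')
    have h1 := card_le_four _ hall
    have h3 := card_le_two_mul hF Q hQN
    have h5 := card_Q_ge hodd h4 Q
    omega

end GL2c

open Cfsg.Agent.S4624 Cfsg.Agent.S4628 Cfsg.Agent.Helper4.Wreath Cfsg.Agent.Helper4.EAK
open Cfsg.Agent.Helper4.GLWreath Cfsg.Agent.Helper4.GLUtil Cfsg.Agent.Helper4.GLOrders
open Matrix

section BdProd
variable {F : Type*} [Field F]
variable {a b : Type*} [Fintype a] [DecidableEq a] [Fintype b] [DecidableEq b]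

/-- block diagonal matrices -/
def blockHom : Matrix a a F × Matrix b b F →* Matrix (a ⊕ b) (a ⊕ b) F where
  toFun p := Matrix.fromBlocks p.1 0 0 p.2
  map_one' := Matrix.fromBlocks_one
  map_mul' p p' := by
    rw [Matrix.fromBlocks_multiply]
    simp

/-- the block diagonal embedding of `GL_a × GL_b` -/
def bdProd : GL a F × GL b F →* GL (a ⊕ b) F :=
  (Units.map (blockHom (F := F) (a := a) (b := b))).comp (MulEquiv.prodUnits.symm.toMonoidHom)

theorem bdProd_coe (p : GL a F × GL b F) :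
    ((bdProd p : GL (a ⊕ b) F) : Matrix (a ⊕ b) (a ⊕ b) F)
      = Matrix.fromBlocks (p.1 : Matrix a a F) 0 0 (p.2 : Matrix b b F) := rfl

theorem bdProd_injective : Function.Injective (bdProd (F := F) (a := a) (b := b)) := by
  intro p p' h
  have h0 := congrArg (fun g : GL (a ⊕ b) F => (g : Matrix (a ⊕ b) (a ⊕ b) F)) h
  simp only [bdProd_coe] at h0
  have h1 := congrArg Matrix.toBlocks₁₁ h0
  have h2 := congrArg Matrix.toBlocks₂₂ h0
  rw [Matrix.toBlocks_fromBlocks₁₁, Matrix.toBlocks_fromBlocks₁₁] at h1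
  rw [Matrix.toBlocks_fromBlocks₂₂, Matrix.toBlocks_fromBlocks₂₂] at h2
  exact Prod.ext (Units.ext h1) (Units.ext h2)

end BdProd

section ZRange
variable {F : Type*} [Field F] (κ : Type*) [Fintype κ] [DecidableEq κ]

instance zGL_range_normal : ((zGL (F := F) κ).range).Normal := by
  constructor
  rintro _ ⟨u, rfl⟩ g
  refine ⟨u, ?_⟩
  rw [zGL_central, mul_assoc, mul_inv_cancel, mul_one]

theorem zGL_range_isPGroup : IsPGroup 2 ((zGL (F := F) κ).range) := by
  rintro ⟨_, ⟨u, rfl⟩⟩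
  refine ⟨1, Subtype.ext ?_⟩
  show zGL κ u ^ (2 ^ 1) = 1
  rw [pow_one, ← map_pow, Int.units_sq, map_one]

theorem zGL_range_card [Nonempty κ] (h2 : (2 : F) ≠ 0) :
    Nat.card ((zGL (F := F) κ).range) = 2 := by
  rw [Nat.card_congr (MonoidHom.ofInjective (zGL_injective κ h2)).toEquiv.symm,
    Nat.card_eq_fintype_card, Fintype.card_units_int]

theorem zGL_range_card_empty [IsEmpty κ] :
    Nat.card ((zGL (F := F) κ).range) = 1 := by
  haveI : Subsingleton (GL κ F) := by
    constructor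
    intro x y
    apply Units.ext
    ext i
    exact isEmptyElim i
  exact Nat.card_unique

theorem zGL_range_card_fin (h2 : (2 : F) ≠ 0) (r : ℕ) (hr : r ≤ 1) :
    Nat.card ((zGL (F := F) (Fin r)).range) = 2 ^ r := by
  interval_cases r
  · exact zGL_range_card_empty (Fin 0)
  · exact zGL_range_card (Fin 1) h2

end ZRange

section UpperProd
variable {ι : Type*} [DecidableEq ι] [Fintype ι] {H K : Type*} [Group H] [Group K]
  [Finite H] [Finite K]

theorem upper_prod (Q Z : Subgroup H) (T : Subgroup (Equiv.Perm ι)) (S₂ : Subgroup K)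
    (hQ1 : ∃ x₀ ∈ Q, x₀ ^ 2 ≠ 1)
    (hQ2 : ∀ t ∈ Q, t ^ 2 = 1 → (∀ x ∈ Q, Commute (x * t * x⁻¹) t) → t ∈ Z) (c₂ : ℕ)
    (hK : ∀ E₂ : Subgroup K, (∀ a ∈ E₂, ∀ b ∈ E₂, a * b = b * a) → (∀ a ∈ E₂, a ^ 2 = 1) →
      Nat.card E₂ ≤ c₂)
    (E₀ : Subgroup (Wr ι H × K)) (hle : E₀ ≤ (wrSub Q T).prod S₂)
    (hnorm : ∀ s ∈ (wrSub Q T).prod S₂, ∀ e ∈ E₀, s * e * s⁻¹ ∈ E₀)
    (hcomm : ∀ a ∈ E₀, ∀ b ∈ E₀, a * b = b * a) (hsq : ∀ a ∈ E₀, a ^ 2 = 1) :
    Nat.card E₀ ≤ Nat.card Z ^ Fintype.card ι * c₂ := by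
  haveI : Finite (Wr ι H) := Cfsg.Agent.S2250.finite_Wr
  have h1 := card_le_prod E₀
  have h2 : Nat.card (E₀.map (MonoidHom.fst (Wr ι H) K)) ≤ Nat.card Z ^ Fintype.card ι := by
    apply lemmaU Q Z T hQ1 hQ2
    · rintro _ ⟨e, he, rfl⟩
      exact (Subgroup.mem_prod.1 (hle he)).1
    · rintro w hw _ ⟨e, he, rfl⟩
      have hs : ((w, 1) : Wr ι H × K) ∈ (wrSub Q T).prod S₂ :=
        Subgroup.mem_prod.2 ⟨hw, Subgroup.one_mem _⟩
      exact ⟨_, hnorm _ hs e he, rfl⟩
    · rintro _ ⟨e, he, rfl⟩ _ ⟨e', he', rfl⟩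
      rw [← map_mul, ← map_mul, hcomm e he e' he']
    · rintro _ ⟨e, he, rfl⟩
      rw [← map_pow, hsq e he, map_one]
  have h3 : Nat.card (E₀.map (MonoidHom.snd (Wr ι H) K)) ≤ c₂ := by
    apply hK
    · rintro _ ⟨e, he, rfl⟩ _ ⟨e', he', rfl⟩
      rw [← map_mul, ← map_mul, hcomm e he e' he']
    · rintro _ ⟨e, he, rfl⟩
      rw [← map_pow, hsq e he, map_one]
  exact le_trans h1 (Nat.mul_le_mul h2 h3)

end UpperProd

open Cfsg.Agent.S4624 Cfsg.Agent.S4628 Cfsg.Agent.Helper4.Wreath Cfsg.Agent.Helper4.EAK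
open Cfsg.Agent.Helper4.GLWreath Cfsg.Agent.Helper4.GLUtil Cfsg.Agent.Helper4.GLOrders
open Matrix

section CaseThree
variable {F : Type*} [Field F] [Fintype F]

/-- the index equivalence -/
def idx2 (m r : ℕ) : (Fin 2 × Fin m) ⊕ Fin r ≃ Fin (2 * m + r) :=
  (Equiv.sumCongr finProdFinEquiv (Equiv.refl _)).trans finSumFinEquiv

/-- the embedding of `(GL₂ ≀ S_m) × GL_r` into `GL_{2m+r}` -/
def emb2 (m r : ℕ) : Wr (Fin m) (GL (Fin 2) F) × GL (Fin r) F →* GL (Fin (2 * m + r)) F :=
  (glReindex (idx2 m r)).toMonoidHom.comp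
    (bdProd.comp (MonoidHom.prodMap Phi (MonoidHom.id _)))

theorem emb2_injective (m r : ℕ) : Function.Injective (emb2 (F := F) m r) := by
  intro x y hxy
  have h1 := bdProd_injective ((glReindex (idx2 m r)).injective hxy)
  have h2 : Phi x.1 = Phi y.1 := by
    have := congrArg Prod.fst h1
    exact this
  have h3 : x.2 = y.2 := by
    have := congrArg Prod.snd h1
    exact this
  exact Prod.ext (Phi_injective h2) h3

theorem v2_emb2 (hodd : Odd (Fintype.card F)) (m r : ℕ) (hr : r ≤ 1) :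
    padicValNat 2 (Nat.card (GL (Fin (2 * m + r)) F))
      = m * padicValNat 2 (Nat.card (GL (Fin 2) F)) + padicValNat 2 m.factorial
        + padicValNat 2 (Nat.card (GL (Fin r) F)) := by
  have hq3 : 3 ≤ Fintype.card F := by
    have hq1 : 1 < Fintype.card F := Fintype.one_lt_card
    rcases hodd with ⟨k, hk⟩
    omega
  have h1 := v2_card_GL hodd (2 * 1)
  rw [v2_sum_even _ hq3 hodd 1] at h1
  simp only [Nat.factorial_one, padicValNat.one, add_zero, one_mul, mul_one] at h1
  rw [h1, v2_card_GL hodd (2 * m + r), v2_card_GL hodd r]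
  interval_cases r
  · rw [add_zero, v2_sum_even _ hq3 hodd m]
    simp
  · rw [v2_sum_odd _ hq3 hodd m]
    simp

theorem card_S₀ (hodd : Odd (Fintype.card F)) (m r : ℕ) (hr : r ≤ 1)
    (Q : Sylow 2 (GL (Fin 2) F)) (T : Sylow 2 (Equiv.Perm (Fin m)))
    (S₂ : Sylow 2 (GL (Fin r) F)) :
    Nat.card ((wrSub (Q : Subgroup (GL (Fin 2) F)) (T : Subgroup (Equiv.Perm (Fin m)))).prod
      (S₂ : Subgroup (GL (Fin r) F)))
      = 2 ^ (Nat.card (GL (Fin (2 * m + r)) F)).factorization 2 := by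
  rw [Nat.card_congr (Subgroup.prodEquiv _ _).toEquiv, Nat.card_prod, card_wrSub, card_aux Q T,
    S₂.card_eq_multiplicity, ← pow_add]
  congr 1
  rw [Nat.factorization_def _ Nat.prime_two, Nat.factorization_def _ Nat.prime_two,
    Nat.factorization_def _ Nat.prime_two, v2_Wr, v2_emb2 hodd m r hr]

theorem case3_core (hodd : Odd (Fintype.card F)) (h4 : Fintype.card F % 4 = 3) (m r : ℕ)
    (hr : r ≤ 1) {G : Type*} [Group G]
    (Φ : Wr (Fin m) (GL (Fin 2) F) × GL (Fin r) F →* G) (hΦ : Function.Injective Φ)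
    (Q : Sylow 2 (GL (Fin 2) F)) (hQN : (Q : Subgroup (GL (Fin 2) F)) ≤ Nn)
    (hJ : Jg ∈ (Q : Subgroup (GL (Fin 2) F))) (T : Sylow 2 (Equiv.Perm (Fin m)))
    (S₂ : Sylow 2 (GL (Fin r) F)) (S : Subgroup G)
    (hS : S = ((wrSub (Q : Subgroup (GL (Fin 2) F)) (T : Subgroup (Equiv.Perm (Fin m)))).prod
      (S₂ : Subgroup (GL (Fin r) F))).map Φ) :
    (∃ E : Subgroup ↥S, E.Normal ∧ Cfsg.IsElementaryAbelian 2 E ∧ 2 ^ (m + r) ≤ Nat.card ↥E) ∧
      ∀ E : Subgroup ↥S, E.Normal → Cfsg.IsElementaryAbelian 2 E → Nat.card ↥E ≤ 2 ^ (m + r) := by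
  classical
  subst hS
  have hF := neg_one_ne_one_of_odd hodd
  have h2 : (2 : F) ≠ 0 := Cfsg.Agent.S2648.two_ne_zero_of_odd hodd
  haveI : Finite (Wr (Fin m) (GL (Fin 2) F)) := Cfsg.Agent.S2250.finite_Wr
  have hzQ : (zGL (F := F) (Fin 2)).range ≤ (Q : Subgroup (GL (Fin 2) F)) :=
    (zGL_range_isPGroup (Fin 2)).le_sylow_of_normal Q
  have hzS₂ : (zGL (F := F) (Fin r)).range ≤ (S₂ : Subgroup (GL (Fin r) F)) :=
    (zGL_range_isPGroup (Fin r)).le_sylow_of_normal S₂
  constructor
  · obtain ⟨E₀, hE₀⟩ : ∃ E₀, E₀ = ((sgPiG (ι := Fin m) (zGL (F := F) (Fin 2))).range).prod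
        ((zGL (F := F) (Fin r)).range) := ⟨_, rfl⟩
    have hle : E₀ ≤ (wrSub (Q : Subgroup (GL (Fin 2) F)) (T : Subgroup (Equiv.Perm (Fin m)))).prod
        (S₂ : Subgroup (GL (Fin r) F)) := by
      rw [hE₀]
      rintro ⟨w, k⟩ h
      obtain ⟨⟨ε, hε⟩, hk⟩ := Subgroup.mem_prod.1 h
      refine Subgroup.mem_prod.2 ⟨?_, hzS₂ hk⟩
      simp only at hε
      rw [← hε]
      exact inl_mem_wrSub _ _ (fun i => hzQ ⟨ε i, rfl⟩)
    have hn : E₀.Normal := by
      rw [hE₀]
      haveI := sgPiG_normal (ι := Fin m) (zGL (F := F) (Fin 2)) (zGL_central (Fin 2))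
      infer_instance
    have hea : Cfsg.IsElementaryAbelian 2 E₀ := by
      rw [hE₀]
      constructor
      · constructor
        constructor
        rintro ⟨⟨w, k⟩, h⟩ ⟨⟨w', k'⟩, h'⟩
        obtain ⟨⟨ε, hε⟩, ⟨u, hu⟩⟩ := Subgroup.mem_prod.1 h
        obtain ⟨⟨ε', hε'⟩, ⟨u', hu'⟩⟩ := Subgroup.mem_prod.1 h'
        simp only at hε hε' hu hu'
        apply Subtype.ext
        apply Prod.ext
        · show w * w' = w' * w
          rw [← hε, ← hε', ← map_mul, ← map_mul, mul_comm]
        · show k * k' = k' * k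
          rw [← hu, ← hu', ← map_mul, ← map_mul, mul_comm]
      · rintro ⟨w, k⟩ h
        obtain ⟨⟨ε, hε⟩, ⟨u, hu⟩⟩ := Subgroup.mem_prod.1 h
        simp only at hε hu
        apply Prod.ext
        · show w ^ 2 = 1
          rw [← hε]
          have := (sgPiG_elemAb (ι := Fin m) (zGL (F := F) (Fin 2))).2 _ ⟨ε, rfl⟩
          exact this
        · show k ^ 2 = 1
          rw [← hu, ← map_pow, Int.units_sq, map_one]
    have hcard : Nat.card E₀ = 2 ^ (m + r) := by
      rw [hE₀, Nat.card_congr (Subgroup.prodEquiv _ _).toEquiv, Nat.card_prod,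
        sgPiG_card _ (zGL_injective (Fin 2) h2), zGL_range_card_fin h2 r hr, Fintype.card_fin,
        pow_add]
    obtain ⟨E, hE1, hE2, hE3⟩ := Cfsg.Agent.S2250.transport Φ hΦ _ _ hle hn hea
    exact ⟨E, hE1, hE2, by rw [hE3, hcard]⟩
  · intro E hEn hE
    obtain ⟨E₀, hle, hnorm, hcomm, hsq, hcard⟩ := transport_back Φ hΦ _ E hEn hE
    rw [← hcard]
    have key := upper_prod (Q : Subgroup (GL (Fin 2) F)) ((zGL (F := F) (Fin 2)).range)
      (T : Subgroup (Equiv.Perm (Fin m))) (S₂ : Subgroup (GL (Fin r) F))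
      ⟨Jg, hJ, Jg_sq_ne_one hF⟩ (Q2 hodd h4 Q hQN) (2 ^ r)
      (fun E₂ hc hs => card_le_of_elemAb_gl h2 E₂ ⟨⟨⟨fun a b => Subtype.ext (hc a.1 a.2 b.1 b.2)⟩⟩, hs⟩)
      E₀ hle hnorm hcomm hsq
    rw [zGL_range_card (Fin 2) h2, Fintype.card_fin, ← pow_add] at key
    exact key

end CaseThree

open Cfsg.Agent.S4624 Cfsg.Agent.S4628 Cfsg.Agent.Helper4.Wreath Cfsg.Agent.Helper4.EAK
open Cfsg.Agent.Helper4.GLWreath Cfsg.Agent.Helper4.GLUtil Cfsg.Agent.Helper4.GLOrders

/-- The normal 2-rank of the general linear group over a finite field of odd order q: for n ≥ 1 and S a Sylow 2-subgroup of GL_n(F), the largest rank of an elementary abelian subgroup of S that is normal in S equals n when q ≡ 1 (mod 4) and ⌊(n + 1)/2⌋ when q ≡ 3 (mod 4). -/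
theorem result {F : Type*} [Field F] [Fintype F] {q : ℕ} (hF : Fintype.card F = q) (hodd : Odd q) (n : ℕ) (hn : 1 ≤ n) (S : Sylow 2 (Matrix.GeneralLinearGroup (Fin n) F)) :
    (q % 4 = 1 → ((∃ E : Subgroup ↥(S : Subgroup (Matrix.GeneralLinearGroup (Fin n) F)), E.Normal ∧ Cfsg.IsElementaryAbelian 2 E ∧ 2 ^ (n) ≤ Nat.card ↥E) ∧
      ∀ E : Subgroup ↥(S : Subgroup (Matrix.GeneralLinearGroup (Fin n) F)), E.Normal → Cfsg.IsElementaryAbelian 2 E → Nat.card ↥E ≤ 2 ^ (n))) ∧
    (q % 4 = 3 → ((∃ E : Subgroup ↥(S : Subgroup (Matrix.GeneralLinearGroup (Fin n) F)), E.Normal ∧ Cfsg.IsElementaryAbelian 2 E ∧ 2 ^ ((n + 1) / 2) ≤ Nat.card ↥E) ∧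
      ∀ E : Subgroup ↥(S : Subgroup (Matrix.GeneralLinearGroup (Fin n) F)), E.Normal → Cfsg.IsElementaryAbelian 2 E → Nat.card ↥E ≤ 2 ^ ((n + 1) / 2))) := by
  classical
  subst hF
  have h2 : (2 : F) ≠ 0 := Cfsg.Agent.S2648.two_ne_zero_of_odd hodd
  constructor
  · intro h4
    exact ⟨exists_case1 hodd h4 n S, fun E _ hE => upper_gl h2 _ E hE⟩
  · intro h4
    obtain ⟨m, r, hr, rfl⟩ : ∃ m r, r ≤ 1 ∧ n = 2 * m + r :=
      ⟨n / 2, n % 2, by omega, by omega⟩
    have he : (2 * m + r + 1) / 2 = m + r := by omega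
    rw [he]
    obtain ⟨Q, hQN, hJ⟩ := exists_Q hodd h4
    obtain ⟨T⟩ : Nonempty (Sylow 2 (Equiv.Perm (Fin m))) := inferInstance
    obtain ⟨S₂⟩ : Nonempty (Sylow 2 (Matrix.GeneralLinearGroup (Fin r) F)) := inferInstance
    obtain ⟨g, hg⟩ := exists_conj_gen (emb2 m r) (emb2_injective m r) _
      (card_S₀ hodd m r hr Q T S₂) S
    exact case3_core hodd h4 m r hr _ ((MulAut.conj g).injective.comp (emb2_injective m r))
      Q hQN hJ T S₂ _ hg

end Cfsg.Agent.S2249
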