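import Cfsg.Statements.S2255
import Cfsg.Agent.Lib.Lead.NilpAlt

set_option autoImplicit false
open Cfsg

namespace Cfsg.Agent.S2255

open Cfsg.Agent.NilpSym

/-- `2 * |Sylow 2 of A_n| = s n` for `n ≥ 2`. -/
lemma two_mul_card_sylow_alt (n : ℕ) (h2 : 2 ≤ n) (P : Sylow 2 (alternatingGroup (Fin n))) :
    2 * Nat.card P = s n := by
  have : Fact (Nat.Prime 2) := ⟨Nat.prime_two⟩
  have : Nontrivial (Fin n) := Fin.nontrivial_iff_two_le.mpr h2
  have h1 : 2 * Nat.card (alternatingGroup (Fin n)) = n.factorial := by
    rw [Nat.card_eq_fintype_card, two_mul_card_alternatingGroup, Fintype.card_perm,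
      Fintype.card_fin]
  rw [Sylow.card_eq_multiplicity]
  unfold s
  rw [← h1, Nat.factorization_mul (by norm_num) Nat.card_pos.ne']
  simp [Nat.Prime.factorization_self Nat.prime_two, pow_add]

/-- Let n be a natural number not congruent to 3 modulo 4, with n ∉ {5, 6, 9}. Then every nilpotent subgroup of the alternating group on n letters has order at most the order of a Sylow 2-subgroup of the alternating group (so the nilpotent subgroups of largest order are exactly the Sylow 2-subgroups). -/
theorem result  (n : ℕ) (hn : n % 4 ≠ 3)
    (h5 : n ≠ 5) (h6 : n ≠ 6) (h9 : n ≠ 9)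
    (N : Subgroup (alternatingGroup (Fin n))) (hN : Group.IsNilpotent N)
    (P : Sylow 2 (alternatingGroup (Fin n))) :
    Nat.card N ≤ Nat.card P := by
  rcases Nat.lt_or_ge n 2 with hlt | h2
  · have hsub : Subsingleton (Equiv.Perm (Fin n)) := by
      interval_cases n
      · infer_instance
      · infer_instance
    have : Subsingleton (alternatingGroup (Fin n)) := inferInstance
    have h1 : Nat.card N = 1 := Nat.card_unique
    rw [h1]
    exact Nat.card_pos
  · have hP := two_mul_card_sylow_alt n h2 P
    set N' := N.map (alternatingGroup (Fin n)).subtype with hN'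
    have hcard : Nat.card N' = Nat.card N :=
      Subgroup.card_map_of_injective (alternatingGroup (Fin n)).subtype_injective
    have hN'nil : Group.IsNilpotent N' :=
      Group.nilpotent_of_mulEquiv (N.equivMapOfInjective _
        (alternatingGroup (Fin n)).subtype_injective)
    have hN'A : N' ≤ alternatingGroup (Fin n) := Subgroup.map_subtype_le _
    have key : 2 * Nat.card N' ≤ s n := by
      rcases alt_reduction N' hN'nil with ⟨Ñ, hÑnil, hle, hnot⟩ | hodd
      · have h1 := two_mul_card_le_of_not_le_alt N' Ñ hle hN'A hnot
        have h2 := (bd_subgroup n Ñ hÑnil).le_s hn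
        omega
      · have hb := main_odd n N' hN'nil hodd (Fin n) (Nat.card_fin n)
        apply hb.two_mul_le
        simp only [Finset.mem_insert, Finset.mem_singleton, not_or]
        refine ⟨by omega, by omega, by omega, h5, h6, by omega, h9⟩
    rw [hcard] at key
    omega

end Cfsg.Agent.S2255
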