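import Cfsg.Statements.S2256
import Cfsg.Agent.Lib.Lead.NilpAlt2

set_option autoImplicit false
open Cfsg

namespace Cfsg.Agent.S2256

open Cfsg.Agent.NilpSym

/-- `2 * |Sylow 2 of A_n| = s n` for `n ≥ 2`. -/
lemma two_mul_card_sylow_alt' (n : ℕ) (h2 : 2 ≤ n) (P : Sylow 2 (alternatingGroup (Fin n))) :
    2 * Nat.card P = s n := by
  have : Fact (Nat.Prime 2) := ⟨Nat.prime_two⟩
  have : Nontrivial (Fin n) := Fin.nontrivial_iff_two_le.mpr h2
  have h1 : 2 * Nat.card (alternatingGroup (Fin n)) = n.factorial := by
    rw [Nat.card_eq_fintype_card, two_mul_card_alternatingGroup, Fintype.card_perm,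
      Fintype.card_fin]
  rw [Sylow.card_eq_multiplicity]
  unfold s
  rw [← h1, Nat.factorization_mul (by norm_num) Nat.card_pos.ne']
  simp [Nat.Prime.factorization_self Nat.prime_two, pow_add]

/-- Odd bound at `n = 7`. -/
lemma bo_seven {c : ℕ} (h : Bo 7 c) : c ≤ 9 := by
  obtain ⟨i, hi, hc⟩ := h
  have hi' : i = 0 ∨ i = 1 := by omega
  rcases hi' with rfl | rfl
  · have h1 : t 7 = 3 ^ (∑ j ∈ Finset.Ico 1 4, 7 / 3 ^ j) := sp_legendre 3 7 4 (by norm_num)
    have h2 : (∑ j ∈ Finset.Ico 1 4, 7 / 3 ^ j) = 2 := by decide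
    rw [h2] at h1
    simp only [pow_zero, one_mul, mul_zero, Nat.sub_zero] at hc
    rw [h1] at hc
    omega
  · have h1 : t 2 = 3 ^ (∑ j ∈ Finset.Ico 1 4, 2 / 3 ^ j) := sp_legendre 3 2 4 (by norm_num)
    have h2 : (∑ j ∈ Finset.Ico 1 4, 2 / 3 ^ j) = 0 := by decide
    rw [h2] at h1
    simp only [pow_one, mul_one] at hc
    rw [show 7 - 5 = 2 by norm_num, h1] at hc
    omega

/-- Let n ≡ 3 (mod 4) with n ≥ 7. Then every nilpotent subgroup of the alternating group on n letters has order at most 3 times the order of a Sylow 2-subgroup of the alternating group on n − 3 letters; the bound is attained by a nilpotent subgroup isomorphic to the direct product of such a Sylow 2-subgroup with a cyclic group of order 3; and any two nilpotent subgroups of the alternating group attaining the bound are conjugate in it. -/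
theorem result  (n : ℕ) (hn : n % 4 = 3) (h7 : 7 ≤ n)
    (P : Sylow 2 (alternatingGroup (Fin (n - 3)))) :
    (∀ N : Subgroup (alternatingGroup (Fin n)), Group.IsNilpotent N → Nat.card N ≤ 3 * Nat.card P) ∧
    (∃ M : Subgroup (alternatingGroup (Fin n)), Group.IsNilpotent M ∧ Nat.card M = 3 * Nat.card P ∧
      Nonempty (M ≃* (↥(P : Subgroup (alternatingGroup (Fin (n - 3)))) × Multiplicative (ZMod 3)))) ∧
    (∀ N₁ N₂ : Subgroup (alternatingGroup (Fin n)), Group.IsNilpotent N₁ → Group.IsNilpotent N₂ →
      Nat.card N₁ = 3 * Nat.card P → Nat.card N₂ = 3 * Nat.card P →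
      ∃ g : alternatingGroup (Fin n), N₂ = N₁.map (MulAut.conj g).toMonoidHom) := by
  have : Fact (Nat.Prime 2) := ⟨Nat.prime_two⟩
  have h : n - 3 + 3 = n := by omega
  have hm : 4 ∣ n - 3 := by omega
  have hm4 : 4 ≤ n - 3 := by omega
  have hP2 := two_mul_card_sylow_alt' (n - 3) (by omega) P
  set k := (Nat.card (alternatingGroup (Fin (n - 3)))).factorization 2 with hkdef
  have hPk : Nat.card P = 2 ^ k := Sylow.card_eq_multiplicity P
  have hk : s (n - 3) = 2 * 2 ^ k := by rw [← hP2, hPk]
  -- transfer to subgroups of `S_n`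
  have hmapcard : ∀ N : Subgroup (alternatingGroup (Fin n)),
      Nat.card (N.map (alternatingGroup (Fin n)).subtype) = Nat.card N := fun N =>
    Subgroup.card_map_of_injective (alternatingGroup (Fin n)).subtype_injective
  have hmapnil : ∀ N : Subgroup (alternatingGroup (Fin n)), Group.IsNilpotent N →
      Group.IsNilpotent (N.map (alternatingGroup (Fin n)).subtype) := fun N hN =>
    Group.nilpotent_of_mulEquiv (N.equivMapOfInjective _
      (alternatingGroup (Fin n)).subtype_injective)
  have hmapA : ∀ N : Subgroup (alternatingGroup (Fin n)),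
      N.map (alternatingGroup (Fin n)).subtype ≤ alternatingGroup (Fin n) := fun N =>
    Subgroup.map_subtype_le _
  refine ⟨?_, exists_model_alt (n - 3) n h P, ?_⟩
  · intro N hN
    set N' := N.map (alternatingGroup (Fin n)).subtype with hN'
    have key : 2 * Nat.card N' ≤ 3 * s (n - 3) := by
      rcases alt_reduction N' (hmapnil N hN) with ⟨Ñ, hÑnil, hle, hnot⟩ | hodd
      · have h1 := two_mul_card_le_of_not_le_alt N' Ñ hle (hmapA N) hnot
        have h2 : Bd (n - 3 + 3) (Nat.card Ñ) := h.symm ▸ bd_subgroup n Ñ hÑnil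
        have h3 := h2.le_three_s hm
        omega
      · have hb := main_odd n N' (hmapnil N hN) hodd (Fin n) (Nat.card_fin n)
        rcases Nat.eq_or_lt_of_le h7 with h7' | h7'
        · subst h7'
          have := bo_seven hb
          have h4 := s_four
          norm_num at *
          omega
        · have h1 : 2 * Nat.card N' ≤ s n := by
            apply hb.two_mul_le
            simp only [Finset.mem_insert, Finset.mem_singleton, not_or]
            refine ⟨by omega, by omega, by omega, by omega, by omega, by omega, by omega⟩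
          have h2 : s (n - 3 + 3) = 2 * s (n - 3) := s_add_three_eq (n - 3) hm
          rw [h] at h2
          omega
    rw [hmapcard N] at key
    omega
  · intro N₁ N₂ h1 h2 hc1 hc2
    rw [hPk] at hc1 hc2
    obtain ⟨g, hgs, hg⟩ := max_conj_alt (n - 3) n h hm hm4 k hk
      (N₁.map (alternatingGroup (Fin n)).subtype) (N₂.map (alternatingGroup (Fin n)).subtype)
      (hmapnil N₁ h1) (hmapnil N₂ h2) (hmapA N₁) (hmapA N₂)
      (by rw [hmapcard, hc1]) (by rw [hmapcard, hc2])
    refine ⟨⟨g, Equiv.Perm.mem_alternatingGroup.mpr hgs⟩, ?_⟩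
    apply Subgroup.map_injective (alternatingGroup (Fin n)).subtype_injective
    rw [hg, Subgroup.map_map, Subgroup.map_map]
    congr 1

end Cfsg.Agent.S2256
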