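import Cfsg.Statements.S2257
import Cfsg.Agent.H9.Solubilizer4

set_option autoImplicit false
open Cfsg

namespace Cfsg.Agent.S2257

open Matrix Subgroup
open Cfsg.Agent.H9.AutPSL2
open Cfsg.Agent.H9.DicksonUN
open Cfsg.Agent.H9.PSL2MaxEven
open Cfsg.Agent.H9.PSL2Tori
open Cfsg.Agent.H9.DicksonSS
open Cfsg.Agent.H9.Solubilizer

theorem sol_map {G G' : Type*} [Group G] [Group G'] (E : G ≃* G') (x y : G) :
    Group.IsSolvable (closure ({E x, E y} : Set G')) ↔
      Group.IsSolvable (closure ({x, y} : Set G)) := by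
  have h : closure ({E x, E y} : Set G') = (closure ({x, y} : Set G)).map (E : G →* G') := by
    rw [MonoidHom.map_closure, Set.image_pair]; rfl
  rw [h]
  let e := E.subgroupMap (closure ({x, y} : Set G))
  constructor
  · intro hs
    exact Group.isSolvable_of_surjective (f := e.symm.toMonoidHom) e.symm.surjective
  · intro hs
    exact Group.isSolvable_of_surjective (f := e.toMonoidHom) e.surjective

theorem card_sol_map {G G' : Type*} [Group G] [Group G'] (E : G ≃* G') (x : G) :
    Nat.card {y' : G' // Group.IsSolvable (closure ({E x, y'} : Set G'))} =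
      Nat.card {y : G // Group.IsSolvable (closure ({x, y} : Set G))} :=
  (Nat.card_congr (E.toEquiv.subtypeEquiv (fun y => (sol_map E x y).symm))).symm

section

variable {F : Type*} [Field F] [Fintype F]

local notation "SL2" => Matrix.SpecialLinearGroup (Fin 2) F

theorem prelim (h2 : (2 : F) = 0) (X : SL2) (hX1 : X ≠ 1) (k : ℕ) (hk : Odd k)
    (hord : orderOf X ∣ k) : NonScalar X ∧ X * X ≠ 1 ∧ X.1.trace ^ 2 ≠ 4 := by
  have hXX : X * X ≠ 1 := by
    intro h
    have h1 : orderOf X ∣ 2 := orderOf_dvd_of_pow_eq_one (by rw [pow_two]; exact h)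
    have h3 : orderOf X ∣ Nat.gcd 2 k := Nat.dvd_gcd h1 hord
    have h4 : Nat.gcd 2 k = 1 := by
      rw [Nat.gcd_comm]
      exact Nat.Coprime.gcd_eq_one (Nat.coprime_two_right.mpr hk)
    rw [h4, Nat.dvd_one, orderOf_eq_one_iff] at h3
    exact hX1 h3
  refine ⟨?_, hXX, ?_⟩
  · apply nonScalar_of_not_mem_center
    rw [center_eq_bot h2, Subgroup.mem_bot]
    exact hX1
  · intro h
    apply hXX
    apply sq_of_trace_zero h2
    rw [← Matrix.trace_fin_two]
    have h4 : (4 : F) = 0 := by linear_combination (2 : F) * h2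
    rw [h4] at h
    exact pow_eq_zero_iff (two_ne_zero) |>.1 h

theorem orderOf_dvd_card_Tor (X : SL2) : orderOf X ∣ Nat.card (Tor X) := by
  have hmem : X ∈ Tor X := by rw [mem_Tor]
  have := orderOf_dvd_natCard (⟨X, hmem⟩ : Tor X)
  rwa [Subgroup.orderOf_mk] at this

theorem dvd_two_of (n q : ℕ) (hq : 1 ≤ q) (h1 : n ∣ q - 1) (h2 : n ∣ q + 1) : n ∣ 2 := by
  have := Nat.dvd_sub h2 h1
  have e : q + 1 - (q - 1) = 2 := by omega
  rwa [e] at this

end
/-- Let G = PSL_2(F) with F a field of order q = 2^p, p prime, and for x ∈ G call the solubilizer of x the set of y ∈ G such that x and y generate a solvable subgroup. Then the solubilizer of an involution has 3q(q − 1) elements; that of a non-identity element of order dividing q − 1 has 2q(q − 1) elements; and that of a non-identity element of order dividing q + 1 has 2(q + 1) elements. -/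
theorem result (p : ℕ) (hp : p.Prime) {F : Type*} [Field F] [Fintype F]
    (hF : Fintype.card F = 2 ^ p) (x : Matrix.ProjectiveSpecialLinearGroup (Fin 2) F) :
    (orderOf x = 2 → Nat.card {y : Matrix.ProjectiveSpecialLinearGroup (Fin 2) F // Group.IsSolvable ↥(Subgroup.closure ({x, y} : Set (Matrix.ProjectiveSpecialLinearGroup (Fin 2) F)))} = 3 * 2 ^ p * (2 ^ p - 1)) ∧
    (x ≠ 1 → orderOf x ∣ 2 ^ p - 1 → Nat.card {y : Matrix.ProjectiveSpecialLinearGroup (Fin 2) F // Group.IsSolvable ↥(Subgroup.closure ({x, y} : Set (Matrix.ProjectiveSpecialLinearGroup (Fin 2) F)))} = 2 * 2 ^ p * (2 ^ p - 1)) ∧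
    (x ≠ 1 → orderOf x ∣ 2 ^ p + 1 → Nat.card {y : Matrix.ProjectiveSpecialLinearGroup (Fin 2) F // Group.IsSolvable ↥(Subgroup.closure ({x, y} : Set (Matrix.ProjectiveSpecialLinearGroup (Fin 2) F)))} = 2 * (2 ^ p + 1)) := by
  classical
  have hq4 : 4 ≤ Fintype.card F := Cfsg.Agent.H9.Solubilizer.four_le p hp hF
  haveI : Fact (Nat.Prime 2) := ⟨Nat.prime_two⟩
  obtain ⟨p', hp'⟩ := CharP.exists F
  haveI := hp'
  haveI : Fact p'.Prime := ⟨CharP.char_is_prime F p'⟩
  obtain ⟨f, -, hf⟩ := FiniteField.card F p'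
  have hp2 : p' = 2 := by
    have h2 : 2 ∣ p' ^ (f : ℕ) := by
      rw [← hf, hF]; exact dvd_pow_self 2 hp.pos.ne'
    have := Nat.Prime.dvd_of_dvd_pow Nat.prime_two h2
    exact ((Nat.prime_dvd_prime_iff_eq Nat.prime_two (CharP.char_is_prime F p')).1 this).symm
  subst hp2
  have h2 : (2 : F) = 0 := by
    have : ((2 : ℕ) : F) = 0 := CharP.cast_eq_zero _ 2
    exact_mod_cast this
  set E := slEquiv h2 with hE
  obtain ⟨X, rfl⟩ := E.surjective x
  have hord : orderOf (E X) = orderOf X := MulEquiv.orderOf_eq E X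
  have hpos : 1 ≤ 2 ^ p := Nat.one_le_two_pow
  have hoddm : Odd (2 ^ p - 1) := by
    have : Even (2 ^ p) := (Nat.even_pow' hp.pos.ne').2 even_two
    obtain ⟨r, hr⟩ := this
    exact ⟨r - 1, by omega⟩
  have hoddp : Odd (2 ^ p + 1) := by
    have : Even (2 ^ p) := (Nat.even_pow' hp.pos.ne').2 even_two
    exact this.add_one
  have hX1 : E X ≠ 1 → X ≠ 1 := by
    intro h h'
    apply h
    rw [h', map_one]
  refine ⟨?_, ?_, ?_⟩
  · intro ho
    rw [hord] at ho
    rw [card_sol_map E X]
    have hX1 : X ≠ 1 := by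
      intro h
      rw [h, orderOf_one] at ho
      omega
    have hXX : X ^ 2 = 1 := by
      have := pow_orderOf_eq_one X
      rwa [ho] at this
    have htr : X.1.trace = 2 := trace_of_pow_p 2 X 1 (by rw [pow_one]; exact hXX)
    obtain ⟨m, c, hmc⟩ := exists_conj_u X htr
    have hc : c ≠ 0 := by
      rintro rfl
      apply hX1
      rw [u_zero] at hmc
      calc X = m⁻¹ * (m * X * m⁻¹) * m := by group
        _ = 1 := by rw [hmc]; group
    have := card_sol_map (MulAut.conj m) X
    rw [MulAut.conj_apply, hmc] at this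
    rw [← this]
    exact card_sol_u h2 p hp hF hc
  · intro hx1 ho
    rw [hord] at ho
    rw [card_sol_map E X]
    have hX1' := hX1 hx1
    obtain ⟨hns, hXX, hss⟩ := prelim h2 X hX1' _ hoddm ho
    have hroot : ∃ lam : F, lam ^ 2 - X.1.trace * lam + 1 = 0 := by
      by_contra hcon
      push Not at hcon
      have hT := card_Tor_nonsplit X hns hss hcon
      have h1 := orderOf_dvd_card_Tor X
      rw [hT, hF] at h1
      have h3 := dvd_two_of _ _ hpos ho h1
      apply hXX
      rw [← pow_two]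
      exact orderOf_dvd_iff_pow_eq_one.1 h3
    obtain ⟨lam, hlam⟩ := hroot
    obtain ⟨g, e, he, hg⟩ := exists_conj_dg_of_root X hns hss lam hlam
    have := card_sol_map (MulAut.conj g) X
    rw [MulAut.conj_apply, hg] at this
    rw [← this]
    exact card_sol_dg h2 p hp hF e he
  · intro hx1 ho
    rw [hord] at ho
    rw [card_sol_map E X]
    have hX1' := hX1 hx1
    obtain ⟨hns, hXX, hss⟩ := prelim h2 X hX1' _ hoddp ho
    have hirr : ∀ a : F, a ^ 2 - X.1.trace * a + 1 ≠ 0 := by
      intro lam hlam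
      have hT := card_Tor_split X hns hss lam hlam
      have h1 := orderOf_dvd_card_Tor X
      rw [hT, hF] at h1
      have h3 := dvd_two_of _ _ hpos h1 ho
      apply hXX
      rw [← pow_two]
      exact orderOf_dvd_iff_pow_eq_one.1 h3
    exact card_sol_ns h2 p hp hF X hns hss hirr hXX

end Cfsg.Agent.S2257
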