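import Cfsg.Statements.S2259
import Cfsg.Agent.Lib.Helper5.SuzukiSolE
import Cfsg.Agent.Lib.Helper5.SuzukiBridge
import Mathlib

set_option autoImplicit false
open Cfsg

namespace Cfsg.Agent.S2259
open Cfsg.Agent.Lib.Helper5.Suzuki

/-- Let G be the Suzuki group Sz(q), q = 2^(2m+1) with 2m + 1 prime and m ≥ 1, realised inside Sp_4(F) for F the field of order q, write r = 2^(m+1) (so r² = 2q), and for x ∈ G call the solubilizer of x the set of y ∈ G such that x and y generate a solvable subgroup. Then the solubilizer of an involution has q²(4q − 3) elements; that of an element of order 4 has q²(q + 3) elements; that of a non-identity element of order dividing q − 1 has 2q²(q − 1) elements; that of a non-identity element of order dividing q + r + 1 has 4(q + r + 1) elements; and that of a non-identity element of order dividing q − r + 1 has 4(q − r + 1) elements. -/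
theorem result {F : Type*} [Field F] [Fintype F] {m : ℕ} (hm : 1 ≤ m)
    (hp : (2 * m + 1).Prime) (hF : Fintype.card F = 2 ^ (2 * m + 1)) (x : ↥(Cfsg.Lie.Sz F (2 ^ (m + 1)))) :
    (orderOf x = 2 → Nat.card {y : ↥(Cfsg.Lie.Sz F (2 ^ (m + 1))) // Group.IsSolvable ↥(Subgroup.closure ({x, y} : Set (↥(Cfsg.Lie.Sz F (2 ^ (m + 1))))))} = (2 ^ (2 * m + 1)) ^ 2 * (4 * 2 ^ (2 * m + 1) - 3)) ∧
    (orderOf x = 4 → Nat.card {y : ↥(Cfsg.Lie.Sz F (2 ^ (m + 1))) // Group.IsSolvable ↥(Subgroup.closure ({x, y} : Set (↥(Cfsg.Lie.Sz F (2 ^ (m + 1))))))} = (2 ^ (2 * m + 1)) ^ 2 * (2 ^ (2 * m + 1) + 3)) ∧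
    (x ≠ 1 → orderOf x ∣ 2 ^ (2 * m + 1) - 1 →
      Nat.card {y : ↥(Cfsg.Lie.Sz F (2 ^ (m + 1))) // Group.IsSolvable ↥(Subgroup.closure ({x, y} : Set (↥(Cfsg.Lie.Sz F (2 ^ (m + 1))))))} = 2 * (2 ^ (2 * m + 1)) ^ 2 * (2 ^ (2 * m + 1) - 1)) ∧
    (x ≠ 1 → orderOf x ∣ 2 ^ (2 * m + 1) + 2 ^ (m + 1) + 1 → Nat.card {y : ↥(Cfsg.Lie.Sz F (2 ^ (m + 1))) // Group.IsSolvable ↥(Subgroup.closure ({x, y} : Set (↥(Cfsg.Lie.Sz F (2 ^ (m + 1))))))} = 4 * (2 ^ (2 * m + 1) + 2 ^ (m + 1) + 1)) ∧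
    (x ≠ 1 → orderOf x ∣ 2 ^ (2 * m + 1) - 2 ^ (m + 1) + 1 → Nat.card {y : ↥(Cfsg.Lie.Sz F (2 ^ (m + 1))) // Group.IsSolvable ↥(Subgroup.closure ({x, y} : Set (↥(Cfsg.Lie.Sz F (2 ^ (m + 1))))))} = 4 * (2 ^ (2 * m + 1) - 2 ^ (m + 1) + 1)) := by
  classical
  have := charP_of_card hF
  let θ : ↥(Cfsg.Lie.Sz F (2 ^ (m + 1))) ≃* Sz F m :=
    Cfsg.Agent.Lib.Helper5.SuzukiBridge.lieSzEquiv hm hF
  have hcard := sol_card_equiv θ x
  rw [← hcard]
  have hord : orderOf (θ x) = orderOf x := MulEquiv.orderOf_eq θ x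
  have hne : x ≠ 1 → θ x ≠ 1 := by
    intro h h'
    apply h
    apply θ.injective
    rw [h', map_one]
  refine ⟨?_, ?_, ?_, ?_, ?_⟩
  · intro h2
    rw [← hord] at h2
    have hx1 : θ x ≠ 1 := by
      intro h
      rw [h, orderOf_one] at h2
      omega
    have hx : θ x * θ x = 1 := by
      have h := pow_orderOf_eq_one (θ x)
      rw [h2, pow_two] at h
      exact h
    exact sol_card_invol m hF hm hp hx1 hx
  · intro h4
    rw [← hord] at h4
    have hx4 : (θ x) ^ 4 = 1 := by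
      have h := pow_orderOf_eq_one (θ x)
      rw [h4] at h
      exact h
    have hxx : θ x * θ x ≠ 1 := by
      intro h
      rw [← pow_two] at h
      have := orderOf_dvd_of_pow_eq_one h
      rw [h4] at this
      omega
    exact sol_card_order_four m hF hm hp hx4 hxx
  · intro hx1 hdvd
    rw [← hord] at hdvd
    exact sol_card_split m hF hm hp (hne hx1) (orderOf_dvd_iff_pow_eq_one.1 hdvd)
  · intro hx1 hdvd
    rw [← hord] at hdvd
    exact sol_card_torus m hF hm hp (hne hx1) (Or.inl rfl) (orderOf_dvd_iff_pow_eq_one.1 hdvd)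
  · intro hx1 hdvd
    rw [← hord] at hdvd
    exact sol_card_torus m hF hm hp (hne hx1) (Or.inr rfl) (orderOf_dvd_iff_pow_eq_one.1 hdvd)

end Cfsg.Agent.S2259
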