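import Cfsg.Statements.S2260
import Mathlib
import Cfsg.Agent.Lib.Helper5.Unipotent

set_option autoImplicit false
open Cfsg

namespace Cfsg.Agent.S2260

open Matrix Cfsg.Agent.Lib.Helper5.Unipotent

/-- Let F be a finite field of prime characteristic p and u an invertible d × d matrix over F with u − 1 nilpotent (a unipotent element). Then the order of u is at most p^⌈log_p d⌉; and if moreover (u − 1)^(d−1) ≠ 0 (u is a single Jordan block) then the order of u is exactly p^⌈log_p d⌉. -/
theorem result {F : Type*} [Field F] [Finite F] (p : ℕ) [Fact p.Prime] [CharP F p] (d : ℕ)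
    (u : GL (Fin d) F) (hu : IsNilpotent ((u : Matrix (Fin d) (Fin d) F) - 1)) :
    orderOf u ≤ p ^ Nat.clog p d ∧
    (((u : Matrix (Fin d) (Fin d) F) - 1) ^ (d - 1) ≠ 0 → orderOf u = p ^ Nat.clog p d) := by
  have hp : p.Prime := Fact.out
  have h1 : u ^ p ^ Nat.clog p d = 1 := pow_eq_one p u hu (Nat.le_pow_clog hp.one_lt d)
  have hdvd : orderOf u ∣ p ^ Nat.clog p d := orderOf_dvd_of_pow_eq_one h1
  refine ⟨Nat.le_of_dvd (pow_pos hp.pos _) hdvd, ?_⟩
  intro hne
  obtain ⟨j, hj, hju⟩ := (Nat.dvd_prime_pow hp).mp hdvd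
  rw [hju]
  by_contra hcon
  have hlt : j < Nat.clog p d := lt_of_le_of_ne hj (fun h => hcon (by rw [h]))
  have h2 : p ^ j < d := (Nat.lt_clog_iff_pow_lt hp.one_lt).mp hlt
  have h3 : u ^ p ^ j = 1 := by rw [← hju]; exact pow_orderOf_eq_one u
  have h4 := sub_one_pow_eq_zero p u h3
  apply hne
  have : d - 1 = p ^ j + (d - 1 - p ^ j) := by omega
  rw [this, pow_add, h4, zero_mul]

end Cfsg.Agent.S2260
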