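import Cfsg.Statements.S2264
import Cfsg.Agent.Lib.Helper5.MeoS.Mat

set_option autoImplicit false
open Cfsg

namespace Cfsg.Agent.S2264

open Cfsg.Agent.Lib.Helper5.MeoS

/-- Let F be a finite field with q elements and m ≥ 2. Then every element g of PSp_2m(F) satisfies (q − 1)·|g| ≤ q^(m+1), i.e. has order at most q^(m+1)/(q − 1). -/
theorem result {F : Type*} [Field F] [Fintype F] (m : ℕ) (hm : 2 ≤ m) (g : Cfsg.PSp m F) :
    (Fintype.card F - 1) * orderOf g ≤ Fintype.card F ^ (m + 1) := by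
  classical
  obtain ⟨A, rfl⟩ := QuotientGroup.mk_surjective g
  have hA : (A : Matrix (Fin m ⊕ Fin m) (Fin m ⊕ Fin m) F) ∈ Matrix.symplecticGroup (Fin m) F :=
    A.2
  have hJ : IsUnit (Matrix.J (Fin m) F).det := Matrix.isUnit_det_J (Fin m) F
  obtain ⟨hdet, hcp⟩ := charpoly_inv_eq_of_form (A : Matrix (Fin m ⊕ Fin m) (Fin m ⊕ Fin m) F)
    (Matrix.J (Fin m) F) hJ (SymplecticGroup.mem_iff'.1 hA)
  have hcard : Fintype.card (Fin m ⊕ Fin m) = m + m := by simp
  obtain ⟨k, ε, hk, hε, hle, hpow⟩ := matrix_core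
    (A : Matrix (Fin m ⊕ Fin m) (Fin m ⊕ Fin m) F) hdet hcp
    (Or.inl (by rw [hcard]; exact ⟨m, rfl⟩))
  have hm2 : (m + m) / 2 = m := by omega
  rw [hcard, hm2] at hle
  -- `A ^ k` is central
  have hcen : A ^ k ∈ Subgroup.center (Matrix.symplecticGroup (Fin m) F) := by
    rw [Subgroup.mem_center_iff]
    intro B
    apply Subtype.ext
    rw [Submonoid.coe_mul, Submonoid.coe_mul, SubmonoidClass.coe_pow, hpow]
    rw [Matrix.mul_smul, Matrix.smul_mul, Matrix.mul_one, Matrix.one_mul]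
  have h1 : (QuotientGroup.mk A : Cfsg.PSp m F) ^ k = 1 := by
    rw [← QuotientGroup.mk_pow]
    exact (QuotientGroup.eq_one_iff _).2 hcen
  have h2 : orderOf (QuotientGroup.mk A : Cfsg.PSp m F) ≤ k :=
    Nat.le_of_dvd hk (orderOf_dvd_of_pow_eq_one h1)
  have hq : 1 ≤ Fintype.card F := Fintype.card_pos
  have h3 := Bq_mul (Fintype.card F) m hq
  calc (Fintype.card F - 1) * orderOf (QuotientGroup.mk A : Cfsg.PSp m F)
      ≤ (Fintype.card F - 1) * Bq (Fintype.card F) m :=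
        Nat.mul_le_mul_left _ (h2.trans hle)
    _ ≤ Fintype.card F ^ (m + 1) := by omega

end Cfsg.Agent.S2264
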