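import Cfsg.Statements.S2265
import Cfsg.Agent.Lib.Helper5.MeoS.Forms

set_option autoImplicit false
open Cfsg

namespace Cfsg.Agent.S2265

open Cfsg.Agent.Lib.Helper5.MeoS

/-- Let F be a finite field with q elements. Every element g of PΩ_(2m+1)(F) (m ≥ 3, q odd), of PΩ⁺_2m(F) (m ≥ 4), or of PΩ⁻_2m(F) (m ≥ 4, the form having an anisotropic binary part) satisfies (q − 1)·|g| ≤ q^(m+1), i.e. has order at most q^(m+1)/(q − 1). -/
theorem result {F : Type*} [Field F] [Fintype F] (m : ℕ) :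
    (3 ≤ m → Odd (Fintype.card F) → ∀ g : Cfsg.POmega F (Cfsg.quadFormOdd m F),
      (Fintype.card F - 1) * orderOf g ≤ Fintype.card F ^ (m + 1)) ∧
    (4 ≤ m → ∀ g : Cfsg.POmega F (Cfsg.quadFormPlus m F),
      (Fintype.card F - 1) * orderOf g ≤ Fintype.card F ^ (m + 1)) ∧
    (4 ≤ m → ∀ a b : F, (∀ z₁ z₂ : F, z₁ ^ 2 + a * z₁ * z₂ + b * z₂ ^ 2 = 0 → z₁ = 0 ∧ z₂ = 0) →
      ∀ g : Cfsg.POmega F (Cfsg.quadFormMinus (m - 1) F a b),
      (Fintype.card F - 1) * orderOf g ≤ Fintype.card F ^ (m + 1)) := by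
  refine ⟨?_, ?_, ?_⟩
  · intro hm hodd g
    have hcard : Fintype.card (Unit ⊕ (Fin m ⊕ Fin m)) = 1 + (m + m) := by simp
    have h := pomega_bound (Cfsg.quadFormOdd m F) (GramOdd m F)
      (isUnit_det_GramOdd m (two_ne_zero_of_odd_card hodd)) (polar_odd m)
      (Or.inr ⟨hodd, by rw [hcard]; omega⟩) g
    have e : (1 + (m + m)) / 2 = m := by omega
    rw [hcard, e] at h
    exact h
  · intro hm g
    have hcard : Fintype.card (Fin m ⊕ Fin m) = m + m := by simp
    have h := pomega_bound (Cfsg.quadFormPlus m F) (Hyp m F) (isUnit_det_Hyp m) (polar_plus m)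
      (Or.inl (by rw [hcard]; exact ⟨m, rfl⟩)) g
    have e : (m + m) / 2 = m := by omega
    rw [hcard, e] at h
    exact h
  · intro hm a b hab g
    have hcard : Fintype.card ((Fin (m - 1) ⊕ Fin (m - 1)) ⊕ Fin 2) = (m - 1) + (m - 1) + 2 := by
      simp
    have h := pomega_bound (Cfsg.quadFormMinus (m - 1) F a b) (GramMinus (m - 1) F a b)
      (isUnit_det_GramMinus (m - 1) a b (disc_ne_zero a b hab)) (polar_minus (m - 1) a b)
      (Or.inl (by rw [hcard]; exact ⟨m, by omega⟩)) g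
    have e : ((m - 1) + (m - 1) + 2) / 2 = m := by omega
    rw [hcard, e] at h
    exact h

end Cfsg.Agent.S2265
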