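import Cfsg.Statements.S2268
import Mathlib

set_option autoImplicit false
open Cfsg

namespace Cfsg.Agent.S2268

open scoped Pointwise

theorem conj_mem_centralizer {G : Type*} [Group G] (Q : Subgroup G) {n c : G}
    (hn : n ∈ Subgroup.normalizer (Q : Set G)) (hc : c ∈ Subgroup.centralizer (Q : Set G)) :
    n * c * n⁻¹ ∈ Subgroup.centralizer (Q : Set G) := by
  rw [Subgroup.mem_centralizer_iff] at hc ⊢
  intro q hq
  have hn' : n⁻¹ ∈ Subgroup.normalizer (Q : Set G) := inv_mem hn
  rw [Subgroup.mem_set_normalizer_iff] at hn'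
  have h1 : n⁻¹ * q * n⁻¹⁻¹ ∈ (Q : Set G) := (hn' q).mp hq
  have h2 := hc _ h1
  rw [inv_inv] at h2
  calc q * (n * c * n⁻¹) = n * ((n⁻¹ * q * n) * c) * n⁻¹ := by group
    _ = n * (c * (n⁻¹ * q * n)) * n⁻¹ := by rw [h2]
    _ = n * c * n⁻¹ * q := by group

/-- Let G be a finite group with an abelian Sylow p-subgroup P and let Q ≤ P. Then N_G(Q) = (N_G(Q) ∩ N_G(P))·C_G(Q), so that N_G(Q)/C_G(Q) is a homomorphic image of the subgroup (N_G(Q) ∩ N_G(P))/C_G(P) of N_G(P)/C_G(P); in particular the order of N_G(Q)/C_G(Q) divides the order of N_G(P)/C_G(P). -/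
theorem result {G : Type*} [Group G] [Finite G] {p : ℕ} [Fact p.Prime]
    (P : Sylow p G) (hP : IsMulCommutative (P : Subgroup G)) (Q : Subgroup G) (hQ : Q ≤ (P : Subgroup G)) :
    Subgroup.normalizer (Q : Set G) =
      (Subgroup.normalizer (Q : Set G) ⊓ Subgroup.normalizer ((P : Subgroup G) : Set G)) ⊔ Subgroup.centralizer (Q : Set G) ∧
    ((Subgroup.centralizer (Q : Set G)).subgroupOf (Subgroup.normalizer (Q : Set G))).index ∣ ((Subgroup.centralizer ((P : Subgroup G) : Set G)).subgroupOf (Subgroup.normalizer ((P : Subgroup G) : Set G))).index := by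
  set N := Subgroup.normalizer (Q : Set G) with hN
  set C := Subgroup.centralizer (Q : Set G) with hC
  set NP := Subgroup.normalizer ((P : Subgroup G) : Set G) with hNP
  set CP := Subgroup.centralizer ((P : Subgroup G) : Set G) with hCP
  have hcomm : ∀ x ∈ (P : Subgroup G), ∀ y ∈ (P : Subgroup G), x * y = y * x := by
    intro x hx y hy
    have := hP.is_comm.comm (⟨x, hx⟩ : (P : Subgroup G)) ⟨y, hy⟩
    exact congrArg Subtype.val this
  have hPC : (P : Subgroup G) ≤ C := by
    intro x hx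
    rw [hC, Subgroup.mem_centralizer_iff]
    intro q hq
    exact hcomm q (hQ hq) x hx
  have hCN : C ≤ N := Subgroup.centralizer_le_normalizer _
  have hCPC : CP ≤ C := Subgroup.centralizer_le (by exact_mod_cast hQ)
  have hCPNP : CP ≤ NP := Subgroup.centralizer_le_normalizer _
  have part1 : N = (N ⊓ NP) ⊔ C := by
    apply le_antisymm
    · intro g hg
      -- g • P ≤ C
      have h2 : ((g • P : Sylow p G) : Subgroup G) ≤ C := by
        intro x hx
        rw [Sylow.coe_subgroup_smul, Subgroup.mem_smul_pointwise_iff_exists] at hx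
        obtain ⟨y, hy, rfl⟩ := hx
        rw [MulAut.smul_def, MulAut.conj_apply]
        exact conj_mem_centralizer Q hg (hPC hy)
      obtain ⟨c, hc⟩ := MulAction.exists_smul_eq C ((g • P).subtype h2) (P.subtype hPC)
      rw [Sylow.smul_subtype] at hc
      have h3 := Sylow.subtype_injective hc
      have h4 : ((c : G) * g) • P = P := by rw [mul_smul]; exact h3
      rw [Sylow.smul_eq_iff_mem_normalizer] at h4
      have h5 : (c : G) * g ∈ N ⊓ NP := ⟨mul_mem (hCN c.2) hg, h4⟩
      have e : g = (c : G)⁻¹ * ((c : G) * g) := by group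
      rw [e]
      exact mul_mem ((le_sup_right : C ≤ (N ⊓ NP) ⊔ C) (inv_mem c.2))
        ((le_sup_left : N ⊓ NP ≤ (N ⊓ NP) ⊔ C) h5)
    · exact sup_le inf_le_left hCN
  refine ⟨part1, ?_⟩
  change C.relIndex N ∣ CP.relIndex NP
  set A := N ⊓ NP with hA
  have hAN : A ≤ N := inf_le_left
  have hANP : A ≤ NP := inf_le_right
  have hCPA : CP ≤ A := le_inf (hCPC.trans hCN) hCPNP
  -- C.relIndex N = C.relIndex A
  have hnormal : (C.subgroupOf N).Normal := by
    constructor
    intro c hc n
    rw [Subgroup.mem_subgroupOf] at hc ⊢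
    simp only [Subgroup.coe_mul, Subgroup.coe_inv]
    exact conj_mem_centralizer Q n.2 hc
  have h1 : C.relIndex N = C.relIndex A := by
    have e1 : C.relIndex N = (C.subgroupOf N).relIndex ((A ⊔ C).subgroupOf N) := by
      rw [Subgroup.relIndex_subgroupOf (le_of_eq part1.symm), ← part1]
    rw [e1, Subgroup.subgroupOf_sup hAN hCN, Subgroup.relIndex_sup_right,
      Subgroup.relIndex_subgroupOf hAN]
  rw [h1]
  have h2 : CP.relIndex (C ⊓ A) * (C ⊓ A).relIndex A = CP.relIndex A :=
    Subgroup.relIndex_mul_relIndex _ _ _ (le_inf hCPC hCPA) inf_le_right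
  have h3 : CP.relIndex A * A.relIndex NP = CP.relIndex NP :=
    Subgroup.relIndex_mul_relIndex _ _ _ hCPA hANP
  rw [Subgroup.inf_relIndex_right] at h2
  rw [← h3, ← h2]
  exact dvd_mul_of_dvd_left (Dvd.intro_left _ rfl) _

end Cfsg.Agent.S2268
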