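import Cfsg.Statements.S2269
import Mathlib

set_option autoImplicit false
open Cfsg

namespace Cfsg.Agent.S2269

theorem conj_pow {G : Type*} [Group G] (x ν : G) (h : ν⁻¹ * x * ν = x⁻¹) (j : ℕ) :
    (ν ^ j)⁻¹ * x * ν ^ j = if Even j then x else x⁻¹ := by
  induction j with
  | zero => simp
  | succ j ih =>
    have : (ν ^ (j + 1))⁻¹ * x * ν ^ (j + 1) = ν⁻¹ * ((ν ^ j)⁻¹ * x * ν ^ j) * ν := by
      rw [pow_succ]; group
    rw [this, ih]
    by_cases hj : Even j
    · rw [if_pos hj, if_neg (by rw [Nat.even_add_one]; exact not_not.2 hj), h]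
    · rw [if_neg hj, if_pos (by rw [Nat.even_add_one]; exact hj)]
      have : ν⁻¹ * x⁻¹ * ν = (ν⁻¹ * x * ν)⁻¹ := by group
      rw [this, h, inv_inv]

theorem even_index {G : Type*} [Group G] [Finite G] {p : ℕ} [Fact p.Prime] (P : Sylow p G)
    [IsMulCommutative (P : Subgroup G)] (x g : G) (hx : x ∈ P) (hg : g⁻¹ * x * g = x⁻¹) (hne : x ≠ x⁻¹) :
    2 ∣ ((Subgroup.centralizer ((P : Subgroup G) : Set G)).subgroupOf
      (Subgroup.normalizer ((P : Subgroup G) : Set G))).index := by
  obtain ⟨ν, hν, hνx⟩ := P.conj_eq_normalizer_conj_of_mem x g hx (by rw [hg]; exact inv_mem hx)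
  rw [hg] at hνx
  have hpow := conj_pow x ν hνx.symm
  rw [Subgroup.index_eq_card]
  let q : (Subgroup.normalizer ((P : Subgroup G) : Set G)) ⧸
      ((Subgroup.centralizer ((P : Subgroup G) : Set G)).subgroupOf
        (Subgroup.normalizer ((P : Subgroup G) : Set G))) := QuotientGroup.mk ⟨ν, hν⟩
  have heven : Even (orderOf q) := by
    by_contra hodd
    have h1 : q ^ orderOf q = 1 := pow_orderOf_eq_one q
    have h2 : (⟨ν, hν⟩ : Subgroup.normalizer ((P : Subgroup G) : Set G)) ^ orderOf q ∈
        (Subgroup.centralizer ((P : Subgroup G) : Set G)).subgroupOf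
          (Subgroup.normalizer ((P : Subgroup G) : Set G)) := by
      rw [← QuotientGroup.eq_one_iff]
      exact h1
    rw [Subgroup.mem_subgroupOf] at h2
    have h3 : ν ^ orderOf q ∈ Subgroup.centralizer ((P : Subgroup G) : Set G) := by
      simpa using h2
    have h4 := Subgroup.mem_centralizer_iff.1 h3 x hx
    have h5 := hpow (orderOf q)
    rw [if_neg hodd] at h5
    apply hne
    rw [← h5, mul_assoc, h4, ← mul_assoc, inv_mul_cancel, one_mul]
  exact (even_iff_two_dvd.1 heven).trans (orderOf_dvd_natCard q)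

theorem exists_conj_inv (n : ℕ) (p : ℕ) (hp : p.Prime) (hp2 : p ≠ 2) (h2p : 2 * p ≤ n)
    (σ : Equiv.Perm (Fin n)) (hσ : orderOf σ = p) :
    ∃ g : Equiv.Perm (Fin n), Equiv.Perm.sign g = 1 ∧ g⁻¹ * σ * g = σ⁻¹ := by
  have hconj : IsConj σ σ⁻¹ := by
    rw [Equiv.Perm.isConj_iff_cycleType_eq, Equiv.Perm.cycleType_inv]
  obtain ⟨τ, hτ⟩ := isConj_iff.1 hconj
  have hp3 : 3 ≤ p := by
    have := hp.two_le
    omega
  have hnot : ¬ (Subgroup.centralizer {σ} ≤ alternatingGroup (Fin n)) := by
    intro hle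
    rw [Equiv.Perm.centralizer_le_alternating_iff] at hle
    obtain ⟨_, hcard, hcount⟩ := hle
    obtain ⟨k, hk⟩ := Equiv.Perm.cycleType_prime_order (σ := σ) (by rw [hσ]; exact hp)
    rw [hσ] at hk
    have h1 := hcount p
    rw [hk, Multiset.count_replicate_self] at h1
    have hk0 : k = 0 := by omega
    rw [hk, hk0] at hcard
    simp at hcard
    omega
  obtain ⟨c, hc, hc'⟩ := SetLike.not_le_iff_exists.1 hnot
  have hcσ : c * σ = σ * c := by
    have := Subgroup.mem_centralizer_iff.1 hc σ rfl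
    exact this.symm
  have hsc : Equiv.Perm.sign c = -1 := by
    rw [Equiv.Perm.mem_alternatingGroup] at hc'
    rcases Int.units_eq_one_or (Equiv.Perm.sign c) with h | h
    · exact absurd h hc'
    · exact h
  rcases Int.units_eq_one_or (Equiv.Perm.sign τ) with h | h
  · refine ⟨τ⁻¹, by simp [h], ?_⟩
    rw [inv_inv]; exact hτ
  · refine ⟨c * τ⁻¹, by simp [h, hsc], ?_⟩
    rw [mul_inv_rev, inv_inv, ← hτ]
    have : c⁻¹ * σ * c = σ := by
      rw [mul_assoc, ← hcσ, ← mul_assoc, inv_mul_cancel, one_mul]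
    calc τ * c⁻¹ * σ * (c * τ⁻¹) = τ * (c⁻¹ * σ * c) * τ⁻¹ := by group
      _ = τ * σ * τ⁻¹ := by rw [this]

theorem two_mul_card_alt (n : ℕ) (hn : 5 ≤ n) :
    2 * Nat.card (alternatingGroup (Fin n)) = n.factorial := by
  have : Nontrivial (Fin n) := Fin.nontrivial_iff_two_le.2 (by omega)
  rw [two_mul_nat_card_alternatingGroup, Nat.card_perm, Nat.card_eq_fintype_card, Fintype.card_fin]

theorem sq_dvd_factorial {p n : ℕ} (hp : p.Prime) (h : p ^ 2 ∣ n.factorial) : 2 * p ≤ n := by
  by_contra hlt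
  push Not at hlt
  have hp2 := hp.two_le
  have hlog : Nat.log p n < 2 := by
    apply Nat.log_lt_of_lt_pow'
    · norm_num
    · nlinarith
  rw [hp.pow_dvd_factorial_iff hlog] at h
  have : ∑ i ∈ Finset.Ico 1 2, n / p ^ i = n / p := by
    simp
  rw [this] at h
  have : n / p < 2 := by
    rw [Nat.div_lt_iff_lt_mul hp.pos]
    omega
  omega

theorem odd_case (n : ℕ) (hn : 5 ≤ n) {p : ℕ} [hpf : Fact p.Prime] (hp2 : p ≠ 2)
    (P : Sylow p (alternatingGroup (Fin n)))
    (hP : IsMulCommutative (P : Subgroup (alternatingGroup (Fin n)))) :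
    2 ∣ ((Subgroup.centralizer ((P : Subgroup (alternatingGroup (Fin n))) :
      Set (alternatingGroup (Fin n)))).subgroupOf
      (Subgroup.normalizer ((P : Subgroup (alternatingGroup (Fin n))) :
        Set (alternatingGroup (Fin n))))).index ∨
      IsCyclic (P : Subgroup (alternatingGroup (Fin n))) := by
  have hp := hpf.out
  by_cases h2p : 2 * p ≤ n
  · left
    have hdvd : p ∣ Nat.card (alternatingGroup (Fin n)) := by
      have h1 : p ∣ 2 * Nat.card (alternatingGroup (Fin n)) := by
        rw [two_mul_card_alt n hn]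
        exact hp.dvd_factorial.2 (by omega)
      rcases (Nat.Prime.dvd_mul hp).1 h1 with h | h
      · exact absurd ((Nat.prime_dvd_prime_iff_eq hp Nat.prime_two).1 h) hp2
      · exact h
    have hne := P.ne_bot_of_dvd_card hdvd
    have hcardP : p ∣ Nat.card (P : Subgroup (alternatingGroup (Fin n))) := by
      rcases P.isPGroup'.card_eq_or_dvd with h | h
      · exact absurd ((Subgroup.card_eq_one).1 h) hne
      · exact h
    obtain ⟨x, hx⟩ := exists_prime_orderOf_dvd_card' p hcardP
    have hxo : orderOf ((x : alternatingGroup (Fin n)) : Equiv.Perm (Fin n)) = p := by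
      rw [Subgroup.orderOf_coe, Subgroup.orderOf_coe, hx]
    obtain ⟨g, hg1, hg2⟩ := exists_conj_inv n p hp hp2 h2p _ hxo
    refine even_index P (x : alternatingGroup (Fin n)) ⟨g, Equiv.Perm.mem_alternatingGroup.2 hg1⟩
      x.2 ?_ ?_
    · apply Subtype.ext
      simpa using hg2
    · intro h
      have h2 : (x : alternatingGroup (Fin n)) ^ 2 = 1 := by
        rw [pow_two]
        nth_rewrite 2 [h]
        exact mul_inv_cancel _
      have h3 : orderOf (x : alternatingGroup (Fin n)) ∣ 2 := orderOf_dvd_of_pow_eq_one h2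
      rw [Subgroup.orderOf_coe, hx] at h3
      exact hp2 ((Nat.prime_dvd_prime_iff_eq hp Nat.prime_two).1 h3)
  · right
    obtain ⟨k, hk⟩ := (IsPGroup.iff_card).1 P.isPGroup'
    have hk1 : k ≤ 1 := by
      by_contra hk2
      push Not at hk2
      apply h2p
      apply sq_dvd_factorial hp
      have h1 : p ^ 2 ∣ p ^ k := pow_dvd_pow p hk2
      have h2 : p ^ k ∣ Nat.card (alternatingGroup (Fin n)) := by
        rw [← hk]; exact Subgroup.card_subgroup_dvd_card _
      rw [← two_mul_card_alt n hn]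
      exact (h1.trans h2).trans (Dvd.intro_left 2 rfl)
    interval_cases k
    · have : Subsingleton (P : Subgroup (alternatingGroup (Fin n))) := by
        have hk' : Nat.card (P : Subgroup (alternatingGroup (Fin n))) = 1 := by simpa using hk
        exact (Nat.card_eq_one_iff_unique.1 hk').1
      exact isCyclic_of_subsingleton
    · rw [pow_one] at hk
      exact isCyclic_of_prime_card hk

theorem not_comm_sylow {G : Type*} [Group G] [Finite G] {p : ℕ} [Fact p.Prime] (D : Subgroup G)
    (hD : IsPGroup p D) (a b : G) (ha : a ∈ D) (hb : b ∈ D) (hab : a * b ≠ b * a) (P : Sylow p G) :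
    ¬ IsMulCommutative (P : Subgroup G) := by
  intro hP
  obtain ⟨Q, hQ⟩ := hD.exists_le_sylow
  obtain ⟨g, hg⟩ := MulAction.exists_smul_eq G P Q
  have ha' : a ∈ (Q : Subgroup G) := hQ ha
  have hb' : b ∈ (Q : Subgroup G) := hQ hb
  rw [← hg, Sylow.coe_subgroup_smul, Subgroup.mem_pointwise_smul_iff_inv_smul_mem] at ha' hb'
  have h := hP.is_comm.comm ⟨_, ha'⟩ ⟨_, hb'⟩
  have h' := congrArg Subtype.val h
  simp only [Subgroup.coe_mul, MulAut.smul_def, MulAut.inv_apply, MulAut.conj_symm_apply] at h'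
  apply hab
  have e1 : a * b = g * ((g⁻¹ * a * g) * (g⁻¹ * b * g)) * g⁻¹ := by group
  have e2 : b * a = g * ((g⁻¹ * b * g) * (g⁻¹ * a * g)) * g⁻¹ := by group
  rw [e1, e2, h']

/-- element of order 4 in `A₆` -/
def a6 : Equiv.Perm (Fin 6) := Equiv.swap 0 1 * Equiv.swap 1 2 * Equiv.swap 2 3 * Equiv.swap 4 5

/-- involution of `A₆` inverting `a6` -/
def b6 : Equiv.Perm (Fin 6) := Equiv.swap 0 2 * Equiv.swap 4 5

theorem a6_sign : Equiv.Perm.sign a6 = 1 := by decide
theorem b6_sign : Equiv.Perm.sign b6 = 1 := by decide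
theorem a6_pow : a6 ^ 4 = 1 := by decide
theorem b6_pow : b6 ^ 2 = 1 := by decide
theorem b6_conj : b6 * a6 * b6⁻¹ = a6⁻¹ := by decide
theorem a6_ne : a6 * b6 ≠ b6 * a6 := by decide

theorem two_case_ge_six (n : ℕ) (hn : 6 ≤ n) (P : Sylow 2 (alternatingGroup (Fin n))) :
    ¬ IsMulCommutative (P : Subgroup (alternatingGroup (Fin n))) := by
  classical
  let ψ : Equiv.Perm (Fin 6) →* Equiv.Perm (Fin n) :=
    Equiv.Perm.extendDomainHom (Fin.castLEOrderIso hn).toEquiv
  have hψinj : Function.Injective ψ := Equiv.Perm.extendDomainHom_injective _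
  have hsign : ∀ e, Equiv.Perm.sign (ψ e) = Equiv.Perm.sign e := fun e =>
    Equiv.Perm.sign_extendDomain e _
  let A : alternatingGroup (Fin n) :=
    ⟨ψ a6, Equiv.Perm.mem_alternatingGroup.2 (by rw [hsign, a6_sign])⟩
  let B : alternatingGroup (Fin n) :=
    ⟨ψ b6, Equiv.Perm.mem_alternatingGroup.2 (by rw [hsign, b6_sign])⟩
  have hA4 : A ^ 4 = 1 := by
    apply Subtype.ext
    change (ψ a6) ^ 4 = 1
    rw [← map_pow, a6_pow, map_one]
  have hB2 : B ^ 2 = 1 := by
    apply Subtype.ext
    change (ψ b6) ^ 2 = 1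
    rw [← map_pow, b6_pow, map_one]
  have hconj : B * A * B⁻¹ = A⁻¹ := by
    apply Subtype.ext
    change ψ b6 * ψ a6 * (ψ b6)⁻¹ = (ψ a6)⁻¹
    rw [← map_inv, ← map_inv, ← map_mul, ← map_mul, b6_conj]
  have hne : A * B ≠ B * A := by
    intro h
    have h' : ψ (a6 * b6) = ψ (b6 * a6) := by
      rw [map_mul, map_mul]
      exact congrArg Subtype.val h
    exact a6_ne (hψinj h')
  have hpA : IsPGroup 2 (Subgroup.zpowers A) := by
    rw [IsPGroup.iff_card, Nat.card_zpowers]
    have : orderOf A ∣ 2 ^ 2 := orderOf_dvd_of_pow_eq_one (by simpa using hA4)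
    exact (Nat.dvd_prime_pow Nat.prime_two).1 this |>.imp fun k hk => hk.2
  have hpB : IsPGroup 2 (Subgroup.zpowers B) := by
    rw [IsPGroup.iff_card, Nat.card_zpowers]
    have : orderOf B ∣ 2 ^ 1 := orderOf_dvd_of_pow_eq_one (by simpa using hB2)
    exact (Nat.dvd_prime_pow Nat.prime_two).1 this |>.imp fun k hk => hk.2
  have hnorm : Subgroup.zpowers B ≤ Subgroup.normalizer ((Subgroup.zpowers A : Subgroup _) : Set _) := by
    rw [Subgroup.zpowers_le]
    apply Subgroup.mem_normalizer_fintype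
    intro x hx
    obtain ⟨k, rfl⟩ := Subgroup.mem_zpowers_iff.1 hx
    have : B * A ^ k * B⁻¹ = (A⁻¹) ^ k := by
      rw [← hconj]
      simp [conj_zpow]
    rw [this]
    exact Subgroup.zpow_mem _ (Subgroup.inv_mem _ (Subgroup.mem_zpowers A)) k
  have hD := IsPGroup.to_sup_of_normal_right' hpB hpA hnorm
  exact not_comm_sylow _ hD A B
    ((le_sup_right : Subgroup.zpowers A ≤ _) (Subgroup.mem_zpowers A))
    ((le_sup_left : Subgroup.zpowers B ≤ _) (Subgroup.mem_zpowers B)) hne P

set_option maxRecDepth 100000 in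
theorem dec_sq : ∀ σ : Equiv.Perm (Fin 5), Equiv.Perm.sign σ = 1 → σ ^ 4 = 1 → σ ^ 2 = 1 := by
  decide

set_option maxRecDepth 100000 in
theorem dec_cent : ∀ t : Equiv.Perm (Fin 5), Equiv.Perm.sign t = 1 → t ≠ 1 → t ^ 2 = 1 →
    (Finset.univ.filter fun g : Equiv.Perm (Fin 5) =>
      Equiv.Perm.sign g = 1 ∧ g * t = t * g).card = 4 := by
  decide

set_option maxRecDepth 100000 in
theorem dec_norm : ∀ t u : Equiv.Perm (Fin 5), Equiv.Perm.sign t = 1 → Equiv.Perm.sign u = 1 →
    t ≠ 1 → u ≠ 1 → t ≠ u → t ^ 2 = 1 → u ^ 2 = 1 → t * u = u * t →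
    (Finset.univ.filter fun g : Equiv.Perm (Fin 5) => Equiv.Perm.sign g = 1 ∧
      (g * t * g⁻¹ = t ∨ g * t * g⁻¹ = u ∨ g * t * g⁻¹ = t * u) ∧
      (g * u * g⁻¹ = t ∨ g * u * g⁻¹ = u ∨ g * u * g⁻¹ = t * u)).card = 12 := by
  decide

theorem card_alt5 : Nat.card (alternatingGroup (Fin 5)) = 60 := by
  have := two_mul_card_alt 5 le_rfl
  have h : Nat.factorial 5 = 120 := by decide
  omega

theorem card_sylow5 (P : Sylow 2 (alternatingGroup (Fin 5))) :
    Nat.card (P : Subgroup (alternatingGroup (Fin 5))) = 4 := by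
  have h := P.card_eq_multiplicity
  rw [card_alt5] at h
  have h60 : (60 : ℕ).factorization 2 = 2 := by
    have : (60 : ℕ) = 2 ^ 2 * 15 := by norm_num
    rw [this, Nat.factorization_mul (by norm_num) (by norm_num), Nat.factorization_pow]
    simp [Nat.factorization_eq_zero_of_not_dvd (show ¬ 2 ∣ 15 by norm_num),
      Nat.prime_two.factorization_self]
  rw [h60] at h
  simpa using h

theorem sq_eq_one5 (P : Sylow 2 (alternatingGroup (Fin 5))) (x : alternatingGroup (Fin 5))
    (hx : x ∈ (P : Subgroup (alternatingGroup (Fin 5)))) : x ^ 2 = 1 := by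
  have h4 : x ^ 4 = 1 := by
    have := pow_card_eq_one' (G := (P : Subgroup (alternatingGroup (Fin 5)))) (x := ⟨x, hx⟩)
    rw [card_sylow5] at this
    exact congrArg Subtype.val this
  apply Subtype.ext
  have h4' : (x : Equiv.Perm (Fin 5)) ^ 4 = 1 := congrArg Subtype.val h4
  exact dec_sq x.1 (Equiv.Perm.mem_alternatingGroup.1 x.2) h4'

theorem five_klein (P : Sylow 2 (alternatingGroup (Fin 5))) :
    IsKleinFour (P : Subgroup (alternatingGroup (Fin 5))) := by
  refine ⟨card_sylow5 P, ?_⟩
  have h1 : Monoid.exponent (P : Subgroup (alternatingGroup (Fin 5))) ∣ 2 := by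
    apply Monoid.exponent_dvd_of_forall_pow_eq_one
    intro x
    apply Subtype.ext
    exact sq_eq_one5 P x.1 x.2
  rcases (Nat.dvd_prime Nat.prime_two).1 h1 with h | h
  · exfalso
    rw [Monoid.exp_eq_one_iff] at h
    have := card_sylow5 P
    rw [Nat.card_eq_one_iff_unique.2 ⟨h, ⟨1⟩⟩] at this
    omega
  · exact h

/-- the four elements -/
theorem exists_gens (P : Sylow 2 (alternatingGroup (Fin 5))) :
    ∃ t u : alternatingGroup (Fin 5), t ∈ (P : Subgroup _) ∧ u ∈ (P : Subgroup _) ∧ t ≠ 1 ∧ u ≠ 1 ∧ t ≠ u ∧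
      ∀ x ∈ (P : Subgroup (alternatingGroup (Fin 5))), x = 1 ∨ x = t ∨ x = u ∨ x = t * u := by
  classical
  have hc := card_sylow5 P
  have hfin : ((P : Subgroup (alternatingGroup (Fin 5))) : Set (alternatingGroup (Fin 5))).Finite :=
    Set.toFinite _
  have hnc : ((P : Subgroup (alternatingGroup (Fin 5))) : Set (alternatingGroup (Fin 5))).ncard = 4 := by
    rw [← hc]; rfl
  -- t
  obtain ⟨t, ht, ht1⟩ : ∃ t ∈ (P : Subgroup (alternatingGroup (Fin 5))), t ≠ 1 := by
    by_contra h
    push Not at h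
    have : ((P : Subgroup (alternatingGroup (Fin 5))) : Set (alternatingGroup (Fin 5))) ⊆ {1} := by
      intro x hx; exact h x hx
    have := Set.ncard_le_ncard this (Set.finite_singleton _)
    rw [hnc, Set.ncard_singleton] at this
    omega
  obtain ⟨u, hu, hu1, hut⟩ : ∃ u ∈ (P : Subgroup (alternatingGroup (Fin 5))), u ≠ 1 ∧ u ≠ t := by
    by_contra h
    push Not at h
    have : ((P : Subgroup (alternatingGroup (Fin 5))) : Set (alternatingGroup (Fin 5))) ⊆ {1, t} := by
      intro x hx
      by_cases hx1 : x = 1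
      · left; exact hx1
      · right; exact h x hx hx1
    have := Set.ncard_le_ncard this (Set.toFinite _)
    rw [hnc] at this
    have h2 := Set.ncard_insert_le (1 : alternatingGroup (Fin 5)) {t}
    rw [Set.ncard_singleton] at h2
    omega
  refine ⟨t, u, ht, hu, ht1, hu1, hut.symm, ?_⟩
  have ht2 := sq_eq_one5 P t ht
  have hu2 := sq_eq_one5 P u hu
  have hS : ({1, t, u, t * u} : Set (alternatingGroup (Fin 5))) ⊆
      ((P : Subgroup (alternatingGroup (Fin 5))) : Set (alternatingGroup (Fin 5))) := by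
    intro x hx
    rcases hx with rfl | rfl | rfl | rfl
    · exact Subgroup.one_mem _
    · exact ht
    · exact hu
    · exact Subgroup.mul_mem _ ht hu
  have htu1 : t * u ≠ 1 := by
    intro h
    apply hut
    have : u = t⁻¹ := (eq_inv_of_mul_eq_one_right h)
    rw [this]
    exact (eq_inv_of_mul_eq_one_left (by rw [← pow_two]; exact ht2)).symm
  have hcardS : ({1, t, u, t * u} : Set (alternatingGroup (Fin 5))).ncard = 4 := by
    rw [Set.ncard_insert_of_notMem, Set.ncard_insert_of_notMem, Set.ncard_pair]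
    · intro h
      apply ht1
      have h' : t * u = 1 * u := by rw [one_mul]; exact h.symm
      exact mul_right_cancel h'
    · intro h
      rcases h with h | h
      · exact hut h.symm
      · apply hu1
        have h' : t * u = t * 1 := by rw [mul_one]; exact h.symm
        exact mul_left_cancel h'
    · intro h
      rcases h with h | h | h
      · exact ht1 h.symm
      · exact hu1 h.symm
      · exact htu1 h.symm
  have := Set.eq_of_subset_of_ncard_le hS (by rw [hnc, hcardS]) hfin
  intro x hx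
  have hx' : x ∈ ({1, t, u, t * u} : Set (alternatingGroup (Fin 5))) := by rw [this]; exact hx
  simpa using hx'

theorem conj_eq_one {G : Type*} [Group G] (g t : G) (h : g * t * g⁻¹ = 1) : t = 1 := by
  have : t = g⁻¹ * (g * t * g⁻¹) * g := by group
  rw [this, h]; group

theorem mem_norm_iff (P : Sylow 2 (alternatingGroup (Fin 5))) (t u : alternatingGroup (Fin 5))
    (ht : t ∈ (P : Subgroup (alternatingGroup (Fin 5)))) (hu : u ∈ (P : Subgroup (alternatingGroup (Fin 5))))
    (ht1 : t ≠ 1) (hu1 : u ≠ 1)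
    (hall : ∀ x ∈ (P : Subgroup (alternatingGroup (Fin 5))), x = 1 ∨ x = t ∨ x = u ∨ x = t * u)
    (g : alternatingGroup (Fin 5)) :
    g ∈ Subgroup.normalizer ((P : Subgroup (alternatingGroup (Fin 5))) : Set (alternatingGroup (Fin 5))) ↔
      (g * t * g⁻¹ = t ∨ g * t * g⁻¹ = u ∨ g * t * g⁻¹ = t * u) ∧
      (g * u * g⁻¹ = t ∨ g * u * g⁻¹ = u ∨ g * u * g⁻¹ = t * u) := by
  constructor
  · intro hg
    rw [Subgroup.mem_normalizer_iff] at hg
    have h1 := (hg t).1 ht
    have h2 := (hg u).1 hu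
    refine ⟨?_, ?_⟩
    · rcases hall _ h1 with h | h | h | h
      · exact absurd (conj_eq_one g t h) ht1
      · exact Or.inl h
      · exact Or.inr (Or.inl h)
      · exact Or.inr (Or.inr h)
    · rcases hall _ h2 with h | h | h | h
      · exact absurd (conj_eq_one g u h) hu1
      · exact Or.inl h
      · exact Or.inr (Or.inl h)
      · exact Or.inr (Or.inr h)
  · rintro ⟨h1, h2⟩
    have htu : t * u ∈ (P : Subgroup (alternatingGroup (Fin 5))) := Subgroup.mul_mem _ ht hu
    have h1' : g * t * g⁻¹ ∈ (P : Subgroup (alternatingGroup (Fin 5))) := by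
      rcases h1 with h | h | h <;> rw [h] <;> assumption
    have h2' : g * u * g⁻¹ ∈ (P : Subgroup (alternatingGroup (Fin 5))) := by
      rcases h2 with h | h | h <;> rw [h] <;> assumption
    apply Subgroup.mem_normalizer_fintype
    intro x hx
    rcases hall x hx with rfl | rfl | rfl | rfl
    · simp
    · exact h1'
    · exact h2'
    · have : g * (t * u) * g⁻¹ = (g * t * g⁻¹) * (g * u * g⁻¹) := by group
      rw [this]
      exact Subgroup.mul_mem _ h1' h2'

theorem card_norm5 (P : Sylow 2 (alternatingGroup (Fin 5)))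
    (hP : IsMulCommutative (P : Subgroup (alternatingGroup (Fin 5)))) :
    Nat.card (Subgroup.normalizer ((P : Subgroup (alternatingGroup (Fin 5))) : Set (alternatingGroup (Fin 5)))) = 12 := by
  classical
  obtain ⟨t, u, ht, hu, ht1, hu1, htu, hall⟩ := exists_gens P
  have hcomm : t * u = u * t := by
    have := hP.is_comm.comm (⟨t, ht⟩ : (P : Subgroup (alternatingGroup (Fin 5)))) ⟨u, hu⟩
    exact congrArg Subtype.val this
  have hd := dec_norm t.1 u.1 (Equiv.Perm.mem_alternatingGroup.1 t.2)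
    (Equiv.Perm.mem_alternatingGroup.1 u.2)
    (fun h => ht1 (Subtype.ext h)) (fun h => hu1 (Subtype.ext h)) (fun h => htu (Subtype.ext h))
    (congrArg Subtype.val (sq_eq_one5 P t ht)) (congrArg Subtype.val (sq_eq_one5 P u hu))
    (congrArg Subtype.val hcomm)
  rw [← hd, ← Nat.card_eq_finsetCard]
  refine Nat.card_congr ?_
  refine
    { toFun := fun g => ⟨g.1.1, ?_⟩
      invFun := fun g => ⟨⟨g.1, ?_⟩, ?_⟩
      left_inv := fun g => rfl
      right_inv := fun g => rfl }
  · have := (mem_norm_iff P t u ht hu ht1 hu1 hall g.1).1 g.2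
    rw [Finset.mem_filter]
    refine ⟨Finset.mem_univ _, Equiv.Perm.mem_alternatingGroup.1 g.1.2, ?_, ?_⟩
    · rcases this.1 with h | h | h
      · exact Or.inl (congrArg Subtype.val h)
      · exact Or.inr (Or.inl (congrArg Subtype.val h))
      · exact Or.inr (Or.inr (congrArg Subtype.val h))
    · rcases this.2 with h | h | h
      · exact Or.inl (congrArg Subtype.val h)
      · exact Or.inr (Or.inl (congrArg Subtype.val h))
      · exact Or.inr (Or.inr (congrArg Subtype.val h))
  · exact Equiv.Perm.mem_alternatingGroup.2 (Finset.mem_filter.1 g.2).2.1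
  · have hg := (Finset.mem_filter.1 g.2).2
    rw [mem_norm_iff P t u ht hu ht1 hu1 hall]
    refine ⟨?_, ?_⟩
    · rcases hg.2.1 with h | h | h
      · exact Or.inl (Subtype.ext h)
      · exact Or.inr (Or.inl (Subtype.ext h))
      · exact Or.inr (Or.inr (Subtype.ext h))
    · rcases hg.2.2 with h | h | h
      · exact Or.inl (Subtype.ext h)
      · exact Or.inr (Or.inl (Subtype.ext h))
      · exact Or.inr (Or.inr (Subtype.ext h))

theorem card_cent5 (P : Sylow 2 (alternatingGroup (Fin 5)))
    (hP : IsMulCommutative (P : Subgroup (alternatingGroup (Fin 5)))) :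
    Nat.card (Subgroup.centralizer ((P : Subgroup (alternatingGroup (Fin 5))) : Set (alternatingGroup (Fin 5)))) = 4 := by
  classical
  obtain ⟨t, u, ht, hu, ht1, hu1, htu, hall⟩ := exists_gens P
  have hd := dec_cent t.1 (Equiv.Perm.mem_alternatingGroup.1 t.2)
    (fun h => ht1 (Subtype.ext h)) (congrArg Subtype.val (sq_eq_one5 P t ht))
  apply le_antisymm
  · rw [← hd, ← Nat.card_eq_finsetCard]
    refine Nat.card_le_card_of_injective (fun g => ⟨g.1.1, ?_⟩) ?_
    · rw [Finset.mem_filter]
      refine ⟨Finset.mem_univ _, Equiv.Perm.mem_alternatingGroup.1 g.1.2, ?_⟩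
      have := Subgroup.mem_centralizer_iff.1 g.2 t ht
      exact (congrArg Subtype.val this).symm
    · intro a b hab
      apply Subtype.ext
      apply Subtype.ext
      exact congrArg (fun z => z.1) hab
  · rw [← card_sylow5 P]
    apply Subgroup.card_le_of_le
    intro x hx
    rw [Subgroup.mem_centralizer_iff]
    intro y hy
    have := hP.is_comm.comm (⟨y, hy⟩ : (P : Subgroup (alternatingGroup (Fin 5)))) ⟨x, hx⟩
    exact congrArg Subtype.val this

theorem five_index (P : Sylow 2 (alternatingGroup (Fin 5)))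
    (hP : IsMulCommutative (P : Subgroup (alternatingGroup (Fin 5)))) :
    ((Subgroup.centralizer ((P : Subgroup (alternatingGroup (Fin 5))) : Set (alternatingGroup (Fin 5)))).subgroupOf
      (Subgroup.normalizer ((P : Subgroup (alternatingGroup (Fin 5))) : Set (alternatingGroup (Fin 5))))).index = 3 := by
  have hle : Subgroup.centralizer ((P : Subgroup (alternatingGroup (Fin 5))) : Set (alternatingGroup (Fin 5))) ≤
      Subgroup.normalizer ((P : Subgroup (alternatingGroup (Fin 5))) : Set (alternatingGroup (Fin 5))) :=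
    Subgroup.centralizer_le_normalizer _
  have h1 := Subgroup.card_mul_index
    ((Subgroup.centralizer ((P : Subgroup (alternatingGroup (Fin 5))) : Set (alternatingGroup (Fin 5)))).subgroupOf
      (Subgroup.normalizer ((P : Subgroup (alternatingGroup (Fin 5))) : Set (alternatingGroup (Fin 5)))))
  rw [Nat.card_congr (Subgroup.subgroupOfEquivOfLe hle).toEquiv, card_cent5 P hP, card_norm5 P hP] at h1
  omega

/-- Let n ≥ 5 and let P be an abelian Sylow p-subgroup of the alternating group A_n. Then N(P)/C(P) (taken in A_n) has even order, or P is cyclic, except when n = 5 and p = 2, where P is a four-group and N(P)/C(P) has order 3. -/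
theorem result (n : ℕ) (hn : 5 ≤ n) {p : ℕ} [Fact p.Prime]
    (P : Sylow p (alternatingGroup (Fin n))) (hP : IsMulCommutative (P : Subgroup (alternatingGroup (Fin n)))) :
    (¬ (n = 5 ∧ p = 2) → 2 ∣ ((Subgroup.centralizer ((P : Subgroup (alternatingGroup (Fin n))) : Set (alternatingGroup (Fin n)))).subgroupOf (Subgroup.normalizer ((P : Subgroup (alternatingGroup (Fin n))) : Set (alternatingGroup (Fin n))))).index ∨ IsCyclic (P : Subgroup (alternatingGroup (Fin n)))) ∧
    ((n = 5 ∧ p = 2) → ((Subgroup.centralizer ((P : Subgroup (alternatingGroup (Fin n))) : Set (alternatingGroup (Fin n)))).subgroupOf (Subgroup.normalizer ((P : Subgroup (alternatingGroup (Fin n))) : Set (alternatingGroup (Fin n))))).index = 3 ∧ IsKleinFour (P : Subgroup (alternatingGroup (Fin n)))) := by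
  by_cases hp2 : p = 2
  · subst hp2
    by_cases hn5 : n = 5
    · subst hn5
      exact ⟨fun h => absurd ⟨rfl, rfl⟩ h, fun _ => ⟨five_index P hP, five_klein P⟩⟩
    · exact absurd hP (two_case_ge_six n (by omega) P)
  · exact ⟨fun _ => odd_case n hn hp2 P hP, fun h => absurd h.2 hp2⟩

end Cfsg.Agent.S2269
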