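import Cfsg.Statements.S2270
import Mathlib
import Cfsg.Agent.S1244

set_option autoImplicit false
open Cfsg

namespace Cfsg.Agent.S2270

theorem result (n : ℕ) (hn : 3 ≤ n) {p : ℕ} [Fact p.Prime] (hp : p ≠ 2) (hpn : p ≤ n)
    (P : Sylow p (Equiv.Perm (Fin n))) (hP : IsMulCommutative (P : Subgroup (Equiv.Perm (Fin n)))) :
    2 ∣ ((Subgroup.centralizer ((P : Subgroup (Equiv.Perm (Fin n))) : Set (Equiv.Perm (Fin n)))).subgroupOf (Subgroup.normalizer ((P : Subgroup (Equiv.Perm (Fin n))) : Set (Equiv.Perm (Fin n))))).index := by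
  classical
  have hprime : p.Prime := Fact.out
  have hdvd : p ∣ Nat.card (Equiv.Perm (Fin n)) := by
    rw [Nat.card_perm, Nat.card_eq_fintype_card, Fintype.card_fin]
    exact (Nat.Prime.dvd_factorial hprime).2 hpn
  have hdvdP : p ∣ Nat.card (P : Subgroup (Equiv.Perm (Fin n))) := P.dvd_card_of_dvd_card hdvd
  obtain ⟨x, hx⟩ := exists_prime_orderOf_dvd_card' p hdvdP
  have hxo : orderOf (x : Equiv.Perm (Fin n)) = p := by rw [Subgroup.orderOf_coe]; exact hx
  have hconj : IsConj (x : Equiv.Perm (Fin n)) (x : Equiv.Perm (Fin n))⁻¹ := by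
    rw [Equiv.Perm.isConj_iff_cycleType_eq, Equiv.Perm.cycleType_inv]
  rw [isConj_iff] at hconj
  obtain ⟨g, hg⟩ := hconj
  have hcomm : ∀ a ∈ (P : Subgroup (Equiv.Perm (Fin n))), ∀ b ∈ (P : Subgroup (Equiv.Perm (Fin n))),
      a * b = b * a := by
    intro a ha b hb
    have := hP.is_comm.comm (⟨a, ha⟩ : (P : Subgroup (Equiv.Perm (Fin n)))) ⟨b, hb⟩
    exact congrArg Subtype.val this
  obtain ⟨t, ht, htx⟩ := Cfsg.Agent.S1244.burnside_fusion P hcomm x.2
    (by rw [hg]; exact inv_mem x.2)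
  rw [hg] at htx
  rw [← Subgroup.normalizerMonoidHom_ker, Subgroup.index_ker]
  set φ := (P : Subgroup (Equiv.Perm (Fin n))).normalizerMonoidHom with hφ
  have h1 : φ ⟨t, ht⟩ x = x⁻¹ := by
    apply Subtype.ext
    exact htx
  have h2 : ∀ k : ℕ, (φ ⟨t, ht⟩ ^ k) x = if Even k then x else x⁻¹ := by
    intro k
    induction k with
    | zero => simp
    | succ k ih =>
      rw [pow_succ', MulAut.mul_apply, ih]
      by_cases hk : Even k
      · rw [if_pos hk, h1, if_neg (by rw [Nat.even_add_one]; exact not_not.2 hk)]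
      · rw [if_neg hk, map_inv, h1, inv_inv, if_pos (by rw [Nat.even_add_one]; exact hk)]
  have h3 : Even (orderOf (φ ⟨t, ht⟩)) := by
    by_contra hodd
    have := h2 (orderOf (φ ⟨t, ht⟩))
    rw [pow_orderOf_eq_one, if_neg hodd, MulAut.one_apply] at this
    have hx2 : x ^ 2 = 1 := by
      rw [pow_two]
      nth_rewrite 1 [this]
      exact inv_mul_cancel x
    have := orderOf_dvd_of_pow_eq_one hx2
    rw [hx] at this
    have := (Nat.prime_dvd_prime_iff_eq hprime Nat.prime_two).1 this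
    exact hp this
  have h4 : orderOf (φ ⟨t, ht⟩) ∣ Nat.card φ.range := by
    have hm : φ ⟨t, ht⟩ ∈ φ.range := ⟨_, rfl⟩
    have : orderOf (⟨φ ⟨t, ht⟩, hm⟩ : φ.range) = orderOf (φ ⟨t, ht⟩) :=
      Subgroup.orderOf_mk (φ ⟨t, ht⟩) hm
    rw [← this]
    exact orderOf_dvd_natCard _
  exact dvd_trans (even_iff_two_dvd.1 h3) h4

end Cfsg.Agent.S2270
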