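import Mathlib
import Cfsg.Statements.S2277
import Cfsg.Agent.H1.NormalRankTwo

set_option autoImplicit false
open Cfsg

namespace Cfsg.Agent.S2277

section core

variable {P : Type*} [Group P] {N : Type*} [CommGroup N] [MulDistribMulAction P N]

/-- fixed points of an element -/
def Fx (g : P) : Subgroup N where
  carrier := {x | g • x = x}
  mul_mem' := by
    intro a b ha hb
    show g • (a * b) = a * b
    rw [smul_mul', ha, hb]
  one_mem' := smul_one g
  inv_mem' := by
    intro a ha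
    show g • a⁻¹ = a⁻¹
    rw [smul_inv', ha]

theorem mem_Fx (g : P) (x : N) : x ∈ Fx g ↔ g • x = x := Iff.rfl

/-- the stabilizer trick: if `g` and `h` fix `x`, so do products, inverses, powers -/
theorem stab_mem (x : N) (g : P) : g ∈ MulAction.stabilizer P x ↔ g • x = x := MulAction.mem_stabilizer_iff

/-- if `e ^ p = 1` and `e ^ j ∈ S` with `p ∤ j`, then `e ∈ S` -/
theorem mem_of_zpow_mem {p : ℕ} (hp : p.Prime) (S : Subgroup P) (e : P) (he : e ^ p = 1) (j : ℤ)
    (hj : ¬ (p : ℤ) ∣ j) (h : e ^ j ∈ S) : e ∈ S := by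
  have hcop : IsCoprime j (p : ℤ) := by
    rw [isCoprime_comm]
    exact (Int.isCoprime_iff_gcd_eq_one).2
      ((Nat.Prime.coprime_iff_not_dvd hp).2 (by
        intro hd
        exact hj (Int.natCast_dvd.2 hd))) 
  obtain ⟨r, s, hrs⟩ := hcop
  have : e = (e ^ j) ^ r * (e ^ (p : ℤ)) ^ s := by
    rw [← zpow_mul, ← zpow_mul, ← zpow_add, mul_comm j r, mul_comm (p : ℤ) s, hrs, zpow_one]
  rw [this, zpow_natCast, he, one_zpow, mul_one]
  exact S.zpow_mem h r

theorem mem_of_pow_mem {p : ℕ} (hp : p.Prime) (S : Subgroup P) (e : P) (he : e ^ p = 1) (j : ℕ)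
    (hj : ¬ p ∣ j) (h : e ^ j ∈ S) : e ∈ S := by
  apply mem_of_zpow_mem hp S e he (j : ℤ)
  · intro hd
    exact hj (Int.natCast_dvd_natCast.1 hd)
  · rwa [zpow_natCast]

variable (p : ℕ)

/-- the norm (trace) map of `h` -/
def tr (h : P) (x : N) : N := ∏ k ∈ Finset.range p, (h ^ k) • x

theorem tr_mul (h : P) (x y : N) : tr p h (x * y) = tr p h x * tr p h y := by
  unfold tr
  rw [← Finset.prod_mul_distrib]
  apply Finset.prod_congr rfl
  intro k _
  rw [smul_mul']

theorem tr_one (h : P) : tr p h (1 : N) = 1 := by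
  unfold tr
  apply Finset.prod_eq_one
  intro k _
  rw [smul_one]

theorem smul_tr (g h : P) (x : N) : g • tr p h x = tr p (g * h * g⁻¹) (g • x) := by
  unfold tr
  rw [Finset.smul_prod']
  apply Finset.prod_congr rfl
  intro k _
  rw [conj_pow, ← mul_smul, ← mul_smul]
  congr 1
  group

theorem tr_mem_Fx (h : P) (hh : h ^ p = 1) (x : N) : tr p h x ∈ Fx h := by
  rw [mem_Fx]
  unfold tr
  rw [Finset.smul_prod']
  have h1 : ∀ k, h • (h ^ k • x) = h ^ (k + 1) • x := by
    intro k
    rw [← mul_smul, ← pow_succ']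
  simp_rw [h1]
  have h2 := Finset.prod_range_succ' (fun k => h ^ k • x) p
  have h3 := Finset.prod_range_succ (fun k => h ^ k • x) p
  rw [h3] at h2
  simp only [hh, pow_zero] at h2
  exact (mul_right_cancel h2).symm

theorem tr_of_mem_Fx (h : P) (x : N) (hx : x ∈ Fx h) : tr p h x = x ^ p := by
  unfold tr
  have : ∀ k, h ^ k • x = x := by
    intro k
    induction k with
    | zero => rw [pow_zero, one_smul]
    | succ k ih => rw [pow_succ, mul_smul, (mem_Fx h x).1 hx, ih]
  simp_rw [this]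
  rw [Finset.prod_const, Finset.card_range]

end core


section core2

variable {P : Type*} [Group P] {N : Type*} [CommGroup N] [MulDistribMulAction P N]
variable {p : ℕ}

theorem Fx_one_top (x : N) : x ∈ Fx (1 : P) := by
  rw [mem_Fx, one_smul]

/-- identity (i) -/
theorem prod_tr (hp : p.Prime) (e z : P) (hez : Commute e z) (hz : z ^ p = 1)
    (hFz : (Fx z : Subgroup N) = ⊥) (x : N) :
    ∏ i ∈ Finset.range p, tr p (e * z ^ i) x = x ^ p := by
  have h1 : ∀ i, tr p (e * z ^ i) x = ∏ k ∈ Finset.range p, e ^ k • ((z ^ k) ^ i • x) := by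
    intro i
    unfold tr
    apply Finset.prod_congr rfl
    intro k _
    rw [(hez.pow_right i).mul_pow, mul_smul, ← pow_mul, ← pow_mul, mul_comm i k]
  simp_rw [h1]
  rw [Finset.prod_comm]
  have h2 : ∀ k, ∏ i ∈ Finset.range p, e ^ k • ((z ^ k) ^ i • x) = e ^ k • tr p (z ^ k) x := by
    intro k
    unfold tr
    rw [Finset.smul_prod']
  simp_rw [h2]
  rw [Finset.prod_eq_single_of_mem 0 (Finset.mem_range.2 hp.pos)]
  · rw [pow_zero, one_smul, pow_zero, tr_of_mem_Fx p 1 x (Fx_one_top x)]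
  · intro k hk hk0
    have hk' := Finset.mem_range.1 hk
    have hmem : tr p (z ^ k) x ∈ Fx (z ^ k) := by
      apply tr_mem_Fx
      rw [← pow_mul, mul_comm, pow_mul, hz, one_pow]
    have hz' : z ∈ MulAction.stabilizer P (tr p (z ^ k) x) := by
      apply mem_of_pow_mem hp _ z hz k
      · intro hd
        exact absurd (Nat.le_of_dvd (Nat.pos_of_ne_zero hk0) hd) (by omega)
      · exact (stab_mem _ _).2 ((mem_Fx _ _).1 hmem)
    have : tr p (z ^ k) x ∈ (Fx z : Subgroup N) := (mem_Fx _ _).2 ((stab_mem _ _).1 hz')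
    rw [hFz, Subgroup.mem_bot] at this
    rw [this, smul_one]

/-- identity (ii) -/
theorem tr_eq_one_of_mem (hp : p.Prime) (e z : P) (hez : Commute e z) (hz : z ^ p = 1) (he : e ^ p = 1)
    (hFz : (Fx z : Subgroup N) = ⊥) (i j : ℕ) (hi : i < p) (hj : j < p) (hij : i ≠ j) (u : N)
    (hu : u ∈ Fx (e * z ^ j)) : tr p (e * z ^ i) u = 1 := by
  have hpow : ∀ i, (e * z ^ i) ^ p = 1 := by
    intro i
    rw [(hez.pow_right i).mul_pow, he, one_mul, ← pow_mul, mul_comm, pow_mul, hz, one_pow]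
  have hcomm : Commute (e * z ^ j) (e * z ^ i) := by
    apply Commute.mul_left
    · exact Commute.mul_right (Commute.refl e) (hez.pow_right i)
    · apply Commute.mul_right (hez.pow_right j).symm ((Commute.refl z).pow_pow j i)
  have h1 : e * z ^ i ∈ MulAction.stabilizer P (tr p (e * z ^ i) u) :=
    (stab_mem _ _).2 ((mem_Fx _ _).1 (tr_mem_Fx p _ (hpow i) u))
  have h2 : e * z ^ j ∈ MulAction.stabilizer P (tr p (e * z ^ i) u) := by
    rw [stab_mem, smul_tr, (mem_Fx _ _).1 hu]
    congr 1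
    rw [hcomm.eq, mul_inv_cancel_right]
  have h3 : z ^ ((i : ℤ) - j) ∈ MulAction.stabilizer P (tr p (e * z ^ i) u) := by
    have : z ^ ((i : ℤ) - j) = (e * z ^ j)⁻¹ * (e * z ^ i) := by
      rw [zpow_sub, zpow_natCast, zpow_natCast, mul_inv_rev, mul_assoc, inv_mul_cancel_left]
      exact ((Commute.refl z).pow_pow i j).inv_right.eq
    rw [this]
    exact Subgroup.mul_mem _ (Subgroup.inv_mem _ h2) h1
  have h4 : z ∈ MulAction.stabilizer P (tr p (e * z ^ i) u) := by
    apply mem_of_zpow_mem hp _ z hz _ _ h3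
    intro hd
    have := Int.eq_zero_of_abs_lt_dvd hd (by rw [abs_lt]; constructor <;> omega)
    omega
  have : tr p (e * z ^ i) u ∈ (Fx z : Subgroup N) := (mem_Fx _ _).2 ((stab_mem _ _).1 h4)
  rw [hFz, Subgroup.mem_bot] at this
  exact this

/-- conjugation formula (iii) -/
theorem conj_pow_formula (c e z : P) (hcz : Commute c z) (m : ℕ)
    (hc : c * e * c⁻¹ = e * z ^ m) (j i : ℕ) :
    c ^ j * (e * z ^ i) * (c ^ j)⁻¹ = e * z ^ (m * j + i) := by
  induction j with
  | zero => simp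
  | succ j ih =>
    have : c ^ (j + 1) * (e * z ^ i) * (c ^ (j + 1))⁻¹ = c * (c ^ j * (e * z ^ i) * (c ^ j)⁻¹) * c⁻¹ := by
      rw [pow_succ']
      group
    rw [this, ih]
    have h2 : c * (e * z ^ (m * j + i)) * c⁻¹ = (c * e * c⁻¹) * z ^ (m * j + i) := by
      have := (hcz.pow_right (m * j + i)).eq
      calc c * (e * z ^ (m * j + i)) * c⁻¹ = c * e * (z ^ (m * j + i) * c⁻¹) := by group
        _ = c * e * (c⁻¹ * z ^ (m * j + i)) := by
            rw [((hcz.pow_right (m * j + i)).inv_left).eq]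
        _ = _ := by group
    rw [h2, hc, mul_assoc, ← pow_add]
    congr 2
    ring

end core2


section core3

variable {P : Type*} [Group P] {N : Type*} [CommGroup N] [MulDistribMulAction P N]
variable {p : ℕ}

theorem eq_one_of_pow_eq (hcop : (Nat.card N).Coprime p) (x : N) (hx : x ^ p = 1) : x = 1 := by
  have h1 : orderOf x ∣ p := orderOf_dvd_of_pow_eq_one hx
  have h2 : orderOf x ∣ Nat.card N := orderOf_dvd_natCard x
  have h3 : orderOf x ∣ 1 := by
    have := Nat.dvd_gcd h2 h1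
    rwa [hcop] at this
  exact orderOf_eq_one_iff.1 (Nat.dvd_one.1 h3)

theorem tr_inv (h : P) (x : N) : tr p h x⁻¹ = (tr p h x)⁻¹ := by
  have := tr_mul p h x x⁻¹
  rw [mul_inv_cancel, tr_one] at this
  exact (inv_eq_of_mul_eq_one_right this.symm).symm

theorem exists_mul_mod (hp : p.Prime) (m : ℕ) (hm : ¬ p ∣ m) (i : ℕ) (hi : i < p) :
    ∃ j, (m * j) % p = i := by
  have hcop : Nat.Coprime m p := ((Nat.Prime.coprime_iff_not_dvd hp).2 hm).symm
  obtain ⟨j, -, hj⟩ := Nat.exists_mul_mod_eq_of_coprime i hcop hp.ne_zero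
  exact ⟨j, by rw [hj, Nat.mod_eq_of_lt hi]⟩

theorem z_pow_mod (z : P) (hz : z ^ p = 1) (n : ℕ) : z ^ n = z ^ (n % p) :=
  pow_eq_pow_mod n hz

/-- `c ^ j • Fx (e) ⊆ Fx (e z^(mj))` -/
theorem smul_mem_Fx_conj (g h : P) (x : N) (hx : x ∈ Fx h) : g • x ∈ Fx (g * h * g⁻¹) := by
  rw [mem_Fx] at hx ⊢
  rw [← mul_smul, inv_mul_cancel_right, mul_smul, hx]

variable [Finite N]

theorem card_Fx_le (hp : p.Prime) (hcop : (Nat.card N).Coprime p) (c e z : P) (hcz : Commute c z)
    (hez : Commute e z) (hz : z ^ p = 1) (hFz : (Fx z : Subgroup N) = ⊥) (m : ℕ) (hm : ¬ p ∣ m)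
    (hc : c * e * c⁻¹ = e * z ^ m) (he : e ^ p = 1) :
    Nat.card (Fx c : Subgroup N) ≤ Nat.card (Fx e : Subgroup N) := by
  apply Nat.card_le_card_of_injective
    (fun x : (Fx c : Subgroup N) => (⟨tr p e x.1, tr_mem_Fx p e he x.1⟩ : (Fx e : Subgroup N)))
  intro x y hxy
  have hxy' : tr p e x.1 = tr p e y.1 := congrArg Subtype.val hxy
  have hw : x.1 * y.1⁻¹ ∈ (Fx c : Subgroup N) := Subgroup.mul_mem _ x.2 (Subgroup.inv_mem _ y.2)
  have hw1 : tr p e (x.1 * y.1⁻¹) = 1 := by
    rw [tr_mul, tr_inv, hxy', mul_inv_cancel]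
  have hcw : ∀ j : ℕ, c ^ j • (x.1 * y.1⁻¹) = x.1 * y.1⁻¹ := by
    intro j
    induction j with
    | zero => rw [pow_zero, one_smul]
    | succ j ih => rw [pow_succ, mul_smul, (mem_Fx _ _).1 hw, ih]
  have hall : ∀ i ∈ Finset.range p, tr p (e * z ^ i) (x.1 * y.1⁻¹) = 1 := by
    intro i hi
    obtain ⟨j, hj⟩ := exists_mul_mod hp m hm i (Finset.mem_range.1 hi)
    have h1 := smul_tr p (c ^ j) e (x.1 * y.1⁻¹)
    rw [hw1, smul_one, hcw j] at h1
    have h2 := conj_pow_formula c e z hcz m hc j 0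
    rw [pow_zero, mul_one, add_zero] at h2
    rw [h2, z_pow_mod z hz, hj] at h1
    exact h1.symm
  have h3 := prod_tr hp e z hez hz hFz (x.1 * y.1⁻¹)
  rw [Finset.prod_eq_one hall] at h3
  have h4 := eq_one_of_pow_eq hcop _ h3.symm
  apply Subtype.ext
  exact mul_inv_eq_one.1 h4

theorem card_Fx_conj_le (hp : p.Prime) (c e z : P) (hcz : Commute c z)
    (hz : z ^ p = 1) (m : ℕ) (hm : ¬ p ∣ m)
    (hc : c * e * c⁻¹ = e * z ^ m) (i : ℕ) (hi : i < p) :
    Nat.card (Fx e : Subgroup N) ≤ Nat.card (Fx (e * z ^ i) : Subgroup N) := by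
  obtain ⟨j, hj⟩ := exists_mul_mod hp m hm i hi
  have h2 := conj_pow_formula c e z hcz m hc j 0
  rw [pow_zero, mul_one, add_zero, z_pow_mod z hz, hj] at h2
  apply Nat.card_le_card_of_injective
    (fun x : (Fx e : Subgroup N) => (⟨c ^ j • x.1, by
      have := smul_mem_Fx_conj (c ^ j) e x.1 x.2
      rwa [h2] at this⟩ : (Fx (e * z ^ i) : Subgroup N)))
  intro x y hxy
  have : c ^ j • x.1 = c ^ j • y.1 := congrArg Subtype.val hxy
  exact Subtype.ext (MulAction.injective (c ^ j) this)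

theorem card_three (hp : p.Prime) (hcop : (Nat.card N).Coprime p) (e z : P) (hez : Commute e z)
    (hz : z ^ p = 1) (he : e ^ p = 1)
    (hFz : (Fx z : Subgroup N) = ⊥) (i0 i1 i2 : ℕ) (h0 : i0 < p) (h1 : i1 < p) (h2 : i2 < p)
    (h01 : i0 ≠ i1) (h02 : i0 ≠ i2) (h12 : i1 ≠ i2) :
    Nat.card (Fx (e * z ^ i0) : Subgroup N) * Nat.card (Fx (e * z ^ i1) : Subgroup N) *
      Nat.card (Fx (e * z ^ i2) : Subgroup N) ≤ Nat.card N := by
  rw [← Nat.card_prod, ← Nat.card_prod]
  apply Nat.card_le_card_of_injective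
    (fun x : ((Fx (e * z ^ i0) : Subgroup N) × (Fx (e * z ^ i1) : Subgroup N)) ×
      (Fx (e * z ^ i2) : Subgroup N) => x.1.1.1 * x.1.2.1 * x.2.1)
  rintro ⟨⟨x0, x1⟩, x2⟩ ⟨⟨y0, y1⟩, y2⟩ hxy
  simp only at hxy
  have key : (x0.1 * y0.1⁻¹) * (x1.1 * y1.1⁻¹) * (x2.1 * y2.1⁻¹) = 1 := by
    have : (x0.1 * y0.1⁻¹) * (x1.1 * y1.1⁻¹) * (x2.1 * y2.1⁻¹)
        = (x0.1 * x1.1 * x2.1) * (y0.1 * y1.1 * y2.1)⁻¹ := by
      rw [mul_inv, mul_inv]
      ac_rfl
    rw [this, hxy, mul_inv_cancel]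
  have hw0 : x0.1 * y0.1⁻¹ ∈ (Fx (e * z ^ i0) : Subgroup N) :=
    Subgroup.mul_mem _ x0.2 (Subgroup.inv_mem _ y0.2)
  have hw1 : x1.1 * y1.1⁻¹ ∈ (Fx (e * z ^ i1) : Subgroup N) :=
    Subgroup.mul_mem _ x1.2 (Subgroup.inv_mem _ y1.2)
  have hw2 : x2.1 * y2.1⁻¹ ∈ (Fx (e * z ^ i2) : Subgroup N) :=
    Subgroup.mul_mem _ x2.2 (Subgroup.inv_mem _ y2.2)
  have e0 : x0.1 * y0.1⁻¹ = 1 := by
    have := congrArg (tr p (e * z ^ i0)) key
    rw [tr_mul, tr_mul, tr_one, tr_of_mem_Fx p _ _ hw0,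
      tr_eq_one_of_mem hp e z hez hz he hFz i0 i1 h0 h1 h01 _ hw1,
      tr_eq_one_of_mem hp e z hez hz he hFz i0 i2 h0 h2 h02 _ hw2, mul_one, mul_one] at this
    exact eq_one_of_pow_eq hcop _ this
  have e1 : x1.1 * y1.1⁻¹ = 1 := by
    have := congrArg (tr p (e * z ^ i1)) key
    rw [tr_mul, tr_mul, tr_one, tr_of_mem_Fx p _ _ hw1,
      tr_eq_one_of_mem hp e z hez hz he hFz i1 i0 h1 h0 h01.symm _ hw0,
      tr_eq_one_of_mem hp e z hez hz he hFz i1 i2 h1 h2 h12 _ hw2, mul_one, one_mul] at this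
    exact eq_one_of_pow_eq hcop _ this
  have e2 : x2.1 * y2.1⁻¹ = 1 := by
    have := congrArg (tr p (e * z ^ i2)) key
    rw [tr_mul, tr_mul, tr_one, tr_of_mem_Fx p _ _ hw2,
      tr_eq_one_of_mem hp e z hez hz he hFz i2 i0 h2 h0 h02.symm _ hw0,
      tr_eq_one_of_mem hp e z hez hz he hFz i2 i1 h2 h1 h12.symm _ hw1, one_mul, one_mul] at this
    exact eq_one_of_pow_eq hcop _ this
  rw [mul_inv_eq_one] at e0 e1 e2
  have f0 : x0 = y0 := Subtype.ext e0
  have f1 : x1 = y1 := Subtype.ext e1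
  have f2 : x2 = y2 := Subtype.ext e2
  rw [f0, f1, f2]

/-- the counting contradiction -/
theorem count_main (hp : p.Prime) (hp3 : 3 ≤ p) (hcop : (Nat.card N).Coprime p) (c d e z : P)
    (hcz : Commute c z) (hdz : Commute d z) (hez : Commute e z) (hz : z ^ p = 1) (he : e ^ p = 1)
    (hFz : (Fx z : Subgroup N) = ⊥) (m m' : ℕ) (hm : ¬ p ∣ m) (hm' : ¬ p ∣ m')
    (hc : c * e * c⁻¹ = e * z ^ m) (hd : d * e * d⁻¹ = e * z ^ m')
    (hyp : ∀ x : N, ∃ a b : N, x = a * b ∧ c • a = a ∧ d • b = b) : Nat.card N = 1 := by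
  have hsurj : Nat.card N ≤ Nat.card (Fx c : Subgroup N) * Nat.card (Fx d : Subgroup N) := by
    rw [← Nat.card_prod]
    apply Nat.card_le_card_of_surjective
      (fun x : ↥(Fx c : Subgroup N) × ↥(Fx d : Subgroup N) => x.1.1 * x.2.1)
    intro x
    obtain ⟨a, b, hx, ha, hb⟩ := hyp x
    exact ⟨(⟨a, ha⟩, ⟨b, hb⟩), hx.symm⟩
  have hc1 := card_Fx_le hp hcop c e z hcz hez hz hFz m hm hc he
  have hd1 := card_Fx_le hp hcop d e z hdz hez hz hFz m' hm' hd he
  have h3 := card_three hp hcop e z hez hz he hFz 0 1 2 (by omega) (by omega) (by omega)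
    (by omega) (by omega) (by omega)
  have g0 := card_Fx_conj_le (N := N) hp c e z hcz hz m hm hc 0 (by omega)
  have g1 := card_Fx_conj_le (N := N) hp c e z hcz hz m hm hc 1 (by omega)
  have g2 := card_Fx_conj_le (N := N) hp c e z hcz hz m hm hc 2 (by omega)
  set u := Nat.card (Fx e : Subgroup N) with hu
  have hupos : 0 < u := Nat.card_pos
  have hN : 0 < Nat.card N := Nat.card_pos
  have hA : u * u * u ≤ Nat.card N :=
    le_trans (Nat.mul_le_mul (Nat.mul_le_mul g0 g1) g2) h3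
  have hB : Nat.card N ≤ u * u := le_trans hsurj (Nat.mul_le_mul hc1 hd1)
  have hu1 : u = 1 := by
    by_contra hne
    have : 2 ≤ u := by omega
    have : u * u * 2 ≤ u * u * u := Nat.mul_le_mul_left _ this
    have : 0 < u * u := Nat.mul_pos hupos hupos
    omega
  rw [hu1] at hB
  omega

end core3


section core4

variable {P : Type*} [Group P]

/-- in a cyclic `p`-group a generating set contains a generator -/
theorem exists_gen [Finite P] {p : ℕ} [hpf : Fact p.Prime] (hP : IsPGroup p P) (hcyc : IsCyclic P)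
    (hnt : Nontrivial P) (C : Set P) (hC : Subgroup.closure C = ⊤) :
    ∃ c ∈ C, Subgroup.zpowers c = ⊤ := by
  have hp : p.Prime := hpf.out
  obtain ⟨g, hg⟩ := hcyc.exists_generator
  have hcomm : ∀ x y : P, Commute x y := by
    intro x y
    obtain ⟨a, rfl⟩ := Subgroup.mem_zpowers_iff.1 (hg x)
    obtain ⟨b, rfl⟩ := Subgroup.mem_zpowers_iff.1 (hg y)
    exact Commute.zpow_zpow_self g a b
  obtain ⟨n, hn⟩ := (IsPGroup.iff_card).1 hP
  have hgo : orderOf g = p ^ n := by
    rw [orderOf_eq_card_of_forall_mem_zpowers hg, hn]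
  have hn0 : n ≠ 0 := by
    rintro rfl
    rw [pow_zero] at hn
    have := (Nat.card_eq_one_iff_unique.1 hn).1
    exact not_subsingleton P this
  by_contra hcon
  have hall : ∀ c ∈ C, c ^ (p ^ (n - 1)) = 1 := by
    intro c hc
    obtain ⟨j, hj, hcj⟩ := (Nat.dvd_prime_pow hp).1 (hn ▸ orderOf_dvd_natCard c)
    have hjn : j ≠ n := by
      intro hjn
      apply hcon
      refine ⟨c, hc, ?_⟩
      apply Subgroup.eq_top_of_card_eq
      rw [Nat.card_zpowers, hcj, hjn, hn]
    have : orderOf c ∣ p ^ (n - 1) := by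
      rw [hcj]
      exact pow_dvd_pow p (by omega)
    exact orderOf_dvd_iff_pow_eq_one.1 this
  have hall' : ∀ x ∈ Subgroup.closure C, x ^ (p ^ (n - 1)) = 1 := by
    intro x hx
    induction hx using Subgroup.closure_induction with
    | mem x hx => exact hall x hx
    | one => exact one_pow _
    | mul x y _ _ hx hy => rw [(hcomm x y).mul_pow, hx, hy, one_mul]
    | inv x _ hx => rw [inv_pow, hx, inv_one]
  have h1 := hall' g (hC ▸ Subgroup.mem_top g)
  have h2 := orderOf_dvd_of_pow_eq_one h1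
  rw [hgo] at h2
  have := (Nat.pow_dvd_pow_iff_le_right hp.one_lt).1 h2
  omega

variable {N : Type*} [CommGroup N] [MulDistribMulAction P N]

theorem Fx_inv_of_central (z : P) (hz : ∀ g : P, Commute g z) (g : P) (x : N) (hx : x ∈ Fx z) :
    g • x ∈ Fx z := by
  rw [mem_Fx] at hx ⊢
  rw [← mul_smul, ← (hz g).eq, mul_smul, hx]

theorem pow_conj_formula (c e z : P) (hcz : Commute c z) (hez : Commute e z) (k m : ℕ)
    (hc : c * e * c⁻¹ = e ^ k * z ^ m) (n : ℕ) :
    ∃ m' : ℕ, c ^ n * e * (c ^ n)⁻¹ = e ^ (k ^ n) * z ^ m' := by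
  induction n with
  | zero => exact ⟨0, by simp⟩
  | succ n ih =>
    obtain ⟨m', hm'⟩ := ih
    refine ⟨m * k ^ n + m', ?_⟩
    have h1 : c ^ (n + 1) * e * (c ^ (n + 1))⁻¹ = c * (c ^ n * e * (c ^ n)⁻¹) * c⁻¹ := by
      rw [pow_succ']
      group
    have h2 : c * (e ^ k ^ n * z ^ m') * c⁻¹ = (c * e * c⁻¹) ^ (k ^ n) * (c * z * c⁻¹) ^ m' := by
      rw [conj_pow, conj_pow]
      group
    have h3 : c * z * c⁻¹ = z := by
      rw [hcz.eq, mul_inv_cancel_right]
    rw [h1, hm', h2, hc, h3, (hez.pow_pow k m).mul_pow, ← pow_mul, ← pow_mul, mul_assoc, ← pow_add,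
      pow_succ k n, mul_comm (k ^ n) k]

end core4


section core5

variable {P : Type*} [Group P]

/-- the exponent of `e` in `c e c⁻¹` is `1` -/
theorem conj_exp_one {p : ℕ} (hp : p.Prime) (c e z : P) (hcz : Commute c z) (hez : Commute e z)
    (he : e ^ p = 1) (hez' : e ∉ Subgroup.zpowers z) (k m : ℕ)
    (hc : c * e * c⁻¹ = e ^ k * z ^ m) (r : ℕ) (hcr : c ^ (p ^ r) = 1) :
    c * e * c⁻¹ = e * z ^ m := by
  have : Fact p.Prime := ⟨hp⟩
  obtain ⟨m', hm'⟩ := pow_conj_formula c e z hcz hez k m hc (p ^ r)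
  rw [hcr, one_mul, inv_one, mul_one] at hm'
  -- e ^ (k^(p^r) - 1) ∈ zpowers z
  have h1 : e ^ (((k ^ (p ^ r) : ℕ) : ℤ) - 1) ∈ Subgroup.zpowers z := by
    have : e ^ (((k ^ (p ^ r) : ℕ) : ℤ) - 1) = (z ^ m')⁻¹ := by
      rw [zpow_sub, zpow_natCast, zpow_one]
      have h2 : e ^ k ^ p ^ r = e * (z ^ m')⁻¹ := by
        rw [eq_mul_inv_iff_mul_eq]
        exact hm'.symm
      rw [h2]
      have := (hez.pow_right m').inv_right.eq
      rw [this, mul_inv_cancel_right]
    rw [this]
    exact Subgroup.inv_mem _ (Subgroup.pow_mem _ (Subgroup.mem_zpowers z) m')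
  have h2 : (p : ℤ) ∣ ((k ^ (p ^ r) : ℕ) : ℤ) - 1 := by
    by_contra hnd
    exact hez' (mem_of_zpow_mem hp _ e he _ hnd h1)
  have h3 : ((k : ZMod p)) = 1 := by
    have := (ZMod.intCast_zmod_eq_zero_iff_dvd _ p).2 h2
    push_cast at this
    rw [ZMod.pow_card_pow, sub_eq_zero] at this
    exact this
  have h4 : k % p = 1 := by
    have : ((k : ZMod p)) = ((1 : ℕ) : ZMod p) := by rw [h3, Nat.cast_one]
    rw [ZMod.natCast_eq_natCast_iff'] at this
    rw [this, Nat.mod_eq_of_lt hp.one_lt]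
  rw [hc, pow_eq_pow_mod k he, h4, pow_one]

variable [Finite P] {N : Type*} [CommGroup N] [Finite N] [MulDistribMulAction P N]

theorem core {p : ℕ} [hpf : Fact p.Prime] (hp3 : 3 ≤ p) (hP : IsPGroup p P)
    (hcop : (Nat.card N).Coprime p)
    (hfaith : ∀ g : P, (∀ x : N, g • x = x) → g = 1)
    (hirr : ∀ H : Subgroup N, (∀ g : P, ∀ x ∈ H, g • x ∈ H) → H = ⊥ ∨ H = ⊤)
    (hnt : Nontrivial P) (C D : Set P) (hC : Subgroup.closure C = ⊤) (hD : Subgroup.closure D = ⊤)
    (hyp : ∀ c ∈ C, ∀ d ∈ D, ∀ x : N, ∃ a b : N, x = a * b ∧ c • a = a ∧ d • b = b) : False := by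
  have hp : p.Prime := hpf.out
  -- trivial `N` is impossible
  have htriv : (∀ x : N, x = 1) → False := by
    intro h1
    obtain ⟨g, hg⟩ := exists_ne (1 : P)
    apply hg
    apply hfaith
    intro x
    rw [h1 x, smul_one]
  -- central nonidentity elements act fixed point freely
  have hFx : ∀ z : P, (∀ g : P, Commute g z) → z ≠ 1 → (Fx z : Subgroup N) = ⊥ := by
    intro z hz hz1
    rcases hirr (Fx z) (fun g x hx => Fx_inv_of_central z hz g x hx) with h | h
    · exact h
    · exfalso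
      apply hz1
      apply hfaith
      intro x
      have : x ∈ (Fx z : Subgroup N) := by rw [h]; exact Subgroup.mem_top x
      exact this
  by_cases hcyc : IsCyclic P
  · obtain ⟨c, hcC, hc⟩ := exists_gen hP hcyc hnt C hC
    obtain ⟨d, hdD, hd⟩ := exists_gen hP hcyc hnt D hD
    have hgen : ∀ c : P, Subgroup.zpowers c = ⊤ → (Fx c : Subgroup N) = ⊥ := by
      intro c hc
      apply hFx
      · intro g
        have : g ∈ Subgroup.zpowers c := hc ▸ Subgroup.mem_top g
        obtain ⟨a, rfl⟩ := Subgroup.mem_zpowers_iff.1 this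
        exact (Commute.refl c).zpow_left a
      · rintro rfl
        rw [Subgroup.zpowers_one_eq_bot] at hc
        obtain ⟨g, hg⟩ := exists_ne (1 : P)
        have : g ∈ (⊥ : Subgroup P) := hc ▸ Subgroup.mem_top g
        exact hg (Subgroup.mem_bot.1 this)
    apply htriv
    intro x
    obtain ⟨a, b, hx, ha, hb⟩ := hyp c hcC d hdD x
    have ha' : a ∈ (Fx c : Subgroup N) := ha
    have hb' : b ∈ (Fx d : Subgroup N) := hb
    rw [hgen c hc, Subgroup.mem_bot] at ha'
    rw [hgen d hd, Subgroup.mem_bot] at hb'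
    rw [hx, ha', hb', one_mul]
  · have hp2 : p ≠ 2 := by omega
    have hncyc : ¬ IsCyclic (⊤ : Subgroup P) := fun h =>
      hcyc (isCyclic_of_surjective (Subgroup.topEquiv (G := P)).toMonoidHom
        (Subgroup.topEquiv (G := P)).surjective)
    obtain ⟨A, -, hAn, hAe, hAc⟩ := Cfsg.Agent.H1.normal_elem_abelian_sq_le hp2 hP ⊤ hncyc
    have hAne : A ≠ ⊥ := by
      intro h
      rw [h, Subgroup.card_bot] at hAc
      have : 1 < p ^ 2 := Nat.one_lt_pow (by omega) hp.one_lt
      omega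
    obtain ⟨z, hzA, hzc, hzo⟩ := Cfsg.Agent.H1.exists_central_order_p hP A hAne
    have hzcomm : ∀ g : P, Commute g z := fun g => (Subgroup.mem_center_iff.1 hzc g)
    have hz : z ^ p = 1 := by rw [← hzo]; exact pow_orderOf_eq_one z
    have hz1 : z ≠ 1 := by
      intro h
      rw [h, orderOf_one] at hzo
      exact hp.one_lt.ne hzo
    have hFz := hFx z hzcomm hz1
    -- e
    obtain ⟨e, heA, hez'⟩ : ∃ e ∈ A, e ∉ Subgroup.zpowers z := by
      by_contra hcon
      have hle : A ≤ Subgroup.zpowers z := fun a ha => by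
        by_contra h
        exact hcon ⟨a, ha, h⟩
      have := Subgroup.card_le_of_le hle
      rw [hAc, Nat.card_zpowers, hzo] at this
      have h2 : 2 ≤ p := hp.two_le
      nlinarith
    have he : e ^ p = 1 := hAe.2 e heA
    have hez : Commute e z := hzcomm e
    -- elements of A
    have hAel : ∀ a ∈ A, ∃ k m : ℕ, a = e ^ k * z ^ m := by
      have hzn : (Subgroup.zpowers z).Normal := by
        constructor
        intro n hn g
        obtain ⟨j, rfl⟩ := Subgroup.mem_zpowers_iff.mp hn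
        have hc : Commute g (z ^ j) := (hzcomm g).zpow_right j
        rw [hc.eq, mul_inv_cancel_right]
        exact Subgroup.zpow_mem_zpowers z j
      have hBA : Subgroup.zpowers e ⊔ Subgroup.zpowers z ≤ A :=
        sup_le (Subgroup.zpowers_le.2 heA) (Subgroup.zpowers_le.2 hzA)
      have hzB : Subgroup.zpowers z ≤ Subgroup.zpowers e ⊔ Subgroup.zpowers z := le_sup_right
      have heB : e ∈ Subgroup.zpowers e ⊔ Subgroup.zpowers z :=
        (le_sup_left : Subgroup.zpowers e ≤ _) (Subgroup.mem_zpowers e)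
      have hcardB : Nat.card (Subgroup.zpowers e ⊔ Subgroup.zpowers z : Subgroup P) = p ^ 2 := by
        have h1 : Nat.card (Subgroup.zpowers e ⊔ Subgroup.zpowers z : Subgroup P) ∣ p ^ 2 :=
          hAc ▸ Subgroup.card_dvd_of_le hBA
        obtain ⟨i, hi, hci⟩ := (Nat.dvd_prime_pow hp).1 h1
        have h2 : p ∣ Nat.card (Subgroup.zpowers e ⊔ Subgroup.zpowers z : Subgroup P) := by
          have := Subgroup.card_dvd_of_le hzB
          rwa [Nat.card_zpowers, hzo] at this
        have hi0 : i ≠ 0 := by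
          rintro rfl
          rw [hci, pow_zero] at h2
          exact hp.one_lt.ne' (Nat.dvd_one.1 h2)
        have hi1 : i ≠ 1 := by
          rintro rfl
          rw [pow_one] at hci
          have := Subgroup.eq_of_le_of_card_ge hzB (by rw [hci, Nat.card_zpowers, hzo])
          rw [← this] at heB
          exact hez' heB
        have : i = 2 := by omega
        rw [hci, this]
      have hBeq : Subgroup.zpowers e ⊔ Subgroup.zpowers z = A :=
        Subgroup.eq_of_le_of_card_ge hBA (by rw [hcardB, hAc])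
      intro a ha
      rw [← hBeq, ← SetLike.mem_coe, Subgroup.mul_normal, Set.mem_mul] at ha
      obtain ⟨x, hx, y, hy, rfl⟩ := ha
      obtain ⟨k, rfl⟩ := (Submonoid.mem_powers_iff _ _).1 ((mem_powers_iff_mem_zpowers).2 hx)
      obtain ⟨m, rfl⟩ := (Submonoid.mem_powers_iff _ _).1 ((mem_powers_iff_mem_zpowers).2 hy)
      exact ⟨k, m, rfl⟩
    -- p-power orders
    have hpow : ∀ c : P, ∃ r : ℕ, c ^ (p ^ r) = 1 := fun c => hP c
    -- conjugation formula
    have hconj : ∀ c : P, ∃ m : ℕ, c * e * c⁻¹ = e * z ^ m := by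
      intro c
      obtain ⟨k, m, hkm⟩ := hAel _ (hAn.conj_mem e heA c)
      obtain ⟨r, hr⟩ := hpow c
      exact ⟨m, conj_exp_one hp c e z (hzcomm c) hez he hez' k m hkm r hr⟩
    by_cases hcent : ∀ g : P, Commute g e
    · -- central case
      apply htriv
      intro x
      have h1 : ∀ i ∈ Finset.range p, tr p (e * z ^ i) x = 1 := by
        intro i _
        have hc1 : ∀ g : P, Commute g (e * z ^ i) := fun g =>
          (hcent g).mul_right ((hzcomm g).pow_right i)
        have hne : e * z ^ i ≠ 1 := by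
          intro h
          apply hez'
          rw [mul_eq_one_iff_eq_inv.1 h]
          exact Subgroup.inv_mem _ (Subgroup.pow_mem _ (Subgroup.mem_zpowers z) i)
        have hF := hFx _ hc1 hne
        have hpw : (e * z ^ i) ^ p = 1 := by
          rw [(hez.pow_right i).mul_pow, he, one_mul, ← pow_mul, mul_comm, pow_mul, hz, one_pow]
        have := tr_mem_Fx p (e * z ^ i) hpw x
        rw [hF, Subgroup.mem_bot] at this
        exact this
      have h2 := prod_tr hp e z hez hz hFz x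
      rw [Finset.prod_eq_one h1] at h2
      exact eq_one_of_pow_eq hcop x h2.symm
    · -- noncentral case
      have hex : ∀ C : Set P, Subgroup.closure C = ⊤ → ∃ c ∈ C, ¬ Commute c e := by
        intro C hC
        by_contra hcon
        apply hcent
        have hle : Subgroup.closure C ≤ Subgroup.centralizer {e} := by
          rw [Subgroup.closure_le]
          intro c hc
          rw [SetLike.mem_coe, Subgroup.mem_centralizer_iff]
          intro h hh
          rw [Set.mem_singleton_iff] at hh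
          subst hh
          by_contra hne
          exact hcon ⟨c, hc, fun hcomm => hne hcomm.eq.symm⟩
        intro g
        have : g ∈ Subgroup.centralizer {e} := hle (hC ▸ Subgroup.mem_top g)
        rw [Subgroup.mem_centralizer_iff] at this
        exact (this e rfl).symm
      obtain ⟨c, hcC, hce⟩ := hex C hC
      obtain ⟨d, hdD, hde⟩ := hex D hD
      obtain ⟨m, hm⟩ := hconj c
      obtain ⟨m', hm'⟩ := hconj d
      have hndvd : ∀ (c : P) (m : ℕ), ¬ Commute c e → c * e * c⁻¹ = e * z ^ m → ¬ p ∣ m := by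
        intro c m hce hm hd
        apply hce
        obtain ⟨t, rfl⟩ := hd
        rw [pow_mul, hz, one_pow, mul_one] at hm
        exact mul_inv_eq_iff_eq_mul.1 hm
      have hcard := count_main (N := N) hp hp3 hcop c d e z (hzcomm c) (hzcomm d) hez hz he hFz
        m m' (hndvd c m hce hm) (hndvd d m' hde hm') hm hm' (hyp c hcC d hdD)
      apply htriv
      intro x
      have := (Nat.card_eq_one_iff_unique.1 hcard).1
      exact Subsingleton.elim x 1

end core5


section reduction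

universe u v

variable {P : Type v} [Group P]

/-- the hypothesis, for all invariant subgroups -/
def Hyp (C D : Set P) (N : Type u) [Group N] [MulDistribMulAction P N] : Prop :=
  ∀ H : Subgroup N, (∀ g : P, ∀ x ∈ H, g • x ∈ H) → ∀ x ∈ H, ∀ c ∈ C, ∀ d ∈ D,
    ∃ a ∈ H, ∃ b ∈ H, x = a * b ∧ c • a = a ∧ d • b = b

/-- action on an invariant subgroup -/
@[reducible] def subAct {N : Type u} [Group N] [MulDistribMulAction P N] (H : Subgroup N)
    (hH : ∀ g : P, ∀ x ∈ H, g • x ∈ H) : MulDistribMulAction P H where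
  smul g x := ⟨g • x.1, hH g x.1 x.2⟩
  one_smul x := Subtype.ext (one_smul P x.1)
  mul_smul g h x := Subtype.ext (mul_smul g h x.1)
  smul_mul g x y := Subtype.ext (smul_mul' g x.1 y.1)
  smul_one g := Subtype.ext (smul_one g)

/-- action on the quotient by an invariant normal subgroup -/
@[reducible] def quotAct {N : Type u} [Group N] [MulDistribMulAction P N] (K : Subgroup N) [K.Normal]
    (hK : ∀ g : P, ∀ x ∈ K, g • x ∈ K) : MulDistribMulAction P (N ⧸ K) where
  smul g := QuotientGroup.map K K (MulDistribMulAction.toMonoidHom N g) (fun x hx => hK g x hx)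
  one_smul x := by
    induction x using QuotientGroup.induction_on with
    | H x =>
      show (((1 : P) • x : N) : N ⧸ K) = _
      rw [one_smul]
  mul_smul g h x := by
    induction x using QuotientGroup.induction_on with
    | H x =>
      show (((g * h) • x : N) : N ⧸ K) = ((g • (h • x) : N) : N ⧸ K)
      rw [mul_smul]
  smul_mul g x y := map_mul _ x y
  smul_one g := map_one _

theorem quotAct_mk {N : Type u} [Group N] [MulDistribMulAction P N] (K : Subgroup N) [K.Normal]
    (hK : ∀ g : P, ∀ x ∈ K, g • x ∈ K) (g : P) (x : N) :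
    (quotAct K hK).smul g (x : N ⧸ K) = ((g • x : N) : N ⧸ K) := rfl

end reduction


section reduction2

open scoped Pointwise

universe u v

variable {P : Type v} [Group P]

/-- the fixed point subgroup -/
def FixAll (P : Type v) [Group P] (N : Type u) [Group N] [MulDistribMulAction P N] : Subgroup N where
  carrier := {x | ∀ g : P, g • x = x}
  mul_mem' := by
    intro a b ha hb g
    rw [smul_mul', ha g, hb g]
  one_mem' := fun g => smul_one g
  inv_mem' := by
    intro a ha g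
    rw [smul_inv', ha g]

theorem red {p : ℕ} [hpf : Fact p.Prime] [Finite P] (hp3 : 3 ≤ p) (hP : IsPGroup p P) (C D : Set P)
    (hC : Subgroup.closure C = ⊤) (hD : Subgroup.closure D = ⊤) :
    ∀ n : ℕ, ∀ (N : Type u) [Group N] [Finite N] [MulDistribMulAction P N], Nat.card N = n →
      (Nat.card N).Coprime p → Hyp C D N → ∀ g : P, ∀ x : N, g • x = x := by
  have hp : p.Prime := hpf.out
  intro n
  induction n using Nat.strong_induction_on with
  | _ n ih =>
  intro N _ _ _ hn hcop hyp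
  by_contra hnt
  -- Step 1
  have step1 : ∀ H : Subgroup N, (∀ g : P, ∀ x ∈ H, g • x ∈ H) → H ≠ ⊤ →
      ∀ g : P, ∀ x ∈ H, g • x = x := by
    intro H hH hne g x hx
    have hlt : Nat.card H < n := by
      rw [← hn]
      exact lt_of_le_of_ne (Subgroup.card_le_card_group H)
        (fun h => hne (Subgroup.eq_top_of_card_eq H h))
    let _ := subAct H hH
    have hcopH : (Nat.card H).Coprime p :=
      Nat.Coprime.coprime_dvd_left (Subgroup.card_subgroup_dvd_card H) hcop
    have hypH : Hyp C D H := by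
      intro H' hH' y hy c hc d hd
      have hinv : ∀ g : P, ∀ x ∈ H'.map H.subtype, g • x ∈ H'.map H.subtype := by
        rintro g _ ⟨w, hw, rfl⟩
        exact ⟨g • w, hH' g w hw, rfl⟩
      obtain ⟨a, ⟨a', ha', rfl⟩, b, ⟨b', hb', rfl⟩, hab, hca, hdb⟩ :=
        hyp (H'.map H.subtype) hinv y.1 ⟨y, hy, rfl⟩ c hc d hd
      exact ⟨a', ha', b', hb', Subtype.ext hab, Subtype.ext hca, Subtype.ext hdb⟩
    have := ih (Nat.card H) hlt H rfl hcopH hypH g ⟨x, hx⟩
    exact congrArg Subtype.val this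
  -- Step 2
  have step2 : ∀ K : Subgroup N, K.Normal → (∀ g : P, ∀ x ∈ K, g • x ∈ K) → K ≠ ⊥ →
      ∀ g : P, ∀ x : N, x⁻¹ * g • x ∈ K := by
    intro K hKn hK hne g x
    have hlt : Nat.card (N ⧸ K) < n := by
      rw [← hn, Subgroup.card_eq_card_quotient_mul_card_subgroup K]
      have h1 : 1 < Nat.card K := (Subgroup.one_lt_card_iff_ne_bot K).2 hne
      have h2 : 0 < Nat.card (N ⧸ K) := Nat.card_pos
      nlinarith
    let _ := quotAct K hK
    have hcopQ : (Nat.card (N ⧸ K)).Coprime p :=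
      Nat.Coprime.coprime_dvd_left
        ⟨Nat.card K, Subgroup.card_eq_card_quotient_mul_card_subgroup K⟩ hcop
    have hypQ : Hyp C D (N ⧸ K) := by
      intro H' hH' y hy c hc d hd
      obtain ⟨x, rfl⟩ := QuotientGroup.mk_surjective y
      have hinv : ∀ g : P, ∀ x ∈ H'.comap (QuotientGroup.mk' K),
          g • x ∈ H'.comap (QuotientGroup.mk' K) := by
        intro g w hw
        exact hH' g _ hw
      obtain ⟨a, ha, b, hb, hab, hca, hdb⟩ := hyp _ hinv x hy c hc d hd
      refine ⟨(a : N ⧸ K), ha, (b : N ⧸ K), hb, ?_, ?_, ?_⟩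
      · rw [hab]; rfl
      · exact congrArg (fun t : N => (t : N ⧸ K)) hca
      · exact congrArg (fun t : N => (t : N ⧸ K)) hdb
    have := ih _ hlt (N ⧸ K) rfl hcopQ hypQ g (x : N ⧸ K)
    exact QuotientGroup.eq.1 this.symm
  -- Step 3
  have step3 : ∀ K : Subgroup N, K.Normal → (∀ g : P, ∀ x ∈ K, g • x ∈ K) → K ≠ ⊥ → K ≠ ⊤ →
      False := by
    intro K hKn hK hb ht
    apply hnt
    intro g x
    have h1 := step1 K hK ht
    have h2 := step2 K hKn hK hb
    have hmul : ∀ g h : P, x⁻¹ * (g * h) • x = (x⁻¹ * g • x) * (x⁻¹ * h • x) := by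
      intro g h
      have e1 : h • x = x * (x⁻¹ * h • x) := by group
      have e2 : g • (x⁻¹ * h • x) = x⁻¹ * h • x := h1 g _ (h2 h x)
      rw [mul_smul]
      nth_rewrite 1 [e1]
      rw [smul_mul', e2]
      group
    have hpow : ∀ k : ℕ, x⁻¹ * (g ^ k) • x = (x⁻¹ * g • x) ^ k := by
      intro k
      induction k with
      | zero => rw [pow_zero, one_smul, inv_mul_cancel, pow_zero]
      | succ k ih => rw [pow_succ, hmul, ih, pow_succ]
    obtain ⟨r, hr⟩ := hP g
    have h3 : (x⁻¹ * g • x) ^ (p ^ r) = 1 := by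
      rw [← hpow, hr, one_smul, inv_mul_cancel]
    have h4 : orderOf (x⁻¹ * g • x) ∣ 1 := by
      have := Nat.dvd_gcd (orderOf_dvd_natCard (x⁻¹ * g • x)) (orderOf_dvd_of_pow_eq_one h3)
      rwa [Nat.Coprime.pow_right r hcop] at this
    have h5 := orderOf_eq_one_iff.1 (Nat.dvd_one.1 h4)
    exact (inv_mul_eq_one.1 h5).symm
  -- Step 4: `N` is a `q`-group
  have step4 : ∃ q : ℕ, q.Prime ∧ IsPGroup q N := by
    by_contra hcon
    apply hnt
    -- every invariant Sylow subgroup is proper, hence fixed pointwise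
    have hsyl : ∀ q : ℕ, q.Prime → q ^ (Nat.card N).factorization q ∣ Nat.card (FixAll P N) := by
      intro q hq
      have : Fact q.Prime := ⟨hq⟩
      have hnd : ¬ p ∣ Nat.card (Sylow q N) := by
        intro hd
        obtain ⟨Q₀⟩ : Nonempty (Sylow q N) := inferInstance
        have h1 : p ∣ Nat.card N :=
          (hd.trans (Q₀.card_dvd_index)).trans (Subgroup.index_dvd_card _)
        have := Nat.Coprime.eq_one_of_dvd hcop.symm h1
        exact hp.one_lt.ne' this
      obtain ⟨Q, hQ⟩ := hP.nonempty_fixed_point_of_prime_not_dvd_card (Sylow q N) hnd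
      have hQinv : ∀ g : P, ∀ x ∈ (Q : Subgroup N), g • x ∈ (Q : Subgroup N) := by
        intro g x hx
        have h1 : g • Q = Q := hQ g
        have h2 : g • x ∈ g • (Q : Subgroup N) := Subgroup.smul_mem_pointwise_smul x g _ hx
        rw [← Sylow.pointwise_smul_def, h1] at h2
        exact h2
      have hQne : (Q : Subgroup N) ≠ ⊤ := by
        intro hQt
        apply hcon
        refine ⟨q, hq, ?_⟩
        intro x
        have hx : x ∈ (Q : Subgroup N) := hQt ▸ Subgroup.mem_top x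
        obtain ⟨k, hk⟩ := Q.isPGroup' ⟨x, hx⟩
        exact ⟨k, congrArg Subtype.val hk⟩
      have hle : (Q : Subgroup N) ≤ FixAll P N := fun x hx g => step1 _ hQinv hQne g x hx
      have := Subgroup.card_dvd_of_le hle
      rwa [Sylow.card_eq_multiplicity] at this
    have hdvd : Nat.card N ∣ Nat.card (FixAll P N) := by
      rw [← Nat.factorization_le_iff_dvd Nat.card_pos.ne' Nat.card_pos.ne']
      intro q
      by_cases hq : q.Prime
      · exact (hq.pow_dvd_iff_le_factorization Nat.card_pos.ne').1 (hsyl q hq)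
      · rw [Nat.factorization_eq_zero_of_not_prime _ hq]
        exact Nat.zero_le _
    have htop : FixAll P N = ⊤ :=
      Subgroup.eq_top_of_card_eq _ (Nat.dvd_antisymm (Subgroup.card_subgroup_dvd_card _) hdvd)
    intro g x
    have : x ∈ FixAll P N := htop ▸ Subgroup.mem_top x
    exact this g
  obtain ⟨q, hq, hqN⟩ := step4
  have : Fact q.Prime := ⟨hq⟩
  -- Step 5: `N` is abelian
  have hNnt : Nontrivial N := by
    by_contra h
    rw [not_nontrivial_iff_subsingleton] at h
    exact hnt (fun g x => Subsingleton.elim _ _)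
  have step5 : ∀ a b : N, a * b = b * a := by
    have hcn : Subgroup.center N ≠ ⊥ := by
      have := hqN.center_nontrivial
      exact (Subgroup.nontrivial_iff_ne_bot _).1 this
    have hcinv : ∀ g : P, ∀ x ∈ Subgroup.center N, g • x ∈ Subgroup.center N := by
      intro g x hx
      rw [Subgroup.mem_center_iff] at hx ⊢
      intro y
      have := hx (g⁻¹ • y)
      have h2 := congrArg (fun t => g • t) this
      simp only [smul_mul', smul_inv_smul] at h2
      exact h2
    have hct : Subgroup.center N = ⊤ := by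
      by_contra hne
      exact step3 _ inferInstance hcinv hcn hne
    intro a b
    have : b ∈ Subgroup.center N := hct ▸ Subgroup.mem_top b
    exact (Subgroup.mem_center_iff.1 this a)
  -- Step 6
  let cg : CommGroup N := { (inferInstance : Group N) with mul_comm := step5 }
  let ρ : P →* MulAut N := MulDistribMulAction.toMulAut P N
  have hfin : Finite ρ.range := Finite.of_surjective ρ.rangeRestrict ρ.rangeRestrict_surjective
  have hPbar : IsPGroup p ρ.range := hP.of_surjective ρ.rangeRestrict ρ.rangeRestrict_surjective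
  have hfaith : ∀ φ : ρ.range, (∀ x : N, φ • x = x) → φ = 1 := by
    intro φ h
    apply Subtype.ext
    apply MulEquiv.ext
    intro x
    exact h x
  have hinvP : ∀ H : Subgroup N, (∀ φ : ρ.range, ∀ x ∈ H, φ • x ∈ H) →
      ∀ g : P, ∀ x ∈ H, g • x ∈ H := by
    intro H hH g x hx
    exact hH ⟨ρ g, g, rfl⟩ x hx
  have hirr : ∀ H : Subgroup N, (∀ φ : ρ.range, ∀ x ∈ H, φ • x ∈ H) → H = ⊥ ∨ H = ⊤ := by
    intro H hH
    by_contra hcon
    rw [not_or] at hcon
    have hHn : H.Normal := by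
      constructor
      intro n hn g
      rw [step5 g n, mul_inv_cancel_right]
      exact hn
    exact step3 H hHn (hinvP H hH) hcon.1 hcon.2
  have hntP : Nontrivial ρ.range := by
    by_contra h
    rw [not_nontrivial_iff_subsingleton] at h
    apply hnt
    intro g x
    have h1 : (⟨ρ g, g, rfl⟩ : ρ.range) = 1 := Subsingleton.elim _ _
    have h2 := congrArg (fun φ : ρ.range => (φ : MulAut N) x) h1
    exact h2
  have hCbar : Subgroup.closure (ρ.rangeRestrict '' C) = ⊤ := by
    rw [← MonoidHom.map_closure, hC]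
    exact Subgroup.map_top_of_surjective _ ρ.rangeRestrict_surjective
  have hDbar : Subgroup.closure (ρ.rangeRestrict '' D) = ⊤ := by
    rw [← MonoidHom.map_closure, hD]
    exact Subgroup.map_top_of_surjective _ ρ.rangeRestrict_surjective
  have hyp' : ∀ c ∈ ρ.rangeRestrict '' C, ∀ d ∈ ρ.rangeRestrict '' D, ∀ x : N,
      ∃ a b : N, x = a * b ∧ c • a = a ∧ d • b = b := by
    rintro _ ⟨c, hc, rfl⟩ _ ⟨d, hd, rfl⟩ x
    obtain ⟨a, -, b, -, hab, hca, hdb⟩ :=
      hyp ⊤ (fun _ _ _ => Subgroup.mem_top _) x (Subgroup.mem_top x) c hc d hd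
    exact ⟨a, b, hab, hca, hdb⟩
  exact @core ρ.range _ hfin N cg _ _ p hpf hp3 hPbar hcop hfaith hirr hntP _ _ hCbar hDbar hyp'

end reduction2


section transport

open scoped Pointwise

variable {G : Type*} [Group G] [Finite G]

/-- key group-theoretic step: a `p`-subgroup of `N₀ P` is contained in a conjugate of `P` under `N₀` -/
theorem exists_conj_le {p : ℕ} [Fact p.Prime] (P : Sylow p G) (N₀ : Subgroup G)
    (hnorm : (P : Subgroup G) ≤ Subgroup.normalizer (N₀ : Set G)) (Q : Subgroup G) (hQ : IsPGroup p Q)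
    (hQle : Q ≤ N₀ ⊔ (P : Subgroup G)) :
    ∃ y ∈ N₀, ∀ q ∈ Q, y⁻¹ * q * y ∈ (P : Subgroup G) := by
  have hPH : (P : Subgroup G) ≤ N₀ ⊔ (P : Subgroup G) := le_sup_right
  have hQ' : IsPGroup p (Q.subgroupOf (N₀ ⊔ (P : Subgroup G))) :=
    hQ.comap_subtype
  obtain ⟨S, hS⟩ := hQ'.exists_le_sylow
  obtain ⟨h, hh⟩ := MulAction.exists_smul_eq (↥(N₀ ⊔ (P : Subgroup G))) (P.subtype hPH) S
  have hmem : (h : G) ∈ N₀ ⊔ (P : Subgroup G) := h.2
  rw [← SetLike.mem_coe, Subgroup.coe_mul_of_right_le_normalizer_left N₀ _ hnorm, Set.mem_mul] at hmem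
  obtain ⟨y, hy, u, hu, hyu⟩ := hmem
  refine ⟨y, hy, ?_⟩
  intro q hq
  have hqH : q ∈ N₀ ⊔ (P : Subgroup G) := hQle hq
  have h1 : (⟨q, hqH⟩ : ↥(N₀ ⊔ (P : Subgroup G))) ∈ (S : Subgroup ↥(N₀ ⊔ (P : Subgroup G))) :=
    hS (Subgroup.mem_subgroupOf.2 hq)
  rw [← hh, Sylow.smul_def, Sylow.pointwise_smul_def, Subgroup.mem_pointwise_smul_iff_inv_smul_mem,
    Sylow.coe_subtype, Subgroup.mem_subgroupOf] at h1
  have h2 : (h : G)⁻¹ * q * (h : G) ∈ (P : Subgroup G) := by
    simpa [MulAut.conj_apply] using h1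
  rw [← hyu] at h2
  have h3 : y⁻¹ * q * y = u * ((y * u)⁻¹ * q * (y * u)) * u⁻¹ := by group
  rw [h3]
  exact Subgroup.mul_mem _ (Subgroup.mul_mem _ hu h2) (Subgroup.inv_mem _ hu)

/-- an element of `N` conjugating an element of `P` into `P` centralizes it -/
theorem comm_of_conj_mem {p : ℕ} [Fact p.Prime] (P : Sylow p G) (N : Subgroup G) [N.Normal]
    (hN : (Nat.card N).Coprime p) (w c : G) (hw : w ∈ N) (hc : c ∈ (P : Subgroup G))
    (h : w * c * w⁻¹ ∈ (P : Subgroup G)) : c * w * c⁻¹ = w := by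
  have hdisj : N ⊓ (P : Subgroup G) = ⊥ := by
    apply (Subgroup.disjoint_of_coprime_natCard _).eq_bot
    obtain ⟨k, hk⟩ := IsPGroup.iff_card.1 P.isPGroup'
    rw [hk]
    exact Nat.Coprime.pow_right k hN
  have h1 : w * c * w⁻¹ * c⁻¹ ∈ (P : Subgroup G) := Subgroup.mul_mem _ h (Subgroup.inv_mem _ hc)
  have h2 : w * c * w⁻¹ * c⁻¹ ∈ N := by
    have : w * c * w⁻¹ * c⁻¹ = w * (c * w⁻¹ * c⁻¹) := by group
    rw [this]
    exact Subgroup.mul_mem _ hw (Subgroup.Normal.conj_mem inferInstance _ (Subgroup.inv_mem _ hw) c)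
  have h3 : w * c * w⁻¹ * c⁻¹ ∈ N ⊓ (P : Subgroup G) := ⟨h2, h1⟩
  rw [hdisj, Subgroup.mem_bot] at h3
  have : c * w * c⁻¹ = (w * c * w⁻¹ * c⁻¹)⁻¹ * w := by group
  rw [this, h3, inv_one, one_mul]

end transport

/-- Let p ≥ 3 be prime and G a finite group with a Sylow p-subgroup P and a normal p-complement N (N normal, of order prime to p, with NP = G). Suppose P is generated by a subset C and also by a subset D, and that ⟨x c x⁻¹, d⟩ is a p-group for all x ∈ N, c ∈ C, d ∈ D. Then P centralizes N, so that G = N × P. -/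
theorem result {G : Type*} [Group G] [Finite G] (p : ℕ) [Fact p.Prime] (hp3 : 3 ≤ p) (P : Sylow p G)
    (N : Subgroup G) [N.Normal] (hN : (Nat.card N).Coprime p) (hNP : N ⊔ (P : Subgroup G) = ⊤)
    (C D : Set G) (hC : Subgroup.closure C = (P : Subgroup G)) (hD : Subgroup.closure D = (P : Subgroup G))
    (h : ∀ x ∈ N, ∀ c ∈ C, ∀ d ∈ D, IsPGroup p ↥(Subgroup.closure ({x * c * x⁻¹, d} : Set G))) :
    ⁅(P : Subgroup G), N⁆ = ⊥ := by
  have hp : p.Prime := Fact.out
  -- the action
  let act : MulDistribMulAction (P : Subgroup G) N :=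
    MulDistribMulAction.compHom N ((MulAut.conjNormal (H := N)).comp (P : Subgroup G).subtype)
  have hact : ∀ (g : (P : Subgroup G)) (n : N), ((g • n : N) : G) = g.1 * n.1 * g.1⁻¹ :=
    fun g n => rfl
  have hCP : C ⊆ (P : Subgroup G) := fun c hc => hC ▸ Subgroup.subset_closure hc
  have hDP : D ⊆ (P : Subgroup G) := fun c hc => hD ▸ Subgroup.subset_closure hc
  have hclos : ∀ C : Set G, C ⊆ (P : Subgroup G) → Subgroup.closure C = (P : Subgroup G) →
      Subgroup.closure ((P : Subgroup G).subtype ⁻¹' C) = ⊤ := by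
    intro C hCP hC
    apply Subgroup.map_injective (P : Subgroup G).subtype_injective
    rw [MonoidHom.map_closure, Set.image_preimage_eq_of_subset, hC, ← MonoidHom.range_eq_map,
      Subgroup.range_subtype]
    rw [Subgroup.coe_subtype, Subtype.range_coe]
    exact hCP
  have hyp : Hyp ((P : Subgroup G).subtype ⁻¹' C) ((P : Subgroup G).subtype ⁻¹' D) N := by
    intro H hH x hx c hc d hd
    -- the image of `H` in `G`
    have hnorm : (P : Subgroup G) ≤ Subgroup.normalizer ((H.map N.subtype : Subgroup G) : Set G) := by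
      intro g hg
      rw [Subgroup.mem_normalizer_iff]
      intro n
      constructor
      · rintro ⟨w, hw, rfl⟩
        exact ⟨(⟨g, hg⟩ : (P : Subgroup G)) • w, hH _ w hw, rfl⟩
      · rintro ⟨w, hw, hwe⟩
        refine ⟨(⟨g, hg⟩ : (P : Subgroup G))⁻¹ • w, hH _ w hw, ?_⟩
        have hwe' : w.1 = g * n * g⁻¹ := hwe
        show (((⟨g, hg⟩ : (P : Subgroup G))⁻¹ • w : N) : G) = n
        rw [hact, hwe']
        simp only [InvMemClass.coe_inv, inv_inv]
        group
    have hxinv : (x⁻¹ : N) ∈ H := H.inv_mem hx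
    have hQ := h (x⁻¹ : N).1 (x⁻¹ : N).2 c.1 hc d.1 hd
    have hQle : Subgroup.closure ({(x⁻¹ : N).1 * c.1 * (x⁻¹ : N).1⁻¹, d.1} : Set G) ≤
        H.map N.subtype ⊔ (P : Subgroup G) := by
      rw [Subgroup.closure_le]
      rintro q (rfl | rfl)
      · have hx' : (x⁻¹ : N).1 ∈ H.map N.subtype ⊔ (P : Subgroup G) :=
          (le_sup_left : H.map N.subtype ≤ _) ⟨x⁻¹, hxinv, rfl⟩
        have hc' : c.1 ∈ H.map N.subtype ⊔ (P : Subgroup G) :=
          (le_sup_right : (P : Subgroup G) ≤ _) c.2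
        exact Subgroup.mul_mem _ (Subgroup.mul_mem _ hx' hc') (Subgroup.inv_mem _ hx')
      · exact (le_sup_right : (P : Subgroup G) ≤ _) d.2
    obtain ⟨y, ⟨y', hy', rfl⟩, hy⟩ := exists_conj_le P (H.map N.subtype) hnorm _ hQ hQle
    -- `d`
    have hd1 := hy d.1 (Subgroup.subset_closure (by simp))
    have hd2 : d.1 * (y'.1)⁻¹ * d.1⁻¹ = (y'.1)⁻¹ := by
      apply comm_of_conj_mem P N hN _ _ (N.inv_mem y'.2) d.2
      rw [inv_inv]
      exact hd1
    -- `c`
    have hc1 := hy ((x⁻¹ : N).1 * c.1 * (x⁻¹ : N).1⁻¹) (Subgroup.subset_closure (by simp))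
    have hc2 : c.1 * (x.1 * y'.1)⁻¹ * c.1⁻¹ = (x.1 * y'.1)⁻¹ := by
      apply comm_of_conj_mem P N hN _ _ (N.inv_mem (N.mul_mem x.2 y'.2)) c.2
      have e1 : (x.1 * y'.1)⁻¹ * c.1 * ((x.1 * y'.1)⁻¹)⁻¹ =
          y'.1⁻¹ * (x.1⁻¹ * c.1 * x.1⁻¹⁻¹) * y'.1 := by group
      rw [e1]
      have e2 : ((x⁻¹ : N) : G) = x.1⁻¹ := rfl
      rw [e2] at hc1
      exact hc1
    refine ⟨x * y', H.mul_mem hx hy', y'⁻¹, H.inv_mem hy', ?_, ?_, ?_⟩
    · exact (mul_inv_cancel_right x y').symm
    · apply Subtype.ext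
      rw [hact]
      show c.1 * (x.1 * y'.1) * c.1⁻¹ = x.1 * y'.1
      have h3 : c.1 * (x.1 * y'.1) * c.1⁻¹ = (c.1 * (x.1 * y'.1)⁻¹ * c.1⁻¹)⁻¹ := by group
      rw [h3, hc2, inv_inv]
    · apply Subtype.ext
      rw [hact]
      exact hd2
  have hPp : IsPGroup p (P : Subgroup G) := P.isPGroup'
  have key := red hp3 hPp _ _ (hclos C hCP hC) (hclos D hDP hD) (Nat.card N) N rfl hN hyp
  rw [Subgroup.commutator_eq_bot_iff_le_centralizer]
  intro g hg
  rw [Subgroup.mem_centralizer_iff]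
  intro n hn
  have h1 : g * n * g⁻¹ = n := congrArg Subtype.val (key ⟨g, hg⟩ ⟨n, hn⟩)
  exact (mul_inv_eq_iff_eq_mul.1 h1).symm

end Cfsg.Agent.S2277

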