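import Cfsg.Statements.S2278
import Cfsg.Agent.Lib.Helper7.Reg3E

set_option autoImplicit false
open Cfsg

namespace Cfsg.Agent.S2278

/-- Let F be a finite field. Then SL_3(F) is generated by two conjugate regular unipotent elements: there are u with u − 1 nilpotent and (u − 1)² ≠ 0, and g, such that u and g u g⁻¹ generate SL_3(F). -/
theorem result {F : Type*} [Field F] [Fintype F] :
    ∃ u g : Matrix.SpecialLinearGroup (Fin 3) F, IsNilpotent ((u : Matrix (Fin 3) (Fin 3) F) - 1) ∧ ((u : Matrix (Fin 3) (Fin 3) F) - 1) ^ (3 - 1) ≠ 0 ∧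
      Subgroup.closure ({u, g * u * g⁻¹} : Set (Matrix.SpecialLinearGroup (Fin 3) F)) = ⊤ := by
  classical
  obtain ⟨p, hchar⟩ := CharP.exists F
  have := hchar
  have hp : Fact p.Prime := ⟨CharP.char_is_prime F p⟩
  letI : Algebra (ZMod p) F := ZMod.algebra F p
  obtain ⟨n, -, hcard⟩ := FiniteField.card F p
  by_cases h2 : p = 2
  · subst h2
    have h20 : (2 : F) = 0 := by
      have := CharP.cast_eq_zero F 2
      exact_mod_cast this
    exact Cfsg.Agent.Lib.Helper7.Reg3.char_two_case h20
  · by_cases hn : (n : ℕ) = 1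
    · apply Cfsg.Agent.Lib.Helper7.Reg3.prime_case
      rw [hcard, hn, pow_one]
      exact hp.out
    · have hn2 : 2 ≤ (n : ℕ) := by
        have := n.pos
        omega
      exact Cfsg.Agent.Lib.Helper7.Reg3.odd_case p (n : ℕ) hcard h2 hn2

end Cfsg.Agent.S2278
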