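import Cfsg.Statements.S2281
import Cfsg.Agent.Lib.Helper7.SpRegJ
import Cfsg.Agent.Lib.SpRU.Sp4Even

set_option autoImplicit false
open Cfsg

namespace Cfsg.Agent.S2281

/-- Let F be a finite field and n ≥ 2, excluding the case n = 2 with F of two elements (where the group is not quasisimple). Then the symplectic group Sp_2n(F) is generated by three conjugate regular unipotent elements: there are u ∈ Sp_2n(F) with u − 1 nilpotent and (u − 1)^(2n−1) ≠ 0, and g, h ∈ Sp_2n(F), such that u, g u g⁻¹ and h u h⁻¹ generate Sp_2n(F). -/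
theorem result {F : Type*} [Field F] [Fintype F] (n : ℕ) (hn : 2 ≤ n) (h22 : ¬ (n = 2 ∧ Fintype.card F = 2)) :
    ∃ u g h : Matrix.symplecticGroup (Fin n) F,
      IsNilpotent ((u : Matrix (Fin n ⊕ Fin n) (Fin n ⊕ Fin n) F) - 1) ∧
      ((u : Matrix (Fin n ⊕ Fin n) (Fin n ⊕ Fin n) F) - 1) ^ (2 * n - 1) ≠ 0 ∧
      Subgroup.closure ({u, g * u * g⁻¹, h * u * h⁻¹} : Set (Matrix.symplecticGroup (Fin n) F)) = ⊤ := by
  by_cases h2 : (2 : F) = 0
  · by_cases hn2 : n = 2
    · subst hn2
      have hchar : CharP F 2 := CharTwo.of_one_ne_zero_of_two_eq_zero one_ne_zero h2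
      have hcard : 4 ≤ Fintype.card F := by
        obtain ⟨k, hk⟩ := FiniteField.card F 2
        obtain ⟨hp, hkc⟩ := hk
        have hne : Fintype.card F ≠ 2 := fun h => h22 ⟨rfl, h⟩
        rw [hkc] at hne ⊢
        have hk2 : 2 ≤ (k : ℕ) := by
          by_contra hlt
          have hk1 : (k : ℕ) = 1 := by
            have := k.pos
            omega
          rw [hk1, pow_one] at hne
          exact hne rfl
        calc 4 = 2 ^ 2 := by norm_num
          _ ≤ 2 ^ (k : ℕ) := Nat.pow_le_pow_right (by norm_num) hk2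
      exact Cfsg.Agent.SpRU.Sp4.sp4_even hcard
    · exact Cfsg.Agent.Lib.Helper7.SpReg.main_even (by omega) h2
  · exact Cfsg.Agent.Lib.Helper7.SpReg.main_odd hn h2

end Cfsg.Agent.S2281
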