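import Cfsg.Statements.S2286
import Cfsg.Agent.Lib.Helper7.Pres2M

set_option autoImplicit false
open Cfsg

namespace Cfsg.Agent.S2286

open Cfsg.Agent.Lib.Helper7.Pres2 in
/-- the lists of relators -/
theorem main_lists {F : Type*} [Field F] [Fintype F] :
    ∃ L : List W3,
      Nonempty (PresentedGroup (↑L.toFinset : Set W3) ≃* Matrix.SpecialLinearGroup (Fin 2) F) ∧
      (((2 : F) ≠ 0 ∧ L.length ≤ 8 ∧
          Nonempty (PresentedGroup (↑(insert wR7 L.toFinset) : Set W3) ≃*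
            Matrix.ProjectiveSpecialLinearGroup (Fin 2) F)) ∨
        ((2 : F) = 0 ∧ L.length ≤ 5 ∧
          Nonempty (PresentedGroup (↑L.toFinset : Set W3) ≃*
            Matrix.ProjectiveSpecialLinearGroup (Fin 2) F))) := by
  classical
  obtain ⟨p, hchar⟩ := CharP.exists F
  haveI := hchar
  haveI hp : Fact p.Prime := ⟨CharP.char_is_prime F p⟩
  letI : Algebra (ZMod p) F := ZMod.algebra F p
  obtain ⟨n, -, hcard⟩ := FiniteField.card F p
  obtain ⟨ζ, hζgen⟩ := IsCyclic.exists_generator (α := Fˣ)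
  by_cases hn : (n : ℕ) ≤ 2
  · by_cases h2 : (2 : F) = 0
    · obtain ⟨L, hL, h1, -, h3⟩ := case_small p ζ hζgen n hcard hn false (fun h => absurd h2 h)
      exact ⟨L, h1, Or.inr ⟨h2, by simpa using hL, h3 h2⟩⟩
    · obtain ⟨L, hL, h1, h3, -⟩ := case_small p ζ hζgen n hcard hn true (fun _ => rfl)
      refine ⟨L, h1, Or.inl ⟨h2, ?_, h3⟩⟩
      simp only [if_true] at hL
      omega
  · have hn3 : 3 ≤ (n : ℕ) := by omega
    by_cases h2 : (2 : F) = 0
    · -- `p = 2`
      have hp2 : p = 2 := by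
        have h2' : ((2 : ℕ) : F) = 0 := by exact_mod_cast h2
        have := (CharP.cast_eq_zero_iff F p 2).1 h2'
        exact (Nat.prime_dvd_prime_iff_eq hp.out Nat.prime_two).1 this
      subst hp2
      obtain ⟨L, hL, h1, h3⟩ := case_even_large ζ hζgen n hcard hn3
      exact ⟨L, h1, Or.inr ⟨h2, hL, h3⟩⟩
    · obtain ⟨L, hL, h1, h3⟩ := case_odd_large p ζ hζgen n hcard hn3 h2
      exact ⟨L, h1, Or.inl ⟨h2, hL, h3⟩⟩

/-- For every finite field F, SL_2(F) and PSL_2(F) have presentations with 3 generators and at most 9 relations; when F has characteristic 2, PSL_2(F) has a presentation with 3 generators and at most 5 relations. -/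
theorem result {F : Type*} [Field F] [Fintype F] :
    (∃ rels : Finset (FreeGroup (Fin 3)), rels.card ≤ 9 ∧ Nonempty (PresentedGroup (↑rels : Set (FreeGroup (Fin 3))) ≃* Matrix.SpecialLinearGroup (Fin 2) F)) ∧ (∃ rels : Finset (FreeGroup (Fin 3)), rels.card ≤ 9 ∧ Nonempty (PresentedGroup (↑rels : Set (FreeGroup (Fin 3))) ≃* Matrix.ProjectiveSpecialLinearGroup (Fin 2) F)) ∧
    (CharP F 2 → ∃ rels : Finset (FreeGroup (Fin 3)), rels.card ≤ 5 ∧ Nonempty (PresentedGroup (↑rels : Set (FreeGroup (Fin 3))) ≃* Matrix.ProjectiveSpecialLinearGroup (Fin 2) F)) := by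
  classical
  obtain ⟨L, hSL, hP⟩ := main_lists (F := F)
  have hcardL : L.toFinset.card ≤ L.length := List.toFinset_card_le L
  refine ⟨?_, ?_, ?_⟩
  · refine ⟨L.toFinset, ?_, hSL⟩
    rcases hP with ⟨-, hL, -⟩ | ⟨-, hL, -⟩ <;> omega
  · rcases hP with ⟨-, hL, h⟩ | ⟨-, hL, h⟩
    · refine ⟨insert Cfsg.Agent.Lib.Helper7.Pres2.wR7 L.toFinset, ?_, h⟩
      have := Finset.card_insert_le Cfsg.Agent.Lib.Helper7.Pres2.wR7 L.toFinset
      omega
    · exact ⟨L.toFinset, by omega, h⟩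
  · intro hchar2
    have h2 : (2 : F) = 0 := by
      have := CharP.cast_eq_zero F 2
      exact_mod_cast this
    rcases hP with ⟨h2', -, -⟩ | ⟨-, hL, h⟩
    · exact absurd h2 h2'
    · exact ⟨L.toFinset, by omega, h⟩

end Cfsg.Agent.S2286
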