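import Cfsg.Statements.S2298
import Cfsg.Agent.H9.GL2Count

set_option autoImplicit false
open Cfsg

namespace Cfsg.Agent.S2298

open Cfsg.Agent.H9.GL2Chars Cfsg.Agent.H9.PrincipalSeriesGL Cfsg.Agent.Lib.helper3.IndFun Cfsg.Agent.Lib.helper3.Irr

/-- Over a finite field F with q elements, every irreducible complex character of GL₂ has degree 1, q − 1, q or q + 1; and when q ≥ 3 (so that these four numbers are distinct) there are exactly q − 1 irreducible characters of degree 1, exactly q − 1 of degree q, exactly (q − 1)(q − 2)/2 of degree q + 1 and exactly q(q − 1)/2 of degree q − 1. -/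
theorem result {F : Type*} [Field F] [Fintype F] :
    (∀ χ : Matrix.GeneralLinearGroup (Fin 2) F → ℂ, Cfsg.IsIrrCharacter (Matrix.GeneralLinearGroup (Fin 2) F) χ →
      χ 1 = 1 ∨ χ 1 = (Fintype.card F : ℂ) - 1 ∨ χ 1 = (Fintype.card F : ℂ) ∨ χ 1 = (Fintype.card F : ℂ) + 1) ∧
    (3 ≤ Fintype.card F →
      Nat.card {χ : Cfsg.IrrCharacter (Matrix.GeneralLinearGroup (Fin 2) F) // (χ : Matrix.GeneralLinearGroup (Fin 2) F → ℂ) 1 = 1} = Fintype.card F - 1 ∧
      Nat.card {χ : Cfsg.IrrCharacter (Matrix.GeneralLinearGroup (Fin 2) F) // (χ : Matrix.GeneralLinearGroup (Fin 2) F → ℂ) 1 = (Fintype.card F : ℂ)} = Fintype.card F - 1 ∧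
      Nat.card {χ : Cfsg.IrrCharacter (Matrix.GeneralLinearGroup (Fin 2) F) // (χ : Matrix.GeneralLinearGroup (Fin 2) F → ℂ) 1 = (Fintype.card F : ℂ) + 1} = (Fintype.card F - 1) * (Fintype.card F - 2) / 2 ∧
      Nat.card {χ : Cfsg.IrrCharacter (Matrix.GeneralLinearGroup (Fin 2) F) // (χ : Matrix.GeneralLinearGroup (Fin 2) F → ℂ) 1 = (Fintype.card F : ℂ) - 1} = Fintype.card F * (Fintype.card F - 1) / 2) := by
  classical
  have hq2 : 2 ≤ Fintype.card F := Fintype.one_lt_card
  constructor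
  · intro χ hχ
    rcases irr_cases' hχ with ⟨α, rfl⟩ | ⟨α, rfl⟩ | ⟨α, β, -, rfl⟩ | ⟨-, h, -⟩
    · exact Or.inl (Lfun_one α)
    · exact Or.inr (Or.inr (Or.inl (Stfun_one α)))
    · exact Or.inr (Or.inr (Or.inr (RGL_one α β)))
    · exact Or.inr (Or.inl h)
  · intro hq
    have c1 : (1 : ℂ) ≠ (Fintype.card F : ℂ) := by
      have : (1 : ℕ) ≠ Fintype.card F := by omega
      exact_mod_cast this
    have c2 : (1 : ℂ) ≠ (Fintype.card F : ℂ) + 1 := by
      have : (1 : ℕ) ≠ Fintype.card F + 1 := by omega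
      exact_mod_cast this
    have c3 : (Fintype.card F : ℂ) ≠ (Fintype.card F : ℂ) + 1 := by
      have : Fintype.card F ≠ Fintype.card F + 1 := by omega
      exact_mod_cast this
    have c4 : (Fintype.card F : ℂ) - 1 ≠ 1 := by
      intro h
      have : (Fintype.card F : ℂ) = ((2 : ℕ) : ℂ) := by push_cast; linear_combination h
      have := Nat.cast_injective this
      omega
    have c5 : (Fintype.card F : ℂ) - 1 ≠ (Fintype.card F : ℂ) := by
      intro h
      have : (1 : ℂ) = 0 := by linear_combination -h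
      exact one_ne_zero this
    have c6 : (Fintype.card F : ℂ) - 1 ≠ (Fintype.card F : ℂ) + 1 := by
      intro h
      have : (2 : ℂ) = 0 := by linear_combination -h
      exact two_ne_zero this
    have hcusp : ∀ χ : IrrCharacter (Matrix.GeneralLinearGroup (Fin 2) F), χ ∈ cuspSet (F := F) →
        (χ : Matrix.GeneralLinearGroup (Fin 2) F → ℂ) 1 = (Fintype.card F : ℂ) - 1 :=
      fun χ h => (cusp_degree_eq χ h).1
    refine ⟨?_, ?_, ?_, ?_⟩
    · rw [card_degree_eq Lc Lc_injective 1 Lc_one, card_mulChar]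
      intro χ hχ
      rcases irr_cases χ with ⟨α, rfl⟩ | ⟨α, rfl⟩ | ⟨z, rfl⟩ | h
      · exact ⟨α, rfl⟩
      · rw [Sc_one] at hχ; exact absurd hχ.symm c1
      · rw [Rc_one] at hχ; exact absurd hχ.symm c2
      · rw [hcusp χ h] at hχ; exact absurd hχ c4
    · rw [card_degree_eq Sc Sc_injective _ Sc_one, card_mulChar]
      intro χ hχ
      rcases irr_cases χ with ⟨α, rfl⟩ | ⟨α, rfl⟩ | ⟨z, rfl⟩ | h
      · rw [Lc_one] at hχ; exact absurd hχ c1
      · exact ⟨α, rfl⟩
      · rw [Rc_one] at hχ; exact absurd hχ.symm c3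
      · rw [hcusp χ h] at hχ; exact absurd hχ c5
    · rw [card_degree_eq Rc Rc_injective _ Rc_one]
      · have h := Sym2.card_subtype_not_diag (α := MulChar F ℂ)
        rw [h, card_mulChar, Nat.choose_two_right, Nat.sub_sub]
      · intro χ hχ
        rcases irr_cases χ with ⟨α, rfl⟩ | ⟨α, rfl⟩ | ⟨z, rfl⟩ | h
        · rw [Lc_one] at hχ; exact absurd hχ c2
        · rw [Sc_one] at hχ; exact absurd hχ c3
        · exact ⟨z, rfl⟩
        · rw [hcusp χ h] at hχ; exact absurd hχ c6
    · rw [← card_cuspSet (F := F)]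
      have : ∀ χ : IrrCharacter (Matrix.GeneralLinearGroup (Fin 2) F),
          (χ : Matrix.GeneralLinearGroup (Fin 2) F → ℂ) 1 = (Fintype.card F : ℂ) - 1 ↔
          χ ∈ cuspSet (F := F) := by
        intro χ
        constructor
        · intro hχ
          rcases irr_cases χ with ⟨α, rfl⟩ | ⟨α, rfl⟩ | ⟨z, rfl⟩ | h
          · rw [Lc_one] at hχ; exact absurd hχ.symm c4
          · rw [Sc_one] at hχ; exact absurd hχ.symm c5
          · rw [Rc_one] at hχ; exact absurd hχ.symm c6
          · exact h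
        · exact hcusp χ
      rw [Nat.card_congr (Equiv.subtypeEquivRight this), Nat.card_eq_fintype_card,
        Fintype.card_coe]

end Cfsg.Agent.S2298
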