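import Cfsg.Statements.S2302
import Mathlib
import Cfsg.Agent.H9.SqZeroSL
import Cfsg.Agent.H9.TvCount

set_option autoImplicit false

namespace Cfsg.Agent.S2302

open Module Matrix Cfsg.Agent.H9.SqZeroSL Cfsg.Agent.H9.TvCount

variable {F : Type*} [Field F] [CharP F 2]

theorem rank_eq_one (g : Matrix.SpecialLinearGroup (Fin 2) F) (hg : orderOf g = 2) :
    ((g : Matrix (Fin 2) (Fin 2) F) - 1).rank = 1 := by
  have h1 := two_mul_rank_le _ (sq_zero g hg)
  have h2 : ((g : Matrix (Fin 2) (Fin 2) F) - 1).rank ≠ 0 := by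
    intro h0
    have h3 : finrank F (LinearMap.range ((g : Matrix (Fin 2) (Fin 2) F) - 1).mulVecLin) = 0 := h0
    rw [Submodule.finrank_eq_zero, LinearMap.range_eq_bot] at h3
    have h4 : (g : Matrix (Fin 2) (Fin 2) F) - 1 = 0 := by
      apply Matrix.toLin'.injective
      rw [map_zero, Matrix.toLin'_apply']
      exact h3
    have h5 : g = 1 := Subtype.ext (sub_eq_zero.1 h4)
    rw [h5, orderOf_one] at hg
    omega
  omega

theorem isTransvection_of_order (g : Matrix.SpecialLinearGroup (Fin 2) F) (hg : orderOf g = 2) :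
    Cfsg.IsTransvection (g : Matrix (Fin 2) (Fin 2) F) :=
  ⟨rank_eq_one g hg, sq_zero g hg⟩

theorem det_of_isTransvection {n : ℕ} (y : Matrix (Fin n) (Fin n) F) (hy : Cfsg.IsTransvection y) :
    y.det = 1 := by
  obtain ⟨a, r, -, -, hra, rfl⟩ := exists_tvm y hy
  rw [det_tvm, hra, add_zero]

theorem sq_of_isTransvection {n : ℕ} (y : Matrix (Fin n) (Fin n) F) (hy : Cfsg.IsTransvection y) :
    y * y = 1 := by
  have h := hy.2
  have h3 : ∀ M : Matrix (Fin n) (Fin n) F, M + M = 0 := by
    intro M
    ext i j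
    exact CharTwo.add_self_eq_zero _
  rw [Matrix.sub_mul, Matrix.mul_sub, Matrix.mul_sub, Matrix.one_mul, Matrix.mul_one,
    Matrix.mul_one] at h
  have h4 : y * y = (y * y - y - (y - 1)) + (y + y) - 1 := by abel
  rw [h4, h, h3, add_zero, zero_sub]
  ext i j
  rw [Matrix.neg_apply]
  exact CharTwo.neg_eq _

/-- a transvection of `GL₂` as an element of `SL₂`. -/
def toSL (y : {y : GL (Fin 2) F // Cfsg.IsTransvection (y : Matrix (Fin 2) (Fin 2) F)}) :
    Matrix.SpecialLinearGroup (Fin 2) F :=
  ⟨(y.1 : Matrix (Fin 2) (Fin 2) F), det_of_isTransvection _ y.2⟩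

theorem orderOf_toSL (y : {y : GL (Fin 2) F // Cfsg.IsTransvection (y : Matrix (Fin 2) (Fin 2) F)}) :
    orderOf (toSL y) = 2 := by
  apply orderOf_eq_prime
  · rw [pow_two]
    apply Subtype.ext
    exact sq_of_isTransvection _ y.2
  · intro h1
    have h2 : (y.1 : Matrix (Fin 2) (Fin 2) F) = 1 := congrArg Subtype.val h1
    have h3 := y.2.1
    rw [h2, sub_self, Matrix.rank_zero] at h3
    exact zero_ne_one h3

/-- Over a finite field with q elements of characteristic 2, the involutions of SL₂ (the non-identity unipotent elements) form a single conjugacy class, of size q² − 1. -/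
theorem result {F : Type*} [Field F] [Fintype F] [CharP F 2] (g h : Matrix.SpecialLinearGroup (Fin 2) F) (hg : orderOf g = 2) (hh : orderOf h = 2) :
    IsConj g h ∧ Nat.card (ConjClasses.mk g).carrier = Fintype.card F ^ 2 - 1 := by
  classical
  refine ⟨isConj_of_rank_eq g h hg hh (by rw [rank_eq_one g hg, rank_eq_one h hh]), ?_⟩
  -- the class is the set of involutions
  have h1 : Nat.card (ConjClasses.mk g).carrier =
      Nat.card {y : Matrix.SpecialLinearGroup (Fin 2) F // orderOf y = 2} := by
    apply Nat.card_congr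
    apply Equiv.subtypeEquivRight
    intro y
    rw [ConjClasses.mem_carrier_iff_mk_eq, ConjClasses.mk_eq_mk_iff_isConj]
    constructor
    · intro hy
      obtain ⟨c, hc⟩ := isConj_iff.1 hy
      calc orderOf y = orderOf (c * y * c⁻¹) := (MulEquiv.orderOf_eq (MulAut.conj c) y).symm
        _ = 2 := by rw [hc, hg]
    · intro hy
      exact isConj_of_rank_eq y g hy hg (by rw [rank_eq_one y hy, rank_eq_one g hg])
  have h2 : Nat.card {y : Matrix.SpecialLinearGroup (Fin 2) F // orderOf y = 2} =
      Nat.card {y : GL (Fin 2) F // Cfsg.IsTransvection (y : Matrix (Fin 2) (Fin 2) F)} := by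
    apply Nat.card_congr
    refine ⟨fun y => ⟨Matrix.SpecialLinearGroup.toGL y.1, isTransvection_of_order y.1 y.2⟩,
      fun y => ⟨toSL y, orderOf_toSL y⟩, ?_, ?_⟩
    · intro y
      apply Subtype.ext
      apply Subtype.ext
      rfl
    · intro y
      apply Subtype.ext
      apply Units.ext
      rfl
  have h3 := card_data_eq (F := F) (n := 2)
  rw [card_data (by norm_num)] at h3
  have hq : 2 ≤ Fintype.card F := Fintype.one_lt_card
  have hpos : 0 < Fintype.card F - 1 := by omega
  rw [h1, h2]
  have h4 : (2 : ℕ) - 1 = 1 := rfl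
  rw [h4, pow_one] at h3
  exact (Nat.eq_of_mul_eq_mul_right hpos h3).symm

end Cfsg.Agent.S2302
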