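import Cfsg.Statements.S2303
import Mathlib
import Cfsg.Agent.Lib.Helper5.GL2

set_option autoImplicit false
open Cfsg

namespace Cfsg.Agent.S2303

open Cfsg.Agent.Lib.Helper5.GL2

local notation "G" => Matrix.GeneralLinearGroup (Fin 2)

/-- diagonal case -/
theorem card_diag {F : Type*} [Field F] [Fintype F] (g : G F)
    (h01 : (g : Matrix (Fin 2) (Fin 2) F) 0 1 = 0) (h10 : (g : Matrix (Fin 2) (Fin 2) F) 1 0 = 0)
    (hne : (g : Matrix (Fin 2) (Fin 2) F) 0 0 ≠ (g : Matrix (Fin 2) (Fin 2) F) 1 1) :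
    Nat.card (Subgroup.centralizer ({g} : Set (G F))) = (Fintype.card F - 1) ^ 2 := by
  classical
  have hmem : ∀ c : G F, c ∈ Subgroup.centralizer ({g} : Set (G F)) ↔
      (c : Matrix (Fin 2) (Fin 2) F) 0 1 = 0 ∧ (c : Matrix (Fin 2) (Fin 2) F) 1 0 = 0 := by
    intro c
    rw [Subgroup.mem_centralizer_singleton_iff]
    constructor
    · intro e
      have e01 := congrArg (fun g : G F => (g : Matrix (Fin 2) (Fin 2) F) 0 1) e
      have e10 := congrArg (fun g : G F => (g : Matrix (Fin 2) (Fin 2) F) 1 0) e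
      simp only [mul01, mul10, h01, h10, mul_zero, add_zero, zero_mul, zero_add] at e01 e10
      constructor
      · have : (c : Matrix (Fin 2) (Fin 2) F) 0 1 * ((g : Matrix (Fin 2) (Fin 2) F) 0 0 -
            (g : Matrix (Fin 2) (Fin 2) F) 1 1) = 0 := by linear_combination -e01
        exact (mul_eq_zero.1 this).resolve_right (sub_ne_zero.2 hne)
      · have : (c : Matrix (Fin 2) (Fin 2) F) 1 0 * ((g : Matrix (Fin 2) (Fin 2) F) 0 0 -
            (g : Matrix (Fin 2) (Fin 2) F) 1 1) = 0 := by linear_combination e10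
        exact (mul_eq_zero.1 this).resolve_right (sub_ne_zero.2 hne)
    · rintro ⟨c01, c10⟩
      apply ext2
      · rw [mul00, mul00, h01, h10, c01, c10]; ring
      · rw [mul01, mul01, h01, c01]; ring
      · rw [mul10, mul10, h10, c10]; ring
      · rw [mul11, mul11, h01, h10, c01, c10]; ring
  let e : Subgroup.centralizer ({g} : Set (G F)) ≃ Fˣ × Fˣ :=
    { toFun := fun c => (Units.mk0 ((c.1 : Matrix (Fin 2) (Fin 2) F) 0 0) (by
          have h := det_ne_zero c.1
          rw [((hmem c.1).1 c.2).1, zero_mul, sub_zero] at h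
          exact left_ne_zero_of_mul h),
        Units.mk0 ((c.1 : Matrix (Fin 2) (Fin 2) F) 1 1) (by
          have h := det_ne_zero c.1
          rw [((hmem c.1).1 c.2).1, zero_mul, sub_zero] at h
          exact right_ne_zero_of_mul h))
      invFun := fun t => ⟨mk (t.1 : F) 0 0 (t.2 : F) (by simp), (hmem _).2 (by simp)⟩
      left_inv := by
        rintro ⟨c, hc⟩
        obtain ⟨h1, h2⟩ := (hmem c).1 hc
        apply Subtype.ext
        apply ext2 <;> simp [h1, h2]
      right_inv := by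
        rintro ⟨x, y⟩
        simp }
  rw [Nat.card_congr e, Nat.card_eq_fintype_card, Fintype.card_prod, Fintype.card_units, sq]

/-- case without eigenvectors -/
theorem card_noeig {F : Type*} [Field F] [Fintype F] (g : G F)
    (hno : ∀ (c : F) (v : Fin 2 → F), v ≠ 0 → (g : Matrix (Fin 2) (Fin 2) F).mulVec v ≠ c • v) :
    Nat.card (Subgroup.centralizer ({g} : Set (G F))) = Fintype.card F ^ 2 - 1 := by
  classical
  have g10 : (g : Matrix (Fin 2) (Fin 2) F) 1 0 ≠ 0 := by
    intro h0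
    apply hno ((g : Matrix (Fin 2) (Fin 2) F) 0 0) (Pi.single 0 1)
    · intro h
      have := congrFun h 0
      simp at this
    · funext i
      fin_cases i <;> simp [Matrix.mulVec, dotProduct, Fin.sum_univ_two, h0]
  have hdet : ∀ x y : F, (x, y) ≠ (0, 0) →
      (x • (1 : Matrix (Fin 2) (Fin 2) F) + y • (g : Matrix (Fin 2) (Fin 2) F)).det ≠ 0 := by
    intro x y hxy hd
    obtain ⟨v, hv, hMv⟩ := Matrix.exists_mulVec_eq_zero_iff.2 hd
    rw [Matrix.add_mulVec, Matrix.smul_mulVec, Matrix.smul_mulVec, Matrix.one_mulVec] at hMv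
    by_cases hy : y = 0
    · rw [hy, zero_smul, add_zero] at hMv
      have hx : x = 0 := by
        by_contra hx
        exact hv ((smul_eq_zero.1 hMv).resolve_left hx)
      exact hxy (by rw [hx, hy])
    · apply hno (-x / y) v hv
      have : y • ((g : Matrix (Fin 2) (Fin 2) F).mulVec v) = -(x • v) := by
        rw [eq_neg_iff_add_eq_zero, add_comm]; exact hMv
      calc (g : Matrix (Fin 2) (Fin 2) F).mulVec v
          = y⁻¹ • (y • ((g : Matrix (Fin 2) (Fin 2) F).mulVec v)) := by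
            rw [smul_smul, inv_mul_cancel₀ hy, one_smul]
        _ = _ := by rw [this, smul_neg, smul_smul, ← neg_smul]; congr 1; field_simp
  let M : {p : F × F // p ≠ 0} → G F := fun p =>
    Matrix.GeneralLinearGroup.mkOfDetNeZero
      (p.1.1 • (1 : Matrix (Fin 2) (Fin 2) F) + p.1.2 • (g : Matrix (Fin 2) (Fin 2) F))
      (hdet p.1.1 p.1.2 (by
        have := p.2
        intro h
        apply this
        exact h))
  have hM : ∀ p, ((M p : G F) : Matrix (Fin 2) (Fin 2) F) =
      p.1.1 • (1 : Matrix (Fin 2) (Fin 2) F) + p.1.2 • (g : Matrix (Fin 2) (Fin 2) F) := fun p => rfl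
  have hMc : ∀ p, M p ∈ Subgroup.centralizer ({g} : Set (G F)) := by
    intro p
    rw [Subgroup.mem_centralizer_singleton_iff]
    apply Matrix.GeneralLinearGroup.ext
    intro i j
    have : (g : Matrix (Fin 2) (Fin 2) F) * ((M p : G F) : Matrix (Fin 2) (Fin 2) F) =
        ((M p : G F) : Matrix (Fin 2) (Fin 2) F) * (g : Matrix (Fin 2) (Fin 2) F) := by
      rw [hM, Matrix.mul_add, Matrix.add_mul, Matrix.mul_smul, Matrix.smul_mul, Matrix.mul_smul,
        Matrix.smul_mul, Matrix.mul_one, Matrix.one_mul]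
    change (((M p : G F) : Matrix (Fin 2) (Fin 2) F) * (g : Matrix (Fin 2) (Fin 2) F)) i j =
      ((g : Matrix (Fin 2) (Fin 2) F) * ((M p : G F) : Matrix (Fin 2) (Fin 2) F)) i j
    exact (congrFun (congrFun this i) j).symm
  let Φ : {p : F × F // p ≠ 0} → Subgroup.centralizer ({g} : Set (G F)) := fun p => ⟨M p, hMc p⟩
  have hinj : Function.Injective Φ := by
    rintro ⟨⟨x, y⟩, hp⟩ ⟨⟨x', y'⟩, hp'⟩ h
    have h1 : M ⟨(x, y), hp⟩ = M ⟨(x', y'), hp'⟩ := congrArg Subtype.val h
    have e10 := congrArg (fun g : G F => (g : Matrix (Fin 2) (Fin 2) F) 1 0) h1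
    have e00 := congrArg (fun g : G F => (g : Matrix (Fin 2) (Fin 2) F) 0 0) h1
    simp only [hM] at e10 e00
    simp at e10 e00
    have hy : y = y' := by
      rcases e10 with h | h
      · exact h
      · exact absurd h g10
    subst hy
    have hx : x = x' := by linear_combination e00
    subst hx
    rfl
  have hsurj : Function.Surjective Φ := by
    rintro ⟨c, hc⟩
    rw [Subgroup.mem_centralizer_singleton_iff] at hc
    set y := (c : Matrix (Fin 2) (Fin 2) F) 1 0 / (g : Matrix (Fin 2) (Fin 2) F) 1 0 with hy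
    set x := (c : Matrix (Fin 2) (Fin 2) F) 0 0 - y * (g : Matrix (Fin 2) (Fin 2) F) 0 0 with hx
    have e00 := congrArg (fun g : G F => (g : Matrix (Fin 2) (Fin 2) F) 0 0) hc
    have e10 := congrArg (fun g : G F => (g : Matrix (Fin 2) (Fin 2) F) 1 0) hc
    simp only [mul00, mul10] at e00 e10
    have hy' : y * (g : Matrix (Fin 2) (Fin 2) F) 1 0 = (c : Matrix (Fin 2) (Fin 2) F) 1 0 := by
      rw [hy]; field_simp
    -- the entries of c
    have c01 : (c : Matrix (Fin 2) (Fin 2) F) 0 1 = y * (g : Matrix (Fin 2) (Fin 2) F) 0 1 := by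
      have : (g : Matrix (Fin 2) (Fin 2) F) 1 0 * ((c : Matrix (Fin 2) (Fin 2) F) 0 1 -
          y * (g : Matrix (Fin 2) (Fin 2) F) 0 1) = 0 := by
        linear_combination e00 - (g : Matrix (Fin 2) (Fin 2) F) 0 1 * hy'
      exact sub_eq_zero.1 ((mul_eq_zero.1 this).resolve_left g10)
    have c11 : (c : Matrix (Fin 2) (Fin 2) F) 1 1 = x + y * (g : Matrix (Fin 2) (Fin 2) F) 1 1 := by
      have : (g : Matrix (Fin 2) (Fin 2) F) 1 0 * ((c : Matrix (Fin 2) (Fin 2) F) 1 1 -
          (x + y * (g : Matrix (Fin 2) (Fin 2) F) 1 1)) = 0 := by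
        rw [hx]
        linear_combination e10 + ((g : Matrix (Fin 2) (Fin 2) F) 0 0 -
          (g : Matrix (Fin 2) (Fin 2) F) 1 1) * hy'
      exact sub_eq_zero.1 ((mul_eq_zero.1 this).resolve_left g10)
    have hp : ((x, y) : F × F) ≠ 0 := by
      intro h0
      have hx0 : x = 0 := congrArg Prod.fst h0
      have hy0 : y = 0 := congrArg Prod.snd h0
      have h := det_ne_zero c
      apply h
      rw [c01, c11, ← hy', hy0, hx0]
      have : (c : Matrix (Fin 2) (Fin 2) F) 0 0 = 0 := by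
        have := hx
        rw [hx0, hy0] at this
        linear_combination -this
      rw [this]; ring
    refine ⟨⟨(x, y), hp⟩, ?_⟩
    apply Subtype.ext
    apply ext2
    · change ((M ⟨(x, y), hp⟩ : G F) : Matrix (Fin 2) (Fin 2) F) 0 0 = _
      rw [hM]; simp [hx]
    · change ((M ⟨(x, y), hp⟩ : G F) : Matrix (Fin 2) (Fin 2) F) 0 1 = _
      rw [hM]; simp [c01]
    · change ((M ⟨(x, y), hp⟩ : G F) : Matrix (Fin 2) (Fin 2) F) 1 0 = _
      rw [hM]; simp [hy']
    · change ((M ⟨(x, y), hp⟩ : G F) : Matrix (Fin 2) (Fin 2) F) 1 1 = _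
      rw [hM]; simp [c11]
  rw [← Nat.card_congr (Equiv.ofBijective Φ ⟨hinj, hsurj⟩), Nat.card_eq_fintype_card,
    Fintype.card_subtype_compl, Fintype.card_prod, Fintype.card_subtype_eq, sq]

theorem result {F : Type*} [Field F] [Fintype F] (g : Matrix.GeneralLinearGroup (Fin 2) F) :
    ((g : Matrix (Fin 2) (Fin 2) F) 0 1 = 0 → (g : Matrix (Fin 2) (Fin 2) F) 1 0 = 0 → (g : Matrix (Fin 2) (Fin 2) F) 0 0 ≠ (g : Matrix (Fin 2) (Fin 2) F) 1 1 →
      Nat.card (Subgroup.centralizer ({g} : Set (Matrix.GeneralLinearGroup (Fin 2) F))) = (Fintype.card F - 1) ^ 2) ∧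
    ((∀ (c : F) (v : Fin 2 → F), v ≠ 0 → (g : Matrix (Fin 2) (Fin 2) F).mulVec v ≠ c • v) →
      Nat.card (Subgroup.centralizer ({g} : Set (Matrix.GeneralLinearGroup (Fin 2) F))) = Fintype.card F ^ 2 - 1) :=
  ⟨card_diag g, card_noeig g⟩

end Cfsg.Agent.S2303
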