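import Cfsg.Statements.S2305
import Cfsg.Agent.H9.PrincipalSeriesGL

set_option autoImplicit false
open Cfsg

namespace Cfsg.Agent.S2305

open Cfsg.Agent.H9.PrincipalSeriesGL Cfsg.Agent.Lib.helper3.IndFun Cfsg.Agent.Lib.helper3.Irr

/-- Over a finite field F, for multiplicative characters α, β, α′, β′ of F, the characters of GL₂ induced from the linear characters b ↦ α(b₁₁) β(b₂₂) and b ↦ α′(b₁₁) β′(b₂₂) of the upper triangular subgroup coincide exactly when {α, β} = {α′, β′} as unordered pairs. -/
theorem result {F : Type*} [Field F] [Fintype F] [DecidableEq F] (α β α' β' : MulChar F ℂ) :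
    Cfsg.indFun (Cfsg.upperTriangularGL 2 F) (fun b => α (((b : Matrix.GeneralLinearGroup (Fin 2) F) : Matrix (Fin 2) (Fin 2) F) 0 0) * β (((b : Matrix.GeneralLinearGroup (Fin 2) F) : Matrix (Fin 2) (Fin 2) F) 1 1)) = Cfsg.indFun (Cfsg.upperTriangularGL 2 F) (fun b => α' (((b : Matrix.GeneralLinearGroup (Fin 2) F) : Matrix (Fin 2) (Fin 2) F) 0 0) * β' (((b : Matrix.GeneralLinearGroup (Fin 2) F) : Matrix (Fin 2) (Fin 2) F) 1 1)) ↔
      (α = α' ∧ β = β') ∨ (α = β' ∧ β = α') := by
  classical
  change indFun (Cfsg.upperTriangularGL 2 F) (thetaGL α β)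
    = indFun (Cfsg.upperTriangularGL 2 F) (thetaGL α' β') ↔ _
  constructor
  · intro h
    have h1 := classInner_RGL α β α β
    have h2 := classInner_RGL α β α' β'
    rw [← h, h1, if_pos ⟨rfl, rfl⟩] at h2
    by_contra hno
    rw [not_or] at hno
    rw [if_neg hno.1, if_neg hno.2, add_zero] at h2
    have h3 : ((1 : ℂ) + if α = β ∧ β = α then 1 else 0) ≠ 0 := by
      split_ifs <;> norm_num
    exact h3 h2
  · rintro (⟨rfl, rfl⟩ | ⟨rfl, rfl⟩)
    · rfl
    · have h1 := classInner_RGL α β α β
      have h2 := classInner_RGL α β β α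
      have h3 := classInner_RGL β α α β
      have h4 := classInner_RGL β α β α
      have h5 : classInner (indFun (Cfsg.upperTriangularGL 2 F) (thetaGL α β)
          - indFun (Cfsg.upperTriangularGL 2 F) (thetaGL β α))
          (indFun (Cfsg.upperTriangularGL 2 F) (thetaGL α β)
          - indFun (Cfsg.upperTriangularGL 2 F) (thetaGL β α)) = 0 := by
        rw [classInner_sub_left, classInner_sub_right, classInner_sub_right, h1, h2, h3, h4]
        by_cases hab : α = β
        · subst hab
          simp
        · have hba : ¬ β = α := fun h => hab h.symm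
          simp [hab, hba]
      exact sub_eq_zero.mp (eq_zero_of_classInner_self_eq_zero _ h5)

end Cfsg.Agent.S2305
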