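import Cfsg.Statements.S2309
import Cfsg.Agent.H9.GL2Values

set_option autoImplicit false
open Cfsg

namespace Cfsg.Agent.S2309

open Cfsg.Agent.H9.GL2Chars Cfsg.Agent.H9.PrincipalSeriesGL Cfsg.Agent.Lib.helper3.IndFun Cfsg.Agent.Lib.helper3.Irr

/-- Over a finite field F with q elements: every irreducible complex character of GL₂ of degree q − 1 vanishes at every diagonal matrix with two distinct entries, and every irreducible complex character of degree q + 1 vanishes at every element with no eigenvector in F². -/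
theorem result {F : Type*} [Field F] [Fintype F] (χ : Matrix.GeneralLinearGroup (Fin 2) F → ℂ) (hχ : Cfsg.IsIrrCharacter (Matrix.GeneralLinearGroup (Fin 2) F) χ) (g : Matrix.GeneralLinearGroup (Fin 2) F) :
    (χ 1 = (Fintype.card F : ℂ) - 1 → (g : Matrix (Fin 2) (Fin 2) F) 0 1 = 0 → (g : Matrix (Fin 2) (Fin 2) F) 1 0 = 0 → (g : Matrix (Fin 2) (Fin 2) F) 0 0 ≠ (g : Matrix (Fin 2) (Fin 2) F) 1 1 → χ g = 0) ∧
    (χ 1 = (Fintype.card F : ℂ) + 1 → (∀ (c : F) (v : Fin 2 → F), v ≠ 0 → (g : Matrix (Fin 2) (Fin 2) F).mulVec v ≠ c • v) → χ g = 0) := by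
  classical
  have hq2 : 2 ≤ Fintype.card F := Fintype.one_lt_card
  have c1 : (1 : ℂ) ≠ (Fintype.card F : ℂ) := by
    have : (1 : ℕ) ≠ Fintype.card F := by omega
    exact_mod_cast this
  have c2 : (1 : ℂ) ≠ (Fintype.card F : ℂ) + 1 := by
    have : (1 : ℕ) ≠ Fintype.card F + 1 := by omega
    exact_mod_cast this
  have c3 : (Fintype.card F : ℂ) ≠ (Fintype.card F : ℂ) + 1 := by
    have : Fintype.card F ≠ Fintype.card F + 1 := by omega
    exact_mod_cast this
  have c5 : (Fintype.card F : ℂ) - 1 ≠ (Fintype.card F : ℂ) := by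
    intro h
    have : (1 : ℂ) = 0 := by linear_combination -h
    exact one_ne_zero this
  have c6 : (Fintype.card F : ℂ) - 1 ≠ (Fintype.card F : ℂ) + 1 := by
    intro h
    have : (2 : ℂ) = 0 := by linear_combination -h
    exact two_ne_zero this
  constructor
  · intro hdeg h01 h10 hne
    rcases irr_cases' hχ with ⟨α, rfl⟩ | ⟨α, rfl⟩ | ⟨α, β, -, rfl⟩ | ⟨hc, -, -⟩
    · exfalso
      rw [Lfun_one] at hdeg
      have hq : Fintype.card F = 2 := by
        have : (Fintype.card F : ℂ) = ((2 : ℕ) : ℂ) := by push_cast; linear_combination -hdeg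
        exact Nat.cast_injective this
      have hdet := det_ne_zero_GL2 g
      rw [h01, zero_mul, sub_zero] at hdet
      have h0 := left_ne_zero_of_mul hdet
      have h1 := right_ne_zero_of_mul hdet
      have hcard : Fintype.card Fˣ = 1 := by rw [Fintype.card_units, hq]
      have hsub : Subsingleton Fˣ := Fintype.card_le_one_iff_subsingleton.mp hcard.le
      have := Subsingleton.elim (Units.mk0 _ h0) (Units.mk0 _ h1)
      exact hne (congrArg Units.val this)
    · rw [Stfun_one] at hdeg; exact absurd hdeg.symm c5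
    · rw [RGL_one] at hdeg; exact absurd hdeg.symm c6
    · exact cusp_split_zero (isClassFunction_of_isCharacter (isCharacter_of_isIrrCharacter hχ)) hc
        g h01 h10 hne
  · intro hdeg hno
    rcases irr_cases' hχ with ⟨α, rfl⟩ | ⟨α, rfl⟩ | ⟨α, β, -, rfl⟩ | ⟨-, h, -⟩
    · rw [Lfun_one] at hdeg; exact absurd hdeg c2
    · rw [Stfun_one] at hdeg; exact absurd hdeg c3
    · exact RGL_elliptic α β g hno
    · rw [h] at hdeg; exact absurd hdeg c6

end Cfsg.Agent.S2309
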