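import Cfsg.Statements.S2310
import Cfsg.Agent.H9.GL2Values

set_option autoImplicit false
open Cfsg

namespace Cfsg.Agent.S2310

open Cfsg.Agent.H9.GL2Chars Cfsg.Agent.H9.PrincipalSeriesGL Cfsg.Agent.Lib.helper3.IndFun Cfsg.Agent.Lib.helper3.Irr

/-- Over a finite field F with q ≥ 3 elements, let u be the upper unitriangular matrix of GL₂ with off-diagonal entry 1. An irreducible complex character χ of GL₂ takes at u the value 1 if χ has degree 1 or q + 1, the value −1 if χ has degree q − 1, and the value 0 if χ has degree q. -/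
theorem result {F : Type*} [Field F] [Fintype F] (hq : 3 ≤ Fintype.card F) (χ : Matrix.GeneralLinearGroup (Fin 2) F → ℂ) (hχ : Cfsg.IsIrrCharacter (Matrix.GeneralLinearGroup (Fin 2) F) χ)
    (u : Matrix.GeneralLinearGroup (Fin 2) F) (hu : (u : Matrix (Fin 2) (Fin 2) F) = !![1, 1; 0, 1]) :
    (χ 1 = 1 → χ u = 1) ∧ (χ 1 = (Fintype.card F : ℂ) + 1 → χ u = 1) ∧
    (χ 1 = (Fintype.card F : ℂ) - 1 → χ u = -1) ∧ (χ 1 = (Fintype.card F : ℂ) → χ u = 0) := by
  classical
  have hq2 : 2 ≤ Fintype.card F := Fintype.one_lt_card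
  have c1 : (1 : ℂ) ≠ (Fintype.card F : ℂ) := by
    have : (1 : ℕ) ≠ Fintype.card F := by omega
    exact_mod_cast this
  have c2 : (1 : ℂ) ≠ (Fintype.card F : ℂ) + 1 := by
    have : (1 : ℕ) ≠ Fintype.card F + 1 := by omega
    exact_mod_cast this
  have c3 : (Fintype.card F : ℂ) ≠ (Fintype.card F : ℂ) + 1 := by
    have : Fintype.card F ≠ Fintype.card F + 1 := by omega
    exact_mod_cast this
  have c5 : (Fintype.card F : ℂ) - 1 ≠ (Fintype.card F : ℂ) := by
    intro h
    have : (1 : ℂ) = 0 := by linear_combination -h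
    exact one_ne_zero this
  have c6 : (Fintype.card F : ℂ) - 1 ≠ (Fintype.card F : ℂ) + 1 := by
    intro h
    have : (2 : ℂ) = 0 := by linear_combination -h
    exact two_ne_zero this
  have c4 : (Fintype.card F : ℂ) - 1 ≠ 1 := by
    intro h
    have : (Fintype.card F : ℂ) = ((2 : ℕ) : ℂ) := by push_cast; linear_combination h
    have := Nat.cast_injective this
    omega
  have hu' : u = uuG 1 := by
    apply Units.ext
    rw [hu, uuG_val]
  subst hu'
  rcases irr_cases' hχ with ⟨α, rfl⟩ | ⟨α, rfl⟩ | ⟨α, β, -, rfl⟩ | ⟨-, h, h'⟩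
  · refine ⟨fun _ => Lfun_uuG α, fun h => ?_, fun h => ?_, fun h => ?_⟩
    · rw [Lfun_one] at h; exact absurd h c2
    · rw [Lfun_one] at h; exact absurd h.symm c4
    · rw [Lfun_one] at h; exact absurd h c1
  · refine ⟨fun h => ?_, fun h => ?_, fun h => ?_, fun _ => Stfun_uuG α⟩
    · rw [Stfun_one] at h; exact absurd h.symm c1
    · rw [Stfun_one] at h; exact absurd h c3
    · rw [Stfun_one] at h; exact absurd h.symm c5
  · refine ⟨fun h => ?_, fun _ => RGL_uuG α β, fun h => ?_, fun h => ?_⟩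
    · rw [RGL_one] at h; exact absurd h.symm c2
    · rw [RGL_one] at h; exact absurd h.symm c6
    · rw [RGL_one] at h; exact absurd h.symm c3
  · refine ⟨fun h1 => ?_, fun h1 => ?_, fun _ => h', fun h1 => ?_⟩
    · rw [h] at h1; exact absurd h1 c4
    · rw [h] at h1; exact absurd h1 c6
    · rw [h] at h1; exact absurd h1 c5

end Cfsg.Agent.S2310
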