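import Cfsg.Statements.S2320
import Cfsg.Agent.H9.GL2Values

set_option autoImplicit false
open Cfsg

namespace Cfsg.Agent.S2320

open Cfsg.Agent.H9.GL2Chars Cfsg.Agent.H9.PrincipalSeriesGL Cfsg.Agent.Lib.helper3.IndFun Cfsg.Agent.Lib.helper3.Irr

/-- Over a finite field F with q elements, every irreducible complex character of GL₂ of degree q takes a value of absolute value 1 at every diagonal matrix with two different diagonal entries and at every element with no eigenvector in F². -/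
theorem result {F : Type*} [Field F] [Fintype F] (χ : Matrix.GeneralLinearGroup (Fin 2) F → ℂ) (hχ : Cfsg.IsIrrCharacter (Matrix.GeneralLinearGroup (Fin 2) F) χ) (hdeg : χ 1 = (Fintype.card F : ℂ)) (g : Matrix.GeneralLinearGroup (Fin 2) F) :
    ((g : Matrix (Fin 2) (Fin 2) F) 0 1 = 0 → (g : Matrix (Fin 2) (Fin 2) F) 1 0 = 0 → (g : Matrix (Fin 2) (Fin 2) F) 0 0 ≠ (g : Matrix (Fin 2) (Fin 2) F) 1 1 → ‖χ g‖ = 1) ∧
    ((∀ (c : F) (v : Fin 2 → F), v ≠ 0 → (g : Matrix (Fin 2) (Fin 2) F).mulVec v ≠ c • v) → ‖χ g‖ = 1) := by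
  classical
  have hq2 : 2 ≤ Fintype.card F := Fintype.one_lt_card
  have c1 : (1 : ℂ) ≠ (Fintype.card F : ℂ) := by
    have : (1 : ℕ) ≠ Fintype.card F := by omega
    exact_mod_cast this
  have c2 : (1 : ℂ) ≠ (Fintype.card F : ℂ) + 1 := by
    have : (1 : ℕ) ≠ Fintype.card F + 1 := by omega
    exact_mod_cast this
  have c3 : (Fintype.card F : ℂ) ≠ (Fintype.card F : ℂ) + 1 := by
    have : Fintype.card F ≠ Fintype.card F + 1 := by omega
    exact_mod_cast this
  have c5 : (Fintype.card F : ℂ) - 1 ≠ (Fintype.card F : ℂ) := by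
    intro h
    have : (1 : ℂ) = 0 := by linear_combination -h
    exact one_ne_zero this
  have c6 : (Fintype.card F : ℂ) - 1 ≠ (Fintype.card F : ℂ) + 1 := by
    intro h
    have : (2 : ℂ) = 0 := by linear_combination -h
    exact two_ne_zero this
  have hst : ∃ α, χ = Stfun α := by
    rcases irr_cases' hχ with ⟨α, rfl⟩ | ⟨α, rfl⟩ | ⟨α, β, -, rfl⟩ | ⟨-, h, -⟩
    · rw [Lfun_one] at hdeg; exact absurd hdeg c1
    · exact ⟨α, rfl⟩
    · rw [RGL_one] at hdeg; exact absurd hdeg.symm c3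
    · rw [h] at hdeg; exact absurd hdeg c5
  obtain ⟨α, rfl⟩ := hst
  have hdet := det_ne_zero_GL2 g
  constructor
  · intro h01 h10 hne
    unfold Stfun
    rw [Pi.sub_apply, RGL_split α α g h01 h10 hne, Lfun_apply, h01, zero_mul, sub_zero, map_mul]
    rw [h01, zero_mul, sub_zero] at hdet
    have : α ((g : Matrix (Fin 2) (Fin 2) F) 0 0) * α ((g : Matrix (Fin 2) (Fin 2) F) 1 1) +
        α ((g : Matrix (Fin 2) (Fin 2) F) 1 1) * α ((g : Matrix (Fin 2) (Fin 2) F) 0 0) -
        α ((g : Matrix (Fin 2) (Fin 2) F) 0 0) * α ((g : Matrix (Fin 2) (Fin 2) F) 1 1)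
        = α ((g : Matrix (Fin 2) (Fin 2) F) 0 0 * (g : Matrix (Fin 2) (Fin 2) F) 1 1) := by
      rw [map_mul]; ring
    rw [this]
    exact norm_mulChar_apply α _ hdet
  · intro hno
    unfold Stfun
    rw [Pi.sub_apply, RGL_elliptic α α g hno, Lfun_apply, zero_sub, norm_neg]
    exact norm_mulChar_apply α _ hdet

end Cfsg.Agent.S2320
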