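import Cfsg.Statements.S2321
import Cfsg.Agent.H9.SL2OddByDeg
import Cfsg.Agent.H9.SL2Even

set_option autoImplicit false
open Cfsg

namespace Cfsg.Agent.S2321

open Cfsg.Agent.Lib.helper3.IndFun Cfsg.Agent.Lib.helper3.Irr
open Cfsg.Agent.H9.SL2Chars Cfsg.Agent.H9.PrincipalSeries Cfsg.Agent.S2307
open Cfsg.Agent.H9.PrincipalSeriesGL

section aux

variable {F : Type*} [Field F] [Fintype F] [DecidableEq F]

local notation "SL2" => Matrix.SpecialLinearGroup (Fin 2) F

/-- the number of fixed points on the projective line -/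
noncomputable def cnt (s : SL2) : ℂ :=
  (∑ c : F, if s.1 1 0 + (s.1 1 1 - s.1 0 0) * c - s.1 0 1 * c ^ 2 = 0 then (1 : ℂ) else 0)
    + (if s.1 0 1 = 0 then 1 else 0)

theorem R_one_eq_cnt (s : SL2) : indFun (Bor : Subgroup SL2) (theta (1 : MulChar F ℂ)) s = cnt s := by
  rw [Cfsg.Agent.H9.PrincipalSeries.R_apply]
  unfold cnt
  have hdet := det_entries s
  have key : ∀ x y : F, x * y = 1 → (1 : MulChar F ℂ) x = 1 := by
    intro x y hxy
    have hx : IsUnit x := IsUnit.of_mul_eq_one _ hxy
    exact MulChar.one_apply hx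
  congr 1
  · apply Finset.sum_congr rfl
    intro c _
    by_cases h : s.1 1 0 + (s.1 1 1 - s.1 0 0) * c - s.1 0 1 * c ^ 2 = 0
    · rw [if_pos h, if_pos h]
      apply key _ (s.1 1 1 - s.1 0 1 * c)
      linear_combination hdet + s.1 0 1 * h
    · rw [if_neg h, if_neg h]
  · by_cases h : s.1 0 1 = 0
    · rw [if_pos h, if_pos h]
      apply key _ (s.1 0 0)
      rw [h, zero_mul, sub_zero] at hdet
      rw [mul_comm]; exact hdet
    · rw [if_neg h, if_neg h]

theorem RGL_one_eq_cnt (s : SL2) :
    indFun (Cfsg.upperTriangularGL 2 F) (thetaGL 1 1) (Matrix.SpecialLinearGroup.toGL s) = cnt s := by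
  rw [RGL_apply]
  have hcoe : ((Matrix.SpecialLinearGroup.toGL s : Matrix.GeneralLinearGroup (Fin 2) F) :
    Matrix (Fin 2) (Fin 2) F) = s.1 := rfl
  rw [hcoe]
  unfold cnt
  have hdet := det_entries s
  have key : ∀ x y : F, x * y = 1 → (1 : MulChar F ℂ) x * (1 : MulChar F ℂ) y = 1 := by
    intro x y hxy
    rw [← map_mul, hxy, map_one]
  congr 1
  · apply Finset.sum_congr rfl
    intro c _
    by_cases h : s.1 1 0 + (s.1 1 1 - s.1 0 0) * c - s.1 0 1 * c ^ 2 = 0
    · rw [if_pos h, if_pos h]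
      apply key
      linear_combination hdet + s.1 0 1 * h
    · rw [if_neg h, if_neg h]
  · by_cases h : s.1 0 1 = 0
    · rw [if_pos h, if_pos h]
      apply key
      rw [h, zero_mul, sub_zero] at hdet
      rw [mul_comm]; exact hdet
    · rw [if_neg h, if_neg h]

/-- diagonal, non-central -/
theorem cnt_diag (s : SL2) (h01 : s.1 0 1 = 0) (h10 : s.1 1 0 = 0) (ha : s.1 0 0 ^ 2 ≠ 1) :
    cnt s = 2 := by
  unfold cnt
  have hdet := det_entries s
  rw [h01, h10] at hdet
  have hne : s.1 1 1 - s.1 0 0 ≠ 0 := by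
    intro h
    apply ha
    have : s.1 1 1 = s.1 0 0 := sub_eq_zero.mp h
    rw [this] at hdet
    linear_combination hdet
  rw [if_pos h01]
  have : ∀ c : F, (s.1 1 0 + (s.1 1 1 - s.1 0 0) * c - s.1 0 1 * c ^ 2 = 0) ↔ c = 0 := by
    intro c
    rw [h01, h10]
    constructor
    · intro h
      have h' : (s.1 1 1 - s.1 0 0) * c = 0 := by linear_combination h
      rcases mul_eq_zero.mp h' with h'' | h''
      · exact absurd h'' hne
      · exact h''
    · rintro rfl; ring
  simp only [this, Finset.sum_ite_eq', Finset.mem_univ, if_true]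
  norm_num

/-- no eigenvector -/
theorem cnt_elliptic (s : SL2)
    (h : ∀ (c : F) (v : Fin 2 → F), v ≠ 0 → (s.1).mulVec v ≠ c • v) : cnt s = 0 := by
  unfold cnt
  have h01 : s.1 0 1 ≠ 0 := by
    intro h0
    apply h (s.1 1 1) ![0, 1]
    · intro hv
      have := congrFun hv 1
      simp at this
    · ext i
      fin_cases i
      · simp [Matrix.mulVec, dotProduct, Fin.sum_univ_two, h0]
      · simp [Matrix.mulVec, dotProduct, Fin.sum_univ_two]
  rw [if_neg h01, add_zero]
  apply Finset.sum_eq_zero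
  intro c _
  rw [if_neg]
  intro hc
  apply h (s.1 0 0 + s.1 0 1 * c) ![1, c]
  · intro hv
    have := congrFun hv 0
    simp at this
  · ext i
    fin_cases i
    · simp [Matrix.mulVec, dotProduct, Fin.sum_univ_two]
    · simp [Matrix.mulVec, dotProduct, Fin.sum_univ_two]
      linear_combination hc

/-- non-semisimple -/
theorem cnt_unip (s : SL2) (h10 : s.1 1 0 = 0) (hd : s.1 0 0 = s.1 1 1) (h01 : s.1 0 1 ≠ 0) :
    cnt s = 1 := by
  unfold cnt
  rw [if_neg h01, add_zero]
  have : ∀ c : F, (s.1 1 0 + (s.1 1 1 - s.1 0 0) * c - s.1 0 1 * c ^ 2 = 0) ↔ c = 0 := by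
    intro c
    rw [h10, hd]
    constructor
    · intro h
      have h' : s.1 0 1 * c ^ 2 = 0 := by linear_combination -h
      rcases mul_eq_zero.mp h' with h'' | h''
      · exact absurd h'' h01
      · exact pow_eq_zero_iff (two_ne_zero) |>.mp h''
    · rintro rfl; ring
  simp only [this, Finset.sum_ite_eq', Finset.mem_univ, if_true]

end aux

/-- Over a finite field F with q elements, an irreducible complex character of SL₂ of degree q (the Steinberg character) takes the value 1 at every diagonal matrix whose diagonal entry a has a² ≠ 1, the value −1 at every element with no eigenvector in F², and the value 0 at every upper triangular matrix with equal diagonal entries and non-zero upper right entry. -/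
theorem result {F : Type*} [Field F] [Fintype F] (χ : Matrix.SpecialLinearGroup (Fin 2) F → ℂ) (hχ : Cfsg.IsIrrCharacter (Matrix.SpecialLinearGroup (Fin 2) F) χ) (hdeg : χ 1 = (Fintype.card F : ℂ)) (g : Matrix.SpecialLinearGroup (Fin 2) F) :
    ((g : Matrix (Fin 2) (Fin 2) F) 0 1 = 0 → (g : Matrix (Fin 2) (Fin 2) F) 1 0 = 0 → (g : Matrix (Fin 2) (Fin 2) F) 0 0 ^ 2 ≠ 1 → χ g = 1) ∧
    ((∀ (c : F) (v : Fin 2 → F), v ≠ 0 → (g : Matrix (Fin 2) (Fin 2) F).mulVec v ≠ c • v) → χ g = -1) ∧
    ((g : Matrix (Fin 2) (Fin 2) F) 1 0 = 0 → (g : Matrix (Fin 2) (Fin 2) F) 0 0 = (g : Matrix (Fin 2) (Fin 2) F) 1 1 → (g : Matrix (Fin 2) (Fin 2) F) 0 1 ≠ 0 → χ g = 0) := by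
  classical
  have hq1 : 1 ≤ Fintype.card F := Fintype.card_pos
  have hq2 : 2 ≤ Fintype.card F := Fintype.one_lt_card
  have hcm1 : (Fintype.card F : ℂ) - 1 = ((Fintype.card F - 1 : ℕ) : ℂ) := by
    push_cast [Nat.cast_sub hq1]; ring
  have hcp1 : (Fintype.card F : ℂ) + 1 = ((Fintype.card F + 1 : ℕ) : ℂ) := by
    push_cast; ring
  have inj : ∀ {a b : ℕ}, χ 1 = (a : ℂ) → χ 1 = (b : ℂ) → a = b := by
    intro a b ha hb
    exact Nat.cast_injective (ha.symm.trans hb)
  have hval : ∀ s, χ s = cnt s - 1 := by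
    rcases Nat.even_or_odd (Fintype.card F) with hev | hodd
    · have hc2 : ringChar F = 2 := (FiniteField.even_card_iff_char_two).mpr (Nat.even_iff.mp hev)
      haveI : CharP F 2 := ringChar.of_eq hc2
      rcases Cfsg.Agent.H9.SL2Even.even_cases hχ with h | h | h | h
      · have h1 : χ 1 = ((1 : ℕ) : ℂ) := by rw [h.1]; simp
        have := inj h1 hdeg; omega
      · intro s
        rw [h.2.2 s, RGL_one_eq_cnt]
      · have h1 := h.1
        rw [hcp1] at h1
        have := inj h1 hdeg; omega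
      · have h1 := h.1
        rw [hcm1] at h1
        have := inj h1 hdeg; omega
    · obtain ⟨H⟩ := exists_halves (F := F) hodd
      set ψ := AddChar.FiniteField.primitiveChar_to_Complex F with hψdef
      have hψ : ψ.IsPrimitive := AddChar.FiniteField.primitiveChar_to_Complex_isPrimitive F
      obtain ⟨ν, hν⟩ := exists_nonsquare (F := F) hodd
      obtain ⟨k, hk⟩ := id hodd
      have hst : χ = StSL := by
        rcases degree_nat_type H hodd ψ hψ hν hχ with h | h | h | h | h | h
        · have := inj h.2 hdeg; omega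
        · exact h.1
        · have := inj h.2 hdeg; omega
        · have := inj h.2 hdeg; omega
        · have := inj h.2 hdeg; omega
        · have := inj h.2 hdeg; omega
      intro s
      rw [hst]
      unfold StSL
      rw [Pi.sub_apply, R_one_eq_cnt]
  refine ⟨?_, ?_, ?_⟩
  · intro h01 h10 ha
    rw [hval, cnt_diag g h01 h10 ha]; norm_num
  · intro h
    rw [hval, cnt_elliptic g h]; norm_num
  · intro h10 hd h01
    rw [hval, cnt_unip g h10 hd h01]; norm_num

end Cfsg.Agent.S2321
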