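import Cfsg.Statements.S2322
import Cfsg.Agent.H9.SL2OddEllCol

set_option autoImplicit false
open Cfsg

namespace Cfsg.Agent.S2322

open Cfsg.Agent.Lib.helper3.IndFun Cfsg.Agent.Lib.helper3.Irr
open Cfsg.Agent.H9.SL2Chars Cfsg.Agent.H9.PrincipalSeries Cfsg.Agent.S2307

section aux

variable {F : Type*} [Field F] [Fintype F] [DecidableEq F]

local notation "SL2" => Matrix.SpecialLinearGroup (Fin 2) F

/-- cuspidal class functions vanish at the non-central diagonal elements -/
theorem cusp_diag {χ : SL2 → ℂ} (hχ : IsClassFunction SL2 χ) (hc : IsCuspSL χ) (g : SL2)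
    (h01 : g.1 0 1 = 0) (h10 : g.1 1 0 = 0) (ha : g.1 0 0 ^ 2 ≠ 1) : χ g = 0 := by
  have hdet := det_entries g
  rw [h01, zero_mul, sub_zero] at hdet
  have ha0 : g.1 0 0 ≠ 0 := left_ne_zero_of_mul_eq_one hdet
  have hd0 : g.1 1 1 ≠ 0 := right_ne_zero_of_mul_eq_one hdet
  have hne : g.1 1 1 - g.1 0 0 ≠ 0 := by
    intro h
    apply ha
    have : g.1 1 1 = g.1 0 0 := sub_eq_zero.mp h
    rw [this] at hdet
    rw [pow_two]; exact hdet
  have hinv : ((Units.mk0 (g.1 0 0) ha0)⁻¹ : Fˣ).val = g.1 1 1 := by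
    rw [Units.val_inv_eq_inv_val, Units.val_mk0]
    exact (eq_inv_of_mul_eq_one_right hdet).symm
  have hsum := cuspSL_sum_zero hχ hc (Units.mk0 (g.1 0 0) ha0)
  have hterm : ∀ x : F, χ ((mkB (Units.mk0 (g.1 0 0) ha0, x) : ↥(Bor : Subgroup SL2)) : SL2) = χ g := by
    intro x
    have hconj : ((mkB (Units.mk0 (g.1 0 0) ha0, x) : ↥(Bor : Subgroup SL2)) : SL2)
        = uu (x / (g.1 1 1 - g.1 0 0)) * g * (uu (x / (g.1 1 1 - g.1 0 0)))⁻¹ := by
      obtain ⟨i1, i2, i3, i4⟩ := inv_entries (uu (x / (g.1 1 1 - g.1 0 0)) : SL2)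
      have u00 : (uu (x / (g.1 1 1 - g.1 0 0)) : SL2).1 0 0 = 1 := by simp [uu]
      have u01 : (uu (x / (g.1 1 1 - g.1 0 0)) : SL2).1 0 1 = x / (g.1 1 1 - g.1 0 0) := by
        simp [uu]
      have u10 : (uu (x / (g.1 1 1 - g.1 0 0)) : SL2).1 1 0 = 0 := by simp [uu]
      have u11 : (uu (x / (g.1 1 1 - g.1 0 0)) : SL2).1 1 1 = 1 := by simp [uu]
      have m00 : ((mkB (Units.mk0 (g.1 0 0) ha0, x) : ↥(Bor : Subgroup SL2)) : SL2).1 0 0 = g.1 0 0 := by
        simp [mkB]
      have m01 : ((mkB (Units.mk0 (g.1 0 0) ha0, x) : ↥(Bor : Subgroup SL2)) : SL2).1 0 1 = x := by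
        simp [mkB]
      have m10 : ((mkB (Units.mk0 (g.1 0 0) ha0, x) : ↥(Bor : Subgroup SL2)) : SL2).1 1 0 = 0 := by
        simp [mkB]
      have m11 : ((mkB (Units.mk0 (g.1 0 0) ha0, x) : ↥(Bor : Subgroup SL2)) : SL2).1 1 1 = g.1 1 1 := by
        rw [← hinv]
        simp [mkB]
      apply ext_entries
      · rw [m00]; simp only [mul_entries, i1, i2, i3, i4, u00, u01, u10, u11, h01, h10]; ring
      · rw [m01]; simp only [mul_entries, i1, i2, i3, i4, u00, u01, u10, u11, h01, h10]
        field_simp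
        ring
      · rw [m10]; simp only [mul_entries, i1, i2, i3, i4, u00, u01, u10, u11, h01, h10]; ring
      · rw [m11]; simp only [mul_entries, i1, i2, i3, i4, u00, u01, u10, u11, h01, h10]; ring
    rw [hconj]
    exact hχ g _
  rw [Finset.sum_congr rfl (fun x _ => hterm x), Finset.sum_const, Finset.card_univ,
    nsmul_eq_mul] at hsum
  have hq : (Fintype.card F : ℂ) ≠ 0 := by
    exact_mod_cast Fintype.card_ne_zero
  exact (mul_eq_zero.mp hsum).resolve_left hq

end aux

/-- Over a finite field F with q elements, q odd: every irreducible complex character of SL₂ of degree q − 1 or (q − 1)/2 vanishes at every diagonal matrix whose diagonal entry a has a² ≠ 1, and every irreducible complex character of degree q + 1 or (q + 1)/2 vanishes at every element with no eigenvector in F². -/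
theorem result {F : Type*} [Field F] [Fintype F] (hodd : Odd (Fintype.card F)) (χ : Matrix.SpecialLinearGroup (Fin 2) F → ℂ) (hχ : Cfsg.IsIrrCharacter (Matrix.SpecialLinearGroup (Fin 2) F) χ) (g : Matrix.SpecialLinearGroup (Fin 2) F) :
    ((χ 1 = (Fintype.card F : ℂ) - 1 ∨ χ 1 = (((Fintype.card F - 1) / 2 : ℕ) : ℂ)) →
      (g : Matrix (Fin 2) (Fin 2) F) 0 1 = 0 → (g : Matrix (Fin 2) (Fin 2) F) 1 0 = 0 → (g : Matrix (Fin 2) (Fin 2) F) 0 0 ^ 2 ≠ 1 → χ g = 0) ∧
    ((χ 1 = (Fintype.card F : ℂ) + 1 ∨ χ 1 = (((Fintype.card F + 1) / 2 : ℕ) : ℂ)) →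
      (∀ (c : F) (v : Fin 2 → F), v ≠ 0 → (g : Matrix (Fin 2) (Fin 2) F).mulVec v ≠ c • v) → χ g = 0) := by
  classical
  obtain ⟨H⟩ := exists_halves (F := F) hodd
  set ψ := AddChar.FiniteField.primitiveChar_to_Complex F with hψdef
  have hψ : ψ.IsPrimitive := AddChar.FiniteField.primitiveChar_to_Complex_isPrimitive F
  obtain ⟨ν, hν⟩ := exists_nonsquare (F := F) hodd
  have hq1 : 1 ≤ Fintype.card F := Fintype.card_pos
  have hq2 : 2 ≤ Fintype.card F := Fintype.one_lt_card
  have hcm1 : (Fintype.card F : ℂ) - 1 = ((Fintype.card F - 1 : ℕ) : ℂ) := by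
    push_cast [Nat.cast_sub hq1]; ring
  have hcp1 : (Fintype.card F : ℂ) + 1 = ((Fintype.card F + 1 : ℕ) : ℂ) := by
    push_cast; ring
  have inj : ∀ {a b : ℕ}, χ 1 = (a : ℂ) → χ 1 = (b : ℂ) → a = b := by
    intro a b ha hb
    exact Nat.cast_injective (ha.symm.trans hb)
  have hcf := isClassFunction_of_isCharacter (isCharacter_of_isIrrCharacter hχ)
  obtain ⟨k, hk⟩ := id hodd
  have hk1 : 1 ≤ k := by omega
  constructor
  · intro hd h01 h10 ha
    by_cases hq5 : 5 ≤ Fintype.card F
    · have key := type_by_degree H hodd hq5 ψ hψ hν hχ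
      rcases hd with hd | hd
      · exact cusp_diag hcf (key.2.2.1 hd).1 g h01 h10 ha
      · exact cusp_diag hcf (key.2.2.2.2 hd).1 g h01 h10 ha
    · exfalso
      have hq3 : Fintype.card F = 3 := by omega
      apply ha
      have hdet := det_entries g
      rw [h01, zero_mul, sub_zero] at hdet
      have ha0 : (g : Matrix (Fin 2) (Fin 2) F) 0 0 ≠ 0 := left_ne_zero_of_mul_eq_one hdet
      have := FiniteField.pow_card_sub_one_eq_one _ ha0
      rw [hq3] at this
      exact this
  · intro hd hell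
    have hell' : IsEll g := hell
    rcases hd with hd | hd
    · rw [hcp1] at hd
      rcases degree_nat_type H hodd ψ hψ hν hχ with h | h | h | h | h | h
      · have := inj h.2 hd; omega
      · have := inj h.2 hd; omega
      · have := inj h.2 hd; omega
      · obtain ⟨α, -, rfl⟩ := h.1
        exact R_elliptic α hell'
      · have := inj h.2 hd; omega
      · have := inj h.2 hd; omega
    · rcases degree_nat_type H hodd ψ hψ hν hχ with h | h | h | h | h | h
      · have := inj h.2 hd; omega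
      · have := inj h.2 hd; omega
      · rcases h.1 with e | e
        · rw [e]; exact (halves_elliptic H hodd hell').1
        · rw [e]; exact (halves_elliptic H hodd hell').2
      · have := inj h.2 hd; omega
      · have h3 := inj h.2 hd
        have hq3 : Fintype.card F = 3 := by omega
        apply deg_two_ell_q3 H hq3 hχ _ hell'
        rw [hd, hq3]
        norm_num
      · have := inj h.2 hd; omega

end Cfsg.Agent.S2322
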