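import Cfsg.Statements.S2323
import Cfsg.Agent.H9.SL2OddByDeg
import Cfsg.Agent.H9.SL2Even

set_option autoImplicit false
open Cfsg

namespace Cfsg.Agent.S2323

open Cfsg.Agent.Lib.helper3.IndFun Cfsg.Agent.Lib.helper3.Irr
open Cfsg.Agent.H9.SL2Chars Cfsg.Agent.H9.PrincipalSeries Cfsg.Agent.S2307

/-- Over a finite field F with q ≥ 4 elements, let u be the upper unitriangular matrix of SL₂ with off-diagonal entry 1. An irreducible complex character of SL₂ takes at u the value 1 if its degree is q + 1 and the value −1 if its degree is q − 1. -/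
theorem result {F : Type*} [Field F] [Fintype F] (hq : 4 ≤ Fintype.card F) (χ : Matrix.SpecialLinearGroup (Fin 2) F → ℂ) (hχ : Cfsg.IsIrrCharacter (Matrix.SpecialLinearGroup (Fin 2) F) χ)
    (u : Matrix.SpecialLinearGroup (Fin 2) F) (hu : (u : Matrix (Fin 2) (Fin 2) F) = !![1, 1; 0, 1]) :
    (χ 1 = (Fintype.card F : ℂ) + 1 → χ u = 1) ∧ (χ 1 = (Fintype.card F : ℂ) - 1 → χ u = -1) := by
  classical
  have hu' : u = uu 1 := by
    apply Subtype.ext
    rw [hu]
    rfl
  subst hu'
  have hq1 : 1 ≤ Fintype.card F := Fintype.card_pos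
  have hcm1 : (Fintype.card F : ℂ) - 1 = ((Fintype.card F - 1 : ℕ) : ℂ) := by
    push_cast [Nat.cast_sub hq1]; ring
  have hcp1 : (Fintype.card F : ℂ) + 1 = ((Fintype.card F + 1 : ℕ) : ℂ) := by
    push_cast; ring
  rcases Nat.even_or_odd (Fintype.card F) with hev | hodd
  · -- characteristic two
    have hc2 : ringChar F = 2 := (FiniteField.even_card_iff_char_two).mpr (Nat.even_iff.mp hev)
    haveI : CharP F 2 := ringChar.of_eq hc2
    have key := Cfsg.Agent.H9.SL2Even.even_cases hχ
    have inj : ∀ {a b : ℕ}, χ 1 = (a : ℂ) → χ 1 = (b : ℂ) → a = b := by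
      intro a b ha hb
      exact Nat.cast_injective (ha.symm.trans hb)
    constructor
    · intro hd
      rw [hcp1] at hd
      rcases key with h | h | h | h
      · have h1 : χ 1 = ((1 : ℕ) : ℂ) := by rw [h.1]; simp
        have := inj h1 hd; omega
      · have := inj h.1 hd; omega
      · exact h.2.1
      · have h1 := h.1
        rw [hcm1] at h1
        have := inj h1 hd; omega
    · intro hd
      rw [hcm1] at hd
      rcases key with h | h | h | h
      · have h1 : χ 1 = ((1 : ℕ) : ℂ) := by rw [h.1]; simp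
        have := inj h1 hd; omega
      · have := inj h.1 hd; omega
      · have h1 := h.1
        rw [hcp1] at h1
        have := inj h1 hd; omega
      · exact h.2
  · -- odd characteristic
    have hq5 : 5 ≤ Fintype.card F := by
      obtain ⟨k, hk⟩ := hodd
      omega
    obtain ⟨H⟩ := exists_halves (F := F) hodd
    set ψ := AddChar.FiniteField.primitiveChar_to_Complex F with hψdef
    have hψ : ψ.IsPrimitive := AddChar.FiniteField.primitiveChar_to_Complex_isPrimitive F
    obtain ⟨ν, hν⟩ := exists_nonsquare (F := F) hodd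
    have key := type_by_degree H hodd hq5 ψ hψ hν hχ
    constructor
    · intro hd
      obtain ⟨α, -, rfl⟩ := key.1 hd
      rw [R_uu, if_neg one_ne_zero]; ring
    · intro hd
      obtain ⟨-, h0, h1, h2⟩ := key.2.2.1 hd
      have hcf := isClassFunction_of_isCharacter (isCharacter_of_isIrrCharacter hχ)
      rw [apply_uu_one hodd ψ hψ hcf hν, h0, h1, h2]
      ring

end Cfsg.Agent.S2323
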