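import Cfsg.Statements.S2324
import Cfsg.Agent.H9.SL2OddHalfCusp

set_option autoImplicit false
open Cfsg

namespace Cfsg.Agent.S2324

open Cfsg.Agent.Lib.helper3.IndFun Cfsg.Agent.Lib.helper3.Irr
open Cfsg.Agent.H9.SL2Chars Cfsg.Agent.H9.PrincipalSeries Cfsg.Agent.S2307

section aux

variable {F : Type*} [Field F] [Fintype F] [DecidableEq F]

local notation "SL2" => Matrix.SpecialLinearGroup (Fin 2) F

/-- the type of a character of degree `(q + 1) / 2` with `n₀ = 1` -/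
theorem type_of_half (hodd : Odd (Fintype.card F)) (ψ : AddChar F ℂ) (hψ : ψ.IsPrimitive)
    {ν : F} (hν : quadraticChar F ν = -1) {χ : SL2 → ℂ} (hχ : IsCharacter SL2 χ)
    (h0 : NN ψ χ 0 = 1) (hd : χ 1 = (((Fintype.card F + 1) / 2 : ℕ) : ℂ)) :
    (NN ψ χ 1 = 1 ∧ NN ψ χ ν = 0) ∨ (NN ψ χ 1 = 0 ∧ NN ψ χ ν = 1) := by
  have hcf := isClassFunction_of_isCharacter hχ
  obtain ⟨a, ha⟩ := NN_nat ψ hχ 1
  obtain ⟨b, hb⟩ := NN_nat ψ hχ ν
  have h := degree_eq hodd ψ hψ hcf hν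
  rw [h0, ha, hb, hd] at h
  obtain ⟨k, hk⟩ := hodd
  have hk1 : 1 ≤ k := by
    have : 2 ≤ Fintype.card F := Fintype.one_lt_card
    omega
  have e1 : (Fintype.card F + 1) / 2 = k + 1 := by omega
  rw [e1, hk] at h
  push_cast at h
  have h' : (k : ℂ) * ((a : ℂ) + b - 1) = 0 := by linear_combination -h
  have hk0 : (k : ℂ) ≠ 0 := by
    have : k ≠ 0 := by omega
    exact_mod_cast this
  have h'' : (a : ℂ) + b = 1 := by
    rcases mul_eq_zero.mp h' with h1 | h1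
    · exact absurd h1 hk0
    · linear_combination h1
  have hab : a + b = 1 := by exact_mod_cast h''
  rw [ha, hb]
  have : (a = 1 ∧ b = 0) ∨ (a = 0 ∧ b = 1) := by omega
  rcases this with ⟨e1, e2⟩ | ⟨e1, e2⟩
  · left; rw [e1, e2]; simp
  · right; rw [e1, e2]; simp

end aux

/-- Over a finite field F with q elements, q odd and q ≥ 5, let u be the upper unitriangular matrix of SL₂ with off-diagonal entry 1 and let δ = (−1)^((q−1)/2). Every irreducible complex character χ of SL₂ of degree (q + 1)/2 satisfies (2χ(u) − 1)² = δq, and every irreducible complex character χ of degree (q − 1)/2 satisfies (2χ(u) + 1)² = δq; that is, χ(u) = (1 ± √(δq))/2 in the first case and χ(u) = (−1 ± √(δq))/2 in the second. Moreover two different irreducible characters of degree (q + 1)/2 take the two different values (their values at u add up to 1), and likewise for degree (q − 1)/2 (values adding up to −1). -/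
theorem result {F : Type*} [Field F] [Fintype F] (hodd : Odd (Fintype.card F)) (hq : 5 ≤ Fintype.card F)
    (u : Matrix.SpecialLinearGroup (Fin 2) F) (hu : (u : Matrix (Fin 2) (Fin 2) F) = !![1, 1; 0, 1]) :
    (∀ χ : Matrix.SpecialLinearGroup (Fin 2) F → ℂ, Cfsg.IsIrrCharacter (Matrix.SpecialLinearGroup (Fin 2) F) χ → χ 1 = (((Fintype.card F + 1) / 2 : ℕ) : ℂ) → (2 * χ u - 1) ^ 2 = (-1 : ℂ) ^ ((Fintype.card F - 1) / 2) * (Fintype.card F : ℂ)) ∧
    (∀ χ : Matrix.SpecialLinearGroup (Fin 2) F → ℂ, Cfsg.IsIrrCharacter (Matrix.SpecialLinearGroup (Fin 2) F) χ → χ 1 = (((Fintype.card F - 1) / 2 : ℕ) : ℂ) → (2 * χ u + 1) ^ 2 = (-1 : ℂ) ^ ((Fintype.card F - 1) / 2) * (Fintype.card F : ℂ)) ∧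
    (∀ χ₁ χ₂ : Matrix.SpecialLinearGroup (Fin 2) F → ℂ, Cfsg.IsIrrCharacter (Matrix.SpecialLinearGroup (Fin 2) F) χ₁ → Cfsg.IsIrrCharacter (Matrix.SpecialLinearGroup (Fin 2) F) χ₂ → χ₁ ≠ χ₂ →
      χ₁ 1 = (((Fintype.card F + 1) / 2 : ℕ) : ℂ) → χ₂ 1 = (((Fintype.card F + 1) / 2 : ℕ) : ℂ) → χ₁ u + χ₂ u = 1) ∧
    (∀ χ₁ χ₂ : Matrix.SpecialLinearGroup (Fin 2) F → ℂ, Cfsg.IsIrrCharacter (Matrix.SpecialLinearGroup (Fin 2) F) χ₁ → Cfsg.IsIrrCharacter (Matrix.SpecialLinearGroup (Fin 2) F) χ₂ → χ₁ ≠ χ₂ →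
      χ₁ 1 = (((Fintype.card F - 1) / 2 : ℕ) : ℂ) → χ₂ 1 = (((Fintype.card F - 1) / 2 : ℕ) : ℂ) → χ₁ u + χ₂ u = -1) := by
  classical
  have hu' : u = uu 1 := by
    apply Subtype.ext
    rw [hu]
    rfl
  subst hu'
  obtain ⟨H⟩ := exists_halves (F := F) hodd
  set ψ := AddChar.FiniteField.primitiveChar_to_Complex F with hψdef
  have hψ : ψ.IsPrimitive := AddChar.FiniteField.primitiveChar_to_Complex_isPrimitive F
  obtain ⟨ν, hν⟩ := exists_nonsquare (F := F) hodd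
  have hGS := GS_sq hodd ψ hψ
  have hcf : ∀ {χ : Matrix.SpecialLinearGroup (Fin 2) F → ℂ},
      Cfsg.IsIrrCharacter (Matrix.SpecialLinearGroup (Fin 2) F) χ →
      IsClassFunction (Matrix.SpecialLinearGroup (Fin 2) F) χ :=
    fun h => isClassFunction_of_isCharacter (isCharacter_of_isIrrCharacter h)
  have hn0 := halves_n0 H ψ
  refine ⟨?_, ?_, ?_, ?_⟩
  · intro χ hχ hd
    have h0 : NN ψ χ 0 = 1 := by
      rcases (type_by_degree H hodd hq ψ hψ hν hχ).2.2.2.1 hd with h | h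
      · rw [h]; exact hn0.1
      · rw [h]; exact hn0.2
    rcases type_of_half hodd ψ hψ hν (isCharacter_of_isIrrCharacter hχ) h0 hd with ⟨a, b⟩ | ⟨a, b⟩
    · rw [apply_uu_one hodd ψ hψ (hcf hχ) hν, h0, a, b, ← hGS]; ring
    · rw [apply_uu_one hodd ψ hψ (hcf hχ) hν, h0, a, b, ← hGS]; ring
  · intro χ hχ hd
    obtain ⟨-, h0, t⟩ := (type_by_degree H hodd hq ψ hψ hν hχ).2.2.2.2 hd
    rcases t with ⟨a, b⟩ | ⟨a, b⟩
    · rw [apply_uu_one hodd ψ hψ (hcf hχ) hν, h0, a, b, ← hGS]; ring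
    · rw [apply_uu_one hodd ψ hψ (hcf hχ) hν, h0, a, b, ← hGS]; ring
  · intro χ₁ χ₂ h1 h2 hne d1 d2
    have hsum : H.ψ₁ (uu 1) + H.ψ₂ (uu 1) = 1 := by
      have := R_uu H.α₀ (1 : F)
      rw [H.sum, if_neg one_ne_zero, add_zero] at this
      exact this
    rcases (type_by_degree H hodd hq ψ hψ hν h1).2.2.2.1 d1 with e1 | e1 <;>
      rcases (type_by_degree H hodd hq ψ hψ hν h2).2.2.2.1 d2 with e2 | e2
    · exact absurd (e1.trans e2.symm) hne
    · rw [e1, e2]; exact hsum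
    · rw [e1, e2, add_comm]; exact hsum
    · exact absurd (e1.trans e2.symm) hne
  · intro χ₁ χ₂ h1 h2 hne d1 d2
    obtain ⟨z1, z2, t⟩ := half_cusp_types H hodd hq ψ hψ hν h1 h2 hne d1 d2
    rw [apply_uu_one hodd ψ hψ (hcf h1) hν, apply_uu_one hodd ψ hψ (hcf h2) hν, z1, z2]
    rcases t with ⟨a1, b1, a2, b2⟩ | ⟨a1, b1, a2, b2⟩
    · rw [a1, b1, a2, b2]; ring
    · rw [a1, b1, a2, b2]; ring

end Cfsg.Agent.S2324
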