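import Cfsg.Statements.S2336
import Cfsg.Agent.Lib.Helper5.SLVec
import Cfsg.Agent.Lib.Helper5.PermCharDecomp
import Mathlib

set_option autoImplicit false
open Cfsg

namespace Cfsg.Agent.S2336
open Cfsg.Agent.Lib.Helper5.SLTrans Cfsg.Agent.Lib.Helper5.PermCharDecomp

/-- Let F be a finite field with q elements and n ≥ 3. The permutation character of SL_n(F) on the non-zero vectors of F^n (the function sending a matrix to the number of non-zero vectors it fixes) is the sum of the principal character and q − 1 pairwise distinct irreducible complex characters. -/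
theorem result {F : Type*} [Field F] [Fintype F] [DecidableEq F] (n : ℕ) (hn : 3 ≤ n) :
    ∃ χ : Fin (Fintype.card F - 1) → (Matrix.SpecialLinearGroup (Fin n) F → ℂ),
      (∀ i, Cfsg.IsIrrCharacter (Matrix.SpecialLinearGroup (Fin n) F) (χ i)) ∧ Function.Injective χ ∧
      ∀ g : Matrix.SpecialLinearGroup (Fin n) F,
        (Nat.card {v : Fin n → F // v ≠ 0 ∧ (g : Matrix (Fin n) (Fin n) F).mulVec v = v} : ℂ) = 1 + ∑ i, χ i g := by
  classical
  have hfact : Fact (3 ≤ n) := ⟨hn⟩
  let _ : Fintype (Matrix.SpecialLinearGroup (Fin n) F) := Fintype.ofFinite _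
  have hcard : Nat.card Fˣ = Fintype.card F - 1 := by
    rw [Nat.card_eq_fintype_card, Fintype.card_units]
  let i0 : Fin n := ⟨0, by omega⟩
  let i1 : Fin n := ⟨1, by omega⟩
  have h01 : i1 ≠ i0 := by
    intro h
    have := congrArg Fin.val h
    simp [i0, i1] at this
  have hs0 : (Pi.single i0 1 : Fin n → F) ≠ 0 := by
    intro h
    have := congrFun h i0
    simp at this
  have hs1 : (Pi.single i1 1 : Fin n → F) ≠ 0 := by
    intro h
    have := congrFun h i1
    simp at this
  have hnt : ∃ x y : NZ n F, ∀ z : Fˣ, y ≠ z • x := by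
    refine ⟨⟨Pi.single i0 1, hs0⟩, ⟨Pi.single i1 1, hs1⟩, ?_⟩
    intro z h
    have h1 := congrArg Subtype.val h
    rw [unitAct_val] at h1
    have := congrFun h1 i1
    simp [Pi.single_eq_of_ne h01] at this
  obtain ⟨χ, hirr, hinj, hχ⟩ := permChar_decomp
    (G := Matrix.SpecialLinearGroup (Fin n) F) (X := NZ n F) (Z := Fˣ)
    slAct_comm unitAct_free hnt (card_orbits_pairs hn)
  refine ⟨fun i => χ (Fin.cast hcard.symm i), fun i => hirr _, ?_, ?_⟩
  · intro i j h
    exact Fin.cast_injective _ (hinj h)
  · intro g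
    have h1 : Nat.card {v : Fin n → F // v ≠ 0 ∧ (g : Matrix (Fin n) (Fin n) F).mulVec v = v}
        = Nat.card (MulAction.fixedBy (NZ n F) g) := by
      apply Nat.card_congr
      exact
        { toFun := fun v => ⟨⟨v.1, v.2.1⟩, Subtype.ext v.2.2⟩
          invFun := fun x => ⟨x.1.1, x.1.2, congrArg Subtype.val x.2⟩
          left_inv := fun v => rfl
          right_inv := fun x => rfl }
    rw [h1, hχ g]
    congr 1
    exact (Equiv.sum_comp (finCongr hcard.symm) (fun i => χ i g)).symm

end Cfsg.Agent.S2336
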