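import Cfsg.Statements.S2337
import Cfsg.Agent.Lib.Helper5.SuzukiCharC
import Cfsg.Agent.Lib.Helper5.SuzukiBridge
import Mathlib

set_option autoImplicit false
open Cfsg

namespace Cfsg.Agent.S2337
open Cfsg.Agent.Lib.Helper5.Suzuki

/-- For the Suzuki group Sz(q), q = 2^(2m+1) with m ≥ 1 (realised inside Sp₄ over the field with q elements), every irreducible complex representation of degree at least 2 has degree at least 2^m·(q − 1). -/
theorem result {F : Type*} [Field F] [Fintype F] (m : ℕ) (hm : 1 ≤ m) (hF : Fintype.card F = 2 ^ (2 * m + 1)) :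
    (∀ (k : ℕ) (ρ : Representation ℂ (Cfsg.Lie.Sz F (2 ^ (m + 1))) (Fin k → ℂ)), ρ.IsIrreducible → 2 ≤ k → 2 ^ m * (2 ^ (2 * m + 1) - 1) ≤ k) := by
  classical
  have := charP_of_card hF
  intro k ρ hirr hk
  let e : ↥(Cfsg.Lie.Sz F (2 ^ (m + 1))) ≃* Sz F m :=
    Cfsg.Agent.Lib.Helper5.SuzukiBridge.lieSzEquiv hm hF
  have hχ : IsIrrCharacter ↥(Cfsg.Lie.Sz F (2 ^ (m + 1))) ρ.character := ⟨k, ρ, hirr, rfl⟩
  have hχ' : IsIrrCharacter (Sz F m) (fun g => ρ.character (e.symm g)) :=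
    Cfsg.Agent.Lib.helper3.Irr.isIrrCharacter_comp_mulEquiv e.symm hχ
  have h1 : (fun g => ρ.character (e.symm g)) 1 = (k : ℂ) := by
    show ρ.character (e.symm 1) = k
    rw [map_one, Representation.char_one]
    simp
  exact degree_ge m hF hm hχ' h1 (by omega)

end Cfsg.Agent.S2337
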