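import Cfsg.Statements.S2353
import Mathlib
import Cfsg.Agent.H9.PingPongSL2

set_option autoImplicit false
open Cfsg

namespace Cfsg.Agent.S2353

open Polynomial Matrix Cfsg.Agent.H9.PingPongSL2

section

universe u

variable {F : Type u} [Field F]

/-- evaluation at `τ` on `SL₂` -/
noncomputable def ev (τ : F) : Matrix.SpecialLinearGroup (Fin 2) F[X] →*
    Matrix.SpecialLinearGroup (Fin 2) F :=
  Matrix.SpecialLinearGroup.map (Polynomial.evalRingHom τ)

theorem coe_ev (τ : F) (M : Matrix.SpecialLinearGroup (Fin 2) F[X]) (i j : Fin 2) :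
    ((ev τ M : Matrix.SpecialLinearGroup (Fin 2) F) : Matrix (Fin 2) (Fin 2) F) i j =
      ((M : Matrix (Fin 2) (Fin 2) F[X]) i j).eval τ := rfl

theorem not_mem_center_of_entry {A : Matrix.SpecialLinearGroup (Fin 2) F}
    (h : (A : Matrix (Fin 2) (Fin 2) F) 0 1 ≠ 0 ∨ (A : Matrix (Fin 2) (Fin 2) F) 1 0 ≠ 0 ∨
      (A : Matrix (Fin 2) (Fin 2) F) 0 0 - (A : Matrix (Fin 2) (Fin 2) F) 1 1 ≠ 0) :
    A ∉ Subgroup.center (Matrix.SpecialLinearGroup (Fin 2) F) := by
  intro hA
  rw [Matrix.SpecialLinearGroup.mem_center_iff] at hA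
  obtain ⟨r, -, hr⟩ := hA
  rcases h with h | h | h
  · apply h
    rw [← hr]
    simp
  · apply h
    rw [← hr]
    simp
  · apply h
    rw [← hr]
    simp

/-- the witness polynomial -/
theorem exists_poly (w : FreeGroup ℕ) (hw : w ≠ 1) :
    ∃ P : F[X], P ≠ 0 ∧ P.natDegree ≤ bnd w.toWord ∧ ∀ τ : F, P.eval τ ≠ 0 →
      ev τ (phi F w) ∉ Subgroup.center (Matrix.SpecialLinearGroup (Fin 2) F) := by
  have hd := entriesLE_phi F w
  rcases exists_witness F hw with h | h | h
  · refine ⟨_, h, hd 0 1, ?_⟩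
    intro τ hτ
    apply not_mem_center_of_entry
    left
    rw [coe_ev]
    exact hτ
  · refine ⟨_, h, hd 1 0, ?_⟩
    intro τ hτ
    apply not_mem_center_of_entry
    right; left
    rw [coe_ev]
    exact hτ
  · refine ⟨_, h, (natDegree_sub_le _ _).trans (max_le (hd 0 0) (hd 1 1)), ?_⟩
    intro τ hτ
    apply not_mem_center_of_entry
    right; right
    rw [coe_ev, coe_ev, ← eval_sub]
    exact hτ

end

/-- A non-trivial law holds in PSL_2 over only finitely many finite fields: for every non-trivial element w of the free group on countably many generators there is N such that over every finite field with at least N elements some substitution of elements of PSL_2 into w is not the identity. -/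
theorem result (w : FreeGroup ℕ) (hw : w ≠ 1) :
    ∃ N : ℕ, ∀ (F : Type*) [Field F] [Fintype F], N ≤ Fintype.card F →
      ∃ f : ℕ → Matrix.ProjectiveSpecialLinearGroup (Fin 2) F, FreeGroup.lift f w ≠ 1 := by
  refine ⟨bnd w.toWord + 1, ?_⟩
  intro F _ _ hN
  classical
  obtain ⟨P, hP0, hPd, hP⟩ := exists_poly (F := F) w hw
  obtain ⟨τ, hτ⟩ : ∃ τ : F, P.eval τ ≠ 0 := by
    by_contra hcon
    push Not at hcon
    exact hP0 (eq_zero_of_natDegree_lt_card_of_eval_eq_zero' P Finset.univ (fun i _ => hcon i)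
      (by rw [Finset.card_univ]; omega))
  refine ⟨fun i => (QuotientGroup.mk (ev τ (gen F (i + 1))) :
    Matrix.ProjectiveSpecialLinearGroup (Fin 2) F), ?_⟩
  have hcomp : FreeGroup.lift (fun i => (QuotientGroup.mk (ev τ (gen F (i + 1))) :
      Matrix.ProjectiveSpecialLinearGroup (Fin 2) F)) =
      ((QuotientGroup.mk' (Subgroup.center (Matrix.SpecialLinearGroup (Fin 2) F))).comp
        (ev τ)).comp (phi F) := by
    apply FreeGroup.ext_hom
    intro i
    simp [phi]
  rw [hcomp]
  intro h
  change (QuotientGroup.mk (ev τ (phi F w)) : Matrix.ProjectiveSpecialLinearGroup (Fin 2) F) = 1 at h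
  rw [QuotientGroup.eq_one_iff] at h
  exact hP τ hτ h

end Cfsg.Agent.S2353
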