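import Cfsg.Statements.S2352
import Mathlib
import Cfsg.Agent.S2353

set_option autoImplicit false
open Cfsg

namespace Cfsg.Agent.S2352

open Equiv Equiv.Perm

/-- every finite group embeds in all large alternating groups -/
theorem exists_hom_alternating (G : Type*) [Group G] [Finite G] (n : ℕ)
    (hn : 2 * Nat.card G ≤ n) :
    ∃ ι : G →* alternatingGroup (Fin n), Function.Injective ι := by
  classical
  have : Fintype G := Fintype.ofFinite G
  have hcard : Fintype.card (G ⊕ G) ≤ Fintype.card (Fin n) := by
    rw [Fintype.card_sum, Fintype.card_fin]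
    rw [Nat.card_eq_fintype_card] at hn
    omega
  obtain ⟨e⟩ := Function.Embedding.nonempty_of_card_le hcard
  let c : G →* Perm G := MulAction.toPermHom G G
  let d : Perm G →* Perm (G ⊕ G) :=
    (Equiv.Perm.sumCongrHom G G).comp (MonoidHom.prod (MonoidHom.id _) (MonoidHom.id _))
  let ψ : G →* Perm (Fin n) := (Equiv.Perm.viaEmbeddingHom e).comp (d.comp c)
  have hsign : ∀ g, ψ g ∈ alternatingGroup (Fin n) := by
    intro g
    rw [Equiv.Perm.mem_alternatingGroup]
    change sign (viaEmbedding (Equiv.Perm.sumCongr (c g) (c g)) e) = 1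
    unfold viaEmbedding
    rw [sign_extendDomain, sign_sumCongr]
    exact Int.units_mul_self _
  refine ⟨ψ.codRestrict _ hsign, ?_⟩
  intro g h hgh
  have h1 : ψ g = ψ h := congrArg Subtype.val hgh
  have h2 : d (c g) = d (c h) := Equiv.Perm.viaEmbeddingHom_injective e h1
  have h3 : ((c g, c g) : Perm G × Perm G) = (c h, c h) :=
    Equiv.Perm.sumCongrHom_injective h2
  have h4 : c g = c h := (Prod.ext_iff.1 h3).1
  exact MulAction.toPerm_injective h4

/-- A non-trivial law holds in only finitely many alternating groups: for every non-trivial element w of the free group on countably many generators there is N such that for all n ≥ N some substitution of elements of the alternating group of degree n into w is not the identity. -/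
theorem result (w : FreeGroup ℕ) (hw : w ≠ 1) :
    ∃ N : ℕ, ∀ n : ℕ, N ≤ n → ∃ f : ℕ → alternatingGroup (Fin n), FreeGroup.lift f w ≠ 1 := by
  obtain ⟨N₀, hN₀⟩ := Cfsg.Agent.S2353.result.{0} w hw
  obtain ⟨p, hpN, hp⟩ := Nat.exists_infinite_primes N₀
  have : Fact p.Prime := ⟨hp⟩
  have : NeZero p := ⟨hp.ne_zero⟩
  obtain ⟨f, hf⟩ := hN₀ (ZMod p) (by rw [ZMod.card]; exact hpN)
  refine ⟨2 * Nat.card (Matrix.ProjectiveSpecialLinearGroup (Fin 2) (ZMod p)), fun n hn => ?_⟩
  obtain ⟨ι, hι⟩ := exists_hom_alternating
    (Matrix.ProjectiveSpecialLinearGroup (Fin 2) (ZMod p)) n hn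
  refine ⟨fun i => ι (f i), ?_⟩
  have hcomp : FreeGroup.lift (fun i => ι (f i)) = ι.comp (FreeGroup.lift f) := by
    apply FreeGroup.ext_hom
    intro i
    simp
  rw [hcomp]
  intro h
  apply hf
  apply hι
  rw [map_one]
  exact h

end Cfsg.Agent.S2352
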