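import Cfsg.Statements.S2354
import Cfsg.Agent.Lib.Helper5.SuzukiLaw
import Mathlib

set_option autoImplicit false
open Cfsg

namespace Cfsg.Agent.S2354

/-- A non-trivial law holds in only finitely many Suzuki groups: for every non-trivial element w of the free group on countably many generators there is N such that for q = 2^(2m+1) with m ≥ N some substitution of elements of the Suzuki group over the field with q elements into w is not the identity. -/
theorem result (w : FreeGroup ℕ) (hw : w ≠ 1) :
    ∃ N : ℕ, ∀ (F : Type*) [Field F] [Fintype F] (m : ℕ), 1 ≤ m → N ≤ m →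
      Fintype.card F = 2 ^ (2 * m + 1) →
      ∃ f : ℕ → ↥(Cfsg.Lie.Sz F (2 ^ (m + 1))), FreeGroup.lift f w ≠ 1 := by
  refine ⟨4 * Cfsg.Agent.H9.PingPongSL2.bnd w.toWord + 1, ?_⟩
  intro F _ _ m hm hN hF
  have := Cfsg.Agent.Lib.Helper5.Suzuki.charP_of_card hF
  obtain ⟨f, hf⟩ := Cfsg.Agent.Lib.Helper5.SuzukiLaw.exists_ne_one m hF hm w hw hN
  let e := Cfsg.Agent.Lib.Helper5.SuzukiBridge.lieSzEquiv hm hF
  refine ⟨fun i => e.symm (f i), ?_⟩
  intro hcon
  apply hf
  have h : FreeGroup.lift (fun i => e.symm (f i)) =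
      e.symm.toMonoidHom.comp (FreeGroup.lift f) := by
    apply FreeGroup.ext_hom
    intro i
    simp
  rw [h] at hcon
  have h2 : e.symm (FreeGroup.lift f w) = 1 := hcon
  exact e.symm.injective (h2.trans (map_one e.symm).symm)

end Cfsg.Agent.S2354
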