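import Cfsg.Statements.S2360
import Cfsg.Agent.Lib.Helper5.SU3Inv
import Mathlib

set_option autoImplicit false
open Cfsg

namespace Cfsg.Agent.S2360

open Matrix Cfsg Cfsg.Agent.Lib.Helper5.Herm Cfsg.Agent.Lib.Helper5.SU3Inv
  Cfsg.Agent.Lib.Helper5.HermCount Cfsg.Agent.Lib.Helper5.JointEigen

set_option linter.unusedSectionVars false
set_option linter.unusedVariables false

theorem card_centralizer_mul_card_conj {G : Type*} [Group G] [Finite G] (t : G) :
    Nat.card (Subgroup.centralizer ({t} : Set G)) * Nat.card {x : G // ∃ g : G, g * t * g⁻¹ = x}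
      = Nat.card G := by
  rw [← Subgroup.card_mul_index (Subgroup.centralizer ({t} : Set G))]
  congr 1
  rw [Subgroup.index_eq_card]
  symm
  apply Nat.card_congr
  let f : G ⧸ Subgroup.centralizer ({t} : Set G) → {x : G // ∃ g : G, g * t * g⁻¹ = x} :=
    Quotient.lift (fun g => ⟨g * t * g⁻¹, g, rfl⟩) (by
      intro a b hab
      have h1 : a⁻¹ * b ∈ Subgroup.centralizer ({t} : Set G) := QuotientGroup.leftRel_apply.1 hab
      rw [Subgroup.mem_centralizer_iff] at h1
      have h2 := h1 t rfl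
      apply Subtype.ext
      show a * t * a⁻¹ = b * t * b⁻¹
      have h3 : t * a⁻¹ * b = a⁻¹ * b * t := by rw [mul_assoc, h2]
      calc a * t * a⁻¹ = a * (t * a⁻¹ * b) * b⁻¹ := by group
        _ = a * (a⁻¹ * b * t) * b⁻¹ := by rw [h3]
        _ = b * t * b⁻¹ := by group)
  refine Equiv.ofBijective f ⟨?_, ?_⟩
  · intro a b hab
    obtain ⟨a, rfl⟩ := QuotientGroup.mk_surjective a
    obtain ⟨b, rfl⟩ := QuotientGroup.mk_surjective b
    have h1 : a * t * a⁻¹ = b * t * b⁻¹ := congrArg Subtype.val hab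
    rw [QuotientGroup.eq, Subgroup.mem_centralizer_iff]
    intro h hh
    rw [Set.mem_singleton_iff] at hh
    subst hh
    calc h * (a⁻¹ * b) = a⁻¹ * (a * h * a⁻¹) * b := by group
      _ = a⁻¹ * (b * h * b⁻¹) * b := by rw [h1]
      _ = a⁻¹ * b * h := by group
  · rintro ⟨x, g, rfl⟩
    exact ⟨QuotientGroup.mk g, rfl⟩

variable {F : Type*} [Field F] [Fintype F] {q : ℕ}

theorem two_ne_zero' (hq : Odd q) (hF : Fintype.card F = q ^ 2) : (2 : F) ≠ 0 := by
  apply two_ne_zero_of_odd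
  rw [hF]
  exact hq.pow

theorem trace_Rmat (u : Fin 3 → F) (hu : hermForm 3 F q u u ≠ 0) :
    (Rmat q 3 u).trace = -1 := by
  unfold Rmat unitaryTransvection
  rw [Matrix.trace_neg, Matrix.trace_add, Matrix.trace_smul, Matrix.trace_one]
  have h1 : (Matrix.vecMulVec u (fun j => u j ^ q)).trace = hermForm 3 F q u u := by
    unfold hermForm Matrix.trace
    simp [Matrix.vecMulVec_apply]
  rw [h1, smul_eq_mul, mul_assoc, inv_mul_cancel₀ hu]
  simp
  norm_num

theorem Rmat_ne_one (h2 : (2 : F) ≠ 0) (u : Fin 3 → F) (hu : hermForm 3 F q u u ≠ 0) :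
    Rmat q 3 u ≠ 1 := by
  intro h
  have h1 := trace_Rmat (q := q) u hu
  rw [h, Matrix.trace_one] at h1
  simp at h1
  have h3 : (2 : F) * 2 = 0 := by
    have : (3 : F) + 1 = 0 := by rw [h1]; ring
    rw [← this]; norm_num
  rcases mul_eq_zero.1 h3 with h4 | h4 <;> exact h2 h4

theorem Rmat_eq_imp (h2 : (2 : F) ≠ 0) (u u' : Fin 3 → F) (hu : hermForm 3 F q u u ≠ 0)
    (hu' : hermForm 3 F q u' u' ≠ 0) (h : Rmat q 3 u' = Rmat q 3 u) :
    ∃ k : F, k ≠ 0 ∧ u' = k • u := by
  have h1 := Rmat_self 3 u' hu'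
  rw [h, Rmat_mulVec] at h1
  have h3 : (2 : F) • u' = (2 * (hermForm 3 F q u u)⁻¹ * hermForm 3 F q u' u) • u := by
    rw [two_smul]
    nth_rw 1 [← h1]
    abel
  have h4 : u' = ((hermForm 3 F q u u)⁻¹ * hermForm 3 F q u' u) • u := by
    have := congrArg (fun v => (2 : F)⁻¹ • v) h3
    simp only [smul_smul] at this
    rw [inv_mul_cancel₀ h2, one_smul] at this
    refine this.trans ?_
    congr 1
    field_simp
  refine ⟨_, ?_, h4⟩
  intro h0
  rw [h0, zero_smul] at h4
  rw [h4] at hu'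
  apply hu'
  unfold hermForm
  simp

theorem Rsu_ne_one (hF : Fintype.card F = q ^ 2) (h2 : (2 : F) ≠ 0) (u : Fin 3 → F)
    (hu : hermForm 3 F q u u ≠ 0) : Rsu hF u hu ≠ 1 := by
  intro h
  apply Rmat_ne_one h2 u hu
  have := congrArg (fun x : SU 3 F q => ((x.1 : Matrix.SpecialLinearGroup (Fin 3) F) :
    Matrix (Fin 3) (Fin 3) F)) h
  simpa [Rsu_val] using this

theorem Rsu_sq (hF : Fintype.card F = q ^ 2) (u : Fin 3 → F)
    (hu : hermForm 3 F q u u ≠ 0) : Rsu hF u hu * Rsu hF u hu = 1 := by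
  apply su_ext
  show Rmat q 3 u * Rmat q 3 u = 1
  exact Rmat_sq 3 u hu

theorem conj_invol (hF : Fintype.card F = q ^ 2) (h2 : (2 : F) ≠ 0) (t x : SU 3 F q)
    (ht : t ≠ 1) (ht2 : t * t = 1) (hx : x ≠ 1) (hx2 : x * x = 1) :
    ∃ g : SU 3 F q, g * t * g⁻¹ = x := by
  obtain ⟨u, hu, htu⟩ := exists_Rmat_of_invol hF h2 t ht ht2
  obtain ⟨u', hu', hxu⟩ := exists_Rmat_of_invol hF h2 x hx hx2
  obtain ⟨g, k, hk, hg⟩ := exists_su_map hF u u' hu hu'
  refine ⟨g, ?_⟩
  apply su_ext
  have h1 : (((g * t * g⁻¹ : SU 3 F q).1 : Matrix.SpecialLinearGroup (Fin 3) F) :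
      Matrix (Fin 3) (Fin 3) F)
      = (g.1 : Matrix (Fin 3) (Fin 3) F) * (t.1 : Matrix (Fin 3) (Fin 3) F)
        * (((g⁻¹ : SU 3 F q).1 : Matrix.SpecialLinearGroup (Fin 3) F) :
          Matrix (Fin 3) (Fin 3) F) := by
    simp
  have h3 : (g.1 : Matrix (Fin 3) (Fin 3) F)
      * (((g⁻¹ : SU 3 F q).1 : Matrix.SpecialLinearGroup (Fin 3) F) :
          Matrix (Fin 3) (Fin 3) F) = 1 := by
    have h4 : g * g⁻¹ = 1 := mul_inv_cancel g
    have h5 := congrArg (fun x : SU 3 F q => ((x.1 : Matrix.SpecialLinearGroup (Fin 3) F) :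
      Matrix (Fin 3) (Fin 3) F)) h4
    simp only [Subgroup.coe_mul, Matrix.SpecialLinearGroup.coe_mul, Subgroup.coe_one,
      Matrix.SpecialLinearGroup.coe_one] at h5
    exact h5
  rw [h1, htu, conj_Rmat 3 _ _ h3 (su_herm 3 g) u, hg, Rmat_smul hF 3 u' k hk, hxu]

theorem card_noniso (hF : Fintype.card F = q ^ 2) :
    Nat.card {u : Fin 3 → F // hermForm 3 F q u u ≠ 0} = (q - 1) * (q ^ 2 * (q ^ 3 + 1)) := by
  classical
  have hq := one_lt_q hF
  have h0 : Nat.card {u : Fin 3 → F // hermForm 3 F q u u = 0} = (uz q 3).2 := by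
    rw [card_hermForm_eq, (cnt_eq_uz hF 3).2]
  have htot : Nat.card {u : Fin 3 → F // hermForm 3 F q u u ≠ 0}
      + Nat.card {u : Fin 3 → F // hermForm 3 F q u u = 0} = (q ^ 2) ^ 3 := by
    rw [Nat.card_eq_fintype_card, Nat.card_eq_fintype_card, Fintype.card_subtype_compl,
      Nat.sub_add_cancel (Fintype.card_subtype_le _)]
    simp [hF]
  obtain ⟨c1, c2⟩ := uz_closed (q := q) (by omega) 3
  obtain ⟨k, rfl⟩ : ∃ k, q = k + 1 := ⟨q - 1, by omega⟩
  rw [h0] at htot
  simp only [Nat.add_sub_cancel]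
  push_cast at c1 c2
  have hk : (0 : ℤ) < (k : ℤ) + 1 := by positivity
  have e1 : ((uz (k + 1) 3).1 : ℤ) = ((k : ℤ) + 1) ^ 2 * (((k : ℤ) + 1) ^ 3 + 1) := by
    have : ((k : ℤ) + 1) * ((uz (k + 1) 3).1 : ℤ)
        = ((k : ℤ) + 1) * (((k : ℤ) + 1) ^ 2 * (((k : ℤ) + 1) ^ 3 + 1)) := by
      rw [c1]; ring
    exact mul_left_cancel₀ hk.ne' this
  have e2 : ((Nat.card {u : Fin 3 → F // hermForm 3 F (k + 1) u u ≠ 0} : ℕ) : ℤ)
      = (k : ℤ) * ((((k : ℤ) + 1) ^ 2 * (((k : ℤ) + 1) ^ 3 + 1))) := by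
    have h3 : ((Nat.card {u : Fin 3 → F // hermForm 3 F (k + 1) u u ≠ 0} : ℕ) : ℤ)
        + ((uz (k + 1) 3).2 : ℤ) = (((k : ℤ) + 1) ^ 2) ^ 3 := by exact_mod_cast htot
    rw [← e1]
    have : ((k : ℤ) + 1 - 1) = k := by ring
    rw [this] at c2
    linarith [c2, h3, pow_mul ((k : ℤ) + 1) 2 3]
  exact_mod_cast e2

/-- the map from non-isotropic vectors to involutions -/
noncomputable def rho (hF : Fintype.card F = q ^ 2) (h2 : (2 : F) ≠ 0)
    (u : {u : Fin 3 → F // hermForm 3 F q u u ≠ 0}) :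
    {x : SU 3 F q // x ≠ 1 ∧ x * x = 1} :=
  ⟨Rsu hF u.1 u.2, Rsu_ne_one hF h2 u.1 u.2, Rsu_sq hF u.1 u.2⟩

theorem card_fiber (hF : Fintype.card F = q ^ 2) (h2 : (2 : F) ≠ 0)
    (t : {x : SU 3 F q // x ≠ 1 ∧ x * x = 1}) :
    Nat.card {u : {u : Fin 3 → F // hermForm 3 F q u u ≠ 0} // rho hF h2 u = t} = q ^ 2 - 1 := by
  classical
  obtain ⟨u, hu, htu⟩ := exists_Rmat_of_invol hF h2 t.1 t.2.1 t.2.2
  have hcard : Nat.card Fˣ = q ^ 2 - 1 := by
    rw [Nat.card_eq_fintype_card, Fintype.card_units, hF]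
  rw [← hcard]
  symm
  apply Nat.card_congr
  have hu0 : u ≠ 0 := by
    rintro rfl
    apply hu
    unfold hermForm
    simp
  have hmem : ∀ c : Fˣ, hermForm 3 F q ((c : F) • u) ((c : F) • u) ≠ 0 := by
    intro c
    rw [hermForm_smul_left, hermForm_smul_right]
    exact mul_ne_zero c.ne_zero (mul_ne_zero (pow_ne_zero _ c.ne_zero) hu)
  let f : Fˣ → {u : {u : Fin 3 → F // hermForm 3 F q u u ≠ 0} // rho hF h2 u = t} := fun c =>
    ⟨⟨(c : F) • u, hmem c⟩, by
      apply Subtype.ext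
      apply su_ext
      show Rmat q 3 ((c : F) • u) = _
      rw [Rmat_smul hF 3 u c c.ne_zero, htu]⟩
  refine Equiv.ofBijective f ⟨?_, ?_⟩
  · intro c d hcd
    have h1 : (c : F) • u = (d : F) • u := congrArg (fun x => x.1.1) hcd
    have h3 : ((c : F) - (d : F)) • u = 0 := by rw [sub_smul, h1, sub_self]
    rcases smul_eq_zero.1 h3 with h4 | h4
    · exact Units.ext (sub_eq_zero.1 h4)
    · exact absurd h4 hu0
  · rintro ⟨⟨u', hu'⟩, hρ⟩
    have h1 : Rmat q 3 u' = Rmat q 3 u := by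
      have := congrArg (fun x : {x : SU 3 F q // x ≠ 1 ∧ x * x = 1} =>
        ((x.1.1 : Matrix.SpecialLinearGroup (Fin 3) F) : Matrix (Fin 3) (Fin 3) F)) hρ
      simp only [rho, Rsu_val] at this
      rw [this, htu]
    obtain ⟨k, hk, hku⟩ := Rmat_eq_imp h2 u u' hu hu' h1
    refine ⟨Units.mk0 k hk, ?_⟩
    apply Subtype.ext
    apply Subtype.ext
    exact hku.symm

theorem card_invol (hF : Fintype.card F = q ^ 2) (h2 : (2 : F) ≠ 0) :
    Nat.card {x : SU 3 F q // x ≠ 1 ∧ x * x = 1} * (q ^ 2 - 1)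
      = (q - 1) * (q ^ 2 * (q ^ 3 + 1)) := by
  classical
  rw [← card_noniso hF, ← Nat.card_congr (Equiv.sigmaFiberEquiv (rho hF h2))]
  have : Fintype {x : SU 3 F q // x ≠ 1 ∧ x * x = 1} := Fintype.ofFinite _
  rw [Nat.card_sigma, Finset.sum_congr rfl (fun t _ => card_fiber hF h2 t), Finset.sum_const,
    Finset.card_univ, smul_eq_mul, Nat.card_eq_fintype_card]

theorem no_five (h2 : (2 : F) ≠ 0) (m : Fin 5 → SU 3 F q)
    (hcomm : ∀ i j, m i * m j = m j * m i) (hinv : ∀ i, m i * m i = 1)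
    (hinj : Function.Injective m) : False := by
  classical
  obtain ⟨b, c, -, hpm, hdet, hinj'⟩ := exists_eigenbasis_matrix h2
    (fun a : Fin 5 => (((m a).1 : Matrix.SpecialLinearGroup (Fin 3) F) : Matrix (Fin 3) (Fin 3) F))
    (fun a a' => by
      have h1 := congrArg (fun x : SU 3 F q => ((x.1 : Matrix.SpecialLinearGroup (Fin 3) F) :
        Matrix (Fin 3) (Fin 3) F)) (hcomm a a')
      simp only [Subgroup.coe_mul, Matrix.SpecialLinearGroup.coe_mul] at h1
      exact h1)
    (fun a => by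
      have h1 := congrArg (fun x : SU 3 F q => ((x.1 : Matrix.SpecialLinearGroup (Fin 3) F) :
        Matrix (Fin 3) (Fin 3) F)) (hinv a)
      simp only [Subgroup.coe_mul, Matrix.SpecialLinearGroup.coe_mul, Subgroup.coe_one,
        Matrix.SpecialLinearGroup.coe_one] at h1
      exact h1)
  have hfr : Module.finrank F (Fin 3 → F) = 3 := by simp
  have hpos : 0 < Module.finrank F (Fin 3 → F) := by omega
  have := card_le_of_signs (α := Fin 5) (κ := Fin (Module.finrank F (Fin 3 → F))) ⟨0, hpos⟩ c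
    (fun a a' h => hinj (su_ext 3 _ _ (hinj' a a' h))) hpm
    (fun a => by rw [← hdet a]; exact (m a).1.2)
  rw [Fintype.card_fin, hfr] at this
  simp at this

theorem comm_family {G : Type*} [Group G] (t x y : G) (h1 : Commute t x) (h2 : Commute t y)
    (h3 : Commute x y) (i j : Fin 5) :
    (![1, t, x, t * x, y] : Fin 5 → G) i * (![1, t, x, t * x, y] : Fin 5 → G) j
      = (![1, t, x, t * x, y] : Fin 5 → G) j * (![1, t, x, t * x, y] : Fin 5 → G) i := by
  have key : ∀ i : Fin 5, Commute ((![1, t, x, t * x, y] : Fin 5 → G) i) t ∧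
      Commute ((![1, t, x, t * x, y] : Fin 5 → G) i) x ∧
      Commute ((![1, t, x, t * x, y] : Fin 5 → G) i) y := by
    intro i
    fin_cases i
    · exact ⟨Commute.one_left _, Commute.one_left _, Commute.one_left _⟩
    · exact ⟨Commute.refl _, h1, h2⟩
    · exact ⟨h1.symm, Commute.refl _, h3⟩
    · exact ⟨(Commute.refl t).mul_left h1.symm, h1.mul_left (Commute.refl x), h2.mul_left h3⟩
    · exact ⟨h2.symm, h3.symm, Commute.refl _⟩
  obtain ⟨k1, k2, k3⟩ := key i
  show Commute _ _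
  fin_cases j
  · exact Commute.one_right _
  · exact k1
  · exact k2
  · exact k1.mul_right k2
  · exact k3

theorem third_unique (h2 : (2 : F) ≠ 0) (t x y : SU 3 F q) (ht : t ≠ 1) (ht2 : t * t = 1)
    (hx : x ≠ 1) (hx2 : x * x = 1) (hxt : x ≠ t) (htx : Commute t x)
    (hy : y ≠ 1) (hy2 : y * y = 1) (hyt : y ≠ t) (hyx : y ≠ x) (hty : Commute t y)
    (hxy : Commute x y) : y = t * x := by
  by_contra hne
  apply no_five h2 (![1, t, x, t * x, y] : Fin 5 → SU 3 F q) (comm_family t x y htx hty hxy)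
  · have e1 : t * x = x * t := htx
    have e4 : t * x * (t * x) = 1 := by
      calc t * x * (t * x) = t * (x * t) * x := by group
        _ = t * (t * x) * x := by rw [e1]
        _ = (t * t) * (x * x) := by group
        _ = 1 := by rw [ht2, hx2, one_mul]
    intro i
    fin_cases i <;> simp [ht2, hx2, hy2, e4]
  · have d1 : t * x ≠ 1 := by
      intro h
      apply hxt
      calc x = (t * t) * x := by rw [ht2, one_mul]
        _ = t * (t * x) := by group
        _ = t := by rw [h, mul_one]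
    have d2 : t * x ≠ t := by
      intro h
      apply hx
      calc x = t⁻¹ * (t * x) := by group
        _ = 1 := by rw [h]; group
    have d3 : t * x ≠ x := by
      intro h
      apply ht
      calc t = (t * x) * x⁻¹ := by group
        _ = 1 := by rw [h]; group
    intro i j hij
    fin_cases i <;> fin_cases j <;> simp at hij ⊢ <;>
      first
      | exact absurd hij ht | exact absurd hij.symm ht
      | exact absurd hij hx | exact absurd hij.symm hx
      | exact absurd hij hy | exact absurd hij.symm hy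
      | exact absurd hij hxt | exact absurd hij.symm hxt
      | exact absurd hij hyt | exact absurd hij.symm hyt
      | exact absurd hij hyx | exact absurd hij.symm hyx
      | exact absurd hij d1 | exact absurd hij.symm d1
      | exact absurd hij d2 | exact absurd hij.symm d2
      | exact absurd hij d3 | exact absurd hij.symm d3
      | exact absurd hij hne | exact absurd hij.symm hne


/-- Let q be odd, F the field with q² elements and S = SU_3(F) (determinant-one isometries of the standard Hermitian form). Then all involutions of S are conjugate; there are exactly q²(q²−q+1) of them; the centralizer of an involution has order q(q+1)(q²−1), the order of the full unitary group of degree 2; and for two distinct commuting involutions t and x there is exactly one further involution commuting with both. -/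
theorem result {F : Type*} [Field F] [Fintype F] {q : ℕ} (hq : Odd q)
    (hF : Fintype.card F = q ^ 2) (t : ↥(Cfsg.SU 3 F q)) (ht : t ≠ 1) (ht2 : t * t = 1) :
    (∀ x : ↥(Cfsg.SU 3 F q), x ≠ 1 → x * x = 1 → ∃ g : ↥(Cfsg.SU 3 F q), g * t * g⁻¹ = x) ∧
    Nat.card {x : ↥(Cfsg.SU 3 F q) // x ≠ 1 ∧ x * x = 1} = q ^ 2 * (q ^ 2 - q + 1) ∧
    Nat.card ↥(Subgroup.centralizer ({t} : Set ↥(Cfsg.SU 3 F q))) = q * (q + 1) * (q ^ 2 - 1) ∧
    ∀ x : ↥(Cfsg.SU 3 F q), x ≠ 1 → x * x = 1 → x ≠ t → Commute t x →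
      Nat.card {y : ↥(Cfsg.SU 3 F q) // y ≠ 1 ∧ y * y = 1 ∧ y ≠ t ∧ y ≠ x ∧ Commute t y ∧ Commute x y} = 1 := by
  classical
  have h2 := two_ne_zero' hq hF
  have hq1 := one_lt_q hF
  have hconj := fun x hx hx2 => conj_invol hF h2 t x ht ht2 hx hx2
  obtain ⟨k, rfl⟩ : ∃ k, q = k + 1 := ⟨q - 1, by omega⟩
  have hk : 0 < k := by omega
  have a1 : (k + 1) ^ 2 - 1 = k * (k + 2) := by
    have : (k + 1) ^ 2 = k * (k + 2) + 1 := by ring
    omega
  have a2 : (k + 1) ^ 2 - (k + 1) + 1 = k ^ 2 + k + 1 := by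
    have : (k + 1) ^ 2 = k ^ 2 + k + (k + 1) := by ring
    omega
  have a3 : k + 1 - 1 = k := by omega
  have hI : Nat.card {x : ↥(Cfsg.SU 3 F (k + 1)) // x ≠ 1 ∧ x * x = 1}
      = (k + 1) ^ 2 * (k ^ 2 + k + 1) := by
    have h := card_invol hF h2
    rw [a1, a3] at h
    have hpos : 0 < k * (k + 2) := by positivity
    apply Nat.eq_of_mul_eq_mul_right hpos
    rw [h]
    ring
  refine ⟨hconj, ?_, ?_, ?_⟩
  · rw [a2, hI]
  · have hcc := card_centralizer_mul_card_conj t
    have hcong : Nat.card {x : ↥(Cfsg.SU 3 F (k + 1)) // ∃ g : ↥(Cfsg.SU 3 F (k + 1)), g * t * g⁻¹ = x}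
        = Nat.card {x : ↥(Cfsg.SU 3 F (k + 1)) // x ≠ 1 ∧ x * x = 1} := by
      apply Nat.card_congr
      apply Equiv.subtypeEquivRight
      intro x
      constructor
      · rintro ⟨g, rfl⟩
        constructor
        · intro h
          apply ht
          calc t = g⁻¹ * (g * t * g⁻¹) * g := by group
            _ = 1 := by rw [h]; group
        · calc g * t * g⁻¹ * (g * t * g⁻¹) = g * (t * t) * g⁻¹ := by group
            _ = 1 := by rw [ht2]; group
      · rintro ⟨hx, hx2⟩
        exact hconj x hx hx2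
    rw [hcong, hI] at hcc
    have hsu := Cfsg.Agent.S0278.result hF 3 (by norm_num)
    rw [← hcc] at hsu
    generalize Nat.card ↥(Subgroup.centralizer ({t} : Set ↥(Cfsg.SU 3 F (k + 1)))) = C at hsu ⊢
    simp only [Finset.prod_range_succ, Finset.prod_range_zero] at hsu
    norm_num at hsu
    rw [a1] at hsu ⊢
    have hpos : 0 < (k + 1 + 1) * ((k + 1) ^ 2 * (k ^ 2 + k + 1)) := by positivity
    apply Nat.eq_of_mul_eq_mul_right hpos
    have e3 : (k + 1) ^ 3 + 1 = (k + 2) * (k ^ 2 + k + 1) := by ring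
    have : C * ((k + 1 + 1) * ((k + 1) ^ 2 * (k ^ 2 + k + 1)))
        = (k + 1 + 1) * (C * ((k + 1) ^ 2 * (k ^ 2 + k + 1))) := by ring
    rw [this, hsu, e3]
    ring
  · intro x hx hx2 hxt htx
    rw [Nat.card_eq_one_iff_unique]
    constructor
    · constructor
      rintro ⟨y, hy, hy2, hyt, hyx, hty, hxy⟩ ⟨y', hy', hy2', hyt', hyx', hty', hxy'⟩
      apply Subtype.ext
      show y = y'
      rw [third_unique h2 t x y ht ht2 hx hx2 hxt htx hy hy2 hyt hyx hty hxy,
        third_unique h2 t x y' ht ht2 hx hx2 hxt htx hy' hy2' hyt' hyx' hty' hxy']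
    · have e1 : t * x = x * t := htx
      refine ⟨⟨t * x, ?_, ?_, ?_, ?_, ?_, ?_⟩⟩
      · intro h
        apply hxt
        calc x = (t * t) * x := by rw [ht2, one_mul]
          _ = t * (t * x) := by group
          _ = t := by rw [h, mul_one]
      · calc t * x * (t * x) = t * (x * t) * x := by group
          _ = t * (t * x) * x := by rw [e1]
          _ = (t * t) * (x * x) := by group
          _ = 1 := by rw [ht2, hx2, one_mul]
      · intro h
        apply hx
        calc x = t⁻¹ * (t * x) := by group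
          _ = 1 := by rw [h]; group
      · intro h
        apply ht
        calc t = (t * x) * x⁻¹ := by group
          _ = 1 := by rw [h]; group
      · exact (Commute.refl t).mul_right htx
      · exact htx.symm.mul_right (Commute.refl x)

end Cfsg.Agent.S2360
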