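import Cfsg.Statements.S2356
import Cfsg.Agent.Lib.Helper5.SU3Inv
import Cfsg.Agent.S2360
import Mathlib

set_option autoImplicit false
open Cfsg

namespace Cfsg.Agent.S2356

open Matrix Cfsg Cfsg.Agent.Lib.Helper5.Herm Cfsg.Agent.Lib.Helper5.SU3Inv
  Cfsg.Agent.Lib.Helper5.HermCount Cfsg.Agent.Lib.Helper5.JointEigen

set_option linter.unusedSectionVars false
set_option linter.unusedVariables false

/-- the four-part statement about the commuting involution graph at `t` -/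
def Claim (G : Type*) [Group G] (t : G) (n1 n2 n3 : ℕ) : Prop :=
    Nat.card {x : G // x ≠ 1 ∧ x * x = 1 ∧ x ≠ t ∧ Commute t x} = n1 ∧
    Nat.card {x : G // x ≠ 1 ∧ x * x = 1 ∧ ¬ Commute t x ∧
        ∃ y : G, y ≠ 1 ∧ y * y = 1 ∧ Commute t y ∧ Commute y x} = n2 ∧
    Nat.card {x : G // x ≠ 1 ∧ x * x = 1 ∧ ¬ Commute t x ∧
        ∀ y : G, y ≠ 1 → y * y = 1 → ¬ (Commute t y ∧ Commute y x)} = n3 ∧
    ∀ x : G, x ≠ 1 → x * x = 1 →
      ∃ y z : G, y ≠ 1 ∧ y * y = 1 ∧ z ≠ 1 ∧ z * z = 1 ∧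
        Commute t y ∧ Commute y z ∧ Commute z x

theorem claim_conj {G : Type*} [Group G] (g t : G) (n1 n2 n3 : ℕ) (h : Claim G t n1 n2 n3) :
    Claim G (g * t * g⁻¹) n1 n2 n3 := by
  obtain ⟨h1, h2, h3, h4⟩ := h
  let φ : G ≃* G := MulAut.conj g
  have hφ : ∀ x, φ x = g * x * g⁻¹ := fun x => rfl
  rw [← hφ t]
  have hne : ∀ x, φ x ≠ 1 ↔ x ≠ 1 := fun x => by simp
  have hsq : ∀ x, φ x * φ x = 1 ↔ x * x = 1 := fun x => by
    rw [← map_mul φ x x]
    exact φ.map_eq_one_iff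
  have hcm : ∀ a b, Commute (φ a) (φ b) ↔ Commute a b := fun a b => by
    unfold Commute SemiconjBy
    rw [← map_mul, ← map_mul]
    exact φ.injective.eq_iff
  have hinj : ∀ x, φ x ≠ φ t ↔ x ≠ t := fun x => φ.injective.ne_iff
  refine ⟨?_, ?_, ?_, ?_⟩
  · rw [← h1]
    symm
    apply Nat.card_congr
    refine φ.toEquiv.subtypeEquiv (fun x => ?_)
    show _ ↔ (φ x ≠ 1 ∧ φ x * φ x = 1 ∧ φ x ≠ φ t ∧ Commute (φ t) (φ x))
    rw [hne, hsq, hinj, hcm]
  · rw [← h2]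
    symm
    apply Nat.card_congr
    refine φ.toEquiv.subtypeEquiv (fun x => ?_)
    show _ ↔ (φ x ≠ 1 ∧ φ x * φ x = 1 ∧ ¬ Commute (φ t) (φ x) ∧
      ∃ y : G, y ≠ 1 ∧ y * y = 1 ∧ Commute (φ t) y ∧ Commute y (φ x))
    refine and_congr (hne x).symm (and_congr (hsq x).symm (and_congr (not_congr (hcm t x).symm) ?_))
    refine Iff.trans ?_ (φ.surjective.exists).symm
    refine exists_congr (fun y => ?_)
    rw [hne, hsq, hcm, hcm]
  · rw [← h3]
    symm
    apply Nat.card_congr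
    refine φ.toEquiv.subtypeEquiv (fun x => ?_)
    show _ ↔ (φ x ≠ 1 ∧ φ x * φ x = 1 ∧ ¬ Commute (φ t) (φ x) ∧
      ∀ y : G, y ≠ 1 → y * y = 1 → ¬ (Commute (φ t) y ∧ Commute y (φ x)))
    refine and_congr (hne x).symm (and_congr (hsq x).symm (and_congr (not_congr (hcm t x).symm) ?_))
    refine Iff.trans ?_ (φ.surjective.forall).symm
    refine forall_congr' (fun y => ?_)
    rw [hne, hsq, hcm, hcm]
  · intro x hx hx2
    obtain ⟨x, rfl⟩ := φ.surjective x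
    rw [hne] at hx
    rw [hsq] at hx2
    obtain ⟨y, z, e1, e2, e3, e4, e5, e6, e7⟩ := h4 x hx hx2
    refine ⟨φ y, φ z, ?_⟩
    rw [hne, hsq, hne, hsq, hcm, hcm, hcm]
    exact ⟨e1, e2, e3, e4, e5, e6, e7⟩

variable {F : Type*} [Field F] [Fintype F] {q : ℕ}

theorem Rsu_smul (hF : Fintype.card F = q ^ 2) (u : Fin 3 → F) (hu : hermForm 3 F q u u ≠ 0)
    (k : F) (hk : k ≠ 0) (hku : hermForm 3 F q (k • u) (k • u) ≠ 0) :
    Rsu hF (k • u) hku = Rsu hF u hu := by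
  apply su_ext
  show Rmat q 3 (k • u) = Rmat q 3 u
  exact Rmat_smul hF 3 u k hk

theorem commute_Rsu_iff (hF : Fintype.card F = q ^ 2) (h2 : (2 : F) ≠ 0) (a b : Fin 3 → F)
    (ha : hermForm 3 F q a a ≠ 0) (hb : hermForm 3 F q b b ≠ 0) :
    Commute (Rsu hF a ha) (Rsu hF b hb) ↔
      (hermForm 3 F q a b = 0 ∨ ∃ k : F, k ≠ 0 ∧ b = k • a) := by
  have hcomm : Commute (Rsu hF a ha) (Rsu hF b hb) ↔ Rmat q 3 a * Rmat q 3 b = Rmat q 3 b * Rmat q 3 a := by
    constructor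
    · intro h
      have h1 : Rsu hF a ha * Rsu hF b hb = Rsu hF b hb * Rsu hF a ha := h
      have h5 := congrArg (fun x : SU 3 F q => ((x.1 : Matrix.SpecialLinearGroup (Fin 3) F) :
        Matrix (Fin 3) (Fin 3) F)) h1
      simp only [Subgroup.coe_mul, Matrix.SpecialLinearGroup.coe_mul] at h5
      exact h5
    · intro h
      show Rsu hF a ha * Rsu hF b hb = Rsu hF b hb * Rsu hF a ha
      apply su_ext
      simp only [Subgroup.coe_mul, Matrix.SpecialLinearGroup.coe_mul]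
      exact h
  rw [hcomm]
  have hconj : Rmat q 3 a * Rmat q 3 b * Rmat q 3 a = Rmat q 3 (Rmat q 3 a *ᵥ b) :=
    conj_Rmat 3 _ _ (Rmat_sq 3 a ha) (Rmat_herm hF 3 a ha) b
  have hAb : hermForm 3 F q (Rmat q 3 a *ᵥ b) (Rmat q 3 a *ᵥ b) ≠ 0 := by
    rw [Rmat_herm hF 3 a ha]; exact hb
  constructor
  · intro h
    have h1 : Rmat q 3 (Rmat q 3 a *ᵥ b) = Rmat q 3 b := by
      rw [← hconj, h, mul_assoc, Rmat_sq 3 a ha, mul_one]
    obtain ⟨k, hk, hkb⟩ := Cfsg.Agent.S2360.Rmat_eq_imp h2 b (Rmat q 3 a *ᵥ b) hb hAb h1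
    rw [Rmat_mulVec] at hkb
    by_cases h0 : hermForm 3 F q b a = 0
    · left
      rw [hermForm_swap hF, h0, zero_pow]
      have := one_lt_q hF
      omega
    · right
      have hc : 2 * (hermForm 3 F q a a)⁻¹ * hermForm 3 F q b a ≠ 0 :=
        mul_ne_zero (mul_ne_zero h2 (inv_ne_zero ha)) h0
      have h3 : (2 * (hermForm 3 F q a a)⁻¹ * hermForm 3 F q b a) • a = (k + 1) • b := by
        rw [add_smul, one_smul, ← hkb]; abel
      have hk1 : k + 1 ≠ 0 := by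
        intro h4
        rw [h4, zero_smul] at h3
        rcases smul_eq_zero.1 h3 with h5 | h5
        · exact hc h5
        · apply ha
          rw [h5]
          exact hermForm_zero_left 3 _
      refine ⟨(k + 1)⁻¹ * (2 * (hermForm 3 F q a a)⁻¹ * hermForm 3 F q b a),
        mul_ne_zero (inv_ne_zero hk1) hc, ?_⟩
      rw [mul_smul, h3, smul_smul, inv_mul_cancel₀ hk1, one_smul]
  · rintro (h | ⟨k, hk, rfl⟩)
    · have h0 : hermForm 3 F q b a = 0 := by
        rw [hermForm_swap hF, h, zero_pow]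
        have := one_lt_q hF
        omega
      have h1 : Rmat q 3 (Rmat q 3 a *ᵥ b) = Rmat q 3 b := by
        rw [Rmat_perp 3 a b h0]
        have : -b = (-1 : F) • b := by simp
        rw [this, Rmat_smul hF 3 b (-1) (by simp)]
      have h3 : Rmat q 3 a * Rmat q 3 b * Rmat q 3 a = Rmat q 3 b := hconj.trans h1
      calc Rmat q 3 a * Rmat q 3 b = Rmat q 3 a * Rmat q 3 b * (Rmat q 3 a * Rmat q 3 a) := by
            rw [Rmat_sq 3 a ha, mul_one]
        _ = (Rmat q 3 a * Rmat q 3 b * Rmat q 3 a) * Rmat q 3 a := by simp only [mul_assoc]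
        _ = Rmat q 3 b * Rmat q 3 a := by rw [h3]
    · rw [Rmat_smul hF 3 a k hk]

theorem herm3 (x y : Fin 3 → F) :
    hermForm 3 F q x y = x 0 * y 0 ^ q + x 1 * y 1 ^ q + x 2 * y 2 ^ q := by
  unfold hermForm
  rw [Fin.sum_univ_three]

theorem herm2 (x y : Fin 2 → F) :
    hermForm 2 F q x y = x 0 * y 0 ^ q + x 1 * y 1 ^ q := by
  unfold hermForm
  rw [Fin.sum_univ_two]

/-- the first standard basis vector -/
def e0 (F : Type*) [Field F] : Fin 3 → F := ![1, 0, 0]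

theorem qne (hF : Fintype.card F = q ^ 2) : q ≠ 0 := by
  have := one_lt_q hF
  omega

theorem he0 (hF : Fintype.card F = q ^ 2) : hermForm 3 F q (e0 F) (e0 F) = 1 := by
  rw [herm3]
  simp [e0, qne hF]

theorem he0' (hF : Fintype.card F = q ^ 2) : hermForm 3 F q (e0 F) (e0 F) ≠ 0 := by
  rw [he0 hF]; exact one_ne_zero

theorem herm_e0_left (hF : Fintype.card F = q ^ 2) (w : Fin 3 → F) :
    hermForm 3 F q (e0 F) w = w 0 ^ q := by
  rw [herm3]
  simp [e0]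

/-- the standard involution `diag(1,-1,-1)` -/
noncomputable def t0 (hF : Fintype.card F = q ^ 2) : SU 3 F q := Rsu hF (e0 F) (he0' hF)

theorem vec3_ext (x y : Fin 3 → F) (h0 : x 0 = y 0) (h1 : x 1 = y 1) (h2 : x 2 = y 2) : x = y := by
  funext i
  fin_cases i
  · exact h0
  · exact h1
  · exact h2

theorem smul_e0_iff (w : Fin 3 → F) (hw : hermForm 3 F q w w ≠ 0) :
    (∃ k : F, k ≠ 0 ∧ w = k • e0 F) ↔ (w 1 = 0 ∧ w 2 = 0) := by
  constructor
  · rintro ⟨k, hk, rfl⟩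
    simp [e0]
  · rintro ⟨h1, h2⟩
    refine ⟨w 0, ?_, ?_⟩
    · intro h0
      apply hw
      rw [herm3, h0, h1, h2]
      simp
    · apply vec3_ext
      · simp [e0]
      · simp [e0, h1]
      · simp [e0, h2]

theorem commute_t0_iff (hF : Fintype.card F = q ^ 2) (h2 : (2 : F) ≠ 0) (w : Fin 3 → F)
    (hw : hermForm 3 F q w w ≠ 0) :
    Commute (t0 hF) (Rsu hF w hw) ↔ (w 0 = 0 ∨ (w 1 = 0 ∧ w 2 = 0)) := by
  unfold t0
  rw [commute_Rsu_iff hF h2, herm_e0_left hF, smul_e0_iff w hw, pow_eq_zero_iff (qne hF)]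

theorem Rsu_eq_t0_iff (hF : Fintype.card F = q ^ 2) (h2 : (2 : F) ≠ 0) (w : Fin 3 → F)
    (hw : hermForm 3 F q w w ≠ 0) :
    Rsu hF w hw = t0 hF ↔ (w 1 = 0 ∧ w 2 = 0) := by
  rw [← smul_e0_iff w hw]
  constructor
  · intro h
    have h1 : Rmat q 3 w = Rmat q 3 (e0 F) := by
      have := congrArg (fun x : SU 3 F q => ((x.1 : Matrix.SpecialLinearGroup (Fin 3) F) :
        Matrix (Fin 3) (Fin 3) F)) h
      exact this
    exact Cfsg.Agent.S2360.Rmat_eq_imp h2 (e0 F) w (he0' hF) hw h1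
  · rintro ⟨k, hk, rfl⟩
    exact Rsu_smul hF (e0 F) (he0' hF) k hk hw

/-- every involution is some `Rsu w` -/
theorem exists_Rsu (hF : Fintype.card F = q ^ 2) (h2 : (2 : F) ≠ 0) (y : SU 3 F q)
    (hy : y ≠ 1) (hy2 : y * y = 1) :
    ∃ (v : Fin 3 → F) (hv : hermForm 3 F q v v ≠ 0), y = Rsu hF v hv := by
  obtain ⟨v, hv, hyv⟩ := exists_Rmat_of_invol hF h2 y hy hy2
  exact ⟨v, hv, su_ext 3 _ _ hyv⟩

/-- the vector orthogonal to `e0` and `w` -/
def perpVec (q : ℕ) (w : Fin 3 → F) : Fin 3 → F := ![0, w 2 ^ q, -(w 1 ^ q)]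

theorem perpVec_self (hF : Fintype.card F = q ^ 2) (w : Fin 3 → F) :
    hermForm 3 F q (perpVec q w) (perpVec q w) = w 1 ^ (q + 1) + w 2 ^ (q + 1) := by
  rw [herm3]
  simp only [perpVec, Matrix.cons_val_zero, Matrix.cons_val_one, Matrix.cons_val]
  rw [frob_neg hF, frob_frob hF, frob_frob hF, pow_succ, pow_succ]
  ring

theorem perpVec_w (hF : Fintype.card F = q ^ 2) (w : Fin 3 → F) :
    hermForm 3 F q (perpVec q w) w = 0 := by
  rw [herm3]
  simp only [perpVec, Matrix.cons_val_zero, Matrix.cons_val_one, Matrix.cons_val]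
  ring

theorem perpVec_zero (w : Fin 3 → F) : perpVec q w 0 = 0 := by
  simp [perpVec]

theorem no_common (hF : Fintype.card F = q ^ 2) (w v : Fin 3 → F)
    (hw0 : w 0 ≠ 0) (hw12 : ¬ (w 1 = 0 ∧ w 2 = 0)) (hn : w 1 ^ (q + 1) + w 2 ^ (q + 1) = 0)
    (hv : hermForm 3 F q v v ≠ 0) (c1 : v 0 = 0 ∨ (v 1 = 0 ∧ v 2 = 0))
    (c2 : hermForm 3 F q v w = 0 ∨ ∃ k : F, k ≠ 0 ∧ w = k • v) : False := by
  have hq0 := qne hF
  rcases c1 with c1 | ⟨c11, c12⟩
  · rcases c2 with c2 | ⟨k, hk, rfl⟩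
    · rw [herm3, c1, zero_mul, zero_add] at c2
      rw [herm3, c1, zero_mul, zero_add] at hv
      have e2 : v 1 ^ q * w 1 + v 2 ^ q * w 2 = 0 := by
        have := congrArg (fun x => x ^ q) c2
        simp only [frob_add hF, mul_pow, frob_frob hF, zero_pow hq0] at this
        exact this
      have e3 : w 1 * w 1 ^ q + w 2 * w 2 ^ q = 0 := by
        rw [pow_succ, pow_succ] at hn
        linear_combination hn
      have key : (v 1 * v 1 ^ q + v 2 * v 2 ^ q) * (w 1 * w 1 ^ q) = 0 := by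
        linear_combination (v 1 ^ q * w 1) * c2 - (v 2 * w 2 ^ q) * e2 + (v 2 * v 2 ^ q) * e3
      rcases mul_eq_zero.1 key with h | h
      · exact hv h
      · have h1 : w 1 = 0 := by
          rcases mul_eq_zero.1 h with h | h
          · exact h
          · exact (pow_eq_zero_iff hq0).1 h
        apply hw12
        refine ⟨h1, ?_⟩
        rw [h1, zero_pow (by omega), zero_add] at hn
        exact (pow_eq_zero_iff (by omega)).1 hn
    · apply hw0
      simp [c1]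
  · rcases c2 with c2 | ⟨k, hk, rfl⟩
    · rw [herm3, c11, c12, zero_mul, zero_mul, add_zero, add_zero] at c2
      rw [herm3, c11, c12, zero_mul, add_zero, add_zero] at hv
      rcases mul_eq_zero.1 c2 with h | h
      · apply hv; rw [h, zero_mul]
      · exact hw0 ((pow_eq_zero_iff hq0).1 h)
    · apply hw12
      simp [c11, c12]

theorem A3_iff (hF : Fintype.card F = q ^ 2) (h2 : (2 : F) ≠ 0) (w : Fin 3 → F)
    (hw : hermForm 3 F q w w ≠ 0) :
    (¬ Commute (t0 hF) (Rsu hF w hw) ∧ ∀ y : SU 3 F q, y ≠ 1 → y * y = 1 →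
        ¬ (Commute (t0 hF) y ∧ Commute y (Rsu hF w hw))) ↔
      (w 0 ≠ 0 ∧ ¬ (w 1 = 0 ∧ w 2 = 0) ∧ w 1 ^ (q + 1) + w 2 ^ (q + 1) = 0) := by
  rw [commute_t0_iff hF h2, not_or]
  constructor
  · rintro ⟨⟨h0, h12⟩, hall⟩
    refine ⟨h0, h12, ?_⟩
    by_contra hn
    have hv : hermForm 3 F q (perpVec q w) (perpVec q w) ≠ 0 := by
      rw [perpVec_self hF]; exact hn
    apply hall (Rsu hF (perpVec q w) hv) (Cfsg.Agent.S2360.Rsu_ne_one hF h2 _ hv)
      (Cfsg.Agent.S2360.Rsu_sq hF _ hv)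
    constructor
    · rw [commute_t0_iff hF h2]
      left
      exact perpVec_zero w
    · rw [commute_Rsu_iff hF h2]
      left
      exact perpVec_w hF w
  · rintro ⟨h0, h12, hn⟩
    refine ⟨⟨h0, h12⟩, ?_⟩
    intro y hy hy2 ⟨hc1, hc2⟩
    obtain ⟨v, hv, rfl⟩ := exists_Rsu hF h2 y hy hy2
    rw [commute_t0_iff hF h2] at hc1
    rw [commute_Rsu_iff hF h2] at hc2
    exact no_common hF w v h0 h12 hn hv hc1 hc2

theorem card_pull (hF : Fintype.card F = q ^ 2) (h2 : (2 : F) ≠ 0)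
    (P : {x : SU 3 F q // x ≠ 1 ∧ x * x = 1} → Prop) :
    Nat.card {u : {u : Fin 3 → F // hermForm 3 F q u u ≠ 0} // P (Cfsg.Agent.S2360.rho hF h2 u)}
      = Nat.card {x : {x : SU 3 F q // x ≠ 1 ∧ x * x = 1} // P x} * (q ^ 2 - 1) := by
  classical
  let f : {u : {u : Fin 3 → F // hermForm 3 F q u u ≠ 0} // P (Cfsg.Agent.S2360.rho hF h2 u)} →
      {x : {x : SU 3 F q // x ≠ 1 ∧ x * x = 1} // P x} := fun u =>
    ⟨Cfsg.Agent.S2360.rho hF h2 u.1, u.2⟩
  rw [← Nat.card_congr (Equiv.sigmaFiberEquiv f)]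
  have : Fintype {x : {x : SU 3 F q // x ≠ 1 ∧ x * x = 1} // P x} := Fintype.ofFinite _
  rw [Nat.card_sigma]
  have hfib : ∀ x : {x : {x : SU 3 F q // x ≠ 1 ∧ x * x = 1} // P x},
      Nat.card {u // f u = x} = q ^ 2 - 1 := by
    intro x
    rw [← Cfsg.Agent.S2360.card_fiber hF h2 x.1]
    apply Nat.card_congr
    exact
      { toFun := fun u => ⟨u.1.1, congrArg Subtype.val u.2⟩
        invFun := fun u => ⟨⟨u.1, by rw [u.2]; exact x.2⟩, Subtype.ext u.2⟩
        left_inv := fun u => rfl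
        right_inv := fun u => rfl }
  rw [Finset.sum_congr rfl (fun x _ => hfib x), Finset.sum_const, Finset.card_univ, smul_eq_mul,
    Nat.card_eq_fintype_card]

theorem z2_eq (k : ℕ) : (uz (k + 1) 2).2 = 1 + k * (k + 2) ^ 2 := by
  simp [uz]
  ring

theorem card_iso2' (hF : Fintype.card F = q ^ 2) :
    Nat.card {u : Fin 2 → F // hermForm 2 F q u u = 0} = (uz q 2).2 := by
  rw [card_hermForm_eq, (cnt_eq_uz hF 2).2]

theorem card_noniso2 {k : ℕ} (hF : Fintype.card F = (k + 1) ^ 2) :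
    Nat.card {u : Fin 2 → F // hermForm 2 F (k + 1) u u ≠ 0} = k * (k + 2) * (k * (k + 1)) := by
  classical
  have h0 := card_iso2' hF
  rw [z2_eq] at h0
  have htot : Nat.card {u : Fin 2 → F // hermForm 2 F (k + 1) u u ≠ 0}
      + Nat.card {u : Fin 2 → F // hermForm 2 F (k + 1) u u = 0} = ((k + 1) ^ 2) ^ 2 := by
    rw [Nat.card_eq_fintype_card, Nat.card_eq_fintype_card, Fintype.card_subtype_compl,
      Nat.sub_add_cancel (Fintype.card_subtype_le _)]
    simp [hF]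
  rw [h0] at htot
  have : ((k + 1) ^ 2) ^ 2 = k * (k + 2) * (k * (k + 1)) + (1 + k * (k + 2) ^ 2) := by ring
  omega

theorem card_iso2 {k : ℕ} (hF : Fintype.card F = (k + 1) ^ 2) :
    Nat.card {u : Fin 2 → F // u ≠ 0 ∧ hermForm 2 F (k + 1) u u = 0} = k * (k + 2) ^ 2 := by
  classical
  have h0 := card_iso2' hF
  rw [z2_eq] at h0
  have hz : hermForm 2 F (k + 1) (0 : Fin 2 → F) 0 = 0 := hermForm_zero_left 2 _
  have e : {u : Fin 2 → F // u ≠ 0 ∧ hermForm 2 F (k + 1) u u = 0} ≃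
      {s : {u : Fin 2 → F // hermForm 2 F (k + 1) u u = 0} // ¬ (s = ⟨0, hz⟩)} :=
    { toFun := fun u => ⟨⟨u.1, u.2.2⟩, fun h => u.2.1 (congrArg Subtype.val h)⟩
      invFun := fun s => ⟨s.1.1, fun h => s.2 (Subtype.ext h), s.1.2⟩
      left_inv := fun u => rfl
      right_inv := fun s => rfl }
  rw [Nat.card_congr e, Nat.card_eq_fintype_card, Fintype.card_subtype_compl,
    Fintype.card_subtype_eq, ← Nat.card_eq_fintype_card, h0]
  omega

theorem herm3_cons (a b c : F) :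
    hermForm 3 F q ![a, b, c] ![a, b, c] = a * a ^ q + hermForm 2 F q ![b, c] ![b, c] := by
  rw [herm3, herm2]
  simp
  ring

theorem vec2_eta (w : Fin 2 → F) : ![w 0, w 1] = w := by
  funext i
  fin_cases i <;> rfl

theorem vec3_eta (w : Fin 3 → F) : ![w 0, w 1, w 2] = w := by
  funext i
  fin_cases i <;> rfl

theorem vec2_eq_zero_iff (a b : F) : (![a, b] : Fin 2 → F) = 0 ↔ (a = 0 ∧ b = 0) := by
  constructor
  · intro h
    exact ⟨congrFun h 0, congrFun h 1⟩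
  · rintro ⟨rfl, rfl⟩
    funext i
    fin_cases i <;> rfl

theorem count1_vec (hF : Fintype.card F = q ^ 2) (h2 : (2 : F) ≠ 0) :
    Nat.card {u : {u : Fin 3 → F // hermForm 3 F q u u ≠ 0} //
      (Cfsg.Agent.S2360.rho hF h2 u).1 ≠ t0 hF ∧ Commute (t0 hF) (Cfsg.Agent.S2360.rho hF h2 u).1}
      = Nat.card {w : Fin 2 → F // hermForm 2 F q w w ≠ 0} := by
  have key : ∀ u : {u : Fin 3 → F // hermForm 3 F q u u ≠ 0},
      ((Cfsg.Agent.S2360.rho hF h2 u).1 ≠ t0 hF ∧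
        Commute (t0 hF) (Cfsg.Agent.S2360.rho hF h2 u).1) ↔ u.1 0 = 0 := by
    intro u
    show (Rsu hF u.1 u.2 ≠ t0 hF ∧ Commute (t0 hF) (Rsu hF u.1 u.2)) ↔ _
    rw [Ne, Rsu_eq_t0_iff hF h2, commute_t0_iff hF h2]
    constructor
    · rintro ⟨h1, h3 | h3⟩
      · exact h3
      · exact absurd h3 h1
    · intro h0
      refine ⟨?_, Or.inl h0⟩
      rintro ⟨h1, h3⟩
      apply u.2
      rw [herm3, h0, h1, h3]
      simp
  apply Nat.card_congr
  exact
    { toFun := fun u => ⟨![u.1.1 1, u.1.1 2], by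
        have h0 := (key u.1).1 u.2
        have := u.1.2
        rw [← vec3_eta u.1.1, herm3_cons, h0, zero_mul, zero_add] at this
        exact this⟩
      invFun := fun w => ⟨⟨![0, w.1 0, w.1 1], by
        rw [herm3_cons, zero_mul, zero_add, vec2_eta]
        exact w.2⟩, (key _).2 (by simp)⟩
      left_inv := fun u => by
        have h0 := (key u.1).1 u.2
        apply Subtype.ext
        apply Subtype.ext
        show ![0, u.1.1 1, u.1.1 2] = u.1.1
        apply vec3_ext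
        · exact h0.symm
        · rfl
        · rfl
      right_inv := fun w => by
        apply Subtype.ext
        show ![w.1 0, w.1 1] = w.1
        exact vec2_eta w.1 }

theorem count3_vec (hF : Fintype.card F = q ^ 2) (h2 : (2 : F) ≠ 0) :
    Nat.card {u : {u : Fin 3 → F // hermForm 3 F q u u ≠ 0} //
      ¬ Commute (t0 hF) (Cfsg.Agent.S2360.rho hF h2 u).1 ∧ ∀ y : SU 3 F q, y ≠ 1 → y * y = 1 →
        ¬ (Commute (t0 hF) y ∧ Commute y (Cfsg.Agent.S2360.rho hF h2 u).1)}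
      = Nat.card ({a : F // a ≠ 0} × {w : Fin 2 → F // w ≠ 0 ∧ hermForm 2 F q w w = 0}) := by
  have hq0 := qne hF
  have key : ∀ u : {u : Fin 3 → F // hermForm 3 F q u u ≠ 0},
      (¬ Commute (t0 hF) (Cfsg.Agent.S2360.rho hF h2 u).1 ∧ ∀ y : SU 3 F q, y ≠ 1 → y * y = 1 →
        ¬ (Commute (t0 hF) y ∧ Commute y (Cfsg.Agent.S2360.rho hF h2 u).1)) ↔
      (u.1 0 ≠ 0 ∧ ¬ (u.1 1 = 0 ∧ u.1 2 = 0) ∧ u.1 1 ^ (q + 1) + u.1 2 ^ (q + 1) = 0) := by
    intro u
    exact A3_iff hF h2 u.1 u.2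
  have hh : ∀ b c : F, hermForm 2 F q ![b, c] ![b, c] = b ^ (q + 1) + c ^ (q + 1) := by
    intro b c
    rw [herm2, pow_succ', pow_succ']
    simp
  apply Nat.card_congr
  exact
    { toFun := fun u => (⟨u.1.1 0, ((key u.1).1 u.2).1⟩, ⟨![u.1.1 1, u.1.1 2], by
        rw [Ne, vec2_eq_zero_iff]; exact ((key u.1).1 u.2).2.1, by
        rw [hh]; exact ((key u.1).1 u.2).2.2⟩)
      invFun := fun p => ⟨⟨![p.1.1, p.2.1 0, p.2.1 1], by
        rw [herm3_cons, vec2_eta, p.2.2.2, add_zero]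
        exact mul_ne_zero p.1.2 (pow_ne_zero _ p.1.2)⟩, (key _).2 ⟨p.1.2, by
          have := p.2.2.1
          rw [← vec2_eta p.2.1, Ne, vec2_eq_zero_iff] at this
          exact this, by
          have := p.2.2.2
          rw [← vec2_eta p.2.1, hh] at this
          exact this⟩⟩
      left_inv := fun u => by
        apply Subtype.ext
        apply Subtype.ext
        show ![u.1.1 0, u.1.1 1, u.1.1 2] = u.1.1
        exact vec3_eta _
      right_inv := fun p => by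
        apply Prod.ext
        · rfl
        · apply Subtype.ext
          show ![p.2.1 0, p.2.1 1] = p.2.1
          exact vec2_eta _ }

theorem card_inv_sub (B : SU 3 F q → Prop) :
    Nat.card {x : SU 3 F q // x ≠ 1 ∧ x * x = 1 ∧ B x}
      = Nat.card {x : {x : SU 3 F q // x ≠ 1 ∧ x * x = 1} // B x.1} :=
  Nat.card_congr
    { toFun := fun x => ⟨⟨x.1, x.2.1, x.2.2.1⟩, x.2.2.2⟩
      invFun := fun x => ⟨x.1.1, x.1.2.1, x.1.2.2, x.2⟩
      left_inv := fun _ => rfl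
      right_inv := fun _ => rfl }

theorem card_split {α : Type*} [Finite α] (A B : α → Prop) :
    Nat.card {x : α // A x} = Nat.card {x : α // A x ∧ B x} + Nat.card {x : α // A x ∧ ¬ B x} := by
  classical
  have : Fintype α := Fintype.ofFinite α
  rw [Nat.card_eq_fintype_card, Nat.card_eq_fintype_card, Nat.card_eq_fintype_card,
    Fintype.card_subtype, Fintype.card_subtype, Fintype.card_subtype,
    ← Finset.filter_filter, ← Finset.filter_filter,
    Finset.card_filter_add_card_filter_not]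

theorem path_via (hF : Fintype.card F = q ^ 2) (h2 : (2 : F) ≠ 0) (v w : Fin 3 → F)
    (hv : hermForm 3 F q v v ≠ 0) (hw : hermForm 3 F q w w ≠ 0)
    (hperp : hermForm 3 F q v w = 0) (hn : v 1 ^ (q + 1) + v 2 ^ (q + 1) ≠ 0) :
    ∃ y z : SU 3 F q, y ≠ 1 ∧ y * y = 1 ∧ z ≠ 1 ∧ z * z = 1 ∧
        Commute (t0 hF) y ∧ Commute y z ∧ Commute z (Rsu hF w hw) := by
  have hp : hermForm 3 F q (perpVec q v) (perpVec q v) ≠ 0 := by
    rw [perpVec_self hF]; exact hn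
  refine ⟨Rsu hF (perpVec q v) hp, Rsu hF v hv, Cfsg.Agent.S2360.Rsu_ne_one hF h2 _ hp,
    Cfsg.Agent.S2360.Rsu_sq hF _ hp, Cfsg.Agent.S2360.Rsu_ne_one hF h2 _ hv,
    Cfsg.Agent.S2360.Rsu_sq hF _ hv, ?_, ?_, ?_⟩
  · rw [commute_t0_iff hF h2]
    left
    exact perpVec_zero v
  · rw [commute_Rsu_iff hF h2]
    left
    exact perpVec_w hF v
  · rw [commute_Rsu_iff hF h2]
    left
    exact hperp

theorem claim4_t0 (hF : Fintype.card F = q ^ 2) (h2 : (2 : F) ≠ 0) (x : SU 3 F q)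
    (hx : x ≠ 1) (hx2 : x * x = 1) :
    ∃ y z : SU 3 F q, y ≠ 1 ∧ y * y = 1 ∧ z ≠ 1 ∧ z * z = 1 ∧
        Commute (t0 hF) y ∧ Commute y z ∧ Commute z x := by
  have hq0 := qne hF
  by_cases hc : Commute (t0 hF) x
  · exact ⟨x, x, hx, hx2, hx, hx2, hc, Commute.refl x, Commute.refl x⟩
  obtain ⟨w, hw, rfl⟩ := exists_Rsu hF h2 x hx hx2
  rw [commute_t0_iff hF h2, not_or] at hc
  obtain ⟨h0, h12⟩ := hc
  by_cases hn : w 1 ^ (q + 1) + w 2 ^ (q + 1) = 0
  · have hN0 : w 0 ^ (q + 1) ≠ 0 := pow_ne_zero _ h0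
    by_cases hA : w 1 ^ (q + 1) + w 0 ^ (q + 1) = 0
    · -- use the second choice
      have hB : w 2 ^ (q + 1) + w 0 ^ (q + 1) ≠ 0 := by
        intro hB
        have : (2 : F) * w 0 ^ (q + 1) = 0 := by linear_combination hA + hB - hn
        rcases mul_eq_zero.1 this with h | h
        · exact h2 h
        · exact hN0 h
      have hv : hermForm 3 F q ![-(w 2 ^ q), 0, w 0 ^ q] ![-(w 2 ^ q), 0, w 0 ^ q] ≠ 0 := by
        rw [herm3]
        simp only [Matrix.cons_val_zero, Matrix.cons_val_one, Matrix.cons_val]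
        rw [frob_neg hF, frob_frob hF, frob_frob hF]
        intro h
        apply hB
        rw [pow_succ, pow_succ]
        linear_combination h
      apply path_via hF h2 ![-(w 2 ^ q), 0, w 0 ^ q] w hv hw
      · rw [herm3]
        simp only [Matrix.cons_val_zero, Matrix.cons_val_one, Matrix.cons_val]
        ring
      · simp only [Matrix.cons_val_one, Matrix.cons_val]
        rw [zero_pow (by omega), zero_add]
        exact pow_ne_zero _ (pow_ne_zero _ h0)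
    · have hv : hermForm 3 F q ![-(w 1 ^ q), w 0 ^ q, 0] ![-(w 1 ^ q), w 0 ^ q, 0] ≠ 0 := by
        rw [herm3]
        simp only [Matrix.cons_val_zero, Matrix.cons_val_one, Matrix.cons_val]
        rw [frob_neg hF, frob_frob hF, frob_frob hF]
        intro h
        apply hA
        rw [pow_succ, pow_succ]
        linear_combination h
      apply path_via hF h2 ![-(w 1 ^ q), w 0 ^ q, 0] w hv hw
      · rw [herm3]
        simp only [Matrix.cons_val_zero, Matrix.cons_val_one, Matrix.cons_val]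
        ring
      · simp only [Matrix.cons_val_one, Matrix.cons_val]
        rw [zero_pow (by omega), add_zero]
        exact pow_ne_zero _ (pow_ne_zero _ h0)
  · have hp : hermForm 3 F q (perpVec q w) (perpVec q w) ≠ 0 := by
      rw [perpVec_self hF]; exact hn
    refine ⟨Rsu hF (perpVec q w) hp, Rsu hF (perpVec q w) hp,
      Cfsg.Agent.S2360.Rsu_ne_one hF h2 _ hp, Cfsg.Agent.S2360.Rsu_sq hF _ hp,
      Cfsg.Agent.S2360.Rsu_ne_one hF h2 _ hp, Cfsg.Agent.S2360.Rsu_sq hF _ hp, ?_,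
      Commute.refl _, ?_⟩
    · rw [commute_t0_iff hF h2]
      left
      exact perpVec_zero w
    · rw [commute_Rsu_iff hF h2]
      left
      exact perpVec_w hF w

theorem card_ne_zero' (hF : Fintype.card F = q ^ 2) : Nat.card {a : F // a ≠ 0} = q ^ 2 - 1 := by
  classical
  rw [Nat.card_eq_fintype_card, Fintype.card_subtype_compl, Fintype.card_subtype_eq, hF]

theorem claim_t0 (hq : Odd q) (hF : Fintype.card F = q ^ 2) :
    Claim (SU 3 F q) (t0 hF) (q * (q - 1)) (q * (q - 2) * (q ^ 2 - 1)) ((q + 1) * (q ^ 2 - 1)) := by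
  classical
  have h2 := Cfsg.Agent.S2360.two_ne_zero' hq hF
  have hq1 := one_lt_q hF
  have ht0 : t0 hF ≠ 1 := Cfsg.Agent.S2360.Rsu_ne_one hF h2 _ _
  have ht02 : t0 hF * t0 hF = 1 := Cfsg.Agent.S2360.Rsu_sq hF _ _
  have T := (Cfsg.Agent.S2360.result hq hF (t0 hF) ht0 ht02).2.1
  obtain ⟨k, rfl⟩ : ∃ k, q = k + 1 := ⟨q - 1, by omega⟩
  have hk : 2 ≤ k := by
    obtain ⟨m, hm⟩ := hq
    omega
  have a1 : (k + 1) ^ 2 - 1 = k * (k + 2) := by
    have : (k + 1) ^ 2 = k * (k + 2) + 1 := by ring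
    omega
  have a2 : (k + 1) ^ 2 - (k + 1) + 1 = k ^ 2 + k + 1 := by
    have : (k + 1) ^ 2 = k ^ 2 + k + (k + 1) := by ring
    omega
  have hpos : 0 < k * (k + 2) := by positivity
  -- count 1
  have c1 := card_pull hF h2 (fun x => x.1 ≠ t0 hF ∧ Commute (t0 hF) x.1)
  rw [count1_vec hF h2, card_noniso2 hF, a1] at c1
  have n1 : Nat.card {x : SU 3 F (k + 1) // x ≠ 1 ∧ x * x = 1 ∧ x ≠ t0 hF ∧ Commute (t0 hF) x}
      = (k + 1) * k := by
    rw [card_inv_sub (fun x => x ≠ t0 hF ∧ Commute (t0 hF) x)]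
    apply Nat.eq_of_mul_eq_mul_right hpos
    rw [← c1]; ring
  -- count 3
  have c3 := card_pull hF h2 (fun x => ¬ Commute (t0 hF) x.1 ∧ ∀ y : SU 3 F (k + 1), y ≠ 1 →
    y * y = 1 → ¬ (Commute (t0 hF) y ∧ Commute y x.1))
  rw [count3_vec hF h2, Nat.card_prod, card_iso2 hF, card_ne_zero' hF, a1] at c3
  have n3 : Nat.card {x : SU 3 F (k + 1) // x ≠ 1 ∧ x * x = 1 ∧ ¬ Commute (t0 hF) x ∧
      ∀ y : SU 3 F (k + 1), y ≠ 1 → y * y = 1 → ¬ (Commute (t0 hF) y ∧ Commute y x)}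
      = (k + 2) * (k * (k + 2)) := by
    rw [card_inv_sub (fun x => ¬ Commute (t0 hF) x ∧ ∀ y : SU 3 F (k + 1), y ≠ 1 →
      y * y = 1 → ¬ (Commute (t0 hF) y ∧ Commute y x))]
    apply Nat.eq_of_mul_eq_mul_right hpos
    rw [← c3]; ring
  -- partition
  have s1 := card_split (α := SU 3 F (k + 1)) (fun x => x ≠ 1 ∧ x * x = 1)
    (fun x => Commute (t0 hF) x)
  have s2 := card_split (α := SU 3 F (k + 1)) (fun x => (x ≠ 1 ∧ x * x = 1) ∧ Commute (t0 hF) x)
    (fun x => x = t0 hF)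
  have s3 := card_split (α := SU 3 F (k + 1)) (fun x => (x ≠ 1 ∧ x * x = 1) ∧ ¬ Commute (t0 hF) x)
    (fun x => ∃ y : SU 3 F (k + 1), y ≠ 1 ∧ y * y = 1 ∧ Commute (t0 hF) y ∧ Commute y x)
  have e1 : Nat.card {x : SU 3 F (k + 1) // ((x ≠ 1 ∧ x * x = 1) ∧ Commute (t0 hF) x) ∧
      x = t0 hF} = 1 := by
    rw [Nat.card_eq_one_iff_unique]
    exact ⟨⟨fun a b => Subtype.ext (a.2.2.trans b.2.2.symm)⟩,
      ⟨⟨t0 hF, ⟨⟨ht0, ht02⟩, Commute.refl _⟩, rfl⟩⟩⟩
  have e2 : Nat.card {x : SU 3 F (k + 1) // ((x ≠ 1 ∧ x * x = 1) ∧ Commute (t0 hF) x) ∧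
      ¬ x = t0 hF} = (k + 1) * k := by
    rw [← n1]
    apply Nat.card_congr
    apply Equiv.subtypeEquivRight
    intro x
    constructor
    · rintro ⟨⟨⟨a, b⟩, c⟩, d⟩
      exact ⟨a, b, d, c⟩
    · rintro ⟨a, b, d, c⟩
      exact ⟨⟨⟨a, b⟩, c⟩, d⟩
  have e3 : Nat.card {x : SU 3 F (k + 1) // ((x ≠ 1 ∧ x * x = 1) ∧ ¬ Commute (t0 hF) x) ∧
      ∃ y : SU 3 F (k + 1), y ≠ 1 ∧ y * y = 1 ∧ Commute (t0 hF) y ∧ Commute y x}
      = Nat.card {x : SU 3 F (k + 1) // x ≠ 1 ∧ x * x = 1 ∧ ¬ Commute (t0 hF) x ∧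
        ∃ y : SU 3 F (k + 1), y ≠ 1 ∧ y * y = 1 ∧ Commute (t0 hF) y ∧ Commute y x} := by
    apply Nat.card_congr
    apply Equiv.subtypeEquivRight
    intro x
    constructor
    · rintro ⟨⟨⟨a, b⟩, c⟩, d⟩
      exact ⟨a, b, c, d⟩
    · rintro ⟨a, b, c, d⟩
      exact ⟨⟨⟨a, b⟩, c⟩, d⟩
  have e4 : Nat.card {x : SU 3 F (k + 1) // ((x ≠ 1 ∧ x * x = 1) ∧ ¬ Commute (t0 hF) x) ∧
      ¬ ∃ y : SU 3 F (k + 1), y ≠ 1 ∧ y * y = 1 ∧ Commute (t0 hF) y ∧ Commute y x}
      = (k + 2) * (k * (k + 2)) := by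
    rw [← n3]
    apply Nat.card_congr
    apply Equiv.subtypeEquivRight
    intro x
    constructor
    · rintro ⟨⟨⟨a, b⟩, c⟩, d⟩
      exact ⟨a, b, c, fun y hy hy2 hh => d ⟨y, hy, hy2, hh.1, hh.2⟩⟩
    · rintro ⟨a, b, c, d⟩
      exact ⟨⟨⟨a, b⟩, c⟩, fun ⟨y, hy, hy2, h1, h3⟩ => d y hy hy2 ⟨h1, h3⟩⟩
  rw [e1, e2] at s2
  rw [e3, e4] at s3
  rw [s2, s3, T, a2] at s1
  refine ⟨?_, ?_, ?_, ?_⟩
  · rw [n1]
    simp
  · obtain ⟨j, rfl⟩ : ∃ j, k = j + 2 := ⟨k - 2, by omega⟩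
    rw [a1]
    have e : j + 2 + 1 - 2 = j + 1 := by omega
    rw [e]
    have hpoly : (j + 2 + 1) ^ 2 * ((j + 2) ^ 2 + (j + 2) + 1)
        = 1 + (j + 2 + 1) * (j + 2) + ((j + 2 + 1) * (j + 1) * ((j + 2) * (j + 2 + 2))
          + (j + 2 + 2) * ((j + 2) * (j + 2 + 2))) := by ring
    rw [hpoly] at s1
    omega
  · rw [n3, a1]
  · exact claim4_t0 hF h2


/-- Let q be odd, F the field with q² elements, S = SU_3(F) (determinant-one isometries of the standard Hermitian form) and t an involution of S. Then: exactly q(q−1) involutions other than t commute with t; exactly q(q−2)(q²−1) involutions do not commute with t but commute with some involution commuting with t; exactly (q+1)(q²−1) involutions x do not commute with t and admit no involution commuting with both t and x; and every involution can be reached from t in at most three steps, each step going to an involution that commutes with the previous one (the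 commuting involution graph is connected of diameter 3). -/
theorem result {F : Type*} [Field F] [Fintype F] {q : ℕ} (hq : Odd q)
    (hF : Fintype.card F = q ^ 2) (t : ↥(Cfsg.SU 3 F q)) (ht : t ≠ 1) (ht2 : t * t = 1) :
    Nat.card {x : ↥(Cfsg.SU 3 F q) // x ≠ 1 ∧ x * x = 1 ∧ x ≠ t ∧ Commute t x} = q * (q - 1) ∧
    Nat.card {x : ↥(Cfsg.SU 3 F q) // x ≠ 1 ∧ x * x = 1 ∧ ¬ Commute t x ∧
        ∃ y : ↥(Cfsg.SU 3 F q), y ≠ 1 ∧ y * y = 1 ∧ Commute t y ∧ Commute y x} = q * (q - 2) * (q ^ 2 - 1) ∧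
    Nat.card {x : ↥(Cfsg.SU 3 F q) // x ≠ 1 ∧ x * x = 1 ∧ ¬ Commute t x ∧
        ∀ y : ↥(Cfsg.SU 3 F q), y ≠ 1 → y * y = 1 → ¬ (Commute t y ∧ Commute y x)} = (q + 1) * (q ^ 2 - 1) ∧
    ∀ x : ↥(Cfsg.SU 3 F q), x ≠ 1 → x * x = 1 →
      ∃ y z : ↥(Cfsg.SU 3 F q), y ≠ 1 ∧ y * y = 1 ∧ z ≠ 1 ∧ z * z = 1 ∧
        Commute t y ∧ Commute y z ∧ Commute z x := by
  have h2 := Cfsg.Agent.S2360.two_ne_zero' hq hF
  have ht0 : t0 hF ≠ 1 := Cfsg.Agent.S2360.Rsu_ne_one hF h2 _ _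
  have ht02 : t0 hF * t0 hF = 1 := Cfsg.Agent.S2360.Rsu_sq hF _ _
  obtain ⟨g, hg⟩ := Cfsg.Agent.S2360.conj_invol hF h2 (t0 hF) t ht0 ht02 ht ht2
  have := claim_conj g (t0 hF) _ _ _ (claim_t0 hq hF)
  rw [hg] at this
  exact this

end Cfsg.Agent.S2356
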