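import Cfsg.Statements.S2364
import Mathlib
import Cfsg.Agent.S0242

set_option autoImplicit false
open Cfsg

namespace Cfsg.Agent.S2364

open Module

section Core

variable {F V : Type*} [Field F] [Fintype F] [AddCommGroup V] [Module F V] [FiniteDimensional F V]

/-- counting lemma -/
theorem count (r : ℕ) (hr : r.Prime) (s : Module.End F V) (hs : s ^ r = 1)
    (W : Submodule F V) (hW : ∀ w ∈ W, s w ∈ W)
    (hfix : ∀ w ∈ W, s w = w → w = 0) :
    r ∣ Fintype.card F ^ finrank F W - 1 := by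
  classical
  have : Finite V := Module.finite_of_finite F
  have : Fintype W := Fintype.ofFinite _
  have : Fact r.Prime := ⟨hr⟩
  let f : Function.End W := fun w => ⟨s w.1, hW w.1 w.2⟩
  have hpow : ∀ k : ℕ, ∀ w : W, ((f ^ k) w : V) = (s ^ k) w.1 := by
    intro k
    induction k with
    | zero => intro w; rfl
    | succ k ih =>
      intro w
      rw [pow_succ', pow_succ']
      change ((f ((f ^ k) w) : W) : V) = s ((s ^ k) w.1)
      rw [← ih w]
  have hf : f ^ r ^ 1 = 1 := by
    rw [pow_one]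
    funext w
    apply Subtype.ext
    rw [hpow, hs]
    rfl
  have h := Equiv.Perm.card_fixedPoints_modEq (p := r) (n := 1) hf
  have hfp : Fintype.card (Function.fixedPoints f) = 1 := by
    rw [Fintype.card_eq_one_iff]
    refine ⟨⟨0, ?_⟩, ?_⟩
    · change f 0 = 0
      apply Subtype.ext
      change s 0 = 0
      simp
    · rintro ⟨w, hw⟩
      apply Subtype.ext
      change w = 0
      have hw' : f w = w := hw
      have h2 : s w.1 = w.1 := congrArg Subtype.val hw'
      exact Subtype.ext (hfix w.1 w.2 h2)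
  rw [hfp] at h
  have hc : Fintype.card W = Fintype.card F ^ finrank F W := by
    rw [← Nat.card_eq_fintype_card, ← Nat.card_eq_fintype_card]
    exact Module.natCard_eq_pow_finrank
  rw [hc] at h
  have hpos : 1 ≤ Fintype.card F ^ finrank F W := Nat.one_le_pow _ _ Fintype.card_pos
  exact (Nat.modEq_iff_dvd' hpos).1 h.symm

omit [Fintype F] [FiniteDimensional F V] in
/-- unipotent fixed vector -/
theorem unip_fix (u : Module.End F V) (N : ℕ) (hu : (u - 1) ^ N = 0)
    (W : Submodule F V) (hW : ∀ w ∈ W, u w ∈ W) (hne : W ≠ ⊥) :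
    ∃ w ∈ W, w ≠ 0 ∧ u w = w := by
  classical
  obtain ⟨w₀, hw₀, hw₀ne⟩ := (Submodule.ne_bot_iff W).1 hne
  have hinv : ∀ k : ℕ, ((u - 1) ^ k) w₀ ∈ W := by
    intro k
    induction k with
    | zero => simpa using hw₀
    | succ k ih =>
      rw [pow_succ', Module.End.mul_apply, LinearMap.sub_apply]
      exact W.sub_mem (hW _ ih) (by simpa using ih)
  have hex : ∃ k : ℕ, ((u - 1 : Module.End F V) ^ k) w₀ = 0 := ⟨N, by rw [hu]; rfl⟩
  have hj : ((u - 1) ^ (Nat.find hex)) w₀ = 0 := Nat.find_spec hex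
  have hj0 : Nat.find hex ≠ 0 := by
    intro h
    rw [h] at hj
    exact hw₀ne (by simpa using hj)
  obtain ⟨j', hj'⟩ := Nat.exists_eq_succ_of_ne_zero hj0
  refine ⟨((u - 1) ^ j') w₀, hinv j', ?_, ?_⟩
  · exact Nat.find_min hex (by omega)
  · have : (u - 1) (((u - 1) ^ j') w₀) = 0 := by
      rw [← Module.End.mul_apply, ← pow_succ', ← Nat.succ_eq_add_one, ← hj']; exact hj
    rw [LinearMap.sub_apply, sub_eq_zero] at this
    simpa using this

omit [Fintype F] [FiniteDimensional F V] in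
theorem pow_fix (s : Module.End F V) (v : V) (h : s v = v) (k : ℕ) : (s ^ k) v = v := by
  induction k with
  | zero => rfl
  | succ k ih => rw [pow_succ, Module.End.mul_apply, h, ih]

theorem core (r : ℕ) (hr : r.Prime) (hrF : (r : F) ≠ 0)
    (hr1 : ¬ r ∣ Fintype.card F - 1)
    (s u : Module.End F V) (hs : s ^ r = 1) (hs1 : s ≠ 1) (N : ℕ) (hu : (u - 1) ^ N = 0) (hu1 : u ≠ 1)
    (hcomm : Commute s u) :
    ∃ i, 1 ≤ i ∧ i + 2 ≤ finrank F V ∧ r ∣ Fintype.card F ^ i - 1 := by
  have hc1 : Commute (s - 1) u := hcomm.sub_left (Commute.one_left u)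
  have hc2 : Commute (u - 1) s := hcomm.symm.sub_left (Commute.one_left s)
  have hc3 : Commute (s - 1) s := (Commute.refl s).sub_left (Commute.one_left s)
  -- (ii)
  have hdisj : LinearMap.ker (s - 1) ⊓ LinearMap.range (s - 1) = ⊥ := by
    rw [eq_bot_iff]
    rintro v ⟨hv1, ⟨w, rfl⟩⟩
    have hv1' : s ((s - 1) w) = (s - 1) w := by
      have := LinearMap.mem_ker.1 hv1
      rw [LinearMap.sub_apply, sub_eq_zero] at this
      simpa using this
    have h1 : (∑ i ∈ Finset.range r, s ^ i) ((s - 1) w) = 0 := by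
      rw [← Module.End.mul_apply, geom_sum_mul, hs, sub_self]
      rfl
    have h2 : (∑ i ∈ Finset.range r, s ^ i) ((s - 1) w) = (r : F) • ((s - 1) w) := by
      rw [LinearMap.sum_apply]
      rw [Finset.sum_congr rfl (fun i _ => pow_fix s _ hv1' i)]
      rw [Finset.sum_const, Finset.card_range, Nat.cast_smul_eq_nsmul]
    rw [h2] at h1
    rcases smul_eq_zero.1 h1 with h | h
    · exact absurd h hrF
    · rw [Submodule.mem_bot]; exact h
  have hdim : finrank F (LinearMap.range (s - 1)) + finrank F (LinearMap.ker (s - 1)) = finrank F V :=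
    LinearMap.finrank_range_add_finrank_ker (s - 1)
  -- invariance
  have hV2s : ∀ w ∈ LinearMap.range (s - 1), s w ∈ LinearMap.range (s - 1) := by
    rintro w ⟨x, rfl⟩
    refine ⟨s x, ?_⟩
    rw [← Module.End.mul_apply, ← Module.End.mul_apply, hc3.eq]
  have hV2u : ∀ w ∈ LinearMap.range (s - 1), u w ∈ LinearMap.range (s - 1) := by
    rintro w ⟨x, rfl⟩
    refine ⟨u x, ?_⟩
    rw [← Module.End.mul_apply, ← Module.End.mul_apply, hc1.eq]
  have hV1u : ∀ w ∈ LinearMap.ker (s - 1), u w ∈ LinearMap.ker (s - 1) := by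
    intro w hw
    rw [LinearMap.mem_ker] at hw ⊢
    rw [← Module.End.mul_apply, hc1.eq, Module.End.mul_apply, hw, map_zero]
  have hKs : ∀ w ∈ LinearMap.ker (u - 1), s w ∈ LinearMap.ker (u - 1) := by
    intro w hw
    rw [LinearMap.mem_ker] at hw ⊢
    rw [← Module.End.mul_apply, hc2.eq, Module.End.mul_apply, hw, map_zero]
  have hfixV2 : ∀ w ∈ LinearMap.range (s - 1), s w = w → w = 0 := by
    intro w hw hsw
    have : w ∈ LinearMap.ker (s - 1) ⊓ LinearMap.range (s - 1) := by
      refine Submodule.mem_inf.2 ⟨?_, hw⟩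
      rw [LinearMap.mem_ker, LinearMap.sub_apply, hsw]
      simp
    rw [hdisj] at this
    exact (Submodule.mem_bot F).1 this
  have hmemK : ∀ w, u w = w → w ∈ LinearMap.ker (u - 1) := by
    intro w hw
    rw [LinearMap.mem_ker, LinearMap.sub_apply, hw]
    simp
  -- counting
  have hcount2 := count r hr s hs (LinearMap.range (s - 1)) hV2s hfixV2
  have hcount3 := count r hr s hs (LinearMap.range (s - 1) ⊓ LinearMap.ker (u - 1))
    (fun w hw => ⟨hV2s w hw.1, hKs w hw.2⟩) (fun w hw => hfixV2 w hw.1)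
  have hV2ne : LinearMap.range (s - 1) ≠ ⊥ := by
    intro h
    rw [LinearMap.range_eq_bot, sub_eq_zero] at h
    exact hs1 h
  have hd3pos : 1 ≤ finrank F ↥(LinearMap.range (s - 1) ⊓ LinearMap.ker (u - 1)) := by
    obtain ⟨w, hw, hw0, huw⟩ := unip_fix u N hu _ hV2u hV2ne
    rw [Submodule.one_le_finrank_iff]
    intro h
    have : w ∈ LinearMap.range (s - 1) ⊓ LinearMap.ker (u - 1) := ⟨hw, hmemK w huw⟩
    rw [h] at this
    exact hw0 ((Submodule.mem_bot F).1 this)
  have hd32 : finrank F ↥(LinearMap.range (s - 1) ⊓ LinearMap.ker (u - 1)) ≤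
      finrank F ↥(LinearMap.range (s - 1)) := Submodule.finrank_mono inf_le_left
  by_cases hsmall : finrank F ↥(LinearMap.range (s - 1) ⊓ LinearMap.ker (u - 1)) + 2 ≤ finrank F V
  · exact ⟨_, hd3pos, hsmall, hcount3⟩
  exfalso
  by_cases heq : finrank F ↥(LinearMap.range (s - 1) ⊓ LinearMap.ker (u - 1)) =
      finrank F ↥(LinearMap.range (s - 1))
  · have hV2K : LinearMap.range (s - 1) ≤ LinearMap.ker (u - 1) := by
      have := Submodule.eq_of_le_of_finrank_eq (inf_le_left) heq
      rw [← this]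
      exact inf_le_right
    have hV1K : LinearMap.ker (s - 1) ≤ LinearMap.ker (u - 1) := by
      by_cases hb : LinearMap.ker (s - 1) = ⊥
      · rw [hb]; exact bot_le
      · obtain ⟨w, hw, hw0, huw⟩ := unip_fix u N hu _ hV1u hb
        have hpos : 1 ≤ finrank F ↥(LinearMap.ker (s - 1) ⊓ LinearMap.ker (u - 1)) := by
          rw [Submodule.one_le_finrank_iff]
          intro h
          have : w ∈ LinearMap.ker (s - 1) ⊓ LinearMap.ker (u - 1) := ⟨hw, hmemK w huw⟩
          rw [h] at this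
          exact hw0 ((Submodule.mem_bot F).1 this)
        have hle : finrank F ↥(LinearMap.ker (s - 1) ⊓ LinearMap.ker (u - 1)) ≤
            finrank F ↥(LinearMap.ker (s - 1)) := Submodule.finrank_mono inf_le_left
        have := Submodule.eq_of_le_of_finrank_eq
          (inf_le_left : LinearMap.ker (s - 1) ⊓ LinearMap.ker (u - 1) ≤ LinearMap.ker (s - 1))
          (by omega)
        rw [← this]
        exact inf_le_right
    have hsup : LinearMap.ker (s - 1) ⊔ LinearMap.range (s - 1) = ⊤ := by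
      apply Submodule.eq_top_of_finrank_eq
      have := Submodule.finrank_sup_add_finrank_inf_eq (LinearMap.ker (s - 1)) (LinearMap.range (s - 1))
      rw [hdisj, finrank_bot] at this
      omega
    have hK : LinearMap.ker (u - 1) = ⊤ := by
      rw [eq_top_iff, ← hsup]
      exact sup_le hV1K hV2K
    rw [LinearMap.ker_eq_top, sub_eq_zero] at hK
    exact hu1 hK
  · -- d₃ = n - 1, d₂ = n
    have hn2 : finrank F ↥(LinearMap.range (s - 1)) = finrank F V := by omega
    have hn3 : finrank F ↥(LinearMap.range (s - 1) ⊓ LinearMap.ker (u - 1)) + 1 = finrank F V := by omega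
    rw [hn2] at hcount2
    rw [← hn3] at hcount2
    apply hr1
    have hq : 1 ≤ Fintype.card F := Fintype.card_pos
    generalize finrank F ↥(LinearMap.range (s - 1) ⊓ LinearMap.ker (u - 1)) = d at *
    have hx : 1 ≤ Fintype.card F ^ d := Nat.one_le_pow _ _ hq
    have hid : Fintype.card F ^ (d + 1) - 1 =
        Fintype.card F * (Fintype.card F ^ d - 1) + (Fintype.card F - 1) := by
      rw [pow_succ']
      generalize Fintype.card F ^ d = x at *
      generalize Fintype.card F = q at *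
      obtain ⟨x', rfl⟩ : ∃ x', x = x' + 1 := ⟨x - 1, by omega⟩
      obtain ⟨q', rfl⟩ : ∃ q', q = q' + 1 := ⟨q - 1, by omega⟩
      simp only [Nat.add_sub_cancel]
      have : (q' + 1) * (x' + 1) = (q' + 1) * x' + q' + 1 := by ring
      rw [this]
      simp
    rw [hid] at hcount2
    exact (Nat.dvd_add_right (dvd_mul_of_dvd_right hcount3 _)).1 hcount2

end Core

theorem card_SL_factor {F : Type*} [Field F] [Fintype F] (k : ℕ) :
    Nat.card (Matrix.SpecialLinearGroup (Fin (k + 2)) F) =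
      (∏ j ∈ Finset.range k, (Fintype.card F ^ (k + 2) - Fintype.card F ^ j)) *
        (Fintype.card F ^ k * (Fintype.card F ^ 2 - 1)) * Fintype.card F ^ (k + 1) := by
  have h := Cfsg.Agent.S0242.result (F := F) rfl (k + 2) (by omega)
  rw [Fin.prod_univ_eq_prod_range (fun i => Fintype.card F ^ (k + 2) - Fintype.card F ^ i) (k + 2),
    Finset.prod_range_succ, Finset.prod_range_succ] at h
  have hq : 2 ≤ Fintype.card F := Fintype.one_lt_card
  generalize Fintype.card F = q at *
  have e1 : q ^ (k + 2) - q ^ (k + 1) = q ^ (k + 1) * (q - 1) := by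
    rw [Nat.mul_sub, mul_one, ← pow_succ]
  have e2 : q ^ (k + 2) - q ^ k = q ^ k * (q ^ 2 - 1) := by
    rw [Nat.mul_sub, mul_one, ← pow_add]
  rw [e1, e2] at h
  have hpos : 0 < q - 1 := by omega
  apply Nat.eq_of_mul_eq_mul_left hpos
  rw [h]
  ring

theorem dvd_card_SL_of_dvd_card {F : Type*} [Field F] [Fintype F] (m : ℕ) (hm : 2 ≤ m) (p : ℕ)
    (hp : p ∣ Fintype.card F) : p ∣ Nat.card (Matrix.SpecialLinearGroup (Fin m) F) := by
  obtain ⟨k, rfl⟩ : ∃ k, m = k + 2 := ⟨m - 2, by omega⟩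
  rw [card_SL_factor]
  apply dvd_mul_of_dvd_right
  exact dvd_pow hp (by omega)

theorem pow_sub_one_dvd_card_SL {F : Type*} [Field F] [Fintype F] (m : ℕ) (hm : 2 ≤ m) (i : ℕ)
    (hi1 : 1 ≤ i) (him : i ≤ m) :
    (Fintype.card F ^ i - 1) ∣ Nat.card (Matrix.SpecialLinearGroup (Fin m) F) := by
  obtain ⟨k, rfl⟩ : ∃ k, m = k + 2 := ⟨m - 2, by omega⟩
  rw [card_SL_factor]
  have hq : 2 ≤ Fintype.card F := Fintype.one_lt_card
  generalize Fintype.card F = q at *
  by_cases h2 : i ≤ 2
  · have : (q ^ i - 1) ∣ q ^ 2 - 1 := by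
      rcases (show i = 1 ∨ i = 2 by omega) with rfl | rfl
      · simpa using Nat.sub_dvd_pow_sub_pow q 1 2
      · exact dvd_rfl
    exact dvd_mul_of_dvd_left (dvd_mul_of_dvd_right (dvd_mul_of_dvd_right this _) _) _
  · have hj : k + 2 - i ∈ Finset.range k := by
      rw [Finset.mem_range]; omega
    have e : q ^ (k + 2) - q ^ (k + 2 - i) = q ^ (k + 2 - i) * (q ^ i - 1) := by
      rw [Nat.mul_sub, mul_one, ← pow_add]
      congr 2
      omega
    have h1 : (q ^ i - 1) ∣ ∏ j ∈ Finset.range k, (q ^ (k + 2) - q ^ j) := by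
      refine dvd_trans ?_ (Finset.dvd_prod_of_mem _ hj)
      rw [e]
      exact dvd_mul_left _ _
    exact dvd_mul_of_dvd_left (dvd_mul_of_dvd_left h1 _) _

open Matrix

theorem mat_core {F : Type*} [Field F] [Fintype F] (p : ℕ) [Fact p.Prime] [CharP F p] (n : ℕ)
    (hn : 1 ≤ n) (r : ℕ) (hr : r.Prime) (hrp : r ≠ p) (hr1 : ¬ r ∣ Fintype.card F - 1)
    (A B : Matrix (Fin n) (Fin n) F)
    (hA : ∃ c : F, c ≠ 0 ∧ A ^ p = c • (1 : Matrix (Fin n) (Fin n) F))
    (hA' : ∀ c : F, A ≠ c • (1 : Matrix (Fin n) (Fin n) F))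
    (hB : ∃ c : F, c ≠ 0 ∧ B ^ r = c • (1 : Matrix (Fin n) (Fin n) F))
    (hB' : ∀ c : F, B ≠ c • (1 : Matrix (Fin n) (Fin n) F))
    (hAB : ∃ z : F, A * B = z • (B * A)) :
    ∃ i, 1 ≤ i ∧ i + 2 ≤ n ∧ r ∣ Fintype.card F ^ i - 1 := by
  classical
  have : Nonempty (Fin n) := ⟨⟨0, hn⟩⟩
  obtain ⟨c, hc0, hAc⟩ := hA
  obtain ⟨c', hc'0, hBc⟩ := hB
  obtain ⟨z, hz⟩ := hAB
  -- μ
  obtain ⟨μ, hμ⟩ := surjective_frobenius F p c⁻¹
  rw [frobenius_def] at hμ
  have hμ0 : μ ≠ 0 := by
    rintro rfl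
    rw [zero_pow (Fact.out : p.Prime).ne_zero] at hμ
    exact inv_ne_zero hc0 hμ.symm
  -- ν
  have hcop : (Nat.card Fˣ).Coprime r := by
    rw [Nat.card_units, Nat.card_eq_fintype_card]
    exact (Nat.Coprime.symm ((Nat.Prime.coprime_iff_not_dvd hr).2 hr1))
  obtain ⟨ν, hν⟩ := (powCoprime hcop).surjective (Units.mk0 c' hc'0)⁻¹
  rw [powCoprime_apply] at hν
  have hν' : (ν : F) ^ r = c'⁻¹ := by
    have := congrArg Units.val hν
    simpa using this
  have hA1 : (μ • A) ^ p = 1 := by
    rw [smul_pow, hAc, hμ, smul_smul, inv_mul_cancel₀ hc0, one_smul]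
  have hB1 : ((ν : F) • B) ^ r = 1 := by
    rw [smul_pow, hBc, hν', smul_smul, inv_mul_cancel₀ hc'0, one_smul]
  have hcomm : (μ • A) * ((ν : F) • B) = z • (((ν : F) • B) * (μ • A)) := by
    rw [smul_mul_smul_comm, smul_mul_smul_comm, hz, smul_smul, smul_smul]
    congr 1
    ring
  have hpowcomm : ∀ k : ℕ, (μ • A) ^ k * ((ν : F) • B) = z ^ k • (((ν : F) • B) * (μ • A) ^ k) := by
    intro k
    induction k with
    | zero => simp
    | succ k ih =>
      rw [pow_succ', mul_assoc, ih, mul_smul_comm, ← mul_assoc, hcomm, smul_mul_assoc, smul_smul,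
        mul_assoc, ← pow_succ', ← pow_succ]
  have hB0 : (ν : F) • B ≠ 0 := by
    intro h
    rw [h, zero_pow hr.ne_zero] at hB1
    exact zero_ne_one hB1
  have hz1 : z = 1 := by
    have h := hpowcomm p
    rw [hA1, one_mul, mul_one] at h
    have h2 : (z ^ p - 1) • ((ν : F) • B) = 0 := by
      rw [sub_smul, one_smul, ← h, sub_self]
    rcases smul_eq_zero.1 h2 with h3 | h3
    · have h4 : (z - 1) ^ p = 0 := by
        rw [sub_pow_char, one_pow, h3]
      exact sub_eq_zero.1 (pow_eq_zero_iff (Fact.out : p.Prime).ne_zero |>.1 h4)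
    · exact absurd h3 hB0
  rw [hz1, one_smul] at hcomm
  have hAne : μ • A ≠ 1 := by
    intro h
    apply hA' μ⁻¹
    rw [← h, smul_smul, inv_mul_cancel₀ hμ0, one_smul]
  have hBne : (ν : F) • B ≠ 1 := by
    intro h
    apply hB' (ν : F)⁻¹
    rw [← h, smul_smul, inv_mul_cancel₀ ν.ne_zero, one_smul]
  have hunip : (μ • A - 1) ^ p = 0 := by
    rw [sub_pow_char_of_commute p (Commute.one_right _), hA1, one_pow, sub_self]
  have hrF : (r : F) ≠ 0 := by
    intro h
    rw [CharP.cast_eq_zero_iff F p r] at h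
    exact hrp ((Nat.prime_dvd_prime_iff_eq (Fact.out : p.Prime) hr).1 h).symm
  have key := core (F := F) (V := Fin n → F) r hr hrF hr1
    (Matrix.toLinAlgEquiv' ((ν : F) • B)) (Matrix.toLinAlgEquiv' (μ • A))
    (by rw [← map_pow, hB1, map_one])
    (by
      intro h
      apply hBne
      apply (Matrix.toLinAlgEquiv' (R := F) (n := Fin n)).injective
      rw [h, map_one])
    p
    (by
      rw [← map_one (Matrix.toLinAlgEquiv' (R := F) (n := Fin n)), ← map_sub, ← map_pow, hunip,
        map_zero])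
    (by
      intro h
      apply hAne
      apply (Matrix.toLinAlgEquiv' (R := F) (n := Fin n)).injective
      rw [h, map_one])
    (by
      change _ * _ = _ * _
      rw [← map_mul, ← map_mul, hcomm])
  rw [Module.finrank_fin_fun] at key
  exact key

open Matrix

theorem scalar_eq_smul_one {F : Type*} [Field F] (n : ℕ) (c : F) :
    Matrix.scalar (Fin n) c = c • (1 : Matrix (Fin n) (Fin n) F) := by
  rw [Matrix.smul_one_eq_diagonal]; rfl

/-- an element of `SL` whose power is central -/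
theorem pow_central {F : Type*} [Field F] (n : ℕ) (hn : 1 ≤ n)
    (A : Matrix.SpecialLinearGroup (Fin n) F) (k : ℕ)
    (h : (QuotientGroup.mk A : Matrix.ProjectiveSpecialLinearGroup (Fin n) F) ^ k = 1) :
    ∃ c : F, c ≠ 0 ∧ (A : Matrix (Fin n) (Fin n) F) ^ k = c • (1 : Matrix (Fin n) (Fin n) F) := by
  rw [← QuotientGroup.mk_pow, QuotientGroup.eq_one_iff, Matrix.SpecialLinearGroup.mem_center_iff] at h
  obtain ⟨c, hc, hcA⟩ := h
  refine ⟨c, ?_, ?_⟩
  · rintro rfl
    rw [Fintype.card_fin, zero_pow (by omega)] at hc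
    exact zero_ne_one hc
  · rw [← Matrix.SpecialLinearGroup.coe_pow, ← hcA, scalar_eq_smul_one]

theorem not_scalar {F : Type*} [Field F] (n : ℕ)
    (A : Matrix.SpecialLinearGroup (Fin n) F)
    (h : (QuotientGroup.mk A : Matrix.ProjectiveSpecialLinearGroup (Fin n) F) ≠ 1) (c : F) :
    (A : Matrix (Fin n) (Fin n) F) ≠ c • (1 : Matrix (Fin n) (Fin n) F) := by
  intro hA
  apply h
  rw [QuotientGroup.eq_one_iff, Matrix.SpecialLinearGroup.mem_center_iff]
  refine ⟨c, ?_, ?_⟩
  · have := A.2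
    rw [hA, Matrix.det_smul, Matrix.det_one, mul_one] at this
    exact this
  · rw [scalar_eq_smul_one, hA]

theorem commute_lift {F : Type*} [Field F] (n : ℕ)
    (A B : Matrix.SpecialLinearGroup (Fin n) F)
    (h : Commute (QuotientGroup.mk A : Matrix.ProjectiveSpecialLinearGroup (Fin n) F)
      (QuotientGroup.mk B)) :
    ∃ z : F, (A : Matrix (Fin n) (Fin n) F) * (B : Matrix (Fin n) (Fin n) F) =
      z • ((B : Matrix (Fin n) (Fin n) F) * (A : Matrix (Fin n) (Fin n) F)) := by
  have h1 : (QuotientGroup.mk (B * A) : Matrix.ProjectiveSpecialLinearGroup (Fin n) F) =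
      QuotientGroup.mk (A * B) := by
    rw [QuotientGroup.mk_mul, QuotientGroup.mk_mul]
    exact h.eq.symm
  rw [QuotientGroup.eq, Matrix.SpecialLinearGroup.mem_center_iff] at h1
  obtain ⟨z, _, hz⟩ := h1
  refine ⟨z, ?_⟩
  have h2 : (B * A) * ((B * A)⁻¹ * (A * B)) = A * B := by group
  have h3 := congrArg (fun M : Matrix.SpecialLinearGroup (Fin n) F => (M : Matrix (Fin n) (Fin n) F)) h2
  simp only [Matrix.SpecialLinearGroup.coe_mul] at h3
  rw [← h3]
  have h4 : ((((B * A)⁻¹ * (A * B) : Matrix.SpecialLinearGroup (Fin n) F)) : Matrix (Fin n) (Fin n) F) =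
      z • (1 : Matrix (Fin n) (Fin n) F) := by
    rw [← scalar_eq_smul_one, hz]
  simp only [Matrix.SpecialLinearGroup.coe_mul] at h4
  rw [h4, mul_smul_comm, mul_one]

open Matrix

/-- Let F be a finite field of characteristic p, n ≥ 4, and let a, b be commuting elements of PSL(n, F) with a of order p. Then every prime divisor of the order of b divides the order of SL(n − 2, F). -/
theorem result {F : Type*} [Field F] [Fintype F] (p : ℕ) [Fact p.Prime] [CharP F p] (n : ℕ) (hn : 4 ≤ n)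
    (a b : Matrix.ProjectiveSpecialLinearGroup (Fin n) F) (ha : orderOf a = p) (hab : Commute a b) :
    (orderOf b).primeFactors ⊆ (Nat.card (Matrix.SpecialLinearGroup (Fin (n - 2)) F)).primeFactors := by
  classical
  intro r hrmem
  rw [Nat.mem_primeFactors] at hrmem ⊢
  obtain ⟨hrp, hrdvd, hb0⟩ := hrmem
  have hcard0 : Nat.card (Matrix.SpecialLinearGroup (Fin (n - 2)) F) ≠ 0 := Nat.card_pos.ne'
  refine ⟨hrp, ?_, hcard0⟩
  have hpp : p.Prime := Fact.out
  have hpq : p ∣ Fintype.card F := by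
    rw [← CharP.cast_eq_zero_iff F p]
    exact Nat.cast_card_eq_zero F
  by_cases hrp' : r = p
  · rw [hrp']
    exact dvd_card_SL_of_dvd_card (n - 2) (by omega) p hpq
  by_cases hr1 : r ∣ Fintype.card F - 1
  · refine dvd_trans hr1 ?_
    simpa using pow_sub_one_dvd_card_SL (F := F) (n - 2) (by omega) 1 le_rfl (by omega)
  -- main case
  have hb1 : orderOf (b ^ (orderOf b / r)) = r := orderOf_pow_orderOf_div hb0 hrdvd
  have hab1 : Commute a (b ^ (orderOf b / r)) := hab.pow_right _
  obtain ⟨A, hA⟩ := QuotientGroup.mk_surjective a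
  obtain ⟨B, hB⟩ := QuotientGroup.mk_surjective (b ^ (orderOf b / r))
  have ha1 : a ≠ 1 := by
    intro h
    rw [h, orderOf_one] at ha
    exact hpp.one_lt.ne ha
  have hb1' : b ^ (orderOf b / r) ≠ 1 := by
    intro h
    rw [h, orderOf_one] at hb1
    exact hrp.one_lt.ne hb1
  have hap : a ^ p = 1 := by rw [← ha]; exact pow_orderOf_eq_one a
  have hbr : (b ^ (orderOf b / r)) ^ r = 1 := by
    have := pow_orderOf_eq_one (b ^ (orderOf b / r))
    rw [hb1] at this
    exact this
  rw [← hA] at ha1 hap hab1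
  rw [← hB] at hb1' hbr hab1
  obtain ⟨i, hi1, hi2, hi3⟩ := mat_core (F := F) p n (by omega) r hrp hrp' hr1
    (A : Matrix (Fin n) (Fin n) F) (B : Matrix (Fin n) (Fin n) F)
    (pow_central n (by omega) A p hap) (not_scalar n A ha1)
    (pow_central n (by omega) B r hbr) (not_scalar n B hb1')
    (commute_lift n A B hab1)
  exact dvd_trans hi3 (pow_sub_one_dvd_card_SL (F := F) (n - 2) (by omega) i hi1 (by omega))

end Cfsg.Agent.S2364
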