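import Cfsg.Statements.S2470
import Mathlib
import Cfsg.Agent.S2364

set_option autoImplicit false
open Cfsg

namespace Cfsg.Agent.S2470

open Matrix

section Build

variable {F : Type*} [Field F]

/-- the 2x2 unipotent block -/
def J2 (F : Type*) [Field F] : Matrix (Fin 2) (Fin 2) F := !![1, 1; 0, 1]

theorem J2_pow (j : ℕ) : (J2 F) ^ j = !![1, (j : F); 0, 1] := by
  induction j with
  | zero =>
    ext a b
    fin_cases a <;> fin_cases b <;> simp
  | succ j ih =>
    rw [pow_succ, ih, J2]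
    ext a b
    fin_cases a <;> fin_cases b <;> simp [Matrix.mul_apply, Fin.sum_univ_two]
    ring

/-- block matrix -/
noncomputable def blk (m : ℕ) (a : F) (B₀ : Matrix (Fin m) (Fin m) F) :
    Matrix (Fin (2 + m)) (Fin (2 + m)) F :=
  Matrix.reindexAlgEquiv F F finSumFinEquiv (Matrix.fromBlocks (a • J2 F) 0 0 B₀)

theorem fromBlocks_pow {m : ℕ} (A : Matrix (Fin 2) (Fin 2) F) (D : Matrix (Fin m) (Fin m) F) (j : ℕ) :
    (Matrix.fromBlocks A 0 0 D) ^ j = Matrix.fromBlocks (A ^ j) 0 0 (D ^ j) := by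
  induction j with
  | zero => simp [Matrix.fromBlocks_one]
  | succ j ih =>
    rw [pow_succ, ih, Matrix.fromBlocks_multiply]
    simp [pow_succ]

theorem blk_pow (m : ℕ) (a : F) (B₀ : Matrix (Fin m) (Fin m) F) (j : ℕ) :
    (blk m a B₀) ^ j =
      Matrix.reindexAlgEquiv F F finSumFinEquiv
        (Matrix.fromBlocks (a ^ j • (J2 F) ^ j) 0 0 (B₀ ^ j)) := by
  rw [blk, ← map_pow, fromBlocks_pow, smul_pow]

theorem blk_det (m : ℕ) (a : F) (B₀ : Matrix (Fin m) (Fin m) F) :
    (blk m a B₀).det = a ^ 2 * B₀.det := by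
  rw [blk, Matrix.det_reindexAlgEquiv, Matrix.det_fromBlocks_zero₂₁, Matrix.det_smul]
  congr 1
  simp [J2, Matrix.det_fin_two]

theorem blk_eq_smul_one (m : ℕ) (A : Matrix (Fin 2) (Fin 2) F) (D : Matrix (Fin m) (Fin m) F) (c : F)
    (h : Matrix.reindexAlgEquiv F F finSumFinEquiv (Matrix.fromBlocks A 0 0 D) =
      c • (1 : Matrix (Fin (2 + m)) (Fin (2 + m)) F)) :
    A = c • 1 ∧ D = c • 1 := by
  have h1 : Matrix.reindexAlgEquiv F F finSumFinEquiv (Matrix.fromBlocks A 0 0 D) =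
      Matrix.reindexAlgEquiv F F finSumFinEquiv (c • (1 : Matrix (Fin 2 ⊕ Fin m) (Fin 2 ⊕ Fin m) F)) := by
    rw [h, map_smul, map_one]
  have h2 := (Matrix.reindexAlgEquiv F F finSumFinEquiv).injective h1
  rw [← Matrix.fromBlocks_one, Matrix.fromBlocks_smul, Matrix.fromBlocks_inj] at h2
  exact ⟨h2.1, h2.2.2.2⟩

end Build

open Matrix

theorem exists_order {F : Type*} [Field F] (p : ℕ) [Fact p.Prime] [CharP F p] (m : ℕ)
    (r : ℕ) (hr : r.Prime) (hrp : r ≠ p) (a : F) (B₀ : Matrix (Fin m) (Fin m) F)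
    (hdet : a ^ 2 * B₀.det = 1)
    (H1 : B₀ ^ r = a ^ r • (1 : Matrix (Fin m) (Fin m) F))
    (H2 : ∀ j : ℕ, B₀ ^ j = a ^ j • (1 : Matrix (Fin m) (Fin m) F) → r ∣ j) :
    ∃ g : Matrix.ProjectiveSpecialLinearGroup (Fin (2 + m)) F, orderOf g = r * p := by
  classical
  have hpp : p.Prime := Fact.out
  have ha0 : a ≠ 0 := by
    rintro rfl
    simp at hdet
  let g₀ : Matrix.SpecialLinearGroup (Fin (2 + m)) F := ⟨blk m a B₀, by rw [blk_det, hdet]⟩
  have hg₀ : ∀ j : ℕ, ((g₀ ^ j : Matrix.SpecialLinearGroup (Fin (2 + m)) F) :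
      Matrix (Fin (2 + m)) (Fin (2 + m)) F) = (blk m a B₀) ^ j := by
    intro j
    rw [Matrix.SpecialLinearGroup.coe_pow]
  refine ⟨(QuotientGroup.mk g₀ : Matrix.ProjectiveSpecialLinearGroup (Fin (2 + m)) F), ?_⟩
  have hone : (QuotientGroup.mk g₀ : Matrix.ProjectiveSpecialLinearGroup (Fin (2 + m)) F) ^ (r * p) = 1 := by
    rw [← QuotientGroup.mk_pow]
    by_contra hne
    apply Cfsg.Agent.S2364.not_scalar (2 + m) (g₀ ^ (r * p)) hne (a ^ (r * p))
    rw [hg₀, blk_pow, J2_pow]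
    have hz : ((r * p : ℕ) : F) = 0 := by
      rw [Nat.cast_mul, CharP.cast_eq_zero F p, mul_zero]
    have hJ : (!![1, ((r * p : ℕ) : F); 0, 1] : Matrix (Fin 2) (Fin 2) F) = 1 := by
      rw [hz]
      ext i j
      fin_cases i <;> fin_cases j <;> simp
    rw [hJ, pow_mul B₀, H1, smul_pow, one_pow, ← pow_mul]
    have hfb : Matrix.fromBlocks (a ^ (r * p) • (1 : Matrix (Fin 2) (Fin 2) F)) 0 0
        (a ^ (r * p) • (1 : Matrix (Fin m) (Fin m) F)) =
        a ^ (r * p) • (1 : Matrix (Fin 2 ⊕ Fin m) (Fin 2 ⊕ Fin m) F) := by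
      rw [← Matrix.fromBlocks_one, Matrix.fromBlocks_smul, smul_zero, smul_zero]
    rw [hfb, map_smul, map_one]
  have hdvd : ∀ j : ℕ, (QuotientGroup.mk g₀ : Matrix.ProjectiveSpecialLinearGroup (Fin (2 + m)) F) ^ j = 1 →
      r * p ∣ j := by
    intro j hj
    obtain ⟨c, hc0, hc⟩ := Cfsg.Agent.S2364.pow_central (2 + m) (by omega) g₀ j hj
    change (blk m a B₀) ^ j = _ at hc
    rw [blk_pow] at hc
    obtain ⟨h1, h2⟩ := blk_eq_smul_one m _ _ c hc
    rw [J2_pow] at h1
    have e00 := congrFun (congrFun h1 0) 0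
    have e01 := congrFun (congrFun h1 0) 1
    simp at e00 e01
    have hpj : p ∣ j := by
      rw [← CharP.cast_eq_zero_iff F p]
      rcases e01 with h | h
      · exact absurd h.1 ha0
      · exact h
    have hrj : r ∣ j := by
      apply H2
      rw [h2, e00]
    exact Nat.Coprime.mul_dvd_of_dvd_of_dvd ((Nat.coprime_primes hr hpp).2 hrp) hrj hpj
  apply Nat.dvd_antisymm
  · exact orderOf_dvd_of_pow_eq_one hone
  · exact hdvd _ (pow_orderOf_eq_one _)

open Matrix

theorem dvd_pow_sub_one_iff (q r : ℕ) (hq : 1 ≤ q) (i : ℕ) :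
    r ∣ q ^ i - 1 ↔ orderOf ((q : ℕ) : ZMod r) ∣ i := by
  rw [orderOf_dvd_iff_pow_eq_one, ← ZMod.natCast_eq_zero_iff,
    Nat.cast_sub (Nat.one_le_pow _ _ hq), sub_eq_zero, Nat.cast_one, Nat.cast_pow]

theorem orderOf_pos_of_not_dvd (q r : ℕ) (hr : r.Prime) (hrq : ¬ r ∣ q) :
    1 ≤ orderOf ((q : ℕ) : ZMod r) := by
  have : Fact r.Prime := ⟨hr⟩
  have h0 : ((q : ℕ) : ZMod r) ≠ 0 := by
    rw [Ne, ZMod.natCast_eq_zero_iff]
    exact hrq
  rw [Nat.one_le_iff_ne_zero, ← Nat.pos_iff_ne_zero, orderOf_pos_iff, isOfFinOrder_iff_pow_eq_one]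
  exact ⟨r - 1, Nat.sub_pos_of_lt hr.one_lt, ZMod.pow_card_sub_one_eq_one h0⟩

/-- Case AB -/
theorem exists_big {F : Type*} [Field F] [Fintype F] (p : ℕ) [Fact p.Prime] [CharP F p] (m : ℕ)
    (hm : 2 ≤ m) (r : ℕ) (hr : r.Prime) (hrp : r ≠ p)
    (hk1 : 1 ≤ orderOf ((Fintype.card F : ℕ) : ZMod r))
    (hkm : orderOf ((Fintype.card F : ℕ) : ZMod r) ≤ m) :
    ∃ g : Matrix.ProjectiveSpecialLinearGroup (Fin (2 + m)) F, orderOf g = r * p := by
  classical
  have : Fact r.Prime := ⟨hr⟩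
  have hq : 1 ≤ Fintype.card F := Fintype.card_pos
  have h1 : r ∣ Fintype.card F ^ orderOf ((Fintype.card F : ℕ) : ZMod r) - 1 :=
    (dvd_pow_sub_one_iff _ r hq _).2 dvd_rfl
  have h2 := Cfsg.Agent.S2364.pow_sub_one_dvd_card_SL (F := F) m hm _ hk1 hkm
  obtain ⟨B₀, hB₀⟩ := exists_prime_orderOf_dvd_card' (G := Matrix.SpecialLinearGroup (Fin m) F) r
    (dvd_trans h1 h2)
  apply exists_order p m r hr hrp 1 (B₀ : Matrix (Fin m) (Fin m) F)
  · rw [one_pow, one_mul]; exact B₀.2
  · rw [one_pow, one_smul, ← Matrix.SpecialLinearGroup.coe_pow, ← hB₀, pow_orderOf_eq_one]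
    rfl
  · intro j hj
    rw [one_pow, one_smul, ← Matrix.SpecialLinearGroup.coe_pow] at hj
    have : B₀ ^ j = 1 := Subtype.ext hj
    rw [← hB₀]
    exact orderOf_dvd_of_pow_eq_one this

/-- Case C -/
theorem exists_three {F : Type*} [Field F] (p : ℕ) [Fact p.Prime] [CharP F p]
    (r : ℕ) (hr : r.Prime) (hrp : r ≠ p) (a : F) (ha : orderOf (a ^ 3) = r) :
    ∃ g : Matrix.ProjectiveSpecialLinearGroup (Fin (2 + 1)) F, orderOf g = r * p := by
  have ha0 : a ≠ 0 := by
    rintro rfl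
    rw [zero_pow (by norm_num), orderOf_zero] at ha
    · exact hr.ne_zero ha.symm
  have hinv : ∀ j : ℕ, (a⁻¹ ^ 2) ^ j = a ^ j ↔ (a ^ 3) ^ j = 1 := by
    intro j
    have e1 : (a⁻¹ ^ 2) ^ j = ((a ^ j) ^ 2)⁻¹ := by
      rw [inv_pow, inv_pow, ← pow_mul, ← pow_mul, mul_comm]
    have e2 : (a ^ 3) ^ j = (a ^ j) ^ 3 := by rw [← pow_mul, ← pow_mul, mul_comm]
    rw [e1, e2]
    have hx : a ^ j ≠ 0 := pow_ne_zero _ ha0
    generalize a ^ j = x at hx
    constructor
    · intro h
      have h3 : x ^ 3 = x ^ 2 * x := by ring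
      rw [h3]
      nth_rewrite 2 [← h]
      exact mul_inv_cancel₀ (pow_ne_zero 2 hx)
    · intro h
      apply inv_eq_of_mul_eq_one_right
      rw [← h]; ring
  apply exists_order p 1 r hr hrp a ((a⁻¹ ^ 2) • (1 : Matrix (Fin 1) (Fin 1) F))
  · rw [Matrix.det_smul, Matrix.det_one, Fintype.card_fin, pow_one, mul_one, inv_pow,
      mul_inv_cancel₀ (pow_ne_zero _ ha0)]
  · rw [smul_pow, one_pow, (hinv r).2 (by rw [← ha]; exact pow_orderOf_eq_one _)]
  · intro j hj
    rw [smul_pow, one_pow] at hj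
    have h00 := congrFun (congrFun hj 0) 0
    simp only [Matrix.smul_apply, Matrix.one_apply_eq, smul_eq_mul, mul_one] at h00
    rw [← ha]
    exact orderOf_dvd_of_pow_eq_one ((hinv j).1 h00)

open Matrix

theorem exists_a {F : Type*} [Field F] [Fintype F] (r : ℕ) (hr : r.Prime)
    (hr1 : r ∣ Fintype.card F - 1)
    (hne : ¬ (r = 3 ∧ 3 ∣ Fintype.card F - 1 ∧ ¬ 9 ∣ Fintype.card F - 1)) :
    ∃ a : F, orderOf (a ^ 3) = r := by
  classical
  have : Fact r.Prime := ⟨hr⟩
  have hcard : Nat.card Fˣ = Fintype.card F - 1 := by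
    rw [Nat.card_units, Nat.card_eq_fintype_card]
  by_cases h3 : r = 3
  · subst h3
    have h9 : 9 ∣ Fintype.card F - 1 := by
      by_contra h
      exact hne ⟨rfl, hr1, h⟩
    obtain ⟨g, hg⟩ := IsCyclic.exists_generator (α := Fˣ)
    have hog : orderOf g = Fintype.card F - 1 := by
      rw [orderOf_eq_card_of_forall_mem_zpowers hg, hcard]
    have hq2 : 2 ≤ Fintype.card F := Fintype.one_lt_card
    have hz : orderOf (g ^ (orderOf g / 9)) = 9 :=
      orderOf_pow_orderOf_div (by rw [hog]; omega) (by rw [hog]; exact h9)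
    refine ⟨((g ^ (orderOf g / 9) : Fˣ) : F), ?_⟩
    rw [← Units.val_pow_eq_pow_val, orderOf_units,
      orderOf_pow_of_dvd (by norm_num) (by rw [hz]; norm_num), hz]
  · obtain ⟨ζ, hζ⟩ := exists_prime_orderOf_dvd_card' (G := Fˣ) r (by rw [hcard]; exact hr1)
    refine ⟨(ζ : F), ?_⟩
    rw [← Units.val_pow_eq_pow_val, orderOf_units, Nat.Coprime.orderOf_pow, hζ]
    rw [hζ]
    exact (Nat.coprime_primes hr Nat.prime_three).2 h3

/-- the existence direction -/
theorem exists_dir {F : Type*} [Field F] [Fintype F] (p : ℕ) [Fact p.Prime] [CharP F p] (n : ℕ)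
    (r : ℕ) (hr : r.Prime) (hrp : r ≠ p)
    (hk1 : 1 ≤ orderOf ((Fintype.card F : ℕ) : ZMod r))
    (hkn : orderOf ((Fintype.card F : ℕ) : ZMod r) + 2 ≤ n)
    (hne : ¬ (n = 3 ∧ r = 3 ∧ 3 ∣ Fintype.card F - 1 ∧ ¬ 9 ∣ Fintype.card F - 1)) :
    ∃ g : Matrix.ProjectiveSpecialLinearGroup (Fin n) F, orderOf g = r * p := by
  obtain ⟨m, rfl⟩ : ∃ m, n = 2 + m := ⟨n - 2, by omega⟩
  by_cases hm : 2 ≤ m
  · exact exists_big p m hm r hr hrp hk1 (by omega)
  · have hm1 : m = 1 := by omega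
    subst hm1
    have hk : orderOf ((Fintype.card F : ℕ) : ZMod r) = 1 := by omega
    have hr1 : r ∣ Fintype.card F - 1 := by
      have := (dvd_pow_sub_one_iff (Fintype.card F) r Fintype.card_pos 1).2 (by rw [hk])
      simpa using this
    obtain ⟨a, ha⟩ := exists_a (F := F) r hr hr1 (fun h => hne ⟨rfl, h⟩)
    exact exists_three p r hr hrp a ha

open Matrix

theorem normA {F : Type*} [Field F] [Fintype F] (p : ℕ) [Fact p.Prime] [CharP F p] (n : ℕ)
    (hn : 1 ≤ n) (A B : Matrix (Fin n) (Fin n) F)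
    (hA : ∃ c : F, c ≠ 0 ∧ A ^ p = c • (1 : Matrix (Fin n) (Fin n) F))
    (hA' : ∀ c : F, A ≠ c • (1 : Matrix (Fin n) (Fin n) F))
    (hB0 : B ≠ 0)
    (hAB : ∃ z : F, A * B = z • (B * A)) :
    ∃ N : Matrix (Fin n) (Fin n) F, N ≠ 0 ∧ N ^ p = 0 ∧ N * B = B * N := by
  classical
  have : Nonempty (Fin n) := ⟨⟨0, hn⟩⟩
  obtain ⟨c, hc0, hAc⟩ := hA
  obtain ⟨z, hz⟩ := hAB
  obtain ⟨μ, hμ⟩ := surjective_frobenius F p c⁻¹
  rw [frobenius_def] at hμ
  have hμ0 : μ ≠ 0 := by
    rintro rfl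
    rw [zero_pow (Fact.out : p.Prime).ne_zero] at hμ
    exact inv_ne_zero hc0 hμ.symm
  have hA1 : (μ • A) ^ p = 1 := by
    rw [smul_pow, hAc, hμ, smul_smul, inv_mul_cancel₀ hc0, one_smul]
  have hcomm : (μ • A) * B = z • (B * (μ • A)) := by
    rw [smul_mul_assoc, hz, mul_smul_comm, smul_smul, smul_smul, mul_comm]
  have hpowcomm : ∀ k : ℕ, (μ • A) ^ k * B = z ^ k • (B * (μ • A) ^ k) := by
    intro k
    induction k with
    | zero => simp
    | succ k ih =>
      rw [pow_succ', mul_assoc, ih, mul_smul_comm, ← mul_assoc, hcomm, smul_mul_assoc, smul_smul,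
        mul_assoc, ← pow_succ', ← pow_succ]
  have hz1 : z = 1 := by
    have h := hpowcomm p
    rw [hA1, one_mul, mul_one] at h
    have h2 : (z ^ p - 1) • B = 0 := by
      rw [sub_smul, one_smul, ← h, sub_self]
    rcases smul_eq_zero.1 h2 with h3 | h3
    · have h4 : (z - 1) ^ p = 0 := by
        rw [sub_pow_char, one_pow, h3]
      exact sub_eq_zero.1 (pow_eq_zero_iff (Fact.out : p.Prime).ne_zero |>.1 h4)
    · exact absurd h3 hB0
  rw [hz1, one_smul] at hcomm
  refine ⟨μ • A - 1, ?_, ?_, ?_⟩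
  · intro h
    apply hA' μ⁻¹
    rw [sub_eq_zero] at h
    rw [← h, smul_smul, inv_mul_cancel₀ hμ0, one_smul]
  · rw [sub_pow_char_of_commute p (Commute.one_right _), hA1, one_pow, sub_self]
  · rw [sub_mul, mul_sub, hcomm, one_mul, mul_one]

/-- nilpotent `n × n` matrix has `n`-th power zero -/
theorem nilp_pow_card {F : Type*} [Field F] (n : ℕ) (N : Matrix (Fin n) (Fin n) F) (k : ℕ)
    (hN : N ^ k = 0) : N ^ n = 0 := by
  have h1 : IsNilpotent (Matrix.toLinAlgEquiv' N : Module.End F (Fin n → F)) :=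
    ⟨k, by rw [← map_pow, hN, map_zero]⟩
  have h2 := IsNilpotent.charpoly_eq_X_pow_finrank h1
  have h3 := LinearMap.aeval_self_charpoly (Matrix.toLinAlgEquiv' N : Module.End F (Fin n → F))
  rw [h2, Module.finrank_fin_fun, map_pow, Polynomial.aeval_X, ← map_pow] at h3
  exact (Matrix.toLinAlgEquiv' (R := F) (n := Fin n)).injective (by rw [h3, map_zero])

open Matrix

theorem centralizer_two {F : Type*} [Field F] (N B : Matrix (Fin 2) (Fin 2) F) (hN0 : N ≠ 0)
    (hN2 : N ^ 2 = 0) (hNB : N * B = B * N) :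
    ∃ x y : F, B = x • (1 : Matrix (Fin 2) (Fin 2) F) + y • N := by
  have e00 := congrFun (congrFun hN2 0) 0
  have e11 := congrFun (congrFun hN2 1) 1
  have c00 := congrFun (congrFun hNB 0) 0
  have c01 := congrFun (congrFun hNB 0) 1
  have c10 := congrFun (congrFun hNB 1) 0
  simp only [pow_two, Matrix.mul_apply, Fin.sum_univ_two, Matrix.zero_apply] at e00 e11 c00 c01 c10
  by_cases h01 : N 0 1 = 0
  · by_cases h10 : N 1 0 = 0
    · exfalso
      apply hN0
      rw [h01, h10] at e00 e11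
      have h00 : N 0 0 = 0 := by
        have : N 0 0 * N 0 0 = 0 := by linear_combination e00
        exact mul_self_eq_zero.1 this
      have h11 : N 1 1 = 0 := by
        have : N 1 1 * N 1 1 = 0 := by linear_combination e11
        exact mul_self_eq_zero.1 this
      ext i j
      fin_cases i <;> fin_cases j <;> simp [h00, h01, h10, h11]
    · refine ⟨B 0 0 - B 1 0 / N 1 0 * N 0 0, B 1 0 / N 1 0, ?_⟩
      have hB01 : B 0 1 = 0 := by
        rw [h01] at c00
        have : B 0 1 * N 1 0 = 0 := by linear_combination -c00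
        rcases mul_eq_zero.1 this with h | h
        · exact h
        · exact absurd h h10
      ext i j
      fin_cases i <;> fin_cases j
      · simp
      · simp [h01, hB01]
      · simp; field_simp
      · simp; field_simp; linear_combination -c10
  · refine ⟨B 0 0 - B 0 1 / N 0 1 * N 0 0, B 0 1 / N 0 1, ?_⟩
    ext i j
    fin_cases i <;> fin_cases j
    · simp
    · simp; field_simp
    · simp; field_simp; linear_combination c00
    · simp; field_simp; linear_combination c01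

theorem two_case {F : Type*} [Field F] (N B : Matrix (Fin 2) (Fin 2) F) (hN0 : N ≠ 0) (k : ℕ)
    (hNk : N ^ k = 0) (hNB : N * B = B * N) (r : ℕ) (hr0 : r ≠ 0) (hr : (r : F) ≠ 0) (c : F)
    (hc : c ≠ 0) (hB : B ^ r = c • (1 : Matrix (Fin 2) (Fin 2) F)) :
    ∃ x : F, B = x • (1 : Matrix (Fin 2) (Fin 2) F) := by
  have hN2 : N ^ 2 = 0 := nilp_pow_card 2 N k hNk
  have hNN : N * N = 0 := by rw [← pow_two]; exact hN2
  obtain ⟨x, y, rfl⟩ := centralizer_two N B hN0 hN2 hNB
  obtain ⟨r', rfl⟩ := Nat.exists_eq_succ_of_ne_zero hr0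
  have hpow : ∀ j : ℕ, (x • (1 : Matrix (Fin 2) (Fin 2) F) + y • N) ^ (j + 1) =
      x ^ (j + 1) • (1 : Matrix (Fin 2) (Fin 2) F) + (((j + 1 : ℕ) : F) * x ^ j * y) • N := by
    intro j
    induction j with
    | zero => simp
    | succ j ih =>
      rw [pow_succ, ih]
      simp only [add_mul, mul_add, smul_mul_assoc, mul_smul_comm, one_mul, mul_one, hNN, smul_zero]
      push_cast
      module
  rw [Nat.succ_eq_add_one, hpow] at hB
  have hts : (((r' + 1 : ℕ) : F) * x ^ r' * y) • N = (c - x ^ (r' + 1)) • (1 : Matrix (Fin 2) (Fin 2) F) := by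
    rw [sub_smul, ← hB]
    abel
  have ht : ((r' + 1 : ℕ) : F) * x ^ r' * y = 0 := by
    by_contra ht
    apply hN0
    have hN : N = (((r' + 1 : ℕ) : F) * x ^ r' * y)⁻¹ • ((c - x ^ (r' + 1)) • (1 : Matrix (Fin 2) (Fin 2) F)) := by
      rw [← hts, smul_smul, inv_mul_cancel₀ ht, one_smul]
    rw [smul_smul] at hN
    have h2 := hNN
    rw [hN, smul_mul_smul_comm, one_mul] at h2
    have h3 := congrFun (congrFun h2 0) 0
    simp only [Matrix.smul_apply, Matrix.one_apply_eq, Matrix.zero_apply, smul_eq_mul, mul_one] at h3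
    rw [hN, mul_self_eq_zero.1 h3, zero_smul]
  rw [ht, zero_smul] at hts
  have hs : c - x ^ (r' + 1) = 0 := by
    have h3 := congrFun (congrFun hts 0) 0
    simp only [Matrix.smul_apply, Matrix.one_apply_eq, Matrix.zero_apply, smul_eq_mul, mul_one] at h3
    exact h3.symm
  have hx : x ≠ 0 := by
    rintro rfl
    rw [zero_pow (by omega), sub_zero] at hs
    exact hc hs
  have hy : y = 0 := by
    rcases mul_eq_zero.1 ht with h | h
    · rcases mul_eq_zero.1 h with h' | h'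
      · exact absurd h' hr
      · exact absurd h' (pow_ne_zero _ hx)
    · exact h
  exact ⟨x, by rw [hy, zero_smul, add_zero]⟩

open Matrix Module

/-- an adapted basis puts `B` in upper triangular form with equal corner entries -/
theorem triangular_form {F : Type*} [Field F] (M B : Matrix (Fin 3) (Fin 3) F) (hM0 : M ≠ 0)
    (hM2 : M * M = 0) (hMB : M * B = B * M) :
    ∃ (Ψ : Matrix (Fin 3) (Fin 3) F ≃ₐ[F] Matrix (Fin 3) (Fin 3) F),
      (∀ X, (Ψ X).det = X.det) ∧ (Ψ B) 1 0 = 0 ∧ (Ψ B) 2 0 = 0 ∧ (Ψ B) 2 1 = 0 ∧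
        (Ψ B) 0 0 = (Ψ B) 2 2 := by
  classical
  -- w
  obtain ⟨w, hw⟩ : ∃ w : Fin 3 → F, M *ᵥ w ≠ 0 := by
    by_contra h
    push Not at h
    apply hM0
    apply (Matrix.toLinAlgEquiv' (R := F) (n := Fin 3)).injective
    rw [map_zero]
    apply LinearMap.ext
    intro v
    rw [Matrix.toLinAlgEquiv'_apply, h]
    rfl
  have hMv1 : M *ᵥ (M *ᵥ w) = 0 := by
    rw [Matrix.mulVec_mulVec, hM2, Matrix.zero_mulVec]
  -- kernel dimension
  have hrk : LinearMap.range (Matrix.toLin' M) ≤ LinearMap.ker (Matrix.toLin' M) := by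
    rintro x ⟨y, rfl⟩
    rw [LinearMap.mem_ker, Matrix.toLin'_apply, Matrix.toLin'_apply, Matrix.mulVec_mulVec, hM2,
      Matrix.zero_mulVec]
  have hdim := LinearMap.finrank_range_add_finrank_ker (Matrix.toLin' M)
  rw [Module.finrank_fin_fun] at hdim
  have hmono := Submodule.finrank_mono hrk
  have hker2 : 2 ≤ finrank F (LinearMap.ker (Matrix.toLin' M)) := by omega
  have hv1ker : M *ᵥ w ∈ LinearMap.ker (Matrix.toLin' M) := by
    rw [LinearMap.mem_ker, Matrix.toLin'_apply, hMv1]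
  obtain ⟨v₂, hv₂ker, hv₂⟩ : ∃ v₂ ∈ LinearMap.ker (Matrix.toLin' M), v₂ ∉ Submodule.span F {M *ᵥ w} := by
    rw [← SetLike.not_le_iff_exists]
    intro hle
    have := Submodule.finrank_mono hle
    rw [finrank_span_singleton hw] at this
    omega
  have hMv2 : M *ᵥ v₂ = 0 := by
    have := LinearMap.mem_ker.1 hv₂ker
    rwa [Matrix.toLin'_apply] at this
  -- linear independence
  have li : LinearIndependent F ![M *ᵥ w, v₂, w] := by
    rw [Fintype.linearIndependent_iff]
    intro g hg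
    rw [Fin.sum_univ_three] at hg
    simp only [Matrix.cons_val_zero, Matrix.cons_val_one, Matrix.cons_val_two] at hg
    have h2 : g 2 = 0 := by
      have := congrArg (fun v => M *ᵥ v) hg
      simp only [Matrix.mulVec_add, Matrix.mulVec_smul, hMv1, hMv2, smul_zero, zero_add,
        Matrix.mulVec_zero] at this
      rcases smul_eq_zero.1 this with h | h
      · exact h
      · exact absurd h hw
    rw [h2, zero_smul, add_zero] at hg
    have h1 : g 1 = 0 := by
      by_contra h1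
      apply hv₂
      rw [Submodule.mem_span_singleton]
      refine ⟨-(g 0 / g 1), ?_⟩
      have : g 1 • v₂ = -(g 0 • (M *ᵥ w)) := eq_neg_of_add_eq_zero_right hg
      have h' : v₂ = (g 1)⁻¹ • (g 1 • v₂) := by rw [smul_smul, inv_mul_cancel₀ h1, one_smul]
      rw [h', this, smul_neg, smul_smul, neg_smul]
      congr 2
      field_simp
    rw [h1, zero_smul, add_zero] at hg
    have h0 : g 0 = 0 := by
      rcases smul_eq_zero.1 hg with h | h
      · exact h
      · exact absurd h hw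
    intro i
    fin_cases i
    · exact h0
    · exact h1
    · exact h2
  let b : Basis (Fin 3) F (Fin 3 → F) :=
    basisOfLinearIndependentOfCardEqFinrank li (by rw [Module.finrank_fin_fun, Fintype.card_fin])
  have hb : ⇑b = ![M *ᵥ w, v₂, w] := coe_basisOfLinearIndependentOfCardEqFinrank li _
  have hb0 : b 0 = M *ᵥ w := by rw [hb]; rfl
  have hb1 : b 1 = v₂ := by rw [hb]; rfl
  have hb2 : b 2 = w := by rw [hb]; rfl
  refine ⟨(Matrix.toLinAlgEquiv' (R := F) (n := Fin 3)).trans (LinearMap.toMatrixAlgEquiv b), ?_, ?_⟩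
  · intro X
    change (LinearMap.toMatrix b b (Matrix.toLin' X)).det = X.det
    rw [LinearMap.det_toMatrix, LinearMap.det_toLin']
  have hT : ∀ i j, ((Matrix.toLinAlgEquiv' (R := F) (n := Fin 3)).trans (LinearMap.toMatrixAlgEquiv b)) B i j =
      b.repr (B *ᵥ b j) i := by
    intro i j
    change (LinearMap.toMatrixAlgEquiv b) (Matrix.toLinAlgEquiv' B) i j = _
    rw [LinearMap.toMatrixAlgEquiv_apply, Matrix.toLinAlgEquiv'_apply]
  -- expansion
  have hexp : ∀ v : Fin 3 → F, v = b.repr v 0 • (M *ᵥ w) + b.repr v 1 • v₂ + b.repr v 2 • w := by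
    intro v
    have := b.sum_repr v
    rw [Fin.sum_univ_three, hb0, hb1, hb2] at this
    exact this.symm
  have hMexp : ∀ v : Fin 3 → F, M *ᵥ v = b.repr v 2 • (M *ᵥ w) := by
    intro v
    conv_lhs => rw [hexp v]
    simp only [Matrix.mulVec_add, Matrix.mulVec_smul, hMv1, hMv2, smul_zero, zero_add]
  have hcomm : ∀ v : Fin 3 → F, M *ᵥ (B *ᵥ v) = B *ᵥ (M *ᵥ v) := by
    intro v
    rw [Matrix.mulVec_mulVec, Matrix.mulVec_mulVec, hMB]
  -- B v₁
  have hBv1 : B *ᵥ (M *ᵥ w) = b.repr (B *ᵥ w) 2 • (M *ᵥ w) := by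
    rw [← hcomm, hMexp]
  have hrepr0 : b.repr (B *ᵥ b 0) = b.repr (B *ᵥ w) 2 • Finsupp.single 0 1 := by
    rw [hb0, hBv1, map_smul, ← hb0, b.repr_self]
  have hBv2 : b.repr (B *ᵥ v₂) 2 = 0 := by
    have h1 := hMexp (B *ᵥ v₂)
    rw [hcomm, hMv2, Matrix.mulVec_zero] at h1
    rcases smul_eq_zero.1 h1.symm with h | h
    · exact h
    · exact absurd h hw
  refine ⟨?_, ?_, ?_, ?_⟩
  · rw [hT, hrepr0]; simp
  · rw [hT, hrepr0]; simp
  · rw [hT, hb1]; exact hBv2
  · rw [hT, hT, hrepr0, hb2]; simp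

open Matrix Module

theorem three_case {F : Type*} [Field F] (M B : Matrix (Fin 3) (Fin 3) F) (hM0 : M ≠ 0)
    (hM2 : M * M = 0) (hMB : M * B = B * M) (h3 : (3 : F) ≠ 0) (c : F)
    (hB : B ^ 3 = c • (1 : Matrix (Fin 3) (Fin 3) F)) (hdet : B.det = 1)
    (hBns : ∀ x : F, B ≠ x • (1 : Matrix (Fin 3) (Fin 3) F)) :
    ∃ x : F, x ^ 9 = 1 ∧ x ^ 3 ≠ 1 := by
  obtain ⟨Ψ, hΨdet, h10, h20, h21, h0022⟩ := triangular_form M B hM0 hM2 hMB
  have hT3 : (Ψ B) ^ 3 = c • (1 : Matrix (Fin 3) (Fin 3) F) := by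
    rw [← map_pow, hB, map_smul, map_one]
  have hTdet : (Ψ B).det = 1 := by rw [hΨdet, hdet]
  have hTns : ∀ x : F, Ψ B ≠ x • (1 : Matrix (Fin 3) (Fin 3) F) := by
    intro x h
    apply hBns x
    apply Ψ.injective
    rw [map_smul, map_one]; exact h
  generalize Ψ B = T at *
  have hTeq : T = !![T 0 0, T 0 1, T 0 2; 0, T 1 1, T 1 2; 0, 0, T 0 0] := by
    ext i j
    fin_cases i <;> fin_cases j <;> simp [h10, h20, h21, ← h0022]
  generalize T 0 0 = x at hTeq
  generalize T 0 1 = β at hTeq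
  generalize T 0 2 = γ at hTeq
  generalize T 1 1 = z at hTeq
  generalize T 1 2 = δ at hTeq
  subst hTeq
  have hd : x * z * x = 1 := by
    rw [Matrix.det_fin_three] at hTdet
    simpa using hTdet
  have e00 := congrFun (congrFun hT3 0) 0
  have e11 := congrFun (congrFun hT3 1) 1
  have e01 := congrFun (congrFun hT3 0) 1
  have e12 := congrFun (congrFun hT3 1) 2
  have e02 := congrFun (congrFun hT3 0) 2
  simp [pow_succ, Matrix.mul_apply, Fin.sum_univ_three] at e00 e11 e01 e12 e02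
  have hx0 : x ≠ 0 := by
    rintro rfl
    simp at hd
  by_cases hxz : x = z
  · exfalso
    subst hxz
    have h3x : (3 : F) * x ^ 2 ≠ 0 := mul_ne_zero h3 (pow_ne_zero _ hx0)
    have hβ : β = 0 := by
      have : (3 * x ^ 2) * β = 0 := by linear_combination e01
      rcases mul_eq_zero.1 this with h | h
      · exact absurd h h3x
      · exact h
    have hδ : δ = 0 := by
      have : (3 * x ^ 2) * δ = 0 := by linear_combination e12
      rcases mul_eq_zero.1 this with h | h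
      · exact absurd h h3x
      · exact h
    have hγ : γ = 0 := by
      rw [hβ, hδ] at e02
      have : (3 * x ^ 2) * γ = 0 := by linear_combination e02
      rcases mul_eq_zero.1 this with h | h
      · exact absurd h h3x
      · exact h
    apply hTns x
    rw [hβ, hδ, hγ]
    ext i j
    fin_cases i <;> fin_cases j <;> simp
  · refine ⟨x, ?_, ?_⟩
    · have h1 : x ^ 3 = z ^ 3 := by linear_combination e00 - e11
      linear_combination x ^ 6 * h1 + (x ^ 4 * z ^ 2 + x ^ 2 * z + 1) * hd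
    · intro h
      apply hxz
      linear_combination z * h - x * hd

open Matrix

theorem nine_dvd {F : Type*} [Field F] [Fintype F] (x : F) (h9 : x ^ 9 = 1) (h3 : x ^ 3 ≠ 1) :
    9 ∣ Fintype.card F - 1 := by
  have hx0 : x ≠ 0 := by
    rintro rfl
    simp at h9
  have : Fact (Nat.Prime 3) := ⟨Nat.prime_three⟩
  have ho : orderOf (Units.mk0 x hx0) = 3 ^ (1 + 1) := by
    apply orderOf_eq_prime_pow
    · intro h
      apply h3
      have := congrArg Units.val h
      simpa using this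
    · apply Units.ext
      simpa using h9
  have := orderOf_dvd_natCard (Units.mk0 x hx0)
  rw [ho, Nat.card_units, Nat.card_eq_fintype_card] at this
  exact this

theorem exists_iff {F : Type*} [Field F] [Fintype F] (p : ℕ) [Fact p.Prime] [CharP F p] (n : ℕ)
    (hn : 2 ≤ n) (r : ℕ) (hr : r.Prime) (hrp : r ≠ p) :
    (∃ g : Matrix.ProjectiveSpecialLinearGroup (Fin n) F, orderOf g = r * p) ↔
      (orderOf ((Fintype.card F : ℕ) : ZMod r) + 2 ≤ n ∧
        ¬ (n = 3 ∧ r = 3 ∧ 3 ∣ Fintype.card F - 1 ∧ ¬ 9 ∣ Fintype.card F - 1)) := by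
  classical
  have hpp : p.Prime := Fact.out
  have hq1 : 1 ≤ Fintype.card F := Fintype.card_pos
  have hrq : ¬ r ∣ Fintype.card F := by
    obtain ⟨f, _, hq⟩ := FiniteField.card F p
    rw [hq]
    intro h
    exact hrp ((Nat.prime_dvd_prime_iff_eq hr hpp).1 (hr.dvd_of_dvd_pow h))
  have hk1 := orderOf_pos_of_not_dvd (Fintype.card F) r hr hrq
  have hrF : (r : F) ≠ 0 := by
    intro h
    rw [CharP.cast_eq_zero_iff F p r] at h
    exact hrp ((Nat.prime_dvd_prime_iff_eq hpp hr).1 h).symm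
  constructor
  · rintro ⟨g, hg⟩
    have ha : orderOf (g ^ r) = p := by
      rw [orderOf_pow_of_dvd hr.ne_zero (by rw [hg]; exact dvd_mul_right _ _), hg,
        Nat.mul_div_cancel_left _ hr.pos]
    have hb : orderOf (g ^ p) = r := by
      rw [orderOf_pow_of_dvd hpp.ne_zero (by rw [hg]; exact dvd_mul_left _ _), hg,
        Nat.mul_div_cancel _ hpp.pos]
    have hab : Commute (g ^ r) (g ^ p) := (Commute.refl g).pow_pow r p
    obtain ⟨A, hA⟩ := QuotientGroup.mk_surjective (g ^ r)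
    obtain ⟨B, hB⟩ := QuotientGroup.mk_surjective (g ^ p)
    have ha1 : g ^ r ≠ 1 := by
      intro h
      rw [h, orderOf_one] at ha
      exact hpp.one_lt.ne ha
    have hb1 : g ^ p ≠ 1 := by
      intro h
      rw [h, orderOf_one] at hb
      exact hr.one_lt.ne hb
    have hap : (g ^ r) ^ p = 1 := by
      have := pow_orderOf_eq_one (g ^ r)
      rw [ha] at this
      exact this
    have hbr : (g ^ p) ^ r = 1 := by
      have := pow_orderOf_eq_one (g ^ p)
      rw [hb] at this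
      exact this
    rw [← hA] at ha1 hap hab
    rw [← hB] at hb1 hbr hab
    have hAc := Cfsg.Agent.S2364.pow_central n (by omega) A p hap
    have hAns := Cfsg.Agent.S2364.not_scalar n A ha1
    have hBc := Cfsg.Agent.S2364.pow_central n (by omega) B r hbr
    have hBns := Cfsg.Agent.S2364.not_scalar n B hb1
    have hABc := Cfsg.Agent.S2364.commute_lift n A B hab
    by_cases hr1 : r ∣ Fintype.card F - 1
    · have hk : orderOf ((Fintype.card F : ℕ) : ZMod r) = 1 := by
        have := (dvd_pow_sub_one_iff (Fintype.card F) r hq1 1).1 (by simpa using hr1)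
        exact Nat.dvd_one.1 this
      have hB0 : (B : Matrix (Fin n) (Fin n) F) ≠ 0 := fun h => hBns 0 (by rw [h, zero_smul])
      obtain ⟨N, hN0, hNp, hNB⟩ := normA p n (by omega) (A : Matrix (Fin n) (Fin n) F) (B : Matrix (Fin n) (Fin n) F) hAc hAns hB0 hABc
      obtain ⟨c, hc0, hBc'⟩ := hBc
      rcases (show n = 2 ∨ n = 3 ∨ 4 ≤ n by omega) with rfl | rfl | h4
      · exfalso
        obtain ⟨x, hx⟩ := two_case N (B : Matrix (Fin 2) (Fin 2) F) hN0 p hNp hNB r hr.ne_zero hrF c hc0 hBc'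
        exact hBns x hx
      · refine ⟨by omega, ?_⟩
        rintro ⟨-, rfl, h3, h9⟩
        apply h9
        have h3F : (3 : F) ≠ 0 := by
          have := hrF
          simpa using this
        have hN3 : N ^ 3 = 0 := nilp_pow_card 3 N p hNp
        by_cases hN2 : N ^ 2 = 0
        · obtain ⟨x, hx9, hx3⟩ := three_case N (B : Matrix (Fin 3) (Fin 3) F) hN0 (by rw [← pow_two]; exact hN2) hNB h3F c hBc'
            B.2 hBns
          exact nine_dvd x hx9 hx3
        · have hM2 : N ^ 2 * N ^ 2 = 0 := by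
            rw [← pow_add]
            change N ^ (3 + 1) = 0
            rw [pow_succ, hN3, zero_mul]
          have hMB : N ^ 2 * B = B * N ^ 2 := by
            rw [pow_two, mul_assoc, hNB, ← mul_assoc, hNB, mul_assoc]
          obtain ⟨x, hx9, hx3⟩ := three_case (N ^ 2) (B : Matrix (Fin 3) (Fin 3) F) hN2 hM2 hMB h3F c hBc' B.2 hBns
          exact nine_dvd x hx9 hx3
      · exact ⟨by omega, fun h => by omega⟩
    · obtain ⟨i, hi1, hi2, hi3⟩ := Cfsg.Agent.S2364.mat_core p n (by omega) r hr hrp hr1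
        (A : Matrix (Fin n) (Fin n) F) (B : Matrix (Fin n) (Fin n) F) hAc hAns hBc hBns hABc
      have hki := (dvd_pow_sub_one_iff (Fintype.card F) r hq1 i).1 hi3
      have := Nat.le_of_dvd (by omega) hki
      refine ⟨by omega, ?_⟩
      rintro ⟨-, rfl, h3, -⟩
      exact hr1 h3
  · rintro ⟨hkn, hne⟩
    exact exists_dir p n r hr hrp hk1 hkn hne

/-- Adjacency of an odd prime and the characteristic in the prime graph of PSL(n,q): let F be a finite field of characteristic p with q elements, n ≥ 2 with PSL(n,F) simple, and let r ≠ p be an odd prime dividing the order of PSL(n,F), with k the multiplicative order of q modulo r. Then PSL(n,F) has NO element of order r·p if and only if either k > n − 2, or n = 3, r = 3 and 3 divides q − 1 exactly once. -/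
theorem result {F : Type*} [Field F] [Fintype F] (p : ℕ) [Fact p.Prime] [CharP F p] (n : ℕ) (hn : 2 ≤ n) (hsmall : n = 2 → 4 ≤ Fintype.card F)
    (r : ℕ) (hr : r.Prime) (hr2 : r ≠ 2) (hrp : r ≠ p) (hrG : r ∣ Nat.card (Matrix.ProjectiveSpecialLinearGroup (Fin n) F))
    (k : ℕ) (hk : k = orderOf ((Fintype.card F : ℕ) : ZMod r)) :
    (r * p ∉ Set.range (orderOf : Matrix.ProjectiveSpecialLinearGroup (Fin n) F → ℕ)) ↔
      (n - 2 < k ∨ (n = 3 ∧ r = 3 ∧ 3 ∣ Fintype.card F - 1 ∧ ¬ 9 ∣ Fintype.card F - 1)) := by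
  have _h1 := hsmall
  have _h2 := hr2
  have _h3 := hrG
  subst hk
  have key := exists_iff (F := F) p n hn r hr hrp
  constructor
  · intro h
    by_contra hcon
    have hcon' := not_or.1 hcon
    apply h
    exact Set.mem_range.2 (key.2 ⟨by omega, hcon'.2⟩)
  · rintro h ⟨g, hg⟩
    have := key.1 ⟨g, hg⟩
    rcases h with h | h
    · omega
    · exact this.2 h

end Cfsg.Agent.S2470
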