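import Cfsg.Statements.S2468
import Mathlib
import Cfsg.Agent.S2470

set_option autoImplicit false
open Cfsg

namespace Cfsg.Agent.S2468

open Module

section Core

variable {F V : Type*} [Field F] [Fintype F] [AddCommGroup V] [Module F V] [FiniteDimensional F V]

omit [Fintype F] [FiniteDimensional F V] in
/-- `x` of order dividing `r` (invertible in `F`) has no nonzero fixed vector in `range (x - 1)` -/
theorem range_free (r : ℕ) (hrF : (r : F) ≠ 0) (x : Module.End F V) (hx : x ^ r = 1) :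
    ∀ w ∈ LinearMap.range (x - 1), x w = w → w = 0 := by
  rintro _ ⟨w, rfl⟩ hv1'
  have h1 : (∑ i ∈ Finset.range r, x ^ i) ((x - 1) w) = 0 := by
    rw [← Module.End.mul_apply, geom_sum_mul, hx, sub_self]
    rfl
  have h2 : (∑ i ∈ Finset.range r, x ^ i) ((x - 1) w) = (r : F) • ((x - 1) w) := by
    rw [LinearMap.sum_apply]
    rw [Finset.sum_congr rfl (fun i _ => Cfsg.Agent.S2364.pow_fix x _ hv1' i)]
    rw [Finset.sum_const, Finset.card_range, Nat.cast_smul_eq_nsmul]
  rw [h2] at h1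
  rcases smul_eq_zero.1 h1 with h | h
  · exact absurd h hrF
  · exact h

theorem core (r s : ℕ) (hr : r.Prime) (hs : s.Prime) (hrF : (r : F) ≠ 0) (hsF : (s : F) ≠ 0)
    (x y : Module.End F V) (hx : x ^ r = 1) (hy : y ^ s = 1) (hx1 : x ≠ 1) (hy1 : y ≠ 1)
    (hcomm : Commute x y) :
    ∃ a b : ℕ, 1 ≤ a ∧ 1 ≤ b ∧ r ∣ Fintype.card F ^ a - 1 ∧ s ∣ Fintype.card F ^ b - 1 ∧
      (a + b ≤ finrank F V ∨ (a = b ∧ a ≤ finrank F V)) := by
  have hc1 : Commute (x - 1) y := hcomm.sub_left (Commute.one_left y)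
  have hc2 : Commute (y - 1) x := hcomm.symm.sub_left (Commute.one_left x)
  have hc3 : Commute (x - 1) x := (Commute.refl x).sub_left (Commute.one_left x)
  have hc4 : Commute (y - 1) y := (Commute.refl y).sub_left (Commute.one_left y)
  have hVxx : ∀ w ∈ LinearMap.range (x - 1), x w ∈ LinearMap.range (x - 1) := by
    rintro w ⟨v, rfl⟩
    exact ⟨x v, by rw [← Module.End.mul_apply, ← Module.End.mul_apply, hc3.eq]⟩
  have hVxy : ∀ w ∈ LinearMap.range (x - 1), y w ∈ LinearMap.range (x - 1) := by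
    rintro w ⟨v, rfl⟩
    exact ⟨y v, by rw [← Module.End.mul_apply, ← Module.End.mul_apply, hc1.eq]⟩
  have hVyy : ∀ w ∈ LinearMap.range (y - 1), y w ∈ LinearMap.range (y - 1) := by
    rintro w ⟨v, rfl⟩
    exact ⟨y v, by rw [← Module.End.mul_apply, ← Module.End.mul_apply, hc4.eq]⟩
  have hVyx : ∀ w ∈ LinearMap.range (y - 1), x w ∈ LinearMap.range (y - 1) := by
    rintro w ⟨v, rfl⟩
    exact ⟨x v, by rw [← Module.End.mul_apply, ← Module.End.mul_apply, hc2.eq]⟩
  have hfx := range_free r hrF x hx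
  have hfy := range_free s hsF y hy
  have hVx0 : LinearMap.range (x - 1) ≠ ⊥ := by
    intro h
    rw [LinearMap.range_eq_bot, sub_eq_zero] at h
    exact hx1 h
  have hVy0 : LinearMap.range (y - 1) ≠ ⊥ := by
    intro h
    rw [LinearMap.range_eq_bot, sub_eq_zero] at h
    exact hy1 h
  have hcx := Cfsg.Agent.S2364.count r hr x hx _ hVxx hfx
  have hcy := Cfsg.Agent.S2364.count s hs y hy _ hVyy hfy
  have hdx : 1 ≤ finrank F (LinearMap.range (x - 1)) := Submodule.one_le_finrank_iff.2 hVx0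
  have hdy : 1 ≤ finrank F (LinearMap.range (y - 1)) := Submodule.one_le_finrank_iff.2 hVy0
  by_cases hW : LinearMap.range (x - 1) ⊓ LinearMap.range (y - 1) = ⊥
  · refine ⟨_, _, hdx, hdy, hcx, hcy, Or.inl ?_⟩
    have h1 := Submodule.finrank_sup_add_finrank_inf_eq (LinearMap.range (x - 1)) (LinearMap.range (y - 1))
    rw [hW, finrank_bot] at h1
    have h2 := Submodule.finrank_le (LinearMap.range (x - 1) ⊔ LinearMap.range (y - 1))
    omega
  · have hcx' := Cfsg.Agent.S2364.count r hr x hx (LinearMap.range (x - 1) ⊓ LinearMap.range (y - 1))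
      (fun w hw => ⟨hVxx w hw.1, hVyx w hw.2⟩) (fun w hw => hfx w hw.1)
    have hcy' := Cfsg.Agent.S2364.count s hs y hy (LinearMap.range (x - 1) ⊓ LinearMap.range (y - 1))
      (fun w hw => ⟨hVxy w hw.1, hVyy w hw.2⟩) (fun w hw => hfy w hw.2)
    exact ⟨_, _, Submodule.one_le_finrank_iff.2 hW, Submodule.one_le_finrank_iff.2 hW, hcx', hcy',
      Or.inr ⟨rfl, Submodule.finrank_le _⟩⟩

end Core

open Matrix

/-- an element of a finite field with `z ^ r = 1`, `r` coprime to `q - 1`, is `1` -/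
theorem eq_one_of_pow {F : Type*} [Field F] [Fintype F] (d : ℕ) (hd0 : d ≠ 0)
    (hd : Nat.Coprime d (Fintype.card F - 1)) (z : F) (hz : z ^ d = 1) : z = 1 := by
  have hz0 : z ≠ 0 := by
    rintro rfl
    rw [zero_pow hd0] at hz
    exact zero_ne_one hz
  have h1 := FiniteField.pow_card_sub_one_eq_one z hz0
  have h2 := pow_gcd_eq_one.2 ⟨hz, h1⟩
  rw [Nat.Coprime] at hd
  rw [hd, pow_one] at h2
  exact h2

/-- normalisation of an element whose `r`-th power is scalar, `r` coprime to `q - 1` -/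
theorem exists_scale {F : Type*} [Field F] [Fintype F] (r : ℕ)
    (hcop : Nat.Coprime r (Fintype.card F - 1)) (c : F) (hc : c ≠ 0) :
    ∃ μ : F, μ ≠ 0 ∧ μ ^ r = c⁻¹ := by
  classical
  have hcop' : (Nat.card Fˣ).Coprime r := by
    rw [Nat.card_units, Nat.card_eq_fintype_card]
    exact hcop.symm
  obtain ⟨ν, hν⟩ := (powCoprime hcop').surjective (Units.mk0 c hc)⁻¹
  rw [powCoprime_apply] at hν
  refine ⟨(ν : F), ν.ne_zero, ?_⟩
  have := congrArg Units.val hν
  simpa using this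

theorem mat_core2 {F : Type*} [Field F] [Fintype F] (n : ℕ) (hn : 1 ≤ n) (r s : ℕ) (hr : r.Prime)
    (hs : s.Prime) (hrF : (r : F) ≠ 0) (hsF : (s : F) ≠ 0)
    (hr1 : ¬ r ∣ Fintype.card F - 1) (hs1 : ¬ s ∣ Fintype.card F - 1)
    (X Y : Matrix (Fin n) (Fin n) F)
    (hX : ∃ c : F, c ≠ 0 ∧ X ^ r = c • (1 : Matrix (Fin n) (Fin n) F))
    (hX' : ∀ c : F, X ≠ c • (1 : Matrix (Fin n) (Fin n) F))
    (hY : ∃ c : F, c ≠ 0 ∧ Y ^ s = c • (1 : Matrix (Fin n) (Fin n) F))
    (hY' : ∀ c : F, Y ≠ c • (1 : Matrix (Fin n) (Fin n) F))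
    (hXY : ∃ z : F, X * Y = z • (Y * X)) :
    ∃ a b : ℕ, 1 ≤ a ∧ 1 ≤ b ∧ r ∣ Fintype.card F ^ a - 1 ∧ s ∣ Fintype.card F ^ b - 1 ∧
      (a + b ≤ n ∨ (a = b ∧ a ≤ n)) := by
  classical
  have : Nonempty (Fin n) := ⟨⟨0, hn⟩⟩
  have hcr : Nat.Coprime r (Fintype.card F - 1) := (Nat.Prime.coprime_iff_not_dvd hr).2 hr1
  have hcs : Nat.Coprime s (Fintype.card F - 1) := (Nat.Prime.coprime_iff_not_dvd hs).2 hs1
  obtain ⟨c, hc0, hXc⟩ := hX
  obtain ⟨c', hc'0, hYc⟩ := hY
  obtain ⟨z, hz⟩ := hXY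
  obtain ⟨μ, hμ0, hμ⟩ := exists_scale r hcr c hc0
  obtain ⟨ν, hν0, hν⟩ := exists_scale s hcs c' hc'0
  have hX1 : (μ • X) ^ r = 1 := by
    rw [smul_pow, hXc, hμ, smul_smul, inv_mul_cancel₀ hc0, one_smul]
  have hY1 : (ν • Y) ^ s = 1 := by
    rw [smul_pow, hYc, hν, smul_smul, inv_mul_cancel₀ hc'0, one_smul]
  have hcomm : (μ • X) * (ν • Y) = z • ((ν • Y) * (μ • X)) := by
    rw [smul_mul_smul_comm, smul_mul_smul_comm, hz, smul_smul, smul_smul]
    congr 1
    ring
  have hpowcomm : ∀ k : ℕ, (μ • X) ^ k * (ν • Y) = z ^ k • ((ν • Y) * (μ • X) ^ k) := by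
    intro k
    induction k with
    | zero => simp
    | succ k ih =>
      rw [pow_succ', mul_assoc, ih, mul_smul_comm, ← mul_assoc, hcomm, smul_mul_assoc, smul_smul,
        mul_assoc, ← pow_succ', ← pow_succ]
  have hY0 : ν • Y ≠ 0 := by
    intro h
    rw [h, zero_pow hs.ne_zero] at hY1
    exact zero_ne_one hY1
  have hz1 : z = 1 := by
    have h := hpowcomm r
    rw [hX1, one_mul, mul_one] at h
    have h2 : (z ^ r - 1) • (ν • Y) = 0 := by
      rw [sub_smul, one_smul, ← h, sub_self]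
    rcases smul_eq_zero.1 h2 with h3 | h3
    · exact eq_one_of_pow r hr.ne_zero hcr z (sub_eq_zero.1 h3)
    · exact absurd h3 hY0
  rw [hz1, one_smul] at hcomm
  have hXne : μ • X ≠ 1 := by
    intro h
    apply hX' μ⁻¹
    rw [← h, smul_smul, inv_mul_cancel₀ hμ0, one_smul]
  have hYne : ν • Y ≠ 1 := by
    intro h
    apply hY' ν⁻¹
    rw [← h, smul_smul, inv_mul_cancel₀ hν0, one_smul]
  have key := core (F := F) (V := Fin n → F) r s hr hs hrF hsF
    (Matrix.toLinAlgEquiv' (μ • X)) (Matrix.toLinAlgEquiv' (ν • Y))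
    (by rw [← map_pow, hX1, map_one]) (by rw [← map_pow, hY1, map_one])
    (by
      intro h
      apply hXne
      apply (Matrix.toLinAlgEquiv' (R := F) (n := Fin n)).injective
      rw [h, map_one])
    (by
      intro h
      apply hYne
      apply (Matrix.toLinAlgEquiv' (R := F) (n := Fin n)).injective
      rw [h, map_one])
    (by
      change _ * _ = _ * _
      rw [← map_mul, ← map_mul, hcomm])
  rw [Module.finrank_fin_fun] at key
  exact key

open Matrix

section Blocks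

variable {F : Type*} [Field F] {ι κ : Type*} [Fintype ι] [Fintype κ] [DecidableEq ι] [DecidableEq κ]

theorem fromBlocks_pow' (A : Matrix ι ι F) (D : Matrix κ κ F) (j : ℕ) :
    (Matrix.fromBlocks A 0 0 D) ^ j = Matrix.fromBlocks (A ^ j) 0 0 (D ^ j) := by
  induction j with
  | zero => simp [Matrix.fromBlocks_one]
  | succ j ih =>
    rw [pow_succ, ih, Matrix.fromBlocks_multiply]
    simp [pow_succ]

omit [Fintype ι] [Fintype κ] in
theorem fromBlocks_eq_smul_one (A : Matrix ι ι F) (D : Matrix κ κ F) (c : F) :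
    Matrix.fromBlocks A 0 0 D = c • (1 : Matrix (ι ⊕ κ) (ι ⊕ κ) F) ↔ A = c • 1 ∧ D = c • 1 := by
  rw [← Matrix.fromBlocks_one, Matrix.fromBlocks_smul, Matrix.fromBlocks_inj]
  simp

omit [Fintype ι] [Fintype κ] in
theorem fromBlocks_eq_one (A : Matrix ι ι F) (D : Matrix κ κ F) :
    Matrix.fromBlocks A 0 0 D = (1 : Matrix (ι ⊕ κ) (ι ⊕ κ) F) ↔ A = 1 ∧ D = 1 := by
  rw [← Matrix.fromBlocks_one, Matrix.fromBlocks_inj]
  simp

end Blocks

/-- (Q) -/
theorem proj_order {F : Type*} [Field F] [Fintype F] {ι : Type*} [Fintype ι] [DecidableEq ι]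
    [Nonempty ι] (B : Matrix ι ι F) (d : ℕ) (hd0 : d ≠ 0)
    (hd : Nat.Coprime d (Fintype.card F - 1)) (hB : ∀ j : ℕ, B ^ j = 1 ↔ d ∣ j) (j : ℕ) (c : F)
    (h : B ^ j = c • (1 : Matrix ι ι F)) : d ∣ j := by
  have h1 : (B ^ j) ^ d = 1 := by
    rw [← pow_mul, mul_comm, pow_mul, (hB d).2 dvd_rfl, one_pow]
  rw [h, smul_pow, one_pow] at h1
  obtain ⟨i⟩ := ‹Nonempty ι›
  have h2 := congrFun (congrFun h1 i) i
  simp only [Matrix.smul_apply, Matrix.one_apply_eq, smul_eq_mul, mul_one] at h2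
  have hc : c = 1 := eq_one_of_pow d hd0 hd c h2
  rw [hc, one_smul] at h
  exact (hB j).1 h

/-- (e) -/
theorem det_eq_one_of_pow {F : Type*} [Field F] [Fintype F] {ι : Type*} [Fintype ι] [DecidableEq ι]
    (B : Matrix ι ι F) (d : ℕ) (hd0 : d ≠ 0)
    (hd : Nat.Coprime d (Fintype.card F - 1)) (hB : B ^ d = 1) : B.det = 1 := by
  apply eq_one_of_pow d hd0 hd
  rw [← Matrix.det_pow, hB, Matrix.det_one]

/-- (E'') -/
theorem exists_of_matrix {F : Type*} [Field F] {ι : Type*} [Fintype ι] [DecidableEq ι] (n : ℕ)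
    (hn : 1 ≤ n) (hcard : Fintype.card ι = n) (B₀ : Matrix ι ι F) (D : ℕ) (hdet : B₀.det = 1)
    (hD : B₀ ^ D = 1) (hproj : ∀ (j : ℕ) (c : F), B₀ ^ j = c • (1 : Matrix ι ι F) → D ∣ j) :
    ∃ g : Matrix.ProjectiveSpecialLinearGroup (Fin n) F, orderOf g = D := by
  classical
  let e : ι ≃ Fin n := Fintype.equivFinOfCardEq hcard
  let g₀ : Matrix.SpecialLinearGroup (Fin n) F :=
    ⟨Matrix.reindexAlgEquiv F F e B₀, by rw [Matrix.det_reindexAlgEquiv, hdet]⟩
  have hg₀ : ∀ j : ℕ, ((g₀ ^ j : Matrix.SpecialLinearGroup (Fin n) F) :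
      Matrix (Fin n) (Fin n) F) = Matrix.reindexAlgEquiv F F e (B₀ ^ j) := by
    intro j
    rw [Matrix.SpecialLinearGroup.coe_pow, map_pow]
  refine ⟨(QuotientGroup.mk g₀ : Matrix.ProjectiveSpecialLinearGroup (Fin n) F), ?_⟩
  apply Nat.dvd_antisymm
  · apply orderOf_dvd_of_pow_eq_one
    rw [← QuotientGroup.mk_pow]
    have : g₀ ^ D = 1 := by
      apply Subtype.ext
      rw [hg₀, hD, map_one]
      rfl
    rw [this]
    rfl
  · have hj := pow_orderOf_eq_one (QuotientGroup.mk g₀ : Matrix.ProjectiveSpecialLinearGroup (Fin n) F)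
    obtain ⟨c, _, hc⟩ := Cfsg.Agent.S2364.pow_central n hn g₀ _ hj
    rw [← Matrix.SpecialLinearGroup.coe_pow, hg₀] at hc
    apply hproj _ c
    apply (Matrix.reindexAlgEquiv F F e).injective
    rw [hc, map_smul, map_one]

/-- (U) -/
theorem exists_of_small {F : Type*} [Field F] [Fintype F] {κ : Type*} [Fintype κ] [DecidableEq κ]
    [Nonempty κ] (n : ℕ) (hκ : Fintype.card κ ≤ n) (B' : Matrix κ κ F) (D : ℕ) (hD0 : D ≠ 0)
    (hD : Nat.Coprime D (Fintype.card F - 1)) (hB : ∀ j : ℕ, B' ^ j = 1 ↔ D ∣ j) :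
    ∃ g : Matrix.ProjectiveSpecialLinearGroup (Fin n) F, orderOf g = D := by
  classical
  have hpos : 0 < Fintype.card κ := Fintype.card_pos
  apply exists_of_matrix (ι := κ ⊕ Fin (n - Fintype.card κ)) n (by omega)
    (by rw [Fintype.card_sum, Fintype.card_fin]; omega)
    (Matrix.fromBlocks B' 0 0 1) D
  · rw [Matrix.det_fromBlocks_zero₂₁, Matrix.det_one, mul_one]
    exact det_eq_one_of_pow B' D hD0 hD ((hB D).2 dvd_rfl)
  · rw [fromBlocks_pow', (hB D).2 dvd_rfl, one_pow, Matrix.fromBlocks_one]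
  · intro j c h
    rw [fromBlocks_pow', fromBlocks_eq_smul_one] at h
    exact proj_order B' D hD0 hD hB j c h.1

open Matrix

theorem singer {F : Type*} [Field F] [Fintype F] (l : ℕ) (hl : 1 ≤ l) (d : ℕ)
    (hd : d ∣ Fintype.card F ^ l - 1) :
    ∃ B : Matrix (Fin l) (Fin l) F, ∀ j : ℕ, B ^ j = 1 ↔ d ∣ j := by
  classical
  obtain ⟨p, hp⟩ := CharP.exists F
  have : Fact p.Prime := ⟨CharP.char_is_prime F p⟩
  have : NeZero l := ⟨by omega⟩
  let K := FiniteField.Extension F p l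
  have hfr : Module.finrank F K = l := FiniteField.finrank_extension F p l
  have hcardK : Nat.card K = Fintype.card F ^ l := by
    rw [FiniteField.natCard_extension, Nat.card_eq_fintype_card]
  have hq : 1 < Fintype.card F := Fintype.one_lt_card
  have hql : 2 ≤ Fintype.card F ^ l :=
    le_trans hq (Nat.le_self_pow (by omega) _)
  obtain ⟨ζ, hζ⟩ := IsCyclic.exists_generator (α := Kˣ)
  have hordζ : orderOf ζ = Fintype.card F ^ l - 1 := by
    rw [orderOf_eq_card_of_forall_mem_zpowers hζ, Nat.card_units, hcardK]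
  have hz : orderOf (ζ ^ (orderOf ζ / d)) = d :=
    orderOf_pow_orderOf_div (by rw [hordζ]; omega) (by rw [hordζ]; exact hd)
  let b : Module.Basis (Fin l) F K := Module.finBasisOfFinrankEq F K hfr
  generalize ζ ^ (orderOf ζ / d) = z at hz
  refine ⟨Algebra.leftMulMatrix b (z : K), ?_⟩
  intro j
  rw [← map_pow]
  constructor
  · intro h
    have h1 : (z : K) ^ j = 1 := by
      apply Algebra.leftMulMatrix_injective b
      rw [h, map_one]
    rw [← hz, orderOf_dvd_iff_pow_eq_one]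
    apply Units.ext
    rw [Units.val_pow_eq_pow_val, h1]
    rfl
  · intro h
    rw [← hz, orderOf_dvd_iff_pow_eq_one] at h
    have h1 : (z : K) ^ j = 1 := by
      rw [← Units.val_pow_eq_pow_val, h]
      rfl
    rw [h1, map_one]

/-- `s ∣ |PSL_n(q)|`, `s ∤ q` gives `ord_s(q) ≤ n` -/
theorem order_le {F : Type*} [Field F] [Fintype F] (n : ℕ) (hn : 1 ≤ n) (s : ℕ) (hs : s.Prime)
    (hsq : ¬ s ∣ Fintype.card F)
    (hsG : s ∣ Nat.card (Matrix.ProjectiveSpecialLinearGroup (Fin n) F)) :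
    orderOf ((Fintype.card F : ℕ) : ZMod s) ≤ n := by
  have h1 : Nat.card (Matrix.ProjectiveSpecialLinearGroup (Fin n) F) ∣
      Nat.card (Matrix.SpecialLinearGroup (Fin n) F) :=
    Subgroup.card_quotient_dvd_card _
  have h2 := Cfsg.Agent.S0242.result (F := F) rfl n hn
  have h3 : s ∣ ∏ i : Fin n, (Fintype.card F ^ n - Fintype.card F ^ (i : ℕ)) := by
    rw [← h2]
    exact dvd_mul_of_dvd_right (dvd_trans hsG h1) _
  obtain ⟨i, -, hi⟩ := (Prime.dvd_finsetProd_iff hs.prime _).1 h3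
  have hq1 : 1 ≤ Fintype.card F := Fintype.card_pos
  have e : Fintype.card F ^ n - Fintype.card F ^ (i : ℕ) =
      Fintype.card F ^ (i : ℕ) * (Fintype.card F ^ (n - i) - 1) := by
    rw [Nat.mul_sub, mul_one, ← pow_add]
    congr 2
    have := i.2
    omega
  rw [e] at hi
  rcases (Nat.Prime.dvd_mul hs).1 hi with h | h
  · exact absurd (hs.dvd_of_dvd_pow h) hsq
  · have h4 := (Cfsg.Agent.S2470.dvd_pow_sub_one_iff (Fintype.card F) s hq1 _).1 h
    have h5 : 0 < n - (i : ℕ) := by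
      have := i.2
      omega
    exact le_trans (Nat.le_of_dvd h5 h4) (Nat.sub_le _ _)

open Matrix

theorem exists_iff {F : Type*} [Field F] [Fintype F] (p : ℕ) [Fact p.Prime] [CharP F p] (n : ℕ)
    (hn : 2 ≤ n) (r s : ℕ) (hr : r.Prime) (hs : s.Prime) (hrp : r ≠ p) (hsp : s ≠ p) (hrs : r ≠ s)
    (hsG : s ∣ Nat.card (Matrix.ProjectiveSpecialLinearGroup (Fin n) F))
    (h2k : 2 ≤ orderOf ((Fintype.card F : ℕ) : ZMod r))
    (hkl : orderOf ((Fintype.card F : ℕ) : ZMod r) ≤ orderOf ((Fintype.card F : ℕ) : ZMod s)) :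
    (∃ g : Matrix.ProjectiveSpecialLinearGroup (Fin n) F, orderOf g = r * s) ↔
      (orderOf ((Fintype.card F : ℕ) : ZMod r) + orderOf ((Fintype.card F : ℕ) : ZMod s) ≤ n ∨
        orderOf ((Fintype.card F : ℕ) : ZMod r) ∣ orderOf ((Fintype.card F : ℕ) : ZMod s)) := by
  classical
  have hpp : p.Prime := Fact.out
  have hq1 : 1 ≤ Fintype.card F := Fintype.card_pos
  have hnotdvd : ∀ t : ℕ, t.Prime → t ≠ p → ¬ t ∣ Fintype.card F := by
    intro t ht htp
    obtain ⟨f, _, hq⟩ := FiniteField.card F p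
    rw [hq]
    intro h
    exact htp ((Nat.prime_dvd_prime_iff_eq ht hpp).1 (ht.dvd_of_dvd_pow h))
  have hcast : ∀ t : ℕ, t.Prime → t ≠ p → ((t : ℕ) : F) ≠ 0 := by
    intro t ht htp h
    rw [CharP.cast_eq_zero_iff F p t] at h
    exact htp ((Nat.prime_dvd_prime_iff_eq hpp ht).1 h).symm
  have hiff := fun t i => Cfsg.Agent.S2470.dvd_pow_sub_one_iff (Fintype.card F) t hq1 i
  set k := orderOf ((Fintype.card F : ℕ) : ZMod r) with hk
  set l := orderOf ((Fintype.card F : ℕ) : ZMod s) with hl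
  have hr1 : ¬ r ∣ Fintype.card F - 1 := by
    intro h
    have := (hiff r 1).1 (by simpa using h)
    have := Nat.le_of_dvd (by norm_num) this
    omega
  have hs1 : ¬ s ∣ Fintype.card F - 1 := by
    intro h
    have := (hiff s 1).1 (by simpa using h)
    have := Nat.le_of_dvd (by norm_num) this
    omega
  have hcr : Nat.Coprime r (Fintype.card F - 1) := (Nat.Prime.coprime_iff_not_dvd hr).2 hr1
  have hcs : Nat.Coprime s (Fintype.card F - 1) := (Nat.Prime.coprime_iff_not_dvd hs).2 hs1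
  have hcrs : Nat.Coprime (r * s) (Fintype.card F - 1) := Nat.Coprime.mul_left hcr hcs
  have hrs0 : r * s ≠ 0 := mul_ne_zero hr.ne_zero hs.ne_zero
  have hcop : Nat.Coprime r s := (Nat.coprime_primes hr hs).2 hrs
  constructor
  · rintro ⟨g, hg⟩
    have hx : orderOf (g ^ s) = r := by
      rw [orderOf_pow_of_dvd hs.ne_zero (by rw [hg]; exact dvd_mul_left _ _), hg,
        Nat.mul_div_cancel _ hs.pos]
    have hy : orderOf (g ^ r) = s := by
      rw [orderOf_pow_of_dvd hr.ne_zero (by rw [hg]; exact dvd_mul_right _ _), hg,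
        Nat.mul_div_cancel_left _ hr.pos]
    have hxy : Commute (g ^ s) (g ^ r) := (Commute.refl g).pow_pow s r
    obtain ⟨X, hX⟩ := QuotientGroup.mk_surjective (g ^ s)
    obtain ⟨Y, hY⟩ := QuotientGroup.mk_surjective (g ^ r)
    have hx1 : g ^ s ≠ 1 := by
      intro h
      rw [h, orderOf_one] at hx
      exact hr.one_lt.ne hx
    have hy1 : g ^ r ≠ 1 := by
      intro h
      rw [h, orderOf_one] at hy
      exact hs.one_lt.ne hy
    have hxr : (g ^ s) ^ r = 1 := by
      have := pow_orderOf_eq_one (g ^ s)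
      rw [hx] at this
      exact this
    have hys : (g ^ r) ^ s = 1 := by
      have := pow_orderOf_eq_one (g ^ r)
      rw [hy] at this
      exact this
    rw [← hX] at hx1 hxr hxy
    rw [← hY] at hy1 hys hxy
    obtain ⟨a, b, ha1, hb1, hra, hsb, hab⟩ := mat_core2 n (by omega) r s hr hs (hcast r hr hrp)
      (hcast s hs hsp) hr1 hs1 (X : Matrix (Fin n) (Fin n) F) (Y : Matrix (Fin n) (Fin n) F)
      (Cfsg.Agent.S2364.pow_central n (by omega) X r hxr) (Cfsg.Agent.S2364.not_scalar n X hx1)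
      (Cfsg.Agent.S2364.pow_central n (by omega) Y s hys) (Cfsg.Agent.S2364.not_scalar n Y hy1)
      (Cfsg.Agent.S2364.commute_lift n X Y hxy)
    have hka : k ∣ a := (hiff r a).1 hra
    have hlb : l ∣ b := (hiff s b).1 hsb
    rcases hab with hab | ⟨rfl, han⟩
    · left
      have := Nat.le_of_dvd (by omega) hka
      have := Nat.le_of_dvd (by omega) hlb
      omega
    · by_cases hdvd : k ∣ l
      · exact Or.inr hdvd
      · left
        have hlcm : Nat.lcm k l ∣ a := Nat.lcm_dvd hka hlb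
        have hle := Nat.le_of_dvd (by omega) hlcm
        obtain ⟨t, ht⟩ := Nat.dvd_lcm_right k l
        have ht2 : 2 ≤ t := by
          rcases (show t = 0 ∨ t = 1 ∨ 2 ≤ t by omega) with h | h | h
          · exfalso
            rw [h, mul_zero] at ht
            have := Nat.lcm_pos (show 0 < k by omega) (show 0 < l by omega)
            omega
          · exfalso
            rw [h, mul_one] at ht
            apply hdvd
            have := Nat.dvd_lcm_left k l
            rwa [ht] at this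
          · exact h
        have : 2 * l ≤ Nat.lcm k l := by
          rw [ht]
          calc 2 * l = l * 2 := by ring
            _ ≤ l * t := Nat.mul_le_mul_left _ ht2
        omega
  · rintro (h | h)
    · obtain ⟨Br, hBr⟩ := singer (F := F) k (by omega) r ((hiff r k).2 dvd_rfl)
      obtain ⟨Bs, hBs⟩ := singer (F := F) l (by omega) s ((hiff s l).2 dvd_rfl)
      have : Nonempty (Fin k ⊕ Fin l) := ⟨Sum.inl ⟨0, by omega⟩⟩
      apply exists_of_small (κ := Fin k ⊕ Fin l) n
        (by rw [Fintype.card_sum, Fintype.card_fin, Fintype.card_fin]; exact h)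
        (Matrix.fromBlocks Br 0 0 Bs) (r * s) hrs0 hcrs
      intro j
      rw [fromBlocks_pow', fromBlocks_eq_one, hBr, hBs]
      constructor
      · rintro ⟨h1, h2⟩
        exact Nat.Coprime.mul_dvd_of_dvd_of_dvd hcop h1 h2
      · intro h
        exact ⟨dvd_trans (dvd_mul_right _ _) h, dvd_trans (dvd_mul_left _ _) h⟩
    · have hln : l ≤ n := order_le n (by omega) s hs (hnotdvd s hs hsp) hsG
      have hd : r * s ∣ Fintype.card F ^ l - 1 :=
        Nat.Coprime.mul_dvd_of_dvd_of_dvd hcop ((hiff r l).2 h) ((hiff s l).2 dvd_rfl)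
      obtain ⟨B, hB⟩ := singer (F := F) l (by omega) (r * s) hd
      have : Nonempty (Fin l) := ⟨⟨0, by omega⟩⟩
      exact exists_of_small (κ := Fin l) n (by rw [Fintype.card_fin]; exact hln) B (r * s) hrs0 hcrs hB

/-- Adjacency of two odd primes in the prime graph of PSL(n,q): let F be a finite field of characteristic p with q elements, n ≥ 2 with PSL(n,F) simple, and let r ≠ s be odd primes different from p dividing the order of PSL(n,F). Let k and l be the multiplicative orders of q modulo r and modulo s, and suppose 2 ≤ k ≤ l. Then PSL(n,F) has NO element of order r·s if and only if k + l > n and k does not divide l. -/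
theorem result {F : Type*} [Field F] [Fintype F] (p : ℕ) [Fact p.Prime] [CharP F p] (n : ℕ) (hn : 2 ≤ n) (hsmall : n = 2 → 4 ≤ Fintype.card F)
    (r s : ℕ) (hr : r.Prime) (hs : s.Prime) (hr2 : r ≠ 2) (hs2 : s ≠ 2) (hrp : r ≠ p) (hsp : s ≠ p) (hrs : r ≠ s)
    (hrG : r ∣ Nat.card (Matrix.ProjectiveSpecialLinearGroup (Fin n) F)) (hsG : s ∣ Nat.card (Matrix.ProjectiveSpecialLinearGroup (Fin n) F))
    (k l : ℕ) (hk : k = orderOf ((Fintype.card F : ℕ) : ZMod r)) (hl : l = orderOf ((Fintype.card F : ℕ) : ZMod s))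
    (h2k : 2 ≤ k) (hkl : k ≤ l) :
    (r * s ∉ Set.range (orderOf : Matrix.ProjectiveSpecialLinearGroup (Fin n) F → ℕ)) ↔ (n < k + l ∧ ¬ k ∣ l) := by
  have _h1 := hsmall
  have _h2 := hr2
  have _h3 := hs2
  have _h4 := hrG
  subst hk hl
  have key := exists_iff (F := F) p n hn r s hr hs hrp hsp hrs hsG h2k hkl
  rw [Set.mem_range, key]
  constructor
  · intro h
    have h' := not_or.1 h
    exact ⟨by omega, h'.2⟩
  · rintro ⟨h1, h2⟩ (h | h)
    · omega
    · exact h2 h

end Cfsg.Agent.S2468
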