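import Cfsg.Statements.S2495
import Mathlib
import Cfsg.Agent.S2364
import Cfsg.Agent.H9.SingerConjA
import Cfsg.Agent.H9.SingerConjB
import Cfsg.Agent.H9.SingerConjC

set_option autoImplicit false
open Cfsg

namespace Cfsg.Agent.S2495

/-- geometric sum modulo a divisor of `q - 1` -/
theorem dvd_geom_iff (q m d : ℕ) (h : d ∣ q - 1) (hq : 1 ≤ q) :
    d ∣ ∑ i ∈ Finset.range m, q ^ i ↔ d ∣ m := by
  have hq1 : (q : ZMod d) = 1 := by
    have h1 : ((q - 1 : ℕ) : ZMod d) = 0 := (ZMod.natCast_eq_zero_iff _ _).2 h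
    have h2 : q = (q - 1) + 1 := by omega
    rw [h2, Nat.cast_add, h1, zero_add, Nat.cast_one]
  rw [← ZMod.natCast_eq_zero_iff, ← ZMod.natCast_eq_zero_iff]
  rw [Nat.cast_sum]
  simp [hq1]

theorem two_adic (q m : ℕ) (hq : Odd q) (hq3 : 3 ≤ q) (hm : 1 ≤ m) :
    2 ^ (padicValNat 2 (q - 1)) ∣ ∑ i ∈ Finset.range m, q ^ i ↔
      padicValNat 2 (q - 1) < padicValNat 2 (2 * m) := by
  have hm0 : m ≠ 0 := by omega
  have hv2m : padicValNat 2 (2 * m) = 1 + padicValNat 2 m := by
    rw [padicValNat.mul (by norm_num) hm0]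
    simp
  have hq10 : q - 1 ≠ 0 := by omega
  have hdvd : 2 ^ (padicValNat 2 (q - 1)) ∣ q - 1 := pow_padicValNat_dvd
  have h2q1 : 2 ∣ q - 1 := by
    obtain ⟨k, hk⟩ := hq
    exact ⟨k, by omega⟩
  have ha1 : 1 ≤ padicValNat 2 (q - 1) := one_le_padicValNat_of_dvd hq10 h2q1
  rw [hv2m]
  constructor
  · intro hM
    set M := ∑ i ∈ Finset.range m, q ^ i with hMdef
    have hMq : M * (q - 1) + 1 = q ^ m := by
      have := geom_sum_mul_add (q - 1) m
      rw [Nat.sub_add_cancel (by omega : 1 ≤ q)] at this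
      exact this
    have hM0 : M ≠ 0 := by
      intro h0
      rw [h0, zero_mul] at hMq
      have : 3 ^ m ≤ q ^ m := Nat.pow_le_pow_left hq3 m
      have : 3 ^ 1 ≤ 3 ^ m := Nat.pow_le_pow_right (by norm_num) hm
      omega
    have h2M : 2 ∣ M := dvd_trans (dvd_pow_self 2 (by omega)) hM
    have h2m : 2 ∣ m := (dvd_geom_iff q m 2 h2q1 (by omega)).1 h2M
    have hlte := padicValNat.pow_two_sub_pow (x := q) (y := 1) (by omega) h2q1
      (by rw [← even_iff_two_dvd, Nat.not_even_iff_odd]; exact hq) hm0 (even_iff_two_dvd.2 h2m)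
    rw [one_pow] at hlte
    have hqm : q ^ m - 1 = M * (q - 1) := by omega
    rw [hqm, padicValNat.mul hM0 hq10] at hlte
    have haM : padicValNat 2 (q - 1) ≤ padicValNat 2 M := (padicValNat_dvd_iff_le hM0).1 hM
    have hvm : 1 ≤ padicValNat 2 m := one_le_padicValNat_of_dvd hm0 h2m
    by_cases ha2 : 2 ≤ padicValNat 2 (q - 1)
    · have h4 : 4 ∣ q - 1 := dvd_trans (pow_dvd_pow 2 ha2) hdvd
      have hq1 : padicValNat 2 (q + 1) = 1 := by
        obtain ⟨k, hk⟩ := h4
        have e : q + 1 = 2 * (2 * k + 1) := by omega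
        rw [e, padicValNat.mul (by norm_num) (by omega)]
        have : padicValNat 2 (2 * k + 1) = 0 :=
          padicValNat.eq_zero_of_not_dvd (by omega)
        rw [this]
        simp
      omega
    · omega
  · intro h
    have h1 : padicValNat 2 (q - 1) ≤ padicValNat 2 m := by omega
    have h2 : 2 ^ padicValNat 2 (q - 1) ∣ m :=
      dvd_trans (pow_dvd_pow 2 h1) pow_padicValNat_dvd
    exact (dvd_geom_iff q m _ hdvd (by omega)).2 h2

open Polynomial in
/-- elements with `x^(q-1) = 1` lie in the base field -/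
theorem mem_base {F K : Type*} [Field F] [Fintype F] [Field K] [Algebra F K] (x : K)
    (hx : x ^ (Fintype.card F - 1) = 1) : ∃ c : F, algebraMap F K c = x := by
  classical
  have hq : 1 < Fintype.card F := Fintype.one_lt_card
  set n := Fintype.card F - 1 with hn
  have hn0 : 0 < n := by omega
  set T : Finset K := Finset.univ.image (fun c : Fˣ => algebraMap F K (c : F)) with hT
  have h1 : T ⊆ (nthRoots n (1 : K)).toFinset := by
    intro y hy
    rw [hT, Finset.mem_image] at hy
    obtain ⟨c, -, rfl⟩ := hy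
    rw [Multiset.mem_toFinset, mem_nthRoots hn0, ← map_pow, hn,
      FiniteField.pow_card_sub_one_eq_one (c : F) c.ne_zero, map_one]
  have h2 : T.card = n := by
    rw [hT, Finset.card_image_of_injective]
    · rw [Finset.card_univ, Fintype.card_units]
    · intro a b hab
      exact Units.ext ((algebraMap F K).injective hab)
  have h3 : (nthRoots n (1 : K)).toFinset.card ≤ n :=
    (Multiset.toFinset_card_le _).trans (card_nthRoots n 1)
  have h4 : T = (nthRoots n (1 : K)).toFinset := Finset.eq_of_subset_of_card_le h1 (by omega)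
  have h5 : x ∈ T := by
    rw [h4, Multiset.mem_toFinset, mem_nthRoots hn0]
    exact hx
  rw [hT, Finset.mem_image] at h5
  obtain ⟨c, -, hc⟩ := h5
  exact ⟨c, hc⟩

theorem proj_pow {F K : Type*} [Field F] [Fintype F] [Field K] [Algebra F K] (n : ℕ) (hn : 1 ≤ n)
    (ψ : K →ₐ[F] Matrix (Fin n) (Fin n) F) (z : K) (_hz : z ≠ 0)
    (g : Matrix.SpecialLinearGroup (Fin n) F) (hg : g.1 = ψ z) (k : ℕ) :
    (QuotientGroup.mk g : Matrix.ProjectiveSpecialLinearGroup (Fin n) F) ^ k = 1 ↔
      z ^ (k * (Fintype.card F - 1)) = 1 := by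
  have : NeZero n := ⟨by omega⟩
  have hinj : Function.Injective ψ := ψ.toRingHom.injective
  have hsc : ∀ c : F, ψ (algebraMap F K c) = c • (1 : Matrix (Fin n) (Fin n) F) := by
    intro c
    rw [AlgHom.commutes, Algebra.algebraMap_eq_smul_one]
  constructor
  · intro h
    obtain ⟨c, hc0, hc⟩ := Cfsg.Agent.S2364.pow_central n hn g k h
    change g.1 ^ k = _ at hc
    rw [hg, ← map_pow, ← hsc] at hc
    have h1 := hinj hc
    rw [pow_mul, h1, ← map_pow, FiniteField.pow_card_sub_one_eq_one c hc0, map_one]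
  · intro h
    rw [pow_mul] at h
    obtain ⟨c, hc⟩ := mem_base (F := F) (z ^ k) h
    have h1 : (g ^ k).1 = c • (1 : Matrix (Fin n) (Fin n) F) := by
      rw [Matrix.SpecialLinearGroup.coe_pow, hg, ← map_pow, ← hc, hsc]
    by_contra hne
    rw [← QuotientGroup.mk_pow] at hne
    exact Cfsg.Agent.S2364.not_scalar n (g ^ k) hne c h1

/-- arithmetic of the factorisation `q^(2m) - 1 = (q-1) M (q^m+1)` -/
theorem factor (q m : ℕ) (hq : 1 ≤ q) :
    q ^ (2 * m) - 1 = (q - 1) * ((∑ i ∈ Finset.range m, q ^ i) * (q ^ m + 1)) := by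
  have h := geom_sum_mul_add (q - 1) m
  rw [Nat.sub_add_cancel hq] at h
  have h1 : q ^ (2 * m) = (q ^ m) ^ 2 := by rw [← pow_mul, mul_comm]
  rw [h1, ← h]
  set M := ∑ i ∈ Finset.range m, q ^ i
  have : (M * (q - 1) + 1) ^ 2 = (q - 1) * (M * (M * (q - 1) + 1 + 1)) + 1 := by ring
  rw [this]
  simp

theorem coprime_aux (q m t : ℕ) (hq : 1 ≤ q) (ht : t ∣ q - 1) (hodd : ¬ 2 ∣ t) :
    Nat.Coprime (q ^ m + 1) t := by
  rw [Nat.coprime_iff_gcd_eq_one] 
  by_contra hne
  obtain ⟨l, hl, hld⟩ := Nat.exists_prime_and_dvd hne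
  have h1 : l ∣ q ^ m + 1 := dvd_trans hld (Nat.gcd_dvd_left _ _)
  have h2 : l ∣ t := dvd_trans hld (Nat.gcd_dvd_right _ _)
  have h3 : l ∣ q ^ m - 1 := by
    have h := geom_sum_mul_add (q - 1) m
    rw [Nat.sub_add_cancel hq] at h
    have : q ^ m - 1 = (∑ i ∈ Finset.range m, q ^ i) * (q - 1) := by omega
    rw [this]
    exact dvd_mul_of_dvd_right (dvd_trans h2 ht) _
  have h4 : l ∣ 2 := by
    have hpos : 1 ≤ q ^ m := Nat.one_le_pow _ _ hq
    have : q ^ m + 1 = (q ^ m - 1) + 2 := by omega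
    rw [this] at h1
    exact (Nat.dvd_add_right h3).1 h1
  have h5 : l = 2 := (Nat.prime_dvd_prime_iff_eq hl Nat.prime_two).1 h4
  rw [h5] at h2
  exact hodd h2

theorem exists_elt {F : Type*} [Field F] [Fintype F] (n m : ℕ) (hm : 1 ≤ m) (hn : n = 2 * m)
    (hodd : Odd (Fintype.card F))
    (h2 : 2 ^ (padicValNat 2 (Fintype.card F - 1)) ∣ ∑ i ∈ Finset.range m, Fintype.card F ^ i) :
    ∃ g : Matrix.ProjectiveSpecialLinearGroup (Fin n) F, orderOf g = Fintype.card F ^ m + 1 := by
  classical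
  obtain ⟨p, hp⟩ := CharP.exists F
  have : Fact p.Prime := ⟨CharP.char_is_prime F p⟩
  have : NeZero n := ⟨by omega⟩
  let K := FiniteField.Extension F p n
  have hfr : Module.finrank F K = n := FiniteField.finrank_extension F p n
  have hcardK : Nat.card K = Fintype.card F ^ n := by
    rw [FiniteField.natCard_extension, Nat.card_eq_fintype_card]
  set q := Fintype.card F with hqdef
  have hq : 1 < q := Fintype.one_lt_card
  set a := padicValNat 2 (q - 1) with hadef
  set M := ∑ i ∈ Finset.range m, q ^ i with hMdef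
  have hqn : 2 ≤ q ^ n := le_trans hq (Nat.le_self_pow (by omega) _)
  have hfac : q ^ n - 1 = (q - 1) * (M * (q ^ m + 1)) := by
    rw [hn]; exact factor q m (by omega)
  obtain ⟨t, ht⟩ : 2 ^ a ∣ q - 1 := pow_padicValNat_dvd
  have htodd : ¬ 2 ∣ t := by
    rintro ⟨t', rfl⟩
    have h1 : 2 ^ (a + 1) ∣ q - 1 := ⟨t', by rw [ht, pow_succ]; ring⟩
    have h2 := (padicValNat_dvd_iff_le (by omega : q - 1 ≠ 0)).1 h1
    omega
  have hcop : Nat.Coprime (q ^ m + 1) t := coprime_aux q m t (by omega) ⟨2 ^ a, by rw [ht]; ring⟩ htodd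
  obtain ⟨ζ, hζ⟩ := IsCyclic.exists_generator (α := Kˣ)
  have hordζ : orderOf ζ = q ^ n - 1 := by
    rw [orderOf_eq_card_of_forall_mem_zpowers hζ, Nat.card_units, hcardK]
  let b : Module.Basis (Fin n) F K := Module.finBasisOfFinrankEq F K hfr
  let ψ : K →ₐ[F] Matrix (Fin n) (Fin n) F := Algebra.leftMulMatrix b
  set z : K := ((ζ ^ (M * t) : Kˣ) : K) with hz
  have hzpow : ∀ k : ℕ, z ^ k = 1 ↔ q ^ n - 1 ∣ M * t * k := by
    intro k
    rw [hz, ← Units.val_pow_eq_pow_val, Units.val_eq_one, ← pow_mul, ← hordζ,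
      orderOf_dvd_iff_pow_eq_one]
  have hnorm : Algebra.norm F z = 1 := by
    apply (algebraMap F K).injective
    rw [FiniteField.algebraMap_norm_eq_pow, map_one, hcardK, Nat.card_eq_fintype_card, ← hqdef,
      hfac, Nat.mul_div_cancel_left _ (by omega : 0 < q - 1), hzpow, hfac]
    obtain ⟨M', hM'⟩ := h2
    rw [ht]
    exact ⟨M', by rw [hM']; ring⟩
  have hdet : (ψ z).det = 1 := by
    rw [← hnorm, Algebra.norm_eq_matrix_det b]
  let g : Matrix.SpecialLinearGroup (Fin n) F := ⟨ψ z, hdet⟩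
  have hz0 : z ≠ 0 := Units.ne_zero _
  have key : ∀ k : ℕ, (QuotientGroup.mk g : Matrix.ProjectiveSpecialLinearGroup (Fin n) F) ^ k = 1 ↔
      q ^ m + 1 ∣ k := by
    intro k
    rw [proj_pow n (by omega) ψ z hz0 g rfl k, hzpow, hfac, ← hqdef]
    have hM0 : 0 < M := by
      rw [hMdef]
      apply Finset.sum_pos
      · intro i _
        exact Nat.pow_pos (by omega)
      · exact ⟨0, Finset.mem_range.2 (by omega)⟩
    have ht0 : 0 < t := by
      rcases Nat.eq_zero_or_pos t with h | h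
      · rw [h] at ht; omega
      · exact h
    have e1 : (q - 1) * (M * (q ^ m + 1)) = (M * t * 2 ^ a) * (q ^ m + 1) := by rw [ht]; ring
    have e2 : M * t * (k * (q - 1)) = (M * t * 2 ^ a) * (k * t) := by rw [ht]; ring
    have hpos : 0 < M * t * 2 ^ a := Nat.mul_pos (Nat.mul_pos hM0 ht0) (Nat.pow_pos (by norm_num))
    rw [e1, e2, Nat.mul_dvd_mul_iff_left hpos]
    constructor
    · intro h
      exact hcop.dvd_of_dvd_mul_right h
    · intro h
      exact dvd_mul_of_dvd_left h _
  refine ⟨QuotientGroup.mk g, ?_⟩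
  apply Nat.dvd_antisymm
  · exact orderOf_dvd_of_pow_eq_one ((key _).2 dvd_rfl)
  · exact (key _).1 (pow_orderOf_eq_one _)

section Irred

variable {F V : Type*} [Field F] [AddCommGroup V] [Module F V]

/-- fixed point congruence for an invariant subspace -/
theorem card_modEq [Finite V] (u : Module.End F V) (r : ℕ) (hr : r.Prime) (hu : u ^ r = 1)
    (W : Submodule F V) (hW : ∀ w ∈ W, u w ∈ W) :
    Nat.card W ≡ Nat.card (W ⊓ LinearMap.ker (u - 1) : Submodule F V) [MOD r] := by
  classical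
  have : Fact r.Prime := ⟨hr⟩
  have : Fintype W := Fintype.ofFinite _
  let f : Function.End W := fun w => ⟨u w.1, hW w.1 w.2⟩
  have hfpow : ∀ k : ℕ, ∀ w : W, ((f ^ k) w).1 = (u ^ k) w.1 := by
    intro k
    induction k with
    | zero => intro w; rfl
    | succ k ih =>
      intro w
      rw [pow_succ', pow_succ']
      change (f ((f ^ k) w)).1 = u ((u ^ k) w.1)
      rw [← ih w]
  have hf : f ^ r ^ 1 = 1 := by
    rw [pow_one]
    funext w
    apply Subtype.ext
    rw [hfpow, hu]
    rfl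
  have h := Equiv.Perm.card_fixedPoints_modEq (f := f) hf
  rw [Fintype.card_eq_nat_card, Fintype.card_eq_nat_card] at h
  have e : Function.fixedPoints f ≃ (W ⊓ LinearMap.ker (u - 1) : Submodule F V) :=
    { toFun := fun w => ⟨w.1.1, Submodule.mem_inf.2 ⟨w.1.2, by
        have h1 : f w.1 = w.1 := w.2
        have h2 : u w.1.1 = w.1.1 := congrArg Subtype.val h1
        rw [LinearMap.mem_ker, LinearMap.sub_apply, h2]
        simp⟩⟩
      invFun := fun w => ⟨⟨w.1, (Submodule.mem_inf.1 w.2).1⟩, by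
        have h1 := (Submodule.mem_inf.1 w.2).2
        rw [LinearMap.mem_ker, LinearMap.sub_apply, sub_eq_zero] at h1
        change f ⟨w.1, _⟩ = ⟨w.1, _⟩
        apply Subtype.ext
        exact h1⟩
      left_inv := fun w => rfl
      right_inv := fun w => rfl }
  rw [Nat.card_congr e] at h
  exact h

theorem irreducible [Fintype F] [Finite V] (n : ℕ) (hn : 1 ≤ n) (hdim : Module.finrank F V = n)
    (u : Module.End F V) (r : ℕ) (hr : r.Prime) (hdvd : r ∣ Fintype.card F ^ n - 1)
    (hprim : ∀ k, 0 < k → k < n → ¬ r ∣ Fintype.card F ^ k - 1) (hu : u ^ r = 1) (hu1 : u ≠ 1)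
    (W : Submodule F V) (hW : ∀ w ∈ W, u w ∈ W) : W = ⊥ ∨ W = ⊤ := by
  have hq : 2 ≤ Fintype.card F := Fintype.one_lt_card
  have hfin : Module.Finite F V := Module.Finite.of_finite
  have hcard : ∀ U : Submodule F V, Nat.card U = Fintype.card F ^ Module.finrank F U := by
    intro U
    rw [Module.natCard_eq_pow_finrank (K := F), Nat.card_eq_fintype_card]
  have hle : ∀ U : Submodule F V, Module.finrank F U ≤ n := by
    intro U
    rw [← hdim]
    exact Submodule.finrank_le U
  -- no fixed vectors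
  have hker : LinearMap.ker (u - 1) = ⊥ := by
    have h := card_modEq u r hr hu ⊤ (fun _ _ => Submodule.mem_top)
    rw [hcard, hcard, finrank_top, hdim, top_inf_eq] at h
    rcases Cfsg.Agent.H9.SingerConj.exp_cases hq hn hr hdvd hprim (hle _) le_rfl h with h1 | ⟨-, h1⟩
    · exfalso
      have h2 : LinearMap.ker (u - 1) = ⊤ := by
        apply Submodule.eq_top_of_finrank_eq
        rw [← h1, hdim]
      apply hu1
      have h3 : u - 1 = 0 := LinearMap.ker_eq_top.1 h2
      exact sub_eq_zero.1 h3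
    · exact Submodule.finrank_eq_zero.1 h1
  have h := card_modEq u r hr hu W hW
  rw [hker, inf_bot_eq, hcard, hcard, finrank_bot] at h
  rcases Cfsg.Agent.H9.SingerConj.exp_cases hq hn hr hdvd hprim (Nat.zero_le _) (hle W) h with h1 | ⟨h1, -⟩
  · left
    exact Submodule.finrank_eq_zero.1 h1
  · right
    apply Submodule.eq_top_of_finrank_eq
    rw [h1, hdim]

end Irred

section Model

variable {F : Type*} [Field F] [Fintype F]

theorem field_model (p : ℕ) [Fact p.Prime] [CharP F p] (n : ℕ) [NeZero n]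
    (G : Matrix (Fin n) (Fin n) F)
    (hirr : ∀ W : Submodule F (Fin n → F), (∀ w ∈ W, G.mulVec w ∈ W) → W = ⊥ ∨ W = ⊤) :
    ∃ ψ : FiniteField.Extension F p n →ₐ[F] Matrix (Fin n) (Fin n) F,
      ∃ θ, ψ θ = G ∧ ∀ k, (ψ k).det = Algebra.norm F k := by
  classical
  set A : Subalgebra F (Matrix (Fin n) (Fin n) F) := Algebra.adjoin F {G} with hA
  have hGA : G ∈ A := Algebra.self_mem_adjoin_singleton F G
  have hcomm : ∀ a ∈ A, G * a = a * G := fun a ha => (Algebra.commute_of_mem_adjoin_self ha).eq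
  -- (a) nonzero elements of A are injective
  have hinj : ∀ a ∈ A, a ≠ 0 → ∀ v, a.mulVec v = 0 → v = 0 := by
    intro a ha ha0 v hv
    rcases hirr (LinearMap.ker a.mulVecLin) (by
      intro w hw
      rw [LinearMap.mem_ker, Matrix.mulVecLin_apply] at hw ⊢
      rw [Matrix.mulVec_mulVec, ← hcomm a ha, ← Matrix.mulVec_mulVec, hw, Matrix.mulVec_zero]) with h | h
    · have : v ∈ LinearMap.ker a.mulVecLin := by
        rw [LinearMap.mem_ker, Matrix.mulVecLin_apply]; exact hv
      rw [h] at this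
      exact (Submodule.mem_bot F).1 this
    · exfalso
      apply ha0
      have h1 : a.mulVecLin = 0 := LinearMap.ker_eq_top.1 h
      ext i j
      have := congrFun (LinearMap.congr_fun h1 (Pi.single j 1)) i
      simpa using this
  let v₀ : Fin n → F := Pi.single 0 1
  have hv₀ : v₀ ≠ 0 := by
    intro h
    have := congrFun h 0
    simp [v₀] at this
  let ε : A →ₗ[F] (Fin n → F) :=
    { toFun := fun a => a.1.mulVec v₀
      map_add' := fun a b => by
        change (a.1 + b.1).mulVec v₀ = _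
        rw [Matrix.add_mulVec]
      map_smul' := fun c a => by
        change (c • a.1).mulVec v₀ = _
        rw [Matrix.smul_mulVec]
        rfl }
  have hεapp : ∀ a : A, ε a = a.1.mulVec v₀ := fun a => rfl
  have hεinj : Function.Injective ε := by
    intro a b hab
    by_contra hne
    have h1 : a.1 - b.1 ≠ 0 := fun h => hne (Subtype.ext (sub_eq_zero.1 h))
    have h2 := hinj _ (A.sub_mem a.2 b.2) h1 v₀ (by
      rw [Matrix.sub_mulVec, ← hεapp, ← hεapp, hab, sub_self])
    exact hv₀ h2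
  have hεsurj : Function.Surjective ε := by
    rw [← LinearMap.range_eq_top]
    rcases hirr (LinearMap.range ε) (by
      rintro w ⟨a, rfl⟩
      refine ⟨⟨G, hGA⟩ * a, ?_⟩
      rw [hεapp, hεapp]
      change (G * a.1).mulVec v₀ = _
      rw [Matrix.mulVec_mulVec]) with h | h
    · exfalso
      have h1 : ε 1 ∈ LinearMap.range ε := ⟨1, rfl⟩
      rw [h, Submodule.mem_bot, hεapp] at h1
      change (1 : Matrix (Fin n) (Fin n) F).mulVec v₀ = 0 at h1
      rw [Matrix.one_mulVec] at h1
      exact hv₀ h1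
    · exact h
  have hfinA : Finite A := Finite.of_injective ε hεinj
  have hfield : IsField A := by
    refine ⟨⟨0, 1, ?_⟩, ?_, ?_⟩
    · intro h
      have h1 : ε 0 = ε 1 := by rw [h]
      rw [map_zero, hεapp] at h1
      change 0 = (1 : Matrix (Fin n) (Fin n) F).mulVec v₀ at h1
      rw [Matrix.one_mulVec] at h1
      exact hv₀ h1.symm
    · intro a b
      apply Subtype.ext
      change a.1 * b.1 = b.1 * a.1
      exact (Algebra.commute_of_mem_adjoin_singleton_of_commute b.2
        (Algebra.commute_of_mem_adjoin_self a.2).symm).eq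
    · intro a ha
      have hL : Function.Injective (fun b : A => a * b) := by
        intro b c hbc
        by_contra hne
        have h1 : b.1 - c.1 ≠ 0 := fun h => hne (Subtype.ext (sub_eq_zero.1 h))
        have h2 : a.1 * (b.1 - c.1) = 0 := by
          have : a.1 * b.1 = a.1 * c.1 := congrArg Subtype.val hbc
          rw [mul_sub, this, sub_self]
        have h3 : (b.1 - c.1).mulVec v₀ = 0 := by
          apply hinj a.1 a.2 (fun h => ha (Subtype.ext h))
          rw [Matrix.mulVec_mulVec, h2, Matrix.zero_mulVec]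
        exact hv₀ (hinj _ (A.sub_mem b.2 c.2) h1 v₀ h3)
      obtain ⟨b, hb⟩ := (Finite.injective_iff_surjective.1 hL) 1
      exact ⟨b, hb⟩
  have hcardA : Nat.card A = Nat.card (FiniteField.Extension F p n) := by
    rw [Nat.card_congr (Equiv.ofBijective ε ⟨hεinj, hεsurj⟩), FiniteField.natCard_extension,
      Nat.card_eq_fintype_card, Nat.card_eq_fintype_card, Fintype.card_fun, Fintype.card_fin]
  obtain ⟨ψ₀, hψ₀⟩ := Cfsg.Agent.H9.SingerConj.exists_algHom_of_isField (F := F)
    (K := FiniteField.Extension F p n) hfield hcardA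
  obtain ⟨θ, hθ⟩ := hψ₀.2 ⟨G, hGA⟩
  refine ⟨A.val.comp ψ₀, θ, ?_, ?_⟩
  · change (ψ₀ θ).1 = G
    rw [hθ]
  · intro k
    let e : FiniteField.Extension F p n ≃ₗ[F] (Fin n → F) :=
      LinearEquiv.ofBijective (ε ∘ₗ ψ₀.toLinearMap)
        ⟨hεinj.comp hψ₀.1, hεsurj.comp hψ₀.2⟩
    have he : ∀ x, e x = (ψ₀ x).1.mulVec v₀ := fun x => rfl
    have hconj : (ψ₀ k).1.mulVecLin =
        (e : FiniteField.Extension F p n →ₗ[F] (Fin n → F)) ∘ₗ
          (Algebra.lmul F (FiniteField.Extension F p n) k) ∘ₗ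
          (e.symm : (Fin n → F) →ₗ[F] FiniteField.Extension F p n) := by
      apply LinearMap.ext
      intro w
      obtain ⟨x, rfl⟩ := e.surjective w
      simp only [LinearMap.comp_apply, LinearEquiv.coe_coe, LinearEquiv.symm_apply_apply,
        Algebra.lmul_algebraMap, Matrix.mulVecLin_apply]
      rw [Algebra.coe_lmul_eq_mul, LinearMap.mul_apply', he, he, map_mul]
      change _ = ((ψ₀ k).1 * (ψ₀ x).1).mulVec v₀
      rw [Matrix.mulVec_mulVec]
    change (ψ₀ k).1.det = _
    rw [Algebra.norm_apply, ← LinearMap.det_conj _ e, ← hconj, ← Matrix.toLin'_apply',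
      LinearMap.det_toLin']

end Model

theorem arith (o P Q M a : ℕ) (hP : 0 < P) (hQ : 0 < Q) (ho : 0 < o) (hoMP : o ∣ M * P)
    (hiff : ∀ k, P ∣ k ↔ o ∣ k * Q) (hPeven : 2 ∣ P) (haQ : 2 ^ a ∣ Q) : 2 ^ a ∣ M := by
  have hd0 : 0 < Nat.gcd o Q := Nat.gcd_pos_of_pos_left _ ho
  obtain ⟨o', ho'⟩ := Nat.gcd_dvd_left o Q
  obtain ⟨Q', hQ'⟩ := Nat.gcd_dvd_right o Q
  set d := Nat.gcd o Q with hd
  have hcop : Nat.Coprime o' Q' := by
    have := Nat.coprime_div_gcd_div_gcd hd0
    rw [← hd] at this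
    have e1 : o / d = o' := by rw [ho']; exact Nat.mul_div_cancel_left _ hd0
    have e2 : Q / d = Q' := by rw [hQ']; exact Nat.mul_div_cancel_left _ hd0
    rw [e1, e2] at this
    exact this
  have h1 : P ∣ o' := by
    rw [hiff]
    refine ⟨Q', ?_⟩
    rw [hQ', ho']; ring
  have h2 : o' ∣ P := by
    have h := (hiff P).1 dvd_rfl
    rw [hQ', ho'] at h
    have h3 : d * o' ∣ d * (P * Q') := by
      have : P * (d * Q') = d * (P * Q') := by ring
      rw [← this]; exact h
    have h4 := (Nat.mul_dvd_mul_iff_left hd0).1 h3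
    exact hcop.dvd_of_dvd_mul_right h4
  have hPo : P = o' := Nat.dvd_antisymm h1 h2
  have hdM : d ∣ M := by
    rw [ho', ← hPo] at hoMP
    exact (Nat.mul_dvd_mul_iff_right hP).1 hoMP
  have hpow : ∀ i, i ≤ a → 2 ^ i ∣ d := by
    intro i
    induction i with
    | zero => intro _; simp
    | succ i ih =>
      intro hi
      rw [hd]
      apply Nat.dvd_gcd
      · rw [ho', ← hPo, pow_succ]
        exact mul_dvd_mul (ih (by omega)) hPeven
      · exact dvd_trans (pow_dvd_pow 2 hi) haQ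
  exact dvd_trans (hpow a le_rfl) hdM

theorem mulVec_pow_mem {F : Type*} [Field F] {n : ℕ} (G : Matrix (Fin n) (Fin n) F)
    (W : Submodule F (Fin n → F)) (hW : ∀ w ∈ W, G.mulVec w ∈ W) (k : ℕ) :
    ∀ w ∈ W, (G ^ k).mulVec w ∈ W := by
  induction k with
  | zero => intro w hw; simpa using hw
  | succ k ih =>
    intro w hw
    rw [pow_succ, ← Matrix.mulVec_mulVec]
    exact ih _ (hW w hw)

theorem forward {F : Type*} [Field F] [Fintype F] (n m : ℕ) (hm : 2 ≤ m) (hn : n = 2 * m)
    (hodd : Odd (Fintype.card F))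
    (g : Matrix.ProjectiveSpecialLinearGroup (Fin n) F)
    (hg : orderOf g = Fintype.card F ^ m + 1) :
    2 ^ (padicValNat 2 (Fintype.card F - 1)) ∣ ∑ i ∈ Finset.range m, Fintype.card F ^ i := by
  classical
  obtain ⟨g₀, rfl⟩ := QuotientGroup.mk_surjective g
  obtain ⟨p, hp⟩ := CharP.exists F
  have : Fact p.Prime := ⟨CharP.char_is_prime F p⟩
  have : NeZero n := ⟨by omega⟩
  set q := Fintype.card F with hqdef
  have hq : 1 < q := Fintype.one_lt_card
  have hq3 : 3 ≤ q := by
    obtain ⟨k, hk⟩ := hodd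
    omega
  set M := ∑ i ∈ Finset.range m, q ^ i with hMdef
  set P := q ^ m + 1 with hPdef
  have hfac : q ^ n - 1 = (q - 1) * (M * P) := by
    rw [hn]; exact factor q m (by omega)
  have hMq : M * (q - 1) + 1 = q ^ m := by
    have := geom_sum_mul_add (q - 1) m
    rw [Nat.sub_add_cancel (by omega : 1 ≤ q)] at this
    exact this
  -- primitive prime divisor
  obtain ⟨r, hr, hrdvd, hprim⟩ := Cfsg.Agent.H9.SingerConj.exists_ppd (F := F) n (by omega)
    (by rintro ⟨-, h2⟩; rw [← hqdef] at h2; omega) (by rintro ⟨h2, -⟩; omega)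
  rw [← hqdef] at hrdvd hprim
  have hrP : r ∣ P := by
    rw [hfac, ← mul_assoc] at hrdvd
    rcases (Nat.Prime.dvd_mul hr).1 hrdvd with h | h
    · exfalso
      apply hprim m (by omega) (by omega)
      have : q ^ m - 1 = (q - 1) * M := by
        have := hMq
        have h1 : M * (q - 1) = (q - 1) * M := mul_comm _ _
        omega
      rw [this]; exact h
    · exact h
  have hrq : ¬ r ∣ q - 1 := by
    have := hprim 1 (by omega) (by omega)
    rwa [pow_one] at this
  obtain ⟨t, ht⟩ := hrP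
  have ht0 : 0 < t := by
    rcases Nat.eq_zero_or_pos t with h | h
    · rw [h, mul_zero] at ht; omega
    · exact h
  -- the element x
  have hPone : (QuotientGroup.mk g₀ : Matrix.ProjectiveSpecialLinearGroup (Fin n) F) ^ P = 1 := by
    rw [← hg]; exact pow_orderOf_eq_one _
  obtain ⟨c, hc0, hc⟩ := Cfsg.Agent.S2364.pow_central n (by omega) g₀ P hPone
  change g₀.1 ^ P = _ at hc
  have hfull : g₀.1 ^ (P * (q - 1)) = 1 := by
    rw [pow_mul, hc, smul_pow, one_pow, FiniteField.pow_card_sub_one_eq_one c hc0, one_smul]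
  set x : Matrix (Fin n) (Fin n) F := g₀.1 ^ (t * (q - 1)) with hx
  have hxr : x ^ r = 1 := by
    rw [hx, ← pow_mul, ← hfull, ht]
    congr 1; ring
  have hx1 : x ≠ 1 := by
    intro h
    have h1 : (g₀ ^ (t * (q - 1))).1 = (1 : Matrix.SpecialLinearGroup (Fin n) F).1 := by
      rw [Matrix.SpecialLinearGroup.coe_pow]; exact h
    have h2 : g₀ ^ (t * (q - 1)) = 1 := Subtype.ext h1
    have h3 : (QuotientGroup.mk g₀ : Matrix.ProjectiveSpecialLinearGroup (Fin n) F) ^ (t * (q - 1)) = 1 := by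
      rw [← QuotientGroup.mk_pow, h2]; rfl
    have h4 := orderOf_dvd_of_pow_eq_one h3
    rw [hg, ht] at h4
    have h5 : t * r ∣ t * (q - 1) := by rwa [mul_comm r t] at h4
    exact hrq ((Nat.mul_dvd_mul_iff_left ht0).1 h5)
  -- irreducibility
  have hirr : ∀ W : Submodule F (Fin n → F), (∀ w ∈ W, g₀.1.mulVec w ∈ W) → W = ⊥ ∨ W = ⊤ := by
    intro W hW
    have hur : (Matrix.toLin' x) ^ r = 1 := by
      rw [← Matrix.toLin'_pow, hxr, Matrix.toLin'_one]; rfl
    have hu1 : Matrix.toLin' x ≠ 1 := by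
      intro h
      apply hx1
      apply Matrix.toLin'.injective
      rw [h, Matrix.toLin'_one]; rfl
    apply irreducible n (by omega) (by simp) (Matrix.toLin' x) r hr hrdvd hprim hur hu1 W
    intro w hw
    rw [Matrix.toLin'_apply]
    exact mulVec_pow_mem g₀.1 W hW _ w hw
  obtain ⟨ψ, θ, hθ, hdet⟩ := field_model p n g₀.1 hirr
  have hnorm : Algebra.norm F θ = 1 := by
    rw [← hdet, hθ]; exact g₀.2
  have hcardK : Nat.card (FiniteField.Extension F p n) = q ^ n := by
    rw [FiniteField.natCard_extension, Nat.card_eq_fintype_card]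
  have hθN : θ ^ (M * P) = 1 := by
    have h := FiniteField.algebraMap_norm_eq_pow (K := F) (K' := FiniteField.Extension F p n) (x := θ)
    rw [hnorm, map_one, hcardK, Nat.card_eq_fintype_card, ← hqdef, hfac,
      Nat.mul_div_cancel_left _ (by omega : 0 < q - 1)] at h
    exact h.symm
  have hP0 : 0 < P := by omega
  have hM0 : 0 < M := by
    rcases Nat.eq_zero_or_pos M with h | h
    · rw [h, zero_mul] at hMq
      have h1 : q ^ 1 ≤ q ^ m := Nat.pow_le_pow_right (by omega) (by omega)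
      rw [pow_one] at h1
      omega
    · exact h
  have hθ0 : θ ≠ 0 := by
    rintro rfl
    rw [zero_pow (by positivity)] at hθN
    exact zero_ne_one hθN
  have key : ∀ k : ℕ, P ∣ k ↔ orderOf θ ∣ k * (q - 1) := by
    intro k
    rw [orderOf_dvd_iff_pow_eq_one, ← proj_pow n (by omega) ψ θ hθ0 g₀ hθ.symm k, ← hg,
      orderOf_dvd_iff_pow_eq_one]
  have hPeven : 2 ∣ P := by
    have : Odd (q ^ m) := hodd.pow
    obtain ⟨k, hk⟩ := this
    exact ⟨k + 1, by omega⟩
  exact arith (orderOf θ) P (q - 1) M _ hP0 (by omega)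
    (orderOf_pos_iff.2 (isOfFinOrder_iff_pow_eq_one.2 ⟨M * P, by positivity, hθN⟩))
    (orderOf_dvd_of_pow_eq_one hθN) key hPeven pow_padicValNat_dvd

/-- Let q be an odd prime power, n ≥ 4 even, and L = PSL(n,q). Then L has an element of order q^(n/2) + 1 if and only if the 2-part of n exceeds the 2-part of q − 1. -/
theorem result {F : Type*} [Field F] [Fintype F] {q : ℕ} (hF : Fintype.card F = q) (hodd : Odd q)
    {n : ℕ} (hn : 4 ≤ n) (heven : Even n) :
    (∃ g : Matrix.ProjectiveSpecialLinearGroup (Fin n) F, orderOf g = q ^ (n / 2) + 1) ↔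
      padicValNat 2 (q - 1) < padicValNat 2 n := by
  subst hF
  obtain ⟨m, hm⟩ := heven
  have hn2 : n = 2 * m := by omega
  have hdiv : n / 2 = m := by omega
  have hq3 : 3 ≤ Fintype.card F := by
    have : 1 < Fintype.card F := Fintype.one_lt_card
    obtain ⟨k, hk⟩ := hodd
    omega
  rw [hdiv]
  have key := two_adic (Fintype.card F) m hodd hq3 (by omega)
  rw [← hn2] at key
  rw [← key]
  constructor
  · rintro ⟨g, hg⟩
    exact forward n m (by omega) hn2 hodd g hg
  · intro h
    exact exists_elt n m (by omega) hn2 hodd h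

end Cfsg.Agent.S2495
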