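import Cfsg.Statements.S2533
import Mathlib
import Cfsg.Agent.S2364

set_option autoImplicit false
open Cfsg

namespace Cfsg.Agent.S2533

open Matrix

section Core

variable (F : Type*) [Field F] (n : ℕ) [NeZero n]

/-- cyclic shift -/
def shiftM : Matrix (ZMod n) (ZMod n) F := Matrix.of fun i j => if i = j + 1 then 1 else 0

/-- corner -/
def e00 : Matrix (ZMod n) (ZMod n) F := Matrix.single 0 0 1

variable {F}

theorem mul_shiftM (a : Matrix (ZMod n) (ZMod n) F) (i j : ZMod n) :
    (a * shiftM F n) i j = a i (j + 1) := by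
  simp [Matrix.mul_apply, shiftM]

theorem shiftM_mul (a : Matrix (ZMod n) (ZMod n) F) (i j : ZMod n) :
    (shiftM F n * a) i j = a (i - 1) j := by
  rw [Matrix.mul_apply]
  rw [Finset.sum_eq_single (i - 1)]
  · simp [shiftM]
  · intro k _ hk
    have : ¬ i = k + 1 := by
      intro h
      apply hk
      rw [h]; ring
    simp [shiftM, this]
  · simp

/-- the three-parameter family -/
def Mv (x y z : F) : Matrix (ZMod n) (ZMod n) F :=
  x • 1 + y • shiftM F n + z • e00 F n

theorem brick (a d : Matrix (ZMod n) (ZMod n) F)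
    (h : ∀ x y z : F, Mv n x y z * a = d * Mv n x y z) : ∃ s : F, a = s • 1 ∧ d = s • 1 := by
  have h1 : a = d := by
    have := h 1 0 0
    simpa [Mv] using this
  subst h1
  have h2 : shiftM F n * a = a * shiftM F n := by
    have := h 0 1 0
    simpa [Mv] using this
  have h3 : e00 F n * a = a * e00 F n := by
    have := h 0 0 1
    simpa [Mv] using this
  have hs : ∀ i j, a i (j + 1) = a (i - 1) j := by
    intro i j
    rw [← mul_shiftM n a i j, ← shiftM_mul n a i j, h2]
  have hk : ∀ k : ℕ, ∀ i j : ZMod n, a (i + k) (j + k) = a i j := by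
    intro k
    induction k with
    | zero => intro i j; simp
    | succ k ih =>
      intro i j
      have := hs (i + (k + 1 : ℕ)) (j + k)
      rw [show j + ((k + 1 : ℕ) : ZMod n) = j + k + 1 by push_cast; ring, this]
      rw [show i + ((k + 1 : ℕ) : ZMod n) - 1 = i + k by push_cast; ring]
      exact ih i j
  have hcol : ∀ i : ZMod n, a i 0 = if i = 0 then a 0 0 else 0 := by
    intro i
    have e1 : (a * e00 F n) i 0 = a i 0 := by
      unfold e00
      rw [Matrix.mul_single_apply_same]; simp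
    have e2 : (e00 F n * a) i 0 = if i = 0 then a 0 0 else 0 := by
      unfold e00
      split_ifs with hi
      · subst hi
        rw [Matrix.single_mul_apply_same]; simp
      · exact Matrix.single_mul_apply_of_ne (1 : F) 0 0 i 0 hi a
    rw [← e1, ← h3, e2]
  refine ⟨a 0 0, ?_, ?_⟩ <;>
  · ext i j
    have e := hk j.val (i - j) 0
    rw [ZMod.natCast_zmod_val, sub_add_cancel, zero_add] at e
    rw [e, hcol, Matrix.smul_apply, Matrix.one_apply]
    by_cases hij : i = j
    · simp [hij]
    · have : ¬ i - j = 0 := fun h0 => hij (sub_eq_zero.1 h0)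
      simp [hij, this]

end Core

open Matrix

section Block

variable {F : Type*} [Field F] (n : ℕ) [NeZero n]

def Lm (x y z : F) : Matrix (ZMod n ⊕ ZMod n) (ZMod n ⊕ ZMod n) F :=
  fromBlocks 1 0 (Mv n x y z) 1

def Tm (u : F) : Matrix (ZMod n ⊕ ZMod n) (ZMod n ⊕ ZMod n) F :=
  fromBlocks 1 0 0 (u • 1)

omit [NeZero n] in
theorem eq_zero_of_eq_smul {a : Matrix (ZMod n) (ZMod n) F} {r : F} (hr : r ≠ 1) (h : a = r • a) :
    a = 0 := by
  have h1 : (1 - r) • a = 0 := by
    rw [sub_smul, one_smul, ← h, sub_self]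
  rcases smul_eq_zero.1 h1 with h2 | h2
  · exact absurd (sub_eq_zero.1 h2).symm hr
  · exact h2

theorem core (h2 : (2 : F) ≠ 0) (g g' : Matrix (ZMod n ⊕ ZMod n) (ZMod n ⊕ ZMod n) F)
    (hg : g * g' = 1)
    (hL : ∀ x y z : F, ∃ r : F, Lm n x y z * g = r • (g * Lm n x y z))
    (hT : ∃ r : F, Tm n (-1) * g = r • (g * Tm n (-1))) : ∃ s : F, g = s • 1 := by
  obtain ⟨a, b, c, d, rfl⟩ : ∃ a b c d, g = fromBlocks a b c d :=
    ⟨_, _, _, _, (Matrix.fromBlocks_toBlocks g).symm⟩
  obtain ⟨a', b', c', d', rfl⟩ : ∃ a b c d, g' = fromBlocks a b c d :=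
    ⟨_, _, _, _, (Matrix.fromBlocks_toBlocks g').symm⟩
  have hns : ¬ (a = 0 ∧ b = 0) := by
    rintro ⟨rfl, rfl⟩
    rw [Matrix.fromBlocks_multiply, ← Matrix.fromBlocks_one, Matrix.fromBlocks_inj] at hg
    have := hg.1
    simp at this
  -- step 1
  obtain ⟨r, hr⟩ := hL 1 0 0
  have hM1 : Mv n (1 : F) 0 0 = 1 := by simp [Mv]
  rw [Lm, hM1, Matrix.fromBlocks_multiply, Matrix.fromBlocks_multiply, Matrix.fromBlocks_smul,
    Matrix.fromBlocks_inj] at hr
  simp only [one_mul, zero_mul, add_zero, mul_one, mul_zero, zero_add] at hr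
  obtain ⟨e1, e2, e3, e4⟩ := hr
  have hr1 : r = 1 := by
    by_contra hne
    have hb : b = 0 := eq_zero_of_eq_smul n hne e2
    rw [hb, add_zero] at e1
    exact hns ⟨eq_zero_of_eq_smul n hne e1, hb⟩
  subst hr1
  rw [one_smul] at e1 e3
  have hb : b = 0 := by
    have := e1
    rwa [left_eq_add] at this
  have hd : d = a := by
    rw [add_comm] at e3
    exact (add_left_cancel e3).symm
  subst hb hd
  -- step 2
  have hcomm : ∀ x y z : F, Mv n x y z * d = d * Mv n x y z := by
    intro x y z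
    obtain ⟨r, hr⟩ := hL x y z
    rw [Lm, Matrix.fromBlocks_multiply, Matrix.fromBlocks_multiply, Matrix.fromBlocks_smul,
      Matrix.fromBlocks_inj] at hr
    simp only [one_mul, zero_mul, add_zero, mul_one, mul_zero, zero_add] at hr
    obtain ⟨f1, -, f3, -⟩ := hr
    have hr1 : r = 1 := by
      by_contra hne
      exact hns ⟨eq_zero_of_eq_smul n hne f1, rfl⟩
    subst hr1
    rw [one_smul, add_comm] at f3
    exact add_left_cancel f3
  -- step 3
  obtain ⟨r, hr⟩ := hT
  rw [Tm, Matrix.fromBlocks_multiply, Matrix.fromBlocks_multiply, Matrix.fromBlocks_smul,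
    Matrix.fromBlocks_inj] at hr
  simp only [one_mul, zero_mul, add_zero, mul_one, mul_zero, zero_add] at hr
  obtain ⟨k1, -, k3, -⟩ := hr
  have hr1 : r = 1 := by
    by_contra hne
    exact hns ⟨eq_zero_of_eq_smul n hne k1, rfl⟩
  subst hr1
  have hc : c = 0 := by
    rw [one_smul, smul_mul_assoc, one_mul, neg_smul, one_smul] at k3
    have h2c : (2 : F) • c = 0 := by
      rw [two_smul]
      nth_rewrite 1 [← k3]
      exact neg_add_cancel c
    rcases smul_eq_zero.1 h2c with h | h
    · exact absurd h h2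
    · exact h
  subst hc
  obtain ⟨s, hs, -⟩ := brick n d d hcomm
  refine ⟨s, ?_⟩
  rw [hs, ← Matrix.fromBlocks_one, Matrix.fromBlocks_smul]
  simp

end Block

open Matrix

section Hom

variable {F : Type*} [Field F] (n : ℕ) [NeZero n]

theorem Mv_add (x y z x' y' z' : F) :
    Mv n (x + x') (y + y') (z + z') = Mv n x y z + Mv n x' y' z' := by
  simp only [Mv, add_smul]; abel

theorem Mv_smul (u x y z : F) : Mv n (u * x) (u * y) (u * z) = u • Mv n x y z := by
  simp only [Mv, smul_add, smul_smul]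

theorem Lm_mul (x y z x' y' z' : F) :
    Lm n (x + x') (y + y') (z + z') = Lm n x y z * Lm n x' y' z' := by
  rw [Lm, Lm, Lm, Matrix.fromBlocks_multiply, Mv_add]
  simp

theorem Lm_zero : Lm n (0 : F) 0 0 = 1 := by
  rw [Lm, ← Matrix.fromBlocks_one]
  simp [Mv]

theorem Tm_mul (u u' : F) : Tm n (u * u') = Tm n u * Tm n u' := by
  rw [Tm, Tm, Tm, Matrix.fromBlocks_multiply]
  simp [smul_smul, mul_comm]

omit [NeZero n] in
theorem Tm_one : Tm n (1 : F) = 1 := by
  rw [Tm, ← Matrix.fromBlocks_one]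
  simp

theorem Tm_Lm (u x y z : F) : Tm n u * Lm n x y z = Lm n (u * x) (u * y) (u * z) * Tm n u := by
  rw [Tm, Lm, Lm, Matrix.fromBlocks_multiply, Matrix.fromBlocks_multiply, Mv_smul]
  simp

theorem Lm_Tm (u x y z : F) : Lm n x y z * Tm n u = fromBlocks 1 0 (Mv n x y z) (u • 1) := by
  rw [Tm, Lm, Matrix.fromBlocks_multiply]
  simp

theorem det_Lm (x y z : F) : (Lm n x y z).det = 1 := by
  rw [Lm, Matrix.det_fromBlocks_zero₁₂]
  simp

theorem det_Tm (u : F) : (Tm n u).det = u ^ n := by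
  rw [Tm, Matrix.det_fromBlocks_zero₁₂]
  simp [ZMod.card]

end Hom

open Matrix

section Grp

variable (p : ℕ) [Fact p.Prime]

/-- the action of ±1 -/
def act : ℤˣ →* MulAut (Multiplicative (Fin 3 → ZMod p)) where
  toFun u :=
    { toFun := fun v => v ^ (u : ℤ)
      invFun := fun v => v ^ (u : ℤ)
      left_inv := fun v => by
        change (v ^ (u : ℤ)) ^ (u : ℤ) = v
        rw [← _root_.zpow_mul, Int.units_coe_mul_self, zpow_one]
      right_inv := fun v => by
        change (v ^ (u : ℤ)) ^ (u : ℤ) = v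
        rw [← _root_.zpow_mul, Int.units_coe_mul_self, zpow_one]
      map_mul' := fun v w => mul_zpow v w (u : ℤ) }
  map_one' := by
    apply MulEquiv.ext
    intro v
    change v ^ ((1 : ℤˣ) : ℤ) = v
    simp
  map_mul' u w := by
    apply MulEquiv.ext
    intro v
    change v ^ ((u * w : ℤˣ) : ℤ) = (v ^ (w : ℤ)) ^ (u : ℤ)
    rw [← _root_.zpow_mul, Units.val_mul, mul_comm]

abbrev Hgrp : Type := Multiplicative (Fin 3 → ZMod p) ⋊[act p] ℤˣ

theorem act_apply (u : ℤˣ) (v : Multiplicative (Fin 3 → ZMod p)) (i : Fin 3) :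
    Multiplicative.toAdd (act p u v) i = ((u : ℤ) : ZMod p) * Multiplicative.toAdd v i := by
  change Multiplicative.toAdd (v ^ (u : ℤ)) i = _
  rw [toAdd_zpow, Pi.smul_apply, zsmul_eq_mul]

variable (n : ℕ) [NeZero n]

def f1 : Multiplicative (Fin 3 → ZMod p) →* SpecialLinearGroup (ZMod n ⊕ ZMod n) (ZMod p) where
  toFun v := ⟨Lm n (Multiplicative.toAdd v 0) (Multiplicative.toAdd v 1) (Multiplicative.toAdd v 2),
    det_Lm n _ _ _⟩
  map_one' := Subtype.ext (by simp [Lm_zero])
  map_mul' v w := Subtype.ext (by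
    change Lm n _ _ _ = Lm n _ _ _ * Lm n _ _ _
    simp [Lm_mul])

def f2 (hn : Even n) : ℤˣ →* SpecialLinearGroup (ZMod n ⊕ ZMod n) (ZMod p) where
  toFun u := ⟨Tm n ((u : ℤ) : ZMod p), by
    rw [det_Tm]
    rcases Int.units_eq_one_or u with rfl | rfl
    · simp
    · simp [hn.neg_one_pow]⟩
  map_one' := Subtype.ext (by simp [Tm_one])
  map_mul' u w := Subtype.ext (by
    change Tm n _ = Tm n _ * Tm n _
    simp [Tm_mul])

theorem f_compat (hn : Even n) (u : ℤˣ) :
    (f1 p n).comp (act p u).toMonoidHom = (MulAut.conj (f2 p n hn u)).toMonoidHom.comp (f1 p n) := by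
  apply MonoidHom.ext
  intro v
  change f1 p n (act p u v) = f2 p n hn u * f1 p n v * (f2 p n hn u)⁻¹
  rw [eq_mul_inv_iff_mul_eq]
  apply Subtype.ext
  rw [Matrix.SpecialLinearGroup.coe_mul, Matrix.SpecialLinearGroup.coe_mul]
  change Lm n _ _ _ * Tm n _ = Tm n _ * Lm n _ _ _
  rw [act_apply, act_apply, act_apply, Tm_Lm]

/-- the representation -/
def rho0 (hn : Even n) : Hgrp p →* SpecialLinearGroup (ZMod n ⊕ ZMod n) (ZMod p) :=
  SemidirectProduct.lift (f1 p n) (f2 p n hn) (f_compat p n hn)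

theorem rho0_val (hn : Even n) (x : Hgrp p) :
    (rho0 p n hn x).1 = fromBlocks 1 0
      (Mv n (Multiplicative.toAdd x.left 0) (Multiplicative.toAdd x.left 1)
        (Multiplicative.toAdd x.left 2)) ((((x.right : ℤˣ) : ℤ) : ZMod p) • 1) := by
  rw [← Lm_Tm]
  rfl

end Grp

open Matrix

section Final

/-- transport of `SL` along an index equivalence -/
noncomputable def slMap {I J : Type*} [Fintype I] [DecidableEq I] [Fintype J] [DecidableEq J]
    (R : Type*) [CommRing R] (e : I ≃ J) :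
    Matrix.SpecialLinearGroup I R →* Matrix.SpecialLinearGroup J R where
  toFun A := ⟨Matrix.reindexAlgEquiv R R e A.1, by
    rw [Matrix.det_reindexAlgEquiv]; exact A.2⟩
  map_one' := Subtype.ext (by
    change Matrix.reindexAlgEquiv R R e (1 : Matrix I I R) = 1
    exact map_one _)
  map_mul' A B := Subtype.ext (by
    change Matrix.reindexAlgEquiv R R e (A.1 * B.1) =
      Matrix.reindexAlgEquiv R R e A.1 * Matrix.reindexAlgEquiv R R e B.1
    exact map_mul _ _ _)

variable (p : ℕ) [Fact p.Prime] (n : ℕ) [NeZero n]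

theorem Mv_eq_zero (hn2 : 2 ≤ n) (x y z : ZMod p) (h : Mv n x y z = 0) : x = 0 ∧ y = 0 ∧ z = 0 := by
  haveI : Fact (1 < n) := ⟨by omega⟩
  have h10 : (1 : ZMod n) ≠ 0 := one_ne_zero
  have h11 := congrFun (congrFun h 1) 1
  have h1 := congrFun (congrFun h 1) 0
  have h0 := congrFun (congrFun h 0) 0
  simp [Mv, shiftM, e00, Matrix.single_apply, h10, h10.symm] at h11 h1 h0
  subst h11
  simp at h1 h0
  exact ⟨rfl, h1, by simpa [h1] using h0⟩

theorem main (hp : p ≠ 2) (hn2 : 2 ≤ n) (hn : Even n) (N : ℕ) (e : ZMod n ⊕ ZMod n ≃ Fin N) :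
    ∃ φ : Hgrp p →* Matrix.ProjectiveSpecialLinearGroup (Fin N) (ZMod p),
      Function.Injective φ ∧
      Subgroup.centralizer (φ.range : Set (Matrix.ProjectiveSpecialLinearGroup (Fin N) (ZMod p))) = ⊥ := by
  classical
  have hp2 : (2 : ZMod p) ≠ 0 := by
    intro h
    have h2 : ((2 : ℕ) : ZMod p) = 0 := by exact_mod_cast h
    rw [ZMod.natCast_eq_zero_iff] at h2
    have := (Nat.prime_dvd_prime_iff_eq (Fact.out : p.Prime) Nat.prime_two).1 h2
    exact hp this
  set Φ := Matrix.reindexAlgEquiv (ZMod p) (ZMod p) e with hΦ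
  let ρ : Hgrp p →* Matrix.SpecialLinearGroup (Fin N) (ZMod p) := (slMap (ZMod p) e).comp (rho0 p n hn)
  have hρ : ∀ x, (ρ x).1 = Φ (rho0 p n hn x).1 := fun x => rfl
  have hsym : ∀ (A : Matrix (Fin N) (Fin N) (ZMod p)) (s : ZMod p), A = s • 1 → Φ.symm A = s • 1 := by
    intro A s hA
    rw [hA, map_smul, map_one]
  refine ⟨(QuotientGroup.mk' _).comp ρ, ?_, ?_⟩
  · rw [injective_iff_map_eq_one]
    intro x hx
    change (QuotientGroup.mk (ρ x) : Matrix.ProjectiveSpecialLinearGroup (Fin N) (ZMod p)) = 1 at hx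
    rw [QuotientGroup.eq_one_iff, Matrix.SpecialLinearGroup.mem_center_iff] at hx
    obtain ⟨c, -, hc⟩ := hx
    rw [Cfsg.Agent.S2364.scalar_eq_smul_one, hρ] at hc
    have h1 := hsym _ c hc.symm
    rw [AlgEquiv.symm_apply_apply, rho0_val, ← Matrix.fromBlocks_one, Matrix.fromBlocks_smul,
      Matrix.fromBlocks_inj] at h1
    obtain ⟨e1, -, e3, e4⟩ := h1
    have hc1 : c = 1 := by
      have := congrFun (congrFun e1 0) 0
      simpa using this.symm
    subst hc1
    rw [smul_zero] at e3
    obtain ⟨hx0, hx1, hx2⟩ := Mv_eq_zero p n hn2 _ _ _ e3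
    have hu : x.right = 1 := by
      rcases Int.units_eq_one_or x.right with h | h
      · exact h
      · exfalso
        rw [h] at e4
        have := congrFun (congrFun e4 0) 0
        simp at this
        apply hp2
        have h3 : (2 : ZMod p) = 1 - (-1) := by ring
        rw [h3, this]; ring
    have hl : x.left = 1 := by
      apply Multiplicative.toAdd.injective
      funext i
      fin_cases i
      · exact hx0
      · exact hx1
      · exact hx2
    exact SemidirectProduct.ext hl hu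
  · rw [eq_bot_iff]
    intro y hy
    rw [Subgroup.mem_bot]
    obtain ⟨g, rfl⟩ := QuotientGroup.mk_surjective y
    rw [Subgroup.mem_centralizer_iff] at hy
    have hcomm : ∀ x : Hgrp p, ∃ z : ZMod p,
        (rho0 p n hn x).1 * Φ.symm g.1 = z • (Φ.symm g.1 * (rho0 p n hn x).1) := by
      intro x
      have h1 : Commute (QuotientGroup.mk (ρ x) : Matrix.ProjectiveSpecialLinearGroup (Fin N) (ZMod p))
          (QuotientGroup.mk g) := hy _ ⟨x, rfl⟩
      obtain ⟨z, hz⟩ := Cfsg.Agent.S2364.commute_lift N (ρ x) g h1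
      refine ⟨z, ?_⟩
      have h2 := congrArg Φ.symm hz
      rw [map_mul, map_smul, map_mul, hρ, AlgEquiv.symm_apply_apply] at h2
      exact h2
    have hinv : Φ.symm g.1 * Φ.symm (g⁻¹).1 = 1 := by
      rw [← map_mul, ← Matrix.SpecialLinearGroup.coe_mul, mul_inv_cancel]
      exact map_one _
    obtain ⟨s, hs⟩ := core n hp2 (Φ.symm g.1) (Φ.symm (g⁻¹).1) hinv
      (by
        intro x y z
        obtain ⟨r, hr⟩ := hcomm (SemidirectProduct.inl (Multiplicative.ofAdd ![x, y, z]))
        refine ⟨r, ?_⟩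
        have hv : (rho0 p n hn (SemidirectProduct.inl (Multiplicative.ofAdd ![x, y, z]))).1 =
            Lm n x y z := by
          rw [rho0_val, Lm]
          simp
        rw [hv] at hr
        exact hr)
      (by
        obtain ⟨r, hr⟩ := hcomm (SemidirectProduct.inr (-1))
        refine ⟨r, ?_⟩
        have hv : (rho0 p n hn (SemidirectProduct.inr (-1))).1 = Tm n (-1) := by
          rw [rho0_val, Tm]
          simp [Mv]
        rw [hv] at hr
        exact hr)
    have hg : g.1 = s • 1 := by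
      have := congrArg Φ hs
      rw [AlgEquiv.apply_symm_apply, map_smul, map_one] at this
      exact this
    by_contra hne
    exact Cfsg.Agent.S2364.not_scalar N g hne s hg

end Final

/-- For every odd prime `p` there is a finite group `H` of order `2p³` which, for infinitely many `n`, embeds in the projective special linear group `PSL(n, p)` as a subgroup with trivial centralizer. -/
theorem result
    (p : ℕ) [Fact p.Prime] (hp : p ≠ 2) :
    ∃ (H : Type) (_ : Group H) (_ : Finite H), Nat.card H = 2 * p ^ 3 ∧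
      ∀ N : ℕ, ∃ n, N ≤ n ∧ ∃ φ : H →* Matrix.ProjectiveSpecialLinearGroup (Fin n) (ZMod p),
        Function.Injective φ ∧ Subgroup.centralizer (φ.range : Set (Matrix.ProjectiveSpecialLinearGroup (Fin n) (ZMod p))) = ⊥ := by
  refine ⟨Hgrp p, inferInstance, Finite.of_equiv _ SemidirectProduct.equivProd.symm, ?_, ?_⟩
  · rw [SemidirectProduct.card]
    have h1 : Nat.card (Multiplicative (Fin 3 → ZMod p)) = p ^ 3 := by
      rw [Nat.card_congr Multiplicative.toAdd, Nat.card_eq_fintype_card,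
        Fintype.card_fun, ZMod.card, Fintype.card_fin]
    have h2 : Nat.card ℤˣ = 2 := by
      rw [Nat.card_eq_fintype_card]
      rfl
    rw [h1, h2, mul_comm]
  · intro N
    have : NeZero (2 * (N + 1)) := ⟨by omega⟩
    have hcard : Fintype.card (ZMod (2 * (N + 1)) ⊕ ZMod (2 * (N + 1))) = 2 * (2 * (N + 1)) := by
      rw [Fintype.card_sum, ZMod.card]; ring
    obtain ⟨φ, h1, h2⟩ := main p (2 * (N + 1)) hp (by omega) ⟨N + 1, by ring⟩ (2 * (2 * (N + 1)))
      (Fintype.equivFinOfCardEq hcard)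
    exact ⟨2 * (2 * (N + 1)), by omega, φ, h1, h2⟩

end Cfsg.Agent.S2533
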