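import Cfsg.Statements.S2510
import Mathlib
import Cfsg.Agent.S2364
import Cfsg.Agent.S2533
import Cfsg.Agent.S2468
import Cfsg.Agent.S2495

set_option autoImplicit false
open Cfsg

namespace Cfsg.Agent.S2510

/-- abstract hypotheses on a spectrum -/
structure Spec (S : Set ℕ) (r c₁ c₆ : ℕ) : Prop where
  dvd_closed : ∀ x ∈ S, ∀ d, d ∣ x → d ∈ S
  r_mem : r ∈ S
  c_mem : c₁ ∈ S
  tri : ∀ x ∈ S, Nat.lcm x r ∈ S ∨ x ∣ c₁ ∨ x = c₆

theorem arith3 {S : Set ℕ} {r c₁ c₆ : ℕ} (h : Spec S r c₁ c₆) (x y z : ℕ) (hx : x ∈ S) (hy : y ∈ S)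
    (hz : z ∈ S) :
    ∃ x' ∈ S, ∃ y' ∈ S, ∃ z' ∈ S, Nat.lcm x' (Nat.lcm y' z') = Nat.lcm x (Nat.lcm y (Nat.lcm z r)) := by
  have h11 : ∀ u v, u ∣ c₁ → v ∣ c₁ → Nat.lcm u v ∈ S := fun u v hu hv =>
    h.dvd_closed _ h.c_mem _ (Nat.lcm_dvd hu hv)
  rcases h.tri x hx with hxa | hx'
  · exact ⟨_, hxa, y, hy, z, hz, by ac_rfl⟩
  rcases h.tri y hy with hya | hy'
  · exact ⟨x, hx, _, hya, z, hz, by ac_rfl⟩
  rcases h.tri z hz with hza | hz'
  · exact ⟨x, hx, y, hy, _, hza, by ac_rfl⟩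
  -- none absorbing
  rcases hx' with hx1 | hx6 <;> rcases hy' with hy1 | hy6 <;> rcases hz' with hz1 | hz6
  · exact ⟨_, h11 x y hx1 hy1, z, hz, r, h.r_mem, by ac_rfl⟩
  · exact ⟨_, h11 x y hx1 hy1, z, hz, r, h.r_mem, by ac_rfl⟩
  · exact ⟨_, h11 x z hx1 hz1, y, hy, r, h.r_mem, by ac_rfl⟩
  · refine ⟨x, hx, y, hy, r, h.r_mem, ?_⟩
    rw [hz6, ← hy6]
    have : Nat.lcm y (Nat.lcm y r) = Nat.lcm y r := by
      rw [← Nat.lcm_assoc, Nat.lcm_self]
    rw [this]
  · exact ⟨x, hx, _, h11 y z hy1 hz1, r, h.r_mem, by ac_rfl⟩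
  · refine ⟨x, hx, y, hy, r, h.r_mem, ?_⟩
    rw [hz6, ← hx6]
    have : Nat.lcm x (Nat.lcm y (Nat.lcm x r)) = Nat.lcm (Nat.lcm x x) (Nat.lcm y r) := by ac_rfl
    rw [this, Nat.lcm_self]
  · refine ⟨x, hx, z, hz, r, h.r_mem, ?_⟩
    rw [hy6, ← hx6]
    have : Nat.lcm x (Nat.lcm x (Nat.lcm z r)) = Nat.lcm (Nat.lcm x x) (Nat.lcm z r) := by ac_rfl
    rw [this, Nat.lcm_self]
  · refine ⟨x, hx, z, hz, r, h.r_mem, ?_⟩
    rw [hy6, ← hx6]
    have : Nat.lcm x (Nat.lcm x (Nat.lcm z r)) = Nat.lcm (Nat.lcm x x) (Nat.lcm z r) := by ac_rfl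
    rw [this, Nat.lcm_self]

theorem arith2 {S : Set ℕ} {r c₁ c₆ : ℕ} (h : Spec S r c₁ c₆)
    (h6 : ∀ x ∈ S, Nat.lcm x r ∈ S ∨ x ∣ c₁) (x y : ℕ) (hx : x ∈ S) (hy : y ∈ S) :
    ∃ x' ∈ S, ∃ y' ∈ S, Nat.lcm x' y' = Nat.lcm x (Nat.lcm y r) := by
  rcases h6 x hx with hxa | hx1
  · exact ⟨_, hxa, y, hy, by ac_rfl⟩
  rcases h6 y hy with hya | hy1
  · exact ⟨x, hx, _, hya, rfl⟩
  · exact ⟨_, h.dvd_closed _ h.c_mem _ (Nat.lcm_dvd hx1 hy1), r, h.r_mem, by ac_rfl⟩

theorem orderOf_elem (r m : ℕ) (hr : r.Prime) (e : Multiplicative (Fin m → ZMod r)) :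
    orderOf e = 1 ∨ orderOf e = r := by
  have h1 : e ^ r = 1 := by
    apply Multiplicative.toAdd.injective
    rw [toAdd_pow, toAdd_one]
    funext i
    simp
  exact (Nat.dvd_prime hr).1 (orderOf_dvd_of_pow_eq_one h1)

theorem claim1 {L : Type*} [Group L] (r m c₁ c₆ : ℕ) (hr : r.Prime)
    (h : Spec (Set.range (orderOf : L → ℕ)) r c₁ c₆) :
    Set.range (orderOf : L × L × L × Multiplicative (Fin m → ZMod r) → ℕ) =
      Set.range (orderOf : L × L × L → ℕ) := by
  ext N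
  constructor
  · rintro ⟨⟨a, b, c, e⟩, rfl⟩
    rw [Prod.orderOf_mk, Prod.orderOf_mk, Prod.orderOf_mk]
    rcases orderOf_elem r m hr e with he | he
    · refine ⟨(a, b, c), ?_⟩
      rw [Prod.orderOf_mk, Prod.orderOf_mk, he, Nat.lcm_one_right]
    · obtain ⟨x', ⟨a', rfl⟩, y', ⟨b', rfl⟩, z', ⟨c', rfl⟩, hl⟩ :=
        arith3 h (orderOf a) (orderOf b) (orderOf c) ⟨a, rfl⟩ ⟨b, rfl⟩ ⟨c, rfl⟩
      refine ⟨(a', b', c'), ?_⟩
      rw [Prod.orderOf_mk, Prod.orderOf_mk, he, hl]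
  · rintro ⟨⟨a, b, c⟩, rfl⟩
    refine ⟨(a, b, c, 1), ?_⟩
    rw [Prod.orderOf_mk, Prod.orderOf_mk, Prod.orderOf_mk, Prod.orderOf_mk, Prod.orderOf_mk,
      orderOf_one, Nat.lcm_one_right]

theorem claim2 {L : Type*} [Group L] (r m c₁ c₆ : ℕ) (hr : r.Prime)
    (h : Spec (Set.range (orderOf : L → ℕ)) r c₁ c₆)
    (h6 : ∀ x ∈ Set.range (orderOf : L → ℕ),
      Nat.lcm x r ∈ Set.range (orderOf : L → ℕ) ∨ x ∣ c₁) :
    Set.range (orderOf : L × L × Multiplicative (Fin m → ZMod r) → ℕ) =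
      Set.range (orderOf : L × L → ℕ) := by
  ext N
  constructor
  · rintro ⟨⟨a, b, e⟩, rfl⟩
    rw [Prod.orderOf_mk, Prod.orderOf_mk]
    rcases orderOf_elem r m hr e with he | he
    · refine ⟨(a, b), ?_⟩
      rw [Prod.orderOf_mk, he, Nat.lcm_one_right]
    · obtain ⟨x', ⟨a', rfl⟩, y', ⟨b', rfl⟩, hl⟩ :=
        arith2 h h6 (orderOf a) (orderOf b) ⟨a, rfl⟩ ⟨b, rfl⟩
      refine ⟨(a', b'), ?_⟩
      rw [Prod.orderOf_mk, he, hl]
  · rintro ⟨⟨a, b⟩, rfl⟩
    refine ⟨(a, b, 1), ?_⟩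
    rw [Prod.orderOf_mk, Prod.orderOf_mk, Prod.orderOf_mk, orderOf_one, Nat.lcm_one_right]

section Absorb

variable {F : Type*} [Field F]

open Matrix

/-- powers of `1 + (ζ - 1) P` -/
theorem idem_pow {ι : Type*} [Fintype ι] [DecidableEq ι] (P : Matrix ι ι F) (hP : P * P = P)
    (ζ : F) (j : ℕ) :
    (1 + (ζ - 1) • P) ^ j = 1 + (ζ ^ j - 1) • P := by
  induction j with
  | zero => simp
  | succ j ih =>
    rw [pow_succ, ih]
    have : (1 + (ζ ^ j - 1) • P) * (1 + (ζ - 1) • P) =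
        1 + ((ζ ^ j - 1) + (ζ - 1) + (ζ ^ j - 1) * (ζ - 1)) • P := by
      rw [add_mul, mul_add, mul_add, one_mul, mul_one, one_mul, smul_mul_smul_comm, hP]
      module
    rw [this]
    congr 2
    ring

/-- a scalar multiple of `1 + (ζ - 1) P` is scalar only if `ζ = 1` -/
theorem idem_scalar {ι : Type*} [Fintype ι] [DecidableEq ι] (P : Matrix ι ι F) (hP : P * P = P)
    (hP0 : P ≠ 0) (hP1 : P ≠ 1) (z c : F) (h : 1 + (z - 1) • P = c • (1 : Matrix ι ι F)) : z = 1 := by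
  have h1 : (z - 1) • P = (c - 1) • (1 : Matrix ι ι F) := by
    rw [sub_smul c, ← h]; module
  have h2 : (z - c) • P = 0 := by
    have := congrArg (fun M => M * P) h1
    simp only [smul_mul_assoc, hP, one_mul] at this
    have e : (z - c) • P = (z - 1) • P - (c - 1) • P := by module
    rw [e, this, sub_self]
  have hzc : z = c := by
    rcases smul_eq_zero.1 h2 with h3 | h3
    · exact sub_eq_zero.1 h3
    · exact absurd h3 hP0
  subst hzc
  by_contra hne
  apply hP1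
  have h3 : (z - 1) • (P - 1) = 0 := by
    rw [smul_sub, h1, sub_self]
  rcases smul_eq_zero.1 h3 with h4 | h4
  · exact absurd (sub_eq_zero.1 h4) hne
  · exact sub_eq_zero.1 h4

end Absorb

section Absorb2

variable {F : Type*} [Field F] [Fintype F]

open Matrix

/-- a scalar matrix power in `SL` kills the image in `PSL` -/
theorem dvd_of_pow_scalar (n : ℕ) (A : Matrix.SpecialLinearGroup (Fin n) F) (j : ℕ) (c : F)
    (h : A.1 ^ j = c • (1 : Matrix (Fin n) (Fin n) F)) :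
    orderOf (QuotientGroup.mk A : Matrix.ProjectiveSpecialLinearGroup (Fin n) F) ∣ j := by
  apply orderOf_dvd_of_pow_eq_one
  by_contra hne
  rw [← QuotientGroup.mk_pow] at hne
  exact Cfsg.Agent.S2364.not_scalar n (A ^ j) hne c (by rw [Matrix.SpecialLinearGroup.coe_pow]; exact h)

theorem absorb {ι : Type*} [Fintype ι] [DecidableEq ι] (n : ℕ) (hn : 1 ≤ n)
    (hcard : Fintype.card ι = n)
    (r : ℕ) (hr : r.Prime) (hrq : r ∣ Fintype.card F - 1) (hrn : ¬ r ∣ n)
    (B P : Matrix ι ι F) (hdet : B.det = 1) (hPP : P * P = P) (hP0 : P ≠ 0) (hP1 : P ≠ 1)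
    (hBP : B * P = P * B) (x : ℕ) (hx : ∀ (j : ℕ) (c : F), B ^ j = c • (1 : Matrix ι ι F) → x ∣ j) :
    ∃ g : Matrix.ProjectiveSpecialLinearGroup (Fin n) F, Nat.lcm x r ∣ orderOf g := by
  classical
  have : Fact r.Prime := ⟨hr⟩
  -- an element of order r in F
  obtain ⟨ζu, hζu⟩ := exists_prime_orderOf_dvd_card' (G := Fˣ) r (by
    rw [Nat.card_units, Nat.card_eq_fintype_card]; exact hrq)
  set ζ : F := (ζu : F) with hζdef
  have hζpow : ∀ j : ℕ, ζ ^ j = 1 ↔ r ∣ j := by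
    intro j
    rw [hζdef, ← Units.val_pow_eq_pow_val, Units.val_eq_one, ← hζu, orderOf_dvd_iff_pow_eq_one]
  set H₀ : Matrix ι ι F := 1 + (ζ - 1) • P with hH₀
  have hH₀pow : ∀ j : ℕ, H₀ ^ j = 1 + (ζ ^ j - 1) • P := fun j => idem_pow P hPP ζ j
  have hH₀r : H₀ ^ r = 1 := by
    rw [hH₀pow, (hζpow r).2 dvd_rfl, sub_self, zero_smul, add_zero]
  set δ : F := H₀.det with hδ
  have hδr : δ ^ r = 1 := by rw [hδ, ← Matrix.det_pow, hH₀r, Matrix.det_one]
  -- scalar correction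
  have hcop : Nat.Coprime n r := by
    rw [Nat.coprime_comm]
    exact (Nat.Prime.coprime_iff_not_dvd hr).2 hrn
  obtain ⟨s, -, hs⟩ := Nat.exists_mul_mod_eq_one_of_coprime hcop hr.one_lt
  set ν : F := (δ⁻¹) ^ s with hν
  have hνr : ν ^ r = 1 := by
    rw [hν, ← pow_mul, mul_comm, pow_mul, inv_pow, hδr, inv_one, one_pow]
  have hνn : ν ^ n * δ = 1 := by
    have h1 : (δ⁻¹) ^ (n * s) = δ⁻¹ := by
      have h2 : n * s = r * (n * s / r) + 1 := by
        have := Nat.div_add_mod (n * s) r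
        omega
      rw [h2, pow_succ, pow_mul, inv_pow, hδr, inv_one, one_pow, one_mul]
    have hδ0 : δ ≠ 0 := by
      intro h0
      rw [h0, zero_pow hr.ne_zero] at hδr
      exact zero_ne_one hδr
    rw [hν, ← pow_mul, mul_comm s n, h1, inv_mul_cancel₀ hδ0]
  have hν0 : ν ≠ 0 := by
    intro h0
    rw [h0, zero_pow hr.ne_zero] at hνr
    exact zero_ne_one hνr
  set H : Matrix ι ι F := ν • H₀ with hH
  have hHdet : H.det = 1 := by
    rw [hH, Matrix.det_smul, hcard, ← hδ, hνn]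
  have hHpow : ∀ j : ℕ, H ^ j = ν ^ j • (1 + (ζ ^ j - 1) • P) := by
    intro j
    rw [hH, smul_pow, hH₀pow]
  have hHr : H ^ r = 1 := by
    rw [hHpow, hνr, one_smul, (hζpow r).2 dvd_rfl, sub_self, zero_smul, add_zero]
  have hHsc : ∀ (j : ℕ) (c : F), H ^ j = c • (1 : Matrix ι ι F) → r ∣ j := by
    intro j c hj
    rw [hHpow] at hj
    have h1 : (1 : Matrix ι ι F) + (ζ ^ j - 1) • P = ((ν ^ j)⁻¹ * c) • (1 : Matrix ι ι F) := by
      rw [mul_smul, ← hj, smul_smul, inv_mul_cancel₀ (pow_ne_zero j hν0), one_smul]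
    exact (hζpow j).1 (idem_scalar P hPP hP0 hP1 _ _ h1)
  have hBH : B * H = H * B := by
    rw [hH, hH₀]
    rw [mul_smul_comm, smul_mul_assoc, mul_add, add_mul, mul_one, one_mul, mul_smul_comm,
      smul_mul_assoc, hBP]
  -- transport
  let e : ι ≃ Fin n := Fintype.equivFinOfCardEq hcard
  let Φ := Matrix.reindexAlgEquiv F F e
  let gB : Matrix.SpecialLinearGroup (Fin n) F := Cfsg.Agent.S2533.slMap F e ⟨B, hdet⟩
  let gH : Matrix.SpecialLinearGroup (Fin n) F := Cfsg.Agent.S2533.slMap F e ⟨H, hHdet⟩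
  have hgB : gB.1 = Φ B := rfl
  have hgH : gH.1 = Φ H := rfl
  have hback : ∀ (M : Matrix ι ι F) (j : ℕ) (c : F),
      (Φ M) ^ j = c • (1 : Matrix (Fin n) (Fin n) F) → M ^ j = c • (1 : Matrix ι ι F) := by
    intro M j c h
    apply Φ.injective
    rw [map_pow, h, map_smul, map_one]
  have hcomm : Commute (QuotientGroup.mk gB : Matrix.ProjectiveSpecialLinearGroup (Fin n) F)
      (QuotientGroup.mk gH) := by
    have h1 : gB * gH = gH * gB := by
      apply Subtype.ext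
      rw [Matrix.SpecialLinearGroup.coe_mul, Matrix.SpecialLinearGroup.coe_mul, hgB, hgH,
        ← map_mul, ← map_mul, hBH]
    change (QuotientGroup.mk gB : Matrix.ProjectiveSpecialLinearGroup (Fin n) F) * QuotientGroup.mk gH =
      QuotientGroup.mk gH * QuotientGroup.mk gB
    rw [← QuotientGroup.mk_mul, ← QuotientGroup.mk_mul, h1]
  have hxB : x ∣ orderOf (QuotientGroup.mk gB : Matrix.ProjectiveSpecialLinearGroup (Fin n) F) := by
    obtain ⟨c, -, hc⟩ := Cfsg.Agent.S2364.pow_central n hn gB _ (pow_orderOf_eq_one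
      (QuotientGroup.mk gB : Matrix.ProjectiveSpecialLinearGroup (Fin n) F))
    change gB.1 ^ _ = _ at hc
    rw [hgB] at hc
    exact hx _ c (hback B _ c hc)
  have hordH : orderOf (QuotientGroup.mk gH : Matrix.ProjectiveSpecialLinearGroup (Fin n) F) = r := by
    apply orderOf_eq_prime
    · rw [← QuotientGroup.mk_pow]
      have : gH ^ r = 1 := by
        apply Subtype.ext
        rw [Matrix.SpecialLinearGroup.coe_pow, hgH, ← map_pow, hHr, map_one]
        rfl
      rw [this]; rfl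
    · intro h1
      have h2 : (QuotientGroup.mk gH : Matrix.ProjectiveSpecialLinearGroup (Fin n) F) ^ 1 = 1 := by
        rw [pow_one, h1]
      obtain ⟨c, -, hc⟩ := Cfsg.Agent.S2364.pow_central n hn gH 1 h2
      change gH.1 ^ 1 = _ at hc
      rw [hgH] at hc
      have := hHsc 1 c (hback H 1 c hc)
      exact hr.one_lt.ne' (Nat.dvd_one.1 this)
  by_cases hro : r ∣ orderOf (QuotientGroup.mk gB : Matrix.ProjectiveSpecialLinearGroup (Fin n) F)
  · exact ⟨QuotientGroup.mk gB, Nat.lcm_dvd hxB hro⟩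
  · refine ⟨QuotientGroup.mk gB * QuotientGroup.mk gH, ?_⟩
    have hcop2 : Nat.Coprime (orderOf (QuotientGroup.mk gB : Matrix.ProjectiveSpecialLinearGroup (Fin n) F))
        (orderOf (QuotientGroup.mk gH : Matrix.ProjectiveSpecialLinearGroup (Fin n) F)) := by
      rw [hordH, Nat.coprime_comm]
      exact (Nat.Prime.coprime_iff_not_dvd hr).2 hro
    rw [hcomm.orderOf_mul_eq_mul_orderOf_of_coprime hcop2, hordH]
    exact Nat.lcm_dvd (dvd_mul_of_dvd_left hxB _) (dvd_mul_left _ _)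

end Absorb2

section Comp

open Polynomial

variable {F : Type*} [Field F]

theorem exists_comp (μ : F[X]) (hμ : μ.Monic) (d : ℕ) (hd : μ.natDegree = d) :
    ∃ C : Matrix (Fin d) (Fin d) F, ∀ g : F[X], aeval C g = 0 ↔ μ ∣ g := by
  classical
  subst hd
  let pb := AdjoinRoot.powerBasis' hμ
  have hdim : pb.dim = μ.natDegree := AdjoinRoot.powerBasis'_dim hμ
  let b' : Module.Basis (Fin μ.natDegree) F (AdjoinRoot μ) := pb.basis.reindex (finCongr hdim)
  refine ⟨Algebra.leftMulMatrix b' (AdjoinRoot.root μ), ?_⟩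
  intro g
  rw [Polynomial.aeval_algHom_apply, AdjoinRoot.aeval_eq]
  constructor
  · intro h
    rw [← AdjoinRoot.mk_eq_zero]
    apply Algebra.leftMulMatrix_injective b'
    rw [h, map_zero]
  · intro h
    rw [AdjoinRoot.mk_eq_zero.2 h, map_zero]

theorem aeval_pow_sub {R : Type*} [Ring R] [Algebra F R] (M : R) (j : ℕ) (c : F) :
    aeval M (X ^ j - C c : F[X]) = M ^ j - c • (1 : R) := by
  simp [Algebra.algebraMap_eq_smul_one]

theorem pow_eq_smul_iff {R : Type*} [Ring R] [Algebra F R] (M : R) (j : ℕ) (c : F) :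
    M ^ j = c • (1 : R) ↔ aeval M (X ^ j - C c : F[X]) = 0 := by
  rw [aeval_pow_sub, sub_eq_zero]

end Comp

section Cases

open Polynomial Matrix

variable {F : Type*} [Field F] [Fintype F]

theorem minpoly_monic' {n : ℕ} (A : Matrix (Fin n) (Fin n) F) : (minpoly F A).Monic :=
  minpoly.monic (Matrix.isIntegral A)

/-- block diagonal matrix with an adjustable determinant -/
theorem case_a (n : ℕ) (hn : 1 ≤ n) (r : ℕ) (hr : r.Prime) (hrq : r ∣ Fintype.card F - 1)
    (hrn : ¬ r ∣ n) (A : Matrix.SpecialLinearGroup (Fin n) F)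
    (hdeg : (minpoly F A.1).natDegree < n) :
    ∃ g : Matrix.ProjectiveSpecialLinearGroup (Fin n) F,
      Nat.lcm (orderOf (QuotientGroup.mk A : Matrix.ProjectiveSpecialLinearGroup (Fin n) F)) r ∣
        orderOf g := by
  classical
  set μ := minpoly F A.1 with hμdef
  have hμ : μ.Monic := minpoly_monic' A.1
  have : NeZero n := ⟨by omega⟩
  obtain ⟨d, hd⟩ : ∃ d, μ.natDegree = d := ⟨_, rfl⟩
  obtain ⟨C, hC⟩ := exists_comp μ hμ d hd
  rw [hd] at hdeg
  have hd1 : 1 ≤ d := by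
    rw [← hd]
    exact minpoly.natDegree_pos (Matrix.isIntegral A.1)
  obtain ⟨k, hk⟩ : ∃ k, n = d + (k + 1) := ⟨n - d - 1, by omega⟩
  -- C has finite order
  have hCpow : ∀ (j : ℕ) (c : F), C ^ j = c • (1 : Matrix (Fin d) (Fin d) F) →
      A.1 ^ j = c • (1 : Matrix (Fin n) (Fin n) F) := by
    intro j c h
    rw [pow_eq_smul_iff, hC] at h
    rw [pow_eq_smul_iff, ← minpoly.dvd_iff]
    exact h
  have hCdet : C.det ≠ 0 := by
    have h1 : A.1 ^ orderOf A = (1 : F) • (1 : Matrix (Fin n) (Fin n) F) := by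
      rw [one_smul, ← Matrix.SpecialLinearGroup.coe_pow, pow_orderOf_eq_one]; rfl
    rw [pow_eq_smul_iff, ← minpoly.dvd_iff, ← hμdef, ← hC, ← pow_eq_smul_iff, one_smul] at h1
    intro h0
    have h2 := congrArg Matrix.det h1
    rw [Matrix.det_pow, h0, Matrix.det_one, zero_pow (orderOf_pos A).ne'] at h2
    exact zero_ne_one h2
  set D : Matrix (Fin (k + 1)) (Fin (k + 1)) F :=
    Matrix.diagonal (fun i => if i = 0 then C.det⁻¹ else 1) with hD
  have hDdet : D.det = C.det⁻¹ := by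
    rw [hD, Matrix.det_diagonal, Finset.prod_ite_eq' Finset.univ (0 : Fin (k + 1))]
    simp
  set B : Matrix (Fin d ⊕ Fin (k + 1)) (Fin d ⊕ Fin (k + 1)) F := Matrix.fromBlocks C 0 0 D with hB
  have hBdet : B.det = 1 := by
    rw [hB, Matrix.det_fromBlocks_zero₁₂, hDdet, mul_inv_cancel₀ hCdet]
  set P : Matrix (Fin d ⊕ Fin (k + 1)) (Fin d ⊕ Fin (k + 1)) F := Matrix.fromBlocks 1 0 0 0 with hP
  have hPP : P * P = P := by
    rw [hP, Matrix.fromBlocks_multiply]
    simp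
  have hP0 : P ≠ 0 := by
    intro h
    have := congrFun (congrFun h (Sum.inl ⟨0, hd1⟩)) (Sum.inl ⟨0, hd1⟩)
    simp [hP] at this
  have hP1 : P ≠ 1 := by
    intro h
    have := congrFun (congrFun h (Sum.inr 0)) (Sum.inr 0)
    simp [hP] at this
  have hBP : B * P = P * B := by
    rw [hB, hP, Matrix.fromBlocks_multiply, Matrix.fromBlocks_multiply]
    simp
  have hcard : Fintype.card (Fin d ⊕ Fin (k + 1)) = n := by
    rw [Fintype.card_sum, Fintype.card_fin, Fintype.card_fin]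
    omega
  apply absorb (ι := Fin d ⊕ Fin (k + 1)) n hn hcard r hr hrq hrn B P hBdet hPP hP0 hP1 hBP
  intro j c h
  rw [hB, Cfsg.Agent.S2468.fromBlocks_pow', Cfsg.Agent.S2468.fromBlocks_eq_smul_one] at h
  exact dvd_of_pow_scalar n A j c (hCpow j c h.1)

theorem aeval_comm {n : ℕ} (A : Matrix (Fin n) (Fin n) F) (g : F[X]) :
    A * aeval A g = aeval A g * A := by
  have h1 : A * aeval A g = aeval A (X * g) := by rw [map_mul, aeval_X]
  have h2 : aeval A g * A = aeval A (g * X) := by rw [map_mul, aeval_X]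
  rw [h1, h2, mul_comm]

theorem case_b (n : ℕ) (hn : 1 ≤ n) (r : ℕ) (hr : r.Prime) (hrq : r ∣ Fintype.card F - 1)
    (hrn : ¬ r ∣ n) (A : Matrix.SpecialLinearGroup (Fin n) F) (a b : F[X])
    (hab : minpoly F A.1 = a * b) (hcop : IsCoprime a b) (ha : ¬ IsUnit a) (hb : ¬ IsUnit b) :
    ∃ g : Matrix.ProjectiveSpecialLinearGroup (Fin n) F,
      Nat.lcm (orderOf (QuotientGroup.mk A : Matrix.ProjectiveSpecialLinearGroup (Fin n) F)) r ∣
        orderOf g := by
  classical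
  obtain ⟨u, v, huv⟩ := hcop
  have hμ0 : minpoly F A.1 ≠ 0 := (minpoly_monic' A.1).ne_zero
  have ha0 : a ≠ 0 := by
    rintro rfl
    rw [zero_mul] at hab
    exact hμ0 hab
  have hb0 : b ≠ 0 := by
    rintro rfl
    rw [mul_zero] at hab
    exact hμ0 hab
  set P : Matrix (Fin n) (Fin n) F := aeval A.1 (u * a) with hP
  have hzero : aeval A.1 (a * b) = 0 := by rw [← hab]; exact minpoly.aeval F A.1
  have hPP : P * P = P := by
    rw [hP, ← map_mul]
    have e : u * a * (u * a) = u * a - (u * v) * (a * b) := by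
      have : u * a = 1 - v * b := by rw [← huv]; ring
      calc u * a * (u * a) = u * a * (1 - v * b) := by rw [← this]
        _ = u * a - (u * v) * (a * b) := by ring
    rw [e, map_sub, map_mul _ (u * v), hzero, mul_zero, sub_zero]
  have hP0 : P ≠ 0 := by
    intro h
    rw [hP, ← minpoly.dvd_iff, hab] at h
    -- a * b ∣ u * a → b ∣ u
    have h1 : b ∣ u := by
      have : a * b ∣ a * u := by rwa [mul_comm u a] at h
      exact (mul_dvd_mul_iff_left ha0).1 this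
    apply hb
    apply isUnit_of_dvd_one
    rw [← huv]
    exact dvd_add (dvd_mul_of_dvd_left h1 _) (dvd_mul_left _ _)
  have hP1 : P ≠ 1 := by
    intro h
    have h2 : aeval A.1 (v * b) = 0 := by
      have : v * b = 1 - u * a := by rw [← huv]; ring
      rw [this, map_sub, map_one, ← hP, h, sub_self]
    rw [← minpoly.dvd_iff, hab] at h2
    have h1 : a ∣ v := by
      have : b * a ∣ b * v := by rwa [mul_comm v b, mul_comm a b] at h2
      exact (mul_dvd_mul_iff_left hb0).1 this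
    apply ha
    apply isUnit_of_dvd_one
    rw [← huv]
    exact dvd_add (dvd_mul_left _ _) (dvd_mul_of_dvd_left h1 _)
  apply absorb (ι := Fin n) n hn (Fintype.card_fin n) r hr hrq hrn A.1 P A.2 hPP hP0 hP1
    (aeval_comm A.1 _)
  intro j c h
  exact dvd_of_pow_scalar n A j c h

end Cases

section Irr

open Polynomial Matrix

variable {F : Type*} [Field F]

theorem aeval_mulVec_mem {n : ℕ} (A : Matrix (Fin n) (Fin n) F) (W : Submodule F (Fin n → F))
    (hW : ∀ w ∈ W, A.mulVec w ∈ W) (g : F[X]) : ∀ w ∈ W, (aeval A g).mulVec w ∈ W := by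
  induction g using Polynomial.induction_on' with
  | add g₁ g₂ h₁ h₂ =>
    intro w hw
    rw [map_add, Matrix.add_mulVec]
    exact W.add_mem (h₁ w hw) (h₂ w hw)
  | monomial k c =>
    intro w hw
    rw [aeval_monomial, Algebra.algebraMap_eq_smul_one, smul_mul_assoc, one_mul, Matrix.smul_mulVec]
    exact W.smul_mem _ (Cfsg.Agent.S2495.mulVec_pow_mem A W hW k w hw)

theorem hirr_of_minpoly {n : ℕ} (A : Matrix (Fin n) (Fin n) F)
    (hirr : Irreducible (minpoly F A)) (hdeg : (minpoly F A).natDegree = n)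
    (W : Submodule F (Fin n → F)) (hW : ∀ w ∈ W, A.mulVec w ∈ W) : W = ⊥ ∨ W = ⊤ := by
  classical
  by_cases hbot : W = ⊥
  · exact Or.inl hbot
  right
  obtain ⟨w, hwW, hw0⟩ := (Submodule.ne_bot_iff W).1 hbot
  let evw : Matrix (Fin n) (Fin n) F →ₗ[F] (Fin n → F) :=
    { toFun := fun M => M.mulVec w
      map_add' := fun M N => Matrix.add_mulVec M N w
      map_smul' := fun c M => Matrix.smul_mulVec c M w }
  let φ : degreeLT F n →ₗ[F] (Fin n → F) :=
    evw ∘ₗ (aeval A).toLinearMap ∘ₗ (degreeLT F n).subtype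
  have hφ : ∀ g : degreeLT F n, φ g = (aeval A g.1).mulVec w := fun g => rfl
  have hinj : Function.Injective φ := by
    rw [← LinearMap.ker_eq_bot, Submodule.eq_bot_iff]
    intro g hg
    rw [LinearMap.mem_ker, hφ] at hg
    have hdvd : minpoly F A ∣ g.1 := by
      by_contra hnd
      obtain ⟨u, v, huv⟩ := hirr.coprime_iff_not_dvd.2 hnd
      apply hw0
      have h1 : (aeval A (u * minpoly F A + v * g.1)).mulVec w = w := by
        rw [huv, map_one, Matrix.one_mulVec]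
      rw [map_add, map_mul, map_mul, minpoly.aeval, mul_zero, zero_add, ← Matrix.mulVec_mulVec, hg,
        Matrix.mulVec_zero] at h1
      exact h1.symm
    have hlt : g.1.degree < (minpoly F A).degree := by
      have h1 := Polynomial.mem_degreeLT.1 g.2
      rw [Polynomial.degree_eq_natDegree hirr.ne_zero, hdeg]
      exact h1
    apply Subtype.ext
    exact Polynomial.eq_zero_of_dvd_of_degree_lt hdvd hlt
  have hfr : Module.finrank F (degreeLT F n) = Module.finrank F (Fin n → F) :=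
    LinearEquiv.finrank_eq (degreeLTEquiv F n)
  have hsurj : Function.Surjective φ :=
    (LinearMap.injective_iff_surjective_of_finrank_eq_finrank hfr).1 hinj
  rw [eq_top_iff]
  intro v _
  obtain ⟨g, rfl⟩ := hsurj v
  rw [hφ]
  exact aeval_mulVec_mem A W hW g.1 w hwW

end Irr

section TypeOne

open Polynomial Matrix

variable {F : Type*} [Field F] [Fintype F]

/-- the number `(q^n-1)/(q-1)` -/
def Nn (q n : ℕ) : ℕ := ∑ i ∈ Finset.range n, q ^ i

theorem Nn_mul (q n : ℕ) (hq : 1 ≤ q) : q ^ n - 1 = (q - 1) * Nn q n := by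
  have h := geom_sum_mul_add (q - 1) n
  rw [Nat.sub_add_cancel hq] at h
  rw [Nn, ← h, mul_comm]
  simp

theorem Nn_pos (q n : ℕ) (hq : 1 ≤ q) (hn : 1 ≤ n) : 0 < Nn q n := by
  rw [Nn]
  apply Finset.sum_pos
  · intro i _
    exact Nat.pow_pos (by omega)
  · exact ⟨0, Finset.mem_range.2 (by omega)⟩

/-- the number `(q^n-1)/((q-1) gcd(n,q-1))` -/
def c1 (q n : ℕ) : ℕ := Nn q n / Nat.gcd (Nn q n) (q - 1)

theorem dvd_mul_iff_div_gcd (N Q k : ℕ) (hN : 0 < N) : N ∣ k * Q ↔ N / Nat.gcd N Q ∣ k := by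
  obtain ⟨N', Q', hcop, hN', hQ'⟩ := Nat.exists_coprime N Q
  have hg0 : 0 < Nat.gcd N Q := Nat.gcd_pos_of_pos_left _ hN
  generalize Nat.gcd N Q = g at *
  have e1 : N / g = N' := Nat.div_eq_of_eq_mul_left hg0 hN'
  rw [e1, hN', hQ']
  have e : k * (Q' * g) = (k * Q') * g := by ring
  rw [e, Nat.mul_dvd_mul_iff_right hg0]
  constructor
  · intro h
    exact hcop.dvd_of_dvd_mul_right h
  · intro h
    exact dvd_mul_of_dvd_left h _

theorem dvd_mul_iff_c1 (q n k : ℕ) (hq : 2 ≤ q) (hn : 1 ≤ n) :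
    Nn q n ∣ k * (q - 1) ↔ c1 q n ∣ k :=
  dvd_mul_iff_div_gcd _ _ _ (Nn_pos q n (by omega) hn)

theorem case_irred (p : ℕ) [Fact p.Prime] [CharP F p] (n : ℕ) (hn : 1 ≤ n)
    (A : Matrix.SpecialLinearGroup (Fin n) F)
    (hirr : Irreducible (minpoly F A.1)) (hdeg : (minpoly F A.1).natDegree = n) :
    orderOf (QuotientGroup.mk A : Matrix.ProjectiveSpecialLinearGroup (Fin n) F) ∣
      c1 (Fintype.card F) n := by
  classical
  have : NeZero n := ⟨by omega⟩
  set q := Fintype.card F with hqdef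
  have hq : 1 < q := Fintype.one_lt_card
  obtain ⟨ψ, θ, hθ, hdet⟩ := Cfsg.Agent.S2495.field_model p n A.1 (hirr_of_minpoly A.1 hirr hdeg)
  have hnorm : Algebra.norm F θ = 1 := by
    rw [← hdet, hθ]; exact A.2
  have hcardK : Nat.card (FiniteField.Extension F p n) = q ^ n := by
    rw [FiniteField.natCard_extension, Nat.card_eq_fintype_card]
  have hθN : θ ^ (Nn q n) = 1 := by
    have h := FiniteField.algebraMap_norm_eq_pow (K := F) (K' := FiniteField.Extension F p n) (x := θ)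
    rw [hnorm, map_one, hcardK, Nat.card_eq_fintype_card, ← hqdef, Nn_mul q n (by omega),
      Nat.mul_div_cancel_left _ (by omega : 0 < q - 1)] at h
    exact h.symm
  have hθ0 : θ ≠ 0 := by
    rintro rfl
    rw [zero_pow (Nn_pos q n (by omega) hn).ne'] at hθN
    exact zero_ne_one hθN
  apply orderOf_dvd_of_pow_eq_one
  rw [Cfsg.Agent.S2495.proj_pow n hn ψ θ hθ0 A hθ.symm, ← hqdef]
  obtain ⟨t, ht⟩ := (dvd_mul_iff_c1 q n (c1 q n) (by omega) hn).2 dvd_rfl
  rw [ht, pow_mul, hθN, one_pow]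

theorem c1_mem (p : ℕ) [Fact p.Prime] [CharP F p] (n : ℕ) (hn : 2 ≤ n) :
    ∃ g : Matrix.ProjectiveSpecialLinearGroup (Fin n) F, orderOf g = c1 (Fintype.card F) n := by
  classical
  have : NeZero n := ⟨by omega⟩
  let K := FiniteField.Extension F p n
  have hfr : Module.finrank F K = n := FiniteField.finrank_extension F p n
  set q := Fintype.card F with hqdef
  have hq : 1 < q := Fintype.one_lt_card
  have hcardK : Nat.card K = q ^ n := by
    rw [FiniteField.natCard_extension, Nat.card_eq_fintype_card]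
  have hfac := Nn_mul q n (by omega)
  obtain ⟨ζ, hζ⟩ := IsCyclic.exists_generator (α := Kˣ)
  have hordζ : orderOf ζ = q ^ n - 1 := by
    rw [orderOf_eq_card_of_forall_mem_zpowers hζ, Nat.card_units, hcardK]
  let b : Module.Basis (Fin n) F K := Module.finBasisOfFinrankEq F K hfr
  let ψ : K →ₐ[F] Matrix (Fin n) (Fin n) F := Algebra.leftMulMatrix b
  set z : K := ((ζ ^ (q - 1) : Kˣ) : K) with hz
  have hzpow : ∀ k : ℕ, z ^ k = 1 ↔ Nn q n ∣ k := by
    intro k
    rw [hz, ← Units.val_pow_eq_pow_val, Units.val_eq_one, ← pow_mul, ← orderOf_dvd_iff_pow_eq_one,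
      hordζ, hfac, Nat.mul_dvd_mul_iff_left (by omega : 0 < q - 1)]
  have hnorm : Algebra.norm F z = 1 := by
    apply (algebraMap F K).injective
    rw [FiniteField.algebraMap_norm_eq_pow, map_one, hcardK, Nat.card_eq_fintype_card, ← hqdef,
      hfac, Nat.mul_div_cancel_left _ (by omega : 0 < q - 1), hzpow]
  have hdet : (ψ z).det = 1 := by
    rw [← hnorm, Algebra.norm_eq_matrix_det b]
  let g : Matrix.SpecialLinearGroup (Fin n) F := ⟨ψ z, hdet⟩
  have hz0 : z ≠ 0 := Units.ne_zero _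
  have key : ∀ k : ℕ, (QuotientGroup.mk g : Matrix.ProjectiveSpecialLinearGroup (Fin n) F) ^ k = 1 ↔
      c1 q n ∣ k := by
    intro k
    rw [Cfsg.Agent.S2495.proj_pow n (by omega) ψ z hz0 g rfl k, hzpow, ← hqdef,
      dvd_mul_iff_c1 q n k (by omega) (by omega)]
  refine ⟨QuotientGroup.mk g, ?_⟩
  apply Nat.dvd_antisymm
  · exact orderOf_dvd_of_pow_eq_one ((key _).2 dvd_rfl)
  · exact (key _).1 (pow_orderOf_eq_one _)

end TypeOne

section Struct

open Polynomial

variable {F : Type*} [Field F]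

theorem poly_struct (μ : F[X]) (h0 : μ ≠ 0) (hu : ¬ IsUnit μ) :
    (∃ a b : F[X], μ = a * b ∧ IsCoprime a b ∧ ¬ IsUnit a ∧ ¬ IsUnit b) ∨
    (∃ (f : F[X]) (e : ℕ) (u : F[X]), Irreducible f ∧ 1 ≤ e ∧ IsUnit u ∧ μ = f ^ e * u) := by
  obtain ⟨f, hf, hfμ⟩ := WfDvdMonoid.exists_irreducible_factor hu h0
  obtain ⟨e, a, hfa, hμ⟩ := WfDvdMonoid.max_power_factor h0 hf
  have he : 1 ≤ e := by
    rcases Nat.eq_zero_or_pos e with h | h
    · exfalso
      subst h
      rw [pow_zero, one_mul] at hμ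
      rw [hμ] at hfμ
      exact hfa hfμ
    · exact h
  by_cases hau : IsUnit a
  · exact Or.inr ⟨f, e, a, hf, he, hau, hμ⟩
  · left
    refine ⟨f ^ e, a, hμ, ?_, ?_, hau⟩
    · exact (hf.coprime_iff_not_dvd.2 hfa).pow_left
    · intro h
      exact hf.not_isUnit (isUnit_of_dvd_unit (dvd_pow_self f (by omega)) h)

end Struct

section IrrDvd

open Polynomial

variable {F : Type*} [Field F] [Fintype F]

theorem irr_dvd (f : F[X]) (hf : Irreducible f) :
    ∃ c₀ : F, f ∣ X ^ (Nn (Fintype.card F) f.natDegree) - C c₀ := by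
  classical
  have : Fact (Irreducible f) := ⟨hf⟩
  have hf0 : f ≠ 0 := hf.ne_zero
  have hfin : Module.Finite F (AdjoinRoot f) := (AdjoinRoot.powerBasis hf0).finite
  have : Finite (AdjoinRoot f) := Module.finite_of_finite F
  have hfr : Module.finrank F (AdjoinRoot f) = f.natDegree := by
    rw [PowerBasis.finrank (AdjoinRoot.powerBasis hf0)]
    exact AdjoinRoot.powerBasis_dim hf0
  refine ⟨Algebra.norm F (AdjoinRoot.root f), ?_⟩
  rw [← AdjoinRoot.mk_eq_zero, map_sub, map_pow, AdjoinRoot.mk_X, AdjoinRoot.mk_C, sub_eq_zero]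
  have h := FiniteField.algebraMap_norm_eq_pow_sum F (AdjoinRoot f) (AdjoinRoot.root f)
  rw [hfr, Nat.card_eq_fintype_card] at h
  rw [Nn]
  exact h.symm

theorem pow_dvd_of_dvd (p : ℕ) [Fact p.Prime] [CharP F p] (f : F[X]) (N : ℕ) (c₀ : F)
    (h : f ∣ X ^ N - C c₀) (e K : ℕ) (he : e ≤ p ^ K) :
    f ^ e ∣ X ^ (N * p ^ K) - C (c₀ ^ (p ^ K)) := by
  have h1 : (X ^ N - C c₀ : F[X]) ^ (p ^ K) = X ^ (N * p ^ K) - C (c₀ ^ (p ^ K)) := by
    rw [sub_pow_char_pow, ← pow_mul, map_pow]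
  rw [← h1]
  exact dvd_trans (pow_dvd_pow f he) (pow_dvd_pow_of_dvd h _)

theorem Nn_coprime (p q d : ℕ) (hpq : p ∣ q) (hd : 1 ≤ d) : Nat.Coprime p (Nn q d) := by
  obtain ⟨d', rfl⟩ : ∃ d', d = d' + 1 := ⟨d - 1, by omega⟩
  rw [Nn, Finset.sum_range_succ', pow_zero]
  have h1 : ∑ i ∈ Finset.range d', q ^ (i + 1) = q * ∑ i ∈ Finset.range d', q ^ i := by
    rw [Finset.mul_sum]
    apply Finset.sum_congr rfl
    intro i _
    rw [pow_succ, mul_comm]
  rw [h1]
  obtain ⟨t, rfl⟩ := hpq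
  rw [mul_assoc]
  simp

theorem Nn_one (q : ℕ) : Nn q 1 = 1 := by
  simp [Nn]

end IrrDvd

section Unip

open Polynomial

variable {F : Type*} [Field F] [Fintype F]

theorem exists_unip (p : ℕ) [Fact p.Prime] [CharP F p] (K : ℕ) (hK : 1 ≤ K) :
    ∃ U : Matrix (Fin (p ^ (K - 1) + 1)) (Fin (p ^ (K - 1) + 1)) F, U.det = 1 ∧
      ∀ (j : ℕ) (c : F), U ^ j = c • (1 : Matrix (Fin (p ^ (K - 1) + 1)) (Fin (p ^ (K - 1) + 1)) F) →
        c = 1 ∧ p ^ K ∣ j := by
  classical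
  have hp : p.Prime := Fact.out
  set m := p ^ (K - 1) + 1 with hm
  set μ : F[X] := (X - C 1) ^ m with hμdef
  have hμ : μ.Monic := (monic_X_sub_C (1 : F)).pow m
  have hd : μ.natDegree = m := by
    rw [hμdef, natDegree_pow, natDegree_X_sub_C, mul_one]
  obtain ⟨U, hU⟩ := exists_comp μ hμ m hd
  have key : ∀ (j : ℕ) (c : F), U ^ j = c • (1 : Matrix (Fin m) (Fin m) F) ↔ μ ∣ X ^ j - C c := by
    intro j c
    rw [pow_eq_smul_iff, hU]
  have hX0 : (X - C (1 : F) : F[X]) ≠ 0 := X_sub_C_ne_zero 1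
  have hXu : ¬ IsUnit (X - C (1 : F) : F[X]) := not_isUnit_X_sub_C 1
  have hpowK : ∀ t : ℕ, (X - C (1 : F) : F[X]) ^ (p ^ t) = X ^ (p ^ t) - C 1 := by
    intro t
    rw [sub_pow_char_pow, ← map_pow, one_pow]
  have hKK : p ^ K = p ^ (K - 1) * p := by
    rw [← pow_succ]
    congr 1
    omega
  have hmle : m ≤ p ^ K := by
    rw [hKK, hm]
    have h1 : 0 < p ^ (K - 1) := Nat.pow_pos hp.pos
    have h2 := hp.two_le
    nlinarith
  have hUpow : U ^ (p ^ K) = 1 := by
    have h1 : U ^ (p ^ K) = (1 : F) • (1 : Matrix (Fin m) (Fin m) F) := by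
      rw [key, ← hpowK, hμdef]
      exact pow_dvd_pow _ hmle
    rw [h1, one_smul]
  have hUnot : U ^ (p ^ (K - 1)) ≠ 1 := by
    intro h
    have h1 : U ^ (p ^ (K - 1)) = (1 : F) • (1 : Matrix (Fin m) (Fin m) F) := by
      rw [h, one_smul]
    rw [key, ← hpowK, hμdef, pow_dvd_pow_iff hX0 hXu] at h1
    omega
  have hdet : U.det = 1 := by
    have h1 : U.det ^ (p ^ K) = 1 := by
      rw [← Matrix.det_pow, hUpow, Matrix.det_one]
    have h2 : (U.det - 1) ^ (p ^ K) = 0 := by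
      rw [sub_pow_char_pow, h1, one_pow, sub_self]
    have h3 := pow_eq_zero_iff (Nat.pow_pos hp.pos).ne' |>.1 h2
    exact sub_eq_zero.1 h3
  refine ⟨U, hdet, ?_⟩
  intro j c hjc
  have hc : c = 1 := by
    have h1 := (key j c).1 hjc
    have h2 : (X - C (1 : F) : F[X]) ∣ X ^ j - C c :=
      dvd_trans (dvd_pow_self _ (by omega)) h1
    rw [dvd_iff_isRoot, IsRoot.def, eval_sub, eval_pow, eval_X, eval_C, one_pow, sub_eq_zero] at h2
    exact h2.symm
  refine ⟨hc, ?_⟩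
  rw [hc, one_smul] at hjc
  have ho1 : orderOf U ∣ j := orderOf_dvd_of_pow_eq_one hjc
  have ho2 : orderOf U ∣ p ^ K := orderOf_dvd_of_pow_eq_one hUpow
  obtain ⟨i, hi, hoi⟩ := (Nat.dvd_prime_pow hp).1 ho2
  have hiK : i = K := by
    by_contra hne
    have hlt : i ≤ K - 1 := by omega
    apply hUnot
    apply orderOf_dvd_iff_pow_eq_one.1
    rw [hoi]
    exact pow_dvd_pow p hlt
  rw [← hiK, ← hoi]
  exact ho1

end Unip

section Singer1

open Polynomial

variable {F : Type*} [Field F] [Fintype F]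

theorem exists_singer1 (p : ℕ) [Fact p.Prime] [CharP F p] (d : ℕ) (hd : 1 ≤ d) :
    ∃ S : Matrix (Fin d) (Fin d) F, S.det = 1 ∧
      ∀ j : ℕ, S ^ j = 1 → Nn (Fintype.card F) d ∣ j := by
  classical
  have : NeZero d := ⟨by omega⟩
  let K := FiniteField.Extension F p d
  have hfr : Module.finrank F K = d := FiniteField.finrank_extension F p d
  set q := Fintype.card F with hqdef
  have hq : 1 < q := Fintype.one_lt_card
  have hcardK : Nat.card K = q ^ d := by
    rw [FiniteField.natCard_extension, Nat.card_eq_fintype_card]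
  have hfac := Nn_mul q d (by omega)
  obtain ⟨ζ, hζ⟩ := IsCyclic.exists_generator (α := Kˣ)
  have hordζ : orderOf ζ = q ^ d - 1 := by
    rw [orderOf_eq_card_of_forall_mem_zpowers hζ, Nat.card_units, hcardK]
  let b : Module.Basis (Fin d) F K := Module.finBasisOfFinrankEq F K hfr
  let ψ : K →ₐ[F] Matrix (Fin d) (Fin d) F := Algebra.leftMulMatrix b
  set z : K := ((ζ ^ (q - 1) : Kˣ) : K) with hz
  have hzpow : ∀ k : ℕ, z ^ k = 1 ↔ Nn q d ∣ k := by
    intro k
    rw [hz, ← Units.val_pow_eq_pow_val, Units.val_eq_one, ← pow_mul, ← orderOf_dvd_iff_pow_eq_one,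
      hordζ, hfac, Nat.mul_dvd_mul_iff_left (by omega : 0 < q - 1)]
  have hnorm : Algebra.norm F z = 1 := by
    apply (algebraMap F K).injective
    rw [FiniteField.algebraMap_norm_eq_pow, map_one, hcardK, Nat.card_eq_fintype_card, ← hqdef,
      hfac, Nat.mul_div_cancel_left _ (by omega : 0 < q - 1), hzpow]
  have hdet : (ψ z).det = 1 := by
    rw [← hnorm, Algebra.norm_eq_matrix_det b]
  refine ⟨ψ z, hdet, ?_⟩
  intro j hj
  rw [← hzpow]
  apply Algebra.leftMulMatrix_injective b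
  rw [map_pow, map_one]
  exact hj

end Singer1

section CaseC

open Polynomial Matrix

variable {F : Type*} [Field F] [Fintype F]

theorem char_dvd_card (p : ℕ) [CharP F p] : p ∣ Fintype.card F :=
  (CharP.cast_eq_zero_iff F p (Fintype.card F)).1 (Nat.cast_card_eq_zero F)

theorem case_c (p : ℕ) [Fact p.Prime] [CharP F p] (n : ℕ) (hn : 2 ≤ n) (r : ℕ) (hr : r.Prime)
    (hrq : r ∣ Fintype.card F - 1) (hrn : ¬ r ∣ n) (A : Matrix.SpecialLinearGroup (Fin n) F)
    (f u : F[X]) (e : ℕ) (hf : Irreducible f) (he : 2 ≤ e) (hu : IsUnit u)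
    (hμ : minpoly F A.1 = f ^ e * u) (hdeg : (minpoly F A.1).natDegree = n) :
    (∃ g : Matrix.ProjectiveSpecialLinearGroup (Fin n) F,
      Nat.lcm (orderOf (QuotientGroup.mk A : Matrix.ProjectiveSpecialLinearGroup (Fin n) F)) r ∣
        orderOf g) ∨
    (orderOf (QuotientGroup.mk A : Matrix.ProjectiveSpecialLinearGroup (Fin n) F) =
        p ^ Nat.clog p n ∧ ∃ j : ℕ, n - 1 = p ^ j) := by
  classical
  have hp : p.Prime := Fact.out
  set q := Fintype.card F with hqdef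
  have hpq : p ∣ q := char_dvd_card p
  set d₀ := f.natDegree with hd₀def
  have hd₀ : 1 ≤ d₀ := hf.natDegree_pos
  have hn_eq : n = e * d₀ := by
    rw [← hdeg, hμ, natDegree_mul (pow_ne_zero _ hf.ne_zero) hu.ne_zero, natDegree_pow,
      natDegree_eq_zero_of_isUnit hu, add_zero]
  set K := Nat.clog p e with hKdef
  have hK1 : 1 ≤ K := Nat.clog_pos hp.one_lt he
  have heK : e ≤ p ^ K := Nat.le_pow_clog hp.one_lt e
  have hKe : p ^ (K - 1) < e := Nat.pow_pred_clog_lt_self hp.one_lt (by omega)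
  obtain ⟨c₀, hc₀⟩ := irr_dvd f hf
  rw [← hqdef, ← hd₀def] at hc₀
  set N := Nn q d₀ with hNdef
  have hdvd : minpoly F A.1 ∣ X ^ (N * p ^ K) - C (c₀ ^ (p ^ K)) := by
    rw [hμ]
    exact (IsUnit.mul_right_dvd hu).2 (pow_dvd_of_dvd p f N c₀ hc₀ e K heK)
  have hApow : A.1 ^ (N * p ^ K) = (c₀ ^ (p ^ K)) • (1 : Matrix (Fin n) (Fin n) F) := by
    rw [pow_eq_smul_iff, ← minpoly.dvd_iff]
    exact hdvd
  have hx : orderOf (QuotientGroup.mk A : Matrix.ProjectiveSpecialLinearGroup (Fin n) F) ∣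
      N * p ^ K := dvd_of_pow_scalar n A _ _ hApow
  by_cases hsz : p ^ (K - 1) + 1 + d₀ ≤ n
  · left
    obtain ⟨k, hk⟩ : ∃ k, n = (p ^ (K - 1) + 1) + (d₀ + k) := ⟨n - (p ^ (K - 1) + 1 + d₀), by omega⟩
    obtain ⟨U, hUdet, hU⟩ := exists_unip (F := F) p K hK1
    obtain ⟨S, hSdet, hS⟩ := exists_singer1 (F := F) p d₀ hd₀
    rw [← hqdef, ← hNdef] at hS
    set B : Matrix (Fin (p ^ (K - 1) + 1) ⊕ (Fin d₀ ⊕ Fin k)) (Fin (p ^ (K - 1) + 1) ⊕ (Fin d₀ ⊕ Fin k)) F :=
      Matrix.fromBlocks U 0 0 (Matrix.fromBlocks S 0 0 (1 : Matrix (Fin k) (Fin k) F)) with hB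
    have hBdet : B.det = 1 := by
      rw [hB, Matrix.det_fromBlocks_zero₁₂, Matrix.det_fromBlocks_zero₁₂, hUdet, hSdet,
        Matrix.det_one, mul_one, mul_one]
    set P : Matrix (Fin (p ^ (K - 1) + 1) ⊕ (Fin d₀ ⊕ Fin k)) (Fin (p ^ (K - 1) + 1) ⊕ (Fin d₀ ⊕ Fin k)) F :=
      Matrix.fromBlocks 1 0 0 0 with hP
    have hPP : P * P = P := by
      rw [hP, Matrix.fromBlocks_multiply]
      simp
    have hP0 : P ≠ 0 := by
      intro h
      have := congrFun (congrFun h (Sum.inl 0)) (Sum.inl 0)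
      simp [hP] at this
    have hP1 : P ≠ 1 := by
      intro h
      have := congrFun (congrFun h (Sum.inr (Sum.inl ⟨0, hd₀⟩))) (Sum.inr (Sum.inl ⟨0, hd₀⟩))
      simp [hP] at this
    have hBP : B * P = P * B := by
      rw [hB, hP, Matrix.fromBlocks_multiply, Matrix.fromBlocks_multiply]
      simp
    have hcard : Fintype.card (Fin (p ^ (K - 1) + 1) ⊕ (Fin d₀ ⊕ Fin k)) = n := by
      rw [Fintype.card_sum, Fintype.card_sum, Fintype.card_fin, Fintype.card_fin, Fintype.card_fin]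
      omega
    apply absorb (ι := Fin (p ^ (K - 1) + 1) ⊕ (Fin d₀ ⊕ Fin k)) n (by omega) hcard r hr hrq hrn
      B P hBdet hPP hP0 hP1 hBP
    intro j c h
    rw [hB, Cfsg.Agent.S2468.fromBlocks_pow', Cfsg.Agent.S2468.fromBlocks_eq_smul_one] at h
    obtain ⟨h1, h2⟩ := h
    obtain ⟨hc, hpj⟩ := hU j c h1
    rw [Cfsg.Agent.S2468.fromBlocks_pow', Cfsg.Agent.S2468.fromBlocks_eq_smul_one, hc, one_smul] at h2
    have hNj : N ∣ j := hS j h2.1
    have hcop : Nat.Coprime N (p ^ K) := ((Nn_coprime p q d₀ hpq hd₀).pow_left K).symm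
    exact dvd_trans hx (hcop.mul_dvd_of_dvd_of_dvd hNj hpj)
  · right
    have hd1 : d₀ = 1 := by
      by_contra hne
      have hd2 : 2 ≤ d₀ := by omega
      have h1 : e + d₀ ≤ e * d₀ := by nlinarith
      omega
    rw [hd1, mul_one] at hn_eq
    subst hn_eq
    have hN1 : N = 1 := by rw [hNdef, hd1, Nn_one]
    rw [hN1, one_mul] at hx
    have hn1 : n - 1 = p ^ (K - 1) := by omega
    refine ⟨?_, K - 1, hn1⟩
    obtain ⟨i, hi, hoi⟩ := (Nat.dvd_prime_pow hp).1 hx
    have hiK : i = K := by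
      by_contra hne
      have hlt : i ≤ K - 1 := by omega
      have h1 : (QuotientGroup.mk A : Matrix.ProjectiveSpecialLinearGroup (Fin n) F) ^ (p ^ (K - 1)) = 1 := by
        apply orderOf_dvd_iff_pow_eq_one.1
        rw [hoi]
        exact pow_dvd_pow p hlt
      obtain ⟨c, -, hc⟩ := Cfsg.Agent.S2364.pow_central n (by omega) A _ h1
      rw [pow_eq_smul_iff, ← minpoly.dvd_iff] at hc
      have h2 := natDegree_le_of_dvd hc (X_pow_sub_C_ne_zero (Nat.pow_pos hp.pos) c)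
      rw [hdeg, natDegree_X_pow_sub_C] at h2
      omega
    rw [hoi, hiK]

end CaseC

section ThmK

open Polynomial Matrix

variable {F : Type*} [Field F] [Fintype F]

theorem thmK (p : ℕ) [Fact p.Prime] [CharP F p] (n : ℕ) (hn : 2 ≤ n) (r : ℕ) (hr : r.Prime)
    (hrq : r ∣ Fintype.card F - 1) (hrn : ¬ r ∣ n) (A : Matrix.SpecialLinearGroup (Fin n) F) :
    (∃ g : Matrix.ProjectiveSpecialLinearGroup (Fin n) F,
      Nat.lcm (orderOf (QuotientGroup.mk A : Matrix.ProjectiveSpecialLinearGroup (Fin n) F)) r ∣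
        orderOf g) ∨
    orderOf (QuotientGroup.mk A : Matrix.ProjectiveSpecialLinearGroup (Fin n) F) ∣
      c1 (Fintype.card F) n ∨
    (orderOf (QuotientGroup.mk A : Matrix.ProjectiveSpecialLinearGroup (Fin n) F) =
        p ^ Nat.clog p n ∧ ∃ j : ℕ, n - 1 = p ^ j) := by
  classical
  have : NeZero n := ⟨by omega⟩
  have hle : (minpoly F A.1).natDegree ≤ n := by
    have h1 := natDegree_le_of_dvd (Matrix.minpoly_dvd_charpoly A.1) (Matrix.charpoly_monic A.1).ne_zero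
    rw [Matrix.charpoly_natDegree_eq_dim, Fintype.card_fin] at h1
    exact h1
  by_cases hlt : (minpoly F A.1).natDegree < n
  · exact Or.inl (case_a n (by omega) r hr hrq hrn A hlt)
  have hdeg : (minpoly F A.1).natDegree = n := by omega
  have hμ0 : minpoly F A.1 ≠ 0 := (minpoly_monic' A.1).ne_zero
  rcases poly_struct (minpoly F A.1) hμ0 (minpoly.not_isUnit F A.1) with
    ⟨a, b, hab, hcop, ha, hb⟩ | ⟨f, e, u, hf, he, hu, hμ⟩
  · exact Or.inl (case_b n (by omega) r hr hrq hrn A a b hab hcop ha hb)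
  · by_cases he1 : e = 1
    · right; left
      apply case_irred p n (by omega) A _ hdeg
      rw [hμ, he1, pow_one, irreducible_mul_isUnit hu]
      exact hf
    · rcases case_c p n hn r hr hrq hrn A f u e hf (by omega) hu hμ hdeg with h | h
      · exact Or.inl h
      · exact Or.inr (Or.inr h)

end ThmK

section Final

open Polynomial Matrix

variable {F : Type*} [Field F] [Fintype F]

theorem range_dvd_closed {G : Type*} [Group G] [Finite G] :
    ∀ x ∈ Set.range (orderOf : G → ℕ), ∀ d, d ∣ x → d ∈ Set.range (orderOf : G → ℕ) := by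
  rintro x ⟨g, rfl⟩ d hd
  have hx0 : 0 < orderOf g := orderOf_pos g
  have hd0 : 0 < d := Nat.pos_of_dvd_of_pos hd hx0
  refine ⟨g ^ (orderOf g / d), ?_⟩
  rw [orderOf_pow_of_dvd (Nat.div_pos (Nat.le_of_dvd hx0 hd) hd0).ne' (Nat.div_dvd_of_dvd hd),
    Nat.div_div_self hd hx0.ne']

theorem spec_psl (p : ℕ) [Fact p.Prime] [CharP F p] (n : ℕ) (hn : 2 ≤ n) (r : ℕ) (hr : r.Prime)
    (hrq : r ∣ Fintype.card F - 1) (hrn : ¬ r ∣ n) :
    Spec (Set.range (orderOf : Matrix.ProjectiveSpecialLinearGroup (Fin n) F → ℕ)) r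
      (c1 (Fintype.card F) n) (p ^ Nat.clog p n) ∧
    ((¬ ∃ j : ℕ, n - 1 = p ^ j) →
      ∀ x ∈ Set.range (orderOf : Matrix.ProjectiveSpecialLinearGroup (Fin n) F → ℕ),
        Nat.lcm x r ∈ Set.range (orderOf : Matrix.ProjectiveSpecialLinearGroup (Fin n) F → ℕ) ∨
          x ∣ c1 (Fintype.card F) n) := by
  classical
  have : NeZero n := ⟨by omega⟩
  have hclosed := range_dvd_closed (G := Matrix.ProjectiveSpecialLinearGroup (Fin n) F)
  have hK : ∀ x ∈ Set.range (orderOf : Matrix.ProjectiveSpecialLinearGroup (Fin n) F → ℕ),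
      Nat.lcm x r ∈ Set.range (orderOf : Matrix.ProjectiveSpecialLinearGroup (Fin n) F → ℕ) ∨
      x ∣ c1 (Fintype.card F) n ∨ (x = p ^ Nat.clog p n ∧ ∃ j : ℕ, n - 1 = p ^ j) := by
    rintro x ⟨g, rfl⟩
    obtain ⟨A, rfl⟩ := QuotientGroup.mk_surjective g
    rcases thmK p n hn r hr hrq hrn A with ⟨g', hg'⟩ | h | h
    · exact Or.inl (hclosed _ ⟨g', rfl⟩ _ hg')
    · exact Or.inr (Or.inl h)
    · exact Or.inr (Or.inr h)
  refine ⟨⟨hclosed, ?_, ?_, ?_⟩, ?_⟩
  · -- r ∈ range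
    have hdeg : (minpoly F (1 : Matrix.SpecialLinearGroup (Fin n) F).1).natDegree < n := by
      have h1 : ((1 : Matrix.SpecialLinearGroup (Fin n) F).1 : Matrix (Fin n) (Fin n) F) = 1 := rfl
      rw [h1, minpoly.one, ← C_1, natDegree_X_sub_C]
      omega
    obtain ⟨g, hg⟩ := case_a n (by omega) r hr hrq hrn (1 : Matrix.SpecialLinearGroup (Fin n) F) hdeg
    exact hclosed _ ⟨g, rfl⟩ _ (dvd_trans (Nat.dvd_lcm_right _ _) hg)
  · obtain ⟨g, hg⟩ := c1_mem (F := F) p n hn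
    exact ⟨g, hg⟩
  · intro x hx
    rcases hK x hx with h | h | h
    · exact Or.inl h
    · exact Or.inr (Or.inl h)
    · exact Or.inr (Or.inr h.1)
  · intro hno x hx
    rcases hK x hx with h | h | h
    · exact Or.inl h
    · exact Or.inr h
    · exact absurd h.2 hno

theorem charP_of_card (p a : ℕ) (hp : p.Prime) (hF : Fintype.card F = p ^ a) : CharP F p := by
  obtain ⟨p', hp'⟩ := CharP.exists F
  have hp'prime : p'.Prime := CharP.char_is_prime F p'
  have h1 : p' ∣ Fintype.card F := char_dvd_card p'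
  rw [hF] at h1
  have h2 : p' ∣ p := hp'prime.dvd_of_dvd_pow h1
  have h3 : p' = p := (Nat.prime_dvd_prime_iff_eq hp'prime hp).1 h2
  rw [← h3]
  exact hp'

end Final

/-- Let F be a finite field with q = p^a elements, n ≥ 2 (with q ≥ 4 when n = 2), L = PSL(n, F), and let r be a prime dividing q − 1 and not dividing n. Then for every m the direct product L × L × L × (ℤ/r)^m has the same set of element orders as L × L × L; and if n − 1 ≠ p^j for every j ≥ 0 (so never when n = 2, since 1 = p^0), then already L × L × (ℤ/r)^m has the same set of element orders as L × L. -/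
theorem result {F : Type*} [Field F] [Fintype F] (p a n r m : ℕ) (hp : p.Prime) (ha : 1 ≤ a) (hF : Fintype.card F = p ^ a)
    (hn : 2 ≤ n) (hn2 : n = 2 → 4 ≤ Fintype.card F) (hr : r.Prime) (hrq : r ∣ Fintype.card F - 1) (hrn : ¬ r ∣ n) :
    Set.range (orderOf : Matrix.ProjectiveSpecialLinearGroup (Fin n) F × Matrix.ProjectiveSpecialLinearGroup (Fin n) F × Matrix.ProjectiveSpecialLinearGroup (Fin n) F × Multiplicative (Fin m → ZMod r) → ℕ) =
      Set.range (orderOf : Matrix.ProjectiveSpecialLinearGroup (Fin n) F × Matrix.ProjectiveSpecialLinearGroup (Fin n) F × Matrix.ProjectiveSpecialLinearGroup (Fin n) F → ℕ) ∧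
    ((¬ ∃ j : ℕ, n - 1 = p ^ j) →
      Set.range (orderOf : Matrix.ProjectiveSpecialLinearGroup (Fin n) F × Matrix.ProjectiveSpecialLinearGroup (Fin n) F × Multiplicative (Fin m → ZMod r) → ℕ) =
        Set.range (orderOf : Matrix.ProjectiveSpecialLinearGroup (Fin n) F × Matrix.ProjectiveSpecialLinearGroup (Fin n) F → ℕ)) := by
  have _h1 := ha
  have _h2 := hn2
  have : Fact p.Prime := ⟨hp⟩
  have : CharP F p := charP_of_card p a hp hF
  obtain ⟨hspec, h6⟩ := spec_psl (F := F) p n hn r hr hrq hrn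
  exact ⟨claim1 r m _ _ hr hspec, fun hno => claim2 r m _ _ hr hspec (h6 hno)⟩

end Cfsg.Agent.S2510
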