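import Cfsg.Statements.S2512
import Mathlib
import Cfsg.Agent.S2510
import Cfsg.Agent.Lib.Helper5.SpProjRank
import Cfsg.Agent.H9.SympEmbed
import Cfsg.Agent.Lib.Helper8.RegUnipD

set_option autoImplicit false
open Cfsg

namespace Cfsg.Agent.S2512

section Adj

open Matrix Polynomial

variable {F : Type*} [Field F] {l : Type*} [Fintype l] [DecidableEq l]

/-- the adjoint with respect to the standard alternating form -/
def adj (M : Matrix (l ⊕ l) (l ⊕ l) F) : Matrix (l ⊕ l) (l ⊕ l) F := -(J l F) * Mᵀ * J l F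

theorem adj_mul (M N : Matrix (l ⊕ l) (l ⊕ l) F) : adj (M * N) = adj N * adj M := by
  unfold adj
  rw [Matrix.transpose_mul]
  have h : J l F * J l F = -1 := J_squared l F
  calc -(J l F) * (Nᵀ * Mᵀ) * J l F = -(J l F * Nᵀ * (1 : Matrix (l ⊕ l) (l ⊕ l) F) * Mᵀ * J l F) := by
        simp [Matrix.mul_assoc]
    _ = -(J l F * Nᵀ * (-(J l F * J l F)) * Mᵀ * J l F) := by rw [h, neg_neg]
    _ = -(J l F) * Nᵀ * J l F * (-(J l F) * Mᵀ * J l F) := by
        simp [Matrix.mul_assoc]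

theorem adj_one : adj (1 : Matrix (l ⊕ l) (l ⊕ l) F) = 1 := by
  unfold adj
  rw [Matrix.transpose_one, Matrix.mul_one, Matrix.neg_mul, J_squared, neg_neg]

theorem adj_add (M N : Matrix (l ⊕ l) (l ⊕ l) F) : adj (M + N) = adj M + adj N := by
  unfold adj
  rw [Matrix.transpose_add, Matrix.mul_add, Matrix.add_mul]

theorem adj_sub (M N : Matrix (l ⊕ l) (l ⊕ l) F) : adj (M - N) = adj M - adj N := by
  unfold adj
  rw [Matrix.transpose_sub, Matrix.mul_sub, Matrix.sub_mul]

theorem adj_smul (c : F) (M : Matrix (l ⊕ l) (l ⊕ l) F) : adj (c • M) = c • adj M := by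
  unfold adj
  rw [Matrix.transpose_smul, Matrix.mul_smul, Matrix.smul_mul]

theorem adj_neg (M : Matrix (l ⊕ l) (l ⊕ l) F) : adj (-M) = -adj M := by
  unfold adj
  rw [Matrix.transpose_neg, Matrix.mul_neg, Matrix.neg_mul]

theorem adj_zero : adj (0 : Matrix (l ⊕ l) (l ⊕ l) F) = 0 := by
  unfold adj
  simp

theorem adj_pow (M : Matrix (l ⊕ l) (l ⊕ l) F) (k : ℕ) : adj (M ^ k) = adj M ^ k := by
  induction k with
  | zero => rw [pow_zero, pow_zero, adj_one]
  | succ k ih => rw [pow_succ, adj_mul, ih, pow_succ']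

theorem adj_adj (M : Matrix (l ⊕ l) (l ⊕ l) F) : adj (adj M) = M := by
  unfold adj
  simp only [Matrix.transpose_mul, Matrix.transpose_neg, J_transpose, Matrix.transpose_transpose,
    neg_neg]
  have h : J l F * J l F = -1 := J_squared l F
  calc -(J l F) * (-(J l F) * (M * J l F)) * J l F = (J l F * J l F) * M * (J l F * J l F) := by
        simp [Matrix.mul_assoc]
    _ = M := by rw [h]; simp

theorem mem_iff_mul_adj (A : Matrix (l ⊕ l) (l ⊕ l) F) :
    A ∈ symplecticGroup l F ↔ A * adj A = 1 := by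
  rw [SymplecticGroup.mem_iff]
  unfold adj
  have h : J l F * J l F = -1 := J_squared l F
  constructor
  · intro hA
    calc A * (-(J l F) * Aᵀ * J l F) = -((A * J l F * Aᵀ) * J l F) := by simp [Matrix.mul_assoc]
      _ = 1 := by rw [hA, h, neg_neg]
  · intro hA
    have h1 : A * J l F * Aᵀ * J l F = -1 := by
      have : A * (-(J l F) * Aᵀ * J l F) = -(A * J l F * Aᵀ * J l F) := by simp [Matrix.mul_assoc]
      rw [this] at hA
      rw [← hA, neg_neg]
    calc A * J l F * Aᵀ = -(A * J l F * Aᵀ * (J l F * J l F)) := by rw [h]; simp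
      _ = -((A * J l F * Aᵀ * J l F) * J l F) := by simp [Matrix.mul_assoc]
      _ = J l F := by rw [h1]; simp

theorem adj_mul_self_of_mem (A : Matrix (l ⊕ l) (l ⊕ l) F) (hA : A ∈ symplecticGroup l F) :
    adj A * A = 1 := by
  have h1 := (mem_iff_mul_adj A).1 hA
  exact mul_eq_one_comm.1 h1

theorem adj_aeval (A : Matrix (l ⊕ l) (l ⊕ l) F) (φ : F[X]) :
    adj (aeval A φ) = aeval (adj A) φ := by
  induction φ using Polynomial.induction_on' with
  | add g₁ g₂ h₁ h₂ => rw [map_add, map_add, adj_add, h₁, h₂]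
  | monomial k c =>
    rw [aeval_monomial, aeval_monomial, Algebra.algebraMap_eq_smul_one,
      smul_mul_assoc, smul_mul_assoc, one_mul, one_mul, adj_smul, adj_pow]

/-- a self-adjoint idempotent gives a symplectic involution -/
theorem one_sub_two_mem (P : Matrix (l ⊕ l) (l ⊕ l) F) (hPP : P * P = P) (hadj : adj P = P) :
    (1 - (2 : F) • P) ∈ symplecticGroup l F := by
  rw [mem_iff_mul_adj, adj_sub, adj_one, adj_smul, hadj]
  have : (1 - (2 : F) • P) * (1 - (2 : F) • P) = 1 - ((2 : F) + 2 - 2 * 2) • P := by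
    rw [sub_mul, mul_sub, mul_sub, one_mul, mul_one, one_mul, smul_mul_smul_comm, hPP]
    module
  rw [this]
  have h4 : ((2 : F) + 2 - 2 * 2) = 0 := by ring
  rw [h4, zero_smul, sub_zero]

end Adj

section PSpOrder

open Matrix Polynomial Cfsg.Agent.Lib.Helper5.SpProj

variable {F : Type*} [Field F]

theorem mk_pow_eq_one_iff (n : ℕ) (hn : 1 ≤ n) (A : symplecticGroup (Fin n) F) (j : ℕ) :
    (QuotientGroup.mk A : Cfsg.PSp n F) ^ j = 1 ↔
      (A : Matrix (Fin n ⊕ Fin n) (Fin n ⊕ Fin n) F) ^ j = 1 ∨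
      (A : Matrix (Fin n ⊕ Fin n) (Fin n ⊕ Fin n) F) ^ j = -1 := by
  rw [← QuotientGroup.mk_pow, QuotientGroup.eq_one_iff]
  constructor
  · intro h
    rcases center_cases n hn _ h with h1 | h1
    · left
      have := congrArg (fun g : symplecticGroup (Fin n) F =>
        (g : Matrix (Fin n ⊕ Fin n) (Fin n ⊕ Fin n) F)) h1
      simpa using this
    · right
      have := congrArg (fun g : symplecticGroup (Fin n) F =>
        (g : Matrix (Fin n ⊕ Fin n) (Fin n ⊕ Fin n) F)) h1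
      simpa [negOne_val] using this
  · rintro (h | h)
    · have : A ^ j = 1 := by
        apply Subtype.ext
        rw [SubmonoidClass.coe_pow, h]; rfl
      rw [this]
      exact Subgroup.one_mem _
    · have : A ^ j = negOne n := by
        apply Subtype.ext
        rw [SubmonoidClass.coe_pow, h, negOne_val]
      rw [this]
      exact negOne_mem_center n

theorem absorb_inv [Fintype F] (n : ℕ) (hn : 1 ≤ n) (A H : symplecticGroup (Fin n) F)
    (hAH : A * H = H * A) (hH2 : H * H = 1) (hH1 : H ≠ 1) (hHm : H ≠ negOne n)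
    (x : ℕ) (hxodd : Odd x)
    (hx : ∀ j : ℕ, ((A : Matrix (Fin n ⊕ Fin n) (Fin n ⊕ Fin n) F) ^ j = 1 ∨
      (A : Matrix (Fin n ⊕ Fin n) (Fin n ⊕ Fin n) F) ^ j = -1) → x ∣ j) :
    ∃ g : Cfsg.PSp n F, 2 * x ∣ orderOf g := by
  classical
  set a : Cfsg.PSp n F := QuotientGroup.mk A with ha
  set h : Cfsg.PSp n F := QuotientGroup.mk H with hh
  have hcomm : Commute a h := by
    change a * h = h * a
    rw [ha, hh, ← QuotientGroup.mk_mul, ← QuotientGroup.mk_mul, hAH]
  have hordh : orderOf h = 2 := by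
    apply orderOf_eq_prime
    · rw [hh, ← QuotientGroup.mk_pow, pow_two, hH2]; rfl
    · intro h1
      rw [hh, QuotientGroup.eq_one_iff] at h1
      rcases center_cases n hn _ h1 with h2 | h2
      · exact hH1 h2
      · exact hHm h2
  have hxa : x ∣ orderOf a := by
    apply hx
    rw [← mk_pow_eq_one_iff n hn]
    exact pow_orderOf_eq_one a
  have hcop2 : Nat.Coprime 2 x := (Nat.coprime_two_left).2 hxodd
  by_cases heven : 2 ∣ orderOf a
  · exact ⟨a, hcop2.mul_dvd_of_dvd_of_dvd heven hxa⟩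
  · refine ⟨a * h, ?_⟩
    have hcop : Nat.Coprime (orderOf a) (orderOf h) := by
      rw [hordh, Nat.coprime_comm]
      exact (Nat.Prime.coprime_iff_not_dvd Nat.prime_two).2 heven
    rw [hcomm.orderOf_mul_eq_mul_orderOf_of_coprime hcop, hordh, mul_comm 2 x]
    exact Nat.mul_dvd_mul_right hxa 2

end PSpOrder

section Blocks

open Matrix Polynomial Module Cfsg.Agent.Lib.Helper5.SpProj

universe v v₁ v₂ u

/-- an abstract symplectic space with an isometry whose projective order is divisible by `N` -/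
def HasBlock (F : Type u) [Field F] (dim N : ℕ) : Prop :=
  ∃ (V : Type v) (_ : AddCommGroup V) (_ : Module F V) (_ : FiniteDimensional F V)
    (B : LinearMap.BilinForm F V) (T : V →ₗ[F] V),
    B.Nondegenerate ∧ B.IsAlt ∧ (∀ x y, B (T x) (T y) = B x y) ∧ finrank F V = dim ∧
    ∀ j : ℕ, (T ^ j = 1 ∨ T ^ j = -1) → N ∣ j

/-- the same with a commuting non-scalar involutory isometry -/
def HasDecBlock (F : Type u) [Field F] (dim N : ℕ) : Prop :=
  ∃ (V : Type v) (_ : AddCommGroup V) (_ : Module F V) (_ : FiniteDimensional F V)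
    (B : LinearMap.BilinForm F V) (T h : V →ₗ[F] V),
    B.Nondegenerate ∧ B.IsAlt ∧ (∀ x y, B (T x) (T y) = B x y) ∧ (∀ x y, B (h x) (h y) = B x y) ∧
    T * h = h * T ∧ h * h = 1 ∧ h ≠ 1 ∧ h ≠ -1 ∧ finrank F V = dim ∧
    ∀ j : ℕ, (T ^ j = 1 ∨ T ^ j = -1) → N ∣ j

variable {F : Type u} [Field F]

theorem prodMap_pow {V₁ : Type v₁} {V₂ : Type v₂} [AddCommGroup V₁] [Module F V₁] [AddCommGroup V₂]
    [Module F V₂] (T₁ : V₁ →ₗ[F] V₁) (T₂ : V₂ →ₗ[F] V₂) (j : ℕ) :
    (T₁.prodMap T₂) ^ j = (T₁ ^ j).prodMap (T₂ ^ j) := by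
  induction j with
  | zero =>
    rw [pow_zero, pow_zero, pow_zero]
    exact LinearMap.prodMap_one.symm
  | succ j ih =>
    rw [pow_succ, pow_succ, pow_succ, ih, LinearMap.prodMap_mul]

theorem prodMap_eq_iff {V₁ : Type v₁} {V₂ : Type v₂} [AddCommGroup V₁] [Module F V₁] [AddCommGroup V₂]
    [Module F V₂] (S₁ S₁' : V₁ →ₗ[F] V₁) (S₂ S₂' : V₂ →ₗ[F] V₂) :
    S₁.prodMap S₂ = S₁'.prodMap S₂' ↔ S₁ = S₁' ∧ S₂ = S₂' := by
  constructor
  · intro h
    constructor
    · ext x
      have := congrArg (fun f : (V₁ × V₂) →ₗ[F] (V₁ × V₂) => (f (x, 0)).1) h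
      simpa using this
    · ext y
      have := congrArg (fun f : (V₁ × V₂) →ₗ[F] (V₁ × V₂) => (f (0, y)).2) h
      simpa using this
  · rintro ⟨rfl, rfl⟩
    rfl

/-- the orthogonal sum of two forms -/
def prodForm {V₁ : Type v₁} {V₂ : Type v₂} [AddCommGroup V₁] [Module F V₁] [AddCommGroup V₂]
    [Module F V₂] (B₁ : LinearMap.BilinForm F V₁) (B₂ : LinearMap.BilinForm F V₂) :
    LinearMap.BilinForm F (V₁ × V₂) :=
  B₁.compl₁₂ (LinearMap.fst F V₁ V₂) (LinearMap.fst F V₁ V₂) +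
    B₂.compl₁₂ (LinearMap.snd F V₁ V₂) (LinearMap.snd F V₁ V₂)

theorem prodForm_apply {V₁ : Type v₁} {V₂ : Type v₂} [AddCommGroup V₁] [Module F V₁] [AddCommGroup V₂]
    [Module F V₂] (B₁ : LinearMap.BilinForm F V₁) (B₂ : LinearMap.BilinForm F V₂) (x y : V₁ × V₂) :
    prodForm B₁ B₂ x y = B₁ x.1 y.1 + B₂ x.2 y.2 := by
  simp [prodForm]

theorem prodForm_nondegenerate {V₁ : Type v₁} {V₂ : Type v₂} [AddCommGroup V₁] [Module F V₁]
    [AddCommGroup V₂] [Module F V₂] (B₁ : LinearMap.BilinForm F V₁) (B₂ : LinearMap.BilinForm F V₂)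
    (h₁ : B₁.Nondegenerate) (h₂ : B₂.Nondegenerate) : (prodForm B₁ B₂).Nondegenerate := by
  constructor
  · intro x hx
    have hx1 : x.1 = 0 := by
      apply h₁.1
      intro y
      have := hx (y, 0)
      rw [prodForm_apply] at this
      simpa using this
    have hx2 : x.2 = 0 := by
      apply h₂.1
      intro y
      have := hx (0, y)
      rw [prodForm_apply] at this
      simpa using this
    exact Prod.ext hx1 hx2
  · intro y hy
    have hy1 : y.1 = 0 := by
      apply h₁.2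
      intro x
      have := hy (x, 0)
      rw [prodForm_apply] at this
      simpa using this
    have hy2 : y.2 = 0 := by
      apply h₂.2
      intro x
      have := hy (0, x)
      rw [prodForm_apply] at this
      simpa using this
    exact Prod.ext hy1 hy2

end Blocks

section Blocks2

open Matrix Polynomial Module Cfsg.Agent.Lib.Helper5.SpProj

universe v v₁ v₂ u

variable {F : Type u} [Field F]

theorem prodMap_neg_one {V₁ : Type v₁} {V₂ : Type v₂} [AddCommGroup V₁] [Module F V₁] [AddCommGroup V₂]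
    [Module F V₂] : (-1 : (V₁ × V₂) →ₗ[F] (V₁ × V₂)) = (-1 : V₁ →ₗ[F] V₁).prodMap (-1 : V₂ →ₗ[F] V₂) := by
  ext x <;> simp

theorem prodMap_one' {V₁ : Type v₁} {V₂ : Type v₂} [AddCommGroup V₁] [Module F V₁] [AddCommGroup V₂]
    [Module F V₂] : (1 : (V₁ × V₂) →ₗ[F] (V₁ × V₂)) = (1 : V₁ →ₗ[F] V₁).prodMap (1 : V₂ →ₗ[F] V₂) :=
  LinearMap.prodMap_one.symm

theorem prod_order {V₁ : Type v₁} {V₂ : Type v₂} [AddCommGroup V₁] [Module F V₁] [AddCommGroup V₂]
    [Module F V₂] (T₁ : V₁ →ₗ[F] V₁) (T₂ : V₂ →ₗ[F] V₂) (N₁ N₂ : ℕ)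
    (h₁ : ∀ j : ℕ, (T₁ ^ j = 1 ∨ T₁ ^ j = -1) → N₁ ∣ j)
    (h₂ : ∀ j : ℕ, (T₂ ^ j = 1 ∨ T₂ ^ j = -1) → N₂ ∣ j) (j : ℕ)
    (h : (T₁.prodMap T₂) ^ j = 1 ∨ (T₁.prodMap T₂) ^ j = -1) : Nat.lcm N₁ N₂ ∣ j := by
  rw [prodMap_pow] at h
  rcases h with h | h
  · rw [prodMap_one', prodMap_eq_iff] at h
    exact Nat.lcm_dvd (h₁ j (Or.inl h.1)) (h₂ j (Or.inl h.2))
  · rw [prodMap_neg_one, prodMap_eq_iff] at h
    exact Nat.lcm_dvd (h₁ j (Or.inr h.1)) (h₂ j (Or.inr h.2))

theorem hasBlock_prod (a b N₁ N₂ : ℕ) (h₁ : HasBlock.{v₁} F a N₁) (h₂ : HasBlock.{v₂} F b N₂) :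
    HasBlock.{max v₁ v₂} F (a + b) (Nat.lcm N₁ N₂) := by
  obtain ⟨V₁, i₁, i₂, i₃, B₁, T₁, hB₁, hA₁, hT₁, hd₁, ho₁⟩ := h₁
  obtain ⟨V₂, j₁, j₂, j₃, B₂, T₂, hB₂, hA₂, hT₂, hd₂, ho₂⟩ := h₂
  refine ⟨V₁ × V₂, inferInstance, inferInstance, inferInstance, prodForm B₁ B₂, T₁.prodMap T₂,
    prodForm_nondegenerate B₁ B₂ hB₁ hB₂, ?_, ?_, ?_, prod_order T₁ T₂ N₁ N₂ ho₁ ho₂⟩
  · intro x
    rw [prodForm_apply, hA₁, hA₂, add_zero]
  · intro x y
    rw [prodForm_apply, prodForm_apply]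
    simp only [LinearMap.prodMap_apply]
    rw [hT₁, hT₂]
  · rw [Module.finrank_prod, hd₁, hd₂]

theorem hasDec_prod (h2 : (2 : F) ≠ 0) (a b N₁ N₂ : ℕ) (ha : 0 < a) (hb : 0 < b)
    (h₁ : HasBlock.{v₁} F a N₁) (h₂ : HasBlock.{v₂} F b N₂) :
    HasDecBlock.{max v₁ v₂} F (a + b) (Nat.lcm N₁ N₂) := by
  obtain ⟨V₁, i₁, i₂, i₃, B₁, T₁, hB₁, hA₁, hT₁, hd₁, ho₁⟩ := h₁
  obtain ⟨V₂, j₁, j₂, j₃, B₂, T₂, hB₂, hA₂, hT₂, hd₂, ho₂⟩ := h₂
  have hnt₁ : Nontrivial V₁ := Module.nontrivial_of_finrank_pos (R := F) (by omega)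
  have hnt₂ : Nontrivial V₂ := Module.nontrivial_of_finrank_pos (R := F) (by omega)
  obtain ⟨w₁, hw₁⟩ := exists_ne (0 : V₁)
  obtain ⟨w₂, hw₂⟩ := exists_ne (0 : V₂)
  refine ⟨V₁ × V₂, inferInstance, inferInstance, inferInstance, prodForm B₁ B₂, T₁.prodMap T₂,
    (-1 : V₁ →ₗ[F] V₁).prodMap (1 : V₂ →ₗ[F] V₂),
    prodForm_nondegenerate B₁ B₂ hB₁ hB₂, ?_, ?_, ?_, ?_, ?_, ?_, ?_, ?_,
    prod_order T₁ T₂ N₁ N₂ ho₁ ho₂⟩
  · intro x
    rw [prodForm_apply, hA₁, hA₂, add_zero]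
  · intro x y
    rw [prodForm_apply, prodForm_apply]
    simp only [LinearMap.prodMap_apply]
    rw [hT₁, hT₂]
  · intro x y
    rw [prodForm_apply, prodForm_apply]
    simp
  · rw [LinearMap.prodMap_mul, LinearMap.prodMap_mul]
    congr 1
    · ext x; simp
  · rw [LinearMap.prodMap_mul, prodMap_one']
    congr 1
    · ext x; simp
  · intro h
    rw [prodMap_one', prodMap_eq_iff] at h
    have := congrArg (fun f : V₁ →ₗ[F] V₁ => f w₁) h.1
    simp only [LinearMap.neg_apply, Module.End.one_apply] at this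
    have h3 : (2 : F) • w₁ = 0 := by
      rw [two_smul]
      nth_rw 1 [← this]
      exact neg_add_cancel w₁
    rcases smul_eq_zero.1 h3 with h4 | h4
    · exact h2 h4
    · exact hw₁ h4
  · intro h
    rw [prodMap_neg_one, prodMap_eq_iff] at h
    have := congrArg (fun f : V₂ →ₗ[F] V₂ => f w₂) h.2
    simp only [LinearMap.neg_apply, Module.End.one_apply] at this
    have h3 : (2 : F) • w₂ = 0 := by
      rw [two_smul]
      nth_rw 2 [this]
      exact add_neg_cancel w₂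
    rcases smul_eq_zero.1 h3 with h4 | h4
    · exact h2 h4
    · exact hw₂ h4
  · rw [Module.finrank_prod, hd₁, hd₂]

end Blocks2

section Realize

open Matrix Polynomial Module Cfsg.Agent.Lib.Helper5.SpProj

universe v u

variable {F : Type u} [Field F] [Fintype F]

theorem toMatrix_mem {V : Type v} [AddCommGroup V] [Module F V] [FiniteDimensional F V]
    (B : LinearMap.BilinForm F V) (n : ℕ) (b : Basis (Fin n ⊕ Fin n) F V)
    (hb : ∀ i j, B (b i) (b j) = Matrix.J (Fin n) F i j) (T : V →ₗ[F] V)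
    (hT : ∀ x y, B (T x) (T y) = B x y) :
    LinearMap.toMatrixAlgEquiv b T ∈ Matrix.symplecticGroup (Fin n) F := by
  have hJ : LinearMap.BilinForm.toMatrix b B = Matrix.J (Fin n) F := by
    ext i j
    rw [LinearMap.BilinForm.toMatrix_apply, hb]
  change LinearMap.toMatrix b b T ∈ Matrix.symplecticGroup (Fin n) F
  rw [SymplecticGroup.mem_iff', ← hJ, ← LinearMap.BilinForm.toMatrix_comp b b B T T]
  congr 1
  ext x y
  exact hT x y

theorem realize (n : ℕ) (hn : 1 ≤ n) (N : ℕ) (h : HasBlock.{v} F (2 * n) N) :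
    ∃ g : Cfsg.PSp n F, N ∣ orderOf g := by
  classical
  obtain ⟨V, i₁, i₂, i₃, B, T, hB, hA, hT, hd, ho⟩ := h
  obtain ⟨b, hb⟩ := Cfsg.Agent.H9.SympEmbed.exists_symplectic_basis B hB hA n hd
  let Φ := LinearMap.toMatrixAlgEquiv b
  let A : symplecticGroup (Fin n) F := ⟨Φ T, toMatrix_mem B n b hb T hT⟩
  refine ⟨QuotientGroup.mk A, ?_⟩
  apply ho
  have h1 := (mk_pow_eq_one_iff n hn A _).1 (pow_orderOf_eq_one (QuotientGroup.mk A : Cfsg.PSp n F))
  change (Φ T) ^ _ = 1 ∨ (Φ T) ^ _ = -1 at h1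
  rcases h1 with h1 | h1
  · left
    apply Φ.injective
    rw [map_pow, h1, map_one]
  · right
    apply Φ.injective
    rw [map_pow, h1, map_neg, map_one]

theorem realize_dec (n : ℕ) (hn : 1 ≤ n) (x : ℕ) (hxodd : Odd x) (h : HasDecBlock.{v} F (2 * n) x) :
    ∃ g : Cfsg.PSp n F, 2 * x ∣ orderOf g := by
  classical
  obtain ⟨V, i₁, i₂, i₃, B, T, h, hB, hA, hT, hh, hTh, hh2, hh1, hhm, hd, ho⟩ := h
  obtain ⟨b, hb⟩ := Cfsg.Agent.H9.SympEmbed.exists_symplectic_basis B hB hA n hd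
  let Φ := LinearMap.toMatrixAlgEquiv b
  let A : symplecticGroup (Fin n) F := ⟨Φ T, toMatrix_mem B n b hb T hT⟩
  let H : symplecticGroup (Fin n) F := ⟨Φ h, toMatrix_mem B n b hb h hh⟩
  apply absorb_inv n hn A H
  · apply Subtype.ext
    change Φ T * Φ h = Φ h * Φ T
    rw [← map_mul, ← map_mul, hTh]
  · apply Subtype.ext
    change Φ h * Φ h = 1
    rw [← map_mul, hh2, map_one]
  · intro h1
    apply hh1
    apply Φ.injective
    have := congrArg (fun g : symplecticGroup (Fin n) F =>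
      (g : Matrix (Fin n ⊕ Fin n) (Fin n ⊕ Fin n) F)) h1
    change Φ h = 1 at this
    rw [this, map_one]
  · intro h1
    apply hhm
    apply Φ.injective
    have := congrArg (fun g : symplecticGroup (Fin n) F =>
      (g : Matrix (Fin n ⊕ Fin n) (Fin n ⊕ Fin n) F)) h1
    change Φ h = -1 at this
    rw [this, map_neg, map_one]
  · exact hxodd
  · intro j hj
    apply ho
    change (Φ T) ^ j = 1 ∨ (Φ T) ^ j = -1 at hj
    rcases hj with h1 | h1
    · left
      apply Φ.injective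
      rw [map_pow, h1, map_one]
    · right
      apply Φ.injective
      rw [map_pow, h1, map_neg, map_one]

end Realize

section BasicBlocks

open Matrix Polynomial Module Cfsg.Agent.Lib.Helper8.RegUnip

universe u

variable {F : Type u} [Field F]

theorem nondeg_of_alt_left {V : Type*} [AddCommGroup V] [Module F V] (B : LinearMap.BilinForm F V)
    (hA : B.IsAlt) (hL : ∀ x, (∀ y, B x y = 0) → x = 0) : B.Nondegenerate := by
  refine ⟨hL, ?_⟩
  intro y hy
  apply hL
  intro x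
  rw [← hA.neg_eq, hy, neg_zero]

theorem hasBlock_one (k : ℕ) : HasBlock.{u} F (2 * k) 1 := by
  refine ⟨Fin k ⊕ Fin k → F, inferInstance, inferInstance, inferInstance,
    Cfsg.Agent.H9.SympForm.sympB k F, 1, ?_, ?_, ?_, ?_, ?_⟩
  · apply nondeg_of_alt_left _ (Cfsg.Agent.H9.SympForm.sympB_self k F)
    intro x hx
    by_contra hne
    obtain ⟨v, hv⟩ := Cfsg.Agent.H9.SympForm.sympB_nondeg k F x hne
    exact hv (hx v)
  · exact Cfsg.Agent.H9.SympForm.sympB_self k F
  · intro x y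
    rfl
  · rw [Module.finrank_fintype_fun_eq_card, Fintype.card_sum, Fintype.card_fin, two_mul]
  · intro j _
    exact one_dvd j

theorem two_ne_zero_of_char (p : ℕ) [Fact p.Prime] [CharP F p] (hp2 : p ≠ 2) : (2 : F) ≠ 0 := by
  intro h
  have h1 : ((2 : ℕ) : F) = 0 := by exact_mod_cast h
  rw [CharP.cast_eq_zero_iff F p 2] at h1
  have hp : p.Prime := Fact.out
  exact hp2 ((Nat.prime_dvd_prime_iff_eq hp Nat.prime_two).1 h1)

theorem hasBlock_unip (p : ℕ) [Fact p.Prime] [CharP F p] (hp2 : p ≠ 2) (K : ℕ) (hK : 1 ≤ K) :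
    HasBlock.{u} F (p ^ (K - 1) + 1) (p ^ K) := by
  have hp : p.Prime := Fact.out
  have h2 : (2 : F) ≠ 0 := two_ne_zero_of_char p hp2
  have hpodd : Odd p := hp.odd_of_ne_two hp2
  obtain ⟨m, hm⟩ : ∃ m, p ^ (K - 1) + 1 = 2 * m := by
    have : Odd (p ^ (K - 1)) := hpodd.pow
    obtain ⟨t, ht⟩ := this
    exact ⟨t + 1, by omega⟩
  have hm1 : 1 ≤ m := by
    have : 0 < p ^ (K - 1) := Nat.pow_pos hp.pos
    omega
  rw [hm]
  have hn : 1 ≤ 2 * m := by omega
  have hnilrt : IsNilpotent (rt F (2 * m)) := ⟨2 * m, rt_pow F (2 * m)⟩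
  obtain ⟨δ, hδ⟩ := hnilrt.isUnit_one_sub.exists_right_inv
  have hδ' : (1 + rt F (2 * m)) * sig F (2 * m) δ = 1 := by
    have := congrArg (sig F (2 * m)) hδ
    rw [map_mul, map_sub, map_one, sig_rt, sub_neg_eq_add] at this
    exact this
  obtain ⟨γ, hγ⟩ : ∃ γ, γ = (1 + rt F (2 * m)) * δ := ⟨_, rfl⟩
  have hγσ : sig F (2 * m) γ * γ = 1 := by
    rw [hγ, map_mul, map_add, map_one, sig_rt]
    linear_combination (1 + rt F (2 * m)) * sig F (2 * m) δ * hδ + hδ'
  have hγ1 : γ - 1 = rt F (2 * m) * (2 * δ) := by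
    rw [hγ]
    linear_combination (1 : TP F (2 * m)) * hδ
  -- `ν = γ - 1` is nilpotent of exact index `2m`
  set ν : TP F (2 * m) := rt F (2 * m) * (2 * δ) with hν
  have hγν : γ = 1 + ν := by rw [← hγ1]; ring
  have hcharTP : CharP (TP F (2 * m)) p := by
    have hinj : Function.Injective (algebraMap F (TP F (2 * m))) := by
      apply AdjoinRoot.of.injective_of_degree_ne_zero
      rw [degree_X_pow]
      exact_mod_cast (by omega : 2 * m ≠ 0)
    exact charP_of_injective_algebraMap hinj p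
  have hpowp : ∀ t : ℕ, γ ^ (p ^ t) = 1 + ν ^ (p ^ t) := by
    intro t
    rw [hγν, add_pow_char_pow, one_pow]
  have hunit2δ : IsUnit (2 * δ) := by
    have h2u : IsUnit (2 : TP F (2 * m)) := by
      have : (2 : TP F (2 * m)) = algebraMap F (TP F (2 * m)) 2 := by rw [map_ofNat]
      rw [this]
      exact (IsUnit.mk0 (2 : F) h2).map (algebraMap F (TP F (2 * m)))
    have hδ2 : δ * (1 - rt F (2 * m)) = 1 := (mul_comm _ _).trans hδ
    have hδu : IsUnit δ := ⟨⟨δ, 1 - rt F (2 * m), hδ2, hδ⟩, rfl⟩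
    exact h2u.mul hδu
  have hνpow : ∀ t : ℕ, ν ^ t = rt F (2 * m) ^ t * (2 * δ) ^ t := fun t => by rw [hν, mul_pow]
  have hν0 : ν ^ (2 * m) = 0 := by rw [hνpow, rt_pow, zero_mul]
  have hν1 : ν ^ (2 * m - 1) ≠ 0 := by
    rw [hνpow]
    intro h
    have h3 : rt F (2 * m) ^ (2 * m - 1) = 0 := by
      have := (hunit2δ.pow (2 * m - 1)).mul_left_eq_zero.1 h
      exact this
    have h4 := bas_apply (F := F) (n := 2 * m) ⟨2 * m - 1, by omega⟩
    simp only at h4
    rw [h3] at h4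
    exact (bas F (2 * m)).ne_zero _ h4
  have hKK : p ^ K = p ^ (K - 1) * p := by
    rw [← pow_succ]
    congr 1
    omega
  have hγK : γ ^ (p ^ K) = 1 := by
    rw [hpowp]
    have hle : 2 * m ≤ p ^ K := by
      rw [hKK, ← hm]
      have h1 : 0 < p ^ (K - 1) := Nat.pow_pos hp.pos
      have h2 := hp.two_le
      nlinarith
    obtain ⟨t, ht⟩ := Nat.exists_eq_add_of_le hle
    rw [ht, pow_add, hν0, zero_mul, add_zero]
  have hγK1 : γ ^ (p ^ (K - 1)) ≠ 1 := by
    rw [hpowp]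
    intro h
    have h3 : ν ^ (p ^ (K - 1)) = 0 := by
      have := congrArg (fun z => z - 1) h
      simpa using this
    apply hν1
    have : 2 * m - 1 = p ^ (K - 1) := by omega
    rw [this]
    exact h3
  have hordγ : orderOf γ = p ^ K := by
    have ho2 : orderOf γ ∣ p ^ K := orderOf_dvd_of_pow_eq_one hγK
    obtain ⟨i, hi, hoi⟩ := (Nat.dvd_prime_pow hp).1 ho2
    have hiK : i = K := by
      by_contra hne
      have hlt : i ≤ K - 1 := by omega
      apply hγK1
      apply orderOf_dvd_iff_pow_eq_one.1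
      rw [hoi]
      exact pow_dvd_pow p hlt
    rw [hoi, hiK]
  refine ⟨TP F (2 * m), inferInstance, inferInstance,
    Module.Basis.finiteDimensional_of_finite (bas F (2 * m)),
    modelB (n := 2 * m) hn, Algebra.lmul F (TP F (2 * m)) γ,
    ⟨fun a ha => modelB_sepLeft hn a ha, fun w hw => modelB_sepRight hn w hw⟩,
    fun a => modelB_alt h2 m hm1 a, ?_, ?_, ?_⟩
  · intro a b
    rw [modelB_apply, modelB_apply]
    have h1 : ∀ x, Algebra.lmul F (TP F (2 * m)) γ x = γ * x := fun x => rfl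
    rw [h1, h1, map_mul (sig F (2 * m))]
    have : sig F (2 * m) γ * sig F (2 * m) a * (γ * b) = (sig F (2 * m) γ * γ) * (sig F (2 * m) a * b) := by
      ring
    rw [this, hγσ, one_mul]
  · rw [Module.finrank_eq_card_basis (bas F (2 * m)), Fintype.card_fin]
  · intro j hj
    have hpow : (Algebra.lmul F (TP F (2 * m)) γ) ^ j = Algebra.lmul F (TP F (2 * m)) (γ ^ j) := by
      rw [map_pow]
    rw [hpow] at hj
    have hγj : γ ^ j = 1 ∨ γ ^ j = -1 := by
      rcases hj with h | h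
      · left
        have := congrArg (fun f : TP F (2 * m) →ₗ[F] TP F (2 * m) => f 1) h
        simpa using this
      · right
        have := congrArg (fun f : TP F (2 * m) →ₗ[F] TP F (2 * m) => f 1) h
        simpa using this
    have h2j : γ ^ (2 * j) = 1 := by
      rw [show 2 * j = j * 2 from mul_comm 2 j, pow_mul]
      rcases hγj with h | h
      · rw [h, one_pow]
      · rw [h]; simp
    have h3 : p ^ K ∣ 2 * j := by
      rw [← hordγ]
      exact orderOf_dvd_of_pow_eq_one h2j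
    have hcop : Nat.Coprime (p ^ K) 2 := by
      apply Nat.Coprime.pow_left
      rw [Nat.coprime_two_right]
      exact hpodd
    exact hcop.dvd_of_dvd_mul_left h3

end BasicBlocks

section TPlus

open Matrix Polynomial Module

universe u

variable {F : Type u} [Field F] [Fintype F]

theorem half_dvd_of_dvd_two_mul (M j : ℕ) (hM : Even M) (h : M ∣ 2 * j) : M / 2 ∣ j := by
  obtain ⟨t, ht⟩ := hM
  have h1 : M = 2 * t := by omega
  rw [h1] at h ⊢
  rw [Nat.mul_div_cancel_left _ (by norm_num : 0 < 2)]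
  exact (Nat.mul_dvd_mul_iff_left (by norm_num : 0 < 2)).1 h

theorem hasBlock_tplus (p : ℕ) [Fact p.Prime] [CharP F p] (hodd : Odd (Fintype.card F))
    (d : ℕ) (hd : 1 ≤ d) :
    HasBlock.{0} F (2 * d) ((Fintype.card F ^ d - 1) / 2) := by
  classical
  have : NeZero d := ⟨by omega⟩
  let K := FiniteField.Extension F p d
  have hfr : finrank F K = d := FiniteField.finrank_extension F p d
  set q := Fintype.card F with hqdef
  have hcardK : Nat.card K = q ^ d := by
    rw [FiniteField.natCard_extension, Nat.card_eq_fintype_card]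
  obtain ⟨ζ, hζ⟩ := IsCyclic.exists_generator (α := Kˣ)
  have hordζ : orderOf ζ = q ^ d - 1 := by
    rw [orderOf_eq_card_of_forall_mem_zpowers hζ, Nat.card_units, hcardK]
  set z : K := (ζ : K) with hz
  have hz0 : z ≠ 0 := Units.ne_zero ζ
  have hzpow : ∀ k : ℕ, z ^ k = 1 ↔ q ^ d - 1 ∣ k := by
    intro k
    rw [hz, ← Units.val_pow_eq_pow_val, Units.val_eq_one, ← orderOf_dvd_iff_pow_eq_one, hordζ]
  let tf := Algebra.traceForm F K
  have htf : ∀ x : K, (∀ y, Algebra.trace F K (x * y) = 0) → x = 0 := by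
    intro x hx
    exact (_root_.traceForm_nondegenerate F K).1 x hx
  let B : LinearMap.BilinForm F (K × K) :=
    tf.compl₁₂ (LinearMap.fst F K K) (LinearMap.snd F K K) -
      tf.compl₁₂ (LinearMap.snd F K K) (LinearMap.fst F K K)
  have hBapp : ∀ x y : K × K, B x y = Algebra.trace F K (x.1 * y.2) - Algebra.trace F K (x.2 * y.1) := by
    intro x y
    simp [B, tf, Algebra.traceForm_apply]
  have hAlt : B.IsAlt := by
    intro x
    rw [hBapp, mul_comm, sub_self]
  let T : (K × K) →ₗ[F] (K × K) := (Algebra.lmul F K z).prodMap (Algebra.lmul F K z⁻¹)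
  have hTapp : ∀ x : K × K, T x = (z * x.1, z⁻¹ * x.2) := fun x => rfl
  have hTpow : ∀ (j : ℕ) (x : K × K), (T ^ j) x = (z ^ j * x.1, (z⁻¹) ^ j * x.2) := by
    intro j
    induction j with
    | zero => intro x; simp
    | succ j ih =>
      intro x
      rw [pow_succ, Module.End.mul_apply, hTapp, ih]
      simp only
      rw [pow_succ, pow_succ, mul_assoc, mul_assoc]
  refine ⟨K × K, inferInstance, inferInstance, inferInstance, B, T, ?_, hAlt, ?_, ?_, ?_⟩
  · apply nondeg_of_alt_left B hAlt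
    intro x hx
    have h1 : x.1 = 0 := by
      apply htf
      intro y
      have := hx (0, y)
      rw [hBapp] at this
      simpa using this
    have h2 : x.2 = 0 := by
      apply htf
      intro y
      have := hx (y, 0)
      rw [hBapp] at this
      simpa using this
    exact Prod.ext h1 h2
  · intro x y
    rw [hBapp, hBapp, hTapp, hTapp]
    simp only
    have e1 : z * x.1 * (z⁻¹ * y.2) = x.1 * y.2 := by
      have : z * x.1 * (z⁻¹ * y.2) = (z * z⁻¹) * (x.1 * y.2) := by ring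
      rw [this, mul_inv_cancel₀ hz0, one_mul]
    have e2 : z⁻¹ * x.2 * (z * y.1) = x.2 * y.1 := by
      have : z⁻¹ * x.2 * (z * y.1) = (z * z⁻¹) * (x.2 * y.1) := by ring
      rw [this, mul_inv_cancel₀ hz0, one_mul]
    rw [e1, e2]
  · rw [Module.finrank_prod, hfr, two_mul]
  · intro j hj
    have hzj : z ^ j = 1 ∨ z ^ j = -1 := by
      rcases hj with h | h
      · left
        have := congrArg (fun f : (K × K) →ₗ[F] (K × K) => (f (1, 0)).1) h
        simp only [hTpow] at this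
        simpa using this
      · right
        have := congrArg (fun f : (K × K) →ₗ[F] (K × K) => (f (1, 0)).1) h
        simp only [hTpow] at this
        simpa using this
    have h2j : z ^ (2 * j) = 1 := by
      rw [show 2 * j = j * 2 from mul_comm 2 j, pow_mul]
      rcases hzj with h | h
      · rw [h, one_pow]
      · rw [h]; simp
    have h3 : q ^ d - 1 ∣ 2 * j := (hzpow _).1 h2j
    apply half_dvd_of_dvd_two_mul _ _ _ h3
    have hqd : Odd (q ^ d) := hodd.pow
    obtain ⟨t, ht⟩ := hqd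
    exact ⟨t, by omega⟩

end TPlus

section TMinus

open Matrix Polynomial Module

universe u

variable {F : Type u} [Field F] [Fintype F]

theorem two_ne_zero_of_odd_card (hodd : Odd (Fintype.card F)) : (2 : F) ≠ 0 := by
  obtain ⟨p, hp⟩ := CharP.exists F
  have hpp : p.Prime := CharP.char_is_prime F p
  intro h
  have h1 : ((2 : ℕ) : F) = 0 := by exact_mod_cast h
  have hp2 : p ∣ 2 := (CharP.cast_eq_zero_iff F p 2).1 h1
  have hpq : p ∣ Fintype.card F := Cfsg.Agent.S2510.char_dvd_card p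
  have : p = 2 := (Nat.prime_dvd_prime_iff_eq hpp Nat.prime_two).1 hp2
  rw [this] at hpq
  exact (Nat.not_even_iff_odd.2 hodd) (even_iff_two_dvd.2 hpq)

theorem sq_sub_one_factor (a : ℕ) (ha : 1 ≤ a) : a ^ 2 - 1 = (a - 1) * (a + 1) := by
  obtain ⟨b, rfl⟩ : ∃ b, a = b + 1 := ⟨a - 1, by omega⟩
  have : (b + 1) ^ 2 = (b + 1 - 1) * (b + 1 + 1) + 1 := by
    simp only [Nat.add_sub_cancel]
    ring
  omega

theorem hasBlock_tminus (p : ℕ) [Fact p.Prime] [CharP F p] (hodd : Odd (Fintype.card F))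
    (d : ℕ) (hd : 1 ≤ d) :
    HasBlock.{0} F (2 * d) ((Fintype.card F ^ d + 1) / 2) := by
  classical
  have : NeZero (2 * d) := ⟨by omega⟩
  let K := FiniteField.Extension F p (2 * d)
  have hfr : finrank F K = 2 * d := FiniteField.finrank_extension F p (2 * d)
  set q := Fintype.card F with hqdef
  have hq1 : 1 < q := Fintype.one_lt_card
  have hqd1 : 1 < q ^ d := Nat.one_lt_pow (by omega) hq1
  have hcardK : Nat.card K = q ^ (2 * d) := by
    rw [FiniteField.natCard_extension, Nat.card_eq_fintype_card]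
  have hfac : q ^ (2 * d) - 1 = (q ^ d - 1) * (q ^ d + 1) := by
    rw [mul_comm 2 d, pow_mul]
    exact sq_sub_one_factor _ (by omega)
  have h2F : (2 : F) ≠ 0 := two_ne_zero_of_odd_card hodd
  -- the involution
  let fr := FiniteField.Extension.frob F p (2 * d)
  let φ : K ≃ₐ[F] K := fr ^ d
  have hφapp : ∀ x : K, φ x = x ^ (q ^ d) := by
    intro x
    have := FiniteField.Extension.frob_iterate_apply F p (2 * d) d (x := x)
    rw [Nat.card_eq_fintype_card] at this
    exact this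
  have hpowK : ∀ x : K, x ^ (q ^ (2 * d)) = x := by
    intro x
    haveI := Fintype.ofFinite K
    have := FiniteField.pow_card x
    rw [Fintype.card_eq_nat_card, hcardK] at this
    exact this
  have hφφ : ∀ x : K, φ (φ x) = x := by
    intro x
    rw [hφapp, hφapp, ← pow_mul, ← pow_add, ← two_mul, hpowK]
  -- a generator
  obtain ⟨ζ, hζ⟩ := IsCyclic.exists_generator (α := Kˣ)
  have hordζ : orderOf ζ = q ^ (2 * d) - 1 := by
    rw [orderOf_eq_card_of_forall_mem_zpowers hζ, Nat.card_units, hcardK]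
  have hζpow : ∀ k : ℕ, ((ζ : K)) ^ k = 1 ↔ q ^ (2 * d) - 1 ∣ k := by
    intro k
    rw [← Units.val_pow_eq_pow_val, Units.val_eq_one, ← orderOf_dvd_iff_pow_eq_one, hordζ]
  have hζ0 : (ζ : K) ≠ 0 := Units.ne_zero ζ
  have hφζ : φ (ζ : K) ≠ (ζ : K) := by
    rw [hφapp]
    intro h
    have h1 : (ζ : K) ^ (q ^ d - 1) = 1 := by
      have h2 : (ζ : K) ^ (q ^ d - 1) * (ζ : K) = 1 * (ζ : K) := by
        rw [← pow_succ, Nat.sub_add_cancel (by omega), h, one_mul]
      exact mul_right_cancel₀ hζ0 h2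
    rw [hζpow, hfac] at h1
    have h3 : (q ^ d - 1) * (q ^ d + 1) ≤ q ^ d - 1 := Nat.le_of_dvd (by omega) h1
    have h4 : (q ^ d - 1) * 2 ≤ (q ^ d - 1) * (q ^ d + 1) := Nat.mul_le_mul_left _ (by omega)
    omega
  set α : K := φ (ζ : K) - (ζ : K) with hα
  have hα0 : α ≠ 0 := sub_ne_zero.2 hφζ
  have hφα : φ α = -α := by
    rw [hα, map_sub, hφφ]
    ring
  set z : K := (ζ : K) ^ (q ^ d - 1) with hz
  have hzφ : z * φ z = 1 := by
    rw [hφapp, ← pow_succ', hz, ← pow_mul, hζpow, hfac]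
  have hzpow : ∀ k : ℕ, z ^ k = 1 ↔ q ^ d + 1 ∣ k := by
    intro k
    rw [hz, ← pow_mul, hζpow, hfac, Nat.mul_dvd_mul_iff_left (by omega)]
  let tf := Algebra.traceForm F K
  have htf : ∀ x : K, (∀ y, Algebra.trace F K (x * y) = 0) → x = 0 := by
    intro x hx
    exact (_root_.traceForm_nondegenerate F K).1 x hx
  let B : LinearMap.BilinForm F K :=
    tf.compl₁₂ (Algebra.lmul F K α : K →ₗ[F] K) (φ.toLinearMap)
  have hBapp : ∀ x y : K, B x y = Algebra.trace F K (α * x * φ y) := by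
    intro x y
    simp [B, tf, Algebra.traceForm_apply]
  have hAlt : B.IsAlt := by
    intro x
    rw [hBapp]
    set w := α * x * φ x with hw
    have h1 : φ w = -w := by
      rw [hw, map_mul, map_mul, hφα, hφφ]
      ring
    have h2 : Algebra.trace F K (φ w) = Algebra.trace F K w := Algebra.trace_eq_of_algEquiv φ w
    rw [h1, map_neg] at h2
    have h3 : (2 : F) * Algebra.trace F K w = 0 := by linear_combination -h2
    exact (mul_eq_zero.1 h3).resolve_left h2F
  let T : K →ₗ[F] K := Algebra.lmul F K z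
  refine ⟨K, inferInstance, inferInstance, inferInstance, B, T, ?_, hAlt, ?_, hfr, ?_⟩
  · apply nondeg_of_alt_left B hAlt
    intro x hx
    have h1 : α * x = 0 := by
      apply htf
      intro y
      have := hx (φ y)
      rw [hBapp, hφφ] at this
      exact this
    exact (mul_eq_zero.1 h1).resolve_left hα0
  · intro x y
    rw [hBapp, hBapp]
    have h1 : ∀ w, T w = z * w := fun w => rfl
    rw [h1, h1, map_mul φ]
    have : α * (z * x) * (φ z * φ y) = (z * φ z) * (α * x * φ y) := by ring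
    rw [this, hzφ, one_mul]
  · intro j hj
    have hpow : T ^ j = Algebra.lmul F K (z ^ j) := by
      rw [map_pow]
    rw [hpow] at hj
    have hzj : z ^ j = 1 ∨ z ^ j = -1 := by
      rcases hj with h | h
      · left
        have := congrArg (fun f : K →ₗ[F] K => f 1) h
        simpa using this
      · right
        have := congrArg (fun f : K →ₗ[F] K => f 1) h
        simpa using this
    have h2j : z ^ (2 * j) = 1 := by
      rw [show 2 * j = j * 2 from mul_comm 2 j, pow_mul]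
      rcases hzj with h | h
      · rw [h, one_pow]
      · rw [h]; simp
    have h3 : q ^ d + 1 ∣ 2 * j := (hzpow _).1 h2j
    apply half_dvd_of_dvd_two_mul _ _ _ h3
    have hqd : Odd (q ^ d) := hodd.pow
    obtain ⟨t, ht⟩ := hqd
    exact ⟨t + 1, by omega⟩

end TMinus

section Idem

open Matrix Polynomial

variable {F : Type*} [Field F] {l : Type*} [Fintype l] [DecidableEq l]

theorem aeval_commute (A : Matrix (l ⊕ l) (l ⊕ l) F) (φ₁ φ₂ : F[X]) :
    aeval A φ₁ * aeval A φ₂ = aeval A φ₂ * aeval A φ₁ := by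
  rw [← map_mul, ← map_mul, mul_comm]

theorem adj_aeval_eq (A : Matrix (l ⊕ l) (l ⊕ l) F) (ψ : F[X]) (hψ : adj A = aeval A ψ) (φ : F[X]) :
    adj (aeval A φ) = aeval A (φ.comp ψ) := by
  rw [adj_aeval, hψ, Polynomial.aeval_comp]

/-- abstract version: commuting idempotents -/
theorem idem_dichotomy_aux {M : Type*} [Ring M] (P P' : M) (hPP : P * P = P) (hP'P' : P' * P' = P')
    (hc : P * P' = P' * P) (hP0 : P ≠ 0) (hP1 : P ≠ 1)
    (hQ : P * P' = 0 ∨ P * P' = 1) (hR : P * P' = 0 → (P + P' = 0 ∨ P + P' = 1)) :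
    P' = 1 - P := by
  rcases hQ with h0 | h1
  · rcases hR h0 with hr0 | hr1
    · exfalso
      have h2 : P' = -P := by
        rw [← sub_eq_zero, sub_neg_eq_add, add_comm]; exact hr0
      rw [h2, mul_neg, hPP, neg_eq_zero] at h0
      exact hP0 h0
    · rw [← hr1]; abel
  · exfalso
    apply hP1
    calc P = P * 1 := (mul_one P).symm
      _ = P * (P * P') := by rw [h1]
      _ = (P * P) * P' := by rw [mul_assoc]
      _ = 1 := by rw [hPP, h1]

theorem idem_dichotomy (A : Matrix (l ⊕ l) (l ⊕ l) F) (ψ : F[X]) (hψ : adj A = aeval A ψ)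
    (hno : ∀ φ : F[X], aeval A φ * aeval A φ = aeval A φ → adj (aeval A φ) = aeval A φ →
      aeval A φ = 0 ∨ aeval A φ = 1)
    (φ : F[X]) (hPP : aeval A φ * aeval A φ = aeval A φ) (hP0 : aeval A φ ≠ 0)
    (hP1 : aeval A φ ≠ 1) :
    adj (aeval A φ) = 1 - aeval A φ := by
  set P := aeval A φ with hP
  have hP' : adj P = aeval A (φ.comp ψ) := adj_aeval_eq A ψ hψ φ
  have hc : P * adj P = adj P * P := by rw [hP', hP]; exact aeval_commute A _ _
  have hP'P' : adj P * adj P = adj P := by rw [← adj_mul, hPP]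
  have hQidem : (P * adj P) * (P * adj P) = P * adj P := by
    calc (P * adj P) * (P * adj P) = P * (adj P * P) * adj P := by simp only [mul_assoc]
      _ = P * (P * adj P) * adj P := by rw [hc]
      _ = (P * P) * (adj P * adj P) := by simp only [mul_assoc]
      _ = P * adj P := by rw [hPP, hP'P']
  have hQadj : adj (P * adj P) = P * adj P := by rw [adj_mul, adj_adj]
  have hQpoly : P * adj P = aeval A (φ * φ.comp ψ) := by rw [hP', hP, map_mul]
  have hQ : P * adj P = 0 ∨ P * adj P = 1 := by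
    rw [hQpoly] at hQidem hQadj ⊢
    exact hno _ hQidem hQadj
  apply idem_dichotomy_aux P (adj P) hPP hP'P' hc hP0 hP1 hQ
  intro h0
  have hRpoly : P + adj P = aeval A (φ + φ.comp ψ) := by rw [hP', hP, map_add]
  have hRidem : (P + adj P) * (P + adj P) = P + adj P := by
    rw [add_mul, mul_add, mul_add, hPP, hP'P', ← hc, h0, add_zero, zero_add]
  have hRadj : adj (P + adj P) = P + adj P := by rw [adj_add, adj_adj, add_comm]
  rw [hRpoly] at hRidem hRadj ⊢
  exact hno _ hRidem hRadj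

theorem idem_core (A : Matrix (l ⊕ l) (l ⊕ l) F) (ψ : F[X]) (hψ : adj A = aeval A ψ)
    (hno : ∀ φ : F[X], aeval A φ * aeval A φ = aeval A φ → adj (aeval A φ) = aeval A φ →
      aeval A φ = 0 ∨ aeval A φ = 1)
    (φ₁ φ₂ : F[X]) (h₁ : aeval A φ₁ * aeval A φ₁ = aeval A φ₁)
    (h₂ : aeval A φ₂ * aeval A φ₂ = aeval A φ₂)
    (ha₁ : adj (aeval A φ₁) = 1 - aeval A φ₁) (ha₂ : adj (aeval A φ₂) = 1 - aeval A φ₂)
    (hE0 : aeval A φ₁ * aeval A φ₂ ≠ 0) (hE1 : aeval A φ₁ * aeval A φ₂ ≠ 1) :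
    aeval A φ₁ = aeval A φ₂ := by
  set P₁ := aeval A φ₁ with hP₁
  set P₂ := aeval A φ₂ with hP₂
  have hc : P₁ * P₂ = P₂ * P₁ := aeval_commute A _ _
  have hEpoly : P₁ * P₂ = aeval A (φ₁ * φ₂) := by rw [hP₁, hP₂, map_mul]
  have hEidem : (P₁ * P₂) * (P₁ * P₂) = P₁ * P₂ := by
    calc (P₁ * P₂) * (P₁ * P₂) = P₁ * (P₂ * P₁) * P₂ := by simp only [mul_assoc]
      _ = P₁ * (P₁ * P₂) * P₂ := by rw [hc]
      _ = (P₁ * P₁) * (P₂ * P₂) := by simp only [mul_assoc]
      _ = P₁ * P₂ := by rw [h₁, h₂]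
  have hEadj : adj (P₁ * P₂) = 1 - P₁ * P₂ := by
    rw [hEpoly] at hEidem hE0 hE1 ⊢
    exact idem_dichotomy A ψ hψ hno _ hEidem hE0 hE1
  rw [adj_mul, ha₁, ha₂] at hEadj
  -- (1 - P₂)(1 - P₁) = 1 - P₁P₂
  have hkey : P₁ + P₂ = P₁ * P₂ + P₁ * P₂ := by
    have h3 : (1 - P₂) * (1 - P₁) = 1 - P₁ - P₂ + P₁ * P₂ := by
      rw [sub_mul, mul_sub, mul_sub, one_mul, mul_one, one_mul, ← hc]
      abel
    rw [h3] at hEadj
    have h4 : (1 - P₁ - P₂ + P₁ * P₂) + (P₁ + P₂ + P₁ * P₂) - 1 = (1 - P₁ * P₂) + (P₁ + P₂ + P₁ * P₂) - 1 := by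
      rw [hEadj]
    have h5 : (1 - P₁ - P₂ + P₁ * P₂) + (P₁ + P₂ + P₁ * P₂) - 1 = P₁ * P₂ + P₁ * P₂ := by abel
    have h6 : (1 - P₁ * P₂) + (P₁ + P₂ + P₁ * P₂) - 1 = P₁ + P₂ := by abel
    rw [h5, h6] at h4
    exact h4.symm
  have hP₁E : P₁ * (P₁ * P₂) = P₁ * P₂ := by rw [← mul_assoc, h₁]
  have hP₂E : (P₁ * P₂) * P₂ = P₁ * P₂ := by rw [mul_assoc, h₂]
  have e1 : P₁ = P₁ * P₂ := by
    have := congrArg (fun M => P₁ * M) hkey
    simp only [mul_add, h₁, hP₁E] at this
    exact add_right_cancel this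
  have e2 : P₂ = P₁ * P₂ := by
    have := congrArg (fun M => M * P₂) hkey
    simp only [add_mul, h₂, hP₂E] at this
    exact add_left_cancel this
  rw [e1]
  exact e2.symm

theorem idem_unique (A : Matrix (l ⊕ l) (l ⊕ l) F) (ψ : F[X]) (hψ : adj A = aeval A ψ)
    (hno : ∀ φ : F[X], aeval A φ * aeval A φ = aeval A φ → adj (aeval A φ) = aeval A φ →
      aeval A φ = 0 ∨ aeval A φ = 1)
    (φ₁ φ₂ : F[X]) (h₁ : aeval A φ₁ * aeval A φ₁ = aeval A φ₁)
    (h₂ : aeval A φ₂ * aeval A φ₂ = aeval A φ₂)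
    (h₁0 : aeval A φ₁ ≠ 0) (h₁1 : aeval A φ₁ ≠ 1) (h₂0 : aeval A φ₂ ≠ 0) (h₂1 : aeval A φ₂ ≠ 1) :
    aeval A φ₂ = aeval A φ₁ ∨ aeval A φ₂ = 1 - aeval A φ₁ := by
  have ha₁ := idem_dichotomy A ψ hψ hno φ₁ h₁ h₁0 h₁1
  have ha₂ := idem_dichotomy A ψ hψ hno φ₂ h₂ h₂0 h₂1
  by_cases hE1 : aeval A φ₁ * aeval A φ₂ = 1
  · exfalso
    apply h₁1
    calc aeval A φ₁ = aeval A φ₁ * 1 := (mul_one _).symm
      _ = aeval A φ₁ * (aeval A φ₁ * aeval A φ₂) := by rw [hE1]
      _ = (aeval A φ₁ * aeval A φ₁) * aeval A φ₂ := by rw [mul_assoc]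
      _ = 1 := by rw [h₁, hE1]
  by_cases hE0 : aeval A φ₁ * aeval A φ₂ = 0
  · right
    -- use 1 - φ₂
    have h2' : aeval A (1 - φ₂) = 1 - aeval A φ₂ := by rw [map_sub, map_one]
    have hidem' : aeval A (1 - φ₂) * aeval A (1 - φ₂) = aeval A (1 - φ₂) := by
      rw [h2', sub_mul, mul_sub, mul_sub, one_mul, mul_one, one_mul, h₂]
      abel
    have hadj' : adj (aeval A (1 - φ₂)) = 1 - aeval A (1 - φ₂) := by
      rw [h2', adj_sub, adj_one, ha₂]
    have hE' : aeval A φ₁ * aeval A (1 - φ₂) = aeval A φ₁ := by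
      rw [h2', mul_sub, mul_one, hE0, sub_zero]
    have := idem_core A ψ hψ hno φ₁ (1 - φ₂) h₁ hidem' ha₁ hadj' (by rw [hE']; exact h₁0)
      (by rw [hE']; exact h₁1)
    rw [h2'] at this
    rw [this]
    abel
  · left
    exact (idem_core A ψ hψ hno φ₁ φ₂ h₁ h₂ ha₁ ha₂ hE0 hE1).symm

end Idem

section Galois

open Polynomial

variable {F : Type*} [Field F] [Fintype F]

theorem card_adjoinRoot (f : F[X]) (hf : Irreducible f) [Fact (Irreducible f)] [Fintype (AdjoinRoot f)] :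
    Fintype.card (AdjoinRoot f) = Fintype.card F ^ f.natDegree := by
  have hf0 : f ≠ 0 := hf.ne_zero
  have hfin : Module.Finite F (AdjoinRoot f) := (AdjoinRoot.powerBasis hf0).finite
  have hfr : Module.finrank F (AdjoinRoot f) = f.natDegree := by
    rw [PowerBasis.finrank (AdjoinRoot.powerBasis hf0)]
    exact AdjoinRoot.powerBasis_dim hf0
  rw [Module.card_eq_pow_finrank (K := F) (V := AdjoinRoot f), hfr]

theorem irr_dvd_pow_sub_one (f : F[X]) (hf : Irreducible f) (hX : ¬ f ∣ X) :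
    f ∣ X ^ (Fintype.card F ^ f.natDegree - 1) - 1 := by
  classical
  have : Fact (Irreducible f) := ⟨hf⟩
  have hf0 : f ≠ 0 := hf.ne_zero
  have hfin : Module.Finite F (AdjoinRoot f) := (AdjoinRoot.powerBasis hf0).finite
  have : Finite (AdjoinRoot f) := Module.finite_of_finite F
  have : Fintype (AdjoinRoot f) := Fintype.ofFinite _
  have hα0 : AdjoinRoot.root f ≠ 0 := by
    intro h
    apply hX
    rw [← AdjoinRoot.mk_eq_zero, AdjoinRoot.mk_X]
    exact h
  have h1 := FiniteField.pow_card_sub_one_eq_one (AdjoinRoot.root f) hα0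
  rw [card_adjoinRoot f hf] at h1
  rw [← AdjoinRoot.mk_eq_zero, map_sub, map_pow, AdjoinRoot.mk_X, map_one, h1, sub_self]

theorem irr_recip (p : ℕ) [Fact p.Prime] [CharP F p] (f : F[X]) (hf : Irreducible f)
    (hd : 2 ≤ f.natDegree) (x : ℕ) (hx : 1 ≤ x) (hfx : f ∣ X ^ x - 1)
    (hcomp : f ∣ f.comp (X ^ (x - 1))) :
    ∃ d' : ℕ, f.natDegree = 2 * d' ∧ f ∣ X ^ (Fintype.card F ^ d' + 1) - 1 := by
  classical
  have : Fact (Irreducible f) := ⟨hf⟩
  have hf0 : f ≠ 0 := hf.ne_zero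
  have hfin : Module.Finite F (AdjoinRoot f) := (AdjoinRoot.powerBasis hf0).finite
  have : Finite (AdjoinRoot f) := Module.finite_of_finite F
  have : Fintype (AdjoinRoot f) := Fintype.ofFinite _
  set q := Fintype.card F with hqdef
  set d := f.natDegree with hddef
  have hq1 : 1 < q := Fintype.one_lt_card
  set α : AdjoinRoot f := AdjoinRoot.root f with hα
  have hαx : α ^ x = 1 := by
    have := AdjoinRoot.mk_eq_zero.2 hfx
    rw [map_sub, map_pow, AdjoinRoot.mk_X, map_one, sub_eq_zero] at this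
    exact this
  set β : AdjoinRoot f := α ^ (x - 1) with hβ
  have hαβ : α * β = 1 := by
    rw [hβ, ← pow_succ', Nat.sub_add_cancel hx, hαx]
  have hα0 : α ≠ 0 := left_ne_zero_of_mul_eq_one hαβ
  have hβinv : β = α⁻¹ := eq_inv_of_mul_eq_one_right hαβ
  have hfβ : aeval β f = 0 := by
    have h1 := AdjoinRoot.mk_eq_zero.2 hcomp
    rw [← AdjoinRoot.aeval_eq, Polynomial.aeval_comp, map_pow, aeval_X] at h1
    exact h1
  let τ₀ : AdjoinRoot f →ₐ[F] AdjoinRoot f :=
    AdjoinRoot.liftAlgHom f (Algebra.ofId F (AdjoinRoot f)) β (by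
      have : eval₂ (algebraMap F (AdjoinRoot f)) β f = 0 := by
        rw [← Polynomial.aeval_def]; exact hfβ
      exact this)
  have hτ₀α : τ₀ α = β := AdjoinRoot.liftAlgHom_root f _ β _
  let τ : AdjoinRoot f ≃ₐ[F] AdjoinRoot f := AlgEquiv.ofBijective τ₀ (AlgHom.bijective τ₀)
  obtain ⟨i, hi⟩ := FiniteField.exists_forall_apply_eq_pow F p (AdjoinRoot f) τ
  rw [Nat.card_eq_fintype_card, ← hqdef] at hi
  have hi' : β = α ^ (q ^ i) := by
    rw [← hi α]
    exact hτ₀α.symm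
  have hd1 : 1 ≤ d := by omega
  -- reduce `i` modulo `d`
  have hcard : Fintype.card (AdjoinRoot f) = q ^ d := card_adjoinRoot f hf
  have hpowd : ∀ y : AdjoinRoot f, y ^ (q ^ d) = y := by
    intro y
    have := FiniteField.pow_card y
    rw [hcard] at this
    exact this
  have hpowdt : ∀ (t : ℕ) (y : AdjoinRoot f), y ^ (q ^ (d * t)) = y := by
    intro t
    induction t with
    | zero => intro y; simp
    | succ t ih =>
      intro y
      rw [Nat.mul_succ, pow_add, pow_mul, ih, hpowd]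
  set i₀ := i % d with hi₀
  have hi₀lt : i₀ < d := Nat.mod_lt _ (by omega)
  have hR : α ^ (q ^ i₀) = α⁻¹ := by
    rw [← hβinv, hi']
    have h1 : i = d * (i / d) + i₀ := (Nat.div_add_mod i d).symm
    conv_rhs => rw [h1, pow_add, pow_mul, hpowdt]
  have h2i : α ^ (q ^ (2 * i₀)) = α := by
    rw [two_mul, pow_add, pow_mul, hR, inv_pow, hR, inv_inv]
  have hdvd : f ∣ X ^ (Nat.card F) ^ (2 * i₀) - X := by
    rw [Nat.card_eq_fintype_card, ← hqdef, ← AdjoinRoot.mk_eq_zero, map_sub, map_pow, AdjoinRoot.mk_X]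
    rw [← hα, h2i, sub_self]
  have hd2 : d ∣ 2 * i₀ := hf.natDegree_dvd_of_dvd_X_pow_card_pow_sub_X hdvd
  obtain ⟨s, hs⟩ := hd2
  have hs1 : s = 0 ∨ s = 1 := by
    rcases s with _ | _ | s
    · exact Or.inl rfl
    · exact Or.inr rfl
    · exfalso
      have : d * (s + 1 + 1) = d * s + 2 * d := by ring
      rw [this] at hs
      have h3 : 0 ≤ d * s := Nat.zero_le _
      omega
  rcases hs1 with hs0 | hs1
  · -- i₀ = 0 : impossible
    exfalso
    rw [hs0, mul_zero] at hs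
    have hi0 : i₀ = 0 := by omega
    rw [hi0, pow_zero, pow_one] at hR
    have hsq : α ^ 2 = 1 := by
      rw [pow_two]
      nth_rw 2 [hR]
      exact mul_inv_cancel₀ hα0
    have hdvd2 : f ∣ X ^ 2 - 1 := by
      rw [← AdjoinRoot.mk_eq_zero, map_sub, map_pow, AdjoinRoot.mk_X, map_one, ← hα, hsq, sub_self]
    have hfac : (X ^ 2 - 1 : F[X]) = (X - C 1) * (X + C 1) := by
      rw [map_one]; ring
    rw [hfac] at hdvd2
    rcases hf.prime.dvd_or_dvd hdvd2 with h | h
    · have := natDegree_le_of_dvd h (X_sub_C_ne_zero 1)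
      rw [natDegree_X_sub_C] at this
      omega
    · have := natDegree_le_of_dvd h (X_add_C_ne_zero 1)
      rw [natDegree_X_add_C] at this
      omega
  · refine ⟨i₀, by rw [hs1, mul_one] at hs; omega, ?_⟩
    rw [← AdjoinRoot.mk_eq_zero, map_sub, map_pow, AdjoinRoot.mk_X, map_one, ← hα, pow_succ, hR,
      inv_mul_cancel₀ hα0, sub_self]

end Galois

section Finish

open Matrix Polynomial Module

universe v u

variable {F : Type u} [Field F] [Fintype F]

theorem hasDec_mono (dim N x : ℕ) (hx : x ∣ N) (h : HasDecBlock.{v} F dim N) :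
    HasDecBlock.{v} F dim x := by
  obtain ⟨V, i₁, i₂, i₃, B, T, h', hB, hA, hT, hh, hTh, hh2, hh1, hhm, hd, ho⟩ := h
  exact ⟨V, i₁, i₂, i₃, B, T, h', hB, hA, hT, hh, hTh, hh2, hh1, hhm, hd,
    fun j hj => dvd_trans hx (ho j hj)⟩

theorem finish (p : ℕ) [Fact p.Prime] [CharP F p] (hp2 : p ≠ 2) (n d e N₀ x : ℕ) (hd : 1 ≤ d)
    (he : 1 ≤ e) (hde : d * e ≤ n) (hne : ¬ (e = 1 ∧ d = n)) (hblk : HasBlock.{0} F (2 * d) N₀)
    (hcop : Nat.Coprime N₀ p) (hxodd : Odd x) (hx : x ∣ N₀ * p ^ Nat.clog p e) :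
    ∃ g : Cfsg.PSp n F, 2 * x ∣ orderOf g := by
  have hp : p.Prime := Fact.out
  have h2 : (2 : F) ≠ 0 := two_ne_zero_of_char p hp2
  have hdn : d ≤ n := le_trans (Nat.le_mul_of_pos_right d (by omega)) hde
  have hn : 1 ≤ n := by omega
  by_cases he1 : e = 1
  · subst he1
    have hK0 : Nat.clog p 1 = 0 := Nat.clog_one_right p
    rw [hK0, pow_zero, mul_one] at hx
    have hdlt : d < n := by
      rcases Nat.lt_or_ge d n with h | h
      · exact h
      · exact absurd ⟨rfl, by omega⟩ hne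
    obtain ⟨k, hk⟩ : ∃ k, n = d + k := ⟨n - d, by omega⟩
    have hdec := hasDec_prod.{0, u, u} h2 (2 * d) (2 * k) N₀ 1 (by omega) (by omega) hblk
      (hasBlock_one k)
    have e2 : 2 * d + 2 * k = 2 * n := by omega
    rw [e2] at hdec
    apply realize_dec n hn x hxodd
    apply hasDec_mono _ _ x _ hdec
    rw [Nat.lcm_one_right]
    exact hx
  · have he2 : 2 ≤ e := by omega
    set K := Nat.clog p e with hKdef
    have hK1 : 1 ≤ K := Nat.clog_pos hp.one_lt he2
    have hKe : p ^ (K - 1) < e := Nat.pow_pred_clog_lt_self hp.one_lt (by omega)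
    have hpodd : Odd p := hp.odd_of_ne_two hp2
    obtain ⟨m, hm⟩ : ∃ m, p ^ (K - 1) + 1 = 2 * m := by
      have : Odd (p ^ (K - 1)) := hpodd.pow
      obtain ⟨t, ht⟩ := this
      exact ⟨t + 1, by omega⟩
    have hpos : 0 < p ^ (K - 1) := Nat.pow_pos hp.pos
    have hdim : 2 * d + (p ^ (K - 1) + 1) ≤ 2 * n := by
      have h1 : p ^ (K - 1) + 1 ≤ e := hKe
      have h3 : d * (p ^ (K - 1) + 1) ≤ d * e := Nat.mul_le_mul_left d h1
      have h4 : d * (p ^ (K - 1) + 1) = d * p ^ (K - 1) + d := by ring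
      have h5 : p ^ (K - 1) ≤ d * p ^ (K - 1) := Nat.le_mul_of_pos_left _ (by omega)
      omega
    obtain ⟨k, hk⟩ : ∃ k, n = d + m + k := ⟨n - d - m, by omega⟩
    have hU := hasBlock_unip (F := F) p hp2 K hK1
    have hUk := hasBlock_prod.{u, u, u} (p ^ (K - 1) + 1) (2 * k) (p ^ K) 1 hU (hasBlock_one k)
    have hdec := hasDec_prod.{0, u, u} h2 (2 * d) (p ^ (K - 1) + 1 + 2 * k) N₀ _ (by omega) (by omega)
      hblk hUk
    have e2 : 2 * d + (p ^ (K - 1) + 1 + 2 * k) = 2 * n := by omega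
    rw [e2] at hdec
    apply realize_dec n hn x hxodd
    apply hasDec_mono _ _ x _ hdec
    rw [Nat.lcm_one_right]
    have hcop2 : Nat.Coprime N₀ (p ^ K) := hcop.pow_right K
    rw [hcop2.lcm_eq_mul]
    exact hx

theorem finish_unip (p : ℕ) [Fact p.Prime] [CharP F p] (hp2 : p ≠ 2) (n K x : ℕ) (hK : 1 ≤ K)
    (hdim : p ^ (K - 1) + 1 < 2 * n) (hxodd : Odd x) (hx : x ∣ p ^ K) :
    ∃ g : Cfsg.PSp n F, 2 * x ∣ orderOf g := by
  have hp : p.Prime := Fact.out
  have h2 : (2 : F) ≠ 0 := two_ne_zero_of_char p hp2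
  have hpodd : Odd p := hp.odd_of_ne_two hp2
  obtain ⟨m, hm⟩ : ∃ m, p ^ (K - 1) + 1 = 2 * m := by
    have : Odd (p ^ (K - 1)) := hpodd.pow
    obtain ⟨t, ht⟩ := this
    exact ⟨t + 1, by omega⟩
  have hpos : 0 < p ^ (K - 1) := Nat.pow_pos hp.pos
  obtain ⟨k, hk⟩ : ∃ k, n = m + (k + 1) := ⟨n - m - 1, by omega⟩
  have hU := hasBlock_unip (F := F) p hp2 K hK
  have hdec := hasDec_prod.{u, u, u} h2 (p ^ (K - 1) + 1) (2 * (k + 1)) (p ^ K) 1 (by omega) (by omega)
    hU (hasBlock_one (k + 1))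
  have e2 : p ^ (K - 1) + 1 + 2 * (k + 1) = 2 * n := by omega
  rw [e2] at hdec
  apply realize_dec n (by omega) x hxodd
  apply hasDec_mono _ _ x _ hdec
  rw [Nat.lcm_one_right]
  exact hx

theorem finish_one (h2 : (2 : F) ≠ 0) (n : ℕ) (hn : 2 ≤ n) : ∃ g : Cfsg.PSp n F, 2 * 1 ∣ orderOf g := by
  obtain ⟨k, hk⟩ : ∃ k, n = 1 + (k + 1) := ⟨n - 2, by omega⟩
  have hdec := hasDec_prod.{u, u, u} h2 (2 * 1) (2 * (k + 1)) 1 1 (by omega) (by omega)
    (hasBlock_one (F := F) 1) (hasBlock_one (k + 1))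
  have e2 : 2 * 1 + 2 * (k + 1) = 2 * n := by omega
  rw [e2] at hdec
  apply realize_dec n (by omega) 1 odd_one
  exact hasDec_mono _ _ 1 (one_dvd _) hdec

end Finish

section Prep

open Matrix Polynomial Module Cfsg.Agent.Lib.Helper5.SpProj

universe u

variable {F : Type u} [Field F]

theorem coprime_idem {ι : Type*} [Fintype ι] [DecidableEq ι] (M : Matrix ι ι F) (a b u v : F[X])
    (hab : minpoly F M = a * b) (huv : u * a + v * b = 1) :
    aeval M (u * a) * aeval M (u * a) = aeval M (u * a) ∧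
    (¬ IsUnit b → aeval M (u * a) ≠ 0) ∧ (¬ IsUnit a → aeval M (u * a) ≠ 1) ∧
    aeval M (v * b) = 1 - aeval M (u * a) := by
  have hμ0 : minpoly F M ≠ 0 := (minpoly.monic (Matrix.isIntegral M)).ne_zero
  have ha0 : a ≠ 0 := by
    rintro rfl
    rw [zero_mul] at hab
    exact hμ0 hab
  have hb0 : b ≠ 0 := by
    rintro rfl
    rw [mul_zero] at hab
    exact hμ0 hab
  have hzero : aeval M (a * b) = 0 := by rw [← hab]; exact minpoly.aeval F M
  refine ⟨?_, ?_, ?_, ?_⟩
  · rw [← map_mul]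
    have e : u * a * (u * a) = u * a - (u * v) * (a * b) := by
      have : u * a = 1 - v * b := by rw [← huv]; ring
      calc u * a * (u * a) = u * a * (1 - v * b) := by rw [← this]
        _ = u * a - (u * v) * (a * b) := by ring
    rw [e, map_sub, map_mul _ (u * v), hzero, mul_zero, sub_zero]
  · intro hb h
    rw [← minpoly.dvd_iff, hab] at h
    have h1 : b ∣ u := by
      have : a * b ∣ a * u := by rwa [mul_comm u a] at h
      exact (mul_dvd_mul_iff_left ha0).1 this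
    apply hb
    apply isUnit_of_dvd_one
    rw [← huv]
    exact dvd_add (dvd_mul_of_dvd_left h1 _) (dvd_mul_left _ _)
  · intro ha h
    have h2 : aeval M (v * b) = 0 := by
      have : v * b = 1 - u * a := by rw [← huv]; ring
      rw [this, map_sub, map_one, h, sub_self]
    rw [← minpoly.dvd_iff, hab] at h2
    have h1 : a ∣ v := by
      have : b * a ∣ b * v := by rwa [mul_comm v b, mul_comm a b] at h2
      exact (mul_dvd_mul_iff_left hb0).1 this
    apply ha
    apply isUnit_of_dvd_one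
    rw [← huv]
    exact dvd_add (dvd_mul_left _ _) (dvd_mul_of_dvd_left h1 _)
  · have : v * b = 1 - u * a := by rw [← huv]; ring
    rw [this, map_sub, map_one]

theorem exists_lift (n : ℕ) (hn : 1 ≤ n) (A₀ : symplecticGroup (Fin n) F) (x : ℕ) (hxodd : Odd x)
    (hx : (QuotientGroup.mk A₀ : Cfsg.PSp n F) ^ x = 1) :
    ∃ A : symplecticGroup (Fin n) F, (QuotientGroup.mk A : Cfsg.PSp n F) = QuotientGroup.mk A₀ ∧
      (A : Matrix (Fin n ⊕ Fin n) (Fin n ⊕ Fin n) F) ^ x = 1 := by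
  rcases (mk_pow_eq_one_iff n hn A₀ x).1 hx with h | h
  · exact ⟨A₀, rfl, h⟩
  · refine ⟨negOne n * A₀, ?_, ?_⟩
    · rw [QuotientGroup.mk_mul, (QuotientGroup.eq_one_iff _).2 (negOne_mem_center n), one_mul]
    · have h1 : ((negOne n * A₀ : symplecticGroup (Fin n) F) :
          Matrix (Fin n ⊕ Fin n) (Fin n ⊕ Fin n) F) = -(A₀ : Matrix (Fin n ⊕ Fin n) (Fin n ⊕ Fin n) F) := by
        rw [Submonoid.coe_mul, negOne_val, neg_mul, one_mul]
      rw [h1, neg_pow, h, hxodd.neg_one_pow]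
      simp

theorem odd_dvd_half (x M : ℕ) (hxodd : Odd x) (hM : Even M) (h : x ∣ M) : x ∣ M / 2 := by
  obtain ⟨t, ht⟩ := hM
  have h1 : M = 2 * t := by omega
  rw [h1, Nat.mul_div_cancel_left _ (by norm_num : 0 < 2)]
  rw [h1] at h
  exact (Nat.Coprime.dvd_of_dvd_mul_left ((Nat.coprime_two_right).2 hxodd) h)

theorem two_mul_dvd_of_even (x M : ℕ) (hxodd : Odd x) (hM : Even M) (h : x ∣ M) : 2 * x ∣ M := by
  have hcop : Nat.Coprime 2 x := (Nat.coprime_two_left).2 hxodd
  exact hcop.mul_dvd_of_dvd_of_dvd (even_iff_two_dvd.1 hM) h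

end Prep

section CaseB

open Matrix Polynomial Module Cfsg.Agent.Lib.Helper5.SpProj

universe u

variable {F : Type u} [Field F] {l : Type*} [Fintype l] [DecidableEq l]

theorem adj_eq_pow (M : Matrix (l ⊕ l) (l ⊕ l) F) (hM : M ∈ symplecticGroup l F) (x : ℕ)
    (hx1 : 1 ≤ x) (hMx : M ^ x = 1) : adj M = aeval M (X ^ (x - 1) : F[X]) := by
  rw [map_pow, aeval_X]
  have h1 : adj M * M = 1 := adj_mul_self_of_mem M hM
  have h2 : M * M ^ (x - 1) = 1 := by rw [← pow_succ', Nat.sub_add_cancel hx1, hMx]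
  calc adj M = adj M * (M * M ^ (x - 1)) := by rw [h2, mul_one]
    _ = (adj M * M) * M ^ (x - 1) := by rw [mul_assoc]
    _ = M ^ (x - 1) := by rw [h1, one_mul]

theorem caseB_primepow (M : Matrix (l ⊕ l) (l ⊕ l) F) (ψ : F[X]) (hψ : adj M = aeval M ψ)
    (hno : ∀ φ : F[X], aeval M φ * aeval M φ = aeval M φ → adj (aeval M φ) = aeval M φ →
      aeval M φ = 0 ∨ aeval M φ = 1)
    (a b u v : F[X]) (hab : minpoly F M = a * b) (huv : u * a + v * b = 1) (ha : ¬ IsUnit a)
    (hb : ¬ IsUnit b) :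
    ∃ (f : F[X]) (e : ℕ) (u₀ : F[X]), Irreducible f ∧ 1 ≤ e ∧ IsUnit u₀ ∧ a = f ^ e * u₀ := by
  have hμ0 : minpoly F M ≠ 0 := (minpoly.monic (Matrix.isIntegral M)).ne_zero
  have ha0 : a ≠ 0 := by
    rintro rfl
    rw [zero_mul] at hab
    exact hμ0 hab
  rcases Cfsg.Agent.S2510.poly_struct a ha0 ha with ⟨a₁, a₂, ha12, hcop12, ha₁, ha₂⟩ | h
  · exfalso
    have hcopab : IsCoprime a b := ⟨u, v, huv⟩
    have hcop1b : IsCoprime a₁ b := by
      rw [ha12] at hcopab
      exact hcopab.of_mul_left_left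
    have hcop : IsCoprime a₁ (a₂ * b) := hcop12.mul_right hcop1b
    obtain ⟨u₁, v₁, h1⟩ := hcop
    have hab' : minpoly F M = a₁ * (a₂ * b) := by rw [hab, ha12, mul_assoc]
    have ha2b : ¬ IsUnit (a₂ * b) := fun h => hb (isUnit_of_mul_isUnit_right h)
    obtain ⟨hi, hi0, hi1, -⟩ := coprime_idem M a b u v hab huv
    obtain ⟨hj, hj0, hj1, -⟩ := coprime_idem M a₁ (a₂ * b) u₁ v₁ hab' h1
    rcases idem_unique M ψ hψ hno (u * a) (u₁ * a₁) hi hj (hi0 hb) (hi1 ha) (hj0 ha2b) (hj1 ha₁)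
      with h | h
    · -- P₁ = P
      have h2 : aeval M (u₁ * a₁ - u * a) = 0 := by rw [map_sub, h, sub_self]
      rw [← minpoly.dvd_iff, hab'] at h2
      have h3 : a₂ ∣ u₁ * a₁ - u * a := dvd_trans ⟨a₁ * b, by ring⟩ h2
      have h4 : a₂ ∣ u₁ * a₁ := by
        have h5 : a₂ ∣ u * a := by rw [ha12]; exact ⟨u * a₁, by ring⟩
        have := dvd_add h3 h5
        rwa [sub_add_cancel] at this
      apply ha₂
      apply isUnit_of_dvd_one
      rw [← h1]
      exact dvd_add h4 ⟨v₁ * b, by ring⟩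
    · -- P₁ = 1 - P
      have h2 : aeval M (u₁ * a₁ + u * a - 1) = 0 := by
        rw [map_sub, map_add, map_one, h]; abel
      rw [← minpoly.dvd_iff, hab] at h2
      have h3 : b ∣ u₁ * a₁ + u * a - 1 := dvd_trans ⟨a, by ring⟩ h2
      have h4 : u₁ * a₁ + u * a - 1 = u₁ * a₁ - v * b := by
        have : u * a = 1 - v * b := by rw [← huv]; ring
        rw [this]; ring
      rw [h4] at h3
      have h5 : b ∣ u₁ * a₁ := by
        have := dvd_add h3 (⟨v, by ring⟩ : b ∣ v * b)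
        rwa [sub_add_cancel] at this
      apply hb
      apply isUnit_of_dvd_one
      rw [← h1]
      exact dvd_add h5 ⟨v₁ * a₂, by ring⟩
  · exact h

theorem caseB_order (M : Matrix (l ⊕ l) (l ⊕ l) F) (hM : M ∈ symplecticGroup l F)
    (a b u v : F[X]) (hab : minpoly F M = a * b) (huv : u * a + v * b = 1)
    (hadj : adj (aeval M (u * a)) = 1 - aeval M (u * a)) (N : ℕ) (haN : a ∣ X ^ N - 1) :
    M ^ N = 1 := by
  set P := aeval M (u * a) with hP
  have h1P : aeval M (v * b) = 1 - P := (coprime_idem M a b u v hab huv).2.2.2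
  have hMN : M ^ N - 1 = aeval M (X ^ N - 1 : F[X]) := by
    rw [map_sub, map_pow, aeval_X, map_one]
  have h1 : (M ^ N - 1) * (1 - P) = 0 := by
    rw [← h1P, hMN, ← map_mul, ← minpoly.dvd_iff, hab]
    obtain ⟨c, hc⟩ := haN
    exact ⟨c * v, by rw [hc]; ring⟩
  have h2 := congrArg adj h1
  rw [adj_mul, adj_sub, adj_one, hadj, adj_zero, adj_sub, adj_one, adj_pow, sub_sub_cancel] at h2
  have hinv : adj M * M = 1 := adj_mul_self_of_mem M hM
  have hinv' : M * adj M = 1 := (mem_iff_mul_adj M).1 hM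
  have hcomm : Commute (adj M) M := by
    rw [Commute, SemiconjBy, hinv, hinv']
  have hpow : adj M ^ N * M ^ N = 1 := by
    rw [← hcomm.mul_pow, hinv, one_pow]
  have h3 : P * (1 - M ^ N) = 0 := by
    have : P * (adj M ^ N - 1) * M ^ N = P * (1 - M ^ N) := by
      rw [mul_assoc, sub_mul, hpow, one_mul]
    rw [← this, h2, zero_mul]
  have hPM : P * M ^ N = M ^ N * P := by
    have e1 : M ^ N = aeval M (X ^ N : F[X]) := by rw [map_pow, aeval_X]
    rw [e1, hP]
    exact aeval_commute M _ _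
  have h4 : M ^ N - 1 = (M ^ N - 1) * (1 - P) + (M ^ N - 1) * P := by
    rw [← mul_add, sub_add_cancel, mul_one]
  have h5 : (M ^ N - 1) * P = -(P * (1 - M ^ N)) := by
    rw [sub_mul, mul_sub, one_mul, mul_one, hPM]
    abel
  rw [h1, h5, h3, neg_zero, add_zero] at h4
  exact sub_eq_zero.1 h4

end CaseB

section CaseB2

open Matrix Polynomial Module Cfsg.Agent.Lib.Helper5.SpProj

universe u

variable {F : Type u} [Field F] [Fintype F]

theorem p_ne_two_of_odd (p : ℕ) [CharP F p] (hodd : Odd (Fintype.card F)) : p ≠ 2 := by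
  intro h
  have hpq : p ∣ Fintype.card F := Cfsg.Agent.S2510.char_dvd_card p
  rw [h] at hpq
  exact (Nat.not_even_iff_odd.2 hodd) (even_iff_two_dvd.2 hpq)

theorem coprime_pow_sub_one (p : ℕ) [Fact p.Prime] [CharP F p] (d : ℕ) (hd : 1 ≤ d) :
    Nat.Coprime (Fintype.card F ^ d - 1) p := by
  have hp : p.Prime := Fact.out
  have hpq : p ∣ Fintype.card F := Cfsg.Agent.S2510.char_dvd_card p
  rw [Nat.coprime_comm, Nat.Prime.coprime_iff_not_dvd hp]
  intro h
  have h1 : p ∣ Fintype.card F ^ d := dvd_pow hpq (by omega)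
  have hpos : 0 < Fintype.card F ^ d := Nat.pow_pos Fintype.card_pos
  have h2 : p ∣ Fintype.card F ^ d - (Fintype.card F ^ d - 1) := Nat.dvd_sub h1 h
  have h3 : Fintype.card F ^ d - (Fintype.card F ^ d - 1) = 1 := by omega
  rw [h3] at h2
  exact hp.one_lt.ne' (Nat.dvd_one.1 h2)

theorem coprime_pow_add_one (p : ℕ) [Fact p.Prime] [CharP F p] (d : ℕ) (hd : 1 ≤ d) :
    Nat.Coprime (Fintype.card F ^ d + 1) p := by
  have hp : p.Prime := Fact.out
  have hpq : p ∣ Fintype.card F := Cfsg.Agent.S2510.char_dvd_card p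
  rw [Nat.coprime_comm, Nat.Prime.coprime_iff_not_dvd hp]
  intro h
  have h1 : p ∣ Fintype.card F ^ d := dvd_pow hpq (by omega)
  have h2 : p ∣ 1 := (Nat.dvd_add_right h1).1 h
  exact hp.one_lt.ne' (Nat.dvd_one.1 h2)

theorem minpoly_natDegree_le (n : ℕ) (M : Matrix (Fin n ⊕ Fin n) (Fin n ⊕ Fin n) F) :
    (minpoly F M).natDegree ≤ 2 * n := by
  have h1 := natDegree_le_of_dvd (Matrix.minpoly_dvd_charpoly M) (Matrix.charpoly_monic M).ne_zero
  rw [Matrix.charpoly_natDegree_eq_dim, Fintype.card_sum, Fintype.card_fin] at h1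
  omega

theorem caseB (p : ℕ) [Fact p.Prime] [CharP F p] (hodd : Odd (Fintype.card F)) (n : ℕ) (hn : 1 ≤ n)
    (A : symplecticGroup (Fin n) F) (x : ℕ) (hx1 : 1 ≤ x) (hxodd : Odd x)
    (hAx : (A : Matrix (Fin n ⊕ Fin n) (Fin n ⊕ Fin n) F) ^ x = 1)
    (hx : ∀ j : ℕ, ((A : Matrix (Fin n ⊕ Fin n) (Fin n ⊕ Fin n) F) ^ j = 1 ∨
      (A : Matrix (Fin n ⊕ Fin n) (Fin n ⊕ Fin n) F) ^ j = -1) → x ∣ j)
    (hno : ∀ φ : F[X], aeval (A : Matrix (Fin n ⊕ Fin n) (Fin n ⊕ Fin n) F) φ *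
        aeval (A : Matrix (Fin n ⊕ Fin n) (Fin n ⊕ Fin n) F) φ =
        aeval (A : Matrix (Fin n ⊕ Fin n) (Fin n ⊕ Fin n) F) φ →
      adj (aeval (A : Matrix (Fin n ⊕ Fin n) (Fin n ⊕ Fin n) F) φ) =
        aeval (A : Matrix (Fin n ⊕ Fin n) (Fin n ⊕ Fin n) F) φ →
      aeval (A : Matrix (Fin n ⊕ Fin n) (Fin n ⊕ Fin n) F) φ = 0 ∨
        aeval (A : Matrix (Fin n ⊕ Fin n) (Fin n ⊕ Fin n) F) φ = 1)
    (a b u v : F[X])
    (hab : minpoly F (A : Matrix (Fin n ⊕ Fin n) (Fin n ⊕ Fin n) F) = a * b)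
    (huv : u * a + v * b = 1) (ha : ¬ IsUnit a) (hb : ¬ IsUnit b)
    (hdeg : a.natDegree ≤ b.natDegree) :
    (∃ g : Cfsg.PSp n F, 2 * x ∣ orderOf g) ∨
      (x ∣ (Fintype.card F ^ n - 1) / 2 ∧ Odd ((Fintype.card F ^ n - 1) / 2)) := by
  classical
  have hp : p.Prime := Fact.out
  have hp2 : p ≠ 2 := p_ne_two_of_odd p hodd
  set M : Matrix (Fin n ⊕ Fin n) (Fin n ⊕ Fin n) F :=
    (A : Matrix (Fin n ⊕ Fin n) (Fin n ⊕ Fin n) F) with hMdef
  have hM : M ∈ symplecticGroup (Fin n) F := A.2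
  set q := Fintype.card F with hqdef
  have hψ := adj_eq_pow M hM x hx1 hAx
  obtain ⟨hi, hi0, hi1, -⟩ := coprime_idem M a b u v hab huv
  have hadj := idem_dichotomy M _ hψ hno (u * a) hi (hi0 hb) (hi1 ha)
  obtain ⟨f, e, u₀, hf, he, hu₀, hafe⟩ := caseB_primepow M _ hψ hno a b u v hab huv ha hb
  have hμ0 : minpoly F M ≠ 0 := (minpoly.monic (Matrix.isIntegral M)).ne_zero
  have ha0 : a ≠ 0 := by
    rintro rfl
    rw [zero_mul] at hab
    exact hμ0 hab
  have hb0 : b ≠ 0 := by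
    rintro rfl
    rw [mul_zero] at hab
    exact hμ0 hab
  set d := f.natDegree with hddef
  have hd1 : 1 ≤ d := hf.natDegree_pos
  have hdega : a.natDegree = e * d := by
    rw [hafe, natDegree_mul (pow_ne_zero _ hf.ne_zero) hu₀.ne_zero, natDegree_pow,
      natDegree_eq_zero_of_isUnit hu₀, add_zero]
  have hle := minpoly_natDegree_le n M
  rw [hab, natDegree_mul ha0 hb0] at hle
  have hde : d * e ≤ n := by
    rw [mul_comm]
    omega
  have hμx : minpoly F M ∣ X ^ x - 1 := by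
    rw [minpoly.dvd_iff, map_sub, map_pow, aeval_X, map_one, hAx, sub_self]
  have hfa : f ∣ a := by
    rw [hafe]
    exact dvd_mul_of_dvd_left (dvd_pow_self f (by omega)) _
  have hfX : ¬ f ∣ X := by
    intro h
    have h1 : f ∣ X ^ x - 1 := dvd_trans hfa (dvd_trans ⟨b, hab⟩ hμx)
    have h2 : f ∣ X ^ x := dvd_trans h (dvd_pow_self X (by omega))
    have h3 : f ∣ 1 := by
      have := dvd_sub h2 h1
      rwa [sub_sub_cancel] at this
    exact hf.not_isUnit (isUnit_of_dvd_one h3)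
  have hf1 := irr_dvd_pow_sub_one f hf hfX
  rw [← hqdef, ← hddef] at hf1
  set K := Nat.clog p e with hKdef
  have heK : e ≤ p ^ K := Nat.le_pow_clog hp.one_lt e
  have haN : a ∣ X ^ ((q ^ d - 1) * p ^ K) - 1 := by
    have h1 : f ∣ X ^ (q ^ d - 1) - C (1 : F) := by rw [map_one]; exact hf1
    have h2 := Cfsg.Agent.S2510.pow_dvd_of_dvd p f (q ^ d - 1) 1 h1 e K heK
    rw [one_pow, map_one] at h2
    rw [hafe]
    exact (IsUnit.mul_right_dvd hu₀).2 h2
  have hMN := caseB_order M hM a b u v hab huv hadj _ haN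
  have hxN : x ∣ (q ^ d - 1) * p ^ K := hx _ (Or.inl hMN)
  have hqodd : Odd (q ^ d) := hodd.pow
  have hev : Even (q ^ d - 1) := by
    obtain ⟨t, ht⟩ := hqodd
    exact ⟨t, by omega⟩
  have hxN₀ : x ∣ (q ^ d - 1) / 2 * p ^ K := by
    obtain ⟨t, ht⟩ := hev
    have h1 : q ^ d - 1 = 2 * t := by omega
    rw [h1, Nat.mul_div_cancel_left _ (by norm_num : 0 < 2)]
    rw [h1, mul_assoc] at hxN
    exact Nat.Coprime.dvd_of_dvd_mul_left ((Nat.coprime_two_right).2 hxodd) hxN
  have hcop : Nat.Coprime ((q ^ d - 1) / 2) p :=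
    Nat.Coprime.coprime_dvd_left (Nat.div_dvd_of_dvd (even_iff_two_dvd.1 hev))
      (coprime_pow_sub_one p d hd1)
  by_cases hspecial : e = 1 ∧ d = n
  · obtain ⟨he1, hdn⟩ := hspecial
    have hK0 : K = 0 := by rw [hKdef, he1]; exact Nat.clog_one_right p
    rw [hK0, pow_zero, mul_one, hdn] at hxN₀
    by_cases hpar : Even ((q ^ n - 1) / 2)
    · left
      obtain ⟨g, hg⟩ := realize n hn _ (hasBlock_tplus p hodd n hn)
      exact ⟨g, dvd_trans (two_mul_dvd_of_even x _ hxodd hpar hxN₀) hg⟩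
    · right
      exact ⟨hxN₀, Nat.not_even_iff_odd.1 hpar⟩
  · left
    exact finish p hp2 n d e _ x hd1 he hde hspecial (hasBlock_tplus p hodd d hd1) hcop hxodd hxN₀

end CaseB2

section CaseA

open Matrix Polynomial Module Cfsg.Agent.Lib.Helper5.SpProj

universe u

variable {F : Type u} [Field F] [Fintype F]

theorem caseA (p : ℕ) [Fact p.Prime] [CharP F p] (hodd : Odd (Fintype.card F)) (n : ℕ) (hn : 2 ≤ n)
    (A : symplecticGroup (Fin n) F) (x : ℕ) (hx1 : 1 ≤ x) (hxodd : Odd x)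
    (hAx : (A : Matrix (Fin n ⊕ Fin n) (Fin n ⊕ Fin n) F) ^ x = 1)
    (hx : ∀ j : ℕ, ((A : Matrix (Fin n ⊕ Fin n) (Fin n ⊕ Fin n) F) ^ j = 1 ∨
      (A : Matrix (Fin n ⊕ Fin n) (Fin n ⊕ Fin n) F) ^ j = -1) → x ∣ j)
    (f u₀ : F[X]) (e : ℕ) (hf : Irreducible f) (he : 1 ≤ e) (hu₀ : IsUnit u₀)
    (hμ : minpoly F (A : Matrix (Fin n ⊕ Fin n) (Fin n ⊕ Fin n) F) = f ^ e * u₀) :
    (∃ g : Cfsg.PSp n F, 2 * x ∣ orderOf g) ∨
      (x ∣ (Fintype.card F ^ n + 1) / 2 ∧ Odd ((Fintype.card F ^ n + 1) / 2)) ∨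
      (x = p ^ Nat.clog p (2 * n) ∧ ∃ j : ℕ, 2 * n - 1 = p ^ j) := by
  classical
  have hp : p.Prime := Fact.out
  have hp2 : p ≠ 2 := p_ne_two_of_odd p hodd
  have h2F : (2 : F) ≠ 0 := two_ne_zero_of_odd_card hodd
  set M : Matrix (Fin n ⊕ Fin n) (Fin n ⊕ Fin n) F :=
    (A : Matrix (Fin n ⊕ Fin n) (Fin n ⊕ Fin n) F) with hMdef
  have hM : M ∈ symplecticGroup (Fin n) F := A.2
  set q := Fintype.card F with hqdef
  have hψ := adj_eq_pow M hM x hx1 hAx
  set d := f.natDegree with hddef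
  have hd1 : 1 ≤ d := hf.natDegree_pos
  have hdegμ : (minpoly F M).natDegree = e * d := by
    rw [hμ, natDegree_mul (pow_ne_zero _ hf.ne_zero) hu₀.ne_zero, natDegree_pow,
      natDegree_eq_zero_of_isUnit hu₀, add_zero]
  have hle := minpoly_natDegree_le n M
  rw [hdegμ] at hle
  have hμx : minpoly F M ∣ X ^ x - 1 := by
    rw [minpoly.dvd_iff, map_sub, map_pow, aeval_X, map_one, hAx, sub_self]
  have hfμ : f ∣ minpoly F M := by
    rw [hμ]
    exact dvd_mul_of_dvd_left (dvd_pow_self f (by omega)) _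
  have hfx : f ∣ X ^ x - 1 := dvd_trans hfμ hμx
  have hμdvd : ∀ g : F[X], f ^ e ∣ g → minpoly F M ∣ g := by
    intro g hg
    rw [hμ]
    exact (IsUnit.mul_right_dvd hu₀).2 hg
  have hcomp : f ∣ f.comp (X ^ (x - 1)) := by
    have h1 : aeval M (f ^ e) = 0 := by
      rw [← minpoly.dvd_iff]
      exact hμdvd _ dvd_rfl
    have h2 := congrArg adj h1
    rw [adj_aeval_eq M _ hψ, adj_zero, ← minpoly.dvd_iff, pow_comp] at h2
    exact hf.prime.dvd_of_dvd_pow (dvd_trans hfμ h2)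
  set K := Nat.clog p e with hKdef
  have heK : e ≤ p ^ K := Nat.le_pow_clog hp.one_lt e
  by_cases hd : d = 1
  · -- the unipotent case
    have hdeg1 : f.degree = 1 := by
      rw [degree_eq_natDegree hf.ne_zero, ← hddef, hd]; rfl
    obtain ⟨lam, hlam⟩ := exists_root_of_degree_eq_one hdeg1
    have hdvd1 : X - C lam ∣ f := dvd_iff_isRoot.2 hlam
    have hassoc : Associated (X - C lam) f := (irreducible_X_sub_C lam).associated_of_dvd hf hdvd1
    have hdvd2 : f ∣ X - C lam := hassoc.symm.dvd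
    have hlamx : lam ^ x = 1 := by
      have h1 := dvd_trans hdvd1 hfx
      rw [dvd_iff_isRoot, IsRoot.def, eval_sub, eval_pow, eval_X, eval_one, sub_eq_zero] at h1
      exact h1
    have hlam2 : lam ^ (x - 1) = lam := by
      have h1 := dvd_trans hdvd1 hcomp
      rw [dvd_iff_isRoot, IsRoot.def, eval_comp, eval_pow, eval_X] at h1
      have h2 : X - C lam ∣ f := hdvd1
      have h3 := dvd_trans hdvd2 (dvd_refl (X - C lam))
      have h4 : (X - C lam).eval (lam ^ (x - 1)) = 0 := by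
        obtain ⟨c, hc⟩ := hdvd2
        have hc' := hassoc.symm
        obtain ⟨w, hw⟩ := hassoc
        have : f.eval (lam ^ (x - 1)) = (X - C lam).eval (lam ^ (x - 1)) * (w : F[X]).eval (lam ^ (x - 1)) := by
          rw [← hw, eval_mul]
        rw [h1] at this
        rcases mul_eq_zero.1 this.symm with h5 | h5
        · exact h5
        · exfalso
          have hwu : IsUnit (w : F[X]) := w.isUnit
          obtain ⟨c₀, hc₀, hc₀'⟩ := Polynomial.isUnit_iff.1 hwu
          rw [← hc₀', eval_C] at h5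
          exact hc₀.ne_zero h5
      rw [eval_sub, eval_X, eval_C, sub_eq_zero] at h4
      exact h4
    have hlamsq : lam * lam = 1 := by
      calc lam * lam = lam ^ (x - 1) * lam := by rw [hlam2]
        _ = lam ^ x := by rw [← pow_succ, Nat.sub_add_cancel hx1]
        _ = 1 := hlamx
    have hlam1 : lam = 1 := by
      rcases mul_self_eq_one_iff.1 hlamsq with h | h
      · exact h
      · exfalso
        rw [h, hxodd.neg_one_pow] at hlamx
        have : (2 : F) = 0 := by linear_combination -hlamx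
        exact h2F this
    rw [hlam1] at hdvd2
    have hMK : M ^ (p ^ K) = 1 := by
      have h1 : minpoly F M ∣ X ^ (p ^ K) - 1 := by
        apply hμdvd
        have h2 : (X - C (1 : F)) ^ (p ^ K) = X ^ (p ^ K) - 1 := by
          rw [sub_pow_char_pow, ← map_pow, one_pow, map_one]
        rw [← h2]
        exact dvd_trans (pow_dvd_pow_of_dvd hdvd2 e) (pow_dvd_pow _ heK)
      rw [minpoly.dvd_iff, map_sub, map_pow, aeval_X, map_one, sub_eq_zero] at h1
      exact h1
    have hxK : x ∣ p ^ K := hx _ (Or.inl hMK)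
    rw [hd, mul_one] at hle hdegμ
    by_cases he1 : e = 1
    · left
      have hK0 : K = 0 := by rw [hKdef, he1]; exact Nat.clog_one_right p
      rw [hK0, pow_zero] at hxK
      have hx1' : x = 1 := Nat.dvd_one.1 hxK
      rw [hx1']
      exact finish_one h2F n hn
    · have he2 : 2 ≤ e := by omega
      have hK1 : 1 ≤ K := Nat.clog_pos hp.one_lt he2
      have hKe : p ^ (K - 1) < e := Nat.pow_pred_clog_lt_self hp.one_lt (by omega)
      by_cases hdim : p ^ (K - 1) + 1 < 2 * n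
      · left
        exact finish_unip p hp2 n K x hK1 hdim hxodd hxK
      · right; right
        have he2n : e = 2 * n := by omega
        have hpK : p ^ (K - 1) = 2 * n - 1 := by omega
        refine ⟨?_, K - 1, hpK.symm⟩
        obtain ⟨i, hi, hoi⟩ := (Nat.dvd_prime_pow hp).1 hxK
        have hiK : i = K := by
          by_contra hne
          have hlt : i ≤ K - 1 := by omega
          have h1 : x ∣ p ^ (K - 1) := by rw [hoi]; exact pow_dvd_pow p hlt
          obtain ⟨t, ht⟩ := h1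
          have h2 : M ^ (p ^ (K - 1)) = 1 := by rw [ht, pow_mul, hAx, one_pow]
          have h3 : minpoly F M ∣ X ^ (p ^ (K - 1)) - C 1 := by
            rw [minpoly.dvd_iff, map_sub, map_pow, aeval_X, map_one, map_one, h2, sub_self]
          have h4 := natDegree_le_of_dvd h3 (X_pow_sub_C_ne_zero (Nat.pow_pos hp.pos) 1)
          rw [natDegree_X_pow_sub_C, hdegμ] at h4
          omega
        rw [hoi, hiK, hKdef, he2n]
  · -- the case of an irreducible factor of degree at least two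
    obtain ⟨d', hd', hfd'⟩ := irr_recip p f hf (by omega) x hx1 hfx hcomp
    rw [← hqdef] at hfd'
    rw [← hddef] at hd'
    have hd'1 : 1 ≤ d' := by omega
    have hde : d' * e ≤ n := by
      rw [hd'] at hle
      have : e * (2 * d') = 2 * (d' * e) := by ring
      omega
    have hMN : M ^ ((q ^ d' + 1) * p ^ K) = 1 := by
      have h1 : f ∣ X ^ (q ^ d' + 1) - C (1 : F) := by rw [map_one]; exact hfd'
      have h2 := Cfsg.Agent.S2510.pow_dvd_of_dvd p f (q ^ d' + 1) 1 h1 e K heK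
      rw [one_pow, map_one] at h2
      have h3 := hμdvd _ h2
      rw [minpoly.dvd_iff, map_sub, map_pow, aeval_X, map_one, sub_eq_zero] at h3
      exact h3
    have hxN : x ∣ (q ^ d' + 1) * p ^ K := hx _ (Or.inl hMN)
    have hqodd : Odd (q ^ d') := hodd.pow
    have hev : Even (q ^ d' + 1) := by
      obtain ⟨t, ht⟩ := hqodd
      exact ⟨t + 1, by omega⟩
    have hxN₀ : x ∣ (q ^ d' + 1) / 2 * p ^ K := by
      obtain ⟨t, ht⟩ := hev
      have h1 : q ^ d' + 1 = 2 * t := by omega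
      rw [h1, Nat.mul_div_cancel_left _ (by norm_num : 0 < 2)]
      rw [h1, mul_assoc] at hxN
      exact Nat.Coprime.dvd_of_dvd_mul_left ((Nat.coprime_two_right).2 hxodd) hxN
    have hcop : Nat.Coprime ((q ^ d' + 1) / 2) p :=
      Nat.Coprime.coprime_dvd_left (Nat.div_dvd_of_dvd (even_iff_two_dvd.1 hev))
        (coprime_pow_add_one p d' hd'1)
    by_cases hspecial : e = 1 ∧ d' = n
    · obtain ⟨he1, hdn⟩ := hspecial
      have hK0 : K = 0 := by rw [hKdef, he1]; exact Nat.clog_one_right p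
      rw [hK0, pow_zero, mul_one, hdn] at hxN₀
      by_cases hpar : Even ((q ^ n + 1) / 2)
      · left
        obtain ⟨g, hg⟩ := realize n (by omega) _ (hasBlock_tminus p hodd n (by omega))
        exact ⟨g, dvd_trans (two_mul_dvd_of_even x _ hxodd hpar hxN₀) hg⟩
      · right; left
        exact ⟨hxN₀, Nat.not_even_iff_odd.1 hpar⟩
    · left
      exact finish p hp2 n d' e _ x hd'1 he hde hspecial (hasBlock_tminus p hodd d' hd'1) hcop hxodd
        hxN₀

end CaseA

section ThmSp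

open Matrix Polynomial Module Cfsg.Agent.Lib.Helper5.SpProj

universe u

variable {F : Type u} [Field F] [Fintype F]

theorem thmSp (p : ℕ) [Fact p.Prime] [CharP F p] (hodd : Odd (Fintype.card F)) (n : ℕ) (hn : 2 ≤ n)
    (g₀ : Cfsg.PSp n F) (hxodd : Odd (orderOf g₀)) :
    (∃ g : Cfsg.PSp n F, 2 * orderOf g₀ ∣ orderOf g) ∨
      (orderOf g₀ ∣ (Fintype.card F ^ n - 1) / 2 ∧ Odd ((Fintype.card F ^ n - 1) / 2)) ∨
      (orderOf g₀ ∣ (Fintype.card F ^ n + 1) / 2 ∧ Odd ((Fintype.card F ^ n + 1) / 2)) ∨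
      (orderOf g₀ = p ^ Nat.clog p (2 * n) ∧ ∃ j : ℕ, 2 * n - 1 = p ^ j) := by
  classical
  have h2F : (2 : F) ≠ 0 := two_ne_zero_of_odd_card hodd
  obtain ⟨A₀, hA₀⟩ := QuotientGroup.mk_surjective g₀
  set x := orderOf g₀ with hxdef
  have hx1 : 1 ≤ x := by
    obtain ⟨t, ht⟩ := hxodd
    omega
  obtain ⟨A, hmk, hAx⟩ := exists_lift n (by omega) A₀ x hxodd (by
    rw [hA₀, hxdef]; exact pow_orderOf_eq_one g₀)
  have hx : ∀ j : ℕ, ((A : Matrix (Fin n ⊕ Fin n) (Fin n ⊕ Fin n) F) ^ j = 1 ∨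
      (A : Matrix (Fin n ⊕ Fin n) (Fin n ⊕ Fin n) F) ^ j = -1) → x ∣ j := by
    intro j hj
    rw [← mk_pow_eq_one_iff n (by omega), hmk, hA₀] at hj
    exact orderOf_dvd_of_pow_eq_one hj
  set M : Matrix (Fin n ⊕ Fin n) (Fin n ⊕ Fin n) F :=
    (A : Matrix (Fin n ⊕ Fin n) (Fin n ⊕ Fin n) F) with hMdef
  by_cases hdec : ∃ φ : F[X], aeval M φ * aeval M φ = aeval M φ ∧ adj (aeval M φ) = aeval M φ ∧
      aeval M φ ≠ 0 ∧ aeval M φ ≠ 1
  · left
    obtain ⟨φ, hPP, hadj, hP0, hP1⟩ := hdec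
    set P := aeval M φ with hP
    let H : symplecticGroup (Fin n) F := ⟨1 - (2 : F) • P, one_sub_two_mem P hPP hadj⟩
    have hPM : M * P = P * M := by
      have e1 : M = aeval M (X : F[X]) := by rw [aeval_X]
      rw [hP]
      nth_rw 1 [e1]
      nth_rw 4 [e1]
      exact aeval_commute M _ _
    apply absorb_inv n (by omega) A H _ _ _ _ x hxodd hx
    · apply Subtype.ext
      change M * (1 - (2 : F) • P) = (1 - (2 : F) • P) * M
      rw [mul_sub, sub_mul, mul_one, one_mul, mul_smul_comm, smul_mul_assoc, hPM]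
    · apply Subtype.ext
      change (1 - (2 : F) • P) * (1 - (2 : F) • P) = 1
      have : (1 - (2 : F) • P) * (1 - (2 : F) • P) = 1 - ((2 : F) + 2 - 2 * 2) • P := by
        rw [sub_mul, mul_sub, mul_sub, one_mul, mul_one, one_mul, smul_mul_smul_comm, hPP]
        module
      rw [this]
      have h4 : ((2 : F) + 2 - 2 * 2) = 0 := by ring
      rw [h4, zero_smul, sub_zero]
    · intro h
      have h1 := congrArg (fun g : symplecticGroup (Fin n) F =>
        (g : Matrix (Fin n ⊕ Fin n) (Fin n ⊕ Fin n) F)) h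
      change 1 - (2 : F) • P = 1 at h1
      have h3 : (2 : F) • P = 0 := by
        have := congrArg (fun Z => 1 - Z) h1
        simpa using this
      rcases smul_eq_zero.1 h3 with h4 | h4
      · exact h2F h4
      · exact hP0 h4
    · intro h
      have h1 := congrArg (fun g : symplecticGroup (Fin n) F =>
        (g : Matrix (Fin n ⊕ Fin n) (Fin n ⊕ Fin n) F)) h
      change 1 - (2 : F) • P = -1 at h1
      have h3 : (2 : F) • (P - 1) = 0 := by
        rw [smul_sub]
        have := congrArg (fun Z => 1 - Z) h1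
        simp only [sub_sub_cancel, sub_neg_eq_add] at this
        rw [this, two_smul, sub_self]
      rcases smul_eq_zero.1 h3 with h4 | h4
      · exact h2F h4
      · exact hP1 (sub_eq_zero.1 h4)
  · have hno : ∀ φ : F[X], aeval M φ * aeval M φ = aeval M φ → adj (aeval M φ) = aeval M φ →
        aeval M φ = 0 ∨ aeval M φ = 1 := by
      intro φ h1 h2
      by_contra hcon
      push Not at hcon
      exact hdec ⟨φ, h1, h2, hcon.1, hcon.2⟩
    have hμ0 : minpoly F M ≠ 0 := (minpoly.monic (Matrix.isIntegral M)).ne_zero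
    have : NeZero n := ⟨by omega⟩
    have hμu : ¬ IsUnit (minpoly F M) := minpoly.not_isUnit F M
    rcases Cfsg.Agent.S2510.poly_struct (minpoly F M) hμ0 hμu with
      ⟨a, b, hab, hcop, ha, hb⟩ | ⟨f, e, u₀, hf, he, hu₀, hμ⟩
    · obtain ⟨u, v, huv⟩ := hcop
      by_cases hdeg : a.natDegree ≤ b.natDegree
      · rcases caseB p hodd n (by omega) A x hx1 hxodd hAx hx hno a b u v hab huv ha hb hdeg with h | h
        · exact Or.inl h
        · exact Or.inr (Or.inl h)
      · have hab' : minpoly F M = b * a := by rw [hab, mul_comm]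
        have huv' : v * b + u * a = 1 := by rw [add_comm]; exact huv
        rcases caseB p hodd n (by omega) A x hx1 hxodd hAx hx hno b a v u hab' huv' hb ha (by omega)
          with h | h
        · exact Or.inl h
        · exact Or.inr (Or.inl h)
    · rcases caseA p hodd n hn A x hx1 hxodd hAx hx f u₀ e hf he hu₀ hμ with h | h | h
      · exact Or.inl h
      · exact Or.inr (Or.inr (Or.inl h))
      · exact Or.inr (Or.inr (Or.inr h))

end ThmSp

section Final

open Matrix Polynomial Module Cfsg.Agent.Lib.Helper5.SpProj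

universe u

variable {F : Type u} [Field F] [Fintype F]

/-- the odd one of `(q^n - 1)/2`, `(q^n + 1)/2` -/
def cOne (q n : ℕ) : ℕ := if Odd ((q ^ n - 1) / 2) then (q ^ n - 1) / 2 else (q ^ n + 1) / 2

theorem spec_psp (p : ℕ) [Fact p.Prime] [CharP F p] (hodd : Odd (Fintype.card F)) (n : ℕ)
    (hn : 2 ≤ n) :
    Cfsg.Agent.S2510.Spec (Set.range (orderOf : Cfsg.PSp n F → ℕ)) 2
      (cOne (Fintype.card F) n) (p ^ Nat.clog p (2 * n)) ∧
    ((¬ ∃ j : ℕ, 2 * n - 1 = p ^ j) →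
      ∀ x ∈ Set.range (orderOf : Cfsg.PSp n F → ℕ),
        Nat.lcm x 2 ∈ Set.range (orderOf : Cfsg.PSp n F → ℕ) ∨ x ∣ cOne (Fintype.card F) n) := by
  classical
  have h2F : (2 : F) ≠ 0 := two_ne_zero_of_odd_card hodd
  have hfinG : Finite ↥(symplecticGroup (Fin n) F) := Subtype.finite
  have hfinP : Finite (Cfsg.PSp n F) := inferInstance
  have hclosed := Cfsg.Agent.S2510.range_dvd_closed (G := Cfsg.PSp n F)
  set q := Fintype.card F with hqdef
  have hqn : Odd (q ^ n) := hodd.pow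
  have hK : ∀ x ∈ Set.range (orderOf : Cfsg.PSp n F → ℕ),
      Nat.lcm x 2 ∈ Set.range (orderOf : Cfsg.PSp n F → ℕ) ∨ x ∣ cOne q n ∨
      (x = p ^ Nat.clog p (2 * n) ∧ ∃ j : ℕ, 2 * n - 1 = p ^ j) := by
    rintro x ⟨g₀, rfl⟩
    by_cases hev : Even (orderOf g₀)
    · left
      have : Nat.lcm (orderOf g₀) 2 = orderOf g₀ := by
        apply Nat.dvd_antisymm
        · exact Nat.lcm_dvd dvd_rfl (even_iff_two_dvd.1 hev)
        · exact Nat.dvd_lcm_left _ _
      rw [this]
      exact ⟨g₀, rfl⟩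
    · have hxodd : Odd (orderOf g₀) := Nat.not_even_iff_odd.1 hev
      rcases thmSp p hodd n hn g₀ hxodd with ⟨g, hg⟩ | h | h | h
      · left
        have hcop : Nat.Coprime (orderOf g₀) 2 := (Nat.coprime_two_right).2 hxodd
        rw [hcop.lcm_eq_mul, mul_comm]
        exact hclosed _ ⟨g, rfl⟩ _ hg
      · right; left
        rw [cOne, if_pos h.2]
        exact h.1
      · right; left
        have hne : ¬ Odd ((q ^ n - 1) / 2) := by
          intro h1
          obtain ⟨t, ht⟩ := hqn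
          have e1 : (q ^ n - 1) / 2 = t := by omega
          have e2 : (q ^ n + 1) / 2 = t + 1 := by omega
          rw [e1] at h1
          rw [e2] at h
          obtain ⟨s, hs⟩ := h1
          obtain ⟨s', hs'⟩ := h.2
          omega
        rw [cOne, if_neg hne]
        exact h.1
      · right; right
        exact h
  refine ⟨⟨hclosed, ?_, ?_, ?_⟩, ?_⟩
  · obtain ⟨g, hg⟩ := finish_one h2F n hn
    exact hclosed _ ⟨g, rfl⟩ _ (dvd_trans (by norm_num) hg)
  · rw [cOne]
    split_ifs with h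
    · obtain ⟨g, hg⟩ := realize n (by omega) _ (hasBlock_tplus p hodd n (by omega))
      exact hclosed _ ⟨g, rfl⟩ _ hg
    · obtain ⟨g, hg⟩ := realize n (by omega) _ (hasBlock_tminus p hodd n (by omega))
      exact hclosed _ ⟨g, rfl⟩ _ hg
  · intro x hx
    rcases hK x hx with h | h | h
    · exact Or.inl h
    · exact Or.inr (Or.inl h)
    · exact Or.inr (Or.inr h.1)
  · intro hno x hx
    rcases hK x hx with h | h | h
    · exact Or.inl h
    · exact Or.inr h
    · exact absurd h.2 hno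

end Final

/-- Let F be a finite field of odd order q = p^a, n ≥ 2 (with q ≥ 3 automatic), and L = PSp(2n, F). Then for every m the direct product L × L × L × (ℤ/2)^m has the same set of element orders as L × L × L; and if 2n − 1 is not a power of p, then already L × L × (ℤ/2)^m has the same set of element orders as L × L. -/
theorem result {F : Type*} [Field F] [Fintype F] (p a n m : ℕ) (hp : p.Prime) (ha : 1 ≤ a) (hF : Fintype.card F = p ^ a) (hodd : Odd (Fintype.card F))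
    (hn : 2 ≤ n) :
    Set.range (orderOf : Cfsg.PSp n F × Cfsg.PSp n F × Cfsg.PSp n F × Multiplicative (Fin m → ZMod 2) → ℕ) = Set.range (orderOf : Cfsg.PSp n F × Cfsg.PSp n F × Cfsg.PSp n F → ℕ) ∧
    ((¬ ∃ j : ℕ, 2 * n - 1 = p ^ j) →
      Set.range (orderOf : Cfsg.PSp n F × Cfsg.PSp n F × Multiplicative (Fin m → ZMod 2) → ℕ) = Set.range (orderOf : Cfsg.PSp n F × Cfsg.PSp n F → ℕ)) := by
  have _h1 := ha
  have : Fact p.Prime := ⟨hp⟩
  have : CharP F p := Cfsg.Agent.S2510.charP_of_card p a hp hF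
  obtain ⟨hspec, h6⟩ := spec_psp (F := F) p hodd n hn
  exact ⟨Cfsg.Agent.S2510.claim1 2 m _ _ Nat.prime_two hspec,
    fun hno => Cfsg.Agent.S2510.claim2 2 m _ _ Nat.prime_two hspec (h6 hno)⟩

end Cfsg.Agent.S2512
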