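import Cfsg.Statements.S2511
import Mathlib
import Cfsg.Agent.S2510
import Cfsg.Agent.S2512
import Cfsg.Agent.S2468
import Cfsg.Agent.S0279
import Cfsg.Agent.Lib.Helper8.SURegD

set_option autoImplicit false
open Cfsg

namespace Cfsg.Agent.S2511

section AdjU

open Matrix Polynomial

variable {K : Type*} [Field K] {ι : Type*} [Fintype ι] [DecidableEq ι] (σ : K →+* K)

/-- the `σ`-conjugate transpose on an arbitrary index type -/
def adjU (A : Matrix ι ι K) : Matrix ι ι K := (A.map σ)ᵀ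

omit [Fintype ι] [DecidableEq ι] in
theorem adjU_apply (A : Matrix ι ι K) (i j : ι) : adjU σ A i j = σ (A j i) := rfl

omit [DecidableEq ι] in
theorem adjU_mul (A B : Matrix ι ι K) : adjU σ (A * B) = adjU σ B * adjU σ A := by
  unfold adjU
  rw [Matrix.map_mul, Matrix.transpose_mul]

omit [Fintype ι] in
theorem adjU_one : adjU σ (1 : Matrix ι ι K) = 1 := by
  unfold adjU
  rw [Matrix.map_one _ (map_zero σ) (map_one σ), Matrix.transpose_one]

omit [Fintype ι] [DecidableEq ι] in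
theorem adjU_zero : adjU σ (0 : Matrix ι ι K) = 0 := by
  ext i j
  rw [adjU_apply, Matrix.zero_apply, Matrix.zero_apply, map_zero]

omit [Fintype ι] [DecidableEq ι] in
theorem adjU_add (A B : Matrix ι ι K) : adjU σ (A + B) = adjU σ A + adjU σ B := by
  ext i j
  rw [Matrix.add_apply, adjU_apply, adjU_apply, adjU_apply, Matrix.add_apply, map_add]

omit [Fintype ι] [DecidableEq ι] in
theorem adjU_sub (A B : Matrix ι ι K) : adjU σ (A - B) = adjU σ A - adjU σ B := by
  ext i j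
  rw [Matrix.sub_apply, adjU_apply, adjU_apply, adjU_apply, Matrix.sub_apply, map_sub]

omit [Fintype ι] [DecidableEq ι] in
theorem adjU_smul (c : K) (A : Matrix ι ι K) : adjU σ (c • A) = σ c • adjU σ A := by
  ext i j
  rw [Matrix.smul_apply, adjU_apply, adjU_apply, Matrix.smul_apply, smul_eq_mul, smul_eq_mul, map_mul]

theorem adjU_pow (A : Matrix ι ι K) (k : ℕ) : adjU σ (A ^ k) = adjU σ A ^ k := by
  induction k with
  | zero => rw [pow_zero, pow_zero, adjU_one]
  | succ k ih => rw [pow_succ, adjU_mul, ih, pow_succ']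

omit [Fintype ι] [DecidableEq ι] in
theorem adjU_adjU (hσ2 : ∀ a : K, σ (σ a) = a) (A : Matrix ι ι K) :
    adjU σ (adjU σ A) = A := by
  ext i j
  rw [adjU_apply, adjU_apply, hσ2]

omit [Fintype ι] [DecidableEq ι] in
theorem adjU_sum {κ : Type*} (s : Finset κ) (f : κ → Matrix ι ι K) :
    adjU σ (∑ i ∈ s, f i) = ∑ i ∈ s, adjU σ (f i) := by
  classical
  induction s using Finset.induction_on with
  | empty => rw [Finset.sum_empty, Finset.sum_empty, adjU_zero]
  | insert a s ha ih => rw [Finset.sum_insert ha, Finset.sum_insert ha, adjU_add, ih]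

theorem adjU_aeval (s : Matrix ι ι K) (p : K[X]) :
    adjU σ (aeval s p) = aeval (adjU σ s) (p.map σ) := by
  rw [Polynomial.aeval_eq_sum_range, Polynomial.aeval_eq_sum_range, adjU_sum,
    Polynomial.natDegree_map]
  refine Finset.sum_congr rfl (fun i _ => ?_)
  rw [adjU_smul, adjU_pow, Polynomial.coeff_map]

theorem det_adjU (A : Matrix ι ι K) : (adjU σ A).det = σ A.det := by
  unfold adjU
  rw [Matrix.det_transpose, ← RingHom.mapMatrix_apply, ← RingHom.map_det]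

omit [Fintype ι] [DecidableEq ι] in
theorem adjU_eq_adj {n : ℕ} (A : Matrix (Fin n) (Fin n) K) :
    adjU σ A = Cfsg.Agent.Lib.Helper8.SUReg.adj σ A := rfl

theorem adjU_reindex {κ : Type*} [Fintype κ] [DecidableEq κ] (e : ι ≃ κ) (A : Matrix ι ι K) :
    adjU σ (Matrix.reindexAlgEquiv K K e A) = Matrix.reindexAlgEquiv K K e (adjU σ A) := by
  ext i j
  simp [adjU_apply, Matrix.reindexAlgEquiv_apply, Matrix.reindex_apply, Matrix.submatrix_apply]

omit [Fintype ι] [DecidableEq ι] in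
theorem adjU_fromBlocks {κ : Type*} (A : Matrix ι ι K) (D : Matrix κ κ K) :
    adjU σ (Matrix.fromBlocks A 0 0 D) = Matrix.fromBlocks (adjU σ A) 0 0 (adjU σ D) := by
  unfold adjU
  rw [Matrix.fromBlocks_map, Matrix.fromBlocks_transpose]
  simp

/-- unitary matrices: inverse is the adjoint -/
theorem mul_adjU_of_unitary (M : Matrix ι ι K) (h : adjU σ M * M = 1) : M * adjU σ M = 1 :=
  mul_eq_one_comm.1 h

end AdjU

section SUApi

open Matrix Polynomial Cfsg.Agent.S0277 Cfsg.Agent.Lib.Helper8.SUReg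

variable {K : Type*} [Field K] {q : ℕ} (σ : K →+* K)

theorem mem_SU_iff_adjU (hσ : ∀ x, σ x = x ^ q) (n : ℕ) (x : SpecialLinearGroup (Fin n) K) :
    x ∈ SU n K q ↔ adjU σ (x : Matrix (Fin n) (Fin n) K) * (x : Matrix (Fin n) (Fin n) K) = 1 := by
  rw [adjU_eq_adj, ← isom_iff]
  constructor
  · intro h u v
    rw [stdB_eq_hermForm n σ hσ, stdB_eq_hermForm n σ hσ]
    exact h v u
  · intro h u v
    have := h v u
    rw [stdB_eq_hermForm n σ hσ, stdB_eq_hermForm n σ hσ] at this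
    exact this

/-- elements of `SU` from matrices -/
def mkSU (hσ : ∀ x, σ x = x ^ q) (n : ℕ) (M : Matrix (Fin n) (Fin n) K) (hdet : M.det = 1)
    (hM : adjU σ M * M = 1) : SU n K q :=
  ⟨⟨M, hdet⟩, (mem_SU_iff_adjU σ hσ n ⟨M, hdet⟩).2 hM⟩

theorem mkSU_val (hσ : ∀ x, σ x = x ^ q) (n : ℕ) (M : Matrix (Fin n) (Fin n) K) (hdet : M.det = 1)
    (hM : adjU σ M * M = 1) : ((mkSU σ hσ n M hdet hM).1.1 : Matrix (Fin n) (Fin n) K) = M := rfl

theorem unitary_of_mem (hσ : ∀ x, σ x = x ^ q) (n : ℕ) (A : SU n K q) :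
    adjU σ (A.1.1 : Matrix (Fin n) (Fin n) K) * (A.1.1 : Matrix (Fin n) (Fin n) K) = 1 :=
  (mem_SU_iff_adjU σ hσ n A.1).1 A.2

theorem coe_pow_SU (n : ℕ) (A : SU n K q) (j : ℕ) :
    (((A ^ j : SU n K q).1.1) : Matrix (Fin n) (Fin n) K) = (A.1.1 : Matrix (Fin n) (Fin n) K) ^ j := by
  rw [Subgroup.coe_pow, Matrix.SpecialLinearGroup.coe_pow]

theorem coe_mul_SU (n : ℕ) (A B : SU n K q) :
    (((A * B : SU n K q).1.1) : Matrix (Fin n) (Fin n) K) =
      (A.1.1 : Matrix (Fin n) (Fin n) K) * (B.1.1 : Matrix (Fin n) (Fin n) K) := by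
  rw [Subgroup.coe_mul, Matrix.SpecialLinearGroup.coe_mul]

theorem ext_SU (n : ℕ) (A B : SU n K q)
    (h : (A.1.1 : Matrix (Fin n) (Fin n) K) = (B.1.1 : Matrix (Fin n) (Fin n) K)) : A = B :=
  Subtype.ext (Subtype.ext h)

end SUApi

section ProjOrder

open Matrix Polynomial

variable {K : Type*} [Field K] [Fintype K] {q : ℕ}

theorem mk_pow_eq_one_iff (hF : Fintype.card K = q ^ 2) (n : ℕ) (hn : 1 ≤ n) (A : SU n K q)
    (j : ℕ) :
    (QuotientGroup.mk A : PSU n K q) ^ j = 1 ↔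
      ∃ c : K, (A.1.1 : Matrix (Fin n) (Fin n) K) ^ j = c • (1 : Matrix (Fin n) (Fin n) K) := by
  rw [← QuotientGroup.mk_pow, QuotientGroup.eq_one_iff]
  constructor
  · intro h
    rw [Subgroup.mem_center_iff] at h
    obtain ⟨h1, h2⟩ := Cfsg.Agent.S0279.central_scalar hF n (A ^ j) (fun s => h s)
    refine ⟨((A ^ j).1.1 : Matrix (Fin n) (Fin n) K) ⟨0, hn⟩ ⟨0, hn⟩, ?_⟩
    rw [← coe_pow_SU]
    ext i k
    rw [Matrix.smul_apply, Matrix.one_apply, smul_eq_mul]
    by_cases hik : i = k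
    · subst hik
      rw [if_pos rfl, mul_one]
      exact h2 i ⟨0, hn⟩
    · rw [if_neg hik, mul_zero]
      exact h1 i k hik
  · rintro ⟨c, hc⟩
    rw [Subgroup.mem_center_iff]
    intro s
    apply ext_SU
    rw [coe_mul_SU, coe_mul_SU, coe_pow_SU, hc]
    rw [Matrix.mul_smul, Matrix.smul_mul, Matrix.mul_one, Matrix.one_mul]

theorem finite_SU (n : ℕ) : Finite (SU n K q) := by
  have : Finite (Matrix.SpecialLinearGroup (Fin n) K) := Subtype.finite
  exact Subtype.finite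

theorem finite_PSU (n : ℕ) : Finite (PSU n K q) := by
  have := finite_SU (K := K) (q := q) n
  exact Quotient.finite _

/-- a divisibility criterion for the order of an element of `PSU` -/
theorem dvd_orderOf_mk (hF : Fintype.card K = q ^ 2) (n : ℕ) (hn : 1 ≤ n) (A : SU n K q) (N : ℕ)
    (h : ∀ (j : ℕ) (c : K),
      (A.1.1 : Matrix (Fin n) (Fin n) K) ^ j = c • (1 : Matrix (Fin n) (Fin n) K) → N ∣ j) :
    N ∣ orderOf (QuotientGroup.mk A : PSU n K q) := by
  obtain ⟨c, hc⟩ := (mk_pow_eq_one_iff hF n hn A _).1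
    (pow_orderOf_eq_one (QuotientGroup.mk A : PSU n K q))
  exact h _ c hc

theorem orderOf_mk_dvd (hF : Fintype.card K = q ^ 2) (n : ℕ) (hn : 1 ≤ n) (A : SU n K q) (j : ℕ)
    (c : K) (h : (A.1.1 : Matrix (Fin n) (Fin n) K) ^ j = c • (1 : Matrix (Fin n) (Fin n) K)) :
    orderOf (QuotientGroup.mk A : PSU n K q) ∣ j :=
  orderOf_dvd_of_pow_eq_one ((mk_pow_eq_one_iff hF n hn A j).2 ⟨c, h⟩)

end ProjOrder

section AbsorbU

open Matrix Polynomial

variable {K : Type*} [Field K] [Fintype K] {q : ℕ}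

theorem sq_sub_one_eq (q : ℕ) (hq : 1 ≤ q) : q ^ 2 - 1 = (q - 1) * (q + 1) :=
  Cfsg.Agent.S2512.sq_sub_one_factor q hq

theorem absorbU {ι : Type*} [Fintype ι] [DecidableEq ι] (hF : Fintype.card K = q ^ 2)
    (σ : K →+* K) (hσ : ∀ x, σ x = x ^ q) (n : ℕ) (hn : 1 ≤ n)
    (hcard : Fintype.card ι = n)
    (r : ℕ) (hr : r.Prime) (hrq : r ∣ q + 1) (hrn : ¬ r ∣ n)
    (B P : Matrix ι ι K) (hdet : B.det = 1) (hB : adjU σ B * B = 1) (hPP : P * P = P)
    (hPadj : adjU σ P = P) (hP0 : P ≠ 0) (hP1 : P ≠ 1)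
    (hBP : B * P = P * B) (x : ℕ)
    (hx : ∀ (j : ℕ) (c : K), B ^ j = c • (1 : Matrix ι ι K) → x ∣ j) :
    ∃ g : PSU n K q, Nat.lcm x r ∣ orderOf g := by
  classical
  have : Fact r.Prime := ⟨hr⟩
  have hq1 : 1 ≤ q := by
    rcases Nat.eq_zero_or_pos q with h | h
    · exfalso
      rw [h] at hF
      have := Fintype.one_lt_card (α := K)
      simp at hF
    · exact h
  have hrK : r ∣ Nat.card Kˣ := by
    rw [Nat.card_units, Nat.card_eq_fintype_card, hF, sq_sub_one_eq q hq1]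
    exact dvd_mul_of_dvd_right hrq _
  obtain ⟨ζu, hζu⟩ := exists_prime_orderOf_dvd_card' (G := Kˣ) r hrK
  set ζ : K := (ζu : K) with hζdef
  have hζpow : ∀ j : ℕ, ζ ^ j = 1 ↔ r ∣ j := by
    intro j
    rw [hζdef, ← Units.val_pow_eq_pow_val, Units.val_eq_one, ← hζu, orderOf_dvd_iff_pow_eq_one]
  have hunit : ∀ y : K, y ^ r = 1 → y * σ y = 1 := by
    intro y hy
    obtain ⟨t, ht⟩ := hrq
    rw [hσ, ← pow_succ', ht, pow_mul, hy, one_pow]
  have hζσ : ζ * σ ζ = 1 := hunit ζ ((hζpow r).2 dvd_rfl)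
  set H₀ : Matrix ι ι K := 1 + (ζ - 1) • P with hH₀
  have hH₀pow : ∀ j : ℕ, H₀ ^ j = 1 + (ζ ^ j - 1) • P :=
    fun j => Cfsg.Agent.S2510.idem_pow P hPP ζ j
  have hH₀r : H₀ ^ r = 1 := by
    rw [hH₀pow, (hζpow r).2 dvd_rfl, sub_self, zero_smul, add_zero]
  have hH₀adj : adjU σ H₀ = 1 + (σ ζ - 1) • P := by
    rw [hH₀, adjU_add, adjU_one, adjU_smul, hPadj, map_sub, map_one]
  have hH₀u : adjU σ H₀ * H₀ = 1 := by
    rw [hH₀adj, hH₀, add_mul, mul_add, mul_add, one_mul, mul_one, one_mul, smul_mul_smul_comm, hPP]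
    have e : (1 : Matrix ι ι K) + (ζ - 1) • P + ((σ ζ - 1) • P + ((σ ζ - 1) * (ζ - 1)) • P) =
        1 + ((ζ - 1) + (σ ζ - 1) + (σ ζ - 1) * (ζ - 1)) • P := by module
    rw [e]
    have e2 : (ζ - 1) + (σ ζ - 1) + (σ ζ - 1) * (ζ - 1) = ζ * σ ζ - 1 := by ring
    rw [e2, hζσ, sub_self, zero_smul, add_zero]
  set δ : K := H₀.det with hδ
  have hδr : δ ^ r = 1 := by rw [hδ, ← Matrix.det_pow, hH₀r, Matrix.det_one]
  -- scalar correction
  have hcop : Nat.Coprime n r := by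
    rw [Nat.coprime_comm]
    exact (Nat.Prime.coprime_iff_not_dvd hr).2 hrn
  obtain ⟨s, -, hs⟩ := Nat.exists_mul_mod_eq_one_of_coprime hcop hr.one_lt
  set ν : K := (δ⁻¹) ^ s with hν
  have hνr : ν ^ r = 1 := by
    rw [hν, ← pow_mul, mul_comm, pow_mul, inv_pow, hδr, inv_one, one_pow]
  have hνn : ν ^ n * δ = 1 := by
    have h1 : (δ⁻¹) ^ (n * s) = δ⁻¹ := by
      have h2 : n * s = r * (n * s / r) + 1 := by
        have := Nat.div_add_mod (n * s) r
        omega
      rw [h2, pow_succ, pow_mul, inv_pow, hδr, inv_one, one_pow, one_mul]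
    have hδ0 : δ ≠ 0 := by
      intro h0
      rw [h0, zero_pow hr.ne_zero] at hδr
      exact zero_ne_one hδr
    rw [hν, ← pow_mul, mul_comm s n, h1, inv_mul_cancel₀ hδ0]
  have hν0 : ν ≠ 0 := by
    intro h0
    rw [h0, zero_pow hr.ne_zero] at hνr
    exact zero_ne_one hνr
  have hνσ : ν * σ ν = 1 := hunit ν hνr
  set H : Matrix ι ι K := ν • H₀ with hH
  have hHdet : H.det = 1 := by
    rw [hH, Matrix.det_smul, hcard, ← hδ, hνn]
  have hHu : adjU σ H * H = 1 := by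
    rw [hH, adjU_smul, smul_mul_smul_comm, hH₀u, mul_comm, hνσ, one_smul]
  have hHpow : ∀ j : ℕ, H ^ j = ν ^ j • (1 + (ζ ^ j - 1) • P) := by
    intro j
    rw [hH, _root_.smul_pow, hH₀pow]
  have hHr : H ^ r = 1 := by
    rw [hHpow, hνr, one_smul, (hζpow r).2 dvd_rfl, sub_self, zero_smul, add_zero]
  have hHsc : ∀ (j : ℕ) (c : K), H ^ j = c • (1 : Matrix ι ι K) → r ∣ j := by
    intro j c hj
    rw [hHpow] at hj
    have h1 : (1 : Matrix ι ι K) + (ζ ^ j - 1) • P = ((ν ^ j)⁻¹ * c) • (1 : Matrix ι ι K) := by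
      rw [mul_smul, ← hj, smul_smul, inv_mul_cancel₀ (pow_ne_zero j hν0), one_smul]
    exact (hζpow j).1 (Cfsg.Agent.S2510.idem_scalar P hPP hP0 hP1 _ _ h1)
  have hBH : B * H = H * B := by
    rw [hH, hH₀]
    rw [mul_smul_comm, smul_mul_assoc, mul_add, add_mul, mul_one, one_mul, mul_smul_comm,
      smul_mul_assoc, hBP]
  -- transport
  let e : ι ≃ Fin n := Fintype.equivFinOfCardEq hcard
  let Φ := Matrix.reindexAlgEquiv K K e
  have hΦdet : ∀ M : Matrix ι ι K, (Φ M).det = M.det := fun M => Matrix.det_reindexAlgEquiv K K e M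
  have hΦu : ∀ M : Matrix ι ι K, adjU σ M * M = 1 → adjU σ (Φ M) * Φ M = 1 := by
    intro M hM
    rw [adjU_reindex, ← map_mul, hM, map_one]
  let gB : SU n K q := mkSU σ hσ n (Φ B) (by rw [hΦdet, hdet]) (hΦu B hB)
  let gH : SU n K q := mkSU σ hσ n (Φ H) (by rw [hΦdet, hHdet]) (hΦu H hHu)
  have hgB : (gB.1.1 : Matrix (Fin n) (Fin n) K) = Φ B := rfl
  have hgH : (gH.1.1 : Matrix (Fin n) (Fin n) K) = Φ H := rfl
  have hback : ∀ (M : Matrix ι ι K) (j : ℕ) (c : K),
      (Φ M) ^ j = c • (1 : Matrix (Fin n) (Fin n) K) → M ^ j = c • (1 : Matrix ι ι K) := by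
    intro M j c h
    apply Φ.injective
    rw [map_pow, h, map_smul, map_one]
  have hcomm : Commute (QuotientGroup.mk gB : PSU n K q) (QuotientGroup.mk gH) := by
    have h1 : gB * gH = gH * gB := by
      apply ext_SU
      rw [coe_mul_SU, coe_mul_SU, hgB, hgH, ← map_mul, ← map_mul, hBH]
    change (QuotientGroup.mk gB : PSU n K q) * QuotientGroup.mk gH =
      QuotientGroup.mk gH * QuotientGroup.mk gB
    rw [← QuotientGroup.mk_mul, ← QuotientGroup.mk_mul, h1]
  have hxB : x ∣ orderOf (QuotientGroup.mk gB : PSU n K q) := by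
    apply dvd_orderOf_mk hF n hn gB x
    intro j c hc
    rw [hgB] at hc
    exact hx j c (hback B j c hc)
  have hordH : orderOf (QuotientGroup.mk gH : PSU n K q) = r := by
    apply orderOf_eq_prime
    · rw [← QuotientGroup.mk_pow]
      have : gH ^ r = 1 := by
        apply ext_SU
        rw [coe_pow_SU, hgH, ← map_pow, hHr, map_one]
        rfl
      rw [this]; rfl
    · intro h1
      have h2 : (QuotientGroup.mk gH : PSU n K q) ^ 1 = 1 := by
        rw [pow_one, h1]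
      obtain ⟨c, hc⟩ := (mk_pow_eq_one_iff hF n hn gH 1).1 h2
      rw [hgH] at hc
      have := hHsc 1 c (hback H 1 c hc)
      exact hr.one_lt.ne' (Nat.dvd_one.1 this)
  by_cases hro : r ∣ orderOf (QuotientGroup.mk gB : PSU n K q)
  · exact ⟨QuotientGroup.mk gB, Nat.lcm_dvd hxB hro⟩
  · refine ⟨QuotientGroup.mk gB * QuotientGroup.mk gH, ?_⟩
    have hcop2 : Nat.Coprime (orderOf (QuotientGroup.mk gB : PSU n K q))
        (orderOf (QuotientGroup.mk gH : PSU n K q)) := by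
      rw [hordH, Nat.coprime_comm]
      exact (Nat.Prime.coprime_iff_not_dvd hr).2 hro
    rw [hcomm.orderOf_mul_eq_mul_orderOf_of_coprime hcop2, hordH]
    exact Nat.lcm_dvd (dvd_mul_of_dvd_left hxB _) (dvd_mul_left _ _)

end AbsorbU

section Blocks

open Matrix Polynomial

variable {K : Type*} [Field K] (σ : K →+* K)

/-- a strong block: scalar powers are trivial -/
def SBlock (d N : ℕ) : Prop :=
  ∃ M : Matrix (Fin d) (Fin d) K, adjU σ M * M = 1 ∧ M.det = 1 ∧
    ∀ (j : ℕ) (c : K), M ^ j = c • (1 : Matrix (Fin d) (Fin d) K) → c = 1 ∧ N ∣ j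

/-- a weak block -/
def WBlock (d N : ℕ) : Prop :=
  ∃ M : Matrix (Fin d) (Fin d) K, adjU σ M * M = 1 ∧ M.det = 1 ∧
    ∀ j : ℕ, M ^ j = 1 → N ∣ j

theorem sblock_one (d : ℕ) (hd : 1 ≤ d) : SBlock σ d 1 := by
  refine ⟨1, by rw [adjU_one, one_mul], Matrix.det_one, ?_⟩
  intro j c h
  refine ⟨?_, one_dvd j⟩
  rw [one_pow] at h
  have := congrFun (congrFun h ⟨0, hd⟩) ⟨0, hd⟩
  rw [Matrix.one_apply_eq, Matrix.smul_apply, Matrix.one_apply_eq, smul_eq_mul, mul_one] at this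
  exact this.symm

theorem wblock_one (d : ℕ) : WBlock σ d 1 :=
  ⟨1, by rw [adjU_one, one_mul], Matrix.det_one, fun j _ => one_dvd j⟩

theorem wblock_mono (d N N' : ℕ) (h : N' ∣ N) (hW : WBlock σ d N) : WBlock σ d N' := by
  obtain ⟨M, h1, h2, h3⟩ := hW
  exact ⟨M, h1, h2, fun j hj => h.trans (h3 j hj)⟩

theorem sblock_pad (d k N : ℕ) (h : SBlock σ d N) : SBlock σ (d + k) N := by
  classical
  obtain ⟨M, hMu, hMdet, hM⟩ := h
  let Φ := Matrix.reindexAlgEquiv K K (finSumFinEquiv : Fin d ⊕ Fin k ≃ Fin (d + k))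
  set B : Matrix (Fin d ⊕ Fin k) (Fin d ⊕ Fin k) K :=
    Matrix.fromBlocks M 0 0 (1 : Matrix (Fin k) (Fin k) K) with hB
  refine ⟨Φ B, ?_, ?_, ?_⟩
  · rw [adjU_reindex, ← map_mul, hB, adjU_fromBlocks, Matrix.fromBlocks_multiply]
    simp only [Matrix.mul_zero, Matrix.zero_mul, add_zero, zero_add, adjU_one, mul_one, hMu]
    rw [Matrix.fromBlocks_one, map_one]
  · rw [Matrix.det_reindexAlgEquiv, hB, Matrix.det_fromBlocks_zero₁₂, hMdet, Matrix.det_one, mul_one]
  · intro j c h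
    have h1 : B ^ j = c • (1 : Matrix (Fin d ⊕ Fin k) (Fin d ⊕ Fin k) K) := by
      apply Φ.injective
      rw [map_pow, h, map_smul, map_one]
    rw [hB, Cfsg.Agent.S2468.fromBlocks_pow', Cfsg.Agent.S2468.fromBlocks_eq_smul_one] at h1
    exact hM j c h1.1

end Blocks

section AbsorbBlocks

open Matrix Polynomial

variable {K : Type*} [Field K] [Fintype K] {q : ℕ}

theorem absorb_blocks (hF : Fintype.card K = q ^ 2) (σ : K →+* K) (hσ : ∀ x, σ x = x ^ q)
    (d₁ d₂ N₁ N₂ n : ℕ) (hd₁ : 1 ≤ d₁) (hd₂ : 1 ≤ d₂) (hn : d₁ + d₂ = n)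
    (r : ℕ) (hr : r.Prime) (hrq : r ∣ q + 1) (hrn : ¬ r ∣ n)
    (hS : SBlock σ d₁ N₁) (hW : WBlock σ d₂ N₂) :
    ∃ g : PSU n K q, Nat.lcm (Nat.lcm N₁ N₂) r ∣ orderOf g := by
  classical
  obtain ⟨M₁, hu₁, hdet₁, hM₁⟩ := hS
  obtain ⟨M₂, hu₂, hdet₂, hM₂⟩ := hW
  set B : Matrix (Fin d₁ ⊕ Fin d₂) (Fin d₁ ⊕ Fin d₂) K := Matrix.fromBlocks M₁ 0 0 M₂ with hB
  set P : Matrix (Fin d₁ ⊕ Fin d₂) (Fin d₁ ⊕ Fin d₂) K := Matrix.fromBlocks 1 0 0 0 with hP
  have hBdet : B.det = 1 := by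
    rw [hB, Matrix.det_fromBlocks_zero₁₂, hdet₁, hdet₂, mul_one]
  have hBu : adjU σ B * B = 1 := by
    rw [hB, adjU_fromBlocks, Matrix.fromBlocks_multiply]
    simp only [Matrix.mul_zero, Matrix.zero_mul, add_zero, zero_add, hu₁, hu₂]
    rw [Matrix.fromBlocks_one]
  have hPP : P * P = P := by
    rw [hP, Matrix.fromBlocks_multiply]
    simp
  have hPadj : adjU σ P = P := by
    rw [hP, adjU_fromBlocks, adjU_one, adjU_zero]
  have hP0 : P ≠ 0 := by
    intro h
    have := congrFun (congrFun h (Sum.inl ⟨0, hd₁⟩)) (Sum.inl ⟨0, hd₁⟩)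
    simp [hP] at this
  have hP1 : P ≠ 1 := by
    intro h
    have := congrFun (congrFun h (Sum.inr ⟨0, hd₂⟩)) (Sum.inr ⟨0, hd₂⟩)
    simp [hP] at this
  have hBP : B * P = P * B := by
    rw [hB, hP, Matrix.fromBlocks_multiply, Matrix.fromBlocks_multiply]
    simp
  have hcard : Fintype.card (Fin d₁ ⊕ Fin d₂) = n := by
    rw [Fintype.card_sum, Fintype.card_fin, Fintype.card_fin, hn]
  apply absorbU hF σ hσ n (by omega) hcard r hr hrq hrn B P hBdet hBu hPP hPadj hP0 hP1 hBP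
  intro j c h
  rw [hB, Cfsg.Agent.S2468.fromBlocks_pow', Cfsg.Agent.S2468.fromBlocks_eq_smul_one] at h
  obtain ⟨h1, h2⟩ := h
  obtain ⟨hc, hN₁⟩ := hM₁ j c h1
  rw [hc, one_smul] at h2
  exact Nat.lcm_dvd hN₁ (hM₂ j h2)

end AbsorbBlocks

section Unip

open Matrix Polynomial Cfsg.Agent.H9.RegUni Cfsg.Agent.H9.RegNil

variable {K : Type*} [Field K] [Fintype K]

theorem pow_char_sub_one {m : ℕ} (p : ℕ) [Fact p.Prime] [CharP K p]
    (u : Matrix (Fin m) (Fin m) K) (t : ℕ) : u ^ (p ^ t) - 1 = (u - 1) ^ (p ^ t) := by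
  have h1 : ((X : K[X]) - 1) ^ (p ^ t) = X ^ (p ^ t) - 1 := by
    rw [sub_pow_char_pow, one_pow]
  have h2 := congrArg (aeval u) h1
  rw [map_pow, map_sub, map_sub, map_pow, aeval_X, map_one] at h2
  exact h2.symm

theorem sblock_unip (p : ℕ) [Fact p.Prime] [CharP K p] (σ : K →+* K)
    (hσne : σ ≠ RingHom.id K) (hσ2 : ∀ a : K, σ (σ a) = a) (k : ℕ) (hk : 1 ≤ k) :
    SBlock σ (p ^ (k - 1) + 1) (p ^ k) := by
  classical
  have hp : p.Prime := Fact.out
  set m := p ^ (k - 1) + 1 with hm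
  have hm1 : 1 ≤ m := by omega
  obtain ⟨u, hu, hreg⟩ := Cfsg.Agent.Lib.Helper8.SUReg.exists_unitary_isReg σ hm1 hσne hσ2
  have hdet : u.det = 1 := Cfsg.Agent.Lib.Helper8.SUReg.det_of_isReg u hreg
  have hN1 : (u - 1) ^ (m - 1) ≠ 0 := by
    obtain ⟨hnil, hker⟩ := hreg.lin
    obtain ⟨v, hv⟩ := exists_cyc finrank_fun _ hnil hker hm1
    intro h0
    apply hv
    rw [← Matrix.toLin'_pow, h0, map_zero]
    rfl
  have hkk : p ^ k = p ^ (k - 1) * p := by
    rw [← pow_succ]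
    congr 1
    omega
  have hmle : m ≤ p ^ k := by
    rw [hkk, hm]
    have h1 : 0 < p ^ (k - 1) := Nat.pow_pos hp.pos
    have h2 := hp.two_le
    nlinarith
  have hupow : u ^ (p ^ k) = 1 := by
    have h1 := pow_char_sub_one p u k
    have h2 : (u - 1) ^ (p ^ k) = 0 := by
      obtain ⟨t, ht⟩ := Nat.exists_eq_add_of_le hmle
      rw [ht, pow_add, hreg.1, zero_mul]
    rw [h2] at h1
    exact sub_eq_zero.1 h1
  have hunot : u ^ (p ^ (k - 1)) ≠ 1 := by
    intro h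
    have h1 := pow_char_sub_one p u (k - 1)
    rw [h, sub_self] at h1
    apply hN1
    have : m - 1 = p ^ (k - 1) := by omega
    rw [this]
    exact h1.symm
  refine ⟨u, hu, hdet, ?_⟩
  intro j c hjc
  have hc : c = 1 := by
    have h1 : (c • (1 : Matrix (Fin m) (Fin m) K)) ^ (p ^ k) = 1 := by
      rw [← hjc, ← pow_mul, mul_comm, pow_mul, hupow, one_pow]
    rw [_root_.smul_pow, one_pow] at h1
    have h2 := congrFun (congrFun h1 ⟨0, hm1⟩) ⟨0, hm1⟩
    rw [Matrix.smul_apply, Matrix.one_apply_eq, smul_eq_mul, mul_one] at h2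
    have h3 : (c - 1) ^ (p ^ k) = 0 := by
      rw [sub_pow_char_pow, h2, one_pow, sub_self]
    have h4 := pow_eq_zero_iff (Nat.pow_pos hp.pos).ne' |>.1 h3
    exact sub_eq_zero.1 h4
  refine ⟨hc, ?_⟩
  rw [hc, one_smul] at hjc
  have ho1 : orderOf u ∣ j := orderOf_dvd_of_pow_eq_one hjc
  have ho2 : orderOf u ∣ p ^ k := orderOf_dvd_of_pow_eq_one hupow
  obtain ⟨i, hi, hoi⟩ := (Nat.dvd_prime_pow hp).1 ho2
  have hik : i = k := by
    by_contra hne
    have hlt : i ≤ k - 1 := by omega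
    apply hunot
    apply orderOf_dvd_iff_pow_eq_one.1
    rw [hoi]
    exact pow_dvd_pow p hlt
  rw [← hik, ← hoi]
  exact ho1

end Unip

section Realize

open Matrix Polynomial Module Cfsg.Agent.S0277 Cfsg.Agent.Lib.Helper8.SUReg

universe u v

variable {K : Type v} [Field K] [Finite K]

theorem realizeW (σ : K →+* K) (hσne : σ ≠ RingHom.id K) (hσ2 : ∀ a : K, σ (σ a) = a)
    (D N : ℕ) (V : Type u) [AddCommGroup V] [Module K V] [FiniteDimensional K V]
    (B : V →ₛₗ[σ] V →ₗ[K] K) (hS : B.IsSymm) (hB : B.SeparatingLeft)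
    (hrank : finrank K V = D) (T : V →ₗ[K] V) (hT : ∀ x y, B (T x) (T y) = B x y)
    (hdet : LinearMap.det T = 1) (hord : ∀ j : ℕ, T ^ j = 1 → N ∣ j) : WBlock σ D N := by
  classical
  obtain ⟨φ, hφ⟩ := Cfsg.Agent.Lib.Helper8.HermSplit.exists_isometry hσne hσ2 D V B hS hB hrank
  let b : Basis (Fin D) K V := (Pi.basisFun K (Fin D)).map φ.symm
  have hrepr : ∀ v : V, (b.repr v : Fin D → K) = φ v := by
    intro v
    funext i
    simp [b]
  let Φ := LinearMap.toMatrixAlgEquiv b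
  have hmul : ∀ v : V, (Φ T) *ᵥ (φ v) = φ (T v) := by
    intro v
    have := LinearMap.toMatrix_mulVec_repr b b T v
    rw [hrepr, hrepr] at this
    exact this
  refine ⟨Φ T, ?_, ?_, ?_⟩
  · rw [adjU_eq_adj, ← isom_iff]
    intro x y
    obtain ⟨x', rfl⟩ := φ.surjective x
    obtain ⟨y', rfl⟩ := φ.surjective y
    rw [hmul, hmul, hφ, hφ, hT]
  · have : (Φ T).det = LinearMap.det T := LinearMap.det_toMatrix b T
    rw [this, hdet]
  · intro j hj
    apply hord
    apply Φ.injective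
    rw [map_pow, hj, map_one]

end Realize

section TorusPlus

open Matrix Polynomial Module Cfsg.Agent.S2510

variable {K : Type*} [Field K] [Fintype K] {q : ℕ}

/-- the order of the determinant-one part of the torus `GL_1(q^{2d})` modulo nothing -/
def NPlus (q d : ℕ) : ℕ := Nn (q ^ 2) d * (q - 1)

theorem NPlus_mul (q d : ℕ) (hq : 1 ≤ q) : (q + 1) * NPlus q d = q ^ (2 * d) - 1 := by
  have hq2 : 1 ≤ q ^ 2 := Nat.one_le_pow _ _ hq
  have h1 := Nn_mul (q ^ 2) d hq2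
  rw [← pow_mul] at h1
  rw [h1, NPlus, Cfsg.Agent.S2512.sq_sub_one_factor q hq]
  ring

theorem one_le_q (hF : Fintype.card K = q ^ 2) : 1 ≤ q := by
  rcases Nat.eq_zero_or_pos q with h | h
  · exfalso
    rw [h] at hF
    have := Fintype.one_lt_card (α := K)
    simp at hF
  · exact h

theorem wblock_tplus (hF : Fintype.card K = q ^ 2) (p a : ℕ) [Fact p.Prime] [CharP K p]
    (hq : q = p ^ a) (σ : K →+* K) (hσ : ∀ x, σ x = x ^ q) (hσne : σ ≠ RingHom.id K)
    (hσ2 : ∀ a : K, σ (σ a) = a) (d : ℕ) (hd : 1 ≤ d) :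
    WBlock σ (2 * d) (NPlus q d) := by
  classical
  have : NeZero d := ⟨by omega⟩
  have hq1 : 1 ≤ q := one_le_q hF
  let L := FiniteField.Extension K p d
  have hfr : finrank K L = d := FiniteField.finrank_extension K p d
  haveI : CharP L p := charP_of_injective_algebraMap (algebraMap K L).injective p
  haveI : ExpChar L p := ExpChar.prime Fact.out
  let τ : L →+* L := iterateFrobenius L p a
  have hτ : ∀ x : L, τ x = x ^ q := by
    intro x
    rw [hq]
    exact iterateFrobenius_def p a x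
  have hτalg : ∀ c : K, τ (algebraMap K L c) = algebraMap K L (σ c) := by
    intro c
    rw [hτ, hσ, map_pow]
  have hτinj : Function.Injective τ := τ.injective
  have hτsmul : ∀ (c : K) (x : L), τ (c • x) = σ c • τ x := by
    intro c x
    rw [Algebra.smul_def, map_mul, hτalg, ← Algebra.smul_def]
  have hτsurj : Function.Surjective τ := Finite.injective_iff_surjective.1 hτinj
  have hcardL : Nat.card L = q ^ (2 * d) := by
    rw [FiniteField.natCard_extension, Nat.card_eq_fintype_card, hF, pow_mul]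
  obtain ⟨ζ, hζ⟩ := IsCyclic.exists_generator (α := Lˣ)
  have hordζ : orderOf ζ = q ^ (2 * d) - 1 := by
    rw [orderOf_eq_card_of_forall_mem_zpowers hζ, Nat.card_units, hcardL]
  set α : L := ((ζ ^ (q + 1) : Lˣ) : L) with hα
  have hα0 : α ≠ 0 := Units.ne_zero _
  have hαpow : ∀ k : ℕ, α ^ k = 1 ↔ NPlus q d ∣ k := by
    intro k
    rw [hα, ← Units.val_pow_eq_pow_val, Units.val_eq_one, ← pow_mul, ← orderOf_dvd_iff_pow_eq_one,
      hordζ, ← NPlus_mul q d hq1, Nat.mul_dvd_mul_iff_left (by omega : 0 < q + 1)]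
  set β : L := (τ α)⁻¹ with hβ
  have hτα0 : τ α ≠ 0 := by
    intro h
    exact hα0 (hτinj (by rw [h, map_zero]))
  have hαβ : τ α * β = 1 := mul_inv_cancel₀ hτα0
  let tr : L →ₗ[K] K := Algebra.trace K L
  have htf : ∀ x : L, (∀ y, Algebra.trace K L (x * y) = 0) → x = 0 := by
    intro x hx
    exact (_root_.traceForm_nondegenerate K L).1 x hx
  let B : (L × L) →ₛₗ[σ] (L × L) →ₗ[K] K :=
    LinearMap.mk₂'ₛₗ σ (RingHom.id K)
      (fun x y => Algebra.trace K L (τ x.1 * y.2) + σ (Algebra.trace K L (τ y.1 * x.2)))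
      (fun x x' y => by
        simp only [Prod.fst_add, Prod.snd_add, map_add, add_mul, mul_add]
        ring)
      (fun c x y => by
        simp only [Prod.smul_fst, Prod.smul_snd, hτsmul, smul_mul_assoc, mul_smul_comm, map_smul,
          smul_eq_mul, map_mul]
        ring)
      (fun x y y' => by
        simp only [Prod.fst_add, Prod.snd_add, map_add, add_mul, mul_add]
        ring)
      (fun c x y => by
        simp only [Prod.smul_fst, Prod.smul_snd, hτsmul, smul_mul_assoc, mul_smul_comm, map_smul,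
          smul_eq_mul, map_mul, RingHom.id_apply, hσ2]
        ring)
  have hBapp : ∀ x y : L × L, B x y =
      Algebra.trace K L (τ x.1 * y.2) + σ (Algebra.trace K L (τ y.1 * x.2)) := fun x y => rfl
  have hS : B.IsSymm := by
    constructor
    intro x y
    rw [hBapp, hBapp, map_add, hσ2, add_comm]
  have hBsep : B.SeparatingLeft := by
    intro x hx
    have h1 : x.1 = 0 := by
      have : τ x.1 = 0 := by
        apply htf
        intro y
        have := hx (0, y)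
        rw [hBapp] at this
        simpa using this
      exact hτinj (by rw [this, map_zero])
    have h2 : x.2 = 0 := by
      apply htf
      intro y
      obtain ⟨y', rfl⟩ := hτsurj y
      have := hx (y', 0)
      rw [hBapp] at this
      simp only [mul_zero, map_zero, zero_add] at this
      have h3 := congrArg σ this
      rw [hσ2, map_zero, mul_comm] at h3
      exact h3
    exact Prod.ext h1 h2
  let T : (L × L) →ₗ[K] (L × L) := (Algebra.lmul K L α).prodMap (Algebra.lmul K L β)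
  have hTapp : ∀ x : L × L, T x = (α * x.1, β * x.2) := fun x => rfl
  have hTpow : ∀ (j : ℕ) (x : L × L), (T ^ j) x = (α ^ j * x.1, β ^ j * x.2) := by
    intro j
    induction j with
    | zero => intro x; simp
    | succ j ih =>
      intro x
      rw [pow_succ, Module.End.mul_apply, hTapp, ih]
      simp only
      rw [pow_succ, pow_succ, mul_assoc, mul_assoc]
  have hTisom : ∀ x y, B (T x) (T y) = B x y := by
    intro x y
    rw [hBapp, hBapp, hTapp, hTapp]
    simp only [map_mul]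
    have e1 : τ α * τ x.1 * (β * y.2) = (τ α * β) * (τ x.1 * y.2) := by ring
    have e2 : τ α * τ y.1 * (β * x.2) = (τ α * β) * (τ y.1 * x.2) := by ring
    rw [e1, e2, hαβ, one_mul, one_mul]
  have hdetT : LinearMap.det T = 1 := by
    rw [LinearMap.det_prodMap, ← Algebra.norm_apply, ← Algebra.norm_apply]
    -- norm α is fixed by the Frobenius
    set w : K := Algebra.norm K ((ζ : Lˣ) : L) with hw
    have hnα : Algebra.norm K α = w ^ (q + 1) := by
      rw [hα, Units.val_pow_eq_pow_val, map_pow]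
    have hwq : w ^ (q ^ 2) = w := by
      have := FiniteField.pow_card w
      rwa [hF] at this
    have hfix : (Algebra.norm K α) ^ q = Algebra.norm K α := by
      rw [hnα, ← pow_mul]
      have : (q + 1) * q = q ^ 2 + q := by ring
      rw [this, pow_add, hwq, pow_succ']
    have hnβ : Algebra.norm K β = (Algebra.norm K α)⁻¹ := by
      apply eq_inv_of_mul_eq_one_left
      have h1 : Algebra.norm K (τ α) = Algebra.norm K α := by
        rw [hτ, map_pow, hfix]
      rw [← h1, ← map_mul, mul_comm, hαβ, map_one]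
    have hn0 : Algebra.norm K α ≠ 0 := by
      rw [Ne, Algebra.norm_eq_zero_iff]
      exact hα0
    rw [hnβ, mul_inv_cancel₀ hn0]
  apply realizeW σ hσne hσ2 (2 * d) (NPlus q d) (L × L) B hS hBsep
    (by rw [Module.finrank_prod, hfr, two_mul]) T hTisom hdetT
  intro j hj
  rw [← hαpow]
  have := congrArg (fun f : (L × L) →ₗ[K] (L × L) => (f (1, 0)).1) hj
  simp only [hTpow] at this
  simpa using this

end TorusPlus

section TorusMinus

open Matrix Polynomial Module Cfsg.Agent.S2510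

variable {K : Type*} [Field K] [Fintype K] {q : ℕ}

/-- `(q^D+1)/(q+1)` -/
def NMinus (q D : ℕ) : ℕ := (q ^ D + 1) / (q + 1)

theorem NMinus_mul (q D : ℕ) (hD : Odd D) : (q + 1) * NMinus q D = q ^ D + 1 := by
  have h : q + 1 ∣ q ^ D + 1 := by
    have := Odd.nat_add_dvd_pow_add_pow q 1 hD
    simpa using this
  rw [NMinus, Nat.mul_div_cancel' h]

theorem pow_q_sq_pow (hF : Fintype.card K = q ^ 2) (c : K) (k : ℕ) : c ^ ((q ^ 2) ^ k) = c := by
  induction k with
  | zero => simp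
  | succ k ih =>
    rw [pow_succ, pow_mul, ih]
    have := FiniteField.pow_card c
    rwa [hF] at this

theorem pow_q_odd (hF : Fintype.card K = q ^ 2) (c : K) (D : ℕ) (hD : Odd D) :
    c ^ (q ^ D) = c ^ q := by
  obtain ⟨k, rfl⟩ := hD
  rw [pow_succ, pow_mul, pow_mul, pow_q_sq_pow hF]

theorem wblock_tminus (hF : Fintype.card K = q ^ 2) (p a : ℕ) [Fact p.Prime] [CharP K p]
    (hq : q = p ^ a) (σ : K →+* K) (hσ : ∀ x, σ x = x ^ q) (hσne : σ ≠ RingHom.id K)
    (hσ2 : ∀ a : K, σ (σ a) = a) (D : ℕ) (hD : Odd D) :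
    WBlock σ D (NMinus q D) := by
  classical
  have hD1 : 1 ≤ D := hD.pos
  have : NeZero D := ⟨by omega⟩
  have hq1 : 1 ≤ q := one_le_q hF
  let L := FiniteField.Extension K p D
  have hfr : finrank K L = D := FiniteField.finrank_extension K p D
  haveI : CharP L p := charP_of_injective_algebraMap (algebraMap K L).injective p
  haveI : ExpChar L p := ExpChar.prime Fact.out
  let τ : L →+* L := iterateFrobenius L p (a * D)
  have hτ : ∀ x : L, τ x = x ^ (q ^ D) := by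
    intro x
    rw [hq, ← pow_mul]
    exact iterateFrobenius_def p (a * D) x
  have hτalg : ∀ c : K, τ (algebraMap K L c) = algebraMap K L (σ c) := by
    intro c
    rw [hτ, hσ, ← map_pow, pow_q_odd hF c D hD]
  have hτinj : Function.Injective τ := τ.injective
  have hτsmul : ∀ (c : K) (x : L), τ (c • x) = σ c • τ x := by
    intro c x
    rw [Algebra.smul_def, map_mul, hτalg, ← Algebra.smul_def]
  have hcardL : Nat.card L = q ^ (2 * D) := by
    rw [FiniteField.natCard_extension, Nat.card_eq_fintype_card, hF, pow_mul]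
  haveI : Fintype L := Fintype.ofFinite L
  have hτ2 : ∀ x : L, τ (τ x) = x := by
    intro x
    rw [hτ, hτ, ← pow_mul, ← pow_add, ← two_mul]
    have := FiniteField.pow_card x
    rwa [← Nat.card_eq_fintype_card, hcardL] at this
  -- ring equivalences
  let σe : K ≃+* K := RingEquiv.ofRingHom σ σ (RingHom.ext hσ2) (RingHom.ext hσ2)
  let τe : L ≃+* L := RingEquiv.ofRingHom τ τ (RingHom.ext hτ2) (RingHom.ext hτ2)
  have htrace : ∀ z : L, σ (Algebra.trace K L z) = Algebra.trace K L (τ z) := by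
    intro z
    have h := Algebra.trace_eq_of_equiv_equiv σe τe (by
      ext c
      exact (hτalg c).symm) z
    have h2 := congrArg σe h
    rw [RingEquiv.apply_symm_apply] at h2
    exact h2
  obtain ⟨ζ, hζ⟩ := IsCyclic.exists_generator (α := Lˣ)
  have hordζ : orderOf ζ = q ^ (2 * D) - 1 := by
    rw [orderOf_eq_card_of_forall_mem_zpowers hζ, Nat.card_units, hcardL]
  have hqD1 : 1 ≤ q ^ D := Nat.one_le_pow _ _ hq1
  have hfac : q ^ (2 * D) - 1 = (q ^ D - 1) * (q ^ D + 1) := by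
    have : q ^ (2 * D) = (q ^ D) ^ 2 := by rw [← pow_mul, mul_comm]
    rw [this, Cfsg.Agent.S2512.sq_sub_one_factor _ hqD1]
  have hNM := NMinus_mul q D hD
  set α : L := ((ζ ^ ((q ^ D - 1) * (q + 1)) : Lˣ) : L) with hα
  have hα0 : α ≠ 0 := Units.ne_zero _
  have hqD2 : 0 < q ^ D - 1 ∨ q ^ D - 1 = 0 := by omega
  have hαpow : ∀ k : ℕ, α ^ k = 1 ↔ NMinus q D ∣ k := by
    intro k
    rw [hα, ← Units.val_pow_eq_pow_val, Units.val_eq_one, ← pow_mul, ← orderOf_dvd_iff_pow_eq_one,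
      hordζ, hfac, ← hNM]
    have hpos : 0 < q ^ D - 1 := by
      have h2 : 2 ≤ q := by
        by_contra hlt
        have hq1' : q = 1 := by omega
        rw [hq1'] at hF
        have := Fintype.one_lt_card (α := K)
        simp at hF
        omega
      have : 2 ^ D ≤ q ^ D := Nat.pow_le_pow_left h2 D
      have : 2 ≤ 2 ^ D := by
        calc 2 = 2 ^ 1 := by norm_num
          _ ≤ 2 ^ D := Nat.pow_le_pow_right (by norm_num) hD1
      omega
    rw [mul_assoc, Nat.mul_dvd_mul_iff_left hpos,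
      Nat.mul_dvd_mul_iff_left (by omega : 0 < q + 1)]
  have hαunit : τ α * α = 1 := by
    rw [hτ, ← pow_succ, hαpow, ← hNM]
    exact dvd_mul_left _ _
  let B : L →ₛₗ[σ] L →ₗ[K] K :=
    LinearMap.mk₂'ₛₗ σ (RingHom.id K)
      (fun x y => Algebra.trace K L (τ x * y))
      (fun x x' y => by
        simp only [map_add, add_mul])
      (fun c x y => by
        simp only [hτsmul, smul_mul_assoc, map_smul])
      (fun x y y' => by
        simp only [map_add, mul_add])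
      (fun c x y => by
        simp only [mul_smul_comm, map_smul, RingHom.id_apply])
  have hBapp : ∀ x y : L, B x y = Algebra.trace K L (τ x * y) := fun x y => rfl
  have hS : B.IsSymm := by
    constructor
    intro x y
    rw [hBapp, hBapp, htrace, map_mul, hτ2, mul_comm]
  have hBsep : B.SeparatingLeft := by
    intro x hx
    have : τ x = 0 := by
      apply (_root_.traceForm_nondegenerate K L).1
      intro y
      exact hx y
    exact hτinj (by rw [this, map_zero])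
  let T : L →ₗ[K] L := Algebra.lmul K L α
  have hTapp : ∀ x : L, T x = α * x := fun x => rfl
  have hTpow : ∀ (j : ℕ) (x : L), (T ^ j) x = α ^ j * x := by
    intro j
    induction j with
    | zero => intro x; simp
    | succ j ih =>
      intro x
      rw [pow_succ, Module.End.mul_apply, hTapp, ih, pow_succ, mul_assoc]
  have hTisom : ∀ x y, B (T x) (T y) = B x y := by
    intro x y
    rw [hBapp, hBapp, hTapp, hTapp, map_mul τ α x]
    have e1 : τ α * τ x * (α * y) = (τ α * α) * (τ x * y) := by ring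
    rw [e1, hαunit, one_mul]
  have hdetT : LinearMap.det T = 1 := by
    rw [← Algebra.norm_apply]
    set w : K := Algebra.norm K ((ζ : Lˣ) : L) with hw
    have hnα : Algebra.norm K α = w ^ ((q ^ D - 1) * (q + 1)) := by
      rw [hα, Units.val_pow_eq_pow_val, map_pow]
    have hw0 : w ≠ 0 := by
      rw [hw, Ne, Algebra.norm_eq_zero_iff]
      exact Units.ne_zero _
    have hwq : w ^ (q ^ 2 - 1) = 1 := by
      have := FiniteField.pow_card_sub_one_eq_one w hw0
      rwa [hF] at this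
    rw [hnα]
    have hdvd : q ^ 2 - 1 ∣ (q ^ D - 1) * (q + 1) := by
      rw [Cfsg.Agent.S2512.sq_sub_one_factor q hq1]
      apply Nat.mul_dvd_mul_right
      have := Nn_mul q D hq1
      rw [this]
      exact dvd_mul_right _ _
    obtain ⟨t, ht⟩ := hdvd
    rw [ht, pow_mul, hwq, one_pow]
  apply realizeW σ hσne hσ2 D (NMinus q D) L B hS hBsep hfr T hTisom hdetT
  intro j hj
  rw [← hαpow]
  have := congrArg (fun f : L →ₗ[K] L => f 1) hj
  simp only [hTpow] at this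
  simpa using this

end TorusMinus

section IdemU

open Matrix Polynomial

variable {K : Type*} [Field K] {ι : Type*} [Fintype ι] [DecidableEq ι] (σ : K →+* K)

omit [DecidableEq ι] in
theorem aeval_commuteU [DecidableEq ι] (A : Matrix ι ι K) (φ₁ φ₂ : K[X]) :
    aeval A φ₁ * aeval A φ₂ = aeval A φ₂ * aeval A φ₁ := by
  rw [← map_mul, ← map_mul, mul_comm]

/-- the twist of a polynomial -/
noncomputable def tw (ψ φ : K[X]) : K[X] := (φ.map σ).comp ψ

theorem tw_mul (ψ φ₁ φ₂ : K[X]) : tw σ ψ (φ₁ * φ₂) = tw σ ψ φ₁ * tw σ ψ φ₂ := by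
  unfold tw
  rw [Polynomial.map_mul, Polynomial.mul_comp]

theorem tw_pow (ψ φ : K[X]) (e : ℕ) : tw σ ψ (φ ^ e) = tw σ ψ φ ^ e := by
  unfold tw
  rw [Polynomial.map_pow, Polynomial.pow_comp]

theorem tw_C (ψ : K[X]) (c : K) : tw σ ψ (C c) = C (σ c) := by
  unfold tw
  rw [Polynomial.map_C, Polynomial.C_comp]

theorem adjU_aeval_eq (A : Matrix ι ι K) (ψ : K[X]) (hψ : adjU σ A = aeval A ψ) (φ : K[X]) :
    adjU σ (aeval A φ) = aeval A (tw σ ψ φ) := by
  rw [adjU_aeval, hψ, tw, Polynomial.aeval_comp]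

theorem idemU_dichotomy (hσ2 : ∀ a : K, σ (σ a) = a) (A : Matrix ι ι K) (ψ : K[X])
    (hψ : adjU σ A = aeval A ψ)
    (hno : ∀ φ : K[X], aeval A φ * aeval A φ = aeval A φ → adjU σ (aeval A φ) = aeval A φ →
      aeval A φ = 0 ∨ aeval A φ = 1)
    (φ : K[X]) (hPP : aeval A φ * aeval A φ = aeval A φ) (hP0 : aeval A φ ≠ 0)
    (hP1 : aeval A φ ≠ 1) :
    adjU σ (aeval A φ) = 1 - aeval A φ := by
  set P := aeval A φ with hP
  have hP' : adjU σ P = aeval A (tw σ ψ φ) := adjU_aeval_eq σ A ψ hψ φ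
  have hc : P * adjU σ P = adjU σ P * P := by rw [hP', hP]; exact aeval_commuteU A _ _
  have hP'P' : adjU σ P * adjU σ P = adjU σ P := by rw [← adjU_mul, hPP]
  have hQidem : (P * adjU σ P) * (P * adjU σ P) = P * adjU σ P := by
    calc (P * adjU σ P) * (P * adjU σ P) = P * (adjU σ P * P) * adjU σ P := by simp only [mul_assoc]
      _ = P * (P * adjU σ P) * adjU σ P := by rw [hc]
      _ = (P * P) * (adjU σ P * adjU σ P) := by simp only [mul_assoc]
      _ = P * adjU σ P := by rw [hPP, hP'P']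
  have hQadj : adjU σ (P * adjU σ P) = P * adjU σ P := by rw [adjU_mul, adjU_adjU σ hσ2]
  have hQpoly : P * adjU σ P = aeval A (φ * tw σ ψ φ) := by rw [hP', hP, map_mul]
  have hQ : P * adjU σ P = 0 ∨ P * adjU σ P = 1 := by
    rw [hQpoly] at hQidem hQadj ⊢
    exact hno _ hQidem hQadj
  apply Cfsg.Agent.S2512.idem_dichotomy_aux P (adjU σ P) hPP hP'P' hc hP0 hP1 hQ
  intro h0
  have hRpoly : P + adjU σ P = aeval A (φ + tw σ ψ φ) := by rw [hP', hP, map_add]
  have hRidem : (P + adjU σ P) * (P + adjU σ P) = P + adjU σ P := by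
    rw [add_mul, mul_add, mul_add, hPP, hP'P', ← hc, h0, add_zero, zero_add]
  have hRadj : adjU σ (P + adjU σ P) = P + adjU σ P := by
    rw [adjU_add, adjU_adjU σ hσ2, add_comm]
  rw [hRpoly] at hRidem hRadj ⊢
  exact hno _ hRidem hRadj

theorem idemU_core (hσ2 : ∀ a : K, σ (σ a) = a) (A : Matrix ι ι K) (ψ : K[X])
    (hψ : adjU σ A = aeval A ψ)
    (hno : ∀ φ : K[X], aeval A φ * aeval A φ = aeval A φ → adjU σ (aeval A φ) = aeval A φ →
      aeval A φ = 0 ∨ aeval A φ = 1)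
    (φ₁ φ₂ : K[X]) (h₁ : aeval A φ₁ * aeval A φ₁ = aeval A φ₁)
    (h₂ : aeval A φ₂ * aeval A φ₂ = aeval A φ₂)
    (ha₁ : adjU σ (aeval A φ₁) = 1 - aeval A φ₁) (ha₂ : adjU σ (aeval A φ₂) = 1 - aeval A φ₂)
    (hE0 : aeval A φ₁ * aeval A φ₂ ≠ 0) (hE1 : aeval A φ₁ * aeval A φ₂ ≠ 1) :
    aeval A φ₁ = aeval A φ₂ := by
  set P₁ := aeval A φ₁ with hP₁
  set P₂ := aeval A φ₂ with hP₂
  have hc : P₁ * P₂ = P₂ * P₁ := aeval_commuteU A _ _
  have hEpoly : P₁ * P₂ = aeval A (φ₁ * φ₂) := by rw [hP₁, hP₂, map_mul]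
  have hEidem : (P₁ * P₂) * (P₁ * P₂) = P₁ * P₂ := by
    calc (P₁ * P₂) * (P₁ * P₂) = P₁ * (P₂ * P₁) * P₂ := by simp only [mul_assoc]
      _ = P₁ * (P₁ * P₂) * P₂ := by rw [hc]
      _ = (P₁ * P₁) * (P₂ * P₂) := by simp only [mul_assoc]
      _ = P₁ * P₂ := by rw [h₁, h₂]
  have hEadj : adjU σ (P₁ * P₂) = 1 - P₁ * P₂ := by
    rw [hEpoly] at hEidem hE0 hE1 ⊢
    exact idemU_dichotomy σ hσ2 A ψ hψ hno _ hEidem hE0 hE1
  rw [adjU_mul, ha₁, ha₂] at hEadj
  have hkey : P₁ + P₂ = P₁ * P₂ + P₁ * P₂ := by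
    have h3 : (1 - P₂) * (1 - P₁) = 1 - P₁ - P₂ + P₁ * P₂ := by
      rw [sub_mul, mul_sub, mul_sub, one_mul, mul_one, one_mul, ← hc]
      abel
    rw [h3] at hEadj
    have h4 : (1 - P₁ - P₂ + P₁ * P₂) + (P₁ + P₂ + P₁ * P₂) - 1 =
        (1 - P₁ * P₂) + (P₁ + P₂ + P₁ * P₂) - 1 := by
      rw [hEadj]
    have h5 : (1 - P₁ - P₂ + P₁ * P₂) + (P₁ + P₂ + P₁ * P₂) - 1 = P₁ * P₂ + P₁ * P₂ := by abel
    have h6 : (1 - P₁ * P₂) + (P₁ + P₂ + P₁ * P₂) - 1 = P₁ + P₂ := by abel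
    rw [h5, h6] at h4
    exact h4.symm
  have hP₁E : P₁ * (P₁ * P₂) = P₁ * P₂ := by rw [← mul_assoc, h₁]
  have hP₂E : (P₁ * P₂) * P₂ = P₁ * P₂ := by rw [mul_assoc, h₂]
  have e1 : P₁ = P₁ * P₂ := by
    have := congrArg (fun M => P₁ * M) hkey
    simp only [mul_add, h₁, hP₁E] at this
    exact add_right_cancel this
  have e2 : P₂ = P₁ * P₂ := by
    have := congrArg (fun M => M * P₂) hkey
    simp only [add_mul, h₂, hP₂E] at this
    exact add_left_cancel this
  rw [e1]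
  exact e2.symm

theorem idemU_unique (hσ2 : ∀ a : K, σ (σ a) = a) (A : Matrix ι ι K) (ψ : K[X])
    (hψ : adjU σ A = aeval A ψ)
    (hno : ∀ φ : K[X], aeval A φ * aeval A φ = aeval A φ → adjU σ (aeval A φ) = aeval A φ →
      aeval A φ = 0 ∨ aeval A φ = 1)
    (φ₁ φ₂ : K[X]) (h₁ : aeval A φ₁ * aeval A φ₁ = aeval A φ₁)
    (h₂ : aeval A φ₂ * aeval A φ₂ = aeval A φ₂)
    (h₁0 : aeval A φ₁ ≠ 0) (h₁1 : aeval A φ₁ ≠ 1) (h₂0 : aeval A φ₂ ≠ 0) (h₂1 : aeval A φ₂ ≠ 1) :
    aeval A φ₂ = aeval A φ₁ ∨ aeval A φ₂ = 1 - aeval A φ₁ := by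
  have ha₁ := idemU_dichotomy σ hσ2 A ψ hψ hno φ₁ h₁ h₁0 h₁1
  have ha₂ := idemU_dichotomy σ hσ2 A ψ hψ hno φ₂ h₂ h₂0 h₂1
  by_cases hE1 : aeval A φ₁ * aeval A φ₂ = 1
  · exfalso
    apply h₁1
    calc aeval A φ₁ = aeval A φ₁ * 1 := (mul_one _).symm
      _ = aeval A φ₁ * (aeval A φ₁ * aeval A φ₂) := by rw [hE1]
      _ = (aeval A φ₁ * aeval A φ₁) * aeval A φ₂ := by rw [mul_assoc]
      _ = 1 := by rw [h₁, hE1]
  by_cases hE0 : aeval A φ₁ * aeval A φ₂ = 0
  · right
    have h2' : aeval A (1 - φ₂) = 1 - aeval A φ₂ := by rw [map_sub, map_one]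
    have hidem' : aeval A (1 - φ₂) * aeval A (1 - φ₂) = aeval A (1 - φ₂) := by
      rw [h2', sub_mul, mul_sub, mul_sub, one_mul, mul_one, one_mul, h₂]
      abel
    have hadj' : adjU σ (aeval A (1 - φ₂)) = 1 - aeval A (1 - φ₂) := by
      rw [h2', adjU_sub, adjU_one, ha₂]
    have hE' : aeval A φ₁ * aeval A (1 - φ₂) = aeval A φ₁ := by
      rw [h2', mul_sub, mul_one, hE0, sub_zero]
    have := idemU_core σ hσ2 A ψ hψ hno φ₁ (1 - φ₂) h₁ hidem' ha₁ hadj' (by rw [hE']; exact h₁0)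
      (by rw [hE']; exact h₁1)
    rw [h2'] at this
    rw [this]
    abel
  · left
    exact (idemU_core σ hσ2 A ψ hψ hno φ₁ φ₂ h₁ h₂ ha₁ ha₂ hE0 hE1).symm

theorem caseBU_primepow (hσ2 : ∀ a : K, σ (σ a) = a) (M : Matrix ι ι K) (ψ : K[X])
    (hψ : adjU σ M = aeval M ψ)
    (hno : ∀ φ : K[X], aeval M φ * aeval M φ = aeval M φ → adjU σ (aeval M φ) = aeval M φ →
      aeval M φ = 0 ∨ aeval M φ = 1)
    (a b u v : K[X]) (hab : minpoly K M = a * b) (huv : u * a + v * b = 1) (ha : ¬ IsUnit a)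
    (hb : ¬ IsUnit b) :
    ∃ (f : K[X]) (e : ℕ) (u₀ : K[X]), Irreducible f ∧ 1 ≤ e ∧ IsUnit u₀ ∧ a = f ^ e * u₀ := by
  have hμ0 : minpoly K M ≠ 0 := (minpoly.monic (Matrix.isIntegral M)).ne_zero
  have ha0 : a ≠ 0 := by
    rintro rfl
    rw [zero_mul] at hab
    exact hμ0 hab
  rcases Cfsg.Agent.S2510.poly_struct a ha0 ha with ⟨a₁, a₂, ha12, hcop12, ha₁, ha₂⟩ | h
  · exfalso
    have hcopab : IsCoprime a b := ⟨u, v, huv⟩
    have hcop1b : IsCoprime a₁ b := by
      rw [ha12] at hcopab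
      exact hcopab.of_mul_left_left
    have hcop : IsCoprime a₁ (a₂ * b) := hcop12.mul_right hcop1b
    obtain ⟨u₁, v₁, h1⟩ := hcop
    have hab' : minpoly K M = a₁ * (a₂ * b) := by rw [hab, ha12, mul_assoc]
    have ha2b : ¬ IsUnit (a₂ * b) := fun h => hb (isUnit_of_mul_isUnit_right h)
    obtain ⟨hi, hi0, hi1, -⟩ := Cfsg.Agent.S2512.coprime_idem M a b u v hab huv
    obtain ⟨hj, hj0, hj1, -⟩ := Cfsg.Agent.S2512.coprime_idem M a₁ (a₂ * b) u₁ v₁ hab' h1
    rcases idemU_unique σ hσ2 M ψ hψ hno (u * a) (u₁ * a₁) hi hj (hi0 hb) (hi1 ha) (hj0 ha2b)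
      (hj1 ha₁) with h | h
    · have h2 : aeval M (u₁ * a₁ - u * a) = 0 := by rw [map_sub, h, sub_self]
      rw [← minpoly.dvd_iff, hab'] at h2
      have h3 : a₂ ∣ u₁ * a₁ - u * a := dvd_trans ⟨a₁ * b, by ring⟩ h2
      have h4 : a₂ ∣ u₁ * a₁ := by
        have h5 : a₂ ∣ u * a := by rw [ha12]; exact ⟨u * a₁, by ring⟩
        have := dvd_add h3 h5
        rwa [sub_add_cancel] at this
      apply ha₂
      apply isUnit_of_dvd_one
      rw [← h1]
      exact dvd_add h4 ⟨v₁ * b, by ring⟩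
    · have h2 : aeval M (u₁ * a₁ + u * a - 1) = 0 := by
        rw [map_sub, map_add, map_one, h]; abel
      rw [← minpoly.dvd_iff, hab] at h2
      have h3 : b ∣ u₁ * a₁ + u * a - 1 := dvd_trans ⟨a, by ring⟩ h2
      have h4 : u₁ * a₁ + u * a - 1 = u₁ * a₁ - v * b := by
        have : u * a = 1 - v * b := by rw [← huv]; ring
        rw [this]; ring
      rw [h4] at h3
      have h5 : b ∣ u₁ * a₁ := by
        have := dvd_add h3 (⟨v, by ring⟩ : b ∣ v * b)
        rwa [sub_add_cancel] at this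
      apply hb
      apply isUnit_of_dvd_one
      rw [← h1]
      exact dvd_add h5 ⟨v₁ * a₂, by ring⟩
  · exact h

theorem caseBU_order (M : Matrix ι ι K) (hM : adjU σ M * M = 1)
    (a b u v : K[X]) (hab : minpoly K M = a * b) (huv : u * a + v * b = 1)
    (hadj : adjU σ (aeval M (u * a)) = 1 - aeval M (u * a)) (N : ℕ) (c : K) (hc : c * σ c = 1)
    (haN : a ∣ X ^ N - C c) :
    M ^ N = c • (1 : Matrix ι ι K) := by
  set P := aeval M (u * a) with hP
  have h1P : aeval M (v * b) = 1 - P := (Cfsg.Agent.S2512.coprime_idem M a b u v hab huv).2.2.2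
  have hMN : M ^ N - c • (1 : Matrix ι ι K) = aeval M (X ^ N - C c : K[X]) :=
    (Cfsg.Agent.S2510.aeval_pow_sub M N c).symm
  have h1 : (M ^ N - c • (1 : Matrix ι ι K)) * (1 - P) = 0 := by
    rw [← h1P, hMN, ← map_mul, ← minpoly.dvd_iff, hab]
    obtain ⟨w, hw⟩ := haN
    exact ⟨w * v, by rw [hw]; ring⟩
  have h2 := congrArg (adjU σ) h1
  rw [adjU_mul, adjU_sub, adjU_one, hadj, adjU_zero, adjU_sub, adjU_smul, adjU_one, adjU_pow,
    sub_sub_cancel] at h2
  have hcomm : Commute (adjU σ M) M := by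
    rw [Commute, SemiconjBy, hM, mul_adjU_of_unitary σ M hM]
  have hpow : adjU σ M ^ N * M ^ N = 1 := by
    rw [← hcomm.mul_pow, hM, one_pow]
  have hPM : P * M ^ N = M ^ N * P := by
    have e1 : M ^ N = aeval M (X ^ N : K[X]) := by rw [map_pow, aeval_X]
    rw [e1, hP]
    exact aeval_commuteU M _ _
  -- `P (1 - σ c M^N) = 0`
  have h3 : P - σ c • (P * M ^ N) = 0 := by
    have : P * (adjU σ M ^ N - σ c • (1 : Matrix ι ι K)) * M ^ N = P - σ c • (P * M ^ N) := by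
      rw [mul_assoc, sub_mul, hpow, smul_mul_assoc, one_mul, mul_sub, mul_one, mul_smul_comm]
    rw [← this, h2, zero_mul]
  have h4 : P * M ^ N = c • P := by
    have h5 : P = σ c • (P * M ^ N) := sub_eq_zero.1 h3
    have h6 : c • P = (c * σ c) • (P * M ^ N) := by
      rw [mul_smul, ← h5]
    rw [h6, hc, one_smul]
  have h7 : M ^ N - c • (1 : Matrix ι ι K) =
      (M ^ N - c • (1 : Matrix ι ι K)) * (1 - P) + (M ^ N - c • (1 : Matrix ι ι K)) * P := by
    rw [← mul_add, sub_add_cancel, mul_one]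
  have h8 : (M ^ N - c • (1 : Matrix ι ι K)) * P = 0 := by
    rw [sub_mul, ← hPM, h4, smul_mul_assoc, one_mul, sub_self]
  rw [h1, h8, add_zero] at h7
  exact sub_eq_zero.1 h7

end IdemU

section GaloisU

open Polynomial Cfsg.Agent.S2510

variable {K : Type*} [Field K]

theorem norm_root (f : K[X]) (hf : Irreducible f) :
    Algebra.norm K (AdjoinRoot.root f) = (-1) ^ f.natDegree * (f.coeff 0 * f.leadingCoeff⁻¹) := by
  have hf0 : f ≠ 0 := hf.ne_zero
  have h := Algebra.PowerBasis.norm_gen_eq_coeff_zero_minpoly (AdjoinRoot.powerBasis hf0)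
  rw [AdjoinRoot.powerBasis_gen, AdjoinRoot.powerBasis_dim, AdjoinRoot.minpoly_root hf0] at h
  rw [h, coeff_mul_C]

theorem det_eq_coeff {n : ℕ} (M : Matrix (Fin n) (Fin n) K) (hdeg : (minpoly K M).natDegree = n) :
    M.det = (-1) ^ n * (minpoly K M).coeff 0 := by
  have h1 : M.charpoly = minpoly K M := by
    apply Polynomial.eq_of_monic_of_dvd_of_natDegree_le (minpoly.monic (Matrix.isIntegral M))
      (Matrix.charpoly_monic M) (Matrix.minpoly_dvd_charpoly M)
    rw [Matrix.charpoly_natDegree_eq_dim, Fintype.card_fin, hdeg]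
  rw [Matrix.det_eq_sign_charpoly_coeff, Fintype.card_fin, h1]

theorem Nn_odd_mod (q k : ℕ) : ∃ t, Nn q (2 * k + 1) = 1 + (q + 1) * t := by
  induction k with
  | zero => exact ⟨0, by simp [Nn]⟩
  | succ k ih =>
    obtain ⟨t, ht⟩ := ih
    refine ⟨t + q ^ (2 * k + 1), ?_⟩
    have : 2 * (k + 1) + 1 = (2 * k + 1) + 1 + 1 := by ring
    rw [this, Nn, Finset.sum_range_succ, Finset.sum_range_succ, ← Nn, ht]
    ring

theorem Nn_sq_eq (q D : ℕ) (hq : 2 ≤ q) (hD : Odd D) : Nn (q ^ 2) D = Nn q D * NMinus q D := by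
  have hq2 : 1 ≤ q ^ 2 := Nat.one_le_pow _ _ (by omega)
  have h1 := Nn_mul (q ^ 2) D hq2
  have h2 := Nn_mul q D (by omega)
  have h3 := NMinus_mul q D hD
  have h4 := Cfsg.Agent.S2512.sq_sub_one_factor q (by omega)
  have hqD : 1 ≤ q ^ D := Nat.one_le_pow _ _ (by omega)
  have h5 : (q ^ 2) ^ D - 1 = (q ^ D - 1) * (q ^ D + 1) := by
    have : (q ^ 2) ^ D = (q ^ D) ^ 2 := by rw [← pow_mul, ← pow_mul, mul_comm]
    rw [this, Cfsg.Agent.S2512.sq_sub_one_factor _ hqD]
  have hpos : 0 < (q - 1) * (q + 1) := by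
    apply Nat.mul_pos <;> omega
  apply Nat.eq_of_mul_eq_mul_left hpos
  rw [h4] at h1
  rw [← h1, h5, h2, ← h3]
  ring

end GaloisU

section GaloisU2

open Polynomial Cfsg.Agent.S2510

variable {K : Type*} [Field K] [Fintype K] {q : ℕ}

theorem two_le_q (hF : Fintype.card K = q ^ 2) : 2 ≤ q := by
  by_contra hlt
  have h1 := one_le_q hF
  have hq1' : q = 1 := by omega
  rw [hq1'] at hF
  have := Fintype.one_lt_card (α := K)
  omega

theorem pow_q_sq (hF : Fintype.card K = q ^ 2) {L : Type*} [Field L] (y : L)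
    (hy : y ^ (q + 1) = 1) : y ^ (q ^ 2) = y := by
  have hq2 : 2 ≤ q := two_le_q hF
  have h1 : q ^ 2 = (q + 1) * (q - 1) + 1 := by
    have := Cfsg.Agent.S2512.sq_sub_one_factor q (by omega)
    have h2 : 1 ≤ q ^ 2 := Nat.one_le_pow _ _ (by omega)
    rw [mul_comm] at this
    omega
  rw [h1, pow_succ, pow_mul, hy, one_pow, one_mul]

theorem mem_base_of_pow (hF : Fintype.card K = q ^ 2) {L : Type*} [Field L] [Algebra K L] (y : L)
    (hy : y ^ (q + 1) = 1) : ∃ s : K, algebraMap K L s = y := by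
  classical
  have hq2 : 2 ≤ q := two_le_q hF
  have hyq : y ^ (q ^ 2) = y := pow_q_sq hF y hy
  by_contra hne
  push Not at hne
  let S : Finset L := insert y (Finset.univ.image (algebraMap K L))
  have hcard : S.card = q ^ 2 + 1 := by
    rw [Finset.card_insert_of_notMem, Finset.card_image_of_injective _ (algebraMap K L).injective,
      Finset.card_univ, hF]
    intro h
    obtain ⟨s, -, hs⟩ := Finset.mem_image.1 h
    exact hne s hs
  have hq21 : 1 < q ^ 2 := by nlinarith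
  have hP : (X ^ (q ^ 2) - X : L[X]) ≠ 0 := FiniteField.X_pow_card_sub_X_ne_zero L hq21
  have hsub : S.val ⊆ (X ^ (q ^ 2) - X : L[X]).roots := by
    intro z hz
    rw [Finset.mem_val] at hz
    rw [mem_roots hP, IsRoot.def, eval_sub, eval_pow, eval_X, sub_eq_zero]
    rcases Finset.mem_insert.1 hz with rfl | hz
    · exact hyq
    · obtain ⟨s, -, rfl⟩ := Finset.mem_image.1 hz
      rw [← map_pow, ← hF, FiniteField.pow_card]
  have := Polynomial.card_le_degree_of_subset_roots hsub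
  rw [hcard, FiniteField.X_pow_card_sub_X_natDegree_eq L hq21] at this
  omega

theorem root_pow_Nn (f : K[X]) (hf : Irreducible f) :
    (AdjoinRoot.root f) ^ (Nn (Fintype.card K) f.natDegree) =
      algebraMap K (AdjoinRoot f) (Algebra.norm K (AdjoinRoot.root f)) := by
  classical
  have : Fact (Irreducible f) := ⟨hf⟩
  have hf0 : f ≠ 0 := hf.ne_zero
  have hfin : Module.Finite K (AdjoinRoot f) := (AdjoinRoot.powerBasis hf0).finite
  have : Finite (AdjoinRoot f) := Module.finite_of_finite K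
  have hfr : Module.finrank K (AdjoinRoot f) = f.natDegree := by
    rw [PowerBasis.finrank (AdjoinRoot.powerBasis hf0)]
    exact AdjoinRoot.powerBasis_dim hf0
  have h := FiniteField.algebraMap_norm_eq_pow_sum K (AdjoinRoot f) (AdjoinRoot.root f)
  rw [hfr, Nat.card_eq_fintype_card] at h
  rw [Nn]
  exact h.symm

theorem irr_recipU (hF : Fintype.card K = q ^ 2) (p a : ℕ) [Fact p.Prime] [CharP K p]
    (hq : q = p ^ a) (σ : K →+* K) (hσ : ∀ x, σ x = x ^ q) (hσ2 : ∀ a : K, σ (σ a) = a)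
    (f : K[X]) (hf : Irreducible f)
    (o : ℕ) (ho : 1 ≤ o) (hfo : f ∣ X ^ o - 1)
    (hcomp : f ∣ (f.map σ).comp (X ^ (o - 1))) :
    Odd f.natDegree ∧ f ∣ X ^ (q ^ f.natDegree + 1) - 1 := by
  classical
  have : Fact (Irreducible f) := ⟨hf⟩
  have hf0 : f ≠ 0 := hf.ne_zero
  have hfin : Module.Finite K (AdjoinRoot f) := (AdjoinRoot.powerBasis hf0).finite
  have : Finite (AdjoinRoot f) := Module.finite_of_finite K
  have : Fintype (AdjoinRoot f) := Fintype.ofFinite _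
  set D := f.natDegree with hDdef
  have hD1 : 1 ≤ D := hf.natDegree_pos
  have hq2 : 2 ≤ q := two_le_q hF
  set α : AdjoinRoot f := AdjoinRoot.root f with hα
  haveI : CharP (AdjoinRoot f) p :=
    charP_of_injective_algebraMap (algebraMap K (AdjoinRoot f)).injective p
  haveI : ExpChar (AdjoinRoot f) p := ExpChar.prime Fact.out
  have hαo : α ^ o = 1 := by
    have := AdjoinRoot.mk_eq_zero.2 hfo
    rw [map_sub, map_pow, AdjoinRoot.mk_X, map_one, sub_eq_zero] at this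
    exact this
  set β : AdjoinRoot f := α ^ (o - 1) with hβ
  have hαβ : α * β = 1 := by
    rw [hβ, ← pow_succ', Nat.sub_add_cancel ho, hαo]
  have hα0 : α ≠ 0 := left_ne_zero_of_mul_eq_one hαβ
  have hβinv : β = α⁻¹ := eq_inv_of_mul_eq_one_right hαβ
  have hfβ : aeval β (f.map σ) = 0 := by
    have h1 := AdjoinRoot.mk_eq_zero.2 hcomp
    rw [← AdjoinRoot.aeval_eq, Polynomial.aeval_comp, map_pow, aeval_X] at h1
    exact h1
  let φ : AdjoinRoot f →+* AdjoinRoot f := iterateFrobenius (AdjoinRoot f) p a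
  have hφ : ∀ x : AdjoinRoot f, φ x = x ^ q := by
    intro x
    rw [hq]
    exact iterateFrobenius_def p a x
  have hφinj : Function.Injective φ := φ.injective
  have hφalg : φ.comp (algebraMap K (AdjoinRoot f)) = (algebraMap K (AdjoinRoot f)).comp σ := by
    ext c
    simp only [RingHom.comp_apply]
    rw [hφ, hσ, map_pow]
  set γ : AdjoinRoot f := φ β with hγ
  have hfγ : aeval γ f = 0 := by
    have h1 := congrArg φ hfβ
    rw [map_zero, Polynomial.aeval_def, Polynomial.hom_eval₂, hφalg, ← Polynomial.eval₂_map,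
      Polynomial.map_map] at h1
    have h2 : σ.comp σ = RingHom.id K := RingHom.ext hσ2
    rw [h2, Polynomial.map_id] at h1
    rw [Polynomial.aeval_def]
    exact h1
  let τ₀ : AdjoinRoot f →ₐ[K] AdjoinRoot f :=
    AdjoinRoot.liftAlgHom f (Algebra.ofId K (AdjoinRoot f)) γ (by
      have : eval₂ (algebraMap K (AdjoinRoot f)) γ f = 0 := by
        rw [← Polynomial.aeval_def]; exact hfγ
      exact this)
  have hτ₀α : τ₀ α = γ := AdjoinRoot.liftAlgHom_root f _ γ _
  let τ : AdjoinRoot f ≃ₐ[K] AdjoinRoot f := AlgEquiv.ofBijective τ₀ (AlgHom.bijective τ₀)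
  obtain ⟨i, hi⟩ := FiniteField.exists_forall_apply_eq_pow K p (AdjoinRoot f) τ
  rw [Nat.card_eq_fintype_card, hF] at hi
  have hi' : γ = α ^ ((q ^ 2) ^ i) := by
    rw [← hi α]
    exact hτ₀α.symm
  have hcard : Fintype.card (AdjoinRoot f) = (q ^ 2) ^ D := by
    rw [Cfsg.Agent.S2512.card_adjoinRoot f hf, hF]
  have hpowd : ∀ y : AdjoinRoot f, y ^ ((q ^ 2) ^ D) = y := by
    intro y
    have := FiniteField.pow_card y
    rw [hcard] at this
    exact this
  have hpowdt : ∀ (t : ℕ) (y : AdjoinRoot f), y ^ ((q ^ 2) ^ (D * t)) = y := by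
    intro t
    induction t with
    | zero => intro y; simp
    | succ t ih =>
      intro y
      rw [Nat.mul_succ, pow_add, pow_mul, ih, hpowd]
  set i₀ := i % D with hi₀
  have hi₀lt : i₀ < D := Nat.mod_lt _ (by omega)
  have hγq : γ = (α⁻¹) ^ q := by rw [hγ, hφ, hβinv]
  have hR : α ^ ((q ^ 2) ^ i₀) = (α⁻¹) ^ q := by
    rw [← hγq, hi']
    have h1 : i = D * (i / D) + i₀ := (Nat.div_add_mod i D).symm
    conv_rhs => rw [h1, pow_add, pow_mul, hpowdt]
  have hfin1 : ∀ m : ℕ, α ^ (q ^ m + 1) = 1 → f ∣ X ^ (q ^ m + 1) - 1 := by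
    intro m hm
    rw [← AdjoinRoot.mk_eq_zero, map_sub, map_pow, AdjoinRoot.mk_X, map_one, ← hα, hm, sub_self]
  rcases Nat.eq_zero_or_pos i₀ with h0 | hpos
  · -- `i₀ = 0`
    rw [h0, pow_zero, pow_one] at hR
    have h1 : α ^ (q + 1) = 1 := by
      rw [pow_succ']
      nth_rw 1 [hR]
      rw [← mul_pow, inv_mul_cancel₀ hα0, one_pow]
    have h2 : α ^ (q ^ 2) = α := pow_q_sq hF α h1
    have hdvd : f ∣ X ^ (Nat.card K) ^ 1 - X := by
      rw [Nat.card_eq_fintype_card, hF, pow_one, ← AdjoinRoot.mk_eq_zero, map_sub, map_pow,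
        AdjoinRoot.mk_X, ← hα, h2, sub_self]
    have hd1 : D ∣ 1 := hf.natDegree_dvd_of_dvd_X_pow_card_pow_sub_X hdvd
    have hD : D = 1 := Nat.dvd_one.1 hd1
    refine ⟨by rw [hD]; exact odd_one, ?_⟩
    apply hfin1
    rw [hD, pow_one]
    exact h1
  · obtain ⟨j, hj⟩ : ∃ j, i₀ = j + 1 := ⟨i₀ - 1, by omega⟩
    have hφφ : ∀ y : AdjoinRoot f, φ (φ y) = y ^ (q ^ 2) := by
      intro y
      rw [hφ, hφ, ← pow_mul, ← pow_two]
    have h2i : α ^ ((q ^ 2) ^ (2 * i₀)) = α ^ (q ^ 2) := by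
      have e1 : (q ^ 2) ^ (2 * i₀) = (q ^ 2) ^ i₀ * (q ^ 2) ^ i₀ := by rw [two_mul, pow_add]
      rw [e1]
      generalize (q ^ 2) ^ i₀ = E at hR ⊢
      calc α ^ (E * E) = (α ^ E) ^ E := pow_mul _ _ _
        _ = ((α⁻¹) ^ q) ^ E := by rw [hR]
        _ = ((α ^ E)⁻¹) ^ q := by rw [← inv_pow α E, ← pow_mul, ← pow_mul, mul_comm]
        _ = (((α⁻¹) ^ q)⁻¹) ^ q := by rw [hR]
        _ = α ^ (q ^ 2) := by rw [inv_pow α q, inv_inv, ← pow_mul, ← pow_two]
    have h3 : α ^ ((q ^ 2) ^ (2 * j + 1)) = α := by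
      have e : 2 * i₀ = (2 * j + 1) + 1 := by omega
      rw [e, pow_succ, pow_mul] at h2i
      have h4 : φ (φ (α ^ ((q ^ 2) ^ (2 * j + 1)))) = φ (φ α) := by
        rw [hφφ, hφφ]
        exact h2i
      exact hφinj (hφinj h4)
    have hdvd : f ∣ X ^ (Nat.card K) ^ (2 * j + 1) - X := by
      rw [Nat.card_eq_fintype_card, hF, ← AdjoinRoot.mk_eq_zero, map_sub, map_pow,
        AdjoinRoot.mk_X, ← hα, h3, sub_self]
    have hd2 : D ∣ 2 * j + 1 := hf.natDegree_dvd_of_dvd_X_pow_card_pow_sub_X hdvd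
    obtain ⟨s, hs⟩ := hd2
    have hs1 : s = 1 := by
      rcases s with _ | _ | s
      · omega
      · rfl
      · exfalso
        have : D * (s + 1 + 1) = D * s + 2 * D := by ring
        rw [this] at hs
        have h3 : 0 ≤ D * s := Nat.zero_le _
        omega
    rw [hs1, mul_one] at hs
    have hDodd : Odd D := ⟨j, by omega⟩
    refine ⟨hDodd, ?_⟩
    apply hfin1
    -- `α^(q^D) = α⁻¹`
    have h5 : (q ^ 2) ^ i₀ = q ^ D * q := by
      rw [← pow_mul, ← pow_succ]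
      congr 1
      omega
    rw [h5, pow_mul] at hR
    have h6 : φ (α ^ (q ^ D)) = φ (α⁻¹) := by
      rw [hφ, hφ]
      exact hR
    have h7 := hφinj h6
    rw [pow_succ, h7, inv_mul_cancel₀ hα0]

end GaloisU2

section Cox0

open Polynomial Cfsg.Agent.S2510

variable {K : Type*} [Field K]

theorem dvd_reverse_of_dvd_comp (b h : K[X]) (o : ℕ) (ho : 1 ≤ o) (hbo : b ∣ X ^ o - 1)
    (hcomp : b ∣ h.comp (X ^ (o - 1))) : b ∣ h.reverse := by
  set ρ : AdjoinRoot b := AdjoinRoot.root b with hρ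
  have hρo : ρ ^ o = 1 := by
    have := AdjoinRoot.mk_eq_zero.2 hbo
    rw [map_sub, map_pow, AdjoinRoot.mk_X, map_one, sub_eq_zero] at this
    exact this
  have h1 : ρ ^ (o - 1) * ρ = 1 := by rw [← pow_succ, Nat.sub_add_cancel ho, hρo]
  have h2 : ρ * ρ ^ (o - 1) = 1 := by rw [mul_comm]; exact h1
  letI : Invertible (ρ ^ (o - 1)) := ⟨ρ, h2, h1⟩
  have h3 : eval₂ (AdjoinRoot.of b) (ρ ^ (o - 1)) h = 0 := by
    have := AdjoinRoot.mk_eq_zero.2 hcomp
    rw [← AdjoinRoot.aeval_eq, aeval_comp, map_pow, aeval_X, aeval_def] at this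
    exact this
  have h4 := (eval₂_reverse_eq_zero_iff (AdjoinRoot.of b) (ρ ^ (o - 1)) h).2 h3
  rw [← AdjoinRoot.mk_eq_zero, ← AdjoinRoot.aeval_eq, aeval_def]
  exact h4

theorem ratio_unit (f u : K[X]) (hu : IsUnit u) :
    (f * u).coeff 0 * (f * u).leadingCoeff⁻¹ = f.coeff 0 * f.leadingCoeff⁻¹ := by
  obtain ⟨k, hk, rfl⟩ := Polynomial.isUnit_iff.1 hu
  have hk0 : k ≠ 0 := hk.ne_zero
  rw [mul_coeff_zero, coeff_C_zero, leadingCoeff_mul, leadingCoeff_C, mul_inv]
  field_simp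

end Cox0

section Cox

open Polynomial Cfsg.Agent.S2510 Matrix

variable {K : Type*} [Field K] [Fintype K] {q : ℕ}

theorem root_scalar (hF : Fintype.card K = q ^ 2) (f : K[X]) (hf : Irreducible f) (N : ℕ)
    (hN : (AdjoinRoot.root f) ^ N = 1) :
    ∃ s : K, s ^ (q + 1) = 1 ∧ f ∣ X ^ (N / Nat.gcd N (q + 1)) - C s := by
  have : Fact (Irreducible f) := ⟨hf⟩
  set g := Nat.gcd N (q + 1) with hgdef
  have hg : N / g * g = N := Nat.div_mul_cancel (Nat.gcd_dvd_left _ _)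
  set y := (AdjoinRoot.root f) ^ (N / g) with hy'
  have hyg : y ^ g = 1 := by rw [hy', ← pow_mul, hg, hN]
  have hy : y ^ (q + 1) = 1 := by
    obtain ⟨t, ht⟩ := Nat.gcd_dvd_right N (q + 1)
    rw [ht, pow_mul, ← hgdef, hyg, one_pow]
  obtain ⟨s, hs⟩ := mem_base_of_pow hF y hy
  refine ⟨s, ?_, ?_⟩
  · apply (algebraMap K (AdjoinRoot f)).injective
    rw [map_pow, hs, hy, map_one]
  · rw [← AdjoinRoot.mk_eq_zero, map_sub, map_pow, AdjoinRoot.mk_X, AdjoinRoot.mk_C,
      ← AdjoinRoot.algebraMap_eq, hs, sub_self]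

theorem cox_odd (hF : Fintype.card K = q ^ 2) (n : ℕ) (M : Matrix (Fin n) (Fin n) K)
    (hdet : M.det = 1)
    (f u : K[X]) (hf : Irreducible f) (hu : IsUnit u) (hμ : minpoly K M = f * u)
    (hdeg : f.natDegree = n) (hodd : Odd n) (hfq : f ∣ X ^ (q ^ n + 1) - 1) :
    ∃ s : K, M ^ (NMinus q n / Nat.gcd (NMinus q n) (q + 1)) =
      s • (1 : Matrix (Fin n) (Fin n) K) := by
  have hq2 := two_le_q hF
  have : Fact (Irreducible f) := ⟨hf⟩
  set α := AdjoinRoot.root f with hα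
  have hmonic : (minpoly K M).Monic := minpoly.monic (Matrix.isIntegral M)
  have hdegμ : (minpoly K M).natDegree = n := by
    rw [hμ, natDegree_mul hf.ne_zero hu.ne_zero, natDegree_eq_zero_of_isUnit hu, add_zero, hdeg]
  have h1 := det_eq_coeff M hdegμ
  have h2 : (minpoly K M).coeff 0 = f.coeff 0 * f.leadingCoeff⁻¹ := by
    have := ratio_unit f u hu
    rw [← hμ, hmonic.leadingCoeff, inv_one, mul_one] at this
    exact this
  have hnorm : Algebra.norm K α = 1 := by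
    rw [hα, norm_root f hf, hdeg, ← h2, ← h1, hdet]
  have h3 : α ^ (Nn (q ^ 2) n) = 1 := by
    have := root_pow_Nn f hf
    rw [hF, hdeg, ← hα, hnorm, map_one] at this
    exact this
  have h4 : α ^ (q ^ n + 1) = 1 := by
    have := AdjoinRoot.mk_eq_zero.2 hfq
    rw [map_sub, map_pow, AdjoinRoot.mk_X, map_one, sub_eq_zero] at this
    exact this
  set z := α ^ (NMinus q n) with hz
  have hz1 : z ^ (q + 1) = 1 := by
    rw [hz, ← pow_mul, mul_comm, NMinus_mul q n hodd, h4]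
  have hz2 : z ^ (Nn q n) = 1 := by
    rw [hz, ← pow_mul, mul_comm, ← Nn_sq_eq q n hq2 hodd, h3]
  have hz3 : z = 1 := by
    obtain ⟨k, hk⟩ := hodd
    obtain ⟨t, ht⟩ := Nn_odd_mod q k
    have hz2' : z ^ (Nn q (2 * k + 1)) = 1 := by rw [← hk]; exact hz2
    rw [ht, pow_add, pow_one, pow_mul, hz1, one_pow, mul_one] at hz2'
    exact hz2'
  obtain ⟨s, -, hs⟩ := root_scalar hF f hf (NMinus q n) hz3
  refine ⟨s, ?_⟩
  rw [pow_eq_smul_iff, ← minpoly.dvd_iff, hμ]
  exact (IsUnit.mul_right_dvd hu).2 hs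

theorem cox_even (hF : Fintype.card K = q ^ 2) (σ : K →+* K) (hσ : ∀ x, σ x = x ^ q)
    (n d : ℕ) (hn : n = 2 * d) (M : Matrix (Fin n) (Fin n) K)
    (hM : adjU σ M * M = 1) (hdet : M.det = 1) (o : ℕ) (ho : 1 ≤ o) (hMo : M ^ o = 1)
    (a b u v : K[X]) (hab : minpoly K M = a * b) (huv : u * a + v * b = 1)
    (hadj : adjU σ (aeval M (u * a)) = 1 - aeval M (u * a))
    (f u₀ : K[X]) (hf : Irreducible f) (hu₀ : IsUnit u₀) (ha : a = f * u₀)
    (hdf : f.natDegree = d) (hdb : b.natDegree = d) :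
    ∃ s : K, M ^ (NPlus q d / Nat.gcd (NPlus q d) (q + 1)) =
      s • (1 : Matrix (Fin n) (Fin n) K) := by
  classical
  have hq2 := two_le_q hF
  have : Fact (Irreducible f) := ⟨hf⟩
  have hmonic : (minpoly K M).Monic := minpoly.monic (Matrix.isIntegral M)
  have hμ0 : minpoly K M ≠ 0 := hmonic.ne_zero
  have ha0 : a ≠ 0 := by
    rintro rfl
    rw [zero_mul] at hab
    exact hμ0 hab
  have hb0 : b ≠ 0 := by
    rintro rfl
    rw [mul_zero] at hab
    exact hμ0 hab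
  set ψ : K[X] := X ^ (o - 1) with hψdef
  have hψ : adjU σ M = aeval M ψ := by
    rw [hψdef, map_pow, aeval_X]
    have h2 : M * M ^ (o - 1) = 1 := by rw [← pow_succ', Nat.sub_add_cancel ho, hMo]
    calc adjU σ M = adjU σ M * (M * M ^ (o - 1)) := by rw [h2, mul_one]
      _ = (adjU σ M * M) * M ^ (o - 1) := by rw [mul_assoc]
      _ = M ^ (o - 1) := by rw [hM, one_mul]
  have hμo : minpoly K M ∣ X ^ o - 1 := by
    rw [minpoly.dvd_iff, map_sub, map_pow, aeval_X, map_one, hMo, sub_self]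
  have hbo : b ∣ X ^ o - 1 := dvd_trans (Dvd.intro_left a hab.symm) hμo
  have hao : a ∣ X ^ o - 1 := dvd_trans (Dvd.intro b hab.symm) hμo
  set P := aeval M (u * a) with hP
  have h1P : aeval M (v * b) = 1 - P := (Cfsg.Agent.S2512.coprime_idem M a b u v hab huv).2.2.2
  -- step 1
  have hs1 : aeval M a * (1 - P) = 0 := by
    rw [← h1P, ← map_mul, ← minpoly.dvd_iff, hab]
    exact ⟨v, by ring⟩
  have hs2 := congrArg (adjU σ) hs1
  rw [adjU_mul, adjU_sub, adjU_one, hadj, sub_sub_cancel, adjU_zero, adjU_aeval_eq σ M ψ hψ a, hP,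
    ← map_mul, ← minpoly.dvd_iff, hab] at hs2
  have hbtw : b ∣ tw σ ψ a := by
    have h5 : a * b ∣ a * (u * tw σ ψ a) := by
      have e : a * (u * tw σ ψ a) = u * a * tw σ ψ a := by ring
      rw [e]
      exact hs2
    have h6 : b ∣ u * tw σ ψ a := (mul_dvd_mul_iff_left ha0).1 h5
    have hcop : IsCoprime b u := ⟨v, a, by rw [← huv]; ring⟩
    exact hcop.dvd_of_dvd_mul_left h6
  -- step 2
  set h := a.map σ with hh
  have hbrev : b ∣ h.reverse := dvd_reverse_of_dvd_comp b h o ho hbo hbtw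
  -- step 3
  have hA0 : a.coeff 0 ≠ 0 := by
    intro h0
    obtain ⟨w, hw⟩ := hao
    have := congrArg (fun g : K[X] => g.coeff 0) hw
    simp only [mul_coeff_zero, h0, zero_mul, coeff_sub, coeff_X_pow, coeff_one_zero] at this
    rw [if_neg (by omega)] at this
    simp at this
  have hh0 : h.coeff 0 = σ (a.coeff 0) := by rw [hh, coeff_map]
  have hh0ne : h.coeff 0 ≠ 0 := by
    rw [hh0]
    exact (map_ne_zero σ).2 hA0
  have hhne : h ≠ 0 := by
    intro h0
    rw [h0, coeff_zero] at hh0ne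
    exact hh0ne rfl
  have hdega : a.natDegree = d := by
    rw [ha, natDegree_mul hf.ne_zero hu₀.ne_zero, natDegree_eq_zero_of_isUnit hu₀, add_zero, hdf]
  have hhdeg : h.natDegree = d := by rw [hh, natDegree_map, hdega]
  have hhlc : h.leadingCoeff = σ a.leadingCoeff := by rw [hh, leadingCoeff_map]
  have hrevdeg : h.reverse.natDegree = d := by
    rw [reverse_natDegree, natTrailingDegree_eq_zero.2 (Or.inr hh0ne), Nat.sub_zero, hhdeg]
  have hrev0 : h.reverse ≠ 0 := by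
    rw [Ne, reverse_eq_zero]
    exact hhne
  obtain ⟨w, hw⟩ := hbrev
  have hw0 : w ≠ 0 := by
    rintro rfl
    rw [mul_zero] at hw
    exact hrev0 hw
  have hwdeg : w.natDegree = 0 := by
    have := congrArg natDegree hw
    rw [natDegree_mul hb0 hw0, hrevdeg, hdb] at this
    omega
  obtain ⟨k, hk⟩ : ∃ k, w = C k := ⟨w.coeff 0, eq_C_of_natDegree_eq_zero hwdeg⟩
  have hk0 : k ≠ 0 := by
    rintro rfl
    rw [map_zero] at hk
    exact hw0 hk
  have hc0 : σ a.leadingCoeff = b.coeff 0 * k := by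
    rw [← hhlc, ← coeff_zero_reverse, hw, hk, mul_coeff_zero, coeff_C_zero]
  have hc1 : σ (a.coeff 0) = b.leadingCoeff * k := by
    rw [← hh0, ← trailingCoeff_eq_coeff_zero hh0ne, ← reverse_leadingCoeff, hw, hk,
      leadingCoeff_mul, leadingCoeff_C]
  have hlc : a.leadingCoeff * b.leadingCoeff = 1 := by
    rw [← leadingCoeff_mul, ← hab]
    exact hmonic.leadingCoeff
  have hdegμ : (minpoly K M).natDegree = n := by
    rw [hab, natDegree_mul ha0 hb0, hdega, hdb, hn, two_mul]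
  have hcz : a.coeff 0 * b.coeff 0 = 1 := by
    have h1 := det_eq_coeff M hdegμ
    have hpow : (-1 : K) ^ n = 1 := by rw [hn, pow_mul, neg_one_sq, one_pow]
    rw [hdet, hpow, one_mul, hab, mul_coeff_zero] at h1
    exact h1.symm
  set t := a.coeff 0 * a.leadingCoeff⁻¹ with ht
  have hlca : a.leadingCoeff ≠ 0 := leadingCoeff_ne_zero.2 ha0
  have hσt : σ t = t := by
    have hB1 : b.leadingCoeff = a.leadingCoeff⁻¹ := eq_inv_of_mul_eq_one_right hlc
    have hB0 : b.coeff 0 = (a.coeff 0)⁻¹ := eq_inv_of_mul_eq_one_right hcz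
    rw [ht, map_mul, map_inv₀, hc0, hc1, hB1, hB0]
    field_simp
  have ht0 : t ≠ 0 := mul_ne_zero hA0 (inv_ne_zero hlca)
  -- step 4
  set α := AdjoinRoot.root f with hα
  set c₀ := Algebra.norm K α with hc₀
  have hc₀t : c₀ = (-1) ^ d * t := by
    rw [hc₀, hα, norm_root f hf, hdf, ht, ha, ratio_unit f u₀ hu₀]
  have hσc₀ : σ c₀ = c₀ := by
    rw [hc₀t, map_mul, map_pow, map_neg, map_one, hσt]
  have hc₀0 : c₀ ≠ 0 := by
    rw [hc₀t]
    exact mul_ne_zero (pow_ne_zero _ (neg_ne_zero.2 one_ne_zero)) ht0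
  have hc₀q : c₀ ^ (q - 1) = 1 := by
    have h1 : c₀ ^ q = c₀ := by rw [← hσ, hσc₀]
    have h2 : c₀ ^ (q - 1) * c₀ = 1 * c₀ := by
      rw [← pow_succ, Nat.sub_add_cancel (by omega), h1, one_mul]
    exact mul_right_cancel₀ hc₀0 h2
  have hαN : α ^ (NPlus q d) = 1 := by
    have h1 := root_pow_Nn f hf
    rw [hF, hdf, ← hα, ← hc₀] at h1
    rw [NPlus, pow_mul, h1, ← map_pow, hc₀q, map_one]
  -- step 5
  obtain ⟨s, hs1', hs⟩ := root_scalar hF f hf (NPlus q d) hαN
  refine ⟨s, ?_⟩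
  apply caseBU_order σ M hM a b u v hab huv hadj _ s
  · rw [hσ, ← pow_succ']
    exact hs1'
  · rw [ha]
    exact (IsUnit.mul_right_dvd hu₀).2 hs

end Cox

section Fresh

open Matrix Polynomial Cfsg.Agent.S2510

variable {K : Type*} [Field K] [Fintype K] {q : ℕ}

/-- the order of the Coxeter torus of `SU_n(q)` -/
def NU (q n : ℕ) : ℕ := if Even n then NPlus q (n / 2) else NMinus q n

/-- the order of the image in `PSU_n(q)` of the Coxeter torus -/
def c1U (q n : ℕ) : ℕ := NU q n / Nat.gcd (NU q n) (q + 1)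

theorem sblock_any (p : ℕ) [Fact p.Prime] [CharP K p] (σ : K →+* K)
    (hσne : σ ≠ RingHom.id K) (hσ2 : ∀ a : K, σ (σ a) = a) (Kx dS : ℕ) (hdS : 1 ≤ dS)
    (h : 1 ≤ Kx → p ^ (Kx - 1) + 1 ≤ dS) : SBlock σ dS (p ^ Kx) := by
  rcases Nat.eq_zero_or_pos Kx with h0 | hpos
  · rw [h0, pow_zero]
    exact sblock_one σ dS hdS
  · have h1 := h hpos
    have e : (p ^ (Kx - 1) + 1) + (dS - (p ^ (Kx - 1) + 1)) = dS := by omega
    rw [← e]
    exact sblock_pad σ _ _ _ (sblock_unip p σ hσne hσ2 Kx hpos)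

theorem fresh (hF : Fintype.card K = q ^ 2) (p : ℕ) [Fact p.Prime] [CharP K p] (σ : K →+* K)
    (hσ : ∀ x, σ x = x ^ q) (hσne : σ ≠ RingHom.id K) (hσ2 : ∀ a : K, σ (σ a) = a)
    (n r : ℕ) (hr : r.Prime) (hrq : r ∣ q + 1) (hrn : ¬ r ∣ n)
    (dW NW Kx x : ℕ) (hdW : 1 ≤ dW) (hW : WBlock σ dW NW) (hdS : dW + 1 ≤ n)
    (hS : 1 ≤ Kx → p ^ (Kx - 1) + 1 + dW ≤ n) (hcop : Nat.Coprime NW p)
    (hx : x ∣ NW * p ^ Kx) : ∃ g : PSU n K q, Nat.lcm x r ∣ orderOf g := by
  have hSb : SBlock σ (n - dW) (p ^ Kx) :=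
    sblock_any p σ hσne hσ2 Kx (n - dW) (by omega) (by intro h; have := hS h; omega)
  obtain ⟨g, hg⟩ := absorb_blocks hF σ hσ (n - dW) dW (p ^ Kx) NW n (by omega) hdW (by omega)
    r hr hrq hrn hSb hW
  refine ⟨g, dvd_trans ?_ hg⟩
  have hmul : NW * p ^ Kx ∣ Nat.lcm (p ^ Kx) NW :=
    (hcop.pow_right Kx).mul_dvd_of_dvd_of_dvd (Nat.dvd_lcm_right _ _) (Nat.dvd_lcm_left _ _)
  exact Nat.lcm_dvd (dvd_trans (dvd_trans hx hmul) (Nat.dvd_lcm_left _ _)) (Nat.dvd_lcm_right _ _)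

omit [Fintype K] in
theorem minpoly_natDegree_le_fin (n : ℕ) (M : Matrix (Fin n) (Fin n) K) :
    (minpoly K M).natDegree ≤ n := by
  have h1 := natDegree_le_of_dvd (Matrix.minpoly_dvd_charpoly M) (Matrix.charpoly_monic M).ne_zero
  rw [Matrix.charpoly_natDegree_eq_dim, Fintype.card_fin] at h1
  exact h1

omit [Fintype K] in
theorem adjU_eq_pow {ι : Type*} [Fintype ι] [DecidableEq ι] (σ : K →+* K) (M : Matrix ι ι K)
    (hM : adjU σ M * M = 1) (o : ℕ) (ho : 1 ≤ o) (hMo : M ^ o = 1) :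
    adjU σ M = aeval M (X ^ (o - 1) : K[X]) := by
  rw [map_pow, aeval_X]
  have h2 : M * M ^ (o - 1) = 1 := by rw [← pow_succ', Nat.sub_add_cancel ho, hMo]
  calc adjU σ M = adjU σ M * (M * M ^ (o - 1)) := by rw [h2, mul_one]
    _ = (adjU σ M * M) * M ^ (o - 1) := by rw [mul_assoc]
    _ = M ^ (o - 1) := by rw [hM, one_mul]

theorem p_dvd_q (hF : Fintype.card K = q ^ 2) (p a : ℕ) (hq : q = p ^ a) : p ∣ q := by
  have hq2 := two_le_q hF
  rcases Nat.eq_zero_or_pos a with h0 | hpos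
  · rw [h0, pow_zero] at hq
    omega
  · rw [hq]
    exact dvd_pow_self p (by omega)

theorem case2a (hF : Fintype.card K = q ^ 2) (p a : ℕ) [Fact p.Prime] [CharP K p] (hq : q = p ^ a)
    (σ : K →+* K) (hσ : ∀ x, σ x = x ^ q) (hσne : σ ≠ RingHom.id K) (hσ2 : ∀ a : K, σ (σ a) = a)
    (n : ℕ) (r : ℕ) (hr : r.Prime) (hrq : r ∣ q + 1) (hrn : ¬ r ∣ n)
    (M : Matrix (Fin n) (Fin n) K) (hM : adjU σ M * M = 1) (hdet : M.det = 1) (o : ℕ) (ho : 1 ≤ o)
    (hMo : M ^ o = 1) (x : ℕ)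
    (hx : ∀ (j : ℕ) (c : K), M ^ j = c • (1 : Matrix (Fin n) (Fin n) K) → x ∣ j)
    (hno : ∀ φ : K[X], aeval M φ * aeval M φ = aeval M φ → adjU σ (aeval M φ) = aeval M φ →
      aeval M φ = 0 ∨ aeval M φ = 1)
    (a' b u v : K[X]) (hab : minpoly K M = a' * b) (huv : u * a' + v * b = 1)
    (ha : ¬ IsUnit a') (hb : ¬ IsUnit b) (hdeg : a'.natDegree ≤ b.natDegree) :
    (∃ g : PSU n K q, Nat.lcm x r ∣ orderOf g) ∨
      ∃ c : K, M ^ (c1U q n) = c • (1 : Matrix (Fin n) (Fin n) K) := by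
  classical
  have hp : p.Prime := Fact.out
  have hq2 := two_le_q hF
  have hq1 : 1 ≤ q := by omega
  have hψ := adjU_eq_pow σ M hM o ho hMo
  obtain ⟨hi, hi0, hi1, -⟩ := Cfsg.Agent.S2512.coprime_idem M a' b u v hab huv
  have hadj := idemU_dichotomy σ hσ2 M _ hψ hno (u * a') hi (hi0 hb) (hi1 ha)
  obtain ⟨f, e, u₀, hf, he, hu₀, hafe⟩ := caseBU_primepow σ hσ2 M _ hψ hno a' b u v hab huv ha hb
  have hμ0 : minpoly K M ≠ 0 := (minpoly.monic (Matrix.isIntegral M)).ne_zero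
  have ha0 : a' ≠ 0 := by
    rintro rfl
    rw [zero_mul] at hab
    exact hμ0 hab
  have hb0 : b ≠ 0 := by
    rintro rfl
    rw [mul_zero] at hab
    exact hμ0 hab
  set d := f.natDegree with hddef
  have hd1 : 1 ≤ d := hf.natDegree_pos
  have hdega : a'.natDegree = e * d := by
    rw [hafe, natDegree_mul (pow_ne_zero _ hf.ne_zero) hu₀.ne_zero, natDegree_pow,
      natDegree_eq_zero_of_isUnit hu₀, add_zero]
  have hle := minpoly_natDegree_le_fin n M
  rw [hab, natDegree_mul ha0 hb0] at hle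
  have hde : 2 * (e * d) ≤ n := by omega
  have hμo : minpoly K M ∣ X ^ o - 1 := by
    rw [minpoly.dvd_iff, map_sub, map_pow, aeval_X, map_one, hMo, sub_self]
  have hfa : f ∣ a' := by
    rw [hafe]
    exact dvd_mul_of_dvd_left (dvd_pow_self f (by omega)) _
  have hfX : ¬ f ∣ X := by
    intro h
    have h1 : f ∣ X ^ o - 1 := dvd_trans hfa (dvd_trans ⟨b, hab⟩ hμo)
    have h2 : f ∣ X ^ o := dvd_trans h (dvd_pow_self X (by omega))
    have h3 : f ∣ 1 := by
      have := dvd_sub h2 h1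
      rwa [sub_sub_cancel] at this
    exact hf.not_isUnit (isUnit_of_dvd_one h3)
  obtain ⟨c₀, hc₀⟩ := irr_dvd f hf
  rw [hF, ← hddef] at hc₀
  have hc₀0 : c₀ ≠ 0 := by
    rintro rfl
    rw [map_zero, sub_zero] at hc₀
    exact hfX (hf.prime.dvd_of_dvd_pow hc₀)
  have hc₀q : c₀ ^ (q ^ 2 - 1) = 1 := by
    have := FiniteField.pow_card_sub_one_eq_one c₀ hc₀0
    rwa [hF] at this
  set c := c₀ ^ (q - 1) with hc
  have hfc : f ∣ X ^ (NPlus q d) - C c := by
    have h1 : (X ^ (Nn (q ^ 2) d) : K[X]) - C c₀ ∣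
        (X ^ (Nn (q ^ 2) d)) ^ (q - 1) - (C c₀) ^ (q - 1) := sub_dvd_pow_sub_pow _ _ _
    rw [← pow_mul, ← map_pow] at h1
    exact dvd_trans hc₀ h1
  have hcσ : c * σ c = 1 := by
    rw [hσ, ← pow_succ', hc, ← pow_mul, ← hc₀q, Cfsg.Agent.S2512.sq_sub_one_factor q hq1]
  set K' := Nat.clog p e with hK'def
  have heK : e ≤ p ^ K' := Nat.le_pow_clog hp.one_lt e
  have haN : a' ∣ X ^ (NPlus q d * p ^ K') - C (c ^ (p ^ K')) := by
    rw [hafe]
    exact (IsUnit.mul_right_dvd hu₀).2 (pow_dvd_of_dvd p f _ c hfc e K' heK)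
  have hc' : c ^ (p ^ K') * σ (c ^ (p ^ K')) = 1 := by rw [map_pow, ← mul_pow, hcσ, one_pow]
  have hMN := caseBU_order σ M hM a' b u v hab huv hadj _ _ hc' haN
  have hxN : x ∣ NPlus q d * p ^ K' := hx _ _ hMN
  by_cases hspecial : e = 1 ∧ 2 * d = n
  · right
    obtain ⟨he1, hdn⟩ := hspecial
    have hdb : b.natDegree = d := by
      rw [he1, one_mul] at hdega
      omega
    have hafu : a' = f * u₀ := by rw [hafe, he1, pow_one]
    obtain ⟨s, hs⟩ := cox_even hF σ hσ n d hdn.symm M hM hdet o ho hMo a' b u v hab huv hadj f u₀ hf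
      hu₀ hafu rfl hdb
    refine ⟨s, ?_⟩
    have : c1U q n = NPlus q d / Nat.gcd (NPlus q d) (q + 1) := by
      rw [c1U, NU, if_pos ⟨d, by omega⟩, ← hdn, Nat.mul_div_cancel_left _ (by norm_num : 0 < 2)]
    rw [this]
    exact hs
  · left
    have hpq : p ∣ q := p_dvd_q hF p a hq
    apply fresh hF p σ hσ hσne hσ2 n r hr hrq hrn (2 * d) (NPlus q d) K' x (by omega)
      (wblock_tplus hF p a hq σ hσ hσne hσ2 d hd1) ?_ ?_ ?_ hxN
    · by_cases he1 : e = 1
      · rw [he1, one_mul] at hde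
        have : 2 * d ≠ n := fun h => hspecial ⟨he1, h⟩
        omega
      · have he2 : 2 ≤ e := by omega
        have : 2 * d ≤ e * d := Nat.mul_le_mul_right d he2
        omega
    · intro hK1
      have he2 : 2 ≤ e := by
        by_contra hlt
        have he1 : e = 1 := by omega
        rw [hK'def, he1, Nat.clog_one_right] at hK1
        omega
      have hKe : p ^ (K' - 1) < e := Nat.pow_pred_clog_lt_self hp.one_lt (by omega)
      have hw1 : 1 ≤ p ^ (K' - 1) := Nat.one_le_pow _ _ hp.pos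
      generalize p ^ (K' - 1) = w at hKe hw1 ⊢
      have h1 : (w + 1) * d ≤ e * d := Nat.mul_le_mul_right d hKe
      have h2 : w ≤ w * d := Nat.le_mul_of_pos_right w hd1
      have h3 : (w + 1) * d = w * d + d := by ring
      omega
    · have h1 := Cfsg.Agent.S2512.coprime_pow_sub_one (F := K) p d hd1
      rw [hF, ← pow_mul] at h1
      exact Nat.Coprime.coprime_dvd_left ⟨q + 1, by rw [← NPlus_mul q d hq1, mul_comm]⟩ h1

theorem case2b (hF : Fintype.card K = q ^ 2) (p a : ℕ) [Fact p.Prime] [CharP K p] (hq : q = p ^ a)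
    (σ : K →+* K) (hσ : ∀ x, σ x = x ^ q) (hσne : σ ≠ RingHom.id K) (hσ2 : ∀ a : K, σ (σ a) = a)
    (n : ℕ) (hn : 2 ≤ n) (r : ℕ) (hr : r.Prime) (hrq : r ∣ q + 1) (hrn : ¬ r ∣ n)
    (M : Matrix (Fin n) (Fin n) K) (hM : adjU σ M * M = 1) (hdet : M.det = 1) (o : ℕ) (ho : 1 ≤ o)
    (hMo : M ^ o = 1) (x : ℕ)
    (hx : ∀ (j : ℕ) (c : K), M ^ j = c • (1 : Matrix (Fin n) (Fin n) K) → x ∣ j)
    (hx2 : ∃ c : K, M ^ x = c • (1 : Matrix (Fin n) (Fin n) K))
    (f u : K[X]) (e : ℕ) (hf : Irreducible f) (he : 1 ≤ e) (hu : IsUnit u)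
    (hμ : minpoly K M = f ^ e * u) :
    (∃ g : PSU n K q, Nat.lcm x r ∣ orderOf g) ∨
      (∃ c : K, M ^ (c1U q n) = c • (1 : Matrix (Fin n) (Fin n) K)) ∨
      (x = p ^ Nat.clog p n ∧ ∃ j : ℕ, n - 1 = p ^ j) := by
  classical
  have hp : p.Prime := Fact.out
  have hq2 := two_le_q hF
  have hq1 : 1 ≤ q := by omega
  have hψ := adjU_eq_pow σ M hM o ho hMo
  set ψ : K[X] := X ^ (o - 1) with hψdef
  have hμo : minpoly K M ∣ X ^ o - 1 := by
    rw [minpoly.dvd_iff, map_sub, map_pow, aeval_X, map_one, hMo, sub_self]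
  have hfμ : f ∣ minpoly K M := by
    rw [hμ]
    exact dvd_mul_of_dvd_left (dvd_pow_self f (by omega)) _
  have hμtw : minpoly K M ∣ tw σ ψ (minpoly K M) := by
    rw [minpoly.dvd_iff, ← adjU_aeval_eq σ M ψ hψ, minpoly.aeval, adjU_zero]
  have hftw : f ∣ tw σ ψ f := by
    have h1 : f ∣ tw σ ψ f ^ e * tw σ ψ u := by
      rw [← tw_pow, ← tw_mul, ← hμ]
      exact dvd_trans hfμ hμtw
    obtain ⟨k, hk, rfl⟩ := Polynomial.isUnit_iff.1 hu
    rw [tw_C] at h1
    have hunit : IsUnit (C (σ k) : K[X]) := Polynomial.isUnit_C.2 (hk.map σ)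
    have h2 : f ∣ tw σ ψ f ^ e := (IsUnit.dvd_mul_right hunit).1 h1
    exact hf.prime.dvd_of_dvd_pow h2
  obtain ⟨hDodd, hfq⟩ := irr_recipU hF p a hq σ hσ hσ2 f hf o ho (dvd_trans hfμ hμo) hftw
  set D := f.natDegree with hDdef
  have hD1 : 1 ≤ D := hf.natDegree_pos
  have hdegμ : (minpoly K M).natDegree = e * D := by
    rw [hμ, natDegree_mul (pow_ne_zero _ hf.ne_zero) hu.ne_zero, natDegree_pow,
      natDegree_eq_zero_of_isUnit hu, add_zero]
  have hle := minpoly_natDegree_le_fin n M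
  rw [hdegμ] at hle
  have : Fact (Irreducible f) := ⟨hf⟩
  set α := AdjoinRoot.root f with hα
  have hαq : α ^ (q ^ D + 1) = 1 := by
    have := AdjoinRoot.mk_eq_zero.2 hfq
    rw [map_sub, map_pow, AdjoinRoot.mk_X, map_one, sub_eq_zero] at this
    exact this
  have hz : (α ^ (NMinus q D)) ^ (q + 1) = 1 := by
    rw [← pow_mul, mul_comm, NMinus_mul q D hDodd, hαq]
  obtain ⟨s₀, hs₀⟩ := mem_base_of_pow hF _ hz
  have hfs : f ∣ X ^ (NMinus q D) - C s₀ := by
    rw [← AdjoinRoot.mk_eq_zero, map_sub, map_pow, AdjoinRoot.mk_X, AdjoinRoot.mk_C,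
      ← AdjoinRoot.algebraMap_eq, hs₀, sub_self]
  set K' := Nat.clog p e with hK'def
  have heK : e ≤ p ^ K' := Nat.le_pow_clog hp.one_lt e
  have hμN : minpoly K M ∣ X ^ (NMinus q D * p ^ K') - C (s₀ ^ (p ^ K')) := by
    rw [hμ]
    exact (IsUnit.mul_right_dvd hu).2 (pow_dvd_of_dvd p f _ s₀ hfs e K' heK)
  have hMN : M ^ (NMinus q D * p ^ K') = (s₀ ^ (p ^ K')) • (1 : Matrix (Fin n) (Fin n) K) := by
    rw [pow_eq_smul_iff, ← minpoly.dvd_iff]
    exact hμN
  have hxN : x ∣ NMinus q D * p ^ K' := hx _ _ hMN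
  have hpq : p ∣ q := p_dvd_q hF p a hq
  have hcopM : Nat.Coprime (NMinus q D) p := by
    have h1 : Nat.Coprime (q ^ D + 1) p := by
      rw [Nat.coprime_comm, Nat.Prime.coprime_iff_not_dvd hp]
      intro h
      have h2 : p ∣ q ^ D := dvd_pow hpq (by omega)
      have h3 : p ∣ 1 := (Nat.dvd_add_right h2).1 h
      exact hp.one_lt.ne' (Nat.dvd_one.1 h3)
    exact Nat.Coprime.coprime_dvd_left ⟨q + 1, by rw [← NMinus_mul q D hDodd, mul_comm]⟩ h1
  by_cases hD1' : D = 1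
  · have hNM1 : NMinus q 1 = 1 := by rw [NMinus, pow_one, Nat.div_self (by omega)]
    rw [hD1', hNM1, one_mul] at hxN
    rw [hD1', mul_one] at hle
    by_cases hK0 : K' = 0
    · right; left
      rw [hK0, pow_zero, Nat.dvd_one] at hxN
      obtain ⟨c, hc⟩ := hx2
      rw [hxN, pow_one] at hc
      exact ⟨c ^ c1U q n, by rw [hc, _root_.smul_pow, one_pow]⟩
    · have hK1 : 1 ≤ K' := by omega
      have he2 : 2 ≤ e := by
        by_contra hlt
        have he1 : e = 1 := by omega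
        rw [hK'def, he1, Nat.clog_one_right] at hK0
        exact hK0 rfl
      have hKe : p ^ (K' - 1) < e := Nat.pow_pred_clog_lt_self hp.one_lt (by omega)
      by_cases hsz : p ^ (K' - 1) + 2 ≤ n
      · left
        exact fresh hF p σ hσ hσne hσ2 n r hr hrq hrn 1 1 K' x le_rfl (wblock_one σ 1) (by omega)
          (by intro _; omega) (Nat.coprime_one_left p) (by rw [one_mul]; exact hxN)
      · right; right
        have hen : e = n := by omega
        have hn1 : n - 1 = p ^ (K' - 1) := by omega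
        refine ⟨?_, K' - 1, hn1⟩
        rw [← hen, ← hK'def]
        obtain ⟨i, hi, hxi⟩ := (Nat.dvd_prime_pow hp).1 hxN
        have hiK : i = K' := by
          by_contra hne
          have hlt : i ≤ K' - 1 := by omega
          obtain ⟨c, hc⟩ := hx2
          have h1 : M ^ (p ^ (K' - 1)) =
              (c ^ (p ^ (K' - 1 - i))) • (1 : Matrix (Fin n) (Fin n) K) := by
            have : p ^ (K' - 1) = x * p ^ (K' - 1 - i) := by
              rw [hxi, ← pow_add]
              congr 1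
              omega
            rw [this, pow_mul, hc, _root_.smul_pow, one_pow]
          rw [pow_eq_smul_iff, ← minpoly.dvd_iff] at h1
          have h2 := natDegree_le_of_dvd h1 (X_pow_sub_C_ne_zero (Nat.pow_pos hp.pos) _)
          rw [hdegμ, natDegree_X_pow_sub_C, hD1', mul_one] at h2
          omega
        rw [hxi, hiK]
  · have hD3 : 2 ≤ D := by omega
    by_cases hspecial : e = 1 ∧ D = n
    · right; left
      obtain ⟨he1, hDn⟩ := hspecial
      have hμ' : minpoly K M = f * u := by rw [hμ, he1, pow_one]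
      have hoddn : Odd n := hDn ▸ hDodd
      obtain ⟨s, hs⟩ := cox_odd hF n M hdet f u hf hu hμ' hDn hoddn (by rw [← hDn]; exact hfq)
      refine ⟨s, ?_⟩
      have : c1U q n = NMinus q n / Nat.gcd (NMinus q n) (q + 1) := by
        rw [c1U, NU, if_neg (Nat.not_even_iff_odd.2 hoddn)]
      rw [this]
      exact hs
    · left
      apply fresh hF p σ hσ hσne hσ2 n r hr hrq hrn D (NMinus q D) K' x hD1
        (wblock_tminus hF p a hq σ hσ hσne hσ2 D hDodd) ?_ ?_ hcopM hxN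
      · by_cases he1 : e = 1
        · rw [he1, one_mul] at hle
          have : D ≠ n := fun h => hspecial ⟨he1, h⟩
          omega
        · have he2 : 2 ≤ e := by omega
          have : 2 * D ≤ e * D := Nat.mul_le_mul_right D he2
          omega
      · intro hK1
        have he2 : 2 ≤ e := by
          by_contra hlt
          have he1 : e = 1 := by omega
          rw [hK'def, he1, Nat.clog_one_right] at hK1
          omega
        have hKe : p ^ (K' - 1) < e := Nat.pow_pred_clog_lt_self hp.one_lt (by omega)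
        have hw1 : 1 ≤ p ^ (K' - 1) := Nat.one_le_pow _ _ hp.pos
        generalize p ^ (K' - 1) = w at hKe hw1 ⊢
        have h1 : (w + 1) * D ≤ e * D := Nat.mul_le_mul_right D hKe
        have h2 : 2 * w ≤ w * D := by
          rw [mul_comm w D]
          exact Nat.mul_le_mul_right w hD3
        have h3 : (w + 1) * D = w * D + D := by ring
        omega

end Fresh

section ThmU

open Matrix Polynomial Cfsg.Agent.S2510

variable {K : Type*} [Field K] [Fintype K] {q : ℕ}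

theorem NU_pos (q n : ℕ) (hq : 2 ≤ q) (hn : 2 ≤ n) : 0 < NU q n := by
  rw [NU]
  split_ifs with h
  · rw [NPlus]
    apply Nat.mul_pos
    · apply Nn_pos
      · exact Nat.one_le_pow _ _ (by omega)
      · omega
    · omega
  · have hodd : Odd n := Nat.not_even_iff_odd.1 h
    have h1 := NMinus_mul q n hodd
    rcases Nat.eq_zero_or_pos (NMinus q n) with h0 | hpos
    · rw [h0, mul_zero] at h1
      omega
    · exact hpos

theorem wblock_NU (hF : Fintype.card K = q ^ 2) (p a : ℕ) [Fact p.Prime] [CharP K p]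
    (hq : q = p ^ a) (σ : K →+* K) (hσ : ∀ x, σ x = x ^ q) (hσne : σ ≠ RingHom.id K)
    (hσ2 : ∀ a : K, σ (σ a) = a) (n : ℕ) (hn : 2 ≤ n) : WBlock σ n (NU q n) := by
  rw [NU]
  split_ifs with h
  · obtain ⟨d, hd⟩ := h
    have h2 : n = 2 * d := by omega
    have h3 : n / 2 = d := by omega
    rw [h3]
    have := wblock_tplus hF p a hq σ hσ hσne hσ2 d (by omega)
    rw [← h2] at this
    exact this
  · exact wblock_tminus hF p a hq σ hσ hσne hσ2 n (Nat.not_even_iff_odd.1 h)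

omit [Fintype K] in
theorem unitary_pow {ι : Type*} [Fintype ι] [DecidableEq ι] (σ : K →+* K) (M : Matrix ι ι K)
    (hM : adjU σ M * M = 1) (j : ℕ) : adjU σ (M ^ j) * M ^ j = 1 := by
  have hcomm : Commute (adjU σ M) M := by
    rw [Commute, SemiconjBy, hM, mul_adjU_of_unitary σ M hM]
  rw [adjU_pow, ← hcomm.mul_pow, hM, one_pow]

theorem c1U_mem (hF : Fintype.card K = q ^ 2) (p a : ℕ) [Fact p.Prime] [CharP K p]
    (hq : q = p ^ a) (σ : K →+* K) (hσ : ∀ x, σ x = x ^ q) (hσne : σ ≠ RingHom.id K)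
    (hσ2 : ∀ a : K, σ (σ a) = a) (n : ℕ) (hn : 2 ≤ n) :
    ∃ g : PSU n K q, c1U q n ∣ orderOf g := by
  have hq2 := two_le_q hF
  obtain ⟨M, hMu, hMdet, hMord⟩ := wblock_NU hF p a hq σ hσ hσne hσ2 n hn
  refine ⟨QuotientGroup.mk (mkSU σ hσ n M hMdet hMu), ?_⟩
  apply dvd_orderOf_mk hF n (by omega)
  intro j c hj
  rw [mkSU_val] at hj
  have hu := unitary_pow σ M hMu j
  rw [hj, adjU_smul, adjU_one, smul_mul_smul_comm, mul_one] at hu
  have hc : σ c * c = 1 := by
    have := congrFun (congrFun hu ⟨0, by omega⟩) ⟨0, by omega⟩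
    rw [Matrix.smul_apply, Matrix.one_apply_eq, smul_eq_mul, mul_one] at this
    exact this
  have hc' : c ^ (q + 1) = 1 := by
    rw [pow_succ, ← hσ]
    exact hc
  have h1 : M ^ (j * (q + 1)) = 1 := by
    rw [pow_mul, hj, _root_.smul_pow, one_pow, hc', one_smul]
  have h2 := hMord _ h1
  exact (dvd_mul_iff_div_gcd (NU q n) (q + 1) j (NU_pos q n hq2 hn)).1 h2

theorem r_mem (hF : Fintype.card K = q ^ 2) (σ : K →+* K) (hσ : ∀ x, σ x = x ^ q)
    (n : ℕ) (hn : 2 ≤ n) (r : ℕ) (hr : r.Prime) (hrq : r ∣ q + 1) (hrn : ¬ r ∣ n) :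
    ∃ g : PSU n K q, r ∣ orderOf g := by
  obtain ⟨g, hg⟩ := absorb_blocks hF σ hσ 1 (n - 1) 1 1 n le_rfl (by omega) (by omega) r hr hrq hrn
    (sblock_one σ 1 le_rfl) (wblock_one σ (n - 1))
  exact ⟨g, dvd_trans (Nat.dvd_lcm_right _ _) hg⟩

theorem thmU (hF : Fintype.card K = q ^ 2) (p a : ℕ) [Fact p.Prime] [CharP K p] (hq : q = p ^ a)
    (σ : K →+* K) (hσ : ∀ x, σ x = x ^ q) (hσne : σ ≠ RingHom.id K) (hσ2 : ∀ a : K, σ (σ a) = a)
    (n : ℕ) (hn : 2 ≤ n) (r : ℕ) (hr : r.Prime) (hrq : r ∣ q + 1) (hrn : ¬ r ∣ n)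
    (A : SU n K q) :
    (∃ g : PSU n K q, Nat.lcm (orderOf (QuotientGroup.mk A : PSU n K q)) r ∣ orderOf g) ∨
    orderOf (QuotientGroup.mk A : PSU n K q) ∣ c1U q n ∨
    (orderOf (QuotientGroup.mk A : PSU n K q) = p ^ Nat.clog p n ∧ ∃ j : ℕ, n - 1 = p ^ j) := by
  classical
  have : NeZero n := ⟨by omega⟩
  have := finite_SU (K := K) (q := q) n
  have := finite_PSU (K := K) (q := q) n
  set M : Matrix (Fin n) (Fin n) K := (A.1.1 : Matrix (Fin n) (Fin n) K) with hMdef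
  have hM : adjU σ M * M = 1 := unitary_of_mem σ hσ n A
  have hdet : M.det = 1 := A.1.2
  set x := orderOf (QuotientGroup.mk A : PSU n K q) with hxdef
  have hx : ∀ (j : ℕ) (c : K), M ^ j = c • (1 : Matrix (Fin n) (Fin n) K) → x ∣ j :=
    fun j c h => orderOf_mk_dvd hF n (by omega) A j c h
  have hx2 : ∃ c : K, M ^ x = c • (1 : Matrix (Fin n) (Fin n) K) :=
    (mk_pow_eq_one_iff hF n (by omega) A x).1 (pow_orderOf_eq_one _)
  have ho : 1 ≤ orderOf A := orderOf_pos A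
  have hMo : M ^ (orderOf A) = 1 := by
    have h1 := coe_pow_SU n A (orderOf A)
    rw [pow_orderOf_eq_one] at h1
    rw [hMdef, ← h1]
    rfl
  have hμ0 : minpoly K M ≠ 0 := (minpoly.monic (Matrix.isIntegral M)).ne_zero
  by_cases hex : ∃ φ : K[X], aeval M φ * aeval M φ = aeval M φ ∧
      adjU σ (aeval M φ) = aeval M φ ∧ aeval M φ ≠ 0 ∧ aeval M φ ≠ 1
  · left
    obtain ⟨φ, hPP, hPadj, hP0, hP1⟩ := hex
    exact absorbU hF σ hσ n (by omega) (Fintype.card_fin n) r hr hrq hrn M (aeval M φ) hdet hM hPP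
      hPadj hP0 hP1 (Cfsg.Agent.S2510.aeval_comm M φ) x hx
  · have hno : ∀ φ : K[X], aeval M φ * aeval M φ = aeval M φ → adjU σ (aeval M φ) = aeval M φ →
        aeval M φ = 0 ∨ aeval M φ = 1 := by
      intro φ h1 h2
      by_contra h3
      push Not at h3
      exact hex ⟨φ, h1, h2, h3.1, h3.2⟩
    rcases poly_struct (minpoly K M) hμ0 (minpoly.not_isUnit K M) with
      ⟨a', b, hab, hcop, ha, hb⟩ | ⟨f, e, u, hf, he, hu, hμ⟩
    · obtain ⟨u, v, huv⟩ := hcop
      rcases le_total a'.natDegree b.natDegree with hdeg | hdeg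
      · rcases case2a hF p a hq σ hσ hσne hσ2 n r hr hrq hrn M hM hdet _ ho hMo x hx hno a' b u v
          hab huv ha hb hdeg with h | ⟨c, hc⟩
        · exact Or.inl h
        · exact Or.inr (Or.inl (hx _ c hc))
      · have hab' : minpoly K M = b * a' := by rw [hab, mul_comm]
        have huv' : v * b + u * a' = 1 := by rw [add_comm]; exact huv
        rcases case2a hF p a hq σ hσ hσne hσ2 n r hr hrq hrn M hM hdet _ ho hMo x hx hno b a' v u
          hab' huv' hb ha hdeg with h | ⟨c, hc⟩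
        · exact Or.inl h
        · exact Or.inr (Or.inl (hx _ c hc))
    · rcases case2b hF p a hq σ hσ hσne hσ2 n hn r hr hrq hrn M hM hdet _ ho hMo x hx hx2 f u e hf
        he hu hμ with h | ⟨c, hc⟩ | h
      · exact Or.inl h
      · exact Or.inr (Or.inl (hx _ c hc))
      · exact Or.inr (Or.inr h)

theorem spec_psu (hF : Fintype.card K = q ^ 2) (p a : ℕ) [Fact p.Prime] [CharP K p]
    (hq : q = p ^ a) (σ : K →+* K) (hσ : ∀ x, σ x = x ^ q) (hσne : σ ≠ RingHom.id K)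
    (hσ2 : ∀ a : K, σ (σ a) = a) (n : ℕ) (hn : 2 ≤ n) (r : ℕ) (hr : r.Prime) (hrq : r ∣ q + 1)
    (hrn : ¬ r ∣ n) :
    Spec (Set.range (orderOf : PSU n K q → ℕ)) r (c1U q n) (p ^ Nat.clog p n) ∧
    ((¬ ∃ j : ℕ, n - 1 = p ^ j) →
      ∀ x ∈ Set.range (orderOf : PSU n K q → ℕ),
        Nat.lcm x r ∈ Set.range (orderOf : PSU n K q → ℕ) ∨ x ∣ c1U q n) := by
  classical
  have := finite_PSU (K := K) (q := q) n
  have hclosed := range_dvd_closed (G := PSU n K q)
  have hK : ∀ x ∈ Set.range (orderOf : PSU n K q → ℕ),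
      Nat.lcm x r ∈ Set.range (orderOf : PSU n K q → ℕ) ∨
      x ∣ c1U q n ∨ (x = p ^ Nat.clog p n ∧ ∃ j : ℕ, n - 1 = p ^ j) := by
    rintro x ⟨g, rfl⟩
    obtain ⟨A, rfl⟩ := QuotientGroup.mk_surjective g
    rcases thmU hF p a hq σ hσ hσne hσ2 n hn r hr hrq hrn A with ⟨g', hg'⟩ | h | h
    · exact Or.inl (hclosed _ ⟨g', rfl⟩ _ hg')
    · exact Or.inr (Or.inl h)
    · exact Or.inr (Or.inr h)
  refine ⟨⟨hclosed, ?_, ?_, ?_⟩, ?_⟩
  · obtain ⟨g, hg⟩ := r_mem hF σ hσ n hn r hr hrq hrn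
    exact hclosed _ ⟨g, rfl⟩ _ hg
  · obtain ⟨g, hg⟩ := c1U_mem hF p a hq σ hσ hσne hσ2 n hn
    exact hclosed _ ⟨g, rfl⟩ _ hg
  · intro x hx
    rcases hK x hx with h | h | h
    · exact Or.inl h
    · exact Or.inr (Or.inl h)
    · exact Or.inr (Or.inr h.1)
  · intro hno x hx
    rcases hK x hx with h | h | h
    · exact Or.inl h
    · exact Or.inr h
    · exact absurd h.2 hno

end ThmU

/-- Let F be a finite field with q² elements, q = p^a, n ≥ 3 with (n, q) ≠ (3, 2), L = PSU(n, q) realised over F, and let r be a prime dividing q + 1 and not dividing n. Then for every m the direct product L × L × L × (ℤ/r)^m has the same set of element orders as L × L × L; and if n − 1 is not a power of p, then already L × L × (ℤ/r)^m has the same set of element orders as L × L. -/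
theorem result {F : Type*} [Field F] [Fintype F] (p a n q r m : ℕ) (hp : p.Prime) (ha : 1 ≤ a) (hq : q = p ^ a) (hF : Fintype.card F = q ^ 2)
    (hn : 3 ≤ n) (hn3 : ¬ (n = 3 ∧ q = 2)) (hr : r.Prime) (hrq : r ∣ q + 1) (hrn : ¬ r ∣ n) :
    Set.range (orderOf : Cfsg.PSU n F q × Cfsg.PSU n F q × Cfsg.PSU n F q × Multiplicative (Fin m → ZMod r) → ℕ) = Set.range (orderOf : Cfsg.PSU n F q × Cfsg.PSU n F q × Cfsg.PSU n F q → ℕ) ∧
    ((¬ ∃ j : ℕ, n - 1 = p ^ j) →
      Set.range (orderOf : Cfsg.PSU n F q × Cfsg.PSU n F q × Multiplicative (Fin m → ZMod r) → ℕ) = Set.range (orderOf : Cfsg.PSU n F q × Cfsg.PSU n F q → ℕ)) := by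
  have _h1 := ha
  have _h2 := hn3
  have : Fact p.Prime := ⟨hp⟩
  have hcard : Fintype.card F = p ^ (a * 2) := by rw [hF, hq, pow_mul]
  have : CharP F p := Cfsg.Agent.S2510.charP_of_card p (a * 2) hp hcard
  obtain ⟨σ, hσ, hσne, hσ2⟩ := Cfsg.Agent.S0277.exists_frob hF
  obtain ⟨hspec, h6⟩ := spec_psu hF p a hq σ hσ hσne hσ2 n (by omega) r hr hrq hrn
  exact ⟨Cfsg.Agent.S2510.claim1 r m _ _ hr hspec,
    fun hno => Cfsg.Agent.S2510.claim2 r m _ _ hr hspec (h6 hno)⟩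

end Cfsg.Agent.S2511
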