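import Cfsg.Statements.S2366
import Mathlib
import Cfsg.Agent.S2511

set_option autoImplicit false
open Cfsg

namespace Cfsg.Agent.S2366

section Star

open Polynomial Matrix Cfsg.Agent.S2510 Cfsg.Agent.S2511

variable {K : Type*} [Field K] (σ : K →+* K)

/-- the dual polynomial -/
noncomputable def star (f : K[X]) : K[X] := (f.map σ).reverse

theorem star_mul (f g : K[X]) : star σ (f * g) = star σ f * star σ g := by
  unfold star
  rw [Polynomial.map_mul, reverse_mul_of_domain]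

theorem star_one : star σ (1 : K[X]) = 1 := by
  unfold star
  rw [Polynomial.map_one, ← C_1, reverse_C]

theorem star_pow (f : K[X]) (e : ℕ) : star σ (f ^ e) = star σ f ^ e := by
  induction e with
  | zero => rw [pow_zero, pow_zero, star_one]
  | succ e ih => rw [pow_succ, star_mul, ih, pow_succ]

theorem star_C (c : K) : star σ (C c) = C (σ c) := by
  unfold star
  rw [Polynomial.map_C, reverse_C]

theorem star_X_sub_C (a : K) : star σ (X - C a) = 1 - C (σ a) * X := by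
  unfold star
  rw [Polynomial.map_sub, Polynomial.map_X, Polynomial.map_C]
  have h1 : (X - C (σ a) : K[X]) = X + C (-(σ a)) := by
    rw [map_neg, sub_eq_add_neg]
  have h2 : reverse (X : K[X]) = 1 := by
    have := reverse_mul_X (1 : K[X])
    rw [one_mul, ← C_1, reverse_C] at this
    exact this
  rw [h1, reverse_add_C, h2, natDegree_X, pow_one, map_neg]
  ring

theorem star_natDegree_le (f : K[X]) : (star σ f).natDegree ≤ f.natDegree := by
  unfold star
  have := reverse_natDegree_le (f.map σ)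
  rwa [natDegree_map] at this

theorem star_ne_zero (f : K[X]) (hf : f ≠ 0) : star σ f ≠ 0 := by
  unfold star
  rw [Ne, reverse_eq_zero, Polynomial.map_eq_zero]
  exact hf

theorem star_natDegree (f : K[X]) (hf0 : f.coeff 0 ≠ 0) :
    (star σ f).natDegree = f.natDegree := by
  unfold star
  have h0 : (f.map σ).coeff 0 ≠ 0 := by
    rw [coeff_map]
    exact (map_ne_zero σ).2 hf0
  rw [reverse_natDegree, natTrailingDegree_eq_zero.2 (Or.inr h0), Nat.sub_zero, natDegree_map]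

omit σ in
theorem dvd_reverse_iff_dvd_comp (b h : K[X]) (o : ℕ) (ho : 1 ≤ o) (hbo : b ∣ X ^ o - 1) :
    b ∣ h.reverse ↔ b ∣ h.comp (X ^ (o - 1)) := by
  set ρ : AdjoinRoot b := AdjoinRoot.root b with hρ
  have hρo : ρ ^ o = 1 := by
    have := AdjoinRoot.mk_eq_zero.2 hbo
    rw [map_sub, map_pow, AdjoinRoot.mk_X, map_one, sub_eq_zero] at this
    exact this
  have h1 : ρ ^ (o - 1) * ρ = 1 := by rw [← pow_succ, Nat.sub_add_cancel ho, hρo]
  have h2 : ρ * ρ ^ (o - 1) = 1 := by rw [mul_comm]; exact h1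
  let _inst : Invertible (ρ ^ (o - 1)) := ⟨ρ, h2, h1⟩
  have h4 := eval₂_reverse_eq_zero_iff (AdjoinRoot.of b) (ρ ^ (o - 1)) h
  have h5 : b ∣ h.reverse ↔ eval₂ (AdjoinRoot.of b) ρ h.reverse = 0 := by
    rw [← AdjoinRoot.mk_eq_zero, ← AdjoinRoot.aeval_eq, aeval_def]
    rfl
  have h6 : b ∣ h.comp (X ^ (o - 1)) ↔ eval₂ (AdjoinRoot.of b) (ρ ^ (o - 1)) h = 0 := by
    rw [← AdjoinRoot.mk_eq_zero, ← AdjoinRoot.aeval_eq, aeval_comp, map_pow, aeval_X, aeval_def]
    rfl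
  rw [h5, h6]
  exact h4

omit σ in
theorem dvd_of_forall_prime_pow (μ g : K[X]) (hμ : μ ≠ 0)
    (h : ∀ (f : K[X]) (e : ℕ), Irreducible f → f ^ e ∣ μ → f ^ e ∣ g) : μ ∣ g := by
  induction' hn : μ.natDegree using Nat.strong_induction_on with n ih generalizing μ
  by_cases hu : IsUnit μ
  · exact hu.dvd
  rcases poly_struct μ hμ hu with ⟨a, b, hab, hcop, ha, hb⟩ | ⟨f, e, u, hf, he, hu', hμ'⟩
  · have ha0 : a ≠ 0 := by
      rintro rfl
      rw [zero_mul] at hab
      exact hμ hab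
    have hb0 : b ≠ 0 := by
      rintro rfl
      rw [mul_zero] at hab
      exact hμ hab
    have hdeg : μ.natDegree = a.natDegree + b.natDegree := by rw [hab, natDegree_mul ha0 hb0]
    have hpos : ∀ c : K[X], c ≠ 0 → ¬ IsUnit c → 0 < c.natDegree := by
      intro c hc0 hcu
      rcases Nat.eq_zero_or_pos c.natDegree with h0 | h0
      · exfalso
        apply hcu
        rw [Polynomial.isUnit_iff_degree_eq_zero, degree_eq_natDegree hc0, h0]
        rfl
      · exact h0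
    have hda := hpos a ha0 ha
    have hdb := hpos b hb0 hb
    have h1 : a ∣ g := ih a.natDegree (by omega) a ha0
      (fun f e hf hfe => h f e hf (dvd_trans hfe ⟨b, hab⟩)) rfl
    have h2 : b ∣ g := ih b.natDegree (by omega) b hb0
      (fun f e hf hfe => h f e hf (dvd_trans hfe ⟨a, by rw [hab, mul_comm]⟩)) rfl
    rw [hab]
    exact hcop.mul_dvd h1 h2
  · rw [hμ']
    exact (IsUnit.mul_right_dvd hu').2 (h f e hf (by rw [hμ']; exact dvd_mul_right _ _))

end Star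

section Unitary

open Polynomial Matrix Cfsg.Agent.S2510 Cfsg.Agent.S2511

variable {K : Type*} [Field K] (σ : K →+* K) {ι : Type*} [Fintype ι] [DecidableEq ι]
  (M : Matrix ι ι K)

omit σ in
theorem minpoly_dvd_pow_sub_one (o : ℕ) (hMo : M ^ o = 1) : minpoly K M ∣ X ^ o - 1 := by
  rw [minpoly.dvd_iff, map_sub, map_pow, aeval_X, map_one, hMo, sub_self]

theorem minpoly_dvd_star (hM : adjU σ M * M = 1) (o : ℕ) (ho : 1 ≤ o) (hMo : M ^ o = 1) :
    minpoly K M ∣ star σ (minpoly K M) := by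
  have h1 : minpoly K M ∣ tw σ (X ^ (o - 1)) (minpoly K M) := by
    rw [minpoly.dvd_iff, ← adjU_aeval_eq σ M _ (adjU_eq_pow σ M hM o ho hMo), minpoly.aeval,
      adjU_zero]
  exact (dvd_reverse_iff_dvd_comp _ _ o ho (minpoly_dvd_pow_sub_one M o hMo)).2 h1

theorem star_minpoly (hM : adjU σ M * M = 1) (o : ℕ) (ho : 1 ≤ o) (hMo : M ^ o = 1) :
    ∃ k : K, k ≠ 0 ∧ star σ (minpoly K M) = C k * minpoly K M := by
  set μ := minpoly K M with hμdef
  have hμ0 : μ ≠ 0 := (minpoly.monic (Matrix.isIntegral M)).ne_zero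
  obtain ⟨w, hw⟩ := minpoly_dvd_star σ M hM o ho hMo
  rw [← hμdef] at hw
  have hs0 : star σ μ ≠ 0 := star_ne_zero σ μ hμ0
  have hw0 : w ≠ 0 := by
    rintro rfl
    rw [mul_zero] at hw
    exact hs0 hw
  have hwdeg : w.natDegree = 0 := by
    have h1 := star_natDegree_le σ μ
    rw [hw, natDegree_mul hμ0 hw0] at h1
    omega
  refine ⟨w.coeff 0, ?_, ?_⟩
  · intro h0
    apply hw0
    rw [eq_C_of_natDegree_eq_zero hwdeg, h0, map_zero]
  · rw [hw, mul_comm]
    congr 1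
    exact eq_C_of_natDegree_eq_zero hwdeg

theorem star_dvd_minpoly (hM : adjU σ M * M = 1) (o : ℕ) (ho : 1 ≤ o) (hMo : M ^ o = 1)
    (f : K[X]) (hf : f ∣ minpoly K M) : star σ f ∣ minpoly K M := by
  obtain ⟨k, hk0, hk⟩ := star_minpoly σ M hM o ho hMo
  set μ := minpoly K M with hμdef
  obtain ⟨g, hg⟩ := hf
  have h1 : star σ f ∣ C k * μ := ⟨star σ g, by rw [← hk, hg, star_mul]⟩
  exact (IsUnit.dvd_mul_left (Polynomial.isUnit_C.2 hk0.isUnit)).1 h1

omit σ in
theorem root_ne_zero (o : ℕ) (ho : 1 ≤ o) (hMo : M ^ o = 1) (lam : K)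
    (h : (X - C lam) ∣ minpoly K M) : lam ≠ 0 := by
  have h1 := dvd_trans h (minpoly_dvd_pow_sub_one M o hMo)
  rw [dvd_iff_isRoot, IsRoot.def, eval_sub, eval_pow, eval_X, eval_one, sub_eq_zero] at h1
  rintro rfl
  rw [zero_pow (by omega)] at h1
  exact zero_ne_one h1

theorem root_dual (hM : adjU σ M * M = 1) (o : ℕ) (ho : 1 ≤ o) (hMo : M ^ o = 1) (lam : K)
    (hlam : lam ≠ 0) (e : ℕ) (h : (X - C lam) ^ e ∣ minpoly K M) :
    (X - C (σ lam)⁻¹) ^ e ∣ minpoly K M := by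
  have h1 := star_dvd_minpoly σ M hM o ho hMo _ h
  rw [star_pow, star_X_sub_C] at h1
  have hσlam : σ lam ≠ 0 := (map_ne_zero σ).2 hlam
  have e1 : (1 - C (σ lam) * X : K[X]) = C (-(σ lam)) * (X - C (σ lam)⁻¹) := by
    rw [mul_sub, ← C_mul, neg_mul, mul_inv_cancel₀ hσlam, map_neg, map_neg, C_1]
    ring
  rw [e1, mul_pow] at h1
  exact dvd_trans (dvd_mul_left _ _) h1

end Unitary

section SelfDual

open Polynomial Matrix Cfsg.Agent.S2510 Cfsg.Agent.S2511

variable {K : Type*} [Field K] [Fintype K] {q : ℕ} {ι : Type*} [Fintype ι] [DecidableEq ι]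

theorem irr_selfdual (hF : Fintype.card K = q ^ 2) (p a : ℕ) [Fact p.Prime] [CharP K p]
    (hq : q = p ^ a) (σ : K →+* K) (hσ : ∀ x, σ x = x ^ q) (hσ2 : ∀ a : K, σ (σ a) = a)
    (M : Matrix ι ι K) (o : ℕ) (ho : 1 ≤ o) (hMo : M ^ o = 1)
    (f : K[X]) (hf : Irreducible f) (hfμ : f ∣ minpoly K M) (hfs : f ∣ star σ f) :
    Odd f.natDegree ∧ f ∣ X ^ (q ^ f.natDegree + 1) - 1 := by
  have hfo : f ∣ X ^ o - 1 := dvd_trans hfμ (minpoly_dvd_pow_sub_one M o hMo)
  have h1 := (dvd_reverse_iff_dvd_comp f (f.map σ) o ho hfo).1 hfs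
  exact irr_recipU hF p a hq σ hσ hσ2 f hf o ho hfo h1

end SelfDual

section Three0

open Polynomial Matrix Cfsg.Agent.S2510 Cfsg.Agent.S2511

variable {K : Type*} [Field K]

theorem coeff_zero_ne_of_dvd (g : K[X]) (o : ℕ) (ho : 1 ≤ o) (h : g ∣ X ^ o - 1) :
    g.coeff 0 ≠ 0 := by
  intro h0
  obtain ⟨w, hw⟩ := h
  have := congrArg (fun g : K[X] => g.coeff 0) hw
  simp only [mul_coeff_zero, h0, zero_mul, coeff_sub, coeff_X_pow, coeff_one_zero] at this
  rw [if_neg (by omega)] at this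
  simp at this

theorem linear_form (f : K[X]) (hdeg : f.natDegree = 1) :
    ∃ (k ν : K), k ≠ 0 ∧ f = C k * (X - C ν) := by
  obtain ⟨a, ha, b, hab⟩ := natDegree_eq_one.1 hdeg
  refine ⟨a, -(b / a), ha, ?_⟩
  have h1 : a * (b / a) = b := by field_simp
  rw [← hab, mul_sub, ← C_mul, mul_neg, h1, map_neg, sub_neg_eq_add]

theorem split_sqfree_dvd (μ : K[X]) (hμ0 : μ ≠ 0)
    (hall : ∀ f : K[X], Irreducible f → f ∣ μ → f.natDegree = 1)
    (hsq : ∀ ν : K, ¬ (X - C ν) ^ 2 ∣ μ) (g : K[X])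
    (hg : ∀ ν : K, (X - C ν) ∣ μ → g.IsRoot ν) : μ ∣ g := by
  apply dvd_of_forall_prime_pow μ g hμ0
  intro f e hf hfe
  rcases Nat.eq_zero_or_pos e with h0 | hpos
  · rw [h0, pow_zero]
    exact one_dvd _
  have hfμ : f ∣ μ := dvd_trans (dvd_pow_self f (by omega)) hfe
  obtain ⟨k, ν, hk, hfk⟩ := linear_form f (hall f hf hfμ)
  have hunit : IsUnit (C k : K[X]) := Polynomial.isUnit_C.2 hk.isUnit
  have he1 : e = 1 := by
    by_contra hne
    have he2 : 2 ≤ e := by omega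
    apply hsq ν
    have h1 : f ^ 2 ∣ μ := dvd_trans (pow_dvd_pow f he2) hfe
    rw [hfk, mul_pow] at h1
    exact dvd_trans (dvd_mul_left _ _) h1
  rw [he1, pow_one, hfk]
  have hroot : (X - C ν) ∣ μ := by
    rw [hfk] at hfμ
    exact dvd_trans (dvd_mul_left _ _) hfμ
  exact (IsUnit.mul_left_dvd hunit).2 (dvd_iff_isRoot.2 (hg ν hroot))

end Three0

section Arith

theorem gcd3_facts (q : ℕ) (hq : 2 ≤ q) :
    Nat.gcd 3 (q + 1) * ((q + 1) / Nat.gcd 3 (q + 1)) = q + 1 ∧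
    (q + 1) ∣ 3 * ((q + 1) / Nat.gcd 3 (q + 1)) ∧
    (q + 1) ∣ (q - 2) * ((q + 1) / Nat.gcd 3 (q + 1)) := by
  set d := Nat.gcd 3 (q + 1) with hd
  have hd1 : d ∣ q + 1 := Nat.gcd_dvd_right _ _
  have hd3 : d ∣ 3 := Nat.gcd_dvd_left _ _
  have h1 : d * ((q + 1) / d) = q + 1 := Nat.mul_div_cancel' hd1
  refine ⟨h1, ?_, ?_⟩
  · obtain ⟨d', hd'⟩ := hd3
    refine ⟨d', ?_⟩
    rw [hd']
    calc d * d' * ((q + 1) / d) = d' * (d * ((q + 1) / d)) := by ring
      _ = (q + 1) * d' := by rw [h1, mul_comm]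
  · have h2 : d ∣ q - 2 := by
      have := Nat.dvd_sub hd1 hd3
      have e : q + 1 - 3 = q - 2 := by omega
      rwa [e] at this
    obtain ⟨d', hd'⟩ := h2
    refine ⟨d', ?_⟩
    rw [hd']
    calc d * d' * ((q + 1) / d) = d' * (d * ((q + 1) / d)) := by ring
      _ = (q + 1) * d' := by rw [h1, mul_comm]

end Arith

section Three

open Polynomial Matrix Cfsg.Agent.S2510 Cfsg.Agent.S2511

variable {K : Type*} [Field K] [Fintype K] {q : ℕ}

theorem irr_factor_deg (hF : Fintype.card K = q ^ 2) (p a : ℕ) [Fact p.Prime] [CharP K p]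
    (hq : q = p ^ a) (σ : K →+* K) (hσ : ∀ x, σ x = x ^ q) (hσ2 : ∀ a : K, σ (σ a) = a)
    (M : Matrix (Fin 3) (Fin 3) K) (hM : adjU σ M * M = 1) (o : ℕ) (ho : 1 ≤ o) (hMo : M ^ o = 1)
    (f : K[X]) (hf : Irreducible f) (hfμ : f ∣ minpoly K M) :
    f.natDegree = 1 ∨ f.natDegree = 3 := by
  have hμ0 : minpoly K M ≠ 0 := (minpoly.monic (Matrix.isIntegral M)).ne_zero
  have hle := minpoly_natDegree_le_fin 3 M
  have h1 : f.natDegree ≤ 3 := le_trans (natDegree_le_of_dvd hfμ hμ0) hle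
  have h2 : 1 ≤ f.natDegree := hf.natDegree_pos
  by_contra hcon
  push Not at hcon
  have hd2 : f.natDegree = 2 := by omega
  have hfo : f ∣ X ^ o - 1 := dvd_trans hfμ (minpoly_dvd_pow_sub_one M o hMo)
  have hf0 := coeff_zero_ne_of_dvd f o ho hfo
  have hs := star_dvd_minpoly σ M hM o ho hMo f hfμ
  by_cases hfs : f ∣ star σ f
  · have := (irr_selfdual hF p a hq σ hσ hσ2 M o ho hMo f hf hfμ hfs).1
    rw [hd2] at this
    exact absurd this (by decide)
  · have hcop : IsCoprime f (star σ f) := hf.coprime_iff_not_dvd.2 hfs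
    have h3 : f * star σ f ∣ minpoly K M := hcop.mul_dvd hfμ hs
    have h4 := natDegree_le_of_dvd h3 hμ0
    rw [natDegree_mul hf.ne_zero (star_ne_zero σ f hf.ne_zero), star_natDegree σ f hf0] at h4
    omega

theorem cubic_case (hF : Fintype.card K = q ^ 2) (p a : ℕ) [Fact p.Prime] [CharP K p]
    (hq : q = p ^ a) (σ : K →+* K) (hσ : ∀ x, σ x = x ^ q) (hσ2 : ∀ a : K, σ (σ a) = a)
    (M : Matrix (Fin 3) (Fin 3) K) (hM : adjU σ M * M = 1) (hdet : M.det = 1) (o : ℕ) (ho : 1 ≤ o)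
    (hMo : M ^ o = 1)
    (f : K[X]) (hf : Irreducible f) (hfμ : f ∣ minpoly K M) (hd3 : f.natDegree = 3) :
    ∃ s : K, M ^ (NMinus q 3 / Nat.gcd (NMinus q 3) (q + 1)) =
      s • (1 : Matrix (Fin 3) (Fin 3) K) := by
  have hμ0 : minpoly K M ≠ 0 := (minpoly.monic (Matrix.isIntegral M)).ne_zero
  have hle := minpoly_natDegree_le_fin 3 M
  obtain ⟨w, hw⟩ := hfμ
  have hw0 : w ≠ 0 := by
    rintro rfl
    rw [mul_zero] at hw
    exact hμ0 hw
  have hwdeg : w.natDegree = 0 := by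
    have := congrArg natDegree hw
    rw [natDegree_mul hf.ne_zero hw0, hd3] at this
    omega
  obtain ⟨k, hk⟩ : ∃ k, w = C k := ⟨w.coeff 0, eq_C_of_natDegree_eq_zero hwdeg⟩
  subst hk
  have hk0 : k ≠ 0 := by
    rintro rfl
    rw [map_zero] at hw0
    exact hw0 rfl
  have hu : IsUnit (C k : K[X]) := Polynomial.isUnit_C.2 hk0.isUnit
  have hfs : f ∣ star σ f := by
    have h1 := minpoly_dvd_star σ M hM o ho hMo
    rw [hw, star_mul, star_C] at h1
    have h2 : f ∣ star σ f * C (σ k) := dvd_trans (dvd_mul_right _ _) h1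
    exact (IsUnit.dvd_mul_right (Polynomial.isUnit_C.2 ((map_ne_zero σ).2 hk0).isUnit)).1 h2
  obtain ⟨-, hfq⟩ := irr_selfdual hF p a hq σ hσ hσ2 M o ho hMo f hf ⟨C k, hw⟩ hfs
  rw [hd3] at hfq
  exact cox_odd hF 3 M hdet f (C k) hf hu hw hd3 (by decide) hfq

theorem case_sqfree (hF : Fintype.card K = q ^ 2) (σ : K →+* K) (hσ : ∀ x, σ x = x ^ q)
    (M : Matrix (Fin 3) (Fin 3) K) (hM : adjU σ M * M = 1) (hdet : M.det = 1) (o : ℕ) (ho : 1 ≤ o)
    (hMo : M ^ o = 1)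
    (hall : ∀ f : K[X], Irreducible f → f ∣ minpoly K M → f.natDegree = 1)
    (hsq : ∀ ν : K, ¬ (X - C ν) ^ 2 ∣ minpoly K M) :
    (∃ c : K, M ^ (q + 1) = c • (1 : Matrix (Fin 3) (Fin 3) K)) ∨
    (∃ c : K, M ^ ((q - 1) * ((q + 1) / Nat.gcd 3 (q + 1))) =
      c • (1 : Matrix (Fin 3) (Fin 3) K)) := by
  have hq2 := two_le_q hF
  have hmonic : (minpoly K M).Monic := minpoly.monic (Matrix.isIntegral M)
  have hμ0 : minpoly K M ≠ 0 := hmonic.ne_zero
  have hle := minpoly_natDegree_le_fin 3 M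
  by_cases hall1 : ∀ ν : K, (X - C ν) ∣ minpoly K M → ν ^ (q + 1) = 1
  · left
    refine ⟨1, ?_⟩
    rw [pow_eq_smul_iff, ← minpoly.dvd_iff]
    apply split_sqfree_dvd _ hμ0 hall hsq
    intro ν hν
    rw [IsRoot.def, eval_sub, eval_pow, eval_X, eval_C, hall1 ν hν, sub_self]
  · right
    push Not at hall1
    obtain ⟨β, hβ, hβ1⟩ := hall1
    obtain ⟨hdt, -, hqt⟩ := gcd3_facts q hq2
    set t := (q + 1) / Nat.gcd 3 (q + 1) with ht
    set j := (q - 1) * t with hj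
    have hβ0 : β ≠ 0 := root_ne_zero M o ho hMo β hβ
    have hσβ0 : σ β ≠ 0 := (map_ne_zero σ).2 hβ0
    have hβ' : (X - C (σ β)⁻¹) ∣ minpoly K M := by
      have := root_dual σ M hM o ho hMo β hβ0 1 (by rwa [pow_one])
      rwa [pow_one] at this
    have hne : (σ β)⁻¹ ≠ β := by
      intro h
      apply hβ1
      rw [pow_succ, ← hσ]
      rw [← h]
      have : σ ((σ β)⁻¹) = σ β := by rw [h]
      rw [h]
      nth_rw 2 [← h]
      exact mul_inv_cancel₀ hσβ0
    have hβq : β ^ (q ^ 2 - 1) = 1 := by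
      have := FiniteField.pow_card_sub_one_eq_one β hβ0
      rwa [hF] at this
    have hfac := Cfsg.Agent.S2512.sq_sub_one_factor q (by omega)
    have hj1 : β ^ ((q + 1) * j) = 1 := by
      have e : (q + 1) * j = (q ^ 2 - 1) * t := by rw [hj, hfac]; ring
      rw [e, pow_mul, hβq, one_pow]
    have hj2 : β ^ ((q - 2) * j) = 1 := by
      obtain ⟨s, hs⟩ := hqt
      have e : (q - 2) * j = (q ^ 2 - 1) * s := by
        rw [hj, hfac]
        calc (q - 2) * ((q - 1) * t) = (q - 1) * ((q - 2) * t) := by ring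
          _ = (q - 1) * ((q + 1) * s) := by rw [hs]
          _ = (q - 1) * (q + 1) * s := by ring
      rw [e, pow_mul, hβq, one_pow]
    refine ⟨β ^ j, ?_⟩
    rw [pow_eq_smul_iff, ← minpoly.dvd_iff]
    apply split_sqfree_dvd _ hμ0 hall hsq
    intro ν hν
    rw [IsRoot.def, eval_sub, eval_pow, eval_X, eval_C, sub_eq_zero]
    by_cases h1 : ν = β
    · rw [h1]
    by_cases h2 : ν = (σ β)⁻¹
    · rw [h2, inv_pow, hσ, ← pow_mul]
      apply inv_eq_of_mul_eq_one_left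
      rw [← pow_add]
      have e : j + q * j = (q + 1) * j := by ring
      rw [e, hj1]
    · -- three distinct roots
      have c1 : IsCoprime (X - C ν) (X - C β) :=
        isCoprime_X_sub_C_of_isUnit_sub (sub_ne_zero.2 h1).isUnit
      have c2 : IsCoprime (X - C ν) (X - C (σ β)⁻¹) :=
        isCoprime_X_sub_C_of_isUnit_sub (sub_ne_zero.2 h2).isUnit
      have c3 : IsCoprime (X - C β) (X - C (σ β)⁻¹) :=
        isCoprime_X_sub_C_of_isUnit_sub (sub_ne_zero.2 (Ne.symm hne)).isUnit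
      have d1 : (X - C β) * (X - C (σ β)⁻¹) ∣ minpoly K M := c3.mul_dvd hβ hβ'
      have d2 : (X - C ν) * ((X - C β) * (X - C (σ β)⁻¹)) ∣ minpoly K M :=
        (c1.mul_right c2).mul_dvd hν d1
      have hm : ((X - C ν) * ((X - C β) * (X - C (σ β)⁻¹)) : K[X]).Monic :=
        (monic_X_sub_C ν).mul ((monic_X_sub_C β).mul (monic_X_sub_C _))
      have hdeg3 : ((X - C ν) * ((X - C β) * (X - C (σ β)⁻¹)) : K[X]).natDegree = 3 := by
        rw [natDegree_mul (X_sub_C_ne_zero ν) (mul_ne_zero (X_sub_C_ne_zero β) (X_sub_C_ne_zero _)),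
          natDegree_mul (X_sub_C_ne_zero β) (X_sub_C_ne_zero _), natDegree_X_sub_C,
          natDegree_X_sub_C, natDegree_X_sub_C]
      have heq : minpoly K M = (X - C ν) * ((X - C β) * (X - C (σ β)⁻¹)) :=
        eq_of_monic_of_dvd_of_natDegree_le hm hmonic d2 (by rw [hdeg3]; exact hle)
      have hdegμ : (minpoly K M).natDegree = 3 := by rw [heq, hdeg3]
      have hd := det_eq_coeff M hdegμ
      rw [hdet, heq] at hd
      simp only [mul_coeff_zero, coeff_sub, coeff_X_zero, coeff_C_zero, zero_sub] at hd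
      have hprod : ν * β * (σ β)⁻¹ = 1 := by
        rw [hd]
        ring
      have hνβ : ν * β = σ β := by
        have := congrArg (fun z => z * σ β) hprod
        simp only [one_mul] at this
        rw [mul_assoc, inv_mul_cancel₀ hσβ0, mul_one] at this
        exact this
      have h3 : ν ^ j * β ^ j = β ^ j * β ^ j := by
        rw [← mul_pow, hνβ, hσ, ← pow_mul, ← pow_add]
        have e : q * j = j + j + (q - 2) * j := by
          have : q = 2 + (q - 2) := by omega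
          nth_rw 1 [this]
          ring
        rw [e, pow_add, hj2, mul_one]
      exact mul_right_cancel₀ (pow_ne_zero j hβ0) h3

end Three

section Three2

open Polynomial Matrix Cfsg.Agent.S2510 Cfsg.Agent.S2511

variable {K : Type*} [Field K] [Fintype K] {q : ℕ}

theorem case_square (hF : Fintype.card K = q ^ 2) (p : ℕ) [Fact p.Prime] [CharP K p]
    (hp2 : p ≠ 2) (σ : K →+* K) (hσ : ∀ x, σ x = x ^ q)
    (M : Matrix (Fin 3) (Fin 3) K) (hM : adjU σ M * M = 1) (hdet : M.det = 1) (o : ℕ) (ho : 1 ≤ o)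
    (hMo : M ^ o = 1)
    (hall : ∀ f : K[X], Irreducible f → f ∣ minpoly K M → f.natDegree = 1)
    (lam : K) (hlam2 : (X - C lam) ^ 2 ∣ minpoly K M) :
    ∃ c : K, M ^ (p * ((q + 1) / Nat.gcd 3 (q + 1))) = c • (1 : Matrix (Fin 3) (Fin 3) K) := by
  have hp : p.Prime := Fact.out
  have hp3 : 3 ≤ p := by
    have := hp.two_le
    omega
  have hq2 := two_le_q hF
  have hmonic : (minpoly K M).Monic := minpoly.monic (Matrix.isIntegral M)
  have hμ0 : minpoly K M ≠ 0 := hmonic.ne_zero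
  have hle := minpoly_natDegree_le_fin 3 M
  obtain ⟨hdt, h3t, -⟩ := gcd3_facts q hq2
  set t := (q + 1) / Nat.gcd 3 (q + 1) with ht
  have hlam1 : (X - C lam) ∣ minpoly K M := dvd_trans (dvd_pow_self _ (by norm_num)) hlam2
  have hlam0 : lam ≠ 0 := root_ne_zero M o ho hMo lam hlam1
  have hσl0 : σ lam ≠ 0 := (map_ne_zero σ).2 hlam0
  have hdual : (X - C (σ lam)⁻¹) ^ 2 ∣ minpoly K M := root_dual σ M hM o ho hMo lam hlam0 2 hlam2
  have hself : (σ lam)⁻¹ = lam := by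
    by_contra hne
    have c1 : IsCoprime (X - C lam) (X - C (σ lam)⁻¹) :=
      isCoprime_X_sub_C_of_isUnit_sub (sub_ne_zero.2 (Ne.symm hne)).isUnit
    have c2 : IsCoprime ((X - C lam) ^ 2) ((X - C (σ lam)⁻¹) ^ 2) := c1.pow
    have d1 := c2.mul_dvd hlam2 hdual
    have h4 := natDegree_le_of_dvd d1 hμ0
    rw [natDegree_mul (pow_ne_zero _ (X_sub_C_ne_zero _)) (pow_ne_zero _ (X_sub_C_ne_zero _)),
      natDegree_pow, natDegree_pow, natDegree_X_sub_C, natDegree_X_sub_C] at h4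
    omega
  have hlamq : lam ^ (q + 1) = 1 := by
    rw [pow_succ, ← hσ]
    have h1 : lam = (σ lam)⁻¹ := hself.symm
    nth_rw 2 [h1]
    exact mul_inv_cancel₀ hσl0
  have hlam3 : lam ^ (3 * (p * t)) = 1 := by
    obtain ⟨s, hs⟩ := h3t
    have e : 3 * (p * t) = (q + 1) * (s * p) := by
      calc 3 * (p * t) = (3 * t) * p := by ring
        _ = (q + 1) * s * p := by rw [hs]
        _ = (q + 1) * (s * p) := by ring
    rw [e, pow_mul, hlamq, one_pow]
  refine ⟨lam ^ (p * t), ?_⟩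
  rw [pow_eq_smul_iff, ← minpoly.dvd_iff]
  apply dvd_of_forall_prime_pow _ _ hμ0
  intro f e hf hfe
  rcases Nat.eq_zero_or_pos e with h0 | hpos
  · rw [h0, pow_zero]
    exact one_dvd _
  have hfμ : f ∣ minpoly K M := dvd_trans (dvd_pow_self f (by omega)) hfe
  obtain ⟨k, ν, hk, hfk⟩ := linear_form f (hall f hf hfμ)
  have hunit : IsUnit (C k : K[X]) := Polynomial.isUnit_C.2 hk.isUnit
  have hνe : (X - C ν) ^ e ∣ minpoly K M := by
    rw [hfk, mul_pow] at hfe
    exact dvd_trans (dvd_mul_left _ _) hfe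
  rw [hfk, mul_pow]
  apply (IsUnit.mul_left_dvd (hunit.pow e)).2
  by_cases hνl : ν = lam
  · rw [hνl]
    have he3 : e ≤ 3 := by
      have h4 := natDegree_le_of_dvd hνe hμ0
      rw [natDegree_pow, natDegree_X_sub_C, mul_one] at h4
      omega
    have h1 : (X - C lam : K[X]) ∣ X ^ 1 - C lam := by rw [pow_one]
    have h2 := pow_dvd_of_dvd p (X - C lam) 1 lam h1 e 1 (by rw [pow_one]; omega)
    rw [one_mul, pow_one] at h2
    have h3 : (X ^ p - C (lam ^ p) : K[X]) ∣ (X ^ p) ^ t - (C (lam ^ p)) ^ t :=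
      sub_dvd_pow_sub_pow _ _ _
    rw [← pow_mul, ← map_pow, ← pow_mul] at h3
    exact dvd_trans h2 h3
  · have c1 : IsCoprime (X - C lam) (X - C ν) :=
      isCoprime_X_sub_C_of_isUnit_sub (sub_ne_zero.2 (Ne.symm hνl)).isUnit
    have c2 : IsCoprime ((X - C lam) ^ 2) ((X - C ν) ^ e) := c1.pow
    have d1 := c2.mul_dvd hlam2 hνe
    have hdegP : (((X - C lam) ^ 2 * (X - C ν) ^ e : K[X])).natDegree = 2 + e := by
      rw [natDegree_mul (pow_ne_zero _ (X_sub_C_ne_zero _)) (pow_ne_zero _ (X_sub_C_ne_zero _)),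
        natDegree_pow, natDegree_pow, natDegree_X_sub_C, natDegree_X_sub_C, mul_one, mul_one]
    have h4 := natDegree_le_of_dvd d1 hμ0
    rw [hdegP] at h4
    have he1 : e = 1 := by omega
    rw [he1, pow_one] at d1 hdegP ⊢
    have hm : ((X - C lam) ^ 2 * (X - C ν) : K[X]).Monic :=
      ((monic_X_sub_C lam).pow 2).mul (monic_X_sub_C ν)
    have heq : minpoly K M = (X - C lam) ^ 2 * (X - C ν) :=
      eq_of_monic_of_dvd_of_natDegree_le hm hmonic d1 (by rw [hdegP]; exact hle)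
    have hdegμ : (minpoly K M).natDegree = 3 := by rw [heq, hdegP]
    have hd := det_eq_coeff M hdegμ
    rw [hdet, heq, pow_two] at hd
    simp only [mul_coeff_zero, coeff_sub, coeff_X_zero, coeff_C_zero, zero_sub] at hd
    have hprod : lam * lam * ν = 1 := by
      rw [hd]
      ring
    rw [dvd_iff_isRoot, IsRoot.def, eval_sub, eval_pow, eval_X, eval_C, sub_eq_zero]
    have h5 : ν ^ (p * t) * (lam ^ (p * t) * lam ^ (p * t)) =
        lam ^ (p * t) * (lam ^ (p * t) * lam ^ (p * t)) := by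
      have e1 : ν ^ (p * t) * (lam ^ (p * t) * lam ^ (p * t)) = (lam * lam * ν) ^ (p * t) := by
        rw [mul_pow, mul_pow]
        ring
      have e2 : lam ^ (p * t) * (lam ^ (p * t) * lam ^ (p * t)) = lam ^ (3 * (p * t)) := by
        rw [← pow_add, ← pow_add]
        congr 1
        ring
      rw [e1, e2, hprod, one_pow, hlam3]
    exact mul_right_cancel₀ (mul_ne_zero (pow_ne_zero _ hlam0) (pow_ne_zero _ hlam0)) h5

theorem NMinus_three (q : ℕ) : NMinus q 3 = q ^ 2 - q + 1 := by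
  rw [NMinus]
  apply Nat.div_eq_of_eq_mul_right (by omega)
  have hle : q ≤ q ^ 2 := by nlinarith
  obtain ⟨r, hr⟩ : ∃ r, q ^ 2 = q + r := ⟨q ^ 2 - q, by omega⟩
  have e : q ^ 2 - q = r := by omega
  rw [e]
  calc q ^ 3 + 1 = q * q ^ 2 + 1 := by ring
    _ = q * (q + r) + 1 := by rw [hr]
    _ = q ^ 2 + q * r + 1 := by ring
    _ = (q + r) + q * r + 1 := by rw [hr]
    _ = (q + 1) * (r + 1) := by ring

theorem gcd_NMinus_three (q : ℕ) (hq : 2 ≤ q) :
    Nat.gcd (NMinus q 3) (q + 1) = Nat.gcd 3 (q + 1) := by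
  rw [NMinus_three]
  have e : q ^ 2 - q + 1 = 3 + (q - 2) * (q + 1) := by
    obtain ⟨s, rfl⟩ : ∃ s, q = s + 2 := ⟨q - 2, by omega⟩
    have h1 : (s + 2) ^ 2 = (s + 2) + (s ^ 2 + 3 * s + 2) := by ring
    have h2 : (s + 2) ^ 2 - (s + 2) = s ^ 2 + 3 * s + 2 := by omega
    rw [h2]
    have h3 : s + 2 - 2 = s := by omega
    rw [h3]
    ring
  rw [e, Nat.gcd_add_mul_right_left]

theorem subset_dir (hF : Fintype.card K = q ^ 2) (p a : ℕ) [Fact p.Prime] [CharP K p]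
    (hp2 : p ≠ 2) (hq : q = p ^ a) (σ : K →+* K) (hσ : ∀ x, σ x = x ^ q)
    (hσ2 : ∀ a : K, σ (σ a) = a)
    (M : Matrix (Fin 3) (Fin 3) K) (hM : adjU σ M * M = 1) (hdet : M.det = 1) (o : ℕ) (ho : 1 ≤ o)
    (hMo : M ^ o = 1) :
    (∃ c : K, M ^ (q + 1) = c • (1 : Matrix (Fin 3) (Fin 3) K)) ∨
    (∃ c : K, M ^ (p * (q + 1) / Nat.gcd 3 (q + 1)) = c • (1 : Matrix (Fin 3) (Fin 3) K)) ∨
    (∃ c : K, M ^ ((q ^ 2 - 1) / Nat.gcd 3 (q + 1)) = c • (1 : Matrix (Fin 3) (Fin 3) K)) ∨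
    (∃ c : K, M ^ ((q ^ 2 - q + 1) / Nat.gcd 3 (q + 1)) = c • (1 : Matrix (Fin 3) (Fin 3) K)) := by
  have hq2 := two_le_q hF
  have hd1 : Nat.gcd 3 (q + 1) ∣ q + 1 := Nat.gcd_dvd_right _ _
  by_cases hcub : ∃ f : K[X], Irreducible f ∧ f ∣ minpoly K M ∧ f.natDegree = 3
  · obtain ⟨f, hf, hfμ, hd3⟩ := hcub
    right; right; right
    have := cubic_case hF p a hq σ hσ hσ2 M hM hdet o ho hMo f hf hfμ hd3
    rw [gcd_NMinus_three q hq2, NMinus_three] at this
    exact this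
  · have hall : ∀ f : K[X], Irreducible f → f ∣ minpoly K M → f.natDegree = 1 := by
      intro f hf hfμ
      rcases irr_factor_deg hF p a hq σ hσ hσ2 M hM o ho hMo f hf hfμ with h | h
      · exact h
      · exact absurd ⟨f, hf, hfμ, h⟩ hcub
    by_cases hsq : ∃ lam : K, (X - C lam) ^ 2 ∣ minpoly K M
    · obtain ⟨lam, hlam2⟩ := hsq
      right; left
      rw [Nat.mul_div_assoc p hd1]
      exact case_square hF p hp2 σ hσ M hM hdet o ho hMo hall lam hlam2
    · push Not at hsq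
      rcases case_sqfree hF σ hσ M hM hdet o ho hMo hall hsq with h | h
      · exact Or.inl h
      · right; right; left
        rw [Cfsg.Agent.S2512.sq_sub_one_factor q (by omega), Nat.mul_div_assoc _ hd1]
        exact h

end Three2

section RealizeFull

open Matrix Polynomial Module Cfsg.Agent.S0277 Cfsg.Agent.Lib.Helper8.SUReg Cfsg.Agent.S2511

universe u v

variable {K : Type v} [Field K] [Finite K]

theorem realizeFull (σ : K →+* K) (hσne : σ ≠ RingHom.id K) (hσ2 : ∀ a : K, σ (σ a) = a)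
    (D : ℕ) (V : Type u) [AddCommGroup V] [Module K V] [FiniteDimensional K V]
    (B : V →ₛₗ[σ] V →ₗ[K] K) (hS : B.IsSymm) (hB : B.SeparatingLeft)
    (hrank : finrank K V = D) (T : V →ₗ[K] V) (hT : ∀ x y, B (T x) (T y) = B x y)
    (hdet : LinearMap.det T = 1) :
    ∃ M : Matrix (Fin D) (Fin D) K, adjU σ M * M = 1 ∧ M.det = 1 ∧
      ∀ (j : ℕ) (c : K), M ^ j = c • (1 : Matrix (Fin D) (Fin D) K) →
        T ^ j = c • (1 : V →ₗ[K] V) := by
  classical
  obtain ⟨φ, hφ⟩ := Cfsg.Agent.Lib.Helper8.HermSplit.exists_isometry hσne hσ2 D V B hS hB hrank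
  let b : Basis (Fin D) K V := (Pi.basisFun K (Fin D)).map φ.symm
  have hrepr : ∀ v : V, (b.repr v : Fin D → K) = φ v := by
    intro v
    funext i
    simp [b]
  let Φ := LinearMap.toMatrixAlgEquiv b
  have hmul : ∀ v : V, (Φ T) *ᵥ (φ v) = φ (T v) := by
    intro v
    have := LinearMap.toMatrix_mulVec_repr b b T v
    rw [hrepr, hrepr] at this
    exact this
  refine ⟨Φ T, ?_, ?_, ?_⟩
  · rw [adjU_eq_adj, ← isom_iff]
    intro x y
    obtain ⟨x', rfl⟩ := φ.surjective x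
    obtain ⟨y', rfl⟩ := φ.surjective y
    rw [hmul, hmul, hφ, hφ, hT]
  · have : (Φ T).det = LinearMap.det T := LinearMap.det_toMatrix b T
    rw [this, hdet]
  · intro j c hj
    apply Φ.injective
    rw [map_pow, hj, map_smul, map_one]

end RealizeFull

section Constructions

open Matrix Polynomial Module Cfsg.Agent.S2510 Cfsg.Agent.S2511

variable {K : Type*} [Field K] [Fintype K] {q : ℕ}

theorem exists_gen (hF : Fintype.card K = q ^ 2) :
    ∃ β : K, β ≠ 0 ∧ ∀ j : ℕ, β ^ j = 1 ↔ (q ^ 2 - 1) ∣ j := by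
  obtain ⟨ζ, hζ⟩ := IsCyclic.exists_generator (α := Kˣ)
  have hordζ : orderOf ζ = q ^ 2 - 1 := by
    rw [orderOf_eq_card_of_forall_mem_zpowers hζ, Nat.card_units, Nat.card_eq_fintype_card, hF]
  refine ⟨(ζ : K), Units.ne_zero ζ, ?_⟩
  intro j
  rw [← Units.val_pow_eq_pow_val, Units.val_eq_one, ← orderOf_dvd_iff_pow_eq_one, hordζ]

theorem exists_lambda (hF : Fintype.card K = q ^ 2) :
    ∃ lam : K, lam ≠ 0 ∧ lam ^ (q + 1) = 1 ∧ ∀ j : ℕ, lam ^ j = 1 → (q + 1) ∣ j := by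
  have hq2 := two_le_q hF
  obtain ⟨β, hβ0, hβ⟩ := exists_gen hF
  have hfac := Cfsg.Agent.S2512.sq_sub_one_factor q (by omega)
  refine ⟨β ^ (q - 1), pow_ne_zero _ hβ0, ?_, ?_⟩
  · rw [← pow_mul, hβ, hfac]
  · intro j hj
    rw [← pow_mul, hβ, hfac] at hj
    exact (Nat.mul_dvd_mul_iff_left (by omega : 0 < q - 1)).1 hj

omit [Fintype K] in
theorem adjU_diagonal {ι : Type*} [Fintype ι] [DecidableEq ι] (σ : K →+* K) (v : ι → K) :
    adjU σ (Matrix.diagonal v) = Matrix.diagonal (fun i => σ (v i)) := by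
  ext i j
  rw [adjU_apply]
  by_cases h : i = j
  · subst h
    rw [Matrix.diagonal_apply_eq, Matrix.diagonal_apply_eq]
  · rw [Matrix.diagonal_apply_ne _ h, Matrix.diagonal_apply_ne _ (Ne.symm h), map_zero]

theorem mem_qplus1 (hF : Fintype.card K = q ^ 2) (σ : K →+* K) (hσ : ∀ x, σ x = x ^ q) :
    ∃ g : PSU 3 K q, (q + 1) ∣ orderOf g := by
  obtain ⟨lam, hl0, hlq, hlord⟩ := exists_lambda hF
  let v : Fin 3 → K := ![lam, lam⁻¹, 1]
  have hv : ∀ i, σ (v i) * v i = 1 := by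
    intro i
    fin_cases i
    · change σ lam * lam = 1
      rw [hσ, ← pow_succ, hlq]
    · change σ lam⁻¹ * lam⁻¹ = 1
      rw [hσ, ← pow_succ, inv_pow, hlq, inv_one]
    · change σ 1 * 1 = 1
      rw [map_one, mul_one]
  have hM : adjU σ (Matrix.diagonal v) * Matrix.diagonal v = 1 := by
    rw [adjU_diagonal, Matrix.diagonal_mul_diagonal]
    have : (fun i => σ (v i) * v i) = fun _ => (1 : K) := funext hv
    rw [this, Matrix.diagonal_one]
  have hdet : (Matrix.diagonal v).det = 1 := by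
    rw [Matrix.det_diagonal, Fin.prod_univ_three]
    change lam * lam⁻¹ * 1 = 1
    rw [mul_inv_cancel₀ hl0, mul_one]
  refine ⟨QuotientGroup.mk (mkSU σ hσ 3 (Matrix.diagonal v) hdet hM), ?_⟩
  apply dvd_orderOf_mk hF 3 (by norm_num)
  intro j c hj
  rw [mkSU_val, Matrix.diagonal_pow] at hj
  have h2 := congrFun (congrFun hj 2) 2
  rw [Matrix.diagonal_apply_eq, Matrix.smul_apply, Matrix.one_apply_eq, smul_eq_mul, mul_one] at h2
  have h0 := congrFun (congrFun hj 0) 0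
  rw [Matrix.diagonal_apply_eq, Matrix.smul_apply, Matrix.one_apply_eq, smul_eq_mul, mul_one] at h0
  have hc : c = 1 := by
    rw [← h2]
    change (1 : K) ^ j = 1
    rw [one_pow]
  apply hlord
  rw [← hc, ← h0]
  rfl

end Constructions

section Constructions2

open Matrix Polynomial Module Cfsg.Agent.S2510 Cfsg.Agent.S2511

variable {K : Type*} [Field K] [Fintype K] {q : ℕ}

theorem mem_pt (hF : Fintype.card K = q ^ 2) (p a : ℕ) [Fact p.Prime] [CharP K p]
    (hq : q = p ^ a) (σ : K →+* K) (hσ : ∀ x, σ x = x ^ q) (hσne : σ ≠ RingHom.id K)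
    (hσ2 : ∀ a : K, σ (σ a) = a) :
    ∃ g : PSU 3 K q, p * ((q + 1) / Nat.gcd 3 (q + 1)) ∣ orderOf g := by
  classical
  have hp : p.Prime := Fact.out
  have hq2 := two_le_q hF
  obtain ⟨lam, hl0, hlq, hlord⟩ := exists_lambda hF
  have hU := sblock_unip p σ hσne hσ2 1 le_rfl
  have e : p ^ (1 - 1) + 1 = 2 := by norm_num
  rw [e, pow_one] at hU
  obtain ⟨U, hUu, hUdet, hU⟩ := hU
  set ν : K := (lam ^ 2)⁻¹ with hν
  have hσlam : σ lam * lam = 1 := by rw [hσ, ← pow_succ, hlq]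
  have hσν : σ ν * ν = 1 := by
    rw [hν, map_inv₀, map_pow, ← mul_inv, ← mul_pow, hσlam, one_pow, inv_one]
  set B : Matrix (Fin 2 ⊕ Fin 1) (Fin 2 ⊕ Fin 1) K :=
    Matrix.fromBlocks (lam • U) 0 0 (ν • (1 : Matrix (Fin 1) (Fin 1) K)) with hB
  have hBu : adjU σ B * B = 1 := by
    rw [hB, adjU_fromBlocks, Matrix.fromBlocks_multiply]
    simp only [Matrix.mul_zero, Matrix.zero_mul, add_zero, zero_add]
    rw [adjU_smul, adjU_smul, adjU_one, smul_mul_smul_comm, smul_mul_smul_comm, hσlam, hσν, hUu,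
      one_smul, one_smul, mul_one, Matrix.fromBlocks_one]
  have hBdet : B.det = 1 := by
    rw [hB, Matrix.det_fromBlocks_zero₁₂, Matrix.det_smul, Matrix.det_smul, hUdet, Matrix.det_one,
      Fintype.card_fin, Fintype.card_fin, mul_one, mul_one, pow_one, hν,
      mul_inv_cancel₀ (pow_ne_zero 2 hl0)]
  let Φ := Matrix.reindexAlgEquiv K K (finSumFinEquiv : Fin 2 ⊕ Fin 1 ≃ Fin 3)
  have hMu : adjU σ (Φ B) * Φ B = 1 := by rw [adjU_reindex, ← map_mul, hBu, map_one]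
  have hMdet : (Φ B).det = 1 := by rw [Matrix.det_reindexAlgEquiv, hBdet]
  refine ⟨QuotientGroup.mk (mkSU σ hσ 3 (Φ B) hMdet hMu), ?_⟩
  apply dvd_orderOf_mk hF 3 (by norm_num)
  intro j c hj
  rw [mkSU_val] at hj
  have h1 : B ^ j = c • (1 : Matrix (Fin 2 ⊕ Fin 1) (Fin 2 ⊕ Fin 1) K) := by
    apply Φ.injective
    rw [map_pow, hj, map_smul, map_one]
  rw [hB, Cfsg.Agent.S2468.fromBlocks_pow', Cfsg.Agent.S2468.fromBlocks_eq_smul_one] at h1
  obtain ⟨h2, h3⟩ := h1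
  rw [_root_.smul_pow] at h2 h3
  have h4 : U ^ j = ((lam ^ j)⁻¹ * c) • (1 : Matrix (Fin 2) (Fin 2) K) := by
    rw [mul_smul, ← h2, smul_smul, inv_mul_cancel₀ (pow_ne_zero j hl0), one_smul]
  obtain ⟨hc1, hpj⟩ := hU j _ h4
  have hc : c = lam ^ j := by
    have h5 : lam ^ j * ((lam ^ j)⁻¹ * c) = lam ^ j * 1 := by rw [hc1]
    rw [← mul_assoc, mul_inv_cancel₀ (pow_ne_zero j hl0), one_mul, mul_one] at h5
    exact h5
  rw [one_pow] at h3
  have hνj : ν ^ j = c := by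
    have := congrFun (congrFun h3 0) 0
    rw [Matrix.smul_apply, Matrix.smul_apply, Matrix.one_apply_eq, smul_eq_mul, smul_eq_mul,
      mul_one, mul_one] at this
    exact this
  have hl3 : lam ^ (3 * j) = 1 := by
    have h5 : ν ^ j * lam ^ (2 * j) = 1 := by
      rw [hν, inv_pow, ← pow_mul, inv_mul_cancel₀ (pow_ne_zero _ hl0)]
    rw [hνj, hc, ← pow_add] at h5
    have e3 : j + 2 * j = 3 * j := by ring
    rwa [e3] at h5
  have h6 : (q + 1) ∣ j * 3 := by
    rw [mul_comm]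
    exact hlord _ hl3
  have h7 : (q + 1) / Nat.gcd (q + 1) 3 ∣ j := (dvd_mul_iff_div_gcd (q + 1) 3 j (by omega)).1 h6
  rw [Nat.gcd_comm] at h7
  have hpq : p ∣ q := p_dvd_q hF p a hq
  have hcop : Nat.Coprime p ((q + 1) / Nat.gcd 3 (q + 1)) := by
    have h8 : Nat.Coprime p (q + 1) := by
      rw [Nat.Prime.coprime_iff_not_dvd hp]
      intro h
      have := (Nat.dvd_add_right hpq).1 h
      exact hp.one_lt.ne' (Nat.dvd_one.1 this)
    exact Nat.Coprime.coprime_dvd_right (Nat.div_dvd_of_dvd (Nat.gcd_dvd_right _ _)) h8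
  exact hcop.mul_dvd_of_dvd_of_dvd hpj h7

theorem mem_torus (hF : Fintype.card K = q ^ 2) (σ : K →+* K) (hσ : ∀ x, σ x = x ^ q)
    (hσne : σ ≠ RingHom.id K) (hσ2 : ∀ a : K, σ (σ a) = a) :
    ∃ g : PSU 3 K q, (q - 1) * ((q + 1) / Nat.gcd 3 (q + 1)) ∣ orderOf g := by
  classical
  have hq2 := two_le_q hF
  obtain ⟨β, hβ0, hβ⟩ := exists_gen hF
  have hσβ0 : σ β ≠ 0 := (map_ne_zero σ).2 hβ0
  set β' : K := (σ β)⁻¹ with hβ'
  set γ : K := σ β * β⁻¹ with hγ
  have h1 : σ β * β' = 1 := mul_inv_cancel₀ hσβ0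
  have h2 : σ β' * β = 1 := by rw [hβ', map_inv₀, hσ2, inv_mul_cancel₀ hβ0]
  have h3 : σ γ * γ = 1 := by
    rw [hγ, map_mul, map_inv₀, hσ2]
    field_simp
  clear_value β' γ
  let B : (K × K × K) →ₛₗ[σ] (K × K × K) →ₗ[K] K :=
    LinearMap.mk₂'ₛₗ σ (RingHom.id K)
      (fun x y => σ x.1 * y.2.1 + σ x.2.1 * y.1 + σ x.2.2 * y.2.2)
      (fun x x' y => by
        simp only [Prod.fst_add, Prod.snd_add, map_add]
        ring)
      (fun c x y => by
        simp only [Prod.smul_fst, Prod.smul_snd, smul_eq_mul, map_mul]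
        ring)
      (fun x y y' => by
        simp only [Prod.fst_add, Prod.snd_add]
        ring)
      (fun c x y => by
        simp only [Prod.smul_fst, Prod.smul_snd, smul_eq_mul, RingHom.id_apply]
        ring)
  have hBapp : ∀ x y : K × K × K, B x y = σ x.1 * y.2.1 + σ x.2.1 * y.1 + σ x.2.2 * y.2.2 :=
    fun x y => rfl
  have hS : B.IsSymm := by
    constructor
    intro x y
    rw [hBapp, hBapp]
    simp only [map_add, map_mul, hσ2]
    ring
  have hBsep : B.SeparatingLeft := by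
    intro x hx
    have e1 := hx (0, 1, 0)
    have e2 := hx (1, 0, 0)
    have e3 := hx (0, 0, 1)
    rw [hBapp] at e1 e2 e3
    simp only [mul_zero, mul_one, add_zero, zero_add] at e1 e2 e3
    have f1 : x.1 = 0 := σ.injective (by rw [e1, map_zero])
    have f2 : x.2.1 = 0 := σ.injective (by rw [e2, map_zero])
    have f3 : x.2.2 = 0 := σ.injective (by rw [e3, map_zero])
    exact Prod.ext f1 (Prod.ext f2 f3)
  let T : (K × K × K) →ₗ[K] (K × K × K) :=
    (Algebra.lmul K K β).prodMap ((Algebra.lmul K K β').prodMap (Algebra.lmul K K γ))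
  have hTapp : ∀ x : K × K × K, T x = (β * x.1, β' * x.2.1, γ * x.2.2) := fun x => rfl
  have hTpow : ∀ (j : ℕ) (x : K × K × K),
      (T ^ j) x = (β ^ j * x.1, β' ^ j * x.2.1, γ ^ j * x.2.2) := by
    intro j
    induction j with
    | zero => intro x; simp
    | succ j ih =>
      intro x
      rw [pow_succ, Module.End.mul_apply, hTapp, ih]
      simp only
      rw [pow_succ, pow_succ, pow_succ, mul_assoc, mul_assoc, mul_assoc]
  have hTisom : ∀ x y, B (T x) (T y) = B x y := by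
    intro x y
    rw [hBapp, hBapp, hTapp, hTapp]
    simp only [map_mul]
    have e1 : σ β * σ x.1 * (β' * y.2.1) = (σ β * β') * (σ x.1 * y.2.1) := by ring
    have e2 : σ β' * σ x.2.1 * (β * y.1) = (σ β' * β) * (σ x.2.1 * y.1) := by ring
    have e3 : σ γ * σ x.2.2 * (γ * y.2.2) = (σ γ * γ) * (σ x.2.2 * y.2.2) := by ring
    rw [e1, e2, e3, h1, h2, h3, one_mul, one_mul, one_mul]
  have hdetT : LinearMap.det T = 1 := by
    rw [LinearMap.det_prodMap, LinearMap.det_prodMap, ← Algebra.norm_apply, ← Algebra.norm_apply,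
      ← Algebra.norm_apply, Algebra.norm_self]
    simp only [MonoidHom.id_apply]
    rw [hβ', hγ]
    field_simp
  have hrank : finrank K (K × K × K) = 3 := by
    rw [Module.finrank_prod, Module.finrank_prod, Module.finrank_self]
  obtain ⟨M, hMu, hMdet, hMT⟩ := realizeFull σ hσne hσ2 3 (K × K × K) B hS hBsep hrank T hTisom
    hdetT
  refine ⟨QuotientGroup.mk (mkSU σ hσ 3 M hMdet hMu), ?_⟩
  apply dvd_orderOf_mk hF 3 (by norm_num)
  intro j c hj
  rw [mkSU_val] at hj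
  have hTj := hMT j c hj
  have hcomp := congrArg (fun f : (K × K × K) →ₗ[K] (K × K × K) => f (1, 1, 1)) hTj
  simp only [hTpow, LinearMap.smul_apply, Module.End.one_apply, Prod.smul_mk, smul_eq_mul,
    mul_one, Prod.mk.injEq] at hcomp
  obtain ⟨hc1, hc2, hc3⟩ := hcomp
  have hfac := Cfsg.Agent.S2512.sq_sub_one_factor q (by omega)
  -- (a)
  have ha : β ^ ((q + 1) * j) = 1 := by
    have e1 : β' ^ j * (σ β) ^ j = 1 := by rw [← mul_pow, mul_comm, h1, one_pow]
    rw [hc2, hσ, ← hc1, ← pow_mul, ← pow_add] at e1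
    have e2 : j + q * j = (q + 1) * j := by ring
    rwa [e2] at e1
  have ha' : (q - 1) ∣ j := by
    rw [hβ, hfac, mul_comm (q - 1) (q + 1)] at ha
    exact (Nat.mul_dvd_mul_iff_left (by omega : 0 < q + 1)).1 ha
  -- (b)
  have hb : β ^ ((q - 2) * j) = 1 := by
    have e1 : γ * β = σ β := by
      rw [hγ, mul_assoc, inv_mul_cancel₀ hβ0, mul_one]
    have e2 : γ ^ j * β ^ j = β ^ (q * j) := by rw [← mul_pow, e1, hσ, ← pow_mul]
    rw [hc3, ← hc1] at e2
    have e3 : q * j = (j + j) + (q - 2) * j := by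
      have : q = 2 + (q - 2) := by omega
      nth_rw 1 [this]
      ring
    rw [e3, pow_add, pow_add] at e2
    have e4 : β ^ j * β ^ j * 1 = β ^ j * β ^ j * β ^ ((q - 2) * j) := by rw [mul_one]; exact e2
    exact (mul_left_cancel₀ (mul_ne_zero (pow_ne_zero _ hβ0) (pow_ne_zero _ hβ0)) e4).symm
  obtain ⟨j', hj'⟩ := ha'
  rw [hβ, hfac, hj'] at hb
  have hb' : (q + 1) ∣ j' * (q - 2) := by
    have e5 : (q - 2) * ((q - 1) * j') = (q - 1) * (j' * (q - 2)) := by ring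
    rw [e5] at hb
    exact (Nat.mul_dvd_mul_iff_left (by omega : 0 < q - 1)).1 hb
  have h7 := (dvd_mul_iff_div_gcd (q + 1) (q - 2) j' (by omega)).1 hb'
  have hg : Nat.gcd (q + 1) (q - 2) = Nat.gcd 3 (q + 1) := by
    have e6 : q + 1 = 3 + (q - 2) := by omega
    rw [e6, Nat.gcd_add_self_left, Nat.gcd_self_add_right]
  rw [hg] at h7
  rw [hj']
  exact Nat.mul_dvd_mul_left _ h7

end Constructions2

/-- The set of element orders of PSU(3, q) for an odd prime power q = p^n: writing d = gcd(3, q + 1), a positive integer is the order of some element exactly when it divides one of q + 1, p(q + 1)/d, (q² − 1)/d, (q² − q + 1)/d. -/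
theorem result {F : Type*} [Field F] [Fintype F] (p : ℕ) [Fact p.Prime] [CharP F p] (hp : p ≠ 2) (q : ℕ) (hF : Fintype.card F = q ^ 2) :
    Set.range (orderOf : Cfsg.PSU 3 F q → ℕ) =
      {s : ℕ | s ∣ q + 1} ∪ {s : ℕ | s ∣ p * (q + 1) / Nat.gcd 3 (q + 1)} ∪
        {s : ℕ | s ∣ (q ^ 2 - 1) / Nat.gcd 3 (q + 1)} ∪ {s : ℕ | s ∣ (q ^ 2 - q + 1) / Nat.gcd 3 (q + 1)} := by
  classical
  obtain ⟨a, hq⟩ : ∃ a, q = p ^ a := by
    obtain ⟨n, hprime, hcard⟩ := FiniteField.card F p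
    have hdvd : q ∣ p ^ (n : ℕ) := by
      rw [← hcard, hF]
      exact Dvd.intro_left _ (by ring)
    obtain ⟨j, _, hj⟩ := (Nat.dvd_prime_pow hprime).1 hdvd
    exact ⟨j, hj⟩
  obtain ⟨σ, hσ, hσne, hσ2⟩ := Cfsg.Agent.S0277.exists_frob hF
  have hfinS := Cfsg.Agent.S2511.finite_SU (K := F) (q := q) 3
  have hfinP := Cfsg.Agent.S2511.finite_PSU (K := F) (q := q) 3
  have hclosed := Cfsg.Agent.S2510.range_dvd_closed (G := Cfsg.PSU 3 F q)
  have hq2 := Cfsg.Agent.S2511.two_le_q hF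
  have hd1 : Nat.gcd 3 (q + 1) ∣ q + 1 := Nat.gcd_dvd_right _ _
  ext s
  constructor
  · rintro ⟨g, rfl⟩
    obtain ⟨A, rfl⟩ := QuotientGroup.mk_surjective g
    have hM := Cfsg.Agent.S2511.unitary_of_mem σ hσ 3 A
    have hdet : (A.1.1 : Matrix (Fin 3) (Fin 3) F).det = 1 := A.1.2
    have ho : 1 ≤ orderOf A := orderOf_pos A
    have hMo : (A.1.1 : Matrix (Fin 3) (Fin 3) F) ^ (orderOf A) = 1 := by
      have h1 := Cfsg.Agent.S2511.coe_pow_SU 3 A (orderOf A)
      rw [pow_orderOf_eq_one] at h1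
      rw [← h1]
      rfl
    rcases subset_dir hF p a hp hq σ hσ hσ2 _ hM hdet _ ho hMo with
      ⟨c, hc⟩ | ⟨c, hc⟩ | ⟨c, hc⟩ | ⟨c, hc⟩
    · exact Or.inl (Or.inl (Or.inl (Cfsg.Agent.S2511.orderOf_mk_dvd hF 3 (by norm_num) A _ c hc)))
    · exact Or.inl (Or.inl (Or.inr (Cfsg.Agent.S2511.orderOf_mk_dvd hF 3 (by norm_num) A _ c hc)))
    · exact Or.inl (Or.inr (Cfsg.Agent.S2511.orderOf_mk_dvd hF 3 (by norm_num) A _ c hc))
    · exact Or.inr (Cfsg.Agent.S2511.orderOf_mk_dvd hF 3 (by norm_num) A _ c hc)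
  · intro hs
    rcases hs with ((h | h) | h) | h
    · obtain ⟨g, hg⟩ := mem_qplus1 hF σ hσ
      exact hclosed _ ⟨g, rfl⟩ _ (dvd_trans h hg)
    · obtain ⟨g, hg⟩ := mem_pt hF p a hq σ hσ hσne hσ2
      have h' : s ∣ p * (q + 1) / Nat.gcd 3 (q + 1) := h
      rw [Nat.mul_div_assoc p hd1] at h'
      exact hclosed _ ⟨g, rfl⟩ _ (dvd_trans h' hg)
    · obtain ⟨g, hg⟩ := mem_torus hF σ hσ hσne hσ2
      have h' : s ∣ (q ^ 2 - 1) / Nat.gcd 3 (q + 1) := h
      rw [Cfsg.Agent.S2512.sq_sub_one_factor q (by omega), Nat.mul_div_assoc _ hd1] at h'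
      exact hclosed _ ⟨g, rfl⟩ _ (dvd_trans h' hg)
    · obtain ⟨g, hg⟩ := Cfsg.Agent.S2511.c1U_mem hF p a hq σ hσ hσne hσ2 3 (by norm_num)
      have h' : s ∣ (q ^ 2 - q + 1) / Nat.gcd 3 (q + 1) := h
      have e : Cfsg.Agent.S2511.c1U q 3 = (q ^ 2 - q + 1) / Nat.gcd 3 (q + 1) := by
        rw [Cfsg.Agent.S2511.c1U, Cfsg.Agent.S2511.NU, if_neg (by decide), gcd_NMinus_three q hq2,
          NMinus_three]
      rw [e] at hg
      exact hclosed _ ⟨g, rfl⟩ _ (dvd_trans h' hg)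

end Cfsg.Agent.S2366
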