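import Cfsg.Statements.S2365
import Mathlib
import Cfsg.Agent.S2366
import Cfsg.Agent.S2364
import Cfsg.Agent.S0278

set_option autoImplicit false
open Cfsg

namespace Cfsg.Agent.S2365

section Form

open Matrix Cfsg.Agent.S2511 Cfsg.Agent.S0277 Cfsg.Agent.Lib.Helper5.UnitaryCount
  Cfsg.Agent.Lib.Helper5.HermCount

variable {K : Type*} [Field K]

theorem stdB_adj (σ : K →+* K) (m : ℕ) (M : Matrix (Fin m) (Fin m) K) (x y : Fin m → K) :
    stdB m σ (M *ᵥ x) y = stdB m σ x (adjU σ M *ᵥ y) := by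
  rw [stdB_apply, stdB_apply]
  simp only [Matrix.mulVec, dotProduct, map_sum, map_mul, Finset.sum_mul, Finset.mul_sum,
    adjU_apply]
  rw [Finset.sum_comm]
  refine Finset.sum_congr rfl (fun j _ => Finset.sum_congr rfl (fun i _ => ?_))
  ring

theorem stdB_unitary (σ : K →+* K) (m : ℕ) (s : Matrix (Fin m) (Fin m) K)
    (hs : adjU σ s * s = 1) (x y : Fin m → K) :
    stdB m σ (s *ᵥ x) (s *ᵥ y) = stdB m σ x y := by
  rw [stdB_adj, Matrix.mulVec_mulVec, hs, Matrix.one_mulVec]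

end Form

section Count

open Matrix Cfsg.Agent.S2511 Cfsg.Agent.S0277 Cfsg.Agent.Lib.Helper5.UnitaryCount
  Cfsg.Agent.Lib.Helper5.HermCount

variable {K : Type*} [Field K] [Fintype K] {q : ℕ}

theorem unitary_count (hF : Fintype.card K = q ^ 2) (σ : K →+* K) (hσ : ∀ x, σ x = x ^ q)
    (hσne : σ ≠ RingHom.id K) (hσ2 : ∀ a : K, σ (σ a) = a) (m : ℕ)
    (s H : Matrix (Fin m) (Fin m) K) (hs : adjU σ s * s = 1) (r : ℕ) (hr : r.Prime)
    (hrq : ¬ r ∣ q) (hsr : s ^ r = 1) (hHs : H * s = s * H)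
    (c₀ δ : K) (hc₀ : c₀ ≠ 0) (hδ : adjU σ H = δ • H) (hc : σ c₀ = c₀ * δ)
    (hfix : ∀ a : Fin m → K, s *ᵥ a = a → H *ᵥ a = 0) (i : ℕ) (hw : H.rank = i + 1) :
    r ∣ (if Even i then q ^ (i + 1) + 1 else q ^ (i + 1) - 1) := by
  classical
  have hq2 := two_le_q hF
  have : Fact r.Prime := ⟨hr⟩
  let B := stdB m σ
  let γ : (Fin m → K) →ₛₗ[σ] (Fin m → K) →ₗ[K] K := c₀ • (B.comp (Matrix.toLin' H))
  have hγ : ∀ a b, γ a b = c₀ * B (H *ᵥ a) b := by
    intro a b
    simp [γ]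
  have hBS : B.IsSymm := stdB_isSymm m σ hσ2
  have hσinj : Function.Injective σ := RingHom.injective σ
  have hγS : γ.IsSymm := by
    constructor
    intro a b
    rw [hγ, hγ, map_mul, hBS.eq, hc]
    change _ = c₀ * stdB m σ (H *ᵥ b) a
    rw [stdB_adj, hδ, Matrix.smul_mulVec, map_smul, smul_eq_mul]
    change c₀ * δ * stdB m σ b (H *ᵥ a) = _
    ring
  have hker : ∀ a, γ a = 0 ↔ H *ᵥ a = 0 := by
    intro a
    constructor
    · intro h
      apply stdB_sepLeft m σ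
      intro b
      have h1 := hγ a b
      rw [h, LinearMap.zero_apply] at h1
      rcases mul_eq_zero.1 h1.symm with h2 | h2
      · exact absurd h2 hc₀
      · exact h2
    · intro h
      apply LinearMap.ext
      intro b
      rw [hγ, h, map_zero, LinearMap.zero_apply, mul_zero]
  set R : Submodule K (Fin m → K) := LinearMap.ker γ with hR
  obtain ⟨T', hT'⟩ := Submodule.exists_isCompl R
  have hγR : ∀ ρ ∈ R, ∀ b, γ ρ b = 0 := by
    intro ρ hρ b
    rw [LinearMap.mem_ker.1 hρ, LinearMap.zero_apply]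
  have hγR' : ∀ ρ ∈ R, ∀ b, γ b ρ = 0 := by
    intro ρ hρ b
    apply hσinj
    rw [hγS.eq, hγR ρ hρ, map_zero]
  let γ' : T' →ₛₗ[σ] T' →ₗ[K] K := γ.domRestrict₁₂ T' T'
  have hS' : γ'.IsSymm := hγS.domRestrict _
  have hB' : γ'.SeparatingLeft := by
    intro t ht
    have h1 : (t : Fin m → K) ∈ R := by
      rw [hR, LinearMap.mem_ker]
      apply LinearMap.ext
      intro b
      have hb : b ∈ R ⊔ T' := by rw [hT'.sup_eq_top]; exact Submodule.mem_top
      obtain ⟨ρ, hρ, t', ht', rfl⟩ := Submodule.mem_sup.1 hb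
      rw [map_add, hγR' ρ hρ, zero_add, LinearMap.zero_apply]
      have := ht ⟨t', ht'⟩
      rw [LinearMap.domRestrict₁₂_apply] at this
      exact this
    have h2 : (t : Fin m → K) ∈ R ⊓ T' := ⟨h1, t.2⟩
    rw [hT'.inf_eq_bot] at h2
    exact Subtype.ext ((Submodule.mem_bot K).1 h2)
  have hRker : R = LinearMap.ker (Matrix.toLin' H) := by
    ext a
    rw [hR, LinearMap.mem_ker, LinearMap.mem_ker, hker, Matrix.toLin'_apply]
  have hfrR : Module.finrank K R + (i + 1) = m := by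
    have h1 := LinearMap.finrank_range_add_finrank_ker (Matrix.toLin' H)
    rw [← hRker, Module.finrank_fin_fun] at h1
    have h2 : Module.finrank K (LinearMap.range (Matrix.toLin' H)) = i + 1 := by
      rw [← hw, Matrix.rank, Matrix.toLin'_apply']
    omega
  have hfrT : Module.finrank K T' = i + 1 := by
    have h1 := Submodule.finrank_add_eq_of_isCompl hT'
    rw [Module.finrank_fin_fun] at h1
    omega
  have hcardT := card_unit (B := γ') hσne hσ2 hS' hB' hfrT
  -- the count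
  let e := Submodule.prodEquivOfIsCompl R T' hT'
  have key : ∀ ρ ∈ R, ∀ t : Fin m → K, γ (ρ + t) (ρ + t) = γ t t := by
    intro ρ hρ t
    have h1 : γ (ρ + t) = γ ρ + γ t := map_add γ ρ t
    rw [h1, LinearMap.add_apply, hγR ρ hρ, zero_add, map_add, hγR' ρ hρ, zero_add]
  have hcardS : Nat.card {a : Fin m → K // γ a a = 1} =
      Nat.card R * unitCount σ (i + 1) := by
    rw [← hcardT, ← Nat.card_prod]
    apply Nat.card_congr
    have e2 : {x : ↥R × ↥T' // γ' x.2 x.2 = 1} ≃ ↥R × {t : ↥T' // γ' t t = 1} :=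
      { toFun := fun x => (x.1.1, ⟨x.1.2, x.2⟩)
        invFun := fun y => ⟨(y.1, y.2.1), y.2.2⟩
        left_inv := fun x => rfl
        right_inv := fun y => rfl }
    refine (Equiv.subtypeEquiv e.symm.toEquiv (fun a => ?_)).trans e2
    obtain ⟨x, rfl⟩ := e.surjective a
    rw [LinearEquiv.coe_toEquiv, LinearEquiv.symm_apply_apply]
    rw [Submodule.coe_prodEquivOfIsCompl', key _ x.1.2]
    rfl
  -- the action
  have hpow : ∀ (k : ℕ) (a : Fin m → K), γ ((s ^ k) *ᵥ a) ((s ^ k) *ᵥ a) = γ a a := by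
    intro k a
    have hsk := unitary_pow σ s hs k
    have hHk : H * s ^ k = s ^ k * H := by
      have : Commute H s := hHs
      exact (this.pow_right k).eq
    rw [hγ, hγ, Matrix.mulVec_mulVec, hHk, ← Matrix.mulVec_mulVec]
    change c₀ * stdB m σ _ _ = c₀ * stdB m σ _ _
    rw [stdB_unitary σ m (s ^ k) hsk]
  let f : Function.End {a : Fin m → K // γ a a = 1} := fun a =>
    ⟨s *ᵥ a.1, by
      have := hpow 1 a.1
      rw [pow_one] at this
      rw [this]
      exact a.2⟩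
  have hfpow : ∀ (k : ℕ) (a : {a : Fin m → K // γ a a = 1}),
      ((f ^ k) a : Fin m → K) = (s ^ k) *ᵥ a.1 := by
    intro k
    induction k with
    | zero =>
      intro a
      rw [pow_zero, pow_zero, Matrix.one_mulVec]
      rfl
    | succ k ih =>
      intro a
      rw [pow_succ', pow_succ']
      change s *ᵥ ((f ^ k) a : Fin m → K) = _
      rw [ih a, Matrix.mulVec_mulVec]
  have hf : f ^ r ^ 1 = 1 := by
    rw [pow_one]
    funext a
    apply Subtype.ext
    rw [hfpow, hsr, Matrix.one_mulVec]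
    rfl
  have : Finite {a : Fin m → K // γ a a = 1} := Subtype.finite
  have : Fintype {a : Fin m → K // γ a a = 1} := Fintype.ofFinite _
  have h := Equiv.Perm.card_fixedPoints_modEq (p := r) (n := 1) hf
  have hfp : Fintype.card (Function.fixedPoints f) = 0 := by
    rw [Fintype.card_eq_zero_iff]
    constructor
    rintro ⟨a, ha⟩
    have ha' : f a = a := ha
    have h2 : s *ᵥ a.1 = a.1 := congrArg Subtype.val ha'
    have h3 := hfix a.1 h2
    have h4 := a.2
    rw [hγ, h3, map_zero, LinearMap.zero_apply, mul_zero] at h4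
    exact zero_ne_one h4
  rw [hfp] at h
  have hdvd : r ∣ Nat.card R * unitCount σ (i + 1) := by
    rw [← hcardS, Nat.card_eq_fintype_card]
    exact (Nat.modEq_zero_iff_dvd).1 h
  have hcardR : Nat.card R = (q ^ 2) ^ Module.finrank K R := by
    rw [Module.natCard_eq_pow_finrank (K := K) (V := R), Nat.card_eq_fintype_card, hF]
  have hrR : ¬ r ∣ Nat.card R := by
    rw [hcardR]
    intro h1
    exact hrq (hr.dvd_of_dvd_pow (hr.dvd_of_dvd_pow h1))
  have h5 : r ∣ unitCount σ (i + 1) := by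
    rcases (Nat.Prime.dvd_mul hr).1 hdvd with h1 | h1
    · exact absurd h1 hrR
    · exact h1
  rw [unitCount_eq hF σ hσ, uz_formula hq2] at h5
  rcases (Nat.Prime.dvd_mul hr).1 h5 with h1 | h1
  · exact absurd (hr.dvd_of_dvd_pow h1) hrq
  · exact h1

end Count

section Rank

open Matrix

variable {K : Type*} [Field K] {m : ℕ}

theorem rank_add_ker (H : Matrix (Fin m) (Fin m) K) :
    H.rank + Module.finrank K (LinearMap.ker (Matrix.toLin' H)) = m := by
  have h1 := LinearMap.finrank_range_add_finrank_ker (Matrix.toLin' H)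
  rw [Module.finrank_fin_fun] at h1
  rw [Matrix.rank, ← Matrix.toLin'_apply']
  exact h1

theorem rank_pos_of_ne_zero (H : Matrix (Fin m) (Fin m) K) (hH : H ≠ 0) : 1 ≤ H.rank := by
  by_contra hcon
  have h0 : H.rank = 0 := by omega
  have h1 := rank_add_ker H
  rw [h0, zero_add] at h1
  have h2 : LinearMap.ker (Matrix.toLin' H) = ⊤ := by
    apply Submodule.eq_top_of_finrank_eq
    rw [h1, Module.finrank_fin_fun]
  rw [LinearMap.ker_eq_top] at h2
  apply hH
  apply (Matrix.toLin' (R := K) (m := Fin m) (n := Fin m)).injective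
  rw [h2, map_zero]

theorem rank_le_half (H : Matrix (Fin m) (Fin m) K) (hH : H * H = 0) : 2 * H.rank ≤ m := by
  have h1 := rank_add_ker H
  have h2 : LinearMap.range (Matrix.toLin' H) ≤ LinearMap.ker (Matrix.toLin' H) := by
    rw [LinearMap.range_le_ker_iff, ← Matrix.toLin'_mul, hH, map_zero]
  have h3 := Submodule.finrank_mono h2
  have h4 : Module.finrank K (LinearMap.range (Matrix.toLin' H)) = H.rank := by
    rw [Matrix.rank, ← Matrix.toLin'_apply']
  omega

end Rank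

section Core

open Matrix Cfsg.Agent.S2511 Cfsg.Agent.S0277

variable {K : Type*} [Field K] [Fintype K] {q : ℕ}

omit [Fintype K] in
theorem exists_skew (σ : K →+* K) (hσne : σ ≠ RingHom.id K) (hσ2 : ∀ a : K, σ (σ a) = a) :
    ∃ ε : K, ε ≠ 0 ∧ σ ε = -ε := by
  have : ∃ x : K, σ x ≠ x := by
    by_contra hcon
    push Not at hcon
    apply hσne
    ext x
    exact hcon x
  obtain ⟨x, hx⟩ := this
  refine ⟨x - σ x, ?_, ?_⟩
  · intro h
    apply hx
    exact (sub_eq_zero.1 h).symm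
  · rw [map_sub, hσ2]
    ring

theorem core_case2 (hF : Fintype.card K = q ^ 2) (σ : K →+* K) (hσ : ∀ x, σ x = x ^ q)
    (hσne : σ ≠ RingHom.id K) (hσ2 : ∀ a : K, σ (σ a) = a) (m : ℕ) (hm : 4 ≤ m)
    (s u : Matrix (Fin m) (Fin m) K) (hs : adjU σ s * s = 1) (hu : adjU σ u * u = 1)
    (r : ℕ) (hr : r.Prime) (hrq : ¬ r ∣ q) (hsr : s ^ r = 1)
    (Nn : ℕ) (hunip : (u - 1) ^ Nn = 0) (hu1 : u ≠ 1) (hcomm : s * u = u * s)
    (h2 : ∀ a : Fin m → K, s *ᵥ a = a → u *ᵥ a = a) :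
    ∃ i, i + 1 ≤ m - 2 ∧ r ∣ (if Even i then q ^ (i + 1) + 1 else q ^ (i + 1) - 1) := by
  classical
  set N := u - 1 with hN
  have hN1 : N ≠ 0 := by
    intro h
    exact hu1 (sub_eq_zero.1 h)
  have huN : u = 1 + N := by rw [hN]; abel
  have hex : ∃ j, N ^ (j + 1) = 0 := ⟨Nn, by rw [pow_succ, hunip, zero_mul]⟩
  set j₀ := Nat.find hex with hj₀
  have hj : N ^ (j₀ + 1) = 0 := Nat.find_spec hex
  have hj0 : j₀ ≠ 0 := by
    intro h
    rw [h, zero_add, pow_one] at hj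
    exact hN1 hj
  obtain ⟨j', hj'⟩ := Nat.exists_eq_succ_of_ne_zero hj0
  have hmin : N ^ j₀ ≠ 0 := by
    have := Nat.find_min hex (m := j') (by omega)
    rw [hj']
    exact this
  set H := N ^ j₀ with hH
  have hHN : H * N = 0 := by rw [hH, ← pow_succ, hj]
  have hHH : H * H = 0 := by
    have : H = N * N ^ j' := by rw [hH, hj', pow_succ']
    nth_rw 2 [this]
    rw [← mul_assoc, hHN, zero_mul]
  set u' := adjU σ u with hu'
  have huu' : u * u' = 1 := mul_adjU_of_unitary σ u hu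
  have hadjN : adjU σ N = u' - 1 := by rw [hN, adjU_sub, adjU_one]
  have e1 : adjU σ N * u = (-1 : K) • N := by
    rw [hadjN, sub_mul, hu, one_mul, neg_one_smul, hN]
    abel
  have hcommN : Commute (adjU σ N) u := by
    rw [Commute, SemiconjBy, hadjN, sub_mul, mul_sub, hu, huu', one_mul, mul_one]
  have e2 : adjU σ H * u ^ j₀ = ((-1 : K) ^ j₀) • H := by
    rw [hH, adjU_pow, ← hcommN.mul_pow, e1, _root_.smul_pow]
  have e3 : H * u = H := by rw [huN, mul_add, mul_one, hHN, add_zero]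
  have e4 : ∀ k : ℕ, H * u ^ k = H := by
    intro k
    induction k with
    | zero => rw [pow_zero, mul_one]
    | succ k ih => rw [pow_succ, ← mul_assoc, ih, e3]
  have hcuu' : Commute u u' := by rw [Commute, SemiconjBy, huu', hu]
  have e5 : u ^ j₀ * u' ^ j₀ = 1 := by rw [← hcuu'.mul_pow, huu', one_pow]
  have hδ : adjU σ H = ((-1 : K) ^ j₀) • H := by
    calc adjU σ H = adjU σ H * (u ^ j₀ * u' ^ j₀) := by rw [e5, mul_one]
      _ = (adjU σ H * u ^ j₀) * u' ^ j₀ := by rw [mul_assoc]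
      _ = ((-1 : K) ^ j₀) • (H * u' ^ j₀) := by rw [e2, smul_mul_assoc]
      _ = ((-1 : K) ^ j₀) • ((H * u ^ j₀) * u' ^ j₀) := by rw [e4]
      _ = ((-1 : K) ^ j₀) • H := by rw [mul_assoc, e5, mul_one]
  have hNs : Commute N s := by
    rw [Commute, SemiconjBy, hN, sub_mul, mul_sub, one_mul, mul_one, hcomm]
  have hHs : H * s = s * H := (hNs.pow_left j₀).eq
  have hfix : ∀ a : Fin m → K, s *ᵥ a = a → H *ᵥ a = 0 := by
    intro a ha
    have h3 : N *ᵥ a = 0 := by
      rw [hN, Matrix.sub_mulVec, Matrix.one_mulVec, h2 a ha, sub_self]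
    have : H = N ^ j' * N := by rw [hH, hj', pow_succ]
    rw [this, ← Matrix.mulVec_mulVec, h3, Matrix.mulVec_zero]
  have hw1 := rank_pos_of_ne_zero H hmin
  have hw2 := rank_le_half H hHH
  obtain ⟨i, hi⟩ : ∃ i, H.rank = i + 1 := ⟨H.rank - 1, by omega⟩
  refine ⟨i, by omega, ?_⟩
  obtain ⟨ε, hε0, hεσ⟩ := exists_skew σ hσne hσ2
  rcases Nat.even_or_odd j₀ with he | ho
  · rw [he.neg_one_pow] at hδ
    exact unitary_count hF σ hσ hσne hσ2 m s H hs r hr hrq hsr hHs 1 1 one_ne_zero hδ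
      (by rw [map_one, mul_one]) hfix i hi
  · rw [ho.neg_one_pow] at hδ
    exact unitary_count hF σ hσ hσne hσ2 m s H hs r hr hrq hsr hHs ε (-1) hε0 hδ
      (by rw [hεσ, mul_neg, mul_one]) hfix i hi

end Core

section Core1

open Matrix Cfsg.Agent.S2511 Cfsg.Agent.S0277

variable {K : Type*} [Field K] [Fintype K] {q : ℕ}

omit [Fintype K] in
/-- semisimplicity: `(s-1)^2 a = 0 → (s-1) a = 0` -/
theorem fix_of_sq {m : ℕ} (s : Matrix (Fin m) (Fin m) K) (r : ℕ) (hrK : (r : K) ≠ 0)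
    (hsr : s ^ r = 1) (a : Fin m → K) (h : (s - 1) *ᵥ ((s - 1) *ᵥ a) = 0) :
    (s - 1) *ᵥ a = 0 := by
  set b := (s - 1) *ᵥ a with hb
  have hsb : s *ᵥ b = b := by
    rw [Matrix.sub_mulVec, Matrix.one_mulVec, sub_eq_zero] at h
    exact h
  have hpow : ∀ k : ℕ, (s ^ k) *ᵥ b = b := by
    intro k
    induction k with
    | zero => rw [pow_zero, Matrix.one_mulVec]
    | succ k ih => rw [pow_succ, ← Matrix.mulVec_mulVec, hsb, ih]
  have h1 : (∑ i ∈ Finset.range r, s ^ i) *ᵥ b = 0 := by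
    rw [hb, Matrix.mulVec_mulVec, geom_sum_mul, hsr, sub_self, Matrix.zero_mulVec]
  have h2 : (∑ i ∈ Finset.range r, s ^ i) *ᵥ b = (r : K) • b := by
    rw [Matrix.sum_mulVec, Finset.sum_congr rfl (fun i _ => hpow i), Finset.sum_const,
      Finset.card_range, Nat.cast_smul_eq_nsmul]
  rw [h2] at h1
  rcases smul_eq_zero.1 h1 with h3 | h3
  · exact absurd h3 hrK
  · exact h3

theorem core_case1 (hF : Fintype.card K = q ^ 2) (σ : K →+* K) (hσ : ∀ x, σ x = x ^ q)
    (hσne : σ ≠ RingHom.id K) (hσ2 : ∀ a : K, σ (σ a) = a) (m : ℕ)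
    (s u : Matrix (Fin m) (Fin m) K) (hs : adjU σ s * s = 1)
    (r : ℕ) (hr : r.Prime) (hrq : ¬ r ∣ q) (hrK : (r : K) ≠ 0) (hsr : s ^ r = 1) (hs1 : s ≠ 1)
    (Nn : ℕ) (hunip : (u - 1) ^ Nn = 0) (hcomm : s * u = u * s)
    (a₀ : Fin m → K) (ha₀ : s *ᵥ a₀ = a₀) (hua₀ : u *ᵥ a₀ ≠ a₀) :
    ∃ i, i + 1 ≤ m - 2 ∧ r ∣ (if Even i then q ^ (i + 1) + 1 else q ^ (i + 1) - 1) := by
  classical
  set s' := adjU σ s with hs'
  have hss' : s * s' = 1 := mul_adjU_of_unitary σ s hs
  set H := (s' - 1) * (s - 1) with hH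
  have hHexp : H = 1 - s' - s + 1 := by
    have : (s' - 1) * (s - 1) = s' * s - s' - s + 1 := by noncomm_ring
    rw [hH, this, hs]
  have hδ : adjU σ H = (1 : K) • H := by
    rw [one_smul, hH, adjU_mul, adjU_sub, adjU_sub, adjU_one, hs', adjU_adjU σ hσ2]
  have hHs : H * s = s * H := by
    rw [hHexp]
    simp only [sub_mul, add_mul, mul_sub, mul_add, one_mul, mul_one, hs, hss']
  have hfix : ∀ a : Fin m → K, s *ᵥ a = a → H *ᵥ a = 0 := by
    intro a ha
    have h3 : (s - 1) *ᵥ a = 0 := by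
      rw [Matrix.sub_mulVec, Matrix.one_mulVec, ha, sub_self]
    rw [hH, ← Matrix.mulVec_mulVec, h3, Matrix.mulVec_zero]
  have hkerH : ∀ a : Fin m → K, H *ᵥ a = 0 → s *ᵥ a = a := by
    intro a ha
    have h1 : s *ᵥ (H *ᵥ a) = 0 := by rw [ha, Matrix.mulVec_zero]
    have h2 : s * H = -((s - 1) * (s - 1)) := by
      rw [hHexp]
      simp only [mul_sub, mul_add, mul_one, hss']
      noncomm_ring
    rw [Matrix.mulVec_mulVec, h2, Matrix.neg_mulVec, neg_eq_zero, ← Matrix.mulVec_mulVec] at h1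
    have h3 := fix_of_sq s r hrK hsr a h1
    rw [Matrix.sub_mulVec, Matrix.one_mulVec, sub_eq_zero] at h3
    exact h3
  have hH0 : H ≠ 0 := by
    intro h0
    apply hs1
    apply (Matrix.toLin' (R := K) (m := Fin m) (n := Fin m)).injective
    apply LinearMap.ext
    intro a
    rw [Matrix.toLin'_apply, Matrix.toLin'_apply, Matrix.one_mulVec]
    apply hkerH
    rw [h0, Matrix.zero_mulVec]
  have hw1 := rank_pos_of_ne_zero H hH0
  have hrk := rank_add_ker H
  -- the kernel has dimension at least 2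
  set N := u - 1 with hN
  have hNa : N *ᵥ a₀ ≠ 0 := by
    intro h
    apply hua₀
    rw [hN, Matrix.sub_mulVec, Matrix.one_mulVec, sub_eq_zero] at h
    exact h
  have ha0 : a₀ ≠ 0 := by
    rintro rfl
    rw [Matrix.mulVec_zero] at hNa
    exact hNa rfl
  have hNs : s * N = N * s := by
    rw [hN, mul_sub, sub_mul, mul_one, one_mul, hcomm]
  have hmem1 : a₀ ∈ LinearMap.ker (Matrix.toLin' H) := by
    rw [LinearMap.mem_ker, Matrix.toLin'_apply]
    exact hfix a₀ ha₀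
  have hmem2 : N *ᵥ a₀ ∈ LinearMap.ker (Matrix.toLin' H) := by
    rw [LinearMap.mem_ker, Matrix.toLin'_apply]
    apply hfix
    rw [Matrix.mulVec_mulVec, hNs, ← Matrix.mulVec_mulVec, ha₀]
  have hdim : 2 ≤ Module.finrank K (LinearMap.ker (Matrix.toLin' H)) := by
    by_contra hcon
    have hle : Module.finrank K (LinearMap.ker (Matrix.toLin' H)) ≤ 1 := by omega
    obtain ⟨v, hv⟩ := finrank_le_one_iff.1 hle
    obtain ⟨c₁, hc₁⟩ := hv ⟨a₀, hmem1⟩
    obtain ⟨c₂, hc₂⟩ := hv ⟨N *ᵥ a₀, hmem2⟩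
    have hc₁' : c₁ • (v : Fin m → K) = a₀ := congrArg Subtype.val hc₁
    have hc₂' : c₂ • (v : Fin m → K) = N *ᵥ a₀ := congrArg Subtype.val hc₂
    have hc10 : c₁ ≠ 0 := by
      rintro rfl
      rw [zero_smul] at hc₁'
      exact ha0 hc₁'.symm
    have hlam : N *ᵥ a₀ = (c₂ / c₁) • a₀ := by
      rw [← hc₂', ← hc₁', smul_smul, div_mul_cancel₀ _ hc10]
    have hpow : ∀ k : ℕ, (N ^ k) *ᵥ a₀ = (c₂ / c₁) ^ k • a₀ := by
      intro k
      induction k with
      | zero => rw [pow_zero, pow_zero, Matrix.one_mulVec, one_smul]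
      | succ k ih =>
        rw [pow_succ, ← Matrix.mulVec_mulVec, hlam, Matrix.mulVec_smul, ih, smul_smul, pow_succ,
          mul_comm]
    have h1 := hpow Nn
    rw [hunip, Matrix.zero_mulVec] at h1
    rcases smul_eq_zero.1 h1.symm with h3 | h3
    · have h4 : c₂ / c₁ = 0 := pow_eq_zero_iff (n := Nn) (by
        rintro rfl
        rw [pow_zero] at h3
        exact one_ne_zero h3) |>.1 h3
      rw [h4, zero_smul] at hlam
      exact hNa hlam
    · exact ha0 h3
  obtain ⟨i, hi⟩ : ∃ i, H.rank = i + 1 := ⟨H.rank - 1, by omega⟩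
  refine ⟨i, by omega, ?_⟩
  exact unitary_count hF σ hσ hσne hσ2 m s H hs r hr hrq hsr hHs 1 1 one_ne_zero hδ
    (by rw [map_one, mul_one]) hfix i hi

end Core1

section MatCore

open Matrix Cfsg.Agent.S2511 Cfsg.Agent.S0277

variable {K : Type*} [Field K] [Fintype K] {q : ℕ}

omit [Fintype K] in
theorem norm_of_scalar_pow (σ : K →+* K) (m : ℕ) (hm : 1 ≤ m) (A : Matrix (Fin m) (Fin m) K)
    (hA : adjU σ A * A = 1) (j : ℕ) (c : K) (h : A ^ j = c • (1 : Matrix (Fin m) (Fin m) K)) :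
    σ c * c = 1 := by
  have hu := unitary_pow σ A hA j
  rw [h, adjU_smul, adjU_one, smul_mul_smul_comm, mul_one] at hu
  have := congrFun (congrFun hu ⟨0, by omega⟩) ⟨0, by omega⟩
  rw [Matrix.smul_apply, Matrix.one_apply_eq, smul_eq_mul, mul_one] at this
  exact this

theorem mat_coreU (hF : Fintype.card K = q ^ 2) (p : ℕ) [Fact p.Prime] [CharP K p]
    (σ : K →+* K) (hσ : ∀ x, σ x = x ^ q)
    (hσne : σ ≠ RingHom.id K) (hσ2 : ∀ a : K, σ (σ a) = a) (m : ℕ) (hm : 4 ≤ m)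
    (r : ℕ) (hr : r.Prime) (hrp : r ≠ p) (hrq : ¬ r ∣ q) (hr1 : ¬ r ∣ q ^ 2 - 1)
    (A B : Matrix (Fin m) (Fin m) K) (hAu : adjU σ A * A = 1) (hBu : adjU σ B * B = 1)
    (hA : ∃ c : K, A ^ p = c • (1 : Matrix (Fin m) (Fin m) K))
    (hA' : ∀ c : K, A ≠ c • (1 : Matrix (Fin m) (Fin m) K))
    (hB : ∃ c : K, B ^ r = c • (1 : Matrix (Fin m) (Fin m) K))
    (hB' : ∀ c : K, B ≠ c • (1 : Matrix (Fin m) (Fin m) K))
    (hAB : ∃ z : K, A * B = z • (B * A)) :
    ∃ i, i + 1 ≤ m - 2 ∧ r ∣ (if Even i then q ^ (i + 1) + 1 else q ^ (i + 1) - 1) := by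
  classical
  have : Nonempty (Fin m) := ⟨⟨0, by omega⟩⟩
  have hp : p.Prime := Fact.out
  obtain ⟨c, hAc⟩ := hA
  obtain ⟨c', hBc⟩ := hB
  obtain ⟨z, hz⟩ := hAB
  have hcn := norm_of_scalar_pow σ m (by omega) A hAu p c hAc
  have hc'n := norm_of_scalar_pow σ m (by omega) B hBu r c' hBc
  have hc0 : c ≠ 0 := by
    rintro rfl
    rw [mul_zero] at hcn
    exact zero_ne_one hcn
  have hc'0 : c' ≠ 0 := by
    rintro rfl
    rw [mul_zero] at hc'n
    exact zero_ne_one hc'n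
  -- μ
  obtain ⟨μ, hμ⟩ := surjective_frobenius K p c⁻¹
  rw [frobenius_def] at hμ
  have hμ0 : μ ≠ 0 := by
    rintro rfl
    rw [zero_pow hp.ne_zero] at hμ
    exact inv_ne_zero hc0 hμ.symm
  have hμn : σ μ * μ = 1 := by
    have h1 : (σ μ * μ) ^ p = 1 := by
      rw [mul_pow, ← map_pow, hμ, map_inv₀, ← mul_inv, hcn, inv_one]
    have h2 : (σ μ * μ - 1) ^ p = 0 := by
      rw [sub_pow_char, one_pow, h1, sub_self]
    exact sub_eq_zero.1 (pow_eq_zero_iff hp.ne_zero |>.1 h2)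
  -- ν
  have hcop : (Nat.card Kˣ).Coprime r := by
    rw [Nat.card_units, Nat.card_eq_fintype_card, hF]
    exact (Nat.Coprime.symm ((Nat.Prime.coprime_iff_not_dvd hr).2 hr1))
  obtain ⟨ν, hν⟩ := (powCoprime hcop).surjective (Units.mk0 c' hc'0)⁻¹
  rw [powCoprime_apply] at hν
  have hν' : (ν : K) ^ r = c'⁻¹ := by
    have := congrArg Units.val hν
    simpa using this
  have hνn : σ (ν : K) * (ν : K) = 1 := by
    have h1 : (σ (ν : K) * (ν : K)) ^ r = 1 := by
      rw [mul_pow, ← map_pow, hν', map_inv₀, ← mul_inv, hc'n, inv_one]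
    have hx0 : σ (ν : K) * (ν : K) ≠ 0 := by
      intro h
      rw [h, zero_pow hr.ne_zero] at h1
      exact zero_ne_one h1
    have h2 : (Units.mk0 _ hx0) ^ r = 1 := by
      apply Units.ext
      rw [Units.val_pow_eq_pow_val]
      exact h1
    have h3 : (powCoprime hcop) (Units.mk0 _ hx0) = (powCoprime hcop) 1 := by
      rw [powCoprime_apply, powCoprime_apply, h2, one_pow]
    have h4 := (powCoprime hcop).injective h3
    have := congrArg Units.val h4
    simpa using this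
  have hA1 : (μ • A) ^ p = 1 := by
    rw [_root_.smul_pow, hAc, hμ, smul_smul, inv_mul_cancel₀ hc0, one_smul]
  have hB1 : ((ν : K) • B) ^ r = 1 := by
    rw [_root_.smul_pow, hBc, hν', smul_smul, inv_mul_cancel₀ hc'0, one_smul]
  have hAu' : adjU σ (μ • A) * (μ • A) = 1 := by
    rw [adjU_smul, smul_mul_smul_comm, hAu, hμn, one_smul]
  have hBu' : adjU σ ((ν : K) • B) * ((ν : K) • B) = 1 := by
    rw [adjU_smul, smul_mul_smul_comm, hBu, hνn, one_smul]
  have hcomm : (μ • A) * ((ν : K) • B) = z • (((ν : K) • B) * (μ • A)) := by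
    rw [smul_mul_smul_comm, smul_mul_smul_comm, hz, smul_smul, smul_smul]
    congr 1
    ring
  have hpowcomm : ∀ k : ℕ, (μ • A) ^ k * ((ν : K) • B) = z ^ k • (((ν : K) • B) * (μ • A) ^ k) := by
    intro k
    induction k with
    | zero => simp
    | succ k ih =>
      rw [pow_succ', mul_assoc, ih, mul_smul_comm, ← mul_assoc, hcomm, smul_mul_assoc, smul_smul,
        mul_assoc, ← pow_succ', ← pow_succ]
  have hB0 : (ν : K) • B ≠ 0 := by
    intro h
    rw [h, zero_pow hr.ne_zero] at hB1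
    have : (0 : Matrix (Fin m) (Fin m) K) ⟨0, by omega⟩ ⟨0, by omega⟩ =
        (1 : Matrix (Fin m) (Fin m) K) ⟨0, by omega⟩ ⟨0, by omega⟩ := by rw [hB1]
    simp at this
  have hz1 : z = 1 := by
    have h := hpowcomm p
    rw [hA1, one_mul, mul_one] at h
    have h2 : (z ^ p - 1) • ((ν : K) • B) = 0 := by
      rw [sub_smul, one_smul, ← h, sub_self]
    rcases smul_eq_zero.1 h2 with h3 | h3
    · have h4 : (z - 1) ^ p = 0 := by
        rw [sub_pow_char, one_pow, h3]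
      exact sub_eq_zero.1 (pow_eq_zero_iff hp.ne_zero |>.1 h4)
    · exact absurd h3 hB0
  rw [hz1, one_smul] at hcomm
  have hAne : μ • A ≠ 1 := by
    intro h
    apply hA' μ⁻¹
    rw [← h, smul_smul, inv_mul_cancel₀ hμ0, one_smul]
  have hBne : (ν : K) • B ≠ 1 := by
    intro h
    apply hB' (ν : K)⁻¹
    rw [← h, smul_smul, inv_mul_cancel₀ ν.ne_zero, one_smul]
  have hunip : (μ • A - 1) ^ p = 0 := by
    rw [sub_pow_char_of_commute p (Commute.one_right _), hA1, one_pow, sub_self]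
  have hrK : (r : K) ≠ 0 := by
    intro h
    rw [CharP.cast_eq_zero_iff K p r] at h
    exact hrp ((Nat.prime_dvd_prime_iff_eq hp hr).1 h).symm
  by_cases h2 : ∀ a : Fin m → K, ((ν : K) • B) *ᵥ a = a → (μ • A) *ᵥ a = a
  · exact core_case2 hF σ hσ hσne hσ2 m hm _ _ hBu' hAu' r hr hrq hB1 p hunip hAne hcomm.symm h2
  · push Not at h2
    obtain ⟨a₀, ha₀, hua₀⟩ := h2
    exact core_case1 hF σ hσ hσne hσ2 m _ _ hBu' r hr hrq hrK hB1 hBne p hunip hcomm.symm a₀ ha₀
      hua₀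

end MatCore

section Final

open Matrix Cfsg.Agent.S2511 Cfsg.Agent.S0277

variable {K : Type*} [Field K] [Fintype K] {q : ℕ}

theorem commute_liftU (hF : Fintype.card K = q ^ 2) (m : ℕ) (hm : 1 ≤ m) (A B : SU m K q)
    (h : Commute (QuotientGroup.mk A : PSU m K q) (QuotientGroup.mk B)) :
    ∃ z : K, (A.1.1 : Matrix (Fin m) (Fin m) K) * (B.1.1 : Matrix (Fin m) (Fin m) K) =
      z • ((B.1.1 : Matrix (Fin m) (Fin m) K) * (A.1.1 : Matrix (Fin m) (Fin m) K)) := by
  have h1 : (QuotientGroup.mk (B * A) : PSU m K q) = QuotientGroup.mk (A * B) := by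
    rw [QuotientGroup.mk_mul, QuotientGroup.mk_mul]
    exact h.eq.symm
  rw [QuotientGroup.eq, Subgroup.mem_center_iff] at h1
  obtain ⟨hoff, hdiag⟩ := Cfsg.Agent.S0279.central_scalar hF m ((B * A)⁻¹ * (A * B)) (fun s => h1 s)
  set X := (B * A)⁻¹ * (A * B) with hX
  have hXs : ∃ z : K, (X.1.1 : Matrix (Fin m) (Fin m) K) = z • (1 : Matrix (Fin m) (Fin m) K) := by
    refine ⟨(X.1.1 : Matrix (Fin m) (Fin m) K) ⟨0, hm⟩ ⟨0, hm⟩, ?_⟩
    ext i k
    rw [Matrix.smul_apply, Matrix.one_apply, smul_eq_mul]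
    by_cases hik : i = k
    · subst hik
      rw [if_pos rfl, mul_one]
      exact hdiag i ⟨0, hm⟩
    · rw [if_neg hik, mul_zero]
      exact hoff i k hik
  obtain ⟨z, hz⟩ := hXs
  refine ⟨z, ?_⟩
  have h2 : (B * A) * X = A * B := by
    rw [hX]
    group
  have h3 := congrArg (fun M : SU m K q => (M.1.1 : Matrix (Fin m) (Fin m) K)) h2
  simp only [coe_mul_SU] at h3
  rw [← h3, hz, mul_smul_comm, mul_one]

theorem card_SU_factor (hF : Fintype.card K = q ^ 2) (k : ℕ) :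
    Nat.card (SU (k + 2) K q) = q ^ ((k + 2) * (k + 1) / 2) *
      (∏ i ∈ Finset.range k, (if Even (i + 2) then q ^ (i + 2 + 1) + 1 else q ^ (i + 2 + 1) - 1)) *
      (q ^ 2 - 1) := by
  have hq2 := two_le_q hF
  have h := Cfsg.Agent.S0278.result hF (k + 2) (by omega)
  rw [Finset.prod_range_succ', Finset.prod_range_succ'] at h
  have e : k + 2 - 1 = k + 1 := by omega
  rw [e] at h
  have e0 : (if Even 0 then q ^ (0 + 1) + 1 else q ^ (0 + 1) - 1) = q + 1 := by simp
  have e1 : (if Even (0 + 1) then q ^ (0 + 1 + 1) + 1 else q ^ (0 + 1 + 1) - 1) = q ^ 2 - 1 := by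
    simp
  rw [e0, e1] at h
  have hpos : 0 < q + 1 := by omega
  apply Nat.eq_of_mul_eq_mul_left hpos
  rw [h]
  have e2 : ∀ i, (i + 1 + 1) = i + 2 := fun i => rfl
  simp only [e2]
  ring

end Final

open Matrix Cfsg.Agent.S2511 Cfsg.Agent.S0277 in
/-- Let q be a power of the prime p, F the field with q² elements, m ≥ 4, and let a, b be commuting elements of PSU(m, q) with a of order p. Then every prime divisor of the order of b divides the order of SU(m − 2, q). -/
theorem result {F : Type*} [Field F] [Fintype F] (p : ℕ) [Fact p.Prime] [CharP F p] (m q : ℕ) (hm : 4 ≤ m) (hF : Fintype.card F = q ^ 2)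
    (a b : Cfsg.PSU m F q) (ha : orderOf a = p) (hab : Commute a b) :
    (orderOf b).primeFactors ⊆ (Nat.card ↥(Cfsg.SU (m - 2) F q)).primeFactors := by
  classical
  intro r hrmem
  rw [Nat.mem_primeFactors] at hrmem ⊢
  obtain ⟨hrp, hrdvd, hb0⟩ := hrmem
  have hpp : p.Prime := Fact.out
  have hq2 := two_le_q hF
  have hfin := finite_SU (K := F) (q := q) (m - 2)
  have hcard0 : Nat.card ↥(Cfsg.SU (m - 2) F q) ≠ 0 := Nat.card_pos.ne'
  refine ⟨hrp, ?_, hcard0⟩
  obtain ⟨k, hk⟩ : ∃ k, m - 2 = k + 2 := ⟨m - 4, by omega⟩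
  rw [hk, card_SU_factor hF k]
  obtain ⟨a', hq⟩ : ∃ a', q = p ^ a' := by
    obtain ⟨n, hprime, hcard⟩ := FiniteField.card F p
    have hdvd : q ∣ p ^ (n : ℕ) := by
      rw [← hcard, hF]
      exact Dvd.intro_left _ (by ring)
    obtain ⟨j, _, hj⟩ := (Nat.dvd_prime_pow hprime).1 hdvd
    exact ⟨j, hj⟩
  have hpq : p ∣ q := p_dvd_q hF p a' hq
  by_cases hrp' : r = p
  · rw [hrp']
    apply dvd_mul_of_dvd_left
    apply dvd_mul_of_dvd_left
    apply dvd_pow hpq
    have : 1 ≤ (k + 2) * (k + 1) / 2 := by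
      rw [Nat.le_div_iff_mul_le (by norm_num)]
      nlinarith
    omega
  by_cases hr1 : r ∣ q ^ 2 - 1
  · exact dvd_mul_of_dvd_right hr1 _
  -- main case
  have hrq : ¬ r ∣ q := by
    intro h
    rw [hq] at h
    exact hrp' ((Nat.prime_dvd_prime_iff_eq hrp hpp).1 (hrp.dvd_of_dvd_pow h))
  obtain ⟨σ, hσ, hσne, hσ2⟩ := exists_frob hF
  have hfinP := finite_PSU (K := F) (q := q) m
  have hb1 : orderOf (b ^ (orderOf b / r)) = r := orderOf_pow_orderOf_div hb0 hrdvd
  have hab1 : Commute a (b ^ (orderOf b / r)) := hab.pow_right _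
  obtain ⟨A, hA⟩ := QuotientGroup.mk_surjective a
  obtain ⟨B, hB⟩ := QuotientGroup.mk_surjective (b ^ (orderOf b / r))
  have ha1 : a ≠ 1 := by
    intro h
    rw [h, orderOf_one] at ha
    exact hpp.one_lt.ne ha
  have hb1' : b ^ (orderOf b / r) ≠ 1 := by
    intro h
    rw [h, orderOf_one] at hb1
    exact hrp.one_lt.ne hb1
  have hap : a ^ p = 1 := by rw [← ha]; exact pow_orderOf_eq_one a
  have hbr : (b ^ (orderOf b / r)) ^ r = 1 := by
    have := pow_orderOf_eq_one (b ^ (orderOf b / r))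
    rw [hb1] at this
    exact this
  rw [← hA] at ha1 hap hab1
  rw [← hB] at hb1' hbr hab1
  have hnsA : ∀ c : F, (A.1.1 : Matrix (Fin m) (Fin m) F) ≠ c • (1 : Matrix (Fin m) (Fin m) F) := by
    intro c hc
    apply ha1
    have := (mk_pow_eq_one_iff hF m (by omega) A 1).2 ⟨c, by rw [pow_one]; exact hc⟩
    rwa [pow_one] at this
  have hnsB : ∀ c : F, (B.1.1 : Matrix (Fin m) (Fin m) F) ≠ c • (1 : Matrix (Fin m) (Fin m) F) := by
    intro c hc
    apply hb1'
    have := (mk_pow_eq_one_iff hF m (by omega) B 1).2 ⟨c, by rw [pow_one]; exact hc⟩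
    rwa [pow_one] at this
  obtain ⟨i, hi1, hi2⟩ := mat_coreU hF p σ hσ hσne hσ2 m hm r hrp hrp' hrq hr1
    (A.1.1 : Matrix (Fin m) (Fin m) F) (B.1.1 : Matrix (Fin m) (Fin m) F)
    (unitary_of_mem σ hσ m A) (unitary_of_mem σ hσ m B)
    ((mk_pow_eq_one_iff hF m (by omega) A p).1 hap) hnsA
    ((mk_pow_eq_one_iff hF m (by omega) B r).1 hbr) hnsB
    (commute_liftU hF m (by omega) A B hab1)
  -- `i ≥ 2`
  have hfac := Cfsg.Agent.S2512.sq_sub_one_factor q (by omega)
  have hi0 : i ≠ 0 := by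
    rintro rfl
    simp only [Even.zero, if_true, zero_add, pow_one] at hi2
    apply hr1
    rw [hfac]
    exact dvd_mul_of_dvd_right hi2 _
  have hi1' : i ≠ 1 := by
    rintro rfl
    have : ¬ Even 1 := by decide
    simp only [this, if_false] at hi2
    exact hr1 hi2
  obtain ⟨i', rfl⟩ : ∃ i', i = i' + 2 := ⟨i - 2, by omega⟩
  apply dvd_mul_of_dvd_left
  apply dvd_mul_of_dvd_right
  have hmem : i' ∈ Finset.range k := by
    rw [Finset.mem_range]
    omega
  exact dvd_trans hi2 (Finset.dvd_prod_of_mem _ hmem)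

end Cfsg.Agent.S2365
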