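import Cfsg.Statements.S2367

set_option autoImplicit false
open Cfsg

namespace Cfsg.Agent.S2367

open Nat

/-- the list-level statement, decidable for explicit lists -/
def good (L : List ℕ) : Prop := ∀ p ∈ L, p ≠ 2 → L.count p = 3 → p ^ 3 < 2 ^ L.count 2

instance (L : List ℕ) : Decidable (good L) := by unfold good; infer_instance

theorem of_good {N : ℕ} {L : List ℕ} (hL : N.primeFactorsList = L) (hg : good L) (p : ℕ)
    (hp2 : p ≠ 2) (h3 : N.factorization p = 3) : p ^ 3 < 2 ^ (N.factorization 2) := by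
  rw [← Nat.primeFactorsList_count_eq, hL] at h3 ⊢
  have hmem : p ∈ L := List.count_pos_iff.mp (by omega)
  exact hg p hmem hp2 h3

theorem cube_lt : ∀ p : ℕ, 5 ≤ p → p ^ 3 < 2 ^ (2 * p - 2) := by
  intro p hp
  induction p, hp using Nat.le_induction with
  | base => norm_num
  | succ p hp ih =>
    have h1 : (p + 1) ^ 3 ≤ 4 * p ^ 3 := by nlinarith [sq_nonneg (p - 2 : ℤ), pow_pos (show 0 < p by omega) 2]
    have h2 : 2 ^ (2 * (p + 1) - 2) = 4 * 2 ^ (2 * p - 2) := by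
      have : 2 * (p + 1) - 2 = (2 * p - 2) + 2 := by omega
      rw [this, pow_add]; ring
    rw [h2]
    omega

theorem alt_case (n p : ℕ) (hn : 5 ≤ n) (hp : p.Prime) (hodd : p ≠ 2) (C : ℕ)
    (hC : 2 * C = n !) (h3 : C.factorization p = 3) : p ^ 3 < 2 ^ (C.factorization 2) := by
  have hC0 : C ≠ 0 := by
    rintro rfl
    have := Nat.factorial_pos n
    omega
  have hp3 : p ^ 3 ∣ C := (hp.pow_dvd_iff_le_factorization hC0).mpr (le_of_eq h3.symm)
  have hp4 : ¬ p ^ 4 ∣ C := by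
    intro h
    have := (hp.pow_dvd_iff_le_factorization hC0).mp h
    omega
  have hp3' : p ^ 3 ∣ n ! := by rw [← hC]; exact Dvd.dvd.mul_left hp3 2
  have hp2 := hp.two_le
  have hp3le : 3 ≤ p := by omega
  have h3p : 3 * p ≤ n := by
    by_contra hlt
    push Not at hlt
    have hsq : n < p ^ 2 := by nlinarith
    have hlog : Nat.log p n < 2 := Nat.log_lt_of_lt_pow (by omega) hsq
    have := (hp.pow_dvd_factorial_iff hlog).mp hp3'
    have h12 : Finset.Ico 1 2 = {1} := by decide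
    rw [h12, Finset.sum_singleton, pow_one] at this
    have : n / p < 3 := Nat.div_lt_of_lt_mul (by omega)
    omega
  have hne3 : p ≠ 3 := by
    rintro rfl
    have h9 : (9 : ℕ)! ∣ n ! := Nat.factorial_dvd_factorial (by omega)
    have h81 : 3 ^ 4 ∣ (9 : ℕ)! := by decide
    have : 3 ^ 4 ∣ 2 * C := by rw [hC]; exact h81.trans h9
    exact hp4 (Nat.Coprime.dvd_of_dvd_mul_left (by norm_num) this)
  have hp5 : 5 ≤ p := by
    rcases Nat.lt_or_ge p 5 with h | h
    · interval_cases p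
      · exact absurd rfl hne3
      · exact absurd hp (by decide)
    · exact h
  have hlog2 : Nat.log 2 n < n + 1 := Nat.lt_succ_of_le (Nat.log_le_self 2 n)
  have hsum : 2 * p - 1 ≤ ∑ i ∈ Finset.Ico 1 (n + 1), n / 2 ^ i := by
    have hsub : ({1, 2} : Finset ℕ) ⊆ Finset.Ico 1 (n + 1) := by
      intro x hx
      simp only [Finset.mem_insert, Finset.mem_singleton] at hx
      rw [Finset.mem_Ico]
      omega
    have := Finset.sum_le_sum_of_subset (f := fun i => n / 2 ^ i) hsub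
    rw [Finset.sum_pair (by decide)] at this
    norm_num at this
    omega
  have h2pow : 2 ^ (2 * p - 1) ∣ n ! := (Nat.prime_two.pow_dvd_factorial_iff hlog2).mpr hsum
  have h2C : 2 ^ (2 * p - 2) ∣ C := by
    have e : 2 ^ (2 * p - 1) = 2 * 2 ^ (2 * p - 2) := by
      have : 2 * p - 1 = (2 * p - 2) + 1 := by omega
      rw [this, _root_.pow_succ']
    rw [e, ← hC] at h2pow
    exact Nat.dvd_of_mul_dvd_mul_left (by norm_num) h2pow
  have hle : 2 * p - 2 ≤ C.factorization 2 :=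
    (Nat.prime_two.pow_dvd_iff_le_factorization hC0).mp h2C
  calc p ^ 3 < 2 ^ (2 * p - 2) := cube_lt p hp5
    _ ≤ 2 ^ (C.factorization 2) := Nat.pow_le_pow_right (by norm_num) hle

/-- Let G be an alternating group of degree at least 5 or a simple group with the order of one of the 26 sporadic groups, and let p be an odd prime such that p³ is the exact power of p dividing the order of G. Then p³ is less than the 2-part of the order of G. -/
theorem result {G : Type*} [Group G] [Finite G] (hG : Cfsg.IsAlternating G ∨ Cfsg.IsSporadic G)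
    (p : ℕ) (hp : p.Prime) (hodd : p ≠ 2) (h3 : (Nat.card G).factorization p = 3) :
    p ^ 3 < 2 ^ (Nat.card G).factorization 2 := by
  rcases hG with ⟨n, hn, ⟨e⟩⟩ | hs
  · have : Nontrivial (Fin n) := Fin.nontrivial_iff_two_le.mpr (by omega)
    have hcard : Nat.card G = Nat.card (alternatingGroup (Fin n)) := Nat.card_congr e.toEquiv
    have h2 := two_mul_nat_card_alternatingGroup (α := Fin n)
    rw [Nat.card_perm, Nat.card_fin] at h2
    rw [hcard] at h3 ⊢
    exact alt_case n p hn hp hodd _ h2 h3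
  · unfold IsSporadic IsM11 IsM12 IsM22 IsM23 IsM24 IsJ1 IsJ2 IsJ3 IsJ4 IsCo1 IsCo2 IsCo3 IsFi22 IsFi23
      IsFi24' IsHS IsMcL IsHe IsRu IsSuz IsON IsHN IsLy IsTh IsB IsM at hs
    rcases hs with ⟨-, hN⟩ | ⟨-, hN⟩ | ⟨-, hN⟩ | ⟨-, hN⟩ | ⟨-, hN⟩ | ⟨-, hN⟩ | ⟨-, hN⟩ | ⟨-, hN⟩ | ⟨-, hN⟩ | ⟨-, hN⟩ | ⟨-, hN⟩ | ⟨-, hN⟩ | ⟨-, hN⟩ | ⟨-, hN⟩ | ⟨-, hN⟩ | ⟨-, hN⟩ | ⟨-, hN⟩ | ⟨-, hN⟩ | ⟨-, hN⟩ | ⟨-, hN⟩ | ⟨-, hN⟩ | ⟨-, hN⟩ | ⟨-, hN⟩ | ⟨-, hN⟩ | ⟨-, hN⟩ | ⟨-, hN⟩
    all_goals
      rw [hN] at h3 ⊢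
      refine of_good (L := Nat.primeFactorsList _) rfl ?_ p hodd h3
      simp only [Nat.primeFactorsList_ofNat]
      decide +kernel


end Cfsg.Agent.S2367
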