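import Cfsg.Statements.S2368
import Mathlib
import Cfsg.Agent.Lib.Helper5.Unipotent
import Cfsg.Agent.S2260

set_option autoImplicit false
open Cfsg

namespace Cfsg.Agent.S2368

open Matrix Cfsg.Agent.Lib.Helper5.Unipotent

/-- the shift matrix -/
def shift (F : Type*) [Field F] (m : ℕ) : Matrix (Fin m) (Fin m) F :=
  Matrix.of fun i j => if (j : ℕ) = (i : ℕ) + 1 then 1 else 0

theorem shift_pow (F : Type*) [Field F] (m : ℕ) (k : ℕ) :
    shift F m ^ k = Matrix.of fun (i j : Fin m) => if (j : ℕ) = (i : ℕ) + k then (1 : F) else 0 := by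
  induction k with
  | zero =>
    ext i j
    simp only [pow_zero, Matrix.one_apply, Matrix.of_apply, add_zero]
    by_cases h : i = j
    · subst h; simp
    · have : ¬ (j : ℕ) = (i : ℕ) := fun h' => h (Fin.ext h'.symm)
      simp [h, this]
  | succ k ih =>
    ext i j
    rw [pow_succ, ih, Matrix.mul_apply]
    simp only [Matrix.of_apply, shift]
    by_cases h : (j : ℕ) = (i : ℕ) + (k + 1)
    · rw [if_pos h]
      have hl : (i : ℕ) + k < m := by have := j.2; omega
      rw [Finset.sum_eq_single (⟨(i : ℕ) + k, hl⟩ : Fin m)]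
      · have e1 : (j : ℕ) = (i : ℕ) + k + 1 := by omega
        simp [e1]
      · intro l _ hl'
        have : ¬ (l : ℕ) = (i : ℕ) + k := fun h' => hl' (Fin.ext h')
        rw [if_neg this, zero_mul]
      · intro h'; exact absurd (Finset.mem_univ _) h'
    · rw [if_neg h]
      apply Finset.sum_eq_zero
      intro l _
      by_cases h1 : (l : ℕ) = (i : ℕ) + k
      · have : ¬ (j : ℕ) = (l : ℕ) + 1 := by omega
        rw [if_neg this, mul_zero]
      · rw [if_neg h1, zero_mul]

/-- Let F be a finite field of characteristic p and m ≥ 1. Every element of GL(m, F) of p-power order has order less than p·m, and GL(m, F) has an element of p-power order at least m; so the largest order of a p-element of GL(m, F) is the least power of p that is at least m. -/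
theorem result {F : Type*} [Field F] [Fintype F] (p : ℕ) [Fact p.Prime] [CharP F p] (m : ℕ) (hm : 1 ≤ m) :
    (∀ g : Matrix.GeneralLinearGroup (Fin m) F, (∃ j : ℕ, orderOf g = p ^ j) → orderOf g < p * m) ∧
      ∃ g : Matrix.GeneralLinearGroup (Fin m) F, (∃ j : ℕ, orderOf g = p ^ j) ∧ m ≤ orderOf g := by
  have hp : p.Prime := Fact.out
  have hbound : p ^ Nat.clog p m < p * m := by
    rcases Nat.lt_or_ge 1 m with h1 | h1
    · have h2 := Nat.pow_pred_clog_lt_self hp.one_lt h1
      have h3 : 0 < Nat.clog p m := Nat.clog_pos hp.one_lt h1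
      have h4 : p ^ Nat.clog p m = p * p ^ (Nat.clog p m).pred := by
        rw [← pow_succ']
        congr 1
        exact (Nat.succ_pred_eq_of_pos h3).symm
      rw [h4]
      exact Nat.mul_lt_mul_of_pos_left h2 hp.pos
    · have : m = 1 := by omega
      subst this
      simp only [Nat.clog_one_right, pow_zero, mul_one]
      exact hp.one_lt
  constructor
  · rintro g ⟨j, hj⟩
    have h1 : g ^ p ^ j = 1 := by rw [← hj]; exact pow_orderOf_eq_one g
    have h2 := sub_one_pow_eq_zero p g h1
    have hnil : IsNilpotent ((g : Matrix (Fin m) (Fin m) F) - 1) := ⟨p ^ j, h2⟩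
    have h3 := (Cfsg.Agent.S2260.result p m g hnil).1
    omega
  · have hN : IsNilpotent (shift F m) := by
      refine ⟨m, ?_⟩
      rw [shift_pow]
      ext i j
      simp only [Matrix.of_apply, Matrix.zero_apply]
      have := j.2
      rw [if_neg (by omega)]
    let g : Matrix.GeneralLinearGroup (Fin m) F := hN.isUnit_one_add.unit
    have hg : (g : Matrix (Fin m) (Fin m) F) = 1 + shift F m := rfl
    have hnil : IsNilpotent ((g : Matrix (Fin m) (Fin m) F) - 1) := by
      rw [hg, add_sub_cancel_left]; exact hN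
    have hne : ((g : Matrix (Fin m) (Fin m) F) - 1) ^ (m - 1) ≠ 0 := by
      rw [hg, add_sub_cancel_left, shift_pow]
      intro h0
      have := congrFun (congrFun h0 ⟨0, by omega⟩) ⟨m - 1, by omega⟩
      simp at this
    have h3 := (Cfsg.Agent.S2260.result p m g hnil).2 hne
    refine ⟨g, ⟨Nat.clog p m, h3⟩, ?_⟩
    rw [h3]
    exact Nat.le_pow_clog hp.one_lt m

end Cfsg.Agent.S2368
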