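import Cfsg.Statements.S2569
import Mathlib
import Cfsg.Agent.H9.IrredOp

set_option autoImplicit false

namespace Cfsg.Agent.S2569

open Module Matrix Polynomial Cfsg.Agent.H9.IrredOp

/-- semisimple operator over a finite field: the centraliser has all determinants. -/
theorem exists_commute_det {F : Type*} [Field F] {V : Type*} [AddCommGroup V] [Module F V]
    [FiniteDimensional F V] [Finite F]
    (X : Module.End F V) (hss : X.IsSemisimple) (hV : Nontrivial V) (μ : F) :
    ∃ c : Module.End F V, Commute c X ∧ LinearMap.det c = μ := by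
  let S : Set (Submodule F V) := {U | U ≤ U.comap X ∧ U ≠ ⊥}
  have hS : S.Nonempty := ⟨⊤, le_top, top_ne_bot⟩
  obtain ⟨W, ⟨hWinv, hW0⟩, hmin⟩ := wellFounded_lt.has_min S hS
  set A : Module.End F W := X.restrict hWinv with hA
  have hirr : Irred A := by
    refine ⟨Submodule.nontrivial_iff_ne_bot.2 hW0, ?_⟩
    intro U hU
    by_cases h0 : U = ⊥
    · left; exact h0
    · right
      have h1 : U.map W.subtype ∈ S := by
        refine ⟨?_, ?_⟩
        · rintro _ ⟨u, hu, rfl⟩
          rw [Submodule.mem_comap]
          exact ⟨A u, hU hu, rfl⟩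
        · intro h2
          apply h0
          rw [Submodule.eq_bot_iff]
          intro u hu
          have : W.subtype u ∈ U.map W.subtype := ⟨u, hu, rfl⟩
          rw [h2, Submodule.mem_bot] at this
          exact Subtype.ext this
      have h2 : U.map W.subtype ≤ W := Submodule.map_subtype_le W U
      have h3 : U.map W.subtype = W := by
        by_contra hne
        exact hmin _ h1 (lt_of_le_of_ne h2 hne)
      rw [eq_top_iff]
      intro w _
      have : (w : V) ∈ U.map W.subtype := by rw [h3]; exact w.2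
      obtain ⟨u, hu, hu'⟩ := this
      have : u = w := Subtype.ext hu'
      rw [← this]; exact hu
  obtain ⟨W', hW'inv, hcompl⟩ := Module.End.isSemisimple_iff.1 hss W
    ((Module.End.mem_invtSubmodule X).2 hWinv)
  rw [Module.End.mem_invtSubmodule] at hW'inv
  obtain ⟨cW, hcW, hdet⟩ := hirr.exists_commute_det μ
  let e := Submodule.prodEquivOfIsCompl W W' hcompl
  let c : Module.End F V := (e : (W × W') →ₗ[F] V) ∘ₗ (LinearMap.prodMap cW LinearMap.id) ∘ₗ
    (e.symm : V →ₗ[F] (W × W'))
  have he : ∀ (w : W) (w' : W'), e (w, w') = (w : V) + (w' : V) := fun w w' =>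
    Submodule.coe_prodEquivOfIsCompl' W W' hcompl (w, w')
  have hc : ∀ (w : W) (w' : W'), c (e (w, w')) = e (cW w, w') := by
    intro w w'
    simp only [c, LinearMap.comp_apply, LinearEquiv.coe_coe, LinearEquiv.symm_apply_apply,
      LinearMap.prodMap_apply, LinearMap.id_apply]
  have hX : ∀ (w : W) (w' : W'), X (e (w, w')) = e (A w, X.restrict hW'inv w') := by
    intro w w'
    rw [he, he, map_add]
    rfl
  refine ⟨c, ?_, ?_⟩
  · apply LinearMap.ext
    intro v
    obtain ⟨⟨w, w'⟩, rfl⟩ := e.surjective v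
    rw [Module.End.mul_apply, Module.End.mul_apply, hX, hc, hc, hX]
    have := LinearMap.congr_fun hcW.eq w
    rw [Module.End.mul_apply, Module.End.mul_apply] at this
    rw [this]
  · rw [LinearMap.det_conj, LinearMap.det_prodMap, hdet, LinearMap.det_id, mul_one]

/-- In GL_n over a finite field of characteristic p, the conjugacy class of a semisimple element (an element of order prime to p) under the special linear group is its whole GL-conjugacy class: for every such x and every invertible g there is h of determinant one with h x h⁻¹ = g x g⁻¹. -/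
theorem result {F : Type*} [Field F] [Fintype F] {p : ℕ} [Fact p.Prime] [CharP F p] {n : ℕ} (x g : GL (Fin n) F) (hx : (orderOf x).Coprime p) : ∃ h : GL (Fin n) F, (h : Matrix (Fin n) (Fin n) F).det = 1 ∧ h * x * h⁻¹ = g * x * g⁻¹ := by
  rcases Nat.eq_zero_or_pos n with hn | hn
  · subst hn
    exact ⟨g, Matrix.det_isEmpty, rfl⟩
  have hV : Nontrivial (Fin n → F) := by
    have : Nonempty (Fin n) := ⟨⟨0, hn⟩⟩
    infer_instance
  set X : Module.End F (Fin n → F) := Matrix.toLin' (x : Matrix (Fin n) (Fin n) F) with hX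
  have hk : (orderOf x : F) ≠ 0 := by
    intro h0
    rw [CharP.cast_eq_zero_iff F p] at h0
    have := Nat.Coprime.eq_one_of_dvd hx.symm h0
    exact (Fact.out : p.Prime).one_lt.ne' this
  have hXk : X ^ orderOf x = 1 := by
    rw [hX, ← Matrix.toLin'_pow, ← Units.val_pow_eq_pow_val, pow_orderOf_eq_one, Units.val_one,
      Matrix.toLin'_one]
    rfl
  have hss : X.IsSemisimple := by
    apply Module.End.isSemisimple_of_squarefree_aeval_eq_zero
      (p := (Polynomial.X : F[X]) ^ (orderOf x) - C 1)
    · exact (separable_X_pow_sub_C (1 : F) hk one_ne_zero).squarefree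
    · rw [map_sub, map_pow, aeval_X, aeval_C, hXk, map_one, sub_self]
  have hgdet : (g : Matrix (Fin n) (Fin n) F).det ≠ 0 := by
    have := (Matrix.isUnits_det_units g)
    exact this.ne_zero
  obtain ⟨c, hc, hdet⟩ := exists_commute_det X hss hV (g : Matrix (Fin n) (Fin n) F).det
  set cM := LinearMap.toMatrix' c with hcM
  have hcMdet : cM.det = (g : Matrix (Fin n) (Fin n) F).det := by
    rw [hcM, LinearMap.det_toMatrix', hdet]
  have hcMx : cM * (x : Matrix (Fin n) (Fin n) F) = (x : Matrix (Fin n) (Fin n) F) * cM := by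
    have := congrArg LinearMap.toMatrix' hc.eq
    rw [LinearMap.toMatrix'_mul, LinearMap.toMatrix'_mul, hX, LinearMap.toMatrix'_toLin'] at this
    exact this
  set cG : GL (Fin n) F := Matrix.GeneralLinearGroup.mkOfDetNeZero cM (by rw [hcMdet]; exact hgdet)
    with hcG
  have hcGx : cG * x = x * cG := by
    apply Units.ext
    exact hcMx
  have h1 : cG⁻¹ * x = x * cG⁻¹ := by
    rw [inv_mul_eq_iff_eq_mul, ← mul_assoc, hcGx, mul_assoc, mul_inv_cancel, mul_one]
  refine ⟨g * cG⁻¹, ?_, ?_⟩
  · rw [Units.val_mul, Matrix.det_mul, Matrix.coe_units_inv, Matrix.det_nonsing_inv,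
      Ring.inverse_eq_inv']
    change (g : Matrix (Fin n) (Fin n) F).det * (cM.det)⁻¹ = 1
    rw [hcMdet, mul_inv_cancel₀ hgdet]
  · calc g * cG⁻¹ * x * (g * cG⁻¹)⁻¹ = g * (cG⁻¹ * x) * cG * g⁻¹ := by group
      _ = g * (x * cG⁻¹) * cG * g⁻¹ := by rw [h1]
      _ = g * x * g⁻¹ := by group

end Cfsg.Agent.S2569
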