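import Cfsg.Statements.S2388
import Mathlib
import Cfsg.Agent.H9.SemisimpleConj
import Cfsg.Agent.S2569

set_option autoImplicit false
open Cfsg

namespace Cfsg.Agent.S2388

open Matrix

theorem ne_zero_of_coprime {F : Type*} [Field F] (p : ℕ) [Fact p.Prime] [CharP F p] (k : ℕ)
    (hk : k.Coprime p) : (k : F) ≠ 0 := by
  intro h0
  rw [CharP.cast_eq_zero_iff F p] at h0
  have := Nat.Coprime.eq_one_of_dvd hk.symm h0
  exact (Fact.out : p.Prime).one_lt.ne' this

/-- In `SL_n(q)`, `q` a power of the prime `p`, two elements of order prime to `p` with the same characteristic polynomial are conjugate in `SL_n(q)` (not merely in `GL_n`). -/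
theorem result {F : Type*} [Field F] [Fintype F] (p : ℕ) [Fact p.Prime] [CharP F p] (n : ℕ)
    (g h : Matrix.SpecialLinearGroup (Fin n) F) (hg : (orderOf g).Coprime p) (hh : (orderOf h).Coprime p)
    (hc : (g : Matrix (Fin n) (Fin n) F).charpoly = (h : Matrix (Fin n) (Fin n) F).charpoly) : IsConj g h := by
  have hgss : Module.End.IsSemisimple (Matrix.toLin' (g : Matrix (Fin n) (Fin n) F)) := by
    apply Cfsg.Agent.H9.SemisimpleConj.isSemisimple_of_pow_eq_one _ (orderOf g)
      (ne_zero_of_coprime p _ hg)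
    rw [← Matrix.SpecialLinearGroup.coe_pow, pow_orderOf_eq_one, Matrix.SpecialLinearGroup.coe_one]
  have hhss : Module.End.IsSemisimple (Matrix.toLin' (h : Matrix (Fin n) (Fin n) F)) := by
    apply Cfsg.Agent.H9.SemisimpleConj.isSemisimple_of_pow_eq_one _ (orderOf h)
      (ne_zero_of_coprime p _ hh)
    rw [← Matrix.SpecialLinearGroup.coe_pow, pow_orderOf_eq_one, Matrix.SpecialLinearGroup.coe_one]
  obtain ⟨P, hP⟩ := Cfsg.Agent.H9.SemisimpleConj.exists_gl_conj _ _ hgss hhss hc
  set x : GL (Fin n) F := Matrix.SpecialLinearGroup.toGL g with hx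
  set y : GL (Fin n) F := Matrix.SpecialLinearGroup.toGL h with hy
  have hPx : P * x = y * P := by
    apply Units.ext
    exact hP
  have hxo : (orderOf x).Coprime p := by
    rw [hx, orderOf_injective _ Matrix.SpecialLinearGroup.toGL_injective]
    exact hg
  obtain ⟨c, hcdet, hcx⟩ := Cfsg.Agent.S2569.result (p := p) x P hxo
  have hcx' : c * x = y * c := by
    have h1 : P * x * P⁻¹ = y := by rw [hPx, mul_inv_cancel_right]
    rw [h1] at hcx
    rw [← hcx, inv_mul_cancel_right]
  rw [isConj_iff]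
  set c' : Matrix.SpecialLinearGroup (Fin n) F := ⟨(c : Matrix (Fin n) (Fin n) F), hcdet⟩ with hc'
  refine ⟨c', ?_⟩
  rw [mul_inv_eq_iff_eq_mul]
  apply Subtype.ext
  have := congrArg (fun z : GL (Fin n) F => (z : Matrix (Fin n) (Fin n) F)) hcx'
  exact this

end Cfsg.Agent.S2388
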