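import Cfsg.Statements.S2384
import Mathlib
import Cfsg.Agent.H9.SemisimpleExists
import Cfsg.Agent.S2387
import Cfsg.Agent.S2388

set_option autoImplicit false
open Cfsg

namespace Cfsg.Agent.S2384

open Polynomial Matrix Cfsg.Agent.S2387

section Main

variable {F : Type*} [Field F] [Fintype F]

theorem card_target (n : ℕ) (hn : 1 ≤ n) (c : F) :
    Nat.card {a : Fin n → F // a ⟨0, hn⟩ = c} = Fintype.card F ^ (n - 1) := by
  classical
  obtain ⟨m, rfl⟩ : ∃ m, n = m + 1 := ⟨n - 1, by omega⟩
  have e1 : {a : Fin (m + 1) → F // a ⟨0, hn⟩ = c} ≃ {x : F × (Fin m → F) // x.1 = c} :=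
    Equiv.subtypeEquiv (Fin.consEquiv (fun _ => F)).symm (by
      intro a
      rfl)
  have e2 : {x : F × (Fin m → F) // x.1 = c} ≃ {a : F // a = c} × (Fin m → F) :=
    Equiv.prodSubtypeFstEquivSubtypeProd (p := fun a : F => a = c)
  rw [Nat.card_congr e1, Nat.card_congr e2, Nat.card_prod, Nat.card_unique, one_mul,
    Nat.card_fun, Nat.card_eq_fintype_card, Nat.card_eq_fintype_card, Fintype.card_fin,
    Nat.add_sub_cancel]

theorem coeff_zero_eq {n : ℕ} (g : Matrix.SpecialLinearGroup (Fin n) F) :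
    (g : Matrix (Fin n) (Fin n) F).charpoly.coeff 0 = (-1) ^ n := by
  have h1 := Matrix.det_eq_sign_charpoly_coeff (g : Matrix (Fin n) (Fin n) F)
  rw [g.2, Fintype.card_fin] at h1
  have h2 : ((-1 : F) ^ n) * (-1) ^ n = 1 := by
    rw [← mul_pow, neg_one_mul, neg_neg, one_pow]
  calc (g : Matrix (Fin n) (Fin n) F).charpoly.coeff 0
      = ((-1 : F) ^ n * (-1) ^ n) * (g : Matrix (Fin n) (Fin n) F).charpoly.coeff 0 := by
        rw [h2, one_mul]
    _ = (-1) ^ n * ((-1) ^ n * (g : Matrix (Fin n) (Fin n) F).charpoly.coeff 0) := by ring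
    _ = (-1) ^ n := by rw [← h1, mul_one]

theorem charpoly_of_conj {n : ℕ} (g h : Matrix.SpecialLinearGroup (Fin n) F) (hc : IsConj g h) :
    (g : Matrix (Fin n) (Fin n) F).charpoly = (h : Matrix (Fin n) (Fin n) F).charpoly := by
  have h1 : IsConj (Matrix.SpecialLinearGroup.toGL g) (Matrix.SpecialLinearGroup.toGL h) :=
    MonoidHom.map_isConj Matrix.SpecialLinearGroup.toGL hc
  have h2 := Cfsg.Agent.S2387.charpoly_of_conj _ _ h1
  rw [Matrix.SpecialLinearGroup.coe_GL_coe_matrix, Matrix.SpecialLinearGroup.coe_GL_coe_matrix]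
    at h2
  exact h2

/-- In `SL_n(q)`, `q` a power of the prime `p`, the number of conjugacy classes of elements of order prime to `p` (the semisimple classes) is `q^(n-1)`. -/
theorem result {F : Type*} [Field F] [Fintype F] {q : ℕ} (hq : Fintype.card F = q) (p : ℕ) [Fact p.Prime] [CharP F p] (n : ℕ) (hn : 1 ≤ n) :
    Nat.card {c : ConjClasses (Matrix.SpecialLinearGroup (Fin n) F) //
      ∃ g : Matrix.SpecialLinearGroup (Fin n) F, ConjClasses.mk g = c ∧ (orderOf g).Coprime p} = q ^ (n - 1) := by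
  classical
  subst hq
  have rep : ∀ c : {c : ConjClasses (Matrix.SpecialLinearGroup (Fin n) F) //
      ∃ g : Matrix.SpecialLinearGroup (Fin n) F, ConjClasses.mk g = c ∧ (orderOf g).Coprime p},
      ∃ g : Matrix.SpecialLinearGroup (Fin n) F, ConjClasses.mk g = c.1 ∧ (orderOf g).Coprime p :=
    fun c => c.2
  choose r hr1 hr2 using rep
  let Ψ : {c : ConjClasses (Matrix.SpecialLinearGroup (Fin n) F) //
      ∃ g : Matrix.SpecialLinearGroup (Fin n) F, ConjClasses.mk g = c ∧ (orderOf g).Coprime p} →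
      {a : Fin n → F // a ⟨0, hn⟩ = (-1) ^ n} :=
    fun c => ⟨fun i => (r c : Matrix (Fin n) (Fin n) F).charpoly.coeff i, coeff_zero_eq _⟩
  have hΨ : Function.Bijective Ψ := by
    constructor
    · intro c₁ c₂ h
      have h1 : (r c₁ : Matrix (Fin n) (Fin n) F).charpoly =
          (r c₂ : Matrix (Fin n) (Fin n) F).charpoly := by
        refine monic_ext (Matrix.charpoly_monic _) (Matrix.charpoly_monic _) n ?_ ?_ ?_
        · rw [Matrix.charpoly_natDegree_eq_dim, Fintype.card_fin]
        · rw [Matrix.charpoly_natDegree_eq_dim, Fintype.card_fin]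
        · intro i hi
          have := congrFun (congrArg Subtype.val h) ⟨i, hi⟩
          exact this
      have h2 := Cfsg.Agent.S2388.result p n (r c₁) (r c₂) (hr2 c₁) (hr2 c₂) h1
      apply Subtype.ext
      rw [← hr1 c₁, ← hr1 c₂, ConjClasses.mk_eq_mk_iff_isConj]
      exact h2
    · intro a
      obtain ⟨g, hg, hgc⟩ := Cfsg.Agent.H9.SemisimpleExists.exists_gl p n (poly n a.1)
        (poly_monic n a.1) (poly_natDegree n a.1) (by
          have := poly_coeff n a.1 ⟨0, hn⟩
          rw [this, a.2]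
          exact pow_ne_zero _ (neg_ne_zero.2 one_ne_zero))
      have hdet : (g : Matrix (Fin n) (Fin n) F).det = 1 := by
        rw [Matrix.det_eq_sign_charpoly_coeff, hgc, Fintype.card_fin]
        have := poly_coeff n a.1 ⟨0, hn⟩
        rw [this, a.2, ← mul_pow, neg_one_mul, neg_neg, one_pow]
      set g' : Matrix.SpecialLinearGroup (Fin n) F := ⟨(g : Matrix (Fin n) (Fin n) F), hdet⟩
        with hg'
      have hgg' : Matrix.SpecialLinearGroup.toGL g' = g := Units.ext rfl
      have hg'o : (orderOf g').Coprime p := by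
        rw [← orderOf_injective _ Matrix.SpecialLinearGroup.toGL_injective, hgg']
        exact hg
      refine ⟨⟨ConjClasses.mk g', g', rfl, hg'o⟩, ?_⟩
      apply Subtype.ext
      funext i
      change (r ⟨ConjClasses.mk g', g', rfl, hg'o⟩ : Matrix (Fin n) (Fin n) F).charpoly.coeff i
        = a.1 i
      have h1 : IsConj (r ⟨ConjClasses.mk g', g', rfl, hg'o⟩) g' := by
        rw [← ConjClasses.mk_eq_mk_iff_isConj]
        exact hr1 _
      rw [charpoly_of_conj _ _ h1]
      change (g : Matrix (Fin n) (Fin n) F).charpoly.coeff i = a.1 i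
      rw [hgc, poly_coeff]
  rw [Nat.card_congr (Equiv.ofBijective Ψ hΨ), card_target n hn]

end Main

end Cfsg.Agent.S2384
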