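import Mathlib
import Cfsg.Statements.S2385
import Cfsg.Agent.Lib.Helper8.SpCountC

set_option autoImplicit false
open Cfsg

namespace Cfsg.Agent.S2385

open Cfsg.Agent.Lib.Helper8.SpCount

/-- In the symplectic group `Sp_{2n}(q)`, `q` a power of the prime `p`, the number of conjugacy classes of elements of order prime to `p` is `q^n`. -/
theorem result {F : Type*} [Field F] [Fintype F] {q : ℕ} (hq : Fintype.card F = q) (p : ℕ) [Fact p.Prime] [CharP F p] (n : ℕ) :
    Nat.card {c : ConjClasses ↥(Matrix.symplecticGroup (Fin n) F) //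
      ∃ g : ↥(Matrix.symplecticGroup (Fin n) F), ConjClasses.mk g = c ∧ (orderOf g).Coprime p} = q ^ n := by
  classical
  let S := {c : ConjClasses ↥(Matrix.symplecticGroup (Fin n) F) //
      ∃ g : ↥(Matrix.symplecticGroup (Fin n) F), ConjClasses.mk g = c ∧ (orderOf g).Coprime p}
  let rep : S → ↥(Matrix.symplecticGroup (Fin n) F) := fun c => Classical.choose c.2
  have hrep : ∀ c : S, ConjClasses.mk (rep c) = c.1 ∧ (orderOf (rep c)).Coprime p :=
    fun c => Classical.choose_spec c.2
  let Φ : S → (Fin n → F) := fun c k =>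
    ((rep c : ↥(Matrix.symplecticGroup (Fin n) F)) :
      Matrix (Fin n ⊕ Fin n) (Fin n ⊕ Fin n) F).charpoly.coeff ((k : ℕ) + 1)
  have hinj : Function.Injective Φ := by
    intro c c' hcc
    have hc : ((rep c : ↥(Matrix.symplecticGroup (Fin n) F)) :
        Matrix (Fin n ⊕ Fin n) (Fin n ⊕ Fin n) F).charpoly =
        ((rep c' : ↥(Matrix.symplecticGroup (Fin n) F)) :
        Matrix (Fin n ⊕ Fin n) (Fin n ⊕ Fin n) F).charpoly := by
      apply charpoly_eq_of_coeff
      intro k
      exact congrFun hcc k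
    have hconj : IsConj (rep c) (rep c') :=
      Cfsg.Agent.Lib.Helper8.SpSS.isConj_of_charpoly_eq (rep c) (rep c')
        (Cfsg.Agent.Lib.Helper8.SpSS.isSemisimple_of_orderOf_coprime p _ (hrep c).2)
        (Cfsg.Agent.Lib.Helper8.SpSS.isSemisimple_of_orderOf_coprime p _ (hrep c').2) hc
    apply Subtype.ext
    rw [← (hrep c).1, ← (hrep c').1]
    exact ConjClasses.mk_eq_mk_iff_isConj.2 hconj
  have hsurj : Function.Surjective Φ := by
    intro v
    obtain ⟨g0, hg0⟩ := exists_sp_of_pal n (pal v) (pal_monic v) (pal_natDegree v) (pal_reverse v)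
    obtain ⟨h, hcop, hch⟩ := exists_coprime_same_charpoly p g0
    let c : S := ⟨ConjClasses.mk h, h, rfl, hcop⟩
    refine ⟨c, ?_⟩
    have hconj : IsConj (rep c) h := ConjClasses.mk_eq_mk_iff_isConj.1 (hrep c).1
    funext k
    change ((rep c : ↥(Matrix.symplecticGroup (Fin n) F)) :
      Matrix (Fin n ⊕ Fin n) (Fin n ⊕ Fin n) F).charpoly.coeff ((k : ℕ) + 1) = v k
    rw [charpoly_eq_of_isConj hconj, hch, hg0, pal_coeff_succ]
  have hbij : Function.Bijective Φ := ⟨hinj, hsurj⟩
  change Nat.card S = q ^ n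
  rw [Nat.card_eq_of_bijective Φ hbij, Nat.card_fun, Nat.card_eq_fintype_card,
    Nat.card_eq_fintype_card, hq, Fintype.card_fin]

end Cfsg.Agent.S2385
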