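import Mathlib
import Cfsg.Statements.S2386
import Cfsg.Agent.Lib.Helper8.SUCountD

set_option autoImplicit false
open Cfsg

namespace Cfsg.Agent.S2386

open Cfsg.Agent.Lib.Helper8.SUCount Cfsg.Agent.Lib.Helper8.SelfRec

/-- In the special unitary group `SU_n(q)` (matrices of determinant one over the field with `q²` elements preserving the standard Hermitian form), `q` a power of the prime `p`, the number of conjugacy classes of elements of order prime to `p` is `q^(n-1)`. -/
theorem result {F : Type*} [Field F] [Fintype F] {q : ℕ} (hF : Fintype.card F = q ^ 2) (p : ℕ) [Fact p.Prime] [CharP F p] (n : ℕ) (hn : 1 ≤ n) :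
    Nat.card {c : ConjClasses ↥(Cfsg.SU n F q) // ∃ g : ↥(Cfsg.SU n F q), ConjClasses.mk g = c ∧ (orderOf g).Coprime p} = q ^ (n - 1) := by
  classical
  let S := {c : ConjClasses ↥(Cfsg.SU n F q) //
      ∃ g : ↥(Cfsg.SU n F q), ConjClasses.mk g = c ∧ (orderOf g).Coprime p}
  let rep : S → ↥(Cfsg.SU n F q) := fun c => Classical.choose c.2
  have hrep : ∀ c : S, ConjClasses.mk (rep c) = c.1 ∧ (orderOf (rep c)).Coprime p :=
    fun c => Classical.choose_spec c.2
  let Fix := {a : Fin (n - 1) → F // psi (sg hF) n a = a}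
  let Φ : S → Fix := fun c => ⟨fun k =>
    (((rep c : ↥(Cfsg.SU n F q)) : Matrix.SpecialLinearGroup (Fin n) F) :
      Matrix (Fin n) (Fin n) F).charpoly.coeff ((k : ℕ) + 1), su_coeff_fixed hF n (rep c)⟩
  have hinj : Function.Injective Φ := by
    intro c c' hcc
    have hc := su_charpoly_eq_of_coeff hF n (rep c) (rep c') (by
      intro k
      exact congrFun (congrArg Subtype.val hcc) k)
    have hconj : IsConj (rep c) (rep c') :=
      Cfsg.Agent.Lib.Helper8.SUSS.su_isConj hF n (rep c) (rep c')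
        (Cfsg.Agent.Lib.Helper8.SUSS.isSemisimple_of_orderOf_coprime p n _ (hrep c).2)
        (Cfsg.Agent.Lib.Helper8.SUSS.isSemisimple_of_orderOf_coprime p n _ (hrep c').2) hc
    apply Subtype.ext
    rw [← (hrep c).1, ← (hrep c').1]
    exact ConjClasses.mk_eq_mk_iff_isConj.2 hconj
  have hsurj : Function.Surjective Φ := by
    rintro ⟨a, ha⟩
    obtain ⟨g0, hg0⟩ := exists_su_charpoly hF n (palU n a) (palU_isSR (sg hF) hn a ha)
      (palU_natDegree hn a) (palU_coeff_zero a)
    obtain ⟨h, hcop, hch⟩ := su_exists_coprime_same_charpoly p g0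
    let c : S := ⟨ConjClasses.mk h, h, rfl, hcop⟩
    refine ⟨c, ?_⟩
    have hconj : IsConj (rep c) h := ConjClasses.mk_eq_mk_iff_isConj.1 (hrep c).1
    apply Subtype.ext
    funext k
    change (((rep c : ↥(Cfsg.SU n F q)) : Matrix.SpecialLinearGroup (Fin n) F) :
      Matrix (Fin n) (Fin n) F).charpoly.coeff ((k : ℕ) + 1) = a k
    rw [su_charpoly_eq_of_isConj hconj, hch, hg0, palU_coeff_succ]
  have hbij : Function.Bijective Φ := ⟨hinj, hsurj⟩
  change Nat.card S = q ^ (n - 1)
  rw [Nat.card_eq_of_bijective Φ hbij]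
  obtain ⟨ε, hε⟩ := exists_not_fix' (sg_ne_id hF)
  have hsq := card_fixed (sg_sg hF) ε hε (psi (sg hF) n) (psi_add (sg hF) n) (psi_smul (sg hF) n)
    (psi_psi (sg hF) n (sg_sg hF))
  have hV : Nat.card (Fin (n - 1) → F) = q ^ (n - 1) * q ^ (n - 1) := by
    rw [Nat.card_fun, Nat.card_eq_fintype_card (α := F), hF, Nat.card_eq_fintype_card,
      Fintype.card_fin, ← pow_mul, mul_comm 2, pow_mul, sq]
  rw [hV] at hsq
  exact Nat.mul_self_inj.1 hsq

end Cfsg.Agent.S2386
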