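import Cfsg.Statements.S2391
import Mathlib

set_option autoImplicit false
open Cfsg

namespace Cfsg.Agent.S2391

open Matrix

set_option linter.unusedSectionVars false
set_option linter.unusedVariables false

variable {F : Type*} [Field F] [Fintype F] {n : ℕ}

/-- vectors moved by `U` into `S` -/
def nxt (U : Subgroup (Matrix.SpecialLinearGroup (Fin n) F)) (S : Submodule F (Fin n → F)) :
    Submodule F (Fin n → F) where
  carrier := {v | ∀ u ∈ U, (u : Matrix (Fin n) (Fin n) F) *ᵥ v - v ∈ S}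
  add_mem' := by
    intro a b ha hb u hu
    have := S.add_mem (ha u hu) (hb u hu)
    convert this using 1
    rw [Matrix.mulVec_add]; abel
  zero_mem' := by
    intro u hu
    simp
  smul_mem' := by
    intro c v hv u hu
    have := S.smul_mem c (hv u hu)
    convert this using 1
    rw [Matrix.mulVec_smul, smul_sub]

theorem mem_nxt (U : Subgroup (Matrix.SpecialLinearGroup (Fin n) F)) (S : Submodule F (Fin n → F))
    (v : Fin n → F) : v ∈ nxt U S ↔ ∀ u ∈ U, (u : Matrix (Fin n) (Fin n) F) *ᵥ v - v ∈ S := Iff.rfl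

/-- the ascending flag -/
def flag (U : Subgroup (Matrix.SpecialLinearGroup (Fin n) F)) : ℕ → Submodule F (Fin n → F)
  | 0 => ⊥
  | i + 1 => nxt U (flag U i)

theorem sl_mul_inv (g : Matrix.SpecialLinearGroup (Fin n) F) :
    (g : Matrix (Fin n) (Fin n) F) * ((g⁻¹ : Matrix.SpecialLinearGroup (Fin n) F) :
      Matrix (Fin n) (Fin n) F) = 1 := by
  rw [← Matrix.SpecialLinearGroup.coe_mul, mul_inv_cancel, Matrix.SpecialLinearGroup.coe_one]

theorem sl_inv_mul (g : Matrix.SpecialLinearGroup (Fin n) F) :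
    ((g⁻¹ : Matrix.SpecialLinearGroup (Fin n) F) : Matrix (Fin n) (Fin n) F) *
      (g : Matrix (Fin n) (Fin n) F) = 1 := by
  rw [← Matrix.SpecialLinearGroup.coe_mul, inv_mul_cancel, Matrix.SpecialLinearGroup.coe_one]

theorem nxt_inv (U : Subgroup (Matrix.SpecialLinearGroup (Fin n) F)) (S : Submodule F (Fin n → F))
    (hS : ∀ g ∈ Subgroup.normalizer (U : Set (Matrix.SpecialLinearGroup (Fin n) F)),
      ∀ v ∈ S, (g : Matrix (Fin n) (Fin n) F) *ᵥ v ∈ S)
    (g : Matrix.SpecialLinearGroup (Fin n) F)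
    (hg : g ∈ Subgroup.normalizer (U : Set (Matrix.SpecialLinearGroup (Fin n) F)))
    (v : Fin n → F) (hv : v ∈ nxt U S) : (g : Matrix (Fin n) (Fin n) F) *ᵥ v ∈ nxt U S := by
  intro u hu
  have hginv : g⁻¹ ∈ Subgroup.normalizer (U : Set (Matrix.SpecialLinearGroup (Fin n) F)) :=
    Subgroup.inv_mem _ hg
  have hu' : g⁻¹ * u * g ∈ U := by
    have := (Subgroup.mem_normalizer_iff.1 hginv u).1 hu
    simpa using this
  have h1 := hv (g⁻¹ * u * g) hu'
  have h2 := hS g hg _ h1
  have key : (g : Matrix (Fin n) (Fin n) F) *ᵥ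
      (((g⁻¹ * u * g : Matrix.SpecialLinearGroup (Fin n) F) : Matrix (Fin n) (Fin n) F) *ᵥ v)
      = (u : Matrix (Fin n) (Fin n) F) *ᵥ ((g : Matrix (Fin n) (Fin n) F) *ᵥ v) := by
    rw [Matrix.SpecialLinearGroup.coe_mul, Matrix.SpecialLinearGroup.coe_mul,
      Matrix.mulVec_mulVec, Matrix.mulVec_mulVec]
    congr 1
    rw [← Matrix.mul_assoc, ← Matrix.mul_assoc, sl_mul_inv, Matrix.one_mul]
  rw [Matrix.mulVec_sub, key] at h2
  exact h2

theorem flag_inv (U : Subgroup (Matrix.SpecialLinearGroup (Fin n) F)) (i : ℕ) :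
    ∀ g ∈ Subgroup.normalizer (U : Set (Matrix.SpecialLinearGroup (Fin n) F)),
      ∀ v ∈ flag U i, (g : Matrix (Fin n) (Fin n) F) *ᵥ v ∈ flag U i := by
  induction i with
  | zero =>
    intro g hg v hv
    have hv0 : v = 0 := (Submodule.mem_bot F).1 hv
    rw [hv0, Matrix.mulVec_zero]
    exact Submodule.zero_mem _
  | succ i ih =>
    intro g hg v hv
    exact nxt_inv U (flag U i) ih g hg v hv

theorem flag_le_succ (U : Subgroup (Matrix.SpecialLinearGroup (Fin n) F)) (i : ℕ) :
    flag U i ≤ flag U (i + 1) := by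
  intro v hv u hu
  exact Submodule.sub_mem _ (flag_inv U i u (Subgroup.le_normalizer hu) v hv) hv

theorem flag_map (U : Subgroup (Matrix.SpecialLinearGroup (Fin n) F)) (i : ℕ)
    (g : Matrix.SpecialLinearGroup (Fin n) F)
    (hg : g ∈ Subgroup.normalizer (U : Set (Matrix.SpecialLinearGroup (Fin n) F))) :
    (flag U i).map (Matrix.mulVecLin (g : Matrix (Fin n) (Fin n) F)) = flag U i := by
  apply le_antisymm
  · rintro w ⟨v, hv, rfl⟩
    exact flag_inv U i g hg v hv
  · intro v hv
    refine ⟨(g⁻¹ : Matrix.SpecialLinearGroup (Fin n) F).1 *ᵥ v,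
      flag_inv U i g⁻¹ (Subgroup.inv_mem _ hg) v hv, ?_⟩
    rw [Matrix.mulVecLin_apply, Matrix.mulVec_mulVec]
    have := sl_mul_inv g
    rw [this, Matrix.one_mulVec]

/-- the action of `U` on the quotient by an invariant subspace -/
noncomputable def quotAction (U : Subgroup (Matrix.SpecialLinearGroup (Fin n) F))
    (S : Submodule F (Fin n → F))
    (hinv : ∀ u ∈ U, ∀ v ∈ S, (u : Matrix (Fin n) (Fin n) F) *ᵥ v ∈ S) :
    MulAction U ((Fin n → F) ⧸ S) where
  smul u x := Submodule.mapQ S S (Matrix.mulVecLin (u.1 : Matrix (Fin n) (Fin n) F))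
    (fun v hv => hinv u.1 u.2 v hv) x
  one_smul x := by
    induction x using Submodule.Quotient.induction_on with
    | _ v =>
      change Submodule.Quotient.mk (Matrix.mulVecLin ((1 : U).1 : Matrix (Fin n) (Fin n) F) v) = _
      simp
  mul_smul a b x := by
    induction x using Submodule.Quotient.induction_on with
    | _ v =>
      change Submodule.Quotient.mk (Matrix.mulVecLin ((a * b).1 : Matrix (Fin n) (Fin n) F) v) =
        Submodule.Quotient.mk (Matrix.mulVecLin (a.1 : Matrix (Fin n) (Fin n) F)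
          (Matrix.mulVecLin (b.1 : Matrix (Fin n) (Fin n) F) v))
      simp [Matrix.mulVec_mulVec]

theorem exists_new (p : ℕ) [Fact p.Prime] [CharP F p]
    (U : Subgroup (Matrix.SpecialLinearGroup (Fin n) F)) (hU : IsPGroup p ↥U)
    (S : Submodule F (Fin n → F))
    (hinv : ∀ u ∈ U, ∀ v ∈ S, (u : Matrix (Fin n) (Fin n) F) *ᵥ v ∈ S) (hS : S ≠ ⊤) :
    ∃ v, v ∉ S ∧ ∀ u ∈ U, (u : Matrix (Fin n) (Fin n) F) *ᵥ v - v ∈ S := by
  classical
  let _ : MulAction U ((Fin n → F) ⧸ S) := quotAction U S hinv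
  have hsm : ∀ (u : U) (v : Fin n → F), u • (Submodule.Quotient.mk v : (Fin n → F) ⧸ S)
      = Submodule.Quotient.mk ((u.1 : Matrix (Fin n) (Fin n) F) *ᵥ v) := by
    intro u v
    rfl
  have hnt : Nontrivial ((Fin n → F) ⧸ S) :=
    Submodule.Quotient.nontrivial_iff.2 hS
  have hfin : Finite ((Fin n → F) ⧸ S) := inferInstance
  have hdvd : p ∣ Nat.card ((Fin n → F) ⧸ S) := by
    obtain ⟨x, hx⟩ := exists_ne (0 : (Fin n → F) ⧸ S)
    have hpx : p • x = 0 := by
      rw [← Nat.cast_smul_eq_nsmul F p x, CharP.cast_eq_zero F p, zero_smul]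
    have hord : addOrderOf x = p := addOrderOf_eq_prime hpx hx
    rw [← hord]
    exact addOrderOf_dvd_natCard x
  have h0 : (0 : (Fin n → F) ⧸ S) ∈ MulAction.fixedPoints U ((Fin n → F) ⧸ S) := by
    intro u
    have := hsm u 0
    rw [Matrix.mulVec_zero] at this
    exact this
  obtain ⟨b, hb, hb0⟩ := hU.exists_fixed_point_of_prime_dvd_card_of_fixed_point
    ((Fin n → F) ⧸ S) hdvd h0
  obtain ⟨v, rfl⟩ := Submodule.Quotient.mk_surjective S b
  refine ⟨v, ?_, ?_⟩
  · intro hv
    apply hb0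
    exact ((Submodule.Quotient.mk_eq_zero S).2 hv).symm
  · intro u hu
    have := hb ⟨u, hu⟩
    rw [hsm] at this
    exact (Submodule.Quotient.eq S).1 this

theorem flag_lt (p : ℕ) [Fact p.Prime] [CharP F p]
    (U : Subgroup (Matrix.SpecialLinearGroup (Fin n) F)) (hU : IsPGroup p ↥U) (i : ℕ)
    (hi : flag U i ≠ ⊤) : flag U i < flag U (i + 1) := by
  obtain ⟨v, hv, hv'⟩ := exists_new p U hU (flag U i)
    (fun u hu v hv => flag_inv U i u (Subgroup.le_normalizer hu) v hv) hi
  have hvn : v ∈ flag U (i + 1) := hv'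
  refine lt_of_le_of_ne (flag_le_succ U i) (fun h => hv ?_)
  rw [h]
  exact hvn

theorem exists_top (p : ℕ) [Fact p.Prime] [CharP F p]
    (U : Subgroup (Matrix.SpecialLinearGroup (Fin n) F)) (hU : IsPGroup p ↥U) :
    ∃ k, flag U k = ⊤ := by
  by_contra hno
  push Not at hno
  have key : ∀ i, i ≤ Module.finrank F (flag U i) := by
    intro i
    induction i with
    | zero => exact Nat.zero_le _
    | succ i ih =>
      have := Submodule.finrank_lt_finrank_of_lt (flag_lt p U hU i (hno i))
      omega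
  have h1 := key (n + 1)
  have h2 := Submodule.finrank_le (flag U (n + 1))
  rw [Module.finrank_fin_fun] at h2
  omega


/-- The Borel–Tits property of `SL_n(q)` in flag form: for a field `F` of characteristic `p` with finitely many elements and a non-trivial `p`-subgroup `U` of `SL_n(F)`, there is a flag `0 = V₀ < V₁ < ⋯ < V_{k+1} = F^n` with at least one proper non-zero member such that every element of the normaliser of `U` maps each `V_i` onto itself and every element of `U` acts trivially on each quotient `V_{i+1}/V_i` (so the normaliser lies in the parabolic subgroup of the flag and `U` in its unipotent radical). -/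
theorem result {F : Type*} [Field F] [Fintype F] (p : ℕ) [Fact p.Prime] [CharP F p] (n : ℕ)
    (U : Subgroup (Matrix.SpecialLinearGroup (Fin n) F)) (hU : IsPGroup p ↥U) (hne : U ≠ ⊥) :
    ∃ (k : ℕ) (V : Fin (k + 2) → Submodule F (Fin n → F)), 1 ≤ k ∧ StrictMono V ∧ V 0 = ⊥ ∧ V (Fin.last (k + 1)) = ⊤ ∧
      (∀ g ∈ Subgroup.normalizer (U : Set (Matrix.SpecialLinearGroup (Fin n) F)), ∀ i, (V i).map (Matrix.mulVecLin (g : Matrix (Fin n) (Fin n) F)) = V i) ∧
      (∀ u ∈ U, ∀ i : Fin (k + 1), ∀ v ∈ V i.succ, (u : Matrix (Fin n) (Fin n) F).mulVec v - v ∈ V (Fin.castSucc i)) := by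
  classical
  have hex := exists_top p U hU
  have hK : flag U (Nat.find hex) = ⊤ := Nat.find_spec hex
  have hmin : ∀ i < Nat.find hex, flag U i ≠ ⊤ := fun i hi => Nat.find_min hex hi
  have hnpos : 0 < n := by
    rcases Nat.eq_zero_or_pos n with h0 | h0
    · subst h0
      exfalso
      apply hne
      rw [Subgroup.eq_bot_iff_forall]
      intro x _
      apply Subtype.ext
      ext i
      exact i.elim0
    · exact h0
  have hnt : Nontrivial (Fin n → F) := by
    have : Nonempty (Fin n) := ⟨⟨0, hnpos⟩⟩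
    infer_instance
  have h0 : flag U 0 ≠ ⊤ := bot_ne_top
  have h1 : flag U 1 ≠ ⊤ := by
    intro h
    apply hne
    rw [Subgroup.eq_bot_iff_forall]
    intro u hu
    apply Subtype.ext
    apply Matrix.mulVec_injective
    funext v
    have hv : v ∈ flag U 1 := by rw [h]; exact Submodule.mem_top
    have := hv u hu
    have h3 : (u : Matrix (Fin n) (Fin n) F) *ᵥ v - v = 0 := (Submodule.mem_bot F).1 this
    rw [Matrix.SpecialLinearGroup.coe_one, Matrix.one_mulVec]
    exact sub_eq_zero.1 h3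
  have hK2 : 2 ≤ Nat.find hex := by
    rcases Nat.lt_or_ge (Nat.find hex) 2 with hlt | hge
    · exfalso
      interval_cases hk : Nat.find hex
      · exact h0 hK
      · exact h1 hK
    · exact hge
  refine ⟨Nat.find hex - 1, fun i => flag U i.val, by omega, ?_, rfl, ?_, ?_, ?_⟩
  · rw [Fin.strictMono_iff_lt_succ]
    intro i
    exact flag_lt p U hU i.val (hmin i.val (by have := i.2; omega))
  · show flag U (Nat.find hex - 1 + 1) = ⊤
    rw [Nat.sub_add_cancel (by omega)]
    exact hK
  · intro g hg i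
    exact flag_map U i.val g hg
  · intro u hu i v hv
    exact hv u hu

end Cfsg.Agent.S2391
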