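import Cfsg.Statements.S2392
import Mathlib
import Cfsg.Agent.Lib.Helper5.SLVec

set_option autoImplicit false
open Cfsg

namespace Cfsg.Agent.S2392

open Matrix

section unip
variable {F : Type*} [Field F] {m : ℕ}

/-- extend a vector by a zero first coordinate -/
def ext0 (b : Fin m → F) : Fin (m + 1) → F := Fin.cons 0 b

/-- the first standard basis vector -/
def e0 (F : Type*) [Field F] (m : ℕ) : Fin (m + 1) → F := Pi.single 0 1

theorem ext0_zero (b : Fin m → F) : ext0 b 0 = 0 := rfl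

theorem ext0_succ (b : Fin m → F) (i : Fin m) : ext0 b i.succ = b i := rfl

theorem dot_e0 (c : Fin (m + 1) → F) : c ⬝ᵥ e0 F m = c 0 := by
  simp [e0]

theorem ext0_dot_e0 (b : Fin m → F) : ext0 b ⬝ᵥ e0 F m = 0 := by
  rw [dot_e0, ext0_zero]

theorem ext0_add (b b' : Fin m → F) : ext0 (b + b') = ext0 b + ext0 b' := by
  funext i
  refine Fin.cases ?_ (fun j => ?_) i
  · simp [ext0]
  · simp [ext0]

theorem ext0_dot (a b : Fin m → F) : ext0 a ⬝ᵥ ext0 b = a ⬝ᵥ b := by
  simp [dotProduct, Fin.sum_univ_succ, ext0]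

theorem ext0_tail (c : Fin (m + 1) → F) (h : c 0 = 0) : ext0 (Fin.tail c) = c := by
  funext i
  refine Fin.cases ?_ (fun j => ?_) i
  · simp [ext0, h]
  · simp [ext0, Fin.tail]

theorem ext0_injective : Function.Injective (ext0 : (Fin m → F) → (Fin (m + 1) → F)) := by
  intro a b h
  funext i
  have := congrFun h i.succ
  simpa [ext0] using this

/-- `1 + e₀ bᵀ` -/
def tMat (b : Fin (m + 1) → F) : Matrix (Fin (m + 1)) (Fin (m + 1)) F :=
  1 + vecMulVec (e0 F m) b

theorem tMat_det (b : Fin (m + 1) → F) (hb : b ⬝ᵥ e0 F m = 0) : (tMat b).det = 1 := by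
  unfold tMat
  rw [vecMulVec_eq Unit, det_one_add_replicateCol_mul_replicateRow, hb, add_zero]

theorem tMat_mul (b b' : Fin (m + 1) → F) (hb : b ⬝ᵥ e0 F m = 0) :
    tMat b * tMat b' = tMat (b + b') := by
  unfold tMat
  rw [mul_add, add_mul, add_mul, one_mul, one_mul, mul_one, vecMulVec_mul_vecMulVec, hb, zero_smul,
    vecMulVec_zero, add_zero, vecMulVec_add, add_assoc]

/-- the unipotent element of `SL` attached to `b` -/
def uSL (b : Fin m → F) : Matrix.SpecialLinearGroup (Fin (m + 1)) F :=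
  ⟨tMat (ext0 b), tMat_det _ (ext0_dot_e0 b)⟩

theorem uSL_val (b : Fin m → F) : (uSL b).1 = tMat (ext0 b) := rfl

theorem uSL_add (b b' : Fin m → F) : uSL (b + b') = uSL b * uSL b' := by
  apply Subtype.ext
  change tMat (ext0 (b + b')) = tMat (ext0 b) * tMat (ext0 b')
  rw [tMat_mul _ _ (ext0_dot_e0 b), ext0_add]

theorem uSL_zero : uSL (0 : Fin m → F) = 1 := by
  apply Subtype.ext
  change tMat (ext0 (0 : Fin m → F)) = 1
  have : ext0 (0 : Fin m → F) = 0 := by
    funext i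
    refine Fin.cases ?_ (fun j => ?_) i <;> simp [ext0]
  rw [this]
  unfold tMat
  rw [vecMulVec_zero, add_zero]

theorem sl_inv_mul_val (g : Matrix.SpecialLinearGroup (Fin (m + 1)) F) : (g⁻¹).1 * g.1 = 1 :=
  congrArg Subtype.val (inv_mul_cancel g)

theorem sl_mul_inv_val (g : Matrix.SpecialLinearGroup (Fin (m + 1)) F) : g.1 * (g⁻¹).1 = 1 :=
  congrArg Subtype.val (mul_inv_cancel g)

/-- conjugating `uSL c` by an element fixing `e₀` -/
theorem conj_uSL (g : Matrix.SpecialLinearGroup (Fin (m + 1)) F)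
    (hg : g.1 *ᵥ e0 F m = e0 F m) (c : Fin m → F) :
    ∃ c' : Fin m → F, g⁻¹ * uSL c * g = uSL c' ∧ ext0 c' = ext0 c ᵥ* g.1 := by
  have hginv : (g⁻¹).1 *ᵥ e0 F m = e0 F m := by
    have h1 : (g⁻¹).1 *ᵥ (g.1 *ᵥ e0 F m) = e0 F m := by
      rw [Matrix.mulVec_mulVec, sl_inv_mul_val, Matrix.one_mulVec]
    rw [hg] at h1
    exact h1
  have h0 : (ext0 c ᵥ* g.1) 0 = 0 := by
    have h1 := dot_e0 (ext0 c ᵥ* g.1)
    rw [← Matrix.dotProduct_mulVec, hg, ext0_dot_e0] at h1
    exact h1.symm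
  refine ⟨Fin.tail (ext0 c ᵥ* g.1), ?_, ext0_tail _ h0⟩
  apply Subtype.ext
  change (g⁻¹).1 * tMat (ext0 c) * g.1 = tMat (ext0 (Fin.tail (ext0 c ᵥ* g.1)))
  rw [ext0_tail _ h0]
  unfold tMat
  rw [mul_add, add_mul, mul_one, sl_inv_mul_val, Matrix.mul_vecMulVec, hginv, Matrix.vecMulVec_mul]

theorem uSL_not_center (c : Fin m → F) (hc : c ≠ 0) :
    uSL c ∉ Subgroup.center (Matrix.SpecialLinearGroup (Fin (m + 1)) F) := by
  intro h
  rw [Matrix.SpecialLinearGroup.mem_center_iff] at h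
  obtain ⟨r, -, hr⟩ := h
  apply hc
  funext j
  have h1 := congrFun (congrFun hr 0) j.succ
  change _ = tMat (ext0 c) 0 j.succ at h1
  simp [tMat, vecMulVec_apply, e0, ext0, Matrix.one_apply, (Fin.succ_ne_zero j).symm] at h1
  simpa using h1.symm

end unip

open Matrix

section charsum
variable {F : Type*} [Field F] [Fintype F] {L : Type*} [Field L] {m : ℕ}

theorem sum_char_dot_zero (ψ : AddChar F L) :
    ∑ b : Fin m → F, ψ ((0 : Fin m → F) ⬝ᵥ b) = (Fintype.card F : L) ^ m := by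
  simp only [zero_dotProduct, AddChar.map_zero_eq_one, Finset.sum_const, Finset.card_univ,
    Fintype.card_fun, Fintype.card_fin, nsmul_eq_mul, mul_one, Nat.cast_pow]

theorem sum_char_dot_ne (ψ : AddChar F L) (hψ : ψ.IsPrimitive) (c : Fin m → F) (h : c ≠ 0) :
    ∑ b : Fin m → F, ψ (c ⬝ᵥ b) = 0 := by
  classical
  let Ψ : AddChar (Fin m → F) L :=
    { toFun := fun b => ψ (c ⬝ᵥ b)
      map_zero_eq_one' := by simp
      map_add_eq_mul' := fun x y => by rw [dotProduct_add, AddChar.map_add_eq_mul] }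
  have hΨ : Ψ ≠ 1 := by
    rw [AddChar.ne_one_iff]
    obtain ⟨i, hi⟩ : ∃ i, c i ≠ 0 := by
      by_contra hcon
      push Not at hcon
      exact h (funext hcon)
    have h1 := hψ hi
    rw [AddChar.ne_one_iff] at h1
    obtain ⟨t, ht⟩ := h1
    refine ⟨Pi.single i t, ?_⟩
    change ψ (c ⬝ᵥ Pi.single i t) ≠ 1
    rw [dotProduct_single]
    exact ht
  exact AddChar.sum_eq_zero_of_ne_one hΨ

end charsum

open Matrix

section core
variable {F : Type*} [Field F] [Fintype F] {L : Type*} [Field L] {m d : ℕ}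
variable (ψ : AddChar F L) (A : (Fin m → F) → Matrix (Fin d) (Fin d) L)

/-- the projector onto the `a`-eigenspace -/
noncomputable def proj (a : Fin m → F) : Matrix (Fin d) (Fin d) L :=
  ((Fintype.card F : L) ^ m)⁻¹ • ∑ b : Fin m → F, ψ (-(a ⬝ᵥ b)) • A b

/-- simultaneous eigenvector with character `a` -/
def IsEig (a : Fin m → F) (w : Fin d → L) : Prop := ∀ c, A c *ᵥ w = ψ (a ⬝ᵥ c) • w

theorem mul_proj (hadd : ∀ b b', A (b + b') = A b * A b') (a c : Fin m → F) :
    A c * proj ψ A a = ψ (a ⬝ᵥ c) • proj ψ A a := by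
  have key : A c * ∑ b : Fin m → F, ψ (-(a ⬝ᵥ b)) • A b
      = ψ (a ⬝ᵥ c) • ∑ b : Fin m → F, ψ (-(a ⬝ᵥ b)) • A b := by
    rw [Finset.mul_sum, Finset.smul_sum,
      ← Equiv.sum_comp (Equiv.addLeft c) (fun b' => ψ (a ⬝ᵥ c) • ψ (-(a ⬝ᵥ b')) • A b')]
    apply Finset.sum_congr rfl
    intro b _
    simp only [Equiv.coe_addLeft]
    rw [Matrix.mul_smul, ← hadd, smul_smul, ← AddChar.map_add_eq_mul]
    congr 2
    rw [dotProduct_add]
    ring
  unfold proj
  rw [Matrix.mul_smul, key, smul_comm]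

theorem proj_isEig (hadd : ∀ b b', A (b + b') = A b * A b') (a : Fin m → F) (w : Fin d → L) :
    IsEig ψ A a (proj ψ A a *ᵥ w) := fun c => by
  rw [Matrix.mulVec_mulVec, mul_proj ψ A hadd, Matrix.smul_mulVec]

theorem sum_proj (hψ : ψ.IsPrimitive) (hq : (Fintype.card F : L) ≠ 0) (h0 : A 0 = 1) :
    ∑ a, proj ψ A a = 1 := by
  classical
  unfold proj
  rw [← Finset.smul_sum, Finset.sum_comm]
  simp_rw [← Finset.sum_smul]
  rw [Finset.sum_eq_single 0]
  · have : ∑ a : Fin m → F, ψ (-(a ⬝ᵥ (0 : Fin m → F))) = (Fintype.card F : L) ^ m := by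
      have := sum_char_dot_zero (m := m) ψ
      simp
    rw [this, h0, smul_smul, inv_mul_cancel₀ (pow_ne_zero _ hq), one_smul]
  · intro b _ hb
    have : ∑ a : Fin m → F, ψ (-(a ⬝ᵥ b)) = 0 := by
      have h1 := sum_char_dot_ne ψ hψ (-b) (neg_ne_zero.2 hb)
      rw [← h1]
      apply Finset.sum_congr rfl
      intro a _
      rw [neg_dotProduct, dotProduct_comm]
    rw [this, zero_smul]
  · intro h; exact absurd (Finset.mem_univ _) h

theorem proj_mulVec_eig (a a' : Fin m → F) (w : Fin d → L) (hw : IsEig ψ A a w) :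
    proj ψ A a' *ᵥ w =
      (((Fintype.card F : L) ^ m)⁻¹ * ∑ b : Fin m → F, ψ ((a - a') ⬝ᵥ b)) • w := by
  unfold proj
  rw [Matrix.smul_mulVec, Matrix.sum_mulVec, ← smul_smul, Finset.sum_smul]
  congr 1
  apply Finset.sum_congr rfl
  intro b _
  rw [Matrix.smul_mulVec, hw b, smul_smul, ← AddChar.map_add_eq_mul]
  congr 2
  rw [sub_dotProduct]
  ring

theorem proj_eig_self (hq : (Fintype.card F : L) ≠ 0) (a : Fin m → F) (w : Fin d → L)
    (hw : IsEig ψ A a w) : proj ψ A a *ᵥ w = w := by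
  rw [proj_mulVec_eig ψ A a a w hw, sub_self, sum_char_dot_zero, inv_mul_cancel₀ (pow_ne_zero _ hq),
    one_smul]

theorem proj_eig_ne (hψ : ψ.IsPrimitive) (a a' : Fin m → F) (hne : a ≠ a') (w : Fin d → L)
    (hw : IsEig ψ A a w) : proj ψ A a' *ᵥ w = 0 := by
  rw [proj_mulVec_eig ψ A a a' w hw, sum_char_dot_ne ψ hψ _ (sub_ne_zero.2 hne), mul_zero, zero_smul]

theorem exists_eig (hψ : ψ.IsPrimitive) (hq : (Fintype.card F : L) ≠ 0)
    (hadd : ∀ b b', A (b + b') = A b * A b') (h0 : A 0 = 1) (hA : ∃ c, A c ≠ 1) :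
    ∃ a : Fin m → F, a ≠ 0 ∧ ∃ w : Fin d → L, w ≠ 0 ∧ IsEig ψ A a w := by
  by_contra hcon
  push Not at hcon
  obtain ⟨c, hc⟩ := hA
  apply hc
  rw [Matrix.ext_iff_mulVec]
  intro w
  rw [Matrix.one_mulVec]
  have hz : ∀ a : Fin m → F, a ≠ 0 → proj ψ A a *ᵥ w = 0 := by
    intro a ha
    by_contra hne
    exact hcon a ha _ hne (proj_isEig ψ A hadd a w)
  have hw : w = proj ψ A 0 *ᵥ w := by
    have h1 := congrArg (fun M => M *ᵥ w) (sum_proj ψ A hψ hq h0)
    simp only [Matrix.sum_mulVec, Matrix.one_mulVec] at h1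
    rw [Finset.sum_eq_single 0 (fun a _ ha => hz a ha)
      (fun h => absurd (Finset.mem_univ _) h)] at h1
    exact h1.symm
  have h2 := proj_isEig ψ A hadd 0 w c
  rw [← hw, zero_dotProduct, AddChar.map_zero_eq_one, one_smul] at h2
  exact h2

end core

open Matrix

section main
variable {F : Type*} [Field F] [Fintype F] {L : Type*} [Field L] {m d : ℕ}

theorem e0_ne_zero : e0 F m ≠ 0 := by
  intro h
  have := congrFun h 0
  simp [e0] at this

theorem li_e0_ext0 (a : Fin m → F) (ha : a ≠ 0) : LinearIndependent F ![e0 F m, ext0 a] := by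
  rw [LinearIndependent.pair_iff' e0_ne_zero]
  intro t ht
  apply ha
  funext j
  have := congrFun ht j.succ
  simp [e0, ext0] at this
  simpa using this.symm

theorem core (hm : 2 ≤ m) (ψ : AddChar F L) (hψ : ψ.IsPrimitive) (hq : (Fintype.card F : L) ≠ 0)
    (Φ : Matrix.SpecialLinearGroup (Fin (m + 1)) F →* Matrix (Fin d) (Fin d) L)
    (hΦ : ∃ c : Fin m → F, Φ (uSL c) ≠ 1) : Fintype.card F ^ m - 1 ≤ d := by
  classical
  obtain ⟨A, hA⟩ : ∃ A : (Fin m → F) → Matrix (Fin d) (Fin d) L, A = fun c => Φ (uSL c) := ⟨_, rfl⟩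
  have hAc : ∀ c, A c = Φ (uSL c) := fun c => by rw [hA]
  have hadd : ∀ b b', A (b + b') = A b * A b' := fun b b' => by
    rw [hAc, hAc, hAc, uSL_add, map_mul]
  have h0 : A 0 = 1 := by rw [hAc, uSL_zero, map_one]
  have hΦ' : ∃ c, A c ≠ 1 := by
    obtain ⟨c, hc⟩ := hΦ
    exact ⟨c, by rw [hAc]; exact hc⟩
  obtain ⟨a₀, ha₀, w₀, hw₀, heig₀⟩ := exists_eig ψ A hψ hq hadd h0 hΦ'
  have hall : ∀ a : Fin m → F, a ≠ 0 → ∃ w : Fin d → L, w ≠ 0 ∧ IsEig ψ A a w := by
    intro a ha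
    obtain ⟨g, hg1, hg2⟩ := Cfsg.Agent.Lib.Helper5.SLTrans.exists_sl_pair (m + 1) (by omega)
      (e0 F m) (ext0 a₀) (e0 F m) (ext0 a) (li_e0_ext0 a₀ ha₀) (li_e0_ext0 a ha)
    refine ⟨Φ g *ᵥ w₀, ?_, ?_⟩
    · intro h
      apply hw₀
      have h1 := congrArg (fun x => Φ g⁻¹ *ᵥ x) h
      rw [Matrix.mulVec_mulVec, ← map_mul, inv_mul_cancel, map_one, Matrix.one_mulVec,
        Matrix.mulVec_zero] at h1
      exact h1
    · intro c
      obtain ⟨c', hc', hc'2⟩ := conj_uSL g hg1 c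
      have e1 : uSL c * g = g * uSL c' := by rw [← hc']; group
      have h2 := heig₀ c'
      rw [hAc] at h2 ⊢
      rw [Matrix.mulVec_mulVec, ← map_mul, e1, map_mul, ← Matrix.mulVec_mulVec, h2,
        Matrix.mulVec_smul]
      congr 2
      rw [← ext0_dot, hc'2, dotProduct_comm, ← Matrix.dotProduct_mulVec, hg2, ext0_dot,
        dotProduct_comm]
  choose! w hw0 hweig using hall
  have hli : LinearIndependent L (fun a : {a : Fin m → F // a ≠ 0} => w a.1) := by
    rw [Fintype.linearIndependent_iff]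
    intro g hg a'
    have h1 := congrArg (fun x => proj ψ A a'.1 *ᵥ x) hg
    simp only [Matrix.mulVec_sum, Matrix.mulVec_smul, Matrix.mulVec_zero] at h1
    rw [Finset.sum_eq_single a'] at h1
    · rw [proj_eig_self ψ A hq a'.1 _ (hweig a'.1 a'.2)] at h1
      exact (smul_eq_zero.1 h1).resolve_right (hw0 a'.1 a'.2)
    · intro a _ hne
      rw [proj_eig_ne ψ A hψ a.1 a'.1 (fun h => hne (Subtype.ext h)) _ (hweig a.1 a.2), smul_zero]
    · intro h; exact absurd (Finset.mem_univ _) h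
  have h1 := hli.fintype_card_le_finrank
  rw [Module.finrank_fin_fun] at h1
  have h2 : Fintype.card {a : Fin m → F // a ≠ 0} = Fintype.card F ^ m - 1 := by
    rw [Fintype.card_subtype_compl, Fintype.card_subtype_eq, Fintype.card_fun, Fintype.card_fin]
  rw [h2] at h1
  exact h1

end main

theorem card_cast_ne_zero {F : Type*} [Field F] [Fintype F] {K : Type*} [Field K]
    (hK : ringChar K ≠ ringChar F) (L : Type*) [Field L] [Algebra K L] :
    (Fintype.card F : L) ≠ 0 := by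
  obtain ⟨k, hp, hk⟩ := FiniteField.card F (ringChar F)
  rw [hk, Nat.cast_pow]
  apply pow_ne_zero
  intro h0
  have h1 : ringChar L ∣ ringChar F := ringChar.dvd h0
  rw [← Algebra.ringChar_eq K L] at h1
  rcases (Nat.dvd_prime hp).1 h1 with h | h
  · exact CharP.ringChar_ne_one h
  · exact hK h

/-- A lower bound for representations in cross characteristic: for `n ≥ 3` and a field `F` with `q` elements, every homomorphism from `SL_n(F)` to `GL_d(K)`, `K` a field of characteristic different from that of `F`, whose kernel is central has `d ≥ q^(n-1) - 1`. -/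
theorem result {F : Type*} [Field F] [Fintype F] {q : ℕ} (hq : Fintype.card F = q) (n : ℕ) (hn : 3 ≤ n)
    {K : Type*} [Field K] (hK : ringChar K ≠ ringChar F) {d : ℕ}
    (ρ : Matrix.SpecialLinearGroup (Fin n) F →* GL (Fin d) K) (hker : ρ.ker ≤ Subgroup.center (Matrix.SpecialLinearGroup (Fin n) F)) :
    q ^ (n - 1) - 1 ≤ d := by
  obtain ⟨m, rfl⟩ : ∃ m, n = m + 1 := ⟨n - 1, by omega⟩
  subst hq
  rw [Nat.add_sub_cancel]
  obtain ⟨N, ψ, hψ⟩ := AddChar.FiniteField.primitiveChar F K hK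
  have hcard : (Fintype.card F : CyclotomicField N K) ≠ 0 := card_cast_ne_zero hK _
  let Φ : Matrix.SpecialLinearGroup (Fin (m + 1)) F →* Matrix (Fin d) (Fin d) (CyclotomicField N K) :=
    ((algebraMap K (CyclotomicField N K)).mapMatrix :
      Matrix (Fin d) (Fin d) K →+* Matrix (Fin d) (Fin d) (CyclotomicField N K)).toMonoidHom.comp
      ((Units.coeHom (Matrix (Fin d) (Fin d) K)).comp ρ)
  apply core (by omega) ψ hψ hcard Φ
  have hc : (Pi.single (⟨0, by omega⟩ : Fin m) (1 : F) : Fin m → F) ≠ 0 := by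
    intro h
    have := congrFun h ⟨0, by omega⟩
    simp at this
  refine ⟨Pi.single ⟨0, by omega⟩ 1, ?_⟩
  intro h
  have h1 : ρ (uSL (Pi.single ⟨0, by omega⟩ 1)) = 1 := by
    apply Units.ext
    have hinj : Function.Injective (fun M : Matrix (Fin d) (Fin d) K =>
        M.map (algebraMap K (CyclotomicField N K))) :=
      Matrix.map_injective (algebraMap K (CyclotomicField N K)).injective
    apply hinj
    change Φ (uSL (Pi.single ⟨0, by omega⟩ 1)) = _
    rw [h]
    simp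
  exact uSL_not_center _ hc (hker (MonoidHom.mem_ker.2 h1))

end Cfsg.Agent.S2392
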