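import Cfsg.Statements.S2393
import Mathlib
import Cfsg.Agent.S2392

set_option autoImplicit false
open Cfsg

namespace Cfsg.Agent.S2393

open Matrix Cfsg.Agent.S2392

section sp
variable {F : Type*} [Field F] {m : ℕ}

/-- the symmetric matrix `e₀ bᵀ + b e₀ᵀ` -/
def symS (b : Fin (m + 1) → F) : Matrix (Fin (m + 1)) (Fin (m + 1)) F :=
  vecMulVec (e0 F m) b + vecMulVec b (e0 F m)

theorem symS_transpose (b : Fin (m + 1) → F) : (symS b)ᵀ = symS b := by
  unfold symS
  rw [transpose_add, transpose_vecMulVec, transpose_vecMulVec]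
  exact add_comm _ _

theorem symS_add (b b' : Fin (m + 1) → F) : symS (b + b') = symS b + symS b' := by
  unfold symS
  rw [vecMulVec_add, add_vecMulVec]
  abel

theorem symS_zero : symS (0 : Fin (m + 1) → F) = 0 := by
  unfold symS
  rw [vecMulVec_zero, zero_vecMulVec, add_zero]

/-- Siegel unipotent element attached to `b` -/
def uS (b : Fin (m + 1) → F) : ↥(Matrix.symplecticGroup (Fin (m + 1)) F) :=
  ⟨fromBlocks 1 (symS b) 0 1, by
    rw [SymplecticGroup.fromBlocks_mem_iff]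
    simp [symS_transpose]⟩

theorem uS_val (b : Fin (m + 1) → F) : (uS b).1 = fromBlocks 1 (symS b) 0 1 := rfl

theorem uS_add (b b' : Fin (m + 1) → F) : uS (b + b') = uS b * uS b' := by
  apply Subtype.ext
  change fromBlocks 1 (symS (b + b')) 0 1 = fromBlocks 1 (symS b) 0 1 * fromBlocks 1 (symS b') 0 1
  rw [fromBlocks_multiply, symS_add]
  simp [add_comm]

theorem uS_zero : uS (0 : Fin (m + 1) → F) = 1 := by
  apply Subtype.ext
  change fromBlocks 1 (symS (0 : Fin (m + 1) → F)) 0 1 = 1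
  rw [symS_zero, fromBlocks_one]

/-- Levi element attached to an invertible matrix -/
def lv (h h' : Matrix (Fin (m + 1)) (Fin (m + 1)) F) (hh : h' * h = 1) :
    ↥(Matrix.symplecticGroup (Fin (m + 1)) F) :=
  ⟨fromBlocks h 0 0 h'ᵀ, by
    rw [SymplecticGroup.fromBlocks_mem_iff]
    refine ⟨by simp, by simp, ?_⟩
    rw [Matrix.transpose_zero, Matrix.zero_mul, sub_zero, ← transpose_mul, hh, transpose_one]⟩

theorem conj_symS (h' : Matrix (Fin (m + 1)) (Fin (m + 1)) F) (s : F)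
    (hs : h' *ᵥ e0 F m = s • e0 F m) (c : Fin (m + 1) → F) :
    h' * symS c * h'ᵀ = symS (s • (h' *ᵥ c)) := by
  unfold symS
  rw [mul_add, add_mul, mul_vecMulVec, mul_vecMulVec, vecMulVec_mul, vecMulVec_mul,
    vecMul_transpose, vecMul_transpose, hs, smul_vecMulVec, vecMulVec_smul, vecMulVec_smul,
    smul_vecMulVec]

theorem uS_mul_lv (h h' : Matrix (Fin (m + 1)) (Fin (m + 1)) F) (hh : h' * h = 1)
    (hh' : h * h' = 1) (s : F) (hs : h' *ᵥ e0 F m = s • e0 F m) (c : Fin (m + 1) → F) :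
    uS c * lv h h' hh = lv h h' hh * uS (s • (h' *ᵥ c)) := by
  apply Subtype.ext
  change fromBlocks 1 (symS c) 0 1 * fromBlocks h 0 0 h'ᵀ
    = fromBlocks h 0 0 h'ᵀ * fromBlocks 1 (symS (s • (h' *ᵥ c))) 0 1
  rw [fromBlocks_multiply, fromBlocks_multiply, ← conj_symS h' s hs c]
  have e : h * (h' * symS c * h'ᵀ) = symS c * h'ᵀ := by
    rw [← Matrix.mul_assoc, ← Matrix.mul_assoc, hh', Matrix.one_mul]
  rw [e]
  simp

theorem uS_not_comm (b : Fin (m + 1) → F) (hb : symS b ≠ 0) :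
    uS b * SymplecticGroup.symJ (Fin (m + 1)) F ≠ SymplecticGroup.symJ (Fin (m + 1)) F * uS b := by
  intro h
  have h1 := congrArg Subtype.val h
  change fromBlocks 1 (symS b) 0 1 * Matrix.J (Fin (m + 1)) F
    = Matrix.J (Fin (m + 1)) F * fromBlocks 1 (symS b) 0 1 at h1
  unfold Matrix.J at h1
  rw [fromBlocks_multiply, fromBlocks_multiply, fromBlocks_inj] at h1
  apply hb
  have := h1.1
  simpa using this

theorem symS_e0_ne (h2 : (2 : F) ≠ 0) : symS (e0 F m) ≠ 0 := by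
  intro h
  have := congrFun (congrFun h 0) 0
  simp [symS, vecMulVec_apply, e0] at this
  exact h2 (by linear_combination this)

end sp

open Matrix Cfsg.Agent.S2392

section core
variable {F : Type*} [Field F] [Fintype F] {L : Type*} [Field L] {m d : ℕ}
variable (ψ : AddChar F L)
variable (Φ : ↥(Matrix.symplecticGroup (Fin (m + 1)) F) →* Matrix (Fin d) (Fin d) L)

/-- the matrices representing the abelian subgroup -/
def AΦ (b : Fin (m + 1) → F) : Matrix (Fin d) (Fin d) L := Φ (uS b)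

theorem AΦ_add (b b' : Fin (m + 1) → F) : AΦ Φ (b + b') = AΦ Φ b * AΦ Φ b' := by
  unfold AΦ
  rw [uS_add, map_mul]

theorem AΦ_zero : AΦ Φ 0 = 1 := by
  unfold AΦ
  rw [uS_zero, map_one]

/-- the character `a` occurs -/
def HasEig (a : Fin (m + 1) → F) : Prop := ∃ w : Fin d → L, w ≠ 0 ∧ IsEig ψ (AΦ Φ) a w

theorem transport (g : ↥(Matrix.symplecticGroup (Fin (m + 1)) F))
    (τ : (Fin (m + 1) → F) → (Fin (m + 1) → F)) (hconj : ∀ c, uS c * g = g * uS (τ c))
    (a a' : Fin (m + 1) → F) (ha : ∀ c, a ⬝ᵥ τ c = a' ⬝ᵥ c) (h : HasEig ψ Φ a) :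
    HasEig ψ Φ a' := by
  obtain ⟨w, hw, he⟩ := h
  refine ⟨Φ g *ᵥ w, ?_, ?_⟩
  · intro h0
    apply hw
    have h1 := congrArg (fun x => Φ g⁻¹ *ᵥ x) h0
    rw [Matrix.mulVec_mulVec, ← map_mul, inv_mul_cancel, map_one, Matrix.one_mulVec,
      Matrix.mulVec_zero] at h1
    exact h1
  · intro c
    have h2 := he (τ c)
    unfold AΦ at h2 ⊢
    rw [Matrix.mulVec_mulVec, ← map_mul, hconj, map_mul, ← Matrix.mulVec_mulVec, h2,
      Matrix.mulVec_smul, ha]

theorem tMat_zero : tMat (0 : Fin (m + 1) → F) = 1 := by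
  unfold tMat
  rw [vecMulVec_zero, add_zero]

theorem tMat_mulVec (y c : Fin (m + 1) → F) : tMat y *ᵥ c = c + (y ⬝ᵥ c) • e0 F m := by
  unfold tMat
  rw [Matrix.add_mulVec, Matrix.one_mulVec, vecMulVec_mulVec, op_smul_eq_smul]

theorem yStep (a a' : Fin (m + 1) → F) (ha0 : a 0 ≠ 0) (haa : a' 0 = a 0) (h : HasEig ψ Φ a) :
    HasEig ψ Φ a' := by
  obtain ⟨y, hy⟩ : ∃ y : Fin (m + 1) → F, y = (a 0)⁻¹ • (a' - a) := ⟨_, rfl⟩
  have hy0 : y ⬝ᵥ e0 F m = 0 := by
    rw [dot_e0, hy]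
    simp [haa]
  have hny0 : (-y) ⬝ᵥ e0 F m = 0 := by rw [neg_dotProduct, hy0, neg_zero]
  have hh : tMat y * tMat (-y) = 1 := by rw [tMat_mul _ _ hy0, add_neg_cancel, tMat_zero]
  have hh' : tMat (-y) * tMat y = 1 := by rw [tMat_mul _ _ hny0, neg_add_cancel, tMat_zero]
  have hs : tMat y *ᵥ e0 F m = (1 : F) • e0 F m := by
    rw [tMat_mulVec, hy0, zero_smul, add_zero, one_smul]
  apply transport ψ Φ (lv (tMat (-y)) (tMat y) hh) (fun c => (1 : F) • (tMat y *ᵥ c))
    (fun c => uS_mul_lv (tMat (-y)) (tMat y) hh hh' 1 hs c) a a' _ h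
  intro c
  rw [one_smul, tMat_mulVec, dotProduct_add, dotProduct_smul, dot_e0, hy, smul_dotProduct,
    sub_dotProduct, smul_eq_mul, smul_eq_mul]
  field_simp
  ring

/-- the diagonal matrix `diag(s,1,…,1)` -/
def dg (s : F) : Matrix (Fin (m + 1)) (Fin (m + 1)) F :=
  Matrix.diagonal (Function.update (1 : Fin (m + 1) → F) 0 s)

theorem dg_mul (s t : F) (hst : s * t = 1) :
    (dg s : Matrix (Fin (m + 1)) (Fin (m + 1)) F) * dg t = 1 := by
  unfold dg
  rw [Matrix.diagonal_mul_diagonal, ← Matrix.diagonal_one]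
  congr 1
  funext i
  by_cases hi : i = 0
  · subst hi; simp [hst]
  · simp [Function.update_of_ne hi]

theorem dg_mulVec (s : F) (c : Fin (m + 1) → F) (i : Fin (m + 1)) :
    ((dg s : Matrix (Fin (m + 1)) (Fin (m + 1)) F) *ᵥ c) i
      = Function.update (1 : Fin (m + 1) → F) 0 s i * c i := by
  unfold dg
  rw [Matrix.mulVec_diagonal]

theorem tStep (a : Fin (m + 1) → F) (s : F) (hs0 : s ≠ 0) (h : HasEig ψ Φ a) :
    HasEig ψ Φ (s • ((dg s : Matrix (Fin (m + 1)) (Fin (m + 1)) F) *ᵥ a)) := by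
  have hh : (dg s : Matrix (Fin (m + 1)) (Fin (m + 1)) F) * dg s⁻¹ = 1 :=
    dg_mul s s⁻¹ (mul_inv_cancel₀ hs0)
  have hh' : (dg s⁻¹ : Matrix (Fin (m + 1)) (Fin (m + 1)) F) * dg s = 1 :=
    dg_mul s⁻¹ s (inv_mul_cancel₀ hs0)
  have hs : (dg s : Matrix (Fin (m + 1)) (Fin (m + 1)) F) *ᵥ e0 F m = s • e0 F m := by
    funext i
    rw [dg_mulVec]
    by_cases hi : i = 0
    · subst hi; simp [e0]
    · simp [e0, hi]
  apply transport ψ Φ (lv (dg s⁻¹) (dg s) hh) (fun c => s • (dg s *ᵥ c))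
    (fun c => uS_mul_lv (dg s⁻¹) (dg s) hh hh' s hs c) a _ _ h
  intro c
  rw [dotProduct_smul, smul_dotProduct]
  congr 1
  unfold dotProduct
  apply Finset.sum_congr rfl
  intro i _
  rw [dg_mulVec, dg_mulVec]
  ring

theorem orbitStep (a a' : Fin (m + 1) → F) (ha0 : a 0 ≠ 0) (s : F) (hs0 : s ≠ 0)
    (haa : a' 0 = s ^ 2 * a 0) (h : HasEig ψ Φ a) : HasEig ψ Φ a' := by
  have h1 := tStep ψ Φ a s hs0 h
  have e : (s • ((dg s : Matrix (Fin (m + 1)) (Fin (m + 1)) F) *ᵥ a)) 0 = s ^ 2 * a 0 := by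
    rw [Pi.smul_apply, dg_mulVec]
    simp
    ring
  apply yStep ψ Φ _ a' _ _ h1
  · rw [e]; exact mul_ne_zero (pow_ne_zero _ hs0) ha0
  · rw [e, haa]

end core

open Matrix Cfsg.Agent.S2392

section count
variable {F : Type*} [Field F] [Fintype F] [DecidableEq F]

/-- the nonzero square multiples of `α` -/
def sqSet (α : F) : Finset F := (Finset.univ.filter (fun s : F => s ≠ 0)).image (fun s => s ^ 2 * α)

theorem card_sqSet (α : F) (hα : α ≠ 0) : Fintype.card F - 1 ≤ 2 * (sqSet α).card := by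
  have h1 : (Finset.univ.filter (fun s : F => s ≠ 0)).card = Fintype.card F - 1 := by
    rw [Finset.filter_ne', Finset.card_erase_of_mem (Finset.mem_univ _), Finset.card_univ]
  rw [← h1]
  apply Finset.card_le_mul_card_image
  intro r hr
  rw [Finset.mem_image] at hr
  obtain ⟨x₀, -, hx₀⟩ := hr
  have hsub : (Finset.univ.filter (fun s : F => s ≠ 0)).filter (fun x => x ^ 2 * α = r)
      ⊆ {x₀, -x₀} := by
    intro x hx
    rw [Finset.mem_filter] at hx
    have h2 : x ^ 2 = x₀ ^ 2 := by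
      have : x ^ 2 * α = x₀ ^ 2 * α := by rw [hx.2, hx₀]
      exact mul_right_cancel₀ hα this
    rw [Finset.mem_insert, Finset.mem_singleton]
    have h3 : (x - x₀) * (x + x₀) = 0 := by linear_combination h2
    rcases mul_eq_zero.1 h3 with h | h
    · left; exact sub_eq_zero.1 h
    · right; exact eq_neg_of_add_eq_zero_left h
  exact (Finset.card_le_card hsub).trans Finset.card_le_two

end count

section core2
variable {F : Type*} [Field F] [Fintype F] {L : Type*} [Field L] {m d : ℕ}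
variable (ψ : AddChar F L)
variable (Φ : ↥(Matrix.symplecticGroup (Fin (m + 1)) F) →* Matrix (Fin d) (Fin d) L)

theorem exists_eig0 (hψ : ψ.IsPrimitive) (hq : (Fintype.card F : L) ≠ 0)
    (hΦ : AΦ Φ (e0 F m) ≠ 1) : ∃ a : Fin (m + 1) → F, a 0 ≠ 0 ∧ HasEig ψ Φ a := by
  by_contra hcon
  push Not at hcon
  apply hΦ
  rw [Matrix.ext_iff_mulVec]
  intro w
  rw [Matrix.one_mulVec]
  have hz : ∀ a : Fin (m + 1) → F, a 0 ≠ 0 → proj ψ (AΦ Φ) a *ᵥ w = 0 := by
    intro a ha
    by_contra hne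
    exact hcon a ha ⟨_, hne, proj_isEig ψ (AΦ Φ) (AΦ_add Φ) a w⟩
  have hw : ∑ a : Fin (m + 1) → F, proj ψ (AΦ Φ) a *ᵥ w = w := by
    have h1 := congrArg (fun M => M *ᵥ w) (sum_proj ψ (AΦ Φ) hψ hq (AΦ_zero Φ))
    simp only [Matrix.sum_mulVec, Matrix.one_mulVec] at h1
    exact h1
  conv_lhs => rw [← hw]
  rw [Matrix.mulVec_sum]
  conv_rhs => rw [← hw]
  apply Finset.sum_congr rfl
  intro a _
  by_cases ha : a 0 = 0
  · rw [proj_isEig ψ (AΦ Φ) (AΦ_add Φ) a w (e0 F m), dot_e0, ha, AddChar.map_zero_eq_one, one_smul]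
  · rw [hz a ha, Matrix.mulVec_zero]

theorem coreSp (hψ : ψ.IsPrimitive) (hq : (Fintype.card F : L) ≠ 0)
    (hΦ : AΦ Φ (e0 F m) ≠ 1) : Fintype.card F ^ m * (Fintype.card F - 1) / 2 ≤ d := by
  classical
  obtain ⟨a₀, ha₀, heig₀⟩ := exists_eig0 ψ Φ hψ hq hΦ
  have hall : ∀ a : Fin (m + 1) → F, a 0 ∈ sqSet (a₀ 0) →
      ∃ w : Fin d → L, w ≠ 0 ∧ IsEig ψ (AΦ Φ) a w := by
    intro a ha
    unfold sqSet at ha
    rw [Finset.mem_image] at ha
    obtain ⟨s, hs, hsa⟩ := ha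
    rw [Finset.mem_filter] at hs
    exact orbitStep ψ Φ a₀ a ha₀ s hs.2 hsa.symm heig₀
  choose! w hw0 hweig using hall
  have hli : LinearIndependent L
      (fun a : {a : Fin (m + 1) → F // a 0 ∈ sqSet (a₀ 0)} => w a.1) := by
    rw [Fintype.linearIndependent_iff]
    intro g hg a'
    have h1 := congrArg (fun x => proj ψ (AΦ Φ) a'.1 *ᵥ x) hg
    simp only [Matrix.mulVec_sum, Matrix.mulVec_smul, Matrix.mulVec_zero] at h1
    rw [Finset.sum_eq_single a'] at h1
    · rw [proj_eig_self ψ (AΦ Φ) hq a'.1 _ (hweig a'.1 a'.2)] at h1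
      exact (smul_eq_zero.1 h1).resolve_right (hw0 a'.1 a'.2)
    · intro a _ hne
      rw [proj_eig_ne ψ (AΦ Φ) hψ a.1 a'.1 (fun h => hne (Subtype.ext h)) _ (hweig a.1 a.2),
        smul_zero]
    · intro h; exact absurd (Finset.mem_univ _) h
  have h1 := hli.fintype_card_le_finrank
  rw [Module.finrank_fin_fun] at h1
  have h2 : (sqSet (a₀ 0)).card * Fintype.card F ^ m
      ≤ Fintype.card {a : Fin (m + 1) → F // a 0 ∈ sqSet (a₀ 0)} := by
    have e : (sqSet (a₀ 0)).card * Fintype.card F ^ m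
        = Fintype.card ({t : F // t ∈ sqSet (a₀ 0)} × (Fin m → F)) := by
      rw [Fintype.card_prod, Fintype.card_coe, Fintype.card_fun, Fintype.card_fin]
    rw [e]
    apply Fintype.card_le_of_injective
      (fun p : {t : F // t ∈ sqSet (a₀ 0)} × (Fin m → F) =>
        (⟨Fin.cons p.1.1 p.2, by simpa using p.1.2⟩ :
          {a : Fin (m + 1) → F // a 0 ∈ sqSet (a₀ 0)}))
    intro p p' hpp
    have h3 : (Fin.cons p.1.1 p.2 : Fin (m + 1) → F) = Fin.cons p'.1.1 p'.2 :=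
      congrArg Subtype.val hpp
    rw [Fin.cons_inj] at h3
    exact Prod.ext (Subtype.ext h3.1) h3.2
  have h3 := card_sqSet (a₀ 0) ha₀
  apply Nat.div_le_of_le_mul
  calc Fintype.card F ^ m * (Fintype.card F - 1)
      ≤ Fintype.card F ^ m * (2 * (sqSet (a₀ 0)).card) := Nat.mul_le_mul_left _ h3
    _ = 2 * ((sqSet (a₀ 0)).card * Fintype.card F ^ m) := by ring
    _ ≤ 2 * d := Nat.mul_le_mul_left _ (h2.trans h1)

end core2

open Cfsg.Agent.S2392

/-- A lower bound for representations in cross characteristic: for `n ≥ 2` and a field `F` with `q` elements, `q` odd, every homomorphism from the symplectic group `Sp_{2n}(F)` to `GL_d(K)`, `K` a field of characteristic different from that of `F`, whose kernel is central has `d ≥ q^(n-1)(q-1)/2`. -/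
theorem result {F : Type*} [Field F] [Fintype F] {q : ℕ} (hq : Fintype.card F = q) (hodd : Odd q) (n : ℕ) (hn : 2 ≤ n)
    {K : Type*} [Field K] (hK : ringChar K ≠ ringChar F) {d : ℕ}
    (ρ : ↥(Matrix.symplecticGroup (Fin n) F) →* GL (Fin d) K) (hker : ρ.ker ≤ Subgroup.center ↥(Matrix.symplecticGroup (Fin n) F)) :
    q ^ (n - 1) * (q - 1) / 2 ≤ d := by
  obtain ⟨m, rfl⟩ : ∃ m, n = m + 1 := ⟨n - 1, by omega⟩
  subst hq
  rw [Nat.add_sub_cancel]
  obtain ⟨N, ψ, hψ⟩ := AddChar.FiniteField.primitiveChar F K hK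
  have hcard : (Fintype.card F : CyclotomicField N K) ≠ 0 := card_cast_ne_zero hK _
  let Φ : ↥(Matrix.symplecticGroup (Fin (m + 1)) F) →* Matrix (Fin d) (Fin d) (CyclotomicField N K) :=
    ((algebraMap K (CyclotomicField N K)).mapMatrix :
      Matrix (Fin d) (Fin d) K →+* Matrix (Fin d) (Fin d) (CyclotomicField N K)).toMonoidHom.comp
      ((Units.coeHom (Matrix (Fin d) (Fin d) K)).comp ρ)
  apply coreSp ψ Φ hψ hcard
  intro h
  have h1 : ρ (uS (e0 F m)) = 1 := by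
    apply Units.ext
    have hinj : Function.Injective (fun M : Matrix (Fin d) (Fin d) K =>
        M.map (algebraMap K (CyclotomicField N K))) :=
      Matrix.map_injective (algebraMap K (CyclotomicField N K)).injective
    apply hinj
    change Φ (uS (e0 F m)) = _
    have h' : Φ (uS (e0 F m)) = 1 := h
    rw [h']
    simp
  have h2 : (2 : F) ≠ 0 := by
    apply Ring.two_ne_zero
    intro hc
    have := FiniteField.even_card_iff_char_two.1 hc
    obtain ⟨k, hk⟩ := hodd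
    omega
  have hcen := hker (MonoidHom.mem_ker.2 h1)
  exact uS_not_comm _ (symS_e0_ne h2) ((Subgroup.mem_center_iff.1 hcen _).symm)

end Cfsg.Agent.S2393
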