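import Cfsg.Statements.S2394
import Mathlib
import Cfsg.Agent.S0245
import Cfsg.Agent.H9.Zsigmondy

set_option autoImplicit false
open Cfsg

namespace Cfsg.Agent.S2394

theorem card_GL {F : Type*} [Field F] [Fintype F] (d : ℕ) :
    Nat.card (GL (Fin d) F) = ∏ i : Fin d, (Fintype.card F ^ d - Fintype.card F ^ (i : ℕ)) := by
  classical
  rw [Matrix.card_GL_field]

theorem prime_dvd_GL {q d r : ℕ} (hr : r.Prime) (hrq : ¬ r ∣ q)
    (h : r ∣ ∏ i : Fin d, (q ^ d - q ^ (i : ℕ))) : ∃ k, 0 < k ∧ k ≤ d ∧ r ∣ q ^ k - 1 := by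
  rw [Prime.dvd_finset_prod_iff hr.prime] at h
  obtain ⟨i, -, hi⟩ := h
  have hid : (i : ℕ) < d := i.2
  have h1 : q ^ d - q ^ (i : ℕ) = q ^ (i : ℕ) * (q ^ (d - i) - 1) := by
    rw [Nat.mul_sub, mul_one, ← pow_add]
    congr 2
    omega
  rw [h1] at hi
  rcases (Nat.Prime.dvd_mul hr).1 hi with h2 | h2
  · exact absurd (hr.dvd_of_dvd_pow h2) hrq
  · exact ⟨d - i, by omega, by omega, h2⟩

/-- The smallest degree of a faithful representation of the symplectic group `Sp_{2n}(q)` over its own field `F_q` is `2n`: every injective homomorphism from `Sp_{2n}(F)` to `GL_d(F)`, `F` the field with `q` elements, has `d ≥ 2n`. -/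
theorem result {F : Type*} [Field F] [Fintype F] (n : ℕ) {d : ℕ}
    (ρ : ↥(Matrix.symplecticGroup (Fin n) F) →* GL (Fin d) F) (hρ : Function.Injective ρ) : 2 * n ≤ d := by
  classical
  set q := Fintype.card F with hq
  have hq2 : 2 ≤ q := Fintype.one_lt_card
  have hdvd0 : Nat.card (Matrix.symplecticGroup (Fin n) F) ∣ Nat.card (GL (Fin d) F) :=
    Subgroup.card_dvd_of_injective ρ hρ
  have hdvd : q ^ (n ^ 2) * ∏ i ∈ Finset.range n, (q ^ (2 * (i + 1)) - 1) ∣
      ∏ i : Fin d, (q ^ d - q ^ (i : ℕ)) := by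
    rw [Cfsg.Agent.S0245.result (F := F) (q := q) rfl n, card_GL d] at hdvd0
    exact hdvd0
  clear_value q
  by_contra hcon
  push Not at hcon
  rcases Nat.eq_zero_or_pos n with hn0 | hn0
  · omega
  -- the factor q^(2n) - 1 divides the order
  have hfac : q ^ (2 * n) - 1 ∣ q ^ (n ^ 2) * ∏ i ∈ Finset.range n, (q ^ (2 * (i + 1)) - 1) := by
    refine Dvd.dvd.mul_left ?_ _
    have hmem : n - 1 ∈ Finset.range n := Finset.mem_range.2 (by omega)
    have h1 := Finset.dvd_prod_of_mem (fun i => q ^ (2 * (i + 1)) - 1) hmem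
    have h2 : 2 * (n - 1 + 1) = 2 * n := by omega
    simpa [h2] using h1
  have hpos : ∀ k, 0 < k → 0 < q ^ k - 1 := by
    intro k hk
    have : 2 ^ k ≤ q ^ k := Nat.pow_le_pow_left hq2 k
    have : 2 ≤ 2 ^ k := by
      calc 2 = 2 ^ 1 := by norm_num
        _ ≤ 2 ^ k := Nat.pow_le_pow_right (by norm_num) hk
    omega
  by_cases hex : (q = 2 ∧ 2 * n = 6) ∨ (2 * n = 2 ∧ ∃ m : ℕ, q + 1 = 2 ^ m)
  · rcases hex with ⟨hq2', hn3⟩ | ⟨hn1, -⟩
    · -- Sp_6(2)
      have hn : n = 3 := by omega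
      subst hn
      rw [hq2'] at hdvd
      have hd : d < 6 := by omega
      interval_cases d <;> simp [Finset.prod_range_succ, Fin.prod_univ_succ] at hdvd <;> omega
    · -- n = 1
      have hn : n = 1 := by omega
      subst hn
      have hd : d < 2 := by omega
      have h3 : 0 < q ^ 2 - 1 := hpos 2 (by norm_num)
      have hL : q ^ (1 ^ 2) * ∏ i ∈ Finset.range 1, (q ^ (2 * (i + 1)) - 1) = q * (q ^ 2 - 1) := by
        simp
      rw [hL] at hdvd
      have hge : q * (q ^ 2 - 1) ≥ q * 1 := Nat.mul_le_mul_left q h3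
      interval_cases d
      · have hR : ∏ i : Fin 0, (q ^ 0 - q ^ (i : ℕ)) = 1 := by simp
        rw [hR] at hdvd
        have hle := Nat.le_of_dvd (by norm_num) hdvd
        omega
      · have hR : ∏ i : Fin 1, (q ^ 1 - q ^ (i : ℕ)) = q - 1 := by simp
        rw [hR] at hdvd
        have hle := Nat.le_of_dvd (by omega) hdvd
        omega
  · push Not at hex
    obtain ⟨r, hr, hrdvd, hrmin⟩ := Cfsg.Agent.H9.Zsigmondy.zsigmondy q (2 * n) (by omega) (by omega)
      (fun h => hex.1 h.1 h.2 |>.elim) (fun h => by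
        obtain ⟨h1, m, hm⟩ := h
        exact hex.2 h1 m hm)
    have hrq : ¬ r ∣ q := by
      intro h
      have h1 : r ∣ q ^ (2 * n) := dvd_pow h (by omega)
      have h2 := hpos (2 * n) (by omega)
      have h3 : r ∣ q ^ (2 * n) - (q ^ (2 * n) - 1) := Nat.dvd_sub h1 hrdvd
      have h4 : q ^ (2 * n) - (q ^ (2 * n) - 1) = 1 := by omega
      rw [h4] at h3
      exact hr.one_lt.ne' (Nat.dvd_one.1 h3)
    obtain ⟨k, hk0, hkd, hk⟩ := prime_dvd_GL hr hrq ((hrdvd.trans hfac).trans hdvd)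
    exact hrmin k hk0 (by omega) hk

end Cfsg.Agent.S2394
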