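import Mathlib
import Cfsg.Statements.S2403
import Cfsg.Agent.Lib.Helper5.SLn

set_option autoImplicit false
open Cfsg

namespace Cfsg.Agent.S2403

open Matrix Matrix.SpecialLinearGroup
open scoped commutatorElement
open Cfsg.Agent.Lib.Helper5.SLn

variable {K : Type*} [Field K] {n : ℕ}

/-- the sign in row `i` of the monomial matrix `w` -/
def eps (n : ℕ) (K : Type*) [Field K] (i : Fin (n + 1)) : K := if i.val = n then (-1) ^ n else 1

theorem eps_sq (i : Fin (n + 1)) : eps n K i * eps n K i = 1 := by
  unfold eps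
  split_ifs
  · rw [← mul_pow]
    simp
  · simp

/-- a total version of the elementary transvections -/
def tr (i j : Fin (n + 1)) (c : K) : SpecialLinearGroup (Fin (n + 1)) K :=
  if h : i ≠ j then SpecialLinearGroup.transvection h c else 1

theorem tr_of_ne {i j : Fin (n + 1)} (h : i ≠ j) (c : K) :
    tr i j c = SpecialLinearGroup.transvection h c := dif_pos h

theorem tr_self (i : Fin (n + 1)) (c : K) : tr i i c = 1 := dif_neg (by simp)

theorem tr_mulVec (i j : Fin (n + 1)) (c : K) (v : Fin (n + 1) → K) :
    (tr i j c).1 *ᵥ v = if i = j then v else Function.update v i (v i + c * v j) := by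
  by_cases h : i = j
  · subst h
    rw [tr_self, if_pos rfl]
    simp
  · rw [tr_of_ne h, if_neg h, transvection_mulVec' h]

theorem w_mulVec (w : SpecialLinearGroup (Fin (n + 1)) K)
    (hw : (w : Matrix (Fin (n + 1)) (Fin (n + 1)) K) =
      Matrix.of (fun i j => if j.val = i.val + 1 then 1
        else if i.val = n ∧ j.val = 0 then (-1) ^ n else 0))
    (v : Fin (n + 1) → K) (i : Fin (n + 1)) :
    (w.1 *ᵥ v) i = eps n K i * v (i + 1) := by
  rw [hw]
  simp only [Matrix.mulVec, dotProduct, Matrix.of_apply]
  rw [Finset.sum_eq_single (i + 1)]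
  · by_cases hi : i = Fin.last n
    · subst hi
      have h1 : (Fin.last n + 1 : Fin (n + 1)) = 0 := Fin.last_add_one n
      rw [h1]
      unfold eps
      simp
    · have hv : (i + 1 : Fin (n + 1)).val = i.val + 1 := Fin.val_add_one_of_lt (Fin.lt_last_iff_ne_last.2 hi)
      have hin : i.val ≠ n := fun h => hi (Fin.ext h)
      unfold eps
      rw [if_pos hv, if_neg hin]
  · intro j _ hj
    by_cases hi : i = Fin.last n
    · subst hi
      have h1 : (Fin.last n + 1 : Fin (n + 1)) = 0 := Fin.last_add_one n
      rw [h1] at hj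
      have hj0 : j.val ≠ 0 := fun h => hj (Fin.ext h)
      have hjn : j.val ≠ (Fin.last n).val + 1 := by
        have := j.isLt
        simp only [Fin.val_last]
        omega
      rw [if_neg hjn, if_neg (fun h => hj0 h.2), zero_mul]
    · have hv : (i + 1 : Fin (n + 1)).val = i.val + 1 := Fin.val_add_one_of_lt (Fin.lt_last_iff_ne_last.2 hi)
      have hin : i.val ≠ n := fun h => hi (Fin.ext h)
      have hjn : j.val ≠ i.val + 1 := fun h => hj (Fin.ext (by rw [hv, h]))
      rw [if_neg hjn, if_neg (fun h => hin h.1), zero_mul]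
  · intro h
    exact absurd (Finset.mem_univ _) h

theorem shift (w : SpecialLinearGroup (Fin (n + 1)) K)
    (hw : (w : Matrix (Fin (n + 1)) (Fin (n + 1)) K) =
      Matrix.of (fun i j => if j.val = i.val + 1 then 1
        else if i.val = n ∧ j.val = 0 then (-1) ^ n else 0))
    (i j : Fin (n + 1)) (c : K) :
    tr i j c * w = w * tr (i + 1) (j + 1) (eps n K i * eps n K j * c) := by
  apply Subtype.ext
  rw [Matrix.ext_iff_mulVec]
  intro v
  simp only [coe_mul]
  simp only [← Matrix.mulVec_mulVec]
  funext l
  rw [tr_mulVec, tr_mulVec]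
  by_cases hij : i = j
  · subst hij
    rw [if_pos rfl, if_pos rfl]
  · have hij' : i + 1 ≠ j + 1 := fun h => hij (add_right_cancel h)
    rw [if_neg hij, if_neg hij']
    by_cases hl : l = i
    · subst hl
      rw [Function.update_self, w_mulVec w hw, w_mulVec w hw, w_mulVec w hw, Function.update_self]
      have := eps_sq (K := K) l
      linear_combination (-(eps n K j * c * v (j + 1))) * this
    · have hl' : l + 1 ≠ i + 1 := fun h => hl (add_right_cancel h)
      rw [Function.update_of_ne hl, w_mulVec w hw, w_mulVec w hw, Function.update_of_ne hl']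

theorem field_small [Fintype K] (hK : Fintype.card K ≤ 3) (c : K) : c = 0 ∨ c = 1 ∨ c = -1 := by
  classical
  by_contra h
  rw [not_or, not_or] at h
  obtain ⟨h0, h1, hm⟩ := h
  have hcard : ({0, 1, c, c + 1} : Finset K).card = 4 := by
    rw [Finset.card_insert_of_notMem, Finset.card_insert_of_notMem, Finset.card_insert_of_notMem,
      Finset.card_singleton]
    · simp
    · simp only [Finset.mem_insert, Finset.mem_singleton, not_or]
      refine ⟨Ne.symm h1, ?_⟩
      intro h
      apply h0
      linear_combination -h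
    · simp only [Finset.mem_insert, Finset.mem_singleton, not_or]
      refine ⟨zero_ne_one, Ne.symm h0, ?_⟩
      intro h
      apply hm
      linear_combination -h
  have := Finset.card_le_univ ({0, 1, c, c + 1} : Finset K)
  omega

variable (x w : SpecialLinearGroup (Fin (n + 1)) K)

theorem step_shift
    (hw : (w : Matrix (Fin (n + 1)) (Fin (n + 1)) K) =
      Matrix.of (fun i j => if j.val = i.val + 1 then 1
        else if i.val = n ∧ j.val = 0 then (-1) ^ n else 0))
    (i j : Fin (n + 1))
    (h : ∀ c : K, tr i j c ∈ Subgroup.closure ({x, w} : Set (SpecialLinearGroup (Fin (n + 1)) K))) :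
    ∀ c : K, tr (i + 1) (j + 1) c ∈
      Subgroup.closure ({x, w} : Set (SpecialLinearGroup (Fin (n + 1)) K)) := by
  intro c
  have hwm : w ∈ Subgroup.closure ({x, w} : Set (SpecialLinearGroup (Fin (n + 1)) K)) :=
    Subgroup.subset_closure (by simp)
  have key := shift w hw i j (eps n K i * eps n K j * c)
  have hc : eps n K i * eps n K j * (eps n K i * eps n K j * c) = c := by
    have e1 := eps_sq (K := K) i
    have e2 := eps_sq (K := K) j
    linear_combination (eps n K j * eps n K j * c) * e1 + c * e2
  rw [hc] at key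
  have : tr (i + 1) (j + 1) c = w⁻¹ * (tr i j (eps n K i * eps n K j * c) * w) := by
    rw [key, inv_mul_cancel_left]
  rw [this]
  exact mul_mem (inv_mem hwm) (mul_mem (h _) hwm)

theorem step_comm (H : Subgroup (SpecialLinearGroup (Fin (n + 1)) K))
    {i j k : Fin (n + 1)} (hij : i ≠ j) (hik : i ≠ k) (hkj : k ≠ j)
    (h1 : ∀ c : K, tr i k c ∈ H) (h2 : ∀ c : K, tr k j c ∈ H) :
    ∀ c : K, tr i j c ∈ H := by
  intro c
  rw [tr_of_ne hij, transvection_eq_commutator hij hik hkj c, ← tr_of_ne hik, ← tr_of_ne hkj]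
  rw [commutatorElement_def]
  exact H.mul_mem (H.mul_mem (H.mul_mem (h1 c) (h2 1)) (H.inv_mem (h1 c))) (H.inv_mem (h2 1))

open Fin.NatCast in
theorem nat_cast_ne_zero {d : ℕ} (h1 : 1 ≤ d) (h2 : d ≤ n) : ((d : ℕ) : Fin (n + 1)) ≠ 0 := by
  intro h
  rw [Fin.natCast_eq_zero] at h
  exact Nat.not_dvd_of_pos_of_lt (by omega) (by omega) h

open Fin.NatCast in
theorem all_tr [Fintype K] (hK : Fintype.card K ≤ 3) (hn : 1 ≤ n)
    (hx : (x : Matrix (Fin (n + 1)) (Fin (n + 1)) K) = Matrix.transvection (0 : Fin (n + 1)) (1 : Fin (n + 1)) 1)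
    (hw : (w : Matrix (Fin (n + 1)) (Fin (n + 1)) K) =
      Matrix.of (fun i j => if j.val = i.val + 1 then 1
        else if i.val = n ∧ j.val = 0 then (-1) ^ n else 0))
    (i j : Fin (n + 1)) (c : K) :
    tr i j c ∈ Subgroup.closure ({x, w} : Set (SpecialLinearGroup (Fin (n + 1)) K)) := by
  set H := Subgroup.closure ({x, w} : Set (SpecialLinearGroup (Fin (n + 1)) K)) with hH
  have h10 : (1 : Fin (n + 1)) ≠ 0 := by
    have := nat_cast_ne_zero (n := n) (d := 1) le_rfl hn
    simpa using this
  have h01 : (0 : Fin (n + 1)) ≠ 1 := Ne.symm h10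
  have hxm : x ∈ H := Subgroup.subset_closure (by simp)
  have hx1 : x = SpecialLinearGroup.transvection h01 (1 : K) := Subtype.ext hx
  -- base
  have base : ∀ c : K, tr (0 : Fin (n + 1)) 1 c ∈ H := by
    intro c
    rw [tr_of_ne h01]
    rcases field_small hK c with rfl | rfl | rfl
    · rw [transvection_coeff_zero]
      exact H.one_mem
    · rw [← hx1]
      exact hxm
    · rw [← transvection_inv, ← hx1]
      exact H.inv_mem hxm
  -- adjacent
  have adj0 : ∀ k : ℕ, ∀ c : K, tr ((k : ℕ) : Fin (n + 1)) (((k : ℕ) : Fin (n + 1)) + 1) c ∈ H := by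
    intro k
    induction k with
    | zero =>
      intro c
      rw [Nat.cast_zero, zero_add]
      exact base c
    | succ k ih =>
      rw [Nat.cast_succ]
      exact step_shift x w hw _ _ ih
  have adj : ∀ (i : Fin (n + 1)) (c : K), tr i (i + 1) c ∈ H := by
    intro i c
    have := adj0 i.val c
    rwa [Fin.cast_val_eq_self] at this
  -- distance d
  have dist : ∀ d : ℕ, 1 ≤ d → d ≤ n → ∀ (i : Fin (n + 1)) (c : K),
      tr i (i + ((d : ℕ) : Fin (n + 1))) c ∈ H := by
    intro d hd
    induction d, hd using Nat.le_induction with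
    | base =>
      intro _ i c
      rw [Nat.cast_one]
      exact adj i c
    | succ d hd ih =>
      intro hdn i
      have hd0 : ((d : ℕ) : Fin (n + 1)) ≠ 0 := nat_cast_ne_zero hd (by omega)
      have hd1 : ((d + 1 : ℕ) : Fin (n + 1)) ≠ 0 := nat_cast_ne_zero (by omega) hdn
      have hij : i ≠ i + ((d + 1 : ℕ) : Fin (n + 1)) := by
        intro h
        apply hd1
        exact (add_eq_left (a := i)).1 h.symm
      have hik : i ≠ i + 1 := by
        intro h
        apply h10
        exact (add_eq_left (a := i)).1 h.symm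
      have hkj : i + 1 ≠ i + ((d + 1 : ℕ) : Fin (n + 1)) := by
        intro h
        apply hd0
        rw [Nat.cast_succ] at h
        have h2 := add_left_cancel h
        exact (add_eq_right (b := (1 : Fin (n + 1)))).1 h2.symm
      apply step_comm H hij hik hkj (adj i)
      intro c
      have := ih (by omega) (i + 1) c
      have e : i + 1 + ((d : ℕ) : Fin (n + 1)) = i + ((d + 1 : ℕ) : Fin (n + 1)) := by
        rw [Nat.cast_succ]
        abel
      rwa [e] at this
  by_cases hij : i = j
  · subst hij
    rw [tr_self]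
    exact H.one_mem
  · have e : j = i + (((j - i).val : ℕ) : Fin (n + 1)) := by
      rw [Fin.cast_val_eq_self]
      abel
    have hne : j - i ≠ 0 := fun h => hij (sub_eq_zero.1 h).symm
    have h1 : 1 ≤ (j - i).val := by
      rcases Nat.eq_zero_or_pos (j - i).val with h | h
      · exact absurd (Fin.ext h) hne
      · exact h
    have h2 : (j - i).val ≤ n := by
      have := (j - i).isLt
      omega
    rw [e]
    exact dist _ h1 h2 i c

/-- Explicit two-element generation of `PSL_{n+1}(K)` over the fields with two or three elements: with `x = 1 + E₁₂` and `w` the monomial matrix with entries `1` in positions `(i, i+1)` and `(−1)^n` in position `(n+1, 1)`, the elements `x` and `w` generate `SL_{n+1}(K)` modulo its centre. -/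
theorem result {K : Type*} [Field K] [Fintype K] (hK : Fintype.card K ≤ 3) (n : ℕ) (hn : 1 ≤ n)
    (x w : Matrix.SpecialLinearGroup (Fin (n + 1)) K)
    (hx : (x : Matrix (Fin (n + 1)) (Fin (n + 1)) K) = Matrix.transvection (0 : Fin (n + 1)) (1 : Fin (n + 1)) 1)
    (hw : (w : Matrix (Fin (n + 1)) (Fin (n + 1)) K) =
      Matrix.of (fun i j => if j.val = i.val + 1 then 1 else if i.val = n ∧ j.val = 0 then (-1) ^ n else 0)) :
    Subgroup.closure ({x, w} : Set (Matrix.SpecialLinearGroup (Fin (n + 1)) K)) ⊔
      Subgroup.center (Matrix.SpecialLinearGroup (Fin (n + 1)) K) = ⊤ := by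
  have hnt : Nontrivial (Fin (n + 1)) := by
    obtain ⟨m, rfl⟩ : ∃ m, n = m + 1 := ⟨n - 1, by omega⟩
    infer_instance
  have htr : ∀ (i j : Fin (n + 1)) (hij : i ≠ j) (c : K),
      SpecialLinearGroup.transvection hij c ∈
        Subgroup.closure ({x, w} : Set (Matrix.SpecialLinearGroup (Fin (n + 1)) K)) := by
    intro i j hij c
    rw [← tr_of_ne hij]
    exact all_tr x w hK hn hx hw i j c
  have htop : Subgroup.closure ({x, w} : Set (Matrix.SpecialLinearGroup (Fin (n + 1)) K)) = ⊤ := by
    refine le_antisymm le_top (fun A _ ↦ ?_)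
    refine diagonal_transvection_induction'
      (fun A => A ∈ Subgroup.closure ({x, w} : Set (Matrix.SpecialLinearGroup (Fin (n + 1)) K))) A
      ?_ htr (fun _ _ ↦ mul_mem)
    intro i j hij c hc
    rw [diag2n_decompose hij c hc]
    exact mul_mem (mul_mem (mul_mem (mul_mem (mul_mem (htr _ _ _ _) (htr _ _ _ _)) (htr _ _ _ _))
      (htr _ _ _ _)) (htr _ _ _ _)) (htr _ _ _ _)
  rw [htop]
  exact top_sup_eq _

end Cfsg.Agent.S2403
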