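import Mathlib
import Cfsg.Statements.S2402
import Cfsg.Agent.S2403

set_option autoImplicit false
open Cfsg

namespace Cfsg.Agent.S2402

open Matrix Matrix.SpecialLinearGroup
open scoped commutatorElement
open Cfsg.Agent.Lib.Helper5.SLn
open Cfsg.Agent.S2403

variable {K : Type*} [Field K] {n : ℕ}

theorem step_shift' (H : Subgroup (SpecialLinearGroup (Fin (n + 1)) K))
    (w : SpecialLinearGroup (Fin (n + 1)) K) (hwm : w ∈ H)
    (hw : (w : Matrix (Fin (n + 1)) (Fin (n + 1)) K) =
      Matrix.of (fun i j => if j.val = i.val + 1 then 1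
        else if i.val = n ∧ j.val = 0 then (-1) ^ n else 0))
    (i j : Fin (n + 1))
    (h : ∀ c : K, tr i j c ∈ H) :
    ∀ c : K, tr (i + 1) (j + 1) c ∈ H := by
  intro c
  have key := shift w hw i j (eps n K i * eps n K j * c)
  have hc : eps n K i * eps n K j * (eps n K i * eps n K j * c) = c := by
    have e1 := eps_sq (K := K) i
    have e2 := eps_sq (K := K) j
    linear_combination (eps n K j * eps n K j * c) * e1 + c * e2
  rw [hc] at key
  have : tr (i + 1) (j + 1) c = w⁻¹ * (tr i j (eps n K i * eps n K j * c) * w) := by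
    rw [key, inv_mul_cancel_left]
  rw [this]
  exact mul_mem (inv_mem hwm) (mul_mem (h _) hwm)

open Fin.NatCast in
theorem all_tr' (H : Subgroup (SpecialLinearGroup (Fin (n + 1)) K)) (hn : 1 ≤ n)
    (w : SpecialLinearGroup (Fin (n + 1)) K) (hwm : w ∈ H)
    (hw : (w : Matrix (Fin (n + 1)) (Fin (n + 1)) K) =
      Matrix.of (fun i j => if j.val = i.val + 1 then 1
        else if i.val = n ∧ j.val = 0 then (-1) ^ n else 0))
    (base : ∀ c : K, tr (0 : Fin (n + 1)) 1 c ∈ H)
    (i j : Fin (n + 1)) (c : K) : tr i j c ∈ H := by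
  have h10 : (1 : Fin (n + 1)) ≠ 0 := by
    have := nat_cast_ne_zero (n := n) (d := 1) le_rfl hn
    simpa using this
  have adj0 : ∀ k : ℕ, ∀ c : K, tr ((k : ℕ) : Fin (n + 1)) (((k : ℕ) : Fin (n + 1)) + 1) c ∈ H := by
    intro k
    induction k with
    | zero =>
      intro c
      rw [Nat.cast_zero, zero_add]
      exact base c
    | succ k ih =>
      rw [Nat.cast_succ]
      exact step_shift' H w hwm hw _ _ ih
  have adj : ∀ (i : Fin (n + 1)) (c : K), tr i (i + 1) c ∈ H := by
    intro i c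
    have := adj0 i.val c
    rwa [Fin.cast_val_eq_self] at this
  have dist : ∀ d : ℕ, 1 ≤ d → d ≤ n → ∀ (i : Fin (n + 1)) (c : K),
      tr i (i + ((d : ℕ) : Fin (n + 1))) c ∈ H := by
    intro d hd
    induction d, hd using Nat.le_induction with
    | base =>
      intro _ i c
      rw [Nat.cast_one]
      exact adj i c
    | succ d hd ih =>
      intro hdn i
      have hd0 : ((d : ℕ) : Fin (n + 1)) ≠ 0 := nat_cast_ne_zero hd (by omega)
      have hd1 : ((d + 1 : ℕ) : Fin (n + 1)) ≠ 0 := nat_cast_ne_zero (by omega) hdn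
      have hij : i ≠ i + ((d + 1 : ℕ) : Fin (n + 1)) := by
        intro h
        apply hd1
        exact (add_eq_left (a := i)).1 h.symm
      have hik : i ≠ i + 1 := by
        intro h
        apply h10
        exact (add_eq_left (a := i)).1 h.symm
      have hkj : i + 1 ≠ i + ((d + 1 : ℕ) : Fin (n + 1)) := by
        intro h
        apply hd0
        rw [Nat.cast_succ] at h
        have h2 := add_left_cancel h
        exact (add_eq_right (b := (1 : Fin (n + 1)))).1 h2.symm
      apply step_comm H hij hik hkj (adj i)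
      intro c
      have := ih (by omega) (i + 1) c
      have e : i + 1 + ((d : ℕ) : Fin (n + 1)) = i + ((d + 1 : ℕ) : Fin (n + 1)) := by
        rw [Nat.cast_succ]
        abel
      rwa [e] at this
  by_cases hij : i = j
  · subst hij
    rw [tr_self]
    exact H.one_mem
  · have e : j = i + (((j - i).val : ℕ) : Fin (n + 1)) := by
      rw [Fin.cast_val_eq_self]
      abel
    have hne : j - i ≠ 0 := fun h => hij (sub_eq_zero.1 h).symm
    have h1 : 1 ≤ (j - i).val := by
      rcases Nat.eq_zero_or_pos (j - i).val with h | h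
      · exact absurd (Fin.ext h) hne
      · exact h
    have h2 : (j - i).val ≤ n := by
      have := (j - i).isLt
      omega
    rw [e]
    exact dist _ h1 h2 i c

theorem top_of_base (H : Subgroup (SpecialLinearGroup (Fin (n + 1)) K)) (hn : 1 ≤ n)
    (w : SpecialLinearGroup (Fin (n + 1)) K) (hwm : w ∈ H)
    (hw : (w : Matrix (Fin (n + 1)) (Fin (n + 1)) K) =
      Matrix.of (fun i j => if j.val = i.val + 1 then 1
        else if i.val = n ∧ j.val = 0 then (-1) ^ n else 0))
    (base : ∀ c : K, tr (0 : Fin (n + 1)) 1 c ∈ H) : H = ⊤ := by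
  have hnt : Nontrivial (Fin (n + 1)) := by
    obtain ⟨m, rfl⟩ : ∃ m, n = m + 1 := ⟨n - 1, by omega⟩
    infer_instance
  have htr : ∀ (i j : Fin (n + 1)) (hij : i ≠ j) (c : K),
      SpecialLinearGroup.transvection hij c ∈ H := by
    intro i j hij c
    rw [← tr_of_ne hij]
    exact all_tr' H hn w hwm hw base i j c
  refine le_antisymm le_top (fun A _ ↦ ?_)
  refine diagonal_transvection_induction' (fun A => A ∈ H) A ?_ htr (fun _ _ ↦ mul_mem)
  intro i j hij c hc
  rw [diag2n_decompose hij c hc]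
  exact mul_mem (mul_mem (mul_mem (mul_mem (mul_mem (htr _ _ _ _) (htr _ _ _ _)) (htr _ _ _ _))
    (htr _ _ _ _)) (htr _ _ _ _)) (htr _ _ _ _)

theorem mt_mulVec {i j : Fin (n + 1)} (hij : i ≠ j) (c : K) (v : Fin (n + 1) → K) :
    Matrix.transvection i j c *ᵥ v = Function.update v i (v i + c * v j) :=
  transvection_mulVec' hij c v

/-- conjugating the diagonal element by `x * w` -/
theorem lemmaA (h10 : (1 : Fin (n + 1)) ≠ 0) (d : Fin (n + 1) → K) (hd1 : d 1 ≠ 0)
    (h x w : SpecialLinearGroup (Fin (n + 1)) K)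
    (hh : (h : Matrix (Fin (n + 1)) (Fin (n + 1)) K) = Matrix.diagonal d)
    (hx : (x : Matrix (Fin (n + 1)) (Fin (n + 1)) K) = Matrix.transvection (0 : Fin (n + 1)) (1 : Fin (n + 1)) 1)
    (hw : (w : Matrix (Fin (n + 1)) (Fin (n + 1)) K) =
      Matrix.of (fun i j => if j.val = i.val + 1 then 1
        else if i.val = n ∧ j.val = 0 then (-1) ^ n else 0)) :
    (Matrix.diagonal (fun i => d (i + 1)) * Matrix.transvection 0 1 (d (1 + 1) / d 1 - 1)) *
      (x.1 * w.1) = (x.1 * w.1) * h.1 := by
  have h01 : (0 : Fin (n + 1)) ≠ 1 := Ne.symm h10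
  rw [Matrix.ext_iff_mulVec]
  intro v
  simp only [← Matrix.mulVec_mulVec]
  rw [hx, hh]
  funext i
  rw [Matrix.mulVec_diagonal, mt_mulVec h01, mt_mulVec h01, mt_mulVec h01]
  by_cases hi : i = 0
  · subst hi
    simp only [Function.update_self, Function.update_of_ne h10]
    rw [w_mulVec w hw, w_mulVec w hw, w_mulVec w hw, w_mulVec w hw, Matrix.mulVec_diagonal,
      Matrix.mulVec_diagonal, zero_add]
    field_simp
    ring
  · simp only [Function.update_of_ne hi]
    rw [w_mulVec w hw, w_mulVec w hw, Matrix.mulVec_diagonal]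
    ring

/-- the conjugate of `h` by `x * w`, as a matrix -/
theorem g_coe (h10 : (1 : Fin (n + 1)) ≠ 0) (d : Fin (n + 1) → K) (hd1 : d 1 ≠ 0)
    (h x w : SpecialLinearGroup (Fin (n + 1)) K)
    (hh : (h : Matrix (Fin (n + 1)) (Fin (n + 1)) K) = Matrix.diagonal d)
    (hx : (x : Matrix (Fin (n + 1)) (Fin (n + 1)) K) = Matrix.transvection (0 : Fin (n + 1)) (1 : Fin (n + 1)) 1)
    (hw : (w : Matrix (Fin (n + 1)) (Fin (n + 1)) K) =
      Matrix.of (fun i j => if j.val = i.val + 1 then 1
        else if i.val = n ∧ j.val = 0 then (-1) ^ n else 0)) :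
    ((x * w) * h * (x * w)⁻¹).1 =
      Matrix.diagonal (fun i => d (i + 1)) * Matrix.transvection 0 1 (d (1 + 1) / d 1 - 1) := by
  have hA := lemmaA h10 d hd1 h x w hh hx hw
  have e1 : ((x * w) * h * (x * w)⁻¹).1 * (x.1 * w.1) = (x.1 * w.1) * h.1 := by
    simp only [← coe_mul]
    rw [inv_mul_cancel_right]
  have e2 : (x.1 * w.1) * ((x * w)⁻¹).1 = 1 := by
    rw [← coe_mul, ← coe_mul, mul_inv_cancel, coe_one]
  calc ((x * w) * h * (x * w)⁻¹).1
      = ((x * w) * h * (x * w)⁻¹).1 * ((x.1 * w.1) * ((x * w)⁻¹).1) := by rw [e2, Matrix.mul_one]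
    _ = (((x * w) * h * (x * w)⁻¹).1 * (x.1 * w.1)) * ((x * w)⁻¹).1 :=
        (Matrix.mul_assoc _ _ _).symm
    _ = ((Matrix.diagonal (fun i => d (i + 1)) * Matrix.transvection 0 1 (d (1 + 1) / d 1 - 1)) *
          (x.1 * w.1)) * ((x * w)⁻¹).1 := by rw [e1, hA]
    _ = _ := by rw [Matrix.mul_assoc, e2, Matrix.mul_one]

/-- the commutator of `h` and its conjugate is a transvection -/
theorem lemmaB (h10 : (1 : Fin (n + 1)) ≠ 0) (d : Fin (n + 1) → K) (hd1 : d 1 ≠ 0)
    (hd2 : d (1 + 1) ≠ 0)
    (h g : SpecialLinearGroup (Fin (n + 1)) K)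
    (hh : (h : Matrix (Fin (n + 1)) (Fin (n + 1)) K) = Matrix.diagonal d)
    (hg : g.1 =
      Matrix.diagonal (fun i => d (i + 1)) * Matrix.transvection 0 1 (d (1 + 1) / d 1 - 1)) :
    ⁅h, g⁆ = SpecialLinearGroup.transvection (Ne.symm h10)
      (d 1 / d (1 + 1) * (d 0 / d 1 - 1) * (d (1 + 1) / d 1 - 1)) := by
  have h01 : (0 : Fin (n + 1)) ≠ 1 := Ne.symm h10
  have key : SpecialLinearGroup.transvection h01
      (d 1 / d (1 + 1) * (d 0 / d 1 - 1) * (d (1 + 1) / d 1 - 1)) * (g * h) = h * g := by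
    apply Subtype.ext
    rw [coe_mul, coe_mul, coe_mul, hg, hh, Matrix.ext_iff_mulVec]
    intro v
    simp only [← Matrix.mulVec_mulVec]
    funext i
    rw [transvection_mulVec' h01]
    by_cases hi : i = 0
    · subst hi
      simp only [Function.update_self, Matrix.mulVec_diagonal, mt_mulVec h01,
        Function.update_of_ne h10, zero_add]
      field_simp
      ring
    · simp only [Function.update_of_ne hi, Matrix.mulVec_diagonal, mt_mulVec h01]
      ring
  rw [commutatorElement_def, ← key]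
  group

/-- conjugating a transvection by the diagonal element -/
theorem lemmaC (h10 : (1 : Fin (n + 1)) ≠ 0) (d : Fin (n + 1) → K) (hd1 : d 1 ≠ 0)
    (h : SpecialLinearGroup (Fin (n + 1)) K)
    (hh : (h : Matrix (Fin (n + 1)) (Fin (n + 1)) K) = Matrix.diagonal d) (c : K) :
    h * SpecialLinearGroup.transvection (Ne.symm h10) c * h⁻¹ =
      SpecialLinearGroup.transvection (Ne.symm h10) (d 0 / d 1 * c) := by
  have h01 : (0 : Fin (n + 1)) ≠ 1 := Ne.symm h10
  rw [mul_inv_eq_iff_eq_mul]
  apply Subtype.ext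
  rw [coe_mul, coe_mul, hh, Matrix.ext_iff_mulVec]
  intro v
  simp only [← Matrix.mulVec_mulVec]
  funext i
  rw [transvection_mulVec' h01, transvection_mulVec' h01, Matrix.mulVec_diagonal]
  by_cases hi : i = 0
  · subst hi
    simp only [Function.update_self]
    rw [Matrix.mulVec_diagonal, Matrix.mulVec_diagonal]
    field_simp
  · simp only [Function.update_of_ne hi]
    rw [Matrix.mulVec_diagonal]

theorem sum_two_squares [Fintype K] (c : K) : ∃ s t : K, s ^ 2 + t ^ 2 = c := by
  classical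
  by_cases hodd : Fintype.card K % 2 = 1
  · obtain ⟨a, b, hab⟩ := FiniteField.exists_root_sum_quadratic (R := K)
      (f := Polynomial.X ^ 2) (g := Polynomial.X ^ 2 - Polynomial.C c)
      (Polynomial.degree_X_pow 2) (Polynomial.degree_X_pow_sub_C (by decide) _) hodd
    refine ⟨a, b, ?_⟩
    simp only [Polynomial.eval_pow, Polynomial.eval_X, Polynomial.eval_sub,
      Polynomial.eval_C] at hab
    linear_combination hab
  · have heven : Fintype.card K % 2 = 0 := by omega
    have hchar : ringChar K = 2 := FiniteField.even_card_iff_char_two.2 heven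
    obtain ⟨r, hr⟩ := FiniteField.isSquare_of_char_two hchar c
    refine ⟨r, 0, ?_⟩
    rw [hr]
    ring

/-- Explicit two-element generation of `PSL_{n+1}(K)` for a finite field `K` with more than three elements: let `k` generate the multiplicative group of `K`, `h = diag(k, k⁻¹, 1, …, 1)`, `x = 1 + E₁₂` (the elementary transvection) and `w` the monomial matrix with entries `1` in positions `(i, i+1)` and `(−1)^n` in position `(n+1, 1)`. Then `h` and `x·w` generate `SL_{n+1}(K)` modulo its centre: the subgroup they generate together with the centre is everything. -/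
theorem result {K : Type*} [Field K] [Fintype K] (hK : 3 < Fintype.card K) (n : ℕ) (hn : 1 ≤ n)
    (k : Kˣ) (hk : ∀ u : Kˣ, u ∈ Subgroup.zpowers k)
    (h x w : Matrix.SpecialLinearGroup (Fin (n + 1)) K)
    (hh : (h : Matrix (Fin (n + 1)) (Fin (n + 1)) K) =
      Matrix.diagonal (fun i => if i.val = 0 then (k : K) else if i.val = 1 then ((k⁻¹ : Kˣ) : K) else 1))
    (hx : (x : Matrix (Fin (n + 1)) (Fin (n + 1)) K) = Matrix.transvection (0 : Fin (n + 1)) (1 : Fin (n + 1)) 1)
    (hw : (w : Matrix (Fin (n + 1)) (Fin (n + 1)) K) =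
      Matrix.of (fun i j => if j.val = i.val + 1 then 1 else if i.val = n ∧ j.val = 0 then (-1) ^ n else 0)) :
    Subgroup.closure ({h, x * w} : Set (Matrix.SpecialLinearGroup (Fin (n + 1)) K)) ⊔
      Subgroup.center (Matrix.SpecialLinearGroup (Fin (n + 1)) K) = ⊤ := by
  classical
  obtain ⟨m, rfl⟩ : ∃ m, n = m + 1 := ⟨n - 1, by omega⟩
  set G1 := Subgroup.closure ({h, x * w} : Set (Matrix.SpecialLinearGroup (Fin (m + 1 + 1)) K))
    with hG1
  have h01 : (0 : Fin (m + 1 + 1)) ≠ 1 := Fin.zero_ne_one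
  have h10 : (1 : Fin (m + 1 + 1)) ≠ 0 := Ne.symm h01
  set d : Fin (m + 1 + 1) → K :=
    fun i => if i.val = 0 then (k : K) else if i.val = 1 then ((k⁻¹ : Kˣ) : K) else 1 with hd
  have kinv : ((k⁻¹ : Kˣ) : K) = (k : K)⁻¹ := Units.val_inv_eq_inv_val k
  have hk0 : (k : K) ≠ 0 := k.ne_zero
  have hd0 : d 0 = (k : K) := by simp [hd]
  have hd1 : d 1 = (k : K)⁻¹ := by
    rw [← kinv]
    simp [hd]
  have hd2 : d (1 + 1) = (k : K) ∨ d (1 + 1) = 1 := by
    by_cases c0 : ((1 + 1 : Fin (m + 1 + 1))).val = 0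
    · left
      simp only [hd]
      rw [if_pos c0]
    · right
      have c1 : ((1 + 1 : Fin (m + 1 + 1))).val ≠ 1 := by
        intro e
        have e' : (1 + 1 : Fin (m + 1 + 1)) = 1 := Fin.ext (by rw [e, Fin.val_one])
        exact h10 ((add_eq_left (a := (1 : Fin (m + 1 + 1)))).1 e')
      simp only [hd]
      rw [if_neg c0, if_neg c1]
  -- facts about k
  have ho : orderOf k = Fintype.card K - 1 := by
    rw [orderOf_eq_card_of_forall_mem_zpowers hk, Nat.card_eq_fintype_card, Fintype.card_units]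
  have hk2 : (k : K) ^ 2 ≠ 1 := by
    intro e
    have e' : k ^ 2 = 1 := Units.ext (by rw [Units.val_pow_eq_pow_val, e, Units.val_one])
    have := Nat.le_of_dvd (by norm_num) (orderOf_dvd_of_pow_eq_one e')
    omega
  have hk1 : (k : K) ≠ 1 := by
    intro e
    apply hk2
    rw [e, one_pow]
  have hd1ne : d 1 ≠ 0 := by
    rw [hd1]
    exact inv_ne_zero hk0
  have hd2ne : d (1 + 1) ≠ 0 := by
    rcases hd2 with e | e <;> rw [e]
    · exact hk0
    · exact one_ne_zero
  -- memberships
  have hhm : h ∈ G1 := Subgroup.subset_closure (by simp)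
  have hym : x * w ∈ G1 := Subgroup.subset_closure (by simp)
  have hgm : (x * w) * h * (x * w)⁻¹ ∈ G1 := G1.mul_mem (G1.mul_mem hym hhm) (G1.inv_mem hym)
  have hgc := g_coe h10 d hd1ne h x w hh hx hw
  have hB := lemmaB h10 d hd1ne hd2ne h _ hh hgc
  set a : K := d 1 / d (1 + 1) * (d 0 / d 1 - 1) * (d (1 + 1) / d 1 - 1) with ha
  have ha_mem : SpecialLinearGroup.transvection h01 a ∈ G1 := by
    rw [← hB, commutatorElement_def]
    exact G1.mul_mem (G1.mul_mem (G1.mul_mem hhm hgm) (G1.inv_mem hhm)) (G1.inv_mem hgm)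
  have hq : d 0 / d 1 = (k : K) ^ 2 := by
    rw [hd0, hd1]
    field_simp
  have hq0 : d 0 / d 1 ≠ 0 := by
    rw [hq]
    exact pow_ne_zero 2 hk0
  have ha0 : a ≠ 0 := by
    rw [ha]
    refine mul_ne_zero (mul_ne_zero (div_ne_zero hd1ne hd2ne) ?_) ?_
    · rw [hq]
      exact sub_ne_zero_of_ne hk2
    · rcases hd2 with e | e <;> rw [e, hd1]
      · intro e2
        apply hk2
        field_simp at e2
        linear_combination e2
      · intro e2
        apply hk1
        field_simp at e2
        linear_combination e2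
  -- the additive group of parameters
  let S : AddSubgroup K :=
    { carrier := {c | SpecialLinearGroup.transvection h01 c ∈ G1}
      zero_mem' := by
        show SpecialLinearGroup.transvection h01 (0 : K) ∈ G1
        rw [transvection_coeff_zero]
        exact G1.one_mem
      add_mem' := by
        intro c c' hc hc'
        show SpecialLinearGroup.transvection h01 (c + c') ∈ G1
        rw [transvection_add]
        exact G1.mul_mem hc hc'
      neg_mem' := by
        intro c hc
        show SpecialLinearGroup.transvection h01 (-c) ∈ G1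
        rw [← transvection_inv]
        exact G1.inv_mem hc }
  have memS : ∀ c : K, c ∈ S ↔ SpecialLinearGroup.transvection h01 c ∈ G1 := fun c => Iff.rfl
  have hSq : ∀ c ∈ S, d 0 / d 1 * c ∈ S := by
    intro c hc
    rw [memS, ← lemmaC h10 d hd1ne h hh c]
    exact G1.mul_mem (G1.mul_mem hhm hc) (G1.inv_mem hhm)
  have hSqi : ∀ c ∈ S, (d 0 / d 1)⁻¹ * c ∈ S := by
    intro c hc
    rw [memS]
    have e := lemmaC h10 d hd1ne h hh ((d 0 / d 1)⁻¹ * c)
    rw [mul_inv_cancel_left₀ hq0] at e
    have e2 : SpecialLinearGroup.transvection h01 ((d 0 / d 1)⁻¹ * c) =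
        h⁻¹ * SpecialLinearGroup.transvection h01 c * h := by
      rw [← e]
      group
    rw [e2]
    exact G1.mul_mem (G1.mul_mem (G1.inv_mem hhm) hc) hhm
  have hSz : ∀ z : ℤ, ∀ c ∈ S, (d 0 / d 1) ^ z * c ∈ S := by
    intro z
    induction z using Int.induction_on with
    | zero =>
      intro c hc
      rwa [zpow_zero, one_mul]
    | succ i ih =>
      intro c hc
      rw [zpow_add_one₀ hq0, mul_assoc]
      exact ih _ (hSq c hc)
    | pred i ih =>
      intro c hc
      rw [zpow_sub_one₀ hq0, mul_assoc]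
      exact ih _ (hSqi c hc)
  have haS : a ∈ S := ha_mem
  have hunit : ∀ u : Kˣ, a * (u : K) ^ 2 ∈ S := by
    intro u
    obtain ⟨z, hz⟩ := Subgroup.mem_zpowers_iff.1 (hk u)
    have e : (u : K) ^ 2 = (d 0 / d 1) ^ z := by
      rw [hq, ← hz, Units.val_zpow_eq_zpow_val, ← zpow_natCast, ← _root_.zpow_mul, mul_comm,
        _root_.zpow_mul, zpow_natCast]
    rw [e, mul_comm]
    exact hSz z a haS
  have hsq : ∀ s : K, a * s ^ 2 ∈ S := by
    intro s
    by_cases hs : s = 0
    · rw [hs]
      simp only [ne_eq, OfNat.ofNat_ne_zero, not_false_eq_true, zero_pow, mul_zero]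
      exact S.zero_mem
    · exact hunit (Units.mk0 s hs)
  have hall : ∀ c : K, c ∈ S := by
    intro c
    obtain ⟨s, t, hst⟩ := sum_two_squares (c / a)
    have e : c = a * s ^ 2 + a * t ^ 2 := by
      rw [← mul_add, hst, mul_div_cancel₀ c ha0]
    rw [e]
    exact S.add_mem (hsq s) (hsq t)
  have base : ∀ c : K, tr (0 : Fin (m + 1 + 1)) 1 c ∈ G1 := by
    intro c
    rw [tr_of_ne h01]
    exact hall c
  have hxm : x ∈ G1 := by
    have : x = SpecialLinearGroup.transvection h01 (1 : K) := Subtype.ext hx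
    rw [this]
    exact hall 1
  have hwm : w ∈ G1 := by
    have : w = x⁻¹ * (x * w) := by group
    rw [this]
    exact G1.mul_mem (G1.inv_mem hxm) hym
  rw [top_of_base G1 hn w hwm hw base]
  exact top_sup_eq _

end Cfsg.Agent.S2402
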