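import Cfsg.Statements.S2409
import Cfsg.Agent.Lib.Helper5.Ree.Gen2

set_option autoImplicit false
open Cfsg

namespace Cfsg.Agent.S2409

/-- The small Ree group ²G₂(3^(2m+1)) with `m ≥ 1` is generated by two of its elements. -/
theorem result {K : Type*} [Field K] [Fintype K] {m : ℕ} (hm : 1 ≤ m) (hK : Fintype.card K = 3 ^ (2 * m + 1)) :
    ∃ a b : ↥(Cfsg.Lie.twistedG2 K (3 ^ m)), Subgroup.closure ({a, b} : Set ↥(Cfsg.Lie.twistedG2 K (3 ^ m))) = ⊤ := by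
  have := Cfsg.Agent.Lib.Helper5.Ree.charP3 hK
  obtain ⟨a, b, ha, hb, hle⟩ := Cfsg.Agent.Lib.Helper5.Ree.twisted_two_gen hK hm
  refine ⟨⟨a, ha⟩, ⟨b, hb⟩, ?_⟩
  rw [eq_top_iff]
  rintro ⟨x, hx⟩ -
  have h1 : x ∈ Subgroup.closure ({a, b} : Set (GL Cfsg.Lie.chevG2.Idx K)) := hle hx
  have h2 : (Subgroup.closure ({⟨a, ha⟩, ⟨b, hb⟩} : Set ↥(Cfsg.Lie.twistedG2 K (3 ^ m)))).map
      (Cfsg.Lie.twistedG2 K (3 ^ m)).subtype
      = Subgroup.closure ({a, b} : Set (GL Cfsg.Lie.chevG2.Idx K)) := by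
    rw [MonoidHom.map_closure]
    congr 1
    ext y
    simp only [Set.mem_image, Set.mem_insert_iff, Set.mem_singleton_iff]
    constructor
    · rintro ⟨z, rfl | rfl, rfl⟩
      · exact Or.inl rfl
      · exact Or.inr rfl
    · rintro (rfl | rfl)
      · exact ⟨_, Or.inl rfl, rfl⟩
      · exact ⟨_, Or.inr rfl, rfl⟩
  rw [← h2] at h1
  obtain ⟨z, hz, hzx⟩ := h1
  have : z = ⟨x, hx⟩ := Subtype.ext hzx
  rw [← this]
  exact hz

end Cfsg.Agent.S2409
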