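import Cfsg.Statements.S2410
import Cfsg.Agent.Lib.Helper5.SuzukiSimple
import Mathlib

set_option autoImplicit false
open Cfsg

namespace Cfsg.Agent.S2410

open Cfsg.Agent.Lib.Helper5.Suzuki Cfsg.Agent.S0335

section gen
variable {F : Type*} [Field F] [Fintype F] [CharP F 2] (m : ℕ)
set_option linter.unusedSectionVars false
variable (hF : Fintype.card F = 2 ^ (2 * m + 1))
include hF

theorem key (hm : 1 ≤ m) (ζ : Fˣ) (hζ : ∀ α : Fˣ, α ∈ Subgroup.zpowers ζ)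
    (H : Subgroup (Sz F m)) (hd : dD m hF ζ ∈ H) (hx : tT m hF 1 0 * wW m hF ∈ H) : H = ⊤ := by
  have h2 := two_eq_zero' (F := F)
  -- all torus elements
  have hD : ∀ α : Fˣ, dD m hF α ∈ H := by
    intro α
    obtain ⟨k, rfl⟩ := Subgroup.mem_zpowers_iff.1 (hζ α)
    have : dD m hF (ζ ^ k) = (dD m hF ζ) ^ k := map_zpow (dHom m hF) ζ k
    rw [this]
    exact H.zpow_mem hd k
  have hζ1 : ζ ≠ 1 := by
    intro h
    obtain ⟨α, hα⟩ := exists_unit_ne_one m hF hm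
    obtain ⟨k, hk⟩ := Subgroup.mem_zpowers_iff.1 (hζ α)
    rw [h, one_zpow] at hk
    exact hα hk.symm
  -- a nontrivial unipotent element
  have h1 : dD m hF ζ * (tT m hF 1 0 * wW m hF) * (dD m hF ζ)⁻¹ ∈ H :=
    H.mul_mem (H.mul_mem hd hx) (H.inv_mem hd)
  have e1 : dD m hF ζ * (tT m hF 1 0 * wW m hF) * (dD m hF ζ)⁻¹ =
      tT m hF (ζ : F) 0 * dD m hF (ζ * ζ) * wW m hF := by
    have : wW m hF * (dD m hF ζ)⁻¹ = dD m hF ζ * wW m hF := by
      rw [dD_inv, wW_mul_dD, inv_inv]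
    rw [mul_assoc, mul_assoc, this, ← mul_assoc, ← mul_assoc, dD_mul_tT, mul_one, mul_zero,
      mul_assoc (tT m hF (ζ : F) 0), dD_mul]
  rw [e1] at h1
  have h3 : tT m hF (ζ : F) 0 * dD m hF (ζ * ζ) * wW m hF * (tT m hF 1 0 * wW m hF)⁻¹ *
      (dD m hF (ζ * ζ))⁻¹ ∈ H := H.mul_mem (H.mul_mem h1 (H.inv_mem hx)) (H.inv_mem (hD _))
  have e3 : tT m hF (ζ : F) 0 * dD m hF (ζ * ζ) * wW m hF * (tT m hF 1 0 * wW m hF)⁻¹ *
      (dD m hF (ζ * ζ))⁻¹ =
      tT m hF (ζ : F) 0 * (dD m hF (ζ * ζ) * tT m hF 1 0 * (dD m hF (ζ * ζ))⁻¹)⁻¹ := by group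
  rw [e3, dD_conj, tT_inv, tT_mul, mul_one, mul_zero] at h3
  set c₀ : F := (ζ : F) + ((ζ * ζ : Fˣ) : F) with hc₀
  have hc₀ne : c₀ ≠ 0 := by
    rw [hc₀, Units.val_mul]
    have hz : (ζ : F) ≠ 0 := ζ.ne_zero
    have hz1 : (ζ : F) ≠ 1 := fun h => hζ1 (Units.ext h)
    intro h
    have : (ζ : F) * ((ζ : F) - 1) = 0 := by linear_combination h - (ζ : F) * h2
    rcases mul_eq_zero.1 this with h' | h'
    · exact hz h'
    · exact hz1 (sub_eq_zero.1 h')
  -- all first coordinates occur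
  have hfirst : ∀ a : F, ∃ b : F, tT m hF a b ∈ H := by
    intro a
    by_cases ha : a = 0
    · exact ⟨0, by rw [ha, tT_zero]; exact H.one_mem⟩
    · have := H.mul_mem (H.mul_mem (hD (Units.mk0 (a / c₀) (div_ne_zero ha hc₀ne))) h3)
        (H.inv_mem (hD (Units.mk0 (a / c₀) (div_ne_zero ha hc₀ne))))
      rw [dD_conj, Units.val_mk0] at this
      have e : a / c₀ * c₀ = a := by field_simp
      rw [e] at this
      exact ⟨_, this⟩
  -- the centre
  have hcen : ∀ c : F, tT m hF 0 c ∈ H := by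
    intro c
    by_cases hc : c = 0
    · rw [hc, tT_zero]; exact H.one_mem
    · obtain ⟨α, hα⟩ := exists_sg_mul_self m hF c hc
      obtain ⟨b, hb⟩ := hfirst (α : F)
      have := H.mul_mem hb hb
      rwa [tT_sq, hα] at this
  have hT : ∀ a b : F, tT m hF a b ∈ H := by
    intro a b
    obtain ⟨b', hb'⟩ := hfirst a
    have := H.mul_mem hb' (hcen (b' + b))
    rw [tT_mul] at this
    convert this using 2
    · ring
    · linear_combination (-b') * h2
  have hW : wW m hF ∈ H := by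
    have := H.mul_mem (H.inv_mem (hT 1 0)) hx
    rwa [inv_mul_cancel_left] at this
  rw [eq_top_iff]
  intro g _
  rcases cases m hF hm g with ⟨a, b, α, rfl⟩ | ⟨a, b, a', b', α, rfl⟩
  · exact H.mul_mem (hT a b) (hD α)
  · exact H.mul_mem (H.mul_mem (H.mul_mem (hT a b) hW) (hT a' b')) (hD α)

end gen

theorem result {F : Type*} [Field F] [Fintype F] {m : ℕ} (hm : 1 ≤ m) (hF : Fintype.card F = 2 ^ (2 * m + 1)) :
    ∃ a b : ↥(Cfsg.Sz F m), Subgroup.closure ({a, b} : Set ↥(Cfsg.Sz F m)) = ⊤ := by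
  haveI := charP_of_card hF
  obtain ⟨ζ, hζ⟩ := IsCyclic.exists_generator (α := Fˣ)
  refine ⟨dD m hF ζ, tT m hF 1 0 * wW m hF, ?_⟩
  apply key m hF hm ζ hζ
  · exact Subgroup.subset_closure (Set.mem_insert _ _)
  · exact Subgroup.subset_closure (Set.mem_insert_of_mem _ rfl)

end Cfsg.Agent.S2410
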