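import Cfsg.Statements.S2411
import Cfsg.Agent.Lib.Helper7.SpRegM
import Cfsg.Agent.Lib.Helper7.Sp4TwoGen

set_option autoImplicit false
open Cfsg

namespace Cfsg.Agent.S2411

/-- `Sp₂ₘ(F)` is generated by two elements -/
theorem sp_two_gen {F : Type*} [Field F] [Fintype F] (m : ℕ) (hm : 2 ≤ m)
    (hF : m = 2 → 2 < Fintype.card F) :
    ∃ a b : Matrix.symplecticGroup (Fin m) F,
      Subgroup.closure ({a, b} : Set (Matrix.symplecticGroup (Fin m) F)) = ⊤ := by
  by_cases h2 : (2 : F) = 0
  · by_cases hm2 : m = 2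
    · subst hm2
      have hchar : CharP F 2 := CharTwo.of_one_ne_zero_of_two_eq_zero one_ne_zero h2
      have hcard : 4 ≤ Fintype.card F := by
        obtain ⟨k, hk⟩ := FiniteField.card F 2
        obtain ⟨hp, hkc⟩ := hk
        have hne : 2 < Fintype.card F := hF rfl
        rw [hkc] at hne ⊢
        have hk2 : 2 ≤ (k : ℕ) := by
          by_contra hlt
          have hk1 : (k : ℕ) = 1 := by
            have := k.pos
            omega
          rw [hk1, pow_one] at hne
          exact lt_irrefl _ hne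
        calc 4 = 2 ^ 2 := by norm_num
          _ ≤ 2 ^ (k : ℕ) := Nat.pow_le_pow_right (by norm_num) hk2
      exact Cfsg.Agent.Lib.Helper7.Sp4TwoGen.sp4_two_gen hcard
    · exact Cfsg.Agent.Lib.Helper7.SpReg.two_gen_even (by omega) h2
  · exact Cfsg.Agent.Lib.Helper7.SpReg.two_gen_odd hm h2

/-- The projective symplectic group `PSp_{2m}(q)` with `m ≥ 2` (and `q > 2` if `m = 2`) is generated by two of its elements. -/
theorem result {F : Type*} [Field F] [Fintype F] (m : ℕ) (hm : 2 ≤ m) (hF : m = 2 → 2 < Fintype.card F) :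
    ∃ a b : Cfsg.PSp m F, Subgroup.closure ({a, b} : Set (Cfsg.PSp m F)) = ⊤ := by
  obtain ⟨a, b, hab⟩ := sp_two_gen (F := F) m hm hF
  refine ⟨QuotientGroup.mk a, QuotientGroup.mk b, ?_⟩
  have hsurj : Function.Surjective (QuotientGroup.mk' (Subgroup.center
      (Matrix.symplecticGroup (Fin m) F))) := QuotientGroup.mk'_surjective _
  have h1 := Subgroup.map_top_of_surjective _ hsurj
  rw [← hab, MonoidHom.map_closure] at h1
  rw [← h1]
  congr 1
  ext x
  simp [Set.image_insert_eq]

end Cfsg.Agent.S2411
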