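import Cfsg.Statements.S2418
import Cfsg.Agent.Lib.Helper6.CoxCenterData

set_option autoImplicit false
open Cfsg

namespace Cfsg.Agent.S2418

open Cfsg.Agent.Lib.Helper6.CoxTable Cfsg.Agent.Lib.Helper6.CoxDataS Cfsg.Agent.Lib.Helper6.CoxDataE
  Cfsg.Agent.Lib.Helper6.CoxCenterData

theorem fr2 : List.finRange 2 = [0, 1] := by decide
theorem fr4 : List.finRange 4 = [0, 1, 2, 3] := by decide
theorem fr6 : List.finRange 6 = [0, 1, 2, 3, 4, 5] := by decide
theorem fr7 : List.finRange 7 = [0, 1, 2, 3, 4, 5, 6] := by decide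
theorem fr8 : List.finRange 8 = [0, 1, 2, 3, 4, 5, 6, 7] := by decide

set_option maxRecDepth 100000 in
theorem cen_B2 : Nat.card (Subgroup.center (CoxeterMatrix.B 2).Group) = 2 ∧
    Subgroup.center (CoxeterMatrix.B 2).Group ≤ Subgroup.zpowers ((List.finRange 2).map (CoxeterMatrix.B 2).simple).prod := by
  refine ⟨B2_cen2.card_two B2S2 _ (by decide +kernel), ?_⟩
  rw [coxElt_eq, fr2]
  exact B2_cen2.le_zpowers B2S2 _ _ 2 (by decide +kernel)

set_option maxRecDepth 100000 in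
theorem cen_G2 : Nat.card (Subgroup.center (CoxeterMatrix.G₂).Group) = 2 ∧
    Subgroup.center (CoxeterMatrix.G₂).Group ≤ Subgroup.zpowers ((List.finRange 2).map (CoxeterMatrix.G₂).simple).prod := by
  refine ⟨G2_cen2.card_two G2S2 _ (by decide +kernel), ?_⟩
  rw [coxElt_eq, fr2]
  exact G2_cen2.le_zpowers G2S2 _ _ 3 (by decide +kernel)

set_option maxRecDepth 100000 in
theorem cen_D4 : Nat.card (Subgroup.center (Cfsg.Lie.coxeterD4).Group) = 2 ∧
    Subgroup.center (Cfsg.Lie.coxeterD4).Group ≤ Subgroup.zpowers ((List.finRange 4).map (Cfsg.Lie.coxeterD4).simple).prod := by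
  refine ⟨D4_cen4.card_two D4S4 _ (by decide +kernel), ?_⟩
  rw [coxElt_eq, fr4]
  exact D4_cen4.le_zpowers D4S4 _ _ 3 (by decide +kernel)

set_option maxRecDepth 100000 in
theorem cen_F4 : Nat.card (Subgroup.center (CoxeterMatrix.F₄).Group) = 2 ∧
    Subgroup.center (CoxeterMatrix.F₄).Group ≤ Subgroup.zpowers ((List.finRange 4).map (CoxeterMatrix.F₄).simple).prod := by
  refine ⟨F4_cen4.card_two F4S4 _ (by decide +kernel), ?_⟩
  rw [coxElt_eq, fr4]
  exact F4_cen4.le_zpowers F4S4 _ _ 6 (by decide +kernel)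

theorem cen_E6 : Nat.card (Subgroup.center (CoxeterMatrix.E₆).Group) = 1 ∧
    Subgroup.center (CoxeterMatrix.E₆).Group ≤ Subgroup.zpowers ((List.finRange 6).map (CoxeterMatrix.E₆).simple).prod := by
  obtain ⟨h1, h2⟩ := E8_cen6.card_one
  exact ⟨h1, by rw [h2]; exact bot_le⟩

set_option maxRecDepth 100000 in
theorem cen_E7 : Nat.card (Subgroup.center (CoxeterMatrix.E₇).Group) = 2 ∧
    Subgroup.center (CoxeterMatrix.E₇).Group ≤ Subgroup.zpowers ((List.finRange 7).map (CoxeterMatrix.E₇).simple).prod := by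
  refine ⟨E8_cen7.card_two E8S7 _ (by decide +kernel), ?_⟩
  rw [coxElt_eq, fr7]
  exact E8_cen7.le_zpowers E8S7 _ _ 9 (by decide +kernel)

set_option maxRecDepth 100000 in
theorem cen_E8 : Nat.card (Subgroup.center (CoxeterMatrix.E₈).Group) = 2 ∧
    Subgroup.center (CoxeterMatrix.E₈).Group ≤ Subgroup.zpowers ((List.finRange 8).map (CoxeterMatrix.E₈).simple).prod := by
  refine ⟨E8_cen8.card_two E8S8 _ (by decide +kernel), ?_⟩
  rw [coxElt_eq, fr8]
  exact E8_cen8.le_zpowers E8S8 _ _ 15 (by decide +kernel)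

/-- For the Coxeter groups of types B₂, G₂, D₄, F₄, E₇, E₈ the centre has order 2 (the element acting as −1 on the root system) and is generated by a power of the Coxeter element `s₁ s₂ ⋯ s_l`; the Coxeter group of type E₆ has trivial centre. -/
theorem result (c : (Σ n : ℕ, CoxeterMatrix (Fin n)) × ℕ)
    (hc : c ∈ [(⟨2, CoxeterMatrix.B 2⟩, 2), (⟨2, CoxeterMatrix.G₂⟩, 2), (⟨4, Cfsg.Lie.coxeterD4⟩, 2), (⟨4, CoxeterMatrix.F₄⟩, 2),
      (⟨6, CoxeterMatrix.E₆⟩, 1), (⟨7, CoxeterMatrix.E₇⟩, 2), (⟨8, CoxeterMatrix.E₈⟩, 2)]) :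
    Nat.card (Subgroup.center c.1.2.Group) = c.2 ∧
      Subgroup.center c.1.2.Group ≤ Subgroup.zpowers ((List.finRange c.1.1).map c.1.2.simple).prod := by
  simp only [List.mem_cons, List.not_mem_nil, or_false] at hc
  rcases hc with rfl | rfl | rfl | rfl | rfl | rfl | rfl
  · exact cen_B2
  · exact cen_G2
  · exact cen_D4
  · exact cen_F4
  · exact cen_E6
  · exact cen_E7
  · exact cen_E8

end Cfsg.Agent.S2418
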