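import Cfsg.Statements.S2419
import Cfsg.Agent.Lib.Helper6.CoxDataS
import Cfsg.Agent.Lib.Helper6.CoxDataE
import Cfsg.Agent.Lib.Helper6.CoxGen

set_option autoImplicit false
open Cfsg

namespace Cfsg.Agent.S2419

open Cfsg.Agent.Lib.Helper6.CoxTable Cfsg.Agent.Lib.Helper6.CoxDataS Cfsg.Agent.Lib.Helper6.CoxDataE

theorem fr2 : List.finRange 2 = [0, 1] := by decide
theorem fr4 : List.finRange 4 = [0, 1, 2, 3] := by decide
theorem fr6 : List.finRange 6 = [0, 1, 2, 3, 4, 5] := by decide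
theorem fr7 : List.finRange 7 = [0, 1, 2, 3, 4, 5, 6] := by decide
theorem fr8 : List.finRange 8 = [0, 1, 2, 3, 4, 5, 6, 7] := by decide

set_option maxRecDepth 100000 in
theorem gen_B2 : ∃ T : Finset (CoxeterMatrix.B 2).Group, T.card = 1 ∧
      (∀ t ∈ T, ∃ (g : (CoxeterMatrix.B 2).Group) (i : Fin 2), t = g * (CoxeterMatrix.B 2).simple i * g⁻¹) ∧
      Subgroup.closure (({((List.finRange 2).map (CoxeterMatrix.B 2).simple).prod} : Set (CoxeterMatrix.B 2).Group) ∪ ↑T) = ⊤ := by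
  refine ⟨{(CoxeterMatrix.B 2).simple 0}, Finset.card_singleton _, ?_, ?_⟩
  · intro t ht
    rw [Finset.mem_singleton] at ht
    exact ⟨1, 0, by rw [ht, one_mul, inv_one, mul_one]⟩
  · rw [coxElt_eq, fr2]
    refine B2S2.closure_eq_top _ _ [0] ?_ [[2], [1, 2]] (by decide +kernel)
    intro j hj
    rw [List.mem_singleton] at hj
    rw [hj, Finset.coe_singleton]
    exact rfl

set_option maxRecDepth 100000 in
theorem gen_G2 : ∃ T : Finset (CoxeterMatrix.G₂).Group, T.card = 1 ∧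
      (∀ t ∈ T, ∃ (g : (CoxeterMatrix.G₂).Group) (i : Fin 2), t = g * (CoxeterMatrix.G₂).simple i * g⁻¹) ∧
      Subgroup.closure (({((List.finRange 2).map (CoxeterMatrix.G₂).simple).prod} : Set (CoxeterMatrix.G₂).Group) ∪ ↑T) = ⊤ := by
  refine ⟨{(CoxeterMatrix.G₂).simple 0}, Finset.card_singleton _, ?_, ?_⟩
  · intro t ht
    rw [Finset.mem_singleton] at ht
    exact ⟨1, 0, by rw [ht, one_mul, inv_one, mul_one]⟩
  · rw [coxElt_eq, fr2]
    refine G2S2.closure_eq_top _ _ [0] ?_ [[2], [1, 2]] (by decide +kernel)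
    intro j hj
    rw [List.mem_singleton] at hj
    rw [hj, Finset.coe_singleton]
    exact rfl

set_option maxRecDepth 100000 in
theorem gen_D4 : ∃ T : Finset (Cfsg.Lie.coxeterD4).Group, T.card = 2 ∧
      (∀ t ∈ T, ∃ (g : (Cfsg.Lie.coxeterD4).Group) (i : Fin 4), t = g * (Cfsg.Lie.coxeterD4).simple i * g⁻¹) ∧
      Subgroup.closure (({((List.finRange 4).map (Cfsg.Lie.coxeterD4).simple).prod} : Set (Cfsg.Lie.coxeterD4).Group) ∪ ↑T) = ⊤ := by
  have hne : (Cfsg.Lie.coxeterD4).simple 0 ∉ ({(Cfsg.Lie.coxeterD4).simple 2} : Finset (Cfsg.Lie.coxeterD4).Group) := by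
    rw [Finset.mem_singleton]
    exact D4S4.simple_ne 0 2 (by decide +kernel)
  refine ⟨Finset.cons _ _ hne, by rw [Finset.card_cons, Finset.card_singleton], ?_, ?_⟩
  · intro t ht
    rw [Finset.mem_cons, Finset.mem_singleton] at ht
    rcases ht with ht | ht
    · exact ⟨1, 0, by rw [ht, one_mul, inv_one, mul_one]⟩
    · exact ⟨1, 2, by rw [ht, one_mul, inv_one, mul_one]⟩
  · rw [coxElt_eq, fr4]
    refine D4S4.closure_eq_top _ _ [0, 2] ?_ [[2], [0, 2, 1], [3], [0, 2, 1, 2, 0, 3]] (by decide +kernel)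
    intro j hj
    rw [Finset.coe_cons, Finset.coe_singleton]
    simp only [List.mem_cons, List.not_mem_nil, or_false] at hj
    rcases hj with rfl | rfl
    · exact Or.inl rfl
    · exact Or.inr rfl

set_option maxRecDepth 100000 in
theorem gen_F4 : ∃ T : Finset (CoxeterMatrix.F₄).Group, T.card = 2 ∧
      (∀ t ∈ T, ∃ (g : (CoxeterMatrix.F₄).Group) (i : Fin 4), t = g * (CoxeterMatrix.F₄).simple i * g⁻¹) ∧
      Subgroup.closure (({((List.finRange 4).map (CoxeterMatrix.F₄).simple).prod} : Set (CoxeterMatrix.F₄).Group) ∪ ↑T) = ⊤ := by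
  have hne : (CoxeterMatrix.F₄).simple 0 ∉ ({(CoxeterMatrix.F₄).simple 2} : Finset (CoxeterMatrix.F₄).Group) := by
    rw [Finset.mem_singleton]
    exact F4S4.simple_ne 0 2 (by decide +kernel)
  refine ⟨Finset.cons _ _ hne, by rw [Finset.card_cons, Finset.card_singleton], ?_, ?_⟩
  · intro t ht
    rw [Finset.mem_cons, Finset.mem_singleton] at ht
    rcases ht with ht | ht
    · exact ⟨1, 0, by rw [ht, one_mul, inv_one, mul_one]⟩
    · exact ⟨1, 2, by rw [ht, one_mul, inv_one, mul_one]⟩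
  · rw [coxElt_eq, fr4]
    refine F4S4.closure_eq_top _ _ [0, 2] ?_ [[2], [0, 2, 1], [3], [0, 3, 1]] (by decide +kernel)
    intro j hj
    rw [Finset.coe_cons, Finset.coe_singleton]
    simp only [List.mem_cons, List.not_mem_nil, or_false] at hj
    rcases hj with rfl | rfl
    · exact Or.inl rfl
    · exact Or.inr rfl

set_option maxRecDepth 100000 in
theorem gen_E6 : ∃ T : Finset (CoxeterMatrix.E₆).Group, T.card = 1 ∧
      (∀ t ∈ T, ∃ (g : (CoxeterMatrix.E₆).Group) (i : Fin 6), t = g * (CoxeterMatrix.E₆).simple i * g⁻¹) ∧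
      Subgroup.closure (({((List.finRange 6).map (CoxeterMatrix.E₆).simple).prod} : Set (CoxeterMatrix.E₆).Group) ∪ ↑T) = ⊤ := by
  refine ⟨{(CoxeterMatrix.E₆).simple 3}, Finset.card_singleton _, ?_, ?_⟩
  · intro t ht
    rw [Finset.mem_singleton] at ht
    exact ⟨1, 3, by rw [ht, one_mul, inv_one, mul_one]⟩
  · rw [coxElt_eq, fr6]
    refine E8S6.closure_eq_top _ _ [3] ?_ [[1, 1, 1, 1, 1, 2, 0, 0, 0, 0, 0], [2, 1, 1, 1, 2, 0, 0, 0, 2], [1, 1, 1, 1, 2, 0, 0, 0, 0], [2], [0, 2, 1], [0, 0, 2, 1, 1]] (by decide +kernel)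
    intro j hj
    rw [List.mem_singleton] at hj
    rw [hj, Finset.coe_singleton]
    exact rfl

set_option maxRecDepth 100000 in
theorem gen_E7 : ∃ T : Finset (CoxeterMatrix.E₇).Group, T.card = 1 ∧
      (∀ t ∈ T, ∃ (g : (CoxeterMatrix.E₇).Group) (i : Fin 7), t = g * (CoxeterMatrix.E₇).simple i * g⁻¹) ∧
      Subgroup.closure (({((List.finRange 7).map (CoxeterMatrix.E₇).simple).prod} : Set (CoxeterMatrix.E₇).Group) ∪ ↑T) = ⊤ := by
  refine ⟨{(CoxeterMatrix.E₇).simple 3}, Finset.card_singleton _, ?_, ?_⟩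
  · intro t ht
    rw [Finset.mem_singleton] at ht
    exact ⟨1, 3, by rw [ht, one_mul, inv_one, mul_one]⟩
  · rw [coxElt_eq, fr7]
    refine E8S7.closure_eq_top _ _ [3] ?_ [[1, 2, 1, 1, 1, 1, 2, 0, 0, 0, 0, 2, 0], [2, 0, 2, 1, 1, 1, 1, 2, 0, 0, 0, 0, 2, 1, 2], [2, 1, 1, 1, 1, 2, 0, 0, 0, 0, 2], [2], [0, 2, 1], [0, 0, 2, 1, 1], [0, 0, 0, 2, 1, 1, 1]] (by decide +kernel)
    intro j hj
    rw [List.mem_singleton] at hj
    rw [hj, Finset.coe_singleton]
    exact rfl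

set_option maxRecDepth 100000 in
theorem gen_E8 : ∃ T : Finset (CoxeterMatrix.E₈).Group, T.card = 1 ∧
      (∀ t ∈ T, ∃ (g : (CoxeterMatrix.E₈).Group) (i : Fin 8), t = g * (CoxeterMatrix.E₈).simple i * g⁻¹) ∧
      Subgroup.closure (({((List.finRange 8).map (CoxeterMatrix.E₈).simple).prod} : Set (CoxeterMatrix.E₈).Group) ∪ ↑T) = ⊤ := by
  refine ⟨{(CoxeterMatrix.E₈).simple 3}, Finset.card_singleton _, ?_, ?_⟩
  · intro t ht
    rw [Finset.mem_singleton] at ht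
    exact ⟨1, 3, by rw [ht, one_mul, inv_one, mul_one]⟩
  · rw [coxElt_eq, fr8]
    refine E8S8.closure_eq_top _ _ [3] ?_ [[1, 2, 0, 0, 0, 0, 0, 0, 2, 1, 1, 1, 1, 1, 1, 2, 0], [2, 0, 2, 0, 0, 0, 0, 0, 0, 2, 1, 1, 1, 1, 1, 1, 2, 1, 2], [2, 0, 0, 0, 0, 0, 0, 2, 1, 1, 1, 1, 1, 1, 2], [2], [0, 2, 1], [0, 0, 2, 1, 1], [0, 0, 0, 2, 1, 1, 1], [0, 0, 0, 0, 2, 1, 1, 1, 1]] (by decide +kernel)
    intro j hj
    rw [List.mem_singleton] at hj
    rw [hj, Finset.coe_singleton]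
    exact rfl

/-- The Coxeter groups of types B₂, G₂, E₆, E₇, E₈ are generated by the Coxeter element `s₁ s₂ ⋯ s_l` together with one suitable reflection (a conjugate of a simple reflection); for types D₄ and F₄ the Coxeter element together with two suitable reflections suffices. -/
theorem result (c : (Σ n : ℕ, CoxeterMatrix (Fin n)) × ℕ)
    (hc : c ∈ [(⟨2, CoxeterMatrix.B 2⟩, 1), (⟨2, CoxeterMatrix.G₂⟩, 1), (⟨4, Cfsg.Lie.coxeterD4⟩, 2), (⟨4, CoxeterMatrix.F₄⟩, 2),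
      (⟨6, CoxeterMatrix.E₆⟩, 1), (⟨7, CoxeterMatrix.E₇⟩, 1), (⟨8, CoxeterMatrix.E₈⟩, 1)]) :
    ∃ T : Finset c.1.2.Group, T.card = c.2 ∧ (∀ t ∈ T, ∃ (g : c.1.2.Group) (i : Fin c.1.1), t = g * c.1.2.simple i * g⁻¹) ∧
      Subgroup.closure (({((List.finRange c.1.1).map c.1.2.simple).prod} : Set c.1.2.Group) ∪ ↑T) = ⊤ := by
  simp only [List.mem_cons, List.not_mem_nil, or_false] at hc
  rcases hc with rfl | rfl | rfl | rfl | rfl | rfl | rfl
  · exact gen_B2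
  · exact gen_G2
  · exact gen_D4
  · exact gen_F4
  · exact gen_E6
  · exact gen_E7
  · exact gen_E8

end Cfsg.Agent.S2419
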