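import Cfsg.Statements.S2433
import Cfsg.Agent.H9.PrincipalSeries

set_option autoImplicit false
open Cfsg

namespace Cfsg.Agent.S2433

open Matrix Cfsg.Agent.H9.PrincipalSeries

/-- Let F be a finite field with q elements, q odd, α a multiplicative character of F, and R(α) the function on SL₂ induced from the linear character b ↦ α(b₁₁) of the upper triangular subgroup. Then R(α) takes the value α(a) + α(a⁻¹) at a diagonal element with entries a, a⁻¹, a² ≠ 1; the value 0 at every element with no eigenvector in F²; the value α(ε) at an upper triangular element with both diagonal entries ε and non-zero upper right entry; and the value (q + 1)α(ε) at the scalar element ε (ε = ±1). -/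
theorem result {F : Type*} [Field F] [Fintype F] [DecidableEq F] (hodd : Odd (Fintype.card F)) (α : MulChar F ℂ) (g : Matrix.SpecialLinearGroup (Fin 2) F) :
    ((g : Matrix (Fin 2) (Fin 2) F) 0 1 = 0 → (g : Matrix (Fin 2) (Fin 2) F) 1 0 = 0 → (g : Matrix (Fin 2) (Fin 2) F) 0 0 ^ 2 ≠ 1 →
      (Cfsg.indFun ((Cfsg.upperTriangularGL 2 F).comap Matrix.SpecialLinearGroup.toGL) (fun b => α (((b : Matrix.SpecialLinearGroup (Fin 2) F) : Matrix (Fin 2) (Fin 2) F) 0 0))) g = α ((g : Matrix (Fin 2) (Fin 2) F) 0 0) + α ((g : Matrix (Fin 2) (Fin 2) F) 1 1)) ∧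
    ((∀ (c : F) (v : Fin 2 → F), v ≠ 0 → (g : Matrix (Fin 2) (Fin 2) F).mulVec v ≠ c • v) → (Cfsg.indFun ((Cfsg.upperTriangularGL 2 F).comap Matrix.SpecialLinearGroup.toGL) (fun b => α (((b : Matrix.SpecialLinearGroup (Fin 2) F) : Matrix (Fin 2) (Fin 2) F) 0 0))) g = 0) ∧
    ((g : Matrix (Fin 2) (Fin 2) F) 1 0 = 0 → (g : Matrix (Fin 2) (Fin 2) F) 0 0 = (g : Matrix (Fin 2) (Fin 2) F) 1 1 → (g : Matrix (Fin 2) (Fin 2) F) 0 1 ≠ 0 →
      (Cfsg.indFun ((Cfsg.upperTriangularGL 2 F).comap Matrix.SpecialLinearGroup.toGL) (fun b => α (((b : Matrix.SpecialLinearGroup (Fin 2) F) : Matrix (Fin 2) (Fin 2) F) 0 0))) g = α ((g : Matrix (Fin 2) (Fin 2) F) 0 0)) ∧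
    ((g : Matrix (Fin 2) (Fin 2) F) 0 1 = 0 → (g : Matrix (Fin 2) (Fin 2) F) 1 0 = 0 → (g : Matrix (Fin 2) (Fin 2) F) 0 0 = (g : Matrix (Fin 2) (Fin 2) F) 1 1 →
      (Cfsg.indFun ((Cfsg.upperTriangularGL 2 F).comap Matrix.SpecialLinearGroup.toGL) (fun b => α (((b : Matrix.SpecialLinearGroup (Fin 2) F) : Matrix (Fin 2) (Fin 2) F) 0 0))) g = ((Fintype.card F : ℂ) + 1) * α ((g : Matrix (Fin 2) (Fin 2) F) 0 0)) := by
  have key := R_apply α g
  change Cfsg.indFun ((Cfsg.upperTriangularGL 2 F).comap Matrix.SpecialLinearGroup.toGL) (fun b => α (((b : Matrix.SpecialLinearGroup (Fin 2) F) : Matrix (Fin 2) (Fin 2) F) 0 0)) g = _ at key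
  have hdet := det_entries g
  refine ⟨?_, ?_, ?_, ?_⟩
  · intro h01 h10 hne
    rw [key, h01, h10]
    have hd : g.1 1 1 - g.1 0 0 ≠ 0 := by
      intro h
      apply hne
      rw [h01, zero_mul, sub_zero] at hdet
      have : g.1 1 1 = g.1 0 0 := sub_eq_zero.mp h
      rw [this] at hdet
      rw [pow_two]; exact hdet
    have : ∀ c : F, (if (0 : F) + (g.1 1 1 - g.1 0 0) * c - 0 * c ^ 2 = 0 then
        α (g.1 0 0 + 0 * c) else 0) = if c = 0 then α (g.1 0 0) else 0 := by
      intro c
      have : (0 : F) + (g.1 1 1 - g.1 0 0) * c - 0 * c ^ 2 = 0 ↔ c = 0 := by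
        constructor
        · intro h
          have : (g.1 1 1 - g.1 0 0) * c = 0 := by linear_combination h
          rcases mul_eq_zero.mp this with h | h
          · exact absurd h hd
          · exact h
        · intro h; rw [h]; ring
      by_cases hc : c = 0
      · rw [if_pos (this.mpr hc), if_pos hc, zero_mul, add_zero]
      · rw [if_neg (fun h => hc (this.mp h)), if_neg hc]
    simp only [this]
    simp
  · intro hno
    rw [key]
    have h1 : ∀ c : F, (if g.1 1 0 + (g.1 1 1 - g.1 0 0) * c - g.1 0 1 * c ^ 2 = 0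
        then α (g.1 0 0 + g.1 0 1 * c) else 0) = 0 := by
      intro c
      rw [if_neg]
      intro h
      apply hno (g.1 0 0 + g.1 0 1 * c) ![1, c]
      · intro hv
        have := congrFun hv 0
        simp at this
      · ext i
        fin_cases i
        · simp [Matrix.mulVec, dotProduct, Fin.sum_univ_two]
        · simp [Matrix.mulVec, dotProduct, Fin.sum_univ_two]
          linear_combination h
    have h2 : g.1 0 1 ≠ 0 := by
      intro h
      apply hno (g.1 1 1) ![0, 1]
      · intro hv
        have := congrFun hv 1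
        simp at this
      · ext i
        fin_cases i
        · simp [Matrix.mulVec, dotProduct, Fin.sum_univ_two, h]
        · simp [Matrix.mulVec, dotProduct, Fin.sum_univ_two]
    simp only [h1, if_neg h2]
    simp
  · intro h10 heq hne
    rw [key, h10, heq]
    have : ∀ c : F, (if (0 : F) + (g.1 1 1 - g.1 1 1) * c - g.1 0 1 * c ^ 2 = 0 then
        α (g.1 1 1 + g.1 0 1 * c) else 0) = if c = 0 then α (g.1 1 1) else 0 := by
      intro c
      have : (0 : F) + (g.1 1 1 - g.1 1 1) * c - g.1 0 1 * c ^ 2 = 0 ↔ c = 0 := by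
        constructor
        · intro h
          have : g.1 0 1 * c ^ 2 = 0 := by linear_combination -h
          rcases mul_eq_zero.mp this with h | h
          · exact absurd h hne
          · exact pow_eq_zero_iff (two_ne_zero) |>.mp h
        · intro h; rw [h]; ring
      by_cases hc : c = 0
      · rw [if_pos (this.mpr hc), if_pos hc, hc, mul_zero, add_zero]
      · rw [if_neg (fun h => hc (this.mp h)), if_neg hc]
    simp only [this, if_neg hne]
    simp
  · intro h01 h10 heq
    rw [key, h01, h10, heq]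
    simp
    ring

end Cfsg.Agent.S2433
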