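import Cfsg.Statements.S2434
import Cfsg.Agent.H9.SL2CuspCount

set_option autoImplicit false
open Cfsg

namespace Cfsg.Agent.S2434

open Cfsg.Agent.Lib.helper3.IndFun Cfsg.Agent.Lib.helper3.Irr
open Cfsg.Agent.H9.SL2Chars Cfsg.Agent.H9.PrincipalSeries Cfsg.Agent.S2307
open Cfsg.Agent.H9.NonsplitTorus (Tn mem_Tn)
/-- Let F be a finite field with q elements, q odd, and C a cyclic subgroup of order q + 1 of SL₂ over F (a non-split torus; it contains the centre). For every homomorphism θ from C to the non-zero complex numbers with θ² ≠ 1 there is an irreducible complex character χ of degree q − 1 such that χ(c) = −θ(c) − θ(c)⁻¹ for every non-central c in C, χ(zg) = θ(z)χ(g) for central z in C, χ vanishes at diagonal elements with entry a, a² ≠ 1, and χ takes the value −1 at every upper unitriangular element other than 1. Conversely every irreducible character of degree q − 1 has, for some such θ, the values −θ(c) − θ(c)⁻¹ at the non-central elements c of C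 (for q ≥ 5 these are exactly the cuspidal characters of degree q − 1). -/
theorem result {F : Type*} [Field F] [Fintype F] (hodd : Odd (Fintype.card F))
    (C : Subgroup (Matrix.SpecialLinearGroup (Fin 2) F)) (hC : IsCyclic C) (hcard : Nat.card C = Fintype.card F + 1) :
    (∀ θ : C →* ℂˣ, (∃ c : C, θ c ^ 2 ≠ 1) →
      ∃ χ : Matrix.SpecialLinearGroup (Fin 2) F → ℂ, Cfsg.IsIrrCharacter (Matrix.SpecialLinearGroup (Fin 2) F) χ ∧ χ 1 = (Fintype.card F : ℂ) - 1 ∧
        (∀ c : C, (c : Matrix.SpecialLinearGroup (Fin 2) F) ∉ Subgroup.center (Matrix.SpecialLinearGroup (Fin 2) F) → χ c = -((θ c).val + (θ c)⁻¹.val)) ∧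
        (∀ c : C, (c : Matrix.SpecialLinearGroup (Fin 2) F) ∈ Subgroup.center (Matrix.SpecialLinearGroup (Fin 2) F) → ∀ g : Matrix.SpecialLinearGroup (Fin 2) F, χ ((c : Matrix.SpecialLinearGroup (Fin 2) F) * g) = (θ c).val * χ g) ∧
        (∀ g : Matrix.SpecialLinearGroup (Fin 2) F, (g : Matrix (Fin 2) (Fin 2) F) 0 1 = 0 → (g : Matrix (Fin 2) (Fin 2) F) 1 0 = 0 → (g : Matrix (Fin 2) (Fin 2) F) 0 0 ^ 2 ≠ 1 → χ g = 0) ∧
        (∀ g : Matrix.SpecialLinearGroup (Fin 2) F, (g : Matrix (Fin 2) (Fin 2) F) 1 0 = 0 → (g : Matrix (Fin 2) (Fin 2) F) 0 0 = 1 → (g : Matrix (Fin 2) (Fin 2) F) 1 1 = 1 → (g : Matrix (Fin 2) (Fin 2) F) 0 1 ≠ 0 → χ g = -1)) ∧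
    (∀ χ : Matrix.SpecialLinearGroup (Fin 2) F → ℂ, Cfsg.IsIrrCharacter (Matrix.SpecialLinearGroup (Fin 2) F) χ → χ 1 = (Fintype.card F : ℂ) - 1 →
      ∃ θ : C →* ℂˣ, (∃ c : C, θ c ^ 2 ≠ 1) ∧
        ∀ c : C, (c : Matrix.SpecialLinearGroup (Fin 2) F) ∉ Subgroup.center (Matrix.SpecialLinearGroup (Fin 2) F) → χ c = -((θ c).val + (θ c)⁻¹.val)) := by
  classical
  obtain ⟨δ, hδq⟩ := exists_nonsquare (F := F) hodd
  have hδ : ¬ IsSquare δ := (quadraticChar_neg_one_iff_not_isSquare).mp hδq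
  set ψ := AddChar.FiniteField.primitiveChar_to_Complex F with hψdef
  have hψ : ψ.IsPrimitive := AddChar.FiniteField.primitiveChar_to_Complex_isPrimitive F
  obtain ⟨ν, hν⟩ := exists_nonsquare (F := F) hodd
  obtain ⟨s, e, he⟩ := exists_conj_torus hδ hodd C hC hcard
  have h2 : (2 : F) ≠ 0 := Ring.two_ne_zero (ringChar_ne_two_of_odd hodd)
  -- central elements are fixed by the conjugation
  have hcen : ∀ c : C, (c : Matrix.SpecialLinearGroup (Fin 2) F) ∈
      Subgroup.center (Matrix.SpecialLinearGroup (Fin 2) F) →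
      ((e c : ↥(Tn δ : Subgroup (Matrix.SpecialLinearGroup (Fin 2) F))) :
        Matrix.SpecialLinearGroup (Fin 2) F) = c := by
    intro c hc
    rw [he c, Subgroup.mem_center_iff.mp hc s, mul_inv_cancel_right]
  -- non-central elements are sent to non-scalar elements of the torus
  have hnc : ∀ c : C, (c : Matrix.SpecialLinearGroup (Fin 2) F) ∉
      Subgroup.center (Matrix.SpecialLinearGroup (Fin 2) F) →
      ((e c : ↥(Tn δ : Subgroup (Matrix.SpecialLinearGroup (Fin 2) F))) :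
        Matrix.SpecialLinearGroup (Fin 2) F).1 1 0 ≠ 0 := by
    intro c hc hy
    apply hc
    have hcen' : ((e c : ↥(Tn δ : Subgroup (Matrix.SpecialLinearGroup (Fin 2) F))) :
        Matrix.SpecialLinearGroup (Fin 2) F) ∈
        Subgroup.center (Matrix.SpecialLinearGroup (Fin 2) F) := by
      rw [Cfsg.Agent.S2508.mem_center_iff']
      exact eq_one_or_negOne_of_mem_Tn (e c).2 hy
    rw [he c] at hcen'
    have h3 : (c : Matrix.SpecialLinearGroup (Fin 2) F)
        = s⁻¹ * (s * (c : Matrix.SpecialLinearGroup (Fin 2) F) * s⁻¹) * s := by group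
    rw [h3, Subgroup.mem_center_iff.mp hcen' s⁻¹, inv_mul_cancel_right]
    exact hcen'
  constructor
  · intro θ hθ
    set θ' : ↥(Tn δ : Subgroup (Matrix.SpecialLinearGroup (Fin 2) F)) →* ℂˣ :=
      θ.comp e.symm.toMonoidHom with hθ'def
    have hθ'e : ∀ c : C, θ' (e c) = θ c := by
      intro c
      rw [hθ'def]
      simp
    have hθ' : ∃ t, θ' t ^ 2 ≠ 1 := by
      obtain ⟨c, hc⟩ := hθ
      exact ⟨e c, by rw [hθ'e]; exact hc⟩
    refine ⟨PhiT θ' ψ ν, PhiT_isIrr hδ hodd θ' hθ' ψ hψ hν, PhiT_one hδ hodd θ' ψ ν,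
      ?_, ?_, ?_, ?_⟩
    · intro c hc
      have hcls := PhiT_isClassFunction θ' ψ ν (c : Matrix.SpecialLinearGroup (Fin 2) F) s
      rw [← hcls, ← he c, PhiT_torus hδ hodd θ' ψ ν _ (e c).2 (hnc c hc)]
      have e1 : (⟨((e c : ↥(Tn δ : Subgroup (Matrix.SpecialLinearGroup (Fin 2) F))) :
          Matrix.SpecialLinearGroup (Fin 2) F), (e c).2⟩ :
          ↥(Tn δ : Subgroup (Matrix.SpecialLinearGroup (Fin 2) F))) = e c := rfl
      have e2 : (⟨((e c : ↥(Tn δ : Subgroup (Matrix.SpecialLinearGroup (Fin 2) F))) :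
          Matrix.SpecialLinearGroup (Fin 2) F)⁻¹, (Tn δ).inv_mem (e c).2⟩ :
          ↥(Tn δ : Subgroup (Matrix.SpecialLinearGroup (Fin 2) F))) = (e c)⁻¹ := rfl
      rw [e1, e2]
      unfold thF
      rw [map_inv, hθ'e]
    · intro c hc g
      rcases (Cfsg.Agent.S2508.mem_center_iff' _).mp hc with h | h
      · have hc1 : c = 1 := Subtype.ext h
        rw [h, one_mul, hc1, map_one, Units.val_one, one_mul]
      · rw [h, PhiT_neg h2]
        congr 1
        unfold eps thF
        have : (⟨Cfsg.Agent.S2325.negOne, negOne_mem_Tn⟩ :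
            ↥(Tn δ : Subgroup (Matrix.SpecialLinearGroup (Fin 2) F))) = e c := by
          apply Subtype.ext
          rw [hcen c hc, h]
        rw [this, hθ'e]
    · intro g h01 h10 ha
      exact PhiT_diag hδ θ' ψ ν g h01 h10 ha
    · intro g h10 h00 h11 h01
      have hg : g = uu (g.1 0 1) := by
        apply ext_entries <;> simp [uu, h10, h00, h11]
      rw [hg]
      exact PhiT_uu hδ hodd θ' ψ hψ hν h01
  · intro χ hχ hdeg
    obtain ⟨θ', hne, hval⟩ := exists_theta_torus_values hδ hodd χ hχ hdeg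
    refine ⟨θ'.comp e.toMonoidHom, ?_, ?_⟩
    · obtain ⟨t, ht⟩ := hne
      refine ⟨e.symm t, ?_⟩
      simpa using ht
    · intro c hc
      have hcls := isClassFunction_of_isCharacter (isCharacter_of_isIrrCharacter hχ)
        (c : Matrix.SpecialLinearGroup (Fin 2) F) s
      rw [← hcls, ← he c, hval _ (e c).2 (hnc c hc)]
      have e1 : (⟨((e c : ↥(Tn δ : Subgroup (Matrix.SpecialLinearGroup (Fin 2) F))) :
          Matrix.SpecialLinearGroup (Fin 2) F), (e c).2⟩ :
          ↥(Tn δ : Subgroup (Matrix.SpecialLinearGroup (Fin 2) F))) = e c := rfl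
      have e2 : (⟨((e c : ↥(Tn δ : Subgroup (Matrix.SpecialLinearGroup (Fin 2) F))) :
          Matrix.SpecialLinearGroup (Fin 2) F)⁻¹, (Tn δ).inv_mem (e c).2⟩ :
          ↥(Tn δ : Subgroup (Matrix.SpecialLinearGroup (Fin 2) F))) = (e c)⁻¹ := rfl
      rw [e1, e2]
      unfold thF
      rw [map_inv]
      rfl

end Cfsg.Agent.S2434
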