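import Cfsg.Statements.S2435
import Cfsg.Agent.H9.SL2HalfCusp2
import Cfsg.Agent.H9.SL2HalfDiag
import Cfsg.Agent.H9.SL2OddByDeg

set_option autoImplicit false
open Cfsg

namespace Cfsg.Agent.S2435

open Cfsg.Agent.Lib.helper3.IndFun Cfsg.Agent.Lib.helper3.Irr
open Cfsg.Agent.H9.SL2Chars Cfsg.Agent.H9.PrincipalSeries Cfsg.Agent.S2307

/-- Let F be a finite field with q elements, q odd and q ≥ 5, and χ an irreducible complex character of SL₂ over F. If χ has degree (q + 1)/2, then at a diagonal element with entry a, a² ≠ 1, χ takes the value 1 when a is a square in F and −1 otherwise. If χ has degree (q − 1)/2, then at an element g with no eigenvector in F² (so g has order dividing q + 1), χ takes the value −1 when g raised to the power (q + 1)/2 is the identity and the value 1 otherwise. -/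
theorem result {F : Type*} [Field F] [Fintype F] (hodd : Odd (Fintype.card F)) (hq : 5 ≤ Fintype.card F)
    (χ : Matrix.SpecialLinearGroup (Fin 2) F → ℂ) (hχ : Cfsg.IsIrrCharacter (Matrix.SpecialLinearGroup (Fin 2) F) χ) (g : Matrix.SpecialLinearGroup (Fin 2) F) :
    (χ 1 = (((Fintype.card F + 1) / 2 : ℕ) : ℂ) → (g : Matrix (Fin 2) (Fin 2) F) 0 1 = 0 → (g : Matrix (Fin 2) (Fin 2) F) 1 0 = 0 → (g : Matrix (Fin 2) (Fin 2) F) 0 0 ^ 2 ≠ 1 →
      (IsSquare ((g : Matrix (Fin 2) (Fin 2) F) 0 0) → χ g = 1) ∧ (¬ IsSquare ((g : Matrix (Fin 2) (Fin 2) F) 0 0) → χ g = -1)) ∧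
    (χ 1 = (((Fintype.card F - 1) / 2 : ℕ) : ℂ) → (∀ (c : F) (v : Fin 2 → F), v ≠ 0 → (g : Matrix (Fin 2) (Fin 2) F).mulVec v ≠ c • v) →
      (((g ^ ((Fintype.card F + 1) / 2)) : Matrix (Fin 2) (Fin 2) F) = 1 → χ g = -1) ∧ (((g ^ ((Fintype.card F + 1) / 2)) : Matrix (Fin 2) (Fin 2) F) ≠ 1 → χ g = 1)) := by
  classical
  constructor
  · intro hd h01 h10 ha
    obtain ⟨H⟩ := exists_halves (F := F) hodd
    set ψ := AddChar.FiniteField.primitiveChar_to_Complex F with hψdef
    have hψ : ψ.IsPrimitive := AddChar.FiniteField.primitiveChar_to_Complex_isPrimitive F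
    obtain ⟨ν, hν⟩ := exists_nonsquare (F := F) hodd
    have key := (type_by_degree H hodd hq ψ hψ hν hχ).2.2.2.1 hd
    have hval : χ g = ((quadraticChar F (g.1 0 0) : ℤ) : ℂ) := by
      rw [← alpha0_apply H hodd]
      rcases key with rfl | rfl
      · exact (halves_diag H hodd g h01 h10 ha).1
      · exact (halves_diag H hodd g h01 h10 ha).2
    have ha0 : g.1 0 0 ≠ 0 := by
      intro h0
      have hdet := det_entries g
      rw [h0, h01, zero_mul, zero_mul, sub_zero] at hdet
      exact zero_ne_one hdet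
    constructor
    · intro hs
      rw [hval, (quadraticChar_one_iff_isSquare ha0).mpr hs]
      simp
    · intro hs
      rw [hval, (quadraticChar_neg_one_iff_not_isSquare).mpr hs]
      simp
  · intro hd hell
    have key := half_cusp_elliptic hodd hq hχ hd (g := g) hell
    have hiff : ((g ^ ((Fintype.card F + 1) / 2) : Matrix.SpecialLinearGroup (Fin 2) F) :
        Matrix (Fin 2) (Fin 2) F) = 1 ↔ g ^ ((Fintype.card F + 1) / 2) = 1 := by
      constructor
      · intro h
        apply Subtype.ext
        rw [h]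
        rfl
      · intro h
        rw [h]
        rfl
    constructor
    · intro h
      exact key.1 (hiff.mp h)
    · intro h
      exact key.2 (fun h' => h (hiff.mpr h'))

end Cfsg.Agent.S2435
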