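import Cfsg.Statements.S2450
import Mathlib
import Cfsg.Agent.H9.CentralQuot
import Cfsg.Agent.H9.SL2OddCls
import Cfsg.Agent.S2508

set_option autoImplicit false
open Cfsg

namespace Cfsg.Agent.S2450

open Matrix Polynomial Cfsg.Agent.H9.CentralQuot Cfsg.Agent.H9.SL2OddCls

section

variable {F : Type*} [Field F]

local notation "SL2" => Matrix.SpecialLinearGroup (Fin 2) F

/-- a non-scalar element is conjugate to one with non-zero lower left entry -/
theorem exists_conj_lower (A : SL2)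
    (hns : ¬ ∃ a : F, (A : Matrix (Fin 2) (Fin 2) F) = a • (1 : Matrix (Fin 2) (Fin 2) F)) :
    ∃ A' : SL2, IsConj A A' ∧ (A' : Matrix (Fin 2) (Fin 2) F) 1 0 ≠ 0 := by
  obtain ⟨a1, a2, a3, a4, hA⟩ : ∃ a1 a2 a3 a4 : F,
      (A : Matrix (Fin 2) (Fin 2) F) = !![a1, a2; a3, a4] :=
    ⟨_, _, _, _, Matrix.eta_fin_two _⟩
  have hdet : a1 * a4 - a2 * a3 = 1 := by
    have := A.2
    rw [hA, det_fin_two_of] at this
    exact this
  by_cases h3 : a3 = 0
  · by_cases h2 : a2 = 0
    · have h14 : a1 ≠ a4 := by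
        intro h
        apply hns
        refine ⟨a1, ?_⟩
        rw [hA, h2, h3, ← h]
        ext i j
        fin_cases i <;> fin_cases j <;> simp
      refine ⟨⟨!![a1, 0; a1 - a4, a4], by rw [det_fin_two_of]; rw [h2] at hdet; linear_combination hdet⟩,
        ?_, ?_⟩
      · apply isConj_of_mul_eq (c := ⟨!![1, 0; 1, 1], by simp [det_fin_two_of]⟩)
        change (!![1, 0; 1, 1] : Matrix (Fin 2) (Fin 2) F) * (A : Matrix (Fin 2) (Fin 2) F) =
          !![a1, 0; a1 - a4, a4] * !![1, 0; 1, 1]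
        rw [hA, h2, h3]
        ext i j
        fin_cases i <;> fin_cases j <;> simp [Matrix.mul_apply, Fin.sum_univ_two]
      · change (!![a1, 0; a1 - a4, a4] : Matrix (Fin 2) (Fin 2) F) 1 0 ≠ 0
        simpa using sub_ne_zero.2 h14
    · refine ⟨⟨!![a4, -a3; -a2, a1], by rw [det_fin_two_of]; linear_combination hdet⟩, ?_, ?_⟩
      · apply isConj_of_mul_eq (c := ⟨!![0, -1; 1, 0], by simp [det_fin_two_of]⟩)
        change (!![0, -1; 1, 0] : Matrix (Fin 2) (Fin 2) F) * (A : Matrix (Fin 2) (Fin 2) F) =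
          !![a4, -a3; -a2, a1] * !![0, -1; 1, 0]
        rw [hA]
        ext i j
        fin_cases i <;> fin_cases j <;> simp [Matrix.mul_apply, Fin.sum_univ_two]
      · change (!![a4, -a3; -a2, a1] : Matrix (Fin 2) (Fin 2) F) 1 0 ≠ 0
        simpa using h2
  · refine ⟨A, IsConj.refl A, ?_⟩
    rw [hA]
    simpa using h3

/-- conjugating by an upper unipotent -/
theorem exists_conj_trace (A B : SL2) (lam : F) :
    ∃ H : SL2, IsConj A H ∧ ((H * B : SL2) : Matrix (Fin 2) (Fin 2) F).trace =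
      ((A * B : SL2) : Matrix (Fin 2) (Fin 2) F).trace +
      lam * ((A : Matrix (Fin 2) (Fin 2) F) 1 0 * (B : Matrix (Fin 2) (Fin 2) F) 0 0 +
        ((A : Matrix (Fin 2) (Fin 2) F) 1 1 - (A : Matrix (Fin 2) (Fin 2) F) 0 0) *
          (B : Matrix (Fin 2) (Fin 2) F) 1 0 -
        (A : Matrix (Fin 2) (Fin 2) F) 1 0 * (B : Matrix (Fin 2) (Fin 2) F) 1 1) -
      lam ^ 2 * ((A : Matrix (Fin 2) (Fin 2) F) 1 0 * (B : Matrix (Fin 2) (Fin 2) F) 1 0) := by
  obtain ⟨a1, a2, a3, a4, hA⟩ : ∃ a1 a2 a3 a4 : F,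
      (A : Matrix (Fin 2) (Fin 2) F) = !![a1, a2; a3, a4] :=
    ⟨_, _, _, _, Matrix.eta_fin_two _⟩
  obtain ⟨b1, b2, b3, b4, hB⟩ : ∃ b1 b2 b3 b4 : F,
      (B : Matrix (Fin 2) (Fin 2) F) = !![b1, b2; b3, b4] :=
    ⟨_, _, _, _, Matrix.eta_fin_two _⟩
  have hdet : a1 * a4 - a2 * a3 = 1 := by
    have := A.2
    rw [hA, det_fin_two_of] at this
    exact this
  let H : SL2 := ⟨!![a1 + lam * a3, a2 + lam * (a4 - a1) - lam ^ 2 * a3; a3, a4 - lam * a3],
    by rw [det_fin_two_of]; linear_combination hdet⟩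
  have hH : (H : Matrix (Fin 2) (Fin 2) F) =
    !![a1 + lam * a3, a2 + lam * (a4 - a1) - lam ^ 2 * a3; a3, a4 - lam * a3] := rfl
  refine ⟨H, ?_, ?_⟩
  · apply isConj_of_mul_eq (c := ⟨!![1, lam; 0, 1], by simp [det_fin_two_of]⟩)
    change (!![1, lam; 0, 1] : Matrix (Fin 2) (Fin 2) F) * (A : Matrix (Fin 2) (Fin 2) F) =
      (H : Matrix (Fin 2) (Fin 2) F) * !![1, lam; 0, 1]
    rw [hA, hH]
    ext i j
    fin_cases i <;> fin_cases j <;> simp [Matrix.mul_apply, Fin.sum_univ_two] <;> ring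
  · rw [Matrix.SpecialLinearGroup.coe_mul, Matrix.SpecialLinearGroup.coe_mul, hA, hB, hH]
    simp [Matrix.trace_fin_two, Matrix.mul_apply, Fin.sum_univ_two]
    ring

end

section Count

variable {F : Type*} [Field F] [Fintype F]

theorem exists_good (h4 : 4 ≤ Fintype.card F) (m n k : F) (hm : m ≠ 0) :
    ∃ lam : F, k + lam * n - lam ^ 2 * m ≠ k ∧ k + lam * n - lam ^ 2 * m ≠ -k := by
  classical
  have hm' : -m ≠ 0 := neg_ne_zero.2 hm
  set p₁ : F[X] := C (-m) * X ^ 2 + C n * X + C 0 with hp₁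
  set p₂ : F[X] := C (-m) * X ^ 2 + C n * X + C (2 * k) with hp₂
  have hd₁ : p₁.natDegree = 2 := natDegree_quadratic hm'
  have hd₂ : p₂.natDegree = 2 := natDegree_quadratic hm'
  have hp₁0 : p₁ ≠ 0 := by
    intro h
    rw [h, natDegree_zero] at hd₁
    omega
  have hp₂0 : p₂ ≠ 0 := by
    intro h
    rw [h, natDegree_zero] at hd₂
    omega
  have hc₁ : p₁.roots.toFinset.card ≤ 2 := by
    have := Polynomial.card_roots' p₁
    have := Multiset.toFinset_card_le p₁.roots
    omega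
  have hc₂ : p₂.roots.toFinset.card ≤ 2 := by
    have := Polynomial.card_roots' p₂
    have := Multiset.toFinset_card_le p₂.roots
    omega
  have hS : (p₁.roots.toFinset ∪ p₂.roots.toFinset).card < Fintype.card F := by
    by_cases h2 : (2 : F) = 0
    · have : p₂ = p₁ := by rw [hp₂, hp₁, h2, zero_mul]
      rw [this, Finset.union_self]
      omega
    · have hodd : Fintype.card F % 2 = 1 := by
        rcases Nat.mod_two_eq_zero_or_one (Fintype.card F) with h | h
        · exfalso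
          have hc : ringChar F = 2 := FiniteField.even_card_iff_char_two.2 h
          have : CharP F 2 := by rw [← hc]; exact ringChar.charP F
          exact h2 (CharP.cast_eq_zero F 2)
        · exact h
      have := Finset.card_union_le p₁.roots.toFinset p₂.roots.toFinset
      omega
  obtain ⟨lam, -, hlam⟩ : ∃ a ∈ (Finset.univ : Finset F),
      a ∉ p₁.roots.toFinset ∪ p₂.roots.toFinset :=
    Finset.exists_mem_notMem_of_card_lt_card (by rwa [Finset.card_univ])
  rw [Finset.mem_union, not_or, Multiset.mem_toFinset, Multiset.mem_toFinset,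
    Polynomial.mem_roots hp₁0, Polynomial.mem_roots hp₂0] at hlam
  obtain ⟨h1, h2⟩ := hlam
  refine ⟨lam, ?_, ?_⟩
  · intro h
    apply h1
    rw [hp₁, IsRoot.def]
    simp only [eval_add, eval_mul, eval_C, eval_pow, eval_X]
    linear_combination h
  · intro h
    apply h2
    rw [hp₂, IsRoot.def]
    simp only [eval_add, eval_mul, eval_C, eval_pow, eval_X]
    linear_combination h

end Count

section Main

variable {F : Type*} [Field F] [Fintype F]

local notation "SL2" => Matrix.SpecialLinearGroup (Fin 2) F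

local notation "PSL2" => Matrix.ProjectiveSpecialLinearGroup (Fin 2) F

theorem nonscalar_of_mk_ne_one {A : SL2} (h : (QuotientGroup.mk A : PSL2) ≠ 1) :
    ¬ ∃ a : F, (A : Matrix (Fin 2) (Fin 2) F) = a • (1 : Matrix (Fin 2) (Fin 2) F) := by
  have hA : ¬ (A = 1 ∨ A = Cfsg.Agent.S2325.negOne) := by
    intro h'
    apply h
    rw [QuotientGroup.eq_one_iff, Cfsg.Agent.S2508.mem_center_iff']
    exact h'
  exact Cfsg.Agent.S2325.nonscalar_of_ne (fun h => hA (Or.inl h)) (fun h => hA (Or.inr h))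

theorem mem_prod_of_conj {A₀ B₀ H K : SL2} (hH : IsConj A₀ H) (hK : IsConj B₀ K) :
    ∃ u v : PSL2, (QuotientGroup.mk (H * K) : PSL2) =
      (u * QuotientGroup.mk A₀ * u⁻¹) * (v * QuotientGroup.mk B₀ * v⁻¹) := by
  rw [isConj_iff] at hH hK
  obtain ⟨u, hu⟩ := hH
  obtain ⟨v, hv⟩ := hK
  refine ⟨QuotientGroup.mk u, QuotientGroup.mk v, ?_⟩
  rw [← hu, ← hv]
  simp only [QuotientGroup.mk_mul, QuotientGroup.mk_inv]

theorem trace_of_conj_mk {G₁ G₂ : SL2}
    (h : IsConj (QuotientGroup.mk G₁ : PSL2) (QuotientGroup.mk G₂ : PSL2)) :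
    (G₁ : Matrix (Fin 2) (Fin 2) F).trace = (G₂ : Matrix (Fin 2) (Fin 2) F).trace ∨
      (G₁ : Matrix (Fin 2) (Fin 2) F).trace = -(G₂ : Matrix (Fin 2) (Fin 2) F).trace := by
  rw [isConj_mk_iff (Subgroup.center SL2) Cfsg.Agent.S2325.negOne
    Cfsg.Agent.S2508.negOne_mem_center Cfsg.Agent.S2508.mem_center_iff'] at h
  rcases h with h | h
  · left
    exact Cfsg.Agent.S2325.trace_eq_of_isConj h
  · right
    have := Cfsg.Agent.S2325.trace_eq_of_isConj h
    rw [Cfsg.Agent.S2508.trace_negOne_mul] at this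
    rw [← this, neg_neg]

end Main

/-- The Arad–Herzog conjecture for PSL(2,q): let F be a finite field with q ≥ 4 elements. For any two non-identity elements a, b of PSL(2,F), the set of products of a conjugate of a with a conjugate of b is not a single conjugacy class. -/
theorem result {F : Type*} [Field F] [Fintype F] (h4 : 4 ≤ Fintype.card F)
    (a b : Matrix.ProjectiveSpecialLinearGroup (Fin 2) F) (ha : a ≠ 1) (hb : b ≠ 1) (c : Matrix.ProjectiveSpecialLinearGroup (Fin 2) F) :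
    {g : Matrix.ProjectiveSpecialLinearGroup (Fin 2) F | ∃ u v : Matrix.ProjectiveSpecialLinearGroup (Fin 2) F, g = (u * a * u⁻¹) * (v * b * v⁻¹)} ≠ {g | IsConj c g} := by
  intro hEq
  obtain ⟨A₀, rfl⟩ := QuotientGroup.mk_surjective a
  obtain ⟨B₀, rfl⟩ := QuotientGroup.mk_surjective b
  obtain ⟨A, hA, hA3⟩ := exists_conj_lower A₀ (nonscalar_of_mk_ne_one ha)
  obtain ⟨B, hB, hB3⟩ := exists_conj_lower B₀ (nonscalar_of_mk_ne_one hb)
  obtain ⟨lam, hl1, hl2⟩ := exists_good h4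
    ((A : Matrix (Fin 2) (Fin 2) F) 1 0 * (B : Matrix (Fin 2) (Fin 2) F) 1 0)
    ((A : Matrix (Fin 2) (Fin 2) F) 1 0 * (B : Matrix (Fin 2) (Fin 2) F) 0 0 +
        ((A : Matrix (Fin 2) (Fin 2) F) 1 1 - (A : Matrix (Fin 2) (Fin 2) F) 0 0) *
          (B : Matrix (Fin 2) (Fin 2) F) 1 0 -
        (A : Matrix (Fin 2) (Fin 2) F) 1 0 * (B : Matrix (Fin 2) (Fin 2) F) 1 1)
    ((A * B : Matrix.SpecialLinearGroup (Fin 2) F) : Matrix (Fin 2) (Fin 2) F).trace
    (mul_ne_zero hA3 hB3)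
  obtain ⟨H, hH, hHtr⟩ := exists_conj_trace A B lam
  rw [← hHtr] at hl1 hl2
  -- two elements of the product set
  have m1 : (QuotientGroup.mk (A * B) : Matrix.ProjectiveSpecialLinearGroup (Fin 2) F) ∈
      {g : Matrix.ProjectiveSpecialLinearGroup (Fin 2) F | IsConj c g} := by
    rw [← hEq]
    exact mem_prod_of_conj hA hB
  have m2 : (QuotientGroup.mk (H * B) : Matrix.ProjectiveSpecialLinearGroup (Fin 2) F) ∈
      {g : Matrix.ProjectiveSpecialLinearGroup (Fin 2) F | IsConj c g} := by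
    rw [← hEq]
    exact mem_prod_of_conj (hA.trans hH) hB
  have hconj : IsConj (QuotientGroup.mk (H * B) : Matrix.ProjectiveSpecialLinearGroup (Fin 2) F)
      (QuotientGroup.mk (A * B)) := (IsConj.symm m2).trans m1
  rcases trace_of_conj_mk hconj with h | h
  · exact hl1 h
  · exact hl2 h

end Cfsg.Agent.S2450
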