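import Cfsg.Statements.S2455
import Mathlib
import Cfsg.Agent.H9.ClassSquare
import Cfsg.Agent.H9.PSL2Spec
import Cfsg.Agent.H9.SL2OddCls
import Cfsg.Agent.S2508

set_option autoImplicit false
open Cfsg

namespace Cfsg.Agent.S2455

open Matrix Polynomial Cfsg.Agent.H9.ClassSquare Cfsg.Agent.H9.PSL2Spec Cfsg.Agent.H9.Mat2
  Cfsg.Agent.H9.SL2OddCls

section

variable {F : Type*} [Field F] [Fintype F]

local notation "SL2" => Matrix.SpecialLinearGroup (Fin 2) F

local notation "PSL2" => Matrix.ProjectiveSpecialLinearGroup (Fin 2) F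

/-- the trace of a regular semisimple element -/
theorem trace_conditions (p : ℕ) [Fact p.Prime] [CharP F p] (A : SL2)
    (hx2 : 2 < orderOf (QuotientGroup.mk A : PSL2))
    (hxp : ¬ p ∣ orderOf (QuotientGroup.mk A : PSL2)) :
    (A : Matrix (Fin 2) (Fin 2) F).trace ≠ 0 ∧ (A : Matrix (Fin 2) (Fin 2) F).trace ^ 2 ≠ 4 := by
  set t := (A : Matrix (Fin 2) (Fin 2) F).trace with ht
  constructor
  · intro h0
    have hdvd : fpoly t ∣ X ^ 2 - C (-1 : F) := by
      rw [h0]
      unfold fpoly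
      have : (X ^ 2 - C (0 : F) * X + 1 : F[X]) = X ^ 2 - C (-1 : F) := by
        rw [map_zero, zero_mul, sub_zero, map_neg, map_one, sub_neg_eq_add]
      rw [this]
    have h1 := pow_eq_of_dvd A 2 (-1) hdvd
    have h2 := mk_pow_eq_one A 2 (-1) (by ring) h1
    have := orderOf_le_of_pow_eq_one two_pos h2
    omega
  · intro h4
    have hcases : t = 2 ∨ t = -2 := by
      have : (t - 2) * (t + 2) = 0 := by linear_combination h4
      rcases mul_eq_zero.1 this with h | h
      · left; exact sub_eq_zero.1 h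
      · right; exact eq_neg_of_add_eq_zero_left h
    obtain ⟨ε, hε, hroot⟩ : ∃ ε : F, ε ^ 2 = 1 ∧ (fpoly t).IsRoot ε := by
      rcases hcases with h | h
      · refine ⟨1, one_pow 2, ?_⟩
        rw [h]
        unfold fpoly
        simp
        norm_num
      · refine ⟨-1, by ring, ?_⟩
        rw [h]
        unfold fpoly
        simp
        norm_num
    have h1 := pow_char_of_root p A hε hroot
    have h2 := mk_pow_eq_one A p (ε ^ p) (by rw [← pow_mul, mul_comm, pow_mul, hε, one_pow]) h1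
    have hdvd := orderOf_dvd_of_pow_eq_one h2
    rcases (Nat.dvd_prime (Fact.out : p.Prime)).1 hdvd with h | h
    · omega
    · exact hxp (by rw [h])

theorem exists_sq (hodd : Fintype.card F % 2 = 1) (t s : F) (ht : t ≠ 0) (hs : s ≠ 2) :
    ∃ α y : F, y ^ 2 = (s ^ 2 - 4) * α ^ 2 + (4 * t - 2 * t * s) * α + (t ^ 2 - 4) := by
  have h2 : (2 : F) ≠ 0 := Cfsg.Agent.S2325.two_ne_zero_of_odd hodd
  by_cases hs4 : s ^ 2 - 4 = 0
  · have hsm : s = -2 := by
      have : (s - 2) * (s + 2) = 0 := by linear_combination hs4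
      rcases mul_eq_zero.1 this with h | h
      · exact absurd (sub_eq_zero.1 h) hs
      · exact eq_neg_of_add_eq_zero_left h
    refine ⟨(4 - t ^ 2) / (8 * t), 0, ?_⟩
    have h8 : (8 : F) * t ≠ 0 := by
      have : (8 : F) = 2 * 2 * 2 := by norm_num
      rw [this]
      exact mul_ne_zero (mul_ne_zero (mul_ne_zero h2 h2) h2) ht
    have hα : (8 * t) * ((4 - t ^ 2) / (8 * t)) = 4 - t ^ 2 := mul_div_cancel₀ _ h8
    rw [hsm]
    linear_combination -hα
  · have hf : degree (X ^ 2 : F[X]) = 2 := degree_X_pow 2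
    have hg : degree (-(C (s ^ 2 - 4) * X ^ 2 + C (4 * t - 2 * t * s) * X + C (t ^ 2 - 4)) : F[X])
        = 2 := by
      rw [degree_neg]
      exact degree_quadratic hs4
    obtain ⟨y, α, h⟩ := FiniteField.exists_root_sum_quadratic hf hg hodd
    refine ⟨α, y, ?_⟩
    simp only [eval_pow, eval_X, eval_neg, eval_add, eval_mul, eval_C] at h
    linear_combination h

theorem nonscalar_of_trace {M : SL2} (h : (M : Matrix (Fin 2) (Fin 2) F).trace ^ 2 ≠ 4) :
    ¬ ∃ a : F, (M : Matrix (Fin 2) (Fin 2) F) = a • (1 : Matrix (Fin 2) (Fin 2) F) := by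
  rintro ⟨r, hr⟩
  have hdet := M.2
  rw [hr, det_smul, det_one, mul_one, Fintype.card_fin] at hdet
  apply h
  rw [hr, trace_smul, trace_one, Fintype.card_fin, smul_eq_mul]
  push_cast
  linear_combination 4 * hdet

theorem sl_version (hodd : Fintype.card F % 2 = 1) (A : SL2)
    (ht0 : (A : Matrix (Fin 2) (Fin 2) F).trace ≠ 0)
    (ht4 : (A : Matrix (Fin 2) (Fin 2) F).trace ^ 2 ≠ 4) (G : SL2)
    (hG : ¬ ∃ a : F, (G : Matrix (Fin 2) (Fin 2) F) = a • (1 : Matrix (Fin 2) (Fin 2) F))
    (hs : (G : Matrix (Fin 2) (Fin 2) F).trace ≠ 2) :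
    ∃ u v : SL2, G = (u * A * u⁻¹) * (v * A * v⁻¹) := by
  have h2 : (2 : F) ≠ 0 := Cfsg.Agent.S2325.two_ne_zero_of_odd hodd
  set t := (A : Matrix (Fin 2) (Fin 2) F).trace with ht
  set s := (G : Matrix (Fin 2) (Fin 2) F).trace with hs'
  obtain ⟨α, y, hy⟩ := exists_sq hodd t s ht0 hs
  set β : F := (y - (t - α * s)) / 2 with hβdef
  have hβ : β ^ 2 + (t - α * s) * β + 1 - α * (t - α) = 0 := by
    rw [hβdef]
    field_simp
    linear_combination hy
  obtain ⟨H, K, hHK, hH, hK⟩ := exists_factor G hG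
    (!![α, β; t - α * s + β, t - α]) (!![-β, -(t - α) - β * s; α, (t - α * s + β) + α * s])
    (by rw [det_fin_two_of]; linear_combination -hβ)
    (by rw [det_fin_two_of]; linear_combination -hβ)
    (gen_factor t s α β hβ)
  rw [trace_fin_two_of] at hH hK
  have hH' : (H : Matrix (Fin 2) (Fin 2) F).trace = t := by rw [hH]; ring
  have hK' : (K : Matrix (Fin 2) (Fin 2) F).trace = t := by rw [hK]; ring
  have hAns := nonscalar_of_trace ht4
  have c1 := isConj_of_trace_eq hodd A H hAns (nonscalar_of_trace (by rw [hH']; exact ht4))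
    hH'.symm (by rw [hH']; exact ht4)
  have c2 := isConj_of_trace_eq hodd A K hAns (nonscalar_of_trace (by rw [hK']; exact ht4))
    hK'.symm (by rw [hK']; exact ht4)
  rw [isConj_iff] at c1 c2
  obtain ⟨u, hu⟩ := c1
  obtain ⟨v, hv⟩ := c2
  exact ⟨u, v, by rw [hu, hv, hHK]⟩

end

/-- A strong covering result in the direction of Thompson's conjecture (non-identity elements) for PSL(2,q), q odd: let F be a finite field of odd characteristic p with at least 5 elements and let x ∈ PSL(2,F) have order greater than 2 and not divisible by p (so x is not unipotent). Then every non-identity element of PSL(2,F) is a product of two conjugates of x. -/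
theorem result {F : Type*} [Field F] [Fintype F] (p : ℕ) [Fact p.Prime] [CharP F p] (hp : p ≠ 2) (h5 : 5 ≤ Fintype.card F)
    (x : Matrix.ProjectiveSpecialLinearGroup (Fin 2) F) (hx2 : 2 < orderOf x) (hxp : ¬ p ∣ orderOf x) : ∀ g : Matrix.ProjectiveSpecialLinearGroup (Fin 2) F, g ≠ 1 → ∃ u v : Matrix.ProjectiveSpecialLinearGroup (Fin 2) F, g = (u * x * u⁻¹) * (v * x * v⁻¹) := by
  intro g hg
  have hodd : Fintype.card F % 2 = 1 := by
    rcases Nat.mod_two_eq_zero_or_one (Fintype.card F) with h | h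
    · exfalso
      have h2 : ringChar F = 2 := FiniteField.even_card_iff_char_two.2 h
      rw [ringChar.eq F p] at h2
      exact hp h2
    · exact h
  have h2 : (2 : F) ≠ 0 := Cfsg.Agent.S2325.two_ne_zero_of_odd hodd
  obtain ⟨A, rfl⟩ := QuotientGroup.mk_surjective x
  obtain ⟨G₀, rfl⟩ := QuotientGroup.mk_surjective g
  obtain ⟨ht0, ht4⟩ := trace_conditions p A hx2 hxp
  have hG₀ : ¬ (G₀ = 1 ∨ G₀ = Cfsg.Agent.S2325.negOne) := by
    intro h
    apply hg
    rw [QuotientGroup.eq_one_iff, Cfsg.Agent.S2508.mem_center_iff']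
    exact h
  have hG₀ns := Cfsg.Agent.S2325.nonscalar_of_ne (fun h => hG₀ (Or.inl h))
    (fun h => hG₀ (Or.inr h))
  -- choose the lift with trace ≠ 2
  obtain ⟨G, hGmk, hGns, hGs⟩ : ∃ G : Matrix.SpecialLinearGroup (Fin 2) F,
      (QuotientGroup.mk G : Matrix.ProjectiveSpecialLinearGroup (Fin 2) F) = QuotientGroup.mk G₀ ∧
      (¬ ∃ a : F, (G : Matrix (Fin 2) (Fin 2) F) = a • (1 : Matrix (Fin 2) (Fin 2) F)) ∧
      (G : Matrix (Fin 2) (Fin 2) F).trace ≠ 2 := by
    by_cases hs : (G₀ : Matrix (Fin 2) (Fin 2) F).trace = 2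
    · refine ⟨Cfsg.Agent.S2325.negOne * G₀, ?_, Cfsg.Agent.S2508.nonscalar_negOne_mul hG₀ns, ?_⟩
      · rw [QuotientGroup.mk_mul, (QuotientGroup.eq_one_iff _).2 Cfsg.Agent.S2508.negOne_mem_center,
          one_mul]
      · rw [Cfsg.Agent.S2508.trace_negOne_mul, hs]
        intro h
        apply h2
        have : (2 : F) + 2 = 0 := by linear_combination -h
        have h4 : (2 : F) * 2 = 0 := by linear_combination this
        exact (mul_self_eq_zero.1 h4)
    · exact ⟨G₀, rfl, hG₀ns, hs⟩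
  obtain ⟨u, v, huv⟩ := sl_version hodd A ht0 ht4 G hGns hGs
  refine ⟨QuotientGroup.mk u, QuotientGroup.mk v, ?_⟩
  rw [← hGmk, huv]
  simp only [QuotientGroup.mk_mul, QuotientGroup.mk_inv]

end Cfsg.Agent.S2455
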