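import Cfsg.Statements.S2456
import Mathlib
import Cfsg.Agent.H9.ClassSquare
import Cfsg.Agent.H9.PSL2Spec
import Cfsg.Agent.S2507

set_option autoImplicit false
open Cfsg

namespace Cfsg.Agent.S2456

open Matrix Polynomial Cfsg.Agent.H9.ClassSquare Cfsg.Agent.H9.PSL2Spec Cfsg.Agent.H9.Mat2

section

variable {F : Type*} [Field F] [Fintype F] [CharP F 2]

local notation "SL2" => Matrix.SpecialLinearGroup (Fin 2) F

theorem eq_one_of_sq {ε : F} (h : ε ^ 2 = 1) : ε = 1 := by
  have h2 := Cfsg.Agent.S2507.two_eq_zero' (F := F)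
  have h1 : (ε - 1) ^ 2 = 0 := by
    calc (ε - 1) ^ 2 = ε ^ 2 - 2 * ε + 1 := by ring
      _ = 0 := by rw [h, h2, zero_mul, sub_zero, ← h2]; norm_num
  exact sub_eq_zero.1 (pow_eq_zero_iff (two_ne_zero) |>.1 h1)

/-- the trace of a split element -/
theorem exists_root (A : SL2) (hx2 : 2 < orderOf A) (hxq : ¬ orderOf A ∣ Fintype.card F + 1) :
    ∃ a : F, a ≠ 0 ∧ (A : Matrix (Fin 2) (Fin 2) F).trace = a + a⁻¹ ∧
      (A : Matrix (Fin 2) (Fin 2) F).trace ≠ 0 := by
  set t := (A : Matrix (Fin 2) (Fin 2) F).trace with ht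
  have h2 := Cfsg.Agent.S2507.two_eq_zero' (F := F)
  have hnirr : ¬ Irreducible (fpoly t) := by
    intro hirr
    obtain ⟨ε, hε, hdvd⟩ := dvd_of_irreducible hirr (Fintype.card F + 1) 1 (mul_one _) (Or.inl rfl)
    have := pow_eq_of_dvd A _ ε hdvd
    rw [eq_one_of_sq hε, one_smul] at this
    apply hxq
    rw [orderOf_dvd_iff_pow_eq_one]
    apply Subtype.ext
    rw [Matrix.SpecialLinearGroup.coe_pow, this, Matrix.SpecialLinearGroup.coe_one]
  have ht0 : t ≠ 0 := by
    intro h0
    have hdvd : fpoly t ∣ X ^ 2 - C (1 : F) := by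
      rw [h0]
      unfold fpoly
      have : (X ^ 2 - C (0 : F) * X + 1 : F[X]) = X ^ 2 - C (1 : F) := by
        rw [map_zero, zero_mul, sub_zero, map_one, sub_eq_add_neg]
        congr 1
        have : (2 : F[X]) = 0 := by
          have : (2 : F[X]) = C (2 : F) := (map_ofNat C 2).symm
          rw [this, h2, map_zero]
        linear_combination this
      rw [this]
    have := pow_eq_of_dvd A 2 1 hdvd
    rw [one_smul] at this
    have hX2 : A ^ 2 = 1 := by
      apply Subtype.ext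
      rw [Matrix.SpecialLinearGroup.coe_pow, this, Matrix.SpecialLinearGroup.coe_one]
    have := orderOf_le_of_pow_eq_one two_pos hX2
    omega
  have hroots : (fpoly t).roots ≠ 0 := by
    intro h
    apply hnirr
    rw [Polynomial.irreducible_iff_roots_eq_zero_of_degree_le_three (by rw [fpoly_natDegree])
      (by rw [fpoly_natDegree]; norm_num)]
    exact h
  obtain ⟨a, ha⟩ := Multiset.exists_mem_of_ne_zero hroots
  rw [Polynomial.mem_roots (fpoly_ne_zero t)] at ha
  have ha' : a ^ 2 - t * a + 1 = 0 := by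
    have := ha
    unfold fpoly at this
    simpa using this
  have ha0 : a ≠ 0 := by
    rintro rfl
    simp at ha'
  refine ⟨a, ha0, ?_, ht0⟩
  field_simp
  linear_combination -ha'

theorem nonscalar_of_ne_one {G : SL2} (hG : G ≠ 1) :
    ¬ ∃ a : F, (G : Matrix (Fin 2) (Fin 2) F) = a • (1 : Matrix (Fin 2) (Fin 2) F) := by
  rintro ⟨r, hr⟩
  have hdet := G.2
  rw [hr, det_smul, det_one, mul_one, Fintype.card_fin] at hdet
  apply hG
  apply Subtype.ext
  rw [hr, eq_one_of_sq hdet, one_smul, Matrix.SpecialLinearGroup.coe_one]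

theorem sl_version (X : SL2) (hx2 : 2 < orderOf X) (hxq : ¬ orderOf X ∣ Fintype.card F + 1)
    (G : SL2) (hG : G ≠ 1) : ∃ u v : SL2, G = (u * X * u⁻¹) * (v * X * v⁻¹) := by
  obtain ⟨a, ha0, hta, ht0⟩ := exists_root X hx2 hxq
  have hX1 : X ≠ 1 := by
    rintro rfl
    rw [orderOf_one] at hx2
    omega
  obtain ⟨H, K, hHK, hH, hK⟩ := exists_factor G (nonscalar_of_ne_one hG)
    (!![0, -a; a⁻¹, a + a⁻¹]) (!![a, a * (G : Matrix (Fin 2) (Fin 2) F).trace - (a + a⁻¹); 0, a⁻¹])
    (by rw [det_fin_two_of]; field_simp; ring) (by rw [det_fin_two_of]; field_simp; ring)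
    (split_factor ha0 _)
  rw [trace_fin_two_of, zero_add, ← hta] at hH
  rw [trace_fin_two_of, ← hta] at hK
  have hH1 : H ≠ 1 := by
    rintro rfl
    rw [Cfsg.Agent.S2507.trace_one_sl] at hH
    exact ht0 hH.symm
  have hK1 : K ≠ 1 := by
    rintro rfl
    rw [Cfsg.Agent.S2507.trace_one_sl] at hK
    exact ht0 hK.symm
  have c1 := (Cfsg.Agent.S2507.isConj_iff_of_ne_one hX1 H).2 ⟨hH1, hH⟩
  have c2 := (Cfsg.Agent.S2507.isConj_iff_of_ne_one hX1 K).2 ⟨hK1, hK⟩
  rw [isConj_iff] at c1 c2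
  obtain ⟨u, hu⟩ := c1
  obtain ⟨v, hv⟩ := c2
  exact ⟨u, v, by rw [hu, hv, hHK]⟩

end

/-- A strong covering result in the direction of Thompson's conjecture (non-identity elements) for PSL(2,q), q even: let F be a finite field of characteristic 2 with q ≥ 4 elements and let x ∈ PSL(2,F) have order greater than 2 and not dividing q + 1. Then every non-identity element of PSL(2,F) is a product of two conjugates of x. -/
theorem result {F : Type*} [Field F] [Fintype F] [CharP F 2] (h4 : 4 ≤ Fintype.card F)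
    (x : Matrix.ProjectiveSpecialLinearGroup (Fin 2) F) (hx2 : 2 < orderOf x) (hxq : ¬ orderOf x ∣ Fintype.card F + 1) : ∀ g : Matrix.ProjectiveSpecialLinearGroup (Fin 2) F, g ≠ 1 → ∃ u v : Matrix.ProjectiveSpecialLinearGroup (Fin 2) F, g = (u * x * u⁻¹) * (v * x * v⁻¹) := by
  intro g hg
  let e := Cfsg.Agent.S2507.slEquiv (F := F)
  have hox : orderOf (e.symm x) = orderOf x := MulEquiv.orderOf_eq e.symm x
  have hG : e.symm g ≠ 1 := by
    intro h
    apply hg
    have := congrArg e h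
    rwa [MulEquiv.apply_symm_apply, map_one] at this
  obtain ⟨u, v, huv⟩ := sl_version (e.symm x) (by rw [hox]; exact hx2) (by rw [hox]; exact hxq)
    (e.symm g) hG
  refine ⟨e u, e v, ?_⟩
  have := congrArg e huv
  rw [MulEquiv.apply_symm_apply] at this
  rw [this]
  simp only [map_mul, map_inv, MulEquiv.apply_symm_apply]

end Cfsg.Agent.S2456
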