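import Cfsg.Statements.S2466
import Mathlib
import Cfsg.Agent.H9.AltOrders

set_option autoImplicit false

namespace Cfsg.Agent.S2466

open Cfsg.Agent.H9.AltOrders

/-- Adjacency of odd primes in the prime graph of the alternating groups: let r ≠ s be odd primes at most n. The alternating group of degree n has an element of order r·s if and only if r + s ≤ n. -/
theorem result (n r s : ℕ) (hr : r.Prime) (hs : s.Prime) (hr2 : r ≠ 2) (hs2 : s ≠ 2) (hrs : r ≠ s) (hrn : r ≤ n) (hsn : s ≤ n) :
    (r * s ∈ Set.range (orderOf : alternatingGroup (Fin n) → ℕ)) ↔ r + s ≤ n := by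
  rw [mem_range_orderOf_alt_iff]
  have hcop : Nat.Coprime r s := (Nat.coprime_primes hr hs).2 hrs
  constructor
  · rintro ⟨m, h1, h2, h3, -⟩
    have hr' : r ∣ m.lcm := by rw [h3]; exact dvd_mul_right r s
    have hs' : s ∣ m.lcm := by rw [h3]; exact dvd_mul_left s r
    obtain ⟨a, ha, hra⟩ := exists_dvd_of_prime_dvd_lcm hr m hr'
    obtain ⟨b, hb, hsb⟩ := exists_dvd_of_prime_dvd_lcm hs m hs'
    have ha0 : 0 < a := by have := h2 a ha; omega
    have hb0 : 0 < b := by have := h2 b hb; omega
    by_cases hab : a = b
    · subst hab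
      have h4 : r * s ∣ a := hcop.mul_dvd_of_dvd_of_dvd hra hsb
      have h5 : r * s ≤ a := Nat.le_of_dvd ha0 h4
      have h6 : a ≤ m.sum := Multiset.single_le_sum (fun x _ => Nat.zero_le x) a ha
      have h7 : r + s ≤ r * s := by
        have := hr.two_le
        have := hs.two_le
        nlinarith
      omega
    · have h4 := add_le_sum_of_ne ha hb hab
      have h5 : r ≤ a := Nat.le_of_dvd ha0 hra
      have h6 : s ≤ b := Nat.le_of_dvd hb0 hsb
      omega
  · intro h
    refine ⟨{r, s}, ?_, ?_, ?_, ?_⟩
    · simpa using h
    · intro a ha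
      simp only [Multiset.insert_eq_cons, Multiset.mem_cons, Multiset.mem_singleton] at ha
      rcases ha with rfl | rfl
      · exact hr.two_le
      · exact hs.two_le
    · simp only [Multiset.insert_eq_cons, Multiset.lcm_cons, Multiset.lcm_singleton,
        normalize_eq]
      exact hcop.lcm_eq_mul
    · have hro : Odd r := hr.odd_of_ne_two hr2
      have hso : Odd s := hs.odd_of_ne_two hs2
      simp only [Multiset.insert_eq_cons, Multiset.sum_cons, Multiset.sum_singleton,
        Multiset.card_cons, Multiset.card_singleton]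
      have := hro.add_odd hso
      exact this.add (by decide)

end Cfsg.Agent.S2466
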