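import Cfsg.Statements.S2467
import Mathlib
import Cfsg.Agent.H9.AltOrders

set_option autoImplicit false

namespace Cfsg.Agent.S2467

open Cfsg.Agent.H9.AltOrders

/-- if the total parity is even and `b` is an even member, another even member exists. -/
theorem exists_even_erase (s : Multiset ℕ) (b : ℕ) (hb : Even b)
    (h : Even ((b ::ₘ s).sum + Multiset.card (b ::ₘ s))) : ∃ c ∈ s, Even c := by
  rw [Multiset.sum_cons, Multiset.card_cons] at h
  have h1 : Odd (s.sum + Multiset.card s) := by
    by_contra hcon
    rw [Nat.not_odd_iff_even] at hcon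
    have h2 : b + s.sum + (Multiset.card s + 1) = (b + (s.sum + Multiset.card s)) + 1 := by ring
    rw [h2] at h
    have h3 : Even (b + (s.sum + Multiset.card s)) := hb.add hcon
    exact (Nat.not_even_iff_odd.2 h3.add_one) h
  clear h
  induction s using Multiset.induction_on with
  | empty =>
    simp at h1
  | cons a t ih =>
    by_cases ha : Even a
    · exact ⟨a, Multiset.mem_cons_self a t, ha⟩
    · rw [Nat.not_even_iff_odd] at ha
      rw [Multiset.sum_cons, Multiset.card_cons] at h1
      have h2 : Odd (t.sum + Multiset.card t) := by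
        by_contra hcon
        rw [Nat.not_odd_iff_even] at hcon
        have h3 : a + t.sum + (Multiset.card t + 1) = (a + 1) + (t.sum + Multiset.card t) := by ring
        rw [h3] at h1
        have h4 : Even ((a + 1) + (t.sum + Multiset.card t)) := ha.add_one.add hcon
        exact (Nat.not_odd_iff_even.2 h4) h1
      obtain ⟨c, hc, hce⟩ := ih h2
      exact ⟨c, Multiset.mem_cons_of_mem hc, hce⟩

/-- Adjacency of 2 and an odd prime in the prime graph of the alternating groups: let r be an odd prime at most n, with n ≥ 4. The alternating group of degree n has an element of order 2r if and only if r + 4 ≤ n. -/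
theorem result (n r : ℕ) (hn : 4 ≤ n) (hr : r.Prime) (hr2 : r ≠ 2) (hrn : r ≤ n) :
    (2 * r ∈ Set.range (orderOf : alternatingGroup (Fin n) → ℕ)) ↔ r + 4 ≤ n := by
  rw [mem_range_orderOf_alt_iff]
  have hro : Odd r := hr.odd_of_ne_two hr2
  have hr3 : 3 ≤ r := by
    have := hr.two_le
    omega
  constructor
  · rintro ⟨m, h1, h2, h3, h4⟩
    have hr' : r ∣ m.lcm := by rw [h3]; exact dvd_mul_left r 2
    have h2' : 2 ∣ m.lcm := by rw [h3]; exact dvd_mul_right 2 r
    obtain ⟨b, hb, h2b⟩ := exists_dvd_of_prime_dvd_lcm Nat.prime_two m h2'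
    obtain ⟨s, rfl⟩ := Multiset.exists_cons_of_mem hb
    have hbe : Even b := even_iff_two_dvd.2 h2b
    obtain ⟨c, hc, hce⟩ := exists_even_erase s b hbe h4
    have hb2 : 2 ≤ b := h2 b hb
    have hc2 : 2 ≤ c := h2 c (Multiset.mem_cons_of_mem hc)
    obtain ⟨a, ha, hra⟩ := exists_dvd_of_prime_dvd_lcm hr _ hr'
    have ha0 : 0 < a := by have := h2 a ha; omega
    have hra' : r ≤ a := Nat.le_of_dvd ha0 hra
    rw [Multiset.sum_cons] at h1
    have hcs : c ≤ s.sum := Multiset.single_le_sum (fun x _ => Nat.zero_le x) c hc
    rcases Multiset.mem_cons.1 ha with hab | has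
    · -- a = b : even multiple of r
      subst hab
      have h5 : 2 * r ∣ a := (Nat.coprime_primes Nat.prime_two hr).2 (Ne.symm hr2)
        |>.mul_dvd_of_dvd_of_dvd h2b hra
      have h6 : 2 * r ≤ a := Nat.le_of_dvd ha0 h5
      omega
    · by_cases hac : a = c
      · -- a = c even multiple of r
        subst hac
        have h5 : 2 * r ∣ a := (Nat.coprime_primes Nat.prime_two hr).2 (Ne.symm hr2)
          |>.mul_dvd_of_dvd_of_dvd (even_iff_two_dvd.1 hce) hra
        have h6 : 2 * r ≤ a := Nat.le_of_dvd ha0 h5
        omega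
      · have h5 := add_le_sum_of_ne has hc hac
        omega
  · intro h
    refine ⟨{r, 2, 2}, ?_, ?_, ?_, ?_⟩
    · simp only [Multiset.insert_eq_cons, Multiset.sum_cons, Multiset.sum_singleton]
      omega
    · intro a ha
      simp only [Multiset.insert_eq_cons, Multiset.mem_cons, Multiset.mem_singleton] at ha
      rcases ha with rfl | rfl | rfl
      · exact hr.two_le
      · exact le_refl 2
      · exact le_refl 2
    · simp only [Multiset.insert_eq_cons, Multiset.lcm_cons, Multiset.lcm_singleton,
        normalize_eq]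
      have h1 : Nat.Coprime r 2 := (Nat.coprime_primes hr Nat.prime_two).2 hr2
      change Nat.lcm r (Nat.lcm 2 2) = 2 * r
      rw [Nat.lcm_self, h1.lcm_eq_mul, mul_comm]
    · simp only [Multiset.insert_eq_cons, Multiset.sum_cons, Multiset.sum_singleton,
        Multiset.card_cons, Multiset.card_singleton]
      obtain ⟨k, hk⟩ := hro
      exact ⟨k + 4, by omega⟩

end Cfsg.Agent.S2467
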