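import Cfsg.Statements.S2472
import Mathlib
import Cfsg.Agent.S2512
import Cfsg.Agent.S0245

set_option autoImplicit false
open Cfsg

namespace Cfsg.Agent.S2472

section Blocks

open Matrix Polynomial Module Cfsg.Agent.S2512

universe u

variable {F : Type u} [Field F] [Fintype F]

theorem odd_dvd_of_dvd_two_mul (N M j : ℕ) (hN : Odd N) (hNM : N ∣ M) (h : M ∣ 2 * j) : N ∣ j := by
  have h1 : N ∣ 2 * j := dvd_trans hNM h
  have hcop : Nat.Coprime N 2 := (Nat.coprime_two_right).2 hN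
  exact hcop.dvd_of_dvd_mul_left h1

theorem hasBlock_tplus' (p : ℕ) [Fact p.Prime] [CharP F p]
    (d : ℕ) (hd : 1 ≤ d) (N : ℕ) (hN : Odd N) (hNd : N ∣ Fintype.card F ^ d - 1) :
    HasBlock.{0} F (2 * d) N := by
  classical
  have : NeZero d := ⟨by omega⟩
  let K := FiniteField.Extension F p d
  have hfr : finrank F K = d := FiniteField.finrank_extension F p d
  set q := Fintype.card F with hqdef
  have hcardK : Nat.card K = q ^ d := by
    rw [FiniteField.natCard_extension, Nat.card_eq_fintype_card]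
  obtain ⟨ζ, hζ⟩ := IsCyclic.exists_generator (α := Kˣ)
  have hordζ : orderOf ζ = q ^ d - 1 := by
    rw [orderOf_eq_card_of_forall_mem_zpowers hζ, Nat.card_units, hcardK]
  set z : K := (ζ : K) with hz
  have hz0 : z ≠ 0 := Units.ne_zero ζ
  have hzpow : ∀ k : ℕ, z ^ k = 1 ↔ q ^ d - 1 ∣ k := by
    intro k
    rw [hz, ← Units.val_pow_eq_pow_val, Units.val_eq_one, ← orderOf_dvd_iff_pow_eq_one, hordζ]
  let tf := Algebra.traceForm F K
  have htf : ∀ x : K, (∀ y, Algebra.trace F K (x * y) = 0) → x = 0 := by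
    intro x hx
    exact (_root_.traceForm_nondegenerate F K).1 x hx
  let B : LinearMap.BilinForm F (K × K) :=
    tf.compl₁₂ (LinearMap.fst F K K) (LinearMap.snd F K K) -
      tf.compl₁₂ (LinearMap.snd F K K) (LinearMap.fst F K K)
  have hBapp : ∀ x y : K × K, B x y = Algebra.trace F K (x.1 * y.2) - Algebra.trace F K (x.2 * y.1) := by
    intro x y
    simp [B, tf, Algebra.traceForm_apply]
  have hAlt : B.IsAlt := by
    intro x
    rw [hBapp, mul_comm, sub_self]
  let T : (K × K) →ₗ[F] (K × K) := (Algebra.lmul F K z).prodMap (Algebra.lmul F K z⁻¹)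
  have hTapp : ∀ x : K × K, T x = (z * x.1, z⁻¹ * x.2) := fun x => rfl
  have hTpow : ∀ (j : ℕ) (x : K × K), (T ^ j) x = (z ^ j * x.1, (z⁻¹) ^ j * x.2) := by
    intro j
    induction j with
    | zero => intro x; simp
    | succ j ih =>
      intro x
      rw [pow_succ, Module.End.mul_apply, hTapp, ih]
      simp only
      rw [pow_succ, pow_succ, mul_assoc, mul_assoc]
  refine ⟨K × K, inferInstance, inferInstance, inferInstance, B, T, ?_, hAlt, ?_, ?_, ?_⟩
  · apply nondeg_of_alt_left B hAlt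
    intro x hx
    have h1 : x.1 = 0 := by
      apply htf
      intro y
      have := hx (0, y)
      rw [hBapp] at this
      simpa using this
    have h2 : x.2 = 0 := by
      apply htf
      intro y
      have := hx (y, 0)
      rw [hBapp] at this
      simpa using this
    exact Prod.ext h1 h2
  · intro x y
    rw [hBapp, hBapp, hTapp, hTapp]
    simp only
    have e1 : z * x.1 * (z⁻¹ * y.2) = x.1 * y.2 := by
      have : z * x.1 * (z⁻¹ * y.2) = (z * z⁻¹) * (x.1 * y.2) := by ring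
      rw [this, mul_inv_cancel₀ hz0, one_mul]
    have e2 : z⁻¹ * x.2 * (z * y.1) = x.2 * y.1 := by
      have : z⁻¹ * x.2 * (z * y.1) = (z * z⁻¹) * (x.2 * y.1) := by ring
      rw [this, mul_inv_cancel₀ hz0, one_mul]
    rw [e1, e2]
  · rw [Module.finrank_prod, hfr, two_mul]
  · intro j hj
    have hzj : z ^ j = 1 ∨ z ^ j = -1 := by
      rcases hj with h | h
      · left
        have := congrArg (fun f : (K × K) →ₗ[F] (K × K) => (f (1, 0)).1) h
        simp only [hTpow] at this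
        simpa using this
      · right
        have := congrArg (fun f : (K × K) →ₗ[F] (K × K) => (f (1, 0)).1) h
        simp only [hTpow] at this
        simpa using this
    have h2j : z ^ (2 * j) = 1 := by
      rw [show 2 * j = j * 2 from mul_comm 2 j, pow_mul]
      rcases hzj with h | h
      · rw [h, one_pow]
      · rw [h]; simp
    have h3 : q ^ d - 1 ∣ 2 * j := (hzpow _).1 h2j
    exact odd_dvd_of_dvd_two_mul N _ j hN hNd h3

theorem hasBlock_tminus' (p : ℕ) [Fact p.Prime] [CharP F p]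
    (d : ℕ) (hd : 1 ≤ d) (N : ℕ) (hN : Odd N) (hNd : N ∣ Fintype.card F ^ d + 1) :
    HasBlock.{0} F (2 * d) N := by
  classical
  have : NeZero (2 * d) := ⟨by omega⟩
  let K := FiniteField.Extension F p (2 * d)
  have hfr : finrank F K = 2 * d := FiniteField.finrank_extension F p (2 * d)
  set q := Fintype.card F with hqdef
  have hq1 : 1 < q := Fintype.one_lt_card
  have hqd1 : 1 < q ^ d := Nat.one_lt_pow (by omega) hq1
  have hcardK : Nat.card K = q ^ (2 * d) := by
    rw [FiniteField.natCard_extension, Nat.card_eq_fintype_card]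
  have hfac : q ^ (2 * d) - 1 = (q ^ d - 1) * (q ^ d + 1) := by
    rw [mul_comm 2 d, pow_mul]
    exact sq_sub_one_factor _ (by omega)
  -- the involution
  let fr := FiniteField.Extension.frob F p (2 * d)
  let φ : K ≃ₐ[F] K := fr ^ d
  have hφapp : ∀ x : K, φ x = x ^ (q ^ d) := by
    intro x
    have := FiniteField.Extension.frob_iterate_apply F p (2 * d) d (x := x)
    rw [Nat.card_eq_fintype_card] at this
    exact this
  have hpowK : ∀ x : K, x ^ (q ^ (2 * d)) = x := by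
    intro x
    haveI := Fintype.ofFinite K
    have := FiniteField.pow_card x
    rw [Fintype.card_eq_nat_card, hcardK] at this
    exact this
  have hφφ : ∀ x : K, φ (φ x) = x := by
    intro x
    rw [hφapp, hφapp, ← pow_mul, ← pow_add, ← two_mul, hpowK]
  -- a generator
  obtain ⟨ζ, hζ⟩ := IsCyclic.exists_generator (α := Kˣ)
  have hordζ : orderOf ζ = q ^ (2 * d) - 1 := by
    rw [orderOf_eq_card_of_forall_mem_zpowers hζ, Nat.card_units, hcardK]
  have hζpow : ∀ k : ℕ, ((ζ : K)) ^ k = 1 ↔ q ^ (2 * d) - 1 ∣ k := by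
    intro k
    rw [← Units.val_pow_eq_pow_val, Units.val_eq_one, ← orderOf_dvd_iff_pow_eq_one, hordζ]
  have hζ0 : (ζ : K) ≠ 0 := Units.ne_zero ζ
  have hφζ : φ (ζ : K) ≠ (ζ : K) := by
    rw [hφapp]
    intro h
    have h1 : (ζ : K) ^ (q ^ d - 1) = 1 := by
      have h2 : (ζ : K) ^ (q ^ d - 1) * (ζ : K) = 1 * (ζ : K) := by
        rw [← pow_succ, Nat.sub_add_cancel (by omega), h, one_mul]
      exact mul_right_cancel₀ hζ0 h2
    rw [hζpow, hfac] at h1
    have h3 : (q ^ d - 1) * (q ^ d + 1) ≤ q ^ d - 1 := Nat.le_of_dvd (by omega) h1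
    have h4 : (q ^ d - 1) * 2 ≤ (q ^ d - 1) * (q ^ d + 1) := Nat.mul_le_mul_left _ (by omega)
    omega
  set α : K := φ (ζ : K) - (ζ : K) with hα
  have hα0 : α ≠ 0 := sub_ne_zero.2 hφζ
  set z : K := (ζ : K) ^ (q ^ d - 1) with hz
  have hzφ : z * φ z = 1 := by
    rw [hφapp, ← pow_succ', hz, ← pow_mul, hζpow, hfac]
  have hzpow : ∀ k : ℕ, z ^ k = 1 ↔ q ^ d + 1 ∣ k := by
    intro k
    rw [hz, ← pow_mul, hζpow, hfac, Nat.mul_dvd_mul_iff_left (by omega)]
  let tf := Algebra.traceForm F K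
  have htf : ∀ x : K, (∀ y, Algebra.trace F K (x * y) = 0) → x = 0 := by
    intro x hx
    exact (_root_.traceForm_nondegenerate F K).1 x hx
  let B : LinearMap.BilinForm F K :=
    tf.compl₁₂ (Algebra.lmul F K α : K →ₗ[F] K) (φ.toLinearMap)
  have hBapp : ∀ x y : K, B x y = Algebra.trace F K (α * x * φ y) := by
    intro x y
    simp [B, tf, Algebra.traceForm_apply]
  have hAlt : B.IsAlt := by
    intro x
    rw [hBapp]
    set u := (ζ : K) * x * φ x with hu
    have h1 : α * x * φ x = φ u - u := by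
      rw [hu, hα, map_mul, map_mul, hφφ]
      ring
    have h2 : Algebra.trace F K (φ u) = Algebra.trace F K u := Algebra.trace_eq_of_algEquiv φ u
    rw [h1, map_sub, h2, sub_self]
  let T : K →ₗ[F] K := Algebra.lmul F K z
  refine ⟨K, inferInstance, inferInstance, inferInstance, B, T, ?_, hAlt, ?_, hfr, ?_⟩
  · apply nondeg_of_alt_left B hAlt
    intro x hx
    have h1 : α * x = 0 := by
      apply htf
      intro y
      have := hx (φ y)
      rw [hBapp, hφφ] at this
      exact this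
    exact (mul_eq_zero.1 h1).resolve_left hα0
  · intro x y
    rw [hBapp, hBapp]
    have h1 : ∀ w, T w = z * w := fun w => rfl
    rw [h1, h1, map_mul φ]
    have : α * (z * x) * (φ z * φ y) = (z * φ z) * (α * x * φ y) := by ring
    rw [this, hzφ, one_mul]
  · intro j hj
    have hpow : T ^ j = Algebra.lmul F K (z ^ j) := by
      rw [map_pow]
    rw [hpow] at hj
    have hzj : z ^ j = 1 ∨ z ^ j = -1 := by
      rcases hj with h | h
      · left
        have := congrArg (fun f : K →ₗ[F] K => f 1) h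
        simpa using this
      · right
        have := congrArg (fun f : K →ₗ[F] K => f 1) h
        simpa using this
    have h2j : z ^ (2 * j) = 1 := by
      rw [show 2 * j = j * 2 from mul_comm 2 j, pow_mul]
      rcases hzj with h | h
      · rw [h, one_pow]
      · rw [h]; simp
    have h3 : q ^ d + 1 ∣ 2 * j := (hzpow _).1 h2j
    exact odd_dvd_of_dvd_two_mul N _ j hN hNd h3

omit [Fintype F] in
/-- the transvection block -/
theorem hasBlock_transv (p : ℕ) [Fact p.Prime] [CharP F p] : HasBlock.{u} F 2 p := by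
  classical
  let B : LinearMap.BilinForm F (F × F) :=
    LinearMap.mk₂ F (fun x y => x.1 * y.2 - x.2 * y.1)
      (by intro x x' y; simp only [Prod.fst_add, Prod.snd_add]; ring)
      (by intro c x y; simp only [Prod.smul_fst, Prod.smul_snd, smul_eq_mul]; ring)
      (by intro x y y'; simp only [Prod.fst_add, Prod.snd_add]; ring)
      (by intro c x y; simp only [Prod.smul_fst, Prod.smul_snd, smul_eq_mul]; ring)
  have hBapp : ∀ x y : F × F, B x y = x.1 * y.2 - x.2 * y.1 := fun x y => rfl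
  have hAlt : B.IsAlt := by
    intro x
    rw [hBapp]; ring
  let T : (F × F) →ₗ[F] (F × F) :=
    (LinearMap.fst F F F + LinearMap.snd F F F).prod (LinearMap.snd F F F)
  have hTapp : ∀ x : F × F, T x = (x.1 + x.2, x.2) := fun x => rfl
  have hTpow : ∀ (j : ℕ) (x : F × F), (T ^ j) x = (x.1 + (j : F) * x.2, x.2) := by
    intro j
    induction j with
    | zero => intro x; simp
    | succ j ih =>
      intro x
      rw [pow_succ, Module.End.mul_apply, hTapp, ih]
      simp only [Nat.cast_succ]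
      ext
      · simp only; ring
      · rfl
  refine ⟨F × F, inferInstance, inferInstance, inferInstance, B, T, ?_, hAlt, ?_, ?_, ?_⟩
  · apply nondeg_of_alt_left B hAlt
    intro x hx
    have h1 := hx (0, 1)
    have h2 := hx (1, 0)
    rw [hBapp] at h1 h2
    simp only [mul_one, mul_zero, sub_zero, zero_sub, neg_eq_zero] at h1 h2
    exact Prod.ext h1 h2
  · intro x y
    rw [hBapp, hBapp, hTapp, hTapp]
    simp only
    ring
  · rw [Module.finrank_prod, Module.finrank_self]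
  · intro j hj
    have hj0 : (j : F) = 0 := by
      rcases hj with h | h
      · have := congrArg (fun f : (F × F) →ₗ[F] (F × F) => (f (0, 1)).1) h
        simp only [hTpow] at this
        simpa using this
      · have := congrArg (fun f : (F × F) →ₗ[F] (F × F) => (f (0, 1)).1) h
        simp only [hTpow] at this
        simpa using this
    exact (CharP.cast_eq_zero_iff F p j).1 hj0

end Blocks

section Exist

open Matrix Polynomial Module Cfsg.Agent.S2512

universe v w u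

variable {F : Type u} [Field F] [Fintype F]

theorem exists_order (n : ℕ) (hn : 1 ≤ n) (N : ℕ) (h : HasBlock.{v} F (2 * n) N) :
    ∃ g : Cfsg.PSp n F, orderOf g = N := by
  classical
  have hfinG : Finite ↥(symplecticGroup (Fin n) F) := Subtype.finite
  have hfinP : Finite (Cfsg.PSp n F) := inferInstance
  obtain ⟨g, hg⟩ := realize n hn N h
  have h0 : orderOf g ≠ 0 := (orderOf_pos g).ne'
  exact ⟨g ^ (orderOf g / N), orderOf_pow_orderOf_div h0 hg⟩

omit [Fintype F] in
theorem hasBlock_pad (n a N : ℕ) (ha : a ≤ n) (h : HasBlock.{v} F (2 * a) N) :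
    HasBlock.{max v u} F (2 * n) N := by
  have h1 := hasBlock_prod (2 * a) (2 * (n - a)) N 1 h (hasBlock_one (F := F) (n - a))
  rw [Nat.lcm_one_right] at h1
  have : 2 * a + 2 * (n - a) = 2 * n := by omega
  rw [this] at h1
  exact h1

omit [Fintype F] in
theorem hasBlock_pad2 (n a b N₁ N₂ : ℕ) (hab : a + b ≤ n) (h₁ : HasBlock.{v} F (2 * a) N₁)
    (h₂ : HasBlock.{w} F (2 * b) N₂) :
    HasBlock.{max (max v w) u} F (2 * n) (Nat.lcm N₁ N₂) := by
  have h1 := hasBlock_prod (2 * a) (2 * b) N₁ N₂ h₁ h₂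
  have : 2 * a + 2 * b = 2 * (a + b) := by ring
  rw [this] at h1
  have h2 := hasBlock_pad n (a + b) _ hab h1
  exact h2

end Exist

section PolyApi

open Polynomial

variable {F : Type*} [Field F]

/-- the multiplicative order of the root of an irreducible polynomial -/
noncomputable def ord (f : F[X]) : ℕ := orderOf (AdjoinRoot.root f)

theorem dvd_iff_root_pow (f : F[X]) (j : ℕ) :
    f ∣ X ^ j - 1 ↔ (AdjoinRoot.root f) ^ j = 1 := by
  rw [← AdjoinRoot.mk_eq_zero, map_sub, map_pow, AdjoinRoot.mk_X, map_one, sub_eq_zero]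

theorem dvd_iff_ord_dvd (f : F[X]) (j : ℕ) : f ∣ X ^ j - 1 ↔ ord f ∣ j := by
  rw [dvd_iff_root_pow, ord, orderOf_dvd_iff_pow_eq_one]

theorem ord_eq_of_associated (f g : F[X]) (h : Associated f g) : ord f = ord g := by
  apply Nat.dvd_antisymm
  · rw [← dvd_iff_ord_dvd]
    exact h.dvd.trans ((dvd_iff_ord_dvd g _).2 dvd_rfl)
  · rw [← dvd_iff_ord_dvd]
    exact h.symm.dvd.trans ((dvd_iff_ord_dvd f _).2 dvd_rfl)

theorem coprime_of_ord_ne (f g : F[X]) (hf : Irreducible f) (hg : Irreducible g)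
    (h : ord f ≠ ord g) : IsCoprime f g := by
  rw [hf.coprime_iff_not_dvd]
  intro hfg
  exact h (ord_eq_of_associated f g (hf.associated_of_dvd hg hfg))

theorem coprime_of_not_associated (f g : F[X]) (hf : Irreducible f) (hg : Irreducible g)
    (h : ¬ Associated f g) : IsCoprime f g := by
  rw [hf.coprime_iff_not_dvd]
  intro hfg
  exact h (hf.associated_of_dvd hg hfg)

/-- existence of an irreducible factor in the second coprime part -/
theorem exists_factor (μ a b : F[X]) (hμ : μ ≠ 0) (hab : IsCoprime a b) (hμab : μ ∣ a * b)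
    (hna : ¬ μ ∣ a) : ∃ f : F[X], Irreducible f ∧ f ∣ μ ∧ f ∣ b ∧ ¬ f ∣ a := by
  classical
  have h1 : ¬ IsCoprime μ b := by
    intro h
    exact hna (h.dvd_of_dvd_mul_right hμab)
  have h2 : ¬ IsUnit (EuclideanDomain.gcd μ b) := by
    intro h
    apply h1
    exact (EuclideanDomain.gcd_isUnit_iff).1 h
  have h3 : EuclideanDomain.gcd μ b ≠ 0 := by
    intro h
    rw [EuclideanDomain.gcd_eq_zero_iff] at h
    exact hμ h.1
  obtain ⟨f, hf, hfg⟩ := WfDvdMonoid.exists_irreducible_factor h2 h3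
  have hfμ : f ∣ μ := hfg.trans (EuclideanDomain.gcd_dvd_left μ b)
  have hfb : f ∣ b := hfg.trans (EuclideanDomain.gcd_dvd_right μ b)
  refine ⟨f, hf, hfμ, hfb, ?_⟩
  intro hfa
  exact hf.not_isUnit (hab.isUnit_of_dvd' hfa hfb)

theorem exists_sq_factor (μ : F[X]) (hμ : μ ≠ 0) (h : ¬ Squarefree μ) :
    ∃ g : F[X], Irreducible g ∧ g * g ∣ μ := by
  rw [squarefree_iff_irreducible_sq_not_dvd_of_ne_zero hμ] at h
  push_neg at h
  exact h

end PolyApi

section Galois2

open Polynomial Cfsg.Agent.S2512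

variable {F : Type*} [Field F] [Fintype F]

theorem irr_recip' (p : ℕ) [Fact p.Prime] [CharP F p] (f : F[X]) (hf : Irreducible f)
    (x : ℕ) (hx : 1 ≤ x) (hfx : f ∣ X ^ x - 1)
    (hcomp : f ∣ f.comp (X ^ (x - 1))) :
    f ∣ X ^ 2 - 1 ∨ ∃ d' : ℕ, f.natDegree = 2 * d' ∧ f ∣ X ^ (Fintype.card F ^ d' + 1) - 1 := by
  classical
  have : Fact (Irreducible f) := ⟨hf⟩
  have hf0 : f ≠ 0 := hf.ne_zero
  have hfin : Module.Finite F (AdjoinRoot f) := (AdjoinRoot.powerBasis hf0).finite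
  have : Finite (AdjoinRoot f) := Module.finite_of_finite F
  have : Fintype (AdjoinRoot f) := Fintype.ofFinite _
  set q := Fintype.card F with hqdef
  set d := f.natDegree with hddef
  have hq1 : 1 < q := Fintype.one_lt_card
  set α : AdjoinRoot f := AdjoinRoot.root f with hα
  have hαx : α ^ x = 1 := by
    have := AdjoinRoot.mk_eq_zero.2 hfx
    rw [map_sub, map_pow, AdjoinRoot.mk_X, map_one, sub_eq_zero] at this
    exact this
  set β : AdjoinRoot f := α ^ (x - 1) with hβ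
  have hαβ : α * β = 1 := by
    rw [hβ, ← pow_succ', Nat.sub_add_cancel hx, hαx]
  have hα0 : α ≠ 0 := left_ne_zero_of_mul_eq_one hαβ
  have hβinv : β = α⁻¹ := eq_inv_of_mul_eq_one_right hαβ
  have hfβ : aeval β f = 0 := by
    have h1 := AdjoinRoot.mk_eq_zero.2 hcomp
    rw [← AdjoinRoot.aeval_eq, Polynomial.aeval_comp, map_pow, aeval_X] at h1
    exact h1
  let τ₀ : AdjoinRoot f →ₐ[F] AdjoinRoot f :=
    AdjoinRoot.liftAlgHom f (Algebra.ofId F (AdjoinRoot f)) β (by
      have : eval₂ (algebraMap F (AdjoinRoot f)) β f = 0 := by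
        rw [← Polynomial.aeval_def]; exact hfβ
      exact this)
  have hτ₀α : τ₀ α = β := AdjoinRoot.liftAlgHom_root f _ β _
  let τ : AdjoinRoot f ≃ₐ[F] AdjoinRoot f := AlgEquiv.ofBijective τ₀ (AlgHom.bijective τ₀)
  obtain ⟨i, hi⟩ := FiniteField.exists_forall_apply_eq_pow F p (AdjoinRoot f) τ
  rw [Nat.card_eq_fintype_card, ← hqdef] at hi
  have hi' : β = α ^ (q ^ i) := by
    rw [← hi α]
    exact hτ₀α.symm
  have hd1 : 1 ≤ d := hf.natDegree_pos
  -- reduce `i` modulo `d`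
  have hcard : Fintype.card (AdjoinRoot f) = q ^ d := card_adjoinRoot f hf
  have hpowd : ∀ y : AdjoinRoot f, y ^ (q ^ d) = y := by
    intro y
    have := FiniteField.pow_card y
    rw [hcard] at this
    exact this
  have hpowdt : ∀ (t : ℕ) (y : AdjoinRoot f), y ^ (q ^ (d * t)) = y := by
    intro t
    induction t with
    | zero => intro y; simp
    | succ t ih =>
      intro y
      rw [Nat.mul_succ, pow_add, pow_mul, ih, hpowd]
  set i₀ := i % d with hi₀
  have hi₀lt : i₀ < d := Nat.mod_lt _ (by omega)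
  have hR : α ^ (q ^ i₀) = α⁻¹ := by
    rw [← hβinv, hi']
    have h1 : i = d * (i / d) + i₀ := (Nat.div_add_mod i d).symm
    conv_rhs => rw [h1, pow_add, pow_mul, hpowdt]
  have h2i : α ^ (q ^ (2 * i₀)) = α := by
    rw [two_mul, pow_add, pow_mul, hR, inv_pow, hR, inv_inv]
  have hdvd : f ∣ X ^ (Nat.card F) ^ (2 * i₀) - X := by
    rw [Nat.card_eq_fintype_card, ← hqdef, ← AdjoinRoot.mk_eq_zero, map_sub, map_pow, AdjoinRoot.mk_X]
    rw [← hα, h2i, sub_self]
  have hd2 : d ∣ 2 * i₀ := hf.natDegree_dvd_of_dvd_X_pow_card_pow_sub_X hdvd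
  obtain ⟨s, hs⟩ := hd2
  have hs1 : s = 0 ∨ s = 1 := by
    rcases s with _ | _ | s
    · exact Or.inl rfl
    · exact Or.inr rfl
    · exfalso
      have : d * (s + 1 + 1) = d * s + 2 * d := by ring
      rw [this] at hs
      have h3 : 0 ≤ d * s := Nat.zero_le _
      omega
  rcases hs1 with hs0 | hs1
  · -- i₀ = 0
    left
    rw [hs0, mul_zero] at hs
    have hi0 : i₀ = 0 := by omega
    rw [hi0, pow_zero, pow_one] at hR
    have hsq : α ^ 2 = 1 := by
      rw [pow_two]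
      nth_rw 2 [hR]
      exact mul_inv_cancel₀ hα0
    rw [← AdjoinRoot.mk_eq_zero, map_sub, map_pow, AdjoinRoot.mk_X, map_one, ← hα, hsq, sub_self]
  · right
    refine ⟨i₀, by rw [hs1, mul_one] at hs; omega, ?_⟩
    rw [← AdjoinRoot.mk_eq_zero, map_sub, map_pow, AdjoinRoot.mk_X, map_one, ← hα, pow_succ, hR,
      inv_mul_cancel₀ hα0, sub_self]

/-- `ord f` divides `q ^ deg f - 1` -/
theorem ord_dvd_card (f : F[X]) (hf : Irreducible f) (hX : ¬ f ∣ X) :
    ord f ∣ Fintype.card F ^ f.natDegree - 1 := by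
  rw [← dvd_iff_ord_dvd]
  exact irr_dvd_pow_sub_one f hf hX

theorem not_dvd_X_of_dvd (f : F[X]) (hf : Irreducible f) (x : ℕ) (hx : 1 ≤ x)
    (hfx : f ∣ X ^ x - 1) : ¬ f ∣ X := by
  intro h
  have h1 : f ∣ X ^ x := dvd_pow h (by omega)
  have h2 : f ∣ 1 := by
    have := dvd_sub h1 hfx
    simpa using this
  exact hf.not_isUnit (isUnit_of_dvd_one h2)

/-- primes dividing `ord f` have `q`-order dividing the degree -/
theorem k_dvd_natDegree (f : F[X]) (hf : Irreducible f) (hX : ¬ f ∣ X) (r : ℕ)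
    (hrf : r ∣ ord f) :
    orderOf ((Fintype.card F : ℕ) : ZMod r) ∣ f.natDegree := by
  have h1 : r ∣ Fintype.card F ^ f.natDegree - 1 := hrf.trans (ord_dvd_card f hf hX)
  apply orderOf_dvd_of_pow_eq_one
  have hq1 : 1 ≤ Fintype.card F ^ f.natDegree := Nat.one_le_pow _ _ Fintype.card_pos
  have h2 : ((Fintype.card F ^ f.natDegree - 1 : ℕ) : ZMod r) = 0 :=
    (ZMod.natCast_eq_zero_iff _ _).2 h1
  rw [Nat.cast_sub hq1, Nat.cast_pow, Nat.cast_one, sub_eq_zero] at h2
  exact h2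

end Galois2

section Partner

open Matrix Polynomial Cfsg.Agent.S2512

variable {F : Type*} [Field F] {l : Type*} [Fintype l] [DecidableEq l]

theorem minpoly_dvd_pow_sub_one (M : Matrix (l ⊕ l) (l ⊕ l) F) (x : ℕ) (hMx : M ^ x = 1) :
    minpoly F M ∣ X ^ x - 1 := by
  apply minpoly.dvd
  rw [map_sub, map_pow, aeval_X, map_one, hMx, sub_self]

theorem pow_eq_one_of_minpoly_dvd (M : Matrix (l ⊕ l) (l ⊕ l) F) (j : ℕ)
    (h : minpoly F M ∣ X ^ j - 1) : M ^ j = 1 := by
  have h1 : aeval M (X ^ j - 1 : F[X]) = 0 := (minpoly.dvd_iff).1 h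
  rw [map_sub, map_pow, aeval_X, map_one, sub_eq_zero] at h1
  exact h1

theorem recip_dvd (M : Matrix (l ⊕ l) (l ⊕ l) F) (hM : M ∈ symplecticGroup l F) (x : ℕ)
    (hx1 : 1 ≤ x) (hMx : M ^ x = 1) (φ : F[X]) (h : minpoly F M ∣ φ) :
    minpoly F M ∣ φ.comp (X ^ (x - 1)) := by
  apply minpoly.dvd
  have h1 : aeval M φ = 0 := (minpoly.dvd_iff).1 h
  have h2 := adj_aeval_eq M (X ^ (x - 1)) (adj_eq_pow M hM x hx1 hMx) φ
  rw [h1, adj_zero] at h2
  exact h2.symm

theorem partner (M : Matrix (l ⊕ l) (l ⊕ l) F) (hM : M ∈ symplecticGroup l F) (x : ℕ)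
    (hx1 : 1 ≤ x) (hMx : M ^ x = 1) (f : F[X]) (hf : Irreducible f) (hfμ : f ∣ minpoly F M) :
    ∃ f' : F[X], Irreducible f' ∧ f' ∣ minpoly F M ∧ ord f' = ord f ∧
      (Associated f f' → f ∣ f.comp (X ^ (x - 1))) := by
  classical
  have : Fact (Irreducible f) := ⟨hf⟩
  have hf0 : f ≠ 0 := hf.ne_zero
  have hfin : Module.Finite F (AdjoinRoot f) := (AdjoinRoot.powerBasis hf0).finite
  set α : AdjoinRoot f := AdjoinRoot.root f with hα
  have hfx : f ∣ X ^ x - 1 := hfμ.trans (minpoly_dvd_pow_sub_one M x hMx)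
  have hαx : α ^ x = 1 := (dvd_iff_root_pow f x).1 hfx
  set β : AdjoinRoot f := α ^ (x - 1) with hβ
  have hαβ : α * β = 1 := by
    rw [hβ, ← pow_succ', Nat.sub_add_cancel hx1, hαx]
  have hα0 : α ≠ 0 := left_ne_zero_of_mul_eq_one hαβ
  have hβinv : β = α⁻¹ := eq_inv_of_mul_eq_one_right hαβ
  have hβint : IsIntegral F β := IsIntegral.of_finite F β
  refine ⟨minpoly F β, minpoly.irreducible hβint, ?_, ?_, ?_⟩
  · apply minpoly.dvd
    have h1 : f ∣ (minpoly F M).comp (X ^ (x - 1)) :=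
      hfμ.trans (recip_dvd M hM x hx1 hMx _ dvd_rfl)
    have h2 := AdjoinRoot.mk_eq_zero.2 h1
    rw [← AdjoinRoot.aeval_eq, Polynomial.aeval_comp, map_pow, aeval_X] at h2
    exact h2
  · have h1 : ord (minpoly F β) = orderOf β := by
      rw [ord, orderOf_eq_orderOf_iff]
      intro j
      rw [← dvd_iff_root_pow, minpoly.dvd_iff, map_sub, map_pow, aeval_X, map_one, sub_eq_zero]
    rw [h1, ord, ← hα]
    have h2 : orderOf β = orderOf (Units.mk0 α hα0)⁻¹ := by
      rw [← orderOf_units]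
      congr 1
    rw [h2, orderOf_inv, ← orderOf_units, Units.val_mk0]
  · intro hass
    obtain ⟨u, hu⟩ := hass.symm
    have h1 : aeval β f = 0 := by
      have h3 : aeval β f = aeval β (minpoly F β * (u : F[X])) := congrArg (aeval β) hu.symm
      rw [h3, map_mul, minpoly.aeval, zero_mul]
    rw [← AdjoinRoot.mk_eq_zero, ← AdjoinRoot.aeval_eq, Polynomial.aeval_comp, map_pow, aeval_X]
    exact h1

end Partner

section SelfRecip

open Polynomial Cfsg.Agent.S2512

variable {F : Type*} [Field F] [Fintype F]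

/-- `r ∣ q ^ d + 1` forces the order of `q` mod `r` to divide `2 d` but not `d` -/
theorem ar1 (q r d : ℕ) (hr : r.Prime) (hr2 : r ≠ 2) (h : r ∣ q ^ d + 1) :
    orderOf ((q : ℕ) : ZMod r) ∣ 2 * d ∧ ¬ orderOf ((q : ℕ) : ZMod r) ∣ d := by
  have : Fact r.Prime := ⟨hr⟩
  have h1 : ((q : ZMod r)) ^ d = -1 := by
    have h2 : ((q ^ d + 1 : ℕ) : ZMod r) = 0 := (ZMod.natCast_eq_zero_iff _ _).2 h
    rw [Nat.cast_add, Nat.cast_pow, Nat.cast_one] at h2
    exact eq_neg_of_add_eq_zero_left h2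
  constructor
  · apply orderOf_dvd_of_pow_eq_one
    rw [mul_comm, pow_mul, h1]
    simp
  · intro hd
    have h3 : ((q : ZMod r)) ^ d = 1 := orderOf_dvd_iff_pow_eq_one.1 hd
    rw [h1] at h3
    have h4 : ((2 : ℕ) : ZMod r) = 0 := by
      have : (2 : ZMod r) = 1 + 1 := by norm_num
      push_cast
      rw [this]
      nth_rw 1 [← h3]
      ring
    rw [ZMod.natCast_eq_zero_iff] at h4
    exact hr2 ((Nat.prime_dvd_prime_iff_eq hr Nat.prime_two).1 h4)

/-- a self-reciprocal irreducible polynomial whose root has order not dividing 2 -/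
theorem self_recip (p : ℕ) [Fact p.Prime] [CharP F p] (f : F[X]) (hf : Irreducible f)
    (x : ℕ) (hx : 1 ≤ x) (hfx : f ∣ X ^ x - 1) (hcomp : f ∣ f.comp (X ^ (x - 1)))
    (hord : ¬ ord f ∣ 2) :
    ∃ d' : ℕ, f.natDegree = 2 * d' ∧ ord f ∣ Fintype.card F ^ d' + 1 := by
  rcases irr_recip' p f hf x hx hfx hcomp with h | ⟨d', hd', h⟩
  · exact absurd ((dvd_iff_ord_dvd f 2).1 h) hord
  · exact ⟨d', hd', (dvd_iff_ord_dvd f _).1 h⟩

theorem not_self_recip (p : ℕ) [Fact p.Prime] [CharP F p] (f : F[X]) (hf : Irreducible f)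
    (x : ℕ) (hx : 1 ≤ x) (hfx : f ∣ X ^ x - 1) (r : ℕ) (hr : r.Prime) (hr2 : r ≠ 2)
    (hrf : r ∣ ord f) (hk : Odd (orderOf ((Fintype.card F : ℕ) : ZMod r))) :
    ¬ f ∣ f.comp (X ^ (x - 1)) := by
  intro hcomp
  have hord : ¬ ord f ∣ 2 := by
    intro h
    exact hr2 ((Nat.prime_dvd_prime_iff_eq hr Nat.prime_two).1 (hrf.trans h))
  obtain ⟨d', hd', h⟩ := self_recip p f hf x hx hfx hcomp hord
  obtain ⟨h1, h2⟩ := ar1 (Fintype.card F) r d' hr hr2 (hrf.trans h)
  apply h2
  have hcop : Nat.Coprime (orderOf ((Fintype.card F : ℕ) : ZMod r)) 2 :=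
    (Nat.coprime_two_right).2 hk
  exact hcop.dvd_of_dvd_mul_left h1

end SelfRecip

section NoRP

open Matrix Polynomial Cfsg.Agent.S2512

variable {F : Type*} [Field F] [Fintype F]

theorem sq_dvd_of_associated (g f μ : F[X]) (h : Associated g f) (hg : g * g ∣ μ) : f * f ∣ μ :=
  (mul_dvd_mul h.symm.dvd h.symm.dvd).trans hg

theorem no_rp (p : ℕ) [Fact p.Prime] [CharP F p] (n : ℕ) (hn : 2 ≤ n)
    (M : Matrix (Fin n ⊕ Fin n) (Fin n ⊕ Fin n) F) (hM : M ∈ symplecticGroup (Fin n) F)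
    (r : ℕ) (hr : r.Prime) (hr2 : r ≠ 2) (hrp : r ≠ p)
    (hMx : M ^ (r * p) = 1) (hord : ∀ j : ℕ, M ^ j = 1 → r * p ∣ j)
    (k ηk : ℕ) (hk : k = orderOf ((Fintype.card F : ℕ) : ZMod r))
    (hηk : (Odd k ∧ ηk = k) ∨ (Even k ∧ 2 * ηk = k)) : ηk ≤ n - 1 := by
  classical
  have hp : p.Prime := Fact.out
  have hx1 : 1 ≤ r * p := Nat.mul_pos hr.pos hp.pos
  set μ := minpoly F M with hμdef
  have hμ0 : μ ≠ 0 := minpoly.ne_zero (Matrix.isIntegral M)
  have hdeg : μ.natDegree ≤ 2 * n := minpoly_natDegree_le n M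
  have hμx : μ ∣ X ^ (r * p) - 1 := minpoly_dvd_pow_sub_one M _ hMx
  have hpow : (X ^ (r * p) - 1 : F[X]) = (X ^ r - 1) ^ p := by
    rw [sub_pow_char, ← pow_mul, one_pow]
  have hrF : ((r : ℕ) : F) ≠ 0 := by
    intro h
    rw [CharP.cast_eq_zero_iff F p r] at h
    exact hrp ((Nat.prime_dvd_prime_iff_eq hp hr).1 h).symm
  have hsep : (X ^ r - 1 : F[X]).Separable := by
    have := separable_X_pow_sub_C (F := F) (n := r) 1 hrF one_ne_zero
    rwa [map_one] at this
  -- `μ` is not squarefree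
  have hnsq : ¬ Squarefree μ := by
    intro hsq
    have h1 : μ ∣ X ^ r - 1 := hsq.isRadical p _ (by rw [← hpow]; exact hμx)
    have h2 := hord r (pow_eq_one_of_minpoly_dvd M r h1)
    have h3 := Nat.le_of_dvd hr.pos h2
    have h4 : r * 2 ≤ r * p := Nat.mul_le_mul_left _ hp.two_le
    have := hr.pos
    omega
  obtain ⟨g, hg, hgg⟩ := exists_sq_factor μ hμ0 hnsq
  -- the semisimple factor
  obtain ⟨Ψ, hΨ⟩ : (X - 1 : F[X]) ∣ X ^ r - 1 := by
    have := sub_dvd_pow_sub_pow (X : F[X]) 1 r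
    rwa [one_pow] at this
  have hcop : IsCoprime (X - 1 : F[X]) Ψ := by
    rw [hΨ] at hsep
    exact hsep.isCoprime
  have hcop' : IsCoprime ((X - 1 : F[X]) ^ p) (Ψ ^ p) := hcop.pow
  have hμab : μ ∣ (X - 1 : F[X]) ^ p * Ψ ^ p := by
    rw [← mul_pow, ← hΨ, ← hpow]
    exact hμx
  have hna : ¬ μ ∣ (X - 1 : F[X]) ^ p := by
    intro h
    rw [sub_pow_char, one_pow] at h
    have h2 := hord p (pow_eq_one_of_minpoly_dvd M p h)
    have h3 := Nat.le_of_dvd hp.pos h2
    have h4 : 2 * p ≤ r * p := Nat.mul_le_mul_right _ hr.two_le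
    have := hp.pos
    omega
  obtain ⟨f, hf, hfμ, hfΨp, hfn⟩ := exists_factor μ _ _ hμ0 hcop' hμab hna
  have hfΨ : f ∣ Ψ := hf.prime.dvd_of_dvd_pow hfΨp
  have hfr : f ∣ X ^ r - 1 := by
    rw [hΨ]
    exact dvd_mul_of_dvd_right hfΨ _
  have hf1 : ¬ f ∣ X - 1 := fun h => hfn (dvd_pow h hp.ne_zero)
  have hordf : ord f = r := by
    have h1 : ord f ∣ r := (dvd_iff_ord_dvd f r).1 hfr
    rcases (Nat.dvd_prime hr).1 h1 with h | h
    · exfalso
      apply hf1
      have := (dvd_iff_ord_dvd f 1).2 (by rw [h])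
      rwa [pow_one] at this
    · exact h
  have hX : ¬ f ∣ X := not_dvd_X_of_dvd f hf r hr.pos hfr
  have hkD : k ∣ f.natDegree := by
    rw [hk]
    exact k_dvd_natDegree f hf hX r (by rw [hordf])
  have hD1 : 1 ≤ f.natDegree := hf.natDegree_pos
  have hk1 : 1 ≤ k := by
    rcases Nat.eq_zero_or_pos k with h | h
    · rw [h, zero_dvd_iff] at hkD
      omega
    · exact h
  have hkleD : k ≤ f.natDegree := Nat.le_of_dvd hD1 hkD
  obtain ⟨f', hf', hf'μ, hord', hass⟩ := partner M hM (r * p) hx1 hMx f hf hfμ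
  have hf'r : f' ∣ X ^ r - 1 := (dvd_iff_ord_dvd f' r).2 (by rw [hord', hordf])
  have hX' : ¬ f' ∣ X := not_dvd_X_of_dvd f' hf' r hr.pos hf'r
  have hkD' : k ∣ f'.natDegree := by
    rw [hk]
    exact k_dvd_natDegree f' hf' hX' r (by rw [hord', hordf])
  have hD1' : 1 ≤ f'.natDegree := hf'.natDegree_pos
  have hkleD' : k ≤ f'.natDegree := Nat.le_of_dvd hD1' hkD'
  have hdg : 1 ≤ g.natDegree := hg.natDegree_pos
  have hg0 : g ≠ 0 := hg.ne_zero
  have hf0 : f ≠ 0 := hf.ne_zero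
  have hf'0 : f' ≠ 0 := hf'.ne_zero
  have hfμx : f ∣ X ^ (r * p) - 1 := hfμ.trans hμx
  rcases hηk with ⟨hkodd, hη⟩ | ⟨hkeven, hη⟩
  · -- `k` odd
    rw [hη]
    have hnass : ¬ Associated f f' := by
      intro h
      exact not_self_recip p f hf (r * p) hx1 hfμx r hr hr2 (by rw [hordf])
        (by rw [← hk]; exact hkodd) (hass h)
    have hcff' : IsCoprime f f' := coprime_of_not_associated f f' hf hf' hnass
    by_cases hgf : Associated g f
    · have h1 : f * f ∣ μ := sq_dvd_of_associated g f μ hgf hgg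
      have h2 : f * f * f' ∣ μ := (hcff'.mul_left hcff').mul_dvd h1 hf'μ
      have h3 := natDegree_le_of_dvd h2 hμ0
      rw [natDegree_mul (mul_ne_zero hf0 hf0) hf'0, natDegree_mul hf0 hf0] at h3
      omega
    · by_cases hgf' : Associated g f'
      · have h1 : f' * f' ∣ μ := sq_dvd_of_associated g f' μ hgf' hgg
        have h2 : f' * f' * f ∣ μ := (hcff'.symm.mul_left hcff'.symm).mul_dvd h1 hfμ
        have h3 := natDegree_le_of_dvd h2 hμ0
        rw [natDegree_mul (mul_ne_zero hf'0 hf'0) hf0, natDegree_mul hf'0 hf'0] at h3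
        omega
      · have hcgf : IsCoprime g f := coprime_of_not_associated g f hg hf hgf
        have hcgf' : IsCoprime g f' := coprime_of_not_associated g f' hg hf' hgf'
        have h1 : f * f' ∣ μ := hcff'.mul_dvd hfμ hf'μ
        have hc : IsCoprime (g * g) (f * f') :=
          (hcgf.mul_right hcgf').mul_left (hcgf.mul_right hcgf')
        have h2 : g * g * (f * f') ∣ μ := hc.mul_dvd hgg h1
        have h3 := natDegree_le_of_dvd h2 hμ0
        rw [natDegree_mul (mul_ne_zero hg0 hg0) (mul_ne_zero hf0 hf'0), natDegree_mul hg0 hg0,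
          natDegree_mul hf0 hf'0] at h3
        omega
  · -- `k` even
    by_cases hgf : Associated g f
    · have h1 : f * f ∣ μ := sq_dvd_of_associated g f μ hgf hgg
      have h3 := natDegree_le_of_dvd h1 hμ0
      rw [natDegree_mul hf0 hf0] at h3
      omega
    · have hcgf : IsCoprime g f := coprime_of_not_associated g f hg hf hgf
      have h2 : g * g * f ∣ μ := (hcgf.mul_left hcgf).mul_dvd hgg hfμ
      have h3 := natDegree_le_of_dvd h2 hμ0
      rw [natDegree_mul (mul_ne_zero hg0 hg0) hf0, natDegree_mul hg0 hg0] at h3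
      omega

end NoRP

section Final

open Matrix Polynomial Cfsg.Agent.S2512 Cfsg.Agent.Lib.Helper5.SpProj

universe u

variable {F : Type u} [Field F] [Fintype F]

/-- `r` does not divide `q` -/
theorem not_dvd_card (p : ℕ) [Fact p.Prime] [CharP F p] (r : ℕ) (hr : r.Prime) (hrp : r ≠ p) :
    ¬ r ∣ Fintype.card F := by
  obtain ⟨a, hp, ha⟩ := FiniteField.card F p
  rw [ha]
  intro h
  exact hrp ((Nat.prime_dvd_prime_iff_eq hr hp).1 (hr.dvd_of_dvd_pow h))

theorem k_pos (q r : ℕ) (hr : r.Prime) (hrq : ¬ r ∣ q) : 0 < orderOf ((q : ℕ) : ZMod r) := by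
  have : Fact r.Prime := ⟨hr⟩
  rw [orderOf_pos_iff, isOfFinOrder_iff_pow_eq_one]
  have h0 : ((q : ℕ) : ZMod r) ≠ 0 := by
    rw [Ne, ZMod.natCast_eq_zero_iff]
    exact hrq
  exact ⟨r - 1, by have := hr.two_le; omega, ZMod.pow_card_sub_one_eq_one h0⟩

theorem dvd_pow_sub_one_iff (q r j : ℕ) (hq : 1 ≤ q) :
    r ∣ q ^ j - 1 ↔ orderOf ((q : ℕ) : ZMod r) ∣ j := by
  have hq1 : 1 ≤ q ^ j := Nat.one_le_pow _ _ hq
  rw [orderOf_dvd_iff_pow_eq_one, ← ZMod.natCast_eq_zero_iff, Nat.cast_sub hq1, Nat.cast_pow,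
    Nat.cast_one, sub_eq_zero]

/-- the block carrying an element of order `r` -/
theorem hasBlock_prime (p : ℕ) [Fact p.Prime] [CharP F p] (r : ℕ) (hr : r.Prime) (hr2 : r ≠ 2)
    (hrp : r ≠ p) (k ηk : ℕ) (hk : k = orderOf ((Fintype.card F : ℕ) : ZMod r))
    (hηk : (Odd k ∧ ηk = k) ∨ (Even k ∧ 2 * ηk = k)) :
    1 ≤ ηk ∧ HasBlock.{0} F (2 * ηk) r := by
  set q := Fintype.card F with hqdef
  have hq1 : 1 ≤ q := Fintype.card_pos
  have hrq : ¬ r ∣ q := not_dvd_card p r hr hrp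
  have hk0 : 0 < k := by rw [hk]; exact k_pos q r hr hrq
  have hrodd : Odd r := hr.odd_of_ne_two hr2
  have hrk : r ∣ q ^ k - 1 := (dvd_pow_sub_one_iff q r k hq1).2 (by rw [hk])
  rcases hηk with ⟨_, hη⟩ | ⟨_, hη⟩
  · rw [hη]
    exact ⟨hk0, hasBlock_tplus' p k hk0 r hrodd hrk⟩
  · have hη1 : 1 ≤ ηk := by omega
    refine ⟨hη1, hasBlock_tminus' p ηk hη1 r hrodd ?_⟩
    have hfac : q ^ k - 1 = (q ^ ηk - 1) * (q ^ ηk + 1) := by
      rw [← hη, mul_comm 2 ηk, pow_mul]
      exact sq_sub_one_factor _ (Nat.one_le_pow _ _ hq1)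
    rw [hfac] at hrk
    rcases (hr.dvd_mul).1 hrk with h | h
    · exfalso
      have h1 := (dvd_pow_sub_one_iff q r ηk hq1).1 h
      rw [← hk] at h1
      have := Nat.le_of_dvd hη1 h1
      omega
    · exact h

theorem neg_one_eq_one_of_char_two [CharP F 2] (n : ℕ) :
    (-1 : Matrix (Fin n ⊕ Fin n) (Fin n ⊕ Fin n) F) = 1 := by
  have h1 : (-1 : F) = 1 := CharTwo.neg_eq (1 : F)
  have h2 : (-1 : Matrix (Fin n ⊕ Fin n) (Fin n ⊕ Fin n) F) =
      (-1 : F) • (1 : Matrix (Fin n ⊕ Fin n) (Fin n ⊕ Fin n) F) := by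
    rw [neg_smul, one_smul]
  rw [h2, h1, one_smul]

/-- lifting an element of order `x` with `x` odd or the characteristic `2` -/
theorem exists_lift' (p : ℕ) [Fact p.Prime] [CharP F p] (n : ℕ) (hn : 1 ≤ n) (g : Cfsg.PSp n F)
    (x : ℕ) (hx : orderOf g = x) (hpx : p = 2 ∨ Odd x) :
    ∃ A : symplecticGroup (Fin n) F,
      (A : Matrix (Fin n ⊕ Fin n) (Fin n ⊕ Fin n) F) ^ x = 1 ∧
      ∀ j : ℕ, (A : Matrix (Fin n ⊕ Fin n) (Fin n ⊕ Fin n) F) ^ j = 1 → x ∣ j := by
  obtain ⟨A₀, hA₀⟩ := QuotientGroup.mk_surjective g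
  have hgx : (QuotientGroup.mk A₀ : Cfsg.PSp n F) ^ x = 1 := by
    rw [hA₀, ← hx]; exact pow_orderOf_eq_one g
  have key : ∀ A : symplecticGroup (Fin n) F, (QuotientGroup.mk A : Cfsg.PSp n F) = g →
      ∀ j : ℕ, (A : Matrix (Fin n ⊕ Fin n) (Fin n ⊕ Fin n) F) ^ j = 1 → x ∣ j := by
    intro A hA j hj
    rw [← hx]
    apply orderOf_dvd_of_pow_eq_one
    rw [← hA, mk_pow_eq_one_iff n hn]
    exact Or.inl hj
  by_cases hp2 : p = 2
  · subst hp2
    refine ⟨A₀, ?_, key A₀ hA₀⟩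
    rcases (mk_pow_eq_one_iff n hn A₀ x).1 hgx with h | h
    · exact h
    · rw [h]; exact neg_one_eq_one_of_char_two n
  · have hxodd : Odd x := hpx.resolve_left hp2
    obtain ⟨A, hmk, hAx⟩ := exists_lift n hn A₀ x hxodd hgx
    exact ⟨A, hAx, key A (by rw [hmk, hA₀])⟩

end Final

/-- Adjacency of a prime and the characteristic in the prime graph of PSp(2n,q): let F be a finite field of characteristic p with q elements, n ≥ 2 with PSp(2n,F) simple, and let r ≠ p be an odd prime dividing the order of PSp(2n,F), with k the multiplicative order of q modulo r and η(k) = k for odd k, k/2 for even k. Then PSp(2n,F) has NO element of order r·p if and only if η(k) > n − 1. -/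
theorem result {F : Type*} [Field F] [Fintype F] (p : ℕ) [Fact p.Prime] [CharP F p] (n : ℕ) (hn : 2 ≤ n) (hsmall : n = 2 → 3 ≤ Fintype.card F)
    (r : ℕ) (hr : r.Prime) (hr2 : r ≠ 2) (hrp : r ≠ p) (hrG : r ∣ Nat.card (Cfsg.PSp n F))
    (k ηk : ℕ) (hk : k = orderOf ((Fintype.card F : ℕ) : ZMod r)) (hηk : (Odd k ∧ ηk = k) ∨ (Even k ∧ 2 * ηk = k)) :
    (r * p ∉ Set.range (orderOf : Cfsg.PSp n F → ℕ)) ↔ n - 1 < ηk := by
  have _h1 := hsmall
  have _h2 := hrG
  have hp : p.Prime := Fact.out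
  constructor
  · intro hno
    by_contra hlt
    apply hno
    obtain ⟨hη1, hb⟩ := hasBlock_prime p r hr hr2 hrp k ηk hk hηk
    have hb2 : Cfsg.Agent.S2512.HasBlock F (2 * 1) p := hasBlock_transv p
    have hb3 := hasBlock_pad2 n ηk 1 r p (by omega) hb hb2
    have hcop : Nat.Coprime r p := (Nat.coprime_primes hr hp).2 hrp
    rw [hcop.lcm_eq_mul] at hb3
    obtain ⟨g, hg⟩ := exists_order n (by omega) (r * p) hb3
    exact ⟨g, hg⟩
  · intro hlt
    rintro ⟨g, hg⟩
    have hpx : p = 2 ∨ Odd (r * p) := by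
      by_cases hp2 : p = 2
      · exact Or.inl hp2
      · exact Or.inr ((hr.odd_of_ne_two hr2).mul (hp.odd_of_ne_two hp2))
    obtain ⟨A, hAx, hAord⟩ := exists_lift' p n (by omega) g (r * p) hg hpx
    have := no_rp p n hn _ A.2 r hr hr2 hrp hAx hAord k ηk hk hηk
    omega

end Cfsg.Agent.S2472
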