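import Cfsg.Statements.S2469
import Mathlib
import Cfsg.Agent.S2472

set_option autoImplicit false
open Cfsg

namespace Cfsg.Agent.S2469

section Arith

theorem eta_le (k ηk : ℕ) (hηk : (Odd k ∧ ηk = k) ∨ (Even k ∧ 2 * ηk = k)) : ηk ≤ k := by
  rcases hηk with ⟨_, h⟩ | ⟨_, h⟩ <;> omega

theorem arithA (k l ηk ηl L : ℕ)
    (hηk : (Odd k ∧ ηk = k) ∨ (Even k ∧ 2 * ηk = k))
    (hηl : (Odd l ∧ ηl = l) ∨ (Even l ∧ 2 * ηl = l))
    (hkL : k ∣ L) (hlL : l ∣ L) (hL : 1 ≤ L) (hkl : ηk ≤ ηl) (hlt : L < ηk + ηl) :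
    ∃ t : ℕ, Odd t ∧ l = k * t := by
  have h1 : ηl ≤ l := eta_le l ηl hηl
  obtain ⟨c, hc⟩ := hlL
  have hc1 : c = 1 := by
    rcases c with _ | _ | c
    · rw [mul_zero] at hc; omega
    · rfl
    · exfalso
      have : l * (c + 1 + 1) = l * c + 2 * l := by ring
      rw [this] at hc
      have : 0 ≤ l * c := Nat.zero_le _
      omega
  rw [hc1, mul_one] at hc
  subst hc
  obtain ⟨t, ht⟩ := hkL
  refine ⟨t, ?_, ht⟩
  rcases hηl with ⟨hodd, _⟩ | ⟨_, h⟩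
  · rw [ht] at hodd
    exact (Nat.odd_mul.1 hodd).2
  · exfalso
    omega

theorem arithB (k l ηk ηl d : ℕ)
    (hηk : (Odd k ∧ ηk = k) ∨ (Even k ∧ 2 * ηk = k))
    (hηl : (Odd l ∧ ηl = l) ∨ (Even l ∧ 2 * ηl = l))
    (hk1 : k ∣ 2 * d) (hk2 : ¬ k ∣ d) (hl1 : l ∣ 2 * d) (hl2 : ¬ l ∣ d)
    (hkl : ηk ≤ ηl) (hlt : d < ηk + ηl) :
    ∃ t : ℕ, Odd t ∧ l = k * t := by
  have key : ∀ m ηm : ℕ, ((Odd m ∧ ηm = m) ∨ (Even m ∧ 2 * ηm = m)) → m ∣ 2 * d → ¬ m ∣ d →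
      2 * ηm = m ∧ ∃ a : ℕ, Odd a ∧ d = ηm * a := by
    intro m ηm hη h1 h2
    rcases hη with ⟨hodd, _⟩ | ⟨_, h⟩
    · exfalso
      apply h2
      have hcop : Nat.Coprime m 2 := (Nat.coprime_two_right).2 hodd
      exact hcop.dvd_of_dvd_mul_left h1
    · refine ⟨h, ?_⟩
      rw [← h] at h1 h2
      by_cases hη0 : ηm = 0
      · exfalso
        apply h2
        rw [hη0, mul_zero, zero_dvd_iff] at h1 ⊢
        omega
      have h3 : ηm ∣ d := (Nat.mul_dvd_mul_iff_left (by norm_num : 0 < 2)).1 h1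
      obtain ⟨a, ha⟩ := h3
      refine ⟨a, ?_, ha⟩
      rcases Nat.even_or_odd a with hev | hod
      · exfalso
        apply h2
        obtain ⟨a', ha'⟩ := hev
        exact ⟨a', by rw [ha, ha']; ring⟩
      · exact hod
  obtain ⟨hk', a, ha, hda⟩ := key k ηk hηk hk1 hk2
  obtain ⟨hl', b, hb, hdb⟩ := key l ηl hηl hl1 hl2
  have hb1 : b = 1 := by
    rcases b with _ | _ | b
    · exfalso; exact (Nat.not_odd_iff_even.2 (by decide : Even 0)) hb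
    · rfl
    · exfalso
      have : ηl * (b + 1 + 1) = ηl * b + 2 * ηl := by ring
      rw [this] at hdb
      have : 0 ≤ ηl * b := Nat.zero_le _
      omega
  rw [hb1, mul_one] at hdb
  refine ⟨a, ha, ?_⟩
  rw [← hl', ← hk', ← hdb, hda]
  ring

end Arith

section NoRS

open Matrix Polynomial Cfsg.Agent.S2512 Cfsg.Agent.S2472

variable {F : Type*} [Field F] [Fintype F]

theorem k_pos_of_dvd (k D : ℕ) (hD : 1 ≤ D) (h : k ∣ D) : 1 ≤ k ∧ k ≤ D := by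
  rcases Nat.eq_zero_or_pos k with h0 | h0
  · rw [h0, zero_dvd_iff] at h
    omega
  · exact ⟨h0, Nat.le_of_dvd hD h⟩

/-- the contribution of an irreducible factor whose root has order divisible by `r` -/
theorem contrib (p : ℕ) [Fact p.Prime] [CharP F p] (n : ℕ)
    (M : Matrix (Fin n ⊕ Fin n) (Fin n ⊕ Fin n) F) (hM : M ∈ symplecticGroup (Fin n) F)
    (x : ℕ) (hx1 : 1 ≤ x) (hMx : M ^ x = 1) (f : F[X]) (hf : Irreducible f)
    (hfμ : f ∣ minpoly F M) (r : ℕ) (hr : r.Prime) (hr2 : r ≠ 2) (hrf : r ∣ ord f)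
    (k ηk : ℕ) (hk : k = orderOf ((Fintype.card F : ℕ) : ZMod r))
    (hηk : (Odd k ∧ ηk = k) ∨ (Even k ∧ 2 * ηk = k)) :
    ∃ f' P : F[X], Irreducible f' ∧ ord f' = ord f ∧ P ∣ minpoly F M ∧ 2 * ηk ≤ P.natDegree ∧
      ∀ Q : F[X], IsCoprime Q f → IsCoprime Q f' → IsCoprime Q P := by
  classical
  have hfx : f ∣ X ^ x - 1 := hfμ.trans (minpoly_dvd_pow_sub_one M x hMx)
  have hX : ¬ f ∣ X := not_dvd_X_of_dvd f hf x hx1 hfx
  obtain ⟨f', hf', hf'μ, hord', hass⟩ := partner M hM x hx1 hMx f hf hfμ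
  have hf'x : f' ∣ X ^ x - 1 := hf'μ.trans (minpoly_dvd_pow_sub_one M x hMx)
  have hX' : ¬ f' ∣ X := not_dvd_X_of_dvd f' hf' x hx1 hf'x
  have hkD : k ∣ f.natDegree := by
    rw [hk]; exact k_dvd_natDegree f hf hX r hrf
  have hkD' : k ∣ f'.natDegree := by
    rw [hk]; exact k_dvd_natDegree f' hf' hX' r (by rw [hord']; exact hrf)
  obtain ⟨hk1, hkle⟩ := k_pos_of_dvd k _ hf.natDegree_pos hkD
  obtain ⟨_, hkle'⟩ := k_pos_of_dvd k _ hf'.natDegree_pos hkD'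
  rcases hηk with ⟨hkodd, hη⟩ | ⟨hkeven, hη⟩
  · have hnass : ¬ Associated f f' := by
      intro h
      exact not_self_recip p f hf x hx1 hfx r hr hr2 hrf (by rw [← hk]; exact hkodd) (hass h)
    have hc : IsCoprime f f' := coprime_of_not_associated f f' hf hf' hnass
    refine ⟨f', f * f', hf', hord', hc.mul_dvd hfμ hf'μ, ?_, fun Q h h' => h.mul_right h'⟩
    rw [natDegree_mul hf.ne_zero hf'.ne_zero]
    omega
  · refine ⟨f', f, hf', hord', hfμ, ?_, fun Q h _ => h⟩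
    omega

/-- a factor whose root has order divisible by both primes -/
theorem caseI (p : ℕ) [Fact p.Prime] [CharP F p] (n : ℕ)
    (M : Matrix (Fin n ⊕ Fin n) (Fin n ⊕ Fin n) F) (hM : M ∈ symplecticGroup (Fin n) F)
    (x : ℕ) (hx1 : 1 ≤ x) (hMx : M ^ x = 1) (f : F[X]) (hf : Irreducible f)
    (hfμ : f ∣ minpoly F M) (r s : ℕ) (hr : r.Prime) (hs : s.Prime) (hr2 : r ≠ 2) (hs2 : s ≠ 2)
    (hrf : r ∣ ord f) (hsf : s ∣ ord f)
    (k l ηk ηl : ℕ) (hk : k = orderOf ((Fintype.card F : ℕ) : ZMod r))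
    (hl : l = orderOf ((Fintype.card F : ℕ) : ZMod s))
    (hηk : (Odd k ∧ ηk = k) ∨ (Even k ∧ 2 * ηk = k))
    (hηl : (Odd l ∧ ηl = l) ∨ (Even l ∧ 2 * ηl = l)) (hkl : ηk ≤ ηl) (hlt : n < ηk + ηl) :
    ∃ t : ℕ, Odd t ∧ l = k * t := by
  classical
  set μ := minpoly F M with hμdef
  have hμ0 : μ ≠ 0 := minpoly.ne_zero (Matrix.isIntegral M)
  have hdeg : μ.natDegree ≤ 2 * n := minpoly_natDegree_le n M
  have hfx : f ∣ X ^ x - 1 := hfμ.trans (minpoly_dvd_pow_sub_one M x hMx)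
  have hX : ¬ f ∣ X := not_dvd_X_of_dvd f hf x hx1 hfx
  obtain ⟨f', hf', hf'μ, hord', hass⟩ := partner M hM x hx1 hMx f hf hfμ
  have hf'x : f' ∣ X ^ x - 1 := hf'μ.trans (minpoly_dvd_pow_sub_one M x hMx)
  have hX' : ¬ f' ∣ X := not_dvd_X_of_dvd f' hf' x hx1 hf'x
  have hkD : k ∣ f.natDegree := by
    rw [hk]; exact k_dvd_natDegree f hf hX r hrf
  have hlD : l ∣ f.natDegree := by
    rw [hl]; exact k_dvd_natDegree f hf hX s hsf
  have hkD' : k ∣ f'.natDegree := by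
    rw [hk]; exact k_dvd_natDegree f' hf' hX' r (by rw [hord']; exact hrf)
  have hlD' : l ∣ f'.natDegree := by
    rw [hl]; exact k_dvd_natDegree f' hf' hX' s (by rw [hord']; exact hsf)
  have hD1 : 1 ≤ f.natDegree := hf.natDegree_pos
  have hD1' : 1 ≤ f'.natDegree := hf'.natDegree_pos
  by_cases hass' : Associated f f'
  · have hord2 : ¬ ord f ∣ 2 := by
      intro h
      exact hr2 ((Nat.prime_dvd_prime_iff_eq hr Nat.prime_two).1 (hrf.trans h))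
    obtain ⟨d', hd', hdvd⟩ := self_recip p f hf x hx1 hfx (hass hass') hord2
    obtain ⟨hk1, hk2⟩ := ar1 (Fintype.card F) r d' hr hr2 (hrf.trans hdvd)
    obtain ⟨hl1, hl2⟩ := ar1 (Fintype.card F) s d' hs hs2 (hsf.trans hdvd)
    rw [← hk] at hk1 hk2
    rw [← hl] at hl1 hl2
    have h3 := natDegree_le_of_dvd hfμ hμ0
    exact arithB k l ηk ηl d' hηk hηl hk1 hk2 hl1 hl2 hkl (by omega)
  · have hc : IsCoprime f f' := coprime_of_not_associated f f' hf hf' hass'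
    have h2 : f * f' ∣ μ := hc.mul_dvd hfμ hf'μ
    have h3 := natDegree_le_of_dvd h2 hμ0
    rw [natDegree_mul hf.ne_zero hf'.ne_zero] at h3
    by_cases hDn : f.natDegree ≤ n
    · exact arithA k l ηk ηl _ hηk hηl hkD hlD hD1 hkl (by omega)
    · exact arithA k l ηk ηl _ hηk hηl hkD' hlD' hD1' hkl (by omega)

end NoRS

section NoRS2

open Matrix Polynomial Cfsg.Agent.S2512 Cfsg.Agent.S2472

variable {F : Type*} [Field F] [Fintype F]

theorem dvd_ord_of_not_dvd (f : F[X]) (r s : ℕ) (hs : s.Prime) (h1 : ord f ∣ r * s)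
    (h2 : ¬ ord f ∣ r) : s ∣ ord f := by
  by_contra hns
  have hcop : Nat.Coprime (ord f) s := ((Nat.Prime.coprime_iff_not_dvd hs).2 hns).symm
  exact h2 (hcop.dvd_of_dvd_mul_right h1)

theorem no_rs (p : ℕ) [Fact p.Prime] [CharP F p] (n : ℕ)
    (M : Matrix (Fin n ⊕ Fin n) (Fin n ⊕ Fin n) F) (hM : M ∈ symplecticGroup (Fin n) F)
    (r s : ℕ) (hr : r.Prime) (hs : s.Prime) (hr2 : r ≠ 2) (hs2 : s ≠ 2) (hrp : r ≠ p)
    (hsp : s ≠ p)
    (hMx : M ^ (r * s) = 1) (hord : ∀ j : ℕ, M ^ j = 1 → r * s ∣ j)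
    (k l ηk ηl : ℕ) (hk : k = orderOf ((Fintype.card F : ℕ) : ZMod r))
    (hl : l = orderOf ((Fintype.card F : ℕ) : ZMod s))
    (hηk : (Odd k ∧ ηk = k) ∨ (Even k ∧ 2 * ηk = k))
    (hηl : (Odd l ∧ ηl = l) ∨ (Even l ∧ 2 * ηl = l)) (hkl : ηk ≤ ηl) (hlt : n < ηk + ηl) :
    ∃ t : ℕ, Odd t ∧ l = k * t := by
  classical
  have hp : p.Prime := Fact.out
  have hx1 : 1 ≤ r * s := Nat.mul_pos hr.pos hs.pos
  set μ := minpoly F M with hμdef
  have hμ0 : μ ≠ 0 := minpoly.ne_zero (Matrix.isIntegral M)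
  have hdeg : μ.natDegree ≤ 2 * n := minpoly_natDegree_le n M
  have hμx : μ ∣ X ^ (r * s) - 1 := minpoly_dvd_pow_sub_one M _ hMx
  have hrsF : ((r * s : ℕ) : F) ≠ 0 := by
    intro h
    rw [CharP.cast_eq_zero_iff F p (r * s)] at h
    rcases (hp.dvd_mul).1 h with h | h
    · exact hrp ((Nat.prime_dvd_prime_iff_eq hp hr).1 h).symm
    · exact hsp ((Nat.prime_dvd_prime_iff_eq hp hs).1 h).symm
  have hsep : (X ^ (r * s) - 1 : F[X]).Separable := by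
    have := separable_X_pow_sub_C (F := F) (n := r * s) 1 hrsF one_ne_zero
    rwa [map_one] at this
  -- first factor
  obtain ⟨b₁, hb₁⟩ : (X ^ r - 1 : F[X]) ∣ X ^ (r * s) - 1 := by
    have := sub_dvd_pow_sub_pow ((X : F[X]) ^ r) 1 s
    rwa [one_pow, ← pow_mul] at this
  have hcop₁ : IsCoprime (X ^ r - 1 : F[X]) b₁ := by
    rw [hb₁] at hsep
    exact hsep.isCoprime
  have hna₁ : ¬ μ ∣ X ^ r - 1 := by
    intro h
    have h2 := hord r (pow_eq_one_of_minpoly_dvd M r h)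
    have h3 := Nat.le_of_dvd hr.pos h2
    have h4 : r * 2 ≤ r * s := Nat.mul_le_mul_left _ hs.two_le
    have := hr.pos
    omega
  obtain ⟨f₁, hf₁, hf₁μ, _, hf₁n⟩ :=
    exists_factor μ _ b₁ hμ0 hcop₁ (by rw [← hb₁]; exact hμx) hna₁
  have hs₁ : s ∣ ord f₁ := by
    apply dvd_ord_of_not_dvd f₁ r s hs
    · exact (dvd_iff_ord_dvd f₁ _).1 (hf₁μ.trans hμx)
    · intro h
      exact hf₁n ((dvd_iff_ord_dvd f₁ r).2 h)
  -- second factor
  obtain ⟨b₂, hb₂⟩ : (X ^ s - 1 : F[X]) ∣ X ^ (r * s) - 1 := by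
    have := sub_dvd_pow_sub_pow ((X : F[X]) ^ s) 1 r
    rwa [one_pow, ← pow_mul, mul_comm s r] at this
  have hcop₂ : IsCoprime (X ^ s - 1 : F[X]) b₂ := by
    rw [hb₂] at hsep
    exact hsep.isCoprime
  have hna₂ : ¬ μ ∣ X ^ s - 1 := by
    intro h
    have h2 := hord s (pow_eq_one_of_minpoly_dvd M s h)
    have h3 := Nat.le_of_dvd hs.pos h2
    have h4 : 2 * s ≤ r * s := Nat.mul_le_mul_right _ hr.two_le
    have := hs.pos
    omega
  obtain ⟨f₂, hf₂, hf₂μ, _, hf₂n⟩ :=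
    exists_factor μ _ b₂ hμ0 hcop₂ (by rw [← hb₂]; exact hμx) hna₂
  have hr₂ : r ∣ ord f₂ := by
    apply dvd_ord_of_not_dvd f₂ s r hr
    · rw [mul_comm s r]
      exact (dvd_iff_ord_dvd f₂ _).1 (hf₂μ.trans hμx)
    · intro h
      exact hf₂n ((dvd_iff_ord_dvd f₂ s).2 h)
  by_cases h1 : r ∣ ord f₁
  · exact caseI p n M hM (r * s) hx1 hMx f₁ hf₁ hf₁μ r s hr hs hr2 hs2 h1 hs₁ k l ηk ηl hk hl
      hηk hηl hkl hlt
  by_cases h2 : s ∣ ord f₂
  · exact caseI p n M hM (r * s) hx1 hMx f₂ hf₂ hf₂μ r s hr hs hr2 hs2 hr₂ h2 k l ηk ηl hk hl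
      hηk hηl hkl hlt
  exfalso
  obtain ⟨f₁', P₁, hf₁', ho₁, hP₁μ, hP₁d, hP₁c⟩ :=
    contrib p n M hM (r * s) hx1 hMx f₁ hf₁ hf₁μ s hs hs2 hs₁ l ηl hl hηl
  obtain ⟨f₂', P₂, hf₂', ho₂, hP₂μ, hP₂d, hP₂c⟩ :=
    contrib p n M hM (r * s) hx1 hMx f₂ hf₂ hf₂μ r hr hr2 hr₂ k ηk hk hηk
  have hne : ord f₁ ≠ ord f₂ := by
    intro h
    rw [h] at h1
    exact h1 hr₂
  have c11 : IsCoprime f₁ f₂ := coprime_of_ord_ne f₁ f₂ hf₁ hf₂ hne
  have c12 : IsCoprime f₁ f₂' := coprime_of_ord_ne f₁ f₂' hf₁ hf₂' (by rw [ho₂]; exact hne)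
  have c21 : IsCoprime f₁' f₂ := coprime_of_ord_ne f₁' f₂ hf₁' hf₂ (by rw [ho₁]; exact hne)
  have c22 : IsCoprime f₁' f₂' :=
    coprime_of_ord_ne f₁' f₂' hf₁' hf₂' (by rw [ho₁, ho₂]; exact hne)
  have hc : IsCoprime P₁ P₂ :=
    hP₂c P₁ (hP₁c f₂ c11.symm c21.symm).symm (hP₁c f₂' c12.symm c22.symm).symm
  have h3 : (P₁ * P₂).natDegree ≤ μ.natDegree := natDegree_le_of_dvd (hc.mul_dvd hP₁μ hP₂μ) hμ0
  have hP₁0 : P₁ ≠ 0 := ne_zero_of_dvd_ne_zero hμ0 hP₁μ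
  have hP₂0 : P₂ ≠ 0 := ne_zero_of_dvd_ne_zero hμ0 hP₂μ
  rw [natDegree_mul hP₁0 hP₂0] at h3
  omega

end NoRS2

section Final

open Matrix Polynomial Cfsg.Agent.S2512 Cfsg.Agent.S2472

universe u

variable {F : Type u} [Field F] [Fintype F]

theorem eta_le_n (p : ℕ) [Fact p.Prime] [CharP F p] (n : ℕ) (s : ℕ) (hs : s.Prime)
    (hsp : s ≠ p) (hsG : s ∣ Nat.card (Cfsg.PSp n F))
    (l ηl : ℕ) (hl : l = orderOf ((Fintype.card F : ℕ) : ZMod s))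
    (hηl : (Odd l ∧ ηl = l) ∨ (Even l ∧ 2 * ηl = l)) : ηl ≤ n := by
  classical
  set q := Fintype.card F with hqdef
  have hq1 : 1 ≤ q := Fintype.card_pos
  have hsq : ¬ s ∣ q := not_dvd_card p s hs hsp
  have h1 : s ∣ Nat.card (symplecticGroup (Fin n) F) :=
    hsG.trans (Subgroup.card_quotient_dvd_card _)
  rw [Cfsg.Agent.S0245.result (F := F) (q := q) rfl n] at h1
  rcases (hs.dvd_mul).1 h1 with h | h
  · exact absurd (hs.dvd_of_dvd_pow h) hsq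
  · obtain ⟨i, hi, hdvd⟩ := (Prime.dvd_finset_prod_iff hs.prime _).1 h
    rw [Finset.mem_range] at hi
    have h2 := (dvd_pow_sub_one_iff q s _ hq1).1 hdvd
    rw [← hl] at h2
    rcases hηl with ⟨hodd, hη⟩ | ⟨_, hη⟩
    · have hcop : Nat.Coprime l 2 := (Nat.coprime_two_right).2 hodd
      have h3 : l ∣ i + 1 := hcop.dvd_of_dvd_mul_left h2
      have := Nat.le_of_dvd (by omega) h3
      omega
    · rw [← hη] at h2
      have h3 : ηl ∣ i + 1 := (Nat.mul_dvd_mul_iff_left (by norm_num : 0 < 2)).1 h2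
      have := Nat.le_of_dvd (by omega) h3
      omega

/-- `r ∣ q ^ η + 1` for even `k` -/
theorem dvd_pow_add_one (q r : ℕ) (hq1 : 1 ≤ q) (hr : r.Prime) (k ηk : ℕ)
    (hk : k = orderOf ((q : ℕ) : ZMod r)) (hk0 : 0 < k) (hη : 2 * ηk = k) : r ∣ q ^ ηk + 1 := by
  have hrk : r ∣ q ^ k - 1 := (dvd_pow_sub_one_iff q r k hq1).2 (by rw [hk])
  have hη1 : 1 ≤ ηk := by omega
  have hfac : q ^ k - 1 = (q ^ ηk - 1) * (q ^ ηk + 1) := by
    rw [← hη, mul_comm 2 ηk, pow_mul]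
    exact sq_sub_one_factor _ (Nat.one_le_pow _ _ hq1)
  rw [hfac] at hrk
  rcases (hr.dvd_mul).1 hrk with h | h
  · exfalso
    have h1 := (dvd_pow_sub_one_iff q r ηk hq1).1 h
    rw [← hk] at h1
    have := Nat.le_of_dvd hη1 h1
    omega
  · exact h

/-- the block carrying an element of order `r s` when `l / k` is an odd integer -/
theorem hasBlock_rs (p : ℕ) [Fact p.Prime] [CharP F p] (r s : ℕ) (hr : r.Prime) (hs : s.Prime)
    (hr2 : r ≠ 2) (hs2 : s ≠ 2) (hrp : r ≠ p) (hsp : s ≠ p) (hrs : r ≠ s)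
    (k l ηk ηl : ℕ) (hk : k = orderOf ((Fintype.card F : ℕ) : ZMod r))
    (hl : l = orderOf ((Fintype.card F : ℕ) : ZMod s))
    (hηk : (Odd k ∧ ηk = k) ∨ (Even k ∧ 2 * ηk = k))
    (hηl : (Odd l ∧ ηl = l) ∨ (Even l ∧ 2 * ηl = l)) (t : ℕ) (ht : Odd t) (hlt : l = k * t) :
    1 ≤ ηl ∧ HasBlock.{0} F (2 * ηl) (r * s) := by
  set q := Fintype.card F with hqdef
  have hq1 : 1 ≤ q := Fintype.card_pos
  have hrq : ¬ r ∣ q := not_dvd_card p r hr hrp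
  have hsq : ¬ s ∣ q := not_dvd_card p s hs hsp
  have hk0 : 0 < k := by rw [hk]; exact k_pos q r hr hrq
  have hl0 : 0 < l := by rw [hl]; exact k_pos q s hs hsq
  have hodd : Odd (r * s) := (hr.odd_of_ne_two hr2).mul (hs.odd_of_ne_two hs2)
  have hcop : Nat.Coprime r s := (Nat.coprime_primes hr hs).2 hrs
  rcases hηl with ⟨hlodd, hη⟩ | ⟨hleven, hη⟩
  · rw [hη]
    refine ⟨hl0, hasBlock_tplus' p l hl0 (r * s) hodd ?_⟩
    apply hcop.mul_dvd_of_dvd_of_dvd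
    · rw [dvd_pow_sub_one_iff q r l hq1, ← hk, hlt]
      exact dvd_mul_right k t
    · rw [dvd_pow_sub_one_iff q s l hq1, ← hl]
  · have hη1 : 1 ≤ ηl := by omega
    refine ⟨hη1, hasBlock_tminus' p ηl hη1 (r * s) hodd ?_⟩
    have hkeven : Even k := by
      rw [hlt] at hleven
      rcases Nat.even_mul.1 hleven with h | h
      · exact h
      · exact absurd h (Nat.not_even_iff_odd.2 ht)
    have hηk' : 2 * ηk = k := by
      rcases hηk with ⟨h, _⟩ | ⟨_, h⟩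
      · exact absurd hkeven (Nat.not_even_iff_odd.2 h)
      · exact h
    have hηlk : ηl = ηk * t := by
      have : 2 * ηl = 2 * (ηk * t) := by rw [hη, hlt, ← hηk']; ring
      omega
    apply hcop.mul_dvd_of_dvd_of_dvd
    · have h1 : r ∣ q ^ ηk + 1 := dvd_pow_add_one q r hq1 hr k ηk hk hk0 hηk'
      have h2 : q ^ ηk + 1 ∣ (q ^ ηk) ^ t + 1 ^ t := Odd.nat_add_dvd_pow_add_pow _ _ ht
      rw [one_pow, ← pow_mul, ← hηlk] at h2
      exact h1.trans h2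
    · exact dvd_pow_add_one q s hq1 hs l ηl hl hl0 hη

end Final

/-- Adjacency of two odd primes in the prime graph of PSp(2n,q): let F be a finite field of characteristic p with q elements, n ≥ 2 with PSp(2n,F) simple, and let r ≠ s be odd primes different from p dividing the order of PSp(2n,F). Let k, l be the multiplicative orders of q modulo r and s, put η(m) = m for odd m and η(m) = m/2 for even m, and suppose η(k) ≤ η(l). Then PSp(2n,F) has NO element of order r·s if and only if η(k) + η(l) > n and l/k is not an odd integer. -/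
theorem result {F : Type*} [Field F] [Fintype F] (p : ℕ) [Fact p.Prime] [CharP F p] (n : ℕ) (hn : 2 ≤ n) (hsmall : n = 2 → 3 ≤ Fintype.card F)
    (r s : ℕ) (hr : r.Prime) (hs : s.Prime) (hr2 : r ≠ 2) (hs2 : s ≠ 2) (hrp : r ≠ p) (hsp : s ≠ p) (hrs : r ≠ s)
    (hrG : r ∣ Nat.card (Cfsg.PSp n F)) (hsG : s ∣ Nat.card (Cfsg.PSp n F))
    (k l ηk ηl : ℕ) (hk : k = orderOf ((Fintype.card F : ℕ) : ZMod r)) (hl : l = orderOf ((Fintype.card F : ℕ) : ZMod s))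
    (hηk : (Odd k ∧ ηk = k) ∨ (Even k ∧ 2 * ηk = k)) (hηl : (Odd l ∧ ηl = l) ∨ (Even l ∧ 2 * ηl = l)) (hkl : ηk ≤ ηl) :
    (r * s ∉ Set.range (orderOf : Cfsg.PSp n F → ℕ)) ↔ (n < ηk + ηl ∧ ¬ ∃ t : ℕ, Odd t ∧ l = k * t) := by
  have _h1 := hsmall
  have _h2 := hrG
  have hcop : Nat.Coprime r s := (Nat.coprime_primes hr hs).2 hrs
  constructor
  · intro hno
    constructor
    · by_contra hlt
      apply hno
      obtain ⟨_, hb1⟩ := Cfsg.Agent.S2472.hasBlock_prime p r hr hr2 hrp k ηk hk hηk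
      obtain ⟨_, hb2⟩ := Cfsg.Agent.S2472.hasBlock_prime p s hs hs2 hsp l ηl hl hηl
      have hb3 := Cfsg.Agent.S2472.hasBlock_pad2 n ηk ηl r s (by omega) hb1 hb2
      rw [hcop.lcm_eq_mul] at hb3
      obtain ⟨g, hg⟩ := Cfsg.Agent.S2472.exists_order n (by omega) (r * s) hb3
      exact ⟨g, hg⟩
    · rintro ⟨t, ht, hlt⟩
      apply hno
      obtain ⟨_, hb⟩ := hasBlock_rs p r s hr hs hr2 hs2 hrp hsp hrs k l ηk ηl hk hl hηk hηl t ht hlt
      have hle : ηl ≤ n := eta_le_n p n s hs hsp hsG l ηl hl hηl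
      have hb3 := Cfsg.Agent.S2472.hasBlock_pad n ηl (r * s) hle hb
      obtain ⟨g, hg⟩ := Cfsg.Agent.S2472.exists_order n (by omega) (r * s) hb3
      exact ⟨g, hg⟩
  · rintro ⟨hlt, hnt⟩ ⟨g, hg⟩
    apply hnt
    have hodd : Odd (r * s) := (hr.odd_of_ne_two hr2).mul (hs.odd_of_ne_two hs2)
    obtain ⟨A, hAx, hAord⟩ := Cfsg.Agent.S2472.exists_lift' p n (by omega) g (r * s) hg (Or.inr hodd)
    exact no_rs p n _ A.2 r s hr hs hr2 hs2 hrp hsp hAx hAord k l ηk ηl hk hl hηk hηl hkl hlt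

end Cfsg.Agent.S2469
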