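import Cfsg.Statements.S2471
import Mathlib
import Cfsg.Agent.H9.PSL2Spec

set_option autoImplicit false
open Cfsg

namespace Cfsg.Agent.S2471

open Cfsg.Agent.H9.PSL2Spec

/-- In PSL(2,q) with q odd, the characteristic p is isolated from 2 in the prime graph: for F a finite field of odd characteristic p with at least 5 elements, PSL(2,F) has no element of order 2p. -/
theorem result {F : Type*} [Field F] [Fintype F] (p : ℕ) [Fact p.Prime] [CharP F p] (hp : p ≠ 2) (h5 : 5 ≤ Fintype.card F) (g : Matrix.ProjectiveSpecialLinearGroup (Fin 2) F) :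
    orderOf g ≠ 2 * p := by
  intro ho
  have hpp : p.Prime := Fact.out
  obtain ⟨n, -, hn⟩ := FiniteField.card F p
  have hpq : p ∣ Fintype.card F := by
    rw [hn]
    exact dvd_pow_self p n.pos.ne'
  have hp1 : ¬ p ∣ 1 := fun h => hpp.one_lt.ne' (Nat.dvd_one.1 h)
  rcases exists_pow_eq_one p g with h | h | h
  · have := orderOf_dvd_of_pow_eq_one h
    rw [ho] at this
    have h2 : 2 * p ≤ p := Nat.le_of_dvd hpp.pos this
    have := hpp.pos
    omega
  · have h1 := orderOf_dvd_of_pow_eq_one h
    rw [ho] at h1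
    have h2 : p ∣ Fintype.card F - 1 :=
      (dvd_mul_left p 2).trans (h1.trans (Nat.div_dvd_of_dvd (Nat.gcd_dvd_right _ _)))
    apply hp1
    have : Fintype.card F = (Fintype.card F - 1) + 1 := by omega
    rw [this] at hpq
    exact (Nat.dvd_add_right h2).1 hpq
  · have h1 := orderOf_dvd_of_pow_eq_one h
    rw [ho] at h1
    have hd : Nat.gcd 2 (Fintype.card F - 1) ∣ Fintype.card F + 1 := by
      have h2 : Nat.gcd 2 (Fintype.card F - 1) ∣ 2 := Nat.gcd_dvd_left _ _
      have h3 : Nat.gcd 2 (Fintype.card F - 1) ∣ Fintype.card F - 1 := Nat.gcd_dvd_right _ _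
      have : Fintype.card F + 1 = (Fintype.card F - 1) + 2 := by omega
      rw [this]
      exact Nat.dvd_add h3 h2
    have h2 : p ∣ Fintype.card F + 1 :=
      (dvd_mul_left p 2).trans (h1.trans (Nat.div_dvd_of_dvd hd))
    apply hp1
    exact (Nat.dvd_add_right hpq).1 h2

end Cfsg.Agent.S2471
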