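import Cfsg.Statements.S2475
import Mathlib
import Cfsg.Agent.H9.PSL2Spec

set_option autoImplicit false
open Cfsg

namespace Cfsg.Agent.S2475

open Cfsg.Agent.H9.PSL2Spec

theorem exists_orderOf_of_dvd {G : Type*} [Group G] {N m : ℕ} (hN : 0 < N) (hm : m ∣ N)
    (h : ∃ g : G, orderOf g = N) : ∃ g : G, orderOf g = m := by
  obtain ⟨g, hg⟩ := h
  obtain ⟨c, rfl⟩ := hm
  have hc : c ≠ 0 := by
    rintro rfl
    simp at hN
  have hm0 : 0 < m := by
    rcases Nat.eq_zero_or_pos m with h0 | h0
    · subst h0; simp at hN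
    · exact h0
  refine ⟨g ^ c, ?_⟩
  rw [orderOf_pow_of_dvd hc (by rw [hg]; exact dvd_mul_left c m), hg, Nat.mul_div_cancel _ (Nat.pos_of_ne_zero hc)]

/-- The set of element orders of PSL(2,q): let F be a finite field of characteristic p with q ≥ 4 elements and d = gcd(2, q − 1). The orders of elements of PSL(2,F) are exactly the divisors of p, of (q − 1)/d and of (q + 1)/d. -/
theorem result {F : Type*} [Field F] [Fintype F] (p : ℕ) [Fact p.Prime] [CharP F p] (h4 : 4 ≤ Fintype.card F) :
    Set.range (orderOf : Matrix.ProjectiveSpecialLinearGroup (Fin 2) F → ℕ) =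
      {m : ℕ | m ∣ p ∨ m ∣ (Fintype.card F - 1) / Nat.gcd 2 (Fintype.card F - 1) ∨ m ∣ (Fintype.card F + 1) / Nat.gcd 2 (Fintype.card F - 1)} := by
  have hpp : p.Prime := Fact.out
  have hd12 := gcd_cases (Fintype.card F - 1)
  have hdq : Nat.gcd 2 (Fintype.card F - 1) ∣ Fintype.card F - 1 := Nat.gcd_dvd_right _ _
  have hdq' : Nat.gcd 2 (Fintype.card F - 1) ∣ Fintype.card F + 1 := by
    have h2 : Nat.gcd 2 (Fintype.card F - 1) ∣ 2 := Nat.gcd_dvd_left _ _
    have : Fintype.card F + 1 = (Fintype.card F - 1) + 2 := by omega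
    rw [this]
    exact Nat.dvd_add hdq h2
  ext m
  constructor
  · rintro ⟨g, rfl⟩
    rcases exists_pow_eq_one p g with h | h | h
    · left; exact orderOf_dvd_of_pow_eq_one h
    · right; left; exact orderOf_dvd_of_pow_eq_one h
    · right; right; exact orderOf_dvd_of_pow_eq_one h
  · rintro (h | h | h)
    · exact exists_orderOf_of_dvd hpp.pos h (exists_orderOf_eq_char p)
    · refine exists_orderOf_of_dvd ?_ h exists_orderOf_eq_split
      apply Nat.div_pos (Nat.le_of_dvd (by omega) hdq)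
      rcases hd12 with h1 | h1 <;> rw [h1] <;> norm_num
    · refine exists_orderOf_of_dvd ?_ h (exists_orderOf_eq_nonsplit p)
      apply Nat.div_pos (Nat.le_of_dvd (by omega) hdq')
      rcases hd12 with h1 | h1 <;> rw [h1] <;> norm_num

end Cfsg.Agent.S2475
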