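import Cfsg.Statements.S2476
import Mathlib
import Cfsg.Agent.S2366

set_option autoImplicit false
open Cfsg

namespace Cfsg.Agent.S2476

section Arith

open Cfsg.Agent.S2510

/-- arithmetic facts about `d = gcd(3, q-1)` and `t = (q-1)/d` -/
theorem gcd3m_facts (q : ℕ) (hq : 2 ≤ q) :
    Nat.gcd 3 (q - 1) * ((q - 1) / Nat.gcd 3 (q - 1)) = q - 1 ∧
    (q - 1) ∣ 3 * ((q - 1) / Nat.gcd 3 (q - 1)) ∧
    (q - 1) ∣ (q + 2) * ((q - 1) / Nat.gcd 3 (q - 1)) ∧
    (q ^ 2 - 1) / Nat.gcd 3 (q - 1) = (q + 1) * ((q - 1) / Nat.gcd 3 (q - 1)) := by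
  set d := Nat.gcd 3 (q - 1) with hd
  have hd1 : d ∣ q - 1 := Nat.gcd_dvd_right _ _
  have hd3 : d ∣ 3 := Nat.gcd_dvd_left _ _
  have hdpos : 0 < d := Nat.gcd_pos_of_pos_left _ (by norm_num)
  have h1 : d * ((q - 1) / d) = q - 1 := Nat.mul_div_cancel' hd1
  refine ⟨h1, ?_, ?_, ?_⟩
  · obtain ⟨d', hd'⟩ := hd3
    refine ⟨d', ?_⟩
    rw [hd']
    calc d * d' * ((q - 1) / d) = d' * (d * ((q - 1) / d)) := by ring
      _ = (q - 1) * d' := by rw [h1, mul_comm]
  · have h2 : d ∣ q + 2 := by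
      have := Nat.dvd_add hd1 hd3
      have e : q - 1 + 3 = q + 2 := by omega
      rwa [e] at this
    obtain ⟨d', hd'⟩ := h2
    refine ⟨d', ?_⟩
    rw [hd']
    calc d * d' * ((q - 1) / d) = d' * (d * ((q - 1) / d)) := by ring
      _ = (q - 1) * d' := by rw [h1, mul_comm]
  · have h2 : q ^ 2 - 1 = d * ((q + 1) * ((q - 1) / d)) := by
      rw [Cfsg.Agent.S2512.sq_sub_one_factor q (by omega)]
      calc (q - 1) * (q + 1) = (d * ((q - 1) / d)) * (q + 1) := by rw [h1]
        _ = d * ((q + 1) * ((q - 1) / d)) := by ring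
    rw [h2, Nat.mul_div_cancel_left _ hdpos]

theorem c1_three (q : ℕ) (hq : 2 ≤ q) :
    c1 q 3 = (q ^ 2 + q + 1) / Nat.gcd 3 (q - 1) := by
  have hN : Nn q 3 = q ^ 2 + q + 1 := by
    rw [Nn, Finset.sum_range_succ, Finset.sum_range_succ, Finset.sum_range_one]
    ring
  rw [c1, hN]
  congr 1
  have h1 : q ≡ 1 [MOD q - 1] := by
    have : 1 + (q - 1) ≡ 1 + 0 [MOD q - 1] :=
      Nat.ModEq.add_left 1 ((Nat.modEq_zero_iff_dvd).2 dvd_rfl)
    have e : 1 + (q - 1) = q := by omega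
    rwa [e] at this
  have h2 : q ^ 2 + q + 1 ≡ 1 ^ 2 + 1 + 1 [MOD q - 1] := ((h1.pow 2).add h1).add_right 1
  have h3 := h2.gcd_eq
  rw [h3]
  norm_num

theorem mul_div_gcd3 (p q : ℕ) :
    p * (q - 1) / Nat.gcd 3 (q - 1) = p * ((q - 1) / Nat.gcd 3 (q - 1)) :=
  Nat.mul_div_assoc p (Nat.gcd_dvd_right _ _)

end Arith

section Upper

open Polynomial Matrix Cfsg.Agent.S2510 Cfsg.Agent.S2511 Cfsg.Agent.S2366

variable {F : Type*} [Field F] [Fintype F]

/-- Case B: a monic quadratic irreducible factor -/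
theorem case_quad (M : Matrix (Fin 3) (Fin 3) F) (hdet : M.det = 1)
    (f : F[X]) (hf : Irreducible f) (hfm : f.Monic) (hfμ : f ∣ minpoly F M)
    (hd2 : f.natDegree = 2) :
    ∃ c : F, M ^ ((Fintype.card F + 1) *
      ((Fintype.card F - 1) / Nat.gcd 3 (Fintype.card F - 1))) =
        c • (1 : Matrix (Fin 3) (Fin 3) F) := by
  classical
  set q := Fintype.card F with hqdef
  have hq2 : 2 ≤ q := Fintype.one_lt_card
  obtain ⟨-, -, hq2t, -⟩ := gcd3m_facts q hq2
  set t := (q - 1) / Nat.gcd 3 (q - 1) with ht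
  have hmonic : (minpoly F M).Monic := minpoly.monic (Matrix.isIntegral M)
  have hμ0 : minpoly F M ≠ 0 := hmonic.ne_zero
  have hle := minpoly_natDegree_le_fin 3 M
  have : Fact (Irreducible f) := ⟨hf⟩
  -- the norm
  have hαN := root_pow_Nn f hf
  rw [← hqdef, hd2] at hαN
  have hN2 : Nn q 2 = q + 1 := by
    rw [Nn, Finset.sum_range_succ, Finset.sum_range_one]
    ring
  rw [hN2] at hαN
  set n' := Algebra.norm F (AdjoinRoot.root f) with hn'
  have hn'eq : n' = f.coeff 0 := by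
    rw [hn', norm_root f hf, hd2, hfm.leadingCoeff]
    simp
  have hfq : f ∣ X ^ (q + 1) - C n' := by
    rw [← AdjoinRoot.mk_eq_zero, map_sub, map_pow, AdjoinRoot.mk_X, AdjoinRoot.mk_C,
      ← AdjoinRoot.algebraMap_eq, hαN, sub_self]
  have hfj : f ∣ X ^ ((q + 1) * t) - C (n' ^ t) := by
    have h3 : (X ^ (q + 1) - C n' : F[X]) ∣ (X ^ (q + 1)) ^ t - (C n') ^ t :=
      sub_dvd_pow_sub_pow _ _ _
    rw [← pow_mul, ← map_pow] at h3
    exact dvd_trans hfq h3
  refine ⟨n' ^ t, ?_⟩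
  rw [pow_eq_smul_iff, ← minpoly.dvd_iff]
  obtain ⟨g, hg⟩ := hfμ
  have hgm : g.Monic := hfm.of_mul_monic_left (by rw [← hg]; exact hmonic)
  have hg0 : g ≠ 0 := hgm.ne_zero
  have hdeg : (minpoly F M).natDegree = 2 + g.natDegree := by
    rw [hg, natDegree_mul hf.ne_zero hg0, hd2]
  rcases Nat.eq_zero_or_pos g.natDegree with h0 | hpos
  · have hg1 : g = 1 := eq_one_of_monic_natDegree_zero hgm h0
    rw [hg, hg1, mul_one]
    exact hfj
  · have hg1 : g.natDegree = 1 := by omega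
    have hgform := hgm.eq_X_add_C hg1
    set b := g.coeff 0 with hb
    have hdegμ : (minpoly F M).natDegree = 3 := by rw [hdeg, hg1]
    have hd := det_eq_coeff M hdegμ
    rw [hdet, hg, hgform] at hd
    simp only [mul_coeff_zero, coeff_add, coeff_X_zero, coeff_C_zero, zero_add] at hd
    rw [← hn'eq] at hd
    have hprod : n' * (-b) = 1 := by
      rw [hd]
      ring
    have hb0 : -b ≠ 0 := by
      intro h
      rw [h, mul_zero] at hprod
      exact zero_ne_one hprod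
    have hbq : (-b) ^ (q - 1) = 1 := by
      rw [hqdef]
      exact FiniteField.pow_card_sub_one_eq_one _ hb0
    have hb2 : (-b) ^ ((q + 2) * t) = 1 := by
      obtain ⟨s, hs⟩ := hq2t
      rw [hs, pow_mul, hbq, one_pow]
    have hkey : (-b) ^ ((q + 1) * t) = n' ^ t := by
      have h1 : (-b) ^ ((q + 1) * t) * (-b) ^ t = n' ^ t * (-b) ^ t := by
        rw [← pow_add, ← mul_pow, hprod, one_pow]
        have e : (q + 1) * t + t = (q + 2) * t := by ring
        rw [e, hb2]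
      exact mul_right_cancel₀ (pow_ne_zero t hb0) h1
    have hcop : IsCoprime f g := by
      apply hf.coprime_iff_not_dvd.2
      intro h
      have := natDegree_le_of_dvd h hg0
      omega
    rw [hg]
    apply hcop.mul_dvd hfj
    rw [hgform]
    have e : (X + C b : F[X]) = X - C (-b) := by rw [map_neg, sub_neg_eq_add]
    rw [e, dvd_iff_isRoot, IsRoot.def, eval_sub, eval_pow, eval_X, eval_C, hkey, sub_self]

end Upper

section Upper2

open Polynomial Matrix Cfsg.Agent.S2510 Cfsg.Agent.S2511 Cfsg.Agent.S2366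

variable {F : Type*} [Field F] [Fintype F]

/-- Case C1: split and squarefree -/
theorem case_split_sqfree (M : Matrix (Fin 3) (Fin 3) F) (o : ℕ) (ho : 1 ≤ o) (hMo : M ^ o = 1)
    (hall : ∀ f : F[X], Irreducible f → f ∣ minpoly F M → f.natDegree = 1)
    (hsq : ∀ ν : F, ¬ (X - C ν) ^ 2 ∣ minpoly F M) :
    M ^ (Fintype.card F - 1) = (1 : F) • (1 : Matrix (Fin 3) (Fin 3) F) := by
  have hmonic : (minpoly F M).Monic := minpoly.monic (Matrix.isIntegral M)
  have hμ0 : minpoly F M ≠ 0 := hmonic.ne_zero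
  rw [pow_eq_smul_iff, ← minpoly.dvd_iff]
  apply split_sqfree_dvd _ hμ0 hall hsq
  intro ν hν
  have hν0 : ν ≠ 0 := root_ne_zero M o ho hMo ν hν
  rw [IsRoot.def, eval_sub, eval_pow, eval_X, eval_C, FiniteField.pow_card_sub_one_eq_one ν hν0,
    sub_self]

/-- Case C2a: a triple root -/
theorem case_cube (p : ℕ) [Fact p.Prime] [CharP F p] (M : Matrix (Fin 3) (Fin 3) F)
    (a : F) (ha3 : (X - C a) ^ 3 ∣ minpoly F M) (K : ℕ) (hK : 3 ≤ p ^ K) :
    ∃ c : F, M ^ (p ^ K) = c • (1 : Matrix (Fin 3) (Fin 3) F) := by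
  have hmonic : (minpoly F M).Monic := minpoly.monic (Matrix.isIntegral M)
  have hμ0 : minpoly F M ≠ 0 := hmonic.ne_zero
  have hle := minpoly_natDegree_le_fin 3 M
  have hm : ((X - C a) ^ 3 : F[X]).Monic := (monic_X_sub_C a).pow 3
  have hdeg3 : ((X - C a) ^ 3 : F[X]).natDegree = 3 := by
    rw [natDegree_pow, natDegree_X_sub_C]
  have heq : minpoly F M = (X - C a) ^ 3 :=
    eq_of_monic_of_dvd_of_natDegree_le hm hmonic ha3 (by rw [hdeg3]; exact hle)
  refine ⟨a ^ (p ^ K), ?_⟩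
  rw [pow_eq_smul_iff, ← minpoly.dvd_iff, heq]
  have h1 : (X - C a : F[X]) ∣ X ^ 1 - C a := by rw [pow_one]
  have h2 := pow_dvd_of_dvd p (X - C a) 1 a h1 3 K hK
  rwa [one_mul] at h2

/-- Case C2b: a double (not triple) root, everything split -/
theorem case_double (p : ℕ) [Fact p.Prime] [CharP F p] (M : Matrix (Fin 3) (Fin 3) F)
    (hdet : M.det = 1) (o : ℕ) (ho : 1 ≤ o) (hMo : M ^ o = 1)
    (hall : ∀ f : F[X], Irreducible f → f ∣ minpoly F M → f.natDegree = 1)
    (lam : F) (hlam2 : (X - C lam) ^ 2 ∣ minpoly F M) (hlam3 : ¬ (X - C lam) ^ 3 ∣ minpoly F M) :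
    ∃ c : F, M ^ (p * ((Fintype.card F - 1) / Nat.gcd 3 (Fintype.card F - 1))) =
      c • (1 : Matrix (Fin 3) (Fin 3) F) := by
  have hp : p.Prime := Fact.out
  have hp2 : 2 ≤ p := hp.two_le
  set q := Fintype.card F with hqdef
  have hq2 : 2 ≤ q := Fintype.one_lt_card
  have hmonic : (minpoly F M).Monic := minpoly.monic (Matrix.isIntegral M)
  have hμ0 : minpoly F M ≠ 0 := hmonic.ne_zero
  have hle := minpoly_natDegree_le_fin 3 M
  obtain ⟨-, h3t, -, -⟩ := gcd3m_facts q hq2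
  set t := (q - 1) / Nat.gcd 3 (q - 1) with ht
  have hlam1 : (X - C lam) ∣ minpoly F M := dvd_trans (dvd_pow_self _ (by norm_num)) hlam2
  have hlam0 : lam ≠ 0 := root_ne_zero M o ho hMo lam hlam1
  have hlamq : lam ^ (q - 1) = 1 := by
    rw [hqdef]
    exact FiniteField.pow_card_sub_one_eq_one lam hlam0
  have hlam3' : lam ^ (3 * (p * t)) = 1 := by
    obtain ⟨s, hs⟩ := h3t
    have e : 3 * (p * t) = (q - 1) * (s * p) := by
      calc 3 * (p * t) = (3 * t) * p := by ring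
        _ = (q - 1) * s * p := by rw [hs]
        _ = (q - 1) * (s * p) := by ring
    rw [e, pow_mul, hlamq, one_pow]
  refine ⟨lam ^ (p * t), ?_⟩
  rw [pow_eq_smul_iff, ← minpoly.dvd_iff]
  apply dvd_of_forall_prime_pow _ _ hμ0
  intro f e hf hfe
  rcases Nat.eq_zero_or_pos e with h0 | hpos
  · rw [h0, pow_zero]
    exact one_dvd _
  have hfμ : f ∣ minpoly F M := dvd_trans (dvd_pow_self f (by omega)) hfe
  obtain ⟨k, ν, hk, hfk⟩ := linear_form f (hall f hf hfμ)
  have hunit : IsUnit (C k : F[X]) := Polynomial.isUnit_C.2 hk.isUnit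
  have hνe : (X - C ν) ^ e ∣ minpoly F M := by
    rw [hfk, mul_pow] at hfe
    exact dvd_trans (dvd_mul_left _ _) hfe
  rw [hfk, mul_pow]
  apply (IsUnit.mul_left_dvd (hunit.pow e)).2
  by_cases hνl : ν = lam
  · rw [hνl]
    have he2 : e ≤ 2 := by
      by_contra hcon
      apply hlam3
      rw [hνl] at hνe
      exact dvd_trans (pow_dvd_pow _ (by omega)) hνe
    have h1 : (X - C lam : F[X]) ∣ X ^ 1 - C lam := by rw [pow_one]
    have h2 := pow_dvd_of_dvd p (X - C lam) 1 lam h1 e 1 (by rw [pow_one]; omega)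
    rw [one_mul, pow_one] at h2
    have h3 : (X ^ p - C (lam ^ p) : F[X]) ∣ (X ^ p) ^ t - (C (lam ^ p)) ^ t :=
      sub_dvd_pow_sub_pow _ _ _
    rw [← pow_mul, ← map_pow, ← pow_mul] at h3
    exact dvd_trans h2 h3
  · have c1 : IsCoprime (X - C lam) (X - C ν) :=
      isCoprime_X_sub_C_of_isUnit_sub (sub_ne_zero.2 (Ne.symm hνl)).isUnit
    have c2 : IsCoprime ((X - C lam) ^ 2) ((X - C ν) ^ e) := c1.pow
    have d1 := c2.mul_dvd hlam2 hνe
    have hdegP : (((X - C lam) ^ 2 * (X - C ν) ^ e : F[X])).natDegree = 2 + e := by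
      rw [natDegree_mul (pow_ne_zero _ (X_sub_C_ne_zero _)) (pow_ne_zero _ (X_sub_C_ne_zero _)),
        natDegree_pow, natDegree_pow, natDegree_X_sub_C, natDegree_X_sub_C, mul_one, mul_one]
    have h4 := natDegree_le_of_dvd d1 hμ0
    rw [hdegP] at h4
    have he1 : e = 1 := by omega
    rw [he1, pow_one] at d1 hdegP ⊢
    have hm : ((X - C lam) ^ 2 * (X - C ν) : F[X]).Monic :=
      ((monic_X_sub_C lam).pow 2).mul (monic_X_sub_C ν)
    have heq : minpoly F M = (X - C lam) ^ 2 * (X - C ν) :=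
      eq_of_monic_of_dvd_of_natDegree_le hm hmonic d1 (by rw [hdegP]; exact hle)
    have hdegμ : (minpoly F M).natDegree = 3 := by rw [heq, hdegP]
    have hd := det_eq_coeff M hdegμ
    rw [hdet, heq, pow_two] at hd
    simp only [mul_coeff_zero, coeff_sub, coeff_X_zero, coeff_C_zero, zero_sub] at hd
    have hprod : lam * lam * ν = 1 := by
      rw [hd]
      ring
    rw [dvd_iff_isRoot, IsRoot.def, eval_sub, eval_pow, eval_X, eval_C, sub_eq_zero]
    have h5 : ν ^ (p * t) * (lam ^ (p * t) * lam ^ (p * t)) =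
        lam ^ (p * t) * (lam ^ (p * t) * lam ^ (p * t)) := by
      have e1 : ν ^ (p * t) * (lam ^ (p * t) * lam ^ (p * t)) = (lam * lam * ν) ^ (p * t) := by
        rw [mul_pow, mul_pow]
        ring
      have e2 : lam ^ (p * t) * (lam ^ (p * t) * lam ^ (p * t)) = lam ^ (3 * (p * t)) := by
        rw [← pow_add, ← pow_add]
        congr 1
        ring
      rw [e1, e2, hprod, one_pow, hlam3']
    exact mul_right_cancel₀ (mul_ne_zero (pow_ne_zero _ hlam0) (pow_ne_zero _ hlam0)) h5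

/-- the upper bound -/
theorem upper (p : ℕ) [Fact p.Prime] [CharP F p] (A : Matrix.SpecialLinearGroup (Fin 3) F) :
    orderOf (QuotientGroup.mk A : Matrix.ProjectiveSpecialLinearGroup (Fin 3) F) ∣
        (Fintype.card F ^ 2 + Fintype.card F + 1) / Nat.gcd 3 (Fintype.card F - 1) ∨
    orderOf (QuotientGroup.mk A : Matrix.ProjectiveSpecialLinearGroup (Fin 3) F) ∣
        (Fintype.card F ^ 2 - 1) / Nat.gcd 3 (Fintype.card F - 1) ∨
    orderOf (QuotientGroup.mk A : Matrix.ProjectiveSpecialLinearGroup (Fin 3) F) ∣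
        Fintype.card F - 1 ∨
    orderOf (QuotientGroup.mk A : Matrix.ProjectiveSpecialLinearGroup (Fin 3) F) ∣
        p * (Fintype.card F - 1) / Nat.gcd 3 (Fintype.card F - 1) ∨
    (p = 2 ∧ orderOf (QuotientGroup.mk A : Matrix.ProjectiveSpecialLinearGroup (Fin 3) F) ∣ 4) := by
  classical
  have hp : p.Prime := Fact.out
  set q := Fintype.card F with hqdef
  have hq2 : 2 ≤ q := Fintype.one_lt_card
  obtain ⟨-, -, -, hq21⟩ := gcd3m_facts q hq2
  set M : Matrix (Fin 3) (Fin 3) F := A.1 with hMdef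
  have hdet : M.det = 1 := A.2
  have hmonic : (minpoly F M).Monic := minpoly.monic (Matrix.isIntegral M)
  have hμ0 : minpoly F M ≠ 0 := hmonic.ne_zero
  have hle := minpoly_natDegree_le_fin 3 M
  have ho : 1 ≤ orderOf A := orderOf_pos A
  have hMo : M ^ (orderOf A) = 1 := by
    rw [hMdef, ← Matrix.SpecialLinearGroup.coe_pow, pow_orderOf_eq_one]
    rfl
  by_cases h3 : ∃ f : F[X], Irreducible f ∧ f ∣ minpoly F M ∧ f.natDegree = 3
  · left
    obtain ⟨f, hf, hfμ, hd3⟩ := h3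
    obtain ⟨w, hw⟩ := hfμ
    have hw0 : w ≠ 0 := by
      rintro rfl
      rw [mul_zero] at hw
      exact hμ0 hw
    have hdegμ : (minpoly F M).natDegree = 3 := by
      have := congrArg natDegree hw
      rw [natDegree_mul hf.ne_zero hw0, hd3] at this
      omega
    have hwdeg : w.natDegree = 0 := by
      have := congrArg natDegree hw
      rw [natDegree_mul hf.ne_zero hw0, hd3] at this
      omega
    have hwu : IsUnit w := by
      rw [eq_C_of_natDegree_eq_zero hwdeg]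
      apply Polynomial.isUnit_C.2
      rw [isUnit_iff_ne_zero]
      intro h0
      apply hw0
      rw [eq_C_of_natDegree_eq_zero hwdeg, h0, map_zero]
    have hirr : Irreducible (minpoly F A.1) := by
      rw [← hMdef, hw]
      exact (irreducible_mul_isUnit hwu).2 hf
    have := case_irred p 3 (by norm_num) A hirr hdegμ
    rw [← hqdef, c1_three q hq2] at this
    exact this
  by_cases h2 : ∃ f : F[X], Irreducible f ∧ f ∣ minpoly F M ∧ f.natDegree = 2
  · right; left
    obtain ⟨f, hf, hfμ, hd2⟩ := h2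
    have hf0 : f ≠ 0 := hf.ne_zero
    have hlc : IsUnit (C f.leadingCoeff⁻¹ : F[X]) :=
      Polynomial.isUnit_C.2 (inv_ne_zero (leadingCoeff_ne_zero.2 hf0)).isUnit
    obtain ⟨c, hc⟩ := case_quad M hdet (f * C f.leadingCoeff⁻¹)
      ((irreducible_mul_isUnit hlc).2 hf) (monic_mul_leadingCoeff_inv hf0)
      ((IsUnit.mul_right_dvd hlc).2 hfμ) (by rw [natDegree_mul_leadingCoeff_inv f hf0, hd2])
    rw [hq21]
    exact dvd_of_pow_scalar 3 A _ c hc
  have hall : ∀ f : F[X], Irreducible f → f ∣ minpoly F M → f.natDegree = 1 := by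
    intro f hf hfμ
    have h1 : 1 ≤ f.natDegree := hf.natDegree_pos
    have h4 : f.natDegree ≤ 3 := le_trans (natDegree_le_of_dvd hfμ hμ0) hle
    by_contra hne
    rcases (show f.natDegree = 2 ∨ f.natDegree = 3 by omega) with h | h
    · exact h2 ⟨f, hf, hfμ, h⟩
    · exact h3 ⟨f, hf, hfμ, h⟩
  by_cases hsq : ∃ a : F, (X - C a) ^ 2 ∣ minpoly F M
  · obtain ⟨a, ha2⟩ := hsq
    by_cases hcube : (X - C a) ^ 3 ∣ minpoly F M
    · by_cases hp2 : p = 2
      · right; right; right; right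
        refine ⟨hp2, ?_⟩
        obtain ⟨c, hc⟩ := case_cube p M a hcube 2 (by rw [hp2]; norm_num)
        rw [hp2] at hc
        exact dvd_of_pow_scalar 3 A _ c hc
      · right; right; right; left
        have hp3 : 3 ≤ p := by
          have := hp.two_le
          omega
        obtain ⟨c, hc⟩ := case_cube p M a hcube 1 (by rw [pow_one]; exact hp3)
        rw [pow_one] at hc
        rw [mul_div_gcd3]
        exact dvd_trans (dvd_of_pow_scalar 3 A _ c hc) (dvd_mul_right _ _)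
    · right; right; right; left
      obtain ⟨c, hc⟩ := case_double p M hdet _ ho hMo hall a ha2 hcube
      rw [mul_div_gcd3]
      exact dvd_of_pow_scalar 3 A _ c hc
  · right; right; left
    have hsq' : ∀ ν : F, ¬ (X - C ν) ^ 2 ∣ minpoly F M := by
      intro ν h
      exact hsq ⟨ν, h⟩
    exact dvd_of_pow_scalar 3 A _ 1 (case_split_sqfree M _ ho hMo hall hsq')

end Upper2

section Lower

open Polynomial Matrix Cfsg.Agent.S2510 Cfsg.Agent.S2511 Cfsg.Agent.S2366

variable {F : Type*} [Field F] [Fintype F]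

omit [Fintype F] in
theorem exists_dvd_of_matrix {ι : Type*} [Fintype ι] [DecidableEq ι] (n : ℕ) (hn : 1 ≤ n)
    (hcard : Fintype.card ι = n) (B₀ : Matrix ι ι F) (D : ℕ) (hdet : B₀.det = 1)
    (hproj : ∀ (j : ℕ) (c : F), B₀ ^ j = c • (1 : Matrix ι ι F) → D ∣ j) :
    ∃ g : Matrix.ProjectiveSpecialLinearGroup (Fin n) F, D ∣ orderOf g := by
  classical
  let e : ι ≃ Fin n := Fintype.equivFinOfCardEq hcard
  let g₀ : Matrix.SpecialLinearGroup (Fin n) F :=
    ⟨Matrix.reindexAlgEquiv F F e B₀, by rw [Matrix.det_reindexAlgEquiv, hdet]⟩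
  have hg₀ : ∀ j : ℕ, ((g₀ ^ j : Matrix.SpecialLinearGroup (Fin n) F) :
      Matrix (Fin n) (Fin n) F) = Matrix.reindexAlgEquiv F F e (B₀ ^ j) := by
    intro j
    rw [Matrix.SpecialLinearGroup.coe_pow, map_pow]
  refine ⟨(QuotientGroup.mk g₀ : Matrix.ProjectiveSpecialLinearGroup (Fin n) F), ?_⟩
  have hj := pow_orderOf_eq_one (QuotientGroup.mk g₀ : Matrix.ProjectiveSpecialLinearGroup (Fin n) F)
  obtain ⟨c, _, hc⟩ := Cfsg.Agent.S2364.pow_central n hn g₀ _ hj
  rw [← Matrix.SpecialLinearGroup.coe_pow, hg₀] at hc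
  apply hproj _ c
  apply (Matrix.reindexAlgEquiv F F e).injective
  rw [hc, map_smul, map_one]

theorem exists_gen_F :
    ∃ a : F, a ≠ 0 ∧ ∀ j : ℕ, a ^ j = 1 ↔ (Fintype.card F - 1) ∣ j := by
  obtain ⟨ζ, hζ⟩ := IsCyclic.exists_generator (α := Fˣ)
  have hord : orderOf ζ = Fintype.card F - 1 := by
    rw [orderOf_eq_card_of_forall_mem_zpowers hζ, Nat.card_units, Nat.card_eq_fintype_card]
  refine ⟨(ζ : F), Units.ne_zero ζ, ?_⟩
  intro j
  rw [← Units.val_pow_eq_pow_val, Units.val_eq_one, ← orderOf_dvd_iff_pow_eq_one, hord]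

/-- element of order `q - 1` -/
theorem mem_qm1 :
    ∃ g : Matrix.ProjectiveSpecialLinearGroup (Fin 3) F, (Fintype.card F - 1) ∣ orderOf g := by
  classical
  obtain ⟨a, ha0, ha⟩ := exists_gen_F (F := F)
  apply exists_dvd_of_matrix (ι := Fin 3) 3 (by norm_num) (Fintype.card_fin 3)
    (Matrix.diagonal ![a, a⁻¹, 1])
  · rw [Matrix.det_diagonal, Fin.prod_univ_three]
    simp [ha0]
  · intro j c h
    rw [Matrix.diagonal_pow] at h
    have h0 := congrFun (congrFun h 0) 0
    have h2 := congrFun (congrFun h 2) 2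
    simp at h0 h2
    rw [← ha, h0, h2]

end Lower

section Lower2

open Polynomial Matrix Cfsg.Agent.S2510 Cfsg.Agent.S2511 Cfsg.Agent.S2366

variable {F : Type*} [Field F] [Fintype F]

omit [Fintype F] in
theorem J2_pow (j : ℕ) : (!![1, 1; 0, 1] : Matrix (Fin 2) (Fin 2) F) ^ j = !![1, (j : F); 0, 1] := by
  induction j with
  | zero =>
    rw [pow_zero, Matrix.one_fin_two]
    simp
  | succ j ih =>
    rw [pow_succ, ih, Matrix.mul_fin_two]
    simp [add_comm]

/-- element of order `p (q-1)/d` -/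
theorem mem_pt (p : ℕ) [Fact p.Prime] [CharP F p] :
    ∃ g : Matrix.ProjectiveSpecialLinearGroup (Fin 3) F,
      p * ((Fintype.card F - 1) / Nat.gcd 3 (Fintype.card F - 1)) ∣ orderOf g := by
  classical
  have hp : p.Prime := Fact.out
  set q := Fintype.card F with hqdef
  have hq2 : 2 ≤ q := Fintype.one_lt_card
  have hpq : p ∣ q := char_dvd_card p
  obtain ⟨a, ha0, ha⟩ := exists_gen_F (F := F)
  rw [← hqdef] at ha
  apply exists_dvd_of_matrix (ι := Fin 2 ⊕ Fin 1) 3 (by norm_num)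
    (by rw [Fintype.card_sum, Fintype.card_fin, Fintype.card_fin])
    (Matrix.fromBlocks (a • (!![1, 1; 0, 1] : Matrix (Fin 2) (Fin 2) F)) 0 0
      ((a⁻¹) ^ 2 • (1 : Matrix (Fin 1) (Fin 1) F)))
  · rw [Matrix.det_fromBlocks_zero₁₂, Matrix.det_smul, Matrix.det_smul, Matrix.det_one,
      Matrix.det_fin_two_of, Fintype.card_fin, Fintype.card_fin]
    field_simp
    ring
  · intro j c h
    rw [Cfsg.Agent.S2468.fromBlocks_pow', Cfsg.Agent.S2468.fromBlocks_eq_smul_one] at h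
    obtain ⟨h1, h2⟩ := h
    rw [_root_.smul_pow, J2_pow] at h1
    have h01 := congrFun (congrFun h1 0) 1
    have h00 := congrFun (congrFun h1 0) 0
    simp at h01 h00
    rw [_root_.smul_pow, one_pow] at h2
    have h22 := congrFun (congrFun h2 0) 0
    simp at h22
    have hpj : p ∣ j := by
      rcases h01 with ⟨h, _⟩ | h
      · exact absurd h ha0
      · exact (CharP.cast_eq_zero_iff F p j).1 h
    have h3 : a ^ (j * 3) = 1 := by
      have e : a ^ (j * 3) = a ^ j * (a ^ 2) ^ j := by ring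
      rw [e, h00, ← h22]
      exact inv_mul_cancel₀ (pow_ne_zero _ (pow_ne_zero _ ha0))
    have h4 : (q - 1) ∣ j * 3 := (ha _).1 h3
    have h5 := (dvd_mul_iff_div_gcd (q - 1) 3 j (by omega)).1 h4
    rw [Nat.gcd_comm] at h5
    have hcop : Nat.Coprime p ((q - 1) / Nat.gcd 3 (q - 1)) := by
      have h6 : Nat.Coprime p (q - 1) := by
        rw [Nat.Prime.coprime_iff_not_dvd hp]
        intro h
        have h7 : p ∣ q - (q - 1) := Nat.dvd_sub hpq h
        have h8 : q - (q - 1) = 1 := by omega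
        rw [h8] at h7
        exact hp.one_lt.ne' (Nat.dvd_one.1 h7)
      exact Nat.Coprime.coprime_dvd_right (Nat.div_dvd_of_dvd (Nat.gcd_dvd_right _ _)) h6
    exact hcop.mul_dvd_of_dvd_of_dvd hpj h5

end Lower2

section Lower3

open Polynomial Matrix Cfsg.Agent.S2510 Cfsg.Agent.S2511 Cfsg.Agent.S2366

variable {F : Type*} [Field F] [Fintype F]

theorem gcd_sq_sub_one (q : ℕ) (hq : 2 ≤ q) :
    Nat.gcd (q ^ 2 - 1) (q + 2) = Nat.gcd 3 (q - 1) := by
  have h1 : q ^ 2 - 1 = (q + 2) * (q - 2) + 3 := by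
    obtain ⟨s, rfl⟩ : ∃ s, q = s + 2 := ⟨q - 2, by omega⟩
    have : (s + 2) ^ 2 = (s + 2 + 2) * s + 4 := by ring
    simp only [Nat.add_sub_cancel]
    omega
  have h2 : q ^ 2 - 1 ≡ 3 [MOD q + 2] := by
    rw [h1]
    have : (q + 2) * (q - 2) + 3 ≡ 0 + 3 [MOD q + 2] :=
      Nat.ModEq.add_right 3 ((Nat.modEq_zero_iff_dvd).2 (dvd_mul_right _ _))
    simpa using this
  rw [h2.gcd_eq]
  have e : q + 2 = (q - 1) + 3 := by omega
  rw [e, Nat.gcd_add_self_right]

/-- element of order `(q^2-1)/d` -/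
theorem mem_q2 (p : ℕ) [Fact p.Prime] [CharP F p] :
    ∃ g : Matrix.ProjectiveSpecialLinearGroup (Fin 3) F,
      (Fintype.card F ^ 2 - 1) / Nat.gcd 3 (Fintype.card F - 1) ∣ orderOf g := by
  classical
  have hp : p.Prime := Fact.out
  set q := Fintype.card F with hqdef
  have hq2 : 2 ≤ q := Fintype.one_lt_card
  have : NeZero 2 := ⟨by norm_num⟩
  let K := FiniteField.Extension F p 2
  have hfr : Module.finrank F K = 2 := FiniteField.finrank_extension F p 2
  have hcardK : Nat.card K = q ^ 2 := by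
    rw [FiniteField.natCard_extension, Nat.card_eq_fintype_card]
  have hfac := Cfsg.Agent.S2512.sq_sub_one_factor q (by omega)
  obtain ⟨ζ, hζ⟩ := IsCyclic.exists_generator (α := Kˣ)
  have hordζ : orderOf ζ = q ^ 2 - 1 := by
    rw [orderOf_eq_card_of_forall_mem_zpowers hζ, Nat.card_units, hcardK]
  let b : Module.Basis (Fin 2) F K := Module.finBasisOfFinrankEq F K hfr
  let ψ : K →ₐ[F] Matrix (Fin 2) (Fin 2) F := Algebra.leftMulMatrix b
  set z : K := (ζ : K) with hz
  have hz0 : z ≠ 0 := Units.ne_zero ζ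
  have hzpow : ∀ k : ℕ, z ^ k = 1 ↔ (q ^ 2 - 1) ∣ k := by
    intro k
    rw [hz, ← Units.val_pow_eq_pow_val, Units.val_eq_one, ← orderOf_dvd_iff_pow_eq_one, hordζ]
  set n := Algebra.norm F z with hn
  have hnz : algebraMap F K n = z ^ (q + 1) := by
    rw [hn, FiniteField.algebraMap_norm_eq_pow, hcardK, Nat.card_eq_fintype_card, ← hqdef, hfac,
      Nat.mul_div_cancel_left _ (by omega : 0 < q - 1)]
  have hn0 : n ≠ 0 := by
    intro h0
    rw [h0, map_zero] at hnz
    exact pow_ne_zero _ hz0 hnz.symm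
  have hdetψ : (ψ z).det = n := by
    rw [hn, Algebra.norm_eq_matrix_det b]
  have hinj : Function.Injective ψ := ψ.toRingHom.injective
  have hsc : ∀ c : F, ψ (algebraMap F K c) = c • (1 : Matrix (Fin 2) (Fin 2) F) := by
    intro c
    rw [AlgHom.commutes, Algebra.algebraMap_eq_smul_one]
  apply exists_dvd_of_matrix (ι := Fin 2 ⊕ Fin 1) 3 (by norm_num)
    (by rw [Fintype.card_sum, Fintype.card_fin, Fintype.card_fin])
    (Matrix.fromBlocks (ψ z) 0 0 (n⁻¹ • (1 : Matrix (Fin 1) (Fin 1) F)))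
  · rw [Matrix.det_fromBlocks_zero₁₂, hdetψ, Matrix.det_smul, Matrix.det_one, Fintype.card_fin,
      pow_one, mul_one, mul_inv_cancel₀ hn0]
  · intro j c h
    rw [Cfsg.Agent.S2468.fromBlocks_pow', Cfsg.Agent.S2468.fromBlocks_eq_smul_one] at h
    obtain ⟨h1, h2⟩ := h
    rw [← map_pow, ← hsc] at h1
    have h1' : z ^ j = algebraMap F K c := hinj h1
    rw [_root_.smul_pow, one_pow] at h2
    have h22 := congrFun (congrFun h2 0) 0
    simp only [Matrix.smul_apply, Matrix.one_apply_eq, smul_eq_mul, mul_one] at h22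
    have h3 : z ^ (j * (q + 2)) = 1 := by
      have e : z ^ (j * (q + 2)) = z ^ j * (z ^ (q + 1)) ^ j := by ring
      rw [e, h1', ← hnz, ← map_pow, ← map_mul, ← h22, ← mul_pow, inv_mul_cancel₀ hn0, one_pow,
        map_one]
    have h4 := (hzpow _).1 h3
    have h5 := (dvd_mul_iff_div_gcd (q ^ 2 - 1) (q + 2) j (by
      have : 4 ≤ q ^ 2 := by nlinarith
      omega)).1 h4
    rwa [gcd_sq_sub_one q hq2] at h5

/-- element of order `4` when `p = 2` -/
theorem mem_four (hchar : CharP F 2) :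
    ∃ g : Matrix.ProjectiveSpecialLinearGroup (Fin 3) F, 4 ∣ orderOf g := by
  classical
  have h2 : (2 : F) = 0 := by
    have := (CharP.cast_eq_zero_iff F 2 2).2 dvd_rfl
    simpa using this
  have h11 : (1 : F) + 1 = 0 := by
    rw [one_add_one_eq_two]
    exact h2
  set B : Matrix (Fin 3) (Fin 3) F := !![1, 1, 0; 0, 1, 1; 0, 0, 1] with hB
  have hdet : B.det = 1 := by
    rw [hB, Matrix.det_fin_three]
    simp
  have hB2 : B ^ 2 = !![1, 0, 1; 0, 1, 0; 0, 0, 1] := by
    rw [pow_two, hB]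
    ext i j
    fin_cases i <;> fin_cases j <;> simp [Matrix.mul_apply, Fin.sum_univ_three, h11]
  have hB4 : B ^ 4 = 1 := by
    have e : B ^ 4 = B ^ 2 * B ^ 2 := by rw [← pow_add]
    rw [e, hB2]
    ext i j
    fin_cases i <;> fin_cases j <;> simp [Matrix.mul_apply, Fin.sum_univ_three, h11]
  let g₀ : Matrix.SpecialLinearGroup (Fin 3) F := ⟨B, hdet⟩
  refine ⟨(QuotientGroup.mk g₀ : Matrix.ProjectiveSpecialLinearGroup (Fin 3) F), ?_⟩
  have h4 : (QuotientGroup.mk g₀ : Matrix.ProjectiveSpecialLinearGroup (Fin 3) F) ^ 4 = 1 := by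
    rw [← QuotientGroup.mk_pow]
    have : g₀ ^ 4 = 1 := by
      apply Subtype.ext
      rw [Matrix.SpecialLinearGroup.coe_pow]
      exact hB4
    rw [this]
    rfl
  have hnot2 : (QuotientGroup.mk g₀ : Matrix.ProjectiveSpecialLinearGroup (Fin 3) F) ^ 2 ≠ 1 := by
    intro h
    obtain ⟨c, -, hc⟩ := Cfsg.Agent.S2364.pow_central 3 (by norm_num) g₀ 2 h
    change B ^ 2 = _ at hc
    rw [hB2] at hc
    have h02 := congrFun (congrFun hc 0) 2
    simp at h02
  have hdvd : orderOf (QuotientGroup.mk g₀ : Matrix.ProjectiveSpecialLinearGroup (Fin 3) F) ∣ 2 ^ 2 :=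
    orderOf_dvd_of_pow_eq_one h4
  obtain ⟨i, hi, hoi⟩ := (Nat.dvd_prime_pow Nat.prime_two).1 hdvd
  have hi2 : i = 2 := by
    by_contra hne
    have hi1 : i ≤ 1 := by omega
    apply hnot2
    apply orderOf_dvd_iff_pow_eq_one.1
    rw [hoi]
    calc 2 ^ i ∣ 2 ^ 1 := pow_dvd_pow 2 hi1
      _ = 2 := pow_one 2
  rw [hoi, hi2]
  norm_num

end Lower3

/-- The set of element orders of PSL(3,q): let F be a finite field of characteristic p with q elements and d = gcd(3, q − 1). The orders of elements of PSL(3,F) are exactly the divisors of (q² + q + 1)/d, of (q² − 1)/d, of q − 1, of p(q − 1)/d, and, when p = 2, of 4. -/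
theorem result {F : Type*} [Field F] [Fintype F] (p : ℕ) [Fact p.Prime] [CharP F p] :
    Set.range (orderOf : Matrix.ProjectiveSpecialLinearGroup (Fin 3) F → ℕ) =
      {m : ℕ | m ∣ (Fintype.card F ^ 2 + Fintype.card F + 1) / Nat.gcd 3 (Fintype.card F - 1) ∨
        m ∣ (Fintype.card F ^ 2 - 1) / Nat.gcd 3 (Fintype.card F - 1) ∨ m ∣ Fintype.card F - 1 ∨
        m ∣ p * (Fintype.card F - 1) / Nat.gcd 3 (Fintype.card F - 1) ∨ (p = 2 ∧ m ∣ 4)} := by
  classical
  have hq2 : 2 ≤ Fintype.card F := Fintype.one_lt_card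
  have hclosed := Cfsg.Agent.S2510.range_dvd_closed
    (G := Matrix.ProjectiveSpecialLinearGroup (Fin 3) F)
  ext s
  constructor
  · rintro ⟨g, rfl⟩
    obtain ⟨A, rfl⟩ := QuotientGroup.mk_surjective g
    exact upper p A
  · rintro (h | h | h | h | ⟨hp2, h⟩)
    · obtain ⟨g, hg⟩ := Cfsg.Agent.S2510.c1_mem (F := F) p 3 (by norm_num)
      rw [c1_three _ hq2] at hg
      exact hclosed _ ⟨g, hg⟩ _ h
    · obtain ⟨g, hg⟩ := mem_q2 (F := F) p
      exact hclosed _ ⟨g, rfl⟩ _ (dvd_trans h hg)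
    · obtain ⟨g, hg⟩ := mem_qm1 (F := F)
      exact hclosed _ ⟨g, rfl⟩ _ (dvd_trans h hg)
    · obtain ⟨g, hg⟩ := mem_pt (F := F) p
      rw [mul_div_gcd3] at h
      exact hclosed _ ⟨g, rfl⟩ _ (dvd_trans h hg)
    · have hchar : CharP F 2 := by
        rw [← hp2]
        infer_instance
      obtain ⟨g, hg⟩ := mem_four (F := F) hchar
      exact hclosed _ ⟨g, rfl⟩ _ (dvd_trans h hg)

end Cfsg.Agent.S2476
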