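import Cfsg.Statements.S2477
import Mathlib
import Cfsg.Agent.H9.AltOrders

set_option autoImplicit false

namespace Cfsg.Agent.S2477

open Cfsg.Agent.H9.AltOrders

/-- all descending lists with entries in `[2, b]` and sum at most `t` (fuel `f`). -/
def gen : ℕ → ℕ → ℕ → List (List ℕ)
  | 0, _, _ => [[]]
  | f + 1, b, t => [] :: (List.range (b + 1)).flatMap (fun a =>
      if 2 ≤ a ∧ a ≤ t then (gen f a (t - a)).map (fun l => a :: l) else [])

theorem mem_gen : ∀ (f b t : ℕ) (l : List ℕ), l.Pairwise (· ≥ ·) → (∀ a ∈ l, 2 ≤ a ∧ a ≤ b) →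
    l.sum ≤ t → t ≤ f → l ∈ gen f b t := by
  intro f
  induction f with
  | zero =>
    intro b t l _ h2 h3 h4
    cases l with
    | nil => simp [gen]
    | cons a l' =>
      exfalso
      have := (h2 a (List.mem_cons_self)).1
      rw [List.sum_cons] at h3
      omega
  | succ f ih =>
    intro b t l h1 h2 h3 h4
    cases l with
    | nil => simp [gen]
    | cons a l' =>
      have ha := h2 a (List.mem_cons_self)
      rw [List.sum_cons] at h3
      rw [List.pairwise_cons] at h1
      unfold gen
      apply List.mem_cons_of_mem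
      rw [List.mem_flatMap]
      refine ⟨a, List.mem_range.2 (by omega), ?_⟩
      rw [if_pos ⟨ha.1, by omega⟩, List.mem_map]
      refine ⟨l', ?_, rfl⟩
      apply ih a (t - a) l' h1.2
      · intro c hc
        exact ⟨(h2 c (List.mem_cons_of_mem a hc)).1, h1.1 c hc⟩
      · omega
      · omega

/-- the list of orders. -/
def orders : List ℕ := [1, 2, 3, 4, 5, 6, 7, 8, 9, 10, 12, 15, 21]

/-- the check. -/
def ok (l : List ℕ) : Bool :=
  !((l.sum + l.length) % 2 == 0) || orders.contains (l.foldr Nat.lcm 1)

theorem all_ok : (gen 10 10 10).all ok = true := by decide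

theorem lcm_coe (l : List ℕ) : (l : Multiset ℕ).lcm = l.foldr Nat.lcm 1 := by
  induction l with
  | nil => rfl
  | cons a l ih =>
    rw [← Multiset.cons_coe, Multiset.lcm_cons, ih]
    rfl

/-- witness check. -/
def chk (l : List ℕ) (k : ℕ) : Bool :=
  decide (l.sum ≤ 10) && l.all (fun a => decide (2 ≤ a)) && (l.foldr Nat.lcm 1 == k) &&
    ((l.sum + l.length) % 2 == 0)

theorem witness (l : List ℕ) (k : ℕ) (h : chk l k = true) :
    ∃ m : Multiset ℕ, m.sum ≤ 10 ∧ (∀ a ∈ m, 2 ≤ a) ∧ m.lcm = k ∧
      Even (m.sum + Multiset.card m) := by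
  unfold chk at h
  simp only [Bool.and_eq_true, decide_eq_true_eq, List.all_eq_true, beq_iff_eq] at h
  obtain ⟨⟨⟨h1, h2⟩, h3⟩, h4⟩ := h
  refine ⟨(l : Multiset ℕ), ?_, ?_, ?_, ?_⟩
  · rw [Multiset.sum_coe]; exact h1
  · intro a ha
    exact h2 a (Multiset.mem_coe.1 ha)
  · rw [lcm_coe]; exact h3
  · rw [Multiset.sum_coe, Multiset.coe_card]
    exact Nat.even_iff.2 h4

/-- The set of element orders of the alternating group of degree 10 is {1, 2, 3, 4, 5, 6, 7, 8, 9, 10, 12, 15, 21}. -/
theorem result : Set.range (orderOf : alternatingGroup (Fin 10) → ℕ) = {1, 2, 3, 4, 5, 6, 7, 8, 9, 10, 12, 15, 21} := by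
  ext k
  rw [mem_range_orderOf_alt_iff]
  constructor
  · rintro ⟨m, h1, h2, h3, h4⟩
    set l := m.sort (· ≥ ·) with hl
    have hlm : (l : Multiset ℕ) = m := Multiset.sort_eq _ _
    have hmem : l ∈ gen 10 10 10 := by
      apply mem_gen
      · exact Multiset.pairwise_sort _ _
      · intro a ha
        have ha' : a ∈ m := by rw [← hlm]; exact Multiset.mem_coe.2 ha
        refine ⟨h2 a ha', ?_⟩
        have := Multiset.single_le_sum (fun x _ => Nat.zero_le x) a ha'
        omega
      · have : l.sum = m.sum := by rw [← hlm, Multiset.sum_coe]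
        omega
      · exact le_refl _
    have hok := List.all_eq_true.1 all_ok l hmem
    unfold ok at hok
    have hev : (l.sum + l.length) % 2 = 0 := by
      have h5 : l.sum = m.sum := by rw [← hlm, Multiset.sum_coe]
      have h6 : l.length = Multiset.card m := by rw [← hlm, Multiset.coe_card]
      rw [h5, h6]
      exact Nat.even_iff.1 h4
    have h7 : orders.contains (l.foldr Nat.lcm 1) = true := by
      simpa [hev] using hok
    rw [← lcm_coe, hlm, h3] at h7
    have h8 : k ∈ orders := by simpa using h7
    simp only [orders, List.mem_cons, List.not_mem_nil, or_false] at h8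
    simpa using h8
  · intro hk
    simp only [Set.mem_insert_iff, Set.mem_singleton_iff] at hk
    rcases hk with rfl | rfl | rfl | rfl | rfl | rfl | rfl | rfl | rfl | rfl | rfl | rfl | rfl
    · exact witness [] 1 (by decide)
    · exact witness [2, 2] 2 (by decide)
    · exact witness [3] 3 (by decide)
    · exact witness [4, 2] 4 (by decide)
    · exact witness [5] 5 (by decide)
    · exact witness [3, 2, 2] 6 (by decide)
    · exact witness [7] 7 (by decide)
    · exact witness [8, 2] 8 (by decide)
    · exact witness [9] 9 (by decide)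
    · exact witness [5, 2, 2] 10 (by decide)
    · exact witness [4, 3, 2] 12 (by decide)
    · exact witness [5, 3] 15 (by decide)
    · exact witness [7, 3] 21 (by decide)

end Cfsg.Agent.S2477
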