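import Cfsg.Statements.S2485
import Mathlib

set_option autoImplicit false
open Cfsg

namespace Cfsg.Agent.S2485

open scoped Pointwise

section aux

variable {q : ℕ} [Fact q.Prime]

local notation "M2" => Matrix (Fin 2) (Fin 2) (ZMod q)
local notation "G2" => GL (Fin 2) (ZMod q)

/-- the matrix `J` with `J² = -1` -/
def Jm : M2 := !![0, -1; 1, 0]

theorem J00 : (Jm : M2) 0 0 = 0 := rfl
theorem J01 : (Jm : M2) 0 1 = -1 := rfl
theorem J10 : (Jm : M2) 1 0 = 1 := rfl
theorem J11 : (Jm : M2) 1 1 = 0 := rfl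

theorem Jm_sq : (Jm : M2) * Jm = -1 := by
  ext i j
  fin_cases i <;> fin_cases j <;> simp [Jm, Matrix.mul_apply, Fin.sum_univ_two]

/-- generic anticommutation of a commutator -/
theorem anti_of_sq (X Y : M2) (hX : X * X = -1) :
    (X * Y - Y * X) * X = -(X * (X * Y - Y * X)) := by
  have h1 : X * Y * X - Y * X * X = X * Y * X + Y := by
    rw [mul_assoc Y X X, hX]; simp
  have h2 : X * (X * Y) - X * (Y * X) = -Y - X * Y * X := by
    rw [← mul_assoc X X Y, hX, ← mul_assoc]; simp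
  rw [sub_mul, mul_sub, h1, h2]
  abel

/-- the subgroup of elements commuting or anticommuting with `J` -/
def N : Subgroup G2 where
  carrier := {g | ∃ ε : ZMod q, ε * ε = 1 ∧ g.1 * Jm = ε • (Jm * g.1)}
  one_mem' := ⟨1, by simp, by simp⟩
  mul_mem' := by
    rintro g h ⟨ε, hε, hg⟩ ⟨ε', hε', hh⟩
    refine ⟨ε * ε', by rw [mul_mul_mul_comm, hε, hε', one_mul], ?_⟩
    rw [Units.val_mul, mul_assoc, hh, Matrix.mul_smul, ← mul_assoc, hg, Matrix.smul_mul, smul_smul,
      mul_assoc, mul_comm ε' ε]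
  inv_mem' := by
    rintro g ⟨ε, hε, hg⟩
    refine ⟨ε, hε, ?_⟩
    have h1 : (g⁻¹).1 * g.1 = 1 := by rw [← Units.val_mul, inv_mul_cancel, Units.val_one]
    have h2 : g.1 * (g⁻¹).1 = 1 := by rw [← Units.val_mul, mul_inv_cancel, Units.val_one]
    have h3 : Jm * g.1 = ε • (g.1 * Jm) := by
      rw [hg, smul_smul, hε, one_smul]
    calc (g⁻¹).1 * Jm = (g⁻¹).1 * (Jm * g.1) * (g⁻¹).1 := by
          rw [mul_assoc, mul_assoc, h2, mul_one]
      _ = ε • (Jm * (g⁻¹).1) := by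
          rw [h3, Matrix.mul_smul, Matrix.smul_mul, ← mul_assoc, h1, one_mul]

theorem mem_N (g : G2) : g ∈ (N : Subgroup G2) ↔
    ∃ ε : ZMod q, ε * ε = 1 ∧ g.1 * Jm = ε • (Jm * g.1) := Iff.rfl

theorem scalar_mem_center (g : G2) (c : ZMod q) (h : g.1 = c • (1 : M2)) :
    g ∈ Subgroup.center G2 := by
  rw [Matrix.GeneralLinearGroup.mem_center_iff_val_mem_range_scalar]
  refine ⟨c, ?_⟩
  rw [h, Matrix.smul_one_eq_diagonal]
  rfl

theorem Jm_pow (hq : q % 4 = 3) : (Jm : M2) ^ q = -Jm := by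
  obtain ⟨m, hm⟩ : ∃ m, q = 4 * m + 3 := ⟨q / 4, by omega⟩
  have h4 : (Jm : M2) ^ 4 = 1 := by
    have : (Jm : M2) ^ 4 = (Jm * Jm) * (Jm * Jm) := by noncomm_ring
    rw [this, Jm_sq]; simp
  have h3 : (Jm : M2) ^ 3 = -Jm := by
    have : (Jm : M2) ^ 3 = (Jm * Jm) * Jm := by noncomm_ring
    rw [this, Jm_sq]; simp
  have e : (Jm : M2) ^ q = Jm ^ (4 * m + 3) := by rw [← hm]
  rw [e, pow_add, pow_mul, h4, one_pow, one_mul, h3]

/-- entries of an element commuting with `J` -/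
theorem comm_form (A : M2) (h : A * Jm = Jm * A) :
    A = A 0 0 • (1 : M2) + A 1 0 • Jm := by
  have e00 := congrFun (congrFun h 0) 0
  have e01 := congrFun (congrFun h 0) 1
  simp [Jm, Matrix.mul_apply, Fin.sum_univ_two] at e00 e01
  ext i j
  fin_cases i <;> fin_cases j <;> simp [Jm]
  · linear_combination e00
  · linear_combination -e01

/-- entries of an element anticommuting with `J` -/
theorem anti_form (A : M2) (h : A * Jm = -(Jm * A)) :
    A 0 1 = A 1 0 ∧ A 1 1 = - A 0 0 := by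
  have e00 := congrFun (congrFun h 0) 0
  have e01 := congrFun (congrFun h 0) 1
  simp only [Matrix.mul_apply, Fin.sum_univ_two, Matrix.neg_apply, J00, J01, J10, J11] at e00 e01
  exact ⟨by linear_combination e00, by linear_combination -e01⟩

theorem anti_sq (A : M2) (h : A * Jm = -(Jm * A)) :
    A * A = (A 0 0 ^ 2 + A 0 1 ^ 2) • (1 : M2) := by
  obtain ⟨h1, h2⟩ := anti_form A h
  ext i j
  fin_cases i <;> fin_cases j <;> simp [Matrix.mul_apply, Fin.sum_univ_two, h2, ← h1] <;> ring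

theorem comm_pow (hq : q % 4 = 3) (A : M2) (h : A * Jm = Jm * A) :
    A ^ (q + 1) = (A 0 0 ^ 2 + A 1 0 ^ 2) • (1 : M2) := by
  have hf := comm_form A h
  set a := A 0 0
  set b := A 1 0
  have hc : Commute (a • (1 : M2)) (b • Jm) := by
    show a • (1 : M2) * b • Jm = b • Jm * a • (1 : M2)
    rw [Matrix.smul_mul, Matrix.mul_smul, Matrix.one_mul, Matrix.smul_mul, Matrix.mul_smul,
      Matrix.mul_one, smul_comm]
  have h1 : A ^ q = a • (1 : M2) - b • Jm := by
    rw [hf, add_pow_char_of_commute q hc, smul_pow, smul_pow, one_pow, ZMod.pow_card, ZMod.pow_card,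
      Jm_pow hq, smul_neg, sub_eq_add_neg]
  rw [pow_succ, h1]
  conv_lhs => rw [hf]
  rw [sub_mul, mul_add, mul_add]
  simp only [Matrix.smul_mul, Matrix.mul_smul, Matrix.one_mul, Matrix.mul_one, Jm_sq, smul_smul]
  rw [mul_comm b a, add_smul, sq, sq, sub_add_eq_sub_sub, add_sub_cancel_right, smul_neg, sub_neg_eq_add]

/-- `N` maps to a `2`-group in `PGL₂(q)`. -/
theorem isPGroup_N {k : ℕ} (hk : q + 1 = 2 ^ k) (hq : q % 4 = 3) :
    IsPGroup 2 ((N : Subgroup G2).map (QuotientGroup.mk' (Subgroup.center G2))) := by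
  rintro ⟨z, hz⟩
  obtain ⟨g, hg, rfl⟩ := Subgroup.mem_map.mp hz
  obtain ⟨ε, hε, hgJ⟩ := (mem_N g).mp hg
  have hε' : ε = 1 ∨ ε = -1 := mul_self_eq_one_iff.mp hε
  have key : ∃ n : ℕ, g ^ (2 ^ n) ∈ Subgroup.center G2 := by
    rcases hε' with rfl | rfl
    · refine ⟨k, ?_⟩
      rw [one_smul] at hgJ
      apply scalar_mem_center _ (g.1 0 0 ^ 2 + g.1 1 0 ^ 2)
      rw [Units.val_pow_eq_pow_val, ← hk, comm_pow hq g.1 hgJ]
    · refine ⟨1, ?_⟩
      rw [neg_smul, one_smul] at hgJ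
      apply scalar_mem_center _ (g.1 0 0 ^ 2 + g.1 0 1 ^ 2)
      rw [Units.val_pow_eq_pow_val, pow_one, sq, anti_sq g.1 hgJ]
  obtain ⟨n, hn⟩ := key
  refine ⟨n, ?_⟩
  apply Subtype.ext
  show (QuotientGroup.mk' (Subgroup.center G2) g) ^ (2 ^ n) = 1
  rw [← map_pow]
  exact (QuotientGroup.eq_one_iff _).mpr hn

theorem sq_add_sq_ne_zero (hq : q % 4 = 3) (a b : ZMod q) (h : a ^ 2 + b ^ 2 = 0) :
    a = 0 ∧ b = 0 := by
  by_cases hb : b = 0
  · subst hb
    simp at h
    exact ⟨h, rfl⟩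
  · exfalso
    have : IsSquare (-1 : ZMod q) := by
      refine ⟨a / b, ?_⟩
      field_simp
      linear_combination -h
    rw [ZMod.exists_sq_eq_neg_one_iff] at this
    exact this hq

/-- the key linear algebra lemma -/
theorem exists_common (hq : q % 4 = 3) (y : G2) :
    ∃ m : G2, m ∈ (N : Subgroup G2) ∧ y⁻¹ * m * y ∈ (N : Subgroup G2) ∧
      m ∉ Subgroup.center G2 := by
  have h2 : (2 : ZMod q) ≠ 0 := by
    intro h
    have : ((2 : ℕ) : ZMod q) = 0 := by exact_mod_cast h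
    rw [ZMod.natCast_eq_zero_iff] at this
    have hle := Nat.le_of_dvd (by norm_num) this
    have := (Fact.out : q.Prime).two_le
    omega
  have hy1 : (y⁻¹).1 * y.1 = 1 := by rw [← Units.val_mul, inv_mul_cancel, Units.val_one]
  have hy2 : y.1 * (y⁻¹).1 = 1 := by rw [← Units.val_mul, mul_inv_cancel, Units.val_one]
  set J' : M2 := y.1 * Jm * (y⁻¹).1 with hJ'
  have hJ'sq : J' * J' = -1 := by
    rw [hJ']
    calc y.1 * Jm * (y⁻¹).1 * (y.1 * Jm * (y⁻¹).1)
        = y.1 * Jm * ((y⁻¹).1 * y.1) * Jm * (y⁻¹).1 := by noncomm_ring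
      _ = y.1 * (Jm * Jm) * (y⁻¹).1 := by rw [hy1]; noncomm_ring
      _ = -1 := by rw [Jm_sq]; simp [hy2]
  set M : M2 := Jm * J' - J' * Jm with hM
  by_cases hM0 : M = 0
  · -- use J itself
    have hdet : (Jm : M2).det ≠ 0 := by
      simp [Jm, Matrix.det_fin_two]
    refine ⟨Matrix.GeneralLinearGroup.mkOfDetNeZero Jm hdet, ⟨1, by simp, by simp⟩, ?_, ?_⟩
    · refine ⟨1, by simp, ?_⟩
      rw [one_smul]
      have hcomm : Jm * J' = J' * Jm := sub_eq_zero.mp hM0
      show (y⁻¹).1 * Jm * y.1 * Jm = Jm * ((y⁻¹).1 * Jm * y.1)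
      calc (y⁻¹).1 * Jm * y.1 * Jm = (y⁻¹).1 * (Jm * J') * y.1 := by
            rw [hJ']
            have : (y⁻¹).1 * (Jm * (y.1 * Jm * (y⁻¹).1)) * y.1
                = (y⁻¹).1 * Jm * y.1 * Jm * ((y⁻¹).1 * y.1) := by noncomm_ring
            rw [this, hy1, mul_one]
        _ = (y⁻¹).1 * (J' * Jm) * y.1 := by rw [hcomm]
        _ = Jm * ((y⁻¹).1 * Jm * y.1) := by
            rw [hJ']
            have : (y⁻¹).1 * (y.1 * Jm * (y⁻¹).1 * Jm) * y.1
                = ((y⁻¹).1 * y.1) * Jm * ((y⁻¹).1 * Jm * y.1) := by noncomm_ring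
            rw [this, hy1, one_mul]
    · intro hc
      rw [Matrix.GeneralLinearGroup.mem_center_iff_val_mem_range_scalar] at hc
      obtain ⟨c, hc⟩ := hc
      have := congrFun (congrFun hc 1) 0
      simp [Matrix.GeneralLinearGroup.mkOfDetNeZero, Jm] at this
  · have hMJ : M * Jm = -(Jm * M) := anti_of_sq Jm J' Jm_sq
    have hMJ' : M * J' = -(J' * M) := by
      have := anti_of_sq J' Jm hJ'sq
      have e : M = -(J' * Jm - Jm * J') := by rw [hM]; abel
      rw [e, neg_mul, this, mul_neg]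
    obtain ⟨f1, f2⟩ := anti_form M hMJ
    have hdet : M.det ≠ 0 := by
      rw [Matrix.det_fin_two, f2, f1]
      intro h
      have h' : M 0 0 ^ 2 + M 1 0 ^ 2 = 0 := by linear_combination -h
      obtain ⟨ha, hb⟩ := sq_add_sq_ne_zero hq _ _ h'
      apply hM0
      ext i j
      fin_cases i <;> fin_cases j <;> simp [ha, hb, f1, f2]
    refine ⟨Matrix.GeneralLinearGroup.mkOfDetNeZero M hdet, ⟨-1, by simp, ?_⟩, ⟨-1, by simp, ?_⟩, ?_⟩
    · rw [neg_smul, one_smul]
      exact hMJ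
    · rw [neg_smul, one_smul]
      show (y⁻¹).1 * M * y.1 * Jm = -(Jm * ((y⁻¹).1 * M * y.1))
      have e1 : (y⁻¹).1 * M * y.1 * Jm = (y⁻¹).1 * (M * J') * y.1 := by
        rw [hJ']
        have : (y⁻¹).1 * (M * (y.1 * Jm * (y⁻¹).1)) * y.1
            = (y⁻¹).1 * M * y.1 * Jm * ((y⁻¹).1 * y.1) := by noncomm_ring
        rw [this, hy1, mul_one]
      have e2 : Jm * ((y⁻¹).1 * M * y.1) = (y⁻¹).1 * (J' * M) * y.1 := by
        rw [hJ']
        have : (y⁻¹).1 * (y.1 * Jm * (y⁻¹).1 * M) * y.1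
            = ((y⁻¹).1 * y.1) * Jm * ((y⁻¹).1 * M * y.1) := by noncomm_ring
        rw [this, hy1, one_mul]
      rw [e1, e2, hMJ']
      simp
    · intro hc
      rw [Matrix.GeneralLinearGroup.mem_center_iff_val_mem_range_scalar] at hc
      obtain ⟨c, hc⟩ := hc
      have hc' : M = Matrix.scalar (Fin 2) c := hc.symm
      apply hM0
      have h00 : M 0 0 = c := by rw [hc']; simp
      have h11 : M 1 1 = c := by rw [hc']; simp
      have h10 : M 1 0 = 0 := by rw [hc']; simp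
      rw [f2, h00] at h11
      have hc0 : c = 0 := by
        have : (2 : ZMod q) * c = 0 := by linear_combination -h11
        rcases mul_eq_zero.mp this with h | h
        · exact absurd h h2
        · exact h
      ext i j
      fin_cases i <;> fin_cases j <;> simp [f1, f2, h00, h10, hc0]

end aux

/-- Let q = 2^k − 1 ≥ 7 be a prime and let G = PGL(2,q), the general linear group of degree 2 over the field with q elements modulo its centre. Then any two Sylow 2-subgroups of G have a non-trivial intersection: for a Sylow 2-subgroup H and every x ∈ G, H ∩ H^x ≠ 1. -/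
theorem result {q k : ℕ} [Fact q.Prime] (hk : q + 1 = 2 ^ k) (hq : 7 ≤ q)
    (H : Sylow 2 (GL (Fin 2) (ZMod q) ⧸ Subgroup.center (GL (Fin 2) (ZMod q))))
    (x : GL (Fin 2) (ZMod q) ⧸ Subgroup.center (GL (Fin 2) (ZMod q))) :
    (H : Subgroup (GL (Fin 2) (ZMod q) ⧸ Subgroup.center (GL (Fin 2) (ZMod q)))) ⊓ MulAut.conj x • (H : Subgroup _) ≠ ⊥ := by
  classical
  have hq4 : q % 4 = 3 := by
    have hk3 : 3 ≤ k := by
      by_contra hlt
      push Not at hlt
      have : 2 ^ k ≤ 2 ^ 2 := Nat.pow_le_pow_right (by norm_num) (by omega)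
      omega
    obtain ⟨j, rfl⟩ : ∃ j, k = j + 2 := ⟨k - 2, by omega⟩
    rw [pow_add] at hk
    omega
  obtain ⟨P, hP⟩ := IsPGroup.exists_le_sylow (isPGroup_N hk hq4)
  obtain ⟨g, hg⟩ := MulAction.exists_smul_eq (GL (Fin 2) (ZMod q) ⧸ Subgroup.center (GL (Fin 2) (ZMod q))) P H
  have hH : H.toSubgroup = MulAut.conj g • P.toSubgroup := by
    rw [← hg, Sylow.coe_subgroup_smul]
  obtain ⟨yt, hyt⟩ := QuotientGroup.mk'_surjective (Subgroup.center (GL (Fin 2) (ZMod q))) (g⁻¹ * x * g)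
  obtain ⟨m, hm1, hm2, hm3⟩ := exists_common hq4 yt
  have hz1 : QuotientGroup.mk' (Subgroup.center (GL (Fin 2) (ZMod q))) m ∈ P.toSubgroup :=
    hP (Subgroup.mem_map.mpr ⟨m, hm1, rfl⟩)
  have hz2 : QuotientGroup.mk' (Subgroup.center (GL (Fin 2) (ZMod q))) (yt⁻¹ * m * yt)
      ∈ P.toSubgroup := hP (Subgroup.mem_map.mpr ⟨_, hm2, rfl⟩)
  rw [map_mul, map_mul, map_inv, hyt] at hz2
  set z := g * QuotientGroup.mk' (Subgroup.center (GL (Fin 2) (ZMod q))) m * g⁻¹ with hz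
  have hzne : z ≠ 1 := by
    intro h
    have : QuotientGroup.mk' (Subgroup.center (GL (Fin 2) (ZMod q))) m = 1 := by
      have := congrArg (fun w => g⁻¹ * w * g) h
      simpa [hz, mul_assoc] using this
    exact hm3 ((QuotientGroup.eq_one_iff _).mp this)
  have hzH : z ∈ H.toSubgroup := by
    rw [hH, Subgroup.mem_pointwise_smul_iff_inv_smul_mem, MulAut.smul_def, ← map_inv,
      MulAut.conj_apply, hz]
    have : g⁻¹ * (g * QuotientGroup.mk' (Subgroup.center (GL (Fin 2) (ZMod q))) m * g⁻¹) * g⁻¹⁻¹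
        = QuotientGroup.mk' (Subgroup.center (GL (Fin 2) (ZMod q))) m := by group
    rw [this]
    exact hz1
  have hzxH : z ∈ MulAut.conj x • H.toSubgroup := by
    rw [Subgroup.mem_pointwise_smul_iff_inv_smul_mem, MulAut.smul_def, ← map_inv,
      MulAut.conj_apply, hH, Subgroup.mem_pointwise_smul_iff_inv_smul_mem, MulAut.smul_def,
      ← map_inv, MulAut.conj_apply, hz]
    have : g⁻¹ * (x⁻¹ * (g * QuotientGroup.mk' (Subgroup.center (GL (Fin 2) (ZMod q))) m * g⁻¹)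
        * x⁻¹⁻¹) * g⁻¹⁻¹ = (g⁻¹ * x * g)⁻¹ *
          QuotientGroup.mk' (Subgroup.center (GL (Fin 2) (ZMod q))) m * (g⁻¹ * x * g) := by group
    rw [this]
    exact hz2
  intro hbot
  have : z ∈ H.toSubgroup ⊓ MulAut.conj x • H.toSubgroup := ⟨hzH, hzxH⟩
  rw [hbot, Subgroup.mem_bot] at this
  exact hzne this

end Cfsg.Agent.S2485
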