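import Cfsg.Statements.S2486
import Mathlib
import Cfsg.Agent.Lib.Helper5.SLn

set_option autoImplicit false
open Cfsg

namespace Cfsg.Agent.S2486

open Matrix

/-- `SL_n(F_2)` -/
abbrev SLn (n : ℕ) := Matrix.SpecialLinearGroup (Fin n) (ZMod 2)

instance finiteSLn (n : ℕ) : Finite (SLn n) :=
  Finite.of_injective (fun g => (g.1 : Matrix (Fin n) (Fin n) (ZMod 2))) Subtype.val_injective

theorem zmod2_eq_one (x : ZMod 2) (h : x ≠ 0) : x = 1 := by
  fin_cases x
  · exact absurd rfl h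
  · rfl

theorem sl_mul_val {n : ℕ} (a b : SLn n) : (a * b).1 = a.1 * b.1 := rfl

theorem sl_one_val {n : ℕ} : (1 : SLn n).1 = 1 := rfl

theorem sl_pow_val {n : ℕ} (a : SLn n) (k : ℕ) : (a ^ k).1 = a.1 ^ k := by
  induction k with
  | zero => simp [sl_one_val]
  | succ k ih => rw [pow_succ, pow_succ, sl_mul_val, ih]

theorem sl_inv_mul_val {n : ℕ} (g : SLn n) : (g⁻¹).1 * g.1 = 1 :=
  congrArg Subtype.val (inv_mul_cancel g)

theorem sl_mul_inv_val {n : ℕ} (g : SLn n) : g.1 * (g⁻¹).1 = 1 :=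
  congrArg Subtype.val (mul_inv_cancel g)

theorem sl_ext {n : ℕ} (a b : SLn n) (h : a.1 = b.1) : a = b := Subtype.ext h

/-- the upper triangular subgroup -/
def Up (n : ℕ) : Subgroup (SLn n) where
  carrier := {g | (g.1).BlockTriangular id}
  one_mem' := blockTriangular_one
  mul_mem' := fun {a b} ha hb => BlockTriangular.mul ha hb
  inv_mem' := fun {a} ha => by
    have hpos : 0 < orderOf a := orderOf_pos a
    have hk : a⁻¹ = a ^ (orderOf a - 1) := by
      apply inv_eq_of_mul_eq_one_right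
      rw [← pow_succ', Nat.sub_add_cancel hpos, pow_orderOf_eq_one]
    rw [hk]
    change ((a ^ (orderOf a - 1)).1).BlockTriangular id
    rw [sl_pow_val]
    exact BlockTriangular.pow ha _

theorem mem_Up {n : ℕ} (g : SLn n) : g ∈ Up n ↔ ∀ i j : Fin n, j < i → g.1 i j = 0 :=
  ⟨fun h i j hij => h hij, fun h i j hij => h i j hij⟩

theorem Up_diag {n : ℕ} (g : SLn n) (hg : g ∈ Up n) (i : Fin n) : g.1 i i = 1 := by
  apply zmod2_eq_one
  intro h0
  have hdet : g.1.det = ∏ i : Fin n, g.1 i i := det_of_isUpperTriangular hg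
  rw [g.2] at hdet
  have : ∏ i : Fin n, g.1 i i = 0 := Finset.prod_eq_zero (Finset.mem_univ i) h0
  rw [this] at hdet
  exact one_ne_zero hdet

/-- the flag space `V_k = span(e_0,…,e_{k-1})` -/
def Vk {n : ℕ} (k : ℕ) (v : Fin n → ZMod 2) : Prop := ∀ l : Fin n, k ≤ l.val → v l = 0

theorem Up_Vk {n : ℕ} (g : SLn n) (hg : g ∈ Up n) (k : ℕ) (v : Fin n → ZMod 2) (hv : Vk k v) :
    Vk k (g.1 *ᵥ v) := by
  intro l hl
  rw [Matrix.mulVec, dotProduct]
  apply Finset.sum_eq_zero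
  intro s _
  by_cases hs : s < l
  · rw [(mem_Up g).1 hg l s hs, zero_mul]
  · have h1 : l.val ≤ s.val := by
      have := not_lt.1 hs
      exact this
    rw [hv s (by omega), mul_zero]

theorem Up_sub_Vk {n : ℕ} (g : SLn n) (hg : g ∈ Up n) (k : ℕ) (v : Fin n → ZMod 2)
    (hv : Vk (k + 1) v) : Vk k (g.1 *ᵥ v - v) := by
  intro l hl
  rw [Pi.sub_apply, Matrix.mulVec, dotProduct, Finset.sum_eq_single l]
  · rw [Up_diag g hg l, one_mul, sub_self]
  · intro s _ hsl
    by_cases hs : s < l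
    · rw [(mem_Up g).1 hg l s hs, zero_mul]
    · have h1 : l.val ≤ s.val := by
        have := not_lt.1 hs
        exact this
      have h2 : l.val ≠ s.val := fun h => hsl (Fin.ext h.symm)
      rw [hv s (by omega), mul_zero]
  · intro h; exact absurd (Finset.mem_univ _) h

theorem Up_of_Vk {n : ℕ} (g : SLn n) (h : ∀ k v, Vk k v → Vk k (g.1 *ᵥ v)) : g ∈ Up n := by
  rw [mem_Up]
  intro i j hij
  have h1 := h (j.val + 1) (Pi.single j 1) (by
    intro l hl
    have : l ≠ j := fun e => by rw [e] at hl; omega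
    simp [this])
  have h2 := h1 i (by have : j.val < i.val := hij; omega)
  simpa using h2

open Matrix

theorem strict_pow {n : ℕ} (N : Matrix (Fin n) (Fin n) (ZMod 2))
    (hN : ∀ i j : Fin n, j ≤ i → N i j = 0) (k : ℕ) :
    ∀ i j : Fin n, j.val < i.val + k → (N ^ k) i j = 0 := by
  induction k with
  | zero =>
    intro i j hij
    rw [pow_zero, Matrix.one_apply_ne]
    intro e; rw [e] at hij; omega
  | succ k ih =>
    intro i j hij
    rw [pow_succ, Matrix.mul_apply]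
    apply Finset.sum_eq_zero
    intro s _
    by_cases hs : s.val < i.val + k
    · rw [ih i s hs, zero_mul]
    · have : j ≤ s := by
        have h1 : j.val ≤ s.val := by omega
        exact h1
      rw [hN s j this, mul_zero]

theorem Up_isPGroup {n : ℕ} (hn : 0 < n) : IsPGroup 2 (Up n) := by
  haveI : Nonempty (Fin n) := ⟨⟨0, hn⟩⟩
  rintro ⟨g, hg⟩
  refine ⟨n, ?_⟩
  apply Subtype.ext
  apply sl_ext
  change (g ^ (2 ^ n)).1 = 1
  rw [sl_pow_val]
  have hN : ∀ i j : Fin n, j ≤ i → (g.1 - 1) i j = 0 := by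
    intro i j hij
    rw [Matrix.sub_apply]
    rcases lt_or_eq_of_le hij with h | h
    · rw [(mem_Up g).1 hg i j h, Matrix.one_apply_ne (ne_of_gt h), sub_zero]
    · rw [h, Up_diag g hg i, Matrix.one_apply_eq, sub_self]
  have h0 : (g.1 - 1) ^ n = 0 := by
    ext i j
    exact strict_pow _ hN n i j (by have := j.2; omega)
  have h1 : (g.1 - 1) ^ 2 ^ n = g.1 ^ 2 ^ n - 1 ^ 2 ^ n :=
    sub_pow_char_pow_of_commute 2 n (Commute.one_right g.1)
  have h2 : (g.1 - 1) ^ 2 ^ n = 0 := by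
    have hle : n ≤ 2 ^ n := Nat.lt_two_pow_self.le
    rw [show 2 ^ n = n + (2 ^ n - n) by omega, pow_add, h0, zero_mul]
  rw [h2, one_pow] at h1
  exact sub_eq_zero.1 h1.symm

theorem normalizer_Vk {n : ℕ} (k : ℕ) :
    ∀ g : SLn n, g ∈ Subgroup.normalizer (Up n : Set (SLn n)) →
      ∀ v : Fin n → ZMod 2, Vk k v → Vk k (g.1 *ᵥ v) := by
  induction k with
  | zero =>
    intro g _ v hv
    have : v = 0 := funext fun l => hv l (Nat.zero_le _)
    rw [this, Matrix.mulVec_zero]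
    intro l _; rfl
  | succ k ih =>
    intro g hg v hv l hl
    by_contra hwl
    have hwl1 : (g.1 *ᵥ v) l = 1 := zmod2_eq_one _ hwl
    have hlpos : 0 < l.val := by omega
    set i : Fin n := ⟨l.val - 1, by have := l.2; omega⟩ with hi
    have hil : i ≠ l := by
      intro e
      have := congrArg Fin.val e
      simp only [hi] at this
      omega
    set E : SLn n := Matrix.SpecialLinearGroup.transvection hil 1 with hE
    have hEup : E ∈ Up n := by
      change (E.1).BlockTriangular id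
      rw [hE, Matrix.SpecialLinearGroup.transvection_coe]
      apply Matrix.blockTriangular_transvection
      change i ≤ l
      have : i.val ≤ l.val := by simp only [hi]; omega
      exact this
    have hginv : g⁻¹ ∈ Subgroup.normalizer (Up n : Set (SLn n)) := inv_mem hg
    have hu' : g⁻¹ * E * g ∈ Up n := by
      have := (Subgroup.mem_normalizer_iff.1 hginv E).1 hEup
      simpa using this
    have h1 := Up_sub_Vk _ hu' k v hv
    have e1 : (g⁻¹ * E * g).1 *ᵥ v - v = (g⁻¹).1 *ᵥ (Pi.single i 1) := by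
      rw [sl_mul_val, sl_mul_val, ← Matrix.mulVec_mulVec, ← Matrix.mulVec_mulVec, hE,
        Cfsg.Agent.Lib.Helper5.SLn.transvection_mulVec' hil, hwl1, mul_one]
      have e2 : Function.update (g.1 *ᵥ v) i ((g.1 *ᵥ v) i + 1) = g.1 *ᵥ v + Pi.single i 1 := by
        funext r
        by_cases hr : r = i
        · subst hr; simp
        · simp [hr]
      rw [e2, Matrix.mulVec_add, Matrix.mulVec_mulVec, sl_inv_mul_val, Matrix.one_mulVec]
      abel
    rw [e1] at h1
    have h2 := ih g hg _ h1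
    rw [Matrix.mulVec_mulVec, sl_mul_inv_val, Matrix.one_mulVec] at h2
    have h3 := h2 i (by simp only [hi]; omega)
    simp at h3

theorem normalizer_Up {n : ℕ} (g : SLn n)
    (hg : g ∈ Subgroup.normalizer (Up n : Set (SLn n))) : g ∈ Up n :=
  Up_of_Vk g (fun k v hv => normalizer_Vk k g hg v hv)

open Matrix

section W
variable {n : ℕ}

/-- the antidiagonal permutation matrix -/
def Wmat (n : ℕ) : Matrix (Fin n) (Fin n) (ZMod 2) := fun i j => if j = Fin.rev i then 1 else 0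

theorem Wmat_mul (M : Matrix (Fin n) (Fin n) (ZMod 2)) (i j : Fin n) :
    (Wmat n * M) i j = M (Fin.rev i) j := by
  rw [Matrix.mul_apply, Finset.sum_eq_single (Fin.rev i)]
  · simp [Wmat]
  · intro s _ hs
    simp [Wmat, hs]
  · intro h; exact absurd (Finset.mem_univ _) h

theorem Wmat_sq : Wmat n * Wmat n = 1 := by
  ext i j
  rw [Wmat_mul]
  by_cases h : i = j
  · subst h; simp [Wmat]
  · rw [Matrix.one_apply_ne h]
    simp only [Wmat, Fin.rev_rev]
    rw [if_neg (fun e => h e.symm)]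

theorem Wmat_det : (Wmat n).det = 1 := by
  apply zmod2_eq_one
  intro h0
  have := congrArg Matrix.det (Wmat_sq (n := n))
  rw [Matrix.det_mul, h0, Matrix.det_one, zero_mul] at this
  exact zero_ne_one this

/-- the longest Weyl element -/
def wSL (n : ℕ) : SLn n := ⟨Wmat n, Wmat_det⟩

theorem wSL_mul_wSL : wSL n * wSL n = 1 := sl_ext _ _ Wmat_sq

end W

theorem sum_extend {k n : ℕ} (ι : Fin k → Fin n) (hι : Function.Injective ι)
    (x : Fin k → ZMod 2) (y : Fin n → ZMod 2) :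
    ∑ l, Function.extend ι x 0 l * y l = ∑ a, x a * y (ι a) := by
  classical
  have h1 : ∑ a, x a * y (ι a)
      = ∑ l ∈ Finset.univ.map ⟨ι, hι⟩, Function.extend ι x 0 l * y l := by
    rw [Finset.sum_map]
    apply Finset.sum_congr rfl
    intro a _
    simp only [Function.Embedding.coeFn_mk]
    rw [hι.extend_apply]
  rw [h1]
  symm
  apply Finset.sum_subset (Finset.subset_univ _)
  intro l _ hl
  have : ¬ ∃ a, ι a = l := by
    rintro ⟨a, rfl⟩
    apply hl
    rw [Finset.mem_map]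
    exact ⟨a, Finset.mem_univ _, rfl⟩
  rw [Function.extend_apply' _ _ _ this]
  simp

theorem sum_extend' {k n : ℕ} (ι : Fin k → Fin n) (hι : Function.Injective ι)
    (x : Fin k → ZMod 2) (y : Fin n → ZMod 2) :
    ∑ l, y l * Function.extend ι x 0 l = ∑ a, y (ι a) * x a := by
  have := sum_extend ι hι x y
  simp only [mul_comm] at this ⊢
  exact this

open Matrix

theorem transv_det {n : ℕ} (a x : Fin n → ZMod 2) (h : x ⬝ᵥ a = 0) :
    (1 + vecMulVec a x).det = 1 := by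
  rw [Matrix.vecMulVec_eq Unit, Matrix.det_one_add_replicateCol_mul_replicateRow, h, add_zero]

theorem key_row {n : ℕ} (g : SLn n)
    (hg : ∀ t, t ∈ Up n → g⁻¹ * t * g ∈ Up n → t = 1) (i : Fin n) :
    ∃ x : Fin n → ZMod 2, (∀ l, l < i → x l = 0) ∧ x i = 1 ∧
      ∀ j : Fin n, i.val + j.val < n - 1 → (x ᵥ* g.1) j = 0 := by
  classical
  have hi := i.2
  obtain ⟨k, hk⟩ : ∃ k, k = n - 1 - i.val := ⟨_, rfl⟩
  let ρ : Fin k → Fin n := fun a => ⟨i.val + 1 + a.val, by have := a.2; omega⟩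
  let κ : Fin k → Fin n := fun b => ⟨b.val, by have := b.2; omega⟩
  have hρv : ∀ a, (ρ a).val = i.val + 1 + a.val := fun a => rfl
  have hκv : ∀ b, (κ b).val = b.val := fun b => rfl
  have hρ : Function.Injective ρ := by
    intro a b h
    have := congrArg Fin.val h
    rw [hρv, hρv] at this
    exact Fin.ext (by omega)
  have hκ : Function.Injective κ := by
    intro a b h
    have := congrArg Fin.val h
    rw [hκv, hκv] at this
    exact Fin.ext this
  have hρrange : ∀ l : Fin n, i.val < l.val → ∃ a, ρ a = l := by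
    intro l hl
    refine ⟨⟨l.val - i.val - 1, by have := l.2; omega⟩, Fin.ext ?_⟩
    rw [hρv]
    change i.val + 1 + (l.val - i.val - 1) = l.val
    omega
  have hρnot : ∀ l : Fin n, l.val ≤ i.val → ¬ ∃ a, ρ a = l := by
    rintro l hl ⟨a, rfl⟩
    rw [hρv] at hl
    omega
  have hκrange : ∀ l : Fin n, l.val < k → ∃ b, κ b = l := by
    intro l hl
    exact ⟨⟨l.val, hl⟩, Fin.ext rfl⟩
  have hκnot : ∀ l : Fin n, k ≤ l.val → ¬ ∃ b, κ b = l := by
    rintro l hl ⟨b, rfl⟩
    rw [hκv] at hl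
    have := b.2
    omega
  obtain ⟨M, hM⟩ : ∃ M : Matrix (Fin k) (Fin k) (ZMod 2), M = g.1.submatrix ρ κ := ⟨_, rfl⟩
  have hleft : ∀ (d : Fin k → ZMod 2) (b : Fin k),
      (Function.extend ρ d 0 ᵥ* g.1) (κ b) = (d ᵥ* M) b := by
    intro d b
    rw [hM]
    exact sum_extend ρ hρ d (fun l => g.1 l (κ b))
  have hright : ∀ (c : Fin k → ZMod 2) (a : Fin k),
      (g.1 *ᵥ Function.extend κ c 0) (ρ a) = (M *ᵥ c) a := by
    intro c a
    rw [hM]
    exact sum_extend' κ hκ c (fun l => g.1 (ρ a) l)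
  by_cases hdet : M.det = 0
  · exfalso
    obtain ⟨c, hc0, hc⟩ := (Matrix.exists_mulVec_eq_zero_iff (M := M)).2 hdet
    obtain ⟨d, hd0, hd⟩ := (Matrix.exists_vecMul_eq_zero_iff (M := M)).2 hdet
    obtain ⟨xt, hxt⟩ : ∃ xt : Fin n → ZMod 2, xt = Function.extend ρ d 0 := ⟨_, rfl⟩
    obtain ⟨ct, hct⟩ : ∃ ct : Fin n → ZMod 2, ct = Function.extend κ c 0 := ⟨_, rfl⟩
    obtain ⟨a, ha⟩ : ∃ a : Fin n → ZMod 2, a = g.1 *ᵥ ct := ⟨_, rfl⟩
    have hxt0 : ∀ l : Fin n, l.val ≤ i.val → xt l = 0 := by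
      intro l hl
      rw [hxt, Function.extend_apply' _ _ _ (hρnot l hl)]
      rfl
    have hct0 : ∀ l : Fin n, k ≤ l.val → ct l = 0 := by
      intro l hl
      rw [hct, Function.extend_apply' _ _ _ (hκnot l hl)]
      rfl
    have ha0 : ∀ l : Fin n, i.val < l.val → a l = 0 := by
      intro l hl
      obtain ⟨a', rfl⟩ := hρrange l hl
      rw [ha, hct, hright, hc]
      rfl
    have hxg0 : ∀ l : Fin n, l.val < k → (xt ᵥ* g.1) l = 0 := by
      intro l hl
      obtain ⟨b, rfl⟩ := hκrange l hl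
      rw [hxt, hleft, hd]
      rfl
    have hdot : xt ⬝ᵥ a = 0 := by
      rw [dotProduct]
      apply Finset.sum_eq_zero
      intro l _
      by_cases hl : l.val ≤ i.val
      · rw [hxt0 l hl, zero_mul]
      · rw [ha0 l (by omega), mul_zero]
    have hginva : (g⁻¹).1 *ᵥ a = ct := by
      rw [ha, Matrix.mulVec_mulVec, sl_inv_mul_val, Matrix.one_mulVec]
    set t : SLn n := ⟨1 + vecMulVec a xt, transv_det a xt hdot⟩ with ht
    have htval : t.1 = 1 + vecMulVec a xt := rfl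
    have htUp : t ∈ Up n := by
      rw [mem_Up]
      intro l m hml
      rw [htval, Matrix.add_apply, Matrix.one_apply_ne (ne_of_gt hml), zero_add,
        Matrix.vecMulVec_apply]
      have hml' : m.val < l.val := hml
      by_cases hl : l.val ≤ i.val
      · rw [hxt0 m (by omega), mul_zero]
      · rw [ha0 l (by omega), zero_mul]
    have hconj : (g⁻¹ * t * g).1 = 1 + vecMulVec ct (xt ᵥ* g.1) := by
      rw [sl_mul_val, sl_mul_val, htval, Matrix.mul_add, Matrix.add_mul, Matrix.mul_one,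
        sl_inv_mul_val, Matrix.mul_vecMulVec, Matrix.vecMulVec_mul, hginva]
    have hcUp : g⁻¹ * t * g ∈ Up n := by
      rw [mem_Up]
      intro l m hml
      rw [hconj, Matrix.add_apply, Matrix.one_apply_ne (ne_of_gt hml), zero_add,
        Matrix.vecMulVec_apply]
      have hml' : m.val < l.val := hml
      by_cases hl : k ≤ l.val
      · rw [hct0 l hl, zero_mul]
      · rw [hxg0 m (by omega), mul_zero]
    have ht1 := hg t htUp hcUp
    have h1 : t.1 = 1 := by rw [ht1]; rfl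
    rw [htval] at h1
    have h2 : vecMulVec a xt = 0 := by
      have := h1
      rwa [add_eq_left] at this
    rcases Matrix.vecMulVec_eq_zero.1 h2 with h3 | h3
    · apply hc0
      have hct' : ct = 0 := by rw [← hginva, h3, Matrix.mulVec_zero]
      funext b
      have := congrFun hct' (κ b)
      rw [hct, hκ.extend_apply] at this
      exact this
    · apply hd0
      funext b
      have := congrFun h3 (ρ b)
      rw [hxt, hρ.extend_apply] at this
      exact this
  · have hunit : IsUnit M.det := IsUnit.mk0 _ hdet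
    obtain ⟨r, hr⟩ : ∃ r : Fin k → ZMod 2, r = fun b => g.1 i (κ b) := ⟨_, rfl⟩
    obtain ⟨d, hd⟩ : ∃ d : Fin k → ZMod 2, d = (-r) ᵥ* M⁻¹ := ⟨_, rfl⟩
    have hdM : d ᵥ* M = -r := by
      rw [hd, Matrix.vecMul_vecMul, Matrix.nonsing_inv_mul _ hunit, Matrix.vecMul_one]
    refine ⟨Pi.single i 1 + Function.extend ρ d 0, ?_, ?_, ?_⟩
    · intro l hl
      have hl' : l.val < i.val := hl
      rw [Pi.add_apply, Pi.single_eq_of_ne (ne_of_lt hl),
        Function.extend_apply' _ _ _ (hρnot l (by omega)), zero_add]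
      rfl
    · rw [Pi.add_apply, Pi.single_eq_same,
        Function.extend_apply' _ _ _ (hρnot i le_rfl)]
      exact add_zero _
    · intro j hj
      obtain ⟨b, rfl⟩ := hκrange j (by omega)
      rw [Matrix.add_vecMul, Pi.add_apply, hleft, hdM, Matrix.single_one_vecMul, hr]
      change g.1 i (κ b) + -(g.1 i (κ b)) = 0
      exact add_neg_cancel _

open Matrix

theorem big_cell {n : ℕ} (g : SLn n)
    (hg : ∀ t, t ∈ Up n → g⁻¹ * t * g ∈ Up n → t = 1) :
    ∃ u ∈ Up n, ∃ b ∈ Up n, g = u * wSL n * b := by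
  classical
  choose x hx1 hx2 hx3 using key_row g hg
  obtain ⟨U, hU⟩ : ∃ U : Matrix (Fin n) (Fin n) (ZMod 2), U = fun i j => x i j := ⟨_, rfl⟩
  have hUt : U.BlockTriangular id := by
    intro i j hij
    rw [hU]
    exact hx1 i j hij
  have hUdet : U.det = 1 := by
    rw [det_of_isUpperTriangular hUt]
    apply Finset.prod_eq_one
    intro i _
    rw [hU]
    exact hx2 i
  obtain ⟨u, hu⟩ : ∃ u : SLn n, u = ⟨U, hUdet⟩ := ⟨_, rfl⟩
  have huval : u.1 = U := by rw [hu]
  have huUp : u ∈ Up n := by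
    change (u.1).BlockTriangular id
    rw [huval]
    exact hUt
  have hUg : ∀ i j : Fin n, i.val + j.val < n - 1 → (U * g.1) i j = 0 := by
    intro i j hij
    have := hx3 i j hij
    rw [Matrix.mul_apply]
    rw [Matrix.vecMul, dotProduct] at this
    rw [hU]
    exact this
  have hbUp : wSL n * u * g ∈ Up n := by
    rw [mem_Up]
    intro i j hij
    have hij' : j.val < i.val := hij
    rw [sl_mul_val, sl_mul_val, huval, Matrix.mul_assoc]
    change (Wmat n * (U * g.1)) i j = 0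
    rw [Wmat_mul]
    apply hUg
    rw [Fin.val_rev]
    have := i.2
    omega
  refine ⟨u⁻¹, (Up n).inv_mem huUp, wSL n * u * g, hbUp, ?_⟩
  rw [← mul_assoc, ← mul_assoc, mul_assoc u⁻¹, wSL_mul_wSL, mul_one, inv_mul_cancel, one_mul]

theorem double_coset {n : ℕ} (g g' : SLn n)
    (hg : ∀ t, t ∈ Up n → g⁻¹ * t * g ∈ Up n → t = 1)
    (hg' : ∀ t, t ∈ Up n → g'⁻¹ * t * g' ∈ Up n → t = 1) :
    ∃ u ∈ Up n, ∃ v ∈ Up n, u * g = g' * v := by
  obtain ⟨u₁, hu₁, b₁, hb₁, h1⟩ := big_cell g hg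
  obtain ⟨u₂, hu₂, b₂, hb₂, h2⟩ := big_cell g' hg'
  refine ⟨u₂ * u₁⁻¹, (Up n).mul_mem hu₂ ((Up n).inv_mem hu₁), b₂⁻¹ * b₁,
    (Up n).mul_mem ((Up n).inv_mem hb₂) hb₁, ?_⟩
  rw [h1, h2]
  group

open Pointwise

section Abstract
variable {G : Type*} [Group G] [Finite G]

theorem inf_N_le_T (N : Subgroup G) (T : Subgroup G) (hTN : T ≤ N)
    (ha : ∀ g ∈ N, g ∈ Subgroup.normalizer (T : Set G) → g ∈ T)
    (H : Sylow 2 G) (hTH : T ≤ H) : (H : Subgroup G) ⊓ N ≤ T := by
  haveI : Fact (Nat.Prime 2) := ⟨Nat.prime_two⟩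
  by_contra hcon
  obtain ⟨K, hK⟩ : ∃ K : Subgroup G, K = (H : Subgroup G) ⊓ N := ⟨_, rfl⟩
  rw [← hK] at hcon
  have hKH : K ≤ H := hK ▸ inf_le_left
  have hKN : K ≤ N := hK ▸ inf_le_right
  have hTK : T ≤ K := hK ▸ le_inf hTH hTN
  have hKp : IsPGroup 2 K := H.isPGroup'.to_le hKH
  haveI : Group.IsNilpotent K := hKp.isNilpotent
  have hnc : NormalizerCondition K := normalizerCondition_of_isNilpotent
  have hlt : T.subgroupOf K < ⊤ := by
    rw [lt_top_iff_ne_top, Ne, Subgroup.subgroupOf_eq_top]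
    exact hcon
  obtain ⟨k, hkn, hkT⟩ := SetLike.exists_of_lt (hnc _ hlt)
  apply hkT
  rw [Subgroup.mem_subgroupOf]
  apply ha k.1 (hKN k.2)
  rw [Subgroup.mem_normalizer_iff]
  intro t
  rw [Subgroup.mem_normalizer_iff] at hkn
  constructor
  · intro ht
    have := (hkn ⟨t, hTK ht⟩).1 (by rw [Subgroup.mem_subgroupOf]; exact ht)
    rw [Subgroup.mem_subgroupOf] at this
    exact this
  · intro ht
    have htK : t ∈ K := by
      have h1 : k.1⁻¹ * (k.1 * t * k.1⁻¹) * k.1 ∈ K :=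
        K.mul_mem (K.mul_mem (K.inv_mem k.2) (hTK ht)) k.2
      have h2 : k.1⁻¹ * (k.1 * t * k.1⁻¹) * k.1 = t := by group
      rwa [h2] at h1
    have := (hkn ⟨t, htK⟩).2 (by rw [Subgroup.mem_subgroupOf]; exact ht)
    rw [Subgroup.mem_subgroupOf] at this
    exact this

theorem lemmaA (N : Subgroup G) [hNn : N.Normal] (hidx : N.index = 2)
    (T : Subgroup G) (hTN : T ≤ N)
    (ha : ∀ g ∈ N, g ∈ Subgroup.normalizer (T : Set G) → g ∈ T)
    (h4 : ∀ g ∈ N, ∀ g' ∈ N, (∀ t ∈ T, g⁻¹ * t * g ∈ T → t = 1) →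
        (∀ t ∈ T, g'⁻¹ * t * g' ∈ T → t = 1) → ∃ u ∈ T, ∃ v ∈ T, u * g = g' * v)
    (H : Sylow 2 G) (hTH : T ≤ H) (x : G) :
    ∃ y, y ≠ 1 ∧ y ∈ (H : Subgroup G) ∧ x⁻¹ * y * x ∈ (H : Subgroup G) := by
  haveI : Fact (Nat.Prime 2) := ⟨Nat.prime_two⟩
  have hHN : (H : Subgroup G) ⊓ N ≤ T := inf_N_le_T N T hTN ha H hTH
  have hex : ∃ h ∈ (H : Subgroup G), h ∉ N := by
    by_contra hcon
    push Not at hcon
    have hle : (H : Subgroup G) ≤ N := hcon
    have h1 := Subgroup.relIndex_mul_index hle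
    rw [hidx] at h1
    exact H.not_dvd_index ⟨_, by rw [← h1, mul_comm]⟩
  obtain ⟨h, hhH, hhN⟩ := hex
  have key : ∀ m ∈ N, ∃ y, y ≠ 1 ∧ y ∈ (H : Subgroup G) ∧ m⁻¹ * y * m ∈ (H : Subgroup G) := by
    intro m hm
    by_cases htriv : ∀ t ∈ T, m⁻¹ * t * m ∈ T → t = 1
    · have hm' : h * m * h⁻¹ ∈ N := hNn.conj_mem m hm h
      have hnormT : ∀ t, t ∈ T → h⁻¹ * t * h ∈ T := fun t ht =>
        hHN ⟨(H : Subgroup G).mul_mem ((H : Subgroup G).mul_mem
          ((H : Subgroup G).inv_mem hhH) (hTH ht)) hhH, hNn.conj_mem' t (hTN ht) h⟩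
      have htriv' : ∀ t ∈ T, (h * m * h⁻¹)⁻¹ * t * (h * m * h⁻¹) ∈ T → t = 1 := by
        intro t ht hc
        have h1 : m⁻¹ * (h⁻¹ * t * h) * m ∈ T := by
          have := hnormT _ hc
          have e : h⁻¹ * ((h * m * h⁻¹)⁻¹ * t * (h * m * h⁻¹)) * h = m⁻¹ * (h⁻¹ * t * h) * m := by
            group
          rwa [e] at this
        have h2 := htriv _ (hnormT t ht) h1
        have e : t = h * (h⁻¹ * t * h) * h⁻¹ := by group
        rw [e, h2]
        group
      obtain ⟨u, hu, v, hv, huv⟩ := h4 (h * m * h⁻¹) hm' m hm htriv' htriv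
      refine ⟨u * h, ?_, (H : Subgroup G).mul_mem (hTH hu) hhH, ?_⟩
      · intro e
        apply hhN
        have : h = u⁻¹ := eq_inv_of_mul_eq_one_right e
        rw [this]
        exact N.inv_mem (hTN hu)
      · have e : m⁻¹ * (u * h) * m = v * h := by
          have h1 : m⁻¹ * (u * h) * m = m⁻¹ * (u * (h * m * h⁻¹)) * h := by group
          rw [h1, huv]
          group
        rw [e]
        exact (H : Subgroup G).mul_mem (hTH hv) hhH
    · push Not at htriv
      obtain ⟨t, ht, hc, ht1⟩ := htriv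
      exact ⟨t, ht1, hTH ht, hTH hc⟩
  by_cases hx : x ∈ N
  · exact key x hx
  · have hxh : x * h ∈ N := (Subgroup.mul_mem_iff_of_index_two hidx).2 (iff_of_false hx hhN)
    obtain ⟨y, hy1, hyH, hyc⟩ := key (x * h) hxh
    refine ⟨y, hy1, hyH, ?_⟩
    have e : x⁻¹ * y * x = h * ((x * h)⁻¹ * y * (x * h)) * h⁻¹ := by group
    rw [e]
    exact (H : Subgroup G).mul_mem ((H : Subgroup G).mul_mem hhH hyc)
      ((H : Subgroup G).inv_mem hhH)

theorem abstract_main (N : Subgroup G) [hNn : N.Normal] (hidx : N.index = 2)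
    (T : Subgroup G) (hTN : T ≤ N) (hT : IsPGroup 2 T)
    (ha : ∀ g ∈ N, g ∈ Subgroup.normalizer (T : Set G) → g ∈ T)
    (h4 : ∀ g ∈ N, ∀ g' ∈ N, (∀ t ∈ T, g⁻¹ * t * g ∈ T → t = 1) →
        (∀ t ∈ T, g'⁻¹ * t * g' ∈ T → t = 1) → ∃ u ∈ T, ∃ v ∈ T, u * g = g' * v)
    (H : Sylow 2 G) (x : G) :
    (H : Subgroup G) ⊓ MulAut.conj x • (H : Subgroup G) ≠ ⊥ := by
  haveI : Fact (Nat.Prime 2) := ⟨Nat.prime_two⟩
  obtain ⟨H₀, hTH₀⟩ := hT.exists_le_sylow
  obtain ⟨g, hg⟩ := MulAction.exists_smul_eq G H₀ H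
  obtain ⟨y, hy1, hyH, hyc⟩ := lemmaA N hidx T hTN ha h4 H₀ hTH₀ (g⁻¹ * x * g)
  have hmem : ∀ z, z ∈ (H : Subgroup G) ↔ g⁻¹ * z * g ∈ (H₀ : Subgroup G) := by
    intro z
    rw [← hg, Sylow.coe_subgroup_smul, Subgroup.mem_pointwise_smul_iff_inv_smul_mem,
      MulAut.smul_def, MulAut.conj_inv_apply]
  intro hbot
  have hy' : g * y * g⁻¹ ∈ (H : Subgroup G) ⊓ MulAut.conj x • (H : Subgroup G) := by
    refine ⟨(hmem _).2 ?_, ?_⟩
    · have e : g⁻¹ * (g * y * g⁻¹) * g = y := by group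
      rw [e]; exact hyH
    · change g * y * g⁻¹ ∈ MulAut.conj x • (H : Subgroup G)
      rw [Subgroup.mem_pointwise_smul_iff_inv_smul_mem, MulAut.smul_def, MulAut.conj_inv_apply,
        hmem]
      have e : g⁻¹ * (x⁻¹ * (g * y * g⁻¹) * x) * g = (g⁻¹ * x * g)⁻¹ * y * (g⁻¹ * x * g) := by
        group
      rw [e]; exact hyc
  rw [hbot, Subgroup.mem_bot] at hy'
  apply hy1
  have e : y = g⁻¹ * (g * y * g⁻¹) * g := by group
  rw [e, hy']
  group

end Abstract

open Pointwise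

/-- Let n ≥ 4 and let G be a finite group with a normal subgroup N of index 2 isomorphic to SL(n,2) and with trivial centralizer in G (so G is the extension of the simple group L_n(2) by its inverse-transpose automorphism, its full automorphism group). Then any two Sylow 2-subgroups of G have a non-trivial intersection: for a Sylow 2-subgroup H and every x ∈ G, H ∩ H^x ≠ 1. -/
theorem result {G : Type*} [Group G] [Finite G] {n : ℕ} (hn : 4 ≤ n) (N : Subgroup G) [N.Normal]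
    (e : N ≃* Matrix.SpecialLinearGroup (Fin n) (ZMod 2)) (hidx : N.index = 2)
    (hC : Subgroup.centralizer (N : Set G) = ⊥)
    (H : Sylow 2 G) (x : G) :
    (H : Subgroup G) ⊓ MulAut.conj x • (H : Subgroup G) ≠ ⊥ := by
  obtain ⟨φ, hφ⟩ : ∃ φ : SLn n →* G, φ = N.subtype.comp e.symm.toMonoidHom := ⟨_, rfl⟩
  have hφinj : Function.Injective φ := by
    rw [hφ]
    exact N.subtype_injective.comp e.symm.injective
  have hφN : ∀ s, φ s ∈ N := fun s => by rw [hφ]; exact (e.symm s).2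
  have hφe : ∀ g (hg : g ∈ N), φ (e ⟨g, hg⟩) = g := by
    intro g hg
    rw [hφ]
    simp
  obtain ⟨T, hT⟩ : ∃ T : Subgroup G, T = (Up n).map φ := ⟨_, rfl⟩
  have hTN : T ≤ N := by
    rw [hT]
    rintro _ ⟨s, _, rfl⟩
    exact hφN s
  have hmemT : ∀ s, φ s ∈ T ↔ s ∈ Up n := fun s => by
    rw [hT]
    exact Subgroup.mem_map_iff_mem hφinj
  have hTp : IsPGroup 2 T := by
    rw [hT]
    exact (Up_isPGroup (by omega)).map φ
  apply abstract_main N hidx T hTN hTp
  · intro g hg hgn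
    have : e ⟨g, hg⟩ ∈ Up n := by
      apply normalizer_Up
      rw [Subgroup.mem_normalizer_iff] at hgn ⊢
      intro s
      rw [← hmemT, ← hmemT (e ⟨g, hg⟩ * s * (e ⟨g, hg⟩)⁻¹), map_mul, map_mul, map_inv, hφe]
      exact hgn (φ s)
    rw [← hφe g hg, hmemT]
    exact this
  · intro g hg g' hg' h1 h2
    have key : ∀ (g : G) (hg : g ∈ N), (∀ t ∈ T, g⁻¹ * t * g ∈ T → t = 1) →
        ∀ t, t ∈ Up n → (e ⟨g, hg⟩)⁻¹ * t * (e ⟨g, hg⟩) ∈ Up n → t = 1 := by
      intro g hg h t ht hc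
      apply hφinj
      rw [map_one]
      apply h (φ t) ((hmemT t).2 ht)
      rw [← hmemT] at hc
      rw [map_mul, map_mul, map_inv, hφe] at hc
      exact hc
    obtain ⟨u, hu, v, hv, huv⟩ :=
      double_coset (e ⟨g, hg⟩) (e ⟨g', hg'⟩) (key g hg h1) (key g' hg' h2)
    refine ⟨φ u, (hmemT u).2 hu, φ v, (hmemT v).2 hv, ?_⟩
    have := congrArg φ huv
    rw [map_mul, map_mul, hφe, hφe] at this
    exact this

end Cfsg.Agent.S2486
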