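import Cfsg.Statements.S2490
import Cfsg.Agent.Lib.S2490.Adj
import Cfsg.Agent.Lib.S2490.Direct
import Cfsg.Agent.Lib.S2490.MinNormal
import Cfsg.Agent.Lib.S2490.Cases
import Cfsg.Agent.Lib.S2490.SmallC
import Cfsg.Agent.Lib.Lead.O1980
import Cfsg.Agent.Lib.Helper5.O3960

set_option autoImplicit false
open Cfsg

namespace Cfsg.Agent.S2490

open Cfsg.Agent.Lib.S2490

theorem n11_cases (k : ℕ) (h1 : k ∣ 720) (h2 : k % 11 = 1) :
    k = 1 ∨ k = 12 ∨ k = 45 ∨ k = 144 := by
  have hle : k ≤ 720 := Nat.le_of_dvd (by norm_num) h1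
  obtain ⟨j, rfl⟩ : ∃ j, k = 11 * j + 1 := ⟨k / 11, by omega⟩
  have hj : j ≤ 65 := by omega
  interval_cases j <;> omega

theorem card_cases_45 (c : ℕ) (h1 : 45 * 11 ∣ c) (h2 : c ∣ 7920) (h3 : c ≠ 7920) :
    c = 495 ∨ c = 990 ∨ c = 1980 ∨ c = 3960 := by
  obtain ⟨j, rfl⟩ := h1
  have hle : 45 * 11 * j ≤ 7920 := Nat.le_of_dvd (by norm_num) h2
  have hj : j ≤ 16 := by omega
  interval_cases j <;> omega

theorem card_cases_144 (c : ℕ) (h1 : 144 * 11 ∣ c) (h2 : c ∣ 7920) (h3 : c ≠ 7920) :
    c = 1584 := by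
  obtain ⟨j, rfl⟩ := h1
  have hle : 144 * 11 * j ≤ 7920 := Nat.le_of_dvd (by norm_num) h2
  have hj : j ≤ 5 := by omega
  interval_cases j <;> omega

/-- Let G be a finite group of order 7920 = 2⁴·3²·5·11 (the order of the smallest Mathieu group) and suppose its prime graph (vertices the prime divisors of the order, distinct p, q joined when there is an element of order pq) is disconnected: the prime divisors split into two non-empty parts with no element of order pq for p in one part and q in the other. Then G is simple. -/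
theorem result {G : Type*} [Group G] [Finite G] (hord : Nat.card G = 7920)
    (hdisc : (∃ A : Set ℕ, (∃ a ∈ A, a.Prime ∧ a ∣ Nat.card G) ∧ (∃ b ∉ A, b.Prime ∧ b ∣ Nat.card G) ∧
      ∀ a ∈ A, ∀ b ∉ A, a.Prime → b.Prime → a ∣ Nat.card G → b ∣ Nat.card G → ¬ ∃ g : G, orderOf g = a * b)) :
    IsSimpleGroup G := by
  by_contra hns
  have : Fact (Nat.Prime 11) := ⟨by norm_num⟩
  obtain ⟨P⟩ : Nonempty (Sylow 11 G) := inferInstance
  have hP : Nat.card (P : Subgroup G) = 11 :=
    Cfsg.Agent.Lib.Helper5.OrdKit.card_sylow_prime 720 (by rw [hord]) (by norm_num) P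
  have hidx : (P : Subgroup G).index = 720 := by
    have h := (P : Subgroup G).card_mul_index
    rw [hP, hord] at h
    omega
  have hdvd : Nat.card (Sylow 11 G) ∣ 720 := hidx ▸ P.card_dvd_index
  have hmod : Nat.card (Sylow 11 G) % 11 = 1 := by
    have h := card_sylow_modEq_one 11 G
    unfold Nat.ModEq at h
    rw [h]
  rcases n11_cases _ hdvd hmod with h | h | h | h
  · -- n11 = 1
    obtain ⟨h2, h3, h5⟩ := cert_of_card_sylow_small hord (Or.inl h)
    refine false_of_cert hord hdisc ?_
    intro s hs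
    simp only [Finset.mem_insert, Finset.mem_singleton] at hs
    rcases hs with rfl | rfl | rfl
    · exact Or.inl h2
    · exact Or.inl h3
    · rcases h5 with h5 | h5
      · exact Or.inl h5
      · exact Or.inr ⟨3, by simp, h3, h5⟩
  · -- n11 = 12
    obtain ⟨h2, h3, h5⟩ := cert_of_card_sylow_small hord (Or.inr h)
    refine false_of_cert hord hdisc ?_
    intro s hs
    simp only [Finset.mem_insert, Finset.mem_singleton] at hs
    rcases hs with rfl | rfl | rfl
    · exact Or.inl h2
    · exact Or.inl h3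
    · rcases h5 with h5 | h5
      · exact Or.inl h5
      · exact Or.inr ⟨3, by simp, h3, h5⟩
  all_goals
    by_cases hex : ∃ N : Subgroup G, N.Normal ∧ N ≠ ⊥ ∧ ¬ 11 ∣ Nat.card N
    · obtain ⟨N, hNn, hN1, hN11⟩ := hex
      have := hNn
      exact false_of_cert hord hdisc (cert_of_normal_coprime hord N hN1 hN11 (by omega))
    · push Not at hex
      obtain ⟨M, hMn, hMtop, hMs, hMd⟩ := exists_simple_normal_of_star hord hns hex
      have hMdvd : Nat.card M ∣ 7920 := hord ▸ Subgroup.card_subgroup_dvd_card M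
      have hMne : Nat.card M ≠ 7920 := by
        intro hc
        exact hMtop ((Subgroup.card_eq_iff_eq_top M).mp (hc.trans hord.symm))
      rw [h] at hMd
      first
      | (rcases card_cases_45 _ hMd hMdvd hMne with hc | hc | hc | hc
         · exact no_simple_495_c hc
         · exact no_simple_990_c hc
         · exact Cfsg.Agent.Lib.Lead.O1980.no_simple_1980 hc
         · exact Cfsg.Agent.Lib.Helper5.O3960.no_simple_3960 hc)
      | exact no_simple_1584_c (card_cases_144 _ hMd hMdvd hMne)

end Cfsg.Agent.S2490
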