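import Cfsg.Statements.S2496
import Mathlib
import Cfsg.Agent.S2366
import Cfsg.Agent.H9.Zsigmondy

set_option autoImplicit false
open Cfsg

namespace Cfsg.Agent.S2496

section Arith

open Cfsg.Agent.S2510 Cfsg.Agent.S2511

/-- the target order -/
def NN (q m : ℕ) : ℕ := if Even m then q ^ m + 1 else q ^ m - 1

theorem two_adic_iff (m Q : ℕ) (hm : 1 ≤ m) (hQ : 1 ≤ Q) :
    Nat.gcd (2 * m) Q ∣ m ↔ padicValNat 2 Q < padicValNat 2 (2 * m) := by
  have hm0 : m ≠ 0 := by omega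
  have hQ0 : Q ≠ 0 := by omega
  have hv : padicValNat 2 (2 * m) = padicValNat 2 m + 1 := by
    rw [padicValNat.mul (by norm_num) hm0, padicValNat_self, add_comm]
  rw [hv, Nat.lt_succ_iff]
  set g := Nat.gcd (2 * m) Q with hg
  have hg0 : g ≠ 0 := Nat.gcd_ne_zero_right hQ0
  constructor
  · intro h
    by_contra hlt
    push Not at hlt
    have h1 : 2 ^ (padicValNat 2 m + 1) ∣ Q :=
      (padicValNat_dvd_iff_le hQ0).2 hlt
    have h2 : 2 ^ (padicValNat 2 m + 1) ∣ 2 * m := by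
      rw [pow_succ, mul_comm]
      exact Nat.mul_dvd_mul_left 2 pow_padicValNat_dvd
    have h3 : 2 ^ (padicValNat 2 m + 1) ∣ m := dvd_trans (Nat.dvd_gcd h2 h1) h
    have := (padicValNat_dvd_iff_le hm0).1 h3
    omega
  · intro h
    obtain ⟨j, g', hodd, hgg⟩ := Nat.exists_eq_two_pow_mul_odd hg0
    have hgQ : g ∣ Q := Nat.gcd_dvd_right _ _
    have hg2m : g ∣ 2 * m := Nat.gcd_dvd_left _ _
    have hj : 2 ^ j ∣ m := by
      have h1 : 2 ^ j ∣ Q := dvd_trans ⟨g', hgg⟩ hgQ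
      have h2 := (padicValNat_dvd_iff_le hQ0).1 h1
      exact (padicValNat_dvd_iff_le hm0).2 (le_trans h2 h)
    have hg' : g' ∣ m := by
      have h1 : g' ∣ 2 * m := dvd_trans ⟨2 ^ j, by rw [hgg, mul_comm]⟩ hg2m
      exact (Nat.Coprime.dvd_of_dvd_mul_left (Nat.coprime_two_right.2 hodd) h1)
    rw [hgg]
    exact (Nat.Coprime.pow_left j (Nat.coprime_two_left.2 hodd)).mul_dvd_of_dvd_of_dvd hj hg'

theorem gcd_eq_of_dvd_add (a b c : ℕ) (h : c ∣ a + b) : Nat.gcd a c = Nat.gcd b c := by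
  apply Nat.dvd_antisymm
  · apply Nat.dvd_gcd _ (Nat.gcd_dvd_right _ _)
    have h1 : Nat.gcd a c ∣ a + b := dvd_trans (Nat.gcd_dvd_right _ _) h
    exact (Nat.dvd_add_right (Nat.gcd_dvd_left _ _)).1 h1
  · apply Nat.dvd_gcd _ (Nat.gcd_dvd_right _ _)
    have h1 : Nat.gcd b c ∣ a + b := dvd_trans (Nat.gcd_dvd_right _ _) h
    exact (Nat.dvd_add_left (Nat.gcd_dvd_left _ _)).1 h1

theorem sq_modEq (q : ℕ) (hq : 1 ≤ q) : q ^ 2 ≡ 1 [MOD q + 1] := by
  have h := Cfsg.Agent.S2512.sq_sub_one_factor q hq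
  have h1 : q ^ 2 = (q - 1) * (q + 1) + 1 := by
    have : 1 ≤ q ^ 2 := Nat.one_le_pow _ _ hq
    omega
  rw [h1]
  have : (q - 1) * (q + 1) + 1 ≡ 0 + 1 [MOD q + 1] :=
    Nat.ModEq.add_right 1 ((Nat.modEq_zero_iff_dvd).2 (dvd_mul_left _ _))
  simpa using this

theorem Nn_sq_modEq (q m : ℕ) (hq : 1 ≤ q) : Nn (q ^ 2) m ≡ m [MOD q + 1] := by
  induction m with
  | zero => simp [Nn]; rfl
  | succ m ih =>
    rw [Nn, Finset.sum_range_succ, ← Nn]
    have h1 : (q ^ 2) ^ m ≡ 1 [MOD q + 1] := by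
      have := (sq_modEq q hq).pow m
      rwa [one_pow] at this
    exact ih.add h1

theorem NPlus_add (q m : ℕ) (hq : 1 ≤ q) : (q + 1) ∣ NPlus q m + 2 * m := by
  rw [NPlus]
  have h1 : Nn (q ^ 2) m * (q - 1) ≡ m * (q - 1) [MOD q + 1] := (Nn_sq_modEq q m hq).mul_right _
  have h2 : Nn (q ^ 2) m * (q - 1) + 2 * m ≡ m * (q - 1) + 2 * m [MOD q + 1] := h1.add_right _
  have h3 : m * (q - 1) + 2 * m = m * (q + 1) := by
    obtain ⟨s, rfl⟩ : ∃ s, q = s + 1 := ⟨q - 1, by omega⟩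
    simp only [Nat.add_sub_cancel]
    ring
  rw [h3] at h2
  have h4 : m * (q + 1) ≡ 0 [MOD q + 1] := (Nat.modEq_zero_iff_dvd).2 (dvd_mul_left _ _)
  exact (Nat.modEq_zero_iff_dvd).1 (h2.trans h4)

/-- `(q^(2k)-1)/(q+1) + 2k ≡ 0` -/
theorem E1_mod (q k : ℕ) (hq : 1 ≤ q) :
    ∃ E : ℕ, (q + 1) * E = q ^ (2 * k) - 1 ∧ (q + 1) ∣ E + 2 * k := by
  induction k with
  | zero => exact ⟨0, by simp, by simp⟩
  | succ k ih =>
    obtain ⟨E, hE, hEk⟩ := ih
    refine ⟨q ^ 2 * E + (q - 1), ?_, ?_⟩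
    · have h1 : 1 ≤ q ^ (2 * k) := Nat.one_le_pow _ _ hq
      have h2 : q ^ (2 * (k + 1)) = q ^ 2 * q ^ (2 * k) := by rw [← pow_add]; congr 1; ring
      have h3 : q ^ (2 * k) = (q + 1) * E + 1 := by omega
      have h4 := Cfsg.Agent.S2512.sq_sub_one_factor q hq
      have h5 : 1 ≤ q ^ 2 := Nat.one_le_pow _ _ hq
      have h6 : q ^ 2 = (q - 1) * (q + 1) + 1 := by omega
      rw [h2, h3]
      have : q ^ 2 * ((q + 1) * E + 1) = (q + 1) * (q ^ 2 * E) + q ^ 2 := by ring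
      rw [this]
      have h7 : (q + 1) * (q ^ 2 * E + (q - 1)) = (q + 1) * (q ^ 2 * E) + (q - 1) * (q + 1) := by ring
      rw [h7]
      omega
    · have h1 : q ^ 2 * E ≡ 1 * E [MOD q + 1] := (sq_modEq q hq).mul_right E
      have h2 : q ^ 2 * E + (q - 1) + 2 * (k + 1) ≡ 1 * E + (q - 1) + 2 * (k + 1) [MOD q + 1] :=
        (h1.add_right _).add_right _
      have h3 : 1 * E + (q - 1) + 2 * (k + 1) = (E + 2 * k) + (q + 1) := by
        obtain ⟨s, rfl⟩ : ∃ s, q = s + 1 := ⟨q - 1, by omega⟩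
        simp only [Nat.add_sub_cancel]
        ring
      rw [h3] at h2
      have h4 : (E + 2 * k) + (q + 1) ≡ 0 [MOD q + 1] :=
        (Nat.modEq_zero_iff_dvd).2 (dvd_add hEk dvd_rfl)
      exact (Nat.modEq_zero_iff_dvd).1 (h2.trans h4)

/-- `(q^(2k+1)+1)/(q+1) ≡ 2k+1` -/
theorem E2_mod (q k : ℕ) (hq : 1 ≤ q) :
    ∃ E : ℕ, (q + 1) * E = q ^ (2 * k + 1) + 1 ∧ E ≡ 2 * k + 1 [MOD q + 1] := by
  induction k with
  | zero => exact ⟨1, by simp, by rfl⟩
  | succ k ih =>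
    obtain ⟨E, hE, hEk⟩ := ih
    -- q^(m+2)+1 = q^2 (q^m+1) - (q^2-1)
    have h5 : 1 ≤ q ^ 2 := Nat.one_le_pow _ _ hq
    have h4 := Cfsg.Agent.S2512.sq_sub_one_factor q hq
    have hE1 : 1 ≤ E := by
      rcases Nat.eq_zero_or_pos E with h0 | h0
      · rw [h0, mul_zero] at hE
        omega
      · exact h0
    have hle : (q - 1) ≤ q ^ 2 * E := by
      have : q ≤ q ^ 2 := by nlinarith
      calc q - 1 ≤ q ^ 2 := by omega
        _ = q ^ 2 * 1 := (mul_one _).symm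
        _ ≤ q ^ 2 * E := Nat.mul_le_mul_left _ hE1
    refine ⟨q ^ 2 * E - (q - 1), ?_, ?_⟩
    · have h2 : q ^ (2 * (k + 1) + 1) = q ^ 2 * q ^ (2 * k + 1) := by rw [← pow_add]; congr 1; ring
      have h3 : q ^ 2 * ((q + 1) * E) = q ^ 2 * q ^ (2 * k + 1) + q ^ 2 := by rw [hE]; ring
      rw [Nat.mul_sub, h2]
      have h7 : (q + 1) * (q ^ 2 * E) = q ^ 2 * ((q + 1) * E) := by ring
      rw [h7, h3, mul_comm (q + 1) (q - 1), ← h4]
      omega
    · -- (q^2 E - (q-1)) + (q-1) + 2 ≡ E + 2 + (q - 1)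
      have h1 : q ^ 2 * E ≡ 1 * E [MOD q + 1] := (sq_modEq q hq).mul_right E
      have h2 : q ^ 2 * E - (q - 1) + (q + 1) ≡ E + 2 [MOD q + 1] := by
        have e : q ^ 2 * E - (q - 1) + (q + 1) = q ^ 2 * E + 2 := by omega
        rw [e]
        have := h1.add_right 2
        rwa [one_mul] at this
      have h3 : q ^ 2 * E - (q - 1) + (q + 1) ≡ q ^ 2 * E - (q - 1) + 0 [MOD q + 1] :=
        Nat.ModEq.add_left _ ((Nat.modEq_zero_iff_dvd).2 dvd_rfl)
      rw [add_zero] at h3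
      have h6 : E + 2 ≡ 2 * k + 1 + 2 [MOD q + 1] := hEk.add_right 2
      have e2 : 2 * (k + 1) + 1 = 2 * k + 1 + 2 := by ring
      rw [e2]
      exact (h3.symm.trans h2).trans h6

end Arith

section Zs

theorem dvd_pow_sub_one_iff (r q k : ℕ) (hq : 1 ≤ q) :
    r ∣ q ^ k - 1 ↔ ((q : ZMod r)) ^ k = 1 := by
  rw [← ZMod.natCast_eq_zero_iff, Nat.cast_sub (Nat.one_le_pow _ _ hq), Nat.cast_pow, Nat.cast_one,
    sub_eq_zero]

theorem ord_of_primitive (r q E : ℕ) (hq : 1 ≤ q) (hE : 0 < E) (h1 : r ∣ q ^ E - 1)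
    (h2 : ∀ k, 0 < k → k < E → ¬ r ∣ q ^ k - 1) (k : ℕ) (hk : r ∣ q ^ k - 1) : E ∣ k := by
  have ho : orderOf (q : ZMod r) = E := by
    rw [orderOf_eq_iff hE]
    refine ⟨(dvd_pow_sub_one_iff r q E hq).1 h1, ?_⟩
    intro j hj hj0 h
    exact h2 j hj0 hj ((dvd_pow_sub_one_iff r q j hq).2 h)
  rw [← ho]
  exact orderOf_dvd_of_pow_eq_one ((dvd_pow_sub_one_iff r q k hq).1 hk)

theorem pow_two_mul_sub_one (q m : ℕ) (hq : 1 ≤ q) :
    q ^ (2 * m) - 1 = (q ^ m - 1) * (q ^ m + 1) := by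
  have h := Cfsg.Agent.S2512.sq_sub_one_factor (q ^ m) (Nat.one_le_pow _ _ hq)
  rw [← h, ← pow_mul, mul_comm]

theorem zs_facts (q m : ℕ) (hq : Odd q) (hq3 : 3 ≤ q) (hm : 2 ≤ m) :
    ∃ r : ℕ, r.Prime ∧ r ∣ NN q m ∧ ¬ r ∣ q + 1 ∧ ¬ r ∣ q ∧
      (∀ k, r ∣ (q ^ 2) ^ k - 1 → m ∣ k) ∧ (Odd m → ¬ r ∣ q ^ m + 1) := by
  have hq1 : 1 ≤ q := by omega
  have hsq : ∀ r : ℕ, r ∣ q + 1 → r ∣ q ^ 2 - 1 := by
    intro r h
    rw [Cfsg.Agent.S2512.sq_sub_one_factor q hq1]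
    exact dvd_mul_of_dvd_right h _
  have hnq : ∀ (r E : ℕ), r.Prime → 0 < E → r ∣ q ^ E - 1 → ¬ r ∣ q := by
    intro r E hr hE h1 h2
    have h3 : r ∣ q ^ E := dvd_pow h2 (by omega)
    have h4 : 1 ≤ q ^ E := Nat.one_le_pow _ _ hq1
    have h5 : r ∣ q ^ E - (q ^ E - 1) := Nat.dvd_sub h3 h1
    have h6 : q ^ E - (q ^ E - 1) = 1 := by omega
    rw [h6] at h5
    exact hr.one_lt.ne' (Nat.dvd_one.1 h5)
  rcases Nat.even_or_odd m with hme | hmo
  · -- E = 2m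
    obtain ⟨r, hr, h1, h2⟩ := Cfsg.Agent.H9.Zsigmondy.zsigmondy q (2 * m) (by omega) (by omega)
      (by omega) (by omega)
    refine ⟨r, hr, ?_, ?_, hnq r (2 * m) hr (by omega) h1, ?_, ?_⟩
    · rw [NN, if_pos hme]
      rw [pow_two_mul_sub_one q m hq1] at h1
      rcases (Nat.Prime.dvd_mul hr).1 h1 with h | h
      · exact absurd h (h2 m (by omega) (by omega))
      · exact h
    · intro h
      exact h2 2 (by omega) (by omega) (hsq r h)
    · intro k hk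
      rw [← pow_mul] at hk
      have := ord_of_primitive r q (2 * m) hq1 (by omega) h1 h2 (2 * k) hk
      exact (Nat.mul_dvd_mul_iff_left (by norm_num : 0 < 2)).1 this
    · intro h
      exact absurd hme (Nat.not_even_iff_odd.2 h)
  · -- E = m
    have hm3 : 3 ≤ m := by
      obtain ⟨k, hk⟩ := hmo
      omega
    obtain ⟨r, hr, h1, h2⟩ := Cfsg.Agent.H9.Zsigmondy.zsigmondy q m (by omega) (by omega)
      (by omega) (by omega)
    have hrq1 : ¬ r ∣ q + 1 := by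
      intro h
      exact h2 2 (by omega) (by omega) (hsq r h)
    refine ⟨r, hr, ?_, hrq1, hnq r m hr (by omega) h1, ?_, ?_⟩
    · rw [NN, if_neg (Nat.not_even_iff_odd.2 hmo)]
      exact h1
    · intro k hk
      rw [← pow_mul] at hk
      have := ord_of_primitive r q m hq1 (by omega) h1 h2 (2 * k) hk
      exact (Nat.Coprime.dvd_of_dvd_mul_left (Nat.coprime_two_right.2 hmo) this)
    · intro _ h
      have h4 : 1 ≤ q ^ m := Nat.one_le_pow _ _ hq1
      have h5 : r ∣ q ^ m + 1 - (q ^ m - 1) := Nat.dvd_sub h h1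
      have h6 : q ^ m + 1 - (q ^ m - 1) = 2 := by omega
      rw [h6] at h5
      have hr2 : r = 2 := (Nat.prime_dvd_prime_iff_eq hr Nat.prime_two).1 h5
      apply hrq1
      rw [hr2]
      obtain ⟨k, hk⟩ := hq
      exact ⟨k + 1, by omega⟩

end Zs

section Arith2

open Cfsg.Agent.S2510 Cfsg.Agent.S2511

theorem NN_pos (q m : ℕ) (hq : 2 ≤ q) (hm : 1 ≤ m) : 0 < NN q m := by
  rw [NN]
  split_ifs
  · omega
  · have : 2 ≤ q ^ m := by
      calc 2 ≤ q := hq
        _ = q ^ 1 := (pow_one q).symm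
        _ ≤ q ^ m := Nat.pow_le_pow_right (by omega) hm
    omega

/-- `NPlus q m = E * NN q m` with `g ∣ E ↔ g ∣ m` for `g ∣ q+1` -/
theorem NPlus_factor (q m : ℕ) (hq : 1 ≤ q) :
    ∃ E : ℕ, NPlus q m = E * NN q m ∧ ∀ g : ℕ, g ∣ q + 1 → (g ∣ E ↔ g ∣ m) := by
  have hmul := NPlus_mul q m hq
  rw [pow_two_mul_sub_one q m hq] at hmul
  have hq0 : 0 < q + 1 := by omega
  rcases Nat.even_or_odd' m with ⟨k, hk | hk⟩
  · obtain ⟨E, hE, hEk⟩ := E1_mod q k hq
    rw [← hk] at hE hEk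
    refine ⟨E, ?_, ?_⟩
    · rw [NN, if_pos ⟨k, by omega⟩]
      apply Nat.eq_of_mul_eq_mul_left hq0
      rw [hmul, ← hE]
      ring
    · intro g hg
      have h1 : g ∣ E + m := dvd_trans hg hEk
      constructor
      · intro h
        exact (Nat.dvd_add_right h).1 h1
      · intro h
        exact (Nat.dvd_add_left h).1 h1
  · obtain ⟨E, hE, hEk⟩ := E2_mod q k hq
    rw [← hk] at hE hEk
    refine ⟨E, ?_, ?_⟩
    · rw [NN, if_neg (Nat.not_even_iff_odd.2 ⟨k, hk⟩)]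
      apply Nat.eq_of_mul_eq_mul_left hq0
      rw [hmul, mul_comm (q ^ m - 1), ← hE]
      ring
    · intro g hg
      have h1 : E ≡ m [MOD g] := hEk.of_dvd hg
      exact h1.dvd_iff dvd_rfl

theorem NU_even (q m : ℕ) : NU q (2 * m) = NPlus q m := by
  rw [NU, if_pos ⟨m, by ring⟩, Nat.mul_div_cancel_left m (by norm_num : 0 < 2)]

theorem N_dvd_c1U_iff (q m : ℕ) (hq : 2 ≤ q) (hm : 1 ≤ m) :
    NN q m ∣ c1U q (2 * m) ↔ Nat.gcd (2 * m) (q + 1) ∣ m := by
  have hq1 : 1 ≤ q := by omega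
  rw [c1U, NU_even]
  have hg : Nat.gcd (NPlus q m) (q + 1) = Nat.gcd (2 * m) (q + 1) :=
    gcd_eq_of_dvd_add _ _ _ (NPlus_add q m hq1)
  rw [hg]
  set g := Nat.gcd (2 * m) (q + 1) with hgdef
  have hgq : g ∣ q + 1 := Nat.gcd_dvd_right _ _
  have hgN : g ∣ NPlus q m := by
    rw [← hg]
    exact Nat.gcd_dvd_left _ _
  obtain ⟨E, hE, hEg⟩ := NPlus_factor q m hq1
  have hN0 := NN_pos q m hq hm
  rw [Nat.dvd_div_iff_mul_dvd hgN, hE, mul_comm g, mul_comm E, Nat.mul_dvd_mul_iff_left hN0]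
  exact hEg g hgq

end Arith2

section Hadj

open Polynomial Matrix Cfsg.Agent.S2510 Cfsg.Agent.S2511 Cfsg.Agent.S2366

variable {K : Type*} [Field K] (σ : K →+* K) {ι : Type*} [Fintype ι] [DecidableEq ι]
  (M : Matrix ι ι K)

theorem hadj_direct (hM : adjU σ M * M = 1) (o : ℕ) (ho : 1 ≤ o) (hMo : M ^ o = 1)
    (a b u v : K[X]) (hab : minpoly K M = a * b) (huv : u * a + v * b = 1)
    (h1 : b ∣ star σ a) (h2 : a ∣ star σ b) :
    adjU σ (aeval M (u * a)) = 1 - aeval M (u * a) := by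
  have hψ := adjU_eq_pow σ M hM o ho hMo
  have hμo := minpoly_dvd_pow_sub_one M o hMo
  have hao : a ∣ X ^ o - 1 := dvd_trans ⟨b, hab⟩ hμo
  have hbo : b ∣ X ^ o - 1 := dvd_trans ⟨a, by rw [hab, mul_comm]⟩ hμo
  have hb' : b ∣ tw σ (X ^ (o - 1)) a := (dvd_reverse_iff_dvd_comp b (a.map σ) o ho hbo).1 h1
  have ha' : a ∣ tw σ (X ^ (o - 1)) b := (dvd_reverse_iff_dvd_comp a (b.map σ) o ho hao).1 h2
  have h1P : aeval M (v * b) = 1 - aeval M (u * a) :=
    (Cfsg.Agent.S2512.coprime_idem M a b u v hab huv).2.2.2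
  rw [adjU_aeval_eq σ M _ hψ, ← h1P, ← sub_eq_zero, ← map_sub, ← minpoly.dvd_iff, hab]
  have hcop : IsCoprime a b := ⟨u, v, huv⟩
  apply hcop.mul_dvd
  · have e : u * a = 1 - v * b := eq_sub_of_add_eq huv
    have e3 : tw σ (X ^ (o - 1)) (u * a)
        = 1 - tw σ (X ^ (o - 1)) v * tw σ (X ^ (o - 1)) b := by
      rw [e, ← tw_mul]
      unfold tw
      simp only [Polynomial.map_sub, Polynomial.map_one, sub_comp, one_comp]
    have e2 : tw σ (X ^ (o - 1)) (u * a) - v * b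
        = u * a - tw σ (X ^ (o - 1)) v * tw σ (X ^ (o - 1)) b := by
      rw [e3]
      linear_combination (-1 : K[X]) * huv
    rw [e2]
    exact dvd_sub (dvd_mul_left _ _) (dvd_mul_of_dvd_right ha' _)
  · rw [tw_mul]
    exact dvd_sub (dvd_mul_of_dvd_right hb' _) (dvd_mul_left _ _)

end Hadj

section Struct

open Polynomial Matrix Cfsg.Agent.S2510 Cfsg.Agent.S2511 Cfsg.Agent.S2366

variable {K : Type*} [Field K]

theorem prime_dvd_of_root (f : K[X]) (r o' j : ℕ) (hr : r.Prime)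
    (h1 : f ∣ X ^ (r * o') - 1) (h2 : ¬ f ∣ X ^ o' - 1) (h3 : f ∣ X ^ j - 1) : r ∣ j := by
  by_contra hrj
  apply h2
  have e : ∀ k : ℕ, f ∣ X ^ k - 1 ↔ (AdjoinRoot.root f) ^ k = 1 := by
    intro k
    rw [← AdjoinRoot.mk_eq_zero, map_sub, map_pow, AdjoinRoot.mk_X, map_one, sub_eq_zero]
  rw [e] at h1 h3 ⊢
  have h4 := pow_gcd_eq_one.2 ⟨h1, h3⟩
  have hcop : Nat.Coprime r j := (Nat.Prime.coprime_iff_not_dvd hr).2 hrj
  have h5 : Nat.gcd (r * o') j ∣ o' := by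
    have : Nat.gcd (r * o') j = Nat.gcd o' j := Nat.Coprime.gcd_mul_left_cancel o' hcop
    rw [this]
    exact Nat.gcd_dvd_left _ _
  obtain ⟨t, ht⟩ := h5
  rw [ht, pow_mul, h4, one_pow]

variable [Fintype K] {q : ℕ}

theorem struct (hF : Fintype.card K = q ^ 2) (p a : ℕ) [Fact p.Prime] [CharP K p]
    (hq : q = p ^ a) (σ : K →+* K) (hσ : ∀ x, σ x = x ^ q) (hσ2 : ∀ a : K, σ (σ a) = a)
    (m : ℕ) (hm : 2 ≤ m) (n : ℕ) (hn : n = 2 * m) (M : Matrix (Fin n) (Fin n) K)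
    (hM : adjU σ M * M = 1) (hdet : M.det = 1)
    (N : ℕ) (hN : 1 ≤ N) (hNp : Nat.Coprime N p) (r : ℕ) (hr : r.Prime) (hrN : r ∣ N)
    (hrq1 : ¬ r ∣ q + 1)
    (h3 : ∀ k, r ∣ (q ^ 2) ^ k - 1 → m ∣ k) (h4 : Odd m → ¬ r ∣ q ^ m + 1)
    (c : K) (hMN : M ^ N = c • (1 : Matrix (Fin n) (Fin n) K))
    (hmin : ∀ (j : ℕ) (c : K), M ^ j = c • (1 : Matrix (Fin n) (Fin n) K) → N ∣ j) :
    ∃ s : K, M ^ (c1U q n) = s • (1 : Matrix (Fin n) (Fin n) K) := by
  classical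
  subst hn
  have hp : p.Prime := Fact.out
  have hq2 := two_le_q hF
  have hpq : p ∣ q := p_dvd_q hF p a hq
  have hu := unitary_pow σ M hM N
  rw [hMN, adjU_smul, adjU_one, smul_mul_smul_comm, mul_one] at hu
  have hc : σ c * c = 1 := by
    have := congrFun (congrFun hu ⟨0, by omega⟩) ⟨0, by omega⟩
    rw [Matrix.smul_apply, Matrix.one_apply_eq, smul_eq_mul, mul_one] at this
    exact this
  have hc' : c ^ (q + 1) = 1 := by
    rw [pow_succ, ← hσ]
    exact hc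
  obtain ⟨N', rfl⟩ := hrN
  have hN' : 1 ≤ N' := by
    rcases Nat.eq_zero_or_pos N' with h | h
    · rw [h, mul_zero] at hN
      omega
    · exact h
  set o' := N' * (q + 1) with ho'
  have hoeq : r * N' * (q + 1) = r * o' := by rw [ho']; ring
  have hMo : M ^ (r * o') = 1 := by
    rw [← hoeq, pow_mul, hMN, _root_.smul_pow, one_pow, hc', one_smul]
  have ho : 1 ≤ r * o' := by
    have h1 : 1 ≤ r := hr.one_lt.le
    have h2 : 1 ≤ o' := by
      rw [ho']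
      exact Nat.mul_pos hN' (by omega)
    exact Nat.mul_pos h1 h2
  have hmonic : (minpoly K M).Monic := minpoly.monic (Matrix.isIntegral M)
  have hμ0 : minpoly K M ≠ 0 := hmonic.ne_zero
  have hμo := minpoly_dvd_pow_sub_one M (r * o') hMo
  have hnot : ¬ minpoly K M ∣ X ^ o' - 1 := by
    intro h
    rw [minpoly.dvd_iff, map_sub, map_pow, aeval_X, map_one, sub_eq_zero] at h
    have h1 := hmin o' 1 (by rw [h, one_smul])
    rw [ho'] at h1
    have h2 : r * N' ∣ (q + 1) * N' := by rwa [mul_comm (q + 1)]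
    exact hrq1 ((Nat.mul_dvd_mul_iff_right hN').1 h2)
  -- separability
  have hne : ((r * o' : ℕ) : K) ≠ 0 := by
    rw [Ne, CharP.cast_eq_zero_iff K p, ← hoeq]
    intro h
    rcases (Nat.Prime.dvd_mul hp).1 h with h | h
    · have := Nat.Coprime.eq_one_of_dvd hNp.symm h
      exact hp.one_lt.ne' this
    · have h5 : p ∣ q + 1 - q := Nat.dvd_sub h hpq
      have h6 : q + 1 - q = 1 := by omega
      rw [h6] at h5
      exact hp.one_lt.ne' (Nat.dvd_one.1 h5)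
  have hsqf : Squarefree (X ^ (r * o') - 1 : K[X]) := by
    have := (separable_X_pow_sub_C (1 : K) hne one_ne_zero).squarefree
    simpa using this
  have hex : ∃ f : K[X], Irreducible f ∧ f ∣ minpoly K M ∧ ¬ f ∣ X ^ o' - 1 := by
    by_contra hcon
    push Not at hcon
    apply hnot
    apply dvd_of_forall_prime_pow _ _ hμ0
    intro f e hf hfe
    rcases e with _ | _ | e
    · simp
    · rw [zero_add, pow_one] at hfe ⊢
      exact hcon f hf hfe
    · exfalso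
      have : f * f ∣ X ^ (r * o') - 1 :=
        dvd_trans (dvd_trans ⟨f ^ e, by ring⟩ hfe) hμo
      exact hf.not_isUnit (hsqf f this)
  obtain ⟨f, hf, hfμ, hfo'⟩ := hex
  have hfo : f ∣ X ^ (r * o') - 1 := dvd_trans hfμ hμo
  have hfX : ¬ f ∣ X := by
    intro h
    have h1 : f ∣ X ^ (r * o') := dvd_pow h (by omega)
    have h2 : f ∣ 1 := by
      have := dvd_sub h1 hfo
      simpa using this
    exact hf.not_isUnit (isUnit_of_dvd_one h2)
  have hfQ := Cfsg.Agent.S2512.irr_dvd_pow_sub_one f hf hfX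
  rw [hF] at hfQ
  have hrQ : r ∣ (q ^ 2) ^ f.natDegree - 1 := prime_dvd_of_root f r o' _ hr hfo hfo' hfQ
  have hmd : m ∣ f.natDegree := h3 _ hrQ
  have hd1 : 1 ≤ f.natDegree := hf.natDegree_pos
  have hdn : f.natDegree ≤ 2 * m :=
    le_trans (natDegree_le_of_dvd hfμ hμ0) (minpoly_natDegree_le_fin (2 * m) M)
  have hf0 := coeff_zero_ne_of_dvd f (r * o') ho hfo
  have hs := star_dvd_minpoly σ M hM (r * o') ho hMo f hfμ
  by_cases hfs : f ∣ star σ f
  · exfalso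
    obtain ⟨hodd, hfq⟩ := irr_selfdual hF p a hq σ hσ hσ2 M (r * o') ho hMo f hf hfμ hfs
    have hrq : r ∣ q ^ f.natDegree + 1 := prime_dvd_of_root f r o' _ hr hfo hfo' hfq
    obtain ⟨s, hs'⟩ := hmd
    have hs2 : s ≤ 2 := by
      have : m * s ≤ m * 2 := by rw [← hs', mul_comm m 2]; exact hdn
      exact Nat.le_of_mul_le_mul_left this (by omega)
    have hs1 : s = 1 := by
      interval_cases s
      · omega
      · rfl
      · rw [hs'] at hodd
        exact absurd hodd (Nat.not_odd_iff_even.2 ⟨m, by ring⟩)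
    rw [hs1, mul_one] at hs'
    rw [hs'] at hodd hrq
    exact h4 hodd hrq
  · have hcop : IsCoprime f (star σ f) := hf.coprime_iff_not_dvd.2 hfs
    have h3' : f * star σ f ∣ minpoly K M := hcop.mul_dvd hfμ hs
    have hsd : (star σ f).natDegree = f.natDegree := star_natDegree σ f hf0
    have hs0 : star σ f ≠ 0 := star_ne_zero σ f hf.ne_zero
    have hdle := natDegree_le_of_dvd h3' hμ0
    rw [natDegree_mul hf.ne_zero hs0, hsd] at hdle
    have hμn := minpoly_natDegree_le_fin (2 * m) M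
    have hdm : f.natDegree = m := by
      have h1 : m ≤ f.natDegree := Nat.le_of_dvd hd1 hmd
      omega
    obtain ⟨w, hw⟩ := h3'
    have hw0 : w ≠ 0 := by
      rintro rfl
      rw [mul_zero] at hw
      exact hμ0 hw
    have hwdeg : w.natDegree = 0 := by
      have := congrArg natDegree hw
      rw [natDegree_mul (mul_ne_zero hf.ne_zero hs0) hw0, natDegree_mul hf.ne_zero hs0, hsd] at this
      omega
    have hwu : IsUnit w := by
      rw [eq_C_of_natDegree_eq_zero hwdeg]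
      apply Polynomial.isUnit_C.2
      rw [isUnit_iff_ne_zero]
      intro h0
      apply hw0
      rw [eq_C_of_natDegree_eq_zero hwdeg, h0, map_zero]
    have hab : minpoly K M = f * (star σ f * w) := by rw [hw, mul_assoc]
    have hcop2 : IsCoprime f (star σ f * w) := (isCoprime_mul_unit_right_right hwu f _).2 hcop
    obtain ⟨u, v, huv⟩ := hcop2
    have hb1 : star σ f * w ∣ star σ f := (IsUnit.mul_right_dvd hwu).2 dvd_rfl
    have hb2 : f ∣ star σ (star σ f * w) := by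
      obtain ⟨k', hk'0, hk'⟩ := star_minpoly σ M hM (r * o') ho hMo
      rw [hab, Cfsg.Agent.S2366.star_mul] at hk'
      have h1 : f ∣ star σ f * star σ (star σ f * w) := by
        rw [hk']
        exact dvd_mul_of_dvd_right (dvd_mul_right _ _) _
      rcases hf.prime.dvd_or_dvd h1 with h | h
      · exact absurd h hfs
      · exact h
    have hadj := hadj_direct σ M hM (r * o') ho hMo f (star σ f * w) u v hab huv hb1 hb2
    have hdb : (star σ f * w).natDegree = m := by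
      rw [natDegree_mul hs0 hw0, hsd, hwdeg, hdm, add_zero]
    have hcox := cox_even hF σ hσ (2 * m) m rfl M hM hdet (r * o') ho hMo f (star σ f * w) u v hab huv
      hadj f 1 hf isUnit_one (mul_one f).symm hdm hdb
    rw [c1U, NU_even]
    exact hcox

end Struct

open Cfsg.Agent.S2510 Cfsg.Agent.S2511 Cfsg.Agent.S2366 in
theorem NN_coprime (q m p : ℕ) (hp : p.Prime) (hpq : p ∣ q) (hq : 2 ≤ q) (hm : 1 ≤ m) :
    Nat.Coprime (NN q m) p := by
  rw [Nat.coprime_comm, Nat.Prime.coprime_iff_not_dvd hp]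
  intro h
  have h1 : p ∣ q ^ m := dvd_pow hpq (by omega)
  have h2 : 2 ≤ q ^ m := by
    calc 2 ≤ q := hq
      _ = q ^ 1 := (pow_one q).symm
      _ ≤ q ^ m := Nat.pow_le_pow_right (by omega) hm
  rw [NN] at h
  split_ifs at h
  · have h5 : p ∣ q ^ m + 1 - q ^ m := Nat.dvd_sub h h1
    have h6 : q ^ m + 1 - q ^ m = 1 := by omega
    rw [h6] at h5
    exact hp.one_lt.ne' (Nat.dvd_one.1 h5)
  · have h5 : p ∣ q ^ m - (q ^ m - 1) := Nat.dvd_sub h1 h
    have h6 : q ^ m - (q ^ m - 1) = 1 := by omega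
    rw [h6] at h5
    exact hp.one_lt.ne' (Nat.dvd_one.1 h5)

/-- Let q be an odd prime power, n ≥ 4 even, and U = PSU(n,q) (realised over the field with q² elements). Then U has an element of order q^(n/2) + (−1)^(n/2) — that is, q^(n/2) + 1 when n/2 is even and q^(n/2) − 1 when n/2 is odd — if and only if the 2-part of n exceeds the 2-part of q + 1. -/
theorem result {F : Type*} [Field F] [Fintype F] {q : ℕ} (hF : Fintype.card F = q ^ 2) (hodd : Odd q)
    {n : ℕ} (hn : 4 ≤ n) (heven : Even n) :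
    (∃ g : Cfsg.PSU n F q, orderOf g = if Even (n / 2) then q ^ (n / 2) + 1 else q ^ (n / 2) - 1) ↔
      padicValNat 2 (q + 1) < padicValNat 2 n := by
  classical
  obtain ⟨m, hm⟩ := heven
  have hn2 : n = 2 * m := by omega
  subst hn2
  have hdiv : 2 * m / 2 = m := Nat.mul_div_cancel_left m (by norm_num)
  rw [hdiv]
  have hm2 : 2 ≤ m := by omega
  have hq2 := Cfsg.Agent.S2511.two_le_q hF
  have hq3 : 3 ≤ q := by
    obtain ⟨k, hk⟩ := hodd
    omega
  obtain ⟨p, hchar⟩ := CharP.exists F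
  haveI := hchar
  have hp : p.Prime := by
    obtain ⟨n, hprime, -⟩ := FiniteField.card F p
    exact hprime
  haveI : Fact p.Prime := ⟨hp⟩
  obtain ⟨a, hq⟩ : ∃ a, q = p ^ a := by
    obtain ⟨n, hprime, hcard⟩ := FiniteField.card F p
    have hdvd : q ∣ p ^ (n : ℕ) := by
      rw [← hcard, hF]
      exact Dvd.intro_left _ (by ring)
    obtain ⟨j, _, hj⟩ := (Nat.dvd_prime_pow hprime).1 hdvd
    exact ⟨j, hj⟩
  obtain ⟨σ, hσ, hσne, hσ2⟩ := Cfsg.Agent.S0277.exists_frob hF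
  have hfinS := Cfsg.Agent.S2511.finite_SU (K := F) (q := q) (2 * m)
  have hfinP := Cfsg.Agent.S2511.finite_PSU (K := F) (q := q) (2 * m)
  have hclosed := Cfsg.Agent.S2510.range_dvd_closed (G := Cfsg.PSU (2 * m) F q)
  have hNN : (if Even m then q ^ m + 1 else q ^ m - 1) = NN q m := rfl
  rw [hNN, ← two_adic_iff m (q + 1) (by omega) (by omega), ← N_dvd_c1U_iff q m hq2 (by omega)]
  constructor
  · rintro ⟨g, hg⟩
    obtain ⟨A, rfl⟩ := QuotientGroup.mk_surjective g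
    have hM := Cfsg.Agent.S2511.unitary_of_mem σ hσ (2 * m) A
    have hdet : (A.1.1 : Matrix (Fin (2 * m)) (Fin (2 * m)) F).det = 1 := A.1.2
    obtain ⟨r, hr, hrN, hrq1, hrq, h3, h4⟩ := zs_facts q m hodd hq3 hm2
    have hmin : ∀ (j : ℕ) (c : F), (A.1.1 : Matrix (Fin (2 * m)) (Fin (2 * m)) F) ^ j
        = c • (1 : Matrix (Fin (2 * m)) (Fin (2 * m)) F) → NN q m ∣ j := by
      intro j c h
      rw [← hg]
      exact Cfsg.Agent.S2511.orderOf_mk_dvd hF (2 * m) (by omega) A j c h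
    obtain ⟨c, hc⟩ := (Cfsg.Agent.S2511.mk_pow_eq_one_iff hF (2 * m) (by omega) A (NN q m)).1
      (by rw [← hg]; exact pow_orderOf_eq_one _)
    have hpq : p ∣ q := Cfsg.Agent.S2511.p_dvd_q hF p a hq
    obtain ⟨s, hs⟩ := struct hF p a hq σ hσ hσ2 m hm2 (2 * m) rfl _ hM hdet (NN q m)
      (NN_pos q m hq2 (by omega)) (NN_coprime q m p hp hpq hq2 (by omega)) r hr hrN hrq1 h3 h4 c hc
      hmin
    exact hmin _ s hs
  · intro h
    obtain ⟨g, hg⟩ := Cfsg.Agent.S2511.c1U_mem hF p a hq σ hσ hσne hσ2 (2 * m) (by omega)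
    obtain ⟨g', hg'⟩ := hclosed _ ⟨g, rfl⟩ _ (dvd_trans h hg)
    exact ⟨g', hg'⟩

end Cfsg.Agent.S2496
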