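import Cfsg.Statements.S2503
import Mathlib
import Cfsg.Agent.H9.PSL2Spec
import Cfsg.Agent.S2507

set_option autoImplicit false
open Cfsg

namespace Cfsg.Agent.S2503

open Matrix Cfsg.Agent.H9.PSL2Spec

section Defs

variable {F : Type*} [Field F]

local notation "SL2" => Matrix.SpecialLinearGroup (Fin 2) F

/-- the norm form of `F[g₀]` -/
def Q (t x y : F) : F := x ^ 2 + t * x * y + y ^ 2

/-- the element `x + y g₀` -/
def M (t x y : F) : Matrix (Fin 2) (Fin 2) F := !![x, -y; y, x + t * y]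

theorem det_M (t x y : F) : (M t x y).det = Q t x y := by
  unfold M Q
  rw [det_fin_two_of]
  ring

theorem M_mul (t x y x' y' : F) :
    M t x y * M t x' y' = M t (x * x' - y * y') (x * y' + x' * y + t * y * y') := by
  unfold M
  ext i j
  fin_cases i <;> fin_cases j <;> simp [Matrix.mul_apply, Fin.sum_univ_two] <;> ring

theorem Q_mul (t x y x' y' : F) :
    Q t (x * x' - y * y') (x * y' + x' * y + t * y * y') = Q t x y * Q t x' y' := by
  unfold Q
  ring

theorem M_one (t : F) : M t 1 0 = 1 := by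
  unfold M
  ext i j
  fin_cases i <;> fin_cases j <;> simp

/-- the norm-one torus -/
def A (t : F) : Subgroup SL2 where
  carrier := {g | ∃ x y : F, Q t x y = 1 ∧ (g : Matrix (Fin 2) (Fin 2) F) = M t x y}
  mul_mem' := by
    rintro g h ⟨x, y, hQ, hg⟩ ⟨x', y', hQ', hh⟩
    refine ⟨x * x' - y * y', x * y' + x' * y + t * y * y', ?_, ?_⟩
    · rw [Q_mul, hQ, hQ', one_mul]
    · rw [Matrix.SpecialLinearGroup.coe_mul, hg, hh, M_mul]
  one_mem' := ⟨1, 0, by unfold Q; ring, by rw [Matrix.SpecialLinearGroup.coe_one, M_one]⟩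
  inv_mem' := by
    rintro g ⟨x, y, hQ, hg⟩
    refine ⟨x + t * y, -y, ?_, ?_⟩
    · rw [← hQ]; unfold Q; ring
    · rw [Matrix.SpecialLinearGroup.coe_inv, hg]
      unfold M
      rw [Matrix.adjugate_fin_two_of]
      ext i j
      fin_cases i <;> fin_cases j <;> simp

/-- the upper unitriangular group -/
def B : Subgroup SL2 where
  carrier := {g | ∃ b : F, (g : Matrix (Fin 2) (Fin 2) F) = !![1, b; 0, 1]}
  mul_mem' := by
    rintro g h ⟨b, hg⟩ ⟨b', hh⟩
    refine ⟨b' + b, ?_⟩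
    rw [Matrix.SpecialLinearGroup.coe_mul, hg, hh]
    ext i j
    fin_cases i <;> fin_cases j <;> simp [Matrix.mul_apply, Fin.sum_univ_two]
  one_mem' := ⟨0, by
    rw [Matrix.SpecialLinearGroup.coe_one]
    ext i j
    fin_cases i <;> fin_cases j <;> simp⟩
  inv_mem' := by
    rintro g ⟨b, hg⟩
    refine ⟨-b, ?_⟩
    rw [Matrix.SpecialLinearGroup.coe_inv, hg, Matrix.adjugate_fin_two_of, neg_zero]

theorem mem_B_of_col {h : SL2} (h00 : (h : Matrix (Fin 2) (Fin 2) F) 0 0 = 1)
    (h10 : (h : Matrix (Fin 2) (Fin 2) F) 1 0 = 0) : h ∈ B := by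
  refine ⟨(h : Matrix (Fin 2) (Fin 2) F) 0 1, ?_⟩
  have hdet := h.2
  rw [det_fin_two, h00, h10, mul_zero, sub_zero, one_mul] at hdet
  ext i j
  fin_cases i <;> fin_cases j <;> simp [h00, h10, hdet]

end Defs

section Char2

variable {F : Type*} [Field F] [Fintype F] [CharP F 2]

local notation "SL2" => Matrix.SpecialLinearGroup (Fin 2) F

theorem Q_apply (t a b c d x y : F) (hdet : a * d - b * c = 1) :
    Q t (a * x + b * y) (c * x + d * y) =
      Q t x y + (Q t a c + 1) * x ^ 2 + (Q t b d + 1) * y ^ 2 := by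
  have h2 := Cfsg.Agent.S2507.two_eq_zero' (F := F)
  unfold Q
  linear_combination (t * x * y) * hdet +
    (a * b * x * y + c * d * x * y + t * b * c * x * y - x ^ 2 - y ^ 2) * h2

theorem Q_smul (t l x y : F) : Q t (l * x) (l * y) = l ^ 2 * Q t x y := by
  unfold Q
  ring

/-- a point of the conic mapped to the conic -/
theorem exists_point (t : F) (haniso : ∀ x y : F, Q t x y = 0 → x = 0 ∧ y = 0)
    (a b c d : F) (hdet : a * d - b * c = 1) :
    ∃ x y : F, Q t x y = 1 ∧ Q t (a * x + b * y) (c * x + d * y) = 1 := by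
  have h2 := Cfsg.Agent.S2507.two_eq_zero' (F := F)
  have hchar : ringChar F = 2 := ringChar.eq F 2
  obtain ⟨p, hp⟩ := FiniteField.isSquare_of_char_two hchar (Q t a c + 1)
  obtain ⟨s, hs⟩ := FiniteField.isSquare_of_char_two hchar (Q t b d + 1)
  -- a non-zero vector with `Q (g v) = Q v`
  obtain ⟨x₀, y₀, hne, hQ⟩ : ∃ x₀ y₀ : F, ¬ (x₀ = 0 ∧ y₀ = 0) ∧
      Q t (a * x₀ + b * y₀) (c * x₀ + d * y₀) = Q t x₀ y₀ := by
    by_cases h0 : s = 0 ∧ p = 0
    · refine ⟨1, 0, by simp, ?_⟩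
      rw [Q_apply t a b c d 1 0 hdet, hp, hs, h0.1, h0.2]
      ring
    · refine ⟨s, p, h0, ?_⟩
      rw [Q_apply t a b c d s p hdet, hp, hs]
      linear_combination (p ^ 2 * s ^ 2) * h2
  have hQ0 : Q t x₀ y₀ ≠ 0 := fun h => hne (haniso x₀ y₀ h)
  obtain ⟨l, hl⟩ := FiniteField.isSquare_of_char_two hchar (Q t x₀ y₀)⁻¹
  refine ⟨l * x₀, l * y₀, ?_, ?_⟩
  · rw [Q_smul, sq, ← hl, inv_mul_cancel₀ hQ0]
  · have : Q t (a * (l * x₀) + b * (l * y₀)) (c * (l * x₀) + d * (l * y₀)) =
        l ^ 2 * Q t (a * x₀ + b * y₀) (c * x₀ + d * y₀) := by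
      rw [← Q_smul]
      congr 1 <;> ring
    rw [this, hQ, sq, ← hl, inv_mul_cancel₀ hQ0]

theorem aba (t : F) (haniso : ∀ x y : F, Q t x y = 0 → x = 0 ∧ y = 0) (g : SL2) :
    ∃ a ∈ A t, ∃ b ∈ (B : Subgroup SL2), ∃ c ∈ A t, g = a * b * c := by
  obtain ⟨a, b, c, d, hg⟩ : ∃ a b c d : F,
      (g : Matrix (Fin 2) (Fin 2) F) = !![a, b; c, d] :=
    ⟨_, _, _, _, Matrix.eta_fin_two _⟩
  have hdet : a * d - b * c = 1 := by
    have := g.2
    rw [hg, det_fin_two_of] at this
    exact this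
  obtain ⟨x, y, hQ1, hQ2⟩ := exists_point t haniso a b c d hdet
  let a₁ : SL2 := ⟨M t x y, by rw [det_M, hQ1]⟩
  let a₂ : SL2 := ⟨M t (a * x + b * y) (c * x + d * y), by rw [det_M, hQ2]⟩
  have ha₁ : a₁ ∈ A t := ⟨x, y, hQ1, rfl⟩
  have ha₂ : a₂ ∈ A t := ⟨_, _, hQ2, rfl⟩
  have hcoe : ((a₂⁻¹ * g * a₁ : SL2) : Matrix (Fin 2) (Fin 2) F) =
      Matrix.adjugate (M t (a * x + b * y) (c * x + d * y)) * !![a, b; c, d] * M t x y := by
    rw [Matrix.SpecialLinearGroup.coe_mul, Matrix.SpecialLinearGroup.coe_mul,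
      Matrix.SpecialLinearGroup.coe_inv, hg]
  have hB : a₂⁻¹ * g * a₁ ∈ (B : Subgroup SL2) := by
    apply mem_B_of_col
    · rw [hcoe]
      unfold M
      rw [Matrix.adjugate_fin_two_of]
      simp [Matrix.mul_apply, Fin.sum_univ_two]
      unfold Q at hQ2
      linear_combination hQ2
    · rw [hcoe]
      unfold M
      rw [Matrix.adjugate_fin_two_of]
      simp [Matrix.mul_apply, Fin.sum_univ_two]
      ring
  refine ⟨a₂, ha₂, a₂⁻¹ * g * a₁, hB, a₁⁻¹, (A t).inv_mem ha₁, ?_⟩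
  group

end Char2

section Count

variable {F : Type*} [Field F] [Fintype F] [CharP F 2]

local notation "SL2" => Matrix.SpecialLinearGroup (Fin 2) F

open Finset in
theorem card_conic [DecidableEq F] (t : F) (haniso : ∀ x y : F, Q t x y = 0 → x = 0 ∧ y = 0) :
    (univ.filter (fun v : F × F => Q t v.1 v.2 = 1)).card = Fintype.card F + 1 := by
  have hchar : ringChar F = 2 := ringChar.eq F 2
  set N : F → ℕ := fun μ => (univ.filter (fun v : F × F => Q t v.1 v.2 = μ)).card with hN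
  have hsum : (univ : Finset (F × F)).card = ∑ μ : F, N μ :=
    Finset.card_eq_sum_card_fiberwise (f := fun v : F × F => Q t v.1 v.2) (s := univ) (t := univ)
      (fun _ _ => mem_univ _)
  rw [card_univ, Fintype.card_prod, ← Finset.add_sum_erase univ N (mem_univ 0)] at hsum
  have h0 : N 0 = 1 := by
    rw [hN]
    simp only
    rw [card_eq_one]
    refine ⟨(0, 0), ?_⟩
    ext v
    simp only [mem_filter, mem_univ, true_and, mem_singleton]
    constructor
    · intro h
      have := haniso v.1 v.2 h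
      exact Prod.ext this.1 this.2
    · rintro rfl
      unfold Q
      ring
  have hμ : ∀ μ ∈ (univ : Finset F).erase 0, N μ = N 1 := by
    intro μ hμ
    rw [mem_erase] at hμ
    obtain ⟨l, hl⟩ := FiniteField.isSquare_of_char_two hchar μ
    have hl0 : l ≠ 0 := by
      rintro rfl
      rw [mul_zero] at hl
      exact hμ.1 hl
    rw [hN]
    simp only
    symm
    apply Finset.card_bij' (fun v _ => (l * v.1, l * v.2)) (fun v _ => (l⁻¹ * v.1, l⁻¹ * v.2))
    · intro v hv
      rw [mem_filter] at hv ⊢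
      refine ⟨mem_univ _, ?_⟩
      rw [Q_smul, hv.2, mul_one, sq, ← hl]
    · intro v hv
      rw [mem_filter] at hv ⊢
      refine ⟨mem_univ _, ?_⟩
      rw [Q_smul, hv.2, hl, inv_pow, sq, inv_mul_cancel₀ (mul_ne_zero hl0 hl0)]
    · intro v _
      simp only
      rw [← mul_assoc, ← mul_assoc, inv_mul_cancel₀ hl0, one_mul, one_mul]
    · intro v _
      simp only
      rw [← mul_assoc, ← mul_assoc, mul_inv_cancel₀ hl0, one_mul, one_mul]
  rw [sum_congr rfl hμ, sum_const, card_erase_of_mem (mem_univ _), card_univ, smul_eq_mul, h0] at hsum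
  change N 1 = _
  have hq : 2 ≤ Fintype.card F := Fintype.one_lt_card
  obtain ⟨k, hk⟩ : ∃ k, Fintype.card F = k + 1 := ⟨Fintype.card F - 1, by omega⟩
  rw [hk, Nat.add_sub_cancel] at hsum
  rw [hk]
  have hk1 : 0 < k := by omega
  have : k * (k + 2) = k * N 1 := by
    have : (k + 1) * (k + 1) = 1 + k * (k + 2) := by ring
    omega
  exact (Nat.eq_of_mul_eq_mul_left hk1 this).symm

/-- `A t` as the points of the conic -/
def equivA (t : F) : A t ≃ {v : F × F // Q t v.1 v.2 = 1} where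
  toFun g := ⟨((g.1 : Matrix (Fin 2) (Fin 2) F) 0 0, (g.1 : Matrix (Fin 2) (Fin 2) F) 1 0), by
    obtain ⟨x, y, hQ, hg⟩ := g.2
    rw [hg]
    simpa [M] using hQ⟩
  invFun v := ⟨⟨M t v.1.1 v.1.2, by rw [det_M, v.2]⟩, ⟨v.1.1, v.1.2, v.2, rfl⟩⟩
  left_inv g := by
    obtain ⟨x, y, hQ, hg⟩ := g.2
    apply Subtype.ext
    apply Subtype.ext
    change M t ((g.1 : Matrix (Fin 2) (Fin 2) F) 0 0) ((g.1 : Matrix (Fin 2) (Fin 2) F) 1 0) =
      (g.1 : Matrix (Fin 2) (Fin 2) F)
    have h00 : (g.1 : Matrix (Fin 2) (Fin 2) F) 0 0 = x := by rw [hg]; simp [M]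
    have h10 : (g.1 : Matrix (Fin 2) (Fin 2) F) 1 0 = y := by rw [hg]; simp [M]
    rw [h00, h10, hg]
  right_inv v := by
    apply Subtype.ext
    simp [M]

theorem card_A (t : F) (haniso : ∀ x y : F, Q t x y = 0 → x = 0 ∧ y = 0) :
    Nat.card (A t : Subgroup SL2) = Fintype.card F + 1 := by
  classical
  rw [Nat.card_congr (equivA t), Nat.card_eq_fintype_card, Fintype.card_subtype, card_conic t haniso]

theorem B_sq (b : SL2) (hb : b ∈ (B : Subgroup SL2)) : b * b = 1 := by
  have h2 := Cfsg.Agent.S2507.two_eq_zero' (F := F)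
  obtain ⟨β, hβ⟩ := hb
  apply Subtype.ext
  rw [Matrix.SpecialLinearGroup.coe_mul, hβ, Matrix.SpecialLinearGroup.coe_one]
  ext i j
  fin_cases i <;> fin_cases j <;> simp [Matrix.mul_apply, Fin.sum_univ_two]
  rw [← two_mul, h2, zero_mul]

omit [Fintype F] [CharP F 2] in
theorem B_comm : IsMulCommutative (B : Subgroup SL2) := by
  refine ⟨⟨?_⟩⟩
  rintro ⟨g, β, hg⟩ ⟨h, β', hh⟩
  apply Subtype.ext
  apply Subtype.ext
  change (g * h : SL2).1 = (h * g : SL2).1
  rw [Matrix.SpecialLinearGroup.coe_mul, Matrix.SpecialLinearGroup.coe_mul, hg, hh]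
  ext i j
  fin_cases i <;> fin_cases j <;> simp [Matrix.mul_apply, Fin.sum_univ_two]
  ring

omit [CharP F 2] in
theorem card_B : Nat.card (B : Subgroup SL2) = Fintype.card F := by
  rw [← Nat.card_eq_fintype_card]
  apply Nat.card_congr
  exact
    { toFun := fun g => (g.1 : Matrix (Fin 2) (Fin 2) F) 0 1
      invFun := fun β => ⟨⟨!![1, β; 0, 1], by simp [det_fin_two_of]⟩, ⟨β, rfl⟩⟩
      left_inv := by
        rintro ⟨g, β, hg⟩
        apply Subtype.ext
        apply Subtype.ext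
        change !![1, (g : Matrix (Fin 2) (Fin 2) F) 0 1; 0, 1] = (g : Matrix (Fin 2) (Fin 2) F)
        rw [hg]
        simp
      right_inv := by
        intro β
        simp }

end Count

section Exists

variable {F : Type*} [Field F] [Fintype F] [CharP F 2]

local notation "SL2" => Matrix.SpecialLinearGroup (Fin 2) F

open Polynomial in
theorem aniso_of_order (g₁ : SL2) (ho : orderOf g₁ = Fintype.card F + 1)
    (h4 : 4 ≤ Fintype.card F) :
    ∀ x y : F, Q (g₁ : Matrix (Fin 2) (Fin 2) F).trace x y = 0 → x = 0 ∧ y = 0 := by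
  have h2 := Cfsg.Agent.S2507.two_eq_zero' (F := F)
  set t := (g₁ : Matrix (Fin 2) (Fin 2) F).trace with ht
  -- no root
  have hroot : ∀ a : F, a ^ 2 + t * a + 1 ≠ 0 := by
    intro a ha
    have ha0 : a ≠ 0 := by
      rintro rfl
      simp at ha
    have hr : (fpoly t).IsRoot a := by
      unfold fpoly
      simp only [IsRoot.def, eval_add, eval_sub, eval_pow, eval_X, eval_mul, eval_C, eval_one]
      linear_combination ha - (t * a) * h2
    by_cases ha1 : a ^ 2 = 1
    · have h1 : (a - 1) ^ 2 = 0 := by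
        calc (a - 1) ^ 2 = a ^ 2 - 2 * a + 1 := by ring
          _ = 0 := by rw [ha1, h2, zero_mul, sub_zero, ← h2]; norm_num
      have ha1' : a = 1 := sub_eq_zero.1 (pow_eq_zero_iff (two_ne_zero) |>.1 h1)
      have ht0 : t = 0 := by
        rw [ha1'] at ha
        linear_combination ha - h2
      have hdvd : fpoly t ∣ X ^ 2 - C (1 : F) := by
        rw [ht0]
        unfold fpoly
        have : (X ^ 2 - C (0 : F) * X + 1 : F[X]) = X ^ 2 - C (1 : F) := by
          rw [map_zero, zero_mul, sub_zero, map_one, sub_eq_add_neg]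
          congr 1
          have : (2 : F[X]) = 0 := by
            have : (2 : F[X]) = C (2 : F) := (map_ofNat C 2).symm
            rw [this, h2, map_zero]
          linear_combination this
        rw [this]
      have := pow_eq_of_dvd g₁ 2 1 hdvd
      rw [one_smul] at this
      have hX2 : g₁ ^ 2 = 1 := by
        apply Subtype.ext
        rw [Matrix.SpecialLinearGroup.coe_pow, this, Matrix.SpecialLinearGroup.coe_one]
      have := orderOf_le_of_pow_eq_one two_pos hX2
      omega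
    · have hdvd := dvd_of_root hr ha1 (Fintype.card F - 1) 1 (one_pow 2)
        (FiniteField.pow_card_sub_one_eq_one a ha0)
      have := pow_eq_of_dvd g₁ _ 1 hdvd
      rw [one_smul] at this
      have hX : g₁ ^ (Fintype.card F - 1) = 1 := by
        apply Subtype.ext
        rw [Matrix.SpecialLinearGroup.coe_pow, this, Matrix.SpecialLinearGroup.coe_one]
      have := orderOf_le_of_pow_eq_one (by omega) hX
      omega
  intro x y hQ
  by_cases hy : y = 0
  · subst hy
    unfold Q at hQ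
    simp at hQ
    exact ⟨hQ, rfl⟩
  · exfalso
    apply hroot (x / y)
    unfold Q at hQ
    field_simp
    linear_combination hQ

theorem exists_trace (h4 : 4 ≤ Fintype.card F) (h2 : 2 ∣ Fintype.card F) :
    ∃ t : F, (∀ x y : F, Q t x y = 0 → x = 0 ∧ y = 0) ∧ IsCyclic (A t : Subgroup SL2) := by
  obtain ⟨g', hg'⟩ := exists_orderOf_eq_nonsplit (F := F) 2
  rw [Cfsg.Agent.S2507.card_ge_of_dvd h2, Nat.div_one] at hg'
  let e := Cfsg.Agent.S2507.slEquiv (F := F)
  set g₁ : SL2 := e.symm g' with hg₁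
  have ho : orderOf g₁ = Fintype.card F + 1 := by
    rw [hg₁, MulEquiv.orderOf_eq, hg']
  have haniso := aniso_of_order g₁ ho h4
  set t := (g₁ : Matrix (Fin 2) (Fin 2) F).trace with ht
  refine ⟨t, haniso, ?_⟩
  -- the companion element
  have hQ01 : Q t 0 1 = 1 := by unfold Q; ring
  let g₀ : SL2 := ⟨M t 0 1, by rw [det_M, hQ01]⟩
  have hg₀A : g₀ ∈ A t := ⟨0, 1, hQ01, rfl⟩
  have hg₁1 : g₁ ≠ 1 := by
    intro h
    rw [h, orderOf_one] at ho
    omega
  have hg₀1 : g₀ ≠ 1 := by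
    intro h
    have := congrArg (fun A : SL2 => (A : Matrix (Fin 2) (Fin 2) F) 1 0) h
    simp [g₀, M] at this
  have htr : (g₀ : Matrix (Fin 2) (Fin 2) F).trace = t := by
    change (M t 0 1).trace = t
    unfold M
    rw [trace_fin_two_of]
    ring
  have hconj := (Cfsg.Agent.S2507.isConj_iff_of_ne_one hg₁1 g₀).2 ⟨hg₀1, htr⟩
  rw [isConj_iff] at hconj
  obtain ⟨c, hc⟩ := hconj
  have ho₀ : orderOf g₀ = Fintype.card F + 1 := by
    rw [← hc, ← ho]
    exact (MulAut.conj c).orderOf_eq g₁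
  have : Finite (A t : Subgroup SL2) := inferInstance
  apply isCyclic_of_orderOf_eq_card (⟨g₀, hg₀A⟩ : (A t : Subgroup SL2))
  rw [card_A t haniso, ← ho₀]
  exact Subgroup.orderOf_mk g₀ hg₀A

end Exists

/-- Let F be a finite field with q = 2^t ≥ 4 elements and L = PSL(2,F). Then L has a cyclic subgroup A of order q + 1 and an elementary abelian 2-subgroup B of order q such that L = ABA: every element of L is a product a·b·a' with a, a' ∈ A and b ∈ B. -/
theorem result {F : Type*} [Field F] [Fintype F]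
    (h2 : 2 ∣ Fintype.card F) (h4 : 4 ≤ Fintype.card F) :
    ∃ A B : Subgroup (Matrix.ProjectiveSpecialLinearGroup (Fin 2) F),
      IsCyclic A ∧ Nat.card A = Fintype.card F + 1 ∧ IsMulCommutative B ∧ (∀ b ∈ B, b * b = 1) ∧
        Nat.card B = Fintype.card F ∧
        ∀ g : Matrix.ProjectiveSpecialLinearGroup (Fin 2) F, ∃ a ∈ A, ∃ b ∈ B, ∃ c ∈ A, g = a * b * c := by
  have hchar : ringChar F = 2 := by
    apply FiniteField.even_card_iff_char_two.2
    omega
  have : CharP F 2 := by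
    rw [← hchar]
    exact ringChar.charP F
  obtain ⟨t, haniso, hcyc⟩ := exists_trace (F := F) h4 h2
  let e := Cfsg.Agent.S2507.slEquiv (F := F)
  have hinj : Function.Injective e.toMonoidHom := e.injective
  refine ⟨(A t).map e.toMonoidHom, (B : Subgroup _).map e.toMonoidHom, ?_, ?_, ?_, ?_, ?_, ?_⟩
  · exact isCyclic_of_surjective ((A t).equivMapOfInjective e.toMonoidHom hinj)
      ((A t).equivMapOfInjective e.toMonoidHom hinj).surjective
  · rw [← Nat.card_congr ((A t).equivMapOfInjective e.toMonoidHom hinj).toEquiv, card_A t haniso]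
  · refine ⟨⟨?_⟩⟩
    rintro ⟨_, g, hg, rfl⟩ ⟨_, h, hh, rfl⟩
    apply Subtype.ext
    change e.toMonoidHom g * e.toMonoidHom h = e.toMonoidHom h * e.toMonoidHom g
    rw [← map_mul, ← map_mul]
    congr 1
    have := (B_comm (F := F)).is_comm.comm ⟨g, hg⟩ ⟨h, hh⟩
    exact congrArg Subtype.val this
  · rintro _ ⟨b, hb, rfl⟩
    rw [← map_mul, B_sq b hb, map_one]
  · rw [← Nat.card_congr ((B : Subgroup _).equivMapOfInjective e.toMonoidHom hinj).toEquiv, card_B]
  · intro g
    obtain ⟨a, ha, b, hb, c, hc, habc⟩ := aba t haniso (e.symm g)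
    refine ⟨e a, ⟨a, ha, rfl⟩, e b, ⟨b, hb, rfl⟩, e c, ⟨c, hc, rfl⟩, ?_⟩
    rw [← map_mul, ← map_mul, ← habc, MulEquiv.apply_symm_apply]

end Cfsg.Agent.S2503
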