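import Mathlib
import Cfsg.Statements.S2505

set_option autoImplicit false

namespace Cfsg.Agent.S2505

open Equiv

/-- the maximal product of the parts of a partition of `n` -/
def f : ℕ → ℕ
  | 0 => 1
  | 1 => 1
  | 2 => 2
  | 3 => 3
  | 4 => 4
  | (n + 5) => 3 * f (n + 2)

lemma f_add_three (n : ℕ) (hn : 2 ≤ n) : f (n + 3) = 3 * f n := by
  obtain ⟨m, rfl⟩ : ∃ m, n = m + 2 := ⟨n - 2, by omega⟩
  show f (m + 5) = 3 * f (m + 2)
  rw [f]

lemma ind3 (P : ℕ → Prop) (h0 : P 0) (h1 : P 1) (h2 : P 2) (h3 : P 3) (h4 : P 4)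
    (step : ∀ n, 2 ≤ n → P n → P (n + 3)) : ∀ n, P n := by
  intro n
  induction n using Nat.strong_induction_on with
  | _ n ih =>
    rcases Nat.lt_or_ge n 5 with h | h
    · interval_cases n <;> assumption
    · have := step (n - 3) (by omega) (ih (n - 3) (by omega))
      rwa [Nat.sub_add_cancel (by omega)] at this

lemma f_pos (n : ℕ) : 0 < f n := by
  refine ind3 (fun n => 0 < f n) (by simp [f]) (by simp [f]) (by simp [f]) (by simp [f])
    (by simp [f]) ?_ n
  intro n hn h
  rw [f_add_three n hn]; omega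

lemma f_succ (n : ℕ) : f n ≤ f (n + 1) := by
  refine ind3 (fun n => f n ≤ f (n + 1)) (by simp [f]) (by simp [f]) (by simp [f]) (by simp [f])
    (by simp [f]) ?_ n
  intro n hn h
  have h1 : n + 3 + 1 = (n + 1) + 3 := by ring
  rw [h1, f_add_three n hn, f_add_three (n + 1) (by omega)]; omega

lemma f_two (n : ℕ) : 2 * f n ≤ f (n + 2) := by
  refine ind3 (fun n => 2 * f n ≤ f (n + 2)) (by simp [f]) (by simp [f]) (by simp [f]) (by simp [f])
    (by simp [f]) ?_ n
  intro n hn h
  have h1 : n + 3 + 2 = (n + 2) + 3 := by ring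
  rw [h1, f_add_three n hn, f_add_three (n + 2) (by omega)]; omega

lemma f_three (n : ℕ) : 3 * f n ≤ f (n + 3) := by
  refine ind3 (fun n => 3 * f n ≤ f (n + 3)) (by simp [f]) (by simp [f]) (by simp [f]) (by simp [f])
    (by simp [f]) ?_ n
  intro n hn h
  rw [f_add_three n hn, f_add_three (n + 3) (by omega), f_add_three n hn]

lemma f_four (n : ℕ) : 4 * f n ≤ f (n + 4) := by
  refine ind3 (fun n => 4 * f n ≤ f (n + 4)) (by simp [f]) (by simp [f]) (by simp [f]) (by simp [f])
    (by simp [f]) ?_ n
  intro n hn h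
  have h1 : n + 3 + 4 = (n + 4) + 3 := by ring
  rw [h1, f_add_three n hn, f_add_three (n + 4) (by omega)]; omega

lemma mul_f_le (m r : ℕ) (hm : 1 ≤ m) : m * f r ≤ f (m + r) := by
  induction m using Nat.strong_induction_on with
  | _ m ih =>
    rcases Nat.lt_or_ge m 5 with h | h
    · interval_cases m
      · rw [one_mul, add_comm]; exact f_succ r
      · rw [add_comm]; exact f_two r
      · rw [add_comm]; exact f_three r
      · rw [add_comm]; exact f_four r
    · have h1 := ih (m - 3) (by omega) (by omega)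
      have h2 := f_three (m - 3 + r)
      have h3 : m - 3 + r + 3 = m + r := by omega
      rw [h3] at h2
      have h4 : m * f r ≤ 3 * ((m - 3) * f r) := by
        rw [← mul_assoc]
        apply Nat.mul_le_mul_right
        omega
      omega

lemma f_three_mul (k : ℕ) : f (3 * k) = 3 ^ k := by
  induction k with
  | zero => simp [f]
  | succ k ih =>
    rcases Nat.eq_zero_or_pos k with h | h
    · subst h; simp [f]
    · have : 3 * (k + 1) = 3 * k + 3 := by ring
      rw [this, f_add_three _ (by omega), ih, pow_succ]; ring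

lemma f_three_mul_add_one (k : ℕ) (hk : 1 ≤ k) : f (3 * k + 1) = 4 * 3 ^ (k - 1) := by
  induction k with
  | zero => omega
  | succ k ih =>
    rcases Nat.eq_zero_or_pos k with h | h
    · subst h; simp [f]
    · have : 3 * (k + 1) + 1 = (3 * k + 1) + 3 := by ring
      rw [this, f_add_three _ (by omega), ih h]
      have : k + 1 - 1 = (k - 1) + 1 := by omega
      rw [this, pow_succ]; ring

lemma f_three_mul_add_two (k : ℕ) : f (3 * k + 2) = 2 * 3 ^ k := by
  induction k with
  | zero => simp [f]
  | succ k ih =>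
    have : 3 * (k + 1) + 2 = (3 * k + 2) + 3 := by ring
    rw [this, f_add_three _ (by omega), ih, pow_succ]; ring

/-- the upper bound: an abelian permutation group supported on `S` has order at most `f |S|` -/
lemma card_le {Ω : Type*} [Fintype Ω] [DecidableEq Ω] :
    ∀ (n : ℕ) (S : Finset Ω) (A : Subgroup (Perm Ω)), S.card = n →
      (∀ a b : Perm Ω, a ∈ A → b ∈ A → a * b = b * a) →
      (∀ a ∈ A, ∀ y, y ∉ S → a y = y) → Nat.card A ≤ f n := by
  classical
  intro n
  induction n using Nat.strong_induction_on with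
  | _ n ih =>
    intro S A hS hcomm hsupp
    rcases Finset.eq_empty_or_nonempty S with hSe | ⟨x, hx⟩
    · have hA : A = ⊥ := by
        rw [eq_bot_iff]
        intro a ha
        rw [Subgroup.mem_bot]
        ext y
        exact hsupp a ha y (by rw [hSe]; exact Finset.notMem_empty y)
      rw [hA, Subgroup.card_bot]
      exact f_pos n
    · -- the orbit of `x`
      have hos := MulAction.card_orbit_mul_card_stabilizer_eq_card_group A x
      set O : Finset Ω := (MulAction.orbit A x).toFinset with hO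
      have hOcard : O.card = Fintype.card (MulAction.orbit A x) := Set.toFinset_card _
      have hmemO : ∀ y, y ∈ O ↔ ∃ a ∈ A, a x = y := by
        intro y
        rw [hO, Set.mem_toFinset, MulAction.mem_orbit_iff]
        constructor
        · rintro ⟨a, rfl⟩
          exact ⟨a.1, a.2, rfl⟩
        · rintro ⟨a, ha, rfl⟩
          exact ⟨⟨a, ha⟩, rfl⟩
      have hAS : ∀ a ∈ A, ∀ y ∈ S, a y ∈ S := by
        intro a ha y hy
        by_contra hay
        have h1 := hsupp a ha (a y) hay
        have h2 := a.injective h1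
        rw [h2] at hay
        exact hay hy
      have hOS : O ⊆ S := by
        intro y hy
        obtain ⟨a, ha, rfl⟩ := (hmemO y).1 hy
        exact hAS a ha x hx
      have hxO : x ∈ O := (hmemO x).2 ⟨1, A.one_mem, rfl⟩
      have hOpos : 1 ≤ O.card := Finset.card_pos.2 ⟨x, hxO⟩
      have hOle : O.card ≤ n := by rw [← hS]; exact Finset.card_le_card hOS
      -- the stabilizer
      let K : Subgroup (Perm Ω) := (MulAction.stabilizer A x).map A.subtype
      have hKcard : Nat.card K = Fintype.card (MulAction.stabilizer A x) := by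
        rw [Subgroup.card_map_of_injective A.subtype_injective, Nat.card_eq_fintype_card]
      have hKA : ∀ k ∈ K, k ∈ A ∧ k x = x := by
        intro k hk
        obtain ⟨k', hk', rfl⟩ := Subgroup.mem_map.1 hk
        exact ⟨k'.2, MulAction.mem_stabilizer_iff.1 hk'⟩
      have hKle := ih (n - O.card) (by omega) (S \ O) K
        (by rw [Finset.card_sdiff_of_subset hOS, hS])
        (fun a b ha hb => hcomm a b (hKA a ha).1 (hKA b hb).1)
        (by
          intro k hk y hy
          rw [Finset.mem_sdiff, not_and_or, not_not] at hy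
          rcases hy with hy | hy
          · exact hsupp k (hKA k hk).1 y hy
          · obtain ⟨a, ha, rfl⟩ := (hmemO y).1 hy
            have h1 := hcomm k a (hKA k hk).1 ha
            have h2 := congrArg (fun g : Perm Ω => g x) h1
            simp only [Perm.mul_apply] at h2
            rw [h2, (hKA k hk).2])
      have hcardA : Nat.card A = O.card * Nat.card K := by
        rw [Nat.card_eq_fintype_card, ← hos, hOcard, hKcard]
      rw [hcardA]
      calc O.card * Nat.card K ≤ O.card * f (n - O.card) := Nat.mul_le_mul_left _ hKle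
        _ ≤ f (O.card + (n - O.card)) := mul_f_le _ _ hOpos
        _ = f n := by rw [Nat.add_sub_cancel' hOle]

/-- there is an abelian subgroup of order `c` in the symmetric group of degree `n` -/
def P (n c : ℕ) : Prop :=
  ∃ A : Subgroup (Perm (Fin n)), (∀ a b : Perm (Fin n), a ∈ A → b ∈ A → a * b = b * a) ∧
    Nat.card A = c

lemma P_zero : P 0 1 := ⟨⊥, by
  intro a b ha hb
  rw [Subgroup.mem_bot] at ha hb
  rw [ha, hb], Subgroup.card_bot⟩

lemma P_self (n : ℕ) : P (n + 2) (n + 2) := by
  refine ⟨Subgroup.zpowers (finRotate (n + 2)), ?_, ?_⟩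
  · intro a b ha hb
    obtain ⟨i, rfl⟩ := Subgroup.mem_zpowers_iff.1 ha
    obtain ⟨j, rfl⟩ := Subgroup.mem_zpowers_iff.1 hb
    exact zpow_mul_comm _ _ _
  · rw [Nat.card_zpowers, (isCycle_finRotate).orderOf, support_finRotate]
    simp

lemma P_add {m n a b : ℕ} (h1 : P m a) (h2 : P n b) : P (m + n) (a * b) := by
  obtain ⟨A, hA, hAc⟩ := h1
  obtain ⟨B, hB, hBc⟩ := h2
  let φ : Perm (Fin m) × Perm (Fin n) →* Perm (Fin (m + n)) :=
    (permCongrHom finSumFinEquiv).toMonoidHom.comp (Perm.sumCongrHom (Fin m) (Fin n))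
  have hφ : Function.Injective φ := by
    intro x y hxy
    apply Perm.sumCongrHom_injective
    exact (permCongrHom finSumFinEquiv).injective hxy
  refine ⟨(A.prod B).map φ, ?_, ?_⟩
  · intro x y hx hy
    obtain ⟨x', hx', rfl⟩ := Subgroup.mem_map.1 hx
    obtain ⟨y', hy', rfl⟩ := Subgroup.mem_map.1 hy
    rw [← map_mul, ← map_mul]
    congr 1
    rw [Subgroup.mem_prod] at hx' hy'
    apply Prod.ext
    · exact hA _ _ hx'.1 hy'.1
    · exact hB _ _ hx'.2 hy'.2
  · rw [Subgroup.card_map_of_injective hφ, Nat.card_congr (Subgroup.prodEquiv A B).toEquiv,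
      Nat.card_prod, hAc, hBc]

lemma P_three_mul (k : ℕ) : P (3 * k) (3 ^ k) := by
  induction k with
  | zero => exact P_zero
  | succ k ih =>
    have h := P_add ih (P_self 1)
    have h1 : 3 * k + (1 + 2) = 3 * (k + 1) := by ring
    have h2 : 3 ^ k * (1 + 2) = 3 ^ (k + 1) := by rw [pow_succ]
    rwa [h1, h2] at h

lemma isGreatest_of {n c : ℕ} (hP : P n c) (hc : c = f n) :
    IsGreatest {c : ℕ | ∃ A : Subgroup (Equiv.Perm (Fin n)), IsMulCommutative A ∧ Nat.card A = c}
      c := by
  constructor
  · obtain ⟨A, hA, hAc⟩ := hP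
    exact ⟨A, ⟨⟨fun x y => Subtype.ext (hA x.1 y.1 x.2 y.2)⟩⟩, hAc⟩
  · rintro c' ⟨A, hA, rfl⟩
    rw [hc]
    apply card_le n Finset.univ A (by simp)
    · intro a b ha hb
      have := hA.is_comm.comm (⟨a, ha⟩ : A) ⟨b, hb⟩
      exact congrArg Subtype.val this
    · intro a _ y hy
      exact absurd (Finset.mem_univ y) hy

theorem result (k : ℕ) (hk : 1 ≤ k) :
    IsGreatest {c : ℕ | ∃ A : Subgroup (Equiv.Perm (Fin (3 * k))), IsMulCommutative A ∧ Nat.card A = c} (3 ^ k) ∧
    IsGreatest {c : ℕ | ∃ A : Subgroup (Equiv.Perm (Fin (3 * k + 1))), IsMulCommutative A ∧ Nat.card A = c}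
      (4 * 3 ^ (k - 1)) ∧
    IsGreatest {c : ℕ | ∃ A : Subgroup (Equiv.Perm (Fin (3 * k + 2))), IsMulCommutative A ∧ Nat.card A = c}
      (2 * 3 ^ k) := by
  refine ⟨isGreatest_of (P_three_mul k) (f_three_mul k).symm, ?_, ?_⟩
  · apply isGreatest_of _ (f_three_mul_add_one k hk).symm
    have h := P_add (P_three_mul (k - 1)) (P_self 2)
    have h1 : 3 * (k - 1) + (2 + 2) = 3 * k + 1 := by omega
    have h2 : 3 ^ (k - 1) * (2 + 2) = 4 * 3 ^ (k - 1) := by ring
    rwa [h1, h2] at h
  · apply isGreatest_of _ (f_three_mul_add_two k).symm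
    have h := P_add (P_three_mul k) (P_self 0)
    have h2 : 3 ^ k * (0 + 2) = 2 * 3 ^ k := by ring
    rwa [h2] at h

end Cfsg.Agent.S2505
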