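import Mathlib
import Cfsg.Statements.S2504
import Cfsg.Agent.S2505

set_option autoImplicit false

namespace Cfsg.Agent.S2504

open Equiv Cfsg.Agent.S2505

/-- the maximal order of an abelian group of even permutations of `n` points -/
def e : ℕ → ℕ
  | 0 => 1
  | 1 => 1
  | 2 => 1
  | 3 => 3
  | 4 => 4
  | 5 => 5
  | 6 => 9
  | 7 => 12
  | 8 => 16
  | (n + 9) => 3 * e (n + 6)

lemma e_add_three (n : ℕ) (hn : 6 ≤ n) : e (n + 3) = 3 * e n := by
  obtain ⟨m, rfl⟩ : ∃ m, n = m + 6 := ⟨n - 6, by omega⟩
  show e (m + 9) = 3 * e (m + 6)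
  rw [e]

lemma ind9 (P : ℕ → Prop) (h0 : P 0) (h1 : P 1) (h2 : P 2) (h3 : P 3) (h4 : P 4) (h5 : P 5)
    (h6 : P 6) (h7 : P 7) (h8 : P 8)
    (step : ∀ n, 6 ≤ n → P n → P (n + 3)) : ∀ n, P n := by
  intro n
  induction n using Nat.strong_induction_on with
  | _ n ih =>
    rcases Nat.lt_or_ge n 9 with h | h
    · interval_cases n <;> assumption
    · have := step (n - 3) (by omega) (ih (n - 3) (by omega))
      rwa [Nat.sub_add_cancel (by omega)] at this

lemma e_pos (n : ℕ) : 0 < e n := by
  refine ind9 (fun n => 0 < e n) (by simp [e]) (by simp [e]) (by simp [e]) (by simp [e])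
    (by simp [e]) (by simp [e]) (by simp [e]) (by simp [e]) (by simp [e]) ?_ n
  intro n hn h
  rw [e_add_three n hn]; omega

lemma e_succ (n : ℕ) : e n ≤ e (n + 1) := by
  refine ind9 (fun n => e n ≤ e (n + 1)) (by simp [e]) (by simp [e]) (by simp [e]) (by simp [e])
    (by simp [e]) (by simp [e]) (by simp [e]) (by simp [e]) (by simp [e]) ?_ n
  intro n hn h
  have h1 : n + 3 + 1 = (n + 1) + 3 := by ring
  rw [h1, e_add_three n hn, e_add_three (n + 1) (by omega)]; omega

lemma e_three (n : ℕ) : 3 * e n ≤ e (n + 3) := by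
  refine ind9 (fun n => 3 * e n ≤ e (n + 3)) (by simp [e]) (by simp [e]) (by simp [e]) (by simp [e])
    (by simp [e]) (by simp [e]) (by simp [e]) (by simp [e]) (by simp [e]) ?_ n
  intro n hn h
  rw [e_add_three n hn, e_add_three (n + 3) (by omega), e_add_three n hn]

lemma e_four (n : ℕ) : 4 * e n ≤ e (n + 4) := by
  refine ind9 (fun n => 4 * e n ≤ e (n + 4)) (by simp [e]) (by simp [e]) (by simp [e]) (by simp [e])
    (by simp [e]) (by simp [e]) (by simp [e]) (by simp [e]) (by simp [e]) ?_ n
  intro n hn h
  have h1 : n + 3 + 4 = (n + 4) + 3 := by ring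
  rw [h1, e_add_three n hn, e_add_three (n + 4) (by omega)]; omega

lemma e_five (n : ℕ) : 5 * e n ≤ e (n + 5) := by
  refine ind9 (fun n => 5 * e n ≤ e (n + 5)) (by simp [e]) (by simp [e]) (by simp [e]) (by simp [e])
    (by simp [e]) (by simp [e]) (by simp [e]) (by simp [e]) (by simp [e]) ?_ n
  intro n hn h
  have h1 : n + 3 + 5 = (n + 5) + 3 := by ring
  rw [h1, e_add_three n hn, e_add_three (n + 5) (by omega)]; omega

lemma f_le_e (n : ℕ) : f n ≤ e (n + 2) := by
  refine ind9 (fun n => f n ≤ e (n + 2)) (by simp [e, f]) (by simp [e, f]) (by simp [e, f])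
    (by simp [e, f]) (by simp [e, f]) (by simp [e, f]) (by simp [e, f]) (by simp [e, f])
    (by simp [e, f]) ?_ n
  intro n hn h
  have h1 : n + 3 + 2 = (n + 2) + 3 := by ring
  rw [h1, f_add_three n (by omega), e_add_three (n + 2) (by omega)]; omega

lemma mul_e_le (m r : ℕ) (hm : 1 ≤ m) (hm2 : m ≠ 2) : m * e r ≤ e (m + r) := by
  induction m using Nat.strong_induction_on with
  | _ m ih =>
    rcases Nat.lt_or_ge m 6 with h | h
    · interval_cases m
      · rw [one_mul, add_comm]; exact e_succ r
      · exact absurd rfl hm2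
      · rw [add_comm]; exact e_three r
      · rw [add_comm]; exact e_four r
      · rw [add_comm]; exact e_five r
    · have h1 := ih (m - 3) (by omega) (by omega) (by omega)
      have h2 := e_three (m - 3 + r)
      have h3 : m - 3 + r + 3 = m + r := by omega
      rw [h3] at h2
      have h4 : m * e r ≤ 3 * ((m - 3) * e r) := by
        rw [← mul_assoc]
        apply Nat.mul_le_mul_right
        omega
      omega

lemma e_three_mul (k : ℕ) : e (3 * k) = 3 ^ k := by
  induction k with
  | zero => simp [e]
  | succ k ih =>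
    rcases Nat.lt_or_ge k 2 with h | h
    · interval_cases k <;> simp [e]
    · have : 3 * (k + 1) = 3 * k + 3 := by ring
      rw [this, e_add_three _ (by omega), ih, pow_succ]; ring

lemma e_three_mul_add_one (k : ℕ) (hk : 1 ≤ k) : e (3 * k + 1) = 4 * 3 ^ (k - 1) := by
  induction k with
  | zero => omega
  | succ k ih =>
    rcases Nat.lt_or_ge k 2 with h | h
    · interval_cases k <;> simp [e]
    · have : 3 * (k + 1) + 1 = (3 * k + 1) + 3 := by ring
      rw [this, e_add_three _ (by omega), ih (by omega)]
      have : k + 1 - 1 = (k - 1) + 1 := by omega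
      rw [this, pow_succ]; ring

lemma e_three_mul_add_two (k : ℕ) (hk : 2 ≤ k) : e (3 * k + 2) = 16 * 3 ^ (k - 2) := by
  induction k with
  | zero => omega
  | succ k ih =>
    rcases Nat.lt_or_ge k 2 with h | h
    · interval_cases k
      · omega
      · simp [e]
    · have : 3 * (k + 1) + 2 = (3 * k + 2) + 3 := by ring
      rw [this, e_add_three _ (by omega), ih (by omega)]
      have : k + 1 - 2 = (k - 2) + 1 := by omega
      rw [this, pow_succ]; ring

/-- the upper bound for groups of even permutations -/
lemma card_le_even {Ω : Type*} [Fintype Ω] [DecidableEq Ω] :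
    ∀ (n : ℕ) (S : Finset Ω) (A : Subgroup (Perm Ω)), S.card = n →
      (∀ a b : Perm Ω, a ∈ A → b ∈ A → a * b = b * a) →
      (∀ a ∈ A, Perm.sign a = 1) →
      (∀ a ∈ A, ∀ y, y ∉ S → a y = y) → Nat.card A ≤ e n := by
  classical
  intro n
  induction n using Nat.strong_induction_on with
  | _ n ih =>
    intro S A hS hcomm hsign hsupp
    rcases Finset.eq_empty_or_nonempty S with hSe | ⟨x, hx⟩
    · have hA : A = ⊥ := by
        rw [eq_bot_iff]
        intro a ha
        rw [Subgroup.mem_bot]
        ext y
        exact hsupp a ha y (by rw [hSe]; exact Finset.notMem_empty y)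
      rw [hA, Subgroup.card_bot]
      exact e_pos n
    · -- the orbit of `x`
      have hos := MulAction.card_orbit_mul_card_stabilizer_eq_card_group A x
      set O : Finset Ω := (MulAction.orbit A x).toFinset with hO
      have hOcard : O.card = Fintype.card (MulAction.orbit A x) := Set.toFinset_card _
      have hmemO : ∀ y, y ∈ O ↔ ∃ a ∈ A, a x = y := by
        intro y
        rw [hO, Set.mem_toFinset, MulAction.mem_orbit_iff]
        constructor
        · rintro ⟨a, rfl⟩
          exact ⟨a.1, a.2, rfl⟩
        · rintro ⟨a, ha, rfl⟩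
          exact ⟨⟨a, ha⟩, rfl⟩
      have hAS : ∀ a ∈ A, ∀ y ∈ S, a y ∈ S := by
        intro a ha y hy
        by_contra hay
        have h1 := hsupp a ha (a y) hay
        have h2 := a.injective h1
        rw [h2] at hay
        exact hay hy
      have hOS : O ⊆ S := by
        intro y hy
        obtain ⟨a, ha, rfl⟩ := (hmemO y).1 hy
        exact hAS a ha x hx
      have hxO : x ∈ O := (hmemO x).2 ⟨1, A.one_mem, rfl⟩
      have hOpos : 1 ≤ O.card := Finset.card_pos.2 ⟨x, hxO⟩
      have hOle : O.card ≤ n := by rw [← hS]; exact Finset.card_le_card hOS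
      have hAO : ∀ a ∈ A, ∀ y, y ∈ O → a y ∈ O := by
        intro a ha y hy
        obtain ⟨b, hb, rfl⟩ := (hmemO y).1 hy
        exact (hmemO _).2 ⟨a * b, A.mul_mem ha hb, rfl⟩
      by_cases hO2 : O.card = 2
      · -- an orbit of length two: `A` is faithful on the rest
        obtain ⟨u, v, huv, hOuv⟩ := Finset.card_eq_two.1 hO2
        have hAO' : ∀ a ∈ A, ∀ y, y ∉ O → a y ∉ O := by
          intro a ha y hy hay
          apply hy
          have := hAO a⁻¹ (A.inv_mem ha) (a y) hay
          simpa using this
        -- the restriction homomorphism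
        let T : SubMulAction A Ω :=
          { carrier := {y | y ∉ O}
            smul_mem' := fun a y hy => hAO' a.1 a.2 y hy }
        let ψ : A →* Perm Ω := (Perm.ofSubtype (p := (· ∈ T))).comp (MulAction.toPermHom A T)
        have hψ1 : ∀ (a : A) (y : Ω), y ∉ O → ψ a y = a.1 y := by
          intro a y hy
          have hyT : y ∈ T := hy
          change (Perm.ofSubtype (MulAction.toPermHom A T a)) y = a.1 y
          rw [Perm.ofSubtype_apply_of_mem _ hyT]
          rfl
        have hψ2 : ∀ (a : A) (y : Ω), y ∈ O → ψ a y = y := by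
          intro a y hy
          have hyT : ¬ y ∈ T := fun h => h hy
          change (Perm.ofSubtype (MulAction.toPermHom A T a)) y = y
          exact Perm.ofSubtype_apply_of_not_mem _ hyT
        have hψinj : Function.Injective ψ := by
          rw [injective_iff_map_eq_one]
          intro a ha
          have hfix : ∀ y, y ∉ O → a.1 y = y := by
            intro y hy
            rw [← hψ1 a y hy, ha]; rfl
          have hu : u ∈ O := by rw [hOuv]; simp
          have hv : v ∈ O := by rw [hOuv]; simp
          have hau := hAO a.1 a.2 u hu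
          have hav := hAO a.1 a.2 v hv
          rw [hOuv, Finset.mem_insert, Finset.mem_singleton] at hau hav
          by_cases h1 : a.1 u = u
          · -- then `a = 1`
            have h2 : a.1 v = v := by
              rcases hav with h | h
              · exact absurd (a.1.injective (h.trans h1.symm)) (Ne.symm huv)
              · exact h
            apply Subtype.ext
            ext y
            by_cases hy : y ∈ O
            · rw [hOuv, Finset.mem_insert, Finset.mem_singleton] at hy
              rcases hy with rfl | rfl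
              · simpa using h1
              · simpa using h2
            · simpa using hfix y hy
          · -- then `a` is a transposition, which is odd
            exfalso
            have h1' : a.1 u = v := by
              rcases hau with h | h
              · exact absurd h h1
              · exact h
            have h2 : a.1 v = u := by
              rcases hav with h | h
              · exact h
              · exact absurd (a.1.injective (h.trans h1'.symm)) (Ne.symm huv)
            have h3 : a.1 = swap u v := by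
              ext y
              by_cases hyu : y = u
              · subst hyu; rw [swap_apply_left]; exact h1'
              · by_cases hyv : y = v
                · subst hyv; rw [swap_apply_right]; exact h2
                · rw [swap_apply_of_ne_of_ne hyu hyv]
                  apply hfix
                  rw [hOuv]; simp [hyu, hyv]
            have h4 := hsign a.1 a.2
            rw [h3, Perm.sign_swap huv] at h4
            exact absurd h4 (by decide)
        have hB := Cfsg.Agent.S2505.card_le (n - 2) (S \ O) ((⊤ : Subgroup A).map ψ)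
          (by rw [Finset.card_sdiff_of_subset hOS, hS, hO2])
          (by
            intro a b ha hb
            obtain ⟨a', _, rfl⟩ := Subgroup.mem_map.1 ha
            obtain ⟨b', _, rfl⟩ := Subgroup.mem_map.1 hb
            rw [← map_mul, ← map_mul]
            congr 1
            exact Subtype.ext (hcomm a'.1 b'.1 a'.2 b'.2))
          (by
            intro b hb y hy
            obtain ⟨a, _, rfl⟩ := Subgroup.mem_map.1 hb
            rw [Finset.mem_sdiff, not_and_or, not_not] at hy
            by_cases hyO : y ∈ O
            · exact hψ2 a y hyO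
            · rw [hψ1 a y hyO]
              rcases hy with hy | hy
              · exact hsupp a.1 a.2 y hy
              · exact absurd hy hyO)
        rw [Subgroup.card_map_of_injective hψinj, Subgroup.card_top] at hB
        have h5 : n = (n - 2) + 2 := by omega
        calc Nat.card A ≤ f (n - 2) := hB
          _ ≤ e (n - 2 + 2) := f_le_e _
          _ = e n := by rw [← h5]
      · -- the stabilizer
        let K : Subgroup (Perm Ω) := (MulAction.stabilizer A x).map A.subtype
        have hKcard : Nat.card K = Fintype.card (MulAction.stabilizer A x) := by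
          rw [Subgroup.card_map_of_injective A.subtype_injective, Nat.card_eq_fintype_card]
        have hKA : ∀ k ∈ K, k ∈ A ∧ k x = x := by
          intro k hk
          obtain ⟨k', hk', rfl⟩ := Subgroup.mem_map.1 hk
          exact ⟨k'.2, MulAction.mem_stabilizer_iff.1 hk'⟩
        have hKle := ih (n - O.card) (by omega) (S \ O) K
          (by rw [Finset.card_sdiff_of_subset hOS, hS])
          (fun a b ha hb => hcomm a b (hKA a ha).1 (hKA b hb).1)
          (fun a ha => hsign a (hKA a ha).1)
          (by
            intro k hk y hy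
            rw [Finset.mem_sdiff, not_and_or, not_not] at hy
            rcases hy with hy | hy
            · exact hsupp k (hKA k hk).1 y hy
            · obtain ⟨a, ha, rfl⟩ := (hmemO y).1 hy
              have h1 := hcomm k a (hKA k hk).1 ha
              have h2 := congrArg (fun g : Perm Ω => g x) h1
              simp only [Perm.mul_apply] at h2
              rw [h2, (hKA k hk).2])
        have hcardA : Nat.card A = O.card * Nat.card K := by
          rw [Nat.card_eq_fintype_card, ← hos, hOcard, hKcard]
        rw [hcardA]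
        calc O.card * Nat.card K ≤ O.card * e (n - O.card) := Nat.mul_le_mul_left _ hKle
          _ ≤ e (O.card + (n - O.card)) := mul_e_le _ _ hOpos hO2
          _ = e n := by rw [Nat.add_sub_cancel' hOle]

/-- there is an abelian group of even permutations of order `c` and degree `n` -/
def Pe (n c : ℕ) : Prop :=
  ∃ A : Subgroup (Perm (Fin n)), (∀ a b : Perm (Fin n), a ∈ A → b ∈ A → a * b = b * a) ∧
    (∀ a ∈ A, Perm.sign a = 1) ∧ Nat.card A = c

lemma Pe_zero : Pe 0 1 := ⟨⊥, by
  intro a b ha hb
  rw [Subgroup.mem_bot] at ha hb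
  rw [ha, hb], by
  intro a ha
  rw [Subgroup.mem_bot] at ha
  rw [ha, map_one], Subgroup.card_bot⟩

lemma Pe_three : Pe 3 3 := by
  refine ⟨Subgroup.zpowers (finRotate 3), ?_, ?_, ?_⟩
  · intro a b ha hb
    obtain ⟨i, rfl⟩ := Subgroup.mem_zpowers_iff.1 ha
    obtain ⟨j, rfl⟩ := Subgroup.mem_zpowers_iff.1 hb
    exact zpow_mul_comm _ _ _
  · intro a ha
    obtain ⟨i, rfl⟩ := Subgroup.mem_zpowers_iff.1 ha
    rw [map_zpow, sign_finRotate]
    simp
  · rw [Nat.card_zpowers, (isCycle_finRotate (n := 1)).orderOf, support_finRotate]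
    simp

/-- the Klein four-group inside `S_4` -/
def V4 : Subgroup (Perm (Fin 4)) where
  carrier := {σ | σ = 1 ∨ σ = swap 0 1 * swap 2 3 ∨ σ = swap 0 2 * swap 1 3 ∨
    σ = swap 0 3 * swap 1 2}
  mul_mem' := by
    rintro a b (rfl | rfl | rfl | rfl) (rfl | rfl | rfl | rfl) <;> decide
  one_mem' := Or.inl rfl
  inv_mem' := by
    rintro a (rfl | rfl | rfl | rfl) <;> decide

lemma Pe_four : Pe 4 4 := by
  refine ⟨V4, ?_, ?_, ?_⟩
  · rintro a b (rfl | rfl | rfl | rfl) (rfl | rfl | rfl | rfl) <;> decide
  · rintro a (rfl | rfl | rfl | rfl) <;> decide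
  · have : (V4 : Set (Perm (Fin 4))) =
        ({1, swap 0 1 * swap 2 3, swap 0 2 * swap 1 3, swap 0 3 * swap 1 2} :
          Finset (Perm (Fin 4))) := by
      ext σ
      simp [V4]
    rw [← SetLike.coe_sort_coe, Nat.card_coe_set_eq, this, Set.ncard_coe_finset]
    decide

lemma Pe_add {m n a b : ℕ} (h1 : Pe m a) (h2 : Pe n b) : Pe (m + n) (a * b) := by
  obtain ⟨A, hA, hAs, hAc⟩ := h1
  obtain ⟨B, hB, hBs, hBc⟩ := h2
  let φ : Perm (Fin m) × Perm (Fin n) →* Perm (Fin (m + n)) :=
    (permCongrHom finSumFinEquiv).toMonoidHom.comp (Perm.sumCongrHom (Fin m) (Fin n))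
  have hφ : Function.Injective φ := by
    intro x y hxy
    apply Perm.sumCongrHom_injective
    exact (permCongrHom finSumFinEquiv).injective hxy
  refine ⟨(A.prod B).map φ, ?_, ?_, ?_⟩
  · intro x y hx hy
    obtain ⟨x', hx', rfl⟩ := Subgroup.mem_map.1 hx
    obtain ⟨y', hy', rfl⟩ := Subgroup.mem_map.1 hy
    rw [← map_mul, ← map_mul]
    congr 1
    rw [Subgroup.mem_prod] at hx' hy'
    apply Prod.ext
    · exact hA _ _ hx'.1 hy'.1
    · exact hB _ _ hx'.2 hy'.2
  · intro x hx
    obtain ⟨x', hx', rfl⟩ := Subgroup.mem_map.1 hx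
    rw [Subgroup.mem_prod] at hx'
    change Perm.sign (finSumFinEquiv.permCongr (Perm.sumCongr x'.1 x'.2)) = 1
    rw [Perm.sign_permCongr, Perm.sign_sumCongr, hAs _ hx'.1, hBs _ hx'.2, one_mul]
  · rw [Subgroup.card_map_of_injective hφ, Nat.card_congr (Subgroup.prodEquiv A B).toEquiv,
      Nat.card_prod, hAc, hBc]

lemma Pe_three_mul (k : ℕ) : Pe (3 * k) (3 ^ k) := by
  induction k with
  | zero => exact Pe_zero
  | succ k ih =>
    have h := Pe_add ih Pe_three
    have h1 : 3 * k + 3 = 3 * (k + 1) := by ring
    have h2 : 3 ^ k * 3 = 3 ^ (k + 1) := by rw [pow_succ]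
    rwa [h1, h2] at h

lemma isGreatest_of {n c : ℕ} (hP : Pe n c) (hc : c = e n) :
    IsGreatest {c : ℕ | ∃ A : Subgroup (alternatingGroup (Fin n)),
      IsMulCommutative A ∧ Nat.card A = c} c := by
  constructor
  · obtain ⟨A, hA, hAs, hAc⟩ := hP
    have hle : A ≤ alternatingGroup (Fin n) := by
      intro a ha
      rw [Perm.mem_alternatingGroup]
      exact hAs a ha
    refine ⟨A.subgroupOf (alternatingGroup (Fin n)), ⟨⟨fun x y => ?_⟩⟩, ?_⟩
    · apply Subtype.ext
      apply Subtype.ext
      exact hA x.1.1 y.1.1 x.2 y.2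
    · rw [Nat.card_congr (Subgroup.subgroupOfEquivOfLe hle).toEquiv, hAc]
  · rintro c' ⟨A, hA, rfl⟩
    rw [hc, ← Subgroup.card_map_of_injective (alternatingGroup (Fin n)).subtype_injective]
    apply card_le_even n Finset.univ (A.map (alternatingGroup (Fin n)).subtype) (by simp)
    · intro a b ha hb
      obtain ⟨a', ha', rfl⟩ := Subgroup.mem_map.1 ha
      obtain ⟨b', hb', rfl⟩ := Subgroup.mem_map.1 hb
      have := hA.is_comm.comm (⟨a', ha'⟩ : A) ⟨b', hb'⟩
      have h2 := congrArg (fun z : A => (z.1.1 : Perm (Fin n))) this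
      exact h2
    · intro a ha
      obtain ⟨a', _, rfl⟩ := Subgroup.mem_map.1 ha
      exact Perm.mem_alternatingGroup.1 a'.2
    · intro a _ y hy
      exact absurd (Finset.mem_univ y) hy

theorem result (k : ℕ) (hk : 2 ≤ k) :
    IsGreatest {c : ℕ | ∃ A : Subgroup (alternatingGroup (Fin (3 * k))), IsMulCommutative A ∧ Nat.card A = c} (3 ^ k) ∧
    IsGreatest {c : ℕ | ∃ A : Subgroup (alternatingGroup (Fin (3 * k + 1))), IsMulCommutative A ∧ Nat.card A = c}
      (4 * 3 ^ (k - 1)) ∧
    IsGreatest {c : ℕ | ∃ A : Subgroup (alternatingGroup (Fin (3 * k + 2))), IsMulCommutative A ∧ Nat.card A = c}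
      (16 * 3 ^ (k - 2)) := by
  refine ⟨isGreatest_of (Pe_three_mul k) (e_three_mul k).symm, ?_, ?_⟩
  · apply isGreatest_of _ (e_three_mul_add_one k (by omega)).symm
    have h := Pe_add (Pe_three_mul (k - 1)) Pe_four
    have h1 : 3 * (k - 1) + 4 = 3 * k + 1 := by omega
    have h2 : 3 ^ (k - 1) * 4 = 4 * 3 ^ (k - 1) := by ring
    rwa [h1, h2] at h
  · apply isGreatest_of _ (e_three_mul_add_two k hk).symm
    have h := Pe_add (Pe_add (Pe_three_mul (k - 2)) Pe_four) Pe_four
    have h1 : 3 * (k - 2) + 4 + 4 = 3 * k + 2 := by omega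
    have h2 : 3 ^ (k - 2) * 4 * 4 = 16 * 3 ^ (k - 2) := by ring
    rwa [h1, h2] at h

end Cfsg.Agent.S2504
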