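import Cfsg.Statements.S2513
import Mathlib
import Cfsg.Agent.S2510

set_option autoImplicit false
open Cfsg

namespace Cfsg.Agent.S2513

section Upper

open Polynomial Matrix

variable {F : Type*} [Field F]

theorem dvd_pow_natDegree (g : F[X]) : ∀ (N : ℕ) (μ : F[X]), μ ≠ 0 → μ.natDegree ≤ N →
    (∀ f : F[X], Irreducible f → f ∣ μ → f ∣ g) → μ ∣ g ^ N := by
  intro N
  induction N with
  | zero =>
    intro μ h0 hdeg _
    have h1 : μ = C (μ.coeff 0) := eq_C_of_natDegree_le_zero hdeg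
    have h2 : μ.coeff 0 ≠ 0 := by
      intro h
      rw [h, map_zero] at h1
      exact h0 h1
    have h3 : IsUnit μ := by
      rw [h1]
      exact isUnit_C.2 (IsUnit.mk0 _ h2)
    exact h3.dvd
  | succ N ih =>
    intro μ h0 hdeg hirr
    by_cases hu : IsUnit μ
    · exact hu.dvd
    obtain ⟨f, hf, μ', rfl⟩ := WfDvdMonoid.exists_irreducible_factor hu h0
    have hf0 : f ≠ 0 := hf.ne_zero
    have hμ'0 : μ' ≠ 0 := by
      rintro rfl
      exact h0 (mul_zero f)
    have hfd : 1 ≤ f.natDegree := hf.natDegree_pos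
    have hdeg' : μ'.natDegree ≤ N := by
      rw [natDegree_mul hf0 hμ'0] at hdeg
      omega
    have h1 : μ' ∣ g ^ N := ih μ' hμ'0 hdeg' (fun f' hf' hd => hirr f' hf' (dvd_mul_of_dvd_right hd f))
    have h2 : f ∣ g := hirr f hf (dvd_mul_right f μ')
    rw [pow_succ, mul_comm (g ^ N) g]
    exact mul_dvd_mul h2 h1

end Upper

section Upper2

open Polynomial Matrix

variable {F : Type*} [Field F] [Fintype F]

/-- `lcm` of the numbers `2^d - 1`, `1 ≤ d ≤ n` -/
def Lam (n : ℕ) : ℕ := (Finset.Icc 1 n).lcm (fun d => 2 ^ d - 1)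

theorem two_elems (hF : Fintype.card F = 2) (c : F) : c = 0 ∨ c = 1 := by
  by_cases h : c = 0
  · exact Or.inl h
  · right
    have := FiniteField.pow_card_sub_one_eq_one c h
    rw [hF] at this
    simpa using this

theorem Nn_two (d : ℕ) : Cfsg.Agent.S2510.Nn 2 d = 2 ^ d - 1 := by
  have := Cfsg.Agent.S2510.Nn_mul 2 d (by norm_num)
  rw [this]
  simp

theorem pow_M_eq_one (hF : Fintype.card F = 2) (n : ℕ) (hn : 1 ≤ n)
    (A : Matrix.SpecialLinearGroup (Fin n) F) :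
    A.1 ^ (Lam n * 2 ^ Nat.clog 2 n) = 1 := by
  classical
  have : NeZero n := ⟨by omega⟩
  have : Fact (Nat.Prime 2) := ⟨Nat.prime_two⟩
  have : CharP F 2 := Cfsg.Agent.S2510.charP_of_card 2 1 Nat.prime_two (by rw [hF]; norm_num)
  set μ := minpoly F A.1 with hμdef
  have hμ0 : μ ≠ 0 := (Cfsg.Agent.S2510.minpoly_monic' A.1).ne_zero
  have hle : μ.natDegree ≤ n := by
    have h1 := natDegree_le_of_dvd (Matrix.minpoly_dvd_charpoly A.1) (Matrix.charpoly_monic A.1).ne_zero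
    rw [Matrix.charpoly_natDegree_eq_dim, Fintype.card_fin] at h1
    exact h1
  -- μ divides X^o - 1
  have ho : 0 < orderOf A := orderOf_pos A
  have hμo : μ ∣ X ^ orderOf A - C 1 := by
    have h1 : A.1 ^ orderOf A = (1 : F) • (1 : Matrix (Fin n) (Fin n) F) := by
      rw [one_smul, ← Matrix.SpecialLinearGroup.coe_pow, pow_orderOf_eq_one]; rfl
    rw [Cfsg.Agent.S2510.pow_eq_smul_iff, ← minpoly.dvd_iff] at h1
    exact h1
  have key : ∀ f : F[X], Irreducible f → f ∣ μ → f ∣ X ^ Lam n - C 1 := by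
    intro f hf hfμ
    have hd1 : 1 ≤ f.natDegree := hf.natDegree_pos
    have hdn : f.natDegree ≤ n := le_trans (natDegree_le_of_dvd hfμ hμ0) hle
    obtain ⟨c₀, hc₀⟩ := Cfsg.Agent.S2510.irr_dvd f hf
    rw [hF, Nn_two] at hc₀
    rcases two_elems hF c₀ with h0 | h1
    · exfalso
      rw [h0, map_zero, sub_zero] at hc₀
      have h2 : f ∣ X := hf.prime.dvd_of_dvd_pow hc₀
      have h3 : f ∣ X ^ orderOf A - C 1 := dvd_trans hfμ hμo
      have h4 : f ∣ X ^ orderOf A := dvd_trans h2 (dvd_pow_self X ho.ne')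
      have h5 : f ∣ C 1 := by
        have := dvd_sub h4 h3
        rwa [sub_sub_cancel] at this
      rw [map_one] at h5
      exact hf.not_isUnit (isUnit_of_dvd_one h5)
    · rw [h1] at hc₀
      refine dvd_trans hc₀ ?_
      have hdvd : 2 ^ f.natDegree - 1 ∣ Lam n :=
        Finset.dvd_lcm (f := fun d => 2 ^ d - 1) (Finset.mem_Icc.2 ⟨hd1, hdn⟩)
      obtain ⟨t, ht⟩ := hdvd
      have := sub_dvd_pow_sub_pow (X ^ (2 ^ f.natDegree - 1) : F[X]) (C 1) t
      rw [← pow_mul, ← ht, map_one, one_pow] at this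
      rw [map_one]
      exact this
  have h2 : μ ∣ (X ^ Lam n - C 1) ^ (2 ^ Nat.clog 2 n) :=
    dvd_pow_natDegree _ _ μ hμ0 (le_trans hle (Nat.le_pow_clog (by norm_num) n)) key
  rw [sub_pow_char_pow, ← pow_mul, ← map_pow, one_pow] at h2
  have h3 : A.1 ^ (Lam n * 2 ^ Nat.clog 2 n) = (1 : F) • (1 : Matrix (Fin n) (Fin n) F) := by
    rw [Cfsg.Agent.S2510.pow_eq_smul_iff, ← minpoly.dvd_iff]
    exact h2
  rw [h3, one_smul]

end Upper2

section Lower

open Polynomial Matrix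

variable {F : Type*} [Field F] [Fintype F]

theorem exists_dvd_of_matrix {ι : Type*} [Fintype ι] [DecidableEq ι] (n : ℕ) (hn : 1 ≤ n)
    (hcard : Fintype.card ι = n) (B : Matrix ι ι F) (hdet : B.det = 1) (x : ℕ)
    (hx : ∀ (j : ℕ) (c : F), B ^ j = c • (1 : Matrix ι ι F) → x ∣ j) :
    ∃ g : Matrix.ProjectiveSpecialLinearGroup (Fin n) F, x ∣ orderOf g := by
  classical
  let e : ι ≃ Fin n := Fintype.equivFinOfCardEq hcard
  let Φ := Matrix.reindexAlgEquiv F F e
  let gB : Matrix.SpecialLinearGroup (Fin n) F := Cfsg.Agent.S2533.slMap F e ⟨B, hdet⟩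
  have hgB : gB.1 = Φ B := rfl
  refine ⟨QuotientGroup.mk gB, ?_⟩
  obtain ⟨c, -, hc⟩ := Cfsg.Agent.S2364.pow_central n hn gB _ (pow_orderOf_eq_one
    (QuotientGroup.mk gB : Matrix.ProjectiveSpecialLinearGroup (Fin n) F))
  change gB.1 ^ _ = _ at hc
  rw [hgB] at hc
  apply hx _ c
  apply Φ.injective
  rw [map_pow, hc, map_smul, map_one]

theorem exists_two_part (hF : Fintype.card F = 2) (n : ℕ) (hn : 2 ≤ n) :
    ∃ g : Matrix.ProjectiveSpecialLinearGroup (Fin n) F, 2 ^ Nat.clog 2 n ∣ orderOf g := by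
  classical
  have : Fact (Nat.Prime 2) := ⟨Nat.prime_two⟩
  have : CharP F 2 := Cfsg.Agent.S2510.charP_of_card 2 1 Nat.prime_two (by rw [hF]; norm_num)
  set T := Nat.clog 2 n with hT
  have hT1 : 1 ≤ T := Nat.clog_pos (by norm_num) hn
  have hTn : 2 ^ (T - 1) < n := Nat.pow_pred_clog_lt_self (by norm_num) (by omega)
  obtain ⟨U, hUdet, hU⟩ := Cfsg.Agent.S2510.exists_unip (F := F) 2 T hT1
  obtain ⟨k, hk⟩ : ∃ k, n = (2 ^ (T - 1) + 1) + k := ⟨n - (2 ^ (T - 1) + 1), by omega⟩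
  set B : Matrix (Fin (2 ^ (T - 1) + 1) ⊕ Fin k) (Fin (2 ^ (T - 1) + 1) ⊕ Fin k) F :=
    Matrix.fromBlocks U 0 0 (1 : Matrix (Fin k) (Fin k) F) with hB
  have hBdet : B.det = 1 := by
    rw [hB, Matrix.det_fromBlocks_zero₁₂, hUdet, Matrix.det_one, mul_one]
  have hcard : Fintype.card (Fin (2 ^ (T - 1) + 1) ⊕ Fin k) = n := by
    rw [Fintype.card_sum, Fintype.card_fin, Fintype.card_fin]
    omega
  apply exists_dvd_of_matrix n (by omega) hcard B hBdet
  intro j c h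
  rw [hB, Cfsg.Agent.S2468.fromBlocks_pow', Cfsg.Agent.S2468.fromBlocks_eq_smul_one] at h
  exact (hU j c h.1).2

theorem exists_odd_part (hF : Fintype.card F = 2) (n : ℕ) (d : ℕ) (hd : 1 ≤ d) (hdn : d ≤ n) :
    ∃ g : Matrix.ProjectiveSpecialLinearGroup (Fin n) F, 2 ^ d - 1 ∣ orderOf g := by
  classical
  have : Fact (Nat.Prime 2) := ⟨Nat.prime_two⟩
  have : CharP F 2 := Cfsg.Agent.S2510.charP_of_card 2 1 Nat.prime_two (by rw [hF]; norm_num)
  obtain ⟨S, hSdet, hS⟩ := Cfsg.Agent.S2510.exists_singer1 (F := F) 2 d hd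
  rw [hF, Nn_two] at hS
  obtain ⟨k, hk⟩ : ∃ k, n = d + k := ⟨n - d, by omega⟩
  set B : Matrix (Fin d ⊕ Fin k) (Fin d ⊕ Fin k) F :=
    Matrix.fromBlocks S 0 0 (1 : Matrix (Fin k) (Fin k) F) with hB
  have hBdet : B.det = 1 := by
    rw [hB, Matrix.det_fromBlocks_zero₁₂, hSdet, Matrix.det_one, mul_one]
  have hcard : Fintype.card (Fin d ⊕ Fin k) = n := by
    rw [Fintype.card_sum, Fintype.card_fin, Fintype.card_fin]
    omega
  apply exists_dvd_of_matrix n (by omega) hcard B hBdet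
  intro j c h
  rw [hB, Cfsg.Agent.S2468.fromBlocks_pow', Cfsg.Agent.S2468.fromBlocks_eq_smul_one] at h
  have h1 := h.1
  have : NeZero d := ⟨by omega⟩
  rcases two_elems hF c with h0 | hc1
  · exfalso
    rw [h0, zero_smul] at h1
    have h2 := congrArg Matrix.det h1
    have hne : Nonempty (Fin d) := ⟨⟨0, hd⟩⟩
    rw [Matrix.det_pow, hSdet, one_pow, Matrix.det_zero] at h2
    exact one_ne_zero h2
  · rw [hc1, one_smul] at h1
    exact hS j h1

end Lower

section Main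

open Polynomial Matrix

variable {F : Type*} [Field F] [Fintype F]

theorem Lam_coprime (n : ℕ) : Nat.Coprime (Lam n) (2 ^ Nat.clog 2 n) := by
  apply Nat.Coprime.pow_right
  rw [Nat.coprime_comm]
  have h1 : Lam n ∣ ∏ d ∈ Finset.Icc 1 n, (2 ^ d - 1) := by
    apply Finset.lcm_dvd
    intro d hd
    exact Finset.dvd_prod_of_mem (fun d => 2 ^ d - 1) hd
  apply Nat.Coprime.coprime_dvd_right h1
  apply Nat.Coprime.prod_right
  intro d hd
  have hd1 : 1 ≤ d := (Finset.mem_Icc.1 hd).1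
  rw [Nat.coprime_two_left]
  have h2 : 2 ^ d = 2 * 2 ^ (d - 1) := by
    rw [← pow_succ']
    congr 1
    omega
  have h3 : 0 < 2 ^ (d - 1) := Nat.pow_pos (by norm_num)
  exact ⟨2 ^ (d - 1) - 1, by omega⟩

theorem exists_multiple (n d : ℕ) (hd : 1 ≤ d) (hdn : d ≤ n) :
    ∃ m, d ∣ m ∧ n / 2 < m ∧ m ≤ n := by
  refine ⟨d * (n / d), dvd_mul_right _ _, ?_, Nat.mul_div_le n d⟩
  have h1 : n < d * (n / d) + d := Nat.lt_mul_div_succ n (by omega)
  have h2 : 1 ≤ n / d := (Nat.one_le_div_iff (by omega)).2 hdn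
  have h3 : d ≤ d * (n / d) := Nat.le_mul_of_pos_right d h2
  omega

theorem main (hF : Fintype.card F = 2) (n k : ℕ) (hn : 2 ≤ n) (hk : (n + 3) / 2 ≤ k) :
    Set.range (orderOf : (Fin k → Matrix.ProjectiveSpecialLinearGroup (Fin n) F) → ℕ) =
      {N | N ∣ Lam n * 2 ^ Nat.clog 2 n} := by
  classical
  have : NeZero n := ⟨by omega⟩
  ext N
  constructor
  · rintro ⟨f, rfl⟩
    apply orderOf_dvd_of_pow_eq_one
    funext i
    rw [Pi.pow_apply, Pi.one_apply]
    obtain ⟨A, hA⟩ := QuotientGroup.mk_surjective (f i)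
    rw [← hA, ← QuotientGroup.mk_pow]
    have h1 : A ^ (Lam n * 2 ^ Nat.clog 2 n) = 1 := by
      apply Subtype.ext
      rw [Matrix.SpecialLinearGroup.coe_pow, pow_M_eq_one hF n (by omega) A]
      rfl
    rw [h1]
    rfl
  · intro hN
    obtain ⟨g₀, hg₀⟩ := exists_two_part hF n hn
    have hgd : ∀ d, ∃ g : Matrix.ProjectiveSpecialLinearGroup (Fin n) F,
        (1 ≤ d ∧ d ≤ n) → 2 ^ d - 1 ∣ orderOf g := by
      intro d
      by_cases h : 1 ≤ d ∧ d ≤ n
      · obtain ⟨g, hg⟩ := exists_odd_part hF n d h.1 h.2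
        exact ⟨g, fun _ => hg⟩
      · exact ⟨1, fun h' => absurd h' h⟩
    choose gd hgd using hgd
    let f₀ : Fin k → Matrix.ProjectiveSpecialLinearGroup (Fin n) F :=
      fun i => if i.val = 0 then g₀ else gd (n / 2 + i.val)
    have hcomp : ∀ i : Fin k, orderOf (f₀ i) ∣ orderOf f₀ := by
      intro i
      apply orderOf_dvd_of_pow_eq_one
      rw [← Pi.pow_apply, pow_orderOf_eq_one, Pi.one_apply]
    have hk0 : 0 < k := by omega
    have h2 : 2 ^ Nat.clog 2 n ∣ orderOf f₀ := by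
      refine dvd_trans ?_ (hcomp ⟨0, hk0⟩)
      have : f₀ ⟨0, hk0⟩ = g₀ := by simp [f₀]
      rw [this]
      exact hg₀
    have h3 : Lam n ∣ orderOf f₀ := by
      apply Finset.lcm_dvd
      intro d hd
      obtain ⟨hd1, hdn⟩ := Finset.mem_Icc.1 hd
      obtain ⟨m, hdm, hm1, hm2⟩ := exists_multiple n d hd1 hdn
      have hi : m - n / 2 < k := by omega
      refine dvd_trans ?_ (hcomp ⟨m - n / 2, hi⟩)
      have : f₀ ⟨m - n / 2, hi⟩ = gd m := by
        have hne : m - n / 2 ≠ 0 := by omega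
        simp only [f₀, hne, if_false]
        congr 1
        omega
      rw [this]
      refine dvd_trans ?_ (hgd m ⟨by omega, hm2⟩)
      obtain ⟨t, rfl⟩ := hdm
      have := Nat.sub_dvd_pow_sub_pow (2 ^ d) 1 t  
      rwa [one_pow, ← pow_mul] at this
    have h4 : Lam n * 2 ^ Nat.clog 2 n ∣ orderOf f₀ :=
      (Lam_coprime n).mul_dvd_of_dvd_of_dvd h3 h2
    exact Cfsg.Agent.S2510.range_dvd_closed _ ⟨f₀, rfl⟩ N (dvd_trans hN h4)

end Main

/-- Let F be the field with two elements, n ≥ 2, L = PSL(n, F) and k₀ = ⌊(n + 3)/2⌋. Then for every k ≥ k₀ the direct product of k copies of L has the same set of element orders as the direct product of k₀ copies of L. -/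
theorem result {F : Type*} [Field F] [Fintype F] (hF : Fintype.card F = 2) (n k : ℕ) (hn : 2 ≤ n) (hk : (n + 3) / 2 ≤ k) :
    Set.range (orderOf : (Fin k → Matrix.ProjectiveSpecialLinearGroup (Fin n) F) → ℕ) = Set.range (orderOf : (Fin ((n + 3) / 2) → Matrix.ProjectiveSpecialLinearGroup (Fin n) F) → ℕ) := by
  rw [main hF n k hn hk, main hF n ((n + 3) / 2) hn le_rfl]

end Cfsg.Agent.S2513
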