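import Cfsg.Statements.S2514

set_option autoImplicit false
open Cfsg

namespace Cfsg.Agent.S2514

/-- element orders -/
def om (X : Type*) [Group X] : Set ℕ := Set.range (orderOf : X → ℕ)

/-- element orders maximal under divisibility -/
def mu (X : Type*) [Group X] : Set ℕ :=
  {n | n ∈ Set.range (orderOf : X → ℕ) ∧ ∀ m ∈ Set.range (orderOf : X → ℕ), n ∣ m → m = n}

theorem om_dvd {X : Type*} [Group X] [Finite X] {d n : ℕ} (hn : n ∈ om X) (hd : d ∣ n) :
    d ∈ om X := by
  obtain ⟨x, rfl⟩ := hn
  exact ⟨x ^ (orderOf x / d), orderOf_pow_orderOf_div (orderOf_pos x).ne' hd⟩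

theorem exists_mu {X : Type*} [Group X] [Finite X] {n : ℕ} (hn : n ∈ om X) :
    ∃ m ∈ mu X, n ∣ m := by
  classical
  have hfin : (om X).Finite := Set.finite_range _
  let S := hfin.toFinset.filter (fun m => n ∣ m)
  have hS : S.Nonempty := ⟨n, by simp [S, hn]⟩
  obtain ⟨m, hmS, hmax⟩ := S.exists_max_image id hS
  have hm : m ∈ om X ∧ n ∣ m := by simpa [S] using hmS
  refine ⟨m, ⟨hm.1, ?_⟩, hm.2⟩
  intro m' hm' hdvd
  have hm'S : m' ∈ S := by simp [S]; exact ⟨hm', hm.2.trans hdvd⟩
  have h1 : m' ≤ m := hmax m' hm'S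
  obtain ⟨x, rfl⟩ := hm'
  have h2 : m ≤ orderOf x := Nat.le_of_dvd (orderOf_pos x) hdvd
  omega

theorem lcm_succAbove {k : ℕ} (g : Fin (k + 1) → ℕ) (i : Fin (k + 1)) :
    Finset.univ.lcm g = Nat.lcm (g i) (Finset.univ.lcm (fun j => g (i.succAbove j))) := by
  apply Nat.dvd_antisymm
  · rw [Finset.lcm_dvd_iff]
    intro j _
    rcases Fin.eq_self_or_eq_succAbove i j with rfl | ⟨j', rfl⟩
    · exact Nat.dvd_lcm_left _ _
    · exact (Finset.dvd_lcm (f := fun j => g (i.succAbove j)) (Finset.mem_univ j')).trans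
        (Nat.dvd_lcm_right _ _)
  · apply Nat.lcm_dvd
    · exact Finset.dvd_lcm (Finset.mem_univ i)
    · rw [Finset.lcm_dvd_iff]
      intro j' _
      exact Finset.dvd_lcm (Finset.mem_univ _)

/-- For a finite group X write μ(X) for the set of element orders of X that are maximal under divisibility. Let G and H be finite groups and k ≥ 1 such that μ(H) ⊆ μ(G) and μ(G) has fewer than k elements outside μ(H). Then the direct product of k copies of G has the same set of element orders as the direct product of k − 1 copies of G with H. -/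
theorem result {G H : Type*} [Group G] [Finite G] [Group H] [Finite H] (k : ℕ) (hk : 1 ≤ k)
    (hsub : {n : ℕ | n ∈ Set.range (orderOf : H → ℕ) ∧ ∀ m ∈ Set.range (orderOf : H → ℕ), n ∣ m → m = n} ⊆ {n : ℕ | n ∈ Set.range (orderOf : G → ℕ) ∧ ∀ m ∈ Set.range (orderOf : G → ℕ), n ∣ m → m = n})
    (hfew : ({n : ℕ | n ∈ Set.range (orderOf : G → ℕ) ∧ ∀ m ∈ Set.range (orderOf : G → ℕ), n ∣ m → m = n} \ {n : ℕ | n ∈ Set.range (orderOf : H → ℕ) ∧ ∀ m ∈ Set.range (orderOf : H → ℕ), n ∣ m → m = n}).ncard < k) :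
    Set.range (orderOf : (Fin k → G) → ℕ) = Set.range (orderOf : (Fin (k - 1) → G) × H → ℕ) := by
  obtain ⟨k', rfl⟩ : ∃ k', k = k' + 1 := ⟨k - 1, by omega⟩
  change Set.range (orderOf : (Fin (k' + 1) → G) → ℕ) = Set.range (orderOf : (Fin k' → G) × H → ℕ)
  change mu H ⊆ mu G at hsub
  change (mu G \ mu H).ncard < k' + 1 at hfew
  have hHG : om H ⊆ om G := by
    intro h hh
    obtain ⟨m, hm, hdvd⟩ := exists_mu hh
    exact om_dvd (hsub hm).1 hdvd
  apply Set.eq_of_subset_of_subset
  · rintro _ ⟨f, rfl⟩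
    rw [Pi.orderOf]
    have hm : ∀ i, ∃ m ∈ mu G, orderOf (f i) ∣ m := fun i => exists_mu ⟨f i, rfl⟩
    choose m hmmu hmdvd using hm
    by_cases hA : ∃ i, m i ∈ mu H
    · obtain ⟨i, hi⟩ := hA
      have : orderOf (f i) ∈ om H := om_dvd hi.1 (hmdvd i)
      obtain ⟨h, hh⟩ := this
      refine ⟨(fun j => f (i.succAbove j), h), ?_⟩
      rw [Prod.orderOf, Pi.orderOf, lcm_succAbove _ i, hh, Nat.lcm_comm]
    · push Not at hA
      have hnotinj : ¬ Function.Injective m := by
        intro hinj
        have hfin : (mu G \ mu H).Finite :=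
          (Set.finite_range (orderOf : G → ℕ)).subset (fun x hx => hx.1.1)
        have hsub' : Set.range m ⊆ mu G \ mu H := by
          rintro _ ⟨i, rfl⟩; exact ⟨hmmu i, hA i⟩
        have h1 := Set.ncard_le_ncard hsub' hfin
        rw [Set.ncard_range_of_injective hinj, Nat.card_fin] at h1
        omega
      rw [Function.Injective] at hnotinj
      push Not at hnotinj
      obtain ⟨i, j, hij, hne⟩ := hnotinj
      have hl : Nat.lcm (orderOf (f i)) (orderOf (f j)) ∈ om G :=
        om_dvd (hmmu i).1 (Nat.lcm_dvd (hmdvd i) (hij ▸ hmdvd j))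
      obtain ⟨g', hg'⟩ := hl
      obtain ⟨j', rfl⟩ : ∃ j', j = i.succAbove j' :=
        (Fin.eq_self_or_eq_succAbove i j).resolve_left (Ne.symm hne)
      refine ⟨(Function.update (fun t => f (i.succAbove t)) j' g', 1), ?_⟩
      rw [Prod.orderOf, orderOf_one, Nat.lcm_one_right, Pi.orderOf, lcm_succAbove _ i]
      apply Nat.dvd_antisymm
      · rw [Finset.lcm_dvd_iff]
        intro t _
        by_cases ht : t = j'
        · subst ht
          simp only [Function.update_self]
          rw [hg']
          exact Nat.lcm_dvd (Nat.dvd_lcm_left _ _)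
            ((Finset.dvd_lcm (f := fun t => orderOf (f (i.succAbove t))) (Finset.mem_univ t)).trans
              (Nat.dvd_lcm_right _ _))
        · simp only [Function.update_of_ne ht]
          exact (Finset.dvd_lcm (f := fun t => orderOf (f (i.succAbove t))) (Finset.mem_univ t)).trans
              (Nat.dvd_lcm_right _ _)
      · have hg'' : orderOf g' ∣ Finset.univ.lcm
            (fun t => orderOf (Function.update (fun t => f (i.succAbove t)) j' g' t)) := by
          have := Finset.dvd_lcm
            (f := fun t => orderOf (Function.update (fun t => f (i.succAbove t)) j' g' t))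
            (Finset.mem_univ j')
          simpa only [Function.update_self] using this
        apply Nat.lcm_dvd
        · exact (hg' ▸ Nat.dvd_lcm_left _ _ : orderOf (f i) ∣ orderOf g').trans hg''
        · rw [Finset.lcm_dvd_iff]
          intro t _
          by_cases ht : t = j'
          · subst ht
            exact (hg' ▸ Nat.dvd_lcm_right _ _ : orderOf (f (i.succAbove t)) ∣ orderOf g').trans hg''
          · have := Finset.dvd_lcm
              (f := fun t => orderOf (Function.update (fun t => f (i.succAbove t)) j' g' t))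
              (Finset.mem_univ t)
            simpa only [Function.update_of_ne ht] using this
  · rintro _ ⟨⟨f, h⟩, rfl⟩
    rw [Prod.orderOf, Pi.orderOf]
    obtain ⟨g₀, hg₀⟩ := hHG ⟨h, rfl⟩
    refine ⟨Fin.cons g₀ f, ?_⟩
    rw [Pi.orderOf, lcm_succAbove _ 0]
    simp only [Fin.cons_zero, Fin.succAbove_zero, Fin.cons_succ]
    rw [hg₀, Nat.lcm_comm]


end Cfsg.Agent.S2514
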