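import Cfsg.Statements.S2516

set_option autoImplicit false
open Cfsg

namespace Cfsg.Agent.S2516

open Polynomial

section

variable {F : Type*} [Field F] {V : Type*} [AddCommGroup V] [Module F V]
  {G : Type*} [Group G] (ρ : Representation F G V)

/-- the action used in the semidirect product -/
noncomputable abbrev act : G →* MulAut (Multiplicative V) :=
  (MulAutMultiplicative V).symm.toMonoidHom.comp
    ((DistribMulAction.toAddAut ((V →ₗ[F] V)ˣ) V).comp ρ.asGroupHom)

theorem act_apply (g : G) (v : V) :
    act ρ g (Multiplicative.ofAdd v) = Multiplicative.ofAdd (ρ g v) := rfl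

theorem pow_eq (g : G) (v : V) (n : ℕ) :
    (⟨Multiplicative.ofAdd v, g⟩ : Multiplicative V ⋊[act ρ] G) ^ n =
      ⟨Multiplicative.ofAdd ((∑ i ∈ Finset.range n, (ρ g) ^ i) v), g ^ n⟩ := by
  induction n with
  | zero =>
    ext
    · simp
    · simp
  | succ n ih =>
    rw [pow_succ, ih]
    ext
    · simp only [SemidirectProduct.mul_left]
      rw [act_apply, ← ofAdd_add, map_pow, Finset.sum_range_succ, LinearMap.add_apply]
    · simp only [SemidirectProduct.mul_right]
      rw [pow_succ]

end

/-- Let F be a field of characteristic p > 0, V a non-zero finite-dimensional F-vector space, G a finite group and ρ a representation of G on V; form the semidirect product V ⋊ G. For g ∈ G of order k, the coset Vg contains an element of order pk if and only if the minimal polynomial of ρ(g) does not divide 1 + X + ⋯ + X^(k−1). -/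
theorem result {F : Type*} [Field F] (p : ℕ) [Fact p.Prime] [CharP F p] {V : Type*} [AddCommGroup V] [Module F V] [FiniteDimensional F V] [Nontrivial V]
    {G : Type*} [Group G] [Finite G] (ρ : Representation F G V) (g : G) :
    (∃ x : Multiplicative V ⋊[(MulAutMultiplicative V).symm.toMonoidHom.comp
        ((DistribMulAction.toAddAut ((V →ₗ[F] V)ˣ) V).comp ρ.asGroupHom)] G,
        x.right = g ∧ orderOf x = p * orderOf g) ↔
      ¬ (minpoly F (ρ g) ∣ ∑ i ∈ Finset.range (orderOf g), (Polynomial.X : Polynomial F) ^ i) := by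
  have hp2 := (Fact.out : p.Prime).two_le
  set k := orderOf g with hk
  have hk0 : 0 < k := orderOf_pos g
  set N : V →ₗ[F] V := ∑ i ∈ Finset.range k, (ρ g) ^ i with hN
  have hNa : aeval (ρ g) (∑ i ∈ Finset.range k, (X : F[X]) ^ i) = N := by
    simp [hN, map_sum]
  rw [minpoly.dvd_iff, hNa]
  have hxk : ∀ v : V, (⟨Multiplicative.ofAdd v, g⟩ : Multiplicative V ⋊[act ρ] G) ^ k =
      SemidirectProduct.inl (Multiplicative.ofAdd (N v)) := by
    intro v
    rw [pow_eq, pow_orderOf_eq_one]
    rfl
  constructor
  · rintro ⟨x, hxg, hxo⟩ hN0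
    obtain ⟨n, g'⟩ := x
    simp only at hxg
    subst hxg
    have h1 := hxk (Multiplicative.toAdd n)
    rw [ofAdd_toAdd, hN0, LinearMap.zero_apply, ofAdd_zero, map_one] at h1
    have hdvd := orderOf_dvd_of_pow_eq_one h1
    change orderOf (⟨n, g'⟩ : Multiplicative V ⋊[act ρ] G) = p * k at hxo
    rw [hxo] at hdvd
    have := Nat.le_of_dvd hk0 hdvd
    nlinarith
  · intro hN0
    obtain ⟨v, hv⟩ : ∃ v, N v ≠ 0 := by
      by_contra h
      push Not at h
      exact hN0 (LinearMap.ext h)
    refine ⟨⟨Multiplicative.ofAdd v, g⟩, rfl, ?_⟩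
    change orderOf (⟨Multiplicative.ofAdd v, g⟩ : Multiplicative V ⋊[act ρ] G) = p * k
    set x : Multiplicative V ⋊[act ρ] G := ⟨Multiplicative.ofAdd v, g⟩ with hx
    have hkx : k ∣ orderOf x := by
      have h1 : (SemidirectProduct.rightHom x) = g := rfl
      rw [hk, ← h1]
      exact orderOf_map_dvd _ x
    have hp : orderOf (x ^ k) = p := by
      rw [hx, hxk v, orderOf_injective _ SemidirectProduct.inl_injective,
        orderOf_ofAdd_eq_addOrderOf]
      apply addOrderOf_eq_prime _ hv
      rw [← Nat.cast_smul_eq_nsmul F, CharP.cast_eq_zero, zero_smul]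
    rw [orderOf_pow_of_dvd hk0.ne' hkx] at hp
    obtain ⟨c, hc⟩ := hkx
    rw [hc, Nat.mul_div_cancel_left _ hk0] at hp
    rw [hc, hp, mul_comm]

end Cfsg.Agent.S2516
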