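import Cfsg.Statements.S2518
import Cfsg.Agent.Lib.Helper8.PG.G2Six
import Cfsg.Agent.Lib.Helper8.PG.PSL13

set_option autoImplicit false
open Cfsg

namespace Cfsg.Agent.S2518

open Cfsg.Agent.Lib.Helper8.PG

theorem charP_thirteen_of_card {E : Type*} [Field E] [Fintype E] (hE : Fintype.card E = 13) :
    CharP E 13 := by
  obtain ⟨p, hp⟩ := CharP.exists E
  obtain ⟨n, hpp, hn⟩ := FiniteField.card E p
  have h1 : p ∣ 13 := by
    have : p ∣ p ^ (n : ℕ) := dvd_pow_self p n.ne_zero
    rw [← hn, hE] at this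
    exact this
  have h2 : p = 13 := (Nat.prime_dvd_prime_iff_eq hpp (by norm_num)).1 h1
  rw [← h2]
  exact hp

/-- Let F₃ be the field with 3 elements and F₁₃ the field with 13 elements. The Chevalley group G₂(F₃) and PSL(2, F₁₃) have the same prime graph: the same prime divisors of their orders, and for distinct primes r, s an element of order rs in one iff in the other. -/
theorem result {F : Type*} [Field F] [Fintype F] (hF : Fintype.card F = 3) {E : Type*} [Field E] [Fintype E] (hE : Fintype.card E = 13) :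
    ((∀ r : ℕ, r.Prime → (r ∣ Nat.card ↥(Cfsg.Lie.chevG2.group F) ↔ r ∣ Nat.card (Matrix.ProjectiveSpecialLinearGroup (Fin 2) E))) ∧
      (∀ r s : ℕ, r.Prime → s.Prime → r ≠ s → ((∃ x : ↥(Cfsg.Lie.chevG2.group F), orderOf x = r * s) ↔ (∃ y : (Matrix.ProjectiveSpecialLinearGroup (Fin 2) E), orderOf y = r * s)))) := by
  have hchar : CharP E 13 := charP_thirteen_of_card hE
  have hE13 : ∀ t : E, t ^ 13 = t := by
    intro t
    have := FiniteField.pow_card t
    rwa [hE] at this
  refine ⟨?_, ?_⟩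
  · intro r hr
    rw [prime_dvd_card_g2_three hF r hr, prime_dvd_card_psl13 hE13 r hr]
  · intro r s hr hs hrs
    constructor
    · rintro ⟨x, hx⟩
      obtain ⟨g, hg⟩ := psl13_exists_six (F := E)
      refine ⟨g, ?_⟩
      rcases g2_three_mul_primes hF x hr hs hrs hx with ⟨rfl, rfl⟩ | ⟨rfl, rfl⟩
      · exact hg
      · exact hg
    · rintro ⟨y, hy⟩
      obtain ⟨g, hg⟩ := g2_three_exists_six hF
      refine ⟨g, ?_⟩
      rcases psl13_mul_primes hE13 y hr hs hrs hy with ⟨rfl, rfl⟩ | ⟨rfl, rfl⟩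
      · exact hg
      · exact hg

end Cfsg.Agent.S2518
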