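import Cfsg.Statements.S2532

set_option autoImplicit false
open Cfsg
open Equiv

namespace Cfsg.Agent.S2532

/-- act on the second factor -/
def liftR (A : Type*) (r : ℕ) : Perm (Fin r) →* Perm (A × Fin r) where
  toFun σ := Equiv.prodCongrRight (fun _ => σ)
  map_one' := by ext ⟨a, i⟩ <;> rfl
  map_mul' σ τ := by ext ⟨a, i⟩ <;> rfl

theorem liftR_apply (A : Type*) (r : ℕ) (σ : Perm (Fin r)) (a : A) (i : Fin r) :
    liftR A r σ (a, i) = (a, σ i) := rfl

theorem construct {α : Type*} [Fintype α] [DecidableEq α] (H' : Subgroup (Perm α))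
    (S : Subgroup H') (r : ℕ) (x : Fin r → α)
    (hst : ∀ i, MulAction.stabilizer H' (x i) = S)
    (horb : ∀ i j, x i ∈ MulAction.orbit H' (x j) → i = j) :
    ∃ Φ : Perm (Fin r) →* Perm α, Function.Injective Φ ∧
      (∀ σ, ∀ h ∈ H', h * Φ σ = Φ σ * h) ∧ (∀ σ, Perm.sign σ = 1 → Perm.sign (Φ σ) = 1) := by
  classical
  let F : (H' ⧸ S) × Fin r → α := fun qi =>
    Quotient.liftOn' qi.1 (fun a => a • x qi.2) (by
      intro a b hab
      rw [QuotientGroup.leftRel_apply, ← hst qi.2, MulAction.mem_stabilizer_iff] at hab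
      calc a • x qi.2 = a • ((a⁻¹ * b) • x qi.2) := by rw [hab]
        _ = b • x qi.2 := by rw [smul_smul, mul_inv_cancel_left])
  have hFmk : ∀ (a : H') (i : Fin r), F (QuotientGroup.mk a, i) = a • x i := fun a i => rfl
  have hF : Function.Injective F := by
    rintro ⟨q, i⟩ ⟨q', i'⟩ hqq
    induction q using QuotientGroup.induction_on with
    | H a =>
      induction q' using QuotientGroup.induction_on with
      | H b =>
        rw [hFmk, hFmk] at hqq
        have hii : i = i' := horb i i' (MulAction.mem_orbit_iff.mpr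
          ⟨a⁻¹ * b, by rw [mul_smul, ← hqq, inv_smul_smul]⟩)
        subst hii
        have : a⁻¹ * b ∈ S := by
          rw [← hst i, MulAction.mem_stabilizer_iff, mul_smul, ← hqq, inv_smul_smul]
        rw [QuotientGroup.eq.mpr this]
  let e : (H' ⧸ S) × Fin r ≃ {y : α // y ∈ Set.range F} := Equiv.ofInjective F hF
  have he : ∀ qi, ((e qi : {y : α // y ∈ Set.range F}) : α) = F qi := fun qi => rfl
  let Φ : Perm (Fin r) →* Perm α := (Equiv.Perm.extendDomainHom e).comp (liftR (H' ⧸ S) r)
  have hΦin : ∀ σ q i, Φ σ (F (q, i)) = F (q, σ i) := by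
    intro σ q i
    show ((liftR (H' ⧸ S) r σ).extendDomain e) (F (q, i)) = F (q, σ i)
    rw [← he (q, i), Equiv.Perm.extendDomain_apply_image, liftR_apply, he]
  have hΦout : ∀ σ y, y ∉ Set.range F → Φ σ y = y := by
    intro σ y hy
    show ((liftR (H' ⧸ S) r σ).extendDomain e) y = y
    exact Equiv.Perm.extendDomain_apply_not_subtype _ _ hy
  refine ⟨Φ, ?_, ?_, ?_⟩
  · apply (Equiv.Perm.extendDomainHom_injective e).comp
    intro σ τ hστ
    ext i
    have := congrArg (fun P => (P ((QuotientGroup.mk 1 : H' ⧸ S), i)).2) hστ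
    simpa [liftR_apply] using congrArg Fin.val this
  · intro σ h hh
    ext y
    rw [Perm.mul_apply, Perm.mul_apply]
    by_cases hy : y ∈ Set.range F
    · obtain ⟨⟨q, i⟩, rfl⟩ := hy
      induction q using QuotientGroup.induction_on with
      | H a =>
        rw [hΦin]
        have h1 : ∀ j, h (F (QuotientGroup.mk a, j)) = F (QuotientGroup.mk (⟨h, hh⟩ * a), j) := by
          intro j
          rw [hFmk, hFmk, mul_smul]; rfl
        rw [h1, h1, hΦin]
    · have hy' : h y ∉ Set.range F := by
        rintro ⟨⟨q, i⟩, hqi⟩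
        apply hy
        induction q using QuotientGroup.induction_on with
        | H a =>
          refine ⟨(QuotientGroup.mk ((⟨h, hh⟩ : H')⁻¹ * a), i), ?_⟩
          rw [hFmk, mul_smul, ← hFmk, hqi]
          show h⁻¹ (h y) = y
          simp
      rw [hΦout σ y hy, hΦout σ (h y) hy']
  · intro σ hσ
    show Perm.sign ((liftR (H' ⧸ S) r σ).extendDomain e) = 1
    rw [Equiv.Perm.sign_extendDomain]
    show Perm.sign (Equiv.prodCongrRight (fun _ => σ)) = 1
    rw [Equiv.Perm.sign_prodCongrRight, Finset.prod_const, hσ, one_pow]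


theorem pigeon {α : Type*} [Fintype α] [DecidableEq α] (H' : Subgroup (Perm α)) (r : ℕ)
    (hbig : Nat.card H' * (2 ^ Nat.card H' * r + 1) ≤ Fintype.card α) :
    ∃ (S : Subgroup H') (x : Fin r → α), (∀ i, MulAction.stabilizer H' (x i) = S) ∧
      (∀ i j, x i ∈ MulAction.orbit H' (x j) → i = j) := by
  classical
  haveI : Fintype (MulAction.orbitRel.Quotient H' α) := Fintype.ofFinite _
  haveI : Fintype (Subgroup H') := Fintype.ofFinite _
  haveI : Fintype H' := Fintype.ofFinite _
  let rep : MulAction.orbitRel.Quotient H' α → α := Quotient.out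
  let stab : MulAction.orbitRel.Quotient H' α → Subgroup H' :=
    fun ω => MulAction.stabilizer H' (rep ω)
  have hh : 0 < Nat.card H' := Nat.card_pos
  have h1 : Fintype.card α ≤ Fintype.card (MulAction.orbitRel.Quotient H' α) * Nat.card H' := by
    rw [← Nat.card_eq_fintype_card, Nat.card_congr (MulAction.selfEquivSigmaOrbits H' α),
      Nat.card_sigma]
    calc ∑ ω : MulAction.orbitRel.Quotient H' α, Nat.card (MulAction.orbit H' (Quotient.out ω))
        ≤ ∑ _ω : MulAction.orbitRel.Quotient H' α, Nat.card H' := by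
          apply Finset.sum_le_sum
          intro ω _
          exact Nat.card_le_card_of_surjective
            (Set.rangeFactorization (fun g : H' => g • (Quotient.out ω : α)))
            Set.rangeFactorization_surjective
      _ = Fintype.card (MulAction.orbitRel.Quotient H' α) * Nat.card H' := by
          rw [Finset.sum_const, Finset.card_univ, smul_eq_mul]
  have h2 : Fintype.card (Subgroup H') ≤ 2 ^ Nat.card H' := by
    calc Fintype.card (Subgroup H') ≤ Fintype.card (Set H') :=
          Fintype.card_le_of_injective _ SetLike.coe_injective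
      _ = 2 ^ Fintype.card H' := Fintype.card_set
      _ = 2 ^ Nat.card H' := by rw [Nat.card_eq_fintype_card]
  have h3 : Fintype.card (Subgroup H') * r < Fintype.card (MulAction.orbitRel.Quotient H' α) := by
    have : Nat.card H' * (2 ^ Nat.card H' * r + 1) ≤
        Nat.card H' * Fintype.card (MulAction.orbitRel.Quotient H' α) := by
      calc _ ≤ Fintype.card α := hbig
        _ ≤ _ := by rw [mul_comm]; exact h1
    have h4 := Nat.le_of_mul_le_mul_left this hh
    calc Fintype.card (Subgroup H') * r ≤ 2 ^ Nat.card H' * r := Nat.mul_le_mul_right _ h2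
      _ < _ := by omega
  obtain ⟨S, hS⟩ := Fintype.exists_lt_card_fiber_of_mul_lt_card stab h3
  have h5 : Fintype.card (Fin r) ≤
      Fintype.card {ω : MulAction.orbitRel.Quotient H' α // stab ω = S} := by
    rw [Fintype.card_fin, Fintype.card_subtype]; exact hS.le
  obtain ⟨emb⟩ := Function.Embedding.nonempty_of_card_le h5
  refine ⟨S, fun i => rep (emb i).1, fun i => (emb i).2, ?_⟩
  intro i j hij
  apply emb.injective
  apply Subtype.ext
  have : (Quotient.mk'' (rep (emb i).1) : MulAction.orbitRel.Quotient H' α) =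
      Quotient.mk'' (rep (emb j).1) := by
    apply Quotient.sound'
    exact (MulAction.orbitRel_apply).mpr hij
  rw [Quotient.out_eq', Quotient.out_eq'] at this
  exact this

theorem result :
    ∃ f : ℕ → ℕ → ℕ, ∀ (m r : ℕ) (H : Subgroup ↥(alternatingGroup (Fin m))), f (Nat.card H) r ≤ m →
      ∃ K : Subgroup ↥(alternatingGroup (Fin m)), Nonempty (↥K ≃* ↥(alternatingGroup (Fin r))) ∧
        K ≤ Subgroup.centralizer (H : Set ↥(alternatingGroup (Fin m))) := by
  refine ⟨fun h r => h * (2 ^ h * r + 1), ?_⟩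
  intro m r H hm
  classical
  obtain ⟨H', hH'⟩ : ∃ H' : Subgroup (Perm (Fin m)),
      H' = H.map (alternatingGroup (Fin m)).subtype := ⟨_, rfl⟩
  have hcard : Nat.card H' = Nat.card H := by
    rw [hH']
    exact Nat.card_congr
      (Subgroup.equivMapOfInjective H _ (Subgroup.subtype_injective _)).toEquiv.symm
  have hbig : Nat.card H' * (2 ^ Nat.card H' * r + 1) ≤ Fintype.card (Fin m) := by
    rw [hcard, Fintype.card_fin]; exact hm
  obtain ⟨S, x, hst, horb⟩ := pigeon H' r hbig
  obtain ⟨Φ, hinj, hcomm, hsign⟩ := construct H' S r x hst horb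
  let Ψ : alternatingGroup (Fin r) →* alternatingGroup (Fin m) :=
    (Φ.comp (alternatingGroup (Fin r)).subtype).codRestrict (alternatingGroup (Fin m))
      (fun σ => by
        rw [Equiv.Perm.mem_alternatingGroup]
        exact hsign _ (Equiv.Perm.mem_alternatingGroup.mp σ.2))
  have hΨinj : Function.Injective Ψ := by
    intro σ τ h
    have := congrArg Subtype.val h
    exact Subtype.ext (hinj this)
  refine ⟨Ψ.range, ⟨(MonoidHom.ofInjective hΨinj).symm⟩, ?_⟩
  rintro k ⟨σ, rfl⟩
  rw [Subgroup.mem_centralizer_iff]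
  intro h hh
  apply Subtype.ext
  show (h : Perm (Fin m)) * Φ σ = Φ σ * h
  exact hcomm σ h (by rw [hH']; exact Subgroup.mem_map_of_mem _ hh)

end Cfsg.Agent.S2532
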