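import Cfsg.Statements.S2537
import Cfsg.Agent.H9.Hall23Arith
import Cfsg.Agent.H9.PSL2Borel2
import Cfsg.Agent.H9.PSL2MinSimple
import Cfsg.Agent.S0802
import Cfsg.Agent.S0803
import Cfsg.Agent.H1.Hall

set_option autoImplicit false
open Cfsg

namespace Cfsg.Agent.S2537

/-- Let `F` be a finite field with `q` elements of characteristic `p ≥ 5`, and `ε = 1` if `q ≡ 1 (mod 4)`, `ε = -1` otherwise. Then `PSL(2, F)` has a Hall `{2, 3}`-subgroup if and only if `3` divides `q − ε`, or the `{2,3}`-part of `q² − 1` is 24, or the `{2,3}`-part of `q² − 1` is 48 (the `{2,3}`-part of `m` being the largest divisor of `m` with no prime factor other than 2 and 3). -/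
theorem result {F : Type*} [Field F] [Fintype F] {p : ℕ} [Fact p.Prime] [CharP F p]
    (hp : 5 ≤ p) (q : ℕ) (hq : Fintype.card F = q) :
    (∃ H : Subgroup (Matrix.ProjectiveSpecialLinearGroup (Fin 2) F), Cfsg.IsPiHall ({2, 3} : Set ℕ) H) ↔
      (3 ∣ q - 1 ∧ q % 4 = 1) ∨ (3 ∣ q + 1 ∧ q % 4 = 3) ∨
        2 ^ (q ^ 2 - 1).factorization 2 * 3 ^ (q ^ 2 - 1).factorization 3 = 24 ∨
        2 ^ (q ^ 2 - 1).factorization 2 * 3 ^ (q ^ 2 - 1).factorization 3 = 48 := by
  classical
  subst hq
  have hpp : p.Prime := Fact.out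
  obtain ⟨f, -, hf⟩ := FiniteField.card F p
  obtain ⟨q, hqdef⟩ : ∃ q, q = Fintype.card F := ⟨_, rfl⟩
  rw [← hqdef] at hf ⊢
  have hp2 : p ≠ 2 := by omega
  have hodd : Odd q := by rw [hf]; exact (hpp.odd_of_ne_two hp2).pow
  have h3q : ¬ 3 ∣ q := by
    rw [hf]
    intro h
    have := (Nat.prime_dvd_prime_iff_eq Nat.prime_three hpp).1 (Nat.prime_three.dvd_of_dvd_pow h)
    omega
  have hq5 : 5 ≤ q := by
    rw [hf]
    calc 5 ≤ p := hp
      _ = p ^ 1 := (pow_one p).symm
      _ ≤ p ^ (f : ℕ) := Nat.pow_le_pow_right hpp.pos f.pos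
  have hq2 : 2 ≤ q := by omega
  have hG := Cfsg.Agent.H9.DicksonMax.card_PSL2_mul F
  rw [← hqdef] at hG
  have hd2 : Nat.gcd 2 (q - 1) = 2 := by
    obtain ⟨t, ht⟩ := hodd
    have : q - 1 = 2 * t := by omega
    rw [this]; simp
  rw [hd2] at hG
  obtain ⟨g, hg⟩ : ∃ g, g = Nat.card (Matrix.ProjectiveSpecialLinearGroup (Fin 2) F) := ⟨_, rfl⟩
  rw [← hg] at hG
  obtain ⟨hA, hB⟩ := Cfsg.Agent.H9.Hall23.fact_g q g hq2 hodd h3q hG
  obtain ⟨A, hAdef⟩ : ∃ A, A = (q ^ 2 - 1).factorization 2 := ⟨_, rfl⟩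
  obtain ⟨B, hBdef⟩ : ∃ B, B = (q ^ 2 - 1).factorization 3 := ⟨_, rfl⟩
  obtain ⟨a, hadef⟩ : ∃ a, a = g.factorization 2 := ⟨_, rfl⟩
  rw [← hAdef, ← hadef] at hA
  rw [← hBdef] at hB
  have hB1 : 1 ≤ B := by rw [hBdef]; exact Cfsg.Agent.H9.Hall23.one_le_fact_three q hq2 h3q
  have hnd := Cfsg.Agent.H9.Hall23.not_dvd_pm q hq2 hodd
  rw [← hAdef] at hnd ⊢
  rw [← hBdef]
  have hhall : ∀ H : Subgroup (Matrix.ProjectiveSpecialLinearGroup (Fin 2) F),
      Cfsg.IsPiHall ({2, 3} : Set ℕ) H ↔ Nat.card H = 2 ^ a * 3 ^ B := by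
    intro H
    rw [Cfsg.Agent.H9.Hall23.hall_iff, ← hg, ← hadef, hB]
  have hpow : 2 ^ A = 2 ^ a * 2 := by rw [← hA, pow_succ]
  have hdp : (q + 1) / 2 * 2 = q + 1 := by
    obtain ⟨t, ht⟩ := hodd
    omega
  have hdm : (q - 1) / 2 * 2 = q - 1 := by
    obtain ⟨t, ht⟩ := hodd
    omega
  constructor
  · rintro ⟨H, hH⟩
    rw [hhall] at hH
    have hpH : ¬ p ∣ Nat.card H := by
      rw [hH]
      intro h
      rcases Cfsg.Agent.H9.Hall23.prime_dvd a B p hpp h with h' | h' <;> omega
    -- a cyclic subgroup of this order does not exist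
    have hnocyc : ∀ k : ℕ, k = 2 ^ a * 3 ^ B → (k * 2 ∣ q + 1 ∨ k * 2 ∣ q - 1) → False := by
      intro k hk hdv
      have h2A : 2 ^ A ∣ k * 2 := by
        rw [hk, hpow]
        exact ⟨3 ^ B, by ring⟩
      rcases hdv with h | h
      · exact hnd.2 (h2A.trans h)
      · exact hnd.1 (h2A.trans h)
    rcases Cfsg.Agent.H9.DicksonUN.dickson q p hqdef.symm H with
      ⟨k, hk, ⟨hc, hck⟩ | ⟨⟨e⟩⟩⟩ | ⟨P, K', hK', ⟨e⟩⟩ | ⟨⟨e⟩⟩ | ⟨⟨e⟩⟩ | ⟨⟨e⟩⟩ |
      ⟨K', i1, i2, m, hm, ⟨⟨e⟩⟩ | ⟨⟨e⟩⟩⟩
    · -- cyclic
      exfalso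
      rw [hd2] at hk
      apply hnocyc k (by rw [← hck, hH])
      rcases hk with h | h
      · left; rw [← hdp]; exact Nat.mul_dvd_mul_right h 2
      · right; rw [← hdm]; exact Nat.mul_dvd_mul_right h 2
    · -- dihedral
      rw [hd2] at hk
      have hk0 : k ≠ 0 := by
        rintro rfl
        have : Infinite (DihedralGroup 0) := by
          have : Infinite (ZMod 0) := inferInstanceAs (Infinite ℤ)
          exact Infinite.of_injective (fun i : ZMod 0 => DihedralGroup.r i)
            (fun a b h => by injection h)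
        have hfin : Finite (DihedralGroup 0) := Finite.of_equiv H e.toEquiv
        exact not_finite (DihedralGroup 0)
      have hcard : Nat.card H = 2 * k := by
        rw [Nat.card_congr e.toEquiv]
        have : NeZero k := ⟨hk0⟩
        exact DihedralGroup.nat_card
      rw [hH] at hcard
      have h2a : 2 ^ a ∣ k * 2 := ⟨3 ^ B, by rw [mul_comm k 2, ← hcard]⟩
      have h3B : 3 ∣ k * 2 := by
        rw [mul_comm k 2, ← hcard]
        exact Dvd.dvd.mul_left (dvd_pow_self 3 (by omega)) _
      rcases hk with h | h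
      · have hdv : k * 2 ∣ q + 1 := by rw [← hdp]; exact Nat.mul_dvd_mul_right h 2
        right; left
        exact ⟨h3B.trans hdv, Cfsg.Agent.H9.Hall23.mod_four_of_dvd_succ q a hq2 hodd
          (by rw [hA, hAdef]) (h2a.trans hdv)⟩
      · have hdv : k * 2 ∣ q - 1 := by rw [← hdm]; exact Nat.mul_dvd_mul_right h 2
        left
        exact ⟨h3B.trans hdv, Cfsg.Agent.H9.Hall23.mod_four_of_dvd_pred q a hq2 hodd
          (by rw [hA, hAdef]) (h2a.trans hdv)⟩
    · -- Borel type
      exfalso
      obtain ⟨g', hg'⟩ := Cfsg.Agent.H9.PSL2Borel.sylow_normalizer_le_BorC p P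
      have hcK : Nat.card K' = 2 ^ a * 3 ^ B := by rw [← Nat.card_congr e.toEquiv, hH]
      have hcyc := Cfsg.Agent.H9.PSL2Borel.isCyclic_of_le_BorC p g' K' (hK'.trans hg')
        (by rw [← Nat.card_congr e.toEquiv]; exact hpH)
      obtain ⟨y, hy⟩ := IsCyclic.exists_generator (α := K')
      have hord : orderOf y = Nat.card K' := orderOf_eq_card_of_forall_mem_zpowers hy
      have hord' : orderOf (y : Matrix.ProjectiveSpecialLinearGroup (Fin 2) F) = 2 ^ a * 3 ^ B := by
        rw [← hcK, ← hord]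
        exact (Subgroup.orderOf_coe y)
      have hcop : Nat.Coprime (orderOf (y : Matrix.ProjectiveSpecialLinearGroup (Fin 2) F)) p := by
        rw [hord', Nat.coprime_comm, Nat.Prime.coprime_iff_not_dvd hpp, ← hH]
        exact hpH
      have := Cfsg.Agent.H9.PSL2MaxAux.psl_order p
        (y : Matrix.ProjectiveSpecialLinearGroup (Fin 2) F) hcop
      rw [← hqdef, hd2, hord'] at this
      apply hnocyc _ rfl
      rcases this with h | h
      · right; rw [mul_comm]; exact h
      · left; rw [mul_comm]; exact h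
    · -- A4
      right; right; left
      have hcard : Nat.card H = 12 := by
        rw [Nat.card_congr e.toEquiv, nat_card_alternatingGroup, Nat.card_eq_fintype_card,
          Fintype.card_fin]
        rfl
      rw [hH] at hcard
      have e12 : (12 : ℕ) = 2 ^ 2 * 3 ^ 1 := by norm_num
      have ha2 : a = 2 := by
        have := congrArg (fun x : ℕ => x.factorization 2) hcard
        rw [e12, Cfsg.Agent.H9.Hall23.fact_two, Cfsg.Agent.H9.Hall23.fact_two] at this
        exact this
      have hB1' : B = 1 := by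
        have := congrArg (fun x : ℕ => x.factorization 3) hcard
        rw [e12, Cfsg.Agent.H9.Hall23.fact_three, Cfsg.Agent.H9.Hall23.fact_three] at this
        exact this
      rw [← hA, ha2, hB1']
      norm_num
    · -- S4
      right; right; right
      have hcard : Nat.card H = 24 := by
        rw [Nat.card_congr e.toEquiv, Nat.card_eq_fintype_card, Fintype.card_perm,
          Fintype.card_fin]
        rfl
      rw [hH] at hcard
      have e24 : (24 : ℕ) = 2 ^ 3 * 3 ^ 1 := by norm_num
      have ha3 : a = 3 := by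
        have := congrArg (fun x : ℕ => x.factorization 2) hcard
        rw [e24, Cfsg.Agent.H9.Hall23.fact_two, Cfsg.Agent.H9.Hall23.fact_two] at this
        exact this
      have hB1' : B = 1 := by
        have := congrArg (fun x : ℕ => x.factorization 3) hcard
        rw [e24, Cfsg.Agent.H9.Hall23.fact_three, Cfsg.Agent.H9.Hall23.fact_three] at this
        exact this
      rw [← hA, ha3, hB1']
      norm_num
    · -- A5
      exfalso
      have hcard : Nat.card H = 60 := by
        rw [Nat.card_congr e.toEquiv, nat_card_alternatingGroup, Nat.card_eq_fintype_card,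
          Fintype.card_fin]
        rfl
      rw [hH] at hcard
      have h5 : 5 ∣ 2 ^ a * 3 ^ B := by rw [hcard]; norm_num
      rcases Cfsg.Agent.H9.Hall23.prime_dvd a B 5 (by norm_num) h5 with h | h <;> omega
    · -- PSL₂(K')
      exfalso
      have hK1 : 1 < Fintype.card K' := Fintype.one_lt_card
      have hcL := Cfsg.Agent.H9.DicksonMax.card_PSL2_mul K'
      rw [← Nat.card_congr e.toEquiv] at hcL
      have hm0 : m ≠ 0 := by
        rintro rfl
        rw [pow_zero] at hm; omega
      have hpK : p ∣ Fintype.card K' := by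
        have h1 : p ∣ Fintype.card K' ^ m := by
          rw [hm, hf]; exact dvd_pow_self p f.ne_zero
        exact hpp.dvd_of_dvd_pow h1
      have h2 : p ∣ Nat.card H * Nat.gcd 2 (Fintype.card K' - 1) := by
        rw [hcL]; exact Dvd.dvd.mul_right hpK _
      rcases (Nat.Prime.dvd_mul hpp).1 h2 with h | h
      · exact hpH h
      · have h3 : Nat.gcd 2 (Fintype.card K' - 1) ∣ 2 := Nat.gcd_dvd_left _ _
        have := Nat.le_of_dvd (by norm_num) (h.trans h3)
        omega
    · -- PGL₂(K')
      exfalso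
      have hK1 : 1 < Fintype.card K' := Fintype.one_lt_card
      have hcL : Nat.card H = Fintype.card K' * (Fintype.card K' ^ 2 - 1) := by
        rw [Nat.card_congr e.toEquiv, Cfsg.Agent.S0265.result,
          Cfsg.Agent.H9.SubfieldPSL2.card_SL2_all]
      have hm0 : m ≠ 0 := by
        rintro rfl
        rw [pow_zero] at hm; omega
      have hpK : p ∣ Fintype.card K' := by
        have h1 : p ∣ Fintype.card K' ^ m := by
          rw [hm, hf]; exact dvd_pow_self p f.ne_zero
        exact hpp.dvd_of_dvd_pow h1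
      apply hpH
      rw [hcL]; exact Dvd.dvd.mul_right hpK _
  · -- existence
    have hfn2 := Cfsg.Agent.H9.Hall23.fact_n q hq2 2
    have hfn3 := Cfsg.Agent.H9.Hall23.fact_n q hq2 3
    rw [← hAdef] at hfn2
    rw [← hBdef] at hfn3
    -- a Hall subgroup of a dihedral subgroup
    have hdih : ∀ (x k : ℕ) (D : Subgroup (Matrix.ProjectiveSpecialLinearGroup (Fin 2) F)),
        Nonempty (D ≃* DihedralGroup k) → 2 * k = x → x ≠ 0 → x.factorization 2 = a →
        x.factorization 3 = B →
        ∃ H : Subgroup (Matrix.ProjectiveSpecialLinearGroup (Fin 2) F),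
          Cfsg.IsPiHall ({2, 3} : Set ℕ) H := by
      rintro x k D ⟨e⟩ hkx hx0 hx2 hx3
      have hk0 : k ≠ 0 := by
        rintro rfl
        omega
      have : NeZero k := ⟨hk0⟩
      have hD : Nat.card D = x := by
        rw [Nat.card_congr e.toEquiv, DihedralGroup.nat_card, hkx]
      have hsol : Group.IsSolvable D := by
        have := Cfsg.Agent.H9.PSL2MinSimple.isSolvable_dihedral k
        exact Group.isSolvable_of_isSolvable_injective (f := e.toMonoidHom) e.injective
      obtain ⟨R, hR, hcop⟩ := Cfsg.Agent.H9.Hall23.exists_part x hx0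
      rw [hx2, hx3] at hR hcop
      obtain ⟨H1, hH1⟩ := Cfsg.Agent.H1.hall_exists (G := D) (2 ^ a * 3 ^ B) R (by rw [hD]; exact hR)
        hcop
      refine ⟨H1.map D.subtype, ?_⟩
      rw [hhall, ← hH1]
      exact (Nat.card_congr (H1.equivMapOfInjective D.subtype D.subtype_injective).toEquiv).symm
    rintro (⟨h3, h4⟩ | ⟨h3, h4⟩ | h24 | h48)
    · -- `q ≡ 1 (mod 4)`, `3 ∣ q - 1`
      obtain ⟨D, hD⟩ := Cfsg.Agent.H9.PSL2Tori.exists_dihedral_minus (F := F)
        (by rw [← hqdef]; omega)
      rw [← hqdef, hd2] at hD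
      apply hdih (q - 1) _ D hD (by omega) (by omega)
      · have := Cfsg.Agent.H9.Hall23.fact_two_succ q h4
        omega
      · have : (q + 1).factorization 3 = 0 := by
          apply Nat.factorization_eq_zero_of_not_dvd
          intro h
          have : 3 ∣ (q + 1) - (q - 1) := Nat.dvd_sub h h3
          have e : (q + 1) - (q - 1) = 2 := by omega
          rw [e] at this
          omega
        omega
    · -- `q ≡ 3 (mod 4)`, `3 ∣ q + 1`
      obtain ⟨D, hD⟩ := Cfsg.Agent.H9.PSL2Tori.exists_dihedral_plus (F := F)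
      rw [← hqdef, hd2] at hD
      apply hdih (q + 1) _ D hD (by omega) (by omega)
      · have := Cfsg.Agent.H9.Hall23.fact_two_pred q h4
        omega
      · have : (q - 1).factorization 3 = 0 := by
          apply Nat.factorization_eq_zero_of_not_dvd
          intro h
          have : 3 ∣ (q + 1) - (q - 1) := Nat.dvd_sub h3 h
          have e : (q + 1) - (q - 1) = 2 := by omega
          rw [e] at this
          omega
        omega
    · -- `A₄`
      have e24 : (24 : ℕ) = 2 ^ 3 * 3 ^ 1 := by norm_num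
      have hA3 : A = 3 := by
        have := congrArg (fun x : ℕ => x.factorization 2) h24
        rw [e24, Cfsg.Agent.H9.Hall23.fact_two, Cfsg.Agent.H9.Hall23.fact_two] at this
        exact this
      have hB1' : B = 1 := by
        have := congrArg (fun x : ℕ => x.factorization 3) h24
        rw [e24, Cfsg.Agent.H9.Hall23.fact_three, Cfsg.Agent.H9.Hall23.fact_three] at this
        exact this
      obtain ⟨H, ⟨e⟩⟩ := (Cfsg.Agent.S0802.result (F := F) p f (by rw [← hqdef, hf])).2
        (fun h => hp2 h.1)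
      refine ⟨H, ?_⟩
      rw [hhall, Nat.card_congr e.toEquiv, nat_card_alternatingGroup, Nat.card_eq_fintype_card,
        Fintype.card_fin, hB1']
      have : a = 2 := by omega
      rw [this]
      rfl
    · -- `S₄`
      have e48 : (48 : ℕ) = 2 ^ 4 * 3 ^ 1 := by norm_num
      have hA4 : A = 4 := by
        have := congrArg (fun x : ℕ => x.factorization 2) h48
        rw [e48, Cfsg.Agent.H9.Hall23.fact_two, Cfsg.Agent.H9.Hall23.fact_two] at this
        exact this
      have hB1' : B = 1 := by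
        have := congrArg (fun x : ℕ => x.factorization 3) h48
        rw [e48, Cfsg.Agent.H9.Hall23.fact_three, Cfsg.Agent.H9.Hall23.fact_three] at this
        exact this
      have h16 : 16 ∣ q ^ 2 - 1 := by
        have := Nat.ordProj_dvd (q ^ 2 - 1) 2
        rw [← hAdef, hA4] at this
        exact this
      have hmod : q ^ 2 % 16 = 1 := by
        have h1 : 1 ≤ q ^ 2 := Nat.one_le_pow _ _ (by omega)
        omega
      obtain ⟨H, ⟨e⟩⟩ := (Cfsg.Agent.S0803.result (F := F) hqdef.symm).2 hmod
      refine ⟨H, ?_⟩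
      rw [hhall, Nat.card_congr e.toEquiv, Nat.card_eq_fintype_card, Fintype.card_perm,
        Fintype.card_fin, hB1']
      have : a = 3 := by omega
      rw [this]
      rfl

end Cfsg.Agent.S2537
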