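import Cfsg.Statements.S2540
import Mathlib
import Cfsg.Agent.Lib.Helper5.SLn
import Cfsg.Agent.S0249

set_option autoImplicit false

namespace Cfsg.Agent.S2540

open Matrix
open scoped commutatorElement

/-- simplicity of `PSL_n` and perfectness of `SL_n` outside the small cases. -/
theorem psl_simple_perfect {F : Type*} [Field F] [Fintype F] (n : ℕ) (hn : 2 ≤ n)
    (hex : ¬ (n = 2 ∧ Fintype.card F ≤ 3)) :
    IsSimpleGroup (Matrix.ProjectiveSpecialLinearGroup (Fin n) F) ∧
      commutator (Matrix.SpecialLinearGroup (Fin n) F) = ⊤ := by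
  classical
  have hnt : Nontrivial (Fin n) := Fin.nontrivial_iff_two_le.2 hn
  by_cases h3 : 3 ≤ n
  · exact ⟨Cfsg.Agent.S0249.result n h3,
      Cfsg.Agent.Lib.Helper5.SLn.commutator_eq_top (Or.inl (Cfsg.Agent.S0249.exists_third h3))⟩
  · have hn2 : n = 2 := by omega
    have hcard : 4 ≤ Fintype.card F := by
      by_contra hcon
      exact hex ⟨hn2, by omega⟩
    have hx : ∃ x : F, x ≠ 0 ∧ x ^ 2 ≠ 1 := by
      have h1 : (({0, 1, -1} : Finset F)).card < (Finset.univ : Finset F).card := by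
        calc (({0, 1, -1} : Finset F)).card ≤ 3 := Finset.card_le_three
          _ < 4 := by norm_num
          _ ≤ Fintype.card F := hcard
          _ = (Finset.univ : Finset F).card := Finset.card_univ.symm
      obtain ⟨x, -, hx⟩ := Finset.exists_mem_notMem_of_card_lt_card h1
      simp only [Finset.mem_insert, Finset.mem_singleton, not_or] at hx
      refine ⟨x, hx.1, ?_⟩
      intro h2
      have h4 : (x - 1) * (x + 1) = 0 := by linear_combination h2
      rcases mul_eq_zero.1 h4 with h5 | h5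
      · exact hx.2.1 (sub_eq_zero.1 h5)
      · exact hx.2.2 (eq_neg_of_add_eq_zero_left h5)
    have hperf : commutator (SpecialLinearGroup (Fin n) F) = ⊤ :=
      Cfsg.Agent.Lib.Helper5.SLn.commutator_eq_top (Or.inr hx)
    refine ⟨?_, hperf⟩
    have : Group.IsPerfect (SpecialLinearGroup (Fin n) F) := ⟨hperf⟩
    have : Group.IsPerfect (Matrix.ProjectiveSpecialLinearGroup (Fin n) F) := inferInstance
    exact MulAction.IwasawaStructure.isSimpleGroup this.commutator_eq_top
      Cfsg.Agent.S0249.iwasawa inferInstance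

/-- a normal subgroup of a perfect group with simple central quotient is central or everything. -/
theorem normal_cases {S : Type*} [Group S] (hs : IsSimpleGroup (S ⧸ Subgroup.center S))
    (hp : commutator S = ⊤) (N : Subgroup S) [hN : N.Normal] : N ≤ Subgroup.center S ∨ N = ⊤ := by
  have hmapN : (N.map (QuotientGroup.mk' (Subgroup.center S))).Normal :=
    hN.map _ (QuotientGroup.mk'_surjective _)
  rcases hmapN.eq_bot_or_eq_top with h | h
  · left
    rw [Subgroup.map_eq_bot_iff, QuotientGroup.ker_mk'] at h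
    exact h
  · right
    rw [eq_top_iff, ← hp, commutator_def, Subgroup.commutator_le]
    intro a _ b _
    have ha : QuotientGroup.mk' (Subgroup.center S) a ∈ N.map (QuotientGroup.mk' (Subgroup.center S)) := by
      rw [h]; trivial
    have hb : QuotientGroup.mk' (Subgroup.center S) b ∈ N.map (QuotientGroup.mk' (Subgroup.center S)) := by
      rw [h]; trivial
    obtain ⟨a', ha'N, ha'⟩ := ha
    obtain ⟨b', hb'N, hb'⟩ := hb
    have hza : a'⁻¹ * a ∈ Subgroup.center S := by
      rw [← QuotientGroup.ker_mk' (Subgroup.center S), MonoidHom.mem_ker, map_mul, map_inv, ha',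
        inv_mul_cancel]
    have hzb : b'⁻¹ * b ∈ Subgroup.center S := by
      rw [← QuotientGroup.ker_mk' (Subgroup.center S), MonoidHom.mem_ker, map_mul, map_inv, hb',
        inv_mul_cancel]
    set z := a'⁻¹ * a with hz
    set w := b'⁻¹ * b with hw
    have haz : a = a' * z := by rw [hz]; group
    have hbw : b = b' * w := by rw [hw]; group
    have hzc : ∀ g : S, g * z = z * g := Subgroup.mem_center_iff.1 hza
    have hwc : ∀ g : S, g * w = w * g := Subgroup.mem_center_iff.1 hzb
    have key : ⁅a, b⁆ = ⁅a', b'⁆ := by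
      rw [haz, hbw, commutatorElement_def, commutatorElement_def]
      have e1 : (a' * z)⁻¹ = z⁻¹ * a'⁻¹ := by group
      have e2 : (b' * w)⁻¹ = w⁻¹ * b'⁻¹ := by group
      rw [e1, e2]
      calc a' * z * (b' * w) * (z⁻¹ * a'⁻¹) * (w⁻¹ * b'⁻¹)
          = a' * (z * b') * w * z⁻¹ * a'⁻¹ * w⁻¹ * b'⁻¹ := by group
        _ = a' * (b' * z) * w * z⁻¹ * a'⁻¹ * w⁻¹ * b'⁻¹ := by rw [hzc b']
        _ = a' * b' * z * (w * z⁻¹) * a'⁻¹ * w⁻¹ * b'⁻¹ := by group
        _ = a' * b' * z * (z⁻¹ * w) * a'⁻¹ * w⁻¹ * b'⁻¹ := by rw [← hwc z⁻¹]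
        _ = a' * b' * (w * a'⁻¹) * w⁻¹ * b'⁻¹ := by group
        _ = a' * b' * (a'⁻¹ * w) * w⁻¹ * b'⁻¹ := by rw [← hwc a'⁻¹]
        _ = a' * b' * a'⁻¹ * b'⁻¹ := by group
    rw [key, commutatorElement_def]
    exact N.mul_mem (N.mul_mem (N.mul_mem ha'N hb'N) (N.inv_mem ha'N)) (N.inv_mem hb'N)

theorem mem_range_toGL_iff {F : Type*} [Field F] {n : ℕ}
    (x : Matrix.GeneralLinearGroup (Fin n) F) :
    x ∈ (Matrix.SpecialLinearGroup.toGL : Matrix.SpecialLinearGroup (Fin n) F →* _).range ↔
      (x : Matrix (Fin n) (Fin n) F).det = 1 := by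
  constructor
  · rintro ⟨s, rfl⟩
    exact s.2
  · intro h
    refine ⟨⟨(x : Matrix (Fin n) (Fin n) F), h⟩, ?_⟩
    apply Units.ext
    rfl

theorem result {F : Type*} [Field F] [Fintype F] (n : ℕ) (hn : 1 ≤ n) (hex : ¬ (n = 2 ∧ Fintype.card F ≤ 3)) (G : Subgroup (Matrix.GeneralLinearGroup (Fin n) F)) (hG : ∀ s : Matrix.SpecialLinearGroup (Fin n) F, ∀ g ∈ G, (Matrix.SpecialLinearGroup.toGL s) * g * (Matrix.SpecialLinearGroup.toGL s)⁻¹ ∈ G) : (∀ g ∈ G, ∃ c : F, (g : Matrix (Fin n) (Fin n) F) = c • (1 : Matrix (Fin n) (Fin n) F)) ∨ (Matrix.SpecialLinearGroup.toGL : Matrix.SpecialLinearGroup (Fin n) F →* _).range ≤ G := by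
  classical
  by_cases hn1 : n = 1
  · subst hn1
    left
    intro g _
    refine ⟨(g : Matrix (Fin 1) (Fin 1) F) 0 0, ?_⟩
    ext i j
    fin_cases i; fin_cases j
    simp
  have hn2 : 2 ≤ n := by omega
  obtain ⟨hsimple, hperf⟩ := psl_simple_perfect (F := F) n hn2 hex
  set toGL : Matrix.SpecialLinearGroup (Fin n) F →* Matrix.GeneralLinearGroup (Fin n) F :=
    Matrix.SpecialLinearGroup.toGL with htoGL
  set H : Subgroup (Matrix.GeneralLinearGroup (Fin n) F) := toGL.range with hH
  have hHn : H.Normal := by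
    constructor
    intro x hx g
    rw [hH, mem_range_toGL_iff] at hx ⊢
    have : ((g * x * g⁻¹ : Matrix.GeneralLinearGroup (Fin n) F) : Matrix (Fin n) (Fin n) F).det
        = Matrix.GeneralLinearGroup.det (g * x * g⁻¹) := rfl
    rw [this, map_mul, map_mul, map_inv, mul_comm, ← mul_assoc, inv_mul_cancel, one_mul]
    exact hx
  set N : Subgroup (Matrix.SpecialLinearGroup (Fin n) F) := G.comap toGL with hNdef
  have hNn : N.Normal := by
    constructor
    intro x hx s
    rw [hNdef, Subgroup.mem_comap] at hx ⊢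
    rw [map_mul, map_mul, map_inv]
    exact hG s _ hx
  rcases normal_cases hsimple hperf N with hNc | hNt
  · left
    -- `⁅H, G⁆ ≤ H ⊓ G`
    have hHG : ⁅H, G⁆ ≤ H ⊓ G := by
      rw [Subgroup.commutator_le]
      intro h hh g hg
      refine ⟨?_, ?_⟩
      · rw [commutatorElement_def, mul_assoc, mul_assoc]
        refine H.mul_mem hh ?_
        rw [← mul_assoc]
        exact hHn.conj_mem _ (H.inv_mem hh) g
      · rw [commutatorElement_def]
        obtain ⟨s, rfl⟩ := hh
        exact G.mul_mem (hG s g hg) (G.inv_mem hg)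
    have hcent : H ⊓ G ≤ Subgroup.centralizer (H : Set (Matrix.GeneralLinearGroup (Fin n) F)) := by
      rintro x ⟨⟨c, rfl⟩, hxG⟩
      have hcN : c ∈ N := hxG
      have hcc := hNc hcN
      rw [Subgroup.mem_centralizer_iff]
      rintro _ ⟨s, rfl⟩
      rw [← map_mul, ← map_mul, Subgroup.mem_center_iff.1 hcc s]
    have h1 : ⁅⁅H, G⁆, H⁆ = ⊥ := by
      rw [Subgroup.commutator_eq_bot_iff_le_centralizer]
      exact hHG.trans hcent
    have h2 : ⁅⁅G, H⁆, H⁆ = ⊥ := by
      rw [Subgroup.commutator_comm G H]; exact h1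
    have h3 : ⁅⁅H, H⁆, G⁆ = ⊥ := Subgroup.commutator_commutator_eq_bot_of_rotate h1 h2
    have hHH : ⁅H, H⁆ = H := by
      have : H = (⊤ : Subgroup (Matrix.SpecialLinearGroup (Fin n) F)).map toGL := by
        rw [hH, MonoidHom.range_eq_map]
      rw [this, ← Subgroup.map_commutator]
      congr 1
    rw [hHH, Subgroup.commutator_comm, Subgroup.commutator_eq_bot_iff_le_centralizer] at h3
    intro g hg
    have hgc := h3 hg
    rw [Subgroup.mem_centralizer_iff] at hgc
    obtain ⟨r, hr⟩ := Matrix.mem_range_scalar_of_commute_transvectionStruct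
      (M := (g : Matrix (Fin n) (Fin n) F)) (fun t => by
        have ht : t.toMatrix.det = 1 := Matrix.TransvectionStruct.det t
        have := hgc (toGL ⟨t.toMatrix, ht⟩) ⟨_, rfl⟩
        have h' := congrArg (fun u : Matrix.GeneralLinearGroup (Fin n) F =>
          (u : Matrix (Fin n) (Fin n) F)) this
        exact h')
    refine ⟨r, ?_⟩
    rw [← hr]
    ext i j
    simp [Matrix.scalar_apply, Matrix.diagonal_apply, Matrix.one_apply]
  · right
    rintro _ ⟨s, rfl⟩
    have : s ∈ N := by rw [hNt]; trivial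
    exact this

end Cfsg.Agent.S2540
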