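import Cfsg.Statements.S2541
import Mathlib

set_option autoImplicit false
open scoped Pointwise
open Cfsg Matrix

namespace Cfsg.Agent.S2541

/-- In `S₆` an element whose 8th power is trivial has trivial 4th power. -/
lemma perm_pow (σ : Equiv.Perm (Fin 6)) (h : σ ^ 8 = 1) : σ ^ 4 = 1 := by
  have h8 : orderOf σ ∣ 8 := orderOf_dvd_of_pow_eq_one h
  have h4 : orderOf σ ∣ 4 := by
    rw [← Equiv.Perm.lcm_cycleType]
    rw [Multiset.lcm_dvd]
    intro n hn
    have hn8 : n ∣ 8 := by
      have : n ∣ σ.cycleType.lcm := Multiset.dvd_lcm hn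
      rw [Equiv.Perm.lcm_cycleType] at this
      exact this.trans h8
    have hn6 : n ≤ 6 := by
      have h1 : n ≤ σ.cycleType.sum := Multiset.single_le_sum (fun _ _ => Nat.zero_le _) _ hn
      rw [Equiv.Perm.sum_cycleType] at h1
      have h2 : σ.support.card ≤ Fintype.card (Fin 6) := Finset.card_le_univ _
      simp at h2
      omega
    have hn0 : 0 < n := Nat.pos_of_dvd_of_pos hn8 (by norm_num)
    interval_cases n <;> omega
  exact orderOf_dvd_iff_pow_eq_one.1 h4

theorem result {F : Type*} [Field F] [Fintype F] (hF : Fintype.card F = 9) : ¬ Nonempty (Equiv.Perm (Fin 6) ≃* Matrix.ProjGenLinGroup (Fin 2) F) := by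
  classical
  rintro ⟨e⟩
  -- a generator of the multiplicative group
  obtain ⟨w, hw⟩ := IsCyclic.exists_ofOrder_eq_natCard (α := Fˣ)
  have hN : Nat.card Fˣ = 8 := by
    rw [Nat.card_eq_fintype_card, Fintype.card_units, hF]
  rw [hN] at hw
  have hw8 : (w : F) ^ 8 = 1 := by
    have := pow_orderOf_eq_one w
    rw [hw] at this
    have := congrArg Units.val this
    simpa using this
  have hw4 : (w : F) ^ 4 ≠ 1 := by
    intro h
    have : w ^ 4 = 1 := Units.ext (by simpa using h)
    have := orderOf_dvd_of_pow_eq_one this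
    rw [hw] at this
    omega
  let g : GL (Fin 2) F := Matrix.GeneralLinearGroup.mkOfDetNeZero !![(w : F), 0; 0, 1] (by
    rw [Matrix.det_fin_two_of]; simp)
  have hgpow : ∀ k : ℕ, ((g ^ k : GL (Fin 2) F) : Matrix (Fin 2) (Fin 2) F) = !![(w : F) ^ k, 0; 0, 1] := by
    intro k
    induction k with
    | zero => simp [Matrix.one_fin_two]
    | succ k ih =>
      rw [pow_succ, Units.val_mul, ih]
      show !![(w : F) ^ k, 0; 0, 1] * !![(w : F), 0; 0, 1] = _
      rw [Matrix.mul_fin_two]
      simp [pow_succ]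
  let x := Matrix.ProjGenLinGroup.mk g
  have hx8 : x ^ 8 = 1 := by
    show (Matrix.ProjGenLinGroup.mk g) ^ 8 = 1
    rw [← map_pow]
    have : g ^ 8 = 1 := by
      apply Units.ext
      rw [hgpow, hw8, Units.val_one, Matrix.one_fin_two]
    rw [this, map_one]
  have hx4 : x ^ 4 ≠ 1 := by
    show (Matrix.ProjGenLinGroup.mk g) ^ 4 ≠ 1
    rw [← map_pow, Ne, Matrix.ProjGenLinGroup.mk_eq_one]
    intro hc
    let T : GL (Fin 2) F := Matrix.GeneralLinearGroup.mkOfDetNeZero !![(1 : F), 1; 0, 1] (by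
      rw [Matrix.det_fin_two_of]; simp)
    have hcomm := (Subgroup.mem_center_iff.1 hc) T
    have h1 := congrArg (fun M : GL (Fin 2) F => (M : Matrix (Fin 2) (Fin 2) F) 0 1) hcomm
    simp only [Units.val_mul, hgpow] at h1
    have hT : (T : Matrix (Fin 2) (Fin 2) F) = !![(1 : F), 1; 0, 1] := rfl
    rw [hT, Matrix.mul_fin_two, Matrix.mul_fin_two] at h1
    simp at h1
    exact hw4 h1.symm
  have h1 : (e.symm x) ^ 8 = 1 := by rw [← map_pow, hx8, map_one]
  have h2 := perm_pow _ h1
  rw [← map_pow] at h2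
  apply hx4
  have := congrArg e h2
  simpa using this

end Cfsg.Agent.S2541
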