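import Mathlib
import Cfsg.Statements.S2542
import Cfsg.Agent.Lib.Helper8.AltPresentation
import Cfsg.Agent.Lib.Helper8.PSL2Map
import Cfsg.Agent.Lib.Helper8.A5In11
import Cfsg.Agent.S0243

set_option autoImplicit false
open Cfsg

namespace Cfsg.Agent.S2542

open Matrix Cfsg.Agent.Lib.Helper8.PSL2Map Cfsg.Agent.Lib.Helper8.A5In11

local notation "S2" => Matrix.SpecialLinearGroup (Fin 2) (ZMod 11)

theorem InL_neg {N : M2} (h : InL N) : InL (-N) := by
  rcases h with h | h
  · right; rwa [neg_neg]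
  · left; exact h

theorem L_length : L.length = 60 := rfl

theorem InL_index {N : M2} (h : InL N) : ∃ n < 60, N = L.getD n 1 ∨ N = -L.getD n 1 := by
  rcases h with h | h
  · obtain ⟨n, hn, hN⟩ := List.mem_iff_getElem.1 h
    refine ⟨n, by rw [← L_length]; exact hn, Or.inl ?_⟩
    rw [List.getD_eq_getElem _ _ hn, hN]
  · obtain ⟨n, hn, hN⟩ := List.mem_iff_getElem.1 h
    refine ⟨n, by rw [← L_length]; exact hn, Or.inr ?_⟩
    rw [List.getD_eq_getElem _ _ hn, hN, neg_neg]

theorem InL_gen_mul {i : ℕ} (hi : i < 3) {N : M2} (h : InL N) : InL (Xg i * N) := by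
  obtain ⟨n, hn, rfl | rfl⟩ := InL_index h
  · exact (L_gen i hi n hn).1
  · rw [mul_neg]; exact InL_neg (L_gen i hi n hn).1

theorem InL_geninv_mul {i : ℕ} (hi : i < 3) {N : M2} (h : InL N) : InL (inv2 (Xg i) * N) := by
  obtain ⟨n, hn, rfl | rfl⟩ := InL_index h
  · exact (L_gen i hi n hn).2
  · rw [mul_neg]; exact InL_neg (L_gen i hi n hn).2

theorem coe_inv2 (A : S2) : ((A⁻¹ : S2) : M2) = inv2 (A : M2) := by
  refine (Matrix.SpecialLinearGroup.coe_inv A).trans ?_
  rw [Matrix.adjugate_fin_two]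
  rfl

/-- words as elements of `SL₂` -/
def evS : List ℕ → S2
  | [] => 1
  | g :: w => XS g * evS w

theorem evS_coe (w : List ℕ) : ((evS w : S2) : M2) = evw w := by
  induction w with
  | nil => rfl
  | cons g w ih =>
    show ((XS g * evS w : S2) : M2) = Xg g * evw w
    rw [Matrix.SpecialLinearGroup.coe_mul, ih]
    rfl

def X0S : S2 := ⟨X0, by decide +kernel⟩

def WS (k : ℕ) : S2 := if k = 0 then 1 else evS (words.getD (k - 1) []) * X0S

theorem WS_coe (k : ℕ) : ((WS k : S2) : M2) = Wraw k := by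
  unfold WS Wraw
  split_ifs
  · rfl
  · rw [Matrix.SpecialLinearGroup.coe_mul, evS_coe]
    rfl


section main

variable {F : Type*} [Field F] (e : ZMod 11 ≃+* F)

/-- the generators in `PSL₂(F)` -/
def y (i : ℕ) : Matrix.ProjectiveSpecialLinearGroup (Fin 2) F := psi e (XS i)

theorem pm_one (Z : S2) (h : IsPM (Z : M2)) : psi e Z = 1 := (psi_eq_one_iff e Z).2 h

theorem y_rel0 : y e 0 ^ 3 = 1 := by
  unfold y
  rw [← map_pow]
  apply pm_one
  rw [Matrix.SpecialLinearGroup.coe_pow]
  exact rel.1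

theorem y_rel1 (i : ℕ) (h1 : 1 ≤ i) (h2 : i ≤ 2) : y e i ^ 2 = 1 := by
  unfold y
  rw [← map_pow]
  apply pm_one
  rw [Matrix.SpecialLinearGroup.coe_pow]
  interval_cases i
  · exact rel.2.1
  · exact rel.2.2.1

theorem y_rel2 (i : ℕ) (h2 : i + 1 ≤ 2) : (y e i * y e (i + 1)) ^ 3 = 1 := by
  unfold y
  rw [← map_mul, ← map_pow]
  apply pm_one
  rw [Matrix.SpecialLinearGroup.coe_pow, Matrix.SpecialLinearGroup.coe_mul]
  have hi : i ≤ 1 := by omega
  interval_cases i
  · exact rel.2.2.2.1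
  · exact rel.2.2.2.2.1

theorem y_rel3 (i j : ℕ) (h1 : i + 1 < j) (h2 : j ≤ 2) : (y e i * y e j) ^ 2 = 1 := by
  unfold y
  rw [← map_mul, ← map_pow]
  apply pm_one
  rw [Matrix.SpecialLinearGroup.coe_pow, Matrix.SpecialLinearGroup.coe_mul]
  have hi : i = 0 := by omega
  have hj : j = 2 := by omega
  subst hi hj
  exact rel.2.2.2.2.2

/-- the embedding of `A₅` (as the Carmichael group) -/
noncomputable def phi : Cfsg.Agent.S3335.G 2 →* Matrix.ProjectiveSpecialLinearGroup (Fin 2) F :=
  Cfsg.Agent.S3335.homOf 2 (y e) (y_rel0 e) (y_rel1 e) (y_rel2 e) (y_rel3 e)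

theorem phi_of (i : Fin 3) : phi e (PresentedGroup.of i) = y e i.val :=
  Cfsg.Agent.S3335.homOf_of 2 (y e) (y_rel0 e) (y_rel1 e) (y_rel2 e) (y_rel3 e) i

theorem phi_inj : Function.Injective (phi e) := by
  have hs := Cfsg.Agent.Lib.Helper8.AltPresentation.simple_G 2 le_rfl
  rw [← MonoidHom.ker_eq_bot_iff]
  rcases (phi e).normal_ker.eq_bot_or_eq_top with h | h
  · exact h
  · exfalso
    have h0 : (PresentedGroup.of (0 : Fin 3) : Cfsg.Agent.S3335.G 2) ∈ (phi e).ker := by
      rw [h]; trivial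
    rw [MonoidHom.mem_ker, phi_of] at h0
    have h1 := (psi_eq_one_iff e (XS 0)).1 h0
    exact Xg0_not h1

theorem range_eq : (phi e).range = Subgroup.closure (Set.range fun i : Fin 3 => y e i.val) := by
  have h : (⇑(phi e) ∘ (PresentedGroup.of : Fin 3 → Cfsg.Agent.S3335.G 2)) =
      fun i : Fin 3 => y e i.val := funext (phi_of e)
  rw [MonoidHom.range_eq_map, ← PresentedGroup.closure_range_of, MonoidHom.map_closure,
    ← Set.range_comp, h]

theorem mem_range (g : Matrix.ProjectiveSpecialLinearGroup (Fin 2) F) (hg : g ∈ (phi e).range) :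
    ∃ M : S2, InL (M : M2) ∧ psi e M = g := by
  rw [range_eq] at hg
  induction hg using Subgroup.closure_induction_left with
  | one => exact ⟨1, L_one, map_one _⟩
  | mul_left x hx z _ ih =>
    obtain ⟨i, rfl⟩ := hx
    obtain ⟨M, hM, rfl⟩ := ih
    refine ⟨XS i.val * M, ?_, by rw [map_mul]; rfl⟩
    rw [Matrix.SpecialLinearGroup.coe_mul]
    exact InL_gen_mul i.2 hM
  | inv_mul_cancel x hx z _ ih =>
    obtain ⟨i, rfl⟩ := hx
    obtain ⟨M, hM, rfl⟩ := ih
    refine ⟨(XS i.val)⁻¹ * M, ?_, by rw [map_mul, map_inv]; rfl⟩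
    rw [Matrix.SpecialLinearGroup.coe_mul, coe_inv2]
    exact InL_geninv_mul i.2 hM

theorem InL_of_mem (N : S2) (h : psi e N ∈ (phi e).range) : InL (N : M2) := by
  obtain ⟨M, hM, hMN⟩ := mem_range e _ h
  rcases (psi_eq_iff e M N).1 hMN with h1 | h1
  · rw [← h1]; exact hM
  · have : (N : M2) = -(M : M2) := by rw [h1, neg_neg]
    rw [this]; exact InL_neg hM

theorem y_mem (i : ℕ) : y e i ∈ (phi e).range := by
  by_cases hi : i < 3
  · exact ⟨PresentedGroup.of ⟨i, hi⟩, phi_of e ⟨i, hi⟩⟩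
  · have : XS i = 1 := by
      apply Subtype.ext
      show Xg i = 1
      unfold Xg
      rw [List.getD_eq_default]
      simp; omega
    unfold y
    rw [this, map_one]
    exact one_mem _

theorem evS_mem (w : List ℕ) : psi e (evS w) ∈ (phi e).range := by
  induction w with
  | nil => show psi e 1 ∈ _; rw [map_one]; exact one_mem _
  | cons g w ih =>
    show psi e (XS g * evS w) ∈ _
    rw [map_mul]
    exact mul_mem (y_mem e g) ih

/-- the eleven cosets -/
noncomputable def pt (k : ℕ) : Matrix.ProjectiveSpecialLinearGroup (Fin 2) F ⧸ (phi e).range :=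
  QuotientGroup.mk (psi e (WS k))

theorem pt_inj (i j : ℕ) (hi : i < 11) (hj : j < 11) (h : pt e i = pt e j) : i = j := by
  by_contra hne
  unfold pt at h
  rw [QuotientGroup.eq, ← map_inv, ← map_mul] at h
  have h1 := InL_of_mem e _ h
  rw [Matrix.SpecialLinearGroup.coe_mul, coe_inv2, WS_coe, WS_coe] at h1
  exact W_distinct i hi j hj hne h1

theorem pt_zero : pt e 0 = QuotientGroup.mk 1 := by
  unfold pt
  have : WS 0 = 1 := rfl
  rw [this, map_one]

/-- the element of `H` moving the base coset to `pt k` -/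
def hh (k : ℕ) : Matrix.ProjectiveSpecialLinearGroup (Fin 2) F :=
  psi e (evS (words.getD (k - 1) []))

theorem hh_mem (k : ℕ) : hh e k ∈ (phi e).range := evS_mem e _

theorem pt_succ (k : ℕ) (hk : k ≠ 0) :
    pt e k = hh e k • (QuotientGroup.mk (psi e X0S) :
      Matrix.ProjectiveSpecialLinearGroup (Fin 2) F ⧸ (phi e).range) := by
  unfold pt hh WS
  rw [if_neg hk, map_mul, MulAction.Quotient.smul_mk]
  rfl

end main

/-- Let F be a field with 11 elements. PSL_2(F) has a subgroup H of index 11 isomorphic to the alternating group A_5, and the action of PSL_2(F) on the cosets of H is 2-transitive (of degree 11). -/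
theorem result {F : Type*} [Field F] [Fintype F] (hF : Fintype.card F = 11) : ∃ H : Subgroup (Matrix.ProjectiveSpecialLinearGroup (Fin 2) F), H.index = 11 ∧ Nonempty (H ≃* alternatingGroup (Fin 5)) ∧ MulAction.IsMultiplyPretransitive (Matrix.ProjectiveSpecialLinearGroup (Fin 2) F) ((Matrix.ProjectiveSpecialLinearGroup (Fin 2) F) ⧸ H) 2 := by
  have : Fact (Nat.Prime 11) := ⟨by norm_num⟩
  have e : ZMod 11 ≃+* F := ZMod.ringEquivOfPrime F (by norm_num) hF
  have hcard : Nat.card (Matrix.ProjectiveSpecialLinearGroup (Fin 2) F) = 660 := by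
    have h := Cfsg.Agent.S0243.result hF 2 le_rfl
    simp [Fin.prod_univ_two] at h
    omega
  have hfin : Finite (Matrix.ProjectiveSpecialLinearGroup (Fin 2) F) :=
    Nat.finite_of_card_ne_zero (by rw [hcard]; norm_num)
  let iso : (phi e).range ≃* alternatingGroup (Fin 5) :=
    (MonoidHom.ofInjective (phi_inj e)).symm.trans (Cfsg.Agent.S3335.iso 2)
  have hcardH : Nat.card (phi e).range = 60 := by
    rw [Nat.card_congr iso.toEquiv, Nat.card_eq_fintype_card]
    have h2 := two_mul_card_alternatingGroup (α := Fin 5)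
    rw [Fintype.card_perm, Fintype.card_fin] at h2
    have : (5 : ℕ).factorial = 120 := by decide
    omega
  have hindex : (phi e).range.index = 11 := by
    have h := Subgroup.card_mul_index (phi e).range
    rw [hcardH, hcard] at h
    omega
  refine ⟨(phi e).range, hindex, ⟨iso⟩, ?_⟩
  -- the eleven cosets are all the cosets
  have hcardQ : Nat.card (Matrix.ProjectiveSpecialLinearGroup (Fin 2) F ⧸ (phi e).range) = 11 :=
    hindex
  have hsurj : ∀ q : Matrix.ProjectiveSpecialLinearGroup (Fin 2) F ⧸ (phi e).range,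
      ∃ k < 11, pt e k = q := by
    have hinj : Function.Injective (fun k : Fin 11 => pt e k.val) := by
      intro a b hab
      exact Fin.ext (pt_inj e a.val b.val a.2 b.2 hab)
    have hbij := hinj.bijective_of_nat_card_le (by
      rw [hcardQ, Nat.card_eq_fintype_card, Fintype.card_fin])
    intro q
    obtain ⟨k, hk⟩ := hbij.2 q
    exact ⟨k.val, k.2, hk⟩
  -- `H` is transitive on the other cosets
  have key : ∀ b d : Matrix.ProjectiveSpecialLinearGroup (Fin 2) F ⧸ (phi e).range,
      b ≠ QuotientGroup.mk 1 → d ≠ QuotientGroup.mk 1 → ∃ h ∈ (phi e).range, h • b = d := by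
    intro b d hb hd
    obtain ⟨i, -, rfl⟩ := hsurj b
    obtain ⟨j, -, rfl⟩ := hsurj d
    have hi : i ≠ 0 := by
      rintro rfl
      exact hb (pt_zero e)
    have hj : j ≠ 0 := by
      rintro rfl
      exact hd (pt_zero e)
    refine ⟨hh e j * (hh e i)⁻¹, mul_mem (hh_mem e j) (inv_mem (hh_mem e i)), ?_⟩
    rw [pt_succ e i hi, pt_succ e j hj, mul_smul, inv_smul_smul]
  rw [MulAction.is_two_pretransitive_iff]
  intro a b c d hab hcd
  obtain ⟨ga, rfl⟩ := QuotientGroup.mk_surjective a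
  obtain ⟨gc, rfl⟩ := QuotientGroup.mk_surjective c
  have ha : (QuotientGroup.mk ga : Matrix.ProjectiveSpecialLinearGroup (Fin 2) F ⧸ (phi e).range) =
      ga • QuotientGroup.mk 1 := by
    rw [MulAction.Quotient.smul_mk, smul_eq_mul, mul_one]
  have hc : (QuotientGroup.mk gc : Matrix.ProjectiveSpecialLinearGroup (Fin 2) F ⧸ (phi e).range) =
      gc • QuotientGroup.mk 1 := by
    rw [MulAction.Quotient.smul_mk, smul_eq_mul, mul_one]
  have hb' : ga⁻¹ • b ≠ QuotientGroup.mk 1 := by
    intro h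
    apply hab
    rw [ha, ← h, smul_inv_smul]
  have hd' : gc⁻¹ • d ≠ QuotientGroup.mk 1 := by
    intro h
    apply hcd
    rw [hc, ← h, smul_inv_smul]
  obtain ⟨h, hh, hhb⟩ := key _ _ hb' hd'
  refine ⟨gc * h * ga⁻¹, ?_, ?_⟩
  · rw [ha, mul_smul, mul_smul, inv_smul_smul, hc]
    congr 1
    rw [MulAction.Quotient.smul_mk, smul_eq_mul, mul_one, QuotientGroup.eq, mul_one]
    exact inv_mem hh
  · rw [mul_smul, mul_smul, hhb, smul_inv_smul]

end Cfsg.Agent.S2542
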