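import Cfsg.Statements.S2543
import Cfsg.Agent.H9.A5CntA
import Cfsg.Agent.H9.A5CntB
import Cfsg.Agent.S0243
import Cfsg.Agent.S0253

set_option autoImplicit false
open scoped Pointwise
open Cfsg

namespace Cfsg.Agent.S2543

/-- Let F be a field with 11 elements. PSL_2(F) has exactly 22 subgroups isomorphic to the alternating group A_5, and they form two conjugacy classes: there are two such subgroups that are not conjugate, and every such subgroup is conjugate to one of these two. -/
theorem result {F : Type*} [Field F] [Fintype F] (hF : Fintype.card F = 11) : Nat.card {H : Subgroup (Matrix.ProjectiveSpecialLinearGroup (Fin 2) F) // Nonempty (H ≃* alternatingGroup (Fin 5))} = 22 ∧ ∃ H K : Subgroup (Matrix.ProjectiveSpecialLinearGroup (Fin 2) F), Nonempty (H ≃* alternatingGroup (Fin 5)) ∧ Nonempty (K ≃* alternatingGroup (Fin 5)) ∧ (∀ g : Matrix.ProjectiveSpecialLinearGroup (Fin 2) F, MulAut.conj g • H ≠ K) ∧ ∀ L : Subgroup (Matrix.ProjectiveSpecialLinearGroup (Fin 2) F), Nonempty (L ≃* alternatingGroup (Fin 5)) → ∃ g :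 Matrix.ProjectiveSpecialLinearGroup (Fin 2) F, MulAut.conj g • L = H ∨ MulAut.conj g • L = K := by
  have e : ZMod 11 ≃+* F := ZMod.ringEquivOfPrime F (by norm_num) hF
  have hcard : Nat.card (Matrix.ProjectiveSpecialLinearGroup (Fin 2) F) = 660 := by
    have h := Cfsg.Agent.S0243.result hF 2 le_rfl
    simp [Fin.prod_univ_two] at h
    omega
  have hfin : Finite (Matrix.ProjectiveSpecialLinearGroup (Fin 2) F) :=
    Nat.finite_of_card_ne_zero (by rw [hcard]; norm_num)
  have hsimple : IsSimpleGroup (Matrix.ProjectiveSpecialLinearGroup (Fin 2) F) := by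
    apply Cfsg.Agent.S0253.psl_two_simple
    refine ⟨e 2, ?_, ?_⟩
    · exact (map_ne_zero_iff e e.injective).2 (by decide)
    · intro h
      rw [← map_pow] at h
      have h1 : ((2 : ZMod 11) ^ 2) = 1 := e.injective (by rw [h, map_one])
      revert h1
      decide
  classical
  have : Fintype (Matrix.ProjectiveSpecialLinearGroup (Fin 2) F) := Fintype.ofFinite _
  have h1 := Cfsg.Agent.H9.A5CntB.pairs_card e
  have h2 := Cfsg.Agent.H9.A5CntA.card_pairs
    (G := Matrix.ProjectiveSpecialLinearGroup (Fin 2) F)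
  have h22 : Nat.card {H : Subgroup (Matrix.ProjectiveSpecialLinearGroup (Fin 2) F) //
      Nonempty (H ≃* alternatingGroup (Fin 5))} = 22 := by
    omega
  exact ⟨h22, Cfsg.Agent.H9.A5CntA.two_classes hcard h22⟩

end Cfsg.Agent.S2543
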