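import Cfsg.Statements.S2550
import Cfsg.Agent.S0243
import Cfsg.Agent.S0819

set_option autoImplicit false
open Cfsg

namespace Cfsg.Agent.S2550

open Matrix

/-- the companion matrix of `X^4 + X + 1` over `ZMod 2` -/
def C0 : Matrix (Fin 4) (Fin 4) (ZMod 2) := !![0, 0, 0, 1; 1, 0, 0, 1; 0, 1, 0, 0; 0, 0, 1, 0]

theorem C0_det : C0.det = 1 := by decide

theorem C0_pow15 : C0 ^ 15 = 1 := by decide

theorem C0_pow5 : (C0 ^ 5) 1 0 = 1 := by decide

theorem C0_pow3 : (C0 ^ 3) 3 0 = 1 := by decide

section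

variable {F : Type*} [Field F] [Fintype F]

theorem exists_order15 (hF : Fintype.card F = 2) :
    ∃ x : Matrix.ProjectiveSpecialLinearGroup (Fin 4) F, orderOf x = 15 := by
  have h2 : (2 : F) = 0 := by
    have h := Nat.cast_card_eq_zero F
    rw [hF] at h
    exact_mod_cast h
  have : CharP F 2 := CharTwo.of_one_ne_zero_of_two_eq_zero one_ne_zero h2
  let f : ZMod 2 →+* F := ZMod.castHom (dvd_refl 2) F
  let G : Matrix.SpecialLinearGroup (Fin 4) F :=
    ⟨f.mapMatrix C0, by rw [← RingHom.map_det, C0_det, map_one]⟩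
  have hG : ∀ k : ℕ, ((G ^ k : Matrix.SpecialLinearGroup (Fin 4) F) : Matrix (Fin 4) (Fin 4) F)
      = f.mapMatrix (C0 ^ k) := by
    intro k
    rw [Matrix.SpecialLinearGroup.coe_pow, map_pow]
  have hns : ∀ (k : ℕ) (i j : Fin 4), i ≠ j → (C0 ^ k) i j = 1 →
      (QuotientGroup.mk G : Matrix.ProjectiveSpecialLinearGroup (Fin 4) F) ^ k ≠ 1 := by
    intro k i j hij hk h
    rw [← QuotientGroup.mk_pow, QuotientGroup.eq_one_iff,
      Matrix.SpecialLinearGroup.mem_center_iff] at h
    obtain ⟨r, -, hr⟩ := h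
    have h1 := congrFun (congrFun hr i) j
    rw [hG k] at h1
    simp only [RingHom.mapMatrix_apply, Matrix.map_apply, hk, map_one, Matrix.scalar_apply,
      Matrix.diagonal_apply_ne _ hij] at h1
    exact zero_ne_one h1
  have h15 : (QuotientGroup.mk G : Matrix.ProjectiveSpecialLinearGroup (Fin 4) F) ^ 15 = 1 := by
    have : G ^ 15 = 1 := by
      apply Subtype.ext
      rw [hG 15, C0_pow15, map_one]
      rfl
    rw [← QuotientGroup.mk_pow, this]
    rfl
  have h5 := hns 5 1 0 (by decide) C0_pow5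
  have h3 := hns 3 3 0 (by decide) C0_pow3
  refine ⟨QuotientGroup.mk G, ?_⟩
  have hd := orderOf_dvd_of_pow_eq_one h15
  have hmem : orderOf (QuotientGroup.mk G : Matrix.ProjectiveSpecialLinearGroup (Fin 4) F) ∈
      Nat.divisors 15 := Nat.mem_divisors.2 ⟨hd, by norm_num⟩
  have hdiv : Nat.divisors 15 = {1, 3, 5, 15} := by decide
  rw [hdiv] at hmem
  simp only [Finset.mem_insert, Finset.mem_singleton] at hmem
  rcases hmem with h | h | h | h
  · exfalso
    apply h3
    rw [orderOf_eq_one_iff.1 h, one_pow]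
  · exfalso
    apply h3
    rw [← h]
    exact pow_orderOf_eq_one _
  · exfalso
    apply h5
    rw [← h]
    exact pow_orderOf_eq_one _
  · exact h

end

/-- Let F be a field with 2 elements and K a field with 4 elements. PSL_4(F) and PSL_3(K) have the same order (20160) but are not isomorphic. -/
theorem result {F K : Type*} [Field F] [Fintype F] [Field K] [Fintype K] (hF : Fintype.card F = 2) (hK : Fintype.card K = 4) : Nat.card (Matrix.ProjectiveSpecialLinearGroup (Fin 4) F) = Nat.card (Matrix.ProjectiveSpecialLinearGroup (Fin 3) K) ∧ ¬ Nonempty (Matrix.ProjectiveSpecialLinearGroup (Fin 4) F ≃* Matrix.ProjectiveSpecialLinearGroup (Fin 3) K) := by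
  constructor
  · have h1 := Cfsg.Agent.S0243.result (F := F) hF 4 (by norm_num)
    have h2 := Cfsg.Agent.S0243.result (F := K) hK 3 (by norm_num)
    simp [Fin.prod_univ_succ] at h1 h2
    omega
  · rintro ⟨e⟩
    obtain ⟨x, hx⟩ := exists_order15 hF
    have := Cfsg.Agent.S0819.result hK (e x)
    rw [MulEquiv.orderOf_eq] at this
    exact this hx

end Cfsg.Agent.S2550
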