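import Cfsg.Statements.S2552
import Mathlib

set_option autoImplicit false
open scoped Pointwise
open Cfsg Matrix

namespace Cfsg.Agent.S2552

section
variable {F : Type*} [Field F] {n : ℕ}

/-- some linear automorphism carries `U₁` into `U₂` when the dimensions agree. -/
lemma exists_equiv (U₁ U₂ : Submodule F (Fin n → F))
    (h : Module.finrank F U₁ = Module.finrank F U₂) :
    ∃ e : (Fin n → F) ≃ₗ[F] (Fin n → F), ∀ u ∈ U₁, e u ∈ U₂ := by
  obtain ⟨W₁, hW₁⟩ := Submodule.exists_isCompl U₁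
  obtain ⟨W₂, hW₂⟩ := Submodule.exists_isCompl U₂
  have h1 := Submodule.finrank_add_eq_of_isCompl hW₁
  have h2 := Submodule.finrank_add_eq_of_isCompl hW₂
  have hW : Module.finrank F W₁ = Module.finrank F W₂ := by omega
  let eU : U₁ ≃ₗ[F] U₂ := LinearEquiv.ofFinrankEq _ _ h
  let eW : W₁ ≃ₗ[F] W₂ := LinearEquiv.ofFinrankEq _ _ hW
  refine ⟨(Submodule.prodEquivOfIsCompl U₁ W₁ hW₁).symm ≪≫ₗ (eU.prodCongr eW) ≪≫ₗ
    (Submodule.prodEquivOfIsCompl U₂ W₂ hW₂), ?_⟩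
  intro u hu
  have e1 : (Submodule.prodEquivOfIsCompl U₁ W₁ hW₁).symm u = (⟨u, hu⟩, 0) :=
    Submodule.prodEquivOfIsCompl_symm_apply_left U₁ W₁ hW₁ ⟨u, hu⟩
  simp only [LinearEquiv.trans_apply, e1, LinearEquiv.prodCongr_apply, map_zero,
    Submodule.coe_prodEquivOfIsCompl', Submodule.coe_zero, add_zero]
  exact (eU ⟨u, hu⟩).2

/-- the dilation matrix `v ↦ v + (c - 1) (v i / u i) u`. -/
def dil (u : Fin n → F) (i : Fin n) (c : F) : Matrix (Fin n) (Fin n) F :=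
  1 + Matrix.replicateCol Unit ((c - 1) • u) * Matrix.replicateRow Unit (Pi.single i (u i)⁻¹)

lemma det_dil (u : Fin n → F) (i : Fin n) (hi : u i ≠ 0) (c : F) : (dil u i c).det = c := by
  unfold dil
  rw [Matrix.det_one_add_replicateCol_mul_replicateRow]
  simp [hi]

lemma dil_mulVec (u : Fin n → F) (i : Fin n) (c : F) (v : Fin n → F) :
    dil u i c *ᵥ v = v + (v i * (u i)⁻¹ * (c - 1)) • u := by
  unfold dil
  rw [Matrix.add_mulVec, Matrix.one_mulVec, ← Matrix.mulVec_mulVec]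
  congr 1
  ext j
  simp [Matrix.mulVec, dotProduct, Matrix.replicateCol, Matrix.replicateRow, Pi.single_apply]
  ring

end

theorem result {F : Type*} [Field F] [Fintype F] (n : ℕ) (hn : 1 ≤ n) (U₁ U₂ : Submodule F (Fin n → F)) (h : Module.finrank F U₁ = Module.finrank F U₂) : ∃ g : Matrix.SpecialLinearGroup (Fin n) F, U₁.map ((Matrix.SpecialLinearGroup.toLin' g : (Fin n → F) ≃ₗ[F] (Fin n → F)) : (Fin n → F) →ₗ[F] (Fin n → F)) = U₂ := by
  by_cases hbot : U₁ = ⊥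
  · refine ⟨1, ?_⟩
    have h2 : U₂ = ⊥ := by
      rw [hbot, finrank_bot] at h
      exact Submodule.finrank_eq_zero.1 h.symm
    rw [hbot, h2, Submodule.map_bot]
  obtain ⟨u, hu, hu0⟩ := Submodule.exists_mem_ne_zero_of_ne_bot hbot
  obtain ⟨i, hi⟩ : ∃ i, u i ≠ 0 := by
    by_contra hcon
    push Not at hcon
    exact hu0 (funext hcon)
  obtain ⟨e, he⟩ := exists_equiv U₁ U₂ h
  set M := LinearMap.toMatrix' (e : (Fin n → F) →ₗ[F] (Fin n → F)) with hM
  have hd : M.det ≠ 0 := by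
    rw [hM, LinearMap.det_toMatrix']
    exact (LinearEquiv.isUnit_det' e).ne_zero
  have hdet : (M * dil u i (M.det)⁻¹).det = 1 := by
    rw [Matrix.det_mul, det_dil u i hi, mul_inv_cancel₀ hd]
  obtain ⟨g, hg⟩ : ∃ g : Matrix.SpecialLinearGroup (Fin n) F,
      (g : Matrix (Fin n) (Fin n) F) = M * dil u i (M.det)⁻¹ := ⟨⟨_, hdet⟩, rfl⟩
  refine ⟨g, ?_⟩
  have hle : U₁.map ((Matrix.SpecialLinearGroup.toLin' g : (Fin n → F) ≃ₗ[F] (Fin n → F)) :
      (Fin n → F) →ₗ[F] (Fin n → F)) ≤ U₂ := by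
    rintro _ ⟨v, hv, rfl⟩
    rw [LinearEquiv.coe_coe, Matrix.SpecialLinearGroup.toLin'_apply, Matrix.toLin'_apply, hg,
      ← Matrix.mulVec_mulVec, dil_mulVec]
    have : M *ᵥ (v + (v i * (u i)⁻¹ * ((M.det)⁻¹ - 1)) • u) =
        e (v + (v i * (u i)⁻¹ * ((M.det)⁻¹ - 1)) • u) := by
      rw [hM, ← Matrix.toLin'_apply, Matrix.toLin'_toMatrix']
      rfl
    rw [this]
    exact he _ (U₁.add_mem hv (U₁.smul_mem _ hu))
  apply Submodule.eq_of_le_of_finrank_eq hle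
  rw [LinearEquiv.finrank_map_eq, h]

end Cfsg.Agent.S2552
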