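import Cfsg.Statements.S2556
import Cfsg.Agent.Lib.Helper5.SuzSylAut.Aut
import Cfsg.Agent.Lib.Helper5.SuzukiBridge

set_option autoImplicit false
open Cfsg

namespace Cfsg.Agent.S2556

/-- Let S be a Sylow 2-subgroup of the Suzuki group Sz(q), q = 2ⁿ with n = 2m + 1 ≥ 3 (realised as 4 × 4 matrices over the field with q elements). Then the largest normal 2-subgroup of the automorphism group of S is elementary abelian of order 2^(n²), and the automorphism group of S has order 2^(n²) · n · (q − 1). -/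
theorem result {S : Type*} [Group S] [Finite S] (m : ℕ) (hm : 1 ≤ m)
    {F : Type*} [Field F] [Fintype F] (hF : Fintype.card F = 2 ^ (2 * m + 1))
    (P : Sylow 2 ↥(Cfsg.Lie.Sz F (2 ^ (m + 1)))) (hS : Nonempty (S ≃* ↥(P : Subgroup ↥(Cfsg.Lie.Sz F (2 ^ (m + 1)))))) :
    Cfsg.IsElementaryAbelian 2 (Cfsg.pCore 2 (MulAut S)) ∧ Nat.card ↥(Cfsg.pCore 2 (MulAut S)) = 2 ^ ((2 * m + 1) ^ 2) ∧
      Nat.card (MulAut S) = 2 ^ ((2 * m + 1) ^ 2) * ((2 * m + 1) * (2 ^ (2 * m + 1) - 1)) := by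
  classical
  obtain ⟨ι⟩ := hS
  have : CharP F 2 := Cfsg.Agent.Lib.Helper5.Suzuki.charP_of_card hF
  have : Fact (Nat.Prime 2) := ⟨Nat.prime_two⟩
  let e := Cfsg.Agent.Lib.Helper5.SuzukiBridge.lieSzEquiv hm hF
  obtain ⟨Q, hQcoe⟩ : ∃ Q : Sylow 2 ↥(Cfsg.Sz F m),
      (Q : Subgroup ↥(Cfsg.Sz F m)) = (P : Subgroup _).comap e.symm.toMonoidHom :=
    ⟨P.comapOfInjective e.symm.toMonoidHom e.symm.injective (by
      rw [MonoidHom.range_eq_top.2 e.symm.surjective]
      exact le_top), Sylow.coe_comapOfInjective _ _ _ _⟩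
  obtain ⟨g, hg⟩ := Cfsg.Agent.Lib.Helper5.Suzuki.sylow_conj m hF hm Q
  have hmemP : ∀ a b : F, e.symm (g * Cfsg.Agent.Lib.Helper5.Suzuki.tT m hF a b * g⁻¹) ∈
      (P : Subgroup ↥(Cfsg.Lie.Sz F (2 ^ (m + 1)))) := by
    intro a b
    have h1 : g * Cfsg.Agent.Lib.Helper5.Suzuki.tT m hF a b * g⁻¹ ∈ (Q : Subgroup ↥(Cfsg.Sz F m)) :=
      (hg _).2 ⟨a, b, rfl⟩
    rw [hQcoe, Subgroup.mem_comap] at h1
    exact h1
  let c : Cfsg.Agent.Lib.Helper5.SuzSylAut.SzCoords F m S :=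
    { τ := fun a b => ι.symm ⟨e.symm (g * Cfsg.Agent.Lib.Helper5.Suzuki.tT m hF a b * g⁻¹), hmemP a b⟩
      hmul := by
        intro a b a' b'
        rw [← map_mul]
        congr 1
        apply Subtype.ext
        show e.symm (g * Cfsg.Agent.Lib.Helper5.Suzuki.tT m hF a b * g⁻¹) *
            e.symm (g * Cfsg.Agent.Lib.Helper5.Suzuki.tT m hF a' b' * g⁻¹) =
          e.symm (g * Cfsg.Agent.Lib.Helper5.Suzuki.tT m hF (a + a') (b + b' + Cfsg.Agent.S0335.sg m a * a') * g⁻¹)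
        rw [← map_mul, ← Cfsg.Agent.Lib.Helper5.Suzuki.tT_mul]
        congr 1
        group
      hbij := by
        constructor
        · rintro ⟨a, b⟩ ⟨a', b'⟩ h
          have h1 := congrArg Subtype.val (ι.symm.injective h)
          have h2 : g * Cfsg.Agent.Lib.Helper5.Suzuki.tT m hF a b * g⁻¹ =
              g * Cfsg.Agent.Lib.Helper5.Suzuki.tT m hF a' b' * g⁻¹ := e.symm.injective h1
          have h3 := mul_left_cancel (mul_right_cancel h2)
          obtain ⟨rfl, rfl⟩ := Cfsg.Agent.Lib.Helper5.Suzuki.tT_inj m hF h3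
          rfl
        · intro s
          have h1 : e (ι s).1 ∈ (Q : Subgroup ↥(Cfsg.Sz F m)) := by
            rw [hQcoe, Subgroup.mem_comap]
            show e.symm (e (ι s).1) ∈ _
            rw [MulEquiv.symm_apply_apply]
            exact (ι s).2
          obtain ⟨a, b, hab⟩ := (hg _).1 h1
          refine ⟨(a, b), ?_⟩
          show ι.symm ⟨e.symm (g * Cfsg.Agent.Lib.Helper5.Suzuki.tT m hF a b * g⁻¹), hmemP a b⟩ = s
          rw [ι.symm_apply_eq]
          apply Subtype.ext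
          show e.symm (g * Cfsg.Agent.Lib.Helper5.Suzuki.tT m hF a b * g⁻¹) = (ι s).1
          rw [← hab, MulEquiv.symm_apply_apply] }
  exact c.aut_main hF hm

end Cfsg.Agent.S2556
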