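import Cfsg.Statements.S2561
import Mathlib
import Cfsg.Agent.H9.QuadF2

set_option autoImplicit false

namespace Cfsg.Agent.S2561

open Cfsg.Agent.H9.QuadF2 Cfsg.Agent.S0287 QuadraticMap

/-- the forms `Q⁺ + f(·, w)`. -/
def qw (m : ℕ) (w : VP m) : VP m → ZMod 2 := tr m (Cfsg.quadFormPlus m (ZMod 2)) w

theorem pol_qw (m : ℕ) (w : VP m) : Pol m (qw m w) := pol_tr m _ (pol_plus m) w

theorem qw_injective (m : ℕ) : Function.Injective (qw m) := by
  intro w w' h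
  have h1 : ∀ v, ff m v (w + w') = 0 := by
    intro v
    have := congrFun h v
    simp only [qw, tr] at this
    rw [ff_add_right]
    have h2 : ff m v w = ff m v w' := add_left_cancel this
    rw [h2]
    exact CharTwo.add_self_eq_zero _
  have h3 := ff_nondeg m (w + w') h1
  funext i
  have h4 := congrFun h3 i
  simp only [Pi.add_apply, Pi.zero_apply] at h4
  exact CharTwo.add_eq_zero.1 h4

theorem exists_qw (m : ℕ) (q : VP m → ZMod 2) (hq : Pol m q) : ∃ w, q = qw m w := by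
  let lam : VP m →+ ZMod 2 := AddMonoidHom.mk' (fun v => q v - Cfsg.quadFormPlus m (ZMod 2) v)
    (fun u v => by
      rw [hq u v, pol_plus m u v]
      ring)
  let L : Module.Dual (ZMod 2) (VP m) := lam.toZModLinearMap 2
  have hnd := Cfsg.Agent.S0287.nondegenerate (F := ZMod 2) m
  let w : VP m := (LinearMap.BilinForm.toDual (polarBilin (QP (F := ZMod 2) m)) hnd).symm L
  have hw : ∀ v, polarBilin (QP (F := ZMod 2) m) w v = L v := fun v =>
    LinearMap.BilinForm.apply_toDual_symm_apply (hB := hnd) L v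
  refine ⟨w, funext (fun v => ?_)⟩
  simp only [qw, tr]
  rw [ff_comm, ff_eq, hw v]
  change q v = _ + (q v - _)
  ring

theorem card_subtype (m : ℕ) (P : (VP m → ZMod 2) → Prop) :
    Nat.card {q : VP m → ZMod 2 // Pol m q ∧ P q} = Nat.card {w : VP m // P (qw m w)} := by
  symm
  refine Nat.card_congr (Equiv.ofBijective
    (fun w => (⟨qw m w.1, pol_qw m w.1, w.2⟩ : {q : VP m → ZMod 2 // Pol m q ∧ P q})) ⟨?_, ?_⟩)
  · intro w w' h
    apply Subtype.ext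
    apply qw_injective m
    exact congrArg Subtype.val h
  · rintro ⟨q, hq, hP⟩
    obtain ⟨w, rfl⟩ := exists_qw m q hq
    exact ⟨⟨w, hP⟩, rfl⟩

theorem card_pol (m : ℕ) : Nat.card {q : VP m → ZMod 2 // Pol m q} = 2 ^ (2 * m) := by
  have e : VP m ≃ {q : VP m → ZMod 2 // Pol m q} :=
    Equiv.ofBijective (fun w => ⟨qw m w, pol_qw m w⟩) ⟨fun w w' h =>
      qw_injective m (congrArg Subtype.val h), fun ⟨q, hq⟩ => by
        obtain ⟨w, rfl⟩ := exists_qw m q hq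
        exact ⟨w, rfl⟩⟩
  rw [← Nat.card_congr e, Nat.card_eq_fintype_card, Fintype.card_fun, Fintype.card_sum,
    Fintype.card_fin, ZMod.card, two_mul]

/-- plus type iff `Q⁺ w = 0`. -/
theorem plus_iff (m : ℕ) (hm : 1 ≤ m) (w : VP m) :
    (∃ g : VP m ≃ₗ[ZMod 2] VP m, ∀ v, qw m w v = Cfsg.quadFormPlus m (ZMod 2) (g v)) ↔
      Cfsg.quadFormPlus m (ZMod 2) w = 0 := by
  constructor
  · rintro ⟨g, hg⟩
    exact tr_not_equiv m hm _ (pol_plus m) w g hg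
  · intro hw
    exact tr_equiv_of_zero m _ (pol_plus m) w hw

/-- minus type iff `Q⁺ w ≠ 0`. -/
theorem minus_iff (m : ℕ) (hm : 1 ≤ m) (w : VP m) :
    (∃ g : VP m ≃ₗ[ZMod 2] ((Fin (m - 1) ⊕ Fin (m - 1)) ⊕ Fin 2 → ZMod 2),
      ∀ v, qw m w v = Cfsg.quadFormMinus (m - 1) (ZMod 2) 1 1 (g v)) ↔
      ¬ Cfsg.quadFormPlus m (ZMod 2) w = 0 := by
  constructor
  · rintro ⟨g₂, hg₂⟩ hw
    obtain ⟨g₁, hg₁⟩ := (plus_iff m hm w).2 hw
    refine Cfsg.Agent.S2617.result (F := ZMod 2) hm 1 (by decide) (g₁.symm.trans g₂) (fun u => ?_)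
    rw [LinearEquiv.trans_apply, ← hg₂, hg₁, LinearEquiv.apply_symm_apply]
  · intro hw
    rcases classify m hm (qw m w) (pol_qw m w) with h | h
    · exact absurd ((plus_iff m hm w).1 h) hw
    · exact h

/-- Fix the non-singular alternating form on the 2m-dimensional space over the field of two elements obtained by polarizing the plus-type form Σ xᵢyᵢ (m ≥ 1). The functions q on the space with q(u + v) = q(u) + q(v) + f(u, v) (the quadratic forms polarizing to f) number 2^(2m); each is equivalent under an invertible linear map either to the plus-type form or to the minus-type form Σ xᵢyᵢ + (z₁² + z₁z₂ + z₂²); and those of plus type number 2^(2m−1) + 2^(m−1), those of minus type 2^(2m−1) − 2^(m−1). -/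
theorem result (m : ℕ) (hm : 1 ≤ m) :
    Nat.card {q : (Fin m ⊕ Fin m → ZMod 2) → ZMod 2 // (∀ u v : (Fin m ⊕ Fin m → ZMod 2), q (u + v) = q u + q v + (Cfsg.quadFormPlus m (ZMod 2) (u + v) - Cfsg.quadFormPlus m (ZMod 2) u - Cfsg.quadFormPlus m (ZMod 2) v))} = 2 ^ (2 * m) ∧
    (∀ q : (Fin m ⊕ Fin m → ZMod 2) → ZMod 2, (∀ u v : (Fin m ⊕ Fin m → ZMod 2), q (u + v) = q u + q v + (Cfsg.quadFormPlus m (ZMod 2) (u + v) - Cfsg.quadFormPlus m (ZMod 2) u - Cfsg.quadFormPlus m (ZMod 2) v)) →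
      (∃ g : (Fin m ⊕ Fin m → ZMod 2) ≃ₗ[ZMod 2] (Fin m ⊕ Fin m → ZMod 2), ∀ v, q v = Cfsg.quadFormPlus m (ZMod 2) (g v)) ∨
      (∃ g : (Fin m ⊕ Fin m → ZMod 2) ≃ₗ[ZMod 2] ((Fin (m - 1) ⊕ Fin (m - 1)) ⊕ Fin 2 → ZMod 2), ∀ v, q v = Cfsg.quadFormMinus (m - 1) (ZMod 2) 1 1 (g v))) ∧
    Nat.card {q : (Fin m ⊕ Fin m → ZMod 2) → ZMod 2 // (∀ u v : (Fin m ⊕ Fin m → ZMod 2), q (u + v) = q u + q v + (Cfsg.quadFormPlus m (ZMod 2) (u + v) - Cfsg.quadFormPlus m (ZMod 2) u - Cfsg.quadFormPlus m (ZMod 2) v)) ∧ ∃ g : (Fin m ⊕ Fin m → ZMod 2) ≃ₗ[ZMod 2] (Fin m ⊕ Fin m → ZMod 2), ∀ v, q v = Cfsg.quadFormPlus m (ZMod 2) (g v)} = 2 ^ (2 * m - 1) + 2 ^ (m - 1) ∧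
    Nat.card {q : (Fin m ⊕ Fin m → ZMod 2) → ZMod 2 // (∀ u v : (Fin m ⊕ Fin m → ZMod 2), q (u + v) = q u + q v + (Cfsg.quadFormPlus m (ZMod 2) (u + v) - Cfsg.quadFormPlus m (ZMod 2) u - Cfsg.quadFormPlus m (ZMod 2) v)) ∧ ∃ g : (Fin m ⊕ Fin m → ZMod 2) ≃ₗ[ZMod 2] ((Fin (m - 1) ⊕ Fin (m - 1)) ⊕ Fin 2 → ZMod 2), ∀ v, q v = Cfsg.quadFormMinus (m - 1) (ZMod 2) 1 1 (g v)} = 2 ^ (2 * m - 1) - 2 ^ (m - 1) := by
  have hF : Fintype.card (ZMod 2) = 2 := ZMod.card 2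
  have hZ := Cfsg.Agent.S0289.result (F := ZMod 2) hF m hm
  have hall : Nat.card {w : VP m // Cfsg.quadFormPlus m (ZMod 2) w = 0} +
      Nat.card {w : VP m // ¬ Cfsg.quadFormPlus m (ZMod 2) w = 0} = 2 ^ (2 * m) := by
    rw [← Nat.card_sum, Nat.card_congr (Equiv.sumCompl
      (fun w : VP m => Cfsg.quadFormPlus m (ZMod 2) w = 0)),
      Nat.card_eq_fintype_card, Fintype.card_fun, Fintype.card_sum, Fintype.card_fin, ZMod.card,
      two_mul]
  obtain ⟨k, hk⟩ : ∃ k, m = k + 1 := ⟨m - 1, by omega⟩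
  have e1 : 2 ^ m = 2 * 2 ^ (m - 1) := by
    rw [hk, Nat.add_sub_cancel, pow_succ]; ring
  have e2 : 2 ^ (2 * m) = 2 * 2 ^ (2 * m - 1) := by
    rw [← pow_succ']
    congr 1
    omega
  have e3 : 2 ^ m ≤ 2 ^ (2 * m - 1) := Nat.pow_le_pow_right (by norm_num) (by omega)
  have e4 : 1 ≤ 2 ^ (m - 1) := Nat.one_le_two_pow
  refine ⟨card_pol m, fun q hq => classify m hm q hq, ?_, ?_⟩
  · have h1 := card_subtype m (fun q => ∃ g : VP m ≃ₗ[ZMod 2] VP m,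
      ∀ v, q v = Cfsg.quadFormPlus m (ZMod 2) (g v))
    have h2 : Nat.card {w : VP m // ∃ g : VP m ≃ₗ[ZMod 2] VP m,
        ∀ v, qw m w v = Cfsg.quadFormPlus m (ZMod 2) (g v)} =
        Nat.card {w : VP m // Cfsg.quadFormPlus m (ZMod 2) w = 0} :=
      Nat.card_congr (Equiv.subtypeEquivRight (fun w => plus_iff m hm w))
    refine h1.trans (h2.trans ?_)
    rw [hZ]
    omega
  · have h1 := card_subtype m (fun q => ∃ g : VP m ≃ₗ[ZMod 2]
      ((Fin (m - 1) ⊕ Fin (m - 1)) ⊕ Fin 2 → ZMod 2),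
      ∀ v, q v = Cfsg.quadFormMinus (m - 1) (ZMod 2) 1 1 (g v))
    have h2 : Nat.card {w : VP m // ∃ g : VP m ≃ₗ[ZMod 2]
        ((Fin (m - 1) ⊕ Fin (m - 1)) ⊕ Fin 2 → ZMod 2),
        ∀ v, qw m w v = Cfsg.quadFormMinus (m - 1) (ZMod 2) 1 1 (g v)} =
        Nat.card {w : VP m // ¬ Cfsg.quadFormPlus m (ZMod 2) w = 0} :=
      Nat.card_congr (Equiv.subtypeEquivRight (fun w => minus_iff m hm w))
    refine h1.trans (h2.trans ?_)
    rw [hZ] at hall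
    omega

end Cfsg.Agent.S2561
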