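import Mathlib
import Cfsg.Statements.S2566
import Cfsg.Agent.S0287

set_option autoImplicit false
open Cfsg

namespace Cfsg.Agent.S2566

open Matrix

abbrev I4 := Fin 2 ⊕ Fin 2

abbrev G := ↥(Cfsg.isometryGroup (ZMod 2) (Cfsg.quadFormPlus 2 (ZMod 2)))

/-- the three nonzero vectors of `𝔽₂²` -/
def vt : Fin 3 → Fin 2 → ZMod 2 := ![![1, 0], ![0, 1], ![1, 1]]

/-- left multiplication by the matrix of `σ` on `M₂(𝔽₂)`, in coordinates `(x₀, x₁, y₀, y₁)` with
`X = [[x₀, x₁], [y₁, y₀]]` and `Q = det` -/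
def L4 (σ : Equiv.Perm (Fin 3)) : Matrix (Fin 4) (Fin 4) (ZMod 2) :=
  !![vt (σ 0) 0, 0, 0, vt (σ 1) 0;
     0, vt (σ 0) 0, vt (σ 1) 0, 0;
     0, vt (σ 0) 1, vt (σ 1) 1, 0;
     vt (σ 0) 1, 0, 0, vt (σ 1) 1]

def LI (σ : Equiv.Perm (Fin 3)) : Matrix I4 I4 (ZMod 2) :=
  (L4 σ).submatrix finSumFinEquiv finSumFinEquiv

/-- transposition of `X`: swaps `x₁` and `y₁` -/
def T4 : Matrix (Fin 4) (Fin 4) (ZMod 2) :=
  !![1, 0, 0, 0; 0, 0, 0, 1; 0, 0, 1, 0; 0, 1, 0, 0]

def TI : Matrix I4 I4 (ZMod 2) := T4.submatrix finSumFinEquiv finSumFinEquiv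

set_option maxRecDepth 100000 in
theorem LI_mul : ∀ σ τ : Equiv.Perm (Fin 3), LI (σ * τ) = LI σ * LI τ := by decide +kernel

theorem LI_one : LI 1 = 1 := by decide +kernel

set_option maxRecDepth 100000 in
theorem LI_iso : ∀ σ : Equiv.Perm (Fin 3), ∀ u : I4 → ZMod 2,
    quadFormPlus 2 (ZMod 2) (LI σ *ᵥ u) = quadFormPlus 2 (ZMod 2) u := by
  unfold quadFormPlus
  decide +kernel

theorem TI_sq : TI * TI = 1 := by decide +kernel

theorem TI_iso : ∀ u : I4 → ZMod 2,
    quadFormPlus 2 (ZMod 2) (TI *ᵥ u) = quadFormPlus 2 (ZMod 2) u := by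
  unfold quadFormPlus
  decide +kernel

set_option maxRecDepth 100000 in
theorem LI_inj : ∀ σ : Equiv.Perm (Fin 3), LI σ = 1 → σ = 1 := by decide +kernel

set_option maxRecDepth 100000 in
theorem LI_disj : ∀ σ τ : Equiv.Perm (Fin 3), LI σ = TI * LI τ * TI → σ = 1 := by
  decide +kernel

set_option maxRecDepth 100000 in
theorem LI_comm : ∀ σ τ : Equiv.Perm (Fin 3),
    LI σ * (TI * LI τ * TI) = (TI * LI τ * TI) * LI σ := by
  decide +kernel

/-- as units -/
def U (σ : Equiv.Perm (Fin 3)) : GL I4 (ZMod 2) :=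
  ⟨LI σ, LI σ⁻¹, by rw [← LI_mul, mul_inv_cancel, LI_one],
    by rw [← LI_mul, inv_mul_cancel, LI_one]⟩

theorem U_mem (σ : Equiv.Perm (Fin 3)) :
    U σ ∈ Cfsg.isometryGroup (ZMod 2) (Cfsg.quadFormPlus 2 (ZMod 2)) := by
  intro u _
  exact LI_iso σ u

/-- the first copy of `S₃` -/
def f : Equiv.Perm (Fin 3) →* G :=
  MonoidHom.mk' (fun σ => ⟨U σ, U_mem σ⟩) (by
    intro σ τ
    apply Subtype.ext
    apply Units.ext
    exact LI_mul σ τ)

theorem f_val (σ : Equiv.Perm (Fin 3)) : ((f σ : G) : GL I4 (ZMod 2)).1 = LI σ := rfl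

theorem f_inj : Function.Injective f := by
  rw [injective_iff_map_eq_one]
  intro σ h
  apply LI_inj
  rw [← f_val, h]
  rfl

/-- the swap -/
def t : G := ⟨⟨TI, TI, TI_sq, TI_sq⟩, by intro u _; exact TI_iso u⟩

theorem t_val : ((t : G) : GL I4 (ZMod 2)).1 = TI := rfl

theorem t_inv_val : ((t⁻¹ : G) : GL I4 (ZMod 2)).1 = TI := rfl

/-- the second copy of `S₃` -/
def f2 : Equiv.Perm (Fin 3) →* G := (MulAut.conj t).toMonoidHom.comp f

theorem f2_val (σ : Equiv.Perm (Fin 3)) :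
    ((f2 σ : G) : GL I4 (ZMod 2)).1 = TI * LI σ * TI := rfl

theorem f2_inj : Function.Injective f2 := by
  intro a b h
  exact f_inj ((MulAut.conj t).injective h)

theorem G_ext {x y : G} (h : (x : GL I4 (ZMod 2)).1 = (y : GL I4 (ZMod 2)).1) : x = y :=
  Subtype.ext (Units.ext h)

theorem comm (σ τ : Equiv.Perm (Fin 3)) : Commute (f σ) (f2 τ) := by
  apply G_ext
  exact LI_comm σ τ

theorem disj : Disjoint f.range f2.range := by
  rw [Subgroup.disjoint_def]
  rintro x ⟨σ, rfl⟩ ⟨τ, h⟩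
  have h1 : LI σ = TI * LI τ * TI := by
    rw [← f_val, ← f2_val, h]
  rw [LI_disj σ τ h1, map_one]

theorem card_G : Nat.card G = 72 := by
  rw [Cfsg.Agent.S0287.result (F := ZMod 2) (q := 2) (ZMod.card 2) 2 (by norm_num)]
  norm_num [Finset.prod_range_succ]

/-- The full orthogonal group of the plus-type form x₁y₁ + x₂y₂ in dimension 4 over the field of two elements has order 72 and is isomorphic to the wreath product of the symmetric group of degree 3 by a group of order 2: it has a normal subgroup isomorphic to the direct product of two symmetric groups of degree 3, of index 2, whose two direct factors are interchanged by conjugation by some element. -/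
theorem result :
    Nat.card ↥(Cfsg.isometryGroup (ZMod 2) (Cfsg.quadFormPlus 2 (ZMod 2))) = 72 ∧
    ∃ (A B : Subgroup ↥(Cfsg.isometryGroup (ZMod 2) (Cfsg.quadFormPlus 2 (ZMod 2)))),
      Nonempty (↥A ≃* Equiv.Perm (Fin 3)) ∧ Nonempty (↥B ≃* Equiv.Perm (Fin 3)) ∧ A ⊓ B = ⊥ ∧ (∀ a ∈ A, ∀ b ∈ B, a * b = b * a) ∧
      (A ⊔ B).index = 2 ∧ ∃ g : ↥(Cfsg.isometryGroup (ZMod 2) (Cfsg.quadFormPlus 2 (ZMod 2))), A.map (MulAut.conj g).toMonoidHom = B := by
  refine ⟨card_G, f.range, f2.range, ⟨(MonoidHom.ofInjective f_inj).symm⟩,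
    ⟨(MonoidHom.ofInjective f2_inj).symm⟩, disjoint_iff.1 disj, ?_, ?_, t, ?_⟩
  · rintro a ⟨σ, rfl⟩ b ⟨τ, rfl⟩
    exact comm σ τ
  · have hinj : Function.Injective (f.noncommCoprod f2 comm) :=
      (MonoidHom.noncommCoprod_injective f f2 comm).2 ⟨f_inj, f2_inj, disj⟩
    have hcard : Nat.card (f.range ⊔ f2.range : Subgroup G) = 36 := by
      rw [← MonoidHom.noncommCoprod_range f f2 comm,
        Nat.card_congr (MonoidHom.ofInjective hinj).toEquiv.symm,
        Nat.card_prod, Nat.card_perm, Nat.card_eq_fintype_card, Fintype.card_fin]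
      rfl
    have h := Subgroup.card_mul_index (f.range ⊔ f2.range : Subgroup G)
    rw [hcard, card_G] at h
    omega
  · exact MonoidHom.map_range (MulAut.conj t).toMonoidHom f

end Cfsg.Agent.S2566
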