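import Cfsg.Statements.S2567
import Mathlib

set_option autoImplicit false
open Cfsg

namespace Cfsg.Agent.S2567

/-- Abstract form: `Z` a central finite subgroup with `r ∤ |Z|`; an element of order `r` (prime) of `G ⧸ Z`
has a unique preimage of order `r`. -/
theorem unique_lift {G : Type*} [Group G] (Z : Subgroup G) [Z.Normal] [Finite Z] (hZ : Z ≤ Subgroup.center G)
    {r : ℕ} (hr : r.Prime) (hcop : ¬ r ∣ Nat.card Z) (x : G ⧸ Z) (hx : orderOf x = r) :
    ∃! g : G, (QuotientGroup.mk g : G ⧸ Z) = x ∧ orderOf g = r := by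
  have hcop' : Nat.Coprime (Nat.card Z) r := (Nat.Coprime.symm ((Nat.Prime.coprime_iff_not_dvd hr).mpr hcop))
  obtain ⟨g₀, rfl⟩ := QuotientGroup.mk_surjective x
  have hx1 : (QuotientGroup.mk g₀ : G ⧸ Z) ≠ 1 := by
    intro h
    rw [h, orderOf_one] at hx
    exact hr.one_lt.ne' hx.symm
  have hg₀r : g₀ ^ r ∈ Z := by
    have : (QuotientGroup.mk g₀ : G ⧸ Z) ^ r = 1 := by rw [← hx]; exact pow_orderOf_eq_one _
    rw [← QuotientGroup.mk_pow, QuotientGroup.eq_one_iff] at this
    exact this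
  -- r-th power map on Z is surjective
  obtain ⟨w, hw⟩ : ∃ w : Z, w ^ r = (⟨g₀ ^ r, hg₀r⟩ : Z)⁻¹ := by
    have := (powCoprime hcop').surjective (⟨g₀ ^ r, hg₀r⟩ : Z)⁻¹
    obtain ⟨w, hw⟩ := this
    exact ⟨w, hw⟩
  have hwc : ∀ y : G, (w : G) * y = y * (w : G) := by
    intro y
    have := hZ w.2
    rw [Subgroup.mem_center_iff] at this
    exact (this y).symm
  have hgr : (g₀ * (w : G)) ^ r = 1 := by
    rw [(show Commute g₀ (w : G) from (hwc g₀).symm).mul_pow]
    have : ((w : G)) ^ r = (g₀ ^ r)⁻¹ := by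
      have := congrArg Subtype.val hw
      simpa using this
    rw [this]; group
  have hmk : (QuotientGroup.mk (g₀ * (w : G)) : G ⧸ Z) = QuotientGroup.mk g₀ := by
    rw [QuotientGroup.mk_mul, (QuotientGroup.eq_one_iff (w : G)).mpr w.2, mul_one]
  refine ⟨g₀ * (w : G), ⟨hmk, ?_⟩, ?_⟩
  · have hdvd : orderOf (g₀ * (w : G)) ∣ r := orderOf_dvd_of_pow_eq_one hgr
    rcases (Nat.dvd_prime hr).mp hdvd with h | h
    · exfalso
      rw [orderOf_eq_one_iff] at h
      rw [h] at hmk
      exact hx1 hmk.symm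
    · exact h
  · rintro g' ⟨hg'mk, hg'ord⟩
    -- g' = g z with z ∈ Z
    have hz : (g₀ * (w : G))⁻¹ * g' ∈ Z := by
      rw [← QuotientGroup.eq, hmk, hg'mk]
    set g := g₀ * (w : G) with hg
    set z := g⁻¹ * g' with hzdef
    have hzc : Commute g z := by
      have := hZ hz
      rw [Subgroup.mem_center_iff] at this
      exact this g
    have hg' : g' = g * z := by rw [hzdef]; group
    have hzr : z ^ r = 1 := by
      have h1 : g' ^ r = 1 := by rw [← hg'ord]; exact pow_orderOf_eq_one _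
      rw [hg', hzc.mul_pow, hgr, one_mul] at h1
      exact h1
    have hz1 : z = 1 := by
      have h2 : orderOf (⟨z, hz⟩ : Z) ∣ r := by
        apply orderOf_dvd_of_pow_eq_one
        apply Subtype.ext
        simpa using hzr
      have h3 : orderOf (⟨z, hz⟩ : Z) ∣ Nat.card Z := orderOf_dvd_natCard _
      have h4 : orderOf (⟨z, hz⟩ : Z) = 1 := Nat.eq_one_of_dvd_coprimes hcop' h3 h2
      rw [orderOf_eq_one_iff] at h4
      exact congrArg Subtype.val h4
    rw [hg', hz1, mul_one]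

theorem result {F : Type*} [Field F] [Fintype F] {q n r : ℕ} (hF : Fintype.card F = q) (hr : r.Prime) (hdiv : ¬ r ∣ q - 1) (x : GL (Fin n) F ⧸ Subgroup.center (GL (Fin n) F)) (hx : orderOf x = r) : ∃! g : GL (Fin n) F, (QuotientGroup.mk g : GL (Fin n) F ⧸ Subgroup.center (GL (Fin n) F)) = x ∧ orderOf g = r := by
  classical
  apply unique_lift (Subgroup.center (GL (Fin n) F)) le_rfl hr _ x hx
  intro hdvd
  apply hdiv
  have h1 : Nat.card (Subgroup.center (GL (Fin n) F)) ∣ Nat.card Fˣ := by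
    rw [Matrix.GeneralLinearGroup.center_eq_range_scalar]
    exact Subgroup.card_range_dvd _
  have h2 : Nat.card Fˣ = q - 1 := by
    rw [Nat.card_eq_fintype_card, Fintype.card_units, hF]
  rw [h2] at h1
  exact dvd_trans hdvd h1

end Cfsg.Agent.S2567
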