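import Mathlib
import Cfsg.Statements.S2570
import Cfsg.Agent.H2.NilpType

set_option autoImplicit false
open Cfsg

namespace Cfsg.Agent.S2570

/-- Number of conjugacy classes of elements of order p in GL_n over a finite field of characteristic p: they correspond to the Jordan types, that is, to the partitions of n with all parts at most p other than the partition into ones, so there are (number of partitions of n with parts ≤ p) − 1 of them. -/
theorem result {F : Type*} [Field F] [Fintype F] {p : ℕ} [Fact p.Prime] [CharP F p] (n : ℕ) : Nat.card {C : ConjClasses (GL (Fin n) F) // ∃ g : GL (Fin n) F, ConjClasses.mk g = C ∧ orderOf g = p} = (Finset.univ.filter (fun μ : Nat.Partition n => ∀ a ∈ μ.parts, a ≤ p)).card - 1 := by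
  classical
  have hp : p.Prime := Fact.out
  have hS := Cfsg.Agent.H2.NilpType.card_classes (F := F) (n := n)
    (fun g => g ^ p = 1) (fun m => ∀ a ∈ m, a ≤ p)
    (fun g hg => ⟨p, (Cfsg.Agent.H2.NilpType.pow_char_eq_one_iff p g).mp hg⟩)
    (fun g hg => ⟨fun h => Cfsg.Agent.H2.NilpType.jp_le hg p
        ((Cfsg.Agent.H2.NilpType.pow_char_eq_one_iff p g).mp h),
      fun h => (Cfsg.Agent.H2.NilpType.pow_char_eq_one_iff p g).mpr
        (Cfsg.Agent.H2.NilpType.pow_eq_zero_of_jp_le hg p h)⟩)
  have hQ : Nat.card {μ : Nat.Partition n // ∀ a ∈ μ.parts, a ≤ p} =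
      (Finset.univ.filter (fun μ : Nat.Partition n => ∀ a ∈ μ.parts, a ≤ p)).card := by
    rw [Nat.card_eq_fintype_card, Fintype.card_subtype]
  rw [← hQ, ← hS]
  have hT : Nat.card {C : ConjClasses (GL (Fin n) F) //
      ∃ g : GL (Fin n) F, ConjClasses.mk g = C ∧ orderOf g = p} =
      Set.ncard {C : ConjClasses (GL (Fin n) F) |
        ∃ g : GL (Fin n) F, ConjClasses.mk g = C ∧ orderOf g = p} := Nat.card_coe_set_eq _
  have hS' : Nat.card {C : ConjClasses (GL (Fin n) F) //
      ∃ g : GL (Fin n) F, g ^ p = 1 ∧ ConjClasses.mk g = C} =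
      Set.ncard {C : ConjClasses (GL (Fin n) F) |
        ∃ g : GL (Fin n) F, g ^ p = 1 ∧ ConjClasses.mk g = C} := Nat.card_coe_set_eq _
  rw [hT, hS']
  have hins : {C : ConjClasses (GL (Fin n) F) |
        ∃ g : GL (Fin n) F, g ^ p = 1 ∧ ConjClasses.mk g = C} =
      insert (ConjClasses.mk 1) {C : ConjClasses (GL (Fin n) F) |
        ∃ g : GL (Fin n) F, ConjClasses.mk g = C ∧ orderOf g = p} := by
    ext C
    simp only [Set.mem_ofPred_eq, Set.mem_insert_iff]
    constructor
    · rintro ⟨g, hg, rfl⟩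
      by_cases h1 : g = 1
      · left; rw [h1]
      · right
        exact ⟨g, rfl, orderOf_eq_prime_iff.mpr ⟨hg, h1⟩⟩
    · rintro (rfl | ⟨g, rfl, hg⟩)
      · exact ⟨1, one_pow _, rfl⟩
      · exact ⟨g, (orderOf_eq_prime_iff.mp hg).1, rfl⟩
  have hnot : ConjClasses.mk (1 : GL (Fin n) F) ∉ {C : ConjClasses (GL (Fin n) F) |
        ∃ g : GL (Fin n) F, ConjClasses.mk g = C ∧ orderOf g = p} := by
    rintro ⟨g, hg1, hg2⟩
    have h1 : g = 1 := by
      have := ConjClasses.mk_eq_mk_iff_isConj.mp hg1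
      exact isConj_one_left.mp this
    exact (orderOf_eq_prime_iff.mp hg2).2 h1
  rw [hins, Set.ncard_insert_of_notMem hnot (Set.toFinite _), Nat.add_sub_cancel]

end Cfsg.Agent.S2570
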