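import Mathlib
import Cfsg.Statements.S2571
import Cfsg.Agent.H9.RegNil
import Cfsg.Agent.H9.RegNil2
import Cfsg.Agent.S2573

set_option autoImplicit false

namespace Cfsg.Agent.S2571

open Module Cfsg.Agent.H9.RegNil

theorem commute_toLin' {F : Type*} [Field F] {n : ℕ} {M N : Matrix (Fin n) (Fin n) F} (h : M * N = N * M) :
    Commute (Matrix.toLin' M) (Matrix.toLin' N) := by
  change Matrix.toLin' M * Matrix.toLin' N = Matrix.toLin' N * Matrix.toLin' M
  rw [Module.End.mul_eq_comp, Module.End.mul_eq_comp, ← Matrix.toLin'_mul, ← Matrix.toLin'_mul, h]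

/-- Centraliser of a regular unipotent element in GL_n(q): if u is an invertible n × n matrix over the field with q elements, n ≥ 1, with (u − 1)^n = 0 and rank(u − 1) = n − 1 (a single unipotent Jordan block), then its centraliser in GL_n(q) has order (q − 1) q^(n−1). -/
theorem result {F : Type*} [Field F] [Fintype F] {q n : ℕ} (hF : Fintype.card F = q) (hn : 1 ≤ n) (u : GL (Fin n) F) (hnil : ((u : Matrix (Fin n) (Fin n) F) - 1) ^ n = 0) (hreg : ((u : Matrix (Fin n) (Fin n) F) - 1).rank = n - 1) : Nat.card ↥(Subgroup.centralizer ({u} : Set (GL (Fin n) F))) = (q - 1) * q ^ (n - 1) := by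
  set N : Matrix (Fin n) (Fin n) F := (u : Matrix (Fin n) (Fin n) F) - 1 with hN
  set f : (Fin n → F) →ₗ[F] (Fin n → F) := Matrix.toLin' N with hf
  have hV : finrank F (Fin n → F) = n := by rw [finrank_fintype_fun_eq_card, Fintype.card_fin]
  have hnil' : f ^ n = 0 := by rw [hf, ← Matrix.toLin'_pow, hnil, map_zero]
  have hreg' : finrank F (LinearMap.ker f) ≤ 1 := Cfsg.Agent.S2573.finrank_ker_le_one N hreg
  obtain ⟨v, hv⟩ := exists_cyc hV f hnil' hreg' hn
  -- centraliser elements commute with `N`
  have hcomm : ∀ c : GL (Fin n) F, c ∈ Subgroup.centralizer ({u} : Set (GL (Fin n) F)) →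
      (c : Matrix (Fin n) (Fin n) F) * N = N * (c : Matrix (Fin n) (Fin n) F) := by
    intro c hc
    have h1 := Subgroup.mem_centralizer_iff.1 hc u rfl
    have h2 : (u : Matrix (Fin n) (Fin n) F) * (c : Matrix (Fin n) (Fin n) F) =
        (c : Matrix (Fin n) (Fin n) F) * (u : Matrix (Fin n) (Fin n) F) := by
      have := congrArg (fun g : GL (Fin n) F => (g : Matrix (Fin n) (Fin n) F)) h1
      simpa using this
    rw [hN, mul_sub, sub_mul, mul_one, one_mul, h2]
  have hinjc : ∀ c : GL (Fin n) F, Function.Injective (Matrix.toLin' (c : Matrix (Fin n) (Fin n) F)) := by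
    intro c x y hxy
    have h1 : ((c⁻¹ : GL (Fin n) F) : Matrix (Fin n) (Fin n) F).mulVec
        ((c : Matrix (Fin n) (Fin n) F).mulVec x) = ((c⁻¹ : GL (Fin n) F) : Matrix (Fin n) (Fin n) F).mulVec
        ((c : Matrix (Fin n) (Fin n) F).mulVec y) := by
      rw [Matrix.toLin'_apply, Matrix.toLin'_apply] at hxy
      rw [hxy]
    rw [Matrix.mulVec_mulVec, Matrix.mulVec_mulVec, ← Units.val_mul, inv_mul_cancel] at h1
    simpa using h1
  -- the bijection with cyclic vectors
  let Φ : ↥(Subgroup.centralizer ({u} : Set (GL (Fin n) F))) → {w : Fin n → F // (f ^ (n - 1)) w ≠ 0} :=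
    fun c => ⟨Matrix.toLin' (c.1 : Matrix (Fin n) (Fin n) F) v,
      apply_cyc_of_commute f v hv _ (commute_toLin' (hcomm c.1 c.2)) (hinjc c.1)⟩
  have hΦ : Function.Bijective Φ := by
    constructor
    · intro c c' h
      have h1 : Matrix.toLin' (c.1 : Matrix (Fin n) (Fin n) F) v = Matrix.toLin' (c'.1 : Matrix (Fin n) (Fin n) F) v :=
        congrArg Subtype.val h
      have h2 := eq_of_commute_of_apply_cyc hV f hnil' v hv _ _ (commute_toLin' (hcomm c.1 c.2))
        (commute_toLin' (hcomm c'.1 c'.2)) h1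
      have h3 := Matrix.toLin'.injective h2
      exact Subtype.ext (Units.ext h3)
    · rintro ⟨w, hw⟩
      obtain ⟨cl, hcl, hclv⟩ := exists_commute_apply_cyc hV f hnil' v hv w
      have hinj := injective_of_commute hV f hnil' hreg' hn v cl hcl (by rw [hclv]; exact hw)
      set M : Matrix (Fin n) (Fin n) F := LinearMap.toMatrix' cl with hM
      have hMl : Matrix.toLin' M = cl := Matrix.toLin'_toMatrix' cl
      have hMu : IsUnit M := by
        rw [← Matrix.mulVec_injective_iff_isUnit]
        intro x y hxy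
        apply hinj
        rw [← hMl, Matrix.toLin'_apply, Matrix.toLin'_apply]
        exact hxy
      have hMN : M * N = N * M := by
        apply Matrix.toLin'.injective
        rw [Matrix.toLin'_mul, Matrix.toLin'_mul, hMl]
        exact hcl.eq
      have hmem : hMu.unit ∈ Subgroup.centralizer ({u} : Set (GL (Fin n) F)) := by
        rw [Subgroup.mem_centralizer_iff]
        intro h hh
        rw [Set.mem_singleton_iff] at hh
        subst hh
        apply Units.ext
        rw [Units.val_mul, Units.val_mul, IsUnit.unit_spec]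
        have h5 : (h : Matrix (Fin n) (Fin n) F) = N + 1 := by rw [hN]; abel
        rw [h5, add_mul, mul_add, one_mul, mul_one, hMN]
      refine ⟨⟨hMu.unit, hmem⟩, ?_⟩
      apply Subtype.ext
      change Matrix.toLin' ((hMu.unit : GL (Fin n) F) : Matrix (Fin n) (Fin n) F) v = w
      rw [IsUnit.unit_spec, hMl, hclv]
  rw [Nat.card_congr (Equiv.ofBijective Φ hΦ), card_cyc hV f hnil' hreg' hn, Nat.card_eq_fintype_card, hF]

end Cfsg.Agent.S2571
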