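import Mathlib
import Cfsg.Statements.S2574
import Cfsg.Agent.H9.RegNil
import Cfsg.Agent.H9.SympForm
import Cfsg.Agent.S2573

set_option autoImplicit false

namespace Cfsg.Agent.S2574

open Module

/-- A regular unipotent element of the symplectic group has totally isotropic small invariant subspaces: over a finite field, if u ∈ Sp_2m(F) satisfies (u − 1)^(2m) = 0 and rank(u − 1) = 2m − 1, and W is a u-invariant subspace with 2 dim W ≤ 2m, then the alternating form vanishes identically on W. -/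
theorem result {F : Type*} [Field F] [Finite F] {m : ℕ} (u : Matrix.symplecticGroup (Fin m) F) (hnil : ((u : Matrix (Fin m ⊕ Fin m) (Fin m ⊕ Fin m) F) - 1) ^ (2 * m) = 0) (hreg : ((u : Matrix (Fin m ⊕ Fin m) (Fin m ⊕ Fin m) F) - 1).rank = 2 * m - 1) (W : Submodule F (Fin m ⊕ Fin m → F)) (hW : ∀ v ∈ W, (u : Matrix (Fin m ⊕ Fin m) (Fin m ⊕ Fin m) F).mulVec v ∈ W) (hdim : 2 * Module.finrank F W ≤ 2 * m) : ∀ v ∈ W, ∀ w ∈ W, Cfsg.sympForm m F v w = 0 := by
  set A : Matrix (Fin m ⊕ Fin m) (Fin m ⊕ Fin m) F := (u : Matrix (Fin m ⊕ Fin m) (Fin m ⊕ Fin m) F) with hA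
  have hV : finrank F (Fin m ⊕ Fin m → F) = 2 * m := by
    rw [finrank_fintype_fun_eq_card, Fintype.card_sum, Fintype.card_fin, two_mul]
  have hsub : A.mulVecLin - 1 = (A - 1).mulVecLin := by
    apply LinearMap.ext
    intro v
    rw [LinearMap.sub_apply, Module.End.one_apply, Matrix.mulVecLin_apply, Matrix.mulVecLin_apply,
      Matrix.sub_mulVec, Matrix.one_mulVec]
  have hpow : ∀ k : ℕ, ((A - 1) ^ k).mulVecLin = (A - 1).mulVecLin ^ k := fun k => Matrix.toLin'_pow (A - 1) k
  have key := Cfsg.Agent.H9.RegNil.isotropic_of_invariant hV (Cfsg.Agent.H9.SympForm.sympB m F) A.mulVecLin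
    (fun x y => Cfsg.Agent.H9.SympForm.sympB_mulVec m F u.2 x y)
    (by rw [hsub, ← hpow, hnil]; simp)
    (by
      rw [hsub]
      have h := LinearMap.finrank_range_add_finrank_ker (A - 1).mulVecLin
      rw [hV] at h
      have h2 : finrank F (LinearMap.range (A - 1).mulVecLin) = 2 * m - 1 := hreg
      omega)
    W hW hdim
  intro v hv w hw
  rw [← Cfsg.Agent.H9.SympForm.sympB_apply]
  exact key v hv w hw

end Cfsg.Agent.S2574
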