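import Cfsg.Statements.S2575
import Mathlib

set_option autoImplicit false
open scoped Pointwise
open Cfsg Matrix

namespace Cfsg.Agent.S2575

section
variable {F : Type*} [Field F] [Fintype F]

lemma two_ne_zero_of_odd {q : ℕ} (hF : Fintype.card F = q) (hq : Odd q) : (2 : F) ≠ 0 := by
  have hchar : ringChar F ≠ 2 := by
    intro h
    have := FiniteField.even_card_of_char_two h
    rw [hF] at this
    rw [Nat.odd_iff] at hq
    omega
  exact Ring.two_ne_zero hchar

lemma neg_one_ne_one {q : ℕ} (hF : Fintype.card F = q) (hq : Odd q) : (-1 : F) ≠ 1 := by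
  intro h
  apply two_ne_zero_of_odd hF hq
  linear_combination (-1 : F) * h

/-- an element of `F` whose `2^a`-th power is `-1`, when `2^(a+1)` divides `q - 1`. -/
lemma exists_pow_two_pow_eq_neg_one {q : ℕ} (hF : Fintype.card F = q) (hq : Odd q) {a : ℕ}
    (ha : 2 ^ (a + 1) ∣ q - 1) : ∃ z : F, z ^ (2 ^ a) = -1 := by
  classical
  obtain ⟨g, hg⟩ := IsCyclic.exists_ofOrder_eq_natCard (α := Fˣ)
  have hN : Nat.card Fˣ = q - 1 := by
    rw [Nat.card_eq_fintype_card, Fintype.card_units, hF]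
  rw [hN] at hg
  have hq1 : q - 1 ≠ 0 := by
    have : 1 < q := by rw [← hF]; exact Fintype.one_lt_card
    omega
  obtain ⟨k, hk⟩ := ha
  have hk0 : k ≠ 0 := by
    rintro rfl
    rw [mul_zero] at hk
    exact hq1 hk
  have h1 : orderOf (g ^ k) = 2 ^ (a + 1) := by
    rw [orderOf_pow_of_dvd hk0 (by rw [hg, hk]; exact dvd_mul_left _ _), hg, hk,
      Nat.mul_div_cancel _ (Nat.pos_of_ne_zero hk0)]
  have h2 : orderOf ((g ^ k) ^ (2 ^ a)) = 2 := by
    rw [orderOf_pow_of_dvd (by positivity) (by rw [h1, pow_succ]; exact dvd_mul_right _ _), h1,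
      pow_succ, Nat.mul_div_cancel_left _ (by positivity)]
  refine ⟨((g ^ k : Fˣ) : F), ?_⟩
  have h3 : ((g ^ k) ^ (2 ^ a) : Fˣ) * ((g ^ k) ^ (2 ^ a) : Fˣ) = 1 := by
    have := pow_orderOf_eq_one ((g ^ k) ^ (2 ^ a) : Fˣ)
    rw [h2, pow_two] at this
    exact this
  have h4 : ((g ^ k) ^ (2 ^ a) : Fˣ) ≠ 1 := by
    intro h
    rw [h, orderOf_one] at h2
    norm_num at h2
  have h5 : (((g ^ k) ^ (2 ^ a) : Fˣ) : F) * (((g ^ k) ^ (2 ^ a) : Fˣ) : F) = 1 := by
    rw [← Units.val_mul, h3, Units.val_one]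
  rcases mul_self_eq_one_iff.1 h5 with h | h
  · exact absurd (Units.ext h) h4
  · rw [← h]
    simp only [Units.val_pow_eq_pow_val]

lemma exists_pow_eq_neg_one_iff {q : ℕ} (hF : Fintype.card F = q) (hq : Odd q) {n : ℕ}
    (hn : 1 ≤ n) : (∃ c : F, c ^ n = -1) ↔ padicValNat 2 n < padicValNat 2 (q - 1) := by
  have : Fact (Nat.Prime 2) := ⟨Nat.prime_two⟩
  have hq1 : q - 1 ≠ 0 := by
    have : 1 < q := by rw [← hF]; exact Fintype.one_lt_card
    omega
  have hn0 : n ≠ 0 := by omega
  constructor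
  · rintro ⟨c, hc⟩
    by_contra hlt
    rw [not_lt] at hlt
    have hc0 : c ≠ 0 := by
      rintro rfl
      rw [zero_pow hn0] at hc
      exact neg_ne_zero.2 one_ne_zero hc.symm
    -- q - 1 = 2^b * N', N' odd; 2^b ∣ n
    set b := padicValNat 2 (q - 1) with hb
    have hdvd : 2 ^ b ∣ n := (padicValNat_dvd_iff_le hn0).2 hlt
    obtain ⟨m, hm⟩ := hdvd
    have hN := Nat.ordProj_mul_ordCompl_eq_self (q - 1) 2
    rw [Nat.factorization_def _ Nat.prime_two, ← hb] at hN
    have hodd : Odd ((q - 1) / 2 ^ b) := by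
      rw [← Nat.not_even_iff_odd, even_iff_two_dvd]
      have := Nat.not_dvd_ordCompl Nat.prime_two hq1
      rw [Nat.factorization_def _ Nat.prime_two, ← hb] at this
      exact this
    have h1 : (c ^ n) ^ ((q - 1) / 2 ^ b) = 1 := by
      rw [← pow_mul, hm, mul_right_comm, hN, pow_mul, ← hF,
        FiniteField.pow_card_sub_one_eq_one c hc0, one_pow]
    rw [hc, Odd.neg_one_pow hodd] at h1
    exact neg_one_ne_one hF hq h1
  · intro hlt
    set a := padicValNat 2 n with ha
    have hdvd : 2 ^ (a + 1) ∣ q - 1 := (padicValNat_dvd_iff_le hq1).2 hlt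
    obtain ⟨z, hz⟩ := exists_pow_two_pow_eq_neg_one hF hq hdvd
    have hN := Nat.ordProj_mul_ordCompl_eq_self n 2
    rw [Nat.factorization_def _ Nat.prime_two, ← ha] at hN
    have hodd : Odd (n / 2 ^ a) := by
      rw [← Nat.not_even_iff_odd, even_iff_two_dvd]
      have := Nat.not_dvd_ordCompl Nat.prime_two hn0
      rw [Nat.factorization_def _ Nat.prime_two, ← ha] at this
      exact this
    refine ⟨z, ?_⟩
    rw [← hN, pow_mul, hz, Odd.neg_one_pow hodd]

end

theorem result {F : Type*} [Field F] [Fintype F] {q : ℕ} (hF : Fintype.card F = q) (hq : Odd q) {n : ℕ} (hn : 1 ≤ n) (i : ℕ) (hi : i ≤ n) : (∃ c : F, c ≠ 0 ∧ (c • Matrix.diagonal (fun j : Fin n => if (j : ℕ) < i then (-1 : F) else 1)).det = 1) ↔ (Even i ∨ padicValNat 2 n < padicValNat 2 (q - 1)) := by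
  have hdet : ∀ c : F, (c • Matrix.diagonal (fun j : Fin n => if (j : ℕ) < i then (-1 : F) else 1)).det =
      c ^ n * (-1) ^ i := by
    intro c
    rw [Matrix.det_smul, Matrix.det_diagonal, Fintype.card_fin,
      Fin.prod_univ_eq_prod_range (fun j => if j < i then (-1 : F) else 1) n, Finset.prod_ite,
      Finset.prod_const_one, mul_one, Finset.prod_const]
    congr 2
    have : Finset.filter (fun j => j < i) (Finset.range n) = Finset.range i := by
      ext j
      simp only [Finset.mem_filter, Finset.mem_range]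
      omega
    rw [this, Finset.card_range]
  simp only [hdet]
  rcases Nat.even_or_odd i with hie | hio
  · simp only [hie, true_or, iff_true]
    exact ⟨1, one_ne_zero, by rw [one_pow, Even.neg_one_pow hie, mul_one]⟩
  · have hne : ¬ Even i := Nat.not_even_iff_odd.2 hio
    simp only [hne, false_or, Odd.neg_one_pow hio]
    rw [← exists_pow_eq_neg_one_iff hF hq hn]
    constructor
    · rintro ⟨c, -, hc⟩
      exact ⟨c, by linear_combination (-1 : F) * hc⟩
    · rintro ⟨c, hc⟩
      refine ⟨c, ?_, by rw [hc]; ring⟩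
      rintro rfl
      rw [zero_pow (by omega)] at hc
      exact neg_ne_zero.2 one_ne_zero hc.symm

end Cfsg.Agent.S2575
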