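import Cfsg.Statements.S2576
import Mathlib
import Cfsg.Agent.S2575

set_option autoImplicit false
open scoped Pointwise
open Cfsg Matrix

namespace Cfsg.Agent.S2576

open Cfsg.Agent.S2575

theorem result {F : Type*} [Field F] [Fintype F] {q : ℕ} (hF : Fintype.card F = q) (hq : Odd q) {m : ℕ} (hm : 1 ≤ m) (μ : F) (hμ : orderOf μ = 2 ^ padicValNat 2 (q - 1)) : (∃ c : F, c ≠ 0 ∧ (c • Matrix.blockDiagonal (fun _ : Fin m => !![(0 : F), 1; μ, 0])).det = 1) ↔ (q % 4 = 3 ∨ padicValNat 2 (q - 1) < padicValNat 2 (2 * m)) := by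
  have : Fact (Nat.Prime 2) := ⟨Nat.prime_two⟩
  have hdet : ∀ c : F, (c • Matrix.blockDiagonal (fun _ : Fin m => !![(0 : F), 1; μ, 0])).det =
      c ^ (2 * m) * (-μ) ^ m := by
    intro c
    rw [Matrix.det_smul, Matrix.det_blockDiagonal, Fintype.card_prod, Fintype.card_fin,
      Fintype.card_fin, Finset.prod_const, Finset.card_univ, Fintype.card_fin,
      Matrix.det_fin_two_of]
    congr 2
    ring
  simp only [hdet]
  have hq1 : q - 1 ≠ 0 := by
    have : 1 < q := by rw [← hF]; exact Fintype.one_lt_card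
    omega
  have hm0 : m ≠ 0 := by omega
  set b := padicValNat 2 (q - 1) with hb
  have hb1 : 1 ≤ b := by
    have : 2 ^ 1 ∣ q - 1 := by
      obtain ⟨r, hr⟩ := hq
      rw [hr, Nat.add_sub_cancel, pow_one]; exact dvd_mul_right _ _
    exact (padicValNat_dvd_iff_le hq1).1 this
  -- μ^(2^(b-1)) = -1
  have hμ1 : μ ^ (2 ^ (b - 1)) = -1 := by
    have h2 : orderOf (μ ^ (2 ^ (b - 1))) = 2 := by
      rw [orderOf_pow_of_dvd (by positivity) (by rw [hμ]; exact pow_dvd_pow 2 (by omega)), hμ]
      have : b = (b - 1) + 1 := by omega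
      nth_rewrite 1 [this]
      rw [pow_succ, Nat.mul_div_cancel_left _ (by positivity)]
    have h3 : μ ^ (2 ^ (b - 1)) * μ ^ (2 ^ (b - 1)) = 1 := by
      have := pow_orderOf_eq_one (μ ^ (2 ^ (b - 1)))
      rw [h2, pow_two] at this
      exact this
    rcases mul_self_eq_one_iff.1 h3 with h | h
    · rw [h, orderOf_one] at h2
      norm_num at h2
    · exact h
  have hv2m : padicValNat 2 (2 * m) = padicValNat 2 m + 1 := by
    rw [padicValNat.mul (by norm_num) hm0, padicValNat.self (by norm_num), add_comm]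
  by_cases h4 : q % 4 = 3
  · -- b = 1, μ = -1
    simp only [h4, true_or, iff_true]
    have hb' : b = 1 := by
      apply le_antisymm _ hb1
      by_contra hlt
      rw [not_le] at hlt
      have : 2 ^ 2 ∣ q - 1 := (padicValNat_dvd_iff_le hq1).2 hlt
      omega
    rw [hb', Nat.sub_self, pow_zero, pow_one] at hμ1
    refine ⟨1, one_ne_zero, ?_⟩
    rw [hμ1, neg_neg, one_pow, one_pow, one_mul]
  · have hq4 : q % 4 = 1 := by
      rw [Nat.odd_iff] at hq
      omega
    simp only [h4, false_or]
    have hb2 : 2 ≤ b := by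
      have : 2 ^ 2 ∣ q - 1 := by
        have : q - 1 = 4 * (q / 4) := by omega
        rw [this]; norm_num
      exact (padicValNat_dvd_iff_le hq1).1 this
    rw [hv2m]
    constructor
    · rintro ⟨c, hc0, hc⟩
      by_contra hlt
      rw [not_lt] at hlt
      -- a = v₂ m ≤ b - 1
      set a := padicValNat 2 m with ha
      have hN := Nat.ordProj_mul_ordCompl_eq_self (q - 1) 2
      rw [Nat.factorization_def _ Nat.prime_two, ← hb] at hN
      have hN'odd : Odd ((q - 1) / 2 ^ b) := by
        rw [← Nat.not_even_iff_odd, even_iff_two_dvd]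
        have := Nat.not_dvd_ordCompl Nat.prime_two hq1
        rw [Nat.factorization_def _ Nat.prime_two, ← hb] at this
        exact this
      have hM := Nat.ordProj_mul_ordCompl_eq_self m 2
      rw [Nat.factorization_def _ Nat.prime_two, ← ha] at hM
      have hm'odd : Odd (m / 2 ^ a) := by
        rw [← Nat.not_even_iff_odd, even_iff_two_dvd]
        have := Nat.not_dvd_ordCompl Nat.prime_two hm0
        rw [Nat.factorization_def _ Nat.prime_two, ← ha] at this
        exact this
      set N' := (q - 1) / 2 ^ b with hN'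
      set m' := m / 2 ^ a with hm'
      -- y = -μ c², y^m = 1, y^(2^(b-1) N') = -1
      have hy : (-μ * c ^ 2) ^ m = 1 := by
        rw [mul_pow, ← pow_mul, mul_comm]; exact hc
      have hcN : c ^ (q - 1) = 1 := by
        rw [← hF]; exact FiniteField.pow_card_sub_one_eq_one c hc0
      have hhalf : (-μ * c ^ 2) ^ (2 ^ (b - 1) * N') = -1 := by
        rw [mul_pow, neg_pow, ← pow_mul c, pow_mul μ, hμ1, Odd.neg_one_pow hN'odd]
        have e1 : 2 * (2 ^ (b - 1) * N') = q - 1 := by
          rw [← hN, ← mul_assoc, ← pow_succ']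
          congr 2
          omega
        rw [e1, hcN, mul_one]
        have : Even (2 ^ (b - 1) * N') := by
          apply Even.mul_right
          exact (Nat.even_pow' (by omega)).2 even_two
        rw [Even.neg_one_pow this, one_mul]
      have h1 : ((-μ * c ^ 2) ^ m) ^ (2 ^ (b - 1 - a) * N') = 1 := by rw [hy, one_pow]
      have e2 : m * (2 ^ (b - 1 - a) * N') = (2 ^ (b - 1) * N') * m' := by
        rw [← hM]
        have : (2 : ℕ) ^ (b - 1) = 2 ^ a * 2 ^ (b - 1 - a) := by
          rw [← pow_add]; congr 1; omega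
        rw [this]; ring
      rw [← pow_mul, e2, pow_mul, hhalf, Odd.neg_one_pow hm'odd] at h1
      exact neg_one_ne_one hF hq h1
    · intro hlt
      have hdvd : 2 ^ b ∣ m := (padicValNat_dvd_iff_le hm0).2 (by omega)
      obtain ⟨k, hk⟩ := hdvd
      refine ⟨1, one_ne_zero, ?_⟩
      rw [one_pow, one_mul, neg_pow, hk, pow_mul μ, ← hμ, pow_orderOf_eq_one, one_pow, mul_one]
      have : Even (orderOf μ * k) := by
        rw [hμ]
        apply Even.mul_right
        exact (Nat.even_pow' (by omega)).2 even_two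
      exact Even.neg_one_pow this

end Cfsg.Agent.S2576
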