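import Mathlib
import Cfsg.Statements.S2579
import Cfsg.Agent.H9.TvConj

set_option autoImplicit false

namespace Cfsg.Agent.S2579

open Module Cfsg.Agent.H9.TvConj

/-- In SL_n(F) with n ≥ 3, over a finite field F, any two transvections (matrices t with t − 1 of rank one and square zero) are conjugate by an element of SL_n(F). -/
theorem result {F : Type*} [Field F] [Finite F] {n : ℕ} (hn : 3 ≤ n) (s t : Matrix.SpecialLinearGroup (Fin n) F) (hs : Cfsg.IsTransvection (s : Matrix (Fin n) (Fin n) F)) (ht : Cfsg.IsTransvection (t : Matrix (Fin n) (Fin n) F)) : IsConj s t := by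
  obtain ⟨a, φ, ha, hφ, hφa, hS⟩ := exists_decomp (s : Matrix (Fin n) (Fin n) F) hs
  obtain ⟨a', φ', ha', hφ', hφa', hT⟩ := exists_decomp (t : Matrix (Fin n) (Fin n) F) ht
  obtain ⟨g, hga, hgφ⟩ := exists_equiv_data a a' φ φ' ha ha' hφ hφ' hφa hφa'
  have hdet : LinearMap.det (g : (Fin n → F) →ₗ[F] (Fin n → F)) ≠ 0 := (LinearEquiv.isUnit_det' g).ne_zero
  have hdim : 3 ≤ finrank F (Fin n → F) := by
    rw [finrank_fintype_fun_eq_card, Fintype.card_fin]; exact hn
  obtain ⟨z, hza, hzφ, hzdet⟩ := exists_equiv_det hdim a φ hφ hφa _ (inv_ne_zero hdet)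
  set k : (Fin n → F) →ₗ[F] (Fin n → F) := (g : (Fin n → F) →ₗ[F] (Fin n → F)) ∘ₗ (z : (Fin n → F) →ₗ[F] (Fin n → F)) with hk
  have hkdet : LinearMap.det k = 1 := by
    rw [hk, LinearMap.det_comp, hzdet, mul_inv_cancel₀ hdet]
  have hka : k a = a' := by
    rw [hk, LinearMap.comp_apply, LinearEquiv.coe_coe, LinearEquiv.coe_coe, hza, hga]
  have hkφ : ∀ x, φ' (k x) = φ x := by
    intro x
    rw [hk, LinearMap.comp_apply, LinearEquiv.coe_coe, LinearEquiv.coe_coe, hgφ, hzφ]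
  set G : Matrix (Fin n) (Fin n) F := LinearMap.toMatrix' k with hG
  have hGdet : G.det = 1 := by rw [hG, LinearMap.det_toMatrix', hkdet]
  have hGx : ∀ x, G.mulVec x = k x := by
    intro x
    rw [hG, ← Matrix.toLin'_apply, Matrix.toLin'_toMatrix']
  have hcomm : G * (s : Matrix (Fin n) (Fin n) F) = (t : Matrix (Fin n) (Fin n) F) * G := by
    apply Matrix.toLin'.injective
    apply LinearMap.ext
    intro x
    rw [Matrix.toLin'_apply, Matrix.toLin'_apply, ← Matrix.mulVec_mulVec, ← Matrix.mulVec_mulVec, hS, hT, hGx, hGx,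
      map_add, map_smul, hka, hkφ]
  rw [isConj_iff]
  obtain ⟨c, hc⟩ : ∃ c : Matrix.SpecialLinearGroup (Fin n) F, (c : Matrix (Fin n) (Fin n) F) = G :=
    ⟨⟨G, hGdet⟩, rfl⟩
  refine ⟨c, ?_⟩
  rw [mul_inv_eq_iff_eq_mul]
  apply Subtype.ext
  rw [Matrix.SpecialLinearGroup.coe_mul, Matrix.SpecialLinearGroup.coe_mul, hc]
  exact hcomm

end Cfsg.Agent.S2579
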