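import Mathlib
import Cfsg.Statements.S2582
import Cfsg.Agent.Lib.Helper8.JTypeH

set_option autoImplicit false
open Cfsg

namespace Cfsg.Agent.S2582

open Matrix Cfsg.Agent.Lib.Helper8.JType

/-- Which unipotent Jordan types occur in the finite symplectic group: over a finite field, a unipotent matrix with Jordan block sizes d_1, …, d_t (sum 2m, all at least 1) is similar to an element of Sp_2m(F) if and only if every odd block size occurs an even number of times. -/
theorem result {F : Type*} [Field F] [Fintype F] {m t : ℕ} (d : Fin t → ℕ) (hd : ∀ k, 1 ≤ d k) (hsum : ∑ k, d k = 2 * m) : (∃ e : ((k : Fin t) × Fin (d k)) ≃ (Fin m ⊕ Fin m), ∃ A : Matrix.symplecticGroup (Fin m) F, IsConj (Matrix.reindex e e (Cfsg.jordanTypeMatrix d F)) (A : Matrix (Fin m ⊕ Fin m) (Fin m ⊕ Fin m) F)) ↔ ∀ j : ℕ, Odd j → Even (Finset.univ.filter (fun k : Fin t => d k = j)).card := by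
  classical
  constructor
  · rintro ⟨e, A, hconj⟩
    apply even_count_odd d
    intro k
    rw [← rank_of_isConj_jt d e (A : Matrix (Fin m ⊕ Fin m) (Fin m ⊕ Fin m) F) hconj (2 * k)]
    have hAJ : (A : Matrix (Fin m ⊕ Fin m) (Fin m ⊕ Fin m) F)ᵀ * Matrix.J (Fin m) F *
        (A : Matrix (Fin m ⊕ Fin m) (Fin m ⊕ Fin m) F) = Matrix.J (Fin m) F :=
      SymplecticGroup.mem_iff'.mp A.2
    have hJalt : IsAltM (Matrix.J (Fin m) F) := by
      refine ⟨Matrix.J_transpose _ _, ?_⟩
      rintro (i | i)
      · simp [Matrix.J]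
      · simp [Matrix.J]
    exact even_rank_of_alt _ _ hJalt (Matrix.isUnit_det_J _ _) hAJ k
  · intro h
    have hP : Pres (spClass F) (jordanTypeMatrix d F) := by
      apply pres_jt (C := spClass F) (fun j => Odd j) _ d hd h
      intro n hn hodd
      rw [Nat.not_odd_iff_even] at hodd
      obtain ⟨r, hr⟩ := hodd
      have hr2 : n = 2 * r := by omega
      subst hr2
      exact pres_sp_even (by omega)
    have hcard : Fintype.card ((k : Fin t) × Fin (d k)) = Fintype.card (Fin m ⊕ Fin m) := by
      rw [Fintype.card_sigma, Fintype.card_sum, Fintype.card_fin]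
      simp only [Fintype.card_fin]
      omega
    set e := Fintype.equivOfCardEq hcard with he
    obtain ⟨M, ⟨hMalt, hMunit⟩, hMinv⟩ := hP.reindex e
    have hinv : (Matrix.reindex e e (jordanTypeMatrix d F))ᵀ * M *
        Matrix.reindex e e (jordanTypeMatrix d F) = M := sub_eq_zero.mp hMinv
    obtain ⟨A, hA⟩ := exists_sp_conj _ M hMalt hMunit hinv
    exact ⟨e, A, hA⟩

end Cfsg.Agent.S2582
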