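import Mathlib
import Cfsg.Statements.S2583
import Cfsg.Agent.Lib.Helper8.JTypeH

set_option autoImplicit false
open Cfsg

namespace Cfsg.Agent.S2583

open Matrix Cfsg.Agent.Lib.Helper8.JType

/-- Which unipotent Jordan types occur in a finite orthogonal group in odd characteristic: over a finite field of odd order, a unipotent matrix with Jordan block sizes d_1, …, d_t (sum n, all at least 1) is similar to an isometry of some quadratic form on F^n with non-degenerate polar form if and only if every even block size occurs an even number of times. -/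
theorem result {F : Type*} [Field F] [Fintype F] (h2 : (2 : F) ≠ 0) {n t : ℕ} (d : Fin t → ℕ) (hd : ∀ k, 1 ≤ d k) (hsum : ∑ k, d k = n) : (∃ Q : QuadraticForm F (Fin n → F), (QuadraticMap.polarBilin Q).Nondegenerate ∧ ∃ e : ((k : Fin t) × Fin (d k)) ≃ Fin n, ∃ A : ↥(Cfsg.isometryGroup F ⇑Q), IsConj (Matrix.reindex e e (Cfsg.jordanTypeMatrix d F)) ((A : Matrix.GeneralLinearGroup (Fin n) F) : Matrix (Fin n) (Fin n) F)) ↔ ∀ j : ℕ, Even j → 0 < j → Even (Finset.univ.filter (fun k : Fin t => d k = j)).card := by
  classical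
  constructor
  · rintro ⟨Q, hQ, e, A, hconj⟩
    obtain ⟨S, hSsymm, hSdet, -, hSinv⟩ := polar_matrix Q hQ A
    apply even_count_even d
    intro k
    rw [← rank_of_isConj_jt d e _ hconj (2 * k + 1)]
    exact even_rank_of_symm h2 _ S hSsymm hSdet hSinv (isNilpotent_of_isConj_jt d e _ hconj) k
  · intro h
    have hP : Pres (oClass F) (jordanTypeMatrix d F) := by
      apply pres_jt (C := oClass F) (fun j => Even j ∧ 0 < j) _ d hd (fun j hj => h j hj.1 hj.2)
      intro n hn hnot
      apply pres_o_odd h2
      rw [← Nat.not_even_iff_odd]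
      intro hev
      exact hnot ⟨hev, by omega⟩
    have hcard : Fintype.card ((k : Fin t) × Fin (d k)) = Fintype.card (Fin n) := by
      rw [Fintype.card_sigma, Fintype.card_fin]
      simp only [Fintype.card_fin]
      exact hsum
    set e := Fintype.equivOfCardEq hcard with he
    obtain ⟨S, ⟨hSsymm, hSunit⟩, hSinv⟩ := hP.reindex e
    have hinv : (Matrix.reindex e e (jordanTypeMatrix d F))ᵀ * S *
        Matrix.reindex e e (jordanTypeMatrix d F) = S := sub_eq_zero.mp hSinv
    have hT : IsUnit (S + Sᵀ) := by
      rw [hSsymm, ← two_smul F S]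
      rw [Matrix.isUnit_iff_isUnit_det] at hSunit ⊢
      rw [Matrix.det_smul]
      exact ((isUnit_iff_ne_zero.mpr h2).pow _).mul hSunit
    have hR : (Matrix.reindex e e (jordanTypeMatrix d F)).det ≠ 0 := by
      rw [Matrix.det_reindex_self]
      exact jt_det_ne_zero d
    obtain ⟨Q, hQ, A, hA⟩ := exists_quad (Matrix.reindex e e (jordanTypeMatrix d F)) S hT hR
      (fun v => by rw [dot_mulVec_mulVec, hinv])
    refine ⟨Q, hQ, e, A, ?_⟩
    rw [hA]

end Cfsg.Agent.S2583
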