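import Mathlib
import Cfsg.Statements.S2584
import Cfsg.Agent.Lib.Helper8.JTypeH

set_option autoImplicit false
open Cfsg

namespace Cfsg.Agent.S2584

open Matrix Cfsg.Agent.Lib.Helper8.JType

/-- Which unipotent Jordan types occur in a finite orthogonal group in characteristic two: over a finite field of characteristic 2 and in even dimension 2m, a unipotent matrix with Jordan block sizes d_1, …, d_t (sum 2m, all at least 1) is similar to an isometry of some quadratic form on F^(2m) with non-degenerate polar form if and only if every odd block size occurs an even number of times (the same condition as for the symplectic group, which contains these orthogonal groups). -/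
theorem result {F : Type*} [Field F] [Fintype F] [CharP F 2] {m t : ℕ} (d : Fin t → ℕ) (hd : ∀ k, 1 ≤ d k) (hsum : ∑ k, d k = 2 * m) : (∃ Q : QuadraticForm F (Fin (2 * m) → F), (QuadraticMap.polarBilin Q).Nondegenerate ∧ ∃ e : ((k : Fin t) × Fin (d k)) ≃ Fin (2 * m), ∃ A : ↥(Cfsg.isometryGroup F ⇑Q), IsConj (Matrix.reindex e e (Cfsg.jordanTypeMatrix d F)) ((A : Matrix.GeneralLinearGroup (Fin (2 * m)) F) : Matrix (Fin (2 * m)) (Fin (2 * m)) F)) ↔ ∀ j : ℕ, Odd j → Even (Finset.univ.filter (fun k : Fin t => d k = j)).card := by
  classical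
  constructor
  · rintro ⟨Q, hQ, e, A, hconj⟩
    obtain ⟨S, hSsymm, hSdet, hSdiag, hSinv⟩ := polar_matrix Q hQ A
    have hSalt : IsAltM S := by
      refine ⟨?_, ?_⟩
      · rw [hSsymm]
        ext i j
        rw [Matrix.neg_apply, CharTwo.neg_eq]
      · intro i
        rw [hSdiag, CharTwo.two_eq_zero, zero_mul]
    apply even_count_odd d
    intro k
    rw [← rank_of_isConj_jt d e _ hconj (2 * k)]
    exact even_rank_of_alt _ S hSalt hSdet hSinv k
  · intro h
    have hP : Pres (qClass F) (jordanTypeMatrix d F) := by
      apply pres_jt (C := qClass F) (fun j => Odd j) _ d hd h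
      intro n hn hodd
      rw [Nat.not_odd_iff_even] at hodd
      obtain ⟨r, hr⟩ := hodd
      have hr2 : n = 2 * r := by omega
      subst hr2
      exact pres_q_even (by omega)
    have hcard : Fintype.card ((k : Fin t) × Fin (d k)) = Fintype.card (Fin (2 * m)) := by
      rw [Fintype.card_sigma, Fintype.card_fin]
      simp only [Fintype.card_fin]
      exact hsum
    set e := Fintype.equivOfCardEq hcard with he
    obtain ⟨T, hTgood, hTnull⟩ := hP.reindex e
    have hTgood' : IsUnit (T + Tᵀ) := hTgood
    have hTnull' : IsAltM ((Matrix.reindex e e (jordanTypeMatrix d F))ᵀ * T *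
        Matrix.reindex e e (jordanTypeMatrix d F) - T) := hTnull
    have hR : (Matrix.reindex e e (jordanTypeMatrix d F)).det ≠ 0 := by
      rw [Matrix.det_reindex_self]
      exact jt_det_ne_zero d
    obtain ⟨Q, hQ, A, hA⟩ := exists_quad (Matrix.reindex e e (jordanTypeMatrix d F)) T hTgood' hR
      (fun v => by
        rw [dot_mulVec_mulVec]
        have h1 := hTnull'.dot_self v
        rw [Matrix.sub_mulVec, dotProduct_sub, sub_eq_zero] at h1
        exact h1)
    refine ⟨Q, hQ, e, A, ?_⟩
    rw [hA]

end Cfsg.Agent.S2584
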