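import Mathlib
import Cfsg.Statements.S2585
import Cfsg.Agent.Lib.Helper5.Symp

set_option autoImplicit false
open Cfsg

namespace Cfsg.Agent.S2585

open Matrix Cfsg.Agent.Lib.Helper5.Symp

/-- the base quadratic form `Σ x_i y_i` -/
noncomputable def Q0 (F : Type*) [Field F] (m : ℕ) : QuadraticForm F (Fin m ⊕ Fin m → F) :=
  ∑ i : Fin m, QuadraticMap.linMulLin (LinearMap.proj (Sum.inl i)) (LinearMap.proj (Sum.inr i))

variable {F : Type*} [Field F] {m : ℕ}

theorem Q0_apply (v : Fin m ⊕ Fin m → F) : Q0 F m v = ∑ i, v (Sum.inl i) * v (Sum.inr i) := by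
  unfold Q0
  rw [_root_.sum_apply]
  rfl

variable [CharP F 2]

theorem polar_Q0 (u v : Fin m ⊕ Fin m → F) :
    QuadraticMap.polar ⇑(Q0 F m) u v = sympForm m F u v := by
  rw [sympForm_eq_sum, QuadraticMap.polar, Q0_apply, Q0_apply, Q0_apply, ← Finset.sum_sub_distrib,
    ← Finset.sum_sub_distrib]
  apply Finset.sum_congr rfl
  intro i _
  simp only [Pi.add_apply]
  have h2 : (2 : F) = 0 := CharTwo.two_eq_zero
  linear_combination (u (Sum.inl i) * v (Sum.inr i)) * h2

theorem Q0_add (u v : Fin m ⊕ Fin m → F) :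
    Q0 F m (u + v) = Q0 F m u + Q0 F m v + sympForm m F u v := by
  rw [← polar_Q0, QuadraticMap.polar]
  ring

/-- the defect function -/
noncomputable def ff (A : Matrix (Fin m ⊕ Fin m) (Fin m ⊕ Fin m) F) (v : Fin m ⊕ Fin m → F) : F :=
  Q0 F m (A *ᵥ v) + Q0 F m v

theorem ff_add (A : Matrix (Fin m ⊕ Fin m) (Fin m ⊕ Fin m) F) (hA : A ∈ symplecticGroup (Fin m) F)
    (u v : Fin m ⊕ Fin m → F) : ff A (u + v) = ff A u + ff A v := by
  unfold ff
  rw [Matrix.mulVec_add, Q0_add, Q0_add, sympForm_of_mem m hA]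
  have h2 : (2 : F) = 0 := CharTwo.two_eq_zero
  linear_combination (sympForm m F u v) * h2

omit [CharP F 2] in
theorem ff_zero (A : Matrix (Fin m ⊕ Fin m) (Fin m ⊕ Fin m) F) : ff A 0 = 0 := by
  unfold ff
  rw [Matrix.mulVec_zero, map_zero, add_zero]

omit [CharP F 2] in
theorem ff_smul (A : Matrix (Fin m ⊕ Fin m) (Fin m ⊕ Fin m) F) (c : F) (v : Fin m ⊕ Fin m → F) :
    ff A (c • v) = c * c * ff A v := by
  unfold ff
  rw [Matrix.mulVec_smul, QuadraticMap.map_smul, QuadraticMap.map_smul, smul_eq_mul, smul_eq_mul]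
  ring

theorem ff_sum (A : Matrix (Fin m ⊕ Fin m) (Fin m ⊕ Fin m) F) (hA : A ∈ symplecticGroup (Fin m) F)
    {ι : Type*} (s : Finset ι) (w : ι → (Fin m ⊕ Fin m → F)) :
    ff A (∑ i ∈ s, w i) = ∑ i ∈ s, ff A (w i) := by
  classical
  induction s using Finset.induction_on with
  | empty => simp [ff_zero]
  | insert a s ha ih => rw [Finset.sum_insert ha, Finset.sum_insert ha, ff_add A hA, ih]

variable [Fintype F]

theorem exists_lam (A : Matrix (Fin m ⊕ Fin m) (Fin m ⊕ Fin m) F)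
    (hA : A ∈ symplecticGroup (Fin m) F) :
    ∃ lam : (Fin m ⊕ Fin m → F) →ₗ[F] F, ∀ v, lam v * lam v = ff A v := by
  classical
  have hsq : ∀ a : F, ∃ s : F, s * s = a := by
    intro a
    obtain ⟨s, hs⟩ := FiniteField.isSquare_of_char_two (ringChar.eq F 2) a
    exact ⟨s, hs.symm⟩
  choose s hs using fun i : Fin m ⊕ Fin m => hsq (ff A (Pi.single i 1))
  refine ⟨∑ i, s i • LinearMap.proj i, ?_⟩
  intro v
  have h1 : (∑ i, s i • (LinearMap.proj i : (Fin m ⊕ Fin m → F) →ₗ[F] F)) v = ∑ i, s i * v i := by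
    rw [LinearMap.sum_apply]
    rfl
  rw [h1, ← sq, sum_pow_char 2]
  have h2 : v = ∑ i, v i • (Pi.single i (1 : F) : Fin m ⊕ Fin m → F) := by
    conv_lhs => rw [← Finset.univ_sum_single v]
    apply Finset.sum_congr rfl
    intro i _
    ext j
    simp [Pi.single_apply]
  conv_rhs => rw [h2]
  rw [ff_sum A hA]
  apply Finset.sum_congr rfl
  intro i _
  rw [ff_smul, ← hs i]
  ring

omit [CharP F 2] [Fintype F] in
/-- a functional vanishing on `ker T` factors through `T` -/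
theorem exists_mu {V : Type*} [AddCommGroup V] [Module F V] (T : V →ₗ[F] V) (lam : V →ₗ[F] F)
    (h : LinearMap.ker T ≤ LinearMap.ker lam) : ∃ mu : V →ₗ[F] F, ∀ v, mu (T v) = lam v := by
  obtain ⟨L, hL⟩ := LinearMap.exists_leftInverse_of_injective
    ((LinearMap.ker T).liftQ T le_rfl) (Submodule.ker_liftQ_eq_bot' _ T rfl)
  refine ⟨((LinearMap.ker T).liftQ lam h).comp L, ?_⟩
  intro v
  have h1 : L (T v) = Submodule.Quotient.mk v := by
    have := LinearMap.congr_fun hL (Submodule.Quotient.mk v)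
    rw [LinearMap.comp_apply, Submodule.liftQ_apply] at this
    exact this
  rw [LinearMap.comp_apply, h1, Submodule.liftQ_apply]

/-- Over a finite field of characteristic two every element of the symplectic group is orthogonal for a suitable quadratic form: for each A in Sp_2m(F) there is a quadratic form Q on F^(2m) whose polar form is the alternating form defining Sp_2m(F) (so Q is non-degenerate) and which A preserves. Equivalently, for m ≥ 1, Sp_2m(F) is the union of the conjugates of its two orthogonal subgroups O⁺_2m(F) and O⁻_2m(F). -/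
theorem result {F : Type*} [Field F] [Fintype F] [CharP F 2] {m : ℕ} (A : Matrix.symplecticGroup (Fin m) F) : ∃ Q : QuadraticForm F (Fin m ⊕ Fin m → F), (∀ u v : Fin m ⊕ Fin m → F, QuadraticMap.polar ⇑Q u v = Cfsg.sympForm m F u v) ∧ ∀ v : Fin m ⊕ Fin m → F, Q ((A : Matrix (Fin m ⊕ Fin m) (Fin m ⊕ Fin m) F).mulVec v) = Q v := by
  have hA : (A : Matrix (Fin m ⊕ Fin m) (Fin m ⊕ Fin m) F) ∈ symplecticGroup (Fin m) F := A.2
  have h2 : (2 : F) = 0 := CharTwo.two_eq_zero
  obtain ⟨lam, hlam⟩ := exists_lam (A : Matrix (Fin m ⊕ Fin m) (Fin m ⊕ Fin m) F) hA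
  have hker : LinearMap.ker ((A : Matrix (Fin m ⊕ Fin m) (Fin m ⊕ Fin m) F).mulVecLin + LinearMap.id)
      ≤ LinearMap.ker lam := by
    intro v hv
    rw [LinearMap.mem_ker, LinearMap.add_apply, Matrix.mulVecLin_apply, LinearMap.id_apply] at hv
    have hAv : (A : Matrix (Fin m ⊕ Fin m) (Fin m ⊕ Fin m) F) *ᵥ v = v := by
      have := eq_neg_of_add_eq_zero_left hv
      rw [this]
      ext i
      rw [Pi.neg_apply, CharTwo.neg_eq]
    rw [LinearMap.mem_ker]
    have h3 := hlam v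
    unfold ff at h3
    rw [hAv, CharTwo.add_self_eq_zero] at h3
    exact mul_self_eq_zero.1 h3
  obtain ⟨mu, hmu⟩ := exists_mu _ lam hker
  refine ⟨Q0 F m + QuadraticMap.linMulLin mu mu, ?_, ?_⟩
  · intro u v
    rw [← polar_Q0, QuadraticMap.polar, QuadraticMap.polar]
    simp only [_root_.add_apply, QuadraticMap.linMulLin_apply, map_add]
    linear_combination (mu u * mu v) * h2
  · intro v
    simp only [_root_.add_apply, QuadraticMap.linMulLin_apply]
    have h3 := hlam v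
    unfold ff at h3
    have h4 := hmu v
    rw [LinearMap.add_apply, Matrix.mulVecLin_apply, LinearMap.id_apply, map_add] at h4
    rw [← h4] at h3
    have e1 : Q0 F m ((A : Matrix (Fin m ⊕ Fin m) (Fin m ⊕ Fin m) F) *ᵥ v) =
        (mu ((A : Matrix (Fin m ⊕ Fin m) (Fin m ⊕ Fin m) F) *ᵥ v) + mu v) *
          (mu ((A : Matrix (Fin m ⊕ Fin m) (Fin m ⊕ Fin m) F) *ᵥ v) + mu v) - Q0 F m v := by
      rw [h3]; ring
    rw [e1]
    linear_combination (mu ((A : Matrix (Fin m ⊕ Fin m) (Fin m ⊕ Fin m) F) *ᵥ v) * mu ((A : Matrix (Fin m ⊕ Fin m) (Fin m ⊕ Fin m) F) *ᵥ v) + mu ((A : Matrix (Fin m ⊕ Fin m) (Fin m ⊕ Fin m) F) *ᵥ v) * mu v - Q0 F m v) * h2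

end Cfsg.Agent.S2585
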