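import Cfsg.Statements.S2586
import Mathlib
import Cfsg.Agent.H9.SimTranspose

set_option autoImplicit false
open Cfsg

namespace Cfsg.Agent.S2586

open Matrix

/-- similarity to the transpose for an arbitrary finite index type -/
theorem isConj_transpose' {F : Type*} [Field F] {ι : Type*} [Fintype ι] [DecidableEq ι]
    (A : Matrix ι ι F) : IsConj A A.transpose := by
  let e : ι ≃ Fin (Fintype.card ι) := Fintype.equivFin ι
  let r := Matrix.reindexAlgEquiv F F e
  have h := Cfsg.Agent.H9.SimTranspose.isConj_transpose (r A)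
  have h2 := MonoidHom.map_isConj (r.symm : Matrix (Fin (Fintype.card ι)) (Fin (Fintype.card ι)) F →*
    Matrix ι ι F) h
  have e1 : (r.symm : Matrix (Fin (Fintype.card ι)) (Fin (Fintype.card ι)) F →* Matrix ι ι F) (r A)
      = A := r.symm_apply_apply A
  have e2 : (r.symm : Matrix (Fin (Fintype.card ι)) (Fin (Fintype.card ι)) F →* Matrix ι ι F)
      (r A).transpose = A.transpose := by
    change r.symm (r A).transpose = A.transpose
    ext i j
    simp [r, Matrix.reindex_apply]
  rw [e1, e2] at h2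
  exact h2

/-- Over a finite field, every element of the symplectic group Sp_2m(F) is conjugate by an invertible matrix to its inverse. -/
theorem result {F : Type*} [Field F] [Finite F] {m : ℕ} (A : Matrix.symplecticGroup (Fin m) F) : IsConj (A : Matrix (Fin m ⊕ Fin m) (Fin m ⊕ Fin m) F) ((A⁻¹ : Matrix.symplecticGroup (Fin m) F) : Matrix (Fin m ⊕ Fin m) (Fin m ⊕ Fin m) F) := by
  refine (isConj_transpose' (A : Matrix (Fin m ⊕ Fin m) (Fin m ⊕ Fin m) F)).trans ?_
  rw [SymplecticGroup.coe_inv]
  have hJ1 : (-J (Fin m) F) * J (Fin m) F = 1 := by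
    rw [neg_mul, J_squared, neg_neg]
  have hJ2 : J (Fin m) F * (-J (Fin m) F) = 1 := by
    rw [mul_neg, J_squared, neg_neg]
  refine ⟨⟨-J (Fin m) F, J (Fin m) F, hJ1, hJ2⟩, ?_⟩
  change (-J (Fin m) F) * (A : Matrix (Fin m ⊕ Fin m) (Fin m ⊕ Fin m) F).transpose =
    (-J (Fin m) F) * (A : Matrix (Fin m ⊕ Fin m) (Fin m ⊕ Fin m) F).transpose * J (Fin m) F *
      (-J (Fin m) F)
  rw [Matrix.mul_assoc _ (J (Fin m) F), hJ2, Matrix.mul_one]

end Cfsg.Agent.S2586
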