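import Mathlib
import Cfsg.Statements.S2588
import Cfsg.Agent.Lib.Helper8.GUSimC

set_option autoImplicit false
open Cfsg

namespace Cfsg.Agent.S2588

open Matrix Cfsg.Agent.S0277 Cfsg.Agent.Lib.Helper8.SUReg Cfsg.Agent.Lib.Helper8.GUConj
  Cfsg.Agent.Lib.Helper8.GUSim

/-- An invertible matrix A over the field with q² elements is conjugate in GL_n(q²) to an element of the general unitary group GU_n(q) (isometries of the Hermitian form Σ u_i v_i^q) if and only if A is similar to the inverse transpose of its entrywise q-th power (A ~ A^(−qT), the image of A under the map sending a matrix to the inverse transpose of its entrywise q-th power — inverse transpose composed with the field automorphism — whose fixed points form GU_n(q)). -/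
theorem result {K : Type*} [Field K] [Fintype K] {q n : ℕ} (hK : Fintype.card K = q ^ 2) (A : GL (Fin n) K) : (∃ B : ↥(Cfsg.GU n K q), IsConj A (B : GL (Fin n) K)) ↔ IsConj (A : Matrix (Fin n) (Fin n) K) (((A : Matrix (Fin n) (Fin n) K).map (fun x : K => x ^ q)).transpose)⁻¹ := by
  classical
  obtain ⟨σ, hσ, hσne, hσ2⟩ := Cfsg.Agent.S0277.exists_frob hK
  set σe : K ≃+* K := RingEquiv.ofRingHom σ σ (RingHom.ext hσ2) (RingHom.ext hσ2) with hσe
  have hσe_ne : σe ≠ RingEquiv.refl K := by
    intro h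
    apply hσne
    ext x
    have := congrArg (fun f : K ≃+* K => f x) h
    exact this
  have htr : ∀ b : K, σ b = b → ∃ y : K, y + σ y = b := fun b hb =>
    Cfsg.Agent.Lib.Helper8.Unitary.tr_surj (σ := σe) hσe_ne hσ2 b hb
  have hmap : ((A : Matrix (Fin n) (Fin n) K).map (fun x : K => x ^ q)).transpose =
      adj σ (A : Matrix (Fin n) (Fin n) K) := by
    unfold adj
    congr 1
    ext i j
    rw [Matrix.map_apply, Matrix.map_apply, hσ]
  rw [hmap]
  set Am := (A : Matrix (Fin n) (Fin n) K) with hAm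
  have hAdet : Am.det ≠ 0 := (Matrix.isUnits_det_units A).ne_zero
  have hadjAdet : (adj σ Am).det ≠ 0 := by
    rw [det_adj, Ne, map_eq_zero]
    exact hAdet
  set X := (adj σ Am)⁻¹ with hX
  have hX1 : adj σ Am * X = 1 := Matrix.mul_nonsing_inv _ (IsUnit.mk0 _ hadjAdet)
  have hX2 : X * adj σ Am = 1 := Matrix.nonsing_inv_mul _ (IsUnit.mk0 _ hadjAdet)
  constructor
  · rintro ⟨B, hB⟩
    obtain ⟨c, hc⟩ := isConj_iff.1 hB
    have hBU := (mem_GU_iff σ hσ (B : GL (Fin n) K)).1 B.2
    set cm := (c : Matrix (Fin n) (Fin n) K) with hcm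
    set Bm := ((B : GL (Fin n) K) : Matrix (Fin n) (Fin n) K) with hBm
    have hcA : cm * Am = Bm * cm := by
      have e : c * A = (B : GL (Fin n) K) * c := by
        rw [← hc]
        group
      exact congrArg Units.val e
    have hcdet : cm.det ≠ 0 := (Matrix.isUnits_det_units c).ne_zero
    have e1 : adj σ Am * adj σ cm = adj σ cm * adj σ Bm := by
      have e := congrArg (adj σ) hcA
      rw [adj_mul, adj_mul] at e
      exact e
    have e2 : adj σ cm * Bm = X * adj σ cm := by
      calc adj σ cm * Bm = (X * adj σ Am) * adj σ cm * Bm := by rw [hX2, Matrix.one_mul]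
        _ = X * (adj σ Am * adj σ cm) * Bm := by simp only [Matrix.mul_assoc]
        _ = X * adj σ cm * (adj σ Bm * Bm) := by rw [e1]; simp only [Matrix.mul_assoc]
        _ = X * adj σ cm := by rw [hBU, Matrix.mul_one]
    have hddet : (adj σ cm * cm).det ≠ 0 := by
      rw [Matrix.det_mul, det_adj]
      exact mul_ne_zero (by rw [Ne, map_eq_zero]; exact hcdet) hcdet
    refine ⟨Matrix.GeneralLinearGroup.mkOfDetNeZero (adj σ cm * cm) hddet, ?_⟩
    change adj σ cm * cm * Am = X * (adj σ cm * cm)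
    calc adj σ cm * cm * Am = adj σ cm * (cm * Am) := by rw [Matrix.mul_assoc]
      _ = adj σ cm * Bm * cm := by rw [hcA, Matrix.mul_assoc]
      _ = X * (adj σ cm * cm) := by rw [e2, Matrix.mul_assoc]
  · rintro ⟨d, hd⟩
    have hd' : (d : Matrix (Fin n) (Fin n) K) * Am = X * (d : Matrix (Fin n) (Fin n) K) := hd
    have hddet : (d : Matrix (Fin n) (Fin n) K).det ≠ 0 := (Matrix.isUnits_det_units d).ne_zero
    have hinv : adj σ Am * (d : Matrix (Fin n) (Fin n) K) * Am = (d : Matrix (Fin n) (Fin n) K) := by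
      rw [Matrix.mul_assoc, hd', ← Matrix.mul_assoc, hX1, Matrix.one_mul]
    obtain ⟨h, hh, hhdet, hhinv⟩ := exists_hermitian_invariant σ hσ2 hσne htr Am _ hAdet hddet hinv
    obtain ⟨P, Pi, hPPi, hPiP, hP⟩ := exists_adj_mul_self σ hσne hσ2 h hh hhdet
    set Ai := ((A⁻¹ : GL (Fin n) K) : Matrix (Fin n) (Fin n) K) with hAi
    have hAAi : Am * Ai = 1 := by rw [hAm, hAi, ← Units.val_mul, mul_inv_cancel, Units.val_one]
    have hAiA : Ai * Am = 1 := by rw [hAm, hAi, ← Units.val_mul, inv_mul_cancel, Units.val_one]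
    set PG : GL (Fin n) K := mkGL P Pi hPPi hPiP with hPG
    set BG : GL (Fin n) K := PG * A * PG⁻¹ with hBG
    have hBGval : (BG : Matrix (Fin n) (Fin n) K) = P * Am * Pi := rfl
    have hBU : BG ∈ Cfsg.GU n K q := by
      rw [mem_GU_iff σ hσ, hBGval, adj_mul, adj_mul]
      calc adj σ Pi * (adj σ Am * adj σ P) * (P * Am * Pi)
          = adj σ Pi * (adj σ Am * (adj σ P * P) * Am) * Pi := by simp only [Matrix.mul_assoc]
        _ = adj σ Pi * (adj σ P * P) * Pi := by rw [hP, hhinv]
        _ = (adj σ Pi * adj σ P) * (P * Pi) := by simp only [Matrix.mul_assoc]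
        _ = 1 := by rw [← adj_mul, hPPi, adj_one, Matrix.mul_one]
    refine ⟨⟨BG, hBU⟩, ?_⟩
    rw [isConj_iff]
    exact ⟨PG, rfl⟩

end Cfsg.Agent.S2588
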