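import Mathlib
import Cfsg.Statements.S2589
import Cfsg.Agent.Lib.Helper8.SpSSE

set_option autoImplicit false
open Cfsg

namespace Cfsg.Agent.S2589

/-- Two semisimple elements of the finite symplectic group Sp_2m(F) (elements of order prime to the characteristic) are conjugate in Sp_2m(F) if and only if they are conjugate in GL_2m(F). -/
theorem result {F : Type*} [Field F] [Fintype F] {p : ℕ} [Fact p.Prime] [CharP F p] {m : ℕ} (A B : Matrix.symplecticGroup (Fin m) F) (hA : (orderOf A).Coprime p) : IsConj A B ↔ IsConj (A : Matrix (Fin m ⊕ Fin m) (Fin m ⊕ Fin m) F) (B : Matrix (Fin m ⊕ Fin m) (Fin m ⊕ Fin m) F) := by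
  constructor
  · intro h
    exact MonoidHom.map_isConj (Matrix.symplecticGroup (Fin m) F).subtype h
  · intro h
    obtain ⟨c, hc⟩ := h
    have hc' : (c : Matrix (Fin m ⊕ Fin m) (Fin m ⊕ Fin m) F) *
        (A : Matrix (Fin m ⊕ Fin m) (Fin m ⊕ Fin m) F) =
        (B : Matrix (Fin m ⊕ Fin m) (Fin m ⊕ Fin m) F) *
          (c : Matrix (Fin m ⊕ Fin m) (Fin m ⊕ Fin m) F) := hc
    have hBeq : (B : Matrix (Fin m ⊕ Fin m) (Fin m ⊕ Fin m) F) =
        (c : Matrix (Fin m ⊕ Fin m) (Fin m ⊕ Fin m) F) *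
          (A : Matrix (Fin m ⊕ Fin m) (Fin m ⊕ Fin m) F) *
          ((c⁻¹ : (Matrix (Fin m ⊕ Fin m) (Fin m ⊕ Fin m) F)ˣ) :
            Matrix (Fin m ⊕ Fin m) (Fin m ⊕ Fin m) F) := by
      rw [hc', Matrix.mul_assoc, Units.mul_inv, Matrix.mul_one]
    have hcp : (A : Matrix (Fin m ⊕ Fin m) (Fin m ⊕ Fin m) F).charpoly =
        (B : Matrix (Fin m ⊕ Fin m) (Fin m ⊕ Fin m) F).charpoly := by
      rw [hBeq, Matrix.coe_units_inv, Matrix.charpoly_units_conj]
    have hAss := Cfsg.Agent.Lib.Helper8.SpSS.isSemisimple_of_orderOf_coprime p A hA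
    have hBpow : (B : Matrix (Fin m ⊕ Fin m) (Fin m ⊕ Fin m) F) ^ orderOf A = 1 := by
      have h1 : SemiconjBy (c : Matrix (Fin m ⊕ Fin m) (Fin m ⊕ Fin m) F)
          ((A : Matrix (Fin m ⊕ Fin m) (Fin m ⊕ Fin m) F) ^ orderOf A)
          ((B : Matrix (Fin m ⊕ Fin m) (Fin m ⊕ Fin m) F) ^ orderOf A) :=
        SemiconjBy.pow_right hc' (orderOf A)
      have h2 : (A : Matrix (Fin m ⊕ Fin m) (Fin m ⊕ Fin m) F) ^ orderOf A = 1 := by
        rw [← SubmonoidClass.coe_pow, pow_orderOf_eq_one]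
        rfl
      rw [h2] at h1
      have h3 : (c : Matrix (Fin m ⊕ Fin m) (Fin m ⊕ Fin m) F) =
          (B : Matrix (Fin m ⊕ Fin m) (Fin m ⊕ Fin m) F) ^ orderOf A *
            (c : Matrix (Fin m ⊕ Fin m) (Fin m ⊕ Fin m) F) := by
        have := h1.eq
        rw [Matrix.mul_one] at this
        exact this
      calc (B : Matrix (Fin m ⊕ Fin m) (Fin m ⊕ Fin m) F) ^ orderOf A
          = (B : Matrix (Fin m ⊕ Fin m) (Fin m ⊕ Fin m) F) ^ orderOf A *
            ((c : Matrix (Fin m ⊕ Fin m) (Fin m ⊕ Fin m) F) *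
              ((c⁻¹ : (Matrix (Fin m ⊕ Fin m) (Fin m ⊕ Fin m) F)ˣ) :
                Matrix (Fin m ⊕ Fin m) (Fin m ⊕ Fin m) F)) := by
            rw [Units.mul_inv, Matrix.mul_one]
        _ = ((B : Matrix (Fin m ⊕ Fin m) (Fin m ⊕ Fin m) F) ^ orderOf A *
            (c : Matrix (Fin m ⊕ Fin m) (Fin m ⊕ Fin m) F)) *
              ((c⁻¹ : (Matrix (Fin m ⊕ Fin m) (Fin m ⊕ Fin m) F)ˣ) :
                Matrix (Fin m ⊕ Fin m) (Fin m ⊕ Fin m) F) := by
            rw [Matrix.mul_assoc]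
        _ = 1 := by rw [← h3, Units.mul_inv]
    have hBss : Module.End.IsSemisimple
        (Matrix.toLin' (B : Matrix (Fin m ⊕ Fin m) (Fin m ⊕ Fin m) F)) :=
      Cfsg.Agent.H9.SemisimpleConj.isSemisimple_of_pow_eq_one _ (orderOf A)
        (Cfsg.Agent.Lib.Helper8.SpSS.natCast_ne_zero_of_coprime p _ hA) hBpow
    exact Cfsg.Agent.Lib.Helper8.SpSS.isConj_of_charpoly_eq A B hAss hBss hcp

end Cfsg.Agent.S2589
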