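import Mathlib
import Cfsg.Statements.S2590
import Cfsg.Agent.Lib.Helper8.OrSSF

set_option autoImplicit false
open Cfsg

namespace Cfsg.Agent.S2590

/-- Two semisimple elements of odd order of a finite orthogonal group (isometry group of a quadratic form on F^n with non-degenerate polar form, F finite of characteristic p; the elements have odd order prime to p) are conjugate in the orthogonal group if and only if they are conjugate in GL_n(F). -/
theorem result {F : Type*} [Field F] [Fintype F] {p : ℕ} [Fact p.Prime] [CharP F p] {n : ℕ} (Q : QuadraticForm F (Fin n → F)) (hQ : (QuadraticMap.polarBilin Q).Nondegenerate) (A B : ↥(Cfsg.isometryGroup F ⇑Q)) (hodd : Odd (orderOf A)) (hA : (orderOf A).Coprime p) : IsConj A B ↔ IsConj ((A : Matrix.GeneralLinearGroup (Fin n) F) : Matrix (Fin n) (Fin n) F) ((B : Matrix.GeneralLinearGroup (Fin n) F) : Matrix (Fin n) (Fin n) F) := by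
  constructor
  · intro h
    exact MonoidHom.map_isConj
      ((Units.coeHom (Matrix (Fin n) (Fin n) F)).comp (Subgroup.subtype (Cfsg.isometryGroup F ⇑Q))) h
  · intro h
    obtain ⟨c, hc⟩ := h
    have hk : ((orderOf A : ℕ) : F) ≠ 0 := by
      intro h0
      rw [CharP.cast_eq_zero_iff F p] at h0
      have := Nat.Coprime.eq_one_of_dvd hA.symm h0
      exact (Fact.out : p.Prime).one_lt.ne' this
    exact Cfsg.Agent.Lib.Helper8.OrSS.isConj_of_matrix_conj Q hQ A B hodd hk c hc

end Cfsg.Agent.S2590
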