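import Mathlib
import Cfsg.Statements.S2591
import Cfsg.Agent.Lib.Helper8.RegUnipF

set_option autoImplicit false
open Cfsg

namespace Cfsg.Agent.S2591

open Module Matrix Cfsg.Agent.Lib.Helper8.RegUnip Cfsg.Agent.H9.SympForm Cfsg.Agent.Lib.Helper5.Symp

/-- Over a finite field of odd order and for m ≥ 1, the regular unipotent elements of Sp_2m(F) (u − 1 nilpotent of rank 2m − 1, a single Jordan block) form exactly two conjugacy classes of Sp_2m(F) (one class under the similarity group, which splits in two). -/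
theorem result {F : Type*} [Field F] [Fintype F] {q : ℕ} (hF : Fintype.card F = q) (hq : Odd q) {m : ℕ} (hm : 1 ≤ m) : Nat.card {C : ConjClasses ↥(Matrix.symplecticGroup (Fin m) F) // ∃ u : Matrix.symplecticGroup (Fin m) F, ConjClasses.mk u = C ∧ ((u : Matrix (Fin m ⊕ Fin m) (Fin m ⊕ Fin m) F) - 1) ^ (2 * m) = 0 ∧ ((u : Matrix (Fin m ⊕ Fin m) (Fin m ⊕ Fin m) F) - 1).rank = 2 * m - 1} = 2 := by
  have hq2 : (2 : F) ≠ 0 := by
    intro h2
    have hc : ringChar F = 2 := by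
      have h3 : ((2 : ℕ) : F) = 0 := by exact_mod_cast h2
      have h4 := (ringChar.spec F 2).1 h3
      have hne : ringChar F ≠ 1 := by
        intro h1
        have h5 : ((1 : ℕ) : F) = 0 := (ringChar.spec F 1).2 (by rw [h1])
        simp at h5
      exact ((Nat.dvd_prime Nat.prime_two).1 h4).resolve_left hne
    haveI : CharP F 2 := by rw [← hc]; exact ringChar.charP F
    obtain ⟨k, hk0, hk⟩ := FiniteField.card F 2
    rw [hF] at hk
    have : Even q := by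
      rw [hk]
      exact (Nat.even_pow' (by exact_mod_cast (PNat.ne_zero k))).2 even_two
    exact (Nat.not_even_iff_odd.2 hq) this
  obtain ⟨g0, g1, hg0, hg1, hs0, hs1⟩ := exists_two hq2 hm
  obtain ⟨hn0, hr0⟩ := matrix_of_isRUI hm g0 hg0
  obtain ⟨hn1, hr1⟩ := matrix_of_isRUI hm g1 hg1
  obtain ⟨u0, hu0⟩ : ∃ u0 : Matrix.symplecticGroup (Fin m) F,
      (u0 : Matrix (Fin m ⊕ Fin m) (Fin m ⊕ Fin m) F) = LinearMap.toMatrix' g0 :=
    ⟨⟨LinearMap.toMatrix' g0, mem_symplectic_of_isometry g0 hg0.1⟩, rfl⟩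
  obtain ⟨u1, hu1⟩ : ∃ u1 : Matrix.symplecticGroup (Fin m) F,
      (u1 : Matrix (Fin m ⊕ Fin m) (Fin m ⊕ Fin m) F) = LinearMap.toMatrix' g1 :=
    ⟨⟨LinearMap.toMatrix' g1, mem_symplectic_of_isometry g1 hg1.1⟩, rfl⟩
  have hL0 : (u0 : Matrix (Fin m ⊕ Fin m) (Fin m ⊕ Fin m) F).mulVecLin = g0 := by
    rw [hu0]; exact mulVecLin_toMatrix' g0
  have hL1 : (u1 : Matrix (Fin m ⊕ Fin m) (Fin m ⊕ Fin m) F).mulVecLin = g1 := by
    rw [hu1]; exact mulVecLin_toMatrix' g1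
  rw [← hu0] at hn0 hr0
  rw [← hu1] at hn1 hr1
  rw [Nat.card_eq_two_iff]
  refine ⟨⟨ConjClasses.mk u0, u0, rfl, hn0, hr0⟩, ⟨ConjClasses.mk u1, u1, rfl, hn1, hr1⟩, ?_, ?_⟩
  · intro h
    have h1 := congrArg Subtype.val h
    simp only at h1
    rw [ConjClasses.mk_eq_mk_iff_isConj] at h1
    obtain ⟨c, hc, hcc⟩ := semiconj_of_isConj u0 u1 h1
    rw [hL0, hL1] at hcc
    exact hs1 (sqInv_conj g0 g1 c hc hcc hs0)
  · rw [Set.eq_univ_iff_forall]
    rintro ⟨C, u, rfl, hnu, hru⟩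
    have hu := isRUI_of_matrix (u : Matrix (Fin m ⊕ Fin m) (Fin m ⊕ Fin m) F) u.2 hnu hru
    by_cases hs : sqInv m (u : Matrix (Fin m ⊕ Fin m) (Fin m ⊕ Fin m) F).mulVecLin
    · obtain ⟨h, hh, hc⟩ := exists_conj_of_sqInv_iff hq2 hm _ g0 hu hg0 (iff_of_true hs hs0)
      rw [← hL0] at hc
      have := isConj_of_semiconj u u0 h hh hc
      left
      apply Subtype.ext
      exact ConjClasses.mk_eq_mk_iff_isConj.2 this
    · obtain ⟨h, hh, hc⟩ := exists_conj_of_sqInv_iff hq2 hm _ g1 hu hg1 (iff_of_false hs hs1)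
      rw [← hL1] at hc
      have := isConj_of_semiconj u u1 h hh hc
      right
      apply Subtype.ext
      exact ConjClasses.mk_eq_mk_iff_isConj.2 this

end Cfsg.Agent.S2591
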