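import Mathlib
import Cfsg.Statements.S2592
import Cfsg.Agent.Lib.Helper8.RegUnipB
import Cfsg.Agent.H9.SympForm
import Cfsg.Agent.Lib.Helper5.Symp

set_option autoImplicit false
open Cfsg

namespace Cfsg.Agent.S2592

open Module Matrix Cfsg.Agent.Lib.Helper8.RegUnip Cfsg.Agent.H9.SympForm Cfsg.Agent.Lib.Helper5.Symp

/-- Over a finite field with q elements, q odd, the centraliser in Sp_2m(F) (m ≥ 1) of a regular unipotent element (u − 1 nilpotent of rank 2m − 1) has order 2 q^m. -/
theorem result {F : Type*} [Field F] [Fintype F] {q : ℕ} (hF : Fintype.card F = q) (hq : Odd q) {m : ℕ} (hm : 1 ≤ m) (u : Matrix.symplecticGroup (Fin m) F) (hnil : ((u : Matrix (Fin m ⊕ Fin m) (Fin m ⊕ Fin m) F) - 1) ^ (2 * m) = 0) (hreg : ((u : Matrix (Fin m ⊕ Fin m) (Fin m ⊕ Fin m) F) - 1).rank = 2 * m - 1) : Nat.card ↥(Subgroup.centralizer ({u} : Set ↥(Matrix.symplecticGroup (Fin m) F))) = 2 * q ^ m := by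
  have hq2 : (2 : F) ≠ 0 := by
    intro h2
    have hc : ringChar F = 2 := by
      have h3 : ((2 : ℕ) : F) = 0 := by exact_mod_cast h2
      have h4 := (ringChar.spec F 2).1 h3
      have hne : ringChar F ≠ 1 := by
        intro h1
        have h5 : ((1 : ℕ) : F) = 0 := (ringChar.spec F 1).2 (by rw [h1])
        simp at h5
      exact ((Nat.dvd_prime Nat.prime_two).1 h4).resolve_left hne
    haveI : CharP F 2 := by rw [← hc]; exact ringChar.charP F
    obtain ⟨k, hk0, hk⟩ := FiniteField.card F 2
    rw [hF] at hk
    have : Even q := by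
      rw [hk]
      exact (Nat.even_pow' (by exact_mod_cast (PNat.ne_zero k))).2 even_two
    exact (Nat.not_even_iff_odd.2 hq) this
  set A : Matrix (Fin m ⊕ Fin m) (Fin m ⊕ Fin m) F :=
    (u : Matrix (Fin m ⊕ Fin m) (Fin m ⊕ Fin m) F) with hA
  have hV : finrank F (Fin m ⊕ Fin m → F) = 2 * m := by
    rw [finrank_fintype_fun_eq_card, Fintype.card_sum, Fintype.card_fin, two_mul]
  have hsub : A.mulVecLin - 1 = (A - 1).mulVecLin := by
    apply LinearMap.ext
    intro v
    rw [LinearMap.sub_apply, Module.End.one_apply, Matrix.mulVecLin_apply, Matrix.mulVecLin_apply,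
      Matrix.sub_mulVec, Matrix.one_mulVec]
  have hpow : ∀ k : ℕ, ((A - 1) ^ k).mulVecLin = (A - 1).mulVecLin ^ k :=
    fun k => Matrix.toLin'_pow (A - 1) k
  have key := card_centralizer_isometry (F := F) A.mulVecLin hq2 hm hV (sympB m F)
    (by
      intro w hw
      by_contra hne
      obtain ⟨v, hv⟩ := sympB_nondeg m F w hne
      apply hv
      have h1 := hw v
      have h3 : sympB m F w v = - sympB m F v w := by
        have h4 := sympB_self m F (w + v)
        simp only [map_add, LinearMap.add_apply, sympB_self] at h4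
        linear_combination h4
      rw [h3, h1, neg_zero])
    (fun x y => sympB_mulVec m F u.2 x y)
    (by rw [hsub, ← hpow, hnil]; simp)
    (by
      rw [hsub]
      have h := LinearMap.finrank_range_add_finrank_ker (A - 1).mulVecLin
      rw [hV] at h
      have h2 : finrank F (LinearMap.range (A - 1).mulVecLin) = 2 * m - 1 := hreg
      omega)
  rw [hF] at key
  rw [← key]
  apply Nat.card_congr
  exact
    { toFun := fun a => ⟨((a.1 : ↥(Matrix.symplecticGroup (Fin m) F)) :
          Matrix (Fin m ⊕ Fin m) (Fin m ⊕ Fin m) F).mulVecLin, by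
        have h1 := Subgroup.mem_centralizer_singleton_iff.1 a.2
        have h3 := congrArg (fun z : ↥(Matrix.symplecticGroup (Fin m) F) =>
          (z : Matrix (Fin m ⊕ Fin m) (Fin m ⊕ Fin m) F)) h1
        simp only [Submonoid.coe_mul] at h3
        apply LinearMap.ext
        intro x
        simp only [Module.End.mul_apply, Matrix.mulVecLin_apply, Matrix.mulVec_mulVec]
        rw [h3], fun x y => sympB_mulVec m F a.1.2 x y⟩
      invFun := fun c => ⟨⟨LinearMap.toMatrix' c.1, by
          apply mem_of_sympForm
          intro x y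
          rw [← sympB_apply, ← sympB_apply]
          have := c.2.2 x y
          rw [← Matrix.toLin'_apply, ← Matrix.toLin'_apply, Matrix.toLin'_toMatrix']
          exact this⟩, by
        rw [Subgroup.mem_centralizer_singleton_iff]
        apply Subtype.ext
        rw [Submonoid.coe_mul, Submonoid.coe_mul]
        show LinearMap.toMatrix' c.1 * A = A * LinearMap.toMatrix' c.1
        have h6 : LinearMap.toMatrix' A.mulVecLin = A := LinearMap.toMatrix'_toLin' A
        have h5 := congrArg LinearMap.toMatrix' c.2.1.eq
        rw [LinearMap.toMatrix'_mul, LinearMap.toMatrix'_mul, h6] at h5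
        exact h5⟩
      left_inv := fun a => by
        apply Subtype.ext
        apply Subtype.ext
        exact LinearMap.toMatrix'_toLin' _
      right_inv := fun c => by
        apply Subtype.ext
        exact Matrix.toLin'_toMatrix' _ }

end Cfsg.Agent.S2592
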