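import Mathlib
import Cfsg.Statements.S2596
import Cfsg.Agent.Lib.Helper8.MinusReps

set_option autoImplicit false
open Cfsg

namespace Cfsg.Agent.S2596

open Matrix Cfsg.Agent.H9.Orth Cfsg.Agent.Lib.Helper8.SpInv Cfsg.Agent.Lib.Helper8.RefProd
  Cfsg.Agent.Lib.Helper8.MinusReps Cfsg.Agent.Lib.Helper5.OrthPar

section Count

variable {F : Type*} [Field F] (k : ℕ) (a b : F)

/-- the rank attached to an index -/
def rkM (k : ℕ) : Fin (k + 1) ⊕ Fin (k / 2) → ℕ
  | Sum.inl i => (i : ℕ) + 1
  | Sum.inr j => 2 * ((j : ℕ) + 1)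

theorem rkM_le (x : Fin (k + 1) ⊕ Fin (k / 2)) : rkM k x ≤ k + 1 := by
  rcases x with i | j
  · have := i.2
    simp only [rkM]
    omega
  · have := j.2
    simp only [rkM]
    omega

/-- the representatives -/
noncomputable def RM (hQ : Cfsg.Geo.IsNondegenerateQuadraticForm (Cfsg.quadFormMinus k F a b))
    (h2 : (2 : F) = 0) :
    Fin (k + 1) ⊕ Fin (k / 2) → ↥(Cfsg.isometryGroup F (Cfsg.quadFormMinus k F a b))
  | Sum.inl i => PO hQ (xv F k) ((i : ℕ) + 1)
  | Sum.inr j => repB F k (2 * ((j : ℕ) + 1)) a b h2 (by have := j.2; omega)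
      ⟨(j : ℕ) + 1, by ring⟩

variable (hQ : Cfsg.Geo.IsNondegenerateQuadraticForm (Cfsg.quadFormMinus k F a b))

theorem rank_RM (h2 : (2 : F) = 0) (x : Fin (k + 1) ⊕ Fin (k / 2)) :
    ((((RM k a b hQ h2 x : ↥(Cfsg.isometryGroup F (Cfsg.quadFormMinus k F a b))) :
      GL (I k) F) : Matrix (I k) (I k) F) - 1).rank = rkM k x := by
  rcases x with i | j
  · exact rank_PO hQ (xv F k) (k + 1) (fun i _ => by rw [Q_xv]; exact one_ne_zero)
      (xv_li k) _ (by have := i.2; omega)
  · exact rank_repB k a b h2 (by have := j.2; omega) ⟨(j : ℕ) + 1, by ring⟩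

theorem orderOf_RM (h2 : (2 : F) = 0) (x : Fin (k + 1) ⊕ Fin (k / 2)) :
    orderOf (RM k a b hQ h2 x) = 2 := by
  rcases x with i | j
  · exact orderOf_PO hQ (xv F k) (k + 1) (fun i _ => by rw [Q_xv]; exact one_ne_zero)
      (xv_li k) (fun i _ j _ hij => xv_orth k a b h2 i j hij) _ (by have := i.2; omega)
      (by omega)
  · exact orderOf_repB k a b h2 (by have := j.2; omega) ⟨(j : ℕ) + 1, by ring⟩ (by omega)

theorem type_RM [CharP F 2] (h2 : (2 : F) = 0) (x : Fin (k + 1) ⊕ Fin (k / 2)) :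
    IsAltQ (Cfsg.quadFormMinus k F a b) (RM k a b hQ h2 x) ↔ x.isRight = true := by
  rcases x with i | j
  · simp only [Sum.isRight_inl, Bool.false_eq_true, iff_false]
    exact PO_nonalt hQ (xv F k) (k + 1) (fun i _ => by rw [Q_xv]; exact one_ne_zero)
      (xv_li k) _ (by have := i.2; omega) (by omega)
  · simp only [Sum.isRight_inr, iff_true]
    exact repB_alt k a b h2 (by have := j.2; omega) ⟨(j : ℕ) + 1, by ring⟩

theorem count [Fintype F] [CharP F 2]
    (hab : ∀ z₁ z₂ : F, z₁ ^ 2 + a * z₁ * z₂ + b * z₂ ^ 2 = 0 → z₁ = 0 ∧ z₂ = 0) :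
    Nat.card {C : ConjClasses ↥(Cfsg.isometryGroup F (Cfsg.quadFormMinus k F a b)) //
      ∃ g : ↥(Cfsg.isometryGroup F (Cfsg.quadFormMinus k F a b)),
        ConjClasses.mk g = C ∧ orderOf g = 2} = (k + 1) + k / 2 := by
  have h2 : (2 : F) = 0 := CharTwo.two_eq_zero
  have hQ := isNondeg_quadFormMinus (F := F) k a b hab
  have hbij : Function.Bijective (fun x : Fin (k + 1) ⊕ Fin (k / 2) =>
      (⟨ConjClasses.mk (RM k a b hQ h2 x), RM k a b hQ h2 x, rfl, orderOf_RM k a b hQ h2 x⟩ :
        {C : ConjClasses ↥(Cfsg.isometryGroup F (Cfsg.quadFormMinus k F a b)) //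
          ∃ g : ↥(Cfsg.isometryGroup F (Cfsg.quadFormMinus k F a b)),
            ConjClasses.mk g = C ∧ orderOf g = 2})) := by
    constructor
    · intro x y hxy
      have h1 : ConjClasses.mk (RM k a b hQ h2 x) = ConjClasses.mk (RM k a b hQ h2 y) :=
        congrArg Subtype.val hxy
      rw [ConjClasses.mk_eq_mk_iff_isConj] at h1
      have h3 := rank_of_isConj_Q _ _ h1
      rw [rank_RM, rank_RM] at h3
      have h4 := type_of_isConj_Q _ _ h1
      rw [type_RM k a b hQ h2, type_RM k a b hQ h2] at h4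
      rcases x with i | i <;> rcases y with j | j
      · simp only [rkM] at h3
        congr 1
        apply Fin.ext
        omega
      · simp at h4
      · simp at h4
      · simp only [rkM] at h3
        congr 1
        apply Fin.ext
        omega
    · rintro ⟨C, g, hg, ho⟩
      have hg1 : g ≠ 1 := by
        intro h
        rw [h, orderOf_one] at ho
        omega
      have hr1 := rank_pos_Q g hg1
      have hr2 := two_rank_le_Q hQ g ho
      rw [Fintype.card_sum, Fintype.card_sum, Fintype.card_fin, Fintype.card_fin] at hr2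
      by_cases halt : IsAltQ (Cfsg.quadFormMinus k F a b) g
      · obtain ⟨l, hl⟩ := even_rank_of_alt_Q hQ g ho halt
        have hts := imS_ts_of_alt g ((isAltQ_iff _).1 halt)
        have hle := Cfsg.Agent.Lib.Helper8.MinusTS.no_ts k a b hab _ hts
        rw [← rank_eq] at hle
        have hx : rkM k (Sum.inr ⟨l - 1, by omega⟩ : Fin (k + 1) ⊕ Fin (k / 2)) =
            (((g : GL (I k) F) : Matrix (I k) (I k) F) - 1).rank := by
          simp only [rkM]
          omega
        refine ⟨Sum.inr ⟨l - 1, by omega⟩, ?_⟩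
        apply Subtype.ext
        show ConjClasses.mk (RM k a b hQ h2 _) = C
        rw [← hg, ConjClasses.mk_eq_mk_iff_isConj]
        apply conj_of_type_Q hQ _ _ (orderOf_RM k a b hQ h2 _) ho
        · rw [rank_RM, hx]
        · rw [type_RM k a b hQ h2]
          simp [halt]
      · have hx : rkM k (Sum.inl ⟨(((g : GL (I k) F) : Matrix (I k) (I k) F) - 1).rank - 1,
            by omega⟩ : Fin (k + 1) ⊕ Fin (k / 2)) =
            (((g : GL (I k) F) : Matrix (I k) (I k) F) - 1).rank := by
          simp only [rkM]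
          omega
        refine ⟨Sum.inl ⟨(((g : GL (I k) F) : Matrix (I k) (I k) F) - 1).rank - 1,
          by omega⟩, ?_⟩
        apply Subtype.ext
        show ConjClasses.mk (RM k a b hQ h2 _) = C
        rw [← hg, ConjClasses.mk_eq_mk_iff_isConj]
        apply conj_of_type_Q hQ _ _ (orderOf_RM k a b hQ h2 _) ho
        · rw [rank_RM, hx]
        · rw [type_RM k a b hQ h2]
          simp [halt]
  rw [← Nat.card_congr (Equiv.ofBijective _ hbij), Nat.card_eq_fintype_card, Fintype.card_sum,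
    Fintype.card_fin, Fintype.card_fin]

end Count

/-- Number of conjugacy classes of involutions in the full orthogonal group O⁻_2m(F) of an elliptic quadratic form (Σ_(i<m−1) x_i y_i plus an anisotropic binary form) over a finite field of characteristic two (m ≥ 1): one class for each odd s ≤ m, two for each even s with 2 ≤ s < m and one for s = m when m is even, where s = rank(t − 1); in all m + ⌊(m − 1)/2⌋. -/
theorem result {F : Type*} [Field F] [Fintype F] [CharP F 2] {m : ℕ} (hm : 1 ≤ m) (a b : F) (hab : ∀ z₁ z₂ : F, z₁ ^ 2 + a * z₁ * z₂ + b * z₂ ^ 2 = 0 → z₁ = 0 ∧ z₂ = 0) : Nat.card {C : ConjClasses ↥(Cfsg.isometryGroup F (Cfsg.quadFormMinus (m - 1) F a b)) // ∃ g : ↥(Cfsg.isometryGroup F (Cfsg.quadFormMinus (m - 1) F a b)), ConjClasses.mk g = C ∧ orderOf g = 2} = m + (m - 1) / 2 := by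
  obtain ⟨k, rfl⟩ : ∃ k, m = k + 1 := ⟨m - 1, by omega⟩
  have := count (F := F) k a b hab
  simpa using this

end Cfsg.Agent.S2596
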