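import Mathlib
import Cfsg.Statements.S2598
import Cfsg.Agent.Lib.Helper8.OmegaGen
import Cfsg.Agent.S2596

set_option autoImplicit false
open Cfsg

namespace Cfsg.Agent.S2598

open Matrix Cfsg.Agent.H9.Orth Cfsg.Agent.Lib.Helper8.SpInv Cfsg.Agent.Lib.Helper8.RefProd
  Cfsg.Agent.Lib.Helper8.MinusReps Cfsg.Agent.Lib.Helper5.OrthPar Cfsg.Agent.S2596
  Cfsg.Agent.Lib.Helper8.OmegaInv Cfsg.Agent.Lib.Helper8.OmegaGen

section Count

variable {F : Type*} [Field F] (k : ℕ) (a b : F)

/-- the even-rank indices among those of `S2596` -/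
def emb (k : ℕ) : Fin ((k + 1) / 2) ⊕ Fin (k / 2) → Fin (k + 1) ⊕ Fin (k / 2)
  | Sum.inl j => Sum.inl ⟨2 * (j : ℕ) + 1, by have := j.2; omega⟩
  | Sum.inr j => Sum.inr j

theorem rkM_emb_even (x : Fin ((k + 1) / 2) ⊕ Fin (k / 2)) : Even (rkM k (emb k x)) := by
  rcases x with j | j
  · exact ⟨(j : ℕ) + 1, by simp only [emb, rkM]; ring⟩
  · exact ⟨(j : ℕ) + 1, by simp only [emb, rkM]; ring⟩

theorem emb_isRight (x : Fin ((k + 1) / 2) ⊕ Fin (k / 2)) : (emb k x).isRight = x.isRight := by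
  rcases x with j | j <;> rfl

theorem count' [Fintype F] [CharP F 2]
    (hab : ∀ z₁ z₂ : F, z₁ ^ 2 + a * z₁ * z₂ + b * z₂ ^ 2 = 0 → z₁ = 0 ∧ z₂ = 0)
    (hgen : Cfsg.isometryGroup F (Cfsg.quadFormMinus k F a b) ≤
      RR (isNondeg_quadFormMinus (F := F) k a b hab))
    (hΩ : ∀ t : ↥(Cfsg.isometryGroup F (Cfsg.quadFormMinus k F a b)),
      t ∈ Cfsg.Omega F (Cfsg.quadFormMinus k F a b) ↔ par (t : GL (I k) F)) :
    Nat.card {C : ConjClasses ↥(Cfsg.Omega F (Cfsg.quadFormMinus k F a b)) //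
      ∃ g : ↥(Cfsg.Omega F (Cfsg.quadFormMinus k F a b)),
        ConjClasses.mk g = C ∧ orderOf g = 2} = (k + 1) / 2 + k / 2 := by
  have h2 : (2 : F) = 0 := CharTwo.two_eq_zero
  have hQ := isNondeg_quadFormMinus (F := F) k a b hab
  have hcard : Fintype.card (I k) = 2 * k + 2 := by
    rw [Fintype.card_sum, Fintype.card_sum, Fintype.card_fin, Fintype.card_fin]; ring
  have hmem : ∀ x : Fin ((k + 1) / 2) ⊕ Fin (k / 2),
      RM k a b hQ h2 (emb k x) ∈ Cfsg.Omega F (Cfsg.quadFormMinus k F a b) := by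
    intro x
    rw [hΩ]
    unfold par
    rw [rank_RM]
    exact rkM_emb_even k x
  have hco : ∀ x y : Fin ((k + 1) / 2) ⊕ Fin (k / 2),
      IsConj (⟨RM k a b hQ h2 (emb k x), hmem x⟩ : ↥(Cfsg.Omega F (Cfsg.quadFormMinus k F a b)))
      ⟨RM k a b hQ h2 (emb k y), hmem y⟩ → ∃ g ∈ Cfsg.Omega F (Cfsg.quadFormMinus k F a b),
        g * RM k a b hQ h2 (emb k x) * g⁻¹ = RM k a b hQ h2 (emb k y) :=
    fun x y h => (isConj_omega_iff
      (⟨RM k a b hQ h2 (emb k x), hmem x⟩ : ↥(Cfsg.Omega F (Cfsg.quadFormMinus k F a b)))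
      ⟨RM k a b hQ h2 (emb k y), hmem y⟩).1 h
  have hco' : ∀ (x : Fin ((k + 1) / 2) ⊕ Fin (k / 2))
      (g : ↥(Cfsg.Omega F (Cfsg.quadFormMinus k F a b))),
      (∃ c ∈ Cfsg.Omega F (Cfsg.quadFormMinus k F a b), c * RM k a b hQ h2 (emb k x) * c⁻¹ =
        (g : ↥(Cfsg.isometryGroup F (Cfsg.quadFormMinus k F a b)))) →
      IsConj (⟨RM k a b hQ h2 (emb k x), hmem x⟩ :
        ↥(Cfsg.Omega F (Cfsg.quadFormMinus k F a b))) g :=
    fun x g h => (isConj_omega_iff
      (⟨RM k a b hQ h2 (emb k x), hmem x⟩ : ↥(Cfsg.Omega F (Cfsg.quadFormMinus k F a b))) g).2 h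
  have key := card_classes_of_reps (H := ↥(Cfsg.Omega F (Cfsg.quadFormMinus k F a b)))
    (fun x : Fin ((k + 1) / 2) ⊕ Fin (k / 2) => ⟨RM k a b hQ h2 (emb k x), hmem x⟩) ?_ ?_ ?_
  · rw [key, Fintype.card_sum, Fintype.card_fin, Fintype.card_fin]
  · intro x
    rw [← Subgroup.orderOf_coe]
    exact orderOf_RM k a b hQ h2 _
  · intro x y hxy
    obtain ⟨g, -, hg⟩ := hco x y hxy
    have hO : IsConj (RM k a b hQ h2 (emb k x)) (RM k a b hQ h2 (emb k y)) :=
      isConj_iff.2 ⟨g, hg⟩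
    have h3 := rank_of_isConj_Q _ _ hO
    rw [rank_RM, rank_RM] at h3
    have h4 := type_of_isConj_Q _ _ hO
    rw [type_RM k a b hQ h2, type_RM k a b hQ h2, emb_isRight, emb_isRight] at h4
    rcases x with i | i <;> rcases y with j | j
    · simp only [emb, rkM] at h3
      congr 1
      apply Fin.ext
      omega
    · simp at h4
    · simp at h4
    · simp only [emb, rkM] at h3
      congr 1
      apply Fin.ext
      omega
  · intro g ho
    rw [← Subgroup.orderOf_coe] at ho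
    have hg1 : (g : ↥(Cfsg.isometryGroup F (Cfsg.quadFormMinus k F a b))) ≠ 1 := by
      intro h
      rw [h, orderOf_one] at ho
      omega
    have hr1 := rank_pos_Q _ hg1
    have hr2 := two_rank_le_Q hQ _ ho
    rw [hcard] at hr2
    obtain ⟨l, hl⟩ : Even ((((g : ↥(Cfsg.isometryGroup F (Cfsg.quadFormMinus k F a b))) :
        GL (I k) F) : Matrix (I k) (I k) F) - 1).rank := (hΩ _).1 g.2
    by_cases halt : IsAltQ (Cfsg.quadFormMinus k F a b)
        (g : ↥(Cfsg.isometryGroup F (Cfsg.quadFormMinus k F a b)))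
    · have hts := imS_ts_of_alt _ ((isAltQ_iff _).1 halt)
      have hle := Cfsg.Agent.Lib.Helper8.MinusTS.no_ts k a b hab _ hts
      rw [← rank_eq] at hle
      have hlt : l - 1 < k / 2 := by omega
      refine ⟨Sum.inr ⟨l - 1, hlt⟩, ?_⟩
      apply hco'
      apply omega_conj_of_type hQ hgen hΩ _ _ (orderOf_RM k a b hQ h2 _) ho
      · rw [rank_RM]
        simp only [emb, rkM]
        omega
      · rw [type_RM k a b hQ h2, emb_isRight]
        simp [halt]
      · right
        rw [rank_RM, hcard]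
        simp only [emb, rkM]
        omega
    · have hlt : l - 1 < (k + 1) / 2 := by omega
      refine ⟨Sum.inl ⟨l - 1, hlt⟩, ?_⟩
      apply hco'
      apply omega_conj_of_type hQ hgen hΩ _ _ (orderOf_RM k a b hQ h2 _) ho
      · rw [rank_RM]
        simp only [emb, rkM]
        omega
      · rw [type_RM k a b hQ h2, emb_isRight]
        simp [halt]
      · left
        rw [type_RM k a b hQ h2, emb_isRight]
        simp

end Count

/-- Number of conjugacy classes of involutions in Ω⁻_2m(F) (the commutator subgroup of the orthogonal group of an elliptic quadratic form, Σ_(i<m−1) x_i y_i plus an anisotropic binary form) over a finite field F of characteristic two, m ≥ 1: the involutions of Ω are those with s = rank(t − 1) even, one O-class for each even s with 2 ≤ s ≤ m on which v ↦ f(v, tv) is not identically zero and one for each even s with 2 ≤ s < m on which it is zero (f the polar form; in characteristic 2, f(v, tv) = Q(v + tv)), none of which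 splits in Ω; in all ⌊m/2⌋ + ⌊(m − 1)/2⌋. -/
theorem result {F : Type*} [Field F] [Fintype F] [CharP F 2] {m : ℕ} (hm : 1 ≤ m) (a b : F) (hab : ∀ z₁ z₂ : F, z₁ ^ 2 + a * z₁ * z₂ + b * z₂ ^ 2 = 0 → z₁ = 0 ∧ z₂ = 0) : Nat.card {C : ConjClasses ↥(Cfsg.Omega F (Cfsg.quadFormMinus (m - 1) F a b)) // ∃ g : ↥(Cfsg.Omega F (Cfsg.quadFormMinus (m - 1) F a b)), ConjClasses.mk g = C ∧ orderOf g = 2} = m / 2 + (m - 1) / 2 := by
  obtain ⟨k, rfl⟩ : ∃ k, m = k + 1 := ⟨m - 1, by omega⟩
  have hQ := isNondeg_quadFormMinus (F := F) k a b hab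
  have hcard : Fintype.card (I k) = 2 * k + 2 := by
    rw [Fintype.card_sum, Fintype.card_sum, Fintype.card_fin, Fintype.card_fin]; ring
  have key : Nat.card {C : ConjClasses ↥(Cfsg.Omega F (Cfsg.quadFormMinus k F a b)) //
      ∃ g : ↥(Cfsg.Omega F (Cfsg.quadFormMinus k F a b)),
        ConjClasses.mk g = C ∧ orderOf g = 2} = (k + 1) / 2 + k / 2 := by
    by_cases h : Fintype.card F ≠ 2 ∨ Fintype.card (I k) ≠ 4
    · exact count' k a b hab (iso_le_RR hQ h) (fun t => mem_omega_iff_even_all hQ h t)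
    · push Not at h
      obtain ⟨hF, h4⟩ := h
      have hk : k = 1 := by
        rw [hcard] at h4
        omega
      subst hk
      have hW : ∀ U : Submodule F (I 1 → F),
          Cfsg.Geo.IsTotallySingularQuad (Cfsg.quadFormMinus 1 F a b) U →
          Module.finrank F U ≤ 1 :=
        fun U hU => Cfsg.Agent.Lib.Helper8.MinusTS.no_ts 1 a b hab U hU
      have hgen := iso_le_RR_w1 hQ hW
      exact count' 1 a b hab hgen
        (fun t => mem_omega_iff_even' hQ hgen (hasNP_w1 hQ hF hW) t)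
  simpa using key

end Cfsg.Agent.S2598
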