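import Cfsg.Statements.S2599
import Mathlib

set_option autoImplicit false
open scoped Pointwise
open Cfsg Matrix

namespace Cfsg.Agent.S2599

theorem result {F : Type*} [Field F] [Fintype F] {p : ℕ} [Fact p.Prime] [CharP F p] {n : ℕ} (Q : QuadraticForm F (Fin n → F)) (hQ : (QuadraticMap.polarBilin Q).Nondegenerate) (x : ↥(Cfsg.isometryGroup F ⇑Q)) (hx : (orderOf x).Coprime p) (U : Submodule F (Fin n → F)) (hU0 : U ≠ ⊥) (hUx : ∀ u ∈ U, ((x : Matrix.GeneralLinearGroup (Fin n) F) : Matrix (Fin n) (Fin n) F).mulVec u ∈ U) (hirr : ∀ W : Submodule F (Fin n → F), W ≤ U → (∀ w ∈ W, ((x : Matrix.GeneralLinearGroup (Fin n) F) : Matrix (Fin n) (Fin n) F).mulVec w ∈ W) → W = ⊥ ∨ W = U) : U ⊓ LinearMap.BilinForm.orthogonal (QuadraticMap.polarBilin Q) U = ⊥ ∨ (∀ u ∈ U, Q u = 0) ∨ (p = 2 ∧ Module.finrank F U = 1 ∧ (∃ u ∈ U, Q u ≠ 0) ∧ ∀ u ∈ U, ((x : Matrix.GeneralLinearGroup (Fin n) F) : Matrix (Fin n) (Fin n) F).mulVec u = u) := by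
  classical
  obtain ⟨X, hXdef⟩ : ∃ X : Matrix (Fin n) (Fin n) F,
      X = ((x : Matrix.GeneralLinearGroup (Fin n) F) : Matrix (Fin n) (Fin n) F) := ⟨_, rfl⟩
  rw [← hXdef] at hUx hirr ⊢
  have hXQ : ∀ v, Q (X *ᵥ v) = Q v := by
    intro v
    rw [hXdef]
    exact x.2 v v
  set f := QuadraticMap.polarBilin Q with hf
  have hfX : ∀ u v, f (X *ᵥ u) (X *ᵥ v) = f u v := by
    intro u v
    simp only [hf, QuadraticMap.polarBilin_apply_apply, QuadraticMap.polar]
    rw [← Matrix.mulVec_add, hXQ, hXQ, hXQ]
  have hXinj : Function.Injective (fun v => X *ᵥ v) := by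
    have hu : IsUnit X := by
      rw [hXdef]
      exact (x : Matrix.GeneralLinearGroup (Fin n) F).isUnit
    exact Matrix.mulVec_injective_of_isUnit hu
  -- X is onto U
  let T : U →ₗ[F] U := (Matrix.toLin' X).restrict (fun u hu => by
    rw [Matrix.toLin'_apply]; exact hUx u hu)
  have hTinj : Function.Injective T := by
    intro u v huv
    apply Subtype.ext
    apply hXinj
    have := congrArg Subtype.val huv
    simpa [T, LinearMap.restrict_apply, Matrix.toLin'_apply] using this
  have hTsurj : Function.Surjective T := LinearMap.injective_iff_surjective.1 hTinj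
  have hsurj : ∀ u ∈ U, ∃ u' ∈ U, X *ᵥ u' = u := by
    intro u hu
    obtain ⟨u', hu'⟩ := hTsurj ⟨u, hu⟩
    refine ⟨u', u'.2, ?_⟩
    have := congrArg Subtype.val hu'
    simpa [T, LinearMap.restrict_apply, Matrix.toLin'_apply] using this
  -- the radical of U is invariant
  have hW := hirr (U ⊓ LinearMap.BilinForm.orthogonal f U) inf_le_left (by
    rintro w ⟨hwU, hwO⟩
    refine ⟨hUx w hwU, ?_⟩
    rw [SetLike.mem_coe, LinearMap.BilinForm.mem_orthogonal_iff] at hwO ⊢
    intro u hu
    obtain ⟨u', hu', rfl⟩ := hsurj u hu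
    show f (X *ᵥ u') (X *ᵥ w) = 0
    rw [hfX]
    exact hwO u' hu')
  rcases hW with hW | hW
  · left; exact hW
  right
  -- f vanishes on U
  have hf0 : ∀ u ∈ U, ∀ v ∈ U, f u v = 0 := by
    intro u hu v hv
    have : v ∈ U ⊓ LinearMap.BilinForm.orthogonal f U := by rw [hW]; exact hv
    exact (LinearMap.BilinForm.mem_orthogonal_iff.1 this.2) u hu
  have hadd : ∀ u ∈ U, ∀ v ∈ U, Q (u + v) = Q u + Q v := by
    intro u hu v hv
    have := hf0 u hu v hv
    simp only [hf, QuadraticMap.polarBilin_apply_apply, QuadraticMap.polar] at this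
    linear_combination this
  by_cases hp2 : p = 2
  · subst hp2
    have h2 : (2 : F) = 0 := CharTwo.two_eq_zero
    -- the singular vectors of U form an invariant subspace
    let W₂ : Submodule F (Fin n → F) :=
      { carrier := {u | u ∈ U ∧ Q u = 0}
        add_mem' := by
          rintro u v ⟨hu, hQu⟩ ⟨hv, hQv⟩
          exact ⟨U.add_mem hu hv, by rw [hadd u hu v hv, hQu, hQv, add_zero]⟩
        zero_mem' := ⟨U.zero_mem, by simp⟩
        smul_mem' := by
          rintro a u ⟨hu, hQu⟩
          exact ⟨U.smul_mem a hu, by rw [QuadraticMap.map_smul, hQu, smul_zero]⟩ }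
    have hW₂ := hirr W₂ (fun u hu => hu.1) (by
      rintro w ⟨hwU, hwQ⟩
      exact ⟨hUx w hwU, by rw [hXQ, hwQ]⟩)
    rcases hW₂ with hW₂ | hW₂
    · right
      obtain ⟨u, hu, hu0⟩ := Submodule.exists_mem_ne_zero_of_ne_bot hU0
      have hQu : Q u ≠ 0 := by
        intro h
        have : u ∈ W₂ := ⟨hu, h⟩
        rw [hW₂] at this
        exact hu0 this
      -- every vector of U is a multiple of u
      have hspan : ∀ v ∈ U, ∃ a : F, v = a • u := by
        intro v hv
        obtain ⟨a, ha⟩ := FiniteField.isSquare_of_char_two (F := F)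
          (by rw [ringChar.eq F 2]) (Q v / Q u)
        refine ⟨a, ?_⟩
        have hmem : v + a • u ∈ W₂ := by
          refine ⟨U.add_mem hv (U.smul_mem a hu), ?_⟩
          rw [hadd v hv _ (U.smul_mem a hu), QuadraticMap.map_smul, smul_eq_mul, ← ha]
          field_simp
          linear_combination Q v * h2
        rw [hW₂, Submodule.mem_bot] at hmem
        have : v = -(a • u) := eq_neg_of_add_eq_zero_left hmem
        rw [this, ← neg_smul, CharTwo.neg_eq]
      have hXu : X *ᵥ u = u := by
        obtain ⟨l, hl⟩ := hspan (X *ᵥ u) (hUx u hu)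
        have h1 : Q (X *ᵥ u) = l * l * Q u := by
          rw [hl, QuadraticMap.map_smul, smul_eq_mul]
        rw [hXQ] at h1
        have h3 : l * l = 1 := by
          have : (l * l - 1) * Q u = 0 := by linear_combination -h1
          rcases mul_eq_zero.1 this with h | h
          · exact sub_eq_zero.1 h
          · exact absurd h hQu
        have h4 : (l - 1) * (l - 1) = 0 := by
          linear_combination h3 - l * h2 + h2
        have h5 : l = 1 := by
          rcases mul_eq_zero.1 h4 with h | h <;> exact sub_eq_zero.1 h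
        rw [hl, h5, one_smul]
      refine ⟨rfl, ?_, ⟨u, hu, hQu⟩, ?_⟩
      · have hUspan : U = Submodule.span F {u} := by
          apply le_antisymm
          · intro v hv
            obtain ⟨a, rfl⟩ := hspan v hv
            exact Submodule.smul_mem _ _ (Submodule.mem_span_singleton_self u)
          · rw [Submodule.span_singleton_le_iff_mem]; exact hu
        rw [hUspan, finrank_span_singleton hu0]
      · intro v hv
        obtain ⟨a, rfl⟩ := hspan v hv
        rw [Matrix.mulVec_smul, hXu]
    · left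
      intro u hu
      have : u ∈ W₂ := by rw [hW₂]; exact hu
      exact this.2
  · left
    intro u hu
    have h2 : (2 : F) ≠ 0 := by
      intro h
      have h3 : ((2 : ℕ) : F) = 0 := by exact_mod_cast h
      rw [CharP.cast_eq_zero_iff F p 2] at h3
      have hp := (Fact.out : p.Prime)
      exact hp2 ((Nat.prime_dvd_prime_iff_eq hp Nat.prime_two).1 h3)
    have h3 := hf0 u hu u hu
    simp only [hf, QuadraticMap.polarBilin_apply_apply, QuadraticMap.polar] at h3
    have h4 : Q (u + u) = 4 * Q u := by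
      have : u + u = (2 : F) • u := by rw [two_smul]
      rw [this, QuadraticMap.map_smul, smul_eq_mul]; ring
    rw [h4] at h3
    have : (2 : F) * Q u = 0 := by linear_combination h3
    rcases mul_eq_zero.1 this with h | h
    · exact absurd h h2
    · exact h

end Cfsg.Agent.S2599
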