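import Cfsg.Statements.S2608
import Cfsg.Agent.Lib.Lead.Tri.Final
import Cfsg.Agent.Lib.Helper5.Tri.OutPlus
import Cfsg.Agent.Lib.Lead.AutPO.DFac

set_option autoImplicit false
open Cfsg

namespace Cfsg.Agent.S2608

/-- Outer automorphism group of PΩ⁺_2m(q), q = p^f odd: for m = 4 it is S_4 × C_f (triality); for m ≥ 5 it is C_2 × C_2 × C_f when q ≡ 3 (mod 4) and m is odd, and D_8 × C_f otherwise. -/
theorem result {F : Type*} [Field F] [Fintype F] {p f m : ℕ} [Fact p.Prime] (hf : 1 ≤ f) (hF : Fintype.card F = p ^ f) (hp : p ≠ 2) (hm : 4 ≤ m) : if m = 4 then Nonempty (Cfsg.Out (Cfsg.POmega F (Cfsg.quadFormPlus m F)) ≃* Equiv.Perm (Fin 4) × Multiplicative (ZMod f)) else if p ^ f % 4 = 3 ∧ Odd m then Nonempty (Cfsg.Out (Cfsg.POmega F (Cfsg.quadFormPlus m F)) ≃* Multiplicative (ZMod 2 × ZMod 2 × ZMod f)) else Nonempty (Cfsg.Out (Cfsg.POmega F (Cfsg.quadFormPlus m F)) ≃* DihedralGroup 4 × Multiplicative (ZMod f)) := by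
  haveI := Cfsg.Agent.S2690.charP_of_card_pow p f hF
  have hpodd : Odd p := (Fact.out : p.Prime).odd_of_ne_two hp
  have hqodd : Odd (p ^ f) := hpodd.pow
  have hodd : Odd (Fintype.card F) := by rw [hF]; exact hqodd
  by_cases h4 : m = 4
  · subst h4
    rw [if_pos rfl]
    apply Cfsg.Agent.Tri.out_four_odd p f hF hp
    rw [Cfsg.Agent.Lib.Helper5.Tri.CardGamma.card_gamma_plus p f hF 4 hm, if_neg hp]
    have he : Even (4 * (p ^ f - 1) / 2) := by
      have h1 : 4 * (p ^ f - 1) / 2 = 2 * (p ^ f - 1) := by omega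
      rw [h1]
      exact even_two_mul _
    rw [if_pos he]
  · rw [if_neg h4]
    have hm5 : 5 ≤ m := by omega
    by_cases hc : p ^ f % 4 = 3 ∧ Odd m
    · rw [if_pos hc]
      exact Cfsg.Agent.Lib.Helper5.Tri.OutPlus.out_plus_odd_klein hm
        (fun β => Cfsg.Agent.AutPO.FacD_core hm5 β) p hF hodd ⟨hc.2, by rw [hF]; exact hc.1⟩
    · rw [if_neg hc]
      exact Cfsg.Agent.Lib.Helper5.Tri.OutPlus.out_plus_odd_dihedral hm
        (fun β => Cfsg.Agent.AutPO.FacD_core hm5 β) p hF hodd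
        (fun h => hc ⟨by rw [← hF]; exact h.2, h.1⟩)

end Cfsg.Agent.S2608
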