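import Cfsg.Statements.S2609
import Mathlib
import Cfsg.Agent.Lib.Helper5.Orth.SpinorOdd
import Cfsg.Agent.H9.OrthP

set_option autoImplicit false
open Cfsg

namespace Cfsg.Agent.S2609

/-- Spinor norm criterion for Ω over a finite field of odd order: let Q be a quadratic form on F^n, n ≥ 2, with non-degenerate polar form, and let g be an isometry written as a product of reflections in non-singular vectors v_1, …, v_k. Then g lies in Ω (the commutator subgroup of the orthogonal group) if and only if k is even and Q(v_1)⋯Q(v_k) is a square; in particular, for g of determinant one, whether that product is a square does not depend on the chosen factorisation (it is the spinor norm of g). -/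
theorem result {F : Type*} [Field F] [Fintype F] (h2 : (2 : F) ≠ 0) {n : ℕ} (hn : 2 ≤ n) (Q : QuadraticForm F (Fin n → F)) (hQ : (QuadraticMap.polarBilin Q).Nondegenerate) (g : ↥(Cfsg.isometryGroup F ⇑Q)) (vs : List (Fin n → F)) (hvs : ∀ v ∈ vs, Q v ≠ 0) (hg : ((g : Matrix.GeneralLinearGroup (Fin n) F) : Matrix (Fin n) (Fin n) F) = (vs.map (fun v => Cfsg.reflectionMatrix ⇑Q v)).prod) : g ∈ Cfsg.Omega F ⇑Q ↔ (Even vs.length ∧ IsSquare (vs.map (fun v => Q v)).prod) := by
  classical
  have hQ' := Cfsg.Agent.H9.Orth.isNondeg_of_quadraticForm Q hQ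
  have hcard : Fintype.card F ≠ 2 := by
    intro h
    have := Nat.cast_card_eq_zero F
    rw [h] at this
    exact h2 (by exact_mod_cast this)
  have hgen := Cfsg.Agent.H9.Orth.iso_le_RR hQ' (Or.inl hcard)
  have hmat : ∀ xs : List (Fin n → F), (∀ v ∈ xs, Q v ≠ 0) →
      (((xs.map (Cfsg.Agent.H9.Orth.rf hQ')).prod : Matrix.GeneralLinearGroup (Fin n) F) :
        Matrix (Fin n) (Fin n) F) = (xs.map (fun v => Cfsg.reflectionMatrix ⇑Q v)).prod := by
    intro xs
    induction xs with
    | nil => intro _; simp
    | cons x xs ih =>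
      intro hxs
      rw [List.map_cons, List.prod_cons, List.map_cons, List.prod_cons, Units.val_mul,
        ih (fun v hv => hxs v (List.mem_cons_of_mem x hv)),
        Cfsg.Agent.H9.Orth.reflectionMatrix_eq_rf hQ' x (hxs x List.mem_cons_self)]
  have hg' : g = (vs.map (Cfsg.Agent.Lib.Helper5.OrthPar.R hQ')).prod := by
    apply Subtype.ext
    apply Units.ext
    rw [hg, Cfsg.Agent.Lib.Helper5.OrthSN.val_prod_R, hmat vs hvs]
  rw [hg']
  exact Cfsg.Agent.Lib.Helper5.OrthSN.prod_R_mem_omega_iff hQ' h2 hgen vs hvs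

end Cfsg.Agent.S2609
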