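import Cfsg.Statements.S2610
import Mathlib
import Cfsg.Agent.Lib.Helper5.Orth.SpinorNeg
import Cfsg.Agent.H9.OrthP

set_option autoImplicit false
open Cfsg

namespace Cfsg.Agent.S2610

/-- For a quadratic form Q on F^n with non-degenerate polar form, F finite of odd order and n ≥ 2 even, the isometry −1 lies in Ω (the commutator subgroup of the orthogonal group) if and only if the discriminant of Q (the determinant of the Gram matrix of its polar form) is a square. -/
theorem result {F : Type*} [Field F] [Fintype F] (h2 : (2 : F) ≠ 0) {n : ℕ} (hn : 2 ≤ n) (he : Even n) (Q : QuadraticForm F (Fin n → F)) (hQ : (QuadraticMap.polarBilin Q).Nondegenerate) : (∃ g : ↥(Cfsg.isometryGroup F ⇑Q), g ∈ Cfsg.Omega F ⇑Q ∧ ((g : Matrix.GeneralLinearGroup (Fin n) F) : Matrix (Fin n) (Fin n) F) = -1) ↔ IsSquare (Matrix.of (fun i j : Fin n => QuadraticMap.polar ⇑Q (Pi.single i 1) (Pi.single j 1))).det := by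
  classical
  have hQ' := Cfsg.Agent.H9.Orth.isNondeg_of_quadraticForm Q hQ
  have hcard : Fintype.card F ≠ 2 := by
    intro h
    have := Nat.cast_card_eq_zero F
    rw [h] at this
    exact h2 (by exact_mod_cast this)
  have hgen := Cfsg.Agent.H9.Orth.iso_le_RR hQ' (Or.inl hcard)
  have hM : (Matrix.of (fun i j : Fin n => QuadraticMap.polar ⇑Q (Pi.single i 1) (Pi.single j 1))) =
      LinearMap.BilinForm.toMatrix' (QuadraticMap.polarBilin Q) := by
    ext i j
    rw [LinearMap.BilinForm.toMatrix'_apply]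
    rfl
  have hdet : (Matrix.of (fun i j : Fin n =>
      QuadraticMap.polar ⇑Q (Pi.single i 1) (Pi.single j 1))).det ≠ 0 := by
    rw [hM, ← Matrix.nondegenerate_iff_det_ne_zero]
    exact LinearMap.BilinForm.nondegenerate_toMatrix'_iff.2 hQ
  have hev : Even (Fintype.card (Fin n)) := by rw [Fintype.card_fin]; exact he
  constructor
  · rintro ⟨g, hgΩ, hg⟩
    exact (Cfsg.Agent.Lib.Helper5.OrthSN.neg_one_mem_omega_iff hQ' h2 hgen g hg hev hdet).1 hgΩ
  · intro h
    refine ⟨⟨-1, Cfsg.Agent.Lib.Helper5.OrthSN.neg_one_mem_iso hQ'⟩, ?_, ?_⟩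
    · exact (Cfsg.Agent.Lib.Helper5.OrthSN.neg_one_mem_omega_iff hQ' h2 hgen _
        (by simp) hev hdet).2 h
    · simp

end Cfsg.Agent.S2610
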