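import Cfsg.Statements.S2612
import Cfsg.Agent.Lib.Helper5.Orth.PlusSwap

set_option autoImplicit false
open Cfsg

namespace Cfsg.Agent.S2612

/-- For the hyperbolic quadratic form Σ x_i y_i on F^(2m) (F finite, m ≥ 1, excluding m = 2 over the field of two elements), Ω⁺_2m(F) (the commutator subgroup of the orthogonal group) contains an element interchanging the two complementary maximal totally singular subspaces {y = 0} and {x = 0} if and only if m is even (dimension divisible by 4). -/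
theorem result {F : Type*} [Field F] [Fintype F] {m : ℕ} (hm : 1 ≤ m) (h : Fintype.card F ≠ 2 ∨ m ≠ 2) : (∃ g : ↥(Cfsg.isometryGroup F (Cfsg.quadFormPlus m F)), g ∈ Cfsg.Omega F (Cfsg.quadFormPlus m F) ∧ (∀ v : Fin m ⊕ Fin m → F, (∀ i, v (Sum.inr i) = 0) → ∀ i, (((g : Matrix.GeneralLinearGroup (Fin m ⊕ Fin m) F) : Matrix (Fin m ⊕ Fin m) (Fin m ⊕ Fin m) F).mulVec v) (Sum.inl i) = 0) ∧ (∀ v : Fin m ⊕ Fin m → F, (∀ i, v (Sum.inl i) = 0) → ∀ i, (((g : Matrix.GeneralLinearGroup (Fin m ⊕ Fin m) F) : Matrix (Fin m ⊕ Fin m) (Fin m ⊕ Fin m) F).mulVec v) (Sum.inr i) = 0)) ↔ Even m := by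
  have hQ := Cfsg.Agent.Lib.Helper5.OrthPM.quadFormPlus_nondeg (F := F) m
  have h' : Fintype.card F ≠ 2 ∨ Fintype.card (Fin m ⊕ Fin m) ≠ 4 := by
    rcases h with h | h
    · exact Or.inl h
    · right
      rw [Fintype.card_sum, Fintype.card_fin]
      omega
  have hgen : Cfsg.isometryGroup F (Cfsg.quadFormPlus m F) ≤ Cfsg.Agent.H9.Orth.RR hQ :=
    Cfsg.Agent.H9.Orth.iso_le_RR hQ h'
  constructor
  · rintro ⟨g, hgΩ, h0, -⟩
    have hpar := Cfsg.Agent.Lib.Helper5.OrthPar.omega_par_gen hQ hgen g hgΩ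
    have hfam := Cfsg.Agent.Lib.Helper5.OrthPar.family_parity hQ hgen
      (Cfsg.Agent.Lib.Helper5.OrthPar.stdU (F := F) m) m
      (by rw [Fintype.card_sum, Fintype.card_fin]; ring)
      (Cfsg.Agent.Lib.Helper5.OrthPar.stdU_maxTS m) _ g.2
    have hbot : Cfsg.Agent.Lib.Helper5.OrthPar.stdU (F := F) m ⊓
        Cfsg.Agent.Lib.Helper5.OrthPar.mapS (g : Matrix.GeneralLinearGroup (Fin m ⊕ Fin m) F)
          (Cfsg.Agent.Lib.Helper5.OrthPar.stdU (F := F) m) = ⊥ := by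
      rw [eq_bot_iff]
      intro v hv
      obtain ⟨hv1, hv2⟩ := Submodule.mem_inf.1 hv
      rw [Cfsg.Agent.Lib.Helper5.OrthPar.mem_stdU] at hv1
      obtain ⟨w, hw, rfl⟩ := (Cfsg.Agent.Lib.Helper5.OrthPar.mem_mapS _ _ _).1 hv2
      rw [Cfsg.Agent.Lib.Helper5.OrthPar.mem_stdU] at hw
      rw [Submodule.mem_bot]
      funext j
      rcases j with i | i
      · exact h0 w hw i
      · exact hv1 i
    rw [hbot, finrank_bot, Nat.sub_zero] at hfam
    exact hfam.2 hpar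
  · rintro ⟨k, rfl⟩
    obtain ⟨g, hgΩ, hg⟩ := Cfsg.Agent.Lib.Helper5.OrthPar.exists_swap_omega (F := F) k
    refine ⟨g, hgΩ, ?_, ?_⟩
    · intro v hv i
      have := congrFun (hg v) (Sum.inl i)
      rw [Cfsg.Agent.H9.Orth.act] at this
      rw [this]
      exact hv i
    · intro v hv i
      have := congrFun (hg v) (Sum.inr i)
      rw [Cfsg.Agent.H9.Orth.act] at this
      rw [this]
      exact hv i

end Cfsg.Agent.S2612
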