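import Cfsg.Statements.S2619
import Mathlib

set_option autoImplicit false
open scoped Pointwise
open Cfsg Matrix

namespace Cfsg.Agent.S2619

theorem result {F V ι : Type*} [Field F] [Finite F] [CharP F 2] [AddCommGroup V] [Module F V] [Fintype ι] (b : Module.Basis ι F V) (B : LinearMap.BilinForm F V) (hB : B.IsAlt) (c : ι → F) : ∃! Q : QuadraticForm F V, QuadraticMap.polarBilin Q = B ∧ ∀ i, Q (b i) = c i := by
  classical
  have h2 : (2 : F) = 0 := CharTwo.two_eq_zero
  have hsymm : ∀ x y, B x y = B y x := by
    intro x y
    rw [← hB.neg_eq x y, CharTwo.neg_eq]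
  -- an auxiliary ordering of the index set
  let e := Fintype.equivFin ι
  let M : Matrix ι ι F := fun i j =>
    if e i < e j then B (b i) (b j) else if i = j then c i else 0
  let C : LinearMap.BilinForm F V := Matrix.toBilin b M
  have hC : ∀ i j, C (b i) (b j) = M i j := by
    intro i j
    rw [← LinearMap.BilinForm.toMatrix_apply b C i j]
    show (LinearMap.BilinForm.toMatrix b (Matrix.toBilin b M)) i j = M i j
    rw [LinearMap.BilinForm.toMatrix_toBilin]
  have hCB : C + LinearMap.flip C = B := by
    apply LinearMap.ext_basis b b
    intro i j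
    rw [LinearMap.add_apply, LinearMap.add_apply, LinearMap.flip_apply, hC, hC]
    simp only [M]
    rcases lt_trichotomy (e i) (e j) with h | h | h
    · have h' : ¬ e j < e i := not_lt.2 h.le
      have h'' : ¬ j = i := fun hji => by rw [hji] at h; exact lt_irrefl _ h
      simp only [h, h', h'', if_true, if_false, add_zero]
    · have hij : i = j := e.injective h
      subst hij
      simp only [lt_irrefl, if_false, if_true]
      rw [hB.self_eq_zero]
      linear_combination c i * h2
    · have h' : ¬ e i < e j := not_lt.2 h.le
      have h'' : ¬ i = j := fun hij => by rw [hij] at h; exact lt_irrefl _ h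
      simp only [h, h', h'', if_true, if_false, zero_add]
      exact hsymm _ _
  refine ⟨C.toQuadraticMap, ⟨?_, ?_⟩, ?_⟩
  · rw [LinearMap.BilinMap.polarBilin_toQuadraticMap]
    exact hCB
  · intro i
    rw [LinearMap.BilinMap.toQuadraticMap_apply, hC]
    simp only [M, lt_irrefl, if_false, if_true]
  · rintro Q' ⟨hQ'B, hQ'c⟩
    -- the difference vanishes on finite combinations of basis vectors
    have hpolar : ∀ x y, QuadraticMap.polar Q' x y = QuadraticMap.polar C.toQuadraticMap x y := by
      intro x y
      rw [← QuadraticMap.polarBilin_apply_apply, ← QuadraticMap.polarBilin_apply_apply, hQ'B,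
        LinearMap.BilinMap.polarBilin_toQuadraticMap, hCB]
    have hbasis : ∀ i, Q' (b i) = C.toQuadraticMap (b i) := by
      intro i
      rw [hQ'c, LinearMap.BilinMap.toQuadraticMap_apply, hC]
      simp only [M, lt_irrefl, if_false, if_true]
    have hsum : ∀ (s : Finset ι) (a : ι → F),
        Q' (∑ i ∈ s, a i • b i) = C.toQuadraticMap (∑ i ∈ s, a i • b i) := by
      intro s a
      induction s using Finset.induction_on with
      | empty => simp
      | insert i s hi ih =>
        rw [Finset.sum_insert hi, QuadraticMap.map_add (⇑Q'),
          QuadraticMap.map_add (⇑C.toQuadraticMap),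
          ih, hpolar, QuadraticMap.map_smul, QuadraticMap.map_smul, hbasis]
    ext x
    rw [← b.sum_repr x]
    exact hsum _ _

end Cfsg.Agent.S2619
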