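import Cfsg.Statements.S2620
import Mathlib

set_option autoImplicit false
open scoped Pointwise
open Cfsg Matrix

namespace Cfsg.Agent.S2620

section
variable {F : Type*} [Field F]

/-- Gram determinant in an arbitrary basis versus the standard basis. -/
lemma gram_det {n ι : Type*} [Fintype n] [DecidableEq n] [Fintype ι] [DecidableEq ι]
    (B : LinearMap.BilinForm F (n → F)) (b : Module.Basis ι F (n → F)) :
    ∃ d : F, d ≠ 0 ∧ (Matrix.of (fun i j : ι => B (b i) (b j))).det =
      d * d * (LinearMap.BilinForm.toMatrix' B).det := by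
  let e : ι ≃ n := b.indexEquiv (Pi.basisFun F n)
  let b' : Module.Basis n F (n → F) := b.reindex e
  let P : Matrix n n F := (Pi.basisFun F n).toMatrix b'
  have hP : IsUnit P.det := by
    have : Invertible P := Module.Basis.invertibleToMatrix (Pi.basisFun F n) b'
    exact (Matrix.isUnit_iff_isUnit_det P).1 (isUnit_of_invertible P)
  refine ⟨P.det, hP.ne_zero, ?_⟩
  have h1 : Pᵀ * LinearMap.BilinForm.toMatrix (Pi.basisFun F n) B * P =
      LinearMap.BilinForm.toMatrix b' B :=
    LinearMap.BilinForm.toMatrix_mul_basis_toMatrix (Pi.basisFun F n) b' B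
  rw [LinearMap.BilinForm.toMatrix_basisFun] at h1
  have h2 : (Matrix.of (fun i j : ι => B (b i) (b j))) =
      (LinearMap.BilinForm.toMatrix b' B).submatrix e e := by
    ext i j
    simp only [Matrix.of_apply, Matrix.submatrix_apply, LinearMap.BilinForm.toMatrix_apply, b',
      Module.Basis.reindex_apply, Equiv.symm_apply_apply]
  rw [h2, Matrix.det_submatrix_equiv_self, ← h1, Matrix.det_mul, Matrix.det_mul,
    Matrix.det_transpose]
  ring

lemma isSquare_mul_sq {d x : F} (hd : d ≠ 0) : IsSquare (d * d * x) ↔ IsSquare x := by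
  constructor
  · rintro ⟨z, hz⟩
    refine ⟨z / d, ?_⟩
    field_simp
    linear_combination hz
  · rintro ⟨y, rfl⟩
    exact ⟨d * y, by ring⟩

/-- determinant of the hyperbolic Gram matrix. -/
lemma det_hyp (m : ℕ) : (Matrix.fromBlocks (0 : Matrix (Fin m) (Fin m) F)
    (1 : Matrix (Fin m) (Fin m) F) (1 : Matrix (Fin m) (Fin m) F)
    (0 : Matrix (Fin m) (Fin m) F)).det = (-1) ^ m := by
  have h1 : Matrix.fromBlocks (0 : Matrix (Fin m) (Fin m) F) (1 : Matrix (Fin m) (Fin m) F)
        (1 : Matrix (Fin m) (Fin m) F) (0 : Matrix (Fin m) (Fin m) F) *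
      Matrix.fromBlocks (1 : Matrix (Fin m) (Fin m) F) (1 : Matrix (Fin m) (Fin m) F)
        (0 : Matrix (Fin m) (Fin m) F) (1 : Matrix (Fin m) (Fin m) F) =
      Matrix.fromBlocks (0 : Matrix (Fin m) (Fin m) F) (1 : Matrix (Fin m) (Fin m) F)
        (1 : Matrix (Fin m) (Fin m) F) (1 : Matrix (Fin m) (Fin m) F) := by
    rw [Matrix.fromBlocks_multiply]
    simp
  have h2 : (Matrix.fromBlocks (1 : Matrix (Fin m) (Fin m) F) (1 : Matrix (Fin m) (Fin m) F)
        (0 : Matrix (Fin m) (Fin m) F) (1 : Matrix (Fin m) (Fin m) F)).det = 1 := by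
    rw [Matrix.det_fromBlocks_zero₂₁]; simp
  have h3 : (Matrix.fromBlocks (0 : Matrix (Fin m) (Fin m) F) (1 : Matrix (Fin m) (Fin m) F)
        (1 : Matrix (Fin m) (Fin m) F) (1 : Matrix (Fin m) (Fin m) F)).det = (-1) ^ m := by
    rw [Matrix.det_fromBlocks_one₂₂]
    simp [Matrix.det_neg]
  have := congrArg Matrix.det h1
  rw [Matrix.det_mul, h2, mul_one, h3] at this
  exact this

/-- the polar form of the hyperbolic quadratic form as a matrix bilinear form. -/
lemma polar_plus (m : ℕ) (u v : Fin m ⊕ Fin m → F) :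
    QuadraticMap.polar (Cfsg.quadFormPlus m F) u v =
      Matrix.toBilin' (Matrix.fromBlocks (0 : Matrix (Fin m) (Fin m) F) 1 1 0) u v := by
  rw [Matrix.toBilin'_apply]
  simp only [QuadraticMap.polar, Cfsg.quadFormPlus, Fintype.sum_sum_type, Matrix.fromBlocks_apply₁₁,
    Matrix.fromBlocks_apply₁₂, Matrix.fromBlocks_apply₂₁, Matrix.fromBlocks_apply₂₂,
    Matrix.zero_apply, mul_zero, zero_mul, Finset.sum_const_zero, zero_add, add_zero,
    Matrix.one_apply, mul_ite, ite_mul, mul_one, Finset.sum_ite_eq, Finset.mem_univ, if_true,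
    Pi.add_apply]
  rw [← Finset.sum_add_distrib, ← Finset.sum_sub_distrib, ← Finset.sum_sub_distrib]
  apply Finset.sum_congr rfl
  intro i _
  ring

end

theorem result {F : Type*} [Field F] [Fintype F] {q : ℕ} (hF : Fintype.card F = q) (hq : Odd q) {m : ℕ} (hm : 1 ≤ m) {ι : Type*} [Fintype ι] [DecidableEq ι] (b : Module.Basis ι F (Fin m ⊕ Fin m → F)) : IsSquare (Matrix.of (fun i j : ι => QuadraticMap.polar (Cfsg.quadFormPlus m F) (b i) (b j))).det ↔ Even (m * (q - 1) / 2) := by
  have h1 : (Matrix.of (fun i j : ι => QuadraticMap.polar (Cfsg.quadFormPlus m F) (b i) (b j))) =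
      Matrix.of (fun i j : ι =>
        Matrix.toBilin' (Matrix.fromBlocks (0 : Matrix (Fin m) (Fin m) F) 1 1 0) (b i) (b j)) := by
    ext i j
    simp only [Matrix.of_apply]
    exact polar_plus m _ _
  obtain ⟨d, hd, hdet⟩ := gram_det
    (Matrix.toBilin' (Matrix.fromBlocks (0 : Matrix (Fin m) (Fin m) F) 1 1 0)) b
  rw [h1, hdet, isSquare_mul_sq hd, LinearMap.BilinForm.toMatrix'_toBilin', det_hyp]
  obtain ⟨r, hr⟩ := hq
  have e1 : m * (q - 1) / 2 = m * r := by
    rw [hr, Nat.add_sub_cancel, mul_comm 2 r, ← mul_assoc, Nat.mul_div_cancel _ (by norm_num)]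
  rw [e1, Nat.even_mul]
  rcases Nat.even_or_odd m with hme | hmo
  · simp [hme, Even.neg_one_pow hme]
  · rw [Odd.neg_one_pow hmo, FiniteField.isSquare_neg_one_iff, hF]
    have hne : ¬ Even m := Nat.not_even_iff_odd.2 hmo
    simp only [hne, false_or]
    rw [hr, Nat.even_iff]
    omega

end Cfsg.Agent.S2620
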