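import Cfsg.Statements.S2621
import Mathlib
import Cfsg.Agent.S2620

set_option autoImplicit false
open scoped Pointwise
open Cfsg Matrix

namespace Cfsg.Agent.S2621

section
variable {F : Type*} [Field F]

/-- the Gram matrix of the elliptic form. -/
def gramMinus (k : ℕ) (a c : F) :
    Matrix ((Fin k ⊕ Fin k) ⊕ Fin 2) ((Fin k ⊕ Fin k) ⊕ Fin 2) F :=
  Matrix.fromBlocks (Matrix.fromBlocks (0 : Matrix (Fin k) (Fin k) F) (1 : Matrix (Fin k) (Fin k) F)
      (1 : Matrix (Fin k) (Fin k) F) (0 : Matrix (Fin k) (Fin k) F))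
    (0 : Matrix (Fin k ⊕ Fin k) (Fin 2) F) (0 : Matrix (Fin 2) (Fin k ⊕ Fin k) F) !![2, a; a, 2 * c]

lemma det_gramMinus (k : ℕ) (a c : F) : (gramMinus k a c).det = (-1) ^ k * (4 * c - a ^ 2) := by
  unfold gramMinus
  rw [Matrix.det_fromBlocks_zero₂₁, Cfsg.Agent.S2620.det_hyp, Matrix.det_fin_two_of]
  ring

lemma polar_minus (k : ℕ) (a c : F) (u v : (Fin k ⊕ Fin k) ⊕ Fin 2 → F) :
    QuadraticMap.polar (Cfsg.quadFormMinus k F a c) u v = Matrix.toBilin' (gramMinus k a c) u v := by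
  rw [Matrix.toBilin'_apply]
  simp only [QuadraticMap.polar, Cfsg.quadFormMinus, gramMinus, Fintype.sum_sum_type,
    Matrix.fromBlocks_apply₁₁,
    Matrix.fromBlocks_apply₁₂, Matrix.fromBlocks_apply₂₁, Matrix.fromBlocks_apply₂₂,
    Matrix.zero_apply, mul_zero, zero_mul, Finset.sum_const_zero, zero_add, add_zero,
    Matrix.one_apply, mul_ite, ite_mul, mul_one, Finset.sum_ite_eq, Finset.mem_univ, if_true,
    Pi.add_apply, Fin.sum_univ_two, Matrix.of_apply, Matrix.cons_val', Matrix.cons_val_zero,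
    Matrix.cons_val_one, Matrix.cons_val_fin_one]
  have e : ∀ (f g h : Fin k → F), ∑ i, f i - ∑ i, g i - ∑ i, h i = ∑ i, (f i - g i - h i) := by
    intro f g h
    rw [Finset.sum_sub_distrib, Finset.sum_sub_distrib]
  have e2 : ∑ x, (u (Sum.inl (Sum.inl x)) + v (Sum.inl (Sum.inl x))) *
        (u (Sum.inl (Sum.inr x)) + v (Sum.inl (Sum.inr x))) =
      ∑ x, u (Sum.inl (Sum.inl x)) * u (Sum.inl (Sum.inr x)) +
      ∑ x, v (Sum.inl (Sum.inl x)) * v (Sum.inl (Sum.inr x)) +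
      (∑ x, u (Sum.inl (Sum.inl x)) * v (Sum.inl (Sum.inr x)) +
      ∑ x, u (Sum.inl (Sum.inr x)) * v (Sum.inl (Sum.inl x))) := by
    rw [← Finset.sum_add_distrib, ← Finset.sum_add_distrib, ← Finset.sum_add_distrib]
    apply Finset.sum_congr rfl
    intro i _
    ring
  rw [e2]
  ring

/-- multiplying by a non-square flips squareness. -/
lemma isSquare_mul_nonsq [Fintype F] {x δ : F} (hx : x ≠ 0) (hδ : ¬ IsSquare δ) :
    IsSquare (x * δ) ↔ ¬ IsSquare x := by
  classical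
  have hδ0 : δ ≠ 0 := by
    rintro rfl
    exact hδ ⟨0, by simp⟩
  have h1 : quadraticChar F δ = -1 := quadraticChar_neg_one_iff_not_isSquare.2 hδ
  rw [← quadraticChar_one_iff_isSquare (mul_ne_zero hx hδ0), map_mul, h1,
    ← quadraticChar_neg_one_iff_not_isSquare]
  rcases quadraticChar_dichotomy hx with h | h <;> rw [h] <;> norm_num

lemma isSquare_neg_one_pow [Fintype F] {q : ℕ} (hF : Fintype.card F = q) (hq : Odd q) (m : ℕ) :
    IsSquare ((-1 : F) ^ m) ↔ Even (m * (q - 1) / 2) := by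
  obtain ⟨r, hr⟩ := hq
  have e1 : m * (q - 1) / 2 = m * r := by
    rw [hr, Nat.add_sub_cancel, mul_comm 2 r, ← mul_assoc, Nat.mul_div_cancel _ (by norm_num)]
  rw [e1, Nat.even_mul]
  rcases Nat.even_or_odd m with hme | hmo
  · simp [hme, Even.neg_one_pow hme]
  · rw [Odd.neg_one_pow hmo, FiniteField.isSquare_neg_one_iff, hF]
    have hne : ¬ Even m := Nat.not_even_iff_odd.2 hmo
    simp only [hne, false_or]
    rw [hr, Nat.even_iff]
    omega

end

theorem result {F : Type*} [Field F] [Fintype F] {q : ℕ} (hF : Fintype.card F = q) (hq : Odd q) {m : ℕ} (hm : 1 ≤ m) (a c : F) (hac : ∀ z₁ z₂ : F, z₁ ^ 2 + a * z₁ * z₂ + c * z₂ ^ 2 = 0 → z₁ = 0 ∧ z₂ = 0) {ι : Type*} [Fintype ι] [DecidableEq ι] (b : Module.Basis ι F ((Fin (m - 1) ⊕ Fin (m - 1)) ⊕ Fin 2 → F)) : IsSquare (Matrix.of (fun i j : ι => QuadraticMap.polar (Cfsg.quadFormMinus (m - 1) F a c) (b i) (b j))).det ↔ ¬ Even (m * (q - 1) / 2) := by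
  have hchar : ringChar F ≠ 2 := by
    intro h
    have := FiniteField.even_card_of_char_two h
    rw [hF] at this
    rw [Nat.odd_iff] at hq
    omega
  have h2 : (2 : F) ≠ 0 := Ring.two_ne_zero hchar
  have hδ : ¬ IsSquare (a ^ 2 - 4 * c) := by
    rintro ⟨s, hs⟩
    have := hac ((-a + s) / 2) 1 (by
      field_simp
      linear_combination (-1 : F) * hs)
    exact one_ne_zero this.2
  have h1 : (Matrix.of (fun i j : ι => QuadraticMap.polar (Cfsg.quadFormMinus (m - 1) F a c) (b i) (b j))) =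
      Matrix.of (fun i j : ι => Matrix.toBilin' (gramMinus (m - 1) a c) (b i) (b j)) := by
    ext i j
    simp only [Matrix.of_apply]
    exact polar_minus _ a c _ _
  obtain ⟨d, hd, hdet⟩ := Cfsg.Agent.S2620.gram_det (Matrix.toBilin' (gramMinus (m - 1) a c)) b
  rw [h1, hdet, Cfsg.Agent.S2620.isSquare_mul_sq hd, LinearMap.BilinForm.toMatrix'_toBilin',
    det_gramMinus]
  have e : (-1 : F) ^ (m - 1) * (4 * c - a ^ 2) = (-1) ^ m * (a ^ 2 - 4 * c) := by
    obtain ⟨k, rfl⟩ : ∃ k, m = k + 1 := ⟨m - 1, by omega⟩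
    rw [Nat.add_sub_cancel, pow_succ]
    ring
  rw [e, isSquare_mul_nonsq (pow_ne_zero _ (neg_ne_zero.2 one_ne_zero)) hδ,
    isSquare_neg_one_pow hF hq]

end Cfsg.Agent.S2621
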