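import Mathlib
import Cfsg.Statements.S2622

set_option autoImplicit false

namespace Cfsg.Agent.S2622

open Module

universe u v

section
variable {F : Type v} [Field F] [Finite F] [CharP F 2] {V : Type u} [AddCommGroup V] [Module F V]
  [FiniteDimensional F V]

/-- membership in the orthogonal complement of a line. -/
theorem mem_orth_iff (B : LinearMap.BilinForm F V) (x w : V) :
    w ∈ B.orthogonal (F ∙ x) ↔ B x w = 0 := by
  rw [LinearMap.BilinForm.mem_orthogonal_iff]
  constructor
  · intro h
    exact h x (Submodule.mem_span_singleton_self x)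
  · intro h n hn
    obtain ⟨c, rfl⟩ := Submodule.mem_span_singleton.1 hn
    rw [map_smul, LinearMap.smul_apply, h, smul_zero]

/-- a unit vector whose orthogonal complement is again non-alternating (or zero). -/
theorem exists_good (B : LinearMap.BilinForm F V) (hS : B.IsSymm) (hB : B.Nondegenerate)
    (hna : ∃ v : V, B v v ≠ 0) (n : ℕ) (hV : finrank F V = n + 1) :
    ∃ v₀ : V, B v₀ v₀ = 1 ∧ (n ≠ 0 → ∃ w ∈ B.orthogonal (F ∙ v₀), B w w ≠ 0) := by
  obtain ⟨v, hv⟩ := hna
  obtain ⟨s, hs⟩ := FiniteField.isSquare_of_char_two (ringChar.eq F 2) (B v v)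
  have hs0 : s ≠ 0 := by
    rintro rfl
    rw [mul_zero] at hs
    exact hv hs
  set v' := s⁻¹ • v with hv'
  have h1 : B v' v' = 1 := by
    rw [hv', map_smul, map_smul, LinearMap.smul_apply, smul_eq_mul, smul_eq_mul, hs]
    field_simp
  by_cases halt : ∃ w ∈ B.orthogonal (F ∙ v'), B w w ≠ 0
  · exact ⟨v', h1, fun _ => halt⟩
  push Not at halt
  by_cases hn : n = 0
  · exact ⟨v', h1, fun h => absurd hn h⟩
  have hv'0 : v' ≠ 0 := by
    intro h0
    rw [h0, map_zero] at h1
    exact zero_ne_one h1
  have hW : finrank F (B.orthogonal (F ∙ v')) = n := by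
    rw [LinearMap.BilinForm.finrank_orthogonal hB, hV, finrank_span_singleton hv'0]
    omega
  have hWnd := LinearMap.BilinForm.restrict_nondegenerate_orthogonal_spanSingleton B hB hS.isRefl
    (x := v') (by rw [h1]; exact one_ne_zero)
  -- a nonzero vector of the complement
  have hWne : B.orthogonal (F ∙ v') ≠ ⊥ := by
    intro h0
    rw [h0, finrank_bot] at hW
    exact hn hW.symm
  obtain ⟨e, he, he0⟩ := Submodule.exists_mem_ne_zero_of_ne_bot hWne
  obtain ⟨f, hf⟩ : ∃ f : B.orthogonal (F ∙ v'), B e f ≠ 0 := by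
    by_contra hcon
    push Not at hcon
    have := hWnd.1 ⟨e, he⟩ (fun f => hcon f)
    exact he0 (congrArg Subtype.val this)
  set f' : V := (B e f)⁻¹ • (f : V) with hf'
  have hf'W : f' ∈ B.orthogonal (F ∙ v') := Submodule.smul_mem _ _ f.2
  have hef : B e f' = 1 := by
    rw [hf', map_smul, smul_eq_mul, inv_mul_cancel₀ hf]
  have hee : B e e = 0 := halt e he
  have hff : B f' f' = 0 := halt f' hf'W
  have hve : B v' e = 0 := (mem_orth_iff B v' e).1 he
  have hvf : B v' f' = 0 := (mem_orth_iff B v' f').1 hf'W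
  have hev : B e v' = 0 := by rw [hS.eq]; exact hve
  have hfv : B f' v' = 0 := by rw [hS.eq]; exact hvf
  have hfe : B f' e = 1 := by rw [hS.eq]; exact hef
  refine ⟨v' + e, ?_, fun _ => ⟨v' + f', ?_, ?_⟩⟩
  · simp only [map_add, LinearMap.add_apply, h1, hve, hev, hee, add_zero]
  · rw [mem_orth_iff]
    simp only [map_add, LinearMap.add_apply, h1, hvf, hev, hef, add_zero, zero_add]
    exact CharTwo.add_self_eq_zero (1 : F)
  · simp only [map_add, LinearMap.add_apply, h1, hvf, hfv, hff, add_zero]
    exact one_ne_zero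

theorem exists_orthonormal : ∀ (n : ℕ) (V : Type u) [AddCommGroup V] [Module F V] [FiniteDimensional F V]
    (B : LinearMap.BilinForm F V), finrank F V = n → B.IsSymm → B.Nondegenerate →
    (n ≠ 0 → ∃ v : V, B v v ≠ 0) → ∃ v : Fin n → V, ∀ i j, B (v i) (v j) = if i = j then 1 else 0 := by
  intro n
  induction n with
  | zero =>
    intro V _ _ _ B _ _ _ _
    exact ⟨Fin.elim0, fun i => i.elim0⟩
  | succ n ih =>
    intro V _ _ _ B hV hS hB hna
    obtain ⟨v₀, h1, h2⟩ := exists_good B hS hB (hna (Nat.succ_ne_zero n)) n hV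
    have hv₀ : v₀ ≠ 0 := by
      intro h0
      rw [h0, map_zero] at h1
      exact zero_ne_one h1
    set W := B.orthogonal (F ∙ v₀) with hW
    have hWdim : finrank F W = n := by
      rw [hW, LinearMap.BilinForm.finrank_orthogonal hB, hV, finrank_span_singleton hv₀]
      omega
    have hWnd : (B.restrict W).Nondegenerate :=
      LinearMap.BilinForm.restrict_nondegenerate_orthogonal_spanSingleton B hB hS.isRefl
        (x := v₀) (by rw [h1]; exact one_ne_zero)
    have hWS : (B.restrict W).IsSymm := by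
      refine ⟨fun x y => ?_⟩
      change B x y = B y x
      exact hS.eq x y
    have hWna : n ≠ 0 → ∃ w : W, (B.restrict W) w w ≠ 0 := by
      intro hn
      obtain ⟨w, hw, hww⟩ := h2 hn
      exact ⟨⟨w, hw⟩, hww⟩
    obtain ⟨w, hw⟩ := ih W (B.restrict W) hWdim hWS hWnd hWna
    refine ⟨Fin.cons v₀ (fun i => (w i : V)), ?_⟩
    intro i j
    refine Fin.cases ?_ (fun i => ?_) i <;> refine Fin.cases ?_ (fun j => ?_) j
    · simpa using h1
    · simp only [Fin.cons_zero, Fin.cons_succ]
      rw [if_neg (Fin.succ_ne_zero j).symm]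
      exact (mem_orth_iff B v₀ _).1 (w j).2
    · simp only [Fin.cons_zero, Fin.cons_succ]
      rw [if_neg (Fin.succ_ne_zero i), hS.eq]
      exact (mem_orth_iff B v₀ _).1 (w i).2
    · simp only [Fin.cons_succ, Fin.succ_inj]
      exact hw i j

end

/-- Over a finite field of characteristic two, a non-degenerate symmetric bilinear form that is not alternating (some vector v has B(v, v) ≠ 0) admits an orthonormal basis. -/
theorem result {F V : Type*} [Field F] [Finite F] [CharP F 2] [AddCommGroup V] [Module F V] [FiniteDimensional F V] {n : ℕ} (hV : Module.finrank F V = n) (B : LinearMap.BilinForm F V) (hS : B.IsSymm) (hB : B.Nondegenerate) (hna : ∃ v : V, B v v ≠ 0) : ∃ b : Module.Basis (Fin n) F V, ∀ i j, B (b i) (b j) = if i = j then 1 else 0 := by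
  obtain ⟨v, hv⟩ := exists_orthonormal n V B hV hS hB (fun _ => hna)
  have hli : LinearIndependent F v := by
    apply LinearMap.BilinForm.linearIndependent_of_iIsOrtho (B := B)
    · rw [LinearMap.BilinForm.iIsOrtho_def]
      intro i j hij
      rw [hv, if_neg hij]
    · intro i
      rw [hv, if_pos rfl]
      exact one_ne_zero
  have hsp : ⊤ ≤ Submodule.span F (Set.range v) := by
    rw [hli.span_eq_top_of_card_eq_finrank' (by rw [Fintype.card_fin, hV])]
  refine ⟨Basis.mk hli hsp, ?_⟩
  intro i j
  rw [Basis.mk_apply, Basis.mk_apply, hv]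

end Cfsg.Agent.S2622
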