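import Cfsg.Statements.S2623
import Mathlib
import Cfsg.Agent.H9.QuadFin
import Cfsg.Agent.S2621

set_option autoImplicit false

namespace Cfsg.Agent.S2623

open Cfsg.Agent.H9.QuadFin QuadraticMap Module

section
variable {F : Type*} [Field F]

/-- the standard Gram matrix. -/
noncomputable def gstd {n : ℕ} (Q : QuadraticForm F (Fin n → F)) : Matrix (Fin n) (Fin n) F :=
  Matrix.of (fun i j : Fin n => polar Q (Pi.single i 1) (Pi.single j 1))

theorem gstd_eq {n : ℕ} (Q : QuadraticForm F (Fin n → F)) :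
    gstd Q = LinearMap.BilinForm.toMatrix' (polarBilin Q) := by
  ext i j
  rw [LinearMap.BilinForm.toMatrix'_apply]
  rfl

theorem gram_rel {n : ℕ} {ι : Type*} [Fintype ι] [DecidableEq ι] (Q : QuadraticForm F (Fin n → F))
    (b : Basis ι F (Fin n → F)) :
    ∃ d : F, d ≠ 0 ∧ (Matrix.of (fun i j : ι => polar Q (b i) (b j))).det = d * d * (gstd Q).det := by
  obtain ⟨d, hd, h⟩ := Cfsg.Agent.S2620.gram_det (polarBilin Q) b
  refine ⟨d, hd, ?_⟩
  rw [gstd_eq, ← h]
  rfl

theorem exists_isometry {n : ℕ} {ι : Type*} (Q₁ Q₂ : QuadraticForm F (Fin n → F))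
    (h₁ : (polarBilin Q₁).Nondegenerate) (b : Basis ι F (Fin n → F)) (v' : ι → (Fin n → F))
    (h1 : ∀ i, Q₂ (v' i) = Q₁ (b i))
    (h2 : ∀ i j, polar Q₂ (v' i) (v' j) = polar Q₁ (b i) (b j)) :
    ∃ g : (Fin n → F) ≃ₗ[F] (Fin n → F), ∀ v, Q₂ (g v) = Q₁ v := by
  have hsc : ∀ v, Q₂ (b.constr F v' v) = 1 * Q₁ v :=
    scaling_of_basis Q₁ Q₂ b v' 1 (fun i => by rw [h1, one_mul]) (fun i j => by rw [h2, one_mul])
  have hinj := injective_of_scaling Q₁ Q₂ h₁ (b.constr F v') one_ne_zero hsc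
  refine ⟨LinearEquiv.ofInjectiveEndo _ hinj, fun v => ?_⟩
  have := hsc v
  rw [one_mul] at this
  rw [← this]
  rfl

theorem exists_isometry_of_gram {n : ℕ} {ι : Type*} (h2 : (2 : F) ≠ 0)
    (Q₁ Q₂ : QuadraticForm F (Fin n → F))
    (h₁ : (polarBilin Q₁).Nondegenerate) (b : Basis ι F (Fin n → F)) (v' : ι → (Fin n → F))
    (hG : ∀ i j, polar Q₂ (v' i) (v' j) = polar Q₁ (b i) (b j)) :
    ∃ g : (Fin n → F) ≃ₗ[F] (Fin n → F), ∀ v, Q₂ (g v) = Q₁ v := by
  refine exists_isometry Q₁ Q₂ h₁ b v' (fun i => ?_) hG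
  have h := hG i i
  rw [polar_self, polar_self] at h
  simp only [nsmul_eq_mul, Nat.cast_ofNat] at h
  exact mul_left_cancel₀ h2 h

/-- the Gram matrix of a hyperbolic family. -/
theorem gram_hyp_eq {n m : ℕ} (Q : QuadraticForm F (Fin n → F)) (b : Fin m ⊕ Fin m → (Fin n → F))
    (hb : IsHyp Q (fun i => b (Sum.inl i)) (fun i => b (Sum.inr i))) :
    (Matrix.of (fun i j : Fin m ⊕ Fin m => polar Q (b i) (b j))) =
      Matrix.fromBlocks (0 : Matrix (Fin m) (Fin m) F) 1 1 0 := by
  ext i j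
  rcases i with i | i <;> rcases j with j | j
  · simp [(hb.2.2 i j).1]
  · simp [hb.2.1 i j, Matrix.one_apply]
  · rw [Matrix.of_apply, polar_comm, hb.2.1 j i]
    simp [Matrix.one_apply, eq_comm]
  · simp [(hb.2.2 i j).2]

/-- the Gram matrix of an elliptic family. -/
theorem gram_ell_eq {n k : ℕ} (Q : QuadraticForm F (Fin n → F))
    (b : (Fin k ⊕ Fin k) ⊕ Fin 2 → (Fin n → F)) (ζ : F)
    (hb : IsHyp Q (fun i => b (Sum.inl (Sum.inl i))) (fun i => b (Sum.inl (Sum.inr i))))
    (hort : ∀ i (c : Fin 2), polar Q (b (Sum.inl (Sum.inl i))) (b (Sum.inr c)) = 0 ∧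
        polar Q (b (Sum.inl (Sum.inr i))) (b (Sum.inr c)) = 0)
    (hx : Q (b (Sum.inr 0)) = 1) (hxy : polar Q (b (Sum.inr 0)) (b (Sum.inr 1)) = 1)
    (hy : Q (b (Sum.inr 1)) = ζ) :
    (Matrix.of (fun i j : (Fin k ⊕ Fin k) ⊕ Fin 2 => polar Q (b i) (b j))) =
      Cfsg.Agent.S2621.gramMinus k 1 ζ := by
  have hxx : polar Q (b (Sum.inr 0)) (b (Sum.inr 0)) = 2 := by rw [polar_self, hx]; simp
  have hyy : polar Q (b (Sum.inr 1)) (b (Sum.inr 1)) = 2 * ζ := by rw [polar_self, hy]; simp
  have hyx : polar Q (b (Sum.inr 1)) (b (Sum.inr 0)) = 1 := by rw [polar_comm]; exact hxy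
  ext i j
  unfold Cfsg.Agent.S2621.gramMinus
  rcases i with (i | i) | i <;> rcases j with (j | j) | j
  · simp [(hb.2.2 i j).1]
  · simp [hb.2.1 i j, Matrix.one_apply]
  · simp [(hort i j).1]
  · rw [Matrix.of_apply, polar_comm, hb.2.1 j i]
    simp [Matrix.one_apply, eq_comm]
  · simp [(hb.2.2 i j).2]
  · simp [(hort i j).2]
  · rw [Matrix.of_apply, polar_comm, (hort j i).1]
    simp
  · rw [Matrix.of_apply, polar_comm, (hort j i).2]
    simp
  · fin_cases i <;> fin_cases j
    · simpa using hxx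
    · simpa using hxy
    · simpa using hyx
    · simpa using hyy

/-- the Gram matrix of a parabolic family. -/
theorem gram_odd_eq {n k : ℕ} (Q : QuadraticForm F (Fin n → F))
    (b : Unit ⊕ (Fin k ⊕ Fin k) → (Fin n → F))
    (hb : IsHyp Q (fun i => b (Sum.inr (Sum.inl i))) (fun i => b (Sum.inr (Sum.inr i))))
    (hort : ∀ i, polar Q (b (Sum.inl ())) (b (Sum.inr (Sum.inl i))) = 0 ∧
        polar Q (b (Sum.inl ())) (b (Sum.inr (Sum.inr i))) = 0) :
    Matrix.of (fun i j : Unit ⊕ (Fin k ⊕ Fin k) => polar Q (b i) (b j)) =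
      Matrix.fromBlocks (Matrix.of fun _ _ : Unit => polar Q (b (Sum.inl ())) (b (Sum.inl ())))
        0 0 (Matrix.fromBlocks (0 : Matrix (Fin k) (Fin k) F) 1 1 0) := by
  ext i j
  rcases i with i | i | i <;> rcases j with j | j | j
  · simp
  · simp [(hort j).1]
  · simp [(hort j).2]
  · rw [Matrix.of_apply, polar_comm, (hort i).1]; simp
  · simp [(hb.2.2 i j).1]
  · simp [hb.2.1 i j, Matrix.one_apply]
  · rw [Matrix.of_apply, polar_comm, (hort i).2]; simp
  · rw [Matrix.of_apply, polar_comm, hb.2.1 j i]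
    simp [Matrix.one_apply, eq_comm]
  · simp [(hb.2.2 i j).2]

theorem no_root_nonsq (h2 : (2 : F) ≠ 0) {ζ : F} (hζ : ∀ t : F, t ^ 2 + t + ζ ≠ 0) :
    ¬ IsSquare (1 - 4 * ζ) := by
  rintro ⟨r, hr⟩
  apply hζ ((-1 + r) / 2)
  field_simp
  linear_combination -hr

end

/-- Over a finite field of odd order, two quadratic forms on F^n with non-degenerate polar forms are isometric (related by an invertible linear change of variables) if and only if their discriminants (determinants of the Gram matrices of their polar forms) lie in the same square class. -/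
theorem result {F : Type*} [Field F] [Fintype F] (h2 : (2 : F) ≠ 0) {n : ℕ} (Q₁ Q₂ : QuadraticForm F (Fin n → F)) (h₁ : (QuadraticMap.polarBilin Q₁).Nondegenerate) (h₂ : (QuadraticMap.polarBilin Q₂).Nondegenerate) : (∃ g : (Fin n → F) ≃ₗ[F] (Fin n → F), ∀ v, Q₂ (g v) = Q₁ v) ↔ IsSquare ((Matrix.of (fun i j : Fin n => QuadraticMap.polar ⇑Q₁ (Pi.single i 1) (Pi.single j 1))).det * (Matrix.of (fun i j : Fin n => QuadraticMap.polar ⇑Q₂ (Pi.single i 1) (Pi.single j 1))).det) := by
  classical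
  change _ ↔ IsSquare ((gstd Q₁).det * (gstd Q₂).det)
  constructor
  · rintro ⟨g, hg⟩
    have hB : polarBilin Q₁ =
        LinearMap.BilinForm.comp (polarBilin Q₂) g.toLinearMap g.toLinearMap := by
      refine LinearMap.ext₂ (fun x y => ?_)
      rw [LinearMap.BilinForm.comp_apply]
      simp only [polarBilin_apply_apply, polar, LinearEquiv.coe_coe, ← map_add, hg]
    rw [gstd_eq, gstd_eq, hB, LinearMap.BilinForm.toMatrix'_comp, Matrix.det_mul, Matrix.det_mul,
      Matrix.det_transpose]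
    exact ⟨(LinearMap.toMatrix' g.toLinearMap).det *
      (LinearMap.BilinForm.toMatrix' (polarBilin Q₂)).det, by ring⟩
  · intro hsq
    -- transfer squareness to Gram determinants in other bases
    have transfer : ∀ {ι₁ ι₂ : Type} [Fintype ι₁] [DecidableEq ι₁] [Fintype ι₂] [DecidableEq ι₂]
        (b₁ : Basis ι₁ F (Fin n → F)) (b₂ : Basis ι₂ F (Fin n → F)),
        IsSquare ((Matrix.of (fun i j : ι₁ => polar Q₁ (b₁ i) (b₁ j))).det *
          (Matrix.of (fun i j : ι₂ => polar Q₂ (b₂ i) (b₂ j))).det) := by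
      intro ι₁ ι₂ _ _ _ _ b₁ b₂
      obtain ⟨d₁, hd₁, e₁⟩ := gram_rel Q₁ b₁
      obtain ⟨d₂, hd₂, e₂⟩ := gram_rel Q₂ b₂
      rw [e₁, e₂]
      have : d₁ * d₁ * (gstd Q₁).det * (d₂ * d₂ * (gstd Q₂).det) =
          (d₁ * d₂) * (d₁ * d₂) * ((gstd Q₁).det * (gstd Q₂).det) := by ring
      rw [this, Cfsg.Agent.S2620.isSquare_mul_sq (mul_ne_zero hd₁ hd₂)]
      exact hsq
    rcases Nat.even_or_odd' n with ⟨k, hk | hk⟩
    · rcases k with _ | k
      · subst hk
        refine ⟨LinearEquiv.refl _ _, fun v => ?_⟩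
        have hv : v = 0 := by
          funext i
          exact absurd i.2 (by omega)
        rw [hv]
        simp
      · have hV : finrank F (Fin n → F) = 2 * k + 2 := by simp [hk]; ring
        rcases even_basis Q₁ h₁ k hV with ⟨b₁, hb₁⟩ | ⟨b₁, ζ₁, hζ₁, hb₁, hort₁, hx₁, hxy₁, hy₁⟩ <;>
          rcases even_basis Q₂ h₂ k hV with ⟨b₂, hb₂⟩ | ⟨b₂, ζ₂, hζ₂, hb₂, hort₂, hx₂, hxy₂, hy₂⟩
        · -- both hyperbolic
          refine exists_isometry_of_gram h2 Q₁ Q₂ h₁ b₁ b₂ (fun i j => ?_)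
          have := congrFun (congrFun ((gram_hyp_eq Q₂ b₂ hb₂).trans (gram_hyp_eq Q₁ b₁ hb₁).symm) i) j
          simpa using this
        · -- hyperbolic / elliptic : impossible
          exfalso
          have ht := transfer b₁ b₂
          rw [gram_hyp_eq Q₁ b₁ hb₁, Cfsg.Agent.S2620.det_hyp,
            gram_ell_eq Q₂ b₂ ζ₂ hb₂ hort₂ hx₂ hxy₂ hy₂, Cfsg.Agent.S2621.det_gramMinus] at ht
          apply no_root_nonsq h2 hζ₂
          have e : (-1 : F) ^ (k + 1) * ((-1) ^ k * (4 * ζ₂ - 1 ^ 2)) = 1 - 4 * ζ₂ := by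
            have : ((-1 : F) ^ k) * ((-1 : F) ^ k) = 1 := by
              rw [← mul_pow]; simp
            rw [pow_succ]
            linear_combination (-(4 * ζ₂ - 1)) * this
          rwa [e] at ht
        · exfalso
          have ht := transfer b₁ b₂
          rw [gram_hyp_eq Q₂ b₂ hb₂, Cfsg.Agent.S2620.det_hyp,
            gram_ell_eq Q₁ b₁ ζ₁ hb₁ hort₁ hx₁ hxy₁ hy₁, Cfsg.Agent.S2621.det_gramMinus] at ht
          apply no_root_nonsq h2 hζ₁
          have e : ((-1 : F) ^ k * (4 * ζ₁ - 1 ^ 2)) * (-1 : F) ^ (k + 1) = 1 - 4 * ζ₁ := by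
            have : ((-1 : F) ^ k) * ((-1 : F) ^ k) = 1 := by
              rw [← mul_pow]; simp
            rw [pow_succ]
            linear_combination (-(4 * ζ₁ - 1)) * this
          rwa [e] at ht
        · -- both elliptic: adjust ζ
          have hn1 := no_root_nonsq h2 hζ₁
          have hn2 := no_root_nonsq h2 hζ₂
          have hD1 : (1 - 4 * ζ₁) ≠ 0 := by
            intro h0; apply hn1; rw [h0]; exact ⟨0, by simp⟩
          have hD2 : (1 - 4 * ζ₂) ≠ 0 := by
            intro h0; apply hn2; rw [h0]; exact ⟨0, by simp⟩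
          obtain ⟨r, hr⟩ := (Cfsg.Agent.S2621.isSquare_mul_nonsq hD1 hn2).2 hn1
          have hr0 : r ≠ 0 := by
            rintro rfl
            rw [mul_zero] at hr
            exact mul_ne_zero hD1 hD2 hr
          obtain ⟨s, hs0, hsD⟩ : ∃ s : F, s ≠ 0 ∧ (1 - 4 * ζ₂) = (1 - 4 * ζ₁) * s ^ 2 := by
            refine ⟨r / (1 - 4 * ζ₁), div_ne_zero hr0 hD1, ?_⟩
            field_simp
            linear_combination hr
          let v' : (Fin k ⊕ Fin k) ⊕ Fin 2 → (Fin n → F) :=
            Sum.elim (fun i => b₂ (Sum.inl i))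
              ![b₂ (Sum.inr 0), ((1 - s⁻¹) / 2) • b₂ (Sum.inr 0) + s⁻¹ • b₂ (Sum.inr 1)]
          refine exists_isometry_of_gram h2 Q₁ Q₂ h₁ b₁ v' (fun i j => ?_)
          have hxx : polar Q₂ (b₂ (Sum.inr 0)) (b₂ (Sum.inr 0)) = 2 := by
            rw [polar_self, hx₂]; simp
          have hG2 := gram_ell_eq Q₂ v' ζ₁ (by simpa [v'] using hb₂)
            (fun i c => by
              fin_cases c
              · simpa [v'] using hort₂ i 0
              · simp only [v', Sum.elim_inl, Sum.elim_inr, Fin.mk_one, Matrix.cons_val_one,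
                  Matrix.cons_val_fin_one]
                rw [polar_add_right, polar_add_right, polar_smul_right, polar_smul_right,
                  polar_smul_right, polar_smul_right, (hort₂ i 0).1,
                  (hort₂ i 1).1, (hort₂ i 0).2, (hort₂ i 1).2]
                simp)
            (by simpa [v'] using hx₂)
            (by
              simp only [v', Sum.elim_inr, Matrix.cons_val_zero, Matrix.cons_val_one,
                Matrix.cons_val_fin_one]
              rw [polar_add_right, polar_smul_right, polar_smul_right, hxx, hxy₂]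
              simp only [smul_eq_mul]
              field_simp
              ring)
            (by
              simp only [v', Sum.elim_inr, Matrix.cons_val_one, Matrix.cons_val_fin_one]
              rw [QuadraticMap.map_add (⇑Q₂), QuadraticMap.map_smul, QuadraticMap.map_smul,
                polar_smul_left, polar_smul_right, hx₂, hy₂, hxy₂]
              simp only [smul_eq_mul]
              field_simp
              linear_combination (-1 : F) * hsD)
          have hG1 := gram_ell_eq Q₁ b₁ ζ₁ hb₁ hort₁ hx₁ hxy₁ hy₁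
          have := congrFun (congrFun (hG2.trans hG1.symm) i) j
          simpa using this
    · -- odd dimension
      have hV : finrank F (Fin n → F) = 2 * k + 1 := by simp [hk]
      obtain ⟨b₁, hp₁, hb₁, hort₁⟩ := odd_basis Q₁ h₁ k hV
      obtain ⟨b₂, hp₂, hb₂, hort₂⟩ := odd_basis Q₂ h₂ k hV
      have ht := transfer b₁ b₂
      rw [gram_odd_eq Q₁ b₁ hb₁ hort₁, gram_odd_eq Q₂ b₂ hb₂ hort₂, Matrix.det_fromBlocks_zero₂₁,
        Matrix.det_fromBlocks_zero₂₁, Cfsg.Agent.S2620.det_hyp, Matrix.det_unique,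
        Matrix.det_unique] at ht
      simp only [Matrix.of_apply] at ht
      set p₁ := polar Q₁ (b₁ (Sum.inl ())) (b₁ (Sum.inl ())) with hp₁def
      set p₂ := polar Q₂ (b₂ (Sum.inl ())) (b₂ (Sum.inl ())) with hp₂def
      have e : p₁ * (-1) ^ k * (p₂ * (-1) ^ k) = p₁ * p₂ := by
        have : ((-1 : F) ^ k) * ((-1 : F) ^ k) = 1 := by
          rw [← mul_pow]; simp
        linear_combination (p₁ * p₂) * this
      rw [e] at ht
      obtain ⟨r, hr⟩ := ht
      have hr0 : r ≠ 0 := by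
        rintro rfl
        rw [mul_zero] at hr
        exact mul_ne_zero hp₁ hp₂ hr
      set s : F := r / p₁ with hs
      have hs0 : s ≠ 0 := div_ne_zero hr0 hp₁
      have hsp : p₂ = p₁ * s ^ 2 := by
        rw [hs]; field_simp; linear_combination hr
      let v' : Unit ⊕ (Fin k ⊕ Fin k) → (Fin n → F) :=
        Sum.elim (fun _ => s⁻¹ • b₂ (Sum.inl ())) (fun i => b₂ (Sum.inr i))
      refine exists_isometry_of_gram h2 Q₁ Q₂ h₁ b₁ v' (fun i j => ?_)
      have hG2 := gram_odd_eq Q₂ v' (by simpa [v'] using hb₂)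
        (fun i => by
          simp only [v', Sum.elim_inl, Sum.elim_inr]
          rw [polar_smul_left, polar_smul_left, (hort₂ i).1, (hort₂ i).2]
          simp)
      have hpp : polar Q₂ (v' (Sum.inl ())) (v' (Sum.inl ())) = p₁ := by
        simp only [v', Sum.elim_inl]
        rw [polar_smul_left, polar_smul_right, ← hp₂def, hsp]
        simp only [smul_eq_mul]
        field_simp
      rw [hpp] at hG2
      have hG1 := gram_odd_eq Q₁ b₁ hb₁ hort₁
      have := congrFun (congrFun (hG2.trans hG1.symm) i) j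
      simpa using this

end Cfsg.Agent.S2623
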