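import Cfsg.Statements.S2625
import Mathlib

set_option autoImplicit false
open scoped Pointwise
open Cfsg Matrix

namespace Cfsg.Agent.S2625

theorem result {F : Type*} [Field F] [Fintype F] {n : ℕ} (hn : Odd n) (Q : QuadraticForm F (Fin n → F)) (hQ : (QuadraticMap.polarBilin Q).Nondegenerate) (g : (Fin n → F) ≃ₗ[F] (Fin n → F)) (c : F) (hg : ∀ v, Q (g v) = c * Q v) : IsSquare c := by
  by_cases h2 : ringChar F = 2
  · exact FiniteField.isSquare_of_char_two h2 c
  set B := QuadraticMap.polarBilin Q with hB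
  have hdet : (LinearMap.BilinForm.toMatrix' B).det ≠ 0 := by
    rw [← Matrix.nondegenerate_iff_det_ne_zero, LinearMap.BilinForm.nondegenerate_toMatrix'_iff]
    exact hQ
  -- B (g u) (g v) = c * B u v
  have hBg : LinearMap.BilinForm.comp B (g : (Fin n → F) →ₗ[F] (Fin n → F))
      (g : (Fin n → F) →ₗ[F] (Fin n → F)) = c • B := by
    refine LinearMap.ext fun u => LinearMap.ext fun v => ?_
    simp only [LinearMap.BilinForm.comp_apply, LinearEquiv.coe_coe, LinearMap.smul_apply, smul_eq_mul,
      hB, QuadraticMap.polarBilin_apply_apply, QuadraticMap.polar]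
    rw [← map_add, hg, hg, hg]
    ring
  have hmat := congrArg LinearMap.BilinForm.toMatrix' hBg
  rw [LinearMap.BilinForm.toMatrix'_comp, map_smul] at hmat
  have hd := congrArg Matrix.det hmat
  rw [Matrix.det_mul, Matrix.det_mul, Matrix.det_transpose, Matrix.det_smul, Fintype.card_fin] at hd
  set d := (LinearMap.toMatrix' (g : (Fin n → F) →ₗ[F] (Fin n → F))).det with hdd
  have hcn : c ^ n = d * d := by
    have : (d * d - c ^ n) * (LinearMap.BilinForm.toMatrix' B).det = 0 := by
      linear_combination hd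
    rcases mul_eq_zero.1 this with h | h
    · exact (sub_eq_zero.1 h).symm
    · exact absurd h hdet
  obtain ⟨k, hk⟩ := hn
  have hd0 : d ≠ 0 := by
    rw [hdd]
    have := LinearEquiv.isUnit_det' g
    rw [← LinearMap.det_toMatrix'] at this
    exact this.ne_zero
  have hc0 : c ≠ 0 := by
    rintro rfl
    rw [hk, zero_pow (by omega)] at hcn
    exact hd0 (mul_self_eq_zero.1 hcn.symm)
  refine ⟨d / c ^ k, ?_⟩
  have hck : c ^ k ≠ 0 := pow_ne_zero _ hc0
  field_simp
  rw [hk] at hcn
  linear_combination hcn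

end Cfsg.Agent.S2625
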