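import Cfsg.Statements.S2626
import Mathlib

set_option autoImplicit false
open scoped Pointwise
open Cfsg Matrix

namespace Cfsg.Agent.S2626

section
variable {F : Type*} [Field F] {k l : ℕ}

/-- block diagonal embedding of matrices as a monoid hom. -/
def blockHom (F : Type*) [Field F] (k l : ℕ) :
    Matrix (Fin k) (Fin k) F × Matrix (Fin l) (Fin l) F →* Matrix (Fin k ⊕ Fin l) (Fin k ⊕ Fin l) F where
  toFun p := Matrix.fromBlocks p.1 0 0 p.2
  map_one' := Matrix.fromBlocks_one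
  map_mul' p q := by
    simp [Matrix.fromBlocks_multiply]

/-- block diagonal embedding of general linear groups. -/
def blockGL (F : Type*) [Field F] (k l : ℕ) :
    GL (Fin k) F × GL (Fin l) F →* GL (Fin k ⊕ Fin l) F :=
  (Units.map (blockHom F k l)).comp (MulEquiv.prodUnits.symm.toMonoidHom)

lemma blockGL_coe (g₁ : GL (Fin k) F) (g₂ : GL (Fin l) F) :
    ((blockGL F k l (g₁, g₂) : GL (Fin k ⊕ Fin l) F) : Matrix (Fin k ⊕ Fin l) (Fin k ⊕ Fin l) F) =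
      Matrix.fromBlocks (g₁ : Matrix (Fin k) (Fin k) F) 0 0 (g₂ : Matrix (Fin l) (Fin l) F) := rfl

lemma mem_isometryGroup {ι : Type} [Fintype ι] [DecidableEq ι] {Q : (ι → F) → F} {g : GL ι F} :
    g ∈ Cfsg.isometryGroup F Q ↔ ∀ v, Q ((g : Matrix ι ι F) *ᵥ v) = Q v := by
  constructor
  · intro h v; exact h v v
  · intro h u v; exact h u

end

theorem result {F : Type*} [Field F] [Fintype F] {k l : ℕ} (Q₁ : QuadraticForm F (Fin k → F)) (Q₂ : QuadraticForm F (Fin l → F)) (h₁ : (QuadraticMap.polarBilin Q₁).Nondegenerate) (h₂ : (QuadraticMap.polarBilin Q₂).Nondegenerate) (g₁ : ↥(Cfsg.isometryGroup F ⇑Q₁)) (g₂ : ↥(Cfsg.isometryGroup F ⇑Q₂)) (hg₁ : g₁ ∈ Cfsg.Omega F ⇑Q₁) (hg₂ : g₂ ∈ Cfsg.Omega F ⇑Q₂) : ∃ g : ↥(Cfsg.isometryGroup F (fun v : Fin k ⊕ Fin l → F => Q₁ (v ∘ Sum.inl) + Q₂ (v ∘ Sum.inr))), g ∈ Cfsg.Omega F (fun v : Fin k ⊕ Fin l → F => Q₁ (v ∘ Sum.inl) + Q₂ (v ∘ Sum.inr)) ∧ ((g : Matrix.GeneralLinearGroup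 (Fin k ⊕ Fin l) F) : Matrix (Fin k ⊕ Fin l) (Fin k ⊕ Fin l) F) = Matrix.fromBlocks ((g₁ : Matrix.GeneralLinearGroup (Fin k) F) : Matrix (Fin k) (Fin k) F) 0 0 ((g₂ : Matrix.GeneralLinearGroup (Fin l) F) : Matrix (Fin l) (Fin l) F) := by
  classical
  set Q : (Fin k ⊕ Fin l → F) → F := fun v => Q₁ (v ∘ Sum.inl) + Q₂ (v ∘ Sum.inr) with hQ
  -- the homomorphism O(Q₁) × O(Q₂) → O(Q)
  have hmem : ∀ p : ↥(Cfsg.isometryGroup F ⇑Q₁) × ↥(Cfsg.isometryGroup F ⇑Q₂),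
      blockGL F k l ((p.1 : GL (Fin k) F), (p.2 : GL (Fin l) F)) ∈ Cfsg.isometryGroup F Q := by
    intro p
    rw [mem_isometryGroup]
    intro v
    rw [blockGL_coe, Matrix.fromBlocks_mulVec]
    simp only [hQ, Matrix.zero_mulVec, add_zero, zero_add]
    have e1 : (Sum.elim (((p.1 : GL (Fin k) F) : Matrix (Fin k) (Fin k) F) *ᵥ (v ∘ Sum.inl))
        (((p.2 : GL (Fin l) F) : Matrix (Fin l) (Fin l) F) *ᵥ (v ∘ Sum.inr))) ∘ Sum.inl =
        ((p.1 : GL (Fin k) F) : Matrix (Fin k) (Fin k) F) *ᵥ (v ∘ Sum.inl) := by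
      ext i; simp
    have e2 : (Sum.elim (((p.1 : GL (Fin k) F) : Matrix (Fin k) (Fin k) F) *ᵥ (v ∘ Sum.inl))
        (((p.2 : GL (Fin l) F) : Matrix (Fin l) (Fin l) F) *ᵥ (v ∘ Sum.inr))) ∘ Sum.inr =
        ((p.2 : GL (Fin l) F) : Matrix (Fin l) (Fin l) F) *ᵥ (v ∘ Sum.inr) := by
      ext i; simp
    rw [e1, e2, mem_isometryGroup.1 p.1.2, mem_isometryGroup.1 p.2.2]
  let Ψ : ↥(Cfsg.isometryGroup F ⇑Q₁) × ↥(Cfsg.isometryGroup F ⇑Q₂) →* ↥(Cfsg.isometryGroup F Q) :=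
    ((blockGL F k l).comp (MonoidHom.prodMap (Subgroup.subtype _) (Subgroup.subtype _))).codRestrict
      (Cfsg.isometryGroup F Q) hmem
  have hcomm : ∀ p, p ∈ commutator (↥(Cfsg.isometryGroup F ⇑Q₁) × ↥(Cfsg.isometryGroup F ⇑Q₂)) →
      Ψ p ∈ commutator ↥(Cfsg.isometryGroup F Q) := by
    intro p hp
    have h1 : Ψ p ∈ (commutator _).map Ψ := Subgroup.mem_map_of_mem _ hp
    rw [commutator_def, Subgroup.map_commutator] at h1
    rw [commutator_def]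
    exact Subgroup.commutator_mono le_top le_top h1
  -- (g₁, g₂) is in the commutator subgroup of the product
  have hp : (g₁, g₂) ∈ commutator (↥(Cfsg.isometryGroup F ⇑Q₁) × ↥(Cfsg.isometryGroup F ⇑Q₂)) := by
    have e : (g₁, g₂) = (MonoidHom.inl _ _ g₁) * (MonoidHom.inr _ _ g₂) := by
      ext <;> simp
    rw [e]
    apply Subgroup.mul_mem
    · have h1 : MonoidHom.inl _ _ g₁ ∈ (commutator _).map
          (MonoidHom.inl ↥(Cfsg.isometryGroup F ⇑Q₁) ↥(Cfsg.isometryGroup F ⇑Q₂)) :=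
        Subgroup.mem_map_of_mem _ hg₁
      rw [commutator_def, Subgroup.map_commutator] at h1
      rw [commutator_def]
      exact Subgroup.commutator_mono le_top le_top h1
    · have h1 : MonoidHom.inr _ _ g₂ ∈ (commutator _).map
          (MonoidHom.inr ↥(Cfsg.isometryGroup F ⇑Q₁) ↥(Cfsg.isometryGroup F ⇑Q₂)) :=
        Subgroup.mem_map_of_mem _ hg₂
      rw [commutator_def, Subgroup.map_commutator] at h1
      rw [commutator_def]
      exact Subgroup.commutator_mono le_top le_top h1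
  exact ⟨Ψ (g₁, g₂), hcomm _ hp, rfl⟩

end Cfsg.Agent.S2626
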