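import Cfsg.Statements.S2627
import Mathlib
import Cfsg.Agent.Lib.Helper5.Orth.SpinorSum

set_option autoImplicit false
open Cfsg

namespace Cfsg.Agent.S2627

/-- For an orthogonal direct sum Q = Q₁ ⊕ Q₂ of quadratic forms with non-degenerate polar forms over a finite field, an isometry g₁ of Q₁ extended by the identity on the second summand lies in Ω(Q) (the commutator subgroup of the orthogonal group of Q) if and only if g₁ lies in Ω(Q₁). (Excluded: the field of two elements when the first summand or the whole space has dimension 4, where the commutator subgroup of O⁺₄(2) is smaller than the group usually called Ω.) -/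
theorem result {F : Type*} [Field F] [Fintype F] {k l : ℕ} (h : Fintype.card F ≠ 2 ∨ (k ≠ 4 ∧ k + l ≠ 4)) (Q₁ : QuadraticForm F (Fin k → F)) (Q₂ : QuadraticForm F (Fin l → F)) (h₁ : (QuadraticMap.polarBilin Q₁).Nondegenerate) (h₂ : (QuadraticMap.polarBilin Q₂).Nondegenerate) (g₁ : ↥(Cfsg.isometryGroup F ⇑Q₁)) : (∃ g : ↥(Cfsg.isometryGroup F (fun v : Fin k ⊕ Fin l → F => Q₁ (v ∘ Sum.inl) + Q₂ (v ∘ Sum.inr))), g ∈ Cfsg.Omega F (fun v : Fin k ⊕ Fin l → F => Q₁ (v ∘ Sum.inl) + Q₂ (v ∘ Sum.inr)) ∧ ((g : Matrix.GeneralLinearGroup (Fin k ⊕ Fin l) F) : Matrix (Fin k ⊕ Fin l) (Fin k ⊕ Fin l) F) = Matrix.fromBlocks ((g₁ : Matrix.GeneralLinearGroup (Fin k) F) : Matrix (Fin k) (Fin k) F) 0 0 1) ↔ g₁ ∈ Cfsg.Omega F ⇑Q₁ := by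
  classical
  have h₁' := Cfsg.Agent.H9.Orth.isNondeg_of_quadraticForm Q₁ h₁
  have h₂' := Cfsg.Agent.H9.Orth.isNondeg_of_quadraticForm Q₂ h₂
  have hc₁ : Fintype.card F ≠ 2 ∨ Fintype.card (Fin k) ≠ 4 := by
    rcases h with h | h
    · exact Or.inl h
    · right; rw [Fintype.card_fin]; exact h.1
  have hc : Fintype.card F ≠ 2 ∨ Fintype.card (Fin k ⊕ Fin l) ≠ 4 := by
    rcases h with h | h
    · exact Or.inl h
    · right; rw [Fintype.card_sum, Fintype.card_fin, Fintype.card_fin]; exact h.2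
  have key := Cfsg.Agent.Lib.Helper5.OrthSN.blockGL_one_mem_omega_iff h₁' h₂' hc₁ hc g₁
  constructor
  · rintro ⟨g, hgΩ, hg⟩
    have hgg : g = ⟨Cfsg.Agent.Lib.Helper5.OrthPar.blockGL (g₁ : Matrix.GeneralLinearGroup (Fin k) F) 1,
        Cfsg.Agent.Lib.Helper5.OrthPar.blockGL_mem _ _ g₁.2 (one_mem _)⟩ := by
      apply Subtype.ext
      apply Units.ext
      rw [hg]
      show _ = ((Cfsg.Agent.Lib.Helper5.OrthPar.blockGL
        (g₁ : Matrix.GeneralLinearGroup (Fin k) F) 1 : Matrix.GeneralLinearGroup (Fin k ⊕ Fin l) F) :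
          Matrix (Fin k ⊕ Fin l) (Fin k ⊕ Fin l) F)
      rw [Cfsg.Agent.Lib.Helper5.OrthPar.blockGL_val]
      simp
    rw [hgg] at hgΩ
    exact key.1 hgΩ
  · intro hg
    refine ⟨_, key.2 hg, ?_⟩
    show ((Cfsg.Agent.Lib.Helper5.OrthPar.blockGL
        (g₁ : Matrix.GeneralLinearGroup (Fin k) F) 1 : Matrix.GeneralLinearGroup (Fin k ⊕ Fin l) F) :
          Matrix (Fin k ⊕ Fin l) (Fin k ⊕ Fin l) F) = _
    rw [Cfsg.Agent.Lib.Helper5.OrthPar.blockGL_val]
    simp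

end Cfsg.Agent.S2627
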