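import Mathlib
import Cfsg.Statements.S2637
import Cfsg.Agent.Lib.Helper8.Ord3C
import Cfsg.Agent.H9.SympForm
import Cfsg.Agent.Lib.Helper5.Symp
import Cfsg.Agent.S2677

set_option autoImplicit false
open Cfsg

namespace Cfsg.Agent.S2637

open Module Matrix Cfsg.Agent.Lib.Helper8.Ord3 Cfsg.Agent.H9.SympForm Cfsg.Agent.Lib.Helper5.Symp

/-- Centraliser of a fixed-point-free element of order three in Sp_2m(q) when q ≡ 2 (mod 3): if x ∈ Sp_2m(F) (|F| = q, m ≥ 1) satisfies x³ = 1 and x − 1 is invertible, then its centraliser in Sp_2m(F) has the order of the unitary group GU_m(q), namely q^(m(m−1)/2) Π_(i=1)^m (q^i − (−1)^i) (x lies in the centre of a subgroup GU_m(q) of Sp_2m(q)). -/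
theorem result {F : Type*} [Field F] [Fintype F] {q : ℕ} (hF : Fintype.card F = q) (hq : q % 3 = 2) {m : ℕ} (hm : 1 ≤ m) (x : Matrix.symplecticGroup (Fin m) F) (hx3 : x ^ 3 = 1) (hfpf : IsUnit ((x : Matrix (Fin m ⊕ Fin m) (Fin m ⊕ Fin m) F) - 1)) : (Nat.card ↥(Subgroup.centralizer ({x} : Set ↥(Matrix.symplecticGroup (Fin m) F))) : ℤ) = (q : ℤ) ^ (m * (m - 1) / 2) * ∏ i : Fin m, ((q : ℤ) ^ ((i : ℕ) + 1) - (-1) ^ ((i : ℕ) + 1)) := by
  haveI : Fact (Irreducible (f3 F)) := ⟨f3_irreducible hF hq⟩
  set A : Matrix (Fin m ⊕ Fin m) (Fin m ⊕ Fin m) F :=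
    (x : Matrix (Fin m ⊕ Fin m) (Fin m ⊕ Fin m) F) with hA
  have hA3 : A ^ 3 = 1 := by
    have := congrArg (fun z : ↥(Matrix.symplecticGroup (Fin m) F) =>
      (z : Matrix (Fin m ⊕ Fin m) (Fin m ⊕ Fin m) F)) hx3
    simpa using this
  have hA2 : A * A + A + 1 = 0 := by
    obtain ⟨w, hw⟩ := hfpf.exists_left_inv
    have h1 : (A - 1) * (A * A + A + 1) = 0 := by
      have : (A - 1) * (A * A + A + 1) = A ^ 3 - 1 := by noncomm_ring
      rw [this, hA3, sub_self]
    have h3 := congrArg (fun z => w * z) h1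
    simp only [mul_zero] at h3
    rw [← mul_assoc, hw, one_mul] at h3
    exact h3
  haveI hxf : Fact (A.mulVecLin * A.mulVecLin + A.mulVecLin + 1 = 0) := ⟨by
    have h1 : (A * A + A + 1).mulVecLin = A.mulVecLin * A.mulVecLin + A.mulVecLin + 1 := by
      rw [Matrix.mulVecLin_add, Matrix.mulVecLin_add, Matrix.mulVecLin_mul, Matrix.mulVecLin_one]
      rfl
    rw [← h1, hA2]
    simp⟩
  have hV : finrank F (Fin m ⊕ Fin m → F) = 2 * m := by
    rw [finrank_fintype_fun_eq_card, Fintype.card_sum, Fintype.card_fin, two_mul]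
  have hskew : ∀ u v, sympB m F u v = - sympB m F v u := by
    intro u v
    have h4 := sympB_self m F (u + v)
    simp only [map_add, LinearMap.add_apply, sympB_self] at h4
    linear_combination h4
  have hnd : ∀ u, (∀ v, sympB m F u v = 0) → u = 0 := by
    intro u hu
    by_contra hne
    obtain ⟨v, hv⟩ := sympB_nondeg m F u hne
    exact hv (hu v)
  have key := card_commuting_isometries (sympB m F) A.mulVecLin hF hq hskew
    (fun u v => sympB_mulVec m F x.2 u v) hV hnd
  have e : ↥(Subgroup.centralizer ({x} : Set ↥(Matrix.symplecticGroup (Fin m) F))) ≃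
      {g : (Fin m ⊕ Fin m → F) →ₗ[F] (Fin m ⊕ Fin m → F) //
        Commute g A.mulVecLin ∧ ∀ u v, sympB m F (g u) (g v) = sympB m F u v} :=
    { toFun := fun a => ⟨((a.1 : ↥(Matrix.symplecticGroup (Fin m) F)) :
          Matrix (Fin m ⊕ Fin m) (Fin m ⊕ Fin m) F).mulVecLin, by
        have h1 := Subgroup.mem_centralizer_singleton_iff.1 a.2
        have h3 := congrArg (fun z : ↥(Matrix.symplecticGroup (Fin m) F) =>
          (z : Matrix (Fin m ⊕ Fin m) (Fin m ⊕ Fin m) F)) h1
        simp only [Submonoid.coe_mul] at h3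
        apply LinearMap.ext
        intro y
        simp only [Module.End.mul_apply, Matrix.mulVecLin_apply, Matrix.mulVec_mulVec]
        rw [h3], fun u v => sympB_mulVec m F a.1.2 u v⟩
      invFun := fun c => ⟨⟨LinearMap.toMatrix' c.1, by
          apply mem_of_sympForm
          intro u v
          rw [← sympB_apply, ← sympB_apply]
          have := c.2.2 u v
          rw [← Matrix.toLin'_apply, ← Matrix.toLin'_apply, Matrix.toLin'_toMatrix']
          exact this⟩, by
        rw [Subgroup.mem_centralizer_singleton_iff]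
        apply Subtype.ext
        rw [Submonoid.coe_mul, Submonoid.coe_mul]
        show LinearMap.toMatrix' c.1 * A = A * LinearMap.toMatrix' c.1
        have h6 : LinearMap.toMatrix' A.mulVecLin = A := LinearMap.toMatrix'_toLin' A
        have h5 := congrArg LinearMap.toMatrix' c.2.1.eq
        rw [LinearMap.toMatrix'_mul, LinearMap.toMatrix'_mul, h6] at h5
        exact h5⟩
      left_inv := fun a => by
        apply Subtype.ext
        apply Subtype.ext
        exact LinearMap.toMatrix'_toLin' _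
      right_inv := fun c => by
        apply Subtype.ext
        exact Matrix.toLin'_toMatrix' _ }
  rw [Nat.card_congr e, key]
  have hq1 : 1 ≤ q := by omega
  rw [← Cfsg.Agent.S2677.cast_formula q m hq1]
  congr 1
  rw [Finset.prod_mul_distrib, Finset.prod_pow_eq_pow_sum, Finset.sum_range_id]

end Cfsg.Agent.S2637
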