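import Cfsg.Statements.S2638
import Mathlib
import Cfsg.Agent.H9.IrredOp

set_option autoImplicit false

namespace Cfsg.Agent.S2638

open Module Matrix Polynomial Cfsg.Agent.H9.IrredOp

section counting

variable {F : Type*} [Field F] [Finite F] {V : Type*} [AddCommGroup V] [Module F V]
  [FiniteDimensional F V]

/-- fixed-point congruence on an invariant subspace. -/
theorem card_modEq (X : Module.End F V) {r : ℕ} [Fact r.Prime] (hX : X ^ r = 1)
    (U : Submodule F V) (hU : U ≤ U.comap X) :
    Nat.card U ≡ Nat.card (U ⊓ LinearMap.ker (X - 1) : Submodule F V) [MOD r] := by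
  classical
  have : Finite V := Module.finite_of_finite F
  have : Fintype U := Fintype.ofFinite U
  let f : Function.End U := fun u => ⟨X u, hU u.2⟩
  have hfk : ∀ (k : ℕ) (u : U), (((f ^ k) u : U) : V) = (X ^ k) u := by
    intro k
    induction k with
    | zero => intro u; rfl
    | succ k ih =>
      intro u
      rw [pow_succ, pow_succ, Module.End.mul_apply]
      change (((f ^ k) (f u) : U) : V) = _
      rw [ih]
  have hf : f ^ r ^ 1 = 1 := by
    rw [pow_one]
    funext u
    apply Subtype.ext
    rw [hfk, hX]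
    rfl
  have h1 := Equiv.Perm.card_fixedPoints_modEq (p := r) (n := 1) (f := f) hf
  rw [← Nat.card_eq_fintype_card, ← Nat.card_eq_fintype_card] at h1
  have h2 : Nat.card (Function.fixedPoints f) =
      Nat.card (U ⊓ LinearMap.ker (X - 1) : Submodule F V) := by
    apply Nat.card_congr
    refine ⟨fun u => ⟨u.1.1, ⟨u.1.2, ?_⟩⟩, fun v => ⟨⟨v.1, v.2.1⟩, ?_⟩, ?_, ?_⟩
    · have := u.2
      have h3 : X u.1.1 = u.1.1 := congrArg Subtype.val this
      rw [SetLike.mem_coe, LinearMap.mem_ker, LinearMap.sub_apply, h3, Module.End.one_apply, sub_self]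
    · have h3 := v.2.2
      rw [SetLike.mem_coe, LinearMap.mem_ker, LinearMap.sub_apply, Module.End.one_apply,
        sub_eq_zero] at h3
      exact Subtype.ext h3
    · intro u; rfl
    · intro v; rfl
  rw [h2] at h1
  exact h1

end counting

/-- If an element x of GL_n(q), n ≥ 1, has prime order r and the multiplicative order of q modulo r is n (r is a primitive prime divisor of q^n − 1, so x acts irreducibly), then the centraliser of x in GL_n(q) is cyclic of order q^n − 1 (the multiplicative group of the field with q^n elements, a Singer cycle). -/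
theorem result {F : Type*} [Field F] [Fintype F] {p q : ℕ} [Fact p.Prime] [CharP F p] (hF : Fintype.card F = q) {n r : ℕ} (hn : 1 ≤ n) (hr : r.Prime) (hrp : r ≠ p) (hi : orderOf (q : ZMod r) = n) (x : GL (Fin n) F) (hx : orderOf x = r) : IsCyclic ↥(Subgroup.centralizer ({x} : Set (GL (Fin n) F))) ∧ Nat.card ↥(Subgroup.centralizer ({x} : Set (GL (Fin n) F))) = q ^ n - 1 := by
  classical
  have hrF : Fact r.Prime := ⟨hr⟩
  have hV : Nontrivial (Fin n → F) := by
    have : Nonempty (Fin n) := ⟨⟨0, hn⟩⟩
    infer_instance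
  set X : Module.End F (Fin n → F) := Matrix.toLin' (x : Matrix (Fin n) (Fin n) F) with hX
  have hXr : X ^ r = 1 := by
    rw [hX, ← Matrix.toLin'_pow, ← Units.val_pow_eq_pow_val, ← hx, pow_orderOf_eq_one, Units.val_one,
      Matrix.toLin'_one]
    rfl
  have hX1 : X ≠ 1 := by
    intro h1
    have h2 : (x : Matrix (Fin n) (Fin n) F) = 1 := by
      apply Matrix.toLin'.injective
      rw [Matrix.toLin'_one]
      exact h1
    have h3 : x = 1 := Units.ext h2
    rw [h3, orderOf_one] at hx
    exact hr.one_lt.ne hx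
  have hq0 : (q : ZMod r) ≠ 0 := by
    intro h0
    have h1 : (q : ZMod r) ^ n = 1 := by rw [← hi]; exact pow_orderOf_eq_one _
    rw [h0, zero_pow (by omega)] at h1
    exact zero_ne_one h1
  have hVfin : Finite (Fin n → F) := inferInstance
  -- the key congruence consequence
  have key : ∀ U : Submodule F (Fin n → F), U ≤ U.comap X →
      n ∣ finrank F U - finrank F (U ⊓ LinearMap.ker (X - 1) : Submodule F (Fin n → F)) := by
    intro U hU
    have h1 := card_modEq X hXr U hU
    rw [Module.natCard_eq_pow_finrank (K := F) (V := U),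
      Module.natCard_eq_pow_finrank (K := F)
        (V := (U ⊓ LinearMap.ker (X - 1) : Submodule F (Fin n → F))),
      Nat.card_eq_fintype_card, hF] at h1
    have hle : finrank F (U ⊓ LinearMap.ker (X - 1) : Submodule F (Fin n → F)) ≤ finrank F U :=
      Submodule.finrank_mono inf_le_left
    set d := finrank F U
    set e := finrank F (U ⊓ LinearMap.ker (X - 1) : Submodule F (Fin n → F))
    have h2 : ((q ^ d : ℕ) : ZMod r) = ((q ^ e : ℕ) : ZMod r) :=
      (ZMod.natCast_eq_natCast_iff _ _ _).2 h1
    rw [Nat.cast_pow, Nat.cast_pow] at h2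
    have h3 : (q : ZMod r) ^ (d - e) = 1 := by
      have h4 : (q : ZMod r) ^ e * (q : ZMod r) ^ (d - e) = (q : ZMod r) ^ e * 1 := by
        rw [← pow_add, mul_one, Nat.add_sub_cancel' hle, h2]
      exact mul_left_cancel₀ (pow_ne_zero _ hq0) h4
    rw [← hi]
    exact orderOf_dvd_of_pow_eq_one h3
  have hdim : finrank F (Fin n → F) = n := by
    rw [Module.finrank_fintype_fun_eq_card, Fintype.card_fin]
  -- no fixed vectors
  have hfix : LinearMap.ker (X - 1) = ⊥ := by
    have h1 := key ⊤ le_top
    rw [top_inf_eq, finrank_top, hdim] at h1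
    have hlt : finrank F (LinearMap.ker (X - 1)) < n := by
      by_contra hcon
      push Not at hcon
      have h2 : LinearMap.ker (X - 1) = ⊤ := by
        apply Submodule.eq_top_of_finrank_eq
        rw [hdim]
        have := Submodule.finrank_le (LinearMap.ker (X - 1))
        rw [hdim] at this
        omega
      rw [LinearMap.ker_eq_top] at h2
      exact hX1 (sub_eq_zero.1 h2)
    have h3 : n - finrank F (LinearMap.ker (X - 1)) ≤ n := Nat.sub_le _ _
    have h4 : 0 < n - finrank F (LinearMap.ker (X - 1)) := by omega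
    have h5 := Nat.le_of_dvd h4 h1
    have h6 : finrank F (LinearMap.ker (X - 1)) = 0 := by omega
    exact Submodule.finrank_eq_zero.1 h6
  have hirr : Irred X := by
    refine ⟨hV, ?_⟩
    intro U hU
    have h1 := key U hU
    rw [hfix, inf_bot_eq, finrank_bot, Nat.sub_zero] at h1
    have h2 : finrank F U ≤ n := by
      have := Submodule.finrank_le U
      rw [hdim] at this
      exact this
    rcases Nat.eq_zero_or_pos (finrank F U) with h3 | h3
    · left
      exact Submodule.finrank_eq_zero.1 h3
    · right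
      have h4 := Nat.le_of_dvd h3 h1
      apply Submodule.eq_top_of_finrank_eq
      rw [hdim]
      omega
  -- the field
  have hirrF : Fact (Irreducible (minpoly F X)) := ⟨hirr.minpoly_irreducible⟩
  have hKfin : Finite (KK X) := finite_KK X
  let ψ : KK X →ₐ[F] Matrix (Fin n) (Fin n) F :=
    ((LinearMap.toMatrixAlgEquiv' : ((Fin n → F) →ₗ[F] (Fin n → F)) ≃ₐ[F]
      Matrix (Fin n) (Fin n) F) : ((Fin n → F) →ₗ[F] (Fin n → F)) →ₐ[F]
      Matrix (Fin n) (Fin n) F).comp (rho X)
  have hψ : ∀ κ, ψ κ = LinearMap.toMatrix' (rho X κ) := fun κ => rfl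
  have hψinj : Function.Injective ψ := by
    intro a b hab
    rw [hψ, hψ] at hab
    exact hirr.rho_injective (LinearMap.toMatrix'.injective hab)
  have hψcomm : ∀ κ, ψ κ * (x : Matrix (Fin n) (Fin n) F) = (x : Matrix (Fin n) (Fin n) F) * ψ κ := by
    intro κ
    have hXm : LinearMap.toMatrix' X = (x : Matrix (Fin n) (Fin n) F) := by
      rw [hX, LinearMap.toMatrix'_toLin']
    have := congrArg LinearMap.toMatrix' (commute_rho X κ).eq
    rw [LinearMap.toMatrix'_mul, LinearMap.toMatrix'_mul, hXm] at this
    exact this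
  let φ0 : (KK X)ˣ →* GL (Fin n) F := Units.map (ψ : KK X →* Matrix (Fin n) (Fin n) F)
  have hφ0 : ∀ u : (KK X)ˣ, ((φ0 u : GL (Fin n) F) : Matrix (Fin n) (Fin n) F) = ψ u := fun u => rfl
  have hφ0mem : ∀ u : (KK X)ˣ, φ0 u ∈ Subgroup.centralizer ({x} : Set (GL (Fin n) F)) := by
    intro u
    rw [Subgroup.mem_centralizer_singleton_iff]
    apply Units.ext
    rw [Units.val_mul, Units.val_mul, hφ0]
    exact hψcomm u
  let φ : (KK X)ˣ →* ↥(Subgroup.centralizer ({x} : Set (GL (Fin n) F))) :=
    φ0.codRestrict _ hφ0mem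
  have hφinj : Function.Injective φ := by
    intro u v huv
    have h1 : φ0 u = φ0 v := congrArg Subtype.val huv
    have h2 : ψ u = ψ v := by rw [← hφ0, ← hφ0, h1]
    exact Units.ext (hψinj h2)
  have hφsurj : Function.Surjective φ := by
    intro c
    have hc := c.2
    rw [Subgroup.mem_centralizer_singleton_iff] at hc
    have hcM : ((c : GL (Fin n) F) : Matrix (Fin n) (Fin n) F) * (x : Matrix (Fin n) (Fin n) F) =
        (x : Matrix (Fin n) (Fin n) F) * ((c : GL (Fin n) F) : Matrix (Fin n) (Fin n) F) := by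
      have := congrArg Units.val hc
      rw [Units.val_mul, Units.val_mul] at this
      exact this
    have hcomm : Commute (Matrix.toLin' ((c : GL (Fin n) F) : Matrix (Fin n) (Fin n) F)) X := by
      change _ * _ = _ * _
      rw [hX, Module.End.mul_eq_comp, Module.End.mul_eq_comp, ← Matrix.toLin'_mul,
        ← Matrix.toLin'_mul, hcM]
    obtain ⟨κ, hκ⟩ := hirr.exists_rho_eq hcomm
    have hψκ : ψ κ = ((c : GL (Fin n) F) : Matrix (Fin n) (Fin n) F) := by
      rw [hψ, hκ, LinearMap.toMatrix'_toLin']
    have hκ0 : κ ≠ 0 := by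
      rintro rfl
      rw [map_zero] at hψκ
      have h1 : ((c : GL (Fin n) F) : Matrix (Fin n) (Fin n) F).det ≠ 0 :=
        (Matrix.isUnits_det_units (c : GL (Fin n) F)).ne_zero
      have hne : Nonempty (Fin n) := ⟨⟨0, hn⟩⟩
      rw [← hψκ, Matrix.det_zero] at h1
      exact h1 rfl
    refine ⟨Units.mk0 κ hκ0, ?_⟩
    apply Subtype.ext
    apply Units.ext
    change ψ κ = _
    exact hψκ
  constructor
  · exact isCyclic_of_surjective φ hφsurj
  · have h1 : Nat.card ↥(Subgroup.centralizer ({x} : Set (GL (Fin n) F))) = Nat.card (KK X)ˣ :=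
      (Nat.card_congr (Equiv.ofBijective φ ⟨hφinj, hφsurj⟩)).symm
    obtain ⟨w, hw⟩ := exists_ne (0 : Fin n → F)
    have h2 : Nat.card (KK X) = q ^ n := by
      rw [Nat.card_congr (evEquiv hirr hw).toEquiv, Nat.card_eq_fintype_card, Fintype.card_fun,
        Fintype.card_fin, hF]
    rw [h1, Nat.card_units, h2]

end Cfsg.Agent.S2638
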