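import Mathlib
import Cfsg.Statements.S2639
import Cfsg.Agent.H9.SympEmbed
import Cfsg.Agent.H9.FieldEmbed
import Cfsg.Agent.Lib.Helper5.Herm

set_option autoImplicit false

namespace Cfsg.Agent.S2639

open Module Cfsg.Agent.Lib.Helper5.Herm

/-- The unitary group embeds in the symplectic group of twice the dimension over the subfield: for a field K with q² elements and a field F with q elements (isomorphic to the subfield of K of order q), there is an injective homomorphism GU_m(q) → Sp_2m(F). -/
theorem result {K F : Type*} [Field K] [Fintype K] [Field F] [Fintype F] {q : ℕ} (hK : Fintype.card K = q ^ 2) (hF : Fintype.card F = q) (m : ℕ) : ∃ φ : ↥(Cfsg.GU m K q) →* ↥(Matrix.symplecticGroup (Fin m) F), Function.Injective φ := by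
  obtain ⟨ι⟩ := Cfsg.Agent.H9.FieldEmbed.exists_ringHom hK hF
  let _ : Algebra F K := ι.toAlgebra
  have h2 : finrank F K = 2 := Cfsg.Agent.H9.FieldEmbed.finrank_eq_two hK hF
  have hq : 2 ≤ q := by rw [← hF]; exact Fintype.one_lt_card
  -- a nonzero `F`-linear functional on `K` killing the subfield
  obtain ⟨x₀, hx₀⟩ : ∃ x₀ : K, x₀ ∉ (F ∙ (1 : K)) := by
    by_contra hcon
    push Not at hcon
    have htop : (F ∙ (1 : K)) = ⊤ := by
      rw [eq_top_iff]; intro x _; exact hcon x
    have h1 : finrank F (F ∙ (1 : K)) = 1 := finrank_span_singleton one_ne_zero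
    rw [htop, finrank_top, h2] at h1
    omega
  obtain ⟨τ, hτ, hτ1⟩ := Submodule.exists_dual_map_eq_bot_of_notMem hx₀ inferInstance
  have hτF : ∀ c : F, τ (algebraMap F K c) = 0 := by
    intro c
    have : τ (algebraMap F K c) ∈ Submodule.map τ (F ∙ (1 : K)) := by
      refine ⟨algebraMap F K c, ?_, rfl⟩
      rw [Algebra.algebraMap_eq_smul_one]
      exact Submodule.smul_mem _ _ (Submodule.mem_span_singleton_self _)
    rw [hτ1] at this
    exact this
  have hfrobF : ∀ c : F, (algebraMap F K c) ^ q = algebraMap F K c := by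
    intro c
    rw [← map_pow, ← hF, FiniteField.pow_card]
  let V := Fin m → K
  let B : LinearMap.BilinForm F V := LinearMap.mk₂ F (fun u v => τ (Cfsg.hermForm m K q u v))
    (by intro u u' v; rw [hermForm_add_left, map_add])
    (by
      intro c u v
      rw [← algebraMap_smul K c u, hermForm_smul_left, ← smul_eq_mul, algebraMap_smul, map_smul])
    (by intro u v v'; rw [hermForm_add_right hK, map_add])
    (by
      intro c u v
      rw [← algebraMap_smul K c v, hermForm_smul_right, hfrobF, ← smul_eq_mul, algebraMap_smul, map_smul])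
  have hBapp : ∀ u v : V, B u v = τ (Cfsg.hermForm m K q u v) := fun u v => rfl
  -- norms lie in the subfield
  have hnorm : ∀ x : K, x * x ^ q = algebraMap F K (Algebra.norm F x) := by
    intro x
    rw [FiniteField.algebraMap_norm_eq_pow, Nat.card_eq_fintype_card, Nat.card_eq_fintype_card, hK, hF]
    have h3 : (q ^ 2 - 1) / (q - 1) = q + 1 := by
      have h4 : q ^ 2 - 1 = (q + 1) * (q - 1) := by
        zify [show 1 ≤ q from by omega, show 1 ≤ q ^ 2 from Nat.one_le_pow _ _ (by omega)]
        ring
      rw [h4, Nat.mul_div_cancel _ (by omega)]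
    rw [h3, pow_succ']
  have hA : B.IsAlt := by
    intro v
    rw [hBapp]
    unfold Cfsg.hermForm
    have : ∑ i, v i * v i ^ q = algebraMap F K (∑ i, Algebra.norm F (v i)) := by
      rw [map_sum]
      exact Finset.sum_congr rfl fun i _ => hnorm (v i)
    rw [this, hτF]
  have hfrob_surj : ∀ y : K, ∃ c : K, c ^ q = y := fun y => ⟨y ^ q, frob_frob hK y⟩
  have hτ0 : ∃ y : K, τ y ≠ 0 := ⟨x₀, hτ⟩
  have hleft : ∀ u : V, (∀ v, B u v = 0) → u = 0 := by
    intro u hu
    by_contra hne
    obtain ⟨i, hi⟩ : ∃ i, u i ≠ 0 := by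
      by_contra hcon
      push Not at hcon
      exact hne (funext hcon)
    obtain ⟨y, hy⟩ := hτ0
    obtain ⟨c, hc⟩ := hfrob_surj ((u i)⁻¹ * y)
    have h := hu (c • Pi.single i 1)
    rw [hBapp, hermForm_smul_right, hermForm_single_right (by omega), hc, mul_comm, ← mul_assoc,
      mul_inv_cancel₀ hi, one_mul] at h
    exact hy h
  have hright : ∀ v : V, (∀ u, B u v = 0) → v = 0 := by
    intro v hv
    by_contra hne
    obtain ⟨i, hi⟩ : ∃ i, v i ≠ 0 := by
      by_contra hcon
      push Not at hcon
      exact hne (funext hcon)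
    obtain ⟨y, hy⟩ := hτ0
    have h := hv ((y * ((v i) ^ q)⁻¹) • Pi.single i 1)
    rw [hBapp, hermForm_smul_left, hermForm_single_left, mul_assoc, inv_mul_cancel₀ (pow_ne_zero _ hi),
      mul_one] at h
    exact hy h
  have hB : B.Nondegenerate := ⟨hleft, hright⟩
  have hdim : finrank F V = 2 * m := by
    rw [← Module.finrank_mul_finrank F K V, h2, finrank_fintype_fun_eq_card, Fintype.card_fin]
  let ρ : ↥(Cfsg.GU m K q) →* (V →ₗ[F] V) :=
    { toFun := fun g => (Matrix.toLin' ((g : GL (Fin m) K) : Matrix (Fin m) (Fin m) K)).restrictScalars F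
      map_one' := by
        apply LinearMap.ext
        intro v
        simp
      map_mul' := by
        intro x y
        apply LinearMap.ext
        intro v
        simp [Matrix.toLin'_mul] }
  have hρ : Function.Injective ρ := by
    intro x y hxy
    apply Subtype.ext
    apply Units.ext
    apply Matrix.toLin'.injective
    apply LinearMap.ext
    intro v
    have := congrArg (fun f : V →ₗ[F] V => f v) hxy
    exact this
  have hiso : ∀ (g : ↥(Cfsg.GU m K q)) (u v : V), B (ρ g u) (ρ g v) = B u v := by
    intro g u v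
    rw [hBapp, hBapp]
    congr 1
    exact g.2 u v
  exact Cfsg.Agent.H9.SympEmbed.exists_embedding B hB hA m hdim ρ hρ hiso

end Cfsg.Agent.S2639
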