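import Mathlib
import Cfsg.Statements.S2679
import Cfsg.Agent.Lib.Helper8.QfMatrix

set_option autoImplicit false
open Cfsg

namespace Cfsg.Agent.S2679

open Matrix Cfsg.Agent.Lib.Helper8.QfMatrix

/-- the matrix of the minus-type form -/
def Aminus (m : ℕ) (R : Type*) [CommRing R] (a c : R) :
    Matrix ((Fin m ⊕ Fin m) ⊕ Fin 2) ((Fin m ⊕ Fin m) ⊕ Fin 2) R :=
  fromBlocks (fromBlocks 0 1 0 0) 0 0 !![1, a; 0, c]

theorem quadFormMinus_eq (m : ℕ) (R : Type*) [Field R] (a c : R)
    (v : (Fin m ⊕ Fin m) ⊕ Fin 2 → R) :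
    quadFormMinus m R a c v = qf (Aminus m R a c) v := by
  unfold quadFormMinus qf Aminus
  rw [fromBlocks_mulVec, fromBlocks_mulVec]
  simp only [dotProduct, Fintype.sum_sum_type, Fin.sum_univ_two]
  simp [mulVec, dotProduct, Fin.sum_univ_two, Matrix.one_apply]
  ring

theorem Aminus_map {R S : Type*} [CommRing R] [CommRing S] (f : R →+* S) (m : ℕ) (a c : R) :
    (Aminus m R a c).map f = Aminus m S (f a) (f c) := by
  unfold Aminus
  rw [fromBlocks_map, fromBlocks_map]
  congr 1
  · simp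
  · simp
  · simp
  · ext i j
    fin_cases i <;> fin_cases j <;> simp


open Polynomial in
theorem exists_embedding {F K : Type*} [Field F] [Fintype F] [Field K] [Fintype K] {q : ℕ}
    (hF : Fintype.card F = q) (hK : Fintype.card K = q ^ 2) (a c : F)
    (hac : ∀ z₁ z₂ : F, z₁ ^ 2 + a * z₁ * z₂ + c * z₂ ^ 2 = 0 → z₁ = 0 ∧ z₂ = 0) :
    ∃ (ι : F →+* K) (α β : K), α + β = -ι a ∧ α * β = ι c ∧ α ≠ β := by
  classical
  let f : F[X] := X ^ 2 + (C a * X + C c)
  have hlt : (C a * X + C c).degree < ((2 : ℕ) : WithBot ℕ) := by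
    refine lt_of_le_of_lt (degree_add_le _ _) ?_
    rw [max_lt_iff]
    constructor
    · exact lt_of_le_of_lt (degree_C_mul_X_le a) (by norm_num)
    · exact lt_of_le_of_lt degree_C_le (by norm_num)
  have hmonic : f.Monic := monic_X_pow_add hlt
  have hdeg : f.natDegree = 2 := by
    have h1 : (C a * X + C c).degree < (X ^ 2 : F[X]).degree := by
      rw [degree_X_pow]; exact hlt
    rw [show f = X ^ 2 + (C a * X + C c) from rfl, natDegree_add_eq_left_of_degree_lt h1,
      natDegree_X_pow]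
  have hroot : ∀ x : F, ¬ f.IsRoot x := by
    intro x hx
    have h1 : x ^ 2 + a * x * 1 + c * 1 ^ 2 = 0 := by
      have : f.eval x = 0 := hx
      simp only [f, eval_add, eval_pow, eval_X, eval_mul, eval_C] at this
      linear_combination this
    exact one_ne_zero (hac x 1 h1).2
  have hirr : Irreducible f :=
    irreducible_of_degree_le_three_of_not_isRoot (by rw [hdeg]; decide) hroot
  have : Fact (Irreducible f) := ⟨hirr⟩
  have hne : f ≠ 0 := hmonic.ne_zero
  have hfinmod : Module.Finite F (AdjoinRoot f) := (AdjoinRoot.powerBasis hne).finite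
  have hfinL : Finite (AdjoinRoot f) := Module.finite_of_finite F
  let _ : Fintype (AdjoinRoot f) := Fintype.ofFinite _
  have hcardL : Fintype.card (AdjoinRoot f) = q ^ 2 := by
    rw [← Nat.card_eq_fintype_card, Module.natCard_eq_pow_finrank (K := F),
      (AdjoinRoot.powerBasis hne).finrank, AdjoinRoot.powerBasis_dim, hdeg,
      Nat.card_eq_fintype_card, hF]
  let e : AdjoinRoot f ≃+* K := FiniteField.ringEquivOfCardEq (by rw [hcardL, hK])
  let ι : F →+* K := e.toRingHom.comp (AdjoinRoot.of f)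
  let α : K := e (AdjoinRoot.root f)
  have hα : α ^ 2 + ι a * α + ι c = 0 := by
    have h1 : (AdjoinRoot.root f) ^ 2 + AdjoinRoot.of f a * AdjoinRoot.root f + AdjoinRoot.of f c = 0 := by
      have := AdjoinRoot.eval₂_root f
      simp only [f, eval₂_add, eval₂_pow, eval₂_X, eval₂_mul, eval₂_C] at this
      linear_combination this
    have h2 := congrArg e h1
    simp only [map_add, map_mul, map_pow, map_zero] at h2
    exact h2
  refine ⟨ι, α, -ι a - α, by ring, by linear_combination -hα, ?_⟩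
  intro hαβ
  have hsep : f.Separable := PerfectField.separable_of_irreducible hirr
  have hsep' : (f.map ι).Separable := hsep.map
  have hfac : f.map ι = (X - C α) * (X - C α) := by
    have h3 : ι a = -(α + α) := by linear_combination hαβ
    have h4 : ι c = α * α := by linear_combination hα - α * hαβ
    simp only [f, Polynomial.map_add, Polynomial.map_pow, Polynomial.map_X, Polynomial.map_mul,
      Polynomial.map_C, h3, h4]
    simp only [map_neg, map_add, map_mul]
    ring
  rw [hfac] at hsep'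
  have hsq := hsep'.squarefree
  have hunit := hsq (X - C α) (dvd_refl _)
  exact Polynomial.not_isUnit_X_sub_C α hunit


section T

variable {K : Type*} [Field K] (m : ℕ) (α β : K)

/-- the change of coordinates from the minus-type to the plus-type coordinates -/
def Tfun (w : (Fin m ⊕ Fin m) ⊕ Fin 2 → K) : Fin (m + 1) ⊕ Fin (m + 1) → K :=
  Sum.elim
    (Fin.snoc (α := fun _ => K) (fun j => w (.inl (.inl j))) (w (.inr 0) - α * w (.inr 1)))
    (Fin.snoc (α := fun _ => K) (fun j => w (.inl (.inr j))) (w (.inr 0) - β * w (.inr 1)))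

/-- the inverse change of coordinates -/
def Sfun (u : Fin (m + 1) ⊕ Fin (m + 1) → K) : (Fin m ⊕ Fin m) ⊕ Fin 2 → K :=
  Sum.elim
    (Sum.elim (fun j => u (.inl j.castSucc)) (fun j => u (.inr j.castSucc)))
    ![u (.inl (Fin.last m)) + α * ((u (.inl (Fin.last m)) - u (.inr (Fin.last m))) / (β - α)),
      (u (.inl (Fin.last m)) - u (.inr (Fin.last m))) / (β - α)]

theorem Sfun_Tfun (hαβ : α ≠ β) (w : (Fin m ⊕ Fin m) ⊕ Fin 2 → K) :
    Sfun m α β (Tfun m α β w) = w := by
  have hne : β - α ≠ 0 := sub_ne_zero.mpr (Ne.symm hαβ)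
  funext i
  rcases i with (j | j) | j
  · simp [Sfun, Tfun]
  · simp [Sfun, Tfun]
  · fin_cases j
    · simp only [Sfun, Tfun, Sum.elim_inr, Sum.elim_inl, Fin.snoc_last]
      simp only [Fin.zero_eta, Fin.isValue, Matrix.cons_val_zero]
      field_simp
      ring
    · simp only [Sfun, Tfun, Sum.elim_inr, Sum.elim_inl, Fin.snoc_last]
      simp only [Fin.mk_one, Fin.isValue, Matrix.cons_val_one, Matrix.cons_val_zero]
      field_simp
      ring

theorem Tfun_Sfun (hαβ : α ≠ β) (u : Fin (m + 1) ⊕ Fin (m + 1) → K) :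
    Tfun m α β (Sfun m α β u) = u := by
  have hne : β - α ≠ 0 := sub_ne_zero.mpr (Ne.symm hαβ)
  funext i
  rcases i with i | i
  · refine Fin.lastCases ?_ (fun j => ?_) i
    · simp only [Sfun, Tfun, Sum.elim_inr, Sum.elim_inl, Fin.snoc_last]
      simp only [Fin.isValue, Matrix.cons_val_zero, Matrix.cons_val_one]
      ring
    · simp [Sfun, Tfun]
  · refine Fin.lastCases ?_ (fun j => ?_) i
    · simp only [Sfun, Tfun, Sum.elim_inr, Sum.elim_inl, Fin.snoc_last]
      simp only [Fin.isValue, Matrix.cons_val_zero, Matrix.cons_val_one]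
      field_simp
      ring
    · simp [Sfun, Tfun]

/-- the change of coordinates as a linear equivalence -/
def T (hαβ : α ≠ β) :
    ((Fin m ⊕ Fin m) ⊕ Fin 2 → K) ≃ₗ[K] (Fin (m + 1) ⊕ Fin (m + 1) → K) where
  toFun := Tfun m α β
  invFun := Sfun m α β
  left_inv := Sfun_Tfun m α β hαβ
  right_inv := Tfun_Sfun m α β hαβ
  map_add' w₁ w₂ := by
    funext i
    rcases i with i | i
    · refine Fin.lastCases ?_ (fun j => ?_) i
      · simp only [Tfun, Sum.elim_inl, Fin.snoc_last, Pi.add_apply]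
        ring
      · simp [Tfun]
    · refine Fin.lastCases ?_ (fun j => ?_) i
      · simp only [Tfun, Sum.elim_inr, Fin.snoc_last, Pi.add_apply]
        ring
      · simp [Tfun]
  map_smul' r w := by
    funext i
    rcases i with i | i
    · refine Fin.lastCases ?_ (fun j => ?_) i
      · simp only [Tfun, Sum.elim_inl, Fin.snoc_last, Pi.smul_apply, smul_eq_mul, RingHom.id_apply]
        ring
      · simp [Tfun]
    · refine Fin.lastCases ?_ (fun j => ?_) i
      · simp only [Tfun, Sum.elim_inr, Fin.snoc_last, Pi.smul_apply, smul_eq_mul, RingHom.id_apply]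
        ring
      · simp [Tfun]

theorem quadFormPlus_Tfun (a' c' : K) (h1 : α + β = -a') (h2 : α * β = c')
    (w : (Fin m ⊕ Fin m) ⊕ Fin 2 → K) :
    quadFormPlus (m + 1) K (Tfun m α β w) = quadFormMinus m K a' c' w := by
  unfold quadFormPlus quadFormMinus
  rw [Fin.sum_univ_castSucc]
  simp only [Tfun, Sum.elim_inl, Sum.elim_inr, Fin.snoc_castSucc, Fin.snoc_last]
  have h3 : a' = -(α + β) := by rw [h1]; ring
  rw [h3, ← h2]
  ring

end T


section Phi

variable {F K : Type*} [Field F] [Field K] (ι : F →+* K) (m : ℕ) (α β : K) (hαβ : α ≠ β)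

/-- the embedding on the level of general linear groups -/
noncomputable def Φ :
    GL ((Fin m ⊕ Fin m) ⊕ Fin 2) F →* GL (Fin (m + 1) ⊕ Fin (m + 1)) K :=
  (Matrix.GeneralLinearGroup.toLin.symm.toMonoidHom).comp
    ((LinearMap.GeneralLinearGroup.congrLinearEquiv (T m α β hαβ)).toMonoidHom.comp
      (Matrix.GeneralLinearGroup.toLin.toMonoidHom.comp (Matrix.GeneralLinearGroup.map ι)))

theorem Φ_mulVec (g : GL ((Fin m ⊕ Fin m) ⊕ Fin 2) F) (u : Fin (m + 1) ⊕ Fin (m + 1) → K) :
    (Φ ι m α β hαβ g).1 *ᵥ u =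
      T m α β hαβ ((g.1.map ι) *ᵥ ((T m α β hαβ).symm u)) := by
  rw [← Matrix.toLinAlgEquiv'_apply]
  have h0 : Matrix.GeneralLinearGroup.toLin (Φ ι m α β hαβ g) =
      LinearMap.GeneralLinearGroup.congrLinearEquiv (T m α β hαβ)
        (Matrix.GeneralLinearGroup.toLin (Matrix.GeneralLinearGroup.map ι g)) := by
    unfold Φ
    simp only [MonoidHom.coe_comp, MulEquiv.coe_toMonoidHom, Function.comp_apply,
      MulEquiv.apply_symm_apply]
  have h1 : toLinAlgEquiv' (Φ ι m α β hαβ g).1 =
      (Matrix.GeneralLinearGroup.toLin (Φ ι m α β hαβ g)).1 := rfl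
  rw [h1, h0]
  show (T m α β hαβ) ((toLinAlgEquiv' (Matrix.GeneralLinearGroup.map ι g).1)
    ((T m α β hαβ).symm u)) = _
  rw [Matrix.toLinAlgEquiv'_apply]
  rfl

theorem Φ_injective : Function.Injective (Φ ι m α β hαβ) := by
  unfold Φ
  simp only [MonoidHom.coe_comp, MulEquiv.coe_toMonoidHom]
  refine (MulEquiv.injective _).comp ((MulEquiv.injective _).comp ((MulEquiv.injective _).comp ?_))
  intro g h hgh
  ext i j
  have := congrArg (fun x : GL _ K => x i j) hgh
  simp only [Matrix.GeneralLinearGroup.map_apply] at this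
  exact ι.injective this

end Phi


/-- An elliptic orthogonal group embeds in the hyperbolic orthogonal group of the same dimension over the quadratic extension: for a field F with q elements and a field K with q² elements there is an injective homomorphism from O⁻_2m(F) (isometries of Σ_(j<m−1) x_j y_j + z₁² + a z₁z₂ + c z₂², binary part anisotropic) to O⁺_2m(K) (isometries of Σ_(j<m) x_j y_j over K). -/
theorem result {F K : Type*} [Field F] [Fintype F] [Field K] [Fintype K] {q : ℕ} (hF : Fintype.card F = q) (hK : Fintype.card K = q ^ 2) {m : ℕ} (hm : 1 ≤ m) (a c : F) (hac : ∀ z₁ z₂ : F, z₁ ^ 2 + a * z₁ * z₂ + c * z₂ ^ 2 = 0 → z₁ = 0 ∧ z₂ = 0) : ∃ φ : ↥(Cfsg.isometryGroup F (Cfsg.quadFormMinus (m - 1) F a c)) →* ↥(Cfsg.isometryGroup K (Cfsg.quadFormPlus m K)), Function.Injective φ := by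
  obtain ⟨m', rfl⟩ : ∃ m', m = m' + 1 := ⟨m - 1, by omega⟩
  obtain ⟨ι, α, β, h1, h2, h3⟩ := exists_embedding hF hK a c hac
  show ∃ φ : ↥(Cfsg.isometryGroup F (Cfsg.quadFormMinus m' F a c)) →*
      ↥(Cfsg.isometryGroup K (Cfsg.quadFormPlus (m' + 1) K)), Function.Injective φ
  have hmem : ∀ g : ↥(Cfsg.isometryGroup F (Cfsg.quadFormMinus m' F a c)),
      Φ ι m' α β h3 g.1 ∈ Cfsg.isometryGroup K (Cfsg.quadFormPlus (m' + 1) K) := by
    intro g u _
    show quadFormPlus (m' + 1) K ((Φ ι m' α β h3 g.1).1 *ᵥ u) = quadFormPlus (m' + 1) K u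
    rw [Φ_mulVec]
    show quadFormPlus (m' + 1) K (Tfun m' α β _) = _
    rw [quadFormPlus_Tfun m' α β (ι a) (ι c) h1 h2, quadFormMinus_eq, ← Aminus_map]
    have hg : ∀ v, qf (Aminus m' F a c) (g.1.1 *ᵥ v) = qf (Aminus m' F a c) v := by
      intro v
      have := g.2 v v
      rw [← quadFormMinus_eq, ← quadFormMinus_eq]
      exact this
    rw [isometry_map ι _ _ hg, Aminus_map, ← quadFormMinus_eq,
      ← quadFormPlus_Tfun m' α β (ι a) (ι c) h1 h2]
    show quadFormPlus (m' + 1) K ((T m' α β h3) ((T m' α β h3).symm u)) = _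
    rw [LinearEquiv.apply_symm_apply]
  refine ⟨((Φ ι m' α β h3).comp (Subgroup.subtype _)).codRestrict _ hmem, ?_⟩
  intro g h hgh
  have h4 : Φ ι m' α β h3 g.1 = Φ ι m' α β h3 h.1 := congrArg Subtype.val hgh
  exact Subtype.ext (Φ_injective ι m' α β h3 h4)

end Cfsg.Agent.S2679
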