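import Mathlib
import Cfsg.Statements.S2641
import Cfsg.Agent.Lib.Helper8.GUOrth
import Cfsg.Agent.S2679

set_option autoImplicit false
open Cfsg

namespace Cfsg.Agent.S2641

open Cfsg.Agent.Lib.Helper8.GUOrth

/-- For m odd, the unitary group GU_m(q) (over the field with q² elements) embeds in the orthogonal group O⁻_2m(q) of an elliptic form (Σ_(i<m−1) x_i y_i plus an anisotropic binary form) over the field with q elements (there is an injective homomorphism). -/
theorem result {K F : Type*} [Field K] [Fintype K] [Field F] [Fintype F] {q : ℕ} (hK : Fintype.card K = q ^ 2) (hF : Fintype.card F = q) (m : ℕ) (hm : Odd m) (a b : F) (hab : ∀ z₁ z₂ : F, z₁ ^ 2 + a * z₁ * z₂ + b * z₂ ^ 2 = 0 → z₁ = 0 ∧ z₂ = 0) : ∃ φ : ↥(Cfsg.GU m K q) →* ↥(Cfsg.isometryGroup F (Cfsg.quadFormMinus (m - 1) F a b)), Function.Injective φ := by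
  obtain ⟨ι, α, β, h1, h2, h3⟩ := Cfsg.Agent.S2679.exists_embedding hF hK a b hab
  letI : Algebra F K := ι.toAlgebra
  have hι : ∀ x : F, algebraMap F K x = ι x := fun _ => rfl
  obtain ⟨k', hk'⟩ := hm
  obtain rfl : m = k' + k' + 1 := by omega
  have hfix := conj_algebraMap (F := F) (K := K)
  -- the conjugate of `α` is `β`
  have hroot : α ^ 2 + ι a * α + ι b = 0 := by
    have : ι a = -(α + β) := by rw [h1]; ring
    rw [this, ← h2]; ring
  have hroot' : (conj F K α) ^ 2 + ι a * conj F K α + ι b = 0 := by
    have := congrArg (conj F K) hroot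
    simp only [map_add, map_mul, map_pow, map_zero] at this
    rw [← hι, ← hι, hfix, hfix] at this
    exact this
  have hprod : (conj F K α - α) * (conj F K α - β) = 0 := by
    have : ι a = -(α + β) := by rw [h1]; ring
    rw [this, ← h2] at hroot'
    linear_combination hroot'
  have hne : conj F K α ≠ α := by
    intro h
    obtain ⟨y, hy⟩ := mem_range_of_conj_eq hF α h
    rw [hι] at hy
    have h4 : ι (y ^ 2 + a * y * 1 + b * 1 ^ 2) = 0 := by
      simp only [map_add, map_mul, map_pow, map_one, hy]
      linear_combination hroot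
    have h5 := hab y 1 ((map_eq_zero ι).mp h4)
    exact one_ne_zero h5.2
  have hconj : conj F K α = β := by
    rcases mul_eq_zero.mp hprod with h | h
    · exact absurd (sub_eq_zero.mp h) hne
    · exact sub_eq_zero.mp h
  have hθ : conj F K (-α) ≠ -α := by
    rw [map_neg, hconj]
    intro h
    exact h3 (neg_injective h).symm
  have ha : (-α) + conj F K (-α) = algebraMap F K a := by
    rw [map_neg, hconj, hι]
    linear_combination -h1
  have hb : (-α) * conj F K (-α) = algebraMap F K b := by
    rw [map_neg, hconj, hι]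
    linear_combination h2
  exact odd_case hF hK k' a b (-α) hθ ha hb

end Cfsg.Agent.S2641
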