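import Mathlib
import Cfsg.Statements.S2642
import Cfsg.Agent.Lib.Helper8.GUOrdP
import Cfsg.Agent.S2570
import Cfsg.Agent.S2587
import Cfsg.Agent.S2588

set_option autoImplicit false
open Cfsg

namespace Cfsg.Agent.S2642

open Matrix Cfsg.Agent.Lib.Helper8.SUReg Cfsg.Agent.Lib.Helper8.GUOrdP

/-- Number of conjugacy classes of elements of order p in the general unitary group GU_n(q), q a power of p: every unipotent Jordan type occurs and the classes correspond to the partitions of n with all parts at most p other than the all-ones partition, exactly as in GL_n; so there are (number of partitions of n with parts ≤ p) − 1 classes. -/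
theorem result {K : Type*} [Field K] [Fintype K] {p q n : ℕ} [Fact p.Prime] [CharP K p] (hK : Fintype.card K = q ^ 2) : Nat.card {C : ConjClasses ↥(Cfsg.GU n K q) // ∃ g : ↥(Cfsg.GU n K q), ConjClasses.mk g = C ∧ orderOf g = p} = (Finset.univ.filter (fun μ : Nat.Partition n => ∀ a ∈ μ.parts, a ≤ p)).card - 1 := by
  classical
  obtain ⟨σ, hσ, hσne, hσ2⟩ := Cfsg.Agent.S0277.exists_frob hK
  have hσbij : Function.Bijective σ :=
    Function.Involutive.bijective (f := σ) hσ2
  rw [← Cfsg.Agent.S2570.result (F := K) (p := p) n]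
  have hwd : ∀ C : {C : ConjClasses ↥(Cfsg.GU n K q) // ∃ g : ↥(Cfsg.GU n K q), ConjClasses.mk g = C ∧ orderOf g = p},
      ∃ g : GL (Fin n) K, ConjClasses.mk g = ConjClasses.map (Cfsg.GU n K q).subtype C.1 ∧ orderOf g = p := by
    rintro ⟨C, g, rfl, hg⟩
    exact ⟨(g : GL (Fin n) K), rfl, by rw [Subgroup.orderOf_coe]; exact hg⟩
  apply Nat.card_eq_of_bijective (fun C => ⟨ConjClasses.map (Cfsg.GU n K q).subtype C.1, hwd C⟩)
  constructor
  · rintro ⟨C, g, rfl, hg⟩ ⟨C', g', rfl, hg'⟩ hCC'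
    apply Subtype.ext
    have h1 : ConjClasses.mk (g : GL (Fin n) K) = ConjClasses.mk (g' : GL (Fin n) K) :=
      congrArg Subtype.val hCC'
    rw [ConjClasses.mk_eq_mk_iff_isConj] at h1
    exact ConjClasses.mk_eq_mk_iff_isConj.mpr ((Cfsg.Agent.S2587.result hK g g').mpr h1)
  · rintro ⟨D, g₀, rfl, hg₀⟩
    have hpow : g₀ ^ p = 1 := (orderOf_eq_prime_iff.mp hg₀).1
    have hnil : IsNilpotent ((g₀ : Matrix (Fin n) (Fin n) K) - 1) :=
      ⟨p, (Cfsg.Agent.H2.NilpType.pow_char_eq_one_iff p g₀).mp hpow⟩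
    have hconj := isConj_adj_inv σ hσbij (g₀ : Matrix (Fin n) (Fin n) K) hnil
    have hmap : ((g₀ : Matrix (Fin n) (Fin n) K).map (fun x : K => x ^ q)).transpose =
        adj σ (g₀ : Matrix (Fin n) (Fin n) K) := by
      unfold adj
      congr 1
      ext i j
      rw [Matrix.map_apply, Matrix.map_apply, hσ]
    rw [← hmap] at hconj
    obtain ⟨B, hB⟩ := (Cfsg.Agent.S2588.result hK g₀).mpr hconj
    have hBord : orderOf B = p := by
      rw [← Subgroup.orderOf_coe]
      obtain ⟨c, hc⟩ := isConj_iff.mp hB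
      rw [← hc]
      have h5 : c * g₀ * c⁻¹ = MulAut.conj c g₀ := rfl
      rw [h5, MulEquiv.orderOf_eq]
      exact hg₀
    refine ⟨⟨ConjClasses.mk B, B, rfl, hBord⟩, ?_⟩
    apply Subtype.ext
    show ConjClasses.mk (B : GL (Fin n) K) = ConjClasses.mk g₀
    exact ConjClasses.mk_eq_mk_iff_isConj.mpr hB.symm

end Cfsg.Agent.S2642
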