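import Mathlib
import Cfsg.Statements.S2643
import Cfsg.Agent.Lib.Helper8.SURegE

set_option autoImplicit false
open Cfsg

namespace Cfsg.Agent.S2643

open Matrix Cfsg.Agent.S0277 Cfsg.Agent.H9.RegUni Cfsg.Agent.S2578
  Cfsg.Agent.Lib.Helper8.SUGen Cfsg.Agent.S0781 Cfsg.Agent.Lib.Helper8.SUReg

/-- Regular unipotent classes of SU_n(q), n ≥ 2: the elements u of the special unitary group (isometries of Σ u_i v_i^q of determinant one over the field with q² elements) with (u − 1)^n = 0 and rank(u − 1) = n − 1 form exactly gcd(n, q + 1) conjugacy classes of SU_n(q). -/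
theorem result {K : Type*} [Field K] [Fintype K] {q n : ℕ} (hK : Fintype.card K = q ^ 2) (hn : 2 ≤ n) : Nat.card {C : ConjClasses ↥(Cfsg.SU n K q) // ∃ u : ↥(Cfsg.SU n K q), ConjClasses.mk u = C ∧ (((u : GL (Fin n) K) : Matrix (Fin n) (Fin n) K) - 1) ^ n = 0 ∧ (((u : GL (Fin n) K) : Matrix (Fin n) (Fin n) K) - 1).rank = n - 1} = Nat.gcd n (q + 1) := by
  classical
  have hn1 : 1 ≤ n := by omega
  obtain ⟨σ, hσ, hσne, hσ2⟩ := Cfsg.Agent.S0277.exists_frob hK
  set σe : K ≃+* K := RingEquiv.ofRingHom σ σ (RingHom.ext hσ2) (RingHom.ext hσ2) with hσe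
  have hσe_ne : σe ≠ RingEquiv.refl K := by
    intro h
    apply hσne
    ext x
    have := congrArg (fun f : K ≃+* K => f x) h
    exact this
  have htr : ∀ b : K, σ b = b → ∃ y : K, y + σ y = b := fun b hb =>
    Cfsg.Agent.Lib.Helper8.Unitary.tr_surj (σ := σe) hσe_ne hσ2 b hb
  have hnorm : ∀ b : K, σ b = b → ∃ y : K, y * σ y = b := fun b hb =>
    Cfsg.Agent.Lib.Helper8.Unitary.norm_surj (σ := σe) hσe_ne hσ2 b hb
  obtain ⟨U0, hU0U, hU0⟩ := exists_unitary_isReg σ hn1 hσne hσ2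
  have hU0det : U0.det = 1 := det_of_isReg U0 hU0
  set U0G : GL (Fin n) K := Matrix.GeneralLinearGroup.mkOfDetNeZero U0
    (by rw [hU0det]; exact one_ne_zero) with hU0G
  have hU0GU : U0G ∈ Cfsg.GU n K q := (mem_GU_iff σ hσ U0G).2 hU0U
  have hU0Gdet : Matrix.GeneralLinearGroup.det U0G = 1 := Units.ext hU0det
  set U1 : Subgroup Kˣ := (powMonoidHom (q + 1) : Kˣ →* Kˣ).ker with hU1
  have hcardU1 : Nat.card ↥U1 = q + 1 := card_U1 hK
  set P : Subgroup ↥U1 := (powMonoidHom n : ↥U1 →* ↥U1).range with hP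
  have hU1mem : ∀ d : ↥U1, ((d : Kˣ) : K) * σ ((d : Kˣ) : K) = 1 :=
    fun d => (mem_U1_iff σ hσ _).1 d.2
  have hgdU : ∀ d : ↥U1, gd hn1 (d : Kˣ) ∈ Cfsg.GU n K q :=
    fun d => gd_mem_GU σ hσ hn1 _ (hU1mem d)
  -- the conjugates
  have hconjmem : ∀ d : ↥U1,
      gd hn1 (d : Kˣ) * U0G * (gd hn1 (d : Kˣ))⁻¹ ∈ SUf (hermForm n K q) := by
    intro d
    rw [mem_SUf_iff]
    refine ⟨mul_mem (mul_mem (hgdU d) hU0GU) (inv_mem (hgdU d)), ?_⟩
    rw [map_mul, map_mul, map_inv, hU0Gdet, mul_one, mul_inv_cancel]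
  let ud : ↥U1 → ↥(Cfsg.SU n K q) := fun d => Classical.choose (exists_lift n _ (hconjmem d))
  have hudG : ∀ d, phi n (ud d) = gd hn1 (d : Kˣ) * U0G * (gd hn1 (d : Kˣ))⁻¹ := fun d =>
    Classical.choose_spec (exists_lift n _ (hconjmem d))
  have hudreg : ∀ d, IsReg ((phi n (ud d) : GL (Fin n) K) : Matrix (Fin n) (Fin n) K) := by
    intro d
    rw [hudG]
    exact IsReg.conj (gd hn1 (d : Kˣ)) hU0
  -- the key equivalence
  have key : ∀ d d' : ↥U1, IsConj (ud d) (ud d') ↔ d⁻¹ * d' ∈ P := by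
    intro d d'
    constructor
    · intro hconj
      obtain ⟨h, hh⟩ := isConj_iff.1 hconj
      have hh' : phi n h * (gd hn1 (d : Kˣ) * U0G * (gd hn1 (d : Kˣ))⁻¹) * (phi n h)⁻¹ =
          gd hn1 (d' : Kˣ) * U0G * (gd hn1 (d' : Kˣ))⁻¹ := by
        have := congrArg (phi n) hh
        rw [map_mul, map_mul, map_inv, hudG, hudG] at this
        exact this
      have hHmem := (mem_SUf_iff _).1 (phi_mem n h)
      set H := phi n h with hH
      set A := gd hn1 (d : Kˣ) with hA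
      set B := gd hn1 (d' : Kˣ) with hB
      set c : GL (Fin n) K := B⁻¹ * H * A with hc
      have hcU : c * U0G = U0G * c := by
        calc c * U0G = B⁻¹ * (H * (A * U0G * A⁻¹) * H⁻¹) * H * A := by rw [hc]; group
          _ = B⁻¹ * (B * U0G * B⁻¹) * H * A := by rw [hh']
          _ = U0G * c := by rw [hc]; group
      have hcU' : (c : Matrix (Fin n) (Fin n) K) * U0 = U0 * (c : Matrix (Fin n) (Fin n) K) := by
        have := congrArg Units.val hcU
        exact this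
      have hcGU : c ∈ Cfsg.GU n K q :=
        mul_mem (mul_mem (inv_mem (hgdU d')) hHmem.1) (hgdU d)
      obtain ⟨a, ha1, ha⟩ := det_of_unitary_commute σ hn1 U0 hU0 hU0U _ hcU'
        ((mem_GU_iff σ hσ c).1 hcGU)
      have hdetc : Matrix.GeneralLinearGroup.det c = (d' : Kˣ)⁻¹ * (d : Kˣ) := by
        rw [hc, map_mul, map_mul, map_inv, hA, hB, det_gd, det_gd, hHmem.2, mul_one]
      have ha' : (((d' : Kˣ)⁻¹ * (d : Kˣ) : Kˣ) : K) = a ^ n := by
        rw [← hdetc]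
        exact ha
      have ha0 : a ≠ 0 := left_ne_zero_of_mul_eq_one ha1
      have haU : Units.mk0 a ha0 ∈ U1 :=
        (mem_U1_iff σ hσ _).2 (by rw [Units.val_mk0]; exact ha1)
      have h3 : (Units.mk0 a ha0) ^ n = (d' : Kˣ)⁻¹ * (d : Kˣ) := by
        apply Units.ext
        rw [Units.val_pow_eq_pow_val, Units.val_mk0, ha']
      refine ⟨(⟨Units.mk0 a ha0, haU⟩ : ↥U1)⁻¹, ?_⟩
      rw [powMonoidHom_apply, inv_pow]
      apply Subtype.ext
      rw [Subgroup.coe_inv, Subgroup.coe_pow, Subgroup.coe_mul, Subgroup.coe_inv]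
      change ((Units.mk0 a ha0) ^ n)⁻¹ = _
      rw [h3, _root_.mul_inv_rev, inv_inv]
    · rintro ⟨a, ha⟩
      rw [powMonoidHom_apply] at ha
      have ha' : (a : Kˣ) ^ n = (d : Kˣ)⁻¹ * (d' : Kˣ) := by
        have := congrArg Subtype.val ha
        rw [Subgroup.coe_pow, Subgroup.coe_mul, Subgroup.coe_inv] at this
        exact this
      set A := gd hn1 (d : Kˣ) with hA
      set B := gd hn1 (d' : Kˣ) with hB
      have hscU : sc (n := n) (a : Kˣ)⁻¹ ∈ Cfsg.GU n K q :=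
        sc_mem_GU σ hσ _ ((mem_U1_iff σ hσ _).1 (inv_mem a.2))
      set k : GL (Fin n) K := B * sc (a : Kˣ)⁻¹ * A⁻¹ with hk
      apply suconj (ud d) (ud d') k
      · rw [mem_SUf_iff]
        refine ⟨mul_mem (mul_mem (hgdU d') hscU) (inv_mem (hgdU d)), ?_⟩
        rw [hk, map_mul, map_mul, map_inv, det_sc, hA, hB, det_gd, det_gd, inv_pow, ha']
        rw [_root_.mul_inv_rev, inv_inv]
        group
      · rw [hudG, hudG, hk]
        have hs := sc_comm ((a : Kˣ)⁻¹) U0G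
        calc B * sc (a : Kˣ)⁻¹ * A⁻¹ * (A * U0G * A⁻¹) = B * (sc (a : Kˣ)⁻¹ * U0G) * A⁻¹ := by group
          _ = B * (U0G * sc (a : Kˣ)⁻¹) * A⁻¹ := by rw [hs]
          _ = B * U0G * B⁻¹ * (B * sc (a : Kˣ)⁻¹ * A⁻¹) := by group
  -- the map
  let T := {C : ConjClasses ↥(Cfsg.SU n K q) // ∃ u : ↥(Cfsg.SU n K q), ConjClasses.mk u = C ∧
    (((u : GL (Fin n) K) : Matrix (Fin n) (Fin n) K) - 1) ^ n = 0 ∧
      (((u : GL (Fin n) K) : Matrix (Fin n) (Fin n) K) - 1).rank = n - 1}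
  let Φ : ↥U1 → T := fun d => ⟨ConjClasses.mk (ud d), ⟨ud d, rfl, hudreg d⟩⟩
  have hΦ : ∀ d d' : ↥U1, Φ d = Φ d' ↔ d⁻¹ * d' ∈ P := by
    intro d d'
    rw [← key]
    constructor
    · intro h
      have := congrArg Subtype.val h
      exact ConjClasses.mk_eq_mk_iff_isConj.1 this
    · intro h
      apply Subtype.ext
      exact ConjClasses.mk_eq_mk_iff_isConj.2 h
  have hΦsurj : Function.Surjective Φ := by
    rintro ⟨C, u, rfl, hu⟩
    have hu' : IsReg ((phi n u : GL (Fin n) K) : Matrix (Fin n) (Fin n) K) := hu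
    have huMem := (mem_SUf_iff _).1 (phi_mem n u)
    have huU : adj σ ((phi n u : GL (Fin n) K) : Matrix (Fin n) (Fin n) K) *
        ((phi n u : GL (Fin n) K) : Matrix (Fin n) (Fin n) K) = 1 := (mem_GU_iff σ hσ _).1 huMem.1
    obtain ⟨g, hgU, hg⟩ := exists_unitary_conj σ hn1 hσ2 htr hnorm U0 _ hU0 hu' hU0U huU
    have hdet : (adj σ g).det * g.det = 1 := by
      rw [← Matrix.det_mul, hgU, Matrix.det_one]
    set gG : GL (Fin n) K := Matrix.GeneralLinearGroup.mkOfDetNeZero g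
      (right_ne_zero_of_mul_eq_one hdet) with hgG
    have hgGU : gG ∈ Cfsg.GU n K q := (mem_GU_iff σ hσ gG).2 hgU
    set dK : Kˣ := Matrix.GeneralLinearGroup.det gG with hdK
    have hdU : dK ∈ U1 := (mem_U1_iff σ hσ _).2 (det_of_mem_GU σ hσ gG hgGU)
    refine ⟨⟨dK, hdU⟩, ?_⟩
    apply Subtype.ext
    apply ConjClasses.mk_eq_mk_iff_isConj.2
    have hgGeq : gG * U0G = phi n u * gG := Units.ext hg
    apply suconj (ud ⟨dK, hdU⟩) u (gG * (gd hn1 dK)⁻¹)
    · rw [mem_SUf_iff]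
      refine ⟨mul_mem hgGU (inv_mem (hgdU ⟨dK, hdU⟩)), ?_⟩
      rw [map_mul, map_inv, det_gd, mul_inv_cancel]
    · rw [hudG]
      calc gG * (gd hn1 dK)⁻¹ * (gd hn1 dK * U0G * (gd hn1 dK)⁻¹)
          = (gG * U0G) * (gd hn1 dK)⁻¹ := by group
        _ = phi n u * gG * (gd hn1 dK)⁻¹ := by rw [hgGeq]
        _ = phi n u * (gG * (gd hn1 dK)⁻¹) := by group
  -- the quotient
  let Ψ : ↥U1 ⧸ P → T := Quotient.lift Φ (by
    intro a b hab
    rw [hΦ]
    exact QuotientGroup.leftRel_apply.1 hab)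
  have hΨbij : Function.Bijective Ψ := by
    constructor
    · intro x y
      induction x using QuotientGroup.induction_on with
      | H a =>
        induction y using QuotientGroup.induction_on with
        | H b =>
          intro h
          have h' : Φ a = Φ b := h
          rw [hΦ] at h'
          exact QuotientGroup.eq.2 h'
    · intro t
      obtain ⟨d, hd⟩ := hΦsurj t
      exact ⟨QuotientGroup.mk d, hd⟩
  change Nat.card T = _
  rw [← Nat.card_congr (Equiv.ofBijective Ψ hΨbij)]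
  change P.index = _
  rw [hP, IsCyclic.index_powMonoidHom_range, hcardU1, Nat.gcd_comm]

end Cfsg.Agent.S2643
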