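import Mathlib
import Cfsg.Statements.S2645
import Cfsg.Agent.Lib.Helper8.PrimeOrdI

set_option autoImplicit false
open Cfsg

namespace Cfsg.Agent.S2645

open Polynomial Cfsg.Agent.Lib.Helper8.PrimeOrd Cfsg.Agent.Lib.Helper8.SelfRec

/-- Number of conjugacy classes of elements of odd prime order r, r different from the characteristic, in the symplectic group Sp_2m(q): let i be the multiplicative order of q modulo r and t = (r − 1)/i. If i is odd the eigenvalue orbits pair off (Λ ≠ Λ⁻¹) and the classes correspond to the non-zero (t/2)-tuples (a_j) with 2i Σ a_j ≤ 2m, giving C(⌊m/i⌋ + t/2, t/2) − 1 classes; if i is even (Λ = Λ⁻¹) they correspond to the non-zero t-tuples with i Σ a_j ≤ 2m, giving C(⌊2m/i⌋ + t, t) − 1 classes. -/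
theorem result {F : Type*} [Field F] [Fintype F] {p q : ℕ} [Fact p.Prime] [CharP F p] (hF : Fintype.card F = q) (m r i t : ℕ) (hr : r.Prime) (hr2 : r ≠ 2) (hrp : r ≠ p) (hi : i = orderOf (q : ZMod r)) (ht : t * i = r - 1) : Nat.card {C : ConjClasses ↥(Matrix.symplecticGroup (Fin m) F) // ∃ g : Matrix.symplecticGroup (Fin m) F, ConjClasses.mk g = C ∧ orderOf g = r} = if Odd i then Nat.choose (m / i + t / 2) (t / 2) - 1 else Nat.choose (2 * m / i + t) t - 1 := by
  classical
  have : Fact r.Prime := ⟨hr⟩
  have hp : p.Prime := Fact.out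
  obtain ⟨f, -, hcard⟩ := FiniteField.card F p
  have hcop : p.Coprime r := (Nat.coprime_primes hp hr).2 (Ne.symm hrp)
  have hrF : (r : F) ≠ 0 := by
    intro h0
    rw [CharP.cast_eq_zero_iff F p] at h0
    exact hrp ((Nat.prime_dvd_prime_iff_eq hp hr).1 h0).symm
  have hipos : 0 < i := by
    rcases Nat.eq_zero_or_pos i with h | h
    · subst h
      have := hr.two_le
      omega
    · exact h
  have hdeg : ∀ j : ↥(cycFactors F r), (PP F r j).natDegree = i := fun j => by
    rw [natDegree_PP hcard hcop j, hi, hF]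
  have hcardι : Fintype.card ↥(cycFactors F r) = t := by
    rw [card_cycFactors hcard hcop, hF, ← hi, ← ht]
    exact Nat.mul_div_cancel _ hipos
  have hmain := sp_classes_card (m := m) p hrp hr2 i hipos hdeg hrF
  have hsinv := sIdx_involutive (RingHom.id F) (fun _ => rfl) hrF
  split_ifs with hodd
  · have hfp : ∀ j, sIdx (RingHom.id F) (fun _ => rfl) hrF j ≠ j := by
      intro j hj
      have h1 : rc (RingHom.id F) (PP F r j) = PP F r j := by
        rw [← PP_sIdx (RingHom.id F) (fun _ => rfl) hrF j, hj]
      exact rc_ne_self_of_odd (hr.odd_of_ne_two hr2) (PP_monic j) (PP_dvd j) (PP_coeff_zero j)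
        (PP_eval_one hrF j) (by rw [hdeg]; exact hodd) h1
    rw [card_symm_bounded hsinv hfp i m hipos, hcardι] at hmain
    omega
  · have heven : Even i := Nat.not_odd_iff_even.1 hodd
    have hdvd : r ∣ Fintype.card F ^ (i / 2) + 1 := by
      obtain ⟨u, hu⟩ := heven
      have hupos : 0 < u := by omega
      have hi2 : i / 2 = u := by omega
      rw [hi2, hF]
      set x : ZMod r := (q : ZMod r) ^ u with hx
      have hx2 : x * x = 1 := by
        rw [hx, ← pow_add, ← hu, hi]
        exact pow_orderOf_eq_one _
      have hx1 : x ≠ 1 := by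
        rw [hx]
        apply pow_ne_one_of_lt_orderOf hupos.ne'
        rw [← hi]
        omega
      have hxm : x = -1 := (mul_self_eq_one_iff.1 hx2).resolve_left hx1
      rw [← ZMod.natCast_eq_zero_iff]
      push_cast
      rw [← hx, hxm]
      ring
    have hfix : ∀ j, sIdx (RingHom.id F) (fun _ => rfl) hrF j = j := by
      intro j
      apply Subtype.ext
      exact rc_eq_self_of_pow_eq_neg_one (PP_monic j) (PP_irred j) (PP_dvd j) (PP_coeff_zero j)
        (i / 2) hdvd
    have hequiv : {e : ↥(cycFactors F r) → ℕ //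
        e ∘ sIdx (RingHom.id F) (fun _ => rfl) hrF = e ∧ i * ∑ j, e j ≤ 2 * m} ≃
        {e : ↥(cycFactors F r) → ℕ // i * ∑ j, e j ≤ 2 * m} := by
      apply Equiv.subtypeEquivRight
      intro e
      constructor
      · intro h; exact h.2
      · intro h
        refine ⟨?_, h⟩
        funext j
        simp only [Function.comp_apply, hfix j]
    rw [Nat.card_congr hequiv, card_bounded_mul _ i (2 * m) hipos, hcardι] at hmain
    omega

end Cfsg.Agent.S2645
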