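import Mathlib
import Cfsg.Statements.S2665

set_option autoImplicit false
open scoped MatrixGroups
open Cfsg

namespace Cfsg.Agent.S2665

open Polynomial

section abstract

variable {K : Type*} [Field K] [IsAlgClosed K] (σ : K →+* K) (q : ℕ) (hq : 2 ≤ q)
  (hσ : ∀ x, σ x = x ^ q)

include hq in
theorem root_AS (c : K) : ∃ a : K, a ^ q - a + c = 0 := by
  have hdeg : (X ^ q - X + C c : K[X]).degree ≠ 0 := by
    have h1 : (X ^ q - X + C c : K[X]) = X ^ q - (X - C c) := by ring
    have h2 : (X - C c : K[X]).degree < (X ^ q : K[X]).degree := by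
      rw [degree_X_sub_C, degree_X_pow]
      exact_mod_cast hq
    rw [h1, degree_sub_eq_left_of_degree_lt h2, degree_X_pow]
    intro h
    have : (q : WithBot ℕ) = ((0 : ℕ) : WithBot ℕ) := h
    have h' : q = 0 := by exact_mod_cast this
    omega
  obtain ⟨a, ha⟩ := IsAlgClosed.exists_root _ hdeg
  refine ⟨a, ?_⟩
  have := ha
  rw [IsRoot.def] at this
  simpa using this

include hq hσ in
theorem sigma_surj (c : K) : ∃ a : K, σ a = c := by
  obtain ⟨a, ha⟩ := IsAlgClosed.exists_pow_nat_eq c (show 0 < q by omega)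
  exact ⟨a, by rw [hσ, ha]⟩

variable {V : Type*} [AddCommGroup V] [Module K V]

/-- the polynomials `A i` of the recursion -/
noncomputable def polyA (q : ℕ) (c : ℕ → K) : ℕ → K[X]
  | 0 => C (c 0) * X ^ q
  | (i + 1) => (polyA q c i) ^ q + C (c (i + 1)) * X ^ q

include hq in
theorem polyA_dvd (c : ℕ → K) (i : ℕ) : (X : K[X]) ^ q ∣ polyA q c i := by
  induction i with
  | zero => exact Dvd.intro_left _ rfl
  | succ i ih =>
    rw [polyA]
    apply dvd_add
    · exact ih.trans (dvd_pow_self _ (by omega))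
    · exact Dvd.intro_left _ rfl

include hq in
theorem polyA_natDegree (c : ℕ → K) (hc : c 0 ≠ 0) (i : ℕ) :
    (polyA q c i).natDegree = q ^ (i + 1) := by
  induction i with
  | zero =>
    rw [polyA, natDegree_C_mul_X_pow _ _ hc, zero_add, pow_one]
  | succ i ih =>
    rw [polyA]
    have h1 : ((polyA q c i) ^ q).natDegree = q ^ (i + 1 + 1) := by
      rw [natDegree_pow, ih]
      ring
    have h2 : (C (c (i + 1)) * X ^ q : K[X]).natDegree < ((polyA q c i) ^ q).natDegree := by
      rw [h1]
      calc (C (c (i + 1)) * X ^ q : K[X]).natDegree ≤ q := natDegree_C_mul_X_pow_le _ _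
        _ = q ^ 1 := (pow_one q).symm
        _ < q ^ (i + 1 + 1) := Nat.pow_lt_pow_right (by omega) (by omega)
    rw [natDegree_add_eq_left_of_natDegree_lt h2, h1]

include hq in
/-- there is a nonzero root of `A k - X` -/
theorem polyA_root (c : ℕ → K) (hc : c 0 ≠ 0) (k : ℕ) :
    ∃ y : K, y ≠ 0 ∧ (polyA q c k).eval y = y := by
  obtain ⟨B, hB⟩ := polyA_dvd q hq c k
  have hA0 : polyA q c k ≠ 0 := by
    intro h
    have := polyA_natDegree q hq c hc k
    rw [h, natDegree_zero] at this
    have : 0 < q ^ (k + 1) := Nat.pow_pos (by omega)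
    omega
  have hB0 : B ≠ 0 := by
    intro h
    apply hA0
    rw [hB, h, mul_zero]
  set S : K[X] := X ^ (q - 1) * B - 1 with hS
  have hSdeg : S.degree ≠ 0 := by
    have h1 : (1 : K[X]).degree < (X ^ (q - 1) * B : K[X]).degree := by
      rw [degree_one, degree_mul, degree_X_pow, degree_eq_natDegree hB0]
      have : (0 : WithBot ℕ) < ((q - 1 : ℕ) : WithBot ℕ) := by
        exact_mod_cast (show 0 < q - 1 by omega)
      calc (0 : WithBot ℕ) < ((q - 1 : ℕ) : WithBot ℕ) := this
        _ ≤ ((q - 1 : ℕ) : WithBot ℕ) + (B.natDegree : WithBot ℕ) := by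
          exact le_add_of_nonneg_right (by exact_mod_cast Nat.zero_le _)
    rw [hS, degree_sub_eq_left_of_degree_lt h1]
    intro h
    rw [h] at h1
    rw [degree_one] at h1
    exact lt_irrefl _ h1
  obtain ⟨y, hy⟩ := IsAlgClosed.exists_root S hSdeg
  rw [IsRoot.def, hS] at hy
  simp only [eval_sub, eval_mul, eval_pow, eval_X, eval_one] at hy
  have hy0 : y ≠ 0 := by
    intro h
    rw [h, zero_pow (by omega), zero_mul, zero_sub] at hy
    exact one_ne_zero (neg_eq_zero.1 hy)
  refine ⟨y, hy0, ?_⟩
  rw [hB]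
  simp only [eval_mul, eval_pow, eval_X]
  have : y ^ q = y * y ^ (q - 1) := by
    rw [← pow_succ']
    congr 1
    omega
  rw [this, mul_assoc]
  have h1 : y ^ (q - 1) * eval y B = 1 := by linear_combination hy
  rw [h1, mul_one]

end abstract

section fixedvec

variable {K : Type*} [Field K] [IsAlgClosed K] (σ : K →+* K) (q : ℕ) (hq : 2 ≤ q)
  (hσ : ∀ x, σ x = x ^ q)
variable {V : Type*} [AddCommGroup V] [Module K V] [FiniteDimensional K V]

include hq hσ in
/-- minimal dependence among the iterates of `u` -/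
theorem exists_min_dep (φ : V →ₛₗ[σ] V) (hφ : Function.Injective φ) (u : V) (hu : u ≠ 0) :
    ∃ (k : ℕ) (c : Fin (k + 1) → K),
      LinearIndependent K (fun i : Fin (k + 1) => φ^[(i : ℕ)] u) ∧
      φ^[k + 1] u = ∑ i : Fin (k + 1), c i • φ^[(i : ℕ)] u ∧ c 0 ≠ 0 := by
  classical
  have hex : ∃ m, φ^[m] u ∈ Submodule.span K (Set.range (fun i : Fin m => φ^[(i : ℕ)] u)) := by
    by_contra hno
    have hno' : ∀ m, φ^[m] u ∉ Submodule.span K (Set.range (fun i : Fin m => φ^[(i : ℕ)] u)) :=
      fun m hm => hno ⟨m, hm⟩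
    have hli : ∀ m, LinearIndependent K (fun i : Fin m => φ^[(i : ℕ)] u) := by
      intro m
      induction m with
      | zero => exact linearIndependent_empty_type
      | succ m ih =>
        rw [linearIndependent_finSucc']
        exact ⟨ih, hno' m⟩
    have := (hli (Module.finrank K V + 1)).fintype_card_le_finrank
    simp at this
  have hmin : ∀ j, j < Nat.find hex →
      φ^[j] u ∉ Submodule.span K (Set.range (fun i : Fin j => φ^[(i : ℕ)] u)) :=
    fun j hj => Nat.find_min hex hj
  have hspec := Nat.find_spec hex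
  have hm0 : Nat.find hex ≠ 0 := by
    intro h0
    rw [h0] at hspec
    have hr : Set.range (fun i : Fin 0 => φ^[(i : ℕ)] u) = ∅ := Set.range_eq_empty _
    rw [hr, Submodule.span_empty, Submodule.mem_bot] at hspec
    exact hu hspec
  obtain ⟨k, hk⟩ := Nat.exists_eq_succ_of_ne_zero hm0
  rw [hk] at hspec hmin
  have hli : ∀ j, j ≤ k + 1 → LinearIndependent K (fun i : Fin j => φ^[(i : ℕ)] u) := by
    intro j
    induction j with
    | zero => intro _; exact linearIndependent_empty_type
    | succ j ih =>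
      intro hj
      rw [linearIndependent_finSucc']
      exact ⟨ih (by omega), hmin j (by omega)⟩
  obtain ⟨c, hc⟩ := (Submodule.mem_span_range_iff_exists_fun K).1 hspec
  refine ⟨k, c, hli (k + 1) le_rfl, hc.symm, ?_⟩
  intro hc0
  apply hmin k (by omega)
  -- q-th roots of the coefficients
  choose d hd using fun i : Fin k => sigma_surj σ q hq hσ (c i.succ)
  have h1 : φ (φ^[k] u) = φ (∑ i : Fin k, d i • φ^[(i : ℕ)] u) := by
    rw [← Function.iterate_succ_apply' φ k u, ← hc, Fin.sum_univ_succ, hc0, zero_smul, zero_add,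
      map_sum]
    apply Finset.sum_congr rfl
    intro i _
    rw [map_smulₛₗ, hd i, Fin.val_succ, Function.iterate_succ_apply']
  rw [hφ h1]
  exact Submodule.sum_mem _ fun i _ => Submodule.smul_mem _ _ (Submodule.subset_span ⟨i, rfl⟩)

include hq hσ in
theorem exists_fixed [Nontrivial V] (φ : V →ₛₗ[σ] V) (hφ : Function.Injective φ) :
    ∃ v : V, v ≠ 0 ∧ φ v = v := by
  classical
  obtain ⟨u, hu⟩ := exists_ne (0 : V)
  obtain ⟨k, c, hli, hdep, hc0⟩ := exists_min_dep σ q hq hσ φ hφ u hu
  set c' : ℕ → K := fun i => if h : i < k + 1 then c ⟨i, h⟩ else 0 with hc'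
  have hc'0 : c' 0 ≠ 0 := by
    rw [hc']
    simpa using hc0
  obtain ⟨y, hy0, hy⟩ := polyA_root q hq c' hc'0 k
  set a : ℕ → K := fun i => (polyA q c' i).eval y with ha
  have ha0 : a 0 = c 0 * y ^ q := by
    simp [ha, polyA, hc']
  have hasucc : ∀ i : Fin k, a ((i : ℕ) + 1) = (a i) ^ q + c i.succ * y ^ q := by
    intro i
    have : c' ((i : ℕ) + 1) = c i.succ := by
      rw [hc']
      have hi : (i : ℕ) + 1 < k + 1 := by omega
      simp only [hi, dite_true]
      rfl
    simp [ha, polyA, this]
  have hak : a k = y := hy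
  refine ⟨∑ i : Fin (k + 1), a i • φ^[(i : ℕ)] u, ?_, ?_⟩
  · intro h0
    have := Fintype.linearIndependent_iff.1 hli (fun i => a i) h0 (Fin.last k)
    rw [Fin.val_last, hak] at this
    exact hy0 this
  · rw [map_sum]
    have hL : ∀ i : Fin (k + 1), φ (a i • φ^[(i : ℕ)] u) = (a i) ^ q • φ^[(i : ℕ) + 1] u := by
      intro i
      rw [map_smulₛₗ, hσ, Function.iterate_succ_apply']
    have hLHS : ∑ i : Fin (k + 1), φ (a i • φ^[(i : ℕ)] u) =
        ∑ i : Fin k, (a i) ^ q • φ^[(i : ℕ) + 1] u +
          y ^ q • (c 0 • u + ∑ i : Fin k, c i.succ • φ^[(i : ℕ) + 1] u) := by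
      rw [Finset.sum_congr rfl (fun i _ => hL i), Fin.sum_univ_castSucc]
      simp only [Fin.val_castSucc, Fin.val_last]
      rw [hak, hdep, Fin.sum_univ_succ]
      simp only [Fin.val_zero, Function.iterate_zero, id_eq, Fin.val_succ]
    have hRHS : ∑ i : Fin (k + 1), a i • φ^[(i : ℕ)] u =
        (c 0 * y ^ q) • u + ∑ i : Fin k, ((a i) ^ q + c i.succ * y ^ q) • φ^[(i : ℕ) + 1] u := by
      rw [Fin.sum_univ_succ]
      simp only [Fin.val_zero, Function.iterate_zero, id_eq, Fin.val_succ]
      rw [ha0]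
      congr 1
      apply Finset.sum_congr rfl
      intro i _
      rw [hasucc i]
    rw [hLHS, hRHS]
    simp only [add_smul, Finset.sum_add_distrib, Finset.smul_sum, smul_add, smul_smul]
    rw [mul_comm (c 0) (y ^ q)]
    have : ∀ i : Fin k, (c i.succ * y ^ q) = y ^ q * c i.succ := fun i => mul_comm _ _
    simp only [this]
    abel

end fixedvec

section span

variable {K : Type*} [Field K] [IsAlgClosed K] (σ : K →+* K) (q : ℕ) (hq : 2 ≤ q)
  (hσ : ∀ x, σ x = x ^ q)
variable {V : Type*} [AddCommGroup V] [Module K V] [FiniteDimensional K V]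

include hq hσ in
theorem fixed_span (φ : V →ₛₗ[σ] V) (hφ : Function.Injective φ) :
    Submodule.span K {v : V | φ v = v} = ⊤ := by
  classical
  have : RingHomSurjective σ := ⟨fun c => sigma_surj σ q hq hσ c⟩
  by_contra hne
  have hcomap : Submodule.span K {v : V | φ v = v} ≤
      (Submodule.span K {v : V | φ v = v}).comap φ := by
    apply Submodule.span_le.2
    intro v hv
    show φ v ∈ Submodule.span K {v : V | φ v = v}
    have hv' : φ v = v := hv
    rw [hv']
    exact Submodule.subset_span hv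
  have hmap : Submodule.span K {v : V | φ v = v} ≤
      (Submodule.span K {v : V | φ v = v}).map φ := by
    apply Submodule.span_le.2
    intro v hv
    exact ⟨v, Submodule.subset_span hv, hv⟩
  have hmem : ∀ w, φ w ∈ Submodule.span K {v : V | φ v = v} →
      w ∈ Submodule.span K {v : V | φ v = v} := by
    intro w hw
    obtain ⟨w', hw', he⟩ := hmap hw
    rw [← hφ he]
    exact hw'
  have hinj : Function.Injective
      ((Submodule.span K {v : V | φ v = v}).mapQ (Submodule.span K {v : V | φ v = v}) φ hcomap) := by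
    rw [injective_iff_map_eq_zero]
    intro x hx
    obtain ⟨w, rfl⟩ := Submodule.Quotient.mk_surjective _ x
    rw [Submodule.mapQ_apply, Submodule.Quotient.mk_eq_zero] at hx
    rw [Submodule.Quotient.mk_eq_zero]
    exact hmem w hx
  have : Nontrivial (V ⧸ Submodule.span K {v : V | φ v = v}) :=
    Submodule.Quotient.nontrivial_iff.2 hne
  obtain ⟨wbar, hw0, hwfix⟩ := exists_fixed σ q hq hσ _ hinj
  obtain ⟨w, rfl⟩ := Submodule.Quotient.mk_surjective _ wbar
  rw [Submodule.mapQ_apply, Submodule.Quotient.eq] at hwfix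
  -- key claim
  have key : ∀ x ∈ Submodule.span K {v : V | φ v = v}, ∀ c : K,
      ∃ z ∈ Submodule.span K {v : V | φ v = v}, φ z - z = c • x := by
    intro x hx
    induction hx using Submodule.span_induction with
    | mem v hv =>
      intro c
      obtain ⟨a, ha⟩ := root_AS q hq (-c)
      refine ⟨a • v, Submodule.smul_mem _ _ (Submodule.subset_span hv), ?_⟩
      have hv' : φ v = v := hv
      rw [map_smulₛₗ, hσ, hv', ← sub_smul]
      congr 1
      linear_combination ha
    | zero =>
      intro c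
      exact ⟨0, Submodule.zero_mem _, by simp⟩
    | add x y _ _ ihx ihy =>
      intro c
      obtain ⟨z1, hz1, h1⟩ := ihx c
      obtain ⟨z2, hz2, h2⟩ := ihy c
      refine ⟨z1 + z2, Submodule.add_mem _ hz1 hz2, ?_⟩
      rw [map_add, smul_add, ← h1, ← h2]
      abel
    | smul r x _ ih =>
      intro c
      obtain ⟨z, hz, h⟩ := ih (c * r)
      exact ⟨z, hz, by rw [h, mul_smul]⟩
  obtain ⟨z, hz, hzz⟩ := key _ hwfix (-1)
  have hfix : φ (w + z) = w + z := by
    rw [map_add]
    have : φ z = z + (-1 : K) • (φ w - w) := by rw [← hzz]; abel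
    rw [this]
    simp only [neg_smul, one_smul]
    abel
  have hwz : w + z ∈ Submodule.span K {v : V | φ v = v} := Submodule.subset_span hfix
  apply hw0
  rw [Submodule.Quotient.mk_eq_zero]
  have : w = (w + z) - z := by abel
  rw [this]
  exact Submodule.sub_mem _ hwz hz

end span

section matrix

variable {K : Type*} [Field K] [IsAlgClosed K] (σ : K →+* K) (q : ℕ) (hq : 2 ≤ q)
  (hσ : ∀ x, σ x = x ^ q) {n : ℕ}

/-- the semilinear map `v ↦ g • σ(v)` -/
noncomputable def phi (g : Matrix (Fin n) (Fin n) K) : (Fin n → K) →ₛₗ[σ] (Fin n → K) where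
  toFun v := g.mulVec (fun j => σ (v j))
  map_add' v w := by
    rw [← Matrix.mulVec_add]
    congr 1
    ext j
    simp
  map_smul' c v := by
    rw [← Matrix.mulVec_smul]
    congr 1
    ext j
    simp

include hq hσ in
theorem lang_matrix (g : GL (Fin n) K) :
    ∃ x : GL (Fin n) K, g * Matrix.GeneralLinearGroup.map σ x = x := by
  classical
  have hinj : Function.Injective (phi σ (g : Matrix (Fin n) (Fin n) K)) := by
    intro v w hvw
    have h1 : (g : Matrix (Fin n) (Fin n) K).mulVec (fun j => σ (v j)) =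
        (g : Matrix (Fin n) (Fin n) K).mulVec (fun j => σ (w j)) := hvw
    have h2 := congrArg ((g⁻¹ : GL (Fin n) K) : Matrix (Fin n) (Fin n) K).mulVec h1
    rw [Matrix.mulVec_mulVec, Matrix.mulVec_mulVec, ← Matrix.GeneralLinearGroup.coe_mul,
      inv_mul_cancel, Matrix.GeneralLinearGroup.coe_one, Matrix.one_mulVec,
      Matrix.one_mulVec] at h2
    ext j
    exact σ.injective (congrFun h2 j)
  have hspan := fixed_span σ q hq hσ (phi σ (g : Matrix (Fin n) (Fin n) K)) hinj
  obtain ⟨b, hbS, hbspan, hbli⟩ := exists_linearIndependent K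
    {v : Fin n → K | phi σ (g : Matrix (Fin n) (Fin n) K) v = v}
  have htop : ⊤ ≤ Submodule.span K (Set.range ((↑) : b → (Fin n → K))) := by
    rw [Subtype.range_coe, hbspan, hspan]
  let B : Module.Basis b K (Fin n → K) := Module.Basis.mk hbli htop
  have : Fintype b := FiniteDimensional.fintypeBasisIndex B
  have hcard : Fintype.card b = n := by
    rw [← Module.finrank_eq_card_basis B, Module.finrank_fin_fun]
  let e : b ≃ Fin n := Fintype.equivFinOfCardEq hcard
  let B' : Module.Basis (Fin n) K (Fin n → K) := B.reindex e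
  have hB'fix : ∀ i, phi σ (g : Matrix (Fin n) (Fin n) K) (B' i) = B' i := by
    intro i
    have : B' i = ((e.symm i : b) : Fin n → K) := by
      simp [B', B]
    rw [this]
    exact hbS (e.symm i).2
  let X : Matrix (Fin n) (Fin n) K := (Pi.basisFun K (Fin n)).toMatrix B'
  have hXapp : ∀ i j, X i j = B' j i := by
    intro i j
    simp [X, Module.Basis.toMatrix_apply]
  have : Invertible X := (Pi.basisFun K (Fin n)).invertibleToMatrix B'
  refine ⟨Matrix.GeneralLinearGroup.mk'' X (Matrix.isUnit_det_of_invertible X), ?_⟩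
  apply Units.ext
  ext i j
  rw [Matrix.GeneralLinearGroup.coe_mul, Matrix.mul_apply]
  show ∑ l, (g : Matrix (Fin n) (Fin n) K) i l * σ (X l j) = X i j
  have := congrFun (hB'fix j) i
  rw [hXapp]
  rw [← this]
  simp only [phi, LinearMap.coe_mk, AddHom.coe_mk, Matrix.mulVec, dotProduct, hXapp]

end matrix

/-- The Lang–Steinberg Theorem for the general linear group. Let `K` be an algebraically closed field of prime characteristic `p`, let `q = p^f` with `f ≥ 1`, and let `σ` be the endomorphism of GL_n(K) raising every matrix entry to the `q`-th power. Then every element `g` of GL_n(K) can be written `g = x · σ(x)⁻¹` for some `x` in GL_n(K): the map `x ↦ x σ(x)⁻¹` is surjective. -/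
theorem result {K : Type*} [Field K] [IsAlgClosed K] (p : ℕ) [Fact p.Prime] [CharP K p]
    (f : ℕ) (hf : 1 ≤ f) (n : ℕ) (g : GL (Fin n) K) :
    ∃ x : GL (Fin n) K, g = x * (Matrix.GeneralLinearGroup.map (iterateFrobenius K p f) x)⁻¹ := by
  have hp : 2 ≤ p := (Fact.out : p.Prime).two_le
  have hq : 2 ≤ p ^ f := by
    calc 2 ≤ p := hp
      _ = p ^ 1 := (pow_one p).symm
      _ ≤ p ^ f := Nat.pow_le_pow_right (by omega) hf
  obtain ⟨x, hx⟩ := lang_matrix (iterateFrobenius K p f) (p ^ f) hq
    (fun x => iterateFrobenius_def p f x) g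
  exact ⟨x, eq_mul_inv_of_mul_eq hx⟩

end Cfsg.Agent.S2665
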