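import Cfsg.Statements.S2666

set_option autoImplicit false
open Cfsg

namespace Cfsg.Agent.S2666

theorem pow_comm_apply {X : Type*} [Group X] (σ : MulAut X) (n : ℕ) (a : X) :
    (σ ^ n) (σ a) = σ ((σ ^ n) a) := by
  have h : σ ^ n * σ = σ * σ ^ n := (pow_succ σ n).symm.trans (pow_succ' σ n)
  have := congrArg (fun f : MulAut X => f a) h
  simpa [MulAut.mul_apply] using this

theorem fixed_pow {X : Type*} [Group X] (σ : MulAut X) (y : X) (hy : σ y = y) (n : ℕ) :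
    (σ ^ n) y = y := by
  induction n with
  | zero => simp
  | succ n ih => rw [pow_succ', MulAut.mul_apply, ih, hy]

theorem norm_formula {X : Type*} [Group X] (σ : MulAut X) (g a : X) (ha : g = a * (σ a)⁻¹) (d : ℕ) :
    ((List.range d).map (fun i => (σ ^ i) g)).prod = a * ((σ ^ d) a)⁻¹ := by
  induction d with
  | zero => simp
  | succ n ih =>
    rw [List.range_succ, List.map_append, List.prod_append, ih]
    simp only [List.map_cons, List.map_nil, List.prod_cons, List.prod_nil, mul_one]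
    rw [ha, map_mul, map_inv, pow_succ']
    simp [mul_assoc, pow_comm_apply]

/-- `x = σ^e(a)⁻¹ a` is σ-fixed when `g = a σ(a)⁻¹` is `σ^e`-fixed. -/
theorem x_fixed {X : Type*} [Group X] (σ : MulAut X) (e : ℕ) (g a : X)
    (hg' : (σ ^ e) g = g) (ha : g = a * (σ a)⁻¹) :
    σ (((σ ^ e) a)⁻¹ * a) = ((σ ^ e) a)⁻¹ * a := by
  have h1 : (σ ^ e) (a * (σ a)⁻¹) = a * (σ a)⁻¹ := by rw [← ha]; exact hg'
  rw [map_mul, map_inv, pow_comm_apply] at h1
  rw [map_mul, map_inv]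
  have : σ ((σ ^ e) a) = σ a * a⁻¹ * (σ ^ e) a := by
    have h2 : (σ ((σ ^ e) a))⁻¹ = ((σ ^ e) a)⁻¹ * (a * (σ a)⁻¹) := by
      rw [← h1]; group
    have h3 := congrArg (fun z => z⁻¹) h2
    simp only [inv_inv] at h3
    rw [h3]; group
  rw [this]; group

/-- Shintani descent, abstract form. -/
theorem result {X : Type*} [Group X] (σ : MulAut X) (e : ℕ) (he : 1 ≤ e)
    (hL : ∀ g : X, ∃ a : X, g = a * (σ a)⁻¹) (hLe : ∀ g : X, ∃ a : X, g = a * ((σ ^ e) a)⁻¹) :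
    (∀ g ∈ (MulEquiv.toMonoidHom (σ ^ e)).eqLocus (MonoidHom.id X), ∀ a : X, g = a * (σ a)⁻¹ →
        ((σ ^ e) a)⁻¹ * a ∈ (MulEquiv.toMonoidHom σ).eqLocus (MonoidHom.id X) ∧
          a⁻¹ * ((List.range e).map (fun i => (σ ^ i) g)).prod * a = ((σ ^ e) a)⁻¹ * a) ∧
    (∀ g ∈ (MulEquiv.toMonoidHom (σ ^ e)).eqLocus (MonoidHom.id X), ∀ g' ∈ (MulEquiv.toMonoidHom (σ ^ e)).eqLocus (MonoidHom.id X), ∀ a b : X,
        g = a * (σ a)⁻¹ → g' = b * (σ b)⁻¹ →
          ((∃ k ∈ (MulEquiv.toMonoidHom (σ ^ e)).eqLocus (MonoidHom.id X), g' = k * g * (σ k)⁻¹) ↔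
            (∃ h ∈ (MulEquiv.toMonoidHom σ).eqLocus (MonoidHom.id X), ((σ ^ e) b)⁻¹ * b = h * (((σ ^ e) a)⁻¹ * a) * h⁻¹))) ∧
    (∀ x ∈ (MulEquiv.toMonoidHom σ).eqLocus (MonoidHom.id X), ∃ g ∈ (MulEquiv.toMonoidHom (σ ^ e)).eqLocus (MonoidHom.id X), ∃ a : X,
        g = a * (σ a)⁻¹ ∧ ((σ ^ e) a)⁻¹ * a = x) := by
  refine ⟨?_, ?_, ?_⟩
  · intro g hg a ha
    have hg' : (σ ^ e) g = g := hg
    refine ⟨x_fixed σ e g a hg' ha, ?_⟩
    rw [norm_formula σ g a ha e]; group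
  · intro g hg g' hg' a b ha hb
    have hgf : (σ ^ e) g = g := hg
    have hgf' : (σ ^ e) g' = g' := hg'
    constructor
    · rintro ⟨k, hk, hkg⟩
      have hkf : (σ ^ e) k = k := hk
      -- h' = (k a)⁻¹ b is σ-fixed
      have h1 : b * (σ b)⁻¹ = (k * a) * (σ (k * a))⁻¹ := by
        rw [← hb, hkg, ha, map_mul]; group
      have h2 : σ ((k * a)⁻¹ * b) = (k * a)⁻¹ * b := by
        rw [map_mul, map_inv]
        have h3 : σ b = ((k * a) * (σ (k * a))⁻¹)⁻¹ * b := by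
          rw [← h1]; group
        rw [h3]; group
      refine ⟨((k * a)⁻¹ * b)⁻¹, ?_, ?_⟩
      · show σ _ = _
        rw [map_inv, h2]; rfl
      · have h4 := fixed_pow σ _ h2 e
        -- b = k a h'
        have h5 : (σ ^ e) b = (σ ^ e) (k * a) * ((k * a)⁻¹ * b) := by
          rw [← h4, ← map_mul]; congr 1; group
        rw [h5, map_mul, hkf]; group
    · rintro ⟨h, hh, hx⟩
      have hhf : σ h = h := hh
      have hhe := fixed_pow σ h hhf e
      refine ⟨b * h * a⁻¹, ?_, ?_⟩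
      · show (σ ^ e) _ = _
        rw [map_mul, map_mul, map_inv, hhe]
        -- σ^e b * h * (σ^e a)⁻¹ = b * h * a⁻¹
        have h6 : (σ ^ e) b = b * (h * (((σ ^ e) a)⁻¹ * a) * h⁻¹)⁻¹ := by
          rw [← hx]; group
        rw [h6]; simp only [MonoidHom.id_apply]; group
      · rw [hb, ha, map_mul, map_mul, map_inv, hhf]; group
  · intro x hx
    have hxf : σ x = x := hx
    obtain ⟨c, hc⟩ := hLe x⁻¹
    have hxc : x = (σ ^ e) c * c⁻¹ := by
      have := congrArg (fun z => z⁻¹) hc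
      simp only [inv_inv, mul_inv_rev] at this
      exact this
    refine ⟨c⁻¹ * (σ c⁻¹)⁻¹, ?_, c⁻¹, rfl, ?_⟩
    · show (σ ^ e) _ = _
      simp only [MonoidHom.id_apply]
      have h7 : (σ ^ e) c = x * c := by rw [hxc]; group
      simp only [map_mul, map_inv, inv_inv, pow_comm_apply]
      rw [h7, map_mul, hxf]; group
    · rw [map_inv, inv_inv, hxc]

end Cfsg.Agent.S2666
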