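import Cfsg.Statements.S2667

set_option autoImplicit false
open Cfsg

namespace Cfsg.Agent.S2667

theorem fixed_pow {X : Type*} [Group X] (σ : MulAut X) (y : X) (hy : σ y = y) (n : ℕ) :
    (σ ^ n) y = y := by
  induction n with
  | zero => simp
  | succ n ih => rw [pow_succ', MulAut.mul_apply, ih, hy]

/-- Shintani descent: centralizers. -/
theorem result {X : Type*} [Group X] (σ : MulAut X) (e : ℕ) (he : 1 ≤ e)
    (g : X) (hg : g ∈ (MulEquiv.toMonoidHom (σ ^ e)).eqLocus (MonoidHom.id X)) (a : X) (ha : g = a * (σ a)⁻¹) (k : X) :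
    (k ∈ (MulEquiv.toMonoidHom (σ ^ e)).eqLocus (MonoidHom.id X) ∧ k * g * (σ k)⁻¹ = g) ↔
      (a⁻¹ * k * a ∈ (MulEquiv.toMonoidHom σ).eqLocus (MonoidHom.id X) ∧
        (a⁻¹ * k * a) * (((σ ^ e) a)⁻¹ * a) = (((σ ^ e) a)⁻¹ * a) * (a⁻¹ * k * a)) := by
  -- B ↔ C
  have hBC : k * g * (σ k)⁻¹ = g ↔ σ (a⁻¹ * k * a) = a⁻¹ * k * a := by
    rw [map_mul, map_mul, map_inv, ha]
    constructor
    · intro h
      have h' : σ k = (a * (σ a)⁻¹)⁻¹ * k * (a * (σ a)⁻¹) := by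
        have h2 : (σ k)⁻¹ = (a * (σ a)⁻¹)⁻¹ * k⁻¹ * (a * (σ a)⁻¹) := by
          calc (σ k)⁻¹ = (a * (σ a)⁻¹)⁻¹ * k⁻¹ * (k * (a * (σ a)⁻¹) * (σ k)⁻¹) := by group
            _ = _ := by rw [h]
        have h3 := congrArg (fun z => z⁻¹) h2
        simp only [inv_inv] at h3
        rw [h3]; group
      rw [h']; group
    · intro h
      have h' : σ k = σ a * (a⁻¹ * k * a) * (σ a)⁻¹ := by
        rw [← h]; group
      rw [h']; group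
  have hA : k ∈ (MulEquiv.toMonoidHom (σ ^ e)).eqLocus (MonoidHom.id X) ↔ (σ ^ e) k = k := Iff.rfl
  have hC : a⁻¹ * k * a ∈ (MulEquiv.toMonoidHom σ).eqLocus (MonoidHom.id X) ↔ σ (a⁻¹ * k * a) = a⁻¹ * k * a := Iff.rfl
  rw [hA, hC, hBC]
  constructor
  · rintro ⟨h1, h2⟩
    refine ⟨h2, ?_⟩
    have h3 := fixed_pow σ _ h2 e
    rw [map_mul, map_mul, map_inv, h1] at h3
    -- h3 : (σ^e a)⁻¹ * k * σ^e a = a⁻¹ * k * a
    calc a⁻¹ * k * a * (((σ ^ e) a)⁻¹ * a)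
        = (((σ ^ e) a)⁻¹ * k * (σ ^ e) a) * (((σ ^ e) a)⁻¹ * a) := by rw [h3]
      _ = _ := by group
  · rintro ⟨h2, h4⟩
    refine ⟨?_, h2⟩
    have h3 := fixed_pow σ _ h2 e
    rw [map_mul, map_mul, map_inv] at h3
    -- h3 : (σ^e a)⁻¹ * σ^e k * σ^e a = a⁻¹ * k * a
    have h5 : (σ ^ e) k = (σ ^ e) a * (a⁻¹ * k * a) * ((σ ^ e) a)⁻¹ := by
      rw [← h3]; group
    rw [h5]
    calc (σ ^ e) a * (a⁻¹ * k * a) * ((σ ^ e) a)⁻¹
        = (σ ^ e) a * ((a⁻¹ * k * a) * (((σ ^ e) a)⁻¹ * a)) * a⁻¹ := by group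
      _ = (σ ^ e) a * ((((σ ^ e) a)⁻¹ * a) * (a⁻¹ * k * a)) * a⁻¹ := by rw [h4]
      _ = k := by group

end Cfsg.Agent.S2667
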