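import Cfsg.Statements.S2668

set_option autoImplicit false
open Cfsg

namespace Cfsg.Agent.S2668

theorem pow_comm_apply {X : Type*} [Group X] (σ : MulAut X) (n : ℕ) (a : X) :
    (σ ^ n) (σ a) = σ ((σ ^ n) a) := by
  have h : σ ^ n * σ = σ * σ ^ n := (pow_succ σ n).symm.trans (pow_succ' σ n)
  have := congrArg (fun f : MulAut X => f a) h
  simpa [MulAut.mul_apply] using this

theorem norm_formula {X : Type*} [Group X] (σ : MulAut X) (g a : X) (ha : g = a * (σ a)⁻¹) (d : ℕ) :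
    ((List.range d).map (fun i => (σ ^ i) g)).prod = a * ((σ ^ d) a)⁻¹ := by
  induction d with
  | zero => simp
  | succ n ih =>
    rw [List.range_succ, List.map_append, List.prod_append, ih]
    simp only [List.map_cons, List.map_nil, List.prod_cons, List.prod_nil, mul_one]
    rw [ha, map_mul, map_inv, pow_succ']
    simp [mul_assoc, pow_comm_apply]

/-- if `x = σ^e(a)⁻¹ a` is fixed by σ then `σ^(e*d)(a)⁻¹ a = x^d`. -/
theorem pow_formula {X : Type*} [Group X] (σ : MulAut X) (a : X) (e : ℕ)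
    (hx : σ (((σ ^ e) a)⁻¹ * a) = ((σ ^ e) a)⁻¹ * a) (d : ℕ) :
    (((σ ^ e) ^ d) a)⁻¹ * a = (((σ ^ e) a)⁻¹ * a) ^ d := by
  have hfix : ∀ n : ℕ, (σ ^ n) (((σ ^ e) a)⁻¹ * a) = ((σ ^ e) a)⁻¹ * a := by
    intro n
    induction n with
    | zero => simp
    | succ n ih => rw [pow_succ', MulAut.mul_apply, ih, hx]
  induction d with
  | zero => simp
  | succ n ih =>
    have h1 : ((σ ^ e) ^ (n + 1)) a = ((σ ^ e) ^ n) ((σ ^ e) a) := by
      rw [pow_succ, MulAut.mul_apply]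
    have h2 := hfix (e * n)
    rw [pow_mul] at h2
    rw [map_mul, map_inv] at h2
    have h3 : ((σ ^ e) ^ n) ((σ ^ e) a) = ((σ ^ e) ^ n) a * (((σ ^ e) a)⁻¹ * a)⁻¹ := by
      rw [← h2]; group
    calc (((σ ^ e) ^ (n + 1)) a)⁻¹ * a
        = (((σ ^ e) ^ n) a * (((σ ^ e) a)⁻¹ * a)⁻¹)⁻¹ * a := by rw [h1, h3]
      _ = (((σ ^ e) a)⁻¹ * a) * ((((σ ^ e) ^ n) a)⁻¹ * a) := by group
      _ = (((σ ^ e) a)⁻¹ * a) * (((σ ^ e) a)⁻¹ * a) ^ n := by rw [ih]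
      _ = (((σ ^ e) a)⁻¹ * a) ^ (n + 1) := (pow_succ' _ n).symm

/-- Shintani descent and powers (abstract form). -/
theorem result {X : Type*} [Group X] (σ : MulAut X) (e d : ℕ) (he : 1 ≤ e) (hd : 1 ≤ d)
    (g : X) (hg : g ∈ (MulEquiv.toMonoidHom (σ ^ e)).eqLocus (MonoidHom.id X)) (a : X) (ha : g = a * (σ a)⁻¹) :
    ((List.range d).map (fun i => (σ ^ i) g)).prod = a * ((σ ^ d) a)⁻¹ ∧
      ((List.range d).map (fun i => (σ ^ i) g)).prod ∈ (MulEquiv.toMonoidHom ((σ ^ d) ^ e)).eqLocus (MonoidHom.id X) ∧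
      (((σ ^ d) ^ e) a)⁻¹ * a = (((σ ^ e) a)⁻¹ * a) ^ d := by
  have hg' : (σ ^ e) g = g := hg
  -- x is σ-fixed
  have hx : σ (((σ ^ e) a)⁻¹ * a) = ((σ ^ e) a)⁻¹ * a := by
    have h1 : (σ ^ e) (a * (σ a)⁻¹) = a * (σ a)⁻¹ := by rw [← ha]; exact hg'
    rw [map_mul, map_inv, pow_comm_apply] at h1
    rw [map_mul, map_inv]
    -- h1 : σ^e a * (σ (σ^e a))⁻¹ = a * (σ a)⁻¹
    have : σ ((σ ^ e) a) = σ a * a⁻¹ * (σ ^ e) a := by
      have h2 : (σ ((σ ^ e) a))⁻¹ = ((σ ^ e) a)⁻¹ * (a * (σ a)⁻¹) := by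
        rw [← h1]; group
      have h3 := congrArg (fun z => z⁻¹) h2
      simp only [inv_inv] at h3
      rw [h3]; group
    rw [this]; group
  have hcomm : (σ ^ d) ^ e = (σ ^ e) ^ d := by rw [← pow_mul, ← pow_mul, mul_comm]
  have hN := norm_formula σ g a ha d
  have hP := pow_formula σ a e hx d
  refine ⟨hN, ?_, ?_⟩
  · show ((σ ^ d) ^ e) _ = _
    rw [hN, hcomm, map_mul, map_inv]
    -- (τ^d) a * ((τ^d) (σ^d a))⁻¹ = a * (σ^d a)⁻¹
    have hfixn : ∀ n : ℕ, (σ ^ n) (((σ ^ e) a)⁻¹ * a) = ((σ ^ e) a)⁻¹ * a := by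
      intro n
      induction n with
      | zero => simp
      | succ n ih => rw [pow_succ', MulAut.mul_apply, ih, hx]
    -- (τ^d a)⁻¹ a = x^d is fixed by σ^d
    have hxd : (σ ^ d) ((((σ ^ e) ^ d) a)⁻¹ * a) = (((σ ^ e) ^ d) a)⁻¹ * a := by
      rw [hP, map_pow, hfixn]
    rw [map_mul, map_inv] at hxd
    have hsw : (σ ^ d) (((σ ^ e) ^ d) a) = ((σ ^ e) ^ d) ((σ ^ d) a) := by
      have : σ ^ d * (σ ^ e) ^ d = (σ ^ e) ^ d * σ ^ d := by
        rw [← pow_mul, ← pow_add, ← pow_add, add_comm]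
      have := congrArg (fun f : MulAut X => f a) this
      simpa [MulAut.mul_apply] using this
    rw [hsw] at hxd
    have : ((σ ^ e) ^ d) ((σ ^ d) a) = (σ ^ d) a * a⁻¹ * ((σ ^ e) ^ d) a := by
      have h3 := congrArg (fun z => z⁻¹) hxd
      simp only [mul_inv_rev, inv_inv] at h3
      -- h3 : (σ^d a)⁻¹ * τ^d(σ^d a) = a⁻¹ * τ^d a
      calc ((σ ^ e) ^ d) ((σ ^ d) a) = (σ ^ d) a * (((σ ^ d) a)⁻¹ * ((σ ^ e) ^ d) ((σ ^ d) a)) := by group
        _ = (σ ^ d) a * (a⁻¹ * ((σ ^ e) ^ d) a) := by rw [h3]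
        _ = _ := by group
    rw [this]; simp only [MonoidHom.id_apply]; group
  · rw [hcomm]; exact hP

end Cfsg.Agent.S2668
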