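import Cfsg.Statements.S2669
import Mathlib


set_option autoImplicit false
open Cfsg

namespace Cfsg.Agent.S2669

theorem card_rel {α β : Type*} [Finite α] [Finite β] (R : α → β → Prop) (m : ℕ)
    (hm : ∀ a, (∃ b, R a b) → Nat.card {b // R a b} = m) :
    Nat.card {p : α × β // R p.1 p.2} = Nat.card {a // ∃ b, R a b} * m := by
  classical
  haveI := Fintype.ofFinite α
  haveI := Fintype.ofFinite β
  let e : {p : α × β // R p.1 p.2} ≃ Σ a : {a // ∃ b, R a b}, {b // R a.1 b} :=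
    { toFun := fun p => ⟨⟨p.1.1, p.1.2, p.2⟩, ⟨p.1.2, p.2⟩⟩
      invFun := fun s => ⟨(s.1.1, s.2.1), s.2.2⟩
      left_inv := fun p => rfl
      right_inv := fun s => rfl }
  rw [Nat.card_congr e, Nat.card_sigma]
  rw [Finset.sum_congr rfl (fun a _ => hm a.1 a.2)]
  rw [Finset.sum_const, Finset.card_univ, Nat.card_eq_fintype_card, smul_eq_mul]

theorem pow_fix {X : Type*} [Group X] (σ : MulAut X) (x : X) (hx : σ x = x) (n : ℕ) :
    (σ ^ n) x = x := by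
  induction n with
  | zero => simp
  | succ n ih => rw [pow_succ, MulAut.mul_apply, hx, ih]

theorem pow_mem {X : Type*} [Group X] (σ : MulAut X) (Y : Subgroup X)
    (hY : ∀ y : X, y ∈ Y ↔ σ y ∈ Y) (n : ℕ) (y : X) : y ∈ Y ↔ (σ ^ n) y ∈ Y := by
  induction n generalizing y with
  | zero => simp
  | succ n ih => rw [pow_succ, MulAut.mul_apply, ← ih, ← hY]

theorem key {X : Type*} [Group X] (G H Y : Subgroup X) [Finite G] [Finite H] (a : X)
    (P : G → Prop) (Q : H → Prop)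
    (hP : ∀ k : G, P k ↔ ∃ h : H, (k : X)⁻¹ * a * (h : X) ∈ Y)
    (hQ : ∀ h : H, Q h ↔ ∃ k : G, (k : X)⁻¹ * a * (h : X) ∈ Y) :
    Nat.card {k : G // P k} * Nat.card ↥(Y ⊓ H) = Nat.card {h : H // Q h} * Nat.card ↥(Y ⊓ G) := by
  classical
  have h1 : Nat.card {p : H × G // (p.2 : X)⁻¹ * a * (p.1 : X) ∈ Y} =
      Nat.card {h : H // ∃ k : G, (k : X)⁻¹ * a * (h : X) ∈ Y} * Nat.card ↥(Y ⊓ G) := by
    apply card_rel (fun (h : H) (k : G) => (k : X)⁻¹ * a * (h : X) ∈ Y)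
    rintro h ⟨k₀, hk₀⟩
    refine Nat.card_congr ?_
    refine
      { toFun := fun k => ⟨(k₀ : X)⁻¹ * (k.1 : X), ?_⟩
        invFun := fun y => ⟨⟨(k₀ : X) * (y : X), ?_⟩, ?_⟩
        left_inv := ?_
        right_inv := ?_ }
    · refine Subgroup.mem_inf.2 ⟨?_, G.mul_mem (G.inv_mem k₀.2) k.1.2⟩
      have h3 : (k₀ : X)⁻¹ * (k.1 : X) =
          ((k₀ : X)⁻¹ * a * (h : X)) * ((k.1 : X)⁻¹ * a * (h : X))⁻¹ := by group
      rw [h3]
      exact Y.mul_mem hk₀ (Y.inv_mem k.2)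
    · exact G.mul_mem k₀.2 (Subgroup.mem_inf.1 y.2).2
    · show ((k₀ : X) * (y : X))⁻¹ * a * (h : X) ∈ Y
      have h3 : ((k₀ : X) * (y : X))⁻¹ * a * (h : X) = (y : X)⁻¹ * ((k₀ : X)⁻¹ * a * (h : X)) := by
        group
      rw [h3]
      exact Y.mul_mem (Y.inv_mem (Subgroup.mem_inf.1 y.2).1) hk₀
    · intro k
      apply Subtype.ext
      apply Subtype.ext
      show (k₀ : X) * ((k₀ : X)⁻¹ * (k.1 : X)) = k.1
      rw [mul_inv_cancel_left]
    · intro y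
      apply Subtype.ext
      show (k₀ : X)⁻¹ * ((k₀ : X) * (y : X)) = y
      rw [inv_mul_cancel_left]
  have h2 : Nat.card {p : H × G // (p.2 : X)⁻¹ * a * (p.1 : X) ∈ Y} =
      Nat.card {k : G // ∃ h : H, (k : X)⁻¹ * a * (h : X) ∈ Y} * Nat.card ↥(Y ⊓ H) := by
    have h3 : Nat.card {p : H × G // (p.2 : X)⁻¹ * a * (p.1 : X) ∈ Y} =
        Nat.card {p : G × H // (p.1 : X)⁻¹ * a * (p.2 : X) ∈ Y} :=
      Nat.card_congr ((Equiv.prodComm H G).subtypeEquiv (fun p => Iff.rfl))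
    rw [h3]
    apply card_rel (fun (k : G) (h : H) => (k : X)⁻¹ * a * (h : X) ∈ Y)
    rintro k ⟨h₀, hh₀⟩
    refine Nat.card_congr ?_
    refine
      { toFun := fun h => ⟨(h₀ : X)⁻¹ * (h.1 : X), ?_⟩
        invFun := fun y => ⟨⟨(h₀ : X) * (y : X), ?_⟩, ?_⟩
        left_inv := ?_
        right_inv := ?_ }
    · refine Subgroup.mem_inf.2 ⟨?_, H.mul_mem (H.inv_mem h₀.2) h.1.2⟩
      have h4 : (h₀ : X)⁻¹ * (h.1 : X) =
          ((k : X)⁻¹ * a * (h₀ : X))⁻¹ * ((k : X)⁻¹ * a * (h.1 : X)) := by group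
      rw [h4]
      exact Y.mul_mem (Y.inv_mem hh₀) h.2
    · exact H.mul_mem h₀.2 (Subgroup.mem_inf.1 y.2).2
    · show (k : X)⁻¹ * a * ((h₀ : X) * (y : X)) ∈ Y
      have h4 : (k : X)⁻¹ * a * ((h₀ : X) * (y : X)) = ((k : X)⁻¹ * a * (h₀ : X)) * (y : X) := by
        group
      rw [h4]
      exact Y.mul_mem hh₀ (Subgroup.mem_inf.1 y.2).1
    · intro h
      apply Subtype.ext
      apply Subtype.ext
      show (h₀ : X) * ((h₀ : X)⁻¹ * (h.1 : X)) = h.1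
      rw [mul_inv_cancel_left]
    · intro y
      apply Subtype.ext
      show (h₀ : X)⁻¹ * ((h₀ : X) * (y : X)) = y
      rw [inv_mul_cancel_left]
  have hA : Nat.card {k : G // P k} = Nat.card {k : G // ∃ h : H, (k : X)⁻¹ * a * (h : X) ∈ Y} :=
    Nat.card_congr (Equiv.subtypeEquivRight (fun k => hP k))
  have hB : Nat.card {h : H // Q h} = Nat.card {h : H // ∃ k : G, (k : X)⁻¹ * a * (h : X) ∈ Y} :=
    Nat.card_congr (Equiv.subtypeEquivRight (fun h => hQ h))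
  rw [hA, hB, ← h1, ← h2]

/-- Shintani descent preserves numbers of fixed points on coset spaces (abstract form). Let `σ` be an automorphism of a group `X` and `e ≥ 1`; write `G` for the fixed points of `σᵉ` and `H` for the fixed points of `σ`, and assume `G` is finite. Let `Y` be a `σ`-stable subgroup of `X` on which the maps `a ↦ a σ(a)⁻¹` and `a ↦ a σᵉ(a)⁻¹` are surjective (as for a closed connected `σ`-stable subgroup of an algebraic group). Let `g ∈ G`, let `a ∈ X` satisfy `g = a σ(a)⁻¹` and put `x = σᵉ(a)⁻¹ a` (the Shintani image, an element of `H`). The element `g σ` of the semidirect product acts on the cosets of `Y ∩ G` in `G` by `k (Y ∩ G) ↦ g σ(k) (Y ∩ G)`, fixing that coset exactly when `k⁻¹ g σ(k) ∈ Y`; and `x` fixes the coset `h (Y ∩ H)` of `H` exactly when `h⁻¹ x h ∈ Y`. Then the two numbers of fixed cosets agree; in cross-multiplied form, `#{k ∈ G : k⁻¹ g σ(k) ∈ Y} · |Y ∩ H| =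 #{h ∈ H : h⁻¹ x h ∈ Y} · |Y ∩ G|`. -/
theorem result {X : Type*} [Group X] (σ : MulAut X) (e : ℕ) (he : 1 ≤ e)
    [Finite ↥((MulEquiv.toMonoidHom (σ ^ e)).eqLocus (MonoidHom.id X))]
    (Y : Subgroup X) (hY : ∀ y : X, y ∈ Y ↔ σ y ∈ Y)
    (hYL : ∀ y ∈ Y, ∃ a ∈ Y, y = a * (σ a)⁻¹) (hYLe : ∀ y ∈ Y, ∃ a ∈ Y, y = a * ((σ ^ e) a)⁻¹)
    (g : X) (hg : g ∈ (MulEquiv.toMonoidHom (σ ^ e)).eqLocus (MonoidHom.id X)) (a : X) (ha : g = a * (σ a)⁻¹) :
    Nat.card {k : ↥((MulEquiv.toMonoidHom (σ ^ e)).eqLocus (MonoidHom.id X)) // (k : X)⁻¹ * g * σ k ∈ Y} *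
        Nat.card ↥(Y ⊓ (MulEquiv.toMonoidHom σ).eqLocus (MonoidHom.id X)) =
      Nat.card {h : ↥((MulEquiv.toMonoidHom σ).eqLocus (MonoidHom.id X)) // (h : X)⁻¹ * (((σ ^ e) a)⁻¹ * a) * h ∈ Y} *
        Nat.card ↥(Y ⊓ (MulEquiv.toMonoidHom (σ ^ e)).eqLocus (MonoidHom.id X)) := by
  classical
  have hHG : (MulEquiv.toMonoidHom σ).eqLocus (MonoidHom.id X) ≤
      (MulEquiv.toMonoidHom (σ ^ e)).eqLocus (MonoidHom.id X) := fun x hx => pow_fix σ x hx e
  haveI : Finite ↥((MulEquiv.toMonoidHom σ).eqLocus (MonoidHom.id X)) :=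
    Finite.of_injective (Subgroup.inclusion hHG) (Subgroup.inclusion_injective hHG)
  have hτY : ∀ y : X, y ∈ Y ↔ (σ ^ e) y ∈ Y := fun y => pow_mem σ Y hY e y
  refine key ((MulEquiv.toMonoidHom (σ ^ e)).eqLocus (MonoidHom.id X))
    ((MulEquiv.toMonoidHom σ).eqLocus (MonoidHom.id X)) Y a _ _ ?_ ?_
  · -- hP
    intro k
    have hσk : (σ ^ e) (k : X) = k := k.2
    constructor
    · intro hk
      obtain ⟨b, hbY, hb⟩ := hYL _ hk
      have e1 : (σ a)⁻¹ * σ k * σ b = a⁻¹ * k * b := by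
        have h3 : (σ a)⁻¹ * σ k * σ b =
            a⁻¹ * k * ((k : X)⁻¹ * (a * (σ a)⁻¹) * σ k) * σ b := by group
        rw [h3, ← ha, hb]; group
      have hmem : a⁻¹ * (k : X) * b ∈ (MulEquiv.toMonoidHom σ).eqLocus (MonoidHom.id X) := by
        show σ (a⁻¹ * (k : X) * b) = a⁻¹ * (k : X) * b
        rw [map_mul, map_mul, map_inv, e1]
      refine ⟨⟨a⁻¹ * (k : X) * b, hmem⟩, ?_⟩
      have h4 : (k : X)⁻¹ * a * (a⁻¹ * (k : X) * b) = b := by group
      show (k : X)⁻¹ * a * (a⁻¹ * (k : X) * b) ∈ Y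
      rw [h4]; exact hbY
    · rintro ⟨h, hh⟩
      have hσh : σ (h : X) = h := h.2
      have hy' : σ ((k : X)⁻¹ * a * (h : X)) ∈ Y := (hY _).1 hh
      have h3 : (k : X)⁻¹ * g * σ k = ((k : X)⁻¹ * a * (h : X)) * (σ ((k : X)⁻¹ * a * (h : X)))⁻¹ := by
        rw [map_mul, map_mul, map_inv, hσh, ha]; group
      rw [h3]; exact Y.mul_mem hh (Y.inv_mem hy')
  · -- hQ
    intro h
    have hσh : σ (h : X) = h := h.2
    have hτh : (σ ^ e) (h : X) = h := pow_fix σ h hσh e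
    constructor
    · intro hw
      obtain ⟨b, hbY, hb⟩ := hYLe _ (Y.inv_mem hw)
      have e1 : (σ ^ e) a * h * (σ ^ e) b = a * h * b := by
        have h3 : (σ ^ e) a * h * (σ ^ e) b =
            a * h * ((h : X)⁻¹ * (((σ ^ e) a)⁻¹ * a) * h)⁻¹ * (σ ^ e) b := by group
        rw [h3, hb]; group
      have hmem : a * (h : X) * b ∈ (MulEquiv.toMonoidHom (σ ^ e)).eqLocus (MonoidHom.id X) := by
        show (σ ^ e) (a * (h : X) * b) = a * (h : X) * b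
        rw [map_mul, map_mul, hτh, e1]
      refine ⟨⟨a * (h : X) * b, hmem⟩, ?_⟩
      have h4 : (a * (h : X) * b)⁻¹ * a * (h : X) = b⁻¹ := by group
      show (a * (h : X) * b)⁻¹ * a * (h : X) ∈ Y
      rw [h4]; exact Y.inv_mem hbY
    · rintro ⟨k, hk⟩
      have hτk : (σ ^ e) (k : X) = k := k.2
      have hy' : (σ ^ e) ((k : X)⁻¹ * a * (h : X)) ∈ Y := (hτY _).1 hk
      have h3 : (h : X)⁻¹ * (((σ ^ e) a)⁻¹ * a) * h =
          ((σ ^ e) ((k : X)⁻¹ * a * (h : X)))⁻¹ * ((k : X)⁻¹ * a * (h : X)) := by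
        rw [map_mul, map_mul, map_inv, hτk, hτh]; group
      rw [h3]; exact Y.mul_mem (Y.inv_mem hy') hk

end Cfsg.Agent.S2669
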