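import Mathlib
import Cfsg.Statements.S2671
import Cfsg.Agent.Lib.Helper8.GUPrimeD
import Cfsg.Agent.Lib.Helper8.PrimeOrdJ

set_option autoImplicit false
open Cfsg

namespace Cfsg.Agent.S2671

open Polynomial Cfsg.Agent.Lib.Helper8.PrimeOrd Cfsg.Agent.Lib.Helper8.SelfRec Cfsg.Agent.Lib.Helper8.SUCount Cfsg.Agent.Lib.Helper8.GUPrime

/-- Number of conjugacy classes of elements of odd prime order r in the general unitary group GU_n(q), for r not dividing q(q + 1): let i be the multiplicative order of q modulo r, b = i if i is odd and b = i/2 if i is even, and s = (r − 1)/b. If i ≢ 2 (mod 4) the eigenvalue orbits pair off into dual pairs of totally isotropic blocks and there are C(⌊n/(2b)⌋ + s/2, s/2) − 1 classes; if i ≡ 2 (mod 4) each orbit gives a non-degenerate block of dimension i/2 and there are C(⌊2n/i⌋ + s, s) − 1 classes. -/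
theorem result {K : Type*} [Field K] [Fintype K] {p q n r i b s : ℕ} [Fact p.Prime] [CharP K p] (hK : Fintype.card K = q ^ 2) (hr : r.Prime) (hr2 : r ≠ 2) (hrp : r ≠ p) (hi : i = orderOf (q : ZMod r)) (hi2 : i ≠ 2) (hb : b = if Odd i then i else i / 2) (hs : s * b = r - 1) : Nat.card {C : ConjClasses ↥(Cfsg.GU n K q) // ∃ g : ↥(Cfsg.GU n K q), ConjClasses.mk g = C ∧ orderOf g = r} = if i % 4 = 2 then Nat.choose (2 * n / i + s) s - 1 else Nat.choose (n / (2 * b) + s / 2) (s / 2) - 1 := by
  classical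
  have : Fact r.Prime := ⟨hr⟩
  have hp : p.Prime := Fact.out
  obtain ⟨f, -, hcard⟩ := FiniteField.card K p
  have hqdvd : q ∣ p ^ (f : ℕ) := by
    rw [← hcard, hK, sq]
    exact Dvd.intro _ rfl
  obtain ⟨a, -, hq⟩ := (Nat.dvd_prime_pow hp).1 hqdvd
  have hcop : p.Coprime r := (Nat.coprime_primes hp hr).2 (Ne.symm hrp)
  have hrK : (r : K) ≠ 0 := by
    intro h0
    rw [CharP.cast_eq_zero_iff K p] at h0
    exact hrp ((Nat.prime_dvd_prime_iff_eq hp hr).1 h0).symm
  have hrq : ¬ r ∣ q := by
    rw [hq]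
    intro h
    exact hrp ((Nat.prime_dvd_prime_iff_eq hr hp).1 (hr.dvd_of_dvd_pow h))
  have hx0 : (q : ZMod r) ≠ 0 := by
    rw [Ne, ZMod.natCast_eq_zero_iff]
    exact hrq
  have hipos : 0 < i := by
    rw [hi, orderOf_pos_iff, isOfFinOrder_iff_pow_eq_one]
    exact ⟨r - 1, Nat.sub_pos_of_lt hr.one_lt, ZMod.pow_card_sub_one_eq_one hx0⟩
  have hbpos : 0 < b := by
    rw [hb]
    split_ifs with hodd
    · exact hipos
    · obtain ⟨u, hu⟩ := Nat.not_odd_iff_even.1 hodd
      omega
  have hordsq : orderOf (((Fintype.card K : ℕ)) : ZMod r) = b := by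
    rw [hK, orderOf_sq, ← hi, hb]
  have hdeg : ∀ j : ↥(cycFactors K r), (PP K r j).natDegree = b := fun j => by
    rw [natDegree_PP hcard hcop j, hordsq]
  have hcardι : Fintype.card ↥(cycFactors K r) = s := by
    rw [card_cycFactors hcard hcop, hordsq, ← hs]
    exact Nat.mul_div_cancel _ hbpos
  have hmain := gu_classes_card (n := n) hK p hrp b hbpos hdeg hrK
  have hsinv := sIdx_involutive (sg hK) (sg_sg hK) hrK
  have hiff := exists_odd_pow_iff (r := r) (q := q) hr2 hrq
  rw [← hi] at hiff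
  split_ifs with hmod
  · obtain ⟨k, hk⟩ := hiff.2 hmod
    have hfix : ∀ j, sIdx (sg hK) (sg_sg hK) hrK j = j := by
      intro j
      apply Subtype.ext
      exact rc_sg_eq_self hK p a hq (PP_monic j) (PP_irred j) hr.pos (PP_dvd j)
        (PP_coeff_zero j) k hk
    have hequiv : {e : ↥(cycFactors K r) → ℕ //
        e ∘ sIdx (sg hK) (sg_sg hK) hrK = e ∧ b * ∑ j, e j ≤ n} ≃
        {e : ↥(cycFactors K r) → ℕ // b * ∑ j, e j ≤ n} := by
      apply Equiv.subtypeEquivRight
      intro e
      constructor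
      · intro h; exact h.2
      · intro h
        refine ⟨?_, h⟩
        funext j
        simp only [Function.comp_apply, hfix j]
    rw [Nat.card_congr hequiv, card_bounded_mul _ b n hbpos, hcardι] at hmain
    have hib : i = 2 * b := by
      have hnodd : ¬ Odd i := by
        rw [Nat.not_odd_iff_even, Nat.even_iff]
        omega
      rw [hb, if_neg hnodd]
      omega
    have hnb : n / b = 2 * n / i := by
      rw [hib, Nat.mul_div_mul_left _ _ (by norm_num : 0 < 2)]
    rw [hnb] at hmain
    omega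
  · have hfp : ∀ j, sIdx (sg hK) (sg_sg hK) hrK j ≠ j := by
      intro j hj
      have h1 : rc (sg hK) (PP K r j) = PP K r j := by
        rw [← PP_sIdx (sg hK) (sg_sg hK) hrK j, hj]
      exact hmod (hiff.1 (exists_odd_pow_of_rc_eq_self hK p a hq (PP_monic j) (PP_irred j) hr hrq
        (PP_dvd j) (PP_eval_one hrK j) h1))
    rw [card_symm_bounded' hsinv hfp b n hbpos, hcardι] at hmain
    omega

end Cfsg.Agent.S2671
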