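import Mathlib
import Cfsg.Statements.S2674
import Cfsg.Agent.Lib.Helper8.OrPrimeJ

set_option autoImplicit false
open Cfsg

namespace Cfsg.Agent.S2674

open Polynomial Cfsg.Agent.Lib.Helper8.PrimeOrd Cfsg.Agent.Lib.Helper8.OrPrime Cfsg.Agent.Lib.Helper8.QType

/-- Number of conjugacy classes of elements of odd prime order r ≠ p in the orthogonal group O⁺_2m(q) of Σ x_j y_j (m ≥ 1): with i the multiplicative order of q mod r and t = (r − 1)/i — if i is odd, C(⌊m/i⌋ + t/2, t/2) − 1; if i is even, C(⌊2m/i⌋ + t, t) − 1 minus, when i divides 2m with odd quotient, the C(2m/i + t − 1, t − 1) tuples using the whole space (an odd number of elliptic i-blocks fills an elliptic, not a hyperbolic, space). -/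
theorem result {F : Type*} [Field F] [Fintype F] {p q : ℕ} [Fact p.Prime] [CharP F p] (hF : Fintype.card F = q) (m r i t : ℕ) (hm : 1 ≤ m) (hr : r.Prime) (hr2 : r ≠ 2) (hrp : r ≠ p) (hi : i = orderOf (q : ZMod r)) (ht : t * i = r - 1) : Nat.card {C : ConjClasses ↥(Cfsg.isometryGroup F (Cfsg.quadFormPlus m F)) // ∃ g : ↥(Cfsg.isometryGroup F (Cfsg.quadFormPlus m F)), ConjClasses.mk g = C ∧ orderOf g = r} = if Odd i then Nat.choose (m / i + t / 2) (t / 2) - 1 else Nat.choose (2 * m / i + t) t - 1 - (if i ∣ 2 * m ∧ Odd (2 * m / i) then Nat.choose (2 * m / i + t - 1) (t - 1) else 0) := by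
  classical
  have : Fact r.Prime := ⟨hr⟩
  obtain ⟨l, rfl⟩ : ∃ l, m = l + 1 := ⟨m - 1, by omega⟩
  have hmain := even_dim_count p hrp hr2 (Cfsg.Agent.S0287.QP (F := F) (l + 1)) (hasType_QP l) hF
    i t hi ht
  rw [Cfsg.Agent.S0287.QP_coe] at hmain
  have e1 : 2 * (l + 1) = 2 * l + 2 := by ring
  rw [e1]
  by_cases hodd : Odd i
  · rw [if_pos hodd] at hmain ⊢
    have hc : ¬ (i ∣ l + 1 ∧ ¬ (1 : ℤ) = 1) := fun h => h.2 rfl
    rw [if_neg hc] at hmain
    omega
  · rw [if_neg hodd] at hmain ⊢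
    by_cases hc : i ∣ 2 * l + 2 ∧ Odd ((2 * l + 2) / i)
    · rw [if_pos hc]
      have hc' : i ∣ 2 * l + 2 ∧ ¬ (1 : ℤ) = (-1) ^ ((2 * l + 2) / i) :=
        ⟨hc.1, by rw [hc.2.neg_one_pow]; norm_num⟩
      rw [if_pos hc'] at hmain
      omega
    · rw [if_neg hc]
      have hc' : ¬ (i ∣ 2 * l + 2 ∧ ¬ (1 : ℤ) = (-1) ^ ((2 * l + 2) / i)) := by
        rintro ⟨h1, h2⟩
        apply hc
        refine ⟨h1, ?_⟩
        by_contra hne
        rw [Nat.not_odd_iff_even] at hne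
        exact h2 (by rw [hne.neg_one_pow])
      rw [if_neg hc'] at hmain
      omega

end Cfsg.Agent.S2674
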