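import Mathlib
import Cfsg.Statements.S2675
import Cfsg.Agent.Lib.Helper8.OrPrimeJ

set_option autoImplicit false
open Cfsg

namespace Cfsg.Agent.S2675

open Polynomial Cfsg.Agent.Lib.Helper8.PrimeOrd Cfsg.Agent.Lib.Helper8.OrPrime Cfsg.Agent.Lib.Helper8.QType

/-- Number of conjugacy classes of elements of odd prime order r ≠ p in the orthogonal group O⁻_2m(q) of an elliptic form Σ_(j<m−1) x_j y_j + z₁² + a z₁z₂ + c z₂² (binary part anisotropic, m ≥ 1): with i the multiplicative order of q mod r and t = (r − 1)/i — if i is odd, C(⌊m/i⌋ + t/2, t/2) − 1 minus, when i divides m, the C(m/i + t/2 − 1, t/2 − 1) tuples filling the whole space (dual pairs of totally singular blocks fill a hyperbolic space); if i is even, C(⌊2m/i⌋ + t, t) − 1 minus, when i divides 2m with even quotient, the C(2m/i + t − 1, t − 1) tuples filling the whole space with an even number of elliptic blocks. -/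
theorem result {F : Type*} [Field F] [Fintype F] {p q : ℕ} [Fact p.Prime] [CharP F p] (hF : Fintype.card F = q) (m r i t : ℕ) (hm : 1 ≤ m) (a c : F) (hac : ∀ z₁ z₂ : F, z₁ ^ 2 + a * z₁ * z₂ + c * z₂ ^ 2 = 0 → z₁ = 0 ∧ z₂ = 0) (hr : r.Prime) (hr2 : r ≠ 2) (hrp : r ≠ p) (hi : i = orderOf (q : ZMod r)) (ht : t * i = r - 1) : Nat.card {C : ConjClasses ↥(Cfsg.isometryGroup F (Cfsg.quadFormMinus (m - 1) F a c)) // ∃ g : ↥(Cfsg.isometryGroup F (Cfsg.quadFormMinus (m - 1) F a c)), ConjClasses.mk g = C ∧ orderOf g = r} = if Odd i then Nat.choose (m / i + t / 2) (t / 2) - 1 - (if i ∣ m then Nat.choose (m / i + t / 2 - 1) (t / 2 - 1) else 0) else Nat.choose (2 * m / i + t) t - 1 - (if i ∣ 2 * m ∧ Even (2 * m / i) then Nat.choose (2 * m / i + t - 1) (t - 1) else 0) := by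
  classical
  have : Fact r.Prime := ⟨hr⟩
  have hm' : m = (m - 1) + 1 := by omega
  generalize m - 1 = l at hm' ⊢
  subst hm'
  have hmain := even_dim_count p hrp hr2 (Cfsg.Agent.S0288.QM (F := F) l a c)
    (hasType_QM l a c hac) hF i t hi ht
  rw [Cfsg.Agent.S0288.QM_coe] at hmain
  have e1 : 2 * (l + 1) = 2 * l + 2 := by ring
  rw [e1]
  by_cases hodd : Odd i
  · rw [if_pos hodd] at hmain ⊢
    by_cases hc : i ∣ l + 1
    · rw [if_pos hc]
      have hc' : i ∣ l + 1 ∧ ¬ (-1 : ℤ) = 1 := ⟨hc, by norm_num⟩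
      rw [if_pos hc'] at hmain
      omega
    · rw [if_neg hc]
      have hc' : ¬ (i ∣ l + 1 ∧ ¬ (-1 : ℤ) = 1) := fun h => hc h.1
      rw [if_neg hc'] at hmain
      omega
  · rw [if_neg hodd] at hmain ⊢
    by_cases hc : i ∣ 2 * l + 2 ∧ Even ((2 * l + 2) / i)
    · rw [if_pos hc]
      have hc' : i ∣ 2 * l + 2 ∧ ¬ (-1 : ℤ) = (-1) ^ ((2 * l + 2) / i) :=
        ⟨hc.1, by rw [hc.2.neg_one_pow]; norm_num⟩
      rw [if_pos hc'] at hmain
      omega
    · rw [if_neg hc]
      have hc' : ¬ (i ∣ 2 * l + 2 ∧ ¬ (-1 : ℤ) = (-1) ^ ((2 * l + 2) / i)) := by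
        rintro ⟨h1, h2⟩
        apply hc
        refine ⟨h1, ?_⟩
        by_contra hne
        rw [Nat.not_even_iff_odd] at hne
        exact h2 (by rw [hne.neg_one_pow])
      rw [if_neg hc'] at hmain
      omega

end Cfsg.Agent.S2675
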