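import Mathlib
import Cfsg.Statements.S2678
import Cfsg.Agent.H9.SympEmbed
import Cfsg.Agent.H9.SympForm
import Cfsg.Agent.H9.FieldEmbed

set_option autoImplicit false

namespace Cfsg.Agent.S2678

open Module Cfsg.Agent.H9.SympForm

/-- Field-extension embedding of symplectic groups: for a field K with q² elements and a field F with q elements there is an injective homomorphism Sp_2a(K) → Sp_4a(F). -/
theorem result {K F : Type*} [Field K] [Fintype K] [Field F] [Fintype F] {q : ℕ} (hK : Fintype.card K = q ^ 2) (hF : Fintype.card F = q) (a : ℕ) : ∃ φ : ↥(Matrix.symplecticGroup (Fin a) K) →* ↥(Matrix.symplecticGroup (Fin (2 * a)) F), Function.Injective φ := by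
  obtain ⟨ι⟩ := Cfsg.Agent.H9.FieldEmbed.exists_ringHom hK hF
  let _ : Algebra F K := ι.toAlgebra
  have h2 : finrank F K = 2 := Cfsg.Agent.H9.FieldEmbed.finrank_eq_two hK hF
  -- a nonzero `F`-linear functional on `K`
  obtain ⟨τ, hτ, -⟩ := Submodule.exists_dual_map_eq_bot_of_notMem (R := F) (M := K) (p := ⊥) (x := 1)
    (by simp) inferInstance
  let V := Fin a ⊕ Fin a → K
  let B : LinearMap.BilinForm F V := ((sympB a K).restrictScalars₁₂ F F).compr₂ τ
  have hBapp : ∀ u v : V, B u v = τ (sympB a K u v) := fun u v => rfl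
  have hA : B.IsAlt := by
    intro v
    rw [hBapp, sympB_self, map_zero]
  have hsk : ∀ u v : V, sympB a K u v = - sympB a K v u := by
    intro u v
    have h := sympB_self a K (u + v)
    simp only [map_add, LinearMap.add_apply, sympB_self, zero_add, add_zero] at h
    exact eq_neg_of_add_eq_zero_right h
  have hleft : ∀ u : V, (∀ v, B u v = 0) → u = 0 := by
    intro u hu
    by_contra hne
    obtain ⟨v₀, hv₀⟩ := sympB_nondeg a K u hne
    have h := hu ((sympB a K u v₀)⁻¹ • v₀)
    rw [hBapp, map_smul, smul_eq_mul, inv_mul_cancel₀ hv₀] at h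
    exact hτ h
  have hB : B.Nondegenerate := by
    refine ⟨fun u hu => hleft u hu, fun v hv => hleft v ?_⟩
    intro u
    rw [hBapp, hsk, map_neg, ← hBapp, hv, neg_zero]
  have hdim : finrank F V = 2 * (2 * a) := by
    rw [← Module.finrank_mul_finrank F K V, h2, finrank_fintype_fun_eq_card, Fintype.card_sum, Fintype.card_fin,
      two_mul a]
  let ρ : ↥(Matrix.symplecticGroup (Fin a) K) →* (V →ₗ[F] V) :=
    { toFun := fun g => (Matrix.toLin' (g : Matrix (Fin a ⊕ Fin a) (Fin a ⊕ Fin a) K)).restrictScalars F
      map_one' := by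
        apply LinearMap.ext
        intro v
        simp
      map_mul' := by
        intro x y
        apply LinearMap.ext
        intro v
        simp [Matrix.toLin'_mul] }
  have hρ : Function.Injective ρ := by
    intro x y hxy
    apply Subtype.ext
    apply Matrix.toLin'.injective
    apply LinearMap.ext
    intro v
    have := congrArg (fun f : V →ₗ[F] V => f v) hxy
    exact this
  have hiso : ∀ (g : ↥(Matrix.symplecticGroup (Fin a) K)) (u v : V), B (ρ g u) (ρ g v) = B u v := by
    intro g u v
    rw [hBapp, hBapp]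
    change τ (sympB a K ((g : Matrix (Fin a ⊕ Fin a) (Fin a ⊕ Fin a) K).mulVec u)
      ((g : Matrix (Fin a ⊕ Fin a) (Fin a ⊕ Fin a) K).mulVec v)) = _
    rw [sympB_mulVec a K g.2]
  exact Cfsg.Agent.H9.SympEmbed.exists_embedding B hB hA (2 * a) hdim ρ hρ hiso

end Cfsg.Agent.S2678
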