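import Mathlib
import Cfsg.Statements.S2680
import Cfsg.Agent.Lib.Helper8.SpCentG

set_option autoImplicit false
open Cfsg

namespace Cfsg.Agent.S2680

open Matrix Cfsg.Agent.Lib.Helper5.Symp Cfsg.Agent.S0245 Cfsg.Agent.Lib.Helper8.SpInv
  Cfsg.Agent.S2166 Cfsg.Agent.S2593 Cfsg.Agent.Lib.Helper8.SpCent

/-- Centraliser order of an involution t of Sp_2m(q), q even, with s = rank(t − 1) odd (type b_s): |C(t)| = q^(2ms − (3s² − s)/2) · |Sp_(s−1)(q)| · |Sp_(2m−2s)(q)|, where |Sp_2k(q)| = q^(k²) Π_(i=1)^k (q^(2i) − 1). -/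
theorem result {F : Type*} [Field F] [Fintype F] [CharP F 2] {q : ℕ} (hF : Fintype.card F = q) {m s : ℕ} (t : Matrix.symplecticGroup (Fin m) F) (ht : t ^ 2 = 1) (hs : ((t : Matrix (Fin m ⊕ Fin m) (Fin m ⊕ Fin m) F) - 1).rank = s) (hodd : Odd s) : Nat.card ↥(Subgroup.centralizer ({t} : Set ↥(Matrix.symplecticGroup (Fin m) F))) = q ^ (2 * m * s - (3 * s ^ 2 - s) / 2) * ((q : ℕ) ^ (((s - 1) / 2) ^ 2) * ∏ i : Fin ((s - 1) / 2), (q ^ (2 * ((i : ℕ) + 1)) - 1)) * ((q : ℕ) ^ ((m - s) ^ 2) * ∏ i : Fin (m - s), (q ^ (2 * ((i : ℕ) + 1)) - 1)) := by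
  have h2 : (2 : F) = 0 := CharTwo.two_eq_zero
  have ht1 : t ≠ 1 := by
    intro h1
    rw [h1, Submonoid.coe_one, sub_self, Matrix.rank_zero] at hs
    rw [← hs] at hodd
    exact absurd hodd (by decide)
  have ho : orderOf t = 2 := orderOf_eq_prime ht ht1
  have hsm : s ≤ m := by rw [← hs]; exact rank_le_of_invol h2 t ho
  have hs1 : 1 ≤ s := by rw [← hs]; exact rank_pos_of_ne_one t ht1
  have hna : ¬ IsAltT t := by
    intro halt
    have := even_rank_of_alt h2 t ho halt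
    rw [hs] at this
    exact (Nat.not_even_iff_odd.2 hodd) this
  obtain ⟨k, hk⟩ := hodd
  obtain ⟨r, hr⟩ : ∃ r, m = 2 * k + 1 + r := ⟨m - s, by omega⟩
  have hg : Good (id : Fin m → Fin m) s := id_good
  have hm0 : 0 < m := by omega
  have hrep_ord : orderOf (rep F (id : Fin m → Fin m) s hg) = 2 :=
    orderOf_rep h2 hg ⟨0, hm0⟩ (by show 0 < s; omega)
  have hrank : ((t : Matrix (Fin m ⊕ Fin m) (Fin m ⊕ Fin m) F) - 1).rank =
      ((rep F (id : Fin m → Fin m) s hg : Matrix (Fin m ⊕ Fin m) (Fin m ⊕ Fin m) F) - 1).rank := by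
    rw [hs]
    show s = (Amat F (id : Fin m → Fin m) s - 1).rank
    rw [rank_Amat hg hsm]
  have hconj : IsConj t (rep F (id : Fin m → Fin m) s hg) :=
    conj_of_type h2 t _ ho hrep_ord hrank
      (iff_of_false hna (rep_id_nonalt hs1 (by omega)))
  rw [card_centralizer_of_isConj hconj, card_centralizer_nonalt s hs1 hsm, Nat.card_eq_fintype_card,
    hF]
  subst hk
  subst hr
  rw [(cO_closed q r k).1, spc_eq_fin, spc_eq_fin]
  have e1 : (2 * k + 1 - 1) / 2 = k := by omega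
  have e2 : 2 * k + 1 + r - (2 * k + 1) = r := by omega
  have e3 : 2 * (2 * k + 1 + r) * (2 * k + 1) - (3 * (2 * k + 1) ^ 2 - (2 * k + 1)) / 2 =
      2 * k ^ 2 + 3 * k + 1 + 4 * r * k + 2 * r := by
    obtain ⟨K2, hK2⟩ : ∃ K2, K2 = k ^ 2 := ⟨_, rfl⟩
    obtain ⟨rk, hrk⟩ : ∃ rk, rk = r * k := ⟨_, rfl⟩
    have h5 : 2 * (2 * k + 1 + r) * (2 * k + 1) = 8 * K2 + 8 * k + 2 + 4 * rk + 2 * r := by
      rw [hK2, hrk]; ring
    have h6 : 3 * (2 * k + 1) ^ 2 = 12 * K2 + 12 * k + 3 := by rw [hK2]; ring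
    have h7 : 4 * r * k = 4 * rk := by rw [hrk]; ring
    rw [h5, h6, h7, ← hK2]
    omega
  rw [e1, e2, e3]

end Cfsg.Agent.S2680
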