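import Mathlib
import Cfsg.Statements.S2681
import Cfsg.Agent.Lib.Helper8.SpCentG

set_option autoImplicit false
open Cfsg

namespace Cfsg.Agent.S2681

open Matrix Cfsg.Agent.Lib.Helper5.Symp Cfsg.Agent.S0245 Cfsg.Agent.Lib.Helper8.SpInv
  Cfsg.Agent.S2166 Cfsg.Agent.S2593 Cfsg.Agent.Lib.Helper8.SpCent

/-- Centraliser order of an involution t of Sp_2m(q), q even, with s = rank(t − 1) even and f(v, tv) = 0 for every v, f the symplectic form (type a_s): |C(t)| = q^(2ms − (3s² − s)/2) · |Sp_s(q)| · |Sp_(2m−2s)(q)|. -/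
theorem result {F : Type*} [Field F] [Fintype F] [CharP F 2] {q : ℕ} (hF : Fintype.card F = q) {m s : ℕ} (t : Matrix.symplecticGroup (Fin m) F) (ht : t ^ 2 = 1) (ht1 : t ≠ 1) (hs : ((t : Matrix (Fin m ⊕ Fin m) (Fin m ⊕ Fin m) F) - 1).rank = s) (heven : Even s) (halt : ∀ v : Fin m ⊕ Fin m → F, Cfsg.sympForm m F v ((t : Matrix (Fin m ⊕ Fin m) (Fin m ⊕ Fin m) F).mulVec v) = 0) : Nat.card ↥(Subgroup.centralizer ({t} : Set ↥(Matrix.symplecticGroup (Fin m) F))) = q ^ (2 * m * s - (3 * s ^ 2 - s) / 2) * ((q : ℕ) ^ ((s / 2) ^ 2) * ∏ i : Fin (s / 2), (q ^ (2 * ((i : ℕ) + 1)) - 1)) * ((q : ℕ) ^ ((m - s) ^ 2) * ∏ i : Fin (m - s), (q ^ (2 * ((i : ℕ) + 1)) - 1)) := by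
  have h2 : (2 : F) = 0 := CharTwo.two_eq_zero
  have ho : orderOf t = 2 := orderOf_eq_prime ht ht1
  have hsm : s ≤ m := by rw [← hs]; exact rank_le_of_invol h2 t ho
  have hs1 : 1 ≤ s := by rw [← hs]; exact rank_pos_of_ne_one t ht1
  obtain ⟨k, hk⟩ := heven
  obtain ⟨r, hr⟩ : ∃ r, m = 2 * k + r := ⟨m - s, by omega⟩
  have hg : Good (swF m (2 * k)) (2 * k) := swF_good (by omega) (by omega)
  have hm0 : 0 < m := by omega
  have hrep_ord : orderOf (rep F (swF m (2 * k)) (2 * k) hg) = 2 :=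
    orderOf_rep h2 hg ⟨0, hm0⟩ (by show 0 < 2 * k; omega)
  have hrank : ((t : Matrix (Fin m ⊕ Fin m) (Fin m ⊕ Fin m) F) - 1).rank =
      ((rep F (swF m (2 * k)) (2 * k) hg : Matrix (Fin m ⊕ Fin m) (Fin m ⊕ Fin m) F) - 1).rank := by
    rw [hs]
    show s = (Amat F (swF m (2 * k)) (2 * k) - 1).rank
    rw [rank_Amat hg (by omega)]
    omega
  have hconj : IsConj t (rep F (swF m (2 * k)) (2 * k) hg) :=
    conj_of_type h2 t _ ho hrep_ord hrank
      (iff_of_true halt (rep_alt_of_fpf h2 hg (swF_fpf (by omega) (by omega))))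
  rw [card_centralizer_of_isConj hconj, card_centralizer_alt k r hr, Nat.card_eq_fintype_card, hF,
    spc_eq_fin, spc_eq_fin]
  obtain rfl : s = 2 * k := by omega
  subst hr
  have e1 : 2 * k / 2 = k := by omega
  have e2 : 2 * k + r - 2 * k = r := by omega
  have e3 : 2 * (2 * k + r) * (2 * k) - (3 * (2 * k) ^ 2 - 2 * k) / 2 = 2 * k ^ 2 + 4 * r * k + k := by
    have h4 : k ≤ k ^ 2 := by nlinarith
    obtain ⟨K2, hK2⟩ : ∃ K2, K2 = k ^ 2 := ⟨_, rfl⟩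
    obtain ⟨rk, hrk⟩ : ∃ rk, rk = r * k := ⟨_, rfl⟩
    have h5 : 2 * (2 * k + r) * (2 * k) = 8 * K2 + 4 * rk := by rw [hK2, hrk]; ring
    have h6 : 3 * (2 * k) ^ 2 = 12 * K2 := by rw [hK2]; ring
    have h7 : 4 * r * k = 4 * rk := by rw [hrk]; ring
    rw [h5, h6, h7, ← hK2]
    rw [← hK2] at h4
    omega
  rw [e1, e2, e3]

end Cfsg.Agent.S2681
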