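import Mathlib
import Cfsg.Statements.S2683
import Cfsg.Agent.Lib.Helper8.OrbQD
import Cfsg.Agent.S2680

set_option autoImplicit false
open Cfsg

namespace Cfsg.Agent.S2683

open Matrix Cfsg.Agent.Lib.Helper5.Symp Cfsg.Agent.S0245 Cfsg.Agent.Lib.Helper8.SpInv
  Cfsg.Agent.S2166 Cfsg.Agent.S2593 Cfsg.Agent.Lib.Helper8.OrbQ

/-- For the hyperbolic form Σ x_j y_j on F^(2m) over a finite field with q elements, q even (excluding m = 2 over the field of two elements), and an involution x of the orthogonal group with s = rank(x − 1) odd (type b_s; such x lie outside Ω): the elements of Ω (the commutator subgroup of the orthogonal group) commuting with x number q^(2m(s−1) − (3s² − 3s)/2) · |Sp_(s−1)(q)| · |Sp_(2m−2s)(q)|, where |Sp_2k(q)| = q^(k²) Π_(i=1)^k (q^(2i) − 1). -/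
theorem result {F : Type*} [Field F] [Fintype F] [CharP F 2] {q : ℕ} (hF : Fintype.card F = q) {m s : ℕ} (h : Fintype.card F ≠ 2 ∨ m ≠ 2) (x : ↥(Cfsg.isometryGroup F (Cfsg.quadFormPlus m F))) (hx : x ^ 2 = 1) (hs : (((x : Matrix.GeneralLinearGroup (Fin m ⊕ Fin m) F) : Matrix (Fin m ⊕ Fin m) (Fin m ⊕ Fin m) F) - 1).rank = s) (hodd : Odd s) : Nat.card {g : ↥(Cfsg.Omega F (Cfsg.quadFormPlus m F)) // (g : ↥(Cfsg.isometryGroup F (Cfsg.quadFormPlus m F))) * x = x * (g : ↥(Cfsg.isometryGroup F (Cfsg.quadFormPlus m F)))} = q ^ (2 * m * (s - 1) - (3 * s ^ 2 - 3 * s) / 2) * ((q : ℕ) ^ (((s - 1) / 2) ^ 2) * ∏ i : Fin ((s - 1) / 2), (q ^ (2 * ((i : ℕ) + 1)) - 1)) * ((q : ℕ) ^ ((m - s) ^ 2) * ∏ i : Fin (m - s), (q ^ (2 * ((i : ℕ) + 1)) - 1)) := by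
  have h2 : (2 : F) = 0 := CharTwo.two_eq_zero
  have htsq : toSp x ^ 2 = 1 := by rw [pow_two]; exact toSp_sq x hx
  have hs' : ((toSp x : Matrix (Fin m ⊕ Fin m) (Fin m ⊕ Fin m) F) - 1).rank = s := hs
  have ht1 : toSp x ≠ 1 := by
    intro h1
    rw [h1, Submonoid.coe_one, sub_self, Matrix.rank_zero] at hs'
    rw [← hs'] at hodd
    exact absurd hodd (by decide)
  have ho : orderOf (toSp x) = 2 := orderOf_eq_prime htsq ht1
  have hsm : s ≤ m := by rw [← hs']; exact rank_le_of_invol h2 (toSp x) ho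
  have hs1 : 1 ≤ s := by rw [← hs']; exact rank_pos_of_ne_one (toSp x) ht1
  have hna : ∃ v : Fin m ⊕ Fin m → F, quadFormPlus m F ((((x : GL (Fin m ⊕ Fin m) F) :
      Matrix (Fin m ⊕ Fin m) (Fin m ⊕ Fin m) F) - 1) *ᵥ v) ≠ 0 := by
    by_contra hcon
    push_neg at hcon
    have := even_rank_of_alt h2 (toSp x) ho (fun v => by
      rw [toSp_coe, ← form_eq]
      exact hcon v)
    rw [hs'] at this
    exact (Nat.not_even_iff_odd.2 hodd) this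
  have key := card_cent_omega_nonalt h x hx hs hna
  rw [Cfsg.Agent.S2680.result hF (toSp x) htsq hs' hodd, hF] at key
  obtain ⟨k, hk⟩ := hodd
  obtain ⟨r, hr⟩ : ∃ r, m = 2 * k + 1 + r := ⟨m - s, by omega⟩
  have hq0 : 0 < q := by rw [← hF]; exact Fintype.card_pos
  subst hk
  subst hr
  have e3 : 2 * (2 * k + 1 + r) * (2 * k + 1) - (3 * (2 * k + 1) ^ 2 - (2 * k + 1)) / 2 =
      2 * k ^ 2 + 3 * k + 1 + 4 * r * k + 2 * r := by
    obtain ⟨K2, hK2⟩ : ∃ K2, K2 = k ^ 2 := ⟨_, rfl⟩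
    obtain ⟨rk, hrk⟩ : ∃ rk, rk = r * k := ⟨_, rfl⟩
    have h5 : 2 * (2 * k + 1 + r) * (2 * k + 1) = 8 * K2 + 8 * k + 2 + 4 * rk + 2 * r := by
      rw [hK2, hrk]; ring
    have h6 : 3 * (2 * k + 1) ^ 2 = 12 * K2 + 12 * k + 3 := by rw [hK2]; ring
    have h7 : 4 * r * k = 4 * rk := by rw [hrk]; ring
    rw [h5, h6, h7, ← hK2]
    omega
  have e4 : 2 * (2 * k + 1 + r) * (2 * k + 1 - 1) - (3 * (2 * k + 1) ^ 2 - 3 * (2 * k + 1)) / 2 =
      2 * k ^ 2 + k + 4 * r * k := by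
    obtain ⟨K2, hK2⟩ : ∃ K2, K2 = k ^ 2 := ⟨_, rfl⟩
    obtain ⟨rk, hrk⟩ : ∃ rk, rk = r * k := ⟨_, rfl⟩
    have h5 : 2 * (2 * k + 1 + r) * (2 * k + 1 - 1) = 8 * K2 + 4 * k + 4 * rk := by
      rw [hK2, hrk, Nat.add_sub_cancel]; ring
    have h6 : 3 * (2 * k + 1) ^ 2 = 12 * K2 + 12 * k + 3 := by rw [hK2]; ring
    have h7 : 4 * r * k = 4 * rk := by rw [hrk]; ring
    rw [h5, h6, h7, ← hK2]
    omega
  have e5 : 2 * (2 * k + 1 + r) - (2 * k + 1) = 2 * k + 1 + 2 * r := by omega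
  rw [e3, e5] at key
  rw [e4]
  apply Nat.eq_of_mul_eq_mul_right (pow_pos hq0 (2 * k + 1 + 2 * r))
  rw [key]
  have e6 : 2 * k ^ 2 + 3 * k + 1 + 4 * r * k + 2 * r =
      (2 * k ^ 2 + k + 4 * r * k) + (2 * k + 1 + 2 * r) := by ring
  rw [e6, pow_add]
  ring

end Cfsg.Agent.S2683
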