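import Mathlib
import Cfsg.Statements.S2684
import Cfsg.Agent.Lib.Helper8.OrbQG
import Cfsg.Agent.S2681

set_option autoImplicit false
open Cfsg

namespace Cfsg.Agent.S2684

open Matrix Cfsg.Agent.Lib.Helper5.Symp Cfsg.Agent.S0245 Cfsg.Agent.Lib.Helper8.SpInv
  Cfsg.Agent.S2166 Cfsg.Agent.S2593 Cfsg.Agent.Lib.Helper8.OrbQ

/-- For the hyperbolic form Q = Σ x_j y_j on F^(2m) over a finite field with q elements, q even (excluding m = 2 over the field of two elements), and an involution x ≠ 1 of the orthogonal group with s = rank(x − 1) even and Q vanishing on the image of x − 1 (equivalently f(v, xv) = 0 for all v, where f(u, w) = Q(u + w) − Q(u) − Q(w) is the bilinear form of Q; type a_s, which lies in Ω): its centraliser in Ω (the commutator subgroup of the orthogonal group) has order q^(2ms − (3s² + s)/2) · |Sp_s(q)| · |Ω⁺_(2m−2s)(q)|, where |Ω⁺_2k(q)| = q^(k(k−1)) (q^k − 1) Π_(i=1)^(k−1) (q^(2i) − 1) for k ≥ 1 and the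 last factor is 1 when s = m. -/
theorem result {F : Type*} [Field F] [Fintype F] [CharP F 2] {q : ℕ} (hF : Fintype.card F = q) {m s : ℕ} (h : Fintype.card F ≠ 2 ∨ m ≠ 2) (x : ↥(Cfsg.isometryGroup F (Cfsg.quadFormPlus m F))) (hx : x ^ 2 = 1) (hx1 : x ≠ 1) (hs : (((x : Matrix.GeneralLinearGroup (Fin m ⊕ Fin m) F) : Matrix (Fin m ⊕ Fin m) (Fin m ⊕ Fin m) F) - 1).rank = s) (heven : Even s) (halt : ∀ v : Fin m ⊕ Fin m → F, Cfsg.quadFormPlus m F ((((x : Matrix.GeneralLinearGroup (Fin m ⊕ Fin m) F) : Matrix (Fin m ⊕ Fin m) (Fin m ⊕ Fin m) F) - 1).mulVec v) = 0) : Nat.card {g : ↥(Cfsg.Omega F (Cfsg.quadFormPlus m F)) // (g : ↥(Cfsg.isometryGroup F (Cfsg.quadFormPlus m F))) * x = x * (g : ↥(Cfsg.isometryGroup F (Cfsg.quadFormPlus m F)))} = q ^ (2 * m * s - (3 * s ^ 2 + s) / 2) * ((q : ℕ) ^ ((s / 2) ^ 2) * ∏ i : Fin (s / 2), (q ^ (2 * ((i : ℕ) + 1)) - 1)) * (if s = m then 1 else q ^ ((m - s) * (m - s - 1)) * (q ^ (m - s) - 1)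 * ∏ i : Fin (m - s - 1), (q ^ (2 * ((i : ℕ) + 1)) - 1)) := by
  have h2 : (2 : F) = 0 := CharTwo.two_eq_zero
  have htsq : toSp x ^ 2 = 1 := by rw [pow_two]; exact toSp_sq x hx
  have hs' : ((toSp x : Matrix (Fin m ⊕ Fin m) (Fin m ⊕ Fin m) F) - 1).rank = s := hs
  have ht1 : toSp x ≠ 1 := by
    intro h1
    apply hx1
    apply Subtype.ext
    apply Units.ext
    have := congrArg (fun z : ↥(Matrix.symplecticGroup (Fin m) F) =>
      (z : Matrix (Fin m ⊕ Fin m) (Fin m ⊕ Fin m) F)) h1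
    exact this
  have halt' : ∀ v : Fin m ⊕ Fin m → F, Cfsg.sympForm m F v
      ((toSp x : Matrix (Fin m ⊕ Fin m) (Fin m ⊕ Fin m) F).mulVec v) = 0 := by
    intro v
    rw [toSp_coe, ← form_eq]
    exact halt v
  have ho : orderOf (toSp x) = 2 := orderOf_eq_prime htsq ht1
  have hsm : s ≤ m := by rw [← hs']; exact rank_le_of_invol h2 (toSp x) ho
  have hs1 : 1 ≤ s := by rw [← hs']; exact rank_pos_of_ne_one (toSp x) ht1
  have hSp := Cfsg.Agent.S2681.result hF (toSp x) htsq ht1 hs' heven halt'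
  have hq0 : 0 < q := by rw [← hF]; exact Fintype.card_pos
  obtain ⟨k, hk⟩ := heven
  have hs2 : s = 2 * k := by omega
  have hkk : k ≤ k ^ 2 := by nlinarith
  rcases Nat.lt_or_ge s m with hlt | hge
  · have key := card_cent_omega_alt_lt h x hx hs hlt halt
    rw [hSp, hF] at key
    rw [if_neg (by omega)]
    obtain ⟨r, hr⟩ : ∃ r, m = 2 * k + (r + 1) := ⟨m - s - 1, by omega⟩
    clear hk hSp
    subst hs2
    subst hr
    have e1 : 2 * k / 2 = k := Nat.mul_div_cancel_left k (by norm_num)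
    have e2 : 2 * k + (r + 1) - 2 * k = r + 1 := by omega
    have e3 : r + 1 - 1 = r := by omega
    have e4 : 2 * (2 * k + (r + 1)) - 2 * k = 2 * k + 2 * (r + 1) := by omega
    obtain ⟨e', he'⟩ : ∃ e', 2 * (2 * k + (r + 1)) * (2 * k) - (3 * (2 * k) ^ 2 + 2 * k) / 2 = e' :=
      ⟨_, rfl⟩
    have e5 : 2 * (2 * k + (r + 1)) * (2 * k) - (3 * (2 * k) ^ 2 - 2 * k) / 2 = e' + 2 * k := by
      rw [← he']
      obtain ⟨K2, hK2⟩ : ∃ K2, K2 = k ^ 2 := ⟨_, rfl⟩
      obtain ⟨rk, hrk⟩ : ∃ rk, rk = r * k := ⟨_, rfl⟩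
      have h5 : 2 * (2 * k + (r + 1)) * (2 * k) = 8 * K2 + 4 * rk + 4 * k := by
        rw [hK2, hrk]; ring
      have h6 : 3 * (2 * k) ^ 2 = 12 * K2 := by rw [hK2]; ring
      rw [← hK2] at hkk
      rw [h5, h6]
      omega
    rw [e1, e2, e4, e5] at key
    rw [e1, e2, e3, he']
    rw [Fin.prod_univ_castSucc] at key
    simp only [Fin.val_castSucc, Fin.val_last] at key
    obtain ⟨a', ha'⟩ : ∃ a', q ^ (r + 1) = a' + 1 :=
      ⟨q ^ (r + 1) - 1, by have := pow_pos hq0 (r + 1); omega⟩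
    have e6 : q ^ (2 * (r + 1)) - 1 = a' * (a' + 2) := by
      have : q ^ (2 * (r + 1)) = a' * (a' + 2) + 1 := by
        rw [pow_mul', ha']; ring
      rw [this, Nat.add_sub_cancel]
    have e7 : q ^ ((r + 1) ^ 2) = q ^ ((r + 1) * r) * (a' + 1) := by
      rw [← ha', ← pow_add]
      congr 1
      ring
    have e8 : q ^ (2 * k + 2 * (r + 1)) + q ^ (2 * k + (r + 1)) =
        q ^ (2 * k) * ((a' + 1) * (a' + 2)) := by
      rw [pow_add, pow_add, pow_mul' q 2 (r + 1), ha']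
      ring
    rw [e6, e7, e8, pow_add] at key
    rw [ha', Nat.add_sub_cancel]
    have hpos : 0 < q ^ (2 * k) * ((a' + 1) * (a' + 2)) := by positivity
    apply Nat.eq_of_mul_eq_mul_right hpos
    rw [key]
    ring
  · have hsm' : s = m := le_antisymm hsm hge
    subst hsm'
    have key := card_cent_omega_alt_eq h x hx (by omega) ⟨k, hk⟩ hs halt
    rw [hSp, hF] at key
    rw [if_pos rfl]
    clear hk hSp
    subst hs2
    have e1 : 2 * k / 2 = k := Nat.mul_div_cancel_left k (by norm_num)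
    obtain ⟨e', he'⟩ : ∃ e', 2 * (2 * k) * (2 * k) - (3 * (2 * k) ^ 2 + 2 * k) / 2 = e' :=
      ⟨_, rfl⟩
    have e5 : 2 * (2 * k) * (2 * k) - (3 * (2 * k) ^ 2 - 2 * k) / 2 = e' + 2 * k := by
      rw [← he']
      obtain ⟨K2, hK2⟩ : ∃ K2, K2 = k ^ 2 := ⟨_, rfl⟩
      have h5 : 2 * (2 * k) * (2 * k) = 8 * K2 := by
        rw [hK2]; ring
      have h6 : 3 * (2 * k) ^ 2 = 12 * K2 := by rw [hK2]; ring
      rw [← hK2] at hkk
      rw [h5, h6]
      omega
    rw [e1, e5, Nat.sub_self] at key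
    rw [e1, he']
    simp only [Finset.univ_eq_empty, Finset.prod_empty] at key
    rw [pow_add] at key
    apply Nat.eq_of_mul_eq_mul_right (pow_pos hq0 (2 * k))
    rw [key]
    ring

end Cfsg.Agent.S2684
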