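import Cfsg.Statements.S2686
import Cfsg.Agent.Lib.Helper8.BalL.ClassL
import Cfsg.Agent.Lib.Helper8.BalL.Small
import Cfsg.Agent.S2690
import Cfsg.Agent.Lib.Helper5.BalSp.Main

set_option autoImplicit false
open Cfsg

namespace Cfsg.Agent.S2686

open Cfsg.Agent.AutPSLCount Cfsg.Agent.Lib.Helper8.BalL Cfsg.Agent.Lib.Helper8.AutSp in
/-- A criterion for the failure of local balance in almost simple groups with linear socle. Let F be a finite field of characteristic r and K = PSL_n(F) (n ≥ 2) simple. Let A be a group of automorphisms of K containing all inner automorphisms (an almost simple group with socle K), and β ∈ A an automorphism of prime order p ≠ r that is not inner-diagonal (not induced by conjugation by an invertible matrix). Then the largest normal subgroup of C_A(β) of order prime to p is nontrivial if and only if β is the composite of an inner-diagonal automorphism with the automorphism induced by a field automorphism applied entrywise (β is of field type) and p does not divide the number of fixed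 points of β on K. -/
theorem result
    (F : Type*) [Field F] [Fintype F] (r : ℕ) [Fact r.Prime] [CharP F r] (n : ℕ) (hn : 2 ≤ n)
    (hK : IsSimpleGroup (Matrix.ProjectiveSpecialLinearGroup (Fin n) F))
    (𝒢 : Subgroup (MulAut (Matrix.ProjectiveSpecialLinearGroup (Fin n) F))) (hinn : ∀ k : Matrix.ProjectiveSpecialLinearGroup (Fin n) F, MulAut.conj k ∈ 𝒢)
    (p : ℕ) [Fact p.Prime] (hpr : p ≠ r) (β : MulAut (Matrix.ProjectiveSpecialLinearGroup (Fin n) F)) (hβ : β ∈ 𝒢) (hord : orderOf β = p)
    (hnot : ¬ Cfsg.IsInnerDiagonalAutPSL β) :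
    Cfsg.pPrimeCore p ↥(𝒢 ⊓ Subgroup.centralizer {β}) ≠ ⊥ ↔
      ((∃ γ φ : MulAut (Matrix.ProjectiveSpecialLinearGroup (Fin n) F), Cfsg.IsInnerDiagonalAutPSL γ ∧ Cfsg.IsFieldAutPSL φ ∧ β = φ.trans γ) ∧
        Nat.Coprime p (Nat.card ↥(MonoidHom.eqLocus β.toMonoidHom (MonoidHom.id (Matrix.ProjectiveSpecialLinearGroup (Fin n) F))))) := by
  classical
  have hp : p.Prime := Fact.out
  have hrp : r.Prime := Fact.out
  have hZ : Subgroup.center (PSLn n F) = ⊥ := center_psl_eq_bot hn
  -- the factorisation of automorphisms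
  obtain ⟨f, hf⟩ := FiniteField.card F r
  have hfac : Fac n F := by
    apply fac_of_statement
    intro β'
    refine Cfsg.Agent.S2690.result hf.2 f.2 hn ?_ β'
    intro h2
    subst h2
    exact four_le_card_of_simple hK
  have hnotD : β ∉ Dsub n F := by
    intro h
    apply hnot
    rw [innerDiag_iff]
    obtain ⟨g, hg⟩ := h
    exact ⟨g, hg.symm⟩
  -- the semilinear automorphisms
  have hsemi_iff : (∃ γ φ : MulAut (PSLn n F), Cfsg.IsInnerDiagonalAutPSL γ ∧
      Cfsg.IsFieldAutPSL φ ∧ β = φ.trans γ) ↔ ∃ (g : GL (Fin n) F) (σ : RingAut F),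
        β = Dh g * Ph σ := by
    constructor
    · rintro ⟨γ, φ, hγ, ⟨σ, hφ⟩, rfl⟩
      rw [innerDiag_iff] at hγ
      obtain ⟨g, rfl⟩ := hγ
      have hφ' : φ = liftAut (fieldSL σ) := (stdField_iff σ φ).1 hφ
      exact ⟨g, σ, by rw [hφ']; rfl⟩
    · rintro ⟨g, σ, rfl⟩
      refine ⟨Dh g, Ph σ, (innerDiag_iff _).2 ⟨g, rfl⟩, ⟨σ, (stdField_iff σ _).2 rfl⟩, rfl⟩
  rw [hsemi_iff]
  constructor
  · intro hne
    -- the core is trivial in all other cases
    have hW : ∀ (hct : CoreTrivial β p), False := by
      intro hct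
      apply hne
      rw [← coreIm_eq_bot_iff]
      apply hct
      · exact coreIm_coprime p _
      · intro w hw
        exact (comm_of_mem_centralizer ((coreIm_le p _ hw).2)).symm
      · intro k hk w hw
        exact coreIm_conj_mem p (𝒢 ⊓ Subgroup.centralizer {β}) _
          (Subgroup.mem_inf.2 ⟨hinn k, (conj_mem_centralizer_iff hZ β k).2 hk⟩) w hw
    obtain ⟨g, σ, c, hc, hβeq⟩ := hfac β
    have hsemi : ∃ (g : GL (Fin n) F) (σ : RingAut F), β = Dh g * Ph σ := by
      rcases hc with rfl | rfl
      · exact ⟨g, σ, by rw [hβeq, mul_one]⟩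
      · rcases Nat.lt_or_ge n 3 with h3 | h3
        · have h2 : n = 2 := by omega
          subst h2
          refine ⟨g * Matrix.GeneralLinearGroup.map (σ : F →+* F) w2, σ, ?_⟩
          rw [hβeq, Γ_two, mul_assoc, Ph_Dh, ← mul_assoc, ← map_mul]
        · exfalso
          subst hβeq
          have hp2 : p = 2 := semi_graph_order h3 g σ hord
          subst hp2
          have h2F : (2 : F) ≠ 0 := by
            intro h0
            have : ((2 : ℕ) : F) = 0 := by exact_mod_cast h0
            have hdvd := (CharP.cast_eq_zero_iff F r 2).1 this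
            exact hpr ((Nat.prime_dvd_prime_iff_eq hrp Nat.prime_two).1 hdvd).symm
          apply hW
          apply coreTrivial_graph h2F h3 hfac ?_ g σ hord
          intro A hA
          exact fun W hw1 hw2 hw3 =>
            Cfsg.Agent.Lib.Helper5.BalSp.core_trivial_graph_skew h2F h3 hfac hZ A hA W hw1 hw2 hw3
    refine ⟨hsemi, ?_⟩
    obtain ⟨g, σ, rfl⟩ := hsemi
    by_contra hncop
    have hdiv : p ∣ Nat.card ↥(fixG (Dh g * Ph σ : MulAut (PSLn n F))) :=
      hp.dvd_iff_not_coprime.2 hncop
    exact hW (coreTrivial_semilinear hn hfac hpr g σ hord hnotD hdiv)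
  · rintro ⟨⟨g, σ, rfl⟩, hcop⟩
    exact pcore_ne_bot_of_fix hZ 𝒢 hinn _ (fixG_semilinear_ne_bot hn g σ hord hnotD) hcop

end Cfsg.Agent.S2686
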