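import Cfsg.Statements.S2687
import Cfsg.Agent.Lib.Helper7.BalU.UH
import Cfsg.Agent.Lib.Helper5.BalSpU.Main
import Cfsg.Agent.Lib.Helper8.BalU.Final

set_option autoImplicit false
open Cfsg

namespace Cfsg.Agent.S2687

/-- A criterion for the failure of local balance in almost simple groups with unitary socle. Let F be a finite field of characteristic r with q² elements and K = PSU_n(q) (n ≥ 3, the central quotient of the determinant-one isometries of the standard Hermitian form) simple. Let A be a group of automorphisms of K containing all inner automorphisms, and β ∈ A an automorphism of prime order p ≠ r that is not inner-diagonal (not induced by conjugation by a matrix of the general unitary group). Then the largest normal subgroup of C_A(β) of order prime to p is nontrivial if and only if β is the composite of an inner-diagonal automorphism with the automorphism induced by a field automorphism of F applied entrywise and p does not divide the number of fixed points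 of β on K. -/
theorem result
    (F : Type*) [Field F] [Fintype F] (r : ℕ) [Fact r.Prime] [CharP F r] (q : ℕ) (hF : Fintype.card F = q ^ 2)
    (n : ℕ) (hn : 3 ≤ n) (hK : IsSimpleGroup (Cfsg.PSU n F q))
    (𝒢 : Subgroup (MulAut (Cfsg.PSU n F q))) (hinn : ∀ k : Cfsg.PSU n F q, MulAut.conj k ∈ 𝒢)
    (p : ℕ) [Fact p.Prime] (hpr : p ≠ r) (β : MulAut (Cfsg.PSU n F q)) (hβ : β ∈ 𝒢) (hord : orderOf β = p)
    (hnot : ¬ Cfsg.IsInnerDiagonalAutPSU β) :
    Cfsg.pPrimeCore p ↥(𝒢 ⊓ Subgroup.centralizer {β}) ≠ ⊥ ↔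
      ((∃ γ φ : MulAut (Cfsg.PSU n F q), Cfsg.IsInnerDiagonalAutPSU γ ∧ (∃ σ : F ≃+* F, Cfsg.IsFieldAutPSUOf σ φ) ∧ β = φ.trans γ) ∧
        Nat.Coprime p (Nat.card ↥(MonoidHom.eqLocus β.toMonoidHom (MonoidHom.id (Cfsg.PSU n F q))))) := by
  open Cfsg.Agent.Lib.H7AutPSU Cfsg.Agent.Lib.H7BalU Cfsg.Agent.Lib.Helper8.AutSp in
  exact Cfsg.Agent.Lib.H7BalU.local_balance_PSU r hF hn hK
    (fun p' _ hpr' hp2 σ hσ hdiv =>
      Cfsg.Agent.Lib.Helper8.BalU.coreTrivialU_field hF hn
        (Cfsg.Agent.Lib.H7BalU.not_exc_of_simple hF hK)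
        (Cfsg.Agent.Lib.H7AutPSU.facU_of_core (by
          obtain ⟨f, hf, hq⟩ := Cfsg.Agent.Lib.H7BalU.exists_q_pow r hF
          exact Cfsg.Agent.AutPSU.FacU_core hq hf hF hn
            (Cfsg.Agent.Lib.H7BalU.not_exc_of_simple hF hK)))
        (Cfsg.Agent.Lib.H7BalU.center_PSU_eq_bot hF hn
          (Cfsg.Agent.Lib.H7BalU.not_exc_of_simple hF hK))
        hpr' hp2 σ hσ hdiv)
    (fun σ => Cfsg.Agent.Lib.Helper8.BalU.fixG_PhU_ne_bot hF hn σ)
    (fun h2 τ hτ hτ2 hτ1 g l P hP hskew hx2 =>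
      Cfsg.Agent.Lib.Helper5.BalSpU.coreTrivialU_skew hF hn
        (Cfsg.Agent.Lib.H7BalU.not_exc_of_simple hF hK)
        (Cfsg.Agent.Lib.H7AutPSU.facU_of_core (by
          obtain ⟨f, hf, hq⟩ := Cfsg.Agent.Lib.H7BalU.exists_q_pow r hF
          exact Cfsg.Agent.AutPSU.FacU_core hq hf hF hn
            (Cfsg.Agent.Lib.H7BalU.not_exc_of_simple hF hK)))
        (Cfsg.Agent.Lib.H7BalU.center_PSU_eq_bot hF hn
          (Cfsg.Agent.Lib.H7BalU.not_exc_of_simple hF hK))
        h2 τ hτ hτ2 hτ1 g l P hP hskew hx2)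
    𝒢 hinn p hpr β hβ hord hnot

end Cfsg.Agent.S2687
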