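import Cfsg.Statements.S2689
import Cfsg.Agent.S2690

set_option autoImplicit false
open Cfsg

namespace Cfsg.Agent.S2689

/-- the composite of an inner-diagonal and a standard field automorphism is induced by a
semilinear map -/
theorem semilinear_of_mul {F : Type*} [Field F] {n : ℕ}
    {δ φ : MulAut (Matrix.ProjectiveSpecialLinearGroup (Fin n) F)} {σ : F ≃+* F}
    (hδ : Cfsg.IsInnerDiagonalAutPSL δ) (hφ : Cfsg.IsStdFieldAutPSL σ φ) :
    ∃ (g : GL (Fin n) F) (σ : F ≃+* F), Cfsg.IsInducedBySemilinearPSL g σ (δ * φ) := by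
  obtain ⟨g, hg⟩ := hδ
  refine ⟨g, σ, fun s s' h => ?_⟩
  have h1 : ((Matrix.SpecialLinearGroup.map (σ : F →+* F) s : Matrix.SpecialLinearGroup (Fin n) F) :
      Matrix (Fin n) (Fin n) F) = (s : Matrix (Fin n) (Fin n) F).map σ := by
    ext i j
    simp [Matrix.SpecialLinearGroup.map_apply_coe]
  rw [MulAut.mul_apply, hφ s (Matrix.SpecialLinearGroup.map (σ : F →+* F) s) h1]
  apply hg
  rw [h, h1]

/-- The automorphism group of a simple projective special linear group PSL_n(F) over a finite field (n ≥ 2; |F| ≥ 4 when n = 2) is generated by the automorphisms induced by invertible semilinear maps of F^n (the image of the projective semilinear group) together with the inverse-transpose automorphism. -/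
theorem result {F : Type*} [Field F] [Fintype F] {p f : ℕ} [Fact p.Prime] (hF : Fintype.card F = p ^ f) (hf : 1 ≤ f) {n : ℕ} (hn : 2 ≤ n) (hs : n = 2 → 4 ≤ Fintype.card F) :
    Cfsg.gammaPSL n F ⊔ Cfsg.autSubgroupOf (fun β : Matrix.ProjectiveSpecialLinearGroup (Fin n) F ≃* Matrix.ProjectiveSpecialLinearGroup (Fin n) F => Cfsg.IsInverseTransposeAutPSL β) = ⊤ := by
  rw [eq_top_iff]
  intro β _
  obtain ⟨δ, φ, γ, σ, hδ, hφ, hγ, rfl⟩ := Cfsg.Agent.S2690.result hF hf hn hs β
  apply Subgroup.mul_mem_sup
  · exact Subgroup.subset_closure (semilinear_of_mul hδ hφ)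
  · rcases hγ with rfl | hγ
    · exact one_mem _
    · exact Subgroup.subset_closure hγ

end Cfsg.Agent.S2689
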