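import Cfsg.Statements.S2698
import Cfsg.Agent.S2690
import Cfsg.Agent.Lib.Helper7.AutPSL.FieldPGL

set_option autoImplicit false
open Cfsg

namespace Cfsg.Agent.S2698

open Cfsg.Agent.Lib.H7AutPSL Cfsg.Agent.AutPSLCount

/-- a field automorphism of prime order `r` is conjugate to `Ph σ` with `σ` of order `r` -/
theorem field_data {n : ℕ} {F : Type*} [Field F] (hn : 2 ≤ n) (x : MulAut (PSLn n F))
    (hx : Cfsg.IsFieldAutClassPSL x) {r : ℕ} (hr : r.Prime) (hxr : orderOf x = r) :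
    ∃ (α : MulAut (PSLn n F)) (σ : RingAut F), orderOf σ = r ∧ α * x * α⁻¹ = Ph σ := by
  obtain ⟨α, σ, hσ, hstd⟩ := hx
  have hα : α * x * α⁻¹ = Ph σ := (stdField_iff σ _).1 hstd
  refine ⟨α, σ, ?_, hα⟩
  have hPr : (Ph σ : MulAut (PSLn n F)) ^ r = 1 := by
    rw [← hα, ← MulAut.conj_apply, ← map_pow, ← hxr, pow_orderOf_eq_one, map_one]
  rw [← map_pow] at hPr
  have hσr : σ ^ r = 1 := by
    apply Ph_inj hn
    rw [hPr]
    exact one_mem _
  have := Fact.mk hr
  exact orderOf_eq_prime hσr hσ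

/-- Let T = PSL_n(F) be simple over the field F with p^f elements (n ≥ 2; p^f ≥ 4 when n = 2), G = Inndiag(T) the image of PGL_n(F) in Aut(T), and x a field automorphism of T of prime order r. Then r divides f; the centralizer C_G(x) is isomorphic to PGL_n(F₀) for the subfield size |F₀| = p^(f/r); and the G-class of x is the union of exactly gcd(n, (p^f − 1)/(p^(f/r) − 1)) classes under conjugation by T (the inner automorphism group). -/
theorem result {F : Type*} [Field F] [Fintype F] {p f : ℕ} [Fact p.Prime] (hF : Fintype.card F = p ^ f) (hf : 1 ≤ f) {n : ℕ} (hn : 2 ≤ n) (hs : n = 2 → 4 ≤ Fintype.card F) (x : MulAut (Matrix.ProjectiveSpecialLinearGroup (Fin n) F)) (hx : Cfsg.IsFieldAutClassPSL x) {r : ℕ} (hr : r.Prime) (hxr : orderOf x = r) (F₀ : Type*) [Field F₀] [Fintype F₀] (hF₀ : Fintype.card F₀ = p ^ (f / r)) :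
    r ∣ f ∧ Nonempty (↥(Cfsg.inndiagPSL n F ⊓ Subgroup.centralizer {x}) ≃* Matrix.ProjGenLinGroup (Fin n) F₀) ∧ Cfsg.splitClassCount (Cfsg.inndiagPSL n F) (Cfsg.Inn (Matrix.ProjectiveSpecialLinearGroup (Fin n) F)) x = Nat.gcd n ((p ^ f - 1) / (p ^ (f / r) - 1)) := by
  have hfac : Fac n F := fac_of_statement (fun β => Cfsg.Agent.S2690.result hF hf hn hs β)
  have hDn := Dsub_normal hfac
  obtain ⟨α, σ, hσr, hα⟩ := field_data hn x hx hr hxr
  have hσ : σ ^ r = 1 := by rw [← hσr]; exact pow_orderOf_eq_one σ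
  have hinj : ∀ i j, i < r → j < r → σ ^ i = σ ^ j → i = j := by
    intro i j hi hj hij
    rw [← hσr] at hi hj
    exact pow_injOn_Iio_orderOf (Set.mem_Iio.2 hi) (Set.mem_Iio.2 hj) hij
  obtain ⟨hrf, ι, hι⟩ := exists_fixed_embedding p f hF σ r hr.pos hσr F₀ hF₀
  rw [inndiag_eq_Dsub]
  refine ⟨hrf, ?_, ?_⟩
  · obtain ⟨e⟩ := nonempty_cent_field_equiv hn σ r hr.pos hσ hinj ι hι
    exact ⟨((centralizerConjEquiv (Dsub n F) α x).trans
      (MulEquiv.subgroupCongr (by rw [hα]))).trans e⟩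
  · rw [← splitClassCount_conj (Dsub n F) (Cfsg.Inn (PSLn n F)) inn_le_Dsub α x, hα,
      splitClassCount_field hn σ r hr.pos hσ hinj (p ^ (f / r))
        (by rw [card_ker_langHom σ ι hι, hF₀]), hF]

end Cfsg.Agent.S2698
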