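import Cfsg.Statements.S2699
import Cfsg.Agent.Lib.Helper8.GrInv.CharTwoCent

set_option autoImplicit false
open Cfsg

namespace Cfsg.Agent.S2699

open Matrix Cfsg.Agent.AutPSLCount Cfsg.Agent.Lib.H7AutPSL Cfsg.Agent.Lib.H7GraphInv
open Cfsg.Agent.Lib.H7AutPO Cfsg.Agent.Lib.Helper8.GrInv

/-- the odd characteristic case -/
theorem odd_case {F : Type*} [Field F] [Fintype F] (h2 : (2 : F) ≠ 0) {n : ℕ} (hn : 3 ≤ n) {m : ℕ}
    (hnm : n = 2 * m + 1) (r : Fin n ≃ IO m) (A B : GL (Fin n) F)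
    (hA : A.valᵀ = A.val ∨ A.valᵀ = -A.val) (hB : B.valᵀ = B.val ∨ B.valᵀ = -B.val) :
    Nonempty (↥(Cfsg.inndiagPSL n F ⊓
      Subgroup.centralizer {(Dh A * Γ : MulAut (PSLn n F))}) ≃*
        Cfsg.PGO F (Cfsg.quadFormOdd m F)) ∧
      Cfsg.IsConjUnder (Cfsg.inndiagPSL n F) (Dh A * Γ : MulAut (PSLn n F)) (Dh B * Γ) := by
  have hodd : Odd n := ⟨m, hnm⟩
  have hAs : A.valᵀ = A.val := hA.resolve_right (fun h => not_skew_of_odd h2 hodd A h)
  have hBs : B.valᵀ = B.val := hB.resolve_right (fun h => not_skew_of_odd h2 hodd B h)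
  obtain ⟨eA, cA, hcA, hQA⟩ := exists_sim_odd r h2 A hAs
  obtain ⟨eB, cB, hcB, hQB⟩ := exists_sim_odd r h2 B hBs
  constructor
  · rw [inndiag_eq_Dsub]
    exact cent_graph_pgo (by omega) h2 A hAs _ eA cA hcA hQA
  · refine conj_of_sim (by omega) h2 A B hAs hBs (eA.trans eB.symm) (cB⁻¹ * cA)
      (mul_ne_zero (inv_ne_zero hcB) hcA) (fun v => ?_)
    have h1 := hQB (eB.symm (eA v))
    rw [LinearEquiv.apply_symm_apply, hQA] at h1
    rw [LinearEquiv.trans_apply, mul_assoc, h1, ← mul_assoc, inv_mul_cancel₀ hcB, one_mul]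

/-- the characteristic two case -/
theorem two_case {F : Type*} [Field F] [Fintype F] (h2 : (2 : F) = 0) {n : ℕ} (hn : 3 ≤ n) {m : ℕ}
    (hnm : n = 2 * m + 1) (r : Fin n ≃ IO m) (A B : GL (Fin n) F)
    (hA : A.valᵀ = A.val ∨ A.valᵀ = -A.val) (hB : B.valᵀ = B.val ∨ B.valᵀ = -B.val) :
    Nonempty (↥(Cfsg.inndiagPSL n F ⊓
      Subgroup.centralizer {(Dh A * Γ : MulAut (PSLn n F))}) ≃*
        Cfsg.PGO F (Cfsg.quadFormOdd m F)) ∧
      Cfsg.IsConjUnder (Cfsg.inndiagPSL n F) (Dh A * Γ : MulAut (PSLn n F)) (Dh B * Γ) := by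
  have : CharP F 2 := CharTwo.of_one_ne_zero_of_two_eq_zero one_ne_zero h2
  have hneg : ∀ M : Matrix (Fin n) (Fin n) F, -M = M := by
    intro M
    ext i j
    rw [Matrix.neg_apply, CharTwo.neg_eq]
  have hAs : A.valᵀ = A.val := by
    rcases hA with h | h
    · exact h
    · rw [h, hneg]
  have hBs : B.valᵀ = B.val := by
    rcases hB with h | h
    · exact h
    · rw [h, hneg]
  have cA := conj_std_two (by omega) hnm r A hAs
  have cB := conj_std_two (by omega) hnm r B hBs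
  constructor
  · obtain ⟨e1⟩ := cent_equiv_of_conj _ _ _ cA
    obtain ⟨e2⟩ := cent_std_two (F := F) (n := n) (m := m) (by omega) r
    exact ⟨e1.trans e2⟩
  · exact isConjUnder_trans _ cA (isConjUnder_symm _ cB)

/-- Let T = PSL_n(F) over the field with p^f elements with n ≥ 3 odd, n = 2m + 1, and G = Inndiag(T) the image of PGL_n(F). Every involutory graph automorphism γ of T (an inner-diagonal automorphism followed by inverse-transpose, of order 2) has centralizer C_G(γ) isomorphic to the projective conformal orthogonal group of the form x₀² + Σ xᵢ yᵢ in dimension n (for q even this group is isomorphic to Sp_{n−1}(q)), and any two involutory graph automorphisms are G-conjugate. -/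
theorem result {F : Type*} [Field F] [Fintype F] {p f : ℕ} [Fact p.Prime] (hF : Fintype.card F = p ^ f) (hf : 1 ≤ f) {n : ℕ} (hn : 3 ≤ n) {m : ℕ} (hnm : n = 2 * m + 1) (γ γ' : MulAut (Matrix.ProjectiveSpecialLinearGroup (Fin n) F)) (hγ : Cfsg.IsGraphAutClassPSL γ) (hγ2 : orderOf γ = 2) (hγ' : Cfsg.IsGraphAutClassPSL γ') (hγ'2 : orderOf γ' = 2) :
    Nonempty (↥(Cfsg.inndiagPSL n F ⊓ Subgroup.centralizer {γ}) ≃* Cfsg.PGO F (Cfsg.quadFormOdd m F)) ∧ Cfsg.IsConjUnder (Cfsg.inndiagPSL n F) γ γ' := by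
  obtain ⟨A, rfl, hA⟩ := graph_normal_form hn γ hγ hγ2
  obtain ⟨B, rfl, hB⟩ := graph_normal_form hn γ' hγ' hγ'2
  have hcard : Fintype.card (Fin n) = Fintype.card (IO m) := by
    rw [Fintype.card_fin, card_IO, hnm]
  have r : Fin n ≃ IO m := Fintype.equivOfCardEq hcard
  by_cases h2 : (2 : F) = 0
  · exact two_case h2 hn hnm r A B hA hB
  · exact odd_case h2 hn hnm r A B hA hB

end Cfsg.Agent.S2699
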