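import Cfsg.Statements.S2700
import Cfsg.Agent.Lib.Helper8.GrInv.Skew
import Cfsg.Agent.Lib.Helper8.QTypeE
import Cfsg.Agent.S2617

set_option autoImplicit false
open Cfsg

namespace Cfsg.Agent.S2700

/-- Let T = PSL_n(F) over a finite field of odd order with n = 2m ≥ 4 even, and G = Inndiag(T) the image of PGL_n(F). The involutory graph automorphisms of T fall into exactly three G-classes, with representatives γ₁, γ₂, γ₃ whose centralizers in G are isomorphic respectively to the projective conformal symplectic group PGSp_n(F), the projective conformal orthogonal group of the plus-type form Σ xᵢ yᵢ, and that of a minus-type form Σ xᵢ yᵢ + z₁² + a z₁ z₂ + b z₂² (anisotropic binary part) in dimension n. -/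
theorem result {F : Type*} [Field F] [Fintype F] (hodd : Odd (Fintype.card F)) {n m : ℕ} (hm : 2 ≤ m) (hnm : n = 2 * m) :
    ∃ (γ₁ γ₂ γ₃ : MulAut (Matrix.ProjectiveSpecialLinearGroup (Fin n) F)) (a b : F), (∀ z₁ z₂ : F, z₁ ^ 2 + a * z₁ * z₂ + b * z₂ ^ 2 = 0 → z₁ = 0 ∧ z₂ = 0) ∧ Cfsg.IsGraphAutClassPSL γ₁ ∧ orderOf γ₁ = 2 ∧ Cfsg.IsGraphAutClassPSL γ₂ ∧ orderOf γ₂ = 2 ∧ Cfsg.IsGraphAutClassPSL γ₃ ∧ orderOf γ₃ = 2 ∧ ¬ Cfsg.IsConjUnder (Cfsg.inndiagPSL n F) γ₁ γ₂ ∧ ¬ Cfsg.IsConjUnder (Cfsg.inndiagPSL n F) γ₁ γ₃ ∧ ¬ Cfsg.IsConjUnder (Cfsg.inndiagPSL n F) γ₂ γ₃ ∧ (∀ γ : MulAut (Matrix.ProjectiveSpecialLinearGroup (Fin n) F), Cfsg.IsGraphAutClassPSL γ → orderOf γ = 2 → Cfsg.IsConjUnder (Cfsg.inndiagPSL n F) γ₁ γ ∨ Cfsg.IsConjUnder (Cfsg.inndiagPSL n F) γ₂ γ ∨ Cfsg.IsConjUnder (Cfsg.inndiagPSL n F) γ₃ γ) ∧ Nonempty (↥(Cfsg.inndiagPSL n F ⊓ Subgroup.centralizer {γ₁}) ≃* Cfsg.PGSp m F) ∧ Nonempty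 (↥(Cfsg.inndiagPSL n F ⊓ Subgroup.centralizer {γ₂}) ≃* Cfsg.PGO F (Cfsg.quadFormPlus m F)) ∧ Nonempty (↥(Cfsg.inndiagPSL n F ⊓ Subgroup.centralizer {γ₃}) ≃* Cfsg.PGO F (Cfsg.quadFormMinus (m - 1) F a b)) := by
  open Cfsg.Agent.AutPSLCount Cfsg.Agent.Lib.H7AutPSL Cfsg.Agent.Lib.H7GraphInv
    Cfsg.Agent.Lib.Helper8.QType Cfsg.Agent.Lib.Helper8.GrInv Matrix in
  classical
  subst hnm
  obtain ⟨l, rfl⟩ : ∃ l, m = l + 1 := ⟨m - 1, by omega⟩
  have hn3 : 3 ≤ 2 * (l + 1) := by omega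
  have hn2 : 2 ≤ 2 * (l + 1) := by omega
  have h2 : (2 : F) ≠ 0 := by
    intro h
    have h1 : ringChar F = 2 := CharP.ringChar_of_prime_eq_zero Nat.prime_two h
    have h3 := FiniteField.even_card_iff_char_two.1 h1
    rw [Nat.odd_iff] at hodd
    omega
  let rP : Fin (2 * (l + 1)) ≃ Fin (l + 1) ⊕ Fin (l + 1) :=
    Fintype.equivOfCardEq (by simp only [Fintype.card_fin, Fintype.card_sum]; omega)
  let rM : Fin (2 * (l + 1)) ≃ (Fin l ⊕ Fin l) ⊕ Fin 2 :=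
    Fintype.equivOfCardEq (by simp only [Fintype.card_fin, Fintype.card_sum]; omega)
  obtain ⟨ζ, hζ⟩ := exists_rootless (F := F)
  have hab := Cfsg.Agent.S2617.aniso_of_rootless hζ
  have hTP := hasType_QP (F := F) l
  have hTM := hasType_QM (F := F) l 1 ζ hab
  have hA₁ := A1_transpose (F := F) rP
  have hA₂ := stdA_symm rP h2 _ hTP
  have hA₃ := stdA_symm rM h2 _ hTM
  refine ⟨Dh (A1 rP) * Γ, Dh (stdA rP h2 _ hTP) * Γ, Dh (stdA rM h2 _ hTM) * Γ, 1, ζ, hab,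
    graph_isGraphAutClass hn3 _, graph_orderOf hn3 _ (Or.inr hA₁),
    graph_isGraphAutClass hn3 _, graph_orderOf hn3 _ (Or.inl hA₂),
    graph_isGraphAutClass hn3 _, graph_orderOf hn3 _ (Or.inl hA₃),
    not_conj_skew_symm hn2 h2 _ _ hA₁ hA₂, not_conj_skew_symm hn2 h2 _ _ hA₁ hA₃,
    not_conj_of_types hn2 _ _ (hasType_stdA rP h2 _ hTP) (hasType_stdA rM h2 _ hTM),
    ?_, cent_A1 rP hn2, ?_, ?_⟩
  · intro γ hγ hγ2
    obtain ⟨A, rfl, hA | hA⟩ := graph_normal_form hn3 γ hγ hγ2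
    · -- symmetric
      have hAi : A⁻¹.valᵀ = A⁻¹.val := by
        have h1 : A⁻¹.valᵀ * A.val = 1 := by
          rw [← hA, ← Matrix.transpose_mul, ← Units.val_mul, mul_inv_cancel, Units.val_one,
            Matrix.transpose_one]
        calc A⁻¹.valᵀ = A⁻¹.valᵀ * (A.val * A⁻¹.val) := by
              rw [← Units.val_mul, mul_inv_cancel, Units.val_one, Matrix.mul_one]
          _ = A⁻¹.val := by rw [← Matrix.mul_assoc, h1, Matrix.one_mul]
      have hnd := nondeg_qf h2 A⁻¹.val hAi A.val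
        (by rw [← Units.val_mul, mul_inv_cancel, Units.val_one])
      obtain ⟨ε, hε⟩ := exists_hasType (qf A⁻¹.val) hnd l
        (by rw [Module.finrank_fin_fun]; ring)
      rcases hε.2.2.1 with rfl | rfl
      · right; left
        exact conj_of_hasType hn2 h2 _ A hA₂ hA (hasType_stdA rP h2 _ hTP) hε
      · right; right
        exact conj_of_hasType hn2 h2 _ A hA₃ hA (hasType_stdA rM h2 _ hTM) hε
    · -- skew-symmetric
      left
      exact isConjUnder_symm _ (conj_skew rP hn2 h2 A hA)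
  · exact cent_stdA rP hn2 h2 _ hTP (Cfsg.quadFormPlus (l + 1) F)
      (fun w => (Cfsg.Agent.S0287.QP_apply (l + 1) w).symm)
  · rw [Nat.add_sub_cancel]
    exact cent_stdA rM hn2 h2 _ hTM (Cfsg.quadFormMinus l F 1 ζ)
      (fun w => (Cfsg.Agent.S0288.QM_apply l 1 ζ w).symm)

end Cfsg.Agent.S2700
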