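import Cfsg.Statements.S2701
import Cfsg.Agent.Lib.Helper8.GrInv.EvenTwoCent

set_option autoImplicit false
open Cfsg

namespace Cfsg.Agent.S2701

open Matrix Cfsg.Agent.AutPSLCount Cfsg.Agent.Lib.H7AutPSL Cfsg.Agent.Lib.H7GraphInv
open Cfsg.Agent.Lib.H7AutPSp Cfsg.Agent.Lib.Helper8.GrInv

theorem neg_eq_two {F : Type*} [Field F] [CharP F 2] {n : ℕ} (M : Matrix (Fin n) (Fin n) F) :
    -M = M := by
  ext i j
  rw [Matrix.neg_apply, CharTwo.neg_eq]

theorem E00_transpose {F : Type*} [Field F] (k : ℕ) : (E00 (F := F) k)ᵀ = E00 k := by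
  ext i j
  rw [Matrix.transpose_apply]
  unfold E00
  simp only [Matrix.of_apply]
  ring

theorem M3_transpose {F : Type*} [Field F] [Fintype F] [CharP F 2] (k : ℕ) :
    (M3 (F := F) k)ᵀ = M3 k := by
  unfold M3
  rw [Matrix.fromBlocks_transpose, Matrix.transpose_one, Matrix.transpose_zero,
    Matrix.transpose_neg, Matrix.transpose_one, neg_one_two, E00_transpose]

/-- Let T = PSL_n(F) over a finite field of characteristic 2 with n = 2m ≥ 4 even, and G = Inndiag(T) the image of PGL_n(F). The involutory graph automorphisms of T fall into exactly two G-classes, with representatives γ₁ and γ₃ whose centralizers in G are isomorphic respectively to the symplectic group Sp_n(F) and to the centralizer in Sp_n(F) of a symplectic transvection. -/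
theorem result {F : Type*} [Field F] [Fintype F] [CharP F 2] {n m : ℕ} (hm : 2 ≤ m) (hnm : n = 2 * m) :
    ∃ (γ₁ γ₃ : MulAut (Matrix.ProjectiveSpecialLinearGroup (Fin n) F)) (t : ↥(Matrix.symplecticGroup (Fin m) F)), Cfsg.IsTransvection (t : Matrix (Fin m ⊕ Fin m) (Fin m ⊕ Fin m) F) ∧ Cfsg.IsGraphAutClassPSL γ₁ ∧ orderOf γ₁ = 2 ∧ Cfsg.IsGraphAutClassPSL γ₃ ∧ orderOf γ₃ = 2 ∧ ¬ Cfsg.IsConjUnder (Cfsg.inndiagPSL n F) γ₁ γ₃ ∧ (∀ γ : MulAut (Matrix.ProjectiveSpecialLinearGroup (Fin n) F), Cfsg.IsGraphAutClassPSL γ → orderOf γ = 2 → Cfsg.IsConjUnder (Cfsg.inndiagPSL n F) γ₁ γ ∨ Cfsg.IsConjUnder (Cfsg.inndiagPSL n F) γ₃ γ) ∧ Nonempty (↥(Cfsg.inndiagPSL n F ⊓ Subgroup.centralizer {γ₁}) ≃* ↥(Matrix.symplecticGroup (Fin m) F)) ∧ Nonempty (↥(Cfsg.inndiagPSL n F ⊓ Subgroup.centralizer {γ₃}) ≃* ↥(Subgroup.centralizer ({t} : Set ↥(Matrix.symplecticGroup (Fin m) F)))) := by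
  obtain ⟨k, rfl⟩ : ∃ k, m = k + 1 := ⟨m - 1, by omega⟩
  have hn : 3 ≤ n := by omega
  have hn2 : 2 ≤ n := by omega
  have hcard : Fintype.card (Fin n) = Fintype.card (Fin (k + 1) ⊕ Fin (k + 1)) := by
    rw [Fintype.card_fin, Fintype.card_sum, Fintype.card_fin, hnm, two_mul]
  obtain ⟨r⟩ : Nonempty (Fin n ≃ Fin (k + 1) ⊕ Fin (k + 1)) := ⟨Fintype.equivOfCardEq hcard⟩
  have hA1s : (A1 (F := F) r).valᵀ = (A1 (F := F) r).val := by
    rw [A1_transpose, neg_eq_two]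
  have hA1d : ∀ j, (A1 (F := F) r).val j j = 0 := by
    intro j
    rw [A1_val, Matrix.submatrix_apply, J_diag]
  have hM3s : (subGL r (M3u (F := F) k)).valᵀ = (subGL r (M3u (F := F) k)).val := by
    rw [subGL_val, M3u_val, Matrix.transpose_submatrix, M3_transpose]
  have hM3d : ∃ i, (subGL r (M3u (F := F) k)).val i i ≠ 0 := by
    refine ⟨r.symm (Sum.inl 0), ?_⟩
    rw [subGL_val, M3u_val, Matrix.submatrix_apply, Equiv.apply_symm_apply]
    unfold M3 E00
    simp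
  refine ⟨Dh (A1 r) * Γ, Dh (subGL r (M3u k)) * Γ, t3 k, T3_isTransvection k,
    graph_isGraphAutClass hn _, graph_orderOf hn _ (Or.inl hA1s),
    graph_isGraphAutClass hn _, graph_orderOf hn _ (Or.inl hM3s),
    not_conj_alt hn2 _ _ hA1s hA1d hM3d, ?_, cent_std1 k hn2 r, cent_std3 k hn2 r⟩
  intro γ hγ hγ2
  obtain ⟨A, rfl, hA⟩ := graph_normal_form hn γ hγ hγ2
  have hAs : A.valᵀ = A.val := by
    rcases hA with h | h
    · exact h
    · rw [h, neg_eq_two]
  by_cases hd : ∀ j, A.val j j = 0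
  · left
    exact isConjUnder_symm _ (conj_alt r hn2 A hAs hd)
  · right
    exact isConjUnder_symm _ (conj_std_even k hn2 hnm r A hAs (not_forall.1 hd))

end Cfsg.Agent.S2701
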