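import Cfsg.Statements.S2702
import Cfsg.Agent.Lib.Helper8.GrInv.SplitD

set_option autoImplicit false
open Cfsg

namespace Cfsg.Agent.S2702

open Matrix Cfsg.Agent.AutPSLCount Cfsg.Agent.Lib.H7AutPSL Cfsg.Agent.Lib.H7GraphInv
open Cfsg.Agent.Lib.Helper8.GrInv

/-- the characteristic of a field with `p ^ f` elements -/
theorem charP_of_card' {p : ℕ} [Fact p.Prime] {F : Type*} [Field F] [Fintype F] (f : ℕ)
    (hF : Fintype.card F = p ^ f) : CharP F p := by
  obtain ⟨q, hq⟩ := CharP.exists F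
  have := hq
  have hqp : q.Prime := CharP.char_is_prime F q
  have : Fact q.Prime := ⟨hqp⟩
  obtain ⟨k, _, hk⟩ := FiniteField.card F q
  rw [hF] at hk
  have h1 : q ∣ p ^ f := by rw [hk]; exact dvd_pow_self q k.ne_zero
  have h2 : q ∣ p := hqp.dvd_of_dvd_pow h1
  have h3 : q = p := (Nat.prime_dvd_prime_iff_eq hqp (Fact.out : p.Prime)).mp h2
  rw [← h3]; exact hq

/-- Let T = PSL_n(F) over the field with q = p^f elements, n ≥ 3, G = Inndiag(T) the image of PGL_n(F), and γ an involutory graph automorphism of T. The G-class of γ is the union of exactly c T-classes, where: if n is even and q is odd, c = gcd(n/2, q − 1) when C_G(γ) is isomorphic to the projective conformal symplectic group PGSp_n(F) (symplectic type) and c = gcd(n, q − 1)/2 otherwise; and c = gcd(n, q − 1) when n is odd or q is even. -/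
theorem result {F : Type*} [Field F] [Fintype F] {p f : ℕ} [Fact p.Prime] (hF : Fintype.card F = p ^ f) (hf : 1 ≤ f) {n : ℕ} (hn : 3 ≤ n) (γ : MulAut (Matrix.ProjectiveSpecialLinearGroup (Fin n) F)) (hγ : Cfsg.IsGraphAutClassPSL γ) (hγ2 : orderOf γ = 2) :
    ((Even n ∧ Odd p ∧ Nonempty (↥(Cfsg.inndiagPSL n F ⊓ Subgroup.centralizer {γ}) ≃* Cfsg.PGSp (n / 2) F)) → Cfsg.splitClassCount (Cfsg.inndiagPSL n F) (Cfsg.Inn (Matrix.ProjectiveSpecialLinearGroup (Fin n) F)) γ = Nat.gcd (n / 2) (p ^ f - 1)) ∧ ((Even n ∧ Odd p ∧ ¬ Nonempty (↥(Cfsg.inndiagPSL n F ⊓ Subgroup.centralizer {γ}) ≃* Cfsg.PGSp (n / 2) F)) → Cfsg.splitClassCount (Cfsg.inndiagPSL n F) (Cfsg.Inn (Matrix.ProjectiveSpecialLinearGroup (Fin n) F)) γ = Nat.gcd n (p ^ f - 1) / 2) ∧ (¬ (Even n ∧ Odd p) → Cfsg.splitClassCount (Cfsg.inndiagPSL n F) (Cfsg.Inn (Matrix.ProjectiveSpecialLinearGroup (Fin n) F)) γ = Nat.gcd n (p ^ f - 1)) := by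
  obtain ⟨A, rfl, hA⟩ := graph_normal_form hn γ hγ hγ2
  have hn2 : 2 ≤ n := by omega
  have hp : p.Prime := Fact.out
  have hchar : CharP F p := charP_of_card' f hF
  rw [← hF]
  by_cases hp2 : p = 2
  · -- characteristic two
    subst hp2
    have hnodd : ¬ Odd 2 := by decide
    refine ⟨fun h => absurd h.2.1 hnodd, fun h => absurd h.2.1 hnodd, fun _ => ?_⟩
    exact count_two hn2 A
  · have hpodd : Odd p := hp.odd_of_ne_two hp2
    have h2 : (2 : F) ≠ 0 := by
      intro h
      have h3 : ((2 : ℕ) : F) = 0 := by exact_mod_cast h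
      rw [CharP.cast_eq_zero_iff F p] at h3
      exact hp2 ((Nat.prime_dvd_prime_iff_eq hp Nat.prime_two).1 h3)
    have hqodd : Odd (Fintype.card F) := by
      rw [hF]
      exact hpodd.pow
    rcases Nat.even_or_odd n with hev | hodd
    · -- even dimension
      obtain ⟨m, hm⟩ := hev
      obtain ⟨l, rfl⟩ : ∃ l, m = l + 1 := ⟨m - 1, by omega⟩
      have hnl : n = 2 * (l + 1) := by omega
      have hl : 1 ≤ l := by omega
      have hdiv : n / 2 = l + 1 := by omega
      rw [hdiv]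
      have hcP : Fintype.card (Fin n) = Fintype.card (Fin (l + 1) ⊕ Fin (l + 1)) := by
        simp only [Fintype.card_fin, Fintype.card_sum]; omega
      obtain ⟨r⟩ : Nonempty (Fin n ≃ Fin (l + 1) ⊕ Fin (l + 1)) := ⟨Fintype.equivOfCardEq hcP⟩
      rcases hA with hA | hA
      · -- orthogonal type
        refine ⟨fun h => absurd h.2.2 (cent_symm_not_pgsp hn2 hqodd h2 hl hnl A hA),
          fun _ => count_symm hn2 hqodd h2 hnl A hA, fun h => absurd ⟨⟨l + 1, by omega⟩, hpodd⟩ h⟩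
      · -- symplectic type
        refine ⟨fun _ => count_skew hn2 h2 r A hA,
          fun h => absurd (cent_skew hn2 h2 r A hA) h.2.2,
          fun h => absurd ⟨⟨l + 1, by omega⟩, hpodd⟩ h⟩
    · -- odd dimension
      have hnev : ¬ Even n := Nat.not_even_iff_odd.2 hodd
      exact ⟨fun h => absurd h.1 hnev, fun h => absurd h.1 hnev, fun _ => count_odd hn2 hodd A⟩

end Cfsg.Agent.S2702
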