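import Cfsg.Statements.S2703
import Cfsg.Agent.Lib.Helper7.GraphInv.GraphSim
import Cfsg.Agent.Lib.Helper7.GraphInv.DotType

set_option autoImplicit false
open Cfsg

namespace Cfsg.Agent.S2703

open Cfsg.Agent.Lib.H7AutPSL Cfsg.Agent.AutPSLCount Cfsg.Agent.Lib.H7GraphInv
  Cfsg.Agent.Lib.Helper8.QType Matrix

theorem two_ne_zero_of_odd {F : Type*} [Field F] [Fintype F] (hodd : Odd (Fintype.card F)) :
    (2 : F) ≠ 0 := by
  intro h
  have h1 : ringChar F = 2 := CharP.ringChar_of_prime_eq_zero Nat.prime_two h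
  have h2 := FiniteField.even_card_iff_char_two.1 h1
  rw [Nat.odd_iff] at hodd
  omega

theorem eps2_sq (F : Type*) [Field F] : eps2 F = 1 ∨ eps2 F = -1 := by
  classical
  unfold eps2
  split_ifs
  · left; rfl
  · right; rfl

/-- the sign of the sum of squares in dimension `2(l+1)` -/
theorem eps2_pow_eq {F : Type*} [Field F] [Fintype F] (hodd : Odd (Fintype.card F)) (l : ℕ) :
    eps2 F ^ (l + 1) = if Even ((2 * (l + 1)) * (Fintype.card F - 1) / 4) then 1 else -1 := by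
  have hq : Fintype.card F % 2 = 1 := Nat.odd_iff.1 hodd
  have hdiv : (2 * (l + 1)) * (Fintype.card F - 1) / 4 = (l + 1) * ((Fintype.card F - 1) / 2) := by
    obtain ⟨k, hk⟩ : ∃ k, Fintype.card F - 1 = 2 * k := ⟨(Fintype.card F - 1) / 2, by omega⟩
    rw [hk, Nat.mul_div_cancel_left _ (by norm_num : 0 < 2)]
    have : 2 * (l + 1) * (2 * k) = 4 * ((l + 1) * k) := by ring
    rw [this, Nat.mul_div_cancel_left _ (by norm_num : 0 < 4)]
  have hiff : Even ((2 * (l + 1)) * (Fintype.card F - 1) / 4) ↔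
      (Even (l + 1) ∨ Even ((Fintype.card F - 1) / 2)) := by rw [hdiv, Nat.even_mul]
  have h41 := eps2_eq_one_iff hodd
  by_cases hq4 : Fintype.card F % 4 = 1
  · have he : eps2 F = 1 := h41.2 hq4
    have : Even ((Fintype.card F - 1) / 2) := by
      rw [Nat.even_iff]; omega
    rw [he, one_pow, if_pos (hiff.2 (Or.inr this))]
  · have he : eps2 F = -1 := by
      rcases eps2_sq F with h | h
      · exact absurd (h41.1 h) hq4
      · exact h
    have hno : ¬ Even ((Fintype.card F - 1) / 2) := by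
      rw [Nat.even_iff]; omega
    rw [he]
    by_cases hl : Even (l + 1)
    · rw [if_pos (hiff.2 (Or.inl hl)), hl.neg_one_pow]
    · rw [if_neg (fun h => by rcases hiff.1 h with h | h <;> tauto),
        (Nat.not_even_iff_odd.1 hl).neg_one_pow]

/-- Let T = PSL_n(F) over the field with q elements, q odd, n = 2m ≥ 4 even, and ι the inverse-transpose automorphism. Its centralizer in G = Inndiag(T) (the image of PGL_n(F)) is isomorphic to the projective conformal orthogonal group of the plus-type form Σ xᵢ yᵢ in dimension n when n(q − 1)/4 is even, and to that of a minus-type form (Σ xᵢ yᵢ + z₁² + a z₁ z₂ + b z₂² with anisotropic binary part) when n(q − 1)/4 is odd. -/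
theorem result {F : Type*} [Field F] [Fintype F] (hodd : Odd (Fintype.card F)) {n m : ℕ} (hm : 2 ≤ m) (hnm : n = 2 * m) (ι : MulAut (Matrix.ProjectiveSpecialLinearGroup (Fin n) F)) (hι : Cfsg.IsInverseTransposeAutPSL ι) :
    (Even (n * (Fintype.card F - 1) / 4) → Nonempty (↥(Cfsg.inndiagPSL n F ⊓ Subgroup.centralizer {ι}) ≃* Cfsg.PGO F (Cfsg.quadFormPlus m F))) ∧ (¬ Even (n * (Fintype.card F - 1) / 4) → ∃ a b : F, (∀ z₁ z₂ : F, z₁ ^ 2 + a * z₁ * z₂ + b * z₂ ^ 2 = 0 → z₁ = 0 ∧ z₂ = 0) ∧ Nonempty (↥(Cfsg.inndiagPSL n F ⊓ Subgroup.centralizer {ι}) ≃* Cfsg.PGO F (Cfsg.quadFormMinus (m - 1) F a b))) := by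
  obtain ⟨l, rfl⟩ : ∃ l, m = l + 1 := ⟨m - 1, by omega⟩
  subst hnm
  have h2 := two_ne_zero_of_odd hodd
  have hΓ : ι = (Dh (1 : GL (Fin (2 * (l + 1))) F) * Γ : MulAut (PSLn (2 * (l + 1)) F)) := by
    rw [map_one, one_mul]
    exact (invTr_iff ι).1 hι
  have hsymm : (1 : GL (Fin (2 * (l + 1))) F).valᵀ = (1 : GL (Fin (2 * (l + 1))) F).val := by
    rw [Units.val_one, Matrix.transpose_one]
  have hty := hasType_dot h2 l (2 * (l + 1)) (by ring)
  rw [eps2_pow_eq hodd l] at hty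
  rw [inndiag_eq_Dsub, hΓ]
  have hform : ∀ v : Fin (2 * (l + 1)) → F,
      dotQ (F := F) (2 * (l + 1)) v = 1 * (v ⬝ᵥ ((1 : GL (Fin (2 * (l + 1))) F)⁻¹.val *ᵥ v)) := by
    intro v
    rw [one_mul, inv_one, Units.val_one, Matrix.one_mulVec, dotQ_apply]
    rfl
  constructor
  · intro hev
    rw [if_pos hev] at hty
    obtain ⟨e⟩ := hty.equiv_QP
    refine cent_graph_pgo (by omega) h2 1 hsymm _ e.toLinearEquiv 1 one_ne_zero (fun v => ?_)
    rw [← hform, ← Cfsg.Agent.S0287.QP_apply]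
    exact e.map_app v
  · intro hev
    rw [if_neg hev] at hty
    obtain ⟨ζ, hζ, ⟨e⟩⟩ := hty.equiv_QM
    refine ⟨1, ζ, Cfsg.Agent.S2617.aniso_of_rootless hζ, ?_⟩
    rw [Nat.add_sub_cancel]
    refine cent_graph_pgo (by omega) h2 1 hsymm _ e.toLinearEquiv 1 one_ne_zero (fun v => ?_)
    rw [← hform, ← Cfsg.Agent.S0288.QM_apply]
    exact e.map_app v

end Cfsg.Agent.S2703
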