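import Cfsg.Statements.S2704
import Cfsg.Agent.S2690
import Cfsg.Agent.Lib.Helper7.AutPSL.GraphFieldPGU

set_option autoImplicit false
open Cfsg

namespace Cfsg.Agent.S2704

open Cfsg.Agent.Lib.H7AutPSL Cfsg.Agent.AutPSLCount

/-- an involutory graph-field automorphism is conjugate to `Ph σ * Γ` with `σ` an involution -/
theorem invol_data {n : ℕ} {F : Type*} [Field F] (x : MulAut (PSLn n F))
    (hx : Cfsg.IsGraphFieldAutClassPSL x) (hx2 : orderOf x = 2) :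
    ∃ (α : MulAut (PSLn n F)) (σ : RingAut F), σ ≠ 1 ∧ σ ^ 2 = 1 ∧ α * x * α⁻¹ = Ph σ * Γ := by
  obtain ⟨hn3, α, φ, γ, σ, hσ, hφ, hγ, hconj⟩ := hx
  have hα : α * x * α⁻¹ = Ph σ * Γ := by
    rw [hconj, (stdField_iff σ φ).1 hφ, (invTr_iff γ).1 hγ]
    rfl
  refine ⟨α, σ, hσ, ?_, hα⟩
  have hPr : (Ph σ * Γ : MulAut (PSLn n F)) ^ 2 = 1 := by
    rw [← hα, ← MulAut.conj_apply, ← map_pow, ← hx2, pow_orderOf_eq_one, map_one]
  have hcomm : Commute (Ph σ : MulAut (PSLn n F)) Γ := (Γ_Ph σ).symm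
  rw [hcomm.mul_pow, ← map_pow] at hPr
  apply Ph_inj (by omega : 2 ≤ n)
  have : (Γ : MulAut (PSLn n F)) ^ 2 = 1 := by rw [pow_two, Γ_Γ]
  rw [this, mul_one] at hPr
  rw [hPr]
  exact one_mem _

/-- Let T = PSL_n(F) over the field F with p^f elements, n ≥ 3, and G = Inndiag(T) the image of PGL_n(F). If x is an involutory graph-field automorphism of T then f is even; x is G-conjugate to every other involutory graph-field automorphism; C_G(x) is isomorphic to the projective general unitary group PGU_n(q₀) with q₀² = p^f, realised over F itself through the Hermitian form Σ uᵢ vᵢ^{q₀}; and the G-class of x is the union of exactly gcd(n, q₀ − 1) T-classes. -/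
theorem result {F : Type*} [Field F] [Fintype F] {p f : ℕ} [Fact p.Prime] (hF : Fintype.card F = p ^ f) (hf : 1 ≤ f) {n : ℕ} (hn : 3 ≤ n) (x : MulAut (Matrix.ProjectiveSpecialLinearGroup (Fin n) F)) (hx : Cfsg.IsGraphFieldAutClassPSL x) (hx2 : orderOf x = 2) :
    Even f ∧ (∀ y : MulAut (Matrix.ProjectiveSpecialLinearGroup (Fin n) F), Cfsg.IsGraphFieldAutClassPSL y → orderOf y = 2 → Cfsg.IsConjUnder (Cfsg.inndiagPSL n F) x y) ∧ Nonempty (↥(Cfsg.inndiagPSL n F ⊓ Subgroup.centralizer {x}) ≃* Cfsg.PGU n F (p ^ (f / 2))) ∧ Cfsg.splitClassCount (Cfsg.inndiagPSL n F) (Cfsg.Inn (Matrix.ProjectiveSpecialLinearGroup (Fin n) F)) x = Nat.gcd n (p ^ (f / 2) - 1) := by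
  have hchar : CharP F p := Cfsg.Agent.S2690.charP_of_card_pow p f hF
  have hfac : Fac n F := fac_of_statement
    (fun β => Cfsg.Agent.S2690.result hF hf (by omega) (fun h => by omega) β)
  have hDn := Dsub_normal hfac
  obtain ⟨α, σ, hσ1, hσ2, hα⟩ := invol_data x hx hx2
  obtain ⟨hev, hfrob⟩ := involution_eq_frob p f hF σ hσ2 hσ1
  obtain ⟨k, hk⟩ := hev
  have hk1 : 1 ≤ f / 2 := by omega
  have hp2 : 2 ≤ p := (Fact.out : p.Prime).two_le
  have hq₀ : 2 ≤ p ^ (f / 2) := by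
    calc 2 ≤ p := hp2
      _ = p ^ 1 := (pow_one p).symm
      _ ≤ p ^ (f / 2) := Nat.pow_le_pow_right (by omega) hk1
  have hFq : Fintype.card F = (p ^ (f / 2)) ^ 2 := by
    rw [hF, ← pow_mul]
    congr 1
    omega
  rw [inndiag_eq_Dsub]
  refine ⟨⟨k, hk⟩, ?_, ?_, ?_⟩
  · intro y hy hy2
    obtain ⟨β, σ', hσ'1, hσ'2, hβ⟩ := invol_data y hy hy2
    obtain ⟨-, hfrob'⟩ := involution_eq_frob p f hF σ' hσ'2 hσ'1
    have hσσ' : σ' = σ := RingEquiv.ext (fun t => by rw [hfrob, hfrob'])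
    rw [hσσ'] at hβ
    have hyx : y = (β⁻¹ * α) * x * (β⁻¹ * α)⁻¹ := by
      have h1 : β * y * β⁻¹ = α * x * α⁻¹ := by rw [hβ, hα]
      calc y = β⁻¹ * (β * y * β⁻¹) * β := by group
        _ = β⁻¹ * (α * x * α⁻¹) * β := by rw [h1]
        _ = _ := by group
    have hδ : y * x⁻¹ ∈ Dsub n F := by
      rw [hyx]
      exact comm_mem_Dsub p f hF hn hfac (β⁻¹ * α) x
    have hyy : y * x⁻¹ * x = y := by group
    obtain ⟨h', hh', e⟩ := graphfield_class_coset hn hfac x (y * x⁻¹) α σ hσ1 hα Nat.prime_two hx2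
      hδ (by rw [hyy]; exact hy2)
    exact ⟨h', hh', by rw [← e, hyy]⟩
  · obtain ⟨e⟩ := nonempty_cent_graphfield_equiv (by omega : 2 ≤ n) σ hσ2 hσ1 (p ^ (f / 2)) hfrob
    exact ⟨((centralizerConjEquiv (Dsub n F) α x).trans
      (MulEquiv.subgroupCongr (by rw [hα]))).trans e⟩
  · rw [← splitClassCount_conj (Dsub n F) (Cfsg.Inn (PSLn n F)) inn_le_Dsub α x, hα]
    exact splitClassCount_graphfield (by omega) σ hσ2 hσ1 _ hq₀ hFq hfrob

end Cfsg.Agent.S2704
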