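import Cfsg.Statements.S2707
import Cfsg.Agent.Lib.Helper8.UGr.Transfer
import Cfsg.Agent.S2700

set_option autoImplicit false
open Cfsg

namespace Cfsg.Agent.S2707

/-- Let T = PSU_n(q) with n = 2m ≥ 4 even and q odd, realised over the field F with q² elements, and G = Inndiag(T) the image of PGU_n(q). The involutory graph automorphisms of T fall into exactly three G-classes, with representatives whose centralizers in G are isomorphic respectively to the projective conformal symplectic group PGSp_n(F₀), the projective conformal orthogonal group of the plus-type form Σ xᵢ yᵢ, and that of a minus-type form Σ xᵢ yᵢ + z₁² + a z₁ z₂ + b z₂² (anisotropic binary part) in dimension n, all over a field F₀ with q elements. -/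
theorem result {F : Type*} [Field F] [Fintype F] {q : ℕ} (hodd : Odd q) (hF : Fintype.card F = q ^ 2) {n m : ℕ} (hm : 2 ≤ m) (hnm : n = 2 * m) (F₀ : Type*) [Field F₀] [Fintype F₀] (hF₀ : Fintype.card F₀ = q) :
    ∃ (γ₁ γ₂ γ₃ : MulAut (Cfsg.PSU n F q)) (a b : F₀), (∀ z₁ z₂ : F₀, z₁ ^ 2 + a * z₁ * z₂ + b * z₂ ^ 2 = 0 → z₁ = 0 ∧ z₂ = 0) ∧ Cfsg.IsGraphAutClassPSU γ₁ ∧ orderOf γ₁ = 2 ∧ Cfsg.IsGraphAutClassPSU γ₂ ∧ orderOf γ₂ = 2 ∧ Cfsg.IsGraphAutClassPSU γ₃ ∧ orderOf γ₃ = 2 ∧ ¬ Cfsg.IsConjUnder (Cfsg.inndiagPSU n F q) γ₁ γ₂ ∧ ¬ Cfsg.IsConjUnder (Cfsg.inndiagPSU n F q) γ₁ γ₃ ∧ ¬ Cfsg.IsConjUnder (Cfsg.inndiagPSU n F q) γ₂ γ₃ ∧ (∀ γ : MulAut (Cfsg.PSU n F q), Cfsg.IsGraphAutClassPSU γ → orderOf γ = 2 → Cfsg.IsConjUnder (Cfsg.inndiagPSU n F q) γ₁ γ ∨ Cfsg.IsConjUnder (Cfsg.inndiagPSU n F q) γ₂ γ ∨ Cfsg.IsConjUnder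 (Cfsg.inndiagPSU n F q) γ₃ γ) ∧ Nonempty (↥(Cfsg.inndiagPSU n F q ⊓ Subgroup.centralizer {γ₁}) ≃* Cfsg.PGSp m F₀) ∧ Nonempty (↥(Cfsg.inndiagPSU n F q ⊓ Subgroup.centralizer {γ₂}) ≃* Cfsg.PGO F₀ (Cfsg.quadFormPlus m F₀)) ∧ Nonempty (↥(Cfsg.inndiagPSU n F q ⊓ Subgroup.centralizer {γ₃}) ≃* Cfsg.PGO F₀ (Cfsg.quadFormMinus (m - 1) F₀ a b)) := by
  open Cfsg.Agent.Lib.Helper8.UGr in
  have hn : 3 ≤ n := by omega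
  have hs : ¬ (n = 3 ∧ q = 2) := by omega
  obtain ⟨τ, ι, hτ, hfix⟩ := exists_setup hF hF₀
  have hodd₀ : Odd (Fintype.card F₀) := by rw [hF₀]; exact hodd
  obtain ⟨γ₁, γ₂, γ₃, a, b, hab, hg1, ho1, hg2, ho2, hg3, ho3, hn12, hn13, hn23, hall, hc1, hc2,
    hc3⟩ := Cfsg.Agent.S2700.result (F := F₀) hodd₀ hm hnm
  obtain ⟨β₁, hβ₁⟩ := corr_of_psl (q := q) hF hn hs τ hτ ι hfix γ₁ hg1 ho1
  obtain ⟨β₂, hβ₂⟩ := corr_of_psl (q := q) hF hn hs τ hτ ι hfix γ₂ hg2 ho2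
  obtain ⟨β₃, hβ₃⟩ := corr_of_psl (q := q) hF hn hs τ hτ ι hfix γ₃ hg3 ho3
  obtain ⟨hG1, hO1, -, -⟩ := hβ₁.isGraph hF hn hs τ hτ ι
  obtain ⟨hG2, hO2, -, -⟩ := hβ₂.isGraph hF hn hs τ hτ ι
  obtain ⟨hG3, hO3, -, -⟩ := hβ₃.isGraph hF hn hs τ hτ ι
  refine ⟨β₁, β₂, β₃, a, b, hab, hG1, hO1, hG2, hO2, hG3, hO3, ?_, ?_, ?_, ?_, ?_, ?_, ?_⟩
  · exact fun h => hn12 ((hβ₁.conj_iff hF hn hs τ hτ ι hfix hβ₂).1 h)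
  · exact fun h => hn13 ((hβ₁.conj_iff hF hn hs τ hτ ι hfix hβ₃).1 h)
  · exact fun h => hn23 ((hβ₂.conj_iff hF hn hs τ hτ ι hfix hβ₃).1 h)
  · intro γ hγ hγ2
    obtain ⟨γ₀, hγ₀⟩ := corr_of_psu hF hn hs τ hτ ι hfix γ hγ hγ2
    obtain ⟨-, -, hgg, hoo⟩ := hγ₀.isGraph hF hn hs τ hτ ι
    rcases hall γ₀ hgg hoo with h | h | h
    · exact Or.inl ((hβ₁.conj_iff hF hn hs τ hτ ι hfix hγ₀).2 h)
    · exact Or.inr (Or.inl ((hβ₂.conj_iff hF hn hs τ hτ ι hfix hγ₀).2 h))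
    · exact Or.inr (Or.inr ((hβ₃.conj_iff hF hn hs τ hτ ι hfix hγ₀).2 h))
  · obtain ⟨e⟩ := hβ₁.cent hF hn hs τ hτ ι hfix
    obtain ⟨e'⟩ := hc1
    exact ⟨e.trans e'⟩
  · obtain ⟨e⟩ := hβ₂.cent hF hn hs τ hτ ι hfix
    obtain ⟨e'⟩ := hc2
    exact ⟨e.trans e'⟩
  · obtain ⟨e⟩ := hβ₃.cent hF hn hs τ hτ ι hfix
    obtain ⟨e'⟩ := hc3
    exact ⟨e.trans e'⟩

end Cfsg.Agent.S2707
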