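import Cfsg.Statements.S2708
import Cfsg.Agent.Lib.Helper8.UGr.Transfer
import Cfsg.Agent.S2701

set_option autoImplicit false
open Cfsg

namespace Cfsg.Agent.S2708

/-- Let T = PSU_n(q) with n = 2m ≥ 4 even and q even, realised over the field F (of characteristic 2) with q² elements, and G = Inndiag(T) the image of PGU_n(q). The involutory graph automorphisms of T fall into exactly two G-classes, with representatives whose centralizers in G are isomorphic respectively to the symplectic group Sp_n(F₀) and to the centralizer in Sp_n(F₀) of a symplectic transvection, F₀ a field with q elements. -/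
theorem result {F : Type*} [Field F] [Fintype F] [CharP F 2] {q : ℕ} (hF : Fintype.card F = q ^ 2) {n m : ℕ} (hm : 2 ≤ m) (hnm : n = 2 * m) (F₀ : Type*) [Field F₀] [Fintype F₀] (hF₀ : Fintype.card F₀ = q) :
    ∃ (γ₁ γ₃ : MulAut (Cfsg.PSU n F q)) (t : ↥(Matrix.symplecticGroup (Fin m) F₀)), Cfsg.IsTransvection (t : Matrix (Fin m ⊕ Fin m) (Fin m ⊕ Fin m) F₀) ∧ Cfsg.IsGraphAutClassPSU γ₁ ∧ orderOf γ₁ = 2 ∧ Cfsg.IsGraphAutClassPSU γ₃ ∧ orderOf γ₃ = 2 ∧ ¬ Cfsg.IsConjUnder (Cfsg.inndiagPSU n F q) γ₁ γ₃ ∧ (∀ γ : MulAut (Cfsg.PSU n F q), Cfsg.IsGraphAutClassPSU γ → orderOf γ = 2 → Cfsg.IsConjUnder (Cfsg.inndiagPSU n F q) γ₁ γ ∨ Cfsg.IsConjUnder (Cfsg.inndiagPSU n F q) γ₃ γ) ∧ Nonempty (↥(Cfsg.inndiagPSU n F q ⊓ Subgroup.centralizer {γ₁}) ≃* ↥(Matrix.symplecticGroup (Fin m) F₀)) ∧ Nonempty (↥(Cfsg.inndiagPSU n F q ⊓ Subgroup.centralizer {γ₃}) ≃*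 ↥(Subgroup.centralizer ({t} : Set ↥(Matrix.symplecticGroup (Fin m) F₀)))) := by
  open Cfsg.Agent.Lib.Helper8.UGr in
  have hn : 3 ≤ n := by omega
  have hs : ¬ (n = 3 ∧ q = 2) := by omega
  obtain ⟨τ, ι, hτ, hfix⟩ := exists_setup hF hF₀
  have hchar : CharP F₀ 2 := RingHom.charP ι ι.injective 2
  obtain ⟨γ₁, γ₃, t, ht, hg1, ho1, hg3, ho3, hn13, hall, hc1, hc3⟩ :=
    Cfsg.Agent.S2701.result (F := F₀) hm hnm
  obtain ⟨β₁, hβ₁⟩ := corr_of_psl (q := q) hF hn hs τ hτ ι hfix γ₁ hg1 ho1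
  obtain ⟨β₃, hβ₃⟩ := corr_of_psl (q := q) hF hn hs τ hτ ι hfix γ₃ hg3 ho3
  obtain ⟨hG1, hO1, -, -⟩ := hβ₁.isGraph hF hn hs τ hτ ι
  obtain ⟨hG3, hO3, -, -⟩ := hβ₃.isGraph hF hn hs τ hτ ι
  refine ⟨β₁, β₃, t, ht, hG1, hO1, hG3, hO3, ?_, ?_, ?_, ?_⟩
  · exact fun h => hn13 ((hβ₁.conj_iff hF hn hs τ hτ ι hfix hβ₃).1 h)
  · intro γ hγ hγ2
    obtain ⟨γ₀, hγ₀⟩ := corr_of_psu hF hn hs τ hτ ι hfix γ hγ hγ2
    obtain ⟨-, -, hgg, hoo⟩ := hγ₀.isGraph hF hn hs τ hτ ι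
    rcases hall γ₀ hgg hoo with h | h
    · exact Or.inl ((hβ₁.conj_iff hF hn hs τ hτ ι hfix hγ₀).2 h)
    · exact Or.inr ((hβ₃.conj_iff hF hn hs τ hτ ι hfix hγ₀).2 h)
  · obtain ⟨e⟩ := hβ₁.cent hF hn hs τ hτ ι hfix
    obtain ⟨e'⟩ := hc1
    exact ⟨e.trans e'⟩
  · obtain ⟨e⟩ := hβ₃.cent hF hn hs τ hτ ι hfix
    obtain ⟨e'⟩ := hc3
    exact ⟨e.trans e'⟩

end Cfsg.Agent.S2708
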