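import Cfsg.Statements.S2709
import Cfsg.Agent.Lib.Helper8.UGr.SplitU3

set_option autoImplicit false
open Cfsg

namespace Cfsg.Agent.S2709

/-- Let T = PSU_n(q) be simple (n ≥ 3, (n,q) ≠ (3,2), q = p^f), realised over the field F with q² elements, G = Inndiag(T) the image of PGU_n(q), and γ an involutory graph automorphism of T. The G-class of γ is the union of exactly c T-classes, where: if n is even and q is odd, c = gcd(n/2, q + 1) when C_G(γ) is isomorphic to PGSp_n(F₀) for a field F₀ with q elements (symplectic type) and c = gcd(n, q + 1)/2 otherwise; and c = gcd(n, q + 1) when n is odd or q is even. -/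
theorem result {F : Type*} [Field F] [Fintype F] {p f q : ℕ} [Fact p.Prime] (hq : q = p ^ f) (hf : 1 ≤ f) (hF : Fintype.card F = q ^ 2) {n : ℕ} (hn : 3 ≤ n) (hs : ¬ (n = 3 ∧ q = 2)) (F₀ : Type*) [Field F₀] [Fintype F₀] (hF₀ : Fintype.card F₀ = q) (γ : MulAut (Cfsg.PSU n F q)) (hγ : Cfsg.IsGraphAutClassPSU γ) (hγ2 : orderOf γ = 2) :
    ((Even n ∧ Odd q ∧ Nonempty (↥(Cfsg.inndiagPSU n F q ⊓ Subgroup.centralizer {γ}) ≃* Cfsg.PGSp (n / 2) F₀)) → Cfsg.splitClassCount (Cfsg.inndiagPSU n F q) (Cfsg.Inn (Cfsg.PSU n F q)) γ = Nat.gcd (n / 2) (q + 1)) ∧ ((Even n ∧ Odd q ∧ ¬ Nonempty (↥(Cfsg.inndiagPSU n F q ⊓ Subgroup.centralizer {γ}) ≃* Cfsg.PGSp (n / 2) F₀)) → Cfsg.splitClassCount (Cfsg.inndiagPSU n F q) (Cfsg.Inn (Cfsg.PSU n F q)) γ = Nat.gcd n (q + 1) / 2) ∧ (¬ (Even n ∧ Odd q) → Cfsg.splitClassCount (Cfsg.inndiagPSU n F q) (Cfsg.Inn (Cfsg.PSU n F q)) γ = Nat.gcd n (q + 1)) := by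
  open Cfsg.Agent.Lib.Helper8.UGr Cfsg.Agent.Lib.H7AutPSU Cfsg.Agent.Lib.Helper8.GrInv Matrix in
  obtain ⟨τ, ι, hτ, hfix⟩ := exists_setup hF hF₀
  obtain ⟨g, rfl, hg⟩ := graphU_normal_form hF hn hs τ hτ γ hγ hγ2
  have hgu := GU_mul_transpose τ hτ g
  have hτ2 := frob_sq hF τ hτ
  have hτ1 := frob_ne_one hF τ hτ
  -- descent data with the same symmetry type
  obtain ⟨A, P, hR, hsym⟩ : ∃ (A : GL (Fin n) F₀) (P : GL (Fin n) F),
      Rel ι τ g.1.val A.val P ∧ ((g.1.valᵀ = g.1.val ∧ A.valᵀ = A.val) ∨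
        (g.1.valᵀ = -g.1.val ∧ A.valᵀ = -A.val)) := by
    rcases hg with hg1 | hg1
    · obtain ⟨A, P, hR, hA⟩ := exists_rel ι τ hfix hτ2 hτ1 (by omega) g.1 hgu 1 1 (map_one ι)
        (one_mul 1) (by rw [one_smul]; exact hg1)
      rw [one_smul] at hA
      exact ⟨A, P, hR, Or.inl ⟨hg1, hA⟩⟩
    · obtain ⟨A, P, hR, hA⟩ := exists_rel ι τ hfix hτ2 hτ1 (by omega) g.1 hgu (-1) (-1)
        (by rw [map_neg, map_one]) (by ring) (by rw [neg_one_smul]; exact hg1)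
      rw [neg_one_smul] at hA
      exact ⟨A, P, hR, Or.inr ⟨hg1, hA⟩⟩
  obtain ⟨e1⟩ := cent_transfer hF hn hs τ hτ ι hfix hR
  have h2of : Odd q → (2 : F₀) ≠ 0 := by
    intro hodd h
    have h1 : ringChar F₀ = 2 := CharP.ringChar_of_prime_eq_zero Nat.prime_two h
    have h3 := FiniteField.even_card_iff_char_two.1 h1
    rw [hF₀, Nat.odd_iff] at *
    omega
  refine ⟨?_, ?_, ?_⟩
  · rintro ⟨hev, hoq, ⟨e2⟩⟩
    obtain ⟨m, hm⟩ := hev
    have hnm : n = 2 * m := by omega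
    have h2 := h2of hoq
    have hdiv : n / 2 = m := by omega
    rcases hsym with ⟨-, hAs⟩ | ⟨-, hAk⟩
    · exfalso
      obtain ⟨l, rfl⟩ : ∃ l, m = l + 1 := ⟨m - 1, by omega⟩
      apply cent_symm_not_pgsp (by omega) (by rw [hF₀]; exact hoq) h2 (l := l) (by omega) hnm A hAs
      rw [hdiv] at e2
      exact ⟨e1.symm.trans e2⟩
    · rw [countU_skew hF hn hs τ hτ ι hfix hR h2 hnm hAk, hdiv]
  · rintro ⟨hev, hoq, hno⟩
    obtain ⟨m, hm⟩ := hev
    have hnm : n = 2 * m := by omega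
    have h2 := h2of hoq
    have hdiv : n / 2 = m := by omega
    rcases hsym with ⟨-, hAs⟩ | ⟨-, hAk⟩
    · obtain ⟨l, rfl⟩ : ∃ l, m = l + 1 := ⟨m - 1, by omega⟩
      exact countU_symm hF hn hs τ hτ ι hfix hR hoq h2 hnm hAs
    · exfalso
      apply hno
      have r : Fin n ≃ Fin m ⊕ Fin m :=
        Fintype.equivOfCardEq (by simp only [Fintype.card_fin, Fintype.card_sum]; omega)
      obtain ⟨e3⟩ := cent_skew (by omega) h2 r A hAk
      rw [hdiv]
      exact ⟨e1.trans e3⟩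
  · intro hne
    have hcase : Odd n ∨ Odd (q + 1) := by
      by_contra hcon
      apply hne
      constructor
      · exact Nat.not_odd_iff_even.1 (fun h => hcon (Or.inl h))
      · have h1 : ¬ Odd (q + 1) := fun h => hcon (Or.inr h)
        rw [Nat.not_odd_iff_even] at h1
        obtain ⟨k, hk⟩ := h1
        exact ⟨k - 1, by omega⟩
    exact countU_A hF hn hs τ hτ hcase g

end Cfsg.Agent.S2709
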