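import Cfsg.Statements.S2710
import Cfsg.Agent.Lib.Helper8.UGr.FieldCase

set_option autoImplicit false
open Cfsg

namespace Cfsg.Agent.S2710

/-- Let T = PSU_n(q) with n ≥ 4 divisible by 4 (n = 2m) and q odd, realised over the field F with q² elements, G = Inndiag(T) the image of PGU_n(q), and φ the standard field automorphism of T attached to the q-th power map of F (it induces inverse-transpose on the unitary matrices and is a graph automorphism). Its centralizer in G is isomorphic to the projective conformal orthogonal group of the plus-type form Σ xᵢ yᵢ in dimension n over a field F₀ with q elements. (Dimensions n ≡ 2 (mod 4) are not covered.) -/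
theorem result {F : Type*} [Field F] [Fintype F] {q : ℕ} (hodd : Odd q) (hF : Fintype.card F = q ^ 2) {n m : ℕ} (hm : 2 ≤ m) (hnm : n = 2 * m) (h4 : 4 ∣ n) (F₀ : Type*) [Field F₀] [Fintype F₀] (hF₀ : Fintype.card F₀ = q) (σ : F ≃+* F) (hσ : ∀ a : F, σ a = a ^ q) (φ : MulAut (Cfsg.PSU n F q)) (hφ : Cfsg.IsFieldAutPSUOf σ φ) :
    Nonempty (↥(Cfsg.inndiagPSU n F q ⊓ Subgroup.centralizer {φ}) ≃* Cfsg.PGO F₀ (Cfsg.quadFormPlus m F₀)) := by
  open Cfsg.Agent.Lib.Helper8.UGr Cfsg.Agent.Lib.H7AutPSU in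
  have hn : 3 ≤ n := by omega
  have hs : ¬ (n = 3 ∧ q = 2) := by omega
  obtain ⟨τ, ι, hτ, hfix⟩ := exists_setup hF hF₀
  have hστ : σ = τ := RingEquiv.ext (fun t => by rw [hσ, hτ])
  subst hστ
  have hφ' : φ = DhU (1 : ↥(Cfsg.GU n F q)) * PhU σ := by
    rw [map_one, one_mul]
    exact (fieldU_iff σ φ).1 hφ
  subst hφ'
  obtain ⟨e1⟩ := cent_transfer hF hn hs σ hσ ι hfix (rel_one (n := n) (q := q) ι σ)
  have hodd₀ : Odd (Fintype.card F₀) := by rw [hF₀]; exact hodd
  obtain ⟨e2⟩ := cent_Gamma_plus hodd₀ hm hnm h4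
  exact ⟨e1.trans e2⟩

end Cfsg.Agent.S2710
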