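import Cfsg.Statements.S2712
import Cfsg.Agent.S2713
import Cfsg.Agent.Lib.Helper7.AutPSp.FieldPGSp

set_option autoImplicit false
open Cfsg

namespace Cfsg.Agent.S2712

open Cfsg.Agent.Lib.H7AutPSp Cfsg.Agent.Lib.H7AutPSL

/-- Let T = PSp_{2m}(F) be simple over the field F with p^f elements (m ≥ 2, (2m, |F|) ≠ (4, 2)), G = Inndiag(T) the image of the projective conformal symplectic group PGSp_{2m}(F), and x a field automorphism of T of prime order r. Then r divides f; C_G(x) is isomorphic to PGSp_{2m}(F₀) for a field F₀ with p^(f/r) elements; and the G-class of x is the union of exactly gcd(gcd(2, p^f − 1), r) T-classes. -/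
theorem result {F : Type*} [Field F] [Fintype F] {p f : ℕ} [Fact p.Prime] (hF : Fintype.card F = p ^ f) (hf : 1 ≤ f) {m : ℕ} (hm : 2 ≤ m) (hs : m = 2 → 3 ≤ Fintype.card F) (x : MulAut (Cfsg.PSp m F)) (hx : Cfsg.IsFieldAutClassPSp x) {r : ℕ} (hr : r.Prime) (hxr : orderOf x = r) (F₀ : Type*) [Field F₀] [Fintype F₀] (hF₀ : Fintype.card F₀ = p ^ (f / r)) :
    r ∣ f ∧ Nonempty (↥(Cfsg.inndiagPSp m F ⊓ Subgroup.centralizer {x}) ≃* Cfsg.PGSp m F₀) ∧ Cfsg.splitClassCount (Cfsg.inndiagPSp m F) (Cfsg.Inn (Cfsg.PSp m F)) x = Nat.gcd (Nat.gcd 2 (p ^ f - 1)) r := by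
  have hm1 : 1 ≤ m := by omega
  have hD := Cfsg.Agent.S2713.inndiag_normal (F := F) hm
  obtain ⟨α, σ, hσ1, hα⟩ := field_data_sp x hx
  have := Fact.mk hr
  have hPr : (PhSp σ : MulAut (PSpm m F)) ^ r = 1 := by
    rw [← hα, ← MulAut.conj_apply, ← map_pow, ← hxr, pow_orderOf_eq_one, map_one]
  have hσ : σ ^ r = 1 := by
    apply PhSp_inj hm1
    rw [map_pow, hPr]
    exact one_mem _
  have hσr : orderOf σ = r := orderOf_eq_prime hσ hσ1
  have hinj : ∀ i j, i < r → j < r → σ ^ i = σ ^ j → i = j := by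
    intro i j hi hj hij
    rw [← hσr] at hi hj
    exact pow_injOn_Iio_orderOf (Set.mem_Iio.2 hi) (Set.mem_Iio.2 hj) hij
  obtain ⟨hrf, ι, hι⟩ := exists_fixed_embedding p f hF σ r hr.pos hσr F₀ hF₀
  rw [inndiagPSp_eq]
  refine ⟨hrf, ?_, ?_⟩
  · obtain ⟨e⟩ := nonempty_cent_field_equiv_sp hm1 σ r hr.pos hσ hinj ι hι
    exact ⟨((centralizerConjEquiv _ α x).trans
      (MulEquiv.subgroupCongr (by rw [hα]))).trans e⟩
  · rw [← splitClassCount_conj _ (Cfsg.Inn (PSpm m F)) inn_le_DhSp_range α x, hα,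
      splitClassCount_field_sp hm1 σ r hr.pos hσ hinj (p ^ (f / r))
        (by rw [card_ker_langHom σ ι hι, hF₀]), hF]
    exact count_arith p f r Fact.out hr.pos hrf hf

end Cfsg.Agent.S2712
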