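import Cfsg.Statements.S2725
import Cfsg.Agent.Lib.Helper5.OrthAut.InndiagPlus
import Cfsg.Agent.Lib.Helper5.Orth.PlusMinusForm
import Cfsg.Agent.Lib.Helper5.Orth.OmegaOrder

set_option autoImplicit false
open Cfsg

namespace Cfsg.Agent.S2725

/-- Let T = PΩ⁺_{2m}(F) with m ≥ 4 and |F| = q odd. The inner-diagonal group G = Inndiag(T) (image of the class-preserving similarities) taken modulo the inner automorphism group T is cyclic of order 2 when m is odd and q ≡ 3 (mod 4), cyclic of order 4 when m is odd and q ≡ 1 (mod 4), and elementary abelian of order 4 when m is even. -/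
theorem result {F : Type*} [Field F] [Fintype F] (hodd : Odd (Fintype.card F)) {m : ℕ} (hm : 4 ≤ m) :
    ((Odd m ∧ Fintype.card F % 4 = 3) → (∃ φ : ↥(Cfsg.inndiagPOmegaPlus m F) →* Multiplicative (ZMod 2), Function.Surjective φ ∧ φ.ker = (Cfsg.Inn (Cfsg.POmega F (Cfsg.quadFormPlus m F))).subgroupOf (Cfsg.inndiagPOmegaPlus m F))) ∧ ((Odd m ∧ Fintype.card F % 4 = 1) → (∃ φ : ↥(Cfsg.inndiagPOmegaPlus m F) →* Multiplicative (ZMod 4), Function.Surjective φ ∧ φ.ker = (Cfsg.Inn (Cfsg.POmega F (Cfsg.quadFormPlus m F))).subgroupOf (Cfsg.inndiagPOmegaPlus m F))) ∧ (Even m → (∃ φ : ↥(Cfsg.inndiagPOmegaPlus m F) →* Multiplicative (ZMod 2 × ZMod 2), Function.Surjective φ ∧ φ.ker = (Cfsg.Inn (Cfsg.POmega F (Cfsg.quadFormPlus m F))).subgroupOf (Cfsg.inndiagPOmegaPlus m F))) := by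
  classical
  have h2 := Cfsg.Agent.Lib.Helper5.OrthSN.two_ne_zero_of_odd_card hodd
  have hQ := Cfsg.Agent.Lib.Helper5.OrthPM.quadFormPlus_nondeg (F := F) m
  have hcard := Cfsg.Agent.Lib.Helper5.OrthCls.card_sum_fin m
  have : Nonempty (Fin m ⊕ Fin m) := ⟨Sum.inl ⟨0, by omega⟩⟩
  have hn : 7 ≤ Fintype.card (Fin m ⊕ Fin m) := by rw [hcard]; omega
  have hgen := Cfsg.Agent.H9.Orth.iso_le_RR hQ
    (Or.inl (Cfsg.Agent.Lib.Helper5.OrthSN.card_ne_two_of_odd_card hodd))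
  have hiff := Cfsg.Agent.Lib.Helper5.OrthSN.plus_diag_iff (F := F) m hodd m le_rfl
  rw [Cfsg.Agent.Lib.Helper5.OrthSN.diagonal_dP_self] at hiff
  have hpow := Cfsg.Agent.Lib.Helper5.OrthSN.pow_mod_four_eq_one (Fintype.card F) m hodd
  have hchar : ringChar F ≠ 2 := by
    intro h
    have : CharP F 2 := by rw [← h]; exact ringChar.charP F
    exact h2 (by exact_mod_cast CharP.cast_eq_zero F 2)
  obtain ⟨ν, hν⟩ := FiniteField.exists_nonsquare hchar
  have hν0 : ν ≠ 0 := by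
    rintro rfl
    exact hν ⟨0, by ring⟩
  have hd := Cfsg.Agent.Lib.Helper5.OrthCls.dPlus_sim m ν hν0
  have hdet := Cfsg.Agent.Lib.Helper5.OrthCls.det_dPlus m ν hν0
  have hmemiff : ∀ hce0 : ν ≠ 0,
      (Cfsg.Agent.Lib.Helper5.OrthAut.scalarGL ν⁻¹ (inv_ne_zero hce0) *
        (Cfsg.Agent.Lib.Helper5.OrthCls.dPlus m ν hν0 *
          Cfsg.Agent.Lib.Helper5.OrthCls.dPlus m ν hν0) ∈
        Cfsg.Geo.omegaGL (Cfsg.quadFormPlus m F)) ↔ IsSquare (ν ^ m) := by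
    intro hce0
    rw [Cfsg.Agent.Lib.Helper5.OrthCls.scalar_mul_dPlus_sq m ν hν0]
    have h3 := Cfsg.Agent.Lib.Helper5.OrthSN.plusHom_mem_omega_iff (F := F) (m := m)
      (Or.inl (Cfsg.Agent.Lib.Helper5.OrthSN.card_ne_two_of_odd_card hodd))
      (Cfsg.Agent.Lib.Helper5.OrthAut.scalarGL ν hν0)
    rw [Cfsg.Agent.Lib.Helper5.OrthAut.det_scalarGL, Fintype.card_fin] at h3
    rw [← h3]
    constructor
    · rintro ⟨y, hy, hyv⟩
      have : y = Cfsg.Agent.Lib.Helper5.OrthSN.plusHom F m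
          (Cfsg.Agent.Lib.Helper5.OrthAut.scalarGL ν hν0) := Subtype.ext hyv
      rw [← this]
      exact hy
    · intro h
      exact ⟨_, h, rfl⟩
  have key : ∀ P : Subgroup (MulAut (Cfsg.POmega F (Cfsg.quadFormPlus m F))),
      P = Cfsg.Agent.Lib.Helper5.OrthAut.inndiagGen hQ h2 m hcard →
      ((Odd m ∧ Fintype.card F % 4 = 3) → (∃ φ : ↥P →* Multiplicative (ZMod 2), Function.Surjective φ ∧ φ.ker = (Cfsg.Inn (Cfsg.POmega F (Cfsg.quadFormPlus m F))).subgroupOf P)) ∧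
      ((Odd m ∧ Fintype.card F % 4 = 1) → (∃ φ : ↥P →* Multiplicative (ZMod 4), Function.Surjective φ ∧ φ.ker = (Cfsg.Inn (Cfsg.POmega F (Cfsg.quadFormPlus m F))).subgroupOf P)) ∧
      (Even m → (∃ φ : ↥P →* Multiplicative (ZMod 2 × ZMod 2), Function.Surjective φ ∧ φ.ker = (Cfsg.Inn (Cfsg.POmega F (Cfsg.quadFormPlus m F))).subgroupOf P)) := by
    rintro P rfl
    refine ⟨?_, ?_, ?_⟩
    · rintro ⟨hm1, hq3⟩
      apply Cfsg.Agent.Lib.Helper5.OrthAut.inndiagGen_mod_inn_two hQ hn h2 hgen m hcard _ ν hν hd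
      intro hex
      have h1 := hpow.1 (hiff.1 hex)
      rcases h1 with h1 | h1
      · exact (Nat.not_even_iff_odd.2 hm1) h1
      · omega
    · rintro ⟨hm1, hq1⟩
      have hmod : Fintype.card F ^ m % 4 = 1 := by
        rw [hpow]
        exact Or.inr hq1
      obtain ⟨g₀, hg₀, hval⟩ := hiff.2 hmod
      apply Cfsg.Agent.Lib.Helper5.OrthAut.inndiagGen_mod_inn_cyclic hQ hn h2 hgen m hcard
        g₀ hg₀ hval _ ν hν hd hdet
      intro hce0 hmem
      rw [hmemiff hce0] at hmem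
      obtain ⟨k, rfl⟩ := hm1
      have h5 : ν ^ (2 * k + 1) = ν * (ν ^ k * ν ^ k) := by ring
      rw [h5, Cfsg.Agent.Lib.Helper5.OrthSN.isSquare_mul_iff hν0
        (mul_ne_zero (pow_ne_zero _ hν0) (pow_ne_zero _ hν0))] at hmem
      exact hν (hmem.2 ⟨ν ^ k, rfl⟩)
    · intro hme
      have hmod : Fintype.card F ^ m % 4 = 1 := by
        rw [hpow]
        exact Or.inl hme
      obtain ⟨g₀, hg₀, hval⟩ := hiff.2 hmod
      apply Cfsg.Agent.Lib.Helper5.OrthAut.inndiagGen_mod_inn_klein hQ hn h2 hgen m hcard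
        g₀ hg₀ hval _ ν hν hd hdet
      intro hce0
      rw [hmemiff hce0]
      obtain ⟨k, rfl⟩ := hme
      exact ⟨ν ^ k, by ring⟩
  exact key _ (Cfsg.Agent.Lib.Helper5.OrthCls.inndiagPlus_eq m hodd)

end Cfsg.Agent.S2725
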