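import Cfsg.Statements.S2731
import Cfsg.Agent.Lib.Helper8.Bal.ClassO

set_option autoImplicit false
open Cfsg

namespace Cfsg.Agent.S2731

/-- A criterion for the failure of local balance in almost simple groups whose socle is an odd-dimensional orthogonal group Ω_{2m+1}(F) (m ≥ 3, |F| odd; the form x₀² + Σ xᵢ yᵢ). Let F be a finite field of characteristic r and K the (simple) group in question; let A be a group of automorphisms of K containing all inner automorphisms, and x ∈ A an automorphism of prime order p ≠ r that is not inner-diagonal (not induced by a similarity of the form). Then the largest normal subgroup of C_A(x) of order prime to p is nontrivial if and only if x is a field automorphism of K (conjugate under Aut(K) to a non-identity standard field automorphism) and p does not divide the number of fixed points of x on K. -/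
theorem result {F : Type*} [Field F] [Fintype F] {r : ℕ} [Fact r.Prime] [CharP F r] (hodd : Odd (Fintype.card F)) {m : ℕ} (hm : 3 ≤ m) (hK : IsSimpleGroup (Cfsg.POmega F (Cfsg.quadFormOdd m F))) (A : Subgroup (MulAut (Cfsg.POmega F (Cfsg.quadFormOdd m F)))) (hinn : ∀ k : Cfsg.POmega F (Cfsg.quadFormOdd m F), MulAut.conj k ∈ A) {p : ℕ} [Fact p.Prime] (hpr : p ≠ r) (x : MulAut (Cfsg.POmega F (Cfsg.quadFormOdd m F))) (hxA : x ∈ A) (hord : orderOf x = p) (hnot : ¬ Cfsg.IsInnerDiagonalAutPOmegaOdd m x) :
    Cfsg.pPrimeCore p ↥(A ⊓ Subgroup.centralizer {x}) ≠ ⊥ ↔ (Cfsg.IsFieldAutClassPOmega (Cfsg.quadFormOdd m F) x ∧ Nat.Coprime p (Nat.card ↥(MonoidHom.eqLocus x.toMonoidHom (MonoidHom.id (Cfsg.POmega F (Cfsg.quadFormOdd m F)))))) := by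
  open Cfsg.Agent.Lib.Helper8.AutSp Cfsg.Agent.Lib.Helper8.Bal in
  classical
  have hp : p.Prime := Fact.out
  have h2 : (2 : F) ≠ 0 := Cfsg.Agent.Lib.Helper8.AutOm.two_ne_zero_of_odd hodd
  have hZ : Subgroup.center (Cfsg.POmega F (Cfsg.quadFormOdd m F)) = ⊥ := by
    apply Cfsg.Agent.Lib.H7AutPO.center_pomega (Cfsg.Agent.H9.Orth.isNondeg_quadFormOdd m h2)
    simp only [Fintype.card_sum, Fintype.card_unit, Fintype.card_fin]
    omega
  have hx : Cfsg.IsFieldAutClassPOmega (Cfsg.quadFormOdd m F) x :=
    isFieldClass_of_not_inndiag_O hodd hm x hord hnot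
  constructor
  · intro hne
    refine ⟨hx, ?_⟩
    by_contra hncop
    have hdiv : p ∣ Nat.card ↥(fixG x) := hp.dvd_iff_not_coprime.2 hncop
    apply hne
    rw [← coreIm_eq_bot_iff]
    apply core_trivial_class_O hodd hm x hx hord
    · exact coreIm_coprime p _
    · intro w hw
      exact (comm_of_mem_centralizer ((coreIm_le p _ hw).2)).symm
    · intro k hk w hw
      exact coreIm_conj_mem p (A ⊓ Subgroup.centralizer {x}) _
        (Subgroup.mem_inf.2 ⟨hinn k, (conj_mem_centralizer_iff hZ x k).2 hk⟩) w hw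
    · exact hdiv
  · rintro ⟨-, hcop⟩
    exact pcore_ne_bot_of_fix hZ A hinn x (fixG_ne_bot_of_class_O hodd hm x hx) hcop

end Cfsg.Agent.S2731
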