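import Cfsg.Statements.S2733
import Cfsg.Agent.Lib.Helper7.BalM.InvK

set_option autoImplicit false
open Cfsg

namespace Cfsg.Agent.S2733

/-- A criterion for the failure of local balance in almost simple groups whose socle is a minus-type orthogonal group PΩ⁻_{2m+2}(F) (m ≥ 3; the form Σ xᵢ yᵢ + z₁² + a z₁ z₂ + b z₂² with anisotropic binary part). Let F be a finite field of characteristic r and K the (simple) group in question; let A be a group of automorphisms of K containing all inner automorphisms, and x ∈ A an automorphism of prime order p ≠ r that is not inner-diagonal (not induced by a class-preserving similarity, classes read over a quadratic extension). Then the largest normal subgroup of C_A(x) of order prime to p is nontrivial if and only if x is a field automorphism of K (conjugate under Aut(K) to a non-identity standard field automorphism) and p does not divide the number of fixed points of x on K. -/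
theorem result {F : Type*} [Field F] [Fintype F] {r : ℕ} [Fact r.Prime] [CharP F r] {m : ℕ} (hm : 3 ≤ m) (a b : F) (hab : (∀ z₁ z₂ : F, z₁ ^ 2 + a * z₁ * z₂ + b * z₂ ^ 2 = 0 → z₁ = 0 ∧ z₂ = 0)) (hK : IsSimpleGroup (Cfsg.POmega F (Cfsg.quadFormMinus m F a b))) (A : Subgroup (MulAut (Cfsg.POmega F (Cfsg.quadFormMinus m F a b)))) (hinn : ∀ k : Cfsg.POmega F (Cfsg.quadFormMinus m F a b), MulAut.conj k ∈ A) {p : ℕ} [Fact p.Prime] (hpr : p ≠ r) (x : MulAut (Cfsg.POmega F (Cfsg.quadFormMinus m F a b))) (hxA : x ∈ A) (hord : orderOf x = p) (hnot : ¬ Cfsg.IsInnerDiagonalAutPOmegaMinus m a b x) :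
    Cfsg.pPrimeCore p ↥(A ⊓ Subgroup.centralizer {x}) ≠ ⊥ ↔ (Cfsg.IsFieldAutClassPOmegaMinus m x ∧ Nat.Coprime p (Nat.card ↥(MonoidHom.eqLocus x.toMonoidHom (MonoidHom.id (Cfsg.POmega F (Cfsg.quadFormMinus m F a b)))))) := by
  open Cfsg.Agent.Lib.Helper8.AutSp Cfsg.Agent.Lib.H7BalM in
  classical
  have hp : p.Prime := Fact.out
  have hZ : Subgroup.center (Cfsg.POmega F (Cfsg.quadFormMinus m F a b)) = ⊥ :=
    Cfsg.Agent.Lib.H7AutPO.center_pomega (Cfsg.Agent.Lib.H7AutPM.hQM (m := m) a b hab)
      (Cfsg.Agent.Lib.H7AutPM.hnM (m := m) hm)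
  by_cases hp2 : p = 2
  · subst hp2
    have h2 : (2 : F) ≠ 0 := by
      intro h0
      have h1 : ((2 : ℕ) : F) = 0 := by exact_mod_cast h0
      rw [CharP.cast_eq_zero_iff F r 2] at h1
      have hr : r.Prime := Fact.out
      exact hpr ((Nat.prime_dvd_prime_iff_eq hr Nat.prime_two).1 h1).symm
    have hodd : Odd (Fintype.card F) := Cfsg.Agent.Lib.H7AutPM.odd_card_of_two_ne_zero hm hab h2
    constructor
    · intro hne
      exfalso
      apply hne
      rw [← coreIm_eq_bot_iff]
      apply core_trivial_graph_M hm hodd hab x hord hnot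
      · exact coreIm_coprime 2 _
      · intro w hw
        exact (comm_of_mem_centralizer ((coreIm_le 2 _ hw).2)).symm
      · intro k hk w hw
        exact coreIm_conj_mem 2 (A ⊓ Subgroup.centralizer {x}) _
          (Subgroup.mem_inf.2 ⟨hinn k, (conj_mem_centralizer_iff hZ x k).2 hk⟩) w hw
    · rintro ⟨hx, -⟩
      exact absurd hord (order_ne_two_of_class hm x hx)
  · have hx : Cfsg.IsFieldAutClassPOmegaMinus m x :=
      isFieldClass_of_not_inndiag_M hm hab hp hp2 x hord hnot
    constructor
    · intro hne
      refine ⟨hx, ?_⟩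
      by_contra hncop
      have hdiv : p ∣ Nat.card ↥(fixG x) := hp.dvd_iff_not_coprime.2 hncop
      apply hne
      rw [← coreIm_eq_bot_iff]
      apply core_trivial_class_M hm x hx hord
      · exact coreIm_coprime p _
      · intro w hw
        exact (comm_of_mem_centralizer ((coreIm_le p _ hw).2)).symm
      · intro k hk w hw
        exact coreIm_conj_mem p (A ⊓ Subgroup.centralizer {x}) _
          (Subgroup.mem_inf.2 ⟨hinn k, (conj_mem_centralizer_iff hZ x k).2 hk⟩) w hw
      · exact hdiv
    · rintro ⟨-, hcop⟩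
      exact pcore_ne_bot_of_fix hZ A hinn x (fixG_ne_bot_of_class_M hm x hx) hcop

end Cfsg.Agent.S2733
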