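import Cfsg.Statements.S2738
import Mathlib

set_option autoImplicit false
open scoped Pointwise
open Cfsg Matrix

namespace Cfsg.Agent.S2738

theorem result (F : Type*) [Field F] [Fintype F] (hF : Fintype.card F = 4) : Nat.card ↥(Subgroup.center (Matrix.SpecialLinearGroup (Fin 3) F)) = 3 ∧ ¬ ∃ K : Subgroup (Matrix.SpecialLinearGroup (Fin 3) F), Subgroup.IsComplement' (Subgroup.center (Matrix.SpecialLinearGroup (Fin 3) F)) K := by
  classical
  -- a generator of the multiplicative group
  obtain ⟨w, hw⟩ := IsCyclic.exists_ofOrder_eq_natCard (α := Fˣ)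
  have hN : Nat.card Fˣ = 3 := by
    rw [Nat.card_eq_fintype_card, Fintype.card_units, hF]
  rw [hN] at hw
  have hw3 : (w : F) ^ 3 = 1 := by
    have := pow_orderOf_eq_one w
    rw [hw] at this
    have := congrArg Units.val this
    simpa using this
  have hw1 : (w : F) ≠ 1 := by
    intro h
    have : w = 1 := Units.ext (by simpa using h)
    rw [this, orderOf_one] at hw
    omega
  refine ⟨?_, ?_⟩
  · rw [Nat.card_congr (Matrix.SpecialLinearGroup.center_equiv_rootsOfUnity
      (n := Fin 3) (R := F)).toEquiv]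
    have hmax : max (Fintype.card (Fin 3)) 1 = 3 := by simp
    rw [hmax]
    have hprim : IsPrimitiveRoot (w : F) 3 := by
      have h1 := IsPrimitiveRoot.orderOf w
      rw [hw] at h1
      exact h1.map_of_injective (f := Units.coeHom F) Units.val_injective
    exact hprim.card_rootsOfUnity
  · rintro ⟨K, hK⟩
    -- two elements with a central non-trivial commutator
    let A : Matrix (Fin 3) (Fin 3) F := !![1, 0, 0; 0, (w : F), 0; 0, 0, (w : F) ^ 2]
    let B : Matrix (Fin 3) (Fin 3) F := !![0, 1, 0; 0, 0, 1; 1, 0, 0]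
    have hA : A.det = 1 := by
      simp only [A, Matrix.det_fin_three, Matrix.of_apply, Matrix.cons_val', Matrix.cons_val_zero,
        Matrix.cons_val_one, Matrix.cons_val_two, Matrix.cons_val_fin_one, Matrix.head_cons,
        Matrix.tail_cons]
      simp
      linear_combination hw3
    have hB : B.det = 1 := by
      simp only [B, Matrix.det_fin_three, Matrix.of_apply, Matrix.cons_val', Matrix.cons_val_zero,
        Matrix.cons_val_one, Matrix.cons_val_two, Matrix.cons_val_fin_one, Matrix.head_cons,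
        Matrix.tail_cons]
      simp
    let S : Matrix (Fin 3) (Fin 3) F := Matrix.scalar (Fin 3) (w : F)
    have hS : S.det = 1 := by
      simp only [S, Matrix.scalar_apply, Matrix.det_diagonal, Finset.prod_const, Finset.card_univ,
        Fintype.card_fin]
      exact hw3
    let a : Matrix.SpecialLinearGroup (Fin 3) F := ⟨A, hA⟩
    let b : Matrix.SpecialLinearGroup (Fin 3) F := ⟨B, hB⟩
    let s : Matrix.SpecialLinearGroup (Fin 3) F := ⟨S, hS⟩
    have hsZ : s ∈ Subgroup.center (Matrix.SpecialLinearGroup (Fin 3) F) := by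
      rw [Matrix.SpecialLinearGroup.mem_center_iff]
      exact ⟨(w : F), by simpa using hw3, rfl⟩
    have hs1 : s ≠ 1 := by
      intro h
      have h1 := congrArg (fun M : Matrix.SpecialLinearGroup (Fin 3) F =>
        (M : Matrix (Fin 3) (Fin 3) F) 0 0) h
      simp [s, S] at h1
      exact hw1 (by rw [h1]; rfl)
    have hrel : b * a = s * (a * b) := by
      apply Subtype.ext
      show B * A = S * (A * B)
      ext i j
      fin_cases i <;> fin_cases j <;>
        simp [A, B, S, Matrix.mul_apply, Fin.sum_univ_three, Matrix.scalar_apply,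
          Matrix.diagonal_apply]
      · ring
      · linear_combination -hw3
    -- decompose a and b
    rw [Subgroup.isComplement'_def] at hK
    obtain ⟨⟨z₁, k₁⟩, h1⟩ := hK.2 a
    obtain ⟨⟨z₂, k₂⟩, h2⟩ := hK.2 b
    simp only at h1 h2
    have hz₁ := Subgroup.mem_center_iff.1 z₁.2
    have hz₂ := Subgroup.mem_center_iff.1 z₂.2
    have hsc := Subgroup.mem_center_iff.1 hsZ
    have hsK : s ∈ K := by
      have e : s = (k₂ : Matrix.SpecialLinearGroup (Fin 3) F) * k₁ * ((k₁ : Matrix.SpecialLinearGroup (Fin 3) F) * k₂)⁻¹ := by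
        rw [← h1, ← h2] at hrel
        -- z₂ k₂ z₁ k₁ = s z₁ k₁ z₂ k₂
        have e1 : (z₂ : Matrix.SpecialLinearGroup (Fin 3) F) * k₂ * (z₁ * k₁) =
            (z₁ : Matrix.SpecialLinearGroup (Fin 3) F) * z₂ * (k₂ * k₁) := by
          calc (z₂ : Matrix.SpecialLinearGroup (Fin 3) F) * k₂ * (z₁ * k₁)
              = z₂ * (k₂ * z₁) * k₁ := by group
            _ = z₂ * (z₁ * k₂) * k₁ := by rw [hz₁ k₂]
            _ = (z₂ * z₁) * (k₂ * k₁) := by group
            _ = z₁ * z₂ * (k₂ * k₁) := by rw [hz₂ z₁]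
        have e2 : s * ((z₁ : Matrix.SpecialLinearGroup (Fin 3) F) * k₁ * (z₂ * k₂)) =
            (z₁ : Matrix.SpecialLinearGroup (Fin 3) F) * z₂ * (s * (k₁ * k₂)) := by
          calc s * ((z₁ : Matrix.SpecialLinearGroup (Fin 3) F) * k₁ * (z₂ * k₂))
              = s * (z₁ * (k₁ * z₂) * k₂) := by group
            _ = s * (z₁ * (z₂ * k₁) * k₂) := by rw [hz₂ k₁]
            _ = (s * (z₁ * z₂)) * (k₁ * k₂) := by group
            _ = ((z₁ * z₂) * s) * (k₁ * k₂) := by rw [hsc (z₁ * z₂)]
            _ = z₁ * z₂ * (s * (k₁ * k₂)) := by group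
        rw [e1, e2] at hrel
        have e3 := mul_left_cancel hrel
        rw [e3]; group
      rw [e]
      exact K.mul_mem (K.mul_mem k₂.2 k₁.2) (K.inv_mem (K.mul_mem k₁.2 k₂.2))
    have hdisj := Subgroup.IsComplement'.disjoint (Subgroup.isComplement'_def.2 hK)
    have := Subgroup.disjoint_def.1 hdisj hsZ hsK
    exact hs1 this

end Cfsg.Agent.S2738
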