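import Cfsg.Statements.S2739
import Cfsg.Agent.S0819
import Cfsg.Agent.H9.SemisimpleConj

set_option autoImplicit false
open scoped Pointwise
open Cfsg

namespace Cfsg.Agent.S2739

open Polynomial Matrix

section Gen

variable {F : Type*} [Field F]

/-- roots of the characteristic polynomial of a matrix with `G^3 = μ` are cube roots of `μ` -/
theorem root_cube {n : Type*} [Fintype n] [DecidableEq n] (G : Matrix n n F) (μ : F)
    (hG : G ^ 3 = μ • (1 : Matrix n n F)) (a : F) (ha : G.charpoly.IsRoot a) : a ^ 3 = μ := by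
  rw [IsRoot, Matrix.eval_charpoly] at ha
  obtain ⟨v, hv0, hv⟩ := Matrix.exists_mulVec_eq_zero_iff.2 ha
  have h1 : G *ᵥ v = a • v := by
    rw [Matrix.sub_mulVec] at hv
    have := sub_eq_zero.1 hv
    rw [← this]
    simp
  have h3 : (G ^ 3) *ᵥ v = a ^ 3 • v := by
    rw [pow_succ, pow_two, ← Matrix.mulVec_mulVec, ← Matrix.mulVec_mulVec, h1, Matrix.mulVec_smul,
      h1, Matrix.mulVec_smul, Matrix.mulVec_smul, h1, smul_smul, smul_smul]
    congr 1
    ring
  rw [hG, Matrix.smul_mulVec, Matrix.one_mulVec] at h3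
  have : (a ^ 3 - μ) • v = 0 := by rw [sub_smul, ← h3, sub_self]
  rcases smul_eq_zero.1 this with h | h
  · exact sub_eq_zero.1 h
  · exact absurd h hv0

/-- an irreducible polynomial dividing `X^q - X` over the field with `q` elements is linear -/
theorem degree_eq_one_of_dvd [Fintype F] {q : F[X]} (hq : Irreducible q)
    (h : q ∣ X ^ Fintype.card F - X) : q.natDegree = 1 := by
  have hne : (X ^ Fintype.card F - X : F[X]) ≠ 0 :=
    FiniteField.X_pow_card_sub_X_ne_zero F Fintype.one_lt_card
  have hs : (X ^ Fintype.card F - X : F[X]).Splits := by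
    rw [splits_iff_card_roots, FiniteField.roots_X_pow_card_sub_X,
      FiniteField.X_pow_card_sub_X_natDegree_eq F Fintype.one_lt_card]
    rfl
  have := (hs.of_dvd hne h).degree_eq_one_of_irreducible hq
  exact natDegree_eq_of_degree_eq_some this

/-- an irreducible characteristic polynomial divides every annihilating polynomial -/
theorem charpoly_dvd_of_irreducible {n : Type*} [Fintype n] [DecidableEq n] [Nonempty n]
    (G : Matrix n n F)
    (hirr : Irreducible G.charpoly) (p : F[X]) (hp : aeval G p = 0) : G.charpoly ∣ p := by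
  have hmin : minpoly F G ∣ p := minpoly.dvd F G hp
  obtain ⟨r, hr⟩ := Matrix.minpoly_dvd_charpoly G
  rcases hirr.isUnit_or_isUnit hr with h | h
  · exact absurd h (minpoly.not_isUnit F G)
  · have : G.charpoly ∣ minpoly F G := by
      rw [hr]
      exact (IsUnit.mul_right_dvd h).2 dvd_rfl
    exact this.trans hmin

end Gen

section Four

variable {F : Type*} [Field F] [Fintype F]

theorem natDegree_of_dvd_cube (hF : Fintype.card F = 4) {q : F[X]} (hq : Irreducible q)
    (h : q ∣ X ^ 3 - 1) : q.natDegree = 1 := by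
  apply degree_eq_one_of_dvd hq
  rw [hF]
  have : (X ^ 4 - X : F[X]) = (X ^ 3 - 1) * X := by ring
  rw [this]
  exact h.mul_right _

theorem coeff_zero_charpoly (hF : Fintype.card F = 4) (G : Matrix (Fin 3) (Fin 3) F)
    (hdet : G.det = 1) : G.charpoly.coeff 0 = 1 := by
  have h2 := Cfsg.Agent.S0819.two_eq_zero hF
  have h := Matrix.det_eq_sign_charpoly_coeff G
  rw [hdet, Fintype.card_fin] at h
  linear_combination (-1 : F) * h + G.charpoly.coeff 0 * h2

theorem poly_two (hF : Fintype.card F = 4) : (2 : F[X]) = 0 := by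
  have h : (2 : F[X]) = C (2 : F) := (map_ofNat C 2).symm
  rw [h, Cfsg.Agent.S0819.two_eq_zero hF, map_zero]

/-- a matrix of determinant one whose cube is a scalar has cube one -/
theorem scalar_eq_one (hF : Fintype.card F = 4) (G : Matrix (Fin 3) (Fin 3) F)
    (hdet : G.det = 1) (μ : F) (hG : G ^ 3 = μ • (1 : Matrix (Fin 3) (Fin 3) F)) : μ = 1 := by
  by_contra hμ
  have h2 := Cfsg.Agent.S0819.two_eq_zero hF
  set χ := G.charpoly with hχ
  have hmon : χ.Monic := G.charpoly_monic
  have hdeg : χ.natDegree = 3 := by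
    rw [hχ, Matrix.charpoly_natDegree_eq_dim]
    simp
  have hμ0 : μ ≠ 0 := by
    rintro rfl
    have := congrArg Matrix.det hG
    rw [Matrix.det_pow, hdet, zero_smul, Matrix.det_zero, one_pow] at this
    exact one_ne_zero this
  have hnoroot : χ.roots = 0 := by
    rw [Multiset.eq_zero_iff_forall_notMem]
    intro a ha
    have hr : χ.IsRoot a := (mem_roots hmon.ne_zero).1 ha
    have h3 := root_cube G μ hG a hr
    have ha0 : a ≠ 0 := by
      rintro rfl
      rw [zero_pow (by norm_num)] at h3
      exact hμ0 h3.symm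
    rw [Cfsg.Agent.S0819.cube_eq_one hF a ha0] at h3
    exact hμ h3.symm
  have hirr : Irreducible χ :=
    (irreducible_iff_roots_eq_zero_of_degree_le_three (by omega) (by omega)).2 hnoroot
  have hdvd : χ ∣ X ^ 3 - C μ := by
    apply charpoly_dvd_of_irreducible G hirr
    rw [map_sub, map_pow, aeval_X, aeval_C, hG, Algebra.algebraMap_eq_smul_one, sub_self]
  have heq : X ^ 3 - C μ = χ :=
    eq_of_monic_of_dvd_of_natDegree_le hmon (monic_X_pow_sub_C μ (by norm_num)) hdvd
      (by rw [natDegree_X_pow_sub_C, hdeg])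
  have hc0 : χ.coeff 0 = 1 := coeff_zero_charpoly hF G hdet
  rw [← heq] at hc0
  simp at hc0
  apply hμ
  linear_combination (-1 : F) * hc0 - h2

/-- the characteristic polynomial of a non-scalar element of order three -/
theorem charpoly_eq (hF : Fintype.card F = 4) (G : Matrix (Fin 3) (Fin 3) F)
    (hdet : G.det = 1) (hG : G ^ 3 = 1) (hns : ∀ c : F, G ≠ c • (1 : Matrix (Fin 3) (Fin 3) F)) :
    G.charpoly = X ^ 3 - 1 := by
  have h2 := Cfsg.Agent.S0819.two_eq_zero hF
  set χ := G.charpoly with hχ
  have hmon : χ.Monic := G.charpoly_monic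
  have hdeg : χ.natDegree = 3 := by
    rw [hχ, Matrix.charpoly_natDegree_eq_dim]
    simp
  have hc0 : χ.coeff 0 = 1 := coeff_zero_charpoly hF G hdet
  have hG' : G ^ 3 = (1 : F) • (1 : Matrix (Fin 3) (Fin 3) F) := by
    rw [one_smul]
    exact hG
  have hcube : ∀ a, χ.IsRoot a → a ^ 3 = 1 := fun a ha => root_cube G 1 hG' a ha
  have hnz : ∀ a, χ.IsRoot a → a ≠ 0 := by
    rintro a ha rfl
    have := hcube 0 ha
    rw [zero_pow (by norm_num)] at this
    exact zero_ne_one this
  have hX3 : aeval G (X ^ 3 - 1 : F[X]) = 0 := by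
    rw [map_sub, map_pow, aeval_X, hG, map_one, sub_self]
  have hmon3 : (X ^ 3 - 1 : F[X]).Monic := by
    have := monic_X_pow_sub_C (1 : F) (n := 3) (by norm_num)
    rwa [map_one] at this
  have hdeg3 : (X ^ 3 - 1 : F[X]).natDegree = 3 := by
    have := natDegree_X_pow_sub_C (R := F) (n := 3) (r := 1)
    rwa [map_one] at this
  by_cases hirr : Irreducible χ
  · have hdvd := charpoly_dvd_of_irreducible G hirr _ hX3
    exact (eq_of_monic_of_dvd_of_natDegree_le hmon hmon3 hdvd (by rw [hdeg3, hdeg])).symm
  · rw [irreducible_iff_roots_eq_zero_of_degree_le_three (by omega) (by omega)] at hirr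
    obtain ⟨a, ha⟩ := Multiset.exists_mem_of_ne_zero hirr
    have hroot : χ.IsRoot a := (mem_roots hmon.ne_zero).1 ha
    have ha0 : a ≠ 0 := hnz a hroot
    have ha3 := hcube a hroot
    set q := χ /ₘ (X - C a) with hq
    have hχq : (X - C a) * q = χ := mul_divByMonic_eq_iff_isRoot.2 hroot
    have hqmon : q.Monic := (monic_X_sub_C a).of_mul_monic_left (hχq ▸ hmon)
    have hqdeg : q.natDegree = 2 := by
      have := congrArg natDegree hχq
      rw [(monic_X_sub_C a).natDegree_mul hqmon, natDegree_X_sub_C, hdeg] at this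
      omega
    by_cases hqirr : Irreducible q
    · exfalso
      have hnd : ¬ q ∣ X ^ 3 - 1 := fun h => by
        have := natDegree_of_dvd_cube hF hqirr h
        omega
      have hcop : IsCoprime q (X ^ 3 - 1) := (hqirr.coprime_iff_not_dvd).2 hnd
      obtain ⟨u, v, huv⟩ := hcop
      have h1 := congrArg (aeval G) huv
      rw [map_add, map_mul, map_mul, hX3, mul_zero, add_zero, map_one] at h1
      have h0 : aeval G χ = 0 := Matrix.aeval_self_charpoly G
      rw [← hχq, map_mul] at h0
      have hcomm : aeval G q * aeval G u = 1 := by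
        rw [← map_mul, mul_comm, map_mul]
        exact h1
      have hz : aeval G (X - C a) = 0 := by
        calc aeval G (X - C a) = aeval G (X - C a) * (aeval G q * aeval G u) := by
              rw [hcomm, mul_one]
          _ = 0 := by rw [← mul_assoc, h0, zero_mul]
      apply hns a
      rw [map_sub, aeval_X, aeval_C, Algebra.algebraMap_eq_smul_one] at hz
      exact sub_eq_zero.1 hz
    · rw [irreducible_iff_roots_eq_zero_of_degree_le_three (by omega) (by omega)] at hqirr
      obtain ⟨b, hb⟩ := Multiset.exists_mem_of_ne_zero hqirr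
      have hrootq : q.IsRoot b := (mem_roots hqmon.ne_zero).1 hb
      set r := q /ₘ (X - C b) with hr
      have hqr : (X - C b) * r = q := mul_divByMonic_eq_iff_isRoot.2 hrootq
      have hrmon : r.Monic := (monic_X_sub_C b).of_mul_monic_left (hqr ▸ hqmon)
      have hrdeg : r.natDegree = 1 := by
        have := congrArg natDegree hqr
        rw [(monic_X_sub_C b).natDegree_mul hrmon, natDegree_X_sub_C, hqdeg] at this
        omega
      have hr' : r = X - C (-r.coeff 0) := by
        rw [map_neg, sub_neg_eq_add]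
        exact hrmon.eq_X_add_C hrdeg
      set c := -r.coeff 0 with hc
      have hbχ : χ.IsRoot b := by
        rw [← hχq, IsRoot, eval_mul, hrootq, mul_zero]
      have hcχ : χ.IsRoot c := by
        rw [← hχq, ← hqr, hr']
        simp [IsRoot]
      have hb0 := hnz b hbχ
      have hc0' := hnz c hcχ
      have hb3 := hcube b hbχ
      have hc3 := hcube c hcχ
      have hfac : χ = (X - C a) * ((X - C b) * (X - C c)) := by
        rw [← hχq, ← hqr, ← hr']
      have habc : a * b * c = 1 := by
        have h := congrArg (eval 0) hfac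
        rw [← coeff_zero_eq_eval_zero, hc0] at h
        simp only [eval_mul, eval_sub, eval_X, eval_C] at h
        linear_combination h - h2
      have hp2 := poly_two hF
      by_cases hall : a = b ∧ b = c
      · exfalso
        obtain ⟨hab, hbc⟩ := hall
        rw [← hbc, ← hab] at hfac
        have h4 : χ ∣ X ^ 4 - C (a ^ 4) := by
          have e : (X ^ 4 - C (a ^ 4) : F[X]) = (X - C a) * ((X - C a) * (X - C a)) * (X - C a) := by
            rw [map_pow]
            linear_combination (2 * X ^ 3 * C a - 3 * X ^ 2 * (C a) ^ 2 + 2 * X * (C a) ^ 3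
              - (C a) ^ 4) * hp2
          rw [e, hfac]
          exact Dvd.intro _ rfl
        have hG4 := Cfsg.Agent.S0819.pow_eq_of_charpoly_dvd G 4 _ h4
        apply hns (a ^ 4)
        rw [← hG4, pow_succ, hG, one_mul]
      · have hab : a ≠ b := by
          intro h
          apply hall
          refine ⟨h, ?_⟩
          have h1 : b * b * c = b * b * b := by
            have : b * b * c = a * b * c := by rw [h]
            rw [this, habc, ← hb3]
            ring
          exact (mul_left_cancel₀ (mul_ne_zero hb0 hb0) h1).symm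
        have hbc : b ≠ c := by
          intro h
          apply hall
          have h1 : a * (b * b) = b * (b * b) := by
            have : a * (b * b) = a * b * c := by
              rw [← h]
              ring
            rw [this, habc, ← hb3]
            ring
          exact ⟨mul_right_cancel₀ (mul_ne_zero hb0 hb0) h1, h⟩
        have hac : a ≠ c := by
          intro h
          apply hall
          have h1 : a * a * b = a * a * a := by
            have : a * a * b = a * b * c := by
              rw [← h]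
              ring
            rw [this, habc, ← ha3]
            ring
          have hba : b = a := mul_left_cancel₀ (mul_ne_zero ha0 ha0) h1
          exact ⟨hba.symm, by rw [hba]; exact h⟩
        have e1 : a ^ 2 + a * b + b ^ 2 = 0 := by
          have : (a - b) * (a ^ 2 + a * b + b ^ 2) = 0 := by
            linear_combination ha3 - hb3
          exact (mul_eq_zero.1 this).resolve_left (sub_ne_zero.2 hab)
        have e2 : b ^ 2 + b * c + c ^ 2 = 0 := by
          have : (b - c) * (b ^ 2 + b * c + c ^ 2) = 0 := by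
            linear_combination hb3 - hc3
          exact (mul_eq_zero.1 this).resolve_left (sub_ne_zero.2 hbc)
        have e3 : a ^ 2 + a * c + c ^ 2 = 0 := by
          have : (a - c) * (a ^ 2 + a * c + c ^ 2) = 0 := by
            linear_combination ha3 - hc3
          exact (mul_eq_zero.1 this).resolve_left (sub_ne_zero.2 hac)
        have s1 : a + b + c = 0 := by
          have : (a - c) * (a + b + c) = 0 := by
            linear_combination e1 - e2
          exact (mul_eq_zero.1 this).resolve_left (sub_ne_zero.2 hac)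
        have s2 : a * b + b * c + a * c = 0 := by
          linear_combination e1 + e2 + e3 - (a ^ 2 + b ^ 2 + c ^ 2) * h2
        rw [hfac]
        have e : (X - C a) * ((X - C b) * (X - C c)) =
            X ^ 3 - C (a + b + c) * X ^ 2 + C (a * b + b * c + a * c) * X - C (a * b * c) := by
          simp only [map_add, map_mul]
          ring
        rw [e, s1, s2, habc]
        simp

/-- the permutation matrix of a 3-cycle -/
def Cm : Matrix (Fin 3) (Fin 3) F := !![0, 0, 1; 1, 0, 0; 0, 1, 0]

theorem Cm_det : (Cm : Matrix (Fin 3) (Fin 3) F).det = 1 := by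
  simp [Cm, Matrix.det_fin_three]

theorem Cm_pow : (Cm : Matrix (Fin 3) (Fin 3) F) ^ 3 = 1 := by
  ext i j
  fin_cases i <;> fin_cases j <;>
    simp [Cm, pow_succ, Matrix.mul_apply, Fin.sum_univ_three]

theorem Cm_not_scalar (c : F) : (Cm : Matrix (Fin 3) (Fin 3) F) ≠ c • 1 := by
  intro h
  have := congrFun (congrFun h 0) 2
  simp [Cm] at this

/-- elements of any nonzero determinant commuting with `Cm` -/
theorem exists_commute_det (hF : Fintype.card F = 4) (δ : F) (hδ : δ ≠ 0) :
    ∃ c : Matrix (Fin 3) (Fin 3) F, c * Cm = Cm * c ∧ c.det = δ := by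
  have h2 := Cfsg.Agent.S0819.two_eq_zero hF
  by_cases h1 : δ = 1
  · exact ⟨1, by rw [one_mul, mul_one], by rw [Matrix.det_one, h1]⟩
  · have ht0 : δ + 1 ≠ 0 := by
      intro h
      apply h1
      linear_combination h - h2
    have ht3 := Cfsg.Agent.S0819.cube_eq_one hF (δ + 1) ht0
    refine ⟨!![δ + 1, 1, 1; 1, δ + 1, 1; 1, 1, δ + 1], ?_, ?_⟩
    · ext i j
      fin_cases i <;> fin_cases j <;>
        simp [Cm, Matrix.mul_apply, Fin.sum_univ_three]
    · rw [Matrix.det_fin_three]
      simp only [Matrix.of_apply, Matrix.cons_val', Matrix.cons_val_zero, Matrix.cons_val_one,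
        Matrix.cons_val_two, Matrix.cons_val_fin_one, Matrix.head_cons, Matrix.tail_cons,
        Matrix.head_fin_const]
      linear_combination ht3 - 2 * δ * h2

/-- a non-scalar element of `SL₃(4)` with cube one is conjugate to `Cm` -/
theorem exists_conj_Cm (hF : Fintype.card F = 4) (G : Matrix.SpecialLinearGroup (Fin 3) F)
    (hG : (G : Matrix (Fin 3) (Fin 3) F) ^ 3 = 1)
    (hns : ∀ c : F, (G : Matrix (Fin 3) (Fin 3) F) ≠ c • (1 : Matrix (Fin 3) (Fin 3) F)) :
    ∃ Q : Matrix.SpecialLinearGroup (Fin 3) F,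
      (Q : Matrix (Fin 3) (Fin 3) F) * (G : Matrix (Fin 3) (Fin 3) F) =
        Cm * (Q : Matrix (Fin 3) (Fin 3) F) := by
  have h2 := Cfsg.Agent.S0819.two_eq_zero hF
  have h3 : ((3 : ℕ) : F) ≠ 0 := by
    have : ((3 : ℕ) : F) = 1 := by
      push_cast
      linear_combination h2
    rw [this]
    exact one_ne_zero
  have hss1 := Cfsg.Agent.H9.SemisimpleConj.isSemisimple_of_pow_eq_one _ 3 h3 hG
  have hss2 := Cfsg.Agent.H9.SemisimpleConj.isSemisimple_of_pow_eq_one
    (Cm : Matrix (Fin 3) (Fin 3) F) 3 h3 Cm_pow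
  have hc : (G : Matrix (Fin 3) (Fin 3) F).charpoly = (Cm : Matrix (Fin 3) (Fin 3) F).charpoly := by
    rw [charpoly_eq hF _ G.2 hG hns, charpoly_eq hF _ Cm_det Cm_pow Cm_not_scalar]
  obtain ⟨P, hP⟩ := Cfsg.Agent.H9.SemisimpleConj.exists_gl_conj _ _ hss1 hss2 hc
  have hdetP : (P : Matrix (Fin 3) (Fin 3) F).det ≠ 0 := by
    exact ((Matrix.isUnit_iff_isUnit_det _).1 (Units.isUnit P)).ne_zero
  obtain ⟨c, hc1, hc2⟩ := exists_commute_det hF ((P : Matrix (Fin 3) (Fin 3) F).det)⁻¹
    (inv_ne_zero hdetP)
  refine ⟨⟨c * (P : Matrix (Fin 3) (Fin 3) F), by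
    rw [Matrix.det_mul, hc2, inv_mul_cancel₀ hdetP]⟩, ?_⟩
  change c * (P : Matrix (Fin 3) (Fin 3) F) * (G : Matrix (Fin 3) (Fin 3) F) = Cm * (c * (P : Matrix (Fin 3) (Fin 3) F))
  rw [Matrix.mul_assoc, hP, ← Matrix.mul_assoc, hc1, Matrix.mul_assoc]

/-- `Cm` as an element of `SL₃` -/
def CmSL : Matrix.SpecialLinearGroup (Fin 3) F := ⟨Cm, Cm_det⟩

theorem isConj_CmSL (hF : Fintype.card F = 4) (z : Matrix.ProjectiveSpecialLinearGroup (Fin 3) F)
    (hz : orderOf z = 3) :
    IsConj z (QuotientGroup.mk CmSL : Matrix.ProjectiveSpecialLinearGroup (Fin 3) F) := by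
  obtain ⟨G, rfl⟩ := QuotientGroup.mk_surjective z
  have hz3 : (QuotientGroup.mk G : Matrix.ProjectiveSpecialLinearGroup (Fin 3) F) ^ 3 = 1 := by
    have := pow_orderOf_eq_one
      (QuotientGroup.mk G : Matrix.ProjectiveSpecialLinearGroup (Fin 3) F)
    rwa [hz] at this
  rw [← QuotientGroup.mk_pow, QuotientGroup.eq_one_iff,
    Matrix.SpecialLinearGroup.mem_center_iff] at hz3
  obtain ⟨μ, -, hμ⟩ := hz3
  have hG3 : (G : Matrix (Fin 3) (Fin 3) F) ^ 3 = μ • (1 : Matrix (Fin 3) (Fin 3) F) := by
    rw [← Matrix.SpecialLinearGroup.coe_pow, ← hμ, Matrix.scalar_apply,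
      Matrix.smul_one_eq_diagonal]
  have hμ1 := scalar_eq_one hF _ G.2 μ hG3
  rw [hμ1, one_smul] at hG3
  have hns : ∀ c : F, (G : Matrix (Fin 3) (Fin 3) F) ≠ c • (1 : Matrix (Fin 3) (Fin 3) F) := by
    intro c hc
    have hc3 : c ^ 3 = 1 := by
      have h := congrArg Matrix.det hc
      rw [G.2, Matrix.det_smul, Matrix.det_one, mul_one, Fintype.card_fin] at h
      exact h.symm
    have hcen : G ∈ Subgroup.center (Matrix.SpecialLinearGroup (Fin 3) F) := by
      rw [Matrix.SpecialLinearGroup.mem_center_iff]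
      refine ⟨c, by rw [Fintype.card_fin]; exact hc3, ?_⟩
      rw [hc, Matrix.scalar_apply, Matrix.smul_one_eq_diagonal]
    have : (QuotientGroup.mk G : Matrix.ProjectiveSpecialLinearGroup (Fin 3) F) = 1 :=
      (QuotientGroup.eq_one_iff G).2 hcen
    rw [this, orderOf_one] at hz
    omega
  obtain ⟨Q, hQ⟩ := exists_conj_Cm hF G hG3 hns
  have hQ' : Q * G = CmSL * Q := by
    apply Subtype.ext
    exact hQ
  have hconj : IsConj G CmSL := by
    rw [isConj_iff]
    exact ⟨Q, by rw [hQ', mul_inv_cancel_right]⟩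
  exact (QuotientGroup.mk' _).map_isConj hconj

end Four

theorem exists_gen {H : Type*} [Group H] (K : Subgroup H) (p : ℕ) [hp : Fact p.Prime]
    (hK : Nat.card K = p) : ∃ x ∈ K, orderOf x = p ∧ K = Subgroup.zpowers x := by
  have hfin : Finite K := Nat.finite_of_card_ne_zero (by rw [hK]; exact hp.out.ne_zero)
  have hnt : Nontrivial K := by
    rw [← Finite.one_lt_card_iff_nontrivial, hK]
    exact hp.out.one_lt
  obtain ⟨k, hk⟩ := exists_ne (1 : K)
  have hdvd : orderOf k ∣ p := by
    rw [← hK]
    exact orderOf_dvd_natCard k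
  have hord : orderOf k = p := by
    rcases (Nat.dvd_prime hp.out).1 hdvd with h | h
    · exact absurd (orderOf_eq_one_iff.1 h) hk
    · exact h
  refine ⟨k.1, k.2, by rw [Subgroup.orderOf_coe, hord], ?_⟩
  symm
  apply Subgroup.eq_of_le_of_card_ge
  · rw [Subgroup.zpowers_le]
    exact k.2
  · rw [Nat.card_zpowers, Subgroup.orderOf_coe, hord, hK]

/-- In the projective special linear group PSL(3, 4) all subgroups of order 3 are conjugate. -/
theorem result (F : Type*) [Field F] [Fintype F] (hF : Fintype.card F = 4) (X Y : Subgroup (Matrix.ProjectiveSpecialLinearGroup (Fin 3) F)) (hX : Nat.card ↥X = 3) (hY : Nat.card ↥Y = 3) : ∃ g : Matrix.ProjectiveSpecialLinearGroup (Fin 3) F, MulAut.conj g • X = Y := by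
  have : Fact (Nat.Prime 3) := ⟨Nat.prime_three⟩
  obtain ⟨x, -, hx3, hXz⟩ := exists_gen X 3 hX
  obtain ⟨y, -, hy3, hYz⟩ := exists_gen Y 3 hY
  have h1 := isConj_CmSL hF x hx3
  have h2 := isConj_CmSL hF y hy3
  obtain ⟨g, hg⟩ := isConj_iff.1 (h1.trans h2.symm)
  refine ⟨g, ?_⟩
  rw [hXz, hYz]
  have : MulAut.conj g • Subgroup.zpowers x =
      (Subgroup.zpowers x).map (MulAut.conj g).toMonoidHom := rfl
  rw [this, MonoidHom.map_zpowers]
  congr 1

end Cfsg.Agent.S2739
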