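import Cfsg.Statements.S2758
import Cfsg.Agent.H1.Dihedral

set_option autoImplicit false
open Cfsg

namespace Cfsg.Agent.S2758

variable {G : Type*} [Group G]

/-- reflection sign -/
def eps (n : ℕ) : DihedralGroup n →* Multiplicative (ZMod 2) :=
  MonoidHom.mk' (fun d => match d with
    | .r _ => 1
    | .sr _ => Multiplicative.ofAdd 1) (by
    rintro (i | i) (j | j)
    · simp
    · simp
    · simp
    · simp only [DihedralGroup.sr_mul_sr]; decide)

theorem eps_r (n : ℕ) (i : ZMod n) : eps n (DihedralGroup.r i) = 1 := rfl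
theorem eps_sr (n : ℕ) (i : ZMod n) : eps n (DihedralGroup.sr i) = Multiplicative.ofAdd 1 := rfl

theorem b_to_c [Finite G] {p : ℕ} [hp : Fact p.Prime] (x : G) (P : Subgroup G)
    (hx : ∃ k : ℕ, orderOf x = 2 ^ k) (hP : IsPGroup p P)
    (hxN : x ∈ Subgroup.normalizer (P : Set G)) (hxC : x ∉ Subgroup.centralizer (P : Set G)) :
    ∃ x y : G, (∃ k : ℕ, orderOf x = 2 ^ k) ∧ (∃ k : ℕ, orderOf y = p ^ k) ∧ y ≠ 1 ∧
      x * y * x⁻¹ = y⁻¹ := by
  classical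
  obtain ⟨k, hk⟩ := hx
  have hex : ∃ j : ℕ, x ^ (2 ^ j) ∈ Subgroup.centralizer (P : Set G) :=
    ⟨k, by rw [← hk, pow_orderOf_eq_one]; exact one_mem _⟩
  have hjmem := Nat.find_spec hex
  have hj0 : Nat.find hex ≠ 0 := by
    intro h0
    rw [h0, pow_zero, pow_one] at hjmem
    exact hxC hjmem
  obtain ⟨i, hi⟩ := Nat.exists_eq_succ_of_ne_zero hj0
  have hmin : x ^ (2 ^ i) ∉ Subgroup.centralizer (P : Set G) :=
    Nat.find_min hex (by omega)
  obtain ⟨t, ht⟩ : ∃ t, t = x ^ (2 ^ i) := ⟨_, rfl⟩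
  rw [← ht] at hmin
  have htt : t * t ∈ Subgroup.centralizer (P : Set G) := by
    have : t * t = x ^ (2 ^ (Nat.find hex)) := by
      rw [ht, ← pow_add, hi, Nat.succ_eq_add_one, pow_succ]; congr 1; ring
    rw [this]; exact hjmem
  have htN : t ∈ Subgroup.normalizer (P : Set G) := by rw [ht]; exact pow_mem hxN _
  have hto : ∃ k', orderOf t = 2 ^ k' := by
    have : orderOf t ∣ 2 ^ k := by rw [← hk, ht]; exact orderOf_pow_dvd _
    obtain ⟨k', _, hk'⟩ := (Nat.dvd_prime_pow Nat.prime_two).mp this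
    exact ⟨k', hk'⟩
  have : ∃ y₀ ∈ P, ¬ (y₀ * t = t * y₀) := by
    by_contra hcon
    push_neg at hcon
    exact hmin (Subgroup.mem_centralizer_iff.mpr hcon)
  obtain ⟨y₀, hy₀P, hy₀⟩ := this
  have hty₀ : t * y₀ * t⁻¹ ∈ P := (Subgroup.mem_normalizer_iff.mp htN y₀).mp hy₀P
  refine ⟨t, y₀⁻¹ * (t * y₀ * t⁻¹), hto, ?_, ?_, ?_⟩
  · have hyP : y₀⁻¹ * (t * y₀ * t⁻¹) ∈ P := P.mul_mem (P.inv_mem hy₀P) hty₀
    obtain ⟨k', hk'⟩ := (IsPGroup.iff_orderOf.mp hP) ⟨_, hyP⟩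
    exact ⟨k', by rw [← hk', Subgroup.orderOf_mk]⟩
  · intro h
    apply hy₀
    have h2 : t * y₀ * t⁻¹ = y₀ := by
      have := congrArg (fun w => y₀ * w) h
      simpa [mul_assoc] using this
    calc y₀ * t = (t * y₀ * t⁻¹) * t := by rw [h2]
      _ = t * y₀ := by group
  · have hc : y₀ * (t * t) = (t * t) * y₀ := (Subgroup.mem_centralizer_iff.mp htt) y₀ hy₀P
    have hc2 : t * t * y₀ * t⁻¹ * t⁻¹ = y₀ := by
      rw [← hc]; group
    calc t * (y₀⁻¹ * (t * y₀ * t⁻¹)) * t⁻¹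
        = (t * y₀ * t⁻¹)⁻¹ * (t * t * y₀ * t⁻¹ * t⁻¹) := by group
      _ = (t * y₀ * t⁻¹)⁻¹ * y₀ := by rw [hc2]
      _ = (y₀⁻¹ * (t * y₀ * t⁻¹))⁻¹ := by group


theorem c_to_a' [Finite G] {p : ℕ} [hp : Fact p.Prime] (hp2 : p ≠ 2) (x y : G)
    (hx : ∃ k : ℕ, orderOf x = 2 ^ k) (hy : orderOf y = p) (hxy : x * y * x⁻¹ = y⁻¹) :
    Cfsg.Involves (DihedralGroup p) G := by
  classical
  obtain ⟨k, hk⟩ := hx
  obtain ⟨K, hK⟩ : ∃ K : Subgroup G, K = Subgroup.closure ({x, y} : Set G) := ⟨_, rfl⟩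
  obtain ⟨R, hR⟩ : ∃ R : Subgroup G, R = Subgroup.zpowers (x * x) := ⟨_, rfl⟩
  have hxK : x ∈ K := by rw [hK]; exact Subgroup.subset_closure (by simp)
  have hyK : y ∈ K := by rw [hK]; exact Subgroup.subset_closure (by simp)
  have hcx : Commute x (x * x) := (Commute.refl x).mul_right (Commute.refl x)
  have hcy : Commute y (x * x) := by
    have h1 : x * x * y * x⁻¹ * x⁻¹ = y := by
      calc x * x * y * x⁻¹ * x⁻¹ = x * (x * y * x⁻¹) * x⁻¹ := by group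
        _ = x * y⁻¹ * x⁻¹ := by rw [hxy]
        _ = (x * y * x⁻¹)⁻¹ := by group
        _ = y := by rw [hxy, inv_inv]
    show y * (x * x) = x * x * y
    calc y * (x * x) = (x * x * y * x⁻¹ * x⁻¹) * (x * x) := by rw [h1]
      _ = x * x * y := by group
  have hcK : ∀ g ∈ K, Commute g (x * x) := by
    intro g hg
    rw [hK] at hg
    induction hg using Subgroup.closure_induction with
    | mem w hw =>
      rcases hw with rfl | hw
      · exact hcx
      · rw [Set.mem_singleton_iff] at hw; subst hw; exact hcy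
    | one => exact Commute.one_left _
    | mul a b _ _ ha hb => exact ha.mul_left hb
    | inv a _ ha => exact ha.inv_left
  have hcKR : ∀ g ∈ K, ∀ r ∈ R, g * r = r * g := by
    intro g hg r hr
    rw [hR] at hr
    obtain ⟨n, rfl⟩ := Subgroup.mem_zpowers_iff.mp hr
    exact ((hcK g hg).zpow_right n)
  have hN : (R.subgroupOf K).Normal := by
    constructor
    intro n hn g
    rw [Subgroup.mem_subgroupOf] at hn ⊢
    have : ((g * n * g⁻¹ : K) : G) = (n : G) := by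
      rw [Subgroup.coe_mul, Subgroup.coe_mul, Subgroup.coe_inv, hcKR g g.2 n hn,
        mul_inv_cancel_right]
    rw [this]; exact hn
  refine ⟨K, R, hN, ?_⟩
  obtain ⟨xb, hxbdef⟩ : ∃ xb : K ⧸ R.subgroupOf K, xb = QuotientGroup.mk ⟨x, hxK⟩ := ⟨_, rfl⟩
  obtain ⟨yb, hybdef⟩ : ∃ yb : K ⧸ R.subgroupOf K, yb = QuotientGroup.mk ⟨y, hyK⟩ := ⟨_, rfl⟩
  have hxb : xb * xb = 1 := by
    rw [hxbdef, ← QuotientGroup.mk_mul, QuotientGroup.eq_one_iff, Subgroup.mem_subgroupOf, hR]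
    exact Subgroup.mem_zpowers (x * x)
  have hyp : yb ^ p = 1 := by
    rw [hybdef, ← QuotientGroup.mk_pow]
    have : (⟨y, hyK⟩ : K) ^ p = 1 := by
      apply Subtype.ext
      rw [Subgroup.coe_pow, Subgroup.coe_one]
      show y ^ p = 1
      have := pow_orderOf_eq_one y
      rwa [hy] at this
    rw [this]; rfl
  have hconj : xb * yb * xb⁻¹ = yb⁻¹ := by
    rw [hxbdef, hybdef, ← QuotientGroup.mk_inv, ← QuotientGroup.mk_mul, ← QuotientGroup.mk_mul,
      ← QuotientGroup.mk_inv]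
    congr 1
    apply Subtype.ext
    simp [hxy]
  have hyR : y ∉ R := by
    intro hn
    rw [hR] at hn
    have h1 : orderOf y ∣ 2 ^ k := by
      have h3 : orderOf y ∣ orderOf (x * x) := orderOf_dvd_of_mem_zpowers hn
      have h4 : orderOf (x * x) ∣ orderOf x := by rw [← pow_two]; exact orderOf_pow_dvd 2
      rw [← hk]; exact h3.trans h4
    rw [hy] at h1
    have := (Nat.prime_dvd_prime_iff_eq hp.out Nat.prime_two).mp (hp.out.dvd_of_dvd_pow h1)
    exact hp2 this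
  have hyb1 : yb ≠ 1 := by
    intro h
    rw [hybdef, QuotientGroup.eq_one_iff, Subgroup.mem_subgroupOf] at h
    exact hyR h
  have hyo : orderOf yb = p := orderOf_eq_prime hyp hyb1
  have hp2dvd : ¬ p ∣ 2 := fun h => hp2 ((Nat.prime_dvd_prime_iff_eq hp.out Nat.prime_two).mp h)
  obtain ⟨ψ, hψ⟩ : ∃ ψ : DihedralGroup p →* K ⧸ R.subgroupOf K,
      ψ = Cfsg.Agent.H1.dihedralHom yb p hyp xb hxb hconj := ⟨_, rfl⟩
  have hsurj : Function.Surjective ψ := by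
    have htop' : (⊤ : Subgroup K) = Subgroup.closure (((↑) : K → G) ⁻¹' ({x, y} : Set G)) := by
      subst hK
      exact (Subgroup.closure_closure_coe_preimage).symm
    have htop : (⊤ : Subgroup K) ≤ ψ.range.comap (QuotientGroup.mk' (R.subgroupOf K)) := by
      rw [htop', Subgroup.closure_le]
      rintro ⟨w, hwK⟩ hw
      simp only [Set.mem_preimage, Set.mem_insert_iff, Set.mem_singleton_iff] at hw
      rw [SetLike.mem_coe, Subgroup.mem_comap, MonoidHom.mem_range]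
      rcases hw with rfl | rfl
      · refine ⟨DihedralGroup.sr 0, ?_⟩
        rw [hψ, Cfsg.Agent.H1.dihedralHom_sr, Cfsg.Agent.H1.zmodPow_zero, mul_one, hxbdef]; rfl
      · refine ⟨DihedralGroup.r 1, ?_⟩
        rw [hψ, Cfsg.Agent.H1.dihedralHom_r, Cfsg.Agent.H1.zmodPow_one, hybdef]; rfl
    intro q
    obtain ⟨w, rfl⟩ := QuotientGroup.mk_surjective q
    exact MonoidHom.mem_range.mp (htop (Subgroup.mem_top w))
  have hinj : Function.Injective ψ := by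
    rw [injective_iff_map_eq_one]
    rintro (i | i) hd
    · rw [hψ, Cfsg.Agent.H1.dihedralHom_r, Cfsg.Agent.H1.zmodPow_eq_one_iff yb p hyp hyo.symm] at hd
      rw [hd]; rfl
    · exfalso
      rw [hψ, Cfsg.Agent.H1.dihedralHom_sr] at hd
      obtain ⟨n, -, hn⟩ := Cfsg.Agent.H1.zmodPow_exists_zpow yb p hyp i
      rw [hn] at hd
      have hxe : xb = (yb ^ n)⁻¹ := eq_inv_of_mul_eq_one_left hd
      have hcomm : xb * yb = yb * xb := by
        rw [hxe, ← zpow_neg]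
        exact ((Commute.refl yb).zpow_left (-n)).eq
      have h1 : yb⁻¹ = yb := by
        rw [← hconj, hcomm, mul_inv_cancel_right]
      have h2 : yb ^ 2 = 1 := by
        rw [pow_two]
        nth_rewrite 1 [← h1]
        exact inv_mul_cancel yb
      have := orderOf_dvd_of_pow_eq_one h2
      rw [hyo] at this
      exact hp2dvd this
  exact ⟨(MulEquiv.ofBijective ψ ⟨hinj, hsurj⟩).symm⟩

theorem c_to_a [Finite G] {p : ℕ} [hp : Fact p.Prime] (hp2 : p ≠ 2) (x y : G)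
    (hx : ∃ k : ℕ, orderOf x = 2 ^ k) (hy : ∃ k : ℕ, orderOf y = p ^ k) (hy1 : y ≠ 1)
    (hxy : x * y * x⁻¹ = y⁻¹) : Cfsg.Involves (DihedralGroup p) G := by
  obtain ⟨j, hj⟩ := hy
  have hj0 : j ≠ 0 := by
    rintro rfl
    rw [pow_zero, orderOf_eq_one_iff] at hj
    exact hy1 hj
  obtain ⟨i, rfl⟩ := Nat.exists_eq_succ_of_ne_zero hj0
  have hy'o : orderOf (y ^ (p ^ i)) = p := by
    rw [orderOf_pow_of_dvd (pow_ne_zero _ hp.out.ne_zero)
      (by rw [hj]; exact pow_dvd_pow p (Nat.le_succ i)), hj, Nat.succ_eq_add_one, pow_succ,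
      Nat.mul_div_cancel_left _ (pow_pos hp.out.pos i)]
  have hxy' : x * y ^ (p ^ i) * x⁻¹ = (y ^ (p ^ i))⁻¹ := by
    rw [← conj_pow, hxy, inv_pow]
  exact c_to_a' hp2 x _ hx hy'o hxy'


theorem sr_pow_odd (n : ℕ) (i : ZMod n) (m : ℕ) (hm : Odd m) :
    (DihedralGroup.sr i) ^ m = DihedralGroup.sr i := by
  obtain ⟨l, rfl⟩ := hm
  rw [pow_succ, pow_mul, pow_two, DihedralGroup.sr_mul_self, one_pow, one_mul]

theorem a_to_b [Finite G] {p : ℕ} [hp : Fact p.Prime] (hp2 : p ≠ 2)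
    (h : Cfsg.Involves (DihedralGroup p) G) :
    ∃ (x : G) (P : Subgroup G), (∃ k : ℕ, orderOf x = 2 ^ k) ∧ IsPGroup p ↥P ∧
      x ∈ Subgroup.normalizer (P : Set G) ∧ x ∉ Subgroup.centralizer (P : Set G) := by
  classical
  obtain ⟨K, R, hN, ⟨e⟩⟩ := h
  obtain ⟨φ, hφdef⟩ : ∃ φ : K →* DihedralGroup p,
      φ = e.toMonoidHom.comp (QuotientGroup.mk' (R.subgroupOf K)) := ⟨_, rfl⟩
  have hφ : Function.Surjective φ := by
    rw [hφdef]; exact e.surjective.comp (QuotientGroup.mk'_surjective _)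
  obtain ⟨N, hNdef⟩ : ∃ N : Subgroup K, N = ((eps p).comp φ).ker := ⟨_, rfl⟩
  haveI hNn : N.Normal := by rw [hNdef]; infer_instance
  have hNmem : ∀ w : K, w ∈ N ↔ eps p (φ w) = 1 := by
    intro w; rw [hNdef, MonoidHom.mem_ker, MonoidHom.comp_apply]
  obtain ⟨c, hc⟩ := hφ (DihedralGroup.r 1)
  obtain ⟨g₀, hg₀⟩ := hφ (DihedralGroup.sr 0)
  have hco : orderOf c ≠ 0 := (orderOf_pos c).ne'
  obtain ⟨b, m', hm', hcm⟩ := Nat.exists_eq_pow_mul_and_not_dvd hco p hp.out.ne_one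
  have hm'ne : m' ≠ 0 := by rintro rfl; simp at hm'
  obtain ⟨c', hc'⟩ : ∃ c' : K, c' = c ^ m' := ⟨_, rfl⟩
  have hc'o : orderOf c' = p ^ b := by
    rw [hc', orderOf_pow_of_dvd hm'ne (by rw [hcm]; exact dvd_mul_left _ _), hcm,
      Nat.mul_div_cancel _ (Nat.pos_of_ne_zero hm'ne)]
  have hφc' : φ c' = DihedralGroup.r (m' : ZMod p) := by
    rw [hc', map_pow, hc, DihedralGroup.r_one_pow]
  have hm'0 : (m' : ZMod p) ≠ 0 := by
    rw [Ne, ZMod.natCast_eq_zero_iff]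
    exact hm'
  have hc'N : c' ∈ N := by
    rw [hNmem, hφc']; rfl
  have hpg : IsPGroup p (Subgroup.zpowers (⟨c', hc'N⟩ : N)) := by
    apply IsPGroup.of_card (n := b)
    rw [Nat.card_zpowers, Subgroup.orderOf_mk, hc'o]
  obtain ⟨P₀, hP₀⟩ := hpg.exists_le_sylow
  have hc'P : (⟨c', hc'N⟩ : N) ∈ (P₀ : Subgroup N) := hP₀ (Subgroup.mem_zpowers _)
  have hfr := Sylow.normalizer_sup_eq_top P₀
  obtain ⟨P', hP'⟩ : ∃ P' : Subgroup K, P' = (P₀ : Subgroup N).map N.subtype := ⟨_, rfl⟩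
  rw [← hP'] at hfr
  have hg₀mem : g₀ ∈ ((Subgroup.normalizer (P' : Set K) ⊔ N : Subgroup K) : Set K) := by
    rw [hfr]; trivial
  rw [Subgroup.mul_normal] at hg₀mem
  obtain ⟨n₁, hn₁, n₂, hn₂, hmul⟩ := Set.mem_mul.mp hg₀mem
  have heps : eps p (φ n₁) = Multiplicative.ofAdd 1 := by
    have h1 : eps p (φ g₀) = Multiplicative.ofAdd 1 := by rw [hg₀]; rfl
    rw [← hmul, map_mul, map_mul, (hNmem n₂).mp hn₂, mul_one] at h1
    exact h1
  obtain ⟨i, hi⟩ : ∃ i, φ n₁ = DihedralGroup.sr i := by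
    rcases hφn : φ n₁ with j | j
    · exfalso
      rw [hφn, eps_r] at heps
      exact absurd heps (by decide)
    · exact ⟨j, rfl⟩
  have hn₁o : orderOf n₁ ≠ 0 := (orderOf_pos n₁).ne'
  obtain ⟨a, m, hm, ham⟩ := Nat.exists_eq_two_pow_mul_odd hn₁o
  have hmne : m ≠ 0 := by rintro rfl; simp at hm
  obtain ⟨x', hx'⟩ : ∃ x' : K, x' = n₁ ^ m := ⟨_, rfl⟩
  have hx'o : orderOf x' = 2 ^ a := by
    rw [hx', orderOf_pow_of_dvd hmne (by rw [ham]; exact dvd_mul_left _ _), ham,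
      Nat.mul_div_cancel _ (Nat.pos_of_ne_zero hmne)]
  have hφx' : φ x' = DihedralGroup.sr i := by
    rw [hx', map_pow, hi, sr_pow_odd _ _ _ hm]
  have hx'N : x' ∈ Subgroup.normalizer (P' : Set K) := by
    rw [hx']; exact pow_mem hn₁ _
  have hc'P' : c' ∈ P' := by
    rw [hP']
    exact Subgroup.mem_map_of_mem N.subtype hc'P
  have hnc : ¬ (c' * x' = x' * c') := by
    intro hcomm
    have := congrArg φ hcomm
    rw [map_mul, map_mul, hφx', hφc', DihedralGroup.r_mul_sr, DihedralGroup.sr_mul_r] at this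
    have h2 : i - (m' : ZMod p) = i + m' := by
      simpa using this
    have h3 : (2 : ZMod p) * (m' : ZMod p) = 0 := by
      have : (m' : ZMod p) + m' = 0 := by
        have h4 : (i + (m' : ZMod p)) - (i - m') = 0 := by rw [h2]; ring
        rw [← h4]; ring
      rw [two_mul]; exact this
    rcases mul_eq_zero.mp h3 with h5 | h5
    · have : ((2 : ℕ) : ZMod p) = 0 := by exact_mod_cast h5
      rw [ZMod.natCast_eq_zero_iff] at this
      exact hp2 ((Nat.prime_dvd_prime_iff_eq hp.out Nat.prime_two).mp this)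
    · exact hm'0 h5
  refine ⟨(x' : G), P'.map K.subtype, ⟨a, by rw [Subgroup.orderOf_coe, hx'o]⟩, ?_, ?_, ?_⟩
  · rw [hP']
    exact (P₀.isPGroup'.map N.subtype).map K.subtype
  · exact Subgroup.le_normalizer_map K.subtype (Subgroup.mem_map_of_mem K.subtype hx'N)
  · intro hxc
    have := (Subgroup.mem_centralizer_iff.mp hxc) (c' : G)
      (Subgroup.mem_map_of_mem K.subtype hc'P')
    apply hnc
    apply Subtype.ext
    rw [Subgroup.coe_mul, Subgroup.coe_mul]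
    exact this

theorem result {G : Type*} [Group G] [Finite G] {p : ℕ} [Fact p.Prime] (hp : p ≠ 2) : (Cfsg.Involves (DihedralGroup p) G ↔ ∃ (x : G) (P : Subgroup G), (∃ k : ℕ, orderOf x = 2 ^ k) ∧ IsPGroup p ↥P ∧ x ∈ Subgroup.normalizer (P : Set G) ∧ x ∉ Subgroup.centralizer (P : Set G)) ∧ (Cfsg.Involves (DihedralGroup p) G ↔ ∃ x y : G, (∃ k : ℕ, orderOf x = 2 ^ k) ∧ (∃ k : ℕ, orderOf y = p ^ k) ∧ y ≠ 1 ∧ x * y * x⁻¹ = y⁻¹) := by
  have hBC : (∃ (x : G) (P : Subgroup G), (∃ k : ℕ, orderOf x = 2 ^ k) ∧ IsPGroup p ↥P ∧ x ∈ Subgroup.normalizer (P : Set G) ∧ x ∉ Subgroup.centralizer (P : Set G)) →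
      ∃ x y : G, (∃ k : ℕ, orderOf x = 2 ^ k) ∧ (∃ k : ℕ, orderOf y = p ^ k) ∧ y ≠ 1 ∧ x * y * x⁻¹ = y⁻¹ := by
    rintro ⟨x, P, hx, hP, hxN, hxC⟩
    exact b_to_c x P hx hP hxN hxC
  have hCA : (∃ x y : G, (∃ k : ℕ, orderOf x = 2 ^ k) ∧ (∃ k : ℕ, orderOf y = p ^ k) ∧ y ≠ 1 ∧ x * y * x⁻¹ = y⁻¹) →
      Cfsg.Involves (DihedralGroup p) G := by
    rintro ⟨x, y, hx, hy, hy1, hxy⟩
    exact c_to_a hp x y hx hy hy1 hxy
  exact ⟨⟨a_to_b hp, fun h => hCA (hBC h)⟩, ⟨fun h => hBC (a_to_b hp h), hCA⟩⟩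

end Cfsg.Agent.S2758
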