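import Mathlib
import Cfsg.Statements.S2761
import Cfsg.Agent.H9.CoxA3Perm

set_option autoImplicit false
open Cfsg

namespace Cfsg.Agent.S2761

open Matrix

abbrev SL32 := SpecialLinearGroup (Fin 3) (ZMod 2)

/-- last row `(0, 0, 1)` -/
def P (M : SL32) : Prop := M.1 2 0 = 0 ∧ M.1 2 1 = 0 ∧ M.1 2 2 = 1

instance decP (M : SL32) : Decidable (P M) := by unfold P; infer_instance

def mA : SL32 := ⟨!![0, 1, 0; 1, 0, 0; 0, 0, 1], by decide⟩
def mB : SL32 := ⟨!![1, 0, 0; 1, 1, 0; 0, 0, 1], by decide⟩
def mC : SL32 := ⟨!![0, 1, 1; 1, 0, 1; 0, 0, 1], by decide⟩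

theorem P_one : P 1 := by decide +kernel
theorem P_mul : ∀ M N : SL32, P M → P N → P (M * N) := by decide +kernel
theorem P_inv : ∀ M : SL32, P M → P M⁻¹ := by decide +kernel
theorem card_P : Fintype.card {M : SL32 // P M} = 24 := by decide +kernel

theorem qd_le (M : SL32) (hM : M ∈ qd 2) : P M := by
  unfold qd at hM
  induction hM using Subgroup.closure_induction with
  | mem x hx => exact hx
  | one => exact P_one
  | mul x y _ _ hx hy => exact P_mul x y hx hy
  | inv x _ hx => exact P_inv x hx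

theorem mem_qd (M : SL32) (hM : P M) : M ∈ qd 2 := Subgroup.subset_closure hM

theorem card_qd : Nat.card ↥(qd 2) ≤ 24 := by
  have : Function.Injective (fun x : ↥(qd 2) => (⟨x.1, qd_le x.1 x.2⟩ : {M : SL32 // P M})) := by
    intro x y h
    have h' : (⟨x.1, qd_le x.1 x.2⟩ : {M : SL32 // P M}) = ⟨y.1, qd_le y.1 y.2⟩ := h
    have h'' : x.1 = y.1 := congrArg (fun z : {M : SL32 // P M} => z.1) h'
    exact Subtype.ext h''
  have h1 := Nat.card_le_card_of_injective _ this
  have h2 : Nat.card {M : SL32 // P M} = 24 := by rw [Nat.card_eq_fintype_card, card_P]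
  rwa [h2] at h1

def qA : ↥(qd 2) := ⟨mA, mem_qd _ (by decide)⟩
def qB : ↥(qd 2) := ⟨mB, mem_qd _ (by decide)⟩
def qC : ↥(qd 2) := ⟨mC, mem_qd _ (by decide)⟩

/-- The group Qd(2), the natural semidirect product of an elementary abelian group of order 4 by SL₂(2) (realised as the affine subgroup of SL₃(2)), is isomorphic to the symmetric group of degree 4. -/
theorem result : Nonempty (↥(Cfsg.qd 2) ≃* Equiv.Perm (Fin 4)) := by
  have haa : qA * qA = 1 := Subtype.ext (by decide +kernel)
  have hbb : qB * qB = 1 := Subtype.ext (by decide +kernel)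
  have hcc : qC * qC = 1 := Subtype.ext (by decide +kernel)
  have hab : (qA * qB) ^ 3 = 1 := Subtype.ext (by decide +kernel)
  have hbc : (qB * qC) ^ 3 = 1 := Subtype.ext (by decide +kernel)
  have hac : qA * qC = qC * qA := Subtype.ext (by decide +kernel)
  have h1 : qA ≠ 1 := fun h => absurd (congrArg Subtype.val h) (by decide +kernel)
  have h2 : qA * qC ≠ 1 := fun h => absurd (congrArg Subtype.val h) (by decide +kernel)
  have h3 : qA * qB ≠ 1 := fun h => absurd (congrArg Subtype.val h) (by decide +kernel)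
  have h4 : qA * qB * qC ≠ 1 := fun h => absurd (congrArg Subtype.val h) (by decide +kernel)
  obtain ⟨φ, hφ, -, -, -⟩ := Cfsg.Agent.H9.CoxA3.exists_embedding haa hbb hcc hab hbc hac h1 h2 h3 h4
  have hbij : Function.Bijective φ := by
    apply hφ.bijective_of_nat_card_le
    have h24 : Nat.card (Equiv.Perm (Fin 4)) = 24 := by
      rw [Nat.card_eq_fintype_card, Fintype.card_perm, Fintype.card_fin]; rfl
    rw [h24]
    exact card_qd
  exact ⟨(MulEquiv.ofBijective φ hbij).symm⟩

end Cfsg.Agent.S2761
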