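import Cfsg.Statements.S2791
import Mathlib
import Cfsg.Agent.Lib.Lead.AlperinGoldschmidt

set_option autoImplicit false
set_option linter.style.haveILetI false
set_option linter.unusedVariables false
open Cfsg

namespace Cfsg.Agent.S2791

open Cfsg.Agent.Lib.Lead.AlperinGoldschmidt Cfsg.Agent.Lib.Lead.ConjFamily Cfsg.Agent.Lib.Lead.Conj
  Cfsg.Agent.S1963 Cfsg.Agent.S1959

universe u
variable {G : Type u} [Group G]

/-- the elements of `N_G(U)` stabilizing the chain `1 ≤ Z ≤ U` -/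
def chainStab (U Z : Subgroup G) : Subgroup G where
  carrier := {k | k ∈ Subgroup.normalizer (U : Set G) ∧ (∀ u ∈ U, ∃ z ∈ Z, k * u * k⁻¹ = z * u) ∧
    ∀ z ∈ Z, k * z * k⁻¹ = z}
  one_mem' := ⟨Subgroup.one_mem _, fun u _ => ⟨1, Z.one_mem, by simp⟩, fun z _ => by simp⟩
  mul_mem' := by
    rintro a b ⟨ha1, ha2, ha3⟩ ⟨hb1, hb2, hb3⟩
    refine ⟨Subgroup.mul_mem _ ha1 hb1, fun u hu => ?_, fun z hz => ?_⟩
    · obtain ⟨z₂, hz₂, e₂⟩ := hb2 u hu
      obtain ⟨z₁, hz₁, e₁⟩ := ha2 u hu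
      refine ⟨z₂ * z₁, Z.mul_mem hz₂ hz₁, ?_⟩
      calc a * b * u * (a * b)⁻¹ = a * (b * u * b⁻¹) * a⁻¹ := by group
        _ = a * (z₂ * u) * a⁻¹ := by rw [e₂]
        _ = (a * z₂ * a⁻¹) * (a * u * a⁻¹) := by group
        _ = z₂ * (z₁ * u) := by rw [ha3 z₂ hz₂, e₁]
        _ = z₂ * z₁ * u := by group
    · calc a * b * z * (a * b)⁻¹ = a * (b * z * b⁻¹) * a⁻¹ := by group
        _ = z := by rw [hb3 z hz, ha3 z hz]
  inv_mem' := by
    rintro a ⟨ha1, ha2, ha3⟩
    have hinv3 : ∀ z ∈ Z, a⁻¹ * z * a⁻¹⁻¹ = z := by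
      intro z hz
      have := ha3 z hz
      calc a⁻¹ * z * a⁻¹⁻¹ = a⁻¹ * (a * z * a⁻¹) * a := by rw [this, inv_inv]
        _ = z := by group
    refine ⟨Subgroup.inv_mem _ ha1, fun u hu => ?_, hinv3⟩
    have hu' : a⁻¹ * u * a ∈ U := by
      have h1 : a⁻¹ ∈ Subgroup.normalizer (U : Set G) := Subgroup.inv_mem _ ha1
      have := (Subgroup.mem_normalizer_iff.1 h1 u).1 hu
      rwa [inv_inv] at this
    obtain ⟨z, hz, e⟩ := ha2 _ hu'
    have e' : u = z * (a⁻¹ * u * a) := by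
      rw [← e]; group
    refine ⟨z⁻¹, Z.inv_mem hz, ?_⟩
    rw [inv_inv]
    calc a⁻¹ * u * a = z⁻¹ * (z * (a⁻¹ * u * a)) := by group
      _ = z⁻¹ * u := by rw [← e']

theorem mem_chainStab {U Z : Subgroup G} {k : G} :
    k ∈ chainStab U Z ↔ k ∈ Subgroup.normalizer (U : Set G) ∧ (∀ u ∈ U, ∃ z ∈ Z, k * u * k⁻¹ = z * u) ∧
      ∀ z ∈ Z, k * z * k⁻¹ = z := Iff.rfl

/-- powers of chain stabilizing elements -/
theorem chainStab_pow {U Z : Subgroup G} {k : G} (hk : k ∈ chainStab U Z) {u : G} (hu : u ∈ U)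
    {z : G} (hz : z ∈ Z) (e : k * u * k⁻¹ = z * u) (n : ℕ) : k ^ n * u * (k ^ n)⁻¹ = z ^ n * u := by
  induction n with
  | zero => simp
  | succ n ih =>
    calc k ^ (n + 1) * u * (k ^ (n + 1))⁻¹ = k * (k ^ n * u * (k ^ n)⁻¹) * k⁻¹ := by
          rw [pow_succ']; group
      _ = k * (z ^ n * u) * k⁻¹ := by rw [ih]
      _ = (k * z ^ n * k⁻¹) * (k * u * k⁻¹) := by group
      _ = z ^ n * (z * u) := by rw [hk.2.2 _ (Z.pow_mem hz n), e]
      _ = z ^ (n + 1) * u := by rw [pow_succ]; group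

/-- A strongly closed abelian subgroup A of a Sylow p-subgroup controls strong fusion. -/
theorem result {G : Type*} [Group G] [Finite G] {p : ℕ} [Fact p.Prime] (S : Sylow p G) (A : Subgroup G) (hA : IsMulCommutative ↥A) (hsc : Cfsg.IsStronglyClosed A (S : Subgroup G)) : Cfsg.ControlsStrongFusion p A := by
  classical
  have hp : p.Prime := Fact.out
  obtain ⟨hAS, hcl⟩ := hsc
  have hAc : ∀ a ∈ A, ∀ b ∈ A, a * b = b * a := by
    intro a ha b hb
    have := hA.is_comm.comm ⟨a, ha⟩ ⟨b, hb⟩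
    exact congrArg Subtype.val this
  -- `A` is normal in `S`
  have hSN : (S : Subgroup G) ≤ Subgroup.normalizer (A : Set G) := by
    intro s hs
    apply mem_normalizer_of_conj_mem
    intro r hr
    apply hcl r hr s
    exact Subgroup.mul_mem _ (Subgroup.mul_mem _ hs (hAS hr)) (Subgroup.inv_mem _ hs)
  -- centric radical subgroups contain `A`
  have hCR : ∀ U : Subgroup G, CR S U → Subgroup.normalizer (U : Set G) ≤ Subgroup.normalizer (A : Set G) := by
    intro U hU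
    set N := Subgroup.normalizer (U : Set G) with hN
    set Z := A ⊓ U with hZ
    have hUS : U ≤ (S : Subgroup G) := hU.1.1
    -- `Z` is invariant under `N`
    have hZinv : ∀ n ∈ N, ∀ z ∈ Z, n * z * n⁻¹ ∈ Z := by
      intro n hn z hz
      have h1 : n * z * n⁻¹ ∈ U := (Subgroup.mem_normalizer_iff.1 hn z).1 hz.2
      exact ⟨hcl z hz.1 n (hUS h1), h1⟩
    set L := chainStab U Z with hL
    have hLN : L ≤ N := fun k hk => hk.1
    have hLconj : ∀ n ∈ N, ∀ k ∈ L, n * k * n⁻¹ ∈ L := by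
      intro n hn k hk
      have hn' : n⁻¹ ∈ N := N.inv_mem hn
      refine ⟨N.mul_mem (N.mul_mem hn hk.1) hn', fun u hu => ?_, fun z hz => ?_⟩
      · have hu' : n⁻¹ * u * n ∈ U := by
          have := (Subgroup.mem_normalizer_iff.1 hn' u).1 hu
          rwa [inv_inv] at this
        obtain ⟨z, hz, e⟩ := hk.2.1 _ hu'
        refine ⟨n * z * n⁻¹, hZinv n hn z hz, ?_⟩
        calc n * k * n⁻¹ * u * (n * k * n⁻¹)⁻¹ = n * (k * (n⁻¹ * u * n) * k⁻¹) * n⁻¹ := by group
          _ = n * (z * (n⁻¹ * u * n)) * n⁻¹ := by rw [e]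
          _ = n * z * n⁻¹ * u := by group
      · have hz' : n⁻¹ * z * n ∈ Z := by
          have := hZinv n⁻¹ hn' z hz
          rwa [inv_inv] at this
        calc n * k * n⁻¹ * z * (n * k * n⁻¹)⁻¹ = n * (k * (n⁻¹ * z * n) * k⁻¹) * n⁻¹ := by group
          _ = n * (n⁻¹ * z * n) * n⁻¹ := by rw [hk.2.2 _ hz']
          _ = z := by group
    have hPMC : PModC p U L := by
      refine ⟨hLN, fun n hn => ?_, fun k hk => ?_⟩
      · apply map_conj_eq_of_le
        rintro _ ⟨k, hk, rfl⟩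
        exact hLconj n hn k hk
      · have hZp : IsPGroup p ↥Z := S.isPGroup'.to_le (inf_le_left.trans hAS)
        obtain ⟨j, hj⟩ := IsPGroup.iff_card.1 hZp
        refine ⟨j, ?_⟩
        rw [Subgroup.mem_centralizer_iff]
        intro u hu
        obtain ⟨z, hz, e⟩ := hk.2.1 u hu
        have h1 := chainStab_pow hk hu hz e (p ^ j)
        have h2 : z ^ p ^ j = 1 := by
          have := pow_card_eq_one' (G := ↥Z) (x := ⟨z, hz⟩)
          rw [hj] at this
          have := congrArg Subtype.val this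
          simpa using this
        rw [h2, one_mul] at h1
        calc u * k ^ p ^ j = (k ^ p ^ j * u * (k ^ p ^ j)⁻¹) * k ^ p ^ j := by rw [h1]
          _ = k ^ p ^ j * u := by group
    have hSL : (S : Subgroup G) ⊓ L ≤ U := hU.2 L hPMC
    -- `N_A(U) ≤ L`
    have hAL : A ⊓ N ≤ L := by
      intro a ha
      refine ⟨ha.2, fun u hu => ?_, fun z hz => ?_⟩
      · refine ⟨a * u * a⁻¹ * u⁻¹, ⟨?_, ?_⟩, by group⟩
        · have : a * u * a⁻¹ * u⁻¹ = a * (u * a⁻¹ * u⁻¹) := by group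
          rw [this]
          apply A.mul_mem ha.1
          apply hcl _ (A.inv_mem ha.1) u
          exact Subgroup.mul_mem _ (Subgroup.mul_mem _ (hUS hu) (hAS (A.inv_mem ha.1)))
            (Subgroup.inv_mem _ (hUS hu))
        · exact U.mul_mem ((Subgroup.mem_normalizer_iff.1 ha.2 u).1 hu) (U.inv_mem hu)
      · rw [hAc a ha.1 z hz.1]; group
    have hANU : A ⊓ N ≤ U := fun a ha => hSL ⟨hAS ha.1, hAL ha⟩
    -- hence `A ≤ U`
    have hAU : A ≤ U := by
      by_contra hnot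
      have hI : IsPGroup p ↥(A ⊔ U : Subgroup G) := S.isPGroup'.to_le (sup_le hAS hUS)
      have hne : U ≠ A ⊔ U := by
        intro h
        apply hnot
        rw [h]
        exact le_sup_left
      have hlt := Cfsg.Agent.S2013.normalizer_grow hI le_sup_right hne
      obtain ⟨d, hd, hdU⟩ := SetLike.exists_of_lt hlt
      apply hdU
      have hd1 : d ∈ ((A ⊔ U : Subgroup G) : Set G) := hd.1
      rw [Subgroup.coe_mul_of_right_le_normalizer_left A U (hUS.trans hSN)] at hd1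
      obtain ⟨a, ha, u, hu, rfl⟩ := hd1
      have haN : a ∈ N := by
        have : a = a * u * u⁻¹ := by group
        rw [this]
        exact N.mul_mem hd.2 (N.inv_mem (Subgroup.le_normalizer hu))
      exact U.mul_mem (hANU ⟨ha, haN⟩) hu
    -- so `N ≤ N_G(A)`
    intro n hn
    apply mem_normalizer_of_conj_mem
    intro r hr
    apply hcl r hr n
    exact hUS ((Subgroup.mem_normalizer_iff.1 hn r).1 (hAU hr))
  refine ⟨S, hAS, fun B hB => ⟨hB, fun g hg => ?_⟩⟩
  have hrc : rc g⁻¹ B ⊆ ((S : Subgroup G) : Set G) := by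
    rintro _ ⟨b, hb, rfl⟩
    apply hg
    exact ⟨b, hb, by simp⟩
  obtain ⟨c, hc, l, hgl, hd⟩ := alperin_goldschmidt S B g⁻¹ hB hrc
  have hmem : prodL l ∈ Subgroup.normalizer (A : Set G) :=
    prodL_mem (𝓕 := {U | CR S U}) _ (fun U hU => hCR U hU) l B hd
  refine ⟨(prodL l)⁻¹, Subgroup.inv_mem _ hmem, fun a ha => ?_⟩
  have hca : c⁻¹ * a * c = a := by
    have := Subgroup.mem_centralizer_iff.1 hc a ha
    calc c⁻¹ * a * c = c⁻¹ * (a * c) := by group
      _ = c⁻¹ * (c * a) := by rw [this]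
      _ = a := by group
  have hg' : g = (prodL l)⁻¹ * c⁻¹ := by
    have : g = (g⁻¹)⁻¹ := by rw [inv_inv]
    rw [this, hgl]; group
  rw [hg', inv_inv]
  calc (prodL l)⁻¹ * c⁻¹ * a * ((prodL l)⁻¹ * c⁻¹)⁻¹ = (prodL l)⁻¹ * (c⁻¹ * a * c) * prodL l := by group
    _ = (prodL l)⁻¹ * a * prodL l := by rw [hca]

end Cfsg.Agent.S2791
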