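import Cfsg.Statements.S2809
import Cfsg.Agent.Lib.Helper7.Core

set_option autoImplicit false
open Cfsg

namespace Cfsg.Agent.S2809

open Cfsg.Agent.Lib.Helper7
open scoped commutatorElement

/-- If `y` centralizes `⁅k, y⁆` then `⁅k, y ^ n⁆ = ⁅k, y⁆ ^ n`. -/
theorem comm_pow {G : Type*} [Group G] (k y : G) (h : y * ⁅k, y⁆ = ⁅k, y⁆ * y) (n : ℕ) :
    ⁅k, y ^ n⁆ = ⁅k, y⁆ ^ n := by
  induction n with
  | zero => simp
  | succ n ih =>
    have hc : Commute y ⁅k, y⁆ := h
    have hcn : Commute (y ^ n) ⁅k, y⁆ := hc.pow_left n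
    have e : ⁅k, y ^ (n + 1)⁆ = ⁅k, y ^ n⁆ * (y ^ n * ⁅k, y⁆ * (y ^ n)⁻¹) := by
      simp only [commutatorElement_def, pow_succ]; group
    rw [e, ih, hcn.eq, mul_inv_cancel_right, pow_succ]

theorem iterCommutator_le {H : Type*} [Group H] (R L : Subgroup H)
    (hL : L ≤ Subgroup.normalizer (R : Set H)) (i : ℕ) : Cfsg.iterCommutator R L i ≤ R := by
  induction i with
  | zero => exact le_rfl
  | succ i ih =>
    show ⁅Cfsg.iterCommutator R L i, L⁆ ≤ R
    exact (Subgroup.commutator_mono ih le_rfl).trans (Subgroup.le_normalizer_iff_commutator_le_left.mp hL)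

/-- A `p'`-element of `L` stabilizing the chain centralizes the `p`-group `R`. -/
theorem coprime_centralizes_of_chain {H : Type*} [Group H] {p : ℕ} [Fact p.Prime] (R L : Subgroup H)
    (hR : IsPGroup p ↥R) (hL : L ≤ Subgroup.normalizer (R : Set H)) (n : ℕ)
    (hn : Cfsg.iterCommutator R L n = ⊥) (x : H) (hxL : x ∈ L) (hx : (orderOf x).Coprime p) :
    ∀ r ∈ R, r * x = x * r := by
  have step : ∀ i, (∀ r ∈ Cfsg.iterCommutator R L (i + 1), r * x = x * r) →
      ∀ r ∈ Cfsg.iterCommutator R L i, r * x = x * r := by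
    intro i hi r hr
    have hc : ⁅r, x⁆ ∈ Cfsg.iterCommutator R L (i + 1) := Subgroup.commutator_mem_commutator hr hxL
    have hcx : x * ⁅r, x⁆ = ⁅r, x⁆ * x := (hi _ hc).symm
    have h1 : ⁅r, x⁆ ^ orderOf x = 1 := by
      rw [← comm_pow r x hcx, pow_orderOf_eq_one, commutatorElement_one_right]
    obtain ⟨k, hk⟩ := hR ⟨⁅r, x⁆, iterCommutator_le R L hL _ hc⟩
    have hk' : ⁅r, x⁆ ^ (p ^ k) = 1 := by
      have := congrArg Subtype.val hk
      simpa using this
    have hd1 : orderOf ⁅r, x⁆ ∣ orderOf x := orderOf_dvd_of_pow_eq_one h1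
    have hd2 : orderOf ⁅r, x⁆ ∣ p ^ k := orderOf_dvd_of_pow_eq_one hk'
    have hcop : (orderOf x).Coprime (p ^ k) := Nat.Coprime.pow_right k hx
    have : orderOf ⁅r, x⁆ = 1 := Nat.eq_one_of_dvd_coprimes hcop hd1 hd2
    have h2 : ⁅r, x⁆ = 1 := orderOf_eq_one_iff.mp this
    exact commutatorElement_eq_one_iff_mul_comm.mp h2
  have down : ∀ m, (∀ r ∈ Cfsg.iterCommutator R L m, r * x = x * r) →
      ∀ r ∈ Cfsg.iterCommutator R L 0, r * x = x * r := by
    intro m
    induction m with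
    | zero => exact id
    | succ k ih => exact fun h => ih (step k h)
  apply down n
  intro r hr
  rw [hn, Subgroup.mem_bot] at hr
  rw [hr, one_mul, mul_one]

/-- If the p-subgroup R contains its own centralizer, and a subgroup L of its normalizer acts nilpotently on R (the iterated commutators ⁅R, L, …, L⁆ reach the trivial group), then L is a p-group. -/
theorem result {H : Type*} [Group H] [Finite H] {p : ℕ} [Fact p.Prime] (R : Subgroup H) (hR : IsPGroup p ↥R) (hC : Subgroup.centralizer (R : Set H) ≤ R) (L : Subgroup H) (hL : L ≤ Subgroup.normalizer (R : Set H)) (hnil : ∃ n : ℕ, Cfsg.iterCommutator R L n = ⊥) : IsPGroup p ↥L := by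
  obtain ⟨n, hn⟩ := hnil
  have hp : p.Prime := Fact.out
  -- p'-elements of L are trivial
  have key : ∀ x ∈ L, (orderOf x).Coprime p → x = 1 := by
    intro x hxL hx
    have hcen : x ∈ Subgroup.centralizer (R : Set H) := by
      rw [Subgroup.mem_centralizer_iff]
      intro r hr
      exact coprime_centralizes_of_chain R L hR hL n hn x hxL hx r hr
    obtain ⟨k, hk⟩ := hR ⟨x, hC hcen⟩
    have hk' : x ^ (p ^ k) = 1 := by
      have := congrArg Subtype.val hk
      simpa using this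
    have hd2 : orderOf x ∣ p ^ k := orderOf_dvd_of_pow_eq_one hk'
    have hcop : (orderOf x).Coprime (p ^ k) := Nat.Coprime.pow_right k hx
    exact orderOf_eq_one_iff.mp (Nat.eq_one_of_dvd_coprimes hcop dvd_rfl hd2)
  intro g
  have hpos : orderOf (g : H) ≠ 0 := (orderOf_pos (g : H)).ne'
  obtain ⟨a, m, hm, hnm⟩ := Nat.exists_eq_pow_mul_and_not_dvd hpos p hp.ne_one
  refine ⟨a, Subtype.ext ?_⟩
  rw [Subgroup.coe_pow, Subgroup.coe_one]
  apply key _ (L.pow_mem g.2 _)
  have h1 : ((g : H) ^ p ^ a) ^ m = 1 := by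
    rw [← pow_mul, ← hnm, pow_orderOf_eq_one]
  have hd : orderOf ((g : H) ^ p ^ a) ∣ m := orderOf_dvd_of_pow_eq_one h1
  have hcm : m.Coprime p := ((Nat.Prime.coprime_iff_not_dvd hp).mpr hm).symm
  exact Nat.Coprime.coprime_dvd_left hd hcm

end Cfsg.Agent.S2809
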