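import Cfsg.Statements.S2810
import Cfsg.Agent.Lib.Helper7.Core

set_option autoImplicit false
open Cfsg

namespace Cfsg.Agent.S2810

open Cfsg.Agent.Lib.Helper7
open scoped commutatorElement

/-- In a finite group H of characteristic p (the centralizer of O_p(H) lies in O_p(H)), a subgroup L centralizing every factor of an H-invariant chain of normal subgroups from the trivial group up to O_p(H) lies in O_p(H). -/
theorem result {H : Type*} [Group H] [Finite H] {p : ℕ} [Fact p.Prime] (hchar : Subgroup.centralizer (Cfsg.pCore p H : Set H) ≤ Cfsg.pCore p H) (L : Subgroup H) (n : ℕ) (A : Fin (n + 1) → Subgroup H) (h0 : A 0 = ⊥) (hn : A (Fin.last n) = Cfsg.pCore p H) (hmono : Monotone A) (hnorm : ∀ i, (A i).Normal) (hcent : ∀ i : Fin n, ⁅A i.succ, L⁆ ≤ A i.castSucc) : L ≤ Cfsg.pCore p H := by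
  -- the stabilizer of the chain
  let C : Subgroup H :=
    { carrier := {g | ∀ i : Fin n, ∀ a ∈ A i.succ, ⁅a, g⁆ ∈ A i.castSucc}
      mul_mem' := by
        intro g h hg hh i a ha
        have e : ⁅a, g * h⁆ = ⁅a, g⁆ * (g * ⁅a, h⁆ * g⁻¹) := by
          simp only [commutatorElement_def]; group
        rw [e]
        exact (A i.castSucc).mul_mem (hg i a ha) ((hnorm i.castSucc).conj_mem _ (hh i a ha) g)
      one_mem' := by
        intro i a _
        rw [commutatorElement_one_right]
        exact (A i.castSucc).one_mem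
      inv_mem' := by
        intro g hg i a ha
        have e : ⁅a, g⁻¹⁆ = g⁻¹ * ⁅a, g⁆⁻¹ * g⁻¹⁻¹ := by
          simp only [commutatorElement_def]; group
        rw [e]
        exact (hnorm i.castSucc).conj_mem _ ((A i.castSucc).inv_mem (hg i a ha)) g⁻¹ }
  have hCn : C.Normal := by
    refine ⟨fun g hg h i a ha => ?_⟩
    have e : ⁅a, h * g * h⁻¹⁆ = h * ⁅h⁻¹ * a * h⁻¹⁻¹, g⁆ * h⁻¹ := by
      simp only [commutatorElement_def]; group
    rw [e]
    exact (hnorm i.castSucc).conj_mem _ (hg i _ ((hnorm i.succ).conj_mem a ha h⁻¹)) h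
  have hLC : L ≤ C := by
    intro g hg i a ha
    exact hcent i (Subgroup.commutator_mem_commutator ha hg)
  have hQ : IsPGroup p ↥(Cfsg.pCore p H) := pCore_isPGroup p H
  have hCp : IsPGroup p ↥C := by
    apply isPGroup_of_coprime_trivial
    intro x hxC hx
    -- x centralizes each A i
    have hall : ∀ i : Fin (n + 1), ∀ r ∈ A i, r * x = x * r := by
      intro i
      induction i using Fin.induction with
      | zero =>
        intro r hr
        rw [h0, Subgroup.mem_bot] at hr
        rw [hr, one_mul, mul_one]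
      | succ i ih =>
        intro r hr
        have hc : ⁅r, x⁆ ∈ A i.castSucc := hxC i r hr
        have hcQ : ⁅r, x⁆ ∈ Cfsg.pCore p H := hn ▸ hmono (Fin.le_last _) hc
        obtain ⟨k, hk⟩ := pow_eq_one_of_mem_isPGroup hQ hcQ
        exact commute_of_coprime_of_commute_commutator r x hx (ih _ hc).symm k hk
    have hcen : x ∈ Subgroup.centralizer (Cfsg.pCore p H : Set H) := by
      rw [Subgroup.mem_centralizer_iff]
      intro r hr
      exact hall (Fin.last n) r (hn ▸ hr)
    obtain ⟨k, hk⟩ := pow_eq_one_of_mem_isPGroup hQ (hchar hcen)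
    exact eq_one_of_coprime_of_pow_eq_one x hx k hk
  exact hLC.trans (le_pCore hCn hCp)

end Cfsg.Agent.S2810
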