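import Cfsg.Statements.S2813
import Cfsg.Agent.Lib.Helper7.Core

set_option autoImplicit false
open Cfsg

namespace Cfsg.Agent.S2813

open Cfsg.Agent.Lib.Helper7
open scoped commutatorElement

/-- If `y` centralizes `⁅k, y⁆` then `⁅k, y ^ n⁆ = ⁅k, y⁆ ^ n`. -/
theorem comm_pow {G : Type*} [Group G] (k y : G) (h : y * ⁅k, y⁆ = ⁅k, y⁆ * y) (n : ℕ) :
    ⁅k, y ^ n⁆ = ⁅k, y⁆ ^ n := by
  induction n with
  | zero => simp
  | succ n ih =>
    have hc : Commute y ⁅k, y⁆ := h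
    have hcn : Commute (y ^ n) ⁅k, y⁆ := hc.pow_left n
    have e : ⁅k, y ^ (n + 1)⁆ = ⁅k, y ^ n⁆ * (y ^ n * ⁅k, y⁆ * (y ^ n)⁻¹) := by
      simp only [commutatorElement_def, pow_succ]; group
    rw [e, ih, hcn.eq, mul_inv_cancel_right, pow_succ]

/-- If the p-subgroup Y normalizes the subgroup K, K has no nontrivial normal p-subgroup, and Y acts quadratically on K (⁅K, Y, Y⁆ = 1), then Y centralizes K. -/
theorem result {H : Type*} [Group H] [Finite H] {p : ℕ} [Fact p.Prime] (K : Subgroup H) (hO : Cfsg.pCore p ↥K = ⊥) (Y : Subgroup H) (hY : IsPGroup p ↥Y) (hYK : Y ≤ Subgroup.normalizer (K : Set H)) (hq : ⁅⁅K, Y⁆, Y⁆ = ⊥) : ⁅K, Y⁆ = ⊥ := by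
  set W : Subgroup H := ⁅K, Y⁆ with hW
  have hWK : W ≤ K := Subgroup.le_normalizer_iff_commutator_le_left.mp hYK
  have hWY : W ≤ Subgroup.centralizer (Y : Set H) := Subgroup.commutator_eq_bot_iff_le_centralizer.mp hq
  have hKW : K ≤ Subgroup.normalizer (W : Set H) := Subgroup.normalizer_commutator_ge_left K Y
  -- generators commute with all of W
  have hgen : ∀ k ∈ K, ∀ y ∈ Y, ∀ w ∈ W, w * ⁅k, y⁆ = ⁅k, y⁆ * w := by
    intro k hk y hy w hw
    have h1 : y * w = w * y := Subgroup.mem_centralizer_iff.mp (hWY hw) y hy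
    have h2 : k⁻¹ * w * k ∈ W := by
      have := (Subgroup.mem_normalizer_iff.mp (hKW (K.inv_mem hk)) w).mp hw
      simpa using this
    have h3 : y * (k⁻¹ * w * k) = (k⁻¹ * w * k) * y := Subgroup.mem_centralizer_iff.mp (hWY h2) y hy
    have h4 : w * (k * y * k⁻¹) = (k * y * k⁻¹) * w := by
      calc w * (k * y * k⁻¹) = k * ((k⁻¹ * w * k) * y) * k⁻¹ := by group
        _ = k * (y * (k⁻¹ * w * k)) * k⁻¹ := by rw [h3]
        _ = (k * y * k⁻¹) * w := by group
    have h1' : w * y⁻¹ = y⁻¹ * w := by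
      calc w * y⁻¹ = y⁻¹ * (y * w) * y⁻¹ := by group
        _ = y⁻¹ * (w * y) * y⁻¹ := by rw [h1]
        _ = y⁻¹ * w := by group
    calc w * ⁅k, y⁆ = (w * (k * y * k⁻¹)) * y⁻¹ := by rw [commutatorElement_def]; group
      _ = (k * y * k⁻¹) * (w * y⁻¹) := by rw [h4]; group
      _ = ⁅k, y⁆ * w := by rw [h1', commutatorElement_def]; group
  -- W is abelian
  have hWab : W ≤ Subgroup.centralizer (W : Set H) := by
    rw [hW, Subgroup.commutator_def, Subgroup.closure_le]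
    rintro _ ⟨k, hk, y, hy, rfl⟩
    rw [SetLike.mem_coe, Subgroup.mem_centralizer_iff]
    intro w hw
    exact hgen k hk y hy w hw
  -- generators are p-elements
  have hgenp : ∀ k ∈ K, ∀ y ∈ Y, ∃ m : ℕ, ⁅k, y⁆ ^ (p ^ m) = 1 := by
    intro k hk y hy
    obtain ⟨m, hm⟩ := hY ⟨y, hy⟩
    have hm' : y ^ (p ^ m) = 1 := by
      have := congrArg Subtype.val hm
      simpa using this
    refine ⟨m, ?_⟩
    have hcy : y * ⁅k, y⁆ = ⁅k, y⁆ * y :=
      Subgroup.mem_centralizer_iff.mp (hWY (Subgroup.commutator_mem_commutator hk hy)) y hy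
    rw [← comm_pow k y hcy, hm', commutatorElement_one_right]
  -- the p-elements of W form a subgroup
  let T : Subgroup H :=
    { carrier := {w | w ∈ W ∧ ∃ m : ℕ, w ^ (p ^ m) = 1}
      mul_mem' := by
        rintro a b ⟨ha, m, hm⟩ ⟨hb, n, hn⟩
        refine ⟨W.mul_mem ha hb, m + n, ?_⟩
        have hc : Commute a b := (Subgroup.mem_centralizer_iff.mp (hWab hb) a ha)
        rw [hc.mul_pow, pow_add, pow_mul, hm, one_pow, one_mul, mul_comm (p ^ m), pow_mul, hn, one_pow]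
      one_mem' := ⟨W.one_mem, 0, by simp⟩
      inv_mem' := by
        rintro a ⟨ha, m, hm⟩
        exact ⟨W.inv_mem ha, m, by rw [inv_pow, hm, inv_one]⟩ }
  have hWT : W ≤ T := by
    rw [hW, Subgroup.commutator_def, Subgroup.closure_le]
    rintro _ ⟨k, hk, y, hy, rfl⟩
    exact ⟨Subgroup.commutator_mem_commutator hk hy, hgenp k hk y hy⟩
  have hWp : IsPGroup p W := by
    intro w
    obtain ⟨-, m, hm⟩ := hWT w.2
    exact ⟨m, Subtype.ext (by simpa using hm)⟩
  have hn : (W.subgroupOf K).Normal := (Subgroup.normal_subgroupOf_iff_le_normalizer hWK).mpr hKW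
  have hle : W.subgroupOf K ≤ Cfsg.pCore p ↥K := le_pCore hn (hWp.comap_subtype)
  rw [hO, le_bot_iff, Subgroup.subgroupOf_eq_bot] at hle
  exact (disjoint_self.mp (hle.mono_right hWK))

end Cfsg.Agent.S2813
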