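import Cfsg.Statements.S2818
import Cfsg.Agent.Lib.Helper7.Core

set_option autoImplicit false
open Cfsg

namespace Cfsg.Agent.S2818

open Cfsg.Agent.Lib.Helper7
open scoped commutatorElement

/-- Elements of `Ω₁(Z(P))` lie in `P`, centralize `P` and have order dividing `p`. -/
theorem omega_center_mem {G : Type*} [Group G] (p : ℕ) (P : Subgroup G) (z : G)
    (hz : z ∈ Cfsg.omegaOne p (P ⊓ Subgroup.centralizer (P : Set G))) :
    z ∈ P ∧ z ∈ Subgroup.centralizer (P : Set G) ∧ z ^ p = 1 := by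
  let W : Subgroup G :=
    { carrier := {z | z ∈ P ∧ z ∈ Subgroup.centralizer (P : Set G) ∧ z ^ p = 1}
      mul_mem' := by
        rintro a b ⟨ha1, ha2, ha3⟩ ⟨hb1, hb2, hb3⟩
        refine ⟨P.mul_mem ha1 hb1, Subgroup.mul_mem _ ha2 hb2, ?_⟩
        have hc : Commute a b := (Subgroup.mem_centralizer_iff.mp hb2 a ha1)
        rw [hc.mul_pow, ha3, hb3, one_mul]
      one_mem' := ⟨P.one_mem, Subgroup.one_mem _, one_pow _⟩
      inv_mem' := by
        rintro a ⟨ha1, ha2, ha3⟩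
        exact ⟨P.inv_mem ha1, Subgroup.inv_mem _ ha2, by rw [inv_pow, ha3, inv_one]⟩ }
  have : Cfsg.omegaOne p (P ⊓ Subgroup.centralizer (P : Set G)) ≤ W := by
    unfold Cfsg.omegaOne
    rw [Subgroup.closure_le]
    rintro x ⟨⟨hx1, hx2⟩, hx3⟩
    exact ⟨hx1, hx2, hx3⟩
  exact this hz

theorem comm_calc {G : Type*} [Group G] (x y dx dy : G) (hdx : dx * (y * dy) = (y * dy) * dx)
    (hdy : dy * x⁻¹ = x⁻¹ * dy) :
    x * dx * (y * dy) * (x * dx)⁻¹ * (y * dy)⁻¹ = x * y * x⁻¹ * y⁻¹ := by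
  calc x * dx * (y * dy) * (x * dx)⁻¹ * (y * dy)⁻¹
      = x * (dx * (y * dy)) * dx⁻¹ * x⁻¹ * (dy⁻¹ * y⁻¹) := by group
    _ = x * ((y * dy) * dx) * dx⁻¹ * x⁻¹ * (dy⁻¹ * y⁻¹) := by rw [hdx]
    _ = x * y * (dy * x⁻¹) * (dy⁻¹ * y⁻¹) := by group
    _ = x * y * (x⁻¹ * dy) * (dy⁻¹ * y⁻¹) := by rw [hdy]
    _ = x * y * x⁻¹ * y⁻¹ := by group

/-- If H normalizes the p-subgroup P and the commutator subgroup ⁅P, H⁆ lies in the subgroup generated by the elements of order dividing p in the centre of P, then H centralizes the Frattini subgroup of P. -/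
theorem result {G : Type*} [Group G] [Finite G] {p : ℕ} [Fact p.Prime] (P : Subgroup G) (hP : IsPGroup p ↥P) (H : Subgroup G) (hH : H ≤ Subgroup.normalizer (P : Set G)) (h : ⁅P, H⁆ ≤ Cfsg.omegaOne p (P ⊓ Subgroup.centralizer (P : Set G))) : ⁅(frattini ↥P).map P.subtype, H⁆ = ⊥ := by
  rw [Subgroup.commutator_eq_bot_iff_le_centralizer]
  -- for x ∈ P, k ∈ H: d = x⁻¹ * (k * x * k⁻¹) is central of order p
  have hd : ∀ k ∈ H, ∀ x ∈ P, (x⁻¹ * (k * x * k⁻¹)) ∈ P ∧
      (x⁻¹ * (k * x * k⁻¹)) ∈ Subgroup.centralizer (P : Set G) ∧ (x⁻¹ * (k * x * k⁻¹)) ^ p = 1 := by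
    intro k hk x hx
    apply omega_center_mem p P
    apply h
    have := Subgroup.commutator_mem_commutator (P.inv_mem hx) hk
    have e : ⁅x⁻¹, k⁆ = x⁻¹ * (k * x * k⁻¹) := by
      rw [commutatorElement_def]; group
    rwa [e] at this
  rintro _ ⟨y, hy, rfl⟩
  rw [Subgroup.mem_centralizer_iff]
  intro k hk
  -- K_k : the fixed points of conjugation by k on P
  let K : Subgroup P :=
    { carrier := {x : P | k * (x : G) * k⁻¹ = x}
      mul_mem' := by
        intro a b ha hb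
        simp only [Set.mem_ofPred_eq] at ha hb ⊢
        rw [Subgroup.coe_mul]
        calc k * ((a : G) * b) * k⁻¹ = (k * a * k⁻¹) * (k * b * k⁻¹) := by group
          _ = a * b := by rw [ha, hb]
      one_mem' := by simp
      inv_mem' := by
        intro a ha
        simp only [Set.mem_ofPred_eq] at ha ⊢
        rw [Subgroup.coe_inv]
        calc k * (a : G)⁻¹ * k⁻¹ = (k * a * k⁻¹)⁻¹ := by group
          _ = (a : G)⁻¹ := by rw [ha] }
  have hfr : frattini ↥P ≤ K := by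
    apply frattini_le_of_elemAb_quotient p K
    · intro x y
      show k * ((x * y * x⁻¹ * y⁻¹ : P) : G) * k⁻¹ = ((x * y * x⁻¹ * y⁻¹ : P) : G)
      simp only [Subgroup.coe_mul, Subgroup.coe_inv]
      obtain ⟨hx1, hx2, -⟩ := hd k hk x x.2
      obtain ⟨hy1, hy2, -⟩ := hd k hk y y.2
      set dx := (x : G)⁻¹ * (k * x * k⁻¹) with hdx
      set dy := (y : G)⁻¹ * (k * y * k⁻¹) with hdy
      have ex : k * (x : G) * k⁻¹ = x * dx := by rw [hdx]; group
      have ey : k * (y : G) * k⁻¹ = y * dy := by rw [hdy]; group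
      calc k * ((x : G) * y * (x : G)⁻¹ * (y : G)⁻¹) * k⁻¹
          = (k * x * k⁻¹) * (k * y * k⁻¹) * (k * x * k⁻¹)⁻¹ * (k * y * k⁻¹)⁻¹ := by group
        _ = (x * dx) * (y * dy) * (x * dx)⁻¹ * (y * dy)⁻¹ := by rw [ex, ey]
        _ = (x : G) * y * (x : G)⁻¹ * (y : G)⁻¹ := by
          apply comm_calc
          · exact (Subgroup.mem_centralizer_iff.mp hx2 _ (P.mul_mem y.2 hy1)).symm
          · exact (Subgroup.mem_centralizer_iff.mp hy2 _ (P.inv_mem x.2)).symm
    · intro x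
      show k * ((x ^ p : P) : G) * k⁻¹ = ((x ^ p : P) : G)
      rw [Subgroup.coe_pow]
      obtain ⟨hx1, hx2, hx3⟩ := hd k hk x x.2
      set dx := (x : G)⁻¹ * (k * x * k⁻¹) with hdx
      have ex : k * (x : G) * k⁻¹ = x * dx := by rw [hdx]; group
      have hc : Commute (x : G) dx := Subgroup.mem_centralizer_iff.mp hx2 _ x.2
      calc k * (x : G) ^ p * k⁻¹ = (k * x * k⁻¹) ^ p := by rw [conj_pow]
        _ = (x * dx) ^ p := by rw [ex]
        _ = (x : G) ^ p := by rw [hc.mul_pow, hx3, mul_one]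
  have : k * ((y : P) : G) * k⁻¹ = y := hfr hy
  show k * (P.subtype y) = (P.subtype y) * k
  rw [Subgroup.coe_subtype]
  calc k * (y : G) = (k * y * k⁻¹) * k := by group
    _ = y * k := by rw [this]

end Cfsg.Agent.S2818
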