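import Cfsg.Statements.S2834
import Cfsg.Agent.Lib.Helper8.LLemmaC

set_option autoImplicit false
open Cfsg

namespace Cfsg.Agent.S2834

open Cfsg.Agent.Lib.Helper7 Cfsg.Agent.Lib.Helper8.LLemma in
/-- `O_p` of the whole group, as `pCoreOf p ⊤`. -/
theorem pCoreOf_top_eq {H : Type*} [Group H] {p : ℕ} :
    Cfsg.pCoreOf p (⊤ : Subgroup H) = Cfsg.pCore p H := by
  apply le_antisymm
  · have hn : (Cfsg.pCoreOf p (⊤ : Subgroup H)).Normal := by
      rw [← Subgroup.normalizer_eq_top_iff, eq_top_iff]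
      exact le_normalizer_pCoreOf ⊤
    exact le_pCore hn (pCoreOf_isPGroup ⊤)
  · refine le_pCoreOf le_top ?_ (pCore_isPGroup p H)
    rw [Subgroup.normalizer_eq_top_iff.mpr (pCore_normal p H)]

open Cfsg.Agent.Lib.Helper8.LLemma in
/-- The L-Lemma: let H be a finite group with Sylow p-subgroup T such that H is T-minimal (generated by the conjugates of T, T in exactly one maximal subgroup M), and let A ≤ T with A not contained in O_p(H). Then there is a subgroup L of H containing A·O_p(H) such that (a) A·O_p(L) lies in exactly one maximal subgroup L₀ of L, and L₀ = L ∩ gMg⁻¹ for some g ∈ H; (b) L = ⟨A, xAx⁻¹⟩·O_p(L) for every x ∈ L outside L₀. -/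
theorem result {H : Type*} [Group H] [Finite H] {p : ℕ} [Fact p.Prime] (T : Sylow p H) (hmin : Cfsg.IsMinimalOver (T : Subgroup H)) (M : Subgroup H) (hM : IsCoatom M ∧ (T : Subgroup H) ≤ M) (A : Subgroup H) (hAT : A ≤ (T : Subgroup H)) (hA : ¬ A ≤ Cfsg.pCore p H) : ∃ L : Subgroup H, A ⊔ Cfsg.pCore p H ≤ L ∧ ∃ L₀ : Subgroup H, A ⊔ (Cfsg.pCoreOf p L) ≤ L₀ ∧ L₀ < L ∧ (∀ X : Subgroup H, A ⊔ (Cfsg.pCoreOf p L) ≤ X → X < L → X ≤ L₀) ∧ (∃ g : H, L₀ = L ⊓ ((M : Subgroup H).map (MulAut.conj (g : H)).toMonoidHom)) ∧ ∀ x ∈ L, x ∉ L₀ → (A ⊔ ((A : Subgroup H).map (MulAut.conj (x : H)).toMonoidHom)) ⊔ (Cfsg.pCoreOf p L) = L := by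
  have hcoatom : ∀ M' : Subgroup H, RCoatom ⊤ M' ↔ IsCoatom M' := by
    intro M'
    constructor
    · intro h
      refine ⟨h.1.ne, ?_⟩
      intro Y hY
      rcases h.2 Y hY.le le_top with h1 | h1
      · exact absurd h1 hY.ne'
      · exact h1
    · intro h
      refine ⟨lt_top_iff_ne_top.mpr h.1, ?_⟩
      intro Y hY _
      by_cases hYM : Y = M'
      · left; exact hYM
      · right; exact h.2 Y (lt_of_le_of_ne hY (Ne.symm hYM))
  have hyp : Hyp p (⊤ : Subgroup H) (T : Subgroup H) M :=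
    { hTH := le_top
      hTp := T.isPGroup'
      hTmax := fun P _ hP hTP => T.is_maximal' hP hTP
      hncl := by
        intro N hTN _ hN
        have hn : N.Normal := Subgroup.normalizer_eq_top_iff.mp (eq_top_iff.mpr hN)
        have h1 : Subgroup.normalClosure ((T : Subgroup H) : Set H) ≤ N :=
          Subgroup.normalClosure_le_normal hTN
        rw [hmin.1] at h1
        exact eq_top_iff.mpr h1
      hM := (hcoatom M).mpr hM.1
      hTM := hM.2
      huniq := fun M' hM' hTM' =>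
        hmin.2.unique ⟨(hcoatom M').mp hM', hTM'⟩ ⟨hM.1, hM.2⟩ }
  have hA' : ¬ A ≤ Cfsg.pCoreOf p (⊤ : Subgroup H) := by rwa [pCoreOf_top_eq]
  obtain ⟨L, -, hAL, L₀, h1, h2, h3, ⟨g, -, h4⟩, h5⟩ :=
    main_aux (Nat.card ↥(⊤ : Subgroup H)) ⊤ (T : Subgroup H) M A rfl hyp le_top
      (T.isPGroup'.to_le hAT) hA'
  rw [pCoreOf_top_eq] at hAL
  exact ⟨L, hAL, L₀, h1, h2, h3, ⟨g, h4⟩, h5⟩

end Cfsg.Agent.S2834
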