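import Mathlib
import Cfsg.Statements.S2873
import Cfsg.Agent.H1.Cores
import Cfsg.Agent.H1.TwoIrrational

set_option autoImplicit false
set_option maxHeartbeats 1000000
open Cfsg

namespace Cfsg.Agent.S2873

open DihedralGroup

/-- Let G be a finite group and r an odd prime such that G ⧸ O₂(G) is dihedral of order 2r, and let R be a Sylow r-subgroup of G with C_{O₂(G)}(R) = 1. Then N_G(R) is dihedral of order 2r; for any involution a of N_G(R), every involution of G outside O₂(G) is conjugate to a; and |C_{O₂(G)}(a)|² = |O₂(G)|. -/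
theorem result {G : Type*} [Group G] [Finite G] {r : ℕ} [Fact r.Prime] (hr : r ≠ 2) [hN : (Cfsg.pCore 2 G).Normal] (hquot : Nonempty (G ⧸ Cfsg.pCore 2 G ≃* DihedralGroup r)) (R : Sylow r G) (hC : Cfsg.pCore 2 G ⊓ Subgroup.centralizer ((R : Subgroup G) : Set G) = ⊥) : Nonempty (↥(Subgroup.normalizer ((R : Subgroup G) : Set G)) ≃* DihedralGroup r) ∧ ∀ a : G, a ∈ Subgroup.normalizer ((R : Subgroup G) : Set G) → orderOf a = 2 → (∀ b : G, orderOf b = 2 → b ∉ Cfsg.pCore 2 G → ∃ g : G, g * a * g⁻¹ = b) ∧ Nat.card ↥(Cfsg.pCore 2 G ⊓ Subgroup.centralizer ({a} : Set G)) ^ 2 = Nat.card ↥(Cfsg.pCore 2 G) := by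
  classical
  haveI : Fact (Nat.Prime 2) := ⟨Nat.prime_two⟩
  have hrp : r.Prime := Fact.out
  haveI : NeZero r := ⟨hrp.ne_zero⟩
  have hrodd : Odd r := hrp.odd_of_ne_two hr
  obtain ⟨m₀, hm₀⟩ := hrodd
  set Q := Cfsg.pCore 2 G with hQ
  have hQ2 : IsPGroup 2 Q := Cfsg.Agent.H1.pCore_isPGroup 2
  set N := Subgroup.normalizer ((R : Subgroup G) : Set G) with hNdef
  obtain ⟨e⟩ := hquot
  let η : G →* DihedralGroup r := e.toMonoidHom.comp (QuotientGroup.mk' Q)
  have hηsurj : Function.Surjective η := e.surjective.comp (QuotientGroup.mk'_surjective Q)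
  have hηker : ∀ x : G, η x = 1 ↔ x ∈ Q := by
    intro x
    show e (QuotientGroup.mk' Q x) = 1 ↔ _
    rw [MulEquiv.map_eq_one_iff, QuotientGroup.mk'_apply, QuotientGroup.eq_one_iff]
  have hηeq : ∀ x y : G, η x = η y → x⁻¹ * y ∈ Q := by
    intro x y h; rw [← hηker, map_mul, map_inv, h, inv_mul_cancel]
  have hQconj : ∀ g q : G, q ∈ Q → g * q * g⁻¹ ∈ Q := fun g q hq => hN.conj_mem q hq g
  -- the order of G and of R
  have hcardG : Nat.card G = 2 * r * Nat.card Q := by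
    rw [Subgroup.card_eq_card_quotient_mul_card_subgroup Q, Nat.card_congr e.toEquiv,
      DihedralGroup.nat_card]
  have hRcard : Nat.card (R : Subgroup G) = r := by
    obtain ⟨m, hm⟩ := (IsPGroup.iff_card).mp hQ2
    obtain ⟨k, hk⟩ := (IsPGroup.iff_card).mp R.isPGroup'
    have hdvdG : r ∣ Nat.card G := by
      rw [hcardG]; exact Dvd.dvd.mul_right (Dvd.intro_left 2 rfl) _
    have h1 : r ∣ Nat.card (R : Subgroup G) := R.dvd_card_of_dvd_card hdvdG
    have h2 : Nat.card (R : Subgroup G) ∣ Nat.card G := Subgroup.card_subgroup_dvd_card _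
    rw [hk] at h1 h2 ⊢
    rw [hcardG, hm] at h2
    have hcop : Nat.Coprime (r ^ k) (2 ^ (m + 1)) :=
      Nat.Coprime.pow _ _ ((Nat.coprime_primes hrp Nat.prime_two).mpr hr)
    have h3 : r ^ k ∣ r := by
      have : 2 * r * 2 ^ m = 2 ^ (m + 1) * r := by ring
      rw [this] at h2
      exact hcop.dvd_of_dvd_mul_left h2
    have hk1 : k ≠ 0 := by
      rintro rfl
      rw [pow_zero, Nat.dvd_one] at h1
      exact hrp.one_lt.ne' h1
    have hk2 : k ≤ 1 := by
      by_contra h; push_neg at h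
      have h4 : r ^ 2 ∣ r := (pow_dvd_pow r h).trans h3
      have h5 := Nat.le_of_dvd hrp.pos h4
      nlinarith [hrp.two_le]
    have : k = 1 := by omega
    rw [this, pow_one]
  -- R ∩ Q = 1
  have hRQ : ∀ z : G, z ∈ (R : Subgroup G) → z ∈ Q → z = 1 := by
    intro z hzR hzQ
    have h1 : orderOf z ∣ r := by
      have := Subgroup.orderOf_dvd_natCard (R : Subgroup G) hzR
      rwa [hRcard] at this
    obtain ⟨k, hk⟩ := hQ2 ⟨z, hzQ⟩
    have hk' : z ^ (2 ^ k) = 1 := by
      have := congrArg Subtype.val hk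
      simpa using this
    have h2 : orderOf z ∣ 2 ^ k := orderOf_dvd_of_pow_eq_one hk'
    have hcop : Nat.Coprime r (2 ^ k) :=
      Nat.Coprime.pow_right _ ((Nat.coprime_primes hrp Nat.prime_two).mpr hr)
    have h3 := Nat.dvd_gcd h1 h2
    rw [hcop.gcd_eq_one, Nat.dvd_one] at h3
    exact orderOf_eq_one_iff.mp h3
  -- a generator of R
  have hRne : (R : Subgroup G) ≠ ⊥ := by
    intro h
    rw [h, Subgroup.card_bot] at hRcard
    exact hrp.one_lt.ne hRcard
  obtain ⟨⟨x₀, hx₀R⟩, hx₀ne⟩ := (Subgroup.ne_bot_iff_exists_ne_one).mp hRne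
  have hx₀1 : x₀ ≠ 1 := fun h => hx₀ne (Subtype.ext h)
  have hox₀ : orderOf x₀ = r := by
    have h1 : orderOf x₀ ∣ r := by
      have := Subgroup.orderOf_dvd_natCard (R : Subgroup G) hx₀R
      rwa [hRcard] at this
    rcases (Nat.dvd_prime hrp).mp h1 with h | h
    · exact absurd (orderOf_eq_one_iff.mp h) hx₀1
    · exact h
  have hzR : Subgroup.zpowers x₀ = (R : Subgroup G) :=
    Subgroup.eq_of_le_of_card_ge (Subgroup.zpowers_le.2 hx₀R)
      (by rw [Nat.card_zpowers, hox₀, hRcard])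
  have hCx : ∀ u : G, u ∈ Q → u * x₀ = x₀ * u → u = 1 := by
    intro u hu hux
    have hcen : u ∈ Subgroup.centralizer ((R : Subgroup G) : Set G) := by
      rw [Subgroup.mem_centralizer_iff]
      intro h hh
      have hh' : h ∈ Subgroup.zpowers x₀ := by rw [hzR]; exact hh
      obtain ⟨k, rfl⟩ := hh'
      have hc : Commute x₀ u := hux.symm
      exact (hc.zpow_left k).eq
    have : u ∈ Q ⊓ Subgroup.centralizer ((R : Subgroup G) : Set G) := ⟨hu, hcen⟩
    rw [hC] at this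
    exact Subgroup.mem_bot.mp this
  have hCx' : ∀ u : G, u ∈ Q → u * x₀⁻¹ = x₀⁻¹ * u → u = 1 := by
    intro u hu hux
    apply hCx u hu
    have hc : Commute u x₀⁻¹ := hux
    have := hc.inv_right
    rw [inv_inv] at this
    exact this.eq
  -- Claim A
  have claimA : ∀ w : G, (∀ u : G, u ∈ Q → u * w = w * u → u = 1) → ∀ u ∈ Q,
      ∃ q ∈ Q, u * w = q * w * q⁻¹ := by
    intro w hw u hu
    let f : ↥Q → ↥Q := fun q => ⟨q * w * (q : G)⁻¹ * w⁻¹, by
      have h1 : w * (q : G)⁻¹ * w⁻¹ ∈ Q := hQconj w _ (Q.inv_mem q.2)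
      have h2 : (q : G) * w * (q : G)⁻¹ * w⁻¹ = (q : G) * (w * (q : G)⁻¹ * w⁻¹) := by group
      rw [h2]; exact Q.mul_mem q.2 h1⟩
    have hinj : Function.Injective f := by
      intro q q' hqq
      have h1 : (q : G) * w * (q : G)⁻¹ * w⁻¹ = (q' : G) * w * (q' : G)⁻¹ * w⁻¹ :=
        congrArg Subtype.val hqq
      have h2 : (q : G) * w * (q : G)⁻¹ = (q' : G) * w * (q' : G)⁻¹ := mul_right_cancel h1
      have h3 : ((q' : G)⁻¹ * q) * w = w * ((q' : G)⁻¹ * q) := by
        calc ((q' : G)⁻¹ * q) * w = (q' : G)⁻¹ * ((q : G) * w * (q : G)⁻¹) * q := by group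
          _ = (q' : G)⁻¹ * ((q' : G) * w * (q' : G)⁻¹) * q := by rw [h2]
          _ = w * ((q' : G)⁻¹ * q) := by group
      have h4 := hw _ (Q.mul_mem (Q.inv_mem q'.2) q.2) h3
      apply Subtype.ext
      calc (q : G) = q' * ((q' : G)⁻¹ * q) := by group
        _ = q' := by rw [h4, mul_one]
    have hsurj := Finite.injective_iff_surjective.mp hinj
    obtain ⟨q, hq⟩ := hsurj ⟨u, hu⟩
    have hq' : (q : G) * w * (q : G)⁻¹ * w⁻¹ = u := congrArg Subtype.val hq
    refine ⟨q, q.2, ?_⟩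
    rw [← hq']; group
  -- N ∩ Q = 1
  have hRN : (R : Subgroup G) ≤ N := Subgroup.le_normalizer
  have hNQ : ∀ x : G, x ∈ N → x ∈ Q → x = 1 := by
    intro x hxN hxQ
    apply hCx x hxQ
    have h1 : x * x₀ * x⁻¹ ∈ (R : Subgroup G) := (Subgroup.mem_normalizer_iff.mp hxN x₀).mp hx₀R
    have h2 : x * x₀ * x⁻¹ * x₀⁻¹ ∈ (R : Subgroup G) :=
      (R : Subgroup G).mul_mem h1 ((R : Subgroup G).inv_mem hx₀R)
    have h3 : x * x₀ * x⁻¹ * x₀⁻¹ ∈ Q := by
      have : x * x₀ * x⁻¹ * x₀⁻¹ = x * (x₀ * x⁻¹ * x₀⁻¹) := by group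
      rw [this]
      exact Q.mul_mem hxQ (hQconj x₀ _ (Q.inv_mem hxQ))
    have h4 := hRQ _ h2 h3
    calc x * x₀ = (x * x₀ * x⁻¹ * x₀⁻¹) * (x₀ * x) := by group
      _ = x₀ * x := by rw [h4, one_mul]
  have hNinj : ∀ x y : G, x ∈ N → y ∈ N → η x = η y → x = y := by
    intro x y hx hy h
    have h1 := hNQ _ (N.mul_mem (N.inv_mem hx) hy) (hηeq x y h)
    calc x = y * (x⁻¹ * y)⁻¹ := by group
      _ = y := by rw [h1, inv_one, mul_one]
  have hmemN : ∀ n : G, n * x₀ * n⁻¹ ∈ Subgroup.zpowers x₀ → n ∈ N := by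
    intro n hn
    have := Cfsg.Agent.H1.mem_normalizer_zpowers_of_conj_mem n x₀ hn
    rw [hzR] at this
    exact this
  -- the image of x₀ is a rotation
  have hηQ : ∀ q ∈ Q, η q = 1 := fun q hq => (hηker q).mpr hq
  obtain ⟨j, hj⟩ : ∃ j, η x₀ = DihedralGroup.r j := by
    cases h : η x₀ with
    | r j => exact ⟨j, rfl⟩
    | sr k =>
      exfalso
      have h1 : η (x₀ * x₀) = 1 := by rw [map_mul, h, sr_mul_self]
      have h2 : x₀ * x₀ ∈ Q := (hηker _).mp h1
      have h3 := hRQ _ ((R : Subgroup G).mul_mem hx₀R hx₀R) h2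
      have h4 : orderOf x₀ ∣ 2 := orderOf_dvd_of_pow_eq_one (by rw [pow_two]; exact h3)
      rw [hox₀] at h4
      have := Nat.le_of_dvd (by norm_num) h4
      have := hrp.two_le
      omega
  -- surjectivity on N
  have hNsurj : ∀ d : DihedralGroup r, ∃ n ∈ N, η n = d := by
    intro d
    obtain ⟨y, hy⟩ := hηsurj d
    have hw : ∃ w : G, (w = x₀ ∨ w = x₀⁻¹) ∧ η (y * x₀ * y⁻¹) = η w := by
      cases hd : d with
      | r k =>
        refine ⟨x₀, Or.inl rfl, ?_⟩
        rw [map_mul, map_mul, map_inv, hy, hd, hj, inv_r, r_mul_r, r_mul_r]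
        congr 1; ring
      | sr k =>
        refine ⟨x₀⁻¹, Or.inr rfl, ?_⟩
        rw [map_mul, map_mul, map_inv, map_inv, hy, hd, hj, inv_sr, sr_mul_r, sr_mul_sr, inv_r]
        congr 1; ring
    obtain ⟨w, hw1, hw2⟩ := hw
    have hwC : ∀ u : G, u ∈ Q → u * w = w * u → u = 1 := by
      rcases hw1 with rfl | rfl
      · exact hCx
      · exact hCx'
    have hu : y * x₀ * y⁻¹ * w⁻¹ ∈ Q := by
      rw [← hηker, map_mul, hw2, map_inv, mul_inv_cancel]
    obtain ⟨q, hqQ, hq⟩ := claimA w hwC _ hu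
    have hq' : y * x₀ * y⁻¹ = q * w * q⁻¹ := by
      rw [← hq]; group
    refine ⟨q⁻¹ * y, ?_, ?_⟩
    · apply hmemN
      have : q⁻¹ * y * x₀ * (q⁻¹ * y)⁻¹ = w := by
        calc q⁻¹ * y * x₀ * (q⁻¹ * y)⁻¹ = q⁻¹ * (y * x₀ * y⁻¹) * q := by group
          _ = q⁻¹ * (q * w * q⁻¹) * q := by rw [hq']
          _ = w := by group
      rw [this]
      rcases hw1 with rfl | rfl
      · exact Subgroup.mem_zpowers _
      · exact Subgroup.inv_mem _ (Subgroup.mem_zpowers _)
    · rw [map_mul, map_inv, hηQ q hqQ, inv_one, one_mul, hy]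
  -- first part
  refine ⟨?_, ?_⟩
  · let ψ : ↥N →* DihedralGroup r := η.comp N.subtype
    have hψ : Function.Bijective ψ := by
      constructor
      · intro x y hxy
        exact Subtype.ext (hNinj x y x.2 y.2 hxy)
      · intro d
        obtain ⟨n, hn, hnd⟩ := hNsurj d
        exact ⟨⟨n, hn⟩, hnd⟩
    exact ⟨MulEquiv.ofBijective ψ hψ⟩
  -- second part
  intro a haN ha2
  have haa : a * a = 1 := by rw [← pow_two, ← ha2]; exact pow_orderOf_eq_one a
  have hainv : a⁻¹ = a := inv_eq_of_mul_eq_one_right haa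
  have ha1 : a ≠ 1 := by intro h; rw [h, orderOf_one] at ha2; norm_num at ha2
  have haQ : a ∉ Q := fun h => ha1 (hNQ a haN h)
  -- involutions outside Q map to reflections
  have hinvol : ∀ s : G, s * s = 1 → s ∉ Q → ∃ i, η s = DihedralGroup.sr i := by
    intro s hss hsQ
    cases h : η s with
    | sr i => exact ⟨i, rfl⟩
    | r k =>
      exfalso
      apply hsQ
      have h1 : η (s ^ r) = 1 := by
        rw [map_pow, h, r_pow, ZMod.natCast_self, mul_zero, r_zero]
      have h2 : s ^ r = s := by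
        rw [hm₀, pow_succ, pow_mul, pow_two, hss, one_pow, one_mul]
      rw [h2] at h1
      exact (hηker s).mp h1
  obtain ⟨i, hi⟩ := hinvol a haa haQ
  -- the half
  have hhalf : (2 : ZMod r) * (((r - 1) / 2 : ℕ) : ZMod r) = -1 := by
    have h1 : 2 * ((r - 1) / 2) = r - 1 := by omega
    calc (2 : ZMod r) * (((r - 1) / 2 : ℕ) : ZMod r) = ((2 * ((r - 1) / 2) : ℕ) : ZMod r) := by
          push_cast; ring
      _ = ((r - 1 : ℕ) : ZMod r) := by rw [h1]
      _ = -1 := by rw [Nat.cast_sub hrp.one_le, ZMod.natCast_self, Nat.cast_one, zero_sub]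
  have hconjD : ∀ (i₁ i₂ : ZMod r), ∃ k : ZMod r,
      DihedralGroup.r k * DihedralGroup.sr i₁ * (DihedralGroup.r k)⁻¹ = DihedralGroup.sr i₂ := by
    intro i₁ i₂
    refine ⟨(i₁ - i₂) * (((r - 1) / 2 : ℕ) : ZMod r) * (-1), ?_⟩
    rw [r_mul_sr, inv_r, sr_mul_r]
    congr 1
    have : (i₁ - i₂) * (((r - 1) / 2 : ℕ) : ZMod r) * (-1) +
        (i₁ - i₂) * (((r - 1) / 2 : ℕ) : ZMod r) * (-1) =
        -((i₁ - i₂) * ((2 : ZMod r) * (((r - 1) / 2 : ℕ) : ZMod r))) := by ring
    have h2 : i₁ - (i₁ - i₂) * (((r - 1) / 2 : ℕ) : ZMod r) * (-1) +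
        -((i₁ - i₂) * (((r - 1) / 2 : ℕ) : ZMod r) * (-1)) =
        i₁ + (i₁ - i₂) * ((2 : ZMod r) * (((r - 1) / 2 : ℕ) : ZMod r)) := by ring
    rw [h2, hhalf]; ring
  -- the second involution
  set b := a * x₀ with hb
  have hbN : b ∈ N := N.mul_mem haN (hRN hx₀R)
  have hηb : η b = DihedralGroup.sr (i + j) := by rw [hb, map_mul, hi, hj, sr_mul_r]
  have hbb : b * b = 1 := by
    apply hNQ _ (N.mul_mem hbN hbN)
    rw [← hηker, map_mul, hηb, sr_mul_self]
  have hab : a * b = x₀ := by rw [hb, ← mul_assoc, haa, one_mul]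
  obtain ⟨k, hk⟩ := hconjD i (i + j)
  obtain ⟨g, hgN, hg⟩ := hNsurj (DihedralGroup.r k)
  have hgab : g * a * g⁻¹ = b := by
    apply hNinj _ _ (N.mul_mem (N.mul_mem hgN haN) (N.inv_mem hgN)) hbN
    rw [map_mul, map_mul, map_inv, hg, hi, hk, hηb]
  -- Claim B
  have claimB : ∀ s t : G, s * s = 1 → t * t = 1 → η s = η a → η t = η b →
      ∃ q ∈ Q, s = q * a * q⁻¹ ∧ t = q * b * q⁻¹ := by
    intro s t hss htt hs ht
    have hu : s * t * x₀⁻¹ ∈ Q := by
      rw [← hηker, map_mul, map_mul, hs, ht, ← map_mul, hab, map_inv, mul_inv_cancel]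
    obtain ⟨q, hqQ, hq⟩ := claimA x₀ hCx _ hu
    have hst : s * t = q * x₀ * q⁻¹ := by rw [← hq]; group
    set s' := q⁻¹ * s * q with hs'
    set t' := q⁻¹ * t * q with ht'
    have hs't' : s' * t' = x₀ := by
      calc s' * t' = q⁻¹ * (s * t) * q := by rw [hs', ht']; group
        _ = q⁻¹ * (q * x₀ * q⁻¹) * q := by rw [hst]
        _ = x₀ := by group
    have hs's' : s' * s' = 1 := by
      calc s' * s' = q⁻¹ * (s * s) * q := by rw [hs']; group
        _ = 1 := by rw [hss]; group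
    have ht't' : t' * t' = 1 := by
      calc t' * t' = q⁻¹ * (t * t) * q := by rw [ht']; group
        _ = 1 := by rw [htt]; group
    have hs'inv : s'⁻¹ = s' := inv_eq_of_mul_eq_one_right hs's'
    have hconj : s' * x₀ * s'⁻¹ = x₀⁻¹ := by
      rw [hs'inv, ← hs't']
      have h1 : (s' * t') * (t' * s') = 1 := by
        calc (s' * t') * (t' * s') = s' * (t' * t') * s' := by group
          _ = 1 := by rw [ht't', mul_one, hs's']
      calc s' * (s' * t') * s' = (s' * s') * (t' * s') := by group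
        _ = t' * s' := by rw [hs's', one_mul]
        _ = (s' * t')⁻¹ := (inv_eq_of_mul_eq_one_right h1).symm
    have hs'N : s' ∈ N := by
      apply hmemN
      rw [hconj]
      exact Subgroup.inv_mem _ (Subgroup.mem_zpowers _)
    have hηs' : η s' = η a := by
      rw [hs', map_mul, map_mul, map_inv, hηQ q hqQ, inv_one, one_mul, mul_one, hs]
    have hs'a : s' = a := hNinj _ _ hs'N haN hηs'
    have ht'b : t' = b := by
      calc t' = s'⁻¹ * (s' * t') := by group
        _ = a * x₀ := by rw [hs't', hs'inv, hs'a]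
    refine ⟨q, hqQ, ?_, ?_⟩
    · calc s = q * s' * q⁻¹ := by rw [hs']; group
        _ = q * a * q⁻¹ := by rw [hs'a]
    · calc t = q * t' * q⁻¹ := by rw [ht']; group
        _ = q * b * q⁻¹ := by rw [ht'b]
  refine ⟨?_, ?_⟩
  · -- conjugacy
    intro b' hb'2 hb'Q
    have hb'b' : b' * b' = 1 := by rw [← pow_two, ← hb'2]; exact pow_orderOf_eq_one b'
    obtain ⟨i', hi'⟩ := hinvol b' hb'b' hb'Q
    obtain ⟨k', hk'⟩ := hconjD i i'
    obtain ⟨h, hh⟩ := hηsurj (DihedralGroup.r k')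
    set s := h⁻¹ * b' * h with hs
    have hss : s * s = 1 := by
      calc s * s = h⁻¹ * (b' * b') * h := by rw [hs]; group
        _ = 1 := by rw [hb'b']; group
    have hηs : η s = η a := by
      rw [hs, map_mul, map_mul, map_inv, hh, hi', ← hk', hi]
      group
    obtain ⟨q, -, hq, -⟩ := claimB s b hss hbb hηs rfl
    refine ⟨h * q, ?_⟩
    calc h * q * a * (h * q)⁻¹ = h * (q * a * q⁻¹) * h⁻¹ := by group
      _ = h * s * h⁻¹ := by rw [← hq]
      _ = b' := by rw [hs]; group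
  · -- counting
    set Ca := Q ⊓ Subgroup.centralizer ({a} : Set G) with hCa
    set Cb := Q ⊓ Subgroup.centralizer ({b} : Set G) with hCb
    have hmemCa : ∀ x : G, x ∈ Ca ↔ x ∈ Q ∧ x * a = a * x := by
      intro x
      rw [hCa, Subgroup.mem_inf, Subgroup.mem_centralizer_singleton_iff]
    have hmemCb : ∀ x : G, x ∈ Cb ↔ x ∈ Q ∧ x * b = b * x := by
      intro x
      rw [hCb, Subgroup.mem_inf, Subgroup.mem_centralizer_singleton_iff]
    let f : ↥Cb × ↥Ca → ↥Q := fun p => ⟨(p.1 : G) * (p.2 : G),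
      Q.mul_mem ((hmemCb _).mp p.1.2).1 ((hmemCa _).mp p.2.2).1⟩
    have hf : Function.Bijective f := by
      constructor
      · rintro ⟨y, x⟩ ⟨y', x'⟩ hyx
        have h1 : (y : G) * x = (y' : G) * x' := congrArg Subtype.val hyx
        have hc : (y' : G)⁻¹ * y = (x' : G) * (x : G)⁻¹ := by
          calc (y' : G)⁻¹ * y = (y' : G)⁻¹ * ((y : G) * x) * (x : G)⁻¹ := by group
            _ = (y' : G)⁻¹ * ((y' : G) * x') * (x : G)⁻¹ := by rw [h1]
            _ = (x' : G) * (x : G)⁻¹ := by group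
        have hcb : (y' : G)⁻¹ * y ∈ Cb := Cb.mul_mem (Cb.inv_mem y'.2) y.2
        have hca : (y' : G)⁻¹ * y ∈ Ca := by rw [hc]; exact Ca.mul_mem x'.2 (Ca.inv_mem x.2)
        obtain ⟨hcQ, hcb'⟩ := (hmemCb _).mp hcb
        obtain ⟨-, hca'⟩ := (hmemCa _).mp hca
        have hcx : ((y' : G)⁻¹ * y) * x₀ = x₀ * ((y' : G)⁻¹ * y) := by
          rw [← hab]
          calc ((y' : G)⁻¹ * y) * (a * b) = (((y' : G)⁻¹ * y) * a) * b := by group
            _ = (a * ((y' : G)⁻¹ * y)) * b := by rw [hca']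
            _ = a * (((y' : G)⁻¹ * y) * b) := by group
            _ = a * (b * ((y' : G)⁻¹ * y)) := by rw [hcb']
            _ = a * b * ((y' : G)⁻¹ * y) := by group
        have hc1 := hCx _ hcQ hcx
        have hyy : (y : G) = y' := by
          calc (y : G) = y' * ((y' : G)⁻¹ * y) := by group
            _ = y' := by rw [hc1, mul_one]
        have hxx : (x : G) = x' := by
          rw [hyy] at h1
          exact mul_left_cancel h1
        exact Prod.ext (Subtype.ext hyy) (Subtype.ext hxx)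
      · rintro ⟨u, hu⟩
        have hss : (u * a * u⁻¹) * (u * a * u⁻¹) = 1 := by
          calc (u * a * u⁻¹) * (u * a * u⁻¹) = u * (a * a) * u⁻¹ := by group
            _ = 1 := by rw [haa]; group
        have hηs : η (u * a * u⁻¹) = η a := by
          rw [map_mul, map_mul, map_inv, hηQ u hu, inv_one, one_mul, mul_one]
        obtain ⟨q, hqQ, hq1, hq2⟩ := claimB (u * a * u⁻¹) b hss hbb hηs rfl
        have hqb : q * b = b * q := by
          calc q * b = (q * b * q⁻¹) * q := by group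
            _ = b * q := by rw [← hq2]
        have hxa : (q⁻¹ * u) * a = a * (q⁻¹ * u) := by
          calc (q⁻¹ * u) * a = q⁻¹ * (u * a * u⁻¹) * u := by group
            _ = q⁻¹ * (q * a * q⁻¹) * u := by rw [hq1]
            _ = a * (q⁻¹ * u) := by group
        refine ⟨(⟨q, (hmemCb q).mpr ⟨hqQ, hqb⟩⟩,
          ⟨q⁻¹ * u, (hmemCa _).mpr ⟨Q.mul_mem (Q.inv_mem hqQ) hu, hxa⟩⟩), ?_⟩
        apply Subtype.ext
        show q * (q⁻¹ * u) = u
        group
    have hcard1 : Nat.card ↥Cb * Nat.card ↥Ca = Nat.card ↥Q := by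
      rw [← Nat.card_prod]
      exact Nat.card_congr (Equiv.ofBijective f hf)
    have hcard2 : Nat.card ↥Cb = Nat.card ↥Ca := by
      symm
      apply Nat.card_congr
      refine (MulAut.conj g).toEquiv.subtypeEquiv (fun x => ?_)
      show x ∈ Ca ↔ g * x * g⁻¹ ∈ Cb
      rw [hmemCa, hmemCb]
      constructor
      · rintro ⟨hxQ, hxa⟩
        refine ⟨hQconj g x hxQ, ?_⟩
        rw [← hgab]
        calc g * x * g⁻¹ * (g * a * g⁻¹) = g * (x * a) * g⁻¹ := by group
          _ = g * (a * x) * g⁻¹ := by rw [hxa]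
          _ = g * a * g⁻¹ * (g * x * g⁻¹) := by group
      · rintro ⟨hxQ, hxb⟩
        constructor
        · have := hQconj g⁻¹ _ hxQ
          have h2 : g⁻¹ * (g * x * g⁻¹) * g⁻¹⁻¹ = x := by group
          rwa [h2] at this
        · rw [← hgab] at hxb
          calc x * a = g⁻¹ * (g * x * g⁻¹ * (g * a * g⁻¹)) * g := by group
            _ = g⁻¹ * (g * a * g⁻¹ * (g * x * g⁻¹)) * g := by rw [hxb]
            _ = a * x := by group
    rw [pow_two, ← hcard1, hcard2]

end Cfsg.Agent.S2873
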