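import Cfsg.Statements.S2874
import Cfsg.Agent.H9.A4GL2D

set_option autoImplicit false
open Cfsg

namespace Cfsg.Agent.S2874

/-- For k ≥ 2, any two subgroups of GL₂(ℤ/2ᵏℤ) (the automorphism group of the homocyclic group ℤ/2ᵏ × ℤ/2ᵏ) that are isomorphic to the alternating group of degree 4 are conjugate. -/
theorem result (k : ℕ) (hk : 2 ≤ k) (H₁ H₂ : Subgroup (GL (Fin 2) (ZMod (2 ^ k)))) (h₁ : Nonempty (↥H₁ ≃* ↥(alternatingGroup (Fin 4)))) (h₂ : Nonempty (↥H₂ ≃* ↥(alternatingGroup (Fin 4)))) : ∃ g : GL (Fin 2) (ZMod (2 ^ k)), H₂ = H₁.map (MulAut.conj g).toMonoidHom := by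
  obtain ⟨e₁⟩ := h₁
  obtain ⟨e₂⟩ := h₂
  have hk0 : k ≠ 0 := by omega
  obtain ⟨t₁, ht₁, ho₁, -, -⟩ := Cfsg.Agent.H9.A4GL2.structure_of_A4 hk H₁ e₁
  obtain ⟨t₂, ht₂, ho₂, -, hcov⟩ := Cfsg.Agent.H9.A4GL2.structure_of_A4 hk H₂ e₂
  obtain ⟨g, hg⟩ := Cfsg.Agent.H9.A4GL2.order3_conj hk0 t₁ t₂ ho₁ ho₂
  refine ⟨g, ?_⟩
  have hinj : Function.Injective (MulAut.conj g).toMonoidHom := (MulAut.conj g).injective
  let e₁' : ↥(H₁.map (MulAut.conj g).toMonoidHom) ≃* ↥(alternatingGroup (Fin 4)) :=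
    (H₁.equivMapOfInjective _ hinj).symm.trans e₁
  obtain ⟨-, -, -, hU, -⟩ := Cfsg.Agent.H9.A4GL2.structure_of_A4 hk _ e₁'
  have ht₂' : t₂ ∈ H₁.map (MulAut.conj g).toMonoidHom := by
    have h1 : Subgroup.zpowers t₂ ≤ H₁.map (MulAut.conj g).toMonoidHom := by
      rw [← hg]
      exact Subgroup.map_mono (by rw [Subgroup.zpowers_le]; exact ht₁)
    exact h1 (Subgroup.mem_zpowers t₂)
  have hle : H₂ ≤ H₁.map (MulAut.conj g).toMonoidHom := by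
    intro x hx
    obtain ⟨v, hv, n, hvU, rfl⟩ := hcov x hx
    refine Subgroup.mul_mem _ ?_ (Subgroup.pow_mem _ ht₂' n)
    rcases hvU with h | ⟨l, hl⟩
    · have : v = 1 := Units.ext h
      rw [this]; exact Subgroup.one_mem _
    · obtain ⟨u, hu, hul⟩ := hU l
      have : v = u := Units.ext (hl.trans hul.symm)
      rw [this]; exact hu
  refine Subgroup.eq_of_le_of_card_ge hle ?_
  rw [Nat.card_congr e₁'.toEquiv, Nat.card_congr e₂.toEquiv]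

end Cfsg.Agent.S2874
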