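import Cfsg.Statements.S2879
import Cfsg.Agent.Lib.Lead.QuatSylowSL23
import Cfsg.Agent.H2.QuasiDihedral
import Cfsg.Agent.H2.MaxClassTwo
import Cfsg.Agent.H1.Cores
import Cfsg.Agent.S1264

set_option autoImplicit false
open Cfsg

namespace Cfsg.Agent.S2879

open Cfsg.Agent.H2 Cfsg.Agent.Lead.QSyl Cfsg.Agent.S0257 Cfsg.Agent.S1303

/-- abstract properties shared by dihedral and semidihedral groups -/
structure DSD (S : Type*) [Group S] (a z : S) : Prop where
  z1 : z ≠ 1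
  zz : z * z = 1
  zA : z ∈ Subgroup.zpowers a
  idx : ∀ x y : S, x ∉ Subgroup.zpowers a → y ∉ Subgroup.zpowers a →
    x⁻¹ * y ∈ Subgroup.zpowers a
  sq : ∀ u : S, u ∉ Subgroup.zpowers a → u * u = 1 ∨ u * u = z
  inv : ∀ u : S, u ∉ Subgroup.zpowers a → ∀ c ∈ Subgroup.zpowers a, c ^ 4 = 1 →
    u * c * u⁻¹ = c⁻¹
  cen : ∀ w : S, (∀ t : S, w * t = t * w) → w = 1 ∨ w = z

/-- the same properties for a subgroup, stated in the ambient group -/
structure DSD' {G : Type*} [Group G] (T : Subgroup G) (a z : G) : Prop where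
  aT : a ∈ T
  z1 : z ≠ 1
  zz : z * z = 1
  zA : z ∈ Subgroup.zpowers a
  idx : ∀ x ∈ T, ∀ y ∈ T, x ∉ Subgroup.zpowers a → y ∉ Subgroup.zpowers a →
    x⁻¹ * y ∈ Subgroup.zpowers a
  sq : ∀ u ∈ T, u ∉ Subgroup.zpowers a → u * u = 1 ∨ u * u = z
  inv : ∀ u ∈ T, u ∉ Subgroup.zpowers a → ∀ c ∈ T, c ∈ Subgroup.zpowers a → c ^ 4 = 1 →
    u * c * u⁻¹ = c⁻¹
  cen : ∀ w ∈ T, (∀ t ∈ T, w * t = t * w) → w = 1 ∨ w = z

theorem DSD.map {S G : Type*} [Group S] [Group G] (f : S →* G) (hf : Function.Injective f)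
    {a z : S} (h : DSD S a z) : DSD' f.range (f a) (f z) := by
  have hmem : ∀ x : S, f x ∈ Subgroup.zpowers (f a) ↔ x ∈ Subgroup.zpowers a := by
    intro x
    constructor
    · intro hx
      obtain ⟨k, hk⟩ := Subgroup.mem_zpowers_iff.mp hx
      refine Subgroup.mem_zpowers_iff.mpr ⟨k, hf ?_⟩
      rw [map_zpow]; exact hk
    · intro hx
      obtain ⟨k, hk⟩ := Subgroup.mem_zpowers_iff.mp hx
      refine Subgroup.mem_zpowers_iff.mpr ⟨k, ?_⟩
      rw [← map_zpow, hk]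
  refine ⟨⟨a, rfl⟩, ?_, ?_, (hmem z).mpr h.zA, ?_, ?_, ?_, ?_⟩
  · intro h1; exact h.z1 (hf (h1.trans (map_one f).symm))
  · rw [← map_mul, h.zz, map_one]
  · rintro _ ⟨x, rfl⟩ _ ⟨y, rfl⟩ hx hy
    rw [← map_inv, ← map_mul, hmem]
    exact h.idx x y (fun h' => hx ((hmem x).mpr h')) (fun h' => hy ((hmem y).mpr h'))
  · rintro _ ⟨u, rfl⟩ hu
    rcases h.sq u (fun h' => hu ((hmem u).mpr h')) with h1 | h1
    · left; rw [← map_mul, h1, map_one]
    · right; rw [← map_mul, h1]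
  · rintro _ ⟨u, rfl⟩ hu _ ⟨c, rfl⟩ hc hc4
    rw [← map_inv, ← map_mul, ← map_mul, ← map_inv]
    congr 1
    apply h.inv u (fun h' => hu ((hmem u).mpr h')) c ((hmem c).mp hc)
    apply hf; rw [map_pow, hc4, map_one]
  · rintro _ ⟨w, rfl⟩ hw
    have : ∀ t : S, w * t = t * w := by
      intro t
      apply hf; rw [map_mul, map_mul]; exact hw (f t) ⟨t, rfl⟩
    rcases h.cen w this with h1 | h1
    · left; rw [h1, map_one]
    · right; rw [h1]

theorem dsd_dihedral (m' : ℕ) (hm : 2 ≤ m') :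
    DSD (DihedralGroup (2 * m')) (DihedralGroup.r 1)
      (DihedralGroup.r (m' : ZMod (2 * m'))) := by
  haveI : NeZero (2 * m') := ⟨by omega⟩
  have hmem : ∀ j : ZMod (2 * m'),
      DihedralGroup.r j ∈ Subgroup.zpowers (DihedralGroup.r (1 : ZMod (2 * m'))) := by
    intro j
    have : DihedralGroup.r j = (DihedralGroup.r (1 : ZMod (2 * m'))) ^ j.val := by
      rw [DihedralGroup.r_one_pow, ZMod.natCast_zmod_val]
    rw [this]; exact Subgroup.pow_mem _ (Subgroup.mem_zpowers _) _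
  have hout : ∀ x : DihedralGroup (2 * m'),
      x ∉ Subgroup.zpowers (DihedralGroup.r (1 : ZMod (2 * m'))) →
      ∃ i, x = DihedralGroup.sr i := by
    intro x hx
    rcases x with j | i
    · exact absurd (hmem j) hx
    · exact ⟨i, rfl⟩
  have hin : ∀ x ∈ Subgroup.zpowers (DihedralGroup.r (1 : ZMod (2 * m'))),
      ∃ j, x = DihedralGroup.r j := by
    intro x hx
    obtain ⟨k, rfl⟩ := Subgroup.mem_zpowers_iff.mp hx
    exact ⟨_, DihedralGroup.r_one_zpow k⟩
  have hmm : (m' : ZMod (2 * m')) + m' = 0 := by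
    have h1 : ((2 * m' : ℕ) : ZMod (2 * m')) = 0 := ZMod.natCast_self (2 * m')
    rw [← h1]; push_cast; ring
  have h2ne : (2 : ZMod (2 * m')) ≠ 0 := by
    intro h
    have h1 : ((2 : ℕ) : ZMod (2 * m')) = 0 := by exact_mod_cast h
    rw [ZMod.natCast_eq_zero_iff] at h1
    have := Nat.le_of_dvd (by norm_num) h1
    omega
  refine ⟨?_, ?_, hmem _, ?_, ?_, ?_, ?_⟩
  · intro h
    rw [DihedralGroup.one_def] at h
    have h1 : (m' : ZMod (2 * m')) = 0 := DihedralGroup.r.inj h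
    rw [ZMod.natCast_eq_zero_iff] at h1
    have := Nat.le_of_dvd (by omega) h1
    omega
  · rw [DihedralGroup.r_mul_r, hmm, DihedralGroup.r_zero]
  · intro x y hx hy
    obtain ⟨i, rfl⟩ := hout x hx
    obtain ⟨j, rfl⟩ := hout y hy
    rw [DihedralGroup.inv_sr, DihedralGroup.sr_mul_sr]; exact hmem _
  · intro u hu
    obtain ⟨i, rfl⟩ := hout u hu
    left; exact DihedralGroup.sr_mul_self i
  · intro u hu c hc _
    obtain ⟨i, rfl⟩ := hout u hu
    obtain ⟨j, rfl⟩ := hin c hc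
    rw [DihedralGroup.inv_sr, DihedralGroup.sr_mul_r, DihedralGroup.sr_mul_sr,
      DihedralGroup.inv_r]
    congr 1; ring
  · intro w hw
    rcases w with j | i
    · have h1 := hw (DihedralGroup.sr 0)
      rw [DihedralGroup.r_mul_sr, DihedralGroup.sr_mul_r] at h1
      have h2 : (0 : ZMod (2 * m')) - j = 0 + j := DihedralGroup.sr.inj h1
      have h3 : ((2 * j.val : ℕ) : ZMod (2 * m')) = 0 := by
        push_cast; rw [ZMod.natCast_zmod_val]
        have : j + j = 0 := by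
          have : -j = j := by simpa using h2
          calc j + j = j + -j := by rw [this]
            _ = 0 := by ring
        have e2 : (2 : ZMod (2 * m')) * j = j + j := by ring
        rw [e2]; exact this
      rw [ZMod.natCast_eq_zero_iff] at h3
      have h4 : m' ∣ j.val := Nat.dvd_of_mul_dvd_mul_left (by norm_num) h3
      obtain ⟨q, hq⟩ := h4
      have hlt : j.val < 2 * m' := ZMod.val_lt j
      have hj : j = ((j.val : ℕ) : ZMod (2 * m')) := (ZMod.natCast_zmod_val j).symm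
      have hq2 : q = 0 ∨ q = 1 := by
        rcases q with _ | _ | q
        · left; rfl
        · right; rfl
        · exfalso
          rw [hq] at hlt
          nlinarith
      rcases hq2 with rfl | rfl
      · left
        rw [hj, hq, Nat.mul_zero, Nat.cast_zero, DihedralGroup.r_zero]
      · right
        rw [hj, hq, Nat.mul_one]
    · exfalso
      have h1 := hw (DihedralGroup.r 1)
      rw [DihedralGroup.sr_mul_r, DihedralGroup.r_mul_sr] at h1
      have h2 : i + 1 = i - 1 := DihedralGroup.sr.inj h1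
      apply h2ne
      have : (1 : ZMod (2 * m')) = -1 := by
        have := congrArg (fun t => t - i) h2
        simpa using this
      calc (2 : ZMod (2 * m')) = 1 + 1 := by norm_num
        _ = 1 + -1 := by rw [← this]
        _ = 0 := by ring

universe u

theorem dsd_quasi {S : Type u} [Group S] [Finite S] (hS : Cfsg.IsQuasiDihedral S) :
    ∃ a z : S, DSD S a z := by
  obtain ⟨N, hN, hcard, hidx, a, y, ha, hy, hya, hconj⟩ := QuasiDih.exists_data hS
  have hn : 3 ≤ N := by omega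
  have hA2 := MaxClassTwo.index_zpowers N hn hcard a ha
  have hzz := MaxClassTwo.z_sq N hn a ha
  refine ⟨a, a ^ (2 ^ (N - 2)), ?_, hzz, Subgroup.pow_mem _ (Subgroup.mem_zpowers a) _,
    ?_, ?_, ?_, ?_⟩
  · intro h
    have h3 := orderOf_dvd_of_pow_eq_one h
    rw [ha] at h3
    have := (Nat.pow_dvd_pow_iff_le_right (by norm_num)).mp h3
    omega
  · intro x y hx hy
    exact IdxTwo.mem_of_not_mem _ hA2 hx hy
  · intro u hu
    exact MaxClassTwo.sq_or N hn hcard hidx a ha u hu hA2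
  · intro u hu c hc hc4
    rw [← mem_powers_iff_mem_zpowers] at hc
    obtain ⟨i, hi⟩ := hc
    have hi' : a ^ i = c := hi
    obtain ⟨w, hw⟩ : ∃ w : S, w = a * (u * a * u⁻¹) := ⟨_, rfl⟩
    have hw2 : w = 1 ∨ w = a ^ (2 ^ (N - 2)) := by
      rw [hw]; exact MaxClassTwo.inv_or N hn hcard hidx a ha u hu hA2
    have hww : w * w = 1 := by
      rcases hw2 with h | h
      · rw [h, one_mul]
      · rw [h]; exact hzz
    have hwa : Commute a⁻¹ w := by
      rcases hw2 with h | h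
      · rw [h]; exact Commute.one_right _
      · rw [h]; exact ((Commute.refl a).pow_right _).inv_left
    have hua : u * a * u⁻¹ = a⁻¹ * w := by rw [hw]; group
    have h4 : a ^ (i * 4) = 1 := by rw [pow_mul, hi', hc4]
    have h5 := orderOf_dvd_of_pow_eq_one h4
    rw [ha] at h5
    have h6 : 2 ^ 3 ∣ 2 ^ (N - 1) := pow_dvd_pow 2 (by omega)
    have h7 : 2 ^ 3 ∣ i * 4 := h6.trans h5
    have h8 : 2 ∣ i := by
      norm_num at h7
      omega
    obtain ⟨k, hk⟩ := h8
    have hwi : w ^ i = 1 := by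
      rw [hk, pow_mul, pow_two, hww, one_pow]
    rw [← hi', ← conj_pow, hua, hwa.mul_pow, hwi, mul_one, inv_pow]
  · intro w hw
    by_cases hwA : w ∈ Subgroup.zpowers a
    · apply MaxClassTwo.fixed N hn hcard hidx a ha y hya w hwA
      rw [← hw y]; group
    · exfalso
      apply MaxClassTwo.not_comm N hn hcard hidx a ha w hwA
      rw [hw a]; group

/-! ### Order bound from the automorphisms of the quaternion group -/

theorem quat_center : ∀ x : QuaternionGroup 2, (∀ y, x * y = y * x) →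
    x = 1 ∨ x = QuaternionGroup.a 2 := by decide

/-- the possible images of the two generators under an automorphism -/
def autPairs : Finset (QuaternionGroup 2 × QuaternionGroup 2) :=
  Finset.univ.filter (fun p => p.1 ^ 2 ≠ 1 ∧ p.2 ^ 2 ≠ 1 ∧ p.2 ≠ p.1 ∧ p.2 ≠ p.1⁻¹)

theorem autPairs_card : autPairs.card = 24 := by decide

theorem card_le_of_quat {G : Type*} [Group G] [Finite G] (Q : Subgroup G) [hQn : Q.Normal]
    (e : QuaternionGroup 2 ≃* ↥Q) (hCQ : Subgroup.centralizer (Q : Set G) ≤ Q) :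
    Nat.card G ≤ 48 := by
  obtain ⟨φ, hφ⟩ : ∃ φ : G →* MulAut ↥Q, ∀ (g : G) (q : ↥Q), ((φ g q : ↥Q) : G) = g * q * g⁻¹ :=
    ⟨MulAut.conjNormal, fun g q => MulAut.conjNormal_apply g q⟩
  -- the kernel
  have hker : Nat.card φ.ker ≤ 2 := by
    have hsub : (φ.ker : Set G) ⊆ {1, ((e (QuaternionGroup.a 2) : ↥Q) : G)} := by
      intro k hk
      have hk1 : φ k = 1 := hk
      have hkc : ∀ q : ↥Q, k * (q : G) = (q : G) * k := by
        intro q
        have h1 := hφ k q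
        rw [hk1, MulAut.one_apply] at h1
        calc k * (q : G) = (k * q * k⁻¹) * k := by group
          _ = (q : G) * k := by rw [← h1]
      have hkQ : k ∈ Q := by
        apply hCQ
        rw [Subgroup.mem_centralizer_iff]
        intro q hq
        exact (hkc ⟨q, hq⟩).symm
      have hcen : ∀ y : QuaternionGroup 2, e.symm ⟨k, hkQ⟩ * y = y * e.symm ⟨k, hkQ⟩ := by
        intro y
        apply e.injective
        rw [map_mul, map_mul, MulEquiv.apply_symm_apply]
        apply Subtype.ext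
        rw [Subgroup.coe_mul, Subgroup.coe_mul]
        exact hkc (e y)
      rcases quat_center _ hcen with h | h
      · left
        have h2 : (⟨k, hkQ⟩ : ↥Q) = 1 := by
          rw [← MulEquiv.apply_symm_apply e ⟨k, hkQ⟩, h, map_one]
        exact congrArg Subtype.val h2
      · right
        have h2 : (⟨k, hkQ⟩ : ↥Q) = e (QuaternionGroup.a 2) := by
          rw [← MulEquiv.apply_symm_apply e ⟨k, hkQ⟩, h]
        exact congrArg Subtype.val h2
    have h1 : Nat.card φ.ker = (φ.ker : Set G).ncard := rfl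
    rw [h1]
    calc (φ.ker : Set G).ncard ≤ ({1, ((e (QuaternionGroup.a 2) : ↥Q) : G)} : Set G).ncard :=
          Set.ncard_le_ncard hsub (Set.toFinite _)
      _ ≤ ({((e (QuaternionGroup.a 2) : ↥Q) : G)} : Set G).ncard + 1 := Set.ncard_insert_le _ _
      _ = 2 := by rw [Set.ncard_singleton]
  -- the range
  have hrange : Nat.card φ.range ≤ 24 := by
    have hmemP : ∀ σ : MulAut ↥Q,
        (e.symm (σ (e (QuaternionGroup.a 1))), e.symm (σ (e (QuaternionGroup.xa 0)))) ∈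
          autPairs := by
      intro σ
      obtain ⟨ψ, hψ⟩ : ∃ ψ : QuaternionGroup 2 ≃* QuaternionGroup 2,
          ∀ x, ψ x = e.symm (σ (e x)) := ⟨(e.trans σ).trans e.symm, fun x => rfl⟩
      rw [← hψ, ← hψ]
      unfold autPairs
      rw [Finset.mem_filter]
      refine ⟨Finset.mem_univ _, ?_, ?_, ?_, ?_⟩
      · show ψ (QuaternionGroup.a 1) ^ 2 ≠ 1
        rw [← map_pow, ← map_one ψ]
        exact ψ.injective.ne (by decide)
      · show ψ (QuaternionGroup.xa 0) ^ 2 ≠ 1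
        rw [← map_pow, ← map_one ψ]
        exact ψ.injective.ne (by decide)
      · show ψ (QuaternionGroup.xa 0) ≠ ψ (QuaternionGroup.a 1)
        exact ψ.injective.ne (by decide)
      · show ψ (QuaternionGroup.xa 0) ≠ (ψ (QuaternionGroup.a 1))⁻¹
        rw [← map_inv]
        exact ψ.injective.ne (by decide)
    have hinj : Function.Injective (fun σ : φ.range =>
        (⟨_, hmemP σ.1⟩ : ↥autPairs)) := by
      intro σ τ hστ
      have h1 := congrArg Subtype.val hστ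
      have h2 : e.symm (σ.1 (e (QuaternionGroup.a 1))) = e.symm (τ.1 (e (QuaternionGroup.a 1))) :=
        congrArg Prod.fst h1
      have h3 : e.symm (σ.1 (e (QuaternionGroup.xa 0))) =
          e.symm (τ.1 (e (QuaternionGroup.xa 0))) := congrArg Prod.snd h1
      have h4 : (σ.1.toMonoidHom).comp e.toMonoidHom = (τ.1.toMonoidHom).comp e.toMonoidHom := by
        apply quat_hom_ext
        · exact e.symm.injective h2
        · exact e.symm.injective h3
      apply Subtype.ext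
      ext q
      have h5 := DFunLike.congr_fun h4 (e.symm q)
      simp only [MonoidHom.comp_apply, MulEquiv.coe_toMonoidHom, MulEquiv.apply_symm_apply] at h5
      rw [h5]
    have h1 := Nat.card_le_card_of_injective _ hinj
    rw [Nat.card_eq_fintype_card (α := ↥autPairs), Fintype.card_coe, autPairs_card] at h1
    exact h1
  have h1 := φ.ker.card_mul_index
  rw [Subgroup.index_ker] at h1
  calc Nat.card G = Nat.card φ.ker * Nat.card φ.range := h1.symm
    _ ≤ 2 * 24 := Nat.mul_le_mul hker hrange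

/-! ### The isomorphism with `SL(2,3)` -/

theorem iso_of_data {G : Type*} [Group G] [Finite G] (Q : Subgroup G) (I J g : G) (hIQ : I ∈ Q)
    (hJQ : J ∈ Q)
    (hI4 : orderOf I = 4) (hJJ : J * J = I ^ 2) (hIJ : I * J = J * I⁻¹)
    (hJI : J ∉ Subgroup.zpowers I)
    (hcover : ∀ y ∈ Q, y ∈ Subgroup.zpowers I ∨ J⁻¹ * y ∈ Subgroup.zpowers I)
    (hQ2 : ∀ q ∈ Q, ∃ k : ℕ, q ^ (2 ^ k) = 1)
    (hgN : g ∈ Subgroup.normalizer (Q : Set G)) (hgp : (orderOf g).Prime)
    (hgodd : Odd (orderOf g)) (hgI : g * I * g⁻¹ = J) (hgJ : g * J * g⁻¹ = I * J) :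
    ∃ (_ : QuaternionGroup 2 ≃* ↥Q) (H : Subgroup G), Nat.card H = 24 ∧
      Nonempty (↥H ≃* Matrix.SpecialLinearGroup (Fin 2) (ZMod 3)) := by
  -- `3 ∣ orderOf g`
  have hg3 : g ^ 3 * I * (g ^ 3)⁻¹ = I := by
    have h1 : J * I * J = I := by
      calc J * I * J = J * (I * J) := by group
        _ = J * (J * I⁻¹) := by rw [hIJ]
        _ = (J * J) * I⁻¹ := by group
        _ = I := by rw [hJJ, pow_two]; group
    calc g ^ 3 * I * (g ^ 3)⁻¹ = g * (g * (g * I * g⁻¹) * g⁻¹) * g⁻¹ := by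
          rw [pow_succ, pow_two]; group
      _ = g * (g * J * g⁻¹) * g⁻¹ := by rw [hgI]
      _ = g * (I * J) * g⁻¹ := by rw [hgJ]
      _ = (g * I * g⁻¹) * (g * J * g⁻¹) := by group
      _ = J * (I * J) := by rw [hgI, hgJ]
      _ = I := by rw [← mul_assoc]; exact h1
  have hIJne : J ≠ I := fun h => hJI (h ▸ Subgroup.mem_zpowers I)
  have h3m : 3 ∣ orderOf g := by
    by_contra h3
    have hcop : Nat.Coprime 3 (orderOf g) := (Nat.Prime.coprime_iff_not_dvd Nat.prime_three).mpr h3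
    have hcomm3 : Commute (g ^ 3) I := by
      show g ^ 3 * I = I * g ^ 3
      calc g ^ 3 * I = (g ^ 3 * I * (g ^ 3)⁻¹) * g ^ 3 := by group
        _ = I * g ^ 3 := by rw [hg3]
    have hcomm : Commute g I := by
      rcases Nat.lt_or_ge 1 (orderOf g) with h1 | h1
      · obtain ⟨s, -, hs⟩ := Nat.exists_mul_mod_eq_one_of_coprime hcop h1
        have h2 : g = (g ^ 3) ^ s := by
          rw [← pow_mul, ← pow_mod_orderOf, hs, pow_one]
        rw [h2]
        exact hcomm3.pow_left s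
      · have h2 : orderOf g = 1 := le_antisymm h1 (orderOf_pos g)
        rw [orderOf_eq_one_iff] at h2
        rw [h2]; exact Commute.one_left I
    apply hIJne
    rw [← hgI, hcomm.eq]; group
  -- the quaternion group structure of `Q`
  obtain ⟨I', hI'⟩ : ∃ I' : ↥Q, I' = ⟨I, hIQ⟩ := ⟨_, rfl⟩
  obtain ⟨J', hJ'⟩ : ∃ J' : ↥Q, J' = ⟨J, hJQ⟩ := ⟨_, rfl⟩
  have hI'o : orderOf I' = 2 * 2 := by rw [hI', Subgroup.orderOf_mk, hI4]
  have hx : I' ^ (2 * 2) = 1 := by rw [← hI'o]; exact pow_orderOf_eq_one I'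
  have hy : J' * J' = I' ^ 2 := by
    rw [hI', hJ']; apply Subtype.ext
    rw [Subgroup.coe_mul, Subgroup.coe_pow]; exact hJJ
  have hxy : I' * J' = J' * I'⁻¹ := by
    rw [hI', hJ']; apply Subtype.ext
    rw [Subgroup.coe_mul, Subgroup.coe_mul, Subgroup.coe_inv]; exact hIJ
  obtain ⟨f, hfa, hfxa⟩ := UOP.quatHom 2 I' J' hx hy hxy
  have hJ'I' : J' ∉ Subgroup.zpowers I' := by
    intro h
    obtain ⟨k, hk⟩ := Subgroup.mem_zpowers_iff.mp h
    apply hJI
    have := congrArg Subtype.val hk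
    rw [Subgroup.coe_zpow, hI', hJ'] at this
    exact Subgroup.mem_zpowers_iff.mpr ⟨k, this⟩
  have hinj := UOP.quatHom_injective 2 I' J' f hfa hfxa hI'o hJ'I'
  have hpowI : ∀ e : ℕ, f (QuaternionGroup.a (e : ZMod (2 * 2))) = I' ^ e := by
    intro e
    rw [hfa, ZMod.val_natCast, ← hI'o, pow_mod_orderOf]
  have hsurj : Function.Surjective f := by
    intro y
    rcases hcover y y.2 with h | h
    · rw [← mem_powers_iff_mem_zpowers] at h
      obtain ⟨e, he⟩ := h
      refine ⟨QuaternionGroup.a (e : ZMod (2 * 2)), ?_⟩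
      rw [hpowI, hI']
      apply Subtype.ext
      rw [Subgroup.coe_pow]; exact he
    · rw [← mem_powers_iff_mem_zpowers] at h
      obtain ⟨e, he⟩ := h
      have he' : I ^ e = J⁻¹ * (y : G) := he
      refine ⟨QuaternionGroup.xa (e : ZMod (2 * 2)), ?_⟩
      rw [hfxa, ZMod.val_natCast, ← hI'o, pow_mod_orderOf, hI', hJ']
      apply Subtype.ext
      rw [Subgroup.coe_mul, Subgroup.coe_pow]
      show J * I ^ e = y
      rw [he']; group
  obtain ⟨eQ, heQ⟩ : ∃ eQ : QuaternionGroup 2 ≃* ↥Q, ∀ x, eQ x = f x :=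
    ⟨MulEquiv.ofBijective f ⟨hinj, hsurj⟩, fun x => rfl⟩
  have heI : eQ.symm I' = QuaternionGroup.a 1 := by
    rw [MulEquiv.symm_apply_eq, heQ, hfa]
    have : (1 : ZMod (2 * 2)).val = 1 := by decide
    rw [this, pow_one]
  have heJ : eQ.symm J' = QuaternionGroup.xa 0 := by
    rw [MulEquiv.symm_apply_eq, heQ, hfxa]
    have : (0 : ZMod (2 * 2)).val = 0 := by decide
    rw [this, pow_zero, mul_one]
  obtain ⟨fn, hfn⟩ : ∃ fn : ↥Q →* SL3, ∀ q, fn q = qfHom (eQ.symm q) :=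
    ⟨qfHom.comp eQ.symm.toMonoidHom, fun q => rfl⟩
  have hfnI : fn I' = mA := by rw [hfn, heI, qf_a_one]
  have hfnJ : fn J' = mB := by rw [hfn, heJ, qf_xa_zero]
  -- the acting cyclic group
  have hle : Subgroup.zpowers g ≤ Subgroup.normalizer (Q : Set G) := Subgroup.zpowers_le.mpr hgN
  obtain ⟨γ₀, hγ₀⟩ : ∃ γ₀ : ↥(Subgroup.zpowers g), γ₀ = ⟨g, Subgroup.mem_zpowers g⟩ := ⟨_, rfl⟩
  have hgen : ∀ x : ↥(Subgroup.zpowers g), x ∈ Subgroup.zpowers γ₀ := by
    intro x
    obtain ⟨k, hk⟩ := Subgroup.mem_zpowers_iff.mp x.2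
    refine Subgroup.mem_zpowers_iff.mpr ⟨k, ?_⟩
    apply Subtype.ext
    rw [Subgroup.coe_zpow, hγ₀]; exact hk
  have hγo : orderOf γ₀ = orderOf g := by rw [hγ₀, Subgroup.orderOf_mk]
  have hdvd : orderOf u3 ∣ orderOf γ₀ := by rw [u3_order, hγo]; exact h3m
  obtain ⟨fg, hfg⟩ : ∃ fg : ↥(Subgroup.zpowers g) →* SL3, fg γ₀ = u3 :=
    ⟨monoidHomOfForallMemZpowers hgen hdvd, monoidHomOfForallMemZpowers_apply_gen hgen hdvd⟩
  obtain ⟨φ, hφ⟩ : ∃ φ : ↥(Subgroup.zpowers g) →* MulAut ↥Q,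
      φ = (Q.normalizerMonoidHom).comp (Subgroup.inclusion hle) := ⟨_, rfl⟩
  have hφapp : ∀ (γ : ↥(Subgroup.zpowers g)) (q : ↥Q), ((φ γ q : ↥Q) : G) = γ * q * (γ : G)⁻¹ := by
    intro γ q
    rw [hφ]
    rfl
  -- compatibility for the generator
  have hbase : ∀ q : ↥Q, fn (φ γ₀ q) = u3 * fn q * u3⁻¹ := by
    have hF : (fn.comp (φ γ₀).toMonoidHom).comp eQ.toMonoidHom =
        ((MulAut.conj u3).toMonoidHom.comp fn).comp eQ.toMonoidHom := by
      apply quat_hom_ext
      · show fn (φ γ₀ (eQ (QuaternionGroup.a 1))) = u3 * fn (eQ (QuaternionGroup.a 1)) * u3⁻¹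
        rw [← heI, MulEquiv.apply_symm_apply, hfnI, u3_mA]
        have : φ γ₀ I' = J' := by
          apply Subtype.ext
          rw [hφapp, hγ₀, hI', hJ']
          exact hgI
        rw [this, hfnJ]
      · show fn (φ γ₀ (eQ (QuaternionGroup.xa 0))) = u3 * fn (eQ (QuaternionGroup.xa 0)) * u3⁻¹
        rw [← heJ, MulEquiv.apply_symm_apply, hfnJ, u3_mB]
        have : φ γ₀ J' = I' * J' := by
          apply Subtype.ext
          rw [hφapp, hγ₀, hI', hJ']
          exact hgJ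
        rw [this, map_mul, hfnI, hfnJ]
    intro q
    have := DFunLike.congr_fun hF (eQ.symm q)
    simpa using this
  have hpowP : ∀ (k : ℕ) (q : ↥Q), fn (φ (γ₀ ^ k) q) = fg (γ₀ ^ k) * fn q * (fg (γ₀ ^ k))⁻¹ := by
    intro k
    induction k with
    | zero => intro q; simp
    | succ k ih =>
      intro q
      rw [pow_succ', map_mul, map_mul, MulAut.mul_apply, hbase, ih, hfg]
      group
  have hP : ∀ (γ : ↥(Subgroup.zpowers g)) (q : ↥Q), fn (φ γ q) = fg γ * fn q * (fg γ)⁻¹ := by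
    intro γ q
    have h1 := hgen γ
    rw [← mem_powers_iff_mem_zpowers] at h1
    obtain ⟨k, hk⟩ := h1
    have hk' : γ₀ ^ k = γ := hk
    rw [← hk']
    exact hpowP k q
  obtain ⟨Ψ, hΨl, hΨr⟩ : ∃ Ψ : ↥Q ⋊[φ] ↥(Subgroup.zpowers g) →* SL3,
      (∀ q, Ψ (SemidirectProduct.inl q) = fn q) ∧ (∀ γ, Ψ (SemidirectProduct.inr γ) = fg γ) := by
    refine ⟨SemidirectProduct.lift fn fg (fun γ => ?_), fun q => SemidirectProduct.lift_inl _ _ _ q,
      fun γ => SemidirectProduct.lift_inr _ _ _ γ⟩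
    refine MonoidHom.ext (fun q => ?_)
    simp only [MonoidHom.comp_apply, MulEquiv.coe_toMonoidHom, MulAut.conj_apply]
    exact hP γ q
  -- surjectivity of `Ψ`
  have hΨsurj : Function.Surjective Ψ := by
    rw [← MonoidHom.range_eq_top]
    apply Subgroup.eq_top_of_card_eq
    have h8 : 8 ∣ Nat.card Ψ.range := by
      rw [← card_range]
      apply Subgroup.card_dvd_of_le
      rintro _ ⟨x, rfl⟩
      refine ⟨SemidirectProduct.inl (eQ x), ?_⟩
      rw [hΨl, hfn, MulEquiv.symm_apply_apply]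
    have h3 : 3 ∣ Nat.card Ψ.range := by
      have hu : u3 ∈ Ψ.range := ⟨SemidirectProduct.inr γ₀, by rw [hΨr, hfg]⟩
      have := Subgroup.orderOf_dvd_natCard Ψ.range hu
      rwa [u3_order] at this
    have h24 : 24 ∣ Nat.card Ψ.range :=
      (Nat.Coprime.mul_dvd_of_dvd_of_dvd (by norm_num : Nat.Coprime 8 3) h8 h3)
    have hle24 : Nat.card Ψ.range ≤ Nat.card SL3 := Subgroup.card_le_card_group _
    have hc : Nat.card SL3 = 24 := by rw [Nat.card_eq_fintype_card]; exact card_SL3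
    have hpos : 0 < Nat.card Ψ.range := Nat.card_pos
    obtain ⟨q, hq⟩ := h24
    rw [hc] at hle24 ⊢
    rcases q with _ | _ | q
    · omega
    · omega
    · omega
  -- the map into `G`
  obtain ⟨μ, hμ⟩ : ∃ μ : ↥Q ⋊[φ] ↥(Subgroup.zpowers g) →* G,
      ∀ x, μ x = (x.left : G) * (x.right : G) := by
    subst hφ
    exact ⟨SemidirectProduct.monoidHomSubgroup hle, fun x => rfl⟩
  have hμinj : Function.Injective μ := by
    rw [injective_iff_map_eq_one]
    intro x hx1
    rw [hμ] at hx1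
    have hw : (x.left : G) = (x.right : G)⁻¹ := eq_inv_of_mul_eq_one_left hx1
    have hw1 : (x.left : G) ^ orderOf g = 1 := by
      have h1 : (x.left : G) ∈ Subgroup.zpowers g := by
        rw [hw]; exact inv_mem x.right.2
      exact orderOf_dvd_iff_pow_eq_one.mp (orderOf_dvd_of_mem_zpowers h1)
    obtain ⟨k, hk⟩ := hQ2 _ x.left.2
    have hcop : Nat.Coprime (orderOf g) (2 ^ k) :=
      Nat.Coprime.pow_right k (Nat.coprime_two_right.mpr hgodd)
    have h3 := (pow_gcd_eq_one (a := (x.left : G))).2 ⟨hw1, hk⟩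
    rw [Nat.Coprime.gcd_eq_one hcop, pow_one] at h3
    have h4 : (x.right : G) = 1 := by
      rw [h3] at hw
      exact inv_eq_one.mp hw.symm
    apply SemidirectProduct.ext
    · exact Subtype.ext h3
    · exact Subtype.ext h4
  have hg3o : orderOf g = 3 := ((Nat.prime_dvd_prime_iff_eq Nat.prime_three hgp).mp h3m).symm
  have hcardQ : Nat.card ↥Q = 8 := by
    rw [← Nat.card_congr eQ.toEquiv, Nat.card_eq_fintype_card, QuaternionGroup.card]
  have hcardS : Nat.card (↥Q ⋊[φ] ↥(Subgroup.zpowers g)) = 24 := by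
    rw [SemidirectProduct.card, hcardQ, Nat.card_zpowers, hg3o]
  have hc : Nat.card SL3 = 24 := by rw [Nat.card_eq_fintype_card]; exact card_SL3
  haveI : Finite (↥Q ⋊[φ] ↥(Subgroup.zpowers g)) :=
    Finite.of_equiv _ SemidirectProduct.equivProd.symm
  have hΨbij : Function.Bijective Ψ :=
    hΨsurj.bijective_of_nat_card_le (by rw [hcardS, hc])
  refine ⟨eQ, μ.range, ?_, ?_⟩
  · rw [← Nat.card_congr (MonoidHom.ofInjective hμinj).toEquiv, hcardS]
  · exact ⟨(MonoidHom.ofInjective hμinj).symm.trans (MulEquiv.ofBijective Ψ hΨbij)⟩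

/-! ### The main argument -/

theorem main_of_dsd {G : Type*} [Group G] [Finite G] (hsol : Group.IsSolvable G)
    (hO : Cfsg.oddCore G = ⊥) (T : Sylow 2 G) (a z : G) (hD : DSD' (T : Subgroup G) a z)
    (hne : (T : Subgroup G) ≠ ⊤)
    (hZ : ((T : Subgroup G) ⊓ Subgroup.centralizer ((T : Subgroup G) : Set G)).Normal) :
    ∃ U : Subgroup G, U.Normal ∧
      Nonempty (↥U ≃* Matrix.SpecialLinearGroup (Fin 2) (ZMod 3)) := by
  haveI : Fact (Nat.Prime 2) := ⟨Nat.prime_two⟩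
  haveI : Group.IsSolvable G := hsol
  obtain ⟨Q, hQdef⟩ : ∃ Q : Subgroup G, Q = Cfsg.pCore 2 G := ⟨_, rfl⟩
  haveI hQn : Q.Normal := hQdef ▸ Cfsg.Agent.H1.pCore_normal 2
  have hQ2' : IsPGroup 2 Q := hQdef ▸ Cfsg.Agent.H1.pCore_isPGroup 2
  have hQT : Q ≤ (T : Subgroup G) := hQdef ▸ Cfsg.Agent.H1.pCore_le_sylow T
  have hFQ : Cfsg.fittingSubgroup G = Q := by
    rw [Cfsg.Agent.H1.fittingSubgroup_eq_iSup_pCore, hQdef]
    apply le_antisymm
    · apply iSup_le
      intro p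
      by_cases hp : (p : ℕ) = 2
      · rw [hp]
      · have hcop := Cfsg.Agent.H1.pCore_coprime_of_ne (G := G) Nat.prime_two p.2 hp
        have h1 := Cfsg.Agent.H1.le_pPrimeCore (Cfsg.Agent.H1.pCore_normal (p : ℕ)) hcop
        rw [show Cfsg.pPrimeCore 2 G = ⊥ from hO] at h1
        exact h1.trans bot_le
    · exact le_iSup (fun p : Nat.Primes => Cfsg.pCore (p : ℕ) G) ⟨2, Nat.prime_two⟩
  have hCQ : Subgroup.centralizer (Q : Set G) ≤ Q := by
    have h := Cfsg.Agent.S1264.result (Subgroup.centralizer (Cfsg.fittingSubgroup G : Set G))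
      le_rfl Subgroup.le_normalizer inferInstance
    rw [hFQ] at h
    intro x hx
    obtain ⟨y, -, rfl⟩ := h hx
    exact y.2
  obtain ⟨haT, hz1, hzz, hzA, hidx, hsq, hinv, hcen⟩ := hD
  have hXT : Subgroup.zpowers a ≤ (T : Subgroup G) := Subgroup.zpowers_le.mpr haT
  have hzT : z ∈ (T : Subgroup G) := hXT hzA
  have hz4 : z ^ 4 = 1 := by
    rw [show (4 : ℕ) = 2 + 2 from rfl, pow_add, pow_two, hzz, one_mul]
  have hzinv : z⁻¹ = z := inv_eq_of_mul_eq_one_right hzz
  have hzcT : ∀ t ∈ (T : Subgroup G), t * z * t⁻¹ = z := by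
    intro t ht
    by_cases htX : t ∈ Subgroup.zpowers a
    · have := MaxClassTwo.zpowers_comm a t htX z hzA
      rw [this]; group
    · rw [hinv t ht htX z hzT hzA hz4, hzinv]
  have hzZ : z ∈ (T : Subgroup G) ⊓ Subgroup.centralizer ((T : Subgroup G) : Set G) := by
    refine Subgroup.mem_inf.mpr ⟨hzT, ?_⟩
    rw [Subgroup.mem_centralizer_iff]
    intro t ht
    have := hzcT t ht
    calc t * z = (t * z * t⁻¹) * t := by group
      _ = z * t := by rw [this]
  have hzG : ∀ g : G, g * z * g⁻¹ = z := by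
    intro g
    have h1 := hZ.conj_mem z hzZ g
    obtain ⟨h2, h3⟩ := Subgroup.mem_inf.mp h1
    rcases hcen _ h2 (fun t ht => ((Subgroup.mem_centralizer_iff.mp h3) t ht).symm) with h | h
    · exfalso; apply hz1
      calc z = g⁻¹ * (g * z * g⁻¹) * g := by group
        _ = 1 := by rw [h]; group
    · exact h
  have hzQ : z ∈ Q := by
    have : (T : Subgroup G) ⊓ Subgroup.centralizer ((T : Subgroup G) : Set G) ≤ Q := by
      rw [hQdef]
      exact Cfsg.Agent.H1.le_pCore hZ (T.isPGroup'.to_le inf_le_left)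
    exact this hzZ
  -- an element of odd prime order
  obtain ⟨p, hp, hpdvd⟩ := Nat.exists_prime_and_dvd
    (show (T : Subgroup G).index ≠ 1 from fun h => hne (Subgroup.index_eq_one.mp h))
  have hp2 : p ≠ 2 := by
    rintro rfl
    exact T.not_dvd_index hpdvd
  haveI := Fact.mk hp
  obtain ⟨g, hg⟩ := exists_prime_orderOf_dvd_card' p
    (hpdvd.trans (Subgroup.index_dvd_card _))
  have hgp : (orderOf g).Prime := hg ▸ hp
  have hgodd : Odd (orderOf g) := by rw [hg]; exact hp.odd_of_ne_two hp2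
  have hgN : g ∈ Subgroup.normalizer (Q : Set G) := by
    rw [Subgroup.normalizer_eq_top]; trivial
  have hgQ : ∀ q ∈ Q, g * q * g⁻¹ ∈ Q := fun q hq => hQn.conj_mem q hq g
  have hQ2 : ∀ q ∈ Q, ∃ k : ℕ, q ^ (2 ^ k) = 1 := by
    intro q hq
    obtain ⟨k, hk⟩ := hQ2' ⟨q, hq⟩
    refine ⟨k, ?_⟩
    have := congrArg Subtype.val hk
    simpa using this
  have hTord : ∀ q ∈ Q, ∃ k : ℕ, orderOf q = 2 ^ k := by
    intro q hq
    obtain ⟨k, hk⟩ := hQ2 q hq
    obtain ⟨l, -, hl⟩ := (Nat.dvd_prime_pow Nat.prime_two).mp (orderOf_dvd_of_pow_eq_one hk)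
    exact ⟨l, hl⟩
  have hfalse : (∀ y ∈ Q, g * y * g⁻¹ = y) → False := by
    intro h
    have hgC : g ∈ Subgroup.centralizer (Q : Set G) := by
      rw [Subgroup.mem_centralizer_iff]
      intro y hy
      have := h y hy
      calc y * g = (g * y * g⁻¹) * g := by rw [this]
        _ = g * y := by group
    obtain ⟨k, hk⟩ := hTord g (hCQ hgC)
    rw [hg] at hk
    have h1 : p ∣ 2 ^ k := hk ▸ dvd_rfl
    exact hp2 ((Nat.prime_dvd_prime_iff_eq hp Nat.prime_two).mp (hp.dvd_of_dvd_pow h1))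
  -- the cyclic case
  have hcyc : ∀ c : G, Subgroup.zpowers c = Q → False := by
    intro c hc
    have hcQ : c ∈ Q := hc ▸ Subgroup.mem_zpowers c
    obtain ⟨k, hk⟩ := hTord c hcQ
    have h1 := odd_centralizes_cyclic c g k hk hgodd (by rw [hc]; exact hgQ c hcQ)
    apply hfalse
    intro y hy
    rw [← hc] at hy
    obtain ⟨l, rfl⟩ := Subgroup.mem_zpowers_iff.mp hy
    rw [← conj_zpow, h1]
  by_cases hQA : Q ≤ Subgroup.zpowers a
  · obtain ⟨c, hc⟩ := (Q.isCyclic_iff_exists_zpowers_eq_top).mp (Subgroup.isCyclic_of_le hQA)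
    exact (hcyc c hc).elim
  obtain ⟨c, hc⟩ := ((Q ⊓ Subgroup.zpowers a).isCyclic_iff_exists_zpowers_eq_top).mp
    (Subgroup.isCyclic_of_le (inf_le_right : Q ⊓ Subgroup.zpowers a ≤ Subgroup.zpowers a))
  have hCmem : ∀ y, y ∈ Subgroup.zpowers c ↔ y ∈ Q ∧ y ∈ Subgroup.zpowers a := by
    intro y; rw [hc, Subgroup.mem_inf]
  have hcQ : c ∈ Q := ((hCmem c).mp (Subgroup.mem_zpowers c)).1
  have hcA : c ∈ Subgroup.zpowers a := ((hCmem c).mp (Subgroup.mem_zpowers c)).2
  have hidx2 : ∀ x ∈ Q, ∀ y ∈ Q, x ∉ Subgroup.zpowers c → y ∉ Subgroup.zpowers c →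
      x⁻¹ * y ∈ Subgroup.zpowers c := by
    intro x hx y hy hxC hyC
    have hxA : x ∉ Subgroup.zpowers a := fun h => hxC ((hCmem x).mpr ⟨hx, h⟩)
    have hyA : y ∉ Subgroup.zpowers a := fun h => hyC ((hCmem y).mpr ⟨hy, h⟩)
    exact (hCmem _).mpr ⟨Q.mul_mem (Q.inv_mem hx) hy, hidx x (hQT hx) y (hQT hy) hxA hyA⟩
  have hC2 : ∀ d ∈ Subgroup.zpowers c, ∃ k : ℕ, d ^ (2 ^ k) = 1 :=
    fun d hd => hQ2 d ((hCmem d).mp hd).1
  have hcentQ : ∀ h : G, (∀ q ∈ Q, h * q * h⁻¹ ∈ Q) → Odd (orderOf h) → h * c * h⁻¹ = c →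
      ∀ y ∈ Q, h * y * h⁻¹ = y := by
    intro h hhQ hhodd hhc
    apply odd_centralizes_index_two Q (Subgroup.zpowers c) hidx2 h hhQ _ hhodd hC2
    intro d hd
    obtain ⟨l, rfl⟩ := Subgroup.mem_zpowers_iff.mp hd
    rw [← conj_zpow, hhc]
  obtain ⟨k, hk⟩ := hTord c hcQ
  by_cases hgc : g * c * g⁻¹ ∈ Subgroup.zpowers c
  · exact (hfalse (hcentQ g hgQ hgodd (odd_centralizes_cyclic c g k hk hgodd hgc))).elim
  obtain ⟨J, hJ⟩ : ∃ J : G, J = g * c * g⁻¹ := ⟨_, rfl⟩
  rw [← hJ] at hgc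
  have hJQ : J ∈ Q := hJ ▸ hgQ c hcQ
  have hJA : J ∉ Subgroup.zpowers a := fun h => hgc ((hCmem J).mpr ⟨hJQ, h⟩)
  have hzC : z ∈ Subgroup.zpowers c := (hCmem z).mpr ⟨hzQ, hzA⟩
  have hJJ : J * J = z := by
    rcases hsq J (hQT hJQ) hJA with h | h
    · exfalso
      have hcc : c * c = 1 := by
        have h1 : g * (c * c) * g⁻¹ = 1 := by rw [← h, hJ]; group
        calc c * c = g⁻¹ * (g * (c * c) * g⁻¹) * g := by group
          _ = 1 := by rw [h1]; group
      obtain ⟨l, hl⟩ := Subgroup.mem_zpowers_iff.mp hzC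
      have hc2 : c ^ (2 : ℤ) = 1 := by rw [zpow_two]; exact hcc
      rcases Int.even_or_odd' l with ⟨m, rfl | rfl⟩
      · apply hz1; rw [← hl, zpow_mul, hc2, one_zpow]
      · have hzc : z = c := by
          rw [← hl, zpow_add, zpow_mul, hc2, one_zpow, one_mul, zpow_one]
        have hJz : J = z := by rw [hJ, ← hzc]; exact hzG g
        apply hgc
        rw [hJz]; exact hzC
    · exact h
  have hccz : c * c = z := by
    have h1 : g * (c * c) * g⁻¹ = z := by rw [← hJJ, hJ]; group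
    calc c * c = g⁻¹ * (g * (c * c) * g⁻¹) * g := by group
      _ = g⁻¹ * (g * z * g⁻¹) * g := by rw [h1, hzG g]
      _ = z := by group
  have hc4pow : c ^ 4 = 1 := by
    rw [show (4 : ℕ) = 2 + 2 from rfl, pow_add, pow_two, hccz, hzz]
  have hc4 : orderOf c = 4 := by
    have := orderOf_eq_prime_pow (x := c) (p := 2) (n := 1)
      (by rw [pow_one, pow_two, hccz]; exact hz1)
      (by rw [show (2 : ℕ) ^ (1 + 1) = 4 by norm_num]; exact hc4pow)
    rw [this]; norm_num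
  have hzc2 : z = c ^ 2 := by rw [pow_two, hccz]
  have hinvJ : J * c * J⁻¹ = c⁻¹ := hinv J (hQT hJQ) hJA c (hQT hcQ) hcA hc4pow
  have hrelJ : c * J = J * c⁻¹ := by
    have h2 : J * c⁻¹ * J⁻¹ = c := by
      calc J * c⁻¹ * J⁻¹ = (J * c * J⁻¹)⁻¹ := by group
        _ = c := by rw [hinvJ, inv_inv]
    calc c * J = (J * c⁻¹ * J⁻¹) * J := by rw [h2]
      _ = J * c⁻¹ := by group
  -- the final data
  have hfinal : ∀ I J' : G, I ∈ Subgroup.zpowers c → orderOf I = 4 →
      Subgroup.zpowers I = Subgroup.zpowers c → I ^ 2 = z → J' ∈ Q →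
      J' ∉ Subgroup.zpowers a → J' * J' = z → I * J' = J' * I⁻¹ →
      g * I * g⁻¹ = J' → g * J' * g⁻¹ = I * J' →
      ∃ U : Subgroup G, U.Normal ∧
        Nonempty (↥U ≃* Matrix.SpecialLinearGroup (Fin 2) (ZMod 3)) := by
    intro I J' hIC hI4 hIeq hI2 hJ'Q hJ'A hJ'J' hIJ' hgI hgJ'
    have hIQ : I ∈ Q := ((hCmem I).mp hIC).1
    have hJ'C : J' ∉ Subgroup.zpowers c := fun h => hJ'A ((hCmem J').mp h).2
    obtain ⟨eQ, H, hH24, hHiso⟩ := iso_of_data Q I J' g hIQ hJ'Q hI4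
      (by rw [hI2]; exact hJ'J') hIJ'
      (by rw [hIeq]; exact hJ'C)
      (by
        intro y hy
        by_cases hyC : y ∈ Subgroup.zpowers c
        · left; rw [hIeq]; exact hyC
        · right; rw [hIeq]; exact hidx2 J' hJ'Q y hy hJ'C hyC)
      hQ2 hgN hgp hgodd hgI hgJ'
    have h48 := card_le_of_quat Q eQ hCQ
    have hidxH : H.index ≤ 2 := by
      have := H.card_mul_index
      rw [hH24] at this
      omega
    refine ⟨H, ?_, hHiso⟩
    rcases Nat.lt_or_ge H.index 2 with h | h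
    · have h0 : H.index ≠ 0 := Subgroup.index_ne_zero_of_finite
      have h1 : H.index = 1 := by omega
      rw [Subgroup.index_eq_one] at h1
      rw [h1]; infer_instance
    · exact Subgroup.normal_of_index_eq_two (le_antisymm hidxH h)
  -- the second conjugate
  obtain ⟨J₂, hJ₂⟩ : ∃ J₂ : G, J₂ = g * J * g⁻¹ := ⟨_, rfl⟩
  have hJ₂Q : J₂ ∈ Q := hJ₂ ▸ hgQ J hJQ
  have hJ₂C : J₂ ∉ Subgroup.zpowers c := by
    intro h
    have hg2 : g ^ 2 * c * (g ^ 2)⁻¹ = J₂ := by
      rw [hJ₂, hJ, pow_two]; group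
    have hodd2 : Odd (orderOf (g ^ 2)) := Odd.of_dvd_nat hgodd (orderOf_pow_dvd 2)
    have hg2Q : ∀ q ∈ Q, g ^ 2 * q * (g ^ 2)⁻¹ ∈ Q := by
      intro q hq
      have : g ^ 2 * q * (g ^ 2)⁻¹ = g * (g * q * g⁻¹) * g⁻¹ := by rw [pow_two]; group
      rw [this]; exact hgQ _ (hgQ q hq)
    have h1 := odd_centralizes_cyclic c (g ^ 2) k hk hodd2 (by rw [hg2]; exact h)
    have h2 := hcentQ (g ^ 2) hg2Q hodd2 h1
    obtain ⟨s, hs⟩ := exists_pow_eq_self g 2
      ((Nat.coprime_comm).mp (Nat.coprime_two_right.mpr hgodd))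
    apply hfalse
    intro y hy
    have hcomm : Commute (g ^ 2) y := by
      show g ^ 2 * y = y * g ^ 2
      calc g ^ 2 * y = (g ^ 2 * y * (g ^ 2)⁻¹) * g ^ 2 := by group
        _ = y * g ^ 2 := by rw [h2 y hy]
    have hcomm' : Commute g y := by rw [hs]; exact hcomm.pow_left s
    rw [hcomm'.eq]; group
  have hJ₂J : J₂ ∉ Subgroup.zpowers J := by
    intro h
    obtain ⟨l, hl⟩ := Subgroup.mem_zpowers_iff.mp h
    apply hgc
    have h1 : g * J * g⁻¹ = g * c ^ l * g⁻¹ := by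
      rw [← hJ₂, ← hl, hJ, conj_zpow]
    have h2 : J = c ^ l := by
      calc J = g⁻¹ * (g * J * g⁻¹) * g := by group
        _ = g⁻¹ * (g * c ^ l * g⁻¹) * g := by rw [h1]
        _ = c ^ l := by group
    rw [h2]; exact Subgroup.zpow_mem _ (Subgroup.mem_zpowers c) l
  have hJC : J ∉ Subgroup.zpowers c := hgc
  have hcases : J₂ = c * J ∨ J₂ = J * c := by
    have h1 := hidx2 J hJQ J₂ hJ₂Q hJC hJ₂C
    rw [← mem_powers_iff_mem_zpowers] at h1
    obtain ⟨e', he'⟩ := h1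
    have he : c ^ e' = J⁻¹ * J₂ := he'
    have hJ₂e : J₂ = J * c ^ (e' % 4) := by
      rw [← hc4, pow_mod_orderOf, he]; group
    have hlt : e' % 4 < 4 := Nat.mod_lt _ (by norm_num)
    obtain ⟨r, hr⟩ : ∃ r, r = e' % 4 := ⟨_, rfl⟩
    rw [← hr] at hJ₂e hlt
    interval_cases r
    · exfalso; apply hJ₂J
      rw [hJ₂e, pow_zero, mul_one]; exact Subgroup.mem_zpowers J
    · right; rw [hJ₂e, pow_one]
    · exfalso; apply hJ₂J
      rw [hJ₂e, ← hzc2, ← hJJ]
      have : J * (J * J) = J ^ 3 := by rw [pow_succ, pow_two]; group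
      rw [this]; exact Subgroup.pow_mem _ (Subgroup.mem_zpowers J) 3
    · left
      have h3 : c ^ 3 = c⁻¹ := by
        apply eq_inv_of_mul_eq_one_left
        rw [← pow_succ]; exact hc4pow
      rw [hJ₂e, h3]
      exact hrelJ.symm
  rcases hcases with h | h
  · exact hfinal c J (Subgroup.mem_zpowers c) hc4 rfl hzc2.symm hJQ hJA hJJ hrelJ hJ.symm
      (by rw [← hJ₂, h])
  · have hJinvA : J⁻¹ ∉ Subgroup.zpowers a := fun h' => hJA (inv_mem_iff.mp h')
    have e1 : c⁻¹ ^ 2 = z := by rw [inv_pow, ← hzc2, hzinv]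
    have e2 : J⁻¹ * J⁻¹ = z := by rw [← mul_inv_rev, hJJ, hzinv]
    have e3 : c⁻¹ * J⁻¹ = J⁻¹ * (c⁻¹)⁻¹ := by
      calc c⁻¹ * J⁻¹ = J⁻¹ * (J * c * J⁻¹)⁻¹ := by group
        _ = J⁻¹ * (c⁻¹)⁻¹ := by rw [hinvJ]
    have e4 : g * c⁻¹ * g⁻¹ = J⁻¹ := by rw [hJ]; group
    have e5 : g * J⁻¹ * g⁻¹ = c⁻¹ * J⁻¹ := by
      calc g * J⁻¹ * g⁻¹ = (g * J * g⁻¹)⁻¹ := by group
        _ = (J * c)⁻¹ := by rw [← hJ₂, h]
        _ = c⁻¹ * J⁻¹ := by group
    exact hfinal c⁻¹ J⁻¹ (inv_mem (Subgroup.mem_zpowers c)) (by rw [orderOf_inv, hc4])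
      Subgroup.zpowers_inv e1 (Q.inv_mem hJQ) hJinvA e2 e3 e4 e5

/-- Let G be a finite solvable group with O(G) = 1 whose Sylow 2-subgroup T is dihedral of order at least 8 or semidihedral, with G ≠ T and Z(T) normal in G. Then G has a normal subgroup isomorphic to SL₂(3). -/
theorem result {G : Type*} [Group G] [Finite G] (hsol : IsSolvable G) (hO : Cfsg.oddCore G = ⊥) (T : Sylow 2 G) (hT : (∃ n : ℕ, 4 ≤ n ∧ Nonempty (↥(T : Subgroup G) ≃* DihedralGroup n)) ∨ Cfsg.IsQuasiDihedral ↥(T : Subgroup G)) (hne : (T : Subgroup G) ≠ ⊤) (hZ : ((T : Subgroup G) ⊓ Subgroup.centralizer ((T : Subgroup G) : Set G)).Normal) : ∃ U : Subgroup G, U.Normal ∧ Nonempty (↥U ≃* Matrix.SpecialLinearGroup (Fin 2) (ZMod 3)) := by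
  haveI : Fact (Nat.Prime 2) := ⟨Nat.prime_two⟩
  rcases hT with ⟨n, hn, ⟨e⟩⟩ | hQD
  · have hcard : Nat.card ↥(T : Subgroup G) = 2 * n := by
      rw [Nat.card_congr e.toEquiv, DihedralGroup.nat_card]
    obtain ⟨k, hk⟩ := T.isPGroup'.exists_card_eq
    rw [hcard] at hk
    have hex : ∃ m', n = 2 * m' ∧ 2 ≤ m' := by
      rcases k with _ | _ | k'
      · rw [pow_zero] at hk; omega
      · rw [pow_one] at hk; omega
      · obtain ⟨P, hP⟩ : ∃ P, P = 2 ^ k' := ⟨_, rfl⟩
        rw [pow_succ, pow_succ, ← hP] at hk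
        exact ⟨P, by omega, by omega⟩
    obtain ⟨m', rfl, hm'⟩ := hex
    have hD := (dsd_dihedral m' hm').map ((T : Subgroup G).subtype.comp e.symm.toMonoidHom)
      ((T : Subgroup G).subtype_injective.comp e.symm.injective)
    have hr : ((T : Subgroup G).subtype.comp e.symm.toMonoidHom).range = T := by
      ext x
      constructor
      · rintro ⟨y, rfl⟩
        exact (e.symm y).2
      · intro hx
        exact ⟨e ⟨x, hx⟩, by simp⟩
    rw [hr] at hD
    exact main_of_dsd hsol hO T _ _ hD hne hZ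
  · obtain ⟨a, z, hD⟩ := dsd_quasi hQD
    have hD' := hD.map (T : Subgroup G).subtype (T : Subgroup G).subtype_injective
    rw [Subgroup.range_subtype] at hD'
    exact main_of_dsd hsol hO T _ _ hD' hne hZ

end Cfsg.Agent.S2879
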