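import Cfsg.Statements.S2880
import Cfsg.Agent.H1.PGroup

set_option autoImplicit false
open Cfsg
open scoped commutatorElement

namespace Cfsg.Agent.S2880

variable {E : Type*} [Group E]

structure Ctx (z : E) : Prop where
  ne : z ≠ 1
  sq : z * z = 1
  cen : ∀ x : E, x * z = z * x
  comm : ∀ x y : E, ⁅x, y⁆ = 1 ∨ ⁅x, y⁆ = z
  sqr : ∀ x : E, x * x = 1 ∨ x * x = z

theorem kmul {z : E} (C : Ctx z) (g y y' : E) : ⁅g, y * y'⁆ = ⁅g, y⁆ * ⁅g, y'⁆ := by
  have h : ⁅g, y * y'⁆ = ⁅g, y⁆ * (y * ⁅g, y'⁆ * y⁻¹) := by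
    simp only [commutatorElement_def]; group
  rw [h]
  rcases C.comm g y' with h1 | h1
  · rw [h1]; simp
  · rw [h1, C.cen y, mul_inv_cancel_right]

theorem half {z : E} (C : Ctx z) {S : Type*} [Group S] [Finite S] (ι : S →* E) (c : E)
    (hc : c = 1 ∨ c = z) (g : E) (s₀ : S) (h₀ : ⁅g, ι s₀⁆ ≠ 1) :
    2 * Nat.card {s : S // ⁅g, ι s⁆ = c} = Nat.card S := by
  classical
  have hz0 : ⁅g, ι s₀⁆ = z := (C.comm g (ι s₀)).resolve_left h₀
  have key : ∀ s : S, ⁅g, ι s⁆ = c ↔ ¬ (⁅g, ι (s * s₀)⁆ = c) := by
    intro s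
    rw [map_mul, kmul C, hz0]
    have hz := C.ne
    have hz' : (1 : E) ≠ z := fun h => C.ne h.symm
    rcases C.comm g (ι s) with h1 | h1 <;> rcases hc with rfl | rfl <;> rw [h1] <;>
      simp [hz, hz', C.sq]
  have e : {s : S // ⁅g, ι s⁆ = c} ≃ {s : S // ¬ (⁅g, ι s⁆ = c)} :=
    (Equiv.mulRight s₀).subtypeEquiv (fun s => by simpa using key s)
  have hsum : Nat.card S =
      Nat.card {s : S // ⁅g, ι s⁆ = c} + Nat.card {s : S // ¬ (⁅g, ι s⁆ = c)} := by
    rw [← Nat.card_sum]
    exact Nat.card_congr (Equiv.sumCompl _).symm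
  rw [hsum, ← Nat.card_congr e]; ring

theorem dcount {α β : Type*} [Fintype α] [Fintype β] (R : α → β → Prop) :
    ∑ a : α, Nat.card {b : β // R a b} = ∑ b : β, Nat.card {a : α // R a b} := by
  classical
  have h1 : ∀ a, Nat.card {b : β // R a b} =
      ((Finset.univ : Finset β).bipartiteAbove R a).card := by
    intro a
    rw [Nat.card_eq_fintype_card, Fintype.card_subtype]; rfl
  have h2 : ∀ b, Nat.card {a : α // R a b} =
      ((Finset.univ : Finset α).bipartiteBelow R b).card := by
    intro b
    rw [Nat.card_eq_fintype_card, Fintype.card_subtype]; rfl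
  simp only [h1, h2]
  exact Finset.sum_card_bipartiteAbove_eq_sum_card_bipartiteBelow R

theorem sum_two {α : Type*} [Fintype α] (P : α → Prop) (f : α → ℕ) (e : ℕ)
    (h1 : ∀ a, P a → f a = 2 * e) (h2 : ∀ a, ¬ P a → f a = e) :
    ∑ a, f a = (Nat.card α + Nat.card {a // P a}) * e := by
  classical
  have hf : ∀ a, f a = e + (if P a then e else 0) := by
    intro a; by_cases h : P a
    · rw [h1 a h, if_pos h]; ring
    · rw [h2 a h, if_neg h, add_zero]
  rw [Finset.sum_congr rfl (fun a _ => hf a)]
  rw [Finset.sum_add_distrib, Finset.sum_const, Finset.card_univ, Finset.sum_ite,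
    Finset.sum_const, Finset.sum_const_zero, add_zero, Nat.card_eq_fintype_card,
    Nat.card_eq_fintype_card, Fintype.card_subtype]
  simp [add_mul]


theorem result {E : Type*} [Group E] [Finite E] (m : ℕ) (hm : 1 ≤ m) (hE : Cfsg.IsExtraspecial 2 E) (hcard : Nat.card E = 2 ^ (2 * m + 1)) (hplus : ∃ A : Subgroup E, Cfsg.IsElementaryAbelian 2 A ∧ Nat.card A = 2 ^ (m + 1)) : Nat.card {x : E // orderOf x = 4} = 2 ^ (2 * m) - 2 ^ m := by
  classical
  obtain ⟨A, hA, hAcard⟩ := hplus
  obtain ⟨⟨hp, hfr, hcm⟩, hZ⟩ := hE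
  haveI : Fintype E := Fintype.ofFinite E
  haveI : Fintype A := Fintype.ofFinite A
  -- the central involution
  obtain ⟨⟨z, hzc⟩, hz1, huniq⟩ := (Nat.card_eq_two_iff' (1 : Subgroup.center E)).mp hZ
  have hz1' : z ≠ 1 := fun h => hz1 (Subtype.ext h)
  have hcen : ∀ w ∈ Subgroup.center E, w = 1 ∨ w = z := by
    intro w hw
    by_cases h : w = 1
    · exact Or.inl h
    · right
      have := huniq ⟨w, hw⟩ (fun h' => h (by simpa using congrArg Subtype.val h'))
      simpa using congrArg Subtype.val this
  have hsqr : ∀ x : E, x * x = 1 ∨ x * x = z := by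
    intro x
    apply hcen
    rw [← hfr, ← pow_two]
    exact Cfsg.Agent.H1.pow_p_mem_frattini hp x
  have C : Ctx z := by
    refine ⟨hz1', ?_, fun x => Subgroup.mem_center_iff.mp hzc x, ?_, hsqr⟩
    · rcases hsqr z with h | h
      · exact h
      · exfalso; apply hz1'
        have : z * z = z * 1 := by rw [h, mul_one]
        exact mul_left_cancel this
    · intro x y
      apply hcen
      rw [← hcm, commutator_def]
      exact Subgroup.commutator_mem_commutator (Subgroup.mem_top x) (Subgroup.mem_top y)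
  have hAcomm : ∀ a ∈ A, ∀ b ∈ A, a * b = b * a := by
    intro a ha b hb
    have := hA.1.is_comm.comm ⟨a, ha⟩ ⟨b, hb⟩
    simpa using congrArg Subtype.val this
  have hAsq : ∀ a ∈ A, a * a = 1 := by
    intro a ha
    rw [← pow_two]; exact hA.2 a ha
  have hAC : A ≤ Subgroup.centralizer (A : Set E) := by
    intro a ha
    rw [Subgroup.mem_centralizer_iff]
    intro b hb
    exact hAcomm b hb a ha
  -- first double count
  have hf : ∑ a : A, 2 * Nat.card {y : E // (a : E) * y = y * a} =
      (Nat.card A + Nat.card {a : A // (a : E) ∈ Subgroup.center E}) * Nat.card E := by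
    apply sum_two
    · intro a ha
      congr 1
      apply Nat.card_congr
      exact Equiv.subtypeUnivEquiv (fun y => ((Subgroup.mem_center_iff.mp ha) y).symm)
    · intro a ha
      have : ∃ y₀ : E, ¬ (y₀ * (a : E) = a * y₀) := by
        by_contra hcon
        push_neg at hcon
        exact ha (Subgroup.mem_center_iff.mpr hcon)
      obtain ⟨y₀, hy₀⟩ := this
      have hh := half C (MonoidHom.id E) 1 (Or.inl rfl) (a : E) y₀ (by
        intro h
        rw [commutatorElement_eq_one_iff_mul_comm] at h
        exact hy₀ h.symm)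
      rw [← hh]
      congr 1
      apply Nat.card_congr
      exact Equiv.subtypeEquivRight (fun y => by
        rw [MonoidHom.id_apply, commutatorElement_eq_one_iff_mul_comm])
  have hg : ∑ y : E, 2 * Nat.card {a : A // (a : E) * y = y * a} =
      (Nat.card E + Nat.card {y : E // y ∈ Subgroup.centralizer (A : Set E)}) * Nat.card A := by
    apply sum_two
    · intro y hy
      congr 1
      apply Nat.card_congr
      exact Equiv.subtypeUnivEquiv (fun a => (Subgroup.mem_centralizer_iff.mp hy) a a.2)
    · intro y hy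
      have : ∃ a₀ : A, ¬ ((a₀ : E) * y = y * a₀) := by
        by_contra hcon
        push_neg at hcon
        apply hy
        rw [Subgroup.mem_centralizer_iff]
        intro a ha
        exact hcon ⟨a, ha⟩
      obtain ⟨a₀, ha₀⟩ := this
      have hh := half C A.subtype 1 (Or.inl rfl) y a₀ (by
        intro h
        rw [commutatorElement_eq_one_iff_mul_comm] at h
        exact ha₀ h.symm)
      rw [← hh]
      congr 1
      apply Nat.card_congr
      exact Equiv.subtypeEquivRight (fun a => by
        rw [Subgroup.coe_subtype, commutatorElement_eq_one_iff_mul_comm, eq_comm])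
  have hdc := dcount (fun (a : A) (y : E) => (a : E) * y = y * a)
  have hfg : (Nat.card A + Nat.card {a : A // (a : E) ∈ Subgroup.center E}) * Nat.card E =
      (Nat.card E + Nat.card {y : E // y ∈ Subgroup.centralizer (A : Set E)}) * Nat.card A := by
    rw [← hf, ← hg, ← Finset.mul_sum, ← Finset.mul_sum, hdc]
  have hnZ : Nat.card {a : A // (a : E) ∈ Subgroup.center E} ≤ 2 := by
    rw [← hZ]
    apply Nat.card_le_card_of_injective (fun a => (⟨a.1.1, a.2⟩ : Subgroup.center E))
    intro a b hab
    apply Subtype.ext; apply Subtype.ext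
    simpa using congrArg Subtype.val hab
  have hnC : Nat.card A ≤ Nat.card {y : E // y ∈ Subgroup.centralizer (A : Set E)} :=
    Subgroup.card_le_of_le hAC
  have hpow : (2 : ℕ) ^ (2 * m + 1) = 2 ^ m * 2 ^ (m + 1) := by
    rw [← pow_add]; congr 1; ring
  have hCcard : Nat.card (Subgroup.centralizer (A : Set E)) = Nat.card A := by
    have h1 : Nat.card {a : A // (a : E) ∈ Subgroup.center E} * Nat.card E =
        Nat.card {y : E // y ∈ Subgroup.centralizer (A : Set E)} * Nat.card A := by
      have := hfg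
      rw [add_mul, add_mul, mul_comm (Nat.card A) (Nat.card E)] at this
      exact Nat.add_left_cancel this
    rw [hcard, hAcard, hpow, ← mul_assoc] at h1
    have h2 := Nat.eq_of_mul_eq_mul_right (by positivity) h1
    rw [hAcard] at hnC
    have hle : Nat.card {y : E // y ∈ Subgroup.centralizer (A : Set E)} ≤ 2 * 2 ^ m := by
      rw [← h2]; exact Nat.mul_le_mul_right _ hnZ
    rw [hAcard]
    apply le_antisymm
    · calc _ ≤ 2 * 2 ^ m := hle
        _ = 2 ^ (m + 1) := by rw [pow_succ]; ring
    · exact hnC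
  have hCA : Subgroup.centralizer (A : Set E) = A :=
    (Subgroup.eq_of_le_of_card_ge hAC (le_of_eq hCcard)).symm
  -- second double count
  have hid : ∀ x a : E, (x * a) * (x * a) = (x * x) * ⁅x⁻¹, a⁆ * (a * a) := by
    intro x a; simp only [commutatorElement_def]; group
  have hs : ∑ x : E, 2 * Nat.card {a : A // (x * a) * (x * a) = 1} =
      (Nat.card E + Nat.card {x : E // x ∈ A}) * Nat.card A := by
    apply sum_two
    · intro x hx
      congr 1
      apply Nat.card_congr
      exact Equiv.subtypeUnivEquiv (fun a => hAsq _ (A.mul_mem hx a.2))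
    · intro x hx
      have hxC : x ∉ Subgroup.centralizer (A : Set E) := by rw [hCA]; exact hx
      have : ∃ a₀ : A, ¬ ((a₀ : E) * x = x * a₀) := by
        by_contra hcon
        push_neg at hcon
        apply hxC
        rw [Subgroup.mem_centralizer_iff]
        intro a ha
        exact hcon ⟨a, ha⟩
      obtain ⟨a₀, ha₀⟩ := this
      have hxx : (x * x) * (x * x) = 1 := by
        rcases C.sqr x with h | h <;> rw [h]
        · simp
        · exact C.sq
      have hh := half C A.subtype (x * x) (C.sqr x) x⁻¹ a₀ (by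
        intro h
        rw [commutatorElement_eq_one_iff_mul_comm, Subgroup.coe_subtype] at h
        apply ha₀
        calc (a₀ : E) * x = x * (x⁻¹ * a₀) * x := by group
          _ = x * (a₀ * x⁻¹) * x := by rw [h]
          _ = x * a₀ := by group)
      rw [← hh]
      congr 1
      apply Nat.card_congr
      refine Equiv.subtypeEquivRight (fun a => ?_)
      rw [Subgroup.coe_subtype]
      constructor
      · intro h
        rw [hid, hAsq _ a.2, mul_one] at h
        calc ⁅x⁻¹, (a : E)⁆ = (x * x) * (x * x) * ⁅x⁻¹, (a : E)⁆ := by rw [hxx, one_mul]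
          _ = (x * x) * ((x * x) * ⁅x⁻¹, (a : E)⁆) := by rw [mul_assoc]
          _ = x * x := by rw [h, mul_one]
      · intro h
        rw [hid, hAsq _ a.2, mul_one, h, hxx]
  have hdc2 := dcount (fun (x : E) (a : A) => (x * (a : E)) * (x * a) = 1)
  have hN : ∀ a : A, Nat.card {x : E // (x * (a : E)) * (x * a) = 1} =
      Nat.card {w : E // w * w = 1} := by
    intro a
    apply Nat.card_congr
    exact (Equiv.mulRight (a : E)).subtypeEquiv (fun x => Iff.rfl)
  have hN2 : 2 * (Nat.card A * Nat.card {w : E // w * w = 1}) =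
      (Nat.card E + Nat.card A) * Nat.card A := by
    have h1 : (Nat.card {x : E // x ∈ A}) = Nat.card A := rfl
    rw [← h1, ← hs, ← Finset.mul_sum, hdc2]
    congr 1
    rw [Finset.sum_congr rfl (fun a _ => hN a), Finset.sum_const, Finset.card_univ,
      Nat.card_eq_fintype_card (α := A), smul_eq_mul]
  have hN3 : 2 * Nat.card {w : E // w * w = 1} = Nat.card E + Nat.card A := by
    have hApos : 0 < Nat.card A := Nat.card_pos
    have : (2 * Nat.card {w : E // w * w = 1}) * Nat.card A =
        (Nat.card E + Nat.card A) * Nat.card A := by rw [← hN2]; ring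
    exact Nat.eq_of_mul_eq_mul_right hApos this
  -- order four
  have hord : ∀ x : E, orderOf x = 4 ↔ ¬ (x * x = 1) := by
    intro x
    constructor
    · intro h hx
      have : orderOf x ∣ 2 := orderOf_dvd_of_pow_eq_one (by rw [pow_two]; exact hx)
      rw [h] at this
      omega
    · intro hx
      have hxz : x * x = z := (C.sqr x).resolve_left hx
      have h4 : orderOf x = 2 ^ (1 + 1) := by
        apply orderOf_eq_prime_pow
        · rw [pow_one, pow_two]; exact hx
        · rw [show (2 : ℕ) ^ (1 + 1) = 2 + 2 from rfl, pow_add, pow_two, hxz, C.sq]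
      simpa using h4
  have hsplit : Nat.card E = Nat.card {w : E // w * w = 1} + Nat.card {w : E // ¬ (w * w = 1)} := by
    rw [← Nat.card_sum]
    exact Nat.card_congr (Equiv.sumCompl _).symm
  rw [Nat.card_congr (Equiv.subtypeEquivRight hord)]
  have hp2 : (2 : ℕ) ^ (2 * m + 1) = 2 * 2 ^ (2 * m) := by rw [pow_succ]; ring
  have hp3 : (2 : ℕ) ^ (m + 1) = 2 * 2 ^ m := by rw [pow_succ]; ring
  rw [hcard, hAcard, hp2, hp3] at hN3
  rw [hcard, hp2] at hsplit
  omega

end Cfsg.Agent.S2880
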