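import Cfsg.Statements.S2881
import Cfsg.Agent.S2880

set_option autoImplicit false
open Cfsg

namespace Cfsg.Agent.S2881

theorem four_dvd_of_pow (m : ℕ) (h : 5 ∣ 2 ^ m - 1) : 4 ∣ m := by
  have hpos : 1 ≤ 2 ^ m := Nat.one_le_two_pow
  have h1 : 2 ^ m % 5 = 1 := by
    obtain ⟨c, hc⟩ := h
    have : 2 ^ m = 5 * c + 1 := by omega
    rw [this]; omega
  have h2 : 2 ^ m = (2 ^ 4) ^ (m / 4) * 2 ^ (m % 4) := by
    rw [← pow_mul, ← pow_add, Nat.div_add_mod]
  have h3 : (2 ^ 4) ^ (m / 4) % 5 = 1 := by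
    rw [Nat.pow_mod]; norm_num
  have h4 : 2 ^ (m % 4) % 5 = 1 := by
    rw [h2, Nat.mul_mod, h3, one_mul, Nat.mod_mod] at h1
    exact h1
  have h5 : m % 4 < 4 := Nat.mod_lt _ (by norm_num)
  have h6 : m % 4 = 0 := by
    interval_cases (m % 4) <;> simp_all
  exact Nat.dvd_of_mod_eq_zero h6

theorem result {E : Type*} [Group E] [Finite E] (m : ℕ) (hm : 1 ≤ m) (hE : Cfsg.IsExtraspecial 2 E) (hcard : Nat.card E = 2 ^ (2 * m + 1)) (hplus : ∃ A : Subgroup E, Cfsg.IsElementaryAbelian 2 A ∧ Nat.card A = 2 ^ (m + 1)) (ω : E ≃* E) (hω : orderOf ω = 5) (hfix : ∀ x : E, ω x = x ↔ x ∈ Subgroup.center E) : 4 ∣ m := by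
  classical
  haveI : Fintype E := Fintype.ofFinite E
  haveI : Fact (Nat.Prime 5) := ⟨by norm_num⟩
  have hcount := Cfsg.Agent.S2880.result m hm hE hcard hplus
  have hω5 : ω ^ 5 = 1 := by rw [← hω]; exact pow_orderOf_eq_one ω
  -- the induced map on elements of order 4
  let f : Function.End {x : E // orderOf x = 4} := fun x => ⟨ω x.1, by
    rw [MulEquiv.orderOf_eq]; exact x.2⟩
  have hfpow : ∀ (n : ℕ) (x : {x : E // orderOf x = 4}), ((f ^ n) x).1 = (ω ^ n) x.1 := by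
    intro n
    induction n with
    | zero => intro x; rfl
    | succ n ih =>
      intro x
      rw [pow_succ, pow_succ]
      show ((f ^ n) (f x)).1 = (ω ^ n) (ω x.1)
      rw [ih]
  have hf : f ^ 5 ^ 1 = 1 := by
    funext x
    apply Subtype.ext
    rw [pow_one, hfpow, hω5]; rfl
  have hmod := Equiv.Perm.card_fixedPoints_modEq (p := 5) (n := 1) hf
  have hempty : Fintype.card (Function.fixedPoints f) = 0 := by
    rw [Fintype.card_eq_zero_iff]
    constructor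
    rintro ⟨x, hx⟩
    have h1 : ω x.1 = x.1 := congrArg Subtype.val hx
    have h2 : x.1 ∈ Subgroup.center E := (hfix x.1).mp h1
    have h3 : (⟨x.1, h2⟩ : Subgroup.center E) ^ Nat.card (Subgroup.center E) = 1 :=
      pow_card_eq_one'
    rw [hE.2] at h3
    have h4 : x.1 ^ 2 = 1 := by simpa using congrArg Subtype.val h3
    have h5 := orderOf_dvd_of_pow_eq_one h4
    rw [x.2] at h5
    omega
  rw [hempty, ← Nat.card_eq_fintype_card, hcount] at hmod
  have hdvd : 5 ∣ 2 ^ (2 * m) - 2 ^ m := (Nat.modEq_zero_iff_dvd).mp hmod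
  have hfac : 2 ^ (2 * m) - 2 ^ m = 2 ^ m * (2 ^ m - 1) := by
    rw [two_mul, pow_add, Nat.mul_sub_one]
  rw [hfac] at hdvd
  have hcop : Nat.Coprime 5 (2 ^ m) := Nat.Coprime.pow_right _ (by norm_num)
  exact four_dvd_of_pow m (hcop.dvd_of_dvd_mul_left hdvd)

end Cfsg.Agent.S2881
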