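import Cfsg.Statements.S2910
import Mathlib
import Cfsg.Agent.Lib.Lead.OmegaFaithful
import Cfsg.Agent.Lib.Lead.NormalPComplement

set_option autoImplicit false
open Cfsg

namespace Cfsg.Agent.S2910



/-- Let p be an odd prime dividing the order of the finite group G and P a Sylow p-subgroup of G. If Ω₁(P) (generated by the elements of order dividing p) is contained in the centre of G, then G has a normal p-complement. In particular, if G is quasisimple then Ω₁(P) is not central in G. -/
theorem result {G : Type*} [Group G] [Finite G] {p : ℕ} [Fact p.Prime] (hp : p ≠ 2) (hdiv : p ∣ Nat.card G) (P : Sylow p G) (hZ : Cfsg.omegaOne p (P : Subgroup G) ≤ Subgroup.center G) : Cfsg.HasNormalPComplement p G ∧ ¬ Cfsg.IsQuasisimple G := by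
  classical
  have hN : Cfsg.HasNormalPComplement p G := by
    apply Cfsg.Agent.Lib.Lead.NormalPComplement.hasNormalPComplement_of_p'_centralize P
    intro Q hQ g hg hgp
    apply Cfsg.Agent.Lib.Lead.OmegaFaithful.centralizes_of_fixes_small Q (P.isPGroup'.to_le hQ) g hg hgp
    intro x hx hsmall
    have hxp : x ^ p = 1 := hsmall.elim id (fun h2 => absurd h2.1 hp)
    have hxZ : x ∈ Subgroup.center G := hZ (Subgroup.subset_closure ⟨hQ hx, hxp⟩)
    rw [Subgroup.mem_center_iff] at hxZ
    rw [hxZ g]; group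
  refine ⟨hN, ?_⟩
  rintro ⟨hperf, -⟩
  obtain ⟨N, hNn, hNc, k, hk⟩ := Cfsg.Agent.Lib.Lead.NormalPComplement.exists_normal_of_hasNormalPComplement hN
  haveI := hNn
  haveI := hperf
  have hq : IsPGroup p (G ⧸ N) := by
    apply IsPGroup.of_card (n := k)
    rw [← Subgroup.index_eq_card, hk]
  haveI : Group.IsNilpotent (G ⧸ N) := hq.isNilpotent
  have hsub : Subsingleton (G ⧸ N) := by
    by_contra hns
    rw [not_subsingleton_iff_nontrivial] at hns
    haveI := hns
    exact Group.IsPerfect.not_isNilpotent (G := G ⧸ N) inferInstance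
  have hidx : N.index = 1 := by
    rw [Subgroup.index_eq_card]
    exact Nat.card_eq_one_iff_unique.2 ⟨hsub, ⟨1⟩⟩
  have hNtop : N = ⊤ := Subgroup.index_eq_one.1 hidx
  have hcard : Nat.card ↥N = Nat.card G := by rw [hNtop]; exact Subgroup.card_top
  rw [hcard] at hNc
  have h4 : p ∣ Nat.gcd (Nat.card G) p := Nat.dvd_gcd hdiv dvd_rfl
  rw [hNc] at h4
  exact (Fact.out : p.Prime).one_lt.ne' (Nat.dvd_one.1 h4)

end Cfsg.Agent.S2910
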