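import Cfsg.Statements.S2911
import Mathlib
import Cfsg.Agent.S1244
import Cfsg.Agent.Lib.Helper7.ThompsonTransferO2
import Cfsg.Agent.Lib.Lead.Conj

set_option autoImplicit false
open Cfsg
open scoped commutatorElement

namespace Cfsg.Agent.S2911


set_option maxRecDepth 100000 in
theorem central_kernel :
    ∀ x : Multiplicative (ZMod 2) × DihedralGroup 4, x.1 = 1 → (∀ y, y * x = x * y) →
      x = 1 ∨ x = ⁅((1 : Multiplicative (ZMod 2)), DihedralGroup.r (1 : ZMod 4)),
        ((1 : Multiplicative (ZMod 2)), DihedralGroup.sr (0 : ZMod 4))⁆ := by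
  decide

set_option maxRecDepth 100000 in
theorem z_central :
    ∀ x : Multiplicative (ZMod 2) × DihedralGroup 4,
      x * (Multiplicative.ofAdd (1 : ZMod 2), (1 : DihedralGroup 4)) =
        (Multiplicative.ofAdd (1 : ZMod 2), (1 : DihedralGroup 4)) * x := by
  decide

theorem z_sq : (Multiplicative.ofAdd (1 : ZMod 2), (1 : DihedralGroup 4)) ^ 2 = 1 := by
  decide

theorem z_ne : Multiplicative.ofAdd (1 : ZMod 2) ≠ (1 : Multiplicative (ZMod 2)) := by
  decide

/-- A finite group whose Sylow 2-subgroups are isomorphic to the direct product of a group of order 2 and a dihedral group of order 8 has a subgroup of index two. -/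
theorem result {G : Type*} [Group G] [Finite G] (S : Sylow 2 G) (hS : Nonempty (↥(S : Subgroup G) ≃* Multiplicative (ZMod 2) × DihedralGroup 4)) : ∃ H : Subgroup G, H.index = 2 := by
  haveI : Fact (Nat.Prime 2) := ⟨Nat.prime_two⟩
  by_contra hcon
  push Not at hcon
  obtain ⟨e⟩ := hS
  have htriv : ∀ (A : Type _) [CommGroup A] [Finite A], IsPGroup 2 A → ∀ (f : G →* A) (g : G), f g = 1 :=
    fun A _ _ hA f g => Cfsg.Agent.S1244.hom_trivial hcon hA f g
  obtain ⟨φ, hφ⟩ : ∃ φ : ↥(S : Subgroup G) →* Multiplicative (ZMod 2),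
      φ = (MonoidHom.fst _ _).comp e.toMonoidHom := ⟨_, rfl⟩
  have hφapp : ∀ s, φ s = (e s).1 := by intro s; rw [hφ]; rfl
  obtain ⟨T, hT⟩ : ∃ T, T = φ.ker.map (S : Subgroup G).subtype := ⟨_, rfl⟩
  have hTS : T ≤ (S : Subgroup G) := by rw [hT]; exact Subgroup.map_subtype_le _
  have hTeq : T.subgroupOf (S : Subgroup G) = φ.ker := by
    rw [hT]
    exact Subgroup.comap_map_eq_self_of_injective (Subgroup.subtype_injective _) _
  haveI hTn : (T.subgroupOf (S : Subgroup G)).Normal := by rw [hTeq]; infer_instance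
  obtain ⟨z', hz'⟩ : ∃ z' : ↥(S : Subgroup G),
      z' = e.symm (Multiplicative.ofAdd (1 : ZMod 2), (1 : DihedralGroup 4)) := ⟨_, rfl⟩
  have hez : e z' = (Multiplicative.ofAdd (1 : ZMod 2), (1 : DihedralGroup 4)) := by
    rw [hz', MulEquiv.apply_symm_apply]
  have hφz : φ z' = Multiplicative.ofAdd (1 : ZMod 2) := by rw [hφapp, hez]
  have hφsurj : Function.Surjective φ := by
    intro y
    refine ⟨e.symm (y, 1), ?_⟩
    rw [hφapp, MulEquiv.apply_symm_apply]
  have hidx : (T.subgroupOf (S : Subgroup G)).index = 2 := by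
    rw [hTeq, Subgroup.index_ker, MonoidHom.range_eq_top.2 hφsurj, Subgroup.card_top]
    simp
  have hcyc : IsCyclic (↥(S : Subgroup G) ⧸ T.subgroupOf (S : Subgroup G)) := by
    apply isCyclic_of_prime_card (p := 2)
    rw [← Subgroup.index_eq_card]; exact hidx
  have hz'ne : z' ≠ 1 := by
    intro h
    rw [h, map_one] at hφz
    exact z_ne hφz.symm
  have hz'sq : z' ^ 2 = 1 := by
    apply e.injective
    rw [map_pow, hez, z_sq, map_one]
  have hz'cent : ∀ s : ↥(S : Subgroup G), s * z' = z' * s := by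
    intro s
    apply e.injective
    rw [map_mul, map_mul, hez]
    exact z_central (e s)
  have hzord : orderOf (z' : G) = 2 := by
    apply orderOf_eq_prime
    · have := congrArg Subtype.val hz'sq
      simpa using this
    · intro h
      apply hz'ne
      exact Subtype.ext (by simpa using h)
  have hzT : (z' : G) ∉ T := by
    intro h
    rw [hT] at h
    obtain ⟨k, hk, hkz⟩ := h
    have : k = z' := Subtype.ext hkz
    rw [this, SetLike.mem_coe, MonoidHom.mem_ker, hφz] at hk
    exact z_ne hk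
  obtain ⟨g, hgT, -, hg3⟩ := Cfsg.Agent.Lib.Helper7.exists_extremal_conj htriv S T hTS hcyc
    (z' : G) hzord z'.2 hzT
  have hSz : (S : Subgroup G) ⊓ Subgroup.centralizer {(z' : G)} = (S : Subgroup G) := by
    rw [inf_eq_left]
    intro s hs
    rw [Subgroup.mem_centralizer_singleton_iff]
    have := congrArg Subtype.val (hz'cent ⟨s, hs⟩)
    simpa using this
  rw [hSz] at hg3
  have hSg := Cfsg.Agent.Lib.Lead.Conj.map_conj_eq_of_le (S : Subgroup G) g (hg3.trans inf_le_left)
  have hcent : ∀ s ∈ (S : Subgroup G), s * (g * z' * g⁻¹) = g * z' * g⁻¹ * s := by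
    intro s hs
    have h1 : s ∈ (S : Subgroup G) ⊓ Subgroup.centralizer {g * (z' : G) * g⁻¹} := by
      apply hg3; rw [hSg]; exact hs
    exact Subgroup.mem_centralizer_singleton_iff.1 (Subgroup.mem_inf.1 h1).2
  rw [hT] at hgT
  obtain ⟨k, hk, hkt⟩ := hgT
  have hkt' : (k : G) = g * z' * g⁻¹ := hkt
  have hkcent : ∀ y, y * e k = e k * y := by
    intro y
    have h1 : (e.symm y) * k = k * (e.symm y) := by
      apply Subtype.ext
      rw [Subgroup.coe_mul, Subgroup.coe_mul, hkt']
      exact hcent _ (e.symm y).2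
    have h2 := congrArg e h1
    rwa [map_mul, map_mul, MulEquiv.apply_symm_apply] at h2
  have hk1 : (e k).1 = 1 := by rw [← hφapp]; exact hk
  rcases central_kernel (e k) hk1 hkcent with h | h
  · have hk0 : k = 1 := e.injective (by rw [h, map_one])
    rw [hk0, Subgroup.coe_one] at hkt'
    have : (z' : G) = 1 := by
      have h2 : g⁻¹ * (g * (z' : G) * g⁻¹) * g = g⁻¹ * 1 * g := by rw [← hkt']
      simpa [mul_assoc] using h2
    exact hz'ne (Subtype.ext (by simpa using this))
  · obtain ⟨u, hu⟩ : ∃ u : ↥(S : Subgroup G),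
        u = e.symm ((1 : Multiplicative (ZMod 2)), DihedralGroup.r (1 : ZMod 4)) := ⟨_, rfl⟩
    obtain ⟨v, hv⟩ : ∃ v : ↥(S : Subgroup G),
        v = e.symm ((1 : Multiplicative (ZMod 2)), DihedralGroup.sr (0 : ZMod 4)) := ⟨_, rfl⟩
    have hkuv : k = ⁅u, v⁆ := by
      apply e.injective
      rw [h, map_commutatorElement, hu, hv, MulEquiv.apply_symm_apply, MulEquiv.apply_symm_apply]
    have hmem : ∀ x ∈ (S : Subgroup G), g⁻¹ * x * g ∈ (S : Subgroup G) := by
      intro x hx
      rw [← hSg] at hx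
      exact (Cfsg.Agent.Lib.Lead.Conj.mem_map_conj _ _ _).1 hx
    have hzcomm : (z' : G) = ⁅g⁻¹ * (u : G) * g, g⁻¹ * (v : G) * g⁆ := by
      have h1 : (z' : G) = g⁻¹ * (k : G) * g := by rw [hkt']; group
      rw [h1, hkuv]
      show g⁻¹ * ((⁅u, v⁆ : ↥(S : Subgroup G)) : G) * g = _
      rw [commutatorElement_def, commutatorElement_def]
      simp only [Subgroup.coe_mul, Subgroup.coe_inv]
      group
    have hz'comm : z' = ⁅(⟨g⁻¹ * (u : G) * g, hmem _ u.2⟩ : ↥(S : Subgroup G)),
        (⟨g⁻¹ * (v : G) * g, hmem _ v.2⟩ : ↥(S : Subgroup G))⁆ := by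
      apply Subtype.ext
      rw [hzcomm, commutatorElement_def, commutatorElement_def]
      simp only [Subgroup.coe_mul, Subgroup.coe_inv]
    have : φ z' = 1 := by
      rw [hz'comm, map_commutatorElement, commutatorElement_eq_one_iff_mul_comm]
      exact mul_comm _ _
    rw [hφz] at this
    exact z_ne this

end Cfsg.Agent.S2911
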