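import Mathlib
import Cfsg.Statements.S2912
import Cfsg.Agent.H2.ExtraspecialModuleMain

set_option autoImplicit false
open Cfsg

namespace Cfsg.Agent.S2912

/-- Let p and r be distinct primes, let E be an extraspecial subgroup of order p^(2w+1) of a finite group, and let A be an elementary abelian r-subgroup normalized by E on which E acts faithfully (C_E(A) = 1). If n ≥ 1 is least with p dividing rⁿ − 1 (the smallest dimension of a faithful representation of a group of order p over the field with r elements), then the order of A is at least r^(n·p^w). -/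
theorem result {G : Type*} [Group G] [Finite G] {p r : ℕ} [Fact p.Prime] [hr : Fact r.Prime] (hpr : p ≠ r) (E A : Subgroup G) (w : ℕ) (hE : Cfsg.IsExtraspecial p ↥E) (hEcard : Nat.card ↥E = p ^ (2 * w + 1)) (hA : Cfsg.IsElementaryAbelian r A) (hnorm : E ≤ Subgroup.normalizer (A : Set G)) (hfaith : E ⊓ Subgroup.centralizer (A : Set G) = ⊥) (n : ℕ) (hn : 1 ≤ n) (hdiv : p ∣ r ^ n - 1) (hmin : ∀ k : ℕ, 1 ≤ k → p ∣ r ^ k - 1 → n ≤ k) : r ^ (n * p ^ w) ≤ Nat.card ↥A := by
  have hAfin : Finite ↥A := inferInstance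
  let instC : CommGroup ↥A :=
    { (inferInstance : Group ↥A) with mul_comm := isMulCommutative_iff.1 hA.1 }
  let instA : MulDistribMulAction ↥E ↥A :=
    { smul := fun g a => ⟨(g : G) * a * (g : G)⁻¹,
        (Subgroup.mem_normalizer_iff.mp (hnorm g.2) a).mp a.2⟩
      one_smul := fun a => Subtype.ext (by
        show ((1 : ↥E) : G) * a * ((1 : ↥E) : G)⁻¹ = a
        simp)
      mul_smul := fun g g' a => Subtype.ext (by
        show ((g * g' : ↥E) : G) * a * ((g * g' : ↥E) : G)⁻¹
          = (g : G) * ((g' : G) * a * (g' : G)⁻¹) * (g : G)⁻¹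
        rw [Subgroup.coe_mul]; group)
      smul_mul := fun g a b => Subtype.ext (by
        show (g : G) * ((a * b : ↥A) : G) * (g : G)⁻¹
          = ((g : G) * a * (g : G)⁻¹) * ((g : G) * b * (g : G)⁻¹)
        rw [Subgroup.coe_mul]; group)
      smul_one := fun g => Subtype.ext (by
        show (g : G) * ((1 : ↥A) : G) * (g : G)⁻¹ = ((1 : ↥A) : G)
        simp) }
  have hsmul : ∀ (g : ↥E) (a : ↥A), ((g • a : ↥A) : G) = (g : G) * a * (g : G)⁻¹ := fun _ _ => rfl
  apply Cfsg.Agent.H2.ESM.bound_of_faithful hpr hmin hn hE w hEcard ↥A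
  · intro a
    exact Subtype.ext (hA.2 a a.2)
  · intro g hg
    have hmem : (g : G) ∈ E ⊓ Subgroup.centralizer (A : Set G) := by
      rw [Subgroup.mem_inf]
      refine ⟨g.2, ?_⟩
      rw [Subgroup.mem_centralizer_iff]
      intro a ha
      have h1 := congrArg Subtype.val (hg ⟨a, ha⟩)
      rw [hsmul] at h1
      have h2 : (g : G) * a = a * g := by
        calc (g : G) * a = ((g : G) * a * (g : G)⁻¹) * g := by group
          _ = a * g := by rw [h1]
      exact h2.symm
    rw [hfaith, Subgroup.mem_bot] at hmem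
    exact Subtype.ext hmem

end Cfsg.Agent.S2912
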