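import Cfsg.Statements.S2925
import Mathlib
import Cfsg.Agent.H2.PComponentSylow
import Cfsg.Agent.H2.Layer
import Cfsg.Agent.H2.Components
import Cfsg.Agent.Lib.Lead.Conj
import Cfsg.Agent.Lib.Helper7.SylowLib

set_option autoImplicit false
open Cfsg
open scoped commutatorElement

namespace Cfsg.Agent.S2925


/-- Let K be a component of the finite group X and T a Sylow 2-subgroup of X. If some abelian normal subgroup Y of T does not normalize K, then K ⧸ Z(K) has abelian Sylow 2-subgroups. -/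
theorem result {X : Type*} [Group X] [Finite X] (K : Subgroup X) (hK : Cfsg.IsComponent K) (T : Sylow 2 X) (Y : Subgroup X) (hYT : Y ≤ (T : Subgroup X)) (hYn : (Y.subgroupOf (T : Subgroup X)).Normal) (hYab : IsMulCommutative ↥Y) (hnot : ¬ Y ≤ Subgroup.normalizer (K : Set X)) (P : Sylow 2 (↥K ⧸ Subgroup.center ↥K)) : IsMulCommutative ↥(P : Subgroup (↥K ⧸ Subgroup.center ↥K)) := by
  haveI : Fact (Nat.Prime 2) := ⟨Nat.prime_two⟩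
  obtain ⟨y, hyY, hyN⟩ : ∃ y ∈ Y, y ∉ Subgroup.normalizer (K : Set X) := by
    by_contra hcon
    push Not at hcon
    exact hnot hcon
  obtain ⟨Ky, hKydef⟩ : ∃ Ky : Subgroup X, Ky = K.map (MulAut.conj y).toMonoidHom := ⟨_, rfl⟩
  have hKy : Cfsg.IsComponent Ky := hKydef ▸ Cfsg.Agent.H2.component_conj hK y
  have hconjmem : ∀ k ∈ K, y * k * y⁻¹ ∈ Ky := fun k hk => hKydef ▸ ⟨k, hk, rfl⟩
  have hne : K ≠ Ky := by
    intro h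
    apply hyN
    apply Cfsg.Agent.Lib.Lead.Conj.mem_normalizer_of_conj_mem
    intro k hk
    have := hconjmem k hk
    rwa [← h] at this
  have hcomm : ∀ a ∈ K, ∀ b ∈ Ky, a * b = b * a :=
    (Cfsg.Agent.H2.commutator_eq_bot_iff_forall_commute K Ky).1
      (Cfsg.Agent.H2.components_commute hK hKy hne)
  have keyKy : ∀ s ∈ (T : Subgroup X) ⊓ K, ∀ t ∈ (T : Subgroup X) ⊓ K, s⁻¹ * t⁻¹ * s * t ∈ Ky := by
    rintro s ⟨hsT, hsK⟩ t ⟨htT, htK⟩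
    have hs' : y * s⁻¹ * y⁻¹ ∈ Ky := hconjmem _ (inv_mem hsK)
    have ht' : y * t⁻¹ * y⁻¹ ∈ Ky := hconjmem _ (inv_mem htK)
    have hcs : s * y * s⁻¹ * y⁻¹ ∈ Y := by
      have h1 : s * y * s⁻¹ ∈ Y := hYn.conj_mem ⟨y, hYT hyY⟩ hyY ⟨s, hsT⟩
      exact mul_mem h1 (inv_mem hyY)
    have hct : t * y * t⁻¹ * y⁻¹ ∈ Y := by
      have h1 : t * y * t⁻¹ ∈ Y := hYn.conj_mem ⟨y, hYT hyY⟩ hyY ⟨t, htT⟩
      exact mul_mem h1 (inv_mem hyY)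
    have hc : (s * y * s⁻¹ * y⁻¹) * (t * y * t⁻¹ * y⁻¹) = (t * y * t⁻¹ * y⁻¹) * (s * y * s⁻¹ * y⁻¹) :=
      congrArg Subtype.val (hYab.is_comm.comm ⟨_, hcs⟩ ⟨_, hct⟩)
    have h1 : (y * s⁻¹ * y⁻¹) * t = t * (y * s⁻¹ * y⁻¹) := (hcomm t htK _ hs').symm
    have h2 : (y * t⁻¹ * y⁻¹) * s = s * (y * t⁻¹ * y⁻¹) := (hcomm s hsK _ ht').symm
    have E : s * (y * s⁻¹ * y⁻¹) * (t * (y * t⁻¹ * y⁻¹)) = t * (y * t⁻¹ * y⁻¹) * (s * (y * s⁻¹ * y⁻¹)) := by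
      have e1 : s * (y * s⁻¹ * y⁻¹) = s * y * s⁻¹ * y⁻¹ := by group
      have e2 : t * (y * t⁻¹ * y⁻¹) = t * y * t⁻¹ * y⁻¹ := by group
      rw [e1, e2]; exact hc
    have E1 : s * t * ((y * s⁻¹ * y⁻¹) * (y * t⁻¹ * y⁻¹)) = t * s * ((y * t⁻¹ * y⁻¹) * (y * s⁻¹ * y⁻¹)) := by
      calc s * t * ((y * s⁻¹ * y⁻¹) * (y * t⁻¹ * y⁻¹))
          = s * (t * (y * s⁻¹ * y⁻¹)) * (y * t⁻¹ * y⁻¹) := by simp only [mul_assoc]
        _ = s * ((y * s⁻¹ * y⁻¹) * t) * (y * t⁻¹ * y⁻¹) := by rw [h1]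
        _ = s * (y * s⁻¹ * y⁻¹) * (t * (y * t⁻¹ * y⁻¹)) := by simp only [mul_assoc]
        _ = t * (y * t⁻¹ * y⁻¹) * (s * (y * s⁻¹ * y⁻¹)) := E
        _ = t * ((y * t⁻¹ * y⁻¹) * s) * (y * s⁻¹ * y⁻¹) := by simp only [mul_assoc]
        _ = t * (s * (y * t⁻¹ * y⁻¹)) * (y * s⁻¹ * y⁻¹) := by rw [h2]
        _ = t * s * ((y * t⁻¹ * y⁻¹) * (y * s⁻¹ * y⁻¹)) := by simp only [mul_assoc]
    have E2 : (t * s)⁻¹ * (s * t) =
        ((y * t⁻¹ * y⁻¹) * (y * s⁻¹ * y⁻¹)) * ((y * s⁻¹ * y⁻¹) * (y * t⁻¹ * y⁻¹))⁻¹ := by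
      rw [eq_mul_inv_iff_mul_eq, mul_assoc, inv_mul_eq_iff_eq_mul]; exact E1
    have E3 : s⁻¹ * t⁻¹ * s * t = (t * s)⁻¹ * (s * t) := by group
    rw [E3, E2]
    exact mul_mem (mul_mem ht' hs') (inv_mem (mul_mem hs' ht'))
  have hS : Cfsg.Agent.Lib.Helper7.IsSylowIn 2 ((T : Subgroup X) ⊓ K) K :=
    Cfsg.Agent.H2.isSylowIn_inf_of_isSubnormal (Cfsg.Agent.Lib.Helper7.IsSylowIn.of_sylow_top T) hK.1
  obtain ⟨R, hR⟩ := hS.exists_sylow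
  obtain ⟨R', hR'⟩ : ∃ R' : Sylow 2 (↥K ⧸ Subgroup.center ↥K),
      (R' : Subgroup (↥K ⧸ Subgroup.center ↥K)) =
        (R : Subgroup ↥K).map (QuotientGroup.mk' (Subgroup.center ↥K)) :=
    ⟨R.mapSurjective (QuotientGroup.mk'_surjective _), rfl⟩
  have hRab : ∀ a b : ↥(R' : Subgroup (↥K ⧸ Subgroup.center ↥K)), a * b = b * a := by
    rintro ⟨a, ha⟩ ⟨b, hb⟩
    apply Subtype.ext
    show a * b = b * a
    rw [hR'] at ha hb
    obtain ⟨s, hs, rfl⟩ := ha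
    obtain ⟨t, ht, rfl⟩ := hb
    rw [hR] at hs ht
    have hsX : (s : X) ∈ (T : Subgroup X) ⊓ K := hs
    have htX : (t : X) ∈ (T : Subgroup X) ⊓ K := ht
    rw [← map_mul, ← map_mul, QuotientGroup.mk'_apply, QuotientGroup.mk'_apply, QuotientGroup.eq,
      Subgroup.mem_center_iff]
    intro g
    apply Subtype.ext
    have hz : ((s : X) * (t : X))⁻¹ * ((t : X) * (s : X)) ∈ Ky := by
      have e : ((s : X) * (t : X))⁻¹ * ((t : X) * (s : X)) = (t : X)⁻¹ * (s : X)⁻¹ * t * s := by group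
      rw [e]; exact keyKy _ htX _ hsX
    exact hcomm (g : X) g.2 _ hz
  have e : ↥(R' : Subgroup (↥K ⧸ Subgroup.center ↥K)) ≃* ↥(P : Subgroup (↥K ⧸ Subgroup.center ↥K)) :=
    Sylow.equiv R' P
  exact ⟨⟨fun a b => by
    have h := hRab (e.symm a) (e.symm b)
    have := congrArg e h
    simpa using this⟩⟩

end Cfsg.Agent.S2925
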