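import Cfsg.Statements.S2929
import Mathlib
import Cfsg.Agent.H2.Layer
import Cfsg.Agent.H2.FStarPAction
import Cfsg.Agent.S0144

set_option autoImplicit false
open Cfsg

namespace Cfsg.Agent.S2929

section

open Equiv Equiv.Perm
open scoped Pointwise

/-- a block of a group generated by 3-cycles is stable under each generator -/
theorem threeCycle_maps_block {β : Type*} [Fintype β] [DecidableEq β] (G : Subgroup (Perm β))
    (t : Perm β) (ht : t.IsThreeCycle) (htG : t ∈ G) (B : Set β) (hB : MulAction.IsBlock G B)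
    (hns : ¬ B.Subsingleton) : ∀ b ∈ B, t b ∈ B := by
  intro b hb
  by_contra hcon
  set g : G := ⟨t, htG⟩ with hg
  have hne : g • B ≠ B := by
    intro h
    apply hcon
    rw [← h]
    exact ⟨b, hb, rfl⟩
  have hdis := (MulAction.isBlock_iff_disjoint_smul_of_ne.1 hB) hne
  have hout : ∀ x ∈ B, t x ∉ B := by
    intro x hx hx'
    exact (Set.disjoint_left.1 hdis) ⟨x, hx, rfl⟩ hx'
  rw [Set.not_subsingleton_iff] at hns
  obtain ⟨b1, hb1, b2, hb2, h12⟩ := hns
  have hs : ({b1, b2, t b1, t b2} : Finset β) ⊆ t.support := by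
    intro x hx
    simp only [Finset.mem_insert, Finset.mem_singleton] at hx
    rw [Equiv.Perm.mem_support]
    rcases hx with rfl | rfl | rfl | rfl
    · intro h; exact hout _ hb1 (by rw [h]; exact hb1)
    · intro h; exact hout _ hb2 (by rw [h]; exact hb2)
    · intro h; have := t.injective h; exact hout _ hb1 (by rw [this]; exact hb1)
    · intro h; have := t.injective h; exact hout _ hb2 (by rw [this]; exact hb2)
  have hcard : ({b1, b2, t b1, t b2} : Finset β).card = 4 := by
    have h1 : b1 ≠ t b1 := fun h => hout _ hb1 (h ▸ hb1)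
    have h2 : b1 ≠ t b2 := fun h => hout _ hb2 (h ▸ hb1)
    have h3 : b2 ≠ t b1 := fun h => hout _ hb1 (h ▸ hb2)
    have h4 : b2 ≠ t b2 := fun h => hout _ hb2 (h ▸ hb2)
    have h5 : t b1 ≠ t b2 := fun h => h12 (t.injective h)
    rw [Finset.card_insert_of_notMem, Finset.card_insert_of_notMem, Finset.card_insert_of_notMem,
      Finset.card_singleton]
    · simpa using h5
    · simp [h3, h4]
    · simp [h12, h1, h2]
  have := Finset.card_le_card hs
  rw [hcard, ht.card_support] at this
  omega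

end

section

open Equiv Equiv.Perm
open scoped Pointwise

/-- a transitive group generated by 3-cycles contains the alternating group -/
theorem alt_le_closure_threeCycles {β : Type*} [Fintype β] [DecidableEq β] (T : Set (Perm β))
    (hT : ∀ t ∈ T, t.IsThreeCycle) (hne : T.Nonempty)
    (htr : MulAction.IsPretransitive (Subgroup.closure T) β) :
    alternatingGroup β ≤ Subgroup.closure T := by
  obtain ⟨t0, ht0⟩ := hne
  have hprim : MulAction.IsPreprimitive (Subgroup.closure T) β := by
    refine { toIsPretransitive := htr, isTrivialBlock_of_isBlock := ?_ }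
    intro B hB
    by_cases hs : B.Subsingleton
    · exact Or.inl hs
    right
    have hgen : ∀ g ∈ Subgroup.closure T, (∀ b ∈ B, g b ∈ B) ∧ (∀ b ∈ B, g⁻¹ b ∈ B) := by
      intro g hg
      induction hg using Subgroup.closure_induction with
      | mem t ht =>
        have h1 := threeCycle_maps_block (Subgroup.closure T) t (hT t ht) (Subgroup.subset_closure ht)
          B hB hs
        refine ⟨h1, ?_⟩
        have h3 : t ^ 3 = 1 := by
          rw [← (hT t ht).orderOf]; exact pow_orderOf_eq_one t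
        have hinv : t⁻¹ = t * t := by
          rw [inv_eq_iff_mul_eq_one, ← h3, pow_succ, pow_two, mul_assoc]
        intro b hb
        rw [hinv, Perm.mul_apply]
        exact h1 _ (h1 _ hb)
      | one => simp
      | mul x y _ _ hx hy =>
        refine ⟨fun b hb => ?_, fun b hb => ?_⟩
        · rw [Perm.mul_apply]; exact hx.1 _ (hy.1 _ hb)
        · rw [mul_inv_rev, Perm.mul_apply]; exact hy.2 _ (hx.2 _ hb)
      | inv x _ hx => exact ⟨hx.2, by rw [inv_inv]; exact hx.1⟩
    rw [Set.not_subsingleton_iff] at hs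
    obtain ⟨b, hb, -⟩ := hs
    rw [Set.eq_univ_iff_forall]
    intro x
    obtain ⟨g, hg⟩ := htr.exists_smul_eq b x
    rw [← hg]
    exact (hgen g.1 g.2).1 b hb
  exact alternatingGroup_le_of_isPreprimitive_of_isThreeCycle_mem hprim (hT t0 ht0)
    (Subgroup.subset_closure ht0)

end

section

open Equiv Equiv.Perm
open scoped Pointwise

variable {α : Type*} [Fintype α] [DecidableEq α]

theorem threeCycle_cube (c : Perm α) (hc : c.IsThreeCycle) (y : α) : c (c (c y)) = y := by
  have h3 : c ^ 3 = 1 := by rw [← hc.orderOf]; exact pow_orderOf_eq_one c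
  have : (c ^ 3) y = y := by rw [h3]; rfl
  simpa [pow_succ, Perm.mul_apply] using this

theorem threeCycle_support (c : Perm α) (hc : c.IsThreeCycle) (y : α) (hy : c y ≠ y) :
    c.support = {y, c y, c (c y)} := by
  have h3 := threeCycle_cube c hc y
  have h1 : y ≠ c y := fun h => hy h.symm
  have h2 : c y ≠ c (c y) := fun h => h1 (c.injective h)
  have h4 : y ≠ c (c y) := by
    intro h
    apply hy
    have : c y = c (c (c y)) := congrArg c h
    rw [h3] at this
    exact this
  symm
  apply Finset.eq_of_subset_of_card_le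
  · intro x hx
    simp only [Finset.mem_insert, Finset.mem_singleton] at hx
    rw [Equiv.Perm.mem_support]
    rcases hx with rfl | rfl | rfl
    · exact hy
    · exact fun h => h2 h.symm
    · rw [h3]; exact h4
  · rw [hc.card_support, Finset.card_insert_of_notMem, Finset.card_insert_of_notMem,
      Finset.card_singleton]
    · simpa using h2
    · simp [h1, h4]

theorem threeCycle_moved (c : Perm α) (hc : c.IsThreeCycle) (y : α) (hy : c y ≠ y) (z : α)
    (hz : c z ≠ z) : z = y ∨ z = c y ∨ z = c (c y) := by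
  have : z ∈ c.support := Equiv.Perm.mem_support.2 hz
  rw [threeCycle_support c hc y hy] at this
  simpa using this

/-- if some element of `E` moves `y ∈ supp c`, then `c y` lies in the `E`-orbit of `y` -/
theorem orbit_step (E : Subgroup (Perm α)) (c : Perm α) (hc : c.IsThreeCycle)
    (hcE : c ∈ Subgroup.normalizer (E : Set (Perm α))) (y : α) (hy : c y ≠ y)
    (e : Perm α) (he : e ∈ E) (hey : e y ≠ y) : ∃ e' ∈ E, e' y = c y := by
  have hconj : c * e * c⁻¹ ∈ E := (Subgroup.mem_normalizer_iff.1 hcE e).1 he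
  have hconj_app : (c * e * c⁻¹) (c y) = c (e y) := by simp [Perm.mul_apply]
  by_cases hz : c (e y) = e y
  · refine ⟨(e⁻¹ * (c * e * c⁻¹))⁻¹, E.inv_mem (E.mul_mem (E.inv_mem he) hconj), ?_⟩
    rw [Perm.inv_eq_iff_eq, Perm.mul_apply, hconj_app, hz]
    simp
  · rcases threeCycle_moved c hc y hy (e y) hz with h | h | h
    · exact absurd h hey
    · exact ⟨e, he, h⟩
    · refine ⟨(c * e * c⁻¹)⁻¹, E.inv_mem hconj, ?_⟩
      rw [Perm.inv_eq_iff_eq, hconj_app, h, threeCycle_cube c hc y]

theorem fixed_step (E : Subgroup (Perm α)) (c : Perm α)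
    (hcE : c ∈ Subgroup.normalizer (E : Set (Perm α))) (y : α)
    (hfix : ∀ e ∈ E, e y = y) : ∀ e ∈ E, e (c y) = c y := by
  intro e he
  have hcinv : c⁻¹ ∈ Subgroup.normalizer (E : Set (Perm α)) := Subgroup.inv_mem _ hcE
  have hconj : c⁻¹ * e * c⁻¹⁻¹ ∈ E := (Subgroup.mem_normalizer_iff.1 hcinv e).1 he
  have := hfix _ hconj
  simp only [inv_inv, Perm.mul_apply] at this
  rw [Perm.inv_eq_iff_eq] at this
  exact this

theorem orbit_main (E : Subgroup (Perm α)) (c : Perm α) (hc : c.IsThreeCycle)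
    (hcE : c ∈ Subgroup.normalizer (E : Set (Perm α)))
    (hnc : ∃ e ∈ E, e * c ≠ c * e) (y : α) (hy : c y ≠ y) : ∃ e' ∈ E, e' y = c y := by
  by_cases h : ∃ e ∈ E, e y ≠ y
  · obtain ⟨e, he, hey⟩ := h
    exact orbit_step E c hc hcE y hy e he hey
  · exfalso
    push_neg at h
    have h1 := fixed_step E c hcE y h
    have h2 := fixed_step E c hcE (c y) h1
    obtain ⟨e, he, hne⟩ := hnc
    apply hne
    have hd : Perm.Disjoint e c := by
      intro x
      by_cases hx : c x = x
      · exact Or.inr hx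
      · left
        rcases threeCycle_moved c hc y hy x hx with rfl | rfl | rfl
        · exact h e he
        · exact h1 e he
        · exact h2 e he
    exact hd.commute.eq

end

section

open Equiv Equiv.Perm
open scoped Pointwise

/-- the subgroup generated by the `E`-conjugates of `c` -/
def conjCl {G : Type*} [Group G] (E : Subgroup G) (c : G) : Subgroup G :=
  Subgroup.closure {t | ∃ g ∈ E, t = g * c * g⁻¹}

theorem mem_conjCl_self {G : Type*} [Group G] (E : Subgroup G) (c : G) : c ∈ conjCl E c :=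
  Subgroup.subset_closure ⟨1, E.one_mem, by simp⟩

theorem le_normalizer_conjCl {G : Type*} [Group G] (E : Subgroup G) (c : G) :
    E ≤ Subgroup.normalizer (conjCl E c : Set G) := by
  unfold conjCl
  rw [Subgroup.le_normalizer_closure_iff]
  rintro h hh _ ⟨g, hg, rfl⟩
  apply Subgroup.subset_closure
  exact ⟨h * g, E.mul_mem hh hg, by group⟩

theorem conjCl_le_normalizer {G : Type*} [Group G] (E : Subgroup G) (c : G)
    (hcE : c ∈ Subgroup.normalizer (E : Set G)) :
    conjCl E c ≤ Subgroup.normalizer (E : Set G) := by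
  unfold conjCl
  rw [Subgroup.closure_le]
  rintro _ ⟨g, hg, rfl⟩
  have hgN : g ∈ Subgroup.normalizer (E : Set G) := Subgroup.le_normalizer hg
  exact Subgroup.mul_mem _ (Subgroup.mul_mem _ hgN hcE) (Subgroup.inv_mem _ hgN)

/-- a quasisimple group `E` not centralizing `c ∈ N(E)` lies in the group generated by the
`E`-conjugates of `c` -/
theorem le_conjCl {G : Type*} [Group G] (E : Subgroup G) (hq : Cfsg.IsQuasisimple ↥E) (c : G)
    (hcE : c ∈ Subgroup.normalizer (E : Set G)) (hnc : ∃ e ∈ E, e * c ≠ c * e) :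
    E ≤ conjCl E c := by
  have h1 : ⁅E, conjCl E c⁆ ≤ E :=
    Subgroup.le_normalizer_iff_commutator_le_left.1 (conjCl_le_normalizer E c hcE)
  have h2 : ⁅E, conjCl E c⁆ ≤ conjCl E c :=
    Subgroup.le_normalizer_iff_commutator_le_right.1 (le_normalizer_conjCl E c)
  rcases Cfsg.Agent.H2.FsAct.le_commutator_or_le_centralizer E (conjCl E c) hq h1 with h | h
  · exact h.trans h2
  · exfalso
    obtain ⟨e, he, hne⟩ := hnc
    apply hne
    have := Subgroup.mem_centralizer_iff.1 (h he) c (mem_conjCl_self E c)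
    exact this.symm

end

section

open Equiv Equiv.Perm
open scoped Pointwise

variable {α : Type*} [Fintype α] [DecidableEq α]

theorem iff_of_support (f : Perm α) (p : α → Prop) (h : ∀ x, f x ≠ x → p x) :
    ∀ x, p (f x) ↔ p x := by
  intro x
  by_cases hx : f x = x
  · rw [hx]
  · have h1 : p x := h x hx
    have h2 : p (f x) := h (f x) (fun h' => hx (f.injective h'))
    exact ⟨fun _ => h1, fun _ => h2⟩

theorem conjCl_support (E : Subgroup (Perm α)) (c : Perm α) (p : α → Prop)
    (hpE : ∀ e ∈ E, ∀ x, p x → p (e x)) (hpc : ∀ x, c x ≠ x → p x) :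
    ∀ l ∈ conjCl E c, ∀ x, l x ≠ x → p x := by
  have key : ∀ l ∈ conjCl E c, ∀ x, ¬ p x → l x = x := by
    intro l hl
    unfold conjCl at hl
    induction hl using Subgroup.closure_induction with
    | mem t ht =>
      obtain ⟨g, hg, rfl⟩ := ht
      intro x hx
      have h1 : ¬ p (g⁻¹ x) := by
        intro h
        apply hx
        have := hpE g hg _ h
        simpa using this
      have h2 : c (g⁻¹ x) = g⁻¹ x := by
        by_contra h
        exact h1 (hpc _ h)
      show g (c (g⁻¹ x)) = x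
      rw [h2]
      exact g.apply_symm_apply x
    | one => intro x _; rfl
    | mul a b _ _ ha hb =>
      intro x hx
      rw [Perm.mul_apply, hb x hx, ha x hx]
    | inv a _ ha =>
      intro x hx
      rw [Perm.inv_eq_iff_eq, ha x hx]
  intro l hl x hx
  by_contra h
  exact hx (key l hl x h)

end

section

open Equiv Equiv.Perm
open scoped Pointwise

variable {α : Type*} [Fintype α] [DecidableEq α]

theorem conjCl_eq_map_alt (E : Subgroup (Perm α)) (c : Perm α) (hc : c.IsThreeCycle)
    (p : α → Prop) [DecidablePred p] (y0 : α)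
    (hEL : E ≤ conjCl E c)
    (hpE : ∀ e ∈ E, ∀ x, p x → p (e x)) (hpT : ∀ x, p x → ∃ e ∈ E, e y0 = x)
    (hpc : ∀ x, c x ≠ x → p x) :
    conjCl E c = (alternatingGroup {x // p x}).map (ofSubtype : Perm {x // p x} →* Perm α) := by
  have hsupp := conjCl_support E c p hpE hpc
  set T' : Set (Perm {x // p x}) := {τ | τ.IsThreeCycle ∧ ofSubtype τ ∈ conjCl E c} with hT'
  -- every generator lifts
  have hgen : ∀ g ∈ E, ∃ τ ∈ T', ofSubtype τ = g * c * g⁻¹ := by
    intro g hg
    have hmem : g * c * g⁻¹ ∈ conjCl E c := Subgroup.subset_closure ⟨g, hg, rfl⟩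
    have hs : ∀ x, (g * c * g⁻¹) x ≠ x → p x := hsupp _ hmem
    have hiff := iff_of_support _ p hs
    refine ⟨subtypePerm (g * c * g⁻¹) hiff, ⟨?_, ?_⟩, ofSubtype_subtypePerm hiff hs⟩
    · -- three cycle
      unfold IsThreeCycle
      rw [← cycleType_ofSubtype, ofSubtype_subtypePerm hiff hs, cycleType_conj]
      exact hc.cycleType
    · rw [ofSubtype_subtypePerm hiff hs]; exact hmem
  have hL_le : conjCl E c ≤ (Subgroup.closure T').map ofSubtype := by
    unfold conjCl
    rw [Subgroup.closure_le]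
    rintro _ ⟨g, hg, rfl⟩
    obtain ⟨τ, hτ, hτe⟩ := hgen g hg
    exact ⟨τ, Subgroup.subset_closure hτ, hτe⟩
  have hle_L : (Subgroup.closure T').map ofSubtype ≤ conjCl E c := by
    rw [Subgroup.map_le_iff_le_comap, Subgroup.closure_le]
    intro τ hτ
    exact hτ.2
  have hTne : T'.Nonempty := by
    obtain ⟨τ, hτ, -⟩ := hgen 1 E.one_mem
    exact ⟨τ, hτ⟩
  have htr : MulAction.IsPretransitive (Subgroup.closure T') {x // p x} := by
    constructor
    intro x y
    obtain ⟨ex, hex, hx⟩ := hpT x.1 x.2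
    obtain ⟨ey, hey, hy⟩ := hpT y.1 y.2
    have hl : ey * ex⁻¹ ∈ conjCl E c := hEL (E.mul_mem hey (E.inv_mem hex))
    obtain ⟨γ, hγ, hγe⟩ := hL_le hl
    refine ⟨⟨γ, hγ⟩, ?_⟩
    apply Subtype.ext
    show ((γ x : {x // p x}) : α) = y
    rw [← ofSubtype_apply_coe, hγe, Perm.mul_apply, ← hx]
    simp [hy]
  have halt := alt_le_closure_threeCycles T' (fun t ht => ht.1) hTne htr
  have hcl_le : Subgroup.closure T' ≤ alternatingGroup {x // p x} := by
    rw [Subgroup.closure_le]
    intro τ hτ
    exact hτ.1.mem_alternatingGroup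
  have : Subgroup.closure T' = alternatingGroup {x // p x} := le_antisymm hcl_le halt
  rw [← this]
  exact le_antisymm hL_le hle_L

end

section

open Equiv Equiv.Perm
open scoped Pointwise

variable {α : Type*} [Fintype α] [DecidableEq α]

theorem solvable_of_card_dvd_24 {G : Type*} [Group G] [Finite G] (h : Nat.card G ∣ 24) :
    Group.IsSolvable G := by
  have h24 : (24 : ℕ) = 2 ^ 3 * 3 ^ 1 := by norm_num
  rw [h24] at h
  obtain ⟨k1, k2, hk1, hk2, hk⟩ := (Nat.dvd_mul).1 h
  obtain ⟨a, -, rfl⟩ := (Nat.dvd_prime_pow Nat.prime_two).1 hk1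
  obtain ⟨b, -, rfl⟩ := (Nat.dvd_prime_pow Nat.prime_three).1 hk2
  exact Cfsg.Agent.S0144.result 2 3 a b Nat.prime_two Nat.prime_three hk.symm

theorem eq_of_le_map_alt (E : Subgroup (Perm α)) (hq : Cfsg.IsQuasisimple ↥E)
    (p : α → Prop) [DecidablePred p]
    (hle : E ≤ (alternatingGroup {x // p x}).map (ofSubtype : Perm {x // p x} →* Perm α))
    (hN : (alternatingGroup {x // p x}).map (ofSubtype : Perm {x // p x} →* Perm α) ≤
      Subgroup.normalizer (E : Set (Perm α))) :
    5 ≤ Fintype.card {x // p x} ∧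
      E = (alternatingGroup {x // p x}).map (ofSubtype : Perm {x // p x} →* Perm α) := by
  have hne : E ≠ ⊥ := Cfsg.Agent.H2.quasisimple_ne_bot hq
  have hns : ¬ Group.IsSolvable ↥E := Cfsg.Agent.H2.quasisimple_not_isSolvable hq
  have h5 : 5 ≤ Fintype.card {x // p x} := by
    by_contra hlt
    push_neg at hlt
    apply hns
    apply solvable_of_card_dvd_24
    have h1 : Nat.card ↥E ∣ Nat.card ↥((alternatingGroup {x // p x}).map
        (ofSubtype : Perm {x // p x} →* Perm α)) := Subgroup.card_dvd_of_le hle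
    have h2 : Nat.card ↥((alternatingGroup {x // p x}).map
        (ofSubtype : Perm {x // p x} →* Perm α)) = Nat.card ↥(alternatingGroup {x // p x}) :=
      Subgroup.card_map_of_injective ofSubtype_injective
    have h3 : Nat.card ↥(alternatingGroup {x // p x}) ∣ Nat.card (Perm {x // p x}) :=
      Subgroup.card_subgroup_dvd_card _
    have h4 : Nat.card (Perm {x // p x}) = (Fintype.card {x // p x}).factorial := by
      rw [Nat.card_eq_fintype_card, Fintype.card_perm]
    have h6 : (Fintype.card {x // p x}).factorial ∣ 24 := by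
      have : (24 : ℕ) = Nat.factorial 4 := by decide
      rw [this]
      exact Nat.factorial_dvd_factorial (by omega)
    rw [h2] at h1
    rw [h4] at h3
    exact h1.trans (h3.trans h6)
  refine ⟨h5, ?_⟩
  set φ : ↥(alternatingGroup {x // p x}) →* Perm α :=
    (ofSubtype : Perm {x // p x} →* Perm α).comp (alternatingGroup {x // p x}).subtype with hφ
  have hrange : φ.range = (alternatingGroup {x // p x}).map
      (ofSubtype : Perm {x // p x} →* Perm α) := by
    rw [hφ, MonoidHom.range_eq_map, ← Subgroup.map_map, ← MonoidHom.range_eq_map,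
      Subgroup.range_subtype]
  have hnorm : (E.comap φ).Normal := by
    constructor
    intro n hn g
    rw [Subgroup.mem_comap] at hn ⊢
    rw [map_mul, map_mul, map_inv]
    have hg : φ g ∈ Subgroup.normalizer (E : Set (Perm α)) := by
      apply hN
      rw [← hrange]
      exact ⟨g, rfl⟩
    exact (Subgroup.mem_normalizer_iff.1 hg _).1 hn
  have hsimple : IsSimpleGroup ↥(alternatingGroup {x // p x}) := by
    apply alternatingGroup.isSimpleGroup
    rw [Nat.card_eq_fintype_card]
    exact h5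
  have hEmap : E = (E.comap φ).map φ := by
    rw [Subgroup.map_comap_eq, hrange]
    exact (inf_eq_right.2 hle).symm
  rcases hnorm.eq_bot_or_eq_top with h | h
  · exfalso
    apply hne
    rw [hEmap, h, Subgroup.map_bot]
  · rw [← hrange, MonoidHom.range_eq_map, ← h]
    exact hEmap

end

section

open Equiv Equiv.Perm
open scoped Pointwise

variable {α : Type*} [Fintype α] [DecidableEq α]

theorem core (E : Subgroup (Perm α)) (hq : Cfsg.IsQuasisimple ↥E) (c : Perm α)
    (hc : c.IsThreeCycle) (hcE : c ∈ Subgroup.normalizer (E : Set (Perm α)))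
    (hnc : ∃ e ∈ E, e * c ≠ c * e) :
    ∃ (p : α → Prop) (_ : DecidablePred p), 5 ≤ Fintype.card {x // p x} ∧
      E = (alternatingGroup {x // p x}).map (ofSubtype : Perm {x // p x} →* Perm α) := by
  classical
  obtain ⟨y0, hy0⟩ : ∃ y0, c y0 ≠ y0 := by
    by_contra h
    push_neg at h
    exact hc.ne_one (Equiv.ext h)
  let p : α → Prop := fun x => ∃ e ∈ E, e y0 = x
  have hpE : ∀ e ∈ E, ∀ x, p x → p (e x) := by
    rintro e he x ⟨e1, he1, rfl⟩
    exact ⟨e * e1, E.mul_mem he he1, rfl⟩
  have hpT : ∀ x, p x → ∃ e ∈ E, e y0 = x := fun x hx => hx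
  have hpc : ∀ x, c x ≠ x → p x := by
    intro x hx
    obtain ⟨e1, he1, h1⟩ := orbit_main E c hc hcE hnc y0 hy0
    have hy1 : c (c y0) ≠ c y0 := fun h => hy0 (c.injective h)
    obtain ⟨e2, he2, h2⟩ := orbit_main E c hc hcE hnc (c y0) hy1
    rcases threeCycle_moved c hc y0 hy0 x hx with rfl | rfl | rfl
    · exact ⟨1, E.one_mem, rfl⟩
    · exact ⟨e1, he1, h1⟩
    · exact ⟨e2 * e1, E.mul_mem he2 he1, by rw [Perm.mul_apply, h1, h2]⟩
  have hEL := le_conjCl E hq c hcE hnc
  have hL := conjCl_eq_map_alt E c hc p y0 hEL hpE hpT hpc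
  have hN := conjCl_le_normalizer E c hcE
  rw [hL] at hEL hN
  exact ⟨p, inferInstance, eq_of_le_map_alt E hq p hEL hN⟩

end

section

open Equiv Equiv.Perm
open scoped Pointwise

variable {α : Type*} [Fintype α] [DecidableEq α]

/-- the image of `Alt(β)` moves every point of `β` when `|β| ≥ 3` -/
theorem exists_moving (p : α → Prop) [DecidablePred p] (h3 : 3 ≤ Fintype.card {x // p x})
    (x : α) (hx : p x) :
    ∃ e ∈ (alternatingGroup {x // p x}).map (ofSubtype : Perm {x // p x} →* Perm α), e x ≠ x := by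
  obtain ⟨x', hx'⟩ := Fintype.exists_ne_of_one_lt_card (by omega : 1 < Fintype.card {x // p x})
    (⟨x, hx⟩ : {x // p x})
  obtain ⟨x'', hx''⟩ : ∃ z : {x // p x}, z ∉ ({⟨x, hx⟩, x'} : Finset {x // p x}) := by
    by_contra h
    push_neg at h
    have : (Finset.univ : Finset {x // p x}) ⊆ {⟨x, hx⟩, x'} := fun z _ => h z
    have := Finset.card_le_card this
    rw [Finset.card_univ] at this
    have h2 : ({⟨x, hx⟩, x'} : Finset {x // p x}).card ≤ 2 := Finset.card_le_two
    omega
  simp only [Finset.mem_insert, Finset.mem_singleton, not_or] at hx''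
  have hτ : (swap (⟨x, hx⟩ : {x // p x}) x' * swap ⟨x, hx⟩ x'').IsThreeCycle :=
    isThreeCycle_swap_mul_swap_same hx'.symm (Ne.symm hx''.1) (Ne.symm hx''.2)
  refine ⟨ofSubtype (swap (⟨x, hx⟩ : {x // p x}) x' * swap ⟨x, hx⟩ x''),
    ⟨_, hτ.mem_alternatingGroup, rfl⟩, ?_⟩
  rw [ofSubtype_apply_of_mem _ hx, Perm.mul_apply, swap_apply_left,
    swap_apply_of_ne_of_ne hx''.1 hx''.2]
  intro h
  apply hx''.1
  exact Subtype.ext h

theorem card_dvd (H E : Subgroup (Perm α)) (p : α → Prop) [DecidablePred p]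
    (hE : E = (alternatingGroup {x // p x}).map (ofSubtype : Perm {x // p x} →* Perm α))
    (h3 : 3 ≤ Fintype.card {x // p x})
    (hHN : H ≤ Subgroup.normalizer (E : Set (Perm α)))
    (hC : Subgroup.centralizer (E : Set (Perm α)) ⊓ H ≤ E) :
    Nat.card ↥H ∣ (Fintype.card {x // p x}).factorial := by
  have hEsupp : ∀ e ∈ E, ∀ x, ¬ p x → e x = x := by
    intro e he x hx
    rw [hE] at he
    obtain ⟨τ, -, rfl⟩ := he
    exact ofSubtype_apply_of_not_mem τ hx
  have hinv : ∀ h ∈ H, ∀ x, p x → p (h x) := by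
    intro h hh x hx
    obtain ⟨e, he, hex⟩ := exists_moving p h3 x hx
    rw [← hE] at he
    have hconj : h * e * h⁻¹ ∈ E := (Subgroup.mem_normalizer_iff.1 (hHN hh) e).1 he
    by_contra hp
    have := hEsupp _ hconj (h x) hp
    have h2 : (h * e * h⁻¹) (h x) = h (e x) := by
      show h (e (h⁻¹ (h x))) = h (e x)
      rw [Perm.coe_inv, Equiv.symm_apply_apply]
    rw [h2] at this
    exact hex (h.injective this)
  have hiff : ∀ h : ↥H, ∀ x, p ((h : Perm α) x) ↔ p x := by
    intro h x
    refine ⟨fun hx => ?_, hinv h.1 h.2 x⟩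
    have := hinv (h⁻¹ : ↥H).1 (h⁻¹ : ↥H).2 _ hx
    simpa using this
  let ψ : ↥H →* Perm {x // p x} := MonoidHom.mk' (fun h => subtypePerm (h : Perm α) (hiff h))
    (by
      intro a b
      ext x
      rfl)
  have hψ : Function.Injective ψ := by
    rw [injective_iff_map_eq_one]
    intro h hh1
    have hfix : ∀ x, p x → (h : Perm α) x = x := by
      intro x hx
      have := congrArg (fun σ : Perm {x // p x} => ((σ ⟨x, hx⟩ : {x // p x}) : α)) hh1
      simpa [ψ, subtypePerm_apply] using this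
    have hcent : (h : Perm α) ∈ Subgroup.centralizer (E : Set (Perm α)) := by
      rw [Subgroup.mem_centralizer_iff]
      intro e he
      have hd : Perm.Disjoint e (h : Perm α) := by
        intro x
        by_cases hx : p x
        · exact Or.inr (hfix x hx)
        · exact Or.inl (hEsupp e he x hx)
      exact hd.commute.eq
    have hhE : (h : Perm α) ∈ E := hC ⟨hcent, h.2⟩
    apply Subtype.ext
    apply Equiv.ext
    intro x
    by_cases hx : p x
    · exact hfix x hx
    · exact hEsupp _ hhE x hx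
  have := Subgroup.card_dvd_of_injective ψ hψ
  rwa [Nat.card_eq_fintype_card (α := Perm {x // p x}), Fintype.card_perm] at this

end

section

open Equiv Equiv.Perm
open scoped Pointwise

variable {α : Type*} [Fintype α] [DecidableEq α]

theorem threeCycle_not_central (E : Subgroup (Perm α)) (hperf : Group.IsPerfect ↥E) (c : Perm α)
    (hc : c.IsThreeCycle) (hcE : c ∈ E) (hcomm : ∀ e ∈ E, e * c = c * e) : False := by
  classical
  have hiff : ∀ e : ↥E, ∀ x, (c ((e : Perm α) x) ≠ (e : Perm α) x) ↔ c x ≠ x := by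
    intro e x
    have h1 : c ((e : Perm α) x) = (e : Perm α) (c x) := by
      have := congrArg (fun σ : Perm α => σ x) (hcomm e.1 e.2)
      simpa [Perm.mul_apply] using this.symm
    rw [h1]
    exact (e : Perm α).injective.ne_iff
  let ρ : ↥E →* Perm {x // c x ≠ x} :=
    MonoidHom.mk' (fun e => subtypePerm (e : Perm α) (hiff e)) (by intro a b; ext x; rfl)
  have hcard : Fintype.card {x // c x ≠ x} = 3 := by
    rw [Fintype.card_subtype, ← hc.card_support]
    rfl
  have hsol : Group.IsSolvable (Perm {x // c x ≠ x}) := by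
    apply solvable_of_card_dvd_24
    rw [Nat.card_eq_fintype_card, Fintype.card_perm, hcard]
    decide
  have hperf' : Group.IsPerfect ρ.range := Group.IsPerfect.range ρ
  have hsol' : Group.IsSolvable ρ.range := inferInstance
  obtain ⟨y0, hy0⟩ : ∃ y0, c y0 ≠ y0 := by
    by_contra h
    push_neg at h
    exact hc.ne_one (Equiv.ext h)
  have hne : ρ ⟨c, hcE⟩ ≠ 1 := by
    intro h
    have := congrArg (fun σ : Perm {x // c x ≠ x} => ((σ ⟨y0, hy0⟩ : {x // c x ≠ x}) : α)) h
    exact hy0 this
  have hnt : Nontrivial ρ.range := by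
    refine ⟨⟨⟨ρ ⟨c, hcE⟩, ⟨_, rfl⟩⟩, 1, ?_⟩⟩
    intro h
    exact hne (congrArg Subtype.val h)
  exact Group.IsPerfect.not_isSolvable ρ.range hsol'

theorem arith (n m : ℕ) (h : 3 ^ (n.factorial.factorization 3) ∣ m.factorial) : n ≤ m + 2 := by
  by_contra hlt
  push_neg at hlt
  have h1 : (m + 3).factorial ∣ n.factorial := Nat.factorial_dvd_factorial (by omega)
  have h2 : (m + 3).factorial = (m + 3) * ((m + 2) * ((m + 1) * m.factorial)) := by
    rw [Nat.factorial_succ (m + 2), Nat.factorial_succ (m + 1), Nat.factorial_succ m]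
  have h3 : 3 ∣ (m + 3) * ((m + 2) * (m + 1)) := by
    rcases (by omega : 3 ∣ m + 1 ∨ 3 ∣ m + 2 ∨ 3 ∣ m + 3) with h | h | h
    · exact Dvd.dvd.mul_left (Dvd.dvd.mul_left h _) _
    · exact Dvd.dvd.mul_left (Dvd.dvd.mul_right h _) _
    · exact Dvd.dvd.mul_right h _
  have h4 : 3 * m.factorial ∣ n.factorial := by
    refine Dvd.dvd.trans ?_ h1
    rw [h2]
    have : (m + 3) * ((m + 2) * ((m + 1) * m.factorial)) =
        ((m + 3) * ((m + 2) * (m + 1))) * m.factorial := by ring
    rw [this]
    exact Nat.mul_dvd_mul h3 dvd_rfl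
  set k := m.factorial.factorization 3 with hk
  have h5 : 3 ^ k ∣ m.factorial := Nat.ordProj_dvd _ _
  have h6 : 3 ^ (k + 1) ∣ n.factorial := by
    refine Dvd.dvd.trans ?_ h4
    rw [pow_succ, mul_comm]
    exact Nat.mul_dvd_mul dvd_rfl h5
  have h7 : k + 1 ≤ n.factorial.factorization 3 :=
    (Nat.Prime.pow_dvd_iff_le_factorization Nat.prime_three (Nat.factorial_ne_zero n)).1 h6
  have h8 : 3 ^ (k + 1) ∣ m.factorial := (pow_dvd_pow 3 h7).trans h
  exact Nat.pow_succ_factorization_not_dvd (Nat.factorial_ne_zero m) Nat.prime_three h8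

end

section

open Equiv Equiv.Perm
open scoped Pointwise

theorem exists_threeCycle_mem (n : ℕ) (hn : 5 ≤ n) (P : Sylow 3 (Perm (Fin n))) :
    ∃ c : Perm (Fin n), c.IsThreeCycle ∧ c ∈ (P : Subgroup (Perm (Fin n))) := by
  haveI : Fact (Nat.Prime 3) := ⟨Nat.prime_three⟩
  let a : Fin n := ⟨0, by omega⟩
  let b : Fin n := ⟨1, by omega⟩
  let d : Fin n := ⟨2, by omega⟩
  have hab : a ≠ b := by simp [a, b, Fin.ext_iff]
  have had : a ≠ d := by simp [a, d, Fin.ext_iff]
  have hbd : b ≠ d := by simp [b, d, Fin.ext_iff]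
  have hc0 : (swap a b * swap a d).IsThreeCycle := isThreeCycle_swap_mul_swap_same hab had hbd
  set c0 := swap a b * swap a d with hc0def
  have hpg : IsPGroup 3 ↥(Subgroup.zpowers c0) := by
    apply IsPGroup.of_card (n := 1)
    rw [Nat.card_zpowers, hc0.orderOf, pow_one]
  obtain ⟨Q, hQ⟩ := hpg.exists_le_sylow
  obtain ⟨g, hg⟩ := MulAction.exists_smul_eq (Perm (Fin n)) Q P
  refine ⟨g * c0 * g⁻¹, ?_, ?_⟩
  · unfold IsThreeCycle
    rw [cycleType_conj]
    exact hc0.cycleType
  · rw [← hg]
    have h1 : c0 ∈ (Q : Subgroup (Perm (Fin n))) := hQ (Subgroup.mem_zpowers c0)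
    rw [Sylow.smul_def]
    exact ⟨c0, h1, rfl⟩

/-- Let n ≥ 5 and let H be a subgroup of the symmetric group of degree n whose generalized Fitting subgroup F*(H) is quasisimple. If H contains a Sylow 3-subgroup of the symmetric group, then F*(H) is isomorphic to an alternating group of degree m for some m ∈ {n − 2, n − 1, n}. -/
theorem result (n : ℕ) (hn : 5 ≤ n) (H : Subgroup (Equiv.Perm (Fin n))) (hF : Cfsg.IsQuasisimple ↥(Cfsg.generalizedFittingSubgroup ↥H)) (hS : ∃ P : Sylow 3 (Equiv.Perm (Fin n)), (P : Subgroup (Equiv.Perm (Fin n))) ≤ H) : ∃ m : ℕ, (m = n - 2 ∨ m = n - 1 ∨ m = n) ∧ Nonempty (↥(Cfsg.generalizedFittingSubgroup ↥H) ≃* ↥(alternatingGroup (Fin m))) := by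
  haveI : Fact (Nat.Prime 3) := ⟨Nat.prime_three⟩
  obtain ⟨P, hP⟩ := hS
  obtain ⟨c, hc, hcP⟩ := exists_threeCycle_mem n hn P
  have hcH : c ∈ H := hP hcP
  set Fs := Cfsg.generalizedFittingSubgroup ↥H with hFs
  set E : Subgroup (Perm (Fin n)) := Fs.map H.subtype with hE
  have hqE : Cfsg.IsQuasisimple ↥E :=
    (Cfsg.Agent.H2.isQuasisimple_map_of_injective H.subtype H.subtype_injective Fs).2 hF
  have hEH : E ≤ H := Subgroup.map_subtype_le _
  have hHN : H ≤ Subgroup.normalizer (E : Set (Perm (Fin n))) := by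
    rw [Subgroup.le_normalizer_iff]
    rintro h hh _ ⟨f, hf, rfl⟩
    refine ⟨⟨h, hh⟩ * f * ⟨h, hh⟩⁻¹, ?_, rfl⟩
    exact (Cfsg.Agent.H2.generalizedFittingSubgroup_normal (G := ↥H)).conj_mem f hf ⟨h, hh⟩
  have hC : Subgroup.centralizer (E : Set (Perm (Fin n))) ⊓ H ≤ E := by
    rintro x ⟨hx1, hx2⟩
    have : (⟨x, hx2⟩ : ↥H) ∈ Subgroup.centralizer (Fs : Set ↥H) := by
      rw [Subgroup.mem_centralizer_iff]
      intro f hf
      apply Subtype.ext
      exact Subgroup.mem_centralizer_iff.1 hx1 (f : Perm (Fin n)) ⟨f, hf, rfl⟩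
    exact ⟨⟨x, hx2⟩, Cfsg.Agent.H2.centralizer_generalizedFittingSubgroup_le this, rfl⟩
  have hcE : c ∈ Subgroup.normalizer (E : Set (Perm (Fin n))) := hHN hcH
  have hnc : ∃ e ∈ E, e * c ≠ c * e := by
    by_contra hcon
    push_neg at hcon
    have hcent : c ∈ Subgroup.centralizer (E : Set (Perm (Fin n))) := by
      rw [Subgroup.mem_centralizer_iff]
      exact hcon
    have hcE' : c ∈ E := hC ⟨hcent, hcH⟩
    exact threeCycle_not_central E hqE.1 c hc hcE' hcon
  obtain ⟨p, hdec, h5, hEq⟩ := core E hqE c hc hcE hnc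
  have hdvd := card_dvd H E p hEq (by omega) hHN hC
  set m := Fintype.card {x // p x} with hm
  have hmn : m ≤ n := by
    have := Fintype.card_subtype_le p
    simpa using this
  have hPcard : Nat.card ↥(P : Subgroup (Perm (Fin n))) =
      3 ^ ((Nat.card (Perm (Fin n))).factorization 3) := P.card_eq_multiplicity
  have hPH : Nat.card ↥(P : Subgroup (Perm (Fin n))) ∣ Nat.card ↥H := Subgroup.card_dvd_of_le hP
  have hcardS : Nat.card (Perm (Fin n)) = n.factorial := by
    rw [Nat.card_eq_fintype_card, Fintype.card_perm, Fintype.card_fin]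
  rw [hPcard, hcardS] at hPH
  have hnm : n ≤ m + 2 := arith n m (hPH.trans hdvd)
  refine ⟨m, by omega, ?_⟩
  have e1 : ↥Fs ≃* ↥E := Fs.equivMapOfInjective H.subtype H.subtype_injective
  have e2 : ↥(alternatingGroup {x // p x}) ≃* ↥E :=
    ((alternatingGroup {x // p x}).equivMapOfInjective
      (ofSubtype : Perm {x // p x} →* Perm (Fin n)) ofSubtype_injective).trans
      (MulEquiv.subgroupCongr hEq.symm)
  have e3 : ↥(alternatingGroup {x // p x}) ≃* ↥(alternatingGroup (Fin m)) :=
    Equiv.altCongrHom (Fintype.equivFinOfCardEq hm.symm)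
  exact ⟨e1.trans (e2.symm.trans e3)⟩

end

end Cfsg.Agent.S2929
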