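import Mathlib
import Cfsg.Statements.S2930
import Cfsg.Agent.S1265
import Cfsg.Agent.Lib.S2930.U1
import Cfsg.Agent.Lib.S2930.U2
import Cfsg.Agent.Lib.S2930.U3
import Cfsg.Agent.Lib.S2930.T9

set_option autoImplicit false
open Cfsg Equiv Equiv.Perm

namespace Cfsg.Agent.S2930L

/-- transport of the "unique maximal overgroup of a Sylow subgroup" condition along an
isomorphism. -/
theorem T10_transport {X Y : Type*} [Group X] [Group Y] (ε : X ≃* Y)
    (hX : Cfsg.IsPMinimal 3 X) (R : Sylow 3 Y) :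
    ∃! M : Subgroup Y, IsCoatom M ∧ (R : Subgroup Y) ≤ M := by
  haveI : Fact (Nat.Prime 3) := ⟨by norm_num⟩
  let S : Sylow 3 X := R.comapOfInjective ε.toMonoidHom ε.injective (by
    rw [MonoidHom.range_eq_top.mpr ε.surjective]; exact le_top)
  have hS : (S : Subgroup X) = (R : Subgroup Y).comap ε.toMonoidHom := rfl
  obtain ⟨M₀, ⟨hc, hSM⟩, hu⟩ := (hX S).2
  have hmapcomap : ∀ K : Subgroup Y, (K.comap ε.toMonoidHom).map ε.toMonoidHom = K := fun K =>
    Subgroup.map_comap_eq_self_of_surjective ε.surjective K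
  have hcomapmap : ∀ K : Subgroup X, (K.map ε.toMonoidHom).comap ε.toMonoidHom = K := fun K =>
    Subgroup.comap_map_eq_self_of_injective ε.injective K
  have hcoatom : ∀ K : Subgroup X, IsCoatom (K.map ε.toMonoidHom) ↔ IsCoatom K := fun K =>
    (MulEquiv.mapSubgroup ε).isCoatom_iff K
  refine ⟨M₀.map ε.toMonoidHom, ⟨(hcoatom M₀).2 hc, ?_⟩, ?_⟩
  · rw [← hmapcomap (R : Subgroup Y), ← hS]
    exact Subgroup.map_mono hSM
  · rintro M' ⟨hc', hRM'⟩
    have h1 : IsCoatom (M'.comap ε.toMonoidHom) := by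
      rw [← hcoatom, hmapcomap]; exact hc'
    have h2 : (S : Subgroup X) ≤ M'.comap ε.toMonoidHom := by
      rw [hS]; exact Subgroup.comap_mono hRM'
    have h3 := hu _ ⟨h1, h2⟩
    rw [← h3, hmapcomap]

end Cfsg.Agent.S2930L

namespace Cfsg.Agent.S2930
open Cfsg.Agent.S2930L

theorem result {X : Type*} [Group X] [Finite X] (hX : Cfsg.IsPMinimal 3 X) (n : ℕ) (hn : 5 ≤ n) (hF : Nonempty (↥(Cfsg.generalizedFittingSubgroup X) ≃* ↥(alternatingGroup (Fin n)))) : Cfsg.generalizedFittingSubgroup X = ⊤ ∧ (n = 6 ∨ n = 9 ∨ ∃ a : ℕ, 2 ≤ a ∧ n = 3 ^ a + 1) := by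
  classical
  haveI : Fact (Nat.Prime 3) := ⟨by norm_num⟩
  obtain ⟨e⟩ := hF
  haveI hFn : (Cfsg.generalizedFittingSubgroup X).Normal := inferInstance
  haveI : Nontrivial (Fin n) := Fin.nontrivial_iff_two_le.mpr (by omega)
  haveI hAs : IsSimpleGroup ↥(alternatingGroup (Fin n)) :=
    alternatingGroup.isSimpleGroup (by simpa using hn)
  haveI : Nontrivial ↥(Cfsg.generalizedFittingSubgroup X) := e.toEquiv.nontrivial
  have hFs : IsSimpleGroup ↥(Cfsg.generalizedFittingSubgroup X) :=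
    IsSimpleGroup.isSimpleGroup_of_surjective e.symm.toMonoidHom e.symm.surjective
  have hcardA : 2 * Nat.card ↥(alternatingGroup (Fin n)) = n.factorial := by
    have := two_mul_nat_card_alternatingGroup (α := Fin n)
    rw [this, Nat.card_eq_fintype_card, Fintype.card_perm, Fintype.card_fin]
  have hcardF : Nat.card ↥(Cfsg.generalizedFittingSubgroup X) =
      Nat.card ↥(alternatingGroup (Fin n)) := Nat.card_congr e.toEquiv
  have h3 : 3 ∣ Nat.card ↥(Cfsg.generalizedFittingSubgroup X) := by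
    rw [hcardF]
    have h1 : 3 ∣ 2 * Nat.card ↥(alternatingGroup (Fin n)) := by
      rw [hcardA]; exact Nat.dvd_factorial (by norm_num) (by omega)
    exact (Nat.Coprime.dvd_mul_left (by norm_num)).mp h1
  have hF3 : ¬ IsPGroup 3 ↥(Cfsg.generalizedFittingSubgroup X) := by
    intro hp
    obtain ⟨k, hk⟩ := IsPGroup.iff_card.mp hp
    rw [hcardF] at hk
    have h1 : 4 ∣ n.factorial := Nat.dvd_factorial (by norm_num) (by omega)
    rw [← hcardA, hk] at h1
    have h2 : 2 ∣ 3 ^ k := by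
      have : (2 : ℕ) * 2 ∣ 2 * 3 ^ k := by simpa using h1
      exact Nat.dvd_of_mul_dvd_mul_left (by norm_num) this
    have h3 : 2 ∣ 3 := Nat.Prime.dvd_of_dvd_pow Nat.prime_two h2
    omega
  have hC : Subgroup.centralizer ((Cfsg.generalizedFittingSubgroup X : Subgroup X) : Set X) ≤
      Cfsg.generalizedFittingSubgroup X := Cfsg.Agent.S1265.result
  -- a Sylow 3-subgroup
  obtain ⟨T⟩ : Nonempty (Sylow 3 X) := inferInstance
  have hsup := sup_sylow_eq_top hX (Cfsg.generalizedFittingSubgroup X) hFs h3 hF3 T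
  have hTF : (T : Subgroup X) ≤ Cfsg.generalizedFittingSubgroup X := by
    intro y hy
    obtain ⟨k, hk⟩ := T.isPGroup' ⟨y, hy⟩
    have hk' : y ^ (3 ^ k) = 1 := by
      have := congrArg Subtype.val hk
      simpa using this
    exact mem_of_aut_inner n hn (Cfsg.generalizedFittingSubgroup X) e hC
      (fun ψ k hψ => aut_three_power_inner n hn ψ k hψ) y k hk'
  have htop : Cfsg.generalizedFittingSubgroup X = ⊤ := by
    rw [← hsup]; exact (sup_eq_left.mpr hTF).symm
  refine ⟨htop, ?_⟩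
  -- transport to the alternating group
  let ε : X ≃* ↥(alternatingGroup (Fin n)) :=
    (Subgroup.topEquiv.symm.trans (MulEquiv.subgroupCongr htop.symm)).trans e
  obtain ⟨R⟩ : Nonempty (Sylow 3 ↥(alternatingGroup (Fin n))) := inferInstance
  exact forward_alt3 n hn R (T10_transport ε hX R)

end Cfsg.Agent.S2930
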