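import Cfsg.Statements.S2931
import Cfsg.Agent.S0245
import Cfsg.Agent.S0246
import Cfsg.Agent.S0288
import Cfsg.Agent.Lib.Helper7.Syl8E
import Cfsg.Agent.Lib.Helper7.Syl8G

set_option autoImplicit false
open Cfsg

namespace Cfsg.Agent.S2931

/-- The Sylow 2-subgroups of the alternating group of degree 8 and of PSp₄(3) are isomorphic, and so are the Sylow 2-subgroups of the symmetric group of degree 8 and of the full isometry group of a non-degenerate quadratic form of minus type in dimension 6 over the field with 2 elements. -/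
theorem result (F : Type) [Field F] [Fintype F] (hF : Fintype.card F = 3) (K : Type) [Field K] [Fintype K] (hK : Fintype.card K = 2) (a b : K) (hab : ∀ z₁ z₂ : K, z₁ ^ 2 + a * z₁ * z₂ + b * z₂ ^ 2 = 0 → z₁ = 0 ∧ z₂ = 0) (P : Sylow 2 ↥(alternatingGroup (Fin 8))) (Q : Sylow 2 (Cfsg.PSp 2 F)) (P' : Sylow 2 (Equiv.Perm (Fin 8))) (Q' : Sylow 2 ↥(Cfsg.isometryGroup K (Cfsg.quadFormMinus 2 K a b))) : Nonempty (↥(P : Subgroup ↥(alternatingGroup (Fin 8))) ≃* ↥(Q : Subgroup (Cfsg.PSp 2 F))) ∧ Nonempty (↥(P' : Subgroup (Equiv.Perm (Fin 8))) ≃* ↥(Q' : Subgroup ↥(Cfsg.isometryGroup K (Cfsg.quadFormMinus 2 K a b)))) := by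
  have hcardPSp : Nat.card (Cfsg.PSp 2 F) = 25920 := by
    have h1 := Cfsg.Agent.S0245.result hF 2
    have h2 := Cfsg.Agent.S0246.result hF 2 (by norm_num)
    have h3 := Subgroup.card_eq_card_quotient_mul_card_subgroup
      (Subgroup.center ↥(Matrix.symplecticGroup (Fin 2) F))
    rw [h1, h2] at h3
    have h4 : 3 ^ 2 ^ 2 * ∏ i ∈ Finset.range 2, (3 ^ (2 * (i + 1)) - 1) = 51840 := by decide
    have h5 : Nat.gcd 2 (3 - 1) = 2 := by decide
    rw [h4, h5] at h3
    show Nat.card (↥(Matrix.symplecticGroup (Fin 2) F) ⧸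
      Subgroup.center ↥(Matrix.symplecticGroup (Fin 2) F)) = 25920
    omega
  have hcardO : Nat.card ↥(Cfsg.isometryGroup K (Cfsg.quadFormMinus 2 K a b)) = 51840 := by
    have h1 := Cfsg.Agent.S0288.result hK 3 (by norm_num) a b hab
    have h4 : 2 * 2 ^ (3 * (3 - 1)) * (2 ^ 3 + 1) *
        ∏ i ∈ Finset.range (3 - 1), (2 ^ (2 * (i + 1)) - 1) = 51840 := by decide
    rw [h4] at h1
    exact h1
  exact ⟨Cfsg.Agent.Lib.Helper7.Syl8.part1 F hF hcardPSp P Q,
    Cfsg.Agent.Lib.Helper7.Syl8.part2 K hK a b hab hcardO P' Q'⟩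

end Cfsg.Agent.S2931
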