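import Cfsg.Statements.S2933
import Cfsg.Agent.Lib.Helper5.K4.Main

set_option autoImplicit false
open Cfsg

namespace Cfsg.Agent.S2933

open Cfsg.Agent.Lib.Helper5 Cfsg.Agent.Lib.Helper5.K4

/-- the abstract hypotheses hold for `T` with conjugation by `t` and `ρ` -/
theorem khyp {G : Type*} [Group G] [Finite G] (T V : Subgroup G) (hT : IsPGroup 2 ↥T)
    (hVT : V ≤ T ⊓ Subgroup.centralizer (T : Set G))
    (hV : Nat.card ↥V = 4 ∧ ∀ v ∈ V, v ^ 2 = 1) (t ρ : G) (ht : orderOf t = 2)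
    (hρ : orderOf ρ = 3)
    (htn : t ∈ Subgroup.normalizer (V : Set G) ⊓ Subgroup.normalizer (T : Set G))
    (hρn : ρ ∈ Subgroup.normalizer (V : Set G) ⊓ Subgroup.normalizer (T : Set G))
    (htρ : t * ρ = ρ * t) (hVρ : ⁅V, Subgroup.zpowers ρ⁆ = V)
    (hCt : T ⊓ Subgroup.centralizer ({t} : Set G) = V) :
    KHyp ↥T (V.subgroupOf T) (T.normalizerMonoidHom ⟨t, htn.2⟩)
      (T.normalizerMonoidHom ⟨ρ, hρn.2⟩) := by
  have hVleT : V ≤ T := hVT.trans inf_le_left
  have ht2 : t * t = 1 := by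
    have := pow_orderOf_eq_one t
    rwa [ht, pow_two] at this
  have hρ3 : ρ * ρ * ρ = 1 := by
    have := pow_orderOf_eq_one ρ
    rwa [hρ, pow_succ, pow_succ, pow_one] at this
  have hα : ∀ x : T, ((T.normalizerMonoidHom ⟨t, htn.2⟩ x : T) : G) = t * x.1 * t⁻¹ := fun x => rfl
  have hβ : ∀ x : T, ((T.normalizerMonoidHom ⟨ρ, hρn.2⟩ x : T) : G) = ρ * x.1 * ρ⁻¹ := fun x => rfl
  have hVsq : ∀ v ∈ V, v * v = 1 := fun v hv => by
    have := hV.2 v hv
    rwa [pow_two] at this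
  have hβV : ∀ v ∈ V, ρ * v * ρ⁻¹ ∈ V := fun v hv =>
    (Subgroup.mem_normalizer_iff.1 hρn.1 v).1 hv
  -- ρ fixes no non-identity element of V
  have hfpfV : ∀ v ∈ V, ρ * v * ρ⁻¹ = v → v = 1 := by
    intro v hv hfix
    by_contra hv1
    have hβ3 : ∀ w : G, ρ * (ρ * (ρ * w * ρ⁻¹) * ρ⁻¹) * ρ⁻¹ = w := by
      intro w
      calc ρ * (ρ * (ρ * w * ρ⁻¹) * ρ⁻¹) * ρ⁻¹ = (ρ * ρ * ρ) * w * (ρ * ρ * ρ)⁻¹ := by group
        _ = w := by rw [hρ3]; group
    have hall : ∀ w ∈ V, ρ * w * ρ⁻¹ = w := by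
      intro w hw
      by_cases hw1 : w = 1
      · rw [hw1]; group
      by_cases hwv : w = v
      · rw [hwv]; exact hfix
      have hwv' : w * v ∈ V := V.mul_mem hw hv
      have hcases := R2.eq_of_card_four' V hV.1 1 v w (w * v) V.one_mem hv hw hwv'
        (Ne.symm hv1) (Ne.symm hw1)
        (by
          intro e
          apply hwv
          have h1 : w * v = v * v := by rw [← e, hVsq v hv]
          exact mul_right_cancel h1)
        (Ne.symm hwv)
        (by
          intro e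
          apply hw1
          have : 1 * v = w * v := by rw [one_mul]; exact e
          exact (mul_right_cancel this).symm)
        (by
          intro e
          apply hv1
          have : w * 1 = w * v := by rw [mul_one]; exact e
          exact (mul_left_cancel this).symm)
        (ρ * w * ρ⁻¹) (hβV w hw)
      rcases hcases with e | e | e | e
      · exfalso
        apply hw1
        have : w = ρ⁻¹ * (ρ * w * ρ⁻¹) * ρ := by group
        rw [this, e]; group
      · exfalso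
        apply hwv
        have h1 : ρ * w * ρ⁻¹ = ρ * v * ρ⁻¹ := by rw [e, hfix]
        have : w = ρ⁻¹ * (ρ * w * ρ⁻¹) * ρ := by group
        rw [this, h1]; group
      · exact e
      · exfalso
        apply hv1
        -- β² w = w
        have h2 : ρ * (ρ * w * ρ⁻¹) * ρ⁻¹ = w := by
          rw [e]
          calc ρ * (w * v) * ρ⁻¹ = (ρ * w * ρ⁻¹) * (ρ * v * ρ⁻¹) := by group
            _ = w * v * v := by rw [e, hfix]
            _ = w := by rw [mul_assoc, hVsq v hv, mul_one]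
        have h3 := hβ3 w
        rw [h2, e] at h3
        have : w * v = w * 1 := by rw [h3, mul_one]
        exact mul_left_cancel this
    have hcent : V ≤ Subgroup.centralizer (Subgroup.zpowers ρ : Set G) := by
      intro w hw
      rw [Subgroup.mem_centralizer_iff]
      intro g hg
      obtain ⟨k, rfl⟩ := Subgroup.mem_zpowers_iff.1 hg
      have hc : Commute ρ w := by
        have := hall w hw
        show ρ * w = w * ρ
        calc ρ * w = (ρ * w * ρ⁻¹) * ρ := by group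
          _ = w * ρ := by rw [this]
      exact (hc.zpow_left k).eq
    have hbot : ⁅V, Subgroup.zpowers ρ⁆ = ⊥ := Subgroup.commutator_eq_bot_iff_le_centralizer.2 hcent
    rw [hVρ] at hbot
    have := hV.1
    rw [hbot, Subgroup.card_bot] at this
    omega
  refine ⟨inferInstance, hT, ?_, ?_, ?_, ?_, ?_, ?_, ?_, ?_, ?_⟩
  · intro v hv
    rw [Subgroup.mem_subgroupOf] at hv
    rw [Subgroup.mem_center_iff]
    intro g
    apply Subtype.ext
    have hc : v.1 ∈ Subgroup.centralizer (T : Set G) := (hVT hv).2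
    rw [Subgroup.mem_centralizer_iff] at hc
    exact hc g.1 g.2
  · rw [Nat.card_congr (Subgroup.subgroupOfEquivOfLe hVleT).toEquiv, hV.1]
  · intro v hv
    rw [Subgroup.mem_subgroupOf] at hv
    exact Subtype.ext (hVsq v.1 hv)
  · intro x
    apply Subtype.ext
    rw [hα, hα]
    calc t * (t * x.1 * t⁻¹) * t⁻¹ = (t * t) * x.1 * (t * t)⁻¹ := by group
      _ = x.1 := by rw [ht2]; group
  · intro x
    apply Subtype.ext
    rw [hβ, hβ, hβ]
    calc ρ * (ρ * (ρ * x.1 * ρ⁻¹) * ρ⁻¹) * ρ⁻¹ = (ρ * ρ * ρ) * x.1 * (ρ * ρ * ρ)⁻¹ := by group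
      _ = x.1 := by rw [hρ3]; group
  · intro x
    apply Subtype.ext
    rw [hα, hβ, hβ, hα]
    calc t * (ρ * x.1 * ρ⁻¹) * t⁻¹ = (t * ρ) * x.1 * (t * ρ)⁻¹ := by group
      _ = (ρ * t) * x.1 * (ρ * t)⁻¹ := by rw [htρ]
      _ = ρ * (t * x.1 * t⁻¹) * ρ⁻¹ := by group
  · intro v hv
    rw [Subgroup.mem_subgroupOf] at hv ⊢
    rw [hβ]
    exact hβV v.1 hv
  · intro v hv hfix
    rw [Subgroup.mem_subgroupOf] at hv
    have := congrArg Subtype.val hfix
    rw [hβ] at this
    exact Subtype.ext (hfpfV v.1 hv this)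
  · intro x
    have hiff : x.1 ∈ V ↔ x.1 ∈ T ⊓ Subgroup.centralizer ({t} : Set G) := by rw [hCt]
    rw [Subgroup.mem_subgroupOf, hiff, Subgroup.mem_inf, Subgroup.mem_centralizer_iff]
    constructor
    · intro hx
      have hx' := congrArg Subtype.val hx
      rw [hα] at hx'
      refine ⟨x.2, ?_⟩
      intro g hg
      rw [Set.mem_singleton_iff] at hg
      subst hg
      calc g * x.1 = (g * x.1 * g⁻¹) * g := by group
        _ = x.1 * g := by rw [hx']
    · rintro ⟨-, hx⟩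
      apply Subtype.ext
      rw [hα]
      have := hx t rfl
      calc t * x.1 * t⁻¹ = (x.1 * t) * t⁻¹ := by rw [this]
        _ = x.1 := by group

/-- Let T be a 2-subgroup of a finite group G, V ≤ Z(T) a four-group, and t, ρ ∈ N_G(V) ∩ N_G(T) elements of order 2 and 3 with t commuting with ρ and with V. If [V, ρ] = V and C_T(t) = V, then T is elementary abelian of order 16, or homocyclic of rank 2 (ℤ/2ⁿ × ℤ/2ⁿ for some n ≥ 1), or isomorphic to a Sylow 2-subgroup of PSL₃(4) or of PSU₃(4). -/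
theorem result {G : Type*} [Group G] [Finite G] (T V : Subgroup G) (hT : IsPGroup 2 ↥T) (hVT : V ≤ T ⊓ Subgroup.centralizer (T : Set G)) (hV : Nat.card ↥V = 4 ∧ ∀ v ∈ V, v ^ 2 = 1) (t ρ : G) (ht : orderOf t = 2) (hρ : orderOf ρ = 3) (htn : t ∈ Subgroup.normalizer (V : Set G) ⊓ Subgroup.normalizer (T : Set G)) (hρn : ρ ∈ Subgroup.normalizer (V : Set G) ⊓ Subgroup.normalizer (T : Set G)) (htρ : t * ρ = ρ * t) (htV : t ∈ Subgroup.centralizer (V : Set G)) (hVρ : ⁅V, Subgroup.zpowers ρ⁆ = V) (hCt : T ⊓ Subgroup.centralizer ({t} : Set G) = V) : (Nat.card ↥T = 16 ∧ ∀ x ∈ T, x ^ 2 = 1) ∨ (∃ n : ℕ, 1 ≤ n ∧ Nonempty (↥T ≃* Multiplicative (ZMod (2 ^ n)) × Multiplicative (ZMod (2 ^ n)))) ∨ (∃ (F : Type) (_ : Field F) (_ : Fintype F), Fintype.card F = 4 ∧ ∀ P : Sylow 2 (Matrix.ProjectiveSpecialLinearGroup (Fin 3) F), Nonempty (↥T ≃* ↥(P : Subgroup (Matrix.ProjectiveSpecialLinearGroup (Fin 3) F)))) ∨ (∃ (F : Type) (_ : Field F) (_ : Fintype F), Fintype.card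 F = 16 ∧ ∀ P : Sylow 2 (Cfsg.PSU 3 F 4), Nonempty (↥T ≃* ↥(P : Subgroup (Cfsg.PSU 3 F 4)))) := by
  have hK := khyp T V hT hVT hV t ρ ht hρ htn hρn htρ hVρ hCt
  rcases hK.main with h1 | h2 | h3 | h4
  · left
    refine ⟨h1.1, fun x hx => ?_⟩
    have := congrArg Subtype.val (h1.2 ⟨x, hx⟩)
    rw [pow_two]
    exact this
  · exact Or.inr (Or.inl h2)
  · exact Or.inr (Or.inr (Or.inl h3))
  · exact Or.inr (Or.inr (Or.inr h4))

end Cfsg.Agent.S2933
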