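import Cfsg.Statements.S2940
import Cfsg.Agent.Lib.Helper7.SylowLib

set_option autoImplicit false
open Cfsg

namespace Cfsg.Agent.S2940

open Cfsg.Agent.Lib.Helper7
open scoped Pointwise

/-- If a Sylow p-subgroup S of a finite group G lies in two subgroups G₁ and G₂ with G = G₁ G₂, then for every g ∈ G some Sylow p-subgroup U of G satisfies S ∩ S^g ≤ U ≤ G₁ ∩ G₂^g. -/
theorem result {G : Type*} [Group G] [Finite G] {p : ℕ} [Fact p.Prime] (S : Sylow p G) (G₁ G₂ : Subgroup G) (h1 : (S : Subgroup G) ≤ G₁) (h2 : (S : Subgroup G) ≤ G₂) (hfact : ∀ g : G, ∃ g₁ ∈ G₁, ∃ g₂ ∈ G₂, g = g₁ * g₂) (g : G) : ∃ U : Sylow p G, (S : Subgroup G) ⊓ Cfsg.subgroupConjRight g (S : Subgroup G) ≤ (U : Subgroup G) ∧ (U : Subgroup G) ≤ G₁ ⊓ Cfsg.subgroupConjRight g G₂ := by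
  have hp : p.Prime := Fact.out
  obtain ⟨k₁, hk₁, k₂, hk₂, hg⟩ := hfact g⁻¹
  set D : Subgroup G := G₁ ⊓ Cfsg.subgroupConjRight g G₂ with hD
  -- the Sylow subgroup k₁ • S lies in D
  have hS'D : ((k₁ • S : Sylow p G) : Subgroup G) ≤ D := by
    rw [Sylow.coe_subgroup_smul]
    rintro _ ⟨s, hs, rfl⟩
    have hs' : s ∈ (S : Subgroup G) := hs
    refine ⟨?_, ?_⟩
    · show k₁ * s * k₁⁻¹ ∈ G₁
      exact G₁.mul_mem (G₁.mul_mem hk₁ (h1 hs')) (G₁.inv_mem hk₁)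
    · show k₁ * s * k₁⁻¹ ∈ Cfsg.subgroupConjRight g G₂
      unfold Cfsg.subgroupConjRight
      refine ⟨k₂⁻¹ * s * k₂, G₂.mul_mem (G₂.mul_mem (G₂.inv_mem hk₂) (h2 hs')) hk₂, ?_⟩
      simp only [MulEquiv.coe_toMonoidHom, MulAut.conj_apply, inv_inv]
      have hg' : g = k₂⁻¹ * k₁⁻¹ := by rw [← inv_inv g, hg, mul_inv_rev]
      rw [hg, hg']; group
  have hRD : (S : Subgroup G) ⊓ Cfsg.subgroupConjRight g (S : Subgroup G) ≤ D := by
    refine inf_le_inf h1 ?_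
    unfold Cfsg.subgroupConjRight
    exact Subgroup.map_mono h2
  have hRp : IsPGroup p ↥((S : Subgroup G) ⊓ Cfsg.subgroupConjRight g (S : Subgroup G)) :=
    S.isPGroup'.to_inf_left
  obtain ⟨U', hU', hRU'⟩ := exists_isSylowIn_ge hRp hRD
  have hS' := IsSylowIn.of_sylow_le (k₁ • S : Sylow p G) hS'D
  have hcard : Nat.card ↥U' = p ^ (Nat.card G).factorization p := by
    rw [hU'.2, ← hS'.2]
    exact (k₁ • S : Sylow p G).card_eq_multiplicity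
  exact ⟨Sylow.ofCard U' hcard, hRU', hU'.1⟩

end Cfsg.Agent.S2940
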