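import Cfsg.Statements.S2958
import Mathlib

set_option autoImplicit false
open Cfsg

namespace Cfsg.Agent.S2958

theorem map_conj_map_conj {G : Type*} [Group G] (X : Subgroup G) (a g : G) :
    (X.map (MulAut.conj g).toMonoidHom).map (MulAut.conj a).toMonoidHom =
      X.map (MulAut.conj (a * g)).toMonoidHom := by
  rw [Subgroup.map_map]
  congr 1
  ext x
  simp [MulAut.conj_apply, mul_assoc]

theorem mem_normalizer_of_map_le {G : Type*} [Group G] (N : Subgroup G) (a : G)
    (h1 : N.map (MulAut.conj a).toMonoidHom ≤ N) (h2 : N.map (MulAut.conj a⁻¹).toMonoidHom ≤ N) :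
    a ∈ Subgroup.normalizer (N : Set G) := by
  rw [Subgroup.mem_normalizer_iff]
  intro n
  constructor
  · intro hn
    exact h1 ⟨n, hn, by simp [MulAut.conj_apply]⟩
  · intro hn
    have := h2 ⟨_, hn, rfl⟩
    simpa [MulAut.conj_apply, mul_assoc] using this

/-- If a group G is generated by a conjugacy class of subgroups (the conjugates of X), and every conjugate lies in the subgroup A or in the subgroup B, then A = G or B = G. -/
theorem result {G : Type*} [Group G] (X A B : Subgroup G) (hgen : (⨆ g : G, X.map (MulAut.conj g).toMonoidHom) = ⊤) (hcover : ∀ g : G, X.map (MulAut.conj g).toMonoidHom ≤ A ∨ X.map (MulAut.conj g).toMonoidHom ≤ B) : A = ⊤ ∨ B = ⊤ := by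
  by_cases hA : A = ⊤
  · exact Or.inl hA
  right
  set N : Subgroup G := ⨆ g : {g : G // ¬ X.map (MulAut.conj g).toMonoidHom ≤ A},
    X.map (MulAut.conj (g : G)).toMonoidHom with hN
  have hNB : N ≤ B := by
    rw [hN]
    refine iSup_le fun g => ?_
    exact (hcover g.1).resolve_left g.2
  -- A maps N into N
  have hAN : ∀ a ∈ A, N.map (MulAut.conj a).toMonoidHom ≤ N := by
    intro a ha
    rw [hN, Subgroup.map_iSup]
    refine iSup_le fun g => ?_
    rw [map_conj_map_conj]
    have hag : ¬ X.map (MulAut.conj (a * g.1)).toMonoidHom ≤ A := by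
      intro h
      apply g.2
      have h2 : (X.map (MulAut.conj (a * g.1)).toMonoidHom).map (MulAut.conj a⁻¹).toMonoidHom ≤
          A.map (MulAut.conj a⁻¹).toMonoidHom := Subgroup.map_mono h
      rw [map_conj_map_conj, inv_mul_cancel_left] at h2
      refine h2.trans ?_
      rintro _ ⟨y, hy, rfl⟩
      exact A.mul_mem (A.mul_mem (A.inv_mem ha) hy) (A.inv_mem (A.inv_mem ha))
    exact le_iSup (fun g : {g : G // ¬ X.map (MulAut.conj g).toMonoidHom ≤ A} =>
      X.map (MulAut.conj (g : G)).toMonoidHom) ⟨a * g.1, hag⟩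
  have hAnorm : A ≤ Subgroup.normalizer (N : Set G) := fun a ha =>
    mem_normalizer_of_map_le N a (hAN a ha) (hAN a⁻¹ (A.inv_mem ha))
  -- every conjugate of X normalizes N
  have hall : ∀ g : G, X.map (MulAut.conj g).toMonoidHom ≤ Subgroup.normalizer (N : Set G) := by
    intro g
    by_cases hg : X.map (MulAut.conj g).toMonoidHom ≤ A
    · exact hg.trans hAnorm
    · have : X.map (MulAut.conj g).toMonoidHom ≤ N :=
        le_iSup (fun g : {g : G // ¬ X.map (MulAut.conj g).toMonoidHom ≤ A} =>
          X.map (MulAut.conj (g : G)).toMonoidHom) ⟨g, hg⟩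
      exact this.trans Subgroup.le_normalizer
  have hnorm : Subgroup.normalizer (N : Set G) = ⊤ := by
    rw [eq_top_iff, ← hgen]
    exact iSup_le hall
  have hNn : N.Normal := Subgroup.normalizer_eq_top_iff.mp hnorm
  -- some conjugate is not in A
  have hex : ∃ g₀ : G, ¬ X.map (MulAut.conj g₀).toMonoidHom ≤ A := by
    by_contra hcon
    push Not at hcon
    apply hA
    rw [eq_top_iff, ← hgen]
    exact iSup_le hcon
  obtain ⟨g₀, hg₀⟩ := hex
  have hg₀N : X.map (MulAut.conj g₀).toMonoidHom ≤ N :=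
    le_iSup (fun g : {g : G // ¬ X.map (MulAut.conj g).toMonoidHom ≤ A} =>
      X.map (MulAut.conj (g : G)).toMonoidHom) ⟨g₀, hg₀⟩
  have hallN : ∀ h : G, X.map (MulAut.conj h).toMonoidHom ≤ N := by
    intro h
    have e : X.map (MulAut.conj h).toMonoidHom =
        (X.map (MulAut.conj g₀).toMonoidHom).map (MulAut.conj (h * g₀⁻¹)).toMonoidHom := by
      rw [map_conj_map_conj, inv_mul_cancel_right]
    rw [e]
    rintro _ ⟨y, hy, rfl⟩
    exact hNn.conj_mem y (hg₀N hy) _
  rw [eq_top_iff, ← hgen]
  exact (iSup_le hallN).trans hNB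

end Cfsg.Agent.S2958
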