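import Cfsg.Statements.S2960
import Cfsg.Agent.Lib.Helper7.PQLemma
import Cfsg.Agent.Lib.Helper7.SylowLib

set_option autoImplicit false
open Cfsg

namespace Cfsg.Agent.S2960

open Cfsg.Agent.Lib.Helper7

/-- In a finite group G with C_G(O_p(G)) ≤ O_p(G), a normal subgroup Q of a Sylow p-subgroup T with C_T(Q) ≤ Q satisfies C_G(Q) ≤ Q. -/
theorem result {G : Type*} [Group G] [Finite G] {p : ℕ} [Fact p.Prime] (hG : Subgroup.centralizer (Cfsg.pCore p G : Set G) ≤ Cfsg.pCore p G) (T : Sylow p G) (Q : Subgroup G) (hQT : Q ≤ (T : Subgroup G)) (hQn : (T : Subgroup G) ≤ Subgroup.normalizer (Q : Set G)) (hC : (T : Subgroup G) ⊓ Subgroup.centralizer (Q : Set G) ≤ Q) : Subgroup.centralizer (Q : Set G) ≤ Q := by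
  have hTp : IsPGroup p ↥(T : Subgroup G) := T.isPGroup'
  have hQp : IsPGroup p ↥Q := hTp.to_le hQT
  have hOp : IsPGroup p ↥(Cfsg.pCore p G) := pCore_isPGroup p G
  have hOT : Cfsg.pCore p G ≤ (T : Subgroup G) := pCore_le_sylow T
  set D := Subgroup.centralizer (Q : Set G) with hD
  -- p'-elements of D are trivial
  have key : ∀ x ∈ D, (orderOf x).Coprime p → x = 1 := by
    intro x hxD hx
    -- apply the P×Q lemma with P := Q, Q := ⟨x⟩, U := O_p(G)
    have h1 : (Nat.card ↥(Subgroup.zpowers x)).Coprime p := by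
      rw [Nat.card_zpowers]; exact hx
    have h2 : Q ≤ Subgroup.centralizer ((Subgroup.zpowers x : Subgroup G) : Set G) := by
      rw [Subgroup.le_centralizer_iff, Subgroup.zpowers_le]
      exact hxD
    have h3 : Q ≤ Subgroup.normalizer (Cfsg.pCore p G : Set G) := by
      haveI := pCore_normal p G
      rw [Subgroup.normalizer_eq_top]; exact le_top
    have h4 : Subgroup.zpowers x ≤ Subgroup.normalizer (Cfsg.pCore p G : Set G) := by
      haveI := pCore_normal p G
      rw [Subgroup.normalizer_eq_top]; exact le_top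
    have h5 : Cfsg.pCore p G ⊓ Subgroup.centralizer (Q : Set G) ≤
        Subgroup.centralizer ((Subgroup.zpowers x : Subgroup G) : Set G) := by
      intro y hy
      have hyQ : y ∈ Q := hC ⟨hOT hy.1, hy.2⟩
      exact h2 hyQ
    have h6 := pq_lemma p Q (Subgroup.zpowers x) hQp h1 h2 _ (Cfsg.pCore p G) rfl hOp h3 h4 h5
    have hxO : x ∈ Cfsg.pCore p G := hG (h6 (Subgroup.mem_zpowers x))
    obtain ⟨k, hk⟩ := pow_eq_one_of_mem_isPGroup hOp hxO
    exact eq_one_of_coprime_of_pow_eq_one x hx k hk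
  have hDp : IsPGroup p ↥D := isPGroup_of_coprime_trivial D key
  -- T normalizes D, so D T is a p-group containing T, hence D ≤ T
  have hTD : (T : Subgroup G) ≤ Subgroup.normalizer (D : Set G) := by
    intro t ht
    have htQ := hQn ht
    rw [Subgroup.mem_normalizer_iff]
    intro d
    have aux : ∀ s : G, s ∈ Subgroup.normalizer (Q : Set G) → ∀ e ∈ D, s * e * s⁻¹ ∈ D := by
      intro s hs e he
      rw [hD, Subgroup.mem_centralizer_iff]
      intro q hq
      have hq' : s⁻¹ * q * s ∈ Q := by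
        have := (Subgroup.mem_normalizer_iff.mp (Subgroup.inv_mem _ hs) q).mp hq
        simpa using this
      have := Subgroup.mem_centralizer_iff.mp he _ hq'
      calc q * (s * e * s⁻¹) = s * ((s⁻¹ * q * s) * e) * s⁻¹ := by group
        _ = s * (e * (s⁻¹ * q * s)) * s⁻¹ := by rw [this]
        _ = s * e * s⁻¹ * q := by group
    constructor
    · exact aux t htQ d
    · intro h
      have := aux t⁻¹ (Subgroup.inv_mem _ htQ) _ h
      simpa [mul_assoc] using this
  have hsup : IsPGroup p ↥(D ⊔ (T : Subgroup G)) := IsPGroup.to_sup_of_normal_left' hDp hTp hTD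
  have hle : D ⊔ (T : Subgroup G) = (T : Subgroup G) := T.is_maximal' hsup le_sup_right
  have hDT : D ≤ (T : Subgroup G) := hle ▸ le_sup_left
  intro d hd
  exact hC ⟨hDT hd, hd⟩

end Cfsg.Agent.S2960
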