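import Cfsg.Statements.S2968
import Cfsg.Agent.Lib.Helper7.Isolated

set_option autoImplicit false
open Cfsg

namespace Cfsg.Agent.S2968

open Cfsg.Agent.Lib.Helper7

theorem isPGroup_zpowers {G : Type*} [Group G] {p : ℕ} (x : G) (hx : ∃ k : ℕ, orderOf x = p ^ k) :
    IsPGroup p ↥(Subgroup.zpowers x) := by
  obtain ⟨k, hk⟩ := hx
  exact IsPGroup.of_card (n := k) (by rw [Nat.card_zpowers, hk])

/-- If a conjugate of a power of the isolated `p`-element `x` lies in the `p`-group `P ∋ x`, it is that power. -/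
theorem conj_zpow_eq {G : Type*} [Group G] [Finite G] {p : ℕ} [Fact p.Prime] (P : Subgroup G)
    (hP : IsPGroup p ↥P) (x : G) (hxP : x ∈ P) (hx : ∃ k : ℕ, orderOf x = p ^ k)
    (hiso : Cfsg.IsIsolated x) (k : ℤ) (g : G) (hw : g * x ^ k * g⁻¹ ∈ P) :
    g * x ^ k * g⁻¹ = x ^ k := by
  set w := g * x ^ k * g⁻¹ with hwdef
  set y := g * x * g⁻¹ with hy
  have hwy : w = y ^ k := by rw [hwdef, hy, _root_.conj_zpow]
  set C : Subgroup G := Subgroup.centralizer ({w} : Set G) with hC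
  have hxC : x ∈ C := by
    rw [hC, Subgroup.mem_centralizer_iff]
    intro z hz
    rw [Set.mem_singleton_iff.mp hz]
    exact Subgroup.mem_centralizer_iff.mp (isIsolated_centralizes_of_mem_pGroup hiso P hP hxP) w hw
  have hyC : y ∈ C := by
    rw [hC, Subgroup.mem_centralizer_iff]
    intro z hz
    rw [Set.mem_singleton_iff.mp hz, hwy]
    exact ((Commute.refl y).zpow_left k).eq
  have hxp : IsPGroup p ↥(Subgroup.zpowers x) := isPGroup_zpowers x hx
  have hyp : IsPGroup p ↥(Subgroup.zpowers y) := by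
    apply isPGroup_zpowers
    obtain ⟨j, hj⟩ := hx
    refine ⟨j, ?_⟩
    rw [hy, ← hj]
    exact (MulAut.conj g).orderOf_eq x
  obtain ⟨R, hR, hxR⟩ := exists_isSylowIn_ge hxp (H := C) (by rwa [Subgroup.zpowers_le])
  obtain ⟨R', hR', hyR'⟩ := exists_isSylowIn_ge hyp (H := C) (by rwa [Subgroup.zpowers_le])
  obtain ⟨c, hcC, hcR⟩ := hR.conj hR'
  have hyR : y ∈ R.map (MulAut.conj c).toMonoidHom := hcR ▸ hyR' (Subgroup.mem_zpowers y)
  obtain ⟨r, hrR, hry⟩ := hyR
  have hry' : c * r * c⁻¹ = y := hry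
  have hr : r = (c⁻¹ * g) * x * (c⁻¹ * g)⁻¹ := by
    have : r = c⁻¹ * y * c := by rw [← hry']; group
    rw [this, hy]; group
  have hxR' : x ∈ R := hxR (Subgroup.mem_zpowers x)
  have hrx : r = x := by
    rw [hr]
    exact isIsolated_conj_eq_of_mem_pGroup hiso R hR.isPGroup hxR' _ (hr ▸ hrR)
  have hcw : c * w = w * c := (Subgroup.mem_centralizer_iff.mp hcC w rfl).symm
  have : y = c * x * c⁻¹ := by rw [← hry', hrx]
  have h1 : c * x ^ k * c⁻¹ = w := by rw [hwy, this, _root_.conj_zpow]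
  have h2 : x ^ k = c⁻¹ * w * c := by rw [← h1]; group
  have h3 : c⁻¹ * w * c = w := by
    rw [mul_assoc, ← hcw]; group
  exact (h2.trans h3).symm

/-- An isolated p-element x of a Sylow p-subgroup P of a finite group is central in P, and the cyclic subgroup ⟨x⟩ is strongly closed and weakly closed in P. -/
theorem result {G : Type*} [Group G] [Finite G] {p : ℕ} [Fact p.Prime] (P : Sylow p G) (x : G) (hxP : x ∈ (P : Subgroup G)) (hx : ∃ k : ℕ, orderOf x = p ^ k) (hiso : Cfsg.IsIsolated x) : x ∈ (P : Subgroup G) ⊓ Subgroup.centralizer ((P : Subgroup G) : Set G) ∧ Cfsg.IsStronglyClosed (Subgroup.zpowers x) (P : Subgroup G) ∧ Cfsg.IsWeaklyClosed (Subgroup.zpowers x) (P : Subgroup G) := by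
  have hP : IsPGroup p ↥(P : Subgroup G) := P.isPGroup'
  have hle : Subgroup.zpowers x ≤ (P : Subgroup G) := by rwa [Subgroup.zpowers_le]
  refine ⟨⟨hxP, isIsolated_centralizes_of_mem_pGroup hiso _ hP hxP⟩, ⟨hle, ?_⟩, ⟨hle, ?_⟩⟩
  · intro z hz g hg
    obtain ⟨k, rfl⟩ := Subgroup.mem_zpowers_iff.mp hz
    rw [conj_zpow_eq (P : Subgroup G) hP x hxP hx hiso k g hg]
    exact Subgroup.zpow_mem_zpowers x k
  · intro g hg
    have h1 : g * x * g⁻¹ ∈ (P : Subgroup G) := hg ⟨x, Subgroup.mem_zpowers x, rfl⟩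
    have h2 : g * x * g⁻¹ = x := isIsolated_conj_eq_of_mem_pGroup hiso _ hP hxP g h1
    rw [MonoidHom.map_zpowers]
    show Subgroup.zpowers (g * x * g⁻¹) = Subgroup.zpowers x
    rw [h2]

end Cfsg.Agent.S2968
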