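import Cfsg.Statements.S2969
import Cfsg.Agent.Lib.Helper7.Isolated

set_option autoImplicit false
open Cfsg

namespace Cfsg.Agent.S2969

open Cfsg.Agent.Lib.Helper7

theorem isPGroup_zpowers {G : Type*} [Group G] {p : ℕ} (x : G) (hx : ∃ k : ℕ, orderOf x = p ^ k) :
    IsPGroup p ↥(Subgroup.zpowers x) := by
  obtain ⟨k, hk⟩ := hx
  exact IsPGroup.of_card (n := k) (by rw [Nat.card_zpowers, hk])

theorem mem_centralizer_of_conj_eq {G : Type*} [Group G] (a x : G) (h : a * x * a⁻¹ = x) :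
    a ∈ Subgroup.centralizer ({x} : Set G) := by
  rw [Subgroup.mem_centralizer_iff]
  intro z hz
  rw [Set.mem_singleton_iff.mp hz]
  calc x * a = (a * x * a⁻¹) * a := by rw [h]
    _ = a * x := by group

/-- For an isolated p-element x of a finite group: the normalizer of every p-subgroup containing x centralizes x; and whenever x lies in a subgroup N normalized by a subgroup H ≥ N, H = N · C_H(x). -/
theorem result {G : Type*} [Group G] [Finite G] {p : ℕ} [Fact p.Prime] (x : G) (hx : ∃ k : ℕ, orderOf x = p ^ k) (hiso : Cfsg.IsIsolated x) : (∀ R : Subgroup G, IsPGroup p ↥R → x ∈ R → Subgroup.normalizer (R : Set G) ≤ Subgroup.centralizer ({x} : Set G)) ∧ (∀ H N : Subgroup G, N ≤ H → H ≤ Subgroup.normalizer (N : Set G) → x ∈ N → N ⊔ (H ⊓ Subgroup.centralizer ({x} : Set G)) = H) := by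
  constructor
  · intro R hR hxR n hn
    have h1 : n * x * n⁻¹ ∈ R := (Subgroup.mem_normalizer_iff.mp hn x).mp hxR
    exact mem_centralizer_of_conj_eq n x (isIsolated_conj_eq_of_mem_pGroup hiso R hR hxR n h1)
  · intro H N hNH hHN hxN
    apply le_antisymm (sup_le hNH inf_le_left)
    intro h hh
    have hxp : IsPGroup p ↥(Subgroup.zpowers x) := isPGroup_zpowers x hx
    obtain ⟨R, hR, hxR⟩ := exists_isSylowIn_ge hxp (H := N) (by rwa [Subgroup.zpowers_le])
    have hxR' : x ∈ R := hxR (Subgroup.mem_zpowers x)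
    -- the conjugate of R by h is again Sylow in N
    have hRh : IsSylowIn p (R.map (MulAut.conj h).toMonoidHom) N := by
      refine ⟨?_, ?_⟩
      · rintro _ ⟨r, hr, rfl⟩
        exact (Subgroup.mem_normalizer_iff.mp (hHN hh) r).mp (hR.1 hr)
      · rw [Subgroup.card_map_of_injective (MulAut.conj h).injective]
        exact hR.2
    obtain ⟨n, hnN, hn⟩ := hR.conj hRh
    -- a = n⁻¹ h maps R to R
    have ha : (n⁻¹ * h) * x * (n⁻¹ * h)⁻¹ ∈ R := by
      have h1 : h * x * h⁻¹ ∈ R.map (MulAut.conj h).toMonoidHom := ⟨x, hxR', rfl⟩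
      rw [hn] at h1
      obtain ⟨r, hr, hr'⟩ := h1
      have hr'' : n * r * n⁻¹ = h * x * h⁻¹ := hr'
      have : (n⁻¹ * h) * x * (n⁻¹ * h)⁻¹ = r := by
        calc (n⁻¹ * h) * x * (n⁻¹ * h)⁻¹ = n⁻¹ * (h * x * h⁻¹) * n := by group
          _ = n⁻¹ * (n * r * n⁻¹) * n := by rw [hr'']
          _ = r := by group
      rw [this]; exact hr
    have hac : n⁻¹ * h ∈ Subgroup.centralizer ({x} : Set G) :=
      mem_centralizer_of_conj_eq _ x (isIsolated_conj_eq_of_mem_pGroup hiso R hR.isPGroup hxR' _ ha)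
    have haH : n⁻¹ * h ∈ H := H.mul_mem (H.inv_mem (hNH hnN)) hh
    have : h = n * (n⁻¹ * h) := by group
    rw [this]
    exact Subgroup.mul_mem_sup hnN ⟨haH, hac⟩

end Cfsg.Agent.S2969
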