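import Cfsg.Statements.S3009
import Cfsg.Agent.Lib.Lead.QuadSL2F
import Cfsg.Agent.Lib.Helper7.NatSL5

set_option autoImplicit false
open Cfsg

namespace Cfsg.Agent.S3009

open Matrix Cfsg.Agent.Lib.Helper7 Cfsg.Agent.QuadSL2
open scoped IsMulCommutative commutatorElement

section setup

variable {X : Type*} [Group X] {G V : Subgroup X} (hGV : G ≤ Subgroup.normalizer (V : Set X))

/-- conjugation of `V` by an element of `G` -/
def cj (g : ↥G) (v : ↥V) : ↥V :=
  ⟨(g : X) * (v : X) * (g : X)⁻¹, (Subgroup.mem_normalizer_iff.mp (hGV g.2) v.1).mp v.2⟩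

theorem cj_val (g : ↥G) (v : ↥V) : ((cj hGV g v : ↥V) : X) = (g : X) * (v : X) * (g : X)⁻¹ := rfl

theorem cj_one (v : ↥V) : cj hGV 1 v = v := by
  apply Subtype.ext; rw [cj_val]; simp

theorem cj_mul (g h : ↥G) (v : ↥V) : cj hGV (g * h) v = cj hGV g (cj hGV h v) := by
  apply Subtype.ext; simp only [cj_val, Subgroup.coe_mul, _root_.mul_inv_rev]; group

theorem cj_map_mul (g : ↥G) (v w : ↥V) : cj hGV g (v * w) = cj hGV g v * cj hGV g w := by
  apply Subtype.ext; simp only [cj_val, Subgroup.coe_mul]; group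

variable {F : Type*} [Field F] (ι : ↥G ≃* SpecialLinearGroup (Fin 2) F)

/-- the representation on `Additive V` -/
def rep : SpecialLinearGroup (Fin 2) F →* AddMonoid.End (Additive ↥V) where
  toFun A := AddMonoidHom.mk' (fun m => Additive.ofMul (cj hGV (ι.symm A) (Additive.toMul m)))
    (fun a b => by
      show Additive.ofMul (cj hGV (ι.symm A) (Additive.toMul a * Additive.toMul b)) = _
      rw [cj_map_mul]; rfl)
  map_one' := by
    apply AddMonoidHom.ext; intro m
    show Additive.ofMul (cj hGV (ι.symm 1) (Additive.toMul m)) = m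
    rw [map_one, cj_one]; rfl
  map_mul' A B := by
    apply AddMonoidHom.ext; intro m
    show Additive.ofMul (cj hGV (ι.symm (A * B)) (Additive.toMul m)) =
      Additive.ofMul (cj hGV (ι.symm A) (cj hGV (ι.symm B) (Additive.toMul m)))
    rw [map_mul, cj_mul]

theorem rep_apply (A : SpecialLinearGroup (Fin 2) F) (m : Additive ↥V) :
    rep hGV ι A m = Additive.ofMul (cj hGV (ι.symm A) (Additive.toMul m)) := rfl

theorem rep_iota (g : ↥G) (v : ↥V) :
    rep hGV ι (ι g) (Additive.ofMul v) = Additive.ofMul (cj hGV g v) := by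
  rw [rep_apply, MulEquiv.symm_apply_apply]; rfl

end setup

/-- Let p be a prime and let G and V be subgroups of a finite group with V elementary abelian and normalized by G, and G isomorphic to SL₂(F) for a finite field F with pⁿ elements. Suppose G acts irreducibly and nontrivially on V by conjugation (no G-invariant subgroups of V other than 1 and V, and [V, G] ≠ 1), and let S be a Sylow p-subgroup of G and V₀ = C_V(S). If [V, S, S] = 1 or |V| ≤ |V₀|², then G acts on V as SL₂(F) on its natural two-dimensional module; in particular |V| = |F|². -/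
theorem result {X : Type*} [Group X] [Finite X] {p : ℕ} [Fact p.Prime] (G V : Subgroup X) (hV : Cfsg.IsElementaryAbelian p V) (hGV : G ≤ Subgroup.normalizer (V : Set X)) (F : Type) [Field F] [Fintype F] (n : ℕ) (hF : Fintype.card F = p ^ n) (hG : Nonempty (↥G ≃* Matrix.SpecialLinearGroup (Fin 2) F)) (hirr : ∀ U : Subgroup X, U ≤ V → G ≤ Subgroup.normalizer (U : Set X) → U = ⊥ ∨ U = V) (hnt : ⁅V, G⁆ ≠ ⊥) (S : Sylow p ↥G) (hyp : ⁅⁅V, (S : Subgroup ↥G).map G.subtype⁆, (S : Subgroup ↥G).map G.subtype⁆ = ⊥ ∨ Nat.card ↥V ≤ Nat.card ↥(V ⊓ Subgroup.centralizer (((S : Subgroup ↥G).map G.subtype : Subgroup X) : Set X)) ^ 2) : Cfsg.ActsAsSL2OnSection F ⊤ G V ⊥ := by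
  classical
  obtain ⟨ι₀⟩ := hG
  haveI : IsMulCommutative ↥V := hV.1
  haveI : CharP F p := charP_of_card n hF
  let P : Sylow p (SpecialLinearGroup (Fin 2) F) :=
    S.comapOfInjective ι₀.symm.toMonoidHom ι₀.symm.injective (by
      have : ι₀.symm.toMonoidHom.range = ⊤ := MonoidHom.range_eq_top.mpr ι₀.symm.surjective
      rw [this]; exact le_top)
  have hP : ∀ A, A ∈ P ↔ ι₀.symm A ∈ S := fun A => Iff.rfl
  obtain ⟨B, hB⟩ := sylow_sl2_conj P
  let ι : ↥G ≃* SpecialLinearGroup (Fin 2) F := ι₀.trans (MulAut.conj B⁻¹)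
  have hι : ∀ g, ι g = B⁻¹ * ι₀ g * B := by
    intro g
    show MulAut.conj B⁻¹ (ι₀ g) = _
    rw [MulAut.conj_apply, inv_inv]
  have hS : ∀ g : ↥G, g ∈ S ↔ ∃ a, ι g = uSL2 a := by
    intro g
    rw [hι, ← hB, hP, MulEquiv.symm_apply_apply]
  set T : Subgroup X := (S : Subgroup ↥G).map G.subtype with hT
  have hTmem : ∀ x : X, x ∈ T ↔ ∃ g : ↥G, g ∈ S ∧ (g : X) = x := by
    intro x
    rw [hT, Subgroup.mem_map]
    rfl
  set R := rep hGV ι with hR
  -- M0 corresponds to the centralizer of T
  have hM0 : ∀ v : ↥V, Additive.ofMul v ∈ M0 R ↔ (v : X) ∈ Subgroup.centralizer (T : Set X) := by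
    intro v
    rw [mem_M0, Subgroup.mem_centralizer_iff]
    constructor
    · intro h t ht
      obtain ⟨g, hg, rfl⟩ := (hTmem t).mp ht
      obtain ⟨a, ha⟩ := (hS g).mp hg
      have h1 := h a
      rw [← ha, hR, rep_iota] at h1
      have h2 : cj hGV g v = v := Additive.ofMul.injective h1
      have h3 := congrArg Subtype.val h2
      rw [cj_val] at h3
      calc (g : X) * (v : X) = (g : X) * (v : X) * (g : X)⁻¹ * (g : X) := by group
        _ = (v : X) * (g : X) := by rw [h3]
    · intro h x
      set g := ι.symm (uSL2 x) with hg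
      have hgS : g ∈ S := (hS g).mpr ⟨x, by rw [hg, MulEquiv.apply_symm_apply]⟩
      have hgT : (g : X) ∈ T := (hTmem _).mpr ⟨g, hgS, rfl⟩
      have h1 := h _ hgT
      rw [hR, rep_apply]
      show Additive.ofMul (cj hGV g v) = Additive.ofMul v
      congr 1
      apply Subtype.ext
      rw [cj_val, h1]
      group
  -- irreducibility
  have hirr' : ∀ N : AddSubgroup (Additive ↥V), (∀ g, ∀ m ∈ N, R g m ∈ N) → N = ⊥ ∨ N = ⊤ := by
    intro N hN
    let U : Subgroup X :=
      { carrier := {x | ∃ h : x ∈ V, Additive.ofMul (⟨x, h⟩ : ↥V) ∈ N}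
        one_mem' := ⟨V.one_mem, N.zero_mem⟩
        mul_mem' := by
          rintro a b ⟨ha, ha'⟩ ⟨hb, hb'⟩
          exact ⟨V.mul_mem ha hb, N.add_mem ha' hb'⟩
        inv_mem' := by
          rintro a ⟨ha, ha'⟩
          exact ⟨V.inv_mem ha, N.neg_mem ha'⟩ }
    have hUV : U ≤ V := fun x hx => hx.1
    have hconj : ∀ g : ↥G, ∀ x ∈ U, (g : X) * x * (g : X)⁻¹ ∈ U := by
      rintro g x ⟨hx, hx'⟩
      have h1 := hN (ι g) _ hx'
      rw [hR, rep_iota] at h1
      exact ⟨(cj hGV g ⟨x, hx⟩).2, h1⟩
    have hGU : G ≤ Subgroup.normalizer (U : Set X) := by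
      intro g hg
      rw [Subgroup.mem_normalizer_iff]
      intro x
      constructor
      · exact hconj ⟨g, hg⟩ x
      · intro h
        have := hconj ⟨g, hg⟩⁻¹ _ h
        simp only [Subgroup.coe_inv, inv_inv] at this
        have e : g⁻¹ * (g * x * g⁻¹) * g = x := by group
        rwa [e] at this
    rcases hirr U hUV hGU with h | h
    · left
      rw [eq_bot_iff]
      intro m hm
      have : ((Additive.toMul m : ↥V) : X) ∈ U := ⟨(Additive.toMul m).2, hm⟩
      rw [h, Subgroup.mem_bot] at this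
      rw [AddSubgroup.mem_bot]
      have h2 : (Additive.toMul m : ↥V) = 1 := Subtype.ext this
      show m = Additive.ofMul (1 : ↥V)
      rw [← h2]; rfl
    · right
      rw [eq_top_iff]
      intro m _
      have : ((Additive.toMul m : ↥V) : X) ∈ U := by rw [h]; exact (Additive.toMul m).2
      obtain ⟨_, h2⟩ := this
      exact h2
  -- nontriviality
  have hnt' : ∃ g m, R g m ≠ m := by
    by_contra hcon
    push Not at hcon
    apply hnt
    rw [Subgroup.commutator_eq_bot_iff_le_centralizer]
    intro v hv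
    rw [Subgroup.mem_centralizer_iff]
    intro g hg
    have h1 := hcon (ι ⟨g, hg⟩) (Additive.ofMul ⟨v, hv⟩)
    rw [hR, rep_iota] at h1
    have h2 : cj hGV ⟨g, hg⟩ ⟨v, hv⟩ = ⟨v, hv⟩ := Additive.ofMul.injective h1
    have h3 := congrArg Subtype.val h2
    rw [cj_val] at h3
    show g * v = v * g
    calc g * v = g * v * g⁻¹ * g := by group
      _ = v * g := by rw [h3]
  -- the quadratic hypothesis
  have hNu : ∀ (x : F) (v : ↥V), Nu R x (Additive.ofMul v) =
      Additive.ofMul (cj hGV (ι.symm (uSL2 x)) v / v) := by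
    intro x v
    unfold Nu
    rw [hR, rep_apply]
    rfl
  have hq : ∀ x m, Nu R x m ∈ M0 R := by
    rcases hyp with hyp | hyp
    · intro x m
      obtain ⟨v, rfl⟩ : ∃ v : ↥V, Additive.ofMul v = m := ⟨Additive.toMul m, rfl⟩
      rw [hNu, hM0]
      rw [Subgroup.commutator_eq_bot_iff_le_centralizer] at hyp
      apply hyp
      set g := ι.symm (uSL2 x) with hg
      have hgS : g ∈ S := (hS g).mpr ⟨x, by rw [hg, MulEquiv.apply_symm_apply]⟩
      have hgT : (g : X) ∈ T := (hTmem _).mpr ⟨g, hgS, rfl⟩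
      have e : ((cj hGV g v / v : ↥V) : X) = ⁅(g : X), (v : X)⁆ := by
        rw [Subgroup.coe_div, cj_val, commutatorElement_def, div_eq_mul_inv]
      rw [e, Subgroup.commutator_comm]
      exact Subgroup.commutator_mem_commutator hgT v.2
    · have hVp : IsPGroup p ↥V := by
        intro a
        refine ⟨1, ?_⟩
        rw [pow_one]
        apply Subtype.ext
        rw [Subgroup.coe_pow]
        exact hV.2 a.1 a.2
      obtain ⟨k, hk⟩ := IsPGroup.iff_card.mp hVp
      have hcV : Nat.card (Additive ↥V) = Nat.card ↥V := Nat.card_congr Additive.toMul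
      have hcM0 : Nat.card (M0 R) =
          Nat.card ↥(V ⊓ Subgroup.centralizer ((T : Subgroup X) : Set X)) := by
        apply Nat.card_congr
        exact
          { toFun := fun m => ⟨((Additive.toMul m.1 : ↥V) : X),
              ⟨(Additive.toMul m.1).2, (hM0 (Additive.toMul m.1)).mp m.2⟩⟩
            invFun := fun y => ⟨Additive.ofMul ⟨y.1, y.2.1⟩, (hM0 ⟨y.1, y.2.1⟩).mpr y.2.2⟩
            left_inv := fun m => rfl
            right_inv := fun y => rfl }
      exact quad_of_card R hirr' hnt' n hF k (by rw [hcV, hk]) (by rw [hcV, hcM0]; exact hyp)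
  obtain ⟨f, hf⟩ := quad_main R hirr' hnt' hq
  -- conclusion
  refine ⟨hGV, bot_le, ι.toMonoidHom,
    { toFun := fun v => Multiplicative.ofAdd (f.symm (Additive.ofMul v))
      map_one' := by
        show Multiplicative.ofAdd (f.symm (0 : Additive ↥V)) = 1
        rw [map_zero]; rfl
      map_mul' := fun a b => by
        show Multiplicative.ofAdd (f.symm (Additive.ofMul a + Additive.ofMul b)) = _
        rw [map_add]; rfl }, ?_, ?_, ?_, ?_⟩
  · exact MonoidHom.range_eq_top.mpr ι.surjective
  · intro y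
    refine ⟨Additive.toMul (f (Multiplicative.toAdd y)), ?_⟩
    show Multiplicative.ofAdd (f.symm (f (Multiplicative.toAdd y))) = y
    rw [AddEquiv.symm_apply_apply]; rfl
  · intro u
    rw [Subgroup.mem_bot]
    constructor
    · intro h
      have h1 : f.symm (Additive.ofMul u) = 0 := Multiplicative.ofAdd.injective h
      have h2 : Additive.ofMul u = 0 := by
        have := congrArg f h1
        rwa [AddEquiv.apply_symm_apply, map_zero] at this
      have h3 : u = 1 := Additive.ofMul.injective h2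
      rw [h3]; rfl
    · intro h
      have h3 : u = 1 := Subtype.ext h
      rw [h3]
      show Multiplicative.ofAdd (f.symm (0 : Additive ↥V)) = 1
      rw [map_zero]; rfl
  · intro e u
    refine ⟨cj hGV e u, cj_val hGV e u, ?_⟩
    show f.symm (Additive.ofMul (cj hGV e u)) =
      ((ι e : SpecialLinearGroup (Fin 2) F) : Matrix (Fin 2) (Fin 2) F).mulVec
        (f.symm (Additive.ofMul u))
    rw [← rep_iota hGV ι e u]
    apply f.injective
    rw [AddEquiv.apply_symm_apply]
    have := hf (ι e) (f.symm (Additive.ofMul u))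
    rw [AddEquiv.apply_symm_apply] at this
    exact this.symm

end Cfsg.Agent.S3009
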