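import Cfsg.Statements.S3195
import Mathlib
import Cfsg.Agent.H1.InvolOdd
import Cfsg.Agent.Lib.Helper7.Core


set_option autoImplicit false
open Cfsg

namespace Cfsg.Agent.S3195

theorem pow_four_eq {G : Type*} [Group G] (x : G) : x ^ 4 = (x * x) * (x * x) := by
  rw [show (4 : ℕ) = 2 + 2 from rfl, pow_add, pow_two]

theorem eq_one_of_odd_of_pow_four {G : Type*} [Group G] (x : G) (ho : Odd (orderOf x))
    (h : x ^ 4 = 1) : x = 1 := by
  have h1 : orderOf x ∣ 4 := orderOf_dvd_of_pow_eq_one h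
  have h2 : (orderOf x).Coprime 2 := (Nat.coprime_two_left.2 ho).symm
  have h3 : (orderOf x).Coprime (2 ^ 2) := Nat.Coprime.pow_right 2 h2
  have h4 : orderOf x = 1 := Nat.Coprime.eq_one_of_dvd h3 h1
  exact orderOf_eq_one_iff.1 h4

theorem odd_sq {G : Type*} [Group G] (x : G) (ho : Odd (orderOf x)) : Odd (orderOf (x * x)) := by
  rw [← pow_two]
  exact ho.of_dvd_nat (orderOf_pow_dvd 2)

theorem sq_ne_one {G : Type*} [Group G] (x : G) (ho : Odd (orderOf x)) (hx : x ≠ 1) : x * x ≠ 1 := by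
  intro h
  apply hx
  apply eq_one_of_odd_of_pow_four x ho
  calc x ^ 4 = (x * x) * (x * x) := pow_four_eq x
    _ = 1 := by rw [h, one_mul]

theorem odd_inverts {G : Type*} [Group G] (U Z : G) (hU : Odd (orderOf U))
    (h : U * Z * U⁻¹ = Z⁻¹) : Z * Z = 1 := by
  obtain ⟨m, hm⟩ := hU
  have h2 : (U * U) * Z * (U * U)⁻¹ = Z := by
    have h3 : (U * U) * Z * (U * U)⁻¹ = U * (U * Z * U⁻¹) * U⁻¹ := by group
    rw [h3, h]
    have h4 : U * Z⁻¹ * U⁻¹ = (U * Z * U⁻¹)⁻¹ := by group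
    rw [h4, h, inv_inv]
  have hc : Commute (U * U) Z := by
    have h3 : (U * U) * Z = Z * (U * U) := by
      calc (U * U) * Z = ((U * U) * Z * (U * U)⁻¹) * (U * U) := by group
        _ = Z * (U * U) := by rw [h2]
    exact h3
  have hc2 : Commute ((U * U) ^ (m + 1)) Z := hc.pow_left (m + 1)
  have hU' : (U * U) ^ (m + 1) = U := by
    rw [← pow_two, ← pow_mul]
    have h5 : 2 * (m + 1) = orderOf U + 1 := by omega
    rw [h5, pow_succ, pow_orderOf_eq_one, one_mul]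
  rw [hU'] at hc2
  have h3 : U * Z * U⁻¹ = Z := by rw [hc2.eq]; group
  rw [h3] at h
  calc Z * Z = Z * Z⁻¹ := by rw [← h]
    _ = 1 := mul_inv_cancel Z

theorem step {G : Type*} [Group G] (r s t u w : G)
    (hu1 : u ≠ 1) (hw1 : w ≠ 1) (huo : Odd (orderOf u)) (hwo : Odd (orderOf w))
    (hrt : r * t = t * r) (hst : s * t = t * s)
    (htu : t * u * t⁻¹ = u⁻¹) (htw : t * w * t⁻¹ = w⁻¹)
    (hru : r * u * r⁻¹ = u⁻¹) (hrw : r * w * r⁻¹ = w)
    (hsu : s * u * s⁻¹ = u) (hsw : s * w * s⁻¹ = w⁻¹)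
    (hyp : (r * ((w * u⁻¹) * t * (w * u⁻¹)⁻¹) = ((w * u⁻¹) * t * (w * u⁻¹)⁻¹) * r) ∨
      (s * ((w * u⁻¹) * t * (w * u⁻¹)⁻¹) = ((w * u⁻¹) * t * (w * u⁻¹)⁻¹) * s) ∨
      (t * ((w * u⁻¹) * t * (w * u⁻¹)⁻¹) = ((w * u⁻¹) * t * (w * u⁻¹)⁻¹) * t)) :
    w⁻¹ * w⁻¹ * (u * u) * (w⁻¹ * w⁻¹) = (u * u)⁻¹ := by
  have F1 : u * t * u⁻¹ = (u * u) * t := by
    have h3 : u * t * u⁻¹ = u * (t * u * t⁻¹)⁻¹ * t := by group
    rw [h3, htu, inv_inv]
  have F2 : u⁻¹ * t * u = (u * u)⁻¹ * t := by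
    have h3 : u⁻¹ * t * u = u⁻¹ * (t * u * t⁻¹) * t := by group
    rw [h3, htu]; group
  rcases hyp with hr | hs | ht
  · -- r commutes
    exfalso
    have E : r * ((w * u⁻¹) * t * (w * u⁻¹)⁻¹) * r⁻¹ = (w * u⁻¹) * t * (w * u⁻¹)⁻¹ := by
      rw [hr]; group
    have L : r * ((w * u⁻¹) * t * (w * u⁻¹)⁻¹) * r⁻¹ =
        ((r * w * r⁻¹) * (r * u * r⁻¹)⁻¹) * (r * t * r⁻¹) * ((r * w * r⁻¹) * (r * u * r⁻¹)⁻¹)⁻¹ := by
      group
    have hrt' : r * t * r⁻¹ = t := by rw [hrt]; group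
    rw [L, hrw, hru, hrt', inv_inv] at E
    have E' : u * t * u⁻¹ = u⁻¹ * t * u := by
      calc u * t * u⁻¹ = w⁻¹ * ((w * u) * t * (w * u)⁻¹) * w := by group
        _ = w⁻¹ * ((w * u⁻¹) * t * (w * u⁻¹)⁻¹) * w := by rw [E]
        _ = u⁻¹ * t * u := by group
    rw [F1, F2] at E'
    have h5 : u * u = (u * u)⁻¹ := mul_right_cancel E'
    apply hu1
    apply eq_one_of_odd_of_pow_four u huo
    calc u ^ 4 = (u * u) * (u * u) := pow_four_eq u
      _ = (u * u)⁻¹ * (u * u) := by rw [← h5]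
      _ = 1 := by group
  · -- s commutes
    exfalso
    have E : s * ((w * u⁻¹) * t * (w * u⁻¹)⁻¹) * s⁻¹ = (w * u⁻¹) * t * (w * u⁻¹)⁻¹ := by
      rw [hs]; group
    have L : s * ((w * u⁻¹) * t * (w * u⁻¹)⁻¹) * s⁻¹ =
        ((s * w * s⁻¹) * (s * u * s⁻¹)⁻¹) * (s * t * s⁻¹) * ((s * w * s⁻¹) * (s * u * s⁻¹)⁻¹)⁻¹ := by
      group
    have hst' : s * t * s⁻¹ = t := by rw [hst]; group
    rw [L, hsw, hsu, hst'] at E
    have E4 : (w * w) * (u⁻¹ * t * u) * (w * w)⁻¹ = u⁻¹ * t * u := by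
      calc (w * w) * (u⁻¹ * t * u) * (w * w)⁻¹
          = w * ((w * u⁻¹) * t * (w * u⁻¹)⁻¹) * w⁻¹ := by group
        _ = w * ((w⁻¹ * u⁻¹) * t * (w⁻¹ * u⁻¹)⁻¹) * w⁻¹ := by rw [← E]
        _ = u⁻¹ * t * u := by group
    rw [F2] at E4
    have F4 : t * (w * w)⁻¹ * t⁻¹ = w * w := by
      have h3 : t * (w * w)⁻¹ * t⁻¹ = ((t * w * t⁻¹) * (t * w * t⁻¹))⁻¹ := by group
      rw [h3, htw, mul_inv_rev, inv_inv]
    have E6 : (w * w) * (u * u)⁻¹ * (w * w) = (u * u)⁻¹ := by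
      calc (w * w) * (u * u)⁻¹ * (w * w)
          = (w * w) * (u * u)⁻¹ * (t * (w * w)⁻¹ * t⁻¹) := by rw [F4]
        _ = ((w * w) * ((u * u)⁻¹ * t) * (w * w)⁻¹) * t⁻¹ := by group
        _ = ((u * u)⁻¹ * t) * t⁻¹ := by rw [E4]
        _ = (u * u)⁻¹ := by group
    have E5 : (u * u) * (w * w) * (u * u)⁻¹ = (w * w)⁻¹ := by
      calc (u * u) * (w * w) * (u * u)⁻¹
          = (u * u) * ((w * w) * (u * u)⁻¹ * (w * w)) * (w * w)⁻¹ := by group
        _ = (u * u) * (u * u)⁻¹ * (w * w)⁻¹ := by rw [E6]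
        _ = (w * w)⁻¹ := by group
    have hZ := odd_inverts (u * u) (w * w) (odd_sq u huo) E5
    apply hw1
    apply eq_one_of_odd_of_pow_four w hwo
    calc w ^ 4 = (w * w) * (w * w) := pow_four_eq w
      _ = 1 := hZ
  · -- t commutes
    have E : t * ((w * u⁻¹) * t * (w * u⁻¹)⁻¹) * t⁻¹ = (w * u⁻¹) * t * (w * u⁻¹)⁻¹ := by
      rw [ht]; group
    have L : t * ((w * u⁻¹) * t * (w * u⁻¹)⁻¹) * t⁻¹ =
        ((t * w * t⁻¹) * (t * u * t⁻¹)⁻¹) * (t * t * t⁻¹) * ((t * w * t⁻¹) * (t * u * t⁻¹)⁻¹)⁻¹ := by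
      group
    have htt : t * t * t⁻¹ = t := by group
    rw [L, htw, htu, htt, inv_inv] at E
    have E3 : w⁻¹ * w⁻¹ * (u * t * u⁻¹) * (w * w) = u⁻¹ * t * u := by
      calc w⁻¹ * w⁻¹ * (u * t * u⁻¹) * (w * w)
          = w⁻¹ * ((w⁻¹ * u) * t * (w⁻¹ * u)⁻¹) * w := by group
        _ = w⁻¹ * ((w * u⁻¹) * t * (w * u⁻¹)⁻¹) * w := by rw [E]
        _ = u⁻¹ * t * u := by group
    have F3 : w⁻¹ * w⁻¹ = t * (w * w) * t⁻¹ := by
      have h3 : t * (w * w) * t⁻¹ = (t * w * t⁻¹) * (t * w * t⁻¹) := by group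
      rw [h3, htw]
    calc w⁻¹ * w⁻¹ * (u * u) * (w⁻¹ * w⁻¹)
        = w⁻¹ * w⁻¹ * (u * u) * (t * (w * w) * t⁻¹) := by rw [← F3]
      _ = (w⁻¹ * w⁻¹ * ((u * u) * t) * (w * w)) * t⁻¹ := by group
      _ = (w⁻¹ * w⁻¹ * (u * t * u⁻¹) * (w * w)) * t⁻¹ := by rw [F1]
      _ = (u⁻¹ * t * u) * t⁻¹ := by rw [E3]
      _ = ((u * u)⁻¹ * t) * t⁻¹ := by rw [F2]
      _ = (u * u)⁻¹ := by group

theorem pattern {G : Type*} [Group G] (r s t u v : G)
    (hu1 : u ≠ 1) (hv1 : v ≠ 1) (huo : Odd (orderOf u)) (hvo : Odd (orderOf v))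
    (hrt : r * t = t * r) (hst : s * t = t * s)
    (htu : t * u * t⁻¹ = u⁻¹) (htv : t * v * t⁻¹ = v⁻¹)
    (hru : r * u * r⁻¹ = u⁻¹) (hrv : r * v * r⁻¹ = v)
    (hsu : s * u * s⁻¹ = u) (hsv : s * v * s⁻¹ = v⁻¹)
    (hyp : ∀ g : G, (r * (g * t * g⁻¹) = (g * t * g⁻¹) * r) ∨
      (s * (g * t * g⁻¹) = (g * t * g⁻¹) * s) ∨ (t * (g * t * g⁻¹) = (g * t * g⁻¹) * t)) : False := by
  have R1 := step r s t u v hu1 hv1 huo hvo hrt hst htu htv hru hrv hsu hsv (hyp (v * u⁻¹))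
  have htvv : t * (v * v) * t⁻¹ = (v * v)⁻¹ := by
    have h3 : t * (v * v) * t⁻¹ = (t * v * t⁻¹) * (t * v * t⁻¹) := by group
    rw [h3, htv]; group
  have hrvv : r * (v * v) * r⁻¹ = v * v := by
    have h3 : r * (v * v) * r⁻¹ = (r * v * r⁻¹) * (r * v * r⁻¹) := by group
    rw [h3, hrv]
  have hsvv : s * (v * v) * s⁻¹ = (v * v)⁻¹ := by
    have h3 : s * (v * v) * s⁻¹ = (s * v * s⁻¹) * (s * v * s⁻¹) := by group
    rw [h3, hsv]; group
  have R2 := step r s t u (v * v) hu1 (sq_ne_one v hvo hv1) huo (odd_sq v hvo) hrt hst htu htvv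
    hru hrvv hsu hsvv (hyp ((v * v) * u⁻¹))
  obtain ⟨V, hV⟩ : ∃ V, V = v⁻¹ * v⁻¹ := ⟨_, rfl⟩
  obtain ⟨U, hU⟩ : ∃ U, U = u * u := ⟨_, rfl⟩
  have hVV : (v * v)⁻¹ * (v * v)⁻¹ = V * V := by rw [hV]; group
  rw [hVV, ← hU] at R2
  rw [← hV, ← hU] at R1
  have R3 : V * U⁻¹ * V = U⁻¹ := by
    calc V * U⁻¹ * V = V * (V * U * V) * V := by rw [R1]
      _ = (V * V) * U * (V * V) := by group
      _ = U⁻¹ := R2
  have R4 : U = U⁻¹ := by
    calc U = V⁻¹ * (V * U * V) * V⁻¹ := by group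
      _ = V⁻¹ * (V * U⁻¹ * V) * V⁻¹ := by rw [R1, R3]
      _ = U⁻¹ := by group
  apply hu1
  apply eq_one_of_odd_of_pow_four u huo
  calc u ^ 4 = (u * u) * (u * u) := pow_four_eq u
    _ = U * U := by rw [hU]
    _ = U⁻¹ * U := by rw [← R4]
    _ = 1 := by group

/-- Let A be a Klein four-subgroup of a finite group G. If every G-conjugate of every involution of A commutes with some involution of A (its centralizer meets A nontrivially), then A meets the largest normal 2-subgroup O₂(G) nontrivially. -/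
theorem result {G : Type*} [Group G] [Finite G]
    (A : Subgroup G) (hA : IsKleinFour ↥A)
    (h : ∀ a ∈ A, a ≠ 1 → ∀ g : G, A ⊓ Subgroup.centralizer ({g * a * g⁻¹} : Set G) ≠ ⊥) :
    A ⊓ Cfsg.pCore 2 G ≠ ⊥ := by
  classical
  intro hbot
  haveI : IsKleinFour ↥A := hA
  have hsq : ∀ x ∈ A, x * x = 1 := fun x hx => by
    have h3 := IsKleinFour.mul_self (⟨x, hx⟩ : A)
    exact congrArg Subtype.val h3
  have hcomm : ∀ x ∈ A, ∀ y ∈ A, x * y = y * x := fun x hx y hy => by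
    have h3 := mul_comm_of_exponent_two (IsKleinFour.exponent_two (G := A)) (⟨x, hx⟩ : A) ⟨y, hy⟩
    exact congrArg Subtype.val h3
  have hthree : ∀ x ∈ A, ∀ y ∈ A, ∀ z ∈ A, x ≠ 1 → y ≠ 1 → x ≠ y → z ≠ 1 → z ≠ x → z ≠ y →
      z = x * y := by
    intro x hx y hy z hz hx1 hy1 hxy hz1 hzx hzy
    have h3 := IsKleinFour.eq_mul_of_ne_all (G := A) (x := ⟨x, hx⟩) (y := ⟨y, hy⟩) (z := ⟨z, hz⟩)
      (fun h => hx1 (congrArg Subtype.val h)) (fun h => hy1 (congrArg Subtype.val h))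
      (fun h => hxy (congrArg Subtype.val h)) (fun h => hz1 (congrArg Subtype.val h))
      (fun h => hzx (congrArg Subtype.val h)) (fun h => hzy (congrArg Subtype.val h))
    exact congrArg Subtype.val h3
  have hnot : ∀ x ∈ A, x ≠ 1 → ∀ N : Subgroup G, N.Normal → IsPGroup 2 N → x ∉ N := by
    intro x hx hx1 N hN hN2 hxN
    have h1 : x ∈ A ⊓ Cfsg.pCore 2 G :=
      Subgroup.mem_inf.2 ⟨hx, Cfsg.Agent.Lib.Helper7.le_pCore hN hN2 hxN⟩
    rw [hbot] at h1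
    exact hx1 (Subgroup.mem_bot.1 h1)
  have hord : ∀ x ∈ A, x ≠ 1 → orderOf x = 2 := fun x hx hx1 =>
    orderOf_eq_prime (by rw [pow_two]; exact hsq x hx) hx1
  have hinvA : ∀ x ∈ A, x⁻¹ = x := fun x hx => inv_eq_of_mul_eq_one_right (hsq x hx)
  -- key data
  have hdata : ∀ i ∈ A, i ≠ 1 → ∃ u j : G, u ≠ 1 ∧ Odd (orderOf u) ∧ j ∈ A ∧ j ≠ 1 ∧ j ≠ i ∧
      j * u * j⁻¹ = u ∧ (∀ k ∈ A, k ≠ 1 → k ≠ j → k * u * k⁻¹ = u⁻¹) := by
    intro i hi hi1
    obtain ⟨u, hu1, huo, hiu⟩ := Cfsg.Agent.H1.invol_inverts_odd i (hord i hi hi1) (hnot i hi hi1)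
    obtain ⟨m, hm⟩ := huo
    have hpow : ∀ n : ℕ, i * u ^ n = (u ^ n)⁻¹ * i := by
      intro n
      have h1 : i * u ^ n * i⁻¹ = (u ^ n)⁻¹ := by
        rw [← conj_pow, hiu, inv_pow]
      calc i * u ^ n = (i * u ^ n * i⁻¹) * i := by group
        _ = (u ^ n)⁻¹ * i := by rw [h1]
    have hconj : (u ^ (m + 1))⁻¹ * i * ((u ^ (m + 1))⁻¹)⁻¹ = i * u := by
      rw [inv_inv, ← hpow (m + 1), mul_assoc, ← pow_add]
      have h5 : m + 1 + (m + 1) = orderOf u + 1 := by omega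
      rw [h5, pow_succ, pow_orderOf_eq_one, one_mul]
    have h6 := h i hi hi1 ((u ^ (m + 1))⁻¹)
    rw [hconj] at h6
    obtain ⟨⟨j, hj⟩, hj1⟩ := Subgroup.ne_bot_iff_exists_ne_one.1 h6
    have hjA : j ∈ A := (Subgroup.mem_inf.1 hj).1
    have hjc : (i * u) * j = j * (i * u) :=
      (Subgroup.mem_centralizer_iff.1 (Subgroup.mem_inf.1 hj).2) (i * u) (Set.mem_singleton _)
    have hj1' : j ≠ 1 := fun h => hj1 (Subtype.ext h)
    have hij : i * j = j * i := hcomm i hi j hjA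
    have hju : j * u = u * j := by
      have h7 : i * (u * j) = i * (j * u) := by
        calc i * (u * j) = (i * u) * j := by group
          _ = j * (i * u) := hjc
          _ = (j * i) * u := by group
          _ = (i * j) * u := by rw [hij]
          _ = i * (j * u) := by group
      exact (mul_left_cancel h7).symm
    have hjuc : j * u * j⁻¹ = u := by rw [hju]; group
    have huodd : Odd (orderOf u) := ⟨m, hm⟩
    have hji : j ≠ i := by
      intro hji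
      rw [hji] at hjuc
      rw [hjuc] at hiu
      apply hu1
      apply eq_one_of_odd_of_pow_four u huodd
      calc u ^ 4 = (u * u) * (u * u) := pow_four_eq u
        _ = (u * u⁻¹) * (u * u⁻¹) := by rw [← hiu]
        _ = 1 := by group
    refine ⟨u, j, hu1, huodd, hjA, hj1', hji, hjuc, ?_⟩
    intro k hk hk1 hkj
    by_cases hki : k = i
    · rw [hki]; exact hiu
    · have h8 := hthree i hi j hjA k hk hi1 hj1' (Ne.symm hji) hk1 hki hkj
      rw [h8]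
      have h9 : (i * j) * u * (i * j)⁻¹ = i * (j * u * j⁻¹) * i⁻¹ := by group
      rw [h9, hjuc, hiu]
  haveI : Nontrivial ↥A := by
    apply (Finite.one_lt_card_iff_nontrivial).1
    rw [IsKleinFour.card_four]; norm_num
  obtain ⟨⟨a, ha⟩, ha1⟩ := exists_ne (1 : A)
  have ha1' : a ≠ 1 := fun h => ha1 (Subtype.ext h)
  obtain ⟨u, b, hu1, huo, hb, hb1, hba, hbu, hinv_u⟩ := hdata a ha ha1'
  obtain ⟨v, r, hv1, hvo, hr, hr1, hrb, hrv, hinv_v⟩ := hdata b hb hb1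
  have ht : r * b ∈ A := A.mul_mem hr hb
  have ht1 : r * b ≠ 1 := by
    intro h1
    apply hrb
    calc r = (r * b) * b⁻¹ := by group
      _ = b⁻¹ := by rw [h1, one_mul]
      _ = b := hinvA b hb
  have htr : r * b ≠ r := by
    intro h1
    apply hb1
    calc b = r⁻¹ * (r * b) := by group
      _ = r⁻¹ * r := by rw [h1]
      _ = 1 := by group
  have htb : r * b ≠ b := by
    intro h1
    apply hr1
    calc r = (r * b) * b⁻¹ := by group
      _ = b * b⁻¹ := by rw [h1]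
      _ = 1 := by group
  refine pattern r b (r * b) u v hu1 hv1 huo hvo (hcomm r hr _ ht) (hcomm b hb _ ht)
    (hinv_u _ ht ht1 htb) (hinv_v _ ht ht1 htr) (hinv_u r hr hr1 hrb) hrv hbu
    (hinv_v b hb hb1 (Ne.symm hrb)) ?_
  intro g
  have h6 := h (r * b) ht ht1 g
  obtain ⟨⟨k, hk⟩, hk1⟩ := Subgroup.ne_bot_iff_exists_ne_one.1 h6
  have hkA : k ∈ A := (Subgroup.mem_inf.1 hk).1
  have hkc : (g * (r * b) * g⁻¹) * k = k * (g * (r * b) * g⁻¹) :=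
    (Subgroup.mem_centralizer_iff.1 (Subgroup.mem_inf.1 hk).2) _ (Set.mem_singleton _)
  have hk1' : k ≠ 1 := fun h => hk1 (Subtype.ext h)
  by_cases hkr : k = r
  · left
    have h9 := hkc.symm
    rw [hkr] at h9
    exact h9
  · by_cases hkb : k = b
    · right; left
      have h9 := hkc.symm
      rw [hkb] at h9
      exact h9
    · right; right
      have h8 := hthree r hr b hb k hkA hr1 hb1 hrb hk1' hkr hkb
      have h9 := hkc.symm
      rw [h8] at h9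
      exact h9

end Cfsg.Agent.S3195
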