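import Cfsg.Statements.S3011
import Mathlib
import Cfsg.Agent.S3195
import Cfsg.Agent.Lib.Lead.Conj


set_option autoImplicit false
open Cfsg

namespace Cfsg.Agent.S3011

theorem eq_one_of_odd_of_sq {G : Type*} [Group G] (x : G) (ho : Odd (orderOf x))
    (h : x * x = 1) : x = 1 :=
  S3195.eq_one_of_odd_of_pow_four x ho (by rw [S3195.pow_four_eq, h, one_mul])

theorem pattern2 {G : Type*} [Group G] (r s t h k : G)
    (hh1 : h ≠ 1) (hk1 : k ≠ 1) (hho : Odd (orderOf h)) (hko : Odd (orderOf k))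
    (hth : t * h * t⁻¹ = h⁻¹) (htk : t * k * t⁻¹ = k⁻¹)
    (hrh : r * h * r⁻¹ = h⁻¹) (hrk : r * k * r⁻¹ = k)
    (hsh : s * h * s⁻¹ = h) (hsk : s * k * s⁻¹ = k⁻¹)
    (hS : ∀ y x₀ : G, (x₀ = r ∨ x₀ = s ∨ x₀ = t) → Odd (orderOf y) → x₀ * y * x₀⁻¹ = y⁻¹ →
      (r * y = y * r) ∨ (s * y = y * s) ∨ (t * y = y * t)) : False := by
  obtain ⟨m, hm⟩ := hho
  obtain ⟨H, hH⟩ : ∃ H, H = h ^ (m + 1) := ⟨_, rfl⟩
  have hHH : H * H = h := by
    rw [hH, ← pow_add]
    have h5 : m + 1 + (m + 1) = orderOf h + 1 := by omega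
    rw [h5, pow_succ, pow_orderOf_eq_one, one_mul]
  have hrH : r * H * r⁻¹ = H⁻¹ := by rw [hH, ← conj_pow, hrh, inv_pow]
  have hsH : s * H * s⁻¹ = H := by rw [hH, ← conj_pow, hsh]
  have htH : t * H * t⁻¹ = H⁻¹ := by rw [hH, ← conj_pow, hth, inv_pow]
  have hho' : Odd (orderOf h) := ⟨m, hm⟩
  -- step 1: h and k commute
  have hcomm : h * k = k * h := by
    have hyo : Odd (orderOf (H * k * H⁻¹)) := by
      rw [Lib.Lead.Conj.orderOf_conj]; exact hko
    have hsy : s * (H * k * H⁻¹) * s⁻¹ = (H * k * H⁻¹)⁻¹ := by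
      have h3 : s * (H * k * H⁻¹) * s⁻¹ = (s * H * s⁻¹) * (s * k * s⁻¹) * (s * H * s⁻¹)⁻¹ := by
        group
      rw [h3, hsH, hsk]; group
    rcases hS (H * k * H⁻¹) s (Or.inr (Or.inl rfl)) hyo hsy with h1 | h1 | h1
    · have E : r * (H * k * H⁻¹) * r⁻¹ = H * k * H⁻¹ := by rw [h1]; group
      have h3 : r * (H * k * H⁻¹) * r⁻¹ = (r * H * r⁻¹) * (r * k * r⁻¹) * (r * H * r⁻¹)⁻¹ := by
        group
      rw [h3, hrH, hrk, inv_inv] at E
      have h4 : h * k * h⁻¹ = k := by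
        calc h * k * h⁻¹ = H * (H * k * H⁻¹) * H⁻¹ := by rw [← hHH]; group
          _ = H * (H⁻¹ * k * H) * H⁻¹ := by rw [E]
          _ = k := by group
      calc h * k = (h * k * h⁻¹) * h := by group
        _ = k * h := by rw [h4]
    · exfalso
      have E : s * (H * k * H⁻¹) * s⁻¹ = H * k * H⁻¹ := by rw [h1]; group
      rw [hsy] at E
      have h4 : k * k = 1 := by
        calc k * k = H⁻¹ * ((H * k * H⁻¹) * (H * k * H⁻¹)) * H := by group
          _ = H⁻¹ * ((H * k * H⁻¹)⁻¹ * (H * k * H⁻¹)) * H := by rw [E]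
          _ = 1 := by group
      exact hk1 (eq_one_of_odd_of_sq k hko h4)
    · exfalso
      have E : t * (H * k * H⁻¹) * t⁻¹ = H * k * H⁻¹ := by rw [h1]; group
      have h3 : t * (H * k * H⁻¹) * t⁻¹ = (t * H * t⁻¹) * (t * k * t⁻¹) * (t * H * t⁻¹)⁻¹ := by
        group
      rw [h3, htH, htk, inv_inv] at E
      have h4 : h * k * h⁻¹ = k⁻¹ := by
        calc h * k * h⁻¹ = H * (H * k * H⁻¹) * H⁻¹ := by rw [← hHH]; group
          _ = H * (H⁻¹ * k⁻¹ * H) * H⁻¹ := by rw [E]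
          _ = k⁻¹ := by group
      exact hk1 (eq_one_of_odd_of_sq k hko (S3195.odd_inverts h k hho' h4))
  -- step 2
  have hyo : Odd (orderOf (h * k)) := by
    have h3 : (h * k) ^ (orderOf h * orderOf k) = 1 := by
      rw [(show Commute h k from hcomm).mul_pow, pow_mul, pow_orderOf_eq_one, one_pow,
        mul_comm (orderOf h), pow_mul, pow_orderOf_eq_one, one_pow, one_mul]
    exact (hho'.mul hko).of_dvd_nat (orderOf_dvd_of_pow_eq_one h3)
  have hty : t * (h * k) * t⁻¹ = (h * k)⁻¹ := by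
    have h3 : t * (h * k) * t⁻¹ = (t * h * t⁻¹) * (t * k * t⁻¹) := by group
    rw [h3, hth, htk, hcomm]; group
  rcases hS (h * k) t (Or.inr (Or.inr rfl)) hyo hty with h1 | h1 | h1
  · have E : r * (h * k) * r⁻¹ = h * k := by rw [h1]; group
    have h3 : r * (h * k) * r⁻¹ = (r * h * r⁻¹) * (r * k * r⁻¹) := by group
    rw [h3, hrh, hrk] at E
    have h4 : h⁻¹ = h := mul_right_cancel E
    have h5 : h * h = 1 := by
      calc h * h = h⁻¹ * h := by rw [h4]
        _ = 1 := inv_mul_cancel h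
    exact hh1 (eq_one_of_odd_of_sq h hho' h5)
  · have E : s * (h * k) * s⁻¹ = h * k := by rw [h1]; group
    have h3 : s * (h * k) * s⁻¹ = (s * h * s⁻¹) * (s * k * s⁻¹) := by group
    rw [h3, hsh, hsk] at E
    have h4 : k⁻¹ = k := mul_left_cancel E
    have h5 : k * k = 1 := by
      calc k * k = k⁻¹ * k := by rw [h4]
        _ = 1 := inv_mul_cancel k
    exact hk1 (eq_one_of_odd_of_sq k hko h5)
  · have E : t * (h * k) * t⁻¹ = h * k := by rw [h1]; group
    rw [hty] at E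
    have h5 : (h * k) * (h * k) = 1 := by
      calc (h * k) * (h * k) = (h * k)⁻¹ * (h * k) := by rw [E]
        _ = 1 := inv_mul_cancel _
    have h6 : h * k = 1 := eq_one_of_odd_of_sq (h * k) hyo h5
    have h7 : k = h⁻¹ := (inv_eq_of_mul_eq_one_right h6).symm
    rw [h7] at hrk
    have h8 : r * h⁻¹ * r⁻¹ = h := by
      have h9 : r * h⁻¹ * r⁻¹ = (r * h * r⁻¹)⁻¹ := by group
      rw [h9, hrh, inv_inv]
    rw [h8] at hrk
    have h10 : h * h = 1 := by
      calc h * h = h * h⁻¹ := by rw [← hrk]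
        _ = 1 := mul_inv_cancel h
    exact hh1 (eq_one_of_odd_of_sq h hho' h10)

/-- Let G be a finite group and V a nontrivial elementary abelian 2-subgroup of G of order at most 4 such that, whenever an element of V inverts an element h of G of odd order, some nontrivial element of V commutes with h. Then V meets O₂(G) nontrivially. (The case of order at most 4 has a short argument from the Baer–Suzuki theorem.) -/
theorem result {G : Type*} [Group G] [Finite G] (V : Subgroup G) (hV : Cfsg.IsElementaryAbelian 2 V) (hV1 : V ≠ ⊥) (hS : Cfsg.IsSidkiPair V) (h4 : Nat.card V ≤ 4) : V ⊓ Cfsg.pCore 2 G ≠ ⊥ := by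
  classical
  intro hbot
  obtain ⟨hVc, hV2⟩ := hV
  have hsq : ∀ x ∈ V, x * x = 1 := fun x hx => by rw [← pow_two]; exact hV2 x hx
  have hinvV : ∀ x ∈ V, x⁻¹ = x := fun x hx => inv_eq_of_mul_eq_one_right (hsq x hx)
  have hnot : ∀ x ∈ V, x ≠ 1 → ∀ N : Subgroup G, N.Normal → IsPGroup 2 N → x ∉ N := by
    intro x hx hx1 N hN hN2 hxN
    have h1 : x ∈ V ⊓ Cfsg.pCore 2 G :=
      Subgroup.mem_inf.2 ⟨hx, Cfsg.Agent.Lib.Helper7.le_pCore hN hN2 hxN⟩
    rw [hbot] at h1
    exact hx1 (Subgroup.mem_bot.1 h1)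
  have hord : ∀ x ∈ V, x ≠ 1 → orderOf x = 2 := fun x hx hx1 =>
    orderOf_eq_prime (by rw [pow_two]; exact hsq x hx) hx1
  obtain ⟨v, hv, hv1⟩ : ∃ v ∈ V, v ≠ 1 := by
    rcases Subgroup.bot_or_exists_ne_one V with h0 | h0
    · exact absurd h0 hV1
    · exact h0
  obtain ⟨h, hh1, hho, hvh⟩ := H1.invol_inverts_odd v (hord v hv hv1) (hnot v hv hv1)
  obtain ⟨w, hw, hw1, hwh⟩ := hS h v hv hho hvh
  have hwhc : w * h * w⁻¹ = h := by rw [hwh]; group
  have hwv : w ≠ v := by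
    intro e
    rw [e] at hwhc
    rw [hwhc] at hvh
    have h5 : h * h = 1 := by
      calc h * h = h * h⁻¹ := by rw [← hvh]
        _ = 1 := mul_inv_cancel h
    exact hh1 (eq_one_of_odd_of_sq h hho h5)
  have hd3 : v * w ≠ 1 := by
    intro e
    apply hwv
    calc w = v⁻¹ * (v * w) := by group
      _ = v⁻¹ := by rw [e, mul_one]
      _ = v := hinvV v hv
  have hd5 : v * w ≠ v := by
    intro e
    apply hw1
    calc w = v⁻¹ * (v * w) := by group
      _ = v⁻¹ * v := by rw [e]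
      _ = 1 := inv_mul_cancel v
  have hd6 : v * w ≠ w := by
    intro e
    apply hv1
    calc v = (v * w) * w⁻¹ := by group
      _ = w * w⁻¹ := by rw [e]
      _ = 1 := mul_inv_cancel w
  have hmem : ∀ x ∈ V, x = 1 ∨ x = v ∨ x = w ∨ x = v * w := by
    have hc : ({1, v, w, v * w} : Finset G).card = 4 := by
      rw [Finset.card_insert_of_notMem (by simp [hv1, hw1, hd3, Ne.symm hv1, Ne.symm hw1, Ne.symm hd3]),
        Finset.card_insert_of_notMem (by simp [hwv, Ne.symm hwv, hd5, Ne.symm hd5]),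
        Finset.card_insert_of_notMem (by simp [hd6, Ne.symm hd6]), Finset.card_singleton]
    have hF : (({1, v, w, v * w} : Finset G) : Set G) = (V : Set G) := by
      apply Set.eq_of_subset_of_ncard_le
      · intro x hx
        simp only [Finset.coe_insert, Finset.coe_singleton, Set.mem_insert_iff,
          Set.mem_singleton_iff] at hx
        rcases hx with rfl | rfl | rfl | rfl
        · exact V.one_mem
        · exact hv
        · exact hw
        · exact V.mul_mem hv hw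
      · rw [Set.ncard_coe_finset, hc, ← Nat.card_coe_set_eq]
        exact h4
      · exact Set.toFinite _
    intro x hx
    have h5 : x ∈ (({1, v, w, v * w} : Finset G) : Set G) := by rw [hF]; exact hx
    simpa using h5
  obtain ⟨k, hk1, hko, hwk⟩ := H1.invol_inverts_odd w (hord w hw hw1) (hnot w hw hw1)
  obtain ⟨y, hy, hy1, hyk⟩ := hS k w hw hko hwk
  have hykc : y * k * y⁻¹ = k := by rw [hyk]; group
  have hzh : (v * w) * h * (v * w)⁻¹ = h⁻¹ := by
    have h5 : (v * w) * h * (v * w)⁻¹ = v * (w * h * w⁻¹) * v⁻¹ := by group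
    rw [h5, hwhc, hvh]
  have hSid : ∀ y' x₀ : G, x₀ ∈ V → Odd (orderOf y') → x₀ * y' * x₀⁻¹ = y'⁻¹ →
      (v * y' = y' * v) ∨ (w * y' = y' * w) ∨ ((v * w) * y' = y' * (v * w)) := by
    intro y' x₀ hx₀ ho hinv
    obtain ⟨u, hu, hu1, huc⟩ := hS y' x₀ hx₀ ho hinv
    rcases hmem u hu with e | e | e | e
    · exact absurd e hu1
    · left; rw [← e]; exact huc
    · right; left; rw [← e]; exact huc
    · right; right; rw [← e]; exact huc
  rcases hmem y hy with e | e | e | e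
  · exact absurd e hy1
  · rw [e] at hykc
    have hzk : (v * w) * k * (v * w)⁻¹ = k⁻¹ := by
      have h5 : (v * w) * k * (v * w)⁻¹ = v * (w * k * w⁻¹) * v⁻¹ := by group
      rw [h5, hwk]
      have h6 : v * k⁻¹ * v⁻¹ = (v * k * v⁻¹)⁻¹ := by group
      rw [h6, hykc]
    refine pattern2 v w (v * w) h k hh1 hk1 hho hko hzh hzk hvh hykc hwhc hwk ?_
    intro y' x₀ hx₀ ho hinv
    refine hSid y' x₀ ?_ ho hinv
    rcases hx₀ with rfl | rfl | rfl
    · exact hv
    · exact hw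
    · exact V.mul_mem hv hw
  · rw [e] at hykc
    rw [hykc] at hwk
    have h5 : k * k = 1 := by
      calc k * k = k * k⁻¹ := by rw [← hwk]
        _ = 1 := mul_inv_cancel k
    exact hk1 (eq_one_of_odd_of_sq k hko h5)
  · rw [e] at hykc
    have h12 : k = w⁻¹ * k⁻¹ * w := by
      calc k = w⁻¹ * (w * k * w⁻¹) * w := by group
        _ = w⁻¹ * k⁻¹ * w := by rw [hwk]
    have h10 : w⁻¹ * k * w = k⁻¹ := by
      have h11 : w⁻¹ * k * w = (w⁻¹ * k⁻¹ * w)⁻¹ := by group
      rw [h11, ← h12]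
    have hvk : v * k * v⁻¹ = k⁻¹ := by
      have h5 : v * k * v⁻¹ = (v * w) * (w⁻¹ * k * w) * (v * w)⁻¹ := by group
      rw [h5, h10]
      have h6 : (v * w) * k⁻¹ * (v * w)⁻¹ = ((v * w) * k * (v * w)⁻¹)⁻¹ := by group
      rw [h6, hykc]
    refine pattern2 (v * w) w v h k hh1 hk1 hho hko hvh hvk hzh hykc hwhc hwk ?_
    intro y' x₀ hx₀ ho hinv
    have hx₀V : x₀ ∈ V := by
      rcases hx₀ with rfl | rfl | rfl
      · exact V.mul_mem hv hw
      · exact hw
      · exact hv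
    rcases hSid y' x₀ hx₀V ho hinv with a | a | a
    · exact Or.inr (Or.inr a)
    · exact Or.inr (Or.inl a)
    · exact Or.inl a

end Cfsg.Agent.S3011
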