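import Cfsg.Statements.S3027
import Mathlib
import Cfsg.Agent.Lib.Lead.Subnormal2
import Cfsg.Agent.S0567

set_option autoImplicit false
open Cfsg

namespace Cfsg.Agent.S3027

open scoped Pointwise
open Cfsg.Agent.Lib.Lead



/-- Let G be a finite group and D a normal subgroup of G such that G/D is perfect (that is, G = G′D). Then among the subnormal subgroups B of G with BD = G there is a least one, and it is normal in G. -/
theorem result {G : Type*} [Group G] [Finite G] (D : Subgroup G) [D.Normal] (hperf : ⁅(⊤ : Subgroup G), (⊤ : Subgroup G)⁆ ⊔ D = ⊤) :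
    ∃ B : Subgroup G, B.Normal ∧ B ⊔ D = ⊤ ∧ ∀ B' : Subgroup G, B'.IsSubnormal → B' ⊔ D = ⊤ → B ≤ B' := by
  classical
  -- supplements via the quotient
  have hsup_iff : ∀ X : Subgroup G, X ⊔ D = ⊤ ↔ X.map (QuotientGroup.mk' D) = ⊤ := by
    intro X
    constructor
    · intro h
      have h1 := congrArg (Subgroup.map (QuotientGroup.mk' D)) h
      rw [Subgroup.map_sup, Subgroup.map_top_of_surjective _ (QuotientGroup.mk'_surjective D)] at h1
      have h2 : D.map (QuotientGroup.mk' D) = ⊥ := by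
        rw [Subgroup.map_eq_bot_iff, QuotientGroup.ker_mk']
      rwa [h2, sup_bot_eq] at h1
    · intro h
      have h1 := congrArg (Subgroup.comap (QuotientGroup.mk' D)) h
      rwa [Subgroup.comap_map_eq, QuotientGroup.ker_mk', Subgroup.comap_top] at h1
  have hperf' : ⁅(⊤ : Subgroup (G ⧸ D)), (⊤ : Subgroup (G ⧸ D))⁆ = ⊤ := by
    have h1 := (hsup_iff _).mp hperf
    rwa [Subgroup.map_commutator,
      Subgroup.map_top_of_surjective _ (QuotientGroup.mk'_surjective D)] at h1
  have hcomm_sup : ∀ X B : Subgroup G, X ⊔ D = ⊤ → B ⊔ D = ⊤ → ⁅X, B⁆ ⊔ D = ⊤ := by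
    intro X B hX hB
    rw [hsup_iff] at hX hB ⊢
    rw [Subgroup.map_commutator, hX, hB, hperf']
  have hcomm_sn : ∀ X B : Subgroup G, X.IsSubnormal → B.IsSubnormal → ⁅X, B⁆.IsSubnormal := by
    intro X B hX hB
    exact Subgroup.IsSubnormal.step _ (X ⊔ B) (Subgroup.commutator_le_sup X B)
      (Subnormal.sup_isSubnormal hX hB) inferInstance
  set C : Set (Subgroup G) := {B | B.IsSubnormal ∧ B ⊔ D = ⊤} with hC
  have hCne : C.Nonempty := ⟨⊤, Subgroup.IsSubnormal.top, top_sup_eq _⟩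
  obtain ⟨B, hBC, hBmin⟩ := Set.exists_min_image C (fun Q => Nat.card ↥Q) C.toFinite hCne
  obtain ⟨hBsn, hBD⟩ := hBC
  obtain ⟨m, hm⟩ := (Cfsg.Agent.S0567.result B).mp hBsn
  have hmono : ∀ (X Y : Subgroup G), X ≤ Y → ∀ k : ℕ,
      (fun K : Subgroup G => ⁅K, B⁆)^[k] X ≤ (fun K : Subgroup G => ⁅K, B⁆)^[k] Y := by
    intro X Y hXY k
    induction k with
    | zero => exact hXY
    | succ k ih =>
      rw [Function.iterate_succ_apply', Function.iterate_succ_apply']
      exact Subgroup.commutator_mono ih le_rfl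
  have hiter : ∀ X : Subgroup G, X ∈ C → ∀ k : ℕ, (fun K : Subgroup G => ⁅K, B⁆)^[k] X ∈ C := by
    intro X hX k
    induction k with
    | zero => exact hX
    | succ k ih =>
      rw [Function.iterate_succ_apply']
      exact ⟨hcomm_sn _ _ ih.1 hBsn, hcomm_sup _ _ ih.2 hBD⟩
  have hle : ∀ X : Subgroup G, X.IsSubnormal → X ⊔ D = ⊤ → B ≤ X := by
    intro X hX
    induction hX with
    | top => intro _; exact le_top
    | step X X₁ hXX₁ hX₁ hN ih =>
      intro hXD
      have hX₁D : X₁ ⊔ D = ⊤ := by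
        rw [eq_top_iff, ← hXD]; exact sup_le_sup_right hXX₁ D
      have hBX₁ : B ≤ X₁ := ih hX₁D
      have hXsn : X.IsSubnormal := Subgroup.IsSubnormal.step X X₁ hXX₁ hX₁ hN
      have hBN : B ≤ Subgroup.normalizer (X : Set G) :=
        hBX₁.trans ((Subgroup.normal_subgroupOf_iff_le_normalizer hXX₁).mp hN)
      have hXB : ⁅X, B⁆ ≤ X := Subgroup.le_normalizer_iff_commutator_le_left.mp hBN
      have hiterle : ∀ k : ℕ, (fun K : Subgroup G => ⁅K, B⁆)^[k] X ≤ X := by
        intro k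
        induction k with
        | zero => exact le_rfl
        | succ k ihk =>
          rw [Function.iterate_succ_apply']
          exact (Subgroup.commutator_mono ihk le_rfl).trans hXB
      have h1 : (fun K : Subgroup G => ⁅K, B⁆)^[m] X ≤ B := (hmono X ⊤ le_top m).trans hm
      have h2 := hBmin _ (hiter X ⟨hXsn, hXD⟩ m)
      have h3 : (fun K : Subgroup G => ⁅K, B⁆)^[m] X = B := Subgroup.eq_of_le_of_card_ge h1 h2
      rw [← h3]; exact hiterle m
  refine ⟨B, ?_, hBD, hle⟩
  rw [← Subgroup.normalizer_eq_top_iff, eq_top_iff]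
  intro g _
  have h1 : (MulAut.conj g⁻¹ • B) ⊔ D = ⊤ := by
    have h2 : MulAut.conj g⁻¹ • (B ⊔ D) = ⊤ := by
      rw [hBD]
      exact Subgroup.Normal.conj_smul_eq_self g⁻¹ ⊤
    have h3 : MulAut.conj g⁻¹ • (B ⊔ D) = MulAut.conj g⁻¹ • B ⊔ MulAut.conj g⁻¹ • D :=
      Subgroup.map_sup B D _
    rw [h3, Subgroup.Normal.conj_smul_eq_self g⁻¹ D] at h2
    exact h2
  have h4 : B ≤ MulAut.conj g⁻¹ • B := hle _ (hBsn.smul _) h1
  apply Subnormal.mem_normalizer_of_conj_smul_le
  intro z hz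
  have hz' := (Subnormal.mem_conj_smul _ _ _).mp hz
  have h5 := (Subnormal.mem_conj_smul _ _ _).mp (h4 hz')
  simp only [inv_inv] at h5
  have e : g * (g⁻¹ * z * g) * g⁻¹ = z := by group
  rwa [e] at h5

end Cfsg.Agent.S3027
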