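import Cfsg.Statements.S3033
import Mathlib
import Cfsg.Agent.Lib.Lead.SSMin
import Cfsg.Agent.Lib.Lead.SSSolv
import Cfsg.Agent.Lib.Lead.Huppert
import Cfsg.Agent.S0528

set_option autoImplicit false
set_option linter.style.haveILetI false
set_option linter.unusedVariables false
open Cfsg

namespace Cfsg.Agent.S3033

open Cfsg.Agent.Lead.SSHyp Cfsg.Agent.Lead.SSSolv Cfsg.Agent.Lead.SSMin

theorem main.{u} : ∀ n : ℕ, ∀ (G : Type u) [Group G] [Finite G], Nat.card G = n → Hyp G →
    Cfsg.IsSupersolvable G := by
  intro n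
  induction n using Nat.strong_induction_on with
  | _ n ih =>
    intro G _ _ hn hH
    by_cases htriv : Nat.card G = 1
    · have : Subsingleton G := (Nat.card_eq_one_iff_unique.mp htriv).1
      exact Cfsg.Agent.Lead.Huppert.trivial_supersolvable this
    have hsub : ∀ H : Subgroup G, H ≠ ⊤ → Cfsg.IsSupersolvable H := by
      intro H hHt
      apply ih (Nat.card H) _ H rfl (hH.subgroup H)
      rw [← hn]
      by_contra hcon
      push Not at hcon
      exact hHt (Subgroup.eq_top_of_le_card H hcon)
    have hquot : ∀ K : Subgroup G, [K.Normal] → K ≠ ⊥ → Cfsg.IsSupersolvable (G ⧸ K) := by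
      intro K _ hKb
      apply ih (Nat.card (G ⧸ K)) _ (G ⧸ K) rfl (hH.quotient K)
      rw [← hn, ← Subgroup.index_eq_card, ← Subgroup.card_mul_index K]
      have h1 : 1 < Nat.card K := by rw [Subgroup.one_lt_card_iff_ne_bot]; exact hKb
      have h2 : 0 < K.index := Nat.pos_of_ne_zero Subgroup.index_ne_zero_of_finite
      nlinarith
    haveI hsolv : Group.IsSolvable G := isSolvable_of_proper_supersolvable hsub
    have htop : (⊤ : Subgroup G) ≠ ⊥ := by
      intro h
      apply htriv
      rw [← Subgroup.card_top (G := G), h, Subgroup.card_bot]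
    obtain ⟨N, hNn, -, hNb, hmin⟩ :=
      Cfsg.Agent.Lead.Huppert.exists_min_normal_le (⊤ : Subgroup G) htop
    haveI := hNn
    have hab := min_normal_abelian N hNb hmin
    obtain ⟨q, hq, hexp⟩ := min_normal_exponent N hNb hab hmin
    haveI hcyc : IsCyclic N := min_normal_cyclic hH N hNb hab hq hexp hmin
      (fun K _ hNK => hquot K (fun h => hNb (le_bot_iff.mp (h ▸ hNK))))
    exact Cfsg.Agent.S0528.result N (hquot N hNb)

/-- Let G be a finite group such that for every pair of distinct primes p and q, every p-element x and every q-element g of G, the order of the subgroup generated by x and g x g⁻¹ is not divisible by q². Then G is supersolvable. -/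
theorem result {G : Type*} [Group G] [Finite G]
    (h : ∀ (p q : ℕ), p.Prime → q.Prime → p ≠ q → ∀ (x g : G), (∃ a : ℕ, orderOf x = p ^ a) → (∃ b : ℕ, orderOf g = q ^ b) →
      ¬ q ^ 2 ∣ Nat.card ↥(Subgroup.zpowers x ⊔ Subgroup.zpowers (g * x * g⁻¹))) :
    Cfsg.IsSupersolvable G := by
  exact main _ G rfl h

end Cfsg.Agent.S3033
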