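import Cfsg.Statements.S3048
import Cfsg.Agent.H2.SidkiCtx
import Cfsg.Agent.H2.SidkiT
import Cfsg.Agent.Lib.Helper8.SidkiP2
import Cfsg.Agent.Lib.Helper6.SidkiP3
import Cfsg.Agent.Lib.helper3.SidkiP4
import Cfsg.Agent.H1.SidkiP5

set_option autoImplicit false
universe u
open Cfsg

namespace Cfsg.Agent.S3048

/-- Minimal counterexample reduction for the Sidki pair problem. Let G be a finite group and V a nontrivial elementary abelian 2-subgroup satisfying the Sidki pair condition with V ∩ O₂(G) = 1. Suppose that for every finite group H of smaller order, every nontrivial elementary abelian 2-subgroup W of H satisfying the Sidki pair condition meets O₂(H) nontrivially, and that the same holds in G for every such subgroup W of order smaller than that of V. Then the generalized Fitting subgroup F*(G) is a non-abelian simple group and G = V F*(G). -/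
theorem result {G : Type u} [Group G] [Finite G] (V : Subgroup G) (hV : Cfsg.IsElementaryAbelian 2 V) (hV1 : V ≠ ⊥) (hS : Cfsg.IsSidkiPair V) (hVO : V ⊓ Cfsg.pCore 2 G = ⊥) (hminG : ∀ (H : Type u) [Group H] [Finite H] (W : Subgroup H), Nat.card H < Nat.card G → Cfsg.IsElementaryAbelian 2 W → W ≠ ⊥ → Cfsg.IsSidkiPair W → W ⊓ Cfsg.pCore 2 H ≠ ⊥) (hminV : ∀ W : Subgroup G, Nat.card W < Nat.card V → Cfsg.IsElementaryAbelian 2 W → W ≠ ⊥ → Cfsg.IsSidkiPair W → W ⊓ Cfsg.pCore 2 G ≠ ⊥) : IsSimpleGroup ↥(Cfsg.generalizedFittingSubgroup G) ∧ ¬ IsMulCommutative ↥(Cfsg.generalizedFittingSubgroup G) ∧ V ⊔ Cfsg.generalizedFittingSubgroup G = ⊤ := by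
  classical
  have c : Cfsg.Agent.H2.Sidki.Ctx V :=
    Cfsg.Agent.H2.Sidki.ctx_of_hyps V hV hV1 hS hVO hminG hminV
  have hab := c.no_abelian_normal
  have htop : (⊤ : Subgroup G) ≠ ⊥ := fun h => c.ne (le_bot_iff.1 (h ▸ le_top))
  obtain ⟨N₁, hN, hN1, hmin⟩ := Cfsg.Agent.H2.Sidki.exists_minimal_normal (G := G) htop
  obtain ⟨hC, hNV⟩ := c.minimal_normal_centralizer hab N₁ hN hN1 hmin
  have hsimple := c.minimal_normal_simple hab N₁ hN hN1 hmin hC hNV
  have hna : ¬ ∀ a ∈ N₁, ∀ b ∈ N₁, a * b = b * a := fun h => hN1 (hab N₁ hN h)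
  obtain ⟨hF, h1, h2⟩ := Cfsg.Agent.H1.Sidki.fstar_eq_of_simple_normal N₁ hN hN1 hsimple hna hC
  rw [hF]
  exact ⟨h1, h2, by rw [sup_comm]; exact hNV⟩

end Cfsg.Agent.S3048
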