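import Cfsg.Statements.S3049
import Cfsg.Agent.H2.Layer
import Cfsg.Agent.H2.PPrimeCore
import Cfsg.Agent.Lib.Helper7.Isolated
import Cfsg.Agent.Lib.Helper4.LBalB
import Cfsg.Agent.H1.Cores
import Cfsg.Agent.H9.Basic
import Cfsg.Agent.H2.Iso2A
import Cfsg.Agent.H2.Iso2B
import Cfsg.Agent.H2.Iso2C
import Cfsg.Agent.H9.Iso2Q3
import Cfsg.Agent.H1.Iso2Q1

set_option autoImplicit false
open Cfsg

namespace Cfsg.Agent.S3049
open Cfsg.Agent.H2.Iso2

/-- Let G be a finite group and p an odd prime with O_{p'}(G) = 1. Suppose that G has p-rank at most 2 (no elementary abelian subgroup of order p³) and that some element x of order p is isolated in G (no G-conjugate of x other than x commutes with x) and not central. Then the generalized Fitting subgroup F*(G) is a non-abelian simple group. Since O_{p'}(G) = 1, such an x is not central modulo O_{p'}(G): the hypotheses describe a counterexample to the Z*_p statement in p-rank at most 2. -/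
theorem result {G : Type*} [Group G] [Finite G] {p : ℕ} [Fact p.Prime] (hp : p ≠ 2) (hcore : Cfsg.pPrimeCore p G = ⊥)
    (hrank : Cfsg.PRankLE p 2 G) (x : G) (hx : orderOf x = p) (hiso : Cfsg.IsIsolated x) (hnc : x ∉ Subgroup.center G) :
    IsSimpleGroup ↥(Cfsg.generalizedFittingSubgroup G) ∧ ¬ IsMulCommutative ↥(Cfsg.generalizedFittingSubgroup G) := by
  classical
  have hpp : p.Prime := Fact.out
  obtain ⟨K, hK, hxK⟩ := exists_component_not_centralized hcore x hx hiso hnc
  obtain ⟨P, hP⟩ := (Cfsg.Agent.H9.isPGroup_zpowers_of_orderOf (p := p) (x := x) (k := 1) (by rw [pow_one]; exact hx)).exists_le_sylow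
  have hxP : x ∈ (P : Subgroup G) := hP (Subgroup.mem_zpowers x)
  have hxc : ∀ y ∈ (P : Subgroup G), x * y = y * x := by
    intro y hy
    have := Subgroup.mem_centralizer_iff.mp
      (Cfsg.Agent.Lib.Helper7.isIsolated_centralizes_of_mem_pGroup hiso (P : Subgroup G) P.isPGroup' hxP) y hy
    exact this.symm
  rcases exists_centralizing_or_simple hcore P K hK with ⟨u, huP, hu, huK⟩ | ⟨hF, h1, h2⟩
  · exfalso
    have hne : x ∉ Subgroup.zpowers u := by
      intro hmem
      apply hxK
      intro k hk
      obtain ⟨n, rfl⟩ := Subgroup.mem_zpowers_iff.1 hmem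
      exact ((Commute.zpow_left (show Commute u k from huK k hk) n).eq)
    have hnpc : Cfsg.HasNormalPComplement p ↥K := by
      apply hasNormalPComplement_of_isolated hp K hK.1 P
      intro y hyP hyK hyp k hk hc
      obtain ⟨i, j, rfl⟩ := rank_lemma hrank x u y hx hu (hxc u huP) (hxc y hyP) (huK y hyK) hyp hne
      exact isolated_in K x u hx hiso (hxc u huP) huK i j k hk hc
    exact not_hasNormalPComplement_of_quasisimple hK.2 (dvd_card_component hcore K hK) hnpc
  · rw [hF]
    exact ⟨h1, h2⟩

end Cfsg.Agent.S3049
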