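import Cfsg.Statements.S3053
import Cfsg.Agent.H1.Class2
import Cfsg.Agent.H2.SylowExtra
import Cfsg.Agent.Lib.Lead.Conj

set_option autoImplicit false
set_option maxHeartbeats 1600000
open Cfsg
open scoped commutatorElement

namespace Cfsg.Agent.S3053

open Cfsg.Agent.Lib.Lead.Conj

/-- conjugation by powers when the commutator commutes with the conjugating element -/
theorem conj_pow_aux {G : Type*} [Group G] (v e t : G) (ht : v * e * v⁻¹ = t * e)
    (hc : t * v = v * t) (n : ℕ) : v ^ n * e * (v ^ n)⁻¹ = t ^ n * e := by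
  induction n with
  | zero => simp
  | succ n ih =>
    have hcn : v * t ^ n = t ^ n * v := ((Commute.pow_left (show Commute t v from hc) n).eq).symm
    calc v ^ (n + 1) * e * (v ^ (n + 1))⁻¹ = v * (v ^ n * e * (v ^ n)⁻¹) * v⁻¹ := by
          rw [pow_succ']; group
      _ = v * (t ^ n * e) * v⁻¹ := by rw [ih]
      _ = (v * t ^ n) * e * v⁻¹ := by group
      _ = (t ^ n * v) * e * v⁻¹ := by rw [hcn]
      _ = t ^ n * (v * e * v⁻¹) := by group
      _ = t ^ n * (t * e) := by rw [ht]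
      _ = t ^ (n + 1) * e := by rw [pow_succ]; group

theorem result {G : Type*} [Group G] [Finite G]
    {p : ℕ} [Fact p.Prime] (hp : p ≠ 2) (P : Sylow p G) (hE : Cfsg.IsExtraspecial p ↥P)
    (hcard : Nat.card P = p ^ 3) (hexp : Monoid.exponent ↥P = p ^ 2) :
    Cfsg.IsStronglyClosed ((Subgroup.center ↥P).map (P : Subgroup G).subtype) (P : Subgroup G) := by
  classical
  have hpp : p.Prime := Fact.out
  obtain ⟨⟨hPG, hfr, hcm⟩, hZc⟩ := hE
  obtain ⟨Z, hZ⟩ : ∃ Z : Subgroup G, Z = (Subgroup.center ↥P).map (P : Subgroup G).subtype :=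
    ⟨_, rfl⟩
  rw [← hZ]
  replace hZ : Z = (Subgroup.center ↥(P : Subgroup G)).map (P : Subgroup G).subtype := hZ
  replace hZc : Nat.card ↥(Subgroup.center ↥(P : Subgroup G)) = p := hZc
  replace hPG : IsPGroup p ↥(P : Subgroup G) := hPG
  replace hfr : frattini ↥(P : Subgroup G) = Subgroup.center ↥(P : Subgroup G) := hfr
  replace hcm : commutator ↥(P : Subgroup G) = Subgroup.center ↥(P : Subgroup G) := hcm
  replace hexp : Monoid.exponent ↥(P : Subgroup G) = p ^ 2 := hexp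
  replace hcard : Nat.card ↥(P : Subgroup G) = p ^ 3 := hcard
  have hZmem : ∀ x : G, x ∈ Z ↔ ∃ hx : x ∈ (P : Subgroup G),
      (⟨x, hx⟩ : ↥(P : Subgroup G)) ∈ Subgroup.center ↥(P : Subgroup G) := by
    intro x; rw [hZ]; constructor
    · rintro ⟨y, hy, rfl⟩; exact ⟨y.2, hy⟩
    · rintro ⟨hx, hc⟩; exact ⟨⟨x, hx⟩, hc, rfl⟩
  have hZP : Z ≤ (P : Subgroup G) := fun x hx => ((hZmem x).1 hx).1
  have hZcen : ∀ z ∈ Z, ∀ y ∈ (P : Subgroup G), y * z = z * y := by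
    intro z hz y hy
    obtain ⟨hzP, hzc⟩ := (hZmem z).1 hz
    have := Subgroup.mem_center_iff.1 hzc ⟨y, hy⟩
    exact congrArg Subtype.val this
  have hcenZ : ∀ x ∈ (P : Subgroup G), (∀ y ∈ (P : Subgroup G), y * x = x * y) → x ∈ Z := by
    intro x hx h
    rw [hZmem]; refine ⟨hx, ?_⟩
    rw [Subgroup.mem_center_iff]; intro y; exact Subtype.ext (h y y.2)
  have hZcard : Nat.card Z = p := by
    rw [hZ, Nat.card_congr ((Subgroup.center ↥(P : Subgroup G)).equivMapOfInjective _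
      (Subgroup.subtype_injective _)).symm.toEquiv]
    exact hZc
  have hcc : ∀ a b : ↥(P : Subgroup G), ⁅a, b⁆ ∈ Subgroup.center ↥(P : Subgroup G) := by
    intro a b; rw [← hcm, commutator_def]
    exact Subgroup.commutator_mem_commutator (Subgroup.mem_top _) (Subgroup.mem_top _)
  have hcomm : ∀ x ∈ (P : Subgroup G), ∀ y ∈ (P : Subgroup G), x * y * x⁻¹ * y⁻¹ ∈ Z := by
    intro x hx y hy
    rw [hZmem]
    refine ⟨mul_mem (mul_mem (mul_mem hx hy) (inv_mem hx)) (inv_mem hy), ?_⟩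
    exact hcc ⟨x, hx⟩ ⟨y, hy⟩
  have hpowZ : ∀ x ∈ (P : Subgroup G), x ^ p ∈ Z := by
    intro x hx
    rw [hZmem]
    refine ⟨pow_mem hx p, ?_⟩
    have := Cfsg.Agent.H1.pow_p_mem_frattini hPG ⟨x, hx⟩
    rw [hfr] at this
    exact this
  have hexp2 : ∀ x ∈ (P : Subgroup G), x ^ (p ^ 2) = 1 := by
    intro x hx
    have := Monoid.pow_exponent_eq_one (⟨x, hx⟩ : ↥(P : Subgroup G))
    rw [hexp] at this
    exact congrArg Subtype.val this
  have hZpow : ∀ z ∈ Z, z ^ p = 1 := by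
    intro z hz
    have := pow_card_eq_one' (G := ↥Z) (x := ⟨z, hz⟩)
    rw [hZcard] at this; exact congrArg Subtype.val this
  have hpowmul : ∀ x ∈ (P : Subgroup G), ∀ y ∈ (P : Subgroup G),
      (x * y) ^ p = x ^ p * y ^ p := by
    intro x hx y hy
    have h1 : ⁅(⟨y, hy⟩ : ↥(P : Subgroup G)), (⟨x, hx⟩ : ↥(P : Subgroup G))⁆ ^ p = 1 := by
      have hmem := hcc ⟨y, hy⟩ ⟨x, hx⟩
      have := pow_card_eq_one' (G := ↥(Subgroup.center ↥(P : Subgroup G))) (x := ⟨_, hmem⟩)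
      rw [hZc] at this; exact congrArg Subtype.val this
    have := Cfsg.Agent.H1.class2_mul_pow_prime hcc hpp hp ⟨x, hx⟩ ⟨y, hy⟩ h1
    exact congrArg Subtype.val this
  obtain ⟨E, hEmem⟩ : ∃ E : Subgroup G, ∀ x, x ∈ E ↔ x ∈ (P : Subgroup G) ∧ x ^ p = 1 :=
    ⟨{ carrier := {x | x ∈ (P : Subgroup G) ∧ x ^ p = 1}
       mul_mem' := by
         rintro a b ⟨ha, ha'⟩ ⟨hb, hb'⟩
         exact ⟨mul_mem ha hb, by rw [hpowmul a ha b hb, ha', hb', mul_one]⟩
       one_mem' := ⟨one_mem _, one_pow _⟩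
       inv_mem' := by
         rintro a ⟨ha, ha'⟩
         exact ⟨inv_mem ha, by rw [inv_pow, ha', inv_one]⟩ }, fun _ => Iff.rfl⟩
  have hEP : E ≤ (P : Subgroup G) := fun x hx => ((hEmem x).1 hx).1
  have hZE : Z ≤ E := fun z hz => (hEmem z).2 ⟨hZP hz, hZpow z hz⟩
  have hPE : ∀ a ∈ (P : Subgroup G), ∀ e ∈ E, a * e * a⁻¹ ∈ E := by
    intro a ha e he
    rw [hEmem]
    refine ⟨mul_mem (mul_mem ha (hEP he)) (inv_mem ha), ?_⟩
    rw [conj_pow, ((hEmem e).1 he).2]; group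
  -- the order of E
  let pw : ↥(P : Subgroup G) →* ↥Z :=
    { toFun := fun x => ⟨(x : G) ^ p, hpowZ x x.2⟩
      map_one' := Subtype.ext (one_pow _)
      map_mul' := fun x y => Subtype.ext (hpowmul x x.2 y y.2) }
  have hker : Nat.card pw.ker = Nat.card E := by
    refine Nat.card_congr ⟨fun x => ⟨x.1.1, (hEmem _).2 ⟨x.1.2, ?_⟩⟩,
      fun e => ⟨⟨e.1, hEP e.2⟩, ?_⟩, fun x => rfl, fun e => rfl⟩
    · have := x.2
      rw [MonoidHom.mem_ker] at this
      exact congrArg Subtype.val this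
    · rw [MonoidHom.mem_ker]; exact Subtype.ext ((hEmem _).1 e.2).2
  have hrange : Nat.card pw.range = p := by
    have hdvd := Subgroup.card_subgroup_dvd_card pw.range
    rw [hZcard] at hdvd
    rcases (Nat.dvd_prime hpp).1 hdvd with h | h
    · exfalso
      have h1 : pw.range = ⊥ := Subgroup.card_eq_one.1 h
      have : Monoid.exponent ↥(P : Subgroup G) ∣ p := by
        apply Monoid.exponent_dvd_of_forall_pow_eq_one
        intro x
        have hx : pw x ∈ pw.range := ⟨x, rfl⟩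
        rw [h1, Subgroup.mem_bot] at hx
        exact Subtype.ext (show ((x ^ p : ↥(P : Subgroup G)) : G) = 1 from congrArg Subtype.val hx)
      rw [hexp] at this
      have := Nat.le_of_dvd hpp.pos this
      nlinarith [hpp.two_le]
    · exact h
  have hEcard : Nat.card E = p ^ 2 := by
    have h1 := Subgroup.card_eq_card_quotient_mul_card_subgroup pw.ker
    have h2 : Nat.card (↥(P : Subgroup G) ⧸ pw.ker) = p := by
      rw [Nat.card_congr (QuotientGroup.quotientKerEquivRange pw).toEquiv]; exact hrange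
    rw [h2, hker, hcard] at h1
    have : p * p ^ 2 = p * Nat.card E := by rw [← h1]; ring
    exact (Nat.eq_of_mul_eq_mul_left hpp.pos this).symm
  have hEab : ∀ a ∈ E, ∀ b ∈ E, a * b = b * a := by
    intro a ha b hb
    have := IsPGroup.commutative_of_card_eq_prime_sq hEcard ⟨a, ha⟩ ⟨b, hb⟩
    exact congrArg Subtype.val this
  have hZgen : ∀ t ∈ Z, t ≠ 1 → ∀ w ∈ Z, ∃ n : ℕ, w = t ^ n := by
    intro t ht ht1 w hw
    have hord : orderOf t = p := orderOf_eq_prime (hZpow t ht) ht1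
    have hle : Subgroup.zpowers t ≤ Z := Subgroup.zpowers_le.2 ht
    have heq : Subgroup.zpowers t = Z :=
      Subgroup.eq_of_le_of_card_ge hle (by rw [Nat.card_zpowers, hord, hZcard])
    have hw' : w ∈ Subgroup.zpowers t := heq ▸ hw
    rw [← mem_powers_iff_mem_zpowers] at hw'
    obtain ⟨n, hn⟩ := hw'
    exact ⟨n, hn.symm⟩
  refine ⟨hZP, ?_⟩
  intro z hz g hgP
  by_contra hxZ
  set x := g * z * g⁻¹ with hx
  have hxp : x ^ p = 1 := by rw [hx, conj_pow, hZpow z hz]; group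
  have hxE : x ∈ E := (hEmem x).2 ⟨hgP, hxp⟩
  -- the conjugating element `h`
  obtain ⟨h, hhz, hhE⟩ : ∃ h : G, h * z * h⁻¹ = x ∧
      ∀ e ∈ E, h⁻¹ * e * h ∈ (P : Subgroup G) := by
    have hPle : (P : Subgroup G) ≤ Subgroup.centralizer {z} := by
      intro y hy
      rw [Subgroup.mem_centralizer_iff]
      intro w hw
      rw [Set.mem_singleton_iff] at hw; rw [hw]
      exact (hZcen z hz y hy).symm
    obtain ⟨Y, hY⟩ : ∃ Y : Subgroup G, Y = E.map (MulAut.conj g⁻¹).toMonoidHom := ⟨_, rfl⟩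
    have hYp : IsPGroup p Y := IsPGroup.of_card (by rw [hY, card_map_conj, hEcard])
    have hYle : Y ≤ Subgroup.centralizer {z} := by
      rw [hY]
      rintro _ ⟨e, he, rfl⟩
      rw [Subgroup.mem_centralizer_iff]
      intro w hw
      rw [Set.mem_singleton_iff] at hw; rw [hw]
      show z * (g⁻¹ * e * g⁻¹⁻¹) = g⁻¹ * e * g⁻¹⁻¹ * z
      have hxe : x * e = e * x := hEab x hxE e he
      rw [hx] at hxe
      calc z * (g⁻¹ * e * g⁻¹⁻¹) = g⁻¹ * ((g * z * g⁻¹) * e) * g := by group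
        _ = g⁻¹ * (e * (g * z * g⁻¹)) * g := by rw [hxe]
        _ = _ := by group
    obtain ⟨k, hkC, hkY⟩ := Cfsg.Agent.H2.exists_conj_le_sylow_of_le P _ hPle Y hYp hYle
    have hkz : z * k = k * z :=
      Subgroup.mem_centralizer_iff.1 hkC z (Set.mem_singleton z)
    refine ⟨g * k⁻¹, ?_, ?_⟩
    · rw [hx]
      calc g * k⁻¹ * z * (g * k⁻¹)⁻¹ = g * (k⁻¹ * (z * k)) * g⁻¹ := by group
        _ = g * (k⁻¹ * (k * z)) * g⁻¹ := by rw [hkz]
        _ = g * z * g⁻¹ := by group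
    · intro e he
      have h1 := hkY (conj_mem_map_conj Y k (hY ▸ conj_mem_map_conj E g⁻¹ he))
      have : (g * k⁻¹)⁻¹ * e * (g * k⁻¹) = k * (g⁻¹ * e * g⁻¹⁻¹) * k⁻¹ := by group
      rw [this]; exact h1
  have hhE' : ∀ e ∈ E, h⁻¹ * e * h ∈ E := by
    intro e he
    rw [hEmem]; refine ⟨hhE e he, ?_⟩
    have : (h⁻¹ * e * h) ^ p = h⁻¹ * e ^ p * h := by
      have := conj_pow (a := h⁻¹) (b := e) (i := p)
      simpa using this
    rw [this, ((hEmem e).1 he).2]; group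
  have hhN := mem_normalizer_of_conj_mem' E h hhE'
  have hhE'' : ∀ e ∈ E, h * e * h⁻¹ ∈ E := fun e he =>
    (Subgroup.mem_normalizer_iff.1 hhN e).1 he
  -- the element `u`
  obtain ⟨u, huP, hux⟩ : ∃ u ∈ (P : Subgroup G), u * x ≠ x * u := by
    by_contra hcon; push_neg at hcon
    exact hxZ (hcenZ x hgP hcon)
  obtain ⟨z₁, hz₁⟩ : ∃ z₁ : G, z₁ = u * x * u⁻¹ * x⁻¹ := ⟨_, rfl⟩
  have hz₁Z : z₁ ∈ Z := hz₁ ▸ hcomm u huP x hgP
  have hz₁1 : z₁ ≠ 1 := by
    intro h1; apply hux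
    have : u * x = z₁ * (x * u) := by rw [hz₁]; group
    rw [this, h1, one_mul]
  have hux' : u * x * u⁻¹ = z₁ * x := by rw [hz₁]; group
  have huz : u * z₁ * u⁻¹ = z₁ := by rw [hZcen z₁ hz₁Z u huP]; group
  -- the element `v`
  obtain ⟨e₁, he₁⟩ : ∃ e₁ : G, e₁ = h⁻¹ * z₁ * h := ⟨_, rfl⟩
  have he₁E : e₁ ∈ E := he₁ ▸ hhE' z₁ (hZE hz₁Z)
  have hz₁e : z₁ = h * e₁ * h⁻¹ := by rw [he₁]; group
  have he₁Z : e₁ ∉ Z := by
    intro hmem
    have he₁1 : e₁ ≠ 1 := by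
      intro h1; apply hz₁1
      rw [hz₁e, h1]; group
    obtain ⟨n, hn⟩ := hZgen e₁ hmem he₁1 z hz
    apply hxZ
    have : x = z₁ ^ n := by
      rw [← hhz, hn, hz₁e, conj_pow]
    rw [this]; exact pow_mem hz₁Z n
  obtain ⟨y₀, hy₀P, hy₀⟩ : ∃ y ∈ (P : Subgroup G), y * e₁ ≠ e₁ * y := by
    by_contra hcon; push_neg at hcon
    exact he₁Z (hcenZ e₁ (hEP he₁E) hcon)
  obtain ⟨t, ht⟩ : ∃ t : G, t = y₀ * e₁ * y₀⁻¹ * e₁⁻¹ := ⟨_, rfl⟩
  have htZ : t ∈ Z := ht ▸ hcomm y₀ hy₀P e₁ (hEP he₁E)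
  have ht1 : t ≠ 1 := by
    intro h1; apply hy₀
    have : y₀ * e₁ = t * (e₁ * y₀) := by rw [ht]; group
    rw [this, h1, one_mul]
  obtain ⟨l, hl⟩ := hZgen t htZ ht1 z⁻¹ (inv_mem hz)
  have hy : y₀ ^ l * e₁ * (y₀ ^ l)⁻¹ = z⁻¹ * e₁ := by
    rw [hl]
    exact conj_pow_aux y₀ e₁ t (by rw [ht]; group) (hZcen t htZ y₀ hy₀P).symm l
  obtain ⟨v, hv⟩ : ∃ v : G, v = h * y₀ ^ l * h⁻¹ := ⟨_, rfl⟩
  have hvz : v * z₁ * v⁻¹ = x⁻¹ * z₁ := by
    have : v * z₁ * v⁻¹ = h * (y₀ ^ l * e₁ * (y₀ ^ l)⁻¹) * h⁻¹ := by rw [hv, hz₁e]; group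
    rw [this, hy, ← hhz, hz₁e]; group
  have hvx : v * x * v⁻¹ = x := by
    have : v * x * v⁻¹ = h * (y₀ ^ l * z * (y₀ ^ l)⁻¹) * h⁻¹ := by rw [hv, ← hhz]; group
    rw [this, hZcen z hz _ (pow_mem hy₀P l), ← hhz]; group
  -- the element `w`
  obtain ⟨w, hw⟩ : ∃ w : G, w = u * v * u := ⟨_, rfl⟩
  have hwz : w * z₁ * w⁻¹ = x⁻¹ := by
    have : w * z₁ * w⁻¹ = u * (v * (u * z₁ * u⁻¹) * v⁻¹) * u⁻¹ := by rw [hw]; group
    rw [this, huz, hvz]
    have : u * (x⁻¹ * z₁) * u⁻¹ = (u * x * u⁻¹)⁻¹ * (u * z₁ * u⁻¹) := by group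
    rw [this, hux', huz]; group
  have hwx : w * x * w⁻¹ = z₁ := by
    have : w * x * w⁻¹ = u * (v * (u * x * u⁻¹) * v⁻¹) * u⁻¹ := by rw [hw]; group
    rw [this, hux']
    have : v * (z₁ * x) * v⁻¹ = (v * z₁ * v⁻¹) * (v * x * v⁻¹) := by group
    rw [this, hvz, hvx]
    have hc : x⁻¹ * z₁ * x = z₁ := by rw [mul_assoc, hEab z₁ (hZE hz₁Z) x hxE]; group
    rw [hc, huz]
  obtain ⟨s, hs⟩ : ∃ s : G, s = w * w := ⟨_, rfl⟩
  have hsz : s * z₁ * s⁻¹ = z₁⁻¹ := by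
    have : s * z₁ * s⁻¹ = w * (w * z₁ * w⁻¹) * w⁻¹ := by rw [hs]; group
    rw [this, hwz]
    have : w * x⁻¹ * w⁻¹ = (w * x * w⁻¹)⁻¹ := by group
    rw [this, hwx]
  have hsx : s * x * s⁻¹ = x⁻¹ := by
    have : s * x * s⁻¹ = w * (w * x * w⁻¹) * w⁻¹ := by rw [hs]; group
    rw [this, hwx, hwz]
  -- `s` inverts `E`
  obtain ⟨I, hI⟩ : ∃ I : Subgroup G, ∀ e, e ∈ I ↔ e ∈ E ∧ s * e * s⁻¹ = e⁻¹ :=
    ⟨{ carrier := {e | e ∈ E ∧ s * e * s⁻¹ = e⁻¹}
       mul_mem' := by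
         rintro a b ⟨ha, ha'⟩ ⟨hb, hb'⟩
         refine ⟨mul_mem ha hb, ?_⟩
         have : s * (a * b) * s⁻¹ = (s * a * s⁻¹) * (s * b * s⁻¹) := by group
         rw [this, ha', hb', hEab a ha b hb, mul_inv_rev]
       one_mem' := ⟨one_mem _, by group⟩
       inv_mem' := by
         rintro a ⟨ha, ha'⟩
         refine ⟨inv_mem ha, ?_⟩
         have : s * a⁻¹ * s⁻¹ = (s * a * s⁻¹)⁻¹ := by group
         rw [this, ha'] }, fun _ => Iff.rfl⟩
  have hoz : Nat.card (Subgroup.zpowers z₁) = p := by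
    rw [Nat.card_zpowers, orderOf_eq_prime (hZpow z₁ hz₁Z) hz₁1]
  have hEI : E ≤ I := by
    have hJle : Subgroup.zpowers z₁ ⊔ Subgroup.zpowers x ≤ E :=
      sup_le (Subgroup.zpowers_le.2 (hZE hz₁Z)) (Subgroup.zpowers_le.2 hxE)
    have hJI : Subgroup.zpowers z₁ ⊔ Subgroup.zpowers x ≤ I :=
      sup_le (Subgroup.zpowers_le.2 ((hI _).2 ⟨hZE hz₁Z, hsz⟩))
        (Subgroup.zpowers_le.2 ((hI _).2 ⟨hxE, hsx⟩))
    have hJE : Subgroup.zpowers z₁ ⊔ Subgroup.zpowers x = E := by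
      apply Subgroup.eq_of_le_of_card_ge hJle
      have hd1 : Nat.card (Subgroup.zpowers z₁) ∣
          Nat.card ↥(Subgroup.zpowers z₁ ⊔ Subgroup.zpowers x) :=
        Subgroup.card_dvd_of_le le_sup_left
      have hd2 : Nat.card ↥(Subgroup.zpowers z₁ ⊔ Subgroup.zpowers x) ∣ p ^ 2 :=
        hEcard ▸ Subgroup.card_dvd_of_le hJle
      rw [hoz] at hd1
      obtain ⟨i, hi, hic⟩ := (Nat.dvd_prime_pow hpp).1 hd2
      rw [hEcard, hic]
      have : i = 2 := by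
        interval_cases i
        · exfalso
          rw [hic, pow_zero] at hd1
          exact hpp.one_lt.ne' (Nat.dvd_one.1 hd1)
        · exfalso
          have heq : Subgroup.zpowers z₁ = Subgroup.zpowers z₁ ⊔ Subgroup.zpowers x :=
            Subgroup.eq_of_le_of_card_ge le_sup_left (by rw [hic, hoz, pow_one])
          have : x ∈ Subgroup.zpowers z₁ := by
            rw [heq]; exact Subgroup.mem_sup_right (Subgroup.mem_zpowers x)
          exact hxZ ((Subgroup.zpowers_le.2 hz₁Z) this)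
        · rfl
      rw [this]
    rw [← hJE]; exact hJI
  have hinv : ∀ e ∈ E, s * e * s⁻¹ = e⁻¹ := fun e he => ((hI e).1 (hEI he)).2
  -- the coset of inverting elements
  obtain ⟨C, hC⟩ : ∃ C : Subgroup G, C = Subgroup.centralizer (E : Set G) := ⟨_, rfl⟩
  have hCmem : ∀ c ∈ C, ∀ e ∈ E, e * c = c * e := by
    intro c hc e he
    rw [hC] at hc
    exact Subgroup.mem_centralizer_iff.1 hc e he
  obtain ⟨X, hX⟩ : ∃ X : Set G, ∀ a, a ∈ X ↔ ∀ e ∈ E, a * e * a⁻¹ = e⁻¹ :=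
    ⟨{a | ∀ e ∈ E, a * e * a⁻¹ = e⁻¹}, fun _ => Iff.rfl⟩
  have hXC : Nat.card X = Nat.card C := by
    symm
    refine Nat.card_congr ⟨fun c => ⟨s * c.1, ?_⟩, fun a => ⟨s⁻¹ * a.1, ?_⟩, ?_, ?_⟩
    · rw [hX]
      intro e he
      have hc : c.1 * e = e * c.1 := (hCmem c.1 c.2 e he).symm
      have : s * c.1 * e * (s * c.1)⁻¹ = s * ((c.1 * e) * c.1⁻¹) * s⁻¹ := by group
      rw [this, hc]
      have : s * (e * c.1 * c.1⁻¹) * s⁻¹ = s * e * s⁻¹ := by group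
      rw [this]; exact hinv e he
    · rw [hC, Subgroup.mem_centralizer_iff]
      intro e he
      have h1 := (hX a.1).1 a.2 e he
      have h2 := hinv e he
      have h3 : a.1 * e = e⁻¹ * a.1 := by rw [← h1]; group
      have h4 : s⁻¹ * e⁻¹ = e * s⁻¹ := by rw [← h2]; group
      calc e * (s⁻¹ * a.1) = (e * s⁻¹) * a.1 := by group
        _ = s⁻¹ * e⁻¹ * a.1 := by rw [h4]
        _ = s⁻¹ * (e⁻¹ * a.1) := by group
        _ = s⁻¹ * (a.1 * e) := by rw [h3]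
        _ = s⁻¹ * a.1 * e := by group
    · intro c; apply Subtype.ext; simp
    · intro a; apply Subtype.ext; simp
  -- no nontrivial element of `E` commutes with an element of `X`
  have hfix : ∀ a ∈ X, ∀ e ∈ E, e * a = a * e → e = 1 := by
    intro a ha e he hea
    have h1 := (hX a).1 ha e he
    have h2 : a * e * a⁻¹ = e := by rw [← hea]; group
    have h3 : e = e⁻¹ := h2.symm.trans h1
    have h4 : e ^ 2 = 1 := by rw [pow_two]; exact mul_eq_one_iff_eq_inv.2 h3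
    have h5 : e ^ Nat.gcd 2 p = 1 := pow_gcd_eq_one.2 ⟨h4, ((hEmem e).1 he).2⟩
    have h6 : Nat.gcd 2 p = 1 := (Nat.coprime_primes Nat.prime_two hpp).2 (Ne.symm hp)
    rw [h6, pow_one] at h5
    exact h5
  letI : MulAction ↥(P : Subgroup G) ↥X :=
    { smul := fun a b => ⟨a.1 * b.1 * a.1⁻¹, by
        rw [hX]
        intro e he
        have h1 : a.1⁻¹ * e * a.1 ∈ E := by
          have := hPE a.1⁻¹ (inv_mem a.2) e he
          simpa using this
        have h2 := (hX b.1).1 b.2 _ h1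
        have : a.1 * b.1 * a.1⁻¹ * e * (a.1 * b.1 * a.1⁻¹)⁻¹ =
            a.1 * (b.1 * (a.1⁻¹ * e * a.1) * b.1⁻¹) * a.1⁻¹ := by group
        rw [this, h2]; group⟩
      one_smul := fun b => Subtype.ext (by
        show (1 : ↥(P : Subgroup G)).1 * b.1 * (1 : ↥(P : Subgroup G)).1⁻¹ = b.1
        simp)
      mul_smul := fun a b c => Subtype.ext (by
        show (a * b).1 * c.1 * (a * b).1⁻¹ = a.1 * (b.1 * c.1 * b.1⁻¹) * a.1⁻¹
        simp [mul_assoc]) }
  have hfree : ∀ b : ↥X, MulAction.stabilizer ↥(P : Subgroup G) b = ⊥ := by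
    intro b
    rw [eq_bot_iff]
    intro a ha
    rw [MulAction.mem_stabilizer_iff] at ha
    have hab : a.1 * b.1 * a.1⁻¹ = b.1 := congrArg Subtype.val ha
    rw [Subgroup.mem_bot]
    by_contra ha1
    have ha1' : a.1 ≠ 1 := fun h => ha1 (Subtype.ext h)
    have hcm' : a.1 * b.1 = b.1 * a.1 := by
      calc a.1 * b.1 = (a.1 * b.1 * a.1⁻¹) * a.1 := by group
        _ = b.1 * a.1 := by rw [hab]
    by_cases hap : a.1 ^ p = 1
    · exact ha1' (hfix b.1 b.2 a.1 ((hEmem _).2 ⟨a.2, hap⟩) hcm')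
    · apply hap
      refine hfix b.1 b.2 (a.1 ^ p) ((hEmem _).2 ⟨pow_mem a.2 p, ?_⟩) ?_
      · rw [← pow_mul, ← pow_two]; exact hexp2 a.1 a.2
      · exact (Commute.pow_left (show Commute a.1 b.1 from hcm') p).eq
  have hdvd : p ^ 3 ∣ Nat.card C := by
    rw [← hXC, Nat.card_congr (MulAction.selfEquivOrbitsQuotientProd hfree), Nat.card_prod, hcard]
    exact dvd_mul_left _ _
  -- contradiction: `E` is a Sylow subgroup of its centralizer
  obtain ⟨K, hK⟩ := Sylow.exists_subgroup_card_pow_prime p hdvd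
  obtain ⟨K', hK'⟩ : ∃ K' : Subgroup G, K' = K.map C.subtype := ⟨_, rfl⟩
  have hK'card : Nat.card K' = p ^ 3 := by
    rw [hK', Nat.card_congr (K.equivMapOfInjective _ (Subgroup.subtype_injective _)).symm.toEquiv]
    exact hK
  have hK'C : K' ≤ C := by
    rw [hK']; rintro _ ⟨y, _, rfl⟩; exact y.2
  have hK'p : IsPGroup p K' := IsPGroup.of_card hK'card
  have hEp : IsPGroup p E := IsPGroup.of_card hEcard
  have hnorm : K' ≤ Subgroup.normalizer (E : Set G) :=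
    hK'C.trans (hC ▸ Subgroup.centralizer_le_normalizer _)
  have hsup : IsPGroup p (K' ⊔ E : Subgroup G) := hK'p.to_sup_of_normal_right' hEp hnorm
  obtain ⟨k, -, hk⟩ := Cfsg.Agent.H2.exists_conj_le_sylow_of_le P ⊤ le_top (K' ⊔ E) hsup le_top
  have hKP : K'.map (MulAut.conj k).toMonoidHom = (P : Subgroup G) := by
    apply Subgroup.eq_of_le_of_card_ge ((Subgroup.map_mono le_sup_left).trans hk)
    rw [card_map_conj, hK'card, hcard]
  have hEZ : E.map (MulAut.conj k).toMonoidHom ≤ Z := by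
    rintro _ ⟨e, he, rfl⟩
    apply hcenZ
    · exact hk (Subgroup.mem_map_of_mem _ (Subgroup.mem_sup_right he))
    · intro y hy
      rw [← hKP] at hy
      obtain ⟨c, hc, rfl⟩ := hy
      have hce : e * c = c * e := hCmem c (hK'C hc) e he
      show k * c * k⁻¹ * (k * e * k⁻¹) = k * e * k⁻¹ * (k * c * k⁻¹)
      calc k * c * k⁻¹ * (k * e * k⁻¹) = k * (c * e) * k⁻¹ := by group
        _ = k * (e * c) * k⁻¹ := by rw [hce]
        _ = _ := by group
  have hle := Subgroup.card_le_of_le hEZ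
  rw [card_map_conj, hEcard, hZcard] at hle
  nlinarith [hpp.two_le]

end Cfsg.Agent.S3053
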