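import Cfsg.Statements.S3071
import Mathlib
import Cfsg.Agent.Lib.Lead.CentricControl
import Cfsg.Agent.Lib.Lead.SLFree

set_option autoImplicit false
set_option linter.style.haveILetI false
open Cfsg

namespace Cfsg.Agent.S3071

open Cfsg.Agent.Lib.Helper4.GTFus Cfsg.Agent.Lib.Helper4.GTSec Cfsg.Agent.Lib.Helper4.GT2 Cfsg.Agent.S1959
  Cfsg.Agent.S1961 Cfsg.Agent.Lib.Lead.ZJFunctor Cfsg.Agent.Lib.Lead.SLFreeLib Cfsg.Agent.Lib.Lead.CentricControl

/-- Let p be an odd prime and S a Sylow p-subgroup of the finite group G such that, for every subgroup P with Z(S) ≤ P ≤ S, the normalizer N_G(P) has no section isomorphic to SL₂(p). Let J(S) be the subgroup generated by the abelian subgroups of S of largest order. Then two elements of S are conjugate in G if and only if they are conjugate in N_G(Z(J(S))). -/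
theorem result {G : Type*} [Group G] [Finite G] {p : ℕ} [Fact p.Prime]
    (hp : p ≠ 2) (S : Sylow p G)
    (hfree : ∀ P : Subgroup G, (S : Subgroup G) ⊓ Subgroup.centralizer ((S : Subgroup G) : Set G) ≤ P → P ≤ S →
      ¬ ∃ (H K : Subgroup G) (hK : (K.subgroupOf H).Normal), H ≤ Subgroup.normalizer (P : Set G) ∧
        Nonempty ((H ⧸ K.subgroupOf H) ≃* Matrix.SpecialLinearGroup (Fin 2) (ZMod p))) :
    ∀ x ∈ S, ∀ y ∈ S, (∃ g : G, g * x * g⁻¹ = y) ↔
      ∃ n ∈ Subgroup.normalizer (Cfsg.centerThompsonAOf (S : Subgroup G) : Set G), n * x * n⁻¹ = y := by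
  intro x hx y hy
  constructor
  · rintro ⟨g, hg⟩
    have h𝓦 := h𝓦_zjA (p := p)
    have hZ : ∀ W ∈ Ind ({zjA} : Set (∀ (Q : Type _) [Group Q], Subgroup Q)) G, ∀ R : Subgroup G,
        IsPGroup p ↥R → R ⊓ Subgroup.centralizer (R : Set G) ≤ W R := by
      rintro _ ⟨W', rfl, rfl⟩ R _
      exact center_le_induced_zjA R
    have hloc : ∀ T : Subgroup G, T ≤ (S : Subgroup G) →
        (S : Subgroup G) ⊓ Subgroup.centralizer ((S : Subgroup G) : Set G) ≤ T →
        ¬ p ∣ ((S : Subgroup G) ⊓ Subgroup.normalizer ((T : Subgroup G) : Set G)).relIndex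
          (Subgroup.normalizer ((T : Subgroup G) : Set G)) →
        FamilyControlsStrongFusionIn p (Ind ({zjA} : Set (∀ (Q : Type _) [Group Q], Subgroup Q)) G)
          (Subgroup.normalizer ((T : Subgroup G) : Set G)) := by
      intro T hTS hZT _
      have hfreeN : SLFree p ↥(Subgroup.normalizer (T : Set G)) := slfree_of_not_exists _ (hfree T hZT hTS)
      have h1 := family_map h𝓦 (Subgroup.normalizer (T : Set G)).subtype (Subgroup.subtype_injective _)
        (family_of_SLFree hp _ hfreeN)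
      rwa [Subgroup.range_subtype] at h1
    have hA : ({x} : Set G) ⊆ ((S : Subgroup G) : Set G) := by
      rintro _ rfl; exact hx
    have hgA : lc g ({x} : Set G) ⊆ ((S : Subgroup G) : Set G) := by
      rintro _ ⟨a, rfl, rfl⟩
      show g * a * g⁻¹ ∈ (S : Subgroup G)
      rw [hg]; exact hy
    have hch := centric_control S (isConjugacyFunctor_ind h𝓦 G) hZ hloc {x} g hA hgA
    obtain ⟨n, hn, hna⟩ := ch_single_functor (W₀ := Cfsg.inducedFunctor (G := G) zjA)
      (by rintro _ ⟨W', rfl, rfl⟩; rfl) hch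
    rw [induced_zjA] at hn
    exact ⟨n, hn, (hna x rfl).trans hg⟩
  · rintro ⟨n, -, hn⟩
    exact ⟨n, hn⟩

end Cfsg.Agent.S3071
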