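import Cfsg.Statements.S3072
import Mathlib
import Cfsg.Agent.S1854
import Cfsg.Agent.Lib.Helper4.AGStrongC

set_option autoImplicit false
set_option linter.style.haveILetI false
set_option linter.unusedVariables false
open Cfsg

namespace Cfsg.Agent.S3072

open Cfsg.Agent.Lib.Lead.AlperinGoldschmidt Cfsg.Agent.Lib.Lead.ConjFamily Cfsg.Agent.Lib.Lead.Conj
  Cfsg.Agent.S1963 Cfsg.Agent.S1959 Cfsg.Agent.S1965 Cfsg.Agent.Lib.Helper4.AGStrong

universe u
variable {G : Type u} [Group G] [Finite G] {p : ℕ} [hp : Fact p.Prime] (P : Sylow p G)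

/-- a centric radical subgroup is centric -/
theorem centric_of_CR {H : Subgroup G} (hH : CR P H) :
    (P : Subgroup G) ⊓ Subgroup.centralizer (H : Set G) ≤ H := by
  apply hH.2
  refine ⟨Subgroup.centralizer_le_normalizer _, fun n hn => ?_, fun k hk => ⟨0, by simpa using hk⟩⟩
  apply map_conj_eq_of_le
  rintro _ ⟨c, hc, rfl⟩
  have hc' : c ∈ Subgroup.centralizer (rc n (H : Set G)) := by
    rw [rc_normalizer hn]; exact hc
  exact conj_mem_centralizer hc'

/-- `O_{p',p}(N_G(H)) = H C_G(H)` for a centric radical subgroup -/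
theorem pPrimePCore_of_CR {H : Subgroup G} (hH : CR P H) :
    (Cfsg.pPrimePCore p ↥(Subgroup.normalizer (H : Set G))).map (Subgroup.normalizer (H : Set G)).subtype =
      H ⊔ Subgroup.centralizer (H : Set G) := by
  obtain ⟨h1, h2, h3, h4, h5, h6⟩ := Cfsg.Agent.S1854.CR_structure P hH
  apply le_antisymm
  · rw [← h6]
    apply sup_le
    · refine le_trans ?_ le_sup_right
      intro a ha
      rw [Subgroup.mem_centralizer_iff]
      intro b hb
      exact (h4 a ha b hb).symm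
    · exact le_sup_left
  · exact sup_le h3 h1

end Cfsg.Agent.S3072

namespace Cfsg.Agent.S3072

open Cfsg.Agent.Lib.Lead.AlperinGoldschmidt Cfsg.Agent.Lib.Lead.ConjFamily Cfsg.Agent.Lib.Lead.Conj
  Cfsg.Agent.S1963 Cfsg.Agent.S1959 Cfsg.Agent.S1965 Cfsg.Agent.Lib.Helper4.AGStrong

theorem result {G : Type*} [Group G] [Finite G] {p : ℕ} [Fact p.Prime]
    (P : Sylow p G) (A : Set G) (hA : A ⊆ (P : Set G)) (hA1 : ∃ a ∈ A, a ≠ 1)
    (g : G) (hAg : (fun a => g⁻¹ * a * g) '' A ⊆ (P : Set G)) :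
    ∃ (n : ℕ) (H X : Fin n → Subgroup G) (x : Fin n → G) (c y : G),
      c ∈ Subgroup.centralizer A ∧ y ∈ Subgroup.normalizer ((P : Subgroup G) : Set G) ∧
      g = c * (List.ofFn x).prod * y ∧
      ∀ i : Fin n,
        H i ≤ (P : Subgroup G) ∧
        ¬ p ∣ ((P : Subgroup G) ⊓ Subgroup.normalizer (H i : Set G)).relIndex (Subgroup.normalizer (H i : Set G)) ∧
        (P : Subgroup G) ⊓ Subgroup.centralizer (H i : Set G) ≤ H i ∧
        (Cfsg.pPrimePCore p ↥(Subgroup.normalizer (H i : Set G))).map (Subgroup.normalizer (H i : Set G)).subtype =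
          H i ⊔ Subgroup.centralizer (H i : Set G) ∧
        ¬ Cfsg.IsSylowChainConnected p
            (↥(Subgroup.normalizer (H i : Set G)) ⧸ (H i).subgroupOf (Subgroup.normalizer (H i : Set G))) ∧
        (H i ≤ X i ∧ X i ≤ Subgroup.normalizer (H i : Set G) ∧
          ((X i).subgroupOf (Subgroup.normalizer (H i : Set G))).Normal ∧ p ∣ (H i).relIndex (X i) ∧
          ∀ Y : Subgroup G, H i ≤ Y → Y ≤ Subgroup.normalizer (H i : Set G) →
            (Y.subgroupOf (Subgroup.normalizer (H i : Set G))).Normal → p ∣ (H i).relIndex Y → X i ≤ Y) ∧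
        x i ∈ (Cfsg.pResidual p ↥(X i)).map (X i).subtype ∧
        (fun a => (((List.ofFn x).take i.val).prod)⁻¹ * a * ((List.ofFn x).take i.val).prod) '' A ⊆ (H i : Set G) := by
  obtain ⟨c, hc, l₀, hgl, hd₀, hok₀⟩ := alperin_goldschmidt2 P A g hA hAg
  obtain ⟨l, y, hy, hprod, hd, hok⟩ := normalize P l₀ A hd₀ hok₀
  have hget := fun i : Fin l.length => hd.get i.1 i.2
  have e : List.ofFn (fun i => (l.get i).2) = l.map Prod.snd := by
    apply List.ext_get
    · simp
    · intro n h1 h2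
      simp
  refine ⟨l.length, fun i => (l.get i).1, fun i => XA p (l.get i).1, fun i => (l.get i).2, c, y, hc, hy, ?_, ?_⟩
  · rw [e]
    show g = c * prodL l * y
    rw [hgl, hprod, mul_assoc]
  · intro i
    obtain ⟨hCR, hx, hsub⟩ := hget i
    have hCR' : CR P (l.get i).1 := hCR
    obtain ⟨hne, hΓ, hxO⟩ := hok (l.get i) (List.get_mem l i)
    obtain ⟨hX1, hX2, hX3, hX4⟩ := xA_mem_ySet P hCR'.1 hne hΓ
    refine ⟨hCR'.1.1, hCR'.1.2, centric_of_CR P hCR', pPrimePCore_of_CR P hCR',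
      not_chainConnected P hCR'.1 hne hΓ,
      ⟨hX1, hX2, (Subgroup.normal_subgroupOf_iff_le_normalizer hX2).2 hX3, hX4, ?_⟩, ?_, ?_⟩
    · intro Y hY1 hY2 hY3 hY4
      exact sInf_le ⟨hY1, hY2, (Subgroup.normal_subgroupOf_iff_le_normalizer hY2).1 hY3, hY4⟩
    · rw [← opA_eq_map]
      exact hxO
    · rw [e]
      exact hsub

end Cfsg.Agent.S3072
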