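import Cfsg.Statements.S3074
import Cfsg.Agent.Lib.Helper7.Qd3

set_option autoImplicit false
open Cfsg

namespace Cfsg.Agent.S3074

/-- Let p be an odd prime. A Sylow p-subgroup of Qd(p), the split extension of an elementary abelian group of order p² by SL₂(p) acting naturally, is extraspecial of order p³ and exponent p. -/
theorem result (p : ℕ) [Fact p.Prime] (hp : p ≠ 2) (P : Sylow p ↥(Cfsg.qd p)) :
    Cfsg.IsExtraspecial p ↥P ∧ Nat.card P = p ^ 3 ∧ Monoid.exponent ↥P = p := by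
  obtain ⟨e⟩ := Cfsg.Agent.Lib.Helper7.nonempty_sylow_equiv_H3 (K := ZMod p) (p := p) P
  have h1 : Nat.card (Cfsg.Agent.Lib.Helper7.H3 (ZMod p)) = p ^ 3 := by
    rw [Cfsg.Agent.Lib.Helper7.H3.card_eq, Nat.card_zmod]
  refine ⟨Cfsg.Agent.Lib.Helper7.isExtraspecial_of_mulEquiv e
    (Cfsg.Agent.Lib.Helper7.H3.isExtraspecial p hp), ?_, ?_⟩
  · exact (Nat.card_congr e.toEquiv).symm.trans h1
  · exact (Monoid.exponent_eq_of_mulEquiv e).symm.trans
      (Cfsg.Agent.Lib.Helper7.H3.exponent_eq p hp)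

end Cfsg.Agent.S3074
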