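import Cfsg.Statements.S3075
import Mathlib
import Cfsg.Agent.H1.SupersolvableCLT
import Cfsg.Agent.H1.SZ
import Cfsg.Agent.Lib.Lead.PGroup

set_option autoImplicit false
open Cfsg

namespace Cfsg.Agent.S3075

open Matrix

/-- the central element `-1` of `SL(2,F)` -/
def negOne (F : Type*) [Field F] : Matrix.SpecialLinearGroup (Fin 2) F :=
  ⟨!![-1, 0; 0, -1], by simp [Matrix.det_fin_two]⟩

def upper (F : Type*) [Field F] : Matrix.SpecialLinearGroup (Fin 2) F :=
  ⟨!![1, 1; 0, 1], by simp [Matrix.det_fin_two]⟩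

def lower (F : Type*) [Field F] : Matrix.SpecialLinearGroup (Fin 2) F :=
  ⟨!![1, 0; 1, 1], by simp [Matrix.det_fin_two]⟩

theorem negOne_central {F : Type*} [Field F] (g : Matrix.SpecialLinearGroup (Fin 2) F) :
    g * negOne F = negOne F * g := by
  apply Subtype.ext
  rw [Matrix.SpecialLinearGroup.coe_mul, Matrix.SpecialLinearGroup.coe_mul]
  ext i j
  fin_cases i <;> fin_cases j <;>
    simp [negOne, Matrix.mul_apply, Fin.sum_univ_two]

theorem negOne_sq {F : Type*} [Field F] : negOne F * negOne F = 1 := by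
  apply Subtype.ext
  rw [Matrix.SpecialLinearGroup.coe_mul]
  ext i j
  fin_cases i <;> fin_cases j <;>
    simp [negOne, Matrix.mul_apply, Fin.sum_univ_two]

theorem negOne_ne_one {F : Type*} [Field F] (h2 : (2 : F) ≠ 0) : negOne F ≠ 1 := by
  intro h
  have h3 := congrArg (fun m : Matrix.SpecialLinearGroup (Fin 2) F => m.1 0 0) h
  simp [negOne] at h3
  apply h2
  linear_combination (-1 : F) * h3

theorem upper_pow {F : Type*} [Field F] (k : ℕ) :
    ((upper F ^ k : Matrix.SpecialLinearGroup (Fin 2) F) : Matrix (Fin 2) (Fin 2) F) =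
      !![1, (k : F); 0, 1] := by
  induction k with
  | zero => simp [Matrix.one_fin_two]
  | succ k ih =>
    rw [pow_succ, Matrix.SpecialLinearGroup.coe_mul, ih]
    ext i j
    fin_cases i <;> fin_cases j <;>
      simp [upper, Matrix.mul_apply, Fin.sum_univ_two] <;> ring

theorem lower_pow {F : Type*} [Field F] (k : ℕ) :
    ((lower F ^ k : Matrix.SpecialLinearGroup (Fin 2) F) : Matrix (Fin 2) (Fin 2) F) =
      !![1, 0; (k : F), 1] := by
  induction k with
  | zero => simp [Matrix.one_fin_two]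
  | succ k ih =>
    rw [pow_succ, Matrix.SpecialLinearGroup.coe_mul, ih]
    ext i j
    fin_cases i <;> fin_cases j <;>
      simp [lower, Matrix.mul_apply, Fin.sum_univ_two] <;> ring

theorem upper_pow_p {F : Type*} [Field F] {p : ℕ} (hpF : (p : F) = 0) : upper F ^ p = 1 := by
  apply Subtype.ext
  rw [upper_pow, hpF]
  simp [Matrix.one_fin_two]

theorem lower_pow_p {F : Type*} [Field F] {p : ℕ} (hpF : (p : F) = 0) : lower F ^ p = 1 := by
  apply Subtype.ext
  rw [lower_pow, hpF]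
  simp [Matrix.one_fin_two]

theorem upper_lower_ne {F : Type*} [Field F] : upper F * lower F ≠ lower F * upper F := by
  intro h
  have h3 := congrArg (fun m : Matrix.SpecialLinearGroup (Fin 2) F => m.1 0 0) h
  simp only [Matrix.SpecialLinearGroup.coe_mul] at h3
  simp [upper, lower, Matrix.mul_apply, Fin.sum_univ_two] at h3

theorem pc_lemma {N : Type*} [Group N] [Finite N] {p : ℕ} [Fact p.Prime] (L : Subgroup N)
    [L.Normal] (hL : Nat.card L = p) (x : N) (k : ℕ) (hx : x ^ p ^ k = 1) :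
    ∀ l ∈ L, x * l = l * x := by
  have hp := (Fact.out : p.Prime)
  have hLp : IsPGroup p L := IsPGroup.of_card (n := 1) (by rw [hL, pow_one])
  have hxp : IsPGroup p (Subgroup.zpowers x) := by
    obtain ⟨j, hj, hjo⟩ := (Nat.dvd_prime_pow hp).1 (orderOf_dvd_of_pow_eq_one hx)
    apply IsPGroup.of_card (n := j); rw [Nat.card_zpowers, hjo]
  have hP : IsPGroup p (Subgroup.zpowers x ⊔ L : Subgroup N) :=
    IsPGroup.to_sup_of_normal_right hxp hLp
  obtain ⟨P, hPdef⟩ : ∃ P, P = Subgroup.zpowers x ⊔ L := ⟨_, rfl⟩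
  rw [← hPdef] at hP
  have hLP : L ≤ P := by rw [hPdef]; exact le_sup_right
  have hxP : x ∈ P := by rw [hPdef]; exact Subgroup.mem_sup_left (Subgroup.mem_zpowers x)
  haveI : (L.subgroupOf P).Normal := Subgroup.normal_subgroupOf
  have hne : L.subgroupOf P ≠ ⊥ := by
    intro h
    have h3 : Nat.card (L.subgroupOf P) = Nat.card L := Cfsg.Agent.H1.card_subgroupOf_of_le hLP
    rw [h, Subgroup.card_bot, hL] at h3
    exact hp.one_lt.ne h3
  obtain ⟨z, hzL, hzc, hz1⟩ :=
    Cfsg.Agent.Lib.Lead.PGroup.exists_mem_center_of_normal hP (L.subgroupOf P) hne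
  have hzL' : (z : N) ∈ L := Subgroup.mem_subgroupOf.1 hzL
  have hz1' : (z : N) ≠ 1 := fun h => hz1 (Subtype.ext h)
  have hzo : orderOf (z : N) = p := by
    have h3 : orderOf (z : N) ∣ p := by
      rw [← hL, ← Subgroup.orderOf_mk (z : N) hzL']
      exact orderOf_dvd_natCard _
    rcases (Nat.dvd_prime hp).1 h3 with h4 | h4
    · exact absurd (orderOf_eq_one_iff.1 h4) hz1'
    · exact h4
  have hgen : Subgroup.zpowers (z : N) = L := by
    apply Subgroup.eq_of_le_of_card_ge ((Subgroup.zpowers_le).2 hzL')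
    rw [Nat.card_zpowers, hzo, hL]
  intro l hl
  rw [← hgen] at hl
  obtain ⟨i, rfl⟩ := Subgroup.mem_zpowers_iff.1 hl
  have hxz : x * (z : N) = (z : N) * x := by
    have h3 := Subgroup.mem_center_iff.1 hzc ⟨x, hxP⟩
    exact congrArg Subtype.val h3
  have hc : Commute x (z : N) := hxz
  exact (hc.zpow_right i).eq

theorem irr_lemma {N : Type*} [Group N] [Finite N] {p : ℕ} [Fact p.Prime]
    (A : Subgroup N) [A.Normal] (hAab : ∀ a ∈ A, ∀ b ∈ A, a * b = b * a)
    (hAcard : Nat.card A = p ^ 2)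
    (hAp : ∀ a ∈ A, a ^ p = 1) (hAself : Subgroup.centralizer (A : Set N) = A)
    (x y : N) (hx : x ^ p ∈ A) (hy : y ^ p ∈ A) (hxy : (y * x)⁻¹ * (x * y) ∉ A)
    (L : Subgroup N) [L.Normal] (hLA : L ≤ A) (hL : Nat.card L = p) : False := by
  have hp := (Fact.out : p.Prime)
  have hx2 : x ^ p ^ 2 = 1 := by rw [pow_two, pow_mul]; exact hAp _ hx
  have hy2 : y ^ p ^ 2 = 1 := by rw [pow_two, pow_mul]; exact hAp _ hy
  have hxL := pc_lemma L hL x 2 hx2
  have hyL := pc_lemma L hL y 2 hy2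
  have hAbar : Nat.card (A.map (QuotientGroup.mk' L)) = p := by
    have h1 : (A.map (QuotientGroup.mk' L)).comap (QuotientGroup.mk' L) = A := by
      rw [Subgroup.comap_map_eq, QuotientGroup.ker_mk']; exact sup_eq_left.2 hLA
    have h2 := Cfsg.Agent.H1.card_comap_mk L (A.map (QuotientGroup.mk' L))
    rw [h1, hAcard, hL, pow_two] at h2
    exact (Nat.eq_of_mul_eq_mul_right hp.pos h2).symm
  haveI : (A.map (QuotientGroup.mk' L)).Normal :=
    Subgroup.Normal.map inferInstance _ (QuotientGroup.mk'_surjective L)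
  have hxbar := pc_lemma (A.map (QuotientGroup.mk' L)) hAbar (QuotientGroup.mk' L x) 2
    (by rw [← map_pow, hx2, map_one])
  have hybar := pc_lemma (A.map (QuotientGroup.mk' L)) hAbar (QuotientGroup.mk' L y) 2
    (by rw [← map_pow, hy2, map_one])
  have hxA : ∀ a ∈ A, x * a * x⁻¹ * a⁻¹ ∈ L := by
    intro a ha
    have h1 := hxbar _ (Subgroup.mem_map_of_mem _ ha)
    have h2 : QuotientGroup.mk' L (x * a * x⁻¹ * a⁻¹) = 1 := by
      rw [map_mul, map_mul, map_mul, map_inv, map_inv, h1, mul_inv_cancel_right, mul_inv_cancel]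
    exact (QuotientGroup.eq_one_iff _).mp h2
  have hyA : ∀ a ∈ A, y * a * y⁻¹ * a⁻¹ ∈ L := by
    intro a ha
    have h1 := hybar _ (Subgroup.mem_map_of_mem _ ha)
    have h2 : QuotientGroup.mk' L (y * a * y⁻¹ * a⁻¹) = 1 := by
      rw [map_mul, map_mul, map_mul, map_inv, map_inv, h1, mul_inv_cancel_right, mul_inv_cancel]
    exact (QuotientGroup.eq_one_iff _).mp h2
  apply hxy
  rw [← hAself, Subgroup.mem_centralizer_iff]
  intro a ha
  obtain ⟨l₁, hl₁⟩ : ∃ l₁, l₁ = x * a * x⁻¹ * a⁻¹ := ⟨_, rfl⟩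
  obtain ⟨l₂, hl₂⟩ : ∃ l₂, l₂ = y * a * y⁻¹ * a⁻¹ := ⟨_, rfl⟩
  have hl₁L : l₁ ∈ L := hl₁ ▸ hxA a ha
  have hl₂L : l₂ ∈ L := hl₂ ▸ hyA a ha
  have e1 : x * a * x⁻¹ = l₁ * a := by rw [hl₁]; group
  have e2 : y * a * y⁻¹ = l₂ * a := by rw [hl₂]; group
  have hxl₂ : x * l₂ = l₂ * x := hxL l₂ hl₂L
  have hyl₁ : y * l₁ = l₁ * y := hyL l₁ hl₁L
  have hl12 : l₂ * l₁ = l₁ * l₂ := hAab l₂ (hLA hl₂L) l₁ (hLA hl₁L)
  have key : x * y * a * (x * y)⁻¹ = y * x * a * (y * x)⁻¹ := by
    calc x * y * a * (x * y)⁻¹ = x * (y * a * y⁻¹) * x⁻¹ := by group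
      _ = x * (l₂ * a) * x⁻¹ := by rw [e2]
      _ = (x * l₂) * (a * x⁻¹) := by group
      _ = (l₂ * x) * (a * x⁻¹) := by rw [hxl₂]
      _ = l₂ * (x * a * x⁻¹) := by group
      _ = l₂ * (l₁ * a) := by rw [e1]
      _ = (l₂ * l₁) * a := by group
      _ = (l₁ * l₂) * a := by rw [hl12]
      _ = l₁ * (l₂ * a) := by group
      _ = l₁ * (y * a * y⁻¹) := by rw [e2]
      _ = (l₁ * y) * (a * y⁻¹) := by group
      _ = (y * l₁) * (a * y⁻¹) := by rw [hyl₁]
      _ = y * (l₁ * a) * y⁻¹ := by group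
      _ = y * (x * a * x⁻¹) * y⁻¹ := by rw [e1]
      _ = y * x * a * (y * x)⁻¹ := by group
  calc a * ((y * x)⁻¹ * (x * y)) = (y * x)⁻¹ * (y * x * a * (y * x)⁻¹) * (x * y) := by group
    _ = (y * x)⁻¹ * (x * y * a * (x * y)⁻¹) * (x * y) := by rw [key]
    _ = (y * x)⁻¹ * (x * y) * a := by group

/-- Let p be an odd prime and N a finite group with a normal elementary abelian subgroup A of order p² that is its own centralizer in N, such that N/A is isomorphic to SL₂(p) (over any field F with p elements). Then N splits over A: some subgroup U of N satisfies A ∩ U = 1 and AU = N. -/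
theorem result {N : Type*} [Group N] [Finite N] {p : ℕ} [Fact p.Prime] (hp : p ≠ 2)
    (A : Subgroup N) [A.Normal] (hAcomm : IsMulCommutative A) (hAcard : Nat.card A = p ^ 2) (hAexp : Monoid.exponent ↥A = p)
    (hAself : Subgroup.centralizer (A : Set N) = A)
    {F : Type*} [Field F] [Fintype F] (hF : Fintype.card F = p) (e : N ⧸ A ≃* Matrix.SpecialLinearGroup (Fin 2) F) :
    ∃ U : Subgroup N, A ⊓ U = ⊥ ∧ A ⊔ U = ⊤ := by
  classical
  have hpp := (Fact.out : p.Prime)
  have hodd : Odd p := hpp.odd_of_ne_two hp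
  have h2 : (2 : F) ≠ 0 := by
    intro h
    have h3 : addOrderOf (1 : F) ∣ 2 := by
      apply addOrderOf_dvd_of_nsmul_eq_zero
      rw [nsmul_eq_mul, mul_one]; exact_mod_cast h
    have h4 : addOrderOf (1 : F) ∣ p := by rw [← hF]; exact addOrderOf_dvd_card
    have hcop : Nat.Coprime 2 p := (Nat.coprime_primes Nat.prime_two hpp).2 (Ne.symm hp)
    have h5 : addOrderOf (1 : F) ∣ 1 := by
      have h6 := Nat.dvd_gcd h3 h4
      rwa [hcop.gcd_eq_one] at h6
    have h6 : addOrderOf (1 : F) = 1 := Nat.dvd_one.1 h5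
    rw [AddMonoid.addOrderOf_eq_one_iff] at h6
    exact one_ne_zero h6
  have hpF : (p : F) = 0 := by rw [← hF]; exact Nat.cast_card_eq_zero F
  have hAab : ∀ a ∈ A, ∀ b ∈ A, a * b = b * a := by
    intro a ha b hb
    have h3 := hAcomm.is_comm.comm (⟨a, ha⟩ : A) ⟨b, hb⟩
    exact congrArg Subtype.val h3
  have hAp : ∀ a ∈ A, a ^ p = 1 := by
    intro a ha
    have h3 := Monoid.pow_exponent_eq_one (⟨a, ha⟩ : A)
    rw [hAexp] at h3
    have h4 := congrArg Subtype.val h3
    simpa using h4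
  -- the central involution
  obtain ⟨zbar, hz⟩ : ∃ zbar : N ⧸ A, zbar = e.symm (negOne F) := ⟨_, rfl⟩
  have hzc : ∀ q : N ⧸ A, q * zbar = zbar * q := by
    intro q
    apply e.injective
    rw [map_mul, map_mul, hz, e.apply_symm_apply]
    exact negOne_central (e q)
  have hz2 : zbar * zbar = 1 := by
    apply e.injective
    rw [map_mul, hz, e.apply_symm_apply, map_one]; exact negOne_sq
  have hz1 : zbar ≠ 1 := by
    intro h
    have h3 := congrArg e h
    rw [hz, e.apply_symm_apply, map_one] at h3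
    exact negOne_ne_one h2 h3
  obtain ⟨n₀, hn₀⟩ := QuotientGroup.mk'_surjective A zbar
  have hn₀2 : n₀ ^ 2 ∈ A := by
    have h3 : QuotientGroup.mk' A (n₀ ^ 2) = 1 := by rw [map_pow, hn₀, pow_two, hz2]
    exact (QuotientGroup.eq_one_iff _).mp h3
  obtain ⟨k, hk⟩ := hodd
  obtain ⟨t, ht⟩ : ∃ t, t = n₀ ^ p := ⟨_, rfl⟩
  have ht2 : t * t = 1 := by
    rw [ht, ← pow_add, ← two_mul, pow_mul]; exact hAp _ hn₀2
  have htz : QuotientGroup.mk' A t = zbar := by
    rw [ht, map_pow, hn₀]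
    have h3 : zbar ^ p = zbar ^ (2 * k + 1) := by rw [← hk]
    rw [h3, pow_succ, pow_mul, pow_two, hz2, one_pow, one_mul]
  have ht1 : t ≠ 1 := by
    intro h; rw [h, map_one] at htz; exact hz1 htz.symm
  have htinv : t⁻¹ = t := inv_eq_of_mul_eq_one_right ht2
  have hcomm : ∀ n : N, n * t * n⁻¹ * t⁻¹ ∈ A := by
    intro n
    have h3 : QuotientGroup.mk' A (n * t * n⁻¹ * t⁻¹) = 1 := by
      rw [map_mul, map_mul, map_mul, map_inv, map_inv, htz, hzc, mul_inv_cancel_right,
        mul_inv_cancel]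
    exact (QuotientGroup.eq_one_iff _).mp h3
  -- lifts of the unipotent elements
  obtain ⟨x, hx⟩ := QuotientGroup.mk'_surjective A (e.symm (upper F))
  obtain ⟨y, hy⟩ := QuotientGroup.mk'_surjective A (e.symm (lower F))
  have hxp : x ^ p ∈ A := by
    have h3 : QuotientGroup.mk' A (x ^ p) = 1 := by
      rw [map_pow, hx, ← map_pow, upper_pow_p hpF, map_one]
    exact (QuotientGroup.eq_one_iff _).mp h3
  have hyp : y ^ p ∈ A := by
    have h3 : QuotientGroup.mk' A (y ^ p) = 1 := by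
      rw [map_pow, hy, ← map_pow, lower_pow_p hpF, map_one]
    exact (QuotientGroup.eq_one_iff _).mp h3
  have hxy : (y * x)⁻¹ * (x * y) ∉ A := by
    intro h
    have h3 : QuotientGroup.mk' A ((y * x)⁻¹ * (x * y)) = 1 := (QuotientGroup.eq_one_iff _).mpr h
    rw [map_mul, map_inv, map_mul, map_mul, hx, hy, ← map_mul, ← map_mul, ← map_inv,
      ← map_mul] at h3
    have h4 := (MulEquiv.map_eq_one_iff e.symm).1 h3
    apply upper_lower_ne (F := F)
    have h5 := congrArg (fun g => (lower F * upper F) * g) h4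
    simpa [mul_assoc] using h5
  -- the fixed points of t on A
  obtain ⟨C, hC⟩ : ∃ C, C = A ⊓ Subgroup.centralizer ({t} : Set N) := ⟨_, rfl⟩
  have hmemC : ∀ a, a ∈ C ↔ a ∈ A ∧ a * t = t * a := by
    intro a
    rw [hC, Subgroup.mem_inf, Subgroup.mem_centralizer_singleton_iff]
  have hCA : C ≤ A := by rw [hC]; exact inf_le_left
  haveI hCn : C.Normal := by
    constructor
    intro c hc n
    obtain ⟨hcA, hct⟩ := (hmemC c).1 hc
    rw [hmemC]
    refine ⟨(inferInstance : A.Normal).conj_mem c hcA n, ?_⟩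
    -- n⁻¹ t n = a' t' form
    obtain ⟨a', ha'⟩ : ∃ a', a' = n⁻¹ * t * n⁻¹⁻¹ * t⁻¹ := ⟨_, rfl⟩
    have ha'A : a' ∈ A := ha' ▸ hcomm n⁻¹
    have e1 : n⁻¹ * t * n = a' * t := by rw [ha']; group
    have hac : a' * c = c * a' := hAab a' ha'A c hcA
    -- t (n c n⁻¹) = n (n⁻¹ t n) c n⁻¹ = n a' t c n⁻¹ = n a' c t n⁻¹ = n c a' t n⁻¹ = n c (n⁻¹ t n) n⁻¹ = n c n⁻¹ t
    calc n * c * n⁻¹ * t = n * c * (n⁻¹ * t * n) * n⁻¹ := by group
      _ = n * c * (a' * t) * n⁻¹ := by rw [e1]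
      _ = n * (c * a') * t * n⁻¹ := by group
      _ = n * (a' * c) * t * n⁻¹ := by rw [hac]
      _ = n * a' * (c * t) * n⁻¹ := by group
      _ = n * a' * (t * c) * n⁻¹ := by rw [hct]
      _ = n * (a' * t) * c * n⁻¹ := by group
      _ = n * (n⁻¹ * t * n) * c * n⁻¹ := by rw [e1]
      _ = t * (n * c * n⁻¹) := by group
  have hCbot : C = ⊥ := by
    have hdvd : Nat.card C ∣ p ^ 2 := by rw [← hAcard]; exact Subgroup.card_dvd_of_le hCA
    obtain ⟨j, hj, hjc⟩ := (Nat.dvd_prime_pow hpp).1 hdvd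
    interval_cases j
    · rw [pow_zero] at hjc; exact Subgroup.eq_bot_of_card_eq C hjc
    · exfalso
      rw [pow_one] at hjc
      exact irr_lemma A hAab hAcard hAp hAself x y hxp hyp hxy C hCA hjc
    · exfalso
      have hCeq : C = A := Subgroup.eq_of_le_of_card_ge hCA (by rw [hjc, hAcard])
      have htA : t ∈ A := by
        rw [← hAself, Subgroup.mem_centralizer_iff]
        intro a ha
        rw [← hCeq] at ha
        exact ((hmemC a).1 ha).2
      have htp : t ^ p = 1 := hAp t htA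
      have h3 : t ^ p = t := by
        rw [hk, pow_succ, pow_mul, pow_two, ht2, one_pow, one_mul]
      rw [h3] at htp
      exact ht1 htp
  -- t inverts A
  have hinvert : ∀ a ∈ A, t * a * t⁻¹ = a⁻¹ := by
    intro a ha
    have hta : t * a * t⁻¹ ∈ A := (inferInstance : A.Normal).conj_mem a ha t
    have hb : a * (t * a * t⁻¹) ∈ C := by
      rw [hmemC]
      refine ⟨A.mul_mem ha hta, ?_⟩
      have hc1 : a * (t * a * t⁻¹) = (t * a * t⁻¹) * a := hAab a ha _ hta
      calc a * (t * a * t⁻¹) * t = a * t * a * (t⁻¹ * t) := by group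
        _ = a * t * a := by rw [inv_mul_cancel, mul_one]
        _ = t * ((t⁻¹ * a * t) * a) := by group
        _ = t * ((t * a * t⁻¹) * a) := by rw [htinv]
        _ = t * (a * (t * a * t⁻¹)) := by rw [hc1]
    rw [hCbot, Subgroup.mem_bot] at hb
    exact (eq_inv_of_mul_eq_one_right hb)
  refine ⟨Subgroup.centralizer ({t} : Set N), ?_, ?_⟩
  · rw [← hC]; exact hCbot
  · rw [eq_top_iff]
    intro n _
    obtain ⟨a', ha'⟩ : ∃ a', a' = n * t * n⁻¹ * t⁻¹ := ⟨_, rfl⟩
    have ha'A : a' ∈ A := ha' ▸ hcomm n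
    have e1 : n * t * n⁻¹ = a' * t := by rw [ha']; group
    obtain ⟨b, hb⟩ : ∃ b, b = a' ^ (k + 1) := ⟨_, rfl⟩
    have hbA : b ∈ A := hb ▸ A.pow_mem ha'A _
    have hb2 : b * b = a' := by
      rw [hb, ← pow_add]
      have h3 : k + 1 + (k + 1) = p + 1 := by omega
      rw [h3, pow_succ, hAp a' ha'A, one_mul]
    have hbt : t * b⁻¹ * t⁻¹ = b := by
      have h3 := hinvert b⁻¹ (A.inv_mem hbA)
      rwa [inv_inv] at h3
    have hmem : b⁻¹ * n ∈ Subgroup.centralizer ({t} : Set N) := by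
      rw [Subgroup.mem_centralizer_singleton_iff]
      -- (b⁻¹ n) t = t (b⁻¹ n)
      have h4 : b⁻¹ * n * t = b⁻¹ * (n * t * n⁻¹) * n := by group
      rw [h4, e1, ← hb2]
      -- b⁻¹ * (b * b * t) * n = t * (b⁻¹ * n)
      have h5 : b⁻¹ * (b * b * t) * n = b * t * n := by group
      rw [h5]
      have h6 : b * t = t * b⁻¹ := by
        calc b * t = (t * b⁻¹ * t⁻¹) * t := by rw [hbt]
          _ = t * b⁻¹ := by group
      rw [h6, mul_assoc]
    have h7 : n = b * (b⁻¹ * n) := by group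
    rw [h7]
    exact Subgroup.mul_mem_sup hbA hmem

end Cfsg.Agent.S3075
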