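import Cfsg.Statements.S3084
import Cfsg.Agent.Lib.Helper5.ESOut.SpinExt
import Cfsg.Agent.H9.QuadStd
import Cfsg.Agent.Lib.Helper8.MinusTS

set_option autoImplicit false
open Cfsg

open Cfsg.Agent.Lib.Helper5.ESOut Cfsg.Agent.Lib.Helper5.ESOut.Spin Matrix

namespace Cfsg.Agent.S3084

section aux

variable {K : Type*} [Group K] {U : Type*} [AddCommGroup U] [Module (ZMod 2) U] {n : ℕ}
  (ρ : Representation (ZMod 2) K U) (g : U ≃ₗ[ZMod 2] (Fin n ⊕ Fin n → ZMod 2))

/-- the transported action as a linear map -/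
def lk (k : K) : (Fin n ⊕ Fin n → ZMod 2) →ₗ[ZMod 2] (Fin n ⊕ Fin n → ZMod 2) :=
  g.toLinearMap ∘ₗ ρ k ∘ₗ g.symm.toLinearMap

theorem lk_apply (k : K) (v : Fin n ⊕ Fin n → ZMod 2) : lk ρ g k v = g (ρ k (g.symm v)) := rfl

/-- the transported action in matrix form -/
def matK : K →* Matrix (Fin n ⊕ Fin n) (Fin n ⊕ Fin n) (ZMod 2) where
  toFun k := LinearMap.toMatrix' (lk ρ g k)
  map_one' := by
    have : lk ρ g 1 = LinearMap.id := by
      apply LinearMap.ext; intro v
      rw [lk_apply, map_one]; simp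
    rw [this, LinearMap.toMatrix'_id]
  map_mul' k k' := by
    have : lk ρ g (k * k') = (lk ρ g k).comp (lk ρ g k') := by
      apply LinearMap.ext; intro v
      rw [LinearMap.comp_apply, lk_apply, lk_apply, lk_apply, map_mul]; simp
    rw [this, LinearMap.toMatrix'_comp]

/-- the transported action in the general linear group -/
def glK : K →* GL (Fin n ⊕ Fin n) (ZMod 2) := (matK ρ g).toHomUnits

theorem glK_mulVec (k : K) (v : Fin n ⊕ Fin n → ZMod 2) :
    ((glK ρ g k : GL (Fin n ⊕ Fin n) (ZMod 2)) : Matrix _ _ (ZMod 2)) *ᵥ v = g (ρ k (g.symm v)) := by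
  change LinearMap.toMatrix' (lk ρ g k) *ᵥ v = _
  rw [LinearMap.toMatrix'_mulVec, lk_apply]

theorem glK_mem (q : QuadraticForm (ZMod 2) U) (hq : ∀ (k : K) (u : U), q (ρ k u) = q u)
    (hg : ∀ v, Cfsg.quadFormPlus n (ZMod 2) (g v) = q v) (k : K) : glK ρ g k ∈ Iso n := by
  rw [Cfsg.Agent.Lib.Helper5.Orth.mem_iso_iff]
  intro v
  rw [glK_mulVec]
  have h1 : bl (Aplus n) (g (ρ k (g.symm v))) (g (ρ k (g.symm v))) =
      Cfsg.quadFormPlus n (ZMod 2) (g (ρ k (g.symm v))) := congrFun (Q_Aplus n) _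
  have h2 : bl (Aplus n) v v = Cfsg.quadFormPlus n (ZMod 2) v := congrFun (Q_Aplus n) v
  rw [h1, h2, hg, hq, ← hg, LinearEquiv.apply_symm_apply]

/-- the transported action in the isometry group -/
def gKhom (q : QuadraticForm (ZMod 2) U) (hq : ∀ (k : K) (u : U), q (ρ k u) = q u)
    (hg : ∀ v, Cfsg.quadFormPlus n (ZMod 2) (g v) = q v) : K →* ↥(Iso n) :=
  (glK ρ g).codRestrict (Iso n) (glK_mem ρ g q hq hg)

theorem gKhom_coe (q : QuadraticForm (ZMod 2) U) (hq : ∀ (k : K) (u : U), q (ρ k u) = q u)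
    (hg : ∀ v, Cfsg.quadFormPlus n (ZMod 2) (g v) = q v) (k : K) :
    ((gKhom ρ g q hq hg k : ↥(Iso n)) : GL (Fin n ⊕ Fin n) (ZMod 2)) = glK ρ g k := rfl

theorem gKhom_injective (q : QuadraticForm (ZMod 2) U) (hq : ∀ (k : K) (u : U), q (ρ k u) = q u)
    (hg : ∀ v, Cfsg.quadFormPlus n (ZMod 2) (g v) = q v) (hρ : Function.Injective ρ) :
    Function.Injective (gKhom ρ g q hq hg) := by
  intro k k' h
  apply hρ
  apply LinearMap.ext
  intro u
  have h1 : glK ρ g k = glK ρ g k' := congrArg Subtype.val h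
  have h2 := glK_mulVec ρ g k (g u)
  rw [h1, glK_mulVec, LinearEquiv.symm_apply_apply] at h2
  exact (g.injective h2).symm

end aux


/-- Let K be a group acting faithfully and linearly on a finite-dimensional vector space U of dimension 2n ≥ 2 over the field with two elements, preserving a quadratic form q whose polar bilinear form is non-degenerate and which vanishes on some n-dimensional subspace (a non-singular form of plus type). Then there is a finite group R with a normal extraspecial 2-subgroup Q of order 2^(2n+1), an isomorphism of R/Q with K, and a surjective homomorphism χ from Q onto (the additive group of) U with kernel the centre of Q, such that χ carries conjugation by any r in R to the action of the image of r in K, and an element a of Q squares to the identity exactly when q vanishes at χ(a). -/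
theorem result {K : Type*} [Group K] {U : Type*} [AddCommGroup U] [Module (ZMod 2) U] [Module.Finite (ZMod 2) U] (n : ℕ) (hn1 : 1 ≤ n) (hn : Module.finrank (ZMod 2) U = 2 * n) (ρ : Representation (ZMod 2) K U) (hρ : Function.Injective ρ) (q : QuadraticForm (ZMod 2) U) (hq : ∀ (k : K) (u : U), q (ρ k u) = q u) (hnd : (QuadraticMap.polarBilin q).Nondegenerate) (hplus : ∃ W : Submodule (ZMod 2) U, Module.finrank (ZMod 2) ↥W = n ∧ ∀ w ∈ W, q w = 0) : ∃ (R : Type) (_ : Group R) (_ : Finite R) (Q : Subgroup R) (hN : Q.Normal) (e : R ⧸ Q ≃* K) (χ : ↥Q →* Multiplicative U), Cfsg.IsExtraspecial 2 ↥Q ∧ Nat.card ↥Q = 2 ^ (2 * n + 1) ∧ Function.Surjective χ ∧ χ.ker = Subgroup.center ↥Q ∧ (∀ (r : R) (a : ↥Q), χ ⟨r * a * r⁻¹, hN.conj_mem (a : R) a.2 r⟩ = Multiplicative.ofAdd (ρ (e (r : R ⧸ Q)) (Multiplicative.toAdd (χ a)))) ∧ ∀ a : ↥Q, a * a = 1 ↔ q (Multiplicative.toAdd (χ a)) = 0 := by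
  classical
  obtain ⟨k0, rfl⟩ : ∃ k0, n = k0 + 1 := ⟨n - 1, by omega⟩
  have hV : Module.finrank (ZMod 2) U = 2 * k0 + 2 := by rw [hn]; ring
  rcases Cfsg.Agent.H9.QuadStd.classify_even q hnd k0 hV with ⟨g, hg⟩ | ⟨ζ, hζ, g, hg⟩
  · obtain ⟨R, iG, iF, Q, hN, e, χ, h1, h2, h3, h4, h5, h6⟩ :=
      main_ext (gKhom ρ g q hq hg) (by omega) (gKhom_injective ρ g q hq hg hρ)
    let χ' : ↥Q →* Multiplicative U :=
      (AddMonoidHom.toMultiplicative g.symm.toLinearMap.toAddMonoidHom).comp χ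
    have hχ' : ∀ a, Multiplicative.toAdd (χ' a) = g.symm (Multiplicative.toAdd (χ a)) := fun a => rfl
    refine ⟨R, iG, iF, Q, hN, e, χ', h1, h2, ?_, ?_, ?_, ?_⟩
    · intro u
      obtain ⟨a, ha⟩ := h3 (Multiplicative.ofAdd (g (Multiplicative.toAdd u)))
      refine ⟨a, ?_⟩
      apply Multiplicative.toAdd.injective
      rw [hχ', ha]
      simp
    · rw [← h4]
      ext a
      rw [MonoidHom.mem_ker, MonoidHom.mem_ker]
      constructor
      · intro h
        have h7 : g.symm (Multiplicative.toAdd (χ a)) = 0 := by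
          rw [← hχ', h]; rfl
        have h8 : Multiplicative.toAdd (χ a) = 0 := by
          simpa using h7
        apply Multiplicative.toAdd.injective
        rw [h8]; rfl
      · intro h
        apply Multiplicative.toAdd.injective
        rw [hχ', h]
        simp
    · intro r a
      apply Multiplicative.toAdd.injective
      rw [hχ', h5 r a, toAdd_ofAdd, hχ']
      rw [gKhom_coe, glK_mulVec, LinearEquiv.symm_apply_apply]
    · intro a
      rw [h6 a, hχ', ← hg, LinearEquiv.apply_symm_apply]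
      exact Iff.of_eq (congrArg (· = 0) (congrFun (Q_Aplus (k0 + 1)) _))
  · exfalso
    obtain ⟨W, hW, hWq⟩ := hplus
    have hz : ζ = 1 := by
      have h0 := hζ 0
      have key : ∀ z : ZMod 2, (0 : ZMod 2) ^ 2 + 0 + z ≠ 0 → z = 1 := by decide
      exact key ζ h0
    subst hz
    have hab : ∀ z₁ z₂ : ZMod 2, z₁ ^ 2 + 1 * z₁ * z₂ + 1 * z₂ ^ 2 = 0 → z₁ = 0 ∧ z₂ = 0 := by decide
    have hts := Cfsg.Agent.Lib.Helper8.MinusTS.no_ts k0 1 1 hab (W.map g.toLinearMap) (by
      rintro w ⟨u, hu, rfl⟩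
      change Cfsg.quadFormMinus k0 (ZMod 2) 1 1 (g u) = 0
      rw [hg, hWq u hu])
    rw [LinearEquiv.finrank_map_eq, hW] at hts
    omega

end Cfsg.Agent.S3084
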