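import Mathlib
import Cfsg.Statements.S3155

set_option autoImplicit false
open Cfsg

namespace Cfsg.Agent.S3155

abbrev M := ZMod 4 × ZMod 4 × ZMod 4

theorem no_sqrt : ∀ x : ZMod 4, x * x ≠ -1 := by decide

theorem finrank_M : Module.finrank (ZMod 4) M = 3 := by
  have : Fact (1 < 4) := ⟨by norm_num⟩
  show Module.finrank (ZMod 4) (ZMod 4 × ZMod 4 × ZMod 4) = 3
  rw [Module.finrank_prod, Module.finrank_prod, Module.finrank_self]

theorem no_linear (T : M →ₗ[ZMod 4] M) (h : ∀ x, T (T x) = -x) : False := by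
  have h1 : T ∘ₗ T = (-1 : ZMod 4) • LinearMap.id := by
    ext <;> simp [h]
  have h2 := congrArg LinearMap.det h1
  rw [LinearMap.det_comp, LinearMap.det_smul, finrank_M, LinearMap.det_id] at h2
  apply no_sqrt (LinearMap.det T)
  rw [h2]
  decide

theorem result {B : Type*} [CommGroup B] [Finite B] (hB : Nonempty (B ≃* Multiplicative (ZMod 4 × ZMod 4 × ZMod 4)))
    (τ : B ≃* B) : τ.trans τ ≠ MulEquiv.inv B := by
  intro hτ
  obtain ⟨e⟩ := hB
  have hττ : ∀ b : B, τ (τ b) = b⁻¹ := by
    intro b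
    have := congrArg (fun f : B ≃* B => f b) hτ
    simpa using this
  let f : M →+ M :=
    { toFun := fun x => Multiplicative.toAdd (e (τ (e.symm (Multiplicative.ofAdd x))))
      map_zero' := by simp
      map_add' := by intro x y; simp [ofAdd_add, map_mul, toAdd_mul] }
  apply no_linear (AddMonoidHom.toZModLinearMap 4 f)
  intro x
  show Multiplicative.toAdd (e (τ (e.symm (Multiplicative.ofAdd
    (Multiplicative.toAdd (e (τ (e.symm (Multiplicative.ofAdd x))))))))) = -x
  simp [hττ, map_inv]

end Cfsg.Agent.S3155
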