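import Mathlib
import Cfsg.Statements.S3156
import Cfsg.Agent.S1248

set_option autoImplicit false
open Cfsg

namespace Cfsg.Agent.S3156


section Part0

open Matrix Cfsg Cfsg.Agent.S1248

section coords

variable {F : Type*} [Field F] [Fintype F]

/-- any Sylow 2-subgroup of `PSU 3 F 4` is isomorphic to the explicit group `U` -/
theorem exists_equiv_U (hF : Fintype.card F = 16) (S : Sylow 2 (Cfsg.PSU 3 F 4)) :
    Nonempty ((S : Subgroup (Cfsg.PSU 3 F 4)) ≃* U hF) := by
  classical
  haveI : Finite (SU 3 F 4) := Nat.finite_of_card_ne_zero (by rw [card_SU hF]; norm_num)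
  haveI : Finite (PSU 3 F 4) := Finite.of_equiv _ (kappa hF).symm.toEquiv
  have hG : Nat.card (PSU 3 F 4) = 62400 := by
    rw [Nat.card_congr (kappa hF).toEquiv, card_SU hF]
  have hU64 : Nat.card (U hF) = 64 := (U_core hF (MulEquiv.refl _)).1
  let U' : Subgroup (PSU 3 F 4) := (U hF).map (kappa hF).symm.toMonoidHom
  let eU : U hF ≃* U' := (U hF).equivMapOfInjective (kappa hF).symm.toMonoidHom (kappa hF).symm.injective
  have hU' : Nat.card U' = 2 ^ (Nat.card (PSU 3 F 4)).factorization 2 := by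
    rw [hG, fact_62400, ← Nat.card_congr eU.toEquiv, hU64]; norm_num
  let P : Sylow 2 (PSU 3 F 4) := Sylow.ofCard U' hU'
  obtain ⟨g, hg⟩ := MulAction.exists_smul_eq (PSU 3 F 4) P S
  have e1 : P ≃* (g • P : Sylow 2 (PSU 3 F 4)) := Sylow.equivSMul P g
  rw [← hg]
  exact ⟨e1.symm.trans eU.symm⟩

/-- coordinates on a group isomorphic to `U` -/
theorem exists_coords (hF : Fintype.card F = 16) {X : Type*} [Group X] (e : X ≃* U hF) :
    ∃ a b : X → F, (∀ x y, a (x * y) = a x + a y) ∧
      (∀ x y, b (x * y) = b x + b y + a x * (a y) ^ 4) ∧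
      (∀ x y, a x = a y → b x = b y → x = y) ∧
      (∀ x, b x + (b x) ^ 4 = a x * (a x) ^ 4) ∧
      (∀ a0 b0 : F, b0 + b0 ^ 4 = a0 * a0 ^ 4 → ∃ x, a x = a0 ∧ b x = b0) := by
  have hrep : ∀ x : U hF, toM x.1 = Mab (toM x.1 0 2) (toM x.1 0 1) ∧
      (toM x.1 0 1) + (toM x.1 0 1) ^ 4 = (toM x.1 0 2) * (toM x.1 0 2) ^ 4 := by
    rintro ⟨g, a, b, hc, hg⟩
    show toM g = Mab (toM g 0 2) (toM g 0 1) ∧ _
    rw [hg, Mab_02, Mab_01]
    exact ⟨rfl, hc⟩
  refine ⟨fun x => toM (e x).1 0 2, fun x => toM (e x).1 0 1, ?_, ?_, ?_, ?_, ?_⟩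
  · intro x y
    show toM (e (x * y)).1 0 2 = toM (e x).1 0 2 + toM (e y).1 0 2
    rw [map_mul, Subgroup.coe_mul, toM_mul, (hrep (e x)).1, (hrep (e y)).1, Mab_mul hF, Mab_02,
      Mab_02, Mab_02]
  · intro x y
    show toM (e (x * y)).1 0 1 = toM (e x).1 0 1 + toM (e y).1 0 1 + toM (e x).1 0 2 * (toM (e y).1 0 2) ^ 4
    rw [map_mul, Subgroup.coe_mul, toM_mul, (hrep (e x)).1, (hrep (e y)).1, Mab_mul hF, Mab_01,
      Mab_01, Mab_01, Mab_02, Mab_02]
  · intro x y h1 h2
    beta_reduce at h1 h2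
    apply e.injective
    apply Subtype.ext
    apply toM_inj
    rw [(hrep (e x)).1, (hrep (e y)).1, h1, h2]
  · intro x
    exact (hrep (e x)).2
  · intro a0 b0 h
    refine ⟨e.symm ⟨mkSU hF a0 b0 h, a0, b0, h, rfl⟩, ?_, ?_⟩
    · show toM (e (e.symm _)).1 0 2 = a0
      rw [MulEquiv.apply_symm_apply]
      show toM (mkSU hF a0 b0 h) 0 2 = a0
      rw [toM_mkSU, Mab_02]
    · show toM (e (e.symm _)).1 0 1 = b0
      rw [MulEquiv.apply_symm_apply]
      show toM (mkSU hF a0 b0 h) 0 1 = b0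
      rw [toM_mkSU, Mab_01]

/-- the key algebraic fact about the norm `t ↦ t * t^4` on the field of 16 elements -/
theorem norm_lemma (hF : Fintype.card F = 16) (w w' : F) (h1 : w' * w' ^ 4 = w * w ^ 4)
    (h2 : (w + w') * (w + w') ^ 4 = w * w ^ 4) : w = 0 := by
  by_contra hw
  have h2' := two_eq_zero hF
  rw [fadd hF] at h2
  set u : F := w' * w⁻¹ with hu
  have hw' : w' = u * w := by rw [hu, mul_assoc, inv_mul_cancel₀ hw, mul_one]
  have hw5 : w * w ^ 4 ≠ 0 := mul_ne_zero hw (pow_ne_zero 4 hw)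
  have e1 : u * u ^ 4 = 1 := by
    apply mul_right_cancel₀ hw5
    rw [hw'] at h1
    linear_combination h1
  have e2 : u ^ 4 + u = 1 := by
    apply mul_right_cancel₀ hw5
    rw [hw'] at h2 h1
    linear_combination h2 - h1 - (w * w ^ 4) * h2'
  have e3 : u ^ 2 = u + 1 := by
    linear_combination u * e2 - e1 - h2'
  have e4 : u ^ 4 = u := by
    linear_combination (u ^ 2 + u + 1) * e3 + e3 + (u + 1) * h2'
  have : (1 : F) = 0 := by linear_combination -e2 + e4 + u * h2'
  exact one_ne_zero this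

end coords

end Part0

section Part1

open Cfsg Cfsg.Agent.S1248

section abstract

variable {F : Type*} [Field F] [Fintype F] {X : Type*} [Group X] [Finite X]

structure Coords (a b : X → F) : Prop where
  ha : ∀ x y, a (x * y) = a x + a y
  hb : ∀ x y, b (x * y) = b x + b y + a x * (a y) ^ 4
  hinj : ∀ x y, a x = a y → b x = b y → x = y
  hcond : ∀ x, b x + (b x) ^ 4 = a x * (a x) ^ 4
  hsurj : ∀ a0 b0 : F, b0 + b0 ^ 4 = a0 * a0 ^ 4 → ∃ x, a x = a0 ∧ b x = b0

variable {a b : X → F}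

theorem dbl (hF : Fintype.card F = 16) (t : F) : t + t = 0 := by
  have : t + t = 2 * t := by ring
  rw [this, two_eq_zero hF, zero_mul]

theorem eq_of_add_eq_zero (hF : Fintype.card F = 16) {s t : F} (h : s + t = 0) : s = t := by
  have := dbl hF t
  linear_combination h - this

theorem Coords.a_one (C : Coords a b) : a 1 = 0 := by
  have := C.ha 1 1
  rw [mul_one] at this
  linear_combination -this

theorem Coords.b_one (C : Coords a b) : b 1 = 0 := by
  have := C.hb 1 1
  rw [mul_one, C.a_one, zero_mul, add_zero] at this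
  linear_combination -this

theorem Coords.a_inv (C : Coords a b) (g : X) : a g⁻¹ = -a g := by
  have := C.ha g g⁻¹
  rw [mul_inv_cancel, C.a_one] at this
  linear_combination -this

theorem Coords.eq_one (C : Coords a b) {g : X} (h1 : a g = 0) (h2 : b g = 0) : g = 1 :=
  C.hinj g 1 (by rw [h1, C.a_one]) (by rw [h2, C.b_one])

theorem Coords.a_sq (hF : Fintype.card F = 16) (C : Coords a b) (g : X) : a (g * g) = 0 := by
  rw [C.ha]; exact dbl hF _

theorem Coords.b_sq (hF : Fintype.card F = 16) (C : Coords a b) (g : X) :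
    b (g * g) = a g * (a g) ^ 4 := by
  rw [C.hb]
  have := dbl hF (b g)
  linear_combination this

theorem Coords.mem_center (hF : Fintype.card F = 16) (C : Coords a b) (x : X) :
    x ∈ Subgroup.center X ↔ a x = 0 := by
  rw [Subgroup.mem_center_iff]
  constructor
  · intro hx
    by_contra hne
    obtain ⟨w, hw⟩ := exists_not_fixed hF
    obtain ⟨b0, hb0⟩ := exists_b hF (a x * w)
    obtain ⟨y, hy, _⟩ := C.hsurj _ b0 hb0
    have h1 := congrArg b (hx y)
    rw [C.hb, C.hb, hy] at h1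
    apply hw
    have h3 : a x * w * (a x) ^ 4 = a x * (a x * w) ^ 4 := by linear_combination h1
    have h4 : a x * (a x) ^ 4 ≠ 0 := mul_ne_zero hne (pow_ne_zero 4 hne)
    apply mul_left_cancel₀ h4
    rw [mul_pow] at h3
    linear_combination -h3
  · intro hx y
    apply C.hinj
    · rw [C.ha, C.ha]; ring
    · rw [C.hb, C.hb, hx]; ring

theorem Coords.aut_center (hF : Fintype.card F = 16) (C : Coords a b) (φ : MulAut X) (g : X) :
    a (φ g) = 0 ↔ a g = 0 := by
  rw [← C.mem_center hF, ← C.mem_center hF, Subgroup.mem_center_iff, Subgroup.mem_center_iff]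
  constructor
  · intro h y
    apply φ.injective
    rw [map_mul, map_mul]
    exact h (φ y)
  · intro h y
    obtain ⟨y', rfl⟩ := φ.surjective y
    rw [← map_mul, ← map_mul, h y']

theorem Coords.central_sq (hF : Fintype.card F = 16) (C : Coords a b) {z : X} (hz : a z = 0) :
    z * z = 1 := by
  apply C.eq_one
  · exact C.a_sq hF z
  · rw [C.b_sq hF, hz]; ring

/-- well-definedness of the action on `X / Z` -/
theorem Coords.aut_wd (hF : Fintype.card F = 16) (C : Coords a b) (φ : MulAut X) {g g' : X}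
    (h : a g = a g') : a (φ g) = a (φ g') := by
  have h1 : a (g⁻¹ * g') = 0 := by rw [C.ha, C.a_inv, h]; ring
  have h2 := (C.aut_center hF φ _).2 h1
  rw [map_mul, C.ha, map_inv, C.a_inv] at h2
  linear_combination -h2

/-- an automorphism of order dividing 3 which is trivial on the centre is trivial -/
theorem Coords.caseB (hF : Fintype.card F = 16) (C : Coords a b) (ρ : MulAut X)
    (h3 : ∀ g, ρ (ρ (ρ g)) = g) (hZ : ∀ z, a z = 0 → ρ z = z) : ∀ g, ρ g = g := by
  have F1 : ∀ g, a (ρ g) * (a (ρ g)) ^ 4 = a g * (a g) ^ 4 := by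
    intro g
    rw [← C.b_sq hF, ← C.b_sq hF, ← map_mul, hZ _ (C.a_sq hF g)]
  have ha : ∀ g, a (ρ g) = a g := by
    intro g
    set h := g * ρ g with hh
    have e0 : a h = a g + a (ρ g) := by rw [hh, C.ha]
    have e1 : a (ρ h) = a (ρ g) + a (ρ (ρ g)) := by rw [hh, map_mul, C.ha]
    have e2 : a (ρ (ρ h)) = a (ρ (ρ g)) + a g := by rw [hh, map_mul, map_mul, C.ha, h3]
    have n1 := F1 h
    have n2 := F1 (ρ h)
    have hsum : a h + a (ρ h) = a (ρ (ρ h)) := by
      rw [e0, e1, e2]
      have := dbl hF (a (ρ g))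
      linear_combination this
    have hw : a h = 0 := by
      apply norm_lemma hF (a h) (a (ρ h)) n1
      rw [hsum, n2, n1]
    rw [e0] at hw
    exact (eq_of_add_eq_zero hF hw).symm
  intro g
  set z := g⁻¹ * ρ g with hz
  have hza : a z = 0 := by rw [hz, C.ha, C.a_inv, ha]; ring
  have hρg : ρ g = g * z := by rw [hz]; group
  have hρz : ρ z = z := hZ z hza
  have h4 := h3 g
  simp only [hρg, map_mul, hρz] at h4
  have hzz := C.central_sq hF hza
  have : z = 1 := by
    have h5 : g * z * z * z = g := h4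
    rw [mul_assoc (g * z), hzz, mul_one] at h5
    exact mul_left_cancel (a := g) (by rw [h5, mul_one])
  rw [hρg, this, mul_one]

end abstract

end Part1

section Part2

open Cfsg Cfsg.Agent.S1248

section abstract2

variable {F : Type*} [Field F] [Fintype F] {X : Type*} [Group X] [Finite X]
variable {a b : X → F}

/-- no involutory automorphism moves a central element -/
theorem Coords.caseA (hF : Fintype.card F = 16) (C : Coords a b) (x : MulAut X)
    (hx2 : ∀ g, x (x g) = g) (z0 : X) (hz0 : a z0 = 0) (hne : x z0 ≠ z0) : False := by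
  classical
  have hxz0 : a (x z0) = 0 := (C.aut_center hF x z0).2 hz0
  have hz0c : z0 ∈ Subgroup.center X := (C.mem_center hF z0).2 hz0
  have hz0sq : z0 * z0 = 1 := C.central_sq hF hz0
  set c1 := z0 * x z0 with hc1
  have hc1a : a c1 = 0 := by rw [hc1, C.ha, hz0, hxz0]; ring
  have hc1x : x c1 = c1 := by
    rw [hc1, map_mul, hx2]
    exact (Subgroup.mem_center_iff.1 hz0c (x z0))
  have hc1ne : c1 ≠ 1 := by
    intro h
    apply hne
    have : z0 * x z0 = z0 * z0 := by rw [← hc1, h, hz0sq]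
    exact mul_left_cancel this
  -- the subgroup of fixed central elements
  let M : Subgroup X :=
    { carrier := {z | a z = 0 ∧ x z = z}
      one_mem' := ⟨C.a_one, map_one x⟩
      mul_mem' := by
        rintro u v ⟨hu, hu'⟩ ⟨hv, hv'⟩
        exact ⟨by rw [C.ha, hu, hv]; ring, by rw [map_mul, hu', hv']⟩
      inv_mem' := by
        rintro u ⟨hu, hu'⟩
        exact ⟨by rw [C.a_inv, hu]; ring, by rw [map_inv, hu']⟩ }
  have hMle : M ≤ Subgroup.center X := fun z hz => (C.mem_center hF z).2 hz.1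
  have hcard4 : Nat.card (Subgroup.center X) = 4 :=
    (core hF a b C.ha C.hb C.hinj C.hcond C.hsurj).2.1.card_four
  have hMcard : Nat.card M = 2 := by
    have hd : Nat.card M ∣ 4 := hcard4 ▸ Subgroup.card_dvd_of_le hMle
    have h4 : Nat.card M ≠ 4 := by
      intro h
      have : M = Subgroup.center X := Subgroup.eq_of_le_of_card_ge hMle (by rw [h, hcard4])
      have hz0M : z0 ∈ M := by rw [this]; exact hz0c
      exact hne hz0M.2
    have h1 : 1 < Nat.card M := by
      rw [Subgroup.one_lt_card_iff_ne_bot]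
      intro h
      have : c1 ∈ M := ⟨hc1a, hc1x⟩
      rw [h, Subgroup.mem_bot] at this
      exact hc1ne this
    have hle : Nat.card M ≤ 4 := Nat.le_of_dvd (by norm_num) hd
    interval_cases (Nat.card M) <;> omega
  have hM : ∀ z, a z = 0 → x z = z → z = 1 ∨ z = c1 := by
    intro z hz hz'
    obtain ⟨y, _, hy⟩ := (Nat.card_eq_two_iff' (1 : M)).1 hMcard
    by_cases h1 : z = 1
    · exact Or.inl h1
    · right
      have e1 : (⟨z, hz, hz'⟩ : M) = y := hy _ (fun h => h1 (congrArg Subtype.val h))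
      have e2 : (⟨c1, hc1a, hc1x⟩ : M) = y := hy _ (fun h => hc1ne (congrArg Subtype.val h))
      exact congrArg Subtype.val (e1.trans e2.symm)
  -- the induced map on F
  have hlift : ∀ t : F, ∃ g, a g = t := fun t => by
    obtain ⟨b0, hb0⟩ := exists_b hF t
    obtain ⟨g, hg, _⟩ := C.hsurj t b0 hb0
    exact ⟨g, hg⟩
  choose lift hlift' using hlift
  let x1 : F →+ F :=
    { toFun := fun t => a (x (lift t))
      map_zero' := (C.aut_center hF x _).2 (hlift' 0)
      map_add' := fun s t => by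
        have h1 : a (lift (s + t)) = a (lift s * lift t) := by
          rw [hlift', C.ha, hlift', hlift']
        rw [C.aut_wd hF x h1, map_mul, C.ha] }
  have hx1 : ∀ g, a (x g) = x1 (a g) := fun g => C.aut_wd hF x (hlift' (a g)).symm
  have hx1x1 : ∀ t, x1 (x1 t) = t := by
    intro t
    have h1 : x1 t = a (x (lift t)) := rfl
    rw [h1, ← hx1, hx2, hlift']
  let T : F →+ F := AddMonoidHom.id F + x1
  have hT : ∀ t, T t = t + x1 t := fun t => rfl
  have hTT : ∀ t, T (T t) = 0 := by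
    intro t
    rw [hT, hT, map_add, hx1x1]
    have := dbl hF (t + x1 t)
    linear_combination this
  have hrk : T.range ≤ T.ker := by
    rintro _ ⟨t, rfl⟩
    exact hTT t
  have hker4 : 4 ≤ Nat.card T.ker := by
    have h1 := AddSubgroup.card_eq_card_quotient_mul_card_addSubgroup T.ker
    have h3 : Nat.card (F ⧸ T.ker) = Nat.card T.range :=
      Nat.card_congr (QuotientAddGroup.quotientKerEquivRange T).toEquiv
    have h4 : Nat.card T.range ≤ Nat.card T.ker := AddSubgroup.card_le_of_le hrk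
    rw [h3, Nat.card_eq_fintype_card, hF] at h1
    nlinarith
  have hfix : ∀ t, t ∈ T.ker → x1 t = t := by
    intro t ht
    have : t + x1 t = 0 := ht
    exact (eq_of_add_eq_zero hF this).symm
  -- three distinct elements of the kernel
  have h3 : ∃ p q r : T.ker, p ≠ q ∧ p ≠ r ∧ q ≠ r := by
    rw [← Fintype.two_lt_card_iff, ← Nat.card_eq_fintype_card]
    omega
  obtain ⟨p, q, r, hpq, hpr, hqr⟩ := h3
  -- norms of fixed vectors
  have hN : ∀ t, x1 t = t → t ≠ 0 → t * t ^ 4 = b c1 := by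
    intro t ht ht0
    set g := lift t with hg
    have hag : a g = t := hlift' t
    have haxg : a (x g) = t := by rw [hx1, hag, ht]
    have hsqfix : x (g * g) = g * g := by
      apply C.hinj
      · rw [map_mul, C.a_sq hF, C.a_sq hF]
      · rw [map_mul, C.b_sq hF, C.b_sq hF, haxg, hag]
    rcases hM (g * g) (C.a_sq hF g) hsqfix with h | h
    · exfalso
      have := C.b_sq hF g
      rw [h, C.b_one, hag] at this
      rcases mul_eq_zero.1 this.symm with h' | h'
      · exact ht0 h'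
      · exact ht0 (pow_eq_zero_iff (by norm_num) |>.1 h')
    · rw [← h, C.b_sq hF, hag]
  set t1 : F := (q : F) + (p : F) with ht1
  set t2 : F := (r : F) + (p : F) with ht2
  have ht1k : t1 ∈ T.ker := T.ker.add_mem q.2 p.2
  have ht2k : t2 ∈ T.ker := T.ker.add_mem r.2 p.2
  have ht1ne : t1 ≠ 0 := by
    intro h
    exact hpq (Subtype.ext (eq_of_add_eq_zero hF h).symm)
  have ht2ne : t2 ≠ 0 := by
    intro h
    exact hpr (Subtype.ext (eq_of_add_eq_zero hF h).symm)
  have ht12 : t1 + t2 ≠ 0 := by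
    intro h
    apply hqr
    apply Subtype.ext
    have := eq_of_add_eq_zero hF h
    rw [ht1, ht2] at this
    exact add_right_cancel this
  have n1 := hN t1 (hfix t1 ht1k) ht1ne
  have n2 := hN t2 (hfix t2 ht2k) ht2ne
  have n3 := hN (t1 + t2) (hfix _ (T.ker.add_mem ht1k ht2k)) ht12
  exact ht1ne (norm_lemma hF t1 t2 (by rw [n1, n2]) (by rw [n3, n1]))

theorem Coords.no_S3 (hF : Fintype.card F = 16) (C : Coords a b) (ρ x : MulAut X)
    (hρ3 : ρ ^ 3 = 1) (hρ1 : ρ ≠ 1) (hx2 : x ^ 2 = 1) (hxρ : x * ρ * x⁻¹ = ρ⁻¹) : False := by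
  have h3 : ∀ g, ρ (ρ (ρ g)) = g := by
    intro g
    have := DFunLike.congr_fun hρ3 g
    simpa [pow_succ, MulAut.mul_apply] using this
  have hx2' : ∀ g, x (x g) = g := by
    intro g
    have := DFunLike.congr_fun hx2 g
    simpa [pow_succ, MulAut.mul_apply] using this
  by_cases hZ : ∀ z, a z = 0 → ρ z = z
  · apply hρ1
    ext g
    exact C.caseB hF ρ h3 hZ g
  · obtain ⟨z1, hz1⟩ := not_forall.1 hZ
    obtain ⟨hz1a, hz1ne⟩ := Classical.not_imp.1 hz1
    by_cases hxZ : ∀ z, a z = 0 → x z = z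
    · apply hz1ne
      have h1 : x⁻¹ z1 = z1 := by
        have := hxZ z1 hz1a
        rw [MulAut.inv_apply, MulEquiv.symm_apply_eq, this]
      have h2 := DFunLike.congr_fun hxρ z1
      rw [MulAut.mul_apply, MulAut.mul_apply, h1, hxZ _ ((C.aut_center hF ρ z1).2 hz1a)] at h2
      -- h2 : ρ z1 = ρ⁻¹ z1
      have h4 : ρ (ρ z1) = z1 := by
        rw [h2, MulAut.inv_apply, MulEquiv.apply_symm_apply]
      have h5 := h3 z1
      rw [h4] at h5
      exact h5
    · obtain ⟨z0, hz0⟩ := not_forall.1 hxZ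
      obtain ⟨hz0a, hz0ne⟩ := Classical.not_imp.1 hz0
      exact C.caseA hF x hx2' z0 hz0a hz0ne

end abstract2

end Part2

section Part3

open Cfsg Cfsg.Agent.S1248

theorem result {T : Type*} [Group T] [Finite T] (hT : (∃ (F : Type) (_ : Field F) (_ : Fintype F), Fintype.card F = 16 ∧ ∃ S : Sylow 2 (Cfsg.PSU 3 F 4), Nonempty (T ≃* ↥(S : Subgroup (Cfsg.PSU 3 F 4))))) (H : Subgroup (MulAut T)) : ¬ Nonempty (↥H ≃* Equiv.Perm (Fin 3)) := by
  rintro ⟨f⟩
  obtain ⟨F, _, _, hF, S, ⟨e0⟩⟩ := hT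
  obtain ⟨e2⟩ := exists_equiv_U hF S
  obtain ⟨a, b, h1, h2, h3, h4, h5⟩ := exists_coords hF (e0.trans e2)
  have C : Coords a b := ⟨h1, h2, h3, h4, h5⟩
  let c : Equiv.Perm (Fin 3) := finRotate 3
  let s : Equiv.Perm (Fin 3) := Equiv.swap 0 1
  have hc3 : c ^ 3 = 1 := by decide
  have hc1 : c ≠ 1 := by decide
  have hs2 : s ^ 2 = 1 := by decide
  have hsc : s * c * s⁻¹ = c⁻¹ := by decide
  refine C.no_S3 hF ((f.symm c : H) : MulAut T) ((f.symm s : H) : MulAut T) ?_ ?_ ?_ ?_
  · rw [← Subgroup.coe_pow, ← map_pow, hc3, map_one, Subgroup.coe_one]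
  · intro h
    apply hc1
    have : f.symm c = 1 := Subtype.ext h
    exact (MulEquiv.map_eq_one_iff f.symm).1 this
  · rw [← Subgroup.coe_pow, ← map_pow, hs2, map_one, Subgroup.coe_one]
  · rw [← Subgroup.coe_inv, ← Subgroup.coe_inv, ← Subgroup.coe_mul, ← Subgroup.coe_mul, ← map_inv,
      ← map_inv, ← map_mul, ← map_mul, hsc]

end Part3

end Cfsg.Agent.S3156
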