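import Cfsg.Statements.S3157
import Cfsg.Agent.Lib.Helper7.T64H
import Cfsg.Agent.Lib.Helper5.Heis3Sylow
import Cfsg.Agent.Lib.Helper8.Order8

set_option autoImplicit false
open Cfsg

namespace Cfsg.Agent.S3157

/-- Let T be a non-abelian group of order 64 admitting automorphisms ρ of order 3 and x of order 2 with x ρ x⁻¹ = ρ⁻¹ (so they generate a symmetric group of degree 3), where ρ fixes only the identity. Then T is isomorphic to a Sylow 2-subgroup of the projective special linear group of dimension 3 over the field with 4 elements, and the subgroup of fixed points of x is dihedral of order 8 or quaternion of order 8. -/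
theorem result {T : Type*} [Group T] [Finite T] (hT : Nat.card T = 64) (hna : ¬ IsMulCommutative T) (ρ x : MulAut T) (hρ : orderOf ρ = 3) (hx : orderOf x = 2)
    (hxr : x * ρ * x⁻¹ = ρ⁻¹) (hfp : ∀ y : T, ρ y = y → y = 1) (C : Subgroup T) (hC : ∀ y : T, y ∈ C ↔ x y = y) :
    (∃ (F : Type) (_ : Field F) (_ : Fintype F), Fintype.card F = 4 ∧
        ∃ S : Sylow 2 (Matrix.ProjectiveSpecialLinearGroup (Fin 3) F), Nonempty (T ≃* ↥(S : Subgroup (Matrix.ProjectiveSpecialLinearGroup (Fin 3) F)))) ∧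
      (Nonempty (↥C ≃* DihedralGroup 4) ∨ Nonempty (↥C ≃* QuaternionGroup 2)) := by
  have hρ3 : ρ * ρ * ρ = 1 := by
    have := pow_orderOf_eq_one ρ
    rw [hρ] at this
    rw [← this, pow_succ, pow_succ, pow_one]
  have hx2 : x * x = 1 := by
    have := pow_orderOf_eq_one x
    rw [hx] at this
    rw [← this, pow_succ, pow_one]
  have h3 : ∀ y : T, ρ (ρ (ρ y)) = y := by
    intro y
    have := congrArg (fun f : MulAut T => f y) hρ3
    simpa [MulAut.mul_apply] using this
  have hxx : ∀ y : T, x (x y) = y := by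
    intro y
    have := congrArg (fun f : MulAut T => f y) hx2
    simpa [MulAut.mul_apply] using this
  have hxρ : ∀ y : T, x (ρ y) = ρ (ρ (x y)) := by
    intro y
    have e2 : ρ⁻¹ = ρ * ρ := by
      rw [inv_eq_iff_mul_eq_one, ← mul_assoc]
      exact hρ3
    have e1 : x * ρ = ρ * ρ * x := by
      rw [← e2, ← hxr]; group
    have := congrArg (fun f : MulAut T => f y) e1
    simpa [MulAut.mul_apply] using this
  have hnab : ¬ ∀ a b : T, a * b = b * a := by
    intro hc
    exact hna ⟨⟨hc⟩⟩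
  have h : Cfsg.Agent.Lib.Helper7.T64.Hyp64 T ρ := ⟨inferInstance, hT, ⟨h3, hfp⟩, hnab⟩
  have hX : Cfsg.Agent.Lib.Helper7.T64.HypX ρ x := ⟨hxx, hxρ⟩
  refine ⟨?_, ?_⟩
  · obtain ⟨a, b, ha, hb, hab⟩ := h.exists_pair hX
    obtain ⟨e⟩ := h.nonempty_heis ha hb hab
    obtain ⟨F, iF, iFt, hF, S, ⟨e'⟩⟩ :=
      Cfsg.Agent.Lib.Helper5.Heis3.exists_field_sylow_iso_of_card
        Cfsg.Agent.Lib.Helper7.T64.F4 Cfsg.Agent.Lib.Helper7.T64.F4.card_eq
    exact ⟨F, iF, iFt, hF, S, ⟨e.trans e'⟩⟩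
  · apply Cfsg.Agent.Lib.Helper8.Order8.d8_or_q8 (h.card_fix hX C hC)
    intro hc
    obtain ⟨u, hu, v, hv, huv⟩ := h.fix_not_comm hX C hC
    exact huv (congrArg Subtype.val (hc ⟨u, hu⟩ ⟨v, hv⟩))

end Cfsg.Agent.S3157
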