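import Mathlib
import Cfsg.Statements.S3158
import Cfsg.Agent.Lib.Lead.PGroup

set_option autoImplicit false
open Cfsg

namespace Cfsg.Agent.S3158

theorem result {U : Type*} [Group U] [Finite U] (n : ℕ) (hn : 1 ≤ n) (hU : Nat.card U = (2 ^ n) ^ 2)
    (y : MulAut U) (hy : orderOf y = 2 ^ n - 1) (hfp : ∀ k : ℕ, y ^ k ≠ 1 → ∀ u : U, (y ^ k) u = u → u = 1)
    (V : Subgroup U) [V.Normal] (hV : V ≠ ⊤) (hyV : ∀ v ∈ V, y v ∈ V)
    (hVe : ∀ v ∈ V, v ^ 2 = 1) (hQe : ∀ u : U, u ^ 2 ∈ V) (hQc : ∀ u w : U, u * w * u⁻¹ * w⁻¹ ∈ V)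
    (φ : ↥V ≃* U ⧸ V) (hφ : ∀ (v : ↥V) (u : U), (QuotientGroup.mk u : U ⧸ V) = φ v → φ ⟨y v, hyV v v.2⟩ = QuotientGroup.mk (y u)) :
    IsMulCommutative U := by
  classical
  -- (a) card V = 2^n
  have hcV : Nat.card V = 2 ^ n := by
    have h1 := V.card_mul_index
    rw [Subgroup.index_eq_card, ← Nat.card_congr φ.toEquiv, hU, ← sq] at h1
    exact Nat.pow_left_injective (by norm_num : 2 ≠ 0) h1
  have h2n : 2 ≤ 2 ^ n := by
    calc 2 = 2 ^ 1 := by norm_num
      _ ≤ 2 ^ n := Nat.pow_le_pow_right (by norm_num) hn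
  -- restriction of y to V
  let yV : V →* V := MonoidHom.mk' (fun v => ⟨y v, hyV v v.2⟩) (by
    intro a b
    ext
    simp)
  have hyV_coe : ∀ (k : ℕ) (v : V), ((yV^[k] v : V) : U) = (y ^ k) v := by
    intro k
    induction k with
    | zero => intro v; simp
    | succ k ih =>
      intro v
      rw [Function.iterate_succ_apply', pow_succ', MulAut.mul_apply, ← ih v]
      rfl
  -- fixed-point-freeness on V
  have hinj : ∀ (v0 : V), v0 ≠ 1 → ∀ i j : ℕ, i < j → j < 2 ^ n - 1 → yV^[i] v0 ≠ yV^[j] v0 := by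
    intro v0 hv0 i j hij hj h
    have h1 : (y ^ i) (v0 : U) = (y ^ j) (v0 : U) := by
      rw [← hyV_coe, ← hyV_coe, h]
    have h2 : j = i + (j - i) := by omega
    rw [h2, pow_add, MulAut.mul_apply] at h1
    have h3 : (v0 : U) = (y ^ (j - i)) (v0 : U) := (y ^ i).injective h1
    have h4 : y ^ (j - i) ≠ 1 := by
      apply pow_ne_one_of_lt_orderOf
      · omega
      · rw [hy]; omega
    apply hv0
    ext
    exact hfp (j - i) h4 _ h3.symm
  -- orbit lemma
  have horb : ∀ (v0 : V), v0 ≠ 1 → ∀ v : V, v ≠ 1 → ∃ k : ℕ, yV^[k] v0 = v := by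
    intro v0 hv0 v hv
    letI : Fintype V := Fintype.ofFinite V
    let f : Fin (2 ^ n - 1) → V := fun i => yV^[i.val] v0
    have hf : Function.Injective f := by
      intro a b hab
      by_contra hne
      rcases lt_or_gt_of_ne (fun h => hne (Fin.ext h)) with h | h
      · exact hinj v0 hv0 a.val b.val h b.isLt hab
      · exact hinj v0 hv0 b.val a.val h a.isLt hab.symm
    have himg : (Finset.univ.image f) ⊆ (Finset.univ : Finset V).erase 1 := by
      intro x hx
      rw [Finset.mem_image] at hx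
      obtain ⟨i, -, rfl⟩ := hx
      rw [Finset.mem_erase]
      refine ⟨?_, Finset.mem_univ _⟩
      intro h1
      apply hv0
      have h2 : (y ^ i.val) (v0 : U) = 1 := by
        rw [← hyV_coe]
        show ((f i : V) : U) = 1
        rw [h1]; rfl
      ext
      have h3 : (y ^ i.val) (v0 : U) = (y ^ i.val) 1 := by rw [h2, map_one]
      exact (y ^ i.val).injective h3
    have hcard : ((Finset.univ : Finset V).erase 1).card ≤ (Finset.univ.image f).card := by
      rw [Finset.card_image_of_injective _ hf, Finset.card_erase_of_mem (Finset.mem_univ _),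
        Finset.card_univ, Finset.card_univ, Fintype.card_fin, ← Nat.card_eq_fintype_card, hcV]
    have heq := Finset.eq_of_subset_of_card_le himg hcard
    have hvm : v ∈ (Finset.univ : Finset V).erase 1 := Finset.mem_erase.mpr ⟨hv, Finset.mem_univ _⟩
    rw [← heq, Finset.mem_image] at hvm
    obtain ⟨i, -, hi⟩ := hvm
    exact ⟨i.val, hi⟩
  -- 2-group
  have : Fact (Nat.Prime 2) := ⟨Nat.prime_two⟩
  have hU2 : IsPGroup 2 U := IsPGroup.of_card (n := 2 * n) (by rw [hU, ← pow_mul, mul_comm])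
  -- V nontrivial
  have hVne : V ≠ ⊥ := by
    intro h
    rw [h, Subgroup.card_bot] at hcV
    omega
  -- (d) V central
  have hchar : ∀ (k : ℕ) (z : U), z ∈ Subgroup.center U → (y ^ k) z ∈ Subgroup.center U := by
    intro k z hz
    rw [Subgroup.mem_center_iff] at hz ⊢
    intro g
    have : g = (y ^ k) ((y ^ k).symm g) := ((y ^ k).apply_symm_apply g).symm
    rw [this, ← map_mul, ← map_mul, hz]
  have hVZ : ∀ v ∈ V, v ∈ Subgroup.center U := by
    obtain ⟨z, hzV, hzZ, hz1⟩ := Cfsg.Agent.Lib.Lead.PGroup.exists_mem_center_of_normal hU2 V hVne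
    intro v hv
    by_cases hv1 : v = 1
    · rw [hv1]; exact Subgroup.one_mem _
    · obtain ⟨k, hk⟩ := horb ⟨z, hzV⟩ (fun h => hz1 (congrArg Subtype.val h)) ⟨v, hv⟩
        (fun h => hv1 (congrArg Subtype.val h))
      have : v = (y ^ k) z := by
        have := hyV_coe k ⟨z, hzV⟩
        rw [hk] at this
        exact this
      rw [this]
      exact hchar k z hzZ
  -- (e) squares are constant on cosets
  have hsqc : ∀ (u v' : U), v' ∈ V → (u * v') ^ 2 = u ^ 2 := by
    intro u v' hv'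
    have hc := Subgroup.mem_center_iff.mp (hVZ v' hv') u
    have h2 := hVe v' hv'
    calc (u * v') ^ 2 = u * (v' * u) * v' := by rw [sq]; group
      _ = u * (u * v') * v' := by rw [← hc]
      _ = u ^ 2 * v' ^ 2 := by rw [sq, sq]; group
      _ = u ^ 2 := by rw [h2, mul_one]
  -- (f) σ
  let σ : V → V := fun v => ⟨(Quotient.out (φ v) : U) ^ 2, hQe _⟩
  have hσ : ∀ (v : V) (u : U), (QuotientGroup.mk u : U ⧸ V) = φ v → u ^ 2 = (σ v : U) := by
    intro v u hu
    have h1 : (QuotientGroup.mk (Quotient.out (φ v)) : U ⧸ V) = φ v := QuotientGroup.out_eq' _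
    have h2 : (Quotient.out (φ v))⁻¹ * u ∈ V := by
      rw [← QuotientGroup.eq, h1, hu]
    have h3 : u = Quotient.out (φ v) * ((Quotient.out (φ v))⁻¹ * u) := by group
    rw [h3, hsqc _ _ h2]
  have hσ1 : σ 1 = 1 := by
    have := hσ 1 1 (by rw [map_one]; rfl)
    ext
    rw [← this]; simp
  have hσy : ∀ v : V, σ (yV v) = yV (σ v) := by
    intro v
    have h1 : (QuotientGroup.mk (Quotient.out (φ v)) : U ⧸ V) = φ v := QuotientGroup.out_eq' _
    have h2 := hφ v _ h1
    have h3 := hσ (yV v) _ h2.symm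
    ext
    rw [← h3]
    show (y (Quotient.out (φ v))) ^ 2 = y ((Quotient.out (φ v)) ^ 2)
    rw [map_pow]
  have hσyk : ∀ (k : ℕ) (v : V), σ (yV^[k] v) = yV^[k] (σ v) := by
    intro k v
    exact (Function.Semiconj.iterate_right (f := σ) (ga := yV) (gb := yV) hσy k) v
  -- σ multiplicative
  have hσmul : ∀ a b : V, σ (a * b) = σ a * σ b := by
    obtain ⟨v0, hv0⟩ : ∃ v0 : V, v0 ≠ 1 := by
      by_contra hcon
      apply hVne
      rw [Subgroup.eq_bot_iff_forall]
      intro x hx
      by_contra hx1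
      exact hcon ⟨⟨x, hx⟩, fun h => hx1 (congrArg Subtype.val h)⟩
    by_cases hw : σ v0 = 1
    · have hall : ∀ v : V, σ v = 1 := by
        intro v
        by_cases hv : v = 1
        · rw [hv, hσ1]
        · obtain ⟨k, rfl⟩ := horb v0 hv0 v hv
          rw [hσyk, hw, iterate_map_one]
      intro a b
      rw [hall, hall, hall, mul_one]
    · obtain ⟨k, hk⟩ := horb v0 hv0 (σ v0) hw
      have hall : ∀ v : V, σ v = yV^[k] v := by
        intro v
        by_cases hv : v = 1
        · rw [hv, hσ1, iterate_map_one]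
        · obtain ⟨i, rfl⟩ := horb v0 hv0 v hv
          rw [hσyk, ← hk, ← Function.iterate_add_apply, ← Function.iterate_add_apply, add_comm]
      intro a b
      rw [hall, hall, hall, iterate_map_mul]
  -- conclusion
  have hsq : ∀ u w : U, (u * w) ^ 2 = u ^ 2 * w ^ 2 := by
    intro u w
    have ha : (QuotientGroup.mk u : U ⧸ V) = φ (φ.symm (QuotientGroup.mk u)) := by simp
    have hb : (QuotientGroup.mk w : U ⧸ V) = φ (φ.symm (QuotientGroup.mk w)) := by simp
    have hab : (QuotientGroup.mk (u * w) : U ⧸ V) =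
        φ (φ.symm (QuotientGroup.mk u) * φ.symm (QuotientGroup.mk w)) := by
      rw [map_mul, ← ha, ← hb]; rfl
    rw [hσ _ _ ha, hσ _ _ hb, hσ _ _ hab, hσmul]
    rfl
  refine ⟨⟨fun u w => ?_⟩⟩
  have h := hsq u w
  rw [sq, sq, sq] at h
  have h1 : u * (w * u) * w = u * (u * w) * w := by
    calc u * (w * u) * w = u * w * (u * w) := by group
      _ = u * u * (w * w) := h
      _ = u * (u * w) * w := by group
  exact (mul_left_cancel (mul_right_cancel h1)).symm
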