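import Mathlib
import Cfsg.Statements.S3163

set_option autoImplicit false
open Cfsg

namespace Cfsg.Agent.S3163

section
variable {S : Type*} [Group S]

theorem mem_cent_singleton (x b : S) : x ∈ Subgroup.centralizer ({b} : Set S) ↔ b * x = x * b := by
  rw [Subgroup.mem_centralizer_iff]
  constructor
  · intro h; exact h b rfl
  · rintro h y rfl; exact h

/-- index comparison when `S = B A` as a set product -/
theorem index_le_relIndex [Finite S] (A B : Subgroup S)
    (h : ∀ s : S, ∃ b ∈ B, ∃ a ∈ A, s = b * a) : A.index ≤ A.relIndex B := by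
  let g : B ⧸ A.subgroupOf B → S ⧸ A :=
    Quotient.map' (fun b : B => (b : S)) (fun a b hab => by
      rw [QuotientGroup.leftRel_apply] at hab ⊢
      exact hab)
  have hg : Function.Surjective g := by
    intro q
    induction q using QuotientGroup.induction_on with
    | H s =>
      obtain ⟨b, hb, a, ha, rfl⟩ := h s
      refine ⟨QuotientGroup.mk ⟨b, hb⟩, ?_⟩
      show (QuotientGroup.mk b : S ⧸ A) = QuotientGroup.mk (b * a)
      rw [QuotientGroup.eq]
      simpa using ha
  exact Nat.card_le_card_of_surjective g hg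

theorem card_rel [Finite S] (A B : Subgroup S) (hAB : A ≤ B) :
    Nat.card A * A.relIndex B = Nat.card B := by
  have := Subgroup.relIndex_mul_relIndex ⊥ A B bot_le hAB
  rwa [Subgroup.relIndex_bot_left, Subgroup.relIndex_bot_left] at this

/-- cardinality bound: if `C ⊓ A ≤ A ⊓ B` and `S = B A` then `|C| ≤ |B|`. -/
theorem card_le_of_inf [Finite S] (A B C : Subgroup S)
    (h : ∀ s : S, ∃ b ∈ B, ∃ a ∈ A, s = b * a) (hC : A ⊓ C ≤ A ⊓ B) :
    Nat.card C ≤ Nat.card B := by
  have h1 := card_rel (A ⊓ C) C inf_le_right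
  rw [Subgroup.inf_relIndex_right] at h1
  have h2 := card_rel (A ⊓ B) B inf_le_right
  rw [Subgroup.inf_relIndex_right] at h2
  have h3 : A.relIndex C ≤ A.index := by
    rw [← Subgroup.relIndex_top_right]
    apply Subgroup.relIndex_le_of_le_right le_top
    rw [Subgroup.relIndex_top_right]
    exact Subgroup.index_ne_zero_of_finite
  have h4 := index_le_relIndex A B h
  have h5 : Nat.card (A ⊓ C : Subgroup S) ≤ Nat.card (A ⊓ B : Subgroup S) :=
    Subgroup.card_le_of_le hC
  calc Nat.card C = Nat.card (A ⊓ C : Subgroup S) * A.relIndex C := h1.symm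
    _ ≤ Nat.card (A ⊓ B : Subgroup S) * A.relIndex B :=
      Nat.mul_le_mul h5 (h3.trans h4)
    _ = Nat.card B := h2

end

theorem result {S : Type*} [Group S] [Finite S] (hS : IsPGroup 2 S) (hna : ¬ IsMulCommutative S) (A B : Subgroup S)
    (hA : Cfsg.IsElementaryAbelian 2 A) (hB : Cfsg.IsElementaryAbelian 2 B) (hAB : ∀ s : S, ∃ a ∈ A, ∃ b ∈ B, s = a * b)
    (hC : ∀ a ∈ A, a ∉ B → Subgroup.centralizer ({a} : Set S) = A) :
    (∀ b ∈ B, b ∉ A → Subgroup.centralizer ({b} : Set S) = B) ∧
      (∀ E : Subgroup S, Cfsg.IsElementaryAbelian 2 E → (∀ E' : Subgroup S, Cfsg.IsElementaryAbelian 2 E' → E ≤ E' → E' = E) → E = A ∨ E = B) ∧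
      (∀ E' : Subgroup S, Cfsg.IsElementaryAbelian 2 E' → A ≤ E' → E' = A) ∧ (∀ E' : Subgroup S, Cfsg.IsElementaryAbelian 2 E' → B ≤ E' → E' = B) ∧
      Subgroup.center S = A ⊓ B ∧
      (∀ x : S, x ∉ A → x ∉ B → Nat.card ↥(Subgroup.centralizer ({x} : Set S)) ≤ min (Nat.card ↥A) (Nat.card ↥B)) := by
  -- elementwise facts
  have comm_of : ∀ E : Subgroup S, Cfsg.IsElementaryAbelian 2 E → ∀ x ∈ E, ∀ y ∈ E, x * y = y * x :=
    fun E hE x hx y hy => congrArg Subtype.val (hE.1.is_comm.comm ⟨x, hx⟩ ⟨y, hy⟩)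
  have inv_of : ∀ E : Subgroup S, Cfsg.IsElementaryAbelian 2 E → ∀ x ∈ E, x⁻¹ = x := by
    intro E hE x hx
    have := hE.2 x hx
    rw [pow_two] at this
    exact inv_eq_of_mul_eq_one_left this
  have hAc := comm_of A hA
  have hBc := comm_of B hB
  -- S = B A as well
  have hBA : ∀ s : S, ∃ b ∈ B, ∃ a ∈ A, s = b * a := by
    intro s
    obtain ⟨a, ha, b, hb, h⟩ := hAB s⁻¹
    refine ⟨b⁻¹, B.inv_mem hb, a⁻¹, A.inv_mem ha, ?_⟩
    rw [← mul_inv_rev, ← h, inv_inv]
  have hnotcomm : ∀ E : Subgroup S, Cfsg.IsElementaryAbelian 2 E → E ≠ ⊤ := by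
    intro E hE htop
    apply hna
    exact ⟨⟨fun x y => comm_of E hE x (htop ▸ Subgroup.mem_top x) y (htop ▸ Subgroup.mem_top y)⟩⟩
  -- a₀ ∈ A \ B and b₀ ∈ B \ A
  obtain ⟨a₀, ha₀, ha₀B⟩ : ∃ a ∈ A, a ∉ B := by
    by_contra hcon
    simp only [not_exists, not_and, not_not] at hcon
    apply hnotcomm B hB
    rw [eq_top_iff]
    intro s _
    obtain ⟨a, ha, b, hb, rfl⟩ := hAB s
    exact B.mul_mem (hcon a ha) hb
  obtain ⟨b₀, hb₀, hb₀A⟩ : ∃ b ∈ B, b ∉ A := by
    by_contra hcon
    simp only [not_exists, not_and, not_not] at hcon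
    apply hnotcomm A hA
    rw [eq_top_iff]
    intro s _
    obtain ⟨a, ha, b, hb, rfl⟩ := hAB s
    exact A.mul_mem ha (hcon b hb)
  -- (1)
  have part1 : ∀ b ∈ B, b ∉ A → Subgroup.centralizer ({b} : Set S) = B := by
    intro b hb hbA
    apply le_antisymm
    · intro x hx
      rw [mem_cent_singleton] at hx
      obtain ⟨a, ha, b', hb', rfl⟩ := hAB x
      have hcomm : b * a = a * b := by
        have h1 : b * (a * b') = a * b' * b := hx
        have h2 : a * b' * b = a * b * b' := by rw [mul_assoc, hBc b' hb' b hb, ← mul_assoc]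
        rw [h2, ← mul_assoc] at h1
        exact mul_right_cancel h1
      by_cases haB : a ∈ B
      · exact B.mul_mem haB hb'
      · exfalso
        have := hC a ha haB
        have hbC : b ∈ Subgroup.centralizer ({a} : Set S) := by
          rw [mem_cent_singleton]; exact hcomm.symm
        rw [this] at hbC
        exact hbA hbC
    · intro x hx
      rw [mem_cent_singleton]
      exact hBc b hb x hx
  -- (3), (4)
  have part3 : ∀ E' : Subgroup S, Cfsg.IsElementaryAbelian 2 E' → A ≤ E' → E' = A := by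
    intro E' hE' hle
    apply le_antisymm _ hle
    intro x hx
    rw [← hC a₀ ha₀ ha₀B, mem_cent_singleton]
    exact comm_of E' hE' a₀ (hle ha₀) x hx
  have part4 : ∀ E' : Subgroup S, Cfsg.IsElementaryAbelian 2 E' → B ≤ E' → E' = B := by
    intro E' hE' hle
    apply le_antisymm _ hle
    intro x hx
    rw [← part1 b₀ hb₀ hb₀A, mem_cent_singleton]
    exact comm_of E' hE' b₀ (hle hb₀) x hx
  -- no involution outside A ∪ B
  have noinv : ∀ x : S, x ^ 2 = 1 → x ∈ A ∨ x ∈ B := by
    intro x hx2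
    by_contra hcon
    rw [not_or] at hcon
    obtain ⟨a, ha, b, hb, rfl⟩ := hAB x
    have haB : a ∉ B := fun h => hcon.2 (B.mul_mem h hb)
    have hbA : b ∉ A := fun h => hcon.1 (A.mul_mem ha h)
    have h1 : a * b * (a * b) = 1 := by rw [← pow_two]; exact hx2
    have h2 : a * b = b * a := by
      have h3 : a * b = (a * b)⁻¹ := eq_inv_of_mul_eq_one_left h1
      rw [mul_inv_rev, inv_of A hA a ha, inv_of B hB b hb] at h3
      exact h3
    have hbC : b ∈ Subgroup.centralizer ({a} : Set S) := by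
      rw [mem_cent_singleton]; exact h2
    rw [hC a ha haB] at hbC
    exact hbA hbC
  -- (2)
  have part2 : ∀ E : Subgroup S, Cfsg.IsElementaryAbelian 2 E →
      (∀ E' : Subgroup S, Cfsg.IsElementaryAbelian 2 E' → E ≤ E' → E' = E) → E = A ∨ E = B := by
    intro E hE hmax
    have hle : E ≤ A ∨ E ≤ B := by
      by_cases h1 : ∃ e ∈ E, e ∈ A ∧ e ∉ B
      · left
        obtain ⟨e, heE, heA, heB⟩ := h1
        intro x hx
        rw [← hC e heA heB, mem_cent_singleton]
        exact comm_of E hE e heE x hx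
      by_cases h2 : ∃ e ∈ E, e ∈ B ∧ e ∉ A
      · right
        obtain ⟨e, heE, heB, heA⟩ := h2
        intro x hx
        rw [← part1 e heB heA, mem_cent_singleton]
        exact comm_of E hE e heE x hx
      · left
        simp only [not_exists, not_and, not_not] at h1 h2
        intro e he
        rcases noinv e (hE.2 e he) with h | h
        · exact h
        · exact h2 e he h
    rcases hle with h | h
    · left; exact (hmax A hA h).symm
    · right; exact (hmax B hB h).symm
  -- (5)
  have part5 : Subgroup.center S = A ⊓ B := by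
    apply le_antisymm
    · intro z hz
      rw [Subgroup.mem_center_iff] at hz
      have hzA : z ∈ A := by
        rw [← hC a₀ ha₀ ha₀B, mem_cent_singleton]
        exact hz a₀
      refine Subgroup.mem_inf.mpr ⟨hzA, ?_⟩
      by_contra hzB
      have h1 := hC z hzA hzB
      apply hnotcomm A hA
      rw [← h1, eq_top_iff]
      intro s _
      rw [mem_cent_singleton]
      exact (hz s).symm
    · intro z hz
      obtain ⟨hzA, hzB⟩ := Subgroup.mem_inf.mp hz
      rw [Subgroup.mem_center_iff]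
      intro s
      obtain ⟨a, ha, b, hb, rfl⟩ := hAB s
      rw [mul_assoc, hBc b hb z hzB, ← mul_assoc, hAc a ha z hzA, mul_assoc]
  refine ⟨part1, part2, part3, part4, part5, ?_⟩
  -- (6)
  intro x hxA hxB
  set C := Subgroup.centralizer ({x} : Set S) with hCdef
  have hAC : A ⊓ C ≤ A ⊓ B := by
    intro a ha
    obtain ⟨haA, haC⟩ := Subgroup.mem_inf.mp ha
    refine Subgroup.mem_inf.mpr ⟨haA, ?_⟩
    by_contra haB
    rw [hCdef, mem_cent_singleton] at haC
    have hxC : x ∈ Subgroup.centralizer ({a} : Set S) := by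
      rw [mem_cent_singleton]; exact haC.symm
    rw [hC a haA haB] at hxC
    exact hxA hxC
  have hBC : B ⊓ C ≤ B ⊓ A := by
    intro b hb
    obtain ⟨hbB, hbC⟩ := Subgroup.mem_inf.mp hb
    refine Subgroup.mem_inf.mpr ⟨hbB, ?_⟩
    by_contra hbA
    rw [hCdef, mem_cent_singleton] at hbC
    have hxC : x ∈ Subgroup.centralizer ({b} : Set S) := by
      rw [mem_cent_singleton]; exact hbC.symm
    rw [part1 b hbB hbA] at hxC
    exact hxB hxC
  exact le_min (card_le_of_inf B A C hAB hBC) (card_le_of_inf A B C hBA hAC)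

end Cfsg.Agent.S3163
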