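import Mathlib
import Cfsg.Statements.S3166
-- import your own Cfsg.Agent.* helpers here

set_option autoImplicit false
open Cfsg

namespace Cfsg.Agent.S3166

/-- `2^n ∣ p - 1` when `2^n ∣ p^m - 1`, `m` odd, `p` odd. -/
theorem dvd_pred_of_odd (q x m : ℕ) (hx : Even x) (hm : Odd m) (hq : ∃ n, q = 2 ^ n)
    (h : q ∣ (x + 1) ^ m - 1) : q ∣ x := by
  have hgs := geom_sum_mul_add x m
  have hS : Odd (∑ i ∈ Finset.range m, (x + 1) ^ i) := by
    rw [Finset.odd_sum_iff_odd_card_odd]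
    have : (Finset.range m).filter (fun i => Odd ((x + 1) ^ i)) = Finset.range m := by
      apply Finset.filter_true_of_mem
      intro i _
      exact (Even.add_one hx).pow
    rw [this, Finset.card_range]
    exact hm
  obtain ⟨n, rfl⟩ := hq
  have hcop : Nat.Coprime (2 ^ n) (∑ i ∈ Finset.range m, (x + 1) ^ i) :=
    (Nat.coprime_two_left.mpr hS).pow_left n
  have h2 : (x + 1) ^ m - 1 = (∑ i ∈ Finset.range m, (x + 1) ^ i) * x := by
    rw [← hgs]; simp
  rw [h2] at h
  exact hcop.dvd_of_dvd_mul_left h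

/-- Let q = 2^n with n ≥ 1. If q⁴ − q³ + q² − q + 1 is a power p^m of a prime p, then m = 1: the value is never a prime power with exponent greater than 1. -/
theorem result (n p m : ℕ) (hn : 1 ≤ n) (hp : p.Prime) (h : (2 ^ n) ^ 4 - (2 ^ n) ^ 3 + (2 ^ n) ^ 2 - 2 ^ n + 1 = p ^ m) : m = 1 := by
  obtain ⟨q, hq⟩ : ∃ q, q = 2 ^ n := ⟨_, rfl⟩
  have hq2 : 2 ≤ q := by
    rw [hq]
    calc 2 = 2 ^ 1 := rfl
      _ ≤ 2 ^ n := Nat.pow_le_pow_right (by norm_num) hn
  have hqe : Even q := by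
    rw [hq]; exact (Nat.even_pow' (by omega)).mpr even_two
  rw [← hq] at h
  have h34 : q ^ 3 ≤ q ^ 4 := Nat.pow_le_pow_right (by omega) (by norm_num)
  have h12 : q ≤ q ^ 2 := by nlinarith
  have hN : p ^ m + q ^ 3 + q = q ^ 4 + q ^ 2 + 1 := by omega
  have hNz : (p : ℤ) ^ m + q ^ 3 + q = q ^ 4 + q ^ 2 + 1 := by exact_mod_cast hN
  have hqz : (2 : ℤ) ≤ q := by exact_mod_cast hq2
  -- m ≠ 0
  have hm0 : m ≠ 0 := by
    rintro rfl
    simp only [pow_zero] at hNz
    nlinarith [mul_pos (show (0:ℤ) < q by linarith) (show (0:ℤ) < q by linarith)]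
  rcases Nat.even_or_odd m with hev | hodd
  · -- even case: perfect square strictly between consecutive squares
    exfalso
    obtain ⟨k, hk⟩ := hev
    set s : ℤ := (p : ℤ) ^ k with hs
    have hs2 : s ^ 2 + q ^ 3 + q = q ^ 4 + q ^ 2 + 1 := by
      rw [← hNz, hs, ← pow_mul, hk]; ring_nf
    have hspos : 0 ≤ s := by positivity
    have A : (2 * (q:ℤ) ^ 2 - q) ^ 2 < (2 * s) ^ 2 := by nlinarith
    have B : (2 * s) ^ 2 < (2 * (q:ℤ) ^ 2 - q + 1) ^ 2 := by nlinarith
    have A' := lt_of_pow_lt_pow_left₀ 2 (by positivity) A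
    have B' := lt_of_pow_lt_pow_left₀ 2 (by nlinarith) B
    omega
  · -- odd case
    by_contra hm1
    have hm3 : 3 ≤ m := by
      obtain ⟨k, hk⟩ := hodd
      omega
    -- p is odd
    have hpodd : Odd p := by
      rcases hp.eq_two_or_odd' with rfl | ho
      · exfalso
        have h2m : Even (2 ^ m) := (Nat.even_pow' hm0).mpr even_two
        have hq3 : Even (q ^ 3) := (Nat.even_pow' (by norm_num)).mpr hqe
        have : Even (2 ^ m + q ^ 3 + q) := (h2m.add hq3).add hqe
        rw [hN] at this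
        have h2 : Even (q ^ 4 + q ^ 2) :=
          ((Nat.even_pow' (by norm_num)).mpr hqe).add ((Nat.even_pow' (by norm_num)).mpr hqe)
        exact (Nat.not_even_iff_odd.mpr (h2.add_one)) this
      · exact ho
    obtain ⟨x, hx⟩ : ∃ x, p = x + 1 := ⟨p - 1, by have := hp.two_le; omega⟩
    have hxe : Even x := by
      rw [hx] at hpodd
      rcases Nat.even_or_odd x with h | h
      · exact h
      · exact absurd (h.add_one) (Nat.not_even_iff_odd.mpr hpodd)
    have hdvd : q ∣ x := by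
      apply dvd_pred_of_odd q x m hxe hodd ⟨n, hq⟩
      rw [← hx]
      have h23 : q ^ 2 ≤ q ^ 3 := Nat.pow_le_pow_right (by omega) (by norm_num)
      obtain ⟨c, hc⟩ : ∃ c, q ^ 3 + q = c + q ^ 2 + 1 := ⟨q ^ 3 + q - q ^ 2 - 1, by omega⟩
      have hcz : (q:ℤ) ^ 3 + q = c + q ^ 2 + 1 := by exact_mod_cast hc
      have hz : (p:ℤ) ^ m = q * c + 1 := by linear_combination hNz + (q:ℤ) * hcz
      have hz' : p ^ m = q * c + 1 := by exact_mod_cast hz
      have : p ^ m - 1 = q * c := by omega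
      rw [this]
      exact dvd_mul_right _ _
    obtain ⟨t, ht⟩ := hdvd
    have ht1 : 1 ≤ t := by
      rcases Nat.eq_zero_or_pos t with rfl | h
      · have := hp.two_le; omega
      · exact h
    have hpq : q + 1 ≤ p := by rw [hx, ht]; nlinarith
    -- m = 3
    have hm3' : m = 3 := by
      by_contra hne
      have hm4 : 4 ≤ m := by
        obtain ⟨k, hk⟩ := hodd
        omega
      have h1 : p ^ 4 ≤ p ^ m := Nat.pow_le_pow_right hp.pos hm4
      have h2 : (q + 1) ^ 4 ≤ p ^ 4 := Nat.pow_le_pow_left hpq 4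
      nlinarith
    subst hm3'
    have htz : (1 : ℤ) ≤ t := by exact_mod_cast ht1
    have hpz : (p : ℤ) = q * t + 1 := by rw [hx, ht]; push_cast; ring
    rw [hpz] at hNz
    have hq0 : (q : ℤ) ≠ 0 := by linarith
    have e : (q:ℤ) ^ 2 * t ^ 3 + 3 * q * t ^ 2 + 3 * t + q ^ 2 + 1 = q ^ 3 + q := by
      apply mul_left_cancel₀ hq0
      linear_combination hNz
    have hdv : (q : ℤ) ∣ 3 * t + 1 := by
      refine ⟨(q:ℤ) ^ 2 + 1 - q - q * t ^ 3 - 3 * t ^ 2, ?_⟩
      linear_combination e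
    have hle : (q : ℤ) ≤ 3 * t + 1 := Int.le_of_dvd (by linarith) hdv
    have hlt : (t : ℤ) ^ 3 < q := by
      have : (q:ℤ) ^ 2 * t ^ 3 < q ^ 2 * q := by nlinarith [mul_pos (show (0:ℤ) < q by linarith) (show (0:ℤ) < t by linarith), mul_pos (mul_pos (show (0:ℤ) < q by linarith) (show (0:ℤ) < t by linarith)) (show (0:ℤ) < t by linarith)]
      exact lt_of_mul_lt_mul_left this (by positivity)
    have ht1' : (t : ℤ) = 1 := by
      by_contra hne
      have : (2 : ℤ) ≤ t := by omega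
      nlinarith
    rw [ht1'] at e hle
    have : (q : ℤ) ≤ 4 := by linarith
    interval_cases hqq : (q : ℤ) <;> omega

end Cfsg.Agent.S3166
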