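import Mathlib
import Cfsg.Statements.S3178
import Cfsg.Agent.H9.Basic
import Cfsg.Agent.Lib.Lead.PComplement

set_option autoImplicit false
open Cfsg

namespace Cfsg.Agent.S3178

/-- Thompson transfer, strong form: `M` of index 2 in the Sylow 2-subgroup `S`, every element of
`S` outside `M` of order `> 2^(n-1)`, `x ∈ S` of order `2^n` with no conjugate in `M`. Then some
normal subgroup of index 2 misses `x`. -/
theorem thompson_transfer {G : Type*} [Group G] [Finite G]
    (S : Sylow 2 G) (M : Subgroup G) (_hMS : M ≤ (S : Subgroup G)) (hM : M.relIndex (S : Subgroup G) = 2)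
    (n : ℕ) (hn : 1 ≤ n) (hord : ∀ y ∈ (S : Subgroup G), y ∉ M → 2 ^ (n - 1) < orderOf y)
    (x : G) (_hx : x ∈ (S : Subgroup G)) (hxn : orderOf x = 2 ^ n)
    (hcon' : ∀ g : G, g * x * g⁻¹ ∉ M) :
    ∃ N : Subgroup G, N.Normal ∧ N.index = 2 ∧ x ∉ N := by
  classical
  have h2 : Fact (Nat.Prime 2) := ⟨Nat.prime_two⟩
  have hM' : (M.subgroupOf (S : Subgroup G)).index = 2 := hM
  let ϕ : (S : Subgroup G) →* ℤˣ :=
    { toFun := fun s => if (s : G) ∈ M then 1 else -1
      map_one' := by simp [M.one_mem]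
      map_mul' := by
        intro a b
        have key := Subgroup.mul_mem_iff_of_index_two hM' (a := a) (b := b)
        simp only [Subgroup.mem_subgroupOf, Subgroup.coe_mul] at key
        by_cases ha : (a : G) ∈ M <;> by_cases hb : (b : G) ∈ M <;>
          simp [ha, hb, key] }
  have hϕ_in : ∀ s : (S : Subgroup G), (s : G) ∈ M → ϕ s = 1 := by
    intro s hs
    show (if (s : G) ∈ M then (1 : ℤˣ) else -1) = 1
    rw [if_pos hs]
  have hϕ_out : ∀ s : (S : Subgroup G), (s : G) ∉ M → ϕ s = -1 := by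
    intro s hs
    show (if (s : G) ∈ M then (1 : ℤˣ) else -1) = -1
    rw [if_neg hs]
  let t : G →* ℤˣ := MonoidHom.transfer ϕ
  have : Fintype (Quotient (MulAction.orbitRel (Subgroup.zpowers x) (G ⧸ (S : Subgroup G)))) :=
    Fintype.ofFinite _
  have hper : ∀ q : G ⧸ (S : Subgroup G),
      ∃ j, j ≤ n ∧ Function.minimalPeriod (x • ·) q = 2 ^ j := by
    intro q
    have hp : Function.IsPeriodicPt (x • · : G ⧸ (S : Subgroup G) → _) (2 ^ n) q := by
      show (x • · : G ⧸ (S : Subgroup G) → _)^[2 ^ n] q = q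
      rw [smul_iterate, ← hxn, pow_orderOf_eq_one]
      exact one_smul _ q
    exact (Nat.dvd_prime_pow Nat.prime_two).1 hp.minimalPeriod_dvd
  have hval : ∀ q : Quotient (MulAction.orbitRel (Subgroup.zpowers x) (G ⧸ (S : Subgroup G))),
      ϕ ⟨q.out.out⁻¹ * x ^ Function.minimalPeriod (x • ·) q.out * q.out.out,
            QuotientGroup.out_conj_pow_minimalPeriod_mem (S : Subgroup G) x q.out⟩
        = if Odd (Function.minimalPeriod (x • ·) q.out) then -1 else 1 := by
    intro q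
    obtain ⟨j, hj, hjq⟩ := hper q.out
    have hmem := QuotientGroup.out_conj_pow_minimalPeriod_mem (S : Subgroup G) x q.out
    by_cases hodd : Odd (Function.minimalPeriod (x • ·) q.out)
    · rw [if_pos hodd]
      apply hϕ_out
      have hj0 : j = 0 := by
        by_contra hj0
        rw [hjq] at hodd
        exact (Nat.not_even_iff_odd.2 hodd) ((Nat.even_pow' hj0).2 even_two)
      show q.out.out⁻¹ * x ^ Function.minimalPeriod (x • ·) q.out * q.out.out ∉ M
      rw [hjq, hj0, pow_zero, pow_one]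
      have := hcon' (q.out.out⁻¹)
      rwa [inv_inv] at this
    · rw [if_neg hodd]
      apply hϕ_in
      show q.out.out⁻¹ * x ^ Function.minimalPeriod (x • ·) q.out * q.out.out ∈ M
      by_contra hnot
      have hlt := hord _ hmem hnot
      have hj0 : j ≠ 0 := by
        intro hj0
        apply hodd
        rw [hjq, hj0, pow_zero]
        exact odd_one
      have hoo : orderOf (q.out.out⁻¹ * x ^ Function.minimalPeriod (x • ·) q.out * q.out.out)
          = 2 ^ (n - j) := by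
        have h1 : q.out.out⁻¹ * x ^ Function.minimalPeriod (x • ·) q.out * q.out.out
            = MulAut.conj (q.out.out⁻¹) (x ^ Function.minimalPeriod (x • ·) q.out) := by
          simp
        rw [h1, MulEquiv.orderOf_eq, hjq]
        have hdvd : 2 ^ j ∣ orderOf x := by
          rw [hxn]; exact pow_dvd_pow 2 hj
        rw [orderOf_pow_of_dvd (by positivity) hdvd, hxn, Nat.pow_div hj (by norm_num)]
      rw [hoo] at hlt
      have : n - j ≤ n - 1 := by omega
      exact absurd (Nat.pow_le_pow_right (by norm_num : 0 < 2) this) (not_le.2 hlt)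
  have htx : t x = -1 := by
    show MonoidHom.transfer ϕ x = -1
    rw [MonoidHom.transfer_eq_prod_quotient_orbitRel_zpowers_quot]
    rw [Finset.prod_congr rfl (fun q _ => hval q)]
    rw [Finset.prod_ite, Finset.prod_const, Finset.prod_const_one, mul_one]
    apply Odd.neg_one_pow
    rw [← Finset.odd_sum_iff_odd_card_odd, ← Subgroup.index_eq_sum_minimalPeriod]
    have := S.not_dvd_index
    exact Nat.not_even_iff_odd.1 (fun h => this (even_iff_two_dvd.1 h))
  refine ⟨t.ker, inferInstance, ?_, ?_⟩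
  · rw [Subgroup.index_eq_two_iff]
    refine ⟨x, fun b => ?_⟩
    rw [MonoidHom.mem_ker, MonoidHom.mem_ker, map_mul, htx]
    rcases Int.units_eq_one_or (t b) with h | h <;> rw [h] <;> simp
  · rw [MonoidHom.mem_ker, htx]
    decide

section Modular

variable {G : Type*} [Group G] {a b : G} {d : ℕ}

theorem hred (ha8 : a ^ (8 * d) = 1) (q r : ℕ) : a ^ (8 * d * q + r) = a ^ r := by
  rw [pow_add, pow_mul, ha8, one_pow, one_mul]

theorem conj_pow_a (hrel : b * a * b⁻¹ = a ^ (4 * d + 1)) (i : ℕ) :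
    b * a ^ i * b⁻¹ = a ^ ((4 * d + 1) * i) := by
  rw [← conj_pow, hrel, ← pow_mul]

/-- `z = a ^ (4 d)` is fixed by `b` -/
theorem conj_z (ha8 : a ^ (8 * d) = 1) (hrel : b * a * b⁻¹ = a ^ (4 * d + 1)) :
    b * a ^ (4 * d) * b⁻¹ = a ^ (4 * d) := by
  rw [conj_pow_a hrel, show (4 * d + 1) * (4 * d) = 8 * d * (2 * d) + 4 * d by ring, hred ha8]

/-- `c = a ^ (2 d)` is fixed by `b` -/
theorem conj_c (ha8 : a ^ (8 * d) = 1) (hrel : b * a * b⁻¹ = a ^ (4 * d + 1)) :
    b * a ^ (2 * d) * b⁻¹ = a ^ (2 * d) := by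
  rw [conj_pow_a hrel, show (4 * d + 1) * (2 * d) = 8 * d * d + 2 * d by ring, hred ha8]

/-- square of `a^i * b` -/
theorem sq_ab (hb2 : b * b = 1) (hrel : b * a * b⁻¹ = a ^ (4 * d + 1)) (i : ℕ) :
    (a ^ i * b) ^ 2 = a ^ (i + (4 * d + 1) * i) := by
  have hbinv : b⁻¹ = b := inv_eq_of_mul_eq_one_left hb2
  have h1 := conj_pow_a hrel i
  rw [hbinv] at h1
  rw [pow_two, pow_add, ← h1]
  group

/-- the only involution among the powers of `a` is `z` -/
theorem invol_eq_z (_hd : 0 < d) (hao : orderOf a = 8 * d) (j : ℕ) (h2 : (a ^ j) ^ 2 = 1)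
    (h1 : a ^ j ≠ 1) : a ^ j = a ^ (4 * d) := by
  have ha8 : a ^ (8 * d) = 1 := by rw [← hao]; exact pow_orderOf_eq_one a
  rw [← pow_mul] at h2
  have hdvd : 8 * d ∣ j * 2 := by
    rw [← hao]; exact orderOf_dvd_of_pow_eq_one h2
  have hdvd' : 4 * d ∣ j := by
    obtain ⟨k, hk⟩ := hdvd
    exact ⟨k, Nat.eq_of_mul_eq_mul_right (by norm_num : 0 < 2) (by rw [hk]; ring)⟩
  obtain ⟨k, rfl⟩ := hdvd'
  rcases Nat.even_or_odd' k with ⟨l, rfl | rfl⟩
  · exfalso
    apply h1
    rw [show 4 * d * (2 * l) = 8 * d * l + 0 by ring, hred ha8, pow_zero]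
  · rw [show 4 * d * (2 * l + 1) = 8 * d * l + 4 * d by ring, hred ha8]

end Modular

theorem mem_smul_sylow {G : Type*} [Group G] {p : ℕ} (P : Sylow p G) (g x : G) :
    x ∈ ((g • P : Sylow p G) : Subgroup G) ↔ g⁻¹ * x * g ∈ (P : Subgroup G) := by
  rw [Sylow.coe_subgroup_smul, Subgroup.mem_pointwise_smul_iff_inv_smul_mem]
  simp [MulAut.smul_def]

theorem relIndex_two_of_card {G : Type*} [Group G] [Finite G] {H K : Subgroup G} (hHK : H ≤ K)
    (hc : Nat.card K = 2 * Nat.card H) : H.relIndex K = 2 := by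
  have h1 := (H.subgroupOf K).card_mul_index
  have h2 : Nat.card (H.subgroupOf K) = Nat.card H :=
    Nat.card_congr (Subgroup.subgroupOfEquivOfLe hHK).toEquiv
  rw [h2, hc, mul_comm 2] at h1
  exact Nat.eq_of_mul_eq_mul_left Nat.card_pos h1

/-- in a subgroup `H` of index 2 in `K`, with `b ∈ K ∖ H`: every element of `K` is in `H` or
becomes so after multiplying by `b` -/
theorem mem_or_mul_mem {G : Type*} [Group G] {H K : Subgroup G} (h2 : H.relIndex K = 2)
    {b : G} (hbK : b ∈ K) (hbH : b ∉ H) {s : G} (hs : s ∈ K) : s ∈ H ∨ s * b ∈ H := by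
  by_cases hsH : s ∈ H
  · exact Or.inl hsH
  · right
    have h2' : (H.subgroupOf K).index = 2 := h2
    have key := Subgroup.mul_mem_iff_of_index_two h2' (a := ⟨s, hs⟩) (b := ⟨b, hbK⟩)
    simp only [Subgroup.mem_subgroupOf, Subgroup.coe_mul] at key
    exact key.2 ⟨fun h => absurd h hsH, fun h => absurd h hbH⟩

/-- Groups with a modular Sylow 2-subgroup have a normal 2-complement. Let S, of order 2^(n+1) with n ≥ 3, be a Sylow 2-subgroup of a finite group G, and suppose S contains an element a of order 2^n and an involution b with b a b⁻¹ = a^(2^(n-1) + 1); so S is the non-abelian 2-group with a cyclic subgroup of index 2 that is neither dihedral, semidihedral nor generalized quaternion. Then G has a normal 2-complement. -/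
theorem result {G : Type*} [Group G] [Finite G]
    (S : Sylow 2 G) (n : ℕ) (hn : 3 ≤ n) (hS : Nat.card ↥(S : Subgroup G) = 2 ^ (n + 1))
    (a b : G) (ha : a ∈ (S : Subgroup G)) (hb : b ∈ (S : Subgroup G))
    (hao : orderOf a = 2 ^ n) (hbo : orderOf b = 2) (hrel : b * a * b⁻¹ = a ^ (2 ^ (n - 1) + 1)) :
    Cfsg.HasNormalPComplement 2 G := by
  classical
  have h2 : Fact (Nat.Prime 2) := ⟨Nat.prime_two⟩
  obtain ⟨n', rfl⟩ : ∃ n', n = n' + 3 := ⟨n - 3, by omega⟩
  obtain ⟨d, hd_def⟩ : ∃ d, d = 2 ^ n' := ⟨_, rfl⟩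
  have hd : 0 < d := by rw [hd_def]; positivity
  have hao' : orderOf a = 8 * d := by rw [hao, hd_def]; ring
  have hrel' : b * a * b⁻¹ = a ^ (4 * d + 1) := by
    rw [hrel]
    have : n' + 3 - 1 = n' + 2 := by omega
    rw [this, hd_def]
    congr 1
    ring
  have hS' : Nat.card (S : Subgroup G) = 16 * d := by rw [hS, hd_def]; ring
  have ha8 : a ^ (8 * d) = 1 := by rw [← hao']; exact pow_orderOf_eq_one a
  have hb2 : b * b = 1 := by rw [← pow_two, ← hbo]; exact pow_orderOf_eq_one b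
  have hbinv : b⁻¹ = b := inv_eq_of_mul_eq_one_left hb2
  have hb1 : b ≠ 1 := by
    intro h
    rw [h, orderOf_one] at hbo
    omega
  obtain ⟨z, hz⟩ : ∃ z, z = a ^ (4 * d) := ⟨_, rfl⟩
  have hz1 : z ≠ 1 := by
    intro h
    rw [hz] at h
    have h1 := orderOf_dvd_of_pow_eq_one h
    rw [hao'] at h1
    have := Nat.le_of_dvd (by omega) h1
    omega
  have hz2 : z ^ 2 = 1 := by
    rw [hz, ← pow_mul, show 4 * d * 2 = 8 * d by ring]
    exact ha8
  -- the cyclic maximal subgroup
  obtain ⟨M, hM⟩ : ∃ M, M = Subgroup.zpowers a := ⟨_, rfl⟩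
  have hMS : M ≤ (S : Subgroup G) := by rw [hM]; exact (Subgroup.zpowers_le).2 ha
  have hMcard : Nat.card M = 8 * d := by rw [hM, Nat.card_zpowers, hao']
  have hMmem : ∀ x, x ∈ M ↔ ∃ i : ℕ, a ^ i = x := by
    intro x
    rw [hM, ← (isOfFinOrder_of_finite a).mem_powers_iff_mem_zpowers, Submonoid.mem_powers_iff]
  have hzM : z ∈ M := (hMmem z).2 ⟨4 * d, hz.symm⟩
  have hbM : b ∉ M := by
    intro hbM
    obtain ⟨i, hi⟩ := (hMmem b).1 hbM
    have h1 : b * a * b⁻¹ = a := by
      rw [← hi]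
      group
    rw [hrel', pow_succ] at h1
    apply hz1
    rw [hz]
    exact mul_right_cancel (h1.trans (one_mul a).symm)
  have hMrel : M.relIndex (S : Subgroup G) = 2 :=
    relIndex_two_of_card hMS (by rw [hS', hMcard]; ring)
  have hcases : ∀ s ∈ (S : Subgroup G), (∃ i : ℕ, s = a ^ i) ∨ (∃ i : ℕ, s = a ^ i * b) := by
    intro s hs
    rcases mem_or_mul_mem hMrel hb hbM hs with h | h
    · obtain ⟨i, hi⟩ := (hMmem s).1 h
      exact Or.inl ⟨i, hi.symm⟩
    · obtain ⟨i, hi⟩ := (hMmem _).1 h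
      refine Or.inr ⟨i, ?_⟩
      rw [hi, mul_assoc, hb2, mul_one]
  have hsq : ∀ s ∈ (S : Subgroup G), ∃ j : ℕ, s ^ 2 = a ^ j := by
    intro s hs
    rcases hcases s hs with ⟨i, rfl⟩ | ⟨i, rfl⟩
    · exact ⟨i * 2, by rw [pow_mul]⟩
    · exact ⟨_, sq_ab hb2 hrel' i⟩
  have hinvS : ∀ s ∈ (S : Subgroup G), (s ^ 2) ^ 2 = 1 → s ^ 2 ≠ 1 → s ^ 2 = z := by
    intro s hs h1 h2
    obtain ⟨j, hj⟩ := hsq s hs
    rw [hj] at h1 h2 ⊢
    rw [hz]
    exact invol_eq_z hd hao' j h1 h2
  have hbz : b * z = z * b := by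
    have h1 := conj_z ha8 hrel'
    rw [← hz] at h1
    have h3 : b * z * b⁻¹ * b = z * b := by rw [h1]
    rw [← h3]
    group
  have hzcent : ∀ s ∈ (S : Subgroup G), s * z = z * s := by
    intro s hs
    rcases hcases s hs with ⟨i, rfl⟩ | ⟨i, rfl⟩
    · rw [hz, ← pow_add, ← pow_add, add_comm]
    · have h1 : a ^ i * z = z * a ^ i := by rw [hz, ← pow_add, ← pow_add, add_comm]
      rw [mul_assoc, hbz, ← mul_assoc, h1, mul_assoc]
  -- no conjugate of b lies in M
  have hcon : ∀ g : G, g * b * g⁻¹ ∉ M := by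
    intro g hgM
    obtain ⟨j, hj⟩ := (hMmem _).1 hgM
    have hgz : g * b * g⁻¹ = z := by
      rw [← hj, hz]
      apply invol_eq_z hd hao' j
      · rw [hj, conj_pow, pow_two, hb2]
        group
      · rw [hj]
        intro h
        apply hb1
        have : b = g⁻¹ * (g * b * g⁻¹) * g := by group
        rw [this, h]
        group
    obtain ⟨h, hh⟩ : ∃ h, h = g⁻¹ := ⟨_, rfl⟩
    have hbh : b = h * z * h⁻¹ := by
      rw [hh, ← hgz]
      group
    obtain ⟨T₁, hT₁⟩ : ∃ T₁ : Sylow 2 G, T₁ = h • S := ⟨_, rfl⟩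
    have hT₁C : (T₁ : Subgroup G) ≤ Subgroup.centralizer ({b} : Set G) := by
      intro x hx
      rw [hT₁, mem_smul_sylow] at hx
      have h1 := hzcent _ hx
      rw [Subgroup.mem_centralizer_iff]
      intro y hy
      rw [Set.mem_singleton_iff] at hy
      rw [hy, hbh]
      have e1 : h * z * h⁻¹ * x = h * (z * (h⁻¹ * x * h)) * h⁻¹ := by group
      have e2 : x * (h * z * h⁻¹) = h * ((h⁻¹ * x * h) * z) * h⁻¹ := by group
      rw [e1, e2, h1]
    obtain ⟨c, hc⟩ : ∃ c, c = a ^ (2 * d) := ⟨_, rfl⟩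
    have hc2 : c ^ 2 = z := by rw [hc, hz, ← pow_mul]; congr 1; ring
    have hcS : c ∈ (S : Subgroup G) := by rw [hc]; exact Subgroup.pow_mem _ ha _
    have hbc : b * c = c * b := by
      have h1 := conj_c ha8 hrel'
      rw [← hc] at h1
      have h3 : b * c * b⁻¹ * b = c * b := by rw [h1]
      rw [← h3]
      group
    have hQ2 : IsPGroup 2 (Subgroup.zpowers c) :=
      S.isPGroup'.to_le ((Subgroup.zpowers_le).2 hcS)
    have hQC : Subgroup.zpowers c ≤ Subgroup.centralizer ({b} : Set G) := by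
      rw [Subgroup.zpowers_le, Subgroup.mem_centralizer_iff]
      intro y hy
      rw [Set.mem_singleton_iff] at hy
      rw [hy, hbc]
    obtain ⟨k, hkC, hk⟩ := Cfsg.Agent.H9.exists_conj_mem_sylow_of_le T₁ _ hT₁C _ hQ2 hQC
    have hkc : k * c * k⁻¹ ∈ ((h • S : Sylow 2 G) : Subgroup G) := by
      rw [← hT₁]
      exact hk c (Subgroup.mem_zpowers c)
    rw [mem_smul_sylow] at hkc
    obtain ⟨u, hu⟩ : ∃ u, u = h⁻¹ * k := ⟨_, rfl⟩
    have e1 : h⁻¹ * (k * c * k⁻¹) * h = u * c * u⁻¹ := by rw [hu]; group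
    rw [e1] at hkc
    have hs2 : (u * c * u⁻¹) ^ 2 = u * z * u⁻¹ := by rw [conj_pow, hc2]
    have h4 : ((u * c * u⁻¹) ^ 2) ^ 2 = 1 := by
      rw [hs2, conj_pow, hz2]
      group
    have h5 : (u * c * u⁻¹) ^ 2 ≠ 1 := by
      rw [hs2]
      intro h
      apply hz1
      have : z = u⁻¹ * (u * z * u⁻¹) * u := by group
      rw [this, h]
      group
    have h6 := hinvS _ hkc h4 h5
    rw [hs2] at h6
    -- k z k⁻¹ = b
    have h7 : k * z * k⁻¹ = b := by
      rw [hbh]
      have : k * z * k⁻¹ = h * (u * z * u⁻¹) * h⁻¹ := by rw [hu]; group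
      rw [this, h6]
    have h8 : k * b * k⁻¹ = b := by
      rw [Subgroup.mem_centralizer_iff] at hkC
      have := hkC b (Set.mem_singleton b)
      rw [← this]
      group
    have h9 : z = b := by
      have : k * z * k⁻¹ = k * b * k⁻¹ := by rw [h7, h8]
      have h10 := mul_right_cancel this
      exact mul_left_cancel h10
    exact hbM (h9 ▸ hzM)
  -- Thompson transfer
  have hord : ∀ y ∈ (S : Subgroup G), y ∉ M → 2 ^ (1 - 1) < orderOf y := by
    intro y _ hyM
    have hy1 : y ≠ 1 := fun h => hyM (h ▸ M.one_mem)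
    have h1 : orderOf y ≠ 1 := fun h => hy1 (orderOf_eq_one_iff.1 h)
    have h0 : 0 < orderOf y := orderOf_pos y
    simp only [Nat.sub_self, pow_zero]
    omega
  obtain ⟨N, hNn, hNi, hbN⟩ := thompson_transfer S M hMS hMrel 1 le_rfl hord b hb
    (by rw [hbo, pow_one]) hcon
  -- a generator a' of a cyclic maximal subgroup inside N
  obtain ⟨a', ha'S, ha'N, ha'o⟩ : ∃ a' ∈ (S : Subgroup G), a' ∈ N ∧ orderOf a' = 8 * d := by
    by_cases haN : a ∈ N
    · exact ⟨a, ha, haN, hao'⟩
    · refine ⟨a * b, Subgroup.mul_mem _ ha hb, ?_, ?_⟩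
      · exact (Subgroup.mul_mem_iff_of_index_two hNi).2 ⟨fun h => absurd h haN, fun h => absurd h hbN⟩
      · have hsq' : (a * b) ^ 2 = a ^ (4 * d + 2) := by
          have := sq_ab hb2 hrel' 1
          rw [pow_one] at this
          rw [this]
          congr 1
          ring
        have e8 : 8 * d = 2 ^ (n' + 2 + 1) := by rw [hd_def]; ring
        rw [e8]
        apply orderOf_eq_prime_pow
        · have e4 : 2 ^ (n' + 2) = 2 * (2 * d) := by rw [hd_def]; ring
          rw [e4, pow_mul, hsq', ← pow_mul,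
            show (4 * d + 2) * (2 * d) = 8 * d * d + 4 * d by ring, hred ha8, ← hz]
          exact hz1
        · rw [← e8, show 8 * d = 2 * (4 * d) by ring, pow_mul, hsq', ← pow_mul,
            show (4 * d + 2) * (4 * d) = 8 * d * (2 * d + 1) + 0 by ring, hred ha8, pow_zero]
  obtain ⟨M', hM'⟩ : ∃ M', M' = Subgroup.zpowers a' := ⟨_, rfl⟩
  have hM'S : M' ≤ (S : Subgroup G) := by rw [hM']; exact (Subgroup.zpowers_le).2 ha'S
  have hM'N : M' ≤ N := by rw [hM']; exact (Subgroup.zpowers_le).2 ha'N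
  have hM'card : Nat.card M' = 8 * d := by rw [hM', Nat.card_zpowers, ha'o]
  have hM'rel : M'.relIndex (S : Subgroup G) = 2 :=
    relIndex_two_of_card hM'S (by rw [hS', hM'card]; ring)
  have hbM' : b ∉ M' := fun h => hbN (hM'N h)
  have hSN : ∀ x ∈ (S : Subgroup G), x ∈ N → x ∈ M' := by
    intro x hxS hxN
    rcases mem_or_mul_mem hM'rel hb hbM' hxS with h | h
    · exact h
    · exfalso
      apply hbN
      have : b = x⁻¹ * (x * b) := by group
      rw [this]
      exact N.mul_mem (N.inv_mem hxN) (hM'N h)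
  -- Sylow 2-subgroups of N are cyclic
  obtain ⟨P'⟩ : Nonempty (Sylow 2 N) := inferInstance
  have hP'cyc : IsCyclic (P' : Subgroup N) := by
    have hQ' : IsPGroup 2 ((P' : Subgroup N).map N.subtype) := P'.isPGroup'.map _
    obtain ⟨g, -, hg⟩ := Cfsg.Agent.H9.exists_conj_mem_sylow_of_le S ⊤ le_top _ hQ' le_top
    have hmem : ∀ y : (P' : Subgroup N), g * ((y : N) : G) * g⁻¹ ∈ M' := by
      intro y
      apply hSN
      · exact hg _ ⟨(y : N), y.2, rfl⟩
      · exact hNn.conj_mem _ (y : N).2 g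
    let f : (P' : Subgroup N) →* M' :=
      { toFun := fun y => ⟨g * ((y : N) : G) * g⁻¹, hmem y⟩
        map_one' := by
          apply Subtype.ext
          simp
        map_mul' := by
          intro x y
          apply Subtype.ext
          simp only [Subgroup.coe_mul]
          group }
    have hf : Function.Injective f := by
      intro x y hxy
      have h1 : g * ((x : N) : G) * g⁻¹ = g * ((y : N) : G) * g⁻¹ := congrArg Subtype.val hxy
      have h3 : ((x : N) : G) = ((y : N) : G) := mul_left_cancel (mul_right_cancel h1)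
      exact Subtype.ext (Subtype.ext h3)
    have : IsCyclic M' := by rw [hM']; infer_instance
    exact isCyclic_of_injective f hf
  -- the normal 2-complement of N
  have h2N : 2 ∣ Nat.card N := by
    have h1 : orderOf (⟨a', ha'N⟩ : N) ∣ Nat.card N := orderOf_dvd_natCard _
    rw [Subgroup.orderOf_mk, ha'o] at h1
    exact Dvd.dvd.trans ⟨4 * d, by ring⟩ h1
  have hp : (Nat.card N).minFac = 2 := (Nat.minFac_eq_two_iff _).2 h2N
  have hcompl := IsCyclic.isComplement' hp hP'cyc
  obtain ⟨φ, hφ⟩ : ∃ φ : N →* (P' : Subgroup N), φ = MonoidHom.transferSylow P'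
      (hP'cyc.normalizer_le_centralizer hp) := ⟨_, rfl⟩
  rw [← hφ] at hcompl
  have hodd : ¬ 2 ∣ Nat.card φ.ker := by
    rw [hφ]
    exact MonoidHom.not_dvd_card_ker_transferSylow P' _
  obtain ⟨K, hK⟩ : ∃ K : Subgroup G, K = φ.ker.map N.subtype := ⟨_, rfl⟩
  have hKcard : Nat.card K = Nat.card φ.ker := by
    rw [hK]
    exact Subgroup.card_map_of_injective N.subtype_injective
  have hKn : K.Normal := by
    constructor
    intro x hx g
    rw [hK] at hx ⊢
    obtain ⟨y, hy, rfl⟩ := hx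
    have hyN : g * (y : G) * g⁻¹ ∈ N := hNn.conj_mem _ y.2 g
    refine ⟨⟨_, hyN⟩, MonoidHom.mem_ker.2 ?_, rfl⟩
    have ho1 : orderOf (⟨g * (y : G) * g⁻¹, hyN⟩ : N) = orderOf y := by
      rw [Subgroup.orderOf_mk]
      have : g * (y : G) * g⁻¹ = MulAut.conj g (y : G) := by simp
      rw [this, MulEquiv.orderOf_eq, Subgroup.orderOf_coe]
    have ho2 : orderOf y ∣ Nat.card φ.ker := by
      have := orderOf_dvd_natCard (⟨y, hy⟩ : φ.ker)
      rwa [Subgroup.orderOf_mk] at this
    have ho3 : orderOf (φ ⟨g * (y : G) * g⁻¹, hyN⟩) ∣ Nat.card φ.ker :=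
      (orderOf_map_dvd φ _).trans (ho1 ▸ ho2)
    obtain ⟨e, he⟩ := (IsPGroup.iff_orderOf.1 P'.isPGroup') (φ ⟨g * (y : G) * g⁻¹, hyN⟩)
    have hcop : (2 ^ e).Coprime (Nat.card φ.ker) :=
      Nat.Coprime.pow_left e ((Nat.Prime.coprime_iff_not_dvd Nat.prime_two).2 hodd)
    have h1 : orderOf (φ ⟨g * (y : G) * g⁻¹, hyN⟩) = 1 :=
      Nat.eq_one_of_dvd_coprimes hcop (he ▸ dvd_rfl) ho3
    exact orderOf_eq_one_iff.1 h1
  have hKcop : (Nat.card K).Coprime 2 := by
    rw [hKcard]
    exact ((Nat.Prime.coprime_iff_not_dvd Nat.prime_two).2 hodd).symm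
  obtain ⟨e, he⟩ := IsPGroup.iff_card.1 P'.isPGroup'
  have hKidx : K.index = 2 ^ (e + 1) := by
    have h1 := K.card_mul_index
    have h3 := N.card_mul_index
    have h4 := hcompl.card_mul_card
    rw [hNi, ← h4, he, ← hKcard] at h3
    rw [← h3, mul_assoc] at h1
    rw [pow_succ]
    exact Nat.eq_of_mul_eq_mul_left Nat.card_pos h1
  exact Cfsg.Agent.Lib.Lead.PComplement.hasNormalPComplement_of_normal K hKcop hKidx

end Cfsg.Agent.S3178
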