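import Cfsg.Statements.S3179
import Cfsg.Agent.H9.GL5Sections
import Cfsg.Agent.H9.SubfieldPSL2
import Cfsg.Agent.S0324
import Cfsg.Agent.S0280
import Cfsg.Agent.Lib.Helper5.SuzukiBridge

set_option autoImplicit false
open Cfsg

namespace Cfsg.Agent.S3179

/-- Let X be a section of the general linear group GL(5, 2), that is, a quotient of a subgroup of it. If X is isomorphic to PSL(2, 2^n) for some n ≥ 2, to a Suzuki group over the field with 2^(2m+1) elements for some m ≥ 1, or to PSU(3, 2^n) for some n ≥ 2, then X is isomorphic to PSL(2, 4). -/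
theorem result {H : Subgroup (GL (Fin 5) (ZMod 2))}
    {K : Subgroup ↥H} [K.Normal]
    (hX : (∃ (n : ℕ) (F : Type) (_ : Field F) (_ : Fintype F), 2 ≤ n ∧ Fintype.card F = 2 ^ n ∧
        Nonempty (↥H ⧸ K ≃* Matrix.ProjectiveSpecialLinearGroup (Fin 2) F)) ∨
      (∃ (m : ℕ) (F : Type) (_ : Field F) (_ : Fintype F), 1 ≤ m ∧ Fintype.card F = 2 ^ (2 * m + 1) ∧
        Nonempty (↥H ⧸ K ≃* ↥(Cfsg.Lie.Sz F (2 ^ (m + 1))))) ∨
      (∃ (n : ℕ) (F : Type) (_ : Field F) (_ : Fintype F), 2 ≤ n ∧ Fintype.card F = 4 ^ n ∧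
        Nonempty (↥H ⧸ K ≃* Cfsg.PSU 3 F (2 ^ n)))) :
    ∃ (F : Type) (_ : Field F) (_ : Fintype F), Fintype.card F = 4 ∧
      Nonempty (↥H ⧸ K ≃* Matrix.ProjectiveSpecialLinearGroup (Fin 2) F) := by
  classical
  have hdvd : Nat.card (↥H ⧸ K) ∣ 9999360 := by
    rw [← Cfsg.Agent.H9.GL5Sections.card_G5]
    exact (Subgroup.card_quotient_dvd_card K).trans (Subgroup.card_subgroup_dvd_card H)
  have hpow : ∀ a : ℕ, 2 ^ a ∣ 9999360 → a ≤ 10 := by
    intro a ha
    by_contra hcon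
    push Not at hcon
    have h11 : 2 ^ 11 ∣ 9999360 := (Nat.pow_dvd_pow 2 hcon).trans ha
    norm_num at h11
  rcases hX with ⟨n, F, i1, i2, hn, hF, ⟨e⟩⟩ | ⟨m, F, i1, i2, hm, hF, ⟨e⟩⟩ |
    ⟨n, F, i1, i2, hn, hF, ⟨e⟩⟩
  · -- PSL₂(2^n)
    have h2 : (2 : F) = 0 := by
      have := Nat.cast_card_eq_zero F
      rw [hF] at this
      push_cast at this
      exact pow_eq_zero_iff (by omega) |>.1 this
    have hcard : Nat.card (↥H ⧸ K) = 2 ^ n * ((2 ^ n) ^ 2 - 1) := by
      rw [Nat.card_congr e.toEquiv,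
        ← Nat.card_congr (Cfsg.Agent.H9.PSL2MaxEven.slEquiv h2).toEquiv,
        Cfsg.Agent.H9.SubfieldPSL2.card_SL2_all, hF]
    rw [hcard] at hdvd
    have hn10 : n ≤ 10 := hpow n (Dvd.dvd.trans (Dvd.intro _ rfl) hdvd)
    interval_cases n
    · exact ⟨F, i1, i2, by rw [hF]; norm_num, ⟨e⟩⟩
    · exfalso
      obtain ⟨y, hy⟩ := Cfsg.Agent.H9.GL5Sections.exists_order_nine (F := F) (by rw [hF]; norm_num)
      apply Cfsg.Agent.H9.GL5Sections.section_no_nine H K (e.symm y)
      rw [MulEquiv.orderOf_eq]; exact hy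
    all_goals (exfalso; norm_num at hdvd)
  · -- Sz
    exfalso
    haveI : CharP F 2 := Cfsg.Agent.Lib.Helper5.Suzuki.charP_of_card hF
    have e2 := Cfsg.Agent.Lib.Helper5.SuzukiBridge.lieSzEquiv hm hF
    have hcard : Nat.card (↥H ⧸ K) =
        (2 ^ (2 * m + 1)) ^ 2 * ((2 ^ (2 * m + 1)) ^ 2 + 1) * (2 ^ (2 * m + 1) - 1) := by
      rw [Nat.card_congr e.toEquiv, Nat.card_congr e2.toEquiv, Cfsg.Agent.S0324.result hm hF]
    rw [hcard] at hdvd
    have h1 : 2 ^ (2 * (2 * m + 1)) ∣ 9999360 := by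
      refine Dvd.dvd.trans ?_ hdvd
      have e' : 2 ^ (2 * (2 * m + 1)) = (2 ^ (2 * m + 1)) ^ 2 := by
        rw [← pow_mul, mul_comm]
      rw [e', mul_assoc]
      exact Dvd.intro _ rfl
    have := hpow _ h1
    have hm2 : m ≤ 2 := by omega
    interval_cases m
    all_goals norm_num at hdvd
  · -- PSU₃
    exfalso
    have hF' : Fintype.card F = (2 ^ n) ^ 2 := by
      rw [hF, ← pow_mul, mul_comm, pow_mul]; norm_num
    have hform := Cfsg.Agent.S0280.result hF' 3 (by norm_num)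
    rw [← Nat.card_congr e.toEquiv] at hform
    obtain ⟨N, hN⟩ : ∃ N, Nat.card (↥H ⧸ K) = N := ⟨_, rfl⟩
    rw [hN] at hform hdvd
    rw [Finset.prod_range_succ, Finset.prod_range_succ, Finset.prod_range_one] at hform
    norm_num at hform
    -- the 2-part
    have hodd : Nat.Coprime (2 ^ (n * 3)) (Nat.gcd 3 (2 ^ n + 1) * (2 ^ n + 1)) := by
      apply Nat.Coprime.pow_left
      rw [Nat.coprime_two_left]
      have h1 : Odd (2 ^ n + 1) := by
        apply Even.add_one
        exact (Nat.even_pow' (by omega)).2 even_two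
      apply Odd.mul _ h1
      have h3 : Nat.gcd 3 (2 ^ n + 1) ∣ 3 := Nat.gcd_dvd_left _ _
      rcases (Nat.dvd_prime Nat.prime_three).1 h3 with h4 | h4
      · rw [h4]; exact odd_one
      · rw [h4]; decide
    have h2 : 2 ^ (n * 3) ∣ N := by
      apply hodd.dvd_of_dvd_mul_left
      rw [mul_assoc, hform, ← pow_mul]
      exact Dvd.intro _ rfl
    have := hpow _ (h2.trans hdvd)
    have hn3 : n ≤ 3 := by omega
    interval_cases n
    · norm_num at hform
      have : N = 62400 := by omega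
      rw [this] at hdvd
      norm_num at hdvd
    · norm_num at hform
      have : N = 5515776 := by omega
      rw [this] at hdvd
      norm_num at hdvd

end Cfsg.Agent.S3179
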