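import Mathlib
import Cfsg.Statements.S3180

set_option autoImplicit false
open Cfsg

namespace Cfsg.Agent.S3180

open scoped Pointwise

/-- Two `p`-subgroups of `S` can be brought into a common Sylow `p`-subgroup of `J` by an element of `S`. -/
theorem common_sylow {J : Type*} [Group J] [Finite J] {p : ℕ} [Fact p.Prime]
    (S A B : Subgroup J) (hA : IsPGroup p A) (hB : IsPGroup p B) (hAS : A ≤ S) (hBS : B ≤ S) :
    ∃ h ∈ S, ∃ P : Sylow p J, A ≤ P ∧ ∀ b ∈ B, h * b * h⁻¹ ∈ (P : Subgroup J) := by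
  have hA' : IsPGroup p (A.subgroupOf S) := hA.comap_subtype
  have hB' : IsPGroup p (B.subgroupOf S) := hB.comap_subtype
  obtain ⟨QA, hQA⟩ := hA'.exists_le_sylow
  obtain ⟨QB, hQB⟩ := hB'.exists_le_sylow
  obtain ⟨h, hh⟩ := MulAction.exists_smul_eq S QB QA
  have hQp : IsPGroup p ((QA : Subgroup S).map S.subtype) := QA.2.map _
  obtain ⟨P, hP⟩ := hQp.exists_le_sylow
  refine ⟨h, h.2, P, ?_, ?_⟩
  · intro a ha
    apply hP
    refine Subgroup.mem_map.mpr ⟨⟨a, hAS ha⟩, hQA ?_, rfl⟩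
    exact Subgroup.mem_subgroupOf.mpr ha
  · intro b hb
    apply hP
    have hb' : (⟨b, hBS hb⟩ : S) ∈ (QB : Subgroup S) := hQB (Subgroup.mem_subgroupOf.mpr hb)
    have h2 : h * ⟨b, hBS hb⟩ * h⁻¹ ∈ (QA : Subgroup S) := by
      have h3 : (MulAut.conj h) • (⟨b, hBS hb⟩ : S) ∈ (MulAut.conj h) • (QB : Subgroup S) :=
        Subgroup.smul_mem_pointwise_smul _ _ _ hb'
      rw [← Sylow.coe_subgroup_smul, hh] at h3
      simpa [MulAut.smul_def] using h3
    exact Subgroup.mem_map.mpr ⟨_, h2, rfl⟩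

theorem result {J : Type*} [Group J] [Finite J]
    {p : ℕ} [Fact p.Prime] (P : Sylow p J) (P₁ : Subgroup J) (hW : Cfsg.IsWeaklyClosed P₁ (P : Subgroup J))
    {Ω : Type*} [MulAction J Ω] (x y : Ω) (hx : ∀ g ∈ P₁, g • x = x) (hy : ∀ g ∈ P₁, g • y = y)
    (hc : ∃ g : J, g • x = y) :
    ∃ g ∈ Subgroup.normalizer (P₁ : Set J), g • x = y := by
  obtain ⟨g, hg⟩ := hc
  obtain ⟨hW1, hW2⟩ := hW
  have hP₁ : IsPGroup p P₁ := P.2.to_le hW1
  -- B = g⁻¹ P₁ g
  set B : Subgroup J := P₁.map (MulAut.conj g⁻¹).toMonoidHom with hBdef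
  have hBp : IsPGroup p B := hP₁.map _
  have hAS : P₁ ≤ MulAction.stabilizer J x := fun a ha => hx a ha
  have hBS : B ≤ MulAction.stabilizer J x := by
    rintro b hb
    obtain ⟨a, ha, rfl⟩ := Subgroup.mem_map.mp hb
    rw [MulAction.mem_stabilizer_iff]
    show (g⁻¹ * a * g⁻¹⁻¹) • x = x
    rw [inv_inv, mul_smul, mul_smul, hg, hy a ha, ← hg, inv_smul_smul]
  obtain ⟨h, hh, P', hAP', hBP'⟩ := common_sylow (p := p) _ P₁ B hP₁ hBp hAS hBS
  obtain ⟨k, hk⟩ := MulAction.exists_smul_eq J P' P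
  -- k P' k⁻¹ = P
  have hkP : ∀ z ∈ (P' : Subgroup J), k * z * k⁻¹ ∈ (P : Subgroup J) := by
    intro z hz
    have h3 : (MulAut.conj k) • z ∈ (MulAut.conj k) • (P' : Subgroup J) :=
      Subgroup.smul_mem_pointwise_smul _ _ _ hz
    rw [← Sylow.coe_subgroup_smul, hk] at h3
    simpa [MulAut.smul_def] using h3
  -- k normalizes P₁
  have mem_norm : ∀ n : J, P₁.map (MulAut.conj n).toMonoidHom = P₁ → n ∈ Subgroup.normalizer (P₁ : Set J) := by
    intro n hn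
    rw [Subgroup.mem_normalizer_iff]
    intro z
    constructor
    · intro hz
      rw [← hn]
      exact Subgroup.mem_map.mpr ⟨z, hz, rfl⟩
    · intro hz
      rw [← hn] at hz
      obtain ⟨w, hw, hwz⟩ := Subgroup.mem_map.mp hz
      have : w = z := by
        have : n * w * n⁻¹ = n * z * n⁻¹ := hwz
        simpa using this
      rwa [← this]
  have hk1 : k ∈ Subgroup.normalizer (P₁ : Set J) := by
    apply mem_norm
    apply hW2
    rintro z hz
    obtain ⟨w, hw, rfl⟩ := Subgroup.mem_map.mp hz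
    exact hkP w (hAP' hw)
  have hk2 : k * h * g⁻¹ ∈ Subgroup.normalizer (P₁ : Set J) := by
    apply mem_norm
    apply hW2
    rintro z hz
    obtain ⟨w, hw, rfl⟩ := Subgroup.mem_map.mp hz
    have h1 : g⁻¹ * w * g⁻¹⁻¹ ∈ B := Subgroup.mem_map.mpr ⟨w, hw, rfl⟩
    have h2 := hkP _ (hBP' _ h1)
    have : (MulAut.conj (k * h * g⁻¹)).toMonoidHom w = k * (h * (g⁻¹ * w * g⁻¹⁻¹) * h⁻¹) * k⁻¹ := by
      show (k * h * g⁻¹) * w * (k * h * g⁻¹)⁻¹ = _
      group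
    rw [this]; exact h2
  -- g h⁻¹ ∈ N(P₁)
  refine ⟨g * h⁻¹, ?_, ?_⟩
  · have : g * h⁻¹ = (k * h * g⁻¹)⁻¹ * k := by group
    rw [this]
    exact Subgroup.mul_mem _ (Subgroup.inv_mem _ hk2) hk1
  · rw [mul_smul]
    have h7 : h • x = x := hh
    have h8 : h⁻¹ • x = x := by rw [inv_smul_eq_iff]; exact h7.symm
    rw [h8, hg]

end Cfsg.Agent.S3180
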