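import Mathlib
import Cfsg.Statements.S3183

set_option autoImplicit false
open Cfsg

namespace Cfsg.Agent.S3183

open scoped Pointwise

/-- Sylow conjugation inside a subgroup `N` containing a Sylow subgroup `W` of `G`. -/
theorem sylow_conj_in {G : Type*} [Group G] [Finite G] {p : ℕ} [Fact p.Prime] (W : Sylow p G)
    (N : Subgroup G) (hW : (W : Subgroup G) ≤ N) (R : Subgroup G) (hR : IsPGroup p R) (hRN : R ≤ N) :
    ∃ n ∈ N, ∀ r ∈ R, n⁻¹ * r * n ∈ (W : Subgroup G) := by
  let W' : Sylow p N := W.subtype hW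
  have hR' : IsPGroup p (R.subgroupOf N) := hR.comap_subtype
  obtain ⟨V0, hV0⟩ := hR'.exists_le_sylow
  obtain ⟨n, hn⟩ := MulAction.exists_smul_eq N W' V0
  refine ⟨n, n.2, fun r hr => ?_⟩
  have h1 : (⟨r, hRN hr⟩ : N) ∈ (V0 : Subgroup N) := hV0 (by simpa [Subgroup.mem_subgroupOf] using hr)
  rw [← hn, Sylow.smul_def, Sylow.pointwise_smul_def,
    Subgroup.mem_pointwise_smul_iff_inv_smul_mem, MulAut.smul_def, MulAut.conj_inv_apply] at h1
  have h2 : n⁻¹ * (⟨r, hRN hr⟩ : N) * n ∈ (W : Subgroup G).subgroupOf N := h1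
  rw [Subgroup.mem_subgroupOf] at h2
  simpa using h2

theorem mem_center_map {G : Type*} [Group G] (U : Subgroup G) (x : G) :
    x ∈ (Subgroup.center ↥U).map U.subtype ↔ x ∈ U ∧ ∀ u ∈ U, u * x = x * u := by
  constructor
  · rintro ⟨z, hz, rfl⟩
    refine ⟨z.2, fun u hu => ?_⟩
    have := Subgroup.mem_center_iff.mp hz ⟨u, hu⟩
    exact congrArg Subtype.val this
  · rintro ⟨hx, h⟩
    refine ⟨⟨x, hx⟩, ?_, rfl⟩
    rw [SetLike.mem_coe, Subgroup.mem_center_iff]
    intro u
    exact Subtype.ext (h u u.2)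

/-- Key lemma: an element of `S` that is central in some Sylow 2-subgroup is central in `S`. -/
theorem key {G : Type*} [Group G] [Finite G]
    (hCI : ∀ S T : Sylow 2 G, S ≠ T → ∃ U : Sylow 2 G,
      (S : Subgroup G) ⊓ (T : Subgroup G) ≤ (Subgroup.center ↥(U : Subgroup G)).map (U : Subgroup G).subtype)
    (S U : Sylow 2 G) (x : G) (hxS : x ∈ (S : Subgroup G))
    (hxU : ∀ u ∈ (U : Subgroup G), u * x = x * u) : ∀ s ∈ (S : Subgroup G), s * x = x * s := by
  have : Fact (Nat.Prime 2) := ⟨Nat.prime_two⟩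
  set C := Subgroup.centralizer ({x} : Set G) with hC
  have memC : ∀ g, g ∈ C ↔ g * x = x * g := by
    intro g
    rw [hC, Subgroup.mem_centralizer_iff]
    constructor
    · intro h; exact (h x rfl).symm
    · rintro h y rfl; exact h.symm
  have hUC : (U : Subgroup G) ≤ C := fun u hu => (memC u).mpr (hxU u hu)
  set A := (S : Subgroup G) ⊓ C with hA
  by_contra hcon
  have hAS : A < (S : Subgroup G) := by
    refine lt_of_le_of_ne inf_le_left fun h => hcon fun s hs => ?_
    rw [← h] at hs
    exact (memC s).mp hs.2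
  have hxA : x ∈ A := ⟨hxS, (memC x).mpr rfl⟩
  -- step (i)
  obtain ⟨g, hgC, hg⟩ := sylow_conj_in U C hUC A (S.2.to_le inf_le_left) inf_le_right
  set V : Sylow 2 G := g • U with hV
  have memV : ∀ v, v ∈ (V : Subgroup G) ↔ g⁻¹ * v * g ∈ (U : Subgroup G) := by
    intro v
    rw [hV, Sylow.smul_def, Sylow.pointwise_smul_def,
      Subgroup.mem_pointwise_smul_iff_inv_smul_mem, MulAut.smul_def, MulAut.conj_inv_apply]
  have hAV : A ≤ (V : Subgroup G) := fun a ha => (memV a).mpr (hg a ha)
  have hVC : (V : Subgroup G) ≤ C := by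
    intro v hv
    have h1 := hUC ((memV v).mp hv)
    have : v = g * (g⁻¹ * v * g) * g⁻¹ := by group
    rw [this]
    exact C.mul_mem (C.mul_mem hgC h1) (C.inv_mem hgC)
  have hSV : S ≠ V := by
    intro h
    apply hcon
    intro s hs
    rw [h] at hs
    exact (memC s).mp (hVC hs)
  have hSVA : (S : Subgroup G) ⊓ (V : Subgroup G) = A := by
    apply le_antisymm
    · exact inf_le_inf_left _ hVC
    · exact le_inf inf_le_left hAV
  obtain ⟨W, hW⟩ := hCI S V hSV
  rw [hSVA] at hW
  have hWA : ∀ a ∈ A, ∀ w ∈ (W : Subgroup G), w * a = a * w := fun a ha =>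
    ((mem_center_map _ a).mp (hW ha)).2
  -- normalizer of A
  set NA := Subgroup.normalizer (A : Set G) with hNA
  have hWNA : (W : Subgroup G) ≤ NA := by
    intro w hw
    rw [hNA, Subgroup.mem_normalizer_iff]
    intro a
    constructor
    · intro ha
      have := hWA a ha w hw
      rw [this, mul_inv_cancel_right]
      exact ha
    · intro ha
      have := hWA _ ha w hw
      have h2 : w * a * w⁻¹ = a := by
        have : w * (w * a * w⁻¹) = w * a := by
          rw [this]; group
        exact mul_left_cancel this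
      rw [h2] at ha
      exact ha
  obtain ⟨n, hnNA, hn⟩ := sylow_conj_in W NA hWNA ((S : Subgroup G) ⊓ NA) (S.2.to_le inf_le_left) inf_le_right
  have hRA : (S : Subgroup G) ⊓ NA ≤ A := by
    intro r hr
    refine ⟨hr.1, (memC r).mpr ?_⟩
    -- n⁻¹ r n ∈ W centralizes A ∋ n⁻¹ x n
    have h1 := hn r hr
    have h2 : n⁻¹ * x * n ∈ A := by
      have hn' : n⁻¹ ∈ NA := NA.inv_mem hnNA
      have := (Subgroup.mem_normalizer_iff.mp hn' x).mp hxA
      simpa using this
    have h3 := hWA _ h2 _ h1
    have h4 : n⁻¹ * (r * x) * n = n⁻¹ * (x * r) * n := by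
      calc n⁻¹ * (r * x) * n = (n⁻¹ * r * n) * (n⁻¹ * x * n) := by group
        _ = (n⁻¹ * x * n) * (n⁻¹ * r * n) := h3
        _ = n⁻¹ * (x * r) * n := by group
    exact mul_left_cancel (mul_right_cancel h4)
  -- normalizer condition in S
  have hnil : Group.IsNilpotent (S : Subgroup G) := S.2.isNilpotent
  have hnc : NormalizerCondition (S : Subgroup G) := Group.normalizerCondition_of_isNilpotent
  have hA' : A.subgroupOf (S : Subgroup G) < ⊤ := by
    rw [lt_top_iff_ne_top, Ne, Subgroup.subgroupOf_eq_top]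
    exact not_le_of_gt hAS
  have hlt := hnc _ hA'
  obtain ⟨s, hsN, hsA⟩ := SetLike.exists_of_lt hlt
  apply hsA
  rw [Subgroup.mem_subgroupOf]
  apply hRA
  refine ⟨s.2, ?_⟩
  show (s : G) ∈ Subgroup.normalizer (A : Set G)
  rw [Subgroup.mem_normalizer_iff]
  rw [Subgroup.mem_normalizer_iff] at hsN
  intro a
  constructor
  · intro ha
    have haS : a ∈ (S : Subgroup G) := hAS.le ha
    have := (hsN ⟨a, haS⟩).mp (by rw [Subgroup.mem_subgroupOf]; exact ha)
    rw [Subgroup.mem_subgroupOf] at this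
    simpa using this
  · intro ha
    have haS : a ∈ (S : Subgroup G) := by
      have h1 : (s : G) * a * (s : G)⁻¹ ∈ (S : Subgroup G) := hAS.le ha
      have : a = (s : G)⁻¹ * ((s : G) * a * (s : G)⁻¹) * (s : G) := by group
      rw [this]
      exact Subgroup.mul_mem _ (Subgroup.mul_mem _ (Subgroup.inv_mem _ s.2) h1) s.2
    have := (hsN ⟨a, haS⟩).mpr (by rw [Subgroup.mem_subgroupOf]; simpa using ha)
    rw [Subgroup.mem_subgroupOf] at this
    exact this

theorem result {G : Type*} [Group G] [Finite G]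
    (hCI : ∀ S T : Sylow 2 G, S ≠ T → ∃ U : Sylow 2 G,
      (S : Subgroup G) ⊓ (T : Subgroup G) ≤ (Subgroup.center ↥(U : Subgroup G)).map (U : Subgroup G).subtype)
    (S : Sylow 2 G) :
    (∀ x ∈ (S : Subgroup G), ∀ P : Subgroup G, IsPGroup 2 ↥P → P ≤ Subgroup.centralizer ({x} : Set G) →
        Nat.card ↥P ≤ Nat.card ↥((S : Subgroup G) ⊓ Subgroup.centralizer ({x} : Set G))) ∧
    (∀ T : Sylow 2 G, T ≠ S →
        (S : Subgroup G) ⊓ (T : Subgroup G) ≤
          (Subgroup.center ↥(S : Subgroup G)).map (S : Subgroup G).subtype ⊓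
            (Subgroup.center ↥(T : Subgroup G)).map (T : Subgroup G).subtype) := by
  have : Fact (Nat.Prime 2) := ⟨Nat.prime_two⟩
  -- part 2 as a lemma
  have part2 : ∀ S T : Sylow 2 G, S ≠ T → ∀ x ∈ (S : Subgroup G) ⊓ (T : Subgroup G),
      ∀ s ∈ (S : Subgroup G), s * x = x * s := by
    intro S T hST x hx s hs
    obtain ⟨U, hU⟩ := hCI S T hST
    have hxU := (mem_center_map _ x).mp (hU hx)
    exact key hCI S U x hx.1 hxU.2 s hs
  constructor
  · intro x hxS P hP hPC
    set C := Subgroup.centralizer ({x} : Set G) with hC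
    have memC : ∀ g, g ∈ C ↔ g * x = x * g := by
      intro g
      rw [hC, Subgroup.mem_centralizer_iff]
      constructor
      · intro h; exact (h x rfl).symm
      · rintro h y rfl; exact h.symm
    have hx2 : IsPGroup 2 (Subgroup.zpowers x) := S.2.to_le (Subgroup.zpowers_le.mpr hxS)
    have hnorm : Subgroup.zpowers x ≤ Subgroup.normalizer (P : Set G) := by
      rw [Subgroup.zpowers_le, Subgroup.mem_normalizer_iff]
      intro y
      have key2 : ∀ y ∈ P, x * y * x⁻¹ = y := by
        intro y hy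
        have := (memC y).mp (hPC hy)
        rw [← this, mul_inv_cancel_right]
      constructor
      · intro hy
        rw [key2 y hy]; exact hy
      · intro hy
        have := key2 _ hy
        have h2 : x * y * x⁻¹ = y := by
          have h3 : x * (x * y * x⁻¹) = x * y := by
            have := (memC _).mp (hPC hy)
            rw [← this]; group
          exact mul_left_cancel h3
        rw [h2] at hy; exact hy
    have hsup : IsPGroup 2 (P ⊔ Subgroup.zpowers x : Subgroup G) :=
      IsPGroup.to_sup_of_normal_left' hP hx2 hnorm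
    obtain ⟨S', hS'⟩ := hsup.exists_le_sylow
    have hPS' : P ≤ (S' : Subgroup G) := le_sup_left.trans hS'
    have hxS' : x ∈ (S' : Subgroup G) := hS' (le_sup_right (a := P) (Subgroup.mem_zpowers x))
    by_cases hSS' : S = S'
    · apply Subgroup.card_le_of_le
      rw [hSS']
      exact le_inf hPS' hPC
    · have hcen := part2 S S' hSS' x ⟨hxS, hxS'⟩
      have hSC : (S : Subgroup G) ⊓ C = S := by
        apply le_antisymm inf_le_left
        exact le_inf le_rfl fun s hs => (memC s).mpr (hcen s hs)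
      rw [hSC]
      calc Nat.card P ≤ Nat.card (S' : Subgroup G) := Subgroup.card_le_of_le hPS'
        _ = Nat.card (S : Subgroup G) := by
          rw [Sylow.card_eq_multiplicity, Sylow.card_eq_multiplicity]
  · intro T hTS x hx
    rw [Subgroup.mem_inf]
    refine ⟨?_, ?_⟩
    · rw [mem_center_map]
      exact ⟨hx.1, part2 S T hTS.symm x hx⟩
    · rw [mem_center_map]
      exact ⟨hx.2, part2 T S hTS x ⟨hx.2, hx.1⟩⟩

end Cfsg.Agent.S3183
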