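import Mathlib
import Cfsg.Statements.S3190

set_option autoImplicit false
open Cfsg

namespace Cfsg.Agent.S3190

/-- A nontrivial normal subgroup of a finite `p`-group meets the centre nontrivially. -/
theorem exists_mem_center_of_normal {G : Type*} [Group G] [Finite G] {p : ℕ} [Fact p.Prime]
    (hG : IsPGroup p G) (H : Subgroup G) [H.Normal] (hH : H ≠ ⊥) :
    ∃ z : G, z ∈ H ∧ z ∈ Subgroup.center G ∧ z ≠ 1 := by
  have hp : p ∣ Nat.card H := by
    have hHp : IsPGroup p H := hG.to_subgroup H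
    have : Nontrivial H := (Subgroup.nontrivial_iff_ne_bot H).mpr hH
    obtain ⟨n, hn0, hn⟩ := hHp.nontrivial_iff_card.mp inferInstance
    rw [hn]
    exact dvd_pow_self _ (ne_of_gt hn0)
  have hfix : (1 : H) ∈ MulAction.fixedPoints (ConjAct G) H := by
    intro g
    exact smul_one g
  obtain ⟨b, hb, hb1⟩ :=
    (hG.of_equiv ConjAct.toConjAct).exists_fixed_point_of_prime_dvd_card_of_fixed_point H hp hfix
  refine ⟨(b : G), b.2, ?_, ?_⟩
  · rw [Subgroup.mem_center_iff]
    intro g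
    have := hb (ConjAct.toConjAct g)
    have h2 : g * (b : G) * g⁻¹ = (b : G) := by
      have h3 := congrArg Subtype.val this
      rw [ConjAct.Subgroup.val_conj_smul, ConjAct.toConjAct_smul] at h3
      exact h3
    calc g * (b : G) = (g * (b : G) * g⁻¹) * g := by group
      _ = (b : G) * g := by rw [h2]
  · intro h
    apply hb1
    exact Subtype.ext h.symm

theorem mem_center_map {G : Type*} [Group G] (U : Subgroup G) (x : G) :
    x ∈ (Subgroup.center ↥U).map U.subtype ↔ x ∈ U ∧ ∀ u ∈ U, u * x = x * u := by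
  constructor
  · rintro ⟨z, hz, rfl⟩
    refine ⟨z.2, fun u hu => ?_⟩
    have := Subgroup.mem_center_iff.mp hz ⟨u, hu⟩
    exact congrArg Subtype.val this
  · rintro ⟨hx, h⟩
    refine ⟨⟨x, hx⟩, ?_, rfl⟩
    rw [SetLike.mem_coe, Subgroup.mem_center_iff]
    intro u
    exact Subtype.ext (h u u.2)

/-- conjugation by an element normalizing `R` preserves the centre of `R`. -/
theorem conj_mem_center {G : Type*} [Group G] (R : Subgroup G) (g : G)
    (hg : g ∈ Subgroup.normalizer (R : Set G)) (z : G)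
    (hz : z ∈ (Subgroup.center ↥R).map R.subtype) :
    g * z * g⁻¹ ∈ (Subgroup.center ↥R).map R.subtype := by
  rw [mem_center_map] at hz ⊢
  obtain ⟨hzR, hzc⟩ := hz
  rw [Subgroup.mem_normalizer_iff] at hg
  refine ⟨(hg z).mp hzR, fun r hr => ?_⟩
  have h1 : g⁻¹ * r * g ∈ R := by
    rw [hg]
    convert hr using 1
    group
  have h2 := hzc _ h1
  calc r * (g * z * g⁻¹) = g * ((g⁻¹ * r * g) * z) * g⁻¹ := by group
    _ = g * (z * (g⁻¹ * r * g)) * g⁻¹ := by rw [h2]
    _ = g * z * g⁻¹ * r := by group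

theorem result {X : Type*} [Group X] [Finite X]
    {p : ℕ} (hp : p.Prime) (hodd : Odd p) (P T R : Subgroup X) (hP : IsPGroup p ↥P) (hT : IsKleinFour ↥T)
    (hTP : T ≤ Subgroup.normalizer (P : Set X)) (hRP : R ≤ P) (hRn : (R.subgroupOf P).Normal)
    (hTR : T ≤ Subgroup.normalizer (R : Set X)) (hfac : R ⊔ (P ⊓ Subgroup.centralizer (T : Set X)) = P)
    (hZ : T ≤ Subgroup.centralizer (((Subgroup.center ↥P).map P.subtype : Subgroup X) : Set X)) :
    T ≤ Subgroup.centralizer (((Subgroup.center ↥R).map R.subtype : Subgroup X) : Set X) := by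
  have : Fact p.Prime := ⟨hp⟩
  set Z := (Subgroup.center ↥R).map R.subtype with hZdef
  intro t ht
  rw [Subgroup.mem_centralizer_iff]
  intro z hz
  by_contra hne
  -- t² = 1
  have ht2 : t * t = 1 := by
    have h1 : (⟨t, ht⟩ : T) ^ 2 = 1 := by
      rw [← hT.exponent_two]; exact Monoid.pow_exponent_eq_one _
    have := congrArg Subtype.val h1
    simpa [pow_two] using this
  have htinv : t⁻¹ = t := inv_eq_of_mul_eq_one_left ht2
  have hZcomm : ∀ a ∈ Z, ∀ b ∈ Z, a * b = b * a := by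
    intro a ha b hb
    exact (((mem_center_map R b).mp hb).2 a ((mem_center_map R a).mp ha).1)
  have hZR : Z ≤ R := fun a ha => ((mem_center_map R a).mp ha).1
  -- W: elements of Z inverted by t
  let W : Subgroup X :=
    { carrier := {w | w ∈ Z ∧ t * w * t⁻¹ = w⁻¹}
      one_mem' := ⟨Z.one_mem, by simp⟩
      mul_mem' := by
        rintro a b ⟨ha, ha'⟩ ⟨hb, hb'⟩
        refine ⟨Z.mul_mem ha hb, ?_⟩
        calc t * (a * b) * t⁻¹ = (t * a * t⁻¹) * (t * b * t⁻¹) := by group
          _ = a⁻¹ * b⁻¹ := by rw [ha', hb']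
          _ = (b * a)⁻¹ := by group
          _ = (a * b)⁻¹ := by rw [hZcomm a ha b hb]
      inv_mem' := by
        rintro a ⟨ha, ha'⟩
        refine ⟨Z.inv_mem ha, ?_⟩
        calc t * a⁻¹ * t⁻¹ = (t * a * t⁻¹)⁻¹ := by group
          _ = a⁻¹⁻¹ := by rw [ha'] }
  have memW : ∀ w, w ∈ W ↔ w ∈ Z ∧ t * w * t⁻¹ = w⁻¹ := fun w => Iff.rfl
  -- W ≠ ⊥
  have hWne : W ≠ ⊥ := by
    intro hW
    have htz : t * z * t⁻¹ ∈ Z := conj_mem_center R t (hTR ht) z hz
    have hw : z⁻¹ * (t * z * t⁻¹) ∈ W := by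
      refine ⟨Z.mul_mem (Z.inv_mem hz) htz, ?_⟩
      calc t * (z⁻¹ * (t * z * t⁻¹)) * t⁻¹ = (t * z * t⁻¹)⁻¹ * ((t * t) * z * (t * t)⁻¹) := by group
        _ = (t * z * t⁻¹)⁻¹ * z := by rw [ht2]; group
        _ = (z⁻¹ * (t * z * t⁻¹))⁻¹ := by group
    rw [hW, Subgroup.mem_bot] at hw
    apply hne
    have : t * z * t⁻¹ = z := by
      have := congrArg (fun y => z * y) hw
      simpa using this
    calc z * t = (t * z * t⁻¹) * t := by rw [this]
      _ = t * z := by group
  -- W is normalized by R (centralized) and by C := P ⊓ C(T), hence by P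
  have hRW : R ≤ Subgroup.normalizer (W : Set X) := by
    intro r hr
    rw [Subgroup.mem_normalizer_iff]
    intro w
    have key : ∀ w ∈ Z, r * w * r⁻¹ = w := by
      intro w hw
      have := ((mem_center_map R w).mp hw).2 r hr
      rw [this, mul_inv_cancel_right]
    constructor
    · intro hw
      rw [key w hw.1]; exact hw
    · intro hw
      have h1 := key _ hw.1
      have h2 : r * w * r⁻¹ = w := by
        have : r * (r * w * r⁻¹) = r * w := by
          have h3 := ((mem_center_map R _).mp hw.1).2 r hr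
          rw [h3]; group
        exact mul_left_cancel this
      rw [h2] at hw; exact hw
  have hPR : P ≤ Subgroup.normalizer (R : Set X) := by
    intro g hg
    rw [Subgroup.mem_normalizer_iff]
    intro r
    constructor
    · intro hr
      have := hRn.conj_mem ⟨r, hRP hr⟩ (by rw [Subgroup.mem_subgroupOf]; exact hr) ⟨g, hg⟩
      rw [Subgroup.mem_subgroupOf] at this
      simpa using this
    · intro hr
      have hr' : g * r * g⁻¹ ∈ P := hRP hr
      have := hRn.conj_mem ⟨g * r * g⁻¹, hr'⟩ (by rw [Subgroup.mem_subgroupOf]; exact hr) ⟨g, hg⟩⁻¹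
      rw [Subgroup.mem_subgroupOf] at this
      have e : ((⟨g, hg⟩ : P)⁻¹ * ⟨g * r * g⁻¹, hr'⟩ * (⟨g, hg⟩ : P)⁻¹⁻¹ : P).1 = r := by
        simp [mul_assoc]
      rw [e] at this
      exact this
  have hCW : P ⊓ Subgroup.centralizer (T : Set X) ≤ Subgroup.normalizer (W : Set X) := by
    have conjW : ∀ c ∈ P ⊓ Subgroup.centralizer (T : Set X), ∀ w ∈ W, c * w * c⁻¹ ∈ W := by
      intro c hc w hw
      refine ⟨conj_mem_center R c (hPR hc.1) w hw.1, ?_⟩
      have hct : t * c = c * t := (Subgroup.mem_centralizer_iff.mp hc.2 t ht)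
      have hct' : t⁻¹ * c⁻¹ = c⁻¹ * t⁻¹ := by
        rw [← mul_inv_rev, ← mul_inv_rev, hct]
      calc t * (c * w * c⁻¹) * t⁻¹ = (t * c) * w * (c⁻¹ * t⁻¹) := by group
        _ = (c * t) * w * (t⁻¹ * c⁻¹) := by rw [hct, hct']
        _ = c * (t * w * t⁻¹) * c⁻¹ := by group
        _ = c * w⁻¹ * c⁻¹ := by rw [hw.2]
        _ = (c * w * c⁻¹)⁻¹ := by group
    intro c hc
    rw [Subgroup.mem_normalizer_iff]
    intro w
    constructor
    · exact conjW c hc w
    · intro hw
      have := conjW c⁻¹ (Subgroup.inv_mem _ hc) _ hw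
      simpa [mul_assoc] using this
  have hPW : P ≤ Subgroup.normalizer (W : Set X) := by
    rw [← hfac]
    exact sup_le hRW hCW
  have hWP : W ≤ P := fun w hw => hRP (hZR hw.1)
  have hWn : (W.subgroupOf P).Normal := by
    constructor
    intro w hw g
    rw [Subgroup.mem_subgroupOf] at hw ⊢
    have := (Subgroup.mem_normalizer_iff.mp (hPW g.2) w).mp hw
    simpa using this
  have hW'ne : W.subgroupOf P ≠ ⊥ := by
    intro h
    apply hWne
    rw [Subgroup.subgroupOf_eq_bot] at h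
    rw [eq_bot_iff]
    intro w hw
    have := h.le_bot ⟨hw, hWP hw⟩
    exact this
  obtain ⟨w, hwW, hwc, hw1⟩ := exists_mem_center_of_normal hP (W.subgroupOf P) hW'ne
  rw [Subgroup.mem_subgroupOf] at hwW
  have hwZP : (w : X) ∈ (Subgroup.center ↥P).map P.subtype := ⟨w, hwc, rfl⟩
  have hcomm := Subgroup.mem_centralizer_iff.mp (hZ ht) _ hwZP
  -- t w t⁻¹ = w and = w⁻¹
  have h1 : t * (w : X) * t⁻¹ = w := by
    rw [← hcomm, mul_inv_cancel_right]
  have h2 : (w : X) = (w : X)⁻¹ := by rw [← hwW.2, h1]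
  have h3 : (w : X) ^ 2 = 1 := by
    rw [pow_two]
    nth_rewrite 1 [h2]
    exact inv_mul_cancel _
  have h4 : orderOf (w : X) ∣ 2 := orderOf_dvd_of_pow_eq_one h3
  obtain ⟨k, hk⟩ := hP w
  have h5 : orderOf (w : X) ∣ p ^ k := by
    apply orderOf_dvd_of_pow_eq_one
    have := congrArg Subtype.val hk
    simpa using this
  have hcop : Nat.Coprime 2 (p ^ k) := by
    apply Nat.Coprime.pow_right
    rw [Nat.coprime_two_left]
    exact hodd
  have h6 : orderOf (w : X) = 1 := Nat.eq_one_of_dvd_coprimes hcop h4 h5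
  rw [orderOf_eq_one_iff] at h6
  exact hw1 (Subtype.ext h6)

end Cfsg.Agent.S3190
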