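import Mathlib
import Cfsg.Statements.S3200
import Cfsg.Agent.H1.Hall
import Cfsg.Agent.H1.Card
import Cfsg.Agent.Lib.helper3.Burnside

set_option autoImplicit false
open Cfsg

namespace Cfsg.Agent.S3200

universe u

open scoped Pointwise

/-- abelian Hall 2'-subgroup -/
def HasAC (X : Type u) [Group X] : Prop :=
  ∃ C : Subgroup X, (∀ a ∈ C, ∀ b ∈ C, a * b = b * a) ∧ Odd (Nat.card C) ∧ ∃ k : ℕ, C.index = 2 ^ k

theorem hasAC_normal {X : Type u} [Group X] [Finite X] (h : HasAC X) (N : Subgroup X) [N.Normal] :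
    HasAC N := by
  obtain ⟨C, hcomm, hodd, k, hk⟩ := h
  refine ⟨C.subgroupOf N, ?_, ?_, ?_⟩
  · intro a ha b hb
    exact Subtype.ext (hcomm a ha b hb)
  · have h1 : Nat.card (C.subgroupOf N) ∣ Nat.card C := by
      rw [← Subgroup.inf_subgroupOf_right,
        Nat.card_congr (Subgroup.subgroupOfEquivOfLe (inf_le_right : C ⊓ N ≤ N)).toEquiv]
      exact Subgroup.card_dvd_of_le inf_le_left
    exact Odd.of_dvd_nat hodd h1
  · have h1 : (C.subgroupOf N).index = C.relIndex N := rfl
    have h2 : C.relIndex N ∣ C.index := by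
      have hn : C ≤ Subgroup.normalizer (N : Set X) := by
        rw [Subgroup.normalizer_eq_top]; exact le_top
      have := Cfsg.Agent.H1.relIndex_inf_eq_relIndex_sup C N hn
      rw [Subgroup.inf_relIndex_right] at this
      rw [this]
      exact Dvd.intro _ (Subgroup.relIndex_mul_index (le_sup_left : C ≤ C ⊔ N))
    rw [hk] at h2
    obtain ⟨j, _, hj⟩ := (Nat.dvd_prime_pow Nat.prime_two).mp h2
    exact ⟨j, by rw [h1, hj]⟩

theorem hasAC_quotient {X : Type u} [Group X] [Finite X] (h : HasAC X) (N : Subgroup X) [N.Normal] :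
    HasAC (X ⧸ N) := by
  obtain ⟨C, hcomm, hodd, k, hk⟩ := h
  refine ⟨C.map (QuotientGroup.mk' N), ?_, ?_, ?_⟩
  · rintro _ ⟨a, ha, rfl⟩ _ ⟨b, hb, rfl⟩
    rw [← map_mul, ← map_mul, hcomm a ha b hb]
  · exact Odd.of_dvd_nat hodd (Subgroup.card_map_dvd _ _)
  · have h2 := Subgroup.index_map_dvd C (QuotientGroup.mk'_surjective N)
    rw [hk] at h2
    obtain ⟨j, _, hj⟩ := (Nat.dvd_prime_pow Nat.prime_two).mp h2
    exact ⟨j, hj⟩

theorem solvable_aux : ∀ n : ℕ, ∀ (X : Type u) [Group X] [Finite X], Nat.card X = n → HasAC X →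
    Group.IsSolvable X := by
  intro n
  induction n using Nat.strong_induction_on with
  | _ n ih =>
    intro X _ _ hn hAC
    by_cases hsimple : IsSimpleGroup X
    · -- simple case: Burnside
      obtain ⟨C, hcomm, hodd, k, hk⟩ := hAC
      by_cases hCbot : C = ⊥
      · -- X is a 2-group
        have hcard : Nat.card X = 2 ^ k := by
          rw [← Subgroup.card_mul_index C, hCbot, Subgroup.card_bot, one_mul, ← hCbot, hk]
        have hp : IsPGroup 2 X := IsPGroup.of_card hcard
        have := hp.isNilpotent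
        infer_instance
      · obtain ⟨⟨c, hcC⟩, hc⟩ := (Subgroup.ne_bot_iff_exists_ne_one).mp hCbot
        have hc1 : c ≠ 1 := fun h => hc (Subtype.ext h)
        have hle : C ≤ Subgroup.centralizer ({c} : Set X) := by
          intro a ha
          rw [Subgroup.mem_centralizer_singleton_iff]
          exact hcomm a ha c hcC
        have hdvd : (Subgroup.centralizer ({c} : Set X)).index ∣ 2 ^ k := by
          rw [← hk]
          exact Subgroup.index_dvd_of_le hle
        obtain ⟨j, _, hj⟩ := (Nat.dvd_prime_pow Nat.prime_two).mp hdvd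
        have hprime := Cfsg.Agent.Lib.helper3.Burnside.prime_card_of_prime_pow_class 2 j Nat.prime_two c hc1 hj
        have := Fact.mk hprime
        have hcyc : IsCyclic X := isCyclic_of_prime_card (p := Nat.card X) rfl
        exact Group.isSolvable_of_comm (fun a b => (IsCyclic.isMulCommutative (α := X)).is_comm.comm a b)
    · -- non-simple case
      by_cases htriv : Subsingleton X
      · infer_instance
      · have hnt : Nontrivial X := not_subsingleton_iff_nontrivial.mp htriv
        have : ∃ N : Subgroup X, N.Normal ∧ N ≠ ⊥ ∧ N ≠ ⊤ := by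
          by_contra hcon
          apply hsimple
          refine { exists_pair_ne := hnt.exists_pair_ne, eq_bot_or_eq_top_of_normal := ?_ }
          intro N hN
          by_contra h2
          rw [not_or] at h2
          exact hcon ⟨N, hN, h2.1, h2.2⟩
        obtain ⟨N, hN, hNbot, hNtop⟩ := this
        have hNlt : Nat.card N < n := by
          rw [← hn]
          rcases (Subgroup.card_le_card_group N).lt_or_eq with h | h
          · exact h
          · exact absurd (Subgroup.card_eq_iff_eq_top N |>.mp h) hNtop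
        have hQlt : Nat.card (X ⧸ N) < n := by
          rw [← hn, ← Subgroup.index_eq_card, ← Subgroup.card_mul_index N]
          have h1 : 1 < Nat.card N := by
            rw [Subgroup.one_lt_card_iff_ne_bot]; exact hNbot
          have h2 : 0 < N.index := Nat.pos_of_ne_zero Subgroup.index_ne_zero_of_finite
          nlinarith
        have s1 : Group.IsSolvable N := ih _ hNlt N rfl (hasAC_normal hAC N)
        have s2 : Group.IsSolvable (X ⧸ N) := ih _ hQlt (X ⧸ N) rfl (hasAC_quotient hAC N)
        refine Group.isSolvable_of_ker_le_range N.subtype (QuotientGroup.mk' N) ?_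
        rw [QuotientGroup.ker_mk', Subgroup.range_subtype]

/-- a Sylow 2-subgroup is a complement of an odd-order subgroup of 2-power index -/
theorem isComplement'_sylow {X : Type u} [Group X] [Finite X] (P : Sylow 2 X) (D : Subgroup X)
    (hodd : Odd (Nat.card D)) (k : ℕ) (hk : D.index = 2 ^ k) :
    Subgroup.IsComplement' (P : Subgroup X) D := by
  obtain ⟨a, ha⟩ := IsPGroup.iff_card.mp P.2
  have hidx : ¬ 2 ∣ (P : Subgroup X).index := P.not_dvd_index
  have h1 : Nat.card (P : Subgroup X) * (P : Subgroup X).index = Nat.card D * D.index := by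
    rw [Subgroup.card_mul_index, Subgroup.card_mul_index]
  rw [ha, hk] at h1
  have hcD : Nat.Coprime (2 ^ a) (Nat.card D) :=
    Nat.Coprime.pow_left _ (Nat.coprime_two_left.mpr hodd)
  have hcI : Nat.Coprime (2 ^ k) (P : Subgroup X).index :=
    Nat.Coprime.pow_left _ ((Nat.Prime.coprime_iff_not_dvd Nat.prime_two).mpr hidx)
  have d1 : 2 ^ a ∣ 2 ^ k := by
    have : 2 ^ a ∣ Nat.card D * 2 ^ k := Dvd.intro _ h1
    exact hcD.dvd_of_dvd_mul_left this
  have d2 : 2 ^ k ∣ 2 ^ a := by
    have : 2 ^ k ∣ 2 ^ a * (P : Subgroup X).index := Dvd.intro_left _ h1.symm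
    exact hcI.dvd_of_dvd_mul_right this
  have heq : 2 ^ a = 2 ^ k := Nat.dvd_antisymm d1 d2
  apply Subgroup.isComplement'_of_coprime
  · rw [ha, heq, ← hk, mul_comm, Subgroup.card_mul_index]
  · rw [ha]; exact hcD

theorem isMulCommutative_of {X : Type u} [Group X] (D : Subgroup X)
    (h : ∀ a ∈ D, ∀ b ∈ D, a * b = b * a) : IsMulCommutative D :=
  ⟨⟨fun a b => Subtype.ext (h a a.2 b b.2)⟩⟩

theorem result {H : Type*} [Group H] [Finite H]
    (S : Sylow 2 H) (C : Subgroup H) (hC : IsMulCommutative ↥C) (hSC : Subgroup.IsComplement' (S : Subgroup H) C) :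
    Group.IsSolvable H ∧
    (∀ L : Subgroup H, ∃ (P : Sylow 2 ↥L) (D : Subgroup ↥L), IsMulCommutative ↥D ∧ Subgroup.IsComplement' (P : Subgroup ↥L) D) ∧
    (∀ (N : Subgroup H) [N.Normal], ∃ (P : Sylow 2 (H ⧸ N)) (D : Subgroup (H ⧸ N)),
      IsMulCommutative ↥D ∧ Subgroup.IsComplement' (P : Subgroup (H ⧸ N)) D) := by
  obtain ⟨a, ha⟩ := IsPGroup.iff_card.mp S.2
  have hCidx : C.index = 2 ^ a := by rw [hSC.index_eq_card, ha]
  have hCcard : Nat.card C = (S : Subgroup H).index := (hSC.symm.index_eq_card).symm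
  have hCodd : Odd (Nat.card C) := by
    rw [hCcard, ← Nat.not_even_iff_odd, even_iff_two_dvd]
    exact S.not_dvd_index
  have hcomm : ∀ x ∈ C, ∀ y ∈ C, x * y = y * x := by
    intro x hx y hy
    have := hC.is_comm.comm ⟨x, hx⟩ ⟨y, hy⟩
    exact congrArg Subtype.val this
  have hAC : HasAC H := ⟨C, hcomm, hCodd, a, hCidx⟩
  have hsol : Group.IsSolvable H := solvable_aux _ H rfl hAC
  refine ⟨hsol, ?_, ?_⟩
  · intro L
    have hL0 : Nat.card L ≠ 0 := Nat.card_pos.ne'
    obtain ⟨b, d, hd, hLcard⟩ := Nat.exists_eq_two_pow_mul_odd hL0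
    have hcop : Nat.Coprime d (2 ^ b) := (Nat.Coprime.pow_left _ (Nat.coprime_two_left.mpr hd)).symm
    obtain ⟨D0, hD0⟩ := Cfsg.Agent.H1.hall_exists (G := L) d (2 ^ b) (by rw [hLcard, mul_comm]) hcop
    -- D0 is abelian, as it is conjugate into C
    have hD1card : Nat.card (D0.map L.subtype) = d := by
      rw [Subgroup.card_map_of_injective L.subtype_injective, hD0]
    have hHcard : Nat.card H = Nat.card C * 2 ^ a := by
      rw [← hCidx, Subgroup.card_mul_index]
    have hcopH : Nat.Coprime (Nat.card C) (2 ^ a) :=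
      (Nat.Coprime.pow_left _ (Nat.coprime_two_left.mpr hCodd)).symm
    obtain ⟨g, hg⟩ := Cfsg.Agent.H1.hall_dominance (Nat.card C) (2 ^ a) hHcard hcopH C
      (D0.map L.subtype) rfl
      (by rw [hD1card]; exact (Nat.Coprime.pow_left _ (Nat.coprime_two_left.mpr hd)).symm)
    have hD0comm : ∀ x ∈ D0, ∀ y ∈ D0, x * y = y * x := by
      intro x hx y hy
      have hx' : (x : H) ∈ MulAut.conj g • C := hg ⟨x, hx, rfl⟩
      have hy' : (y : H) ∈ MulAut.conj g • C := hg ⟨y, hy, rfl⟩
      rw [Subgroup.mem_pointwise_smul_iff_inv_smul_mem] at hx' hy'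
      simp only [MulAut.smul_def, MulAut.conj_inv_apply] at hx' hy'
      have := hcomm _ hx' _ hy'
      apply Subtype.ext
      have h3 : (x : H) * y = g * ((g⁻¹ * x * g) * (g⁻¹ * y * g)) * g⁻¹ := by group
      have h4 : (y : H) * x = g * ((g⁻¹ * y * g) * (g⁻¹ * x * g)) * g⁻¹ := by group
      rw [Subgroup.coe_mul, Subgroup.coe_mul, h3, h4, this]
    have hD0idx : D0.index = 2 ^ b := by
      have := Subgroup.card_mul_index D0
      rw [hD0, hLcard] at this
      have hdpos : 0 < d := hd.pos
      have : d * D0.index = d * 2 ^ b := by rw [this, mul_comm]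
      exact Nat.eq_of_mul_eq_mul_left hdpos this
    refine ⟨default, D0, isMulCommutative_of D0 hD0comm, isComplement'_sylow _ D0 (hD0 ▸ hd) b hD0idx⟩
  · intro N _
    obtain ⟨D, hDcomm, hDodd, k, hk⟩ := hasAC_quotient hAC N
    exact ⟨default, D, isMulCommutative_of D hDcomm, isComplement'_sylow _ D hDodd k hk⟩

end Cfsg.Agent.S3200
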