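import Cfsg.Statements.S3201
import Cfsg.Agent.H2.UniqueOrderP
import Cfsg.Agent.H1.PGroup
import Mathlib

set_option autoImplicit false
set_option linter.style.haveILetI false
set_option linter.unusedVariables false
open Cfsg

namespace Cfsg.Agent.S3201

open Cfsg.Agent.H2.UOP

universe u

/-- relations in a `2`-group with a unique subgroup of order two -/
theorem quat_rel {R : Type u} [Group R] [Finite R] (hR : IsPGroup 2 R)
    (huniq : ∀ H K : Subgroup R, Nat.card H = 2 → Nat.card K = 2 → H = K)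
    (a : R) (hAn : (Subgroup.zpowers a).Normal)
    (hcent : ∀ g : R, g * a = a * g → g ∈ Subgroup.zpowers a)
    (n : ℕ) (hN : orderOf a = 2 ^ n) (ha1 : a ≠ 1)
    (b : R) (hb : b ∉ Subgroup.zpowers a) (hb2 : b ^ 2 ∈ Subgroup.zpowers a) :
    b⁻¹ * a * b = a⁻¹ ∧ 2 ≤ n ∧ b ^ 2 = a ^ (2 ^ (n - 1)) := by
  haveI : Fact (Nat.Prime 2) := ⟨Nat.prime_two⟩
  obtain ⟨s, j, hs, hj, F1, F2, F3, F4⟩ := key hR huniq a hAn hcent n hN ha1 b hb hb2
  have hgS : gS s 2 = s + 1 := by simp [gS]
  rw [hgS] at F1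
  obtain ⟨h1, h2, h3⟩ := two_concl n s j F1 F2 F3
  refine ⟨?_, h2, ?_⟩
  · have h5 : a ^ (s + 1) = 1 := by rw [← hN] at h1; exact orderOf_dvd_iff_pow_eq_one.1 h1
    rw [hs]; rw [pow_succ] at h5; exact eq_inv_of_mul_eq_one_left h5
  · rw [hj]; rw [← hN] at h3; exact pow_eq_pow_iff_modEq.2 h3

theorem huniq_of_unique {R : Type*} [Group R] [Finite R] (h : ∃! x : R, orderOf x = 2) :
    ∀ H K : Subgroup R, Nat.card H = 2 → Nat.card K = 2 → H = K := by
  obtain ⟨t, ht, htu⟩ := h
  have key : ∀ H : Subgroup R, Nat.card H = 2 → H = Subgroup.zpowers t := by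
    intro H hH
    haveI : Fact (Nat.Prime 2) := ⟨Nat.prime_two⟩
    obtain ⟨x, hx⟩ := exists_prime_orderOf_dvd_card' (G := H) 2 (by rw [hH])
    have hx' : orderOf (x : R) = 2 := by rw [Subgroup.orderOf_coe]; exact hx
    have hxt : (x : R) = t := htu _ hx'
    symm
    apply Subgroup.eq_of_le_of_card_ge
    · rw [Subgroup.zpowers_le, ← hxt]; exact x.2
    · rw [hH, Nat.card_zpowers, ht]
  intro H K hH hK
  rw [key H hH, key K hK]

/-- the relations hold modulo each of the central subgroups -/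
theorem rel_mod {S : Type u} [Group S] [Finite S] (hS : IsPGroup 2 S) (K : Subgroup S) [K.Normal]
    (hKZ : K ≤ Subgroup.center S) (hZsq : ∀ z ∈ Subgroup.center S, z ^ 2 = 1)
    (z0 : S) (hz0 : z0 ∈ Subgroup.center S) (hz0K : z0 ∉ K)
    (hZK : ∀ z ∈ Subgroup.center S, z ∈ K ∨ z * z0⁻¹ ∈ K)
    (hna : ¬ IsMulCommutative (S ⧸ K)) (hu : ∃! t : S ⧸ K, orderOf t = 2)
    (k : ℕ) (hk : 1 ≤ k) (hcard : Nat.card (S ⧸ K) = 2 ^ (k + 2))
    (x y : S) (hxZ : x ^ (2 ^ k) ∈ Subgroup.center S)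
    (hxnZ : x ^ (2 ^ (k - 1)) ∉ Subgroup.center S)
    (hy : ∀ (j : ℕ) (z : S), z ∈ Subgroup.center S → y ≠ x ^ j * z) :
    x ^ (2 ^ (k + 1)) ∈ K ∧ y⁻¹ * x * y * x ∈ K ∧ y ^ 2 * (x ^ (2 ^ k))⁻¹ ∈ K := by
  haveI : Fact (Nat.Prime 2) := ⟨Nat.prime_two⟩
  have hRp : IsPGroup 2 (S ⧸ K) := hS.to_quotient K
  have huniq := huniq_of_unique hu
  obtain ⟨t, ht, htu⟩ := hu
  set a : S ⧸ K := (x : S ⧸ K) with ha
  set b : S ⧸ K := (y : S ⧸ K) with hb
  -- the image of z0 is the involution
  have hz0t : ((z0 : S) : S ⧸ K) = t := by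
    apply htu
    apply orderOf_eq_prime
    · rw [← QuotientGroup.mk_pow, hZsq z0 hz0]; rfl
    · intro h; exact hz0K ((QuotientGroup.eq_one_iff z0).1 h)
  have hinv2 : ∀ r : S ⧸ K, r ^ 2 = 1 → r = 1 ∨ r = t := by
    intro r hr
    by_cases h1 : r = 1
    · exact Or.inl h1
    · exact Or.inr (htu r (orderOf_eq_prime hr h1))
  -- A1
  have hA1 : x ^ (2 ^ (k + 1)) ∈ K := by
    by_contra hcon
    have h1 : ¬ a ^ 2 ^ (k + 1) = 1 := by
      intro h; apply hcon
      rw [ha, ← QuotientGroup.mk_pow] at h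
      exact (QuotientGroup.eq_one_iff _).1 h
    have h2 : a ^ 2 ^ (k + 1 + 1) = 1 := by
      rw [ha, ← QuotientGroup.mk_pow]
      have h3 : x ^ 2 ^ (k + 1 + 1) = ((x ^ 2 ^ k) ^ 2) ^ 2 := by
        rw [← pow_mul, ← pow_mul]; congr 1; ring
      rw [h3, hZsq _ hxZ, one_pow]; rfl
    have h3 : orderOf a = 2 ^ (k + 1 + 1) := orderOf_eq_prime_pow h1 h2
    haveI h4 : IsCyclic (S ⧸ K) := isCyclic_of_orderOf_eq_card a (by rw [h3, hcard])
    exact hna IsCyclic.isMulCommutative
  -- A2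
  have hA2 : ¬ a ^ 2 ^ k = 1 := by
    intro hcon
    obtain ⟨m, rfl⟩ : ∃ m, k = m + 1 := ⟨k - 1, by omega⟩
    rw [Nat.add_sub_cancel] at hxnZ
    have h1 : (a ^ 2 ^ m) ^ 2 = 1 := by rw [← pow_mul, ← pow_succ]; exact hcon
    rcases hinv2 _ h1 with h2 | h2
    · rw [ha, ← QuotientGroup.mk_pow] at h2
      exact hxnZ (hKZ ((QuotientGroup.eq_one_iff _).1 h2))
    · rw [ha, ← QuotientGroup.mk_pow, ← hz0t] at h2
      have h3 : (x ^ 2 ^ m)⁻¹ * z0 ∈ K := QuotientGroup.eq.1 h2
      have h4 : x ^ 2 ^ m = z0 * ((x ^ 2 ^ m)⁻¹ * z0)⁻¹ := by group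
      rw [h4] at hxnZ
      exact hxnZ (Subgroup.mul_mem _ hz0 (Subgroup.inv_mem _ (hKZ h3)))
  have hA3 : a ^ 2 ^ (k + 1) = 1 := by
    rw [ha, ← QuotientGroup.mk_pow]; exact (QuotientGroup.eq_one_iff _).2 hA1
  have hord : orderOf a = 2 ^ (k + 1) := orderOf_eq_prime_pow hA2 hA3
  have hidx : (Subgroup.zpowers a).index = 2 := by
    have h1 := Subgroup.card_mul_index (Subgroup.zpowers a)
    rw [Nat.card_zpowers, hord, hcard, pow_succ 2 (k + 1)] at h1
    exact Nat.eq_of_mul_eq_mul_left (by positivity) h1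
  have hAn : (Subgroup.zpowers a).Normal := Subgroup.normal_of_index_eq_two hidx
  have hb2 : b ^ 2 ∈ Subgroup.zpowers a := Subgroup.sq_mem_of_index_two hidx b
  have hbn : b ∉ Subgroup.zpowers a := by
    intro h
    rw [← mem_powers_iff_mem_zpowers] at h
    obtain ⟨j, hj⟩ := h
    change a ^ j = b at hj
    rw [ha, hb, ← QuotientGroup.mk_pow] at hj
    have h3 : (x ^ j)⁻¹ * y ∈ K := QuotientGroup.eq.1 hj
    exact hy j ((x ^ j)⁻¹ * y) (hKZ h3) (by group)
  have hcent : ∀ g : S ⧸ K, g * a = a * g → g ∈ Subgroup.zpowers a := by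
    intro g hg
    by_contra hgn
    apply hna
    -- a is central
    have hac : ∀ r : S ⧸ K, r * a = a * r := by
      intro r
      obtain ⟨c, hc⟩ := Subgroup.index_eq_two_iff.1 hidx
      have hcomm : ∀ h ∈ Subgroup.zpowers a, h * a = a * h := by
        intro h hh
        obtain ⟨i, rfl⟩ := Subgroup.mem_zpowers_iff.1 hh
        exact ((Commute.refl a).zpow_left i).eq
      by_cases hr : r ∈ Subgroup.zpowers a
      · exact hcomm r hr
      · have h1 : r * c ∈ Subgroup.zpowers a := by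
          rcases hc r with ⟨h, -⟩ | ⟨h, -⟩
          · exact h
          · exact absurd h hr
        have h2 : g * c ∈ Subgroup.zpowers a := by
          rcases hc g with ⟨h, -⟩ | ⟨h, -⟩
          · exact h
          · exact absurd h hgn
        have h3 : r = (r * c) * (g * c)⁻¹ * g := by group
        have h4 : (r * c) * (g * c)⁻¹ ∈ Subgroup.zpowers a :=
          Subgroup.mul_mem _ h1 (Subgroup.inv_mem _ h2)
        have h5 := hcomm _ h4
        rw [h3]
        calc (r * c) * (g * c)⁻¹ * g * a = (r * c) * (g * c)⁻¹ * (g * a) := by group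
          _ = ((r * c) * (g * c)⁻¹ * a) * g := by rw [hg]; group
          _ = a * ((r * c) * (g * c)⁻¹ * g) := by rw [h5]; group
    have hle : (QuotientGroup.mk' (Subgroup.zpowers a)).ker ≤ Subgroup.center (S ⧸ K) := by
      rw [QuotientGroup.ker_mk']
      rw [Subgroup.zpowers_le, Subgroup.mem_center_iff]
      intro r; exact hac r
    haveI : IsCyclic ((S ⧸ K) ⧸ Subgroup.zpowers a) := by
      apply isCyclic_of_prime_card (p := 2)
      rw [← Subgroup.index_eq_card]; exact hidx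
    exact MonoidHom.isMulCommutative_of_isCyclic_of_ker_le_center
      (QuotientGroup.mk' (Subgroup.zpowers a)) hle
  have ha1 : a ≠ 1 := by
    intro h; apply hA2; rw [h, one_pow]
  obtain ⟨r1, r2, r3⟩ := quat_rel hRp huniq a hAn hcent (k + 1) hord ha1 b hbn hb2
  rw [Nat.add_sub_cancel] at r3
  refine ⟨hA1, ?_, ?_⟩
  · apply (QuotientGroup.eq_one_iff _).1
    have : ((y⁻¹ * x * y * x : S) : S ⧸ K) = b⁻¹ * a * b * a := rfl
    rw [this, r1]; group
  · apply (QuotientGroup.eq_one_iff _).1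
    have : ((y ^ 2 * (x ^ (2 ^ k))⁻¹ : S) : S ⧸ K) = b ^ 2 * (a ^ (2 ^ k))⁻¹ := rfl
    rw [this, r3]; group

/-- Let S be a finite 2-group whose centre Z(S) has n ≥ 2 distinct maximal subgroups C₁, …, Cₙ with trivial intersection such that each quotient S/Cᵢ is a non-abelian group with exactly one involution (a generalized quaternion group). Then S is the internal direct product of an elementary abelian subgroup and a non-abelian subgroup with exactly one involution. -/
theorem result {S : Type*} [Group S] [Finite S]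
    (hS : IsPGroup 2 S) (n : ℕ) (hn : 2 ≤ n) (C : Fin n → Subgroup ↥(Subgroup.center S))
    (hCmax : ∀ i, IsCoatom (C i)) (hCinj : Function.Injective C) (hCint : ⨅ i, C i = ⊥)
    (hCq : ∀ i, ∃ (_ : ((C i).map (Subgroup.center S).subtype).Normal),
      ¬ IsMulCommutative (S ⧸ (C i).map (Subgroup.center S).subtype) ∧
      ∃! x : S ⧸ (C i).map (Subgroup.center S).subtype, orderOf x = 2) :
    ∃ E Q : Subgroup S, Cfsg.IsInternalDirectProduct E Q ⊤ ∧ Cfsg.IsElementaryAbelian 2 E ∧
      ¬ IsMulCommutative ↥Q ∧ ∃! x : ↥Q, orderOf x = 2 := by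
  classical
  haveI : Fact (Nat.Prime 2) := ⟨Nat.prime_two⟩
  have hZ2 : IsPGroup 2 (Subgroup.center S) := hS.to_subgroup _
  have hidx : ∀ i, (C i).index = 2 := fun i =>
    (Cfsg.Agent.H1.coatom_normal_index_of_pgroup hZ2 (C i) (hCmax i)).2
  have hCsZ : ∀ i, (C i).map (Subgroup.center S).subtype ≤ Subgroup.center S := by
    intro i; rintro _ ⟨c, -, rfl⟩; exact c.2
  have hmemCs : ∀ i (s : S), s ∈ (C i).map (Subgroup.center S).subtype ↔
      ∃ hz : s ∈ Subgroup.center S, (⟨s, hz⟩ : Subgroup.center S) ∈ C i := by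
    intro i s
    constructor
    · rintro ⟨c, hc, rfl⟩; exact ⟨c.2, hc⟩
    · rintro ⟨hz, hc⟩; exact ⟨⟨s, hz⟩, hc, rfl⟩
  have hZsq : ∀ z ∈ Subgroup.center S, z ^ 2 = 1 := by
    intro z hz
    have h1 : (⟨z, hz⟩ : Subgroup.center S) ^ 2 ∈ ⨅ i, C i := by
      rw [Subgroup.mem_iInf]; intro i; exact Subgroup.sq_mem_of_index_two (hidx i) _
    rw [hCint, Subgroup.mem_bot] at h1
    have := congrArg Subtype.val h1
    simpa using this
  have i0 : Fin n := ⟨0, by omega⟩
  have hint : ∀ s : S, (∀ i, s ∈ (C i).map (Subgroup.center S).subtype) → s = 1 := by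
    intro s hs
    obtain ⟨hz, -⟩ := (hmemCs i0 s).1 (hs i0)
    have h1 : (⟨s, hz⟩ : Subgroup.center S) ∈ ⨅ i, C i := by
      rw [Subgroup.mem_iInf]; intro i
      obtain ⟨hz', hc⟩ := (hmemCs i s).1 (hs i); exact hc
    rw [hCint, Subgroup.mem_bot] at h1
    exact congrArg Subtype.val h1
  -- an element of the centre outside each
  have hz0 : ∀ i, ∃ z0 : S, z0 ∈ Subgroup.center S ∧ z0 ∉ (C i).map (Subgroup.center S).subtype ∧
      ∀ z ∈ Subgroup.center S, z ∈ (C i).map (Subgroup.center S).subtype ∨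
        z * z0⁻¹ ∈ (C i).map (Subgroup.center S).subtype := by
    intro i
    have hne : C i ≠ ⊤ := (hCmax i).1
    obtain ⟨z0, hz0⟩ : ∃ z0 : Subgroup.center S, z0 ∉ C i := by
      by_contra hcon
      push_neg at hcon
      exact hne ((Subgroup.eq_top_iff' _).2 hcon)
    refine ⟨z0, z0.2, ?_, ?_⟩
    · intro h
      obtain ⟨hz', hc⟩ := (hmemCs i _).1 h
      exact hz0 hc
    · intro z hz
      by_cases hzc : (⟨z, hz⟩ : Subgroup.center S) ∈ C i
      · exact Or.inl ((hmemCs i z).2 ⟨hz, hzc⟩)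
      · right
        have h1 : (⟨z, hz⟩ : Subgroup.center S) * z0⁻¹ ∈ C i := by
          rw [Subgroup.mul_mem_iff_of_index_two (hidx i)]
          constructor
          · intro h; exact absurd h hzc
          · intro h; exact absurd ((Subgroup.inv_mem_iff _).1 h) hz0
        refine (hmemCs i _).2 ⟨Subgroup.mul_mem _ hz (Subgroup.inv_mem _ z0.2), ?_⟩
        exact h1
  -- all the quotients have the same order
  have hcardEq : ∀ i, ((C i).map (Subgroup.center S).subtype).index =
      ((C i0).map (Subgroup.center S).subtype).index := by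
    have hc : ∀ i, ((C i).map (Subgroup.center S).subtype).index * Nat.card (Subgroup.center S) =
        2 * Nat.card S := by
      intro i
      have h1 := Subgroup.card_mul_index ((C i).map (Subgroup.center S).subtype)
      have h2 : Nat.card ((C i).map (Subgroup.center S).subtype) = Nat.card (C i) :=
        Subgroup.card_map_of_injective (Subgroup.subtype_injective _)
      have h3 := Subgroup.card_mul_index (C i)
      rw [hidx i] at h3
      rw [h2] at h1
      rw [← h3, ← h1]; ring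
    intro i
    have h1 := hc i
    rw [← hc i0] at h1
    exact Nat.eq_of_mul_eq_mul_right Nat.card_pos h1
  -- the structure of the first quotient
  obtain ⟨hN0, hna0, hu0⟩ := hCq i0
  haveI := hN0
  have hR0 : IsPGroup 2 (S ⧸ (C i0).map (Subgroup.center S).subtype) := hS.to_quotient _
  obtain ⟨k, ⟨e⟩⟩ : ∃ k : ℕ, Nonempty
      ((S ⧸ (C i0).map (Subgroup.center S).subtype) ≃* QuaternionGroup (2 ^ k)) := by
    rcases main 2 hR0 (huniq_of_unique hu0) with h | ⟨-, h⟩
    · haveI := h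
      exact absurd IsCyclic.isMulCommutative hna0
    · exact h
  haveI : NeZero (2 ^ k) := ⟨by positivity⟩
  have hcard0 : Nat.card (S ⧸ (C i0).map (Subgroup.center S).subtype) = 4 * 2 ^ k := by
    rw [Nat.card_congr e.toEquiv, Nat.card_eq_fintype_card, QuaternionGroup.card]
  have hk : 1 ≤ k := by
    by_contra hcon
    have hk0 : k = 0 := by omega
    rw [hk0] at hcard0
    apply hna0
    have h2 : Nat.card (S ⧸ (C i0).map (Subgroup.center S).subtype) = 2 ^ 2 := by
      rw [hcard0]; norm_num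
    exact IsPGroup.isMulCommutative_of_card_eq_prime_sq h2
  have hcard : ∀ i, ∀ [((C i).map (Subgroup.center S).subtype).Normal],
      Nat.card (S ⧸ (C i).map (Subgroup.center S).subtype) = 2 ^ (k + 2) := by
    intro i _
    rw [← Subgroup.index_eq_card, hcardEq i, Subgroup.index_eq_card, hcard0]; ring
  -- the generators
  obtain ⟨x, hx⟩ := QuotientGroup.mk_surjective (e.symm (QuaternionGroup.a 1))
  obtain ⟨y, hy⟩ := QuotientGroup.mk_surjective (e.symm (QuaternionGroup.xa 0))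
  have hex : e (x : S ⧸ (C i0).map (Subgroup.center S).subtype) = QuaternionGroup.a 1 := by
    rw [hx, MulEquiv.apply_symm_apply]
  have hey : e (y : S ⧸ (C i0).map (Subgroup.center S).subtype) = QuaternionGroup.xa 0 := by
    rw [hy, MulEquiv.apply_symm_apply]
  have hexp : ∀ j : ℕ, e ((x ^ j : S) : S ⧸ (C i0).map (Subgroup.center S).subtype) =
      QuaternionGroup.a (j : ZMod (2 * 2 ^ k)) := by
    intro j
    rw [QuotientGroup.mk_pow, map_pow, hex, QuaternionGroup.a_one_pow]
  obtain ⟨z0, hz0Z, hz0C, hz0alt⟩ := hz0 i0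
  obtain ⟨t0, ht0, ht0u⟩ := hu0
  have hz0t : ((z0 : S) : S ⧸ (C i0).map (Subgroup.center S).subtype) = t0 := by
    apply ht0u
    apply orderOf_eq_prime
    · rw [← QuotientGroup.mk_pow, hZsq z0 hz0Z]; rfl
    · intro h; exact hz0C ((QuotientGroup.eq_one_iff z0).1 h)
  have hcast2k : ((2 ^ k : ℕ) : ZMod (2 * 2 ^ k)) ≠ 0 := by
    intro h
    rw [ZMod.natCast_eq_zero_iff] at h
    have := Nat.le_of_dvd (by positivity) h
    have : 0 < 2 ^ k := by positivity
    omega
  have hxNt : ((x ^ 2 ^ k : S) : S ⧸ (C i0).map (Subgroup.center S).subtype) = t0 := by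
    apply ht0u
    apply orderOf_eq_prime
    · apply e.injective
      rw [map_pow, hexp, map_one, pow_two, QuaternionGroup.a_mul_a]
      rw [QuaternionGroup.one_def]
      congr 1
      rw [← Nat.cast_add, ZMod.natCast_eq_zero_iff, two_mul]
    · intro h
      have h2 := congrArg e h
      rw [hexp, map_one, QuaternionGroup.one_def] at h2
      exact hcast2k (QuaternionGroup.a.inj h2)
  have hxZ : x ^ 2 ^ k ∈ Subgroup.center S := by
    have h1 : ((x ^ 2 ^ k : S) : S ⧸ (C i0).map (Subgroup.center S).subtype) = (z0 : S) := by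
      rw [hxNt, hz0t]
    have h3 : (x ^ 2 ^ k)⁻¹ * z0 ∈ (C i0).map (Subgroup.center S).subtype := QuotientGroup.eq.1 h1
    have h4 : x ^ 2 ^ k = z0 * ((x ^ 2 ^ k)⁻¹ * z0)⁻¹ := by group
    rw [h4]
    exact Subgroup.mul_mem _ hz0Z (Subgroup.inv_mem _ (hCsZ i0 h3))
  -- images of central elements
  have hZimg : ∀ z ∈ Subgroup.center S,
      e ((z : S) : S ⧸ (C i0).map (Subgroup.center S).subtype) = 1 ∨
      e ((z : S) : S ⧸ (C i0).map (Subgroup.center S).subtype) =
        QuaternionGroup.a ((2 ^ k : ℕ) : ZMod (2 * 2 ^ k)) := by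
    intro z hz
    rcases hz0alt z hz with h | h
    · left
      rw [(QuotientGroup.eq_one_iff z).2 h, map_one]
    · right
      have h1 : ((z : S) : S ⧸ (C i0).map (Subgroup.center S).subtype) = (z0 : S) := by
        rw [QuotientGroup.eq]
        have h2 : z⁻¹ * z0 = (z * z0⁻¹)⁻¹ := by
          rw [mul_inv_rev, inv_inv]
          exact ((Subgroup.mem_center_iff.1 (Subgroup.inv_mem _ hz)) z0).symm
        rw [h2]; exact Subgroup.inv_mem _ h
      rw [h1, hz0t, ← hxNt, hexp]
  have hxnZ : x ^ 2 ^ (k - 1) ∉ Subgroup.center S := by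
    intro hcon
    obtain ⟨m, rfl⟩ : ∃ m, k = m + 1 := ⟨k - 1, by omega⟩
    rw [Nat.add_sub_cancel] at hcon
    have hP : 0 < 2 ^ m := by positivity
    rcases hZimg _ hcon with h | h
    · rw [hexp, QuaternionGroup.one_def] at h
      have h2 := QuaternionGroup.a.inj h
      rw [ZMod.natCast_eq_zero_iff] at h2
      have := Nat.le_of_dvd hP h2
      rw [pow_succ] at this
      omega
    · rw [hexp] at h
      have h2 := QuaternionGroup.a.inj h
      rw [ZMod.natCast_eq_natCast_iff'] at h2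
      rw [Nat.mod_eq_of_lt (by rw [pow_succ]; omega), Nat.mod_eq_of_lt (by omega)] at h2
      rw [pow_succ] at h2
      omega
  have hyn : ∀ (j : ℕ) (z : S), z ∈ Subgroup.center S → y ≠ x ^ j * z := by
    intro j z hz hcon
    have h1 : e ((y : S) : S ⧸ (C i0).map (Subgroup.center S).subtype) =
        e ((x ^ j : S) : S ⧸ (C i0).map (Subgroup.center S).subtype) *
          e ((z : S) : S ⧸ (C i0).map (Subgroup.center S).subtype) := by
      rw [← map_mul, ← QuotientGroup.mk_mul, ← hcon]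
    rw [hey, hexp] at h1
    rcases hZimg z hz with h | h
    · rw [h, mul_one] at h1
      cases h1
    · rw [h, QuaternionGroup.a_mul_a] at h1
      cases h1
  -- the relations
  have hrel : ∀ i, x ^ (2 ^ (k + 1)) ∈ (C i).map (Subgroup.center S).subtype ∧
      y⁻¹ * x * y * x ∈ (C i).map (Subgroup.center S).subtype ∧
      y ^ 2 * (x ^ (2 ^ k))⁻¹ ∈ (C i).map (Subgroup.center S).subtype := by
    intro i
    obtain ⟨hNi, hnai, hui⟩ := hCq i
    haveI := hNi
    obtain ⟨zi, hziZ, hziC, hzialt⟩ := hz0 i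
    exact rel_mod hS _ (hCsZ i) hZsq zi hziZ hziC hzialt hnai hui k hk (hcard i) x y hxZ hxnZ hyn
  have hu1 : x ^ (2 ^ (k + 1)) = 1 := hint _ (fun i => (hrel i).1)
  have hw1 : y⁻¹ * x * y * x = 1 := hint _ (fun i => (hrel i).2.1)
  have hv1 : y ^ 2 * (x ^ (2 ^ k))⁻¹ = 1 := hint _ (fun i => (hrel i).2.2)
  have hqx : x ^ (2 * 2 ^ k) = 1 := by rw [← pow_succ']; exact hu1
  have hqy : y * y = x ^ (2 ^ k) := by
    rw [← pow_two]; exact mul_inv_eq_one.1 hv1
  have hqxy : x * y = y * x⁻¹ := by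
    have h1 : y⁻¹ * x * y = x⁻¹ := eq_inv_of_mul_eq_one_left hw1
    rw [← h1]; group
  obtain ⟨f, hfa, hfxa⟩ := quatHom (2 ^ k) x y hqx hqy hqxy
  -- the composite is the identity
  have hcomp : ∀ q : QuaternionGroup (2 ^ k),
      e ((f q : S) : S ⧸ (C i0).map (Subgroup.center S).subtype) = q := by
    rintro (i | i)
    · rw [hfa, hexp, ZMod.natCast_zmod_val]
    · rw [hfxa, QuotientGroup.mk_mul, map_mul, hey, hexp, ZMod.natCast_zmod_val,
        QuaternionGroup.xa_mul_a, zero_add]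
  have hfinj : Function.Injective f := by
    intro q1 q2 h
    rw [← hcomp q1, ← hcomp q2, h]
  refine ⟨(C i0).map (Subgroup.center S).subtype, f.range, ?_, ?_, ?_, ?_⟩
  · refine ⟨le_top, le_top, ?_, ?_, ?_⟩
    · intro a ha b _
      exact ((Subgroup.mem_center_iff.1 (hCsZ i0 ha)) b).symm
    · rw [eq_bot_iff]
      rintro s ⟨hs1, ⟨q, rfl⟩⟩
      have h1 : ((f q : S) : S ⧸ (C i0).map (Subgroup.center S).subtype) = 1 :=
        (QuotientGroup.eq_one_iff _).2 hs1
      have h2 := hcomp q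
      rw [h1, map_one] at h2
      rw [Subgroup.mem_bot, ← h2, map_one]
    · rw [eq_top_iff]
      intro s _
      set q := e ((s : S) : S ⧸ (C i0).map (Subgroup.center S).subtype) with hq
      have h1 : ((f q : S) : S ⧸ (C i0).map (Subgroup.center S).subtype) = (s : S) := by
        apply e.injective; rw [hcomp q]
      have h2 : (f q)⁻¹ * s ∈ (C i0).map (Subgroup.center S).subtype := QuotientGroup.eq.1 h1
      have h3 : s = ((f q)⁻¹ * s) * f q := by
        have hc := (Subgroup.mem_center_iff.1 (hCsZ i0 h2)) (f q)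
        rw [← hc]; group
      rw [h3]
      exact Subgroup.mul_mem _ (Subgroup.mem_sup_left h2) (Subgroup.mem_sup_right ⟨q, rfl⟩)
  · refine ⟨⟨⟨fun a b => Subtype.ext ?_⟩⟩, fun a ha => hZsq a (hCsZ i0 ha)⟩
    exact ((Subgroup.mem_center_iff.1 (hCsZ i0 a.2)) b).symm
  · intro hQc
    apply hna0
    -- transfer commutativity
    let φ : f.range ≃* (S ⧸ (C i0).map (Subgroup.center S).subtype) :=
      (MonoidHom.ofInjective hfinj).symm.trans e.symm
    refine ⟨⟨fun r1 r2 => ?_⟩⟩
    have h1 : φ.symm r1 * φ.symm r2 = φ.symm r2 * φ.symm r1 := hQc.is_comm.comm _ _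
    have h2 := congrArg φ h1
    rwa [map_mul, map_mul, MulEquiv.apply_symm_apply, MulEquiv.apply_symm_apply] at h2
  · let φ : f.range ≃* (S ⧸ (C i0).map (Subgroup.center S).subtype) :=
      (MonoidHom.ofInjective hfinj).symm.trans e.symm
    refine ⟨φ.symm t0, ?_, ?_⟩
    · show orderOf (φ.symm t0) = 2
      rw [MulEquiv.orderOf_eq]; exact ht0
    · intro q hq
      have h1 : φ q = t0 := ht0u _ (by
        show orderOf (φ q) = 2
        rw [MulEquiv.orderOf_eq]; exact hq)
      rw [← h1, MulEquiv.symm_apply_apply]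

end Cfsg.Agent.S3201
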