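import Cfsg.Statements.S3202
import Cfsg.Agent.S3201
import Cfsg.Agent.H2.IndexTwoAbelian
import Mathlib

set_option autoImplicit false
set_option linter.style.haveILetI false
set_option linter.unusedVariables false
open Cfsg

namespace Cfsg.Agent.S3202

open Cfsg.Agent.H2.UOP
open scoped commutatorElement

/-- Let S be a finite 2-group of 2-rank exactly 2 and D a maximal subgroup of the centre of S such that S/D is a non-abelian group with exactly one involution (a generalized quaternion group). Then S has a nontrivial cyclic characteristic subgroup. -/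
theorem result {S : Type*} [Group S]
    [Finite S] (hS : IsPGroup 2 S) (hr2 : Cfsg.PRankLE 2 2 S) (hr1 : ¬ Cfsg.PRankLE 2 1 S)
    (D : Subgroup ↥(Subgroup.center S)) (hD : IsCoatom D)
    (hq : ∃ (_ : (D.map (Subgroup.center S).subtype).Normal),
      ¬ IsMulCommutative (S ⧸ D.map (Subgroup.center S).subtype) ∧
      ∃! x : S ⧸ D.map (Subgroup.center S).subtype, orderOf x = 2) :
    ∃ C : Subgroup S, C ≠ ⊥ ∧ IsCyclic ↥C ∧ C.Characteristic := by
  classical
  haveI : Fact (Nat.Prime 2) := ⟨Nat.prime_two⟩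
  obtain ⟨hN0, hna0, hu0⟩ := hq
  haveI := hN0
  have hDZ : D.map (Subgroup.center S).subtype ≤ Subgroup.center S := by
    rintro _ ⟨c, -, rfl⟩; exact c.2
  have hR0 : IsPGroup 2 (S ⧸ D.map (Subgroup.center S).subtype) := hS.to_quotient _
  obtain ⟨k, ⟨e⟩⟩ : ∃ k : ℕ, Nonempty
      ((S ⧸ D.map (Subgroup.center S).subtype) ≃* QuaternionGroup (2 ^ k)) := by
    rcases main 2 hR0 (Cfsg.Agent.S3201.huniq_of_unique hu0) with h | ⟨-, h⟩
    · haveI := h
      exact absurd IsCyclic.isMulCommutative hna0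
    · exact h
  haveI : NeZero (2 ^ k) := ⟨by positivity⟩
  have hcard0 : Nat.card (S ⧸ D.map (Subgroup.center S).subtype) = 4 * 2 ^ k := by
    rw [Nat.card_congr e.toEquiv, Nat.card_eq_fintype_card, QuaternionGroup.card]
  obtain ⟨x, hx⟩ := QuotientGroup.mk_surjective (e.symm (QuaternionGroup.a 1))
  obtain ⟨y, hy⟩ := QuotientGroup.mk_surjective (e.symm (QuaternionGroup.xa 0))
  have hex : e (x : S ⧸ D.map (Subgroup.center S).subtype) = QuaternionGroup.a 1 := by
    rw [hx, MulEquiv.apply_symm_apply]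
  have hey : e (y : S ⧸ D.map (Subgroup.center S).subtype) = QuaternionGroup.xa 0 := by
    rw [hy, MulEquiv.apply_symm_apply]
  have hexp : ∀ j : ℕ, e ((x ^ j : S) : S ⧸ D.map (Subgroup.center S).subtype) =
      QuaternionGroup.a (j : ZMod (2 * 2 ^ k)) := by
    intro j
    rw [QuotientGroup.mk_pow, map_pow, hex, QuaternionGroup.a_one_pow]
  -- the abelian subgroup of index two
  set a : S ⧸ D.map (Subgroup.center S).subtype := (x : S ⧸ D.map (Subgroup.center S).subtype)
    with ha
  set M : Subgroup S :=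
    (Subgroup.zpowers a).comap (QuotientGroup.mk' (D.map (Subgroup.center S).subtype)) with hM
  have horda : orderOf a = 2 * 2 ^ k := by
    rw [← MulEquiv.orderOf_eq e, ha, hex, QuaternionGroup.orderOf_a_one]
  have hidxa : (Subgroup.zpowers a).index = 2 := by
    have h1 := Subgroup.card_mul_index (Subgroup.zpowers a)
    rw [Nat.card_zpowers, horda, hcard0] at h1
    have h2 : 2 * 2 ^ k * (Subgroup.zpowers a).index = 2 * 2 ^ k * 2 := by rw [h1]; ring
    exact Nat.eq_of_mul_eq_mul_left (by positivity) h2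
  have hidx : M.index = 2 := by
    rw [hM, Subgroup.index_comap_of_surjective _ (QuotientGroup.mk'_surjective _)]
    exact hidxa
  have hMmem : ∀ s ∈ M, ∃ i : ℕ, ∃ z ∈ Subgroup.center S, s = x ^ i * z := by
    intro s hs
    have h1 : (s : S ⧸ D.map (Subgroup.center S).subtype) ∈ Subgroup.zpowers a := hs
    rw [← mem_powers_iff_mem_zpowers] at h1
    obtain ⟨i, hi⟩ := h1
    change a ^ i = (s : S ⧸ D.map (Subgroup.center S).subtype) at hi
    rw [ha, ← QuotientGroup.mk_pow] at hi
    have h3 : (x ^ i)⁻¹ * s ∈ D.map (Subgroup.center S).subtype := QuotientGroup.eq.1 hi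
    exact ⟨i, (x ^ i)⁻¹ * s, hDZ h3, by group⟩
  have hxM : x ∈ M := by
    show (x : S ⧸ D.map (Subgroup.center S).subtype) ∈ Subgroup.zpowers a
    exact Subgroup.mem_zpowers a
  have hMc : ∀ u ∈ M, ∀ v ∈ M, u * v = v * u := by
    intro u hu v hv
    obtain ⟨i, z, hz, rfl⟩ := hMmem u hu
    obtain ⟨j, w, hw, rfl⟩ := hMmem v hv
    have hz' := Subgroup.mem_center_iff.1 hz
    have hw' := Subgroup.mem_center_iff.1 hw
    have hxx : x ^ i * x ^ j = x ^ j * x ^ i := by rw [← pow_add, ← pow_add, add_comm]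
    calc x ^ i * z * (x ^ j * w) = x ^ i * (z * (x ^ j * w)) := by group
      _ = x ^ i * ((x ^ j * w) * z) := by rw [hz']
      _ = (x ^ i * x ^ j) * w * z := by group
      _ = (x ^ j * x ^ i) * w * z := by rw [hxx]
      _ = x ^ j * ((x ^ i * w) * z) := by group
      _ = x ^ j * ((w * x ^ i) * z) := by rw [hw']
      _ = x ^ j * w * (x ^ i * z) := by group
  have hyM : y ∉ M := by
    intro hy'
    obtain ⟨i, z, hz, hyz⟩ := hMmem y hy'
    have h1 : (y : S ⧸ D.map (Subgroup.center S).subtype) ∈ Subgroup.zpowers a := hy'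
    rw [← mem_powers_iff_mem_zpowers] at h1
    obtain ⟨j, hj⟩ := h1
    change a ^ j = (y : S ⧸ D.map (Subgroup.center S).subtype) at hj
    have h2 := congrArg e hj
    rw [ha, ← QuotientGroup.mk_pow, hexp, hey] at h2
    cases h2
  have hcomm := Cfsg.Agent.H2.IdxTwo.commutator_eq_zpowers M hidx hMc y hyM x hxM hMmem
  refine ⟨commutator S, ?_, ?_, inferInstance⟩
  · intro hbot
    apply hna0
    refine ⟨⟨fun r1 r2 => ?_⟩⟩
    obtain ⟨s1, rfl⟩ := QuotientGroup.mk_surjective r1
    obtain ⟨s2, rfl⟩ := QuotientGroup.mk_surjective r2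
    have h1 : ⁅s1, s2⁆ ∈ commutator S :=
      Subgroup.commutator_mem_commutator (Subgroup.mem_top s1) (Subgroup.mem_top s2)
    rw [hbot, Subgroup.mem_bot, commutatorElement_eq_one_iff_mul_comm] at h1
    rw [← QuotientGroup.mk_mul, ← QuotientGroup.mk_mul, h1]
  · rw [hcomm]
    infer_instance

end Cfsg.Agent.S3202
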