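import Mathlib
import Cfsg.Statements.S3203

set_option autoImplicit false
open Cfsg

namespace Cfsg.Agent.S3203

open scoped Pointwise

section basics
variable {G : Type*} [Group G]

/-- elementwise version of elementary abelian 2-group -/
def EA (E : Subgroup G) : Prop := (∀ a ∈ E, ∀ b ∈ E, a * b = b * a) ∧ ∀ a ∈ E, a ^ 2 = 1

theorem ea_iff (E : Subgroup G) : Cfsg.IsElementaryAbelian 2 E ↔ EA E := by
  constructor
  · rintro ⟨h1, h2⟩
    exact ⟨fun a ha b hb => congrArg Subtype.val (h1.is_comm.comm ⟨a, ha⟩ ⟨b, hb⟩), h2⟩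
  · rintro ⟨h1, h2⟩
    exact ⟨⟨⟨fun a b => Subtype.ext (h1 a a.2 b b.2)⟩⟩, h2⟩

/-- conjugate subgroup -/
abbrev cj (g : G) (E : Subgroup G) : Subgroup G := E.map (MulAut.conj g).toMonoidHom

theorem mem_cj (g : G) (E : Subgroup G) (x : G) : x ∈ cj g E ↔ g⁻¹ * x * g ∈ E := by
  constructor
  · rintro ⟨y, hy, rfl⟩
    have : g⁻¹ * ((MulAut.conj g).toMonoidHom y) * g = y := by
      simp [MulAut.conj_apply, mul_assoc]
    rw [this]; exact hy
  · intro h
    refine ⟨g⁻¹ * x * g, h, ?_⟩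
    simp [MulAut.conj_apply, mul_assoc]

theorem cj_mem (g : G) (E : Subgroup G) (y : G) (hy : y ∈ E) : g * y * g⁻¹ ∈ cj g E := by
  rw [mem_cj]
  have : g⁻¹ * (g * y * g⁻¹) * g = y := by group
  rw [this]; exact hy

theorem cj_cj (g h : G) (E : Subgroup G) : cj g (cj h E) = cj (g * h) E := by
  ext x
  rw [mem_cj, mem_cj, mem_cj]
  have : h⁻¹ * (g⁻¹ * x * g) * h = (g * h)⁻¹ * x * (g * h) := by group
  rw [this]

theorem cj_one (E : Subgroup G) : cj 1 E = E := by
  ext x; rw [mem_cj]; simp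

theorem cj_mono (g : G) {E F : Subgroup G} (h : E ≤ F) : cj g E ≤ cj g F := Subgroup.map_mono h

theorem cj_le_iff (g : G) (E F : Subgroup G) : cj g E ≤ F ↔ E ≤ cj g⁻¹ F := by
  constructor
  · intro h
    have := cj_mono g⁻¹ h
    rwa [cj_cj, inv_mul_cancel, cj_one] at this
  · intro h
    have := cj_mono g h
    rwa [cj_cj, mul_inv_cancel, cj_one] at this

theorem cj_injective (g : G) {E F : Subgroup G} (h : cj g E = cj g F) : E = F := by
  have := congrArg (cj g⁻¹) h
  rwa [cj_cj, cj_cj, inv_mul_cancel, cj_one, cj_one] at this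

theorem card_cj (g : G) (E : Subgroup G) : Nat.card (cj g E) = Nat.card E :=
  Subgroup.card_map_of_injective (MulAut.conj g).injective

theorem ea_cj (g : G) {E : Subgroup G} (h : EA E) : EA (cj g E) := by
  constructor
  · rintro _ ⟨a, ha, rfl⟩ _ ⟨b, hb, rfl⟩
    rw [← map_mul, ← map_mul, h.1 a ha b hb]
  · rintro _ ⟨a, ha, rfl⟩
    rw [← map_pow, h.2 a ha, map_one]

theorem cj_eq_self_of_mem (E : Subgroup G) (g : G) (hg : g ∈ E) : cj g E = E := by
  ext x
  rw [mem_cj]
  constructor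
  · intro h
    have : x = g * (g⁻¹ * x * g) * g⁻¹ := by group
    rw [this]
    exact E.mul_mem (E.mul_mem hg h) (E.inv_mem hg)
  · intro h
    exact E.mul_mem (E.mul_mem (E.inv_mem hg) h) hg

theorem mem_normalizer_iff_cj (E : Subgroup G) (g : G) :
    g ∈ Subgroup.normalizer (E : Set G) ↔ cj g E = E := by
  rw [Subgroup.mem_normalizer_iff]
  constructor
  · intro h
    ext x
    rw [mem_cj, h (g⁻¹ * x * g)]
    have : g * (g⁻¹ * x * g) * g⁻¹ = x := by group
    rw [this]
  · intro h x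
    constructor
    · intro hx
      rw [← h]; exact cj_mem g E x hx
    · intro hx
      rw [← h, mem_cj] at hx
      have : g⁻¹ * (g * x * g⁻¹) * g = x := by group
      rwa [this] at hx

theorem cj_pow (n : G) (E : Subgroup G) (j : ℕ) : cj (n ^ (j + 1)) E = cj n (cj (n ^ j) E) := by
  rw [cj_cj, pow_succ']

end basics

/-- Sylow conjugation inside a subgroup `N` containing a Sylow subgroup `W` of `G`. -/
theorem sylow_conj_in {G : Type*} [Group G] [Finite G] {p : ℕ} [Fact p.Prime] (W : Sylow p G)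
    (N : Subgroup G) (hW : (W : Subgroup G) ≤ N) (R : Subgroup G) (hR : IsPGroup p R) (hRN : R ≤ N) :
    ∃ n ∈ N, ∀ r ∈ R, n⁻¹ * r * n ∈ (W : Subgroup G) := by
  let W' : Sylow p N := W.subtype hW
  have hR' : IsPGroup p (R.subgroupOf N) := hR.comap_subtype
  obtain ⟨V0, hV0⟩ := hR'.exists_le_sylow
  obtain ⟨n, hn⟩ := MulAction.exists_smul_eq N W' V0
  refine ⟨n, n.2, fun r hr => ?_⟩
  have h1 : (⟨r, hRN hr⟩ : N) ∈ (V0 : Subgroup N) := hV0 (by simpa [Subgroup.mem_subgroupOf] using hr)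
  rw [← hn, Sylow.smul_def, Sylow.pointwise_smul_def,
    Subgroup.mem_pointwise_smul_iff_inv_smul_mem, MulAut.smul_def, MulAut.conj_inv_apply] at h1
  have h2 : n⁻¹ * (⟨r, hRN hr⟩ : N) * n ∈ (W : Subgroup G).subgroupOf N := h1
  rw [Subgroup.mem_subgroupOf] at h2
  simpa using h2

/-- The hypotheses at the level of subgroups of `G`. -/
structure Hyp {G : Type*} [Group G] (S A B : Subgroup G) : Prop where
  hAS : A ≤ S
  hBS : B ≤ S
  hne : A ≠ B
  eaA : EA A
  eaB : EA B
  maxA : ∀ E : Subgroup G, E ≤ S → EA E → A ≤ E → E = A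
  maxB : ∀ E : Subgroup G, E ≤ S → EA E → B ≤ E → E = B
  cover : ∀ E : Subgroup G, E ≤ S → EA E → E ≤ A ∨ E ≤ B
  prod : ∀ s ∈ S, ∃ a ∈ A, ∃ b ∈ B, a * b = s

theorem Hyp.symm {G : Type*} [Group G] {S A B : Subgroup G} (h : Hyp S A B) : Hyp S B A where
  hAS := h.hBS
  hBS := h.hAS
  hne := h.hne.symm
  eaA := h.eaB
  eaB := h.eaA
  maxA := h.maxB
  maxB := h.maxA
  cover := fun E hE hea => (h.cover E hE hea).symm
  prod := by
    intro s hs
    obtain ⟨a, ha, b, hb, hab⟩ := h.prod s⁻¹ (S.inv_mem hs)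
    refine ⟨b⁻¹, B.inv_mem hb, a⁻¹, A.inv_mem ha, ?_⟩
    rw [← mul_inv_rev, hab, inv_inv]

section main
variable {G : Type*} [Group G] [Finite G] (S : Sylow 2 G) {A B : Subgroup G}

omit [Finite G] in
/-- elements of `N(S)` permute `{A, B}` -/
theorem perm (h : Hyp (S : Subgroup G) A B) (n : G)
    (hn : n ∈ Subgroup.normalizer ((S : Subgroup G) : Set G)) :
    (cj n A = A ∨ cj n A = B) := by
  have hnS : cj n (S : Subgroup G) = S := (mem_normalizer_iff_cj _ n).mp hn
  have hnS' : cj n⁻¹ (S : Subgroup G) = S :=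
    (mem_normalizer_iff_cj _ n⁻¹).mp (Subgroup.inv_mem _ hn)
  have h1 : cj n A ≤ S := by rw [← hnS]; exact cj_mono n h.hAS
  rcases h.cover _ h1 (ea_cj n h.eaA) with h2 | h2
  · left
    rw [cj_le_iff] at h2
    have h3 : cj n⁻¹ A ≤ S := by rw [← hnS']; exact cj_mono _ h.hAS
    have := h.maxA _ h3 (ea_cj _ h.eaA) h2
    have h4 := congrArg (cj n) this
    rw [cj_cj, mul_inv_cancel, cj_one] at h4
    exact h4.symm
  · right
    rw [cj_le_iff] at h2
    have h3 : cj n⁻¹ B ≤ S := by rw [← hnS']; exact cj_mono _ h.hBS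
    have := h.maxA _ h3 (ea_cj _ h.eaB) h2
    have h4 := congrArg (cj n) this
    rw [cj_cj, mul_inv_cancel, cj_one] at h4
    exact h4.symm

omit [Finite G] in
/-- L1: elements of `S` normalize `A` -/
theorem fix_of_mem (h : Hyp (S : Subgroup G) A B) (s : G) (hs : s ∈ (S : Subgroup G)) :
    cj s A = A := by
  obtain ⟨a, ha, b, hb, rfl⟩ := h.prod s hs
  have hb' : cj b A = A := by
    have hbN : b ∈ Subgroup.normalizer ((S : Subgroup G) : Set G) := Subgroup.le_normalizer (h.hBS hb)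
    rcases perm S h b hbN with h1 | h1
    · exact h1
    · exfalso
      have : cj b A = cj b B := by rw [h1, cj_eq_self_of_mem B b hb]
      exact h.hne (cj_injective b this)
  rw [← cj_cj, hb', cj_eq_self_of_mem A a ha]

/-- L2: `N(S)` normalizes `A` -/
theorem fix_of_normalizer (h : Hyp (S : Subgroup G) A B) (n : G)
    (hn : n ∈ Subgroup.normalizer ((S : Subgroup G) : Set G)) : cj n A = A := by
  rcases perm S h n hn with h1 | h1
  · exact h1
  exfalso
  have h2 : cj n B = A := by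
    rcases perm S h.symm n hn with h2 | h2
    · exfalso
      exact h.hne (cj_injective n (h1.trans h2.symm))
    · exact h2
  -- odd part of the order
  have : Fact (Nat.Prime 2) := ⟨Nat.prime_two⟩
  obtain ⟨e, m, hm, hem⟩ := Nat.exists_eq_two_pow_mul_odd (orderOf_pos n).ne'
  have hpow : ∀ j : ℕ, cj (n ^ (2 * j)) A = A ∧ cj (n ^ (2 * j + 1)) A = B := by
    intro j
    induction j with
    | zero => simp [cj_one, h1]
    | succ j ih =>
      have e1 : cj (n ^ (2 * (j + 1))) A = A := by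
        have : 2 * (j + 1) = (2 * j + 1) + 1 := by ring
        rw [this, cj_pow, ih.2, h2]
      refine ⟨e1, ?_⟩
      rw [cj_pow, e1, h1]
  obtain ⟨j, hj⟩ := hm
  have h3 : cj (n ^ m) A = B := by rw [hj]; exact (hpow j).2
  -- n^m ∈ S
  have h4 : n ^ m ∈ (S : Subgroup G) := by
    have hdvd : orderOf (n ^ m) ∣ 2 ^ e := by
      apply orderOf_dvd_of_pow_eq_one
      rw [← pow_mul, mul_comm, ← hem, pow_orderOf_eq_one]
    obtain ⟨k, -, hk⟩ := (Nat.dvd_prime_pow Nat.prime_two).mp hdvd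
    have hP : IsPGroup 2 (Subgroup.zpowers (n ^ m)) := by
      apply IsPGroup.of_card (n := k)
      rw [Nat.card_zpowers, hk]
    have hPN : Subgroup.zpowers (n ^ m) ≤ Subgroup.normalizer ((S : Subgroup G) : Set G) := by
      rw [Subgroup.zpowers_le]
      exact Subgroup.pow_mem _ hn m
    have h5 := hP.inf_normalizer_sylow S
    have h6 : Subgroup.zpowers (n ^ m) ⊓ Subgroup.normalizer ((S : Subgroup G) : Set G) =
        Subgroup.zpowers (n ^ m) := inf_eq_left.mpr hPN
    have h7 : Subgroup.zpowers (n ^ m) ≤ (S : Subgroup G) := by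
      have : Subgroup.zpowers (n ^ m) = Subgroup.zpowers (n ^ m) ⊓ (S : Subgroup G) := by
        rw [← h5]; exact h6.symm
      rw [this]; exact inf_le_right
    exact h7 (Subgroup.mem_zpowers _)
  have := fix_of_mem S h _ h4
  rw [h3] at this
  exact h.hne this.symm

/-- L3: `A` and `B` are not conjugate in `G` (Burnside's fusion argument). -/
theorem not_conj (h : Hyp (S : Subgroup G) A B) (g : G) : cj g A ≠ B := by
  intro hg
  have : Fact (Nat.Prime 2) := ⟨Nat.prime_two⟩
  -- S ≤ N(B), S^g ≤ N(B)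
  have hSB : (S : Subgroup G) ≤ Subgroup.normalizer (B : Set G) := by
    intro s hs
    rw [mem_normalizer_iff_cj]
    exact fix_of_mem S h.symm s hs
  have hSgB : cj g (S : Subgroup G) ≤ Subgroup.normalizer (B : Set G) := by
    rintro _ ⟨s, hs, rfl⟩
    rw [mem_normalizer_iff_cj]
    show cj (g * s * g⁻¹) B = B
    have h1 : cj s A = A := fix_of_mem S h s hs
    calc cj (g * s * g⁻¹) B = cj (g * s * g⁻¹) (cj g A) := by rw [hg]
      _ = cj (g * s) A := by rw [cj_cj]; congr 1; group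
      _ = cj g (cj s A) := by rw [cj_cj]
      _ = B := by rw [h1, hg]
  have hSg2 : IsPGroup 2 (cj g (S : Subgroup G)) := S.2.map _
  obtain ⟨x, hxN, hx⟩ := sylow_conj_in S _ hSB _ hSg2 hSgB
  -- n = x⁻¹ g normalizes S
  have hle : cj (x⁻¹ * g) (S : Subgroup G) ≤ S := by
    rw [← cj_cj]
    rintro _ ⟨r, hr, rfl⟩
    have := hx r hr
    simpa [MulAut.conj_apply] using this
  have heq : cj (x⁻¹ * g) (S : Subgroup G) = S := by
    apply Subgroup.eq_of_le_of_card_ge hle
    rw [card_cj]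
  have hnS : x⁻¹ * g ∈ Subgroup.normalizer ((S : Subgroup G) : Set G) :=
    (mem_normalizer_iff_cj _ _).mpr heq
  have h1 := fix_of_normalizer S h _ hnS
  have h2 : cj (x⁻¹ * g) A = B := by
    rw [← cj_cj, hg]
    exact (mem_normalizer_iff_cj B x⁻¹).mp (Subgroup.inv_mem _ hxN)
  exact h.hne (h1.symm.trans h2)

/-- L4: weak closure. -/
theorem weakly_closed (h : Hyp (S : Subgroup G) A B) (g : G) (hg : cj g A ≤ (S : Subgroup G)) :
    cj g A = A := by
  have : Fact (Nat.Prime 2) := ⟨Nat.prime_two⟩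
  rcases h.cover _ hg (ea_cj g h.eaA) with h1 | h1
  · apply Subgroup.eq_of_le_of_card_ge h1
    rw [card_cj]
  · exfalso
    -- B₁ = B^(g⁻¹) ⊇ A
    have hAB1 : A ≤ cj g⁻¹ B := (cj_le_iff g A B).mp h1
    have heaB1 : EA (cj g⁻¹ B) := ea_cj _ h.eaB
    have hB1N : cj g⁻¹ B ≤ Subgroup.normalizer (A : Set G) := by
      intro y hy
      rw [Subgroup.mem_normalizer_iff]
      have key : ∀ a ∈ A, y * a * y⁻¹ = a := by
        intro a ha
        rw [heaB1.1 y hy a (hAB1 ha), mul_inv_cancel_right]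
      intro a
      constructor
      · intro ha; rw [key a ha]; exact ha
      · intro ha
        have h2 := key _ ha
        have h3 : y * a * y⁻¹ = a := by
          have h4 : y * (y * a * y⁻¹) = y * a := by
            rw [heaB1.1 y hy _ (hAB1 ha)]; group
          exact mul_left_cancel h4
        rwa [h3] at ha
    have hSA : (S : Subgroup G) ≤ Subgroup.normalizer (A : Set G) := by
      intro s hs
      rw [mem_normalizer_iff_cj]
      exact fix_of_mem S h s hs
    have hB12 : IsPGroup 2 (cj g⁻¹ B) := (S.2.to_le h.hBS).map _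
    obtain ⟨x, hxN, hx⟩ := sylow_conj_in S _ hSA _ hB12 hB1N
    have hB2S : cj x⁻¹ (cj g⁻¹ B) ≤ S := by
      rintro _ ⟨r, hr, rfl⟩
      have := hx r hr
      simpa [MulAut.conj_apply] using this
    have hAB2 : A ≤ cj x⁻¹ (cj g⁻¹ B) := by
      have h2 : cj x⁻¹ A = A := (mem_normalizer_iff_cj A x⁻¹).mp (Subgroup.inv_mem _ hxN)
      rw [← h2]
      exact cj_mono _ hAB1
    have h3 := h.maxA _ hB2S (ea_cj _ heaB1) hAB2
    have hcard : Nat.card B = Nat.card A := by
      rw [← h3, card_cj, card_cj]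
    have h4 : cj g A = B := by
      apply Subgroup.eq_of_le_of_card_ge h1
      rw [card_cj, hcard]
    exact not_conj S h g h4

end main

section bridge
variable {G : Type*} [Group G]

theorem ea_map (S : Subgroup G) (C : Subgroup S) :
    Cfsg.IsElementaryAbelian 2 C ↔ EA (C.map S.subtype) := by
  rw [ea_iff]
  constructor
  · rintro ⟨h1, h2⟩
    constructor
    · rintro _ ⟨a, ha, rfl⟩ _ ⟨b, hb, rfl⟩
      exact congrArg Subtype.val (h1 a ha b hb)
    · rintro _ ⟨a, ha, rfl⟩
      exact congrArg Subtype.val (h2 a ha)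
  · rintro ⟨h1, h2⟩
    constructor
    · intro a ha b hb
      exact Subtype.ext (h1 _ ⟨a, ha, rfl⟩ _ ⟨b, hb, rfl⟩)
    · intro a ha
      exact Subtype.ext (h2 _ ⟨a, ha, rfl⟩)

theorem map_subgroupOf (S E : Subgroup G) (h : E ≤ S) : (E.subgroupOf S).map S.subtype = E := by
  ext x
  constructor
  · rintro ⟨y, hy, rfl⟩
    exact Subgroup.mem_subgroupOf.mp hy
  · intro hx
    exact ⟨⟨x, h hx⟩, Subgroup.mem_subgroupOf.mpr hx, rfl⟩

theorem map_le_map_iff' (S : Subgroup G) (C D : Subgroup S) :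
    C.map S.subtype ≤ D.map S.subtype ↔ C ≤ D :=
  Subgroup.map_le_map_iff_of_injective S.subtype_injective

end bridge

theorem result {G : Type*} [Group G] [Finite G] (S : Sylow 2 G)
    (A B : Subgroup ↥(S : Subgroup G)) (hAB : A ≠ B)
    (hA : Cfsg.IsElementaryAbelian 2 A ∧ ∀ C : Subgroup ↥(S : Subgroup G), Cfsg.IsElementaryAbelian 2 C → A ≤ C → C = A)
    (hB : Cfsg.IsElementaryAbelian 2 B ∧ ∀ C : Subgroup ↥(S : Subgroup G), Cfsg.IsElementaryAbelian 2 C → B ≤ C → C = B)
    (honly : ∀ C : Subgroup ↥(S : Subgroup G), Cfsg.IsElementaryAbelian 2 C →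
      (∀ D : Subgroup ↥(S : Subgroup G), Cfsg.IsElementaryAbelian 2 D → C ≤ D → D = C) → C = A ∨ C = B)
    (hprod : ∀ s : ↥(S : Subgroup G), ∃ a ∈ A, ∃ b ∈ B, a * b = s)
    (A' B' : Subgroup G) (hA' : A' = A.map (S : Subgroup G).subtype) (hB' : B' = B.map (S : Subgroup G).subtype) :
    Cfsg.IsWeaklyClosed A' (S : Subgroup G) ∧ Cfsg.IsWeaklyClosed B' (S : Subgroup G) ∧
      Subgroup.normalizer ((S : Subgroup G) : Set G) ≤ Subgroup.normalizer (A' : Set G) ⊓ Subgroup.normalizer (B' : Set G) := by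
  subst hA' hB'
  have hmax : ∀ (X : Subgroup (S : Subgroup G)), (∀ C : Subgroup (S : Subgroup G), Cfsg.IsElementaryAbelian 2 C → X ≤ C → C = X) →
      ∀ E : Subgroup G, E ≤ (S : Subgroup G) → EA E → X.map (S : Subgroup G).subtype ≤ E → E = X.map (S : Subgroup G).subtype := by
    intro X hX E hE hea hle
    have h1 : Cfsg.IsElementaryAbelian 2 (E.subgroupOf (S : Subgroup G)) := by
      rw [ea_map, map_subgroupOf (S : Subgroup G) E hE]; exact hea
    have h2 : X ≤ E.subgroupOf (S : Subgroup G) := by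
      rw [← map_le_map_iff', map_subgroupOf (S : Subgroup G) E hE]; exact hle
    have h3 := hX _ h1 h2
    rw [← h3, map_subgroupOf (S : Subgroup G) E hE]
  have hyp : Hyp (S : Subgroup G) (A.map (S : Subgroup G).subtype) (B.map (S : Subgroup G).subtype) :=
    { hAS := Subgroup.map_subtype_le _
      hBS := Subgroup.map_subtype_le _
      hne := fun h => hAB (Subgroup.map_injective (S : Subgroup G).subtype_injective h)
      eaA := (ea_map (S : Subgroup G) A).mp hA.1
      eaB := (ea_map (S : Subgroup G) B).mp hB.1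
      maxA := hmax A hA.2
      maxB := hmax B hB.2
      cover := by
        intro E hE hea
        have h1 : Cfsg.IsElementaryAbelian 2 (E.subgroupOf (S : Subgroup G)) := by
          rw [ea_map, map_subgroupOf (S : Subgroup G) E hE]; exact hea
        obtain ⟨D, hCD, hD⟩ := Finite.exists_le_maximal
          (p := fun D : Subgroup (S : Subgroup G) => Cfsg.IsElementaryAbelian 2 D) h1
        have h2 := honly D hD.1 (fun D' hD' hle => le_antisymm (hD.2 hD' hle) hle)
        have h3 : E ≤ D.map (S : Subgroup G).subtype := by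
          rw [← map_subgroupOf (S : Subgroup G) E hE]
          exact Subgroup.map_mono hCD
        rcases h2 with h | h
        · left; rw [← h]; exact h3
        · right; rw [← h]; exact h3
      prod := by
        intro s hs
        obtain ⟨a, ha, b, hb, hab⟩ := hprod ⟨s, hs⟩
        exact ⟨a, ⟨a, ha, rfl⟩, b, ⟨b, hb, rfl⟩, congrArg Subtype.val hab⟩ }
  refine ⟨⟨hyp.hAS, fun g hg => weakly_closed S hyp g hg⟩,
    ⟨hyp.hBS, fun g hg => weakly_closed S hyp.symm g hg⟩, ?_⟩
  intro n hn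
  rw [Subgroup.mem_inf]
  exact ⟨(mem_normalizer_iff_cj _ n).mpr (fix_of_normalizer S hyp n hn),
    (mem_normalizer_iff_cj _ n).mpr (fix_of_normalizer S hyp.symm n hn)⟩

end Cfsg.Agent.S3203
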