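import Mathlib
import Cfsg.Statements.S3208

set_option autoImplicit false
open Cfsg

namespace Cfsg.Agent.S3208

/-- conjugation by a normalizing element as an automorphism of the subgroup -/
def conjAut {G : Type*} [Group G] (T : Subgroup G) (n : G) (hn : n ∈ Subgroup.normalizer (T : Set G)) :
    T ≃* T where
  toFun t := ⟨n * t * n⁻¹, (Subgroup.mem_normalizer_iff.mp hn t).mp t.2⟩
  invFun t := ⟨n⁻¹ * t * n, by
    have := (Subgroup.mem_normalizer_iff.mp hn (n⁻¹ * t * n)).mpr
    apply this
    have h2 : n * (n⁻¹ * t * n) * n⁻¹ = t := by group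
    rw [h2]; exact t.2⟩
  left_inv t := by
    apply Subtype.ext
    show n⁻¹ * (n * t * n⁻¹) * n = t
    group
  right_inv t := by
    apply Subtype.ext
    show n * (n⁻¹ * t * n) * n⁻¹ = t
    group
  map_mul' a b := by
    apply Subtype.ext
    show n * (a * b) * n⁻¹ = (n * a * n⁻¹) * (n * b * n⁻¹)
    group

theorem result {G : Type*} [Group G] [Finite G]
    (j : G) (hj : orderOf j = 2) (H T : Subgroup G) (hT : T ≤ H ⊓ Subgroup.centralizer ({j} : Set G)) (h2 : IsPGroup 2 ↥T)
    (hSyl : ¬ 2 ∣ T.relIndex (H ⊓ Subgroup.centralizer ({j} : Set G))) (hjT : j ∈ T)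
    (hchar : ((Subgroup.zpowers j).subgroupOf T).Characteristic) :
    ¬ 2 ∣ T.relIndex H := by
  intro hdvd
  have : Fact (Nat.Prime 2) := ⟨Nat.prime_two⟩
  have hTH : T ≤ H := le_trans hT inf_le_left
  -- every element of N_G(T) centralizes j
  have hNC : ∀ n ∈ Subgroup.normalizer (T : Set G), n * j = j * n := by
    intro n hn
    have h1 := hchar.fixed (conjAut T n hn)
    have h3 : (⟨j, hjT⟩ : T) ∈ ((Subgroup.zpowers j).subgroupOf T).comap (conjAut T n hn).toMonoidHom := by
      rw [h1]
      exact Subgroup.mem_subgroupOf.mpr (Subgroup.mem_zpowers j)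
    have h4 : n * j * n⁻¹ ∈ Subgroup.zpowers j := by
      have := Subgroup.mem_subgroupOf.mp (Subgroup.mem_comap.mp h3)
      exact this
    obtain ⟨k, hk⟩ := Subgroup.mem_zpowers_iff.mp h4
    have hk' : j ^ (k % 2) = n * j * n⁻¹ := by
      rw [← hk]
      have := zpow_mod_orderOf j k
      rw [hj] at this
      exact_mod_cast this
    have hj1 : j ≠ 1 := by
      intro h; rw [h, orderOf_one] at hj; norm_num at hj
    rcases Int.emod_two_eq_zero_or_one k with h0 | h1'
    · rw [h0, zpow_zero] at hk'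
      exfalso
      apply hj1
      have : j = n⁻¹ * (n * j * n⁻¹) * n := by group
      rw [this, ← hk']; group
    · rw [h1', zpow_one] at hk'
      calc n * j = (n * j * n⁻¹) * n := by group
        _ = j * n := by rw [← hk']
  -- work inside H
  set T' : Subgroup H := T.subgroupOf H with hT'
  have hT'p : IsPGroup 2 T' := h2.comap_subtype
  obtain ⟨m, hm⟩ := (IsPGroup.iff_card).mp hT'p
  have hidx : T'.index = T.relIndex H := rfl
  have hcardH : 2 ^ (m + 1) ∣ Nat.card H := by
    rw [← Subgroup.card_mul_index T', hm, hidx, pow_succ]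
    exact Nat.mul_dvd_mul_left _ hdvd
  have h5 := Sylow.prime_dvd_card_quotient_normalizer hcardH hm
  set N' : Subgroup H := Subgroup.normalizer (T' : Set H) with hN'
  have h6 : 2 ∣ T'.relIndex N' := h5
  set K : Subgroup G := H ⊓ Subgroup.centralizer ({j} : Set G) with hK
  have hKH : K ≤ H := inf_le_left
  have hN'K : N' ≤ K.subgroupOf H := by
    intro n hn
    rw [Subgroup.mem_subgroupOf]
    refine ⟨n.2, ?_⟩
    show (n : G) ∈ Subgroup.centralizer ({j} : Set G)
    rw [Subgroup.mem_centralizer_iff]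
    intro z hz
    rw [Set.mem_singleton_iff] at hz
    subst hz
    symm
    apply hNC
    rw [Subgroup.mem_normalizer_iff]
    intro t
    have hn' := Subgroup.mem_normalizer_iff.mp hn
    constructor
    · intro ht
      have := (hn' ⟨t, hTH ht⟩).mp (Subgroup.mem_subgroupOf.mpr ht)
      exact Subgroup.mem_subgroupOf.mp this
    · intro ht
      have hmem : (n : G) * t * (n : G)⁻¹ ∈ H := hTH ht
      have htH : t ∈ H := by
        have : t = (n : G)⁻¹ * ((n : G) * t * (n : G)⁻¹) * (n : G) := by group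
        rw [this]
        exact H.mul_mem (H.mul_mem (H.inv_mem n.2) hmem) n.2
      have := (hn' ⟨t, htH⟩).mpr (Subgroup.mem_subgroupOf.mpr ht)
      exact Subgroup.mem_subgroupOf.mp this
  have hT'N' : T' ≤ N' := Subgroup.le_normalizer
  have h7 : T'.relIndex N' * N'.relIndex (K.subgroupOf H) = T'.relIndex (K.subgroupOf H) :=
    Subgroup.relIndex_mul_relIndex _ _ _ hT'N' hN'K
  have h8 : T'.relIndex (K.subgroupOf H) = T.relIndex K := Subgroup.relIndex_subgroupOf hKH
  apply hSyl
  rw [← h8, ← h7]
  exact Dvd.dvd.mul_right h6 _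

end Cfsg.Agent.S3208
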