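import Mathlib
import Cfsg.Statements.S3209
import Cfsg.Agent.Lib.Helper8.SL2Odd

set_option autoImplicit false
open Cfsg

namespace Cfsg.Agent.S3209

open Cfsg.Agent.Lib.Helper8.SL2Odd

theorem mem_sup_of_commute {G : Type*} [Group G] (L₁ L₂ : Subgroup G)
    (hc : ∀ x ∈ L₁, ∀ y ∈ L₂, x * y = y * x) (y : G) (hy : y ∈ L₁ ⊔ L₂) :
    ∃ a ∈ L₁, ∃ b ∈ L₂, y = a * b := by
  rw [Subgroup.sup_eq_closure] at hy
  induction hy using Subgroup.closure_induction with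
  | mem x hx =>
    rcases hx with hx | hx
    · exact ⟨x, hx, 1, L₂.one_mem, (mul_one x).symm⟩
    · exact ⟨1, L₁.one_mem, x, hx, (one_mul x).symm⟩
  | one => exact ⟨1, L₁.one_mem, 1, L₂.one_mem, (mul_one 1).symm⟩
  | mul x y _ _ hx hy =>
    obtain ⟨a, ha, b, hb, rfl⟩ := hx
    obtain ⟨a', ha', b', hb', rfl⟩ := hy
    refine ⟨a * a', L₁.mul_mem ha ha', b * b', L₂.mul_mem hb hb', ?_⟩
    have := hc a' ha' b hb
    calc a * b * (a' * b') = a * (b * a') * b' := by group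
      _ = a * (a' * b) * b' := by rw [this]
      _ = a * a' * (b * b') := by group
  | inv x _ hx =>
    obtain ⟨a, ha, b, hb, rfl⟩ := hx
    refine ⟨a⁻¹, L₁.inv_mem ha, b⁻¹, L₂.inv_mem hb, ?_⟩
    have := hc a⁻¹ (L₁.inv_mem ha) b⁻¹ (L₂.inv_mem hb)
    rw [mul_inv_rev, this]

/-- the facts about one factor -/
theorem factor_facts {G : Type*} [Group G] {F : Type*} [Field F] [Fintype F] (hF : Odd (Fintype.card F))
    (L : Subgroup G) (e : ↥L ≃* Matrix.SpecialLinearGroup (Fin 2) F) (j : G) (hjL : j ∈ L)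
    (hj2 : j ^ 2 = 1) (hj1 : j ≠ 1) :
    (∀ a ∈ L, a ^ 2 = 1 → a = 1 ∨ a = j) ∧
    (∃ a0 ∈ L, a0 ^ 2 = j ∧ ∀ a ∈ L, a ^ 2 = j → ∃ g ∈ L, g * a0 * g⁻¹ = a) := by
  have hej : e ⟨j, hjL⟩ = -1 := by
    have h1 : (e ⟨j, hjL⟩) ^ 2 = 1 := by
      rw [← map_pow]
      have : (⟨j, hjL⟩ : ↥L) ^ 2 = 1 := Subtype.ext hj2
      rw [this, map_one]
    rcases eq_one_or_neg_one hF _ h1 with h | h
    · exfalso
      have : (⟨j, hjL⟩ : ↥L) = 1 := e.injective (h.trans (map_one e).symm)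
      exact hj1 (congrArg Subtype.val this)
    · exact h
  refine ⟨?_, ?_⟩
  · intro a ha h2
    have h1 : (e ⟨a, ha⟩) ^ 2 = 1 := by
      rw [← map_pow]
      have : (⟨a, ha⟩ : ↥L) ^ 2 = 1 := Subtype.ext h2
      rw [this, map_one]
    rcases eq_one_or_neg_one hF _ h1 with h | h
    · left
      have : (⟨a, ha⟩ : ↥L) = 1 := e.injective (h.trans (map_one e).symm)
      exact congrArg Subtype.val this
    · right
      have : (⟨a, ha⟩ : ↥L) = ⟨j, hjL⟩ := e.injective (h.trans hej.symm)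
      exact congrArg Subtype.val this
  · refine ⟨(e.symm w : ↥L), (e.symm w).2, ?_, ?_⟩
    · have h1 : (e.symm w) ^ 2 = (⟨j, hjL⟩ : ↥L) := by
        apply e.injective
        rw [map_pow, e.apply_symm_apply, w_sq, hej]
      have := congrArg Subtype.val h1
      simpa using this
    · intro a ha h2
      have h1 : (e ⟨a, ha⟩) ^ 2 = -1 := by
        rw [← map_pow, ← hej]
        congr 1
        exact Subtype.ext h2
      obtain ⟨P, hP⟩ := conj_of_sq_eq_neg_one hF _ h1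
      refine ⟨(e.symm P : ↥L), (e.symm P).2, ?_⟩
      have h3 : e.symm P * e.symm w * (e.symm P)⁻¹ = (⟨a, ha⟩ : ↥L) := by
        apply e.injective
        rw [map_mul, map_mul, map_inv, e.apply_symm_apply, e.apply_symm_apply, hP]
      have := congrArg Subtype.val h3
      simpa using this

theorem result {G : Type*} [Group G] [Finite G]
    {F₁ : Type*} [Field F₁] [Fintype F₁] {F₂ : Type*} [Field F₂] [Fintype F₂]
    (hF₁ : Odd (Fintype.card F₁)) (hF₂ : Odd (Fintype.card F₂)) (L₁ L₂ : Subgroup G)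
    (e₁ : ↥L₁ ≃* Matrix.SpecialLinearGroup (Fin 2) F₁) (e₂ : ↥L₂ ≃* Matrix.SpecialLinearGroup (Fin 2) F₂)
    (hc : ∀ x ∈ L₁, ∀ y ∈ L₂, x * y = y * x) (j : G) (hj : orderOf j = 2) (hm : L₁ ⊓ L₂ = Subgroup.zpowers j) :
    ∃ x ∈ L₁ ⊔ L₂, orderOf x = 2 ∧ x ≠ j ∧
      ∀ y ∈ L₁ ⊔ L₂, orderOf y = 2 → y = j ∨ ∃ g ∈ L₁ ⊔ L₂, g * x * g⁻¹ = y := by
  have hj2 : j ^ 2 = 1 := by rw [← hj]; exact pow_orderOf_eq_one j
  have hj1 : j ≠ 1 := by
    intro h
    rw [h, orderOf_one] at hj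
    norm_num at hj
  have hjinv : j⁻¹ = j := by
    rw [inv_eq_iff_mul_eq_one, ← pow_two, hj2]
  have hjL : j ∈ L₁ ⊓ L₂ := by rw [hm]; exact Subgroup.mem_zpowers j
  have hjL1 : j ∈ L₁ := hjL.1
  have hjL2 : j ∈ L₂ := hjL.2
  have hint : ∀ g, g ∈ L₁ → g ∈ L₂ → g = 1 ∨ g = j := by
    intro g h1 h2
    have : g ∈ Subgroup.zpowers j := by rw [← hm]; exact ⟨h1, h2⟩
    obtain ⟨k, rfl⟩ := Subgroup.mem_zpowers_iff.mp this
    rcases Int.even_or_odd k with ⟨m, hm'⟩ | ⟨m, hm'⟩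
    · left
      rw [hm', ← two_mul, zpow_mul, zpow_ofNat, hj2, one_zpow]
    · right
      rw [hm', zpow_add, zpow_mul, zpow_ofNat, hj2, one_zpow, one_mul, zpow_one]
  obtain ⟨hinv1, a0, ha0, ha0sq, hconj1⟩ := factor_facts hF₁ L₁ e₁ j hjL1 hj2 hj1
  obtain ⟨hinv2, b0, hb0, hb0sq, hconj2⟩ := factor_facts hF₂ L₂ e₂ j hjL2 hj2 hj1
  have hcomm0 := hc a0 ha0 b0 hb0
  have hx2 : (a0 * b0) ^ 2 = 1 := by
    calc (a0 * b0) ^ 2 = a0 * (b0 * a0) * b0 := by rw [pow_two]; group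
      _ = a0 * (a0 * b0) * b0 := by rw [hcomm0]
      _ = a0 ^ 2 * b0 ^ 2 := by rw [pow_two, pow_two]; group
      _ = 1 := by rw [ha0sq, hb0sq, ← pow_two, hj2]
  have ha0not : a0 ∉ L₂ := by
    intro h
    rcases hint a0 ha0 h with h1 | h1
    · rw [h1, one_pow] at ha0sq
      exact hj1 ha0sq.symm
    · rw [h1, hj2] at ha0sq
      exact hj1 ha0sq.symm
  refine ⟨a0 * b0, Subgroup.mul_mem _ (Subgroup.mem_sup_left ha0) (Subgroup.mem_sup_right hb0), ?_, ?_, ?_⟩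
  · apply orderOf_eq_prime hx2
    intro h
    apply ha0not
    have : a0 = b0⁻¹ := eq_inv_of_mul_eq_one_left h
    rw [this]
    exact L₂.inv_mem hb0
  · intro h
    apply ha0not
    have : a0 = j * b0⁻¹ := by rw [← h]; group
    rw [this]
    exact L₂.mul_mem hjL2 (L₂.inv_mem hb0)
  · intro y hy hy2
    obtain ⟨a, ha, b, hb, rfl⟩ := mem_sup_of_commute L₁ L₂ hc y hy
    have hcab := hc a ha b hb
    have hy2' : (a * b) ^ 2 = 1 := by rw [← hy2]; exact pow_orderOf_eq_one _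
    have hy1 : a * b ≠ 1 := by
      intro h
      rw [h, orderOf_one] at hy2
      norm_num at hy2
    have hsq : a ^ 2 * b ^ 2 = 1 := by
      calc a ^ 2 * b ^ 2 = a * (a * b) * b := by rw [pow_two, pow_two]; group
        _ = a * (b * a) * b := by rw [hcab]
        _ = (a * b) ^ 2 := by rw [pow_two]; group
        _ = 1 := hy2'
    have ha2L2 : a ^ 2 ∈ L₂ := by
      have : a ^ 2 = (b ^ 2)⁻¹ := eq_inv_of_mul_eq_one_left hsq
      rw [this]
      exact L₂.inv_mem (L₂.pow_mem hb 2)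
    rcases hint (a ^ 2) (L₁.pow_mem ha 2) ha2L2 with h1 | h1
    · left
      have hb2 : b ^ 2 = 1 := by rw [h1, one_mul] at hsq; exact hsq
      rcases hinv1 a ha h1 with rfl | rfl <;> rcases hinv2 b hb hb2 with rfl | rfl
      · exact absurd (mul_one 1) hy1
      · exact one_mul _
      · exact mul_one _
      · exfalso
        apply hy1
        rw [← pow_two, hj2]
    · right
      have hb2 : b ^ 2 = j := by
        rw [h1] at hsq
        have : b ^ 2 = j⁻¹ := eq_inv_of_mul_eq_one_right hsq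
        rw [this, hjinv]
      obtain ⟨g₁, hg₁, hg₁a⟩ := hconj1 a ha h1
      obtain ⟨g₂, hg₂, hg₂b⟩ := hconj2 b hb hb2
      refine ⟨g₁ * g₂, Subgroup.mul_mem _ (Subgroup.mem_sup_left hg₁) (Subgroup.mem_sup_right hg₂), ?_⟩
      have c1 := hc a0 ha0 g₂ hg₂
      have c2 := hc g₁⁻¹ (L₁.inv_mem hg₁) (g₂ * b0 * g₂⁻¹)
        (L₂.mul_mem (L₂.mul_mem hg₂ hb0) (L₂.inv_mem hg₂))
      calc g₁ * g₂ * (a0 * b0) * (g₁ * g₂)⁻¹ = g₁ * (g₂ * a0) * b0 * g₂⁻¹ * g₁⁻¹ := by group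
        _ = g₁ * (a0 * g₂) * b0 * g₂⁻¹ * g₁⁻¹ := by rw [c1]
        _ = g₁ * a0 * ((g₂ * b0 * g₂⁻¹) * g₁⁻¹) := by group
        _ = g₁ * a0 * (g₁⁻¹ * (g₂ * b0 * g₂⁻¹)) := by rw [c2]
        _ = (g₁ * a0 * g₁⁻¹) * (g₂ * b0 * g₂⁻¹) := by group
        _ = a * b := by rw [hg₁a, hg₂b]

end Cfsg.Agent.S3209
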