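import Mathlib
import Cfsg.Statements.S3210
import Cfsg.Agent.H1.Cores
import Cfsg.Agent.S2540
import Cfsg.Agent.H9.SubfieldPSL2
import Cfsg.Agent.Lib.Helper8.SL2Odd

set_option autoImplicit false
open Cfsg

namespace Cfsg.Agent.S3210


section Part0

section NoIdx

/-- no subgroup of index two -/
def NoIdx2 (S : Type*) [Group S] : Prop := ∀ H : Subgroup S, H.index ≠ 2

theorem eq_top_of_noIdx2 {K : Type*} [Group K] (hK : NoIdx2 K) (C : Subgroup K)
    (h : ∀ x, x ∉ C → ∀ y, y ∉ C → x⁻¹ * y ∈ C) : C = ⊤ := by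
  by_contra hC
  obtain ⟨a, ha⟩ : ∃ a, a ∉ C := by
    by_contra hcon
    apply hC
    rw [eq_top_iff]
    intro x _
    by_contra hx
    exact hcon ⟨x, hx⟩
  apply hK C
  rw [Subgroup.index_eq_two_iff]
  refine ⟨a, fun b => ?_⟩
  by_cases hb : b ∈ C
  · right
    refine ⟨hb, fun h' => ha ?_⟩
    have := C.mul_mem (C.inv_mem hb) h'
    simpa using this
  · left
    refine ⟨?_, hb⟩
    have := h b⁻¹ (by simpa using hb) a ha
    simpa using this

/-- groups that behave like `SL₂(q)`, `q` odd -/
structure SLlike (S : Type*) [Group S] : Prop where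
  card_ge : 24 ≤ Nat.card S
  center_card : Nat.card (Subgroup.center S) = 2
  noIdx2 : NoIdx2 S
  normal : ∀ N : Subgroup S, N.Normal →
    N ≤ Subgroup.center S ∨ N = ⊤ ∨ (Nat.card N = 8 ∧ Nat.card S = 24)

theorem mem_center_of_equiv {S T : Type*} [Group S] [Group T] (e : S ≃* T) (x : S) :
    e x ∈ Subgroup.center T ↔ x ∈ Subgroup.center S := by
  rw [Subgroup.mem_center_iff, Subgroup.mem_center_iff]
  constructor
  · intro h g
    apply e.injective
    rw [map_mul, map_mul]
    exact h (e g)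
  · intro h g
    obtain ⟨g', rfl⟩ := e.surjective g
    rw [← map_mul, ← map_mul, h g']

theorem SLlike.of_equiv {S T : Type*} [Group S] [Group T] (h : SLlike S) (e : S ≃* T) :
    SLlike T := by
  have hcard : Nat.card T = Nat.card S := (Nat.card_congr e.toEquiv).symm
  refine ⟨by rw [hcard]; exact h.card_ge, ?_, ?_, ?_⟩
  · rw [← h.center_card]
    symm
    apply Nat.card_congr
    exact
      { toFun := fun x => ⟨e x.1, (mem_center_of_equiv e x.1).2 x.2⟩
        invFun := fun y => ⟨e.symm y.1, by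
          rw [← mem_center_of_equiv e]
          simpa using y.2⟩
        left_inv := fun x => by simp
        right_inv := fun y => by simp }
  · intro H hH
    apply h.noIdx2 (H.comap e.toMonoidHom)
    rw [Subgroup.index_comap_of_surjective H e.surjective]
    exact hH
  · intro N hN
    have hNc : (N.comap e.toMonoidHom).Normal := hN.comap _
    have hcardN : Nat.card (N.comap e.toMonoidHom) = Nat.card N := by
      apply Nat.card_congr
      exact
        { toFun := fun x => ⟨e x.1, x.2⟩
          invFun := fun y => ⟨e.symm y.1, by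
            rw [Subgroup.mem_comap]
            simpa using y.2⟩
          left_inv := fun x => by
            apply Subtype.ext
            simp
          right_inv := fun y => by
            apply Subtype.ext
            simp }
    rcases h.normal _ hNc with h1 | h1 | ⟨h1, h2⟩
    · left
      intro y hy
      obtain ⟨x, rfl⟩ := e.surjective y
      rw [mem_center_of_equiv]
      exact h1 hy
    · right; left
      rw [eq_top_iff]
      intro y _
      obtain ⟨x, rfl⟩ := e.surjective y
      have : x ∈ N.comap e.toMonoidHom := by rw [h1]; trivial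
      exact this
    · right; right
      exact ⟨by rw [← hcardN]; exact h1, by rw [hcard]; exact h2⟩

end NoIdx

end Part0

section Part1

section Small

variable {S : Type*} [Group S] [Finite S]

theorem small24 (h24 : Nat.card S = 24) (hZ : Nat.card (Subgroup.center S) = 2) (hK : NoIdx2 S)
    (hinv : ∀ x : S, x ^ 2 = 1 → x ∈ Subgroup.center S) (N : Subgroup S) (hN : N.Normal) :
    N ≤ Subgroup.center S ∨ N = ⊤ ∨ Nat.card N = 8 := by
  classical
  have hdvd : Nat.card N ∣ 24 := h24 ▸ Subgroup.card_subgroup_dvd_card N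
  have hidx : N.index * Nat.card N = 24 := by rw [← h24]; exact N.index_mul_card
  by_cases h3 : 3 ∣ Nat.card N
  · right; left
    by_contra hne
    obtain ⟨k, hk⟩ := h3
    have hi8 : N.index ∣ 8 := by
      refine ⟨k, ?_⟩
      rw [hk] at hidx
      have : 3 * (N.index * k) = 3 * 8 := by linarith
      exact (Nat.eq_of_mul_eq_mul_left (by norm_num) this).symm
    have hi1 : N.index ≠ 1 := fun h => hne (Subgroup.index_eq_one.1 h)
    obtain ⟨a, ha3, ha⟩ := (Nat.dvd_prime_pow Nat.prime_two).1 (show N.index ∣ 2 ^ 3 from hi8)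
    have ha0 : a ≠ 0 := by
      rintro rfl
      exact hi1 (by simpa using ha)
    have hcq : Nat.card (S ⧸ N) = 2 ^ a := by
      rw [← ha]; rfl
    haveI : Fact (Nat.Prime 2) := ⟨Nat.prime_two⟩
    obtain ⟨K, hKc⟩ := Sylow.exists_subgroup_card_pow_prime (G := S ⧸ N) 2 (n := a - 1)
      (by rw [hcq]; exact pow_dvd_pow 2 (by omega))
    have hKi : K.index = 2 := by
      have h1 := K.index_mul_card
      rw [hKc, hcq] at h1
      have h2 : (2 : ℕ) ^ a = 2 * 2 ^ (a - 1) := by
        conv_lhs => rw [show a = (a - 1) + 1 by omega, pow_succ]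
        ring
      rw [h2] at h1
      exact Nat.eq_of_mul_eq_mul_right (by positivity) h1
    apply hK (K.comap (QuotientGroup.mk' N))
    rw [Subgroup.index_comap_of_surjective K (QuotientGroup.mk'_surjective N)]
    exact hKi
  · have hcop : Nat.Coprime (Nat.card N) 3 :=
      ((Nat.Prime.coprime_iff_not_dvd Nat.prime_three).2 h3).symm
    have h8 : Nat.card N ∣ 8 := by
      have : Nat.card N ∣ 8 * 3 := by simpa using hdvd
      exact hcop.dvd_of_dvd_mul_right this
    obtain ⟨a, ha3, ha⟩ := (Nat.dvd_prime_pow Nat.prime_two).1 (show Nat.card N ∣ 2 ^ 3 from h8)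
    have hsq : (∀ x ∈ N, x ^ 2 = 1) → N ≤ Subgroup.center S := fun h x hx => hinv x (h x hx)
    have hpow : ∀ x ∈ N, x ^ Nat.card N = 1 := by
      intro x hx
      have := pow_card_eq_one' (G := N) (x := ⟨x, hx⟩)
      have h2 : (((⟨x, hx⟩ : N) ^ Nat.card N : N) : S) = ((1 : N) : S) := congrArg Subtype.val this
      rw [SubgroupClass.coe_pow, Subgroup.coe_one] at h2
      exact h2
    interval_cases a
    · left
      apply hsq
      intro x hx
      have := hpow x hx
      rw [ha] at this
      simp at this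
      rw [this, one_pow]
    · left
      apply hsq
      intro x hx
      have := hpow x hx
      rw [ha] at this
      simpa using this
    · exfalso
      have hc4 : Nat.card N = 4 := by rw [ha]; norm_num
      by_cases hall : ∀ x ∈ N, x ^ 2 = 1
      · have := Subgroup.card_le_of_le (hsq hall)
        omega
      · have hex : ∃ x ∈ N, x ^ 2 ≠ 1 := by
          by_contra hcon
          apply hall
          intro x hx
          by_contra hx2
          exact hcon ⟨x, hx, hx2⟩
        obtain ⟨x, hxN, hx2⟩ := hex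
        have hx4 : x ^ 4 = 1 := by
          have := hpow x hxN
          rwa [hc4] at this
        have hox : orderOf x = 4 := by
          have hd : orderOf x ∣ 2 ^ 2 := by
            apply orderOf_dvd_of_pow_eq_one
            simpa using hx4
          obtain ⟨b, hb2, hb⟩ := (Nat.dvd_prime_pow Nat.prime_two).1 hd
          interval_cases b
          · exfalso
            apply hx2
            have : x = 1 := orderOf_eq_one_iff.1 (by simpa using hb)
            rw [this, one_pow]
          · exfalso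
            apply hx2
            rw [← orderOf_dvd_iff_pow_eq_one, hb]
            norm_num
          · simpa using hb
        have hzp : Subgroup.zpowers x = N := by
          apply Subgroup.eq_of_le_of_card_ge
          · rw [Subgroup.zpowers_le]; exact hxN
          · rw [Nat.card_zpowers, hox, hc4]
        have hconj : ∀ s : S, s * x * s⁻¹ = x ∨ s * x * s⁻¹ = x⁻¹ := by
          intro s
          have h1 : s * x * s⁻¹ ∈ N := hN.conj_mem x hxN s
          rw [← hzp, mem_zpowers_iff_mem_range_orderOf, hox] at h1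
          obtain ⟨k, hk, hk'⟩ := Finset.mem_image.1 h1
          rw [Finset.mem_range] at hk
          have hk'' : x ^ k = s * x * s⁻¹ := hk'
          interval_cases k
          · exfalso
            apply hx2
            have : x = 1 := by
              have h2 : s * x * s⁻¹ = 1 := by rw [← hk'']; simp
              have h3 := congrArg (fun w => s⁻¹ * w * s) h2
              simpa [mul_assoc] using h3
            rw [this, one_pow]
          · left; rw [← hk'']; simp
          · exfalso
            apply hx2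
            have h2 : (s * x * s⁻¹) ^ 2 = 1 := by
              rw [← hk'', ← pow_mul]
              simpa using hx4
            rw [conj_pow] at h2
            have h3 := congrArg (fun w => s⁻¹ * w * s) h2
            simpa [mul_assoc] using h3
          · right
            rw [← hk'']
            apply eq_inv_of_mul_eq_one_left
            rw [← pow_succ]
            simpa using hx4
        have hC : Subgroup.centralizer ({x} : Set S) = ⊤ := by
          apply eq_top_of_noIdx2 hK
          intro u hu v hv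
          rw [Subgroup.mem_centralizer_singleton_iff] at hu hv ⊢
          have hu' : u * x * u⁻¹ = x⁻¹ := by
            rcases hconj u with h | h
            · exfalso
              apply hu
              have := congrArg (fun w => w * u) h
              simpa [mul_assoc] using this
            · exact h
          have hv' : v * x * v⁻¹ = x⁻¹ := by
            rcases hconj v with h | h
            · exfalso
              apply hv
              have := congrArg (fun w => w * v) h
              simpa [mul_assoc] using this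
            · exact h
          have h1 : u⁻¹ * x⁻¹ * u = x := by
            rw [← hu']
            group
          have h2 : v * x = x⁻¹ * v := by
            have := congrArg (fun w => w * v) hv'
            simpa [mul_assoc] using this
          calc u⁻¹ * v * x = u⁻¹ * (v * x) := by group
            _ = u⁻¹ * (x⁻¹ * v) := by rw [h2]
            _ = (u⁻¹ * x⁻¹ * u) * (u⁻¹ * v) := by group
            _ = x * (u⁻¹ * v) := by rw [h1]
        have hxc : x ∈ Subgroup.center S := by
          rw [Subgroup.mem_center_iff]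
          intro g
          have : g ∈ Subgroup.centralizer ({x} : Set S) := by rw [hC]; trivial
          rw [Subgroup.mem_centralizer_singleton_iff] at this
          exact this
        have hle : Subgroup.zpowers x ≤ Subgroup.center S := by
          rw [Subgroup.zpowers_le]; exact hxc
        have := Subgroup.card_le_of_le hle
        rw [Nat.card_zpowers, hox, hZ] at this
        omega
    · right; right
      rw [ha]; norm_num

end Small

end Part1

section Part2

section SL2Facts

open Matrix Matrix.SpecialLinearGroup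

variable {F : Type*} [Field F] [Fintype F]

theorem three_le_card (hF : Odd (Fintype.card F)) : 3 ≤ Fintype.card F := by
  have h1 : 1 < Fintype.card F := Fintype.one_lt_card
  obtain ⟨k, hk⟩ := hF
  omega

theorem card_sl2_ge (hF : Odd (Fintype.card F)) :
    24 ≤ Nat.card (SpecialLinearGroup (Fin 2) F) := by
  rw [Cfsg.Agent.H9.SubfieldPSL2.card_SL2_all]
  have h3 := three_le_card hF
  have h9 : 9 ≤ Fintype.card F ^ 2 := by nlinarith
  calc 24 = 3 * 8 := by norm_num
    _ ≤ Fintype.card F * (Fintype.card F ^ 2 - 1) := Nat.mul_le_mul h3 (by omega)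

theorem neg_one_ne_one_sl2 (hF : Odd (Fintype.card F)) :
    (-1 : SpecialLinearGroup (Fin 2) F) ≠ 1 := by
  intro h
  have h2 := Cfsg.Agent.Lib.Helper8.SL2Odd.two_ne_zero' hF
  have h3 := congrArg (fun A : SpecialLinearGroup (Fin 2) F => A.1 0 0) h
  simp at h3
  apply h2
  linear_combination (-1 : F) * h3

theorem neg_one_mem_center : (-1 : SpecialLinearGroup (Fin 2) F) ∈
    Subgroup.center (SpecialLinearGroup (Fin 2) F) := by
  rw [Subgroup.mem_center_iff]
  intro g
  simp

theorem center_cases (hF : Odd (Fintype.card F)) (A : SpecialLinearGroup (Fin 2) F)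
    (hA : A ∈ Subgroup.center (SpecialLinearGroup (Fin 2) F)) : A = 1 ∨ A = -1 := by
  rw [mem_center_iff] at hA
  obtain ⟨r, hr, hrA⟩ := hA
  apply Cfsg.Agent.Lib.Helper8.SL2Odd.eq_one_or_neg_one hF
  simp only [Fintype.card_fin] at hr
  have hA2 : A.1 * A.1 = 1 := by
    rw [← hrA, ← map_mul, ← pow_two, hr, map_one]
  rw [pow_two]
  apply Subtype.ext
  exact hA2

theorem center_card_sl2 (hF : Odd (Fintype.card F)) :
    Nat.card (Subgroup.center (SpecialLinearGroup (Fin 2) F)) = 2 := by
  rw [Nat.card_eq_two_iff]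
  refine ⟨⟨1, one_mem _⟩, ⟨-1, neg_one_mem_center⟩, ?_, ?_⟩
  · intro h
    have := congrArg Subtype.val h
    exact neg_one_ne_one_sl2 hF this.symm
  · rw [Set.eq_univ_iff_forall]
    rintro ⟨A, hA⟩
    rcases center_cases hF A hA with h | h
    · left; exact Subtype.ext h
    · right; exact Subtype.ext h

theorem noIdx2_sl2 (hF : Odd (Fintype.card F)) : NoIdx2 (SpecialLinearGroup (Fin 2) F) := by
  intro H hH
  have h2 := Cfsg.Agent.Lib.Helper8.SL2Odd.two_ne_zero' hF
  have htr : ∀ (i j : Fin 2) (hij : i ≠ j) (c : F), transvection hij c ∈ H := by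
    intro i j hij c
    have h1 : transvection hij c = (transvection hij (c / 2)) ^ 2 := by
      rw [pow_two, ← transvection_add]
      congr 1
      field_simp
      ring
    rw [h1]
    exact Subgroup.sq_mem_of_index_two hH _
  have hall : ∀ A : SpecialLinearGroup (Fin 2) F, A ∈ H := by
    intro A
    refine diagonal_transvection_induction' (fun A => A ∈ H) A ?_ htr (fun _ _ => H.mul_mem)
    intro i j hij c hc
    rw [Cfsg.Agent.Lib.Helper5.SLn.diag2n_decompose hij c hc]
    exact H.mul_mem (H.mul_mem (H.mul_mem (H.mul_mem (H.mul_mem (htr _ _ _ _) (htr _ _ _ _))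
      (htr _ _ _ _)) (htr _ _ _ _)) (htr _ _ _ _)) (htr _ _ _ _)
  have : H = ⊤ := by
    rw [eq_top_iff]
    intro A _
    exact hall A
  rw [this, Subgroup.index_top] at hH
  omega

theorem sllike_sl2 (hF : Odd (Fintype.card F)) : SLlike (SpecialLinearGroup (Fin 2) F) := by
  refine ⟨card_sl2_ge hF, center_card_sl2 hF, noIdx2_sl2 hF, ?_⟩
  intro N hN
  by_cases h3 : Fintype.card F ≤ 3
  · have hq : Fintype.card F = 3 := le_antisymm h3 (three_le_card hF)
    have h24 : Nat.card (SpecialLinearGroup (Fin 2) F) = 24 := by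
      rw [Cfsg.Agent.H9.SubfieldPSL2.card_SL2_all, hq]
      norm_num
    have hinv : ∀ x : SpecialLinearGroup (Fin 2) F, x ^ 2 = 1 →
        x ∈ Subgroup.center (SpecialLinearGroup (Fin 2) F) := by
      intro x hx
      rcases Cfsg.Agent.Lib.Helper8.SL2Odd.eq_one_or_neg_one hF x hx with h | h
      · rw [h]; exact one_mem _
      · rw [h]; exact neg_one_mem_center
    rcases small24 h24 (center_card_sl2 hF) (noIdx2_sl2 hF) hinv N hN with h | h | h
    · left; exact h
    · right; left; exact h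
    · right; right; exact ⟨h, h24⟩
  · obtain ⟨hs, hp⟩ := Cfsg.Agent.S2540.psl_simple_perfect (F := F) 2 le_rfl
      (by rintro ⟨-, h⟩; exact h3 h)
    rcases Cfsg.Agent.S2540.normal_cases hs hp N with h | h
    · left; exact h
    · right; left; exact h

end SL2Facts

end Part2

section Part3

section Abstract

variable {G : Type*} [Group G]

/-- a pair of commuting SL-like subgroups meeting in `⟨j⟩` -/
structure Pair (L1 L2 : Subgroup G) (j : G) : Prop where
  ord : orderOf j = 2
  comm : ∀ x ∈ L1, ∀ y ∈ L2, x * y = y * x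
  inter : L1 ⊓ L2 = Subgroup.zpowers j
  sl1 : SLlike L1
  sl2 : SLlike L2

variable {L1 L2 : Subgroup G} {j : G}

theorem Pair.symm (P : Pair L1 L2 j) : Pair L2 L1 j :=
  ⟨P.ord, fun x hx y hy => (P.comm y hy x hx).symm, by rw [inf_comm]; exact P.inter, P.sl2, P.sl1⟩

theorem Pair.j_mem (P : Pair L1 L2 j) : j ∈ L1 ∧ j ∈ L2 := by
  have : j ∈ L1 ⊓ L2 := by rw [P.inter]; exact Subgroup.mem_zpowers j
  exact Subgroup.mem_inf.1 this

theorem Pair.j_ne_one (P : Pair L1 L2 j) : j ≠ 1 := by
  intro h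
  have := P.ord
  rw [h, orderOf_one] at this
  omega

theorem Pair.j_sq (P : Pair L1 L2 j) : j * j = 1 := by
  rw [← pow_two, ← P.ord]; exact pow_orderOf_eq_one j

theorem Pair.mem_sup (P : Pair L1 L2 j) {x : G} (hx : x ∈ L1 ⊔ L2) :
    ∃ a ∈ L1, ∃ b ∈ L2, x = a * b := by
  let T : Subgroup G :=
    { carrier := {x | ∃ a ∈ L1, ∃ b ∈ L2, x = a * b}
      mul_mem' := by
        rintro _ _ ⟨a, ha, b, hb, rfl⟩ ⟨a', ha', b', hb', rfl⟩
        refine ⟨a * a', mul_mem ha ha', b * b', mul_mem hb hb', ?_⟩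
        have := P.comm a' ha' b hb
        calc a * b * (a' * b') = a * (b * a') * b' := by group
          _ = a * (a' * b) * b' := by rw [this]
          _ = a * a' * (b * b') := by group
      one_mem' := ⟨1, one_mem _, 1, one_mem _, by simp⟩
      inv_mem' := by
        rintro _ ⟨a, ha, b, hb, rfl⟩
        refine ⟨a⁻¹, inv_mem ha, b⁻¹, inv_mem hb, ?_⟩
        rw [mul_inv_rev]
        exact (P.comm a⁻¹ (inv_mem ha) b⁻¹ (inv_mem hb)).symm }
  have h1 : L1 ≤ T := fun a ha => ⟨a, ha, 1, one_mem _, by simp⟩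
  have h2 : L2 ≤ T := fun b hb => ⟨1, one_mem _, b, hb, by simp⟩
  exact (sup_le h1 h2) hx

theorem Pair.j_comm (P : Pair L1 L2 j) {x : G} (hx : x ∈ L1 ⊔ L2) : x * j = j * x := by
  obtain ⟨a, ha, b, hb, rfl⟩ := P.mem_sup hx
  have h1 := P.comm a ha j P.j_mem.2
  have h2 := P.comm j P.j_mem.1 b hb
  calc a * b * j = a * (j * b) := by rw [mul_assoc, ← h2]
    _ = (a * j) * b := by group
    _ = j * a * b := by rw [h1]
    _ = j * (a * b) := by group

/-- central elements of `L1` are `1` or `j` -/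
theorem Pair.center1 (P : Pair L1 L2 j) {z : G} (hz : z ∈ L1) (hc : ∀ y ∈ L1, z * y = y * z) :
    z = 1 ∨ z = j := by
  have hcard := P.sl1.center_card
  rw [Nat.card_eq_two_iff' (1 : Subgroup.center L1)] at hcard
  obtain ⟨w, -, hw⟩ := hcard
  have hjc : (⟨j, P.j_mem.1⟩ : L1) ∈ Subgroup.center L1 := by
    rw [Subgroup.mem_center_iff]
    rintro ⟨y, hy⟩
    apply Subtype.ext
    exact P.comm y hy j P.j_mem.2
  have hzc : (⟨z, hz⟩ : L1) ∈ Subgroup.center L1 := by
    rw [Subgroup.mem_center_iff]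
    rintro ⟨y, hy⟩
    apply Subtype.ext
    exact (hc y hy).symm
  by_cases h1 : z = 1
  · left; exact h1
  · right
    have e1 : (⟨⟨z, hz⟩, hzc⟩ : Subgroup.center L1) = w := by
      apply hw
      intro h
      apply h1
      have := congrArg (fun u : Subgroup.center L1 => ((u : L1) : G)) h
      exact this
    have e2 : (⟨⟨j, P.j_mem.1⟩, hjc⟩ : Subgroup.center L1) = w := by
      apply hw
      intro h
      apply P.j_ne_one
      have := congrArg (fun u : Subgroup.center L1 => ((u : L1) : G)) h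
      exact this
    have := congrArg (fun u : Subgroup.center L1 => ((u : L1) : G)) (e1.trans e2.symm)
    exact this

/-- `C_L(L2) = L1` -/
theorem Pair.cent (P : Pair L1 L2 j) {x : G} (hx : x ∈ L1 ⊔ L2)
    (hc : ∀ y ∈ L2, x * y = y * x) : x ∈ L1 := by
  obtain ⟨a, ha, b, hb, rfl⟩ := P.mem_sup hx
  have hb' : b = 1 ∨ b = j := by
    apply P.symm.center1 hb
    intro y hy
    have h1 := hc y hy
    have h2 := P.comm a ha y hy
    have : a * (b * y) = a * (y * b) := by
      calc a * (b * y) = a * b * y := by group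
        _ = y * (a * b) := h1
        _ = (y * a) * b := by group
        _ = (a * y) * b := by rw [h2]
        _ = a * (y * b) := by group
    exact mul_left_cancel this
  rcases hb' with rfl | rfl
  · simpa using ha
  · exact mul_mem ha P.j_mem.1

/-- `L1` is normalized by `L1 ⊔ L2` -/
theorem Pair.norm1 (P : Pair L1 L2 j) {x : G} (hx : x ∈ L1 ⊔ L2) {y : G} (hy : y ∈ L1) :
    x * y * x⁻¹ ∈ L1 := by
  obtain ⟨a, ha, b, hb, rfl⟩ := P.mem_sup hx
  have h1 := P.comm y hy b hb
  have : a * b * y * (a * b)⁻¹ = a * y * a⁻¹ := by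
    calc a * b * y * (a * b)⁻¹ = a * (b * y) * b⁻¹ * a⁻¹ := by group
      _ = a * (y * b) * b⁻¹ * a⁻¹ := by rw [h1]
      _ = a * y * a⁻¹ := by group
  rw [this]
  exact mul_mem (mul_mem ha hy) (inv_mem ha)

end Abstract

end Part3

section Part4

section Main

variable {G : Type*} [Group G] [Finite G] {L1 L2 M M' : Subgroup G} {j : G}

/-- if `M ∩ L1 ⊆ {1, j}` then `M` centralizes `L1` -/
theorem centralizes (P : Pair L1 L2 j) (Q : Pair M M' j) (hsup : M ⊔ M' = L1 ⊔ L2)
    (hD : ∀ d ∈ M, d ∈ L1 → d = 1 ∨ d = j) : ∀ m ∈ M, ∀ l ∈ L1, l * m = m * l := by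
  intro m hm
  have hmL : m ∈ L1 ⊔ L2 := by rw [← hsup]; exact (le_sup_left : M ≤ M ⊔ M') hm
  let C : Subgroup L1 := (Subgroup.centralizer ({m} : Set G)).comap L1.subtype
  have hC : ∀ l : L1, l ∈ C ↔ (l : G) * m = m * (l : G) := by
    intro l
    show (l : G) ∈ Subgroup.centralizer ({m} : Set G) ↔ _
    rw [Subgroup.mem_centralizer_singleton_iff]
  have key : ∀ u : L1, u ∉ C → (u : G) * m = j * m * (u : G) := by
    intro u hu
    have huL : (u : G) ∈ M ⊔ M' := by rw [hsup]; exact (le_sup_left : L1 ≤ L1 ⊔ L2) u.2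
    have h1 : (u : G) * m * (u : G)⁻¹ * m⁻¹ ∈ M := mul_mem (Q.norm1 huL hm) (inv_mem hm)
    have h2 : (u : G) * m * (u : G)⁻¹ * m⁻¹ ∈ L1 := by
      have : (u : G) * m * (u : G)⁻¹ * m⁻¹ = (u : G) * (m * (u : G)⁻¹ * m⁻¹) := by group
      rw [this]
      exact mul_mem u.2 (P.norm1 hmL (inv_mem u.2))
    rcases hD _ h1 h2 with h | h
    · exfalso
      apply hu
      rw [hC]
      have := congrArg (fun w => w * m * (u : G)) h
      simpa [mul_assoc] using this
    · have := congrArg (fun w => w * m * (u : G)) h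
      simpa [mul_assoc] using this
  have htop : C = ⊤ := by
    apply eq_top_of_noIdx2 P.sl1.noIdx2
    intro u hu v hv
    rw [hC]
    have hu' := key u hu
    have hv' := key v hv
    have hju : (u : G)⁻¹ * j = j * (u : G)⁻¹ :=
      P.j_comm ((le_sup_left : L1 ≤ L1 ⊔ L2) (inv_mem u.2))
    -- u⁻¹ m = j⁻¹ m u⁻¹, with j⁻¹ = j
    have h3 : (u : G)⁻¹ * m = j * m * (u : G)⁻¹ := by
      have e1 : m = (u : G)⁻¹ * (j * m * (u : G)) := by rw [← hu']; group
      have e2 : (u : G)⁻¹ * (j * m * (u : G)) = j * ((u : G)⁻¹ * m * (u : G)) := by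
        calc (u : G)⁻¹ * (j * m * (u : G)) = ((u : G)⁻¹ * j) * m * (u : G) := by group
          _ = (j * (u : G)⁻¹) * m * (u : G) := by rw [hju]
          _ = j * ((u : G)⁻¹ * m * (u : G)) := by group
      rw [e2] at e1
      have e3 : j * m = (u : G)⁻¹ * m * (u : G) := by
        have := congrArg (fun w => j * w) e1
        rw [← mul_assoc j j, P.j_sq, one_mul] at this
        exact this
      calc (u : G)⁻¹ * m = ((u : G)⁻¹ * m * (u : G)) * (u : G)⁻¹ := by group
        _ = j * m * (u : G)⁻¹ := by rw [← e3]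
    show ((u⁻¹ * v : L1) : G) * m = m * ((u⁻¹ * v : L1) : G)
    rw [Subgroup.coe_mul, Subgroup.coe_inv]
    calc (u : G)⁻¹ * (v : G) * m = (u : G)⁻¹ * ((v : G) * m) := by group
      _ = (u : G)⁻¹ * (j * m * (v : G)) := by rw [hv']
      _ = ((u : G)⁻¹ * j) * m * (v : G) := by group
      _ = (j * (u : G)⁻¹) * m * (v : G) := by rw [hju]
      _ = j * ((u : G)⁻¹ * m) * (v : G) := by group
      _ = j * (j * m * (u : G)⁻¹) * (v : G) := by rw [h3]
      _ = (j * j) * m * (u : G)⁻¹ * (v : G) := by group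
      _ = m * ((u : G)⁻¹ * (v : G)) := by rw [P.j_sq]; group
  intro l hl
  have : (⟨l, hl⟩ : L1) ∈ C := by rw [htop]; trivial
  exact (hC _).1 this

theorem card_subgroupOf_of_le {H K : Subgroup G} (h : H ≤ K) :
    Nat.card (H.subgroupOf K) = Nat.card H :=
  Nat.card_congr (Subgroup.subgroupOfEquivOfLe h).toEquiv

/-- if `M ≤ L2` then `M = L2` -/
theorem eq_of_le_right (P : Pair L1 L2 j) (Q : Pair M M' j) (hsup : M ⊔ M' = L1 ⊔ L2)
    (hcM : Nat.card M = Nat.card L1) (hcM' : Nat.card M' = Nat.card L2) (hle : M ≤ L2) :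
    M = L2 := by
  have h1 : L1 ≤ M' := by
    intro x hx
    apply Q.symm.cent
    · rw [sup_comm, hsup]; exact (le_sup_left : L1 ≤ L1 ⊔ L2) hx
    · intro y hy
      exact P.comm x hx y (hle hy)
  have hN : (L1.subgroupOf M').Normal := by
    constructor
    rintro ⟨l, hl⟩ hl' ⟨m', hm'⟩
    rw [Subgroup.mem_subgroupOf] at hl' ⊢
    have : m' ∈ L1 ⊔ L2 := by rw [← hsup]; exact (le_sup_right : M' ≤ M ⊔ M') hm'
    exact P.norm1 this hl'
  have hcN : Nat.card (L1.subgroupOf M') = Nat.card L1 := card_subgroupOf_of_le h1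
  have h24 := P.sl1.card_ge
  rcases Q.sl2.normal _ hN with h | h | ⟨h, -⟩
  · exfalso
    have := Subgroup.card_le_of_le h
    rw [hcN, Q.sl2.center_card] at this
    omega
  · rw [Subgroup.subgroupOf_eq_top] at h
    have e1 : L1 = M' := le_antisymm h1 h
    apply Subgroup.eq_of_le_of_card_ge hle
    rw [hcM, e1, hcM']
  · exfalso
    rw [hcN] at h
    omega

theorem main_abstract (P : Pair L1 L2 j) (Q : Pair M M' j) (hsup : M ⊔ M' = L1 ⊔ L2)
    (hcM : Nat.card M = Nat.card L1) (hcM' : Nat.card M' = Nat.card L2) :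
    M = L1 ∨ M = L2 := by
  have hML : M ≤ L1 ⊔ L2 := by rw [← hsup]; exact le_sup_left
  have hN1 : (L1.subgroupOf M).Normal := by
    constructor
    rintro ⟨l, hl⟩ hl' ⟨m, hm⟩
    rw [Subgroup.mem_subgroupOf] at hl' ⊢
    exact P.norm1 (hML hm) hl'
  have hN2 : (L2.subgroupOf M).Normal := by
    constructor
    rintro ⟨l, hl⟩ hl' ⟨m, hm⟩
    rw [Subgroup.mem_subgroupOf] at hl' ⊢
    have : m ∈ L2 ⊔ L1 := by rw [sup_comm]; exact hML hm
    exact P.symm.norm1 this hl'
  -- central case helper
  have hcentral : ∀ K : Subgroup G, K.subgroupOf M ≤ Subgroup.center M →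
      ∀ d ∈ M, d ∈ K → d = 1 ∨ d = j := by
    intro K hK d hdM hdK
    apply Q.center1 hdM
    intro y hy
    have h1 : (⟨d, hdM⟩ : M) ∈ K.subgroupOf M := by
      rw [Subgroup.mem_subgroupOf]; exact hdK
    have h2 := Subgroup.mem_center_iff.1 (hK h1) ⟨y, hy⟩
    exact (congrArg Subtype.val h2).symm
  have hleft : M ≤ L1 → M = L1 := fun h =>
    Subgroup.eq_of_le_of_card_ge h (by rw [hcM])
  have hright : M ≤ L2 → M = L2 := eq_of_le_right P Q hsup hcM hcM'
  rcases Q.sl1.normal _ hN1 with h1 | h1 | ⟨h1, h1'⟩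
  · -- M centralizes L1, so M ≤ L2
    right
    apply hright
    intro m hm
    apply P.symm.cent
    · rw [sup_comm]; exact hML hm
    · intro y hy
      exact (centralizes P Q hsup (hcentral L1 h1) m hm y hy).symm
  · left
    apply hleft
    rw [Subgroup.subgroupOf_eq_top] at h1
    exact h1
  · rcases Q.sl1.normal _ hN2 with h2 | h2 | ⟨h2, -⟩
    · left
      apply hleft
      intro m hm
      apply P.cent (hML hm)
      intro y hy
      have hsup' : M ⊔ M' = L2 ⊔ L1 := by rw [hsup, sup_comm]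
      exact (centralizes P.symm Q hsup' (hcentral L2 h2) m hm y hy).symm
    · right
      apply hright
      rw [Subgroup.subgroupOf_eq_top] at h2
      exact h2
    · exfalso
      haveI := hN2
      have hd1 := Cfsg.Agent.H1.card_sup_dvd_of_normal (L1.subgroupOf M) (L2.subgroupOf M)
      rw [h1, h2] at hd1
      have hd2 : Nat.card (L1.subgroupOf M ⊔ L2.subgroupOf M : Subgroup M) ∣ 24 := by
        rw [← h1']; exact Subgroup.card_subgroup_dvd_card _
      have hd3 : Nat.card (L1.subgroupOf M ⊔ L2.subgroupOf M : Subgroup M) ∣ 8 := by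
        have := Nat.dvd_gcd hd1 hd2
        norm_num at this
        exact this
      have hle1 : L1.subgroupOf M ≤ L1.subgroupOf M ⊔ L2.subgroupOf M := le_sup_left
      have h8 : Nat.card (L1.subgroupOf M ⊔ L2.subgroupOf M : Subgroup M) ≤ 8 :=
        Nat.le_of_dvd (by norm_num) hd3
      have heq : L1.subgroupOf M = L1.subgroupOf M ⊔ L2.subgroupOf M :=
        Subgroup.eq_of_le_of_card_ge hle1 (by rw [h1]; exact h8)
      have hle2 : L2.subgroupOf M ≤ L1.subgroupOf M := by
        rw [heq]; exact le_sup_right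
      -- so M ⊓ L2 ≤ L1 ⊓ L2 = ⟨j⟩ of order 2
      have hle3 : L2.subgroupOf M ≤ (Subgroup.zpowers j).subgroupOf M := by
        intro x hx
        rw [Subgroup.mem_subgroupOf, ← P.inter]
        exact ⟨hle2 hx, hx⟩
      have hc3 := Subgroup.card_le_of_le hle3
      have hjM : Subgroup.zpowers j ≤ M := by
        rw [Subgroup.zpowers_le]; exact Q.j_mem.1
      rw [card_subgroupOf_of_le hjM, Nat.card_zpowers, P.ord, h2] at hc3
      omega

end Main

end Part4

section Part5

section Final

variable {G : Type*} [Group G]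

theorem mem_map_conj (H : Subgroup G) (n y : G) :
    y ∈ H.map (MulAut.conj n).toMonoidHom ↔ n⁻¹ * y * n ∈ H := by
  rw [Subgroup.mem_map]
  constructor
  · rintro ⟨x, hx, rfl⟩
    have : n⁻¹ * ((MulAut.conj n).toMonoidHom x) * n = x := by
      simp [MulAut.conj_apply, mul_assoc]
    rw [this]; exact hx
  · intro h
    refine ⟨n⁻¹ * y * n, h, ?_⟩
    simp [MulAut.conj_apply, mul_assoc]

theorem conj_injective (n : G) : Function.Injective (MulAut.conj n).toMonoidHom :=
  (MulAut.conj n).injective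

theorem card_mono_aux (a b : ℕ) (ha : 1 ≤ a) (hab : a < b) :
    a * (a ^ 2 - 1) < b * (b ^ 2 - 1) := by
  have h1 : a ^ 2 - 1 ≤ b ^ 2 - 1 := by
    have : a ^ 2 ≤ b ^ 2 := Nat.pow_le_pow_left hab.le 2
    omega
  have h2 : 0 < b ^ 2 - 1 := by
    have : 2 ^ 2 ≤ b ^ 2 := Nat.pow_le_pow_left (by omega) 2
    omega
  calc a * (a ^ 2 - 1) ≤ a * (b ^ 2 - 1) := Nat.mul_le_mul_left a h1
    _ < b * (b ^ 2 - 1) := Nat.mul_lt_mul_of_pos_right hab h2

theorem card_inj (a b : ℕ) (ha : 1 ≤ a) (hb : 1 ≤ b)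
    (h : a * (a ^ 2 - 1) = b * (b ^ 2 - 1)) : a = b := by
  rcases lt_trichotomy a b with h1 | h1 | h1
  · have := card_mono_aux a b ha h1; omega
  · exact h1
  · have := card_mono_aux b a hb h1; omega

theorem result {G : Type*} [Group G] [Finite G]
    {F₁ : Type*} [Field F₁] [Fintype F₁] {F₂ : Type*} [Field F₂] [Fintype F₂]
    (hF₁ : Odd (Fintype.card F₁)) (hF₂ : Odd (Fintype.card F₂)) (L₁ L₂ : Subgroup G)
    (e₁ : ↥L₁ ≃* Matrix.SpecialLinearGroup (Fin 2) F₁) (e₂ : ↥L₂ ≃* Matrix.SpecialLinearGroup (Fin 2) F₂)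
    (hc : ∀ x ∈ L₁, ∀ y ∈ L₂, x * y = y * x) (j : G) (hj : orderOf j = 2) (hm : L₁ ⊓ L₂ = Subgroup.zpowers j)
    (hle : L₁ ⊔ L₂ ≤ Subgroup.centralizer ({j} : Set G)) (hi : (L₁ ⊔ L₂).relIndex (Subgroup.centralizer ({j} : Set G)) = 2) (n : G) (hn : n ∈ Subgroup.centralizer ({j} : Set G)) (hn' : n ∉ L₁ ⊔ L₂) :
    (L₁.map (MulAut.conj n).toMonoidHom = L₁ ∧ L₂.map (MulAut.conj n).toMonoidHom = L₂) ∨
      (L₁.map (MulAut.conj n).toMonoidHom = L₂ ∧ Fintype.card F₁ = Fintype.card F₂ ∧
        ∃ n' ∈ Subgroup.centralizer ({j} : Set G), n' ∉ L₁ ⊔ L₂ ∧ L₁.map (MulAut.conj n').toMonoidHom = L₂ ∧ n' ^ 2 ∈ Subgroup.zpowers j) := by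
  have P : Pair L₁ L₂ j :=
    ⟨hj, hc, hm, (sllike_sl2 hF₁).of_equiv e₁.symm, (sllike_sl2 hF₂).of_equiv e₂.symm⟩
  have hidx : ((L₁ ⊔ L₂).subgroupOf (Subgroup.centralizer ({j} : Set G))).index = 2 := hi
  have hnorm := Subgroup.normal_of_index_eq_two hidx
  have hnj : n * j * n⁻¹ = j := by
    rw [Subgroup.mem_centralizer_singleton_iff] at hn
    rw [hn]; group
  -- conjugation by n preserves L
  have hconjL : ∀ x ∈ L₁ ⊔ L₂, n * x * n⁻¹ ∈ L₁ ⊔ L₂ := by
    intro x hx
    have h1 : (⟨x, hle hx⟩ : Subgroup.centralizer ({j} : Set G)) ∈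
        (L₁ ⊔ L₂).subgroupOf (Subgroup.centralizer ({j} : Set G)) := by
      rw [Subgroup.mem_subgroupOf]; exact hx
    have h2 := hnorm.conj_mem _ h1 ⟨n, hn⟩
    rw [Subgroup.mem_subgroupOf] at h2
    exact h2
  have hsq : n * n ∈ L₁ ⊔ L₂ := by
    have h2 := Subgroup.mul_self_mem_of_index_two hidx ⟨n, hn⟩
    rw [Subgroup.mem_subgroupOf] at h2
    exact h2
  have hinj := conj_injective n
  have Q : Pair (L₁.map (MulAut.conj n).toMonoidHom) (L₂.map (MulAut.conj n).toMonoidHom) j := by
    refine ⟨hj, ?_, ?_, ?_, ?_⟩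
    · rintro _ ⟨a, ha, rfl⟩ _ ⟨b, hb, rfl⟩
      rw [← map_mul, ← map_mul, hc a ha b hb]
    · rw [← Subgroup.map_inf _ _ _ hinj, hm, MonoidHom.map_zpowers]
      congr 1
    · exact P.sl1.of_equiv (Subgroup.equivMapOfInjective L₁ _ hinj)
    · exact P.sl2.of_equiv (Subgroup.equivMapOfInjective L₂ _ hinj)
  have hsup : L₁.map (MulAut.conj n).toMonoidHom ⊔ L₂.map (MulAut.conj n).toMonoidHom
      = L₁ ⊔ L₂ := by
    rw [← Subgroup.map_sup]
    apply Subgroup.eq_of_le_of_card_ge
    · rintro _ ⟨x, hx, rfl⟩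
      simpa [MulAut.conj_apply] using hconjL x hx
    · rw [Subgroup.card_map_of_injective hinj]
  have hc1 : Nat.card (L₁.map (MulAut.conj n).toMonoidHom) = Nat.card L₁ :=
    Subgroup.card_map_of_injective hinj
  have hc2 : Nat.card (L₂.map (MulAut.conj n).toMonoidHom) = Nat.card L₂ :=
    Subgroup.card_map_of_injective hinj
  have hne : L₁.map (MulAut.conj n).toMonoidHom ≠ L₂.map (MulAut.conj n).toMonoidHom := by
    intro h
    have h1 := Q.inter
    rw [← h, inf_idem] at h1
    have h2 := Q.sl1.card_ge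
    rw [h1, Nat.card_zpowers, hj] at h2
    omega
  have hsup' : L₂.map (MulAut.conj n).toMonoidHom ⊔ L₁.map (MulAut.conj n).toMonoidHom
      = L₂ ⊔ L₁ := by rw [sup_comm, hsup, sup_comm]
  rcases main_abstract P Q hsup hc1 hc2 with h1 | h1
  · left
    refine ⟨h1, ?_⟩
    rcases main_abstract P.symm Q.symm hsup' hc2 hc1 with h2 | h2
    · exact h2
    · exact absurd (h1.trans h2.symm) hne
  · right
    have h2 : L₂.map (MulAut.conj n).toMonoidHom = L₁ := by
      rcases main_abstract P.symm Q.symm hsup' hc2 hc1 with h2 | h2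
      · exact absurd (h1.trans h2.symm) hne
      · exact h2
    refine ⟨h1, ?_, ?_⟩
    · have e : Nat.card L₁ = Nat.card L₂ := by rw [← hc1, h1]
      rw [Nat.card_congr e₁.toEquiv, Nat.card_congr e₂.toEquiv,
        Cfsg.Agent.H9.SubfieldPSL2.card_SL2_all, Cfsg.Agent.H9.SubfieldPSL2.card_SL2_all] at e
      exact card_inj _ _ Fintype.card_pos Fintype.card_pos e
    · obtain ⟨a, ha, b, hb, hab⟩ := P.mem_sup hsq
      -- n⁻¹ x n ∈ L₂ for x ∈ L₁, and n⁻¹ y n ∈ L₁ for y ∈ L₂
      have hL12 : ∀ x ∈ L₁, n⁻¹ * x * n ∈ L₂ := by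
        intro x hx
        rw [← mem_map_conj, h2]; exact hx
      have hL21 : ∀ y ∈ L₂, n⁻¹ * y * n ∈ L₁ := by
        intro y hy
        rw [← mem_map_conj, h1]; exact hy
      refine ⟨n * a⁻¹, ?_, ?_, ?_, ?_⟩
      · exact mul_mem hn (hle ((le_sup_left : L₁ ≤ L₁ ⊔ L₂) (inv_mem ha)))
      · intro h
        apply hn'
        have := mul_mem h ((le_sup_left : L₁ ≤ L₁ ⊔ L₂) ha)
        simpa using this
      · ext y
        rw [mem_map_conj, ← h1, mem_map_conj]
        have e : (n * a⁻¹)⁻¹ * y * (n * a⁻¹) = a * (n⁻¹ * y * n) * a⁻¹ := by group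
        rw [e]
        constructor
        · intro h
          have := mul_mem (mul_mem (inv_mem ha) h) ha
          simpa [mul_assoc] using this
        · intro h
          exact mul_mem (mul_mem ha h) (inv_mem ha)
      · -- (n a⁻¹)² = b * (n⁻¹ a⁻¹ n)
        have hcomm : n⁻¹ * (a * b) * n = a * b := by rw [← hab]; group
        have hcL2 : n⁻¹ * a⁻¹ * n ∈ L₂ := hL12 _ (inv_mem ha)
        have e1 : (n * a⁻¹) ^ 2 = b * (n⁻¹ * a⁻¹ * n) := by
          have hbc : b * (n⁻¹ * a⁻¹ * n) ∈ L₂ := mul_mem hb hcL2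
          have hcm := hc a ha _ hbc
          calc (n * a⁻¹) ^ 2 = (n * n) * (n⁻¹ * a⁻¹ * n) * a⁻¹ := by rw [pow_two]; group
            _ = (a * b) * (n⁻¹ * a⁻¹ * n) * a⁻¹ := by rw [hab]
            _ = (a * (b * (n⁻¹ * a⁻¹ * n))) * a⁻¹ := by group
            _ = ((b * (n⁻¹ * a⁻¹ * n)) * a) * a⁻¹ := by rw [hcm]
            _ = b * (n⁻¹ * a⁻¹ * n) := by group
        rw [e1, ← hm]
        refine Subgroup.mem_inf.2 ⟨?_, mul_mem hb hcL2⟩
        -- b * (n⁻¹ a n)⁻¹ = a⁻¹ * (n⁻¹ b n) ∈ L₁
        have hx1 : n⁻¹ * a * n ∈ L₂ := hL12 a ha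
        have hy1 : n⁻¹ * b * n ∈ L₁ := hL21 b hb
        have e2 : (n⁻¹ * b * n) * (n⁻¹ * a * n) = a * b := by
          rw [hc _ hy1 _ hx1]
          rw [← hcomm]; group
        have e3 : b * (n⁻¹ * a⁻¹ * n) = a⁻¹ * (n⁻¹ * b * n) := by
          have : a⁻¹ * ((n⁻¹ * b * n) * (n⁻¹ * a * n)) * (n⁻¹ * a⁻¹ * n) =
              a⁻¹ * (a * b) * (n⁻¹ * a⁻¹ * n) := by rw [e2]
          calc b * (n⁻¹ * a⁻¹ * n) = a⁻¹ * (a * b) * (n⁻¹ * a⁻¹ * n) := by group
            _ = a⁻¹ * ((n⁻¹ * b * n) * (n⁻¹ * a * n)) * (n⁻¹ * a⁻¹ * n) := this.symm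
            _ = a⁻¹ * (n⁻¹ * b * n) := by group
        rw [e3]
        exact mul_mem (inv_mem ha) hy1

end Final

end Part5

end Cfsg.Agent.S3210
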