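import Mathlib
import Cfsg.Statements.S3213

set_option autoImplicit false
open Cfsg

namespace Cfsg.Agent.S3213

open Matrix

section form

variable {F : Type*} [Field F]

/-- the alternating form -/
def B (v w : Fin 2 ⊕ Fin 2 → F) : F := dotProduct v ((Matrix.J (Fin 2) F).mulVec w)

theorem B_add_left (u v w : Fin 2 ⊕ Fin 2 → F) : B (u + v) w = B u w + B v w := by
  simp [B, add_dotProduct]

theorem B_add_right (u v w : Fin 2 ⊕ Fin 2 → F) : B u (v + w) = B u v + B u w := by
  simp [B, mulVec_add, dotProduct_add]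

theorem B_smul_left (c : F) (v w : Fin 2 ⊕ Fin 2 → F) : B (c • v) w = c * B v w := by
  simp [B, smul_dotProduct]

theorem B_smul_right (c : F) (v w : Fin 2 ⊕ Fin 2 → F) : B v (c • w) = c * B v w := by
  simp [B, mulVec_smul, dotProduct_smul]

theorem B_sub_left (u v w : Fin 2 ⊕ Fin 2 → F) : B (u - v) w = B u w - B v w := by
  simp [B, sub_dotProduct]

theorem B_sub_right (u v w : Fin 2 ⊕ Fin 2 → F) : B u (v - w) = B u v - B u w := by
  simp [B, mulVec_sub, dotProduct_sub]

theorem B_zero_left (w : Fin 2 ⊕ Fin 2 → F) : B 0 w = 0 := by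
  simp [B]

theorem B_self (v : Fin 2 ⊕ Fin 2 → F) : B v v = 0 := by
  simp only [B, dotProduct, Matrix.J, Fintype.sum_sum_type, Matrix.mulVec, Matrix.fromBlocks_apply₁₁,
    Matrix.fromBlocks_apply₁₂, Matrix.fromBlocks_apply₂₁, Matrix.fromBlocks_apply₂₂,
    Fin.sum_univ_two, Matrix.zero_apply, Matrix.neg_apply, Matrix.one_apply]
  simp
  ring

theorem B_skew (v w : Fin 2 ⊕ Fin 2 → F) : B v w = - B w v := by
  have h := B_self (v + w)
  rw [B_add_left, B_add_right, B_add_right, B_self, B_self] at h
  linear_combination h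

theorem B_symp {G : Matrix (Fin 2 ⊕ Fin 2) (Fin 2 ⊕ Fin 2) F}
    (hG : G ∈ Matrix.symplecticGroup (Fin 2) F) (v w : Fin 2 ⊕ Fin 2 → F) :
    B (G.mulVec v) (G.mulVec w) = B v w := by
  have h := SymplecticGroup.mem_iff'.1 hG
  unfold B
  rw [dotProduct_comm, Matrix.dotProduct_mulVec, ← Matrix.mulVec_transpose, dotProduct_comm,
    Matrix.mulVec_mulVec, Matrix.mulVec_mulVec, h]

theorem B_nondeg (a : Fin 2 ⊕ Fin 2 → F) (ha : a ≠ 0) : ∃ w, B a w ≠ 0 := by
  classical
  by_contra hno
  apply ha
  have hall : ∀ w, B a w = 0 := fun w => by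
    by_contra h
    exact hno ⟨w, h⟩
  funext i
  have h := hall ((Matrix.J (Fin 2) F).mulVec (Pi.single i (-1)))
  unfold B at h
  rw [Matrix.mulVec_mulVec, Matrix.J_squared, Matrix.neg_mulVec, Matrix.one_mulVec,
    ← Pi.single_neg, neg_neg, dotProduct_single, mul_one] at h
  exact h

end form

section core

variable {F : Type*} [Field F] [Fintype F]

theorem three_eq_zero (hF : Fintype.card F = 3) : (3 : F) = 0 := by
  have := Nat.cast_card_eq_zero F
  rw [hF] at this
  exact_mod_cast this

theorem sq_eq_one (hF : Fintype.card F = 3) (t : F) (ht : t ≠ 0) : t ^ 2 = 1 := by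
  have := FiniteField.pow_card_sub_one_eq_one t ht
  rwa [hF] at this

variable (hF : Fintype.card F = 3)
  (G S : Matrix (Fin 2 ⊕ Fin 2) (Fin 2 ⊕ Fin 2) F)
  (hG : G ∈ Matrix.symplecticGroup (Fin 2) F) (hS : S ∈ Matrix.symplecticGroup (Fin 2) F)
  (h3 : G * G * G = 1) (hGS : G * S = S * (G * G))

local notation "V" => (Fin 2 ⊕ Fin 2 → F)

/-- the nilpotent part -/
noncomputable def Nm (G : Matrix (Fin 2 ⊕ Fin 2) (Fin 2 ⊕ Fin 2) F) : V →ₗ[F] V :=
  Matrix.toLin' G - LinearMap.id

theorem Nm_apply (G : Matrix (Fin 2 ⊕ Fin 2) (Fin 2 ⊕ Fin 2) F) (v : V) :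
    Nm G v = G.mulVec v - v := by
  simp [Nm]

include h3 in
theorem T3 (v : V) : G.mulVec (G.mulVec (G.mulVec v)) = v := by
  rw [Matrix.mulVec_mulVec, Matrix.mulVec_mulVec, h3, Matrix.one_mulVec]

include hF in
theorem N2_formula (v : V) :
    Nm G (Nm G v) =
      v + G.mulVec v + G.mulVec (G.mulVec v) := by
  simp only [Nm_apply, Matrix.mulVec_sub]
  have h30 : ∀ x : V, (3 : F) • x = 0 := fun x => by rw [three_eq_zero hF, zero_smul]
  have : G.mulVec (G.mulVec v) - G.mulVec v - (G.mulVec v - v) =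
      v + G.mulVec v + G.mulVec (G.mulVec v) - (3 : F) • G.mulVec v := by module
  rw [this, h30, sub_zero]

include hF h3 in
theorem N3 (v : V) :
    Nm G (Nm G
      (Nm G v)) = 0 := by
  rw [N2_formula hF G]
  simp only [Nm_apply, Matrix.mulVec_sub, T3 G h3]
  abel

include hF hG h3 in
theorem D_alt (u : V) :
    B (Nm G (Nm G u)) u = 0 := by
  rw [N2_formula hF G, B_add_left, B_add_left, B_self]
  have h1 : B (G.mulVec (G.mulVec u)) u = B u (G.mulVec u) := by
    rw [← B_symp hG (G.mulVec (G.mulVec u)) u, T3 G h3]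
  rw [h1, B_skew u (G.mulVec u)]
  ring

include hF hG h3 in
theorem D_skew (u w : V) :
    B (Nm G (Nm G u)) w =
      - B (Nm G (Nm G w)) u := by
  have h := D_alt hF G hG h3 (u + w)
  rw [map_add, map_add, B_add_left, B_add_right, B_add_right, D_alt hF G hG h3,
    D_alt hF G hG h3] at h
  linear_combination h

end core

section core2

variable {F : Type*} [Field F] [Fintype F]
variable (hF : Fintype.card F = 3)
  (G S : Matrix (Fin 2 ⊕ Fin 2) (Fin 2 ⊕ Fin 2) F)
  (hG : G ∈ Matrix.symplecticGroup (Fin 2) F) (hS : S ∈ Matrix.symplecticGroup (Fin 2) F)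
  (h3 : G * G * G = 1) (hGS : G * S = S * (G * G))

local notation "V" => (Fin 2 ⊕ Fin 2 → F)

include hF hG h3 in
theorem N2_zero (u : V) : Nm G (Nm G u) = 0 := by
  classical
  by_contra ha
  obtain ⟨w, hw⟩ := B_nondeg _ ha
  have hwu : B (Nm G (Nm G w)) u ≠ 0 := by
    rw [D_skew hF G hG h3 w u]
    exact neg_ne_zero.2 hw
  have hauu := D_alt hF G hG h3 u
  have hbww := D_alt hF G hG h3 w
  -- independence of a = N²u and b = N²w
  have hab : ∀ α β : F, α • Nm G (Nm G u) + β • Nm G (Nm G w) = 0 → α = 0 ∧ β = 0 := by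
    intro α β h
    have h1 := congrArg (fun x => B x u) h
    have h2 := congrArg (fun x => B x w) h
    simp only [B_add_left, B_smul_left, B_zero_left, hauu, hbww, mul_zero, zero_add, add_zero]
      at h1 h2
    exact ⟨(mul_eq_zero.1 h2).resolve_right hw, (mul_eq_zero.1 h1).resolve_right hwu⟩
  have hli : LinearIndependent F ![u, Nm G u, Nm G (Nm G u), Nm G w, Nm G (Nm G w)] := by
    rw [Fintype.linearIndependent_iff]
    intro c hc
    simp only [Fin.sum_univ_five, Matrix.cons_val_zero, Matrix.cons_val_one,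
      Matrix.cons_val] at hc
    have hc0 : c 0 = 0 := by
      have h := congrArg (fun x => Nm G (Nm G x)) hc
      simp only [map_add, map_smul, N3 hF G h3, map_zero, smul_zero, add_zero] at h
      exact (hab (c 0) 0 (by rw [zero_smul, add_zero]; exact h)).1
    rw [hc0, zero_smul, zero_add] at hc
    have hc13 : c 1 = 0 ∧ c 3 = 0 := by
      have h := congrArg (fun x => Nm G x) hc
      simp only [map_add, map_smul, N3 hF G h3, map_zero, smul_zero, add_zero] at h
      exact hab (c 1) (c 3) h
    rw [hc13.1, hc13.2, zero_smul, zero_smul, zero_add, add_zero] at hc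
    have hc24 := hab (c 2) (c 4) hc
    intro i
    fin_cases i
    · exact hc0
    · exact hc13.1
    · exact hc24.1
    · exact hc13.2
    · exact hc24.2
  have := hli.fintype_card_le_finrank
  simp at this

end core2

section core3

variable {F : Type*} [Field F] [Fintype F]
variable (hF : Fintype.card F = 3)
  (G S : Matrix (Fin 2 ⊕ Fin 2) (Fin 2 ⊕ Fin 2) F)
  (hG : G ∈ Matrix.symplecticGroup (Fin 2) F) (hS : S ∈ Matrix.symplecticGroup (Fin 2) F)
  (h3 : G * G * G = 1) (hGS : G * S = S * (G * G))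

local notation "V" => (Fin 2 ⊕ Fin 2 → F)

include hG hS h3 hGS in
/-- reality: the quadratic form `Q(u) = B(Gu,u)` changes sign under `S` -/
theorem Q_real (u : V) : B (G.mulVec (S.mulVec u)) (S.mulVec u) = - B (G.mulVec u) u := by
  have h1 : G.mulVec (S.mulVec u) = S.mulVec (G.mulVec (G.mulVec u)) := by
    rw [Matrix.mulVec_mulVec, hGS, ← Matrix.mulVec_mulVec, ← Matrix.mulVec_mulVec]
  rw [h1, B_symp hS]
  have h2 : B (G.mulVec (G.mulVec u)) u = B u (G.mulVec u) := by
    rw [← B_symp hG (G.mulVec (G.mulVec u)) u, T3 G h3]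
  rw [h2, B_skew]

include hF hG hS h3 hGS in
theorem rank_ne_one : Module.finrank F (LinearMap.range (Nm G)) ≠ 1 := by
  classical
  intro hr
  -- a nonzero vector of the range
  have hne : ∃ u₀, Nm G u₀ ≠ 0 := by
    by_contra hno
    have hbot : LinearMap.range (Nm G) = ⊥ := by
      rw [eq_bot_iff]
      rintro _ ⟨u, rfl⟩
      by_contra hu
      exact hno ⟨u, hu⟩
    rw [hbot, finrank_bot] at hr
    exact zero_ne_one hr
  obtain ⟨u₀, ha⟩ := hne
  set a := Nm G u₀ with hadef
  have hspan : ∀ u : V, ∃ c : F, c • a = Nm G u := by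
    intro u
    have h := (finrank_eq_one_iff_of_nonzero' (⟨a, u₀, rfl⟩ : LinearMap.range (Nm G))
      (fun h => ha (congrArg Subtype.val h))).1 hr ⟨Nm G u, u, rfl⟩
    obtain ⟨c, hc⟩ := h
    exact ⟨c, congrArg Subtype.val hc⟩
  choose f hf using hspan
  -- symplectic relation
  have hrel : ∀ u w : V, f u * B a w = f w * B a u := by
    intro u w
    have h1 : B (Nm G u) w = - B (G.mulVec u) (Nm G w) := by
      rw [Nm_apply, Nm_apply, B_sub_left, B_sub_right, B_symp hG]
      ring
    have h2 : G.mulVec u = u + Nm G u := by rw [Nm_apply]; abel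
    rw [h2, B_add_left, ← hf u, ← hf w, B_smul_left, B_smul_right, B_smul_left, B_smul_right,
      B_self, B_skew u a] at h1
    linear_combination h1
  obtain ⟨w₀, hw₀⟩ := B_nondeg a ha
  have hfu₀ : f u₀ = 1 := by
    have h := hf u₀
    have : (f u₀ - 1) • a = 0 := by rw [sub_smul, one_smul, h]; exact sub_self _
    rcases smul_eq_zero.1 this with h' | h'
    · exact sub_eq_zero.1 h'
    · exact absurd h' ha
  obtain ⟨c, hc⟩ : ∃ c : F, c = f w₀ / B a w₀ := ⟨_, rfl⟩
  have hfc : ∀ u, f u = c * B a u := by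
    intro u
    rw [hc]
    field_simp
    exact hrel u w₀
  have hc0 : c ≠ 0 := by
    intro h0
    have := hfc u₀
    rw [hfu₀, h0, zero_mul] at this
    exact one_ne_zero this
  have hQ : ∀ u, B (G.mulVec u) u = c * (B a u) ^ 2 := by
    intro u
    have h2 : G.mulVec u = u + Nm G u := by rw [Nm_apply]; abel
    rw [h2, B_add_left, B_self, zero_add, ← hf u, B_smul_left, hfc u]
    ring
  have hreal := Q_real G S hG hS h3 hGS w₀
  rw [hQ, hQ, sq_eq_one hF _ hw₀, mul_one] at hreal
  have h30 := three_eq_zero hF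
  by_cases hz : B a (S.mulVec w₀) = 0
  · rw [hz] at hreal
    apply hc0
    have : c * 0 ^ 2 = -c := hreal
    linear_combination this
  · rw [sq_eq_one hF _ hz, mul_one] at hreal
    apply hc0
    have h2c : 2 * c = 0 := by linear_combination hreal
    have : c = 3 * c - 2 * c := by ring
    rw [this, h30, h2c]
    ring

include hF hG hS h3 hGS in
theorem core (h1 : G ≠ 1) :
    Module.finrank F (LinearMap.ker (Nm G)) = 2 ∧
    ∀ v w : V, G.mulVec v = v → G.mulVec w = w → B v w = 0 := by
  classical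
  have hN2 := N2_zero hF G hG h3
  have hrk : LinearMap.range (Nm G) ≤ LinearMap.ker (Nm G) := by
    rintro _ ⟨u, rfl⟩
    exact LinearMap.mem_ker.2 (hN2 u)
  have hsum := LinearMap.finrank_range_add_finrank_ker (Nm G)
  have hV : Module.finrank F V = 4 := by simp
  rw [hV] at hsum
  have hle := Submodule.finrank_mono hrk
  have hne : ∃ u₀, Nm G u₀ ≠ 0 := by
    by_contra hno
    apply h1
    have hall : ∀ v, G.mulVec v = v := fun v => by
      by_contra hv
      exact hno ⟨v, by rw [Nm_apply]; exact sub_ne_zero.2 hv⟩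
    have : Matrix.toLin' G = Matrix.toLin' 1 :=
      LinearMap.ext fun v => by
        rw [Matrix.toLin'_apply, hall v, Matrix.toLin'_one, LinearMap.id_apply]
    exact Matrix.toLin'.injective this
  obtain ⟨u₀, hu₀⟩ := hne
  have hlt : Module.finrank F (LinearMap.ker (Nm G)) < 4 := by
    rw [← hV]
    apply Submodule.finrank_lt
    intro htop
    apply hu₀
    have : u₀ ∈ LinearMap.ker (Nm G) := by rw [htop]; trivial
    exact LinearMap.mem_ker.1 this
  have hr1 := rank_ne_one hF G S hG hS h3 hGS
  have hk2 : Module.finrank F (LinearMap.ker (Nm G)) = 2 := by omega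
  refine ⟨hk2, ?_⟩
  have heq : LinearMap.range (Nm G) = LinearMap.ker (Nm G) :=
    Submodule.eq_of_le_of_finrank_eq hrk (by omega)
  intro v w hv hw
  have hwk : w ∈ LinearMap.ker (Nm G) := by
    rw [LinearMap.mem_ker, Nm_apply, hw, sub_self]
  rw [← heq] at hwk
  obtain ⟨u, rfl⟩ := hwk
  rw [Nm_apply, B_sub_right]
  nth_rewrite 1 [← hv]
  rw [B_symp hG, sub_self]

end core3

section real

theorem real5 : ∀ a b c d : ZMod 5, a * d - b * c = 1 →
    (a * a + b * c) * a + (a * b + b * d) * c = 1 → (a * a + b * c) * b + (a * b + b * d) * d = 0 →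
    (c * a + d * c) * a + (c * b + d * d) * c = 0 → (c * a + d * c) * b + (c * b + d * d) * d = 1 →
    ∃ p q r : ZMod 5, - p * p - q * r = 1 ∧
      a * p + b * r = p * d - q * c ∧ a * q - b * p = - p * b + q * a ∧
      c * p + d * r = r * d + p * c ∧ c * q - d * p = - r * b - p * a := by
  decide

variable {K : Type*} [Field K] [Fintype K]

theorem real_K (hK : Fintype.card K = 5) (x : Matrix.SpecialLinearGroup (Fin 2) K)
    (hx3 : x * x * x = 1) :
    ∃ y : Matrix.SpecialLinearGroup (Fin 2) K, x * y = y * (x * x) := by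
  classical
  let e : ZMod 5 ≃+* K := ZMod.ringEquivOfPrime K Nat.prime_five hK
  have hdet : x.1 0 0 * x.1 1 1 - x.1 0 1 * x.1 1 0 = 1 := by
    have := x.2
    rwa [Matrix.det_fin_two] at this
  have hc : ∀ i j, (x.1 * x.1 * x.1) i j = (1 : Matrix (Fin 2) (Fin 2) K) i j := by
    intro i j
    have := congrArg (fun z : Matrix.SpecialLinearGroup (Fin 2) K => z.1 i j) hx3
    simpa using this
  have h00 := hc 0 0
  have h01 := hc 0 1
  have h10 := hc 1 0
  have h11 := hc 1 1
  simp only [Matrix.mul_apply, Fin.sum_univ_two, Matrix.one_apply_eq, Matrix.one_apply_ne,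
    ne_eq, zero_ne_one, one_ne_zero, not_false_eq_true] at h00 h01 h10 h11
  obtain ⟨p, q, r, hy, e00, e01, e10, e11⟩ := real5 (e.symm (x.1 0 0)) (e.symm (x.1 0 1))
    (e.symm (x.1 1 0)) (e.symm (x.1 1 1))
    (by
      apply e.injective
      simp only [map_sub, map_mul, map_add, map_one, map_zero, RingEquiv.apply_symm_apply]
      exact hdet)
    (by
      apply e.injective
      simp only [map_sub, map_mul, map_add, map_one, map_zero, RingEquiv.apply_symm_apply]
      linear_combination h00)
    (by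
      apply e.injective
      simp only [map_sub, map_mul, map_add, map_one, map_zero, RingEquiv.apply_symm_apply]
      linear_combination h01)
    (by
      apply e.injective
      simp only [map_sub, map_mul, map_add, map_one, map_zero, RingEquiv.apply_symm_apply]
      linear_combination h10)
    (by
      apply e.injective
      simp only [map_sub, map_mul, map_add, map_one, map_zero, RingEquiv.apply_symm_apply]
      linear_combination h11)
  have hy' := congrArg e hy
  have e00' := congrArg e e00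
  have e01' := congrArg e e01
  have e10' := congrArg e e10
  have e11' := congrArg e e11
  simp only [map_sub, map_mul, map_add, map_one, map_zero, map_neg,
    RingEquiv.apply_symm_apply] at hy' e00' e01' e10' e11'
  have hxinv : x * x = x⁻¹ := by
    rw [eq_inv_iff_mul_eq_one]
    exact hx3
  have hdety : (!![e p, e q; e r, - e p] : Matrix (Fin 2) (Fin 2) K).det = 1 := by
    rw [Matrix.det_fin_two_of]
    linear_combination hy'
  obtain ⟨y, hy1⟩ : ∃ y : Matrix.SpecialLinearGroup (Fin 2) K, y.1 = !![e p, e q; e r, - e p] :=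
    ⟨⟨_, hdety⟩, rfl⟩
  refine ⟨y, ?_⟩
  · rw [hxinv]
    apply Subtype.ext
    rw [Matrix.SpecialLinearGroup.coe_mul, Matrix.SpecialLinearGroup.coe_mul,
      Matrix.SpecialLinearGroup.coe_inv, Matrix.adjugate_fin_two, hy1]
    ext i j
    fin_cases i <;> fin_cases j
    · simp only [Matrix.mul_apply, Fin.sum_univ_two, Fin.zero_eta, Fin.isValue, Matrix.of_apply,
        Matrix.cons_val', Matrix.cons_val_zero, Matrix.cons_val_one, Matrix.cons_val_fin_one]
      linear_combination e00'
    · simp only [Matrix.mul_apply, Fin.sum_univ_two, Fin.zero_eta, Fin.mk_one, Fin.isValue,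
        Matrix.of_apply, Matrix.cons_val', Matrix.cons_val_zero, Matrix.cons_val_one,
        Matrix.cons_val_fin_one]
      linear_combination e01'
    · simp only [Matrix.mul_apply, Fin.sum_univ_two, Fin.zero_eta, Fin.mk_one, Fin.isValue,
        Matrix.of_apply, Matrix.cons_val', Matrix.cons_val_zero, Matrix.cons_val_one,
        Matrix.cons_val_fin_one]
      linear_combination e10'
    · simp only [Matrix.mul_apply, Fin.sum_univ_two, Fin.mk_one, Fin.isValue,
        Matrix.of_apply, Matrix.cons_val', Matrix.cons_val_zero, Matrix.cons_val_one,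
        Matrix.cons_val_fin_one]
      linear_combination e11'

end real

/-- Let F be the field with 3 elements and K the field with 5 elements. For every injective homomorphism φ from SL₂(K) into the symplectic group Sp₄(F) (4 × 4 matrices g with g J gᵀ = J for the standard alternating matrix J) and every element x of order 3 of SL₂(K), the vectors of F⁴ fixed by φ(x) form a 2-dimensional subspace that is totally isotropic for the alternating form defined by J. -/
theorem result {F : Type*} [Field F] [Fintype F] (hF : Fintype.card F = 3)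
    {K : Type*} [Field K] [Fintype K] (hK : Fintype.card K = 5)
    (φ : Matrix.SpecialLinearGroup (Fin 2) K →* ↥(Matrix.symplecticGroup (Fin 2) F)) (hφ : Function.Injective φ)
    (x : Matrix.SpecialLinearGroup (Fin 2) K) (hx : orderOf x = 3) :
    Module.finrank F ↥(LinearMap.ker (Matrix.toLin' ((φ x : Matrix (Fin 2 ⊕ Fin 2) (Fin 2 ⊕ Fin 2) F)) - LinearMap.id)) = 2 ∧
      ∀ v w : Fin 2 ⊕ Fin 2 → F, (φ x : Matrix (Fin 2 ⊕ Fin 2) (Fin 2 ⊕ Fin 2) F).mulVec v = v →
        (φ x : Matrix (Fin 2 ⊕ Fin 2) (Fin 2 ⊕ Fin 2) F).mulVec w = w →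
          dotProduct v ((Matrix.J (Fin 2) F).mulVec w) = 0 := by
  have hx3 : x * x * x = 1 := by
    have := pow_orderOf_eq_one x
    rw [hx] at this
    rw [← this]
    simp [pow_succ]
  have hx1 : x ≠ 1 := by
    intro h
    rw [h, orderOf_one] at hx
    omega
  obtain ⟨y, hy⟩ := real_K hK x hx3
  have hg3 : φ x * φ x * φ x = 1 := by
    rw [← map_mul, ← map_mul, hx3, map_one]
  have hgs : φ x * φ y = φ y * (φ x * φ x) := by
    rw [← map_mul, ← map_mul, ← map_mul, hy]
  have h3 : (φ x : Matrix (Fin 2 ⊕ Fin 2) (Fin 2 ⊕ Fin 2) F) * (φ x).1 * (φ x).1 = 1 := by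
    have := congrArg Subtype.val hg3
    simpa using this
  have hGS : (φ x : Matrix (Fin 2 ⊕ Fin 2) (Fin 2 ⊕ Fin 2) F) * (φ y).1 =
      (φ y).1 * ((φ x).1 * (φ x).1) := by
    have := congrArg Subtype.val hgs
    simpa using this
  have h1 : (φ x : Matrix (Fin 2 ⊕ Fin 2) (Fin 2 ⊕ Fin 2) F) ≠ 1 := by
    intro h
    apply hx1
    apply hφ
    rw [map_one]
    exact Subtype.ext h
  exact core hF (φ x).1 (φ y).1 (φ x).2 (φ y).2 h3 hGS h1

end Cfsg.Agent.S3213
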