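import Mathlib
import Cfsg.Statements.S4337
import Cfsg.Agent.Lib.helper3.Burnside
import Cfsg.Agent.H1.Card

set_option autoImplicit false
open Cfsg

namespace Cfsg.Agent.S4337

open Equiv

variable {α : Type*} [DecidableEq α] [Fintype α]

/-- a subgroup of permutations supported on `S` has order dividing `|S|!` -/
theorem card_dvd_factorial (S : Finset α) (X : Set (Perm α)) (h : ∀ g ∈ X, g.support ⊆ S) :
    Nat.card (Subgroup.closure X) ∣ S.card.factorial := by
  have hle : Subgroup.closure X ≤ (Perm.ofSubtype : Perm {x // x ∈ S} →* Perm α).range := by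
    rw [Subgroup.closure_le]
    intro g hg
    rw [SetLike.mem_coe, Perm.mem_range_ofSubtype_iff]
    intro x hx
    exact h g hg hx
  have h1 := Subgroup.card_dvd_of_le hle
  have h2 : Nat.card (Perm.ofSubtype : Perm {x // x ∈ S} →* Perm α).range
      = S.card.factorial := by
    rw [Nat.card_congr (MonoidHom.ofInjective Perm.ofSubtype_injective).toEquiv.symm,
      Nat.card_eq_fintype_card, Fintype.card_perm, Fintype.card_coe]
  rw [h2] at h1
  exact h1

theorem factorial_dvd_24 {k : ℕ} (hk : k ≤ 4) : k.factorial ∣ 24 := by
  interval_cases k <;> decide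

theorem isSolvable_of_card_dvd {K : Type*} [Group K] [Finite K] (h : Nat.card K ∣ 2 ^ 4 * 3 ^ 1) :
    Group.IsSolvable K := by
  obtain ⟨k₁, k₂, h1, h2, h3⟩ := (Nat.dvd_mul).1 h
  obtain ⟨a, -, ha⟩ := (Nat.dvd_prime_pow Nat.prime_two).1 h1
  obtain ⟨b, -, hb⟩ := (Nat.dvd_prime_pow Nat.prime_three).1 h2
  exact Cfsg.Agent.Lib.helper3.Burnside.isSolvable_of_card_eq 2 3 Nat.prime_two Nat.prime_three _ K rfl
    ⟨a, b, by rw [← h3, ha, hb]⟩

/-- the case where one transposition is disjoint from the other two -/
theorem solvable_of_disjoint (x y z : Perm α) (hx : x.IsSwap) (hy : y.IsSwap) (hz : z.IsSwap)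
    (hd : Disjoint x.support (y.support ∪ z.support)) :
    Group.IsSolvable (Subgroup.closure ({x, y, z} : Set (Perm α))) := by
  apply isSolvable_of_card_dvd
  have hxy : Commute x y := by
    apply Perm.Disjoint.commute
    rw [Perm.disjoint_iff_disjoint_support]
    exact hd.mono_right Finset.subset_union_left
  have hxz : Commute x z := by
    apply Perm.Disjoint.commute
    rw [Perm.disjoint_iff_disjoint_support]
    exact hd.mono_right Finset.subset_union_right
  have hK : Nat.card (Subgroup.closure ({y, z} : Set (Perm α))) ∣ 24 := by
    refine (card_dvd_factorial (y.support ∪ z.support) {y, z} ?_).trans (factorial_dvd_24 ?_)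
    · rintro g (rfl | rfl)
      · exact Finset.subset_union_left
      · exact Finset.subset_union_right
    · have := Finset.card_union_le y.support z.support
      rw [Perm.card_support_eq_two.2 hy, Perm.card_support_eq_two.2 hz] at this
      omega
  have hsplit : Subgroup.closure ({x, y, z} : Set (Perm α))
      = Subgroup.closure ({y, z} : Set (Perm α)) ⊔ Subgroup.zpowers x := by
    rw [Set.insert_eq, Subgroup.closure_union, Subgroup.zpowers_eq_closure, sup_comm]
  have hnorm : Subgroup.closure ({y, z} : Set (Perm α))
      ≤ Subgroup.normalizer ((Subgroup.zpowers x : Subgroup (Perm α)) : Set (Perm α)) := by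
    refine le_trans ?_ (Subgroup.centralizer_le_normalizer _)
    rw [Subgroup.closure_le]
    rintro g (rfl | rfl)
    · rw [SetLike.mem_coe, Subgroup.mem_centralizer_iff]
      intro h hh
      obtain ⟨k, rfl⟩ := Subgroup.mem_zpowers_iff.1 hh
      exact (hxy.zpow_left k).eq
    · rw [SetLike.mem_coe, Subgroup.mem_centralizer_iff]
      intro h hh
      obtain ⟨k, rfl⟩ := Subgroup.mem_zpowers_iff.1 hh
      exact (hxz.zpow_left k).eq
  have hcard := Cfsg.Agent.H1.card_sup_mul_card_inf _ _ hnorm
  have hx2 : Nat.card (Subgroup.zpowers x) = 2 := by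
    rw [Nat.card_zpowers]
    exact hx.orderOf
  rw [hsplit]
  have h1 : Nat.card ((Subgroup.closure ({y, z} : Set (Perm α)) ⊔ Subgroup.zpowers x :
      Subgroup (Perm α))) ∣ Nat.card (Subgroup.closure ({y, z} : Set (Perm α))) *
        Nat.card (Subgroup.zpowers x) := Dvd.intro _ hcard
  rw [hx2] at h1
  exact h1.trans (by
    have : (2 : ℕ) ^ 4 * 3 ^ 1 = 24 * 2 := by norm_num
    rw [this]
    exact Nat.mul_dvd_mul_right hK 2)

/-- In a finite symmetric group, any three transpositions generate a solvable subgroup. -/
theorem result (n : ℕ) (a b c : Equiv.Perm (Fin n))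
    (ha : a.IsSwap) (hb : b.IsSwap) (hc : c.IsSwap) :
    Group.IsSolvable (Subgroup.closure ({a, b, c} : Set (Equiv.Perm (Fin n)))) := by
  classical
  have hA := Perm.card_support_eq_two.2 ha
  have hB := Perm.card_support_eq_two.2 hb
  have hC := Perm.card_support_eq_two.2 hc
  by_cases h1 : Disjoint a.support (b.support ∪ c.support)
  · exact solvable_of_disjoint a b c ha hb hc h1
  by_cases h2 : Disjoint b.support (a.support ∪ c.support)
  · have e : ({a, b, c} : Set (Perm (Fin n))) = {b, a, c} := Set.insert_comm a b {c}
    rw [e]
    exact solvable_of_disjoint b a c hb ha hc h2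
  by_cases h3 : Disjoint c.support (a.support ∪ b.support)
  · have e : ({a, b, c} : Set (Perm (Fin n))) = {c, a, b} := by
      ext g
      simp only [Set.mem_insert_iff, Set.mem_singleton_iff]
      tauto
    rw [e]
    exact solvable_of_disjoint c a b hc ha hb h3
  -- the connected case
  apply isSolvable_of_card_dvd
  have hcard : (a.support ∪ b.support ∪ c.support).card ≤ 4 := by
    by_cases hab : Disjoint a.support b.support
    · -- then `a` meets `c` and `b` meets `c`
      have hac : ¬ Disjoint a.support c.support := by
        intro h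
        exact h1 (Finset.disjoint_union_right.2 ⟨hab, h⟩)
      have hbc : ¬ Disjoint b.support c.support := by
        intro h
        exact h2 (Finset.disjoint_union_right.2 ⟨hab.symm, h⟩)
      have e1 := Finset.card_union_add_card_inter a.support c.support
      have e2 := Finset.card_union_add_card_inter (a.support ∪ c.support) b.support
      have n1 : 1 ≤ (a.support ∩ c.support).card :=
        Finset.card_pos.2 (Finset.not_disjoint_iff_nonempty_inter.1 hac)
      have n2 : 1 ≤ ((a.support ∪ c.support) ∩ b.support).card := by
        apply Finset.card_pos.2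
        rw [← Finset.not_disjoint_iff_nonempty_inter]
        intro h
        exact hbc (Finset.disjoint_union_left.1 h).2.symm
      have e3 : a.support ∪ b.support ∪ c.support = a.support ∪ c.support ∪ b.support := by
        rw [Finset.union_right_comm]
      rw [e3]
      omega
    · have hc' : ¬ Disjoint (a.support ∪ b.support) c.support := fun h => h3 h.symm
      have e1 := Finset.card_union_add_card_inter a.support b.support
      have e2 := Finset.card_union_add_card_inter (a.support ∪ b.support) c.support
      have n1 : 1 ≤ (a.support ∩ b.support).card :=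
        Finset.card_pos.2 (Finset.not_disjoint_iff_nonempty_inter.1 hab)
      have n2 : 1 ≤ ((a.support ∪ b.support) ∩ c.support).card :=
        Finset.card_pos.2 (Finset.not_disjoint_iff_nonempty_inter.1 hc')
      omega
  refine ((card_dvd_factorial (a.support ∪ b.support ∪ c.support) {a, b, c} ?_).trans
    (factorial_dvd_24 hcard)).trans (by norm_num)
  rintro g (rfl | rfl | rfl)
  · exact Finset.subset_union_left.trans Finset.subset_union_left
  · exact Finset.subset_union_right.trans Finset.subset_union_left
  · exact Finset.subset_union_right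

end Cfsg.Agent.S4337
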