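import Cfsg.Statements.S3222
import Cfsg.Agent.Lib.Helper5.Z2S4.Main
import Cfsg.Agent.S4337
import Cfsg.Agent.Lib.Helper8.AltSixExtC

set_option autoImplicit false
open Cfsg

namespace Cfsg.Agent.S3222

/-- Let G be a finite group of even order such that (1) some involution t lying in the centre of a Sylow 2-subgroup of G has C_G(t) ≅ Z₂ × S₄, and (2) every Sylow 2-subgroup S of G satisfies C_G(S′) = S, where S′ is the derived subgroup of S. Then G = C_G(t) if G is solvable, and G ≅ S₆ otherwise. -/
theorem result {G : Type*} [Group G] [Finite G] (hev : Even (Nat.card G))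
    (t : G) (ht : orderOf t = 2) (T : Sylow 2 G) (htT : t ∈ (T : Subgroup G)) (htc : ∀ s ∈ (T : Subgroup G), s * t = t * s)
    (e : ↥(Subgroup.centralizer ({t} : Set G)) ≃* (Multiplicative (ZMod 2) × Equiv.Perm (Fin 4)))
    (h2 : ∀ S : Sylow 2 G, Subgroup.centralizer ((⁅(S : Subgroup G), (S : Subgroup G)⁆ : Subgroup G) : Set G) = (S : Subgroup G)) :
    (Group.IsSolvable G → Subgroup.centralizer ({t} : Set G) = ⊤) ∧
      (¬ Group.IsSolvable G → Nonempty (G ≃* Equiv.Perm (Fin 6))) := by
  have hA6 : ∀ (N : Subgroup G) [N.Normal], N.index = 2 → t ∉ N →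
      (↥N ≃* ↥(alternatingGroup (Fin 6))) → Nonempty (G ≃* Equiv.Perm (Fin 6)) := by
    intro N _ hidx htN ψ
    exact Cfsg.Agent.Lib.Helper8.AltSixExt.perm_six_of_index_two_alt_six N ψ hidx t ht htN
      (by rw [Nat.card_congr e.toEquiv]; exact Cfsg.Agent.Lib.Helper5.Z2S4.card_M)
  have key := Cfsg.Agent.Lib.Helper5.Z2S4.main ht T htc e h2 hA6
  constructor
  · intro hsol
    rcases key with h | ⟨⟨f⟩⟩
    · exact h
    · exfalso
      have h6 : Group.IsSolvable (Equiv.Perm (Fin 6)) :=
        Group.isSolvable_of_isSolvable_injective (f := f.symm.toMonoidHom) f.symm.injective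
      exact Equiv.Perm.not_isSolvable (Fin 6)
        (by rw [Cardinal.mk_fin]; exact_mod_cast (by norm_num : (5 : ℕ) ≤ 6)) h6
  · intro hns
    rcases key with h | h
    · exfalso
      apply hns
      apply Cfsg.Agent.S4337.isSolvable_of_card_dvd
      rw [← Subgroup.card_top (G := G), ← h, Nat.card_congr e.toEquiv,
        Cfsg.Agent.Lib.Helper5.Z2S4.card_M]
      norm_num
    · exact h

end Cfsg.Agent.S3222
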