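import Mathlib
import Cfsg.Statements.S3224
import Cfsg.Agent.S0206

set_option autoImplicit false
open Cfsg

namespace Cfsg.Agent.S3224

universe u

/-- cardinality of a 2-group as a power of two -/
theorem card_two_pow {T : Type*} [Group T] [Finite T] (hT : IsPGroup 2 T) :
    ∃ n : ℕ, Nat.card T = 2 ^ n :=
  have : Fact (Nat.Prime 2) := ⟨Nat.prime_two⟩
  IsPGroup.iff_card.mp hT

/-- in a 2-group of order at least 4 every centralizer has order at least 4 -/
theorem four_le_card_centralizer {T : Type*} [Group T] [Finite T] (hT : IsPGroup 2 T)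
    (h4 : 4 ≤ Nat.card T) (t : T) : 4 ≤ Nat.card (Subgroup.centralizer ({t} : Set T)) := by
  have : Fact (Nat.Prime 2) := ⟨Nat.prime_two⟩
  by_cases ht : t ∈ Subgroup.center T
  · have : Subgroup.centralizer ({t} : Set T) = ⊤ := by
      rw [eq_top_iff]
      intro g _
      rw [Subgroup.mem_centralizer_singleton_iff]
      exact ((Subgroup.mem_center_iff.mp ht) g)
    rw [this, Subgroup.card_top]; exact h4
  · have hnt : Nontrivial T := by
      rw [← Finite.one_lt_card_iff_nontrivial]; omega
    have hZ : Nontrivial (Subgroup.center T) := hT.center_nontrivial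
    have hZ2 : 2 ≤ Nat.card (Subgroup.center T) := by
      rw [Nat.succ_le_iff]; exact Finite.one_lt_card_iff_nontrivial.mpr hZ
    have hle : Subgroup.center T ≤ Subgroup.centralizer ({t} : Set T) := by
      intro g hg
      rw [Subgroup.mem_centralizer_singleton_iff]
      exact ((Subgroup.mem_center_iff.mp hg) t).symm
    have hlt : Subgroup.center T < Subgroup.centralizer ({t} : Set T) := by
      refine lt_of_le_of_ne hle ?_
      intro h
      apply ht
      rw [h, Subgroup.mem_centralizer_singleton_iff]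
    have hcardlt : Nat.card (Subgroup.center T) < Nat.card (Subgroup.centralizer ({t} : Set T)) := by
      rcases (Subgroup.card_le_of_le hlt.le).lt_or_eq with h | h
      · exact h
      · exact absurd (Subgroup.eq_of_le_of_card_ge hlt.le h.ge) hlt.ne
    obtain ⟨k, hk⟩ := card_two_pow (hT.to_subgroup (Subgroup.centralizer ({t} : Set T)))
    rw [hk] at hcardlt ⊢
    have hk2 : 2 ≤ k := by
      by_contra hcon
      have : k = 0 ∨ k = 1 := by omega
      rcases this with rfl | rfl <;> simp at hcardlt <;> omega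
    calc 4 = 2 ^ 2 := by norm_num
      _ ≤ 2 ^ k := Nat.pow_le_pow_right (by norm_num) hk2


theorem setup {S : Type u} [Group S] [Finite S] (hS : IsPGroup 2 S) (x : S)
    (hC : Nat.card (Subgroup.centralizer ({x} : Set S)) = 4) (h8 : 8 ≤ Nat.card S) :
    x ∉ Subgroup.center S ∧ Nat.card (Subgroup.center S) = 2 := by
  have : Fact (Nat.Prime 2) := ⟨Nat.prime_two⟩
  have hx : x ∉ Subgroup.center S := by
    intro ht
    have : Subgroup.centralizer ({x} : Set S) = ⊤ := by
      rw [eq_top_iff]
      intro g _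
      rw [Subgroup.mem_centralizer_singleton_iff]
      exact ((Subgroup.mem_center_iff.mp ht) g)
    rw [this, Subgroup.card_top] at hC
    omega
  refine ⟨hx, ?_⟩
  have hnt : Nontrivial S := by
    rw [← Finite.one_lt_card_iff_nontrivial]; omega
  have hZ : Nontrivial (Subgroup.center S) := hS.center_nontrivial
  have hZ2 : 2 ≤ Nat.card (Subgroup.center S) := by
    rw [Nat.succ_le_iff]; exact Finite.one_lt_card_iff_nontrivial.mpr hZ
  have hle : Subgroup.center S ≤ Subgroup.centralizer ({x} : Set S) := by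
    intro g hg
    rw [Subgroup.mem_centralizer_singleton_iff]
    exact ((Subgroup.mem_center_iff.mp hg) x).symm
  have hne : Subgroup.center S ≠ Subgroup.centralizer ({x} : Set S) := by
    intro h
    apply hx
    rw [h, Subgroup.mem_centralizer_singleton_iff]
  have hcardlt : Nat.card (Subgroup.center S) < 4 := by
    rw [← hC]
    rcases (Subgroup.card_le_of_le hle).lt_or_eq with h | h
    · exact h
    · exact absurd (Subgroup.eq_of_le_of_card_ge hle h.ge) hne
  obtain ⟨k, hk⟩ := card_two_pow (hS.to_subgroup (Subgroup.center S))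
  rw [hk] at hcardlt hZ2 ⊢
  have : k = 1 := by
    by_contra hcon
    rcases Nat.lt_or_ge k 1 with h | h
    · have : k = 0 := by omega
      subst this; simp at hZ2
    · have h2 : 2 ≤ k := by omega
      have : 2 ^ 2 ≤ 2 ^ k := Nat.pow_le_pow_right (by norm_num) h2
      omega
  rw [this]; norm_num

/-- elements of the centre have square one when the centre has order two -/
theorem sq_eq_one_of_mem_center {S : Type u} [Group S] [Finite S]
    (hZ : Nat.card (Subgroup.center S) = 2) (g : S) (hg : g ∈ Subgroup.center S) : g ^ 2 = 1 := by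
  have := pow_card_eq_one' (G := Subgroup.center S) (x := ⟨g, hg⟩)
  rw [hZ] at this
  exact congrArg Subtype.val this

/-- the centralizer of the image of `x` in `S ⧸ Z(S)` has order at most 4 -/
theorem card_centralizer_quotient_le {S : Type u} [Group S] [Finite S] (x : S)
    (hC : Nat.card (Subgroup.centralizer ({x} : Set S)) = 4)
    (hZ : Nat.card (Subgroup.center S) = 2) :
    Nat.card (Subgroup.centralizer ({(QuotientGroup.mk' (Subgroup.center S)) x} : Set (S ⧸ Subgroup.center S))) ≤ 4 := by
  obtain ⟨Z, hZdef⟩ : ∃ Z : Subgroup S, Z = Subgroup.center S := ⟨_, rfl⟩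
  have hZn : Z.Normal := by rw [hZdef]; infer_instance
  subst hZdef
  obtain ⟨K, hK⟩ : ∃ K : Subgroup (S ⧸ Subgroup.center S),
    K = Subgroup.centralizer ({(QuotientGroup.mk' (Subgroup.center S)) x} : Set (S ⧸ Subgroup.center S)) := ⟨_, rfl⟩
  rw [← hK]
  obtain ⟨D, hD⟩ : ∃ D : Subgroup S, D = K.comap (QuotientGroup.mk' (Subgroup.center S)) := ⟨_, rfl⟩
  have hmemD : ∀ g : S, g ∈ D → g * x * g⁻¹ * x⁻¹ ∈ Subgroup.center S := by
    intro g hg
    rw [hD, Subgroup.mem_comap, hK, Subgroup.mem_centralizer_singleton_iff] at hg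
    rw [← QuotientGroup.eq_one_iff, ← QuotientGroup.mk'_apply]
    simp only [map_mul, map_inv]
    rw [hg]
    group
  let ψ : D →* Subgroup.center S := MonoidHom.mk' (fun g => ⟨(g : S) * x * (g : S)⁻¹ * x⁻¹, hmemD g g.2⟩) (by
    intro g h
    apply Subtype.ext
    have hc := Subgroup.mem_center_iff.mp (hmemD h h.2)
    simp only [Subgroup.coe_mul, mul_inv_rev]
    have e1 : (g : S) * (h : S) * x * ((h : S)⁻¹ * (g : S)⁻¹) * x⁻¹
        = (g : S) * ((h : S) * x * (h : S)⁻¹ * x⁻¹) * (x * (g : S)⁻¹ * x⁻¹) := by group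
    rw [e1, hc (g : S), hc ((g : S) * x * (g : S)⁻¹ * x⁻¹)]
    group)
  have hker : Nat.card ψ.ker ≤ 4 := by
    rw [← hC]
    apply Nat.card_le_card_of_injective
      (fun g : ψ.ker => (⟨((g : D) : S), by
        have := g.2
        rw [MonoidHom.mem_ker] at this
        have h1 : ((g : D) : S) * x * ((g : D) : S)⁻¹ * x⁻¹ = 1 := congrArg Subtype.val this
        rw [Subgroup.mem_centralizer_singleton_iff]
        have : ((g : D) : S) * x = (((g : D) : S) * x * ((g : D) : S)⁻¹ * x⁻¹) * (x * ((g : D) : S)) := by group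
        rw [this, h1, one_mul]⟩ : Subgroup.centralizer ({x} : Set S)))
    intro a b hab
    apply Subtype.ext
    apply Subtype.ext
    have := congrArg Subtype.val hab
    exact this
  have hrange : Nat.card ψ.range ≤ 2 := by
    rw [← hZ]; exact Subgroup.card_le_card_group _
  have hDcard : Nat.card D = Nat.card ψ.ker * Nat.card ψ.range := by
    rw [← Subgroup.index_ker, Subgroup.card_mul_index]
  have hD8 : Nat.card D ≤ 8 := by
    rw [hDcard]
    calc Nat.card ψ.ker * Nat.card ψ.range ≤ 4 * 2 := Nat.mul_le_mul hker hrange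
      _ = 8 := by norm_num
  -- |D| = 2 |K|
  have hidx : D.index = K.index := by
    rw [hD]; exact Subgroup.index_comap_of_surjective _ (QuotientGroup.mk'_surjective _)
  have h1 := Subgroup.card_mul_index D
  have h2 := Subgroup.card_mul_index K
  have h3 := Subgroup.card_eq_card_quotient_mul_card_subgroup (Subgroup.center S)
  rw [hZ] at h3
  have hKpos : 0 < K.index := Nat.pos_of_ne_zero Subgroup.index_ne_zero_of_finite
  rw [hidx] at h1
  have : Nat.card D * K.index = (2 * Nat.card K) * K.index := by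
    rw [h1, h3, ← h2]; ring
  have := Nat.eq_of_mul_eq_mul_right hKpos this
  omega


/-- the inductive statement: a cyclic subgroup of index two avoiding `x` -/
def Good (S : Type u) [Group S] : Prop :=
  ∀ x : S, orderOf x = 2 → Nat.card (Subgroup.centralizer ({x} : Set S)) = 4 → ¬ IsCyclic S →
    ∃ a : S, 2 * orderOf a = Nat.card S ∧ x ∉ Subgroup.zpowers a

/-- the case of order four -/
theorem good_four {S : Type u} [Group S] [Finite S] (h4 : Nat.card S = 4) : Good S := by
  intro x hx _ hnc
  have hlt : ({1, x} : Set S).ncard < (Set.univ : Set S).ncard := by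
    rw [Set.ncard_univ, h4]
    have := Set.ncard_insert_le (1 : S) ({x} : Set S)
    rw [Set.ncard_singleton] at this
    omega
  obtain ⟨a, _, ha⟩ := Set.exists_mem_notMem_of_ncard_lt_ncard hlt
  have ha1 : a ≠ 1 := fun h => ha (by rw [h]; simp)
  have hax : a ≠ x := fun h => ha (by rw [h]; simp)
  have hdvd : orderOf a ∣ 4 := h4 ▸ orderOf_dvd_natCard a
  have hne4 : orderOf a ≠ 4 := fun h => hnc (isCyclic_of_orderOf_eq_card a (h.trans h4.symm))
  have hne1 : orderOf a ≠ 1 := fun h => ha1 (orderOf_eq_one_iff.mp h)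
  have ho : orderOf a = 2 := by
    have hle : orderOf a ≤ 4 := Nat.le_of_dvd (by norm_num) hdvd
    have hpos : 0 < orderOf a := orderOf_pos a
    interval_cases h : orderOf a <;> simp_all
  refine ⟨a, by rw [ho, h4], ?_⟩
  intro hmem
  rw [Subgroup.mem_zpowers_iff] at hmem
  obtain ⟨k, hk⟩ := hmem
  have ha2' : a ^ 2 = 1 := by
    have := pow_orderOf_eq_one a
    rwa [ho] at this
  have ha2 : a ^ (2 : ℤ) = 1 := by exact_mod_cast ha2'
  rw [zpow_eq_zpow_emod k ha2] at hk
  rcases Int.emod_two_eq_zero_or_one k with h0 | h1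
  · rw [h0, zpow_zero] at hk
    rw [← hk, orderOf_one] at hx
    omega
  · rw [h1, zpow_one] at hk
    exact hax hk

theorem good : ∀ n : ℕ, ∀ (S : Type u) [Group S] [Finite S], IsPGroup 2 S → Nat.card S = n →
    Good S := by
  intro n
  induction n using Nat.strong_induction_on with
  | _ n ih =>
  intro S _ _ hS hn x hx hC hnc
  have h4 : 4 ≤ Nat.card S := hC ▸ Subgroup.card_le_card_group _
  by_cases h8 : 8 ≤ Nat.card S
  swap
  · obtain ⟨k, hk⟩ := card_two_pow hS
    have : Nat.card S = 4 := by
      rw [hk] at h4 h8 ⊢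
      have hk2 : k = 2 := by
        by_contra hcon
        rcases Nat.lt_or_ge k 2 with h | h
        · have : 2 ^ k ≤ 2 ^ 1 := Nat.pow_le_pow_right (by norm_num) (by omega)
          omega
        · have : 2 ^ 3 ≤ 2 ^ k := Nat.pow_le_pow_right (by norm_num) (by omega)
          omega
      rw [hk2]; norm_num
    exact good_four this x hx hC hnc
  obtain ⟨hxZ, hZ⟩ := setup hS x hC h8
  have hcardQ : Nat.card S = Nat.card (S ⧸ Subgroup.center S) * 2 := by
    rw [← hZ]; exact Subgroup.card_eq_card_quotient_mul_card_subgroup _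
  have hQ4 : 4 ≤ Nat.card (S ⧸ Subgroup.center S) := by omega
  have hQlt : Nat.card (S ⧸ Subgroup.center S) < n := by omega
  have hQ2 : IsPGroup 2 (S ⧸ Subgroup.center S) := hS.to_quotient _
  obtain ⟨π, hπ⟩ : ∃ π : S →* S ⧸ Subgroup.center S, π = QuotientGroup.mk' (Subgroup.center S) := ⟨_, rfl⟩
  have hπsurj : Function.Surjective π := hπ ▸ QuotientGroup.mk'_surjective _
  have hπker : ∀ g : S, π g = 1 ↔ g ∈ Subgroup.center S := by
    intro g; rw [hπ, QuotientGroup.mk'_apply, QuotientGroup.eq_one_iff]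
  have hx2 : x ^ 2 = 1 := by rw [← hx]; exact pow_orderOf_eq_one x
  have hxb : orderOf (π x) = 2 := by
    apply orderOf_eq_prime
    · rw [← map_pow, hx2, map_one]
    · intro h; exact hxZ ((hπker x).mp h)
  have hCb : Nat.card (Subgroup.centralizer ({π x} : Set (S ⧸ Subgroup.center S))) = 4 := by
    apply le_antisymm
    · rw [hπ]; exact card_centralizer_quotient_le x hC hZ
    · exact four_le_card_centralizer hQ2 hQ4 _
  have hncQ : ¬ IsCyclic (S ⧸ Subgroup.center S) := by
    intro hcyc
    apply hxZ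
    rw [Subgroup.mem_center_iff]
    intro g
    exact (MonoidHom.isMulCommutative_of_isCyclic_of_ker_le_center (QuotientGroup.mk' (Subgroup.center S))
      (by rw [QuotientGroup.ker_mk'])).is_comm.comm g x
  obtain ⟨ab, hab1, hab2⟩ := ih _ hQlt (S ⧸ Subgroup.center S) hQ2 rfl (π x) hxb hCb hncQ
  obtain ⟨a, rfl⟩ := hπsurj ab
  obtain ⟨m, hm⟩ : ∃ m, m = orderOf (π a) := ⟨_, rfl⟩
  rw [← hm] at hab1
  have hS4m : Nat.card S = 4 * m := by omega
  have hm2 : 2 ≤ m := by omega
  have hamZ : a ^ m ∈ Subgroup.center S := by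
    rw [← hπker, map_pow, hm, pow_orderOf_eq_one]
  have hxnot : ∀ c : S, (∃ k : ℤ, π c = π a ^ k) → x ∉ Subgroup.zpowers c := by
    intro c ⟨k, hk⟩ hmem
    rw [Subgroup.mem_zpowers_iff] at hmem
    obtain ⟨l, hl⟩ := hmem
    apply hab2
    rw [Subgroup.mem_zpowers_iff]
    refine ⟨k * l, ?_⟩
    rw [← hl, map_zpow, hk, zpow_mul]
  by_cases ha : a ^ m = 1
  swap
  · -- `a` has order `2m`
    have hsq : (a ^ m) ^ 2 = 1 := sq_eq_one_of_mem_center hZ _ hamZ
    have hd1 : orderOf a ∣ 2 * m := by
      apply orderOf_dvd_of_pow_eq_one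
      rw [mul_comm, pow_mul]; exact hsq
    have hd2 : m ∣ orderOf a := hm ▸ orderOf_map_dvd π a
    obtain ⟨t, ht⟩ := hd2
    have hmpos : 0 < m := by omega
    have htd : t ∣ 2 := by
      rw [ht] at hd1
      exact (Nat.mul_dvd_mul_iff_left hmpos).mp (by rwa [mul_comm 2 m] at hd1)
    have ht2 : t = 2 := by
      rcases (Nat.dvd_prime Nat.prime_two).mp htd with h | h
      · exfalso; apply ha
        have : orderOf a = m := by rw [ht, h, mul_one]
        rw [← this]; exact pow_orderOf_eq_one a
      · exact h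
    refine ⟨a, ?_, hxnot a ⟨1, by rw [zpow_one]⟩⟩
    rw [ht, ht2, hS4m]; ring
  · -- `a` has order `m`: impossible unless `m = 2`
    -- K = C ⊓ comap = Z
    have hKZ : ∀ g : S, g * x = x * g → (∃ k : ℤ, π g = π a ^ k) → g ∈ Subgroup.center S := by
      obtain ⟨K, hK⟩ : ∃ K : Subgroup S, K = Subgroup.centralizer ({x} : Set S) ⊓
        (Subgroup.zpowers (π a)).comap π := ⟨_, rfl⟩
      have hxK : x ∉ K := by
        rw [hK]; intro h; exact hab2 h.2
      have hKle : K ≤ Subgroup.centralizer ({x} : Set S) := hK ▸ inf_le_left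
      have hKlt : Nat.card K < 4 := by
        rw [← hC]
        rcases (Subgroup.card_le_of_le hKle).lt_or_eq with h | h
        · exact h
        · exfalso
          apply hxK
          rw [Subgroup.eq_of_le_of_card_ge hKle h.ge, Subgroup.mem_centralizer_singleton_iff]
      have hKdvd : Nat.card K ∣ 4 := hC ▸ Subgroup.card_dvd_of_le hKle
      have hK2 : Nat.card K ≤ 2 := by
        have hpos : 0 < Nat.card K := Nat.card_pos
        interval_cases h : Nat.card K <;> simp_all
      have hZK : Subgroup.center S ≤ K := by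
        rw [hK]
        intro g hg
        refine Subgroup.mem_inf.mpr ⟨?_, ?_⟩
        · rw [Subgroup.mem_centralizer_singleton_iff]
          exact ((Subgroup.mem_center_iff.mp hg) x).symm
        · rw [Subgroup.mem_comap, (hπker g).mpr hg]; exact Subgroup.one_mem _
      have hKeq : Subgroup.center S = K := Subgroup.eq_of_le_of_card_ge hZK (by rw [hZ]; exact hK2)
      intro g hg1 ⟨k, hk⟩
      rw [hKeq, hK]
      refine Subgroup.mem_inf.mpr ⟨?_, ?_⟩
      · rw [Subgroup.mem_centralizer_singleton_iff]; exact hg1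
      · rw [Subgroup.mem_comap, hk]; exact Subgroup.zpow_mem_zpowers _ _
    have hanZ : a ∉ Subgroup.center S := by
      intro h
      have : π a = 1 := (hπker a).mpr h
      rw [this, orderOf_one] at hm
      omega
    -- m is a power of two
    obtain ⟨kq, hkq⟩ := card_two_pow hQ2
    have hmdvd : m ∣ 2 ^ kq := by rw [← hkq, hm]; exact orderOf_dvd_natCard _
    obtain ⟨j, _, hj⟩ := (Nat.dvd_prime_pow Nat.prime_two).mp hmdvd
    by_cases hj1 : j = 1
    · -- m = 2, |S| = 8: take `x * a`
      have hm2' : m = 2 := by rw [hj, hj1]; norm_num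
      have hQ4' : Nat.card (S ⧸ Subgroup.center S) = 4 := by omega
      have hqsq : ∀ q : S ⧸ Subgroup.center S, q ^ 2 = 1 := by
        intro q
        have hdvd : orderOf q ∣ 2 ^ 2 := by
          have := orderOf_dvd_natCard q
          rw [hQ4'] at this
          exact this
        have hne4 : orderOf q ≠ 4 := fun h => hncQ (isCyclic_of_orderOf_eq_card q (h.trans hQ4'.symm))
        obtain ⟨i, hi, hoi⟩ := (Nat.dvd_prime_pow Nat.prime_two).mp hdvd
        have : orderOf q ∣ 2 := by
          rw [hoi]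
          have hi' : i = 0 ∨ i = 1 ∨ i = 2 := by omega
          rcases hi' with rfl | rfl | rfl
          · simp
          · simp
          · exfalso; apply hne4; rw [hoi]; norm_num
        exact orderOf_dvd_iff_pow_eq_one.mp this
      have hsqZ : (x * a) ^ 2 ∈ Subgroup.center S := by
        rw [← hπker, map_pow]; exact hqsq _
      have hsqne : (x * a) ^ 2 ≠ 1 := by
        intro h
        apply hanZ
        apply hKZ a _ ⟨1, by rw [zpow_one]⟩
        have ha2 : a ^ 2 = 1 := by rw [← hm2']; exact ha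
        have e1 : a * x = x⁻¹ * (x * a) ^ 2 * a⁻¹ := by
          rw [pow_two]; group
        have hxi : x⁻¹ = x := inv_eq_of_mul_eq_one_left (by rw [← pow_two]; exact hx2)
        have hai : a⁻¹ = a := inv_eq_of_mul_eq_one_left (by rw [← pow_two]; exact ha2)
        rw [e1, h, mul_one, hxi, hai]
      have ho : orderOf (x * a) = 2 ^ (1 + 1) := by
        apply orderOf_eq_prime_pow
        · simpa using hsqne
        · have := sq_eq_one_of_mem_center hZ _ hsqZ
          rw [← pow_mul] at this
          simpa using this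
      refine ⟨x * a, ?_, ?_⟩
      · rw [ho, hS4m, hm2']; norm_num
      · intro hmem
        rw [Subgroup.mem_zpowers_iff] at hmem
        obtain ⟨l, hl⟩ := hmem
        have hl' : (π x * π a) ^ l = π x := by rw [← map_mul, ← map_zpow, hl]
        have hq2 : (π x * π a) ^ (2 : ℤ) = 1 := by exact_mod_cast hqsq (π x * π a)
        rw [zpow_eq_zpow_emod l hq2] at hl'
        rcases Int.emod_two_eq_zero_or_one l with h0 | h1
        · rw [h0, zpow_zero] at hl'
          rw [← hl', orderOf_one] at hxb
          omega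
        · rw [h1, zpow_one] at hl'
          have : π a = 1 := by
            have := congrArg (fun q => (π x)⁻¹ * q) hl'
            simpa using this
          exact hanZ ((hπker a).mp this)
    · -- 4 ∣ m: contradiction
      exfalso
      have hj2 : 2 ≤ j := by
        rcases Nat.lt_or_ge j 1 with h | h
        · have : j = 0 := by omega
          rw [this] at hj; simp at hj; omega
        · omega
      obtain ⟨j', rfl⟩ : ∃ j', j = j' + 2 := ⟨j - 2, by omega⟩
      have hm4 : m = 4 * 2 ^ j' := by rw [hj, pow_add]; ring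
      -- conjugation of `a` by `x`
      have hidx : (Subgroup.zpowers (π a)).index = 2 := by
        have := Subgroup.card_mul_index (Subgroup.zpowers (π a))
        rw [Nat.card_zpowers, ← hm] at this
        have hmpos : 0 < m := by omega
        have h2 : m * (Subgroup.zpowers (π a)).index = m * 2 := by rw [this]; omega
        exact Nat.eq_of_mul_eq_mul_left hmpos h2
      have hnorm : (Subgroup.zpowers (π a)).Normal := Subgroup.normal_of_index_eq_two hidx
      have hconj : π x * π a * (π x)⁻¹ ∈ Subgroup.zpowers (π a) :=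
        hnorm.conj_mem _ (Subgroup.mem_zpowers _) _
      rw [Subgroup.mem_zpowers_iff] at hconj
      obtain ⟨k, hk⟩ := hconj
      -- ζ = x a x⁻¹ a^{-k} is central
      have hζ : x * a * x⁻¹ * (a ^ k)⁻¹ ∈ Subgroup.center S := by
        rw [← hπker]
        simp only [map_mul, map_inv, map_zpow]
        rw [← hk]; group
      have hζ2 := sq_eq_one_of_mem_center hZ _ hζ
      have hζc := Subgroup.mem_center_iff.mp hζ
      -- x a² x⁻¹ = a^(2k)
      have hconj2 : x * a ^ 2 * x⁻¹ = (a ^ k) ^ 2 := by
        have e1 : x * a ^ 2 * x⁻¹ = (x * a * x⁻¹) ^ 2 := by rw [conj_pow]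
        have e2 : x * a * x⁻¹ = (x * a * x⁻¹ * (a ^ k)⁻¹) * a ^ k := by group
        have hcm : Commute (x * a * x⁻¹ * (a ^ k)⁻¹) (a ^ k) := (hζc (a ^ k)).symm
        rw [e1, e2, hcm.mul_pow, hζ2, one_mul]
      -- b0 = a^(m/2) = (a²)^(2^j')
      have hb0 : a ^ (2 * 2 ^ j') = (a ^ 2) ^ (2 ^ j') := by rw [← pow_mul]
      have hconjb : x * a ^ (2 * 2 ^ j') * x⁻¹ = (a ^ (2 * 2 ^ j')) ^ k := by
        have e3 : x * a ^ (2 * 2 ^ j') * x⁻¹ = ((a ^ k) ^ 2) ^ (2 ^ j') := by
          rw [hb0, ← conj_pow, hconj2]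
        have e4 : ((a ^ k) ^ 2) ^ (2 ^ j') = a ^ (k * ((2 * 2 ^ j' : ℕ) : ℤ)) := by
          rw [← pow_mul, ← zpow_natCast, ← zpow_mul]
        have e5 : (a ^ (2 * 2 ^ j')) ^ k = a ^ (((2 * 2 ^ j' : ℕ) : ℤ) * k) := by
          rw [← zpow_natCast, ← zpow_mul]
        rw [e3, e4, e5, mul_comm]
      have hb0sq : (a ^ (2 * 2 ^ j')) ^ (2 : ℤ) = 1 := by
        have : (a ^ (2 * 2 ^ j')) ^ 2 = 1 := by
          rw [← pow_mul, ← ha, hm4]; congr 1; ring
        exact_mod_cast this
      have hcomm : a ^ (2 * 2 ^ j') * x = x * a ^ (2 * 2 ^ j') := by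
        rw [zpow_eq_zpow_emod k hb0sq] at hconjb
        rcases Int.emod_two_eq_zero_or_one k with h0 | h1
        · rw [h0, zpow_zero] at hconjb
          have : a ^ (2 * 2 ^ j') = 1 := by
            have := congrArg (fun g => x⁻¹ * g * x) hconjb
            simpa [mul_assoc] using this
          rw [this, one_mul, mul_one]
        · rw [h1, zpow_one] at hconjb
          have := congrArg (fun g => g * x) hconjb
          simpa [mul_assoc] using this.symm
      have hb0Z := hKZ _ hcomm ⟨((2 * 2 ^ j' : ℕ) : ℤ), by rw [map_pow, zpow_natCast]⟩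
      have : π a ^ (2 * 2 ^ j') = 1 := by rw [← map_pow]; exact (hπker _).mpr hb0Z
      have hdvd := orderOf_dvd_of_pow_eq_one this
      rw [← hm, hm4] at hdvd
      have hpos : 0 < 2 * 2 ^ j' := by positivity
      have := Nat.le_of_dvd hpos hdvd
      omega


theorem result {S : Type*} [Group S] [Finite S] (hS : IsPGroup 2 S)
    (x : S) (hx : orderOf x = 2) (hC : Nat.card ↥(Subgroup.centralizer ({x} : Set S)) = 4) :
    (∃ n : ℕ, Nonempty (S ≃* DihedralGroup n)) ∨ Cfsg.IsQuasiDihedral S ∨ Nat.card S = 4 := by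
  have h4 : 4 ≤ Nat.card S := hC ▸ Subgroup.card_le_card_group _
  obtain ⟨k, hk⟩ := card_two_pow hS
  by_cases h8 : 8 ≤ Nat.card S
  swap
  · right; right
    rw [hk] at h4 h8 ⊢
    have hk2 : k = 2 := by
      by_contra hcon
      rcases Nat.lt_or_ge k 2 with h | h
      · have : 2 ^ k ≤ 2 ^ 1 := Nat.pow_le_pow_right (by norm_num) (by omega)
        omega
      · have : 2 ^ 3 ≤ 2 ^ k := Nat.pow_le_pow_right (by norm_num) (by omega)
        omega
    rw [hk2]; norm_num
  obtain ⟨hxZ, hZ⟩ := setup hS x hC h8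
  have hnc : ¬ IsCyclic S := by
    intro hcyc
    apply hxZ
    rw [Subgroup.mem_center_iff]
    intro g
    exact (IsCyclic.isMulCommutative (α := S)).is_comm.comm g x
  obtain ⟨a, haN, hxa⟩ := good _ S hS rfl x hx hC hnc
  have hx2 : x ^ 2 = 1 := by rw [← hx]; exact pow_orderOf_eq_one x
  have hxi : x⁻¹ = x := inv_eq_of_mul_eq_one_left (by rw [← pow_two]; exact hx2)
  have hN4 : 4 ≤ orderOf a := by omega
  -- A = zpowers a is normal of index two
  have hidx : (Subgroup.zpowers a).index = 2 := by
    have := Subgroup.card_mul_index (Subgroup.zpowers a)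
    rw [Nat.card_zpowers] at this
    have hpos : 0 < orderOf a := orderOf_pos a
    have h2 : orderOf a * (Subgroup.zpowers a).index = orderOf a * 2 := by rw [this]; omega
    exact Nat.eq_of_mul_eq_mul_left hpos h2
  have hnorm : (Subgroup.zpowers a).Normal := Subgroup.normal_of_index_eq_two hidx
  have hconj : x * a * x⁻¹ ∈ Subgroup.zpowers a := hnorm.conj_mem _ (Subgroup.mem_zpowers _) _
  -- elements of A commuting with x have square one
  have hsq : ∀ g ∈ Subgroup.zpowers a, g * x = x * g → g ^ 2 = 1 := by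
    intro g hgA hgx
    obtain ⟨K, hK⟩ : ∃ K : Subgroup S, K = Subgroup.centralizer ({x} : Set S) ⊓ Subgroup.zpowers a := ⟨_, rfl⟩
    have hxK : x ∉ K := by rw [hK]; intro h; exact hxa h.2
    have hKle : K ≤ Subgroup.centralizer ({x} : Set S) := hK ▸ inf_le_left
    have hKlt : Nat.card K < 4 := by
      rw [← hC]
      rcases (Subgroup.card_le_of_le hKle).lt_or_eq with h | h
      · exact h
      · exfalso
        apply hxK
        rw [Subgroup.eq_of_le_of_card_ge hKle h.ge, Subgroup.mem_centralizer_singleton_iff]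
    have hKdvd : Nat.card K ∣ 2 ^ 2 := by
      have := Subgroup.card_dvd_of_le hKle
      rw [hC] at this; exact this
    obtain ⟨i, hi, hKi⟩ := (Nat.dvd_prime_pow Nat.prime_two).mp hKdvd
    have hK2 : Nat.card K ∣ 2 := by
      rw [hKi] at hKlt ⊢
      have hi' : i = 0 ∨ i = 1 ∨ i = 2 := by omega
      rcases hi' with rfl | rfl | rfl
      · simp
      · simp
      · norm_num at hKlt
    have hgK : g ∈ K := by
      rw [hK]
      exact Subgroup.mem_inf.mpr ⟨Subgroup.mem_centralizer_singleton_iff.mpr hgx, hgA⟩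
    have h1 := pow_card_eq_one' (G := K) (x := ⟨g, hgK⟩)
    have h2 : (⟨g, hgK⟩ : K) ^ 2 = 1 := by
      obtain ⟨t, ht⟩ := hK2
      rw [ht, pow_mul, h1, one_pow]
    exact congrArg Subtype.val h2
  -- c = x a x⁻¹ a
  have hcA : x * a * x⁻¹ * a ∈ Subgroup.zpowers a := Subgroup.mul_mem _ hconj (Subgroup.mem_zpowers _)
  have hcx : (x * a * x⁻¹ * a) * x = x * (x * a * x⁻¹ * a) := by
    obtain ⟨i, hi⟩ := Subgroup.mem_zpowers_iff.mp hconj
    have hcomm : a * (x * a * x⁻¹) = (x * a * x⁻¹) * a := by
      rw [← hi]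
      exact ((Commute.refl a).zpow_right i).eq
    have hxx : x * x = 1 := by rw [← pow_two]; exact hx2
    have e1 : x * (x * a * x⁻¹ * a) = (x * x) * (a * x⁻¹ * a) := by group
    have e2 : a * (x * a * x⁻¹) * x = a * x * a := by group
    have e3 : a * x⁻¹ * a = a * x * a := by rw [hxi]
    rw [e1, hxx, one_mul, ← hcomm, e2, e3]
  have hc2 := hsq _ hcA hcx
  -- c is 1 or a^(N/2)
  obtain ⟨i, hi⟩ := Subgroup.mem_zpowers_iff.mp hcA
  obtain ⟨N, hN⟩ : ∃ N, N = orderOf a := ⟨_, rfl⟩
  have hkpos : 1 ≤ k := by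
    by_contra h
    have : k = 0 := by omega
    rw [this] at hk; omega
  have hNk : N = 2 ^ (k - 1) := by
    have : 2 * N = 2 * 2 ^ (k - 1) := by
      rw [hN, haN, hk, ← pow_succ']
      congr 1; omega
    omega
  have hk3 : 3 ≤ k := by
    by_contra h
    have : 2 ^ k ≤ 2 ^ 2 := Nat.pow_le_pow_right (by norm_num) (by omega)
    omega
  obtain ⟨k', rfl⟩ : ∃ k', k = k' + 3 := ⟨k - 3, by omega⟩
  have hNk' : N = 2 * 2 ^ (k' + 1) := by
    rw [hNk]
    have : k' + 3 - 1 = (k' + 1) + 1 := by omega
    rw [this, pow_succ]; ring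
  -- w = a^(N/2)
  obtain ⟨w, hw⟩ : ∃ w, w = a ^ (2 ^ (k' + 1)) := ⟨_, rfl⟩
  have hw2 : w ^ (2 : ℤ) = 1 := by
    have : w ^ 2 = 1 := by
      rw [hw, ← pow_mul, mul_comm, ← hNk', hN, pow_orderOf_eq_one]
    exact_mod_cast this
  have hcw : x * a * x⁻¹ * a = 1 ∨ x * a * x⁻¹ * a = w := by
    have h2i : a ^ (i * 2) = 1 := by
      rw [zpow_mul, hi]; exact_mod_cast hc2
    have hdvd : (N : ℤ) ∣ i * 2 := by
      rw [hN]; exact orderOf_dvd_iff_zpow_eq_one.mpr h2i
    rw [hNk'] at hdvd
    have hdvd' : ((2 ^ (k' + 1) : ℕ) : ℤ) ∣ i := by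
      have h2 : ((2 * 2 ^ (k' + 1) : ℕ) : ℤ) = ((2 ^ (k' + 1) : ℕ) : ℤ) * 2 := by push_cast; ring
      rw [h2] at hdvd
      exact (mul_dvd_mul_iff_right (by norm_num : (2 : ℤ) ≠ 0)).mp hdvd
    obtain ⟨t, ht⟩ := hdvd'
    have hct : x * a * x⁻¹ * a = w ^ t := by
      rw [← hi, ht, zpow_mul, zpow_natCast, hw]
    rw [hct, zpow_eq_zpow_emod t hw2]
    rcases Int.emod_two_eq_zero_or_one t with h0 | h1
    · left; rw [h0, zpow_zero]
    · right; rw [h1, zpow_one]
  have hane : a ≠ 1 := by
    intro h; rw [h, orderOf_one] at hN4; omega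
  rcases hcw with hc1 | hcw
  · -- dihedral
    left
    have hinv : x * a * x⁻¹ = a⁻¹ := eq_inv_of_mul_eq_one_left hc1
    have hy2 : (x * a) ^ 2 = 1 := by
      have e : (x * a) ^ 2 = (x * a * x⁻¹) * a := by rw [pow_two, hxi]; group
      rw [e, hinv, inv_mul_cancel]
    have hyne : x * a ≠ 1 := by
      intro h
      apply hxa
      have : a = x⁻¹ := eq_inv_of_mul_eq_one_right h
      rw [this, hxi]; exact Subgroup.mem_zpowers x
    have hy : orderOf (x * a) = 2 := orderOf_eq_prime hy2 hyne
    have hxy : x ≠ x * a := by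
      intro h
      apply hane
      have := congrArg (fun g => x⁻¹ * g) h
      simpa using this.symm
    obtain ⟨e⟩ := Cfsg.Agent.S0206.result x (x * a) hx hy hxy
    have htop : Subgroup.closure ({x, x * a} : Set S) = ⊤ := by
      have hxm : x ∈ Subgroup.closure ({x, x * a} : Set S) := Subgroup.subset_closure (by simp)
      have hym : x * a ∈ Subgroup.closure ({x, x * a} : Set S) := Subgroup.subset_closure (by simp)
      have ham : a ∈ Subgroup.closure ({x, x * a} : Set S) := by
        have h := Subgroup.mul_mem _ (Subgroup.inv_mem _ hxm) hym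
        simpa using h
      have hle : Subgroup.zpowers a ≤ Subgroup.closure ({x, x * a} : Set S) := by
        rw [Subgroup.zpowers_le]; exact ham
      have hlt : Nat.card (Subgroup.zpowers a) < Nat.card (Subgroup.closure ({x, x * a} : Set S)) := by
        rcases (Subgroup.card_le_of_le hle).lt_or_eq with h | h
        · exact h
        · exfalso; apply hxa
          rw [Subgroup.eq_of_le_of_card_ge hle h.ge]; exact hxm
      rw [Nat.card_zpowers] at hlt
      have hdvd := Subgroup.card_subgroup_dvd_card (Subgroup.closure ({x, x * a} : Set S))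
      obtain ⟨t, ht⟩ := hdvd
      rw [← Subgroup.card_eq_iff_eq_top]
      have htpos : 0 < t := by
        rcases Nat.eq_zero_or_pos t with h | h
        · rw [h, mul_zero] at ht; omega
        · exact h
      have : t = 1 := by
        by_contra hne
        have h2 : 2 ≤ t := by omega
        have : Nat.card (Subgroup.closure ({x, x * a} : Set S)) * 2 ≤ Nat.card S := by
          rw [ht]; exact Nat.mul_le_mul_left _ h2
        omega
      rw [ht, this, mul_one]
    exact ⟨_, ⟨(Subgroup.topEquiv.symm.trans (MulEquiv.subgroupCongr htop.symm)).trans e⟩⟩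
  · -- quasi-dihedral
    right; left
    have hconj' : x * a * x⁻¹ = w * a⁻¹ := by
      rw [← hcw]; group
    -- N ≥ 8
    have hk'1 : 1 ≤ k' := by
      by_contra h
      have hk0 : k' = 0 := by omega
      subst hk0
      have hN4' : N = 4 := by rw [hNk']; norm_num
      have hwa : w = a ^ 2 := by rw [hw]; norm_num
      have : x * a * x⁻¹ = a := by
        rw [hconj', hwa, pow_two, mul_assoc, mul_inv_cancel, mul_one]
      have hax : a * x = x * a := by
        have := congrArg (fun g => g * x) this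
        simpa [mul_assoc] using this.symm
      have := hsq a (Subgroup.mem_zpowers a) hax
      have hd := orderOf_dvd_of_pow_eq_one this
      have := Nat.le_of_dvd (by norm_num) hd
      omega
    refine ⟨k' + 2, by omega, by rw [hk], a, x, ?_, hx, ?_⟩
    · rw [← hN, hNk', ← pow_succ']
    · rw [hxi] at hconj' ⊢
      rw [hconj', hw]
      have : k' + 2 - 1 = k' + 1 := by omega
      rw [this]
      have h1 : 2 ^ (k' + 1) = (2 ^ (k' + 1) - 1) + 1 := by
        have : 1 ≤ 2 ^ (k' + 1) := Nat.one_le_two_pow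
        omega
      conv_lhs => rw [h1, pow_succ, mul_assoc, mul_inv_cancel, mul_one]

end Cfsg.Agent.S3224
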