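import Mathlib
import Cfsg.Statements.S3247
import Cfsg.Agent.S0631
import Cfsg.Agent.S1327
import Cfsg.Agent.S1292

set_option autoImplicit false
open Cfsg

namespace Cfsg.Agent.S3247


section Part0

open Cfsg.Agent.H2

/-- a subgroup without elements of order `p` has order prime to `p` -/
theorem coprime_card_of_forall_orderOf {A : Type*} [Group A] [Finite A] {p : ℕ} [hp : Fact p.Prime]
    (M : Subgroup A) (h : ∀ a ∈ M, orderOf a = p → False) : (Nat.card M).Coprime p := by
  by_contra hc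
  have hdvd : p ∣ Nat.card M := by
    by_contra hnd
    exact hc ((Nat.Prime.coprime_iff_not_dvd hp.out).2 hnd).symm
  obtain ⟨a, ha⟩ := exists_prime_orderOf_dvd_card' (G := M) p hdvd
  exact h (a : A) a.2 (by rw [Subgroup.orderOf_coe]; exact ha)

/-- preimages of `p'`-subgroups under maps with `p'`-kernel are `p'`-subgroups -/
theorem comap_coprime {A B : Type*} [Group A] [Group B] [Finite A] {p : ℕ} [hp : Fact p.Prime]
    (f : A →* B) (hker : (Nat.card f.ker).Coprime p) (M : Subgroup B)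
    (hM : (Nat.card M).Coprime p) : (Nat.card (M.comap f)).Coprime p := by
  apply coprime_card_of_forall_orderOf
  intro a ha hao
  have hfa : f a ∈ M := ha
  have hpow : (f a) ^ p = 1 := by rw [← map_pow, ← hao, pow_orderOf_eq_one, map_one]
  have hdvd : orderOf (f a) ∣ p := orderOf_dvd_of_pow_eq_one hpow
  rcases (Nat.dvd_prime hp.out).1 hdvd with h1 | h1
  · have hfa1 : f a = 1 := orderOf_eq_one_iff.1 h1
    have hak : a ∈ f.ker := hfa1
    have h2 : orderOf (⟨a, hak⟩ : f.ker) ∣ Nat.card f.ker := orderOf_dvd_natCard _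
    rw [Subgroup.orderOf_mk, hao] at h2
    exact hp.out.one_lt.ne' (Nat.Coprime.eq_one_of_dvd hker.symm h2)
  · have h2 : orderOf (⟨f a, hfa⟩ : M) ∣ Nat.card M := orderOf_dvd_natCard _
    rw [Subgroup.orderOf_mk, h1] at h2
    exact hp.out.one_lt.ne' (Nat.Coprime.eq_one_of_dvd hM.symm h2)

theorem comap_pPrimeCore {A B : Type*} [Group A] [Group B] [Finite A] {p : ℕ} [hp : Fact p.Prime]
    (f : A →* B) (hf : Function.Surjective f) (hker : (Nat.card f.ker).Coprime p) :
    (Cfsg.pPrimeCore p B).comap f = Cfsg.pPrimeCore p A := by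
  haveI : Finite B := Finite.of_surjective f hf
  haveI hAn : (Cfsg.pPrimeCore p A).Normal := Cfsg.Agent.H1.pPrimeCore_normal p
  haveI hBn : (Cfsg.pPrimeCore p B).Normal := Cfsg.Agent.H1.pPrimeCore_normal p
  apply le_antisymm
  · apply Cfsg.Agent.H1.le_pPrimeCore (hBn.comap f)
    exact comap_coprime f hker _ (Cfsg.Agent.H1.pPrimeCore_coprime p)
  · rw [← Subgroup.map_le_iff_le_comap]
    apply Cfsg.Agent.H1.le_pPrimeCore (hAn.map f hf)
    exact Nat.Coprime.coprime_dvd_left (Subgroup.card_map_dvd _ f) (Cfsg.Agent.H1.pPrimeCore_coprime p)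

/-- `p`-constraint passes to homomorphic images modulo a normal `p'`-subgroup -/
theorem isPConstrained_of_surjective {A B : Type*} [Group A] [Group B] [Finite A] {p : ℕ}
    [hp : Fact p.Prime] (f : A →* B) (hf : Function.Surjective f)
    (hker : (Nat.card f.ker).Coprime p) (hA : Cfsg.IsPConstrained p A) : Cfsg.IsPConstrained p B := by
  haveI : Finite B := Finite.of_surjective f hf
  haveI hAn : (Cfsg.pPrimeCore p A).Normal := Cfsg.Agent.H1.pPrimeCore_normal p
  haveI hBn : (Cfsg.pPrimeCore p B).Normal := Cfsg.Agent.H1.pPrimeCore_normal p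
  set g : A →* B ⧸ Cfsg.pPrimeCore p B := (QuotientGroup.mk' (Cfsg.pPrimeCore p B)).comp f with hg
  have hgs : Function.Surjective g := (QuotientGroup.mk'_surjective _).comp hf
  have hgk : g.ker = Cfsg.pPrimeCore p A := by
    rw [hg, ← MonoidHom.comap_ker, QuotientGroup.ker_mk', comap_pPrimeCore f hf hker]
  let e : A ⧸ Cfsg.pPrimeCore p A ≃* B ⧸ Cfsg.pPrimeCore p B :=
    (QuotientGroup.quotientMulEquivOfEq hgk.symm).trans (QuotientGroup.quotientKerEquivOfSurjective g hgs)
  rw [Cfsg.Agent.S0630.isPConstrained_iff] at hA ⊢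
  exact Cfsg.Agent.S0630.transport e hA

theorem isPConstrained_of_mulEquiv {A B : Type*} [Group A] [Group B] [Finite A] {p : ℕ}
    [hp : Fact p.Prime] (e : A ≃* B) (hA : Cfsg.IsPConstrained p A) : Cfsg.IsPConstrained p B := by
  apply isPConstrained_of_surjective e.toMonoidHom e.surjective _ hA
  have : e.toMonoidHom.ker = ⊥ := (MonoidHom.ker_eq_bot_iff _).2 e.injective
  rw [this, Subgroup.card_bot]
  exact Nat.coprime_one_left p

end Part0

section Part1

open Cfsg.Agent.H2

/-- if `x ∈ O_p(Y)` and `C_Y(x)` is `p`-constrained then `Y` is `p`-constrained -/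
theorem key {Y : Type*} [Group Y] [Finite Y] {p : ℕ} [hp : Fact p.Prime] (x : Y)
    (hx : x ∈ Cfsg.pCore p Y)
    (hC : Cfsg.IsPConstrained p ↥(Subgroup.centralizer ({x} : Set Y))) : Cfsg.IsPConstrained p Y := by
  classical
  haveI hKn : (Cfsg.pPrimeCore p Y).Normal := Cfsg.Agent.H1.pPrimeCore_normal p
  have hKc : (Nat.card ↥(Cfsg.pPrimeCore p Y)).Coprime p := Cfsg.Agent.H1.pPrimeCore_coprime p
  rw [Cfsg.Agent.S0630.isPConstrained_iff]
  have hbot : Cfsg.pPrimeCore p (Y ⧸ Cfsg.pPrimeCore p Y) = ⊥ := pPrimeCore_quotient_eq_bot p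
  have hF := Cfsg.Agent.S1327.fittingSubgroup_eq_pCore_of_pPrimeCore_eq_bot p hbot
  rw [← hF, Cfsg.Agent.S1326.result, eq_bot_iff]
  apply layer_le_iff.2
  intro L hL
  exfalso
  set π := QuotientGroup.mk' (Cfsg.pPrimeCore p Y) with hπ
  haveI hRn : (Cfsg.pCore p (Y ⧸ Cfsg.pPrimeCore p Y)).Normal := Cfsg.Agent.H1.pCore_normal p
  have hRp : IsPGroup p ↥(Cfsg.pCore p (Y ⧸ Cfsg.pPrimeCore p Y)) := Cfsg.Agent.H1.pCore_isPGroup p
  haveI hQn : (Cfsg.pCore p Y).Normal := Cfsg.Agent.H1.pCore_normal p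
  have hQp : IsPGroup p ↥(Cfsg.pCore p Y) := Cfsg.Agent.H1.pCore_isPGroup p
  -- the image of x lies in O_p of the quotient
  have hxbar : π x ∈ Cfsg.pCore p (Y ⧸ Cfsg.pPrimeCore p Y) := by
    have h1 : (Cfsg.pCore p Y).map π ≤ Cfsg.pCore p (Y ⧸ Cfsg.pPrimeCore p Y) :=
      Cfsg.Agent.H1.le_pCore (hQn.map π (QuotientGroup.mk'_surjective _)) (hQp.map π)
    exact h1 (Subgroup.mem_map_of_mem _ hx)
  -- L centralizes O_p of the quotient
  have hsol : Group.IsSolvable ↥(Cfsg.pCore p (Y ⧸ Cfsg.pPrimeCore p Y)) := by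
    haveI : Group.IsNilpotent ↥(Cfsg.pCore p (Y ⧸ Cfsg.pPrimeCore p Y)) := hRp.isNilpotent
    infer_instance
  have hcomm := component_commutator_normal_solvable hL (Cfsg.pCore p (Y ⧸ Cfsg.pPrimeCore p Y)) hsol
  have hLC : L ≤ Subgroup.centralizer ({π x} : Set (Y ⧸ Cfsg.pPrimeCore p Y)) := by
    intro l hl
    rw [Subgroup.mem_centralizer_singleton_iff]
    have h1 : L ≤ Subgroup.centralizer ((Cfsg.pCore p (Y ⧸ Cfsg.pPrimeCore p Y) : Subgroup _) : Set _) :=
      Subgroup.commutator_eq_bot_iff_le_centralizer.1 hcomm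
    exact (Subgroup.mem_centralizer_iff.1 (h1 hl) _ hxbar).symm
  -- the map from C_Y(x) to the centralizer of its image
  set C := Subgroup.centralizer ({x} : Set Y) with hCdef
  set Cbar := Subgroup.centralizer ({π x} : Set (Y ⧸ Cfsg.pPrimeCore p Y)) with hCbar
  have hmem : ∀ c : ↥C, (π.comp C.subtype) c ∈ Cbar := by
    intro c
    rw [hCbar, Subgroup.mem_centralizer_singleton_iff]
    have hc := Subgroup.mem_centralizer_singleton_iff.1 c.2
    simp only [MonoidHom.comp_apply, Subgroup.coe_subtype]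
    rw [← map_mul, ← map_mul, hc]
  set f : ↥C →* ↥Cbar := (π.comp C.subtype).codRestrict Cbar hmem with hf
  have hfs : Function.Surjective f := by
    rintro ⟨ybar, hybar⟩
    obtain ⟨y, rfl⟩ := QuotientGroup.mk'_surjective _ ybar
    have hzp : IsPGroup p ↥(Subgroup.zpowers x) := by
      apply hQp.to_le
      rw [Subgroup.zpowers_le]; exact hx
    have hy2 : π y ∈ Subgroup.centralizer (((Subgroup.zpowers x).map π : Subgroup _) : Set _) := by
      rw [Subgroup.mem_centralizer_iff]
      rintro _ ⟨z, hz, rfl⟩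
      obtain ⟨k, rfl⟩ := Subgroup.mem_zpowers_iff.1 hz
      have h1 : π x * π y = π y * π x := (Subgroup.mem_centralizer_singleton_iff.1 hybar).symm
      rw [map_zpow]
      exact ((Commute.zpow_left (show Commute (π x) (π y) from h1) k).eq)
    obtain ⟨m, hm, hym⟩ := Cfsg.Agent.S1327.exists_lift_centralizer p (Cfsg.pPrimeCore p Y) hKc _ hzp y hy2
    have hymC : y * m ∈ C := by
      rw [hCdef, Subgroup.mem_centralizer_singleton_iff]
      exact (Subgroup.mem_centralizer_iff.1 hym x (Subgroup.mem_zpowers x)).symm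
    refine ⟨⟨y * m, hymC⟩, ?_⟩
    apply Subtype.ext
    rw [hf, MonoidHom.codRestrict_apply]
    simp only [MonoidHom.comp_apply, Subgroup.coe_subtype]
    rw [map_mul]
    have : π m = 1 := (QuotientGroup.eq_one_iff m).2 hm
    rw [this, mul_one]
  have hfk : (Nat.card f.ker).Coprime p := by
    apply coprime_card_of_forall_orderOf
    intro a ha hao
    have h1 : π (a : Y) = 1 := by
      have := congrArg Subtype.val (MonoidHom.mem_ker.1 ha)
      simpa [hf] using this
    have haK : (a : Y) ∈ Cfsg.pPrimeCore p Y := (QuotientGroup.eq_one_iff _).1 h1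
    have h2 : orderOf (⟨(a : Y), haK⟩ : ↥(Cfsg.pPrimeCore p Y)) ∣ Nat.card ↥(Cfsg.pPrimeCore p Y) :=
      orderOf_dvd_natCard _
    rw [Subgroup.orderOf_mk, Subgroup.orderOf_coe, hao] at h2
    exact hp.out.one_lt.ne' (Nat.Coprime.eq_one_of_dvd hKc.symm h2)
  have hCbarc : Cfsg.IsPConstrained p ↥Cbar := isPConstrained_of_surjective f hfs hfk hC
  -- L is a component of Cbar
  have hL' : Cfsg.IsComponent (L.subgroupOf Cbar) := component_subgroupOf hL hLC
  -- the layer of Cbar / O_{p'}(Cbar) is trivial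
  haveI hDn : (Cfsg.pPrimeCore p ↥Cbar).Normal := Cfsg.Agent.H1.pPrimeCore_normal p
  have hlay : Cfsg.layer (↥Cbar ⧸ Cfsg.pPrimeCore p ↥Cbar) = ⊥ := by
    have h1 := Cfsg.Agent.S0630.isPConstrained_iff.1 hCbarc
    have hbot' : Cfsg.pPrimeCore p (↥Cbar ⧸ Cfsg.pPrimeCore p ↥Cbar) = ⊥ := pPrimeCore_quotient_eq_bot p
    have hF' := Cfsg.Agent.S1327.fittingSubgroup_eq_pCore_of_pPrimeCore_eq_bot p hbot'
    rw [← hF', Cfsg.Agent.S1326.result] at h1
    exact h1
  rcases component_map_mk' (Cfsg.pPrimeCore p ↥Cbar) hL' with h | h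
  · -- L is a p'-group: contradiction
    have h1 : (Nat.card ↥(L.subgroupOf Cbar)).Coprime p :=
      Nat.Coprime.coprime_dvd_left (Subgroup.card_dvd_of_le h) (Cfsg.Agent.H1.pPrimeCore_coprime p)
    have h2 : Nat.card ↥(L.subgroupOf Cbar) = Nat.card ↥L :=
      Nat.card_congr (Subgroup.subgroupOfEquivOfLe hLC).toEquiv
    rw [h2] at h1
    exact component_not_coprime p hbot hL h1
  · have h1 := component_le_layer h
    rw [hlay, le_bot_iff] at h1
    exact quasisimple_ne_bot h.2 h1

end Part1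

section Part2

open Cfsg.Agent.H2

/-- local subgroups of a `p`-constrained subgroup `M` -/
theorem local_of_constrained {G : Type*} [Group G] [Finite G] (p : ℕ) [hp : Fact p.Prime]
    (M : Subgroup G) (hM : Cfsg.IsPConstrained p ↥M) (T : Subgroup G) (hT : IsPGroup p ↥T) (hTM : T ≤ M)
    (H : Subgroup G) (hHM : H ≤ M) (hCH : Subgroup.centralizer (T : Set G) ⊓ M ≤ H)
    (hHN : H ≤ Subgroup.normalizer (T : Set G)) (hTH : T ≤ H) : Cfsg.IsPConstrained p ↥H := by
  have h1 : Cfsg.IsPConstrained p ↥(H.subgroupOf M) := by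
    apply Cfsg.Agent.S0631.thmT hM (T.subgroupOf M) (H.subgroupOf M) hT.comap_subtype
    · intro c hc
      rw [Subgroup.mem_subgroupOf]
      apply hCH
      refine Subgroup.mem_inf.2 ⟨?_, c.2⟩
      rw [Subgroup.mem_centralizer_iff]
      intro t ht
      have := Subgroup.mem_centralizer_iff.1 hc ⟨t, hTM ht⟩ (Subgroup.mem_subgroupOf.2 ht)
      exact congrArg Subtype.val this
    · intro c hc
      rw [Subgroup.mem_subgroupOf] at hc
      have hn := hHN hc
      rw [Subgroup.mem_normalizer_iff] at hn ⊢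
      intro h
      rw [Subgroup.mem_subgroupOf, Subgroup.mem_subgroupOf]
      exact hn (h : G)
    · left
      exact Subgroup.comap_mono hTH
  exact isPConstrained_of_mulEquiv (Subgroup.subgroupOfEquivOfLe hHM) h1

/-- a nontrivial `p`-group has a central element of order `p` -/
theorem exists_central_order_p {G : Type*} [Group G] [Finite G] (p : ℕ) [hp : Fact p.Prime]
    (T : Subgroup G) (hT : IsPGroup p ↥T) (hT1 : T ≠ ⊥) :
    ∃ x : G, x ∈ T ∧ orderOf x = p ∧ ∀ t ∈ T, t * x = x * t := by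
  have hTnt : Nontrivial T := (Subgroup.nontrivial_iff_ne_bot T).2 hT1
  have hZnt : Nontrivial (Subgroup.center T) := hT.center_nontrivial
  have hZ2 : IsPGroup p (Subgroup.center T) := hT.to_subgroup _
  obtain ⟨z, hz⟩ : ∃ z : Subgroup.center T, orderOf z = p := by
    obtain ⟨n, hn⟩ := IsPGroup.iff_card.1 hZ2
    have hn0 : n ≠ 0 := by
      rintro rfl
      have : Nat.card (Subgroup.center T) = 1 := by simpa using hn
      have := (Nat.card_eq_one_iff_unique.1 this).1
      exact not_subsingleton _ this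
    have hdvd : p ∣ Nat.card (Subgroup.center T) := by rw [hn]; exact dvd_pow_self p hn0
    exact exists_prime_orderOf_dvd_card' p hdvd
  refine ⟨((z : T) : G), (z : T).2, ?_, ?_⟩
  · rw [Subgroup.orderOf_coe, Subgroup.orderOf_coe, hz]
  · intro t ht
    have := Subgroup.mem_center_iff.1 z.2 ⟨t, ht⟩
    exact congrArg Subtype.val this

theorem result {G : Type*} [Group G] [Finite G] (p : ℕ) [hp : Fact p.Prime]
    (h : (∀ M : Subgroup G, (∃ T : Subgroup G, IsPGroup p ↥T ∧ T ≠ ⊥ ∧ M = Subgroup.normalizer (T : Set G)) → M ≠ ⊤ →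
        (∀ M' : Subgroup G, (∃ T' : Subgroup G, IsPGroup p ↥T' ∧ T' ≠ ⊥ ∧ M' = Subgroup.normalizer (T' : Set G)) → M' ≠ ⊤ → M ≤ M' → M = M') →
        Cfsg.IsPConstrained p ↥M) ∨
      (∀ x : G, orderOf x = p → Cfsg.IsPConstrained p ↥(Subgroup.centralizer ({x} : Set G))))
    (T : Subgroup G) (hT : IsPGroup p ↥T) (hT1 : T ≠ ⊥) (hTG : Subgroup.normalizer (T : Set G) ≠ ⊤) :
    Cfsg.IsPConstrained p ↥(Subgroup.normalizer (T : Set G)) := by
  classical
  rcases h with h | h
  · -- a maximal p-local above N(T)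
    set N := Subgroup.normalizer (T : Set G) with hN
    let P : Subgroup G → Prop := fun M =>
      (∃ T' : Subgroup G, IsPGroup p ↥T' ∧ T' ≠ ⊥ ∧ M = Subgroup.normalizer (T' : Set G)) ∧ M ≠ ⊤
    have hPN : P N := ⟨⟨T, hT, hT1, rfl⟩, hTG⟩
    obtain ⟨M, hNM, hMmax⟩ := Finite.exists_le_maximal (p := P) hPN
    have hMc : Cfsg.IsPConstrained p ↥M := by
      apply h M hMmax.1.1 hMmax.1.2
      intro M' hM' hM'top hMM'
      exact le_antisymm hMM' (hMmax.2 ⟨hM', hM'top⟩ hMM')
    exact local_of_constrained p M hMc T hT (Subgroup.le_normalizer.trans hNM) N hNM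
      (inf_le_left.trans (Subgroup.centralizer_le_normalizer _)) le_rfl Subgroup.le_normalizer
  · obtain ⟨x, hxT, hxo, hxc⟩ := exists_central_order_p p T hT hT1
    set N := Subgroup.normalizer (T : Set G) with hN
    set C := Subgroup.centralizer ({x} : Set G) with hC
    have hTC : T ≤ C := by
      intro t ht
      rw [hC, Subgroup.mem_centralizer_singleton_iff]
      exact hxc t ht
    have hTN : T ≤ N := Subgroup.le_normalizer
    have h1 : Cfsg.IsPConstrained p ↥(C ⊓ N) :=
      local_of_constrained p C (h x hxo) T hT hTC (C ⊓ N) inf_le_left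
        (by
          rw [inf_comm]
          exact inf_le_inf_left _ (Subgroup.centralizer_le_normalizer _))
        inf_le_right (le_inf hTC hTN)
    have hxN : x ∈ N := hTN hxT
    have heq : Subgroup.centralizer ({(⟨x, hxN⟩ : ↥N)} : Set ↥N) = C.subgroupOf N := by
      ext c
      rw [Subgroup.mem_centralizer_singleton_iff, Subgroup.mem_subgroupOf, hC,
        Subgroup.mem_centralizer_singleton_iff]
      constructor
      · intro hc; exact congrArg Subtype.val hc
      · intro hc; exact Subtype.ext hc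
    apply key (⟨x, hxN⟩ : ↥N)
    · have hTn : (T.subgroupOf N).Normal :=
        (Subgroup.normal_subgroupOf_iff_le_normalizer hTN).2 le_rfl
      have hle : T.subgroupOf N ≤ Cfsg.pCore p ↥N := Cfsg.Agent.H1.le_pCore hTn hT.comap_subtype
      exact hle (Subgroup.mem_subgroupOf.2 hxT)
    · rw [heq]
      have e := Subgroup.subgroupOfEquivOfLe (inf_le_right : C ⊓ N ≤ N)
      rw [Subgroup.inf_subgroupOf_right] at e
      exact isPConstrained_of_mulEquiv e.symm h1

end Part2

end Cfsg.Agent.S3247
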