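import Cfsg.Statements.S3261
import Cfsg.Agent.S3035
import Cfsg.Agent.S0255
import Cfsg.Agent.Lib.Lead.PiCore
import Cfsg.Agent.Lib.Helper5.D8Cent.CaseC
import Cfsg.Agent.Lib.Helper5.D8Cor.A6Cent
import Cfsg.Agent.Lib.Helper5.D8Cor.IndexTwo

set_option autoImplicit false
open Cfsg

namespace Cfsg.Agent.S3261

/-- Let α̃ be an involution of the alternating group A₆ that is a product of two disjoint transpositions (it lies in the centre of a Sylow 2-subgroup of A₆; its centralizer is dihedral of order 8). Let G be a finite group that has no subgroup of index 2 and contains an involution α, central in some Sylow 2-subgroup of G, with C_G(α) ≅ C_{A₆}(α̃). Then G is isomorphic to A₆ or to PSL₂(7). -/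
theorem result {G : Type*} [Group G] [Finite G]
    (hG : ∀ H : Subgroup G, H.index ≠ 2)
    (αt : ↥(alternatingGroup (Fin 6))) (hαt : orderOf αt = 2) (hsupp : (αt : Equiv.Perm (Fin 6)).support.card = 4)
    (α : G) (hα : orderOf α = 2) (S : Sylow 2 G) (hαS : α ∈ (S : Subgroup G)) (hαc : ∀ s ∈ (S : Subgroup G), s * α = α * s)
    (e : ↥(Subgroup.centralizer ({α} : Set G)) ≃* ↥(Subgroup.centralizer ({αt} : Set ↥(alternatingGroup (Fin 6))))) :
    Nonempty (G ≃* ↥(alternatingGroup (Fin 6))) ∨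
      (∃ (F : Type) (_ : Field F) (_ : Fintype F), Fintype.card F = 7 ∧ Nonempty (G ≃* Matrix.ProjectiveSpecialLinearGroup (Fin 2) F)) := by
  obtain ⟨d⟩ := Cfsg.Agent.Lib.Helper5.D8Cor.a6_cent_dihedral αt hαt
  have hC : Nonempty (↥(Subgroup.centralizer ({α} : Set G)) ≃* DihedralGroup 4) := ⟨e.trans d.symm⟩
  rcases Cfsg.Agent.S3035.result α hα hC with h | ⟨⟨f⟩⟩ | ⟨⟨f⟩⟩ | ⟨⟨f⟩⟩ | h
  · exfalso
    haveI hOn : (Cfsg.oddCore G).Normal := Cfsg.Agent.Lib.Lead.PiCore.pPrimeCore_normal 2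
    have hOc : (Nat.card ↥(Cfsg.oddCore G)).Coprime 2 :=
      Cfsg.Agent.Lib.Lead.PiCore.pPrimeCore_coprime Nat.prime_two
    have hcardC : Nat.card ↥(Subgroup.centralizer ({α} : Set G)) = 8 := by
      rw [Nat.card_congr (e.trans d.symm).toEquiv, DihedralGroup.nat_card]
    have h1 := Cfsg.Agent.Lib.Lead.PiCore.card_sup_dvd (Subgroup.centralizer ({α} : Set G))
      (Cfsg.oddCore G)
    rw [h, Subgroup.card_top, hcardC] at h1
    have h2 := Subgroup.card_eq_card_quotient_mul_card_subgroup (Cfsg.oddCore G)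
    have hOpos : 0 < Nat.card ↥(Cfsg.oddCore G) := Nat.card_pos
    have hd : Nat.card (G ⧸ Cfsg.oddCore G) ∣ 8 := by
      rw [h2] at h1
      exact Nat.dvd_of_mul_dvd_mul_right hOpos h1
    have hne : Nat.card (G ⧸ Cfsg.oddCore G) ≠ 1 := by
      intro h3
      rw [h3, one_mul] at h2
      have h4 : 2 ∣ Nat.card G := by rw [← hα]; exact orderOf_dvd_natCard α
      rw [h2] at h4
      have := Nat.Coprime.eq_one_of_dvd hOc.symm h4
      omega
    obtain ⟨K, hK⟩ := Cfsg.Agent.Lib.Helper5.D8Cor.exists_index_two_of_two_group hd hne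
    apply hG (K.comap (QuotientGroup.mk' (Cfsg.oddCore G)))
    rw [Subgroup.index_comap_of_surjective _ (QuotientGroup.mk'_surjective _)]
    exact hK
  · exfalso
    obtain ⟨H, hH⟩ := Cfsg.Agent.Lib.Helper5.D8Cor.exists_index_two_of_perm 4 f
    exact hG H hH
  · exfalso
    obtain ⟨H, hH⟩ := Cfsg.Agent.Lib.Helper5.D8Cor.exists_index_two_of_perm 5 f
    exact hG H hH
  · right
    haveI : Fact (Nat.Prime 7) := ⟨by norm_num⟩
    haveI : Fact (Nat.Prime 2) := ⟨Nat.prime_two⟩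
    obtain ⟨e2⟩ := Cfsg.Agent.S0255.result (F := ZMod 7) (K := ZMod 2) (ZMod.card 7) (ZMod.card 2)
    exact ⟨ZMod 7, inferInstance, inferInstance, ZMod.card 7,
      ⟨(f.trans Cfsg.Agent.Lib.Helper5.D8Cent.psl32Equiv.symm).trans e2.symm⟩⟩
  · left
    exact h

end Cfsg.Agent.S3261
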