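import Cfsg.Statements.S3265
import Cfsg.Agent.Lib.S3265.Main
import Cfsg.Agent.Lib.S3265.Graph
import Cfsg.Agent.Lib.S3265.NonAdj

set_option autoImplicit false
open Cfsg

namespace Cfsg.Agent.S3265

open Equiv Equiv.Perm Cfsg.Agent.S3265L in
/-- conjugate permutations have equally many fixed points -/
theorem bal_of_isConj (n : ℕ) (x y : Perm (Fin n)) (h : IsConj x y) : Bal x y Finset.univ := by
  unfold Bal
  obtain ⟨c, hc⟩ := isConj_iff.1 h
  apply Finset.card_bij (fun a _ => c a)
  · intro a ha
    rw [Finset.mem_filter] at ha ⊢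
    refine ⟨Finset.mem_univ _, ?_⟩
    rw [← hc]
    simp [ha.2]
  · intro a _ b _ hab
    exact c.injective hab
  · intro b hb
    rw [Finset.mem_filter] at hb
    refine ⟨c⁻¹ b, ?_, by simp⟩
    rw [Finset.mem_filter]
    refine ⟨Finset.mem_univ _, ?_⟩
    have := hb.2
    rw [← hc] at this
    simp only [Perm.mul_apply] at this
    have h2 := congrArg (fun w => c⁻¹ w) this
    simpa using h2

/-- Let n ≥ 5 and let X be a conjugacy class of involutions of the symmetric group of degree n. The graph on X joining two distinct involutions whose product has odd order is connected and has diameter exactly 2. -/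
theorem result (n : ℕ) (hn : 5 ≤ n) (t : Equiv.Perm (Fin n)) (ht : orderOf t = 2) :
    (SimpleGraph.fromRel fun x y : {x : Equiv.Perm (Fin n) // IsConj t x} =>
        Odd (orderOf (x.1 * y.1))).Connected ∧
      (SimpleGraph.fromRel fun x y : {x : Equiv.Perm (Fin n) // IsConj t x} =>
        Odd (orderOf (x.1 * y.1))).diam = 2 := by
  have ht2 : t * t = 1 := by rw [← pow_two, ← ht]; exact pow_orderOf_eq_one t
  apply Cfsg.Agent.S3265L.graph_glue n t _ (Cfsg.Agent.S3265L.exists_nonadj n hn t ht)
  intro x y hxc hyc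
  have hx : x * x = 1 := by
    obtain ⟨c, hc⟩ := isConj_iff.1 hxc
    have e : c * t * c⁻¹ * (c * t * c⁻¹) = c * (t * t) * c⁻¹ := by group
    rw [← hc, e, ht2]; group
  have hy : y * y = 1 := by
    obtain ⟨c, hc⟩ := isConj_iff.1 hyc
    have e : c * t * c⁻¹ * (c * t * c⁻¹) = c * (t * t) * c⁻¹ := by group
    rw [← hc, e, ht2]; group
  have hbal : Cfsg.Agent.S3265L.Bal x y Finset.univ := bal_of_isConj n x y (hxc.symm.trans hyc)
  obtain ⟨z, hz, h1, h2⟩ := Cfsg.Agent.S3265L.key (by simpa using hn) x y hx hy hbal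
  exact ⟨z, hxc.trans (Cfsg.Agent.S3265L.isConj_of_odd x z hx hz h1), h1, h2⟩

end Cfsg.Agent.S3265
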