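import Cfsg.Statements.S3266
import Cfsg.Agent.Lib.Helper5.OddGraph.Core
import Cfsg.Agent.Lib.Helper7.InvGraph2
import Cfsg.Agent.Lib.Helper7.InvGraph3

set_option autoImplicit false
open Cfsg

namespace Cfsg.Agent.S3266

/-- Let F be a finite field with at least 4 elements and let X be a conjugacy class of involutions of PSL(2, F). The graph on X joining two distinct involutions whose product has odd order is connected and has diameter exactly 2. -/
theorem result {F : Type*} [Field F] [Fintype F] (hF : 4 ≤ Fintype.card F)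
    (t : Matrix.ProjectiveSpecialLinearGroup (Fin 2) F) (ht : orderOf t = 2) :
    (SimpleGraph.fromRel fun x y : {x : Matrix.ProjectiveSpecialLinearGroup (Fin 2) F // IsConj t x} =>
        Odd (orderOf (x.1 * y.1))).Connected ∧
      (SimpleGraph.fromRel fun x y : {x : Matrix.ProjectiveSpecialLinearGroup (Fin 2) F // IsConj t x} =>
        Odd (orderOf (x.1 * y.1))).diam = 2 := by
  haveI := Cfsg.Agent.Lib.Helper5.OddGraph.finite_psl2 (F := F)
  have ht2 : t * t = 1 := by
    have := pow_orderOf_eq_one t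
    rwa [ht, pow_two] at this
  by_cases h2 : (2 : F) = 0
  · obtain ⟨hL, hN⟩ := Cfsg.Agent.Lib.Helper7.InvGraph2.char_two h2 hF t ht
    apply Cfsg.Agent.Lib.Helper5.OddGraph.glue t ht2
    · intro x y hx hy hne hno
      obtain ⟨w, hw, -, -, h1, h2'⟩ := hL x y hx hy hne hno
      exact ⟨w, hw, h1, h2'⟩
    · obtain ⟨x, y, hx, hy, hne, hno, -⟩ := hN
      exact ⟨x, y, hx, hy, hne, hno⟩
  · obtain ⟨hL, hN⟩ := Cfsg.Agent.Lib.Helper5.OddGraph.odd_case h2
      (fun hneg τ hτ => Cfsg.Agent.Lib.Helper7.InvGraph3.exists_split_pair h2 hF hneg τ hτ) t ht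
    exact Cfsg.Agent.Lib.Helper5.OddGraph.glue t ht2 hL hN

end Cfsg.Agent.S3266
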