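import Cfsg.Statements.S3269
import Cfsg.Agent.S0215
import Cfsg.Agent.Lib.Helper5.Grp.QuatDirect

set_option autoImplicit false
open Cfsg

namespace Cfsg.Agent.S3269

/-- Let G be a finite group whose Sylow 2-subgroup S is an internal direct product Q × R with Q generalized quaternion (of order at least 8) and R a subgroup all of whose involutions are central in R. Then G is not simple. In particular no finite simple group has a Sylow 2-subgroup that is a direct product of one or more generalized quaternion groups. -/
theorem result {G : Type*} [Group G] [Finite G]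
    (S : Sylow 2 G) (Q R : Subgroup G) (hQR : Cfsg.IsInternalDirectProduct Q R (S : Subgroup G))
    (n : ℕ) (hn : 1 ≤ n) (eQ : ↥Q ≃* QuaternionGroup (2 ^ n))
    (hR : ∀ r ∈ R, orderOf r = 2 → ∀ s ∈ R, r * s = s * r) :
    ¬ IsSimpleGroup G := by
  classical
  intro hsimple
  obtain ⟨hQS, hRS, hcomm, hinf, hsup⟩ := hQR
  have hm : 2 ≤ 2 ^ n := by
    calc 2 = 2 ^ 1 := by norm_num
      _ ≤ 2 ^ n := Nat.pow_le_pow_right (by norm_num) hn
  obtain ⟨u, hu2, huS, hiso, x, y, hxy⟩ :=
    Cfsg.Agent.Lib.Helper5.QDir.exists_isolated S Q R hQS hRS hcomm hinf hsup (2 ^ n) hm eQ hR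
  obtain ⟨N, hNn, hNodd, hN⟩ := Cfsg.Agent.S0215.result S u hu2 huS hiso
  have hu1 : u ≠ 1 := by
    intro h
    rw [h, orderOf_one] at hu2
    norm_num at hu2
  rcases hNn.eq_bot_or_eq_top with h | h
  · -- u is central
    have hc : u ∈ Subgroup.center G := by
      rw [Subgroup.mem_center_iff]
      intro g
      have h1 := hN g
      rw [h, Subgroup.mem_bot] at h1
      have h2 : u * g * u⁻¹ = g := mul_inv_eq_one.mp h1
      calc g * u = (u * g * u⁻¹) * u := by rw [h2]
        _ = u * g := by group
    have hcn : Subgroup.center G ≠ ⊥ := by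
      intro hb
      rw [hb, Subgroup.mem_bot] at hc
      exact hu1 hc
    have hct : Subgroup.center G = ⊤ :=
      ((Subgroup.center G).normal_of_characteristic.eq_bot_or_eq_top).resolve_left hcn
    apply hxy
    have hyc : y ∈ Subgroup.center G := by rw [hct]; exact Subgroup.mem_top y
    rw [Subgroup.mem_center_iff] at hyc
    exact hyc x
  · -- |G| would be odd
    have h1 : Odd (Nat.card G) := by
      rw [h, Subgroup.card_top] at hNodd
      exact hNodd
    have h2 : 2 ∣ Nat.card G := by
      rw [← hu2]
      exact orderOf_dvd_natCard u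
    exact (Nat.not_even_iff_odd.mpr h1) (even_iff_two_dvd.mpr h2)

end Cfsg.Agent.S3269
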