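import Mathlib
import Cfsg.Statements.S3276

set_option autoImplicit false
open Cfsg

namespace Cfsg.Agent.S3276

section
variable {G : Type*} [Group G]

theorem invol_sq {x : G} (hx : orderOf x = 2) : x * x = 1 := by
  have := pow_orderOf_eq_one x
  rwa [hx, pow_two] at this

theorem invol_inv {x : G} (hx : orderOf x = 2) : x⁻¹ = x :=
  inv_eq_of_mul_eq_one_left (invol_sq hx)

theorem invol_ne_one {x : G} (hx : orderOf x = 2) : x ≠ 1 := by
  intro h; rw [h, orderOf_one] at hx; norm_num at hx

/-- `x` inverts `x * y`. -/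
theorem conj_prod {x y : G} (hx : orderOf x = 2) (hy : orderOf y = 2) :
    x * (x * y) * x⁻¹ = (x * y)⁻¹ := by
  rw [mul_inv_rev, invol_inv hx, invol_inv hy, ← mul_assoc, invol_sq hx, one_mul]

theorem conj_prod' {x y : G} (hx : orderOf x = 2) (hy : orderOf y = 2) :
    y * (x * y) * y⁻¹ = (x * y)⁻¹ := by
  rw [mul_inv_rev, invol_inv hx, invol_inv hy, mul_assoc, mul_assoc, invol_sq hy, mul_one]

/-- Two non-conjugate involutions in a finite group commute with a common involution which is a power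
of their product. -/
theorem exists_central_invol [Finite G] {x y : G} (hx : orderOf x = 2) (hy : orderOf y = 2)
    (hnc : ¬ IsConj x y) :
    ∃ u : G, orderOf u = 2 ∧ Commute u x ∧ Commute y u := by
  set d := x * y with hd
  set m := orderOf d with hm
  have hmpos : 0 < m := orderOf_pos d
  have hxd : ∀ j : ℕ, x * d ^ j * x⁻¹ = (d ^ j)⁻¹ := by
    intro j
    rw [← conj_pow, conj_prod hx hy, inv_pow]
  have hyd : ∀ j : ℕ, y * d ^ j * y⁻¹ = (d ^ j)⁻¹ := by
    intro j
    rw [← conj_pow, conj_prod' hx hy, inv_pow]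
  -- m is even
  have heven : Even m := by
    by_contra hodd
    rw [Nat.not_even_iff_odd] at hodd
    obtain ⟨j, hj⟩ := hodd
    apply hnc
    rw [isConj_iff]
    refine ⟨x * (d ^ j)⁻¹, ?_⟩
    have h1 : (d ^ j)⁻¹ * x = x * d ^ j := by
      have := hxd j
      rw [← this, invol_inv hx]; simp [mul_assoc, invol_sq hx]
    have h3 : d ^ (2 * j + 1) = 1 := by rw [← hj]; exact pow_orderOf_eq_one d
    have h4 : d ^ (2 * j) = d⁻¹ := by
      rw [pow_succ] at h3
      exact eq_inv_of_mul_eq_one_left h3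
    calc x * (d ^ j)⁻¹ * x * (x * (d ^ j)⁻¹)⁻¹ = x * ((d ^ j)⁻¹ * x) * d ^ j * x⁻¹ := by group
      _ = x * (x * d ^ j) * d ^ j * x⁻¹ := by rw [h1]
      _ = (x * x) * d ^ (2 * j) * x⁻¹ := by rw [two_mul, pow_add]; group
      _ = d⁻¹ * x := by rw [invol_sq hx, one_mul, h4, invol_inv hx]
      _ = y := by
          rw [hd, mul_inv_rev, invol_inv hx, invol_inv hy, mul_assoc, invol_sq hx, mul_one]
  obtain ⟨j, hj⟩ := heven
  have hj' : m / 2 = j := by omega
  have h2m : 2 ∣ m := ⟨j, by omega⟩
  have hu : orderOf (d ^ j) = 2 := by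
    rw [← hj']
    exact orderOf_pow_orderOf_div hmpos.ne' h2m
  refine ⟨d ^ j, hu, ?_, ?_⟩
  · -- d^j commutes with x
    have := hxd j
    rw [invol_inv hu] at this
    show d ^ j * x = x * d ^ j
    calc d ^ j * x = (x * d ^ j * x⁻¹) * x := by rw [this]
      _ = x * d ^ j := by group
  · have := hyd j
    rw [invol_inv hu] at this
    show y * d ^ j = d ^ j * y
    calc y * d ^ j = (y * d ^ j * y⁻¹) * y := by group
      _ = d ^ j * y := by rw [this]

end

theorem result {G : Type*} [Group G] [Finite G] (x y : G) (hx : orderOf x = 2) (hy : orderOf y = 2)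
    (hxy : Commute x y) (hnc : ¬ IsConj x y)
    (hstar : ∀ u : G, orderOf u = 2 → Commute u x → ∀ g : G, Commute (g * y * g⁻¹) u → Commute (g * y * g⁻¹) y) :
    Subgroup.normalClosure ({y} : Set G) ≠ ⊤ ∧ Cfsg.IsElementaryAbelian 2 (Subgroup.normalClosure ({y} : Set G)) ∧
      ((∀ u ∈ Subgroup.normalClosure ({y} : Set G), orderOf u = 2 → Commute u x → u = y) →
        Nat.card ↥(Subgroup.normalClosure ({y} : Set G)) ≤ 4) := by
  set N := Subgroup.normalClosure ({y} : Set G) with hN
  have hNn : N.Normal := Subgroup.normalClosure_normal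
  -- generators
  have hgen : ∀ a ∈ Group.conjugatesOfSet ({y} : Set G), ∃ g : G, a = g * y * g⁻¹ := by
    intro a ha
    rw [Group.mem_conjugatesOfSet_iff] at ha
    obtain ⟨b, hb, hab⟩ := ha
    rw [Set.mem_singleton_iff] at hb
    subst hb
    obtain ⟨c, hc⟩ := isConj_iff.mp hab
    exact ⟨c, hc.symm⟩
  -- Step 1: each conjugate of y commutes with y
  have h1 : ∀ g : G, Commute (g * y * g⁻¹) y := by
    intro g
    have hy' : orderOf (g * y * g⁻¹) = 2 := by
      rw [← hy]
      exact orderOf_injective (MulAut.conj g).toMonoidHom (MulAut.conj g).injective y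
    have hnc' : ¬ IsConj x (g * y * g⁻¹) := by
      intro h
      apply hnc
      exact h.trans (isConj_iff.mpr ⟨g⁻¹, by group⟩)
    obtain ⟨u, hu, hux, hyu⟩ := exists_central_invol hx hy' hnc'
    exact hstar u hu hux g hyu
  -- Step 2: any two conjugates commute
  have h2 : ∀ g h : G, Commute (g * y * g⁻¹) (h * y * h⁻¹) := by
    intro g h
    have := h1 (h⁻¹ * g)
    have e : (h⁻¹ * g * y * (h⁻¹ * g)⁻¹) * y = y * (h⁻¹ * g * y * (h⁻¹ * g)⁻¹) := this
    show g * y * g⁻¹ * (h * y * h⁻¹) = h * y * h⁻¹ * (g * y * g⁻¹)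
    calc g * y * g⁻¹ * (h * y * h⁻¹) = h * ((h⁻¹ * g * y * (h⁻¹ * g)⁻¹) * y) * h⁻¹ := by group
      _ = h * (y * (h⁻¹ * g * y * (h⁻¹ * g)⁻¹)) * h⁻¹ := by rw [e]
      _ = h * y * h⁻¹ * (g * y * g⁻¹) := by group
  have hcommset : ∀ a ∈ Group.conjugatesOfSet ({y} : Set G), ∀ b ∈ Group.conjugatesOfSet ({y} : Set G),
      a * b = b * a := by
    intro a ha b hb
    obtain ⟨g, rfl⟩ := hgen a ha
    obtain ⟨h, rfl⟩ := hgen b hb
    exact h2 g h
  -- N is commutative
  have hNcomm : ∀ a ∈ N, ∀ b ∈ N, a * b = b * a := by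
    intro a ha b hb
    have hc := Subgroup.isMulCommutative_closure hcommset
    have := hc.is_comm.comm (⟨a, ha⟩ : Subgroup.closure (Group.conjugatesOfSet ({y} : Set G))) ⟨b, hb⟩
    exact congrArg Subtype.val this
  have hNsq : ∀ a ∈ N, a ^ 2 = 1 := by
    intro a ha
    induction ha using Subgroup.closure_induction with
    | mem a ha =>
      obtain ⟨g, rfl⟩ := hgen a ha
      rw [conj_pow, pow_two, invol_sq hy]; group
    | one => simp
    | mul a b ha hb iha ihb =>
      have hc : Commute a b := hNcomm a ha b hb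
      rw [hc.mul_pow, iha, ihb, one_mul]
    | inv a ha iha => rw [inv_pow, iha, inv_one]
  have hyN : y ∈ N := Subgroup.subset_normalClosure (Set.mem_singleton y)
  refine ⟨?_, ⟨⟨⟨fun a b => Subtype.ext (hNcomm a a.2 b b.2)⟩⟩, hNsq⟩, ?_⟩
  · -- N ≠ ⊤
    intro htop
    have hGcomm : ∀ a b : G, a * b = b * a := fun a b =>
      hNcomm a (htop ▸ Subgroup.mem_top a) b (htop ▸ Subgroup.mem_top b)
    have hle : N ≤ Subgroup.zpowers y := by
      rw [hN, Subgroup.normalClosure, Subgroup.closure_le]
      intro a ha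
      obtain ⟨g, rfl⟩ := hgen a ha
      rw [hGcomm g y, mul_inv_cancel_right]
      exact Subgroup.mem_zpowers y
    have hxz : x ∈ Subgroup.zpowers y := hle (htop ▸ Subgroup.mem_top x)
    obtain ⟨k, hk⟩ := hxz
    have hk' : y ^ k = x := hk
    rcases Int.even_or_odd' k with ⟨q, rfl | rfl⟩
    · rw [zpow_mul, zpow_ofNat, pow_two, invol_sq hy, one_zpow] at hk'
      exact invol_ne_one hx hk'.symm
    · rw [zpow_add, zpow_mul, zpow_ofNat, pow_two, invol_sq hy, one_zpow, one_mul, zpow_one] at hk'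
      apply hnc
      rw [← hk']
  · -- bound
    intro honly
    -- the homomorphism n ↦ n * (x n x⁻¹) on N
    have hconjN : ∀ n ∈ N, x * n * x⁻¹ ∈ N := fun n hn => hNn.conj_mem n hn x
    let f : N →* N := MonoidHom.mk' (fun n => ⟨n * (x * n * x⁻¹), N.mul_mem n.2 (hconjN n n.2)⟩) (by
      intro a b
      apply Subtype.ext
      show (a : G) * b * (x * (a * b) * x⁻¹) = a * (x * a * x⁻¹) * (b * (x * b * x⁻¹))
      have e1 := hNcomm _ b.2 _ (hconjN a a.2)
      calc (a : G) * b * (x * (a * b) * x⁻¹) = a * (b * (x * a * x⁻¹)) * (x * b * x⁻¹) := by group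
        _ = a * ((x * a * x⁻¹) * b) * (x * b * x⁻¹) := by rw [e1]
        _ = a * (x * a * x⁻¹) * (b * (x * b * x⁻¹)) := by group)
    have hinvN : ∀ n ∈ N, n⁻¹ = n := by
      intro n hn
      have := hNsq n hn
      rw [pow_two] at this
      exact inv_eq_of_mul_eq_one_left this
    -- elements of N commuting with x are 1 or y
    have hC : ∀ n ∈ N, x * n * x⁻¹ = n → n = 1 ∨ n = y := by
      intro n hn hnx
      by_cases h1n : n = 1
      · left; exact h1n
      · right
        apply honly n hn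
        · apply orderOf_eq_prime
          · exact hNsq n hn
          · exact h1n
        · show n * x = x * n
          calc n * x = (x * n * x⁻¹) * x := by rw [hnx]
            _ = x * n := by group
    let y' : N := ⟨y, hyN⟩
    have hker : (f.ker : Set N) ⊆ {1, y'} := by
      intro n hn
      have h3 : f n = 1 := hn
      have h4 : (n : G) * (x * n * x⁻¹) = 1 := congrArg Subtype.val h3
      have h5 : x * (n : G) * x⁻¹ = n := by
        have := eq_inv_of_mul_eq_one_right h4
        rw [this, hinvN n n.2]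
      rcases hC n n.2 h5 with h | h
      · left; exact Subtype.ext h
      · right; exact Subtype.ext h
    have hrange : (f.range : Set N) ⊆ {1, y'} := by
      rintro _ ⟨n, rfl⟩
      have h5 : x * ((f n : N) : G) * x⁻¹ = (f n : N) := by
        show x * ((n : G) * (x * n * x⁻¹)) * x⁻¹ = (n : G) * (x * n * x⁻¹)
        have e1 := hNcomm _ n.2 _ (hconjN n n.2)
        calc x * ((n : G) * (x * n * x⁻¹)) * x⁻¹ = (x * n * x⁻¹) * ((x * x) * n * (x * x)⁻¹) := by group
          _ = (x * n * x⁻¹) * n := by rw [invol_sq hx]; group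
          _ = (n : G) * (x * n * x⁻¹) := e1.symm
      rcases hC _ (f n).2 h5 with h | h
      · left; exact Subtype.ext h
      · right; exact Subtype.ext h
    have hle2 : ∀ S : Set N, S ⊆ {1, y'} → Nat.card S ≤ 2 := by
      intro S hS
      rw [Nat.card_coe_set_eq]
      calc S.ncard ≤ ({1, y'} : Set N).ncard := Set.ncard_le_ncard hS (Set.toFinite _)
        _ ≤ 2 := by
            refine (Set.ncard_insert_le _ _).trans ?_
            rw [Set.ncard_singleton]
    have hk := hle2 _ hker
    have hr := hle2 _ hrange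
    have hcard : Nat.card N = Nat.card f.ker * Nat.card f.range := by
      rw [← Subgroup.index_ker, Subgroup.card_mul_index]
    rw [hcard]
    calc Nat.card f.ker * Nat.card f.range ≤ 2 * 2 := Nat.mul_le_mul hk hr
      _ = 4 := rfl

end Cfsg.Agent.S3276
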