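import Mathlib
import Cfsg.Statements.S3294
import Cfsg.Agent.S3303
import Cfsg.Agent.Lib.Lead.PComplement

set_option autoImplicit false
open Cfsg

namespace Cfsg.Agent.S3294

/-- an element of odd order normalizing a cyclic 2-group centralizes it -/
theorem centralizes_of_odd {X : Type*} [Group X] (Z : Subgroup X) [Finite Z] (hZc : IsCyclic Z)
    (hZ2 : IsPGroup 2 Z) (x : X) (hxN : x ∈ Subgroup.normalizer (Z : Set X))
    (hx : Odd (orderOf x)) : x ∈ Subgroup.centralizer (Z : Set X) := by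
  have h1 : orderOf (Z.normalizerMonoidHom ⟨x, hxN⟩) ∣ orderOf x := by
    have := orderOf_map_dvd Z.normalizerMonoidHom (⟨x, hxN⟩ : Subgroup.normalizer (Z : Set X))
    rwa [Subgroup.orderOf_mk] at this
  have h2 : orderOf (Z.normalizerMonoidHom ⟨x, hxN⟩) ∣ Nat.card (MulAut Z) := orderOf_dvd_natCard _
  have h2' : Fact (Nat.Prime 2) := ⟨Nat.prime_two⟩
  obtain ⟨k, hk⟩ := hZ2.exists_card_eq
  have hAut : ∃ j, Nat.card (MulAut Z) = 2 ^ j := by
    rw [IsCyclic.card_mulAut, hk]
    rcases Nat.eq_zero_or_pos k with h0 | h0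
    · exact ⟨0, by rw [h0, pow_zero, Nat.totient_one]⟩
    · exact ⟨k - 1, by rw [Nat.totient_prime_pow Nat.prime_two h0]; norm_num⟩
  obtain ⟨j, hj⟩ := hAut
  rw [hj] at h2
  have hcop : (2 ^ j).Coprime (orderOf x) := Nat.Coprime.pow_left j (Nat.coprime_two_left.2 hx)
  have h3 : Z.normalizerMonoidHom ⟨x, hxN⟩ = 1 :=
    orderOf_eq_one_iff.1 (Nat.eq_one_of_dvd_coprimes hcop h2 h1)
  have h4 : (⟨x, hxN⟩ : Subgroup.normalizer (Z : Set X)) ∈ Z.normalizerMonoidHom.ker := h3
  rw [Subgroup.normalizerMonoidHom_ker, Subgroup.mem_subgroupOf] at h4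
  exact h4

theorem relIndex_two_of_card {G : Type*} [Group G] [Finite G] {H K : Subgroup G} (hHK : H ≤ K)
    (hc : Nat.card K = 2 * Nat.card H) : H.relIndex K = 2 := by
  have h1 := (H.subgroupOf K).card_mul_index
  have h2 : Nat.card (H.subgroupOf K) = Nat.card H :=
    Nat.card_congr (Subgroup.subgroupOfEquivOfLe hHK).toEquiv
  rw [h2, hc, mul_comm 2] at h1
  exact Nat.eq_of_mul_eq_mul_left Nat.card_pos h1

/-- core: in a group whose 2-subgroup `T` looks like a generalized quaternion group of order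
`4N ≥ 32`, an element of odd order centralizes every normal subgroup contained in `T` -/
theorem core {X : Type*} [Group X] [Finite X] (T : Subgroup X) (hT2 : IsPGroup 2 T) (g₀ : X)
    (hg₀T : g₀ ∈ T) (N : ℕ) (hN : 8 ≤ N) (hg₀o : orderOf g₀ = 2 * N) (hTcard : Nat.card T = 4 * N)
    (hout : ∀ t ∈ T, t ∉ Subgroup.zpowers g₀ → orderOf t = 4 ∧ t * g₀ * t⁻¹ = g₀⁻¹)
    (P : Subgroup X) [hPn : P.Normal] (hPT : P ≤ T) (x : X) (hx : Odd (orderOf x)) :
    x ∈ Subgroup.centralizer (P : Set X) := by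
  obtain ⟨A, hA⟩ : ∃ A, A = Subgroup.zpowers g₀ := ⟨_, rfl⟩
  have hAT : A ≤ T := by rw [hA]; exact (Subgroup.zpowers_le).2 hg₀T
  have hAcyc : IsCyclic A := by rw [hA]; infer_instance
  have hAmem : ∀ u, u ∈ A ↔ ∃ i : ℕ, g₀ ^ i = u := by
    intro u
    rw [hA, ← (isOfFinOrder_of_finite g₀).mem_powers_iff_mem_zpowers, Submonoid.mem_powers_iff]
  have hAcomm : ∀ u ∈ A, ∀ v ∈ A, u * v = v * u := by
    intro u hu v hv
    obtain ⟨i, rfl⟩ := (hAmem u).1 hu
    obtain ⟨j, rfl⟩ := (hAmem v).1 hv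
    rw [← pow_add, ← pow_add, add_comm]
  have hxP : ∀ v : X, ∀ w ∈ P, v * w * v⁻¹ ∈ P := fun v w hw => hPn.conj_mem w hw v
  have hodd_inv : Odd (orderOf x⁻¹) := by rw [orderOf_inv]; exact hx
  by_cases hPA : P ≤ A
  · have hPc : IsCyclic P := Subgroup.isCyclic_of_le hPA
    have hxN : x ∈ Subgroup.normalizer (P : Set X) := by
      rw [Subgroup.mem_normalizer_iff]
      intro w
      refine ⟨hxP x w, fun hw => ?_⟩
      have := hxP x⁻¹ _ hw
      have e : x⁻¹ * (x * w * x⁻¹) * x⁻¹⁻¹ = w := by group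
      rwa [e] at this
    exact centralizes_of_odd P hPc (hT2.to_le hPT) x hxN hx
  · obtain ⟨t, htP, htA⟩ := SetLike.not_le_iff_exists.1 hPA
    have htT := hPT htP
    obtain ⟨hto, htrel⟩ := hout t htT (by rw [← hA]; exact htA)
    obtain ⟨y, hy⟩ : ∃ y, y = g₀ ^ 2 := ⟨_, rfl⟩
    have hyA : y ∈ A := (hAmem y).2 ⟨2, hy.symm⟩
    have hyP : y ∈ P := by
      have h1 : g₀ * t * g₀⁻¹ ∈ P := hPn.conj_mem t htP g₀
      have h2 : g₀ * t * g₀⁻¹ * t⁻¹ ∈ P := P.mul_mem h1 (P.inv_mem htP)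
      have h4 : t * g₀⁻¹ * t⁻¹ = g₀ := by
        have h5 : t * g₀⁻¹ * t⁻¹ = (t * g₀ * t⁻¹)⁻¹ := by group
        rw [h5, htrel, inv_inv]
      have h3 : g₀ * t * g₀⁻¹ * t⁻¹ = g₀ ^ 2 := by
        calc g₀ * t * g₀⁻¹ * t⁻¹ = g₀ * (t * g₀⁻¹ * t⁻¹) := by group
          _ = g₀ ^ 2 := by rw [h4, pow_two]
      rw [h3, ← hy] at h2
      exact h2
    have hyo : orderOf y = N := by
      rw [hy, orderOf_pow_of_dvd two_ne_zero (by rw [hg₀o]; exact dvd_mul_right 2 N), hg₀o]
      simp
    -- elements of A of order N are powers of y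
    have hAN : ∀ u ∈ A, orderOf u = N → u ∈ Subgroup.zpowers y := by
      intro u hu huo
      obtain ⟨i, rfl⟩ := (hAmem u).1 hu
      have h1 : (g₀ ^ i) ^ N = 1 := by rw [← huo]; exact pow_orderOf_eq_one _
      rw [← pow_mul] at h1
      have h2 : 2 * N ∣ i * N := by rw [← hg₀o]; exact orderOf_dvd_of_pow_eq_one h1
      have h3 : 2 ∣ i := by
        have hNpos : 0 < N := by omega
        exact (Nat.mul_dvd_mul_iff_right hNpos).1 h2
      obtain ⟨k, rfl⟩ := h3
      rw [pow_mul, ← hy]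
      exact Subgroup.pow_mem _ (Subgroup.mem_zpowers y) k
    -- conjugation by v preserving P maps y into zpowers y
    have hkey : ∀ v : X, v * y * v⁻¹ ∈ Subgroup.zpowers y := by
      intro v
      have h1 : v * y * v⁻¹ ∈ P := hxP v y hyP
      have h2 : orderOf (v * y * v⁻¹) = N := by
        have : v * y * v⁻¹ = MulAut.conj v y := by simp
        rw [this, MulEquiv.orderOf_eq, hyo]
      apply hAN _ _ h2
      by_contra hnA
      have := (hout _ (hPT h1) (by rw [← hA]; exact hnA)).1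
      omega
    have hconj_pow : ∀ v : X, ∀ u ∈ Subgroup.zpowers y, v * u * v⁻¹ ∈ Subgroup.zpowers y := by
      intro v u hu
      obtain ⟨k, rfl⟩ := Subgroup.mem_zpowers_iff.1 hu
      have : v * y ^ k * v⁻¹ = (v * y * v⁻¹) ^ k := by rw [conj_zpow]
      rw [this]
      exact Subgroup.zpow_mem _ (hkey v) k
    have hxNY : x ∈ Subgroup.normalizer ((Subgroup.zpowers y : Subgroup X) : Set X) := by
      rw [Subgroup.mem_normalizer_iff]
      intro w
      refine ⟨hconj_pow x w, fun hw => ?_⟩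
      have := hconj_pow x⁻¹ _ hw
      have e : x⁻¹ * (x * w * x⁻¹) * x⁻¹⁻¹ = w := by group
      rwa [e] at this
    have hYT : Subgroup.zpowers y ≤ T := (Subgroup.zpowers_le).2 (hAT hyA)
    have hxy : y * x = x * y := by
      have := centralizes_of_odd (Subgroup.zpowers y) inferInstance (hT2.to_le hYT) x hxNY hx
      rw [Subgroup.mem_centralizer_iff] at this
      exact this y (Subgroup.mem_zpowers y)
    have hy2 : y ^ 2 ≠ 1 := by
      intro h
      have := orderOf_dvd_of_pow_eq_one h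
      rw [hyo] at this
      have := Nat.le_of_dvd (by norm_num) this
      omega
    -- elements of T outside A invert y
    have hinv : ∀ s ∈ T, s ∉ A → s * y * s⁻¹ = y⁻¹ := by
      intro s hs hsA
      have h1 := (hout s hs (by rw [← hA]; exact hsA)).2
      rw [hy]
      have : s * g₀ ^ 2 * s⁻¹ = (s * g₀ * s⁻¹) ^ 2 := by rw [conj_pow]
      rw [this, h1, inv_pow]
    -- anything in T commuting with y lies in A
    have hcommA : ∀ s ∈ T, s * y = y * s → s ∈ A := by
      intro s hs hsy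
      by_contra hsA
      have h1 := hinv s hs hsA
      rw [hsy] at h1
      have h2 : y = y⁻¹ := by
        rw [← h1]
        group
      apply hy2
      rw [pow_two]
      nth_rewrite 2 [h2]
      exact mul_inv_cancel y
    -- C = P ⊓ A is normalized by x and x⁻¹
    have hCconj : ∀ v : X, y * v = v * y → ∀ w ∈ P ⊓ A, v * w * v⁻¹ ∈ P ⊓ A := by
      intro v hv w hw
      have hwP := (Subgroup.mem_inf.1 hw).1
      have hwA := (Subgroup.mem_inf.1 hw).2
      have h1 : v * w * v⁻¹ ∈ P := hxP v w hwP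
      refine Subgroup.mem_inf.2 ⟨h1, ?_⟩
      apply hcommA _ (hPT h1)
      have hwy : w * y = y * w := hAcomm w hwA y hyA
      have hv' : v⁻¹ * y = y * v⁻¹ := by
        have : v⁻¹ * (y * v) * v⁻¹ = v⁻¹ * (v * y) * v⁻¹ := by rw [hv]
        calc v⁻¹ * y = v⁻¹ * (y * v) * v⁻¹ := by group
          _ = v⁻¹ * (v * y) * v⁻¹ := this
          _ = y * v⁻¹ := by group
      calc v * w * v⁻¹ * y = v * w * (v⁻¹ * y) := by group
        _ = v * w * (y * v⁻¹) := by rw [hv']
        _ = v * (w * y) * v⁻¹ := by group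
        _ = v * (y * w) * v⁻¹ := by rw [hwy]
        _ = (v * y) * w * v⁻¹ := by group
        _ = (y * v) * w * v⁻¹ := by rw [hv]
        _ = y * (v * w * v⁻¹) := by group
    have hxy' : y * x⁻¹ = x⁻¹ * y := by
      calc y * x⁻¹ = x⁻¹ * (x * y) * x⁻¹ := by group
        _ = x⁻¹ * (y * x) * x⁻¹ := by rw [hxy]
        _ = x⁻¹ * y := by group
    have hxNC : x ∈ Subgroup.normalizer ((P ⊓ A : Subgroup X) : Set X) := by
      rw [Subgroup.mem_normalizer_iff]
      intro w
      refine ⟨hCconj x hxy w, fun hw => ?_⟩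
      have := hCconj x⁻¹ hxy' _ hw
      have e : x⁻¹ * (x * w * x⁻¹) * x⁻¹⁻¹ = w := by group
      rwa [e] at this
    have hCc : IsCyclic (P ⊓ A : Subgroup X) := Subgroup.isCyclic_of_le inf_le_right
    have hxC := centralizes_of_odd (P ⊓ A) hCc (hT2.to_le (inf_le_left.trans hPT)) x hxNC hx
    rw [Subgroup.mem_centralizer_iff] at hxC
    -- now all of P
    have hArel : A.relIndex T = 2 := by
      apply relIndex_two_of_card hAT
      rw [hTcard, hA, Nat.card_zpowers, hg₀o]
      ring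
    have hArel' : (A.subgroupOf T).index = 2 := hArel
    rw [Subgroup.mem_centralizer_iff]
    intro w hw
    by_cases hwA : w ∈ A
    · exact hxC w (Subgroup.mem_inf.2 ⟨hw, hwA⟩)
    · have hw' : x * w * x⁻¹ ∈ P := hxP x w hw
      have hw'A : x * w * x⁻¹ ∉ A := by
        intro h
        apply hwA
        have := hCconj x⁻¹ hxy' _ (Subgroup.mem_inf.2 ⟨hw', h⟩)
        have e : x⁻¹ * (x * w * x⁻¹) * x⁻¹⁻¹ = w := by group
        rw [e] at this
        exact (Subgroup.mem_inf.1 this).2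
      obtain ⟨c, hc⟩ : ∃ c, c = w⁻¹ * (x * w * x⁻¹) := ⟨_, rfl⟩
      have hcP : c ∈ P := by rw [hc]; exact P.mul_mem (P.inv_mem hw) hw'
      have hcA : c ∈ A := by
        have key := Subgroup.mul_mem_iff_of_index_two hArel' (a := ⟨w⁻¹, T.inv_mem (hPT hw)⟩)
          (b := ⟨x * w * x⁻¹, hPT hw'⟩)
        simp only [Subgroup.mem_subgroupOf, Subgroup.coe_mul] at key
        rw [hc]
        apply key.2
        constructor
        · intro h
          exact absurd (A.inv_mem_iff.1 h) hwA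
        · intro h
          exact absurd h hw'A
      have hxc : c * x = x * c := hxC c (Subgroup.mem_inf.2 ⟨hcP, hcA⟩)
      have hw'c : x * w * x⁻¹ = w * c := by rw [hc]; group
      have hpow : ∀ k : ℕ, x ^ k * w * (x ^ k)⁻¹ = w * c ^ k := by
        intro k
        induction k with
        | zero => simp
        | succ k ih =>
          have hxck : x * c ^ k * x⁻¹ = c ^ k := by
            have h1 : x * c * x⁻¹ = c := by
              calc x * c * x⁻¹ = (c * x) * x⁻¹ := by rw [hxc]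
                _ = c := by group
            rw [← conj_pow, h1]
          calc x ^ (k + 1) * w * (x ^ (k + 1))⁻¹ = x * (x ^ k * w * (x ^ k)⁻¹) * x⁻¹ := by
                rw [pow_succ']; group
            _ = x * (w * c ^ k) * x⁻¹ := by rw [ih]
            _ = (x * w * x⁻¹) * (x * c ^ k * x⁻¹) := by group
            _ = w * c * c ^ k := by rw [hw'c, hxck]
            _ = w * c ^ (k + 1) := by rw [pow_succ', mul_assoc]
      have h1 := hpow (orderOf x)
      rw [pow_orderOf_eq_one, one_mul, inv_one, mul_one] at h1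
      have h2 : c ^ orderOf x = 1 := by
        have : w * 1 = w * c ^ orderOf x := by rw [mul_one]; exact h1
        exact (mul_left_cancel this).symm
      have h3 : orderOf c ∣ orderOf x := orderOf_dvd_of_pow_eq_one h2
      obtain ⟨e, he⟩ := (IsPGroup.iff_orderOf.1 hT2) ⟨c, hPT hcP⟩
      rw [Subgroup.orderOf_mk] at he
      have hcop : (2 ^ e).Coprime (orderOf x) := Nat.Coprime.pow_left e (Nat.coprime_two_left.2 hx)
      have h4 : orderOf c = 1 := Nat.eq_one_of_dvd_coprimes hcop (he ▸ dvd_rfl) h3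
      have h5 : c = 1 := orderOf_eq_one_iff.1 h4
      rw [h5, mul_one] at hw'c
      calc w * x = (x * w * x⁻¹) * x := by rw [hw'c]
        _ = x * w := by group

theorem isPGroup_of_quaternion {X : Type*} [Group X] [Finite X] (hs : Group.IsSolvable X)
    (hO : Cfsg.pPrimeCore 2 X = ⊥) (T : Sylow 2 X) (g₀ : X) (hg₀T : g₀ ∈ (T : Subgroup X))
    (N : ℕ) (hN : 8 ≤ N) (hg₀o : orderOf g₀ = 2 * N) (hTcard : Nat.card (T : Subgroup X) = 4 * N)
    (hout : ∀ t ∈ (T : Subgroup X), t ∉ Subgroup.zpowers g₀ →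
      orderOf t = 4 ∧ t * g₀ * t⁻¹ = g₀⁻¹) :
    IsPGroup 2 X := by
  have h2 : Fact (Nat.Prime 2) := ⟨Nat.prime_two⟩
  have hQT : Cfsg.pCore 2 X ≤ (T : Subgroup X) := Cfsg.Agent.H1.pCore_le_sylow T
  have hQn : (Cfsg.pCore 2 X).Normal := Subgroup.sSup_normal _ (fun _ h => h.1)
  have hF : Cfsg.fittingSubgroup X = Cfsg.pCore 2 X :=
    Cfsg.Agent.S1327.fittingSubgroup_eq_pCore_of_pPrimeCore_eq_bot 2 hO
  have hCQ : Subgroup.centralizer (Cfsg.pCore 2 X : Set X) ≤ Cfsg.pCore 2 X := by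
    rw [← hF]
    exact Cfsg.Agent.S1326.result.2 (Cfsg.Agent.S3303.layer_eq_bot_of_isSolvable hs)
  intro g
  obtain ⟨k, m, hm, hgm⟩ := Nat.exists_eq_pow_mul_and_not_dvd (orderOf_pos g).ne' 2 (by norm_num)
  refine ⟨k, ?_⟩
  have hord : orderOf (g ^ 2 ^ k) = m := by
    rw [orderOf_pow_of_dvd (pow_ne_zero k two_ne_zero) (Dvd.intro _ hgm.symm), hgm,
      Nat.mul_div_cancel_left _ (pow_pos (by norm_num) k)]
  have hodd : Odd (orderOf (g ^ 2 ^ k)) := by
    rw [hord, Nat.odd_iff]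
    omega
  have h1 := core (T : Subgroup X) T.isPGroup' g₀ hg₀T N hN hg₀o hTcard hout (Cfsg.pCore 2 X) hQT
    (g ^ 2 ^ k) hodd
  have h3 : g ^ 2 ^ k ∈ (T : Subgroup X) := hQT (hCQ h1)
  obtain ⟨e, he⟩ := (IsPGroup.iff_orderOf.1 T.isPGroup') ⟨g ^ 2 ^ k, h3⟩
  rw [Subgroup.orderOf_mk, hord] at he
  have hm1 : m = 1 := by
    rcases Nat.eq_zero_or_pos e with h0 | h0
    · rw [he, h0, pow_zero]
    · exfalso
      apply hm
      rw [he]
      exact dvd_pow_self 2 h0.ne'
  exact orderOf_eq_one_iff.1 (hord.trans hm1)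

/-- A finite solvable group whose Sylow 2-subgroups are generalized quaternion of order at least 32 has a normal 2-complement. -/
theorem result {G : Type*} [Group G] [Finite G] (hsol : Group.IsSolvable G) (T : Sylow 2 G) (n : ℕ) (hn : 3 ≤ n) (hT : Nonempty ((T : Subgroup G) ≃* QuaternionGroup (2 ^ n))) : Cfsg.HasNormalPComplement 2 G := by
  classical
  have h2 : Fact (Nat.Prime 2) := ⟨Nat.prime_two⟩
  obtain ⟨e⟩ := hT
  obtain ⟨N, hNdef⟩ : ∃ N, N = 2 ^ n := ⟨_, rfl⟩
  have hN8 : 8 ≤ N := by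
    rw [hNdef]
    calc 8 = 2 ^ 3 := by norm_num
      _ ≤ 2 ^ n := Nat.pow_le_pow_right (by norm_num) hn
  have hNne : NeZero (2 ^ n) := ⟨by positivity⟩
  have hKn : (Cfsg.oddCore G).Normal := Cfsg.Agent.Lib.Lead.PiCore.pPrimeCore_normal 2
  have hKcop : (Nat.card (Cfsg.oddCore G)).Coprime 2 := Cfsg.Agent.H1.pPrimeCore_coprime 2
  -- the projection restricted to T is injective
  let π := QuotientGroup.mk' (Cfsg.oddCore G)
  let f : (T : Subgroup G) →* G ⧸ Cfsg.oddCore G := π.comp (T : Subgroup G).subtype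
  have hf : Function.Injective f := by
    rw [injective_iff_map_eq_one]
    intro t ht
    have h1 : (t : G) ∈ Cfsg.oddCore G := (QuotientGroup.eq_one_iff (t : G)).1 ht
    have h3 : orderOf (t : G) ∣ Nat.card (Cfsg.oddCore G) := by
      have := orderOf_dvd_natCard (⟨(t : G), h1⟩ : Cfsg.oddCore G)
      rwa [Subgroup.orderOf_mk] at this
    obtain ⟨j, hj⟩ := (IsPGroup.iff_orderOf.1 T.isPGroup') t
    rw [← Subgroup.orderOf_coe] at hj
    have hcop : (2 ^ j).Coprime (Nat.card (Cfsg.oddCore G)) := Nat.Coprime.pow_left j hKcop.symm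
    have h4 : orderOf (t : G) = 1 := Nat.eq_one_of_dvd_coprimes hcop (hj ▸ dvd_rfl) h3
    exact Subtype.ext (orderOf_eq_one_iff.1 h4)
  have hford : ∀ t : (T : Subgroup G), orderOf (π (t : G)) = orderOf t := fun t => orderOf_injective f hf t
  obtain ⟨g₀', hg₀'⟩ : ∃ g₀' : (T : Subgroup G), g₀' = e.symm (QuaternionGroup.a 1) := ⟨_, rfl⟩
  have heg₀ : e g₀' = QuaternionGroup.a 1 := by rw [hg₀', MulEquiv.apply_symm_apply]
  have hg₀'o : orderOf g₀' = 2 * 2 ^ n := by
    rw [← MulEquiv.orderOf_eq e, heg₀, QuaternionGroup.orderOf_a_one]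
  have hTc : Nat.card (T : Subgroup G) = 4 * 2 ^ n := by
    rw [Nat.card_congr e.toEquiv, Nat.card_eq_fintype_card, QuaternionGroup.card]
  -- structure of T transported from the quaternion group
  have hTout : ∀ t : (T : Subgroup G), t ∉ Subgroup.zpowers g₀' →
      orderOf t = 4 ∧ g₀' * t * g₀' = t := by
    intro t ht
    rcases h : e t with i | i
    · exfalso
      apply ht
      have h1 : e t = e (g₀' ^ i.val) := by
        rw [map_pow, heg₀, QuaternionGroup.a_one_pow, h, ZMod.natCast_zmod_val]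
      rw [e.injective h1]
      exact Subgroup.pow_mem _ (Subgroup.mem_zpowers g₀') _
    · constructor
      · rw [← MulEquiv.orderOf_eq e, h, QuaternionGroup.orderOf_xa]
      · apply e.injective
        rw [map_mul, map_mul, heg₀, h, QuaternionGroup.a_mul_xa, QuaternionGroup.xa_mul_a]
        congr 1
        ring
  have hπsurj : Function.Surjective π := QuotientGroup.mk'_surjective _
  have hXs : Group.IsSolvable (G ⧸ Cfsg.oddCore G) := inferInstance
  have hXO : Cfsg.pPrimeCore 2 (G ⧸ Cfsg.oddCore G) = ⊥ := Cfsg.Agent.H2.pPrimeCore_quotient_eq_bot 2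
  have hTb : ∀ tb, tb ∈ ((T.mapSurjective hπsurj : Sylow 2 (G ⧸ Cfsg.oddCore G)) :
      Subgroup (G ⧸ Cfsg.oddCore G)) ↔ ∃ t : (T : Subgroup G), π (t : G) = tb := by
    intro tb
    rw [Sylow.coe_mapSurjective, Subgroup.mem_map]
    constructor
    · rintro ⟨t, ht, rfl⟩
      exact ⟨⟨t, ht⟩, rfl⟩
    · rintro ⟨t, rfl⟩
      exact ⟨t, t.2, rfl⟩
  have hXp : IsPGroup 2 (G ⧸ Cfsg.oddCore G) := by
    apply isPGroup_of_quaternion hXs hXO (T.mapSurjective hπsurj) (π (g₀' : G)) ((hTb _).2 ⟨g₀', rfl⟩)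
      (2 ^ n) (hNdef ▸ hN8)
    · rw [hford, hg₀'o]
    · rw [Sylow.coe_mapSurjective]
      have h1 : (T : Subgroup G).map π = f.range := by
        rw [MonoidHom.range_comp, Subgroup.range_subtype]
      rw [h1, ← hTc]
      exact Nat.card_range_of_injective hf
    · intro tb htb hnz
      obtain ⟨t, rfl⟩ := (hTb tb).1 htb
      have htz : t ∉ Subgroup.zpowers g₀' := by
        intro h
        apply hnz
        obtain ⟨k, rfl⟩ := Subgroup.mem_zpowers_iff.1 h
        rw [Subgroup.coe_zpow, map_zpow]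
        exact Subgroup.zpow_mem _ (Subgroup.mem_zpowers _) k
      obtain ⟨h4, hrel⟩ := hTout t htz
      refine ⟨by rw [hford, h4], ?_⟩
      have hrel' : (g₀' : G) * (t : G) * (g₀' : G) = (t : G) := by
        have := congrArg Subtype.val hrel
        simpa using this
      have h5 : (t : G) * (g₀' : G) * (t : G)⁻¹ = (g₀' : G)⁻¹ := by
        calc (t : G) * (g₀' : G) * (t : G)⁻¹
            = (g₀' : G)⁻¹ * ((g₀' : G) * (t : G) * (g₀' : G)) * (t : G)⁻¹ := by group
          _ = (g₀' : G)⁻¹ := by rw [hrel']; group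
      rw [← map_mul, ← map_inv, ← map_mul, h5, map_inv]
  obtain ⟨k, hk⟩ := IsPGroup.iff_card.1 hXp
  have hidx : (Cfsg.oddCore G).index = 2 ^ k := by
    rw [Subgroup.index, hk]
  exact Cfsg.Agent.Lib.Lead.PComplement.hasNormalPComplement_of_normal (Cfsg.oddCore G) hKcop hidx

end Cfsg.Agent.S3294
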