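import Mathlib
import Cfsg.Statements.S3349

set_option autoImplicit false
open Cfsg

namespace Cfsg.Agent.S3349

theorem result {Q : Type*} [Group Q] [Finite Q]
    (p : ℕ) [Fact p.Prime] (hQ : Cfsg.IsExtraspecial p Q) (α : MulAut Q)
    (A : Subgroup Q) (hA : IsMulCommutative A) (hmax : ∀ B : Subgroup Q, A ≤ B → IsMulCommutative B → B = A)
    (hfix : ∀ a ∈ A, α a = a) :
    ∃ k : ℕ, orderOf α = p ^ k := by
  have hp : p.Prime := Fact.out
  obtain ⟨⟨hpQ, -, hcomm⟩, -⟩ := hQ
  have hAc : ∀ a ∈ A, ∀ b ∈ A, a * b = b * a := by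
    intro a ha b hb
    have := hA.is_comm.comm ⟨a, ha⟩ ⟨b, hb⟩
    exact congrArg Subtype.val this
  -- C(A) ≤ A
  have hCA : ∀ c : Q, (∀ a ∈ A, c * a = a * c) → c ∈ A := by
    intro c hc
    set D : Subgroup Q := Subgroup.centralizer ((A : Set Q) ∪ {c}) with hD
    set B : Subgroup Q := D ⊓ Subgroup.centralizer (D : Set Q) with hB
    have memD : ∀ x, x ∈ D ↔ (∀ a ∈ A, a * x = x * a) ∧ c * x = x * c := by
      intro x
      rw [hD, Subgroup.mem_centralizer_iff]
      constructor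
      · intro h
        exact ⟨fun a ha => h a (Or.inl ha), h c (Or.inr rfl)⟩
      · rintro ⟨h1, h2⟩ y (hy | hy)
        · exact h1 y hy
        · rw [Set.mem_singleton_iff] at hy; rw [hy]; exact h2
    have hAD : A ≤ D := fun a ha => (memD a).mpr ⟨fun a' ha' => hAc a' ha' a ha, hc a ha⟩
    have hcD : c ∈ D := (memD c).mpr ⟨fun a ha => (hc a ha).symm, rfl⟩
    have hAB : A ≤ B := by
      intro a ha
      refine Subgroup.mem_inf.mpr ⟨hAD ha, ?_⟩
      rw [Subgroup.mem_centralizer_iff]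
      intro d hd
      exact (((memD d).mp hd).1 a ha).symm
    have hcB : c ∈ B := by
      refine Subgroup.mem_inf.mpr ⟨hcD, ?_⟩
      rw [Subgroup.mem_centralizer_iff]
      intro d hd
      exact (((memD d).mp hd).2).symm
    have hBc : IsMulCommutative B := by
      refine ⟨⟨fun x y => ?_⟩⟩
      apply Subtype.ext
      have hx : (x : Q) ∈ D := (Subgroup.mem_inf.mp x.2).1
      have hy : (y : Q) ∈ Subgroup.centralizer (D : Set Q) := (Subgroup.mem_inf.mp y.2).2
      exact (Subgroup.mem_centralizer_iff.mp hy _ hx)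
    rw [← hmax B hAB hBc]
    exact hcB
  have hZA : Subgroup.center Q ≤ A := by
    intro z hz
    apply hCA
    intro a _
    exact (Subgroup.mem_center_iff.mp hz a).symm
  -- A is normal
  have hAn : ∀ a ∈ A, ∀ q : Q, q * a * q⁻¹ ∈ A := by
    intro a ha q
    have h1 : q * a * q⁻¹ * a⁻¹ ∈ commutator Q := by
      have := Subgroup.commutator_mem_commutator (Subgroup.mem_top q) (Subgroup.mem_top a)
      rwa [commutatorElement_def] at this
    rw [hcomm] at h1
    have h2 : q * a * q⁻¹ = (q * a * q⁻¹ * a⁻¹) * a := by group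
    rw [h2]
    exact A.mul_mem (hZA h1) ha
  -- c(q) = q⁻¹ α q ∈ A
  have hc : ∀ q : Q, q⁻¹ * α q ∈ A := by
    intro q
    apply hCA
    intro a ha
    have h1 : α (q * a * q⁻¹) = q * a * q⁻¹ := hfix _ (hAn a ha q)
    rw [map_mul, map_mul, map_inv, hfix a ha] at h1
    calc q⁻¹ * α q * a = q⁻¹ * (α q * a * (α q)⁻¹) * α q := by group
      _ = q⁻¹ * (q * a * q⁻¹) * α q := by rw [h1]
      _ = a * (q⁻¹ * α q) := by group
  have hpow : ∀ (k : ℕ) (q : Q), (α ^ k) q = q * (q⁻¹ * α q) ^ k := by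
    intro k
    induction k with
    | zero => intro q; simp
    | succ k ih =>
      intro q
      rw [pow_succ', MulAut.mul_apply, ih, map_mul, map_pow, hfix _ (hc q), pow_succ']
      simp only [mul_assoc, mul_inv_cancel_left]
  have hn : α ^ (Nat.card Q) = 1 := by
    ext q
    rw [hpow, pow_card_eq_one', mul_one]
    rfl
  obtain ⟨m, hm⟩ := IsPGroup.iff_card.mp hpQ
  rw [hm] at hn
  have := orderOf_dvd_of_pow_eq_one hn
  obtain ⟨k, -, hk⟩ := (Nat.dvd_prime_pow hp).mp this
  exact ⟨k, hk⟩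

end Cfsg.Agent.S3349
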