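import Mathlib
import Cfsg.Statements.S3356
import Cfsg.Agent.H2.HalfTransMain

set_option autoImplicit false
open Cfsg

namespace Cfsg.Agent.S3356

/-- Let G be a finite 3/2-transitive permutation group: G acts faithfully and transitively on a finite set, the point stabilizers are non-trivial, and for each point a all orbits of G_a on the remaining points have the same size. Suppose G has a regular normal subgroup N and G is not a Frobenius group (some two-point stabilizer is non-trivial). Then N is an elementary abelian p-group for some prime p, and every non-trivial normal subgroup of G contains N (so N is the unique minimal normal subgroup). -/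
theorem result {G Ω : Type*} [Group G] [Finite G]
    [MulAction G Ω] [FaithfulSMul G Ω] [Finite Ω] (htrans : MulAction.IsPretransitive G Ω)
    (hne : ∀ a : Ω, MulAction.stabilizer G a ≠ ⊥)
    (hhalf : ∀ a b c : Ω, b ≠ a → c ≠ a →
      Nat.card (MulAction.orbit (MulAction.stabilizer G a) b) = Nat.card (MulAction.orbit (MulAction.stabilizer G a) c))
    (N : Subgroup G) [hN : N.Normal] (hNt : MulAction.IsPretransitive N Ω) (hNr : ∀ a : Ω, MulAction.stabilizer N a = ⊥)
    (hnotF : ∃ a b : Ω, a ≠ b ∧ MulAction.stabilizer G a ⊓ MulAction.stabilizer G b ≠ ⊥) :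
    (∃ p : ℕ, p.Prime ∧ IsMulCommutative N ∧ ∀ x ∈ N, x ^ p = 1) ∧
    (∀ M : Subgroup G, M.Normal → M ≠ ⊥ → N ≤ M) := by
  classical
  obtain ⟨a, b₀, hab, hst⟩ := hnotF
  obtain ⟨H, hHdef⟩ : ∃ H : Subgroup G, H = MulAction.stabilizer G a := ⟨_, rfl⟩
  have hmemH : ∀ h : G, h ∈ H ↔ h • a = a := by intro h; rw [hHdef]; rfl
  -- elements of N moving a
  have hNa : ∀ x ∈ N, x • a = a → x = 1 := by
    intro x hx hxa
    have h1 : (⟨x, hx⟩ : N) ∈ MulAction.stabilizer N a := hxa
    rw [hNr a, Subgroup.mem_bot] at h1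
    exact congrArg Subtype.val h1
  have hNtrans : ∀ c : Ω, ∃ x ∈ N, x • a = c := by
    intro c
    obtain ⟨n, hn⟩ := MulAction.exists_smul_eq N a c
    exact ⟨n, n.2, hn⟩
  -- commuting with x ↔ fixing x • a
  have hcommfix : ∀ x ∈ N, ∀ h ∈ H, (h * x = x * h ↔ h • (x • a) = x • a) := by
    intro x hx h hh
    have hha : h • a = a := (hmemH h).mp hh
    constructor
    · intro hc
      rw [← mul_smul, hc, mul_smul, hha]
    · intro hfix
      have hn : h * x * h⁻¹ ∈ N := hN.conj_mem x hx h
      have h1 : (x⁻¹ * (h * x * h⁻¹)) • a = a := by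
        have hha' : h⁻¹ • a = a := by rw [inv_smul_eq_iff, hha]
        rw [mul_smul, mul_smul, mul_smul, hha', hfix, inv_smul_smul]
      have h2 := hNa _ (N.mul_mem (N.inv_mem hx) hn) h1
      calc h * x = x * (x⁻¹ * (h * x * h⁻¹)) * h := by group
        _ = x * h := by rw [h2, mul_one]
  have hSt : ∀ x ∈ N, Cfsg.Agent.H2.HalfTrans.St H x
      = (MulAction.stabilizer H (x • a)).map H.subtype := by
    intro x hx
    ext h
    rw [Cfsg.Agent.H2.HalfTrans.mem_St]
    constructor
    · rintro ⟨hc, hh⟩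
      exact ⟨⟨h, hh⟩, (hcommfix x hx h hh).mp hc, rfl⟩
    · rintro ⟨h', hh', rfl⟩
      exact ⟨(hcommfix x hx h' h'.2).mpr hh', h'.2⟩
  have hcardSt : ∀ x ∈ N, Nat.card (Cfsg.Agent.H2.HalfTrans.St H x)
      = Nat.card (MulAction.stabilizer H (x • a)) := by
    intro x hx
    rw [hSt x hx]
    exact Nat.card_congr ((MulAction.stabilizer H (x • a)).equivMapOfInjective H.subtype
      H.subtype_injective).symm.toEquiv
  have horb : ∀ c : Ω, Nat.card (MulAction.orbit H c) * Nat.card (MulAction.stabilizer H c)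
      = Nat.card H := by
    intro c
    rw [Nat.card_congr (MulAction.orbitEquivQuotientStabilizer H c), ← Subgroup.index_eq_card,
      mul_comm]
    exact Subgroup.card_mul_index _
  have hstabeq : ∀ c : Ω, c ≠ a → Nat.card (MulAction.stabilizer H c)
      = Nat.card (MulAction.stabilizer H b₀) := by
    intro c hc
    have h1 := horb c
    have h2 := horb b₀
    have h3 : Nat.card (MulAction.orbit H c) = Nat.card (MulAction.orbit H b₀) := by
      subst hHdef
      exact hhalf a c b₀ hc hab.symm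
    rw [h3, ← h2] at h1
    have hpos : 0 < Nat.card (MulAction.orbit H b₀) := by
      have : Nonempty (MulAction.orbit H b₀) := ⟨⟨b₀, MulAction.mem_orbit_self b₀⟩⟩
      exact Nat.card_pos
    exact Nat.eq_of_mul_eq_mul_left hpos h1
  obtain ⟨s, hsdef⟩ : ∃ s : ℕ, s = Nat.card (MulAction.stabilizer H b₀) := ⟨_, rfl⟩
  have hxa_ne : ∀ x ∈ N, x ≠ 1 → x • a ≠ a := fun x hx hx1 h => hx1 (hNa x hx h)
  have hyp : Cfsg.Agent.H2.HalfTrans.Hyp N H s := by
    refine ⟨hN, ?_, ?_, ?_⟩
    · intro h hh hcomm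
      apply FaithfulSMul.eq_of_smul_eq_smul (α := Ω)
      intro c
      obtain ⟨x, hx, rfl⟩ := hNtrans c
      rw [one_smul]
      exact (hcommfix x hx h hh).mp (hcomm x hx)
    · -- 1 < s
      obtain ⟨x, hx, hxb⟩ := hNtrans b₀
      have hx1 : x ≠ 1 := by
        intro h; rw [h, one_smul] at hxb; exact hab hxb
      have h1 : Cfsg.Agent.H2.HalfTrans.St H x ≠ ⊥ := by
        intro hbot
        apply hst
        rw [eq_bot_iff]
        intro g hg
        rw [Subgroup.mem_inf] at hg
        have hgH : g ∈ H := (hmemH g).mpr hg.1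
        have : g ∈ Cfsg.Agent.H2.HalfTrans.St H x := by
          rw [Cfsg.Agent.H2.HalfTrans.mem_St]
          refine ⟨(hcommfix x hx g hgH).mpr ?_, hgH⟩
          rw [hxb]; exact hg.2
        rw [hbot] at this
        exact this
      have h2 : Nat.card (Cfsg.Agent.H2.HalfTrans.St H x) = s := by
        rw [hcardSt x hx, hxb, hsdef]
      have h3 : Nat.card (Cfsg.Agent.H2.HalfTrans.St H x) ≠ 1 := by
        rw [Ne, Subgroup.card_eq_one]; exact h1
      have h4 : 0 < Nat.card (Cfsg.Agent.H2.HalfTrans.St H x) := Nat.card_pos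
      omega
    · intro x hx hx1
      rw [hcardSt x hx, hstabeq _ (hxa_ne x hx hx1), hsdef]
  have hG : ∀ g : G, ∃ n ∈ N, ∃ h ∈ H, g = n * h := by
    intro g
    obtain ⟨n, hn, hna⟩ := hNtrans (g • a)
    refine ⟨n, hn, n⁻¹ * g, ?_, by group⟩
    rw [hmemH, mul_smul, ← hna, inv_smul_smul]
  obtain ⟨p, hp, hcomm, hexp⟩ := hyp.elementary
  refine ⟨⟨p, hp, ⟨⟨fun x y => Subtype.ext (hcomm x x.2 y y.2)⟩⟩, hexp⟩, ?_⟩
  intro M hM hM1
  exact hyp.le_of_normal hG M hM hM1

end Cfsg.Agent.S3356
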