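import Cfsg.Statements.S3357
import Cfsg.Agent.Lib.S4292.PA
import Cfsg.Agent.Lib.S4292.PB
import Cfsg.Agent.Lib.S4292.PC3
import Cfsg.Agent.Lib.S4292.PD1
import Cfsg.Agent.Lib.S3357.Q1
import Cfsg.Agent.Lib.S3357.Q2

set_option autoImplicit false
open Cfsg

namespace Cfsg.Agent.S3357

open Cfsg.Agent.S4292L Cfsg.Agent.S3357L

/-- Let G be a finite group that occurs as a Frobenius complement. Then G has a faithful irreducible representation over an algebraic closure of the rationals in which no non-identity element of G has 1 as an eigenvalue: there are n ≥ 1 and an injective homomorphism ρ from G to GL(n) over that field, with no invariant subspace other than 0 and the whole space, such that for g ≠ 1 the only vector fixed by ρ(g) is 0. -/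
theorem result {G : Type*} [Group G] [Finite G]
    (hFC : ∃ (L : Type) (_ : Group L) (_ : Finite L) (H : Subgroup L), Cfsg.IsFrobeniusComplement H ∧ Nonempty (G ≃* H)) :
    ∃ (n : ℕ) (ρ : G →* GL (Fin n) (AlgebraicClosure ℚ)), 0 < n ∧ Function.Injective ρ ∧
      (∀ W : Submodule (AlgebraicClosure ℚ) (Fin n → AlgebraicClosure ℚ),
        (∀ g : G, ∀ w ∈ W, ((ρ g : GL (Fin n) (AlgebraicClosure ℚ)) : Matrix (Fin n) (Fin n) (AlgebraicClosure ℚ)).mulVec w ∈ W) → W = ⊥ ∨ W = ⊤) ∧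
      ∀ g : G, g ≠ 1 → ∀ v : Fin n → AlgebraicClosure ℚ,
        ((ρ g : GL (Fin n) (AlgebraicClosure ℚ)) : Matrix (Fin n) (Fin n) (AlgebraicClosure ℚ)).mulVec v = v → v = 0 := by
  classical
  have hFC' : IsFC G := hFC
  obtain ⟨q, hq, hqG, hmod⟩ := PA_exists_fpfMod_of_isFC hFC'
  haveI : Fact q.Prime := ⟨hq⟩
  obtain ⟨d, hd, hmat⟩ := PB_fpfMat_of_fpfMod hmod
  have hlift : ∀ k, 1 ≤ k → HasFpfMat G (ZMod (q ^ k)) d :=
    fun k hk => PC_fpfMat_lift hqG hmat k hk
  have hchar : ∀ D : ℤ, (D : Lam G) = 0 → D = 0 :=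
    fun D hD => PD1_intCast_eq_zero hq hd hlift D hD
  obtain ⟨r, σ, hr, hσ⟩ := Q1_exists_int_rep hchar
  let ρ₀ : G →* Matrix (Fin r) (Fin r) (AlgebraicClosure ℚ) :=
    ((Int.castRingHom (AlgebraicClosure ℚ)).mapMatrix :
      Matrix (Fin r) (Fin r) ℤ →+* Matrix (Fin r) (Fin r) (AlgebraicClosure ℚ)).toMonoidHom.comp σ
  have hρ₀sum : ∀ a : G, a ≠ 1 → ∑ i ∈ Finset.range (orderOf a), ρ₀ (a ^ i) = 0 := by
    intro a ha
    have h1 : ∀ x : G, ρ₀ x = (Int.castRingHom (AlgebraicClosure ℚ)).mapMatrix (σ x) := fun _ => rfl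
    simp only [h1]
    rw [← map_sum, hσ a ha, map_zero]
  have hfpf₀ : ∀ a : G, a ≠ 1 → ∀ v : Fin r → AlgebraicClosure ℚ, (ρ₀ a).mulVec v = v → v = 0 := by
    intro a ha v hv
    have hpow : ∀ i : ℕ, (ρ₀ (a ^ i)).mulVec v = v := by
      intro i
      induction i with
      | zero => simp
      | succ i ih => rw [pow_succ, map_mul, ← Matrix.mulVec_mulVec, hv, ih]
    have h1 : (∑ i ∈ Finset.range (orderOf a), ρ₀ (a ^ i)).mulVec v = (orderOf a) • v := by
      rw [Matrix.sum_mulVec, Finset.sum_congr rfl (fun i _ => hpow i), Finset.sum_const,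
        Finset.card_range]
    rw [hρ₀sum a ha, Matrix.zero_mulVec] at h1
    have ho : orderOf a ≠ 0 := (orderOf_pos a).ne'
    exact (smul_eq_zero.mp h1.symm).resolve_left ho
  obtain ⟨n, ρ, j, hn, hj, hint, hirr⟩ := Q2_exists_irreducible_sub hr ρ₀
  have hfpf : ∀ g : G, g ≠ 1 → ∀ v : Fin n → AlgebraicClosure ℚ,
      ((ρ g : GL (Fin n) (AlgebraicClosure ℚ)) : Matrix (Fin n) (Fin n) (AlgebraicClosure ℚ)).mulVec v = v → v = 0 := by
    intro g hg v hv
    have h1 := hfpf₀ g hg (j v) (by rw [← hint, hv])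
    exact hj (h1.trans (map_zero j).symm)
  refine ⟨n, ρ, hn, ?_, hirr, hfpf⟩
  rw [injective_iff_map_eq_one]
  intro g hg
  by_contra hne
  have h1 := hfpf g hne (fun _ => 1) (by rw [hg]; simp)
  have h2 := congrFun h1 ⟨0, hn⟩
  simp at h2

end Cfsg.Agent.S3357
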