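import Mathlib
import Cfsg.Statements.S3362

set_option autoImplicit false
open Cfsg

namespace Cfsg.Agent.S3362

open Equiv Subgroup

/-! ### A verified stabilizer-chain step -/

section Generic

variable {X : Type*} {ι : Type*} (gen : ι → Perm X)

/-- evaluation of a word in the generators -/
def ev (w : List ι) : Perm X := (w.map gen).prod

theorem ev_nil : ev gen [] = 1 := rfl

theorem ev_cons (l : ι) (w : List ι) : ev gen (l :: w) = gen l * ev gen w := by simp [ev]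

theorem ev_append (w₁ w₂ : List ι) : ev gen (w₁ ++ w₂) = ev gen w₁ * ev gen w₂ := by simp [ev]

theorem ev_mem (A : Set ι) (w : List ι) (h : ∀ l ∈ w, l ∈ A) :
    ev gen w ∈ closure (gen '' A) := by
  induction w with
  | nil => exact one_mem _
  | cons l w ih =>
    rw [ev_cons]
    exact mul_mem (subset_closure ⟨l, h l List.mem_cons_self, rfl⟩)
      (ih fun x hx => h x (List.mem_cons_of_mem _ hx))

variable (tab : ι → X → X)

/-- action of a word on a point, through the table `tab` -/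
def act (w : List ι) (x : X) : X := w.foldr (fun l y => tab l y) x

theorem ev_apply (htab : ∀ l x, gen l x = tab l x) (w : List ι) (x : X) :
    ev gen w x = act tab w x := by
  induction w with
  | nil => rfl
  | cons l w ih =>
    rw [ev_cons, Perm.mul_apply, ih, htab]
    rfl

theorem ev_eq_of_act (htab : ∀ l x, gen l x = tab l x) (w₁ w₂ : List ι)
    (h : ∀ x, act tab w₁ x = act tab w₂ x) : ev gen w₁ = ev gen w₂ :=
  Equiv.ext fun x => by rw [ev_apply gen tab htab, ev_apply gen tab htab, h]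

theorem step [DecidableEq X] [Fintype X] (A B : Set ι) (hBA : B ⊆ A) (b : X) {m : ℕ} (pt : Fin m → X)
    (hpt : Function.Injective pt)
    (trw : Fin m → List ι) (htrA : ∀ i, ∀ l ∈ trw i, l ∈ A) (htr : ∀ i, ev gen (trw i) b = pt i)
    (i₀ : Fin m) (hi₀ : trw i₀ = [])
    (hBfix : ∀ l ∈ B, gen l b = b)
    (nxt : ι → Fin m → Fin m) (cert : ι → Fin m → List ι)
    (hcertB : ∀ l ∈ A, ∀ i, ∀ c ∈ cert l i, c ∈ B)
    (hstep : ∀ l ∈ A, ∀ i, gen l * ev gen (trw i) = ev gen (trw (nxt l i)) * ev gen (cert l i)) :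
    closure (gen '' A) ⊓ MulAction.stabilizer (Perm X) b = closure (gen '' B) ∧
    Nat.card (closure (gen '' A)) = m * Nat.card (closure (gen '' B)) ∧
    ∀ i, ∃ g ∈ closure (gen '' A), g b = pt i := by
  have hKG : closure (gen '' B) ≤ closure (gen '' A) := closure_mono (Set.image_mono hBA)
  have hKfix : ∀ k ∈ closure (gen '' B), k b = b := by
    have : closure (gen '' B) ≤ MulAction.stabilizer (Perm X) b := by
      rw [closure_le]
      rintro _ ⟨l, hl, rfl⟩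
      exact hBfix l hl
    intro k hk
    exact this hk
  have hb : pt i₀ = b := by
    rw [← htr i₀, hi₀, ev_nil]; rfl
  have htrG : ∀ i, ev gen (trw i) ∈ closure (gen '' A) := fun i => ev_mem gen A _ (htrA i)
  -- closure under left multiplication
  have key : ∀ g ∈ closure (gen '' A), ∀ i, ∀ k ∈ closure (gen '' B),
      ∃ j, ∃ k' ∈ closure (gen '' B), g * (ev gen (trw i) * k) = ev gen (trw j) * k' := by
    intro g hg
    induction hg using closure_induction with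
    | mem g hg =>
      obtain ⟨l, hl, rfl⟩ := hg
      intro i k hk
      refine ⟨nxt l i, ev gen (cert l i) * k, mul_mem (ev_mem gen B _ (hcertB l hl i)) hk, ?_⟩
      rw [← mul_assoc, hstep l hl i, mul_assoc]
    | one =>
      intro i k hk
      exact ⟨i, k, hk, one_mul _⟩
    | mul a c _ _ iha ihc =>
      intro i k hk
      obtain ⟨j, k', hk', h1⟩ := ihc i k hk
      obtain ⟨j', k'', hk'', h2⟩ := iha j k' hk'
      exact ⟨j', k'', hk'', by rw [mul_assoc, h1, h2]⟩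
    | inv a _ iha =>
      have hpow : ∀ n : ℕ, ∀ i, ∀ k ∈ closure (gen '' B),
          ∃ j, ∃ k' ∈ closure (gen '' B), a ^ n * (ev gen (trw i) * k) = ev gen (trw j) * k' := by
        intro n
        induction n with
        | zero =>
          intro i k hk
          exact ⟨i, k, hk, by rw [pow_zero, one_mul]⟩
        | succ n ihn =>
          intro i k hk
          obtain ⟨j, k', hk', h1⟩ := ihn i k hk
          obtain ⟨j', k'', hk'', h2⟩ := iha j k' hk'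
          exact ⟨j', k'', hk'', by rw [pow_succ', mul_assoc, h1, h2]⟩
      have hinv : a⁻¹ = a ^ (orderOf a - 1) := by
        apply inv_eq_of_mul_eq_one_right
        rw [← pow_succ']
        have : orderOf a - 1 + 1 = orderOf a := Nat.sub_add_cancel (orderOf_pos a)
        rw [this, pow_orderOf_eq_one]
      rw [hinv]
      exact hpow _
  have key' : ∀ g ∈ closure (gen '' A), ∃ j, ∃ k' ∈ closure (gen '' B),
      g = ev gen (trw j) * k' := by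
    intro g hg
    obtain ⟨j, k', hk', h⟩ := key g hg i₀ 1 (one_mem _)
    rw [hi₀, ev_nil, mul_one, mul_one] at h
    exact ⟨j, k', hk', h⟩
  refine ⟨?_, ?_, ?_⟩
  · apply le_antisymm
    · intro g hg
      obtain ⟨hgG, hgb⟩ := Subgroup.mem_inf.mp hg
      rw [MulAction.mem_stabilizer_iff, Perm.smul_def] at hgb
      obtain ⟨j, k', hk', rfl⟩ := key' g hgG
      rw [Perm.mul_apply, hKfix k' hk', htr j, ← hb] at hgb
      have hj : j = i₀ := hpt hgb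
      rw [hj, hi₀, ev_nil, one_mul]
      exact hk'
    · intro g hg
      refine Subgroup.mem_inf.mpr ⟨hKG hg, ?_⟩
      rw [MulAction.mem_stabilizer_iff, Perm.smul_def]
      exact hKfix g hg
  · have e : Fin m × closure (gen '' B) ≃ closure (gen '' A) := by
      refine Equiv.ofBijective
        (fun p => ⟨ev gen (trw p.1) * (p.2 : Perm X), mul_mem (htrG p.1) (hKG p.2.2)⟩) ⟨?_, ?_⟩
      · rintro ⟨i, k⟩ ⟨i', k'⟩ h
        have h1 : ev gen (trw i) * (k : Perm X) = ev gen (trw i') * (k' : Perm X) :=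
          congrArg Subtype.val h
        have h2 := congrArg (fun f : Perm X => f b) h1
        simp only [Perm.mul_apply, hKfix _ k.2, hKfix _ k'.2, htr] at h2
        have hi : i = i' := hpt h2
        subst hi
        have h3 : (k : Perm X) = (k' : Perm X) := mul_left_cancel h1
        rw [Subtype.ext h3]
      · rintro ⟨g, hg⟩
        obtain ⟨j, k', hk', rfl⟩ := key' g hg
        exact ⟨(j, ⟨k', hk'⟩), rfl⟩
    rw [← Nat.card_congr e, Nat.card_prod, Nat.card_fin]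
  · intro i
    exact ⟨_, htrG i, htr i⟩

end Generic

/-! ### The data -/

/-- `s` -/
def g0 : Perm (Fin 12) := Equiv.swap (3 : Fin 12) 5 * Equiv.swap (3 : Fin 12) 4 * Equiv.swap (6 : Fin 12) 8 * Equiv.swap (6 : Fin 12) 7 * Equiv.swap (9 : Fin 12) 11 * Equiv.swap (9 : Fin 12) 10
/-- `t` -/
def g1 : Perm (Fin 12) := Equiv.swap (3 : Fin 12) 9 * Equiv.swap (3 : Fin 12) 6 * Equiv.swap (4 : Fin 12) 10 * Equiv.swap (4 : Fin 12) 7 * Equiv.swap (5 : Fin 12) 11 * Equiv.swap (5 : Fin 12) 8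
/-- `u` -/
def g2 : Perm (Fin 12) := Equiv.swap (4 : Fin 12) 9 * Equiv.swap (4 : Fin 12) 5 * Equiv.swap (4 : Fin 12) 6 * Equiv.swap (7 : Fin 12) 10 * Equiv.swap (7 : Fin 12) 11 * Equiv.swap (7 : Fin 12) 8
/-- `v` -/
def g3 : Perm (Fin 12) := Equiv.swap (4 : Fin 12) 11 * Equiv.swap (4 : Fin 12) 5 * Equiv.swap (4 : Fin 12) 7 * Equiv.swap (6 : Fin 12) 8 * Equiv.swap (6 : Fin 12) 9 * Equiv.swap (6 : Fin 12) 10
/-- `w` -/
def g4 : Perm (Fin 12) := Equiv.swap (4 : Fin 12) 8 * Equiv.swap (4 : Fin 12) 5 * Equiv.swap (4 : Fin 12) 10 * Equiv.swap (6 : Fin 12) 7 * Equiv.swap (6 : Fin 12) 9 * Equiv.swap (6 : Fin 12) 11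
/-- `x₁` -/
def g5 : Perm (Fin 12) := Equiv.swap (0 : Fin 12) 3 * Equiv.swap (6 : Fin 12) 7 * Equiv.swap (8 : Fin 12) 10 * Equiv.swap (9 : Fin 12) 11
/-- `x₂` -/
def g6 : Perm (Fin 12) := Equiv.swap (0 : Fin 12) 1 * Equiv.swap (6 : Fin 12) 9 * Equiv.swap (7 : Fin 12) 10 * Equiv.swap (8 : Fin 12) 11
/-- `x₃` -/
def g7 : Perm (Fin 12) := Equiv.swap (1 : Fin 12) 2 * Equiv.swap (6 : Fin 12) 11 * Equiv.swap (7 : Fin 12) 9 * Equiv.swap (8 : Fin 12) 10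

/-- the eight generators -/
def gen : Fin 8 → Perm (Fin 12) := ![g0, g1, g2, g3, g4, g5, g6, g7]

def tab : Fin 8 → Fin 12 → Fin 12 := ![
  ![0, 1, 2, 4, 5, 3, 7, 8, 6, 10, 11, 9],
  ![0, 1, 2, 6, 7, 8, 9, 10, 11, 3, 4, 5],
  ![0, 1, 2, 3, 6, 9, 5, 8, 11, 4, 7, 10],
  ![0, 1, 2, 3, 7, 11, 10, 5, 6, 8, 9, 4],
  ![0, 1, 2, 3, 10, 8, 11, 6, 4, 7, 5, 9],
  ![3, 1, 2, 0, 4, 5, 7, 6, 10, 11, 8, 9],
  ![1, 0, 2, 3, 4, 5, 9, 10, 11, 6, 7, 8],
  ![0, 2, 1, 3, 4, 5, 11, 9, 10, 7, 8, 6]]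

def pt0 : Fin 12 → Fin 12 := ![2, 0, 1, 3, 4, 5, 6, 7, 8, 9, 10, 11]

def trw0 : Fin 12 → List (Fin 8) := ![[], [6, 7], [7], [5, 6, 7], [0, 5, 6, 7], [0, 0, 5, 6, 7], [1, 5, 6, 7], [1, 0, 5, 6, 7], [1, 0, 0, 5, 6, 7], [1, 1, 5, 6, 7], [4, 0, 5, 6, 7], [4, 1, 5, 6, 7]]

def nxt0 : Fin 8 → Fin 12 → Fin 12 := ![
  ![0, 1, 2, 4, 5, 3, 7, 8, 6, 10, 11, 9],
  ![0, 1, 2, 6, 7, 8, 9, 10, 11, 3, 4, 5],
  ![0, 1, 2, 3, 6, 9, 5, 8, 11, 4, 7, 10],
  ![0, 1, 2, 3, 7, 11, 10, 5, 6, 8, 9, 4],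
  ![0, 1, 2, 3, 10, 8, 11, 6, 4, 7, 5, 9],
  ![0, 3, 2, 1, 4, 5, 7, 6, 10, 11, 8, 9],
  ![0, 2, 1, 3, 4, 5, 9, 10, 11, 6, 7, 8],
  ![2, 1, 0, 3, 4, 5, 11, 9, 10, 7, 8, 6]]

def cert0 : Fin 8 → Fin 12 → List (Fin 8) := ![
  ![[0], [0], [0], [], [], [], [], [], [], [3, 4], [], [2]],
  ![[1], [1, 0], [1, 1, 0, 0], [], [], [], [], [3, 4], [3, 4], [], [2], [2]],
  ![[2], [3], [4, 2], [2, 3], [2, 3], [2, 3], [2, 3], [2, 3], [3], [2, 3], [3], [4]],
  ![[3], [2, 3], [3, 4], [3], [3], [4], [4], [3], [3], [3], [4], [4]],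
  ![[4], [3, 4], [2, 3], [2], [], [2], [], [2], [2], [2], [2, 2], [2, 2]],
  ![[5], [], [5], [], [2, 2, 0], [0, 2, 2], [4, 1, 3], [3, 1, 4], [3, 4, 1, 1], [1, 1, 0], [2, 0], [1, 0, 0]],
  ![[6], [], [], [5], [5], [5], [5], [5, 4, 2], [5, 4, 2], [5], [5, 2], [5, 2]],
  ![[], [6], [], [6], [6], [6], [6, 2], [6], [6, 2], [6], [6, 2], [6, 2]]]

def pt1 : Fin 11 → Fin 12 := ![1, 0, 3, 4, 5, 6, 7, 8, 9, 10, 11]

def trw1 : Fin 11 → List (Fin 8) := ![[], [6], [5, 6], [0, 5, 6], [0, 0, 5, 6], [1, 5, 6], [1, 0, 5, 6], [1, 0, 0, 5, 6], [1, 1, 5, 6], [4, 0, 5, 6], [4, 1, 5, 6]]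

def nxt1 : Fin 8 → Fin 11 → Fin 11 := ![
  ![0, 1, 3, 4, 2, 6, 7, 5, 9, 10, 8],
  ![0, 1, 5, 6, 7, 8, 9, 10, 2, 3, 4],
  ![0, 1, 2, 5, 8, 4, 7, 10, 3, 6, 9],
  ![0, 1, 2, 6, 10, 9, 4, 5, 7, 8, 3],
  ![0, 1, 2, 9, 7, 10, 5, 3, 6, 4, 8],
  ![0, 2, 1, 3, 4, 6, 5, 9, 10, 7, 8],
  ![1, 0, 2, 3, 4, 8, 9, 10, 5, 6, 7],
  ![0, 0, 0, 0, 0, 0, 0, 0, 0, 0, 0]]

def cert1 : Fin 8 → Fin 11 → List (Fin 8) := ![
  ![[0], [0], [], [], [], [], [], [], [3], [], [4, 2]],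
  ![[1], [1, 1], [], [], [], [], [3], [3], [], [4, 2], [4, 2]],
  ![[2], [3, 4], [4], [4], [4], [4], [4], [3, 4], [4], [3, 4], [2, 3]],
  ![[3], [4], [3, 4], [3, 4], [2, 3], [2, 3], [3, 4], [3, 4], [3, 4], [2, 3], [2, 3]],
  ![[4], [3], [4, 2], [], [4, 2], [], [4, 2], [4, 2], [4, 2], [2, 2], [2, 2]],
  ![[5], [], [], [2, 2, 0], [0, 2, 2], [1, 4, 2], [0, 3, 0], [3, 1, 0], [1, 0, 0], [4, 2, 0], [1, 1, 0]],
  ![[], [], [5], [5], [5], [5], [5, 2], [5, 2], [5], [5, 4, 2], [5, 4, 2]],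
  ![[], [], [], [], [], [], [], [], [], [], []]]

def pt2 : Fin 10 → Fin 12 := ![0, 3, 4, 5, 6, 7, 8, 9, 10, 11]

def trw2 : Fin 10 → List (Fin 8) := ![[], [5], [0, 5], [0, 0, 5], [1, 5], [1, 0, 5], [1, 0, 0, 5], [1, 1, 5], [4, 0, 5], [4, 1, 5]]

def nxt2 : Fin 8 → Fin 10 → Fin 10 := ![
  ![0, 2, 3, 1, 5, 6, 4, 8, 9, 7],
  ![0, 4, 5, 6, 7, 8, 9, 1, 2, 3],
  ![0, 1, 4, 7, 3, 6, 9, 2, 5, 8],
  ![0, 1, 5, 9, 8, 3, 4, 6, 7, 2],
  ![0, 1, 8, 6, 9, 4, 2, 5, 3, 7],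
  ![1, 0, 2, 3, 5, 4, 8, 9, 6, 7],
  ![0, 0, 0, 0, 0, 0, 0, 0, 0, 0],
  ![0, 0, 0, 0, 0, 0, 0, 0, 0, 0]]

def cert2 : Fin 8 → Fin 10 → List (Fin 8) := ![
  ![[0], [], [], [], [], [], [], [4], [], [2, 3]],
  ![[1], [], [], [], [], [4], [4], [], [2, 3], [2, 3]],
  ![[2], [3], [3], [3], [3], [3], [2], [3], [2], [4, 2]],
  ![[3], [2], [2], [4, 2], [4, 2], [2], [2], [2], [4, 2], [4, 2]],
  ![[4], [2, 3], [], [2, 3], [], [2, 3], [2, 3], [2, 3], [2, 2], [2, 2]],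
  ![[], [], [2, 2, 0], [0, 2, 2], [2, 3, 1, 0], [4, 1], [1, 4, 1], [1, 1, 0, 0], [2, 3, 0], [1, 0]],
  ![[], [], [], [], [], [], [], [], [], []],
  ![[], [], [], [], [], [], [], [], [], []]]

def pt3 : Fin 9 → Fin 12 := ![3, 4, 5, 6, 7, 8, 9, 10, 11]

def trw3 : Fin 9 → List (Fin 8) := ![[], [0], [0, 0], [1], [1, 0], [1, 0, 0], [1, 1], [4, 0], [4, 1]]

def nxt3 : Fin 8 → Fin 9 → Fin 9 := ![
  ![1, 2, 0, 4, 5, 3, 7, 8, 6],
  ![3, 4, 5, 6, 7, 8, 0, 1, 2],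
  ![0, 3, 6, 2, 5, 8, 1, 4, 7],
  ![0, 4, 8, 7, 2, 3, 5, 6, 1],
  ![0, 7, 5, 8, 3, 1, 4, 2, 6],
  ![0, 0, 0, 0, 0, 0, 0, 0, 0],
  ![0, 0, 0, 0, 0, 0, 0, 0, 0],
  ![0, 0, 0, 0, 0, 0, 0, 0, 0]]

def cert3 : Fin 8 → Fin 9 → List (Fin 8) := ![
  ![[], [], [], [], [], [], [2, 3], [], [4]],
  ![[], [], [], [], [2, 3], [2, 3], [], [4], [4]],
  ![[2], [2], [2], [2], [2], [3], [2], [3], [3, 4]],
  ![[3], [3], [3, 4], [3, 4], [3], [3], [3], [3, 4], [3, 4]],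
  ![[4], [], [4], [], [4], [4], [4], [2, 2], [2, 2]],
  ![[], [], [], [], [], [], [], [], []],
  ![[], [], [], [], [], [], [], [], []],
  ![[], [], [], [], [], [], [], [], []]]

def pt4 : Fin 8 → Fin 12 := ![4, 5, 6, 7, 8, 9, 10, 11]

def trw4 : Fin 8 → List (Fin 8) := ![[], [2, 2], [2], [3], [2, 3], [3, 4], [4], [4, 2]]

def nxt4 : Fin 8 → Fin 8 → Fin 8 := ![
  ![0, 0, 0, 0, 0, 0, 0, 0],
  ![0, 0, 0, 0, 0, 0, 0, 0],
  ![2, 5, 1, 4, 7, 0, 3, 6],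
  ![3, 7, 6, 1, 2, 4, 5, 0],
  ![6, 4, 7, 2, 0, 3, 1, 5],
  ![0, 0, 0, 0, 0, 0, 0, 0],
  ![0, 0, 0, 0, 0, 0, 0, 0],
  ![0, 0, 0, 0, 0, 0, 0, 0]]

def cert4 : Fin 8 → Fin 8 → List (Fin 8) := ![
  ![[], [], [], [], [], [], [], []],
  ![[], [], [], [], [], [], [], []],
  ![[], [], [], [], [], [], [], []],
  ![[], [], [], [], [], [], [], []],
  ![[], [], [], [], [], [], [], []],
  ![[], [], [], [], [], [], [], []],
  ![[], [], [], [], [], [], [], []],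
  ![[], [], [], [], [], [], [], []]]

theorem htab : ∀ l x, gen l x = tab l x := by decide +kernel

/-- index sets of the generators of the chain -/
def A0 : Finset (Fin 8) := {0, 1, 2, 3, 4, 5, 6, 7}
/-- `M₁₁` -/
def A1 : Finset (Fin 8) := {0, 1, 2, 3, 4, 5, 6}
/-- `M₁₀` -/
def A2 : Finset (Fin 8) := {0, 1, 2, 3, 4, 5}
/-- `M₉` -/
def A3 : Finset (Fin 8) := {0, 1, 2, 3, 4}
/-- `Q₈` -/
def A4 : Finset (Fin 8) := {2, 3, 4}
/-- trivial group -/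
def A5 : Finset (Fin 8) := ∅

/-- The checkable hypotheses of `step`. -/
def Check (A B : Finset (Fin 8)) (b : Fin 12) (m : ℕ) (pt : Fin m → Fin 12)
    (trw : Fin m → List (Fin 8)) (nxt : Fin 8 → Fin m → Fin m)
    (cert : Fin 8 → Fin m → List (Fin 8)) : Prop :=
  B ⊆ A ∧ Function.Injective pt ∧ (∀ i, ∀ l ∈ trw i, l ∈ A) ∧ (∀ i, act tab (trw i) b = pt i) ∧
  (∀ l ∈ B, tab l b = b) ∧ (∀ l ∈ A, ∀ i, ∀ c ∈ cert l i, c ∈ B) ∧
  (∀ l ∈ A, ∀ i, ∀ x, act tab (l :: trw i) x = act tab (trw (nxt l i) ++ cert l i) x)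

instance decCheck (A B : Finset (Fin 8)) (b : Fin 12) (m : ℕ) (pt : Fin m → Fin 12)
    (trw : Fin m → List (Fin 8)) (nxt : Fin 8 → Fin m → Fin m)
    (cert : Fin 8 → Fin m → List (Fin 8)) : Decidable (Check A B b m pt trw nxt cert) := by
  unfold Check
  infer_instance

theorem step' (A B : Finset (Fin 8)) (b : Fin 12) (m : ℕ) (hm : 0 < m) (pt : Fin m → Fin 12)
    (trw : Fin m → List (Fin 8)) (nxt : Fin 8 → Fin m → Fin m)
    (cert : Fin 8 → Fin m → List (Fin 8)) (h0 : trw ⟨0, hm⟩ = [])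
    (h : Check A B b m pt trw nxt cert) :
    closure (gen '' (A : Set (Fin 8))) ⊓ MulAction.stabilizer (Perm (Fin 12)) b =
      closure (gen '' (B : Set (Fin 8))) ∧
    Nat.card (closure (gen '' (A : Set (Fin 8)))) =
      m * Nat.card (closure (gen '' (B : Set (Fin 8)))) ∧
    ∀ i, ∃ g ∈ closure (gen '' (A : Set (Fin 8))), g b = pt i := by
  obtain ⟨h1, h2, h3, h4, h5, h6, h7⟩ := h
  refine step gen (A : Set (Fin 8)) (B : Set (Fin 8)) (by exact_mod_cast h1) b pt h2 trw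
    (fun i l hl => Finset.mem_coe.mpr (h3 i l hl)) (fun i => ?_) ⟨0, hm⟩ h0
    (fun l hl => ?_) nxt cert (fun l hl i c hc => Finset.mem_coe.mpr (h6 l (Finset.mem_coe.mp hl) i c hc))
    (fun l hl i => ?_)
  · rw [ev_apply gen tab htab, h4]
  · rw [htab, h5 l (Finset.mem_coe.mp hl)]
  · rw [← ev_cons, ← ev_append]
    exact ev_eq_of_act gen tab htab _ _ (h7 l (Finset.mem_coe.mp hl) i)

theorem check0 : Check A0 A1 2 12 pt0 trw0 nxt0 cert0 := by decide +kernel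
theorem check1 : Check A1 A2 1 11 pt1 trw1 nxt1 cert1 := by decide +kernel
theorem check2 : Check A2 A3 0 10 pt2 trw2 nxt2 cert2 := by decide +kernel
theorem check3 : Check A3 A4 3 9 pt3 trw3 nxt3 cert3 := by decide +kernel
theorem check4 : Check A4 A5 4 8 pt4 trw4 nxt4 cert4 := by decide +kernel


/-! ### The chain -/

/-- the groups of the chain -/
def G (A : Finset (Fin 8)) : Subgroup (Perm (Fin 12)) := closure (gen '' (A : Set (Fin 8)))

theorem chain0 : G A0 ⊓ MulAction.stabilizer (Perm (Fin 12)) (2 : Fin 12) = G A1 ∧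
    Nat.card (G A0) = 12 * Nat.card (G A1) :=
  ⟨(step' A0 A1 2 12 (by norm_num) pt0 trw0 nxt0 cert0 rfl check0).1,
   (step' A0 A1 2 12 (by norm_num) pt0 trw0 nxt0 cert0 rfl check0).2.1⟩
theorem chain1 : G A1 ⊓ MulAction.stabilizer (Perm (Fin 12)) (1 : Fin 12) = G A2 ∧
    Nat.card (G A1) = 11 * Nat.card (G A2) :=
  ⟨(step' A1 A2 1 11 (by norm_num) pt1 trw1 nxt1 cert1 rfl check1).1,
   (step' A1 A2 1 11 (by norm_num) pt1 trw1 nxt1 cert1 rfl check1).2.1⟩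
theorem chain2 : G A2 ⊓ MulAction.stabilizer (Perm (Fin 12)) (0 : Fin 12) = G A3 ∧
    Nat.card (G A2) = 10 * Nat.card (G A3) :=
  ⟨(step' A2 A3 0 10 (by norm_num) pt2 trw2 nxt2 cert2 rfl check2).1,
   (step' A2 A3 0 10 (by norm_num) pt2 trw2 nxt2 cert2 rfl check2).2.1⟩
theorem chain3 : G A3 ⊓ MulAction.stabilizer (Perm (Fin 12)) (3 : Fin 12) = G A4 ∧
    Nat.card (G A3) = 9 * Nat.card (G A4) :=
  ⟨(step' A3 A4 3 9 (by norm_num) pt3 trw3 nxt3 cert3 rfl check3).1,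
   (step' A3 A4 3 9 (by norm_num) pt3 trw3 nxt3 cert3 rfl check3).2.1⟩
theorem chain4 : G A4 ⊓ MulAction.stabilizer (Perm (Fin 12)) (4 : Fin 12) = G A5 ∧
    Nat.card (G A4) = 8 * Nat.card (G A5) :=
  ⟨(step' A4 A5 4 8 (by norm_num) pt4 trw4 nxt4 cert4 rfl check4).1,
   (step' A4 A5 4 8 (by norm_num) pt4 trw4 nxt4 cert4 rfl check4).2.1⟩

theorem G5_eq : G A5 = ⊥ := by
  simp [G, A5]

theorem card_G5 : Nat.card (G A5) = 1 := by rw [G5_eq, Subgroup.card_bot]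
theorem card_G4 : Nat.card (G A4) = 8 := by
  have := chain4.2
  rw [card_G5] at this
  exact this
theorem card_G3 : Nat.card (G A3) = 72 := by
  have := chain3.2
  rw [card_G4] at this
  exact this
theorem card_G2 : Nat.card (G A2) = 720 := by
  have := chain2.2
  rw [card_G3] at this
  exact this
theorem card_G1 : Nat.card (G A1) = 7920 := by
  have := chain1.2
  rw [card_G2] at this
  exact this
theorem card_G0 : Nat.card (G A0) = 95040 := by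
  have := chain0.2
  rw [card_G1] at this
  exact this

/-- the base `(2, 1, 0, 3, 4)` -/
def y0 : Fin 5 ↪ Fin 12 := ⟨![2, 1, 0, 3, 4], by decide⟩

theorem eq_one_of_fix (g : Perm (Fin 12)) (hg : g ∈ G A0) (h : ∀ i, g (y0 i) = y0 i) : g = 1 := by
  have st : ∀ x : Fin 12, g x = x → g ∈ MulAction.stabilizer (Perm (Fin 12)) x := by
    intro x hx
    rw [MulAction.mem_stabilizer_iff, Perm.smul_def]
    exact hx
  have h1 : g ∈ G A1 := by
    rw [← chain0.1]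
    exact Subgroup.mem_inf.mpr ⟨hg, st _ (h 0)⟩
  have h2 : g ∈ G A2 := by
    rw [← chain1.1]
    exact Subgroup.mem_inf.mpr ⟨h1, st _ (h 1)⟩
  have h3 : g ∈ G A3 := by
    rw [← chain2.1]
    exact Subgroup.mem_inf.mpr ⟨h2, st _ (h 2)⟩
  have h4 : g ∈ G A4 := by
    rw [← chain3.1]
    exact Subgroup.mem_inf.mpr ⟨h3, st _ (h 3)⟩
  have h5 : g ∈ G A5 := by
    rw [← chain4.1]
    exact Subgroup.mem_inf.mpr ⟨h4, st _ (h 4)⟩
  rw [G5_eq] at h5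
  exact Subgroup.mem_bot.mp h5

theorem inv_app (a : Perm (Fin 12)) (x : Fin 12) : a⁻¹ (a x) = x := a.symm_apply_apply x

theorem card_emb : Nat.card (Fin 5 ↪ Fin 12) = 95040 := by
  rw [Nat.card_eq_fintype_card, Fintype.card_embedding_eq, Fintype.card_fin, Fintype.card_fin]
  rfl

/-- every `5`-tuple of distinct points is the image of the base under some element -/
theorem exists_map (y : Fin 5 ↪ Fin 12) : ∃ g ∈ G A0, ∀ i, g (y0 i) = y i := by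
  obtain ⟨f, hf⟩ : ∃ f : G A0 → (Fin 5 ↪ Fin 12), ∀ g i, f g i = (g : Perm (Fin 12)) (y0 i) :=
    ⟨fun g => y0.trans (g : Perm (Fin 12)).toEmbedding, fun g i => rfl⟩
  have hinj : Function.Injective f := by
    intro g g' h
    have h1 : ∀ i, ((g' : Perm (Fin 12))⁻¹ * (g : Perm (Fin 12))) (y0 i) = y0 i := by
      intro i
      have := DFunLike.congr_fun h i
      rw [hf, hf] at this
      rw [Perm.mul_apply, this, inv_app]
    have h2 := eq_one_of_fix _ (mul_mem (inv_mem g'.2) g.2) h1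
    apply Subtype.ext
    exact (inv_mul_eq_one.mp h2).symm
  have hbij : Function.Bijective f :=
    hinj.bijective_of_nat_card_le (by rw [card_emb, card_G0])
  obtain ⟨g, hg⟩ := hbij.2 y
  exact ⟨g, g.2, fun i => by rw [← hf, hg]⟩

theorem pretrans : MulAction.IsMultiplyPretransitive (G A0) (Fin 12) 5 := by
  refine ⟨fun y y' => ?_⟩
  obtain ⟨a, ha, hay⟩ := exists_map y
  obtain ⟨c, hc, hcy⟩ := exists_map y'
  refine ⟨⟨c * a⁻¹, mul_mem hc (inv_mem ha)⟩, ?_⟩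
  apply Function.Embedding.ext
  intro i
  show (c * a⁻¹) (y i) = y' i
  rw [← hay, ← hcy, Perm.mul_apply, inv_app]

theorem stab_all (y : Fin 5 ↪ Fin 12) : MulAction.stabilizer (G A0) y = ⊥ := by
  obtain ⟨a, ha, hay⟩ := exists_map y
  rw [eq_bot_iff]
  intro g hg
  rw [MulAction.mem_stabilizer_iff] at hg
  rw [Subgroup.mem_bot]
  have hpt : ∀ i, (g : Perm (Fin 12)) (y i) = y i := fun i => DFunLike.congr_fun hg i
  have h1 : ∀ i, (a⁻¹ * (g : Perm (Fin 12)) * a) (y0 i) = y0 i := by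
    intro i
    rw [Perm.mul_apply, Perm.mul_apply, hay, hpt, ← hay, inv_app]
  have h2 := eq_one_of_fix _ (mul_mem (mul_mem (inv_mem ha) g.2) ha) h1
  apply Subtype.ext
  have : (g : Perm (Fin 12)) = a * (a⁻¹ * (g : Perm (Fin 12)) * a) * a⁻¹ := by group
  rw [this, h2]
  simp

theorem G0_eq : G A0 = closure {g0, g1, g2, g3, g4, g5, g6, g7} := by
  unfold G
  congr 1
  simp only [A0, Finset.coe_insert, Finset.coe_singleton, Set.image_insert_eq, Set.image_singleton]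
  rfl

theorem G1_eq : G A1 = closure {g0, g1, g2, g3, g4, g5, g6} := by
  unfold G
  congr 1
  simp only [A1, Finset.coe_insert, Finset.coe_singleton, Set.image_insert_eq, Set.image_singleton]
  rfl

/-- An explicit construction of the Mathieu groups of degrees 11 and 12. On the points 0, …, 11 let s = (3 4 5)(6 7 8)(9 10 11), t = (3 6 9)(4 7 10)(5 8 11), u = (4 6 5 9)(7 8 11 10), v = (4 7 5 11)(6 10 9 8), w = (4 10 5 8)(6 11 9 7), x₁ = (0 3)(6 7)(8 10)(9 11), x₂ = (0 1)(6 9)(7 10)(8 11), x₃ = (1 2)(6 11)(7 9)(8 10) (each written as a product of transpositions). Then the group M₁₂ generated by all eight permutations is sharply 5-transitive on the 12 points and has order 95040, and the group M₁₁ generated by the first seven has order 7920 and is the stabilizer of the point 2 in M₁₂. -/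
theorem result
    (s t u v w x₁ x₂ x₃ : Equiv.Perm (Fin 12))
    (hs : s = Equiv.swap (3 : Fin 12) 5 * Equiv.swap (3 : Fin 12) 4 * Equiv.swap (6 : Fin 12) 8 * Equiv.swap (6 : Fin 12) 7 * Equiv.swap (9 : Fin 12) 11 * Equiv.swap (9 : Fin 12) 10) (ht : t = Equiv.swap (3 : Fin 12) 9 * Equiv.swap (3 : Fin 12) 6 * Equiv.swap (4 : Fin 12) 10 * Equiv.swap (4 : Fin 12) 7 * Equiv.swap (5 : Fin 12) 11 * Equiv.swap (5 : Fin 12) 8)
    (hu : u = Equiv.swap (4 : Fin 12) 9 * Equiv.swap (4 : Fin 12) 5 * Equiv.swap (4 : Fin 12) 6 * Equiv.swap (7 : Fin 12) 10 * Equiv.swap (7 : Fin 12) 11 * Equiv.swap (7 : Fin 12) 8) (hv : v = Equiv.swap (4 : Fin 12) 11 * Equiv.swap (4 : Fin 12) 5 * Equiv.swap (4 : Fin 12) 7 * Equiv.swap (6 : Fin 12) 8 * Equiv.swap (6 : Fin 12) 9 * Equiv.swap (6 : Fin 12) 10) (hw : w = Equiv.swap (4 : Fin 12) 8 * Equiv.swap (4 : Fin 12) 5 * Equiv.swap (4 : Fin 12) 10 * Equiv.swap (6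 : Fin 12) 7 * Equiv.swap (6 : Fin 12) 9 * Equiv.swap (6 : Fin 12) 11)
    (hx₁ : x₁ = Equiv.swap (0 : Fin 12) 3 * Equiv.swap (6 : Fin 12) 7 * Equiv.swap (8 : Fin 12) 10 * Equiv.swap (9 : Fin 12) 11) (hx₂ : x₂ = Equiv.swap (0 : Fin 12) 1 * Equiv.swap (6 : Fin 12) 9 * Equiv.swap (7 : Fin 12) 10 * Equiv.swap (8 : Fin 12) 11)
    (hx₃ : x₃ = Equiv.swap (1 : Fin 12) 2 * Equiv.swap (6 : Fin 12) 11 * Equiv.swap (7 : Fin 12) 9 * Equiv.swap (8 : Fin 12) 10)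
    (M₁₂ M₁₁ : Subgroup (Equiv.Perm (Fin 12))) (hM₁₂ : M₁₂ = Subgroup.closure {s, t, u, v, w, x₁, x₂, x₃})
    (hM₁₁ : M₁₁ = Subgroup.closure {s, t, u, v, w, x₁, x₂}) :
    MulAction.IsMultiplyPretransitive M₁₂ (Fin 12) 5 ∧ (∀ y : Fin 5 ↪ Fin 12, MulAction.stabilizer M₁₂ y = ⊥) ∧
    Nat.card M₁₂ = 95040 ∧ Nat.card M₁₁ = 7920 ∧
    M₁₁ = M₁₂ ⊓ MulAction.stabilizer (Equiv.Perm (Fin 12)) (2 : Fin 12) := by
  subst hs ht hu hv hw hx₁ hx₂ hx₃
  have e0 : M₁₂ = G A0 := by rw [hM₁₂, G0_eq]; rfl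
  have e1 : M₁₁ = G A1 := by rw [hM₁₁, G1_eq]; rfl
  subst e0 e1
  refine ⟨pretrans, stab_all, card_G0, card_G1, ?_⟩
  exact chain0.1.symm

end Cfsg.Agent.S3362
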