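import Mathlib
import Cfsg.Statements.S3370
import Cfsg.Prelude.Def_CaseTheorems
import Cfsg.Agent.H2.UniqueOrderP

set_option autoImplicit false
open Cfsg

namespace Cfsg.Agent.S3370


section Part0

section nt

/-- if `x ^ 2 ≡ 1 [MOD M]` and `m` is odd then `x ^ m ≡ x [MOD M]` -/
theorem pow_odd_modEq {x M m : ℕ} (h : x ^ 2 ≡ 1 [MOD M]) (hm : Odd m) : x ^ m ≡ x [MOD M] := by
  obtain ⟨k, rfl⟩ := hm
  have h1 : (x ^ 2) ^ k ≡ 1 ^ k [MOD M] := h.pow k
  rw [one_pow] at h1
  have h2 : x ^ (2 * k + 1) = (x ^ 2) ^ k * x := by rw [pow_succ, pow_mul]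
  rw [h2]
  have := h1.mul_right x
  rwa [one_mul] at this

/-- `x = 2^s - 1`, `m` odd, `x^m + 1 = 2^n` forces `m = 1` -/
theorem odd_exp_plus {x s m n : ℕ} (hx : 2 ≤ x) (hxs : x + 1 = 2 ^ s) (hm : Odd m)
    (h : x ^ m + 1 = 2 ^ n) : m = 1 := by
  have hs : 1 ≤ s := by
    by_contra hs
    have : s = 0 := by omega
    rw [this] at hxs
    omega
  have hsq : x ^ 2 ≡ 1 [MOD 2 ^ (s + 1)] := by
    have hx' : x = 2 ^ s - 1 := by omega
    have h2s : 2 ≤ 2 ^ s := by
      calc 2 = 2 ^ 1 := by norm_num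
        _ ≤ 2 ^ s := Nat.pow_le_pow_right (by norm_num) hs
    have e : x ^ 2 = 2 ^ (s + 1) * (2 ^ (s - 1) - 1) + 1 := by
      obtain ⟨t, rfl⟩ : ∃ t, s = t + 1 := ⟨s - 1, by omega⟩
      simp only [Nat.add_sub_cancel]
      have h3 : 1 ≤ 2 ^ t := Nat.one_le_two_pow
      have h4 : 2 ^ (t + 1) = 2 * 2 ^ t := by ring
      have h5 : 2 ^ (t + 1 + 1) = 4 * 2 ^ t := by ring
      rw [hx', h4, h5]
      zify [h3, show 1 ≤ 2 * 2 ^ t by omega]
      ring
    rw [e]
    exact (Nat.modEq_iff_dvd' (by omega)).2 (by simp) |>.symm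
  have h1 := pow_odd_modEq hsq hm
  -- x^m + 1 ≡ x + 1 = 2^s mod 2^(s+1)
  have h2 : x ^ m + 1 ≡ 2 ^ s [MOD 2 ^ (s + 1)] := by
    rw [← hxs]
    exact h1.add_right 1
  rw [h] at h2
  have hns : n ≤ s := by
    by_contra hns
    have hdvd : 2 ^ (s + 1) ∣ 2 ^ n := Nat.pow_dvd_pow 2 (by omega)
    have h3 : 2 ^ n ≡ 0 [MOD 2 ^ (s + 1)] := (Nat.modEq_zero_iff_dvd).2 hdvd
    have h4 : 2 ^ s ≡ 0 [MOD 2 ^ (s + 1)] := h2.symm.trans h3
    have h5 : 2 ^ (s + 1) ∣ 2 ^ s := (Nat.modEq_zero_iff_dvd).1 h4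
    have h6 := Nat.le_of_dvd (by positivity) h5
    have h7 : 2 ^ s < 2 ^ (s + 1) := Nat.pow_lt_pow_right (by norm_num) (by omega)
    omega
  have h3 : 2 ^ n ≤ 2 ^ s := Nat.pow_le_pow_right (by norm_num) hns
  have h4 : x ^ m ≤ x := by omega
  by_contra hm1
  have hm2 : 2 ≤ m := by
    rcases hm with ⟨k, rfl⟩
    omega
  have h5 : x ^ 2 ≤ x ^ m := Nat.pow_le_pow_right (by omega) hm2
  nlinarith

end nt

end Part0

section Part1

section nt2

/-- `x = 2^s + 1`, `m` odd, `x^m = 2^n + 1` forces `m = 1` -/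
theorem odd_exp_minus {x s m n : ℕ} (hs : 1 ≤ s) (hxs : x = 2 ^ s + 1) (hm : Odd m)
    (h : x ^ m = 2 ^ n + 1) : m = 1 := by
  have hx : 3 ≤ x := by
    have : 2 ≤ 2 ^ s := by
      calc 2 = 2 ^ 1 := by norm_num
        _ ≤ 2 ^ s := Nat.pow_le_pow_right (by norm_num) hs
    omega
  have hsq : x ^ 2 ≡ 1 [MOD 2 ^ (s + 1)] := by
    have e : x ^ 2 = 2 ^ (s + 1) * (2 ^ (s - 1) + 1) + 1 := by
      obtain ⟨t, rfl⟩ : ∃ t, s = t + 1 := ⟨s - 1, by omega⟩
      simp only [Nat.add_sub_cancel]
      rw [hxs]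
      ring
    rw [e]
    exact (Nat.modEq_iff_dvd' (by omega)).2 (by simp) |>.symm
  have h1 := pow_odd_modEq hsq hm
  rw [h, hxs] at h1
  -- 2^n + 1 ≡ 2^s + 1
  have h2 : 2 ^ n ≡ 2 ^ s [MOD 2 ^ (s + 1)] := Nat.ModEq.add_right_cancel' 1 h1
  have hns : n ≤ s := by
    by_contra hns
    have hdvd : 2 ^ (s + 1) ∣ 2 ^ n := Nat.pow_dvd_pow 2 (by omega)
    have h3 : 2 ^ n ≡ 0 [MOD 2 ^ (s + 1)] := (Nat.modEq_zero_iff_dvd).2 hdvd
    have h4 : 2 ^ s ≡ 0 [MOD 2 ^ (s + 1)] := h2.symm.trans h3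
    have h5 : 2 ^ (s + 1) ∣ 2 ^ s := (Nat.modEq_zero_iff_dvd).1 h4
    have h6 := Nat.le_of_dvd (by positivity) h5
    have h7 : 2 ^ s < 2 ^ (s + 1) := Nat.pow_lt_pow_right (by norm_num) (by omega)
    omega
  have h3 : 2 ^ n ≤ 2 ^ s := Nat.pow_le_pow_right (by norm_num) hns
  have h4 : x ^ m ≤ x := by omega
  by_contra hm1
  have hm2 : 2 ≤ m := by
    rcases hm with ⟨k, rfl⟩
    omega
  have h5 : x ^ 2 ≤ x ^ m := Nat.pow_le_pow_right (by omega) hm2
  nlinarith

theorem nt_main {q n p j : ℕ} (hq : q.Prime) (hp : p.Prime) (hn : 1 ≤ n) (hj : 1 ≤ j)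
    (h : q ^ n = p ^ j + 1) :
    (q = 2 ∧ j = 1) ∨ (p = 2 ∧ n = 1) ∨ (p = 2 ∧ q = 3 ∧ n = 2) := by
  by_cases hq2 : q = 2
  · left
    refine ⟨hq2, ?_⟩
    subst hq2
    have hpodd : Odd p := by
      rcases hp.eq_two_or_odd' with h2 | h2
      · exfalso
        subst h2
        have h1 : Even (2 ^ n) := (Nat.even_pow' (by omega)).2 (by norm_num)
        have h2 : Even (2 ^ j) := (Nat.even_pow' (by omega)).2 (by norm_num)
        rw [h] at h1
        rw [Nat.even_add_one] at h1
        exact h1 h2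
      · exact h2
    rcases Nat.even_or_odd j with hje | hjo
    · exfalso
      obtain ⟨k, rfl⟩ := hje
      have hk : 1 ≤ k := by omega
      have hodd : Odd (p ^ k) := hpodd.pow
      obtain ⟨t, ht⟩ := hodd
      have e : p ^ (k + k) = 4 * (t * t + t) + 1 := by
        rw [pow_add, ht]; ring
      rw [e] at h
      have hn1 : n = 1 := by
        by_contra hn1
        have : 4 ∣ 2 ^ n := by
          have : (4 : ℕ) = 2 ^ 2 := by norm_num
          rw [this]
          exact Nat.pow_dvd_pow 2 (by omega)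
        omega
      subst hn1
      have : t * t + t = 0 := by omega
      have ht0 : t = 0 := by nlinarith
      subst ht0
      have : 1 < p ^ k := Nat.one_lt_pow (by omega) hp.one_lt
      omega
    · have hdvd : p + 1 ∣ p ^ j + 1 := by
        have := Odd.nat_add_dvd_pow_add_pow p 1 hjo
        rwa [one_pow] at this
      rw [← h] at hdvd
      obtain ⟨s, _, hs⟩ := (Nat.dvd_prime_pow Nat.prime_two).1 hdvd
      exact odd_exp_plus hp.two_le hs hjo h.symm
  · right
    have hqodd : Odd q := hq.odd_of_ne_two hq2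
    have hp2 : p = 2 := by
      have h1 : Odd (q ^ n) := hqodd.pow
      rw [h, Nat.odd_add_one, Nat.not_odd_iff_even] at h1
      have := (Nat.even_pow.1 h1).1
      exact (hp.even_iff.1 this)
    subst hp2
    by_cases hn1 : n = 1
    · exact Or.inl ⟨rfl, hn1⟩
    · right
      refine ⟨rfl, ?_⟩
      rcases Nat.even_or_odd n with hne | hno
      · obtain ⟨k, rfl⟩ := hne
        have hk : 1 ≤ k := by omega
        have hqk : 3 ≤ q ^ k := by
          have : 3 ≤ q := by
            have := hq.two_le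
            omega
          calc 3 ≤ q := this
            _ = q ^ 1 := (pow_one q).symm
            _ ≤ q ^ k := Nat.pow_le_pow_right (by omega) hk
        have e : (q ^ k - 1) * (q ^ k + 1) = 2 ^ j := by
          have hqq : q ^ (k + k) = q ^ k * q ^ k := pow_add q k k
          have hyy : q ^ k * q ^ k = 2 ^ j + 1 := by rw [← hqq, h]
          obtain ⟨u, hu⟩ : ∃ u, q ^ k = u + 1 := ⟨q ^ k - 1, by omega⟩
          rw [hu] at hyy ⊢
          simp only [Nat.add_sub_cancel]
          nlinarith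
        have d1 : q ^ k - 1 ∣ 2 ^ j := Dvd.intro _ e
        have d2 : q ^ k + 1 ∣ 2 ^ j := Dvd.intro_left _ e
        obtain ⟨s, _, hs⟩ := (Nat.dvd_prime_pow Nat.prime_two).1 d1
        obtain ⟨t, _, ht⟩ := (Nat.dvd_prime_pow Nat.prime_two).1 d2
        have hst : 2 ^ t = 2 ^ s + 2 := by omega
        have hs1 : s = 1 := by
          by_contra hs1
          have hs2 : 2 ≤ s := by
            rcases Nat.lt_or_ge s 2 with h' | h'
            · interval_cases s
              · simp at hs; omega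
              · exact absurd rfl hs1
            · exact h'
          have hts : s < t := by
            by_contra hts
            have : 2 ^ t ≤ 2 ^ s := Nat.pow_le_pow_right (by norm_num) (by omega)
            omega
          have h4s : 4 ∣ 2 ^ s := by
            have : (4 : ℕ) = 2 ^ 2 := by norm_num
            rw [this]; exact Nat.pow_dvd_pow 2 hs2
          have h4t : 4 ∣ 2 ^ t := by
            have : (4 : ℕ) = 2 ^ 2 := by norm_num
            rw [this]; exact Nat.pow_dvd_pow 2 (by omega)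
          omega
        subst hs1
        have hqk3 : q ^ k = 3 := by omega
        have hq3 : q = 3 := by
          have : q ∣ 3 := by
            rw [← hqk3]
            exact dvd_pow_self q (by omega)
          exact (Nat.prime_dvd_prime_iff_eq hq Nat.prime_three).1 this
        subst hq3
        have hk1 : k = 1 := by
          have : 3 ^ k = 3 ^ 1 := by rw [hqk3]; norm_num
          exact Nat.pow_right_injective (by norm_num : 2 ≤ 3) this
        subst hk1
        exact ⟨rfl, rfl⟩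
      · exfalso
        have hdvd : q - 1 ∣ q ^ n - 1 := by
          have := Nat.sub_dvd_pow_sub_pow q 1 n
          rwa [one_pow] at this
        have h1 : q ^ n - 1 = 2 ^ j := by rw [h, Nat.add_sub_cancel]
        rw [h1] at hdvd
        obtain ⟨s, _, hs⟩ := (Nat.dvd_prime_pow Nat.prime_two).1 hdvd
        have hq3 : 3 ≤ q := by
          have := hq.two_le
          omega
        have hs1 : 1 ≤ s := by
          by_contra hs0
          have : s = 0 := by omega
          subst this
          simp at hs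
          omega
        have hqs : q = 2 ^ s + 1 := by omega
        exact hn1 (odd_exp_minus hs1 hqs hno h)

end nt2

end Part1

section Part2

section setup

variable {q : ℕ} [Fact q.Prime] {V : Type*} [AddCommGroup V] [Module (ZMod q) V]
  {G : Type*} [Group G] (ρ : G →* (V ≃ₗ[ZMod q] V))

/-- the action on non-zero vectors -/
def actNZ : MulAction G {v : V // v ≠ 0} where
  smul g v := ⟨ρ g v.1, fun h => v.2 ((ρ g).map_eq_zero_iff.1 h)⟩
  one_smul v := by
    apply Subtype.ext
    show ρ 1 v.1 = v.1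
    rw [map_one]; rfl
  mul_smul g h v := by
    apply Subtype.ext
    show ρ (g * h) v.1 = ρ g (ρ h v.1)
    rw [map_mul]; rfl

theorem actNZ_smul (g : G) (v : {v : V // v ≠ 0}) :
    ((actNZ ρ).smul g v).1 = ρ g v.1 := rfl

variable [Finite V] [Finite G]

theorem card_nz : Nat.card {v : V // v ≠ 0} = Nat.card V - 1 := by
  classical
  haveI := Fintype.ofFinite V
  rw [Nat.card_eq_fintype_card, Nat.card_eq_fintype_card,
    Fintype.card_subtype_compl (fun v : V => v = 0), Fintype.card_subtype_eq]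

/-- orbit–stabilizer for a transitive action on nonzero vectors -/
theorem card_stab_mul (htrans : ∀ v w : V, v ≠ 0 → w ≠ 0 → ∃ g : G, ρ g v = w) (v0 : V)
    (hv0 : v0 ≠ 0) :
    (Nat.card V - 1) * Nat.card {g : G // ρ g v0 = v0} = Nat.card G := by
  classical
  letI := actNZ ρ
  have h1 : Nat.card (MulAction.orbit G (⟨v0, hv0⟩ : {v : V // v ≠ 0})) *
      Nat.card (MulAction.stabilizer G (⟨v0, hv0⟩ : {v : V // v ≠ 0})) = Nat.card G := by
    rw [← Nat.card_prod]
    exact Nat.card_congr (MulAction.orbitProdStabilizerEquivGroup G _)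
  have h2 : MulAction.orbit G (⟨v0, hv0⟩ : {v : V // v ≠ 0}) = Set.univ := by
    ext w
    simp only [Set.mem_univ, iff_true]
    obtain ⟨g, hg⟩ := htrans v0 w.1 hv0 w.2
    exact ⟨g, Subtype.ext hg⟩
  have h3 : Nat.card (MulAction.orbit G (⟨v0, hv0⟩ : {v : V // v ≠ 0})) = Nat.card V - 1 := by
    rw [h2, Nat.card_congr (Equiv.Set.univ _), card_nz]
  have h4 : Nat.card (MulAction.stabilizer G (⟨v0, hv0⟩ : {v : V // v ≠ 0})) =
      Nat.card {g : G // ρ g v0 = v0} := by
    apply Nat.card_congr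
    refine Equiv.subtypeEquivRight (fun g => ?_)
    rw [MulAction.mem_stabilizer_iff]
    constructor
    · intro h
      exact congrArg Subtype.val h
    · intro h
      exact Subtype.ext h
  rw [← h3, ← h4]
  exact h1

/-- a faithful action embeds `G` in the permutations of nonzero vectors -/
theorem card_dvd_factorial (hρ : Function.Injective ρ) :
    Nat.card G ∣ (Nat.card V - 1).factorial := by
  classical
  letI := actNZ ρ
  haveI := Fintype.ofFinite {v : V // v ≠ 0}
  have hinj : Function.Injective (MulAction.toPermHom G {v : V // v ≠ 0}) := by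
    intro g h hgh
    apply hρ
    ext v
    by_cases hv : v = 0
    · rw [hv, map_zero, map_zero]
    · have := congrArg (fun σ : Equiv.Perm {v : V // v ≠ 0} => (σ ⟨v, hv⟩).1) hgh
      exact this
  have h1 := Subgroup.card_subgroup_dvd_card (MulAction.toPermHom G {v : V // v ≠ 0}).range
  rw [← Nat.card_congr (MonoidHom.ofInjective hinj).toEquiv] at h1
  have h2 : Nat.card (Equiv.Perm {v : V // v ≠ 0}) = (Nat.card V - 1).factorial := by
    rw [Nat.card_eq_fintype_card, Fintype.card_perm, ← Nat.card_eq_fintype_card, card_nz]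
  rwa [h2] at h1

end setup

end Part2

section Part3

open Cfsg

section gl23

abbrev GL3 := Matrix.GeneralLinearGroup (Fin 2) (ZMod 3)

def X8 : GL3 := ⟨!![0, 1; 1, 1], !![2, 1; 1, 0], by decide, by decide⟩
def Y2 : GL3 := ⟨!![1, 1; 0, 2], !![1, 1; 0, 2], by decide, by decide⟩

theorem X8_pow4 : ¬ X8 ^ 2 ^ 2 = 1 := by decide
theorem X8_pow8 : X8 ^ 2 ^ (2 + 1) = 1 := by decide
theorem orderOf_X8 : orderOf X8 = 8 := orderOf_eq_prime_pow X8_pow4 X8_pow8
theorem Y2_sq : Y2 ^ 2 = 1 := by decide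
theorem Y2_ne : Y2 ≠ 1 := by decide
theorem Y2_conj : Y2 * X8 * Y2⁻¹ = X8 ^ 3 := by decide

set_option maxRecDepth 100000 in
theorem normalizer_X8 : ∀ u : GL3, (∃ i : Fin 8, u * X8 * u⁻¹ = X8 ^ (i : ℕ)) →
    ∃ i : Fin 8, ∃ j : Fin 2, u = X8 ^ (i : ℕ) * Y2 ^ (j : ℕ) := by
  decide +kernel

theorem card_GL3 : Nat.card GL3 = 48 := by
  have := Matrix.card_GL_field (𝔽 := ZMod 3) 2
  rw [this]
  simp [Fin.prod_univ_two, ZMod.card]

end gl23

end Part3

section Part4

open Cfsg

section sd16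

theorem fact_48 : (48 : ℕ).factorization 2 = 4 := by
  have h : (48 : ℕ) = 2 ^ 4 * 3 := by norm_num
  rw [h, Nat.factorization_mul (by norm_num) (by norm_num), Nat.Prime.factorization_pow Nat.prime_two]
  simp [Nat.factorization_eq_zero_of_not_dvd (show ¬ 2 ∣ 3 by norm_num)]

theorem isQuasiDihedral_of_equiv {A B : Type*} [Group A] [Group B] (e : A ≃* B)
    (h : IsQuasiDihedral A) : IsQuasiDihedral B := by
  obtain ⟨n, hn, hcard, x, y, hx, hy, hxy⟩ := h
  refine ⟨n, hn, by rw [← Nat.card_congr e.toEquiv, hcard], e x, e y, ?_, ?_, ?_⟩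
  · rw [MulEquiv.orderOf_eq, hx]
  · rw [MulEquiv.orderOf_eq, hy]
  · rw [← map_inv, ← map_mul, ← map_mul, hxy, map_pow]

theorem sd16 {G : Type*} [Group G] [Finite G] (f : G →* GL3) (hf : Function.Injective f)
    (hcard : Nat.card G = 16) : IsQuasiDihedral G := by
  classical
  haveI : Fact (Nat.Prime 2) := ⟨Nat.prime_two⟩
  haveI : Finite GL3 := Nat.finite_of_card_ne_zero (by rw [card_GL3]; norm_num)
  -- the image of G is a Sylow 2-subgroup
  let e0 : G ≃* f.range := MonoidHom.ofInjective hf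
  have hP : Nat.card f.range = 2 ^ (Nat.card GL3).factorization 2 := by
    rw [card_GL3, fact_48, ← Nat.card_congr e0.toEquiv, hcard]; norm_num
  let P : Sylow 2 GL3 := Sylow.ofCard f.range hP
  -- a Sylow 2-subgroup containing X8
  have hzp : IsPGroup 2 (Subgroup.zpowers X8) := by
    apply IsPGroup.of_card (n := 3)
    rw [Nat.card_zpowers, orderOf_X8]; norm_num
  obtain ⟨Q, hQ⟩ := hzp.exists_le_sylow
  obtain ⟨g, hg⟩ := MulAction.exists_smul_eq GL3 P Q
  have e1 : P ≃* (g • P : Sylow 2 GL3) := Sylow.equivSMul P g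
  have e2 : (Q : Subgroup GL3) ≃* G := by
    rw [← hg]
    exact e1.symm.trans e0.symm
  have hQcard : Nat.card (Q : Subgroup GL3) = 16 := by
    rw [Nat.card_congr e2.toEquiv, hcard]
  have hXQ : X8 ∈ (Q : Subgroup GL3) := hQ (Subgroup.mem_zpowers X8)
  -- zpowers X8 is normal in Q (index 2)
  have hidx : ((Subgroup.zpowers X8).subgroupOf (Q : Subgroup GL3)).index = 2 := by
    have h1 := Subgroup.card_mul_index ((Subgroup.zpowers X8).subgroupOf (Q : Subgroup GL3))
    rw [hQcard, Nat.card_congr (Subgroup.subgroupOfEquivOfLe hQ).toEquiv, Nat.card_zpowers,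
      orderOf_X8] at h1
    omega
  haveI hnorm : ((Subgroup.zpowers X8).subgroupOf (Q : Subgroup GL3)).Normal :=
    Subgroup.normal_of_index_eq_two hidx
  have hconj : ∀ w ∈ (Q : Subgroup GL3), ∃ i : Fin 8, w * X8 * w⁻¹ = X8 ^ (i : ℕ) := by
    intro w hw
    have h1 := hnorm.conj_mem ⟨X8, hXQ⟩ (by
      rw [Subgroup.mem_subgroupOf]; exact Subgroup.mem_zpowers X8) ⟨w, hw⟩
    rw [Subgroup.mem_subgroupOf] at h1
    have h2 : w * X8 * w⁻¹ ∈ Subgroup.zpowers X8 := h1
    rw [Subgroup.mem_zpowers_iff] at h2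
    obtain ⟨k, hk⟩ := h2
    rw [← zpow_mod_orderOf, orderOf_X8] at hk
    have hk0 : 0 ≤ k % (8 : ℤ) := Int.emod_nonneg _ (by norm_num)
    have hk8 : k % (8 : ℤ) < 8 := Int.emod_lt_of_pos _ (by norm_num)
    refine ⟨⟨(k % 8).toNat, by omega⟩, ?_⟩
    rw [← hk]
    show X8 ^ (k % (8 : ℤ)) = X8 ^ ((k % 8).toNat)
    conv_lhs => rw [← Int.toNat_of_nonneg hk0]
    rw [zpow_natCast]
  -- an element of Q outside zpowers X8
  have hlt : Subgroup.zpowers X8 < (Q : Subgroup GL3) := by
    refine lt_of_le_of_ne hQ (fun h => ?_)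
    have := congrArg (fun H : Subgroup GL3 => Nat.card H) h
    beta_reduce at this
    rw [hQcard, Nat.card_zpowers, orderOf_X8] at this
    omega
  obtain ⟨w, hwQ, hwX⟩ := SetLike.exists_of_lt hlt
  obtain ⟨i, j, hij⟩ := normalizer_X8 w (hconj w hwQ)
  have hYQ : Y2 ∈ (Q : Subgroup GL3) := by
    have hj : (j : ℕ) = 1 := by
      by_contra hj
      have hj0 : (j : ℕ) = 0 := by omega
      rw [hj0, pow_zero, mul_one] at hij
      exact hwX (hij ▸ Subgroup.pow_mem _ (Subgroup.mem_zpowers X8) _)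
    rw [hj, pow_one] at hij
    have : Y2 = (X8 ^ (i : ℕ))⁻¹ * w := by rw [hij]; group
    rw [this]
    exact Subgroup.mul_mem _ (Subgroup.inv_mem _ (Subgroup.pow_mem _ hXQ _)) hwQ
  -- Q is quasi-dihedral
  have hQD : IsQuasiDihedral (Q : Subgroup GL3) := by
    refine ⟨3, le_refl _, by rw [hQcard]; norm_num, ⟨X8, hXQ⟩, ⟨Y2, hYQ⟩, ?_, ?_, ?_⟩
    · rw [Subgroup.orderOf_mk, orderOf_X8]; norm_num
    · rw [Subgroup.orderOf_mk]
      haveI : Fact (Nat.Prime 2) := ⟨Nat.prime_two⟩
      exact orderOf_eq_prime Y2_sq Y2_ne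
    · apply Subtype.ext
      show Y2 * X8 * Y2⁻¹ = X8 ^ (2 ^ (3 - 1) - 1)
      rw [Y2_conj]; norm_num
  exact isQuasiDihedral_of_equiv e2 hQD

end sd16

end Part4

section Part5

open Cfsg

section cases

variable {q : ℕ} [Fact q.Prime] {V : Type*} [AddCommGroup V] [Module (ZMod q) V] [Finite V]
  {G : Type*} [Group G] [Finite G] (ρ : G →* (V ≃ₗ[ZMod q] V))

/-- dimension one: the stabilizer of a nonzero vector is trivial and `G` is cyclic -/
theorem dim_one (hρ : Function.Injective ρ) (h1 : Module.finrank (ZMod q) V = 1) (v0 : V)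
    (hv0 : v0 ≠ 0) : (∀ g : G, ρ g v0 = v0 → g = 1) ∧ IsCyclic G := by
  have hspan := (finrank_eq_one_iff_of_nonzero' v0 hv0).1 h1
  have hstab : ∀ g : G, ρ g v0 = v0 → g = 1 := by
    intro g hg
    apply hρ
    rw [map_one]
    ext w
    obtain ⟨c, rfl⟩ := hspan w
    rw [map_smul, hg]; rfl
  refine ⟨hstab, ?_⟩
  choose c hc using fun g : G => hspan (ρ g v0)
  have hinj0 := smul_left_injective (ZMod q) hv0
  let χ : G →* ZMod q :=
    { toFun := c
      map_one' := by
        apply hinj0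
        show c 1 • v0 = (1 : ZMod q) • v0
        rw [hc, map_one, one_smul]; rfl
      map_mul' := fun g h => by
        apply hinj0
        show c (g * h) • v0 = (c g * c h) • v0
        rw [hc, map_mul, mul_comm, mul_smul, hc]
        show ρ g (ρ h v0) = c h • ρ g v0
        rw [← hc h, map_smul] }
  have hχ : Function.Injective χ := by
    intro g h hgh
    have h2 : ρ g v0 = ρ h v0 := by
      rw [← hc g, ← hc h]
      show χ g • v0 = χ h • v0
      rw [hgh]
    have h3 : ρ (g⁻¹ * h) v0 = v0 := by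
      rw [map_mul, map_inv]
      show (ρ g)⁻¹ (ρ h v0) = v0
      rw [← h2]
      exact (ρ g).symm_apply_apply v0
    have := hstab _ h3
    exact inv_mul_eq_one.1 this
  exact isCyclic_of_injective_ringHom χ hχ

end cases

end Part5

section Part6

open Cfsg

section regular

variable {q : ℕ} [Fact q.Prime] {V : Type*} [AddCommGroup V] [Module (ZMod q) V] [Finite V]
  {G : Type*} [Group G] [Finite G] (ρ : G →* (V ≃ₗ[ZMod q] V))

/-- a regular 2-group has a unique involution, hence is cyclic or quaternion -/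
theorem regular_case (hρ : Function.Injective ρ) (hG : IsPGroup 2 G)
    (hreg : ∀ v : V, v ≠ 0 → ∀ g : G, ρ g v = v → g = 1) :
    IsCyclic G ∨ ∃ n : ℕ, Nonempty (G ≃* QuaternionGroup (2 ^ n)) := by
  classical
  haveI : Fact (Nat.Prime 2) := ⟨Nat.prime_two⟩
  -- involutions act as -1
  have hinv : ∀ t : G, t ≠ 1 → t ^ 2 = 1 → ∀ v : V, ρ t v = -v := by
    intro t ht1 ht2 v
    have h2 : ρ t (ρ t v) = v := by
      have : ρ (t ^ 2) v = v := by rw [ht2, map_one]; rfl
      rwa [pow_two, map_mul] at this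
    by_contra hne
    have hw : v + ρ t v ≠ 0 := fun h => hne (eq_neg_of_add_eq_zero_right h)
    have hfix : ρ t (v + ρ t v) = v + ρ t v := by
      rw [map_add, h2, add_comm]
    exact ht1 (hreg _ hw t hfix)
  have huniq_inv : ∀ s t : G, s ≠ 1 → s ^ 2 = 1 → t ≠ 1 → t ^ 2 = 1 → s = t := by
    intro s t hs1 hs2 ht1 ht2
    apply hρ
    ext v
    rw [hinv s hs1 hs2, hinv t ht1 ht2]
  have hmain := Cfsg.Agent.H2.UOP.main (G := G) 2 hG (by
    intro H K hH hK
    -- each has a unique nonidentity element, an involution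
    obtain ⟨y, hy1, hy⟩ := (Nat.card_eq_two_iff' (1 : H)).1 hH
    obtain ⟨z, hz1, hz⟩ := (Nat.card_eq_two_iff' (1 : K)).1 hK
    have hy2 : (y : G) ^ 2 = 1 := by
      have := pow_card_eq_one' (G := H) (x := y)
      rw [hH] at this
      exact_mod_cast congrArg Subtype.val this
    have hz2 : (z : G) ^ 2 = 1 := by
      have := pow_card_eq_one' (G := K) (x := z)
      rw [hK] at this
      exact_mod_cast congrArg Subtype.val this
    have hyz : (y : G) = z := huniq_inv _ _ (fun h => hy1 (Subtype.ext h)) hy2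
      (fun h => hz1 (Subtype.ext h)) hz2
    ext x
    constructor
    · intro hx
      by_cases hx1 : x = 1
      · rw [hx1]; exact K.one_mem
      · have : (⟨x, hx⟩ : H) = y := hy _ (fun h => hx1 (congrArg Subtype.val h))
        have hxy : x = y := congrArg Subtype.val this
        rw [hxy, hyz]; exact z.2
    · intro hx
      by_cases hx1 : x = 1
      · rw [hx1]; exact H.one_mem
      · have : (⟨x, hx⟩ : K) = z := hz _ (fun h => hx1 (congrArg Subtype.val h))
        have hxz : x = z := congrArg Subtype.val this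
        rw [hxz, ← hyz]; exact y.2)
  rcases hmain with h | ⟨_, h⟩
  · exact Or.inl h
  · exact Or.inr h

end regular

end Part6

section Part7

open Cfsg

theorem result (q : ℕ) [Fact q.Prime] {V : Type*} [AddCommGroup V] [Module (ZMod q) V] [Finite V] [Nontrivial V]
    {G : Type*} [Group G] [Finite G] [Nontrivial G] (p : ℕ) [Fact p.Prime] (hG : IsPGroup p G)
    (ρ : G →* (V ≃ₗ[ZMod q] V)) (hρ : Function.Injective ρ)
    (htrans : ∀ v w : V, v ≠ 0 → w ≠ 0 → ∃ g : G, ρ g v = w) :
    (q = 2 ∧ p = Nat.card V - 1 ∧ Nat.card G = p) ∨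
    (p = 2 ∧ Nat.card V = q ∧ (∃ m : ℕ, q = 2 ^ m + 1 ∧ Nat.card G = 2 ^ m) ∧ IsCyclic G) ∨
    (p = 2 ∧ q = 3 ∧ Nat.card V = 9 ∧
      ((IsCyclic G ∧ Nat.card G = 8) ∨ Nonempty (G ≃* QuaternionGroup 2) ∨ (Cfsg.IsQuasiDihedral G ∧ Nat.card G = 16))) := by
  classical
  have hq : q.Prime := Fact.out
  have hp : p.Prime := Fact.out
  haveI := Fintype.ofFinite V
  have hcardV : Nat.card V = q ^ Module.finrank (ZMod q) V := by
    rw [Nat.card_eq_fintype_card, Module.card_eq_pow_finrank (K := ZMod q) (V := V), ZMod.card]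
  have hn1 : 1 ≤ Module.finrank (ZMod q) V := Module.finrank_pos
  obtain ⟨v0, hv0⟩ := exists_ne (0 : V)
  have hos := card_stab_mul ρ htrans v0 hv0
  obtain ⟨k, hk⟩ := IsPGroup.iff_card.1 hG
  have hdvd : Nat.card V - 1 ∣ p ^ k := hk ▸ Dvd.intro _ hos
  obtain ⟨j, hjk, hj⟩ := (Nat.dvd_prime_pow hp).1 hdvd
  have hV2 : 2 ≤ Nat.card V := by
    rw [hcardV]
    calc 2 ≤ q := hq.two_le
      _ = q ^ 1 := (pow_one q).symm
      _ ≤ q ^ Module.finrank (ZMod q) V := Nat.pow_le_pow_right hq.pos hn1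
  have hqn : q ^ Module.finrank (ZMod q) V = p ^ j + 1 := by
    rw [← hcardV, ← hj]; omega
  have hG1 : 1 < Nat.card G := Finite.one_lt_card
  have hj1 : 1 ≤ j := by
    by_contra h0
    have hj0 : j = 0 := by omega
    rw [hj0, pow_zero] at hj
    have hsub : Subsingleton {v : V // v ≠ 0} := by
      apply (Nat.card_eq_one_iff_unique.1 _).1
      rw [card_nz, hj]
    obtain ⟨g, hg⟩ := exists_ne (1 : G)
    apply hg
    apply hρ
    rw [map_one]
    ext v
    by_cases hv : v = 0
    · rw [hv, map_zero]; rfl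
    · have hv' : ρ g v ≠ 0 := fun h => hv ((ρ g).map_eq_zero_iff.1 h)
      have := Subsingleton.elim (⟨ρ g v, hv'⟩ : {v : V // v ≠ 0}) ⟨v, hv⟩
      exact congrArg Subtype.val this
  rcases nt_main hq hp hn1 hj1 hqn with ⟨hq2, hj1'⟩ | ⟨hp2, hn1'⟩ | ⟨hp2, hq3, hn2⟩
  · -- q = 2
    left
    rw [hj1', pow_one] at hj
    refine ⟨hq2, hj.symm, ?_⟩
    have hfac := card_dvd_factorial ρ hρ
    rw [hj, hk] at hfac
    have hk1 : k ≤ 1 := by
      by_contra hk2
      have h2 : p ^ 2 ∣ p.factorial := dvd_trans (pow_dvd_pow p (by omega)) hfac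
      have h3 : p.factorial = p * (p - 1).factorial := by
        have := Nat.mul_factorial_pred hp.pos.ne'
        exact this.symm
      rw [h3, pow_two] at h2
      have h4 : p ∣ (p - 1).factorial := Nat.dvd_of_mul_dvd_mul_left hp.pos h2
      have h5 := (hp.dvd_factorial).1 h4
      have := hp.two_le
      omega
    have hk0 : k ≠ 0 := by
      intro h
      rw [h, pow_zero] at hk
      omega
    have : k = 1 := by omega
    rw [hk, this, pow_one]
  · -- dimension one
    right; left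
    rw [hn1', pow_one] at hcardV hqn
    obtain ⟨hstab, hcyc⟩ := dim_one ρ hρ hn1' v0 hv0
    have hs1 : Nat.card {g : G // ρ g v0 = v0} = 1 := by
      apply Nat.card_eq_one_iff_unique.2
      refine ⟨⟨fun a b => Subtype.ext ?_⟩, ⟨⟨1, by rw [map_one]; rfl⟩⟩⟩
      rw [hstab a.1 a.2, hstab b.1 b.2]
    rw [hs1, mul_one, hj] at hos
    subst hp2
    exact ⟨rfl, hcardV, ⟨j, hqn, hos.symm⟩, hcyc⟩
  · -- q = 3, dimension 2
    right; right
    subst hp2
    subst hq3
    rw [hn2] at hcardV hqn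
    have hcard9 : Nat.card V = 9 := by rw [hcardV]; norm_num
    refine ⟨rfl, rfl, hcard9, ?_⟩
    have hj3 : j = 3 := by
      have : 2 ^ j = 2 ^ 3 := by omega
      exact Nat.pow_right_injective (le_refl 2) this
    -- embed in GL3
    have hrank : Module.finrank (ZMod 3) V = Module.finrank (ZMod 3) (Fin 2 → ZMod 3) := by
      rw [hn2]; simp
    let eV : V ≃ₗ[ZMod 3] (Fin 2 → ZMod 3) := LinearEquiv.ofFinrankEq _ _ hrank
    let Ψ : (V ≃ₗ[ZMod 3] V) ≃* GL3 :=
      (LinearMap.GeneralLinearGroup.generalLinearEquiv (ZMod 3) V).symm.trans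
        ((LinearMap.GeneralLinearGroup.congrLinearEquiv eV).trans Matrix.GeneralLinearGroup.toLin.symm)
    let f : G →* GL3 := Ψ.toMonoidHom.comp ρ
    have hf : Function.Injective f := Ψ.injective.comp hρ
    have hdvd48 : Nat.card G ∣ 48 := by
      have h1 := Subgroup.card_subgroup_dvd_card f.range
      rwa [← Nat.card_congr (MonoidHom.ofInjective hf).toEquiv, card_GL3] at h1
    rw [hcard9] at hos
    have hk34 : k = 3 ∨ k = 4 := by
      rw [hk] at hdvd48 hos
      have hk4 : k ≤ 4 := by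
        by_contra h5
        have : 2 ^ 5 ∣ 48 := dvd_trans (pow_dvd_pow 2 (by omega)) hdvd48
        omega
      have hk3 : 3 ≤ k := by
        by_contra h2
        have : k ≤ 2 := by omega
        have h4 : 2 ^ k ≤ 2 ^ 2 := Nat.pow_le_pow_right (by norm_num) this
        have hpos : 0 < Nat.card {g : G // ρ g v0 = v0} := by
          rcases Nat.eq_zero_or_pos (Nat.card {g : G // ρ g v0 = v0}) with h | h
          · rw [h] at hos
            have : 0 < 2 ^ k := by positivity
            omega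
          · exact h
        nlinarith
      omega
    rcases hk34 with h3 | h4
    · -- regular
      rw [h3] at hk
      have hreg : ∀ v : V, v ≠ 0 → ∀ g : G, ρ g v = v → g = 1 := by
        intro v hv g hg
        have h1 := card_stab_mul ρ htrans v hv
        rw [hcard9, hk] at h1
        have h2 : Nat.card {g : G // ρ g v = v} = 1 := by omega
        have hsub := (Nat.card_eq_one_iff_unique.1 h2).1
        have := Subsingleton.elim (⟨g, hg⟩ : {g : G // ρ g v = v}) ⟨1, by rw [map_one]; rfl⟩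
        exact congrArg Subtype.val this
      rcases regular_case ρ hρ hG hreg with hc | ⟨m, ⟨e⟩⟩
      · exact Or.inl ⟨hc, by rw [hk]; norm_num⟩
      · right; left
        have hm : m = 1 := by
          have h1 := Nat.card_congr e.toEquiv
          haveI : NeZero (2 ^ m) := ⟨by positivity⟩
          rw [hk, Nat.card_eq_fintype_card, QuaternionGroup.card] at h1
          have h2 : 2 ^ m = 2 ^ 1 := by omega
          exact Nat.pow_right_injective (le_refl 2) h2
        subst hm
        exact ⟨e⟩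
    · right; right
      rw [h4] at hk
      have hk16 : Nat.card G = 16 := by rw [hk]; norm_num
      exact ⟨sd16 f hf hk16, hk16⟩

end Part7

end Cfsg.Agent.S3370
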