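import Mathlib
import Cfsg.Statements.S3374
import Cfsg.Agent.S3378
import Cfsg.Agent.Lib.Helper8.AffSL2

set_option autoImplicit false
open Cfsg

namespace Cfsg.Agent.S3374

open Matrix Cfsg.Agent.Lib.Helper8.AffSL2 Cfsg.Agent.S3378

/-! ### Matrices in `SL₂(11)` -/

/-- An element of order `3` in `SL₂(11)`. -/
def nX : SpecialLinearGroup (Fin 2) (ZMod 11) := ⟨!![7, 1; 9, 3], by rw [det_fin_two_of]; decide⟩

/-- An element of order `5` in `SL₂(11)`. -/
def nY : SpecialLinearGroup (Fin 2) (ZMod 11) := ⟨!![3, 0; 0, 4], by rw [det_fin_two_of]; decide⟩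

/-- The central involution of `SL₂(11)`. -/
def nZ : SpecialLinearGroup (Fin 2) (ZMod 11) := ⟨!![-1, 0; 0, -1], by rw [det_fin_two_of]; decide⟩

theorem nX_pow : nX ^ 3 = 1 := by decide
theorem nY_pow : nY ^ 5 = 1 := by decide
theorem nZ_pow : nZ ^ 2 = 1 := by decide
theorem nXY_pow : (nX * nY) ^ 2 = nZ := by decide
theorem nX_ne : nX ≠ 1 := by decide
theorem nY_ne : nY ≠ 1 := by decide
theorem nZ_ne : nZ ≠ 1 := by decide

theorem nZ_comm (g : SpecialLinearGroup (Fin 2) (ZMod 11)) : Commute g nZ := by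
  have : nZ = -1 := by decide
  rw [this]
  exact Commute.neg_one_right g

theorem hrel : ∀ r ∈ R, FreeGroup.lift ![nX, nY, nZ] r = 1 := by
  intro r hr
  rcases hr with rfl | rfl | rfl | rfl | rfl | rfl
  · simp [nX_pow]
  · simp [nY_pow]
  · simp [nZ_pow]
  · simp only [map_mul, map_inv, FreeGroup.lift_apply_of]
    simp only [Matrix.cons_val_zero, Matrix.cons_val]
    rw [mul_assoc nZ⁻¹, (nZ_comm nX).eq, ← mul_assoc, inv_mul_cancel, one_mul, mul_inv_cancel]
  · simp only [map_mul, map_inv, FreeGroup.lift_apply_of]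
    simp only [Matrix.cons_val_one, Matrix.cons_val]
    rw [mul_assoc nZ⁻¹, (nZ_comm nY).eq, ← mul_assoc, inv_mul_cancel, one_mul, mul_inv_cancel]
  · simp only [map_mul, map_inv, map_pow, FreeGroup.lift_apply_of]
    simp only [Matrix.cons_val_zero, Matrix.cons_val_one, Matrix.cons_val]
    rw [nXY_pow, mul_inv_cancel]

/-- The homomorphism from the presented group to `SL₂(11)`. -/
def theta : PresentedGroup R →* SpecialLinearGroup (Fin 2) (ZMod 11) := PresentedGroup.toGroup hrel

theorem theta0 : theta (PresentedGroup.of 0) = nX := by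
  rw [theta, PresentedGroup.toGroup.of]; rfl

theorem theta1 : theta (PresentedGroup.of 1) = nY := by
  rw [theta, PresentedGroup.toGroup.of]; rfl

theorem theta2 : theta (PresentedGroup.of 2) = nZ := by
  rw [theta, PresentedGroup.toGroup.of]; rfl

/-! ### The unique involution of `SL₂(5)` -/

theorem invol5_aux : ∀ a b c d : ZMod 5, a * a + b * c = 1 → a * b + b * d = 0 →
    c * a + d * c = 0 → c * b + d * d = 1 → a * d - b * c = 1 →
    (a = 1 ∧ b = 0 ∧ c = 0 ∧ d = 1) ∨ (a = -1 ∧ b = 0 ∧ c = 0 ∧ d = -1) := by decide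

theorem invol5 (g : SpecialLinearGroup (Fin 2) (ZMod 5)) (h : g ^ 2 = 1) : g = 1 ∨ g = mZ := by
  have hdet := g.2
  rw [det_fin_two] at hdet
  have h' : (g : Matrix (Fin 2) (Fin 2) (ZMod 5)) * (g : Matrix (Fin 2) (Fin 2) (ZMod 5)) = 1 := by
    rw [← pow_two, ← Matrix.SpecialLinearGroup.coe_pow, h, Matrix.SpecialLinearGroup.coe_one]
  have e00 := congrFun (congrFun h' 0) 0
  have e01 := congrFun (congrFun h' 0) 1
  have e10 := congrFun (congrFun h' 1) 0
  have e11 := congrFun (congrFun h' 1) 1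
  simp only [Matrix.mul_apply, Fin.sum_univ_two, Matrix.one_apply_eq, Matrix.one_apply_ne,
    ne_eq, zero_ne_one, one_ne_zero, not_false_eq_true, Fin.isValue] at e00 e01 e10 e11
  rcases invol5_aux _ _ _ _ e00 e01 e10 e11 hdet with ⟨h1, h2, h3, h4⟩ | ⟨h1, h2, h3, h4⟩
  · left
    apply Subtype.ext
    ext i j
    fin_cases i <;> fin_cases j <;> simp [h1, h2, h3, h4]
  · right
    apply Subtype.ext
    ext i j
    fin_cases i <;> fin_cases j <;> simp [mZ, h1, h2, h3, h4]

/-! ### Injectivity of `theta` -/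

theorem card_P : Nat.card (PresentedGroup R) = 120 := by
  obtain ⟨f⟩ := nonempty_mulEquiv_sl
  rw [Nat.card_congr f.toEquiv, card_sl]

theorem theta_injective : Function.Injective theta := by
  obtain ⟨f⟩ := nonempty_mulEquiv_sl
  have hfin : Finite (PresentedGroup R) := P_finite_card.1
  rw [← MonoidHom.ker_eq_bot_iff]
  have hxm : nX ∈ theta.range := ⟨_, theta0⟩
  have hym : nY ∈ theta.range := ⟨_, theta1⟩
  have hxym : nX * nY ∈ theta.range := mul_mem hxm hym
  have h3 : 3 ∣ Nat.card theta.range := by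
    have := Subgroup.orderOf_dvd_natCard _ hxm
    rwa [orderOf_eq_prime nX_pow nX_ne] at this
  have h5 : 5 ∣ Nat.card theta.range := by
    have hp5 : Fact (Nat.Prime 5) := ⟨by norm_num⟩
    have := Subgroup.orderOf_dvd_natCard _ hym
    rwa [orderOf_eq_prime nY_pow nY_ne] at this
  have h4 : 4 ∣ Nat.card theta.range := by
    have := Subgroup.orderOf_dvd_natCard _ hxym
    have ho : orderOf (nX * nY) = 2 ^ (1 + 1) := by
      apply orderOf_eq_prime_pow
      · rw [pow_one, nXY_pow]; exact nZ_ne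
      · rw [pow_succ, pow_one, pow_mul, nXY_pow, nZ_pow]
    rwa [ho] at this
  have hmul := Subgroup.card_eq_card_quotient_mul_card_subgroup theta.ker
  rw [card_P, Nat.card_congr (QuotientGroup.quotientKerEquivRange theta).toEquiv] at hmul
  have hk : Nat.card theta.ker = 1 ∨ Nat.card theta.ker = 2 := by
    obtain ⟨t, ht⟩ : 60 ∣ Nat.card theta.range := by omega
    rw [ht] at hmul
    have h2 : t * Nat.card theta.ker = 2 := by
      have : 60 * (t * Nat.card theta.ker) = 60 * 2 := by rw [← mul_assoc, ← hmul]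
      exact Nat.eq_of_mul_eq_mul_left (by norm_num) this
    have h1 : Nat.card theta.ker ∣ 2 := Dvd.intro_left _ h2
    have hle := Nat.le_of_dvd (by norm_num) h1
    have hpos : 0 < Nat.card theta.ker := Nat.card_pos
    interval_cases (Nat.card theta.ker) <;> simp_all
  rcases hk with hk | hk
  · exact Subgroup.card_eq_one.mp hk
  · exfalso
    have hne : theta.ker ≠ ⊥ := by
      intro h
      rw [h, Subgroup.card_bot] at hk
      omega
    obtain ⟨k, hk2⟩ := (Subgroup.ne_bot_iff_exists_ne_one).mp hne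
    have hkk : (k : PresentedGroup R) ^ 2 = 1 := by
      have : k ^ 2 = 1 := by
        have h0 := pow_card_eq_one' (G := theta.ker) (x := k)
        rwa [hk] at h0
      have := congrArg Subtype.val this
      simpa using this
    have hkne : (k : PresentedGroup R) ≠ 1 := fun h => hk2 (Subtype.ext h)
    have hz2 : (PresentedGroup.of 2 : PresentedGroup R) ^ 2 = 1 := P_rel2
    have hzne : (PresentedGroup.of 2 : PresentedGroup R) ≠ 1 := by
      intro h
      have := theta2
      rw [h, map_one] at this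
      exact nZ_ne this.symm
    have e1 : f (k : PresentedGroup R) = mZ := by
      rcases invol5 (f k) (by rw [← map_pow, hkk, map_one]) with h | h
      · exact absurd (f.injective (h.trans (map_one f).symm)) hkne
      · exact h
    have e2 : f (PresentedGroup.of 2) = mZ := by
      rcases invol5 (f (PresentedGroup.of 2)) (by rw [← map_pow, hz2, map_one]) with h | h
      · exact absurd (f.injective (h.trans (map_one f).symm)) hzne
      · exact h
    have e3 : (k : PresentedGroup R) = PresentedGroup.of 2 := f.injective (e1.trans e2.symm)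
    have e4 : theta (k : PresentedGroup R) = 1 := k.2
    rw [e3, theta2] at e4
    exact nZ_ne e4

/-! ### Fixed-point-freeness -/

theorem pow_eleven (h : SpecialLinearGroup (Fin 2) (ZMod 11)) (v : Fin 2 → ZMod 11) (hv : v ≠ 0)
    (hfix : (h : Matrix (Fin 2) (Fin 2) (ZMod 11)) *ᵥ v = v) : h ^ 11 = 1 := by
  have hp : Fact (Nat.Prime 11) := ⟨by norm_num⟩
  obtain ⟨M, hM⟩ : ∃ M : Matrix (Fin 2) (Fin 2) (ZMod 11),
      M = (h : Matrix (Fin 2) (Fin 2) (ZMod 11)) - 1 := ⟨_, rfl⟩
  have hMv : M *ᵥ v = 0 := by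
    rw [hM, Matrix.sub_mulVec, hfix, Matrix.one_mulVec, sub_self]
  have hdetM : M.det = 0 := Matrix.exists_mulVec_eq_zero_iff.mp ⟨v, hv, hMv⟩
  have hdet := h.2
  rw [det_fin_two] at hdet hdetM
  have m00 : M 0 0 = h.1 0 0 - 1 := by rw [hM]; simp
  have m01 : M 0 1 = h.1 0 1 := by rw [hM]; simp
  have m10 : M 1 0 = h.1 1 0 := by rw [hM]; simp
  have m11 : M 1 1 = h.1 1 1 - 1 := by rw [hM]; simp
  rw [m00, m01, m10, m11] at hdetM
  have htr : h.1 0 0 + h.1 1 1 = 2 := by linear_combination hdet - hdetM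
  have hM2 : M * M = 0 := by
    ext i j
    fin_cases i <;> fin_cases j
    · simp only [Fin.zero_eta, Fin.isValue, Matrix.mul_apply, Fin.sum_univ_two, Matrix.zero_apply, m00, m01, m10]
      linear_combination (h.1 0 0) * htr - hdet
    · simp only [Fin.zero_eta, Fin.isValue, Fin.mk_one, Matrix.mul_apply, Fin.sum_univ_two, Matrix.zero_apply, m00, m01, m11]
      linear_combination (h.1 0 1) * htr
    · simp only [Fin.zero_eta, Fin.isValue, Fin.mk_one, Matrix.mul_apply, Fin.sum_univ_two, Matrix.zero_apply, m00, m10, m11]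
      linear_combination (h.1 1 0) * htr
    · simp only [Fin.isValue, Fin.mk_one, Matrix.mul_apply, Fin.sum_univ_two, Matrix.zero_apply, m01, m10, m11]
      linear_combination (h.1 1 1) * htr - hdet
  have hh : (h : Matrix (Fin 2) (Fin 2) (ZMod 11)) = 1 + M := by rw [hM]; abel
  have hpow : ∀ n : ℕ, (1 + M) ^ n = 1 + n • M := by
    intro n
    induction n with
    | zero => simp
    | succ n ih =>
      rw [pow_succ, ih, mul_add, mul_one, add_mul, one_mul, smul_mul_assoc, hM2, smul_zero,
        add_zero, succ_nsmul]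
      abel
  apply Subtype.ext
  show ((h ^ 11 : SpecialLinearGroup (Fin 2) (ZMod 11)) : Matrix (Fin 2) (Fin 2) (ZMod 11)) =
    ((1 : SpecialLinearGroup (Fin 2) (ZMod 11)) : Matrix (Fin 2) (Fin 2) (ZMod 11))
  rw [Matrix.SpecialLinearGroup.coe_pow, hh, hpow, Matrix.SpecialLinearGroup.coe_one]
  have : (11 : ℕ) • M = 0 := by
    ext i j
    simp only [Matrix.smul_apply, Matrix.zero_apply, nsmul_eq_mul]
    have : ((11 : ℕ) : ZMod 11) = 0 := CharP.cast_eq_zero (ZMod 11) 11
    rw [this, zero_mul]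
  rw [this, add_zero]

theorem fpf (h : SpecialLinearGroup (Fin 2) (ZMod 11)) (hh : h ∈ theta.range)
    (v : Fin 2 → ZMod 11) (hv : v ≠ 0)
    (hfix : (h : Matrix (Fin 2) (Fin 2) (ZMod 11)) *ᵥ v = v) : h = 1 := by
  have hfin : Finite (PresentedGroup R) := P_finite_card.1
  obtain ⟨p, rfl⟩ := hh
  have h120 : (theta p) ^ 120 = 1 := by
    rw [← map_pow, ← card_P, pow_card_eq_one', map_one]
  have h11 := pow_eleven _ v hv hfix
  have h121 : (theta p) ^ 121 = 1 := by
    have : (121 : ℕ) = 11 * 11 := by norm_num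
    rw [this, pow_mul, h11, one_pow]
  have : (theta p) ^ 121 = (theta p) ^ 120 * theta p := pow_succ _ _
  rw [h121, h120, one_mul] at this
  exact this.symm

/-! ### The Frobenius group -/

/-- The ambient group `F₁₁² ⋊ SL₂(5)`. -/
def L0 : Subgroup (Aff (ZMod 11) 1) := theta.range.comap proj

/-- The complement, inside the full affine group. -/
def H1 : Subgroup (Aff (ZMod 11) 1) := theta.range.map incl

theorem H1_le : H1 ≤ L0 := by
  rintro _ ⟨A, hA, rfl⟩
  exact hA

theorem mem_H1_iff (t : Aff (ZMod 11) 1) (ht : t ∈ L0) : t ∈ H1 ↔ t.B = 0 := by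
  constructor
  · rintro ⟨A, _, rfl⟩
    rfl
  · intro h
    refine ⟨t.A, ht, ?_⟩
    apply Aff.ext
    · rfl
    · exact h.symm

theorem key (t g : Aff (ZMod 11) 1) (ht : t ∈ L0) (htB : t.B = 0) (hgB : g.B ≠ 0)
    (hc : (g⁻¹ * t * g).B = 0) : t = 1 := by
  have h1 : (g⁻¹ * t * g).B =
      ((g.A⁻¹ : SpecialLinearGroup (Fin 2) (ZMod 11)) : Matrix (Fin 2) (Fin 2) (ZMod 11)) *
        ((t.A : Matrix (Fin 2) (Fin 2) (ZMod 11)) * g.B - g.B) := by
    simp only [mul_B, mul_A, inv_A, inv_B, htB, Matrix.mul_zero, zero_add,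
      Matrix.SpecialLinearGroup.coe_mul, Matrix.mul_sub, Matrix.mul_assoc]
    abel
  rw [h1] at hc
  have h2 : (t.A : Matrix (Fin 2) (Fin 2) (ZMod 11)) * g.B - g.B = 0 := by
    have := congrArg (fun X => (g.A : Matrix (Fin 2) (Fin 2) (ZMod 11)) * X) hc
    simp only [Matrix.mul_zero] at this
    rw [← Matrix.mul_assoc, ← Matrix.SpecialLinearGroup.coe_mul, mul_inv_cancel,
      Matrix.SpecialLinearGroup.coe_one, Matrix.one_mul] at this
    exact this
  have h3 : (t.A : Matrix (Fin 2) (Fin 2) (ZMod 11)) * g.B = g.B := sub_eq_zero.mp h2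
  obtain ⟨v, hvdef⟩ : ∃ v : Fin 2 → ZMod 11, v = fun i => g.B i 0 := ⟨_, rfl⟩
  have hv : v ≠ 0 := by
    intro h
    apply hgB
    ext i j
    have hj : j = 0 := Subsingleton.elim _ _
    rw [hj]
    have := congrFun h i
    rw [hvdef] at this
    simpa using this
  have hfix : (t.A : Matrix (Fin 2) (Fin 2) (ZMod 11)) *ᵥ v = v := by
    ext i
    have := congrFun (congrFun h3 i) 0
    rw [Matrix.mul_apply] at this
    rw [hvdef]
    simpa [Matrix.mulVec, dotProduct] using this
  have hA : t.A = 1 := fpf t.A ht v hv hfix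
  apply Aff.ext
  · exact hA
  · exact htB

/-- SL(2,5) occurs as a Frobenius complement: there is a finite group L with a subgroup H isomorphic to SL(2,5) which is a non-trivial proper subgroup meeting each conjugate gHg⁻¹ with g outside H trivially. -/
theorem result :
    ∃ (L : Type) (_ : Group L) (_ : Finite L) (H : Subgroup L),
      Cfsg.IsFrobeniusComplement H ∧ Nonempty (H ≃* Matrix.SpecialLinearGroup (Fin 2) (ZMod 5)) := by
  have hfinF : Finite (ZMod 11) := inferInstance
  refine ⟨L0, inferInstance, inferInstance, H1.subgroupOf L0, ?_, ?_⟩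
  · have hmem : ∀ t : L0, t ∈ H1.subgroupOf L0 ↔ (t : Aff (ZMod 11) 1).B = 0 := by
      intro t
      rw [Subgroup.mem_subgroupOf]
      exact mem_H1_iff _ t.2
    refine ⟨?_, ?_, ?_⟩
    · intro h
      have h1 : (⟨incl nZ, H1_le ⟨nZ, ⟨_, theta2⟩, rfl⟩⟩ : L0) ∈ H1.subgroupOf L0 := by
        rw [hmem]; rfl
      rw [h, Subgroup.mem_bot] at h1
      have := congrArg (fun x : L0 => (x : Aff (ZMod 11) 1).A) h1
      exact nZ_ne this
    · intro h
      have hg : (⟨1, !![1; 0]⟩ : Aff (ZMod 11) 1) ∈ L0 := by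
        show (1 : SpecialLinearGroup (Fin 2) (ZMod 11)) ∈ theta.range
        exact one_mem _
      have h1 : (⟨_, hg⟩ : L0) ∈ H1.subgroupOf L0 := by rw [h]; trivial
      rw [hmem] at h1
      have := congrFun (congrFun h1 0) 0
      simp at this
      revert this
      decide
    · intro g hg
      rw [hmem] at hg
      rw [eq_bot_iff]
      intro t ht
      obtain ⟨ht1, ht2⟩ := Subgroup.mem_inf.mp ht
      rw [hmem] at ht1
      rw [Subgroup.mem_pointwise_smul_iff_inv_smul_mem, hmem] at ht2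
      have hc : ((g : Aff (ZMod 11) 1)⁻¹ * (t : Aff (ZMod 11) 1) * (g : Aff (ZMod 11) 1)).B = 0 := by
        have : ((MulAut.conj g)⁻¹ • t : L0) = g⁻¹ * t * g := by
          rw [MulAut.smul_def, ← map_inv, MulAut.conj_apply, inv_inv]
        rw [this] at ht2
        exact ht2
      have := key _ _ t.2 ht1 hg hc
      rw [Subgroup.mem_bot]
      exact Subtype.ext this
  · obtain ⟨f⟩ := nonempty_mulEquiv_sl
    have e1 : H1.subgroupOf L0 ≃* H1 := Subgroup.subgroupOfEquivOfLe H1_le
    have e2 : theta.range ≃* H1 := Subgroup.equivMapOfInjective theta.range incl incl_injective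
    have e3 : PresentedGroup R ≃* theta.range := MonoidHom.ofInjective theta_injective
    exact ⟨e1.trans (e2.symm.trans (e3.symm.trans f))⟩

end Cfsg.Agent.S3374
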