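import Mathlib
import Cfsg.Statements.S3375

set_option autoImplicit false
open Cfsg

namespace Cfsg.Agent.S3375

section
variable {H : Type*} [Group H] (γ : MulAut H)

theorem gamma_sq (hγ : orderOf γ = 2) (h : H) : γ (γ h) = h := by
  have h1 : γ ^ 2 = 1 := by rw [← hγ]; exact pow_orderOf_eq_one γ
  have := congrArg (fun f : MulAut H => f h) h1
  simpa [pow_two] using this

theorem phi_inv (hγ : orderOf γ = 2) (h : H) : γ (h⁻¹ * γ h) = (h⁻¹ * γ h)⁻¹ := by
  rw [map_mul, map_inv, gamma_sq γ hγ, mul_inv_rev, inv_inv]

theorem phi_eq (h k : H) (e : h⁻¹ * γ h = k⁻¹ * γ k) : γ (k * h⁻¹) = k * h⁻¹ := by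
  rw [map_mul, map_inv]
  have : γ k = k * (h⁻¹ * γ h) := by rw [e]; group
  rw [this]; group

/-- if every element of a subgroup is inverted by `γ`, the subgroup is commutative. -/
theorem comm_of_inverted (A : Subgroup H) (hinv : ∀ a ∈ A, γ a = a⁻¹) :
    ∀ a ∈ A, ∀ b ∈ A, a * b = b * a := by
  intro a ha b hb
  have h1 := hinv _ (A.mul_mem ha hb)
  rw [map_mul, hinv a ha, hinv b hb, mul_inv_rev] at h1
  have : (a * b)⁻¹ = (b * a)⁻¹ := by rw [mul_inv_rev, mul_inv_rev]; exact h1.symm
  exact inv_injective this

end

theorem result {H : Type*} [Group H] [Finite H] (γ : MulAut H) (hγ : orderOf γ = 2) :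
    ((∀ h : H, γ h = h → h = 1) → (∀ a b : H, a * b = b * a) ∧ ∀ h : H, γ h = h⁻¹) ∧
    ((Nat.card {h : H // γ h = h} = 2 ∧ ∃ M : Subgroup H, M.index = 2) →
      ∃ A : Subgroup H, A.index = 2 ∧ IsMulCommutative A ∧ (∀ a ∈ A, γ a ∈ A) ∧ ∀ a ∈ A, γ a = a⁻¹) := by
  constructor
  · intro hfpf
    have hinj : Function.Injective (fun h : H => h⁻¹ * γ h) := by
      intro h k e
      have := hfpf _ (phi_eq γ h k e)
      exact (mul_inv_eq_one.mp this).symm
    have hsurj := Finite.surjective_of_injective hinj
    have hinv : ∀ h : H, γ h = h⁻¹ := by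
      intro x
      obtain ⟨h, rfl⟩ := hsurj x
      exact phi_inv γ hγ h
    refine ⟨?_, hinv⟩
    intro a b
    exact comm_of_inverted γ ⊤ (fun a _ => hinv a) a (Subgroup.mem_top a) b (Subgroup.mem_top b)
  · rintro ⟨hfix, M, hM⟩
    -- a γ-invariant subgroup of index 2
    obtain ⟨A, hA2, hAinv⟩ : ∃ A : Subgroup H, A.index = 2 ∧ ∀ h, h ∈ A ↔ γ h ∈ A := by
      by_cases hMinv : ∀ h, h ∈ M ↔ γ h ∈ M
      · exact ⟨M, hM, hMinv⟩
      · simp only [not_forall] at hMinv
        obtain ⟨a, ha⟩ := hMinv
        let A : Subgroup H :=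
          { carrier := {h | h ∈ M ↔ γ h ∈ M}
            one_mem' := by simp [M.one_mem]
            mul_mem' := by
              intro x y hx hy
              simp only [Set.mem_ofPred_eq] at hx hy ⊢
              rw [map_mul, Subgroup.mul_mem_iff_of_index_two hM, Subgroup.mul_mem_iff_of_index_two hM,
                hx, hy]
            inv_mem' := by
              intro x hx
              simp only [Set.mem_ofPred_eq] at hx ⊢
              rw [map_inv, inv_mem_iff, inv_mem_iff, hx] }
        have memA : ∀ h, h ∈ A ↔ (h ∈ M ↔ γ h ∈ M) := fun h => Iff.rfl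
        refine ⟨A, ?_, ?_⟩
        · rw [Subgroup.index_eq_two_iff]
          refine ⟨a, fun b => ?_⟩
          rw [memA, memA, map_mul, Subgroup.mul_mem_iff_of_index_two hM,
            Subgroup.mul_mem_iff_of_index_two hM]
          by_cases h1 : a ∈ M <;> by_cases h2 : γ a ∈ M <;> by_cases h3 : b ∈ M <;>
            by_cases h4 : γ b ∈ M <;> simp_all [Xor]
        · intro h
          rw [memA, memA, gamma_sq γ hγ]
          tauto
    -- all φ(h) lie in A
    have hphiA : ∀ h : H, h⁻¹ * γ h ∈ A := by
      intro h
      rw [Subgroup.mul_mem_iff_of_index_two hA2, inv_mem_iff]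
      exact hAinv h
    -- counting: image of φ is all of A
    classical
    have : Fintype H := Fintype.ofFinite H
    let φ : H → H := fun h => h⁻¹ * γ h
    have hcount : Fintype.card H ≤ 2 * (Finset.univ.image φ).card := by
      have := Finset.card_le_mul_card_image (f := φ) (Finset.univ : Finset H) 2 (by
        intro b hb
        obtain ⟨h, -, rfl⟩ := Finset.mem_image.mp hb
        -- fiber ⊆ F * h
        have hsub : (Finset.univ.filter fun a => φ a = φ h) ⊆
            (Finset.univ.filter fun x : H => γ x = x).image (fun x => x * h) := by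
          intro k hk
          rw [Finset.mem_filter] at hk
          rw [Finset.mem_image]
          refine ⟨k * h⁻¹, ?_, by group⟩
          rw [Finset.mem_filter]
          exact ⟨Finset.mem_univ _, phi_eq γ h k hk.2.symm⟩
        calc (Finset.univ.filter fun a => φ a = φ h).card
            ≤ ((Finset.univ.filter fun x : H => γ x = x).image (fun x => x * h)).card :=
              Finset.card_le_card hsub
          _ ≤ (Finset.univ.filter fun x : H => γ x = x).card := Finset.card_image_le
          _ = 2 := by
              rw [← hfix, Nat.card_eq_fintype_card, Fintype.card_subtype])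
      simpa using this
    have hAcard : (Finset.univ.filter fun x : H => x ∈ A).card * 2 = Fintype.card H := by
      have := A.card_mul_index
      rw [hA2, Nat.card_eq_fintype_card, Nat.card_eq_fintype_card, Fintype.card_subtype] at this
      exact this
    have himg : Finset.univ.image φ = Finset.univ.filter fun x : H => x ∈ A := by
      apply Finset.eq_of_subset_of_card_le
      · intro x hx
        obtain ⟨h, -, rfl⟩ := Finset.mem_image.mp hx
        rw [Finset.mem_filter]
        exact ⟨Finset.mem_univ _, hphiA h⟩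
      · omega
    have hinv : ∀ a ∈ A, γ a = a⁻¹ := by
      intro a ha
      have : a ∈ Finset.univ.image φ := by
        rw [himg, Finset.mem_filter]; exact ⟨Finset.mem_univ _, ha⟩
      obtain ⟨h, -, rfl⟩ := Finset.mem_image.mp this
      exact phi_inv γ hγ h
    refine ⟨A, hA2, ?_, fun a ha => (hAinv a).mp ha, hinv⟩
    refine ⟨⟨fun a b => ?_⟩⟩
    apply Subtype.ext
    exact comm_of_inverted γ A hinv a a.2 b b.2

end Cfsg.Agent.S3375
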