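import Mathlib
import Cfsg.Statements.S3379

set_option autoImplicit false
open Cfsg

namespace Cfsg.Agent.S3379

/-- iterated conjugation -/
theorem conj_pow_iter {G : Type*} [Group G] (x y : G) (r : ℕ) (h : x⁻¹ * y * x = y ^ r) (k : ℕ) :
    (x ^ k)⁻¹ * y * x ^ k = y ^ (r ^ k) := by
  induction k with
  | zero => simp
  | succ k ih =>
    have h1 : (x ^ (k + 1))⁻¹ * y * x ^ (k + 1) = x⁻¹ * ((x ^ k)⁻¹ * y * x ^ k) * x := by
      rw [pow_succ]; group
    rw [h1, ih]
    have h2 : x⁻¹ * y ^ (r ^ k) * x = (x⁻¹ * y * x) ^ (r ^ k) := by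
      have := conj_pow (a := x⁻¹) (b := y) (i := r ^ k)
      simp only [inv_inv] at this
      exact this.symm
    rw [h2, h, ← pow_mul, pow_succ, mul_comm]

/-- the subgroup of `k`-th powers of a commutative normal subgroup -/
def powSub {G : Type*} [Group G] (N : Subgroup G) (hN : ∀ a ∈ N, ∀ b ∈ N, a * b = b * a) (k : ℕ) :
    Subgroup G where
  carrier := {z | ∃ u ∈ N, u ^ k = z}
  one_mem' := ⟨1, N.one_mem, one_pow _⟩
  mul_mem' := by
    rintro _ _ ⟨u, hu, rfl⟩ ⟨v, hv, rfl⟩
    exact ⟨u * v, N.mul_mem hu hv, (Commute.mul_pow (hN u hu v hv) k)⟩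
  inv_mem' := by
    rintro _ ⟨u, hu, rfl⟩
    exact ⟨u⁻¹, N.inv_mem hu, inv_pow u k⟩

theorem powSub_normal {G : Type*} [Group G] (N : Subgroup G) [N.Normal]
    (hN : ∀ a ∈ N, ∀ b ∈ N, a * b = b * a) (k : ℕ) : (powSub N hN k).Normal := by
  constructor
  rintro _ ⟨u, hu, rfl⟩ g
  exact ⟨g * u * g⁻¹, Subgroup.Normal.conj_mem inferInstance u hu g, conj_pow⟩

theorem result {G : Type*} [Group G] [Finite G]
    (hZ : ∀ (p : ℕ) [Fact p.Prime] (P : Sylow p G), IsCyclic (P : Subgroup G)) :
    ∃ (x y : G) (n m r : ℕ), Subgroup.closure {x, y} = ⊤ ∧ orderOf x = n ∧ orderOf y = m ∧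
      x⁻¹ * y * x = y ^ r ∧ Nat.Coprime (r - 1) m ∧ Nat.Coprime n m ∧ 1 ≤ r ∧ r ^ n % m = 1 % m := by
  have hG : IsZGroup G := ⟨fun p hp P => by
    have := Fact.mk hp
    exact hZ p P⟩
  set N : Subgroup G := commutator G with hNdef
  have hNcyc : IsCyclic N := IsZGroup.isCyclic_commutator G
  have hcop : (Nat.card N).Coprime N.index := IsZGroup.coprime_commutator_index G
  obtain ⟨H, hH⟩ := Subgroup.exists_right_complement'_of_coprime hcop
  have e1 : Abelianization G ≃* H := hH.symm.QuotientMulEquiv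
  have hHcyc : IsCyclic H := isCyclic_of_surjective _ e1.surjective
  obtain ⟨⟨y, hyN⟩, hy⟩ := hNcyc.exists_generator
  obtain ⟨⟨x, hxH⟩, hx⟩ := hHcyc.exists_generator
  have hNy : N = Subgroup.zpowers y := by
    ext z
    constructor
    · intro hz
      have := hy ⟨z, hz⟩
      rw [Subgroup.mem_zpowers_iff] at this ⊢
      obtain ⟨k, hk⟩ := this
      exact ⟨k, by simpa using congrArg Subtype.val hk⟩
    · intro hz
      rw [Subgroup.mem_zpowers_iff] at hz
      obtain ⟨k, rfl⟩ := hz
      exact N.zpow_mem hyN k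
  have hHx : H = Subgroup.zpowers x := by
    ext z
    constructor
    · intro hz
      have := hx ⟨z, hz⟩
      rw [Subgroup.mem_zpowers_iff] at this ⊢
      obtain ⟨k, hk⟩ := this
      exact ⟨k, by simpa using congrArg Subtype.val hk⟩
    · intro hz
      rw [Subgroup.mem_zpowers_iff] at hz
      obtain ⟨k, rfl⟩ := hz
      exact H.zpow_mem hxH k
  have hm : orderOf y = Nat.card N := by rw [hNy, Nat.card_zpowers]
  have hn : orderOf x = Nat.card H := by rw [hHx, Nat.card_zpowers]
  have hidx : N.index = Nat.card H := by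
    have := hH.symm.index_eq_card
    exact this
  have hgen : Subgroup.closure {x, y} = ⊤ := by
    rw [eq_top_iff, ← hH.sup_eq_top]
    apply sup_le
    · rw [hNy, Subgroup.zpowers_le]
      exact Subgroup.subset_closure (by simp)
    · rw [hHx, Subgroup.zpowers_le]
      exact Subgroup.subset_closure (by simp)
  -- the exponent r
  have hconj : x⁻¹ * y * x ∈ Subgroup.zpowers y := by
    rw [← hNy]
    have := Subgroup.Normal.conj_mem (inferInstance : N.Normal) y hyN x⁻¹
    simpa using this
  have hyfin : IsOfFinOrder y := isOfFinOrder_of_finite y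
  rw [← hyfin.mem_powers_iff_mem_zpowers, Submonoid.mem_powers_iff] at hconj
  obtain ⟨r0, hr0⟩ := hconj
  have hmpos : 0 < orderOf y := orderOf_pos y
  obtain ⟨r, hrdef⟩ : ∃ r, r = r0 + orderOf y := ⟨_, rfl⟩
  have hr : x⁻¹ * y * x = y ^ r := by
    rw [hrdef, pow_add, pow_orderOf_eq_one, mul_one, hr0]
  have hr1 : 1 ≤ r := by omega
  -- commutativity inside N
  have hNcomm : ∀ a ∈ N, ∀ b ∈ N, a * b = b * a := by
    intro a ha b hb
    rw [hNy] at ha hb
    rw [Subgroup.mem_zpowers_iff] at ha hb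
    obtain ⟨i, rfl⟩ := ha
    obtain ⟨j, rfl⟩ := hb
    exact (Commute.zpow_zpow_self y i j)
  -- coprimality of r - 1 and m
  have hcop1 : Nat.Coprime (r - 1) (orderOf y) := by
    set E := powSub N hNcomm (r - 1) with hE
    have hEn : E.Normal := powSub_normal N hNcomm (r - 1)
    -- commutators lie in E
    have hxy : (QuotientGroup.mk' E) x * (QuotientGroup.mk' E) y
        = (QuotientGroup.mk' E) y * (QuotientGroup.mk' E) x := by
      rw [← map_mul, ← map_mul]
      rw [QuotientGroup.mk'_eq_mk']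
      refine ⟨y ^ (r - 1), ⟨y, hyN, rfl⟩, ?_⟩
      have : y * x = x * (x⁻¹ * y * x) := by group
      rw [this, hr, mul_assoc, ← pow_succ']
      congr 2
      omega
    have hcl : Subgroup.closure {(QuotientGroup.mk' E) x, (QuotientGroup.mk' E) y} = ⊤ := by
      have := congrArg (Subgroup.map (QuotientGroup.mk' E)) hgen
      rw [MonoidHom.map_closure, Subgroup.map_top_of_surjective _ (QuotientGroup.mk'_surjective E)] at this
      rw [← this]
      congr 1
      simp [Set.image_pair]
    have hcomm : ∀ a b : G ⧸ E, a * b = b * a := by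
      have hc : IsMulCommutative (Subgroup.closure {(QuotientGroup.mk' E) x, (QuotientGroup.mk' E) y}) := by
        apply Subgroup.isMulCommutative_closure
        intro a ha b hb
        simp only [Set.mem_insert_iff, Set.mem_singleton_iff] at ha hb
        rcases ha with rfl | rfl <;> rcases hb with rfl | rfl
        · rfl
        · exact hxy
        · exact hxy.symm
        · rfl
      intro a b
      have ha : a ∈ Subgroup.closure {(QuotientGroup.mk' E) x, (QuotientGroup.mk' E) y} := by
        rw [hcl]; trivial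
      have hb : b ∈ Subgroup.closure {(QuotientGroup.mk' E) x, (QuotientGroup.mk' E) y} := by
        rw [hcl]; trivial
      have := hc.is_comm.comm ⟨a, ha⟩ ⟨b, hb⟩
      exact congrArg Subtype.val this
    have hNE : N ≤ E := by
      let _ : CommGroup (G ⧸ E) := { (inferInstance : Group (G ⧸ E)) with mul_comm := hcomm }
      have := Abelianization.commutator_subset_ker (QuotientGroup.mk' E)
      rwa [QuotientGroup.ker_mk'] at this
    obtain ⟨u, hu, huy⟩ := hNE hyN
    rw [hNy, Subgroup.mem_zpowers_iff] at hu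
    obtain ⟨k, rfl⟩ := hu
    -- y = (y^k)^(r-1) so y ∈ zpowers (y^(r-1))
    have hy1 : y ∈ Subgroup.zpowers (y ^ (r - 1)) := by
      rw [Subgroup.mem_zpowers_iff]
      refine ⟨k, ?_⟩
      rw [← zpow_natCast, ← zpow_mul, mul_comm, zpow_mul, zpow_natCast]
      exact huy
    have hle : Subgroup.zpowers y ≤ Subgroup.zpowers (y ^ (r - 1)) := by
      rwa [Subgroup.zpowers_le]
    have hcard := Subgroup.card_le_of_le hle
    rw [Nat.card_zpowers, Nat.card_zpowers, orderOf_pow] at hcard
    -- m ≤ m / gcd m (r-1)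
    have hg : Nat.gcd (orderOf y) (r - 1) = 1 := by
      have hgpos : 0 < Nat.gcd (orderOf y) (r - 1) := Nat.gcd_pos_of_pos_left _ hmpos
      by_contra hne
      have h2 : 2 ≤ Nat.gcd (orderOf y) (r - 1) := by omega
      have : orderOf y / Nat.gcd (orderOf y) (r - 1) < orderOf y := Nat.div_lt_self hmpos h2
      omega
    rw [Nat.coprime_comm]
    exact hg
  refine ⟨x, y, orderOf x, orderOf y, r, hgen, rfl, rfl, hr, hcop1, ?_, hr1, ?_⟩
  · rw [hn, hm, ← hidx]
    exact hcop.symm
  · have h1 := conj_pow_iter x y r hr (orderOf x)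
    rw [pow_orderOf_eq_one] at h1
    simp only [inv_one, one_mul, mul_one] at h1
    have h2 : y ^ (r ^ orderOf x) = y ^ 1 := by rw [← h1, pow_one]
    rw [pow_eq_pow_iff_modEq] at h2
    exact h2

end Cfsg.Agent.S3379
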