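import Mathlib
import Cfsg.Statements.S3381

set_option autoImplicit false
set_option linter.style.haveILetI false
open Cfsg

namespace Cfsg.Agent.S3381

/-- Let G be a finite group acting faithfully and linearly on a non-trivial finite vector space V over the field with q elements (q prime) so that every non-zero vector has a stabilizer of order 2, and suppose G has a central involution. Then V has q^(2r) elements for some r and G contains exactly q^r + 1 non-central involutions. -/
theorem result
    (q : ℕ) [Fact q.Prime] {V : Type*} [AddCommGroup V] [Module (ZMod q) V] [Finite V] [Nontrivial V]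
    {G : Type*} [Group G] [Finite G] (ρ : G →* (V ≃ₗ[ZMod q] V)) (hρ : Function.Injective ρ)
    (hstab : ∀ v : V, v ≠ 0 → Nat.card {g : G // ρ g v = v} = 2)
    (z : G) (hz : orderOf z = 2) (hzc : z ∈ Subgroup.center G) :
    ∃ r : ℕ, Nat.card V = q ^ (2 * r) ∧
      Nat.card {g : G // orderOf g = 2 ∧ g ∉ Subgroup.center G} = q ^ r + 1 := by
  classical
  have hq := (Fact.out : q.Prime)
  have hmul : ∀ (g h : G) (v : V), ρ (g * h) v = ρ g (ρ h v) := by
    intro g h v
    rw [map_mul]
    rfl
  have hone : ∀ v : V, ρ 1 v = v := by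
    intro v
    rw [map_one]
    rfl
  -- stabilizer facts
  have hS1 : ∀ v : V, v ≠ 0 → ∀ g h : G, ρ g v = v → ρ h v = v → g ≠ 1 → h ≠ 1 → g = h := by
    intro v hv g h hg hh g1 h1
    have h2 := hstab v hv
    rw [Nat.card_eq_two_iff' (⟨1, hone v⟩ : {g : G // ρ g v = v})] at h2
    obtain ⟨y, _, hy⟩ := h2
    have e1 := hy ⟨g, hg⟩ (by intro h; exact g1 (congrArg Subtype.val h))
    have e2 := hy ⟨h, hh⟩ (by intro h'; exact h1 (congrArg Subtype.val h'))
    exact congrArg Subtype.val (e1.trans e2.symm)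
  have hS2 : ∀ v : V, v ≠ 0 → ∃ t : G, t ≠ 1 ∧ ρ t v = v := by
    intro v hv
    have h2 := hstab v hv
    rw [Nat.card_eq_two_iff' (⟨1, hone v⟩ : {g : G // ρ g v = v})] at h2
    obtain ⟨y, hy1, _⟩ := h2
    exact ⟨y.1, fun h => hy1 (Subtype.ext h), y.2⟩
  have hS3 : ∀ v : V, v ≠ 0 → ∀ t : G, t ≠ 1 → ρ t v = v → t * t = 1 := by
    intro v hv t ht1 htv
    by_contra hne
    have := hS1 v hv (t * t) t (by rw [hmul, htv, htv]) htv hne ht1
    exact ht1 (mul_left_cancel (this.trans (mul_one t).symm))
  -- central involutions act as -1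
  have hA : ∀ c : G, c ≠ 1 → c * c = 1 → c ∈ Subgroup.center G → ∀ w : V,
      ρ c w = w ∨ ρ c w = -w := by
    intro c hc1 hc2 hcc w
    by_cases hw : w = 0
    · left
      rw [hw, map_zero]
    by_cases hcw : ρ c w = w
    · exact Or.inl hcw
    right
    obtain ⟨t, ht1, htw⟩ := hS2 w hw
    have htc : t ≠ c := fun h => hcw (h ▸ htw)
    by_contra hne
    have hsum : w + ρ c w ≠ 0 := fun h => hne (eq_neg_of_add_eq_zero_right h)
    have h1 : ρ c (w + ρ c w) = w + ρ c w := by
      rw [map_add, ← hmul, hc2, hone, add_comm]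
    have h2 : ρ t (w + ρ c w) = w + ρ c w := by
      rw [map_add, htw, ← hmul, (Subgroup.mem_center_iff.mp hcc t), hmul, htw]
    exact htc (hS1 _ hsum t c h2 h1 ht1 hc1)
  have hB : ∀ c : G, c ≠ 1 → c * c = 1 → c ∈ Subgroup.center G → ∀ w : V, ρ c w = -w := by
    intro c hc1 hc2 hcc
    by_contra hcon
    push Not at hcon
    obtain ⟨v, hv⟩ := hcon
    have hv0 : v ≠ 0 := by
      intro h
      apply hv
      rw [h, map_zero, neg_zero]
    have hvfix : ρ c v = v := (hA c hc1 hc2 hcc v).resolve_right hv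
    have hcne : ρ c ≠ 1 := by
      intro h
      apply hc1
      apply hρ
      rw [h, map_one]
    obtain ⟨u, hu⟩ : ∃ u : V, ρ c u ≠ u := by
      by_contra hall
      push Not at hall
      apply hcne
      ext x
      exact hall x
    have hu0 : u ≠ 0 := by
      intro h
      apply hu
      rw [h, map_zero]
    have hu' : ρ c u = -u := (hA c hc1 hc2 hcc u).resolve_left hu
    have hnu : -u ≠ u := fun h => hu (hu'.trans h)
    rcases hA c hc1 hc2 hcc (v + u) with h | h
    · rw [map_add, hvfix, hu'] at h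
      exact hnu (add_left_cancel h)
    · rw [map_add, hvfix, hu', neg_add] at h
      have hvv : v = -v := add_right_cancel h
      have h2v : (2 : ZMod q) • v = 0 := by
        rw [two_smul]
        nth_rewrite 1 [hvv]
        exact neg_add_cancel v
      have h20 : (2 : ZMod q) = 0 := (smul_eq_zero.mp h2v).resolve_right hv0
      have h2u : (2 : ZMod q) • u = 0 := by rw [h20, zero_smul]
      rw [two_smul] at h2u
      exact hnu (neg_eq_of_add_eq_zero_left h2u)
  have hz1 : z ≠ 1 := by
    intro h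
    rw [h, orderOf_one] at hz
    omega
  have hz2 : z * z = 1 := by
    rw [← sq, ← hz, pow_orderOf_eq_one]
  have hzneg : ∀ w : V, ρ z w = -w := hB z hz1 hz2 hzc
  have h2 : (2 : ZMod q) ≠ 0 := by
    intro h20
    apply hz1
    apply hρ
    rw [map_one]
    ext w
    rw [hzneg]
    have : (2 : ZMod q) • w = 0 := by rw [h20, zero_smul]
    rw [two_smul] at this
    exact neg_eq_of_add_eq_zero_left this
  have hnegne : ∀ w : V, w = -w → w = 0 := by
    intro w hw
    have : (2 : ZMod q) • w = 0 := by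
      rw [two_smul]
      nth_rewrite 1 [hw]
      exact neg_add_cancel w
    exact (smul_eq_zero.mp this).resolve_left h2
  -- the set I of non-central involutions
  have hI1 : ∀ t : G, orderOf t = 2 → t ≠ 1 ∧ t * t = 1 := by
    intro t ht
    refine ⟨?_, ?_⟩
    · intro h
      rw [h, orderOf_one] at ht
      omega
    · rw [← sq, ← ht, pow_orderOf_eq_one]
  have hI2 : ∀ v : V, v ≠ 0 → ∀ t : G, t ≠ 1 → ρ t v = v →
      orderOf t = 2 ∧ t ∉ Subgroup.center G := by
    intro v hv t ht1 htv
    have htt := hS3 v hv t ht1 htv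
    refine ⟨orderOf_eq_prime (by rw [sq]; exact htt) ht1, ?_⟩
    intro hc
    have := hB t ht1 htt hc v
    rw [htv] at this
    exact hv (hnegne v this)
  have hzt : ∀ (t : G) (v : V), ρ (z * t) v = v ↔ ρ t v = -v := by
    intro t v
    rw [hmul, hzneg, neg_eq_iff_eq_neg]
  have hI3 : ∀ t : G, orderOf t = 2 → t ∉ Subgroup.center G →
      (orderOf (z * t) = 2 ∧ z * t ∉ Subgroup.center G) ∧ z * t ≠ t ∧ z * (z * t) = t := by
    intro t ht htc
    obtain ⟨ht1, htt⟩ := hI1 t ht
    have hcomm : t * z = z * t := Subgroup.mem_center_iff.mp hzc t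
    have hsq : (z * t) * (z * t) = 1 := by
      calc (z * t) * (z * t) = z * (t * z) * t := by group
        _ = z * (z * t) * t := by rw [hcomm]
        _ = (z * z) * (t * t) := by group
        _ = 1 := by rw [hz2, htt, one_mul]
    have hne1 : z * t ≠ 1 := by
      intro h
      apply htc
      have : t = z := by
        calc t = (z * z) * t := by rw [hz2, one_mul]
          _ = z * (z * t) := by group
          _ = z := by rw [h, mul_one]
      rw [this]
      exact hzc
    refine ⟨⟨orderOf_eq_prime (by rw [sq]; exact hsq) hne1, ?_⟩, ?_, ?_⟩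
    · intro hc
      apply htc
      have : t = z * (z * t) := by
        calc t = (z * z) * t := by rw [hz2, one_mul]
          _ = z * (z * t) := by group
      rw [this]
      exact Subgroup.mul_mem _ hzc hc
    · intro h
      exact hz1 (mul_right_cancel (h.trans (one_mul t).symm))
    · calc z * (z * t) = (z * z) * t := by group
        _ = t := by rw [hz2, one_mul]
  -- product decompositions
  have hC1 : ∀ t : G, orderOf t = 2 →
      Nat.card {v : V // ρ t v = v} * Nat.card {v : V // ρ (z * t) v = v} = Nat.card V := by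
    intro t ht
    obtain ⟨ht1, htt⟩ := hI1 t ht
    rw [← Nat.card_prod]
    have hbij : Function.Bijective
        (fun p : {v : V // ρ t v = v} × {v : V // ρ (z * t) v = v} => p.1.1 + p.2.1) := by
      constructor
      · rintro ⟨⟨x, hx⟩, ⟨y, hy⟩⟩ ⟨⟨x', hx'⟩, ⟨y', hy'⟩⟩ h
        simp only at h
        rw [hzt] at hy hy'
        have hd : x - x' = y' - y := by
          rw [sub_eq_sub_iff_add_eq_add, h, add_comm]
        have e1 : ρ t (x - x') = x - x' := by rw [map_sub, hx, hx']
        have e2 : ρ t (x - x') = -(x - x') := by rw [hd, map_sub, hy, hy']; abel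
        have e3 : x - x' = 0 := hnegne _ (e1.symm.trans e2)
        have e4 : y' - y = 0 := hd ▸ e3
        have ex : x = x' := sub_eq_zero.mp e3
        have ey : y = y' := (sub_eq_zero.mp e4).symm
        subst ex
        subst ey
        rfl
      · intro v
        have htt' : ρ t (ρ t v) = v := by rw [← hmul, htt, hone]
        refine ⟨(⟨(2 : ZMod q)⁻¹ • (v + ρ t v), ?_⟩, ⟨(2 : ZMod q)⁻¹ • (v - ρ t v), ?_⟩), ?_⟩
        · rw [map_smul, map_add, htt', add_comm]
        · rw [hzt, map_smul, map_sub, htt', ← smul_neg, neg_sub]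
        · simp only
          rw [← smul_add]
          have : v + ρ t v + (v - ρ t v) = (2 : ZMod q) • v := by rw [two_smul]; abel
          rw [this, smul_smul, inv_mul_cancel₀ h2, one_smul]
    exact Nat.card_congr (Equiv.ofBijective _ hbij)
  have hC2 : ∀ s t : G, s ≠ 1 → t ≠ 1 → s ≠ t →
      Nat.card {v : V // ρ s v = v} * Nat.card {v : V // ρ t v = v} ≤ Nat.card V := by
    intro s t hs1 ht1 hst
    rw [← Nat.card_prod]
    apply Nat.card_le_card_of_injective
      (fun p : {v : V // ρ s v = v} × {v : V // ρ t v = v} => p.1.1 + p.2.1)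
    rintro ⟨⟨x, hx⟩, ⟨y, hy⟩⟩ ⟨⟨x', hx'⟩, ⟨y', hy'⟩⟩ h
    simp only at h
    have hd : x - x' = y' - y := by
      rw [sub_eq_sub_iff_add_eq_add, h, add_comm]
    have e1 : ρ s (x - x') = x - x' := by rw [map_sub, hx, hx']
    have e2 : ρ t (x - x') = x - x' := by rw [hd, map_sub, hy, hy']
    have e3 : x - x' = 0 := by
      by_contra hne
      exact hst (hS1 _ hne s t e1 e2 hs1 ht1)
    have e4 : y' - y = 0 := hd ▸ e3
    have ex : x = x' := sub_eq_zero.mp e3
    have ey : y = y' := (sub_eq_zero.mp e4).symm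
    subst ex
    subst ey
    rfl
  -- cardinalities of fixed spaces are powers of q
  have hpow : ∀ g : G, ∃ d : ℕ, Nat.card {v : V // ρ g v = v} = q ^ d := by
    intro g
    refine ⟨Module.finrank (ZMod q)
      (LinearMap.ker (((ρ g : V ≃ₗ[ZMod q] V) : V →ₗ[ZMod q] V) - LinearMap.id)), ?_⟩
    have hk := Module.natCard_eq_pow_finrank (K := ZMod q)
      (V := LinearMap.ker (((ρ g : V ≃ₗ[ZMod q] V) : V →ₗ[ZMod q] V) - LinearMap.id))
    rw [Nat.card_zmod] at hk
    rw [← hk]
    apply Nat.card_congr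
    apply Equiv.subtypeEquivRight
    intro v
    rw [LinearMap.mem_ker, LinearMap.sub_apply, sub_eq_zero]
    rfl
  have hapos : ∀ g : G, 0 < Nat.card {v : V // ρ g v = v} := by
    intro g
    haveI : Nonempty {v : V // ρ g v = v} := ⟨⟨0, map_zero _⟩⟩
    exact Nat.card_pos
  -- choice of the involution fixing a nonzero vector
  have hτ : ∀ v : {v : V // v ≠ 0}, ∃ t : {g : G // orderOf g = 2 ∧ g ∉ Subgroup.center G},
      ρ t.1 v.1 = v.1 := by
    intro v
    obtain ⟨t, ht1, htv⟩ := hS2 v.1 v.2
    exact ⟨⟨t, hI2 v.1 v.2 t ht1 htv⟩, htv⟩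
  choose τ hτ' using hτ
  haveI : Fintype {g : G // orderOf g = 2 ∧ g ∉ Subgroup.center G} := Fintype.ofFinite _
  have hcount : Nat.card V - 1 =
      ∑ t : {g : G // orderOf g = 2 ∧ g ∉ Subgroup.center G},
        (Nat.card {v : V // ρ t.1 v = v} - 1) := by
    have e0 : Nat.card {v : V // v ≠ 0} = Nat.card V - 1 := by
      haveI : Fintype V := Fintype.ofFinite V
      rw [Nat.card_eq_fintype_card, Nat.card_eq_fintype_card, Fintype.card_subtype_compl,
        Fintype.card_subtype_eq]
    rw [← e0, ← Nat.card_congr (Equiv.sigmaFiberEquiv τ), Nat.card_sigma]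
    apply Finset.sum_congr rfl
    intro t _
    have e1 : Nat.card {v : {v : V // v ≠ 0} // τ v = t} =
        Nat.card {v : V // v ≠ 0 ∧ ρ t.1 v = v} := by
      refine Nat.card_congr ((Equiv.subtypeEquivRight ?_).trans
        (Equiv.subtypeSubtypeEquivSubtypeInter (fun v : V => v ≠ 0) (fun v : V => ρ t.1 v = v)))
      intro v
      constructor
      · intro h
        rw [← h]
        exact hτ' v
      · intro h
        apply Subtype.ext
        exact hS1 v.1 v.2 (τ v).1 t.1 (hτ' v) h (hI1 _ (τ v).2.1).1 (hI1 _ t.2.1).1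
    rw [e1]
    haveI : Fintype V := Fintype.ofFinite V
    rw [Nat.card_eq_fintype_card, Nat.card_eq_fintype_card, Fintype.card_subtype,
      Fintype.card_subtype]
    have : (Finset.univ.filter (fun v : V => v ≠ 0 ∧ ρ t.1 v = v)) =
        (Finset.univ.filter (fun v : V => ρ t.1 v = v)).erase 0 := by
      ext v
      simp [and_comm]
    rw [this, Finset.card_erase_of_mem (by simp)]
  -- all fixed spaces of non-central involutions have |V| = a^2
  have hsq : ∀ t : G, orderOf t = 2 → t ∉ Subgroup.center G →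
      Nat.card {v : V // ρ t v = v} * Nat.card {v : V // ρ t v = v} = Nat.card V := by
    by_contra hcon
    push Not at hcon
    obtain ⟨t, ht, htc, hne⟩ := hcon
    -- find t₁ with a t₁ ^ 2 > |V|
    obtain ⟨t₁, ht₁, ht₁c, hgt⟩ : ∃ t₁ : G, orderOf t₁ = 2 ∧ t₁ ∉ Subgroup.center G ∧
        Nat.card V < Nat.card {v : V // ρ t₁ v = v} * Nat.card {v : V // ρ t₁ v = v} := by
      rcases lt_or_gt_of_ne hne with hlt | hgt
      · obtain ⟨⟨h1, h2'⟩, _, _⟩ := hI3 t ht htc
        refine ⟨z * t, h1, h2', ?_⟩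
        have e := hC1 t ht
        have p1 := hapos t
        have p2 := hapos (z * t)
        nlinarith
      · exact ⟨t, ht, htc, hgt⟩
    have hsmall : ∀ s : G, orderOf s = 2 → s ≠ t₁ →
        Nat.card {v : V // ρ s v = v} * Nat.card {v : V // ρ s v = v} < Nat.card V := by
      intro s hs hst
      have e := hC2 s t₁ (hI1 s hs).1 (hI1 t₁ ht₁).1 hst
      have p1 := hapos s
      have p2 := hapos t₁
      nlinarith
    have honly : ∀ s : G, orderOf s = 2 → s ∉ Subgroup.center G → s = t₁ ∨ s = z * t₁ := by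
      intro s hs hsc
      by_contra hcon2
      push Not at hcon2
      obtain ⟨⟨h1, h2'⟩, _, h3⟩ := hI3 s hs hsc
      have hzs : z * s ≠ t₁ := by
        intro h
        apply hcon2.2
        rw [← h, h3]
      have e1 := hsmall s hs hcon2.1
      have e2 := hsmall (z * s) h1 hzs
      have e3 := hC1 s hs
      have p1 := hapos s
      have p2 := hapos (z * s)
      nlinarith
    -- nonzero vectors in both eigenspaces of t₁
    obtain ⟨⟨ht₁z, ht₁zc⟩, _, _⟩ := hI3 t₁ ht₁ ht₁c
    have e := hC1 t₁ ht₁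
    have hVpos : 1 < Nat.card V := Finite.one_lt_card
    have hone_lt : ∀ g : G, g ≠ 1 → Nat.card {v : V // ρ g v = v} < Nat.card V := by
      intro g hg
      by_contra hge
      push Not at hge
      apply hg
      apply hρ
      rw [map_one]
      ext w
      have hinj : Function.Injective (fun v : {v : V // ρ g v = v} => v.1) :=
        Subtype.val_injective
      have hsurj : Function.Surjective (fun v : {v : V // ρ g v = v} => v.1) := by
        haveI : Fintype V := Fintype.ofFinite V
        haveI : Fintype {v : V // ρ g v = v} := Fintype.ofFinite _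
        apply (Fintype.bijective_iff_injective_and_card _).mpr ⟨hinj, ?_⟩ |>.2
        rw [← Nat.card_eq_fintype_card, ← Nat.card_eq_fintype_card]
        exact le_antisymm (Nat.card_le_card_of_injective _ hinj) hge
      obtain ⟨⟨w', hw'⟩, rfl⟩ := hsurj w
      exact hw'
    have l1 := hone_lt t₁ (hI1 t₁ ht₁).1
    have l2 := hone_lt (z * t₁) (hI1 _ ht₁z).1
    have g1 : 1 < Nat.card {v : V // ρ t₁ v = v} := by
      by_contra hle
      have : Nat.card {v : V // ρ t₁ v = v} = 1 := by have := hapos t₁; omega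
      rw [this, one_mul] at e
      omega
    have g2 : 1 < Nat.card {v : V // ρ (z * t₁) v = v} := by
      by_contra hle
      have : Nat.card {v : V // ρ (z * t₁) v = v} = 1 := by have := hapos (z * t₁); omega
      rw [this, mul_one] at e
      omega
    haveI : Nontrivial {v : V // ρ t₁ v = v} := Finite.one_lt_card_iff_nontrivial.mp g1
    haveI : Nontrivial {v : V // ρ (z * t₁) v = v} := Finite.one_lt_card_iff_nontrivial.mp g2
    obtain ⟨⟨x, hx⟩, hx0⟩ := exists_ne (⟨0, map_zero _⟩ : {v : V // ρ t₁ v = v})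
    obtain ⟨⟨y, hy⟩, hy0⟩ := exists_ne (⟨0, map_zero _⟩ : {v : V // ρ (z * t₁) v = v})
    have hx0' : x ≠ 0 := fun h => hx0 (Subtype.ext h)
    have hy0' : y ≠ 0 := fun h => hy0 (Subtype.ext h)
    rw [hzt] at hy
    have hxy : x + y ≠ 0 := by
      intro h
      have hxe : x = -y := eq_neg_of_add_eq_zero_left h
      have : ρ t₁ x = -x := by
        rw [hxe, map_neg, hy]
      rw [hx] at this
      exact hx0' (hnegne x this)
    obtain ⟨s, hs1, hsv⟩ := hS2 (x + y) hxy
    obtain ⟨hs2, hsc⟩ := hI2 (x + y) hxy s hs1 hsv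
    rcases honly s hs2 hsc with rfl | rfl
    · rw [map_add, hx, hy] at hsv
      have : -y = y := add_left_cancel hsv
      exact hy0' (hnegne y this.symm)
    · rw [hmul, hzneg, map_add, hx, hy, neg_add, neg_neg] at hsv
      have : -x = x := add_right_cancel hsv
      exact hx0' (hnegne x this.symm)
  -- conclusion
  obtain ⟨v₀, hv₀⟩ := exists_ne (0 : V)
  obtain ⟨t₀, ht₀1, ht₀v⟩ := hS2 v₀ hv₀
  obtain ⟨ht₀, ht₀c⟩ := hI2 v₀ hv₀ t₀ ht₀1 ht₀v
  obtain ⟨d, hd⟩ := hpow t₀
  have hV : Nat.card V = q ^ (2 * d) := by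
    rw [← hsq t₀ ht₀ ht₀c, hd, two_mul, pow_add]
  refine ⟨d, hV, ?_⟩
  have hall : ∀ t : {g : G // orderOf g = 2 ∧ g ∉ Subgroup.center G},
      Nat.card {v : V // ρ t.1 v = v} - 1 = q ^ d - 1 := by
    intro t
    have := hsq t.1 t.2.1 t.2.2
    rw [hV, two_mul, pow_add] at this
    rw [Nat.mul_self_inj.mp this]
  rw [Finset.sum_congr rfl (fun t _ => hall t), Finset.sum_const, Finset.card_univ,
    smul_eq_mul, ← Nat.card_eq_fintype_card, hV] at hcount
  have hqd : 2 ≤ q ^ d := by
    rw [← hd]
    have : Nontrivial {v : V // ρ t₀ v = v} :=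
      ⟨⟨⟨v₀, ht₀v⟩, ⟨0, map_zero _⟩, fun h => hv₀ (congrArg Subtype.val h)⟩⟩
    exact Finite.one_lt_card
  have hfac : q ^ (2 * d) - 1 = (q ^ d + 1) * (q ^ d - 1) := by
    rw [two_mul, pow_add]
    obtain ⟨m, hm⟩ : ∃ m, q ^ d = m + 2 := ⟨q ^ d - 2, by omega⟩
    rw [hm]
    have : (m + 2) * (m + 2) - 1 = (m + 2 + 1) * (m + 2 - 1) := by
      have e1 : m + 2 - 1 = m + 1 := by omega
      rw [e1]
      have e2 : (m + 2) * (m + 2) = (m + 2 + 1) * (m + 1) + 1 := by ring
      rw [e2]
      omega
    exact this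
  rw [hfac] at hcount
  exact (Nat.eq_of_mul_eq_mul_right (by omega) hcount).symm

end Cfsg.Agent.S3381
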