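import Mathlib
import Cfsg.Statements.S3382
import Cfsg.Agent.Lib.Helper7.Stability

set_option autoImplicit false
open Cfsg

namespace Cfsg.Agent.S3382


section Part0

section Model

/-- the sign embedding `ℤˣ →* (ZMod q)ˣ` -/
def sg (q : ℕ) : ℤˣ →* (ZMod q)ˣ := Units.map ((Int.castRingHom (ZMod q)) : ℤ →* ZMod q)

theorem sg_one (q : ℕ) : sg q 1 = 1 := map_one _

theorem sg_neg_one (q : ℕ) : sg q (-1) = -1 := by
  ext
  simp [sg]

/-- the model of the monomial group: `(a, s, false)` is `diag(a, s a⁻¹)`, `(a, s, true)` is the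
anti-diagonal map `(x, y) ↦ (s a⁻¹ y, a x)` -/
@[ext] structure TM (q : ℕ) where
  a : (ZMod q)ˣ
  s : ℤˣ
  b : Bool

variable {q : ℕ}

instance [Fact q.Prime] : Finite (TM q) :=
  Finite.of_injective (fun x : TM q => (x.a, x.s, x.b)) (by
    intro x y h
    simp only [Prod.mk.injEq] at h
    exact TM.ext h.1 h.2.1 h.2.2)

instance : Mul (TM q) :=
  ⟨fun x y => ⟨if y.b then sg q x.s * x.a⁻¹ * y.a else x.a * y.a, x.s * y.s, xor x.b y.b⟩⟩
instance : One (TM q) := ⟨⟨1, 1, false⟩⟩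
instance : Inv (TM q) :=
  ⟨fun x => ⟨if x.b then sg q x.s⁻¹ * x.a else x.a⁻¹, x.s⁻¹, x.b⟩⟩

@[simp] theorem TM.mul_a (x y : TM q) :
    (x * y).a = if y.b then sg q x.s * x.a⁻¹ * y.a else x.a * y.a := rfl
@[simp] theorem TM.mul_s (x y : TM q) : (x * y).s = x.s * y.s := rfl
@[simp] theorem TM.mul_b (x y : TM q) : (x * y).b = xor x.b y.b := rfl
@[simp] theorem TM.one_a : (1 : TM q).a = 1 := rfl
@[simp] theorem TM.one_s : (1 : TM q).s = 1 := rfl
@[simp] theorem TM.one_b : (1 : TM q).b = false := rfl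
@[simp] theorem TM.inv_a (x : TM q) :
    (x⁻¹).a = if x.b then sg q x.s⁻¹ * x.a else x.a⁻¹ := rfl
@[simp] theorem TM.inv_s (x : TM q) : (x⁻¹).s = x.s⁻¹ := rfl
@[simp] theorem TM.inv_b (x : TM q) : (x⁻¹).b = x.b := rfl

instance : Group (TM q) :=
  Group.ofLeftAxioms
    (by
      intro x y z
      rcases x with ⟨a, s, b⟩
      rcases y with ⟨a', s', b'⟩
      rcases z with ⟨a'', s'', b''⟩
      apply TM.ext
      · cases b' <;> cases b'' <;> simp [map_mul, mul_assoc, mul_comm, mul_left_comm]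
      · simp [mul_assoc]
      · simp [Bool.xor_assoc])
    (by
      intro x
      rcases x with ⟨a, s, b⟩
      apply TM.ext
      · cases b <;> simp [sg_one]
      · simp
      · simp)
    (by
      intro x
      rcases x with ⟨a, s, b⟩
      apply TM.ext
      · cases b <;> simp [map_inv, mul_assoc]
      · simp
      · simp)

end Model

end Part0

section Part1

section Embed

variable {q : ℕ} [Fact q.Prime]

/-- diagonal map `(x, y) ↦ (a x, c y)` -/
def Dm (a c : (ZMod q)ˣ) : (Fin 2 → ZMod q) ≃ₗ[ZMod q] (Fin 2 → ZMod q) where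
  toFun v := ![(a : ZMod q) * v 0, (c : ZMod q) * v 1]
  invFun v := ![((a⁻¹ : (ZMod q)ˣ) : ZMod q) * v 0, ((c⁻¹ : (ZMod q)ˣ) : ZMod q) * v 1]
  map_add' := by
    intro v w
    ext i
    fin_cases i <;> simp [mul_add]
  map_smul' := by
    intro r v
    ext i
    fin_cases i <;> simp [mul_left_comm]
  left_inv := by
    intro v
    ext i
    fin_cases i
    · show ((a⁻¹ : (ZMod q)ˣ) : ZMod q) * ((a : ZMod q) * v 0) = v 0
      rw [← mul_assoc, Units.inv_mul, one_mul]
    · show ((c⁻¹ : (ZMod q)ˣ) : ZMod q) * ((c : ZMod q) * v 1) = v 1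
      rw [← mul_assoc, Units.inv_mul, one_mul]
  right_inv := by
    intro v
    ext i
    fin_cases i
    · show (a : ZMod q) * (((a⁻¹ : (ZMod q)ˣ) : ZMod q) * v 0) = v 0
      rw [← mul_assoc, Units.mul_inv, one_mul]
    · show (c : ZMod q) * (((c⁻¹ : (ZMod q)ˣ) : ZMod q) * v 1) = v 1
      rw [← mul_assoc, Units.mul_inv, one_mul]

/-- anti-diagonal map `(x, y) ↦ (c y, a x)` -/
def Am (a c : (ZMod q)ˣ) : (Fin 2 → ZMod q) ≃ₗ[ZMod q] (Fin 2 → ZMod q) where
  toFun v := ![(c : ZMod q) * v 1, (a : ZMod q) * v 0]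
  invFun v := ![((a⁻¹ : (ZMod q)ˣ) : ZMod q) * v 1, ((c⁻¹ : (ZMod q)ˣ) : ZMod q) * v 0]
  map_add' := by
    intro v w
    ext i
    fin_cases i <;> simp [mul_add]
  map_smul' := by
    intro r v
    ext i
    fin_cases i <;> simp [mul_left_comm]
  left_inv := by
    intro v
    ext i
    fin_cases i
    · show ((a⁻¹ : (ZMod q)ˣ) : ZMod q) * ((a : ZMod q) * v 0) = v 0
      rw [← mul_assoc, Units.inv_mul, one_mul]
    · show ((c⁻¹ : (ZMod q)ˣ) : ZMod q) * ((c : ZMod q) * v 1) = v 1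
      rw [← mul_assoc, Units.inv_mul, one_mul]
  right_inv := by
    intro v
    ext i
    fin_cases i
    · show (c : ZMod q) * (((c⁻¹ : (ZMod q)ˣ) : ZMod q) * v 0) = v 0
      rw [← mul_assoc, Units.mul_inv, one_mul]
    · show (a : ZMod q) * (((a⁻¹ : (ZMod q)ˣ) : ZMod q) * v 1) = v 1
      rw [← mul_assoc, Units.mul_inv, one_mul]

@[simp] theorem Dm_apply (a c : (ZMod q)ˣ) (v : Fin 2 → ZMod q) :
    Dm a c v = ![(a : ZMod q) * v 0, (c : ZMod q) * v 1] := rfl

@[simp] theorem Am_apply (a c : (ZMod q)ˣ) (v : Fin 2 → ZMod q) :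
    Am a c v = ![(c : ZMod q) * v 1, (a : ZMod q) * v 0] := rfl

theorem Dm_mul_Dm (a c a' c' : (ZMod q)ˣ) : Dm a c * Dm a' c' = Dm (a * a') (c * c') := by
  ext v i
  fin_cases i <;> simp [LinearEquiv.mul_apply, mul_assoc]

theorem Dm_mul_Am (a c a' c' : (ZMod q)ˣ) : Dm a c * Am a' c' = Am (c * a') (a * c') := by
  ext v i
  fin_cases i <;> simp [LinearEquiv.mul_apply, mul_assoc]

theorem Am_mul_Dm (a c a' c' : (ZMod q)ˣ) : Am a c * Dm a' c' = Am (a * a') (c * c') := by
  ext v i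
  fin_cases i <;> simp [LinearEquiv.mul_apply, mul_assoc]

theorem Am_mul_Am (a c a' c' : (ZMod q)ˣ) : Am a c * Am a' c' = Dm (c * a') (a * c') := by
  ext v i
  fin_cases i <;> simp [LinearEquiv.mul_apply, mul_assoc]

theorem Dm_one : Dm (1 : (ZMod q)ˣ) 1 = 1 := by
  ext v i
  fin_cases i <;> simp

/-- evaluation at basis vectors recovers the coefficients -/
theorem Dm_inj {a c a' c' : (ZMod q)ˣ} (h : Dm a c = Dm a' c') : a = a' ∧ c = c' := by
  have h0 := congrArg (fun f => f ![1, 0] 0) h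
  have h1 := congrArg (fun f => f ![0, 1] 1) h
  simp at h0 h1
  exact ⟨Units.ext h0, Units.ext h1⟩

theorem Am_inj {a c a' c' : (ZMod q)ˣ} (h : Am a c = Am a' c') : a = a' ∧ c = c' := by
  have h0 := congrArg (fun f => f ![1, 0] 1) h
  have h1 := congrArg (fun f => f ![0, 1] 0) h
  simp at h0 h1
  exact ⟨Units.ext h0, Units.ext h1⟩

theorem Dm_ne_Am (a c a' c' : (ZMod q)ˣ) : Dm a c ≠ Am a' c' := by
  intro h
  have h0 := congrArg (fun f => f ![1, 0] 0) h
  simp at h0

/-- the embedding of the model -/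
def iotaFun (x : TM q) : (Fin 2 → ZMod q) ≃ₗ[ZMod q] (Fin 2 → ZMod q) :=
  if x.b then Am x.a (sg q x.s * x.a⁻¹) else Dm x.a (sg q x.s * x.a⁻¹)

def iota : TM q →* ((Fin 2 → ZMod q) ≃ₗ[ZMod q] (Fin 2 → ZMod q)) where
  toFun := iotaFun
  map_one' := by
    show iotaFun (1 : TM q) = 1
    simp [iotaFun, sg_one, Dm_one]
  map_mul' := by
    intro x y
    rcases x with ⟨a, s, b⟩
    rcases y with ⟨a', s', b'⟩
    cases b <;> cases b' <;>
      simp [iotaFun, Dm_mul_Dm, Dm_mul_Am, Am_mul_Dm, Am_mul_Am, map_mul, mul_assoc, mul_comm,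
        mul_left_comm]

theorem sg_injective (hq2 : q ≠ 2) : Function.Injective (sg q) := by
  intro s s' h
  rcases Int.units_eq_one_or s with rfl | rfl <;> rcases Int.units_eq_one_or s' with rfl | rfl
  · rfl
  · exfalso
    rw [sg_one, sg_neg_one] at h
    have h1 : (1 : ZMod q) = -1 := by
      have := congrArg (fun u : (ZMod q)ˣ => (u : ZMod q)) h
      simpa using this
    have h2 : (2 : ZMod q) = 0 := by
      have e : (2 : ZMod q) = 1 + 1 := by norm_num
      rw [e]; nth_rewrite 1 [h1]; ring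
    have h3 : ((2 : ℕ) : ZMod q) = 0 := by exact_mod_cast h2
    rw [ZMod.natCast_eq_zero_iff] at h3
    have hq : q.Prime := Fact.out
    exact hq2 ((Nat.prime_dvd_prime_iff_eq hq Nat.prime_two).1 h3)
  · exfalso
    rw [sg_one, sg_neg_one] at h
    have h1 : (1 : ZMod q) = -1 := by
      have := congrArg (fun u : (ZMod q)ˣ => (u : ZMod q)) h.symm
      simpa using this
    have h2 : (2 : ZMod q) = 0 := by
      have e : (2 : ZMod q) = 1 + 1 := by norm_num
      rw [e]; nth_rewrite 1 [h1]; ring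
    have h3 : ((2 : ℕ) : ZMod q) = 0 := by exact_mod_cast h2
    rw [ZMod.natCast_eq_zero_iff] at h3
    have hq : q.Prime := Fact.out
    exact hq2 ((Nat.prime_dvd_prime_iff_eq hq Nat.prime_two).1 h3)
  · rfl

theorem iota_injective (hq2 : q ≠ 2) : Function.Injective (iota (q := q)) := by
  intro x y h
  rcases x with ⟨a, s, b⟩
  rcases y with ⟨a', s', b'⟩
  change iotaFun _ = iotaFun _ at h
  cases b <;> cases b' <;> simp only [iotaFun, Bool.false_eq_true, if_false, if_true] at h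
  · obtain ⟨h1, h2⟩ := Dm_inj h
    subst h1
    have : sg q s = sg q s' := mul_right_cancel h2
    rw [sg_injective hq2 this]
  · exact absurd h (Dm_ne_Am _ _ _ _)
  · exact absurd h.symm (Dm_ne_Am _ _ _ _)
  · obtain ⟨h1, h2⟩ := Am_inj h
    subst h1
    have : sg q s = sg q s' := mul_right_cancel h2
    rw [sg_injective hq2 this]

theorem range_iota (T : Subgroup ((Fin 2 → ZMod q) ≃ₗ[ZMod q] (Fin 2 → ZMod q)))
    (hT : ∀ f, f ∈ T ↔ ∃ a s : ZMod q, a ≠ 0 ∧ (s = 1 ∨ s = -1) ∧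
      ((∀ v, f v = ![a * v 0, s * a⁻¹ * v 1]) ∨ (∀ v, f v = ![s * a⁻¹ * v 1, a * v 0]))) :
    (iota (q := q)).range = T := by
  ext f
  rw [hT]
  constructor
  · rintro ⟨x, rfl⟩
    rcases x with ⟨a, s, b⟩
    refine ⟨(a : ZMod q), ((sg q s : (ZMod q)ˣ) : ZMod q), a.ne_zero, ?_, ?_⟩
    · rcases Int.units_eq_one_or s with rfl | rfl
      · left; simp [sg_one]
      · right; simp [sg_neg_one]
    · cases b
      · left
        intro v
        have e : iota (q := q) ⟨a, s, false⟩ = Dm a (sg q s * a⁻¹) := rfl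
        rw [e, Dm_apply, Units.val_mul, Units.val_inv_eq_inv_val]
      · right
        intro v
        have e : iota (q := q) ⟨a, s, true⟩ = Am a (sg q s * a⁻¹) := rfl
        rw [e, Am_apply, Units.val_mul, Units.val_inv_eq_inv_val]
  · rintro ⟨a, s, ha, hs, h⟩
    have hs' : ∃ e : ℤˣ, ((sg q e : (ZMod q)ˣ) : ZMod q) = s := by
      rcases hs with rfl | rfl
      · exact ⟨1, by simp [sg_one]⟩
      · exact ⟨-1, by simp [sg_neg_one]⟩
    obtain ⟨e, he⟩ := hs'
    rcases h with h | h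
    · refine ⟨⟨Units.mk0 a ha, e, false⟩, ?_⟩
      ext v i
      show iotaFun _ v i = _
      rw [h v]
      fin_cases i <;> simp [iotaFun, he]
    · refine ⟨⟨Units.mk0 a ha, e, true⟩, ?_⟩
      ext v i
      show iotaFun _ v i = _
      rw [h v]
      fin_cases i <;> simp [iotaFun, he]

end Embed

end Part1

section Part2

section Chain

/-- a chain of characteristic subgroups with steps of index at most 2 forces `Aut` to be a 2-group -/
theorem isPGroup_mulAut_of_chain {P : Type*} [Group P] [Finite P] (hP : IsPGroup 2 P)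
    (C : ℕ → Subgroup P) (N : ℕ) (h0 : C 0 = ⊥) (hN : C N = ⊤)
    (hinv : ∀ i, ∀ β : MulAut P, ∀ x ∈ C i, β x ∈ C i)
    (hstep : ∀ i < N, ∀ x ∈ C (i + 1), ∀ y ∈ C (i + 1), x ∉ C i → y ∉ C i → x⁻¹ * y ∈ C i) :
    IsPGroup 2 (MulAut P) := by
  haveI : Fact (Nat.Prime 2) := ⟨Nat.prime_two⟩
  have hA : ∀ i, ∀ α ∈ (⊤ : Subgroup (MulAut P)), ∀ x ∈ C i, α x ∈ C i :=
    fun i α _ x hx => hinv i α x hx
  have h := Cfsg.Agent.Lib.Helper7.isPGroup_stabChain hP ⊤ C N hA h0 hN
  intro β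
  have hβ : β ∈ Cfsg.Agent.Lib.Helper7.stabChain ⊤ C N hA := by
    refine ⟨Subgroup.mem_top _, fun i hi x hx => ?_⟩
    by_cases hx' : x ∈ C i
    · exact mul_mem (inv_mem hx') (hinv i β x hx')
    · apply hstep i hi x hx (β x) (hinv (i + 1) β x hx) hx'
      intro hbx
      apply hx'
      have := hinv i β⁻¹ (β x) hbx
      rwa [MulAut.inv_apply_self] at this
  obtain ⟨k, hk⟩ := h ⟨β, hβ⟩
  refine ⟨k, ?_⟩
  have := congrArg Subtype.val hk
  simpa using this

end Chain

section Field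

variable {q : ℕ} [Fact q.Prime]

/-- squares in the unit group -/
def IsSq (u : (ZMod q)ˣ) : Prop := ∃ y : (ZMod q)ˣ, y ^ 2 = u

theorem IsSq.mul {u v : (ZMod q)ˣ} (hu : IsSq u) (hv : IsSq v) : IsSq (u * v) := by
  obtain ⟨y, rfl⟩ := hu
  obtain ⟨z, rfl⟩ := hv
  exact ⟨y * z, by rw [mul_pow]⟩

theorem IsSq.inv {u : (ZMod q)ˣ} (hu : IsSq u) : IsSq u⁻¹ := by
  obtain ⟨y, rfl⟩ := hu
  exact ⟨y⁻¹, by rw [inv_pow]⟩

theorem isSq_one : IsSq (1 : (ZMod q)ˣ) := ⟨1, one_pow 2⟩

theorem sq_eq_one {u : (ZMod q)ˣ} (h : u ^ 2 = 1) : u = 1 ∨ u = -1 := by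
  have h1 : ((u : ZMod q)) ^ 2 = 1 := by
    have := congrArg (fun w : (ZMod q)ˣ => (w : ZMod q)) h
    simpa using this
  rw [pow_two] at h1
  rcases mul_self_eq_one_iff.1 h1 with h2 | h2
  · left; exact Units.ext h2
  · right; exact Units.ext (by simpa using h2)

end Field

end Part2

section Part3

section Field2

variable {q : ℕ} [Fact q.Prime]

theorem units_pow_eq_one (m : ℕ) (hq : q = 2 ^ m + 1) (u : (ZMod q)ˣ) : u ^ (2 ^ m) = 1 := by
  have h := pow_card_eq_one (x := u)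
  rw [ZMod.card_units] at h
  have e : q - 1 = 2 ^ m := by rw [hq]; simp
  rwa [e] at h

theorem half_q (m : ℕ) (hm : 1 ≤ m) (hq : q = 2 ^ m + 1) : q / 2 = 2 ^ (m - 1) := by
  obtain ⟨k, rfl⟩ := Nat.exists_eq_add_of_le' hm
  rw [hq, Nat.add_sub_cancel, pow_succ]
  omega

theorem isSq_iff (m : ℕ) (hm : 1 ≤ m) (hq : q = 2 ^ m + 1) (u : (ZMod q)ˣ) :
    IsSq u ↔ u ^ (2 ^ (m - 1)) = 1 := by
  rw [← half_q m hm hq]
  exact ZMod.euler_criterion_units q u

theorem pow_half_of_not_isSq (m : ℕ) (hm : 1 ≤ m) (hq : q = 2 ^ m + 1) (u : (ZMod q)ˣ)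
    (hu : ¬ IsSq u) : u ^ (2 ^ (m - 1)) = -1 := by
  have h1 : (u ^ (2 ^ (m - 1))) ^ 2 = 1 := by
    rw [← pow_mul, ← pow_succ]
    have : m - 1 + 1 = m := by omega
    rw [this]
    exact units_pow_eq_one m hq u
  rcases sq_eq_one h1 with h | h
  · exact absurd ((isSq_iff m hm hq u).2 h) hu
  · exact h

theorem isSq_mul_of_not (m : ℕ) (hm : 1 ≤ m) (hq : q = 2 ^ m + 1) (u v : (ZMod q)ˣ)
    (hu : ¬ IsSq u) (hv : ¬ IsSq v) : IsSq (u⁻¹ * v) := by
  rw [isSq_iff m hm hq, mul_pow, inv_pow, pow_half_of_not_isSq m hm hq u hu,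
    pow_half_of_not_isSq m hm hq v hv]
  simp

theorem isSq_neg_one (m : ℕ) (hm : 2 ≤ m) (hq : q = 2 ^ m + 1) : IsSq (-1 : (ZMod q)ˣ) := by
  rw [isSq_iff m (by omega) hq]
  obtain ⟨k, rfl⟩ := Nat.exists_eq_add_of_le' hm
  have : k + 2 - 1 = k + 1 := by omega
  rw [this, pow_succ', pow_mul, neg_one_sq, one_pow]

theorem neg_one_ne_one (hq2 : q ≠ 2) : (-1 : (ZMod q)ˣ) ≠ 1 := by
  intro h
  have h1 : sg q (-1) = sg q 1 := by rw [sg_neg_one, sg_one, h]
  have := sg_injective hq2 h1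
  exact absurd this (by decide)

/-- a square whose square is not one, when `m ≥ 3` -/
theorem exists_sq_sq_ne_one (m : ℕ) (hm : 3 ≤ m) (hq : q = 2 ^ m + 1) (hq2 : q ≠ 2) :
    ∃ u : (ZMod q)ˣ, IsSq u ∧ u ^ 2 ≠ 1 := by
  obtain ⟨y, hy⟩ := isSq_neg_one m (by omega) hq
  refine ⟨y, ?_, ?_⟩
  · rw [isSq_iff m (by omega) hq]
    obtain ⟨k, rfl⟩ := Nat.exists_eq_add_of_le' hm
    have : k + 3 - 1 = k + 2 := by omega
    rw [this]
    have e : 2 ^ (k + 2) = 2 * (2 * 2 ^ k) := by ring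
    rw [e, pow_mul, hy, pow_mul]
    simp
  · rw [hy]
    exact neg_one_ne_one hq2

end Field2

section Powers

variable {q : ℕ} [Fact q.Prime]

theorem pow_diag (x : TM q) (hx : x.b = false) (n : ℕ) : x ^ n = ⟨x.a ^ n, x.s ^ n, false⟩ := by
  induction n with
  | zero => simp; rfl
  | succ n ih =>
    rw [pow_succ, ih]
    apply TM.ext <;> simp [hx, pow_succ]

theorem sq_anti (x : TM q) (hx : x.b = true) : x ^ 2 = ⟨sg q x.s, 1, false⟩ := by
  rw [pow_two]
  apply TM.ext <;> simp [hx]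

theorem sq_diag (x : TM q) (hx : x.b = false) : x ^ 2 = ⟨x.a ^ 2, 1, false⟩ := by
  rw [pow_diag x hx]
  apply TM.ext <;> simp
  
theorem int_units_pow (s : ℤˣ) (k : ℕ) (hk : 1 ≤ k) : s ^ (2 ^ k) = 1 := by
  obtain ⟨j, rfl⟩ := Nat.exists_eq_add_of_le' hk
  rw [pow_succ, mul_comm, pow_mul]
  simp

theorem isPGroup_TM (m : ℕ) (hm : 1 ≤ m) (hq : q = 2 ^ m + 1) : IsPGroup 2 (TM q) := by
  intro x
  refine ⟨m + 1, ?_⟩
  rw [pow_succ, mul_comm, pow_mul]
  have key : ∀ y : TM q, y.b = false → y ^ (2 ^ m) = 1 := by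
    intro y hy
    rw [pow_diag y hy, units_pow_eq_one m hq, int_units_pow _ m hm]
    rfl
  cases hb : x.b
  · apply key
    rw [sq_diag x hb]
  · apply key
    rw [sq_anti x hb]

end Powers

end Part3

section Part4

section Subgroups

variable {q : ℕ} [Fact q.Prime]

/-- the diagonal subgroup -/
def Dg (q : ℕ) [Fact q.Prime] : Subgroup (TM q) where
  carrier := {x | x.b = false}
  mul_mem' := by
    intro x y hx hy
    simp only [Set.mem_setOf_eq] at hx hy ⊢
    simp [hx, hy]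
  one_mem' := rfl
  inv_mem' := by
    intro x hx
    simpa using hx

theorem mem_Dg {x : TM q} : x ∈ Dg q ↔ x.b = false := Iff.rfl

/-- diagonal elements with square entry -/
def Eg (q : ℕ) [Fact q.Prime] : Subgroup (TM q) where
  carrier := {x | x.b = false ∧ IsSq x.a}
  mul_mem' := by
    intro x y hx hy
    simp only [Set.mem_setOf_eq] at hx hy ⊢
    refine ⟨by simp [hx.1, hy.1], ?_⟩
    rw [TM.mul_a, hy.1]
    simpa using hx.2.mul hy.2
  one_mem' := ⟨rfl, isSq_one⟩
  inv_mem' := by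
    intro x hx
    simp only [Set.mem_setOf_eq] at hx ⊢
    refine ⟨by simpa using hx.1, ?_⟩
    rw [TM.inv_a, hx.1]
    simpa using hx.2.inv

theorem mem_Eg {x : TM q} : x ∈ Eg q ↔ x.b = false ∧ IsSq x.a := Iff.rfl

/-- the subgroup `{diag(u, u⁻¹) : u a square with u^(2^i) = 1}` -/
def CP (q : ℕ) [Fact q.Prime] (i : ℕ) : Subgroup (TM q) where
  carrier := {x | x.b = false ∧ x.s = 1 ∧ IsSq x.a ∧ x.a ^ (2 ^ i) = 1}
  mul_mem' := by
    intro x y hx hy
    simp only [Set.mem_setOf_eq] at hx hy ⊢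
    refine ⟨by simp [hx.1, hy.1], by simp [hx.2.1, hy.2.1], ?_, ?_⟩
    · rw [TM.mul_a, hy.1]
      simpa using hx.2.2.1.mul hy.2.2.1
    · rw [TM.mul_a, hy.1]
      simp [mul_pow, hx.2.2.2, hy.2.2.2]
  one_mem' := ⟨rfl, rfl, isSq_one, one_pow _⟩
  inv_mem' := by
    intro x hx
    simp only [Set.mem_setOf_eq] at hx ⊢
    refine ⟨by simpa using hx.1, by simp [hx.2.1], ?_, ?_⟩
    · rw [TM.inv_a, hx.1]
      simpa using hx.2.2.1.inv
    · rw [TM.inv_a, hx.1]
      simp [hx.2.2.2]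

theorem mem_CP {i : ℕ} {x : TM q} :
    x ∈ CP q i ↔ x.b = false ∧ x.s = 1 ∧ IsSq x.a ∧ x.a ^ (2 ^ i) = 1 := Iff.rfl

/-- squares -/
def IsSqT (x : TM q) : Prop := ∃ h : TM q, h ^ 2 = x

theorem isSqT_iff (m : ℕ) (hm : 2 ≤ m) (hq : q = 2 ^ m + 1) (x : TM q) :
    IsSqT x ↔ x.b = false ∧ x.s = 1 ∧ IsSq x.a := by
  constructor
  · rintro ⟨h, rfl⟩
    cases hb : h.b
    · rw [sq_diag h hb]
      exact ⟨rfl, rfl, ⟨h.a, rfl⟩⟩
    · rw [sq_anti h hb]
      refine ⟨rfl, rfl, ?_⟩
      show IsSq (sg q h.s)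
      rcases Int.units_eq_one_or h.s with e | e
      · rw [e, sg_one]; exact isSq_one
      · rw [e, sg_neg_one]; exact isSq_neg_one m hm hq
  · rintro ⟨h1, h2, ⟨y, hy⟩⟩
    refine ⟨⟨y, 1, false⟩, ?_⟩
    rw [sq_diag _ rfl]
    apply TM.ext
    · exact hy
    · exact h2.symm
    · exact h1.symm

theorem mem_CP_iff (m : ℕ) (hm : 2 ≤ m) (hq : q = 2 ^ m + 1) (i : ℕ) (x : TM q) :
    x ∈ CP q i ↔ IsSqT x ∧ x ^ (2 ^ i) = 1 := by
  rw [mem_CP, isSqT_iff m hm hq]
  constructor
  · rintro ⟨h1, h2, h3, h4⟩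
    refine ⟨⟨h1, h2, h3⟩, ?_⟩
    rw [pow_diag x h1, h4, h2, one_pow]
    rfl
  · rintro ⟨⟨h1, h2, h3⟩, h4⟩
    refine ⟨h1, h2, h3, ?_⟩
    rw [pow_diag x h1] at h4
    exact congrArg TM.a h4

theorem mem_Dg_iff (m : ℕ) (hm : 3 ≤ m) (hq : q = 2 ^ m + 1) (hq2 : q ≠ 2) (x : TM q) :
    x ∈ Dg q ↔ ∀ h : TM q, IsSqT h → h * x = x * h := by
  constructor
  · intro hx h hh
    rw [isSqT_iff m (by omega) hq] at hh
    rw [mem_Dg] at hx
    apply TM.ext
    · simp [hx, hh.1, mul_comm]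
    · simp [mul_comm]
    · simp [hx, hh.1]
  · intro h
    rw [mem_Dg]
    by_contra hb
    have hb : x.b = true := by simpa using hb
    obtain ⟨u, hu, hu2⟩ := exists_sq_sq_ne_one m hm hq hq2
    have h1 := h ⟨u, 1, false⟩ ((isSqT_iff m (by omega) hq _).2 ⟨rfl, rfl, hu⟩)
    have h2 := congrArg TM.a h1
    simp [hb, sg_one] at h2
    apply hu2
    rw [pow_two]
    have : u⁻¹ = u := by
      have := mul_right_cancel (b := x.a) (by rw [h2, mul_comm] : u⁻¹ * x.a = u * x.a)
      exact this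
    calc u * u = u⁻¹ * u := by rw [this]
      _ = 1 := inv_mul_cancel u

theorem mem_Eg_iff (m : ℕ) (hm : 2 ≤ m) (hq : q = 2 ^ m + 1) (x : TM q) :
    x ∈ Eg q ↔ x ∈ Dg q ∧ x ^ (2 ^ (m - 1)) = 1 := by
  rw [mem_Eg, mem_Dg]
  constructor
  · rintro ⟨h1, h2⟩
    refine ⟨h1, ?_⟩
    rw [pow_diag x h1, (isSq_iff m (by omega) hq _).1 h2, int_units_pow _ (m - 1) (by omega)]
    rfl
  · rintro ⟨h1, h2⟩
    refine ⟨h1, ?_⟩
    rw [pow_diag x h1] at h2
    exact (isSq_iff m (by omega) hq _).2 (congrArg TM.a h2)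

end Subgroups

end Part4

section Part5

section BigChain

variable {q : ℕ} [Fact q.Prime]

/-- the characteristic chain -/
def Cc (q : ℕ) [Fact q.Prime] (m : ℕ) (i : ℕ) : Subgroup (TM q) :=
  if i + 1 ≤ m then CP q i else if i = m then Eg q else if i = m + 1 then Dg q else ⊤

theorem isSqT_map (β : MulAut (TM q)) {x : TM q} (hx : IsSqT x) : IsSqT (β x) := by
  obtain ⟨h, rfl⟩ := hx
  exact ⟨β h, by rw [map_pow]⟩

theorem CP_inv (m : ℕ) (hm : 2 ≤ m) (hq : q = 2 ^ m + 1) (i : ℕ) (β : MulAut (TM q))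
    (x : TM q) (hx : x ∈ CP q i) : β x ∈ CP q i := by
  rw [mem_CP_iff m hm hq] at hx ⊢
  exact ⟨isSqT_map β hx.1, by rw [← map_pow, hx.2, map_one]⟩

theorem Dg_inv (m : ℕ) (hm : 3 ≤ m) (hq : q = 2 ^ m + 1) (hq2 : q ≠ 2) (β : MulAut (TM q))
    (x : TM q) (hx : x ∈ Dg q) : β x ∈ Dg q := by
  rw [mem_Dg_iff m hm hq hq2] at hx ⊢
  intro h hh
  have h1 := hx (β⁻¹ h) (isSqT_map β⁻¹ hh)
  have h2 := congrArg β h1
  rw [map_mul, map_mul, MulAut.apply_inv_self] at h2
  exact h2

theorem Eg_inv (m : ℕ) (hm : 3 ≤ m) (hq : q = 2 ^ m + 1) (hq2 : q ≠ 2) (β : MulAut (TM q))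
    (x : TM q) (hx : x ∈ Eg q) : β x ∈ Eg q := by
  rw [mem_Eg_iff m (by omega) hq] at hx ⊢
  exact ⟨Dg_inv m hm hq hq2 β x hx.1, by rw [← map_pow, hx.2, map_one]⟩

theorem isPGroup_mulAut_TM (m : ℕ) (hm : 3 ≤ m) (hq : q = 2 ^ m + 1) (hq2 : q ≠ 2) :
    IsPGroup 2 (MulAut (TM q)) := by
  apply isPGroup_mulAut_of_chain (isPGroup_TM m (by omega) hq) (Cc q m) (m + 2)
  · -- bottom
    have : Cc q m 0 = CP q 0 := by
      unfold Cc
      rw [if_pos (by omega)]
    rw [this, eq_bot_iff]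
    intro x hx
    rw [mem_CP] at hx
    rw [Subgroup.mem_bot]
    apply TM.ext
    · simpa using hx.2.2.2
    · exact hx.2.1
    · exact hx.1
  · -- top
    unfold Cc
    rw [if_neg (by omega), if_neg (by omega), if_neg (by omega)]
  · -- invariance
    intro i β x hx
    unfold Cc at hx ⊢
    split_ifs at hx ⊢ with h1 h2 h3
    · exact CP_inv m (by omega) hq i β x hx
    · exact Eg_inv m hm hq hq2 β x hx
    · exact Dg_inv m hm hq hq2 β x hx
    · exact Subgroup.mem_top _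
  · -- steps
    intro i hi x hx y hy hxi hyi
    by_cases c1 : i + 2 ≤ m
    · have e1 : Cc q m (i + 1) = CP q (i + 1) := by
        unfold Cc
        rw [if_pos (by omega)]
      have e0 : Cc q m i = CP q i := by
        unfold Cc
        rw [if_pos (by omega)]
      rw [e1] at hx hy
      rw [e0] at hxi hyi ⊢
      rw [mem_CP] at hx hy hxi hyi ⊢
      have hx4 : x.a ^ (2 ^ i) = -1 := by
        have h1 : (x.a ^ (2 ^ i)) ^ 2 = 1 := by
          rw [← pow_mul, ← pow_succ]
          exact hx.2.2.2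
        rcases sq_eq_one h1 with h | h
        · exact absurd ⟨hx.1, hx.2.1, hx.2.2.1, h⟩ hxi
        · exact h
      have hy4 : y.a ^ (2 ^ i) = -1 := by
        have h1 : (y.a ^ (2 ^ i)) ^ 2 = 1 := by
          rw [← pow_mul, ← pow_succ]
          exact hy.2.2.2
        rcases sq_eq_one h1 with h | h
        · exact absurd ⟨hy.1, hy.2.1, hy.2.2.1, h⟩ hyi
        · exact h
      refine ⟨by simp [hx.1, hy.1], by simp [hx.2.1, hy.2.1], ?_, ?_⟩
      · rw [TM.mul_a, hy.1, TM.inv_a, hx.1]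
        simpa using hx.2.2.1.inv.mul hy.2.2.1
      · rw [TM.mul_a, hy.1, TM.inv_a, hx.1]
        simp [mul_pow, hx4, hy4]
    · by_cases c2 : i + 1 = m
      · have e1 : Cc q m (i + 1) = Eg q := by
          unfold Cc
          rw [if_neg (by omega), if_pos (by omega)]
        have e0 : Cc q m i = CP q i := by
          unfold Cc
          rw [if_pos (by omega)]
        rw [e1] at hx hy
        rw [e0] at hxi hyi ⊢
        rw [mem_Eg] at hx hy
        rw [mem_CP] at hxi hyi ⊢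
        have hpw : ∀ z : TM q, IsSq z.a → z.a ^ (2 ^ i) = 1 := by
          intro z hz
          have := (isSq_iff m (by omega) hq z.a).1 hz
          have e : m - 1 = i := by omega
          rwa [e] at this
        have hxs : x.s = -1 := by
          rcases Int.units_eq_one_or x.s with h | h
          · exact absurd ⟨hx.1, h, hx.2, hpw x hx.2⟩ hxi
          · exact h
        have hys : y.s = -1 := by
          rcases Int.units_eq_one_or y.s with h | h
          · exact absurd ⟨hy.1, h, hy.2, hpw y hy.2⟩ hyi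
          · exact h
        have hsq : IsSq (x⁻¹ * y).a := by
          rw [TM.mul_a, hy.1, TM.inv_a, hx.1]
          simpa using hx.2.inv.mul hy.2
        exact ⟨by simp [hx.1, hy.1], by simp [hxs, hys], hsq, hpw _ hsq⟩
      · by_cases c3 : i = m
        · have e1 : Cc q m (i + 1) = Dg q := by
            unfold Cc
            rw [if_neg (by omega), if_neg (by omega), if_pos (by omega)]
          have e0 : Cc q m i = Eg q := by
            unfold Cc
            rw [if_neg (by omega), if_pos (by omega)]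
          rw [e1] at hx hy
          rw [e0] at hxi hyi ⊢
          rw [mem_Dg] at hx hy
          rw [mem_Eg] at hxi hyi ⊢
          have hxa : ¬ IsSq x.a := fun h => hxi ⟨hx, h⟩
          have hya : ¬ IsSq y.a := fun h => hyi ⟨hy, h⟩
          refine ⟨by simp [hx, hy], ?_⟩
          rw [TM.mul_a, hy, TM.inv_a, hx]
          simpa using isSq_mul_of_not m (by omega) hq x.a y.a hxa hya
        · have e1 : i = m + 1 := by omega
          have e0 : Cc q m i = Dg q := by
            unfold Cc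
            rw [if_neg (by omega), if_neg (by omega), if_pos (by omega)]
          rw [e0] at hxi hyi ⊢
          rw [mem_Dg] at hxi hyi ⊢
          have hxb : x.b = true := by simpa using hxi
          have hyb : y.b = true := by simpa using hyi
          simp [hxb, hyb]

end BigChain

end Part5

section Part6

section Three

variable {q : ℕ} [Fact q.Prime]

/-- for `q = 3`: the centre `{diag(u,u)}` -/
def Z3 (q : ℕ) [Fact q.Prime] : Subgroup (TM q) where
  carrier := {x | x.b = false ∧ x.s = 1}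
  mul_mem' := by
    intro x y hx hy
    simp only [Set.mem_setOf_eq] at hx hy ⊢
    exact ⟨by simp [hx.1, hy.1], by simp [hx.2, hy.2]⟩
  one_mem' := ⟨rfl, rfl⟩
  inv_mem' := by
    intro x hx
    simp only [Set.mem_setOf_eq] at hx ⊢
    exact ⟨by simpa using hx.1, by simp [hx.2]⟩

theorem mem_Z3 {x : TM q} : x ∈ Z3 q ↔ x.b = false ∧ x.s = 1 := Iff.rfl

/-- for `q = 3`: the cyclic subgroup of order 4 -/
def K3 (q : ℕ) [Fact q.Prime] : Subgroup (TM q) where
  carrier := {x | x.s = if x.b then -1 else 1}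
  mul_mem' := by
    intro x y hx hy
    simp only [Set.mem_setOf_eq] at hx hy ⊢
    rw [TM.mul_s, TM.mul_b, hx, hy]
    cases x.b <;> cases y.b <;> simp
  one_mem' := rfl
  inv_mem' := by
    intro x hx
    simp only [Set.mem_setOf_eq] at hx ⊢
    rw [TM.inv_s, TM.inv_b, hx]
    cases x.b <;> simp

theorem mem_K3 {x : TM q} : x ∈ K3 q ↔ x.s = if x.b then -1 else 1 := Iff.rfl

theorem units_three (hq : q = 2 ^ 1 + 1) (u : (ZMod q)ˣ) : u = 1 ∨ u = -1 := by
  apply sq_eq_one
  have := units_pow_eq_one 1 hq u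
  simpa using this

theorem isSqT_iff_three (hq : q = 2 ^ 1 + 1) (x : TM q) :
    IsSqT x ↔ x.b = false ∧ x.s = 1 := by
  constructor
  · rintro ⟨h, rfl⟩
    cases hb : h.b
    · rw [sq_diag h hb]
      exact ⟨rfl, rfl⟩
    · rw [sq_anti h hb]
      exact ⟨rfl, rfl⟩
  · rintro ⟨h1, h2⟩
    rcases units_three hq x.a with h | h
    · refine ⟨⟨1, 1, true⟩, ?_⟩
      rw [sq_anti _ rfl]
      apply TM.ext
      · simp [sg_one, h]
      · exact h2.symm
      · exact h1.symm
    · refine ⟨⟨1, -1, true⟩, ?_⟩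
      rw [sq_anti _ rfl]
      apply TM.ext
      · simp [sg_neg_one, h]
      · exact h2.symm
      · exact h1.symm

theorem mem_K3_iff (hq : q = 2 ^ 1 + 1) (x : TM q) :
    x ∈ K3 q ↔ x ^ 2 ≠ 1 ∨ IsSqT x := by
  have hq2 : q ≠ 2 := by omega
  rw [mem_K3, isSqT_iff_three hq]
  cases hb : x.b
  · simp only [Bool.false_eq_true, if_false, true_and]
    constructor
    · intro h; right; exact h
    · rintro (h | h)
      · exfalso
        apply h
        rw [sq_diag x hb]
        have : x.a ^ 2 = 1 := by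
          have := units_pow_eq_one 1 hq x.a
          simpa using this
        rw [this]
        rfl
      · exact h
  · simp only [if_true]
    constructor
    · intro h
      left
      rw [sq_anti x hb, h, sg_neg_one]
      intro h1
      have := congrArg TM.a h1
      exact neg_one_ne_one hq2 this
    · rintro (h | h)
      · rcases Int.units_eq_one_or x.s with e | e
        · exfalso
          apply h
          rw [sq_anti x hb, e, sg_one]
          rfl
        · exact e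
      · exact absurd h.1 (by simp)

/-- the chain for `q = 3` -/
def C3 (q : ℕ) [Fact q.Prime] (i : ℕ) : Subgroup (TM q) :=
  if i = 0 then ⊥ else if i = 1 then Z3 q else if i = 2 then K3 q else ⊤

theorem isPGroup_mulAut_TM_three (hq : q = 2 ^ 1 + 1) : IsPGroup 2 (MulAut (TM q)) := by
  have hq2 : q ≠ 2 := by omega
  have hZ : ∀ x : TM q, x ∈ Z3 q ↔ IsSqT x := fun x => by rw [mem_Z3, isSqT_iff_three hq]
  apply isPGroup_mulAut_of_chain (isPGroup_TM 1 le_rfl hq) (C3 q) 3
  · simp [C3]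
  · simp [C3]
  · intro i β x hx
    unfold C3 at hx ⊢
    split_ifs at hx ⊢ with h1 h2 h3
    · rw [Subgroup.mem_bot] at hx ⊢
      rw [hx, map_one]
    · rw [hZ] at hx ⊢
      exact isSqT_map β hx
    · rw [mem_K3_iff hq] at hx ⊢
      rcases hx with hx | hx
      · left
        intro h
        apply hx
        rw [← map_pow] at h
        exact β.injective (by rw [h, map_one])
      · right
        exact isSqT_map β hx
    · exact Subgroup.mem_top _
  · intro i hi x hx y hy hxi hyi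
    have hi' : i = 0 ∨ i = 1 ∨ i = 2 := by omega
    rcases hi' with rfl | rfl | rfl
    · have e1 : C3 q (0 + 1) = Z3 q := by simp [C3]
      have e0 : C3 q 0 = ⊥ := by simp [C3]
      rw [e1] at hx hy
      rw [e0] at hxi hyi ⊢
      rw [Subgroup.mem_bot] at hxi hyi ⊢
      rw [mem_Z3] at hx hy
      have hxa : x.a = -1 := by
        rcases units_three hq x.a with h | h
        · exfalso; apply hxi; exact TM.ext h hx.2 hx.1
        · exact h
      have hya : y.a = -1 := by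
        rcases units_three hq y.a with h | h
        · exfalso; apply hyi; exact TM.ext h hy.2 hy.1
        · exact h
      rw [inv_mul_eq_one]
      exact TM.ext (by rw [hxa, hya]) (by rw [hx.2, hy.2]) (by rw [hx.1, hy.1])
    · have e1 : C3 q (1 + 1) = K3 q := by simp [C3]
      have e0 : C3 q 1 = Z3 q := by simp [C3]
      rw [e1] at hx hy
      rw [e0] at hxi hyi ⊢
      rw [mem_K3] at hx hy
      rw [mem_Z3] at hxi hyi ⊢
      have hxb : x.b = true := by
        cases hb : x.b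
        · rw [hb] at hx
          exact absurd ⟨hb, by simpa using hx⟩ hxi
        · rfl
      have hyb : y.b = true := by
        cases hb : y.b
        · rw [hb] at hy
          exact absurd ⟨hb, by simpa using hy⟩ hyi
        · rfl
      rw [hxb] at hx
      rw [hyb] at hy
      simp only [if_true] at hx hy
      exact ⟨by simp [hxb, hyb], by simp [hx, hy]⟩
    · have e0 : C3 q 2 = K3 q := by simp [C3]
      rw [e0] at hxi hyi ⊢
      rw [mem_K3] at hxi hyi ⊢
      rw [TM.mul_s, TM.mul_b, TM.inv_s, TM.inv_b]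
      rcases Int.units_eq_one_or x.s with ex | ex <;> rcases Int.units_eq_one_or y.s with ey | ey <;>
        rw [ex] at hxi ⊢ <;> rw [ey] at hyi ⊢ <;> revert hxi hyi <;>
        cases x.b <;> cases y.b <;> simp

end Three

end Part6

section Part7

section Two

theorem zmod_two_eq_one : ∀ a : ZMod 2, a ≠ 0 → a = 1 := by decide

theorem zmod_two_neg_one : (-1 : ZMod 2) = 1 := by decide

theorem aut_trivial_two [Fact (Nat.Prime 2)]
    (T : Subgroup ((Fin 2 → ZMod 2) ≃ₗ[ZMod 2] (Fin 2 → ZMod 2)))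
    (hT : ∀ f, f ∈ T ↔ ∃ a s : ZMod 2, a ≠ 0 ∧ (s = 1 ∨ s = -1) ∧
      ((∀ v, f v = ![a * v 0, s * a⁻¹ * v 1]) ∨ (∀ v, f v = ![s * a⁻¹ * v 1, a * v 0]))) :
    IsPGroup 2 (MulAut T) := by
  have h1 : ∀ f ∈ T, f = 1 ∨ ∀ v, f v = ![v 1, v 0] := by
    intro f hf
    obtain ⟨a, s, ha, hs, h⟩ := (hT f).1 hf
    have ha1 : a = 1 := by
      exact zmod_two_eq_one a ha
    have hs1 : s = 1 := by
      rcases hs with h | h
      · exact h
      · rw [h]
        exact zmod_two_neg_one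
    subst ha1
    subst hs1
    rcases h with h | h
    · left
      ext v i
      rw [h v]
      fin_cases i <;> simp
    · right
      intro v
      rw [h v]
      simp
  have h2 : ∀ x y : T, x ≠ 1 → y ≠ 1 → x = y := by
    intro x y hx hy
    rcases h1 x.1 x.2 with h | h
    · exact absurd (Subtype.ext h) hx
    · rcases h1 y.1 y.2 with h' | h'
      · exact absurd (Subtype.ext h') hy
      · apply Subtype.ext
        ext v i
        rw [h v, h' v]
  intro β
  refine ⟨0, ?_⟩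
  rw [pow_zero, pow_one]
  apply MulEquiv.ext
  intro x
  show β x = x
  by_cases hx : x = 1
  · rw [hx, map_one]
  · have hbx : β x ≠ 1 := by
      intro h
      apply hx
      exact β.injective (by rw [h, map_one])
    exact h2 (β x) x hbx hx

end Two

section Final

theorem result (q m : ℕ) [Fact q.Prime] (hq : q = 2 ^ m + 1) (hq5 : q ≠ 5)
    (T : Subgroup ((Fin 2 → ZMod q) ≃ₗ[ZMod q] (Fin 2 → ZMod q)))
    (hT : ∀ f, f ∈ T ↔ ∃ a s : ZMod q, a ≠ 0 ∧ (s = 1 ∨ s = -1) ∧
      ((∀ v, f v = ![a * v 0, s * a⁻¹ * v 1]) ∨ (∀ v, f v = ![s * a⁻¹ * v 1, a * v 0]))) :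
    IsPGroup 2 (MulAut T) := by
  by_cases hq2 : q = 2
  · subst hq2
    exact aut_trivial_two T hT
  · have hm : m = 1 ∨ 3 ≤ m := by
      rcases m with _ | _ | _ | m
      · exact absurd hq hq2
      · left; rfl
      · exact absurd hq hq5
      · right; omega
    have hTM : IsPGroup 2 (MulAut (TM q)) := by
      rcases hm with rfl | hm
      · exact isPGroup_mulAut_TM_three hq
      · exact isPGroup_mulAut_TM m hm hq hq2
    have e : TM q ≃* T :=
      (MonoidHom.ofInjective (iota_injective hq2)).trans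
        (MulEquiv.subgroupCongr (range_iota T hT))
    exact hTM.of_equiv (MulAut.congr e)

end Final

end Part7

end Cfsg.Agent.S3382
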