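import Mathlib
import Cfsg.Statements.S3389
import Cfsg.Agent.Lib.Helper8.Derangement

set_option autoImplicit false
open Cfsg

namespace Cfsg.Agent.S3389

open MulAction

/-- Part 1: the centre acts freely on the fixed points of `g`. -/
theorem part1 {G : Type*} [Group G] [Finite G] {Ω : Type*} [Fintype Ω] [MulAction G Ω] [FaithfulSMul G Ω]
    (htr : MulAction.IsPretransitive G Ω) (g : G) :
    Nat.card (Subgroup.center G) ∣ Nat.card (MulAction.fixedBy Ω g) := by
  classical
  -- central elements fixing a point are trivial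
  have hfree : ∀ z ∈ Subgroup.center G, ∀ ω : Ω, z • ω = ω → z = 1 := by
    intro z hz ω hω
    apply FaithfulSMul.eq_of_smul_eq_smul (α := Ω)
    intro ω'
    obtain ⟨x, rfl⟩ := MulAction.exists_smul_eq G ω ω'
    rw [one_smul, ← mul_smul, ← (Subgroup.mem_center_iff.mp hz x), mul_smul, hω]
  let X : SubMulAction (Subgroup.center G) Ω :=
    { carrier := MulAction.fixedBy Ω g
      smul_mem' := by
        intro z ω hω
        rw [MulAction.mem_fixedBy] at hω ⊢
        show g • ((z : G) • ω) = (z : G) • ω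
        rw [← mul_smul, (Subgroup.mem_center_iff.mp z.2 g), mul_smul, hω] }
  have : Fintype (Subgroup.center G) := Fintype.ofFinite _
  have hb := Cfsg.Agent.Lib.Helper8.Derangement.burnside (Subgroup.center G) X
  have hsum : ∑ z : Subgroup.center G, Nat.card (fixedBy X z) = Nat.card X := by
    rw [Finset.sum_eq_single (1 : Subgroup.center G)]
    · apply Nat.card_congr
      exact
        { toFun := fun x => x.1
          invFun := fun x => ⟨x, by simp⟩
          left_inv := fun x => rfl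
          right_inv := fun x => rfl }
    · intro z _ hz
      have : IsEmpty (fixedBy X z) := by
        constructor
        rintro ⟨x, hx⟩
        rw [MulAction.mem_fixedBy] at hx
        have h1 : (z : G) • (x : Ω) = x := congrArg Subtype.val hx
        have := hfree z z.2 x h1
        exact hz (Subtype.ext this)
      simp
    · intro h; exact absurd (Finset.mem_univ _) h
  have hX : Nat.card X = Nat.card (MulAction.fixedBy Ω g) := rfl
  rw [← hX, ← hsum, hb]
  exact dvd_mul_left _ _

theorem fixedPoints_zpowers {G : Type*} [Group G] {Ω : Type*} [MulAction G Ω] (r : G) :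
    (fixedPoints (Subgroup.zpowers r) Ω : Set Ω) = fixedBy Ω r := by
  ext a
  rw [mem_fixedPoints, mem_fixedBy]
  constructor
  · intro h
    exact h ⟨r, Subgroup.mem_zpowers r⟩
  · rintro h ⟨m, j, rfl⟩
    exact mem_fixedBy_zpow h j

theorem card_modEq_fixedBy {G : Type*} [Group G] {Ω : Type*} [Finite Ω] [MulAction G Ω]
    (p : ℕ) [Fact p.Prime] (r : G) (hr : orderOf r = p) :
    Nat.card Ω ≡ Nat.card (fixedBy Ω r) [MOD p] := by
  have hQ : IsPGroup p (Subgroup.zpowers r) :=
    IsPGroup.of_card (n := 1) (by rw [Nat.card_zpowers, hr, pow_one])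
  have := hQ.card_modEq_card_fixedPoints Ω
  rw [fixedPoints_zpowers] at this
  exact this

theorem part3 {G : Type*} [Group G] [Finite G] {Ω : Type*} [Fintype Ω] [MulAction G Ω]
    (htr : MulAction.IsPretransitive G Ω) (k : ℕ)
    (hfix : ∀ g : G, g ≠ 1 → Nat.card (MulAction.fixedBy Ω g) ≤ k)
    (p : ℕ) (hp : p.Prime) (hkp : k < p) (α : Ω)
    (h1 : p ∣ Nat.card (MulAction.stabilizer G α)) : ¬ p ∣ (MulAction.stabilizer G α).index := by
  have : Fact p.Prime := ⟨hp⟩
  obtain ⟨x, hx⟩ := exists_prime_orderOf_dvd_card' p h1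
  have hr : orderOf (x : G) = p := by rw [Subgroup.orderOf_coe]; exact hx
  have hr1 : (x : G) ≠ 1 := by
    intro h
    rw [h, orderOf_one] at hr
    exact hp.ne_one hr.symm
  have hmod := card_modEq_fixedBy (Ω := Ω) p (x : G) hr
  rw [MulAction.index_stabilizer_of_transitive]
  intro hdvd
  have h2 := (hmod.dvd_iff dvd_rfl).mp hdvd
  have hle := hfix _ hr1
  have hpos : 0 < Nat.card (fixedBy Ω (x : G)) := by
    rw [Nat.card_pos_iff]
    exact ⟨⟨⟨α, x.2⟩⟩, inferInstance⟩
  have := Nat.le_of_dvd hpos h2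
  omega

/-- Sylow conjugation inside a subgroup `N`. -/
theorem sylow_conj_in' {G : Type*} [Group G] [Finite G] {p : ℕ} [Fact p.Prime]
    (N : Subgroup G) (P₁ : Sylow p N) (R : Subgroup G) (hR : IsPGroup p R) (hRN : R ≤ N) :
    ∃ y ∈ N, ∀ s ∈ R, y⁻¹ * s * y ∈ (P₁ : Subgroup N).map N.subtype := by
  have hR' : IsPGroup p (R.subgroupOf N) := hR.comap_subtype
  obtain ⟨V0, hV0⟩ := hR'.exists_le_sylow
  obtain ⟨n, hn⟩ := MulAction.exists_smul_eq N P₁ V0
  refine ⟨n, n.2, fun r hr => ?_⟩
  have h1 : (⟨r, hRN hr⟩ : N) ∈ (V0 : Subgroup N) := hV0 (by simpa [Subgroup.mem_subgroupOf] using hr)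
  rw [← hn, Sylow.smul_def, Sylow.pointwise_smul_def,
    Subgroup.mem_pointwise_smul_iff_inv_smul_mem, MulAut.smul_def, MulAut.conj_inv_apply] at h1
  exact ⟨_, h1, by simp⟩

theorem part2 {G : Type*} [Group G] [Finite G] {Ω : Type*} [Fintype Ω] [MulAction G Ω]
    (htr : MulAction.IsPretransitive G Ω)
    (hfix : ∀ g : G, g ≠ 1 → Nat.card (MulAction.fixedBy Ω g) ≤ 2)
    (hex : ∃ g : G, g ≠ 1 ∧ Nat.card (MulAction.fixedBy Ω g) = 2) : 2 ∣ Nat.card G := by
  by_contra h2
  obtain ⟨g, hg1, hg2⟩ := hex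
  rw [Nat.card_coe_set_eq, Set.ncard_eq_two] at hg2
  obtain ⟨α, β, hαβ, hfg⟩ := hg2
  -- an element g₀ of odd prime order p with the same fixed points
  have hog : orderOf g ≠ 1 := by rwa [Ne, orderOf_eq_one_iff]
  obtain ⟨p, hp, hpg⟩ := Nat.exists_prime_and_dvd hog
  have : Fact p.Prime := ⟨hp⟩
  have hpG : p ∣ Nat.card G := hpg.trans (orderOf_dvd_natCard g)
  have hp2 : p ≠ 2 := by rintro rfl; exact h2 hpG
  set g₀ := g ^ (orderOf g / p) with hg₀
  have hg₀o : orderOf g₀ = p := orderOf_pow_orderOf_div (orderOf_pos g).ne' hpg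
  have hg₀1 : g₀ ≠ 1 := by
    intro h
    rw [h, orderOf_one] at hg₀o
    exact hp.ne_one hg₀o.symm
  have hfg₀ : fixedBy Ω g₀ = {α, β} := by
    symm
    apply Set.eq_of_subset_of_ncard_le
    · rw [← hfg]
      intro a ha
      have := mem_fixedBy_zpow ha ((orderOf g / p : ℕ) : ℤ)
      rwa [zpow_natCast] at this
    · have := hfix g₀ hg₀1
      rw [Nat.card_coe_set_eq] at this
      rw [Set.ncard_pair hαβ]
      exact this
    · exact Set.toFinite _
  have hα₀ : g₀ • α = α := by
    have : α ∈ fixedBy Ω g₀ := by rw [hfg₀]; simp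
    exact this
  have hβ₀ : g₀ • β = β := by
    have : β ∈ fixedBy Ω g₀ := by rw [hfg₀]; simp
    exact this
  -- Sylow p-subgroup of the stabilizer of α containing g₀
  set N := stabilizer G α with hN
  have hQN : Subgroup.zpowers g₀ ≤ N := by
    rw [Subgroup.zpowers_le]; exact hα₀
  have hQp : IsPGroup p (Subgroup.zpowers g₀) :=
    IsPGroup.of_card (n := 1) (by rw [Nat.card_zpowers, hg₀o, pow_one])
  have hQ' : IsPGroup p ((Subgroup.zpowers g₀).subgroupOf N) := hQp.comap_subtype
  obtain ⟨P₁, hP₁⟩ := hQ'.exists_le_sylow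
  set P : Subgroup G := (P₁ : Subgroup N).map N.subtype with hP
  have hPN : P ≤ N := Subgroup.map_subtype_le _
  have hPp : IsPGroup p P := P₁.2.map _
  have hg₀P : g₀ ∈ P := by
    refine ⟨⟨g₀, hQN (Subgroup.mem_zpowers g₀)⟩, hP₁ ?_, rfl⟩
    rw [Subgroup.mem_subgroupOf]
    exact Subgroup.mem_zpowers g₀
  -- fixed points of P
  have hFsub : (fixedPoints P Ω : Set Ω) ⊆ {α, β} := by
    intro a ha
    rw [← hfg₀, mem_fixedBy]
    exact ha ⟨g₀, hg₀P⟩
  have hαF : α ∈ fixedPoints P Ω := by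
    intro r
    exact hPN r.2
  have hβF : β ∈ fixedPoints P Ω := by
    by_contra hβ
    have hF1 : (fixedPoints P Ω : Set Ω) = {α} := by
      apply Set.Subset.antisymm
      · intro a ha
        rcases hFsub ha with h | h
        · exact h
        · rw [Set.mem_singleton_iff] at h
          rw [h] at ha; exact absurd ha hβ
      · intro a ha
        rw [Set.mem_singleton_iff] at ha
        rw [ha]; exact hαF
    have h1 := hPp.card_modEq_card_fixedPoints Ω
    have h3 := card_modEq_fixedBy (Ω := Ω) p g₀ hg₀o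
    rw [hF1, Nat.card_coe_set_eq, Set.ncard_singleton] at h1
    rw [hfg₀, Nat.card_coe_set_eq, Set.ncard_pair hαβ] at h3
    have h4 : 1 ≡ 2 [MOD p] := h1.symm.trans h3
    have h5 : p ∣ 1 := by
      have := (Nat.modEq_iff_dvd' (by norm_num)).mp h4
      simpa using this
    exact hp.one_lt.ne' (Nat.dvd_one.mp h5)
  -- Witt's argument
  obtain ⟨x, hx⟩ := MulAction.exists_smul_eq G α β
  set R : Subgroup G := P.map (MulAut.conj x⁻¹).toMonoidHom with hR
  have hRp : IsPGroup p R := hPp.map _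
  have hRN : R ≤ N := by
    rintro _ ⟨r, hr, rfl⟩
    show (x⁻¹ * r * x⁻¹⁻¹) • α = α
    have hrβ : r • β = β := hβF ⟨r, hr⟩
    rw [inv_inv, mul_smul, mul_smul, hx, hrβ, ← hx, inv_smul_smul]
  obtain ⟨y, hyN, hy⟩ := sylow_conj_in' N P₁ R hRp hRN
  set n := x * y with hn
  have hnα : n • α = β := by
    rw [hn, mul_smul, hyN, hx]
  have hnP : ∀ r ∈ P, n⁻¹ * r * n ∈ P := by
    intro r hr
    have h1 : x⁻¹ * r * x ∈ R := ⟨r, hr, by simp⟩
    have := hy _ h1
    rw [← hP] at this
    convert this using 1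
    rw [hn]; group
  have hnβF : n • β ∈ fixedPoints P Ω := by
    intro r
    have h1 := hβF ⟨_, hnP r r.2⟩
    have h2 : (n⁻¹ * (r : G) * n) • β = β := h1
    show (r : G) • n • β = n • β
    calc (r : G) • n • β = n • (n⁻¹ * (r : G) * n) • β := by
          rw [← mul_smul, ← mul_smul]; congr 1; group
      _ = n • β := by rw [h2]
  have hnβ : n • β = α := by
    rcases hFsub hnβF with h | h
    · exact h
    · exfalso
      rw [Set.mem_singleton_iff] at h
      have h' : n • β = n • α := h.trans hnα.symm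
      exact hαβ (smul_left_cancel n h').symm
  -- powers of n
  have hpow : ∀ j : ℕ, n ^ (2 * j) • α = α ∧ n ^ (2 * j + 1) • α = β := by
    intro j
    induction j with
    | zero => simp [hnα]
    | succ j ih =>
      have e1 : n ^ (2 * (j + 1)) • α = α := by
        have : 2 * (j + 1) = (2 * j + 1) + 1 := by ring
        rw [this, pow_succ', mul_smul, ih.2, hnβ]
      refine ⟨e1, ?_⟩
      rw [pow_succ', mul_smul, e1, hnα]
  have hodd : Odd (orderOf n) := by
    rw [← Nat.not_even_iff_odd]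
    intro he
    exact h2 (he.two_dvd.trans (orderOf_dvd_natCard n))
  obtain ⟨j, hj⟩ := hodd
  have := (hpow j).2
  rw [← hj, pow_orderOf_eq_one, one_smul] at this
  exact hαβ this

theorem result {G : Type*} [Group G] [Finite G] {Ω : Type*} [Fintype Ω] [MulAction G Ω] [FaithfulSMul G Ω]
    (htr : MulAction.IsPretransitive G Ω) (k : ℕ) (hk : 1 ≤ k)
    (hfix : ∀ g : G, g ≠ 1 → Nat.card (MulAction.fixedBy Ω g) ≤ k) (hex : ∃ g : G, g ≠ 1 ∧ Nat.card (MulAction.fixedBy Ω g) = k) :
    Nat.card (Subgroup.center G) ∣ k ∧ (k = 2 → 2 ∣ Nat.card G) ∧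
      ∀ (p : ℕ), p.Prime → k < p → p ∣ Nat.card G → ∀ α : Ω,
        ¬ p ∣ Nat.card (MulAction.stabilizer G α) ∨ ¬ p ∣ (MulAction.stabilizer G α).index := by
  refine ⟨?_, ?_, ?_⟩
  · obtain ⟨g, -, hg⟩ := hex
    rw [← hg]
    exact part1 htr g
  · rintro rfl
    exact part2 htr hfix hex
  · intro p hp hkp _ α
    by_cases h1 : p ∣ Nat.card (MulAction.stabilizer G α)
    · right
      exact part3 htr k hfix p hp hkp α h1
    · left; exact h1

end Cfsg.Agent.S3389
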