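import Cfsg.Statements.S3391
import Cfsg.Agent.Lib.Helper5.SuzukiFixity
import Cfsg.Agent.Lib.Helper5.SuzukiBridge
import Mathlib

set_option autoImplicit false
open Cfsg

namespace Cfsg.Agent.S3391
open Cfsg.Agent.Lib.Helper5.Suzuki

/-- Let q = 2^{2m+1} ≥ 8 and let G be isomorphic to the Suzuki group Sz(q). If G acts faithfully and transitively on a finite set Ω with fixity 2 (every non-identity element fixes at most two points, and some fixes exactly two), then either |Ω| = q² + 1 and the action is 2-transitive, or |Ω| = q²(q² + 1) and the point stabilizers have order q − 1. -/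
theorem result {G : Type*} [Group G] [Finite G] (F : Type) [Field F] [Fintype F] (m : ℕ) (hm : 1 ≤ m) (hF : Fintype.card F = 2 ^ (2 * m + 1))
    (e : G ≃* ↥(Cfsg.Lie.Sz F (2 ^ (m + 1)))) {Ω : Type*} [Fintype Ω] [MulAction G Ω] [FaithfulSMul G Ω] (htr : MulAction.IsPretransitive G Ω)
    (hfix : ∀ g : G, g ≠ 1 → Nat.card (MulAction.fixedBy Ω g) ≤ 2) (hex : ∃ g : G, g ≠ 1 ∧ Nat.card (MulAction.fixedBy Ω g) = 2) :
    (Fintype.card Ω = Fintype.card F ^ 2 + 1 ∧ MulAction.IsMultiplyPretransitive G Ω 2) ∨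
    (Fintype.card Ω = Fintype.card F ^ 2 * (Fintype.card F ^ 2 + 1) ∧ ∀ α : Ω, Nat.card (MulAction.stabilizer G α) = Fintype.card F - 1) := by
  classical
  have := charP_of_card hF
  let θ : G ≃* Sz F m := e.trans (Cfsg.Agent.Lib.Helper5.SuzukiBridge.lieSzEquiv hm hF)
  let act : MulAction (Sz F m) Ω := MulAction.compHom Ω θ.symm.toMonoidHom
  have hsmul : ∀ (s : Sz F m) (x : Ω), s • x = θ.symm s • x := fun s x => rfl
  have htr' : MulAction.IsPretransitive (Sz F m) Ω := ⟨fun x y => by
    obtain ⟨g, hg⟩ := MulAction.exists_smul_eq G x y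
    exact ⟨θ g, by rw [hsmul, θ.symm_apply_apply]; exact hg⟩⟩
  have hfb : ∀ s : Sz F m, MulAction.fixedBy Ω s = MulAction.fixedBy Ω (θ.symm s) := by
    intro s
    ext x
    rfl
  have hne : ∀ s : Sz F m, s ≠ 1 → θ.symm s ≠ 1 := by
    intro s hs h
    apply hs
    have := congrArg θ h
    rwa [θ.apply_symm_apply, map_one] at this
  have hfix' : ∀ s : Sz F m, s ≠ 1 → Nat.card (MulAction.fixedBy Ω s) ≤ 2 := by
    intro s hs
    rw [hfb]
    exact hfix _ (hne s hs)
  have hex' : ∃ s : Sz F m, s ≠ 1 ∧ Nat.card (MulAction.fixedBy Ω s) = 2 := by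
    obtain ⟨g, hg1, hg⟩ := hex
    refine ⟨θ g, ?_, ?_⟩
    · intro h
      apply hg1
      have := congrArg θ.symm h
      rwa [θ.symm_apply_apply, map_one] at this
    · rw [hfb, θ.symm_apply_apply]
      exact hg
  rcases fixity_core m hF hm htr' hfix' hex' with ⟨h1, h2⟩ | ⟨h1, h2⟩
  · left
    refine ⟨by rw [hF]; exact h1, ?_⟩
    rw [MulAction.is_two_pretransitive_iff] at h2 ⊢
    intro a b c d hab hcd
    obtain ⟨s, hs1, hs2⟩ := h2 hab hcd
    exact ⟨θ.symm s, hs1, hs2⟩
  · right
    refine ⟨by rw [hF]; exact h1, ?_⟩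
    intro α
    rw [hF, ← h2 α]
    have hmap : MulAction.stabilizer (Sz F m) α =
        (MulAction.stabilizer G α).map θ.toMonoidHom := by
      ext s
      rw [MulAction.mem_stabilizer_iff, hsmul, Subgroup.mem_map]
      constructor
      · intro h
        exact ⟨θ.symm s, h, θ.apply_symm_apply s⟩
      · rintro ⟨g, hg, rfl⟩
        change θ.symm (θ g) • α = α
        rw [θ.symm_apply_apply]
        exact hg
    rw [hmap, Subgroup.card_map_of_injective θ.injective]

end Cfsg.Agent.S3391
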