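import Mathlib
import Cfsg.Statements.S3430
import Cfsg.Agent.H2.ZsigBig

set_option autoImplicit false
open Cfsg

namespace Cfsg.Agent.S3430

open Cfsg.Agent.H2.ZsigBig Cfsg.Agent.H9.Zsigmondy

set_option maxRecDepth 100000

theorem wit (a n p : ℕ) (hp : p.Prime) (h1 : p ∣ a ^ n - 1)
    (h2 : ∀ i < n, 1 ≤ i → ¬ p ∣ a ^ i - 1) (h3 : n + 1 < p) :
    ∃ p : ℕ, p.Prime ∧ p ∣ a ^ n - 1 ∧ (∀ i : ℕ, 1 ≤ i → i < n → ¬ p ∣ a ^ i - 1) ∧
      (n + 1 < p ∨ p ^ 2 ∣ a ^ n - 1) :=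
  ⟨p, hp, h1, fun i hi1 hin => h2 i hin hi1, Or.inl h3⟩

theorem case_two (q : ℕ) (hq : 2 ≤ q) (h1 : ¬ ∃ s t : ℕ, t ≤ 1 ∧ q + 1 = 2 ^ s * 3 ^ t) :
    ∃ p : ℕ, p.Prime ∧ p ∣ q ^ 2 - 1 ∧ (∀ i : ℕ, 1 ≤ i → i < 2 → ¬ p ∣ q ^ i - 1) ∧
      (2 + 1 < p ∨ p ^ 2 ∣ q ^ 2 - 1) := by
  have hfac : q ^ 2 - 1 = (q + 1) * (q - 1) := by
    have := Nat.sq_sub_sq q 1
    rw [one_pow] at this
    exact this
  have hnd : ∀ r : ℕ, r.Prime → r ≠ 2 → r ∣ q + 1 → ¬ r ∣ q - 1 := by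
    intro r hr hr2 hr1 hr3
    have h3 : r ∣ (q + 1) - (q - 1) := Nat.dvd_sub hr1 hr3
    have h4 : (q + 1) - (q - 1) = 2 := by omega
    rw [h4] at h3
    exact hr2 ((Nat.prime_dvd_prime_iff_eq hr Nat.prime_two).1 h3)
  obtain ⟨s, w, hw, hqw⟩ := Nat.exists_eq_two_pow_mul_odd (n := q + 1) (by omega)
  by_cases hex : ∃ r : ℕ, r.Prime ∧ r ∣ w ∧ r ≠ 3
  · obtain ⟨r, hr, hrw, hr3⟩ := hex
    have hrodd : r ≠ 2 := by
      rintro rfl
      have : Even w := even_iff_two_dvd.2 hrw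
      exact (Nat.not_even_iff_odd.2 hw) this
    have hrq : r ∣ q + 1 := by rw [hqw]; exact hrw.mul_left _
    refine ⟨r, hr, ?_, ?_, Or.inl ?_⟩
    · rw [hfac]; exact hrq.mul_right _
    · intro i hi1 hi2
      have : i = 1 := by omega
      subst this
      rw [pow_one]
      exact hnd r hr hrodd hrq
    · have h2 := hr.two_le
      have h4 : r ≠ 4 := by
        rintro rfl
        exact absurd hr (by norm_num)
      omega
  · push Not at hex
    have hall : ∀ {d : ℕ}, d.Prime → d ∣ w → d = 3 := fun {d} hd hdw => hex d hd hdw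
    have hw0 : w ≠ 0 := by
      rintro rfl
      exact absurd hw (by decide)
    have hpow := Nat.eq_prime_pow_of_unique_prime_dvd hw0 hall
    set t := w.primeFactorsList.length with ht
    have ht2 : 2 ≤ t := by
      by_contra hlt
      push Not at hlt
      exact h1 ⟨s, t, by omega, by rw [hqw, hpow]⟩
    have h9 : 3 ^ 2 ∣ q + 1 := by
      rw [hqw, hpow]
      exact (pow_dvd_pow 3 ht2).mul_left _
    have h3q : 3 ∣ q + 1 := (dvd_pow_self 3 two_ne_zero).trans h9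
    refine ⟨3, Nat.prime_three, ?_, ?_, Or.inr ?_⟩
    · rw [hfac]; exact h3q.mul_right _
    · intro i hi1 hi2
      have : i = 1 := by omega
      subst this
      rw [pow_one]
      exact hnd 3 Nat.prime_three (by norm_num) h3q
    · rw [hfac]; exact h9.mul_right _

theorem result (q n : ℕ) (hq : 2 ≤ q) (hn : 2 ≤ n)
    (h1 : ¬ (n = 2 ∧ ∃ s t : ℕ, t ≤ 1 ∧ q + 1 = 2 ^ s * 3 ^ t))
    (h2 : ¬ (q = 2 ∧ (n = 4 ∨ n = 6 ∨ n = 10 ∨ n = 12 ∨ n = 18)))
    (h3 : ¬ (q = 3 ∧ (n = 4 ∨ n = 6))) (h4 : ¬ (q = 5 ∧ n = 6)) :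
    ∃ p : ℕ, p.Prime ∧ p ∣ q ^ n - 1 ∧ (∀ i : ℕ, 1 ≤ i → i < n → ¬ p ∣ q ^ i - 1) ∧ (n + 1 < p ∨ p ^ 2 ∣ q ^ n - 1) := by
  rcases Nat.lt_or_ge n 3 with hn3 | hn3
  · have hn2 : n = 2 := by omega
    subst hn2
    exact case_two q hq (fun h => h1 ⟨rfl, h⟩)
  · obtain ⟨P, hP, hPn, hmax⟩ := exists_max_prime n (by omega)
    rcases big_general q n P hq hn3 hP hPn hmax with hlt | hbox
    · exact feit_general q n P hq hn3 hP hPn hmax hlt
    · simp only [Box, List.mem_cons, Prod.mk.injEq, List.mem_nil_iff, or_false] at hbox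
      rcases hbox with ⟨rfl, rfl, -⟩ | ⟨rfl, rfl, -⟩ | ⟨rfl, rfl, -⟩ | ⟨rfl, rfl, -⟩ | ⟨rfl, rfl, -⟩ | ⟨rfl, rfl, -⟩ | ⟨rfl, rfl, -⟩ | ⟨rfl, rfl, -⟩ | ⟨rfl, rfl, -⟩ | ⟨rfl, rfl, -⟩ | ⟨rfl, rfl, -⟩ | ⟨rfl, rfl, -⟩ | ⟨rfl, rfl, -⟩ | ⟨rfl, rfl, -⟩ | ⟨rfl, rfl, -⟩ | ⟨rfl, rfl, -⟩ | ⟨rfl, rfl, -⟩ | ⟨rfl, rfl, -⟩ | ⟨rfl, rfl, -⟩ | ⟨rfl, rfl, -⟩ | ⟨rfl, rfl, -⟩ | ⟨rfl, rfl, -⟩ | ⟨rfl, rfl, -⟩ | ⟨rfl, rfl, -⟩ | ⟨rfl, rfl, -⟩ | ⟨rfl, rfl, -⟩ | ⟨rfl, rfl, -⟩ | ⟨rfl, rfl, -⟩ | ⟨rfl, rfl, -⟩ | ⟨rfl, rfl, -⟩ | ⟨rfl, rfl, -⟩ | ⟨rfl, rfl, -⟩ | ⟨rfl, rfl, -⟩ | ⟨rfl, rfl, -⟩ | ⟨rfl, rfl, -⟩ | ⟨rfl, rfl, -⟩ | ⟨rfl, rfl, -⟩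
      · exact wit 2 3 7 (by norm_num) (by decide) (by decide) (by norm_num)
      · exact wit 3 3 13 (by norm_num) (by decide) (by decide) (by norm_num)
      · exact wit 4 3 7 (by norm_num) (by decide) (by decide) (by norm_num)
      · exact wit 5 3 31 (by norm_num) (by decide) (by decide) (by norm_num)
      · exact (h2 (by decide)).elim
      · exact (h3 (by decide)).elim
      · exact wit 4 6 13 (by norm_num) (by decide) (by decide) (by norm_num)
      · exact (h4 (by decide)).elim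
      · exact wit 6 6 31 (by norm_num) (by decide) (by decide) (by norm_num)
      · exact wit 7 6 43 (by norm_num) (by decide) (by decide) (by norm_num)
      · exact (h2 (by decide)).elim
      · exact wit 3 12 73 (by norm_num) (by decide) (by decide) (by norm_num)
      · exact wit 2 15 151 (by norm_num) (by decide) (by decide) (by norm_num)
      · exact wit 2 21 337 (by norm_num) (by decide) (by decide) (by norm_num)
      · exact wit 2 24 241 (by norm_num) (by decide) (by decide) (by norm_num)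
      · exact wit 2 30 331 (by norm_num) (by decide) (by decide) (by norm_num)
      · exact wit 2 42 5419 (by norm_num) (by decide) (by decide) (by norm_num)
      · exact wit 2 48 97 (by norm_num) (by decide) (by decide) (by norm_num)
      · exact wit 2 60 1321 (by norm_num) (by decide) (by decide) (by norm_num)
      · exact wit 2 9 73 (by norm_num) (by decide) (by decide) (by norm_num)
      · exact (h2 (by decide)).elim
      · exact wit 3 18 37 (by norm_num) (by decide) (by decide) (by norm_num)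
      · exact wit 2 36 109 (by norm_num) (by decide) (by decide) (by norm_num)
      · exact wit 2 5 31 (by norm_num) (by decide) (by decide) (by norm_num)
      · exact wit 3 5 11 (by norm_num) (by decide) (by decide) (by norm_num)
      · exact (h2 (by decide)).elim
      · exact wit 3 10 61 (by norm_num) (by decide) (by decide) (by norm_num)
      · exact wit 4 10 41 (by norm_num) (by decide) (by decide) (by norm_num)
      · exact wit 2 15 151 (by norm_num) (by decide) (by decide) (by norm_num)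
      · exact wit 2 20 41 (by norm_num) (by decide) (by decide) (by norm_num)
      · exact wit 2 30 331 (by norm_num) (by decide) (by decide) (by norm_num)
      · exact wit 2 7 127 (by norm_num) (by decide) (by decide) (by norm_num)
      · exact wit 2 14 43 (by norm_num) (by decide) (by decide) (by norm_num)
      · exact (h2 (by decide)).elim
      · exact (h3 (by decide)).elim
      · exact wit 4 4 17 (by norm_num) (by decide) (by decide) (by norm_num)
      · exact wit 2 8 17 (by norm_num) (by decide) (by decide) (by norm_num)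

end Cfsg.Agent.S3430
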