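import Cfsg.Statements.S3431
import Cfsg.Agent.S0494
import Cfsg.Agent.S0497
import Cfsg.Agent.Lib.S3431.GL
import Cfsg.Agent.Lib.S3431.C4
import Cfsg.Agent.Lib.S3431.C5
import Cfsg.Agent.Lib.S3431.C6
import Cfsg.Agent.Lib.S3431.G4
import Cfsg.Agent.Lib.S3431.G5
import Cfsg.Agent.Lib.S3431.G6
import Cfsg.Agent.Lib.S3431.ARHfin

set_option autoImplicit false
open Cfsg

namespace Cfsg.Agent.S3431

open Cfsg.Agent.S3431L

/-- Let n be 4, 5 or 6 and let G be a finite group whose set of sizes of same-order classes (the set of numbers #{g : o(g) = m} over the element orders m of G) equals that of the alternating group of degree n. Then G is isomorphic to that alternating group. -/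
theorem result {G : Type*} [Group G] [Finite G] (n : ℕ) (hn : n = 4 ∨ n = 5 ∨ n = 6)
    (h : ((fun m : ℕ => Nat.card {g : G // orderOf g = m}) '' Set.range (orderOf : G → ℕ)) = ((fun m : ℕ => Nat.card {g : ↥(alternatingGroup (Fin n)) // orderOf g = m}) '' Set.range (orderOf : ↥(alternatingGroup (Fin n)) → ℕ))) :
    Nonempty (G ≃* ↥(alternatingGroup (Fin n))) := by
  rcases hn with rfl | rfl | rfl
  · rw [nse_alt4] at h
    have hV := valid_of_nse _ h
    obtain ⟨hN, -, h3, -⟩ := ARH_ar4 hV
    exact iso_alt4 hN h3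
  · rw [nse_alt5] at h
    have hV := valid_of_nse _ h
    obtain ⟨hN, h2, h3, -, h5, -⟩ := ARH_ar5 hV
    haveI : IsSimpleGroup G := simple_of_60 hN h2 h3 h5
    exact Cfsg.Agent.S0494.result hN
  · rw [nse_alt6] at h
    have hV := valid_of_nse _ h
    obtain ⟨hN, h2, h3, h4, h5, hbig⟩ := ARH_ar6 hV
    haveI : IsSimpleGroup G := simple_of_360 hN h2 h3 h4 h5 hbig
    exact Cfsg.Agent.S0497.result hN

end Cfsg.Agent.S3431
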