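import Mathlib
import Cfsg.Statements.S3437
import Cfsg.Agent.Lib.Helper8.BinOct13

set_option autoImplicit false
open Cfsg

namespace Cfsg.Agent.S3437


section Part0

open Polynomial Matrix

theorem sl3_pow {F : Type*} [Field F] [Fintype F] (hF : Fintype.card F = 3)
    (M : Matrix (Fin 3) (Fin 3) F) (hdet : M.det = 1) :
    M ^ 13 = 1 ∨ M ^ 8 = 1 ∨ M ^ 6 = 1 := by
  have h3 : (3 : F) = 0 := by
    have := Nat.cast_card_eq_zero F
    rw [hF] at this
    exact_mod_cast this
  have hel : ∀ x : F, x = 0 ∨ x = 1 ∨ x = -1 := by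
    intro x
    have hx := FiniteField.pow_card x
    rw [hF] at hx
    have h : x * ((x - 1) * (x + 1)) = 0 := by linear_combination hx
    rcases mul_eq_zero.1 h with h | h
    · exact Or.inl h
    · rcases mul_eq_zero.1 h with h | h
      · exact Or.inr (Or.inl (sub_eq_zero.1 h))
      · exact Or.inr (Or.inr (eq_neg_of_add_eq_zero_left h))
  have h3' : (3 : F[X]) = 0 := by
    have : (3 : F[X]) = C (3 : F) := (map_ofNat (C : F →+* F[X]) 3).symm
    rw [this, h3, C_0]
  have hM : aeval M M.charpoly = 0 := Matrix.aeval_self_charpoly M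
  have key : ∀ (k : ℕ) (q : F[X]), X ^ k - 1 = M.charpoly * q → M ^ k = 1 := by
    intro k q h
    have := congrArg (aeval M) h
    simp only [map_sub, map_pow, aeval_X, map_one, map_mul, hM, zero_mul] at this
    exact sub_eq_zero.1 this
  have hmonic := Matrix.charpoly_monic M
  have hdeg : M.charpoly.natDegree = 3 := by
    rw [Matrix.charpoly_natDegree_eq_dim]; simp
  have hc0 : M.charpoly.coeff 0 = -1 := by
    have := Matrix.det_eq_sign_charpoly_coeff M
    rw [hdet] at this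
    simp only [Fintype.card_fin] at this
    linear_combination this
  have hc3 : M.charpoly.coeff 3 = 1 := by
    have := hmonic.coeff_natDegree
    rw [hdeg] at this; exact this
  have hc : M.charpoly = X ^ 3 + C (M.charpoly.coeff 2) * X ^ 2 + C (M.charpoly.coeff 1) * X - 1 := by
    conv_lhs => rw [Polynomial.as_sum_range_C_mul_X_pow M.charpoly, hdeg]
    simp only [Finset.sum_range_succ, Finset.range_one, Finset.sum_singleton, hc0, hc3]
    simp only [pow_zero, pow_one, map_neg, map_one, mul_one, one_mul]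
    ring
  rcases hel (M.charpoly.coeff 2) with ha | ha | ha <;>
    rcases hel (M.charpoly.coeff 1) with hb | hb | hb <;>
    rw [ha, hb] at hc <;>
    simp only [map_zero, map_one, map_neg, zero_mul, add_zero, one_mul, neg_mul] at hc
  · -- a = 0, b = 0
    have h := key 3 ((1)) (by rw [hc]; linear_combination (0) * h3')
    exact Or.inr (Or.inr (by rw [show 6 = 3 * 2 from rfl, pow_mul, h, one_pow]))
  · -- a = 0, b = 1
    exact (fun h => Or.inr (Or.inl h)) (key 8 ((1) + (1) * X + (1) * X ^ 2 + (-1) * X ^ 3 + (1) * X ^ 5) (by rw [hc]; linear_combination ((-1) * X ^ 3) * h3'))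
  · -- a = 0, b = -1
    exact (Or.inl) (key 13 ((1) + (-1) * X + (1) * X ^ 2 + (-1) * X ^ 4 + (-1) * X ^ 5 + (1) * X ^ 6 + (1) * X ^ 7 + (1) * X ^ 8 + (1) * X ^ 10) (by rw [hc]; linear_combination ((-1) * X ^ 5 + (1) * X ^ 7 + (1) * X ^ 8) * h3'))
  · -- a = 1, b = 0
    exact (Or.inl) (key 13 ((1) + (1) * X ^ 2 + (1) * X ^ 3 + (1) * X ^ 4 + (-1) * X ^ 5 + (-1) * X ^ 6 + (1) * X ^ 8 + (-1) * X ^ 9 + (1) * X ^ 10) (by rw [hc]; linear_combination ((-1) * X ^ 5 + (-1) * X ^ 6 + (1) * X ^ 8) * h3'))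
  · -- a = 1, b = 1
    exact (Or.inl) (key 13 ((1) + (1) * X + (-1) * X ^ 2 + (1) * X ^ 3 + (1) * X ^ 4 + (1) * X ^ 5 + (-1) * X ^ 7 + (-1) * X ^ 9 + (1) * X ^ 10) (by rw [hc]; linear_combination ((-1) * X ^ 2 + (-1) * X ^ 6 + (-1) * X ^ 7 + (1) * X ^ 10) * h3'))
  · -- a = 1, b = -1
    exact (fun h => Or.inr (Or.inr h)) (key 6 ((1) + (-1) * X + (-1) * X ^ 2 + (1) * X ^ 3) (by rw [hc]; linear_combination ((-1) * X ^ 2 + (1) * X ^ 4) * h3'))
  · -- a = -1, b = 0
    exact (fun h => Or.inr (Or.inl h)) (key 8 ((1) + (-1) * X ^ 2 + (1) * X ^ 3 + (1) * X ^ 4 + (1) * X ^ 5) (by rw [hc]; linear_combination ((1) * X ^ 5) * h3'))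
  · -- a = -1, b = 1
    have h := key 4 ((1) + (1) * X) (by rw [hc]; linear_combination (0) * h3')
    exact Or.inr (Or.inl (by rw [show 8 = 4 * 2 from rfl, pow_mul, h, one_pow]))
  · -- a = -1, b = -1
    exact (Or.inl) (key 13 ((1) + (-1) * X + (-1) * X ^ 3 + (1) * X ^ 5 + (1) * X ^ 6 + (1) * X ^ 7 + (-1) * X ^ 8 + (1) * X ^ 9 + (1) * X ^ 10) (by rw [hc]; linear_combination ((-1) * X ^ 3 + (1) * X ^ 6 + (1) * X ^ 7 + (1) * X ^ 11) * h3'))

end Part0

section Part1

open Matrix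

abbrev M3 := Matrix (Fin 3) (Fin 3) (ZMod 3)

def m13 : M3 := !![0, 0, 1; 1, 0, 1; 0, 1, 0]
def m8 : M3 := !![0, 1, 0; 1, 2, 0; 0, 0, 2]
def m6 : M3 := !![2, 1, 0; 0, 2, 0; 0, 0, 1]

theorem m13_det : m13.det = 1 := by decide +kernel
theorem m8_det : m8.det = 1 := by decide +kernel
theorem m6_det : m6.det = 1 := by decide +kernel

theorem pow13_eq {M : Type*} [Monoid M] (x : M) :
    x ^ 13 = ((x * x) * (x * x)) * ((x * x) * (x * x)) * ((x * x) * (x * x)) * x := by
  simp only [pow_succ, pow_zero, one_mul, mul_assoc]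

theorem pow8_eq {M : Type*} [Monoid M] (x : M) :
    x ^ 8 = ((x * x) * (x * x)) * ((x * x) * (x * x)) := by
  simp only [pow_succ, pow_zero, one_mul, mul_assoc]

theorem pow4_eq {M : Type*} [Monoid M] (x : M) :
    x ^ 4 = ((x * x) * (x * x)) := by
  simp only [pow_succ, pow_zero, one_mul, mul_assoc]

theorem pow6_eq {M : Type*} [Monoid M] (x : M) :
    x ^ 6 = ((x * x) * (x * x)) * (x * x) := by
  simp only [pow_succ, pow_zero, one_mul, mul_assoc]

theorem m13_pow : m13 ^ 13 = 1 ∧ m13 ≠ 1 := by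
  rw [pow13_eq]; decide +kernel

theorem m8_pow : m8 ^ 8 = 1 ∧ m8 ^ 4 ≠ 1 := by
  rw [pow8_eq, pow4_eq]; decide +kernel

theorem m6_pow : m6 ^ 6 = 1 ∧ m6 ^ 3 ≠ 1 ∧ m6 ^ 2 ≠ 1 := by
  rw [pow6_eq, pow_succ, pow_two]; decide +kernel

def g13 : Matrix.SpecialLinearGroup (Fin 3) (ZMod 3) := ⟨m13, m13_det⟩
def g8 : Matrix.SpecialLinearGroup (Fin 3) (ZMod 3) := ⟨m8, m8_det⟩
def g6 : Matrix.SpecialLinearGroup (Fin 3) (ZMod 3) := ⟨m6, m6_det⟩

theorem sl_pow_eq_one_iff {R : Type*} [CommRing R] (g : Matrix.SpecialLinearGroup (Fin 3) R) (k : ℕ) :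
    g ^ k = 1 ↔ (g : Matrix (Fin 3) (Fin 3) R) ^ k = 1 := by
  constructor
  · intro h
    have := congrArg (fun x : Matrix.SpecialLinearGroup (Fin 3) R =>
      (x : Matrix (Fin 3) (Fin 3) R)) h
    simpa only [Matrix.SpecialLinearGroup.coe_pow, Matrix.SpecialLinearGroup.coe_one] using this
  · intro h
    apply Subtype.ext
    have h2 : ((g ^ k : Matrix.SpecialLinearGroup (Fin 3) R) : Matrix (Fin 3) (Fin 3) R) =
        ((1 : Matrix.SpecialLinearGroup (Fin 3) R) : Matrix (Fin 3) (Fin 3) R) := by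
      rw [Matrix.SpecialLinearGroup.coe_pow, Matrix.SpecialLinearGroup.coe_one]; exact h
    exact h2

theorem orderOf_g13 : orderOf g13 = 13 := by
  apply orderOf_eq_prime ((sl_pow_eq_one_iff _ _).2 m13_pow.1)
  intro h
  exact m13_pow.2 (congrArg Subtype.val h)

theorem orderOf_g8 : orderOf g8 = 8 := by
  have h1 : g8 ^ 2 ^ (2 + 1) = 1 := (sl_pow_eq_one_iff _ _).2 m8_pow.1
  have h2 : ¬ g8 ^ 2 ^ 2 = 1 := fun h => m8_pow.2 ((sl_pow_eq_one_iff _ _).1 h)
  exact orderOf_eq_prime_pow h2 h1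

theorem orderOf_g6 : orderOf g6 = 6 := by
  apply orderOf_eq_of_pow_and_pow_div_prime (by norm_num) ((sl_pow_eq_one_iff _ _).2 m6_pow.1)
  intro q hq hdvd
  have hq6 : q ∣ 2 * 3 := hdvd
  rcases (Nat.Prime.dvd_mul hq).1 hq6 with h | h
  · have : q = 2 := (Nat.prime_dvd_prime_iff_eq hq Nat.prime_two).1 h
    subst this
    exact fun h' => m6_pow.2.1 ((sl_pow_eq_one_iff _ _).1 h')
  · have : q = 3 := (Nat.prime_dvd_prime_iff_eq hq Nat.prime_three).1 h
    subst this
    exact fun h' => m6_pow.2.2 ((sl_pow_eq_one_iff _ _).1 h')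

section generic

variable {F : Type*} [Field F] [Fintype F] (hF : Fintype.card F = 3)

include hF in
theorem sl_spectrum :
    Set.range (orderOf : Matrix.SpecialLinearGroup (Fin 3) F → ℕ) = {1, 2, 3, 4, 6, 8, 13} := by
  ext n
  simp only [Set.mem_range, Set.mem_insert_iff, Set.mem_singleton_iff]
  constructor
  · rintro ⟨g, rfl⟩
    rcases sl3_pow hF g.1 g.2 with h | h | h
    · have h' := (sl_pow_eq_one_iff g 13).2 h
      have hd := orderOf_dvd_of_pow_eq_one h'
      rcases (Nat.dvd_prime (by norm_num : Nat.Prime 13)).1 hd with h1 | h1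
      · simp [h1]
      · simp [h1]
    · have h' := (sl_pow_eq_one_iff g 8).2 h
      have hd := orderOf_dvd_of_pow_eq_one h'
      have hle := Nat.le_of_dvd (by norm_num) hd
      have hpos := orderOf_pos_iff.2 (isOfFinOrder_iff_pow_eq_one.2 ⟨8, by norm_num, h'⟩)
      interval_cases (orderOf g) <;> simp_all
    · have h' := (sl_pow_eq_one_iff g 6).2 h
      have hd := orderOf_dvd_of_pow_eq_one h'
      have hle := Nat.le_of_dvd (by norm_num) hd
      have hpos := orderOf_pos_iff.2 (isOfFinOrder_iff_pow_eq_one.2 ⟨6, by norm_num, h'⟩)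
      interval_cases (orderOf g) <;> simp_all
  · let e : ZMod 3 ≃+* F := ZMod.ringEquivOfPrime F (by norm_num) hF
    let φ : Matrix.SpecialLinearGroup (Fin 3) (ZMod 3) →* Matrix.SpecialLinearGroup (Fin 3) F :=
      Matrix.SpecialLinearGroup.map (e : ZMod 3 →+* F)
    have hφ : Function.Injective φ := by
      intro A B h
      ext i j
      have := congrArg (fun X : Matrix.SpecialLinearGroup (Fin 3) F => X.1 i j) h
      simp only [φ, Matrix.SpecialLinearGroup.map_apply_coe, RingHom.mapMatrix_apply, Matrix.map_apply]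
        at this
      exact e.injective this
    have ho : ∀ g, orderOf (φ g) = orderOf g := fun g => orderOf_injective φ hφ g
    have h13 := orderOf_g13
    have h8 := orderOf_g8
    have h6 := orderOf_g6
    rintro (rfl | rfl | rfl | rfl | rfl | rfl | rfl)
    · exact ⟨1, orderOf_one⟩
    · exact ⟨φ (g8 ^ 4), by rw [ho, orderOf_pow_of_dvd (by norm_num) (by rw [h8]; norm_num), h8]⟩
    · exact ⟨φ (g6 ^ 2), by rw [ho, orderOf_pow_of_dvd (by norm_num) (by rw [h6]; norm_num), h6]⟩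
    · exact ⟨φ (g8 ^ 2), by rw [ho, orderOf_pow_of_dvd (by norm_num) (by rw [h8]; norm_num), h8]⟩
    · exact ⟨φ g6, by rw [ho, h6]⟩
    · exact ⟨φ g8, by rw [ho, h8]⟩
    · exact ⟨φ g13, by rw [ho, h13]⟩

include hF in
theorem center_eq_bot : Subgroup.center (Matrix.SpecialLinearGroup (Fin 3) F) = ⊥ := by
  rw [eq_bot_iff]
  intro g hg
  rw [Matrix.SpecialLinearGroup.mem_center_iff] at hg
  obtain ⟨r, hr, hg⟩ := hg
  have hr1 : r = 1 := by
    have := FiniteField.pow_card r
    rw [hF] at this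
    simp only [Fintype.card_fin] at hr
    rw [← this, hr]
  subst hr1
  rw [Subgroup.mem_bot]
  apply Subtype.ext
  rw [← hg]
  simp

include hF in
theorem psl_spectrum :
    Set.range (orderOf : Matrix.ProjectiveSpecialLinearGroup (Fin 3) F → ℕ) =
      {1, 2, 3, 4, 6, 8, 13} := by
  rw [← sl_spectrum hF]
  have hinj : Function.Injective
      (QuotientGroup.mk' (Subgroup.center (Matrix.SpecialLinearGroup (Fin 3) F))) := by
    rw [← MonoidHom.ker_eq_bot_iff, QuotientGroup.ker_mk', center_eq_bot hF]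
  ext n
  constructor
  · rintro ⟨x, rfl⟩
    obtain ⟨g, rfl⟩ := QuotientGroup.mk'_surjective _ x
    exact ⟨g, (orderOf_injective _ hinj g).symm⟩
  · rintro ⟨g, rfl⟩
    exact ⟨QuotientGroup.mk' _ g, orderOf_injective _ hinj g⟩

end generic

open Cfsg.Agent.Lib.Helper8 in
theorem result {F : Type*} [Field F] [Fintype F] (hF : Fintype.card F = 3) :
    ∃ (H : Type) (_ : Group H) (_ : Fintype H), Group.IsSolvable H ∧
      Set.range (orderOf : H → ℕ) = Set.range (orderOf : Matrix.ProjectiveSpecialLinearGroup (Fin 3) F → ℕ) := by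
  refine ⟨RingFrob.Aff BinOct13.C, inferInstance, Fintype.ofFinite _, RingFrob.isSolvable _, ?_⟩
  rw [psl_spectrum hF, RingFrob.range_orderOf 13 BinOct13.C BinOct13.hfree, BinOct13.spectrum]
  ext n
  simp only [Set.mem_union, Set.mem_insert_iff, Set.mem_singleton_iff]
  tauto

end Part1

end Cfsg.Agent.S3437
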