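import Mathlib
import Cfsg.Statements.S3438
import Cfsg.Agent.Lib.Helper8.F9
import Cfsg.Agent.Lib.Helper8.SUTransport
import Cfsg.Agent.Lib.Helper8.C3Q16Mod7

set_option autoImplicit false
open Cfsg

namespace Cfsg.Agent.S3438


section Part0

open Polynomial Matrix Cfsg.Agent.Lib.Helper8

abbrev M3 := Matrix (Fin 3) (Fin 3) F9

theorem f9_add_pow : ∀ a b : F9, (a + b) ^ 3 = a ^ 3 + b ^ 3 := by decide +kernel

/-- multiplication by `M` on `α + β M + γ M²` when `M³ = 1 - b M - a M²` -/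
def stp (a b : F9) (v : F9 × F9 × F9) : F9 × F9 × F9 :=
  (v.2.2, v.1 - b * v.2.2, v.2.1 - a * v.2.2)

theorem pow_eq_iter (M : M3) (a b : F9) (h : M ^ 3 = 1 - b • M - a • M ^ 2) (n : ℕ) :
    M ^ n = ((stp a b)^[n] (1, 0, 0)).1 • (1 : M3) + ((stp a b)^[n] (1, 0, 0)).2.1 • M +
      ((stp a b)^[n] (1, 0, 0)).2.2 • M ^ 2 := by
  induction n with
  | zero => simp
  | succ n ih =>
    rw [Function.iterate_succ_apply', pow_succ', ih]
    generalize (stp a b)^[n] (1, 0, 0) = v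
    obtain ⟨α, β, γ⟩ := v
    simp only [stp]
    have h3 : M * M ^ 2 = M ^ 3 := by rw [← pow_succ']
    rw [mul_add, mul_add, Matrix.mul_smul, Matrix.mul_smul, Matrix.mul_smul, mul_one, ← pow_two,
      h3, h]
    module

theorem iter_check : ∀ a : F9,
    (stp a (-(a ^ 3)))^[7] (1, 0, 0) = (1, 0, 0) ∨ (stp a (-(a ^ 3)))^[8] (1, 0, 0) = (1, 0, 0) ∨
      (stp a (-(a ^ 3)))^[12] (1, 0, 0) = (1, 0, 0) := by decide +kernel

theorem su_pow (M : M3) (hdet : M.det = 1)
    (hU : ∀ j k, ∑ i, M i j * (M i k) ^ 3 = if j = k then 1 else 0) :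
    M ^ 7 = 1 ∨ M ^ 8 = 1 ∨ M ^ 12 = 1 := by
  -- the inverse is the conjugate transpose
  have hN : (M.map (· ^ 3))ᵀ * M = 1 := by
    ext j k
    rw [Matrix.mul_apply, Matrix.one_apply]
    simp only [Matrix.transpose_apply, Matrix.map_apply]
    calc ∑ i, M i j ^ 3 * M i k = ∑ i, M i k * M i j ^ 3 :=
          Finset.sum_congr rfl (fun i _ => mul_comm _ _)
      _ = if k = j then 1 else 0 := hU k j
      _ = if j = k then 1 else 0 := by simp only [eq_comm]
  have hinv : M⁻¹ = (M.map (· ^ 3))ᵀ := Matrix.inv_eq_left_inv hN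
  have htr : Matrix.trace M⁻¹ = (Matrix.trace M) ^ 3 := by
    rw [hinv, Matrix.trace_transpose]
    simp only [Matrix.trace, Matrix.diag_apply, Matrix.map_apply, Fin.sum_univ_three, f9_add_pow]
  have hunit : IsUnit M := by
    rw [Matrix.isUnit_iff_isUnit_det, hdet]; exact isUnit_one
  have hmonic := Matrix.charpoly_monic M
  have hdeg : M.charpoly.natDegree = 3 := by
    rw [Matrix.charpoly_natDegree_eq_dim]; simp
  have hc0 : M.charpoly.coeff 0 = -1 := by
    have := Matrix.det_eq_sign_charpoly_coeff M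
    rw [hdet] at this
    simp only [Fintype.card_fin] at this
    linear_combination this
  have hc3 : M.charpoly.coeff 3 = 1 := by
    have := hmonic.coeff_natDegree
    rw [hdeg] at this; exact this
  have hc2 : M.charpoly.coeff 2 = -Matrix.trace M := by
    have := Matrix.trace_eq_neg_charpoly_coeff M
    simp only [Fintype.card_fin] at this
    rw [this]; simp
  have hc1 : M.charpoly.coeff 1 = Matrix.trace M⁻¹ := by
    have h1 := Matrix.charpoly_inv M hunit
    have h2 := Matrix.trace_eq_neg_charpoly_coeff M⁻¹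
    simp only [Fintype.card_fin] at h2
    rw [h2, h1, hdet, ← Matrix.reverse_charpoly]
    simp only [Fintype.card_fin, Ring.inverse_one, map_one, mul_one]
    have : ((-1 : F9[X]) ^ 3 * M.charpoly.reverse).coeff (3 - 1) =
        -(M.charpoly.reverse.coeff 2) := by
      have : ((-1 : F9[X]) ^ 3) = C (-1 : F9) := by
        rw [map_neg, map_one]; ring
      rw [this, Polynomial.coeff_C_mul]; simp
    rw [this, Polynomial.coeff_reverse, hdeg, Polynomial.revAt_le (by norm_num)]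
    simp
  set a := M.charpoly.coeff 2 with ha
  have hb : M.charpoly.coeff 1 = -(a ^ 3) := by
    rw [hc1, htr, hc2]; ring
  have hc : M.charpoly = X ^ 3 + C a * X ^ 2 + C (-(a ^ 3)) * X - 1 := by
    conv_lhs => rw [Polynomial.as_sum_range_C_mul_X_pow M.charpoly, hdeg]
    simp only [Finset.sum_range_succ, Finset.range_one, Finset.sum_singleton, hc0, hc3, hb, ← ha]
    simp only [pow_zero, pow_one, map_neg, map_one, mul_one, one_mul]
    ring
  have hM : aeval M M.charpoly = 0 := Matrix.aeval_self_charpoly M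
  have hrel : M ^ 3 = 1 - (-(a ^ 3)) • M - a • M ^ 2 := by
    rw [hc] at hM
    simp only [map_sub, map_add, map_mul, map_pow, aeval_X, aeval_C, map_one,
      Algebra.algebraMap_eq_smul_one, smul_mul_assoc, one_mul] at hM
    rw [← sub_eq_zero]
    rw [← hM]
    module
  have hiter := pow_eq_iter M a (-(a ^ 3)) hrel
  rcases iter_check a with h | h | h
  · left
    rw [hiter 7, h]; simp
  · right; left
    rw [hiter 8, h]; simp
  · right; right
    rw [hiter 12, h]; simp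

end Part0

section Part1

open Matrix Cfsg.Agent.Lib.Helper8

abbrev SU9 := Cfsg.SU 3 F9 3

/-- the matrix of an element -/
def toM (g : SU9) : M3 := ((g : Matrix.SpecialLinearGroup (Fin 3) F9) : M3)

theorem toM_one : toM 1 = 1 := rfl

theorem toM_mul (g h : SU9) : toM (g * h) = toM g * toM h := rfl

theorem toM_pow (g : SU9) (k : ℕ) : toM (g ^ k) = toM g ^ k := by
  induction k with
  | zero => simp [toM_one]
  | succ k ih => rw [pow_succ, pow_succ, toM_mul, ih]

theorem toM_inj {g h : SU9} (H : toM g = toM h) : g = h :=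
  Subtype.ext (Subtype.ext H)

theorem hU_of_mem (g : SU9) :
    ∀ j k, ∑ i, toM g i j * (toM g i k) ^ 3 = if j = k then 1 else 0 := by
  intro j k
  have := (SUTransport.mem_SU_iff 3 3 g.1).1 g.2 (Pi.single j 1) (Pi.single k 1)
  simp only [Matrix.mulVec_single_one] at this
  unfold hermForm at this
  have h2 : (∑ i, (Pi.single j 1 : Fin 3 → F9) i * ((Pi.single k 1 : Fin 3 → F9) i) ^ 3) =
      if j = k then 1 else 0 := by
    fin_cases j <;> fin_cases k <;> simp [Pi.single_apply]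
  rw [h2] at this
  rw [← this]
  rfl

theorem su_pow' (g : SU9) : g ^ 7 = 1 ∨ g ^ 8 = 1 ∨ g ^ 12 = 1 := by
  rcases su_pow (toM g) g.1.2 (hU_of_mem g) with h | h | h
  · exact Or.inl (toM_inj (by rw [toM_pow, h, toM_one]))
  · exact Or.inr (Or.inl (toM_inj (by rw [toM_pow, h, toM_one])))
  · exact Or.inr (Or.inr (toM_inj (by rw [toM_pow, h, toM_one])))

def P4 (x : M3) : M3 := (x * x) * (x * x)
def P6 (x : M3) : M3 := P4 x * (x * x)
def P7 (x : M3) : M3 := P4 x * (x * x) * x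
def P8 (x : M3) : M3 := P4 x * P4 x
def P12 (x : M3) : M3 := P8 x * P4 x

theorem P4_eq (x : M3) : P4 x = x ^ 4 := by
  simp only [P4, pow_succ, pow_zero, one_mul, mul_assoc]
theorem P6_eq (x : M3) : P6 x = x ^ 6 := by
  simp only [P6, P4, pow_succ, pow_zero, one_mul, mul_assoc]
theorem P7_eq (x : M3) : P7 x = x ^ 7 := by
  simp only [P7, P4, pow_succ, pow_zero, one_mul, mul_assoc]
theorem P8_eq (x : M3) : P8 x = x ^ 8 := by
  simp only [P8, P4, pow_succ, pow_zero, one_mul, mul_assoc]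
theorem P12_eq (x : M3) : P12 x = x ^ 12 := by
  simp only [P12, P8, P4, pow_succ, pow_zero, one_mul, mul_assoc]

def m7 : M3 := !![0, ⟨1, 1⟩, ⟨2, 1⟩; 0, ⟨1, 1⟩, ⟨1, 2⟩; 1, 0, 0]
def m8 : M3 := !![0, 0, 1; 0, ⟨0, 1⟩, 0; ⟨0, 1⟩, 0, 0]
def m12 : M3 := !![0, ⟨1, 1⟩, ⟨1, 1⟩; 0, ⟨2, 1⟩, ⟨1, 2⟩; 1, 0, 0]

theorem m7_det : m7.det = 1 := by decide +kernel
theorem m8_det : m8.det = 1 := by decide +kernel
theorem m12_det : m12.det = 1 := by decide +kernel

theorem m7_U : ∀ j k, ∑ i, m7 i j * (m7 i k) ^ 3 = if j = k then 1 else 0 := by decide +kernel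
theorem m8_U : ∀ j k, ∑ i, m8 i j * (m8 i k) ^ 3 = if j = k then 1 else 0 := by decide +kernel
theorem m12_U : ∀ j k, ∑ i, m12 i j * (m12 i k) ^ 3 = if j = k then 1 else 0 := by decide +kernel

def s7 : SU9 := ⟨⟨m7, m7_det⟩, (SUTransport.mem_SU_iff 3 3 _).2
  (fun u v => SUTransport.herm_preserve f9_add_pow m7 m7_U u v)⟩
def s8 : SU9 := ⟨⟨m8, m8_det⟩, (SUTransport.mem_SU_iff 3 3 _).2
  (fun u v => SUTransport.herm_preserve f9_add_pow m8 m8_U u v)⟩
def s12 : SU9 := ⟨⟨m12, m12_det⟩, (SUTransport.mem_SU_iff 3 3 _).2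
  (fun u v => SUTransport.herm_preserve f9_add_pow m12 m12_U u v)⟩

theorem facts7 : P7 m7 = 1 ∧ m7 * m8 ≠ m8 * m7 := by decide +kernel
theorem facts8 : P8 m8 = 1 ∧ P4 m8 * m7 ≠ m7 * P4 m8 := by decide +kernel
theorem facts12 : P12 m12 = 1 ∧ P6 m12 * m7 ≠ m7 * P6 m12 ∧ P4 m12 * m7 ≠ m7 * P4 m12 := by
  decide +kernel

theorem not_mem_center (x y : SU9) (h : toM x * toM y ≠ toM y * toM x) :
    x ∉ Subgroup.center SU9 := by
  intro hx
  rw [Subgroup.mem_center_iff] at hx
  apply h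
  rw [← toM_mul, ← toM_mul, hx y]

theorem orderOf_mk_eq {G : Type*} [Group G] (g : G) (n : ℕ) (hn : 0 < n) (h1 : g ^ n = 1)
    (h2 : ∀ p : ℕ, p.Prime → p ∣ n → g ^ (n / p) ∉ Subgroup.center G) :
    orderOf (QuotientGroup.mk g : G ⧸ Subgroup.center G) = n := by
  apply orderOf_eq_of_pow_and_pow_div_prime hn
  · rw [← QuotientGroup.mk_pow, h1]; rfl
  · intro p hp hd h
    apply h2 p hp hd
    rwa [← QuotientGroup.mk_pow, QuotientGroup.eq_one_iff] at h

theorem prime_dvd_12 {q : ℕ} (hq : q.Prime) (hdvd : q ∣ 12) : q = 2 ∨ q = 3 := by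
  have hq12 : q ∣ 2 * (2 * 3) := hdvd
  rcases (Nat.Prime.dvd_mul hq).1 hq12 with h | h
  · exact Or.inl ((Nat.prime_dvd_prime_iff_eq hq Nat.prime_two).1 h)
  · rcases (Nat.Prime.dvd_mul hq).1 h with h | h
    · exact Or.inl ((Nat.prime_dvd_prime_iff_eq hq Nat.prime_two).1 h)
    · exact Or.inr ((Nat.prime_dvd_prime_iff_eq hq Nat.prime_three).1 h)

theorem orderOf_q7 : orderOf (QuotientGroup.mk s7 : Cfsg.PSU 3 F9 3) = 7 := by
  apply orderOf_mk_eq s7 7 (by norm_num)
  · apply toM_inj; rw [toM_pow, toM_one, ← P7_eq]; exact facts7.1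
  · intro p hp hd
    have : p = 7 := (Nat.prime_dvd_prime_iff_eq hp (by norm_num)).1 hd
    subst this
    apply not_mem_center _ s8
    rw [toM_pow]
    change toM s7 ^ 1 * toM s8 ≠ toM s8 * toM s7 ^ 1
    rw [pow_one]; exact facts7.2

theorem orderOf_q8 : orderOf (QuotientGroup.mk s8 : Cfsg.PSU 3 F9 3) = 8 := by
  apply orderOf_mk_eq s8 8 (by norm_num)
  · apply toM_inj; rw [toM_pow, toM_one, ← P8_eq]; exact facts8.1
  · intro p hp hd
    have : p = 2 := (Nat.prime_dvd_prime_iff_eq hp Nat.prime_two).1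
      (hp.dvd_of_dvd_pow (n := 3) hd)
    subst this
    apply not_mem_center _ s7
    rw [toM_pow]
    change toM s8 ^ 4 * toM s7 ≠ toM s7 * toM s8 ^ 4
    rw [← P4_eq]; exact facts8.2

theorem orderOf_q12 : orderOf (QuotientGroup.mk s12 : Cfsg.PSU 3 F9 3) = 12 := by
  apply orderOf_mk_eq s12 12 (by norm_num)
  · apply toM_inj; rw [toM_pow, toM_one, ← P12_eq]; exact facts12.1
  · intro p hp hd
    rcases prime_dvd_12 hp hd with rfl | rfl
    · apply not_mem_center _ s7
      rw [toM_pow]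
      change toM s12 ^ 6 * toM s7 ≠ toM s7 * toM s12 ^ 6
      rw [← P6_eq]; exact facts12.2.1
    · apply not_mem_center _ s7
      rw [toM_pow]
      change toM s12 ^ 4 * toM s7 ≠ toM s7 * toM s12 ^ 4
      rw [← P4_eq]; exact facts12.2.2

theorem psu_spectrum9 :
    Set.range (orderOf : Cfsg.PSU 3 F9 3 → ℕ) = {1, 2, 3, 4, 6, 7, 8, 12} := by
  ext n
  simp only [Set.mem_range, Set.mem_insert_iff, Set.mem_singleton_iff]
  constructor
  · rintro ⟨x, rfl⟩
    obtain ⟨g, rfl⟩ := QuotientGroup.mk_surjective x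
    have hq : ∀ k : ℕ, g ^ k = 1 → (QuotientGroup.mk g : Cfsg.PSU 3 F9 3) ^ k = 1 := by
      intro k hk
      rw [← QuotientGroup.mk_pow, hk]; rfl
    rcases su_pow' g with h | h | h
    · have h' := hq 7 h
      have hd := orderOf_dvd_of_pow_eq_one h'
      rcases (Nat.dvd_prime (by norm_num : Nat.Prime 7)).1 hd with h1 | h1
      · simp [h1]
      · simp [h1]
    · have h' := hq 8 h
      have hd := orderOf_dvd_of_pow_eq_one h'
      have hle := Nat.le_of_dvd (by norm_num) hd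
      have hpos := orderOf_pos_iff.2 (isOfFinOrder_iff_pow_eq_one.2 ⟨8, by norm_num, h'⟩)
      interval_cases (orderOf (QuotientGroup.mk g : Cfsg.PSU 3 F9 3)) <;> simp_all
    · have h' := hq 12 h
      have hd := orderOf_dvd_of_pow_eq_one h'
      have hle := Nat.le_of_dvd (by norm_num) hd
      have hpos := orderOf_pos_iff.2 (isOfFinOrder_iff_pow_eq_one.2 ⟨12, by norm_num, h'⟩)
      interval_cases (orderOf (QuotientGroup.mk g : Cfsg.PSU 3 F9 3)) <;> simp_all
  · have h7 := orderOf_q7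
    have h8 := orderOf_q8
    have h12 := orderOf_q12
    rintro (rfl | rfl | rfl | rfl | rfl | rfl | rfl | rfl)
    · exact ⟨1, orderOf_one⟩
    · exact ⟨_, by rw [orderOf_pow_of_dvd (n := 4) (by norm_num) (by rw [h8]; norm_num), h8]⟩
    · exact ⟨_, by rw [orderOf_pow_of_dvd (n := 4) (by norm_num) (by rw [h12]; norm_num), h12]⟩
    · exact ⟨_, by rw [orderOf_pow_of_dvd (n := 2) (by norm_num) (by rw [h8]; norm_num), h8]⟩
    · exact ⟨_, by rw [orderOf_pow_of_dvd (n := 2) (by norm_num) (by rw [h12]; norm_num), h12]⟩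
    · exact ⟨_, h7⟩
    · exact ⟨_, h8⟩
    · exact ⟨_, h12⟩

theorem result {F : Type*} [Field F] [Fintype F] (hF : Fintype.card F = 9) :
    ∃ (H : Type) (_ : Group H) (_ : Fintype H), Group.IsSolvable H ∧ Set.range (orderOf : H → ℕ) = Set.range (orderOf : Cfsg.PSU 3 F 3 → ℕ) := by
  have e : F9 ≃+* F :=
    FiniteField.ringEquivOfCardEq (K := F9) (K' := F) (by rw [hF, F9.card])
  have hsp : Set.range (orderOf : Cfsg.PSU 3 F 3 → ℕ) =
      Set.range (orderOf : Cfsg.PSU 3 F9 3 → ℕ) := by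
    ext n
    constructor
    · rintro ⟨x, rfl⟩
      exact ⟨(SUTransport.psuEquiv e 3 3).symm x, MulEquiv.orderOf_eq _ x⟩
    · rintro ⟨x, rfl⟩
      exact ⟨(SUTransport.psuEquiv e 3 3) x, MulEquiv.orderOf_eq _ x⟩
  refine ⟨RingFrob.Aff C3Q16Mod7.C, inferInstance, Fintype.ofFinite _, RingFrob.isSolvable _, ?_⟩
  rw [hsp, psu_spectrum9, RingFrob.range_orderOf 7 C3Q16Mod7.C C3Q16Mod7.hfree,
    C3Q16Mod7.spectrum]
  ext n
  simp only [Set.mem_union, Set.mem_insert_iff, Set.mem_singleton_iff]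
  tauto

end Part1

end Cfsg.Agent.S3438
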