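import Mathlib
import Cfsg.Statements.S3443

set_option autoImplicit false
open Cfsg

namespace Cfsg.Agent.S3443

/-- If `a b⁻¹ ∈ V` with `V` normal of exponent `p`, then the orders of `a`, `b` are comparable by divisibility. -/
theorem order_dvd_or {G : Type*} [Group G] [Finite G] (V : Subgroup G) [V.Normal] (p : ℕ) (hp : p.Prime)
    (hexp : ∀ x : V, x ^ p = 1) (a b : G) (hab : a * b⁻¹ ∈ V) :
    orderOf a ∣ orderOf b ∨ orderOf b ∣ orderOf a := by
  have hq : (QuotientGroup.mk' V a) = QuotientGroup.mk' V b := by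
    rw [QuotientGroup.mk'_apply, QuotientGroup.mk'_apply, QuotientGroup.eq]
    have : a⁻¹ * b = a⁻¹ * (a * b⁻¹)⁻¹ * a := by group
    rw [this]
    exact (Subgroup.Normal.mem_comm_iff inferInstance).mp
      (by
        have h2 : a * (a⁻¹ * (a * b⁻¹)⁻¹) = (a * b⁻¹)⁻¹ := by group
        rw [h2]; exact V.inv_mem hab)
  set m := orderOf (QuotientGroup.mk' V a) with hm
  have hmpos : 0 < m := orderOf_pos _
  have key : ∀ c : G, QuotientGroup.mk' V c = QuotientGroup.mk' V a → ∃ d, d ∣ p ∧ orderOf c = m * d := by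
    intro c hc
    have h1 : m ∣ orderOf c := by
      rw [hm, ← hc]; exact orderOf_map_dvd _ c
    obtain ⟨d, hd⟩ := h1
    refine ⟨d, ?_, hd⟩
    have h2 : c ^ m ∈ V := by
      have : (QuotientGroup.mk' V c) ^ m = 1 := by rw [hc, hm]; exact pow_orderOf_eq_one _
      rw [← map_pow, QuotientGroup.mk'_apply, QuotientGroup.eq_one_iff] at this
      exact this
    have h3 : c ^ (m * p) = 1 := by
      have := hexp ⟨c ^ m, h2⟩
      rw [pow_mul]
      exact congrArg Subtype.val this
    have h4 : orderOf c ∣ m * p := orderOf_dvd_of_pow_eq_one h3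
    rw [hd] at h4
    exact (Nat.mul_dvd_mul_iff_left hmpos).mp h4
  obtain ⟨d₁, hd₁, h₁⟩ := key a rfl
  obtain ⟨d₂, hd₂, h₂⟩ := key b hq.symm
  rcases (Nat.dvd_prime hp).mp hd₁ with rfl | rfl
  · left; rw [h₁, h₂, mul_one]; exact Dvd.intro _ rfl
  · rcases (Nat.dvd_prime hp).mp hd₂ with rfl | rfl
    · right; rw [h₁, h₂, mul_one]; exact Dvd.intro _ rfl
    · left; rw [h₁, h₂]

/-- multiplication map `V ⋊ G → G` -/
def mulHom {G : Type*} [Group G] (V : Subgroup G) [V.Normal] : V ⋊[MulAut.conjNormal] G →* G :=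
  SemidirectProduct.lift V.subtype (MonoidHom.id G) (by
    intro g
    ext v
    simp [MulAut.conjNormal_apply])

theorem mulHom_apply {G : Type*} [Group G] (V : Subgroup G) [V.Normal] (x : V ⋊[MulAut.conjNormal] G) :
    mulHom V x = (x.left : G) * x.right := by
  simp [mulHom, SemidirectProduct.lift]

theorem result {G : Type*} [Group G] [Finite G] (V : Subgroup G) [V.Normal] (p : ℕ) (hp : p.Prime)
    (hcomm : ∀ x y : V, x * y = y * x) (hexp : ∀ x : V, x ^ p = 1) :
    Set.range (orderOf : V ⋊[MulAut.conjNormal] G → ℕ) = Set.range (orderOf : G → ℕ) := by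
  apply Set.eq_of_subset_of_subset
  · rintro n ⟨x, rfl⟩
    -- orderOf x = lcm (orderOf (v*g)) (orderOf g)
    have hinj : Function.Injective ((mulHom V).prod SemidirectProduct.rightHom) := by
      intro x y hxy
      have h1 : mulHom V x = mulHom V y := congrArg Prod.fst hxy
      have h2 : x.right = y.right := congrArg Prod.snd hxy
      rw [mulHom_apply, mulHom_apply, h2] at h1
      have h3 : (x.left : G) = y.left := mul_right_cancel h1
      exact SemidirectProduct.ext (Subtype.ext h3) h2
    have h1 : orderOf x = Nat.lcm (orderOf ((x.left : G) * x.right)) (orderOf x.right) := by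
      rw [← orderOf_injective _ hinj x, Prod.orderOf]
      simp only [MonoidHom.prod_apply, mulHom_apply]
      rfl
    have h2 := order_dvd_or V p hp hexp ((x.left : G) * x.right) x.right (by
      have : (x.left : G) * x.right * (x.right)⁻¹ = x.left := by group
      rw [this]; exact x.left.2)
    rcases h2 with h | h
    · exact ⟨x.right, by rw [h1, Nat.lcm_eq_right h]⟩
    · exact ⟨(x.left : G) * x.right, by rw [h1, Nat.lcm_eq_left h]⟩
  · rintro n ⟨g, rfl⟩
    exact ⟨SemidirectProduct.inr g, orderOf_injective _ SemidirectProduct.inr_injective g⟩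

end Cfsg.Agent.S3443
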