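import Mathlib
import Cfsg.Statements.S3444
import Cfsg.Agent.S3443

set_option autoImplicit false
open Cfsg

namespace Cfsg.Agent.S3444

universe u

/-- `H` has a nontrivial normal elementary abelian subgroup. -/
def HasEA (H : Type u) [Group H] : Prop :=
  ∃ (V : Subgroup H) (p : ℕ), V.Normal ∧ V ≠ ⊥ ∧ p.Prime ∧ (∀ x y : V, x * y = y * x) ∧ ∀ x : V, x ^ p = 1

theorem hasEA_of_solvable_normal {G : Type u} [Group G] [Finite G] (K : Subgroup G) [hKn : K.Normal] (hK : K ≠ ⊥)
    (hs : Group.IsSolvable K) : HasEA G := by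
  classical
  obtain ⟨n, hn⟩ := (Group.isSolvable_def K).mp hs
  -- minimal n
  have hex : ∃ n, derivedSeries K n = ⊥ := ⟨n, hn⟩
  set n₀ := Nat.find hex with hn₀
  have h₀ : derivedSeries K n₀ = ⊥ := Nat.find_spec hex
  have hKnt : (⊤ : Subgroup K) ≠ ⊥ := by
    intro h
    apply hK
    rw [eq_bot_iff]
    intro x hx
    have : (⟨x, hx⟩ : K) ∈ (⊤ : Subgroup K) := Subgroup.mem_top _
    rw [h, Subgroup.mem_bot] at this
    rw [Subgroup.mem_bot]
    exact congrArg Subtype.val this
  have hn0 : n₀ ≠ 0 := by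
    intro h
    rw [h, derivedSeries_zero] at h₀
    exact hKnt h₀
  obtain ⟨m, hm⟩ := Nat.exists_eq_succ_of_ne_zero hn0
  have hA'ne : derivedSeries K m ≠ ⊥ := by
    intro h
    have := Nat.find_min' hex h
    omega
  have hA'comm : ⁅derivedSeries K m, derivedSeries K m⁆ = ⊥ := by
    rw [← derivedSeries_succ, ← Nat.succ_eq_add_one, ← hm]; exact h₀
  set A : Subgroup G := (derivedSeries K m).map K.subtype with hA
  have hAn : A.Normal := ConjAct.normal_of_characteristic_of_normal
  have hAcomm : ∀ a ∈ A, ∀ b ∈ A, a * b = b * a := by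
    rintro a ⟨a', ha', rfl⟩ b ⟨b', hb', rfl⟩
    have h1 := Subgroup.commutator_eq_bot_iff_le_centralizer.mp hA'comm
    have h2 := h1 ha'
    rw [Subgroup.mem_centralizer_iff] at h2
    have h3 := h2 b' hb'
    have := congrArg K.subtype h3
    simpa using this.symm
  have hAne : A ≠ ⊥ := by
    intro h
    apply hA'ne
    rw [eq_bot_iff]
    intro x hx
    have : K.subtype x ∈ A := Subgroup.mem_map_of_mem _ hx
    rw [h, Subgroup.mem_bot] at this
    rw [Subgroup.mem_bot]
    exact Subtype.ext this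
  -- a prime dividing |A|
  have hcardA : Nat.card A ≠ 1 := by
    intro h
    exact hAne (Subgroup.card_eq_one.mp h)
  obtain ⟨p, hp, hpd⟩ := Nat.exists_prime_and_dvd hcardA
  have : Fact p.Prime := ⟨hp⟩
  obtain ⟨a, ha⟩ := exists_prime_orderOf_dvd_card' p hpd
  -- V = elements of A killed by p
  let V : Subgroup G :=
    { carrier := {x | x ∈ A ∧ x ^ p = 1}
      one_mem' := ⟨A.one_mem, one_pow _⟩
      mul_mem' := by
        rintro x y ⟨hx, hx'⟩ ⟨hy, hy'⟩
        refine ⟨A.mul_mem hx hy, ?_⟩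
        have hc : Commute x y := hAcomm x hx y hy
        rw [hc.mul_pow, hx', hy', one_mul]
      inv_mem' := by
        rintro x ⟨hx, hx'⟩
        exact ⟨A.inv_mem hx, by rw [inv_pow, hx', inv_one]⟩ }
  refine ⟨V, p, ?_, ?_, hp, ?_, ?_⟩
  · constructor
    rintro x ⟨hx, hx'⟩ g
    refine ⟨hAn.conj_mem x hx g, ?_⟩
    rw [conj_pow, hx', mul_one, mul_inv_cancel]
  · intro h
    have hmem : (a : G) ∈ V := ⟨a.2, by
      have := pow_orderOf_eq_one a
      rw [ha] at this
      exact_mod_cast congrArg Subtype.val this⟩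
    rw [h, Subgroup.mem_bot] at hmem
    have : a = 1 := Subtype.ext hmem
    rw [this, orderOf_one] at ha
    exact hp.one_lt.ne ha
  · rintro ⟨x, hx, _⟩ ⟨y, hy, _⟩
    exact Subtype.ext (hAcomm x hx y hy)
  · rintro ⟨x, hx, hx'⟩
    exact Subtype.ext hx'

theorem step {H : Type u} [Group H] [Finite H] (hH : HasEA H) :
    ∃ (H' : Type u) (_ : Group H') (_ : Finite H'), HasEA H' ∧ 2 * Nat.card H ≤ Nat.card H' ∧
      Set.range (orderOf : H' → ℕ) = Set.range (orderOf : H → ℕ) := by
  obtain ⟨V, p, hVn, hVne, hp, hcomm, hexp⟩ := hH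
  have := hVn
  refine ⟨V ⋊[MulAut.conjNormal] H, inferInstance, ?_, ?_, ?_, ?_⟩
  · exact Finite.of_equiv _ (SemidirectProduct.equivProd).symm
  · refine ⟨(SemidirectProduct.inl : V →* V ⋊[MulAut.conjNormal] H).range, p, ?_, ?_, hp, ?_, ?_⟩
    · rw [SemidirectProduct.range_inl_eq_ker_rightHom]
      exact MonoidHom.normal_ker _
    · intro h
      apply hVne
      rw [eq_bot_iff]
      intro v hv
      have : SemidirectProduct.inl (⟨v, hv⟩ : V) ∈ (SemidirectProduct.inl : V →* V ⋊[MulAut.conjNormal] H).range :=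
        ⟨_, rfl⟩
      rw [h, Subgroup.mem_bot] at this
      have h2 : (⟨v, hv⟩ : V) = 1 := SemidirectProduct.inl_injective (by rw [this, map_one])
      rw [Subgroup.mem_bot]
      exact congrArg Subtype.val h2
    · rintro ⟨x, v, rfl⟩ ⟨y, w, rfl⟩
      apply Subtype.ext
      show SemidirectProduct.inl v * SemidirectProduct.inl w = SemidirectProduct.inl w * SemidirectProduct.inl v
      rw [← map_mul, ← map_mul, hcomm]
    · rintro ⟨x, v, rfl⟩
      apply Subtype.ext
      show (SemidirectProduct.inl v) ^ p = 1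
      rw [← map_pow, hexp, map_one]
  · have hc : Nat.card (V ⋊[MulAut.conjNormal] H) = Nat.card V * Nat.card H := by
      rw [Nat.card_congr (SemidirectProduct.equivProd), Nat.card_prod]
    rw [hc]
    have hV2 : 2 ≤ Nat.card V := by
      have h1 : Nat.card V ≠ 1 := fun h => hVne (Subgroup.card_eq_one.mp h)
      have h0 : 0 < Nat.card V := Nat.card_pos
      omega
    exact Nat.mul_le_mul_right _ hV2
  · exact Cfsg.Agent.S3443.result V p hp hcomm hexp

theorem iterate {G : Type u} [Group G] [Finite G] (hG : HasEA G) (i : ℕ) :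
    ∃ (H : Type u) (_ : Group H) (_ : Finite H), HasEA H ∧ 2 ^ i ≤ Nat.card H ∧
      Set.range (orderOf : H → ℕ) = Set.range (orderOf : G → ℕ) := by
  induction i with
  | zero => exact ⟨G, inferInstance, inferInstance, hG, by rw [pow_zero]; exact Nat.card_pos, rfl⟩
  | succ i ih =>
    obtain ⟨H, hg, hf, hEA, hcard, hspec⟩ := ih
    obtain ⟨H', hg', hf', hEA', hcard', hspec'⟩ := step hEA
    refine ⟨H', hg', hf', hEA', ?_, hspec'.trans hspec⟩
    calc 2 ^ (i + 1) = 2 * 2 ^ i := by ring
      _ ≤ 2 * Nat.card H := Nat.mul_le_mul_left _ hcard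
      _ ≤ Nat.card H' := hcard'

theorem result {G : Type*} [Group G] [Finite G] (K : Subgroup G) [K.Normal] (hK : K ≠ ⊥)
    (hs : Group.IsSolvable K) (N : ℕ) :
    ∃ (H : Type) (_ : Group H) (_ : Fintype H), N < Fintype.card H ∧ Set.range (orderOf : H → ℕ) = Set.range (orderOf : G → ℕ) := by
  obtain ⟨H, hg, hf, _, hcard, hspec⟩ := iterate (hasEA_of_solvable_normal K hK hs) N
  -- transfer to a type in `Type`
  let C : Type := {i : ℕ // i < Nat.card H}
  let e : C ≃ H := (Fin.equivSubtype (n := Nat.card H)).symm.trans (Finite.equivFin H).symm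
  let gC : Group C := e.group
  let fC : Fintype C := Fintype.ofEquiv (Fin (Nat.card H)) Fin.equivSubtype
  let e' : C ≃* H := e.mulEquiv
  refine ⟨C, gC, fC, ?_, ?_⟩
  · have : @Fintype.card C fC = Nat.card H := by
      rw [Fintype.ofEquiv_card, Fintype.card_fin]
    rw [this]
    exact lt_of_lt_of_le (Nat.lt_two_pow_self) hcard
  · rw [← hspec]
    ext n
    constructor
    · rintro ⟨x, rfl⟩
      exact ⟨e' x, MulEquiv.orderOf_eq e' x⟩
    · rintro ⟨y, rfl⟩
      refine ⟨e'.symm y, ?_⟩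
      have := MulEquiv.orderOf_eq e' (e'.symm y)
      rw [← this]
      congr 1
      exact e'.apply_symm_apply y

end Cfsg.Agent.S3444
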