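import Mathlib
import Cfsg.Statements.S3448
import Cfsg.Agent.Lib.Helper8.A5Spectrum

set_option autoImplicit false
open Cfsg

namespace Cfsg.Agent.S3448

open Cfsg.Agent.Lib.Helper8.A5Spectrum

theorem result : Set.range (orderOf : alternatingGroup (Fin 5) × alternatingGroup (Fin 5) → ℕ) = {1, 2, 3, 5, 6, 10, 15} := by
  ext n
  simp only [Set.mem_range, Set.mem_insert_iff, Set.mem_singleton_iff]
  constructor
  · rintro ⟨⟨a, b⟩, rfl⟩
    rw [Prod.orderOf_mk]
    rcases a5_orders a with h | h | h | h <;> rcases a5_orders b with h' | h' | h' | h' <;>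
      rw [h, h'] <;> decide
  · rintro (rfl | rfl | rfl | rfl | rfl | rfl | rfl)
    · exact ⟨(1, 1), by rw [Prod.orderOf_mk, orderOf_one]; rfl⟩
    · exact ⟨(e2, 1), by rw [Prod.orderOf_mk, orderOf_one, orderOf_e2]; rfl⟩
    · exact ⟨(e3, 1), by rw [Prod.orderOf_mk, orderOf_one, orderOf_e3]; rfl⟩
    · exact ⟨(e5, 1), by rw [Prod.orderOf_mk, orderOf_one, orderOf_e5]; rfl⟩
    · exact ⟨(e2, e3), by rw [Prod.orderOf_mk, orderOf_e2, orderOf_e3]; rfl⟩
    · exact ⟨(e2, e5), by rw [Prod.orderOf_mk, orderOf_e2, orderOf_e5]; rfl⟩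
    · exact ⟨(e3, e5), by rw [Prod.orderOf_mk, orderOf_e3, orderOf_e5]; rfl⟩

end Cfsg.Agent.S3448
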