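import Mathlib
import Cfsg.Statements.S3449
import Cfsg.Agent.Lib.Helper8.A5Spectrum

set_option autoImplicit false
open Cfsg

namespace Cfsg.Agent.S3449

open Cfsg.Agent.Lib.Helper8.A5Spectrum

theorem lhs : Set.range (orderOf : alternatingGroup (Fin 5) × alternatingGroup (Fin 5) × alternatingGroup (Fin 5) → ℕ) =
    {1, 2, 3, 5, 6, 10, 15, 30} := by
  ext n
  simp only [Set.mem_range, Set.mem_insert_iff, Set.mem_singleton_iff]
  constructor
  · rintro ⟨⟨a, b, c⟩, rfl⟩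
    rw [Prod.orderOf_mk, Prod.orderOf_mk]
    rcases a5_orders a with h | h | h | h <;> rcases a5_orders b with h' | h' | h' | h' <;>
      rcases a5_orders c with h'' | h'' | h'' | h'' <;>
      rw [h, h', h''] <;> decide
  · rintro (rfl | rfl | rfl | rfl | rfl | rfl | rfl | rfl)
    · exact ⟨(1, 1, 1), by rw [Prod.orderOf_mk, Prod.orderOf_mk, orderOf_one]; rfl⟩
    · exact ⟨(e2, 1, 1), by rw [Prod.orderOf_mk, Prod.orderOf_mk, orderOf_one, orderOf_e2]; rfl⟩
    · exact ⟨(e3, 1, 1), by rw [Prod.orderOf_mk, Prod.orderOf_mk, orderOf_one, orderOf_e3]; rfl⟩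
    · exact ⟨(e5, 1, 1), by rw [Prod.orderOf_mk, Prod.orderOf_mk, orderOf_one, orderOf_e5]; rfl⟩
    · exact ⟨(e2, e3, 1), by rw [Prod.orderOf_mk, Prod.orderOf_mk, orderOf_one, orderOf_e2, orderOf_e3]; rfl⟩
    · exact ⟨(e2, e5, 1), by rw [Prod.orderOf_mk, Prod.orderOf_mk, orderOf_one, orderOf_e2, orderOf_e5]; rfl⟩
    · exact ⟨(e3, e5, 1), by rw [Prod.orderOf_mk, Prod.orderOf_mk, orderOf_one, orderOf_e3, orderOf_e5]; rfl⟩
    · exact ⟨(e2, e3, e5), by rw [Prod.orderOf_mk, Prod.orderOf_mk, orderOf_e2, orderOf_e3, orderOf_e5]; rfl⟩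

theorem rhs : Set.range (orderOf : Multiplicative (ZMod 30) → ℕ) = {1, 2, 3, 5, 6, 10, 15, 30} := by
  ext n
  simp only [Set.mem_range, Set.mem_insert_iff, Set.mem_singleton_iff]
  constructor
  · rintro ⟨g, rfl⟩
    have h1 : orderOf g ∣ 30 := by
      have := orderOf_dvd_natCard g
      simpa using this
    have h2 : orderOf g ∈ Nat.divisors 30 := Nat.mem_divisors.mpr ⟨h1, by norm_num⟩
    have h3 : Nat.divisors 30 = {1, 2, 3, 5, 6, 10, 15, 30} := by decide
    rw [h3] at h2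
    simpa using h2
  · intro hn
    have key : ∀ k : ℕ, orderOf (Multiplicative.ofAdd ((k : ℕ) : ZMod 30)) = 30 / Nat.gcd 30 k := by
      intro k
      rw [orderOf_ofAdd_eq_addOrderOf]
      exact ZMod.addOrderOf_coe k (by norm_num)
    rcases hn with (rfl | rfl | rfl | rfl | rfl | rfl | rfl | rfl)
    · exact ⟨_, key 0⟩
    · exact ⟨_, key 15⟩
    · exact ⟨_, key 10⟩
    · exact ⟨_, key 6⟩
    · exact ⟨_, key 5⟩
    · exact ⟨_, key 3⟩
    · exact ⟨_, key 2⟩
    · exact ⟨_, key 1⟩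

theorem result : Set.range (orderOf : alternatingGroup (Fin 5) × alternatingGroup (Fin 5) × alternatingGroup (Fin 5) → ℕ) =
      Set.range (orderOf : Multiplicative (ZMod 30) → ℕ) := by
  rw [lhs, rhs]

end Cfsg.Agent.S3449
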