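import Mathlib
import Cfsg.Statements.S3491
import Cfsg.Agent.Lib.Helper8.AffSL2Four

set_option autoImplicit false
open Cfsg

namespace Cfsg.Agent.S3491

open Cfsg.Agent.Lib.Helper8.AffSL2

/-- in a field with 4 elements there is a primitive cube root of unity -/
theorem exists_omega {K : Type*} [Field K] [Finite K] (h4 : Nat.card K = 4) :
    (∀ t : K, t ^ 4 = t) ∧ ∃ ω : K, ω ^ 2 + ω + 1 = 0 := by
  have : Fintype K := Fintype.ofFinite K
  have hK : ∀ t : K, t ^ 4 = t := by
    intro t
    have := FiniteField.pow_card t
    rwa [← Nat.card_eq_fintype_card, h4] at this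
  refine ⟨hK, ?_⟩
  have h2 : 2 < Fintype.card K := by rw [← Nat.card_eq_fintype_card, h4]; norm_num
  obtain ⟨x, hx0, hx1⟩ : ∃ x : K, x ≠ 0 ∧ x ≠ 1 := by
    by_contra hcon
    have hall : ∀ x : K, x = 0 ∨ x = 1 := by
      intro x
      by_contra h
      rw [not_or] at h
      exact hcon ⟨x, h.1, h.2⟩
    obtain ⟨a, b, c, hab, hac, hbc⟩ := Fintype.two_lt_card_iff.1 h2
    rcases hall a with ha | ha <;> rcases hall b with hb | hb <;> rcases hall c with hc | hc <;>
      simp_all
  rcases trichotomy x (hK x) with h | h | h
  · exact absurd h hx0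
  · exact absurd h hx1
  · exact ⟨x, h⟩

/-- The alternating group of degree 6 is not determined by its set of element orders, not even up to finitely many groups: for every bound N there is a finite group of order greater than N with exactly the same set of element orders as the alternating group of degree 6. -/
theorem result (N : ℕ) : ∃ (H : Type) (_ : Group H) (_ : Fintype H), N < Fintype.card H ∧ Set.range (orderOf : H → ℕ) = Set.range (orderOf : alternatingGroup (Fin 6) → ℕ) := by
  have hcard : Nat.card (GaloisField 2 2) = 4 := by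
    rw [GaloisField.card 2 2 (by norm_num)]
    norm_num
  obtain ⟨hK, ω, hω⟩ := exists_omega hcard
  have hfin : Finite (Aff (GaloisField 2 2) (N + 1)) := inferInstance
  refine ⟨Aff (GaloisField 2 2) (N + 1), inferInstance, Fintype.ofFinite _, ?_, ?_⟩
  · rw [Fintype.card_eq_nat_card]
    have := lt_card (K := GaloisField 2 2) (N + 1)
    omega
  · rw [range_orderOf hK ω hω (by omega), range_orderOf_a6]

end Cfsg.Agent.S3491
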