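import Mathlib
import Cfsg.Statements.S3488
import Cfsg.Agent.S3491

set_option autoImplicit false
open Cfsg

namespace Cfsg.Agent.S3488

open Cfsg.Agent.Lib.Helper8.AffSL2 Matrix

theorem charP_two_of_card {F : Type*} [Field F] [Fintype F] (hF : Fintype.card F = 4) :
    CharP F 2 := by
  obtain ⟨p, hp⟩ := CharP.exists F
  obtain ⟨n, hpp, hn⟩ := FiniteField.card F p
  have h1 : p ∣ 2 ^ 2 := by
    have : p ∣ p ^ (n : ℕ) := dvd_pow_self p n.ne_zero
    rw [← hn, hF] at this
    exact this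
  have h2 : p = 2 := (Nat.prime_dvd_prime_iff_eq hpp Nat.prime_two).1 (hpp.dvd_of_dvd_pow h1)
  rw [← h2]
  exact hp

variable {F : Type*} [Field F]

/-- the `3 × 3` matrix of an affine map -/
def mat (g : Aff F 1) : Matrix (Fin 3) (Fin 3) F :=
  !![(g.A : Matrix (Fin 2) (Fin 2) F) 0 0, (g.A : Matrix (Fin 2) (Fin 2) F) 0 1, g.B 0 0;
     (g.A : Matrix (Fin 2) (Fin 2) F) 1 0, (g.A : Matrix (Fin 2) (Fin 2) F) 1 1, g.B 1 0;
     0, 0, 1]

theorem det_mat (g : Aff F 1) : (mat g).det = 1 := by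
  have hdet : (g.A : Matrix (Fin 2) (Fin 2) F) 0 0 * (g.A : Matrix (Fin 2) (Fin 2) F) 1 1 -
      (g.A : Matrix (Fin 2) (Fin 2) F) 0 1 * (g.A : Matrix (Fin 2) (Fin 2) F) 1 0 = 1 := by
    rw [← Matrix.det_fin_two]
    exact g.A.2
  rw [Matrix.det_fin_three]
  simp only [mat, Matrix.of_apply, Matrix.cons_val', Matrix.cons_val_zero, Matrix.cons_val_one,
    Matrix.cons_val_two, Matrix.empty_val', Matrix.cons_val_fin_one, Matrix.head_cons,
    Matrix.tail_cons, Matrix.head_fin_const]
  linear_combination hdet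

theorem mat_mul (g h : Aff F 1) : mat (g * h) = mat g * mat h := by
  ext i j
  fin_cases i <;> fin_cases j <;>
    simp [mat, Matrix.mul_apply, Fin.sum_univ_three, Fin.sum_univ_two, Matrix.SpecialLinearGroup.coe_mul,
      Matrix.add_apply]

theorem mat_one : mat (1 : Aff F 1) = 1 := by
  ext i j
  fin_cases i <;> fin_cases j <;> simp [mat]

/-- the embedding of the affine group into `SL₃` -/
def Ψ : Aff F 1 →* SpecialLinearGroup (Fin 3) F where
  toFun g := ⟨mat g, det_mat g⟩
  map_one' := Subtype.ext mat_one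
  map_mul' g h := Subtype.ext (mat_mul g h)

theorem Ψ_coe (g : Aff F 1) :
    ((Ψ g : SpecialLinearGroup (Fin 3) F) : Matrix (Fin 3) (Fin 3) F) = mat g := rfl

theorem Ψ_injective : Function.Injective (Ψ : Aff F 1 →* SpecialLinearGroup (Fin 3) F) := by
  intro g h hgh
  have hm : mat g = mat h := congrArg Subtype.val hgh
  have e := fun i j => congrFun (congrFun hm i) j
  apply Aff.ext
  · ext i j
    fin_cases i <;> fin_cases j
    · simpa [mat] using e 0 0
    · simpa [mat] using e 0 1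
    · simpa [mat] using e 1 0
    · simpa [mat] using e 1 1
  · ext i j
    have hj : j = 0 := Subsingleton.elim _ _
    subst hj
    fin_cases i
    · simpa [mat] using e 0 2
    · simpa [mat] using e 1 2

theorem range_Ψ : ((Ψ : Aff F 1 →* SpecialLinearGroup (Fin 3) F).range : Set (SpecialLinearGroup (Fin 3) F)) =
    {M : Matrix.SpecialLinearGroup (Fin 3) F |
        (M : Matrix (Fin 3) (Fin 3) F) 2 0 = 0 ∧ (M : Matrix (Fin 3) (Fin 3) F) 2 1 = 0 ∧
        (M : Matrix (Fin 3) (Fin 3) F) 2 2 = 1} := by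
  ext M
  constructor
  · rintro ⟨g, rfl⟩
    refine ⟨?_, ?_, ?_⟩ <;> rw [Ψ_coe] <;> simp [mat]
  · rintro ⟨h0, h1, h2⟩
    have hdet : (M : Matrix (Fin 3) (Fin 3) F).det = 1 := M.2
    rw [Matrix.det_fin_three, h0, h1, h2] at hdet
    refine ⟨⟨⟨!![(M : Matrix (Fin 3) (Fin 3) F) 0 0, (M : Matrix (Fin 3) (Fin 3) F) 0 1;
                 (M : Matrix (Fin 3) (Fin 3) F) 1 0, (M : Matrix (Fin 3) (Fin 3) F) 1 1], ?_⟩,
              Matrix.of fun i _ => (M : Matrix (Fin 3) (Fin 3) F) (Fin.castSucc i) 2⟩, ?_⟩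
    · rw [Matrix.det_fin_two]
      simp only [Matrix.of_apply, Matrix.cons_val', Matrix.cons_val_zero, Matrix.cons_val_one,
        Matrix.empty_val', Matrix.cons_val_fin_one]
      linear_combination hdet
    · apply Subtype.ext
      rw [Ψ_coe]
      ext i j
      fin_cases i <;> fin_cases j <;> simp [mat, h0, h1, h2]

/-- Let F be the field with four elements. The affine group F² ⋊ SL(2,F), realised as the subgroup of SL(3,F) of matrices with last row (0, 0, 1), has exactly the same set of element orders as the alternating group of degree 6 (namely {1, 2, 3, 4, 5}); so the alternating group of degree 6 is not determined by its element orders. -/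
theorem result {F : Type*} [Field F] [Fintype F] (hF : Fintype.card F = 4) :
    Set.range (orderOf : Subgroup.closure {M : Matrix.SpecialLinearGroup (Fin 3) F |
        (M : Matrix (Fin 3) (Fin 3) F) 2 0 = 0 ∧ (M : Matrix (Fin 3) (Fin 3) F) 2 1 = 0 ∧ (M : Matrix (Fin 3) (Fin 3) F) 2 2 = 1} → ℕ) =
      Set.range (orderOf : alternatingGroup (Fin 6) → ℕ) := by
  have hchar : CharP F 2 := charP_two_of_card hF
  have hcard : Nat.card F = 4 := by rw [Nat.card_eq_fintype_card, hF]
  obtain ⟨hK, ω, hω⟩ := Cfsg.Agent.S3491.exists_omega hcard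
  rw [range_orderOf_a6, ← range_orderOf (k := 1) hK ω hω le_rfl, ← range_Ψ, Subgroup.closure_eq]
  apply Set.Subset.antisymm
  · rintro _ ⟨⟨_, ⟨g, rfl⟩⟩, rfl⟩
    refine ⟨g, ?_⟩
    rw [← Subgroup.orderOf_coe]
    exact (orderOf_injective Ψ Ψ_injective g).symm
  · rintro _ ⟨g, rfl⟩
    refine ⟨⟨Ψ g, ⟨g, rfl⟩⟩, ?_⟩
    rw [← Subgroup.orderOf_coe]
    exact orderOf_injective Ψ Ψ_injective g

end Cfsg.Agent.S3488
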