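import Cfsg.Statements.S3489
import Cfsg.Agent.Lib.Lead.A10Spec.Fam
import Cfsg.Agent.Lib.Lead.A10Spec.Alt

set_option autoImplicit false
open Cfsg

namespace Cfsg.Agent.S3489

open Cfsg.Agent.A10Spec

theorem spec_eq : (specF : Set ℕ) = (specF' : Set ℕ) := rfl

/-- The alternating group of degree 10 is not determined by its set of element orders, not even up to finitely many groups: for every bound N there is a finite group of order greater than N with exactly the same set of element orders as the alternating group of degree 10. -/
theorem result (N : ℕ) : ∃ (H : Type) (_ : Group H) (_ : Fintype H), N < Fintype.card H ∧ Set.range (orderOf : H → ℕ) = Set.range (orderOf : alternatingGroup (Fin 10) → ℕ) := by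
  refine ⟨↥(HH (Fin (N + 1))), inferInstance, Fintype.ofFinite _, ?_, ?_⟩
  · rw [Fintype.card_eq_nat_card]
    have h1 := card_HH_ge (ι := Fin (N + 1))
    rw [Nat.card_fin] at h1
    have h2 : N < 21 ^ (N + 1) :=
      lt_of_lt_of_le (Nat.lt_succ_self N) (Nat.lt_pow_self (by norm_num)).le
    exact lt_of_lt_of_le h2 h1
  · rw [range_orderOf_HH, range_orderOf_alt, spec_eq]

end Cfsg.Agent.S3489
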