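import Mathlib
import Cfsg.Statements.S3494

set_option autoImplicit false
open Cfsg

namespace Cfsg.Agent.S3494

open MulAction
open scoped Pointwise

/-- kernel of the action of `G_a` on the orbit `G_a • b`, as a subgroup of `G`. -/
def ker (G : Type*) [Group G] {Ω : Type*} [MulAction G Ω] (a b : Ω) : Subgroup G where
  carrier := {k | k • a = a ∧ ∀ u : G, u • a = a → k • (u • b) = u • b}
  mul_mem' := by
    rintro x y ⟨hx, hx'⟩ ⟨hy, hy'⟩
    exact ⟨by rw [mul_smul, hy, hx], fun u hu => by rw [mul_smul, hy' u hu, hx' u hu]⟩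
  one_mem' := ⟨one_smul _ _, fun u _ => one_smul _ _⟩
  inv_mem' := by
    rintro x ⟨hx, hx'⟩
    exact ⟨by rw [inv_smul_eq_iff, hx], fun u hu => by rw [inv_smul_eq_iff, hx' u hu]⟩

section
variable {G : Type*} [Group G] {Ω : Type*} [MulAction G Ω]

theorem mem_ker {a b : Ω} {k : G} :
    k ∈ ker G a b ↔ k • a = a ∧ ∀ u : G, u • a = a → k • (u • b) = u • b := Iff.rfl

theorem ker_le_stab (a b : Ω) : ker G a b ≤ stabilizer G a := fun _ hk => hk.1

theorem ker_fix {a b : Ω} {k : G} (hk : k ∈ ker G a b) : k • b = b := by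
  simpa using hk.2 1 (one_smul _ _)

theorem conj_mem_ker {a b : Ω} {k u : G} (hk : k ∈ ker G a b) (hu : u • a = a) :
    u * k * u⁻¹ ∈ ker G a b := by
  have hu' : u⁻¹ • a = a := by rw [inv_smul_eq_iff, hu]
  refine ⟨by rw [mul_smul, mul_smul, hu', hk.1, hu], fun v hv => ?_⟩
  have h1 : (u⁻¹ * v) • a = a := by rw [mul_smul, hv, hu']
  have h2 := hk.2 (u⁻¹ * v) h1
  rw [mul_smul, mul_smul, ← mul_smul u⁻¹ v b, h2, mul_smul, smul_inv_smul]

theorem stab_le_normalizer_ker (a b : Ω) :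
    stabilizer G a ≤ Subgroup.normalizer (ker G a b : Set G) := by
  intro u hu
  rw [Subgroup.mem_normalizer_iff]
  intro k
  refine ⟨fun hk => conj_mem_ker hk hu, fun hk => ?_⟩
  have hu' : u⁻¹ • a = a := by rw [inv_smul_eq_iff]; exact hu.symm
  have := conj_mem_ker hk hu'
  simpa [mul_assoc] using this

theorem eq_bot_of_normal_fix [IsPretransitive G Ω] [FaithfulSMul G Ω] (K : Subgroup G)
    (hK : K.Normal) (a : Ω) (hKa : K ≤ stabilizer G a) : K = ⊥ := by
  rw [Subgroup.eq_bot_iff_forall]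
  intro k hk
  apply FaithfulSMul.eq_of_smul_eq_smul (α := Ω)
  intro x
  obtain ⟨g, rfl⟩ := exists_smul_eq G a x
  have h1 : g⁻¹ * k * g ∈ K := by simpa using hK.conj_mem k hk g⁻¹
  have h2 := hKa h1
  rw [mem_stabilizer_iff, mul_smul, mul_smul, inv_smul_eq_iff] at h2
  rw [h2, one_smul]

theorem eq_of_stab_le [Finite G] [IsPretransitive G Ω] [FaithfulSMul G Ω] {a b : Ω}
    (hco : IsCoatom (stabilizer G a)) (hne : stabilizer G a ≠ ⊥)
    (hle : stabilizer G b ≤ stabilizer G a) : b = a := by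
  obtain ⟨g, rfl⟩ := exists_smul_eq G a b
  have hcard : Nat.card (stabilizer G (g • a)) = Nat.card (stabilizer G a) := by
    rw [stabilizer_smul_eq_stabilizer_map_conj]
    exact Subgroup.card_map_of_injective (MulAut.conj g).injective
  have heq : stabilizer G (g • a) = stabilizer G a :=
    Subgroup.eq_of_le_of_card_ge hle (by rw [hcard])
  have hgN : g ∈ Subgroup.normalizer (stabilizer G a : Set G) := by
    rw [Subgroup.mem_normalizer_iff]
    intro h
    have h0 : g * h * g⁻¹ ∈ stabilizer G a ↔ g * h * g⁻¹ ∈ stabilizer G (g • a) := by rw [heq]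
    rw [h0, mem_stabilizer_iff, mem_stabilizer_iff, mul_smul, mul_smul, inv_smul_smul,
      smul_left_cancel_iff]
  rcases hco.le_iff.1 (Subgroup.le_normalizer) with h | h
  · exact absurd (eq_bot_of_normal_fix _ (Subgroup.normalizer_eq_top_iff.1 h) a le_rfl) hne
  · rw [h] at hgN
    exact hgN

theorem eq_bot_of_normalized [Finite G] [IsPretransitive G Ω] [FaithfulSMul G Ω] {a b : Ω}
    (hab : b ≠ a) (hco : IsCoatom (stabilizer G a)) (hne : stabilizer G a ≠ ⊥)
    (K : Subgroup G) (hKa : K ≤ stabilizer G a)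
    (hna : stabilizer G a ≤ Subgroup.normalizer (K : Set G))
    (hnb : stabilizer G b ≤ Subgroup.normalizer (K : Set G)) : K = ⊥ := by
  rcases hco.le_iff.1 hna with h | h
  · exact eq_bot_of_normal_fix K (Subgroup.normalizer_eq_top_iff.1 h) a hKa
  · rw [h] at hnb
    exact absurd (eq_of_stab_le hco hne hnb) hab

end

theorem main {G : Type*} [Group G] [Finite G] {Ω : Type*} [Fintype Ω] [MulAction G Ω]
    [FaithfulSMul G Ω] (hprim : IsPreprimitive G Ω) (hH : ∀ a : Ω, stabilizer G a ≠ ⊥)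
    (hep : ∀ a w : Ω, IsPreprimitive (stabilizer G a) (orbit (stabilizer G a) w))
    (α β : Ω) (hαβ : β ≠ α)
    (hmax : ∀ a b : Ω, b ≠ a → Nat.card (ker G a b) ≤ Nat.card (ker G α β)) :
    ker G α β = ⊥ := by
  by_contra hK
  have : Nontrivial Ω := ⟨⟨β, α, hαβ⟩⟩
  have hpt : IsPretransitive G Ω := hprim.toIsPretransitive
  have hcoα : IsCoatom (stabilizer G α) :=
    IsPreprimitive.isCoatom_stabilizer_of_isPreprimitive G α
  -- Step 2
  have step2 : ∃ h₀ : G, h₀ • β = β ∧ ∃ k₀ ∈ ker G α β, k₀ • (h₀ • α) ≠ h₀ • α := by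
    by_contra hno
    have hle : ker G α β ≤ ker G β α := fun k hk =>
      ⟨ker_fix hk, fun u hu => by
        by_contra hne
        exact hno ⟨u, hu, k, hk, hne⟩⟩
    have heq : ker G α β = ker G β α :=
      Subgroup.eq_of_le_of_card_ge hle (hmax β α hαβ.symm)
    apply hK
    apply eq_bot_of_normalized hαβ hcoα (hH α) _ (ker_le_stab α β)
    · exact stab_le_normalizer_ker α β
    · rw [heq]; exact stab_le_normalizer_ker β α
  obtain ⟨h₀, hh₀, k₀, hk₀, hmove⟩ := step2
  have hh₀' : h₀⁻¹ • β = β := by rw [inv_smul_eq_iff, hh₀]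
  -- Step 4: K is transitive on the G_α-orbit of γ = h₀ • α
  have step4 : ∀ u : G, u • α = α → ∃ k ∈ ker G α β, k • (h₀ • α) = u • (h₀ • α) := by
    intro u hu
    have hN : ((ker G α β).subgroupOf (stabilizer G α)).Normal := by
      rw [Subgroup.normal_subgroupOf_iff_le_normalizer (ker_le_stab α β)]
      exact stab_le_normalizer_ker α β
    have hprimγ := hep α (h₀ • α)
    have hfp : fixedPoints ((ker G α β).subgroupOf (stabilizer G α))
        (orbit (stabilizer G α) (h₀ • α)) ≠ Set.univ := by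
      intro hfp
      have hmem : (⟨h₀ • α, mem_orbit_self _⟩ : orbit (stabilizer G α) (h₀ • α)) ∈
          fixedPoints ((ker G α β).subgroupOf (stabilizer G α))
            (orbit (stabilizer G α) (h₀ • α)) := by
        rw [hfp]; exact Set.mem_univ _
      have h1 := hmem ⟨⟨k₀, ker_le_stab α β hk₀⟩, by
        rw [Subgroup.mem_subgroupOf]; exact hk₀⟩
      apply hmove
      have h2 := congrArg Subtype.val h1
      exact h2
    have hpre : IsPretransitive ((ker G α β).subgroupOf (stabilizer G α))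
        (orbit (stabilizer G α) (h₀ • α)) :=
      IsQuasiPreprimitive.isPretransitive_of_normal hfp
    obtain ⟨n, hn⟩ := hpre.exists_smul_eq
      (⟨h₀ • α, mem_orbit_self _⟩ : orbit (stabilizer G α) (h₀ • α))
      ⟨u • (h₀ • α), ⟨⟨u, hu⟩, rfl⟩⟩
    refine ⟨((n : stabilizer G α) : G), ?_, ?_⟩
    · have := n.2
      rwa [Subgroup.mem_subgroupOf] at this
    · exact congrArg Subtype.val hn
  -- Step 6
  have step6 : ∀ u : G, u • α = α → ∃ v : G, v • α = α ∧ u • β = h₀ • (v • β) := by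
    intro u hu
    have hu' : u⁻¹ • α = α := by rw [inv_smul_eq_iff, hu]
    obtain ⟨k, hk, hkγ⟩ := step4 u⁻¹ hu'
    refine ⟨h₀⁻¹ * u * k * h₀, ?_, ?_⟩
    · rw [mul_smul, mul_smul, mul_smul, hkγ, smul_inv_smul, inv_smul_smul]
    · rw [mul_smul, mul_smul, mul_smul, hh₀, ker_fix hk, smul_inv_smul]
  -- Step 7
  have hΓfin : (orbit (stabilizer G α) β : Set Ω).Finite := Set.toFinite _
  have hΓ : ∀ x : Ω, x ∈ orbit (stabilizer G α) β ↔ ∃ u : G, u • α = α ∧ x = u • β := by
    intro x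
    constructor
    · rintro ⟨⟨u, hu⟩, rfl⟩
      exact ⟨u, hu, rfl⟩
    · rintro ⟨u, hu, rfl⟩
      exact ⟨⟨u, hu⟩, rfl⟩
  have hh₀S : h₀ ∈ stabilizer G (orbit (stabilizer G α) β : Set Ω) := by
    rw [mem_stabilizer_set_iff_subset_smul_set hΓfin]
    intro x hx
    obtain ⟨u, hu, rfl⟩ := (hΓ x).1 hx
    obtain ⟨v, hv, hv'⟩ := step6 u hu
    rw [hv']
    exact Set.smul_mem_smul_set ((hΓ _).2 ⟨v, hv, rfl⟩)
  have hαS : stabilizer G α ≤ stabilizer G (orbit (stabilizer G α) β : Set Ω) := by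
    intro u hu
    rw [mem_stabilizer_set_iff_subset_smul_set hΓfin]
    intro x hx
    obtain ⟨v, hv, rfl⟩ := (hΓ x).1 hx
    have : v • β = u • ((u⁻¹ * v) • β) := by rw [mul_smul, smul_inv_smul]
    rw [this]
    refine Set.smul_mem_smul_set ((hΓ _).2 ⟨u⁻¹ * v, ?_, rfl⟩)
    have hu' : u⁻¹ • α = α := by rw [inv_smul_eq_iff]; exact hu.symm
    rw [mul_smul, hv, hu']
  have hh₀α : h₀ ∉ stabilizer G α := by
    intro h
    apply hmove
    rw [mem_stabilizer_iff.1 h]
    exact (ker_le_stab α β hk₀)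
  have htop : stabilizer G (orbit (stabilizer G α) β : Set Ω) = ⊤ := by
    rcases hcoα.le_iff.1 hαS with h | h
    · exact h
    · rw [h] at hh₀S; exact absurd hh₀S hh₀α
  obtain ⟨g, hg⟩ := exists_smul_eq G β α
  have hgS : g ∈ stabilizer G (orbit (stabilizer G α) β : Set Ω) := by rw [htop]; trivial
  have hαΓ : α ∈ (orbit (stabilizer G α) β : Set Ω) := by
    have h1 : g • β ∈ g • (orbit (stabilizer G α) β : Set Ω) :=
      Set.smul_mem_smul_set (mem_orbit_self _)
    rw [mem_stabilizer_iff.1 hgS, hg] at h1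
    exact h1
  obtain ⟨u, hu, hαu⟩ := (hΓ α).1 hαΓ
  apply hαβ
  have : u⁻¹ • α = β := by rw [inv_smul_eq_iff]; exact hαu
  rw [← this, inv_smul_eq_iff, hu]

/-- Manning's Theorem on extremely primitive groups. Let a finite group G act faithfully and primitively on a finite set Ω with non-trivial point stabilizers, and suppose every point stabilizer G_α acts primitively on each of its orbits. Then G_α acts faithfully on each of its orbits other than {α}: an element of G_α fixing every point of one such orbit is the identity. -/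
theorem result {G : Type*} [Group G] [Finite G] {Ω : Type*} [Fintype Ω] [MulAction G Ω] [FaithfulSMul G Ω] (hprim : MulAction.IsPreprimitive G Ω) (hH : ∀ α : Ω, MulAction.stabilizer G α ≠ ⊥) (hep : ∀ (α : Ω) (ω : Ω), MulAction.IsPreprimitive (MulAction.stabilizer G α) (MulAction.orbit (MulAction.stabilizer G α) ω))
    (α ω : Ω) (hω : ω ≠ α) (h : MulAction.stabilizer G α) (hfix : ∀ x ∈ MulAction.orbit (MulAction.stabilizer G α) ω, h • x = x) : h = 1 := by
  have hne : Nonempty {p : Ω × Ω // p.2 ≠ p.1} := ⟨⟨(α, ω), hω⟩⟩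
  obtain ⟨⟨⟨a, b⟩, hab⟩, hmax⟩ := Finite.exists_max
    (fun p : {p : Ω × Ω // p.2 ≠ p.1} => Nat.card (ker G p.1.1 p.1.2))
  have hbot := main hprim hH hep a b hab (fun a' b' hab' => hmax ⟨(a', b'), hab'⟩)
  have hle := hmax ⟨(α, ω), hω⟩
  simp only [hbot, Subgroup.card_bot] at hle
  have hker : ker G α ω = ⊥ := Subgroup.eq_bot_of_card_le _ hle
  have hmem : (h : G) ∈ ker G α ω := by
    refine ⟨h.2, fun u hu => ?_⟩
    exact hfix (u • ω) ⟨⟨u, hu⟩, rfl⟩
  rw [hker, Subgroup.mem_bot] at hmem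
  exact Subtype.ext hmem

end Cfsg.Agent.S3494
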