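import Mathlib
import Cfsg.Statements.S3495

set_option autoImplicit false
open Cfsg

namespace Cfsg.Agent.S3495

open MulAction

section
variable {G : Type*} [Group G] {Ω : Type*} [MulAction G Ω]

/-- regularity of `N`: elements of `N` agreeing on a point are equal. -/
theorem reg (N : Subgroup G) (hNreg : ∀ ω : Ω, MulAction.stabilizer N ω = ⊥) (n n' : G) (hn : n ∈ N)
    (hn' : n' ∈ N) (ω : Ω) (h : n • ω = n' • ω) : n = n' := by
  have h1 : (⟨n'⁻¹ * n, N.mul_mem (N.inv_mem hn') hn⟩ : N) ∈ MulAction.stabilizer N ω := by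
    rw [mem_stabilizer_iff]
    show (n'⁻¹ * n) • ω = ω
    rw [mul_smul, h, inv_smul_smul]
  rw [hNreg, Subgroup.mem_bot] at h1
  have h2 : n'⁻¹ * n = 1 := congrArg Subtype.val h1
  calc n = n' * (n'⁻¹ * n) := by group
    _ = n' := by rw [h2, mul_one]

/-- Irreducibility: a subgroup of the regular normal subgroup `N` normalized by a point stabilizer
is trivial or everything (for a primitive action). -/
theorem irred [IsPreprimitive G Ω] (N : Subgroup G) [N.Normal] (hNc : ∀ a ∈ N, ∀ b ∈ N, a * b = b * a)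
    (hNtr : MulAction.IsPretransitive N Ω) (hNreg : ∀ ω : Ω, MulAction.stabilizer N ω = ⊥)
    (α : Ω) (L : Subgroup G) (hLN : L ≤ N)
    (hL : ∀ h ∈ stabilizer G α, ∀ l ∈ L, h * l * h⁻¹ ∈ L) : L = ⊥ ∨ L = N := by
  -- L is normal in G
  have hLn : L.Normal := by
    constructor
    intro l hl g
    obtain ⟨n, hn⟩ := exists_smul_eq N α (g • α)
    have hn' : (n : G) • α = g • α := hn
    have hh : (n : G)⁻¹ * g ∈ stabilizer G α := by
      rw [mem_stabilizer_iff, mul_smul, ← hn', inv_smul_smul]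
    have h1 := hL _ hh l hl
    have h2 : (n : G) * (((n : G)⁻¹ * g) * l * ((n : G)⁻¹ * g)⁻¹) * (n : G)⁻¹ = g * l * g⁻¹ := by group
    rw [← h2]
    have h3 := hNc n n.2 _ (hLN h1)
    rw [h3, mul_inv_cancel_right]
    exact h1
  have hblock : IsBlock G (orbit L α) := IsBlock.orbit_of_normal α
  rcases hblock.subsingleton_or_eq_univ with hs | hu
  · left
    rw [eq_bot_iff]
    intro l hl
    rw [Subgroup.mem_bot]
    have h1 : l • α = α := hs ⟨⟨l, hl⟩, rfl⟩ (mem_orbit_self α)
    apply reg N hNreg l 1 (hLN hl) N.one_mem α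
    rw [h1, one_smul]
  · right
    apply le_antisymm hLN
    intro n hn
    have : n • α ∈ orbit L α := by rw [hu]; exact Set.mem_univ _
    obtain ⟨l, hl⟩ := this
    have hl' : (l : G) • α = n • α := hl
    have := reg N hNreg (l : G) n (hLN l.2) hn α hl'
    rw [← this]; exact l.2

end

theorem result {G : Type*} [Group G] [Finite G] {Ω : Type*} [Fintype Ω] [MulAction G Ω] [FaithfulSMul G Ω] (hprim : MulAction.IsPreprimitive G Ω) (hH : ∀ α : Ω, MulAction.stabilizer G α ≠ ⊥) (hep : ∀ (α : Ω) (ω : Ω), MulAction.IsPreprimitive (MulAction.stabilizer G α) (MulAction.orbit (MulAction.stabilizer G α) ω))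
    (N : Subgroup G) [N.Normal] (hNc : IsMulCommutative N) (p : ℕ) (hp : p.Prime) (hNp : ∀ n ∈ N, n ^ p = 1)
    (hNtr : MulAction.IsPretransitive N Ω) (hNreg : ∀ ω : Ω, MulAction.stabilizer N ω = ⊥) (α : Ω) (M : Subgroup G) (hM : M ≠ ⊥) (hMle : M ≤ MulAction.stabilizer G α)
    (hMn : MulAction.stabilizer G α ≤ Subgroup.normalizer (M : Set G)) :
    (∀ ω : Ω, MulAction.orbit M ω = MulAction.orbit (MulAction.stabilizer G α) ω) ∧
    (∀ L : Subgroup G, L ≤ N → M ≤ Subgroup.normalizer (L : Set G) → L = ⊥ ∨ L = N) := by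
  have hNc' : ∀ a ∈ N, ∀ b ∈ N, a * b = b * a := by
    intro a ha b hb
    exact congrArg Subtype.val (hNc.is_comm.comm ⟨a, ha⟩ ⟨b, hb⟩)
  set Ga := stabilizer G α with hGa
  have hMα : ∀ m ∈ M, m • α = α := fun m hm => hMle hm
  -- conjugation by Ga preserves M
  have hMconj : ∀ h ∈ Ga, ∀ m ∈ M, h⁻¹ * m * h ∈ M := by
    intro h hh m hm
    have := (Subgroup.mem_normalizer_iff.mp (hMn (Ga.inv_mem hh)) m).mp hm
    simpa using this
  -- (A) the only fixed point of M is α
  have hfixM : ∀ ω : Ω, (∀ m ∈ M, m • ω = ω) → ω = α := by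
    intro ω hω
    obtain ⟨n, hn⟩ := exists_smul_eq N α ω
    have hn' : (n : G) • α = ω := hn
    let F : Subgroup G := N ⊓ Subgroup.centralizer (M : Set G)
    have hF : F = ⊥ ∨ F = N := by
      apply irred N hNc' hNtr hNreg α F inf_le_left
      intro h hh l hl
      have hl' := Subgroup.mem_inf.mp hl
      refine Subgroup.mem_inf.mpr ⟨Subgroup.Normal.conj_mem inferInstance l hl'.1 h, ?_⟩
      rw [Subgroup.mem_centralizer_iff]
      intro m hm
      have h1 := Subgroup.mem_centralizer_iff.mp hl'.2 _ (hMconj h hh m hm)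
      calc m * (h * l * h⁻¹) = h * ((h⁻¹ * m * h) * l) * h⁻¹ := by group
        _ = h * (l * (h⁻¹ * m * h)) * h⁻¹ := by rw [h1]
        _ = h * l * h⁻¹ * m := by group
    have hnF : (n : G) ∈ F := by
      refine Subgroup.mem_inf.mpr ⟨n.2, ?_⟩
      rw [Subgroup.mem_centralizer_iff]
      intro m hm
      -- m n m⁻¹ = n by regularity
      have h1 : (m * (n : G) * m⁻¹) • α = (n : G) • α := by
        have hminv : m⁻¹ • α = α := by rw [inv_smul_eq_iff, hMα m hm]
        rw [mul_smul, mul_smul, hminv, hn', hω m hm]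
      have h2 := reg N hNreg _ _ (Subgroup.Normal.conj_mem inferInstance (n : G) n.2 m) n.2 α h1
      calc m * (n : G) = (m * (n : G) * m⁻¹) * m := by group
        _ = (n : G) * m := by rw [h2]
    rcases hF with hF | hF
    · rw [hF, Subgroup.mem_bot] at hnF
      rw [← hn', hnF, one_smul]
    · exfalso
      apply hM
      rw [eq_bot_iff]
      intro m hm
      rw [Subgroup.mem_bot]
      apply FaithfulSMul.eq_of_smul_eq_smul (α := Ω)
      intro ω'
      obtain ⟨n', hn''⟩ := exists_smul_eq N α ω'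
      have hn3 : (n' : G) • α = ω' := hn''
      have hn'F : (n' : G) ∈ F := by rw [hF]; exact n'.2
      have hc := Subgroup.mem_centralizer_iff.mp (Subgroup.mem_inf.mp hn'F).2 m hm
      rw [one_smul, ← hn3, ← mul_smul, hc, mul_smul, hMα m hm]
  -- (B) orbits
  have horb : ∀ ω : Ω, MulAction.orbit M ω = MulAction.orbit Ga ω := by
    intro ω
    apply Set.Subset.antisymm
    · rintro _ ⟨m, rfl⟩
      exact ⟨⟨m, hMle m.2⟩, rfl⟩
    · have hprimω := hep α ω
      let M' : Subgroup Ga := M.subgroupOf Ga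
      have hM'n : M'.Normal := (Subgroup.normal_subgroupOf_iff_le_normalizer hMle).mpr hMn
      by_cases hfp : fixedPoints M' (orbit Ga ω) = Set.univ
      · -- M fixes ω, so ω = α
        have hωfix : ∀ m ∈ M, m • ω = ω := by
          intro m hm
          have h1 : (⟨ω, mem_orbit_self ω⟩ : orbit Ga ω) ∈ fixedPoints M' (orbit Ga ω) := by
            rw [hfp]; exact Set.mem_univ _
          have h2 := h1 ⟨⟨m, hMle hm⟩, by simpa [M', Subgroup.mem_subgroupOf] using hm⟩
          exact congrArg Subtype.val h2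
        have hωα := hfixM ω hωfix
        subst hωα
        rintro _ ⟨h, rfl⟩
        have : (h : G) • ω = ω := h.2
        show (h : G) • ω ∈ orbit M ω
        rw [this]
        exact mem_orbit_self ω
      · have htrans : IsPretransitive M' (orbit Ga ω) :=
          IsQuasiPreprimitive.isPretransitive_of_normal hfp
        intro δ hδ
        obtain ⟨m, hm⟩ := htrans.exists_smul_eq ⟨ω, mem_orbit_self ω⟩ ⟨δ, hδ⟩
        have hm' : ((m : Ga) : G) • ω = δ := congrArg Subtype.val hm
        have hmM : ((m : Ga) : G) ∈ M := Subgroup.mem_subgroupOf.mp m.2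
        exact ⟨⟨((m : Ga) : G), hmM⟩, hm'⟩
  refine ⟨horb, ?_⟩
  -- (C)
  intro L hLN hML
  apply irred N hNc' hNtr hNreg α L hLN
  intro h hh l hl
  -- h l α ∈ orbit Ga (l α) = orbit M (l α)
  have h1 : h • l • α ∈ orbit M (l • α) := by
    rw [horb]; exact ⟨⟨h, hh⟩, rfl⟩
  obtain ⟨m, hm⟩ := h1
  have hm' : (m : G) • l • α = h • l • α := hm
  have h2 : (m : G) * l * (m : G)⁻¹ ∈ L := (Subgroup.mem_normalizer_iff.mp (hML m.2) l).mp hl
  have hminv : (m : G)⁻¹ • α = α := by rw [inv_smul_eq_iff, hMα m m.2]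
  have hhinv : h⁻¹ • α = α := by rw [inv_smul_eq_iff]; exact hh.symm
  have h3 : (h * l * h⁻¹) • α = ((m : G) * l * (m : G)⁻¹) • α := by
    rw [mul_smul, mul_smul, hhinv, mul_smul, mul_smul, hminv, hm']
  have h4 := reg N hNreg _ _ (Subgroup.Normal.conj_mem inferInstance l (hLN hl) h) (hLN h2) α h3
  rw [h4]; exact h2

end Cfsg.Agent.S3495
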