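import Mathlib
import Cfsg.Statements.S3498

set_option autoImplicit false
open Cfsg

namespace Cfsg.Agent.S3498

open Subgroup MulAction
open scoped Pointwise

/-- A nonabelian simple group is not a `q`-group. -/
theorem not_pgroup {T : Type*} [Group T] [Finite T] (hT : IsSimpleGroup T)
    (hTc : ¬ IsMulCommutative T) (q : ℕ) [Fact q.Prime] (h : IsPGroup q T) : False := by
  have hnt : Nontrivial (Subgroup.center T) := h.center_nontrivial
  have hne : Subgroup.center T ≠ ⊥ := (Subgroup.nontrivial_iff_ne_bot _).mp hnt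
  have := (hT.eq_bot_or_eq_top_of_normal (Subgroup.center T) inferInstance).resolve_left hne
  exact hTc (Subgroup.center_eq_top_iff.mp this)

/-- Normal subgroups of an almost simple group are trivial or contain the socle. -/
theorem normal_cases {G : Type*} [Group G] (T : Subgroup G) [T.Normal] (hT : IsSimpleGroup T)
    (hC : Subgroup.centralizer (T : Set G) = ⊥) (N : Subgroup G) (hN : N.Normal) :
    N = ⊥ ∨ T ≤ N := by
  have hn : (N.subgroupOf T).Normal := hN.subgroupOf T
  rcases hT.eq_bot_or_eq_top_of_normal _ hn with h | h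
  · left
    rw [Subgroup.subgroupOf_eq_bot] at h
    rw [eq_bot_iff, ← hC]
    intro x hx
    rw [Subgroup.mem_centralizer_iff]
    intro t ht
    exact (Subgroup.commute_of_normal_of_disjoint N T hN inferInstance h x t hx ht).symm.eq
  · right
    exact Subgroup.subgroupOf_eq_top.mp h

theorem result {G : Type*} [Group G] [Finite G] (T : Subgroup G) [T.Normal] (hT : IsSimpleGroup T) (hTc : ¬ IsMulCommutative T)
    (hC : Subgroup.centralizer (T : Set G) = ⊥) (H : Subgroup G) (hmax : IsCoatom H) : ¬ (Nat.card H).Prime := by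
  intro hprime
  obtain ⟨p, hp⟩ : ∃ p, p = Nat.card H := ⟨_, rfl⟩
  rw [← hp] at hprime
  have : Fact p.Prime := ⟨hprime⟩
  have hHtop : H ≠ ⊤ := hmax.1
  have hHbot : H ≠ ⊥ := by
    intro h
    rw [h, Subgroup.card_bot] at hp
    exact hprime.ne_one hp
  have hHcyc : IsCyclic H := isCyclic_of_prime_card hp.symm
  have hHcomm : IsMulCommutative H := ⟨⟨fun a b => by
    let _ := IsCyclic.commGroup (α := H)
    exact mul_comm a b⟩⟩
  have hTH : ¬ T ≤ H := by
    intro hle
    apply hTc
    refine ⟨⟨fun a b => ?_⟩⟩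
    have := hHcomm.is_comm.comm ⟨a, hle a.2⟩ ⟨b, hle b.2⟩
    apply Subtype.ext
    have h2 : (a : G) * b = b * a := congrArg Subtype.val this
    exact h2
  have hHnn : ¬ H.Normal := by
    intro hn
    rcases normal_cases T hT hC H hn with h | h
    · exact hHbot h
    · exact hTH h
  have hNH : Subgroup.normalizer (H : Set G) = H := by
    rcases hmax.le_iff.mp (Subgroup.le_normalizer (H := H)) with h | h
    · exact absurd (Subgroup.normalizer_eq_top_iff.mp h) hHnn
    · exact h
  have hHp : IsPGroup p H := IsPGroup.of_card (n := 1) (by rw [← hp, pow_one])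
  obtain ⟨P, hHP⟩ := hHp.exists_le_sylow
  have hPH : (P : Subgroup G) = H := by
    rcases hmax.le_iff.mp hHP with h | h
    · exfalso
      have hG : IsPGroup p G := by
        have := P.2
        rw [h] at this
        exact this.of_equiv Subgroup.topEquiv
      exact not_pgroup hT hTc p (hG.to_subgroup T)
    · exact h
  have hP : Subgroup.normalizer (P : Set G) ≤ Subgroup.centralizer (P : Set G) := by
    have e : (P : Set G) = (H : Set G) := by rw [← hPH]; rfl
    rw [e, hNH]
    exact Subgroup.le_centralizer_iff_isMulCommutative.mpr hHcomm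
  have hKc := MonoidHom.ker_transferSylow_isComplement' P hP
  have hKp := MonoidHom.not_dvd_card_ker_transferSylow P hP
  set K := (MonoidHom.transferSylow P hP).ker with hK
  have hKn : K.Normal := inferInstance
  have hTK : T ≤ K := by
    rcases normal_cases T hT hC K hKn with h | h
    · exfalso
      rw [h, Subgroup.isComplement'_bot_left, hPH] at hKc
      exact hHtop hKc
    · exact h
  have hpT : ¬ p ∣ Nat.card T := fun h => hKp (h.trans (Subgroup.card_dvd_of_le hTK))
  have hHT : H ⊓ T = ⊥ := by
    have := hKc.disjoint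
    rw [hPH] at this
    rw [eq_bot_iff]
    calc H ⊓ T ≤ H ⊓ K := inf_le_inf_left H hTK
      _ = K ⊓ H := inf_comm _ _
      _ ≤ ⊥ := this.le_bot
  -- a prime q dividing |T|
  have hTnt : Nontrivial T := hT.toNontrivial
  have hT1 : Nat.card T ≠ 1 := by
    intro h
    have := (Nat.card_eq_one_iff_unique.mp h).1
    exact not_subsingleton T this
  obtain ⟨q, hq, hqT⟩ := Nat.exists_prime_and_dvd hT1
  have : Fact q.Prime := ⟨hq⟩
  -- the image of H in Aut(T)
  let f : H →* MulAut T := (MulAut.conjNormal (H := T)).comp H.subtype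
  have hA : IsPGroup p f.range :=
    hHp.of_surjective f.rangeRestrict f.rangeRestrict_surjective
  have hSyl : ¬ p ∣ Nat.card (Sylow q T) := by
    intro h
    obtain ⟨Q1⟩ : Nonempty (Sylow q T) := inferInstance
    exact hpT (h.trans ((Sylow.card_dvd_index Q1).trans (Subgroup.index_dvd_card _)))
  obtain ⟨Q0, hQ0⟩ := hA.nonempty_fixed_point_of_prime_not_dvd_card (Sylow q T) hSyl
  have hfix : ∀ h ∈ H, ∀ x ∈ (Q0 : Subgroup T), (MulAut.conjNormal h : MulAut T) x ∈ (Q0 : Subgroup T) := by
    intro h hh x hx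
    have h1 := hQ0 ⟨f ⟨h, hh⟩, ⟨⟨h, hh⟩, rfl⟩⟩
    have h2 : ((MulAut.conjNormal h : MulAut T) • Q0 : Sylow q T) = Q0 := h1
    have h3 : (MulAut.conjNormal h : MulAut T) • (Q0 : Subgroup T) = Q0 := by
      rw [← Sylow.pointwise_smul_def, h2]
    have h4 : (MulAut.conjNormal h : MulAut T) • x ∈ (MulAut.conjNormal h : MulAut T) • (Q0 : Subgroup T) :=
      Subgroup.smul_mem_pointwise_smul _ _ _ hx
    rw [h3] at h4
    exact h4
  set Q : Subgroup G := (Q0 : Subgroup T).map T.subtype with hQ
  have hQT : Q ≤ T := Subgroup.map_subtype_le _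
  have hconj : ∀ h ∈ H, ∀ y ∈ Q, h * y * h⁻¹ ∈ Q := by
    intro h hh y hy
    obtain ⟨x, hx, rfl⟩ := Subgroup.mem_map.mp hy
    refine Subgroup.mem_map.mpr ⟨(MulAut.conjNormal h : MulAut T) x, hfix h hh x hx, ?_⟩
    simp [MulAut.conjNormal_apply]
  have hHN : H ≤ Subgroup.normalizer (Q : Set G) := by
    intro h hh
    rw [Subgroup.mem_normalizer_iff]
    intro y
    constructor
    · exact hconj h hh y
    · intro hy
      have := hconj h⁻¹ (H.inv_mem hh) _ hy
      simpa [mul_assoc] using this
  have hQ0ne : (Q0 : Subgroup T) ≠ ⊥ := Q0.ne_bot_of_dvd_card hqT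
  have hQne : Q ≠ ⊥ := by
    intro h
    apply hQ0ne
    rw [hQ] at h
    exact (Subgroup.map_eq_bot_iff_of_injective _ T.subtype_injective).mp h
  have hQH : ¬ Q ≤ H := by
    intro h
    apply hQne
    rw [eq_bot_iff, ← hHT]
    exact le_inf h hQT
  have hsup : H ⊔ Q = ⊤ := by
    apply hmax.2
    exact lt_of_le_of_ne le_sup_left (fun h => hQH (by rw [h]; exact le_sup_right))
  have hQn : Q.Normal := by
    rw [← Subgroup.normalizer_eq_top_iff, eq_top_iff, ← hsup]
    exact sup_le hHN Subgroup.le_normalizer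
  have hQ0n : (Q0 : Subgroup T).Normal := by
    have : (Q0 : Subgroup T) = Q.subgroupOf T := by
      rw [hQ]
      ext x
      simp [Subgroup.mem_subgroupOf]
    rw [this]
    exact hQn.subgroupOf T
  rcases hT.eq_bot_or_eq_top_of_normal _ hQ0n with h | h
  · exact hQ0ne h
  · have hqT' : IsPGroup q T := by
      have := Q0.2
      rw [h] at this
      exact this.of_equiv Subgroup.topEquiv
    exact not_pgroup hT hTc q hqT'

end Cfsg.Agent.S3498
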