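import Mathlib
import Cfsg.Statements.S3504
-- import your own Cfsg.Agent.* helpers here

set_option autoImplicit false
open Cfsg

namespace Cfsg.Agent.S3504

theorem exists_perm (n p : ℕ) (hp : p.Prime) (hpn : p ∣ n) (hn : 0 < n) :
    ∃ g : Equiv.Perm (Fin n), orderOf g = p ∧ (∀ i, g i ≠ i) ∧
      g.cycleType = Multiset.replicate (n / p) p := by
  have h1 : (Multiset.replicate (n / p) p).sum ≤ Fintype.card (Fin n) ∧
      ∀ a ∈ Multiset.replicate (n / p) p, 2 ≤ a := by
    constructor
    · simp [Nat.div_mul_cancel hpn]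
    · intro a ha
      rw [Multiset.eq_of_mem_replicate ha]
      exact hp.two_le
  obtain ⟨g, hg⟩ := (Equiv.Perm.exists_with_cycleType_iff (α := Fin n)).mpr h1
  have hnp : 0 < n / p := Nat.div_pos (Nat.le_of_dvd hn hpn) hp.pos
  have : Fact p.Prime := ⟨hp⟩
  refine ⟨g, ?_, ?_, hg⟩
  · apply orderOf_eq_prime
    · rw [Equiv.Perm.pow_prime_eq_one_iff]
      intro c hc
      rw [hg] at hc
      exact Multiset.eq_of_mem_replicate hc
    · intro h1
      rw [← Equiv.Perm.cycleType_eq_zero, hg] at h1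
      have := congrArg Multiset.card h1
      simp only [Multiset.card_replicate, Multiset.card_zero] at this
      omega
  · have hs : g.support.card = n := by
      rw [← Equiv.Perm.sum_cycleType, hg]
      simp [Nat.div_mul_cancel hpn]
    have hu : g.support = Finset.univ := by
      apply Finset.eq_univ_of_card
      rw [hs]; simp
    intro i
    rw [← Equiv.Perm.mem_support, hu]
    exact Finset.mem_univ i

theorem cycleType_of (n : ℕ) (g : Equiv.Perm (Fin n)) (hg : (orderOf g).Prime)
    (hfix : ∀ i, g i ≠ i) :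
    orderOf g ∣ n ∧ g.cycleType = Multiset.replicate (n / orderOf g) (orderOf g) := by
  obtain ⟨k, hk⟩ := Equiv.Perm.cycleType_prime_order hg
  have hs : g.support.card = n := by
    have hu : g.support = Finset.univ := by
      ext i
      simp [Equiv.Perm.mem_support, hfix i]
    rw [hu]; simp
  have hsum : (k + 1) * orderOf g = n := by
    have h := Equiv.Perm.sum_cycleType g
    rw [hk, hs, Multiset.sum_replicate, smul_eq_mul] at h
    exact h
  generalize orderOf g = r at *
  refine ⟨⟨k + 1, by rw [← hsum]; ring⟩, ?_⟩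
  rw [hk]
  congr 1
  have : n / r = k + 1 := by
    apply Nat.div_eq_of_eq_mul_left hg.pos hsum.symm
  exact this.symm

theorem result (n : ℕ) (hn : 5 ≤ n) :
    Nat.card {c : ConjClasses (Equiv.Perm (Fin n)) // ∃ g : Equiv.Perm (Fin n), ConjClasses.mk g = c ∧ (orderOf g).Prime ∧ ∀ i : Fin n, g i ≠ i} = 1 ↔ IsPrimePow n := by
  rw [Nat.card_eq_one_iff_unique]
  constructor
  · rintro ⟨hsub, -⟩
    rw [isPrimePow_iff_card_primeFactors_eq_one]
    by_contra hne
    have h0 : n.primeFactors.card ≠ 0 := by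
      rw [Ne, Finset.card_eq_zero, Nat.primeFactors_eq_empty]
      omega
    have h2 : 1 < n.primeFactors.card := by omega
    obtain ⟨p, hp, q, hq, hpq⟩ := Finset.one_lt_card.mp h2
    rw [Nat.mem_primeFactors] at hp hq
    obtain ⟨g, hgo, hgf, hgc⟩ := exists_perm n p hp.1 hp.2.1 (by omega)
    obtain ⟨g', hgo', hgf', hgc'⟩ := exists_perm n q hq.1 hq.2.1 (by omega)
    have := hsub.elim ⟨ConjClasses.mk g, g, rfl, by rw [hgo]; exact hp.1, hgf⟩
      ⟨ConjClasses.mk g', g', rfl, by rw [hgo']; exact hq.1, hgf'⟩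
    have h3 : ConjClasses.mk g = ConjClasses.mk g' := congrArg Subtype.val this
    rw [ConjClasses.mk_eq_mk_iff_isConj] at h3
    obtain ⟨c, hc⟩ := h3
    have := hc.orderOf_eq
    rw [hgo, hgo'] at this
    exact hpq this
  · intro hpp
    obtain ⟨p, k, hp, hk, hpk⟩ := hpp
    have hp' := hp.nat_prime
    have hpn : p ∣ n := by rw [← hpk]; exact dvd_pow_self p (by omega)
    constructor
    · constructor
      rintro ⟨c, g, rfl, hgo, hgf⟩ ⟨c', g', rfl, hgo', hgf'⟩
      apply Subtype.ext
      show ConjClasses.mk g = ConjClasses.mk g'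
      rw [ConjClasses.mk_eq_mk_iff_isConj, Equiv.Perm.isConj_iff_cycleType_eq]
      obtain ⟨hd, hc⟩ := cycleType_of n g hgo hgf
      obtain ⟨hd', hc'⟩ := cycleType_of n g' hgo' hgf'
      have e1 : orderOf g = p := by
        have hd2 : orderOf g ∣ p ^ k := hpk.symm ▸ hd
        exact (Nat.prime_dvd_prime_iff_eq hgo hp').mp (hgo.dvd_of_dvd_pow hd2)
      have e2 : orderOf g' = p := by
        have hd2 : orderOf g' ∣ p ^ k := hpk.symm ▸ hd'
        exact (Nat.prime_dvd_prime_iff_eq hgo' hp').mp (hgo'.dvd_of_dvd_pow hd2)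
      rw [hc, hc', e1, e2]
    · obtain ⟨g, hgo, hgf, hgc⟩ := exists_perm n p hp' hpn (by omega)
      exact ⟨⟨ConjClasses.mk g, g, rfl, by rw [hgo]; exact hp', hgf⟩⟩

end Cfsg.Agent.S3504
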