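import Cfsg.Statements.S3508

set_option autoImplicit false
open Cfsg

namespace Cfsg.Agent.S3508

open Polynomial

theorem geom_eq (p j : ℕ) [Fact p.Prime] :
    (∑ i ∈ Finset.range (p ^ j), (X : (ZMod p)[X]) ^ i) = (X - 1) ^ (p ^ j - 1) := by
  have h1 : (∑ i ∈ Finset.range (p ^ j), (X : (ZMod p)[X]) ^ i) * (X - 1) = X ^ (p ^ j) - 1 :=
    geom_sum_mul X (p ^ j)
  have h2 : ((X : (ZMod p)[X]) - 1) ^ (p ^ j) = X ^ (p ^ j) - 1 := by
    rw [sub_pow_char_pow, one_pow]
  have hpos : 1 ≤ p ^ j := Nat.one_le_pow _ _ (Fact.out : p.Prime).pos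
  have h3 : ((X : (ZMod p)[X]) - 1) ^ (p ^ j) = (X - 1) ^ (p ^ j - 1) * (X - 1) := by
    rw [← pow_succ, Nat.sub_add_cancel hpos]
  have hne : ((X : (ZMod p)[X]) - 1) ≠ 0 := by
    have := Polynomial.X_sub_C_ne_zero (1 : ZMod p)
    rwa [map_one] at this
  apply mul_right_cancel₀ hne
  rw [h1, ← h3, h2]

theorem sum_pow_eq_zero {p : ℕ} [Fact p.Prime] {V : Type*} [AddCommGroup V] [Module (ZMod p) V]
    [FiniteDimensional (ZMod p) V] (A : Module.End (ZMod p) V) (r : ℕ) (hA : A ^ (p ^ r) = 1)
    (j : ℕ) (hj : Module.finrank (ZMod p) V < p ^ j) : ∑ i ∈ Finset.range (p ^ j), A ^ i = 0 := by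
  have hD : (A - 1) ^ (p ^ r) = 0 := by
    have h2 : ((X : (ZMod p)[X]) - 1) ^ (p ^ r) = X ^ (p ^ r) - 1 := by
      rw [sub_pow_char_pow, one_pow]
    have := congrArg (Polynomial.aeval A) h2
    simpa [hA] using this
  have hDm : (A - 1) ^ (Module.finrank (ZMod p) V) = 0 := by
    rcases le_or_gt (Module.finrank (ZMod p) V) (p ^ r) with h | h
    · have hk := Module.End.ker_pow_eq_ker_pow_finrank_of_le (f := A - 1) h
      rw [hD, LinearMap.ker_zero] at hk
      exact LinearMap.ker_eq_top.mp hk.symm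
    · obtain ⟨c, hc⟩ := Nat.exists_eq_add_of_le h.le
      rw [hc, pow_add, hD, zero_mul]
  have h3 := congrArg (Polynomial.aeval A) (geom_eq p j)
  simp only [map_sum, map_pow, aeval_X, map_sub, map_one] at h3
  rw [h3]
  obtain ⟨c, hc⟩ := Nat.exists_eq_add_of_le (show Module.finrank (ZMod p) V ≤ p ^ j - 1 by omega)
  rw [hc, pow_add, hDm, zero_mul]

theorem key_abstract {p : ℕ} [hp : Fact p.Prime] {V : Type*} [AddCommGroup V] [Module (ZMod p) V]
    [Finite V] (m : ℕ) (hcard : Nat.card V = p ^ m) (A : V →+ V) (r : ℕ)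
    (hA : ∀ v, (A^[p ^ r]) v = v) (j : ℕ) (hj : m < p ^ j) (v : V) :
    ∑ l ∈ Finset.range (p ^ j), A^[l] v = 0 := by
  have hfin : Module.finrank (ZMod p) V = m := by
    have h1 := Module.natCard_eq_pow_finrank (K := ZMod p) (V := V)
    rw [hcard, Nat.card_zmod] at h1
    exact (Nat.pow_right_injective hp.out.two_le h1).symm
  let A' : Module.End (ZMod p) V := A.toZModLinearMap p
  have hA' : A' ^ (p ^ r) = 1 := by
    refine LinearMap.ext fun v => ?_
    rw [Module.End.pow_apply]
    exact hA v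
  have hsum := sum_pow_eq_zero A' r hA' j (by rw [hfin]; exact hj)
  have := LinearMap.congr_fun hsum v
  rw [LinearMap.sum_apply] at this
  simp only [Module.End.pow_apply, LinearMap.zero_apply] at this
  exact this

theorem pow_eq_one_of_lt {G : Type*} [Group G] [Finite G] {Ω : Type*} [Fintype Ω] [MulAction G Ω]
    [FaithfulSMul G Ω] (p m : ℕ) [hp : Fact p.Prime] (hcard : Fintype.card Ω = p ^ m)
    (N : Subgroup G) [hNn : N.Normal] (hNc : IsMulCommutative N) (hNp : ∀ n ∈ N, n ^ p = 1)
    (hNtr : MulAction.IsPretransitive N Ω) (hNreg : ∀ ω : Ω, MulAction.stabilizer N ω = ⊥)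
    (g : G) (r : ℕ) (hg : g ^ (p ^ r) = 1) (j : ℕ) (hj : m < p ^ j) : g ^ (p ^ j) = 1 := by
  classical
  letI : CommGroup N := { (inferInstance : Group N) with mul_comm := fun a b => mul_comm' a b }
  have hV : ∀ v : Additive N, p • v = 0 := by
    intro v
    have h1 : (Additive.toMul v) ^ p = 1 := by
      apply Subtype.ext
      rw [Subgroup.coe_pow]
      exact hNp _ (Additive.toMul v).2
    have h2 : p • v = Additive.ofMul ((Additive.toMul v) ^ p) := rfl
    rw [h2, h1]; rfl
  letI : Module (ZMod p) (Additive N) := AddCommGroup.zmodModule hV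
  haveI : Finite (Additive N) := inferInstanceAs (Finite N)
  have hne : Nonempty Ω := by
    rw [← Fintype.card_pos_iff, hcard]
    exact Nat.pos_of_ne_zero (pow_ne_zero _ hp.out.ne_zero)
  obtain ⟨ω₀⟩ := hne
  have hcardN : Nat.card (Additive N) = p ^ m := by
    rw [← hcard, ← Nat.card_eq_fintype_card]
    apply Nat.card_eq_of_bijective (fun n : Additive N => (Additive.toMul n : N) • ω₀)
    constructor
    · intro a b hab
      simp only at hab
      have : (Additive.toMul b)⁻¹ * (Additive.toMul a) ∈ MulAction.stabilizer N ω₀ := by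
        rw [MulAction.mem_stabilizer_iff, mul_smul, hab, inv_smul_smul]
      rw [hNreg ω₀, Subgroup.mem_bot] at this
      exact Additive.toMul.injective (inv_mul_eq_one.mp this).symm
    · intro ω
      obtain ⟨n, hn⟩ := MulAction.exists_smul_eq N ω₀ ω
      exact ⟨Additive.ofMul n, hn⟩
  let A₀ : Additive N →+ Additive N := (MulAut.conjNormal g : N ≃* N).toMonoidHom.toAdditive
  have hA1 : ∀ v : Additive N, A₀ v = Additive.ofMul (MulAut.conjNormal g (Additive.toMul v)) :=
    fun v => rfl
  have hApow : ∀ (i : ℕ) (v : Additive N),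
      (A₀^[i]) v = Additive.ofMul (MulAut.conjNormal (g ^ i) (Additive.toMul v)) := by
    intro i
    induction i with
    | zero => intro v; simp
    | succ i ih =>
      intro v
      rw [Function.iterate_succ_apply', ih, hA1, toMul_ofMul, pow_succ' g i, map_mul,
        MulAut.mul_apply]
  have hA : ∀ v, (A₀^[p ^ r]) v = v := by
    intro v
    rw [hApow, hg, map_one]
    simp
  apply FaithfulSMul.eq_of_smul_eq_smul (α := Ω)
  intro ω
  rw [one_smul]
  obtain ⟨n₀, hn₀⟩ := MulAction.exists_smul_eq N ω (g • ω)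
  have hsum := key_abstract m hcardN A₀ r hA j hj (Additive.ofMul n₀)
  have hP : ∀ i : ℕ, g ^ i • ω
      = (Additive.toMul (∑ l ∈ Finset.range i, (A₀^[l]) (Additive.ofMul n₀)) : N) • ω := by
    intro i
    induction i with
    | zero => simp
    | succ i ih =>
      rw [pow_succ' g i, mul_smul, ih, Finset.sum_range_succ']
      have e1 : ∑ l ∈ Finset.range i, (A₀^[l + 1]) (Additive.ofMul n₀)
          = A₀ (∑ l ∈ Finset.range i, (A₀^[l]) (Additive.ofMul n₀)) := by
        rw [map_sum]
        apply Finset.sum_congr rfl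
        intro l _
        rw [Function.iterate_succ_apply']
      rw [e1, Function.iterate_zero, id_eq, toMul_add, toMul_ofMul, hA1, toMul_ofMul, mul_smul,
        hn₀]
      rw [Subgroup.smul_def, Subgroup.smul_def, MulAut.conjNormal_apply, ← mul_smul, ← mul_smul]
      congr 1
      group
  rw [hP, hsum]
  simp

theorem two_pow_gt (k : ℕ) (hk : 2 ≤ k) : k + 1 < 2 ^ k := by
  induction k, hk using Nat.le_induction with
  | base => norm_num
  | succ k hk ih => rw [pow_succ]; omega

theorem three_pow_gt (k : ℕ) (hk : 1 ≤ k) : k + 1 < 3 ^ k := by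
  induction k, hk using Nat.le_induction with
  | base => norm_num
  | succ k hk ih => rw [pow_succ]; omega

/-- Let a finite group G act faithfully on a set Ω with p ^ m points (p prime) and have an elementary abelian normal p-subgroup N acting regularly on Ω (so G is a group of affine transformations of an m-dimensional space over the field with p elements). If G contains an element of order p ^ r with r ≥ 1, then p ^ (r − 1) ≤ m. In particular an element of order p ^ m forces m ≤ 2, and m ≤ 1 when p is odd. -/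
theorem result {G : Type*} [Group G] [Finite G] {Ω : Type*} [Fintype Ω] [MulAction G Ω] [FaithfulSMul G Ω] (p m : ℕ) (hp : p.Prime) (hcard : Fintype.card Ω = p ^ m)
    (N : Subgroup G) [N.Normal] (hNc : IsMulCommutative N) (hNp : ∀ n ∈ N, n ^ p = 1)
    (hNtr : MulAction.IsPretransitive N Ω) (hNreg : ∀ ω : Ω, MulAction.stabilizer N ω = ⊥)
    (g : G) (r : ℕ) (hr : 1 ≤ r) (hg : orderOf g = p ^ r) :
    p ^ (r - 1) ≤ m ∧ (r = m → m ≤ 2 ∧ (2 < p → m ≤ 1)) := by
  haveI : Fact p.Prime := ⟨hp⟩
  have h1 : p ^ (r - 1) ≤ m := by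
    by_contra hlt
    push Not at hlt
    have hg' : g ^ (p ^ r) = 1 := by rw [← hg]; exact pow_orderOf_eq_one g
    have h2 := pow_eq_one_of_lt p m hcard N hNc hNp hNtr hNreg g r hg' (r - 1) hlt
    have hdvd := orderOf_dvd_of_pow_eq_one h2
    rw [hg] at hdvd
    have hle := Nat.le_of_dvd (pow_pos hp.pos _) hdvd
    have := (Nat.pow_le_pow_iff_right hp.one_lt).mp hle
    omega
  refine ⟨h1, ?_⟩
  intro hrm
  subst hrm
  constructor
  · by_contra hlt
    push Not at hlt
    have h3 := two_pow_gt (r - 1) (by omega)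
    have h4 : 2 ^ (r - 1) ≤ p ^ (r - 1) := Nat.pow_le_pow_left hp.two_le _
    omega
  · intro hp2
    by_contra hlt
    push Not at hlt
    have h3 := three_pow_gt (r - 1) (by omega)
    have h4 : 3 ^ (r - 1) ≤ p ^ (r - 1) := Nat.pow_le_pow_left (by omega) _
    omega


end Cfsg.Agent.S3508
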