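import Mathlib
import Cfsg.Statements.S3511

set_option autoImplicit false
open Cfsg

namespace Cfsg.Agent.S3511

theorem result {G : Type*} [Group G] [Finite G] {Ω : Type*} [MulAction G Ω] [FaithfulSMul G Ω]
    (h : ∀ g : G, Squarefree (orderOf g) → ∃ ω : Ω, MulAction.stabilizer (Subgroup.zpowers g) ω = ⊥) (g : G) :
    ∃ ω : Ω, MulAction.stabilizer (Subgroup.zpowers g) ω = ⊥ := by
  -- strong induction on the order of g
  induction' hn : orderOf g using Nat.strong_induction_on with n ih generalizing g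
  by_cases hsq : Squarefree (orderOf g)
  · exact h g hsq
  · have hpos : 0 < orderOf g := orderOf_pos g
    rw [Nat.squarefree_iff_prime_squarefree] at hsq
    simp only [not_forall, not_not] at hsq
    obtain ⟨p, hp, hpp⟩ := hsq
    -- p * p ∣ orderOf g
    have hpd : p ∣ orderOf g := dvd_trans (dvd_mul_right p p) hpp
    have hord : orderOf (g ^ p) = orderOf g / p := by
      rw [orderOf_pow' g hp.ne_zero, Nat.gcd_eq_right hpd]
    have hlt : orderOf (g ^ p) < n := by
      rw [hord, ← hn]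
      exact Nat.div_lt_self hpos hp.one_lt
    obtain ⟨ω, hω⟩ := ih _ hlt (g ^ p) rfl
    refine ⟨ω, ?_⟩
    rw [eq_bot_iff]
    rintro ⟨x, hx⟩ hxω
    rw [MulAction.mem_stabilizer_iff] at hxω
    obtain ⟨j, rfl⟩ := Subgroup.mem_zpowers_iff.mp hx
    -- x ^ p ∈ zpowers (g^p) fixes ω, so x^p = 1
    have hxp : (g ^ j) ^ p = 1 := by
      have hmem : (g ^ j) ^ p ∈ Subgroup.zpowers (g ^ p) := by
        refine Subgroup.mem_zpowers_iff.mpr ⟨j, ?_⟩
        rw [← zpow_natCast, ← zpow_natCast, ← zpow_mul, ← zpow_mul, mul_comm]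
      have hfix : (⟨(g ^ j) ^ p, hmem⟩ : Subgroup.zpowers (g ^ p)) ∈
          MulAction.stabilizer (Subgroup.zpowers (g ^ p)) ω := by
        rw [MulAction.mem_stabilizer_iff]
        show ((g ^ j) ^ p) • ω = ω
        have h1 : (g ^ j) • ω = ω := hxω
        have : ∀ k : ℕ, ((g ^ j) ^ k) • ω = ω := by
          intro k
          induction k with
          | zero => simp
          | succ k ihk => rw [pow_succ, mul_smul, h1, ihk]
        exact this p
      rw [hω, Subgroup.mem_bot] at hfix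
      exact congrArg Subtype.val hfix
    -- orderOf g ∣ j * p
    have hdvd : (orderOf g : ℤ) ∣ j * p := by
      rw [← zpow_natCast, ← zpow_mul] at hxp
      exact orderOf_dvd_iff_zpow_eq_one.mpr hxp
    -- p ∣ j
    obtain ⟨c, hc⟩ := hpp
    have hpj : (p : ℤ) ∣ j := by
      rw [hc] at hdvd
      push_cast at hdvd
      have h2 : ((p : ℤ) * p) ∣ j * p := dvd_trans (Dvd.intro _ rfl) hdvd
      have hp0 : (p : ℤ) ≠ 0 := by exact_mod_cast hp.ne_zero
      exact (mul_dvd_mul_iff_right hp0).mp h2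
    obtain ⟨j', rfl⟩ := hpj
    -- so g ^ j ∈ zpowers (g^p), fixes ω, hence trivial
    have hmem : g ^ ((p : ℤ) * j') ∈ Subgroup.zpowers (g ^ p) := by
      refine Subgroup.mem_zpowers_iff.mpr ⟨j', ?_⟩
      rw [← zpow_natCast, ← zpow_mul]
    have hfix : (⟨g ^ ((p : ℤ) * j'), hmem⟩ : Subgroup.zpowers (g ^ p)) ∈
        MulAction.stabilizer (Subgroup.zpowers (g ^ p)) ω := by
      rw [MulAction.mem_stabilizer_iff]
      exact hxω
    rw [hω, Subgroup.mem_bot] at hfix
    rw [Subgroup.mem_bot]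
    have h5 : g ^ ((p : ℤ) * j') = 1 := congrArg Subtype.val hfix
    exact Subtype.ext h5

end Cfsg.Agent.S3511
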