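import Mathlib
import Cfsg.Statements.S3514

set_option autoImplicit false
open Cfsg

namespace Cfsg.Agent.S3514

open MulAction

theorem card_eq_relIndex_mul {G : Type*} [Group G] (A B : Subgroup G) :
    A.relIndex B * Nat.card (A ⊓ B : Subgroup G) = Nat.card B := by
  have h1 := Subgroup.relIndex_mul_relIndex (⊥ : Subgroup G) (A ⊓ B) B bot_le inf_le_right
  rw [Subgroup.relIndex_bot_left, Subgroup.relIndex_bot_left, Subgroup.inf_relIndex_right] at h1
  rw [mul_comm]; exact h1

theorem relIndex_sup_of_normal {G : Type*} [Group G] [Finite G] (K S : Subgroup G) [K.Normal] :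
    S.relIndex (K ⊔ S) = S.relIndex K := by
  have h1 : K.relIndex (K ⊔ S) = K.relIndex S := Subgroup.relIndex_sup_left S K
  have h2 := card_eq_relIndex_mul S (K ⊔ S)
  have h3 := card_eq_relIndex_mul K (K ⊔ S)
  have h4 := card_eq_relIndex_mul K S
  have h5 := card_eq_relIndex_mul S K
  rw [inf_of_le_left (le_sup_right : S ≤ K ⊔ S)] at h2
  rw [inf_of_le_left (le_sup_left : K ≤ K ⊔ S), h1] at h3
  rw [inf_comm] at h5
  have hSpos : 0 < Nat.card S := Nat.card_pos
  have hIpos : 0 < Nat.card (K ⊓ S : Subgroup G) := Nat.card_pos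
  -- S.relIndex (K⊔S) * |S| = |K ⊔ S| = K.relIndex S * |K| ; K.relIndex S * |K∩S| = |S| ; S.relIndex K * |K ∩ S| = |K|
  have h6 : S.relIndex (K ⊔ S) * Nat.card S * Nat.card (K ⊓ S : Subgroup G) =
      S.relIndex K * Nat.card S * Nat.card (K ⊓ S : Subgroup G) := by
    calc S.relIndex (K ⊔ S) * Nat.card S * Nat.card (K ⊓ S : Subgroup G)
        = Nat.card (K ⊔ S : Subgroup G) * Nat.card (K ⊓ S : Subgroup G) := by rw [h2]
      _ = K.relIndex S * Nat.card K * Nat.card (K ⊓ S : Subgroup G) := by rw [h3]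
      _ = (K.relIndex S * Nat.card (K ⊓ S : Subgroup G)) * Nat.card K := by ring
      _ = Nat.card S * (S.relIndex K * Nat.card (K ⊓ S : Subgroup G)) := by rw [h4, h5]
      _ = S.relIndex K * Nat.card S * Nat.card (K ⊓ S : Subgroup G) := by ring
  have h7 := Nat.eq_of_mul_eq_mul_right hIpos h6
  exact Nat.eq_of_mul_eq_mul_right hSpos h7

theorem relIndex_dvd_of_normalized {G : Type*} [Group G] [Finite G] (K H S : Subgroup G) (hKH : K ≤ H)
    (hN : H ≤ Subgroup.normalizer (K : Set G)) : S.relIndex K ∣ S.relIndex H := by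
  have : (K.subgroupOf H).Normal := (Subgroup.normal_subgroupOf_iff_le_normalizer hKH).mpr hN
  have h1 := relIndex_sup_of_normal (K.subgroupOf H) (S.subgroupOf H)
  rw [Subgroup.relIndex_subgroupOf hKH] at h1
  rw [← h1]
  exact Subgroup.relIndex_dvd_index_of_le le_sup_right

theorem card_orbit_eq_relIndex {G X : Type*} [Group G] [MulAction G X] (H : Subgroup G) (v : X) :
    Nat.card (orbit H v) = (stabilizer G v).relIndex H := by
  have h1 : stabilizer H v = (stabilizer G v).subgroupOf H := by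
    ext x
    simp [Subgroup.mem_subgroupOf, mem_stabilizer_iff, Subgroup.smul_def]
  rw [Subgroup.relIndex, ← h1, index_stabilizer, Nat.card_coe_set_eq]

theorem orbit_set_eq (p : ℕ) {V : Type*} [AddCommGroup V] [Module (ZMod p) V]
    (H : Subgroup (V ≃ₗ[ZMod p] V)) (v : V) :
    {u : V | ∃ h ∈ H, h v = u} = orbit H v := by
  ext u
  constructor
  · rintro ⟨h, hh, rfl⟩
    exact ⟨⟨h, hh⟩, rfl⟩
  · rintro ⟨⟨h, hh⟩, rfl⟩
    exact ⟨h, hh, rfl⟩

theorem result (p : ℕ) [Fact p.Prime] {V : Type*} [AddCommGroup V] [Module (ZMod p) V] [Finite V]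
    (H : Subgroup (V ≃ₗ[ZMod p] V)) (hH : ∀ v : V, ¬ p ∣ Nat.card {u : V | ∃ h ∈ H, h v = u}) :
    (∀ K : Subgroup (V ≃ₗ[ZMod p] V), K ≤ H → H ≤ Subgroup.normalizer (K : Set (V ≃ₗ[ZMod p] V)) →
        ∀ v : V, ¬ p ∣ Nat.card {u : V | ∃ k ∈ K, k v = u}) ∧
    (∀ N : Subgroup (V ≃ₗ[ZMod p] V), ¬ p ∣ Nat.card N → H ≤ Subgroup.normalizer (N : Set (V ≃ₗ[ZMod p] V)) →
        ∀ v : V, ¬ p ∣ Nat.card {u : V | ∃ x ∈ N ⊔ H, x v = u}) := by
  have hp : p.Prime := Fact.out
  have : Finite (V ≃ₗ[ZMod p] V) := Finite.of_injective (fun e => (e : V → V)) (fun e f h => by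
    ext x; exact congrFun h x)
  constructor
  · intro K hKH hN v
    have h1 := hH v
    rw [orbit_set_eq, card_orbit_eq_relIndex] at h1 ⊢
    intro hd
    exact h1 (dvd_trans hd (relIndex_dvd_of_normalized K H _ hKH hN))
  · intro N hNp hN v
    have h1 := hH v
    rw [orbit_set_eq, card_orbit_eq_relIndex] at h1 ⊢
    set S := stabilizer (V ≃ₗ[ZMod p] V) v with hS
    set L := N ⊔ H with hL
    -- S.relIndex L ∣ (S ⊓ H).relIndex L = S.relIndex H * H.relIndex L
    have h2 : S.relIndex L ∣ (S ⊓ H).relIndex L := Subgroup.relIndex_dvd_of_le_left L inf_le_left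
    have h3 : (S ⊓ H).relIndex H * H.relIndex L = (S ⊓ H).relIndex L :=
      Subgroup.relIndex_mul_relIndex _ _ _ inf_le_right le_sup_right
    rw [Subgroup.inf_relIndex_right] at h3
    -- H.relIndex L divides |N|
    have hNL : N ≤ L := le_sup_left
    have hLN : L ≤ Subgroup.normalizer (N : Set (V ≃ₗ[ZMod p] V)) :=
      sup_le Subgroup.le_normalizer hN
    have : (N.subgroupOf L).Normal := (Subgroup.normal_subgroupOf_iff_le_normalizer hNL).mpr hLN
    have h4 := relIndex_sup_of_normal (N.subgroupOf L) (H.subgroupOf L)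
    have h5 : N.subgroupOf L ⊔ H.subgroupOf L = ⊤ := by
      rw [← Subgroup.subgroupOf_sup hNL le_sup_right]
      exact Subgroup.subgroupOf_self L
    rw [h5, Subgroup.relIndex_top_right, Subgroup.relIndex_subgroupOf hNL] at h4
    have h6 : H.relIndex L = H.relIndex N := h4
    have h7 : H.relIndex N ∣ Nat.card N := Subgroup.relIndex_dvd_card H N
    intro hd
    have h8 : p ∣ S.relIndex H * H.relIndex L := by rw [h3]; exact dvd_trans hd h2
    rcases (Nat.Prime.dvd_mul hp).mp h8 with h9 | h9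
    · exact h1 h9
    · exact hNp (dvd_trans (h6 ▸ h9) h7)

end Cfsg.Agent.S3514
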