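import Mathlib
import Cfsg.Statements.S3515
import Cfsg.Agent.Lib.Helper8.Affine

set_option autoImplicit false
open Cfsg

namespace Cfsg.Agent.S3515

open Cfsg.Agent.Lib.Helper8.Affine

theorem all_vec2 : ∀ w : Fin 2 → ZMod 2, w = 0 ∨ w = Pi.single 0 1 ∨ w = Pi.single 1 1 ∨
    w = Pi.single 0 1 + Pi.single 1 1 := by decide

theorem ne_a : (Pi.single 0 1 + Pi.single 1 1 : Fin 2 → ZMod 2) ≠ 0 := by decide
theorem ne_b : (Pi.single 0 1 + Pi.single 1 1 : Fin 2 → ZMod 2) ≠ Pi.single 0 1 := by decide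
theorem ne_c : (Pi.single 0 1 + Pi.single 1 1 : Fin 2 → ZMod 2) ≠ Pi.single 1 1 := by decide

/-- Every primitive affine permutation group of degree p² is 3-closed. -/
theorem result (p : ℕ) [Fact p.Prime] (G : Subgroup (Equiv.Perm (Fin 2 → ZMod p)))
    (haff : (G : Set (Equiv.Perm (Fin 2 → ZMod p))) ⊆ {τ : Equiv.Perm (Fin 2 → ZMod p) | ∃ (A : (Fin 2 → ZMod p) ≃ₗ[ZMod p] (Fin 2 → ZMod p)) (b : Fin 2 → ZMod p), ∀ x, τ x = A x + b})
    (htrans : ∀ b : Fin 2 → ZMod p, ∃ g ∈ G, ∀ x, g x = x + b) (hprim : MulAction.IsPreprimitive G (Fin 2 → ZMod p))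
    (σ : Equiv.Perm (Fin 2 → ZMod p)) (hσ : (∀ t : Fin 3 → (Fin 2 → ZMod p), ∃ g ∈ G, ∀ i, σ (t i) = g (t i))) : σ ∈ G := by
  obtain ⟨g, hgG, hg⟩ := hσ ![0, Pi.single 0 1, Pi.single 1 1]
  have hg0 : σ 0 = g 0 := hg 0
  have hg1 : σ (Pi.single 0 1) = g (Pi.single 0 1) := hg 1
  have hg2 : σ (Pi.single 1 1) = g (Pi.single 1 1) := hg 2
  suffices σ = g by rw [this]; exact hgG
  by_cases hp2 : p = 2
  · subst hp2
    -- four points
    ext1 w
    have key : ∀ w, (g⁻¹ * σ) w = w := by
      have f0 : (g⁻¹ * σ) 0 = 0 := by simp [hg0]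
      have f1 : (g⁻¹ * σ) (Pi.single 0 1) = Pi.single 0 1 := by simp [hg1]
      have f2 : (g⁻¹ * σ) (Pi.single 1 1) = Pi.single 1 1 := by simp [hg2]
      intro w
      rcases all_vec2 w with rfl | rfl | rfl | rfl
      · exact f0
      · exact f1
      · exact f2
      · set z := (g⁻¹ * σ) (Pi.single 0 1 + Pi.single 1 1) with hz
        have inj := (g⁻¹ * σ).injective
        rcases all_vec2 z with h | h | h | h
        · exfalso
          have : (g⁻¹ * σ) (Pi.single 0 1 + Pi.single 1 1) = (g⁻¹ * σ) 0 := by rw [← hz, h, f0]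
          exact ne_a (inj this)
        · exfalso
          have : (g⁻¹ * σ) (Pi.single 0 1 + Pi.single 1 1) = (g⁻¹ * σ) (Pi.single 0 1) := by
            rw [← hz, h, f1]
          exact ne_b (inj this)
        · exfalso
          have : (g⁻¹ * σ) (Pi.single 0 1 + Pi.single 1 1) = (g⁻¹ * σ) (Pi.single 1 1) := by
            rw [← hz, h, f2]
          exact ne_c (inj this)
        · exact h
    have := key w
    simp only [Equiv.Perm.mul_apply] at this
    have h2 := congrArg g this
    simpa using h2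
  · have h2 : (2 : ZMod p) ≠ 0 := by
      intro h
      have : ((2 : ℕ) : ZMod p) = 0 := by exact_mod_cast h
      rw [ZMod.natCast_eq_zero_iff] at this
      have hp := (Fact.out : p.Prime)
      have := (Nat.prime_dvd_prime_iff_eq hp Nat.prime_two).mp this
      exact hp2 this
    have hcombo := combo_of_triples (K := ZMod p) (σ : (Fin 2 → ZMod p) → (Fin 2 → ZMod p))
      (by
        intro t
        obtain ⟨g', hg'G, hg'⟩ := hσ t
        obtain ⟨A, b, hA⟩ := haff hg'G
        exact ⟨A, b, fun i => by rw [hg' i, hA]; rfl⟩)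
    obtain ⟨A, b, hA⟩ := affine_of_combo h2 σ hcombo
    obtain ⟨A', b', hA'⟩ := haff hgG
    have hb : b = b' := by
      have := hg0
      rw [hA, hA', map_zero, map_zero, zero_add, zero_add] at this
      exact this
    have hAA : (A : (Fin 2 → ZMod p) →ₗ[ZMod p] (Fin 2 → ZMod p)) = A' := by
      apply LinearMap.pi_ext'
      intro i
      ext
      fin_cases i
      · have := hg1
        rw [hA, hA', hb] at this
        simpa using congrFun (add_right_cancel this) _
      · have := hg2
        rw [hA, hA', hb] at this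
        simpa using congrFun (add_right_cancel this) _
    ext1 x
    rw [hA, hA', hb]
    congr 1
    exact LinearMap.congr_fun hAA x

end Cfsg.Agent.S3515
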