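import Mathlib
import Cfsg.Statements.S3516
import Cfsg.Agent.Lib.Helper8.Affine

set_option autoImplicit false
open Cfsg

namespace Cfsg.Agent.S3516

open Cfsg.Agent.Lib.Helper8.Affine

theorem result (p : ℕ) [Fact p.Prime] (hp : p ≠ 2) (d : ℕ) (hd : 3 ≤ d) (G : Subgroup (Equiv.Perm (Fin d → ZMod p)))
    (haff : (G : Set (Equiv.Perm (Fin d → ZMod p))) ⊆ {τ : Equiv.Perm (Fin d → ZMod p) | ∃ (A : (Fin d → ZMod p) ≃ₗ[ZMod p] (Fin d → ZMod p)) (b : Fin d → ZMod p), ∀ x, τ x = A x + b})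
    (htrans : ∀ b : Fin d → ZMod p, ∃ g ∈ G, ∀ x, g x = x + b)
    (hsl : ∀ A : (Fin d → ZMod p) ≃ₗ[ZMod p] (Fin d → ZMod p), LinearMap.det (A : (Fin d → ZMod p) →ₗ[ZMod p] (Fin d → ZMod p)) = 1 → ∃ g ∈ G, ∀ x, g x = A x)
    (σ : Equiv.Perm (Fin d → ZMod p)) :
    (∀ t : Fin 3 → (Fin d → ZMod p), ∃ g ∈ G, ∀ i, σ (t i) = g (t i)) ↔ σ ∈ {τ : Equiv.Perm (Fin d → ZMod p) | ∃ (A : (Fin d → ZMod p) ≃ₗ[ZMod p] (Fin d → ZMod p)) (b : Fin d → ZMod p), ∀ x, τ x = A x + b} := by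
  constructor
  · intro hσ
    have h2 : (2 : ZMod p) ≠ 0 := by
      intro h
      have : ((2 : ℕ) : ZMod p) = 0 := by exact_mod_cast h
      rw [ZMod.natCast_eq_zero_iff] at this
      have hp' := (Fact.out : p.Prime)
      have := (Nat.prime_dvd_prime_iff_eq hp' Nat.prime_two).mp this
      exact hp this
    have hcombo := combo_of_triples (K := ZMod p) (σ : (Fin d → ZMod p) → (Fin d → ZMod p))
      (by
        intro t
        obtain ⟨g', hg'G, hg'⟩ := hσ t
        obtain ⟨A, b, hA⟩ := haff hg'G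
        exact ⟨A, b, fun i => by rw [hg' i, hA]; rfl⟩)
    exact affine_of_combo h2 σ hcombo
  · rintro ⟨A, b, hA⟩ t
    set W : Submodule (ZMod p) (Fin d → ZMod p) :=
      Submodule.span (ZMod p) (Set.range ![t 1 - t 0, t 2 - t 0]) with hW
    have hWtop : W ≠ ⊤ := by
      intro htop
      have h1 : Module.finrank (ZMod p) W ≤ 2 := by
        have := finrank_range_le_card (R := ZMod p) ![t 1 - t 0, t 2 - t 0]
        simpa [Set.finrank] using this
      rw [htop, finrank_top] at h1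
      simp at h1
      omega
    obtain ⟨A', hdet, hagree⟩ := exists_det_one_agree A W hWtop
    obtain ⟨g1, hg1G, hg1⟩ := hsl A' hdet
    obtain ⟨g2, hg2G, hg2⟩ := htrans (A (t 0) + b - A' (t 0))
    refine ⟨g2 * g1, G.mul_mem hg2G hg1G, ?_⟩
    have hu1 : t 1 - t 0 ∈ W := Submodule.subset_span ⟨0, rfl⟩
    have hu2 : t 2 - t 0 ∈ W := Submodule.subset_span ⟨1, rfl⟩
    have key : ∀ x, x - t 0 ∈ W → σ x = (g2 * g1) x := by
      intro x hx
      rw [Equiv.Perm.mul_apply, hg2, hg1, hA]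
      have := hagree _ hx
      rw [map_sub, map_sub] at this
      have e : A' x = A x - A (t 0) + A' (t 0) := by
        rw [← this]; abel
      rw [e]; abel
    intro i
    fin_cases i
    · exact key _ (by simp)
    · exact key _ hu1
    · exact key _ hu2

end Cfsg.Agent.S3516
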