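import Mathlib
import Cfsg.Statements.S3517
-- import your own Cfsg.Agent.* helpers here

set_option autoImplicit false
open Cfsg

namespace Cfsg.Agent.S3517

/-- Two linearly independent families with the same index type in a finite-dimensional space are
related by a linear automorphism. -/
theorem exists_linearEquiv_of_linearIndependent {K V ι : Type*} [Field K] [AddCommGroup V]
    [Module K V] [FiniteDimensional K V] (u v : ι → V) (hu : LinearIndependent K u)
    (hv : LinearIndependent K v) : ∃ A : V ≃ₗ[K] V, ∀ i, A (u i) = v i := by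
  let f : Submodule.span K (Set.range u) ≃ₗ[K] Submodule.span K (Set.range v) :=
    hu.linearCombinationEquiv.symm ≪≫ₗ hv.linearCombinationEquiv
  obtain ⟨g, hg⟩ := Submodule.exists_linearEquiv_restrict_eq f
  refine ⟨g, fun i => ?_⟩
  have hx : u i ∈ Submodule.span K (Set.range u) := Submodule.subset_span (Set.mem_range_self i)
  have := hg ⟨u i, hx⟩
  rw [← this]
  show ((hv.linearCombinationEquiv (hu.linearCombinationEquiv.symm ⟨u i, hx⟩) :
    Submodule.span K (Set.range v)) : V) = v i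
  have h1 : hu.linearCombinationEquiv.symm ⟨u i, hx⟩ = Finsupp.single i 1 :=
    hu.repr_eq_single i ⟨u i, hx⟩ rfl
  rw [h1, LinearIndependent.linearCombinationEquiv_apply_coe]
  simp

theorem single {d : ℕ} (u v : Fin d → ZMod 2) (hu : u ≠ 0) (hv : v ≠ 0) :
    ∃ A : (Fin d → ZMod 2) ≃ₗ[ZMod 2] (Fin d → ZMod 2), A u = v := by
  obtain ⟨A, hA⟩ := exists_linearEquiv_of_linearIndependent (K := ZMod 2) (ι := Unit)
    (fun _ => u) (fun _ => v) (LinearIndependent.of_subsingleton () hu) (LinearIndependent.of_subsingleton () hv)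
  exact ⟨A, hA ()⟩

theorem char2 {d : ℕ} (x : Fin d → ZMod 2) : x + x = 0 := by
  ext i
  have : ∀ a : ZMod 2, a + a = 0 := by decide
  exact this (x i)

theorem indep_pair {d : ℕ} (u1 u2 : Fin d → ZMod 2) (h1 : u1 ≠ 0) (h2 : u2 ≠ 0) (h12 : u1 ≠ u2) :
    LinearIndependent (ZMod 2) ![u1, u2] := by
  rw [LinearIndependent.pair_iff]
  intro s t hst
  have h01 : ∀ a : ZMod 2, a = 0 ∨ a = 1 := by decide
  have hs : s = 0 ∨ s = 1 := h01 s
  have ht : t = 0 ∨ t = 1 := h01 t
  rcases hs with rfl | rfl <;> rcases ht with rfl | rfl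
  · exact ⟨rfl, rfl⟩
  · simp at hst; exact absurd hst h2
  · simp at hst; exact absurd hst h1
  · exfalso
    simp only [one_smul] at hst
    apply h12
    have := char2 u2
    calc u1 = u1 + (u2 + u2) := by rw [this, add_zero]
      _ = (u1 + u2) + u2 := by abel
      _ = u2 := by rw [hst, zero_add]

theorem pair {d : ℕ} (u1 u2 v1 v2 : Fin d → ZMod 2) (h1 : u1 = 0 ↔ v1 = 0) (h2 : u2 = 0 ↔ v2 = 0)
    (h12 : u1 = u2 ↔ v1 = v2) :
    ∃ A : (Fin d → ZMod 2) ≃ₗ[ZMod 2] (Fin d → ZMod 2), A u1 = v1 ∧ A u2 = v2 := by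
  by_cases hu1 : u1 = 0
  · have hv1 := h1.mp hu1
    by_cases hu2 : u2 = 0
    · have hv2 := h2.mp hu2
      exact ⟨LinearEquiv.refl _ _, by simp [hu1, hv1], by simp [hu2, hv2]⟩
    · have hv2 : v2 ≠ 0 := fun h => hu2 (h2.mpr h)
      obtain ⟨A, hA⟩ := single u2 v2 hu2 hv2
      exact ⟨A, by simp [hu1, hv1], hA⟩
  · have hv1 : v1 ≠ 0 := fun h => hu1 (h1.mpr h)
    by_cases hu2 : u2 = 0
    · have hv2 := h2.mp hu2
      obtain ⟨A, hA⟩ := single u1 v1 hu1 hv1
      exact ⟨A, hA, by simp [hu2, hv2]⟩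
    · have hv2 : v2 ≠ 0 := fun h => hu2 (h2.mpr h)
      by_cases hu12 : u1 = u2
      · have hv12 := h12.mp hu12
        obtain ⟨A, hA⟩ := single u1 v1 hu1 hv1
        exact ⟨A, hA, by rw [← hu12, hA, hv12]⟩
      · have hv12 : v1 ≠ v2 := fun h => hu12 (h12.mpr h)
        obtain ⟨A, hA⟩ := exists_linearEquiv_of_linearIndependent (K := ZMod 2)
          ![u1, u2] ![v1, v2] (indep_pair u1 u2 hu1 hu2 hu12) (indep_pair v1 v2 hv1 hv2 hv12)
        exact ⟨A, by simpa using hA 0, by simpa using hA 1⟩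

/-- For d ≥ 3, the 3-closure of the affine group AGL_d(2) acting on F_2^d is the full symmetric group: every permutation of F_2^d agrees on every ordered triple of points with some affine map (AGL_d(2) is 3-transitive). -/
theorem result (d : ℕ) (hd : 3 ≤ d) (σ : Equiv.Perm (Fin d → ZMod 2)) (t : Fin 3 → (Fin d → ZMod 2)) :
    ∃ (A : (Fin d → ZMod 2) ≃ₗ[ZMod 2] (Fin d → ZMod 2)) (b : Fin d → ZMod 2), ∀ i, σ (t i) = A (t i) + b := by
  obtain ⟨A, hA1, hA2⟩ := pair (t 1 - t 0) (t 2 - t 0) (σ (t 1) - σ (t 0)) (σ (t 2) - σ (t 0))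
    (by rw [sub_eq_zero, sub_eq_zero, σ.injective.eq_iff])
    (by rw [sub_eq_zero, sub_eq_zero, σ.injective.eq_iff])
    (by rw [sub_left_inj, sub_left_inj, σ.injective.eq_iff])
  refine ⟨A, σ (t 0) - A (t 0), ?_⟩
  intro i
  fin_cases i
  · simp
  · simp only [map_sub] at hA1
    show σ (t 1) = A (t 1) + (σ (t 0) - A (t 0))
    rw [add_sub, ← sub_add_eq_add_sub, hA1]; abel
  · simp only [map_sub] at hA2
    show σ (t 2) = A (t 2) + (σ (t 0) - A (t 0))
    rw [add_sub, ← sub_add_eq_add_sub, hA2]; abel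

end Cfsg.Agent.S3517
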