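import Mathlib
import Cfsg.Prelude.Def_Perm

set_option autoImplicit false
open Cfsg
namespace Cfsg.Agent.S3518

open Polynomial

section poly
variable {p : ℕ} [Fact p.Prime]

/-- interpolation polynomial of a function on `ZMod p` -/
noncomputable def ip (φ : ZMod p → ZMod p) : (ZMod p)[X] :=
  Lagrange.interpolate Finset.univ id φ

lemma ip_degree (φ : ZMod p → ZMod p) : (ip φ).degree < (p : WithBot ℕ) := by
  have h := Lagrange.degree_interpolate_lt (s := (Finset.univ : Finset (ZMod p))) (v := id)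
    (r := φ) (fun x _ y _ h => h)
  rwa [Finset.card_univ, ZMod.card] at h

lemma ip_eval (φ : ZMod p → ZMod p) (x : ZMod p) : (ip φ).eval x = φ x := by
  have h := Lagrange.eval_interpolate_at_node (s := (Finset.univ : Finset (ZMod p))) (v := id)
    (r := φ) (fun x _ y _ h => h) (Finset.mem_univ x)
  simpa [ip] using h

lemma poly_ext {P Q : (ZMod p)[X]} (hP : P.degree < (p : WithBot ℕ))
    (hQ : Q.degree < (p : WithBot ℕ)) (h : ∀ x, P.eval x = Q.eval x) : P = Q := by
  refine Polynomial.eq_of_degrees_lt_of_eval_finset_eq (Finset.univ : Finset (ZMod p)) ?_ ?_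
    (fun x _ => h x)
  · rwa [Finset.card_univ, ZMod.card]
  · rwa [Finset.card_univ, ZMod.card]

lemma natDeg_le {Q : (ZMod p)[X]} {n : ℕ} (h : Q.degree < ((n + 1 : ℕ) : WithBot ℕ)) :
    Q.natDegree ≤ n := by
  by_cases hQ : Q = 0
  · simp [hQ]
  · exact Nat.lt_succ_iff.mp ((natDegree_lt_iff_degree_lt hQ).mpr h)

lemma binom_sub (d : ℕ) (u v : ZMod p) :
    ∑ m ∈ Finset.range (d + 1), u ^ m * ((-1) ^ (d - m) * (d.choose m : ZMod p)) * v ^ (d - m)
      = (u - v) ^ d := by
  rw [sub_eq_add_neg, add_pow]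
  refine Finset.sum_congr rfl (fun m _ => ?_)
  rw [neg_pow v]; ring

/-- McConnel's theorem over a prime field. -/
theorem affine_of_pow (d : ℕ) (hd1 : 1 ≤ d) (hd : 2 * d < p) (f : ZMod p → ZMod p)
    (hf : ∀ x y, (f x - f y) ^ d = (x - y) ^ d) : ∃ a b : ZMod p, ∀ x, f x = a * x + b := by
  classical
  have hpr : p.Prime := Fact.out
  set F : ℕ → (ZMod p)[X] := fun j => ip (fun x => f x ^ j) with hF
  have hFdeg : ∀ j, (F j).degree < (p : WithBot ℕ) := fun j => ip_degree _
  have hFev : ∀ j x, (F j).eval x = f x ^ j := fun j x => ip_eval _ x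
  have hchoose : ∀ i ≤ d, ((d.choose i : ℕ) : ZMod p) ≠ 0 := by
    intro i hi h0
    rw [ZMod.natCast_eq_zero_iff] at h0
    have h1 : d.choose i ∣ d.factorial :=
      ⟨i.factorial * (d - i).factorial, by
        rw [← Nat.choose_mul_factorial_mul_factorial hi, mul_assoc]⟩
    have h2 : p ∣ d.factorial := h0.trans h1
    have := hpr.dvd_factorial.mp h2
    omega
  set w : ℕ → ZMod p := fun m => (-1) ^ (d - m) * (d.choose m : ZMod p) with hw
  have hw0 : ∀ i ≤ d, w i ≠ 0 := fun i hi =>
    mul_ne_zero (pow_ne_zero _ (neg_ne_zero.mpr one_ne_zero)) (hchoose i hi)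
  have hdp : d < p := by omega
  -- Claim A
  have hA : ∀ i ≤ d, (X : (ZMod p)[X]) ^ i ∈
      Submodule.span (ZMod p) (Set.range fun j : Fin (d + 1) => F j) := by
    intro i hi
    have key : ∀ x : ZMod p,
        (∑ m ∈ Finset.range (d + 1), C (f x ^ m * w m) * F (d - m)) =
        (∑ m ∈ Finset.range (d + 1), C (x ^ m * w m) * X ^ (d - m)) := by
      intro x
      refine poly_ext ?_ ?_ ?_
      · rw [← mem_degreeLT]
        refine Submodule.sum_mem _ (fun m _ => ?_)
        rw [← smul_eq_C_mul]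
        exact Submodule.smul_mem _ _ (mem_degreeLT.mpr (hFdeg _))
      · rw [← mem_degreeLT]
        refine Submodule.sum_mem _ (fun m _ => ?_)
        rw [← smul_eq_C_mul]
        refine Submodule.smul_mem _ _ (mem_degreeLT.mpr ?_)
        rw [degree_X_pow]
        have : d - m < p := by omega
        exact_mod_cast this
      · intro y
        simp only [eval_finsetSum, eval_mul, eval_C, eval_pow, eval_X, hFev]
        exact (binom_sub d (f x) (f y)).trans ((hf x y).trans (binom_sub d x y).symm)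
    have key2 : ∀ x : ZMod p,
        ∑ m ∈ Finset.range (d + 1), (f x ^ m * w m) * (F (d - m)).coeff (d - i) = x ^ i * w i := by
      intro x
      have h := congrArg (fun Q : (ZMod p)[X] => Q.coeff (d - i)) (key x)
      simp only [finsetSum_coeff, coeff_C_mul, coeff_X_pow] at h
      rw [h]
      rw [Finset.sum_eq_single i]
      · simp
      · intro m hm hmi
        have hm' : m < d + 1 := Finset.mem_range.mp hm
        have : ¬ (d - i = d - m) := by omega
        simp [this]
      · intro h'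
        exact absurd (Finset.mem_range.mpr (by omega)) h'
    have heq : C (w i) * X ^ i =
        ∑ m ∈ Finset.range (d + 1), C (w m * (F (d - m)).coeff (d - i)) * F m := by
      refine poly_ext ?_ ?_ ?_
      · rw [← mem_degreeLT, ← smul_eq_C_mul]
        refine Submodule.smul_mem _ _ (mem_degreeLT.mpr ?_)
        rw [degree_X_pow]
        have : i < p := by omega
        exact_mod_cast this
      · rw [← mem_degreeLT]
        refine Submodule.sum_mem _ (fun m _ => ?_)
        rw [← smul_eq_C_mul]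
        exact Submodule.smul_mem _ _ (mem_degreeLT.mpr (hFdeg _))
      · intro x
        simp only [eval_finsetSum, eval_mul, eval_C, eval_pow, eval_X, hFev]
        rw [mul_comm, ← key2 x]
        refine Finset.sum_congr rfl (fun m _ => ?_)
        ring
    have hXi : (X : (ZMod p)[X]) ^ i = (w i)⁻¹ • (C (w i) * X ^ i) := by
      rw [smul_eq_C_mul, ← mul_assoc, ← C_mul, inv_mul_cancel₀ (hw0 i hi), C_1, one_mul]
    rw [hXi, heq]
    refine Submodule.smul_mem _ _ (Submodule.sum_mem _ (fun m hm => ?_))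
    rw [← smul_eq_C_mul]
    refine Submodule.smul_mem _ _ (Submodule.subset_span ?_)
    exact ⟨⟨m, Finset.mem_range.mp hm⟩, rfl⟩
  -- Claim B
  have hB : ∀ j ≤ d, (F j).degree < ((d + 1 : ℕ) : WithBot ℕ) := by
    set S := Submodule.span (ZMod p) (Set.range fun j : Fin (d + 1) => F j) with hS
    have hle : degreeLT (ZMod p) (d + 1) ≤ S := by
      rw [degreeLT_eq_span_X_pow, Submodule.span_le]
      intro Q hQ
      simp only [Finset.coe_image, Set.mem_image, Finset.coe_range, Set.mem_Iio] at hQ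
      obtain ⟨i, hi, rfl⟩ := hQ
      exact hA i (by omega)
    have hfin : Module.finrank (ZMod p) S ≤ d + 1 := by
      have := finrank_range_le_card (R := ZMod p) (fun j : Fin (d + 1) => F j)
      simpa [Set.finrank] using this
    have hfin2 : Module.finrank (ZMod p) (degreeLT (ZMod p) (d + 1)) = d + 1 := by
      rw [LinearEquiv.finrank_eq (degreeLTEquiv (ZMod p) (d + 1))]; simp
    have heq : degreeLT (ZMod p) (d + 1) = S := by
      haveI : FiniteDimensional (ZMod p) S :=
        FiniteDimensional.span_of_finite _ (Set.finite_range _)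
      exact Submodule.eq_of_le_of_finrank_le hle (by omega)
    intro j hj
    rw [← mem_degreeLT, heq]
    exact Submodule.subset_span ⟨⟨j, by omega⟩, rfl⟩
  -- Claim C
  set P := F 1 with hPdef
  have hP1 : P.natDegree ≤ d := natDeg_le (hB 1 hd1)
  have hr : P.natDegree ≤ 1 := by
    by_contra hcon
    have hr2 : 2 ≤ P.natDegree := by omega
    set r := P.natDegree with hrdef
    set j := d / r + 1 with hjdef
    have h1 : (d / r) * r ≤ d := Nat.div_mul_le_self d r
    have h2 : d < r * (d / r + 1) := Nat.lt_mul_div_succ d (by omega)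
    have h3 : d / r ≤ d / 2 := Nat.div_le_div_left hr2 (by norm_num)
    have hjd : j ≤ d := by omega
    have hjr : j * r < p := by
      have : j * r = (d / r) * r + r := by rw [hjdef]; ring
      omega
    have hPj : P ^ j = F j := by
      refine poly_ext ?_ (hFdeg j) ?_
      · refine lt_of_le_of_lt degree_le_natDegree ?_
        rw [natDegree_pow]
        exact_mod_cast hjr
      · intro x
        rw [eval_pow, hFev, hFev, pow_one]
    have h4 : (F j).natDegree ≤ d := natDeg_le (hB j hjd)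
    rw [← hPj, natDegree_pow, ← hrdef] at h4
    have : d < j * r := by rw [mul_comm]; exact h2
    omega
  obtain ⟨a, b, hab⟩ := exists_eq_X_add_C_of_natDegree_le_one hr
  refine ⟨a, b, fun x => ?_⟩
  have := hFev 1 x
  rw [pow_one] at this
  rw [← this, ← hPdef, hab]
  simp

end poly


section grp
variable {p : ℕ} [Fact p.Prime]

lemma affine_eq_of_agree {g g' : Equiv.Perm (ZMod p)} (hg : g ∈ Cfsg.affineGroup (ZMod p))
    (hg' : g' ∈ Cfsg.affineGroup (ZMod p)) (h0 : g 0 = g' 0) (h1 : g 1 = g' 1) (x : ZMod p) :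
    g x = g' x := by
  obtain ⟨a, b, hab⟩ := hg
  obtain ⟨a', b', hab'⟩ := hg'
  have e0 : b = b' := by simpa [hab, hab'] using h0
  have e1 : (a : ZMod p) = a' := by
    have := h1
    rw [hab, hab', e0] at this
    simpa using this
  rw [hab, hab', e0, e1]

theorem part_one (G : Subgroup (Equiv.Perm (ZMod p))) (hG : G ≤ Cfsg.affineGroup (ZMod p))
    (htrans : ∀ b : ZMod p, ∃ g ∈ G, ∀ x, g x = x + b) (hne : G ≠ Cfsg.affineGroup (ZMod p))
    (σ : Equiv.Perm (ZMod p))
    (hσ : ∀ t : Fin 2 → ZMod p, ∃ g ∈ G, ∀ i, σ (t i) = g (t i)) : σ ∈ G := by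
  classical
  have hpr : p.Prime := Fact.out
  let H : Subgroup (ZMod p)ˣ :=
    { carrier := {a | ∃ g ∈ G, ∀ x, g x = (a : ZMod p) * x}
      one_mem' := ⟨1, G.one_mem, fun x => by simp⟩
      mul_mem' := by
        rintro a b ⟨g, hg, hga⟩ ⟨h, hh, hhb⟩
        exact ⟨g * h, G.mul_mem hg hh, fun x => by simp [hga, hhb, mul_assoc]⟩
      inv_mem' := by
        rintro a ⟨g, hg, hga⟩
        refine ⟨g⁻¹, G.inv_mem hg, fun x => ?_⟩
        apply g.injective
        rw [← Equiv.Perm.mul_apply, mul_inv_cancel, Equiv.Perm.one_apply, hga, ← mul_assoc,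
          ← Units.val_mul, mul_inv_cancel, Units.val_one, one_mul] }
  have hmemH : ∀ a : (ZMod p)ˣ, a ∈ H ↔ ∃ g ∈ G, ∀ x, g x = (a : ZMod p) * x := fun a => Iff.rfl
  -- every element of G has multiplier in H
  have hGH : ∀ g ∈ G, ∃ a ∈ H, ∃ b : ZMod p, ∀ x, g x = (a : ZMod p) * x + b := by
    intro g hg
    obtain ⟨a, b, hab⟩ := hG hg
    obtain ⟨t, htG, ht⟩ := htrans (-b)
    refine ⟨a, ⟨t * g, G.mul_mem htG hg, fun x => ?_⟩, b, hab⟩
    rw [Equiv.Perm.mul_apply, ht, hab]; ring
  have hHtop : H ≠ ⊤ := by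
    intro htop
    apply hne
    refine le_antisymm hG ?_
    rintro τ ⟨a, b, hab⟩
    have ha : a ∈ H := htop ▸ Subgroup.mem_top a
    obtain ⟨g, hgG, hg⟩ := ha
    obtain ⟨t, htG, ht⟩ := htrans b
    have : τ = t * g := by
      ext x
      rw [Equiv.Perm.mul_apply, ht, hg, hab]
    rw [this]; exact G.mul_mem htG hgG
  set d := Nat.card H with hd
  have hd1 : 1 ≤ d := Nat.card_pos
  have hcardU : Nat.card (ZMod p)ˣ = p - 1 := by
    rw [Nat.card_eq_fintype_card, ZMod.card_units]
  have hdvd : d ∣ p - 1 := hcardU ▸ Subgroup.card_subgroup_dvd_card H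
  have hdne : d ≠ p - 1 := by
    intro h
    exact hHtop ((Subgroup.card_eq_iff_eq_top H).mp (h.trans hcardU.symm))
  have h2d : 2 * d < p := by
    obtain ⟨e, he⟩ := hdvd
    have hp2 := hpr.two_le
    have he0 : e ≠ 0 := by rintro rfl; omega
    have he1 : e ≠ 1 := by rintro rfl; omega
    have : 2 ≤ e := by omega
    have : d * 2 ≤ d * e := Nat.mul_le_mul_left d this
    omega
  have hpow : ∀ a ∈ H, ((a : (ZMod p)ˣ) : ZMod p) ^ d = 1 := by
    intro a ha
    have h1 : (⟨a, ha⟩ : H) ^ Nat.card H = 1 := pow_card_eq_one'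
    have h2 : a ^ d = 1 := by
      have := congrArg Subtype.val h1
      simpa only [Subgroup.coe_pow, Subgroup.coe_one] using this
    have := congrArg Units.val h2
    simpa using this
  have hf : ∀ x y, (σ x - σ y) ^ d = (x - y) ^ d := by
    intro x y
    obtain ⟨g, hgG, hg⟩ := hσ ![x, y]
    obtain ⟨a, haH, b, hab⟩ := hGH g hgG
    have e0 : σ x = g x := by simpa using hg 0
    have e1 : σ y = g y := by simpa using hg 1
    rw [e0, e1, hab, hab]
    have : (a : ZMod p) * x + b - ((a : ZMod p) * y + b) = (a : ZMod p) * (x - y) := by ring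
    rw [this, mul_pow, hpow a haH, one_mul]
  obtain ⟨a', b', hab'⟩ := affine_of_pow d hd1 h2d (fun x => σ x) hf
  obtain ⟨g₀, hg₀G, hg₀⟩ := hσ ![0, 1]
  have e0 : σ 0 = g₀ 0 := by simpa using hg₀ 0
  have e1 : σ 1 = g₀ 1 := by simpa using hg₀ 1
  obtain ⟨a₀, b₀, hab₀⟩ := hG hg₀G
  have hb : b' = b₀ := by
    have := e0
    rw [hab', hab₀] at this
    simpa using this
  have ha : a' = (a₀ : ZMod p) := by
    have := e1
    rw [hab', hab₀, hb] at this
    simpa using this
  have : σ = g₀ := by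
    ext x
    rw [hab', hab₀, hb, ha]
  rw [this]; exact hg₀G

end grp

/-- Closures of subgroups of the one-dimensional affine group. -/
theorem result (p : ℕ) [Fact p.Prime] (G : Subgroup (Equiv.Perm (ZMod p))) (hG : G ≤ Cfsg.affineGroup (ZMod p))
    (htrans : ∀ b : ZMod p, ∃ g ∈ G, ∀ x, g x = x + b) :
    (G ≠ Cfsg.affineGroup (ZMod p) → ∀ σ : Equiv.Perm (ZMod p), (∀ t : Fin 2 → ZMod p, ∃ g ∈ G, ∀ i, σ (t i) = g (t i)) → σ ∈ G) ∧
    (∀ σ : Equiv.Perm (ZMod p), (∀ t : Fin 2 → ZMod p, ∃ g ∈ Cfsg.affineGroup (ZMod p), ∀ i, σ (t i) = g (t i))) ∧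
    (∀ σ : Equiv.Perm (ZMod p), (∀ t : Fin 3 → ZMod p, ∃ g ∈ Cfsg.affineGroup (ZMod p), ∀ i, σ (t i) = g (t i)) → σ ∈ Cfsg.affineGroup (ZMod p)) := by
  refine ⟨fun hne σ hσ => part_one G hG htrans hne σ hσ, ?_, ?_⟩
  · intro σ t
    by_cases h : t 0 = t 1
    · refine ⟨Equiv.addRight (σ (t 0) - t 0), ⟨1, σ (t 0) - t 0, fun x => by simp⟩, ?_⟩
      rw [Fin.forall_fin_two]
      refine ⟨by simp, ?_⟩
      rw [← h]; simp
    · have hsub : t 0 - t 1 ≠ 0 := sub_ne_zero.mpr h
      have hσsub : σ (t 0) - σ (t 1) ≠ 0 := sub_ne_zero.mpr (fun h' => h (σ.injective h'))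
      set a : ZMod p := (σ (t 0) - σ (t 1)) / (t 0 - t 1) with ha
      have ha0 : a ≠ 0 := div_ne_zero hσsub hsub
      have hamul : a * (t 0 - t 1) = σ (t 0) - σ (t 1) := div_mul_cancel₀ _ hsub
      refine ⟨Equiv.addRight (σ (t 0) - a * t 0) * Equiv.mulLeft₀ a ha0,
        ⟨Units.mk0 a ha0, σ (t 0) - a * t 0, fun x => by simp⟩, ?_⟩
      rw [Fin.forall_fin_two]
      refine ⟨by simp, ?_⟩
      simp only [Equiv.Perm.mul_apply, Equiv.mulLeft₀_apply, Equiv.coe_addRight]
      have : a * t 1 = a * t 0 - (σ (t 0) - σ (t 1)) := by rw [← hamul]; ring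
      rw [this]; ring
  · intro σ hσ
    obtain ⟨g₁, hg₁, h₁⟩ := hσ ![0, 1, 0]
    have e0 : σ 0 = g₁ 0 := by simpa using h₁ 0
    have e1 : σ 1 = g₁ 1 := by simpa using h₁ 1
    have : σ = g₁ := by
      ext x
      obtain ⟨g, hg, h⟩ := hσ ![0, 1, x]
      have f0 : σ 0 = g 0 := by simpa using h 0
      have f1 : σ 1 = g 1 := by simpa using h 1
      have f2 : σ x = g x := by simpa using h 2
      rw [f2]
      exact affine_eq_of_agree hg hg₁ (f0.symm.trans e0) (f1.symm.trans e1) x
    rw [this]; exact hg₁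

end Cfsg.Agent.S3518
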