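import Cfsg.Statements.S3532
import Cfsg.Agent.S2475
import Cfsg.Agent.H9.AffSpec

set_option autoImplicit false
open Cfsg

namespace Cfsg.Agent.S3532

open Cfsg.Agent.H9.AffSpec

/-- a unit of prescribed order dividing `|K| - 1` -/
theorem exists_unit (K : Type) [Field K] [Finite K] (m : ℕ) (hm : m ∣ Nat.card K - 1) :
    ∃ ζ : Kˣ, orderOf ζ = m := by
  obtain ⟨g, hg⟩ := IsCyclic.exists_ofOrder_eq_natCard (α := Kˣ)
  rw [Nat.card_units] at hg
  obtain ⟨e, he⟩ := hm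
  have hpos : 0 < Nat.card K - 1 := by
    have := Finite.one_lt_card (α := K)
    omega
  have he0 : e ≠ 0 := by
    rintro rfl
    rw [mul_zero] at he
    omega
  refine ⟨g ^ e, ?_⟩
  rw [orderOf_pow_of_dvd he0 ⟨m, by rw [hg, he, mul_comm]⟩, hg, he]
  exact Nat.mul_div_cancel _ (Nat.pos_of_ne_zero he0)

/-- the combinatorial identity of lcm-sets -/
theorem lcm_sets (p b c : ℕ) :
    {n | ∃ x ∈ {m | m ∣ p ∨ m ∣ b}, ∃ y ∈ {m | m ∣ p ∨ m ∣ c}, n = Nat.lcm x y} =
      {n | ∃ x ∈ {m | m ∣ p ∨ m ∣ b ∨ m ∣ c}, ∃ y ∈ {m | m ∣ p ∨ m ∣ b ∨ m ∣ c},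
        n = Nat.lcm x y} := by
  ext n
  simp only [Set.mem_ofPred_eq]
  constructor
  · rintro ⟨x, hx, y, hy, rfl⟩
    refine ⟨x, ?_, y, ?_, rfl⟩
    · rcases hx with h | h
      · exact Or.inl h
      · exact Or.inr (Or.inl h)
    · rcases hy with h | h
      · exact Or.inl h
      · exact Or.inr (Or.inr h)
  · rintro ⟨x, hx, y, hy, rfl⟩
    rcases hx with hx | hx | hx <;> rcases hy with hy | hy | hy
    · exact ⟨Nat.lcm x y, Or.inl (Nat.lcm_dvd hx hy), 1, Or.inl (one_dvd _), by simp⟩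
    · exact ⟨y, Or.inr hy, x, Or.inl hx, Nat.lcm_comm x y⟩
    · exact ⟨x, Or.inl hx, y, Or.inr hy, rfl⟩
    · exact ⟨x, Or.inr hx, y, Or.inl hy, rfl⟩
    · exact ⟨Nat.lcm x y, Or.inr (Nat.lcm_dvd hx hy), 1, Or.inl (one_dvd _), by simp⟩
    · exact ⟨x, Or.inr hx, y, Or.inr hy, rfl⟩
    · exact ⟨y, Or.inl hy, x, Or.inr hx, Nat.lcm_comm x y⟩
    · exact ⟨y, Or.inr hy, x, Or.inr hx, Nat.lcm_comm x y⟩
    · exact ⟨1, Or.inl (one_dvd _), Nat.lcm x y, Or.inr (Nat.lcm_dvd hx hy), by simp⟩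

/-- Let q ≥ 4 be a prime power and L = PSL(2,q). There is a finite solvable group with the same set of element orders as L × L (so L × L is not determined by its spectrum). -/
theorem result {F : Type*} [Field F] [Fintype F] (hF : 4 ≤ Fintype.card F) :
    ∃ (H : Type) (_ : Group H) (_ : Finite H), Group.IsSolvable H ∧
      Set.range (orderOf : H → ℕ) = Set.range (orderOf : Matrix.ProjectiveSpecialLinearGroup (Fin 2) F × Matrix.ProjectiveSpecialLinearGroup (Fin 2) F → ℕ) := by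
  obtain ⟨p, hchar⟩ := CharP.exists F
  have : Fact p.Prime := ⟨CharP.char_is_prime F p⟩
  obtain ⟨k, hp, hq⟩ := FiniteField.card F p
  set q := Fintype.card F with hqdef
  set d := Nat.gcd 2 (q - 1) with hd
  have hdq : d ∣ q - 1 := Nat.gcd_dvd_right _ _
  have hd2 : d ∣ 2 := Nat.gcd_dvd_left _ _
  have hdq' : d ∣ q + 1 := by
    have : q + 1 = (q - 1) + 2 := by omega
    rw [this]
    exact Nat.dvd_add hdq hd2
  have hK1 : Nat.card (GaloisField p k) = q := by
    rw [GaloisField.card p k k.ne_zero, hq]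
  have hK2 : Nat.card (GaloisField p (2 * k)) = q ^ 2 := by
    rw [GaloisField.card p (2 * k) (by positivity), hq, ← pow_mul, mul_comm]
  obtain ⟨ζ1, hζ1⟩ := exists_unit (GaloisField p k) ((q - 1) / d) (by
    rw [hK1]
    exact Nat.div_dvd_of_dvd hdq)
  obtain ⟨ζ2, hζ2⟩ := exists_unit (GaloisField p (2 * k)) ((q + 1) / d) (by
    rw [hK2]
    have h1 : q ^ 2 - 1 = (q + 1) * (q - 1) := by
      obtain ⟨j, hj⟩ : ∃ j, q = j + 1 := ⟨q - 1, by omega⟩
      rw [hj]
      have : (j + 1) ^ 2 = (j + 1 + 1) * j + 1 := by ring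
      rw [this]
      simp
    rw [h1]
    exact (Nat.div_dvd_of_dvd hdq').mul_right _)
  refine ⟨Aff (Subgroup.zpowers ζ1) × Aff (Subgroup.zpowers ζ2), inferInstance, inferInstance,
    ?_, ?_⟩
  · have h1 := isSolvable (Subgroup.zpowers ζ1)
    have h2 := isSolvable (Subgroup.zpowers ζ2)
    infer_instance
  · rw [range_orderOf_prod, range_orderOf_prod, range_orderOf p ζ1, range_orderOf p ζ2, hζ1, hζ2,
      Cfsg.Agent.S2475.result p hF]
    exact lcm_sets p _ _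

end Cfsg.Agent.S3532
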