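import Mathlib
import Cfsg.Statements.S3546
import Cfsg.Agent.Lib.Helper8.Derangement

set_option autoImplicit false
open Cfsg

namespace Cfsg.Agent.S3546

open Cfsg.Agent.Lib.Helper8.Derangement

theorem result {G Ω : Type*} [Group G] [Finite G] [MulAction G Ω] [FaithfulSMul G Ω] [Finite Ω]
    (htrans : MulAction.IsPretransitive G Ω) :
    MulAction.IsPretransitive ↥(Subgroup.closure {g : G | ∀ ω : Ω, g • ω ≠ ω}) Ω ∧
    ∀ g : G, Nat.card (MulAction.fixedBy Ω g) ≠ 1 → g ∈ Subgroup.closure {g : G | ∀ ω : Ω, g • ω ≠ ω} := by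
  rcases isEmpty_or_nonempty Ω with hΩ | hΩ
  · refine ⟨⟨fun x => (hΩ.false x).elim⟩, ?_⟩
    intro g _
    have : g = 1 := by
      apply FaithfulSMul.eq_of_smul_eq_smul (α := Ω)
      intro x; exact (hΩ.false x).elim
    rw [this]; exact Subgroup.one_mem _
  · obtain ⟨h1, h2⟩ := main (G := G) (Ω := Ω) htrans
    refine ⟨h1, ?_⟩
    intro g hg
    by_contra hmem
    exact hg (h2 g hmem)

end Cfsg.Agent.S3546
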