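import Mathlib
import Cfsg.Statements.S3547
import Cfsg.Agent.Lib.Helper8.Derangement

set_option autoImplicit false
open Cfsg

namespace Cfsg.Agent.S3547

open Cfsg.Agent.Lib.Helper8.Derangement

theorem result {G Ω : Type*} [Group G] [Finite G] [MulAction G Ω] [FaithfulSMul G Ω] [Finite Ω]
    (htrans : MulAction.IsPretransitive G Ω) :
    Nat.card (MulAction.orbitRel.Quotient ↥(Subgroup.closure {g : G | ∀ ω : Ω, g • ω ≠ ω}) (Ω × Ω)) - 1 =
      (Nat.card (MulAction.orbitRel.Quotient G (Ω × Ω)) - 1) * (Subgroup.closure {g : G | ∀ ω : Ω, g • ω ≠ ω}).index := by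
  rcases isEmpty_or_nonempty Ω with hΩ | hΩ
  · have h1 : IsEmpty (MulAction.orbitRel.Quotient ↥(Subgroup.closure {g : G | ∀ ω : Ω, g • ω ≠ ω}) (Ω × Ω)) := by
      constructor
      intro q
      induction q using Quotient.inductionOn' with
      | h x => exact hΩ.false x.1
    have h2 : IsEmpty (MulAction.orbitRel.Quotient G (Ω × Ω)) := by
      constructor
      intro q
      induction q using Quotient.inductionOn' with
      | h x => exact hΩ.false x.1
    rw [Nat.card_of_isEmpty, Nat.card_of_isEmpty]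
    simp
  · have h := rank_formula (G := G) (Ω := Ω) htrans
    have hr : 1 ≤ Nat.card (MulAction.orbitRel.Quotient G (Ω × Ω)) := by
      have : Nonempty (MulAction.orbitRel.Quotient G (Ω × Ω)) :=
        ⟨Quotient.mk'' (Classical.arbitrary Ω, Classical.arbitrary Ω)⟩
      exact Nat.card_pos
    obtain ⟨r, hr'⟩ : ∃ r, Nat.card (MulAction.orbitRel.Quotient G (Ω × Ω)) = r + 1 := ⟨_, (Nat.sub_add_cancel hr).symm⟩
    rw [hr'] at h ⊢
    simp only [Nat.add_sub_cancel]
    have : (r + 1) * (derSub G Ω).index = r * (derSub G Ω).index + (derSub G Ω).index := by ring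
    rw [this] at h
    show Nat.card (MulAction.orbitRel.Quotient ↥(derSub G Ω) (Ω × Ω)) - 1 = r * (derSub G Ω).index
    omega

end Cfsg.Agent.S3547
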