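import Mathlib
import Cfsg.Statements.S3548
import Cfsg.Agent.Lib.Helper8.DerIndex

set_option autoImplicit false
open Cfsg

namespace Cfsg.Agent.S3548

open MulAction Cfsg.Agent.Lib.Helper8.Derangement Cfsg.Agent.Lib.Helper8.DerIndex

theorem part2 {G Ω : Type*} [Group G] [Finite G] [MulAction G Ω] [FaithfulSMul G Ω] [Finite Ω]
    (htrans : MulAction.IsPretransitive G Ω) (hΩ : 2 ≤ Nat.card Ω)
    (hidx : (derSub G Ω).index = Nat.card Ω - 1) : IsPrimePow (Nat.card Ω) := by
  classical
  have hne : Nonempty Ω := by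
    have h0 : 0 < Nat.card Ω := by omega
    exact (Nat.card_pos_iff.1 h0).1
  obtain ⟨a⟩ := hne
  have hne : Nonempty Ω := ⟨a⟩
  have hDn : (derSub G Ω).Normal := derSub_normal
  have hDtr := (main (G := G) (Ω := Ω) htrans).1
  have hXcard : Nat.card (SubMulAction.ofStabilizer G a) = Nat.card Ω - 1 :=
    SubMulAction.nat_card_ofStabilizer_eq G a
  have hN'idx : ((derSub G Ω).subgroupOf (stabilizer G a)).index = Nat.card Ω - 1 := by
    have := relIndex_stab htrans a
    rw [hidx] at this
    exact this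
  have hstab_le : ∀ y : SubMulAction.ofStabilizer G a,
      stabilizer (stabilizer G a) y ≤ (derSub G Ω).subgroupOf (stabilizer G a) := by
    intro y g hg
    rw [Subgroup.mem_subgroupOf]
    have hy : (y : Ω) ≠ a := y.2
    have h1 : (g : G) • (y : Ω) = y := congrArg Subtype.val (mem_stabilizer_iff.1 hg)
    exact mem_derSub_of_fix_two htrans hy.symm g.2 h1
  -- orbit sizes
  have horb : ∀ y : SubMulAction.ofStabilizer G a,
      (stabilizer (stabilizer G a) y).index = Nat.card Ω - 1 := by
    intro y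
    have h1 : (stabilizer (stabilizer G a) y).index ≤ Nat.card Ω - 1 := by
      rw [index_stabilizer, ← hXcard, ← Set.ncard_univ]
      exact Set.ncard_le_ncard (Set.subset_univ _) (Set.toFinite _)
    have h2 := Subgroup.index_dvd_of_le (hstab_le y)
    rw [hN'idx] at h2
    have h3 : (stabilizer (stabilizer G a) y).index ≠ 0 := Subgroup.index_ne_zero_of_finite
    have := Nat.le_of_dvd (Nat.pos_of_ne_zero h3) h2
    omega
  -- stabilizers equal N'
  have hstab_eq : ∀ y : SubMulAction.ofStabilizer G a,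
      (derSub G Ω).subgroupOf (stabilizer G a) ≤ stabilizer (stabilizer G a) y := by
    intro y
    rw [← Subgroup.relIndex_eq_one]
    have h1 := Subgroup.relIndex_mul_index (hstab_le y)
    rw [horb y, hN'idx] at h1
    have hpos : 0 < Nat.card Ω - 1 := by omega
    exact Nat.eq_of_mul_eq_mul_right hpos (by rw [h1, one_mul])
  -- D ∩ S = ⊥
  have hDS : ∀ g : G, g ∈ derSub G Ω → g • a = a → g = 1 := by
    intro g hgD hga
    apply FaithfulSMul.eq_of_smul_eq_smul (α := Ω)
    intro x
    rw [one_smul]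
    by_cases hx : x = a
    · rw [hx]; exact hga
    · have hmem : (⟨g, hga⟩ : stabilizer G a) ∈ (derSub G Ω).subgroupOf (stabilizer G a) := by
        rw [Subgroup.mem_subgroupOf]; exact hgD
      have := hstab_eq ⟨x, hx⟩ hmem
      exact congrArg Subtype.val (mem_stabilizer_iff.1 this)
  -- S transitive on X
  have hStr : ∀ x y : Ω, x ≠ a → y ≠ a → ∃ s : G, s • a = a ∧ s • x = y := by
    intro x y hx hy
    have h1 : (orbit (stabilizer G a) (⟨x, hx⟩ : SubMulAction.ofStabilizer G a)) = Set.univ := by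
      apply Set.eq_of_subset_of_ncard_le (Set.subset_univ _) _ (Set.toFinite _)
      rw [Set.ncard_univ, ← index_stabilizer, horb, hXcard]
    have h2 : (⟨y, hy⟩ : SubMulAction.ofStabilizer G a) ∈
        orbit (stabilizer G a) (⟨x, hx⟩ : SubMulAction.ofStabilizer G a) := by
      rw [h1]; exact Set.mem_univ _
    obtain ⟨s, hs⟩ := h2
    exact ⟨s, s.2, congrArg Subtype.val hs⟩
  -- all non-identity elements of D are conjugate
  have hconj : ∀ d d' : G, d ∈ derSub G Ω → d' ∈ derSub G Ω → d ≠ 1 → d' ≠ 1 →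
      orderOf d = orderOf d' := by
    intro d d' hd hd' hd1 hd'1
    have hda : d • a ≠ a := fun h => hd1 (hDS d hd h)
    have hd'a : d' • a ≠ a := fun h => hd'1 (hDS d' hd' h)
    obtain ⟨s, hsa, hs⟩ := hStr _ _ hda hd'a
    have hsa' : s⁻¹ • a = a := by rw [inv_smul_eq_iff, hsa]
    have h1 : d'⁻¹ * (s * d * s⁻¹) = 1 := by
      apply hDS
      · exact Subgroup.mul_mem _ (Subgroup.inv_mem _ hd') (hDn.conj_mem d hd s)
      · rw [mul_smul, mul_smul, mul_smul, hsa', hs, inv_smul_smul]
    have h2 : s * d * s⁻¹ = d' := by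
      have := congrArg (fun z => d' * z) h1
      simpa using this
    rw [← h2]
    have : s * d * s⁻¹ = MulAut.conj s d := by simp
    rw [this, MulEquiv.orderOf_eq]
  -- |D| = n
  have hDcard : Nat.card (derSub G Ω) = Nat.card Ω := by
    have h1 := index_stabilizer_of_transitive (derSub G Ω) a
    have h2 : stabilizer (derSub G Ω) a = ⊥ := by
      rw [Subgroup.eq_bot_iff_forall]
      intro d hd
      apply Subtype.ext
      exact hDS d d.2 hd
    rw [h2, Subgroup.index_bot] at h1
    exact h1
  -- pick prime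
  set p := (Nat.card Ω).minFac with hp
  have hpp : p.Prime := Nat.minFac_prime (by omega)
  have hpdvd : p ∣ Nat.card (derSub G Ω) := by rw [hDcard]; exact Nat.minFac_dvd _
  have hfact : Fact p.Prime := ⟨hpp⟩
  obtain ⟨d₀, hd₀⟩ := exists_prime_orderOf_dvd_card' p hpdvd
  have hd₀1 : (d₀ : G) ≠ 1 := by
    intro h
    have : d₀ = 1 := Subtype.ext h
    rw [this, orderOf_one] at hd₀
    exact hpp.one_lt.ne hd₀
  have hd₀' : orderOf (d₀ : G) = p := by rw [Subgroup.orderOf_coe]; exact hd₀
  have hPG : IsPGroup p (derSub G Ω) := by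
    intro d
    by_cases hd1 : (d : G) = 1
    · exact ⟨0, by rw [pow_zero, pow_one]; exact Subtype.ext hd1⟩
    · refine ⟨1, ?_⟩
      have := hconj d d₀ d.2 d₀.2 hd1 hd₀1
      rw [hd₀'] at this
      apply Subtype.ext
      rw [pow_one, Subgroup.coe_pow, ← this, pow_orderOf_eq_one]
      rfl
  obtain ⟨k, hk⟩ := hPG.exists_card_eq
  rw [hDcard] at hk
  rw [hk]
  have hk0 : k ≠ 0 := by
    intro h
    rw [h, pow_zero] at hk
    omega
  exact (Nat.Prime.prime hpp).isPrimePow.pow hk0

/-- Let G act faithfully and transitively on a finite set with n ≥ 2 points and let D be the subgroup generated by the derangements. Then the index of D in G divides n − 1, and if it equals n − 1 then n is a prime power. -/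
theorem result {G Ω : Type*} [Group G] [Finite G] [MulAction G Ω] [FaithfulSMul G Ω] [Finite Ω]
    (htrans : MulAction.IsPretransitive G Ω) (hΩ : 2 ≤ Nat.card Ω) :
    (Subgroup.closure {g : G | ∀ ω : Ω, g • ω ≠ ω}).index ∣ Nat.card Ω - 1 ∧
    ((Subgroup.closure {g : G | ∀ ω : Ω, g • ω ≠ ω}).index = Nat.card Ω - 1 → IsPrimePow (Nat.card Ω)) := by
  have hne : Nonempty Ω := by
    have h0 : 0 < Nat.card Ω := by omega
    exact (Nat.card_pos_iff.1 h0).1
  obtain ⟨a⟩ := hne
  exact ⟨index_dvd_pred htrans a, fun h => part2 htrans hΩ h⟩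

end Cfsg.Agent.S3548
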