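import Mathlib
import Cfsg.Statements.S3549
import Cfsg.Agent.Lib.Helper8.DerIndex

set_option autoImplicit false
open Cfsg

namespace Cfsg.Agent.S3549

open MulAction Cfsg.Agent.Lib.Helper8.Derangement Cfsg.Agent.Lib.Helper8.DerIndex
open scoped Pointwise

/-- the index divides `|B| - 1` for a block `B` -/
theorem index_dvd_block {G Ω : Type*} [Group G] [Finite G] [MulAction G Ω] [Finite Ω]
    (htrans : IsPretransitive G Ω) (B : Set Ω) (hB : IsBlock G B) (a : Ω) (ha : a ∈ B) :
    (derSub G Ω).index ∣ B.ncard - 1 := by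
  -- the sub-action of the stabilizer of `a` on `B \ {a}`
  let Y : SubMulAction (stabilizer G a) Ω :=
    { carrier := B \ {a}
      smul_mem' := by
        rintro ⟨s, hs⟩ y ⟨hyB, hya⟩
        have hsB : s • B = B := hB.stabilizer_le ha hs
        refine ⟨?_, ?_⟩
        · show s • y ∈ B
          rw [← hsB]
          exact Set.smul_mem_smul_set hyB
        · intro h
          apply hya
          have h1 : s • y = a := h
          have h2 : s • a = a := hs
          rw [Set.mem_singleton_iff]
          rw [← h2] at h1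
          exact smul_left_cancel s h1 }
  have hYcard : Nat.card Y = B.ncard - 1 := by
    have : Nat.card Y = (B \ {a}).ncard := Nat.card_coe_set_eq (B \ {a})
    rw [this, Set.ncard_sdiff_singleton_of_mem ha]
  rw [← relIndex_stab htrans a, ← hYcard]
  apply index_dvd_card ((derSub G Ω).subgroupOf (stabilizer G a))
  intro y g hg
  rw [Subgroup.mem_subgroupOf]
  have hy : (y : Ω) ≠ a := fun h => y.2.2 (by rw [h]; exact Set.mem_singleton a)
  have h1 : (g : G) • (y : Ω) = y := congrArg Subtype.val (mem_stabilizer_iff.1 hg)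
  exact mem_derSub_of_fix_two htrans hy.symm g.2 h1

/-- the index divides the number of translates of a block minus one -/
theorem index_dvd_translates {G Ω : Type*} [Group G] [Finite G] [MulAction G Ω] [Finite Ω]
    (htrans : IsPretransitive G Ω) (B : Set Ω) (hB : IsBlock G B) (a : Ω) (ha : a ∈ B) :
    (derSub G Ω).index ∣ (orbit G B).ncard - 1 := by
  have hfin : Finite (orbit G B) := Set.toFinite _ |>.to_subtype
  have h1 : (derSub G (orbit G B)).index ∣ Nat.card (orbit G B) - 1 :=
    index_dvd_pred (G := G) (Ω := orbit G B) inferInstance ⟨B, mem_orbit_self B⟩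
  rw [Nat.card_coe_set_eq] at h1
  refine dvd_trans (Subgroup.index_dvd_of_le ?_) h1
  apply Subgroup.closure_mono
  intro g hg ω hω
  obtain ⟨h, rfl⟩ := htrans.exists_smul_eq a ω
  apply hg ⟨h • B, mem_orbit _ _⟩
  apply Subtype.ext
  show g • (h • B) = h • B
  have hB' : IsBlock G (h • B) := hB.translate h
  apply hB'.smul_eq_of_nonempty
  refine ⟨h • a, ?_, Set.smul_mem_smul_set ha⟩
  rw [← hω]
  exact Set.smul_mem_smul_set (Set.smul_mem_smul_set ha)

/-- Let G act faithfully, transitively but imprimitively on a finite set with n points, and let D be the subgroup generated by the derangements. Then the index of D in G is at most √n − 1. -/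
theorem result {G Ω : Type*} [Group G] [Finite G] [MulAction G Ω] [FaithfulSMul G Ω] [Finite Ω]
    (htrans : MulAction.IsPretransitive G Ω) (himp : ¬ MulAction.IsPreprimitive G Ω) :
    ((Subgroup.closure {g : G | ∀ ω : Ω, g • ω ≠ ω}).index : ℝ) ≤ Real.sqrt (Nat.card Ω) - 1 := by
  have hex : ∃ B : Set Ω, IsBlock G B ∧ ¬ IsTrivialBlock B := by
    by_contra hno
    apply himp
    exact { toIsPretransitive := htrans
            isTrivialBlock_of_isBlock := fun {B} hB => by
              by_contra h
              exact hno ⟨B, hB, h⟩ }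
  obtain ⟨B, hB, hBnt⟩ := hex
  have hBns : ¬ B.Subsingleton := fun h => hBnt (Or.inl h)
  have hBnu : B ≠ Set.univ := fun h => hBnt (Or.inr h)
  rw [Set.not_subsingleton_iff] at hBns
  obtain ⟨a, ha, a', ha', haa'⟩ := hBns
  have hBfin : B.Finite := Set.toFinite B
  have hb2 : 2 ≤ B.ncard := by
    have hBf : Finite B := hBfin.to_subtype
    exact Set.one_lt_ncard_iff_nontrivial.2 ⟨a, ha, a', ha', haa'⟩
  have hmul := hB.ncard_block_mul_ncard_orbit_eq ⟨a, ha⟩
  have hc2 : 2 ≤ (orbit G B).ncard := by
    by_contra hc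
    have hc1 : (orbit G B).ncard = 1 := by
      have : 0 < (orbit G B).ncard := by
        rw [Set.ncard_pos (Set.toFinite _)]
        exact ⟨B, mem_orbit_self B⟩
      omega
    rw [hc1, mul_one] at hmul
    apply hBnu
    exact (Set.eq_univ_iff_ncard B).2 hmul
  set m := (derSub G Ω).index with hm
  have h1 : m ∣ B.ncard - 1 := index_dvd_block htrans B hB a ha
  have h2 : m ∣ (orbit G B).ncard - 1 := index_dvd_translates htrans B hB a ha
  have h1' : m ≤ B.ncard - 1 := Nat.le_of_dvd (by omega) h1
  have h2' : m ≤ (orbit G B).ncard - 1 := Nat.le_of_dvd (by omega) h2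
  have h3 : (m + 1) * (m + 1) ≤ Nat.card Ω := by
    rw [← hmul]
    exact Nat.mul_le_mul (by omega) (by omega)
  have h4 : ((m : ℝ) + 1) ≤ Real.sqrt (Nat.card Ω) := by
    apply Real.le_sqrt_of_sq_le
    have : (((m + 1) * (m + 1) : ℕ) : ℝ) ≤ (Nat.card Ω : ℝ) := by exact_mod_cast h3
    push_cast at this
    nlinarith
  show (m : ℝ) ≤ Real.sqrt (Nat.card Ω) - 1
  linarith

end Cfsg.Agent.S3549
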