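import Mathlib
import Cfsg.Statements.S3554

set_option autoImplicit false
open Cfsg

namespace Cfsg.Agent.S3554

/-- In a finite cyclic group, an element killed by the prime `p` lies in the cyclic group generated
by any element of order `p`. -/
theorem mem_zpowers_of_pow_eq_one {C : Type*} [Group C] [Finite C] [IsCyclic C] {p : ℕ} (hp : p.Prime)
    (c c' : C) (hc : c ^ p = 1) (hc' : orderOf c' = p) : c ∈ Subgroup.zpowers c' := by
  classical
  have : Fintype C := Fintype.ofFinite C
  have hle : (Finset.univ.filter (fun a : C => a ^ p = 1)).card ≤ p := by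
    convert IsCyclic.card_pow_eq_one_le (α := C) hp.pos
  set T : Finset C := (Subgroup.zpowers c' : Set C).toFinset with hT
  have hTS : T ⊆ Finset.univ.filter (fun a : C => a ^ p = 1) := by
    intro x hx
    rw [hT, Set.mem_toFinset] at hx
    obtain ⟨k, rfl⟩ := Subgroup.mem_zpowers_iff.mp hx
    rw [Finset.mem_filter]
    refine ⟨Finset.mem_univ _, ?_⟩
    rw [← zpow_natCast, ← zpow_mul, mul_comm, zpow_mul, zpow_natCast, ← hc', pow_orderOf_eq_one, one_zpow]
  have hTcard : T.card = p := by
    rw [hT, Set.toFinset_card, ← Nat.card_eq_fintype_card]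
    rw [← hc']
    exact Nat.card_zpowers c'
  have heq : T = Finset.univ.filter (fun a : C => a ^ p = 1) :=
    Finset.eq_of_subset_of_card_le hTS (by rw [hTcard]; exact hle)
  have : c ∈ Finset.univ.filter (fun a : C => a ^ p = 1) := by
    rw [Finset.mem_filter]; exact ⟨Finset.mem_univ _, hc⟩
  rw [← heq, hT, Set.mem_toFinset] at this
  exact this

theorem result {G Ω : Type*} [Group G] [Finite G] [MulAction G Ω] [FaithfulSMul G Ω] [Finite Ω]
    (htrans : MulAction.IsPretransitive G Ω) (C : Subgroup G) (hC : C.Normal) (hC1 : C ≠ ⊥) (hcyc : IsCyclic ↥C) :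
    ∃ g : G, (orderOf g).Prime ∧ ∀ ω : Ω, g • ω ≠ ω := by
  -- a prime dividing |C|
  have hcard : Nat.card C ≠ 1 := fun h => hC1 (Subgroup.card_eq_one.mp h)
  obtain ⟨p, hp, hpd⟩ := Nat.exists_prime_and_dvd hcard
  have : Fact p.Prime := ⟨hp⟩
  obtain ⟨c, hc⟩ := exists_prime_orderOf_dvd_card' p hpd
  refine ⟨(c : G), by rw [Subgroup.orderOf_coe, hc]; exact hp, ?_⟩
  intro ω hω
  -- then c fixes everything
  have hall : ∀ x : Ω, (c : G) • x = x := by
    intro x
    obtain ⟨g, rfl⟩ := MulAction.exists_smul_eq G ω x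
    -- c' = g⁻¹ c g ∈ C has order p and fixes ... ; c ∈ zpowers of (g c g⁻¹)?
    -- use: g c g⁻¹ fixes g • ω, and c ∈ zpowers (g c g⁻¹)
    set c' : C := ⟨g * c * g⁻¹, hC.conj_mem c c.2 g⟩ with hc'
    have hc'ord : orderOf c' = p := by
      rw [← Subgroup.orderOf_coe, hc']
      show orderOf (g * (c : G) * g⁻¹) = p
      have hsc : SemiconjBy g (c : G) (g * (c : G) * g⁻¹) := by
        unfold SemiconjBy; group
      rw [← hsc.orderOf_eq, Subgroup.orderOf_coe, hc]
    have hcp : c ^ p = 1 := by rw [← hc]; exact pow_orderOf_eq_one c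
    have hmem := mem_zpowers_of_pow_eq_one hp c c' hcp hc'ord
    obtain ⟨k, hk⟩ := Subgroup.mem_zpowers_iff.mp hmem
    have hfix : (c' : G) • (g • ω) = g • ω := by
      show (g * (c : G) * g⁻¹) • (g • ω) = g • ω
      rw [mul_smul, mul_smul, inv_smul_smul, hω]
    have hk' : (c : G) = (c' : G) ^ k := by
      rw [← hk]; simp
    rw [hk']
    have hstab : (c' : G) ∈ MulAction.stabilizer G (g • ω) := hfix
    exact (MulAction.stabilizer G (g • ω)).zpow_mem hstab k
  have h1 : (c : G) = 1 := by
    apply FaithfulSMul.eq_of_smul_eq_smul (α := Ω)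
    intro x; rw [hall x, one_smul]
  have : c = 1 := Subtype.ext h1
  rw [this, orderOf_one] at hc
  exact hp.one_lt.ne hc

end Cfsg.Agent.S3554
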