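import Mathlib
import Cfsg.Statements.S3555

set_option autoImplicit false
open Cfsg

namespace Cfsg.Agent.S3555


section Part0

open Finset in
section
variable {G Ω : Type*} [Group G] [Fintype G] [MulAction G Ω] [Fintype Ω] [DecidableEq Ω] [DecidableEq G]

/-- number of fixed points -/
def fp (g : G) : ℕ := (univ.filter (fun ω : Ω => g • ω = ω)).card

theorem fp_conj (x g : G) : fp (Ω := Ω) (x * g * x⁻¹) = fp (Ω := Ω) g := by
  unfold fp
  apply Finset.card_nbij' (fun ω => x⁻¹ • ω) (fun ω => x • ω)
  · intro ω hω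
    simp only [coe_filter, mem_univ, true_and, Set.mem_ofPred_eq] at hω ⊢
    have : x⁻¹ • ((x * g * x⁻¹) • ω) = x⁻¹ • ω := by rw [hω]
    rw [mul_smul, mul_smul, inv_smul_smul] at this
    exact this
  · intro ω hω
    simp only [coe_filter, mem_univ, true_and, Set.mem_ofPred_eq] at hω ⊢
    simp only [mul_smul, inv_smul_smul, hω]
  · intro ω _
    simp
  · intro ω _
    simp

theorem sum_fp [Nonempty Ω] (htrans : MulAction.IsPretransitive G Ω) :
    ∑ g : G, fp (Ω := Ω) g = Fintype.card G := by
  classical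
  have h1 := MulAction.sum_card_fixedBy_eq_card_orbits_mul_card_group G Ω
  have h2 : Fintype.card (Quotient (MulAction.orbitRel G Ω)) = 1 := by
    have hs : Subsingleton (Quotient (MulAction.orbitRel G Ω)) :=
      (MulAction.pretransitive_iff_subsingleton_quotient G Ω).1 htrans
    have hn : Nonempty (Quotient (MulAction.orbitRel G Ω)) := ⟨Quotient.mk _ (Classical.arbitrary Ω)⟩
    exact le_antisymm (Fintype.card_le_one_iff_subsingleton.2 hs) (Fintype.card_pos_iff.2 hn)
  rw [h2, one_mul] at h1
  rw [← h1]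
  apply Finset.sum_congr rfl
  intro g _
  unfold fp
  rw [Fintype.card_subtype]
  rfl

end

end Part0

section Part1

open Finset in
section
variable {G Ω : Type*} [Group G] [Fintype G] [MulAction G Ω] [Fintype Ω] [DecidableEq Ω] [DecidableEq G]

/-- weighted count of the elements fixing `ω` -/
def cw (ω : Ω) : ℕ := ∑ g : G, if g • ω = ω then fp (Ω := Ω) g - 1 else 0

theorem cw_smul (x : G) (ω : Ω) : cw (G := G) (x • ω) = cw (G := G) ω := by
  unfold cw
  rw [← Equiv.sum_comp (MulAut.conj x).toEquiv]
  apply Finset.sum_congr rfl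
  intro g _
  have h1 : ((MulAut.conj x).toEquiv g) = x * g * x⁻¹ := rfl
  rw [h1, fp_conj]
  have h2 : (x * g * x⁻¹) • x • ω = x • ω ↔ g • ω = ω := by
    rw [mul_smul, mul_smul, inv_smul_smul]
    constructor
    · intro h
      have := congrArg (fun y => x⁻¹ • y) h
      simpa using this
    · intro h; rw [h]
  simp only [h2]

theorem sum_cw : ∑ ω : Ω, cw (G := G) ω = ∑ g : G, fp (Ω := Ω) g * (fp (Ω := Ω) g - 1) := by
  unfold cw
  rw [Finset.sum_comm]
  apply Finset.sum_congr rfl
  intro g _
  rw [← Finset.sum_filter, Finset.sum_const, smul_eq_mul]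
  rfl

theorem sum_cw_eq [Nonempty Ω] (htrans : MulAction.IsPretransitive G Ω) (α : Ω) :
    ∑ ω : Ω, cw (G := G) ω = Fintype.card Ω * cw (G := G) α := by
  have h : ∀ ω : Ω, cw (G := G) ω = cw (G := G) α := by
    intro ω
    obtain ⟨x, rfl⟩ := htrans.exists_smul_eq α ω
    exact cw_smul x α
  rw [Finset.sum_congr rfl (fun ω _ => h ω), Finset.sum_const, smul_eq_mul, Finset.card_univ]

/-- `cw α` counts the pairs `(g, β)` with `g` fixing `α` and `β ≠ α` -/
theorem cw_eq_card (α : Ω) :
    cw (G := G) α = ((univ : Finset (G × Ω)).filter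
      (fun p => p.1 • α = α ∧ p.2 ≠ α ∧ p.1 • p.2 = p.2)).card := by
  unfold cw
  rw [Finset.card_filter, Fintype.sum_prod_type]
  apply Finset.sum_congr rfl
  intro g _
  by_cases hg : g • α = α
  · rw [if_pos hg]
    have h1 : ∀ β : Ω, (if g • α = α ∧ β ≠ α ∧ g • β = β then 1 else 0) =
        if (β ≠ α ∧ g • β = β) then 1 else 0 := by
      intro β
      simp only [hg, true_and]
    rw [Finset.sum_congr rfl (fun β _ => h1 β), ← Finset.card_filter]
    have h2 : (univ.filter (fun β : Ω => β ≠ α ∧ g • β = β)) =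
        (univ.filter (fun ω : Ω => g • ω = ω)).erase α := by
      ext β
      simp only [mem_filter, mem_univ, true_and, mem_erase]
    rw [h2, Finset.card_erase_of_mem (by simp [hg])]
    rfl
  · rw [if_neg hg]
    symm
    apply Finset.sum_eq_zero
    intro β _
    simp [hg]

end

end Part1

section Part2

open Finset in
section
variable {G Ω : Type*} [Group G] [Fintype G] [MulAction G Ω] [Fintype Ω] [DecidableEq Ω] [DecidableEq G]

/-- the derangements -/
def der : Finset G := univ.filter (fun g : G => fp (Ω := Ω) g = 0)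

theorem mem_der {g : G} : g ∈ der (Ω := Ω) ↔ ∀ ω : Ω, g • ω ≠ ω := by
  unfold der fp
  simp only [mem_filter, mem_univ, true_and, card_eq_zero, filter_eq_empty_iff]
  constructor
  · intro h ω; exact h trivial
  · intro h ω _; exact h ω

/-- upper bound: if all derangements are involutions then there are at most `cw α` of them -/
theorem card_der_le (α : Ω) (hinv : ∀ g ∈ der (G := G) (Ω := Ω), g * g = 1) :
    (der (G := G) (Ω := Ω)).card ≤ cw (G := G) α := by
  classical
  rw [cw_eq_card]
  -- representatives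
  let rep : Ω → G := fun β =>
    if h : ∃ t ∈ der (G := G) (Ω := Ω), t • α = β then Classical.choose h else 1
  have hrep : ∀ t ∈ der (G := G) (Ω := Ω), rep (t • α) ∈ der (G := G) (Ω := Ω) ∧ rep (t • α) • α = t • α := by
    intro t ht
    have h : ∃ s ∈ der (G := G) (Ω := Ω), s • α = t • α := ⟨t, ht, rfl⟩
    have h1 : rep (t • α) = Classical.choose h := dif_pos h
    rw [h1]
    exact Classical.choose_spec h
  apply Finset.card_le_card_of_injOn (fun t => (rep (t • α) * t, t • α))
  · intro t ht
    have ht' : t ∈ der (G := G) (Ω := Ω) := ht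
    obtain ⟨h1, h2⟩ := hrep t ht'
    have h3 := hinv _ h1
    simp only [coe_filter, mem_univ, true_and, Set.mem_ofPred_eq]
    generalize rep (t • α) = r at h1 h2 h3 ⊢
    refine ⟨?_, (mem_der.1 ht') α, ?_⟩
    · rw [mul_smul, ← h2, ← mul_smul, h3, one_smul]
    · rw [mul_smul, ← mul_smul t t, hinv t ht', one_smul, h2]
  · intro t ht t' ht' heq
    have ht1 : t ∈ der (G := G) (Ω := Ω) := ht
    simp only [Prod.mk.injEq] at heq
    obtain ⟨h1, h2⟩ := heq
    rw [h2] at h1
    exact mul_left_cancel h1

/-- the key counting result: every element fixes at most one point or all points -/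
theorem fp_le_one_or [Nonempty Ω] (htrans : MulAction.IsPretransitive G Ω)
    (hinv : ∀ g ∈ der (G := G) (Ω := Ω), g * g = 1) (g : G) :
    fp (Ω := Ω) g ≤ 1 ∨ fp (Ω := Ω) g = Fintype.card Ω := by
  classical
  obtain ⟨α⟩ := ‹Nonempty Ω›
  have hA := sum_fp (G := G) (Ω := Ω) htrans
  -- Σ (fp - 1) = |D|
  have h1 : ∀ g : G, fp (Ω := Ω) g = (fp (Ω := Ω) g - 1) + (if g ∈ der (G := G) (Ω := Ω) then 0 else 1) := by
    intro g
    by_cases hg : g ∈ der (G := G) (Ω := Ω)
    · rw [if_pos hg]
      have : fp (Ω := Ω) g = 0 := (mem_filter.1 hg).2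
      rw [this]
    · rw [if_neg hg]
      have : fp (Ω := Ω) g ≠ 0 := fun h => hg (mem_filter.2 ⟨mem_univ _, h⟩)
      omega
  have h2 : ∑ g : G, fp (Ω := Ω) g = ∑ g : G, (fp (Ω := Ω) g - 1) +
      ∑ g : G, (if g ∈ der (G := G) (Ω := Ω) then 0 else 1) := by
    rw [← Finset.sum_add_distrib]
    exact Finset.sum_congr rfl (fun g _ => h1 g)
  have h3 : ∑ g : G, (if g ∈ der (G := G) (Ω := Ω) then 0 else 1) =
      Fintype.card G - (der (G := G) (Ω := Ω)).card := by
    rw [← Finset.card_univ, ← Finset.card_sdiff_of_subset (Finset.subset_univ _)]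
    rw [Finset.card_eq_sum_ones, Finset.sum_ite]
    simp only [sum_const_zero, zero_add]
    congr 1
    ext g
    simp
  have hDle : (der (G := G) (Ω := Ω)).card ≤ Fintype.card G := by
    rw [← Finset.card_univ]; exact Finset.card_le_card (Finset.subset_univ _)
  have h4 : ∑ g : G, (fp (Ω := Ω) g - 1) = (der (G := G) (Ω := Ω)).card := by
    rw [h2, h3] at hA
    omega
  -- the chain
  have h5 : ∑ g : G, fp (Ω := Ω) g * (fp (Ω := Ω) g - 1) = Fintype.card Ω * cw (G := G) α := by
    rw [← sum_cw, sum_cw_eq htrans α]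
  have h6 := card_der_le (G := G) α hinv
  have hfle : ∀ g : G, fp (Ω := Ω) g ≤ Fintype.card Ω := by
    intro g
    unfold fp
    rw [← Finset.card_univ (α := Ω)]
    exact Finset.card_le_card (Finset.subset_univ _)
  have h7 : ∀ g ∈ (univ : Finset G), fp (Ω := Ω) g * (fp (Ω := Ω) g - 1) ≤
      Fintype.card Ω * (fp (Ω := Ω) g - 1) := fun g _ => Nat.mul_le_mul_right _ (hfle g)
  have h8 : ∑ g : G, Fintype.card Ω * (fp (Ω := Ω) g - 1) = Fintype.card Ω * (der (G := G) (Ω := Ω)).card := by
    rw [← Finset.mul_sum, h4]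
  have h9 : ∑ g : G, fp (Ω := Ω) g * (fp (Ω := Ω) g - 1) = ∑ g : G, Fintype.card Ω * (fp (Ω := Ω) g - 1) := by
    apply le_antisymm (Finset.sum_le_sum h7)
    rw [h8, h5]
    exact Nat.mul_le_mul_left _ h6
  have h10 := (Finset.sum_eq_sum_iff_of_le h7).1 h9 g (mem_univ g)
  by_cases hz : fp (Ω := Ω) g - 1 = 0
  · left; omega
  · right
    exact Nat.eq_of_mul_eq_mul_right (Nat.pos_of_ne_zero hz) h10

end

end Part2

section Part3

open Pointwise in
theorem result {G Ω : Type*} [Group G] [Finite G] [MulAction G Ω] [FaithfulSMul G Ω] [Finite Ω]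
    (htrans : MulAction.IsPretransitive G Ω) (hinv : ∀ g : G, (∀ ω : Ω, g • ω ≠ ω) → orderOf g = 2) :
    (IsMulCommutative G ∧ ∀ g : G, g ^ 2 = 1) ∨
    (∃ H : Subgroup G, Cfsg.IsFrobeniusComplement H ∧
      (∀ x ∈ Cfsg.frobeniusKernel H, x ^ 2 = 1) ∧
      ∀ x ∈ Cfsg.frobeniusKernel H, ∀ y ∈ Cfsg.frobeniusKernel H, x * y = y * x) := by
  classical
  letI := Fintype.ofFinite G
  letI := Fintype.ofFinite Ω
  -- derangements square to one
  have hsq : ∀ g : G, (∀ ω : Ω, g • ω ≠ ω) → g ^ 2 = 1 := by
    intro g hg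
    rw [← hinv g hg]; exact pow_orderOf_eq_one g
  -- exponent two implies commutative
  have hcomm_of_sq : (∀ g : G, g ^ 2 = 1) → IsMulCommutative G ∧ ∀ g : G, g ^ 2 = 1 := by
    intro h
    refine ⟨⟨⟨fun a b => ?_⟩⟩, h⟩
    have h1 := h (a * b)
    have ha := h a
    have hb := h b
    rw [pow_two] at h1 ha hb
    have ha' : a⁻¹ = a := inv_eq_of_mul_eq_one_left ha
    have hb' : b⁻¹ = b := inv_eq_of_mul_eq_one_left hb
    have : a * b = (a * b)⁻¹ := (inv_eq_of_mul_eq_one_left h1).symm
    rw [this, mul_inv_rev, ha', hb']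
  by_cases hne : Nonempty Ω
  swap
  · -- empty set: G is trivial
    left
    apply hcomm_of_sq
    intro g
    have : g = 1 := by
      apply FaithfulSMul.eq_of_smul_eq_smul (α := Ω)
      intro ω
      exact (hne ⟨ω⟩).elim
    rw [this, one_pow]
  obtain ⟨α⟩ := hne
  have : Nonempty Ω := ⟨α⟩
  -- the key property
  have hkey : ∀ g : G, g ≠ 1 → ∀ ω ω' : Ω, g • ω = ω → g • ω' = ω' → ω = ω' := by
    intro g hg ω ω' h1 h2
    have hd : ∀ t ∈ der (G := G) (Ω := Ω), t * t = 1 := by
      intro t ht
      rw [← pow_two]; exact hsq t (mem_der.1 ht)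
    rcases fp_le_one_or (G := G) (Ω := Ω) htrans hd g with h | h
    · unfold fp at h
      rw [Finset.card_le_one] at h
      exact h ω (by simp [h1]) ω' (by simp [h2])
    · exfalso
      apply hg
      apply FaithfulSMul.eq_of_smul_eq_smul (α := Ω)
      intro x
      rw [one_smul]
      unfold fp at h
      rw [← Finset.card_univ, Finset.card_filter_eq_iff] at h
      exact h x (Finset.mem_univ x)
  -- membership in conjugates of the stabilizer
  have hconj : ∀ (x g : G), x ∈ MulAut.conj g • MulAction.stabilizer G α ↔ x • (g • α) = g • α := by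
    intro x g
    rw [Subgroup.mem_pointwise_smul_iff_inv_smul_mem, MulAut.smul_def, MulAut.conj_inv_apply,
      MulAction.mem_stabilizer_iff, mul_smul, mul_smul]
    constructor
    · intro h
      have := congrArg (fun y => g • y) h
      simpa using this
    · intro h
      rw [h, inv_smul_smul]
  by_cases hH : MulAction.stabilizer G α = ⊥
  · -- regular case
    left
    apply hcomm_of_sq
    intro g
    by_cases hg : g = 1
    · rw [hg, one_pow]
    apply hsq
    intro ω hω
    obtain ⟨x, rfl⟩ := htrans.exists_smul_eq α ω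
    have h1 : g ∈ MulAut.conj x • MulAction.stabilizer G α := (hconj g x).2 hω
    rw [hH, Subgroup.smul_bot, Subgroup.mem_bot] at h1
    exact hg h1
  · right
    refine ⟨MulAction.stabilizer G α, ⟨hH, ?_, ?_⟩, ?_, ?_⟩
    · -- H ≠ ⊤
      intro htop
      apply hH
      rw [Subgroup.eq_bot_iff_forall]
      intro g _
      apply FaithfulSMul.eq_of_smul_eq_smul (α := Ω)
      intro ω
      rw [one_smul]
      obtain ⟨x, rfl⟩ := htrans.exists_smul_eq α ω
      have h1 : g * x ∈ MulAction.stabilizer G α := by rw [htop]; exact Subgroup.mem_top _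
      have h2 : x ∈ MulAction.stabilizer G α := by rw [htop]; exact Subgroup.mem_top _
      rw [MulAction.mem_stabilizer_iff] at h1 h2
      rw [← mul_smul, h1, h2]
    · -- Frobenius property
      intro g hg
      rw [Subgroup.eq_bot_iff_forall]
      rintro x ⟨hx1, hx2⟩
      by_contra hx
      have h1 : x • α = α := hx1
      have h2 : x • (g • α) = g • α := (hconj x g).1 hx2
      have := hkey x hx α (g • α) h1 h2
      exact hg this.symm
    · -- kernel elements square to one
      rintro x (rfl | hx)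
      · exact one_pow 2
      · apply hsq
        intro ω hω
        obtain ⟨g, rfl⟩ := htrans.exists_smul_eq α ω
        exact hx g ((hconj x g).2 hω)
    · -- kernel elements commute
      have hder : ∀ x ∈ Cfsg.frobeniusKernel (MulAction.stabilizer G α), x ≠ 1 → ∀ ω : Ω, x • ω ≠ ω := by
        rintro x (rfl | hx) hx1 ω hω
        · exact hx1 rfl
        · obtain ⟨g, rfl⟩ := htrans.exists_smul_eq α ω
          exact hx g ((hconj x g).2 hω)
      intro x hx y hy
      by_cases hx1 : x = 1
      · rw [hx1, one_mul, mul_one]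
      by_cases hy1 : y = 1
      · rw [hy1, one_mul, mul_one]
      have hxd := hder x hx hx1
      have hyd := hder y hy hy1
      have hx2 : x * x = 1 := by rw [← pow_two]; exact hsq x hxd
      have hy2 : y * y = 1 := by rw [← pow_two]; exact hsq y hyd
      have hxi : x⁻¹ = x := inv_eq_of_mul_eq_one_left hx2
      have hyi : y⁻¹ = y := inv_eq_of_mul_eq_one_left hy2
      by_cases hxy : x = y
      · rw [hxy]
      -- z = x * y is a derangement
      have hz1 : y * x ≠ 1 := by
        intro h
        apply hxy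
        have : x⁻¹ = y := inv_eq_of_mul_eq_one_left h
        rw [hxi] at this
        exact this
      have hzd : ∀ ω : Ω, (x * y) • ω ≠ ω := by
        intro ω hω
        -- y * x fixes ω and x • ω
        have h1 : (y * x) • ω = ω := by
          have := congrArg (fun t => (y * x) • t) hω
          rw [← mul_smul, show y * x * (x * y) = 1 by
            rw [mul_assoc, ← mul_assoc x x y, hx2, one_mul, hy2], one_smul] at this
          exact this.symm
        have h2 : (y * x) • (x • ω) = x • ω := by
          rw [← mul_smul, mul_assoc, hx2, mul_one]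
          have := congrArg (fun t => x • t) hω
          rw [← mul_smul, ← mul_assoc, hx2, one_mul] at this
          exact this
        have h3 := hkey (y * x) hz1 ω (x • ω) h1 h2
        exact hxd ω h3.symm
      have hz2 := hsq (x * y) hzd
      rw [pow_two] at hz2
      have : x * y = (x * y)⁻¹ := (inv_eq_of_mul_eq_one_left hz2).symm
      rw [this, mul_inv_rev, hxi, hyi]

end Part3

end Cfsg.Agent.S3555
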