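import Mathlib
import Cfsg.Statements.S3559
import Cfsg.Agent.Lib.Helper8.SRingA
import Cfsg.Agent.Lib.Helper8.SRingB
import Cfsg.Agent.Lib.Helper8.SRingC

set_option autoImplicit false
open Cfsg

namespace Cfsg.Agent.S3559

open Cfsg.Agent.Lib.Helper8.SRing

/-- Let G act faithfully and transitively on a finite set whose number of points n ≥ 2 is not a prime power, and suppose G has a cyclic subgroup acting regularly (transitively with trivial point stabilizers). Then G is imprimitive or doubly transitive. -/
theorem result {G Ω : Type*} [Group G] [Finite G] [MulAction G Ω] [FaithfulSMul G Ω] [Finite Ω]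
    (htrans : MulAction.IsPretransitive G Ω) (hn : 2 ≤ Nat.card Ω) (hnp : ¬ IsPrimePow (Nat.card Ω))
    (C : Subgroup G) (hcyc : IsCyclic ↥C) (hC : MulAction.IsPretransitive ↥C Ω ∧ ∀ a : Ω, MulAction.stabilizer ↥C a = ⊥) :
    ¬ MulAction.IsPreprimitive G Ω ∨ MulAction.IsMultiplyPretransitive G Ω 2 := by
  by_cases hprim : MulAction.IsPreprimitive G Ω
  · right
    classical
    have : Fintype Ω := Fintype.ofFinite Ω
    have : Fintype ↥C := Fintype.ofFinite ↥C
    obtain ⟨hCt, hCs⟩ := hC
    have hreg : ∀ α β : Ω, ∃! h : ↥C, h • α = β := by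
      intro α β
      obtain ⟨h, hh⟩ := MulAction.exists_smul_eq (↥C) α β
      refine ⟨h, hh, fun h' hh' => ?_⟩
      have h1 : h⁻¹ * h' ∈ MulAction.stabilizer (↥C) α := by
        rw [MulAction.mem_stabilizer_iff, mul_smul, hh', inv_smul_eq_iff, hh]
      rw [hCs α, Subgroup.mem_bot] at h1
      exact (inv_mul_eq_one.1 h1).symm
    have hcomm : ∀ a b : ↥C, a * b = b * a := by
      intro a b
      obtain ⟨g, hg⟩ := IsCyclic.exists_generator (α := ↥C)
      obtain ⟨i, rfl⟩ := Subgroup.mem_zpowers_iff.1 (hg a)
      obtain ⟨j, rfl⟩ := Subgroup.mem_zpowers_iff.1 (hg b)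
      rw [← zpow_add, ← zpow_add, add_comm]
    have S : Setting G Ω ↥C :=
      { reg := hreg, comm := hcomm, sub := fun h => ⟨(h : G), fun α => rfl⟩, prim := hprim }
    -- two primes
    have hn0 : Nat.card Ω ≠ 0 := by omega
    obtain ⟨p, hp, hpn⟩ := Nat.exists_prime_and_dvd (show Nat.card Ω ≠ 1 by omega)
    have hq : ∃ q : ℕ, q.Prime ∧ q ∣ Nat.card Ω ∧ p ≠ q := by
      by_contra hcon
      push Not at hcon
      apply hnp
      rw [isPrimePow_iff_unique_prime_dvd]
      refine ⟨p, ⟨hp, hpn⟩, fun q hq => ?_⟩
      exact (hcon q hq.1 hq.2).symm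
    obtain ⟨q, hq, hqn, hpq⟩ := hq
    -- |C| = |Ω|
    obtain ⟨ω₀⟩ : Nonempty Ω := by
      rcases isEmpty_or_nonempty Ω with h | h
      · rw [Nat.card_of_isEmpty] at hn; omega
      · exact h
    have hcard : Fintype.card ↥C = Nat.card Ω := by
      rw [← Nat.card_eq_fintype_card]
      refine Nat.card_congr (Equiv.ofBijective (fun h : ↥C => h • ω₀) ⟨?_, ?_⟩)
      · intro h h' hh
        exact (hreg ω₀ (h' • ω₀)).unique hh rfl
      · intro β
        obtain ⟨h, hh, _⟩ := hreg ω₀ β
        exact ⟨h, hh⟩
    have hK : ∀ r : ℕ, r.Prime → r ∣ Nat.card Ω →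
        (Finset.univ.filter (fun x : ↥C => x ^ r = 1)).card = r := by
      intro r hr hrn
      apply le_antisymm
      · convert IsCyclic.card_pow_eq_one_le (α := ↥C) hr.pos
      · have h1 := IsCyclic.card_orderOf_eq_totient (α := ↥C) (d := r) (by rw [hcard]; exact hrn)
        rw [Nat.totient_prime hr] at h1
        have h2 : (insert (1 : ↥C) (Finset.univ.filter (fun a : ↥C => orderOf a = r))).card = r := by
          rw [Finset.card_insert_of_notMem]
          · have : (Finset.univ.filter (fun a : ↥C => orderOf a = r)).card = r - 1 := by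
              convert h1
            rw [this]
            have := hr.pos
            omega
          · intro h
            rw [Finset.mem_filter, orderOf_one] at h
            exact hr.one_lt.ne h.2
        refine h2.ge.trans (Finset.card_le_card ?_)
        intro x hx
        rw [Finset.mem_insert] at hx
        rw [Finset.mem_filter]
        refine ⟨Finset.mem_univ _, ?_⟩
        rcases hx with rfl | hx
        · exact one_pow _
        · rw [Finset.mem_filter] at hx
          rw [← hx.2]; exact pow_orderOf_eq_one x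
    have : Fact p.Prime := ⟨hp⟩
    have : Fact q.Prime := ⟨hq⟩
    exact two_transitive S p q hpq (hK p hp hpn) (hK q hq hqn)
  · left; exact hprim

end Cfsg.Agent.S3559
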