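import Mathlib
import Cfsg.Statements.S3560

set_option autoImplicit false
open Cfsg

namespace Cfsg.Agent.S3560

open Equiv MulAction
open scoped Pointwise

theorem pinv_app {α : Type*} (a : Perm α) (x : α) : a⁻¹ (a x) = x := a.symm_apply_apply x

theorem papp_inv {α : Type*} (a : Perm α) (x : α) : a (a⁻¹ x) = x := a.apply_symm_apply x

/-! ### The Hamming graph on `ι → Fin (k + 3)` -/

section Hamming

variable {ι : Type*} [DecidableEq ι] {k : ℕ}

/-- Hamming adjacency: the two tuples differ in exactly one coordinate. -/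
def adj (x y : ι → Fin (k + 3)) : Prop := ∃ i, x i ≠ y i ∧ ∀ j, j ≠ i → x j = y j

/-- The automorphism group of the Hamming graph. -/
def GX (ι : Type*) (k : ℕ) : Subgroup (Perm (ι → Fin (k + 3))) where
  carrier := {σ | ∀ x y, adj (σ x) (σ y) ↔ adj x y}
  one_mem' := fun x y => Iff.rfl
  mul_mem' := by
    intro a b ha hb x y
    rw [Perm.mul_apply, Perm.mul_apply, ha, hb]
  inv_mem' := by
    intro a ha x y
    have := ha (a⁻¹ x) (a⁻¹ y)
    rw [papp_inv, papp_inv] at this
    exact this.symm

theorem mem_GX (σ : Perm (ι → Fin (k + 3))) : σ ∈ GX ι k ↔ ∀ x y, adj (σ x) (σ y) ↔ adj x y :=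
  Iff.rfl

/-- coordinatewise permutations -/
def cw (τ : ι → Perm (Fin (k + 3))) : Perm (ι → Fin (k + 3)) := Equiv.piCongrRight τ

theorem cw_apply (τ : ι → Perm (Fin (k + 3))) (x : ι → Fin (k + 3)) (i : ι) :
    cw τ x i = τ i (x i) := rfl

theorem cw_mem (τ : ι → Perm (Fin (k + 3))) : cw τ ∈ GX ι k := by
  intro x y
  constructor
  · rintro ⟨i, hi, hj⟩
    refine ⟨i, fun h => hi ?_, fun j hji => ?_⟩
    · rw [cw_apply, cw_apply, h]
    · exact (τ j).injective (hj j hji)
  · rintro ⟨i, hi, hj⟩
    refine ⟨i, fun h => hi ((τ i).injective h), fun j hji => ?_⟩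
    rw [cw_apply, cw_apply, hj j hji]

/-- coordinate permutations -/
def cp (π : Perm ι) : Perm (ι → Fin (k + 3)) := π.arrowCongr (Equiv.refl _)

theorem cp_apply (π : Perm ι) (x : ι → Fin (k + 3)) (i : ι) : cp π x i = x (π.symm i) := rfl

theorem cp_mem (π : Perm ι) : cp (k := k) π ∈ GX ι k := by
  intro x y
  constructor
  · rintro ⟨i, hi, hj⟩
    refine ⟨π.symm i, hi, fun j hji => ?_⟩
    have := hj (π j) (fun h => hji (by rw [← h, Equiv.symm_apply_apply]))
    rwa [cp_apply, cp_apply, Equiv.symm_apply_apply] at this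
  · rintro ⟨i, hi, hj⟩
    refine ⟨π i, ?_, fun j hji => ?_⟩
    · rw [cp_apply, cp_apply, Equiv.symm_apply_apply]; exact hi
    · rw [cp_apply, cp_apply]
      exact hj _ (fun h => hji (by rw [← h, Equiv.apply_symm_apply]))

/-- the base point -/
def o : ι → Fin (k + 3) := fun _ => 0

theorem exists_map (x y : ι → Fin (k + 3)) : ∃ g ∈ GX ι k, g x = y :=
  ⟨cw fun i => swap (x i) (y i), cw_mem _, by
    funext i
    rw [cw_apply, swap_apply_left]⟩

theorem block_closed {B : Set (ι → Fin (k + 3))} (hB : IsBlock (GX ι k) B)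
    (g : Perm (ι → Fin (k + 3))) (hg : g ∈ GX ι k) (a : ι → Fin (k + 3)) (ha : a ∈ B)
    (hga : g a ∈ B) (b : ι → Fin (k + 3)) (hb : b ∈ B) : g b ∈ B := by
  have h1 : (⟨g, hg⟩ : GX ι k) • B = B := hB.smul_eq_of_mem (g := ⟨g, hg⟩) ha hga
  rw [← h1]
  exact Set.smul_mem_smul_set (a := (⟨g, hg⟩ : GX ι k)) hb

theorem block_closed_inv {B : Set (ι → Fin (k + 3))} (hB : IsBlock (GX ι k) B)
    (g : Perm (ι → Fin (k + 3))) (hg : g ∈ GX ι k) (a : ι → Fin (k + 3)) (ha : a ∈ B)
    (hga : g a ∈ B) (b : ι → Fin (k + 3)) (hb : g b ∈ B) : b ∈ B := by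
  have := block_closed hB g⁻¹ (inv_mem hg) (g a) hga (by rw [pinv_app]; exact ha)
    (g b) hb
  rwa [pinv_app] at this

/-- the element `1` -/
def e1 : Fin (k + 3) := ⟨1, by omega⟩

/-- the element `2` -/
def e2 : Fin (k + 3) := ⟨2, by omega⟩

theorem zero_ne_one' : (0 : Fin (k + 3)) ≠ e1 := by
  intro h
  have := congrArg Fin.val h
  simp [e1] at this

/-- a third value -/
theorem exists_third (a : Fin (k + 3)) : ∃ c : Fin (k + 3), c ≠ 0 ∧ c ≠ a := by
  by_cases h1 : a = e1
  · refine ⟨e2, ?_, ?_⟩
    · intro h; have := congrArg Fin.val h; simp [e2] at this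
    · rw [h1]; intro h; have := congrArg Fin.val h; simp [e1, e2] at this
  · exact ⟨e1, fun h => zero_ne_one' h.symm, fun h => h1 h.symm⟩

theorem primitive_aux [Fintype ι] {B : Set (ι → Fin (k + 3))} (hB : IsBlock (GX ι k) B)
    (ho : o ∈ B) (y : ι → Fin (k + 3)) (hy : y ∈ B) (hyo : y ≠ o) : B = Set.univ := by
  -- Step 1: a neighbour of `o` in `B`
  obtain ⟨i, hi⟩ : ∃ i, y i ≠ 0 := by
    by_contra hcon
    apply hyo
    funext j
    by_contra h
    exact hcon ⟨j, h⟩
  obtain ⟨c, hc0, hcy⟩ := exists_third (y i)
  have hy' : Function.update y i c ∈ B := by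
    have h1 := block_closed hB (cw fun j => if j = i then swap (y i) c else 1) (cw_mem _) o ho
      (by
        have : (cw fun j => if j = i then swap (y i) c else 1) (o (k := k)) = o := by
          funext j
          rw [cw_apply]
          by_cases hj : j = i
          · rw [if_pos hj]
            exact swap_apply_of_ne_of_ne (Ne.symm hi) (Ne.symm hc0)
          · rw [if_neg hj]; rfl
        rw [this]; exact ho) y hy
    have : (cw fun j => if j = i then swap (y i) c else 1) y = Function.update y i c := by
      funext j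
      rw [cw_apply]
      by_cases hj : j = i
      · subst hj
        rw [if_pos rfl, swap_apply_left, Function.update_self]
      · rw [if_neg hj, Function.update_of_ne hj]; rfl
    rwa [this] at h1
  have hz : Function.update (o (k := k)) i c ∈ B := by
    have hyo' : (cw fun j => swap (y j) 0) y = o := by
      funext j
      rw [cw_apply, swap_apply_left]; rfl
    have h1 := block_closed hB (cw fun j => swap (y j) 0) (cw_mem _) y hy
      (by rw [hyo']; exact ho) _ hy'
    have : (cw fun j => swap (y j) 0) (Function.update y i c) = Function.update o i c := by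
      funext j
      rw [cw_apply]
      by_cases hj : j = i
      · subst hj
        rw [Function.update_self, Function.update_self]
        exact swap_apply_of_ne_of_ne hcy hc0
      · rw [Function.update_of_ne hj, Function.update_of_ne hj, swap_apply_left]; rfl
    rwa [this] at h1
  -- Step 2: all neighbours of `o`
  have hnb : ∀ (j : ι) (b : Fin (k + 3)), b ≠ 0 → Function.update (o (k := k)) j b ∈ B := by
    intro j b hb
    have h1 := block_closed hB (cp (swap i j)) (cp_mem _) o ho (by
      have : cp (swap i j) (o (k := k)) = o := by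
        funext l; rfl
      rw [this]; exact ho) _ hz
    have e1 : cp (swap i j) (Function.update (o (k := k)) i c) = Function.update o j c := by
      funext l
      rw [cp_apply, Equiv.symm_swap]
      by_cases hl : l = j
      · subst hl
        rw [swap_apply_right, Function.update_self, Function.update_self]
      · rw [Function.update_of_ne hl]
        by_cases hl' : l = i
        · subst hl'
          rw [swap_apply_left, Function.update_of_ne (Ne.symm hl)]
          rfl
        · rw [swap_apply_of_ne_of_ne hl' hl, Function.update_of_ne hl']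
    rw [e1] at h1
    have h2 := block_closed hB (cw fun l => if l = j then swap c b else 1) (cw_mem _) o ho (by
      have : (cw fun l => if l = j then swap c b else 1) (o (k := k)) = o := by
        funext l
        rw [cw_apply]
        by_cases hl : l = j
        · rw [if_pos hl]
          exact swap_apply_of_ne_of_ne (Ne.symm hc0) (Ne.symm hb)
        · rw [if_neg hl]; rfl
      rw [this]; exact ho) _ h1
    have e2 : (cw fun l => if l = j then swap c b else 1) (Function.update (o (k := k)) j c) =
        Function.update o j b := by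
      funext l
      rw [cw_apply]
      by_cases hl : l = j
      · subst hl
        rw [if_pos rfl, Function.update_self, Function.update_self, swap_apply_left]
      · rw [if_neg hl, Function.update_of_ne hl, Function.update_of_ne hl]; rfl
    rwa [e2] at h2
  -- Step 3: `B` is closed under changing one coordinate
  have hupd : ∀ p ∈ B, ∀ (j : ι) (b : Fin (k + 3)), Function.update p j b ∈ B := by
    intro p hp j b
    by_cases hbp : b = p j
    · rw [hbp, Function.update_eq_self]; exact hp
    have hpo : (cw fun l => swap (p l) 0) p = o := by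
      funext l
      rw [cw_apply, swap_apply_left]; rfl
    apply block_closed_inv hB (cw fun l => swap (p l) 0) (cw_mem _) p hp (by rw [hpo]; exact ho)
    have : (cw fun l => swap (p l) 0) (Function.update p j b) =
        Function.update o j (swap (p j) 0 b) := by
      funext l
      rw [cw_apply]
      by_cases hl : l = j
      · subst hl
        rw [Function.update_self, Function.update_self]
      · rw [Function.update_of_ne hl, Function.update_of_ne hl, swap_apply_left]; rfl
    rw [this]
    apply hnb
    intro h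
    apply hbp
    have := congrArg (swap (p j) 0) h
    rw [swap_apply_self, swap_apply_right] at this
    exact this
  -- Step 4: connectivity
  have hall : ∀ s : Finset ι, ∀ x : ι → Fin (k + 3), (∀ j, j ∉ s → x j = 0) → x ∈ B := by
    intro s
    induction s using Finset.induction_on with
    | empty =>
      intro x hx
      have : x = o := by
        funext j
        exact hx j (Finset.notMem_empty j)
      rw [this]; exact ho
    | insert a s _ ih =>
      intro x hx
      have h1 : Function.update x a 0 ∈ B := by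
        apply ih
        intro j hj
        by_cases hja : j = a
        · subst hja
          rw [Function.update_self]
        · rw [Function.update_of_ne hja]
          apply hx
          rw [Finset.mem_insert, not_or]
          exact ⟨hja, hj⟩
      have := hupd _ h1 a (x a)
      rwa [Function.update_idem, Function.update_eq_self] at this
  apply Set.eq_univ_of_forall
  intro x
  exact hall Finset.univ x (fun j hj => absurd (Finset.mem_univ j) hj)

theorem GX_pretransitive : IsPretransitive (GX ι k) (ι → Fin (k + 3)) := by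
  refine ⟨fun x y => ?_⟩
  obtain ⟨g, hg, h⟩ := exists_map x y
  exact ⟨⟨g, hg⟩, h⟩

theorem GX_preprimitive [Fintype ι] : IsPreprimitive (GX ι k) (ι → Fin (k + 3)) := by
  have := GX_pretransitive (ι := ι) (k := k)
  apply IsPreprimitive.of_isTrivialBlock_base (o (k := k))
  intro B ho hB
  by_cases h : ∃ y ∈ B, y ≠ o
  · obtain ⟨y, hy, hyo⟩ := h
    right
    exact primitive_aux hB ho y hy hyo
  · left
    intro a ha b hb
    have h1 : a = o := by
      by_contra hcon
      exact h ⟨a, ha, hcon⟩
    have h2 : b = o := by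
      by_contra hcon
      exact h ⟨b, hb, hcon⟩
    rw [h1, h2]

theorem GX_not_two (i₀ i₁ : ι) (h01 : i₀ ≠ i₁) :
    ∃ a b c d : ι → Fin (k + 3), a ≠ b ∧ c ≠ d ∧ ∀ g ∈ GX ι k, ¬ (g a = c ∧ g b = d) := by
  refine ⟨o, Function.update o i₀ e1, o, Function.update (Function.update o i₀ e1) i₁ e1, ?_, ?_, ?_⟩
  · intro h
    have := congrFun h i₀
    rw [Function.update_self] at this
    exact zero_ne_one' this
  · intro h
    have := congrFun h i₁
    rw [Function.update_self] at this
    exact zero_ne_one' this
  · rintro g hg ⟨h1, h2⟩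
    have hadj : adj (o (k := k)) (Function.update o i₀ e1) := by
      refine ⟨i₀, ?_, fun j hj => ?_⟩
      · rw [Function.update_self]; exact zero_ne_one'
      · rw [Function.update_of_ne hj]
    rw [← hg, h1, h2] at hadj
    obtain ⟨i, _, hj⟩ := hadj
    by_cases hi : i = i₀
    · have := hj i₁ (fun h => h01 (hi ▸ h).symm)
      rw [Function.update_self] at this
      exact zero_ne_one' this
    · have := hj i₀ (fun h => hi h.symm)
      rw [Function.update_of_ne h01, Function.update_self] at this
      exact zero_ne_one' this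

end Hamming

/-! ### The regular representation -/

section Regular

variable {ι : Type*} [DecidableEq ι] {k : ℕ} {F : ι → Type*} [∀ i, Group (F i)]
  (β : ∀ i, F i ≃ Fin (k + 3))

/-- the regular representation of `∀ i, F i` on `ι → Fin (k + 3)` -/
def rho : (∀ i, F i) →* Perm (ι → Fin (k + 3)) :=
  ((Equiv.piCongrRight β).permCongrHom : Perm (∀ i, F i) ≃* Perm (ι → Fin (k + 3))).toMonoidHom.comp
    (MulAction.toPermHom (∀ i, F i) (∀ i, F i))

theorem rho_apply (g : ∀ i, F i) (x : ι → Fin (k + 3)) (i : ι) :
    rho β g x i = β i (g i * (β i).symm (x i)) := rfl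

theorem rho_eq_iff (g : ∀ i, F i) (x y : ι → Fin (k + 3)) (i : ι) :
    rho β g x i = rho β g y i ↔ x i = y i := by
  rw [rho_apply, rho_apply]
  constructor
  · intro h
    exact (β i).symm.injective (mul_left_cancel ((β i).injective h))
  · intro h
    rw [h]

theorem rho_mem (g : ∀ i, F i) : rho β g ∈ GX ι k := by
  intro x y
  constructor
  · rintro ⟨i, hi, hj⟩
    exact ⟨i, fun h => hi ((rho_eq_iff β g x y i).mpr h), fun j hji => (rho_eq_iff β g x y j).mp (hj j hji)⟩
  · rintro ⟨i, hi, hj⟩
    exact ⟨i, fun h => hi ((rho_eq_iff β g x y i).mp h), fun j hji => (rho_eq_iff β g x y j).mpr (hj j hji)⟩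

theorem rho_trans (x y : ι → Fin (k + 3)) : ∃ g : ∀ i, F i, rho β g x = y := by
  refine ⟨fun i => (β i).symm (y i) * ((β i).symm (x i))⁻¹, ?_⟩
  funext i
  rw [rho_apply, inv_mul_cancel_right, Equiv.apply_symm_apply]

theorem rho_free (g : ∀ i, F i) (x : ι → Fin (k + 3)) (h : rho β g x = x) : g = 1 := by
  funext i
  have := congrFun h i
  rw [rho_apply] at this
  have h2 : g i * (β i).symm (x i) = (β i).symm (x i) := by
    have h3 := congrArg (β i).symm this
    rwa [Equiv.symm_apply_apply] at h3
  exact mul_eq_right.mp h2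

theorem rho_injective [Nonempty (ι → Fin (k + 3))] : Function.Injective (rho β) := by
  rw [← MonoidHom.ker_eq_bot_iff, eq_bot_iff]
  intro g hg
  rw [MonoidHom.mem_ker] at hg
  rw [Subgroup.mem_bot]
  obtain ⟨x⟩ : Nonempty (ι → Fin (k + 3)) := inferInstance
  apply rho_free β g x
  rw [hg]; rfl

end Regular

/-! ### Transport to `Fin n` -/

section Transport

variable {X : Type*} [Fintype X]

/-- conjugation by `Fintype.equivFin` -/
noncomputable def conj : Perm X ≃* Perm (Fin (Fintype.card X)) := (Fintype.equivFin X).permCongrHom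

theorem conj_apply (g : Perm X) (a : Fin (Fintype.card X)) :
    conj g a = Fintype.equivFin X (g ((Fintype.equivFin X).symm a)) := rfl

/-- the transported subgroup -/
noncomputable def tr (H : Subgroup (Perm X)) : Subgroup (Perm (Fin (Fintype.card X))) :=
  H.map (conj (X := X)).toMonoidHom

theorem mem_tr (H : Subgroup (Perm X)) (r : Perm (Fin (Fintype.card X))) :
    r ∈ tr H ↔ ∃ g ∈ H, conj g = r := Iff.rfl

theorem tr_pretransitive (H : Subgroup (Perm X)) (h : ∀ x y : X, ∃ g ∈ H, g x = y) :
    IsPretransitive (tr H) (Fin (Fintype.card X)) := by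
  refine ⟨fun a b => ?_⟩
  obtain ⟨g, hg, hgx⟩ := h ((Fintype.equivFin X).symm a) ((Fintype.equivFin X).symm b)
  refine ⟨⟨conj g, ⟨g, hg, rfl⟩⟩, ?_⟩
  show conj g a = b
  rw [conj_apply, hgx, Equiv.apply_symm_apply]

theorem tr_stabilizer (H : Subgroup (Perm X)) (h : ∀ g ∈ H, ∀ x : X, g x = x → g = 1)
    (a : Fin (Fintype.card X)) : stabilizer (tr H) a = ⊥ := by
  rw [eq_bot_iff]
  rintro ⟨r, g, hg, rfl⟩ hr
  rw [mem_stabilizer_iff] at hr
  have h1 : conj g a = a := hr
  rw [conj_apply] at h1
  have h2 : g ((Fintype.equivFin X).symm a) = (Fintype.equivFin X).symm a := by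
    have h3 := congrArg (Fintype.equivFin X).symm h1
    rwa [Equiv.symm_apply_apply] at h3
  have h3 := h g hg _ h2
  rw [Subgroup.mem_bot]
  apply Subtype.ext
  show conj g = 1
  rw [h3, map_one]

/-- the group homomorphism `H → tr H` -/
noncomputable def trHom (H : Subgroup (Perm X)) : H → tr H :=
  fun g => ⟨conj (g : Perm X), ⟨g, g.2, rfl⟩⟩

theorem trHom_surjective (H : Subgroup (Perm X)) : Function.Surjective (trHom H) := by
  rintro ⟨r, g, hg, rfl⟩
  exact ⟨⟨g, hg⟩, rfl⟩

/-- the equivariant bijection -/
noncomputable def trMap (H : Subgroup (Perm X)) : X →ₑ[trHom H] Fin (Fintype.card X) where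
  toFun := Fintype.equivFin X
  map_smul' := by
    intro g x
    show Fintype.equivFin X ((g : Perm X) x) =
      conj (g : Perm X) (Fintype.equivFin X x)
    rw [conj_apply, Equiv.symm_apply_apply]

theorem tr_preprimitive (H : Subgroup (Perm X)) (h : IsPreprimitive H X) :
    IsPreprimitive (tr H) (Fin (Fintype.card X)) :=
  (isPreprimitive_congr (f := trMap H) (trHom_surjective H) (Fintype.equivFin X).bijective).mp h

theorem tr_not_two (H : Subgroup (Perm X))
    (h : ∃ a b c d : X, a ≠ b ∧ c ≠ d ∧ ∀ g ∈ H, ¬ (g a = c ∧ g b = d)) :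
    ¬ IsMultiplyPretransitive (tr H) (Fin (Fintype.card X)) 2 := by
  obtain ⟨a, b, c, d, hab, hcd, hno⟩ := h
  intro h2
  rw [is_two_pretransitive_iff] at h2
  obtain ⟨⟨r, g, hg, rfl⟩, h3, h4⟩ := h2 (a := Fintype.equivFin X a) (b := Fintype.equivFin X b)
    (c := Fintype.equivFin X c) (d := Fintype.equivFin X d)
    (fun h => hab ((Fintype.equivFin X).injective h))
    (fun h => hcd ((Fintype.equivFin X).injective h))
  apply hno g hg
  constructor
  · have : conj g (Fintype.equivFin X a) = Fintype.equivFin X c := h3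
    rw [conj_apply, Equiv.symm_apply_apply] at this
    exact (Fintype.equivFin X).injective this
  · have : conj g (Fintype.equivFin X b) = Fintype.equivFin X d := h4
    rw [conj_apply, Equiv.symm_apply_apply] at this
    exact (Fintype.equivFin X).injective this

end Transport

/-- Let K be a finite group isomorphic to a direct product of r ≥ 2 groups all of the same order m ≥ 3. Then K is not a B-group: there is a primitive but not doubly transitive permutation group (on some finite set) containing a regular subgroup isomorphic to K. -/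
theorem result {K : Type*} [Group K] [Finite K] {ι : Type*} [Fintype ι] (F : ι → Type*) [∀ i, Group (F i)]
    (hr : 2 ≤ Fintype.card ι) (m : ℕ) (hm : 3 ≤ m) (hcard : ∀ i, Nat.card (F i) = m) (e : K ≃* (∀ i, F i)) :
    ∃ (n : ℕ) (G R : Subgroup (Equiv.Perm (Fin n))), R ≤ G ∧ Nonempty (↥R ≃* K) ∧
      MulAction.IsPretransitive ↥R (Fin n) ∧ (∀ a : Fin n, MulAction.stabilizer ↥R a = ⊥) ∧
      MulAction.IsPreprimitive ↥G (Fin n) ∧ ¬ MulAction.IsMultiplyPretransitive ↥G (Fin n) 2 := by
  classical
  obtain ⟨k, rfl⟩ : ∃ k, m = k + 3 := ⟨m - 3, by omega⟩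
  have hfin : ∀ i, Finite (F i) := fun i =>
    Nat.finite_of_card_ne_zero (by rw [hcard i]; omega)
  obtain ⟨β⟩ : Nonempty (∀ i, F i ≃ Fin (k + 3)) :=
    ⟨fun i => Finite.equivFinOfCardEq (hcard i)⟩
  obtain ⟨i₀, i₁, h01⟩ : ∃ i₀ i₁ : ι, i₀ ≠ i₁ := by
    have : Nontrivial ι := Fintype.one_lt_card_iff_nontrivial.mp (by omega)
    exact exists_pair_ne ι
  have hne : Nonempty (ι → Fin (k + 3)) := ⟨o⟩
  have hle : (rho β).range ≤ GX ι k := by
    rintro _ ⟨g, rfl⟩
    exact rho_mem β g
  refine ⟨Fintype.card (ι → Fin (k + 3)), tr (GX ι k), tr (rho β).range,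
    Subgroup.map_mono hle, ?_, ?_, ?_, ?_, ?_⟩
  · have e1 : (rho β).range ≃* tr (rho β).range :=
      Subgroup.equivMapOfInjective _ _ (conj (X := ι → Fin (k + 3))).injective
    have e2 : (∀ i, F i) ≃* (rho β).range := MonoidHom.ofInjective (rho_injective β)
    exact ⟨e1.symm.trans (e2.symm.trans e.symm)⟩
  · apply tr_pretransitive
    intro x y
    obtain ⟨g, hg⟩ := rho_trans β x y
    exact ⟨rho β g, ⟨g, rfl⟩, hg⟩
  · apply tr_stabilizer
    rintro _ ⟨g, rfl⟩ x hx
    rw [rho_free β g x hx, map_one]
  · exact tr_preprimitive _ GX_preprimitive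
  · exact tr_not_two _ (GX_not_two i₀ i₁ h01)

end Cfsg.Agent.S3560
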