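import Mathlib
import Cfsg.Statements.S3573

set_option autoImplicit false

namespace Cfsg.Agent.S3573

open Equiv

/-- a permutation of order `r` with the maximal number of `r`-cycles -/
lemma exists_max (n r : ℕ) (hr : r.Prime) (hrn : r ≤ n) :
    ∃ σ : Perm (Fin n), orderOf σ = r ∧ Fintype.card (Function.fixedPoints σ) = n % r := by
  obtain ⟨σ, hσ⟩ := (Equiv.Perm.exists_with_cycleType_iff (Fin n)
    (m := Multiset.replicate (n / r) r)).2
    ⟨by simp [Nat.div_mul_le_self], by
      intro a ha; rw [Multiset.eq_of_mem_replicate ha]; exact hr.two_le⟩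
  have hc : 1 ≤ n / r := Nat.div_pos hrn hr.pos
  refine ⟨σ, ?_, ?_⟩
  · rw [← Equiv.Perm.lcm_cycleType, hσ]
    apply Nat.dvd_antisymm
    · apply Multiset.lcm_dvd.2
      intro a ha
      rw [Multiset.eq_of_mem_replicate ha]
    · apply Multiset.dvd_lcm
      rw [Multiset.mem_replicate]
      exact ⟨by omega, rfl⟩
  · rw [Equiv.Perm.card_fixedPoints, hσ, Multiset.sum_replicate, Fintype.card_fin, smul_eq_mul]
    have := Nat.div_add_mod n r
    have h2 : n / r * r = r * (n / r) := mul_comm _ _
    omega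

lemma forward (n k r : ℕ) (hr : r.Prime) (hrn : r ≤ n)
    (h : ∀ σ : Perm (Fin n), orderOf σ = r →
      ∃ s : Finset (Fin n), s.card = k ∧ s.image σ = s) :
    k % r ≤ n % r := by
  have := Fact.mk hr
  obtain ⟨σ, hord, hfix⟩ := exists_max n r hr hrn
  obtain ⟨s, hsk, hs⟩ := h σ hord
  have hmem : ∀ x, σ x ∈ s ↔ x ∈ s := by
    intro x
    constructor
    · intro hx
      rw [← hs] at hx
      obtain ⟨y, hy, hyx⟩ := Finset.mem_image.1 hx
      rw [← σ.injective hyx]; exact hy
    · intro hx
      rw [← hs]; exact Finset.mem_image_of_mem _ hx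
  let τ : Perm {x // x ∈ s} := σ.subtypePerm hmem
  have hτr : τ ^ r = 1 := by
    ext x
    simp only [τ, Perm.subtypePerm_pow, Perm.subtypePerm_apply, Perm.coe_one, id_eq]
    rw [← hord, pow_orderOf_eq_one]
    rfl
  let f : Function.End {x // x ∈ s} := ⇑τ
  have hτ : f ^ r ^ 1 = 1 := by
    rw [pow_one]
    have h1 : f ^ r = ⇑(τ ^ r) := by
      rw [← Equiv.Perm.iterate_eq_pow]
      rfl
    rw [h1, hτr]
    rfl
  have hmod := Equiv.Perm.card_fixedPoints_modEq (p := r) (n := 1) hτ
  rw [Fintype.card_coe, hsk] at hmod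
  have hle : Fintype.card (Function.fixedPoints f) ≤
      Fintype.card (Function.fixedPoints σ) := by
    apply Fintype.card_le_of_injective
      (fun x => (⟨x.1.1, by
        have := x.2
        have h2 : τ x.1 = x.1 := this
        have h3 := congrArg Subtype.val h2
        exact h3⟩ : Function.fixedPoints σ))
    intro x y hxy
    apply Subtype.ext
    apply Subtype.ext
    have := congrArg Subtype.val hxy
    exact this
  rw [hfix] at hle
  have hlt : n % r < r := Nat.mod_lt _ hr.pos
  have : k % r = Fintype.card (Function.fixedPoints f) % r := hmod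
  rw [Nat.mod_eq_of_lt (lt_of_le_of_lt hle hlt)] at this
  omega

lemma backward (n k r : ℕ) (hr : r.Prime) (hkn : k ≤ n) (hmod : k % r ≤ n % r)
    (σ : Perm (Fin n)) (hord : orderOf σ = r) :
    ∃ s : Finset (Fin n), s.card = k ∧ s.image σ = s := by
  classical
  obtain ⟨c', hc'⟩ := Equiv.Perm.cycleType_prime_order (σ := σ) (hord ▸ hr)
  rw [hord] at hc'
  have hcard : σ.cycleFactorsFinset.card = c' + 1 := by
    have := congrArg Multiset.card hc'
    rw [Equiv.Perm.cycleType_def, Multiset.card_map, Multiset.card_replicate] at this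
    exact this
  have hsupp : ∀ τ ∈ σ.cycleFactorsFinset, τ.support.card = r := by
    intro τ hτ
    have : τ.support.card ∈ σ.cycleType := by
      rw [Equiv.Perm.cycleType_def]
      exact Multiset.mem_map_of_mem (Finset.card ∘ Equiv.Perm.support) hτ
    rw [hc'] at this
    exact Multiset.eq_of_mem_replicate this
  have hsum : σ.support.card = (c' + 1) * r := by
    rw [← Equiv.Perm.sum_cycleType, hc', Multiset.sum_replicate, smul_eq_mul]
  have hsn : (c' + 1) * r ≤ n := by
    rw [← hsum]
    have := Finset.card_le_univ σ.support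
    rwa [Fintype.card_fin] at this
  obtain ⟨T, hT, hTa⟩ := Finset.exists_subset_card_eq (s := σ.cycleFactorsFinset)
    (n := min (c' + 1) (k / r)) (by rw [hcard]; exact min_le_left _ _)
  have hS₁card : (T.biUnion Equiv.Perm.support).card = min (c' + 1) (k / r) * r := by
    rw [Finset.card_biUnion]
    · rw [Finset.sum_congr rfl (fun τ hτ => hsupp τ (hT hτ))]
      simp [hTa]
    · intro τ hτ τ' hτ' hne
      exact (σ.cycleFactorsFinset_pairwise_disjoint (hT hτ) (hT hτ') hne).disjoint_support
  have hS₁sub : T.biUnion Equiv.Perm.support ⊆ σ.support := by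
    intro x hx
    obtain ⟨τ, hτ, hxτ⟩ := Finset.mem_biUnion.1 hx
    exact Equiv.Perm.mem_cycleFactorsFinset_support_le (hT hτ) hxτ
  have hS₁inv : ∀ x ∈ T.biUnion Equiv.Perm.support, σ x ∈ T.biUnion Equiv.Perm.support := by
    intro x hx
    obtain ⟨τ, hτ, hxτ⟩ := Finset.mem_biUnion.1 hx
    have h1 := (Equiv.Perm.mem_cycleFactorsFinset_iff.1 (hT hτ)).2 x hxτ
    rw [← h1]
    exact Finset.mem_biUnion.2 ⟨τ, hτ, Equiv.Perm.apply_mem_support.2 hxτ⟩
  have har : min (c' + 1) (k / r) * r ≤ k := by
    calc min (c' + 1) (k / r) * r ≤ (k / r) * r := Nat.mul_le_mul_right _ (min_le_right _ _)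
      _ ≤ k := Nat.div_mul_le_self k r
  have hb : k - min (c' + 1) (k / r) * r ≤ (Finset.univ \ σ.support).card := by
    rw [Finset.card_sdiff_of_subset (Finset.subset_univ _), Finset.card_univ, Fintype.card_fin, hsum]
    rcases le_total (c' + 1) (k / r) with hle | hle
    · rw [min_eq_left hle]
      omega
    · rw [min_eq_right hle]
      have h1 : k - k / r * r = k % r := by
        have := Nat.div_add_mod k r
        have h2 : k / r * r = r * (k / r) := mul_comm _ _
        omega
      rw [h1]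
      have h2 : (n - (c' + 1) * r) % r = n % r := by
        rw [mul_comm]
        exact Nat.sub_mul_mod (by rw [mul_comm]; exact hsn)
      calc k % r ≤ n % r := hmod
        _ = (n - (c' + 1) * r) % r := h2.symm
        _ ≤ n - (c' + 1) * r := Nat.mod_le _ _
  obtain ⟨B, hB, hBb⟩ := Finset.exists_subset_card_eq hb
  have hBfix : ∀ x ∈ B, σ x = x := by
    intro x hx
    have := hB hx
    rw [Finset.mem_sdiff, Equiv.Perm.mem_support, not_not] at this
    exact this.2
  have hdisj : Disjoint (T.biUnion Equiv.Perm.support) B := by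
    rw [Finset.disjoint_left]
    intro x hx hxB
    have h1 := hS₁sub hx
    have h2 := hB hxB
    rw [Finset.mem_sdiff] at h2
    exact h2.2 h1
  refine ⟨T.biUnion Equiv.Perm.support ∪ B, ?_, ?_⟩
  · rw [Finset.card_union_of_disjoint hdisj, hS₁card, hBb]
    omega
  · apply Finset.eq_of_subset_of_card_le
    · intro y hy
      obtain ⟨x, hx, rfl⟩ := Finset.mem_image.1 hy
      rcases Finset.mem_union.1 hx with hx | hx
      · exact Finset.mem_union_left _ (hS₁inv x hx)
      · rw [hBfix x hx]; exact Finset.mem_union_right _ hx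
    · rw [Finset.card_image_of_injective _ σ.injective]

lemma key (n k r : ℕ) (hr : r.Prime) (hrn : r ≤ n) (hkn : k ≤ n) :
    (∀ σ : Perm (Fin n), orderOf σ = r → ∃ s : Finset (Fin n), s.card = k ∧ s.image σ = s) ↔
      k % r ≤ n % r :=
  ⟨forward n k r hr hrn, fun h σ hσ => backward n k r hr hkn h σ hσ⟩

lemma le_of_dvd_choose (n k r : ℕ) (hr : r.Prime) (hkn : k ≤ n) (hrd : r ∣ Nat.choose n k) :
    r ≤ n := by
  rw [← hr.dvd_factorial]
  exact hrd.trans ⟨k.factorial * (n - k).factorial, by
    rw [← mul_assoc]; exact (Nat.choose_mul_factorial_mul_factorial hkn).symm⟩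

lemma le_of_mod_le (n k r : ℕ) (hr : r.Prime) (hrd : r ∣ Nat.choose n k)
    (hmod : k % r ≤ n % r) : r ≤ k := by
  by_contra hlt
  rw [not_le] at hlt
  rw [Nat.mod_eq_of_lt hlt] at hmod
  have h1 : r ∣ n.descFactorial k := by
    rw [Nat.descFactorial_eq_factorial_mul_choose]
    exact hrd.mul_left _
  rw [Nat.descFactorial_eq_prod_range, Prime.dvd_finsetProd_iff (Nat.prime_iff.1 hr)] at h1
  obtain ⟨i, hi, hdvd⟩ := h1
  rw [Finset.mem_range] at hi
  have h2 := Nat.div_add_mod n r
  have h3 : r ∣ n - i - r * (n / r) := Nat.dvd_sub hdvd (dvd_mul_right _ _)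
  have h4 : n - i - r * (n / r) = n % r - i := by omega
  rw [h4] at h3
  have h5 := Nat.le_of_dvd (by omega) h3
  have h6 : n % r < r := Nat.mod_lt _ hr.pos
  omega

theorem result (n k : ℕ) (hk : 1 ≤ k) (hkn : 2 * k < n) (r : ℕ) (hr : r.Prime) (hrd : r ∣ Nat.choose n k) :
    (r ≠ 2 → ((∀ σ : Equiv.Perm (Fin n), orderOf σ = r → ∃ s : Finset (Fin n), s.card = k ∧ s.image σ = s) ↔
      (r ≤ k ∧ k % r ≤ n % r))) ∧
    (r = 2 → ((∀ σ : Equiv.Perm (Fin n), orderOf σ = 2 → ∃ s : Finset (Fin n), s.card = k ∧ s.image σ = s) ↔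
      (Even k ∨ Odd n))) := by
  have hkn' : k ≤ n := by omega
  have hrn := le_of_dvd_choose n k r hr hkn' hrd
  constructor
  · intro _
    rw [key n k r hr hrn hkn']
    constructor
    · intro h
      exact ⟨le_of_mod_le n k r hr hrd h, h⟩
    · intro h
      exact h.2
  · intro h2
    subst h2
    rw [key n k 2 hr hrn hkn', Nat.even_iff, Nat.odd_iff]
    omega

end Cfsg.Agent.S3573
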