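import Mathlib
import Cfsg.Statements.S3575
import Cfsg.Agent.Lib.Helper8.UPartA
import Cfsg.Agent.Lib.Helper8.UPartB
import Cfsg.Agent.Lib.Helper8.UPartC
import Cfsg.Agent.Lib.Helper8.UPartD

set_option autoImplicit false
open Cfsg

namespace Cfsg.Agent.S3575

open Cfsg.Agent.Lib.Helper8.UPart

/-- Let a, b ≥ 2 and consider the symmetric group of degree a·b acting on the partitions of an (a·b)-set into b parts of size a (encoded as maps onto a b-element set all of whose fibres have a elements; a permutation fixes such a partition when it permutes the fibres). Let r be a prime dividing the number (ab)!/((a!)^b·b!) of such partitions, and let ℓ and k be the remainders of a and b modulo r. Then every permutation of order r fixes some such partition if and only if r ≤ a and one of the following holds: ℓ = 0; or k = 0 and ℓ = 1; or ℓ and k are non-zero, k·ℓ < r, and either b < r or (k + r)·ℓ ≤ k·a + r. -/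
theorem result (a b : ℕ) (ha : 2 ≤ a) (hb : 2 ≤ b) (r : ℕ) (hr : r.Prime)
    (hrd : r ∣ (a * b).factorial / (a.factorial ^ b * b.factorial)) :
    (∀ σ : Equiv.Perm (Fin (a * b)), orderOf σ = r →
        ∃ f : Fin (a * b) → Fin b, (∀ j : Fin b, Nat.card {x : Fin (a * b) // f x = j} = a) ∧
          ∃ π : Equiv.Perm (Fin b), ∀ x : Fin (a * b), f (σ x) = π (f x)) ↔
      (r ≤ a ∧ (a % r = 0 ∨ (b % r = 0 ∧ a % r = 1) ∨
        (a % r ≠ 0 ∧ b % r ≠ 0 ∧ (b % r) * (a % r) < r ∧ (b < r ∨ (b % r + r) * (a % r) ≤ (b % r) * a + r)))) := by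
  have hrab : r ≤ a * b := by
    have h1 := factorial_pow_mul_factorial_dvd a (by omega) b
    have h2 : (a * b).factorial / (a.factorial ^ b * b.factorial) ∣ (a * b).factorial :=
      Nat.div_dvd_of_dvd h1
    exact (hr.dvd_factorial).1 (hrd.trans h2)
  rw [← cond_iff a b r hr.two_le hb]
  have ha' : (a / r) * r + a % r = a := by rw [mul_comm]; exact Nat.div_add_mod a r
  have hb' : (b / r) * r + b % r = b := by rw [mul_comm]; exact Nat.div_add_mod b r
  constructor
  · intro H
    apply arith_nec r (a / r) (b / r) (a % r) (b % r) hr.two_le (Nat.mod_lt _ hr.pos)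
      (by rw [ha']; exact ha) (by rw [ha', hb']; exact hrab)
    intro j hj1 hj2
    rw [ha', hb'] at hj2 ⊢
    obtain ⟨σ, hσ1, hσ2, hσ3⟩ := exists_perm_fixN (Ω := Fin (a * b)) hr j (by simpa using hj2)
    obtain ⟨f, hf, π, hπ⟩ := H σ (hσ3 hj1)
    obtain ⟨u, hu1, hu2, hu3⟩ := nec hr a (by omega) σ hσ1 f
      (fun j => by rw [← Nat.card_eq_fintype_card]; exact hf j) π hπ
    rw [Fintype.card_fin] at hu1 hσ2
    refine ⟨u, fixN π, hu1, ?_, ?_⟩
    · omega
    · omega
  · intro hC σ hσ
    obtain ⟨j, hj1, hj2⟩ := fixN_of_orderOf hr σ hσ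
    rw [Fintype.card_fin] at hj2
    obtain ⟨u, c, h1, h2, h3⟩ := arith_suf r _ _ _ _ hr.two_le hC j (by rw [ha', hb']; omega)
    rw [ha'] at h2 h3
    rw [hb'] at h1
    obtain ⟨S, hS⟩ : ∃ S, j = a * u + S := ⟨j - a * u, by omega⟩
    have hσ1 : σ ^ r = 1 := by rw [← hσ]; exact pow_orderOf_eq_one σ
    have e1 : (a * u + S) * r = a * u * r + S * r := by ring
    have e2 : a * (u * r + c) = a * u * r + a * c := by ring
    obtain ⟨f, hf, π, hπ⟩ := suf (Bk := Fin b) hr a σ hσ1 u c (by simp) (by simpa using h1) S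
      (by omega) (by
        have e3 : a * b = a * u * r + a * c := by rw [h1]; exact e2
        rw [hS, e1] at hj2; omega)
    exact ⟨f, fun j => by rw [Nat.card_eq_fintype_card]; exact hf j, π, hπ⟩

end Cfsg.Agent.S3575
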