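import Cfsg.Statements.S3599
import Cfsg.Agent.Lib.S3599.Main

set_option autoImplicit false
open Cfsg

namespace Cfsg.Agent.S3599

open Cfsg.Agent.S3599L in
theorem result (s : ℕ) (hs : 1 ≤ s) (p : Fin s → Fin 2 → ℕ)
    (hp : ∀ j i, (p j i).Prime) (hinj : ∀ j i j' i', p j i = p j' i' → j = j' ∧ i = i') :
    ∃ (G : Fin (2 ^ s) → Type) (_ : ∀ a, Group (G a)) (_ : ∀ a, Fintype (G a)),
      (∀ a b, a ≠ b → ¬ Nonempty (G a ≃* G b)) ∧
      ∀ a, Set.range (orderOf : (G a) → ℕ) = {m : ℕ | ∃ c : Fin s → ℕ, (∀ j, c j = 1 ∨ c j = p j 0 ∨ c j = p j 1) ∧ m = ∏ j, c j} ∧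
      ∀ (H : Subgroup (G a)) (N : Subgroup ↥H) [N.Normal], (H ≠ ⊤ ∨ N ≠ ⊥) → Set.range (orderOf : (↥H ⧸ N) → ℕ) ≠ {m : ℕ | ∃ c : Fin s → ℕ, (∀ j, c j = 1 ∨ c j = p j 0 ∨ c j = p j 1) ∧ m = ∏ j, c j} := by
  refine ⟨fun a => ∀ j, (M_pk hp hinj a j).F, fun a => inferInstance,
    fun a => Fintype.ofFinite _, ?_, ?_⟩
  · rintro a b hab ⟨e⟩
    exact M_card_ne hp hinj a b hab (Nat.card_congr e.toEquiv)
  · intro a
    rw [← M_Om_eq a]
    refine ⟨?_, ?_⟩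
    · exact PO_range_orderOf (M_r p a) (M_t p a) (fun j => (M_pk hp hinj a j).F)
        (M_r_prime hp hinj a) (M_t_prime hp hinj a) (M_rt_ne hp hinj a) (M_dist hp hinj a)
        (M_isFrob hp hinj a)
    · intro H N _ hHN
      exact M_critical (M_r p a) (M_t p a) (fun j => (M_pk hp hinj a j).F)
        (M_r_prime hp hinj a) (M_t_prime hp hinj a) (M_rt_ne hp hinj a) (M_dist hp hinj a)
        (M_isFrob hp hinj a) H N hHN

end Cfsg.Agent.S3599
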