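import Mathlib
import Cfsg.Statements.S3619
import Cfsg.Agent.Lib.Helper8.JordanSet

set_option autoImplicit false
open Cfsg

namespace Cfsg.Agent.S3619

open Cfsg.Agent.Lib.Helper8.JordanSet

theorem result {G Ω : Type*} [Group G] [Finite G] [MulAction G Ω] [FaithfulSMul G Ω] [Finite Ω]
    (hqp : ∀ N : Subgroup G, N.Normal → N ≠ ⊥ → MulAction.IsPretransitive ↥N Ω)
    (Γ : Set Ω) (hΓ1 : 1 < Γ.ncard) (hΓ2 : Γ.ncard < Nat.card Ω)
    (hJ : MulAction.IsPretransitive ↥(fixingSubgroup G Γᶜ) ↥(SubMulAction.ofFixingSubgroup G Γᶜ))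
    (hJp : MulAction.IsPreprimitive ↥(fixingSubgroup G Γᶜ) ↥(SubMulAction.ofFixingSubgroup G Γᶜ)) :
    MulAction.IsMultiplyPretransitive G Ω (Nat.card Ω - Γ.ncard + 1) := by
  have hprim : MulAction.IsPreprimitive G Ω := isPreprimitive_of_quasi hqp Γ hΓ1 hJp
  have hcompl : (Γᶜ).ncard = Nat.card Ω - Γ.ncard := by
    have := Set.ncard_add_ncard_compl Γ
    omega
  obtain ⟨n, hn⟩ : ∃ n, Nat.card Ω - Γ.ncard = n + 1 := ⟨Nat.card Ω - Γ.ncard - 1, by omega⟩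
  have hsn : (Γᶜ).ncard = n + 1 := by rw [hcompl, hn]
  have hsn' : n + 2 < Nat.card Ω := by omega
  have h := hprim.isMultiplyPreprimitive hsn hsn' hJp
  rw [hn]
  exact h.isMultiplyPretransitive

end Cfsg.Agent.S3619
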