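import Cfsg.Statements.S3627
import Cfsg.Agent.Lib.Lead.J1Spec.Spec
import Cfsg.Agent.Lib.Lead.J1Spec.Dih

set_option autoImplicit false
open Cfsg

namespace Cfsg.Agent.S3627

open Cfsg.Agent.J1Spec

theorem range_orderOf_prod {A B : Type*} [Monoid A] [Monoid B] {FA FB : Finset ℕ}
    (hA : Set.range (orderOf : A → ℕ) = (FA : Set ℕ))
    (hB : Set.range (orderOf : B → ℕ) = (FB : Set ℕ)) :
    Set.range (orderOf : A × B → ℕ) = (Finset.image₂ Nat.lcm FA FB : Set ℕ) := by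
  rw [Finset.coe_image₂, ← hA, ← hB]
  ext n
  constructor
  · rintro ⟨x, rfl⟩
    exact ⟨_, ⟨x.1, rfl⟩, _, ⟨x.2, rfl⟩, (Prod.orderOf x).symm⟩
  · rintro ⟨_, ⟨a, rfl⟩, _, ⟨b, rfl⟩, rfl⟩
    exact ⟨(a, b), Prod.orderOf_mk⟩

theorem spec_eq : Finset.image₂ Nat.lcm specJ1 (Finset.image₂ Nat.lcm specJ1
      (Finset.image₂ Nat.lcm specJ1 specD)) =
    Finset.image₂ Nat.lcm specJ1 (Finset.image₂ Nat.lcm specJ1
      (Finset.image₂ Nat.lcm specJ1 specJ1)) := by
  decide +kernel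

/-- Let J be the first Janko group. Then there are finite groups of arbitrarily large order with exactly the same set of element orders as J × J × J × J. -/
theorem result (N : ℕ) : ∃ (H : Type) (_ : Group H) (_ : Fintype H), N < Fintype.card H ∧
      Set.range (orderOf : H → ℕ) = Set.range (orderOf : ↥Cfsg.Spor.J1 × ↥Cfsg.Spor.J1 × ↥Cfsg.Spor.J1 × ↥Cfsg.Spor.J1 → ℕ) := by
  have : Finite ↥Cfsg.Spor.J1 := Nat.finite_of_card_ne_zero (by
    rw [Cfsg.Agent.Lib.Helper6.J1.card_G]; norm_num)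
  refine ⟨↥Cfsg.Spor.J1 × ↥Cfsg.Spor.J1 × ↥Cfsg.Spor.J1 × ↥(dihFib (Fin (N + 1))), inferInstance,
    Fintype.ofFinite _, ?_, ?_⟩
  · rw [Fintype.card_eq_nat_card, Nat.card_prod, Nat.card_prod, Nat.card_prod]
    have h1 : 0 < Nat.card ↥Cfsg.Spor.J1 := Nat.card_pos
    have h2 := card_dihFib_ge (Fin (N + 1))
    rw [Nat.card_fin] at h2
    have h3 : N < 7 ^ (N + 1) := lt_of_lt_of_le (Nat.lt_succ_self N) (Nat.lt_pow_self (by norm_num)).le
    have h4 : N < Nat.card ↥(dihFib (Fin (N + 1))) := lt_of_lt_of_le h3 h2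
    calc N < Nat.card ↥(dihFib (Fin (N + 1))) := h4
      _ ≤ Nat.card ↥Cfsg.Spor.J1 * (Nat.card ↥Cfsg.Spor.J1 * (Nat.card ↥Cfsg.Spor.J1 *
          Nat.card ↥(dihFib (Fin (N + 1))))) := by
        refine le_trans ?_ (Nat.le_mul_of_pos_left _ h1)
        refine le_trans ?_ (Nat.le_mul_of_pos_left _ h1)
        exact Nat.le_mul_of_pos_left _ h1
  · have hJ := range_orderOf
    have hD := range_orderOf_dihFib (Fin (N + 1))
    rw [range_orderOf_prod hJ (range_orderOf_prod hJ (range_orderOf_prod hJ hD)),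
      range_orderOf_prod hJ (range_orderOf_prod hJ (range_orderOf_prod hJ hJ)), spec_eq]

end Cfsg.Agent.S3627
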