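import Mathlib
import Cfsg.Statements.S3634

set_option autoImplicit false
open Cfsg

namespace Cfsg.Agent.S3634


open Finset

/-- Frobenius-type lemma: `Q⟨x⟩` acts on the abelian group `A`, `x` of prime order `r` acting
fixed-point-freely on `Q` and on `A`, some `y ∈ Q` fixed-point-free on `A`, `|Q|` coprime to `|A|`.
Then `A` is trivial. -/
theorem frob_lemma {A Γ : Type*} [CommGroup A] [Finite A] [Group Γ] (φ : Γ →* MulAut A)
    (Q : Subgroup Γ) [Finite Q] (x : Γ) (r : ℕ) (hr : r.Prime) (hxr : x ^ r = 1)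
    (hxQ : ∀ u ∈ Q, x * u * x⁻¹ ∈ Q)
    (ha : ∀ i : ℕ, ¬ r ∣ i → ∀ u ∈ Q, x ^ i * u * (x ^ i)⁻¹ = u → u = 1)
    (hb : ∀ a : A, φ x a = a → a = 1)
    (y : Γ) (hy : y ∈ Q) (hc : ∀ a : A, φ y a = a → a = 1)
    (hd : (Nat.card Q).Coprime (Nat.card A)) : ∀ a : A, a = 1 := by
  classical
  have : Fintype Q := Fintype.ofFinite Q
  intro a
  -- x^i normalizes Q
  have hxiQ : ∀ (i : ℕ) (u : Γ), u ∈ Q → x ^ i * u * (x ^ i)⁻¹ ∈ Q := by
    intro i
    induction i with
    | zero => intro u hu; simpa using hu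
    | succ i ih =>
      intro u hu
      have : x ^ (i + 1) * u * (x ^ (i + 1))⁻¹ = x * (x ^ i * u * (x ^ i)⁻¹) * x⁻¹ := by
        rw [pow_succ']; group
      rw [this]
      exact hxQ _ (ih u hu)
  -- Claim 4: the norm of x kills everything
  have hnorm : ∀ b : A, ∏ i ∈ range r, φ (x ^ i) b = 1 := by
    intro b
    apply hb
    rw [map_prod]
    have h0 : ∀ i ∈ range r, φ x (φ (x ^ i) b) = φ (x ^ (i + 1)) b := by
      intro i _
      rw [pow_succ', map_mul]; rfl
    rw [Finset.prod_congr rfl h0]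
    have h1 := Finset.prod_range_succ (fun i => φ (x ^ i) b) r
    have h2 := Finset.prod_range_succ' (fun i => φ (x ^ i) b) r
    rw [h1] at h2
    simp only [hxr, pow_zero] at h2
    exact (mul_right_cancel h2).symm
  -- the total product
  set T : A := ∏ i ∈ range r, ∏ u : Q, φ ((u : Γ) * x ^ i) a with hT
  set S : A := ∏ u : Q, φ (u : Γ) a with hS
  -- S is fixed by y
  have hS1 : S = 1 := by
    apply hc
    rw [hS, map_prod]
    have : ∀ u : Q, φ y (φ (u : Γ) a) = φ (((⟨y, hy⟩ * u : Q) : Γ)) a := by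
      intro u
      rw [Subgroup.coe_mul, map_mul]; rfl
    simp_rw [this]
    exact Fintype.prod_bijective (fun u : Q => ⟨y, hy⟩ * u) (Group.mulLeft_bijective _) _ _
      (fun _ => rfl)
  -- each coset product, i not divisible by r
  have hcoset : ∀ i : ℕ, ¬ r ∣ i →
      ∏ u : Q, φ ((u : Γ) * x ^ i) a = ∏ w : Q, φ ((w : Γ) * x ^ i * (w : Γ)⁻¹) a := by
    intro i hi
    -- bijection w ↦ w * (x^i w⁻¹ x^{-i})
    let f : Q → Q := fun w => ⟨(w : Γ) * (x ^ i * (w : Γ)⁻¹ * (x ^ i)⁻¹),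
      Q.mul_mem w.2 (hxiQ i _ (Q.inv_mem w.2))⟩
    have hf : Function.Injective f := by
      intro w w' hww'
      have h1 : (w : Γ) * (x ^ i * (w : Γ)⁻¹ * (x ^ i)⁻¹) = (w' : Γ) * (x ^ i * (w' : Γ)⁻¹ * (x ^ i)⁻¹) :=
        congrArg Subtype.val hww'
      have h2 : x ^ i * ((w' : Γ)⁻¹ * (w : Γ)) * (x ^ i)⁻¹ = (w' : Γ)⁻¹ * (w : Γ) := by
        generalize x ^ i = X at h1 ⊢
        have h3 : (w' : Γ)⁻¹ * ((w : Γ) * (X * (w : Γ)⁻¹ * X⁻¹)) * (X * (w : Γ) * X⁻¹) =
            (w' : Γ)⁻¹ * ((w' : Γ) * (X * (w' : Γ)⁻¹ * X⁻¹)) * (X * (w : Γ) * X⁻¹) := by rw [h1]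
        have hL : (w' : Γ)⁻¹ * ((w : Γ) * (X * (w : Γ)⁻¹ * X⁻¹)) * (X * (w : Γ) * X⁻¹) =
            (w' : Γ)⁻¹ * (w : Γ) := by group
        have hR : (w' : Γ)⁻¹ * ((w' : Γ) * (X * (w' : Γ)⁻¹ * X⁻¹)) * (X * (w : Γ) * X⁻¹) =
            X * ((w' : Γ)⁻¹ * (w : Γ)) * X⁻¹ := by group
        rw [hL, hR] at h3
        exact h3.symm
      have h4 := ha i hi _ (Q.mul_mem (Q.inv_mem w'.2) w.2) h2
      apply Subtype.ext
      have : (w : Γ) = (w' : Γ) * ((w' : Γ)⁻¹ * (w : Γ)) := by group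
      rw [this, h4, mul_one]
    have hfb : Function.Bijective f := Finite.injective_iff_bijective.1 hf
    symm
    apply Fintype.prod_bijective f hfb
    intro w
    congr 2
    show (w : Γ) * x ^ i * (w : Γ)⁻¹ = (w : Γ) * (x ^ i * (w : Γ)⁻¹ * (x ^ i)⁻¹) * x ^ i
    group
  -- g i := product over the coset Q x^i
  set g : ℕ → A := fun i => ∏ u : Q, φ ((u : Γ) * x ^ i) a with hg
  have hgr : g r = g 0 := by
    simp only [hg, hxr, pow_zero]
  -- T is fixed by x
  have hT1 : T = 1 := by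
    apply hb
    have hT' : T = ∏ i ∈ range r, g i := rfl
    rw [hT', map_prod]
    have h0 : ∀ i ∈ range r, φ x (g i) = g (i + 1) := by
      intro i _
      simp only [hg]
      rw [map_prod]
      let e : Q → Q := fun u => ⟨x * (u : Γ) * x⁻¹, hxQ _ u.2⟩
      have he : Function.Bijective e := by
        apply Finite.injective_iff_bijective.1
        intro u u' huu'
        have h1 : x * (u : Γ) * x⁻¹ = x * (u' : Γ) * x⁻¹ := congrArg Subtype.val huu'
        apply Subtype.ext
        have := congrArg (fun z => x⁻¹ * z * x) h1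
        simpa [mul_assoc] using this
      apply Fintype.prod_bijective e he
      intro u
      show φ x (φ ((u : Γ) * x ^ i) a) = φ (x * (u : Γ) * x⁻¹ * x ^ (i + 1)) a
      have : x * (u : Γ) * x⁻¹ * x ^ (i + 1) = x * ((u : Γ) * x ^ i) := by
        rw [pow_succ']; group
      rw [this, map_mul φ x]; rfl
    rw [Finset.prod_congr rfl h0]
    have h1 := Finset.prod_range_succ g r
    have h2 := Finset.prod_range_succ' g r
    rw [h1, hgr] at h2
    exact (mul_right_cancel h2).symm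
  -- decomposition of T
  obtain ⟨r', rfl⟩ : ∃ r', r = r' + 1 := ⟨r - 1, by have := hr.two_le; omega⟩
  have hT2 : T = (∏ i ∈ range r', g (i + 1)) * g 0 := Finset.prod_range_succ' g r'
  have hg0 : g 0 = S := by simp only [hg, hS, pow_zero, mul_one]
  have hgi : ∀ i ∈ range r', g (i + 1) = ∏ w : Q, φ ((w : Γ) * x ^ (i + 1) * (w : Γ)⁻¹) a := by
    intro i hi
    apply hcoset
    intro hdvd
    have := Nat.le_of_dvd (Nat.succ_pos i) hdvd
    have := Finset.mem_range.1 hi
    omega
  have hw : ∀ w : Q, ∏ i ∈ range r', φ ((w : Γ) * x ^ (i + 1) * (w : Γ)⁻¹) a = a⁻¹ := by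
    intro w
    have h1 := Finset.prod_range_succ' (fun i => φ ((w : Γ) * x ^ i * (w : Γ)⁻¹) a) r'
    have h2 : ∏ i ∈ range (r' + 1), φ ((w : Γ) * x ^ i * (w : Γ)⁻¹) a = 1 := by
      have h3 : ∀ i ∈ range (r' + 1), φ ((w : Γ) * x ^ i * (w : Γ)⁻¹) a =
          φ (w : Γ) (φ (x ^ i) (φ ((w : Γ)⁻¹) a)) := by
        intro i _
        rw [map_mul, map_mul]; rfl
      rw [Finset.prod_congr rfl h3, ← map_prod, hnorm, map_one]
    rw [h2] at h1
    simp only [pow_zero, mul_one, mul_inv_cancel, map_one, MulAut.one_apply] at h1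
    exact eq_inv_of_mul_eq_one_left h1.symm
  rw [Finset.prod_congr rfl hgi, Finset.prod_comm, Finset.prod_congr rfl (fun w _ => hw w),
    Finset.prod_const, Finset.card_univ, hg0, hS1, mul_one, hT1] at hT2
  -- a ^ |Q| = 1
  have hpow : a ^ Nat.card Q = 1 := by
    rw [Nat.card_eq_fintype_card]
    have := hT2.symm
    rwa [inv_pow, inv_eq_one] at this
  have h1 : orderOf a ∣ Nat.card Q := orderOf_dvd_of_pow_eq_one hpow
  have h2 : orderOf a ∣ Nat.card A := orderOf_dvd_natCard a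
  have h3 : orderOf a = 1 := Nat.eq_one_of_dvd_coprimes hd h1 h2
  exact orderOf_eq_one_iff.1 h3


/-- version with a commutativity hypothesis instead of a `CommGroup` instance -/
theorem frob_lemma' {A Γ : Type*} [Group A] (hcomm : ∀ a b : A, a * b = b * a) [Finite A] [Group Γ]
    (φ : Γ →* MulAut A)
    (Q : Subgroup Γ) [Finite Q] (x : Γ) (r : ℕ) (hr : r.Prime) (hxr : x ^ r = 1)
    (hxQ : ∀ u ∈ Q, x * u * x⁻¹ ∈ Q)
    (ha : ∀ i : ℕ, ¬ r ∣ i → ∀ u ∈ Q, x ^ i * u * (x ^ i)⁻¹ = u → u = 1)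
    (hb : ∀ a : A, φ x a = a → a = 1)
    (y : Γ) (hy : y ∈ Q) (hc : ∀ a : A, φ y a = a → a = 1)
    (hd : (Nat.card Q).Coprime (Nat.card A)) : ∀ a : A, a = 1 := by
  let inst : CommGroup A := { (inferInstance : Group A) with mul_comm := hcomm }
  exact frob_lemma (A := A) φ Q x r hr hxr hxQ ha hb y hy hc hd

/-- commuting elements of coprime prime-power / prime orders give an element of order `p * s` -/
theorem exists_order_mul {G : Type*} [Group G] {p s : ℕ} (hp : p.Prime) (hs : s.Prime)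
    (hps : p ≠ s) (a b : G) (hab : Commute a b) (ha1 : a ≠ 1) (hap : ∃ k, orderOf a = p ^ k)
    (hb : orderOf b = s) : ∃ g : G, orderOf g = p * s := by
  obtain ⟨k, hk⟩ := hap
  have hk0 : k ≠ 0 := by
    intro h
    rw [h, pow_zero, orderOf_eq_one_iff] at hk
    exact ha1 hk
  obtain ⟨k', rfl⟩ : ∃ k', k = k' + 1 := ⟨k - 1, by omega⟩
  have h1 : orderOf (a ^ (p ^ k')) = p := by
    rw [orderOf_pow_of_dvd (pow_ne_zero _ hp.ne_zero) (by rw [hk]; exact pow_dvd_pow p (Nat.le_succ k')),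
      hk, pow_succ, Nat.mul_div_cancel_left _ (pow_pos hp.pos k')]
  refine ⟨a ^ (p ^ k') * b, ?_⟩
  rw [(hab.pow_left _).orderOf_mul_eq_mul_orderOf_of_coprime, h1, hb]
  rw [h1, hb]
  exact (Nat.coprime_primes hp hs).2 hps

theorem card_subgroupOf_of_le' {G : Type*} [Group G] {H K : Subgroup G} (h : H ≤ K) :
    Nat.card (H.subgroupOf K) = Nat.card H :=
  Nat.card_congr (Subgroup.subgroupOfEquivOfLe h).toEquiv

theorem relIndex_eq_div {G : Type*} [Group G] [Finite G] {K M : Subgroup G} (h : K ≤ M) :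
    Nat.card M / Nat.card K = K.relIndex M := by
  have h1 := Subgroup.card_mul_index (K.subgroupOf M)
  rw [card_subgroupOf_of_le' h] at h1
  rw [← h1, Nat.mul_div_cancel_left _ Nat.card_pos]
  rfl

theorem index_eq_div {G : Type*} [Group G] [Finite G] (M : Subgroup G) :
    Nat.card G / Nat.card M = M.index := by
  rw [← Subgroup.card_mul_index M, Nat.mul_div_cancel_left _ Nat.card_pos]

/-- Let G be a finite group with normal subgroups K ≤ M, and let p, q, r be distinct primes with p dividing the order of K, q dividing the order of M/K and r dividing the order of G/M. Then p, q, r are not pairwise non-adjacent in the prime graph of G: G has an element of order pq, pr or qr. -/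
theorem result {G : Type*} [Group G] [Finite G] (K M : Subgroup G) [K.Normal] [M.Normal] (hKM : K ≤ M)
    (p q r : ℕ) (hp : p.Prime) (hq : q.Prime) (hr : r.Prime) (hpq : p ≠ q) (hpr : p ≠ r) (hqr : q ≠ r)
    (hpK : p ∣ Nat.card ↥K) (hqM : q ∣ Nat.card ↥M / Nat.card ↥K) (hrG : r ∣ Nat.card G / Nat.card ↥M) :
    (∃ x : G, orderOf x = p * q) ∨ (∃ x : G, orderOf x = p * r) ∨ (∃ x : G, orderOf x = q * r) := by
  by_contra hcon
  have hnpq : ¬ ∃ x : G, orderOf x = p * q := fun h => hcon (Or.inl h)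
  have hnpr : ¬ ∃ x : G, orderOf x = p * r := fun h => hcon (Or.inr (Or.inl h))
  have hnqr : ¬ ∃ x : G, orderOf x = q * r := fun h => hcon (Or.inr (Or.inr h))
  have hfp : Fact p.Prime := ⟨hp⟩
  have hfq : Fact q.Prime := ⟨hq⟩
  have hfr : Fact r.Prime := ⟨hr⟩
  -- Step 1: a Sylow p-subgroup of K and its centre
  obtain ⟨P⟩ : Nonempty (Sylow p K) := inferInstance
  have hPne : (P : Subgroup K) ≠ ⊥ := P.ne_bot_of_dvd_card hpK
  set P₀ : Subgroup G := (P : Subgroup K).map K.subtype with hP₀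
  have hP₀p : IsPGroup p P₀ := P.isPGroup'.map _
  have hFr1 : Subgroup.normalizer (P₀ : Set G) ⊔ K = ⊤ := Sylow.normalizer_sup_eq_top P
  set V : Subgroup G := P₀ ⊓ Subgroup.centralizer (P₀ : Set G) with hV
  have hVp : IsPGroup p V := hP₀p.to_le inf_le_left
  have hVne : V ≠ ⊥ := by
    have hnt : Nontrivial (P : Subgroup K) := (Subgroup.nontrivial_iff_ne_bot _).2 hPne
    have hcn := P.isPGroup'.center_nontrivial
    obtain ⟨z, hz1⟩ := exists_ne (1 : Subgroup.center (P : Subgroup K))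
    intro hbot
    have hzV : ((z : (P : Subgroup K)) : K).1 ∈ V := by
      refine Subgroup.mem_inf.2 ⟨⟨_, (z : (P : Subgroup K)).2, rfl⟩, ?_⟩
      rw [Subgroup.mem_centralizer_iff]
      rintro _ ⟨t, ht, rfl⟩
      have := Subgroup.mem_center_iff.1 z.2 ⟨t, ht⟩
      have h2 := congrArg (fun w : (P : Subgroup K) => ((w : K) : G)) this
      exact h2
    rw [hbot, Subgroup.mem_bot] at hzV
    apply hz1
    apply Subtype.ext
    apply Subtype.ext
    apply Subtype.ext
    exact hzV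
  have hVcomm : ∀ a ∈ V, ∀ b ∈ V, a * b = b * a := by
    intro a ha b hb
    have h1 := Subgroup.mem_centralizer_iff.1 (Subgroup.mem_inf.1 ha).2 b (Subgroup.mem_inf.1 hb).1
    exact h1.symm
  -- N(P₀) ≤ N(V)
  have hNN : Subgroup.normalizer (P₀ : Set G) ≤ Subgroup.normalizer (V : Set G) := by
    have key : ∀ g : G, g ∈ Subgroup.normalizer (P₀ : Set G) → ∀ v ∈ V, g * v * g⁻¹ ∈ V := by
      intro g hg v hv
      have hgP := Subgroup.mem_normalizer_iff.1 hg
      refine Subgroup.mem_inf.2 ⟨(hgP v).1 (Subgroup.mem_inf.1 hv).1, ?_⟩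
      rw [Subgroup.mem_centralizer_iff]
      intro t ht
      have ht' : g⁻¹ * t * g ∈ P₀ := by
        rw [hgP]
        have h0 : g * (g⁻¹ * t * g) * g⁻¹ = t := by group
        rw [h0]
        exact ht
      have hc := Subgroup.mem_centralizer_iff.1 (Subgroup.mem_inf.1 hv).2 _ ht'
      calc t * (g * v * g⁻¹) = g * ((g⁻¹ * t * g) * v) * g⁻¹ := by group
        _ = g * (v * (g⁻¹ * t * g)) * g⁻¹ := by rw [hc]
        _ = g * v * g⁻¹ * t := by group
    intro g hg
    rw [Subgroup.mem_normalizer_iff]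
    intro v
    refine ⟨key g hg v, fun h => ?_⟩
    have h1 := key g⁻¹ (Subgroup.inv_mem _ hg) _ h
    have h0 : g⁻¹ * (g * v * g⁻¹) * g⁻¹⁻¹ = v := by group
    rw [h0] at h1
    exact h1
  set N : Subgroup G := Subgroup.normalizer (V : Set G) with hN
  have hFr : N ⊔ K = ⊤ := by
    rw [eq_top_iff, ← hFr1]
    exact sup_le_sup_right hNN K
  have hVN : V ≤ N := Subgroup.le_normalizer
  -- Step 2: orders
  have hNM : N ⊔ M = ⊤ := by
    rw [eq_top_iff, ← hFr]
    exact sup_le_sup_left hKM N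
  have hded : (N ⊓ M) ⊔ K = M := by
    apply le_antisymm
    · exact sup_le inf_le_right hKM
    · intro m hm
      have hm' : m ∈ N ⊔ K := by rw [hFr]; trivial
      rw [Subgroup.mem_sup_of_normal_right] at hm'
      obtain ⟨n, hn, k, hk, rfl⟩ := hm'
      have hnM : n ∈ M := by
        have : n = n * k * k⁻¹ := by group
        rw [this]
        exact M.mul_mem hm (M.inv_mem (hKM hk))
      exact Subgroup.mul_mem _ (Subgroup.mem_sup_left (Subgroup.mem_inf.2 ⟨hn, hnM⟩))
        (Subgroup.mem_sup_right hk)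
  have hqM' : q ∣ Nat.card (M.subgroupOf N) := by
    have h1 : K.relIndex M = K.relIndex (N ⊓ M) := by
      conv_lhs => rw [← hded]
      exact Subgroup.relIndex_sup_right _ _
    have h2 : Nat.card (M.subgroupOf N) = Nat.card (N ⊓ M : Subgroup G) := by
      rw [← Subgroup.inf_subgroupOf_left, card_subgroupOf_of_le' inf_le_left]
    rw [h2]
    refine dvd_trans ?_ (Subgroup.relIndex_dvd_card K (N ⊓ M))
    rw [← h1, ← relIndex_eq_div hKM]
    exact hqM
  have hrN : r ∣ (M.subgroupOf N).index := by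
    have h1 : M.relIndex N = M.index := by
      rw [← Subgroup.relIndex_sup_right (H := N) (K := M), hNM, Subgroup.relIndex_top_right]
    show r ∣ M.relIndex N
    rw [h1, ← index_eq_div]
    exact hrG
  -- Step 3: inside Γ = N
  obtain ⟨Q₁⟩ : Nonempty (Sylow q (M.subgroupOf N)) := inferInstance
  have hQ₁ne : (Q₁ : Subgroup (M.subgroupOf N)) ≠ ⊥ := Q₁.ne_bot_of_dvd_card hqM'
  set Q : Subgroup N := (Q₁ : Subgroup (M.subgroupOf N)).map (M.subgroupOf N).subtype with hQ
  have hQq : IsPGroup q Q := Q₁.isPGroup'.map _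
  have hFr2 : Subgroup.normalizer (Q : Set N) ⊔ M.subgroupOf N = ⊤ := Sylow.normalizer_sup_eq_top Q₁
  have hrNor : r ∣ Nat.card (Subgroup.normalizer (Q : Set N)) := by
    have h1 : (M.subgroupOf N).index = (M.subgroupOf N).relIndex (Subgroup.normalizer (Q : Set N)) := by
      rw [← Subgroup.relIndex_sup_right (H := Subgroup.normalizer (Q : Set N)) (K := M.subgroupOf N),
        hFr2, Subgroup.relIndex_top_right]
    rw [h1] at hrN
    exact dvd_trans hrN (Subgroup.relIndex_dvd_card _ _)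
  obtain ⟨x₀, hx₀⟩ := exists_prime_orderOf_dvd_card' r hrNor
  set x : N := (x₀ : N) with hx
  have hxo : orderOf x = r := by rw [hx, Subgroup.orderOf_coe]; exact hx₀
  have hxNor : x ∈ Subgroup.normalizer (Q : Set N) := x₀.2
  -- an element of order q in Q
  have hQne : Q ≠ ⊥ := by
    intro h
    apply hQ₁ne
    rw [hQ] at h
    exact (Subgroup.map_eq_bot_iff_of_injective _ (Subgroup.subtype_injective _)).1 h
  have hqQ : q ∣ Nat.card Q := by
    obtain ⟨k, hk⟩ := hQq.exists_card_eq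
    have hk0 : k ≠ 0 := by
      intro h0
      rw [h0, pow_zero] at hk
      exact hQne (Subgroup.eq_bot_of_card_eq _ hk)
    rw [hk]
    exact dvd_pow_self q hk0
  obtain ⟨y₀, hy₀⟩ := exists_prime_orderOf_dvd_card' q hqQ
  have hyo : orderOf (y₀ : N) = q := by rw [Subgroup.orderOf_coe]; exact hy₀
  -- transfer of "no element of order" to N
  have hnoN : ∀ (s t : ℕ), (¬ ∃ g : G, orderOf g = s * t) → ¬ ∃ g : N, orderOf g = s * t := by
    intro s t h ⟨g, hg⟩
    exact h ⟨(g : G), by rw [Subgroup.orderOf_coe]; exact hg⟩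
  -- the abelian normal subgroup V' of N
  have hV'n : (V.subgroupOf N).Normal := Subgroup.normal_in_normalizer
  have hV'comm : ∀ a b : V.subgroupOf N, a * b = b * a := by
    intro a b
    apply Subtype.ext
    apply Subtype.ext
    exact hVcomm _ a.2 _ b.2
  have hV'p : IsPGroup p (V.subgroupOf N) := hVp.comap_subtype
  have hV'ord : ∀ a : V.subgroupOf N, ∃ k, orderOf (a : N) = p ^ k := by
    intro a
    obtain ⟨k, hk⟩ := (IsPGroup.iff_orderOf.1 hV'p) a
    exact ⟨k, by rw [Subgroup.orderOf_coe]; exact hk⟩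
  have hQord : ∀ u ∈ Q, ∃ k, orderOf u = q ^ k := by
    intro u hu
    obtain ⟨k, hk⟩ := (IsPGroup.iff_orderOf.1 hQq) ⟨u, hu⟩
    exact ⟨k, by rw [← hk]; exact (Subgroup.orderOf_coe (⟨u, hu⟩ : Q))⟩
  have hfix : ∀ (g : N) (a : V.subgroupOf N), (MulAut.conjNormal g) a = a → Commute (a : N) g := by
    intro g a h
    have h1 : g * (a : N) * g⁻¹ = (a : N) := by
      have := congrArg (fun w : V.subgroupOf N => (w : N)) h
      simpa [MulAut.conjNormal_apply] using this
    show (a : N) * g = g * (a : N)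
    calc (a : N) * g = (g * (a : N) * g⁻¹) * g := by rw [h1]
      _ = g * (a : N) := by group
  have htriv := frob_lemma' (A := V.subgroupOf N) hV'comm (MulAut.conjNormal (H := V.subgroupOf N))
    Q x r hr (by rw [← hxo]; exact pow_orderOf_eq_one x)
    (fun u hu => (Subgroup.mem_normalizer_iff.1 hxNor u).1 hu)
    (by
      intro i hi u hu hcomm
      by_contra hu1
      have hxi : orderOf (x ^ i) = r := by
        rw [Nat.Coprime.orderOf_pow, hxo]
        rw [hxo]
        exact (Nat.Prime.coprime_iff_not_dvd hr).2 hi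
      have hc : Commute u (x ^ i) := by
        show u * x ^ i = x ^ i * u
        calc u * x ^ i = (x ^ i * u * (x ^ i)⁻¹) * x ^ i := by rw [hcomm]
          _ = x ^ i * u := by group
      exact hnoN q r hnqr (exists_order_mul hq hr hqr u (x ^ i) hc hu1 (hQord u hu) hxi))
    (by
      intro a ha
      by_contra ha1
      have hc := hfix x a ha
      have ha1' : (a : N) ≠ 1 := fun h => ha1 (Subtype.ext h)
      exact hnoN p r hnpr (exists_order_mul hp hr hpr (a : N) x hc ha1' (hV'ord a) hxo))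
    (y₀ : N) y₀.2
    (by
      intro a ha
      by_contra ha1
      have hc := hfix (y₀ : N) a ha
      have ha1' : (a : N) ≠ 1 := fun h => ha1 (Subtype.ext h)
      exact hnoN p q hnpq (exists_order_mul hp hq hpq (a : N) (y₀ : N) hc ha1' (hV'ord a) hyo))
    (by
      obtain ⟨k, hk⟩ := hQq.exists_card_eq
      obtain ⟨m, hm⟩ := hV'p.exists_card_eq
      rw [hk, hm]
      exact Nat.Coprime.pow _ _ ((Nat.coprime_primes hq hp).2 (Ne.symm hpq)))
  -- contradiction: V is trivial
  apply hVne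
  rw [Subgroup.eq_bot_iff_forall]
  intro v hv
  have := htriv ⟨⟨v, hVN hv⟩, by rw [Subgroup.mem_subgroupOf]; exact hv⟩
  exact congrArg (fun w : V.subgroupOf N => ((w : N) : G)) this

end Cfsg.Agent.S3634
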