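import Mathlib
import Cfsg.Statements.S3633
import Cfsg.Agent.S3634

set_option autoImplicit false
open Cfsg

namespace Cfsg.Agent.S3633

/-- derived chain of `K` computed inside `G` -/
def dch {G : Type*} [Group G] (K : Subgroup G) : ℕ → Subgroup G
  | 0 => K
  | (n + 1) => ⁅dch K n, dch K n⁆

theorem dch_normal {G : Type*} [Group G] (K : Subgroup G) [K.Normal] (n : ℕ) : (dch K n).Normal := by
  induction n with
  | zero => exact (inferInstance : K.Normal)
  | succ n ih =>
    have := ih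
    exact Subgroup.commutator_normal (dch K n) (dch K n)

theorem dch_eq_map {G : Type*} [Group G] (K : Subgroup G) (n : ℕ) :
    (derivedSeries K n).map K.subtype = dch K n := by
  induction n with
  | zero =>
    show (⊤ : Subgroup K).map K.subtype = K
    rw [← MonoidHom.range_eq_map, Subgroup.range_subtype]
  | succ n ih =>
    rw [derivedSeries_succ, Subgroup.map_commutator, ih]
    rfl

theorem dch_eq_bot {G : Type*} [Group G] (K : Subgroup G) (hK : Group.IsSolvable K) :
    ∃ n, dch K n = ⊥ := by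
  obtain ⟨n, hn⟩ := (Group.isSolvable_def K).1 hK
  exact ⟨n, by rw [← dch_eq_map, hn, Subgroup.map_bot]⟩

/-- the chain `⊤ ≥ K ≥ K' ≥ K'' ≥ …` -/
def ech {G : Type*} [Group G] (K : Subgroup G) : ℕ → Subgroup G
  | 0 => ⊤
  | (n + 1) => dch K n

theorem ech_normal {G : Type*} [Group G] (K : Subgroup G) [K.Normal] (n : ℕ) : (ech K n).Normal := by
  cases n with
  | zero => exact (inferInstance : (⊤ : Subgroup G).Normal)
  | succ n => exact dch_normal K n

theorem ech_antitone {G : Type*} [Group G] (K : Subgroup G) : Antitone (ech K) := by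
  apply antitone_nat_of_succ_le
  intro n
  cases n with
  | zero => exact le_top
  | succ n => exact Subgroup.commutator_le_self (dch K n)

theorem exists_order_of_abelian_factor {G : Type*} [Group G] [Finite G] (H : Subgroup G) {p q : ℕ}
    (hp : p.Prime) (hq : q.Prime) (hpq : p ≠ q)
    (hpH : p ∣ Nat.card H) (hpH' : ¬ p ∣ Nat.card (⁅H, H⁆ : Subgroup G))
    (hqH : q ∣ Nat.card H) (hqH' : ¬ q ∣ Nat.card (⁅H, H⁆ : Subgroup G)) :
    ∃ x : G, orderOf x = p * q := by
  have hfp : Fact p.Prime := ⟨hp⟩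
  have hfq : Fact q.Prime := ⟨hq⟩
  have h1 : Nat.card H = Nat.card (H ⧸ commutator H) * Nat.card (commutator H) :=
    Subgroup.card_eq_card_quotient_mul_card_subgroup (commutator H)
  have h2 : Nat.card (commutator H) = Nat.card (⁅H, H⁆ : Subgroup G) := by
    rw [← Subgroup.map_subtype_commutator]
    exact Nat.card_congr
      ((commutator H).equivMapOfInjective H.subtype H.subtype_injective).toEquiv
  have hpA : p ∣ Nat.card (H ⧸ commutator H) := by
    rw [h1, h2] at hpH
    exact (hp.dvd_mul.1 hpH).resolve_right hpH'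
  have hqA : q ∣ Nat.card (H ⧸ commutator H) := by
    rw [h1, h2] at hqH
    exact (hq.dvd_mul.1 hqH).resolve_right hqH'
  obtain ⟨a, ha⟩ := exists_prime_orderOf_dvd_card' p hpA
  obtain ⟨b, hb⟩ := exists_prime_orderOf_dvd_card' q hqA
  have hcomm : Commute a b := by
    have : ∀ a b : Abelianization H, a * b = b * a := mul_comm
    exact this a b
  have hab : orderOf (a * b) = p * q := by
    rw [hcomm.orderOf_mul_eq_mul_orderOf_of_coprime, ha, hb]
    rw [ha, hb]
    exact (Nat.coprime_primes hp hq).2 hpq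
  obtain ⟨z, hz⟩ := QuotientGroup.mk_surjective (a * b)
  have hdvd : p * q ∣ orderOf z := by
    rw [← hab, ← hz]
    exact orderOf_map_dvd (QuotientGroup.mk' (commutator H)) z
  obtain ⟨m, hm⟩ := hdvd
  have hz0 : 0 < orderOf z := orderOf_pos z
  have hm0 : m ≠ 0 := by
    rintro rfl
    rw [mul_zero] at hm
    omega
  refine ⟨((z ^ m : H) : G), ?_⟩
  rw [Subgroup.orderOf_coe, orderOf_pow_of_dvd hm0 ⟨p * q, by rw [hm, mul_comm]⟩, hm,
    Nat.mul_div_cancel _ (Nat.pos_of_ne_zero hm0)]

theorem part1 {G : Type*} [Group G] [Finite G] (ρ : Finset ℕ) (hρ : 3 ≤ ρ.card)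
    (hc : ((∀ r ∈ ρ, r.Prime ∧ r ∣ Nat.card G) ∧
      (∀ r ∈ ρ, ∀ s ∈ ρ, r ≠ s → ¬ ∃ x : G, orderOf x = r * s)))
    (K : Subgroup G) [K.Normal] (hK : Group.IsSolvable ↥K) :
    ∀ r ∈ ρ, ∀ s ∈ ρ, r ∣ Nat.card ↥K → s ∣ Nat.card ↥K → r = s := by
  classical
  intro r hr s hs hrK hsK
  by_contra hrs
  -- a third prime
  obtain ⟨t, ht, htr, hts⟩ : ∃ t ∈ ρ, t ≠ r ∧ t ≠ s := by
    by_contra hcon
    have hsub : ρ ⊆ {r, s} := by
      intro t ht
      by_contra htn
      apply hcon
      refine ⟨t, ht, ?_, ?_⟩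
      · rintro rfl; exact htn (by simp)
      · rintro rfl; exact htn (by simp)
    have := Finset.card_le_card hsub
    have h2 : ({r, s} : Finset ℕ).card ≤ 2 := Finset.card_le_two
    omega
  obtain ⟨k, hk⟩ := dch_eq_bot K hK
  set E := ech K with hE
  have hEn : ∀ i, (E i).Normal := ech_normal K
  have hEa : Antitone E := ech_antitone K
  have hE0 : E 0 = ⊤ := rfl
  have hE1 : E 1 = K := rfl
  have hEk : E (k + 1) = ⊥ := hk
  have hEs : ∀ i, E (i + 1 + 1) = ⁅E (i + 1), E (i + 1)⁆ := fun i => rfl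
  let j : ℕ → ℕ := fun p => Nat.findGreatest (fun i => p ∣ Nat.card (E i)) (k + 1)
  have hj_spec : ∀ p ∈ ρ, p ∣ Nat.card (E (j p)) := by
    intro p hp
    apply Nat.findGreatest_spec (P := fun i => p ∣ Nat.card (E i)) (Nat.zero_le (k + 1))
    show p ∣ Nat.card (E 0)
    rw [hE0, Subgroup.card_top]
    exact (hc.1 p hp).2
  have hj_le : ∀ p, j p ≤ k + 1 := fun p => Nat.findGreatest_le _
  have hj_gt : ∀ p i, j p < i → i ≤ k + 1 → ¬ p ∣ Nat.card (E i) := by
    intro p i h1 h2
    exact Nat.findGreatest_is_greatest (P := fun i => p ∣ Nat.card (E i)) h1 h2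
  have hj_lt : ∀ p ∈ ρ, j p < k + 1 := by
    intro p hp
    rcases (hj_le p).lt_or_eq with h | h
    · exact h
    · exfalso
      have := hj_spec p hp
      rw [h, hEk, Subgroup.card_bot] at this
      exact (hc.1 p hp).1.one_lt.ne' (Nat.dvd_one.1 this)
  have hj_pos : ∀ p, p ∣ Nat.card K → 1 ≤ j p := by
    intro p hp
    apply Nat.le_findGreatest (P := fun i => p ∣ Nat.card (E i)) (by omega)
    show p ∣ Nat.card (E 1)
    rw [hE1]; exact hp
  -- distinctness
  have hdist : ∀ a ∈ ρ, ∀ b ∈ ρ, a ≠ b → 1 ≤ j a → j a ≠ j b := by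
    intro a ha b hb hab h1 heq
    obtain ⟨i, hi⟩ : ∃ i, j a = i + 1 := ⟨j a - 1, by omega⟩
    have hlt := hj_lt a ha
    apply hc.2 a ha b hb hab
    apply exists_order_of_abelian_factor (E (i + 1)) (hc.1 a ha).1 (hc.1 b hb).1 hab
    · rw [← hi]; exact hj_spec a ha
    · rw [← hEs]; exact hj_gt a _ (by omega) (by omega)
    · rw [← hi, heq]; exact hj_spec b hb
    · rw [← hEs]; exact hj_gt b _ (by omega) (by omega)
  -- key
  have key : ∀ a ∈ ρ, ∀ b ∈ ρ, ∀ c ∈ ρ, a ≠ b → a ≠ c → b ≠ c → j b < j a → j c < j b → False := by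
    intro a ha b hb c hc' hab hac hbc h1 h2
    have hna := hEn (j a)
    have hnb := hEn (j b)
    have hle : E (j a) ≤ E (j b) := hEa h1.le
    have hbdiv : b ∣ Nat.card (E (j b)) / Nat.card (E (j a)) := by
      rw [S3634.relIndex_eq_div hle]
      have h3 := Subgroup.card_mul_index ((E (j a)).subgroupOf (E (j b)))
      rw [S3634.card_subgroupOf_of_le' hle] at h3
      have h4 := hj_spec b hb
      rw [← h3] at h4
      exact ((hc.1 b hb).1.dvd_mul.1 h4).resolve_left (hj_gt b _ h1 (hj_le a))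
    have hcdiv : c ∣ Nat.card G / Nat.card (E (j b)) := by
      rw [S3634.index_eq_div]
      have h3 := Subgroup.card_mul_index (E (j b))
      have h4 := (hc.1 c hc').2
      rw [← h3] at h4
      exact ((hc.1 c hc').1.dvd_mul.1 h4).resolve_left (hj_gt c _ h2 (hj_le b))
    rcases S3634.result (E (j a)) (E (j b)) hle a b c (hc.1 a ha).1 (hc.1 b hb).1 (hc.1 c hc').1
      hab hac hbc (hj_spec a ha) hbdiv hcdiv with h | h | h
    · exact hc.2 a ha b hb hab h
    · exact hc.2 a ha c hc' hac h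
    · exact hc.2 b hb c hc' hbc h
  have hjr := hj_pos r hrK
  have hjs := hj_pos s hsK
  have d1 : j r ≠ j s := hdist r hr s hs hrs hjr
  have d2 : j r ≠ j t := hdist r hr t ht (Ne.symm htr) hjr
  have d3 : j s ≠ j t := hdist s hs t ht (Ne.symm hts) hjs
  rcases lt_or_gt_of_ne d1 with h1 | h1 <;> rcases lt_or_gt_of_ne d2 with h2 | h2 <;>
    rcases lt_or_gt_of_ne d3 with h3 | h3
  · -- r < s < t
    exact key t ht s hs r hr hts htr (Ne.symm hrs) h3 h1
  · -- r < s, r < t, t < s : r < t < s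
    exact key s hs t ht r hr (Ne.symm hts) (Ne.symm hrs) htr h3 h2
  · -- r < s, t < r, s < t : impossible
    omega
  · -- r < s, t < r, t < s : t < r < s
    exact key s hs r hr t ht (Ne.symm hrs) (Ne.symm hts) (Ne.symm htr) h1 h2
  · -- s < r, r < t, s < t : s < r < t
    exact key t ht r hr s hs htr hts hrs h2 h1
  · -- s < r, r < t, t < s : impossible
    omega
  · -- s < r, t < r, s < t : s < t < r
    exact key r hr t ht s hs (Ne.symm htr) hrs hts h2 h3
  · -- s < r, t < r, t < s : t < s < r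
    exact key r hr s hs t ht hrs (Ne.symm htr) (Ne.symm hts) h1 h3

/-- Let G be a finite group and ρ a set of at least three prime divisors of the order of G that are pairwise non-adjacent in the prime graph (no element of order rs for distinct r, s ∈ ρ). Then at most one prime of ρ divides the order of any given solvable normal subgroup of G; in particular G is not solvable. -/
theorem result {G : Type*} [Group G] [Finite G] (ρ : Finset ℕ) (hρ : 3 ≤ ρ.card) (hc : ((∀ r ∈ ρ, r.Prime ∧ r ∣ Nat.card G) ∧ (∀ r ∈ ρ, ∀ s ∈ ρ, r ≠ s → ¬ ∃ x : G, orderOf x = r * s)))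
    (K : Subgroup G) [K.Normal] (hK : Group.IsSolvable ↥K) :
    (∀ r ∈ ρ, ∀ s ∈ ρ, r ∣ Nat.card ↥K → s ∣ Nat.card ↥K → r = s) ∧ ¬ Group.IsSolvable G := by
  refine ⟨part1 ρ hρ hc K hK, ?_⟩
  intro hG
  have htop : Group.IsSolvable (⊤ : Subgroup G) :=
    Group.isSolvable_of_isSolvable_injective (f := (⊤ : Subgroup G).subtype) (Subgroup.subtype_injective _)
  have h1 := part1 ρ hρ hc ⊤ htop
  obtain ⟨a, ha, b, hb, hab⟩ := Finset.one_lt_card.1 (by omega : 1 < ρ.card)
  apply hab
  apply h1 a ha b hb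
  · rw [Subgroup.card_top]; exact (hc.1 a ha).2
  · rw [Subgroup.card_top]; exact (hc.1 b hb).2

end Cfsg.Agent.S3633
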