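import Cfsg.Statements.S3639
import Cfsg.Agent.Lib.Helper5.SuzukiPrimeGraph
import Cfsg.Agent.Lib.Helper5.SuzukiBridge
import Mathlib

set_option autoImplicit false
open Cfsg

namespace Cfsg.Agent.S3639
open Cfsg.Agent.Lib.Helper5.Suzuki

/-- Let S be the Suzuki group over the field with q = 2^(2m+1) ≥ 8 elements. Then there are finite groups of arbitrarily large order with the same prime graph as S. -/
theorem result {F : Type*} [Field F] [Fintype F] {m : ℕ} (hm : 1 ≤ m) (hF : Fintype.card F = 2 ^ (2 * m + 1)) (N : ℕ) :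
    ∃ (H : Type) (_ : Group H) (_ : Fintype H), N < Fintype.card H ∧ ((∀ r : ℕ, r.Prime → (r ∣ Nat.card ↥(Cfsg.Lie.Sz F (2 ^ (m + 1))) ↔ r ∣ Nat.card H)) ∧
      (∀ r s : ℕ, r.Prime → s.Prime → r ≠ s → ((∃ x : ↥(Cfsg.Lie.Sz F (2 ^ (m + 1))), orderOf x = r * s) ↔ (∃ y : H, orderOf y = r * s)))) := by
  classical
  haveI : CharP F 2 := charP_of_card hF
  let e : ↥(Cfsg.Lie.Sz F (2 ^ (m + 1))) ≃* ↥(Cfsg.Sz F m) :=
    Cfsg.Agent.Lib.Helper5.SuzukiBridge.lieSzEquiv hm hF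
  let k : ℕ := N + 1
  let Hbig := Multiplicative (Fin k → Fin 4 → F) ⋊[matAct m k] ↥(Cfsg.Sz F m)
  haveI : Finite Hbig := Finite.of_equiv _ SemidirectProduct.equivProd.symm
  obtain ⟨H', instG, instF, hcardH', ⟨me⟩⟩ := exists_small_copy Hbig
  let n : ℕ := Nat.card Hbig
  have hn : n = ((2 ^ (2 * m + 1)) ^ 4) ^ k * Nat.card ↥(Cfsg.Sz F m) := semidirect_card m hF k
  have hcardG := card_Sz m hF hm
  have hGpos : 0 < Nat.card ↥(Cfsg.Sz F m) := Nat.card_pos
  refine ⟨H', instG, instF, ?_, ?_, ?_⟩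
  · rw [hcardH']
    change N < n
    rw [hn]
    have h1 : 2 ^ k ≤ ((2 ^ (2 * m + 1)) ^ 4) ^ k := by
      apply Nat.pow_le_pow_left
      have : 1 ≤ 2 ^ (2 * m + 1) := Nat.one_le_two_pow
      calc 2 = 2 ^ 1 := by norm_num
        _ ≤ 2 ^ (2 * m + 1) := Nat.pow_le_pow_right (by norm_num) (by omega)
        _ = (2 ^ (2 * m + 1)) ^ 1 := by rw [pow_one]
        _ ≤ (2 ^ (2 * m + 1)) ^ 4 := Nat.pow_le_pow_right this (by norm_num)
    have h2 : k < 2 ^ k := Nat.lt_two_pow_self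
    have h3 : ((2 ^ (2 * m + 1)) ^ 4) ^ k ≤ ((2 ^ (2 * m + 1)) ^ 4) ^ k * Nat.card ↥(Cfsg.Sz F m) :=
      Nat.le_mul_of_pos_right _ hGpos
    have : N < k := Nat.lt_succ_self N
    omega
  · intro r hr
    rw [Nat.card_congr e.toEquiv, Nat.card_eq_fintype_card (α := H'), hcardH']
    change r ∣ Nat.card ↥(Cfsg.Sz F m) ↔ r ∣ n
    rw [hn]
    constructor
    · intro h
      exact Dvd.dvd.mul_left h _
    · intro h
      rcases (Nat.Prime.dvd_mul hr).1 h with h | h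
      · have h2 := hr.dvd_of_dvd_pow (hr.dvd_of_dvd_pow (hr.dvd_of_dvd_pow h))
        have h3 := (Nat.prime_dvd_prime_iff_eq hr Nat.prime_two).1 h2
        rw [h3, hcardG, mul_assoc]
        apply Dvd.dvd.mul_right
        rw [← pow_mul]
        exact dvd_pow_self 2 (by omega)
      · exact h
  · intro r s hr hs hrs
    constructor
    · rintro ⟨x, hx⟩
      refine ⟨me.symm (SemidirectProduct.inr (e x)), ?_⟩
      rw [MulEquiv.orderOf_eq, orderOf_injective _ SemidirectProduct.inr_injective,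
        MulEquiv.orderOf_eq, hx]
    · rintro ⟨y, hy⟩
      have hy' : orderOf (me y) = r * s := by rw [MulEquiv.orderOf_eq, hy]
      obtain ⟨x, hx⟩ := semidirect_order m hF hm k r s hr hs hrs (me y) hy'
      exact ⟨e.symm x, by rw [MulEquiv.orderOf_eq, hx]⟩

end Cfsg.Agent.S3639
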