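import Mathlib
import Cfsg.Statements.S3660
import Cfsg.Agent.Lib.Helper8.AffSL2

set_option autoImplicit false
open Cfsg

namespace Cfsg.Agent.S3660

open Cfsg.Agent.Lib.Helper8.AffSL2

/-- transport of "has an element of order `n`" along a group isomorphism -/
theorem exists_orderOf_congr {G H : Type*} [Group G] [Group H] (e : G ≃* H) (n : ℕ) :
    (∃ g : G, orderOf g = n) ↔ (∃ h : H, orderOf h = n) := by
  constructor
  · rintro ⟨g, hg⟩
    exact ⟨e g, by rw [MulEquiv.orderOf_eq, hg]⟩
  · rintro ⟨h, hh⟩
    exact ⟨e.symm h, by rw [MulEquiv.orderOf_eq, hh]⟩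

/-- The prime graph of a finite group has the prime divisors of its order as vertices, two distinct primes p, q being joined when the group has an element of order pq; two groups have the same prime graph when they have the same prime divisors and the same joined pairs. Let F be a finite field of characteristic 2 with at least 4 elements. Then there are finite groups of arbitrarily large order with the same prime graph as PSL(2,F); in particular PSL(2,F) is not determined by its prime graph. -/
theorem result {F : Type*} [Field F] [Fintype F] [CharP F 2] (hF : 4 ≤ Fintype.card F) (N : ℕ) :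
    ∃ (H : Type) (_ : Group H) (_ : Finite H), N < Nat.card H ∧
      ((∀ p : ℕ, p.Prime → (p ∣ Nat.card (Matrix.ProjectiveSpecialLinearGroup (Fin 2) F) ↔ p ∣ Nat.card H)) ∧
      (∀ p q : ℕ, p.Prime → q.Prime → p ≠ q → ((∃ g : (Matrix.ProjectiveSpecialLinearGroup (Fin 2) F), orderOf g = p * q) ↔ (∃ g : H, orderOf g = p * q)))) := by
  have hfin : Finite (Aff F N) := inferInstance
  have hsm : Small.{0} (Aff F N) := inferInstance
  let e' : Shrink.{0} (Aff F N) ≃* Aff F N := Shrink.mulEquiv
  have hfin' : Finite (Shrink.{0} (Aff F N)) := Finite.of_equiv _ e'.symm.toEquiv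
  have hcard' : Nat.card (Shrink.{0} (Aff F N)) = Nat.card (Aff F N) := Nat.card_congr e'.toEquiv
  have hcardP : Nat.card (Matrix.ProjectiveSpecialLinearGroup (Fin 2) F) =
      Nat.card (Matrix.SpecialLinearGroup (Fin 2) F) := Nat.card_congr (pslEquiv (K := F)).toEquiv
  refine ⟨Shrink.{0} (Aff F N), inferInstance, hfin', ?_, ?_, ?_⟩
  · rw [hcard']
    exact lt_card N
  · intro p hp
    rw [hcard', hcardP]
    exact prime_dvd_card_iff p hp
  · intro p q hp hq hpq
    rw [exists_orderOf_congr (pslEquiv (K := F)), exists_orderOf_congr e']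
    exact exists_orderOf_mul_iff p q hp hq hpq

end Cfsg.Agent.S3660
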