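import Mathlib
import Cfsg.Statements.S3678
import Cfsg.Agent.Lib.Helper8.SL2Lin

set_option autoImplicit false
open Cfsg

namespace Cfsg.Agent.S3678

open Cfsg.Agent.Lib.Helper8.AffSL2 Cfsg.Agent.Lib.Helper8.SL2Lin

theorem charP_seven_of_card {F : Type*} [Field F] [Fintype F] (hF : Fintype.card F = 7) :
    CharP F 7 := by
  obtain ⟨p, hp⟩ := CharP.exists F
  obtain ⟨n, hpp, hn⟩ := FiniteField.card F p
  have h1 : p ∣ 7 := by
    have : p ∣ p ^ (n : ℕ) := dvd_pow_self p n.ne_zero
    rw [← hn, hF] at this
    exact this
  have h2 : p = 7 := (Nat.prime_dvd_prime_iff_eq hpp (by norm_num)).1 h1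
  rw [← h2]
  exact hp

/-- a field with more than two elements has an element other than `0`, `1` -/
theorem exists_ne_zero_one {K : Type*} [Field K] [Finite K] (h2 : 2 < Nat.card K) :
    ∃ a : K, a ≠ 0 ∧ a ≠ 1 := by
  have : Fintype K := Fintype.ofFinite K
  rw [Nat.card_eq_fintype_card] at h2
  by_contra hcon
  have hall : ∀ x : K, x = 0 ∨ x = 1 := by
    intro x
    by_contra h
    rw [not_or] at h
    exact hcon ⟨x, h.1, h.2⟩
  obtain ⟨a, b, c, hab, hac, hbc⟩ := Fintype.two_lt_card_iff.1 h2
  rcases hall a with ha | ha <;> rcases hall b with hb | hb <;> rcases hall c with hc | hc <;>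
    simp_all

/-- The prime graph of a finite group has the prime divisors of its order as vertices, two distinct primes p, q being joined when the group has an element of order pq; two groups have the same prime graph when they have the same prime divisors and the same joined pairs. Let F be the field with 7 elements. There are finite groups of arbitrarily large order with the same prime graph as PSL(2,F) (the graph on {2, 3, 7} with no edges, which is also the prime graph of PSL(2,8)). -/
theorem result {F : Type*} [Field F] [Fintype F] (hF : Fintype.card F = 7) (N : ℕ) :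
    ∃ (H : Type) (_ : Group H) (_ : Finite H), N < Nat.card H ∧
      ((∀ p : ℕ, p.Prime → (p ∣ Nat.card (Matrix.ProjectiveSpecialLinearGroup (Fin 2) F) ↔ p ∣ Nat.card H)) ∧
      (∀ p q : ℕ, p.Prime → q.Prime → p ≠ q → ((∃ g : (Matrix.ProjectiveSpecialLinearGroup (Fin 2) F), orderOf g = p * q) ↔ (∃ g : H, orderOf g = p * q)))) := by
  have hchar : CharP F 7 := charP_seven_of_card hF
  have hF7 : ∀ t : F, t ^ 7 = t := by
    intro t
    have := FiniteField.pow_card t
    rwa [hF] at this
  have hcard : Nat.card (GaloisField 2 3) = 8 := by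
    rw [GaloisField.card 2 3 (by norm_num)]
    norm_num
  have : Fintype (GaloisField 2 3) := Fintype.ofFinite _
  have hK : ∀ t : GaloisField 2 3, t ^ 8 = t := by
    intro t
    have := FiniteField.pow_card t
    rwa [← Nat.card_eq_fintype_card, hcard] at this
  obtain ⟨a, ha0, ha1⟩ := exists_ne_zero_one (K := GaloisField 2 3) (by rw [hcard]; norm_num)
  refine ⟨Aff (GaloisField 2 3) N, inferInstance, inferInstance, lt_card N, ?_, ?_⟩
  · intro p hp
    rw [prime_dvd_card_psl7 hF7 p hp, ← prime_dvd_card_iff (K := GaloisField 2 3) (k := N) p hp,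
      prime_dvd_card_sl8 hK a ha0 ha1 p hp]
  · intro p q hp hq hpq
    constructor
    · rintro ⟨g, hg⟩
      exact absurd (hg ▸ psl7_orderOf_mem hF7 g) (mul_primes_not_mem hp hq hpq)
    · rintro ⟨g, hg⟩
      exact absurd (hg ▸ orderOf_mem8 hK g) (mul_primes_not_mem hp hq hpq)

end Cfsg.Agent.S3678
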