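import Mathlib
import Cfsg.Statements.S3680
import Cfsg.Agent.Lib.Helper4.MinNormal
import Cfsg.Agent.H1.FrattiniExtra

set_option autoImplicit false
open Cfsg

namespace Cfsg.Agent.S3680

open MulAction

variable {G Ω : Type*} [Group G] [MulAction G Ω]

/-- nontrivial normal subgroups of a faithful primitive group are transitive -/
theorem transitive_of_normal [FaithfulSMul G Ω] (hprim : IsPreprimitive G Ω)
    (V : Subgroup G) [hV : V.Normal] (hne : V ≠ ⊥) : IsPretransitive V Ω := by
  apply IsQuasiPreprimitive.isPretransitive_of_normal (G := G)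
  intro h
  apply hne
  rw [eq_bot_iff]
  intro v hv
  rw [Subgroup.mem_bot]
  apply FaithfulSMul.eq_of_smul_eq_smul (α := Ω)
  intro a
  rw [one_smul]
  have : a ∈ fixedPoints V Ω := h ▸ Set.mem_univ a
  exact this ⟨v, hv⟩

/-- the centralizer of a transitive subgroup acts semiregularly -/
theorem eq_one_of_mem_centralizer [FaithfulSMul G Ω] (V : Subgroup G) (hV : IsPretransitive V Ω)
    (c : G) (hc : c ∈ Subgroup.centralizer (V : Set G)) (a : Ω) (hca : c • a = a) : c = 1 := by
  apply FaithfulSMul.eq_of_smul_eq_smul (α := Ω)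
  intro b
  rw [one_smul]
  obtain ⟨v, hv⟩ := hV.exists_smul_eq a b
  have hvb : (v : G) • a = b := hv
  have hcomm : (v : G) * c = c * (v : G) := (Subgroup.mem_centralizer_iff.mp hc) v v.2
  rw [← hvb, ← mul_smul, ← hcomm, mul_smul, hca]

/-- a transitive subgroup of the centralizer of a transitive subgroup is the whole centralizer -/
theorem centralizer_le_of_transitive [FaithfulSMul G Ω] (V W : Subgroup G) (hV : IsPretransitive V Ω)
    (hW : IsPretransitive W Ω) (hWV : W ≤ Subgroup.centralizer (V : Set G)) (a : Ω) :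
    Subgroup.centralizer (V : Set G) ≤ W := by
  intro c hc
  obtain ⟨w, hw⟩ := hW.exists_smul_eq a (c • a)
  have hwa : (w : G) • a = c • a := hw
  have h1 : (w : G)⁻¹ * c = 1 := by
    apply eq_one_of_mem_centralizer V hV _ (Subgroup.mul_mem _ (Subgroup.inv_mem _ (hWV w.2)) hc) a
    rw [mul_smul, ← hwa, inv_smul_smul]
  have : c = (w : G) := by
    have := congrArg (fun g => (w : G) * g) h1
    simpa using this
  rw [this]; exact w.2

/-- two commuting transitive subgroups are isomorphic -/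
theorem nonempty_mulEquiv_of_commuting [FaithfulSMul G Ω] (V W : Subgroup G) (hV : IsPretransitive V Ω)
    (hW : IsPretransitive W Ω) (hWV : W ≤ Subgroup.centralizer (V : Set G)) (a : Ω) :
    Nonempty (V ≃* W) := by
  have hVW : V ≤ Subgroup.centralizer (W : Set G) := by
    intro v hv
    rw [Subgroup.mem_centralizer_iff]
    intro w hw
    exact ((Subgroup.mem_centralizer_iff.mp (hWV hw)) v hv).symm
  have hcomm : ∀ v ∈ V, ∀ w ∈ W, v * w = w * v := by
    intro v hv w hw
    exact ((Subgroup.mem_centralizer_iff.mp (hWV hw)) v hv)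
  -- uniqueness in W
  have huniqW : ∀ w w' : G, w ∈ W → w' ∈ W → w • a = w' • a → w = w' := by
    intro w w' hw hw' h
    have h1 : w'⁻¹ * w = 1 := by
      apply eq_one_of_mem_centralizer V hV _ (hWV (Subgroup.mul_mem _ (Subgroup.inv_mem _ hw') hw)) a
      rw [mul_smul, h, inv_smul_smul]
    have := congrArg (fun g => w' * g) h1
    simpa using this
  have huniqV : ∀ v v' : G, v ∈ V → v' ∈ V → v • a = v' • a → v = v' := by
    intro v v' hv hv' h
    have h1 : v'⁻¹ * v = 1 := by
      apply eq_one_of_mem_centralizer W hW _ (hVW (Subgroup.mul_mem _ (Subgroup.inv_mem _ hv') hv)) a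
      rw [mul_smul, h, inv_smul_smul]
    have := congrArg (fun g => v' * g) h1
    simpa using this
  have hex : ∀ v : V, ∃ w : W, (w : G) • a = (v : G) • a := fun v => hW.exists_smul_eq a ((v : G) • a)
  choose f hf using hex
  have hfmul : ∀ v1 v2 : V, f (v1 * v2) = f v2 * f v1 := by
    intro v1 v2
    apply Subtype.ext
    apply huniqW _ _ (f (v1 * v2)).2 (Subgroup.mul_mem _ (f v2).2 (f v1).2)
    rw [hf, Subgroup.coe_mul]
    calc ((v1 : G) * (v2 : G)) • a = (v1 : G) • ((f v2 : G) • a) := by rw [mul_smul, hf v2]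
      _ = ((v1 : G) * (f v2 : G)) • a := by rw [mul_smul]
      _ = ((f v2 : G) * (v1 : G)) • a := by rw [hcomm _ v1.2 _ (f v2).2]
      _ = (f v2 : G) • ((f v1 : G) • a) := by rw [mul_smul, hf v1]
      _ = ((f v2 : G) * (f v1 : G)) • a := by rw [mul_smul]
  let g : V →* W := MonoidHom.mk' (fun v => (f v)⁻¹) (by
    intro v1 v2
    rw [hfmul, mul_inv_rev])
  refine ⟨MulEquiv.ofBijective g ⟨?_, ?_⟩⟩
  · intro v v' h
    have h1 : f v = f v' := inv_injective h
    apply Subtype.ext
    apply huniqV _ _ v.2 v'.2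
    rw [← hf v, ← hf v', h1]
  · intro w
    obtain ⟨v, hv⟩ := hV.exists_smul_eq a ((w : G)⁻¹ • a)
    have hva : (v : G) • a = (w : G)⁻¹ • a := hv
    refine ⟨v, ?_⟩
    change (f v)⁻¹ = w
    rw [inv_eq_iff_eq_inv]
    apply Subtype.ext
    apply huniqW _ _ (f v).2 (Subgroup.inv_mem _ w.2)
    rw [hf, hva]


/-- `Fin.append` as a multiplicative equivalence -/
def appendMulEquiv (T : Type*) [Group T] (k m : ℕ) :
    (Fin k → T) × (Fin m → T) ≃* (Fin (k + m) → T) :=
  { Fin.appendEquiv k m with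
    map_mul' := by
      intro p q
      funext i
      refine Fin.addCases (fun i => ?_) (fun j => ?_) i
      · simp [Fin.appendEquiv, Fin.append_left]
      · simp [Fin.appendEquiv, Fin.append_right] }

/-- an abelian minimal normal subgroup has prime exponent -/
theorem exists_prime_pow_eq_one [Finite G] (V : Subgroup G) [hVn : V.Normal] (hne : V ≠ ⊥)
    (hmin : ∀ M : Subgroup G, M.Normal → M ≤ V → M = ⊥ ∨ M = V)
    (hab : ∀ a ∈ V, ∀ b ∈ V, a * b = b * a) : ∃ p : ℕ, p.Prime ∧ ∀ x ∈ V, x ^ p = 1 := by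
  have hnt : Nontrivial V := (Subgroup.nontrivial_iff_ne_bot V).mpr hne
  have h1 : Nat.card V ≠ 1 := by
    intro h
    exact hne (Subgroup.card_eq_one.mp h)
  obtain ⟨p, hp, hpd⟩ := Nat.exists_prime_and_dvd h1
  have := Fact.mk hp
  obtain ⟨x, hx⟩ := exists_prime_orderOf_dvd_card' p hpd
  let M : Subgroup G :=
    { carrier := {v | v ∈ V ∧ v ^ p = 1}
      one_mem' := ⟨V.one_mem, one_pow _⟩
      mul_mem' := by
        rintro a b ⟨ha, ha'⟩ ⟨hb, hb'⟩
        refine ⟨V.mul_mem ha hb, ?_⟩
        have hc : Commute a b := hab a ha b hb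
        rw [hc.mul_pow, ha', hb', one_mul]
      inv_mem' := by
        rintro a ⟨ha, ha'⟩
        exact ⟨V.inv_mem ha, by rw [inv_pow, ha', inv_one]⟩ }
  have hMn : M.Normal := by
    constructor
    rintro v ⟨hv, hv'⟩ g
    exact ⟨hVn.conj_mem v hv g, by rw [conj_pow, hv', mul_one, mul_inv_cancel]⟩
  have hMV : M ≤ V := fun v hv => hv.1
  have hMne : M ≠ ⊥ := by
    intro h
    have hxM : (x : G) ∈ M := ⟨x.2, by
      have := pow_orderOf_eq_one x
      rw [hx] at this
      exact congrArg Subtype.val this⟩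
    rw [h, Subgroup.mem_bot] at hxM
    have : x = 1 := Subtype.ext hxM
    rw [this, orderOf_one] at hx
    exact hp.one_lt.ne hx
  rcases hmin M hMn hMV with h | h
  · exact absurd h hMne
  · refine ⟨p, hp, fun v hv => ?_⟩
    have : v ∈ M := h ▸ hv
    exact this.2

theorem result {G Ω : Type*} [Group G] [Finite G] [MulAction G Ω] [FaithfulSMul G Ω] [Finite Ω]
    (hprim : MulAction.IsPreprimitive G Ω) (N : Subgroup G)
    (hN : N = sSup {V : Subgroup G | V.Normal ∧ V ≠ ⊥ ∧ ∀ M : Subgroup G, M.Normal → M ≤ V → M = ⊥ ∨ M = V}) :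
    (∃ p : ℕ, p.Prime ∧ IsMulCommutative N ∧ (∀ x : N, x ^ p = 1) ∧
      MulAction.IsPretransitive N Ω ∧ ∀ ω : Ω, MulAction.stabilizer N ω = ⊥) ∨
    (∃ (T : Type) (_ : Group T) (m : ℕ), 1 ≤ m ∧ IsSimpleGroup T ∧ ¬ IsMulCommutative T ∧ Nonempty (N ≃* (Fin m → T))) := by
  classical
  subst hN
  obtain ⟨𝓜, h𝓜⟩ : ∃ 𝓜 : Set (Subgroup G), 𝓜 = {V : Subgroup G | V.Normal ∧ V ≠ ⊥ ∧
    ∀ M : Subgroup G, M.Normal → M ≤ V → M = ⊥ ∨ M = V} := ⟨_, rfl⟩
  rw [← h𝓜]
  have hmem : ∀ V, V ∈ 𝓜 ↔ V.Normal ∧ V ≠ ⊥ ∧ ∀ M : Subgroup G, M.Normal → M ≤ V → M = ⊥ ∨ M = V := by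
    intro V; rw [h𝓜]; rfl
  by_cases hG : Nontrivial G
  swap
  · -- trivial group
    left
    have hsub : Subsingleton G := not_nontrivial_iff_subsingleton.mp hG
    have h1 : ∀ g : G, g = 1 := fun g => Subsingleton.elim g 1
    have hΩ : ∀ a b : Ω, a = b := by
      intro a b
      obtain ⟨g, hg⟩ := hprim.toIsPretransitive.exists_smul_eq a b
      rw [h1 g, one_smul] at hg; exact hg
    refine ⟨2, Nat.prime_two, ⟨⟨fun x y => Subsingleton.elim _ _⟩⟩, fun x => Subsingleton.elim _ _,
      ⟨fun a b => ⟨1, by rw [one_smul]; exact hΩ a b⟩⟩, fun ω => Subsingleton.elim _ _⟩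
  have htop : (⊤ : Subgroup G) ≠ ⊥ := by
    intro h
    obtain ⟨g, hg⟩ := exists_ne (1 : G)
    have : g ∈ (⊥ : Subgroup G) := h ▸ Subgroup.mem_top g
    exact hg (Subgroup.mem_bot.mp this)
  obtain ⟨V, hVn, hVne, _, hVmin⟩ := Cfsg.Agent.H1.exists_minimal_normal_le (⊤ : Subgroup G) htop
  have hVM : V ∈ 𝓜 := (hmem V).mpr ⟨hVn, hVne, hVmin⟩
  have hΩne : Nonempty Ω := by
    by_contra hemp
    rw [not_nonempty_iff] at hemp
    obtain ⟨g, hg⟩ := exists_ne (1 : G)
    apply hg
    apply FaithfulSMul.eq_of_smul_eq_smul (α := Ω)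
    intro a; exact hemp.elim a
  obtain ⟨a⟩ := hΩne
  have hVtr := transitive_of_normal hprim V hVne
  -- other minimal normal subgroups centralize V
  have hcent : ∀ U ∈ 𝓜, U ≠ V → U ≤ Subgroup.centralizer (V : Set G) := by
    intro U hU hUV
    obtain ⟨hUn, hUne, hUmin⟩ := (hmem U).mp hU
    have hinf : U ⊓ V = ⊥ := by
      have hn : (U ⊓ V).Normal := Subgroup.normal_inf_normal U V
      rcases hUmin (U ⊓ V) hn inf_le_left with h | h
      · exact h
      · exfalso
        have hUleV : U ≤ V := by rw [← h]; exact inf_le_right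
        rcases hVmin U hUn hUleV with h' | h'
        · exact hUne h'
        · exact hUV h'
    intro u hu
    rw [Subgroup.mem_centralizer_iff]
    intro v hv
    exact (Subgroup.commute_of_normal_of_disjoint U V hUn hVn (disjoint_iff.mpr hinf) u v hu hv).eq.symm
  by_cases hab : ∀ x ∈ V, ∀ y ∈ V, x * y = y * x
  · -- abelian case
    left
    have hVC : V ≤ Subgroup.centralizer (V : Set G) := by
      intro v hv
      rw [Subgroup.mem_centralizer_iff]
      intro w hw
      exact hab w hw v hv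
    have hCV : Subgroup.centralizer (V : Set G) ≤ V :=
      centralizer_le_of_transitive V V hVtr hVtr hVC a
    have h𝓜V : 𝓜 = {V} := by
      ext U
      rw [Set.mem_singleton_iff]
      constructor
      · intro hU
        by_contra hUV
        obtain ⟨hUn, hUne, hUmin⟩ := (hmem U).mp hU
        have hle : U ≤ V := (hcent U hU hUV).trans hCV
        rcases hVmin U hUn hle with h | h
        · exact hUne h
        · exact hUV h
      · intro h; rw [h]; exact hVM
    rw [h𝓜V, sSup_singleton]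
    obtain ⟨p, hp, hpow⟩ := exists_prime_pow_eq_one V hVne hVmin hab
    refine ⟨p, hp, ⟨⟨fun x y => Subtype.ext (hab x x.2 y y.2)⟩⟩, fun x => Subtype.ext (hpow x x.2), hVtr, ?_⟩
    intro ω
    rw [eq_bot_iff]
    intro v hv
    rw [Subgroup.mem_bot]
    apply Subtype.ext
    exact eq_one_of_mem_centralizer V hVtr (v : G) (hVC v.2) ω hv
  · -- nonabelian case
    right
    obtain ⟨S, hS⟩ := Cfsg.Agent.Lib.Helper4.MinNormal.exists_minNormalIn V hVne
    have hSsimple : IsSimpleGroup S := Cfsg.Agent.Lib.Helper4.MinNormal.MinNormalIn.isSimpleGroup V hVmin hS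
    let e : S ≃* Shrink.{0} S := Shrink.mulEquiv.symm
    obtain ⟨m, hm, ⟨eV⟩⟩ := Cfsg.Agent.Lib.Helper4.MinNormal.MinNormalIn.exists_mulEquiv_pi V hVmin hVne hS e
    have hTnt : Nontrivial (Shrink.{0} S) := e.symm.toEquiv.nontrivial
    have hTsimple : IsSimpleGroup (Shrink.{0} S) := IsSimpleGroup.isSimpleGroup_of_surjective e.toMonoidHom e.surjective
    have hTnab : ¬ IsMulCommutative (Shrink.{0} S) := by
      intro hc
      apply hab
      intro x hx y hy
      have h1 : eV (⟨x, hx⟩ * ⟨y, hy⟩) = eV (⟨y, hy⟩ * ⟨x, hx⟩) := by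
        rw [map_mul, map_mul]
        funext i
        exact hc.is_comm.comm _ _
      exact congrArg Subtype.val (eV.injective h1)
    by_cases hW : ∃ W ∈ 𝓜, W ≠ V
    · obtain ⟨W, hWM, hWV⟩ := hW
      obtain ⟨hWn, hWne, hWmin⟩ := (hmem W).mp hWM
      have hWtr := transitive_of_normal hprim W hWne
      have hWC := hcent W hWM hWV
      have hCW : Subgroup.centralizer (V : Set G) ≤ W := centralizer_le_of_transitive V W hVtr hWtr hWC a
      have h𝓜VW : 𝓜 = {V, W} := by
        ext U
        rw [Set.mem_insert_iff, Set.mem_singleton_iff]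
        constructor
        · intro hU
          by_cases hUV : U = V
          · exact Or.inl hUV
          · right
            obtain ⟨hUn, hUne, hUmin⟩ := (hmem U).mp hU
            have hle : U ≤ W := (hcent U hU hUV).trans hCW
            rcases hWmin U hUn hle with h | h
            · exact absurd h hUne
            · exact h
        · rintro (h | h)
          · rw [h]; exact hVM
          · rw [h]; exact hWM
      rw [h𝓜VW, sSup_pair]
      have hinf : V ⊓ W = ⊥ := by
        rw [eq_bot_iff]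
        intro g ⟨hgV, hgW⟩
        -- g ∈ V ∩ W is central in V, and V ∩ W normal, so minimality
        have hn : (V ⊓ W).Normal := Subgroup.normal_inf_normal V W
        rcases hVmin (V ⊓ W) hn inf_le_left with h | h
        · rw [← h]; exact ⟨hgV, hgW⟩
        · exfalso
          have hVleW : V ≤ W := by rw [← h]; exact inf_le_right
          rcases hWmin V hVn hVleW with h' | h'
          · exact hVne h'
          · exact hWV h'.symm
      have hc : ∀ s ∈ V, ∀ x ∈ W, s * x = x * s := by
        intro s hs x hx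
        exact ((Subgroup.mem_centralizer_iff.mp (hWC hx)) s hs)
      have e1 : ↥(V ⊔ W) ≃* V × W := Cfsg.Agent.Lib.Helper4.MinNormal.supMulEquivProd V W hinf hc
      obtain ⟨eVW⟩ := nonempty_mulEquiv_of_commuting V W hVtr hWtr hWC a
      refine ⟨Shrink.{0} S, inferInstance, m + m, by omega, hTsimple, hTnab, ⟨?_⟩⟩
      exact (e1.trans (MulEquiv.prodCongr eV (eVW.symm.trans eV))).trans (appendMulEquiv _ m m)
    · have h𝓜V : 𝓜 = {V} := by
        ext U
        rw [Set.mem_singleton_iff]
        constructor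
        · intro hU
          by_contra hUV
          exact hW ⟨U, hU, hUV⟩
        · intro h; rw [h]; exact hVM
      rw [h𝓜V, sSup_singleton]
      exact ⟨Shrink.{0} S, inferInstance, m, hm, hTsimple, hTnab, ⟨eV⟩⟩

end Cfsg.Agent.S3680
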