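import Mathlib
import Cfsg.Statements.S3683

set_option autoImplicit false
open Cfsg

namespace Cfsg.Agent.S3683

theorem cyclic_prime_of_bot_coatom {G : Type*} [Group G] [Finite G] (h : IsCoatom (⊥ : Subgroup G)) :
    IsCyclic G ∧ (Nat.card G).Prime := by
  have hso : IsSimpleOrder (Subgroup G) := isSimpleOrder_iff_isCoatom_bot.mpr h
  have hnt : Nontrivial G := by
    rw [← Subgroup.nontrivial_iff]
    exact ⟨⟨⊥, ⊤, h.1⟩⟩
  obtain ⟨g, hg⟩ := exists_ne (1 : G)
  have hz : Subgroup.zpowers g = ⊤ :=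
    (hso.eq_bot_or_eq_top (Subgroup.zpowers g)).resolve_left (Subgroup.zpowers_ne_bot.2 hg)
  have hgen : ∀ x : G, x ∈ Subgroup.zpowers g := fun x => by rw [hz]; trivial
  have hcyc : IsCyclic G := ⟨⟨g, hgen⟩⟩
  refine ⟨hcyc, ?_⟩
  let cg : CommGroup G := IsCyclic.commGroup
  have hsg : IsSimpleGroup G := ⟨fun H _ => hso.eq_bot_or_eq_top H⟩
  exact @IsSimpleGroup.prime_card G cg hsg

theorem result {G Ω : Type*} [Group G] [Finite G] [MulAction G Ω] [FaithfulSMul G Ω] [Finite Ω]
    (hprim : MulAction.IsPreprimitive G Ω) (a b : Ω) (hab : a ≠ b) (hfix : ∀ g : G, g • a = a → g • b = b) :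
    MulAction.stabilizer G a = ⊥ ∧ IsCyclic G ∧ (Nat.card G).Prime := by
  have hnt : Nontrivial Ω := ⟨⟨a, b, hab⟩⟩
  have hco : IsCoatom (MulAction.stabilizer G a) :=
    MulAction.IsPreprimitive.isCoatom_stabilizer_of_isPreprimitive G a
  have hle : MulAction.stabilizer G a ≤ MulAction.stabilizer G b := fun g hg => hfix g hg
  obtain ⟨g₀, hg₀⟩ := MulAction.exists_smul_eq G a b
  have hbtop : MulAction.stabilizer G b ≠ ⊤ := by
    intro h
    obtain ⟨g, hg⟩ := MulAction.exists_smul_eq G b a
    have : g ∈ MulAction.stabilizer G b := by rw [h]; trivial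
    rw [MulAction.mem_stabilizer_iff] at this
    exact hab (hg.symm.trans this)
  have heq : MulAction.stabilizer G b = MulAction.stabilizer G a :=
    (hco.le_iff.mp hle).resolve_left hbtop
  -- g₀ normalizes the stabilizer
  have hg₀N : g₀ ∈ Subgroup.normalizer (MulAction.stabilizer G a : Set G) := by
    have h1 := MulAction.stabilizer_smul_eq_stabilizer_map_conj g₀ a
    rw [hg₀, heq] at h1
    rw [Subgroup.mem_normalizer_iff]
    intro x
    constructor
    · intro hx
      rw [h1]
      exact Subgroup.mem_map.mpr ⟨x, hx, rfl⟩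
    · intro hx
      rw [h1] at hx
      obtain ⟨y, hy, hyx⟩ := Subgroup.mem_map.mp hx
      have : y = x := by
        have : g₀ * y * g₀⁻¹ = g₀ * x * g₀⁻¹ := hyx
        simpa using this
      rwa [← this]
  have hg₀a : g₀ ∉ MulAction.stabilizer G a := by
    intro h
    rw [MulAction.mem_stabilizer_iff] at h
    exact hab (h.symm.trans hg₀)
  have hNtop : Subgroup.normalizer (MulAction.stabilizer G a : Set G) = ⊤ := by
    apply hco.2
    exact lt_of_le_of_ne Subgroup.le_normalizer (fun h => hg₀a (by rw [h]; exact hg₀N))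
  have hstab : MulAction.stabilizer G a = ⊥ := by
    rw [eq_bot_iff]
    intro h hh
    rw [Subgroup.mem_bot]
    apply FaithfulSMul.eq_of_smul_eq_smul (α := Ω)
    intro x
    rw [one_smul]
    obtain ⟨g, rfl⟩ := MulAction.exists_smul_eq G a x
    have hgN : g ∈ Subgroup.normalizer (MulAction.stabilizer G a : Set G) := by rw [hNtop]; trivial
    have h2 : g⁻¹ * h * g ∈ MulAction.stabilizer G a := by
      have := (Subgroup.mem_normalizer_iff.mp hgN (g⁻¹ * h * g)).mpr
      apply this
      have h3 : g * (g⁻¹ * h * g) * g⁻¹ = h := by group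
      rw [h3]; exact hh
    rw [MulAction.mem_stabilizer_iff, mul_smul, mul_smul] at h2
    have := congrArg (fun y => g • y) h2
    simpa using this
  refine ⟨hstab, ?_⟩
  rw [hstab] at hco
  exact cyclic_prime_of_bot_coatom hco

end Cfsg.Agent.S3683
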