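import Mathlib
import Cfsg.Statements.S3684
import Cfsg.Agent.S0206

set_option autoImplicit false
open Cfsg

namespace Cfsg.Agent.S3684

open MulAction

theorem card_orbit_eq_relIndex {G X : Type*} [Group G] [MulAction G X] (H : Subgroup G) (v : X) :
    Nat.card (orbit H v) = (stabilizer G v).relIndex H := by
  have h1 : stabilizer H v = (stabilizer G v).subgroupOf H := by
    ext x
    simp [Subgroup.mem_subgroupOf, mem_stabilizer_iff, Subgroup.smul_def]
  rw [Subgroup.relIndex, ← h1, index_stabilizer, Nat.card_coe_set_eq]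

/-- A normal subgroup fixing a point of a faithful transitive action is trivial. -/
theorem normal_le_stabilizer_eq_bot {G Ω : Type*} [Group G] [MulAction G Ω] [FaithfulSMul G Ω]
    [IsPretransitive G Ω] (K : Subgroup G) (hK : K.Normal) (a : Ω) (hKa : K ≤ stabilizer G a) :
    K = ⊥ := by
  rw [eq_bot_iff]
  intro k hk
  rw [Subgroup.mem_bot]
  apply FaithfulSMul.eq_of_smul_eq_smul (α := Ω)
  intro ω
  obtain ⟨g, rfl⟩ := exists_smul_eq G a ω
  have h1 : g⁻¹ * k * g ∈ K := by
    have := hK.conj_mem k hk g⁻¹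
    simpa using this
  have h2 : (g⁻¹ * k * g) • a = a := hKa h1
  rw [one_smul]
  calc k • g • a = g • (g⁻¹ * k * g) • a := by
        rw [← mul_smul, ← mul_smul]; congr 1; group
    _ = g • a := by rw [h2]

theorem card_two_eq_zpowers {G : Type*} [Group G] (H : Subgroup G) (h2 : Nat.card H = 2) :
    ∃ t : G, orderOf t = 2 ∧ H = Subgroup.zpowers t := by
  have : Fact (Nat.Prime 2) := ⟨Nat.prime_two⟩
  have hfin : Finite H := Nat.finite_of_card_ne_zero (by omega)
  obtain ⟨x, hx⟩ := exists_prime_orderOf_dvd_card' 2 (G := H) (by rw [h2])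
  refine ⟨x, by rw [Subgroup.orderOf_coe]; exact hx, ?_⟩
  symm
  apply Subgroup.eq_of_le_of_card_ge
  · rw [Subgroup.zpowers_le]; exact x.2
  · rw [Nat.card_zpowers, Subgroup.orderOf_coe, hx, h2]

theorem result {G Ω : Type*} [Group G] [Finite G] [MulAction G Ω] [FaithfulSMul G Ω] [Finite Ω]
    (hprim : MulAction.IsPreprimitive G Ω) (a b : Ω) (h2 : Nat.card (MulAction.orbit (MulAction.stabilizer G a) b) = 2) :
    Nat.card (MulAction.stabilizer G a) = 2 ∧ ∃ p : ℕ, p.Prime ∧ Nonempty (G ≃* DihedralGroup p) := by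
  have htr : IsPretransitive G Ω := hprim.toIsPretransitive
  set Ha := stabilizer G a with hHa
  set Hb := stabilizer G b with hHb
  set K := Hb ⊓ Ha with hK
  have hrel : Hb.relIndex Ha = 2 := by rw [← card_orbit_eq_relIndex]; exact h2
  -- |Ha| = |Hb|
  have hcard : Nat.card Ha = Nat.card Hb := by
    obtain ⟨g, hg⟩ := exists_smul_eq G a b
    rw [hHb, ← hg, stabilizer_smul_eq_stabilizer_map_conj]
    exact (Subgroup.card_map_of_injective (MulAut.conj g).injective).symm
  have hKa : K.relIndex Ha = 2 := by rw [hK, Subgroup.inf_relIndex_right]; exact hrel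
  have card_rel : ∀ A B : Subgroup G, A ≤ B → Nat.card A * A.relIndex B = Nat.card B := by
    intro A B hAB
    have := Subgroup.relIndex_mul_relIndex ⊥ A B bot_le hAB
    rwa [Subgroup.relIndex_bot_left, Subgroup.relIndex_bot_left] at this
  have hKcard : Nat.card K * 2 = Nat.card Ha := by
    rw [← hKa]; exact card_rel K Ha inf_le_right
  have hKb : K.relIndex Hb = 2 := by
    have h1 := card_rel K Hb inf_le_left
    rw [← hcard, ← hKcard] at h1
    have hpos : 0 < Nat.card K := Nat.card_pos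
    exact Nat.eq_of_mul_eq_mul_left hpos h1
  -- K normal in Ha and Hb
  have hna : Ha ≤ Subgroup.normalizer (K : Set G) := by
    rw [← Subgroup.normal_subgroupOf_iff_le_normalizer inf_le_right]
    exact Subgroup.normal_of_index_eq_two hKa
  have hnb : Hb ≤ Subgroup.normalizer (K : Set G) := by
    rw [← Subgroup.normal_subgroupOf_iff_le_normalizer inf_le_left]
    exact Subgroup.normal_of_index_eq_two hKb
  have hnt : Nontrivial Ω := by
    have h2' := h2
    rw [Nat.card_coe_set_eq, Set.ncard_eq_two] at h2'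
    obtain ⟨x, y, hxy, -⟩ := h2'
    exact ⟨⟨x, y, hxy⟩⟩
  have hcoatom : IsCoatom Ha := IsPreprimitive.isCoatom_stabilizer_of_isPreprimitive G a
  have hba : ¬ Hb ≤ Ha := by
    intro h
    have : K = Hb := inf_eq_left.mpr h
    rw [this, Subgroup.relIndex_self] at hKb
    norm_num at hKb
  have hsup : Ha ⊔ Hb = ⊤ := by
    apply hcoatom.2
    exact lt_of_le_of_ne le_sup_left (fun h => hba (by rw [h]; exact le_sup_right))
  have hKn : K.Normal := by
    rw [← Subgroup.normalizer_eq_top_iff, eq_top_iff, ← hsup]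
    exact sup_le hna hnb
  have hKbot : K = ⊥ := normal_le_stabilizer_eq_bot K hKn a inf_le_right
  have hHa2 : Nat.card Ha = 2 := by
    rw [← hKcard, hKbot, Subgroup.card_bot]
  have hHb2 : Nat.card Hb = 2 := by rw [← hcard]; exact hHa2
  refine ⟨hHa2, ?_⟩
  obtain ⟨t, ht, hHt⟩ := card_two_eq_zpowers Ha hHa2
  obtain ⟨t', ht', hHt'⟩ := card_two_eq_zpowers Hb hHb2
  have htt' : t ≠ t' := by
    intro h
    apply hba
    rw [hHt, hHt', h]
  have hclos : Subgroup.closure ({t, t'} : Set G) = ⊤ := by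
    rw [← hsup, hHt, hHt', Subgroup.zpowers_eq_closure, Subgroup.zpowers_eq_closure,
      ← Subgroup.closure_union]
    rfl
  obtain ⟨e⟩ := Cfsg.Agent.S0206.result t t' ht ht' htt'
  set n := orderOf (t * t') with hn
  have eG : G ≃* DihedralGroup n :=
    (Subgroup.topEquiv.symm.trans (MulEquiv.subgroupCongr hclos.symm)).trans e
  have hGcard : Nat.card G = 2 * n := by
    rw [Nat.card_congr eG.toEquiv, DihedralGroup.nat_card]
  have hr1 : t * t' ≠ 1 := by
    intro h
    apply htt'
    have : t' = t⁻¹ := eq_inv_of_mul_eq_one_right h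
    rw [this, Cfsg.Agent.H1.invol_inv ht]
  have hn1 : n ≠ 1 := by rwa [hn, Ne, orderOf_eq_one_iff]
  have hnpos : 0 < n := orderOf_pos _
  obtain ⟨p, hp, hpn⟩ := Nat.exists_prime_and_dvd hn1
  set c := (t * t') ^ (n / p) with hc
  have hco : orderOf c = p := orderOf_pow_orderOf_div hnpos.ne' hpn
  have hc1 : c ≠ 1 := by
    intro h
    rw [h, orderOf_one] at hco
    exact hp.ne_one hco.symm
  have htc : t * c * t⁻¹ = c⁻¹ := by
    rw [hc, ← conj_pow, Cfsg.Agent.H1.pair_conj ht ht', inv_pow]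
  have htc' : t' * c * t'⁻¹ = c⁻¹ := by
    rw [hc, ← conj_pow, Cfsg.Agent.H1.pair_conj' ht ht', inv_pow]
  set C := Subgroup.zpowers c with hC
  have hnorm : ∀ s : G, s * s = 1 → s * c * s⁻¹ = c⁻¹ → s ∈ Subgroup.normalizer (C : Set G) := by
    intro s hs hsc
    have hfwd : ∀ z ∈ C, s * z * s⁻¹ ∈ C := by
      rintro z ⟨i, rfl⟩
      refine ⟨-i, ?_⟩
      show c ^ (-i) = s * c ^ i * s⁻¹
      rw [← conj_zpow, hsc, inv_zpow, zpow_neg]
    rw [Subgroup.mem_normalizer_iff]
    intro z
    refine ⟨hfwd z, fun hz => ?_⟩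
    have := hfwd _ hz
    have hsinv : s⁻¹ = s := inv_eq_of_mul_eq_one_left hs
    have e : s * (s * z * s⁻¹) * s⁻¹ = z := by
      rw [hsinv]
      calc s * (s * z * s) * s = (s * s) * z * (s * s) := by group
        _ = z := by rw [hs, one_mul, mul_one]
    rwa [e] at this
  have hCn : C.Normal := by
    rw [← Subgroup.normalizer_eq_top_iff, eq_top_iff, ← hclos, Subgroup.closure_le]
    rintro s (rfl | rfl)
    · exact hnorm s (Cfsg.Agent.H1.invol_mul_self ht) htc
    · exact hnorm s (Cfsg.Agent.H1.invol_mul_self ht') htc'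
  have hCne : C ≠ ⊥ := by
    intro h
    apply hc1
    have : c ∈ C := Subgroup.mem_zpowers c
    rwa [h, Subgroup.mem_bot] at this
  have hCHa : ¬ C ≤ Ha := fun h => hCne (normal_le_stabilizer_eq_bot C hCn a h)
  have hsup2 : Ha ⊔ C = ⊤ := by
    apply hcoatom.2
    exact lt_of_le_of_ne le_sup_left (fun h => hCHa (by rw [h]; exact le_sup_right))
  have hidx : C.index ∣ 2 := by
    have h1 : C.relIndex (Ha ⊔ C) = C.relIndex Ha := Subgroup.relIndex_sup_right Ha C
    rw [hsup2, Subgroup.relIndex_top_right] at h1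
    rw [h1, ← hHa2]
    exact Subgroup.relIndex_dvd_card C Ha
  have hCcard : Nat.card C = p := by rw [hC, Nat.card_zpowers, hco]
  have hmul := C.card_mul_index
  rw [hCcard, hGcard] at hmul
  have hidx2 : C.index ≤ 2 := Nat.le_of_dvd (by norm_num) hidx
  have hnp : n = p := by
    have h1 : p ≤ n := Nat.le_of_dvd hnpos hpn
    have h2 : 2 * n ≤ 2 * p := by
      calc 2 * n = p * C.index := hmul.symm
        _ ≤ p * 2 := Nat.mul_le_mul_left p hidx2
        _ = 2 * p := by ring
    omega
  exact ⟨p, hp, ⟨hnp ▸ eG⟩⟩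

end Cfsg.Agent.S3684
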