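import Cfsg.Statements.S3693
import Mathlib
import Cfsg.Agent.S5752
import Cfsg.Agent.Lib.Helper4.WielBoundF

set_option autoImplicit false
open Cfsg

namespace Cfsg.Agent.S3693

open Cfsg.Agent.H1.PrimPair Cfsg.Agent.Lib.Lead.Conj Cfsg.Agent.Lib.Lead.TW
  Cfsg.Agent.Lib.Helper4.WielBound

/-- Let a finite group G act faithfully and primitively on a set Ω, let a and b be points such that the orbit Δ of b under the stabilizer H of a has length d ≥ 2, and consider the permutation group induced on Δ by the elements of H fixing b. If that induced group has trivial Fitting subgroup (no non-trivial nilpotent normal subgroup), then the two-point stabilizer of a and b has trivial Fitting subgroup and the order of H divides d! · ((d - 1)!)^d. -/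
theorem result {G Ω : Type*} [Group G] [Finite G] [MulAction G Ω] [FaithfulSMul G Ω] [Finite Ω]
    (hprim : MulAction.IsPreprimitive G Ω) (a b : Ω) (d : ℕ) (hd : Nat.card (MulAction.orbit (MulAction.stabilizer G a) b) = d) (h2 : 2 ≤ d)
    (hF : Cfsg.fittingSubgroup ↥(((MulAction.stabilizer G b).subgroupOf (MulAction.stabilizer G a)).map (MulAction.toPermHom (MulAction.stabilizer G a) (MulAction.orbit (MulAction.stabilizer G a) b))) = ⊥) :
    Cfsg.fittingSubgroup ↥(MulAction.stabilizer G a ⊓ MulAction.stabilizer G b) = ⊥ ∧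
      Nat.card (MulAction.stabilizer G a) ∣ Nat.factorial d * (Nat.factorial (d - 1)) ^ d := by
  obtain ⟨g, A, B, hmax, hconj, hne, hcore, hA0, hB0, hA, hB, keyA, keyB, hcard, -, -⟩ :=
    wielandt_setup hprim a b d hd h2
  have hPG : ∀ (p : ℕ) [Fact p.Prime],
      PG p (MulAction.stabilizer G a ⊓ MulAction.stabilizer G b) = ⊥ := fun p _ =>
    PG_inf_eq_bot p _ _ hmax g hconj hne hcore (PG_le_cor_of_fitting a b p hF)
  constructor
  · rw [Cfsg.Agent.H1.fittingSubgroup_eq_iSup_pCore, iSup_eq_bot]
    intro p
    haveI : Fact (p : ℕ).Prime := ⟨p.2⟩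
    exact (PG_eq_bot_iff _ _).1 (hPG p)
  · by_cases hA2 : A 2 = ⊥
    · rw [hA2, Subgroup.relIndex_bot_left] at keyA
      exact keyA
    by_cases hB2 : B 2 = ⊥
    · rw [hB2, Subgroup.relIndex_bot_left] at keyB
      rw [hcard]
      exact keyB
    exfalso
    obtain ⟨p, hp, hpg, -⟩ :=
      Cfsg.Agent.S5752.result _ _ hmax g hconj hne hcore A B hA0 hB0 hA hB hA2 hB2
    haveI : Fact p.Prime := ⟨hp⟩
    apply hA2
    rw [eq_bot_iff, ← hPG p]
    have hA1 : A 1 = cor (MulAction.stabilizer G a)
        (MulAction.stabilizer G a ⊓ MulAction.stabilizer G b) := by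
      have := hA 0
      rw [hA0, hB0] at this
      exact this
    have hA2' : A 2 = cor (MulAction.stabilizer G a) (A 1 ⊓ B 1) := hA 1
    apply le_PG
    · rw [hA2']
      refine (cor_le' _ _).trans (inf_le_left.trans ?_)
      rw [hA1]
      exact cor_le' _ _
    · rw [hA2']
      exact inf_le_left.trans (le_normalizer_cor _ _)
    · have : IsPGroup p ↥((A 2 ⊔ B 2 : Subgroup G)) := hpg
      exact this.to_le le_sup_left

end Cfsg.Agent.S3693
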