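import Cfsg.Statements.S3696
import Mathlib

set_option autoImplicit false
open Cfsg

namespace Cfsg.Agent.S3696

open MulAction

universe u v


lemma amgm2_real (a b : ℕ) (ha : 1 ≤ a) (hb : 1 ≤ b) (x y : ℝ) (hx : 0 ≤ x) (hy : 0 ≤ y) :
    x ^ a * y ^ b * ((a : ℝ) + b) ^ (a + b) ≤ (x + y) ^ (a + b) * (a : ℝ) ^ a * (b : ℝ) ^ b := by
  have ha' : (0 : ℝ) < a := by exact_mod_cast ha
  have hb' : (0 : ℝ) < b := by exact_mod_cast hb
  have hab' : (0 : ℝ) < (a : ℝ) + b := by positivity
  have hw : (a : ℝ) / (a + b) + (b : ℝ) / (a + b) = 1 := by field_simp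
  have h := Real.geom_mean_le_arith_mean2_weighted (w₁ := (a : ℝ) / (a + b)) (w₂ := (b : ℝ) / (a + b))
    (p₁ := x / a) (p₂ := y / b) (by positivity) (by positivity) (by positivity) (by positivity) hw
  have hrhs : (a : ℝ) / (a + b) * (x / a) + (b : ℝ) / (a + b) * (y / b) = (x + y) / (a + b) := by
    field_simp
  rw [hrhs] at h
  have h0 : 0 ≤ (x / a) ^ ((a : ℝ) / (a + b)) * (y / b) ^ ((b : ℝ) / (a + b)) := by positivity
  have h2 := pow_le_pow_left₀ h0 h (a + b)
  rw [mul_pow, ← Real.rpow_natCast, ← Real.rpow_natCast, ← Real.rpow_mul (by positivity),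
    ← Real.rpow_mul (by positivity)] at h2
  have e1 : (a : ℝ) / (a + b) * ((a + b : ℕ) : ℝ) = a := by push_cast; field_simp
  have e2 : (b : ℝ) / (a + b) * ((a + b : ℕ) : ℝ) = b := by push_cast; field_simp
  rw [e1, e2, Real.rpow_natCast, Real.rpow_natCast, div_pow, div_pow, div_pow] at h2
  rw [div_mul_div_comm, div_le_div_iff₀ (by positivity) (by positivity)] at h2
  calc x ^ a * y ^ b * ((a : ℝ) + b) ^ (a + b) ≤ (x + y) ^ (a + b) * ((a : ℝ) ^ a * (b : ℝ) ^ b) := h2
    _ = _ := by ring

lemma amgm2_nat (a b : ℕ) (ha : 1 ≤ a) (x y : ℕ) :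
    x ^ a * y ^ b * (a + b) ^ (a + b) ≤ (x + y) ^ (a + b) * a ^ a * b ^ b := by
  rcases Nat.eq_zero_or_pos b with hb | hb
  · subst hb
    simp only [pow_zero, mul_one, add_zero]
    exact Nat.mul_le_mul_right _ (Nat.pow_le_pow_left (Nat.le_add_right x y) a)
  · have h := amgm2_real a b ha hb (x : ℝ) (y : ℝ) (by positivity) (by positivity)
    exact_mod_cast h

lemma mul_self_pow_le (a m : ℕ) (ha : 1 ≤ a) (hm : 2 ^ a ≤ m) : m * a ^ a ≤ m ^ a := by
  obtain ⟨c, rfl⟩ : ∃ c, a = c + 1 := ⟨a - 1, by omega⟩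
  have h1 : c + 1 ≤ 2 ^ c := Nat.lt_two_pow_self
  have h2 : (c + 1) ^ (c + 1) ≤ (2 ^ c) ^ (c + 1) := Nat.pow_le_pow_left h1 _
  have h3 : (2 ^ c) ^ (c + 1) = (2 ^ (c + 1)) ^ c := by rw [← pow_mul, ← pow_mul, mul_comm]
  have h4 : (2 ^ (c + 1)) ^ c ≤ m ^ c := Nat.pow_le_pow_left hm _
  calc m * (c + 1) ^ (c + 1) ≤ m * m ^ c := Nat.mul_le_mul_left _ (by omega)
    _ = m ^ (c + 1) := by rw [pow_succ']

lemma step_ineq (m y a b X : ℕ) (ha : 1 ≤ a) (hm : 2 ^ a ≤ m) (hX : X * b ^ b ≤ y ^ b) :
    m * X * (a + b) ^ (a + b) ≤ (m + y) ^ (a + b) := by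
  have h1 := amgm2_nat a b ha m y
  have h2 := mul_self_pow_le a m ha hm
  have hbb : 0 < b ^ b := by
    rcases Nat.eq_zero_or_pos b with h | h
    · subst h; simp
    · exact Nat.pow_pos h
  have hpos : 0 < a ^ a * b ^ b := Nat.mul_pos (Nat.pow_pos (by omega)) hbb
  apply Nat.le_of_mul_le_mul_right _ hpos
  calc m * X * (a + b) ^ (a + b) * (a ^ a * b ^ b)
      = (m * a ^ a) * (X * b ^ b) * (a + b) ^ (a + b) := by ring
    _ ≤ m ^ a * y ^ b * (a + b) ^ (a + b) :=
        Nat.mul_le_mul_right _ (Nat.mul_le_mul h2 hX)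
    _ ≤ (m + y) ^ (a + b) * a ^ a * b ^ b := h1
    _ = (m + y) ^ (a + b) * (a ^ a * b ^ b) := by ring


/-- In a commutative group acting on `Ω`, the stabiliser of `ω` fixes the orbit of `ω` pointwise. -/
lemma stab_fix_orbit {A : Type u} [CommGroup A] {Ω : Type v} [MulAction A Ω] (ω : Ω)
    (b : A) (hb : b ∈ stabilizer A ω) (x : Ω) (hx : x ∈ orbit A ω) : b • x = x := by
  obtain ⟨a, rfl⟩ := hx
  change b • (a • ω) = a • ω
  rw [smul_comm, hb]

/-- The complement of the orbit, as an invariant subset for the stabiliser. -/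
def compl (A : Type u) [CommGroup A] {Ω : Type v} [MulAction A Ω] (ω : Ω) :
    SubMulAction (stabilizer A ω) Ω where
  carrier := (orbit A ω)ᶜ
  smul_mem' := by
    intro b x hx hmem
    apply hx
    have : (b : A) • x ∈ orbit A ω := hmem
    have h2 : x ∈ orbit A ((b : A) • x) := mem_orbit_smul _ _
    rwa [orbit_eq_iff.mpr this] at h2

lemma compl_mem {A : Type u} [CommGroup A] {Ω : Type v} [MulAction A Ω] (ω : Ω) (x : Ω) :
    x ∈ compl A ω ↔ x ∉ orbit A ω := Iff.rfl

/-- The stabiliser acts faithfully on the complement of the orbit. -/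
lemma compl_faithful {A : Type u} [CommGroup A] {Ω : Type v} [MulAction A Ω] [FaithfulSMul A Ω]
    (ω : Ω) : FaithfulSMul (stabilizer A ω) (compl A ω) := by
  refine ⟨fun {b b'} h => ?_⟩
  apply Subtype.ext
  apply FaithfulSMul.eq_of_smul_eq_smul (α := Ω)
  intro x
  by_cases hx : x ∈ orbit A ω
  · rw [stab_fix_orbit ω (b : A) b.2 x hx, stab_fix_orbit ω (b' : A) b'.2 x hx]
  · have := h ⟨x, hx⟩
    exact congrArg Subtype.val this

/-- Cardinality of the complement. -/
lemma compl_card {A : Type u} [CommGroup A] {Ω : Type v} [Fintype Ω] [MulAction A Ω]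
    (ω : Ω) [Fintype (compl A ω)] :
    Fintype.card (compl A ω) + Set.ncard (orbit A ω) = Fintype.card Ω := by
  classical
  have h1 : Fintype.card (compl A ω) = Set.ncard ((orbit A ω)ᶜ) := by
    rw [← Nat.card_eq_fintype_card]
    rfl
  rw [h1, add_comm, Set.ncard_add_ncard_compl, Nat.card_eq_fintype_card]

/-- Elements of order dividing `p`, as a subgroup. -/
def E (A : Type u) [CommGroup A] (p : ℕ) : Subgroup A := (powMonoidHom p : A →* A).ker

lemma mem_E {A : Type u} [CommGroup A] (p : ℕ) (x : A) : x ∈ E A p ↔ x ^ p = 1 := by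
  rw [E, MonoidHom.mem_ker, powMonoidHom_apply]

lemma card_E {A : Type u} [CommGroup A] (p : ℕ) :
    Nat.card (E A p) = Nat.card {x : A // x ^ p = 1} :=
  Nat.card_congr (Equiv.subtypeEquivRight (mem_E p))

/-- The stabiliser of `ω` in `E A p` corresponds to the elements of order dividing `p` in the
stabiliser of `ω` in `A`. -/
def stabEquiv (A : Type u) [CommGroup A] {Ω : Type v} [MulAction A Ω] (p : ℕ) (ω : Ω) :
    stabilizer (E A p) ω ≃ {x : stabilizer A ω // x ^ p = 1} where
  toFun x := ⟨⟨((x : E A p) : A), x.2⟩, by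
    apply Subtype.ext
    have := (mem_E p _).mp (x : E A p).2
    simpa using this⟩
  invFun x := ⟨⟨((x : stabilizer A ω) : A), by
    rw [mem_E]
    have := congrArg Subtype.val x.2
    simpa using this⟩, (x : stabilizer A ω).2⟩
  left_inv x := rfl
  right_inv x := rfl

/-- The orbit of `ω` has at least `|E| / |E ∩ stabiliser|` elements. -/
lemma card_E_le {A : Type u} [CommGroup A] [Finite A] {Ω : Type v} [MulAction A Ω] [Finite Ω]
    (p : ℕ) (ω : Ω) :
    Nat.card {x : A // x ^ p = 1} ≤
      Nat.card {x : stabilizer A ω // x ^ p = 1} * Set.ncard (orbit A ω) := by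
  rw [← card_E, ← Nat.card_congr (stabEquiv A p ω)]
  have h1 := Subgroup.card_mul_index (stabilizer (E A p) ω)
  rw [index_stabilizer] at h1
  rw [← h1]
  apply Nat.mul_le_mul_left
  apply Set.ncard_le_ncard _ (Set.toFinite _)
  rintro _ ⟨x, rfl⟩
  exact ⟨(x : A), rfl⟩

theorem main_ind (p : ℕ) (hp : p.Prime) :
    ∀ (N : ℕ) (A : Type u) [CommGroup A] [Finite A] (Ω : Type v) [Fintype Ω] [MulAction A Ω]
      [FaithfulSMul A Ω], Nat.card A = N → IsPGroup p A →
      ∀ k : ℕ, Nat.card {x : A // x ^ p = 1} = p ^ k →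
        Nat.card A * k ^ k ≤ Fintype.card Ω ^ k := by
  intro N
  induction N using Nat.strong_induction_on with
  | _ N ih =>
  intro A _ _ Ω _ _ _ hN hA k hk
  classical
  have hpf : Fact p.Prime := ⟨hp⟩
  rcases Nat.eq_zero_or_pos k with hk0 | hkpos
  · -- trivial group
    subst hk0
    rw [pow_zero] at hk
    have hA1 : Nat.card A = 1 := by
      rcases hA.card_eq_or_dvd with h | h
      · exact h
      · exfalso
        obtain ⟨x, hx⟩ := exists_prime_orderOf_dvd_card' p h
        have hsub : Subsingleton {x : A // x ^ p = 1} := (Nat.card_eq_one_iff_unique.mp hk).1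
        have h1 : (⟨x, by rw [← hx]; exact pow_orderOf_eq_one x⟩ : {x : A // x ^ p = 1}) =
            ⟨1, one_pow p⟩ := Subsingleton.elim _ _
        have h2 : x = 1 := congrArg Subtype.val h1
        rw [h2, orderOf_one] at hx
        exact hp.one_lt.ne hx
    rw [hA1]; simp
  · -- pick a nontrivial element of order `p`
    have hex : ∃ e : A, e ^ p = 1 ∧ e ≠ 1 := by
      by_contra hcon
      push Not at hcon
      have hsub : Subsingleton {x : A // x ^ p = 1} :=
        ⟨fun a b => Subtype.ext (by rw [hcon a a.2, hcon b b.2])⟩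
      have : Nat.card {x : A // x ^ p = 1} ≤ 1 := Finite.card_le_one_iff_subsingleton.mpr hsub
      rw [hk] at this
      have h2 : 2 ≤ p ^ k := by
        calc 2 ≤ p := hp.two_le
          _ = p ^ 1 := (pow_one p).symm
          _ ≤ p ^ k := Nat.pow_le_pow_right hp.pos hkpos
      omega
    obtain ⟨e, hep, hene⟩ := hex
    have hω : ∃ ω : Ω, e • ω ≠ ω := by
      by_contra hcon
      push Not at hcon
      apply hene
      apply FaithfulSMul.eq_of_smul_eq_smul (α := Ω)
      intro ω
      rw [hcon ω, one_smul]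
    obtain ⟨ω, hω⟩ := hω
    set B : Subgroup A := stabilizer A ω with hB
    have heB : e ∉ B := fun h => hω h
    set m := Set.ncard (orbit A ω) with hm
    have hidx : B.index = m := index_stabilizer A ω
    have hcardA : m * Nat.card B = Nat.card A := by rw [← hidx]; exact Subgroup.index_mul_card B
    -- the stabiliser is a smaller group
    have hBlt : Nat.card B < N := by
      rw [← hN]
      apply lt_of_le_of_ne (Subgroup.card_le_card_group B)
      intro h
      have : B = ⊤ := Subgroup.card_eq_iff_eq_top B |>.mp h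
      exact heB (this ▸ Subgroup.mem_top e)
    -- its rank
    obtain ⟨k', hk'⟩ : ∃ k' : ℕ, Nat.card {x : B // x ^ p = 1} = p ^ k' := by
      have hBp : IsPGroup p B := hA.to_subgroup B
      have h1 : IsPGroup p (E B p) := hBp.to_subgroup _
      obtain ⟨n, hn⟩ := IsPGroup.iff_card.mp h1
      exact ⟨n, by rw [← card_E, hn]⟩
    have hfaith : FaithfulSMul B (compl A ω) := compl_faithful ω
    let _ : Fintype (compl A ω) := Fintype.ofFinite _
    have hIH := ih (Nat.card B) hBlt B (compl A ω) rfl (hA.to_subgroup B) k' hk'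
    have hcompl := compl_card (A := A) ω
    rw [← hm] at hcompl
    -- comparing ranks
    have hle := card_E_le (A := A) p ω
    rw [hk, hk', ← hm] at hle
    have hk'lt : k' < k := by
      by_contra hcon
      push Not at hcon
      -- the inclusion of the `p`-torsion of `B` into that of `A` would be onto
      have hinj : Function.Injective (fun x : {x : B // x ^ p = 1} =>
          (⟨((x : B) : A), by
            have := congrArg Subtype.val x.2
            simpa using this⟩ : {x : A // x ^ p = 1})) := by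
        intro x y hxy
        have := congrArg Subtype.val hxy
        exact Subtype.ext (Subtype.ext this)
      have hcardle : Nat.card {x : A // x ^ p = 1} ≤ Nat.card {x : B // x ^ p = 1} := by
        rw [hk, hk']; exact Nat.pow_le_pow_right hp.pos hcon
      have hbij := (Nat.bijective_iff_injective_and_card _).mpr ⟨hinj, by
        apply le_antisymm (Nat.card_le_card_of_injective _ hinj) hcardle⟩
      obtain ⟨x, hx⟩ := hbij.2 ⟨e, hep⟩
      have : ((x : B) : A) = e := congrArg Subtype.val hx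
      exact heB (this ▸ (x : B).2)
    obtain ⟨a, ha⟩ : ∃ a, k = a + k' := ⟨k - k', by omega⟩
    have ha1 : 1 ≤ a := by omega
    have hm2 : 2 ^ a ≤ m := by
      have h1 : p ^ a ≤ m := by
        rw [ha, pow_add, mul_comm] at hle
        exact Nat.le_of_mul_le_mul_left hle (Nat.pow_pos hp.pos)
      exact (Nat.pow_le_pow_left hp.two_le a).trans h1
    have hstep := step_ineq m (Fintype.card (compl A ω)) a k' (Nat.card B) ha1 hm2 hIH
    rw [← hcardA, ha, ← hcompl, add_comm (Fintype.card _) m]
    exact hstep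

open scoped IsMulCommutative in
/-- Let p be a prime, Ω a finite set with n ≥ p elements, and A an abelian p-subgroup of the symmetric group on Ω whose elements of order dividing p number p^k (so k is the rank of A). Then |A| · k^k ≤ n^k, that is, |A| ≤ (n/k)^k. -/
theorem result {Ω : Type*} [Fintype Ω] [DecidableEq Ω]
    (p : ℕ) (hp : p.Prime) (hn : p ≤ Fintype.card Ω) (A : Subgroup (Equiv.Perm Ω)) (hA : IsPGroup p A) (hab : IsMulCommutative A)
    (k : ℕ) (hk : Nat.card {x : A // x ^ p = 1} = p ^ k) :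
    Nat.card A * k ^ k ≤ Fintype.card Ω ^ k := by
  have hfaith : FaithfulSMul A Ω := ⟨fun {a b} h => Subtype.ext (Equiv.ext h)⟩
  exact main_ind p hp (Nat.card A) A Ω rfl hA k hk

end Cfsg.Agent.S3696
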