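import Mathlib
import Cfsg.Statements.S3703
import Cfsg.Agent.H2.MazurovPre
import Cfsg.Agent.H2.MazurovStep
import Cfsg.Agent.S0023
import Cfsg.Agent.S0024

set_option autoImplicit false
open Cfsg

namespace Cfsg.Agent.S3703

/-- Let N be a normal subgroup of the finite group G such that G/N is a Frobenius group with kernel F and cyclic complement H, where the order of F is coprime to that of N and F is not contained in the image of C_G(N) in G/N. Then G has an element of order p·#H for some prime p dividing the order of N. (A standard tool in recognising groups by their element orders.) -/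
theorem result {G : Type*} [Group G] [Finite G] (N : Subgroup G) [N.Normal]
    (Fb Hb : Subgroup (G ⧸ N)) [Fb.Normal] (hHb : Cfsg.IsFrobeniusComplement Hb) (hker : Cfsg.frobeniusKernel Hb = (Fb : Set (G ⧸ N)))
    (hcyc : IsCyclic Hb) (hcop : (Nat.card Fb).Coprime (Nat.card N))
    (hnot : ¬ Fb ≤ (Subgroup.centralizer (N : Set G)).map (QuotientGroup.mk' N)) :
    ∃ p : ℕ, p.Prime ∧ p ∣ Nat.card N ∧ ∃ g : G, orderOf g = p * Nat.card Hb := by
  classical
  by_contra hcon
  have hno : ∀ p : ℕ, p.Prime → p ∣ Nat.card N → ∀ g : G, orderOf g ≠ p * Nat.card Hb := by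
    intro p hp hpd g hg; exact hcon ⟨p, hp, hpd, g, hg⟩
  obtain ⟨π, hπdef⟩ : ∃ π : G →* G ⧸ N, π = QuotientGroup.mk' N := ⟨_, rfl⟩
  have hπsurj : Function.Surjective π := by rw [hπdef]; exact QuotientGroup.mk'_surjective N
  have hπker : ∀ x : G, π x = 1 ↔ x ∈ N := by
    intro x; rw [hπdef]; exact QuotientGroup.eq_one_iff x
  obtain ⟨K, hKdef⟩ : ∃ K : Subgroup G, K = Fb.comap π := ⟨_, rfl⟩
  have hKn : K.Normal := by rw [hKdef]; infer_instance
  have hKmem : ∀ x : G, x ∈ K ↔ π x ∈ Fb := by intro x; rw [hKdef]; rfl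
  -- Step B : a Sylow subgroup of K not centralizing N
  obtain ⟨r, hr, R, hRnot⟩ : ∃ r : ℕ, r.Prime ∧ ∃ R : Sylow r ↥K,
      ¬ ((R : Subgroup K).map K.subtype) ≤ Subgroup.centralizer (N : Set G) ⊔ N := by
    by_contra hall
    push Not at hall
    have h1 : (Subgroup.centralizer (N : Set G) ⊔ N).subgroupOf K = ⊤ := by
      apply Cfsg.Agent.H2.Maz.eq_top_of_forall_sylow_le
      intro p hp
      have := Fact.mk hp
      obtain ⟨R⟩ : Nonempty (Sylow p K) := inferInstance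
      refine ⟨R, ?_⟩
      intro x hx
      rw [Subgroup.mem_subgroupOf]
      exact hall p hp R (Subgroup.mem_map_of_mem _ hx)
    apply hnot
    intro x hx
    obtain ⟨g, rfl⟩ := hπsurj x
    have hgK : g ∈ K := (hKmem g).mpr hx
    have h2 : (⟨g, hgK⟩ : K) ∈ (Subgroup.centralizer (N : Set G) ⊔ N).subgroupOf K := by
      rw [h1]; trivial
    rw [Subgroup.mem_subgroupOf] at h2
    have h3 : π g ∈ (Subgroup.centralizer (N : Set G) ⊔ N).map π := Subgroup.mem_map_of_mem _ h2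
    rw [Subgroup.map_sup] at h3
    have h4 : N.map π = ⊥ := by rw [hπdef]; exact QuotientGroup.map_mk'_self N
    rw [h4, sup_bot_eq, hπdef] at h3
    rw [hπdef]
    exact h3
  have := Fact.mk hr
  obtain ⟨RG, hRGdef⟩ : ∃ RG : Subgroup G, RG = (R : Subgroup K).map K.subtype := ⟨_, rfl⟩
  rw [← hRGdef] at hRnot
  have hRGK : RG ≤ K := by rw [hRGdef]; exact Subgroup.map_subtype_le _
  have hRGp : IsPGroup r RG := by rw [hRGdef]; exact R.isPGroup'.map _
  have hRGFb : ∀ x ∈ RG, π x ∈ Fb := fun x hx => (hKmem x).mp (hRGK hx)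
  have hrN : ¬ r ∣ Nat.card N := by
    intro hrd
    apply hRnot
    refine le_trans ?_ le_sup_right
    intro x hx
    rw [← hπker]
    obtain ⟨k, hk⟩ := hRGp ⟨x, hx⟩
    have hk' : x ^ (r ^ k) = 1 := by
      have := congrArg Subtype.val hk
      simpa using this
    have hd1 : orderOf (π x) ∣ r ^ k := by
      apply orderOf_dvd_of_pow_eq_one
      rw [← map_pow, hk', map_one]
    have hd2 : orderOf (π x) ∣ Nat.card Fb := Subgroup.orderOf_dvd_natCard Fb (hRGFb x hx)
    have hc : (r ^ k).Coprime (Nat.card Fb) := by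
      apply Nat.Coprime.pow_left
      rw [Nat.Prime.coprime_iff_not_dvd hr]
      intro hrF
      exact (Nat.Prime.one_lt hr).ne' (Nat.eq_one_of_dvd_coprimes hcop hrF hrd)
    have : orderOf (π x) = 1 := Nat.eq_one_of_dvd_coprimes hc hd1 hd2
    exact orderOf_eq_one_iff.mp this
  have hcopRN : (Nat.card RG).Coprime (Nat.card N) := by
    obtain ⟨k, hk⟩ := IsPGroup.exists_card_eq hRGp
    rw [hk]
    apply Nat.Coprime.pow_left
    rwa [Nat.Prime.coprime_iff_not_dvd hr]
  have hRGN : RG ⊓ N = ⊥ := (Subgroup.disjoint_of_coprime_natCard hcopRN).eq_bot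
  have hRnotC : ¬ RG ≤ Subgroup.centralizer (N : Set G) := fun hle => hRnot (le_trans hle le_sup_left)
  have hRGnormN : RG ≤ Subgroup.normalizer (N : Set G) := by
    rw [Subgroup.normalizer_eq_top]; exact le_top
  have hRGsolv : Group.IsSolvable RG := by
    have : Group.IsNilpotent RG := hRGp.isNilpotent
    exact IsNilpotent.to_isSolvable
  -- an invariant Sylow subgroup of N on which RG acts nontrivially
  obtain ⟨s, hs, S, hRS, hRSnot⟩ : ∃ s : ℕ, s.Prime ∧ ∃ S : Sylow s ↥N,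
      RG ≤ Subgroup.normalizer (((S : Subgroup N).map N.subtype : Subgroup G) : Set G) ∧
      ¬ RG ≤ Subgroup.centralizer (((S : Subgroup N).map N.subtype : Subgroup G) : Set G) := by
    by_contra hall
    push Not at hall
    have h1 : (Subgroup.centralizer (RG : Set G)).subgroupOf N = ⊤ := by
      apply Cfsg.Agent.H2.Maz.eq_top_of_forall_sylow_le
      intro p hp
      have := Fact.mk hp
      obtain ⟨S, hS⟩ := Cfsg.Agent.S0023.result RG N hRGnormN hcopRN (Or.inl hRGsolv) p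
      refine ⟨S, ?_⟩
      intro x hx
      rw [Subgroup.mem_subgroupOf, Subgroup.mem_centralizer_iff]
      intro y hy
      have hy' := hall p hp S hS hy
      rw [Subgroup.mem_centralizer_iff] at hy'
      exact (hy' x (Subgroup.mem_map_of_mem _ hx)).symm
    apply hRnotC
    intro y hy
    rw [Subgroup.mem_centralizer_iff]
    intro n hn
    have h2 : (⟨n, hn⟩ : N) ∈ (Subgroup.centralizer (RG : Set G)).subgroupOf N := by
      rw [h1]; trivial
    rw [Subgroup.mem_subgroupOf, Subgroup.mem_centralizer_iff] at h2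
    exact (h2 y hy).symm
  have := Fact.mk hs
  obtain ⟨SG, hSGdef⟩ : ∃ SG : Subgroup G, SG = (S : Subgroup N).map N.subtype := ⟨_, rfl⟩
  have hRS0 := hRS
  rw [← hSGdef] at hRS hRSnot
  have hSGN : SG ≤ N := by rw [hSGdef]; exact Subgroup.map_subtype_le _
  have hSGp : IsPGroup s SG := by rw [hSGdef]; exact S.isPGroup'.map _
  -- generator of Hb
  obtain ⟨hb, hhb⟩ := hcyc.exists_generator
  have hgen : ∀ x ∈ Hb, x ∈ Subgroup.zpowers (hb : G ⧸ N) := by
    intro x hx
    obtain ⟨k, hk⟩ := Subgroup.mem_zpowers_iff.mp (hhb ⟨x, hx⟩)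
    refine Subgroup.mem_zpowers_iff.mpr ⟨k, ?_⟩
    have := congrArg Subtype.val hk
    simpa using this
  have hordb : orderOf (hb : G ⧸ N) = Nat.card Hb := by
    rw [Subgroup.orderOf_coe]; exact orderOf_eq_card_of_forall_mem_zpowers hhb
  -- Frattini
  obtain ⟨h₀, hh₀⟩ := hπsurj (hb : G ⧸ N)
  have hfrat : Subgroup.normalizer (RG : Set G) ⊔ K = ⊤ := by
    rw [hRGdef]; exact Sylow.normalizer_sup_eq_top R
  have h₀mem : h₀ ∈ K ⊔ Subgroup.normalizer (RG : Set G) := by rw [sup_comm, hfrat]; trivial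
  have hKtop : Subgroup.normalizer (K : Set G) = ⊤ := Subgroup.normalizer_eq_top K
  rw [Cfsg.Agent.H1.mem_sup_of_le_normalizer K _
    (by rw [hKtop]; exact le_top)] at h₀mem
  obtain ⟨n, hn, h₁, hh₁, hh₀eq⟩ := h₀mem
  have hπh₁ : π h₁ = (π n)⁻¹ * hb := by
    rw [← hh₀, hh₀eq, map_mul, inv_mul_cancel_left]
  obtain ⟨g, hg⟩ := Cfsg.Agent.H2.Maz.frob_conj_generator Fb Hb hHb hker (hb : G ⧸ N) hb.2 hgen
    (π n)⁻¹ (Fb.inv_mem ((hKmem n).mp hn))
  -- adjust h₁ so that it normalizes SG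
  obtain ⟨S₂, hS₂def⟩ : ∃ S₂ : Sylow s ↥N, S₂ = (MulAut.conjNormal h₁ : MulAut ↥N) • S := ⟨_, rfl⟩
  have hS₂map : (S₂ : Subgroup N).map N.subtype = SG.map (MulAut.conj h₁).toMonoidHom := by
    rw [hS₂def, hSGdef]
    exact Cfsg.Agent.H2.Maz.conjNormal_smul_map N h₁ (S : Subgroup N)
  have hQ : RG ≤ Subgroup.normalizer (((S₂ : Subgroup N).map N.subtype : Subgroup G) : Set G) := by
    rw [hS₂map]
    intro y hy
    rw [Subgroup.mem_normalizer_iff]
    intro x
    rw [Cfsg.Agent.H1.mem_map_conj_iff, Cfsg.Agent.H1.mem_map_conj_iff]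
    have hy' : h₁⁻¹ * y * h₁ ∈ RG := (Subgroup.mem_normalizer_iff''.mp hh₁ y).mp hy
    have hy'' := hRS hy'
    rw [Subgroup.mem_normalizer_iff] at hy''
    rw [hy'' (h₁⁻¹ * x * h₁)]
    have : h₁⁻¹ * y * h₁ * (h₁⁻¹ * x * h₁) * (h₁⁻¹ * y * h₁)⁻¹ = h₁⁻¹ * (y * x * y⁻¹) * h₁ := by
      group
    rw [this]
  obtain ⟨c, hcC, hcS⟩ := Cfsg.Agent.S0024.result RG N hRGnormN hcopRN (Or.inl hRGsolv) s S S₂
    hRS0 hQ
  have hconjc : (MulAut.conjNormal (c : G) : MulAut ↥N) = MulAut.conj c := by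
    ext x
    simp [MulAut.conjNormal_apply]
  obtain ⟨h, hhdef⟩ : ∃ h : G, h = (c : G)⁻¹ * h₁ := ⟨_, rfl⟩
  have hhS' : (MulAut.conjNormal h : MulAut ↥N) • S = S := by
    rw [hhdef, map_mul, map_inv, mul_smul, ← hS₂def, ← hcS, hconjc, inv_smul_smul]
  have hhS : h ∈ Subgroup.normalizer (SG : Set G) := by
    rw [hSGdef]
    exact Cfsg.Agent.H2.Maz.mem_normalizer_of_conjNormal_smul_eq N h S hhS'
  have hhR : h ∈ Subgroup.normalizer (RG : Set G) := by
    rw [hhdef]
    exact Subgroup.mul_mem _ (Subgroup.inv_mem _ (Subgroup.centralizer_le_normalizer _ hcC)) hh₁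
  have hπh : π h = g * hb * g⁻¹ := by
    rw [hhdef, map_mul, map_inv, (hπker (c : G)).mpr c.2, inv_one, one_mul, hπh₁, hg]
  have hordh : orderOf (π h) = Nat.card Hb := by
    rw [hπh, ← hordb]
    exact (MulAut.conj g).orderOf_eq (hb : G ⧸ N)
  have hm2 : Nat.card Hb ≠ 0 := Nat.card_pos.ne'
  obtain ⟨m', hm'⟩ := Nat.exists_eq_succ_of_ne_zero hm2
  have hA : ∀ x : G, orderOf (π x) = m' + 1 → x ^ (m' + 1) = 1 := by
    intro x hx
    rw [hπdef] at hx
    apply Cfsg.Agent.H2.Maz.pow_eq_one_of_no_order N (m' + 1) (Nat.succ_pos _) _ x hx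
    intro p hp hpd g'
    have := hno p hp hpd g'
    rwa [hm'] at this
  have hpow1 : ∀ v ∈ N, (v * h) ^ (m' + 1) = 1 := by
    intro v hv
    apply hA
    rw [map_mul, (hπker v).mpr hv, one_mul, hordh, hm']
  have hfpf : ∀ y ∈ RG, ∀ i < m', y * h ^ (i + 1) * y⁻¹ = h ^ (i + 1) → y = 1 := by
    intro y hy i hi hyi
    have h1 : π y * (g * (hb : G ⧸ N) ^ (i + 1) * g⁻¹) * (π y)⁻¹
        = g * (hb : G ⧸ N) ^ (i + 1) * g⁻¹ := by
      rw [← conj_pow, ← hπh, ← map_pow, ← map_inv, ← map_mul, ← map_mul, hyi]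
    rcases Cfsg.Agent.H2.Maz.frob_fpf Fb Hb hHb hker (π y) (hRGFb y hy) _
      (Hb.pow_mem hb.2 (i + 1)) g h1 with h2 | h2
    · have h3 : y ∈ RG ⊓ N := ⟨hy, (hπker y).mp h2⟩
      rw [hRGN] at h3
      exact h3
    · exfalso
      have h3 := orderOf_dvd_of_pow_eq_one h2
      rw [hordb, hm'] at h3
      have := Nat.le_of_dvd (Nat.succ_pos _) h3
      omega
  have hcopSR : (Nat.card SG).Coprime (Nat.card RG) :=
    Nat.Coprime.coprime_dvd_left (Subgroup.card_dvd_of_le hSGN) hcopRN.symm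
  exact hRSnot (Cfsg.Agent.H2.Maz.sgroup_step s SG RG h m' hSGp hRS hhS hhR hcopSR hfpf
    (fun v hv => hpow1 v (hSGN hv)))

end Cfsg.Agent.S3703
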