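import Mathlib
import Cfsg.Statements.S3704

set_option autoImplicit false
open Cfsg

namespace Cfsg.Agent.S3704


open Finset

/-- Linear-algebra core: if `Aᵀ A = (α-β) I + β J` with `α > β ≥ 0`, `Aᵀ B = d (J - I)`,
and the column sums of `A` are `α`, for matrices with rows indexed by `X`, columns by `Ω`,
`|X| = |Ω|`, then `B = c A + e J`. -/
theorem lin_core {X Ω : Type*} [Fintype X] [Fintype Ω] [DecidableEq Ω]
    (hcard : Fintype.card X = Fintype.card Ω)
    (A B : X → Ω → ℚ) (α β d : ℚ) (hαβ : β < α) (hβ : 0 ≤ β)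
    (hAA : ∀ ω ω', ∑ x, A x ω * A x ω' = if ω = ω' then α else β)
    (hAB : ∀ ω ω', ∑ x, A x ω * B x ω' = if ω = ω' then 0 else d)
    (hA1 : ∀ ω, ∑ x, A x ω = α) :
    ∃ c e : ℚ, ∀ x ω, B x ω = c * A x ω + e := by
  classical
  -- the linear map
  let T : (Ω → ℚ) →ₗ[ℚ] (X → ℚ) := Matrix.mulVecLin (Matrix.of A)
  have hT : ∀ v x, T v x = ∑ ω, A x ω * v ω := by
    intro v x
    simp [T, Matrix.mulVec, dotProduct]
  have hn : (0 : ℚ) ≤ Fintype.card Ω := by positivity
  -- key identity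
  have hkey : ∀ (v : Ω → ℚ) (ω' : Ω), ∑ x, A x ω' * T v x = (α - β) * v ω' + β * ∑ ω, v ω := by
    intro v ω'
    simp_rw [hT, Finset.mul_sum]
    rw [Finset.sum_comm]
    have : ∀ ω, ∑ x, A x ω' * (A x ω * v ω) = (if ω' = ω then α else β) * v ω := by
      intro ω
      rw [← hAA ω' ω, Finset.sum_mul]
      apply Finset.sum_congr rfl
      intro x _
      ring
    simp_rw [this]
    have h2 : ∀ ω, (if ω' = ω then α else β) * v ω = (if ω' = ω then (α - β) * v ω else 0) + β * v ω := by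
      intro ω
      split_ifs
      · ring
      · ring
    simp_rw [h2, Finset.sum_add_distrib, Finset.sum_ite_eq, Finset.mem_univ, if_true]
  -- injective
  have hinj : Function.Injective T := by
    rw [← LinearMap.ker_eq_bot, LinearMap.ker_eq_bot']
    intro v hv
    have h1 : ∀ ω', (α - β) * v ω' + β * ∑ ω, v ω = 0 := by
      intro ω'
      rw [← hkey v ω', hv]
      simp
    have hs : ∑ ω, v ω = 0 := by
      have h2 : ∑ ω', ((α - β) * v ω' + β * ∑ ω, v ω) = 0 := by
        apply Finset.sum_eq_zero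
        intro ω' _
        exact h1 ω'
      rw [Finset.sum_add_distrib, ← Finset.mul_sum, Finset.sum_const, Finset.card_univ,
        nsmul_eq_mul] at h2
      have h3 : ((α - β) + Fintype.card Ω * β) * ∑ ω, v ω = 0 := by linarith
      have h4 : 0 < (α - β) + Fintype.card Ω * β := by
        have : 0 ≤ (Fintype.card Ω : ℚ) * β := mul_nonneg hn hβ
        linarith
      rcases mul_eq_zero.1 h3 with h | h
      · linarith
      · exact h
    funext ω'
    have := h1 ω'
    rw [hs, mul_zero, add_zero] at this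
    rcases mul_eq_zero.1 this with h | h
    · linarith
    · exact h
  -- surjective
  have hsurj : Function.Surjective T := by
    have hfr : Module.finrank ℚ (Ω → ℚ) = Module.finrank ℚ (X → ℚ) := by
      rw [Module.finrank_fintype_fun_eq_card, Module.finrank_fintype_fun_eq_card, hcard]
    exact (LinearMap.injective_iff_surjective_of_finrank_eq_finrank hfr).1 hinj
  -- constants
  refine ⟨-d / (α - β), d / (α - β), ?_⟩
  intro x₀ ω
  set c : ℚ := -d / (α - β) with hc
  have hαβ' : α - β ≠ 0 := by linarith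
  -- z
  let z : X → ℚ := fun x => B x ω - c * A x ω + c
  have horth : ∀ ω', ∑ x, z x * A x ω' = 0 := by
    intro ω'
    have h1 : ∑ x, z x * A x ω' = ∑ x, A x ω' * B x ω - c * ∑ x, A x ω' * A x ω + c * ∑ x, A x ω' := by
      rw [Finset.mul_sum, Finset.mul_sum, ← Finset.sum_sub_distrib, ← Finset.sum_add_distrib]
      apply Finset.sum_congr rfl
      intro x _
      simp only [z]
      ring
    rw [h1, hAB, hAA, hA1]
    by_cases h : ω' = ω
    · rw [if_pos h, if_pos h]; ring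
    · rw [if_neg h, if_neg h, hc]
      field_simp
      ring
  obtain ⟨v, hv⟩ := hsurj z
  have hz2 : ∑ x, z x * z x = 0 := by
    have : ∀ x, z x * z x = ∑ ω', v ω' * (z x * A x ω') := by
      intro x
      have h0 : z x = ∑ ω', A x ω' * v ω' := by rw [← hv, hT]
      conv_lhs => rw [h0, Finset.sum_mul]
      apply Finset.sum_congr rfl
      intro ω' _
      rw [← h0]
      ring
    simp_rw [this]
    rw [Finset.sum_comm]
    apply Finset.sum_eq_zero
    intro ω' _
    rw [← Finset.mul_sum, horth, mul_zero]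
  have hz : z x₀ = 0 := by
    have h1 := (Finset.sum_eq_zero_iff_of_nonneg (fun x _ => mul_self_nonneg (z x))).1 hz2 x₀
      (Finset.mem_univ _)
    exact mul_self_eq_zero.1 h1
  simp only [z] at hz
  have : d / (α - β) = -c := by rw [hc]; ring
  rw [this]
  linarith


open MulAction

section
variable {G Ω : Type*} [Group G] [MulAction G Ω] (H : Subgroup G)

/-- incidence between cosets `xH` and points: `ω ∈ x • S` -/
def inc (S : Set Ω) (x : G ⧸ H) (ω : Ω) : Prop := (x.out)⁻¹ • ω ∈ S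

theorem inc_mk {S : Set Ω} (hS : ∀ h ∈ H, ∀ s ∈ S, h • s ∈ S) (g : G) (ω : Ω) :
    inc H S (g : G ⧸ H) ω ↔ g⁻¹ • ω ∈ S := by
  obtain ⟨h, hh⟩ := QuotientGroup.mk_out_eq_mul H g
  unfold inc
  rw [hh, mul_inv_rev, mul_smul]
  constructor
  · intro h1
    have := hS h h.2 _ h1
    simpa using this
  · intro h1
    exact hS (h : G)⁻¹ (H.inv_mem h.2) _ h1

theorem inc_smul {S : Set Ω} (hS : ∀ h ∈ H, ∀ s ∈ S, h • s ∈ S) (k : G) (x : G ⧸ H) (ω : Ω) :
    inc H S (k • x) (k • ω) ↔ inc H S x ω := by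
  induction x using QuotientGroup.induction_on with
  | H g =>
    have : k • (g : G ⧸ H) = ((k * g : G) : G ⧸ H) := rfl
    rw [this, inc_mk H hS, inc_mk H hS, mul_inv_rev, mul_smul, inv_smul_smul]

/-- the counting function -/
noncomputable def cnt (S S' : Set Ω) (ω ω' : Ω) : ℕ :=
  Set.ncard {x : G ⧸ H | inc H S x ω ∧ inc H S' x ω'}

theorem cnt_smul {S S' : Set Ω} (hS : ∀ h ∈ H, ∀ s ∈ S, h • s ∈ S)
    (hS' : ∀ h ∈ H, ∀ s ∈ S', h • s ∈ S') (k : G) (ω ω' : Ω) :
    cnt H S S' (k • ω) (k • ω') = cnt H S S' ω ω' := by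
  unfold cnt
  have : {x : G ⧸ H | inc H S x (k • ω) ∧ inc H S' x (k • ω')} =
      (fun x : G ⧸ H => k • x) '' {x : G ⧸ H | inc H S x ω ∧ inc H S' x ω'} := by
    ext x
    constructor
    · rintro ⟨h1, h2⟩
      refine ⟨k⁻¹ • x, ⟨?_, ?_⟩, smul_inv_smul k x⟩
      · rw [← inc_smul H hS k, smul_inv_smul]; exact h1
      · rw [← inc_smul H hS' k, smul_inv_smul]; exact h2
    · rintro ⟨y, ⟨h1, h2⟩, rfl⟩
      exact ⟨(inc_smul H hS k y ω).2 h1, (inc_smul H hS' k y ω').2 h2⟩
  rw [this, Set.ncard_image_of_injective _ (MulAction.injective k)]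

end

theorem orbits_le_two {G Ω : Type*} [Group G] [Finite G] [MulAction G Ω] [Finite Ω]
    (h2 : MulAction.IsMultiplyPretransitive G Ω 2) (H : Subgroup G) (hidx : H.index = Nat.card Ω)
    (a₁ a₂ a₃ : Ω) (h12 : a₂ ∉ orbit H a₁) (h13 : a₃ ∉ orbit H a₁) (h23 : a₃ ∉ orbit H a₂) :
    False := by
  classical
  have : Fintype Ω := Fintype.ofFinite Ω
  have : Fintype (G ⧸ H) := Fintype.ofFinite _
  have htr : IsPretransitive G Ω := isPretransitive_of_is_two_pretransitive
  have h2' : ∀ {a b c d : Ω}, a ≠ b → c ≠ d → ∃ g : G, g • a = c ∧ g • b = d :=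
    is_two_pretransitive_iff.1 h2
  have hcard : Fintype.card (G ⧸ H) = Fintype.card Ω := by
    rw [← Nat.card_eq_fintype_card, ← Nat.card_eq_fintype_card, ← hidx]; rfl
  -- the two orbits
  have hinv : ∀ a : Ω, ∀ h ∈ H, ∀ s ∈ orbit H a, h • s ∈ orbit H a := by
    rintro a h hh s ⟨k, rfl⟩
    exact ⟨⟨h, hh⟩ * k, by show (⟨h, hh⟩ * k : H) • a = h • (k • a); rw [mul_smul]; rfl⟩
  have hdisj : ∀ x : G ⧸ H, ∀ ω : Ω, ¬ (inc H (orbit H a₁) x ω ∧ inc H (orbit H a₂) x ω) := by
    rintro x ω ⟨h1, h2⟩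
    apply h12
    have h3 : orbit H ((x.out)⁻¹ • ω) = orbit H a₁ := orbit_eq_iff.2 h1
    have h4 : orbit H ((x.out)⁻¹ • ω) = orbit H a₂ := orbit_eq_iff.2 h2
    rw [← h3, h4]
    exact mem_orbit_self a₂
  set A : G ⧸ H → Ω → ℚ := fun x ω => if inc H (orbit H a₁) x ω then 1 else 0 with hA
  set B : G ⧸ H → Ω → ℚ := fun x ω => if inc H (orbit H a₂) x ω then 1 else 0 with hB
  -- sums are counts
  have hsum : ∀ (S S' : Set Ω) (ω ω' : Ω),
      ∑ x : G ⧸ H, (if inc H S x ω then (1 : ℚ) else 0) * (if inc H S' x ω' then 1 else 0)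
        = (cnt H S S' ω ω' : ℚ) := by
    intro S S' ω ω'
    have : ∀ x : G ⧸ H, (if inc H S x ω then (1 : ℚ) else 0) * (if inc H S' x ω' then 1 else 0)
        = if (inc H S x ω ∧ inc H S' x ω') then 1 else 0 := by
      intro x
      by_cases h1 : inc H S x ω <;> by_cases h2 : inc H S' x ω' <;> simp [h1, h2]
    simp_rw [this]
    rw [Finset.sum_boole]
    unfold cnt
    rw [Set.ncard_eq_toFinset_card']
    congr 2
    ext x
    simp
  -- constants
  have hne12 : a₁ ≠ a₂ := fun h => h12 (h ▸ mem_orbit_self a₁)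
  set α : ℚ := (cnt H (orbit H a₁) (orbit H a₁) a₁ a₁ : ℚ) with hα
  set β : ℚ := (cnt H (orbit H a₁) (orbit H a₁) a₁ a₂ : ℚ) with hβ
  set d : ℚ := (cnt H (orbit H a₁) (orbit H a₂) a₁ a₂ : ℚ) with hd
  have hdiag : ∀ (S S' : Set Ω), (∀ h ∈ H, ∀ s ∈ S, h • s ∈ S) → (∀ h ∈ H, ∀ s ∈ S', h • s ∈ S') →
      ∀ ω : Ω, cnt H S S' ω ω = cnt H S S' a₁ a₁ := by
    intro S S' hS hS' ω
    obtain ⟨k, rfl⟩ := htr.exists_smul_eq a₁ ω
    exact cnt_smul H hS hS' k a₁ a₁
  have hoff : ∀ (S S' : Set Ω), (∀ h ∈ H, ∀ s ∈ S, h • s ∈ S) → (∀ h ∈ H, ∀ s ∈ S', h • s ∈ S') →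
      ∀ ω ω' : Ω, ω ≠ ω' → cnt H S S' ω ω' = cnt H S S' a₁ a₂ := by
    intro S S' hS hS' ω ω' hne
    obtain ⟨k, rfl, rfl⟩ := h2' hne12 hne
    exact cnt_smul H hS hS' k a₁ a₂
  have hAA : ∀ ω ω', ∑ x, A x ω * A x ω' = if ω = ω' then α else β := by
    intro ω ω'
    rw [hsum]
    by_cases h : ω = ω'
    · rw [if_pos h, ← h, hdiag _ _ (hinv a₁) (hinv a₁)]
    · rw [if_neg h, hoff _ _ (hinv a₁) (hinv a₁) ω ω' h]
  have hAB : ∀ ω ω', ∑ x, A x ω * B x ω' = if ω = ω' then 0 else d := by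
    intro ω ω'
    rw [hsum]
    by_cases h : ω = ω'
    · rw [if_pos h, ← h]
      have : cnt H (orbit H a₁) (orbit H a₂) ω ω = 0 := by
        unfold cnt
        have : {x : G ⧸ H | inc H (orbit H a₁) x ω ∧ inc H (orbit H a₂) x ω} = ∅ := by
          ext x
          simp only [Set.mem_ofPred_eq, Set.mem_empty_iff_false, iff_false]
          exact hdisj x ω
        rw [this, Set.ncard_empty]
      rw [this, Nat.cast_zero]
    · rw [if_neg h, hoff _ _ (hinv a₁) (hinv a₂) ω ω' h]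
  have hA1 : ∀ ω, ∑ x, A x ω = α := by
    intro ω
    have : ∀ x, A x ω = A x ω * A x ω := by
      intro x
      simp only [hA]
      split_ifs <;> simp
    rw [Finset.sum_congr rfl (fun x _ => this x), hAA, if_pos rfl]
  -- α > β
  have h1mem : inc H (orbit H a₁) ((1 : G) : G ⧸ H) a₁ := by
    rw [inc_mk H (hinv a₁), inv_one, one_smul]; exact mem_orbit_self a₁
  have h1not : ¬ inc H (orbit H a₁) ((1 : G) : G ⧸ H) a₂ := by
    rw [inc_mk H (hinv a₁), inv_one, one_smul]; exact h12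
  have hαβ : β < α := by
    rw [hα, hβ, Nat.cast_lt]
    unfold cnt
    apply Set.ncard_lt_ncard _ (Set.toFinite _)
    constructor
    · rintro x ⟨hx1, _⟩
      exact ⟨hx1, hx1⟩
    · intro hsub
      have := hsub (⟨h1mem, h1mem⟩ : ((1 : G) : G ⧸ H) ∈
        {x : G ⧸ H | inc H (orbit H a₁) x a₁ ∧ inc H (orbit H a₁) x a₁})
      exact h1not this.2
  have hβ0 : 0 ≤ β := by rw [hβ]; positivity
  obtain ⟨c, e, hce⟩ := lin_core hcard A B α β d hαβ hβ0 hAA hAB hA1
  -- evaluate at (1, a₃) and (1, a₂)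
  have e3 := hce ((1 : G) : G ⧸ H) a₃
  have e2 := hce ((1 : G) : G ⧸ H) a₂
  have hA3 : A ((1 : G) : G ⧸ H) a₃ = 0 := by
    simp only [hA]
    rw [if_neg]
    rw [inc_mk H (hinv a₁), inv_one, one_smul]; exact h13
  have hB3 : B ((1 : G) : G ⧸ H) a₃ = 0 := by
    simp only [hB]
    rw [if_neg]
    rw [inc_mk H (hinv a₂), inv_one, one_smul]; exact h23
  have hA2 : A ((1 : G) : G ⧸ H) a₂ = 0 := by
    simp only [hA]
    rw [if_neg h1not]
  have hB2 : B ((1 : G) : G ⧸ H) a₂ = 1 := by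
    simp only [hB]
    rw [if_pos]
    rw [inc_mk H (hinv a₂), inv_one, one_smul]; exact mem_orbit_self a₂
  rw [hA3, hB3] at e3
  rw [hA2, hB2] at e2
  linarith

/-- Let G be a finite group acting faithfully and 2-transitively on a finite set Ω of size n, and let H be a subgroup of index n in G which is not transitive on Ω and fixes no point of Ω. Then H has exactly two orbits on Ω. -/
theorem result {G Ω : Type*} [Group G] [Finite G] [MulAction G Ω] [FaithfulSMul G Ω] [Finite Ω] (h2 : MulAction.IsMultiplyPretransitive G Ω 2) (H : Subgroup G) (hidx : H.index = Nat.card Ω) (hnt : ¬ MulAction.IsPretransitive H Ω) (hfix : ∀ a : Ω, ∃ h : H, h • a ≠ a) : Nat.card (MulAction.orbitRel.Quotient H Ω) = 2 := by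
  classical
  have hfinq : Finite (orbitRel.Quotient H Ω) := inferInstance
  have hne : Nonempty Ω := by
    have h0 : 0 < Nat.card Ω := by
      rw [← hidx]; exact Nat.pos_of_ne_zero Subgroup.index_ne_zero_of_finite
    exact (Nat.card_pos_iff.1 h0).1
  -- at least two
  have hge : 2 ≤ Nat.card (orbitRel.Quotient H Ω) := by
    by_contra hlt
    apply hnt
    have hpos : 0 < Nat.card (orbitRel.Quotient H Ω) := by
      have : Nonempty (orbitRel.Quotient H Ω) := ⟨Quotient.mk'' (Classical.arbitrary Ω)⟩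
      exact Nat.card_pos
    have h1 : Nat.card (orbitRel.Quotient H Ω) = 1 := by omega
    rw [pretransitive_iff_subsingleton_quotient]
    exact (Nat.card_eq_one_iff_unique.1 h1).1
  -- at most two
  by_contra hne2
  have h3 : 2 < Nat.card (orbitRel.Quotient H Ω) := by omega
  have : Fintype (orbitRel.Quotient H Ω) := Fintype.ofFinite _
  rw [Nat.card_eq_fintype_card, Fintype.two_lt_card_iff] at h3
  obtain ⟨q₁, q₂, q₃, hq12, hq13, hq23⟩ := h3
  induction q₁ using Quotient.inductionOn' with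
  | h a₁ =>
  induction q₂ using Quotient.inductionOn' with
  | h a₂ =>
  induction q₃ using Quotient.inductionOn' with
  | h a₃ =>
  apply orbits_le_two h2 H hidx a₁ a₂ a₃
  · intro h
    apply hq12
    exact (Quotient.sound' h).symm
  · intro h
    apply hq13
    exact (Quotient.sound' h).symm
  · intro h
    apply hq23
    exact (Quotient.sound' h).symm

end Cfsg.Agent.S3704
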