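import Cfsg.Statements.S3733
import Cfsg.Agent.Lib.Lead.Avg
import Cfsg.Agent.Lib.Lead.ConjAut

set_option autoImplicit false
open Cfsg

namespace Cfsg.Agent.S3733

open Cfsg.Agent.Lib.Lead.Avg Cfsg.Agent.Lib.Lead.ConjAut
open scoped IsMulCommutative



/-- Let A and V be subgroups of a finite group with V abelian and nontrivial and A normalizing V. Suppose a nonempty finite family of proper subgroups of A partitions A: every non-identity element of A lies in exactly one member. If the number of members minus one is coprime to the order of V, then some member B of the family has a non-identity fixed point on V, that is V ∩ C(B) ≠ 1. -/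
theorem result {G : Type*} [Group G] [Finite G] (A V : Subgroup G) (hVab : IsMulCommutative V) (hV : V ≠ ⊥) (hAV : A ≤ Subgroup.normalizer (V : Set G)) (𝒜 : Finset (Subgroup G)) (hne : 𝒜.Nonempty) (hprop : ∀ B ∈ 𝒜, B < A) (hpart : ∀ a ∈ A, a ≠ 1 → ∃! B, B ∈ 𝒜 ∧ a ∈ B) (hk : (𝒜.card - 1).Coprime (Nat.card V)) : ∃ B ∈ 𝒜, V ⊓ Subgroup.centralizer (B : Set G) ≠ ⊥ := by
  classical
  haveI := hVab
  by_contra hcon
  push Not at hcon
  haveI : Fintype ↥A := Fintype.ofFinite _
  set φ : ↥A →* MulAut ↥V := (conjAut V).comp (Subgroup.inclusion hAV) with hφ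
  have hφv : ∀ (a : ↥A) (v : ↥V), ((φ a v : ↥V) : G) = (a : G) * v * (a : G)⁻¹ := fun a v => rfl
  -- an element of `V` fixed by all of `B ∈ 𝒜` is trivial
  have hfix : ∀ B ∈ 𝒜, ∀ w : ↥V, (∀ b : ↥A, (b : G) ∈ B → φ b w = w) → w = 1 := by
    intro B hB w hw
    have h3 : (w : G) ∈ Subgroup.centralizer (B : Set G) := by
      rw [Subgroup.mem_centralizer_iff]
      intro b hb
      have hbA : b ∈ A := (hprop B hB).le hb
      have := congrArg Subtype.val (hw ⟨b, hbA⟩ hb)
      rw [hφv] at this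
      have this' : b * (w : G) * b⁻¹ = (w : G) := this
      calc b * (w : G) = (b * (w : G) * b⁻¹) * b := by group
        _ = (w : G) * b := by rw [this']
    have h2 : (w : G) ∈ V ⊓ Subgroup.centralizer (B : Set G) := ⟨w.2, h3⟩
    rw [hcon B hB, Subgroup.mem_bot] at h2
    exact Subtype.ext h2
  set B' : ↥𝒜 → Subgroup ↥A := fun i => (i : Subgroup G).subgroupOf A with hB'
  have hpart' : ∀ a : ↥A, a ≠ 1 → ∃! i, a ∈ B' i := by
    intro a ha
    obtain ⟨B, ⟨hB, haB⟩, huniq⟩ := hpart (a : G) a.2 (fun h => ha (Subtype.ext h))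
    refine ⟨⟨B, hB⟩, Subgroup.mem_subgroupOf.2 haB, ?_⟩
    intro i hi
    apply Subtype.ext
    exact huniq i.1 ⟨i.2, Subgroup.mem_subgroupOf.1 hi⟩
  have hnorm : ∀ (i : ↥𝒜) (w : ↥V), normOn φ (B' i) w = 1 := by
    intro i w
    apply hfix i.1 i.2
    intro b hb
    exact map_normOn φ (B' i) (Subgroup.mem_subgroupOf.2 hb) w
  obtain ⟨B₀, hB₀⟩ := hne
  have havg : ∀ w : ↥V, avg φ w = 1 := by
    intro w
    apply hfix B₀ hB₀
    intro b _
    exact map_avg φ b w
  have hcard : Fintype.card ↥𝒜 = 𝒜.card := Fintype.card_coe 𝒜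
  have hpos : 0 < 𝒜.card := Finset.card_pos.2 ⟨B₀, hB₀⟩
  have hall : ∀ w : ↥V, w = 1 := by
    intro w
    have key := partition_identity φ B' hpart' w
    rw [Finset.prod_congr rfl (fun i _ => hnorm i w), Finset.prod_const_one, one_mul, havg,
      mul_one, hcard] at key
    obtain ⟨k, hk'⟩ := Nat.exists_eq_succ_of_ne_zero hpos.ne'
    rw [hk', pow_succ] at key
    have h1 : w ^ k = 1 := by
      have : 1 * w = w ^ k * w := by rw [one_mul]; exact key
      exact (mul_right_cancel this).symm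
    have hk2 : k = 𝒜.card - 1 := by omega
    have d1 : orderOf w ∣ 𝒜.card - 1 := by rw [← hk2]; exact orderOf_dvd_of_pow_eq_one h1
    have d2 : orderOf w ∣ Nat.card ↥V := orderOf_dvd_natCard w
    exact orderOf_eq_one_iff.1 (Nat.Coprime.eq_one_of_dvd (hk.coprime_dvd_left d1) d2)
  apply hV
  rw [eq_bot_iff]
  intro x hx
  have := hall ⟨x, hx⟩
  rw [Subgroup.mem_bot]
  exact congrArg Subtype.val this

end Cfsg.Agent.S3733
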