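import Mathlib
import Cfsg.Statements.S3738
import Cfsg.Agent.H2.FpfThree

set_option autoImplicit false
open Cfsg

namespace Cfsg.Agent.S3738

/-- Let d be a non-identity 3-element of a finite group and P a 2-subgroup normalized by d on which ⟨d⟩ acts faithfully (no non-identity power of d centralizes P) and without non-identity fixed points (C_P(d) = 1). If every abelian subgroup of P has 2-rank at most 2, then d has order 3. -/
theorem result {X : Type*} [Group X] [Finite X] (d : X) (n : ℕ) (hn : 1 ≤ n) (hd : orderOf d = 3 ^ n) (P : Subgroup X) (hP : IsPGroup 2 P) (hdP : d ∈ Subgroup.normalizer (P : Set X)) (hfaith : Subgroup.zpowers d ⊓ Subgroup.centralizer (P : Set X) = ⊥) (hfpf : P ⊓ Subgroup.centralizer {d} = ⊥) (hrank : ∀ V : Subgroup X, V ≤ P → IsMulCommutative V → Cfsg.PRankLE 2 2 V) : orderOf d = 3 := by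
  by_contra hne
  have hn2 : 2 ≤ n := by
    by_contra h
    have h1 : n = 1 := by omega
    rw [h1, pow_one] at hd
    exact hne hd
  obtain ⟨e, hed⟩ : ∃ e : X, e = d ^ (3 ^ (n - 1)) := ⟨_, rfl⟩
  have he1 : e ≠ 1 := by
    intro h
    rw [hed] at h
    have h2 := orderOf_dvd_of_pow_eq_one h
    rw [hd] at h2
    have h3 := Nat.le_of_dvd (by positivity) h2
    have h4 : 3 ^ (n - 1) < 3 ^ n := Nat.pow_lt_pow_right (by norm_num) (by omega)
    omega
  have heP : e ∉ Subgroup.centralizer (P : Set X) := by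
    intro h
    have h2 : e ∈ Subgroup.zpowers d ⊓ Subgroup.centralizer (P : Set X) :=
      ⟨hed ▸ Subgroup.npow_mem_zpowers d _, h⟩
    rw [hfaith, Subgroup.mem_bot] at h2
    exact he1 h2
  have hS : ({Q : Subgroup X | Q ≤ P ∧ d ∈ Subgroup.normalizer (Q : Set X) ∧
      e ∉ Subgroup.centralizer (Q : Set X)}).Nonempty := ⟨P, le_rfl, hdP, heP⟩
  obtain ⟨Q, hQS, hQmin⟩ := WellFounded.has_min
    (measure (fun Q : Subgroup X => Nat.card Q)).wf _ hS
  obtain ⟨hQP, hdQ, heQ⟩ := hQS
  have hδapp : ∀ (k : ℕ) (q : Q),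
      ((((Q.normalizerMonoidHom ⟨d, hdQ⟩) ^ k) q : Q) : X) = d ^ k * q * (d ^ k)⁻¹ := by
    intro k q
    rw [← map_pow]
    rfl
  have hQ2 : IsPGroup 2 Q := hP.to_le hQP
  have hQnt : Nontrivial Q := by
    rw [Subgroup.nontrivial_iff_ne_bot]
    intro hb
    apply heQ
    rw [hb, Subgroup.mem_centralizer_iff]
    intro h hh
    rw [SetLike.mem_coe, Subgroup.mem_bot] at hh
    rw [hh, one_mul, mul_one]
  obtain ⟨E, hEc, hE2, hE8⟩ := Cfsg.Agent.H2.FpfThree.exists_elemAb hQ2
    (Q.normalizerMonoidHom ⟨d, hdQ⟩) n hn2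
    (by
      ext q
      rw [hδapp, ← hd, pow_orderOf_eq_one, one_mul, inv_one, mul_one]
      rfl)
    (by
      intro g hg
      have h1 := congrArg Subtype.val hg
      have h2 := hδapp 1 g
      rw [pow_one, pow_one] at h2
      rw [h2] at h1
      have h3 : (g : X) ∈ P ⊓ Subgroup.centralizer {d} := by
        refine Subgroup.mem_inf.mpr ⟨hQP g.2, ?_⟩
        rw [Subgroup.mem_centralizer_iff]
        intro y hy
        rw [Set.mem_singleton_iff] at hy
        rw [hy]
        exact mul_inv_eq_iff_eq_mul.mp h1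
      rw [hfpf, Subgroup.mem_bot] at h3
      exact Subtype.ext h3)
    (by
      by_contra hall
      apply heQ
      rw [Subgroup.mem_centralizer_iff]
      intro h hh
      have h1 : ((Q.normalizerMonoidHom ⟨d, hdQ⟩) ^ (3 ^ (n - 1))) ⟨h, hh⟩ = ⟨h, hh⟩ := by
        by_contra hx
        exact hall ⟨_, hx⟩
      have h2 := congrArg Subtype.val h1
      rw [hδapp, ← hed] at h2
      exact (mul_inv_eq_iff_eq_mul.mp h2).symm)
    (by
      intro K hK hKinv k hk
      have hKP : K.map Q.subtype ≤ P := by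
        rintro x ⟨y, _, rfl⟩
        exact hQP y.2
      have hdK : d ∈ Subgroup.normalizer ((K.map Q.subtype : Subgroup X) : Set X) := by
        apply Subgroup.mem_normalizer_fintype
        rintro x ⟨y, hy, rfl⟩
        refine ⟨(Q.normalizerMonoidHom ⟨d, hdQ⟩) y, hKinv y hy, ?_⟩
        have := hδapp 1 y
        rw [pow_one, pow_one] at this
        exact this
      have hcard : Nat.card (K.map Q.subtype) < Nat.card Q := by
        rw [Subgroup.card_map_of_injective Q.subtype_injective]
        have h1 := Subgroup.card_le_card_group K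
        have h2 : Nat.card K ≠ Nat.card Q := fun h => hK ((Subgroup.card_eq_iff_eq_top K).mp h)
        omega
      have heK : e ∈ Subgroup.centralizer ((K.map Q.subtype : Subgroup X) : Set X) := by
        by_contra hnot
        exact hQmin (K.map Q.subtype) ⟨hKP, hdK, hnot⟩ hcard
      apply Subtype.ext
      rw [hδapp, ← hed]
      rw [Subgroup.mem_centralizer_iff] at heK
      have := heK k.1 ⟨k, hk, rfl⟩
      exact mul_inv_eq_iff_eq_mul.mpr this.symm)
  have hVP : E.map Q.subtype ≤ P := by
    rintro x ⟨y, _, rfl⟩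
    exact hQP y.2
  have hVc : IsMulCommutative (E.map Q.subtype) := inferInstance
  have hr := hrank (E.map Q.subtype) hVP hVc ⊤
    ⟨⟨fun a b => Subtype.ext (hVc.is_comm.comm a.1 b.1)⟩⟩
    (by
      intro a _
      obtain ⟨y, hy, hya⟩ := a.2
      apply Subtype.ext
      show (a : X) ^ 2 = 1
      rw [← hya]
      have := hE2 y hy
      exact congrArg (fun z : Q => (z : X)) this)
  rw [Subgroup.card_top, Subgroup.card_map_of_injective Q.subtype_injective] at hr
  norm_num at hr
  omega

end Cfsg.Agent.S3738
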