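import Cfsg.Statements.S3740
import Mathlib
import Cfsg.Agent.H1.QuadThree
import Cfsg.Agent.S2427
import Cfsg.Agent.H1.SL2Act

set_option autoImplicit false
open Cfsg

namespace Cfsg.Agent.S3740

set_option autoImplicit false
set_option linter.style.haveILetI false
set_option linter.unusedVariables false
set_option linter.unusedSectionVars false
open scoped commutatorElement Pointwise
open H1

/-- Let F be a finite field of odd characteristic p and let a be a p-element of SL₂(F) normalizing a subgroup R of order prime to p with [R, a] ≠ 1. Then p = 3, R is a quaternion group of order 8, and R⟨a⟩ is isomorphic to SL₂(3). -/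
theorem result (F : Type) [Field F] [Fintype F] {p : ℕ} [Fact p.Prime] [CharP F p] (hp : p ≠ 2) (a : Matrix.SpecialLinearGroup (Fin 2) F) (ha : IsPGroup p ↥(Subgroup.zpowers a)) (R : Subgroup (Matrix.SpecialLinearGroup (Fin 2) F)) (hR : (Nat.card R).Coprime p) (haR : a ∈ Subgroup.normalizer (R : Set (Matrix.SpecialLinearGroup (Fin 2) F))) (hnt : ⁅R, Subgroup.zpowers a⁆ ≠ ⊥) : p = 3 ∧ Nonempty (↥R ≃* QuaternionGroup 2) ∧ Nonempty (↥(R ⊔ Subgroup.zpowers a) ≃* Matrix.SpecialLinearGroup (Fin 2) (ZMod 3)) := by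
  classical
  haveI : Fact (Nat.Prime 2) := ⟨Nat.prime_two⟩
  have hpp : p.Prime := Fact.out
  -- `a ^ p = 1`
  have hap : a ^ p = 1 := by
    obtain ⟨k, hk⟩ := ha ⟨a, Subgroup.mem_zpowers a⟩
    have hk' : a ^ p ^ k = 1 := by simpa using congrArg Subtype.val hk
    obtain ⟨v, hv, hav⟩ := sl2_exists_fix_of_pow (p := p) a k hk'
    exact sl2_pow_char_of_fix a v hv hav
  -- `a` does not centralize `R`
  have hnc : ¬ ∀ s ∈ R, s * a = a * s := by
    intro h
    apply hnt
    rw [Subgroup.commutator_eq_bot_iff_le_centralizer]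
    intro s hs
    rw [Subgroup.mem_centralizer_iff]
    intro y hy
    obtain ⟨j, rfl⟩ := Subgroup.mem_zpowers_iff.mp hy
    have hc : Commute s a := h s hs
    exact ((hc.zpow_right j).eq).symm
  have ha1 : a ≠ 1 := by
    intro h
    apply hnc
    intro s hs
    rw [h, mul_one, one_mul]
  have hCR : Subgroup.zpowers a ≤ Subgroup.normalizer (R : Set (Matrix.SpecialLinearGroup (Fin 2) F)) := by
    rw [Subgroup.zpowers_le]; exact haR
  have hCcard := card_zpowers_dvd_prime a hap
  have hcop : (Nat.card ↥(Subgroup.zpowers a)).Coprime (Nat.card R) :=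
    Nat.Coprime.coprime_dvd_left hCcard hR.symm
  have hP1 := sl2_unique_involution (K := F) (p := p) hp
  have hP2 : ∀ Y : Subgroup (Matrix.SpecialLinearGroup (Fin 2) F), Odd (Nat.card Y) →
      ∀ U : Sylow p Y, (U : Subgroup Y).Normal := fun Y hY U => sl2_odd_sylow_normal hp Y hY U
  obtain ⟨L, hL⟩ : ∃ L, L = R ⊔ Subgroup.zpowers a := ⟨_, rfl⟩
  have hRL : R ≤ L := hL ▸ le_sup_left
  have haL : a ∈ L := hL ▸ Subgroup.mem_sup_right (Subgroup.mem_zpowers a)
  -- `p = 3`
  have hp3 : p = 3 := by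
    have hLN : L ≤ Subgroup.normalizer (R : Set (Matrix.SpecialLinearGroup (Fin 2) F)) := by
      rw [hL]; exact sup_le Subgroup.le_normalizer hCR
    haveI hRn : (R.subgroupOf L).Normal := (Subgroup.normal_subgroupOf_iff_le_normalizer hRL).mpr hLN
    have hcardR' : Nat.card ↥(R.subgroupOf L) = Nat.card R :=
      Nat.card_congr (Subgroup.subgroupOfEquivOfLe hRL).toEquiv
    apply p_eq_three_of_action hp (sl2_sub_unique_involution (p := p) hp L)
      (fun Y hY U => sl2_sub_odd_sylow_normal hp L Y hY U) (R.subgroupOf L) (by rw [hcardR']; exact hR)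
      (⟨a, haL⟩ : ↥L)
    · apply Subtype.ext
      rw [Subgroup.coe_pow, Subgroup.coe_one]
      exact hap
    · intro h
      apply hnc
      intro s hs
      have h1 := Subgroup.mem_centralizer_iff.mp h ⟨s, hRL hs⟩
        (by rw [SetLike.mem_coe, Subgroup.mem_subgroupOf]; exact hs)
      have h2 := congrArg Subtype.val h1
      simpa using h2
  -- centralizer elements have square one
  have hsq : ∀ s ∈ R, s * a = a * s → s ^ 2 = 1 := by
    intro s hs hcomm
    have h2 : s ^ Nat.card R = 1 := by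
      have h : (⟨s, hs⟩ : ↥R) ^ Nat.card R = 1 := pow_card_eq_one'
      have h' := congrArg Subtype.val h
      rwa [Subgroup.coe_pow, Subgroup.coe_one] at h' 
    exact sl2_sq_eq_one_of_commute (p := p) a s hap ha1 hcomm (Nat.card R) hR h2
  -- `R` is a `2`-group
  have hR2 : IsPGroup 2 ↥R := by
    have hcard : ∃ k, Nat.card ↥R = 2 ^ k := by
      refine ⟨_, Nat.eq_prime_pow_of_unique_prime_dvd Nat.card_pos.ne' ?_⟩
      intro r hr hrdvd
      by_contra hr2
      haveI : Fact r.Prime := ⟨hr⟩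
      have hrp : r ≠ p := by
        rintro rfl
        have := Nat.dvd_gcd hrdvd dvd_rfl
        rw [hR, Nat.dvd_one] at this
        exact hpp.one_lt.ne' this
      obtain ⟨P, -, hP⟩ := Cfsg.Agent.S0025.result (Subgroup.zpowers a) R hCR hcop (Or.inl inferInstance) r ⊥
        bot_le IsPGroup.of_bot (by rw [Subgroup.normalizer_eq_top]; exact le_top)
      have hAS : a ∈ Subgroup.normalizer (((P : Subgroup ↥R).map R.subtype : Subgroup _) : Set _) :=
        hP (Subgroup.mem_zpowers a)
      have hS : IsPGroup r ↥((P : Subgroup ↥R).map R.subtype) := P.isPGroup'.map _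
      have hcomm := comm_invariant_r_group_odd hp hr2 hrp hP2 _ hS a hap hAS
      have hbot : (P : Subgroup ↥R) = ⊥ := by
        rw [eq_bot_iff]
        intro s hs
        rw [Subgroup.mem_bot]
        have hs' : (s : Matrix.SpecialLinearGroup (Fin 2) F) ∈ (P : Subgroup ↥R).map R.subtype := ⟨s, hs, rfl⟩
        have h1 : (s : Matrix.SpecialLinearGroup (Fin 2) F) ^ 2 = 1 := hsq s s.2 (hcomm s hs')
        obtain ⟨k, hk⟩ := P.isPGroup' ⟨s, hs⟩
        have hk' : (s : Matrix.SpecialLinearGroup (Fin 2) F) ^ r ^ k = 1 := by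
          have := congrArg (fun x : ↥(P : Subgroup ↥R) => ((x : ↥R) : Matrix.SpecialLinearGroup (Fin 2) F)) hk
          simpa using this
        have h2 : orderOf (s : Matrix.SpecialLinearGroup (Fin 2) F) ∣ Nat.gcd 2 (r ^ k) :=
          Nat.dvd_gcd (orderOf_dvd_of_pow_eq_one h1) (orderOf_dvd_of_pow_eq_one hk')
        have h3 : Nat.gcd 2 (r ^ k) = 1 :=
          Nat.Coprime.pow_right k ((Nat.coprime_primes Nat.prime_two hr).mpr (Ne.symm hr2))
        rw [h3, Nat.dvd_one] at h2
        exact Subtype.ext (orderOf_eq_one_iff.mp h2)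
      exact P.ne_bot_of_dvd_card hrdvd hbot
    obtain ⟨k, hk⟩ := hcard
    exact IsPGroup.of_card hk
  have hAodd : Odd (orderOf a) := Odd.of_dvd_nat (hpp.odd_of_ne_two hp) (orderOf_dvd_of_pow_eq_one hap)
  have hfalse : (∀ y ∈ R, a * y * a⁻¹ = y) → False := by
    intro h
    apply hnc
    intro y hy
    have := h y hy
    calc y * a = (a * y * a⁻¹) * a := by rw [this]
      _ = a * y := by group
  have hAQ : ∀ q ∈ R, a * q * a⁻¹ ∈ R := fun q hq => (Subgroup.mem_normalizer_iff.mp haR q).mp hq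
  have hRord : ∀ q ∈ R, ∃ k : ℕ, q ^ (2 ^ k) = 1 := by
    intro q hq
    obtain ⟨k, hk⟩ := hR2 ⟨q, hq⟩
    exact ⟨k, by simpa using congrArg Subtype.val hk⟩
  rcases Cfsg.Agent.S0016.result 2 (G := ↥R) hR2 (unique_order_two_subgroup hP1 R) with hcyc | ⟨-, n, ⟨e⟩⟩
  · exfalso
    obtain ⟨c, hc⟩ := hcyc.exists_generator
    obtain ⟨k, hk⟩ : ∃ k : ℕ, orderOf (c : Matrix.SpecialLinearGroup (Fin 2) F) = 2 ^ k := by
      obtain ⟨k, hk⟩ := (IsPGroup.iff_orderOf.mp hR2) c
      exact ⟨k, by rw [← hk]; exact (Subgroup.orderOf_coe c)⟩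
    have hmemc : ∀ s ∈ R, s ∈ Subgroup.zpowers (c : Matrix.SpecialLinearGroup (Fin 2) F) := by
      intro s hs
      obtain ⟨j, hj⟩ := Subgroup.mem_zpowers_iff.mp (hc ⟨s, hs⟩)
      refine Subgroup.mem_zpowers_iff.mpr ⟨j, ?_⟩
      have := congrArg Subtype.val hj
      rwa [Subgroup.coe_zpow] at this
    have hn : a * (c : Matrix.SpecialLinearGroup (Fin 2) F) * a⁻¹ ∈
        Subgroup.zpowers (c : Matrix.SpecialLinearGroup (Fin 2) F) := hmemc _ (hAQ c c.2)
    have h1 := Cfsg.Agent.Lead.QSyl.odd_centralizes_cyclic (c : Matrix.SpecialLinearGroup (Fin 2) F) a k hk hAodd hn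
    apply hfalse
    intro y hy
    obtain ⟨l, rfl⟩ := Subgroup.mem_zpowers_iff.mp (hmemc y hy)
    rw [← conj_zpow, h1]
  · obtain ⟨t, htT, hto, hout, hidx⟩ := Cfsg.Agent.Lead.QSyl.quat_structure R n e
    have hn1 : n = 1 := by
      by_contra hn1
      apply hfalse
      have hmem : a * t * a⁻¹ ∈ Subgroup.zpowers t := by
        by_contra hx
        obtain ⟨hxx, -⟩ := hout _ (hAQ t htT) hx
        have hox : orderOf (a * t * a⁻¹) = 2 ^ (n + 1) := by
          rw [← hto, ← MulAut.conj_apply, MulEquiv.orderOf_eq]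
        have h4 : (a * t * a⁻¹) ^ 4 = 1 := by
          have h : (a * t * a⁻¹) ^ 4 = (a * t * a⁻¹ * (a * t * a⁻¹)) * (a * t * a⁻¹ * (a * t * a⁻¹)) := by
            rw [← pow_two, ← pow_two, ← pow_mul]
          rw [h, hxx, ← pow_add, ← two_mul, ← pow_succ', ← hto]
          exact pow_orderOf_eq_one t
        have h5 : 2 ^ (n + 1) ∣ 2 ^ 2 := by
          rw [← hox]
          exact orderOf_dvd_of_pow_eq_one h4
        have h6 : n + 1 ≤ 2 := (Nat.pow_dvd_pow_iff_le_right (by norm_num)).mp h5
        have hn0 : n = 0 := by omega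
        subst hn0
        have h7 : (a * t * a⁻¹) * (a * t * a⁻¹) = 1 := by
          rw [← pow_two]
          have := pow_orderOf_eq_one (a * t * a⁻¹)
          rw [hox] at this
          simpa using this
        rw [hxx] at h7
        have h8 : t = 1 := by simpa using h7
        rw [h8, orderOf_one] at hto
        norm_num at hto
      have hcent := Cfsg.Agent.Lead.QSyl.odd_centralizes_cyclic t a (n + 1) hto hAodd hmem
      apply Cfsg.Agent.Lead.QSyl.odd_centralizes_index_two R (Subgroup.zpowers t) hidx a hAQ _ hAodd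
      · intro d hd
        exact hRord d ((Subgroup.zpowers_le.mpr htT) hd)
      · intro d hd
        obtain ⟨l, rfl⟩ := Subgroup.mem_zpowers_iff.mp hd
        rw [← conj_zpow, hcent]
    subst hn1
    have eR : ↥R ≃* QuaternionGroup 2 := e
    refine ⟨hp3, ⟨eR⟩, ?_⟩
    have hcardR : Nat.card ↥R = 8 := by
      rw [Nat.card_congr eR.toEquiv, Nat.card_eq_fintype_card, QuaternionGroup.card]
    have hcardC : Nat.card ↥(Subgroup.zpowers a) = 3 := by
      rw [Nat.card_zpowers, orderOf_eq_prime hap ha1, hp3]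
    have hcardL : Nat.card ↥(R ⊔ Subgroup.zpowers a) = 24 := by
      rw [card_sup_of_le_normalizer_coprime R (Subgroup.zpowers a) hCR hcop.symm, hcardR, hcardC]
    rcases comm_or_section_of_quat hp R hR2 1 e a hap haR with hcomm | ⟨H, K', hK, ⟨e'⟩⟩
    · exact absurd hcomm hnc
    · haveI := hK
      exact mulEquiv_of_section_card H K' e' (by rw [hcardL, Cfsg.Agent.S2427.result.1])

end Cfsg.Agent.S3740
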