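import Cfsg.Statements.S3744
import Mathlib
import Cfsg.Agent.H1.PSolvableHall

set_option autoImplicit false
open Cfsg

namespace Cfsg.Agent.S3744

set_option autoImplicit false
open scoped Pointwise commutatorElement
open Cfsg

/-- A finite p-soluble group has a p-complement, all its p-complements are conjugate, and every subgroup of order prime to p lies in one of them. Here a p-complement is a subgroup of order prime to p whose index is a power of p. -/
theorem result {G : Type*} [Group G] [Finite G] {p : ℕ} [Fact p.Prime] (hG : Cfsg.IsPSolvable p G) : (∃ H : Subgroup G, (Nat.card H).Coprime p ∧ ∃ n : ℕ, H.index = p ^ n) ∧ (∀ H₁ H₂ : Subgroup G, (Nat.card H₁).Coprime p → (∃ n : ℕ, H₁.index = p ^ n) → (Nat.card H₂).Coprime p → (∃ n : ℕ, H₂.index = p ^ n) → ∃ g : G, H₂ = H₁.map (MulAut.conj g).toMonoidHom) ∧ (∀ U : Subgroup G, (Nat.card U).Coprime p → ∃ H : Subgroup G, (Nat.card H).Coprime p ∧ (∃ n : ℕ, H.index = p ^ n) ∧ ∃ g : G, U.map (MulAut.conj g).toMonoidHom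 ≤ H) := by
  obtain ⟨⟨H, hHc, hHi⟩, hD⟩ := Cfsg.Agent.H1.pcomp_aux p _ G rfl hG
  refine ⟨⟨H, hHc, hHi⟩, ?_, ?_⟩
  · intro H₁ H₂ h1c h1i h2c h2i
    obtain ⟨g, hg⟩ := hD H₁ H₂ h1c h1i h2c
    refine ⟨g, ?_⟩
    have hcard : Nat.card H₁ = Nat.card H₂ := by
      obtain ⟨n1, hn1⟩ := h1i
      obtain ⟨n2, hn2⟩ := h2i
      have e1 := H₁.card_mul_index
      have e2 := H₂.card_mul_index
      rw [hn1] at e1
      rw [hn2] at e2
      have hpp : (Fact.out : p.Prime) = Fact.out := rfl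
      have hd1 : Nat.card H₁ ∣ Nat.card H₂ := by
        have : Nat.card H₁ ∣ Nat.card H₂ * p ^ n2 := by rw [e2, ← e1]; exact dvd_mul_right _ _
        exact (Nat.Coprime.pow_right n2 h1c).dvd_of_dvd_mul_right this
      have hd2 : Nat.card H₂ ∣ Nat.card H₁ := by
        have : Nat.card H₂ ∣ Nat.card H₁ * p ^ n1 := by rw [e1, ← e2]; exact dvd_mul_right _ _
        exact (Nat.Coprime.pow_right n1 h2c).dvd_of_dvd_mul_right this
      exact Nat.dvd_antisymm hd1 hd2
    have := Subgroup.eq_of_le_of_card_ge hg (by rw [Cfsg.Agent.H1.card_conj_smul, hcard])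
    rw [this]; rfl
  · intro U hU
    obtain ⟨g, hg⟩ := hD H U hHc hHi hU
    refine ⟨H, hHc, hHi, g⁻¹, ?_⟩
    intro y hy
    obtain ⟨u, hu, rfl⟩ := Subgroup.mem_map.mp hy
    have := hg hu
    rw [Cfsg.Agent.H1.mem_conj_smul] at this
    simpa [MulAut.conj_apply] using this

end Cfsg.Agent.S3744
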