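import Cfsg.Statements.S3746
import Mathlib
import Cfsg.Agent.H2.Components
import Cfsg.Agent.H2.Quasisimple

set_option autoImplicit false
open Cfsg

namespace Cfsg.Agent.S3746

open scoped commutatorElement



/-- Let Z ≤ Z(G) be a central subgroup of a finite group G and E a subgroup of G containing Z whose image E/Z is a component of G/Z (subnormal and quasisimple). Then the derived subgroup [E, E] is a component of G. -/
theorem result {G : Type*} [Group G] [Finite G] (Z : Subgroup G) (hZ : Z ≤ Subgroup.center G) [Z.Normal] (E : Subgroup G) (hZE : Z ≤ E) (hE : Cfsg.IsComponent (E.map (QuotientGroup.mk' Z))) : Cfsg.IsComponent ⁅E, E⁆ := by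
  classical
  obtain ⟨hsub, hqs⟩ := hE
  have hker : (QuotientGroup.mk' Z).ker = Z := QuotientGroup.ker_mk' Z
  have hcomap : (E.map (QuotientGroup.mk' Z)).comap (QuotientGroup.mk' Z) = E := by
    rw [Subgroup.comap_map_eq, hker]; exact sup_eq_left.2 hZE
  have hEsub : E.IsSubnormal := by rw [← hcomap]; exact hsub.comap _
  have hDE : ⁅E, E⁆ ≤ E := Subgroup.commutator_le_self E
  have hDsub : (⁅E, E⁆ : Subgroup G).IsSubnormal := by
    rw [← Subgroup.map_subtype_commutator E]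
    exact (Subgroup.Normal.isSubnormal (inferInstance : (commutator ↥E).Normal)).trans' hEsub
  have hperf : ⁅E.map (QuotientGroup.mk' Z), E.map (QuotientGroup.mk' Z)⁆
      = E.map (QuotientGroup.mk' Z) := Cfsg.Agent.H2.quasisimple_commutator_eq hqs
  have hmapD : (⁅E, E⁆ : Subgroup G).map (QuotientGroup.mk' Z) = E.map (QuotientGroup.mk' Z) := by
    rw [Subgroup.map_commutator, hperf]
  have hEDZ : ⁅E, E⁆ ⊔ Z = E := by
    have := congrArg (Subgroup.comap (QuotientGroup.mk' Z)) hmapD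
    rw [Subgroup.comap_map_eq, hcomap, hker] at this
    exact this
  have hDperf : ⁅(⁅E, E⁆ : Subgroup G), ⁅E, E⁆⁆ = ⁅E, E⁆ := by
    apply le_antisymm (Subgroup.commutator_le_self _)
    calc ⁅E, E⁆ = ⁅⁅E, E⁆ ⊔ Z, ⁅E, E⁆ ⊔ Z⁆ := by rw [hEDZ]
      _ ≤ ⁅⁅E, E⁆ ⊔ Subgroup.center G, ⁅E, E⁆ ⊔ Subgroup.center G⁆ :=
          Subgroup.commutator_mono (sup_le_sup_left hZ _) (sup_le_sup_left hZ _)
      _ = ⁅(⁅E, E⁆ : Subgroup G), ⁅E, E⁆⁆ := Cfsg.Agent.H2.commutator_sup_center _ _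
  -- the preimage of the centre
  obtain ⟨W, hWdef⟩ : ∃ W : Subgroup G, W = E ⊓ (Subgroup.centralizer
      ((E.map (QuotientGroup.mk' Z) : Subgroup (G ⧸ Z)) : Set (G ⧸ Z))).comap (QuotientGroup.mk' Z) :=
    ⟨_, rfl⟩
  have hWZ : ⁅W, E⁆ ≤ Z := by
    rw [Subgroup.commutator_le]
    intro w hw e he
    rw [hWdef] at hw
    have hw2 := (Subgroup.mem_inf.1 hw).2
    rw [Subgroup.mem_comap, Subgroup.mem_centralizer_iff] at hw2
    have h1 := hw2 _ (Subgroup.mem_map_of_mem (QuotientGroup.mk' Z) he)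
    have h2 : ⁅(QuotientGroup.mk' Z) w, (QuotientGroup.mk' Z) e⁆ = 1 :=
      commutatorElement_eq_one_iff_mul_comm.2 h1.symm
    rw [← map_commutatorElement] at h2
    rw [← hker]
    exact h2
  have hZE0 : ⁅Z, E⁆ = ⊥ := by
    rw [Subgroup.commutator_eq_bot_iff_le_centralizer]
    exact hZ.trans (Subgroup.center_le_centralizer _)
  have h2 : ⁅⁅W, E⁆, E⁆ = ⊥ := by
    rw [eq_bot_iff, ← hZE0]
    exact Subgroup.commutator_mono hWZ le_rfl
  have h1 : ⁅⁅E, W⁆, E⁆ = ⊥ := by rw [Subgroup.commutator_comm E W]; exact h2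
  have h3 : ⁅⁅E, E⁆, W⁆ = ⊥ := Subgroup.commutator_commutator_eq_bot_of_rotate h1 h2
  have hcent : ⁅E, E⁆ ≤ Subgroup.centralizer (W : Set G) :=
    Subgroup.commutator_eq_bot_iff_le_centralizer.1 h3
  refine ⟨hDsub, Subgroup.isPerfect_iff.2 hDperf, ?_⟩
  let g : ↥(⁅E, E⁆ : Subgroup G) →* ↥(E.map (QuotientGroup.mk' Z)) :=
    ((QuotientGroup.mk' Z).subgroupMap E).comp (Subgroup.inclusion hDE)
  have hg_coe : ∀ (d : G) (hd : d ∈ ⁅E, E⁆), ((g ⟨d, hd⟩ : ↥(E.map (QuotientGroup.mk' Z))) : G ⧸ Z)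
      = (QuotientGroup.mk' Z) d := fun d hd => rfl
  have hg_surj : Function.Surjective g := by
    rintro ⟨q, hq⟩
    obtain ⟨e, he, rfl⟩ := hq
    have he' : e ∈ ⁅E, E⁆ ⊔ Z := by rw [hEDZ]; exact he
    obtain ⟨d, hd, z, hz, rfl⟩ := Subgroup.mem_sup_of_normal_right.1 he'
    refine ⟨⟨d, hd⟩, Subtype.ext ?_⟩
    rw [hg_coe]
    show (QuotientGroup.mk' Z) d = (QuotientGroup.mk' Z) (d * z)
    have hz1 : (QuotientGroup.mk' Z) z = 1 := by
      rw [← MonoidHom.mem_ker, hker]; exact hz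
    rw [map_mul, hz1, mul_one]
  let f : ↥(⁅E, E⁆ : Subgroup G) →*
      ↥(E.map (QuotientGroup.mk' Z)) ⧸ Subgroup.center ↥(E.map (QuotientGroup.mk' Z)) :=
    (QuotientGroup.mk' _).comp g
  have hf_surj : Function.Surjective f := (QuotientGroup.mk'_surjective _).comp hg_surj
  have hfker : f.ker = Subgroup.center ↥(⁅E, E⁆ : Subgroup G) := by
    ext ⟨d, hd⟩
    rw [MonoidHom.mem_ker]
    show (QuotientGroup.mk' _) (g ⟨d, hd⟩) = 1 ↔ _
    rw [← MonoidHom.mem_ker, QuotientGroup.ker_mk', Subgroup.mem_center_iff, Subgroup.mem_center_iff]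
    constructor
    · intro h
      rintro ⟨d', hd'⟩
      have hdW : d ∈ W := by
        rw [hWdef]
        refine Subgroup.mem_inf.2 ⟨hDE hd, ?_⟩
        rw [Subgroup.mem_comap, Subgroup.mem_centralizer_iff]
        intro q hq
        have := h ⟨q, hq⟩
        have := congrArg Subtype.val this
        simpa [hg_coe] using this
      have := (Subgroup.mem_centralizer_iff.1 (hcent hd')) d hdW
      exact Subtype.ext this.symm
    · intro h
      rintro ⟨q, hq⟩
      obtain ⟨e, he, rfl⟩ := hq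
      have he' : e ∈ ⁅E, E⁆ ⊔ Z := by rw [hEDZ]; exact he
      obtain ⟨d', hd', z, hz, rfl⟩ := Subgroup.mem_sup_of_normal_right.1 he'
      apply Subtype.ext
      show (QuotientGroup.mk' Z) (d' * z) * (QuotientGroup.mk' Z) d
        = (QuotientGroup.mk' Z) d * (QuotientGroup.mk' Z) (d' * z)
      rw [← map_mul, ← map_mul]
      congr 1
      have hzc : d * z = z * d := Subgroup.mem_center_iff.1 (hZ hz) d
      have hdd : d' * d = d * d' := by
        have := h ⟨d', hd'⟩
        exact congrArg Subtype.val this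
      calc d' * z * d = d' * (z * d) := by group
        _ = d' * (d * z) := by rw [hzc]
        _ = (d' * d) * z := by group
        _ = (d * d') * z := by rw [hdd]
        _ = d * (d' * z) := by group
  have e : ↥(⁅E, E⁆ : Subgroup G) ⧸ Subgroup.center ↥(⁅E, E⁆ : Subgroup G) ≃*
      ↥(E.map (QuotientGroup.mk' Z)) ⧸ Subgroup.center ↥(E.map (QuotientGroup.mk' Z)) :=
    (QuotientGroup.quotientMulEquivOfEq hfker.symm).trans
      (QuotientGroup.quotientKerEquivOfSurjective f hf_surj)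
  haveI := hqs.2
  exact e.isSimpleGroup

end Cfsg.Agent.S3746
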