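import Cfsg.Statements.S3747
import Mathlib
import Cfsg.Agent.H2.Layer

set_option autoImplicit false
open Cfsg

namespace Cfsg.Agent.S3747

open Cfsg.Agent.H2
open scoped commutatorElement

set_option linter.unusedVariables false

variable {G : Type*} [Group G]

/-- elements of the join of two elementwise commuting subgroups are products -/
theorem mem_sup_of_commute {A B : Subgroup G} (h : ∀ a ∈ A, ∀ b ∈ B, a * b = b * a) {x : G}
    (hx : x ∈ A ⊔ B) : ∃ a ∈ A, ∃ b ∈ B, x = a * b := by
  rw [Subgroup.sup_eq_closure] at hx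
  induction hx using Subgroup.closure_induction with
  | mem x hx =>
    rcases hx with hx | hx
    · exact ⟨x, hx, 1, B.one_mem, (mul_one x).symm⟩
    · exact ⟨1, A.one_mem, x, hx, (one_mul x).symm⟩
  | one => exact ⟨1, A.one_mem, 1, B.one_mem, (mul_one 1).symm⟩
  | mul x y _ _ hx hy =>
    obtain ⟨a, ha, b, hb, rfl⟩ := hx
    obtain ⟨a', ha', b', hb', rfl⟩ := hy
    refine ⟨a * a', A.mul_mem ha ha', b * b', B.mul_mem hb hb', ?_⟩
    have := h a' ha' b hb
    calc a * b * (a' * b') = a * (b * a') * b' := by group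
      _ = a * (a' * b) * b' := by rw [← this]
      _ = a * a' * (b * b') := by group
  | inv x _ hx =>
    obtain ⟨a, ha, b, hb, rfl⟩ := hx
    refine ⟨a⁻¹, A.inv_mem ha, b⁻¹, B.inv_mem hb, ?_⟩
    have := h a⁻¹ (A.inv_mem ha) b⁻¹ (B.inv_mem hb)
    rw [mul_inv_rev, this]

theorem eq_one_of_commute_all [Finite G] : ∀ (𝒮 : Finset (Subgroup G)),
    (∀ L ∈ 𝒮, Cfsg.IsComponent L) →
    (∀ L ∈ 𝒮, ∀ l ∈ L, (∀ x ∈ L, x * l = l * x) → l = 1) →
    ∀ y ∈ ⨆ L ∈ 𝒮, L, (∀ L ∈ 𝒮, ∀ x ∈ L, x * y = y * x) → y = 1 := by
  classical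
  intro 𝒮
  induction 𝒮 using Finset.induction_on with
  | empty =>
    intro _ _ y hy _
    simpa using hy
  | insert L 𝒮 hL ih =>
    intro hcomp hcf y hy hc
    rw [Finset.iSup_insert] at hy
    have hcomm : ∀ a ∈ L, ∀ b ∈ ⨆ L' ∈ 𝒮, L', a * b = b * a := by
      have hle : (⨆ L' ∈ 𝒮, L') ≤ Subgroup.centralizer (L : Set G) := by
        apply iSup₂_le
        intro L' hL'
        have hne : L' ≠ L := fun h => hL (h ▸ hL')
        have := components_commute (hcomp L' (Finset.mem_insert_of_mem hL'))
          (hcomp L (Finset.mem_insert_self _ _)) hne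
        exact Subgroup.commutator_eq_bot_iff_le_centralizer.1 this
      intro a ha b hb
      exact (Subgroup.mem_centralizer_iff.1 (hle hb)) a ha
    obtain ⟨l, hl, m, hm, rfl⟩ := mem_sup_of_commute hcomm hy
    have hl1 : l = 1 := by
      apply hcf L (Finset.mem_insert_self _ _) l hl
      intro x hx
      have h1 := hc L (Finset.mem_insert_self _ _) x hx
      have h2 := hcomm x hx m hm
      have : x * l * m = l * x * m := by
        calc x * l * m = x * (l * m) := by group
          _ = l * m * x := h1
          _ = l * (m * x) := by group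
          _ = l * (x * m) := by rw [h2]
          _ = l * x * m := by group
      exact mul_right_cancel this
    subst hl1
    rw [one_mul] at hc ⊢
    apply ih (fun L' hL' => hcomp L' (Finset.mem_insert_of_mem hL'))
      (fun L' hL' => hcf L' (Finset.mem_insert_of_mem hL')) m hm
    intro L' hL' x hx
    exact hc L' (Finset.mem_insert_of_mem hL') x hx

theorem part_a [Finite G] (K : Subgroup G) (hK : Cfsg.IsComponent K)
    (hZ : Subgroup.center ↥K = ⊥) :
    Subgroup.normalClosure (K : Set G) ≠ ⊥ ∧ ∀ N : Subgroup G, N.Normal →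
      N ≤ Subgroup.normalClosure (K : Set G) → N = ⊥ ∨ N = Subgroup.normalClosure (K : Set G) := by
  classical
  haveI : Fintype (Subgroup G) := Fintype.ofFinite _
  have hKM : K ≤ Subgroup.normalClosure (K : Set G) := Subgroup.le_normalClosure
  refine ⟨fun h => quasisimple_ne_bot hK.2 (le_bot_iff.1 (h ▸ hKM)), ?_⟩
  intro N hN hNM
  haveI := hN
  rcases component_le_or_commutator_eq_bot K N hK hN.isSubnormal with h | h
  · right
    exact le_antisymm hNM (Subgroup.normalClosure_le_normal h)
  · left
    obtain ⟨𝒮, h𝒮⟩ : ∃ 𝒮 : Finset (Subgroup G), 𝒮 = Finset.univ.filter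
        (fun L => Cfsg.IsComponent L ∧ ∀ l ∈ L, (∀ x ∈ L, x * l = l * x) → l = 1) := ⟨_, rfl⟩
    have hcomp : ∀ L ∈ 𝒮, Cfsg.IsComponent L := fun L hL => by
      rw [h𝒮] at hL; exact (Finset.mem_filter.1 hL).2.1
    have hcf : ∀ L ∈ 𝒮, ∀ l ∈ L, (∀ x ∈ L, x * l = l * x) → l = 1 := fun L hL => by
      rw [h𝒮] at hL; exact (Finset.mem_filter.1 hL).2.2
    have hconj : ∀ L ∈ 𝒮, ∀ g : G, L.map (MulAut.conj g).toMonoidHom ∈ 𝒮 := by
      intro L hL g
      rw [h𝒮]
      refine Finset.mem_filter.2 ⟨Finset.mem_univ _, component_conj (hcomp L hL) g, ?_⟩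
      rintro _ ⟨l, hl, rfl⟩ hc
      have : l = 1 := by
        apply hcf L hL l hl
        intro x hx
        have h1 := hc _ (Subgroup.mem_map_of_mem (MulAut.conj g).toMonoidHom hx)
        apply (MulAut.conj g).injective
        rw [map_mul, map_mul]
        exact h1
      rw [this, map_one]
    obtain ⟨E₀, hE₀⟩ : ∃ E₀ : Subgroup G, E₀ = ⨆ L ∈ 𝒮, L := ⟨_, rfl⟩
    have hE₀n : E₀.Normal := by
      constructor
      intro n hn g
      have h1 : (MulAut.conj g).toMonoidHom n ∈ E₀.map (MulAut.conj g).toMonoidHom :=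
        Subgroup.mem_map_of_mem _ hn
      have h2 : E₀.map (MulAut.conj g).toMonoidHom ≤ E₀ := by
        rw [hE₀, Subgroup.map_iSup]
        apply iSup_le; intro L
        rw [Subgroup.map_iSup]
        apply iSup_le; intro hL
        exact le_biSup (fun L => L) (hconj L hL g)
      exact h2 h1
    have hK𝒮 : K ∈ 𝒮 := by
      rw [h𝒮]
      refine Finset.mem_filter.2 ⟨Finset.mem_univ _, hK, ?_⟩
      intro l hl hc
      have : (⟨l, hl⟩ : ↥K) ∈ Subgroup.center ↥K := by
        rw [Subgroup.mem_center_iff]
        intro x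
        exact Subtype.ext (hc x x.2)
      rw [hZ, Subgroup.mem_bot] at this
      exact congrArg Subtype.val this
    have hME : Subgroup.normalClosure (K : Set G) ≤ E₀ := by
      apply Subgroup.normalClosure_le_normal
      rw [hE₀]
      exact le_biSup (fun L => L) hK𝒮
    have hKc : K ≤ Subgroup.centralizer (N : Set G) :=
      Subgroup.commutator_eq_bot_iff_le_centralizer.1 h
    have hMc : Subgroup.normalClosure (K : Set G) ≤ Subgroup.centralizer (N : Set G) :=
      Subgroup.normalClosure_le_normal hKc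
    have hNab : ∀ a ∈ N, ∀ b ∈ N, a * b = b * a := fun a ha b hb =>
      ((Subgroup.mem_centralizer_iff.1 (hMc (hNM ha))) b hb).symm
    rw [eq_bot_iff]
    intro y hy
    rw [Subgroup.mem_bot]
    have hyE : y ∈ ⨆ L ∈ 𝒮, L := by rw [← hE₀]; exact hME (hNM hy)
    apply eq_one_of_commute_all 𝒮 hcomp hcf y hyE
    intro L hL x hx
    rcases component_le_or_commutator_eq_bot L N (hcomp L hL) hN.isSubnormal with h' | h'
    · exfalso
      have hLab : ⁅L, L⁆ = ⊥ := by
        rw [Subgroup.commutator_eq_bot_iff_le_centralizer]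
        intro a ha
        rw [Subgroup.mem_centralizer_iff]
        intro b hb
        exact hNab b (h' hb) a (h' ha)
      have := quasisimple_commutator_eq (hcomp L hL).2
      rw [hLab] at this
      exact quasisimple_ne_bot (hcomp L hL).2 this.symm
    · have := Subgroup.commutator_eq_bot_iff_le_centralizer.1 h'
      exact ((Subgroup.mem_centralizer_iff.1 (this hx)) y hy).symm

theorem part_b [Finite G] (hF : Cfsg.fittingSubgroup G = ⊥) :
    sSup {N : Subgroup G | N ≠ ⊥ ∧ N.Normal ∧ ∀ N' : Subgroup G, N'.Normal → N' ≤ N →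
      N' = ⊥ ∨ N' = N} = Cfsg.layer G := by
  have hLn := layer_normal (G := G)
  have hFs : Cfsg.generalizedFittingSubgroup G = Cfsg.layer G := by
    unfold Cfsg.generalizedFittingSubgroup; rw [hF, sup_bot_eq]
  apply le_antisymm
  · apply sSup_le
    rintro N ⟨hN0, hNn, hmin⟩
    haveI := hNn
    have hinf : (N ⊓ Cfsg.layer G).Normal := inferInstance
    rcases hmin (N ⊓ Cfsg.layer G) hinf inf_le_left with h | h
    · exfalso
      have h1 : ⁅N, Cfsg.layer G⁆ = ⊥ := by
        rw [eq_bot_iff, ← h]; exact Subgroup.commutator_le_inf N (Cfsg.layer G)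
      have h2 : N ≤ Subgroup.centralizer (Cfsg.layer G : Set G) :=
        Subgroup.commutator_eq_bot_iff_le_centralizer.1 h1
      have h3 := centralizer_generalizedFittingSubgroup_le (G := G)
      rw [hFs] at h3
      have h4 : N ≤ N ⊓ Cfsg.layer G := le_inf le_rfl (h2.trans h3)
      rw [h] at h4
      exact hN0 (le_bot_iff.1 h4)
    · rw [← h]; exact inf_le_right
  · apply layer_le_iff.2
    intro K hK
    have hZK : Subgroup.center ↥K = ⊥ := by
      rw [eq_bot_iff]
      intro z hz
      rw [Subgroup.mem_bot]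
      have hz' : (z : G) ∈ (Subgroup.center (Cfsg.layer G)).map (Cfsg.layer G).subtype := by
        rw [mem_map_subtype_center_iff]
        refine ⟨component_le_layer hK z.2, ?_⟩
        have hle : Cfsg.layer G ≤ Subgroup.centralizer ({(z : G)} : Set G) := by
          apply layer_le_centralizer_of_forall
          intro L hL l hl
          rw [Subgroup.mem_centralizer_singleton_iff]
          by_cases hLK : L = K
          · rw [hLK] at hl
            have := Subgroup.mem_center_iff.1 hz ⟨l, hl⟩
            exact congrArg Subtype.val this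
          · have := components_commute hL hK hLK
            have hLc := Subgroup.commutator_eq_bot_iff_le_centralizer.1 this
            exact ((Subgroup.mem_centralizer_iff.1 (hLc hl)) z z.2).symm
        intro h hh
        have := hle hh
        rw [Subgroup.mem_centralizer_singleton_iff] at this
        exact this
      have := center_layer_le_fittingSubgroup hz'
      rw [hF, Subgroup.mem_bot] at this
      exact Subtype.ext this
    obtain ⟨hne, hmin⟩ := part_a K hK hZK
    exact le_trans Subgroup.le_normalClosure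
      (le_sSup ⟨hne, Subgroup.normalClosure_normal, hmin⟩)

/-- Let G be a finite group. (a) If K is a component of G with trivial centre, then the normal closure of K in G is a minimal normal subgroup of G. (b) If the Fitting subgroup of G is trivial, then the layer E(G) is generated by the minimal normal subgroups of G. -/
theorem result {G : Type*} [Group G] [Finite G] : (∀ K : Subgroup G, Cfsg.IsComponent K → Subgroup.center ↥K = ⊥ → (Subgroup.normalClosure (K : Set G) ≠ ⊥ ∧ ∀ N : Subgroup G, N.Normal → N ≤ Subgroup.normalClosure (K : Set G) → N = ⊥ ∨ N = Subgroup.normalClosure (K : Set G))) ∧ (Cfsg.fittingSubgroup G = ⊥ → sSup {N : Subgroup G | N ≠ ⊥ ∧ N.Normal ∧ ∀ N' : Subgroup G, N'.Normal → N' ≤ N → N' = ⊥ ∨ N' = N} = Cfsg.layer G) := by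
  exact ⟨fun K hK hZ => part_a K hK hZ, part_b⟩

end Cfsg.Agent.S3747
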