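import Cfsg.Statements.S3748
import Mathlib
import Cfsg.Agent.Lib.Lead.Subnormal2
import Cfsg.Agent.H1.Cores

set_option autoImplicit false
open Cfsg

namespace Cfsg.Agent.S3748

open scoped Pointwise

open Cfsg.Agent.Lib.Lead



/-- Call a proper subgroup M of G primitive when M = N_G(N) for every non-trivial normal subgroup N of M. If M is a primitive subgroup of the finite group G, then no non-trivial subnormal subgroup of G is contained in M; in particular M ∩ F(G) = 1. -/
theorem result {G : Type*} [Group G] [Finite G] (M : Subgroup G) (hM : M ≠ ⊤) (hprim : ∀ N : Subgroup G, N ≤ M → M ≤ Subgroup.normalizer (N : Set G) → N ≠ ⊥ → Subgroup.normalizer (N : Set G) = M) : (∀ L : Subgroup G, L.IsSubnormal → L ≤ M → L = ⊥) ∧ M ⊓ Cfsg.fittingSubgroup G = ⊥ := by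
  have hA : ∀ L : Subgroup G, L.IsSubnormal → L ≤ M → L = ⊥ := by
    set T : Set (Subgroup G) := {L | L.IsSubnormal ∧ L ≤ M} with hT
    have hLs : (sSup T).IsSubnormal := Subnormal.sSup_isSubnormal T (fun U hU => hU.1)
    have hLM : sSup T ≤ M := sSup_le (fun U hU => hU.2)
    have hconj : ∀ x : G, MulAut.conj x • sSup T ≤ M → MulAut.conj x • sSup T ≤ sSup T := by
      intro x hx
      exact le_sSup ⟨hLs.smul _, hx⟩
    have hMn : M ≤ Subgroup.normalizer ((sSup T : Subgroup G) : Set G) := by
      intro m hm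
      apply Subnormal.mem_normalizer_of_conj_smul_le
      apply hconj
      intro z hz
      have hz' := (Subnormal.mem_conj_smul _ _ _).mp hz
      have := M.mul_mem (M.mul_mem hm (hLM hz')) (M.inv_mem hm)
      have e : m * (m⁻¹ * z * m) * m⁻¹ = z := by group
      rwa [e] at this
    have hbot : sSup T = ⊥ := by
      by_contra hne
      have hN := hprim _ hLM hMn hne
      have hnn : ¬ (sSup T).Normal := by
        intro h
        rw [Subgroup.normalizer_eq_top_iff.mpr h] at hN
        exact hM hN.symm
      obtain ⟨x, hx1, hx2⟩ := Subnormal.exists_conj_le_normalizer hLs hnn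
      rw [hN] at hx2
      exact hx1 (Subnormal.conj_smul_eq_of_le x _ (hconj x hx2))
    intro L hL hLM'
    rw [eq_bot_iff, ← hbot]
    exact le_sSup ⟨hL, hLM'⟩
  refine ⟨hA, ?_⟩
  apply hA _ _ inf_le_left
  haveI : Group.IsNilpotent ↥(Cfsg.fittingSubgroup G) := Cfsg.Agent.H1.fittingSubgroup_nilpotent
  have h1 : ((M ⊓ Cfsg.fittingSubgroup G).subgroupOf (Cfsg.fittingSubgroup G)).IsSubnormal :=
    Subnormal.isSubnormal_of_isNilpotent _
  exact Subgroup.IsSubnormal.trans inf_le_right h1
    (Cfsg.Agent.H1.fittingSubgroup_normal (G := G)).isSubnormal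

end Cfsg.Agent.S3748
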