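import Cfsg.Statements.S3753
import Mathlib
import Cfsg.Agent.H1.QuadStable
import Cfsg.Agent.Lib.Helper7.QuadLin3
import Cfsg.Agent.Lib.Helper7.QuadQdC
import Cfsg.Agent.Lib.Lead.KInf16
import Cfsg.Agent.S1983
import Cfsg.Agent.H1.PrimPairD

set_option autoImplicit false
open Cfsg

namespace Cfsg.Agent.S3753

section

open scoped commutatorElement Pointwise

universe u

section stab
variable {p : ℕ} [Fact p.Prime]

theorem abSyl_quot {X : Type u} [Group X] [Finite X]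
    (hab : ∀ T : Sylow 2 X, IsMulCommutative ↥(T : Subgroup X)) (N : Subgroup X) [N.Normal] :
    ∀ T : Sylow 2 (X ⧸ N), IsMulCommutative ↥(T : Subgroup (X ⧸ N)) := by
  haveI : Fact (Nat.Prime 2) := ⟨Nat.prime_two⟩
  intro Tq
  obtain ⟨T, hT⟩ := Sylow.mapSurjective_surjective (QuotientGroup.mk'_surjective N) 2 Tq
  rw [← hT, Sylow.coe_mapSurjective]
  haveI := hab T
  exact Subgroup.map_isMulCommutative _ _

theorem abSyl_sub {X : Type u} [Group X] [Finite X]
    (hab : ∀ T : Sylow 2 X, IsMulCommutative ↥(T : Subgroup X)) (K : Subgroup X) :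
    ∀ T : Sylow 2 ↥K, IsMulCommutative ↥(T : Subgroup ↥K) := by
  haveI : Fact (Nat.Prime 2) := ⟨Nat.prime_two⟩
  intro T₀
  obtain ⟨T⟩ : Nonempty (Sylow 2 X) := inferInstance
  have hT := hab T
  have hcomm := Cfsg.Agent.H1.sylow_comm_of_le T (fun x y hx hy => by
      have := hT.is_comm.comm ⟨x, hx⟩ ⟨y, hy⟩
      exact congrArg Subtype.val this) K T₀
  exact ⟨⟨fun u v => Subtype.ext (hcomm u.1 v.1 u.2 v.2)⟩⟩

theorem isPStableOn_of_abSyl_aux (hp : p ≠ 2) :
    ∀ (n : ℕ) (G : Type u) [Group G] [Finite G] (P : Subgroup G) [P.Normal],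
      IsPGroup p P → Nat.card P = n →
      (∀ T : Sylow 2 G, IsMulCommutative ↥(T : Subgroup G)) → Cfsg.IsPStableOn p P := by
  intro n
  induction n using Nat.strong_induction_on with
  | _ n ih =>
    intro G _ _ P _ hP hn hfree
    by_cases hmin : ∀ Z : Subgroup G, Z.Normal → Z ≤ P → Z = ⊥ ∨ Z = P
    · by_cases hne : P = ⊥
      · intro a _
        have ha : a ∈ Subgroup.centralizer (P : Set G) := by
          rw [Subgroup.mem_centralizer_iff]
          intro x hx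
          rw [hne] at hx
          have : x = 1 := hx
          rw [this, one_mul, mul_one]
        rw [(QuotientGroup.eq_one_iff a).mpr ha]
        exact one_mem _
      · exact Cfsg.Agent.H1.isPStableOn_of_abelian_sylow2 hp hfree P
          (Cfsg.Agent.Lib.Helper7.QuadLin.isElementaryAbelian_of_minimal P hP hne hmin)
    · push Not at hmin
      obtain ⟨Z, hZn, hZP, hZbot, hZne⟩ := hmin
      haveI := hZn
      have hZp : IsPGroup p Z := hP.to_le hZP
      have hc1 : Nat.card Z < n := by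
        rw [← hn]
        exact Set.Finite.card_lt_card (Set.toFinite _)
          (LE.le.ssubset_of_ne (show (Z : Set G) ≤ (P : Set G) from hZP) (fun h => hZne (SetLike.coe_injective h)))
      haveI hPbn : (P.map (QuotientGroup.mk' Z)).Normal :=
        Subgroup.Normal.map inferInstance _ (QuotientGroup.mk'_surjective Z)
      have hc2 : Nat.card (P.map (QuotientGroup.mk' Z)) < n := by
        rw [← hn]; exact Cfsg.Agent.Lib.Helper7.QuadLin.card_map_mk_lt Z P hZP hZbot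
      exact Cfsg.Agent.Lib.Helper7.QuadLin.isPStableOn_of_sub_quot Z P hZP hZp
        (ih _ hc1 G Z hZp rfl hfree)
        (ih _ hc2 (G ⧸ Z) (P.map (QuotientGroup.mk' Z)) (hP.map _) rfl (abSyl_quot hfree Z))

theorem normStable_of_abSyl {X : Type u} [Group X] [Finite X] (hp : p ≠ 2)
    (hab : ∀ T : Sylow 2 X, IsMulCommutative ↥(T : Subgroup X)) :
    Cfsg.IsNormalizerPStable p X := by
  intro Qb hQb x hx hq
  have hst := isPStableOn_of_abSyl_aux hp _ ↥(Subgroup.normalizer (Qb : Set X))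
    (Qb.subgroupOf (Subgroup.normalizer (Qb : Set X))) (hQb.comap_subtype) rfl
    (abSyl_sub hab _)
  exact Cfsg.Agent.Lib.Helper7.QuadLin.normalizerForm_of_isPStableOn Qb hst x hx hq

theorem normStable_quot_of_abSyl {X : Type u} [Group X] [Finite X] (hp : p ≠ 2)
    (hab : ∀ T : Sylow 2 X, IsMulCommutative ↥(T : Subgroup X)) (N : Subgroup X) [N.Normal] :
    Cfsg.IsNormalizerPStable p (X ⧸ N) :=
  normStable_of_abSyl hp (abSyl_quot hab N)

end stab

end

section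

open scoped commutatorElement Pointwise
open Cfsg.Agent.Lib.Lead.KInf

universe u

section tprop
variable {G : Type u} [Group G]

/-- the transfer property of the K-sequences: if `T ≤ S` contains all even terms and one odd term of `S`,
the K-sequences of `T` interlace with those of `S` -/
theorem interlace {S T : Subgroup G} (hTS : T ≤ S) (hE : ∀ n, relEven S n ≤ T) (K : ℕ)
    (hO : relOdd S K ≤ T) (n : ℕ) :
    (relOdd T n ≤ relOdd S n ∧ ∃ m, relOdd S m ≤ relOdd T n) ∧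
      (relEven S n ≤ relEven T n ∧ ∃ m, relEven T n ≤ relEven S m) := by
  have stepE : ∀ n, (relOdd T n ≤ relOdd S n ∧ ∃ m, relOdd S m ≤ relOdd T n) →
      (relEven S n ≤ relEven T n ∧ ∃ m, relEven T n ≤ relEven S m) := by
    rintro n ⟨h1, m, h2⟩
    constructor
    · apply sSup_le
      intro B hB
      have hBT : B ≤ T := (le_sSup hB).trans (hE n)
      exact le_sSup ⟨lower_antitone h1 hB.1, hBT⟩
    · refine ⟨m, ?_⟩
      apply sSup_le
      intro B hB
      exact le_sSup ⟨lower_antitone h2 hB.1, hB.2.trans hTS⟩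
  have stepO : ∀ n, (relEven S n ≤ relEven T n ∧ ∃ m, relEven T n ≤ relEven S m) →
      (relOdd T (n + 1) ≤ relOdd S (n + 1) ∧ ∃ m, relOdd S m ≤ relOdd T (n + 1)) := by
    rintro n ⟨h1, m, h2⟩
    constructor
    · rw [relOdd_succ, relOdd_succ]
      apply sSup_le
      intro B hB
      exact le_sSup ⟨upper_antitone h1 hB.1, hB.2.trans hTS⟩
    · refine ⟨max m K + 1, ?_⟩
      rw [relOdd_succ S (max m K), relOdd_succ T n]
      apply sSup_le
      intro B hB
      have hBT : B ≤ T := by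
        have h3 : B ≤ relOdd S (max m K + 1) := by
          rw [relOdd_succ]; exact le_sSup hB
        exact h3.trans ((relOdd_antitone S (le_trans (le_max_right m K) (Nat.le_succ _))).trans hO)
      have h4 : relEven T n ≤ relEven S (max m K) :=
        h2.trans (relEven_monotone S (le_max_left m K))
      exact le_sSup ⟨upper_antitone h4 hB.1, hBT⟩
  induction n with
  | zero =>
    have h0 : relOdd T 0 ≤ relOdd S 0 ∧ ∃ m, relOdd S m ≤ relOdd T 0 := ⟨hTS, K, hO⟩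
    exact ⟨h0, stepE 0 h0⟩
  | succ n ih =>
    have h1 := stepO n ih.2
    exact ⟨h1, stepE (n + 1) h1⟩

theorem iSup_relEven_eq {S T : Subgroup G} (hTS : T ≤ S) (hE : ∀ n, relEven S n ≤ T) (K : ℕ)
    (hO : relOdd S K ≤ T) : (⨆ n, relEven T n) = ⨆ n, relEven S n := by
  apply le_antisymm
  · apply iSup_le
    intro n
    obtain ⟨m, hm⟩ := (interlace hTS hE K hO n).2.2
    exact hm.trans (le_iSup (fun n => relEven S n) m)
  · apply iSup_le
    intro n
    exact (interlace hTS hE K hO n).2.1.trans (le_iSup (fun n => relEven T n) n)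

/-- in a finite group the infimum of the odd terms is attained -/
theorem exists_relOdd_eq_iInf [Finite G] (S : Subgroup G) : ∃ K, relOdd S K = ⨅ n, relOdd S n := by
  obtain ⟨N, hN⟩ := WellFoundedLT.antitone_chain_condition (relOdd_antitone S)
  refine ⟨N, le_antisymm (le_iInf fun m => ?_) (iInf_le _ N)⟩
  rcases le_total N m with h | h
  · exact (hN m h).le
  · exact relOdd_antitone S h

/-- **transfer**: if `T ≤ S` contains both K-infinity subgroups of `S` then the lower K-infinity subgroups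
of `T` and `S` coincide -/
theorem induced_kInfLower_eq [Finite G] {S T : Subgroup G} (hTS : T ≤ S)
    (hL : Cfsg.inducedFunctor (G := G) Cfsg.kInfLower S ≤ T)
    (hU : Cfsg.inducedFunctor (G := G) Cfsg.kInfUpper S ≤ T) :
    Cfsg.inducedFunctor (G := G) Cfsg.kInfLower T = Cfsg.inducedFunctor (G := G) Cfsg.kInfLower S := by
  rw [induced_kInfLower] at hL ⊢
  rw [induced_kInfUpper] at hU
  rw [induced_kInfLower]
  obtain ⟨K, hK⟩ := exists_relOdd_eq_iInf S
  exact iSup_relEven_eq hTS (fun n => (le_iSup (fun n => relEven S n) n).trans hL) K (hK.le.trans hU)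

end tprop

end

section

open scoped commutatorElement Pointwise
open Cfsg.Agent.Lib.Lead.KInf Cfsg.Agent.H1.PrimPair

universe u

section normal
variable {p : ℕ} [Fact p.Prime]

theorem kinf_normal {X : Type u} [Group X] [Finite X] (hp : p ≠ 2)
    (hab : ∀ T : Sylow 2 X, IsMulCommutative ↥(T : Subgroup X))
    (hc : Subgroup.centralizer (Cfsg.pCore p X : Set X) ≤ Cfsg.pCore p X) (P : Sylow p X) :
    (Cfsg.inducedFunctor Cfsg.kInfLower (P : Subgroup X)).Normal ∧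
      (Cfsg.inducedFunctor Cfsg.kInfUpper (P : Subgroup X)).Normal := by
  by_contra h
  rw [not_and_or] at h
  obtain ⟨g, -, -, -, -, h5⟩ := Cfsg.Agent.S1983.result P h
  obtain ⟨N, hN, hns⟩ := h5 hc
  haveI := hN
  exact hns (normStable_quot_of_abSyl hp hab N)

theorem induced_le {X : Type u} [Group X] (W : ∀ (Q : Type u) [Group Q], Subgroup Q)
    (P : Subgroup X) : Cfsg.inducedFunctor W P ≤ P := by
  show (W ↥P).map P.subtype ≤ P
  exact Subgroup.map_subtype_le _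

theorem kinf_le_pCore {X : Type u} [Group X] [Finite X] (hp : p ≠ 2)
    (hab : ∀ T : Sylow 2 X, IsMulCommutative ↥(T : Subgroup X))
    (hc : Subgroup.centralizer (Cfsg.pCore p X : Set X) ≤ Cfsg.pCore p X) (P : Sylow p X) :
    Cfsg.inducedFunctor Cfsg.kInfLower (P : Subgroup X) ≤ Cfsg.pCore p X ∧
      Cfsg.inducedFunctor Cfsg.kInfUpper (P : Subgroup X) ≤ Cfsg.pCore p X := by
  obtain ⟨h1, h2⟩ := kinf_normal hp hab hc P
  exact ⟨Cfsg.Agent.H1.le_pCore h1 (P.isPGroup'.to_le (induced_le _ _)),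
    Cfsg.Agent.H1.le_pCore h2 (P.isPGroup'.to_le (induced_le _ _))⟩

theorem induced_kInfUpper_map' {A : Type u} {B : Type u} [Group A] [Group B] (f : A →* B)
    (hf : Function.Injective f) (P : Subgroup A) :
    (Cfsg.inducedFunctor (G := A) Cfsg.kInfUpper P).map f =
      Cfsg.inducedFunctor (G := B) Cfsg.kInfUpper (P.map f) := by
  rw [induced_kInfUpper, induced_kInfUpper, Subgroup.map_iInf _ hf]
  exact iInf_congr fun n => relOdd_map f hf P n

end normal

section gform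
variable {G : Type u} [Group G] [Finite G] {p : ℕ} [Fact p.Prime]

theorem gform (hp : p ≠ 2) (M : Subgroup G)
    (hab : ∀ T : Sylow 2 ↥M, IsMulCommutative ↥(T : Subgroup ↥M))
    (hc : Subgroup.centralizer (Cfsg.pCore p ↥M : Set ↥M) ≤ Cfsg.pCore p ↥M) (P : Sylow p ↥M) :
    M ≤ Subgroup.normalizer ((Cfsg.inducedFunctor (G := G) Cfsg.kInfLower
      ((P : Subgroup ↥M).map M.subtype) : Subgroup G) : Set G) ∧
    Cfsg.inducedFunctor (G := G) Cfsg.kInfLower ((P : Subgroup ↥M).map M.subtype) ≤ PG p M ∧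
    Cfsg.inducedFunctor (G := G) Cfsg.kInfUpper ((P : Subgroup ↥M).map M.subtype) ≤ PG p M := by
  obtain ⟨h1, h2⟩ := kinf_normal hp hab hc P
  obtain ⟨h3, h4⟩ := kinf_le_pCore hp hab hc P
  rw [← induced_kInfLower_map M.subtype M.subtype_injective,
    ← induced_kInfUpper_map' M.subtype M.subtype_injective]
  refine ⟨?_, Subgroup.map_mono h3, Subgroup.map_mono h4⟩
  haveI := h1
  exact Cfsg.Agent.H2.le_normalizer_map_subtype_of_normal M _

/-- one side: the lower K-infinity subgroup of a `p`-subgroup `T` with `O_p(M) ≤ T ≤ M` is normal in `M` -/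
theorem side (hp : p ≠ 2) (M : Subgroup G)
    (hab : ∀ T : Sylow 2 ↥M, IsMulCommutative ↥(T : Subgroup ↥M))
    (hc : Subgroup.centralizer (Cfsg.pCore p ↥M : Set ↥M) ≤ Cfsg.pCore p ↥M)
    (T : Subgroup G) (hTp : IsPGroup p T) (hTM : T ≤ M) (hQT : PG p M ≤ T) :
    M ≤ Subgroup.normalizer ((Cfsg.inducedFunctor (G := G) Cfsg.kInfLower T : Subgroup G) : Set G) := by
  have h1 : IsPGroup p (T.subgroupOf M) := hTp.comap_subtype
  obtain ⟨P, hP⟩ := h1.exists_le_sylow
  have hTS : T ≤ (P : Subgroup ↥M).map M.subtype := by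
    rw [← Subgroup.map_subgroupOf_eq_of_le hTM]
    exact Subgroup.map_mono hP
  obtain ⟨g1, g2, g3⟩ := gform hp M hab hc P
  rw [induced_kInfLower_eq hTS (g2.trans hQT) (g3.trans hQT)]
  exact g1

end gform

end

section

open scoped commutatorElement Pointwise
open Cfsg.Agent.Lib.Lead.KInf Cfsg.Agent.H1.PrimPair

universe u

section fin
variable {G : Type u} [Group G] [Finite G] {p : ℕ} [Fact p.Prime]

theorem eq_bot_of_PG_eq_bot (M : Subgroup G)
    (hc : Subgroup.centralizer (Cfsg.pCore p ↥M : Set ↥M) ≤ Cfsg.pCore p ↥M)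
    (h : PG p M = ⊥) : M = ⊥ := by
  have h1 : Cfsg.pCore p ↥M = ⊥ :=
    (Subgroup.map_eq_bot_iff_of_injective _ M.subtype_injective).mp h
  rw [eq_bot_iff]
  intro x hx
  have h2 : (⟨x, hx⟩ : ↥M) ∈ Subgroup.centralizer (Cfsg.pCore p ↥M : Set ↥M) := by
    rw [Subgroup.mem_centralizer_iff]
    intro y hy
    rw [h1] at hy
    have : y = 1 := hy
    rw [this, one_mul, mul_one]
  have h3 := hc h2
  rw [h1, Subgroup.mem_bot] at h3
  rw [Subgroup.mem_bot]
  exact congrArg Subtype.val h3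

theorem PG_ne_bot (M₁ M₂ : Subgroup G) (hne : M₁ ≠ M₂)
    (hc₁ : Subgroup.centralizer (Cfsg.pCore p ↥M₁ : Set ↥M₁) ≤ Cfsg.pCore p ↥M₁)
    (hc₂ : Subgroup.centralizer (Cfsg.pCore p ↥M₂ : Set ↥M₂) ≤ Cfsg.pCore p ↥M₂)
    (hO : PG p M₁ ⊔ PG p M₂ ≤ M₁ ⊓ M₂) : PG p M₁ ≠ ⊥ := by
  intro h
  have h1 := eq_bot_of_PG_eq_bot M₁ hc₁ h
  have h2 : PG p M₂ = ⊥ := by
    rw [eq_bot_iff]
    refine (le_sup_right.trans hO).trans ?_
    rw [h1]
    exact inf_le_left
  exact hne (h1.trans (eq_bot_of_PG_eq_bot M₂ hc₂ h2).symm)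

/-- if the Sylow `p`-subgroups of `M` are abelian and `C_M(O_p(M)) ≤ O_p(M)`, every `p`-subgroup of `M`
lies in `O_p(M)` -/
theorem le_PG_of_abSyl (M : Subgroup G)
    (hab : ∀ T : Sylow p ↥M, IsMulCommutative ↥(T : Subgroup ↥M))
    (hc : Subgroup.centralizer (Cfsg.pCore p ↥M : Set ↥M) ≤ Cfsg.pCore p ↥M)
    (R : Subgroup G) (hR : IsPGroup p R) (hRM : R ≤ M) : R ≤ PG p M := by
  have h1 : IsPGroup p (R.subgroupOf M) := hR.comap_subtype
  obtain ⟨P, hP⟩ := h1.exists_le_sylow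
  have h2 : Cfsg.pCore p ↥M ≤ P := Cfsg.Agent.H1.pCore_le_sylow P
  have h3 : (P : Subgroup ↥M) ≤ Cfsg.pCore p ↥M := by
    intro x hx
    apply hc
    rw [Subgroup.mem_centralizer_iff]
    intro y hy
    have := (hab P).is_comm.comm ⟨y, h2 hy⟩ ⟨x, hx⟩
    exact congrArg Subtype.val this
  rw [← Subgroup.map_subgroupOf_eq_of_le hRM]
  exact Subgroup.map_mono (hP.trans h3)

theorem two_case (M₁ M₂ : Subgroup G) (hne : M₁ ≠ M₂) (hP : Prim M₁ M₂)
    (hc₁ : Subgroup.centralizer (Cfsg.pCore p ↥M₁ : Set ↥M₁) ≤ Cfsg.pCore p ↥M₁)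
    (hc₂ : Subgroup.centralizer (Cfsg.pCore p ↥M₂ : Set ↥M₂) ≤ Cfsg.pCore p ↥M₂)
    (hO : PG p M₁ ⊔ PG p M₂ ≤ M₁ ⊓ M₂)
    (hab₁ : ∀ T : Sylow p ↥M₁, IsMulCommutative ↥(T : Subgroup ↥M₁))
    (hab₂ : ∀ T : Sylow p ↥M₂, IsMulCommutative ↥(T : Subgroup ↥M₂)) : False := by
  have h12 : PG p M₁ ≤ PG p M₂ :=
    le_PG_of_abSyl M₂ hab₂ hc₂ _ (PG_isPGroup p M₁) ((le_sup_left.trans hO).trans inf_le_right)
  have h21 : PG p M₂ ≤ PG p M₁ :=
    le_PG_of_abSyl M₁ hab₁ hc₁ _ (PG_isPGroup p M₂) ((le_sup_right.trans hO).trans inf_le_left)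
  have heq : PG p M₁ = PG p M₂ := le_antisymm h12 h21
  refine hP.contra hne (PG p M₁) (PG_ne_bot M₁ M₂ hne hc₁ hc₂ hO) (le_sup_left.trans hO)
    (le_normalizer_PG p M₁) ?_
  rw [heq]
  exact le_normalizer_PG p M₂

theorem odd_case (hp : p ≠ 2) (M₁ M₂ : Subgroup G) (hne : M₁ ≠ M₂) (hP : Prim M₁ M₂)
    (hc₁ : Subgroup.centralizer (Cfsg.pCore p ↥M₁ : Set ↥M₁) ≤ Cfsg.pCore p ↥M₁)
    (hc₂ : Subgroup.centralizer (Cfsg.pCore p ↥M₂ : Set ↥M₂) ≤ Cfsg.pCore p ↥M₂)
    (hO : PG p M₁ ⊔ PG p M₂ ≤ M₁ ⊓ M₂)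
    (hab₁ : ∀ T : Sylow 2 ↥M₁, IsMulCommutative ↥(T : Subgroup ↥M₁))
    (hab₂ : ∀ T : Sylow 2 ↥M₂, IsMulCommutative ↥(T : Subgroup ↥M₂)) : False := by
  obtain ⟨D, hD⟩ : ∃ D : Subgroup G, D = M₁ ⊓ M₂ := ⟨_, rfl⟩
  obtain ⟨TD⟩ : Nonempty (Sylow p ↥D) := inferInstance
  obtain ⟨T, hT⟩ : ∃ T : Subgroup G, T = (TD : Subgroup ↥D).map D.subtype := ⟨_, rfl⟩
  have hTp : IsPGroup p T := by rw [hT]; exact TD.isPGroup'.map _
  have hTD : T ≤ D := by rw [hT]; exact Subgroup.map_subtype_le _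
  have hDM₁ : D ≤ M₁ := by rw [hD]; exact inf_le_left
  have hDM₂ : D ≤ M₂ := by rw [hD]; exact inf_le_right
  -- normal `p`-subgroups of `D` lie in `T`
  have hnorm : ∀ Q : Subgroup G, IsPGroup p Q → Q ≤ D → D ≤ Subgroup.normalizer (Q : Set G) → Q ≤ T := by
    intro Q hQp hQD hDN
    have h1 : (Q.subgroupOf D).Normal := (Subgroup.normal_subgroupOf_iff_le_normalizer hQD).mpr hDN
    have h2 : IsPGroup p (Q.subgroupOf D) := hQp.comap_subtype
    have h3 : Q.subgroupOf D ≤ TD :=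
      (Cfsg.Agent.H1.le_pCore h1 h2).trans (Cfsg.Agent.H1.pCore_le_sylow TD)
    rw [hT, ← Subgroup.map_subgroupOf_eq_of_le hQD]
    exact Subgroup.map_mono h3
  have hQ₁T : PG p M₁ ≤ T := hnorm _ (PG_isPGroup p M₁) (by rw [hD]; exact le_sup_left.trans hO)
    (hDM₁.trans (le_normalizer_PG p M₁))
  have hQ₂T : PG p M₂ ≤ T := hnorm _ (PG_isPGroup p M₂) (by rw [hD]; exact le_sup_right.trans hO)
    (hDM₂.trans (le_normalizer_PG p M₂))
  have hN₁ := side hp M₁ hab₁ hc₁ T hTp (hTD.trans hDM₁) hQ₁T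
  have hN₂ := side hp M₂ hab₂ hc₂ T hTp (hTD.trans hDM₂) hQ₂T
  have hTne : T ≠ ⊥ := by
    intro h
    apply PG_ne_bot M₁ M₂ hne hc₁ hc₂ hO
    rw [eq_bot_iff, ← h]
    exact hQ₁T
  have hAle : Cfsg.inducedFunctor (G := G) Cfsg.kInfLower T ≤ M₁ ⊓ M₂ := by
    rw [← hD]
    exact (induced_le _ _).trans hTD
  have hAne : Cfsg.inducedFunctor (G := G) Cfsg.kInfLower T ≠ ⊥ := by
    intro h
    have h1 : Cfsg.kInfLower ↥T = ⊥ :=
      (Subgroup.map_eq_bot_iff_of_injective _ T.subtype_injective).mp h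
    haveI : Nontrivial ↥T := (Subgroup.nontrivial_iff_ne_bot T).mpr hTne
    have h2 : Subgroup.center ↥T ≤ ⊥ := h1 ▸ center_le_kInfLower
    haveI := hTp.center_nontrivial
    exact (Subgroup.nontrivial_iff_ne_bot _).mp inferInstance (le_bot_iff.mp h2)
  exact hP.contra hne _ hAne hAle hN₁ hN₂

end fin

end

section

open Cfsg.Agent.H1.PrimPair

/-- Two distinct subgroups M₁, M₂ of G form a primitive pair when, for {i, j} = {1, 2}, every non-trivial normal subgroup A of M_i contained in M₁ ∩ M₂ satisfies N_{M_j}(A) = M₁ ∩ M₂; the pair has characteristic p when moreover C_{M_i}(O_p(M_i)) ≤ O_p(M_i) for both i and O_p(M₁)O_p(M₂) ≤ M₁ ∩ M₂. If the finite group G has a primitive pair (M₁, M₂) of characteristic p for some prime p, then M₁ or M₂ has non-abelian Sylow 2-subgroups. In particular no group of odd order has a primitive pair of characteristic p. -/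
theorem result {G : Type*} [Group G] [Finite G] {p : ℕ} [Fact p.Prime] (M₁ M₂ : Subgroup G) (hne : M₁ ≠ M₂) (hP : ∀ A : Subgroup G, A ≠ ⊥ → A ≤ M₁ ⊓ M₂ → (M₁ ≤ Subgroup.normalizer (A : Set G) → M₂ ⊓ Subgroup.normalizer (A : Set G) = M₁ ⊓ M₂) ∧ (M₂ ≤ Subgroup.normalizer (A : Set G) → M₁ ⊓ Subgroup.normalizer (A : Set G) = M₁ ⊓ M₂)) (hc₁ : Subgroup.centralizer (Cfsg.pCore p ↥M₁ : Set ↥M₁) ≤ Cfsg.pCore p ↥M₁) (hc₂ : Subgroup.centralizer (Cfsg.pCore p ↥M₂ : Set ↥M₂) ≤ Cfsg.pCore p ↥M₂) (hO : (Cfsg.pCore p ↥M₁).map M₁.subtype ⊔ (Cfsg.pCore p ↥M₂).map M₂.subtype ≤ M₁ ⊓ M₂) : (∃ S : Sylow 2 ↥M₁, ¬ IsMulCommutative (S : Subgroup ↥M₁)) ∨ (∃ S : Sylow 2 ↥M₂, ¬ IsMulCommutative (S : Subgroup ↥M₂)) := by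
  by_contra hcon
  rw [not_or] at hcon
  obtain ⟨h1, h2⟩ := hcon
  have h1' : ∀ S : Sylow 2 ↥M₁, IsMulCommutative ↥(S : Subgroup ↥M₁) := by
    intro S
    by_contra h
    exact h1 ⟨S, h⟩
  have h2' : ∀ S : Sylow 2 ↥M₂, IsMulCommutative ↥(S : Subgroup ↥M₂) := by
    intro S
    by_contra h
    exact h2 ⟨S, h⟩
  by_cases hp : p = 2
  · subst hp
    exact two_case M₁ M₂ hne hP hc₁ hc₂ hO h1' h2'
  · exact odd_case hp M₁ M₂ hne hP hc₁ hc₂ hO h1' h2'

end

end Cfsg.Agent.S3753
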