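import Cfsg.Statements.S3754
import Cfsg.Agent.Lib.Helper7.KsC
import Cfsg.Agent.H1.QuadThree
import Cfsg.Agent.Lib.Lead.ExpSix
import Cfsg.Agent.H1.Frattini
import Cfsg.Agent.H1.PGroup
import Cfsg.Agent.Lib.Lead.PSolvable
import Cfsg.Agent.H1.Cores

set_option autoImplicit false
open Cfsg

namespace Cfsg.Agent.S3754

open scoped commutatorElement

/-- Let M be a finite p-soluble group and A a p-subgroup of M with Φ(A) ≤ O_p(M) but A ≰ O_p(M). Then there is x ∈ O_{p,p'}(M) such that L = ⟨A, xAx⁻¹⟩ satisfies: x ∈ O^p(L) and O^p(L) ≤ O_{p,p'}(M); [O^p(L), A] = O^p(L); A ∩ O_p(L) has index p in A; and [A ∩ O_p(L), L] ≤ O_p(M). Here O^p(L) is the subgroup generated by the p'-elements of L and O_{p,p'}(M) the preimage of O_{p'}(M/O_p(M)). -/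
theorem result {M : Type*} [Group M] [Finite M] {p : ℕ} [Fact p.Prime] (hM : Cfsg.IsPSolvable p M) (A : Subgroup M) (hA : IsPGroup p A) (hΦ : (frattini ↥A).map A.subtype ≤ Cfsg.pCore p M) (hnot : ¬ A ≤ Cfsg.pCore p M) : ∃ x ∈ (Cfsg.pPrimeCore p (M ⧸ Cfsg.pCore p M)).comap (QuotientGroup.mk' (Cfsg.pCore p M)), x ∈ (Cfsg.pResidual p ↥(A ⊔ A.map (MulAut.conj x).toMonoidHom)).map (A ⊔ A.map (MulAut.conj x).toMonoidHom).subtype ∧ (Cfsg.pResidual p ↥(A ⊔ A.map (MulAut.conj x).toMonoidHom)).map (A ⊔ A.map (MulAut.conj x).toMonoidHom).subtype ≤ (Cfsg.pPrimeCore p (M ⧸ Cfsg.pCore p M)).comap (QuotientGroup.mk' (Cfsg.pCore p M)) ∧ ⁅(Cfsg.pResidual p ↥(A ⊔ A.map (MulAut.conj x).toMonoidHom)).map (A ⊔ A.map (MulAut.conj x).toMonoidHom).subtype, A⁆ = (Cfsg.pResidual p ↥(A ⊔ A.map (MulAut.conj x).toMonoidHom)).map (A ⊔ A.map (MulAut.conj x).toMonoidHom).subtype ∧ (A ⊓ (Cfsg.pCore p ↥(A ⊔ A.map (MulAut.conj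 x).toMonoidHom)).map (A ⊔ A.map (MulAut.conj x).toMonoidHom).subtype).relIndex A = p ∧ ⁅A ⊓ (Cfsg.pCore p ↥(A ⊔ A.map (MulAut.conj x).toMonoidHom)).map (A ⊔ A.map (MulAut.conj x).toMonoidHom).subtype, A ⊔ A.map (MulAut.conj x).toMonoidHom⁆ ≤ Cfsg.pCore p M := by
  classical
  have hp : p.Prime := Fact.out
  set P := Cfsg.pCore p M with hPdef
  have hPn : P.Normal := inferInstance
  have hPp : IsPGroup p ↥P := Cfsg.Agent.Lib.Helper7.pCore_isPGroup p M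
  set π := QuotientGroup.mk' P with hπ
  have hker : π.ker = P := QuotientGroup.ker_mk' P
  set Kb := Cfsg.pPrimeCore p (M ⧸ P) with hKb
  have hKn : Kb.Normal := Cfsg.Agent.H1.pPrimeCore_normal p
  have hKc : (Nat.card ↥Kb).Coprime p := Cfsg.Agent.H1.pPrimeCore_coprime p
  have : Finite ↥A := inferInstance
  -- elementary abelian image
  have hpow : ∀ b ∈ A, b ^ p ∈ P := by
    intro b hb
    apply hΦ
    exact ⟨⟨b, hb⟩ ^ p, Cfsg.Agent.H1.pow_p_mem_frattini hA ⟨b, hb⟩, rfl⟩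
  have hcomm : ∀ b ∈ A, ∀ c ∈ A, ⁅b, c⁆ ∈ P := by
    intro b hb c hc
    apply hΦ
    refine ⟨⁅(⟨b, hb⟩ : ↥A), ⟨c, hc⟩⁆, Cfsg.Agent.H1.commutator_le_frattini hA ?_, rfl⟩
    exact Subgroup.commutator_mem_commutator (Subgroup.mem_top _) (Subgroup.mem_top _)
  have hAe : Cfsg.IsElementaryAbelian p (A.map π) := by
    constructor
    · refine ⟨⟨?_⟩⟩
      rintro ⟨_, b, hb, rfl⟩ ⟨_, c, hc, rfl⟩
      apply Subtype.ext
      show π b * π c = π c * π b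
      have h1 : ⁅b, c⁆ ∈ π.ker := by rw [hker]; exact hcomm b hb c hc
      rw [MonoidHom.mem_ker, map_commutatorElement, commutatorElement_eq_one_iff_mul_comm] at h1
      exact h1
    · rintro _ ⟨b, hb, rfl⟩
      have h1 : b ^ p ∈ π.ker := by rw [hker]; exact hpow b hb
      rwa [MonoidHom.mem_ker, map_pow] at h1
  have hbot : Cfsg.pCore p (M ⧸ P) = ⊥ := Cfsg.Agent.Lead.ExpSix.pCore_quotient_self_eq_bot P rfl
  have hsolq : Cfsg.IsPSolvable p (M ⧸ P) := Cfsg.Agent.Lib.Lead.PSolvable.IsPSolvable.quotient P hM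
  have hcent := Cfsg.Agent.H1.centralizer_pPrimeCore_le hsolq hbot
  have hnc : ¬ A.map π ≤ Subgroup.centralizer (Kb : Set (M ⧸ P)) := by
    intro hle
    apply hnot
    intro b hb
    have h1 : π b ∈ Kb := hcent (hle ⟨b, hb, rfl⟩)
    have h2 : (orderOf (π b)).Coprime p := by
      have h3 : orderOf (π b) ∣ Nat.card ↥Kb := by
        have := orderOf_dvd_natCard (⟨π b, h1⟩ : ↥Kb)
        rwa [← Subgroup.orderOf_coe] at this
      exact Nat.Coprime.coprime_dvd_left h3 hKc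
    have h4 : π b = 1 := by
      apply Cfsg.Agent.Lib.Helper7.eq_one_of_coprime_of_pow_eq_one (π b) h2 1
      rw [pow_one]
      exact hAe.2 _ ⟨b, hb, rfl⟩
    have : b ∈ π.ker := h4
    rwa [hker] at this
  obtain ⟨K2, a, haA, hK2K, hK2A, hidx, hw, hmin⟩ :=
    Cfsg.Agent.Lib.Helper7.Ks.exists_min_config (A.map π) Kb hAe hKc hnc
  have hcfg : Cfsg.Agent.Lib.Helper7.Ks.Cfg p (A.map π) Kb K2 a :=
    ⟨hAe, hKc, haA, hK2K, hK2A, hidx, hw, hmin⟩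
  obtain ⟨x, hxK, h1, h2, h3, h4, h5⟩ := Cfsg.Agent.Lib.Helper7.Ks.main_aux P hPp A Kb K2 a hcfg
  refine ⟨x, hK2K hxK, ?_⟩
  rw [Cfsg.Agent.Lib.Helper7.pResidual_map_subtype_eq]
  exact ⟨h1, h2, h3, h4, h5⟩

end Cfsg.Agent.S3754
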