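import Cfsg.Statements.S3755
import Cfsg.Agent.Lib.Helper7.SdC
import Cfsg.Agent.Lib.Helper7.InvolvesLib
import Cfsg.Agent.Lib.Helper7.Thompson
import Cfsg.Agent.H1.Cores

set_option autoImplicit false
open Cfsg

namespace Cfsg.Agent.S3755

/-- Let M and V be subgroups of a finite group with V an elementary abelian 2-group, M normalizing V and acting faithfully on it (M ∩ C(V) = 1), and C_M(O_{2'}(M)) ≤ O_{2'}(M). If some elementary abelian 2-subgroup A of M satisfies |V : C_V(A)| < |A|², then M has a section isomorphic to the symmetric group of degree 3. -/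
theorem result {X : Type*} [Group X] [Finite X] (M V : Subgroup X) (hV : Cfsg.IsElementaryAbelian 2 V) (hMV : M ≤ Subgroup.normalizer (V : Set X)) (hfaith : M ⊓ Subgroup.centralizer (V : Set X) = ⊥) (hcon : Subgroup.centralizer (Cfsg.pPrimeCore 2 ↥M : Set ↥M) ≤ Cfsg.pPrimeCore 2 ↥M) (A : Subgroup X) (hAM : A ≤ M) (hA : Cfsg.IsElementaryAbelian 2 A) (hsmall : (V ⊓ Subgroup.centralizer (A : Set X)).relIndex V < Nat.card A ^ 2) : Cfsg.Involves (Equiv.Perm (Fin 3)) ↥M := by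
  classical
  obtain ⟨hVc, hVp⟩ := (Cfsg.Agent.Lib.Helper7.isElementaryAbelian_iff V).mp hV
  obtain ⟨hAc, hAp⟩ := (Cfsg.Agent.Lib.Helper7.isElementaryAbelian_iff A).mp hA
  have hV2 : ∀ v ∈ V, v * v = 1 := fun v hv => by rw [← pow_two]; exact hVp v hv
  have hA2 : ∀ a ∈ A, a * a = 1 := fun a ha => by rw [← pow_two]; exact hAp a ha
  haveI hKn : (Cfsg.pPrimeCore 2 ↥M).Normal := Cfsg.Agent.H1.pPrimeCore_normal 2
  obtain ⟨K, hKdef⟩ : ∃ K : Subgroup X, K = (Cfsg.pPrimeCore 2 ↥M).map M.subtype := ⟨_, rfl⟩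
  have hKM : K ≤ M := by rw [hKdef]; exact Subgroup.map_subtype_le _
  have hMK : M ≤ Subgroup.normalizer (K : Set X) := by
    intro m hm
    apply Cfsg.Agent.Lib.Lead.Conj.mem_normalizer_of_conj_mem
    rw [hKdef]
    rintro _ ⟨k', hk', rfl⟩
    refine ⟨⟨m, hm⟩ * k' * ⟨m, hm⟩⁻¹, hKn.conj_mem k' hk' ⟨m, hm⟩, ?_⟩
    simp
  have hKodd : ¬ 2 ∣ Nat.card K := by
    rw [hKdef, Subgroup.card_map_of_injective M.subtype_injective]
    have h1 : (Nat.card ↥(Cfsg.pPrimeCore 2 ↥M)).Coprime 2 := Cfsg.Agent.H1.pPrimeCore_coprime 2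
    intro h2
    have := Nat.Coprime.eq_one_of_dvd h1.symm h2
    omega
  have hcon' : M ⊓ Subgroup.centralizer (K : Set X) ≤ K := by
    intro g hg
    obtain ⟨hgM, hgC⟩ := Subgroup.mem_inf.mp hg
    have h1 : (⟨g, hgM⟩ : ↥M) ∈ Subgroup.centralizer (Cfsg.pPrimeCore 2 ↥M : Set ↥M) := by
      rw [Subgroup.mem_centralizer_iff]
      intro k' hk'
      apply Subtype.ext
      rw [Subgroup.coe_mul, Subgroup.coe_mul]
      apply Subgroup.mem_centralizer_iff.mp hgC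
      rw [hKdef]
      exact ⟨k', hk', rfl⟩
    have h2 := hcon h1
    rw [hKdef]
    exact ⟨⟨g, hgM⟩, h2, rfl⟩
  obtain ⟨D, hDM, ⟨e⟩⟩ := Cfsg.Agent.Lib.Helper7.Sd.s3_aux M V K hVc hV2 hMV hfaith hKM hMK hKodd hcon'
    (Nat.card A) A rfl hAM hAc hA2 hsmall
  rw [Cfsg.Agent.Lib.Helper7.involves_iff_exists_surjective]
  refine ⟨D.subgroupOf M, e.toMonoidHom.comp (Subgroup.subgroupOfEquivOfLe hDM).toMonoidHom, ?_⟩
  exact e.surjective.comp (Subgroup.subgroupOfEquivOfLe hDM).surjective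

end Cfsg.Agent.S3755
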