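import Cfsg.Statements.S3760
import Mathlib
import Cfsg.Agent.H1.Basic
import Cfsg.Agent.H1.SylowConj
import Cfsg.Agent.H1.ConjMap

set_option autoImplicit false
open Cfsg

namespace Cfsg.Agent.S3760

open Cfsg.Agent.H1

/-- Let the group G act transitively on a set X, let x ∈ X with stabilizer H = G_x, and let K ≤ H. Then N_G(K) acts transitively on the set of fixed points of K if and only if every G-conjugate of K contained in H is already an H-conjugate of K. -/
theorem result {G : Type*} [Group G] {X : Type*} [MulAction G X] (htrans : ∀ a b : X, ∃ g : G, g • a = b) (x : X) (K : Subgroup G) (hK : K ≤ MulAction.stabilizer G x) : (∀ a b : X, (∀ k ∈ K, k • a = a) → (∀ k ∈ K, k • b = b) → ∃ g ∈ Subgroup.normalizer (K : Set G), g • a = b) ↔ ∀ g : G, K.map (MulAut.conj g).toMonoidHom ≤ MulAction.stabilizer G x → ∃ h ∈ MulAction.stabilizer G x, K.map (MulAut.conj g).toMonoidHom = K.map (MulAut.conj h).toMonoidHom := by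
  constructor
  · intro hN g hg
    -- K fixes g⁻¹ • x
    have h1 : ∀ k ∈ K, k • (g⁻¹ • x) = g⁻¹ • x := by
      intro k hk
      have h2 : g * k * g⁻¹ ∈ K.map (MulAut.conj g).toMonoidHom := (conj_mem_map_conj_iff g k K).mpr hk
      have h3 := hg h2
      rw [MulAction.mem_stabilizer_iff] at h3
      have e0 : k • (g⁻¹ • x) = g⁻¹ • ((g * k * g⁻¹) • x) := by
        rw [smul_smul, smul_smul]; congr 1; group
      rw [e0, h3]
    have h0 : ∀ k ∈ K, k • x = x := fun k hk => MulAction.mem_stabilizer_iff.mp (hK hk)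
    obtain ⟨n, hn, hnx⟩ := hN x (g⁻¹ • x) h0 h1
    refine ⟨g * n, ?_, ?_⟩
    · rw [MulAction.mem_stabilizer_iff, mul_smul, hnx, smul_smul, mul_inv_cancel, one_smul]
    · rw [← map_conj_map_conj, (map_conj_eq_self_iff n K).mpr hn]
  · intro hC a b ha hb
    -- for any fixed point a = u • x, get an element of N(K) moving x to a
    have key : ∀ a : X, (∀ k ∈ K, k • a = a) → ∃ m ∈ Subgroup.normalizer (K : Set G), m • x = a := by
      intro a ha
      obtain ⟨u, hu⟩ := htrans x a
      have h1 : K.map (MulAut.conj u⁻¹).toMonoidHom ≤ MulAction.stabilizer G x := by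
        intro y hy
        rw [mem_map_conj_iff, inv_inv] at hy
        have h2 := ha _ hy
        rw [MulAction.mem_stabilizer_iff]
        rw [← hu] at h2
        have h3 : u⁻¹ • ((u * y * u⁻¹) • u • x) = u⁻¹ • u • x := by rw [h2]
        rw [smul_smul, smul_smul, smul_smul] at h3
        have e1 : u⁻¹ * (u * y * u⁻¹) * u = y := by group
        rw [e1, inv_mul_cancel, one_smul] at h3
        exact h3
      obtain ⟨h, hh, hKh⟩ := hC u⁻¹ h1
      refine ⟨u * h, ?_, ?_⟩
      · rw [← map_conj_eq_self_iff, ← map_conj_map_conj, ← hKh, map_conj_map_conj, mul_inv_cancel, map_conj_one]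
      · rw [mul_smul, MulAction.mem_stabilizer_iff.mp hh, hu]
    obtain ⟨m₁, hm₁, hm₁x⟩ := key a ha
    obtain ⟨m₂, hm₂, hm₂x⟩ := key b hb
    refine ⟨m₂ * m₁⁻¹, mul_mem hm₂ (inv_mem hm₁), ?_⟩
    rw [← hm₁x, smul_smul, inv_mul_cancel_right, hm₂x]

end Cfsg.Agent.S3760
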