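import Mathlib
import Cfsg.Statements.S3762
import Cfsg.Agent.S3761
import Cfsg.Agent.Lib.Lead.SympC
import Cfsg.Agent.H1.CriticalSubgroup

set_option autoImplicit false
open Cfsg

namespace Cfsg.Agent.S3762

open Cfsg.Agent.Lead.Symp
open scoped commutatorElement

universe u

section aux

variable {G : Type u} [Group G]

theorem mem_centralizer_closure {x : G} {S : Set G} :
    x ∈ Subgroup.centralizer (Subgroup.closure S : Set G) ↔ ∀ s ∈ S, s * x = x * s := by
  constructor
  · intro h s hs
    exact Subgroup.mem_centralizer_iff.mp h s (Subgroup.subset_closure hs)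
  · intro h
    have h1 : Subgroup.closure S ≤ Subgroup.centralizer ({x} : Set G) := by
      rw [Subgroup.closure_le]
      intro s hs
      rw [SetLike.mem_coe, Subgroup.mem_centralizer_iff]
      intro y hy
      rw [Set.mem_singleton_iff] at hy
      rw [hy]
      exact (h s hs).symm
    rw [Subgroup.mem_centralizer_iff]
    intro y hy
    have := Subgroup.mem_centralizer_iff.mp (h1 hy) x (Set.mem_singleton x)
    exact this.symm

theorem mem_centralizer_sup {x : G} {A B : Subgroup G} :
    x ∈ Subgroup.centralizer ((A ⊔ B : Subgroup G) : Set G) ↔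
      (∀ a ∈ A, a * x = x * a) ∧ ∀ b ∈ B, b * x = x * b := by
  constructor
  · intro h
    exact ⟨fun a ha => Subgroup.mem_centralizer_iff.mp h a (Subgroup.mem_sup_left ha),
      fun b hb => Subgroup.mem_centralizer_iff.mp h b (Subgroup.mem_sup_right hb)⟩
  · rintro ⟨hA, hB⟩
    have h1 : A ⊔ B ≤ Subgroup.centralizer ({x} : Set G) := by
      apply sup_le
      · intro a ha
        rw [Subgroup.mem_centralizer_iff]
        intro y hy
        rw [Set.mem_singleton_iff] at hy
        rw [hy]
        exact (hA a ha).symm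
      · intro b hb
        rw [Subgroup.mem_centralizer_iff]
        intro y hy
        rw [Set.mem_singleton_iff] at hy
        rw [hy]
        exact (hB b hb).symm
    rw [Subgroup.mem_centralizer_iff]
    intro y hy
    have := Subgroup.mem_centralizer_iff.mp (h1 hy) x (Set.mem_singleton x)
    exact this.symm

/-- commutators in a central product -/
theorem comm_prod {E R : Subgroup G} (hER : ∀ e ∈ E, ∀ r ∈ R, e * r = r * e)
    {e e' r r' : G} (he : e ∈ E) (he' : e' ∈ E) (hr : r ∈ R) (hr' : r' ∈ R) :
    ⁅e * r, e' * r'⁆ = ⁅e, e'⁆ * ⁅r, r'⁆ := by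
  let φ : E × R →* G := MonoidHom.noncommCoprod E.subtype R.subtype
    (fun m n => hER m m.2 n n.2)
  have hφ : ∀ (a : E) (b : R), φ (a, b) = (a : G) * b := fun a b =>
    MonoidHom.noncommCoprod_apply _ _ _ _
  have h3 : ⁅((⟨e, he⟩ : E), (⟨r, hr⟩ : R)), ((⟨e', he'⟩ : E), (⟨r', hr'⟩ : R))⁆ =
      (⁅(⟨e, he⟩ : E), ⟨e', he'⟩⁆, ⁅(⟨r, hr⟩ : R), ⟨r', hr'⟩⁆) := by
    simp [commutatorElement_def]
  have h4 := map_commutatorElement φ ((⟨e, he⟩ : E), (⟨r, hr⟩ : R))
    ((⟨e', he'⟩ : E), (⟨r', hr'⟩ : R))
  rw [h3, hφ, hφ, hφ] at h4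
  simpa [commutatorElement_def] using h4.symm

end aux

section small

variable {Q : Type u} [Group Q] [Finite Q] {p : ℕ} [hp : Fact p.Prime]

theorem comm_of_card_le_sq {k : ℕ} (hcard : Nat.card Q = p ^ k) (hk : k ≤ 2) :
    ∀ x y : Q, x * y = y * x := by
  interval_cases k
  · rw [pow_zero] at hcard
    haveI : Subsingleton Q := (Nat.card_eq_one_iff_unique.mp hcard).1
    intro x y
    exact Subsingleton.elim _ _
  · rw [pow_one] at hcard
    haveI : IsCyclic Q := isCyclic_of_prime_card hcard
    intro x y
    exact IsCyclic.commGroup.mul_comm x y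
  · exact IsPGroup.commutative_of_card_eq_prime_sq hcard

/-- non-abelian groups of order `p ^ 3` are extraspecial -/
theorem extraspecial_of_cube (hcard : Nat.card Q = p ^ 3) (hna : ¬ ∀ x y : Q, x * y = y * x) :
    IsExtraspecial p Q := by
  obtain ⟨hZ, hcomm, hpow⟩ := cube_facts hcard hna
  haveI : IsCyclic (Subgroup.center Q) := isCyclic_of_prime_card hZ
  obtain ⟨g, hg⟩ := IsCyclic.exists_generator (α := Subgroup.center Q)
  have hgo : orderOf (g : Q) = p := by
    rw [Subgroup.orderOf_coe, orderOf_eq_card_of_forall_mem_zpowers hg, hZ]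
  have hmem : ∀ w ∈ Subgroup.center Q, w ∈ Subgroup.zpowers (g : Q) := by
    intro w hw
    obtain ⟨k, hk⟩ := Subgroup.mem_zpowers_iff.mp (hg ⟨w, hw⟩)
    rw [Subgroup.mem_zpowers_iff]
    refine ⟨k, ?_⟩
    have := congrArg Subtype.val hk
    simpa using this
  have hQ : IsPGroup p Q := IsPGroup.of_card hcard
  have hcl : Cl2 p (g : Q) := by
    refine ⟨?_, ?_, fun x => Subgroup.mem_center_iff.mp g.2 x, ?_⟩
    · intro h
      rw [h, orderOf_one] at hgo
      exact hp.out.one_lt.ne hgo
    · rw [← hgo]; exact pow_orderOf_eq_one _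
    · intro x y
      obtain ⟨k, hk⟩ := Subgroup.mem_zpowers_iff.mp (hmem _ (hcomm x y))
      exact ⟨k, hk.symm⟩
  exact isExtraspecial_of_cl2 hQ hcl (fun x => hmem _ (hpow x)) hmem hna

theorem not_cyclic_of_elementary {A : Subgroup Q} (hel : IsElementaryAbelian p A)
    (hcard : Nat.card A = p ^ 2) : ¬ IsCyclic A := by
  intro hcyc
  obtain ⟨g, hg⟩ := IsCyclic.exists_generator (α := A)
  have h1 : orderOf g = p ^ 2 := by rw [orderOf_eq_card_of_forall_mem_zpowers hg, hcard]
  have h2 : g ^ p = 1 := Subtype.ext (by simpa using hel.2 g g.2)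
  have h3 := orderOf_dvd_of_pow_eq_one h2
  rw [h1] at h3
  have h4 := Nat.le_of_dvd hp.out.pos h3
  have h5 : p < p ^ 2 := by
    calc p = p ^ 1 := (pow_one p).symm
      _ < p ^ 2 := Nat.pow_lt_pow_right hp.out.one_lt (by norm_num)
  omega

end small

section outputs

variable {G : Type u} [Group G] [Finite G] {p : ℕ} [hp : Fact p.Prime]

/-- the shape of the conclusion -/
def Concl (p : ℕ) (G : Type u) [Group G] : Prop :=
  ∃ E R : Subgroup G, (∀ e ∈ E, ∀ r ∈ R, e * r = r * e) ∧ E ⊔ R = ⊤ ∧
    (E = ⊥ ∨ Cfsg.IsExtraspecial p ↥E) ∧ (IsCyclic R ∨ (p = 2 ∧ 16 ≤ Nat.card R ∧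
      ((∃ m : ℕ, Nonempty (↥R ≃* DihedralGroup m)) ∨ (∃ m : ℕ, Nonempty (↥R ≃* QuaternionGroup m)) ∨
        Cfsg.IsQuasiDihedral ↥R)))

theorem out_es (hes : IsExtraspecial p G) : Concl p G := by
  refine ⟨⊤, ⊥, ?_, by simp, Or.inr (isExtraspecial_congr Subgroup.topEquiv.symm hes),
    Or.inl inferInstance⟩
  intro e _ r hr
  rw [Subgroup.mem_bot.mp hr, mul_one, one_mul]

theorem out_top (h : IsCyclic G ∨ (p = 2 ∧ 16 ≤ Nat.card G ∧
      ((∃ m : ℕ, Nonempty (G ≃* DihedralGroup m)) ∨ (∃ m : ℕ, Nonempty (G ≃* QuaternionGroup m)) ∨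
        Cfsg.IsQuasiDihedral G))) : Concl p G := by
  refine ⟨⊥, ⊤, ?_, by simp, Or.inl rfl, ?_⟩
  · intro e he r _
    rw [Subgroup.mem_bot.mp he, mul_one, one_mul]
  · rcases h with h | ⟨h2, h16, h⟩
    · left
      exact isCyclic_of_surjective (Subgroup.topEquiv (G := G)).symm
        (Subgroup.topEquiv (G := G)).symm.surjective
    · right
      refine ⟨h2, by rw [Subgroup.card_top]; exact h16, ?_⟩
      rcases h with ⟨m, ⟨e⟩⟩ | ⟨m, ⟨e⟩⟩ | ⟨n, hn, hcard, x, y, hx, hy, hxy⟩
      · exact Or.inl ⟨m, ⟨Subgroup.topEquiv.trans e⟩⟩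
      · exact Or.inr (Or.inl ⟨m, ⟨Subgroup.topEquiv.trans e⟩⟩)
      · refine Or.inr (Or.inr ⟨n, hn, by rw [Subgroup.card_top]; exact hcard,
          (Subgroup.topEquiv (G := G)).symm x, (Subgroup.topEquiv (G := G)).symm y, ?_, ?_, ?_⟩)
        · rw [MulEquiv.orderOf_eq]; exact hx
        · rw [MulEquiv.orderOf_eq]; exact hy
        · rw [← map_inv, ← map_mul, ← map_mul, ← map_pow, hxy]

end outputs

section caseA

variable {G : Type u} [Group G] [Finite G] {p : ℕ} [hp : Fact p.Prime]

theorem caseA (hG : IsPGroup p G)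
    (hsymp : ∀ A : Subgroup G, A.Characteristic → IsMulCommutative A → IsCyclic A)
    (C : Subgroup G) (hCchar : C.Characteristic)
    (hcc : Subgroup.centralizer (C : Set G) ≤ C)
    (hCab : ∀ x ∈ C, ∀ y ∈ C, x * y = y * x) : Concl p G := by
  classical
  by_cases hGab : ∀ x y : G, x * y = y * x
  · have h1 : IsCyclic (⊤ : Subgroup G) :=
      hsymp ⊤ inferInstance (isMulCommutative_of_comm _ (fun a _ b _ => hGab a b))
    exact ⟨⊥, ⊤, fun e he r _ => by rw [Subgroup.mem_bot.mp he, mul_one, one_mul], by simp,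
      Or.inl rfl, Or.inl h1⟩
  · have hna : ¬ IsMulCommutative G := fun h => hGab (fun x y => h.is_comm.comm x y)
    haveI : C.Normal := by
      haveI := hCchar
      infer_instance
    have hCcyc : IsCyclic C := hsymp C hCchar (isMulCommutative_of_comm _ hCab)
    obtain ⟨n, hn⟩ := (IsPGroup.iff_card).mp (hG.to_subgroup C)
    have hC : Subgroup.centralizer (C : Set G) = C := by
      apply le_antisymm hcc
      intro x hx
      rw [Subgroup.mem_centralizer_iff]
      intro y hy
      exact hCab y hy x hx
    rcases Cfsg.Agent.S3761.result hG hna C hCcyc n hn hC with ⟨h2, hcard, hD⟩ | ⟨-, hel, hcard2, hchar⟩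
    · by_cases hn3 : 3 ≤ n
      · apply out_top
        right
        refine ⟨h2, ?_, hD⟩
        rw [hcard]
        calc 16 = 2 ^ 4 := by norm_num
          _ ≤ 2 ^ (n + 1) := Nat.pow_le_pow_right (by norm_num) (by omega)
      · subst h2
        have hn2 : n + 1 = 3 := by
          by_contra hne
          have : n + 1 ≤ 2 := by omega
          exact hGab (comm_of_card_le_sq (p := 2) hcard this)
        rw [hn2] at hcard
        exact out_es (extraspecial_of_cube hcard hGab)
    · exact (not_cyclic_of_elementary hel hcard2 (hsymp _ hchar hel.1)).elim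

end caseA

section caseB

variable {G : Type u} [Group G] [Finite G] {p : ℕ} [hp : Fact p.Prime]

/-- `G = E R` is extraspecial when `R = C_G(E)` is non-abelian of order `p ^ 3` -/
theorem es_of_cube (hG : IsPGroup p G) {C E : Subgroup G} {c : G} (D : Dec p C E c)
    (hcard : Nat.card (Subgroup.centralizer (E : Set G)) = p ^ 3)
    (hna : ¬ ∀ r ∈ Subgroup.centralizer (E : Set G), ∀ r' ∈ Subgroup.centralizer (E : Set G),
      r * r' = r' * r) : IsExtraspecial p G := by
  set R : Subgroup G := Subgroup.centralizer (E : Set G) with hR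
  have hER : ∀ e ∈ E, ∀ r ∈ R, e * r = r * e := fun e he r hr =>
    Subgroup.mem_centralizer_iff.mp hr e he
  have hnaR : ¬ ∀ x y : R, x * y = y * x := by
    intro h
    apply hna
    intro r hr r' hr'
    have := h ⟨r, hr⟩ ⟨r', hr'⟩
    simpa using congrArg Subtype.val this
  obtain ⟨hZ, hcomm, hpow⟩ := cube_facts hcard hnaR
  have hccen : ∀ g : G, g * c = c * g := Subgroup.mem_center_iff.mp D.cZ
  have hcR : c ∈ R := by
    rw [hR, Subgroup.mem_centralizer_iff]
    intro e _
    exact hccen e
  -- the centre of `R` is `⟨c⟩`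
  have hcenR : ∀ w : R, w ∈ Subgroup.center R → (w : G) ∈ Subgroup.zpowers c := by
    have h1 : Subgroup.zpowers (⟨c, hcR⟩ : R) ≤ Subgroup.center R := by
      rw [Subgroup.zpowers_le, Subgroup.mem_center_iff]
      intro g
      exact Subtype.ext (hccen g)
    have h2 : Subgroup.zpowers (⟨c, hcR⟩ : R) = Subgroup.center R := by
      apply Subgroup.eq_of_le_of_card_ge h1
      rw [hZ, Nat.card_zpowers, Subgroup.orderOf_mk, D.co]
    intro w hw
    rw [← h2] at hw
    obtain ⟨k, hk⟩ := Subgroup.mem_zpowers_iff.mp hw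
    rw [Subgroup.mem_zpowers_iff]
    refine ⟨k, ?_⟩
    have := congrArg Subtype.val hk
    simpa using this
  have hc1 : c ≠ 1 := by
    intro h
    have := D.co
    rw [h, orderOf_one] at this
    exact hp.out.one_lt.ne this
  have hcp : c ^ p = 1 := by rw [← D.co]; exact pow_orderOf_eq_one c
  have hcl : Cl2 p c := by
    refine ⟨hc1, hcp, hccen, ?_⟩
    intro x y
    obtain ⟨e, he, r, hr, rfl⟩ := D.prod x
    obtain ⟨e', he', r', hr', rfl⟩ := D.prod y
    rw [comm_prod hER he he' hr hr']
    have h1 := D.comm e (D.le he) e' (D.le he')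
    have h2 : ⁅r, r'⁆ ∈ Subgroup.zpowers c := by
      have := hcenR _ (hcomm ⟨r, hr⟩ ⟨r', hr'⟩)
      simpa [commutatorElement_def] using this
    obtain ⟨k, hk⟩ := Subgroup.mem_zpowers_iff.mp (mul_mem h1 h2)
    exact ⟨k, hk.symm⟩
  apply isExtraspecial_of_cl2 hG hcl
  · intro x
    obtain ⟨e, he, r, hr, rfl⟩ := D.prod x
    rw [(show Commute e r from hER e he r hr).mul_pow]
    refine mul_mem (D.powE e he) ?_
    have := hcenR _ (hpow ⟨r, hr⟩)
    simpa using this
  · intro w hw
    rw [Subgroup.mem_center_iff] at hw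
    have hwR : w ∈ R := by
      rw [hR, Subgroup.mem_centralizer_iff]
      intro e _
      exact hw e
    apply hcenR ⟨w, hwR⟩
    rw [Subgroup.mem_center_iff]
    intro g
    exact Subtype.ext (hw g)
  · intro h
    apply hna
    intro r _ r' _
    exact h r r'

/-- in a cyclic group of order `p ^ k`, `k ≥ 3`, elements of order dividing `p ^ 2` are `p`-th
powers -/
theorem exists_root {Z : Subgroup G} (hcyc : IsCyclic Z) {k : ℕ} (hk : 3 ≤ k)
    (hcard : Nat.card Z = p ^ k) {w : G} (hw : w ∈ Z) (hw2 : w ^ (p * p) = 1) :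
    ∃ z ∈ Z, w = z ^ p := by
  obtain ⟨g, hg⟩ := IsCyclic.exists_generator (α := Z)
  have hgo : orderOf (g : G) = p ^ k := by
    rw [Subgroup.orderOf_coe, orderOf_eq_card_of_forall_mem_zpowers hg, hcard]
  obtain ⟨j, hj⟩ := Subgroup.mem_zpowers_iff.mp (hg ⟨w, hw⟩)
  have hj' : (g : G) ^ j = w := by
    have := congrArg Subtype.val hj
    simpa using this
  have h1 : (g : G) ^ (j * ((p : ℤ) * p)) = 1 := by
    rw [zpow_mul, hj', ← Nat.cast_mul, zpow_natCast, hw2]
  have h2 : ((p ^ k : ℕ) : ℤ) ∣ j * ((p : ℤ) * p) := by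
    rw [← hgo]; exact orderOf_dvd_iff_zpow_eq_one.mpr h1
  have h3 : ((p ^ k : ℕ) : ℤ) = (p : ℤ) ^ (k - 2) * ((p : ℤ) * p) := by
    push_cast
    rw [← sq, ← pow_add]; congr 1; omega
  rw [h3] at h2
  have hpp : ((p : ℤ) * p) ≠ 0 := by
    have : (p : ℤ) ≠ 0 := by exact_mod_cast hp.out.ne_zero
    exact mul_ne_zero this this
  have h4 : (p : ℤ) ^ (k - 2) ∣ j := Int.dvd_of_mul_dvd_mul_right hpp h2
  have h5 : (p : ℤ) ∣ j := (dvd_pow_self (p : ℤ) (by omega)).trans h4
  obtain ⟨j', rfl⟩ := h5
  refine ⟨(g : G) ^ j', Subgroup.zpow_mem _ g.2 _, ?_⟩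
  rw [← hj', mul_comm, zpow_mul, zpow_natCast]

theorem caseB (hG : IsPGroup p G)
    (hsymp : ∀ A : Subgroup G, A.Characteristic → IsMulCommutative A → IsCyclic A)
    (C : Subgroup G) (hCchar : C.Characteristic)
    (hcc : Subgroup.centralizer (C : Set G) ≤ C) {E : Subgroup G} {c : G} (D : Dec p C E c) :
    Concl p G := by
  classical
  set R : Subgroup G := Subgroup.centralizer (E : Set G) with hR
  set Z : Subgroup G := Subgroup.centralizer (C : Set G) with hZ
  have hER : ∀ e ∈ E, ∀ r ∈ R, e * r = r * e := fun e he r hr =>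
    Subgroup.mem_centralizer_iff.mp hr e he
  have hsup : E ⊔ R = ⊤ := by
    rw [eq_top_iff]
    intro g _
    obtain ⟨e, he, r, hr, rfl⟩ := D.prod g
    exact mul_mem (Subgroup.mem_sup_left he) (Subgroup.mem_sup_right hr)
  have hZchar : Z.Characteristic := by
    haveI := hCchar
    rw [hZ]
    infer_instance
  haveI hZn : Z.Normal := by
    haveI := hZchar
    infer_instance
  have hZR : Z ≤ R := by
    intro z hz
    rw [hR, Subgroup.mem_centralizer_iff]
    intro e he
    exact Subgroup.mem_centralizer_iff.mp hz e (D.le he)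
  have hZself : ∀ r ∈ R, (∀ z ∈ Z, z * r = r * z) → r ∈ Z := by
    intro r hr h
    rw [hZ, Subgroup.mem_centralizer_iff]
    intro x hx
    obtain ⟨e, he, z, hz, rfl⟩ := D.dec x hx
    have h1 := hER e he r hr
    have h2 := h z hz
    calc e * z * r = e * (z * r) := mul_assoc _ _ _
      _ = e * (r * z) := by rw [h2]
      _ = (e * r) * z := (mul_assoc _ _ _).symm
      _ = (r * e) * z := by rw [h1]
      _ = r * (e * z) := mul_assoc _ _ _
  have hZcomm : ∀ a ∈ Z, ∀ b ∈ Z, a * b = b * a := by
    intro a ha b hb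
    exact (Subgroup.mem_centralizer_iff.mp ha b (hcc hb)).symm
  have hZcyc : IsCyclic Z := hsymp Z hZchar (isMulCommutative_of_comm Z hZcomm)
  have hccen : ∀ g : G, g * c = c * g := Subgroup.mem_center_iff.mp D.cZ
  have hcZ : c ∈ Z := by
    rw [hZ, Subgroup.mem_centralizer_iff]
    intro x _
    exact hccen x
  have hzc_pow : ∀ w ∈ Subgroup.zpowers c, w ^ p = 1 := by
    intro w hw
    obtain ⟨j, rfl⟩ := Subgroup.mem_zpowers_iff.mp hw
    rw [← zpow_natCast, ← zpow_mul, mul_comm, zpow_mul, zpow_natCast, ← D.co, pow_orderOf_eq_one,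
      one_zpow]
  have hzc_cen : ∀ w ∈ Subgroup.zpowers c, ∀ g : G, g * w = w * g := by
    intro w hw g
    obtain ⟨j, rfl⟩ := Subgroup.mem_zpowers_iff.mp hw
    exact ((show Commute g c from hccen g).zpow_right j).eq
  by_cases hRab : ∀ r ∈ R, ∀ r' ∈ R, r * r' = r' * r
  · -- `R = Z` is cyclic
    have hRZ : R = Z := le_antisymm (fun r hr => hZself r hr (fun z hz => hRab z (hZR hz) r hr)) hZR
    refine ⟨E, R, hER, hsup, Or.inr D.es, Or.inl ?_⟩
    rw [hRZ]
    exact hZcyc
  · -- `R` is not abelian
    haveI := hZcyc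
    let U : Subgroup R := Z.subgroupOf R
    haveI hUn : U.Normal := inferInstance
    let eU : U ≃* Z := Subgroup.subgroupOfEquivOfLe hZR
    have hUcyc : IsCyclic U := isCyclic_of_surjective eU.symm eU.symm.surjective
    obtain ⟨k, hk⟩ := (IsPGroup.iff_card).mp (hG.to_subgroup Z)
    have hUk : Nat.card U = p ^ k := by rw [Nat.card_congr eU.toEquiv]; exact hk
    have hUC : Subgroup.centralizer (U : Set R) = U := by
      ext r
      constructor
      · intro h
        rw [Subgroup.mem_subgroupOf]
        apply hZself r.1 r.2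
        intro z hz
        have := Subgroup.mem_centralizer_iff.mp h ⟨z, hZR hz⟩
          (by rw [SetLike.mem_coe, Subgroup.mem_subgroupOf]; exact hz)
        simpa using congrArg Subtype.val this
      · intro h
        rw [Subgroup.mem_centralizer_iff]
        intro u hu
        exact Subtype.ext (hZcomm u.1 (Subgroup.mem_subgroupOf.mp hu) r.1
          (Subgroup.mem_subgroupOf.mp h))
    have hnaR' : ¬ ∀ x y : R, x * y = y * x := by
      intro h
      apply hRab
      intro r hr r' hr'
      have := h ⟨r, hr⟩ ⟨r', hr'⟩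
      simpa using congrArg Subtype.val this
    have hnaR : ¬ IsMulCommutative R := fun h => hnaR' (fun x y => h.is_comm.comm x y)
    -- the small case
    have hsmall : Nat.card R = p ^ 3 → Concl p G := fun h => out_es (es_of_cube hG D h hRab)
    rcases Cfsg.Agent.S3761.result (hG.to_subgroup R) hnaR U hUcyc k hUk hUC with
      ⟨h2, hcardR, hD⟩ | ⟨hrel, hel, hcard2, hchar⟩
    · by_cases hk3 : 3 ≤ k
      · refine ⟨E, R, hER, hsup, Or.inr D.es, Or.inr ⟨h2, ?_, hD⟩⟩
        rw [hcardR]
        calc 16 = 2 ^ 4 := by norm_num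
          _ ≤ 2 ^ (k + 1) := Nat.pow_le_pow_right (by norm_num) (by omega)
      · subst h2
        have hk2 : k + 1 = 3 := by
          by_contra hne
          have : k + 1 ≤ 2 := by omega
          exact hnaR' (comm_of_card_le_sq (p := 2) hcardR this)
        rw [hk2] at hcardR
        exact hsmall hcardR
    · by_cases hk3 : 3 ≤ k
      · exfalso
        -- the characteristic subgroup `E Z^p`
        have hC1char : (E ⊔ powerClosure p 1 Z).Characteristic := by
          rw [Subgroup.characteristic_iff_le_comap]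
          intro φ
          apply sup_le
          · intro e he
            rw [Subgroup.mem_comap]
            show φ e ∈ _
            have heC : φ e ∈ C := char_mem hCchar φ (D.le he)
            obtain ⟨e₂, he₂, z₂, hz₂, hez⟩ := D.dec _ heC
            have hφc : φ c ∈ Subgroup.zpowers c := by
              apply D.omega _ (char_mem hZchar φ hcZ)
              rw [← map_pow, ← D.co, pow_orderOf_eq_one, map_one]
            have h1 : (φ e) ^ p ∈ Subgroup.zpowers c := by
              obtain ⟨j, hj⟩ := Subgroup.mem_zpowers_iff.mp (D.powE e he)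
              rw [← map_pow, ← hj, map_zpow]
              exact Subgroup.zpow_mem _ hφc j
            have hcm : Commute e₂ z₂ := Subgroup.mem_centralizer_iff.mp hz₂ e₂ (D.le he₂)
            have h2 : z₂ ^ p ∈ Subgroup.zpowers c := by
              rw [hez, hcm.mul_pow] at h1
              have : z₂ ^ p = (e₂ ^ p)⁻¹ * (e₂ ^ p * z₂ ^ p) := by group
              rw [this]
              exact mul_mem (inv_mem (D.powE e₂ he₂)) h1
            have h3 : z₂ ^ (p * p) = 1 := by rw [pow_mul]; exact hzc_pow _ h2
            obtain ⟨z₃, hz₃, hz₃'⟩ := exists_root hZcyc hk3 hk hz₂ h3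
            rw [hez, hz₃']
            refine mul_mem (Subgroup.mem_sup_left he₂) (Subgroup.mem_sup_right ?_)
            exact Subgroup.subset_closure ⟨z₃, hz₃, by rw [pow_one]⟩
          · unfold powerClosure
            rw [Subgroup.closure_le]
            rintro _ ⟨z, hz, rfl⟩
            rw [SetLike.mem_coe, Subgroup.mem_comap]
            apply Subgroup.mem_sup_right
            exact Subgroup.subset_closure ⟨φ z, char_mem hZchar φ hz, map_pow φ.toMonoidHom z _⟩
        have hNchar : (Subgroup.centralizer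
            ((E ⊔ powerClosure p 1 Z : Subgroup G) : Set G)).Characteristic := by
          haveI := hC1char
          infer_instance
        have hTchar : (omegaOne p (Subgroup.centralizer
            ((E ⊔ powerClosure p 1 Z : Subgroup G) : Set G))).Characteristic := by
          rw [Subgroup.characteristic_iff_le_comap]
          intro φ
          unfold omegaOne
          rw [Subgroup.closure_le]
          rintro x ⟨hxN, hxp⟩
          rw [SetLike.mem_coe, Subgroup.mem_comap]
          refine Subgroup.subset_closure ⟨char_mem hNchar φ hxN, ?_⟩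
          show (φ x) ^ p = 1
          rw [← map_pow, hxp, map_one]
        have hTeq : omegaOne p (Subgroup.centralizer
            ((E ⊔ powerClosure p 1 Z : Subgroup G) : Set G)) =
            (omegaOne p (Subgroup.centralizer (powerClosure p 1 U : Set R))).map R.subtype := by
          unfold omegaOne
          rw [MonoidHom.map_closure]
          congr 1
          ext x
          constructor
          · rintro ⟨hxN, hxp⟩
            obtain ⟨hxE, hxZp⟩ := mem_centralizer_sup.mp hxN
            have hxR : x ∈ R := by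
              rw [hR, Subgroup.mem_centralizer_iff]
              exact hxE
            refine ⟨⟨x, hxR⟩, ⟨?_, Subtype.ext (by simpa using hxp)⟩, rfl⟩
            unfold powerClosure
            rw [mem_centralizer_closure]
            rintro _ ⟨u, hu, rfl⟩
            apply Subtype.ext
            have h1 : ((u : G)) ^ p ^ 1 ∈ powerClosure p 1 Z :=
              Subgroup.subset_closure ⟨u, Subgroup.mem_subgroupOf.mp hu, rfl⟩
            have := hxZp _ h1
            simpa using this
          · rintro ⟨y, ⟨hyM, hyp⟩, rfl⟩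
            refine ⟨?_, by simpa using congrArg Subtype.val hyp⟩
            rw [mem_centralizer_sup]
            refine ⟨fun e he => Subgroup.mem_centralizer_iff.mp y.2 e he, ?_⟩
            have h1 : (y : G) ∈ Subgroup.centralizer ((powerClosure p 1 Z : Subgroup G) : Set G) := by
              unfold powerClosure
              rw [mem_centralizer_closure]
              rintro _ ⟨z, hz, rfl⟩
              unfold powerClosure at hyM
              rw [mem_centralizer_closure] at hyM
              have := hyM ((⟨z, hZR hz⟩ : R) ^ p ^ 1)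
                ⟨⟨z, hZR hz⟩, by rw [Subgroup.mem_subgroupOf]; exact hz, rfl⟩
              simpa using congrArg Subtype.val this
            exact fun b hb => Subgroup.mem_centralizer_iff.mp h1 b hb
        have hTcomm : IsMulCommutative (omegaOne p (Subgroup.centralizer
            ((E ⊔ powerClosure p 1 Z : Subgroup G) : Set G))) := by
          rw [hTeq]
          apply isMulCommutative_of_comm
          rintro _ ⟨a, ha, rfl⟩ _ ⟨b, hb, rfl⟩
          have := hel.1.is_comm.comm ⟨a, ha⟩ ⟨b, hb⟩
          have h2 := congrArg Subtype.val this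
          simpa using congrArg Subtype.val h2
        have hTcyc := hsymp _ hTchar hTcomm
        rw [hTeq] at hTcyc
        let e := (omegaOne p (Subgroup.centralizer (powerClosure p 1 U : Set R))).equivMapOfInjective
          R.subtype (Subgroup.subtype_injective R)
        haveI := hTcyc
        exact not_cyclic_of_elementary hel hcard2 (isCyclic_of_surjective e.symm e.symm.surjective)
      · -- `k ≤ 2`
        have hMtop : Subgroup.centralizer (powerClosure p 1 U : Set R) = ⊤ := by
          rw [Subgroup.eq_top_iff']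
          intro r
          unfold powerClosure
          rw [mem_centralizer_closure]
          rintro _ ⟨u, hu, rfl⟩
          apply Subtype.ext
          have huZ : (u : G) ∈ Z := Subgroup.mem_subgroupOf.mp hu
          have h1 : ((u : G) ^ p) ^ p = 1 := by
            have h2 : (⟨(u : G), huZ⟩ : Z) ^ Nat.card Z = 1 := pow_card_eq_one'
            rw [hk] at h2
            have h3 : (u : G) ^ p ^ k = 1 := by simpa using congrArg Subtype.val h2
            have h4 : p ^ k ∣ p * p := by
              rw [← sq]; exact Nat.pow_dvd_pow p (by omega)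
            obtain ⟨q, hq⟩ := h4
            rw [← pow_mul, hq, pow_mul, h3, one_pow]
          have h5 := hzc_cen _ (D.omega _ (Subgroup.pow_mem _ huZ p) h1) (r : G)
          simp only [pow_one, Subgroup.coe_mul, Subgroup.coe_pow]
          exact h5.symm
        rw [hMtop, Subgroup.relIndex_top_right] at hrel
        have h1 := Subgroup.card_mul_index U
        rw [hrel, hUk] at h1
        have hcardR : Nat.card R = p ^ (k + 1) := by rw [← h1, pow_succ]
        have hk2 : k + 1 = 3 := by
          by_contra hne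
          have : k + 1 ≤ 2 := by omega
          exact hnaR' (comm_of_card_le_sq hcardR this)
        rw [hk2] at hcardR
        exact hsmall hcardR

end caseB

/-- Let G be a finite p-group of symplectic type: every characteristic abelian subgroup of G is cyclic. Then G = E ∗ R is a central product of subgroups E and R (they commute elementwise and generate G) where E is extraspecial or trivial, and R is cyclic, or p = 2 and R is dihedral, semidihedral or generalized quaternion of order at least 16. -/
theorem result {G : Type*} [Group G] [Finite G] {p : ℕ} [Fact p.Prime] (hG : IsPGroup p G) (hsymp : ∀ A : Subgroup G, A.Characteristic → IsMulCommutative A → IsCyclic A) : ∃ E R : Subgroup G, (∀ e ∈ E, ∀ r ∈ R, e * r = r * e) ∧ E ⊔ R = ⊤ ∧ (E = ⊥ ∨ Cfsg.IsExtraspecial p ↥E) ∧ (IsCyclic R ∨ (p = 2 ∧ 16 ≤ Nat.card R ∧ ((∃ m : ℕ, Nonempty (↥R ≃* DihedralGroup m)) ∨ (∃ m : ℕ, Nonempty (↥R ≃* QuaternionGroup m)) ∨ Cfsg.IsQuasiDihedral ↥R))) := by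
  classical
  obtain ⟨C, hCchar, hΦ, hcomm, hcc⟩ := Cfsg.Agent.H1.exists_critical_subgroup' hG
  by_cases hCab : ∀ x ∈ C, ∀ y ∈ C, x * y = y * x
  · exact caseA hG hsymp C hCchar hcc hCab
  · obtain ⟨E, c, D⟩ := exists_dec hG hsymp C hCchar hΦ hcomm hcc hCab
    exact caseB hG hsymp C hCchar hcc D

end Cfsg.Agent.S3762
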