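import Cfsg.Statements.S3763
import Cfsg.Agent.Lib.Lead.Extraspecial2Rank

set_option autoImplicit false
open Cfsg

namespace Cfsg.Agent.S3763

open Cfsg.Agent.Lead.ES2

theorem result {E : Type*} [Group E] [Finite E] (hE : Cfsg.IsExtraspecial 2 E) (n : ℕ) (hn : Nat.card E = 2 ^ (2 * n + 1)) : ((Cfsg.PRankLE 2 n E ∧ ¬ Cfsg.PRankLE 2 (n - 1) E) ∨ (Cfsg.PRankLE 2 (n + 1) E ∧ ¬ Cfsg.PRankLE 2 n E)) ∧ ∀ (E' : Type*) [Group E'] [Finite E'], Cfsg.IsExtraspecial 2 E' → Nat.card E' = Nat.card E → (∀ k : ℕ, Cfsg.PRankLE 2 k E ↔ Cfsg.PRankLE 2 k E') → Nonempty (E ≃* E') := by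
  obtain ⟨m, hm1, hm, hN⟩ := type_of hE
  have e : m = n := by
    have := Nat.pow_right_injective (le_refl 2) (hm.symm.trans hn)
    omega
  subst e
  constructor
  · rcases hN with h | h
    · right
      exact ⟨(rank_plus hE m hn h).1, (rank_plus hE m hn h).2.1⟩
    · left
      exact ⟨(rank_minus hE m hm1 hn h).1, (rank_minus hE m hm1 hn h).2.1⟩
  · intro E' _ _ hE' hc hk
    obtain ⟨m', hm1', hm', hN'⟩ := type_of hE'
    have e : m' = m := by
      have := Nat.pow_right_injective (le_refl 2) (hm'.symm.trans (hc.trans hn))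
      omega
    subst e
    apply iso_of_NN hE hE' hc.symm
    rcases hN with h | h <;> rcases hN' with h' | h'
    · rw [h, h']
    · exfalso
      exact (rank_plus hE m' hn h).2.1 ((hk m').mpr (rank_minus hE' m' hm1 hm' h').1)
    · exfalso
      exact (rank_plus hE' m' hm' h').2.1 ((hk m').mp (rank_minus hE m' hm1 hn h).1)
    · omega

end Cfsg.Agent.S3763
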