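import Mathlib
import Cfsg.Statements.S3765
import Cfsg.Agent.H2.HHe

set_option autoImplicit false
open Cfsg

namespace Cfsg.Agent.S3765

/-- Let p, q, r be distinct primes and let X, Q, V be subgroups of a finite group with X of order r normalizing the q-group Q and acting faithfully on it (X ∩ C(Q) = 1), and V a nontrivial elementary abelian p-group normalized by X and Q on which XQ acts faithfully. If q = 2 and r has the form 2^n + 1, assume in addition that Q is abelian. Then C_V(X) ≠ 1. -/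
theorem result {G : Type*} [Group G] [Finite G] {p q r : ℕ} (hp : p.Prime) (hq : q.Prime) (hr : r.Prime) (hpq : p ≠ q) (hpr : p ≠ r) (hqr : q ≠ r) (X Q V : Subgroup G) (hX : Nat.card X = r) (hQ : IsPGroup q Q) (hXQ : X ≤ Subgroup.normalizer (Q : Set G)) (hXfaith : X ⊓ Subgroup.centralizer (Q : Set G) = ⊥) (hV : Cfsg.IsElementaryAbelian p V) (hV1 : V ≠ ⊥) (hXV : X ≤ Subgroup.normalizer (V : Set G)) (hQV : Q ≤ Subgroup.normalizer (V : Set G)) (hfaith : (X ⊔ Q) ⊓ Subgroup.centralizer (V : Set G) = ⊥) (hexc : q = 2 → (∃ n : ℕ, r = 2 ^ n + 1) → IsMulCommutative Q) : V ⊓ Subgroup.centralizer (X : Set G) ≠ ⊥ := by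
  classical
  intro hCV
  haveI : Fact r.Prime := ⟨hr⟩
  -- a generator of X
  have hXnt : Nontrivial X := by
    rw [← Finite.one_lt_card_iff_nontrivial, hX]
    exact hr.one_lt
  obtain ⟨⟨x, hxX⟩, hx1⟩ := exists_ne (1 : X)
  have hx1' : x ≠ 1 := fun h => hx1 (Subtype.ext h)
  have hxr : x ^ r = 1 := by
    have h3 : (⟨x, hxX⟩ : X) ^ Nat.card X = 1 := pow_card_eq_one'
    have h4 := congrArg Subtype.val h3
    rwa [Subgroup.coe_pow, hX] at h4
  have hord : orderOf x = r := orderOf_eq_prime hxr hx1'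
  have hzp : Subgroup.zpowers x = X := by
    apply Subgroup.eq_of_le_of_card_ge (Subgroup.zpowers_le.2 hxX)
    rw [Nat.card_zpowers, hord, hX]
  have hxQ : ∀ g ∈ Q, x * g * x⁻¹ ∈ Q := fun g hg =>
    (Subgroup.mem_normalizer_iff.1 (hXQ hxX) g).1 hg
  have hCVx : ∀ v ∈ V, x * v = v * x → v = 1 := by
    intro v hv hxv
    have h3 : v ∈ V ⊓ Subgroup.centralizer (X : Set G) := by
      refine ⟨hv, ?_⟩
      rw [← hzp]
      change v ∈ Subgroup.centralizer _
      rw [Subgroup.mem_centralizer_iff]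
      intro y hy
      obtain ⟨n, rfl⟩ := Subgroup.mem_zpowers_iff.1 hy
      have hc : Commute x v := hxv
      exact (hc.zpow_left n).eq
    rw [hCV, Subgroup.mem_bot] at h3
    exact h3
  have key := Cfsg.Agent.H2.HH.internal_T hp hq hr hpq hpr hqr Q V x hxr hQ hxQ
    (fun a ha b hb => by
      have := hV.1.is_comm.comm (⟨a, ha⟩ : V) ⟨b, hb⟩
      exact congrArg Subtype.val this)
    hV.2 (hXV hxX) hQV hCVx
    (fun h2 hn g hg h hh => by
      have := (hexc h2 hn).is_comm.comm (⟨g, hg⟩ : Q) ⟨h, hh⟩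
      exact congrArg Subtype.val this)
  -- x centralizes Q
  have hxcent : x ∈ X ⊓ Subgroup.centralizer (Q : Set G) := by
    refine ⟨hxX, ?_⟩
    change x ∈ Subgroup.centralizer _
    rw [Subgroup.mem_centralizer_iff]
    intro g hg
    have hc : (x * g)⁻¹ * (g * x) ∈ (X ⊔ Q) ⊓ Subgroup.centralizer (V : Set G) := by
      refine ⟨?_, ?_⟩
      · have hxs : x ∈ X ⊔ Q := Subgroup.mem_sup_left hxX
        have hgs : g ∈ X ⊔ Q := Subgroup.mem_sup_right hg
        exact Subgroup.mul_mem _ (Subgroup.inv_mem _ (Subgroup.mul_mem _ hxs hgs))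
          (Subgroup.mul_mem _ hgs hxs)
      · change _ ∈ Subgroup.centralizer _
        rw [Subgroup.mem_centralizer_iff]
        intro v hv
        have h3 := key g hg v hv
        have h4 : v * ((x * g)⁻¹ * (g * x)) = (x * g)⁻¹ * ((x * g) * v * (x * g)⁻¹) * (g * x) := by
          group
        rw [h4, ← h3]
        group
    rw [hfaith, Subgroup.mem_bot] at hc
    have h5 : g * x = x * g := by
      have : (x * g) * ((x * g)⁻¹ * (g * x)) = x * g := by rw [hc, mul_one]
      rw [mul_inv_cancel_left] at this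
      exact this
    exact h5
  rw [hXfaith, Subgroup.mem_bot] at hxcent
  exact hx1' hxcent

end Cfsg.Agent.S3765
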