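import Mathlib
import Cfsg.Statements.S3764
import Cfsg.Agent.H2.HHi
import Cfsg.Agent.S3765

set_option autoImplicit false
open Cfsg
open scoped commutatorElement

namespace Cfsg.Agent.S3764

/-- Let p, q, r be distinct primes and let X, Q, V be subgroups of a finite group with X of order r, Q an extraspecial q-group normalized by X with C_Q(X) = Z(Q), and V an elementary abelian p-group normalized by X and Q on which XQ acts faithfully ((X ⊔ Q) ∩ C(V) = 1). If C_V(X) = 1, then q = 2, r = 2^n + 1 for some n, and Q has order 2^(2n+1). -/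
theorem result {G : Type*} [Group G] [Finite G] {p q r : ℕ} (hp : p.Prime) (hq : q.Prime) (hr : r.Prime) (hpq : p ≠ q) (hpr : p ≠ r) (hqr : q ≠ r) (X Q V : Subgroup G) (hX : Nat.card X = r) (hQ : Cfsg.IsExtraspecial q ↥Q) (hXQ : X ≤ Subgroup.normalizer (Q : Set G)) (hCQ : Q ⊓ Subgroup.centralizer (X : Set G) = (Subgroup.center ↥Q).map Q.subtype) (hV : Cfsg.IsElementaryAbelian p V) (hXV : X ≤ Subgroup.normalizer (V : Set G)) (hQV : Q ≤ Subgroup.normalizer (V : Set G)) (hfaith : (X ⊔ Q) ⊓ Subgroup.centralizer (V : Set G) = ⊥) (hCV : V ⊓ Subgroup.centralizer (X : Set G) = ⊥) : q = 2 ∧ ∃ n : ℕ, r = 2 ^ n + 1 ∧ Nat.card Q = 2 ^ (2 * n + 1) := by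
  classical
  haveI : Fact r.Prime := ⟨hr⟩
  haveI : Fact q.Prime := ⟨hq⟩
  obtain ⟨⟨hQP, hfrat, hcommQ⟩, hcen⟩ := hQ
  -- a generator of X
  have hXnt : Nontrivial X := by
    rw [← Finite.one_lt_card_iff_nontrivial, hX]
    exact hr.one_lt
  obtain ⟨⟨x, hxX⟩, hx1⟩ := exists_ne (1 : X)
  have hx1' : x ≠ 1 := fun h => hx1 (Subtype.ext h)
  have hxr : x ^ r = 1 := by
    have h3 : (⟨x, hxX⟩ : X) ^ Nat.card X = 1 := pow_card_eq_one'
    have h4 := congrArg Subtype.val h3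
    rwa [Subgroup.coe_pow, hX] at h4
  have hord : orderOf x = r := orderOf_eq_prime hxr hx1'
  have hzp : Subgroup.zpowers x = X := by
    apply Subgroup.eq_of_le_of_card_ge (Subgroup.zpowers_le.2 hxX)
    rw [Nat.card_zpowers, hord, hX]
  have hxQ : ∀ g ∈ Q, x * g * x⁻¹ ∈ Q := fun g hg =>
    (Subgroup.mem_normalizer_iff.1 (hXQ hxX) g).1 hg
  have hcentX : ∀ g : G, g * x = x * g → g ∈ Subgroup.centralizer (X : Set G) := by
    intro g hgx
    rw [← hzp]
    change g ∈ Subgroup.centralizer _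
    rw [Subgroup.mem_centralizer_iff]
    intro y hy
    obtain ⟨n, rfl⟩ := Subgroup.mem_zpowers_iff.1 hy
    have hc : Commute x g := hgx.symm
    exact (hc.zpow_left n).eq
  have hCVx : ∀ v ∈ V, x * v = v * x → v = 1 := by
    intro v hv hxv
    have h3 : v ∈ V ⊓ Subgroup.centralizer (X : Set G) := ⟨hv, hcentX v hxv.symm⟩
    rw [hCV, Subgroup.mem_bot] at h3
    exact h3
  -- the centre
  set Z : Subgroup G := (Subgroup.center ↥Q).map Q.subtype with hZdef
  have hZQ : Z ≤ Q := by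
    rintro _ ⟨c, _, rfl⟩
    exact c.2
  have hZcard : Nat.card Z = q := by
    rw [hZdef, Subgroup.card_map_of_injective Q.subtype_injective, hcen]
  have hmemZ : ∀ g : Q, (g : G) ∈ Z ↔ g ∈ Subgroup.center ↥Q := by
    intro g
    constructor
    · rintro ⟨c, hc, hcg⟩
      have : c = g := Subtype.ext hcg
      rwa [← this]
    · intro hg
      exact ⟨g, hg, rfl⟩
  have hZc : ∀ z ∈ Z, ∀ g ∈ Q, z * g = g * z := by
    intro z hz g hg
    have h3 := (hmemZ ⟨z, hZQ hz⟩).1 hz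
    have h4 := Subgroup.mem_center_iff.1 h3 ⟨g, hg⟩
    exact (congrArg Subtype.val h4).symm
  have hZx : ∀ z ∈ Z, z * x = x * z := by
    intro z hz
    rw [← hCQ] at hz
    exact (Subgroup.mem_centralizer_iff.1 hz.2 x hxX).symm
  have hcomm : ∀ g ∈ Q, ∀ h ∈ Q, g * h * g⁻¹ * h⁻¹ ∈ Z := by
    intro g hg h hh
    have h3 : ⁅(⟨g, hg⟩ : Q), ⟨h, hh⟩⁆ ∈ commutator ↥Q := by
      rw [commutator_def]
      exact Subgroup.commutator_mem_commutator (Subgroup.mem_top _) (Subgroup.mem_top _)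
    rw [hcommQ] at h3
    have h4 := (hmemZ _).2 h3
    rw [commutatorElement_def] at h4
    exact h4
  have hZfull : ∀ g ∈ Q, (∀ h ∈ Q, g * h = h * g) → g ∈ Z := by
    intro g hg hall
    apply (hmemZ ⟨g, hg⟩).2
    rw [Subgroup.mem_center_iff]
    intro h
    apply Subtype.ext
    exact (hall h h.2).symm
  have hCQ' : ∀ g ∈ Q, g * x = x * g → g ∈ Z := by
    intro g hg hgx
    rw [← hCQ]
    exact ⟨hg, hcentX g hgx⟩
  -- Q is not abelian
  have hZne : Z ≠ Q := by
    intro h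
    have h3 : Subgroup.center ↥Q = ⊤ := by
      rw [eq_top_iff]
      intro g _
      apply (hmemZ g).1
      rw [h]
      exact g.2
    have h4 : commutator ↥Q = ⊥ := (commutator_eq_bot_iff_center_eq_top _).2 h3
    rw [hcommQ] at h4
    rw [h4, Subgroup.card_bot] at hcen
    exact hq.one_lt.ne hcen
  -- a nontrivial element of Z
  have hZnt : Nontrivial Z := by
    rw [← Finite.one_lt_card_iff_nontrivial, hZcard]
    exact hq.one_lt
  obtain ⟨⟨z₀, hz₀Z⟩, hz₀1⟩ := exists_ne (1 : Z)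
  have hz₀1' : z₀ ≠ 1 := fun h => hz₀1 (Subtype.ext h)
  have hz₀V : ∃ v ∈ V, z₀ * v ≠ v * z₀ := by
    by_contra hcon
    push Not at hcon
    have h3 : z₀ ∈ (X ⊔ Q) ⊓ Subgroup.centralizer (V : Set G) := by
      refine ⟨Subgroup.mem_sup_right (hZQ hz₀Z), ?_⟩
      change z₀ ∈ Subgroup.centralizer _
      rw [Subgroup.mem_centralizer_iff]
      intro v hv
      exact (hcon v hv).symm
    rw [hfaith, Subgroup.mem_bot] at h3
    exact hz₀1' h3
  -- the upper bound
  have hub := Cfsg.Agent.H2.HH.internal_E hp hq hr hpq hpr hqr Q Z V x hxr hQP hxQ hZQ hZcard hZc hZx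
    hcomm hZfull hCQ'
    (fun a ha b hb => by
      have := hV.1.is_comm.comm (⟨a, ha⟩ : V) ⟨b, hb⟩
      exact congrArg Subtype.val this)
    hV.2 (hXV hxX) hQV hCVx ⟨z₀, hz₀Z, hz₀V⟩
  -- q = 2 and r = 2 ^ n + 1
  have hqr2 : q = 2 ∧ ∃ n : ℕ, r = 2 ^ n + 1 := by
    by_contra hcon
    have hXfaith : X ⊓ Subgroup.centralizer (Q : Set G) = ⊥ := by
      by_contra hne
      obtain ⟨⟨y, hy⟩, hy1⟩ := (Subgroup.ne_bot_iff_exists_ne_one).1 hne
      have hy1' : y ≠ 1 := fun h => hy1 (Subtype.ext h)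
      have h3 : (⟨x, hxX⟩ : X) ∈ Subgroup.zpowers (⟨y, hy.1⟩ : X) :=
        mem_zpowers_of_prime_card hX (fun h => hy1' (congrArg Subtype.val h))
      obtain ⟨i, hi⟩ := Subgroup.mem_zpowers_iff.1 h3
      have h4 : y ^ i = x := by
        have := congrArg Subtype.val hi
        rwa [Subgroup.coe_zpow] at this
      have h5 : x ∈ Subgroup.centralizer (Q : Set G) := by
        rw [← h4]
        exact Subgroup.zpow_mem _ hy.2 i
      apply hZne
      apply le_antisymm hZQ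
      intro g hg
      apply hCQ' g hg
      exact Subgroup.mem_centralizer_iff.1 h5 g hg
    have hV1 : V ≠ ⊥ := by
      intro h
      have h3 : x ∈ (X ⊔ Q) ⊓ Subgroup.centralizer (V : Set G) := by
        refine ⟨Subgroup.mem_sup_left hxX, ?_⟩
        change x ∈ Subgroup.centralizer _
        rw [Subgroup.mem_centralizer_iff]
        intro v hv
        have hv' : v ∈ V := hv
        rw [h, Subgroup.mem_bot] at hv'
        rw [hv', one_mul, mul_one]
      rw [hfaith, Subgroup.mem_bot] at h3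
      exact hx1' h3
    exact Cfsg.Agent.S3765.result hp hq hr hpq hpr hqr X Q V hX hQP hXQ hXfaith hV hV1 hXV hQV hfaith
      (fun h2 hn => absurd ⟨h2, hn⟩ hcon) hCV
  obtain ⟨hq2, n, hn⟩ := hqr2
  refine ⟨hq2, n, hn, ?_⟩
  subst hq2
  -- card Q = 2 ^ m
  obtain ⟨m, hm⟩ := IsPGroup.iff_card.1 hQP
  have hmod := Cfsg.Agent.H2.HH.card_modEq_of_normalizes X Q r (IsPGroup.of_card (n := 1) (by rw [hX, pow_one])) hXQ
  rw [hCQ, hZcard, hm] at hmod
  rw [hm]
  -- m ≥ 2
  have hlt : Nat.card Z < Nat.card Q := by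
    by_contra hge
    push Not at hge
    exact hZne (Subgroup.eq_of_le_of_card_ge hZQ hge)
  rw [hZcard, hm] at hlt
  have hm2 : 2 ≤ m := by
    by_contra hlt2
    push Not at hlt2
    have : 2 ^ m ≤ 2 ^ 1 := Nat.pow_le_pow_right (by norm_num) (by omega)
    omega
  obtain ⟨s, rfl⟩ : ∃ s, m = s + 1 := ⟨m - 1, by omega⟩
  have hs1 : 1 ≤ s := by omega
  -- upper bound
  have hr1 : r - 1 = 2 ^ n := by rw [hn]; simp
  rw [hm, hr1] at hub
  have hub2 : 2 ^ (s + 1) ≤ 2 ^ (2 * n + 1) := by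
    calc 2 ^ (s + 1) ≤ 2 * (2 ^ n) ^ 2 := hub
      _ = 2 ^ (2 * n + 1) := by rw [← pow_mul, pow_succ, mul_comm n 2, mul_comm]
  have hs2 : s ≤ 2 * n := by
    have := (Nat.pow_le_pow_iff_right (by norm_num : 1 < 2)).1 hub2
    omega
  -- divisibility
  have hdvd : r ∣ 2 ^ s - 1 := by
    have h3 : 2 ≤ 2 ^ (s + 1) := by
      calc 2 = 2 ^ 1 := (pow_one 2).symm
        _ ≤ 2 ^ (s + 1) := Nat.pow_le_pow_right (by norm_num) (by omega)
    have h4 := (Nat.modEq_iff_dvd' h3).1 hmod.symm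
    have e : 2 ^ (s + 1) - 2 = 2 * (2 ^ s - 1) := by
      have : 1 ≤ 2 ^ s := Nat.one_le_two_pow
      rw [pow_succ]
      omega
    rw [e] at h4
    rcases (Nat.Prime.dvd_mul hr).1 h4 with h5 | h5
    · exact absurd ((Nat.prime_dvd_prime_iff_eq hr Nat.prime_two).1 h5).symm hqr
    · exact h5
  rw [hn] at hdvd
  have := Cfsg.Agent.H2.HH.nt_E n s hs1 hs2 hdvd
  rw [this]

end Cfsg.Agent.S3764
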