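import Cfsg.Statements.S3767
import Cfsg.Agent.Lib.Helper7.SympE

set_option autoImplicit false
open Cfsg

namespace Cfsg.Agent.S3767

/-- Let P be an extraspecial p-group of order p^(2n+1) and H a cyclic group of order h prime to p acting on P (inside a common finite group: H normalizes P) so that C_P(x) = Z(P) for every non-identity x ∈ H. Then h divides p^n + 1 or h divides p^n − 1. -/
theorem result {G : Type*} [Group G] [Finite G] {p : ℕ} [Fact p.Prime] (P H : Subgroup G) (hP : Cfsg.IsExtraspecial p ↥P) (n : ℕ) (hn : Nat.card P = p ^ (2 * n + 1)) (hH : IsCyclic H) (hcop : (Nat.card H).Coprime p) (hHP : H ≤ Subgroup.normalizer (P : Set G)) (hfix : ∀ x ∈ H, x ≠ 1 → P ⊓ Subgroup.centralizer {x} = (Subgroup.center ↥P).map P.subtype) : Nat.card H ∣ p ^ n + 1 ∨ Nat.card H ∣ p ^ n - 1 := by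
  classical
  have hp : p.Prime := Fact.out
  obtain ⟨z, C⟩ := Cfsg.Agent.H2.ESM.ctx_of_extraspecial hP
  obtain ⟨g, hg⟩ := hH.exists_generator
  have hord : orderOf g = Nat.card H := orderOf_eq_card_of_forall_mem_zpowers hg
  by_cases h1 : Nat.card H = 1
  · rw [h1]; left; exact one_dvd _
  have hh : 0 < Nat.card H := Nat.card_pos
  have hgN : (g : G) ∈ Subgroup.normalizer (P : Set G) := hHP g.2
  have hgN' : ∀ a : G, a ∈ P ↔ (g : G) * a * (g : G)⁻¹ ∈ P := fun a =>
    Subgroup.mem_normalizer_iff.mp hgN a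
  have hgN'' : ∀ a : G, a ∈ P → (g : G)⁻¹ * a * (g : G) ∈ P := by
    intro a ha
    rw [hgN']
    have : (g : G) * ((g : G)⁻¹ * a * (g : G)) * (g : G)⁻¹ = a := by group
    rwa [this]
  let φ : ↥P ≃* ↥P :=
    { toFun := fun a => ⟨(g : G) * a * (g : G)⁻¹, (hgN' a).mp a.2⟩
      invFun := fun a => ⟨(g : G)⁻¹ * a * (g : G), hgN'' a a.2⟩
      left_inv := fun a => Subtype.ext (by simp only []; group)
      right_inv := fun a => Subtype.ext (by simp only []; group)
      map_mul' := fun a b => Subtype.ext (by simp only [Subgroup.coe_mul]; group) }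
  have hφk : ∀ (k : ℕ) (a : ↥P), (((φ ^ k) a : ↥P) : G) = (g : G) ^ k * a * ((g : G) ^ k)⁻¹ := by
    intro k
    induction k with
    | zero => intro a; simp
    | succ k ih =>
      intro a
      rw [pow_succ', MulAut.mul_apply]
      change (g : G) * (((φ ^ k) a : ↥P) : G) * (g : G)⁻¹ = _
      rw [ih, pow_succ']
      group
  have hgk : ∀ k : ℕ, 0 < k → k < Nat.card H → (g : G) ^ k ≠ 1 := by
    intro k hk hkh h0
    have h2 : g ^ k = 1 := Subtype.ext (by simpa using h0)
    have := orderOf_dvd_of_pow_eq_one h2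
    rw [hord] at this
    exact absurd (Nat.le_of_dvd hk this) (by omega)
  have hcen : ∀ (y : G), y ∈ H → y ≠ 1 → ∀ a : ↥P, y * (a : G) = (a : G) * y →
      a ∈ Subgroup.center ↥P := by
    intro y hy hy1 a hya
    have h2 : (a : G) ∈ P ⊓ Subgroup.centralizer {y} := by
      refine ⟨a.2, ?_⟩
      change (a : G) ∈ Subgroup.centralizer {y}
      rw [Subgroup.mem_centralizer_iff]
      intro w hw
      rw [Set.mem_singleton_iff] at hw
      rw [hw]; exact hya
    rw [hfix y hy hy1] at h2
    obtain ⟨a', ha', haa'⟩ := h2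
    have : a' = a := Subtype.ext haa'
    rwa [← this]
  have hcen' : ∀ (y : G), y ∈ H → y ≠ 1 → ∀ a : ↥P, a ∈ Subgroup.center ↥P →
      y * (a : G) = (a : G) * y := by
    intro y hy hy1 a ha
    have h2 : (a : G) ∈ (Subgroup.center ↥P).map P.subtype := ⟨a, ha, rfl⟩
    rw [← hfix y hy hy1] at h2
    have h3 := Subgroup.mem_centralizer_iff.mp h2.2 y rfl
    exact h3
  have hg1 : (g : G) ≠ 1 := by
    have := hgk 1 one_pos (by omega)
    rwa [pow_one] at this
  have hzc : z ∈ Subgroup.center ↥P := by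
    rw [Subgroup.mem_center_iff]
    intro w
    exact (C.cen w)
  apply Cfsg.Agent.Lib.Helper7.Symp.bridge C φ ?_ (Nat.card H) hh hcop ?_ ?_ n hn
  · apply Subtype.ext
    change (g : G) * (z : G) * (g : G)⁻¹ = z
    rw [hcen' g g.2 hg1 z hzc]
    group
  · intro a
    apply Subtype.ext
    rw [hφk, ← hord]
    have : (g : G) ^ orderOf g = 1 := by
      have := pow_orderOf_eq_one g
      exact_mod_cast congrArg Subtype.val this
    rw [this]; simp
  · intro k hk hkh a hka
    have h2 := congrArg Subtype.val hka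
    rw [hφk] at h2
    apply hcen ((g : G) ^ k) (H.pow_mem g.2 k) (hgk k hk hkh) a
    calc (g : G) ^ k * (a : G) = ((g : G) ^ k * a * ((g : G) ^ k)⁻¹) * (g : G) ^ k := by group
      _ = (a : G) * (g : G) ^ k := by rw [h2]

end Cfsg.Agent.S3767
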