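import Cfsg.Statements.S3768
import Mathlib
import Cfsg.Agent.Lib.Helper4.FrobThm
import Cfsg.Agent.H2.FrobeniusInternal

set_option autoImplicit false

namespace Cfsg.Agent.S3768

open Cfsg
open scoped Pointwise

set_option linter.style.haveILetI false

theorem fpf_of_frobenius {G : Type*} [Group G] (R K : Subgroup G)
    (hR : IsFrobeniusComplement R)
    (hinf : K ⊓ R = ⊥) : ∀ r ∈ R, r ≠ 1 → ∀ k ∈ K, r * k = k * r → k = 1 := by
  intro r hr hr1 k hk hcomm
  by_contra hk1
  have hkR : k ∉ R := by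
    intro h
    apply hk1
    have : k ∈ K ⊓ R := Subgroup.mem_inf.2 ⟨hk, h⟩
    rw [hinf] at this
    exact Subgroup.mem_bot.1 this
  have h1 := hR.2.2 k hkR
  apply hr1
  have : r ∈ R ⊓ (MulAut.conj k • R) := by
    refine Subgroup.mem_inf.2 ⟨hr, ?_⟩
    rw [Cfsg.Agent.H1.mem_conj_smul_iff']
    have : k⁻¹ * r * k = r := by
      rw [mul_assoc, hcomm]; group
    rw [this]; exact hr
  rw [h1] at this
  exact Subgroup.mem_bot.1 this

/-- The commutator map `m ↦ m⁻¹ * (r * m * r⁻¹)` on `K` is injective when `r` acts fpf. -/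
theorem comm_injective {G : Type*} [Group G] (K : Subgroup G) (r : G)
    (hfpf : ∀ k ∈ K, r * k = k * r → k = 1) (m m' : G) (hm : m ∈ K) (hm' : m' ∈ K)
    (h2 : m⁻¹ * (r * m * r⁻¹) = m'⁻¹ * (r * m' * r⁻¹)) : m = m' := by
  have h3 : r * (m' * m⁻¹) = (m' * m⁻¹) * r := by
    have e1 : r * (m' * m⁻¹) = m' * (m'⁻¹ * (r * m' * r⁻¹)) * r * m⁻¹ := by group
    have e2 : (m' * m⁻¹) * r = m' * (m⁻¹ * (r * m * r⁻¹)) * r * m⁻¹ := by group
    rw [e1, e2, h2]
  have h4 := hfpf _ (K.mul_mem hm' (K.inv_mem hm)) h3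
  have : m' = m := by
    have := congrArg (fun z => z * m) h4
    simpa using this
  exact this.symm

/-- If `M ≤ K` is `r`-invariant... the commutator map `c` on `K` satisfies `c m ∈ M → m ∈ M`. -/
theorem comm_preimage {G : Type*} [Group G] [Finite G] (K M : Subgroup G) (hMK : M ≤ K)
    [M.Normal] (r : G)
    (hfpf : ∀ k ∈ K, r * k = k * r → k = 1) (m : G) (hm : m ∈ K)
    (h : m⁻¹ * (r * m * r⁻¹) ∈ M) : m ∈ M := by
  let f : M → M := fun x => ⟨(x : G)⁻¹ * (r * x * r⁻¹),
    M.mul_mem (M.inv_mem x.2) (Subgroup.Normal.conj_mem inferInstance _ x.2 _)⟩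
  have hf : Function.Injective f := by
    intro x y hxy
    apply Subtype.ext
    exact comm_injective K r hfpf _ _ (hMK x.2) (hMK y.2) (congrArg Subtype.val hxy)
  obtain ⟨x, hx⟩ := (Finite.injective_iff_surjective.1 hf) ⟨_, h⟩
  have hx' : (x : G)⁻¹ * (r * x * r⁻¹) = m⁻¹ * (r * m * r⁻¹) := congrArg Subtype.val hx
  have := comm_injective K r hfpf _ _ (hMK x.2) hm hx'
  rw [← this]
  exact x.2

/-- Let G be a finite Frobenius group with Frobenius complement R and Frobenius kernel K (the identity together with the elements in no conjugate of R), and let N be a normal subgroup of G not containing K. Then G/N is a Frobenius group with Frobenius complement RN/N whose Frobenius kernel is the image of K. -/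
theorem result {G : Type*} [Group G] [Finite G] (R : Subgroup G) (hR : Cfsg.IsFrobeniusComplement R) (N : Subgroup G) [N.Normal] (hKN : ¬ Cfsg.frobeniusKernel R ⊆ N) : Cfsg.IsFrobeniusComplement (R.map (QuotientGroup.mk' N)) ∧ Cfsg.frobeniusKernel (R.map (QuotientGroup.mk' N)) = QuotientGroup.mk' N '' Cfsg.frobeniusKernel R := by
  classical
  obtain ⟨K, hKset, hKn, hKc⟩ := Cfsg.Agent.Lib.Helper4.FrobThm.frobenius_theorem R hR
  haveI := hKn
  have hKc' : Subgroup.IsComplement' K R := hKc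
  have hinf : K ⊓ R = ⊥ := hKc'.isCompl.inf_eq_bot
  have hsup : K ⊔ R = ⊤ := hKc'.isCompl.sup_eq_top
  have hfpf := fpf_of_frobenius R K hR hinf
  have hKN' : ¬ K ≤ N := by
    intro h
    apply hKN
    rw [← hKset]
    exact h
  -- N ≤ K
  have hNK : N ≤ K := by
    intro n hn
    by_contra hnK
    have hnK' : n ∉ frobeniusKernel R := by
      rw [← hKset]; exact hnK
    unfold frobeniusKernel at hnK'
    simp only [Set.mem_ofPred_eq, not_or, not_forall, not_not] at hnK'
    obtain ⟨hn1, g, hg⟩ := hnK'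
    rw [Cfsg.Agent.H1.mem_conj_smul_iff'] at hg
    set y := g⁻¹ * n * g with hy
    have hyN : y ∈ N := by
      have := Subgroup.Normal.conj_mem (inferInstance : N.Normal) n hn g⁻¹
      rwa [inv_inv] at this
    have hy1 : y ≠ 1 := by
      intro h
      apply hn1
      have : n = g * y * g⁻¹ := by rw [hy]; group
      rw [this, h]; group
    apply hKN'
    intro k hk
    -- surjectivity of the commutator map with y
    let f : K → K := fun m => ⟨(m : G)⁻¹ * (y * m * y⁻¹),
      K.mul_mem (K.inv_mem m.2) (hKn.conj_mem _ m.2 _)⟩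
    have hf : Function.Injective f := by
      intro a b hab
      apply Subtype.ext
      exact comm_injective K y (hfpf y hg hy1) _ _ a.2 b.2 (congrArg Subtype.val hab)
    obtain ⟨m, hm⟩ := (Finite.injective_iff_surjective.1 hf) ⟨k, hk⟩
    have hm' : (m : G)⁻¹ * (y * m * y⁻¹) = k := congrArg Subtype.val hm
    rw [← hm']
    have e : (m : G)⁻¹ * (y * m * y⁻¹) = ((m : G)⁻¹ * y * (m : G)⁻¹⁻¹) * y⁻¹ := by group
    rw [e]
    exact N.mul_mem (Subgroup.Normal.conj_mem inferInstance _ hyN _) (N.inv_mem hyN)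
  have hRN : ∀ r ∈ R, r ∈ N → r = 1 := by
    intro r hr hrN
    have : r ∈ K ⊓ R := Subgroup.mem_inf.2 ⟨hNK hrN, hr⟩
    rw [hinf] at this
    exact Subgroup.mem_bot.1 this
  set π := QuotientGroup.mk' N with hπ
  have hπsurj : Function.Surjective π := QuotientGroup.mk'_surjective N
  have hker : π.ker = N := QuotientGroup.ker_mk' N
  have hπ1 : ∀ x, π x = 1 ↔ x ∈ N := by
    intro x
    rw [← MonoidHom.mem_ker, hker]
  haveI : (K.map π).Normal := Subgroup.Normal.map hKn π hπsurj
  have key := Cfsg.Agent.H2.FrobInt.frobenius_of_fpf (K.map π) (R.map π) ?_ ?_ ?_ ?_ ?_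
  · refine ⟨key.1, ?_⟩
    rw [key.2, Subgroup.coe_map, hKset]
  · rw [← Subgroup.map_sup, hsup, ← MonoidHom.range_eq_map, MonoidHom.range_eq_top]
    exact hπsurj
  · rw [eq_bot_iff]
    rintro x ⟨⟨k, hk, rfl⟩, ⟨r, hr, hrk⟩⟩
    rw [Subgroup.mem_bot]
    have h1 : π (k⁻¹ * r) = 1 := by
      rw [map_mul, map_inv, hrk]; group
    rw [hπ1] at h1
    have hrK : r ∈ K := by
      have := K.mul_mem hk (hNK h1)
      rwa [mul_inv_cancel_left] at this
    have : r ∈ K ⊓ R := Subgroup.mem_inf.2 ⟨hrK, hr⟩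
    rw [hinf, Subgroup.mem_bot] at this
    rw [← hrk, this, map_one]
  · intro h
    apply hR.1
    rw [eq_bot_iff]
    intro r hr
    rw [Subgroup.mem_bot]
    apply hRN r hr
    rw [← hπ1]
    have : π r ∈ R.map π := Subgroup.mem_map_of_mem π hr
    rw [h] at this
    exact Subgroup.mem_bot.1 this
  · intro h
    apply hKN'
    intro k hk
    rw [← hπ1]
    have : π k ∈ K.map π := Subgroup.mem_map_of_mem π hk
    rw [h] at this
    exact Subgroup.mem_bot.1 this
  · rintro _ ⟨r, hr, rfl⟩ hr1 _ ⟨k, hk, rfl⟩ hcomm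
    rw [hπ1]
    have hrN : r ∉ N := by
      intro h
      apply hr1
      rw [hπ1]; exact h
    have hr1' : r ≠ 1 := by
      intro h
      apply hrN
      rw [h]; exact N.one_mem
    apply comm_preimage K N hNK r (hfpf r hr hr1') k hk
    rw [← hπ1]
    rw [map_mul, map_inv, map_mul, map_mul, map_inv, hcomm]
    group

end Cfsg.Agent.S3768
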