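import Cfsg.Statements.S3770
import Cfsg.Agent.H1.FrobAbC

set_option autoImplicit false
open Cfsg

namespace Cfsg.Agent.S3770
open scoped commutatorElement

/-- Let G and V be subgroups of a finite group with G a Frobenius group with complement R of prime order and kernel K, G normalizing V, and V an elementary abelian ℓ-group for a prime ℓ not dividing the order of G. If C_V(R) has order ℓ, then the derived subgroup of K centralizes V. -/
theorem result {X : Type*} [Group X] [Finite X] (G : Subgroup X) (V : Subgroup X) {ℓ : ℕ} (hℓ : ℓ.Prime) (hV : Cfsg.IsElementaryAbelian ℓ V) (hℓG : ¬ ℓ ∣ Nat.card G) (hGV : G ≤ Subgroup.normalizer (V : Set X)) (R : Subgroup ↥G) (hR : Cfsg.IsFrobeniusComplement R) (hRp : (Nat.card R).Prime) (hCV : Nat.card ↥(V ⊓ Subgroup.centralizer ((R.map G.subtype : Subgroup X) : Set X)) = ℓ) : ⁅Subgroup.closure (Subtype.val '' Cfsg.frobeniusKernel R), Subgroup.closure (Subtype.val '' Cfsg.frobeniusKernel R)⁆ ≤ Subgroup.centralizer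 (V : Set X) := by
  classical
  obtain ⟨N, hNk, hNn, hNc⟩ := Cfsg.Agent.S0035.result R hR
  obtain ⟨-, -, hnil, hNbot, hfpf0, hcop, -⟩ := Cfsg.Agent.H1.frob_pkg R N hR hNk.symm
  haveI := hNn
  have hsup : N ⊔ R = ⊤ := hNc.sup_eq_top
  have hfpf : ∀ e ∈ R, e ≠ 1 → ∀ u ∈ N, u * e = e * u → u = 1 := by
    intro e he hne u hu hcomm
    have h1 : u ∈ N ⊓ Subgroup.centralizer {e} := by
      refine ⟨hu, ?_⟩
      show u ∈ Subgroup.centralizer {e}
      rw [Subgroup.mem_centralizer_iff]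
      intro h hh
      rw [Set.mem_singleton_iff] at hh
      rw [hh]
      exact hcomm.symm
    rw [hfpf0 e he hne, Subgroup.mem_bot] at h1
    exact h1
  have hL : ∀ x ∈ G, ∀ h ∈ V, x * h * x⁻¹ ∈ V := by
    intro x hx h hh
    exact (Subgroup.mem_normalizer_iff.1 (hGV hx) h).1 hh
  set φ := Cfsg.Agent.H1.FrobFix.conjAct G V hL with hφ
  have hRG : R.map G.subtype ≤ G := by
    rintro _ ⟨y, _, rfl⟩
    exact y.2
  have hRsub : (R.map G.subtype).subgroupOf G = R :=
    Subgroup.comap_map_eq_self_of_injective (Subgroup.subtype_injective G) R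
  have hfix : Nat.card (Cfsg.Agent.H1.FrobFix.fixS φ R) = ℓ := by
    have := Cfsg.Agent.H1.FrobFix.card_fixS_conjAct G V hL (R.map G.subtype) hRG
    rw [hRsub] at this
    rw [this, hCV]
  have hcomm : ∀ a b : V, a * b = b * a := fun a b => hV.1.is_comm.comm a b
  have hexp : ∀ x : V, x ^ ℓ = 1 := by
    intro x
    apply Subtype.ext
    rw [Subgroup.coe_pow, Subgroup.coe_one]
    exact hV.2 x x.2
  have key := Cfsg.Agent.H1.FrobAb.ab_elementary N R hsup hnil hRp hfpf φ ℓ hℓ hcomm hexp hℓG hfix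
  have hK : Subgroup.closure (Subtype.val '' Cfsg.frobeniusKernel R) = N.map G.subtype := by
    rw [← hNk]
    have : (Subtype.val '' (N : Set ↥G)) = ((N.map G.subtype : Subgroup X) : Set X) := by
      rw [Subgroup.coe_map]; rfl
    rw [this, Subgroup.closure_eq]
  rw [hK, Subgroup.commutator_le]
  rintro _ ⟨a, ha, rfl⟩ _ ⟨b, hb, rfl⟩
  rw [Subgroup.mem_centralizer_iff]
  intro v hv
  have h := key a⁻¹ (N.inv_mem ha) b⁻¹ (N.inv_mem hb) ⟨v, hv⟩
  have h' := congrArg Subtype.val h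
  simp only [hφ, Cfsg.Agent.H1.FrobFix.conjAct_apply, Subgroup.coe_inv, inv_inv] at h'
  set x : X := G.subtype a with hx
  set y : X := G.subtype b with hy
  have h'' : x⁻¹ * (y⁻¹ * v * y) * x = y⁻¹ * (x⁻¹ * v * x) * y := h'
  calc v * ⁅x, y⁆ = x * y * (y⁻¹ * (x⁻¹ * v * x) * y) * x⁻¹ * y⁻¹ := by
        rw [commutatorElement_def]; group
    _ = x * y * (x⁻¹ * (y⁻¹ * v * y) * x) * x⁻¹ * y⁻¹ := by rw [h'']
    _ = ⁅x, y⁆ * v := by rw [commutatorElement_def]; group

end Cfsg.Agent.S3770
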