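import Cfsg.Statements.S3773
import Mathlib
import Cfsg.Agent.H2.QuadZero
import Cfsg.Agent.H1.PGroup
import Cfsg.Agent.H1.FrattiniExtra
import Cfsg.Agent.Lib.Helper7.Core
import Cfsg.Prelude.Def_Transfer
import Cfsg.Agent.H1.QuadTwo

set_option autoImplicit false
open Cfsg

namespace Cfsg.Agent.S3773

set_option autoImplicit false
open H1

/-- Let G be a finite 2-group of nilpotency class at most 2 and exponent dividing 4 in which the elements x with x² = 1 form a subgroup N. Then |G| ≤ |N|³, and |G| < |N|³ unless G is special. -/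
theorem result {G : Type*} [Group G] [Finite G] (hG : IsPGroup 2 G) (hcl : (⊤ : Subgroup G).lowerCentralSeries 2 = ⊥) (hexp : ∀ x : G, x ^ 4 = 1) (hN : ∀ x y : G, x ^ 2 = 1 → y ^ 2 = 1 → (x * y) ^ 2 = 1) : Nat.card G ≤ Nat.card {x : G // x ^ 2 = 1} ^ 3 ∧ (¬ Cfsg.IsSpecial 2 G → Nat.card G < Nat.card {x : G // x ^ 2 = 1} ^ 3) := by
  exact QuadTwo.main hG hcl hexp hN

end Cfsg.Agent.S3773
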