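import Cfsg.Statements.S3775
import Mathlib
import Cfsg.Agent.H1.Maschke
import Cfsg.Agent.H1.AbelianIndec

set_option autoImplicit false
open Cfsg

namespace Cfsg.Agent.S3775

set_option autoImplicit false
open H1

/-- Let A be a finite abelian p-group and X a group of automorphisms of A of order prime to p. Call a subgroup of A invariant when every element of X maps it onto itself. Then the following are equivalent: (i) A is not the direct product of two nontrivial invariant subgroups; (ii) every invariant subgroup of A is one of the subgroups Ω_i(A) = {a : a^(p^i) = 1}; (iii) the subgroup Ω₁(A) of elements of order dividing p has no invariant subgroups other than 1 and itself. -/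
theorem result {A : Type*} [CommGroup A] [Finite A] {p : ℕ} [Fact p.Prime] (hA : IsPGroup p A) (X : Subgroup (MulAut A)) (hX : (Nat.card X).Coprime p) : ((¬ ∃ B C : Subgroup A, B ≠ ⊥ ∧ C ≠ ⊥ ∧ (∀ x ∈ X, B.map x.toMonoidHom = B) ∧ (∀ x ∈ X, C.map x.toMonoidHom = C) ∧ B ⊓ C = ⊥ ∧ B ⊔ C = ⊤) ↔ (∀ B : Subgroup A, (∀ x ∈ X, B.map x.toMonoidHom = B) → ∃ i : ℕ, ∀ a : A, a ∈ B ↔ a ^ p ^ i = 1)) ∧ ((∀ B : Subgroup A, (∀ x ∈ X, B.map x.toMonoidHom = B) → ∃ i : ℕ, ∀ a : A, a ∈ B ↔ a ^ p ^ i = 1) ↔ (∀ B : Subgroup A, (∀ x ∈ X, B.map x.toMonoidHom = B) → (∀ b ∈ B, b ^ p = 1) → B = ⊥ ∨ ∀ a : A, a ∈ B ↔ a ^ p = 1)) := by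
  have h13 : (¬ ∃ B C : Subgroup A, B ≠ ⊥ ∧ C ≠ ⊥ ∧ (∀ x ∈ X, B.map x.toMonoidHom = B) ∧ (∀ x ∈ X, C.map x.toMonoidHom = C) ∧ B ⊓ C = ⊥ ∧ B ⊔ C = ⊤) →
      (∀ B : Subgroup A, (∀ x ∈ X, B.map x.toMonoidHom = B) → (∀ b ∈ B, b ^ p = 1) → B = ⊥ ∨ ∀ a : A, a ∈ B ↔ a ^ p = 1) := by
    intro h1 B hB hBp
    apply irreducible_of_indecomposable X hA hX _ B ((aInv_iff X B).mp hB) hBp
    rintro ⟨B', C', hB', hC', hB'i, hC'i, h3, h4⟩
    exact h1 ⟨B', C', hB', hC', (aInv_iff X B').mpr hB'i, (aInv_iff X C').mpr hC'i, h3, h4⟩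
  have h32 : (∀ B : Subgroup A, (∀ x ∈ X, B.map x.toMonoidHom = B) → (∀ b ∈ B, b ^ p = 1) → B = ⊥ ∨ ∀ a : A, a ∈ B ↔ a ^ p = 1) →
      (∀ B : Subgroup A, (∀ x ∈ X, B.map x.toMonoidHom = B) → ∃ i : ℕ, ∀ a : A, a ∈ B ↔ a ^ p ^ i = 1) := by
    intro h3 B hB
    apply omega_of_irreducible X hA _ B ((aInv_iff X B).mp hB)
    intro B' hB' hB'p
    exact h3 B' ((aInv_iff X B').mpr hB') hB'p
  have hmono : ∀ (B C : Subgroup A) (i j : ℕ), (∀ a : A, a ∈ B ↔ a ^ p ^ i = 1) → (∀ a : A, a ∈ C ↔ a ^ p ^ j = 1) →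
      i ≤ j → B ≤ C := by
    intro B C i j hi hj hij b hb
    rw [hj]
    obtain ⟨d, rfl⟩ := Nat.exists_eq_add_of_le hij
    rw [pow_add, pow_mul, (hi b).mp hb, one_pow]
  have h21 : (∀ B : Subgroup A, (∀ x ∈ X, B.map x.toMonoidHom = B) → ∃ i : ℕ, ∀ a : A, a ∈ B ↔ a ^ p ^ i = 1) →
      (¬ ∃ B C : Subgroup A, B ≠ ⊥ ∧ C ≠ ⊥ ∧ (∀ x ∈ X, B.map x.toMonoidHom = B) ∧ (∀ x ∈ X, C.map x.toMonoidHom = C) ∧ B ⊓ C = ⊥ ∧ B ⊔ C = ⊤) := by
    rintro h2 ⟨B, C, hB, hC, hBi, hCi, hBC, -⟩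
    obtain ⟨i, hi⟩ := h2 B hBi
    obtain ⟨j, hj⟩ := h2 C hCi
    rcases le_total i j with hij | hij
    · have := hmono B C i j hi hj hij
      apply hB
      rw [← hBC]
      exact (inf_eq_left.mpr this).symm
    · have := hmono C B j i hj hi hij
      apply hC
      rw [← hBC]
      exact (inf_eq_right.mpr this).symm
  have h23 : (∀ B : Subgroup A, (∀ x ∈ X, B.map x.toMonoidHom = B) → ∃ i : ℕ, ∀ a : A, a ∈ B ↔ a ^ p ^ i = 1) →
      (∀ B : Subgroup A, (∀ x ∈ X, B.map x.toMonoidHom = B) → (∀ b ∈ B, b ^ p = 1) → B = ⊥ ∨ ∀ a : A, a ∈ B ↔ a ^ p = 1) := by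
    intro h2 B hB hBp
    obtain ⟨i, hi⟩ := h2 B hB
    rcases Nat.eq_zero_or_pos i with h0 | h0
    · left
      rw [eq_bot_iff]
      intro b hb
      have := (hi b).mp hb
      rw [h0, pow_zero, pow_one] at this
      rw [Subgroup.mem_bot]; exact this
    · right
      intro a
      refine ⟨fun ha => hBp a ha, fun ha => (hi a).mpr ?_⟩
      obtain ⟨d, rfl⟩ := Nat.exists_eq_add_of_le h0
      rw [pow_add, pow_one, pow_mul, ha, one_pow]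
  exact ⟨⟨fun h1 => h32 (h13 h1), h21⟩, ⟨h23, h32⟩⟩

end Cfsg.Agent.S3775
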