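import Cfsg.Statements.S3872
import Cfsg.Agent.S4209
import Cfsg.Agent.S4225
import Cfsg.Agent.H2.UniqueOrderP
import Cfsg.Agent.H2.MaxClassLCS

set_option autoImplicit false
open Cfsg

namespace Cfsg.Agent.S3872

open scoped commutatorElement

universe u

section lcs

variable {G : Type u} [Group G] [Finite G] {p : ℕ} [Fact p.Prime]

theorem lcs_stable (i : ℕ)
    (h : (⊤ : Subgroup G).lowerCentralSeries (i + 1) = (⊤ : Subgroup G).lowerCentralSeries i) :
    ∀ k, (⊤ : Subgroup G).lowerCentralSeries (i + k) = (⊤ : Subgroup G).lowerCentralSeries i := by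
  intro k
  induction k with
  | zero => rfl
  | succ k ih =>
    rw [← Nat.add_assoc, Subgroup.lowerCentralSeries_succ, ih, ← Subgroup.lowerCentralSeries_succ, h]

theorem lcs_lt (hG : IsPGroup p G) (i : ℕ) (hi : (⊤ : Subgroup G).lowerCentralSeries i ≠ ⊥) :
    (⊤ : Subgroup G).lowerCentralSeries (i + 1) ≠ (⊤ : Subgroup G).lowerCentralSeries i := by
  intro h
  have : Group.IsNilpotent G := hG.isNilpotent
  obtain ⟨n, hn⟩ := (Subgroup.isNilpotent_iff_lowerCentralSeries (S := (⊤ : Subgroup G))).mp
    (by
      have e : (⊤ : Subgroup G) ≃* G := Subgroup.topEquiv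
      exact (Group.isNilpotent_congr e).mpr this)
  have h1 := lcs_stable i h n
  have h2 : (⊤ : Subgroup G).lowerCentralSeries (i + n) ≤ (⊤ : Subgroup G).lowerCentralSeries n :=
    Subgroup.lowerCentralSeries_antitone _ (Nat.le_add_left n i)
  rw [hn, le_bot_iff] at h2
  rw [h2] at h1
  exact hi h1.symm

theorem card_step (hG : IsPGroup p G) (i : ℕ) (hi : (⊤ : Subgroup G).lowerCentralSeries i ≠ ⊥) :
    p * Nat.card ((⊤ : Subgroup G).lowerCentralSeries (i + 1)) ≤
      Nat.card ((⊤ : Subgroup G).lowerCentralSeries i) := by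
  have hp : p.Prime := Fact.out
  obtain ⟨a, ha⟩ := (hG.to_subgroup ((⊤ : Subgroup G).lowerCentralSeries (i + 1))).exists_card_eq
  obtain ⟨b, hb⟩ := (hG.to_subgroup ((⊤ : Subgroup G).lowerCentralSeries i)).exists_card_eq
  have hle : (⊤ : Subgroup G).lowerCentralSeries (i + 1) ≤ (⊤ : Subgroup G).lowerCentralSeries i :=
    Subgroup.lowerCentralSeries_antitone _ (Nat.le_succ i)
  have hne := lcs_lt hG i hi
  have hcle := Subgroup.card_le_of_le hle
  rw [ha, hb] at hcle ⊢
  have hab : a ≤ b := (Nat.pow_le_pow_iff_right hp.one_lt).mp hcle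
  have hab' : a ≠ b := by
    intro hab'
    apply hne
    apply Subgroup.eq_of_le_of_card_ge hle
    rw [ha, hb, hab']
  have : a + 1 ≤ b := by omega
  calc p * p ^ a = p ^ (a + 1) := by rw [pow_succ, mul_comm]
    _ ≤ p ^ b := Nat.pow_le_pow_right hp.pos this

theorem card_chain (hG : IsPGroup p G) : ∀ (k i : ℕ),
    (⊤ : Subgroup G).lowerCentralSeries (i + k) ≠ ⊥ →
    p ^ (k + 1) ≤ Nat.card ((⊤ : Subgroup G).lowerCentralSeries i) := by
  have hp : p.Prime := Fact.out
  intro k
  induction k with
  | zero =>
    intro i hi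
    rw [Nat.add_zero] at hi
    obtain ⟨b, hb⟩ := (hG.to_subgroup ((⊤ : Subgroup G).lowerCentralSeries i)).exists_card_eq
    rw [hb]
    have hb0 : b ≠ 0 := by
      intro h0
      rw [h0, pow_zero] at hb
      exact hi (Subgroup.card_eq_one.mp hb)
    rw [zero_add, pow_one]
    calc p = p ^ 1 := (pow_one p).symm
      _ ≤ p ^ b := Nat.pow_le_pow_right hp.pos (by omega)
  | succ k ih =>
    intro i hi
    have h1 : (⊤ : Subgroup G).lowerCentralSeries (i + 1 + k) ≠ ⊥ := by
      have e : i + 1 + k = i + (k + 1) := by omega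
      rwa [e]
    have h2 := ih (i + 1) h1
    have hi0 : (⊤ : Subgroup G).lowerCentralSeries i ≠ ⊥ := by
      intro h0
      apply hi
      have h3 : (⊤ : Subgroup G).lowerCentralSeries (i + (k + 1)) ≤
          (⊤ : Subgroup G).lowerCentralSeries i :=
        Subgroup.lowerCentralSeries_antitone _ (Nat.le_add_right i (k + 1))
      rw [h0, le_bot_iff] at h3
      exact h3
    have h4 := card_step hG i hi0
    calc p ^ (k + 1 + 1) = p * p ^ (k + 1) := by rw [pow_succ, mul_comm]
      _ ≤ p * Nat.card ((⊤ : Subgroup G).lowerCentralSeries (i + 1)) := Nat.mul_le_mul_left p h2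
      _ ≤ _ := h4

theorem card_commutator_bound (hG : IsPGroup p G) (hne : _root_.commutator G ≠ ⊥) :
    p ^ 2 * Nat.card (_root_.commutator G) ≤ Nat.card G := by
  have hp : p.Prime := Fact.out
  have hidx := Subgroup.card_eq_card_quotient_mul_card_subgroup (_root_.commutator G)
  obtain ⟨m, hm⟩ := (hG.to_quotient (_root_.commutator G)).exists_card_eq
  rw [hidx, hm]
  apply Nat.mul_le_mul_right
  apply Nat.pow_le_pow_right hp.pos
  by_contra hlt
  have hm1 : m ≤ 1 := by omega
  have hcyc : IsCyclic (G ⧸ _root_.commutator G) := by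
    rcases Nat.le_one_iff_eq_zero_or_eq_one.mp hm1 with h0 | h1
    · rw [h0, pow_zero] at hm
      have : Subsingleton (G ⧸ _root_.commutator G) := (Nat.card_eq_one_iff_unique.mp hm).1
      infer_instance
    · rw [h1, pow_one] at hm
      exact isCyclic_of_prime_card hm
  apply hne
  rw [commutator_def, Subgroup.commutator_eq_bot_iff_le_centralizer]
  intro x _
  rw [Subgroup.mem_centralizer_iff]
  intro y _
  exact Cfsg.Agent.H2.MaxClassLCS.comm_of_cyclic_abelianization p hG hcyc y x

end lcs

/-- Say that a finite group is p-exponent closed when its elements of order dividing p form a subgroup. Let G be a finite p-group that is not p-exponent closed, but all of whose proper subgroups and proper quotients are. Then G is generated by two elements, has nilpotency class at least p, has exponent p², has cyclic center, and has order at least p^(p+1). -/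
theorem result {G : Type*} [Group G] [Finite G] {p : ℕ} [Fact p.Prime] (hG : IsPGroup p G)
    (hnc : ¬ (∃ H : Subgroup G, (H : Set G) = {g : G | g ^ p = 1})) (hsub : ∀ K : Subgroup G, K ≠ ⊤ → (∃ H : Subgroup ↥K, (H : Set ↥K) = {g : ↥K | g ^ p = 1}))
    (hquo : ∀ (N : Subgroup G) [N.Normal], N ≠ ⊥ → (∃ H : Subgroup (G ⧸ N), (H : Set (G ⧸ N)) = {g : (G ⧸ N) | g ^ p = 1})) :
    (∃ x y : G, Subgroup.closure ({x, y} : Set G) = ⊤) ∧ (⊤ : Subgroup G).lowerCentralSeries (p - 1) ≠ ⊥ ∧
      Monoid.exponent G = p ^ 2 ∧ IsCyclic ↥(Subgroup.center G) ∧ p ^ (p + 1) ≤ Nat.card G := by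
  have hp : p.Prime := Fact.out
  -- Step 0: two elements of order dividing p whose product is not
  obtain ⟨x, y, hx, hy, hxy⟩ : ∃ x y : G, x ^ p = 1 ∧ y ^ p = 1 ∧ (x * y) ^ p ≠ 1 := by
    by_contra hcon
    push Not at hcon
    apply hnc
    refine ⟨{ carrier := {g : G | g ^ p = 1}
              mul_mem' := fun {a b} ha hb => hcon a b ha hb
              one_mem' := one_pow _
              inv_mem' := fun {a} ha => by
                simp only [Set.mem_ofPred_eq] at ha ⊢
                rw [inv_pow, ha, inv_one] }, rfl⟩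
  -- Step 1: generation
  have hgen : Subgroup.closure ({x, y} : Set G) = ⊤ := by
    by_contra hK
    obtain ⟨H, hH⟩ := hsub _ hK
    have hxK : x ∈ Subgroup.closure ({x, y} : Set G) :=
      Subgroup.subset_closure (Set.mem_insert _ _)
    have hyK : y ∈ Subgroup.closure ({x, y} : Set G) :=
      Subgroup.subset_closure (Set.mem_insert_of_mem _ rfl)
    have h1 : (⟨x, hxK⟩ : Subgroup.closure ({x, y} : Set G)) ∈ H := by
      rw [← SetLike.mem_coe, hH]
      exact Subtype.ext (by simpa using hx)
    have h2 : (⟨y, hyK⟩ : Subgroup.closure ({x, y} : Set G)) ∈ H := by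
      rw [← SetLike.mem_coe, hH]
      exact Subtype.ext (by simpa using hy)
    have h3 := H.mul_mem h1 h2
    rw [← SetLike.mem_coe, hH] at h3
    have h4 := congrArg (fun z : Subgroup.closure ({x, y} : Set G) => (z : G)) h3
    simp at h4
    exact hxy h4
  -- Step 2: class
  have hclass : (⊤ : Subgroup G).lowerCentralSeries (p - 1) ≠ ⊥ := by
    intro hcl
    have hreg := Cfsg.Agent.S4209.result hG hcl
    obtain ⟨H, -, hH⟩ := Cfsg.Agent.S4225.result hreg 1
    apply hnc
    refine ⟨H, ?_⟩
    rw [hH, pow_one]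
  -- Step 3: p-th powers lie in every nontrivial normal subgroup
  have hpow : ∀ (N : Subgroup G) [N.Normal], N ≠ ⊥ → ∀ g : G, g ^ p ∈ N := by
    intro N _ hN g
    obtain ⟨H, hH⟩ := hquo N hN
    have hxH : (QuotientGroup.mk' N x) ∈ H := by
      rw [← SetLike.mem_coe, hH]
      show (QuotientGroup.mk' N x) ^ p = 1
      rw [← map_pow, hx, map_one]
    have hyH : (QuotientGroup.mk' N y) ∈ H := by
      rw [← SetLike.mem_coe, hH]
      show (QuotientGroup.mk' N y) ^ p = 1
      rw [← map_pow, hy, map_one]
    have hle : Subgroup.closure ({x, y} : Set G) ≤ H.comap (QuotientGroup.mk' N) := by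
      rw [Subgroup.closure_le]
      intro t ht
      rcases ht with rfl | rfl
      · exact hxH
      · exact hyH
    rw [hgen] at hle
    have hg : (QuotientGroup.mk' N g) ∈ H := hle (Subgroup.mem_top g)
    rw [← SetLike.mem_coe, hH] at hg
    have hg' : (QuotientGroup.mk' N g) ^ p = 1 := hg
    rw [← map_pow] at hg'
    exact (QuotientGroup.eq_one_iff _).mp hg'
  have hnt : Nontrivial G := by
    by_contra hcon
    rw [not_nontrivial_iff_subsingleton] at hcon
    exact hxy (Subsingleton.elim _ _)
  -- a central subgroup of order p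
  have hZnt : Nontrivial (Subgroup.center G) := hG.center_nontrivial
  have hnormal_of_le_center : ∀ M : Subgroup G, M ≤ Subgroup.center G → M.Normal := by
    intro M hM
    constructor
    intro m hm g
    have := Subgroup.mem_center_iff.mp (hM hm) g
    have e : g * m * g⁻¹ = m := by rw [this]; group
    rw [e]; exact hm
  obtain ⟨z, hz⟩ : ∃ z : G, z = (x * y) ^ p := ⟨_, rfl⟩
  have hz1 : z ≠ 1 := by rw [hz]; exact hxy
  -- every central subgroup of order p is generated by z
  have huniq : ∀ M : Subgroup G, M ≤ Subgroup.center G → Nat.card M = p →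
      M = Subgroup.zpowers z := by
    intro M hM hcard
    haveI := hnormal_of_le_center M hM
    have hMne : M ≠ ⊥ := by
      intro h0
      rw [h0, Subgroup.card_bot] at hcard
      exact hp.one_lt.ne hcard
    have hzM : z ∈ M := by rw [hz]; exact hpow M hMne _
    have hle : Subgroup.zpowers z ≤ M := by rwa [Subgroup.zpowers_le]
    symm
    apply Subgroup.eq_of_le_of_card_ge hle
    rw [hcard, Nat.card_zpowers]
    have hdvd : orderOf z ∣ p := by
      have := Subgroup.card_dvd_of_le hle
      rwa [Nat.card_zpowers, hcard] at this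
    rcases (Nat.dvd_prime hp).mp hdvd with h1 | h1
    · exact absurd (orderOf_eq_one_iff.mp h1) hz1
    · exact h1.ge
  -- existence of a central subgroup of order p
  obtain ⟨c, hcZ, hc⟩ : ∃ c : G, c ∈ Subgroup.center G ∧ orderOf c = p := by
    have hZp : IsPGroup p (Subgroup.center G) := hG.to_subgroup _
    have hdvd : p ∣ Nat.card (Subgroup.center G) := by
      obtain ⟨n, hn⟩ := hZp.exists_card_eq
      rw [hn]
      have hn0 : n ≠ 0 := by
        intro h0
        rw [h0, pow_zero] at hn
        have := Finite.one_lt_card (α := Subgroup.center G)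
        omega
      exact dvd_pow_self p hn0
    obtain ⟨c, hc⟩ := exists_prime_orderOf_dvd_card' p hdvd
    exact ⟨(c : G), c.2, by rw [Subgroup.orderOf_coe]; exact hc⟩
  have hcle : Subgroup.zpowers c ≤ Subgroup.center G := by rwa [Subgroup.zpowers_le]
  have hcz := huniq (Subgroup.zpowers c) hcle (by rw [Nat.card_zpowers, hc])
  have hzord : orderOf z = p := by
    have := congrArg (fun M : Subgroup G => Nat.card M) hcz
    simp only [Nat.card_zpowers] at this
    rw [← this, hc]
  have hzp : z ^ p = 1 := by rw [← hzord]; exact pow_orderOf_eq_one z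
  -- exponent
  have hexp : Monoid.exponent G = p ^ 2 := by
    haveI := hnormal_of_le_center (Subgroup.zpowers c) hcle
    have hcne : Subgroup.zpowers c ≠ ⊥ := by
      intro h0
      have := congrArg (fun M : Subgroup G => Nat.card M) h0
      simp only [Nat.card_zpowers, Subgroup.card_bot] at this
      rw [hc] at this
      exact hp.one_lt.ne' this
    have hall : ∀ g : G, g ^ (p ^ 2) = 1 := by
      intro g
      have h1 : g ^ p ∈ Subgroup.zpowers z := by rw [← hcz]; exact hpow _ hcne g
      obtain ⟨k, hk⟩ := Subgroup.mem_zpowers_iff.mp h1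
      rw [pow_two, pow_mul, ← hk, ← zpow_natCast, ← zpow_mul, mul_comm, zpow_mul, zpow_natCast,
        hzp, one_zpow]
    have hdvd : Monoid.exponent G ∣ p ^ 2 := Monoid.exponent_dvd_of_forall_pow_eq_one hall
    obtain ⟨k, hk2, hk⟩ := (Nat.dvd_prime_pow hp).mp hdvd
    have hk' : ¬ k ≤ 1 := by
      intro hk1
      apply hxy
      have : (x * y) ^ (p ^ k) = 1 := by rw [← hk]; exact Monoid.pow_exponent_eq_one _
      rcases Nat.le_one_iff_eq_zero_or_eq_one.mp hk1 with h0 | h1
      · rw [h0, pow_zero, pow_one] at this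
        rw [this, one_pow]
      · rwa [h1, pow_one] at this
    have : k = 2 := by omega
    rw [hk, this]
  -- cyclic centre
  have hcyc : IsCyclic (Subgroup.center G) := by
    apply Cfsg.Agent.H2.UOP.isCyclic_of_comm p (hG.to_subgroup _)
    · intro a b
      exact Subtype.ext (by
        have := Subgroup.mem_center_iff.mp b.2 (a : G)
        simpa using this)
    · intro H K hH hK
      have h1 := huniq (H.map (Subgroup.center G).subtype) (by
        intro t ht
        obtain ⟨s, -, rfl⟩ := ht
        exact s.2) (by rw [Subgroup.card_subtype, hH])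
      have h2 := huniq (K.map (Subgroup.center G).subtype) (by
        intro t ht
        obtain ⟨s, -, rfl⟩ := ht
        exact s.2) (by rw [Subgroup.card_subtype, hK])
      exact Subgroup.map_injective (Subgroup.subtype_injective _) (h1.trans h2.symm)
  -- order
  have hcard : p ^ (p + 1) ≤ Nat.card G := by
    have hp2 : 2 ≤ p := hp.two_le
    have hL1 : (⊤ : Subgroup G).lowerCentralSeries (1 + (p - 2)) ≠ ⊥ := by
      have e : 1 + (p - 2) = p - 1 := by omega
      rw [e]; exact hclass
    have h1 := card_chain hG (p - 2) 1 hL1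
    have hcomm : _root_.commutator G ≠ ⊥ := by
      intro h0
      have h2 : (⊤ : Subgroup G).lowerCentralSeries (1 + (p - 2)) ≤
          (⊤ : Subgroup G).lowerCentralSeries 1 :=
        Subgroup.lowerCentralSeries_antitone _ (Nat.le_add_right 1 (p - 2))
      rw [Subgroup.top_lowerCentralSeries_one, h0, le_bot_iff] at h2
      exact hL1 h2
    have h3 := card_commutator_bound hG hcomm
    rw [Subgroup.top_lowerCentralSeries_one] at h1
    have e : p + 1 = 2 + (p - 2 + 1) := by omega
    calc p ^ (p + 1) = p ^ 2 * p ^ (p - 2 + 1) := by rw [e, pow_add]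
      _ ≤ p ^ 2 * Nat.card (_root_.commutator G) := Nat.mul_le_mul_left _ h1
      _ ≤ Nat.card G := h3
  exact ⟨⟨x, y, hgen⟩, hclass, hexp, hcyc, hcard⟩

end Cfsg.Agent.S3872
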