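import Cfsg.Statements.S3778
import Cfsg.Agent.S3872

set_option autoImplicit false
open Cfsg

namespace Cfsg.Agent.S3778

open scoped commutatorElement

universe u

section

variable {G : Type u} [Group G]

/-- the centralizer in `G` of `γ_{j+1}/γ_{j+3}` -/
def K (j : ℕ) : Subgroup G where
  carrier := {x | ∀ g ∈ (⊤ : Subgroup G).lowerCentralSeries j,
    ⁅g, x⁆ ∈ (⊤ : Subgroup G).lowerCentralSeries (j + 2)}
  one_mem' := by
    intro g _
    rw [commutatorElement_one_right]; exact one_mem _
  mul_mem' := by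
    intro x y hx hy g hg
    have e : ⁅g, x * y⁆ = ⁅g, x⁆ * (x * ⁅g, y⁆ * x⁻¹) := by
      simp only [commutatorElement_def]; group
    rw [e]
    have hn : ((⊤ : Subgroup G).lowerCentralSeries (j + 2)).Normal :=
      Subgroup.normal_of_characteristic _
    exact mul_mem (hx g hg) (hn.conj_mem _ (hy g hg) x)
  inv_mem' := by
    intro x hx g hg
    have e : ⁅g, x⁻¹⁆ = x⁻¹ * (⁅g, x⁆)⁻¹ * x⁻¹⁻¹ := by
      simp only [commutatorElement_def]; group
    rw [e]
    have hn : ((⊤ : Subgroup G).lowerCentralSeries (j + 2)).Normal :=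
      Subgroup.normal_of_characteristic _
    exact hn.conj_mem _ (inv_mem (hx g hg)) x⁻¹

theorem mem_K {j : ℕ} {x : G} : x ∈ K (G := G) j ↔
    ∀ g ∈ (⊤ : Subgroup G).lowerCentralSeries j,
      ⁅g, x⁆ ∈ (⊤ : Subgroup G).lowerCentralSeries (j + 2) := Iff.rfl

variable [Finite G] {p : ℕ} [Fact p.Prime]

theorem K_ne_top (hG : IsPGroup p G) (j : ℕ)
    (hj : (⊤ : Subgroup G).lowerCentralSeries (j + 1) ≠ ⊥) : K (G := G) j ≠ ⊤ := by
  intro h
  apply Cfsg.Agent.S3872.lcs_lt hG (j + 1) hj
  apply le_antisymm (Subgroup.lowerCentralSeries_antitone _ (Nat.le_succ _))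
  rw [Subgroup.lowerCentralSeries_succ (⊤ : Subgroup G) j, Subgroup.commutator_le]
  intro g hg x _
  have hx : x ∈ K (G := G) j := by rw [h]; exact Subgroup.mem_top x
  exact hx g hg

theorem card_proper (hG : IsPGroup p G) (H : Subgroup G) (hH : H ≠ ⊤) :
    p * Nat.card H ≤ Nat.card G := by
  have hp : p.Prime := Fact.out
  obtain ⟨m, hm⟩ := hG.index H
  rw [Subgroup.card_eq_card_quotient_mul_card_subgroup H]
  apply Nat.mul_le_mul_right
  rw [← Subgroup.index_eq_card, hm]
  have hm0 : m ≠ 0 := by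
    intro h0
    rw [h0, pow_zero] at hm
    exact hH (Subgroup.index_eq_one.mp hm)
  calc p = p ^ 1 := (pow_one p).symm
    _ ≤ p ^ m := Nat.pow_le_pow_right hp.pos (by omega)

theorem card_lt_step (hG : IsPGroup p G) {H L : Subgroup G} (hle : H ≤ L) (hne : H ≠ L) :
    p * Nat.card H ≤ Nat.card L := by
  have hp : p.Prime := Fact.out
  obtain ⟨a, ha⟩ := (hG.to_subgroup H).exists_card_eq
  obtain ⟨b, hb⟩ := (hG.to_subgroup L).exists_card_eq
  have hcle := Subgroup.card_le_of_le hle
  rw [ha, hb] at hcle ⊢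
  have hab : a ≤ b := (Nat.pow_le_pow_iff_right hp.one_lt).mp hcle
  have hab' : a ≠ b := by
    intro hab'
    apply hne
    apply Subgroup.eq_of_le_of_card_ge hle
    rw [ha, hb, hab']
  have : a + 1 ≤ b := by omega
  calc p * p ^ a = p ^ (a + 1) := by rw [pow_succ, mul_comm]
    _ ≤ p ^ b := Nat.pow_le_pow_right hp.pos this

open Classical in
theorem chain_card (hG : IsPGroup p G) (M : ℕ → Subgroup G) (hM : Antitone M) :
    ∀ n, p ^ ((Finset.range n).filter (fun j => M (j + 1) ≠ M j)).card * Nat.card (M n) ≤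
      Nat.card (M 0) := by
  intro n
  induction n with
  | zero => simp
  | succ n ih =>
    rw [Finset.range_add_one, Finset.filter_insert]
    by_cases h : M (n + 1) ≠ M n
    · rw [if_pos h, Finset.card_insert_of_notMem (by simp)]
      have h1 := card_lt_step hG (hM (Nat.le_succ n)) h
      calc p ^ (_ + 1) * Nat.card (M (n + 1))
          = p ^ ((Finset.range n).filter (fun j => M (j + 1) ≠ M j)).card *
              (p * Nat.card (M (n + 1))) := by rw [pow_succ, mul_assoc]
        _ ≤ p ^ ((Finset.range n).filter (fun j => M (j + 1) ≠ M j)).card * Nat.card (M n) :=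
            Nat.mul_le_mul_left _ h1
        _ ≤ _ := ih
    · rw [if_neg h]
      push Not at h
      rw [h]
      exact ih

open Classical in
/-- the number of `j < n` with `x ∉ K j` is at most `b` -/
theorem card_notMem_le (hG : IsPGroup p G) (b : ℕ) (x : G)
    (hb : (Subgroup.centralizer ({x} : Set G)).index ≤ p ^ b) (n : ℕ) :
    ((Finset.range n).filter (fun j => x ∉ K (G := G) j)).card ≤ b := by
  have hp : p.Prime := Fact.out
  obtain ⟨C, hC⟩ : ∃ C : Subgroup G, C = Subgroup.centralizer ({x} : Set G) := ⟨_, rfl⟩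
  rw [← hC] at hb
  obtain ⟨M, hMdef⟩ : ∃ M : ℕ → Subgroup G,
      M = fun j => (⊤ : Subgroup G).lowerCentralSeries j ⊔ C := ⟨_, rfl⟩
  have hM : Antitone M := by
    intro i j hij
    rw [hMdef]
    exact sup_le_sup_right (Subgroup.lowerCentralSeries_antitone _ hij) C
  have hM0 : M 0 = ⊤ := by
    rw [hMdef]; simp
  have hsub : (Finset.range n).filter (fun j => x ∉ K (G := G) j) ⊆
      (Finset.range n).filter (fun j => M (j + 1) ≠ M j) := by
    intro j hj
    rw [Finset.mem_filter] at hj ⊢
    refine ⟨hj.1, ?_⟩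
    intro heq
    apply hj.2
    intro g hg
    have hgM : g ∈ M (j + 1) := by
      rw [heq, hMdef]
      exact (le_sup_left : (⊤ : Subgroup G).lowerCentralSeries j ≤ _) hg
    rw [hMdef] at hgM
    have hn : ((⊤ : Subgroup G).lowerCentralSeries (j + 1)).Normal :=
      Subgroup.normal_of_characteristic _
    have hset : g ∈ ((((⊤ : Subgroup G).lowerCentralSeries (j + 1) ⊔ C : Subgroup G)) : Set G) :=
      hgM
    rw [Subgroup.normal_mul] at hset
    obtain ⟨u, hu, v, hv, rfl⟩ := Set.mem_mul.mp hset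
    have hvx : v * x = x * v := by
      rw [hC] at hv
      exact (Subgroup.mem_centralizer_iff.mp hv x rfl).symm
    have e : ⁅u * v, x⁆ = ⁅u, x⁆ := by
      simp only [commutatorElement_def]
      calc u * v * x * (u * v)⁻¹ * x⁻¹ = u * (v * x) * v⁻¹ * u⁻¹ * x⁻¹ := by group
        _ = u * (x * v) * v⁻¹ * u⁻¹ * x⁻¹ := by rw [hvx]
        _ = u * x * u⁻¹ * x⁻¹ := by group
    rw [e]
    have e2 : j + 2 = (j + 1) + 1 := rfl
    rw [e2, Subgroup.lowerCentralSeries_succ]
    exact Subgroup.commutator_mem_commutator hu (Subgroup.mem_top x)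
  have h1 := chain_card hG M hM n
  rw [hM0, Subgroup.card_top] at h1
  have h2 : Nat.card C ≤ Nat.card (M n) := by
    apply Subgroup.card_le_of_le
    rw [hMdef]; exact le_sup_right
  have h3 := Finset.card_le_card hsub
  have h4 : Nat.card G = C.index * Nat.card C := (Subgroup.index_mul_card C).symm
  have hCpos : 0 < Nat.card C := Nat.card_pos
  have h5 : p ^ ((Finset.range n).filter (fun j => x ∉ K (G := G) j)).card * Nat.card C ≤
      p ^ b * Nat.card C := by
    calc _ ≤ p ^ ((Finset.range n).filter (fun j => M (j + 1) ≠ M j)).card * Nat.card C :=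
          Nat.mul_le_mul_right _ (Nat.pow_le_pow_right hp.pos h3)
      _ ≤ p ^ ((Finset.range n).filter (fun j => M (j + 1) ≠ M j)).card * Nat.card (M n) :=
          Nat.mul_le_mul_left _ h2
      _ ≤ Nat.card G := h1
      _ = C.index * Nat.card C := h4
      _ ≤ p ^ b * Nat.card C := Nat.mul_le_mul_right _ hb
  have h6 := Nat.le_of_mul_le_mul_right h5 hCpos
  exact (Nat.pow_le_pow_iff_right hp.one_lt).mp h6

open Classical in
theorem main_ineq (hG : IsPGroup p G) (b c' : ℕ) (hb0 : b ≠ 0)
    (hb : ∀ x : G, (Subgroup.centralizer ({x} : Set G)).index ≤ p ^ b)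
    (hc' : ∀ j < c', (⊤ : Subgroup G).lowerCentralSeries (j + 1) ≠ ⊥) :
    c' * (p - 1) < b * p := by
  have hp : p.Prime := Fact.out
  by_contra hcon
  push Not at hcon
  letI := Fintype.ofFinite G
  have hm : ∀ x : G, c' - b ≤ ((Finset.range c').filter (fun j => x ∈ K (G := G) j)).card := by
    intro x
    have h1 := card_notMem_le hG b x (hb x) c'
    have h2 := Finset.card_filter_add_card_filter_not (s := Finset.range c')
      (fun j => x ∈ K (G := G) j)
    rw [Finset.card_range] at h2
    omega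
  have hsum : ∑ x : G, ((Finset.range c').filter (fun j => x ∈ K (G := G) j)).card =
      ∑ j ∈ Finset.range c', Nat.card (K (G := G) j) := by
    simp_rw [Finset.card_filter]
    rw [Finset.sum_comm]
    apply Finset.sum_congr rfl
    intro j _
    rw [← Finset.card_filter, Nat.card_eq_fintype_card, Fintype.card_subtype]
  have hK : ∀ j ∈ Finset.range c', p * Nat.card (K (G := G) j) ≤ Nat.card G := by
    intro j hj
    exact card_proper hG _ (K_ne_top hG j (hc' j (Finset.mem_range.mp hj)))
  have hup : p * ∑ x : G, ((Finset.range c').filter (fun j => x ∈ K (G := G) j)).card ≤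
      c' * Nat.card G := by
    rw [hsum, Finset.mul_sum]
    calc ∑ j ∈ Finset.range c', p * Nat.card (K (G := G) j)
        ≤ ∑ _j ∈ Finset.range c', Nat.card G := Finset.sum_le_sum hK
      _ = c' * Nat.card G := by rw [Finset.sum_const, Finset.card_range, smul_eq_mul]
  have hlow : c' + (Nat.card G - 1) * (c' - b) ≤
      ∑ x : G, ((Finset.range c').filter (fun j => x ∈ K (G := G) j)).card := by
    rw [← Finset.add_sum_erase Finset.univ _ (Finset.mem_univ (1 : G))]
    have h1 : ((Finset.range c').filter (fun j => (1 : G) ∈ K (G := G) j)).card = c' := by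
      rw [Finset.filter_true_of_mem (fun j _ => one_mem _), Finset.card_range]
    rw [h1]
    apply Nat.add_le_add_left
    have h2 := Finset.card_nsmul_le_sum ((Finset.univ : Finset G).erase 1)
      (fun x => ((Finset.range c').filter (fun j => x ∈ K (G := G) j)).card) (c' - b)
      (fun x _ => hm x)
    rw [Finset.card_erase_of_mem (Finset.mem_univ _), Finset.card_univ, smul_eq_mul,
      ← Nat.card_eq_fintype_card] at h2
    exact h2
  have hN : 0 < Nat.card G := Nat.card_pos
  obtain ⟨N', hN'⟩ : ∃ N', Nat.card G = N' + 1 := ⟨Nat.card G - 1, by omega⟩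
  obtain ⟨q, hq⟩ : ∃ q, p = q + 1 := ⟨p - 1, by have := hp.pos; omega⟩
  have hq1 : 1 ≤ q := by have := hp.two_le; omega
  rw [hN'] at hup hlow
  rw [hq] at hup hcon
  simp only [Nat.add_sub_cancel] at hlow hcon
  have hbc : b ≤ c' := by
    by_contra hlt
    push Not at hlt
    nlinarith
  obtain ⟨d, hd⟩ : ∃ d, c' = b + d := ⟨c' - b, by omega⟩
  subst hd
  simp only [Nat.add_sub_cancel_left] at hlow
  have hbd : b ≤ d * q := by nlinarith
  have h3 : (q + 1) * (b + d + N' * d) ≤ (b + d) * (N' + 1) :=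
    le_trans (Nat.mul_le_mul_left _ hlow) hup
  have hb1 : 1 ≤ b := Nat.one_le_iff_ne_zero.mpr hb0
  nlinarith [Nat.mul_le_mul_left N' hbd]

end

/-- If G is a finite p-group in which every conjugacy class has at most p^b elements (every element has centralizer of index at most p^b), then G is abelian when b = 0, and when b ≥ 1 its nilpotency class c satisfies (c − 1)(p − 1) < bp, that is c < bp/(p − 1) + 1, and hence c ≤ 2b. -/
theorem result {G : Type*} [Group G] [Finite G] {p : ℕ} [Fact p.Prime] (hG : IsPGroup p G) (b : ℕ) (hb : ∀ x : G, (Subgroup.centralizer ({x} : Set G)).index ≤ p ^ b) : ∃ c : ℕ, (⊤ : Subgroup G).lowerCentralSeries c = ⊥ ∧ (b ≠ 0 → (c - 1) * (p - 1) < b * p ∧ c ≤ 2 * b) ∧ (b = 0 → c ≤ 1) := by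
  classical
  have hp : p.Prime := Fact.out
  have hnil : Group.IsNilpotent G := hG.isNilpotent
  have hex : ∃ n, (⊤ : Subgroup G).lowerCentralSeries n = ⊥ :=
    (Subgroup.isNilpotent_iff_lowerCentralSeries (S := (⊤ : Subgroup G))).mp
      (by
        have e : (⊤ : Subgroup G) ≃* G := Subgroup.topEquiv
        exact (Group.isNilpotent_congr e).mpr hnil)
  obtain ⟨c, hc⟩ : ∃ c, c = Nat.find hex := ⟨_, rfl⟩
  have hcbot : (⊤ : Subgroup G).lowerCentralSeries c = ⊥ := by rw [hc]; exact Nat.find_spec hex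
  have hmin : ∀ j < c, (⊤ : Subgroup G).lowerCentralSeries j ≠ ⊥ := by
    intro j hj
    rw [hc] at hj
    exact Nat.find_min hex hj
  refine ⟨c, hcbot, ?_, ?_⟩
  · intro hb0
    have hb1 : 1 ≤ b := Nat.one_le_iff_ne_zero.mpr hb0
    rcases Nat.eq_zero_or_pos c with h0 | hpos
    · rw [h0]
      refine ⟨?_, Nat.zero_le _⟩
      simp only [Nat.zero_sub, Nat.zero_mul]
      exact Nat.mul_pos hb1 hp.pos
    · obtain ⟨c', hc'⟩ : ∃ c', c = c' + 1 := ⟨c - 1, by omega⟩
      have key := main_ineq hG b c' hb0 hb (fun j hj => hmin (j + 1) (by omega))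
      refine ⟨?_, ?_⟩
      · rw [hc', Nat.add_sub_cancel]; exact key
      · obtain ⟨q, hq⟩ : ∃ q, p = q + 1 := ⟨p - 1, by have := hp.pos; omega⟩
        have hq1 : 1 ≤ q := by have := hp.two_le; omega
        rw [hq, Nat.add_sub_cancel] at key
        rw [hc']
        by_contra hlt
        push Not at hlt
        have h2 : 2 * b ≤ c' := by omega
        nlinarith [Nat.mul_le_mul_right q h2]
  · intro hb0
    by_contra hlt
    push Not at hlt
    have h1 : (⊤ : Subgroup G).lowerCentralSeries 1 ≠ ⊥ := hmin 1 hlt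
    apply h1
    rw [Subgroup.top_lowerCentralSeries_one, commutator_def,
      Subgroup.commutator_eq_bot_iff_le_centralizer]
    intro y _
    rw [Subgroup.mem_centralizer_iff]
    intro x _
    have h2 := hb x
    rw [hb0, pow_zero] at h2
    have h3 : (Subgroup.centralizer ({x} : Set G)).index = 1 := by
      have := (Subgroup.centralizer ({x} : Set G)).index_ne_zero_of_finite
      omega
    have h4 : y ∈ Subgroup.centralizer ({x} : Set G) := by
      rw [Subgroup.index_eq_one.mp h3]; exact Subgroup.mem_top y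
    exact Subgroup.mem_centralizer_iff.mp h4 x rfl

end Cfsg.Agent.S3778
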