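import Cfsg.Statements.S3780
import Cfsg.Agent.H1.BurnsideBasis
import Cfsg.Agent.H1.PGroup

set_option autoImplicit false
open Cfsg

namespace Cfsg.Agent.S3780

theorem iterate_bridge {V : Type*} [CommGroup V] (D : AddMonoid.End (Additive V)) (f : V → V)
    (hD : ∀ x, D x = Additive.ofMul (f (Additive.toMul x))) (i : ℕ) (x : Additive V) :
    (D ^ i) x = Additive.ofMul (f^[i] (Additive.toMul x)) := by
  induction i generalizing x with
  | zero => simp
  | succ i ih =>
    rw [pow_succ', AddMonoid.End.coe_mul, Function.comp_apply, ih, Function.iterate_succ_apply', hD]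
    rfl

theorem delta_iter_eq_one {V : Type*} [CommGroup V] {p : ℕ} (hp : p.Prime) (α : MulAut V)
    (hα : α ^ p = 1) (δ : V →* V) (hδ : ∀ v, δ v = v⁻¹ * α v) (w : V) (hw : w ^ p = 1) :
    (δ^[p]) w = 1 := by
  obtain ⟨A, hA⟩ : ∃ A : AddMonoid.End (Additive V), A = MonoidHom.toAdditive α.toMonoidHom :=
    ⟨_, rfl⟩
  obtain ⟨D, hDdef⟩ : ∃ D : AddMonoid.End (Additive V), D = MonoidHom.toAdditive δ := ⟨_, rfl⟩
  obtain ⟨m1, hm1⟩ : ∃ m1 : AddMonoid.End (Additive V), m1 = -1 := ⟨_, rfl⟩
  have hm1app : ∀ x : Additive V, m1 x = -x := by intro x; rw [hm1]; rfl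
  have hm1sq : m1 ^ 2 = 1 := by
    ext x
    rw [pow_two, AddMonoid.End.coe_mul, Function.comp_apply, hm1app, hm1app, neg_neg]; rfl
  have hm1odd : Odd p → m1 ^ p = m1 := by
    intro h
    obtain ⟨k, hk⟩ := h
    rw [hk, pow_succ, pow_mul, hm1sq, one_pow, one_mul]
  have hcomm : Commute A m1 := by rw [hm1]; exact Commute.neg_right (Commute.one_right A)
  have hD : D = A + m1 := by
    ext x
    rw [hDdef, hA]
    show Additive.ofMul (δ (Additive.toMul x)) = Additive.ofMul (α (Additive.toMul x)) + m1 x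
    rw [hδ, hm1app, add_comm]; rfl
  have hAapp : ∀ x, A x = Additive.ofMul ((fun v => α v) (Additive.toMul x)) := by
    intro x; rw [hA]; rfl
  have hDapp : ∀ x, D x = Additive.ofMul ((fun v => δ v) (Additive.toMul x)) := by
    intro x; rw [hDdef]; rfl
  have hiter : ∀ i : ℕ, ∀ v : V, (fun v => α v)^[i] v = (α ^ i) v := by
    intro i
    induction i with
    | zero => intro v; simp
    | succ i ih =>
      intro v
      rw [Function.iterate_succ_apply', ih, pow_succ', MulAut.mul_apply]
  have hAp : A ^ p = 1 := by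
    ext x
    rw [iterate_bridge A _ hAapp, hiter, hα]; rfl
  obtain ⟨r, hr⟩ := hcomm.exists_add_pow_prime_eq hp
  obtain ⟨x, hx⟩ : ∃ x : Additive V, x = Additive.ofMul w := ⟨_, rfl⟩
  have hpx : p • x = 0 := by rw [hx, ← ofMul_pow, hw]; rfl
  have key : (D ^ p) x = 0 := by
    rw [hD, hr, hAp]
    have h3 : ((p : AddMonoid.End (Additive V)) * A * m1 * r) x = 0 := by
      rw [mul_assoc, mul_assoc, AddMonoid.End.coe_mul, Function.comp_apply,
        AddMonoid.End.natCast_apply, ← map_nsmul, hpx, map_zero]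
    change ((1 : AddMonoid.End (Additive V)) x + (m1 ^ p) x) +
      ((p : AddMonoid.End (Additive V)) * A * m1 * r) x = 0
    rw [h3, add_zero]
    rcases hp.eq_two_or_odd' with h2 | hodd
    · rw [h2] at hpx ⊢
      rw [hm1sq]
      show x + x = 0
      rw [← two_nsmul]; exact hpx
    · rw [hm1odd hodd, hm1app]
      show x + -x = 0
      exact add_neg_cancel x
  have hb := iterate_bridge D _ hDapp p x
  rw [key, hx] at hb
  have hb2 : Additive.ofMul ((fun v => δ v)^[p] w) = 0 := hb.symm
  exact hb2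

/-- Let V be a finite abelian p-group and α an automorphism of V of order p whose fixed-point subgroup has order p^n. Then V can be generated by pn elements: some subset of V with at most pn elements generates V. -/
theorem result {V : Type*} [CommGroup V] [Finite V] {p : ℕ} [Fact p.Prime] (hV : IsPGroup p V) (α : MulAut V) (hα : orderOf α = p) (n : ℕ) (hfix : Nat.card {v : V // α v = v} = p ^ n) : ∃ S : Finset V, S.card ≤ p * n ∧ Subgroup.closure (S : Set V) = ⊤ := by

  classical
  have hp : p.Prime := Fact.out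
  have hαp : α ^ p = 1 := by rw [← hα]; exact pow_orderOf_eq_one α
  let δ : V →* V :=
    { toFun := fun v => v⁻¹ * α v
      map_one' := by simp
      map_mul' := by
        intro a b
        rw [map_mul, mul_inv]
        exact mul_mul_mul_comm _ _ _ _ }
  have hδ : ∀ v, δ v = v⁻¹ * α v := fun v => rfl
  obtain ⟨D, hDdef⟩ : ∃ D : Monoid.End V, D = δ := ⟨_, rfl⟩
  have hDapp : ∀ v, D v = v⁻¹ * α v := by intro v; rw [hDdef]; rfl
  obtain ⟨W, hW⟩ : ∃ W : Subgroup V, W = (powMonoidHom p : V →* V).ker := ⟨_, rfl⟩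
  have hWmem : ∀ w, w ∈ W ↔ w ^ p = 1 := by
    intro w; rw [hW, MonoidHom.mem_ker]; rfl
  obtain ⟨K, hK⟩ : ∃ K : ℕ → Subgroup V, K = fun i => W ⊓ MonoidHom.ker (D ^ i) := ⟨_, rfl⟩
  have hKmem : ∀ i w, w ∈ K i ↔ w ^ p = 1 ∧ (D ^ i) w = 1 := by
    intro i w
    rw [hK]
    show w ∈ W ⊓ MonoidHom.ker (D ^ i) ↔ _
    rw [Subgroup.mem_inf, hWmem]
    exact Iff.rfl
  have hsucc : ∀ i (w : V), (D ^ (i + 1)) w = D ((D ^ i) w) := by
    intro i w
    rw [pow_succ', Monoid.End.coe_mul, Function.comp_apply]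
  have hKmono : ∀ i, K i ≤ K (i + 1) := by
    intro i w hw
    obtain ⟨h1, h2⟩ := (hKmem i w).mp hw
    refine (hKmem (i + 1) w).mpr ⟨h1, ?_⟩
    rw [hsucc, h2, map_one]
  have hstep : ∀ i, Nat.card (K (i + 1)) ≤ Nat.card (K i) * Nat.card (K 1) := by
    intro i
    obtain ⟨f, hf⟩ : ∃ f : ↥(K (i + 1)) →* V, f = (D ^ i : V →* V).comp (K (i + 1)).subtype :=
      ⟨_, rfl⟩
    have hfapp : ∀ w : ↥(K (i + 1)), f w = (D ^ i) (w : V) := by intro w; rw [hf]; rfl
    have h1 : Nat.card (K (i + 1)) = Nat.card f.ker * Nat.card f.range := by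
      rw [← Subgroup.index_ker f, Subgroup.card_mul_index]
    have h2 : Nat.card f.range ≤ Nat.card (K 1) := by
      apply Subgroup.card_le_of_le
      rintro _ ⟨w, rfl⟩
      rw [hfapp, hKmem]
      obtain ⟨hw1, hw2⟩ := (hKmem (i + 1) w).mp w.2
      refine ⟨?_, ?_⟩
      · rw [← map_pow, hw1, map_one]
      · rw [pow_one, ← hsucc]; exact hw2
    have h3 : Nat.card f.ker = Nat.card (K i) := by
      have h4 : f.ker = (K i).subgroupOf (K (i + 1)) := by
        ext w
        rw [MonoidHom.mem_ker, Subgroup.mem_subgroupOf, hKmem, hfapp]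
        constructor
        · intro h; exact ⟨((hKmem (i + 1) w).mp w.2).1, h⟩
        · intro h; exact h.2
      rw [h4]
      exact Nat.card_congr (Subgroup.subgroupOfEquivOfLe (hKmono i)).toEquiv
    rw [h1, h3]; exact Nat.mul_le_mul_left _ h2
  have hbound : ∀ i, Nat.card (K i) ≤ (Nat.card (K 1)) ^ i := by
    intro i
    induction i with
    | zero =>
      have : K 0 = ⊥ := by
        rw [eq_bot_iff]
        intro w hw
        have := ((hKmem 0 w).mp hw).2
        rw [pow_zero] at this
        rw [Subgroup.mem_bot]; exact this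
      rw [this, Subgroup.card_bot, pow_zero]
    | succ i ih =>
      calc Nat.card (K (i + 1)) ≤ Nat.card (K i) * Nat.card (K 1) := hstep i
        _ ≤ (Nat.card (K 1)) ^ i * Nat.card (K 1) := Nat.mul_le_mul_right _ ih
        _ = (Nat.card (K 1)) ^ (i + 1) := (pow_succ _ _).symm
  have hKp : K p = W := by
    ext w
    rw [hKmem, hWmem]
    constructor
    · intro h; exact h.1
    · intro h
      refine ⟨h, ?_⟩
      rw [Monoid.End.coe_pow, hDdef]
      exact delta_iter_eq_one hp α hαp δ hδ w h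
  have hK1 : Nat.card (K 1) ≤ p ^ n := by
    rw [← hfix]
    have hfixed : ∀ w : ↥(K 1), α (w : V) = w := by
      intro w
      have := ((hKmem 1 w).mp w.2).2
      rw [pow_one, hDapp] at this
      exact (inv_mul_eq_one.mp this).symm
    exact Nat.card_le_card_of_injective (fun w : ↥(K 1) => (⟨w.1, hfixed w⟩ : {v : V // α v = v}))
      (by
        intro a b hab
        apply Subtype.ext
        have h := congrArg (fun z : {v : V // α v = v} => (z : V)) hab
        exact h)
  have hWcard : Nat.card W ≤ p ^ (p * n) := by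
    rw [← hKp]
    calc Nat.card (K p) ≤ (Nat.card (K 1)) ^ p := hbound p
      _ ≤ (p ^ n) ^ p := Nat.pow_le_pow_left hK1 p
      _ = p ^ (p * n) := by rw [← pow_mul, mul_comm]
  obtain ⟨n', hn'⟩ : ∃ n', (frattini V).index = p ^ n' := hV.index (frattini V)
  have hrange_le : (powMonoidHom p : V →* V).range ≤ frattini V := by
    unfold frattini Order.radical
    rw [le_iInf₂_iff]
    intro M hM
    obtain ⟨hn, hidx⟩ := Cfsg.Agent.H1.coatom_normal_index_of_pgroup hV M hM
    rintro _ ⟨v, rfl⟩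
    haveI := hn
    have h1 := Subgroup.pow_index_mem M v
    rw [hidx] at h1
    exact h1
  have hdvd : (frattini V).index ∣ Nat.card W := by
    have h1 := Subgroup.index_dvd_of_le hrange_le
    rw [Subgroup.index_range, ← hW] at h1
    exact h1
  have hle : p ^ n' ≤ p ^ (p * n) := by
    rw [← hn']; exact le_trans (Nat.le_of_dvd Nat.card_pos hdvd) hWcard
  have hn'le : n' ≤ p * n := (Nat.pow_le_pow_iff_right hp.one_lt).mp hle
  haveI : Fintype V := Fintype.ofFinite V
  obtain ⟨T, -, hTcard, hTgen⟩ :=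
    (Cfsg.Agent.H1.burnside_basis p n' hV hn').1 Finset.univ (by simp)
  exact ⟨T, by rw [hTcard]; exact hn'le, hTgen⟩

end Cfsg.Agent.S3780
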