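import Cfsg.Statements.S3784
import Mathlib

set_option autoImplicit false
open Cfsg

namespace Cfsg.Agent.S3784

theorem odd_dvd_two_pow {d n : ℕ} (hd : Odd d) (h : d ∣ 2 ^ n) : d = 1 := by
  obtain ⟨i, _, rfl⟩ := (Nat.dvd_prime_pow Nat.prime_two).mp h
  rcases Nat.eq_zero_or_pos i with h0 | h0
  · rw [h0, pow_zero]
  · exfalso
    have : Even (2 ^ i) := (Nat.even_pow).mpr ⟨even_two, by omega⟩
    exact (Nat.not_odd_iff_even.mpr this) hd

theorem cofactor (x : ℤ) (hx : Odd x) : ∀ k : ℕ, ∃ S : ℤ, Odd S ∧ x ^ (2 * k + 1) + 1 = (x + 1) * S := by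
  intro k
  induction k with
  | zero => exact ⟨1, odd_one, by ring⟩
  | succ k ih =>
    obtain ⟨S, hS, hk⟩ := ih
    refine ⟨x ^ 2 * S - (x - 1), ?_, ?_⟩
    · exact Odd.sub_even (Odd.mul (Odd.pow hx) hS) (Odd.sub_odd hx odd_one)
    · have e : x ^ (2 * (k + 1) + 1) = x ^ (2 * k + 1) * x ^ 2 := by ring
      rw [e]
      linear_combination (x ^ 2) * hk

theorem S_eq_one {y S : ℤ} {n : ℕ} (hy : 0 < y) (hS : Odd S) (h : y * S = 2 ^ n) : S = 1 := by
  have hSpos : 0 < S := by
    by_contra hneg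
    push Not at hneg
    have h1 : y * S ≤ 0 := mul_nonpos_of_nonneg_of_nonpos hy.le hneg
    have h2 : (0:ℤ) < 2 ^ n := by positivity
    rw [h] at h1
    linarith
  have hdvd : S.natAbs ∣ 2 ^ n := by
    have h0 : S ∣ 2 ^ n := ⟨y, by rw [← h]; ring⟩
    have h3 := Int.natAbs_dvd_natAbs.mpr h0
    rwa [Int.natAbs_pow] at h3
  have hodd : Odd S.natAbs := Int.natAbs_odd.mpr hS
  have h1 := odd_dvd_two_pow hodd hdvd
  omega

/-- Let p, q be primes and a, b positive integers with p^a = q^b + 1. Then either p = 2, b = 1, a is prime and q = 2^a − 1; or q = 2, a = 1, b is a power of 2 and p = 2^b + 1; or p^a = 9 and q^b = 8. -/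
theorem result (p q a b : ℕ) (hp : p.Prime) (hq : q.Prime) (ha : 1 ≤ a) (hb : 1 ≤ b) (h : p ^ a = q ^ b + 1) : (p = 2 ∧ b = 1 ∧ a.Prime ∧ q + 1 = 2 ^ a) ∨ (q = 2 ∧ a = 1 ∧ (∃ m : ℕ, b = 2 ^ m) ∧ p = 2 ^ b + 1) ∨ (p ^ a = 9 ∧ q ^ b = 8) := by

  have hp2 := hp.two_le
  have hq2 := hq.two_le
  rcases hp.eq_two_or_odd' with rfl | hpodd
  · -- p = 2
    left
    have hqodd : Odd q := by
      rcases hq.eq_two_or_odd' with rfl | h'
      · exfalso
        have h1 : Even (2 ^ a) := (Nat.even_pow).mpr ⟨even_two, by omega⟩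
        have h2 : Even (2 ^ b) := (Nat.even_pow).mpr ⟨even_two, by omega⟩
        rw [h] at h1
        rcases h1 with ⟨u, hu⟩
        rcases h2 with ⟨v, hv⟩
        omega
      · exact h'
    have hb1 : b = 1 := by
      rcases Nat.even_or_odd b with hbe | hbo
      · exfalso
        obtain ⟨c, hc⟩ := hbe
        have hqc : Odd (q ^ c) := hqodd.pow
        obtain ⟨j, hj⟩ := hqc
        have hqb : q ^ b = 4 * (j * j + j) + 1 := by
          rw [hc, pow_add, hj]; ring
        generalize j * j + j = m at hqb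
        rcases Nat.lt_or_ge a 2 with ha2 | ha2
        · have ha1 : a = 1 := by omega
          rw [ha1, pow_one] at h
          have hge : 2 ≤ q ^ b := le_trans hq2 (Nat.le_self_pow (by omega) q)
          omega
        · obtain ⟨d, rfl⟩ := Nat.exists_eq_add_of_le ha2
          rw [pow_add] at h
          omega
      · obtain ⟨k, hk⟩ := hbo
        obtain ⟨S, hSodd, hS⟩ := cofactor (q : ℤ) (by exact_mod_cast hqodd) k
        have hz : ((q:ℤ) + 1) * S = 2 ^ a := by
          rw [← hS, ← hk]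
          exact_mod_cast h.symm
        have hS1 := S_eq_one (by positivity) hSodd hz
        rw [hS1, mul_one] at hz
        have h3 : q + 1 = 2 ^ a := by exact_mod_cast hz
        have h4 : q ^ b = q ^ 1 := by rw [pow_one]; omega
        exact Nat.pow_right_injective hq2 h4
    subst hb1
    rw [pow_one] at h
    refine ⟨rfl, rfl, ?_, h.symm⟩
    have ha1 : a ≠ 1 := by
      rintro rfl
      rw [pow_one] at h; omega
    have hP : (2 ^ a - 1).Prime := by
      have e : 2 ^ a - 1 = q := by omega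
      rw [e]; exact hq
    exact (Nat.prime_of_pow_sub_one_prime ha1 hP).2
  · -- p odd
    right
    have hq2' : q = 2 := by
      rcases hq.eq_two_or_odd' with rfl | hqodd
      · rfl
      · exfalso
        have h1 : Odd (p ^ a) := hpodd.pow
        have h2 : Odd (q ^ b) := hqodd.pow
        rw [h] at h1
        rcases h1 with ⟨u, hu⟩
        rcases h2 with ⟨v, hv⟩
        omega
    subst hq2'
    rcases Nat.even_or_odd a with hae | hao
    · right
      obtain ⟨c, hc⟩ := hae
      have huodd : Odd (p ^ c) := hpodd.pow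
      obtain ⟨v, hv⟩ := huodd
      have h1 : p ^ a = (2 * v + 1) * (2 * v + 1) := by rw [hc, pow_add, hv]
      have h2 : 4 * (v * (v + 1)) = 2 ^ b := by
        have e : (2 * v + 1) * (2 * v + 1) = 4 * (v * (v + 1)) + 1 := by ring
        rw [e] at h1
        omega
      have hv1 : v ∣ 2 ^ b := ⟨4 * (v + 1), by rw [← h2]; ring⟩
      have hv2 : (v + 1) ∣ 2 ^ b := ⟨4 * v, by rw [← h2]; ring⟩
      have hv_eq : v = 1 := by
        rcases Nat.even_or_odd v with hve | hvo
        · have ho : Odd (v + 1) := hve.add_one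
          have h3 := odd_dvd_two_pow ho hv2
          have hv0 : v = 0 := by omega
          rw [hv0] at h2
          have : 0 < 2 ^ b := by positivity
          omega
        · exact odd_dvd_two_pow hvo hv1
      rw [hv_eq] at h1
      have h9 : p ^ a = 9 := by rw [h1]
      exact ⟨h9, by omega⟩
    · left
      obtain ⟨k, hk⟩ := hao
      have hpoddZ : Odd (p : ℤ) := by exact_mod_cast hpodd
      obtain ⟨S, hSodd, hS⟩ := cofactor (-(p : ℤ)) hpoddZ.neg k
      have hz : ((p:ℤ) - 1) * S = 2 ^ b := by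
        have e : (-(p:ℤ)) ^ (2 * k + 1) = - (p:ℤ) ^ (2 * k + 1) := Odd.neg_pow ⟨k, rfl⟩ _
        rw [e, ← hk] at hS
        have h' : (p:ℤ) ^ a = 2 ^ b + 1 := by exact_mod_cast h
        linear_combination hS + h'
      have hpos : (0:ℤ) < (p:ℤ) - 1 := by
        have : (2:ℤ) ≤ p := by exact_mod_cast hp2
        linarith
      have hS1 := S_eq_one hpos hSodd hz
      rw [hS1, mul_one] at hz
      have hpe : p = 2 ^ b + 1 := by
        have : (p : ℤ) = 2 ^ b + 1 := by linarith
        exact_mod_cast this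
      have ha1 : a = 1 := by
        have h4 : p ^ a = p ^ 1 := by rw [pow_one, h]; exact hpe.symm
        exact Nat.pow_right_injective hp2 h4
      have hP : (2 ^ b + 1).Prime := by rw [← hpe]; exact hp
      obtain ⟨m, hm⟩ := Nat.pow_of_pow_add_prime (by norm_num : 1 < 2) (by omega : b ≠ 0) hP
      exact ⟨rfl, ha1, ⟨m, hm⟩, hpe⟩

end Cfsg.Agent.S3784
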