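import Cfsg.Statements.S3785
import Cfsg.Agent.H1.Cores
import Cfsg.Agent.Lib.Lead.OmegaFaithful
import Mathlib

set_option autoImplicit false
open Cfsg

namespace Cfsg.Agent.S3785

open Cfsg.Agent.H1
open scoped commutatorElement


/-- Let G be a finite solvable group whose Fitting subgroup F(G) has odd order. If an element g of G commutes with every element of prime order of F(G), then g ∈ F(G). -/
theorem result {G : Type*} [Group G] [Finite G] (hG : Group.IsSolvable G) (hodd : Odd (Nat.card (Cfsg.fittingSubgroup G))) (g : G) (hg : ∀ x ∈ Cfsg.fittingSubgroup G, (orderOf x).Prime → g * x = x * g) : g ∈ Cfsg.fittingSubgroup G := by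

  classical
  obtain ⟨F, hF⟩ : ∃ F : Subgroup G, F = Cfsg.fittingSubgroup G := ⟨_, rfl⟩
  rw [← hF] at hodd hg ⊢
  have hFn : F.Normal := by rw [hF]; infer_instance
  have hpCoreF : ∀ p : ℕ, p.Prime → Cfsg.pCore p G ≤ F := by
    intro p hp
    haveI := Fact.mk hp
    rw [hF]
    exact le_fittingSubgroup inferInstance (pCore_isPGroup (G := G) p).isNilpotent
  obtain ⟨Ω, hΩ⟩ : ∃ Ω : Set G, Ω = {x | x ∈ F ∧ (orderOf x).Prime} := ⟨_, rfl⟩
  obtain ⟨C, hC⟩ : ∃ C : Subgroup G, C = Subgroup.centralizer Ω := ⟨_, rfl⟩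
  have hCmem : ∀ c, c ∈ C ↔ ∀ x ∈ F, (orderOf x).Prime → x * c = c * x := by
    intro c
    rw [hC, Subgroup.mem_centralizer_iff, hΩ]
    constructor
    · intro h x hx hxp; exact h x ⟨hx, hxp⟩
    · intro h x hx; exact h x hx.1 hx.2
  have hgC : g ∈ C := by
    rw [hCmem]; intro x hx hxp; exact (hg x hx hxp).symm
  have hCn : C.Normal := by
    constructor
    intro c hc y
    rw [hCmem] at hc ⊢
    intro x hx hxp
    have h1 : y⁻¹ * x * y ∈ F := by
      have := hFn.conj_mem x hx y⁻¹
      rwa [inv_inv] at this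
    have h2 : (orderOf (y⁻¹ * x * y)).Prime := by
      have : orderOf (y⁻¹ * x * y) = orderOf x :=
        (SemiconjBy.orderOf_eq y⁻¹ (show SemiconjBy y⁻¹ x (y⁻¹ * x * y) by
          unfold SemiconjBy; group)).symm
      rw [this]; exact hxp
    have h3 := hc _ h1 h2
    have e1 : x * (y * c * y⁻¹) = y * ((y⁻¹ * x * y) * c) * y⁻¹ := by group
    have e2 : y * c * y⁻¹ * x = y * (c * (y⁻¹ * x * y)) * y⁻¹ := by group
    rw [e1, e2, h3]
  -- key lemma
  have KL : ∀ p : ℕ, p.Prime → ∀ c ∈ C, (orderOf c).Coprime p →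
      c ∈ Subgroup.centralizer (Cfsg.pCore p G : Set G) := by
    intro p hp c hc hcop
    haveI := Fact.mk hp
    refine Cfsg.Agent.Lib.Lead.OmegaFaithful.centralizes_of_fixes_small (Cfsg.pCore p G) (pCore_isPGroup p) c ?_ hcop ?_
    · rw [Subgroup.normalizer_eq_top]; exact Subgroup.mem_top c
    · intro x hx hsmall
      have hxF : x ∈ F := hpCoreF p hp hx
      by_cases hx1 : x = 1
      · rw [hx1]; group
      · have hxprime : (orderOf x).Prime := by
          rcases hsmall with h1 | ⟨h2, h4⟩
          · have hd : orderOf x ∣ p := orderOf_dvd_of_pow_eq_one h1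
            rcases (Nat.dvd_prime hp).mp hd with h | h
            · exact absurd (orderOf_eq_one_iff.mp h) hx1
            · rw [h]; exact hp
          · exfalso
            have hd : orderOf x ∣ 2 ^ 2 := orderOf_dvd_of_pow_eq_one (by norm_num; exact h4)
            have hd2 : orderOf x ∣ Nat.card F := Subgroup.orderOf_dvd_natCard F hxF
            have hco : Nat.Coprime (2 ^ 2) (Nat.card F) :=
              Nat.Coprime.pow_left 2 (Nat.coprime_two_left.mpr hodd)
            have := Nat.eq_one_of_dvd_coprimes hco hd hd2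
            exact hx1 (orderOf_eq_one_iff.mp this)
        have h3 := (hCmem c).mp hc x hxF hxprime
        rw [← h3]; group
  -- the claim
  have claim : ∀ M : Subgroup G, M.Normal → M ≤ C → ⁅M, M⁆ ≤ F → M ≤ F := by
    intro M hMn hMC hMF
    rw [hF]
    apply le_fittingSubgroup hMn
    apply (Group.isNilpotent_of_finite_tfae.out 0 3).mpr
    intro r hr R
    have hrp : r.Prime := hr.out
    obtain ⟨R', hR'⟩ : ∃ R' : Subgroup G, R' = (R : Subgroup M).map M.subtype := ⟨_, rfl⟩
    have hR'p : IsPGroup r R' := by rw [hR']; exact R.isPGroup'.map _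
    have hR'M : R' ≤ M := by rw [hR']; exact Subgroup.map_subtype_le _
    obtain ⟨R₁, hR₁⟩ : ∃ R₁ : Subgroup G, R₁ = Cfsg.pCore r G ⊔ R' := ⟨_, rfl⟩
    have hR₁p : IsPGroup r R₁ := by
      rw [hR₁]; exact IsPGroup.to_sup_of_normal_left (pCore_isPGroup r) hR'p
    obtain ⟨A, hA⟩ : ∃ A : Subgroup G,
      A = ⨆ (q : Nat.Primes) (_ : (q : ℕ) ≠ r), Cfsg.pCore (q : ℕ) G := ⟨_, rfl⟩
    have hAcop : (Nat.card A).Coprime r := by
      have hle : A ≤ Cfsg.pPrimeCore r G := by
        rw [hA]
        apply iSup₂_le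
        intro q hq
        exact le_pPrimeCore inferInstance (pCore_coprime_of_ne hrp q.2 hq)
      exact Nat.Coprime.coprime_dvd_left (Subgroup.card_dvd_of_le hle) (pPrimeCore_coprime r)
    have hAcent : A ≤ Subgroup.centralizer (R₁ : Set G) := by
      rw [hA]
      apply iSup₂_le
      intro q hq
      haveI := Fact.mk q.2
      rw [Subgroup.le_centralizer_iff, hR₁]
      apply sup_le
      · intro x hx
        rw [Subgroup.mem_centralizer_iff]
        intro y hy
        have hdis : Disjoint (Cfsg.pCore (q : ℕ) G) (Cfsg.pCore r G) :=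
          IsPGroup.disjoint_of_ne (q : ℕ) r hq _ _ (pCore_isPGroup _) (pCore_isPGroup _)
        exact (Subgroup.commute_of_normal_of_disjoint _ _ inferInstance inferInstance hdis
          y x hy hx).eq
      · intro x hx
        apply KL (q : ℕ) q.2 x (hMC (hR'M hx))
        obtain ⟨k, hk⟩ := (IsPGroup.iff_orderOf.mp hR'p) ⟨x, hx⟩
        rw [Subgroup.orderOf_mk] at hk
        rw [hk]
        exact Nat.Coprime.pow_left k ((Nat.coprime_primes hrp q.2).mpr (Ne.symm hq))
    have hFle : F ≤ A ⊔ Cfsg.pCore r G := by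
      rw [hF, fittingSubgroup_eq_iSup_pCore]
      apply iSup_le
      intro q
      by_cases hq : (q : ℕ) = r
      · rw [hq]; exact le_sup_right
      · rw [hA]
        exact le_sup_of_le_left (le_iSup₂_of_le q hq le_rfl)
    have hRmax : R₁.subgroupOf M = (R : Subgroup M) := by
      apply R.is_maximal' hR₁p.comap_subtype
      intro y hy
      show (y : G) ∈ R₁
      rw [hR₁]
      apply Subgroup.mem_sup_right
      rw [hR']
      exact Subgroup.mem_map_of_mem _ hy
    constructor
    intro y hy m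
    rw [← hRmax, Subgroup.mem_subgroupOf]
    have hyR' : (y : G) ∈ R' := by rw [hR']; exact Subgroup.mem_map_of_mem M.subtype hy
    have hcomm : ⁅(m : G), (y : G)⁆ ∈ F := hMF (Subgroup.commutator_mem_commutator m.2 y.2)
    have hz : (m : G) * y * (m : G)⁻¹ = ⁅(m : G), (y : G)⁆ * y := by
      rw [commutatorElement_def]; group
    obtain ⟨b, hb, a, ha, hba⟩ := Subgroup.mem_sup_of_normal_right.mp (hFle hcomm)
    have hw : a * (y : G) ∈ R₁ := by
      rw [hR₁]
      exact Subgroup.mul_mem _ (Subgroup.mem_sup_left ha) (Subgroup.mem_sup_right hyR')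
    have hbw : Commute b (a * (y : G)) := by
      have := Subgroup.mem_centralizer_iff.mp (hAcent hb) _ hw
      exact this.symm
    have hz2 : (m : G) * y * (m : G)⁻¹ = b * (a * (y : G)) := by
      rw [hz, ← hba, mul_assoc]
    obtain ⟨k, hk⟩ := (IsPGroup.iff_orderOf.mp hR'p) ⟨(y : G), hyR'⟩
    rw [Subgroup.orderOf_mk] at hk
    obtain ⟨j, hj⟩ := (IsPGroup.iff_orderOf.mp hR₁p) ⟨a * (y : G), hw⟩
    rw [Subgroup.orderOf_mk] at hj
    have hzk : ((m : G) * y * (m : G)⁻¹) ^ (r ^ k * r ^ j) = 1 := by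
      rw [conj_pow, pow_mul, ← hk, pow_orderOf_eq_one, one_pow]; group
    have hwj : (a * (y : G)) ^ (r ^ k * r ^ j) = 1 := by
      rw [mul_comm, pow_mul, ← hj, pow_orderOf_eq_one, one_pow]
    have hbn : b ^ (r ^ k * r ^ j) = 1 := by
      have := hbw.mul_pow (r ^ k * r ^ j)
      rw [← hz2, hzk, hwj, mul_one] at this
      exact this.symm
    have hb1 : b = 1 := by
      have hd1 : orderOf b ∣ r ^ k * r ^ j := orderOf_dvd_of_pow_eq_one hbn
      have hd2 : orderOf b ∣ Nat.card A := Subgroup.orderOf_dvd_natCard A hb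
      have hco : Nat.Coprime (Nat.card A) (r ^ k * r ^ j) :=
        Nat.Coprime.mul_right (Nat.Coprime.pow_right k hAcop) (Nat.Coprime.pow_right j hAcop)
      have := Nat.eq_one_of_dvd_coprimes hco hd2 hd1
      exact orderOf_eq_one_iff.mp this
    show (m : G) * y * (m : G)⁻¹ ∈ R₁
    rw [hz2, hb1, one_mul]
    exact hw
  have main : ∀ n : ℕ, ∀ M : Subgroup G, Nat.card M = n → M.Normal → M ≤ C → M ≤ F := by
    intro n
    induction n using Nat.strong_induction_on with
    | _ n ih =>
    intro M hcard hMn hMC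
    haveI := hMn
    have hM'n : (⁅M, M⁆).Normal := inferInstance
    have hM'le : ⁅M, M⁆ ≤ M := Subgroup.commutator_le_self M
    rcases eq_or_lt_of_le hM'le with heq | hlt
    · have hder : ∀ k, M ≤ derivedSeries G k := by
        intro k
        induction k with
        | zero => exact le_top
        | succ k ihk =>
          calc M = ⁅M, M⁆ := heq.symm
            _ ≤ ⁅derivedSeries G k, derivedSeries G k⁆ := Subgroup.commutator_mono ihk ihk
      obtain ⟨k, hk⟩ := hG.solvable
      have := hder k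
      rw [hk] at this
      exact this.trans bot_le
    · have hlt' : Nat.card ↥(⁅M, M⁆) < n := by
        rw [← hcard]
        by_contra hge
        push Not at hge
        exact hlt.ne (Subgroup.eq_of_le_of_card_ge hlt.le hge)
      have h1 := ih _ hlt' ⁅M, M⁆ rfl hM'n (hM'le.trans hMC)
      exact claim M hMn hMC h1
  exact main _ C rfl hCn le_rfl hgC

end Cfsg.Agent.S3785
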