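import Cfsg.Statements.S3788
import Cfsg.Agent.H1.HHModZ
import Cfsg.Agent.H2.PPrimeCore
-- import your own Cfsg.Agent.* helpers here

set_option autoImplicit false
open Cfsg

namespace Cfsg.Agent.S3788

/-- Let G be a finite p-soluble group, P a Sylow p-subgroup of G and A a cyclic normal subgroup of P. If p is odd, or if no section of G is isomorphic to the symmetric group of degree 4, then A ≤ O_{p',p}(G). -/
theorem result {G : Type*} [Group G] [Finite G] {p : ℕ} [Fact p.Prime] (hG : Cfsg.IsPSolvable p G) (P : Sylow p G) (A : Subgroup G) (hAP : A ≤ (P : Subgroup G)) (hAn : (P : Subgroup G) ≤ Subgroup.normalizer (A : Set G)) (hA : IsCyclic A) (h : p ≠ 2 ∨ ¬ Cfsg.Involves (Equiv.Perm (Fin 4)) G) : A ≤ Cfsg.pPrimePCore p G := by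
  classical
  haveI hNn : (Cfsg.pPrimeCore p G).Normal := Cfsg.Agent.H1.pPrimeCore_normal p
  have hsolQ : Cfsg.IsPSolvable p (G ⧸ Cfsg.pPrimeCore p G) :=
    Cfsg.Agent.Lib.Lead.PSolvable.IsPSolvable.quotient (Cfsg.pPrimeCore p G) hG
  have hbotQ : Cfsg.pPrimeCore p (G ⧸ Cfsg.pPrimeCore p G) = ⊥ := Cfsg.Agent.H2.pPrimeCore_quotient_eq_bot p
  obtain ⟨g, hg⟩ := hA.exists_generator
  have hsurj : Function.Surjective (QuotientGroup.mk' (Cfsg.pPrimeCore p G)) := QuotientGroup.mk'_surjective _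
  -- the image of the generator
  have hgen : ∀ x ∈ A, ∃ i : ℤ, x = (g : G) ^ i := by
    intro x hx
    obtain ⟨i, hi⟩ := Subgroup.mem_zpowers_iff.1 (hg ⟨x, hx⟩)
    refine ⟨i, ?_⟩
    have := congrArg Subtype.val hi
    rw [Subgroup.coe_zpow] at this
    exact this.symm
  have hgp : ∃ k, (QuotientGroup.mk' (Cfsg.pPrimeCore p G) (g : G)) ^ p ^ k = 1 := by
    obtain ⟨k, hk⟩ := P.isPGroup' ⟨(g : G), hAP g.2⟩
    refine ⟨k, ?_⟩
    have := congrArg Subtype.val hk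
    rw [Subgroup.coe_pow, Subgroup.coe_one] at this
    rw [← map_pow, this, map_one]
  have hN : Cfsg.pCore p (G ⧸ Cfsg.pPrimeCore p G) ≤
      Subgroup.normalizer (Subgroup.zpowers (QuotientGroup.mk' (Cfsg.pPrimeCore p G) (g : G)) :
        Set (G ⧸ Cfsg.pPrimeCore p G)) := by
    refine le_trans (Cfsg.Agent.H1.pCore_le_sylow (P.mapSurjective hsurj)) ?_
    rw [Sylow.coe_mapSurjective]
    rintro _ ⟨x, hx, rfl⟩
    have hxN := hAn hx
    rw [Subgroup.mem_normalizer_iff] at hxN ⊢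
    have key : ∀ (x : G), (∀ h, h ∈ A ↔ x * h * x⁻¹ ∈ A) → ∀ y,
        y ∈ Subgroup.zpowers (QuotientGroup.mk' (Cfsg.pPrimeCore p G) (g : G)) →
        QuotientGroup.mk' (Cfsg.pPrimeCore p G) x * y * (QuotientGroup.mk' (Cfsg.pPrimeCore p G) x)⁻¹ ∈
          Subgroup.zpowers (QuotientGroup.mk' (Cfsg.pPrimeCore p G) (g : G)) := by
      intro x hxN y hy
      obtain ⟨i, rfl⟩ := Subgroup.mem_zpowers_iff.1 hy
      have h1 : x * (g : G) ^ i * x⁻¹ ∈ A := (hxN _).1 (A.zpow_mem g.2 i)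
      obtain ⟨j, hj⟩ := hgen _ h1
      rw [← map_zpow, ← map_inv, ← map_mul, ← map_mul, hj, map_zpow]
      exact Subgroup.zpow_mem _ (Subgroup.mem_zpowers _) j
    intro y
    constructor
    · exact key x hxN y
    · intro hy
      have hxN' : ∀ h, h ∈ A ↔ x⁻¹ * h * x⁻¹⁻¹ ∈ A := by
        intro h
        rw [hxN (x⁻¹ * h * x⁻¹⁻¹)]
        have : x * (x⁻¹ * h * x⁻¹⁻¹) * x⁻¹ = h := by group
        rw [this]
      have := key x⁻¹ hxN' _ hy
      rw [map_inv] at this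
      have e : (QuotientGroup.mk' (Cfsg.pPrimeCore p G) x)⁻¹ *
          (QuotientGroup.mk' (Cfsg.pPrimeCore p G) x * y * (QuotientGroup.mk' (Cfsg.pPrimeCore p G) x)⁻¹) *
          (QuotientGroup.mk' (Cfsg.pPrimeCore p G) x)⁻¹⁻¹ = y := by group
      rw [e] at this
      exact this
  have hfree : p ≠ 2 ∨ ¬ Cfsg.Involves (Equiv.Perm (Fin 4)) (G ⧸ Cfsg.pPrimeCore p G) := by
    rcases h with h | h
    · exact Or.inl h
    · refine Or.inr (fun hi => h ?_)
      exact Cfsg.Agent.Lib.Helper7.ThA.involves_of_surjective _ hsurj hi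
  have hmem := Cfsg.Agent.H1.HHMod.cyclic_le_pCore hsolQ hbotQ _ hgp hN hfree
  intro x hx
  rw [Cfsg.Agent.Lib.Lead.PSolvable.mem_pPrimePCore_iff]
  obtain ⟨i, rfl⟩ := hgen x hx
  rw [map_zpow]
  exact Subgroup.zpow_mem _ hmem i

end Cfsg.Agent.S3788
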