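import Mathlib
import Cfsg.Statements.S3799
import Cfsg.Prelude.Def_Transfer
import Cfsg.Agent.H1.Frattini
import Cfsg.Agent.Lib.Helper7.Core
import Cfsg.Agent.Lib.Helper7.Qd2

set_option autoImplicit false
open Cfsg

namespace Cfsg.Agent.S3799


section Part0

open Cfsg

/-- the Heisenberg group of rank `n` over `ZMod p` -/
@[ext] structure Heis (n p : ℕ) where
  a : Fin n → ZMod p
  b : Fin n → ZMod p
  c : ZMod p

namespace Heis

variable {n p : ℕ}

instance : Mul (Heis n p) := ⟨fun g h => ⟨g.a + h.a, g.b + h.b, g.c + h.c + g.a ⬝ᵥ h.b⟩⟩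
instance : One (Heis n p) := ⟨⟨0, 0, 0⟩⟩
instance : Inv (Heis n p) := ⟨fun g => ⟨-g.a, -g.b, -g.c + g.a ⬝ᵥ g.b⟩⟩

@[simp] theorem mul_a (g h : Heis n p) : (g * h).a = g.a + h.a := rfl
@[simp] theorem mul_b (g h : Heis n p) : (g * h).b = g.b + h.b := rfl
@[simp] theorem mul_c (g h : Heis n p) : (g * h).c = g.c + h.c + g.a ⬝ᵥ h.b := rfl
@[simp] theorem one_a : (1 : Heis n p).a = 0 := rfl
@[simp] theorem one_b : (1 : Heis n p).b = 0 := rfl
@[simp] theorem one_c : (1 : Heis n p).c = 0 := rfl
@[simp] theorem inv_a (g : Heis n p) : (g⁻¹).a = -g.a := rfl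
@[simp] theorem inv_b (g : Heis n p) : (g⁻¹).b = -g.b := rfl
@[simp] theorem inv_c (g : Heis n p) : (g⁻¹).c = -g.c + g.a ⬝ᵥ g.b := rfl

instance : Group (Heis n p) where
  mul_assoc g h k := by
    ext1
    · simp [add_assoc]
    · simp [add_assoc]
    · simp only [mul_c, mul_a, mul_b, add_dotProduct, dotProduct_add]; ring
  one_mul g := by
    ext1 <;> simp
  mul_one g := by
    ext1 <;> simp
  inv_mul_cancel g := by
    ext1
    · simp
    · simp
    · simp only [mul_c, inv_c, inv_a, one_c, neg_dotProduct]; ring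

theorem pow_a (g : Heis n p) (k : ℕ) : (g ^ k).a = k • g.a := by
  induction k with
  | zero => simp
  | succ k ih => rw [pow_succ, mul_a, ih, succ_nsmul]

theorem pow_b (g : Heis n p) (k : ℕ) : (g ^ k).b = k • g.b := by
  induction k with
  | zero => simp
  | succ k ih => rw [pow_succ, mul_b, ih, succ_nsmul]

theorem pow_c (g : Heis n p) (k : ℕ) :
    (g ^ k).c = k • g.c + (k.choose 2) • (g.a ⬝ᵥ g.b) := by
  induction k with
  | zero => simp
  | succ k ih =>
    rw [pow_succ, mul_c, ih, pow_a, smul_dotProduct, Nat.choose_succ_succ' k 1, Nat.choose_one_right,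
      succ_nsmul, add_nsmul]
    ring

end Heis

end Part0

section Part1

open Cfsg
open scoped commutatorElement

namespace Heis

variable {n p : ℕ}

theorem pow_p [Fact p.Prime] (hp : p ≠ 2) (g : Heis n p) : g ^ p = 1 := by
  have hpp : p.Prime := Fact.out
  have hcast : ((p : ℕ) : ZMod p) = 0 := ZMod.natCast_self p
  have hch : ((p.choose 2 : ℕ) : ZMod p) = 0 := by
    rw [ZMod.natCast_eq_zero_iff]
    apply Nat.Prime.dvd_choose_self hpp (by norm_num)
    have := hpp.two_le
    omega
  ext1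
  · rw [pow_a, one_a]
    ext i
    simp [hcast]
  · rw [pow_b, one_b]
    ext i
    simp [hcast]
  · rw [pow_c, one_c, nsmul_eq_mul, nsmul_eq_mul, hcast, hch]
    ring

def equivProd : Heis n p ≃ (Fin n → ZMod p) × (Fin n → ZMod p) × ZMod p where
  toFun g := (g.a, g.b, g.c)
  invFun t := ⟨t.1, t.2.1, t.2.2⟩
  left_inv g := rfl
  right_inv t := rfl

theorem card_eq [NeZero p] : Nat.card (Heis n p) = p ^ (1 + 2 * n) := by
  rw [Nat.card_congr equivProd, Nat.card_prod, Nat.card_prod, Nat.card_fun, Nat.card_zmod,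
    Nat.card_eq_fintype_card (α := Fin n), Fintype.card_fin]
  ring

instance [NeZero p] : Finite (Heis n p) := Finite.of_equiv _ equivProd.symm

theorem isPGroup [Fact p.Prime] : IsPGroup p (Heis n p) :=
  IsPGroup.of_card (n := 1 + 2 * n) card_eq

theorem mem_center_iff (g : Heis n p) : g ∈ Subgroup.center (Heis n p) ↔ g.a = 0 ∧ g.b = 0 := by
  classical
  rw [Subgroup.mem_center_iff]
  constructor
  · intro h
    constructor
    · ext i
      have := congrArg Heis.c (h ⟨0, Pi.single i 1, 0⟩)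
      simp only [mul_c, zero_dotProduct, dotProduct_single, mul_one] at this
      simpa using this.symm
    · ext i
      have := congrArg Heis.c (h ⟨Pi.single i 1, 0, 0⟩)
      simp only [mul_c, dotProduct_zero, single_dotProduct, one_mul] at this
      simpa using this
  · rintro ⟨ha, hb⟩ h
    ext1
    · simp [ha]
    · simp [hb]
    · simp [ha, hb, add_comm]

def centerEquiv : Subgroup.center (Heis n p) ≃ ZMod p where
  toFun g := g.1.c
  invFun t := ⟨⟨0, 0, t⟩, (mem_center_iff _).2 ⟨rfl, rfl⟩⟩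
  left_inv g := by
    obtain ⟨ha, hb⟩ := (mem_center_iff g.1).1 g.2
    apply Subtype.ext
    ext1
    · exact ha.symm
    · exact hb.symm
    · rfl
  right_inv t := rfl

theorem card_center [NeZero p] : Nat.card (Subgroup.center (Heis n p)) = p := by
  rw [Nat.card_congr centerEquiv, Nat.card_zmod]

theorem commutatorElement_eq (g h : Heis n p) :
    ⁅g, h⁆ = ⟨0, 0, g.a ⬝ᵥ h.b - h.a ⬝ᵥ g.b⟩ := by
  have h1 : ⁅g, h⁆ * (h * g) = g * h := by
    rw [commutatorElement_def]; group
  have h2 : (⟨0, 0, g.a ⬝ᵥ h.b - h.a ⬝ᵥ g.b⟩ : Heis n p) * (h * g) = g * h := by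
    ext1
    · simp [add_comm]
    · simp [add_comm]
    · simp only [mul_c, mul_a, mul_b, zero_dotProduct]; ring
  exact mul_right_cancel (h1.trans h2.symm)

theorem commutator_eq_center (hn : 1 ≤ n) :
    commutator (Heis n p) = Subgroup.center (Heis n p) := by
  classical
  apply le_antisymm
  · rw [commutator_def, Subgroup.commutator_le]
    intro g _ h _
    rw [commutatorElement_eq, mem_center_iff]
    exact ⟨rfl, rfl⟩
  · intro g hg
    obtain ⟨ha, hb⟩ := (mem_center_iff g).1 hg
    let i0 : Fin n := ⟨0, hn⟩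
    have : g = ⁅(⟨Pi.single i0 g.c, 0, 0⟩ : Heis n p), (⟨0, Pi.single i0 1, 0⟩ : Heis n p)⁆ := by
      rw [commutatorElement_eq]
      ext1
      · exact ha
      · exact hb
      · simp
    rw [this, commutator_def]
    exact Subgroup.commutator_mem_commutator (Subgroup.mem_top _) (Subgroup.mem_top _)

theorem frattini_eq_center [Fact p.Prime] (hp : p ≠ 2) (hn : 1 ≤ n) :
    frattini (Heis n p) = Subgroup.center (Heis n p) := by
  haveI : NeZero p := ⟨(Fact.out : p.Prime).ne_zero⟩
  apply le_antisymm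
  · apply Cfsg.Agent.Lib.Helper7.frattini_le_of_elemAb_quotient p
    · intro x y
      have : x * y * x⁻¹ * y⁻¹ = ⁅x, y⁆ := (commutatorElement_def x y).symm
      rw [this, commutatorElement_eq, mem_center_iff]
      exact ⟨rfl, rfl⟩
    · intro x
      rw [pow_p hp]
      exact Subgroup.one_mem _
  · rw [← commutator_eq_center hn]
    exact Cfsg.Agent.H1.commutator_le_frattini isPGroup

theorem isExtraspecial [Fact p.Prime] (hp : p ≠ 2) (hn : 1 ≤ n) :
    Cfsg.IsExtraspecial p (Heis n p) := by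
  haveI : NeZero p := ⟨(Fact.out : p.Prime).ne_zero⟩
  exact ⟨⟨isPGroup, frattini_eq_center hp hn, commutator_eq_center hn⟩, card_center⟩

end Heis

end Part1

section Part2

open Cfsg

section embed

variable {n p : ℕ}

abbrev VV (n p : ℕ) := ZMod p × (Fin n → ZMod p) × ZMod p

/-- the action of the Heisenberg group on `ZMod p × (Fin n → ZMod p) × ZMod p` -/
def act (g : Heis n p) : VV n p →ₗ[ZMod p] VV n p where
  toFun v := (v.1 + g.a ⬝ᵥ v.2.1 + g.c * v.2.2, v.2.1 + v.2.2 • g.b, v.2.2)
  map_add' v w := by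
    ext <;> simp [dotProduct_add, add_smul] <;> ring
  map_smul' r v := by
    ext <;> simp [dotProduct_smul, mul_smul] <;> ring

theorem act_apply (g : Heis n p) (v : VV n p) :
    act g v = (v.1 + g.a ⬝ᵥ v.2.1 + g.c * v.2.2, v.2.1 + v.2.2 • g.b, v.2.2) := rfl

def actHom : Heis n p →* Module.End (ZMod p) (VV n p) where
  toFun := act
  map_one' := by
    ext v <;> simp [act_apply]
  map_mul' g h := by
    ext v <;> simp [act_apply, add_dotProduct, dotProduct_add, dotProduct_smul, add_smul] <;> ring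

theorem actHom_injective : Function.Injective (actHom : Heis n p →* _) := by
  classical
  intro g h hgh
  have h1 : ∀ v, act g v = act h v := fun v => by
    have : actHom g v = actHom h v := by rw [hgh]
    exact this
  have e1 := h1 (0, 0, 1)
  simp only [act_apply, dotProduct_zero, one_smul, zero_add, mul_one, Prod.mk.injEq] at e1
  ext1
  · ext i
    have e2 := h1 (0, Pi.single i 1, 0)
    simp only [act_apply, dotProduct_single, mul_one, zero_smul, mul_zero, add_zero, zero_add,
      Prod.mk.injEq] at e2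
    exact e2.1
  · exact e1.2.1
  · exact e1.1

end embed

theorem result (p : ℕ) [Fact p.Prime] (hp : p ≠ 2) (n : ℕ) (hn : 1 ≤ n) : ∃ E : Subgroup (Matrix.GeneralLinearGroup (Fin (n + 2)) (ZMod p)), Cfsg.IsExtraspecial p ↥E ∧ Nat.card E = p ^ (1 + 2 * n) ∧ ∀ x ∈ E, x ^ p = 1 := by
  classical
  haveI : NeZero p := ⟨(Fact.out : p.Prime).ne_zero⟩
  have hrank : Module.finrank (ZMod p) (VV n p) = Module.finrank (ZMod p) (Fin (n + 2) → ZMod p) := by
    simp [VV]
    ring
  let eV : VV n p ≃ₗ[ZMod p] (Fin (n + 2) → ZMod p) := LinearEquiv.ofFinrankEq _ _ hrank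
  let Ψ : LinearMap.GeneralLinearGroup (ZMod p) (VV n p) ≃* Matrix.GeneralLinearGroup (Fin (n + 2)) (ZMod p) :=
    (LinearMap.GeneralLinearGroup.congrLinearEquiv eV).trans Matrix.GeneralLinearGroup.toLin.symm
  let Φ : Heis n p →* LinearMap.GeneralLinearGroup (ZMod p) (VV n p) := actHom.toHomUnits
  have hΦ : Function.Injective Φ := by
    intro g h hgh
    apply actHom_injective
    have := congrArg Units.val hgh
    exact this
  let f : Heis n p →* Matrix.GeneralLinearGroup (Fin (n + 2)) (ZMod p) := Ψ.toMonoidHom.comp Φ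
  have hf : Function.Injective f := Ψ.injective.comp hΦ
  let e : Heis n p ≃* f.range := MonoidHom.ofInjective hf
  refine ⟨f.range, Cfsg.Agent.Lib.Helper7.isExtraspecial_of_mulEquiv e (Heis.isExtraspecial hp hn), ?_, ?_⟩
  · rw [← Nat.card_congr e.toEquiv, Heis.card_eq]
  · rintro x ⟨g, rfl⟩
    rw [← map_pow, Heis.pow_p hp, map_one]

end Part2

end Cfsg.Agent.S3799
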