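import Cfsg.Statements.S3802
import Mathlib
import Cfsg.Agent.Lib.Lead.Subnormal2

set_option autoImplicit false
open Cfsg

namespace Cfsg.Agent.S3802

open scoped Pointwise
open Cfsg.Agent.Lib.Lead



/-- Let G be a finite group, M a maximal subgroup of G and N a subnormal subgroup of G contained in M. Then N is contained in every conjugate of M, that is, N lies in the core of M in G. -/
theorem result {G : Type*} [Group G] [Finite G] (M N : Subgroup G) (hM : IsCoatom M) (hN : N.IsSubnormal) (hNM : N ≤ M) :
    N ≤ Subgroup.normalCore M := by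
  set T : Set (Subgroup G) := {L | L.IsSubnormal ∧ L ≤ M} with hT
  have hLs : (sSup T).IsSubnormal := Subnormal.sSup_isSubnormal T (fun U hU => hU.1)
  have hLM : sSup T ≤ M := sSup_le (fun U hU => hU.2)
  have hconj : ∀ x : G, MulAut.conj x • sSup T ≤ M → MulAut.conj x • sSup T ≤ sSup T := by
    intro x hx
    exact le_sSup ⟨hLs.smul _, hx⟩
  have hMn : M ≤ Subgroup.normalizer ((sSup T : Subgroup G) : Set G) := by
    intro m hm
    apply Subnormal.mem_normalizer_of_conj_smul_le
    apply hconj
    intro z hz
    have hz' := (Subnormal.mem_conj_smul _ _ _).mp hz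
    have := M.mul_mem (M.mul_mem hm (hLM hz')) (M.inv_mem hm)
    have e : m * (m⁻¹ * z * m) * m⁻¹ = z := by group
    rwa [e] at this
  have hnorm : (sSup T).Normal := by
    by_contra hnn
    have h1 : Subgroup.normalizer ((sSup T : Subgroup G) : Set G) ≠ ⊤ := fun h =>
      hnn (Subgroup.normalizer_eq_top_iff.mp h)
    have hN' : Subgroup.normalizer ((sSup T : Subgroup G) : Set G) = M := (hM.le_iff_eq h1).mp hMn
    obtain ⟨x, hx1, hx2⟩ := Subnormal.exists_conj_le_normalizer hLs hnn
    rw [hN'] at hx2
    exact hx1 (Subnormal.conj_smul_eq_of_le x _ (hconj x hx2))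
  have h2 : sSup T ≤ Subgroup.normalCore M := (Subgroup.normal_le_normalCore).mpr hLM
  have h3 : N ∈ T := ⟨hN, hNM⟩
  exact (le_sSup h3).trans h2

end Cfsg.Agent.S3802
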