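import Mathlib
import Cfsg.Statements.S3803
import Cfsg.Agent.H1.MinimalAction
import Cfsg.Agent.S0026
import Cfsg.Agent.S0027

set_option autoImplicit false
set_option linter.unusedSectionVars false

namespace Cfsg.Agent.S3803

open Cfsg.Agent.H1
open scoped commutatorElement Pointwise

section
variable {X : Type*} [Group X] [Finite X]

lemma exists_between (P : Subgroup X) (hP : IsPGroup 2 P) (H : Subgroup X) (hHP : H ≤ P) (k : ℕ)
    (hHk : Nat.card H ≤ 2 ^ k) (hkP : 2 ^ k ≤ Nat.card P) :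
    ∃ K : Subgroup X, H ≤ K ∧ K ≤ P ∧ Nat.card K = 2 ^ k := by
  have : Fact (Nat.Prime 2) := ⟨Nat.prime_two⟩
  obtain ⟨n, hn⟩ := hP.exists_card_eq
  have hH' : IsPGroup 2 (H.subgroupOf P) := hP.to_subgroup _
  obtain ⟨h, hh⟩ := hH'.exists_card_eq
  have hcardH : Nat.card (H.subgroupOf P) = Nat.card H :=
    Nat.card_congr (Subgroup.subgroupOfEquivOfLe hHP).toEquiv
  have hhk : h ≤ k := by
    have : 2 ^ h ≤ 2 ^ k := by rw [← hh, hcardH]; exact hHk
    exact (Nat.pow_le_pow_iff_right (by norm_num)).1 this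
  have hkn : k ≤ n := by
    rw [hn] at hkP
    exact (Nat.pow_le_pow_iff_right (by norm_num)).1 hkP
  have hdvd : 2 ^ k ∣ Nat.card ↥P := by rw [hn]; exact pow_dvd_pow 2 hkn
  obtain ⟨K', hK', hHK'⟩ := Sylow.exists_subgroup_card_pow_prime_le 2 hdvd (H.subgroupOf P) hh hhk
  refine ⟨K'.map P.subtype, ?_, Subgroup.map_subtype_le K', ?_⟩
  · intro x hx
    exact Subgroup.mem_map.2 ⟨⟨x, hHP hx⟩, hHK' (Subgroup.mem_subgroupOf.2 hx), rfl⟩
  · rw [Subgroup.card_map_of_injective P.subtype_injective, hK']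

lemma norm_sup {A E F : Subgroup X} (hE : A ≤ Subgroup.normalizer (E : Set X))
    (hF : A ≤ Subgroup.normalizer (F : Set X)) :
    A ≤ Subgroup.normalizer ((E ⊔ F : Subgroup X) : Set X) := by
  intro a ha
  rw [Subgroup.mem_normalizer_iff_map_conj_eq, Subgroup.map_sup,
    Subgroup.mem_normalizer_iff_map_conj_eq.1 (hE ha), Subgroup.mem_normalizer_iff_map_conj_eq.1 (hF ha)]

/-- the Frattini subgroup of `P` as a subgroup of `X` -/
def Phi (P : Subgroup X) : Subgroup X := (frattini ↥P).map P.subtype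

lemma Phi_le (P : Subgroup X) : Phi P ≤ P := Subgroup.map_subtype_le _

lemma Phi_norm {A P : Subgroup X} (hAP : A ≤ Subgroup.normalizer (P : Set X)) :
    A ≤ Subgroup.normalizer ((Phi P : Subgroup X) : Set X) :=
  hAP.trans (normalizer_le_normalizer_map_of_characteristic P (frattini ↥P))

lemma Phi_subgroupOf (P : Subgroup X) : (Phi P).subgroupOf P = frattini ↥P :=
  Subgroup.comap_map_eq_self_of_injective P.subtype_injective _

lemma Phi_nongen (P E : Subgroup X) (hE : E ≤ P) (h : E ⊔ Phi P = P) : E = P := by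
  have h1 : (E ⊔ Phi P).subgroupOf P = ⊤ := by rw [h]; exact Subgroup.subgroupOf_self P
  rw [Subgroup.subgroupOf_sup hE (Phi_le P), Phi_subgroupOf] at h1
  have h2 := frattini_nongenerating h1
  exact le_antisymm hE (Subgroup.subgroupOf_eq_top.1 h2)

lemma sq_mem_Phi {P : Subgroup X} (hP : IsPGroup 2 P) {x : X} (hx : x ∈ P) : x ^ 2 ∈ Phi P := by
  have : Fact (Nat.Prime 2) := ⟨Nat.prime_two⟩
  exact Subgroup.mem_map.2 ⟨⟨x, hx⟩ ^ 2, pow_p_mem_frattini hP ⟨x, hx⟩, rfl⟩

lemma comm_le_Phi {P : Subgroup X} (hP : IsPGroup 2 P) : ⁅P, P⁆ ≤ Phi P := by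
  have : Fact (Nat.Prime 2) := ⟨Nat.prime_two⟩
  rw [← Subgroup.map_subtype_commutator]
  exact Subgroup.map_mono (commutator_le_frattini hP)

lemma Phi_ne {P : Subgroup X} (hP : P ≠ ⊥) : Phi P ≠ P := by
  intro h
  have : (⊥ : Subgroup X) = P := Phi_nongen P ⊥ bot_le (by rw [bot_sup_eq, h])
  exact hP this.symm


/-- an odd-order group normalizing a cyclic `2`-group centralizes it -/
lemma cyclic_centralized (A Z : Subgroup X) (hA : Odd (Nat.card A)) (hZ : IsPGroup 2 Z) (hc : IsCyclic ↥Z)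
    (hAZ : A ≤ Subgroup.normalizer (Z : Set X)) : ⁅Z, A⁆ = ⊥ := by
  have : Fact (Nat.Prime 2) := ⟨Nat.prime_two⟩
  obtain ⟨m, hm⟩ := hZ.exists_card_eq
  have hcard : Nat.card (MulAut ↥Z) = Nat.totient (2 ^ m) := by rw [IsCyclic.card_mulAut, hm]
  have hcop : (Nat.card A).Coprime (Nat.totient (2 ^ m)) := by
    rcases Nat.eq_zero_or_pos m with h0 | h0
    · rw [h0, pow_zero, Nat.totient_one]; exact Nat.coprime_one_right _
    · rw [Nat.totient_prime_pow Nat.prime_two h0]
      simp only [Nat.add_one_sub_one, mul_one]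
      exact Nat.Coprime.pow_right _ (Nat.coprime_two_right.2 hA)
  rw [Subgroup.commutator_eq_bot_iff_le_centralizer]
  intro z hz
  rw [Subgroup.mem_centralizer_iff]
  intro a ha
  have h1 : orderOf (conjHom A Z hAZ ⟨a, ha⟩) ∣ Nat.totient (2 ^ m) := by
    rw [← hcard]; exact orderOf_dvd_natCard _
  have h2 : orderOf (conjHom A Z hAZ ⟨a, ha⟩) ∣ Nat.card A :=
    (orderOf_map_dvd _ _).trans (orderOf_dvd_natCard _)
  have h3 : orderOf (conjHom A Z hAZ ⟨a, ha⟩) = 1 := Nat.eq_one_of_dvd_coprimes hcop h2 h1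
  rw [orderOf_eq_one_iff] at h3
  have h4 := conjHom_apply A Z hAZ ⟨a, ha⟩ ⟨z, hz⟩
  rw [h3] at h4
  simp only [MulAut.one_apply] at h4
  have h5 : a * z * a⁻¹ = z := h4.symm
  calc a * z = (a * z * a⁻¹) * a := by group
    _ = z * a := by rw [h5]


lemma coprime_of_le {A P R : Subgroup X} (hA : Odd (Nat.card A)) (hP : IsPGroup 2 P) (hR : R ≤ P) :
    (Nat.card A).Coprime (Nat.card R) := by
  have : Fact (Nat.Prime 2) := ⟨Nat.prime_two⟩
  obtain ⟨r, hr⟩ := (hP.to_le hR).exists_card_eq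
  rw [hr]
  exact Nat.Coprime.pow_right r (Nat.coprime_two_right.2 hA)

lemma solv_of_le {A P R : Subgroup X} (hP : IsPGroup 2 P) (hR : R ≤ P) :
    Group.IsSolvable A ∨ Group.IsSolvable R := by
  right
  have : Fact (Nat.Prime 2) := ⟨Nat.prime_two⟩
  have := (hP.to_le hR).isNilpotent
  infer_instance

/-- if `[P, A] ≤ Φ(P)` then `A` centralizes `P` -/
lemma centralized_of_le_Phi {A P : Subgroup X} (hA : Odd (Nat.card A)) (hP : IsPGroup 2 P)
    (hAP : A ≤ Subgroup.normalizer (P : Set X)) (h : ⁅P, A⁆ ≤ Phi P) : ⁅P, A⁆ = ⊥ := by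
  have h26 := Cfsg.Agent.S0026.result A P hAP (coprime_of_le hA hP le_rfl) (solv_of_le hP le_rfl)
  have h1 : (P ⊓ Subgroup.centralizer (A : Set X)) ⊔ Phi P = P := by
    apply le_antisymm (sup_le inf_le_left (Phi_le P))
    calc P = ⁅P, A⁆ ⊔ (P ⊓ Subgroup.centralizer (A : Set X)) := h26.symm
      _ ≤ Phi P ⊔ (P ⊓ Subgroup.centralizer (A : Set X)) := sup_le_sup_right h _
      _ = (P ⊓ Subgroup.centralizer (A : Set X)) ⊔ Phi P := sup_comm _ _
  have h2 := Phi_nongen P _ inf_le_left h1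
  rw [Subgroup.commutator_eq_bot_iff_le_centralizer]
  rw [← h2]
  exact inf_le_right


/-- if all maximal subgroups of `P` are `A`-invariant then `[P, A] ≤ Φ(P)` -/
lemma comm_le_Phi_of_max {A P : Subgroup X} (hP : IsPGroup 2 P)
    (hAP : A ≤ Subgroup.normalizer (P : Set X)) (n : ℕ) (hn : Nat.card P = 2 ^ (n + 1))
    (hinv : ∀ E : Subgroup X, E ≤ P → Nat.card E = 2 ^ n → A ≤ Subgroup.normalizer (E : Set X)) :
    ⁅P, A⁆ ≤ Phi P := by
  have : Fact (Nat.Prime 2) := ⟨Nat.prime_two⟩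
  rw [Subgroup.commutator_le]
  intro x hx a ha
  have hy : a * x⁻¹ * a⁻¹ ∈ P := (Subgroup.mem_normalizer_iff.1 (hAP ha) x⁻¹).1 (inv_mem hx)
  have hxa : ⁅x, a⁆ = x * (a * x⁻¹ * a⁻¹) := by rw [commutatorElement_def]; group
  rw [hxa]
  refine Subgroup.mem_map.2 ⟨⟨x, hx⟩ * ⟨a * x⁻¹ * a⁻¹, hy⟩, ?_, rfl⟩
  unfold frattini Order.radical
  rw [Subgroup.mem_iInf]
  intro M
  rw [Subgroup.mem_iInf]
  intro hM
  obtain ⟨hMn, hidx⟩ := coatom_normal_index_of_pgroup hP M hM
  have hMcard : Nat.card M = 2 ^ n := by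
    have h3 := M.card_mul_index
    rw [hidx, hn, pow_succ] at h3
    exact Nat.eq_of_mul_eq_mul_right (by norm_num) h3
  have hE := hinv (M.map P.subtype) (Subgroup.map_subtype_le M)
    (by rw [Subgroup.card_map_of_injective P.subtype_injective, hMcard]) ha
  rw [Subgroup.mul_mem_iff_of_index_two hidx]
  have hmem : ∀ (z : X) (hz : z ∈ P), (⟨z, hz⟩ : ↥P) ∈ M ↔ z ∈ M.map P.subtype := by
    intro z hz
    constructor
    · intro h; exact Subgroup.mem_map.2 ⟨_, h, rfl⟩
    · rintro ⟨w, hw, hwz⟩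
      have : w = ⟨z, hz⟩ := Subtype.ext hwz
      rw [← this]; exact hw
  rw [hmem, hmem, ← (Subgroup.mem_normalizer_iff.1 hE x⁻¹), inv_mem_iff]


theorem main (A : Subgroup X) (hA : Odd (Nat.card A)) :
    ∀ (N : ℕ) (P : Subgroup X), Nat.card P = N → IsPGroup 2 P →
      A ≤ Subgroup.normalizer (P : Set X) → ∀ d : ℕ, 1 ≤ d → 2 ^ d < Nat.card P →
      (∀ E : Subgroup X, E ≤ P → (Nat.card E = 2 ^ d ∨ (d = 1 ∧ Nat.card E = 4)) →
        A ≤ Subgroup.normalizer (E : Set X)) → ⁅P, A⁆ = ⊥ := by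
  intro N
  induction N using Nat.strong_induction_on with
  | _ N ih =>
  intro P hPN hP hAP d hd hdP hinv
  have : Fact (Nat.Prime 2) := ⟨Nat.prime_two⟩
  obtain ⟨n, hn⟩ := hP.exists_card_eq
  have hdn : d < n := by
    rw [hn] at hdP; exact (Nat.pow_lt_pow_iff_right (by norm_num)).1 hdP
  have IH : ∀ R : Subgroup X, R ≤ P → R ≠ P → A ≤ Subgroup.normalizer (R : Set X) →
      2 ^ d < Nat.card R → ⁅R, A⁆ = ⊥ := by
    intro R hR hne hAR hdR
    have hlt : Nat.card R < N := by
      rw [← hPN]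
      by_contra hcon
      exact hne (Subgroup.eq_of_le_of_card_ge hR (not_lt.1 hcon))
    exact ih _ hlt R rfl (hP.to_le hR) hAR d hd hdR (fun E hE h => hinv E (hE.trans hR) h)
  by_cases hdn1 : d + 1 = n
  · apply centralized_of_le_Phi hA hP hAP
    apply comm_le_Phi_of_max hP hAP d (by rw [hn, hdn1])
    intro E hE hcard
    exact hinv E hE (Or.inl hcard)
  have hdn2 : d + 2 ≤ n := by omega
  have hd1P : 2 ^ (d + 1) ≤ Nat.card P := by
    rw [hn]; exact Nat.pow_le_pow_right (by norm_num) (by omega)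
  have hQP : ⁅P, A⁆ ≤ P := Subgroup.le_normalizer_iff_commutator_le_left.mp hAP
  have hAQ : A ≤ Subgroup.normalizer ((⁅P, A⁆ : Subgroup X) : Set X) :=
    Subgroup.normalizer_commutator_ge_right P A
  have h27 := Cfsg.Agent.S0027.result A P hAP (coprime_of_le hA hP le_rfl) (solv_of_le hP le_rfl)
  by_cases hQ : ⁅P, A⁆ = P
  · exfalso
    have hC : P ⊓ Subgroup.centralizer (A : Set X) ≤ Phi P :=
      (inf_centralizer_le_commutator_of_commutator_eq A P hAP hP (Nat.coprime_two_right.2 hA) hQ).trans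
        (comm_le_Phi hP)
    have h_ii : ∀ R : Subgroup X, R ≤ P → R ≠ P → A ≤ Subgroup.normalizer (R : Set X) →
        2 ^ d < Nat.card R → R ≤ Phi P := by
      intro R hR hne hAR hdR
      have := IH R hR hne hAR hdR
      rw [Subgroup.commutator_eq_bot_iff_le_centralizer] at this
      exact (le_inf hR this).trans hC
    have hPne : P ≠ ⊥ := by
      intro h
      rw [h, Subgroup.card_bot] at hdP
      have : 1 ≤ 2 ^ d := Nat.one_le_two_pow
      omega
    have hΦne : Phi P ≠ P := Phi_ne hPne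
    have hAΦ : A ≤ Subgroup.normalizer ((Phi P : Subgroup X) : Set X) := Phi_norm hAP
    have hΦ2 : IsPGroup 2 (Phi P) := hP.to_le (Phi_le P)
    -- (iii)
    have h_iii : 2 ^ d ≤ Nat.card (Phi P) := by
      by_contra hcon
      have hcon : Nat.card (Phi P) < 2 ^ d := not_le.1 hcon
      obtain ⟨F, hΦF, hFP, hFcard⟩ := exists_between P hP (Phi P) (Phi_le P) (d + 1)
        (hcon.le.trans (Nat.pow_le_pow_right (by norm_num) (Nat.le_succ d))) hd1P
      have hF2 : IsPGroup 2 F := hP.to_le hFP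
      obtain ⟨E₁, hΦE₁, hE₁F, hE₁card⟩ := exists_between F hF2 (Phi P) hΦF d hcon.le
        (by rw [hFcard]; exact Nat.pow_le_pow_right (by norm_num) (Nat.le_succ d))
      have hE₁ne : E₁ ≠ F := by
        intro h
        rw [h, hFcard] at hE₁card
        have := Nat.pow_right_injective (le_refl 2) hE₁card
        omega
      obtain ⟨y, hyF, hyE₁⟩ : ∃ y ∈ F, y ∉ E₁ := by
        by_contra hno
        apply hE₁ne
        apply le_antisymm hE₁F
        intro y hy
        by_contra hy'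
        exact hno ⟨y, hy, hy'⟩
      have hzF : Subgroup.zpowers y ≤ F := Subgroup.zpowers_le.2 hyF
      have hycard : Nat.card (Subgroup.zpowers y) ≤ 2 ^ d := by
        obtain ⟨k, hk⟩ := (hF2.to_le hzF).exists_card_eq
        rw [hk]
        by_contra hcon2
        have hkd : d + 1 ≤ k := by
          have : 2 ^ d < 2 ^ k := not_le.1 hcon2
          exact (Nat.pow_lt_pow_iff_right (by norm_num)).1 this
        have hy2 : y ^ 2 ∈ Phi P := sq_mem_Phi hP (hFP hyF)
        have h1 : Nat.card (Subgroup.zpowers (y ^ 2)) ≤ Nat.card (Phi P) :=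
          Subgroup.card_le_of_le (Subgroup.zpowers_le.2 hy2)
        rw [Nat.card_zpowers] at h1 hk
        have hdvd : orderOf y ∣ 2 * orderOf (y ^ 2) := by
          apply orderOf_dvd_of_pow_eq_one
          rw [pow_mul, pow_orderOf_eq_one]
        have hpos : 0 < orderOf (y ^ 2) := orderOf_pos _
        have h2 : orderOf y ≤ 2 * orderOf (y ^ 2) := Nat.le_of_dvd (by omega) hdvd
        have h3 : 2 ^ (d + 1) ≤ 2 ^ k := Nat.pow_le_pow_right (by norm_num) hkd
        rw [pow_succ] at h3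
        omega
      obtain ⟨E₂, hzE₂, hE₂F, hE₂card⟩ := exists_between F hF2 _ hzF d hycard
        (by rw [hFcard]; exact Nat.pow_le_pow_right (by norm_num) (Nat.le_succ d))
      have hyE₂ : y ∈ E₂ := hzE₂ (Subgroup.mem_zpowers y)
      have hsupF : E₁ ⊔ E₂ = F := by
        apply Subgroup.eq_of_le_of_card_ge (sup_le hE₁F hE₂F)
        obtain ⟨j, hj⟩ := (hF2.to_le (sup_le hE₁F hE₂F)).exists_card_eq
        rw [hj, hFcard]
        apply Nat.pow_le_pow_right (by norm_num)
        by_contra hc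
        have hjd : j ≤ d := by omega
        have h1 : Nat.card (E₁ ⊔ E₂ : Subgroup X) ≤ Nat.card E₁ := by
          rw [hj, hE₁card]; exact Nat.pow_le_pow_right (by norm_num) hjd
        have h2 := Subgroup.eq_of_le_of_card_ge (le_sup_left : E₁ ≤ E₁ ⊔ E₂) h1
        apply hyE₁
        rw [h2]
        exact (le_sup_right : E₂ ≤ E₁ ⊔ E₂) hyE₂
      have hAF : A ≤ Subgroup.normalizer (F : Set X) := by
        rw [← hsupF]
        exact norm_sup (hinv E₁ (hE₁F.trans hFP) (Or.inl hE₁card)) (hinv E₂ (hE₂F.trans hFP) (Or.inl hE₂card))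
      have hFne : F ≠ P := by
        intro h
        rw [h, hn] at hFcard
        have := Nat.pow_right_injective (le_refl 2) hFcard
        omega
      have hFd : 2 ^ d < Nat.card F := by
        rw [hFcard]; exact Nat.pow_lt_pow_right (by norm_num) (Nat.lt_succ_self d)
      have h5 := Subgroup.card_le_of_le (h_ii F hFP hFne hAF hFd)
      omega
    -- (iv)
    have h_iv : ∀ E : Subgroup X, E ≤ P → E ≠ P → A ≤ Subgroup.normalizer (E : Set X) → E ≤ Phi P := by
      intro E hE hne hAE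
      by_contra hcon
      have hR : E ⊔ Phi P ≤ P := sup_le hE (Phi_le P)
      have hRne : E ⊔ Phi P ≠ P := fun h => hne (Phi_nongen P E hE h)
      have hAR := norm_sup hAE hAΦ
      have hRcard : 2 ^ d < Nat.card (E ⊔ Phi P : Subgroup X) := by
        apply lt_of_le_of_lt h_iii
        by_contra hc
        have := Subgroup.eq_of_le_of_card_ge (le_sup_right : Phi P ≤ E ⊔ Phi P) (not_lt.1 hc)
        apply hcon
        rw [this]; exact le_sup_left
      exact hcon (le_sup_left.trans (h_ii _ hR hRne hAR hRcard))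
    -- (v)
    have h_v : ∀ x ∈ P, x ^ 4 = 1 → x ∈ Phi P := by
      intro x hx hx4
      have hzP : Subgroup.zpowers x ≤ P := Subgroup.zpowers_le.2 hx
      have hord : orderOf x ∣ 4 := orderOf_dvd_of_pow_eq_one hx4
      have hzcard : Nat.card (Subgroup.zpowers x) = orderOf x := Nat.card_zpowers x
      have hex : ∃ E : Subgroup X, E ≤ P ∧ E ≠ P ∧ x ∈ E ∧ A ≤ Subgroup.normalizer (E : Set X) := by
        by_cases hle : orderOf x ≤ 2 ^ d
        · obtain ⟨E, hzE, hEP, hEcard⟩ := exists_between P hP _ hzP d (by rw [hzcard]; exact hle) hdP.le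
          refine ⟨E, hEP, ?_, hzE (Subgroup.mem_zpowers x), hinv E hEP (Or.inl hEcard)⟩
          intro h; rw [h] at hEcard; omega
        · have hle4 : orderOf x ≤ 4 := Nat.le_of_dvd (by norm_num) hord
          have hd1 : d = 1 := by
            by_contra hd1
            have h2 : 2 ≤ d := by omega
            have : 2 ^ 2 ≤ 2 ^ d := Nat.pow_le_pow_right (by norm_num) h2
            omega
          have ho4 : orderOf x = 4 := by
            have hle' : ¬ orderOf x ≤ 2 := by rw [hd1] at hle; simpa using hle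
            have hmem : orderOf x ∈ Nat.divisors 4 := Nat.mem_divisors.2 ⟨hord, by norm_num⟩
            have h4 : Nat.divisors 4 = {1, 2, 4} := by decide
            rw [h4] at hmem
            simp only [Finset.mem_insert, Finset.mem_singleton] at hmem
            omega
          refine ⟨Subgroup.zpowers x, hzP, ?_, Subgroup.mem_zpowers x,
            hinv _ hzP (Or.inr ⟨hd1, by rw [hzcard, ho4]⟩)⟩
          intro h
          rw [h, hn] at hzcard
          have : 2 ^ 3 ≤ 2 ^ n := Nat.pow_le_pow_right (by norm_num) (by omega)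
          omega
      obtain ⟨E, hEP, hEne, hxE, hAE⟩ := hex
      exact h_iv E hEP hEne hAE hxE
    -- (vi)
    have h_vi : ⁅Phi P, A⁆ = ⊥ := by
      by_cases hΦd : 2 ^ d < Nat.card (Phi P)
      · exact IH _ (Phi_le P) hΦne hAΦ hΦd
      · have hΦcard : Nat.card (Phi P) = 2 ^ d := le_antisymm (not_lt.1 hΦd) h_iii
        obtain ⟨x, hxP, hxΦ⟩ : ∃ x ∈ P, x ∉ Phi P := by
          by_contra hno
          apply hΦne
          apply le_antisymm (Phi_le P)
          intro y hy
          by_contra hy'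
          exact hno ⟨y, hy, hy'⟩
        have hzP : Subgroup.zpowers x ≤ P := Subgroup.zpowers_le.2 hxP
        have hord : 2 ^ d < orderOf x := by
          by_contra hc
          obtain ⟨E, hzE, hEP, hEcard⟩ := exists_between P hP _ hzP d
            (by rw [Nat.card_zpowers]; exact not_lt.1 hc) hdP.le
          have hEne : E ≠ P := by intro h; rw [h] at hEcard; omega
          exact hxΦ (h_iv E hEP hEne (hinv E hEP (Or.inl hEcard)) (hzE (Subgroup.mem_zpowers x)))
        have hx2 : x ^ 2 ∈ Phi P := sq_mem_Phi hP hxP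
        have hdvd : orderOf x ∣ 2 * orderOf (x ^ 2) := by
          apply orderOf_dvd_of_pow_eq_one
          rw [pow_mul, pow_orderOf_eq_one]
        have hle : Subgroup.zpowers (x ^ 2) ≤ Phi P := Subgroup.zpowers_le.2 hx2
        have hΦeq : Subgroup.zpowers (x ^ 2) = Phi P := by
          apply Subgroup.eq_of_le_of_card_ge hle
          rw [Nat.card_zpowers, hΦcard]
          obtain ⟨k, hk⟩ := (hP.to_le hzP).exists_card_eq
          rw [Nat.card_zpowers] at hk
          have hkd : d + 1 ≤ k := by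
            rw [hk] at hord
            exact (Nat.pow_lt_pow_iff_right (by norm_num)).1 hord
          have hpos : 0 < orderOf (x ^ 2) := orderOf_pos _
          have h2 : orderOf x ≤ 2 * orderOf (x ^ 2) := Nat.le_of_dvd (by omega) hdvd
          have h3 : 2 ^ (d + 1) ≤ 2 ^ k := Nat.pow_le_pow_right (by norm_num) hkd
          rw [pow_succ] at h3
          omega
        have hcyc : IsCyclic ↥(Phi P) := by
          rw [← hΦeq]; infer_instance
        exact cyclic_centralized A (Phi P) hA hΦ2 hcyc hAΦ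
    have hΦA : ∀ z ∈ Phi P, ∀ a ∈ A, a * z = z * a := by
      intro z hz a ha
      have h1 := Subgroup.commutator_eq_bot_iff_le_centralizer.1 h_vi hz
      rw [Subgroup.mem_centralizer_iff] at h1
      exact h1 a ha
    -- (vii)
    have h_vii : ⁅P, Phi P⁆ = ⊥ := by
      have h1 : ⁅⁅P, Phi P⁆, A⁆ = ⊥ := by
        have : ⁅P, Phi P⁆ ≤ Phi P := (Subgroup.commutator_mono le_rfl (Phi_le P)).trans (comm_le_Phi hP)
        exact le_bot_iff.1 ((Subgroup.commutator_mono this le_rfl).trans h_vi.le)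
      have h2 : ⁅⁅Phi P, A⁆, P⁆ = ⊥ := by rw [h_vi, Subgroup.commutator_bot_left]
      have h3 := Subgroup.commutator_commutator_eq_bot_of_rotate h1 h2
      rw [Subgroup.commutator_comm A P, hQ] at h3
      exact h3
    have hΦP : ∀ z ∈ Phi P, ∀ x ∈ P, x * z = z * x := by
      intro z hz x hx
      have h1 := Subgroup.commutator_eq_bot_iff_le_centralizer.1 h_vii hx
      rw [Subgroup.mem_centralizer_iff] at h1
      exact (h1 z hz).symm
    -- (viii)
    let S : Subgroup X :=
      { carrier := {x | x ∈ P ∧ x ^ 2 ∈ ⁅P, P⁆}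
        mul_mem' := by
          rintro x y ⟨hx, hx2⟩ ⟨hy, hy2⟩
          refine ⟨mul_mem hx hy, ?_⟩
          have : (x * y) ^ 2 = x ^ 2 * ⁅x⁻¹, y⁆ * y ^ 2 := by
            simp only [pow_two, commutatorElement_def]; group
          rw [this]
          exact mul_mem (mul_mem hx2 (Subgroup.commutator_mem_commutator (inv_mem hx) hy)) hy2
        one_mem' := ⟨one_mem _, by simp⟩
        inv_mem' := by
          rintro x ⟨hx, hx2⟩
          exact ⟨inv_mem hx, by rw [inv_pow]; exact inv_mem hx2⟩ }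
    have hPS : ⁅P, A⁆ ≤ S := by
      rw [Subgroup.commutator_le]
      intro x hx a ha
      have hy : a * x⁻¹ * a⁻¹ ∈ P := (Subgroup.mem_normalizer_iff.1 (hAP ha) x⁻¹).1 (inv_mem hx)
      refine ⟨hQP (Subgroup.commutator_mem_commutator hx ha), ?_⟩
      have hy2 : (a * x⁻¹ * a⁻¹) ^ 2 = (x ^ 2)⁻¹ := by
        have h1 : (a * x⁻¹ * a⁻¹) ^ 2 = a * (x ^ 2)⁻¹ * a⁻¹ := by
          simp only [pow_two]; group
        rw [h1, hΦA _ (inv_mem (sq_mem_Phi hP hx)) a ha]; group
      have hexp : ⁅x, a⁆ ^ 2 = x ^ 2 * ⁅x⁻¹, a * x⁻¹ * a⁻¹⁆ * (a * x⁻¹ * a⁻¹) ^ 2 := by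
        simp only [pow_two, commutatorElement_def]; group
      rw [hexp, hy2]
      have hc : ⁅x⁻¹, a * x⁻¹ * a⁻¹⁆ ∈ ⁅P, P⁆ := Subgroup.commutator_mem_commutator (inv_mem hx) hy
      have hcP : ⁅x⁻¹, a * x⁻¹ * a⁻¹⁆ ∈ P := (Phi_le P) (comm_le_Phi hP hc)
      have h4 := hΦP _ (sq_mem_Phi hP hx) _ hcP
      rw [← h4, mul_assoc, mul_inv_cancel, mul_one]
      exact hc
    -- (ix)
    let S₂ : Subgroup X :=
      { carrier := {z | z ∈ Phi P ∧ z ^ 2 = 1}
        mul_mem' := by
          rintro z w ⟨hz, hz2⟩ ⟨hw, hw2⟩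
          refine ⟨mul_mem hz hw, ?_⟩
          have hcomm : Commute z w := hΦP w hw z (Phi_le P hz)
          rw [hcomm.mul_pow, hz2, hw2, mul_one]
        one_mem' := ⟨one_mem _, by simp⟩
        inv_mem' := by
          rintro z ⟨hz, hz2⟩
          exact ⟨inv_mem hz, by rw [inv_pow, hz2, inv_one]⟩ }
    have hPPS : ⁅P, P⁆ ≤ S₂ := by
      rw [Subgroup.commutator_le]
      intro x hx y hy
      have hc : ⁅x, y⁆ ∈ Phi P := comm_le_Phi hP (Subgroup.commutator_mem_commutator hx hy)
      refine ⟨hc, ?_⟩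
      have h1 : ⁅x ^ 2, y⁆ = x * ⁅x, y⁆ * x⁻¹ * ⁅x, y⁆ := by
        simp only [pow_two, commutatorElement_def]; group
      have h2 : ⁅x ^ 2, y⁆ = 1 := by
        rw [commutatorElement_def, ← hΦP _ (sq_mem_Phi hP hx) y hy]; group
      have h3 : x * ⁅x, y⁆ = ⁅x, y⁆ * x := hΦP _ hc x hx
      rw [h2, h3, mul_inv_cancel_right] at h1
      rw [pow_two]; exact h1.symm
    -- (x)
    apply hΦne
    apply le_antisymm (Phi_le P)
    intro x hx
    apply h_v x hx
    have hxS : x ∈ S := hPS (by rw [hQ]; exact hx)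
    have h1 := (hPPS hxS.2).2
    rw [← pow_mul] at h1
    exact h1
  · by_cases hQd : 2 ^ d < Nat.card (⁅P, A⁆ : Subgroup X)
    · have := IH _ hQP hQ hAQ hQd
      rw [h27] at this
      exact this
    · have hQd' : Nat.card (⁅P, A⁆ : Subgroup X) ≤ 2 ^ (d + 1) :=
        (not_lt.1 hQd).trans (Nat.pow_le_pow_right (by norm_num) (Nat.le_succ d))
      obtain ⟨R, hQR, hRP, hRcard⟩ := exists_between P hP _ hQP (d + 1) hQd' hd1P
      have hAR : A ≤ Subgroup.normalizer (R : Set X) := by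
        intro a ha
        apply mem_normalizer_of_conj_mem
        intro r hr
        have h1 : ⁅a, r⁆ ∈ ⁅P, A⁆ := by
          rw [Subgroup.commutator_comm]
          exact Subgroup.commutator_mem_commutator ha (hRP hr)
        have h2 : a * r * a⁻¹ = ⁅a, r⁆ * r := by rw [commutatorElement_def]; group
        rw [h2]
        exact mul_mem (hQR h1) hr
      have hRne : R ≠ P := by
        intro h
        rw [h, hn] at hRcard
        have := Nat.pow_right_injective (le_refl 2) hRcard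
        omega
      have hRd : 2 ^ d < Nat.card R := by
        rw [hRcard]; exact Nat.pow_lt_pow_right (by norm_num) (Nat.lt_succ_self d)
      have h3 := IH R hRP hRne hAR hRd
      have h4 : ⁅⁅P, A⁆, A⁆ ≤ ⁅R, A⁆ := Subgroup.commutator_mono hQR le_rfl
      rw [h27, h3] at h4
      exact le_bot_iff.1 h4

end

open Cfsg

/-- Let P be a 2-subgroup and A a subgroup of odd order of a finite group, with A normalizing P. Let D ≤ P with 1 < |D| < |P|. If every subgroup of P of order |D|, and also every subgroup of P of order 4 in case |D| = 2, is normalized by A, then A centralizes P. -/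
theorem result {X : Type*} [Group X] [Finite X] (P A D : Subgroup X) (hP : IsPGroup 2 P) (hA : Odd (Nat.card A))
    (hAP : A ≤ Subgroup.normalizer (P : Set X)) (hDP : D ≤ P) (hD1 : 1 < Nat.card D) (hD2 : Nat.card D < Nat.card P)
    (hinv : ∀ E : Subgroup X, E ≤ P → (Nat.card E = Nat.card D ∨ (Nat.card D = 2 ∧ Nat.card E = 4)) → A ≤ Subgroup.normalizer (E : Set X)) :
    A ≤ Subgroup.centralizer (P : Set X) := by
  have : Fact (Nat.Prime 2) := ⟨Nat.prime_two⟩
  obtain ⟨d, hd⟩ := (hP.to_le hDP).exists_card_eq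
  have hd1 : 1 ≤ d := by
    rcases Nat.eq_zero_or_pos d with h | h
    · rw [h, pow_zero] at hd; omega
    · exact h
  have h := main A hA _ P rfl hP hAP d hd1 (by rw [← hd]; exact hD2) (by
    intro E hE hc
    apply hinv E hE
    rcases hc with hc | ⟨hc1, hc2⟩
    · left; rw [hc, hd]
    · right; exact ⟨by rw [hd, hc1, pow_one], hc2⟩)
  rw [Subgroup.commutator_eq_bot_iff_le_centralizer] at h
  exact Subgroup.le_centralizer_iff.1 h

end Cfsg.Agent.S3803
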