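import Cfsg.Statements.S3804
import Mathlib
import Cfsg.Agent.Lib.Lead.ProdCard

set_option autoImplicit false
open Cfsg

namespace Cfsg.Agent.S3804

open scoped Pointwise

theorem real_core (ra rb rs rd rj ca cb t cj cd : ℝ)
    (hra : 0 < ra) (hrs : 0 < rs) (hrd : 0 < rd) (hrj : 0 < rj)
    (hca : 0 < ca) (ht : 0 < t) (hcj : 0 < cj) (hcd : 0 < cd)
    (F1 : ra * rb = rs * rd) (F2 : ca * cb = t * cj) (F3 : rs ≤ rj) (F4 : t ≤ cd)
    (E1 : ra * ca = rb * cb) (E2 : rj * cj ≤ ra * ca) (E3 : rd * cd ≤ ra * ca) :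
    rs = rj ∧ t = cd ∧ ra * ca ≤ rj * cj ∧ ra * ca ≤ rd * cd := by
  set μ := ra * ca with hμdef
  have hμ : 0 < μ := by positivity
  have h1 : μ * μ = (rs * t) * (rd * cj) := by
    calc μ * μ = (ra * ca) * (rb * cb) := by rw [← E1]
      _ = (ra * rb) * (ca * cb) := by ring
      _ = (rs * rd) * (t * cj) := by rw [F1, F2]
      _ = (rs * t) * (rd * cj) := by ring
  have h2 : (rj * cj) * (rd * cd) = (rj * cd) * (rd * cj) := by ring
  have h3 : (rj * cj) * (rd * cd) ≤ μ * μ := mul_le_mul E2 E3 (by positivity) hμ.le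
  have hW : 0 < rd * cj := by positivity
  have hXY : rs * t ≤ rj * cd := mul_le_mul F3 F4 ht.le hrj.le
  have hYX : rj * cd ≤ rs * t := by
    have h4 : (rj * cd) * (rd * cj) ≤ (rs * t) * (rd * cj) := by rw [← h2, ← h1]; exact h3
    exact le_of_mul_le_mul_right h4 hW
  have hX : rs * t = rj * cd := le_antisymm hXY hYX
  have hrs' : rs = rj := by
    by_contra hne
    have hlt : rs < rj := lt_of_le_of_ne F3 hne
    have h5 : rs * t < rj * cd := by
      calc rs * t < rj * t := mul_lt_mul_of_pos_right hlt ht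
        _ ≤ rj * cd := mul_le_mul_of_nonneg_left F4 hrj.le
    linarith
  have ht' : t = cd := by
    by_contra hne
    have hlt : t < cd := lt_of_le_of_ne F4 hne
    have h5 : rs * t < rj * cd := by
      calc rs * t < rs * cd := mul_lt_mul_of_pos_left hlt hrs
        _ ≤ rj * cd := mul_le_mul_of_nonneg_right F3 hcd.le
    linarith
  have hmm : μ * μ = (rj * cj) * (rd * cd) := by rw [h1, hX, h2]
  have hJ : μ ≤ rj * cj := by
    have h6 : μ * μ ≤ (rj * cj) * μ := by rw [hmm]; exact mul_le_mul_of_nonneg_left E3 (by positivity)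
    exact le_of_mul_le_mul_right h6 hμ
  have hD : μ ≤ rd * cd := by
    have h6 : μ * μ ≤ μ * (rd * cd) := by rw [hmm]; exact mul_le_mul_of_nonneg_right E2 (by positivity)
    exact le_of_mul_le_mul_left h6 hμ
  exact ⟨hrs', ht', hJ, hD⟩

/-- The measure. -/
noncomputable def mu {X : Type*} [Group X] (H : Subgroup X) (α : ℝ) (K : Subgroup X) : ℝ :=
  ((Nat.card K : ℝ) ^ α) * (Nat.card ↥(H ⊓ Subgroup.centralizer (K : Set X)) : ℝ)

theorem centralizer_sup {X : Type*} [Group X] (A B : Subgroup X) (x : X) :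
    x ∈ Subgroup.centralizer ((A ⊔ B : Subgroup X) : Set X) ↔
      x ∈ Subgroup.centralizer (A : Set X) ∧ x ∈ Subgroup.centralizer (B : Set X) := by
  constructor
  · intro hx
    exact ⟨Subgroup.centralizer_le (SetLike.coe_subset_coe.mpr le_sup_left) hx,
      Subgroup.centralizer_le (SetLike.coe_subset_coe.mpr le_sup_right) hx⟩
  · rintro ⟨h1, h2⟩
    have hA' : A ≤ Subgroup.centralizer ((Subgroup.zpowers x : Subgroup X) : Set X) := by
      rw [Subgroup.le_centralizer_iff, Subgroup.zpowers_le]; exact h1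
    have hB' : B ≤ Subgroup.centralizer ((Subgroup.zpowers x : Subgroup X) : Set X) := by
      rw [Subgroup.le_centralizer_iff, Subgroup.zpowers_le]; exact h2
    have hJ' : A ⊔ B ≤ Subgroup.centralizer ((Subgroup.zpowers x : Subgroup X) : Set X) := sup_le hA' hB'
    rw [Subgroup.le_centralizer_iff, Subgroup.zpowers_le] at hJ'
    exact hJ'

theorem core {X : Type*} [Group X] [Finite X] (G H : Subgroup X) (α : ℝ) (hα : 0 < α)
    (A B : Subgroup X) (hA : A ≤ G) (hB : B ≤ G) (hA1 : A ≠ ⊥) (hB1 : B ≠ ⊥)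
    (hAmax : ∀ A' : Subgroup X, A' ≤ G → A' ≠ ⊥ → mu H α A' ≤ mu H α A)
    (hBmax : ∀ A' : Subgroup X, A' ≤ G → A' ≠ ⊥ → mu H α A' ≤ mu H α B)
    (hcase : A ⊓ B ≠ ⊥ ∨ (Nat.card H : ℝ) ≤ mu H α A) :
    ((A : Set X) * (B : Set X) = ((A ⊔ B : Subgroup X) : Set X)) ∧ mu H α A ≤ mu H α (A ⊔ B) ∧
    (((H ⊓ Subgroup.centralizer (A : Set X) : Subgroup X) : Set X) *
        ((H ⊓ Subgroup.centralizer (B : Set X) : Subgroup X) : Set X) =
      ((H ⊓ Subgroup.centralizer ((A ⊓ B : Subgroup X) : Set X) : Subgroup X) : Set X)) ∧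
    mu H α A ≤ mu H α (A ⊓ B) := by
  classical
  have hsubAB : (A : Set X) * (B : Set X) ⊆ ((A ⊔ B : Subgroup X) : Set X) := by
    rintro _ ⟨a, ha, b, hb, rfl⟩
    exact (A ⊔ B).mul_mem (le_sup_left (a := A) (b := B) ha) (le_sup_right (a := A) (b := B) hb)
  have hsubC : ((H ⊓ Subgroup.centralizer (A : Set X) : Subgroup X) : Set X) *
        ((H ⊓ Subgroup.centralizer (B : Set X) : Subgroup X) : Set X) ⊆
      ((H ⊓ Subgroup.centralizer ((A ⊓ B : Subgroup X) : Set X) : Subgroup X) : Set X) := by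
    rintro _ ⟨u, hu, v, hv, rfl⟩
    have hu' := Subgroup.mem_inf.mp hu
    have hv' := Subgroup.mem_inf.mp hv
    refine Subgroup.mem_inf.mpr ⟨H.mul_mem hu'.1 hv'.1, ?_⟩
    apply Subgroup.mul_mem
    · exact Subgroup.centralizer_le (SetLike.coe_subset_coe.mpr inf_le_left) hu'.2
    · exact Subgroup.centralizer_le (SetLike.coe_subset_coe.mpr inf_le_right) hv'.2
  have hCJ_eq : (H ⊓ Subgroup.centralizer (A : Set X)) ⊓ (H ⊓ Subgroup.centralizer (B : Set X)) =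
      H ⊓ Subgroup.centralizer ((A ⊔ B : Subgroup X) : Set X) := by
    ext x
    simp only [Subgroup.mem_inf, centralizer_sup]
    tauto
  have hposN : ∀ K : Subgroup X, 0 < Nat.card K := fun K => Nat.card_pos
  have hposR : ∀ K : Subgroup X, (0:ℝ) < (Nat.card K : ℝ) := fun K => Nat.cast_pos.mpr (hposN K)
  have hab := Cfsg.Agent.Lib.Lead.ProdCard.card_mul_card_eq A B
  have hcc := Cfsg.Agent.Lib.Lead.ProdCard.card_mul_card_eq (H ⊓ Subgroup.centralizer (A : Set X))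
    (H ⊓ Subgroup.centralizer (B : Set X))
  rw [hCJ_eq] at hcc
  set s := ((A : Set X) * (B : Set X)).ncard with hs
  set t := (((H ⊓ Subgroup.centralizer (A : Set X) : Subgroup X) : Set X) *
        ((H ⊓ Subgroup.centralizer (B : Set X) : Subgroup X) : Set X)).ncard with ht
  have hJn : Nat.card ↥(A ⊔ B) = ((A ⊔ B : Subgroup X) : Set X).ncard :=
    _root_.Nat.card_coe_set_eq ((A ⊔ B : Subgroup X) : Set X)
  have hDn : Nat.card ↥(H ⊓ Subgroup.centralizer ((A ⊓ B : Subgroup X) : Set X)) =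
      ((H ⊓ Subgroup.centralizer ((A ⊓ B : Subgroup X) : Set X) : Subgroup X) : Set X).ncard :=
    _root_.Nat.card_coe_set_eq _
  have hsj : s ≤ Nat.card ↥(A ⊔ B) := by
    rw [hJn]; exact Set.ncard_le_ncard hsubAB (Set.toFinite _)
  have htd : t ≤ Nat.card ↥(H ⊓ Subgroup.centralizer ((A ⊓ B : Subgroup X) : Set X)) := by
    rw [hDn]; exact Set.ncard_le_ncard hsubC (Set.toFinite _)
  have hs0 : 0 < s := by
    rcases Nat.eq_zero_or_pos s with h | h
    · rw [h, zero_mul] at hab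
      have := Nat.mul_pos (hposN A) (hposN B)
      omega
    · exact h
  have ht0 : 0 < t := by
    rcases Nat.eq_zero_or_pos t with h | h
    · rw [h, zero_mul] at hcc
      have := Nat.mul_pos (hposN (H ⊓ Subgroup.centralizer (A : Set X))) (hposN (H ⊓ Subgroup.centralizer (B : Set X)))
      omega
    · exact h
  have F1 : (Nat.card A : ℝ) ^ α * (Nat.card B : ℝ) ^ α = (s : ℝ) ^ α * (Nat.card ↥(A ⊓ B) : ℝ) ^ α := by
    rw [← Real.mul_rpow (Nat.cast_nonneg _) (Nat.cast_nonneg _),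
      ← Real.mul_rpow (Nat.cast_nonneg _) (Nat.cast_nonneg _)]
    congr 1
    exact_mod_cast hab
  have F2 : (Nat.card ↥(H ⊓ Subgroup.centralizer (A : Set X)) : ℝ) *
      (Nat.card ↥(H ⊓ Subgroup.centralizer (B : Set X)) : ℝ) =
      (t : ℝ) * (Nat.card ↥(H ⊓ Subgroup.centralizer ((A ⊔ B : Subgroup X) : Set X)) : ℝ) := by
    exact_mod_cast hcc
  have F3 : (s : ℝ) ^ α ≤ (Nat.card ↥(A ⊔ B) : ℝ) ^ α :=
    Real.rpow_le_rpow (Nat.cast_nonneg _) (by exact_mod_cast hsj) hα.le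
  have F4 : (t : ℝ) ≤ (Nat.card ↥(H ⊓ Subgroup.centralizer ((A ⊓ B : Subgroup X) : Set X)) : ℝ) := by
    exact_mod_cast htd
  have E1 : mu H α A = mu H α B := le_antisymm (hBmax A hA hA1) (hAmax B hB hB1)
  have E2 : mu H α (A ⊔ B) ≤ mu H α A :=
    hAmax (A ⊔ B) (sup_le hA hB) (ne_bot_of_le_ne_bot hA1 le_sup_left)
  have E3 : mu H α (A ⊓ B) ≤ mu H α A := by
    by_cases hD0 : A ⊓ B = ⊥
    · rcases hcase with h | h
      · exact absurd hD0 h
      · have e : mu H α (A ⊓ B) = (Nat.card H : ℝ) := by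
          unfold mu
          rw [hD0, Subgroup.card_bot, Nat.cast_one, Real.one_rpow, one_mul]
          have hc : Subgroup.centralizer ((⊥ : Subgroup X) : Set X) = ⊤ := by
            rw [Subgroup.centralizer_eq_top_iff_subset, Subgroup.coe_bot]
            intro x hx
            rw [Set.mem_singleton_iff] at hx
            rw [hx]
            exact (Subgroup.center X).one_mem
          rw [hc, inf_top_eq]
        rw [e]; exact h
    · exact hAmax (A ⊓ B) (inf_le_left.trans hA) hD0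
  obtain ⟨r1, r2, r3, r4⟩ := real_core ((Nat.card A : ℝ) ^ α) ((Nat.card B : ℝ) ^ α) ((s : ℝ) ^ α)
    ((Nat.card ↥(A ⊓ B) : ℝ) ^ α) ((Nat.card ↥(A ⊔ B) : ℝ) ^ α)
    (Nat.card ↥(H ⊓ Subgroup.centralizer (A : Set X)) : ℝ)
    (Nat.card ↥(H ⊓ Subgroup.centralizer (B : Set X)) : ℝ) (t : ℝ)
    (Nat.card ↥(H ⊓ Subgroup.centralizer ((A ⊔ B : Subgroup X) : Set X)) : ℝ)
    (Nat.card ↥(H ⊓ Subgroup.centralizer ((A ⊓ B : Subgroup X) : Set X)) : ℝ)
    (Real.rpow_pos_of_pos (hposR A) α) (Real.rpow_pos_of_pos (Nat.cast_pos.mpr hs0) α)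
    (Real.rpow_pos_of_pos (hposR _) α) (Real.rpow_pos_of_pos (hposR _) α)
    (hposR _) (Nat.cast_pos.mpr ht0) (hposR _) (hposR _) F1 F2 F3 F4 E1 E2 E3
  have hsJ : s = Nat.card ↥(A ⊔ B) := by
    by_contra hne
    have hlt : (s : ℝ) < (Nat.card ↥(A ⊔ B) : ℝ) := by exact_mod_cast lt_of_le_of_ne hsj hne
    have := Real.rpow_lt_rpow (Nat.cast_nonneg s) hlt hα
    linarith
  have htD : t = Nat.card ↥(H ⊓ Subgroup.centralizer ((A ⊓ B : Subgroup X) : Set X)) := by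
    exact_mod_cast r2
  refine ⟨?_, r3, ?_, r4⟩
  · exact Set.eq_of_subset_of_ncard_le hsubAB (by rw [← hJn, ← hsJ]) (Set.toFinite _)
  · exact Set.eq_of_subset_of_ncard_le hsubC (by rw [← hDn, ← htD]) (Set.toFinite _)

/-- Let G and H be subgroups of a finite group with G normalizing H, fix a real number α > 0, and for a subgroup A of G put m(A) = |A|^α · |C_H(A)|. Let A and B be nontrivial subgroups of G at which m attains its maximum over all nontrivial subgroups of G, and assume that A ∩ B ≠ 1 or that this maximum is at least |H|. Then AB = BA is a subgroup at which m is again maximal, C_H(A ∩ B) = C_H(A) C_H(B), and if A ∩ B ≠ 1 then m is maximal at A ∩ B as well. -/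
theorem result {X : Type*} [Group X] [Finite X] (G H : Subgroup X) (hGH : G ≤ Subgroup.normalizer (H : Set X)) (α : ℝ) (hα : 0 < α)
    (A B : Subgroup X) (hA : A ≤ G) (hB : B ≤ G) (hA1 : A ≠ ⊥) (hB1 : B ≠ ⊥)
    (hAmax : ∀ A' : Subgroup X, A' ≤ G → A' ≠ ⊥ → (fun A : Subgroup X => ((Nat.card A : ℝ) ^ α) * (Nat.card ↥(H ⊓ Subgroup.centralizer (A : Set X)) : ℝ)) A' ≤ (fun A : Subgroup X => ((Nat.card A : ℝ) ^ α) * (Nat.card ↥(H ⊓ Subgroup.centralizer (A : Set X)) : ℝ)) A)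
    (hBmax : ∀ A' : Subgroup X, A' ≤ G → A' ≠ ⊥ → (fun A : Subgroup X => ((Nat.card A : ℝ) ^ α) * (Nat.card ↥(H ⊓ Subgroup.centralizer (A : Set X)) : ℝ)) A' ≤ (fun A : Subgroup X => ((Nat.card A : ℝ) ^ α) * (Nat.card ↥(H ⊓ Subgroup.centralizer (A : Set X)) : ℝ)) B)
    (hcase : A ⊓ B ≠ ⊥ ∨ (Nat.card H : ℝ) ≤ (fun A : Subgroup X => ((Nat.card A : ℝ) ^ α) * (Nat.card ↥(H ⊓ Subgroup.centralizer (A : Set X)) : ℝ)) A) :
    (∀ a ∈ A, ∀ b ∈ B, ∃ b' ∈ B, ∃ a' ∈ A, a * b = b' * a') ∧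
    (∀ A' : Subgroup X, A' ≤ G → A' ≠ ⊥ → (fun A : Subgroup X => ((Nat.card A : ℝ) ^ α) * (Nat.card ↥(H ⊓ Subgroup.centralizer (A : Set X)) : ℝ)) A' ≤ (fun A : Subgroup X => ((Nat.card A : ℝ) ^ α) * (Nat.card ↥(H ⊓ Subgroup.centralizer (A : Set X)) : ℝ)) (A ⊔ B)) ∧
    (∀ h ∈ H ⊓ Subgroup.centralizer ((A ⊓ B : Subgroup X) : Set X), ∃ u ∈ H ⊓ Subgroup.centralizer (A : Set X), ∃ v ∈ H ⊓ Subgroup.centralizer (B : Set X), h = u * v) ∧
    (A ⊓ B ≠ ⊥ → ∀ A' : Subgroup X, A' ≤ G → A' ≠ ⊥ → (fun A : Subgroup X => ((Nat.card A : ℝ) ^ α) * (Nat.card ↥(H ⊓ Subgroup.centralizer (A : Set X)) : ℝ)) A' ≤ (fun A : Subgroup X => ((Nat.card A : ℝ) ^ α) * (Nat.card ↥(H ⊓ Subgroup.centralizer (A : Set X)) : ℝ)) (A ⊓ B)) := by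

  obtain ⟨c1, c2, c3, c4⟩ := core G H α hα A B hA hB hA1 hB1 hAmax hBmax hcase
  refine ⟨?_, ?_, ?_, ?_⟩
  · intro a ha b hb
    have h1 : (a * b)⁻¹ ∈ ((A ⊔ B : Subgroup X) : Set X) := by
      apply (A ⊔ B).inv_mem
      exact (A ⊔ B).mul_mem (le_sup_left (a := A) (b := B) ha) (le_sup_right (a := A) (b := B) hb)
    rw [← c1] at h1
    obtain ⟨a₁, ha₁, b₁, hb₁, h2⟩ := h1
    refine ⟨b₁⁻¹, B.inv_mem hb₁, a₁⁻¹, A.inv_mem ha₁, ?_⟩
    have h3 : a * b = (a₁ * b₁)⁻¹ := by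
      have h2' : a₁ * b₁ = (a * b)⁻¹ := h2
      rw [h2', inv_inv]
    rw [h3, mul_inv_rev]
  · intro A' hA' hA'1
    exact (hAmax A' hA' hA'1).trans c2
  · intro h hh
    have h1 : h ∈ ((H ⊓ Subgroup.centralizer ((A ⊓ B : Subgroup X) : Set X) : Subgroup X) : Set X) := hh
    rw [← c3] at h1
    obtain ⟨u, hu, v, hv, h2⟩ := h1
    exact ⟨u, hu, v, hv, h2.symm⟩
  · intro _ A' hA' hA'1
    exact (hAmax A' hA' hA'1).trans c4

end Cfsg.Agent.S3804
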