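import Cfsg.Statements.S3808
import Mathlib
import Cfsg.Agent.H1.Card
import Cfsg.Agent.H1.RankTwoExpP

set_option autoImplicit false
open Cfsg

namespace Cfsg.Agent.S3808

/-- the centre of a subgroup, as a subgroup of the ambient group -/
theorem map_center_eq {S : Type*} [Group S] (Q : Subgroup S) :
    (Subgroup.center ↥Q).map Q.subtype = Q ⊓ Subgroup.centralizer (Q : Set S) := by
  ext x
  constructor
  · rintro ⟨z, hz, rfl⟩
    refine Subgroup.mem_inf.mpr ⟨z.2, ?_⟩
    rw [Subgroup.mem_centralizer_iff]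
    intro e he
    have := Subgroup.mem_center_iff.mp hz ⟨e, he⟩
    exact congrArg Subtype.val this
  · intro hx
    obtain ⟨hxQ, hxc⟩ := Subgroup.mem_inf.mp hx
    refine ⟨⟨x, hxQ⟩, ?_, rfl⟩
    show (⟨x, hxQ⟩ : Q) ∈ Subgroup.center ↥Q
    rw [Subgroup.mem_center_iff]
    intro e
    apply Subtype.ext
    exact (Subgroup.mem_centralizer_iff.mp hxc) e e.2

/-- a subgroup of index `p` in a finite `p`-group is normal -/
theorem normal_of_index_eq {S : Type*} [Group S] [Finite S] (p : ℕ) [Fact p.Prime]
    (hS : IsPGroup p S) (Q : Subgroup S) (hQi : Q.index = p) : Q.Normal := by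
  have hpp : p.Prime := Fact.out
  obtain ⟨k, hk⟩ := hS.exists_card_eq
  have hk0 : k ≠ 0 := by
    rintro rfl
    have h1 : Q.index ∣ Nat.card S := Subgroup.index_dvd_card Q
    rw [hk, hQi, pow_zero] at h1
    exact hpp.one_lt.ne' (Nat.dvd_one.mp h1)
  apply Subgroup.normal_of_index_eq_minFac_card
  rw [hQi, hk, hpp.pow_minFac hk0]

/-- Let S be a finite p-group with an extraspecial subgroup Q of index p. Then either Z(S) = Z(Q), or S = Q·Z(S) and Z(S) has order p². -/
theorem result {S : Type*} [Group S] [Finite S] (p : ℕ) [Fact p.Prime] (hS : IsPGroup p S) (Q : Subgroup S) (hQ : Cfsg.IsExtraspecial p ↥Q) (hQi : Q.index = p) :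
    Subgroup.center S = (Subgroup.center ↥Q).map Q.subtype ∨
      (Q ⊔ Subgroup.center S = ⊤ ∧ Nat.card (Subgroup.center S) = p ^ 2) := by
  classical
  have hpp : p.Prime := Fact.out
  haveI hQn : Q.Normal := normal_of_index_eq p hS Q hQi
  rw [map_center_eq]
  have hZcard : Nat.card ↥(Q ⊓ Subgroup.centralizer (Q : Set S)) = p := by
    rw [← map_center_eq, ← hQ.2]
    exact (Nat.card_congr
      (Subgroup.equivMapOfInjective _ _ Q.subtype_injective).toEquiv).symm
  haveI hZn : (Q ⊓ Subgroup.centralizer (Q : Set S)).Normal := inferInstance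
  have hZcen : Q ⊓ Subgroup.centralizer (Q : Set S) ≤ Subgroup.center S :=
    Cfsg.Agent.H1.normal_card_p_le_center hS _ hZcard
  have hinf : Subgroup.center S ⊓ Q = Q ⊓ Subgroup.centralizer (Q : Set S) := by
    apply le_antisymm
    · exact le_inf inf_le_right (inf_le_left.trans (Subgroup.center_le_centralizer _))
    · exact le_inf hZcen inf_le_left
  by_cases hle : Subgroup.center S ≤ Q
  · left
    rw [← hinf]
    exact (inf_eq_left.mpr hle).symm
  · right
    have htop : Q ⊔ Subgroup.center S = ⊤ := by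
      rw [← Subgroup.index_eq_one]
      have hd : (Q ⊔ Subgroup.center S).index ∣ p := hQi ▸ Subgroup.index_dvd_of_le le_sup_left
      rcases (Nat.dvd_prime hpp).mp hd with h1 | h1
      · exact h1
      · exfalso
        have h2 := Subgroup.relIndex_mul_index (le_sup_left : Q ≤ Q ⊔ Subgroup.center S)
        rw [h1, hQi] at h2
        have h3 : Q.relIndex (Q ⊔ Subgroup.center S) = 1 := by
          have hp0 : 0 < p := hpp.pos
          exact Nat.eq_of_mul_eq_mul_right hp0 (by rw [h2, one_mul])
        exact hle (le_sup_right.trans (Subgroup.relIndex_eq_one.mp h3))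
    refine ⟨htop, ?_⟩
    have h1 := Cfsg.Agent.H1.card_sup_mul_card_inf (Subgroup.center S) Q
      (by rw [Subgroup.normalizer_eq_top]; exact le_top)
    rw [sup_comm, htop, hinf, hZcard, Subgroup.card_top] at h1
    have h2 := Subgroup.card_mul_index Q
    rw [hQi] at h2
    rw [← h2] at h1
    have hQpos : 0 < Nat.card Q := Nat.card_pos
    apply Nat.eq_of_mul_eq_mul_right hQpos
    rw [← h1]; ring

end Cfsg.Agent.S3808
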