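import Cfsg.Statements.S3809
import Mathlib
import Cfsg.Agent.Lib.Helper4.AbelianIndexP
import Cfsg.Agent.S0095
import Cfsg.Agent.S3808

set_option autoImplicit false
set_option linter.style.haveILetI false
open Cfsg
open Cfsg.Agent.Lib.Helper4.AbelianIndexP
open scoped commutatorElement

namespace Cfsg.Agent.S3809

/-- if `⁅a, b⁆` commutes with `a`, then `⁅a ^ n, b⁆ = ⁅a, b⁆ ^ n` -/
theorem commutator_pow_left {G : Type*} [Group G] (a b : G) (h : ⁅a, b⁆ * a = a * ⁅a, b⁆) (n : ℕ) :
    ⁅a ^ n, b⁆ = ⁅a, b⁆ ^ n := by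
  induction n with
  | zero => simp
  | succ n ih =>
    have e : ⁅a ^ (n + 1), b⁆ = a * ⁅a ^ n, b⁆ * a⁻¹ * ⁅a, b⁆ := by
      rw [pow_succ']
      simp only [commutatorElement_def]; group
    have hc : Commute (⁅a, b⁆ ^ n) a := (show Commute ⁅a, b⁆ a from h).pow_left n
    rw [e, ih, ← hc.eq, mul_inv_cancel_right, ← pow_succ]

/-- Let S be a finite p-group with an extraspecial subgroup of index p. Then S has order p^(2+2n) for some n ≥ 1, derived length at most 3, and exponent dividing p³. -/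
theorem result {S : Type*} [Group S] [Finite S] (p : ℕ) [Fact p.Prime] (hS : IsPGroup p S) (Q : Subgroup S) (hQ : Cfsg.IsExtraspecial p ↥Q) (hQi : Q.index = p) :
    (∃ n : ℕ, 1 ≤ n ∧ Nat.card S = p ^ (2 + 2 * n)) ∧ derivedSeries S 3 = ⊥ ∧ ∀ x : S, x ^ (p ^ 3) = 1 := by
  classical
  have hpp : p.Prime := Fact.out
  haveI hQn : Q.Normal := normal_of_index_eq_prime p hS Q hQi
  have hQcard := Subgroup.card_mul_index Q
  rw [hQi] at hQcard
  have hZeq := Cfsg.Agent.S3808.map_center_eq Q
  have hZcard : Nat.card ↥(Q ⊓ Subgroup.centralizer (Q : Set S)) = p := by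
    rw [← hZeq, ← hQ.2]
    exact (Nat.card_congr
      (Subgroup.equivMapOfInjective _ _ Q.subtype_injective).toEquiv).symm
  refine ⟨?_, ?_, ?_⟩
  · obtain ⟨n, hn1, hn⟩ := Cfsg.Agent.S0095.result hQ
    refine ⟨n, hn1, ?_⟩
    rw [← hQcard, hn]; ring
  · -- derived series
    have hquot : Nat.card (S ⧸ Q) = p := by rw [← Subgroup.index_eq_card]; exact hQi
    haveI : IsCyclic (S ⧸ Q) := isCyclic_of_prime_card hquot
    have h1 : derivedSeries S 1 ≤ Q := by
      rw [derivedSeries_succ, derivedSeries_zero, Subgroup.commutator_le]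
      intro g _ h _
      rw [← QuotientGroup.eq_one_iff (N := Q)]
      show (QuotientGroup.mk' Q) ⁅g, h⁆ = 1
      rw [map_commutatorElement, commutatorElement_eq_one_iff_mul_comm]
      exact (IsCyclic.isMulCommutative (α := S ⧸ Q)).is_comm.comm _ _
    have hQQ : ⁅Q, Q⁆ = Q ⊓ Subgroup.centralizer (Q : Set S) := by
      rw [← Subgroup.map_subtype_commutator, hQ.1.2.2, hZeq]
    have h2 : derivedSeries S 2 ≤ Q ⊓ Subgroup.centralizer (Q : Set S) := by
      rw [derivedSeries_succ, ← hQQ]
      exact Subgroup.commutator_mono h1 h1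
    rw [derivedSeries_succ, eq_bot_iff]
    calc ⁅derivedSeries S 2, derivedSeries S 2⁆
        ≤ ⁅Q ⊓ Subgroup.centralizer (Q : Set S), Q ⊓ Subgroup.centralizer (Q : Set S)⁆ :=
          Subgroup.commutator_mono h2 h2
      _ = ⊥ := by
          rw [Subgroup.commutator_eq_bot_iff_le_centralizer]
          intro z hz
          rw [Subgroup.mem_centralizer_iff]
          intro w hw
          exact (Subgroup.mem_centralizer_iff.mp (Subgroup.mem_inf.mp hz).2) w
            (Subgroup.mem_inf.mp hw).1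
  · intro x
    -- `x ^ p ∈ Q`
    have hquot : Nat.card (S ⧸ Q) = p := by rw [← Subgroup.index_eq_card]; exact hQi
    have hxp : x ^ p ∈ Q := by
      rw [← QuotientGroup.eq_one_iff (N := Q)]
      have : ((x : S ⧸ Q)) ^ Nat.card (S ⧸ Q) = 1 := pow_card_eq_one'
      rw [hquot] at this
      exact_mod_cast this
    -- `a ^ p` is central in `Q` for `a ∈ Q`
    have hap : ∀ a ∈ Q, a ^ p ∈ Q ⊓ Subgroup.centralizer (Q : Set S) := by
      intro a ha
      refine Subgroup.mem_inf.mpr ⟨pow_mem ha p, ?_⟩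
      rw [Subgroup.mem_centralizer_iff]
      intro b hb
      -- `⁅a, b⁆` is central in `Q` of order dividing `p`
      have hc : ⁅a, b⁆ ∈ Q ⊓ Subgroup.centralizer (Q : Set S) := by
        have : ⁅Q, Q⁆ = Q ⊓ Subgroup.centralizer (Q : Set S) := by
          rw [← Subgroup.map_subtype_commutator, hQ.1.2.2, hZeq]
        rw [← this]
        exact Subgroup.commutator_mem_commutator ha hb
      have hca : ⁅a, b⁆ * a = a * ⁅a, b⁆ :=
        ((Subgroup.mem_centralizer_iff.mp (Subgroup.mem_inf.mp hc).2) a ha).symm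
      have h3 := commutator_pow_left a b hca p
      have h4 : ⁅a, b⁆ ^ p = 1 := by
        have := pow_card_eq_one' (G := ↥(Q ⊓ Subgroup.centralizer (Q : Set S))) (x := ⟨_, hc⟩)
        rw [hZcard] at this
        have h5 := congrArg (fun z : ↥(Q ⊓ Subgroup.centralizer (Q : Set S)) => (z : S)) this
        simp only [Subgroup.coe_pow, Subgroup.coe_one] at h5
        exact h5
      rw [h4, commutatorElement_eq_one_iff_mul_comm] at h3
      exact h3.symm
    have hzp : ∀ z ∈ Q ⊓ Subgroup.centralizer (Q : Set S), z ^ p = 1 := by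
      intro z hz
      have := pow_card_eq_one' (G := ↥(Q ⊓ Subgroup.centralizer (Q : Set S))) (x := ⟨z, hz⟩)
      rw [hZcard] at this
      have h5 := congrArg (fun z : ↥(Q ⊓ Subgroup.centralizer (Q : Set S)) => (z : S)) this
      simp only [Subgroup.coe_pow, Subgroup.coe_one] at h5
      exact h5
    have e : x ^ p ^ 3 = ((x ^ p) ^ p) ^ p := by
      rw [← pow_mul, ← pow_mul]; congr 1; ring
    rw [e]
    exact hzp _ (hap _ hxp)

end Cfsg.Agent.S3809
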