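import Cfsg.Statements.S3807
import Mathlib
import Cfsg.Agent.Lib.Helper4.AbelianIndexP
import Cfsg.Agent.H1.RankTwoExpP
import Cfsg.Agent.S3809

set_option autoImplicit false
open Cfsg
open scoped commutatorElement
open Cfsg.Agent.Lib.Helper4.AbelianIndexP

namespace Cfsg.Agent.S3807

theorem comm_of {S : Type*} [Group S] (B : Subgroup S) (hB : IsMulCommutative ↥B) :
    ∀ a ∈ B, ∀ b ∈ B, a * b = b * a := by
  intro a ha b hb
  have h1 := hB.is_comm.comm ⟨a, ha⟩ ⟨b, hb⟩
  have h2 : a * b = b * a := congrArg Subtype.val h1
  exact h2

theorem mem_center_of_commutes_sup {S : Type*} [Group S] {A B : Subgroup S} (hAB : A ⊔ B = ⊤)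
    (x : S) (hA : ∀ a ∈ A, a * x = x * a) (hB : ∀ b ∈ B, b * x = x * b) :
    x ∈ Subgroup.center S := by
  have h1 : A ⊔ B ≤ Subgroup.centralizer ({x} : Set S) := by
    apply sup_le
    · intro a ha
      rw [Subgroup.mem_centralizer_iff]
      intro h hh
      rw [Set.mem_singleton_iff] at hh
      rw [hh]
      exact (hA a ha).symm
    · intro b hb
      rw [Subgroup.mem_centralizer_iff]
      intro h hh
      rw [Set.mem_singleton_iff] at hh
      rw [hh]
      exact (hB b hb).symm
  rw [hAB] at h1
  rw [Subgroup.mem_center_iff]
  intro g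
  have h2 := Subgroup.mem_centralizer_iff.mp (h1 (Subgroup.mem_top g)) x rfl
  exact h2.symm

/-- Let S be a non-abelian finite p-group with an abelian subgroup A of index p. Then [S : Z(S)] = p·#[S,S], and either [S,S] has order p, S/Z(S) is elementary abelian of order p², and S has exactly p + 1 abelian subgroups of index p; or [S,S] has order at least p² and A is the only abelian subgroup of index p in S. -/
theorem result {S : Type*} [Group S] [Finite S] (p : ℕ) [Fact p.Prime] (hS : IsPGroup p S) (hna : ¬ IsMulCommutative S)
    (A : Subgroup S) (hA : IsMulCommutative ↥A) (hAi : A.index = p) :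
    (Subgroup.center S).index = p * Nat.card (commutator S) ∧
      ((Nat.card (commutator S) = p ∧ Cfsg.IsElementaryAbelian p (⊤ : Subgroup (S ⧸ Subgroup.center S)) ∧
          Nat.card (S ⧸ Subgroup.center S) = p ^ 2 ∧
          Nat.card {B : Subgroup S // IsMulCommutative ↥B ∧ B.index = p} = p + 1) ∨
        (p ^ 2 ≤ Nat.card (commutator S) ∧ ∀ B : Subgroup S, IsMulCommutative ↥B → B.index = p → B = A)) := by
  classical
  have hp : p.Prime := Fact.out
  haveI hAn : A.Normal := normal_of_index_eq_prime p hS A hAi
  have hAc := comm_of A hA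
  have hAip : A.index.Prime := by rw [hAi]; exact hp
  have hna' : ¬ ∀ g h : S, g * h = h * g := fun h => hna ⟨⟨h⟩⟩
  have hidx : (Subgroup.center S).index = p * Nat.card (commutator S) := by
    have h1 := index_center_eq A hAc hAip hna'
    rwa [hAi] at h1
  refine ⟨hidx, ?_⟩
  obtain ⟨k, hk⟩ := IsPGroup.iff_card.mp (hS.to_subgroup (commutator S))
  have hcm : ∀ g h : S, ⁅g, h⁆ ∈ commutator S := by
    intro g h
    rw [commutator_def]
    exact Subgroup.commutator_mem_commutator (Subgroup.mem_top g) (Subgroup.mem_top h)
  have hk0 : k ≠ 0 := by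
    rintro rfl
    rw [pow_zero] at hk
    have hbot : commutator S = ⊥ := Subgroup.card_eq_one.mp hk
    apply hna'
    intro g h
    have h1 := hcm g h
    rw [hbot, Subgroup.mem_bot] at h1
    exact commutatorElement_eq_one_iff_mul_comm.mp h1
  have hmeet : ∀ B₁ B₂ : Subgroup S, IsMulCommutative ↥B₁ → B₁.index = p → IsMulCommutative ↥B₂ →
      B₂.index = p → B₁ ≠ B₂ → B₁ ⊓ B₂ ≤ (Subgroup.center S) := by
    intro B₁ B₂ h1 hi1 h2 hi2 hne x hx
    have hnle : ¬ B₂ ≤ B₁ := by
      intro hle
      apply hne
      symm
      apply Subgroup.eq_of_le_of_card_ge hle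
      have e1 := B₁.card_mul_index
      have e2 := B₂.card_mul_index
      rw [hi1] at e1
      rw [hi2] at e2
      have h3 : Nat.card B₁ * p = Nat.card B₂ * p := by rw [e1, e2]
      exact (Nat.eq_of_mul_eq_mul_right hp.pos h3).le
    have hsup := sup_eq_top_of_index_prime B₁ B₂ (by rw [hi1]; exact hp) hnle
    obtain ⟨hx1, hx2⟩ := Subgroup.mem_inf.mp hx
    exact mem_center_of_commutes_sup hsup x (fun a ha => comm_of B₁ h1 a ha x hx1)
      (fun b hb => comm_of B₂ h2 b hb x hx2)
  rcases Nat.lt_or_ge k 2 with hk2 | hk2
  · left
    have hk1 : k = 1 := by omega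
    rw [hk1, pow_one] at hk
    have hZi : (Subgroup.center S).index = p * p := by rw [hidx, hk]
    have hQcard : Nat.card (S ⧸ (Subgroup.center S)) = p ^ 2 := by
      rw [← Subgroup.index_eq_card, hZi, sq]
    refine ⟨hk, ?_, hQcard, ?_⟩
    · have hcomm : IsMulCommutative (S ⧸ (Subgroup.center S)) :=
        IsPGroup.isMulCommutative_of_card_eq_prime_sq hQcard
      refine ⟨⟨⟨fun a b => Subtype.ext (hcomm.is_comm.comm a.1 b.1)⟩⟩, ?_⟩
      intro q _
      obtain ⟨g, rfl⟩ := QuotientGroup.mk_surjective q
      rw [← QuotientGroup.mk_pow, QuotientGroup.eq_one_iff, Subgroup.mem_center_iff]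
      intro h
      have hS'c : commutator S ≤ (Subgroup.center S) :=
        Cfsg.Agent.H1.normal_card_p_le_center hS (commutator S) hk
      have hgh := hcm g h
      have hc1 : ⁅g, h⁆ * g = g * ⁅g, h⁆ := (Subgroup.mem_center_iff.mp (hS'c hgh) g).symm
      have h1 := Cfsg.Agent.S3809.commutator_pow_left g h hc1 p
      have h2 : ⁅g, h⁆ ^ p = 1 := by
        have h3 := pow_card_eq_one' (G := ↥(commutator S)) (x := ⟨⁅g, h⁆, hgh⟩)
        rw [hk] at h3
        have h4 := congrArg Subtype.val h3
        simpa using h4
      rw [h2] at h1
      exact (commutatorElement_eq_one_iff_mul_comm.mp h1).symm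
    · haveI : Fintype S := Fintype.ofFinite S
      haveI : Fintype (Subgroup S) := Fintype.ofFinite _
      have hSZ : Nat.card S = Nat.card (Subgroup.center S) * (p * p) := by
        rw [← hZi]; exact ((Subgroup.center S).card_mul_index).symm
      have hZpos : 0 < Nat.card (Subgroup.center S) := Nat.card_pos
      have hcardB : ∀ B : Subgroup S, B.index = p → Nat.card B = p * Nat.card (Subgroup.center S) := by
        intro B hBi
        have e := B.card_mul_index
        rw [hBi, hSZ] at e
        have h3 : Nat.card B * p = (p * Nat.card (Subgroup.center S)) * p := by rw [e]; ring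
        exact Nat.eq_of_mul_eq_mul_right hp.pos h3
      have hZle : ∀ B : Subgroup S, IsMulCommutative ↥B → B.index = p → (Subgroup.center S) ≤ B := by
        intro B hB hBi
        by_contra hnle
        have hsup := sup_eq_top_of_index_prime B (Subgroup.center S) (by rw [hBi]; exact hp) hnle
        have hBZ : B ≤ (Subgroup.center S) := by
          intro x hx
          exact mem_center_of_commutes_sup hsup x (fun a ha => comm_of B hB a ha x hx)
            (fun z hz => (Subgroup.mem_center_iff.mp hz x).symm)
        have htop : (Subgroup.center S) = ⊤ := by rw [← hsup]; exact (sup_eq_right.mpr hBZ).symm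
        apply hna'
        intro g h
        have hg : g ∈ (Subgroup.center S) := by rw [htop]; exact Subgroup.mem_top g
        exact (Subgroup.mem_center_iff.mp hg h).symm
      have hcent : ∀ B : Subgroup S, IsMulCommutative ↥B → B.index = p → ∀ g ∈ B, g ∉ (Subgroup.center S) →
          Subgroup.centralizer ({g} : Set S) = B := by
        intro B hB hBi g hgB hgZ
        have hle : B ≤ Subgroup.centralizer ({g} : Set S) := by
          intro b hb
          rw [Subgroup.mem_centralizer_iff]
          intro h hh
          rw [Set.mem_singleton_iff] at hh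
          rw [hh]
          exact comm_of B hB g hgB b hb
        by_contra hne
        have hnle : ¬ Subgroup.centralizer ({g} : Set S) ≤ B := fun h => hne (le_antisymm h hle)
        have hsup := sup_eq_top_of_index_prime B _ (by rw [hBi]; exact hp) hnle
        rw [sup_eq_right.mpr hle] at hsup
        apply hgZ
        rw [Subgroup.centralizer_eq_top_iff_subset] at hsup
        exact hsup rfl
      have hcentZ : ∀ g : S, g ∉ (Subgroup.center S) → IsMulCommutative ↥(Subgroup.centralizer ({g} : Set S)) ∧ (Subgroup.centralizer ({g} : Set S)).index = p := by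
        intro g hg
        have h1 : p * Nat.card (Subgroup.center S) ≤ Nat.card (Subgroup.center ↥(Subgroup.centralizer ({g} : Set S))) :=
          card_center_centralizer p hS g hg
        have h2 : Nat.card (Subgroup.center ↥(Subgroup.centralizer ({g} : Set S))) ≤ Nat.card ↥(Subgroup.centralizer ({g} : Set S)) := Subgroup.card_le_card_group _
        have hCtop : (Subgroup.centralizer ({g} : Set S)) ≠ ⊤ := by
          intro h
          rw [Subgroup.centralizer_eq_top_iff_subset] at h
          exact hg (h rfl)
        have hCi1 : (Subgroup.centralizer ({g} : Set S)).index ≠ 1 := fun h => hCtop (Subgroup.index_eq_one.mp h)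
        obtain ⟨n, hn⟩ := IsPGroup.iff_card.mp hS
        have hdvd : (Subgroup.centralizer ({g} : Set S)).index ∣ p ^ n := by rw [← hn]; exact Subgroup.index_dvd_card (Subgroup.centralizer ({g} : Set S))
        obtain ⟨j, hj, hCj⟩ := (Nat.dvd_prime_pow hp).mp hdvd
        have hj0 : j ≠ 0 := by
          rintro rfl
          exact hCi1 (by rw [hCj, pow_zero])
        have hple : p ≤ (Subgroup.centralizer ({g} : Set S)).index := by rw [hCj]; exact Nat.le_self_pow hj0 p
        have e := (Subgroup.centralizer ({g} : Set S)).card_mul_index
        rw [hSZ] at e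
        have h3 : p * Nat.card (Subgroup.center S) ≤ Nat.card ↥(Subgroup.centralizer ({g} : Set S)) := h1.trans h2
        have hle : Nat.card ↥(Subgroup.centralizer ({g} : Set S)) ≤ p * Nat.card (Subgroup.center S) := by
          by_contra hcon
          push Not at hcon
          have hcon' : p * Nat.card (Subgroup.center S) + 1 ≤ Nat.card ↥(Subgroup.centralizer ({g} : Set S)) := hcon
          have h4 := Nat.mul_le_mul hcon' hple
          nlinarith [h4, e, hp.pos]
        have hCcard : Nat.card ↥(Subgroup.centralizer ({g} : Set S)) = p * Nat.card (Subgroup.center S) := le_antisymm hle h3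
        have hCidx : (Subgroup.centralizer ({g} : Set S)).index = p := by
          rw [hCcard] at e
          have h5 : (p * Nat.card (Subgroup.center S)) * (Subgroup.centralizer ({g} : Set S)).index = (p * Nat.card (Subgroup.center S)) * p := by rw [e]; ring
          exact Nat.eq_of_mul_eq_mul_left (Nat.mul_pos hp.pos hZpos) h5
        refine ⟨?_, hCidx⟩
        have hcomm := comm_of_card_le_mul_center p hS (Subgroup.centralizer ({g} : Set S))
          (by rw [hCcard]; exact h1.trans (Nat.le_mul_of_pos_left _ hp.pos))
        exact ⟨⟨fun a b => Subtype.ext (hcomm a.1 a.2 b.1 b.2)⟩⟩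
      let t : Finset (Subgroup S) :=
        Finset.univ.filter (fun B => IsMulCommutative ↥B ∧ B.index = p)
      have htmem : ∀ B, B ∈ t ↔ IsMulCommutative ↥B ∧ B.index = p := by
        intro B
        simp [t]
      rw [Nat.subtype_card t htmem]
      let s : Finset S := Finset.univ.filter (fun g => g ∉ (Subgroup.center S))
      have hs_card : s.card + Nat.card (Subgroup.center S) = Nat.card S := by
        have h1 := Finset.card_filter_add_card_filter_not (s := (Finset.univ : Finset S))
          (fun g => g ∈ (Subgroup.center S))
        have h2 : (Finset.univ.filter (fun g : S => g ∈ (Subgroup.center S))).card = Nat.card (Subgroup.center S) :=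
          (Nat.subtype_card _ (by simp)).symm
        rw [h2, Finset.card_univ, ← Nat.card_eq_fintype_card] at h1
        rw [← h1, add_comm]
      have hmaps : (s : Set S).MapsTo (fun g => Subgroup.centralizer ({g} : Set S)) t := by
        intro g hg
        have hgZ : g ∉ (Subgroup.center S) := by simpa [s] using hg
        exact (htmem _).mpr (hcentZ g hgZ)
      have hfib : s.card = ∑ B ∈ t,
          (s.filter (fun g => Subgroup.centralizer ({g} : Set S) = B)).card :=
        Finset.card_eq_sum_card_fiberwise hmaps
      have hterm : ∀ B ∈ t, (s.filter (fun g => Subgroup.centralizer ({g} : Set S) = B)).card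
          + Nat.card (Subgroup.center S) = p * Nat.card (Subgroup.center S) := by
        intro B hB
        obtain ⟨hBc, hBi⟩ := (htmem B).mp hB
        have hZB := hZle B hBc hBi
        have h1 := Finset.card_filter_add_card_filter_not
          (s := (Finset.univ.filter (fun g : S => g ∈ B))) (fun g => g ∈ (Subgroup.center S))
        have h2 : ((Finset.univ.filter (fun g : S => g ∈ B)).filter (fun g => g ∈ (Subgroup.center S))).card
            = Nat.card (Subgroup.center S) := by
          have h5 := Nat.subtype_card (p := fun g : S => g ∈ (Subgroup.center S))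
            ((Finset.univ.filter (fun g : S => g ∈ B)).filter (fun g => g ∈ (Subgroup.center S))) (by
              intro x
              simp only [Finset.mem_filter, Finset.mem_univ, true_and]
              exact ⟨fun h => h.2, fun h => ⟨hZB h, h⟩⟩)
          exact h5.symm
        have h3 : (Finset.univ.filter (fun g : S => g ∈ B)).card = Nat.card B :=
          (Nat.subtype_card _ (by simp)).symm
        have h4 : s.filter (fun g => Subgroup.centralizer ({g} : Set S) = B) =
            (Finset.univ.filter (fun g : S => g ∈ B)).filter (fun g => ¬ g ∈ (Subgroup.center S)) := by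
          ext g
          simp only [s, Finset.mem_filter, Finset.mem_univ, true_and]
          constructor
          · rintro ⟨hgZ, hgC⟩
            refine ⟨?_, hgZ⟩
            rw [← hgC]
            exact Subgroup.mem_centralizer_iff.mpr
              (fun h hh => by rw [Set.mem_singleton_iff.mp hh])
          · rintro ⟨hgB, hgZ⟩
            exact ⟨hgZ, hcent B hBc hBi g hgB hgZ⟩
        rw [h4]
        rw [h2, h3, hcardB B hBi] at h1
        linarith
      have hsum := Finset.sum_congr (rfl : t = t) hterm
      rw [Finset.sum_add_distrib, Finset.sum_const, Finset.sum_const, smul_eq_mul, smul_eq_mul,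
        ← hfib] at hsum
      rw [hSZ] at hs_card
      have e1 : (s.card : ℤ) + t.card * Nat.card (Subgroup.center S) = t.card * (p * Nat.card (Subgroup.center S)) := by
        exact_mod_cast hsum
      have e2 : (s.card : ℤ) + Nat.card (Subgroup.center S) = Nat.card (Subgroup.center S) * (p * p) := by
        exact_mod_cast hs_card
      have key : ((t.card : ℤ) - (p + 1)) * ((p : ℤ) - 1) * (Nat.card (Subgroup.center S) : ℤ) = 0 := by
        linear_combination (-1 : ℤ) * e1 + e2
      have hz : (Nat.card (Subgroup.center S) : ℤ) ≠ 0 := by exact_mod_cast hZpos.ne'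
      have hp1 : (p : ℤ) - 1 ≠ 0 := by
        have h1 : (1 : ℤ) < p := by exact_mod_cast hp.one_lt
        linarith
      rcases mul_eq_zero.mp key with h | h
      · rcases mul_eq_zero.mp h with h' | h'
        · have h6 : (t.card : ℤ) = p + 1 := by linarith
          exact_mod_cast h6
        · exact absurd h' hp1
      · exact absurd h hz
  · right
    refine ⟨by rw [hk]; exact Nat.pow_le_pow_right hp.pos hk2, ?_⟩
    intro B hB hBi
    by_contra hne
    have h1 := hmeet B A hB hBi hA hAi hne
    have h2 : (Subgroup.center S).index ≤ (B ⊓ A).index :=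
      Nat.le_of_dvd (Nat.pos_of_ne_zero Subgroup.index_ne_zero_of_finite)
        (Subgroup.index_dvd_of_le h1)
    have h3 : (B ⊓ A).index ≤ B.index * A.index := Subgroup.index_inf_le
    rw [hBi, hAi] at h3
    rw [hidx, hk] at h2
    have h4 : p ^ 2 ≤ p ^ k := Nat.pow_le_pow_right hp.pos hk2
    have h5 : p * p ^ k ≤ p * p := h2.trans h3
    have h6 : p ^ k ≤ p := Nat.le_of_mul_le_mul_left h5 hp.pos
    have h7 : p < p ^ 2 := by
      have h8 := hp.one_lt
      nlinarith
    omega

end Cfsg.Agent.S3807
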