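import Cfsg.Statements.S3810
import Mathlib
import Cfsg.Agent.Lib.Helper4.AbelianIndexP
import Cfsg.Agent.Lib.Lead.PGroup
import Cfsg.Agent.S3741
import Cfsg.Agent.S3808
import Cfsg.Agent.H1.Card

set_option autoImplicit false
set_option linter.style.haveILetI false
open Cfsg
open Cfsg.Agent.Lib.Helper4.AbelianIndexP
open scoped commutatorElement

namespace Cfsg.Agent.S3810

/-- from a non-central element whose centralizer has order `p^3` and large centre, get an abelian
subgroup of index `p` -/
theorem exists_of_centralizer {S : Type*} [Group S] [Finite S] (p : ℕ) [Fact p.Prime]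
    (hS : IsPGroup p S) (hcard : Nat.card S = p ^ 4) (x : S)
    (hC : Nat.card ↥(Subgroup.centralizer ({x} : Set S)) = p ^ 3)
    (hW : p ^ 2 ≤ Nat.card (Subgroup.center ↥(Subgroup.centralizer ({x} : Set S)))) :
    ∃ A : Subgroup S, IsMulCommutative ↥A ∧ A.index = p := by
  have hpp : p.Prime := Fact.out
  refine ⟨Subgroup.centralizer ({x} : Set S), ?_, ?_⟩
  · have h := comm_of_card_le_mul_center p hS (Subgroup.centralizer ({x} : Set S)) (by
      rw [hC]
      calc p ^ 3 = p * p ^ 2 := by ring
        _ ≤ _ := Nat.mul_le_mul_left _ hW)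
    exact ⟨⟨fun a b => Subtype.ext (h a a.2 b b.2)⟩⟩
  · have h1 := Subgroup.card_mul_index (Subgroup.centralizer ({x} : Set S))
    rw [hC, hcard] at h1
    have : p ^ 3 * (Subgroup.centralizer ({x} : Set S)).index = p ^ 3 * p := by rw [h1]; ring
    exact Nat.eq_of_mul_eq_mul_left (pow_pos hpp.pos 3) this

/-- Let S be a finite p-group with an extraspecial subgroup of index p. Then S has an abelian subgroup of index p if and only if S has order p⁴. -/
theorem result {S : Type*} [Group S] [Finite S] (p : ℕ) [Fact p.Prime] (hS : IsPGroup p S) (Q : Subgroup S) (hQ : Cfsg.IsExtraspecial p ↥Q) (hQi : Q.index = p) :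
    (∃ A : Subgroup S, IsMulCommutative ↥A ∧ A.index = p) ↔ Nat.card S = p ^ 4 := by
  classical
  have hpp : p.Prime := Fact.out
  haveI hQn : Q.Normal := normal_of_index_eq_prime p hS Q hQi
  have hQcard := Subgroup.card_mul_index Q
  rw [hQi] at hQcard
  -- `Q` is non-abelian
  have hQna : ¬ ∀ g h : ↥Q, g * h = h * g := by
    intro h
    have : commutator ↥Q = ⊥ := by
      rw [commutator_def, eq_bot_iff, Subgroup.commutator_le]
      intro g _ k _
      rw [Subgroup.mem_bot, commutatorElement_eq_one_iff_mul_comm]
      exact h g k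
    have h2 := hQ.2
    rw [← hQ.1.2.2, this, Subgroup.card_bot] at h2
    exact hpp.one_lt.ne h2
  have hZcard : Nat.card ↥(Q ⊓ Subgroup.centralizer (Q : Set S)) = p := by
    rw [← Cfsg.Agent.S3808.map_center_eq, ← hQ.2]
    exact (Nat.card_congr
      (Subgroup.equivMapOfInjective _ _ Q.subtype_injective).toEquiv).symm
  constructor
  · rintro ⟨A, hA, hAi⟩
    have hAcard := Subgroup.card_mul_index A
    rw [hAi] at hAcard
    have hAab : ∀ a ∈ A, ∀ b ∈ A, a * b = b * a := fun a ha b hb =>
      congrArg Subtype.val (hA.is_comm.comm ⟨a, ha⟩ ⟨b, hb⟩)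
    have hAQ : ¬ A ≤ Q := by
      intro hle
      have hge : Nat.card Q ≤ Nat.card A := by
        have : Nat.card Q * p = Nat.card A * p := by rw [hQcard, hAcard]
        exact (Nat.eq_of_mul_eq_mul_right hpp.pos this).le
      have := Subgroup.eq_of_le_of_card_ge hle hge
      apply hQna
      intro g h
      apply Subtype.ext
      exact hAab g (this ▸ g.2) h (this ▸ h.2)
    have htop : Q ⊔ A = ⊤ := sup_eq_top_of_index_prime Q A (hQi ▸ hpp) hAQ
    have h1 := Cfsg.Agent.H1.card_sup_mul_card_inf A Q
      (by rw [Subgroup.normalizer_eq_top]; exact le_top)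
    rw [sup_comm, htop, Subgroup.card_top] at h1
    have h2 : p * Nat.card ↥(A ⊓ Q) = Nat.card Q := by
      have hApos : 0 < Nat.card A := Nat.card_pos
      apply Nat.eq_of_mul_eq_mul_left hApos
      rw [← h1, ← hAcard]; ring
    -- the abelian subgroup of index p of Q
    have hBcard : Nat.card ↥((A ⊓ Q).subgroupOf Q) = Nat.card ↥(A ⊓ Q) :=
      Nat.card_congr (Subgroup.subgroupOfEquivOfLe (inf_le_right : A ⊓ Q ≤ Q)).toEquiv
    have hBidx : ((A ⊓ Q).subgroupOf Q).index = p := by
      have h3 := Subgroup.card_mul_index ((A ⊓ Q).subgroupOf Q)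
      rw [hBcard, ← h2, mul_comm] at h3
      have hpos : 0 < Nat.card ↥(A ⊓ Q) := Nat.card_pos
      exact Nat.eq_of_mul_eq_mul_right hpos h3
    haveI hBn : ((A ⊓ Q).subgroupOf Q).Normal :=
      normal_of_index_eq_prime p (hS.to_subgroup Q) _ hBidx
    have hBab : ∀ a ∈ (A ⊓ Q).subgroupOf Q, ∀ b ∈ (A ⊓ Q).subgroupOf Q, a * b = b * a := by
      intro a ha b hb
      apply Subtype.ext
      exact hAab a (Subgroup.mem_inf.mp (Subgroup.mem_subgroupOf.mp ha)).1 b
        (Subgroup.mem_inf.mp (Subgroup.mem_subgroupOf.mp hb)).1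
    have hf := index_center_eq ((A ⊓ Q).subgroupOf Q) hBab (hBidx ▸ hpp) hQna
    rw [hBidx, hQ.1.2.2, hQ.2] at hf
    have h4 := Subgroup.card_mul_index (Subgroup.center ↥Q)
    rw [hf, hQ.2] at h4
    rw [← hQcard, ← h4]; ring
  · intro hcard
    have hQ3 : Nat.card Q = p ^ 3 := by
      rw [hcard] at hQcard
      have : Nat.card Q * p = p ^ 3 * p := by rw [hQcard]; ring
      exact Nat.eq_of_mul_eq_mul_right hpp.pos this
    -- `S` is non-abelian
    have hna : ¬ ∀ g h : S, g * h = h * g :=
      fun h => hQna (fun g k => Subtype.ext (h g k))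
    rcases Cfsg.Agent.S3808.result p hS Q hQ hQi with hZ | ⟨_, hZ2⟩
    · -- the centre has order `p`
      rw [Cfsg.Agent.S3808.map_center_eq] at hZ
      have hZS : Nat.card (Subgroup.center S) = p := by rw [hZ]; exact hZcard
      -- a central element of the quotient inside the image of `Q`
      have hQbar : Q.map (QuotientGroup.mk' (Subgroup.center S)) ≠ ⊥ := by
        intro h
        rw [Subgroup.map_eq_bot_iff, QuotientGroup.ker_mk'] at h
        have := Subgroup.card_le_of_le h
        rw [hQ3, hZS] at this
        have h2 : p ^ 2 ≤ p ^ 3 := Nat.pow_le_pow_right hpp.pos (by norm_num)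
        have h3 := hpp.two_le
        nlinarith [h2, h3]
      haveI : (Q.map (QuotientGroup.mk' (Subgroup.center S))).Normal :=
        Subgroup.Normal.map hQn _ (QuotientGroup.mk'_surjective _)
      obtain ⟨z, hzQ, hzc, hz1⟩ := Cfsg.Agent.Lib.Lead.PGroup.exists_mem_center_of_normal
        (hS.to_quotient (Subgroup.center S)) _ hQbar
      obtain ⟨y, hyQ, rfl⟩ := hzQ
      have hyZ : y ∉ Subgroup.center S := by
        intro h
        exact hz1 ((QuotientGroup.eq_one_iff y).mpr h)
      -- commutators with `y` are central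
      have hcomm_le : ⁅Subgroup.zpowers y, (⊤ : Subgroup S)⁆ ≤ Subgroup.center S := by
        rw [Subgroup.commutator_le]
        intro a ha s _
        obtain ⟨i, rfl⟩ := Subgroup.mem_zpowers_iff.mp ha
        rw [← QuotientGroup.eq_one_iff (N := Subgroup.center S)]
        show (QuotientGroup.mk' (Subgroup.center S)) ⁅y ^ i, s⁆ = 1
        rw [map_commutatorElement, commutatorElement_eq_one_iff_mul_comm, map_zpow]
        have := Subgroup.zpow_mem _ hzc i
        exact ((Subgroup.mem_center_iff.mp this) _).symm
      have hcomm_card : Nat.card ↥⁅Subgroup.zpowers y, (⊤ : Subgroup S)⁆ = p := by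
        have hd : Nat.card ↥⁅Subgroup.zpowers y, (⊤ : Subgroup S)⁆ ∣ p :=
          hZS ▸ Subgroup.card_dvd_of_le hcomm_le
        rcases (Nat.dvd_prime hpp).mp hd with h | h
        · exfalso
          have hb := Subgroup.card_eq_one.mp h
          rw [Subgroup.commutator_top_right_eq_bot_iff_le_center] at hb
          exact hyZ (hb (Subgroup.mem_zpowers y))
        · exact h
      have hkey := (Cfsg.Agent.S3741.key p (Subgroup.zpowers y) ⊤
        (fun z hz x _ => ((Subgroup.mem_center_iff.mp (hcomm_le hz)) x).symm)
        hcomm_card y (Subgroup.mem_zpowers y)).2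
        (by
          intro h
          apply hyZ
          rw [Subgroup.coe_top, Subgroup.centralizer_univ] at h
          exact h)
      have hMcard : p * Nat.card ↥(Subgroup.centralizer ({y} : Set S)) = Nat.card S := by
        have e1 : Nat.card ↥(⊤ : Subgroup S) = Nat.card S := Subgroup.card_top
        rw [e1] at hkey
        rw [← hkey]
        congr 1
        apply Nat.card_congr
        refine ⟨fun m => ⟨⟨m.1, Subgroup.mem_top _⟩, ?_⟩, fun b => ⟨b.1.1, ?_⟩,
          fun m => rfl, fun b => rfl⟩
        · exact (Subgroup.mem_centralizer_singleton_iff.mp m.2).symm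
        · rw [Subgroup.mem_centralizer_singleton_iff]; exact b.2.symm
      have hM3 : Nat.card ↥(Subgroup.centralizer ({y} : Set S)) = p ^ 3 := by
        rw [hcard] at hMcard
        have : p * Nat.card ↥(Subgroup.centralizer ({y} : Set S)) = p * p ^ 3 := by
          rw [hMcard]; ring
        exact Nat.eq_of_mul_eq_mul_left hpp.pos this
      have hW := card_center_centralizer p hS y hyZ
      rw [hZS] at hW
      exact exists_of_centralizer p hS hcard y hM3 (by rw [pow_two]; exact hW)
    · -- the centre has order `p^2`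
      obtain ⟨x, hx⟩ : ∃ x : S, x ∉ Subgroup.center S := by
        by_contra h
        push Not at h
        exact hna (fun g k => ((Subgroup.mem_center_iff.mp (h k)) g))
      have hW := card_center_centralizer p hS x hx
      rw [hZ2] at hW
      have hWM : Nat.card (Subgroup.center ↥(Subgroup.centralizer ({x} : Set S))) ≤
          Nat.card ↥(Subgroup.centralizer ({x} : Set S)) := Subgroup.card_le_card_group _
      have hMtop : Subgroup.centralizer ({x} : Set S) ≠ ⊤ := by
        intro h
        apply hx
        rw [Subgroup.mem_center_iff]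
        intro g
        exact Subgroup.mem_centralizer_singleton_iff.mp (h ▸ Subgroup.mem_top g)
      obtain ⟨c, hc⟩ := (hS.to_subgroup (Subgroup.centralizer ({x} : Set S))).exists_card_eq
      have hc3 : c = 3 := by
        have h1 : p ^ 3 ≤ p ^ c := by
          rw [← hc]
          calc p ^ 3 = p * p ^ 2 := by ring
            _ ≤ _ := hW.trans hWM
        have h2 : 3 ≤ c := (Nat.pow_le_pow_iff_right hpp.one_lt).mp h1
        have h3 : c < 4 := by
          by_contra h
          push Not at h
          have h4 : p ^ 4 ≤ p ^ c := Nat.pow_le_pow_right hpp.pos h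
          have h5 : Nat.card ↥(Subgroup.centralizer ({x} : Set S)) ≤ Nat.card S :=
            Subgroup.card_le_card_group _
          have h6 : Nat.card ↥(Subgroup.centralizer ({x} : Set S)) = Nat.card S := by
            rw [hc, hcard] at h5 ⊢
            exact le_antisymm h5 h4
          exact hMtop ((Subgroup.card_eq_iff_eq_top _).mp h6)
        omega
      rw [hc3] at hc
      exact exists_of_centralizer p hS hcard x hc (by
        calc p ^ 2 ≤ p * p ^ 2 := Nat.le_mul_of_pos_left _ hpp.pos
          _ ≤ _ := hW)

end Cfsg.Agent.S3810
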