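import Cfsg.Statements.S3815
import Mathlib
import Cfsg.Agent.H1.Basic
import Cfsg.Agent.H1.Cores

set_option autoImplicit false
open Cfsg

namespace Cfsg.Agent.S3815

open Cfsg.Agent.H1

/-- Let G be a finite group, p a prime and d ∈ G an element of order prime to p. If dg has order prime to p for every element g ∈ G of order prime to p, then d ∈ O_{p'}(G). -/
theorem result {G : Type*} [Group G] [Finite G] {p : ℕ} [Fact p.Prime]
    (d : G) (hd : (orderOf d).Coprime p)
    (h : ∀ g : G, (orderOf g).Coprime p → (orderOf (d * g)).Coprime p) :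
    d ∈ Cfsg.pPrimeCore p G := by
  have hp : p.Prime := Fact.out
  -- the submonoid of all such elements
  let D : Submonoid G :=
    { carrier := {x | (orderOf x).Coprime p ∧ ∀ g : G, (orderOf g).Coprime p → (orderOf (x * g)).Coprime p}
      one_mem' := by
        refine ⟨by simp, ?_⟩
        intro g hg
        rwa [one_mul]
      mul_mem' := by
        rintro a b ⟨ha1, ha2⟩ ⟨hb1, hb2⟩
        refine ⟨ha2 b hb1, ?_⟩
        intro g hg
        rw [mul_assoc]
        exact ha2 _ (hb2 g hg) }
  -- a submonoid of a finite group is a subgroup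
  let K : Subgroup G :=
    { D with
      inv_mem' := by
        intro x hx
        have hx' : x ∈ D := hx
        have h1 : x⁻¹ = x ^ (orderOf x - 1) := by
          have hpos : 0 < orderOf x := orderOf_pos x
          rw [inv_eq_iff_mul_eq_one, ← pow_succ', Nat.sub_add_cancel hpos, pow_orderOf_eq_one]
        show x⁻¹ ∈ D
        rw [h1]
        exact pow_mem hx' _ }
  have hKmem : ∀ x, x ∈ K ↔ ((orderOf x).Coprime p ∧ ∀ g : G, (orderOf g).Coprime p → (orderOf (x * g)).Coprime p) :=
    fun x => Iff.rfl
  have hKn : K.Normal := by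
    constructor
    intro n hn g
    rw [hKmem] at hn ⊢
    obtain ⟨hn1, hn2⟩ := hn
    have hconj : ∀ a y : G, orderOf (a * y * a⁻¹) = orderOf y := by
      intro a y
      have : a * y * a⁻¹ = MulAut.conj a y := rfl
      rw [this, MulEquiv.orderOf_eq]
    refine ⟨by rw [hconj]; exact hn1, ?_⟩
    intro k hk
    have h1 : g * n * g⁻¹ * k = g * (n * (g⁻¹ * k * g)) * g⁻¹ := by group
    rw [h1, hconj]
    apply hn2
    have h2 : g⁻¹ * k * g = g⁻¹ * k * g⁻¹⁻¹ := by rw [inv_inv]
    rw [h2, hconj]
    exact hk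
  have hKc : (Nat.card K).Coprime p := by
    rw [Nat.coprime_comm, hp.coprime_iff_not_dvd]
    intro hdvd
    obtain ⟨x, hx⟩ := exists_prime_orderOf_dvd_card' p hdvd
    have h1 := ((hKmem x).mp x.2).1
    rw [Subgroup.orderOf_coe, hx] at h1
    exact hp.one_lt.ne' ((Nat.coprime_self p).mp h1)
  exact le_pPrimeCore hKn hKc ((hKmem d).mpr ⟨hd, h⟩)

end Cfsg.Agent.S3815
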