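import Cfsg.Statements.S3820
import Mathlib
import Cfsg.Agent.H1.Basic
import Cfsg.Agent.H1.SylowConj
import Cfsg.Agent.H1.ConjMap
import Cfsg.Prelude.Def_HallClasses

set_option autoImplicit false
open Cfsg

namespace Cfsg.Agent.S3820

open Cfsg.Agent.H1

/-- Call a subgroup H of G pronormal if H and gHg⁻¹ are conjugate inside ⟨H, gHg⁻¹⟩ for every g ∈ G. Let S ≤ H ≤ G be subgroups of a finite group with S pronormal in G (for instance S a Sylow subgroup). Then H is pronormal in G if and only if H and gHg⁻¹ are conjugate inside ⟨H, gHg⁻¹⟩ for every g ∈ N_G(S). In particular H is pronormal whenever N_G(S) ≤ H. -/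
theorem result {G : Type*} [Group G] [Finite G] (S H : Subgroup G) (hSH : S ≤ H)
    (hS : Cfsg.IsPronormal S) :
    Cfsg.IsPronormal H ↔
      ∀ g ∈ Subgroup.normalizer (S : Set G), ∃ w ∈ H ⊔ H.map (MulAut.conj g).toMonoidHom,
        H.map (MulAut.conj g).toMonoidHom = H.map (MulAut.conj w).toMonoidHom := by
  constructor
  · intro hH g _
    exact hH g
  · intro hyp g
    obtain ⟨x, hx, hSx⟩ := hS g
    set J := H ⊔ H.map (MulAut.conj g).toMonoidHom with hJ
    have hxJ : x ∈ J := by
      have : S ⊔ S.map (MulAut.conj g).toMonoidHom ≤ J :=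
        sup_le_sup hSH (Subgroup.map_mono hSH)
      exact this hx
    -- g' = x⁻¹ g normalizes S
    have hg' : x⁻¹ * g ∈ Subgroup.normalizer (S : Set G) := by
      rw [← map_conj_eq_self_iff, ← map_conj_map_conj, hSx, map_conj_map_conj, inv_mul_cancel, map_conj_one]
    obtain ⟨w, hw, hHw⟩ := hyp _ hg'
    refine ⟨x * w, ?_, ?_⟩
    · -- x w = (x w x⁻¹) x
      have h1 : x * w = (x * w * x⁻¹) * x := by group
      rw [h1]
      apply mul_mem _ hxJ
      -- x w x⁻¹ ∈ (H ⊔ H^{x⁻¹ g})^x ≤ J
      have h2 : x * w * x⁻¹ ∈ (H ⊔ H.map (MulAut.conj (x⁻¹ * g)).toMonoidHom).map (MulAut.conj x).toMonoidHom :=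
        (conj_mem_map_conj_iff x w _).mpr hw
      rw [Subgroup.map_sup, map_conj_map_conj, mul_inv_cancel_left] at h2
      have h3 : H.map (MulAut.conj x).toMonoidHom ≤ J := by
        intro y hy
        rw [mem_map_conj_iff] at hy
        have : y = x * (x⁻¹ * y * x) * x⁻¹ := by group
        rw [this]
        exact mul_mem (mul_mem hxJ (le_sup_left (a := H) hy)) (inv_mem hxJ)
      exact (sup_le h3 le_sup_right) h2
    · rw [← map_conj_map_conj w x, ← hHw, map_conj_map_conj, mul_inv_cancel_left]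

end Cfsg.Agent.S3820
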