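import Cfsg.Statements.S3821
import Mathlib
import Cfsg.Agent.H1.Basic
import Cfsg.Agent.H1.SylowConj
import Cfsg.Agent.H1.ConjMap
import Cfsg.Prelude.Def_HallClasses

set_option autoImplicit false
open Cfsg

namespace Cfsg.Agent.S3821

open Cfsg.Agent.H1

/-- Let A be a normal subgroup of the finite group G and H a subgroup of A. Then H is pronormal in G (H and gHg⁻¹ conjugate inside ⟨H, gHg⁻¹⟩ for every g ∈ G) if and only if H is pronormal in A and G = A · N_G(H). -/
theorem result {G : Type*} [Group G] [Finite G] (A H : Subgroup G) [A.Normal] (hHA : H ≤ A) :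
    Cfsg.IsPronormal H ↔ (Cfsg.IsPronormal (H.subgroupOf A) ∧ A ⊔ Subgroup.normalizer (H : Set G) = ⊤) := by
  have hconjA : ∀ g : G, H.map (MulAut.conj g).toMonoidHom ≤ A := by
    intro g y hy
    rw [mem_map_conj_iff] at hy
    have h1 := Subgroup.Normal.conj_mem (inferInstance : A.Normal) _ (hHA hy) g
    have h2 : g * (g⁻¹ * y * g) * g⁻¹ = y := by group
    rwa [h2] at h1
  constructor
  · intro hH
    constructor
    · intro a
      obtain ⟨x, hx, hHx⟩ := hH (a : G)
      have hxA : x ∈ A := (sup_le hHA (hconjA a)) hx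
      refine ⟨⟨x, hxA⟩, ?_, ?_⟩
      · rw [subgroupOf_map_conj, ← Subgroup.subgroupOf_sup hHA (hconjA a), Subgroup.mem_subgroupOf]
        exact hx
      · rw [subgroupOf_map_conj, subgroupOf_map_conj, hHx]
    · rw [eq_top_iff]
      intro g _
      obtain ⟨x, hx, hHx⟩ := hH g
      have hxA : x ∈ A := (sup_le hHA (hconjA g)) hx
      have hn : x⁻¹ * g ∈ Subgroup.normalizer (H : Set G) := by
        rw [← map_conj_eq_self_iff, ← map_conj_map_conj, hHx, map_conj_map_conj, inv_mul_cancel, map_conj_one]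
      have : g = x * (x⁻¹ * g) := by group
      rw [this]
      exact mul_mem (Subgroup.mem_sup_left hxA) (Subgroup.mem_sup_right hn)
  · rintro ⟨hpro, hsup⟩ g
    have hg : g ∈ A ⊔ Subgroup.normalizer (H : Set G) := by rw [hsup]; exact Subgroup.mem_top g
    rw [Subgroup.mem_sup_of_normal_left] at hg
    obtain ⟨a, ha, n, hn, rfl⟩ := hg
    have h1 : H.map (MulAut.conj (a * n)).toMonoidHom = H.map (MulAut.conj a).toMonoidHom := by
      rw [← map_conj_map_conj, (map_conj_eq_self_iff n H).mpr hn]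
    rw [h1]
    obtain ⟨x, hx, hHx⟩ := hpro ⟨a, ha⟩
    rw [subgroupOf_map_conj, ← Subgroup.subgroupOf_sup hHA (hconjA a), Subgroup.mem_subgroupOf] at hx
    refine ⟨x, hx, ?_⟩
    rw [subgroupOf_map_conj, subgroupOf_map_conj, Subgroup.subgroupOf_inj,
      inf_eq_left.mpr (hconjA _), inf_eq_left.mpr (hconjA _)] at hHx
    exact hHx

end Cfsg.Agent.S3821
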