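import Cfsg.Statements.S3825
import Mathlib
import Cfsg.Prelude.Def_Transfer
import Cfsg.Agent.H1.OddCentralizers
import Cfsg.Agent.H1.MinNonPClosed
import Cfsg.Agent.H1.InvolFixTwo

set_option autoImplicit false
open Cfsg

namespace Cfsg.Agent.S3825

set_option autoImplicit false
open H1

/-- Let U be a subgroup of a finite group H and w an involution of H normalizing U and commuting with exactly two elements of U, the identity and y. If V is a non-cyclic elementary abelian 2-subgroup of U containing y which is normal in U and invariant under w, then V is a Sylow 2-subgroup of U, V has order 4, and U/V is abelian. -/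
theorem result {H : Type*} [Group H] [Finite H] (U : Subgroup H) (w : H) (hw : orderOf w = 2)
    (hwU : w ∈ Subgroup.normalizer (U : Set H)) (y : H) (hy : y ≠ 1) (hyU : y ∈ U)
    (hfix : ∀ u ∈ U, w * u * w⁻¹ = u ↔ (u = 1 ∨ u = y))
    (V : Subgroup H) (hVU : V ≤ U) (hVn : (V.subgroupOf U).Normal) (hVw : ∀ v ∈ V, w * v * w⁻¹ ∈ V)
    (hVe : Cfsg.IsElementaryAbelian 2 V) (hVc : ¬ IsCyclic ↥V) (hyV : y ∈ V) :
    ¬ 2 ∣ V.relIndex U ∧ Nat.card ↥V = 4 ∧ ⁅U, U⁆ ≤ V := by
  exact invol_fix_two_structure U w hw hwU y hy hyU hfix V hVU hVn hVw hVe hVc hyV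

end Cfsg.Agent.S3825
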