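import Mathlib
import Cfsg.Statements.S4231
import Cfsg.Agent.Lib.Lead.AutAlt

set_option autoImplicit false
open Cfsg

namespace Cfsg.Agent.S4231


section Part0
open Cfsg
open Equiv Equiv.Perm
open Cfsg.Agent.Lead.AutAlt

section PresSec

variable {Ω : Type*} [DecidableEq Ω] [Fintype Ω]

/-- the automorphism maps 3-cycles to 3-cycles -/
def Pres (ψ : MulAut (alternatingGroup Ω)) : Prop :=
  ∀ c : alternatingGroup Ω, (c : Perm Ω).IsThreeCycle →
    ((ψ c : alternatingGroup Ω) : Perm Ω).IsThreeCycle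

/-- the image of a point stabilizer under a 3-cycle preserving automorphism fixes a point. -/
lemma exists_fix' (h4 : 4 ≤ Fintype.card Ω)
    (ψ : MulAut (alternatingGroup Ω)) (hψ : Pres ψ.symm) (x : Ω) :
    ∃ y : Ω, ∀ g : alternatingGroup Ω, (g : Perm Ω) x = x →
      ((ψ g : alternatingGroup Ω) : Perm Ω) y = y := by
  classical
  let S : Subgroup (alternatingGroup Ω) :=
    (MulAction.stabilizer (Perm Ω) x).subgroupOf (alternatingGroup Ω)
  let G : Subgroup (Perm Ω) := S.map ((alternatingGroup Ω).subtype.comp ψ.toMonoidHom)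
  have memS : ∀ g : alternatingGroup Ω, g ∈ S ↔ (g : Perm Ω) x = x := fun g => by
    show (g : Perm Ω) ∈ MulAction.stabilizer (Perm Ω) x ↔ _
    rw [MulAction.mem_stabilizer_iff, Perm.smul_def]
  have memG : ∀ p : Perm Ω, p ∈ G ↔ ∃ g : alternatingGroup Ω, (g : Perm Ω) x = x ∧
      ((ψ g : alternatingGroup Ω) : Perm Ω) = p := by
    intro p
    show p ∈ S.map _ ↔ _
    rw [Subgroup.mem_map]
    constructor
    · rintro ⟨g, hg, rfl⟩; exact ⟨g, (memS g).1 hg, rfl⟩
    · rintro ⟨g, hg, rfl⟩; exact ⟨g, (memS g).2 hg, rfl⟩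
  let Ψ : Perm Ω → Perm Ω := fun d =>
    if h : d ∈ alternatingGroup Ω then ((ψ ⟨d, h⟩ : alternatingGroup Ω) : Perm Ω) else 1
  let T : Finset (Perm Ω) := Finset.univ.filter (fun d : Perm Ω => d.IsThreeCycle ∧ d x ≠ x)
  have hT : T.card ≤ (Fintype.card Ω - 1) * (Fintype.card Ω - 2) :=
    card_moving_le x T (fun c hc => (Finset.mem_filter.1 hc).2)
  let M : Finset (Perm Ω) := T.image Ψ
  have hMc : M.card ≤ (Fintype.card Ω - 1) * (Fintype.card Ω - 2) :=
    le_trans Finset.card_image_le hT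
  have hM : ∀ c : Perm Ω, c.IsThreeCycle → c ∉ G → c ∈ M := by
    intro c hc3 hcG
    have hcA : c ∈ alternatingGroup Ω := hc3.mem_alternatingGroup
    have hd3 : ((ψ.symm ⟨c, hcA⟩ : alternatingGroup Ω) : Perm Ω).IsThreeCycle :=
      hψ ⟨c, hcA⟩ hc3
    have hdx : ((ψ.symm ⟨c, hcA⟩ : alternatingGroup Ω) : Perm Ω) x ≠ x := by
      intro h
      apply hcG
      rw [memG]
      exact ⟨ψ.symm ⟨c, hcA⟩, h, by rw [MulEquiv.apply_symm_apply]⟩
    rw [Finset.mem_image]
    refine ⟨((ψ.symm ⟨c, hcA⟩ : alternatingGroup Ω) : Perm Ω), ?_, ?_⟩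
    · rw [Finset.mem_filter]; exact ⟨Finset.mem_univ _, hd3, hdx⟩
    · show (if h : ((ψ.symm ⟨c, hcA⟩ : alternatingGroup Ω) : Perm Ω) ∈ alternatingGroup Ω then
        ((ψ ⟨((ψ.symm ⟨c, hcA⟩ : alternatingGroup Ω) : Perm Ω), h⟩ : alternatingGroup Ω) : Perm Ω)
        else 1) = c
      rw [dif_pos (ψ.symm ⟨c, hcA⟩).2]
      have : (⟨((ψ.symm ⟨c, hcA⟩ : alternatingGroup Ω) : Perm Ω), (ψ.symm ⟨c, hcA⟩).2⟩ :
          alternatingGroup Ω) = ψ.symm ⟨c, hcA⟩ := rfl
      rw [this, MulEquiv.apply_symm_apply]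
  have hG : ¬ alternatingGroup Ω ≤ G := by
    intro hle
    obtain ⟨u, hu⟩ : ∃ u : Ω, u ≠ x := by
      have : 1 < Fintype.card Ω := by omega
      obtain ⟨a, b, hab⟩ := Fintype.one_lt_card_iff.1 this
      by_cases ha : a = x
      · exact ⟨b, fun h => hab (ha.trans h.symm)⟩
      · exact ⟨a, ha⟩
    obtain ⟨d₀, hd3, -, hdx⟩ := exists_sep h4 hu
    have hdA : d₀ ∈ alternatingGroup Ω := hd3.mem_alternatingGroup
    have h1 : ((ψ ⟨d₀, hdA⟩ : alternatingGroup Ω) : Perm Ω) ∈ G := hle (ψ ⟨d₀, hdA⟩).2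
    rw [memG] at h1
    obtain ⟨g, hgx, hg⟩ := h1
    have h2 : g = ⟨d₀, hdA⟩ := ψ.injective (Subtype.ext hg)
    rw [h2] at hgx
    exact hdx hgx
  obtain ⟨z, hz⟩ := exists_fixed_of_few h4 G hG M hM hMc
  exact ⟨z, fun g hg => hz _ ((memG _).2 ⟨g, hg, rfl⟩)⟩

/-- every 3-cycle preserving automorphism of the alternating group of degree `n ≥ 4` is
conjugation by a permutation. -/
theorem surj' (h4 : 4 ≤ Fintype.card Ω)
    (φ : MulAut (alternatingGroup Ω)) (hφ : Pres φ) (hφ' : Pres φ.symm) :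
    ∃ σ : Perm Ω, MulAut.conjNormal σ = φ := by
  classical
  choose σ hσ using exists_fix' h4 φ hφ'
  choose τ hτ using exists_fix' h4 φ.symm (by rw [MulEquiv.symm_symm]; exact hφ)
  have hτσ : ∀ x, τ (σ x) = x := by
    intro x
    by_contra hne
    obtain ⟨c, hcx, hcu⟩ := exists_sepA h4 (Ne.symm hne)
    have h1 := hσ x c hcx
    have h2 := hτ (σ x) (φ c) h1
    rw [MulEquiv.symm_apply_apply] at h2
    exact hcu h2
  have hστ : ∀ y, σ (τ y) = y := by
    intro y
    by_contra hne
    obtain ⟨c, hcy, hcu⟩ := exists_sepA h4 (Ne.symm hne)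
    have h1 := hτ y c hcy
    have h2 := hσ (τ y) (φ.symm c) h1
    rw [MulEquiv.apply_symm_apply] at h2
    exact hcu h2
  let σe : Perm Ω := ⟨σ, τ, hτσ, hστ⟩
  have hiff : ∀ x (k : alternatingGroup Ω), (k : Perm Ω) x = x ↔
      ((φ k : alternatingGroup Ω) : Perm Ω) (σ x) = σ x := by
    intro x k
    constructor
    · exact hσ x k
    · intro h
      have := hτ (σ x) (φ k) h
      rwa [MulEquiv.symm_apply_apply, hτσ] at this
  have hcomm : ∀ (g : alternatingGroup Ω) (x : Ω),
      ((φ g : alternatingGroup Ω) : Perm Ω) (σ x) = σ ((g : Perm Ω) x) := by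
    intro g x
    by_contra hne
    obtain ⟨p, hpu, hpv⟩ := exists_sepA h4 hne
    have hpk : φ (φ.symm p) = p := MulEquiv.apply_symm_apply φ p
    have h1 : ((φ (g⁻¹ * φ.symm p * g) : alternatingGroup Ω) : Perm Ω) (σ x) = σ x := by
      rw [map_mul, map_mul, hpk, map_inv]
      show ((φ g : alternatingGroup Ω) : Perm Ω)⁻¹
        ((p : Perm Ω) (((φ g : alternatingGroup Ω) : Perm Ω) (σ x))) = σ x
      rw [hpu]
      simp
    have h2 := (hiff x (g⁻¹ * φ.symm p * g)).2 h1
    have h3 : ((φ.symm p : alternatingGroup Ω) : Perm Ω) ((g : Perm Ω) x) = (g : Perm Ω) x := by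
      have e : ((g⁻¹ * φ.symm p * g : alternatingGroup Ω) : Perm Ω) x =
          (g : Perm Ω)⁻¹ (((φ.symm p : alternatingGroup Ω) : Perm Ω) ((g : Perm Ω) x)) := rfl
      rw [e] at h2
      have := congrArg (g : Perm Ω) h2
      simpa using this
    have h4' := (hiff ((g : Perm Ω) x) (φ.symm p)).1 h3
    rw [hpk] at h4'
    exact hpv h4'
  refine ⟨σe, ?_⟩
  apply MulEquiv.ext
  intro g
  apply Subtype.ext
  apply Perm.ext
  intro y
  rw [MulAut.conjNormal_apply]
  show σ ((g : Perm Ω) (τ y)) = ((φ g : alternatingGroup Ω) : Perm Ω) y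
  rw [← hcomm g (τ y), hστ]

end PresSec

end Part0

section Part1
open Cfsg
open Equiv Equiv.Perm
open Cfsg.Agent.Lead.AutAlt

section Six

variable {Ω : Type*} [DecidableEq Ω] [Fintype Ω]

lemma pres_one : Pres (1 : MulAut (alternatingGroup Ω)) := fun c hc => hc

lemma pres_mul {ψ χ : MulAut (alternatingGroup Ω)} (h1 : Pres ψ) (h2 : Pres χ) :
    Pres (ψ * χ) := fun c hc => h1 _ (h2 c hc)

lemma pres_pow {ψ : MulAut (alternatingGroup Ω)} (h1 : Pres ψ) (k : ℕ) : Pres (ψ ^ k) := by
  induction k with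
  | zero => rw [pow_zero]; exact pres_one
  | succ k ih => rw [pow_succ]; exact pres_mul ih h1

/-- an automorphism preserves all 3-cycles or none. -/
lemma pres_or_none (h5 : 5 ≤ Fintype.card Ω) (ψ : MulAut (alternatingGroup Ω)) :
    Pres ψ ∨ ∀ c : alternatingGroup Ω, (c : Perm Ω).IsThreeCycle →
      ¬ ((ψ c : alternatingGroup Ω) : Perm Ω).IsThreeCycle := by
  by_cases h : ∃ c₀ : alternatingGroup Ω, (c₀ : Perm Ω).IsThreeCycle ∧
      ((ψ c₀ : alternatingGroup Ω) : Perm Ω).IsThreeCycle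
  · left
    obtain ⟨c₀, hc₀, hψ₀⟩ := h
    intro c hc
    have hconj : IsConj c₀ c :=
      alternatingGroup.isThreeCycle_isConj (by rw [Nat.card_eq_fintype_card]; exact h5) hc₀ hc
    obtain ⟨g, hg⟩ := isConj_iff.1 hconj
    have e : ψ c = ψ g * ψ c₀ * (ψ g)⁻¹ := by rw [← hg, map_mul, map_mul, map_inv]
    have e2 : ((ψ c : alternatingGroup Ω) : Perm Ω) =
        ((ψ g : alternatingGroup Ω) : Perm Ω) * ((ψ c₀ : alternatingGroup Ω) : Perm Ω) *
          ((ψ g : alternatingGroup Ω) : Perm Ω)⁻¹ := by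
      rw [e]; rfl
    unfold IsThreeCycle at hψ₀ ⊢
    rw [e2, cycleType_conj]
    exact hψ₀
  · right
    intro c hc hψc
    exact h ⟨c, hc, hψc⟩

/-- in degree 6, an element of order 3 has cycle type `{3}` or `{3,3}`. -/
lemma type_of_order_three (h6 : Fintype.card Ω = 6) (g : Perm Ω) (hg : orderOf g = 3) :
    g.cycleType = {3} ∨ g.cycleType = {3, 3} := by
  obtain ⟨k, hk⟩ := cycleType_prime_order (σ := g) (by rw [hg]; norm_num)
  rw [hg] at hk
  have hsum : (k + 1) * 3 ≤ 6 := by
    have := sum_cycleType_le g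
    rw [hk, Multiset.sum_replicate, smul_eq_mul, h6] at this
    exact this
  have hk' : k = 0 ∨ k = 1 := by omega
  rcases hk' with rfl | rfl
  · left; rw [hk]; rfl
  · right; rw [hk]; rfl

lemma card_T (h6 : Fintype.card Ω = 6) :
    (Finset.univ.filter (fun g : Perm Ω => g.cycleType = {3})).card = 40 := by
  rw [card_of_cycleType, h6]
  rw [if_pos (by constructor <;> simp)]
  simp [Nat.factorial]

lemma card_D (h6 : Fintype.card Ω = 6) :
    (Finset.univ.filter (fun g : Perm Ω => g.cycleType = {3, 3})).card = 40 := by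
  rw [card_of_cycleType, h6]
  rw [if_pos (by constructor <;> simp)]
  have : ({3, 3} : Multiset ℕ).toFinset = {3} := by decide
  rw [this]
  simp [Nat.factorial]

end Six

end Part1

section Part2
open Cfsg
open Equiv Equiv.Perm
open Cfsg.Agent.Lead.AutAlt

section Six2

variable {Ω : Type*} [DecidableEq Ω] [Fintype Ω]

lemma orderOf_apply_three (ψ : MulAut (alternatingGroup Ω)) (c : alternatingGroup Ω)
    (hc : (c : Perm Ω).IsThreeCycle) :
    orderOf ((ψ c : alternatingGroup Ω) : Perm Ω) = 3 := by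
  rw [Subgroup.orderOf_coe, MulEquiv.orderOf_eq, ← Subgroup.orderOf_coe]
  exact hc.orderOf

lemma pres_sq (h6 : Fintype.card Ω = 6) (ψ : MulAut (alternatingGroup Ω)) : Pres (ψ * ψ) := by
  classical
  rcases pres_or_none (by omega) ψ with h | h
  · exact pres_mul h h
  · have hD : ∀ c : alternatingGroup Ω, (c : Perm Ω).IsThreeCycle →
        ((ψ c : alternatingGroup Ω) : Perm Ω).cycleType = {3, 3} := by
      intro c hc
      rcases type_of_order_three h6 _ (orderOf_apply_three ψ c hc) with h1 | h1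
      · exact absurd h1 (h c hc)
      · exact h1
    let Ψ : Perm Ω → Perm Ω := fun d =>
      if h : d ∈ alternatingGroup Ω then ((ψ ⟨d, h⟩ : alternatingGroup Ω) : Perm Ω) else 1
    let T : Finset (Perm Ω) := Finset.univ.filter (fun g : Perm Ω => g.cycleType = {3})
    let D : Finset (Perm Ω) := Finset.univ.filter (fun g : Perm Ω => g.cycleType = {3, 3})
    have hΨ : ∀ t ∈ T, ∃ ht : t ∈ alternatingGroup Ω, Ψ t = ((ψ ⟨t, ht⟩ : alternatingGroup Ω) : Perm Ω) := by
      intro t ht
      have h3 : t.IsThreeCycle := (Finset.mem_filter.1 ht).2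
      refine ⟨h3.mem_alternatingGroup, ?_⟩
      show (if h : t ∈ alternatingGroup Ω then ((ψ ⟨t, h⟩ : alternatingGroup Ω) : Perm Ω) else 1) = _
      rw [dif_pos h3.mem_alternatingGroup]
    have hsub : T.image Ψ ⊆ D := by
      intro x hx
      obtain ⟨t, ht, rfl⟩ := Finset.mem_image.1 hx
      obtain ⟨htA, e⟩ := hΨ t ht
      rw [e, Finset.mem_filter]
      exact ⟨Finset.mem_univ _, hD ⟨t, htA⟩ (Finset.mem_filter.1 ht).2⟩
    have hinj : Set.InjOn Ψ (T : Set (Perm Ω)) := by
      intro t ht t' ht' htt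
      obtain ⟨htA, e⟩ := hΨ t ht
      obtain ⟨htA', e'⟩ := hΨ t' ht'
      rw [e, e'] at htt
      have := ψ.injective (Subtype.ext htt)
      exact congrArg Subtype.val this
    have hcard : (T.image Ψ).card = 40 := by
      rw [Finset.card_image_of_injOn hinj]; exact card_T h6
    have himg : T.image Ψ = D :=
      Finset.eq_of_subset_of_card_le hsub (by rw [hcard]; exact le_of_eq (card_D h6))
    intro c hc
    show ((ψ (ψ c) : alternatingGroup Ω) : Perm Ω).IsThreeCycle
    have hord : orderOf ((ψ (ψ c) : alternatingGroup Ω) : Perm Ω) = 3 := by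
      rw [Subgroup.orderOf_coe, MulEquiv.orderOf_eq, ← Subgroup.orderOf_coe]
      exact orderOf_apply_three ψ c hc
    rcases type_of_order_three h6 _ hord with h1 | h1
    · exact h1
    · exfalso
      have hmem : ((ψ (ψ c) : alternatingGroup Ω) : Perm Ω) ∈ D := by
        rw [Finset.mem_filter]; exact ⟨Finset.mem_univ _, h1⟩
      rw [← himg] at hmem
      obtain ⟨t, ht, htt⟩ := Finset.mem_image.1 hmem
      obtain ⟨htA, e⟩ := hΨ t ht
      rw [e] at htt
      have h2 : (⟨t, htA⟩ : alternatingGroup Ω) = ψ c := ψ.injective (Subtype.ext htt)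
      have h3 : t = ((ψ c : alternatingGroup Ω) : Perm Ω) := congrArg Subtype.val h2
      have h4 : t.cycleType = {3} := (Finset.mem_filter.1 ht).2
      rw [h3, hD c hc] at h4
      revert h4
      decide

/-- odd order automorphisms preserve 3-cycles (degree at least 5). -/
lemma odd_pres (h5 : 5 ≤ Fintype.card Ω) (ψ : MulAut (alternatingGroup Ω))
    (hodd : Odd (orderOf ψ)) : Pres ψ := by
  by_cases h6 : Fintype.card Ω = 6
  · obtain ⟨k, hk⟩ := hodd
    have e : ψ = (ψ * ψ) ^ (k + 1) := by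
      rw [← pow_two, ← pow_mul]
      have : 2 * (k + 1) = orderOf ψ + 1 := by omega
      rw [this, pow_succ, pow_orderOf_eq_one, one_mul]
    rw [e]
    exact pres_pow (pres_sq h6 ψ) _
  · exact fun c hc => pres h6 ψ c hc

/-- odd order automorphisms of the alternating group of degree `≥ 5` are induced by
permutations. -/
theorem odd_surj (h5 : 5 ≤ Fintype.card Ω) (φ : MulAut (alternatingGroup Ω))
    (hodd : Odd (orderOf φ)) : ∃ σ : Perm Ω, MulAut.conjNormal σ = φ := by
  apply surj' (by omega) φ (odd_pres h5 φ hodd)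
  apply odd_pres h5
  have : φ.symm = φ⁻¹ := rfl
  rw [this, orderOf_inv]
  exact hodd

end Six2

end Part2

section Part3
open Cfsg
open Equiv Equiv.Perm
open Cfsg.Agent.Lead.AutAlt

section Small

/-- a finite group whose order divides a prime is commutative -/
lemma comm_of_card_dvd_prime {H : Type*} [Group H] [Finite H] {r : ℕ} (hr : r.Prime)
    (h : Nat.card H ∣ r) (a b : H) : a * b = b * a := by
  rcases (Nat.dvd_prime hr).1 h with h1 | h1
  · haveI : Subsingleton H := (Nat.card_eq_one_iff_unique.1 h1).1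
    exact Subsingleton.elim _ _
  · haveI : Fact r.Prime := ⟨hr⟩
    haveI : IsCyclic H := isCyclic_of_prime_card h1
    letI := IsCyclic.commGroup (α := H)
    exact mul_comm a b

variable {Ω : Type*} [DecidableEq Ω] [Fintype Ω]

/-- `r`-subgroups of the symmetric group of degree `< r²` are commutative. -/
lemma pgroup_perm_comm {r : ℕ} [hr : Fact r.Prime] (R : Subgroup (Perm Ω)) (hR : IsPGroup r R)
    (hn : Fintype.card Ω < r ^ 2) (x y : Perm Ω) (hx : x ∈ R) (hy : y ∈ R) : x * y = y * x := by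
  classical
  ext a
  -- the orbit of `a`
  obtain ⟨k, hk⟩ := hR.card_orbit a
  have hle : Nat.card (MulAction.orbit R a) ≤ Fintype.card Ω := by
    rw [← Nat.card_eq_fintype_card]
    exact Nat.card_le_card_of_injective _ Subtype.val_injective
  have hk1 : k ≤ 1 := by
    by_contra hcon
    have : r ^ 2 ≤ r ^ k := Nat.pow_le_pow_right hr.out.pos (by omega)
    omega
  have hOr : Nat.card (MulAction.orbit R a) ≤ r := by
    rw [hk]
    calc r ^ k ≤ r ^ 1 := Nat.pow_le_pow_right hr.out.pos hk1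
      _ = r := pow_one r
  let f : R →* Perm (MulAction.orbit R a) := MulAction.toPermHom R (MulAction.orbit R a)
  have hfr : IsPGroup r f.range := hR.of_surjective f.rangeRestrict f.rangeRestrict_surjective
  obtain ⟨j, hj⟩ := IsPGroup.iff_card.1 hfr
  have hdvd : Nat.card f.range ∣ r.factorial := by
    have h1 : Nat.card f.range ∣ Nat.card (Perm (MulAction.orbit R a)) := Subgroup.card_subgroup_dvd_card _
    have h2 : Nat.card (Perm (MulAction.orbit R a)) = (Nat.card (MulAction.orbit R a)).factorial := by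
      rw [Nat.card_eq_fintype_card, Fintype.card_perm, Nat.card_eq_fintype_card]
    rw [h2] at h1
    exact h1.trans (Nat.factorial_dvd_factorial hOr)
  have hj1 : j ≤ 1 := by
    by_contra hcon
    have h2 : r ^ 2 ∣ r.factorial := by
      rw [hj] at hdvd
      exact (pow_dvd_pow r (by omega)).trans hdvd
    have hr1 : r = (r - 1) + 1 := by have := hr.out.two_le; omega
    rw [hr1, Nat.factorial_succ, ← hr1, pow_two] at h2
    have h3 : r ∣ (r - 1).factorial := Nat.dvd_of_mul_dvd_mul_left hr.out.pos h2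
    have h4 := (hr.out.dvd_factorial).1 h3
    have := hr.out.two_le
    omega
  have hcr : Nat.card f.range ∣ r := by
    rw [hj]
    calc r ^ j ∣ r ^ 1 := pow_dvd_pow r hj1
      _ = r := pow_one r
  have hcomm := comm_of_card_dvd_prime hr.out hcr
    (⟨f ⟨x, hx⟩, ⟨_, rfl⟩⟩ : f.range) (⟨f ⟨y, hy⟩, ⟨_, rfl⟩⟩ : f.range)
  have hcomm' : f ⟨x, hx⟩ * f ⟨y, hy⟩ = f ⟨y, hy⟩ * f ⟨x, hx⟩ := congrArg Subtype.val hcomm
  have h3 := congrArg (fun g : Perm (MulAction.orbit R a) =>
    ((g ⟨a, MulAction.mem_orbit_self a⟩ : MulAction.orbit R a) : Ω)) hcomm'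
  exact h3

end Small

section SylowA

variable {n : ℕ}

/-- Sylow `r`-subgroups (`r` odd) of a group of automorphisms of `A_n` are commutative if
`n < r²`. -/
lemma sylow_comm (hn : 5 ≤ n) (G : Subgroup (MulAut (alternatingGroup (Fin n))))
    (r : ℕ) [hr : Fact r.Prime] (hodd : r ≠ 2) (hnr : n < r ^ 2) (P : Sylow r G) :
    IsMulCommutative (P : Subgroup G) := by
  classical
  have h5 : 5 ≤ Fintype.card (Fin n) := by rw [Fintype.card_fin]; exact hn
  have hinj : Function.Injective
      (MulAut.conjNormal : Perm (Fin n) →* MulAut (alternatingGroup (Fin n))) :=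
    conjNormal_injective (by omega)
  let R : Subgroup (Perm (Fin n)) :=
    (((P : Subgroup G).map G.subtype)).comap MulAut.conjNormal
  have hRp : IsPGroup r R := by
    intro g
    have hg : MulAut.conjNormal (g : Perm (Fin n)) ∈ (P : Subgroup G).map G.subtype := g.2
    obtain ⟨p, hp, e⟩ := Subgroup.mem_map.1 hg
    obtain ⟨k, hk⟩ := P.isPGroup' ⟨p, hp⟩
    refine ⟨k, ?_⟩
    apply Subtype.ext
    apply hinj
    rw [Subgroup.coe_pow, map_pow, ← e, Subgroup.coe_one, map_one]
    have : p ^ r ^ k = 1 := congrArg Subtype.val hk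
    have h2 := congrArg G.subtype this
    rw [map_pow, map_one] at h2
    exact h2
  have hrodd : Odd r := hr.out.odd_of_ne_two hodd
  have hsurj : ∀ x : G, x ∈ (P : Subgroup G) → ∃ σ ∈ R, MulAut.conjNormal σ = (x : MulAut (alternatingGroup (Fin n))) := by
    intro x hx
    obtain ⟨k, hk⟩ := (IsPGroup.iff_orderOf.1 P.isPGroup') ⟨x, hx⟩
    have ho : orderOf (x : MulAut (alternatingGroup (Fin n))) = r ^ k := by
      rw [Subgroup.orderOf_coe, ← hk]
      exact (Subgroup.orderOf_coe (⟨x, hx⟩ : (P : Subgroup G)))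
    obtain ⟨σ, hσ⟩ := odd_surj h5 (x : MulAut (alternatingGroup (Fin n)))
      (by rw [ho]; exact hrodd.pow)
    refine ⟨σ, ?_, hσ⟩
    show MulAut.conjNormal σ ∈ (P : Subgroup G).map G.subtype
    rw [hσ]
    exact Subgroup.mem_map.2 ⟨x, hx, rfl⟩
  have hnr' : Fintype.card (Fin n) < r ^ 2 := by rw [Fintype.card_fin]; exact hnr
  refine ⟨⟨fun a b => ?_⟩⟩
  obtain ⟨σ, hσR, hσ⟩ := hsurj a.1 a.2
  obtain ⟨τ, hτR, hτ⟩ := hsurj b.1 b.2
  have hc := pgroup_perm_comm R hRp hnr' σ τ hσR hτR
  apply Subtype.ext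
  apply Subtype.ext
  show ((a.1 : MulAut (alternatingGroup (Fin n))) * (b.1 : MulAut (alternatingGroup (Fin n)))) = (b.1 : MulAut (alternatingGroup (Fin n))) * (a.1 : MulAut (alternatingGroup (Fin n)))
  rw [← hσ, ← hτ, ← map_mul, ← map_mul, hc]

end SylowA

end Part3

section Part4
open Cfsg
open Equiv Equiv.Perm
open Cfsg.Agent.Lead.AutAlt

section Final

/-- an even permutation of order `p q` with both primes odd -/
lemma exists_order_odd (n p q : ℕ) (hp : p.Prime) (hq : q.Prime) (hpq : p ≠ q) (hp2 : p ≠ 2)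
    (hq2 : q ≠ 2) (hle : p + q ≤ n) : ∃ g : alternatingGroup (Fin n), orderOf g = p * q := by
  obtain ⟨g, hg⟩ := (exists_with_cycleType_iff (Fin n) (m := ({p, q} : Multiset ℕ))).2 (by
    constructor
    · rw [Fintype.card_fin]
      show (p ::ₘ {q} : Multiset ℕ).sum ≤ n
      rw [Multiset.sum_cons, Multiset.sum_singleton]; exact hle
    · intro a ha
      have : a = p ∨ a = q := by
        simpa using ha
      rcases this with rfl | rfl
      · exact hp.two_le
      · exact hq.two_le)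
  have hsign : sign g = 1 := by
    rw [sign_of_cycleType, hg]
    have e : ({p, q} : Multiset ℕ).sum + Multiset.card ({p, q} : Multiset ℕ) = p + q + 2 := by
      show (p ::ₘ {q} : Multiset ℕ).sum + Multiset.card (p ::ₘ {q} : Multiset ℕ) = p + q + 2
      rw [Multiset.sum_cons, Multiset.sum_singleton, Multiset.card_cons, Multiset.card_singleton]
    rw [e]
    apply Even.neg_one_pow
    have h1 := hp.odd_of_ne_two hp2
    have h2 := hq.odd_of_ne_two hq2
    exact (h1.add_odd h2).add (by decide)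
  have hord : orderOf g = p * q := by
    rw [← lcm_cycleType, hg]
    show (p ::ₘ {q} : Multiset ℕ).lcm = p * q
    rw [Multiset.lcm_cons, Multiset.lcm_singleton, normalize_eq]
    exact Nat.Coprime.lcm_eq_mul ((Nat.coprime_primes hp hq).2 hpq)
  refine ⟨⟨g, mem_alternatingGroup.2 hsign⟩, ?_⟩
  rw [← hord]
  exact (Subgroup.orderOf_coe (⟨g, mem_alternatingGroup.2 hsign⟩ : alternatingGroup (Fin n))).symm

/-- an even permutation of order `2 q`, `q` an odd prime -/
lemma exists_order_two (n q : ℕ) (hq : q.Prime) (hq2 : q ≠ 2) (hle : q + 4 ≤ n) :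
    ∃ g : alternatingGroup (Fin n), orderOf g = 2 * q := by
  obtain ⟨g, hg⟩ := (exists_with_cycleType_iff (Fin n) (m := ({2, 2, q} : Multiset ℕ))).2 (by
    constructor
    · rw [Fintype.card_fin]
      show (2 ::ₘ 2 ::ₘ {q} : Multiset ℕ).sum ≤ n
      rw [Multiset.sum_cons, Multiset.sum_cons, Multiset.sum_singleton]; omega
    · intro a ha
      have : a = 2 ∨ a = 2 ∨ a = q := by
        simpa using ha
      rcases this with rfl | rfl | rfl
      · exact le_refl _
      · exact le_refl _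
      · exact hq.two_le)
  have hsign : sign g = 1 := by
    rw [sign_of_cycleType, hg]
    have e : ({2, 2, q} : Multiset ℕ).sum + Multiset.card ({2, 2, q} : Multiset ℕ) = q + 7 := by
      show (2 ::ₘ 2 ::ₘ {q} : Multiset ℕ).sum + Multiset.card (2 ::ₘ 2 ::ₘ {q} : Multiset ℕ) = q + 7
      rw [Multiset.sum_cons, Multiset.sum_cons, Multiset.sum_singleton, Multiset.card_cons,
        Multiset.card_cons, Multiset.card_singleton]
      omega
    rw [e]
    apply Even.neg_one_pow
    have h2 := hq.odd_of_ne_two hq2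
    exact h2.add_odd (by decide)
  have hord : orderOf g = 2 * q := by
    rw [← lcm_cycleType, hg]
    show (2 ::ₘ 2 ::ₘ {q} : Multiset ℕ).lcm = 2 * q
    rw [Multiset.lcm_cons, Multiset.lcm_cons, Multiset.lcm_singleton, normalize_eq]
    have h1 : Nat.lcm 2 q = 2 * q :=
      Nat.Coprime.lcm_eq_mul ((Nat.coprime_primes Nat.prime_two hq).2 (Ne.symm hq2))
    show Nat.lcm 2 (Nat.lcm 2 q) = 2 * q
    rw [h1]
    exact Nat.lcm_eq_right (Dvd.intro q rfl)
  refine ⟨⟨g, mem_alternatingGroup.2 hsign⟩, ?_⟩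
  rw [← hord]
  exact (Subgroup.orderOf_coe (⟨g, mem_alternatingGroup.2 hsign⟩ : alternatingGroup (Fin n))).symm

lemma conj_injective (n : ℕ) (hn : 5 ≤ n) : Function.Injective
    (MulAut.conj : alternatingGroup (Fin n) →* MulAut (alternatingGroup (Fin n))) := by
  rw [injective_iff_map_eq_one]
  intro g hg
  have hc : g ∈ Subgroup.center (alternatingGroup (Fin n)) := by
    rw [Subgroup.mem_center_iff]
    intro x
    have h1 := congrArg (fun f : MulAut (alternatingGroup (Fin n)) => f x) hg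
    simp only [MulAut.conj_apply, MulAut.one_apply] at h1
    calc x * g = (g * x * g⁻¹) * g := by rw [h1]
      _ = g * x := by group
  rw [alternatingGroup.center_eq_bot (by rw [Nat.card_eq_fintype_card, Fintype.card_fin]; omega)] at hc
  exact Subgroup.mem_bot.1 hc

theorem result (n : ℕ) (hn : 5 ≤ n) (G : Subgroup (MulAut (alternatingGroup (Fin n))))
    (hG : (MulAut.conj : alternatingGroup (Fin n) →* MulAut (alternatingGroup (Fin n))).range ≤ G)
    (p q : ℕ) [Fact p.Prime] [Fact q.Prime] (hpq : p ≠ q) (h : ∀ g : G, orderOf g ≠ p * q) :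
    (∀ P : Sylow p G, IsMulCommutative (P : Subgroup G)) ∨ (∀ Q : Sylow q G, IsMulCommutative (Q : Subgroup G)) := by
  have hp : p.Prime := Fact.out
  have hq : q.Prime := Fact.out
  by_contra hcon
  rw [not_or, not_forall, not_forall] at hcon
  obtain ⟨⟨P, hP⟩, ⟨Q, hQ⟩⟩ := hcon
  -- an element of order `p q` in `A_n` gives a contradiction
  have key : ¬ ∃ g : alternatingGroup (Fin n), orderOf g = p * q := by
    rintro ⟨g, hg⟩
    apply h ⟨MulAut.conj g, hG ⟨g, rfl⟩⟩
    rw [← hg, ← orderOf_injective _ (conj_injective n hn) g]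
    exact (Subgroup.orderOf_coe (⟨MulAut.conj g, hG ⟨g, rfl⟩⟩ : G)).symm
  have hPn : p ≠ 2 → p ^ 2 ≤ n := by
    intro hp2
    by_contra hlt
    exact hP (sylow_comm hn G p hp2 (by omega) P)
  have hQn : q ≠ 2 → q ^ 2 ≤ n := by
    intro hq2
    by_contra hlt
    exact hQ (sylow_comm hn G q hq2 (by omega) Q)
  apply key
  by_cases hp2 : p = 2
  · have hq2 : q ≠ 2 := fun hq2 => hpq (hp2.trans hq2.symm)
    have h1 := hQn hq2
    have hq3 : 3 ≤ q := by have := hq.two_le; omega
    rw [hp2]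
    apply exists_order_two n q hq hq2
    nlinarith
  · by_cases hq2 : q = 2
    · have h1 := hPn hp2
      have hp3 : 3 ≤ p := by have := hp.two_le; omega
      rw [hq2, mul_comm]
      apply exists_order_two n p hp hp2
      nlinarith
    · have h1 := hPn hp2
      have h2 := hQn hq2
      have hp3 : 3 ≤ p := by have := hp.two_le; omega
      have hq3 : 3 ≤ q := by have := hq.two_le; omega
      apply exists_order_odd n p q hp hq hpq hp2 hq2
      nlinarith

end Final

end Part4

end Cfsg.Agent.S4231
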