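import Mathlib
import Cfsg.Statements.S3835
import Cfsg.Agent.S4231

set_option autoImplicit false
open Cfsg

namespace Cfsg.Agent.S3835


section Part0
open Cfsg Matrix

section Basic

variable {p : ℕ} [Fact p.Prime]

abbrev SL3 (p : ℕ) := Matrix.SpecialLinearGroup (Fin 3) (ZMod p)

/-- the last row of an element of `qd p` is `(0,0,1)` -/
lemma qd_row (g : SL3 p) (hg : g ∈ Cfsg.qd p) :
    (g : Matrix (Fin 3) (Fin 3) (ZMod p)) 2 0 = 0 ∧ (g : Matrix (Fin 3) (Fin 3) (ZMod p)) 2 1 = 0 ∧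
      (g : Matrix (Fin 3) (Fin 3) (ZMod p)) 2 2 = 1 := by
  unfold Cfsg.qd at hg
  induction hg using Subgroup.closure_induction with
  | mem x hx => exact hx
  | one => simp
  | mul x y _ _ hx hy =>
    obtain ⟨x0, x1, x2⟩ := hx
    obtain ⟨y0, y1, y2⟩ := hy
    refine ⟨?_, ?_, ?_⟩ <;>
    · rw [Matrix.SpecialLinearGroup.coe_mul, Matrix.mul_apply, Fin.sum_univ_three, x0, x1, x2]
      simp [y0, y1, y2]
  | inv x _ hx =>
    obtain ⟨x0, x1, x2⟩ := hx
    have h1 : (x : Matrix (Fin 3) (Fin 3) (ZMod p)) * ((x⁻¹ : SL3 p) : Matrix (Fin 3) (Fin 3) (ZMod p)) = 1 := by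
      rw [← Matrix.SpecialLinearGroup.coe_mul, mul_inv_cancel, Matrix.SpecialLinearGroup.coe_one]
    have h2 : ∀ j, ((x⁻¹ : SL3 p) : Matrix (Fin 3) (Fin 3) (ZMod p)) 2 j = (1 : Matrix (Fin 3) (Fin 3) (ZMod p)) 2 j := by
      intro j
      rw [← h1, Matrix.mul_apply, Fin.sum_univ_three, x0, x1, x2]
      simp
    refine ⟨?_, ?_, ?_⟩
    · rw [h2]; simp
    · rw [h2]; simp
    · rw [h2]; simp

lemma mem_qd_of_row (g : SL3 p) (h : (g : Matrix (Fin 3) (Fin 3) (ZMod p)) 2 0 = 0 ∧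
    (g : Matrix (Fin 3) (Fin 3) (ZMod p)) 2 1 = 0 ∧ (g : Matrix (Fin 3) (Fin 3) (ZMod p)) 2 2 = 1) :
    g ∈ Cfsg.qd p := Subgroup.subset_closure h

/-- transvections as elements of `SL3` -/
def tv (i j : Fin 3) (h : i ≠ j) (t : ZMod p) : SL3 p :=
  ⟨Matrix.transvection i j t, Matrix.det_transvection_of_ne i j h t⟩

lemma tv_coe (i j : Fin 3) (h : i ≠ j) (t : ZMod p) :
    ((tv i j h t : SL3 p) : Matrix (Fin 3) (Fin 3) (ZMod p)) = Matrix.transvection i j t := rfl

lemma tv_mul (i j : Fin 3) (h : i ≠ j) (s t : ZMod p) :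
    tv i j h s * tv i j h t = tv i j h (s + t) := by
  apply Subtype.ext
  rw [Matrix.SpecialLinearGroup.coe_mul, tv_coe, tv_coe, tv_coe,
    Matrix.transvection_mul_transvection_same _ _ h]

lemma tv_zero (i j : Fin 3) (h : i ≠ j) : tv i j h (0 : ZMod p) = 1 := by
  apply Subtype.ext
  rw [tv_coe, Matrix.transvection_zero]; rfl

lemma tv_pow (i j : Fin 3) (h : i ≠ j) (t : ZMod p) (k : ℕ) :
    (tv i j h t) ^ k = tv i j h ((k : ZMod p) * t) := by
  induction k with
  | zero => rw [pow_zero, Nat.cast_zero, zero_mul, tv_zero]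
  | succ k ih => rw [pow_succ, ih, tv_mul]; congr 1; push_cast; ring

lemma tv_pow_p (i j : Fin 3) (h : i ≠ j) (t : ZMod p) : (tv i j h t) ^ p = 1 := by
  rw [tv_pow, ZMod.natCast_self, zero_mul, tv_zero]

lemma tv_mem (i j : Fin 3) (h : i ≠ j) (hi : i ≠ 2) (t : ZMod p) : tv i j h t ∈ Cfsg.qd p := by
  apply mem_qd_of_row
  refine ⟨?_, ?_, ?_⟩ <;> simp [tv_coe, Matrix.transvection, Matrix.single_apply, hi]

end Basic

end Part0

section Part1
open Cfsg Matrix

section Action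

variable {p : ℕ} [Fact p.Prime]

/-- points of the affine plane: vectors with last coordinate 1 -/
def X (p : ℕ) := {w : Fin 3 → ZMod p // w 2 = 1}

noncomputable instance : Fintype (X p) := by
  classical
  unfold X
  haveI : NeZero p := ⟨(Fact.out : p.Prime).ne_zero⟩
  infer_instance

noncomputable instance : DecidableEq (X p) := Classical.decEq _

def Xequiv : X p ≃ ZMod p × ZMod p where
  toFun w := (w.1 0, w.1 1)
  invFun xy := ⟨![xy.1, xy.2, 1], by simp⟩
  left_inv w := by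
    apply Subtype.ext
    funext i
    fin_cases i
    · simp
    · simp
    · simp [w.2]
  right_inv xy := by simp

lemma card_X : Fintype.card (X p) = p ^ 2 := by
  haveI : NeZero p := ⟨(Fact.out : p.Prime).ne_zero⟩
  rw [Fintype.card_congr Xequiv, Fintype.card_prod, ZMod.card]; ring

def act (g : Cfsg.qd p) (w : X p) : X p :=
  ⟨((g : SL3 p) : Matrix (Fin 3) (Fin 3) (ZMod p)).mulVec w.1, by
    obtain ⟨h0, h1, h2⟩ := qd_row g.1 g.2
    rw [Matrix.mulVec, dotProduct, Fin.sum_univ_three, h0, h1, h2, w.2]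
    simp⟩

instance : MulAction (Cfsg.qd p) (X p) where
  smul := act
  one_smul w := Subtype.ext (by
    show ((1 : SL3 p) : Matrix (Fin 3) (Fin 3) (ZMod p)).mulVec w.1 = w.1
    simp)
  mul_smul g h w := Subtype.ext (by
    show (((g : SL3 p) * (h : SL3 p) : SL3 p) : Matrix (Fin 3) (Fin 3) (ZMod p)).mulVec w.1 =
      ((g : SL3 p) : Matrix (Fin 3) (Fin 3) (ZMod p)).mulVec
        (((h : SL3 p) : Matrix (Fin 3) (Fin 3) (ZMod p)).mulVec w.1)
    rw [Matrix.SpecialLinearGroup.coe_mul, Matrix.mulVec_mulVec])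

lemma smul_coe (g : Cfsg.qd p) (w : X p) :
    (g • w).1 = ((g : SL3 p) : Matrix (Fin 3) (Fin 3) (ZMod p)).mulVec w.1 := rfl

lemma act_faithful (g : Cfsg.qd p) (h : ∀ w : X p, g • w = w) : g = 1 := by
  apply Subtype.ext
  apply Subtype.ext
  set M : Matrix (Fin 3) (Fin 3) (ZMod p) := ((g : SL3 p) : Matrix (Fin 3) (Fin 3) (ZMod p)) with hM
  have e2 : M.mulVec ![0, 0, 1] = ![0, 0, 1] := congrArg Subtype.val (h ⟨![0, 0, 1], by simp⟩)
  have e0 : M.mulVec ![1, 0, 1] = ![1, 0, 1] := congrArg Subtype.val (h ⟨![1, 0, 1], by simp⟩)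
  have e1 : M.mulVec ![0, 1, 1] = ![0, 1, 1] := congrArg Subtype.val (h ⟨![0, 1, 1], by simp⟩)
  have c2 : ∀ i, M i 2 = ![0, 0, 1] i := by
    intro i
    have := congrFun e2 i
    simpa [Matrix.mulVec, dotProduct, Fin.sum_univ_three] using this
  have c0 : ∀ i, M i 0 = ![1, 0, 0] i := by
    intro i
    have := congrFun e0 i
    simp only [Matrix.mulVec, dotProduct, Fin.sum_univ_three] at this
    rw [c2 i] at this
    fin_cases i <;> simpa using this
  have c1 : ∀ i, M i 1 = ![0, 1, 0] i := by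
    intro i
    have := congrFun e1 i
    simp only [Matrix.mulVec, dotProduct, Fin.sum_univ_three] at this
    rw [c2 i] at this
    fin_cases i <;> simpa using this
  show M = ((1 : SL3 p) : Matrix (Fin 3) (Fin 3) (ZMod p))
  rw [Matrix.SpecialLinearGroup.coe_one]
  ext i j
  fin_cases j
  · show M i 0 = _
    rw [c0]; fin_cases i <;> simp
  · show M i 1 = _
    rw [c1]; fin_cases i <;> simp
  · show M i 2 = _
    rw [c2]; fin_cases i <;> simp

end Action

end Part1

section Part2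
open Cfsg Matrix

section Decomp

variable {p : ℕ} [Fact p.Prime]

lemma t01 (t : ZMod p) : Matrix.transvection (0 : Fin 3) 1 t = !![1, t, 0; 0, 1, 0; 0, 0, 1] := by
  ext i j; fin_cases i <;> fin_cases j <;> simp [Matrix.transvection]

lemma t10 (t : ZMod p) : Matrix.transvection (1 : Fin 3) 0 t = !![1, 0, 0; t, 1, 0; 0, 0, 1] := by
  ext i j; fin_cases i <;> fin_cases j <;> simp [Matrix.transvection]

lemma t02 (t : ZMod p) : Matrix.transvection (0 : Fin 3) 2 t = !![1, 0, t; 0, 1, 0; 0, 0, 1] := by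
  ext i j; fin_cases i <;> fin_cases j <;> simp [Matrix.transvection]

lemma t12 (t : ZMod p) : Matrix.transvection (1 : Fin 3) 2 t = !![1, 0, 0; 0, 1, t; 0, 0, 1] := by
  ext i j; fin_cases i <;> fin_cases j <;> simp [Matrix.transvection]

lemma decomp (M : Matrix (Fin 3) (Fin 3) (ZMod p)) (h0 : M 2 0 = 0) (h1 : M 2 1 = 0) (h2 : M 2 2 = 1)
    (hdet : M.det = 1) (hc : M 1 0 ≠ 0) :
    M = Matrix.transvection (0 : Fin 3) 1 ((M 0 0 - 1) / M 1 0) *
        Matrix.transvection (1 : Fin 3) 0 (M 1 0) *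
        Matrix.transvection (0 : Fin 3) 1 ((M 1 1 - 1) / M 1 0) *
        Matrix.transvection (0 : Fin 3) 2 (M 1 1 * M 0 2 - M 0 1 * M 1 2) *
        Matrix.transvection (1 : Fin 3) 2 (M 0 0 * M 1 2 - M 1 0 * M 0 2) := by
  have hd : M 0 0 * M 1 1 - M 0 1 * M 1 0 = 1 := by
    rw [Matrix.det_fin_three, h0, h1, h2] at hdet
    linear_combination hdet
  rw [t01, t10, t01, t02, t12]
  have hM := Matrix.eta_fin_three M
  rw [h0, h1, h2] at hM
  conv_lhs => rw [hM]
  simp only [Matrix.mul_fin_three]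
  generalize M 0 0 = a at *
  generalize M 0 1 = b at *
  generalize M 0 2 = x at *
  generalize M 1 0 = c at *
  generalize M 1 1 = d at *
  generalize M 1 2 = y at *
  ext i j
  fin_cases i <;> fin_cases j <;> simp <;> field_simp <;>
    first
    | ring1
    | linear_combination (-1 : ZMod p) * hd
    | linear_combination (-(a * y)) * hd
    | linear_combination (-y) * hd
  
end Decomp

end Part2

section Part3
open Cfsg Matrix

section Hom

variable {p : ℕ} [Fact p.Prime]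

/-- every homomorphism from `qd p` (`p` odd) to `ℤˣ` is trivial -/
lemma hom_trivial (hp2 : p ≠ 2) (s : Cfsg.qd p →* ℤˣ) (g : Cfsg.qd p) : s g = 1 := by
  have hodd : Odd p := (Fact.out : p.Prime).odd_of_ne_two hp2
  let K' : Subgroup (SL3 p) := s.ker.map (Cfsg.qd p).subtype
  have hK' : ∀ x : SL3 p, x ∈ K' ↔ ∃ hx : x ∈ Cfsg.qd p, s ⟨x, hx⟩ = 1 := by
    intro x; constructor
    · rintro ⟨y, hy, rfl⟩; exact ⟨y.2, MonoidHom.mem_ker.1 hy⟩
    · rintro ⟨hx, h⟩; exact ⟨⟨x, hx⟩, MonoidHom.mem_ker.2 h, rfl⟩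
  have htv : ∀ (i j : Fin 3) (h : i ≠ j) (hi : i ≠ 2) (t : ZMod p), tv i j h t ∈ K' := by
    intro i j h hi t
    rw [hK']
    refine ⟨tv_mem i j h hi t, ?_⟩
    have h1 : (⟨tv i j h t, tv_mem i j h hi t⟩ : Cfsg.qd p) ^ p = 1 :=
      Subtype.ext (by rw [Subgroup.coe_pow]; exact tv_pow_p i j h t)
    have h2 : (s ⟨tv i j h t, tv_mem i j h hi t⟩) ^ p = 1 := by rw [← map_pow, h1, map_one]
    rcases Int.units_eq_one_or (s ⟨tv i j h t, tv_mem i j h hi t⟩) with h3 | h3
    · exact h3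
    · rw [h3, hodd.neg_one_pow] at h2; exact absurd h2 (by decide)
  have hmain : ∀ x : SL3 p, x ∈ Cfsg.qd p →
      (x : Matrix (Fin 3) (Fin 3) (ZMod p)) 1 0 ≠ 0 → x ∈ K' := by
    intro x hx hc
    obtain ⟨h0, h1, h2⟩ := qd_row x hx
    have e : x = tv 0 1 (by decide) ((x.1 0 0 - 1) / x.1 1 0) * tv 1 0 (by decide) (x.1 1 0) *
        tv 0 1 (by decide) ((x.1 1 1 - 1) / x.1 1 0) *
        tv 0 2 (by decide) (x.1 1 1 * x.1 0 2 - x.1 0 1 * x.1 1 2) *
        tv 1 2 (by decide) (x.1 0 0 * x.1 1 2 - x.1 1 0 * x.1 0 2) :=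
      Subtype.ext (decomp x.1 h0 h1 h2 x.2 hc)
    rw [e]
    exact K'.mul_mem (K'.mul_mem (K'.mul_mem (K'.mul_mem
      (htv 0 1 (by decide) (by decide) _) (htv 1 0 (by decide) (by decide) _))
      (htv 0 1 (by decide) (by decide) _)) (htv 0 2 (by decide) (by decide) _))
      (htv 1 2 (by decide) (by decide) _)
  have hall : ∀ x : SL3 p, x ∈ Cfsg.qd p → x ∈ K' := by
    intro x hx
    by_cases hc : (x : Matrix (Fin 3) (Fin 3) (ZMod p)) 1 0 = 0
    · have hx' : x * tv 1 0 (by decide) 1 ∈ Cfsg.qd p :=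
        mul_mem hx (tv_mem 1 0 (by decide) (by decide) 1)
      obtain ⟨h0, h1, h2⟩ := qd_row x hx
      have hd : x.1 0 0 * x.1 1 1 = 1 := by
        have := x.2
        rw [Matrix.det_fin_three, h0, h1, h2, hc] at this
        linear_combination this
      have hc' : ((x * tv 1 0 (by decide) 1 : SL3 p) : Matrix (Fin 3) (Fin 3) (ZMod p)) 1 0 ≠ 0 := by
        rw [Matrix.SpecialLinearGroup.coe_mul, tv_coe, t10, Matrix.mul_apply, Fin.sum_univ_three]
        simp only [Matrix.of_apply, Matrix.cons_val', Matrix.cons_val_zero, Matrix.cons_val_one,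
          Matrix.cons_val_two, Matrix.cons_val_fin_one]
        intro h
        have h' : x.1 1 1 = 0 := by
          have : x.1 1 0 = 0 := hc
          simp [this] at h
          exact h
        rw [h', mul_zero] at hd
        exact zero_ne_one hd
      have h3 := hmain _ hx' hc'
      have h4 : x = (x * tv 1 0 (by decide) 1) * (tv 1 0 (by decide) 1)⁻¹ := by group
      rw [h4]
      exact K'.mul_mem h3 (K'.inv_mem (htv 1 0 (by decide) (by decide) 1))
    · exact hmain x hx hc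
  obtain ⟨_, h⟩ := (hK' g.1).1 (hall g.1 g.2)
  exact h

end Hom

end Part3

section Part4
open Cfsg Matrix

section Embed

variable {p : ℕ} [Fact p.Prime]

lemma exists_embed (hp2 : p ≠ 2) (n : ℕ) (hn : p ^ 2 ≤ n) :
    ∃ H : Subgroup (alternatingGroup (Fin n)), Nonempty (↥H ≃* ↥(Cfsg.qd p)) := by
  classical
  have hcard : Fintype.card (X p) ≤ Fintype.card (Fin n) := by
    rw [card_X, Fintype.card_fin]; exact hn
  obtain ⟨ι⟩ := Function.Embedding.nonempty_of_card_le hcard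
  let φ : Cfsg.qd p →* Equiv.Perm (X p) := MulAction.toPermHom _ _
  have hφ : Function.Injective φ := by
    rw [injective_iff_map_eq_one]
    intro g hg
    apply act_faithful
    intro w
    have := congrArg (fun f : Equiv.Perm (X p) => f w) hg
    exact this
  let ψ : Cfsg.qd p →* Equiv.Perm (Fin n) := (Equiv.Perm.viaEmbeddingHom ι).comp φ
  have hψ : Function.Injective ψ := (Equiv.Perm.viaEmbeddingHom_injective ι).comp hφ
  have hsign : ∀ g, ψ g ∈ alternatingGroup (Fin n) := by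
    intro g
    rw [Equiv.Perm.mem_alternatingGroup]
    exact hom_trivial hp2 (Equiv.Perm.sign.comp ψ) g
  let ψ' : Cfsg.qd p →* alternatingGroup (Fin n) := ψ.codRestrict _ hsign
  have hψ' : Function.Injective ψ' := by
    intro a b hab
    apply hψ
    exact congrArg Subtype.val hab
  exact ⟨ψ'.range, ⟨(MonoidHom.ofInjective hψ').symm⟩⟩

end Embed

end Part4

section Part5
open Cfsg Matrix

section UT

variable {p : ℕ} [Fact p.Prime]

/-- unitriangular matrices -/
def IsUT (M : Matrix (Fin 3) (Fin 3) (ZMod p)) : Prop :=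
  M 1 0 = 0 ∧ M 2 0 = 0 ∧ M 2 1 = 0 ∧ M 0 0 = 1 ∧ M 1 1 = 1 ∧ M 2 2 = 1

lemma isUT_eq (M : Matrix (Fin 3) (Fin 3) (ZMod p)) (h : IsUT M) :
    M = !![1, M 0 1, M 0 2; 0, 1, M 1 2; 0, 0, 1] := by
  obtain ⟨h10, h20, h21, h00, h11, h22⟩ := h
  conv_lhs => rw [Matrix.eta_fin_three M, h10, h20, h21, h00, h11, h22]

lemma isUT_of (u v w : ZMod p) : IsUT (!![1, u, v; 0, 1, w; 0, 0, 1] : Matrix (Fin 3) (Fin 3) (ZMod p)) := by
  refine ⟨?_, ?_, ?_, ?_, ?_, ?_⟩ <;> simp

lemma isUT_mul (M N : Matrix (Fin 3) (Fin 3) (ZMod p)) (hM : IsUT M) (hN : IsUT N) : IsUT (M * N) := by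
  rw [isUT_eq M hM, isUT_eq N hN, Matrix.mul_fin_three]
  simp only [mul_one, mul_zero, add_zero, zero_add, one_mul, zero_mul]
  exact isUT_of _ _ _

lemma isUT_pow_p (hp2 : p ≠ 2) (M : Matrix (Fin 3) (Fin 3) (ZMod p)) (hM : IsUT M) : M ^ p = 1 := by
  have hp3 : 3 ≤ p := by
    have := (Fact.out : p.Prime).two_le
    omega
  set N : Matrix (Fin 3) (Fin 3) (ZMod p) := !![0, M 0 1, M 0 2; 0, 0, M 1 2; 0, 0, 0] with hN
  have e : M = 1 + N := by
    conv_lhs => rw [isUT_eq M hM]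
    rw [hN, Matrix.one_fin_three]
    ext i j
    fin_cases i <;> fin_cases j <;> simp
  have hN3 : N ^ 3 = 0 := by
    rw [pow_succ, pow_two, hN, Matrix.mul_fin_three, Matrix.mul_fin_three]
    ext i j
    fin_cases i <;> fin_cases j <;> simp
  have hNp : N ^ p = 0 := by
    obtain ⟨k, hk⟩ : ∃ k, p = 3 + k := ⟨p - 3, by omega⟩
    calc N ^ p = N ^ (3 + k) := congrArg (fun m => N ^ m) hk
      _ = 0 := by rw [pow_add, hN3, zero_mul]
  rw [e, add_pow_char_of_commute (p := p) (h := Commute.one_left N), one_pow, hNp, add_zero]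

end UT

end Part5

section Part6
open Cfsg Matrix

section NotInv

variable {p : ℕ} [Fact p.Prime]

lemma isUT_one : IsUT (1 : Matrix (Fin 3) (Fin 3) (ZMod p)) := by
  refine ⟨?_, ?_, ?_, ?_, ?_, ?_⟩ <;> simp

lemma isUT_tv01 (t : ZMod p) : IsUT (Matrix.transvection (0 : Fin 3) 1 t) := by
  rw [t01]; exact isUT_of _ _ _

lemma isUT_tv12 (t : ZMod p) : IsUT (Matrix.transvection (1 : Fin 3) 2 t) := by
  rw [t12]; exact isUT_of _ _ _

/-- every element of the closure of the two transvections is unitriangular of `p`-power order. -/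
lemma closure_isUT (g : SL3 p)
    (hg : g ∈ Subgroup.closure ({tv 0 1 (by decide) 1, tv 1 2 (by decide) 1} : Set (SL3 p))) :
    IsUT (g : Matrix (Fin 3) (Fin 3) (ZMod p)) := by
  -- the closure equals the monoid closure since the generators have finite order; we use
  -- induction with inverses handled through the explicit form
  induction hg using Subgroup.closure_induction with
  | mem x hx =>
    rcases hx with rfl | rfl
    · exact isUT_tv01 1
    · exact isUT_tv12 1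
  | one => exact isUT_one
  | mul x y _ _ hx hy =>
    rw [Matrix.SpecialLinearGroup.coe_mul]; exact isUT_mul _ _ hx hy
  | inv x _ hx =>
    rw [Matrix.SpecialLinearGroup.coe_inv, Matrix.adjugate_fin_three]
    obtain ⟨h10, h20, h21, h00, h11, h22⟩ := hx
    refine ⟨?_, ?_, ?_, ?_, ?_, ?_⟩ <;> simp [h10, h20, h21, h00, h11, h22]

lemma ab_ne : tv 0 1 (by decide) (1 : ZMod p) * tv 1 2 (by decide) 1 ≠
    tv 1 2 (by decide) 1 * tv 0 1 (by decide) 1 := by
  intro h
  have h1 := congrArg (fun g : SL3 p => (g : Matrix (Fin 3) (Fin 3) (ZMod p)) 0 2) h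
  simp only [Matrix.SpecialLinearGroup.coe_mul, tv_coe, t01, t12, Matrix.mul_fin_three] at h1
  simp at h1

end NotInv

end Part6

section Part7
open Cfsg Matrix
open scoped Pointwise

section Final

variable {p : ℕ} [Fact p.Prime]

lemma not_involves (hp2 : p ≠ 2) (n : ℕ) (hn : n < p ^ 2) :
    ¬ Cfsg.Involves ↥(Cfsg.qd p) ↥(alternatingGroup (Fin n)) := by
  classical
  rintro ⟨K, R, hN, ⟨θ⟩⟩
  let S : Sylow p K := default
  have hScomm : ∀ x y : K, x ∈ S → y ∈ S → x * y = y * x := by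
    intro x y hx hy
    let R₀ : Subgroup (Equiv.Perm (Fin n)) :=
      ((S : Subgroup K).map K.subtype).map (alternatingGroup (Fin n)).subtype
    have hR₀ : IsPGroup p R₀ := (S.isPGroup'.map _).map _
    have := Cfsg.Agent.S4231.pgroup_perm_comm R₀ hR₀ (by rw [Fintype.card_fin]; exact hn)
      ((x : alternatingGroup (Fin n)) : Equiv.Perm (Fin n))
      ((y : alternatingGroup (Fin n)) : Equiv.Perm (Fin n))
      ⟨(x : alternatingGroup (Fin n)), ⟨x, hx, rfl⟩, rfl⟩
      ⟨(y : alternatingGroup (Fin n)), ⟨y, hy, rfl⟩, rfl⟩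
    apply Subtype.ext; apply Subtype.ext; exact this
  let f : K →* Cfsg.qd p := θ.toMonoidHom.comp (QuotientGroup.mk' (R.subgroupOf K))
  have hf : Function.Surjective f := θ.surjective.comp (QuotientGroup.mk'_surjective _)
  let P' : Sylow p (Cfsg.qd p) := S.mapSurjective hf
  have hP'comm : ∀ x y : Cfsg.qd p, x ∈ P' → y ∈ P' → x * y = y * x := by
    intro x y hx hy
    have hx' : x ∈ (S : Subgroup K).map f := hx
    have hy' : y ∈ (S : Subgroup K).map f := hy
    obtain ⟨s, hs, rfl⟩ := hx'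
    obtain ⟨t, ht, rfl⟩ := hy'
    rw [← map_mul, ← map_mul, hScomm s t hs ht]
  let U : Subgroup (SL3 p) :=
    Subgroup.closure ({tv 0 1 (by decide) 1, tv 1 2 (by decide) 1} : Set (SL3 p))
  have hUle : U ≤ Cfsg.qd p := by
    apply (Subgroup.closure_le _).2
    rintro x (rfl | rfl)
    · exact tv_mem 0 1 (by decide) (by decide) 1
    · exact tv_mem 1 2 (by decide) (by decide) 1
  have hUp : IsPGroup p U := by
    intro g
    refine ⟨1, ?_⟩
    rw [pow_one]
    apply Subtype.ext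
    apply Subtype.ext
    rw [Subgroup.coe_pow, Matrix.SpecialLinearGroup.coe_pow]
    exact isUT_pow_p hp2 _ (closure_isUT g.1 g.2)
  let U' : Subgroup (Cfsg.qd p) := U.subgroupOf (Cfsg.qd p)
  have hU'p : IsPGroup p U' := hUp.comap_subtype
  obtain ⟨P, hP⟩ := hU'p.exists_le_sylow
  obtain ⟨g, hg⟩ := MulAction.exists_smul_eq (Cfsg.qd p) P' P
  have hPcomm : ∀ x y : Cfsg.qd p, x ∈ P → y ∈ P → x * y = y * x := by
    intro x y hx hy
    rw [← hg] at hx hy
    have hx' : x ∈ MulAut.conj g • (P' : Subgroup (Cfsg.qd p)) := hx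
    have hy' : y ∈ MulAut.conj g • (P' : Subgroup (Cfsg.qd p)) := hy
    obtain ⟨s, hs, rfl⟩ := (Subgroup.mem_smul_pointwise_iff_exists _ _ _).1 hx'
    obtain ⟨t, ht, rfl⟩ := (Subgroup.mem_smul_pointwise_iff_exists _ _ _).1 hy'
    rw [MulAut.smul_def, MulAut.smul_def, ← map_mul, ← map_mul, hP'comm s t hs ht]
  have ha : (⟨tv 0 1 (by decide) 1, tv_mem 0 1 (by decide) (by decide) 1⟩ : Cfsg.qd p) ∈ P :=
    hP (Subgroup.mem_subgroupOf.2 (Subgroup.subset_closure (by simp)))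
  have hb : (⟨tv 1 2 (by decide) 1, tv_mem 1 2 (by decide) (by decide) 1⟩ : Cfsg.qd p) ∈ P :=
    hP (Subgroup.mem_subgroupOf.2 (Subgroup.subset_closure (by simp)))
  have := hPcomm _ _ ha hb
  exact ab_ne (congrArg Subtype.val this)

theorem result {p : ℕ} [Fact p.Prime] (hp : p ≠ 2) (n : ℕ) : ((∃ H : Subgroup (alternatingGroup (Fin n)), Nonempty (↥H ≃* ↥(Cfsg.qd p))) ↔ p ^ 2 ≤ n) ∧ (n < p ^ 2 → ¬ Cfsg.Involves ↥(Cfsg.qd p) ↥(alternatingGroup (Fin n))) := by
  refine ⟨⟨?_, exists_embed hp n⟩, not_involves hp n⟩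
  rintro ⟨H, ⟨e⟩⟩
  by_contra hlt
  apply not_involves hp n (by omega)
  refine ⟨H, ⊥, inferInstance, ⟨?_⟩⟩
  have e1 : (⊥ : Subgroup (alternatingGroup (Fin n))).subgroupOf H = ⊥ := by
    exact Subgroup.bot_subgroupOf H
  exact (QuotientGroup.quotientMulEquivOfEq e1).trans (QuotientGroup.quotientBot.trans e)

end Final

end Part7

end Cfsg.Agent.S3835
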