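import Cfsg.Statements.S3857
import Mathlib
import Cfsg.Prelude.Def_Solvable
import Cfsg.Prelude.Def_OddOrderLocal
import Cfsg.Agent.Lib.Lead.PiCore
import Cfsg.Agent.H2.FrobComplCenter
import Cfsg.Agent.H2.FrobeniusInternal
import Cfsg.Agent.H1.Cores
import Cfsg.Agent.S0044
import Cfsg.Agent.H1.GruenbergKegel

set_option autoImplicit false
open Cfsg

namespace Cfsg.Agent.S3857

set_option maxHeartbeats 800000
open H1

/-- A finite solvable group whose prime graph (prime divisors of the order, two distinct primes joined when there is an element of order their product) is disconnected is a Frobenius group or a 2-Frobenius group (it has normal subgroups H < K with K a Frobenius group with kernel H and G/H a Frobenius group with kernel K/H). -/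
theorem result {G : Type*} [Group G] [Finite G] (hsol : Group.IsSolvable G)
    (hdisc : (∃ A : Set ℕ, (∃ a ∈ A, a.Prime ∧ a ∣ Nat.card G) ∧ (∃ b ∉ A, b.Prime ∧ b ∣ Nat.card G) ∧
      ∀ a ∈ A, ∀ b ∉ A, a.Prime → b.Prime → a ∣ Nat.card G → b ∣ Nat.card G → ¬ ∃ g : G, orderOf g = a * b)) :
    (∃ C : Subgroup G, Cfsg.IsFrobeniusComplement C) ∨
    (∃ (H K : Subgroup G) (_ : H.Normal), K.Normal ∧ H < K ∧
      (∃ C : Subgroup ↥K, Cfsg.IsFrobeniusComplement C ∧ Cfsg.frobeniusKernel C = (H.subgroupOf K : Set ↥K)) ∧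
      (∃ C : Subgroup (G ⧸ H), Cfsg.IsFrobeniusComplement C ∧ Cfsg.frobeniusKernel C = (K.map (QuotientGroup.mk' H) : Set (G ⧸ H)))) := by
  obtain ⟨A, ⟨a, haA, hap, hadvd⟩, ⟨b, hbA, hbp, hbdvd⟩, hno⟩ := hdisc
  haveI := hsol
  have hNC : NoAB A G := by
    rintro a' ha' b' hb' hap' hbp' ⟨g, hg⟩
    have h1 : a' * b' ∣ Nat.card G := hg ▸ orderOf_dvd_natCard g
    exact hno a' ha' b' hb' hap' hbp' (dvd_trans (dvd_mul_right _ _) h1)
      (dvd_trans (dvd_mul_left _ _) h1) ⟨g, hg⟩
  haveI : Nontrivial G := by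
    rw [← Finite.one_lt_card_iff_nontrivial]
    exact lt_of_lt_of_le hap.one_lt (Nat.le_of_dvd Nat.card_pos hadvd)
  obtain ⟨q, hq, hq1⟩ := exists_pCore_ne_bot G
  haveI := Fact.mk hq
  by_cases hqA : q ∈ A
  · apply gk_main hsol A hNC
    · intro hbot
      apply hq1
      rw [eq_bot_iff, ← hbot]
      exact Cfsg.Agent.Lib.Lead.PiCore.le_piCore inferInstance
        (isPiNat_of_isPGroup hq hqA (pCore_isPGroup q))
    · intro h
      exact hbA (h b hbp hbdvd)
  · apply gk_main hsol Aᶜ hNC.compl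
    · intro hbot
      apply hq1
      rw [eq_bot_iff, ← hbot]
      exact Cfsg.Agent.Lib.Lead.PiCore.le_piCore inferInstance
        (isPiNat_of_isPGroup hq hqA (pCore_isPGroup q))
    · intro h
      exact (h a hap hadvd) haA

end Cfsg.Agent.S3857
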