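import Cfsg.Statements.S3858
import Mathlib
import Cfsg.Agent.H1.SylowMore
import Cfsg.Agent.H1.ConjMap
import Cfsg.Agent.H1.SylowUniqueMax

set_option autoImplicit false
open Cfsg

namespace Cfsg.Agent.S3858

set_option autoImplicit false
open H1

/-- Let G be a finite group with a normal non-abelian simple subgroup T whose centralizer is trivial (G almost simple with socle T), r a prime and R a Sylow r-subgroup of G meeting T nontrivially. Then R lies in exactly one maximal subgroup of G if and only if G has exactly one conjugacy class of maximal subgroups whose index is prime to r. -/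
theorem result {G : Type*} [Group G] [Finite G] (T : Subgroup G) [T.Normal] (hT : IsSimpleGroup T) (hna : ¬ IsMulCommutative T)
    (hC : Subgroup.centralizer (T : Set G) = ⊥) {r : ℕ} [Fact r.Prime] (R : Sylow r G) (hR0 : (R : Subgroup G) ⊓ T ≠ ⊥) :
    (∃! M : Subgroup G, IsCoatom M ∧ (R : Subgroup G) ≤ M) ↔
      ((∃ M : Subgroup G, IsCoatom M ∧ ¬ r ∣ M.index) ∧
        ∀ M₁ M₂ : Subgroup G, IsCoatom M₁ → ¬ r ∣ M₁.index → IsCoatom M₂ → ¬ r ∣ M₂.index → ∃ g : G, M₂ = M₁.map (MulAut.conj g).toMonoidHom) := by
  apply sylow_unique_coatom_iff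
  intro hN
  haveI hRn : (R : Subgroup G).Normal := Subgroup.normalizer_eq_top_iff.1 hN
  haveI : ((R : Subgroup G).subgroupOf T).Normal := Subgroup.normal_subgroupOf
  rcases hT.eq_bot_or_eq_top_of_normal ((R : Subgroup G).subgroupOf T) inferInstance with h | h
  · apply hR0
    rw [Subgroup.subgroupOf_eq_bot] at h
    exact h.eq_bot
  · rw [Subgroup.subgroupOf_eq_top] at h
    apply hna
    exact isMulCommutative_of_simple_of_pgroup hT (R.isPGroup'.to_le h)

end Cfsg.Agent.S3858
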