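import Cfsg.Statements.S3859
import Mathlib
import Cfsg.Agent.Lib.Helper7.SylowLib

set_option autoImplicit false
open Cfsg

namespace Cfsg.Agent.S3859



/-- Let G be a finite group with a normal non-abelian simple subgroup T whose centralizer is trivial (G almost simple with socle T), r a prime and R a Sylow r-subgroup of G meeting T nontrivially. If R lies in exactly one maximal subgroup of G, then G/T is an r-group. -/
theorem result {G : Type*} [Group G] [Finite G] (T : Subgroup G) [T.Normal] (hT : IsSimpleGroup T) (hna : ¬ IsMulCommutative T)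
    (hC : Subgroup.centralizer (T : Set G) = ⊥) {r : ℕ} [Fact r.Prime] (R : Sylow r G) (hR0 : (R : Subgroup G) ⊓ T ≠ ⊥)
    (huniq : ∃! M : Subgroup G, IsCoatom M ∧ (R : Subgroup G) ≤ M) : IsPGroup r (G ⧸ T) := by

  classical
  set Q : Subgroup G := (R : Subgroup G) ⊓ T with hQdef
  have hQT : Q ≤ T := inf_le_right
  have hnT : (⊤ : Subgroup G) ≤ Subgroup.normalizer (T : Set G) := by
    rw [Subgroup.normalizer_eq_top]
  have hQsyl : Cfsg.Agent.Lib.Helper7.IsSylowIn r Q T :=
    Cfsg.Agent.Lib.Helper7.IsSylowIn.inf_normal (Cfsg.Agent.Lib.Helper7.IsSylowIn.of_sylow_top R) T le_top hnT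
  obtain ⟨S, hS⟩ := hQsyl.exists_sylow
  have hfr := Sylow.normalizer_sup_eq_top S
  have hmap : (S : Subgroup T).map T.subtype = Q := by
    rw [hS, Subgroup.subgroupOf_map_subtype, inf_of_le_left hQT]
  rw [hmap] at hfr
  -- R normalizes Q
  have hRN : (R : Subgroup G) ≤ Subgroup.normalizer (Q : Set G) := by
    intro x hx
    rw [Subgroup.mem_normalizer_iff]
    intro h
    constructor
    · intro hh
      exact ⟨(R : Subgroup G).mul_mem ((R : Subgroup G).mul_mem hx hh.1) ((R : Subgroup G).inv_mem hx),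
        Subgroup.Normal.conj_mem inferInstance h hh.2 x⟩
    · intro hh
      have e : h = x⁻¹ * (x * h * x⁻¹) * x⁻¹⁻¹ := by group
      rw [e]
      exact ⟨(R : Subgroup G).mul_mem ((R : Subgroup G).mul_mem ((R : Subgroup G).inv_mem hx) hh.1)
        ((R : Subgroup G).inv_mem ((R : Subgroup G).inv_mem hx)),
        Subgroup.Normal.conj_mem inferInstance _ hh.2 x⁻¹⟩
  -- the normalizer of Q is proper
  have hNne : Subgroup.normalizer (Q : Set G) ≠ ⊤ := by
    intro htop
    have hQn : Q.Normal := Subgroup.normalizer_eq_top_iff.mp htop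
    have hQn' : (Q.subgroupOf T).Normal := inferInstance
    rcases hQn'.eq_bot_or_eq_top with h | h
    · apply hR0
      rw [Subgroup.subgroupOf_eq_bot, disjoint_iff, inf_of_le_left hQT] at h
      exact h
    · rw [Subgroup.subgroupOf_eq_top] at h
      -- T ≤ Q ≤ R so T is an r-group
      have hTR : T ≤ (R : Subgroup G) := h.trans inf_le_left
      have hTp : IsPGroup r T := R.isPGroup'.to_le hTR
      haveI : Nontrivial T := hT.toNontrivial
      haveI := hTp.center_nontrivial
      have hcn : (Subgroup.center T).Normal := inferInstance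
      rcases hcn.eq_bot_or_eq_top with hc | hc
      · exact (Subgroup.nontrivial_iff_ne_bot _).mp inferInstance hc
      · apply hna
        refine ⟨⟨fun a b => ?_⟩⟩
        have hb : b ∈ Subgroup.center T := by rw [hc]; trivial
        exact (Subgroup.mem_center_iff.mp hb a)
  obtain ⟨M, ⟨hMco, hRM⟩, hMuniq⟩ := huniq
  have hcoat : ∀ K : Subgroup G, (R : Subgroup G) ≤ K → K ≠ ⊤ → K ≤ M := by
    intro K hRK hK
    rcases IsCoatomic.eq_top_or_exists_le_coatom K with h | ⟨M', hM', hKM'⟩
    · exact absurd h hK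
    · have := hMuniq M' ⟨hM', hRK.trans hKM'⟩
      rw [← this]; exact hKM'
  have hNM : Subgroup.normalizer (Q : Set G) ≤ M := hcoat _ hRN hNne
  have hMT : M ⊔ T = ⊤ := by
    rw [eq_top_iff, ← hfr]
    exact sup_le_sup_right hNM T
  have hRT : (R : Subgroup G) ⊔ T = ⊤ := by
    by_contra hne
    have h1 : (R : Subgroup G) ⊔ T ≤ M := hcoat _ le_sup_left hne
    have h2 : T ≤ M := le_sup_right.trans h1
    rw [sup_of_le_left h2] at hMT
    exact hMco.1 hMT
  -- the quotient is an r-group
  intro x
  obtain ⟨g, rfl⟩ := QuotientGroup.mk_surjective x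
  have hg : g ∈ (R : Subgroup G) ⊔ T := by rw [hRT]; trivial
  rw [← SetLike.mem_coe, Subgroup.mul_normal] at hg
  obtain ⟨a, ha, b, hb, rfl⟩ := hg
  obtain ⟨k, hk⟩ := R.isPGroup' ⟨a, ha⟩
  refine ⟨k, ?_⟩
  have h1 : ((a * b : G) : G ⧸ T) = ((a : G) : G ⧸ T) := by
    rw [QuotientGroup.mk_mul, (QuotientGroup.eq_one_iff b).mpr hb, mul_one]
  rw [h1, ← QuotientGroup.mk_pow]
  have h2 : a ^ r ^ k = 1 := by
    have := congrArg Subtype.val hk
    simpa using this
  rw [h2]; rfl

end Cfsg.Agent.S3859
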