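import Cfsg.Statements.S3861
import Mathlib
import Cfsg.Agent.H1.Basic
import Cfsg.Agent.H1.SylowMore
import Cfsg.Agent.H1.SylowTwoNormal

set_option autoImplicit false
open Cfsg

namespace Cfsg.Agent.S3861

open Cfsg.Agent.H1
open scoped Pointwise commutatorElement

/-- A finite group G has no non-identity element of odd order that is conjugate to its inverse if and only if the Sylow 2-subgroups of G are normal. -/
theorem result {G : Type*} [Group G] [Finite G] (P : Sylow 2 G) : (∀ x : G, x ≠ 1 → Odd (orderOf x) → ¬ IsConj x x⁻¹) ↔ (P : Subgroup G).Normal := by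
  haveI : Fact (Nat.Prime 2) := ⟨Nat.prime_two⟩
  constructor
  · intro hreal
    apply sylow_two_normal_of_no_inversion
    intro u h _ hodd huh
    by_contra h1
    exact hreal h h1 hodd (isConj_iff.mpr ⟨u, huh⟩)
  · intro hP x hx1 hxodd hconj
    obtain ⟨g, hg⟩ := isConj_iff.mp hconj
    obtain ⟨k, m, hm, hkm⟩ := Nat.exists_eq_two_pow_mul_odd (orderOf_pos g).ne'
    have hu : g ^ m * x * (g ^ m)⁻¹ = x⁻¹ := conj_pow_odd_inverts g x hg m hm
    have hm0 : m ≠ 0 := by rintro rfl; exact absurd hm (by decide)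
    have huord : orderOf (g ^ m) = 2 ^ k := by
      rw [orderOf_pow_of_dvd hm0 (Dvd.intro_left _ hkm.symm), hkm, Nat.mul_div_cancel _ (Nat.pos_of_ne_zero hm0)]
    have huP : g ^ m ∈ (P : Subgroup G) := by
      have h2 : IsPGroup 2 (Subgroup.zpowers (g ^ m)) := IsPGroup.of_card (n := k) (by rw [Nat.card_zpowers, huord])
      obtain ⟨Q, hQ⟩ := h2.exists_le_sylow
      obtain ⟨a, ha⟩ := MulAction.exists_smul_eq G P Q
      haveI := hP
      rw [Sylow.smul_eq_of_normal] at ha
      rw [ha]; exact hQ (Subgroup.mem_zpowers _)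
    have hx2 : x * x ∈ (P : Subgroup G) := by
      have e : x * x = (x * g ^ m * x⁻¹) * (g ^ m)⁻¹ := by
        have : g ^ m * x⁻¹ * (g ^ m)⁻¹ = x := by
          calc g ^ m * x⁻¹ * (g ^ m)⁻¹ = (g ^ m * x * (g ^ m)⁻¹)⁻¹ := by group
            _ = x := by rw [hu, inv_inv]
        calc x * x = x * (g ^ m * x⁻¹ * (g ^ m)⁻¹) := by rw [this]
          _ = _ := by group
      rw [e]
      exact mul_mem (hP.conj_mem _ huP x) (inv_mem huP)
    -- x * x has odd order and lies in a 2-group
    obtain ⟨j, hj⟩ := P.isPGroup' ⟨x * x, hx2⟩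
    have hj' : (x * x) ^ 2 ^ j = 1 := by
      have := congrArg Subtype.val hj
      simpa using this
    have hpow : x ^ (2 ^ (j + 1)) = 1 := by
      rw [pow_succ', pow_mul, pow_two]; exact hj'
    have hd : orderOf x ∣ 2 ^ (j + 1) := orderOf_dvd_of_pow_eq_one hpow
    obtain ⟨i, -, hi⟩ := (Nat.dvd_prime_pow Nat.prime_two).mp hd
    rcases Nat.eq_zero_or_pos i with rfl | hipos
    · rw [pow_zero, orderOf_eq_one_iff] at hi; exact hx1 hi
    · rw [hi] at hxodd
      exact (Nat.not_even_iff_odd.mpr hxodd) ((Nat.even_pow' hipos.ne').mpr even_two)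

end Cfsg.Agent.S3861
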