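import Cfsg.Statements.S3862
import Mathlib
import Cfsg.Agent.Lib.Lead.OmegaFaithful
import Cfsg.Agent.Lib.Lead.NormalPComplement
import Cfsg.Agent.S0132

set_option autoImplicit false
open Cfsg

namespace Cfsg.Agent.S3862

open Cfsg Cfsg.Agent.Lib.Lead.OmegaFaithful Cfsg.Agent.Lib.Lead.NormalPComplement
open scoped commutatorElement Pointwise

/-- the minimal configuration is impossible -/
theorem minimal_case {G : Type*} [Group G] [Finite G]
    (h : ∀ x : G, (∃ j : ℕ, orderOf x = 2 ^ j) → IsConj x x⁻¹ → x ∈ Subgroup.center G)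
    (h2 : ∀ H : Subgroup G, H ≠ ⊤ → Cfsg.HasNormalPComplement 2 ↥H) : Cfsg.HasNormalPComplement 2 G := by
  classical
  by_contra h1
  obtain ⟨P₀⟩ : Nonempty (Sylow 2 G) := inferInstance
  have hex : ∃ Q : Subgroup G, Q ≤ (P₀ : Subgroup G) ∧ ∃ g ∈ Subgroup.normalizer (Q : Set G),
      Nat.Coprime (orderOf g) 2 ∧ g ∉ Subgroup.centralizer (Q : Set G) := by
    by_contra hcon
    push Not at hcon
    exact h1 (hasNormalPComplement_of_p'_centralize P₀ (fun Q hQ g hg hgp => hcon Q hQ g hg hgp))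
  obtain ⟨Q, hQP, g, hgN, hgp, hgC⟩ := hex
  have hQp : IsPGroup 2 ↥Q := P₀.isPGroup'.to_le hQP
  set a : MulAut G := MulAut.conj g with ha
  have hord : Nat.Coprime (orderOf a) 2 := Nat.Coprime.coprime_dvd_left (orderOf_map_dvd _ g) hgp
  have haQ : ∀ x ∈ Q, a x ∈ Q := fun x hx => (Subgroup.mem_normalizer_iff.1 hgN x).1 hx
  -- `g` centralizes every proper `g`-invariant subgroup of `Q`
  have hcent : ∀ R : Subgroup G, R ≤ Q → (∀ r ∈ R, a r ∈ R) → R ≠ Q → ∀ r ∈ R, a r = r := by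
    intro R hRQ hRinv hRne r hr
    have hRp : IsPGroup 2 ↥R := hQp.to_le hRQ
    have hgNR : g ∈ Subgroup.normalizer (R : Set G) :=
      Cfsg.Agent.Lib.Lead.Conj.mem_normalizer_of_conj_mem R g hRinv
    have hKne : R ⊔ Subgroup.zpowers g ≠ ⊤ := by
      intro htop
      apply hRne
      apply le_antisymm hRQ
      intro x hx
      have hx' : x ∈ (R ⊔ Subgroup.zpowers g : Subgroup G) := by rw [htop]; trivial
      have hle : Subgroup.zpowers g ≤ Subgroup.normalizer (R : Set G) := Subgroup.zpowers_le.2 hgNR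
      have hset : ((R ⊔ Subgroup.zpowers g : Subgroup G) : Set G) = (R : Set G) * (Subgroup.zpowers g : Set G) :=
        Subgroup.coe_mul_of_right_le_normalizer_left R _ hle
      have hx'' : x ∈ (R : Set G) * (Subgroup.zpowers g : Set G) := by rw [← hset]; exact hx'
      obtain ⟨r', hr', z, hz, rfl⟩ := Set.mem_mul.1 hx''
      have hzQ : z ∈ Q := by
        have : z = r'⁻¹ * (r' * z) := by group
        rw [this]
        exact Q.mul_mem (Q.inv_mem (hRQ hr')) hx
      have hz1 : z = 1 := by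
        obtain ⟨k, hk⟩ := hQp ⟨z, hzQ⟩
        have hk' : z ^ 2 ^ k = 1 := by
          have := congrArg Subtype.val hk
          simpa using this
        have d1 : orderOf z ∣ 2 ^ k := orderOf_dvd_of_pow_eq_one hk'
        have d2 : orderOf z ∣ orderOf g := by
          obtain ⟨i, rfl⟩ := Subgroup.mem_zpowers_iff.1 hz
          exact orderOf_dvd_of_pow_eq_one (by rw [← zpow_natCast, ← zpow_mul, mul_comm, zpow_mul, zpow_natCast, pow_orderOf_eq_one, one_zpow])
        have d3 : orderOf z = 1 :=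
          Nat.Coprime.eq_one_of_dvd (Nat.Coprime.coprime_dvd_left d2 (hgp.pow_right k)) d1
        exact orderOf_eq_one_iff.1 d3
      rw [hz1, mul_one]; exact hr'
    have hc := Cfsg.Agent.S0132.cent_of_sub _ (h2 _ hKne) R le_sup_left hRp g
      ((le_sup_right : Subgroup.zpowers g ≤ R ⊔ Subgroup.zpowers g) (Subgroup.mem_zpowers g)) hgNR hgp
    have := (Subgroup.mem_centralizer_iff.1 hc) r hr
    rw [ha, MulAut.conj_apply]
    calc g * r * g⁻¹ = (r * g) * g⁻¹ := by rw [this]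
      _ = r := by group
  -- `Q ≠ ⊥`
  have hQne : Q ≠ ⊥ := by
    intro hb
    apply hgC
    rw [hb]
    rw [Subgroup.mem_centralizer_iff]
    intro x hx
    rw [Subgroup.coe_bot, Set.mem_singleton_iff] at hx
    rw [hx]; group
  have hNlt : Nat.card ↥(agemo 2 Q) < Nat.card ↥Q := card_agemo_lt' Q hQp hQne
  have hNne : agemo 2 Q ≠ Q := fun heq => by rw [heq] at hNlt; exact lt_irrefl _ hNlt
  have hNfix : ∀ y ∈ agemo 2 Q, a y = y :=
    hcent (agemo 2 Q) (agemo_le 2 Q) (agemo_invariant a Q haQ) hNne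
  have hCinv : ∀ c ∈ Q ⊓ Subgroup.centralizer ((agemo 2 Q : Subgroup G) : Set G),
      a c ∈ Q ⊓ Subgroup.centralizer ((agemo 2 Q : Subgroup G) : Set G) := by
    intro c hc
    rw [Subgroup.mem_inf] at hc ⊢
    obtain ⟨hcH, hcN⟩ := hc
    refine ⟨haQ c hcH, ?_⟩
    rw [Subgroup.mem_centralizer_iff] at hcN ⊢
    intro y hy
    have := congrArg a (hcN y hy)
    rw [map_mul, map_mul, hNfix y hy] at this
    exact this
  -- it suffices to show that `a` fixes every `d = x⁻¹ * a x`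
  have hsuff : (∀ x ∈ Q, a (x⁻¹ * a x) = x⁻¹ * a x) → False := by
    intro hfix
    apply hgC
    rw [Subgroup.mem_centralizer_iff]
    intro x hx
    have hax : a x = x * (x⁻¹ * a x) := by group
    obtain ⟨j, hj⟩ := hQp ⟨x⁻¹ * a x, Q.mul_mem (Q.inv_mem hx) (haQ x hx)⟩
    have hj' : (x⁻¹ * a x) ^ 2 ^ j = 1 := by
      have := congrArg Subtype.val hj
      simpa using this
    have hd1 := eq_one_of_step a hord hax (hfix x hx) hj'
    have h3 : a x = x := by rw [hax, hd1, mul_one]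
    rw [ha, MulAut.conj_apply] at h3
    calc x * g = (g * x * g⁻¹) * g := by rw [h3]
      _ = g * x := by group
  apply hsuff
  intro x hx
  have hdH : x⁻¹ * a x ∈ Q := Q.mul_mem (Q.inv_mem hx) (haQ x hx)
  by_cases hC : Q ⊓ Subgroup.centralizer ((agemo 2 Q : Subgroup G) : Set G) = Q
  · have hcentN : ∀ y ∈ agemo 2 Q, ∀ w ∈ Q, y * w = w * y := by
      intro y hy w hw
      have hwC : w ∈ Q ⊓ Subgroup.centralizer ((agemo 2 Q : Subgroup G) : Set G) := by rw [hC]; exact hw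
      exact (Subgroup.mem_centralizer_iff.1 hwC.2) y hy
    have hbH : a x ∈ Q := haQ x hx
    have hzN : ⁅(a x)⁻¹, x⁆ ∈ agemo 2 Q := comm_mem_agemo (Q.inv_mem hbH) hx
    have hrel : a x * x⁻¹ = x⁻¹ * a x * ⁅(a x)⁻¹, x⁆ := by rw [commutatorElement_def]; group
    have hza : ⁅(a x)⁻¹, x⁆ * x⁻¹ = x⁻¹ * ⁅(a x)⁻¹, x⁆ := hcentN _ hzN _ (Q.inv_mem hx)
    have hzb : ⁅(a x)⁻¹, x⁆ * a x = a x * ⁅(a x)⁻¹, x⁆ := hcentN _ hzN _ hbH
    have hpow := class_two_pow hrel hza hzb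
    have hcomm := class_two_pow_comm hrel hza hzb 2
    have hbp : (a x) ^ 2 ∈ agemo 2 Q := pow_mem_agemo hbH
    have hzp : ⁅(a x)⁻¹, x⁆ ^ 2 = 1 := by
      have h1 : (a x) ^ 2 * x⁻¹ = x⁻¹ * (a x) ^ 2 := hcentN _ hbp _ (Q.inv_mem hx)
      rw [h1] at hcomm
      have : x⁻¹ * (a x) ^ 2 * 1 = x⁻¹ * (a x) ^ 2 * ⁅(a x)⁻¹, x⁆ ^ 2 := by rw [mul_one]; exact hcomm
      exact (mul_left_cancel this).symm
    have hxp : (x⁻¹) ^ 2 * (a x) ^ 2 = 1 := by
      have h1 : a (x ^ 2) = x ^ 2 := hNfix _ (pow_mem_agemo hx)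
      rw [map_pow] at h1
      rw [h1, inv_pow, inv_mul_cancel]
    have e2 := hpow 2
    rw [hxp, one_mul] at e2
    have e3 : ∑ i ∈ Finset.range 2, i = 1 := by decide
    rw [e3, pow_one] at e2
    -- `d ^ 2 = z`, `z ^ 2 = 1`, `x d x⁻¹ = d z`
    have hd4 : (x⁻¹ * a x) ^ 4 = 1 := by
      calc (x⁻¹ * a x) ^ 4 = ((x⁻¹ * a x) ^ 2) ^ 2 := by rw [← pow_mul]
        _ = 1 := by rw [e2, hzp]
    have hconj : x * (x⁻¹ * a x) * x⁻¹ = (x⁻¹ * a x)⁻¹ := by
      have h5 : x * (x⁻¹ * a x) * x⁻¹ = (x⁻¹ * a x) * ⁅(a x)⁻¹, x⁆ := by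
        calc x * (x⁻¹ * a x) * x⁻¹ = a x * x⁻¹ := by group
          _ = x⁻¹ * a x * ⁅(a x)⁻¹, x⁆ := hrel
      rw [h5, ← e2]
      have : (x⁻¹ * a x) * (x⁻¹ * a x) ^ 2 * (x⁻¹ * a x) = 1 := by
        rw [← pow_succ', ← pow_succ]; exact hd4
      exact eq_inv_of_mul_eq_one_left this
    have hreal : IsConj (x⁻¹ * a x) (x⁻¹ * a x)⁻¹ := isConj_iff.2 ⟨x, hconj⟩
    have h2pow : ∃ j : ℕ, orderOf (x⁻¹ * a x) = 2 ^ j := by
      have : orderOf (x⁻¹ * a x) ∣ 2 ^ 2 := orderOf_dvd_of_pow_eq_one (by norm_num; exact hd4)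
      obtain ⟨j, -, hj⟩ := (Nat.dvd_prime_pow Nat.prime_two).1 this
      exact ⟨j, hj⟩
    have hz := h _ h2pow hreal
    rw [Subgroup.mem_center_iff] at hz
    rw [ha, MulAut.conj_apply]
    have := hz g
    calc g * (x⁻¹ * (MulAut.conj g) x) * g⁻¹ = (x⁻¹ * (MulAut.conj g) x * g) * g⁻¹ := by rw [← this]
      _ = x⁻¹ * (MulAut.conj g) x := by group
  · have hCfix := hcent _ inf_le_left hCinv hC
    apply hCfix
    rw [Subgroup.mem_inf]
    refine ⟨hdH, ?_⟩
    rw [Subgroup.mem_centralizer_iff]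
    intro y hy
    have hconj : x * y * x⁻¹ ∈ agemo 2 Q := conj_mem_agemo hx hy
    have h1 := hNfix _ hconj
    rw [map_mul, map_mul, map_inv, hNfix y hy] at h1
    calc y * (x⁻¹ * a x) = x⁻¹ * (x * y * x⁻¹) * a x := by group
      _ = x⁻¹ * (a x * y * (a x)⁻¹) * a x := by rw [h1]
      _ = x⁻¹ * a x * y := by group

theorem aux.{u} : ∀ (n : ℕ) (G : Type u) [Group G] [Finite G], Nat.card G = n →
    (∀ x : G, (∃ j : ℕ, orderOf x = 2 ^ j) → IsConj x x⁻¹ → x ∈ Subgroup.center G) →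
    Cfsg.HasNormalPComplement 2 G := by
  intro n
  induction n using Nat.strong_induction_on with
  | _ n ih =>
  intro G _ _ hcard h
  apply minimal_case h
  intro H hH
  have hlt : Nat.card ↥H < n := by
    rw [← hcard]
    apply lt_of_le_of_ne (Subgroup.card_le_card_group H)
    intro heq
    exact hH (Subgroup.card_eq_iff_eq_top H |>.1 heq)
  apply ih _ hlt ↥H rfl
  intro x hx hconj
  rw [Subgroup.mem_center_iff]
  intro y
  have hx' : ∃ j : ℕ, orderOf (x : G) = 2 ^ j := by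
    obtain ⟨j, hj⟩ := hx
    exact ⟨j, by rw [Subgroup.orderOf_coe]; exact hj⟩
  have hconj' : IsConj (x : G) (x : G)⁻¹ := by
    obtain ⟨c, hc⟩ := isConj_iff.1 hconj
    refine isConj_iff.2 ⟨(c : G), ?_⟩
    have := congrArg Subtype.val hc
    simpa using this
  have hz := h _ hx' hconj'
  rw [Subgroup.mem_center_iff] at hz
  apply Subtype.ext
  exact hz (y : G)

/-- If every 2-element of the finite group G that is conjugate to its inverse lies in the centre of G, then G has a normal 2-complement. -/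
theorem result {G : Type*} [Group G] [Finite G] (h : ∀ x : G, (∃ j : ℕ, orderOf x = 2 ^ j) → IsConj x x⁻¹ → x ∈ Subgroup.center G) : Cfsg.HasNormalPComplement 2 G := by
  exact aux (Nat.card G) G rfl h

end Cfsg.Agent.S3862
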