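import Cfsg.Statements.S3863
import Mathlib
import Cfsg.Agent.H1.Basic
import Cfsg.Agent.H1.Real

set_option autoImplicit false
open Cfsg

namespace Cfsg.Agent.S3863

open Cfsg.Agent.H1

/-- Let x be an element of the finite group G that is conjugate to its inverse. Then some 2-element conjugates x to its inverse; if the conjugacy class of x has odd size then x ^ 2 = 1; and x lies in, and is conjugate to its inverse inside, every normal subgroup of odd index. -/
theorem result {G : Type*} [Group G] [Finite G] (x : G) (hx : IsConj x x⁻¹) : (∃ t : G, (∃ j : ℕ, orderOf t = 2 ^ j) ∧ t * x * t⁻¹ = x⁻¹) ∧ (Odd (Subgroup.centralizer ({x} : Set G)).index → x ^ 2 = 1) ∧ ∀ (N : Subgroup G) [N.Normal], Odd N.index → ∃ hxN : x ∈ N, IsConj (⟨x, hxN⟩ : N) (⟨x, hxN⟩ : N)⁻¹ := by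
  obtain ⟨t, ⟨j, hj⟩, ht⟩ := exists_two_elt_inverting x hx
  refine ⟨⟨t, ⟨j, hj⟩, ht⟩, ?_, ?_⟩
  · intro hodd
    by_contra hne
    have hxx : x ≠ x⁻¹ := by
      intro h
      apply hne
      rw [pow_two]
      nth_rewrite 2 [h]
      exact mul_inv_cancel x
    -- the extended centralizer
    let Cs : Subgroup G :=
      { carrier := {g | g * x * g⁻¹ = x ∨ g * x * g⁻¹ = x⁻¹}
        one_mem' := by left; simp
        mul_mem' := by
          intro a b ha hb
          have h1 : a * b * x * (a * b)⁻¹ = a * (b * x * b⁻¹) * a⁻¹ := by group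
          have hinv : ∀ c : G, c * x⁻¹ * c⁻¹ = (c * x * c⁻¹)⁻¹ := by intro c; group
          show a * b * x * (a * b)⁻¹ = x ∨ a * b * x * (a * b)⁻¹ = x⁻¹
          rw [h1]
          rcases hb with hb | hb <;> rcases ha with ha | ha
          · left; rw [hb, ha]
          · right; rw [hb, ha]
          · right; rw [hb, hinv, ha]
          · left; rw [hb, hinv, ha, inv_inv]
        inv_mem' := by
          intro a ha
          show a⁻¹ * x * a⁻¹⁻¹ = x ∨ a⁻¹ * x * a⁻¹⁻¹ = x⁻¹
          rw [inv_inv]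
          rcases ha with ha | ha
          · left
            nth_rewrite 1 [← ha]
            group
          · right
            have : x = a⁻¹ * x⁻¹ * a := by rw [← ha]; group
            have h2 : a⁻¹ * x * a = (a⁻¹ * x⁻¹ * a)⁻¹ := by group
            rw [h2, ← this] }
    have hmemCs : ∀ g, g ∈ Cs ↔ (g * x * g⁻¹ = x ∨ g * x * g⁻¹ = x⁻¹) := fun g => Iff.rfl
    have hmemC : ∀ g, g ∈ Subgroup.centralizer ({x} : Set G) ↔ g * x * g⁻¹ = x := by
      intro g
      rw [mem_centralizer_singleton_iff, mul_inv_eq_iff_eq_mul]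
    have hle : Subgroup.centralizer ({x} : Set G) ≤ Cs := by
      intro g hg
      rw [hmemCs]; left; exact (hmemC g).mp hg
    have h2 : (Subgroup.centralizer ({x} : Set G)).relIndex Cs = 2 := by
      rw [Subgroup.relIndex, Subgroup.index_eq_two_iff]
      refine ⟨⟨t, (hmemCs t).mpr (Or.inr ht)⟩, ?_⟩
      rintro ⟨b, hb⟩
      simp only [Subgroup.mem_subgroupOf, Subgroup.coe_mul, hmemC]
      have h1 : b * t * x * (b * t)⁻¹ = b * (t * x * t⁻¹) * b⁻¹ := by group
      have hinv : ∀ c : G, c * x⁻¹ * c⁻¹ = (c * x * c⁻¹)⁻¹ := by intro c; group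
      rw [h1, ht, hinv]
      rcases (hmemCs b).mp hb with hb' | hb'
      · rw [hb']
        right
        exact ⟨rfl, fun h => hxx h.symm⟩
      · rw [hb', inv_inv]
        left
        exact ⟨rfl, fun h => hxx h.symm⟩
    have h3 : (2 : ℕ) ∣ (Subgroup.centralizer ({x} : Set G)).index := by
      rw [← h2]
      exact Subgroup.relIndex_dvd_index_of_le hle
    exact (Nat.not_even_iff_odd.mpr hodd) (even_iff_two_dvd.mpr h3)
  · intro N hN hodd
    have hcard : Nat.card (G ⧸ N) = N.index := rfl
    -- elements of odd-order quotient with 2-power order are trivial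
    have htN : t ∈ N := by
      rw [← QuotientGroup.eq_one_iff]
      have h1 : (t : G ⧸ N) ^ (2 ^ j) = 1 := by
        rw [← QuotientGroup.mk_pow, ← hj, pow_orderOf_eq_one]; rfl
      have h2 : (t : G ⧸ N) ^ N.index = 1 := by
        rw [← hcard]; exact pow_card_eq_one'
      have h3 : orderOf (t : G ⧸ N) ∣ Nat.gcd (2 ^ j) N.index :=
        Nat.dvd_gcd (orderOf_dvd_of_pow_eq_one h1) (orderOf_dvd_of_pow_eq_one h2)
      have hcop : Nat.Coprime (2 ^ j) N.index :=
        Nat.Coprime.pow_left _ (Nat.coprime_two_left.mpr hodd)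
      rw [hcop, Nat.dvd_one, orderOf_eq_one_iff] at h3
      exact h3
    have hxN : x ∈ N := by
      rw [← QuotientGroup.eq_one_iff]
      have h0 : ((t * x * t⁻¹ : G) : G ⧸ N) = (x : G ⧸ N) := by
        rw [QuotientGroup.mk_mul, QuotientGroup.mk_mul, QuotientGroup.mk_inv,
          (QuotientGroup.eq_one_iff t).mpr htN]
        simp
      rw [ht, QuotientGroup.mk_inv] at h0
      have h1 : (x : G ⧸ N) ^ 2 = 1 := by
        rw [pow_two]
        nth_rewrite 1 [← h0]
        exact inv_mul_cancel _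
      have h2 : (x : G ⧸ N) ^ N.index = 1 := by
        rw [← hcard]; exact pow_card_eq_one'
      have h3 : orderOf (x : G ⧸ N) ∣ Nat.gcd 2 N.index :=
        Nat.dvd_gcd (orderOf_dvd_of_pow_eq_one h1) (orderOf_dvd_of_pow_eq_one h2)
      rw [Nat.coprime_two_left.mpr hodd, Nat.dvd_one, orderOf_eq_one_iff] at h3
      exact h3
    refine ⟨hxN, ?_⟩
    rw [isConj_iff]
    refine ⟨⟨t, htN⟩, ?_⟩
    apply Subtype.ext
    simp only [Subgroup.coe_mul, Subgroup.coe_inv]
    exact ht

end Cfsg.Agent.S3863
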