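import Cfsg.Statements.S3866
import Mathlib
import Cfsg.Agent.H1.Basic

set_option autoImplicit false
open Cfsg

namespace Cfsg.Agent.S3866

open Cfsg.Agent.H1
open scoped commutatorElement

/-- Let A be a commutative normal subgroup of the finite group G with G generated by A and an element x. Then a ↦ x a x⁻¹ a⁻¹ is a surjective homomorphism from A onto the commutator subgroup of G whose kernel is the centralizer of x in A; in particular the commutator subgroup has order equal to the index in A of that centralizer. -/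
theorem result {G : Type*} [Group G] [Finite G] (A : Subgroup G) [A.Normal] (hA : IsMulCommutative A) (x : G) (hgen : A ⊔ Subgroup.zpowers x = ⊤) : (∀ a ∈ A, x * a * x⁻¹ * a⁻¹ ∈ commutator G) ∧ (∀ c ∈ commutator G, ∃ a ∈ A, x * a * x⁻¹ * a⁻¹ = c) ∧ (∀ a ∈ A, ∀ b ∈ A, x * (a * b) * x⁻¹ * (a * b)⁻¹ = (x * a * x⁻¹ * a⁻¹) * (x * b * x⁻¹ * b⁻¹)) ∧ Nat.card (commutator G) * Nat.card ↥(A ⊓ Subgroup.centralizer ({x} : Set G)) = Nat.card A := by
  have hAn : ∀ a ∈ A, x * a * x⁻¹ ∈ A := fun a ha => Subgroup.Normal.conj_mem inferInstance a ha x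
  have hmul : ∀ a ∈ A, ∀ b ∈ A, x * (a * b) * x⁻¹ * (a * b)⁻¹ = (x * a * x⁻¹ * a⁻¹) * (x * b * x⁻¹ * b⁻¹) := by
    intro a ha b hb
    have h1 : x * (a * b) * x⁻¹ * (a * b)⁻¹ = (x * a * x⁻¹) * ((x * b * x⁻¹) * b⁻¹) * a⁻¹ := by group
    have h2 : ((x * b * x⁻¹) * b⁻¹) * a⁻¹ = a⁻¹ * ((x * b * x⁻¹) * b⁻¹) :=
      setLike_mul_comm (mul_mem (hAn b hb) (inv_mem hb)) (inv_mem ha)
    rw [h1, mul_assoc, h2]
    group
  have hθmem : ∀ a ∈ A, x * a * x⁻¹ * a⁻¹ ∈ A := fun a ha => mul_mem (hAn a ha) (inv_mem ha)
  let θ : A →* A :=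
    { toFun := fun a => ⟨x * a * x⁻¹ * (a : G)⁻¹, hθmem a a.2⟩
      map_one' := by apply Subtype.ext; simp
      map_mul' := by
        intro a b
        apply Subtype.ext
        exact hmul a a.2 b b.2 }
  have hθ : ∀ a : A, ((θ a : A) : G) = x * a * x⁻¹ * (a : G)⁻¹ := fun a => rfl
  -- the image I, as a subgroup of G
  set I : Subgroup G := θ.range.map A.subtype with hI
  have hImem : ∀ c, c ∈ I ↔ ∃ a ∈ A, x * a * x⁻¹ * a⁻¹ = c := by
    intro c
    constructor
    · rintro ⟨_, ⟨a, rfl⟩, rfl⟩
      exact ⟨a, a.2, rfl⟩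
    · rintro ⟨a, ha, rfl⟩
      exact ⟨θ ⟨a, ha⟩, ⟨⟨a, ha⟩, rfl⟩, rfl⟩
  have hIA : I ≤ A := by
    rintro _ ⟨b, _, rfl⟩
    exact b.2
  have h1 : ∀ a ∈ A, x * a * x⁻¹ * a⁻¹ ∈ commutator G := by
    intro a ha
    have : x * a * x⁻¹ * a⁻¹ = ⁅x, a⁆ := rfl
    rw [this]
    exact Subgroup.commutator_mem_commutator (Subgroup.mem_top x) (Subgroup.mem_top a)
  -- I is normal
  have hIn : I.Normal := by
    rw [← Subgroup.normalizer_eq_top_iff, eq_top_iff, ← hgen]
    apply sup_le
    · -- A normalizes I (A abelian, I ≤ A)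
      intro a ha
      rw [Subgroup.mem_normalizer_iff]
      intro c
      constructor
      · intro hc
        have : a * c * a⁻¹ = c := by
          rw [setLike_mul_comm ha (hIA hc), mul_inv_cancel_right]
        rw [this]; exact hc
      · intro hc
        have hcA : c ∈ A := by
          have := hIA hc
          have h2 : c = a⁻¹ * (a * c * a⁻¹) * a := by group
          rw [h2]
          exact mul_mem (mul_mem (inv_mem ha) this) ha
        have : a * c * a⁻¹ = c := by
          rw [setLike_mul_comm ha hcA, mul_inv_cancel_right]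
        rw [← this]; exact hc
    · rw [Subgroup.zpowers_le]
      rw [Subgroup.mem_normalizer_iff]
      intro c
      have key : ∀ c, c ∈ I → x * c * x⁻¹ ∈ I := by
        intro c hc
        obtain ⟨a, ha, rfl⟩ := (hImem c).mp hc
        rw [hImem]
        refine ⟨x * a * x⁻¹, hAn a ha, ?_⟩
        group
      have key' : ∀ c, c ∈ I → x⁻¹ * c * x ∈ I := by
        intro c hc
        obtain ⟨a, ha, rfl⟩ := (hImem c).mp hc
        rw [hImem]
        refine ⟨x⁻¹ * a * x, ?_, ?_⟩
        · have := Subgroup.Normal.conj_mem (inferInstance : A.Normal) a ha x⁻¹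
          rwa [inv_inv] at this
        · group
      constructor
      · exact key c
      · intro hc
        have := key' _ hc
        have h2 : x⁻¹ * (x * c * x⁻¹) * x = c := by group
        rwa [h2] at this
  -- G / I is commutative
  have hcomm : commutator G ≤ I := by
    rw [← Subgroup.Normal.quotient_commutative_iff_commutator_le]
    have hclosure : Subgroup.closure ((QuotientGroup.mk' I) '' ((A : Set G) ∪ {x})) = ⊤ := by
      rw [← MonoidHom.map_closure, Subgroup.closure_union, Subgroup.closure_eq, ← Subgroup.zpowers_eq_closure, hgen,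
        ← MonoidHom.range_eq_map, MonoidHom.range_eq_top]
      exact QuotientGroup.mk'_surjective I
    have hc : IsMulCommutative (Subgroup.closure ((QuotientGroup.mk' I) '' ((A : Set G) ∪ {x}))) := by
      apply Subgroup.isMulCommutative_closure
      have hax : ∀ a ∈ A, QuotientGroup.mk' I x * QuotientGroup.mk' I a = QuotientGroup.mk' I a * QuotientGroup.mk' I x := by
        intro a ha
        rw [← map_mul, ← map_mul]
        apply QuotientGroup.eq.mpr
        have : (x * a)⁻¹ * (a * x) = x⁻¹ * (x * a⁻¹ * x⁻¹ * (a⁻¹)⁻¹) * x⁻¹⁻¹ := by group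
        rw [this]
        have hmemI : x * a⁻¹ * x⁻¹ * (a⁻¹)⁻¹ ∈ I := (hImem _).mpr ⟨a⁻¹, inv_mem ha, rfl⟩
        exact hIn.conj_mem _ hmemI x⁻¹
      rintro _ ⟨a, (ha | ha), rfl⟩ _ ⟨b, (hb | hb), rfl⟩
      · rw [← map_mul, ← map_mul, setLike_mul_comm ha hb]
      · rw [Set.mem_singleton_iff] at hb; subst hb
        exact (hax a ha).symm
      · rw [Set.mem_singleton_iff] at ha; subst ha
        exact hax b hb
      · rw [Set.mem_singleton_iff] at ha hb; rw [ha, hb]
    rw [hclosure] at hc
    constructor; constructor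
    intro a b
    have := hc
    exact setLike_mul_comm (Subgroup.mem_top a) (Subgroup.mem_top b)
  have hIeq : I = commutator G := by
    apply le_antisymm _ hcomm
    intro c hc
    obtain ⟨a, ha, rfl⟩ := (hImem c).mp hc
    exact h1 a ha
  refine ⟨h1, ?_, hmul, ?_⟩
  · intro c hc
    rw [← hIeq] at hc
    exact (hImem c).mp hc
  · -- card A = card ker * card range
    have h2 : Nat.card θ.ker * θ.ker.index = Nat.card A := Subgroup.card_mul_index θ.ker
    rw [Subgroup.index_ker] at h2
    have h3 : Nat.card θ.range = Nat.card (commutator G) := by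
      rw [← hIeq, hI, Subgroup.card_map_of_injective A.subtype_injective]
    have h4 : Nat.card θ.ker = Nat.card ↥(A ⊓ Subgroup.centralizer ({x} : Set G)) := by
      have hker : θ.ker.map A.subtype = A ⊓ Subgroup.centralizer ({x} : Set G) := by
        ext c
        constructor
        · rintro ⟨a, ha0, rfl⟩
          have ha : a ∈ θ.ker := ha0
          refine Subgroup.mem_inf.mpr ⟨a.2, ?_⟩
          rw [mem_centralizer_singleton_iff]
          rw [MonoidHom.mem_ker] at ha
          have h5 : x * a * x⁻¹ * (a : G)⁻¹ = 1 := congrArg Subtype.val ha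
          have h6 : x * (a : G) = a * x := by
            have : x * a * x⁻¹ * (a : G)⁻¹ * (a * x) = x * a := by group
            rw [h5, one_mul] at this
            exact this.symm
          exact h6.symm
        · intro hc
          obtain ⟨hcA, hcx⟩ := Subgroup.mem_inf.mp hc
          rw [mem_centralizer_singleton_iff] at hcx
          refine ⟨⟨c, hcA⟩, ?_, rfl⟩
          show (⟨c, hcA⟩ : A) ∈ θ.ker
          rw [MonoidHom.mem_ker]
          apply Subtype.ext
          show x * c * x⁻¹ * c⁻¹ = 1
          rw [← hcx]; group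
      rw [← hker, Subgroup.card_map_of_injective A.subtype_injective]
    rw [← h2, h3, h4, mul_comm]

end Cfsg.Agent.S3866
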