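import Cfsg.Statements.S3869
import Mathlib
import Cfsg.Agent.H1.MinNonPClosed2

set_option autoImplicit false
open Cfsg

namespace Cfsg.Agent.S3869

set_option autoImplicit false
open scoped Pointwise commutatorElement
open H1

/-- Let p and q be distinct primes and G a finite non-abelian group with a normal elementary abelian q-subgroup A that is a minimal normal subgroup of G and has index p. Then A has order q^e with e the multiplicative order of q modulo p, and G is minimal non-p-closed: its Sylow p-subgroups are not normal, while in every proper subgroup and in every proper quotient of G the Sylow p-subgroups are normal. -/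
theorem result {G : Type*} [Group G] [Finite G] {p q : ℕ} [Fact p.Prime] (hq : q.Prime) (hpq : q ≠ p)
    (hna : ¬ IsMulCommutative G) (A : Subgroup G) [A.Normal] (hA : Cfsg.IsElementaryAbelian q A) (hidx : A.index = p)
    (hmin : ∀ B : Subgroup G, B.Normal → B ≤ A → B = ⊥ ∨ B = A) :
    Nat.card ↥A = q ^ orderOf (q : ZMod p) ∧ ¬ Cfsg.IsPClosed p G ∧ (∀ H : Subgroup G, H ≠ ⊤ → Cfsg.IsPClosed p ↥H) ∧
      ∀ (N : Subgroup G) [N.Normal], N ≠ ⊥ → Cfsg.IsPClosed p (G ⧸ N) := by
  have hp : p.Prime := Fact.out
  have hAn : A.Normal := inferInstance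
  have hAidx : A.index.Prime := by rw [hidx]; exact hp
  have hAcomm : ∀ a ∈ A, ∀ b ∈ A, a * b = b * a := by
    intro a ha b hb
    have := hA.1.is_comm.comm ⟨a, ha⟩ ⟨b, hb⟩
    exact congrArg Subtype.val this
  have hGcard : Nat.card A * p = Nat.card G := by rw [← hidx]; exact Subgroup.card_mul_index A
  -- key: an element outside A centralizing A makes G abelian
  have hkey : ∀ y : G, y ∉ A → y ∉ Subgroup.centralizer (A : Set G) := by
    intro y hyA hyC
    apply hna
    have hsup : A ⊔ Subgroup.zpowers y = ⊤ := by
      apply sup_eq_top_of_index_prime A _ hAidx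
      intro h; exact hyA (h (Subgroup.mem_zpowers y))
    have hcen : Subgroup.center G = ⊤ := by
      rw [eq_top_iff, ← hsup]
      apply sup_le
      · intro a ha
        rw [Subgroup.mem_center_iff]
        intro g
        have hg : g ∈ Subgroup.centralizer ({a} : Set G) := by
          have : A ⊔ Subgroup.zpowers y ≤ Subgroup.centralizer ({a} : Set G) := by
            apply sup_le
            · intro b hb
              rw [Subgroup.mem_centralizer_singleton_iff]
              exact hAcomm b hb a ha
            · rw [Subgroup.zpowers_le, Subgroup.mem_centralizer_singleton_iff]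
              rw [Subgroup.mem_centralizer_iff] at hyC
              exact (hyC a ha).symm
          rw [hsup] at this
          exact this (Subgroup.mem_top g)
        rw [Subgroup.mem_centralizer_singleton_iff] at hg
        exact hg
      · rw [Subgroup.zpowers_le, Subgroup.mem_center_iff]
        intro g
        have hg : g ∈ Subgroup.centralizer ({y} : Set G) := by
          have : A ⊔ Subgroup.zpowers y ≤ Subgroup.centralizer ({y} : Set G) := by
            apply sup_le
            · intro b hb
              rw [Subgroup.mem_centralizer_singleton_iff]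
              rw [Subgroup.mem_centralizer_iff] at hyC
              exact hyC b hb
            · rw [Subgroup.zpowers_le, Subgroup.mem_centralizer_singleton_iff]
          rw [hsup] at this
          exact this (Subgroup.mem_top g)
        rw [Subgroup.mem_centralizer_singleton_iff] at hg
        exact hg
    constructor
    constructor
    intro a b
    have : a ∈ Subgroup.center G := by rw [hcen]; trivial
    rw [Subgroup.mem_center_iff] at this
    exact (this b).symm
  have hAq : ∀ a ∈ A, a ^ q = 1 := hA.2
  have hnotA : ∀ y : G, orderOf y = p → y ∉ A := by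
    intro y hy hyA
    have h1 := orderOf_dvd_of_pow_eq_one (hAq y hyA)
    rw [hy] at h1
    exact hpq ((Nat.prime_dvd_prime_iff_eq hp hq).mp h1).symm
  have hpG : p ∣ Nat.card G := Dvd.intro_left _ hGcard
  obtain ⟨x, hxo⟩ := exists_prime_orderOf_dvd_card' p hpG
  have hxA : x ∉ A := hnotA x hxo
  have hxC : x ∉ Subgroup.centralizer (A : Set G) := hkey x hxA
  have hsupx : A ⊔ Subgroup.zpowers x = ⊤ := by
    apply sup_eq_top_of_index_prime A _ hAidx
    intro h; exact hxA (h (Subgroup.mem_zpowers x))
  -- subgroups of A normalized by an element outside A are normal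
  have hnormal : ∀ (B : Subgroup G) (y : G), B ≤ A → y ∉ A → (∀ b ∈ B, y * b * y⁻¹ ∈ B) → B.Normal := by
    intro B y hBA hyA hBy
    have hsup : A ⊔ Subgroup.zpowers y = ⊤ := by
      apply sup_eq_top_of_index_prime A _ hAidx
      intro h; exact hyA (h (Subgroup.mem_zpowers y))
    apply Subgroup.normalizer_eq_top_iff.mp
    rw [eq_top_iff, ← hsup]
    apply sup_le
    · intro a ha
      rw [Subgroup.mem_normalizer_iff]
      intro b
      constructor
      · intro hb
        rw [hAcomm a ha b (hBA hb), mul_inv_cancel_right]; exact hb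
      · intro hb
        have hb' : b ∈ A := by
          have h1 := hBA hb
          have h2 := hAn.conj_mem _ h1 a⁻¹
          convert h2 using 1
          group
        rw [hAcomm a ha b hb', mul_inv_cancel_right] at hb; exact hb
    · rw [Subgroup.zpowers_le]
      exact mem_normalizer_of_conj_mem B y hBy
  have hcardA : Nat.card ↥A = q ^ orderOf (q : ZMod p) := by
    apply card_of_irreducible_conj hp hq hpq A hA x
    · rw [← hxo, pow_orderOf_eq_one]; exact one_mem _
    · exact hxC
    · intro B hBA hBx
      exact hmin B (hnormal B x hBA hxA hBx) hBA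
  have hAb : A ≠ ⊥ := by
    intro h
    apply hxC
    rw [h]
    intro a ha
    rw [SetLike.mem_coe, Subgroup.mem_bot] at ha
    rw [ha, mul_one, one_mul]
  obtain ⟨dA, hdA⟩ : ∃ d, Nat.card A = q ^ d := ⟨_, hcardA⟩
  have hcopA : ∀ S : Subgroup G, IsPGroup p S → S ⊓ A = ⊥ := by
    intro S hS
    apply (Subgroup.disjoint_of_coprime_natCard _).eq_bot
    obtain ⟨j, hj⟩ := hS.exists_card_eq
    rw [hj, hdA]
    exact Nat.Coprime.pow _ _ ((Nat.coprime_primes hp hq).mpr hpq.symm)
  refine ⟨hcardA, ?_, ?_, ?_⟩
  · -- not p-closed
    intro hcl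
    have hzp : IsPGroup p (Subgroup.zpowers x) := by
      apply IsPGroup.of_card (n := 1)
      rw [Nat.card_zpowers, hxo, pow_one]
    obtain ⟨P, hP⟩ := hzp.exists_le_sylow
    have hPn : (P : Subgroup G).Normal := hcl P
    have hdisj : Disjoint (P : Subgroup G) A := disjoint_iff.mpr (hcopA _ P.isPGroup')
    apply hxC
    rw [Subgroup.mem_centralizer_iff]
    intro a ha
    exact (Subgroup.commute_of_normal_of_disjoint _ _ hPn hAn hdisj x a (hP (Subgroup.mem_zpowers x)) ha).eq.symm
  · -- proper subgroups are commutative
    intro H hHt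
    apply isPClosed_of_comm
    by_cases hHA : H ≤ A
    · intro a b
      exact Subtype.ext (hAcomm a (hHA a.2) b (hHA b.2))
    · have hsup : A ⊔ H = ⊤ := sup_eq_top_of_index_prime A H hAidx hHA
      obtain ⟨y, hyH, hyA⟩ := SetLike.not_le_iff_exists.mp hHA
      have hBn : (H ⊓ A).Normal := by
        apply hnormal (H ⊓ A) y inf_le_right hyA
        intro b hb
        exact ⟨H.mul_mem (H.mul_mem hyH hb.1) (H.inv_mem hyH), hAn.conj_mem b hb.2 y⟩
      have hHA' : H ⊓ A = ⊥ := by
        rcases hmin _ hBn inf_le_right with h1 | h1
        · exact h1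
        · exfalso
          apply hHt
          rw [eq_top_iff, ← hsup]
          exact sup_le (inf_eq_right.mp h1) le_rfl
      have hHcard : Nat.card H = p := by
        have h1 := card_sup_mul_card_inf H A (by rw [Subgroup.normalizer_eq_top]; exact le_top)
        rw [sup_comm, hsup, hHA', Subgroup.card_top, Subgroup.card_bot, mul_one, ← hGcard, mul_comm] at h1
        exact (Nat.eq_of_mul_eq_mul_right Nat.card_pos h1).symm
      have : Fact (Nat.card H).Prime := ⟨by rw [hHcard]; exact hp⟩
      have hcyc : IsCyclic H := isCyclic_of_prime_card rfl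
      intro a b
      obtain ⟨g, hg⟩ := hcyc.exists_generator
      obtain ⟨m, rfl⟩ := Subgroup.mem_zpowers_iff.mp (hg a)
      obtain ⟨n, rfl⟩ := Subgroup.mem_zpowers_iff.mp (hg b)
      rw [← zpow_add, ← zpow_add, add_comm]
  · -- proper quotients
    intro N hNn hNb
    have hAN : A ≤ N := by
      have hBn : (N ⊓ A).Normal := inferInstance
      rcases hmin _ hBn inf_le_right with h1 | h1
      · exfalso
        have hNA : ¬ N ≤ A := by
          intro h
          rw [inf_eq_left.mpr h] at h1
          exact hNb h1
        obtain ⟨y, hyN, hyA⟩ := SetLike.not_le_iff_exists.mp hNA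
        apply hkey y hyA
        rw [Subgroup.mem_centralizer_iff]
        intro a ha
        exact (Subgroup.commute_of_normal_of_disjoint _ _ hNn hAn (disjoint_iff.mpr h1) y a hyN ha).eq.symm
      · exact inf_eq_right.mp h1
    have hdvd : N.index ∣ p := by rw [← hidx]; exact Subgroup.index_dvd_of_le hAN
    have hcardQ : Nat.card (G ⧸ N) = 1 ∨ Nat.card (G ⧸ N) = p := by
      rw [← Subgroup.index_eq_card]
      exact (Nat.dvd_prime hp).mp hdvd
    apply isPClosed_of_comm
    rcases hcardQ with h1 | h1
    · have := (Nat.card_eq_one_iff_unique.mp h1).1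
      intro a b
      exact Subsingleton.elim _ _
    · have : Fact (Nat.card (G ⧸ N)).Prime := ⟨by rw [h1]; exact hp⟩
      have hcyc : IsCyclic (G ⧸ N) := isCyclic_of_prime_card rfl
      intro a b
      obtain ⟨g, hg⟩ := hcyc.exists_generator
      obtain ⟨m, rfl⟩ := Subgroup.mem_zpowers_iff.mp (hg a)
      obtain ⟨n, rfl⟩ := Subgroup.mem_zpowers_iff.mp (hg b)
      rw [← zpow_add, ← zpow_add, add_comm]

end Cfsg.Agent.S3869
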