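import Cfsg.Statements.S3870
import Mathlib
import Cfsg.Agent.S2013
import Cfsg.Agent.Lib.Lead.Conj

set_option autoImplicit false
open Cfsg

namespace Cfsg.Agent.S3870

open Cfsg
open scoped Pointwise

theorem sylow_eq_of_le {G : Type*} [Group G] {p : ℕ} {P Q : Sylow p G}
    (h : (P : Subgroup G) ≤ (Q : Subgroup G)) : P = Q :=
  Sylow.ext (P.is_maximal' Q.isPGroup' h).symm

theorem ti_aux {G : Type*} [Group G] [Finite G] [IsSimpleGroup G] {p : ℕ} [Fact p.Prime]
    (hsub : ∀ H : Subgroup G, H ≠ ⊤ → Cfsg.IsPClosed p ↥H) :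
    ∀ k : ℕ, ∀ P Q : Sylow p G, P ≠ Q →
      Nat.card ↥(P : Subgroup G) - Nat.card ↥((P : Subgroup G) ⊓ (Q : Subgroup G)) = k →
      (P : Subgroup G) ⊓ (Q : Subgroup G) = ⊥ := by
  intro k
  induction k using Nat.strong_induction_on with
  | _ k ih =>
  intro P Q hPQ hk
  by_contra hD
  set D := (P : Subgroup G) ⊓ (Q : Subgroup G) with hDdef
  set M := Subgroup.normalizer (D : Set G) with hM
  have hDP : D ≠ (P : Subgroup G) := by
    intro h
    apply hPQ
    apply sylow_eq_of_le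
    rw [← h]; exact inf_le_right
  have hDQ : D ≠ (Q : Subgroup G) := by
    intro h
    apply hPQ
    symm
    apply sylow_eq_of_le
    rw [← h]; exact inf_le_left
  have hMne : M ≠ ⊤ := by
    intro htop
    have hDn : D.Normal := Subgroup.normalizer_eq_top_iff.1 htop
    rcases hDn.eq_bot_or_eq_top with h | h
    · exact hD h
    · apply hDP
      apply le_antisymm inf_le_left
      show (P : Subgroup G) ≤ D
      rw [h]; exact le_top
  -- the normal Sylow subgroup of `M`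
  obtain ⟨T⟩ : Nonempty (Sylow p ↥M) := inferInstance
  haveI hTn : (T : Subgroup ↥M).Normal := hsub M hMne T
  have hall : ∀ A : Subgroup G, A ≤ M → IsPGroup p ↥A → A ≤ (T : Subgroup ↥M).map M.subtype := by
    intro A hAM hA x hx
    have hA' : IsPGroup p ↥(A.subgroupOf M) := hA.comap_subtype
    obtain ⟨T', hT'⟩ := hA'.exists_le_sylow
    obtain ⟨m, hm⟩ := MulAction.exists_smul_eq ↥M T T'
    rw [Sylow.smul_eq_of_normal] at hm
    have : (⟨x, hAM hx⟩ : ↥M) ∈ (T' : Subgroup ↥M) := hT' (Subgroup.mem_subgroupOf.2 hx)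
    rw [← hm] at this
    exact ⟨_, this, rfl⟩
  have hTp : IsPGroup p ↥((T : Subgroup ↥M).map M.subtype) := T.isPGroup'.map _
  obtain ⟨P₁, hP₁⟩ := hTp.exists_le_sylow
  have hgrowP := Cfsg.Agent.S2013.normalizer_grow (p := p) P.isPGroup' (inf_le_left : D ≤ (P : Subgroup G)) hDP
  have hgrowQ := Cfsg.Agent.S2013.normalizer_grow (p := p) Q.isPGroup' (inf_le_right : D ≤ (Q : Subgroup G)) hDQ
  have hAP : (P : Subgroup G) ⊓ M ≤ (P₁ : Subgroup G) :=
    (hall _ inf_le_right (P.isPGroup'.to_le inf_le_left)).trans hP₁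
  have hAQ : (Q : Subgroup G) ⊓ M ≤ (P₁ : Subgroup G) :=
    (hall _ inf_le_right (Q.isPGroup'.to_le inf_le_left)).trans hP₁
  -- `P₁ = P`
  have key : ∀ R : Sylow p G, D < (R : Subgroup G) ⊓ M → (R : Subgroup G) ⊓ M ≤ (P₁ : Subgroup G) →
      Nat.card ↥(R : Subgroup G) - Nat.card ↥D = k → R = P₁ := by
    intro R hlt hle hRk
    by_contra hne
    have hle2 : (R : Subgroup G) ⊓ M ≤ (R : Subgroup G) ⊓ (P₁ : Subgroup G) := le_inf inf_le_left hle
    have hcardlt : Nat.card ↥D < Nat.card ↥((R : Subgroup G) ⊓ (P₁ : Subgroup G)) :=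
      lt_of_lt_of_le (Set.ncard_lt_ncard (show (D : Set G) ⊂ (((R : Subgroup G) ⊓ M : Subgroup G) : Set G) from SetLike.coe_ssubset_coe.2 hlt) (Set.toFinite _)) (Subgroup.card_le_of_le hle2)
    have hcardle : Nat.card ↥((R : Subgroup G) ⊓ (P₁ : Subgroup G)) ≤ Nat.card ↥(R : Subgroup G) :=
      Subgroup.card_le_of_le inf_le_left
    have hk' : Nat.card ↥(R : Subgroup G) - Nat.card ↥((R : Subgroup G) ⊓ (P₁ : Subgroup G)) < k := by
      rw [← hRk]
      have : 0 < Nat.card ↥D := Nat.card_pos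
      omega
    have h0 := ih _ hk' R P₁ hne rfl
    have : (R : Subgroup G) ⊓ M ≤ ⊥ := by rw [← h0]; exact hle2
    have h1 : D < ⊥ := lt_of_lt_of_le hlt this
    exact not_lt_bot h1
  have hcardPQ : Nat.card ↥(P : Subgroup G) = Nat.card ↥(Q : Subgroup G) := by
    rw [Sylow.card_eq_multiplicity, Sylow.card_eq_multiplicity]
  have e1 : P = P₁ := key P hgrowP hAP hk
  have e2 : Q = P₁ := key Q hgrowQ hAQ (by rw [← hcardPQ]; exact hk)
  exact hPQ (e1.trans e2.symm)

/-- Let G be a finite simple group whose Sylow p-subgroups are not normal but such that every proper subgroup of G has a normal Sylow p-subgroup. Then any two distinct Sylow p-subgroups of G intersect trivially, and for every Sylow p-subgroup P the normalizer of every non-identity subgroup of P lies in the normalizer of P. -/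
theorem result {G : Type*} [Group G] [Finite G] [IsSimpleGroup G] {p : ℕ} [Fact p.Prime]
    (hnc : ¬ Cfsg.IsPClosed p G) (hsub : ∀ H : Subgroup G, H ≠ ⊤ → Cfsg.IsPClosed p ↥H) :
    (∀ P Q : Sylow p G, P ≠ Q → (P : Subgroup G) ⊓ (Q : Subgroup G) = ⊥) ∧
      ∀ (P : Sylow p G) (R : Subgroup G), R ≤ P → R ≠ ⊥ →
        Subgroup.normalizer (R : Set G) ≤ Subgroup.normalizer ((P : Subgroup G) : Set G) := by
  classical
  have hTI : ∀ P Q : Sylow p G, P ≠ Q → (P : Subgroup G) ⊓ (Q : Subgroup G) = ⊥ :=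
    fun P Q hPQ => ti_aux hsub _ P Q hPQ rfl
  refine ⟨hTI, ?_⟩
  intro P R hRP hRne g hg
  have hiff := Sylow.smul_eq_iff_mem_normalizer (g := g) (P := P)
  apply hiff.1
  by_contra hne
  have h0 := hTI (g • P) P hne
  apply hRne
  rw [eq_bot_iff, ← h0]
  refine le_inf ?_ hRP
  intro r hr
  rw [Sylow.coe_subgroup_smul, Subgroup.mem_pointwise_smul_iff_inv_smul_mem]
  have hg' : g⁻¹ ∈ Subgroup.normalizer (R : Set G) := Subgroup.inv_mem _ hg
  have h1 : g⁻¹ * r * g⁻¹⁻¹ ∈ R := (Subgroup.mem_normalizer_iff.1 hg' r).1 hr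
  have h2 : (MulAut.conj g)⁻¹ • r = g⁻¹ * r * g⁻¹⁻¹ := by
    simp [MulAut.smul_def, MulAut.conj_apply]
  rw [h2]
  exact hRP h1

end Cfsg.Agent.S3870
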