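import Cfsg.Statements.S3873
import Mathlib
import Cfsg.Agent.H1.PExpClosed

set_option autoImplicit false
open Cfsg

namespace Cfsg.Agent.S3873

set_option autoImplicit false
open scoped Pointwise commutatorElement
open H1

/-- Say that a finite group is p-exponent closed when its elements of order dividing p form a subgroup. Let G be a finite group that is not p-exponent closed, but all of whose proper subgroups and proper quotients are, and suppose G is neither simple nor a p-group. Then there is a prime q ≠ p such that G has order p · q^e, where e is the multiplicative order of q modulo p, and G has a normal elementary abelian subgroup of order q^e that is a minimal normal subgroup of G. -/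
theorem result {G : Type*} [Group G] [Finite G] {p : ℕ} [Fact p.Prime]
    (hnc : ¬ (∃ H : Subgroup G, (H : Set G) = {g : G | g ^ p = 1})) (hsub : ∀ K : Subgroup G, K ≠ ⊤ → (∃ H : Subgroup ↥K, (H : Set ↥K) = {g : ↥K | g ^ p = 1}))
    (hquo : ∀ (N : Subgroup G) [N.Normal], N ≠ ⊥ → (∃ H : Subgroup (G ⧸ N), (H : Set (G ⧸ N)) = {g : (G ⧸ N) | g ^ p = 1}))
    (hns : ¬ IsSimpleGroup G) (hnp : ¬ IsPGroup p G) :
    ∃ q : ℕ, q.Prime ∧ q ≠ p ∧ Nat.card G = p * q ^ orderOf (q : ZMod p) ∧
      ∃ A : Subgroup G, A.Normal ∧ Nat.card ↥A = q ^ orderOf (q : ZMod p) ∧ Cfsg.IsElementaryAbelian q A ∧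
        ∀ B : Subgroup G, B.Normal → B ≤ A → B = ⊥ ∨ B = A := by
  have hp : p.Prime := Fact.out
  -- G is generated by elements of order dividing p
  obtain ⟨T, hT⟩ : ∃ T : Subgroup G, T = Subgroup.closure {g : G | g ^ p = 1} := ⟨_, rfl⟩
  have hTtop : T = ⊤ := by
    by_contra hTt
    obtain ⟨H, hH⟩ := hsub T hTt
    apply hnc
    refine ⟨H.map T.subtype, ?_⟩
    ext g
    constructor
    · rintro ⟨t, ht, rfl⟩
      have : t ∈ (H : Set T) := ht
      rw [hH] at this
      exact congrArg Subtype.val this
    · intro hg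
      have hgT : g ∈ T := by rw [hT]; exact Subgroup.subset_closure hg
      refine ⟨⟨g, hgT⟩, ?_, rfl⟩
      have : (⟨g, hgT⟩ : T) ∈ (H : Set T) := by
        rw [hH]; exact Subtype.ext hg
      exact this
  -- quotients by nontrivial normal subgroups have exponent p
  have hexp : ∀ N : Subgroup G, N.Normal → N ≠ ⊥ → ∀ g : G, g ^ p ∈ N := by
    intro N hN hNb
    obtain ⟨H, hH⟩ := hquo N hNb
    have hHtop : H = ⊤ := by
      rw [eq_top_iff, ← Subgroup.map_top_of_surjective (QuotientGroup.mk' N) (QuotientGroup.mk'_surjective N),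
        ← hTtop, hT, MonoidHom.map_closure, Subgroup.closure_le]
      rintro _ ⟨g, hg, rfl⟩
      rw [hH]
      show (QuotientGroup.mk' N g) ^ p = 1
      rw [← map_pow, hg, map_one]
    intro g
    have : (QuotientGroup.mk' N g) ∈ (H : Set (G ⧸ N)) := by rw [hHtop]; trivial
    rw [hH] at this
    have h2 : (QuotientGroup.mk' N g) ^ p = 1 := this
    rw [← map_pow, QuotientGroup.mk'_apply, QuotientGroup.eq_one_iff] at h2
    exact h2
  have hGnt : Nontrivial G := by
    by_contra h
    rw [not_nontrivial_iff_subsingleton] at h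
    apply hnc
    refine ⟨⊤, ?_⟩
    ext g
    simp only [Subgroup.coe_top, Set.mem_univ, true_iff]
    show g ^ p = 1
    exact Subsingleton.elim _ _
  obtain ⟨N, hNn, hNb, hNt⟩ : ∃ N : Subgroup G, N.Normal ∧ N ≠ ⊥ ∧ N ≠ ⊤ := by
    by_contra hcon
    push Not at hcon
    exact hns ⟨fun N hN => by
      by_cases hb : N = ⊥
      · exact Or.inl hb
      · exact Or.inr (hcon N hN hb)⟩
  -- N is a p'-group
  have hNp' : ¬ p ∣ Nat.card N := by
    intro hdiv
    obtain ⟨H, hH⟩ := hsub N hNt
    have hHmem : ∀ n : N, n ∈ H ↔ n ^ p = 1 := by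
      intro n; rw [← SetLike.mem_coe, hH]; rfl
    have hHchar : H.Characteristic := by
      constructor
      intro φ
      ext n
      rw [Subgroup.mem_comap, hHmem, hHmem, ← map_pow]
      constructor
      · intro h
        have h' : φ (n ^ p) = 1 := h
        exact φ.injective (by rw [h', map_one])
      · intro h; rw [h, map_one]
    have hMn : (H.map N.subtype).Normal := ConjAct.normal_of_characteristic_of_normal
    have hMb : H.map N.subtype ≠ ⊥ := by
      rw [Ne, Subgroup.map_eq_bot_iff_of_injective _ N.subtype_injective]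
      obtain ⟨x, hx⟩ := exists_prime_orderOf_dvd_card' p hdiv
      intro hb
      have : x ∈ H := by rw [hHmem, ← hx, pow_orderOf_eq_one]
      rw [hb, Subgroup.mem_bot] at this
      rw [this, orderOf_one] at hx
      exact hp.one_lt.ne hx
    have hMp : ∀ m ∈ H.map N.subtype, m ^ p = 1 := by
      rintro _ ⟨n, hn, rfl⟩
      rw [← map_pow, (hHmem n).mp hn, map_one]
    apply hnp
    intro g
    refine ⟨2, ?_⟩
    have := hMp _ (hexp _ hMn hMb g)
    rw [pow_two, pow_mul]; exact this
  -- p-elements have order dividing p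
  have hone : PExpOne p G := by
    rintro g ⟨k, hk⟩
    have h1 : g ^ p ∈ N := hexp N hNn hNb g
    have h2 : orderOf (g ^ p) ∣ Nat.card N := by
      have := orderOf_dvd_natCard (⟨g ^ p, h1⟩ : N)
      rwa [Subgroup.orderOf_mk] at this
    have h3 : orderOf (g ^ p) ∣ p ^ k := by
      apply orderOf_dvd_of_pow_eq_one
      rw [← pow_mul, mul_comm, pow_mul, hk, one_pow]
    have h4 : orderOf (g ^ p) = 1 := by
      apply Nat.eq_one_of_dvd_coprimes _ h3 h2
      exact Nat.Coprime.pow_left k ((Nat.Prime.coprime_iff_not_dvd hp).mpr hNp')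
    exact orderOf_eq_one_iff.mp h4
  apply Cfsg.Agent.S3868.result _ _ _ hns
  · intro hcl
    exact hnc (pExpClosed_of_isPClosed hone hcl)
  · intro K hK
    obtain ⟨H, hH⟩ := hsub K hK
    exact isPClosed_of_pExpClosed (pExpOne_subgroup hone K) H hH
  · intro M hM hMb
    obtain ⟨H, hH⟩ := hquo M hMb
    exact isPClosed_of_pExpClosed (pExpOne_quotient hone M) H hH

end Cfsg.Agent.S3873
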