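import Mathlib
import Cfsg.Statements.S3878

set_option autoImplicit false
open Cfsg

namespace Cfsg.Agent.S3878

/-- a `p`-subgroup can be conjugated into any subgroup of index prime to `p` -/
theorem exists_conj_mem {G : Type*} [Group G] [Finite G] {p : ℕ} [Fact p.Prime] (K H : Subgroup G)
    (hK : IsPGroup p K) (hH : ¬ p ∣ H.index) : ∃ g : G, ∀ k ∈ K, g⁻¹ * k * g ∈ H := by
  have h1 : ¬ p ∣ Nat.card (G ⧸ H) := by rwa [← Subgroup.index_eq_card]
  obtain ⟨x, hx⟩ := hK.nonempty_fixed_point_of_prime_not_dvd_card (G ⧸ H) h1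
  induction x using QuotientGroup.induction_on with
  | H g =>
    refine ⟨g, fun k hk => ?_⟩
    have h2 := hx ⟨k, hk⟩
    have h3 : ((k * g : G) : G ⧸ H) = (g : G ⧸ H) := h2
    rw [QuotientGroup.eq] at h3
    have h4 := H.inv_mem h3
    have h5 : ((k * g)⁻¹ * g)⁻¹ = g⁻¹ * k * g := by group
    rwa [h5] at h4

/-- conjugate subgroups have the same index -/
theorem index_conj {G : Type*} [Group G] (H : Subgroup G) (g : G) :
    (H.map (MulAut.conj g).toMonoidHom).index = H.index :=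
  Subgroup.index_map_of_bijective (MulAut.conj g).bijective H

theorem isPi_sylow {G : Type*} [Group G] [Finite G] (π : Set ℕ) {p : ℕ} [Fact p.Prime] (hp : p ∈ π)
    (P : Sylow p G) : IsPiSubgroup π (P : Subgroup G) := by
  intro q hq hqd
  obtain ⟨k, hk⟩ := IsPGroup.iff_card.mp P.2
  rw [hk] at hqd
  have := (Nat.prime_dvd_prime_iff_eq hq Fact.out).mp (hq.dvd_of_dvd_pow hqd)
  rw [this]; exact hp

/-- `D_π` implies `E_π` -/
theorem E_of_D {G : Type*} [Group G] [Finite G] (π : Set ℕ) (hD : IsDPiGroup π G) :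
    IsEPiGroup π G := by
  have hfin : {K : Subgroup G | IsPiSubgroup π K}.Finite := Set.toFinite _
  have hbot : (⊥ : Subgroup G) ∈ {K : Subgroup G | IsPiSubgroup π K} := by
    intro p hp hpd
    rw [Subgroup.card_bot] at hpd
    exact absurd (Nat.dvd_one.mp hpd) hp.one_lt.ne'
  obtain ⟨M, -, hM⟩ := hfin.exists_le_maximal hbot
  refine ⟨M, hM.prop, ?_⟩
  intro p hp hpπ
  have : Fact p.Prime := ⟨hp⟩
  obtain ⟨P⟩ : Nonempty (Sylow p G) := inferInstance
  have hP : (P : Subgroup G) ∈ {K : Subgroup G | IsPiSubgroup π K} := isPi_sylow π hpπ P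
  obtain ⟨M', hPM', hM'⟩ := hfin.exists_le_maximal hP
  obtain ⟨g, hg⟩ := hD M M' hM hM'
  have h1 : M'.index = M.index := by rw [hg, index_conj]
  rw [← h1]
  intro hd
  exact P.not_dvd_index (hd.trans (Subgroup.index_dvd_of_le hPM'))

/-- the easy direction for `E_π` -/
theorem E_of_trivial (π : Set ℕ)
    (h : (∀ p q : ℕ, p.Prime → q.Prime → p ∈ π → q ∈ π → p = q) ∨ ∀ p : ℕ, p.Prime → p ∈ π)
    (G : Type) [Group G] [Finite G] : IsEPiGroup π G := by
  rcases h with h | h
  · by_cases hex : ∃ p : ℕ, p.Prime ∧ p ∈ π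
    · obtain ⟨p, hp, hpπ⟩ := hex
      have : Fact p.Prime := ⟨hp⟩
      obtain ⟨P⟩ : Nonempty (Sylow p G) := inferInstance
      refine ⟨P, isPi_sylow π hpπ P, ?_⟩
      intro q hq hqπ
      rw [h q p hq hp hqπ hpπ]
      exact P.not_dvd_index
    · refine ⟨⊥, ?_, ?_⟩
      · intro p hp hpd
        rw [Subgroup.card_bot] at hpd
        exact absurd (Nat.dvd_one.mp hpd) hp.one_lt.ne'
      · intro p hp hpπ
        exact absurd ⟨p, hp, hpπ⟩ hex
  · refine ⟨⊤, fun p hp _ => h p hp, ?_⟩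
    intro p hp _
    rw [Subgroup.index_top]
    exact fun hd => hp.one_lt.ne' (Nat.dvd_one.mp hd)

/-- the easy direction for `D_π` -/
theorem D_of_trivial (π : Set ℕ)
    (h : (∀ p q : ℕ, p.Prime → q.Prime → p ∈ π → q ∈ π → p = q) ∨ ∀ p : ℕ, p.Prime → p ∈ π)
    (G : Type) [Group G] [Finite G] : IsDPiGroup π G := by
  intro H K hH hK
  rcases h with h | h
  · by_cases hex : ∃ p : ℕ, p.Prime ∧ p ∈ π
    · obtain ⟨p, hp, hpπ⟩ := hex
      have : Fact p.Prime := ⟨hp⟩
      -- π-subgroups are p-subgroups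
      have hpg : ∀ L : Subgroup G, IsPiSubgroup π L → IsPGroup p L := by
        intro L hL
        rw [IsPGroup.iff_card]
        refine ⟨(Nat.card L).factorization p, ?_⟩
        have hne : Nat.card L ≠ 0 := Nat.card_pos.ne'
        apply Nat.eq_pow_of_factorization_eq_single hne
        ext q
        by_cases hq : q = p
        · subst hq; simp
        · rw [Finsupp.single_apply, if_neg (Ne.symm hq)]
          by_cases hqp : q.Prime
          · apply Nat.factorization_eq_zero_of_not_dvd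
            intro hd
            exact hq (h q p hqp hp (hL q hqp hd) hpπ)
          · exact Nat.factorization_eq_zero_of_not_prime _ hqp
      have hsyl : ∀ L : Subgroup G, Maximal (IsPiSubgroup π) L → ∃ P : Sylow p G, (P : Subgroup G) = L := by
        intro L hL
        obtain ⟨P, hP⟩ := (hpg L hL.prop).exists_le_sylow
        exact ⟨P, le_antisymm (hL.le_of_ge (isPi_sylow π hpπ P) hP) hP⟩
      obtain ⟨P, rfl⟩ := hsyl H hH
      obtain ⟨Q, rfl⟩ := hsyl K hK
      obtain ⟨g, hg⟩ := MulAction.exists_smul_eq G P Q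
      refine ⟨g, ?_⟩
      rw [← hg]
      rfl
    · have hb : ∀ L : Subgroup G, IsPiSubgroup π L → L = ⊥ := by
        intro L hL
        rw [← Subgroup.card_eq_one]
        by_contra hne
        obtain ⟨q, hq, hqd⟩ := Nat.exists_prime_and_dvd hne
        exact hex ⟨q, hq, hL q hq hqd⟩
      rw [hb H hH.prop, hb K hK.prop]
      exact ⟨1, by simp⟩
  · have ht : ∀ L : Subgroup G, Maximal (IsPiSubgroup π) L → L = ⊤ := by
      intro L hL
      exact le_antisymm le_top (hL.le_of_ge (fun p hp _ => h p hp) le_top)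
    rw [ht H hH, ht K hK]
    exact ⟨1, by simp⟩


theorem card_perm_fin (n : ℕ) : Nat.card (Equiv.Perm (Fin n)) = n.factorial := by
  rw [Nat.card_perm, Nat.card_fin]

open Equiv Equiv.Perm in
theorem exists_full_cycle {q : ℕ} (hq : q.Prime) (π : Set ℕ) (hqπ : q ∈ π)
    (H : Subgroup (Perm (Fin q))) (hH : IsPiHall π H) :
    ∃ c ∈ H, c.IsCycle ∧ c.support = Finset.univ := by
  have : Fact q.Prime := ⟨hq⟩
  have h1 : q ∣ Nat.card H := by
    have h2 : Nat.card H * H.index = q.factorial := by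
      rw [Subgroup.card_mul_index, card_perm_fin]
    have h3 : q ∣ Nat.card H * H.index := by
      rw [h2]; exact Nat.dvd_factorial hq.pos le_rfl
    exact (hq.dvd_mul.mp h3).resolve_right (hH.2 q hq hqπ)
  obtain ⟨c, hc⟩ := exists_prime_orderOf_dvd_card' q h1
  refine ⟨c.1, c.2, ?_⟩
  have hc' : orderOf (c : Perm (Fin q)) = q := by
    rw [Subgroup.orderOf_coe]; exact hc
  have hcyc : (c : Perm (Fin q)).IsCycle :=
    isCycle_of_prime_order'' (by simpa using hq) (by simpa using hc')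
  refine ⟨hcyc, ?_⟩
  apply Finset.eq_univ_of_card
  rw [← hcyc.orderOf, hc']
  simp

open Equiv Equiv.Perm in
theorem hall_eq_top {q : ℕ} (hq : q.Prime) (π : Set ℕ) (hqπ : q ∈ π) (h2π : 2 ∈ π)
    (H : Subgroup (Perm (Fin q))) (hH : IsPiHall π H) : H = ⊤ := by
  obtain ⟨c, hcH, hcyc, hsupp⟩ := exists_full_cycle hq π hqπ H hH
  have hq2 : 2 ≤ q := hq.two_le
  let a : Fin q := ⟨0, by omega⟩
  let b : Fin q := ⟨1, by omega⟩
  have hab : a ≠ b := by simp [a, b, Fin.ext_iff]
  let τ : Perm (Fin q) := swap a b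
  have hτs : IsSwap τ := ⟨a, b, hab, rfl⟩
  have hτ : orderOf τ = 2 := IsSwap.orderOf hτs
  have hK : IsPGroup 2 (Subgroup.zpowers τ) := by
    apply IsPGroup.of_card (n := 1)
    rw [Nat.card_zpowers, hτ, pow_one]
  obtain ⟨g, hg⟩ := exists_conj_mem (p := 2) (Subgroup.zpowers τ) H hK
    (hH.2 2 Nat.prime_two h2π)
  have hτ' : g⁻¹ * τ * g ∈ H := hg τ (Subgroup.mem_zpowers τ)
  have hswap : (g⁻¹ * τ * g).IsSwap := by
    refine ⟨g⁻¹ a, g⁻¹ b, by simpa using hab, ?_⟩
    rw [Equiv.swap_apply_apply]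
    simp [τ]
  have hcl := closure_prime_cycle_swap (by simpa using hq) hcyc hsupp hswap
  rw [eq_top_iff, ← hcl, Subgroup.closure_le]
  intro x hx
  rcases hx with rfl | hx
  · exact hcH
  · rw [Set.mem_singleton_iff] at hx
    rw [hx]; exact hτ'

open Equiv Equiv.Perm MulAction in
theorem two_mem_of_lt {p q : ℕ} (hp : p.Prime) (hq : q.Prime) (hpq : p < q) (π : Set ℕ)
    (hpπ : p ∈ π) (hqπ : q ∈ π) (H : Subgroup (Perm (Fin q))) (hH : IsPiHall π H) : 2 ∈ π := by
  obtain ⟨c, hcH, hcyc, hsupp⟩ := exists_full_cycle hq π hqπ H hH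
  have hmoved : ∀ x : Fin q, c x ≠ x := by
    intro x
    rw [← Equiv.Perm.mem_support, hsupp]
    exact Finset.mem_univ x
  have htrans : IsPretransitive H (Fin q) := by
    constructor
    intro x y
    obtain ⟨i, hi⟩ := hcyc.exists_pow_eq (hmoved x) (hmoved y)
    exact ⟨⟨c, hcH⟩ ^ i, by simpa using hi⟩
  have hprim : IsPreprimitive H (Fin q) :=
    IsPreprimitive.of_prime_card (by simpa using hq)
  have : NeZero q := ⟨hq.ne_zero⟩
  have : Fact p.Prime := ⟨hp⟩
  have hp2 : 2 ≤ p := hp.two_le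
  let i₀ : Fin q := ⟨p - 1, by omega⟩
  have hi₀ : i₀ ≠ 0 := by
    intro h
    have := congrArg Fin.val h
    simp [i₀] at this
    omega
  let g₀ : Perm (Fin q) := Fin.cycleRange i₀
  have hg₀c : g₀.IsCycle := Fin.isCycle_cycleRange hi₀
  have hg₀t : g₀.cycleType = {p} := by
    rw [Fin.cycleType_cycleRange hi₀]
    have : (i₀ : ℕ) + 1 = p := by simp [i₀]; omega
    rw [this]
  have hord : orderOf g₀ = p := by
    rw [← Equiv.Perm.lcm_cycleType, hg₀t]
    simp
  have hg₀s : g₀.support.card = p := by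
    rw [← Equiv.Perm.sum_cycleType, hg₀t]
    simp
  have hK : IsPGroup p (Subgroup.zpowers g₀) := by
    apply IsPGroup.of_card (n := 1)
    rw [Nat.card_zpowers, hord, pow_one]
  obtain ⟨x, hx⟩ := exists_conj_mem (Subgroup.zpowers g₀) H hK (hH.2 p hp hpπ)
  have hgH : x⁻¹ * g₀ * x ∈ H := hx g₀ (Subgroup.mem_zpowers g₀)
  have hgc : (x⁻¹ * g₀ * x).IsCycle := by
    have := hg₀c.conj (g := x⁻¹)
    simpa using this
  have hgs : (x⁻¹ * g₀ * x).support.card = p := by
    have := card_support_conj (σ := x⁻¹) (τ := g₀)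
    rw [inv_inv] at this
    rw [this, hg₀s]
  have hJ := Equiv.Perm.isPretransitive_of_isCycle_mem hgc hgH
  have hsn : (((x⁻¹ * g₀ * x).support : Set (Fin q))ᶜ).ncard = (q - p - 1) + 1 := by
    have h1 := Set.ncard_add_ncard_compl ((x⁻¹ * g₀ * x).support : Set (Fin q))
    rw [Set.ncard_coe_finset, hgs, Nat.card_fin] at h1
    omega
  have hsn' : (q - p - 1) + 2 < Nat.card (Fin q) := by
    rw [Nat.card_fin]; omega
  have h2 : IsMultiplyPretransitive H (Fin q) 2 := hprim.is_two_pretransitive hsn hsn' hJ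
  have hq2 : 2 ≤ q := hq.two_le
  let a : Fin q := ⟨0, by omega⟩
  let b : Fin q := ⟨1, by omega⟩
  have hab : a ≠ b := by simp [a, b, Fin.ext_iff]
  obtain ⟨h, ha, hb⟩ := (is_two_pretransitive_iff.mp h2) hab hab.symm
  have heven : 2 ∣ orderOf h := by
    by_contra hodd
    have hodd' : Odd (orderOf h) := Nat.odd_iff.mpr (by omega)
    obtain ⟨k, hk⟩ := hodd'
    have h2a : (h ^ 2) • a = a := by rw [pow_two, mul_smul, ha, hb]
    have hstab : h ^ 2 ∈ stabilizer H a := h2a
    have hstab' : (h ^ 2) ^ k ∈ stabilizer H a := Subgroup.pow_mem _ hstab k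
    have h3 : ((h ^ 2) ^ k) • a = a := hstab'
    have h4 : h ^ (2 * k + 1) = 1 := by rw [← hk]; exact pow_orderOf_eq_one h
    have h5 : (h ^ (2 * k + 1)) • a = b := by
      rw [pow_succ', pow_mul, mul_smul, h3, ha]
    rw [h4, one_smul] at h5
    exact hab h5
  have hd : 2 ∣ Nat.card H := heven.trans (orderOf_dvd_natCard h)
  exact hH.1 2 Nat.prime_two hd


open Equiv Equiv.Perm in
theorem no_hall (r : ℕ) (hr : r.Prime) (hr5 : 5 ≤ r) (π : Set ℕ) (hrπ : r ∉ π)
    (hmin : ∀ s : ℕ, s.Prime → s < r → s ∈ π)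
    (K : Subgroup (Perm (Fin (r + 1)))) (hK : IsPiHall π K) : False := by
  have hcard : Nat.card K * K.index = (r + 1).factorial := by
    rw [Subgroup.card_mul_index, card_perm_fin]
  have hrK : ¬ r ∣ Nat.card K := fun h => hrπ (hK.1 r hr h)
  have hrI : r ∣ K.index := by
    have h3 : r ∣ Nat.card K * K.index := by
      rw [hcard]; exact Nat.dvd_factorial hr.pos (by omega)
    exact (hr.dvd_mul.mp h3).resolve_left hrK
  have hfac : (r + 1).factorial = r * ((r - 1).factorial * (r + 1)) := by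
    obtain ⟨t, rfl⟩ : ∃ t, r = t + 1 := ⟨r - 1, by omega⟩
    rw [Nat.factorial_succ, Nat.factorial_succ]
    simp only [Nat.add_sub_cancel]
    ring
  have hcop : Nat.Coprime K.index ((r - 1).factorial * (r + 1)) := by
    apply Nat.coprime_of_dvd
    intro s hs hsI hsm
    have hslt : s < r := by
      rcases (hs.dvd_mul).mp hsm with h | h
      · have := (hs.dvd_factorial).mp h
        omega
      · -- s ∣ r + 1, r + 1 even
        have hodd : r % 2 = 1 := by
          rcases hr.eq_two_or_odd with h2 | h2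
          · omega
          · exact h2
        obtain ⟨m, hm⟩ : ∃ m, r + 1 = 2 * m := ⟨(r + 1) / 2, by omega⟩
        rw [hm] at h
        rcases (hs.dvd_mul).mp h with h' | h'
        · have := Nat.le_of_dvd (by norm_num) h'
          omega
        · have := Nat.le_of_dvd (by omega) h'
          omega
    exact hK.2 s hs (hmin s hs hslt) hsI
  have hIr : K.index ∣ r := by
    have h1 : K.index ∣ r * ((r - 1).factorial * (r + 1)) := by
      rw [← hfac, ← hcard]; exact Dvd.intro_left _ rfl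
    exact hcop.dvd_of_dvd_mul_right h1
  have hidx : K.index = r := Nat.dvd_antisymm hIr hrI
  have hnorm : (K.normalCore).Normal := Subgroup.normalCore_normal K
  by_cases hN : K.normalCore = ⊥
  · have hinj : Function.Injective (MulAction.toPermHom (Perm (Fin (r + 1))) (Perm (Fin (r + 1)) ⧸ K)) := by
      rw [← MonoidHom.ker_eq_bot_iff, ← Subgroup.normalCore_eq_ker, hN]
    have hfinq : Finite (Perm (Fin (r + 1)) ⧸ K) := inferInstance
    have hle := Nat.card_le_card_of_injective _ hinj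
    rw [card_perm_fin, Nat.card_perm, ← Subgroup.index_eq_card, hidx, Nat.factorial_succ] at hle
    have hpos : 0 < r.factorial := Nat.factorial_pos r
    nlinarith
  · have hnt : Nontrivial K.normalCore := (Subgroup.nontrivial_iff_ne_bot _).mpr hN
    have hα : 5 ≤ Nat.card (Fin (r + 1)) := by rw [Nat.card_fin]; omega
    have hle : alternatingGroup (Fin (r + 1)) ≤ K.normalCore :=
      alternatingGroup_le_of_normal hα hnt
    have hle' : alternatingGroup (Fin (r + 1)) ≤ K := hle.trans (Subgroup.normalCore_le K)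
    have hd := Subgroup.index_dvd_of_le hle'
    have : Nontrivial (Fin (r + 1)) := Fin.nontrivial_iff_two_le.mpr (by omega)
    rw [alternatingGroup.index_eq_two, hidx] at hd
    have := Nat.le_of_dvd (by norm_num) hd
    omega

theorem trivial_of_E (π : Set ℕ) (hE : ∀ (G : Type) [Group G] [Finite G], IsEPiGroup π G) :
    (∀ p q : ℕ, p.Prime → q.Prime → p ∈ π → q ∈ π → p = q) ∨ ∀ p : ℕ, p.Prime → p ∈ π := by
  by_contra hcon
  rw [not_or] at hcon
  obtain ⟨h1, h2⟩ := hcon
  have hex : ∃ p q : ℕ, p.Prime ∧ q.Prime ∧ p ∈ π ∧ q ∈ π ∧ p < q := by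
    by_contra hno
    apply h1
    intro p q hp hq hpπ hqπ
    by_contra hne
    rcases Nat.lt_or_gt_of_ne hne with h | h
    · exact hno ⟨p, q, hp, hq, hpπ, hqπ, h⟩
    · exact hno ⟨q, p, hq, hp, hqπ, hpπ, h⟩
  obtain ⟨p, q, hp, hq, hpπ, hqπ, hpq⟩ := hex
  have hr : ∃ r : ℕ, r.Prime ∧ r ∉ π := by
    by_contra hno
    apply h2
    intro r hr
    by_contra hrπ
    exact hno ⟨r, hr, hrπ⟩
  obtain ⟨H, hH⟩ := hE (Equiv.Perm (Fin q))
  have h2π : 2 ∈ π := two_mem_of_lt hp hq hpq π hpπ hqπ H hH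
  have hseg : ∀ q' : ℕ, q'.Prime → q' ∈ π → ∀ r : ℕ, r.Prime → r ≤ q' → r ∈ π := by
    intro q' hq' hq'π r hr hrq
    obtain ⟨H', hH'⟩ := hE (Equiv.Perm (Fin q'))
    have htop := hall_eq_top hq' π hq'π h2π H' hH'
    apply hH'.1 r hr
    rw [htop, Subgroup.card_top, card_perm_fin]
    exact Nat.dvd_factorial hr.pos hrq
  classical
  have hrp : (Nat.find hr).Prime := (Nat.find_spec hr).1
  have hrπ : Nat.find hr ∉ π := (Nat.find_spec hr).2
  have hmin : ∀ s : ℕ, s.Prime → s < Nat.find hr → s ∈ π := by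
    intro s hs hsr
    by_contra hsπ
    exact Nat.find_min hr hsr ⟨hs, hsπ⟩
  have hlt : ∀ s : ℕ, s.Prime → s ∈ π → s < Nat.find hr := by
    intro s hs hsπ
    by_contra hge
    exact hrπ (hseg s hs hsπ _ hrp (by omega))
  have hqr : q < Nat.find hr := hlt q hq hqπ
  have hr5 : 5 ≤ Nat.find hr := by
    have := hp.two_le
    have hr4 : Nat.find hr ≠ 4 := by
      intro h
      rw [h] at hrp
      exact absurd hrp (by decide)
    omega
  obtain ⟨K, hK⟩ := hE (Equiv.Perm (Fin (Nat.find hr + 1)))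
  exact no_hall _ hrp hr5 π hrπ hmin K hK

/-- For a set of primes π the following are equivalent: every finite group has a Hall π-subgroup; in every finite group the maximal π-subgroups are pairwise conjugate; π contains at most one prime or contains every prime. -/
theorem result (π : Set ℕ) :
    ((∀ (G : Type) [Group G] [Finite G], Cfsg.IsEPiGroup π G) ↔
      ((∀ p q : ℕ, p.Prime → q.Prime → p ∈ π → q ∈ π → p = q) ∨ ∀ p : ℕ, p.Prime → p ∈ π)) ∧
    ((∀ (G : Type) [Group G] [Finite G], Cfsg.IsDPiGroup π G) ↔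
      ((∀ p q : ℕ, p.Prime → q.Prime → p ∈ π → q ∈ π → p = q) ∨ ∀ p : ℕ, p.Prime → p ∈ π)) := by
  refine ⟨⟨trivial_of_E π, fun h G _ _ => E_of_trivial π h G⟩, ⟨fun hD => ?_, fun h G _ _ => D_of_trivial π h G⟩⟩
  apply trivial_of_E π
  intro G _ _
  exact E_of_D π (hD G)

end Cfsg.Agent.S3878
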