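import Cfsg.Statements.S3889
import Mathlib
import Cfsg.Agent.H1.Basic

set_option autoImplicit false
open Cfsg

namespace Cfsg.Agent.S3889

open Cfsg.Agent.H1

/-- A finite abelian group that is the union of a family of proper subgroups any two of which intersect trivially is elementary abelian: its exponent is a prime. -/
theorem result {G : Type*} [CommGroup G] [Finite G] (𝓑 : Set (Subgroup G)) (hprop : ∀ B ∈ 𝓑, B ≠ ⊤)
    (hcov : ∀ g : G, ∃ B ∈ 𝓑, g ∈ B) (hdisj : ∀ B ∈ 𝓑, ∀ C ∈ 𝓑, B ≠ C → B ⊓ C = ⊥) :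
    (Monoid.exponent G).Prime := by
  -- key lemma
  have key : ∀ B ∈ 𝓑, ∀ x ∈ B, x ≠ 1 → ∀ y, y ∉ B → x ^ orderOf y = 1 := by
    intro B hB x hx hx1 y hy
    by_contra hne
    obtain ⟨C, hC, hxy⟩ := hcov (x * y)
    have h1 : (x * y) ^ orderOf y = x ^ orderOf y := by
      rw [mul_pow, pow_orderOf_eq_one, mul_one]
    have h2 : x ^ orderOf y ∈ C := by rw [← h1]; exact pow_mem hxy _
    have h3 : x ^ orderOf y ∈ B := pow_mem hx _
    have hBC : B = C := by
      by_contra hBC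
      have := hdisj B hB C hC hBC
      have h4 : x ^ orderOf y ∈ B ⊓ C := Subgroup.mem_inf.mpr ⟨h3, h2⟩
      rw [this, Subgroup.mem_bot] at h4
      exact hne h4
    apply hy
    have : y = x⁻¹ * (x * y) := by group
    rw [this, hBC]
    exact mul_mem (inv_mem (hBC ▸ hx)) hxy
  have lemA : ∀ B ∈ 𝓑, ∀ x ∈ B, x ≠ 1 → ∀ y, y ∉ B → orderOf x = orderOf y := by
    intro B hB x hx hx1 y hy
    have hy1 : y ≠ 1 := fun h => hy (h ▸ one_mem B)
    obtain ⟨C, hC, hyC⟩ := hcov y
    have hBC : C ≠ B := fun h => hy (h ▸ hyC)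
    have hxC : x ∉ C := by
      intro hxC
      have h4 : x ∈ C ⊓ B := Subgroup.mem_inf.mpr ⟨hxC, hx⟩
      rw [hdisj C hC B hB hBC, Subgroup.mem_bot] at h4
      exact hx1 h4
    apply Nat.dvd_antisymm
    · exact orderOf_dvd_of_pow_eq_one (key B hB x hx hx1 y hy)
    · exact orderOf_dvd_of_pow_eq_one (key C hC y hyC hy1 x hxC)
  have lemB : ∀ x x' : G, x ≠ 1 → x' ≠ 1 → orderOf x = orderOf x' := by
    intro x x' hx1 hx'1
    obtain ⟨B, hB, hxB⟩ := hcov x
    by_cases hx' : x' ∈ B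
    · have : ∃ y, y ∉ B := by
        by_contra hcon
        push Not at hcon
        exact hprop B hB (eq_top_iff.mpr (fun y _ => hcon y))
      obtain ⟨y, hy⟩ := this
      rw [lemA B hB x hxB hx1 y hy, lemA B hB x' hx' hx'1 y hy]
    · exact lemA B hB x hxB hx1 x' hx'
  -- G nontrivial
  have hnt : Nontrivial G := by
    by_contra hcon
    rw [not_nontrivial_iff_subsingleton] at hcon
    obtain ⟨B, hB, _⟩ := hcov 1
    exact hprop B hB (Subsingleton.elim _ _)
  obtain ⟨x₀, hx₀⟩ := exists_ne (1 : G)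
  have hn1 : orderOf x₀ ≠ 1 := by rw [Ne, orderOf_eq_one_iff]; exact hx₀
  have hn0 : orderOf x₀ ≠ 0 := (orderOf_pos x₀).ne'
  have hprime : (orderOf x₀).Prime := by
    have hq := Nat.minFac_prime hn1
    have hqd := Nat.minFac_dvd (orderOf x₀)
    have h1 := orderOf_pow_orderOf_div hn0 hqd
    have h2 : x₀ ^ (orderOf x₀ / (orderOf x₀).minFac) ≠ 1 := by
      intro h
      rw [h, orderOf_one] at h1
      exact hq.one_lt.ne h1
    have h3 := lemB _ _ h2 hx₀
    rw [h1] at h3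
    rw [← h3]; exact hq
  have := (Monoid.exponent_eq_prime_iff hprime).mpr (fun g hg => lemB g x₀ hg hx₀)
  rw [this]; exact hprime

end Cfsg.Agent.S3889
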