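import Cfsg.Statements.S3893
import Cfsg.Agent.Lib.Helper5.SuzukiCover
import Cfsg.Agent.Lib.Helper5.SuzukiBridge
import Mathlib

set_option autoImplicit false
open Cfsg

namespace Cfsg.Agent.S3893
open Cfsg.Agent.Lib.Helper5.Suzuki

/-- A cover of a group is a finite set of proper subgroups whose union is the whole group; it is minimal when no cover has fewer members, and nilpotent when all its members are nilpotent. The Suzuki groups Sz(q), q = 2^(2m+1) with m ≥ 1, have no nilpotent minimal cover. -/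
theorem result {F : Type*} [Field F] [Fintype F] (m : ℕ) (hm : 1 ≤ m) (hF : Fintype.card F = 2 ^ (2 * m + 1)) :
    ¬ ∃ 𝓐 : Finset (Subgroup ↥(Cfsg.Lie.Sz F (2 ^ (m + 1)))), ((∀ A ∈ 𝓐, A ≠ ⊤) ∧ (∀ g : ↥(Cfsg.Lie.Sz F (2 ^ (m + 1))), ∃ A ∈ 𝓐, g ∈ A)) ∧ (∀ 𝓑 : Finset (Subgroup ↥(Cfsg.Lie.Sz F (2 ^ (m + 1)))), (∀ A ∈ 𝓑, A ≠ ⊤) ∧ (∀ g : ↥(Cfsg.Lie.Sz F (2 ^ (m + 1))), ∃ A ∈ 𝓑, g ∈ A) → 𝓐.card ≤ 𝓑.card) ∧ (∀ A ∈ 𝓐, Group.IsNilpotent ↥A) := by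
  classical
  haveI : CharP F 2 := charP_of_card hF
  rintro ⟨𝓐, ⟨hprop, hcov⟩, hmin, hnil⟩
  let e : ↥(Cfsg.Lie.Sz F (2 ^ (m + 1))) ≃* ↥(Cfsg.Sz F m) :=
    Cfsg.Agent.Lib.Helper5.SuzukiBridge.lieSzEquiv hm hF
  let 𝓐' : Finset (Subgroup ↥(Cfsg.Sz F m)) := 𝓐.image (Subgroup.map e.toMonoidHom)
  have hcov' : ∀ g : ↥(Cfsg.Sz F m), ∃ A ∈ 𝓐', g ∈ A := by
    intro g
    obtain ⟨A, hA, hgA⟩ := hcov (e.symm g)
    refine ⟨A.map e.toMonoidHom, Finset.mem_image.2 ⟨A, hA, rfl⟩, ?_⟩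
    exact ⟨e.symm g, hgA, e.apply_symm_apply g⟩
  have hnil' : ∀ A ∈ 𝓐', Group.IsNilpotent A := by
    intro A' hA'
    obtain ⟨A, hA, rfl⟩ := Finset.mem_image.1 hA'
    haveI := hnil A hA
    exact Group.nilpotent_of_mulEquiv (e.subgroupMap A)
  obtain ⟨𝓑', hB1, hB2, hB3⟩ := exists_smaller_cover m hF hm 𝓐' hcov' hnil'
  let 𝓑 : Finset (Subgroup ↥(Cfsg.Lie.Sz F (2 ^ (m + 1)))) :=
    𝓑'.image (Subgroup.comap e.toMonoidHom)
  have h1 : 𝓐.card ≤ 𝓑.card := by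
    apply hmin
    constructor
    · intro B hB
      obtain ⟨B', hB', rfl⟩ := Finset.mem_image.1 hB
      intro htop
      apply hB1 B' hB'
      rw [eq_top_iff]
      intro g _
      have : e.symm g ∈ B'.comap e.toMonoidHom := by rw [htop]; exact Subgroup.mem_top _
      rw [Subgroup.mem_comap] at this
      have h2 : e.toMonoidHom (e.symm g) = g := e.apply_symm_apply g
      rwa [h2] at this
    · intro g
      obtain ⟨B', hB', hg⟩ := hB2 (e g)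
      exact ⟨B'.comap e.toMonoidHom, Finset.mem_image.2 ⟨B', hB', rfl⟩, hg⟩
  have h2 : 𝓑.card ≤ 𝓑'.card := Finset.card_image_le
  have h3 : 𝓐'.card ≤ 𝓐.card := Finset.card_image_le
  omega

end Cfsg.Agent.S3893
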