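import Cfsg.Statements.S3908
import Mathlib
import Cfsg.Agent.H1.AbConj

set_option autoImplicit false
open Cfsg

namespace Cfsg.Agent.S3908

set_option autoImplicit false
open scoped Pointwise commutatorElement
open H1

/-- Let G be a finite group in which any two abelian subgroups of the same order are conjugate. Then a Sylow 2-subgroup of G is cyclic, elementary abelian or generalized quaternion, and for an odd prime p a Sylow p-subgroup of G is cyclic or has exponent dividing p. -/
theorem result {G : Type*} [Group G] [Finite G] (hB : ∀ A B : Subgroup G, IsMulCommutative ↥A → IsMulCommutative ↥B → Nat.card ↥A = Nat.card ↥B → ∃ g : G, B = A.map (MulAut.conj g).toMonoidHom) :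
    (∀ P : Sylow 2 G, IsCyclic ↥(P : Subgroup G) ∨ Cfsg.IsElementaryAbelian 2 (P : Subgroup G) ∨ ∃ k : ℕ, Nonempty (↥(P : Subgroup G) ≃* QuaternionGroup (2 ^ k))) ∧
    ∀ (p : ℕ) [Fact p.Prime], p ≠ 2 → ∀ P : Sylow p G, IsCyclic ↥(P : Subgroup G) ∨ ∀ x ∈ (P : Subgroup G), x ^ p = 1 := by
  constructor
  · intro P
    have : Fact (Nat.Prime 2) := ⟨Nat.prime_two⟩
    by_cases h : ∀ x ∈ (P : Subgroup G), x ^ 2 = 1
    · right; left
      refine ⟨⟨⟨?_⟩⟩, h⟩
      rintro ⟨a, ha⟩ ⟨b, hb⟩
      apply Subtype.ext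
      show a * b = b * a
      have h1 := h a ha
      have h2 := h b hb
      have h3 := h (a * b) (mul_mem ha hb)
      have ia : a⁻¹ = a := by rw [inv_eq_iff_mul_eq_one, ← pow_two]; exact h1
      have ib : b⁻¹ = b := by rw [inv_eq_iff_mul_eq_one, ← pow_two]; exact h2
      have iab : (a * b)⁻¹ = a * b := by rw [inv_eq_iff_mul_eq_one, ← pow_two]; exact h3
      rw [← iab, mul_inv_rev, ia, ib]
    · push Not at h
      have huniq := unique_order_p_of_abConj hB P h
      rcases Cfsg.Agent.H2.UOP.main 2 P.isPGroup' huniq with hc | ⟨-, n, hn⟩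
      · exact Or.inl hc
      · exact Or.inr (Or.inr ⟨n, hn⟩)
  · intro p hp hp2 P
    by_cases h : ∀ x ∈ (P : Subgroup G), x ^ p = 1
    · exact Or.inr h
    · push Not at h
      have huniq := unique_order_p_of_abConj hB P h
      rcases Cfsg.Agent.H2.UOP.main p P.isPGroup' huniq with hc | ⟨h2, -⟩
      · exact Or.inl hc
      · exact absurd h2 hp2

end Cfsg.Agent.S3908
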