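import Cfsg.Statements.S3909
import Mathlib

set_option autoImplicit false
open Cfsg

namespace Cfsg.Agent.S3909



/-- Let G be a finite group in which any two abelian subgroups of the same order are conjugate. Let M be a normal subgroup of G. If M contains an element of the same order as a ∈ G, then a ∈ M; and if M is elementary abelian of order p^t with p prime and t ≥ 2, then M is the unique Sylow p-subgroup of G. -/
theorem result {G : Type*} [Group G] [Finite G] (hB : ∀ A B : Subgroup G, IsMulCommutative ↥A → IsMulCommutative ↥B → Nat.card ↥A = Nat.card ↥B → ∃ g : G, B = A.map (MulAut.conj g).toMonoidHom) (M : Subgroup G) [M.Normal] :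
    (∀ a : G, (∃ m ∈ M, orderOf m = orderOf a) → a ∈ M) ∧
    ∀ (p t : ℕ) [Fact p.Prime], 2 ≤ t → Nat.card ↥M = p ^ t → Cfsg.IsElementaryAbelian p M → ∀ P : Sylow p G, (P : Subgroup G) = M := by

  classical
  have part1 : ∀ a : G, (∃ m ∈ M, orderOf m = orderOf a) → a ∈ M := by
    rintro a ⟨m, hm, hma⟩
    obtain ⟨g, hg⟩ := hB (Subgroup.zpowers m) (Subgroup.zpowers a) inferInstance inferInstance
      (by rw [Nat.card_zpowers, Nat.card_zpowers, hma])
    have ha : a ∈ (Subgroup.zpowers m).map (MulAut.conj g).toMonoidHom := by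
      rw [← hg]; exact Subgroup.mem_zpowers a
    obtain ⟨x, hx, rfl⟩ := ha
    have hxM : x ∈ M := (Subgroup.zpowers_le.mpr hm) hx
    change (MulAut.conj g) x ∈ M
    rw [MulAut.conj_apply]
    exact Subgroup.Normal.conj_mem inferInstance x hxM g
  refine ⟨part1, ?_⟩
  intro p t _ ht hcard hM P
  have hp : p.Prime := Fact.out
  have hMp : IsPGroup p M := IsPGroup.of_card hcard
  apply le_antisymm
  · -- P ≤ M
    intro x hx
    obtain ⟨k, hk⟩ := (IsPGroup.iff_orderOf.mp P.isPGroup') ⟨x, hx⟩
    rw [Subgroup.orderOf_mk] at hk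
    -- an element of order p in M
    have hpdvd : p ∣ Nat.card M := by
      rw [hcard]; exact dvd_pow_self p (by omega)
    obtain ⟨m, hm⟩ := exists_prime_orderOf_dvd_card' (G := M) p hpdvd
    rcases Nat.lt_or_ge k 2 with hk2 | hk2
    · interval_cases k
      · rw [pow_zero, orderOf_eq_one_iff] at hk
        rw [hk]; exact M.one_mem
      · rw [pow_one] at hk
        apply part1 x
        refine ⟨(m : G), m.2, ?_⟩
        rw [Subgroup.orderOf_coe, hm, hk]
    · exfalso
      set y := x ^ (p ^ (k - 2)) with hy
      have hyord : orderOf y = p ^ 2 := by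
        rw [hy, orderOf_pow_of_dvd (pow_ne_zero _ hp.ne_zero) (by rw [hk]; exact pow_dvd_pow p (by omega)), hk]
        rw [Nat.pow_div (by omega) hp.pos]
        congr 1; omega
      obtain ⟨K, hK⟩ := Sylow.exists_subgroup_card_pow_prime (G := M) p
        (show p ^ 2 ∣ Nat.card M by rw [hcard]; exact pow_dvd_pow p ht)
      set B : Subgroup G := K.map M.subtype with hBdef
      have hBM : B ≤ M := Subgroup.map_subtype_le K
      have hBcard : Nat.card B = p ^ 2 := by
        rw [hBdef, Subgroup.card_map_of_injective M.subtype_injective, hK]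
      have hMc := hM.1
      have hBc : IsMulCommutative B := by
        refine ⟨⟨fun a b => ?_⟩⟩
        apply Subtype.ext
        have := hMc.is_comm.comm ⟨(a : G), hBM a.2⟩ ⟨(b : G), hBM b.2⟩
        have h := congrArg (Subtype.val : ↥M → G) this
        exact h
      obtain ⟨g, hg⟩ := hB (Subgroup.zpowers y) B inferInstance hBc
        (by rw [Nat.card_zpowers, hyord, hBcard])
      have h1 : (MulAut.conj g) y ∈ B := by
        rw [hg]
        exact Subgroup.mem_map_of_mem _ (Subgroup.mem_zpowers y)
      have h2 : ((MulAut.conj g) y) ^ p = 1 := hM.2 _ (hBM h1)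
      rw [← map_pow] at h2
      have h3 : y ^ p = 1 := by
        have := (MulAut.conj g).injective (h2.trans (map_one (MulAut.conj g)).symm)
        exact this
      have h4 : p ^ 2 ∣ p := by rw [← hyord]; exact orderOf_dvd_of_pow_eq_one h3
      have h5 : p ^ 2 ≤ p := Nat.le_of_dvd hp.pos h4
      have h6 : 2 ≤ p := hp.two_le
      nlinarith
  · exact hMp.le_sylow_of_normal P

end Cfsg.Agent.S3909
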