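import Cfsg.Statements.S3910
import Mathlib
import Cfsg.Agent.H1.NilpotentConj

set_option autoImplicit false
open Cfsg

namespace Cfsg.Agent.S3910

set_option autoImplicit false
open scoped Pointwise commutatorElement
open H1

/-- A finite nilpotent group in which any two abelian subgroups of the same order are conjugate is cyclic. -/
theorem result {G : Type*} [Group G] [Finite G] (hB : ∀ A B : Subgroup G, IsMulCommutative ↥A → IsMulCommutative ↥B → Nat.card ↥A = Nat.card ↥B → ∃ g : G, B = A.map (MulAut.conj g).toMonoidHom) (hnil : Group.IsNilpotent G) : IsCyclic G := by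
  have hZ : IsZGroup G := by
    refine ⟨fun p hp P => ?_⟩
    have : Fact p.Prime := ⟨hp⟩
    by_contra hnc
    obtain ⟨x, y, M, hMn, hyM, hxM, hxy⟩ := exists_separated_same_order (P := P) P.isPGroup' hnc
    have hcard : Nat.card (Subgroup.zpowers (y : G)) = Nat.card (Subgroup.zpowers (x : G)) := by
      rw [Nat.card_zpowers, Nat.card_zpowers, Subgroup.orderOf_coe, Subgroup.orderOf_coe, hxy]
    obtain ⟨g, hg⟩ := hB (Subgroup.zpowers (y : G)) (Subgroup.zpowers (x : G)) inferInstance inferInstance hcard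
    obtain ⟨u, hu, hconj⟩ := exists_conj_eq_of_nilpotent P g
    have hx : (x : G) ∈ (Subgroup.zpowers (y : G)).map (MulAut.conj g).toMonoidHom := by
      rw [← hg]; exact Subgroup.mem_zpowers _
    obtain ⟨z, hz, hzx⟩ := hx
    obtain ⟨k, rfl⟩ := Subgroup.mem_zpowers_iff.mp hz
    have h1 : (x : G) = g * (y : G) ^ k * g⁻¹ := by
      rw [← hzx]; rfl
    have hyk : ((y : G) ^ k) ∈ (P : Subgroup G) := (P : Subgroup G).zpow_mem y.2 k
    rw [hconj _ hyk] at h1
    apply hxM
    have h2 : x = (⟨u, hu⟩ : P) * y ^ k * (⟨u, hu⟩ : P)⁻¹ := by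
      apply Subtype.ext
      rw [h1]
      simp
    rw [h2]
    exact hMn.conj_mem _ (M.zpow_mem hyM k) _
  infer_instance

end Cfsg.Agent.S3910
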