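import Cfsg.Statements.S3911
import Cfsg.Agent.Lib.S3911.Min
import Cfsg.Agent.Lib.S3911.Syl
import Cfsg.Agent.Lib.S3911.Card

set_option autoImplicit false
open Cfsg

namespace Cfsg.Agent.S3911

/-- Let G be a finite group in which any two abelian subgroups of the same order are conjugate. If M is a normal subgroup of G of odd order, then any two abelian subgroups of G/M of the same order are conjugate in G/M. -/
theorem result {G : Type*} [Group G] [Finite G] (hB : ∀ A B : Subgroup G, IsMulCommutative ↥A → IsMulCommutative ↥B → Nat.card ↥A = Nat.card ↥B → ∃ g : G, B = A.map (MulAut.conj g).toMonoidHom) (M : Subgroup G) [M.Normal] (hM : Odd (Nat.card ↥M)) :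
    ∀ A B : Subgroup (G ⧸ M), IsMulCommutative ↥A → IsMulCommutative ↥B → Nat.card ↥A = Nat.card ↥B →
      ∃ g : G ⧸ M, B = A.map (MulAut.conj g).toMonoidHom := by
  intro Abar Bbar hAc hBc hcard
  obtain ⟨A, hAmap, hAmin, hAn⟩ := Cfsg.Agent.Lib.S3911.exists_min_supp M Abar hAc
  obtain ⟨B, hBmap, hBmin, hBn⟩ := Cfsg.Agent.Lib.S3911.exists_min_supp M Bbar hBc
  have h2 := fun (p : ℕ) [Fact p.Prime] (hp : p ∣ Nat.card ↥M) (P : Sylow p G) =>
    Cfsg.Agent.Lib.S3911.sylow_cyclic_or_le M hB hM p hp P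
  have hRA : ∀ (p : ℕ) [Fact p.Prime] (S : Sylow p ↥A),
      (S : Subgroup ↥A).map A.subtype ≤ M → (S : Subgroup ↥A) = ⊥ := by
    intro p _ S hS
    exact Cfsg.Agent.Lib.S3911.sylow_eq_bot_of_le M A (fun X hX h => hAmin X hX (h.trans hAmap)) p S (hAn p S) hS
  have hRB : ∀ (p : ℕ) [Fact p.Prime] (S : Sylow p ↥B),
      (S : Subgroup ↥B).map B.subtype ≤ M → (S : Subgroup ↥B) = ⊥ := by
    intro p _ S hS
    exact Cfsg.Agent.Lib.S3911.sylow_eq_bot_of_le M B (fun X hX h => hBmin X hX (h.trans hBmap)) p S (hBn p S) hS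
  have hAc' : IsMulCommutative ↥A :=
    isMulCommutative_iff.2 (Cfsg.Agent.Lib.S3911.comm_of_min M A (Cfsg.Agent.Lib.S3911.comm_quot M A (hAmap ▸ hAc)) (fun {p} _ S => hAn p S) hRA h2)
  have hBc' : IsMulCommutative ↥B :=
    isMulCommutative_iff.2 (Cfsg.Agent.Lib.S3911.comm_of_min M B (Cfsg.Agent.Lib.S3911.comm_quot M B (hBmap ▸ hBc)) (fun {p} _ S => hBn p S) hRB h2)
  have hinf : Nat.card ↥(A ⊓ M) = Nat.card ↥(B ⊓ M) := by
    apply Nat.eq_of_factorization_eq Nat.card_pos.ne' Nat.card_pos.ne'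
    intro p
    by_cases hp : p.Prime
    · have : Fact p.Prime := ⟨hp⟩
      rw [Cfsg.Agent.Lib.S3911.factorization_inf M A hRA h2 p, Cfsg.Agent.Lib.S3911.factorization_inf M B hRB h2 p, hAmap, hBmap, hcard]
    · rw [Nat.factorization_eq_zero_of_not_prime _ hp, Nat.factorization_eq_zero_of_not_prime _ hp]
  have hAB : Nat.card ↥A = Nat.card ↥B := by
    rw [Cfsg.Agent.Lib.S3911.card_eq_map_mul_inf M A, Cfsg.Agent.Lib.S3911.card_eq_map_mul_inf M B, hAmap, hBmap, hcard, hinf]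
  obtain ⟨g, hg⟩ := hB A B hAc' hBc' hAB
  refine ⟨QuotientGroup.mk' M g, ?_⟩
  rw [← hBmap, ← hAmap]
  exact Cfsg.Agent.Lib.S3911.map_conj M A B g hg

end Cfsg.Agent.S3911
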