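import Cfsg.Statements.S3917
import Mathlib
import Cfsg.Agent.H1.CyclicSub
import Cfsg.Agent.H1.Card

set_option autoImplicit false
open Cfsg

namespace Cfsg.Agent.S3917

set_option autoImplicit false
open scoped Pointwise commutatorElement
open H1

/-- Say that a group has self-centralizing non-cyclic subgroups when every non-cyclic subgroup H satisfies C_G(H) ≤ H. A finite abelian group with self-centralizing non-cyclic subgroups is cyclic or elementary abelian of order p² for a prime p. -/
theorem result {G : Type*} [CommGroup G] [Finite G] (hX : (∀ H : Subgroup G, ¬ IsCyclic ↥H → Subgroup.centralizer (H : Set G) ≤ H)) :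
    IsCyclic G ∨ ∃ p : ℕ, p.Prime ∧ Nat.card G = p ^ 2 ∧ Monoid.exponent G = p := by
  by_cases hc : IsCyclic G
  · exact Or.inl hc
  right
  have htop : ∀ H : Subgroup G, ¬ IsCyclic ↥H → H = ⊤ := by
    intro H hH
    have := hX H hH
    rw [Subgroup.centralizer_eq_top_iff_subset.mpr] at this
    · exact top_le_iff.mp this
    · intro x _
      rw [SetLike.mem_coe, Subgroup.mem_center_iff]
      intro g; exact mul_comm g x
  -- some Sylow subgroup is not cyclic
  have hex : ∃ (p : ℕ) (_ : p.Prime) (P : Sylow p G), ¬ IsCyclic (P : Subgroup G) := by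
    by_contra hcon
    push Not at hcon
    apply hc
    have : IsZGroup G := ⟨fun p hp P => hcon p hp P⟩
    infer_instance
  obtain ⟨p, hp, P, hP⟩ := hex
  have : Fact p.Prime := ⟨hp⟩
  have hPtop := htop _ hP
  have hGp : IsPGroup p G := by
    intro g
    obtain ⟨k, hk⟩ := P.isPGroup' ⟨g, by rw [hPtop]; trivial⟩
    exact ⟨k, congrArg Subtype.val hk⟩
  -- two subgroups of order p
  have hnu : ¬ (∀ A B : Subgroup G, Nat.card A = p → Nat.card B = p → A = B) := by
    intro h
    exact hc (Cfsg.Agent.H2.UOP.isCyclic_of_comm p hGp (fun x y => mul_comm x y) h)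
  push Not at hnu
  obtain ⟨A, B, hA, hB, hAB⟩ := hnu
  have hsup : A ⊔ B = ⊤ := by
    apply htop
    intro hcyc
    apply hAB
    have hAle : A ≤ A ⊔ B := le_sup_left
    have hBle : B ≤ A ⊔ B := le_sup_right
    have h1 : A.subgroupOf (A ⊔ B) = B.subgroupOf (A ⊔ B) := by
      apply eq_of_card_eq_of_isCyclic
      rw [Nat.card_congr (Subgroup.subgroupOfEquivOfLe hAle).toEquiv, Nat.card_congr (Subgroup.subgroupOfEquivOfLe hBle).toEquiv, hA, hB]
    have h2 := congrArg (Subgroup.map (A ⊔ B).subtype) h1
    rwa [Subgroup.map_subgroupOf_eq_of_le hAle, Subgroup.map_subgroupOf_eq_of_le hBle] at h2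
  have hinf : A ⊓ B = ⊥ := by
    by_contra hne
    have h1 : Nat.card (A ⊓ B : Subgroup G) ∣ p := by
      rw [← hA]; exact Subgroup.card_dvd_of_le inf_le_left
    rcases (Nat.dvd_prime hp).mp h1 with h2 | h2
    · exact hne (Subgroup.card_eq_one.mp h2)
    · apply hAB
      have e1 : A ⊓ B = A := Subgroup.eq_of_le_of_card_ge inf_le_left (by rw [h2, hA])
      have e2 : A ⊓ B = B := Subgroup.eq_of_le_of_card_ge inf_le_right (by rw [h2, hB])
      rw [← e1, e2]
  have hcard : Nat.card G = p ^ 2 := by
    have h1 := card_sup_mul_card_inf A B (by rw [Subgroup.normalizer_eq_top]; exact le_top)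
    rw [hsup, hinf, Subgroup.card_top, Subgroup.card_bot, mul_one, hA, hB] at h1
    rw [h1, pow_two]
  exact ⟨p, hp, hcard, (not_isCyclic_iff_exponent_eq_prime hp hcard).mp hc⟩

end Cfsg.Agent.S3917
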