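import Cfsg.Statements.S3918
import Mathlib
import Cfsg.Agent.H1.NormalRankTwo
import Cfsg.Agent.H1.PRegular

set_option autoImplicit false
open Cfsg

namespace Cfsg.Agent.S3918

set_option autoImplicit false
open scoped Pointwise commutatorElement
open H1

/-- Say that a group has self-centralizing non-cyclic subgroups when every non-cyclic subgroup H satisfies C_G(H) ≤ H. For an odd prime p, a finite non-abelian p-group has self-centralizing non-cyclic subgroups if and only if it has order p³. -/
theorem result {G : Type*} [Group G] [Finite G] {p : ℕ} [Fact p.Prime] (hp : p ≠ 2) (hG : IsPGroup p G) (hna : ¬ IsMulCommutative G) :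
    (∀ H : Subgroup G, ¬ IsCyclic ↥H → Subgroup.centralizer (H : Set G) ≤ H) ↔ Nat.card G = p ^ 3 := by
  have hpp : p.Prime := Fact.out
  obtain ⟨m, hm⟩ := IsPGroup.iff_card.mp hG
  have hm3 : 3 ≤ m := by
    by_contra hcon
    apply hna
    have hm' : m = 0 ∨ m = 1 ∨ m = 2 := by omega
    rcases hm' with rfl | rfl | rfl
    · rw [pow_zero] at hm
      have := (Nat.card_eq_one_iff_unique.mp hm).1
      exact ⟨⟨fun a b => Subsingleton.elim _ _⟩⟩
    · rw [pow_one] at hm
      have : Fact (Nat.card G).Prime := ⟨by rw [hm]; exact hpp⟩
      have hc : IsCyclic G := isCyclic_of_prime_card rfl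
      infer_instance
    · exact IsPGroup.isMulCommutative_of_card_eq_prime_sq hm
  constructor
  · intro hX
    have hnc : ¬ IsCyclic G := by
      intro hc
      exact hna inferInstance
    have hS : ¬ IsCyclic (⊤ : Subgroup G) := by
      intro h
      apply hnc
      exact isCyclic_of_surjective (Subgroup.topEquiv : (⊤ : Subgroup G) ≃* G) Subgroup.topEquiv.surjective
    obtain ⟨E, -, hEn, hEel, hEcard⟩ := normal_elem_abelian_sq_le hp hG ⊤ hS
    have hEnc : ¬ IsCyclic E := by
      intro hc
      obtain ⟨g, hg⟩ := hc.exists_generator
      have h1 : orderOf g = Nat.card E := orderOf_eq_card_of_forall_mem_zpowers hg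
      have h2 : g ^ p = 1 := Subtype.ext (hEel.2 g g.2)
      have h3 := orderOf_dvd_of_pow_eq_one h2
      rw [h1, hEcard] at h3
      have h4 := Nat.le_of_dvd hpp.pos h3
      have h5 : p < p ^ 2 := by
        calc p = p ^ 1 := (pow_one p).symm
          _ < p ^ 2 := Nat.pow_lt_pow_right hpp.one_lt (by norm_num)
      omega
    have hCE := hX E hEnc
    have hEb : E ≠ ⊥ := by
      intro h
      rw [h, Subgroup.card_bot] at hEcard
      have : 1 < p ^ 2 := Nat.one_lt_pow (by norm_num) hpp.one_lt
      omega
    obtain ⟨z, hzE, hzc, hzo⟩ := exists_central_order_p hG E hEb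
    -- x ∈ E outside ⟨z⟩
    have hzle : Subgroup.zpowers z ≤ E := Subgroup.zpowers_le.mpr hzE
    have hzne : ¬ E ≤ Subgroup.zpowers z := by
      intro h
      have := Subgroup.card_le_of_le h
      rw [hEcard, Nat.card_zpowers, hzo] at this
      have h5 : p < p ^ 2 := by
        calc p = p ^ 1 := (pow_one p).symm
          _ < p ^ 2 := Nat.pow_lt_pow_right hpp.one_lt (by norm_num)
      omega
    obtain ⟨x, hxE, hxz⟩ := SetLike.not_le_iff_exists.mp hzne
    have hx1 : x ≠ 1 := fun h => hxz (h ▸ Subgroup.one_mem _)
    have hxo : orderOf x = p := orderOf_eq_prime (hEel.2 x hxE) hx1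
    have hxzc : x * z = z * x := (Subgroup.mem_center_iff.mp hzc x)
    obtain ⟨hK1, hK2, hK3⟩ := elem_abelian_sq_closure hpp x z hxzc hxo hzo hxz
    have hKE : Subgroup.closure ({x, z} : Set G) = E := by
      apply Subgroup.eq_of_le_of_card_ge
      · rw [Subgroup.closure_le]
        intro y hy
        rcases hy with rfl | rfl
        · exact hxE
        · exact hzE
      · rw [hK2, hEcard]
    -- centralizer of x lies in E
    have hCx : Subgroup.centralizer ({x} : Set G) ≤ E := by
      intro y hy
      apply hCE
      rw [Subgroup.mem_centralizer_singleton_iff] at hy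
      rw [Subgroup.mem_centralizer_iff]
      have hle : E ≤ Subgroup.centralizer ({y} : Set G) := by
        rw [← hKE, Subgroup.closure_le]
        intro w hw
        rw [SetLike.mem_coe, Subgroup.mem_centralizer_singleton_iff]
        rcases hw with rfl | rfl
        · exact hy.symm
        · exact (Subgroup.mem_center_iff.mp hzc y).symm
      intro e he
      have := hle he
      rw [Subgroup.mem_centralizer_singleton_iff] at this
      exact this
    -- the class of x has at most p^2 - 1 elements
    have hidx : (Subgroup.centralizer ({x} : Set G)).index < p ^ 2 := by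
      rw [← ncard_carrier_eq_index]
      have hsub : (ConjClasses.mk x).carrier ⊆ (E : Set G) \ {1} := by
        intro y hy
        rw [ConjClasses.mem_carrier_iff_mk_eq, ConjClasses.mk_eq_mk_iff_isConj, isConj_iff] at hy
        obtain ⟨c, hc⟩ := hy
        have hyx : y = c⁻¹ * x * c := by rw [← hc]; group
        refine ⟨?_, ?_⟩
        · rw [hyx]
          have := hEn.conj_mem x hxE c⁻¹
          rwa [inv_inv] at this
        · intro h1
          rw [Set.mem_singleton_iff] at h1
          apply hx1
          rw [← hc, h1, mul_one, mul_inv_cancel]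
      have hfin : ((E : Set G) \ {1}).Finite := Set.toFinite _
      have h1 := Set.ncard_le_ncard hsub hfin
      have h2 : ((E : Set G) \ {1}).ncard = p ^ 2 - 1 := by
        rw [Set.ncard_sdiff (by simp), Set.ncard_singleton]
        congr 1
      have h3 : 0 < p ^ 2 := pow_pos hpp.pos 2
      omega
    -- conclude
    have hdvd : (Subgroup.centralizer ({x} : Set G)).index ∣ p ^ m := by
      rw [← hm]; exact Subgroup.index_dvd_card _
    obtain ⟨j, -, hj⟩ := (Nat.dvd_prime_pow hpp).mp hdvd
    have hj1 : j ≤ 1 := by
      by_contra hcon
      have : p ^ 2 ≤ p ^ j := Nat.pow_le_pow_right hpp.pos (by omega)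
      rw [hj] at hidx
      omega
    have hCcard : Nat.card (Subgroup.centralizer ({x} : Set G)) ≤ p ^ 2 := by
      rw [← hEcard]; exact Subgroup.card_le_of_le hCx
    have hcardle : Nat.card G ≤ p ^ 3 := by
      rw [← Subgroup.card_mul_index (Subgroup.centralizer ({x} : Set G)), hj]
      calc Nat.card (Subgroup.centralizer ({x} : Set G)) * p ^ j ≤ p ^ 2 * p ^ 1 :=
            Nat.mul_le_mul hCcard (Nat.pow_le_pow_right hpp.pos hj1)
        _ = p ^ 3 := by ring
    rw [hm] at hcardle ⊢
    have : m ≤ 3 := (Nat.pow_le_pow_iff_right hpp.one_lt).mp hcardle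
    have : m = 3 := by omega
    rw [this]
  · intro hcard H hH
    have hm3' : m = 3 := by
      rw [hm] at hcard
      exact Nat.pow_right_injective hpp.two_le hcard
    obtain ⟨k, hk⟩ := IsPGroup.iff_card.mp (hG.to_subgroup H)
    have hk3 : k ≤ 3 := by
      have := Subgroup.card_le_card_group H
      rw [hk, hcard] at this
      exact (Nat.pow_le_pow_iff_right hpp.one_lt).mp this
    have hk2 : 2 ≤ k := by
      by_contra hcon
      apply hH
      have hk' : k = 0 ∨ k = 1 := by omega
      rcases hk' with rfl | rfl
      · rw [pow_zero] at hk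
        have := (Nat.card_eq_one_iff_unique.mp hk).1
        infer_instance
      · rw [pow_one] at hk
        have : Fact (Nat.card H).Prime := ⟨by rw [hk]; exact hpp⟩
        exact isCyclic_of_prime_card rfl
    by_cases hk3' : k = 3
    · have : H = ⊤ := by
        apply (Subgroup.card_eq_iff_eq_top H).mp
        rw [hk, hk3', hcard]
      rw [this]; exact le_top
    · have hk2' : k = 2 := by omega
      rw [hk2'] at hk
      have hHc : IsMulCommutative H := IsPGroup.isMulCommutative_of_card_eq_prime_sq hk
      have hHC : H ≤ Subgroup.centralizer (H : Set G) := by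
        intro a ha
        rw [Subgroup.mem_centralizer_iff]
        intro b hb
        have := hHc.is_comm.comm ⟨b, hb⟩ ⟨a, ha⟩
        exact congrArg Subtype.val this
      obtain ⟨l, hl⟩ := IsPGroup.iff_card.mp (hG.to_subgroup (Subgroup.centralizer (H : Set G)))
      have hl3 : l ≤ 3 := by
        have := Subgroup.card_le_card_group (Subgroup.centralizer (H : Set G))
        rw [hl, hcard] at this
        exact (Nat.pow_le_pow_iff_right hpp.one_lt).mp this
      have hl2 : 2 ≤ l := by
        have := Subgroup.card_le_of_le hHC
        rw [hl, hk] at this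
        exact (Nat.pow_le_pow_iff_right hpp.one_lt).mp this
      by_cases hl3' : l = 3
      · exfalso
        apply hna
        have htop : Subgroup.centralizer (H : Set G) = ⊤ := by
          apply (Subgroup.card_eq_iff_eq_top _).mp
          rw [hl, hl3', hcard]
        have hHZ : H ≤ Subgroup.center G := by
          intro a ha
          rw [Subgroup.mem_center_iff]
          intro g
          have : g ∈ Subgroup.centralizer (H : Set G) := by rw [htop]; trivial
          rw [Subgroup.mem_centralizer_iff] at this
          exact (this a ha).symm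
        have hZcard : p ^ 2 ∣ Nat.card (Subgroup.center G) := by
          rw [← hk]; exact Subgroup.card_dvd_of_le hHZ
        have hidxZ : (Subgroup.center G).index ∣ p := by
          have h1 := Subgroup.card_mul_index (Subgroup.center G)
          rw [hcard] at h1
          obtain ⟨c, hc⟩ := hZcard
          rw [hc] at h1
          have h2 : p ^ 2 * (c * (Subgroup.center G).index) = p ^ 2 * p := by
            rw [← mul_assoc, h1]; ring
          have h3 := Nat.eq_of_mul_eq_mul_left (pow_pos hpp.pos 2) h2
          exact Dvd.intro_left c h3
        have hcyc : IsCyclic (G ⧸ Subgroup.center G) := by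
          apply isCyclic_of_card_dvd_prime (p := p)
          rw [← Subgroup.index_eq_card]; exact hidxZ
        exact isMulCommutative_of_isCyclic_quotient_center_self G
      · have hl2' : l = 2 := by omega
        have : H = Subgroup.centralizer (H : Set G) :=
          Subgroup.eq_of_le_of_card_ge hHC (by rw [hl, hl2', hk])
        rw [← this]

end Cfsg.Agent.S3918
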