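import Cfsg.Statements.S3919
import Cfsg.Agent.Lib.Lead.NormalAbelianCyclic
import Cfsg.Agent.Lib.Lead.PGroup
import Cfsg.Agent.H1.NormalRankTwo
import Cfsg.Agent.H2.MaxClassLCS

set_option autoImplicit false
open Cfsg

namespace Cfsg.Agent.S3919

open Cfsg.Agent.H2 Cfsg.Agent.Lead
open scoped commutatorElement

/-- a normal abelian non-cyclic subgroup of a `2`-group of order at least 16 yields a non-cyclic
subgroup that is not self-centralizing -/
theorem normal_abelian_cyclic {G : Type*} [Group G] [Finite G] (n : ℕ) (hn4 : 4 ≤ n)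
    (hG : Nat.card G = 2 ^ n)
    (hsc : ∀ H : Subgroup G, ¬ IsCyclic ↥H → Subgroup.centralizer (H : Set G) ≤ H)
    (N : Subgroup G) (hNn : N.Normal) (hNc : IsMulCommutative N) : IsCyclic N := by
  haveI : Fact (Nat.Prime 2) := ⟨Nat.prime_two⟩
  have hP : IsPGroup 2 G := IsPGroup.of_card hG
  by_contra hNnc
  have hcommN : ∀ a ∈ N, ∀ b ∈ N, a * b = b * a := by
    intro a ha b hb
    have := hNc.is_comm.comm ⟨a, ha⟩ ⟨b, hb⟩
    exact congrArg Subtype.val this
  -- two distinct involutions of `N`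
  have hnu : ¬ ∀ H K : Subgroup ↥N, Nat.card H = 2 → Nat.card K = 2 → H = K := by
    intro hu
    exact hNnc (UOP.isCyclic_of_comm 2 (hP.to_subgroup N) (fun x y => hNc.is_comm.comm x y) hu)
  push_neg at hnu
  obtain ⟨H, K, hH2, hK2, hHK⟩ := hnu
  obtain ⟨x, hxH, hxK⟩ : ∃ x ∈ H, x ∉ K := by
    by_contra hcon
    push_neg at hcon
    exact hHK (Subgroup.eq_of_le_of_card_ge hcon (by rw [hH2, hK2]))
  have hx1 : x ≠ 1 := fun h => hxK (h ▸ K.one_mem)
  have hxx : x * x = 1 := by
    have := pow_card_eq_one' (G := ↥H) (x := ⟨x, hxH⟩)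
    rw [hH2] at this
    have h2 := congrArg Subtype.val this
    simpa [pow_two] using h2
  obtain ⟨y, hyK, hy1⟩ : ∃ y ∈ K, y ≠ 1 := by
    have : K ≠ ⊥ := by
      intro h
      rw [h, Subgroup.card_bot] at hK2
      omega
    exact (Subgroup.ne_bot_iff_exists_ne_one.mp this |>.elim fun w hw => ⟨w.1, w.2, fun h => hw (Subtype.ext h)⟩)
  have hyy : y * y = 1 := by
    have := pow_card_eq_one' (G := ↥K) (x := ⟨y, hyK⟩)
    rw [hK2] at this
    have h2 := congrArg Subtype.val this
    simpa [pow_two] using h2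
  have hxy : x ≠ y := fun h => hxK (h ▸ hyK)
  -- the subgroup of involutions of `N`
  obtain ⟨E, hE⟩ : ∃ E : Subgroup G, ∀ g, g ∈ E ↔ g ∈ N ∧ g * g = 1 := by
    refine ⟨{ carrier := {g | g ∈ N ∧ g * g = 1}
              mul_mem' := ?_
              one_mem' := ⟨N.one_mem, by simp⟩
              inv_mem' := ?_ }, fun g => Iff.rfl⟩
    · rintro a b ⟨ha, haa⟩ ⟨hb, hbb⟩
      refine ⟨N.mul_mem ha hb, ?_⟩
      calc a * b * (a * b) = a * (b * a) * b := by group
        _ = a * (a * b) * b := by rw [hcommN b hb a ha]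
        _ = (a * a) * (b * b) := by group
        _ = 1 := by rw [haa, hbb, one_mul]
    · rintro a ⟨ha, haa⟩
      refine ⟨N.inv_mem ha, ?_⟩
      calc a⁻¹ * a⁻¹ = (a * a)⁻¹ := by group
        _ = 1 := by rw [haa, inv_one]
  have hEn : E.Normal := by
    constructor
    intro e he g
    rw [hE] at he ⊢
    refine ⟨hNn.conj_mem e he.1 g, ?_⟩
    calc g * e * g⁻¹ * (g * e * g⁻¹) = g * (e * e) * g⁻¹ := by group
      _ = 1 := by rw [he.2]; group
  have hxE : (x : G) ∈ E := by
    rw [hE]; exact ⟨x.2, by have := congrArg Subtype.val hxx; simpa using this⟩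
  have hyE : (y : G) ∈ E := by
    rw [hE]; exact ⟨y.2, by have := congrArg Subtype.val hyy; simpa using this⟩
  have hEnc : ¬ IsCyclic E := by
    apply NAC.not_isCyclic_of_two_involutions E (x : G) (y : G) hxE hyE
    · have := congrArg Subtype.val hxx; simpa using this
    · have := congrArg Subtype.val hyy; simpa using this
    · intro h; exact hx1 (Subtype.ext h)
    · intro h; exact hy1 (Subtype.ext h)
    · intro h; exact hxy (Subtype.ext h).symm
  have hdvd : 2 ^ 2 ∣ Nat.card E := by
    obtain ⟨j, hj⟩ := IsPGroup.iff_card.mp (hP.to_subgroup E)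
    rw [hj]
    apply pow_dvd_pow
    by_contra hlt
    apply hEnc
    apply isCyclic_of_card_dvd_prime (p := 2)
    rw [hj]
    calc 2 ^ j ∣ 2 ^ 1 := pow_dvd_pow 2 (by omega)
      _ = 2 := pow_one 2
  haveI := hEn
  obtain ⟨M, hME, hMn, hMcard⟩ := Cfsg.Agent.H1.exists_normal_le_card_pow 2 G hP E hdvd
  have hMsq : ∀ g ∈ M, g * g = 1 := fun g hg => ((hE g).mp (hME hg)).2
  haveI hK4 : IsKleinFour ↥M := by
    refine ⟨by rw [hMcard]; norm_num, ?_⟩
    have h1 : Monoid.exponent ↥M ∣ 2 := by
      apply Monoid.exponent_dvd_of_forall_pow_eq_one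
      intro g
      apply Subtype.ext
      have := hMsq g g.2
      simpa [pow_two] using this
    rcases (Nat.dvd_prime Nat.prime_two).mp h1 with h | h
    · exfalso
      rw [Monoid.exp_eq_one_iff] at h
      have := Nat.card_eq_one_iff_unique.mpr ⟨h, ⟨1⟩⟩
      rw [hMcard] at this
      norm_num at this
    · exact h
  haveI := hMn
  have hMne : M ≠ ⊥ := by
    intro h
    rw [h, Subgroup.card_bot] at hMcard
    norm_num at hMcard
  obtain ⟨z, hzM, hzc, hz1⟩ := Cfsg.Agent.Lib.Lead.PGroup.exists_mem_center_of_normal hP M hMne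
  have hzz : z * z = 1 := hMsq z hzM
  obtain ⟨x₀, hx₀M, hx₀1, hx₀z⟩ : ∃ x₀ ∈ M, x₀ ≠ 1 ∧ x₀ ≠ z := by
    by_contra hcon
    push_neg at hcon
    have hle : M ≤ Subgroup.zpowers z := by
      intro g hg
      by_cases hg1 : g = 1
      · rw [hg1]; exact Subgroup.one_mem _
      · rw [hcon g hg hg1]; exact Subgroup.mem_zpowers z
    have h1 := Subgroup.card_le_of_le hle
    have h2 : orderOf z = 2 := orderOf_eq_prime (by rw [pow_two]; exact hzz) hz1
    rw [Nat.card_zpowers, h2, hMcard] at h1
    norm_num at h1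
  have hx₀x₀ : x₀ * x₀ = 1 := hMsq x₀ hx₀M
  have hzcomm : ∀ g : G, g * z = z * g := fun g => (Subgroup.mem_center_iff.mp hzc g)
  -- conjugates of `x₀`
  have hconj : ∀ g : G, g * x₀ * g⁻¹ = x₀ ∨ g * x₀ * g⁻¹ = z * x₀ := by
    intro g
    by_cases h : g * x₀ * g⁻¹ = x₀
    · exact Or.inl h
    right
    have hgM : g * x₀ * g⁻¹ ∈ M := hMn.conj_mem x₀ hx₀M g
    have key := IsKleinFour.eq_mul_of_ne_all (G := ↥M) (x := ⟨z, hzM⟩) (y := ⟨x₀, hx₀M⟩)
      (z := ⟨g * x₀ * g⁻¹, hgM⟩)
      (fun h => hz1 (congrArg Subtype.val h))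
      (fun h => hx₀1 (congrArg Subtype.val h))
      (fun h => hx₀z (congrArg Subtype.val h).symm)
      (fun h' => by
        have h1 : g * x₀ * g⁻¹ = 1 := congrArg Subtype.val h'
        apply hx₀1
        calc x₀ = g⁻¹ * (g * x₀ * g⁻¹) * g := by group
          _ = 1 := by rw [h1]; group)
      (fun h' => by
        have h1 : g * x₀ * g⁻¹ = z := congrArg Subtype.val h'
        apply hx₀z
        calc x₀ = g⁻¹ * (g * x₀ * g⁻¹) * g := by group
          _ = g⁻¹ * z * g := by rw [h1]
          _ = g⁻¹ * (g * z) := by rw [hzcomm g, mul_assoc]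
          _ = z := by group)
      (fun h' => h (congrArg Subtype.val h'))
    exact congrArg Subtype.val key
  obtain ⟨C, hC⟩ : ∃ C : Subgroup G, C = Subgroup.centralizer ({x₀} : Set G) := ⟨_, rfl⟩
  have hmemC : ∀ g : G, g ∈ C ↔ g * x₀ * g⁻¹ = x₀ := by
    intro g
    rw [hC, Subgroup.mem_centralizer_iff]
    constructor
    · intro h
      have := h x₀ rfl
      rw [← this]; group
    · intro h y hy
      rw [Set.mem_singleton_iff.mp hy]
      calc x₀ * g = (g * x₀ * g⁻¹) * g := by rw [h]
        _ = g * x₀ := by group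
  have hCcard : 8 ≤ Nat.card C := by
    by_cases hCtop : C = ⊤
    · rw [hCtop, Subgroup.card_top, hG]
      calc 8 = 2 ^ 3 := by norm_num
        _ ≤ 2 ^ n := Nat.pow_le_pow_right (by norm_num) (by omega)
    · obtain ⟨g₀, hg₀⟩ : ∃ g₀ : G, g₀ ∉ C := by
        by_contra hcon
        push_neg at hcon
        exact hCtop ((Subgroup.eq_top_iff' _).mpr hcon)
      have hidx : C.index = 2 := by
        rw [Subgroup.index_eq_two_iff]
        refine ⟨g₀, fun b => ?_⟩
        by_cases hb : b ∈ C
        · refine Or.inr ⟨hb, fun h => hg₀ ?_⟩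
          have : g₀ = b⁻¹ * (b * g₀) := by group
          rw [this]; exact mul_mem (inv_mem hb) h
        · refine Or.inl ⟨?_, hb⟩
          rw [hmemC] at hb hg₀ ⊢
          have h1 : b * x₀ * b⁻¹ = z * x₀ := (hconj b).resolve_left hb
          have h2 : g₀ * x₀ * g₀⁻¹ = z * x₀ := (hconj g₀).resolve_left hg₀
          calc b * g₀ * x₀ * (b * g₀)⁻¹ = b * (g₀ * x₀ * g₀⁻¹) * b⁻¹ := by group
            _ = b * (z * x₀) * b⁻¹ := by rw [h2]
            _ = (b * z) * x₀ * b⁻¹ := by group
            _ = z * (b * x₀ * b⁻¹) := by rw [hzcomm b]; group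
            _ = z * (z * x₀) := by rw [h1]
            _ = x₀ := by rw [← mul_assoc, hzz, one_mul]
      have h1 := C.card_mul_index
      rw [hidx, hG] at h1
      have h2 : 2 ^ n = 2 ^ (n - 1) * 2 := by rw [← pow_succ]; congr 1; omega
      rw [h2] at h1
      have h3 : Nat.card C = 2 ^ (n - 1) := Nat.eq_of_mul_eq_mul_right (by norm_num) h1
      rw [h3]
      calc 8 = 2 ^ 3 := by norm_num
        _ ≤ 2 ^ (n - 1) := Nat.pow_le_pow_right (by norm_num) (by omega)
  -- the four-group `⟨z, x₀⟩`
  have hM'nc : ¬ IsCyclic (Subgroup.closure ({z, x₀} : Set G)) :=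
    NAC.not_isCyclic_of_two_involutions _ z x₀ (Subgroup.subset_closure (by simp))
      (Subgroup.subset_closure (by simp)) hzz hx₀x₀ hz1 hx₀1 hx₀z
  have h1 := hsc _ hM'nc
  have h2 : C ≤ Subgroup.centralizer (Subgroup.closure ({z, x₀} : Set G) : Set G) := by
    rw [Subgroup.le_centralizer_iff, Subgroup.closure_le]
    intro s hs
    rw [SetLike.mem_coe, Subgroup.mem_centralizer_iff]
    intro h hh
    rcases hs with hs | hs
    · rw [hs]; exact hzcomm h
    · have hs' : s = x₀ := hs
      rw [hs']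
      have := (hmemC h).mp hh
      calc h * x₀ = (h * x₀ * h⁻¹) * h := by group
        _ = x₀ * h := by rw [this]
  have h3 : Subgroup.closure ({z, x₀} : Set G) ≤ M := by
    rw [Subgroup.closure_le]
    intro s hs
    rcases hs with hs | hs
    · rw [hs]; exact hzM
    · have hs' : s = x₀ := hs
      rw [hs']; exact hx₀M
  have h4 := Subgroup.card_le_of_le ((h2.trans h1).trans h3)
  rw [hMcard] at h4
  omega

/-- Say that a group has self-centralizing non-cyclic subgroups when every non-cyclic subgroup H satisfies C_G(H) ≤ H. A finite non-abelian 2-group G of order 2^n has self-centralizing non-cyclic subgroups if and only if G has nilpotency class n − 1 (that is, G is dihedral, semidihedral or generalized quaternion). -/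
theorem result {G : Type*} [Group G] [Finite G] (hna : ¬ IsMulCommutative G) (n : ℕ) (hG : Nat.card G = 2 ^ n) :
    (∀ H : Subgroup G, ¬ IsCyclic ↥H → Subgroup.centralizer (H : Set G) ≤ H) ↔ (⊤ : Subgroup G).lowerCentralSeries (n - 2) ≠ ⊥ := by
  haveI : Fact (Nat.Prime 2) := ⟨Nat.prime_two⟩
  have hP : IsPGroup 2 G := IsPGroup.of_card hG
  haveI : Group.IsNilpotent G := hP.isNilpotent
  have hncomm : ¬ ∀ x y : G, x * y = y * x := fun h => hna ⟨⟨h⟩⟩
  obtain ⟨k, hk⟩ := hP.index (commutator G)
  obtain ⟨j, hj⟩ := IsPGroup.iff_card.mp (hP.to_subgroup (commutator G))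
  have hjk : j + k = n := by
    have h1 := (commutator G).card_mul_index
    rw [hk, hj, hG, ← pow_add] at h1
    exact Nat.pow_right_injective (le_refl 2) h1
  have hk2 : 2 ≤ k := by
    by_contra hlt
    apply hncomm
    apply MaxClassLCS.comm_of_cyclic_abelianization 2 hP
    apply isCyclic_of_card_dvd_prime (p := 2)
    rw [← Subgroup.index_eq_card, hk]
    calc 2 ^ k ∣ 2 ^ 1 := pow_dvd_pow 2 (by omega)
      _ = 2 := pow_one 2
  have hG'ne : commutator G ≠ ⊥ := by
    intro h
    apply hncomm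
    intro x y
    have h1 : ⁅x, y⁆ ∈ commutator G := by
      rw [commutator_def]
      exact Subgroup.commutator_mem_commutator (Subgroup.mem_top x) (Subgroup.mem_top y)
    rw [h, Subgroup.mem_bot, commutatorElement_def] at h1
    calc x * y = (x * y * x⁻¹ * y⁻¹) * y * x := by group
      _ = y * x := by rw [h1, one_mul]
  have hj1 : 1 ≤ j := by
    by_contra hlt
    have hj0 : j = 0 := by omega
    rw [hj0, pow_zero] at hj
    exact hG'ne (Subgroup.card_eq_one.mp hj)
  have hn3 : 3 ≤ n := by omega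
  constructor
  · intro hsc
    by_cases hn4 : 4 ≤ n
    swap
    · have hn' : n - 2 = 1 := by omega
      rw [hn', Subgroup.top_lowerCentralSeries_one]
      exact hG'ne
    have hnac := normal_abelian_cyclic n hn4 hG hsc
    rcases NAC.main_data 2 hP hnac with hcyc | ⟨-, m, a, β, hm, ha, hcard, hβA, hcases⟩
    · exfalso
      apply hncomm
      intro x y
      obtain ⟨g, hg⟩ := hcyc.exists_generator
      obtain ⟨i, hi⟩ := Subgroup.mem_zpowers_iff.mp (hg x)
      obtain ⟨l, hl⟩ := Subgroup.mem_zpowers_iff.mp (hg y)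
      rw [← hi, ← hl, ← zpow_add, ← zpow_add, add_comm]
    have hidx := NAC.commutator_index_of_data m a β hm ha hcard hβA hcases
    have hclass := MaxClassLCS.class_of_index n hn3 hG hidx
    intro h
    have := Subgroup.lowerCentralSeries_eq_bot_iff_nilpotencyClass_le.mp h
    omega
  · intro hlcs
    obtain ⟨c, hc⟩ : ∃ c, c = Group.nilpotencyClass G := ⟨_, rfl⟩
    have hc1 : n - 1 ≤ c := by
      by_contra hlt
      apply hlcs
      rw [Subgroup.lowerCentralSeries_eq_bot_iff_nilpotencyClass_le]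
      omega
    have h1 := MaxClassLCS.two_pow_le_card_lcs (X := G) (c - 1) (by omega)
    rw [← hc, show c - (c - 1) = 1 by omega, Subgroup.top_lowerCentralSeries_one, hj] at h1
    have h2 : c - 1 ≤ j := (Nat.pow_le_pow_iff_right (by norm_num)).mp h1
    have hk2' : k = 2 := by omega
    have hidx : (commutator G).index = 4 := by rw [hk, hk2']; norm_num
    obtain ⟨a, ha⟩ := Taussky.exists_orderOf n hn3 G hG hidx
    have hA2 := MaxClassTwo.index_zpowers n hn3 hG a ha
    have hAn : (Subgroup.zpowers a).Normal := Subgroup.normal_of_index_eq_two hA2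
    obtain ⟨z, hz⟩ : ∃ z : G, z = a ^ (2 ^ (n - 2)) := ⟨_, rfl⟩
    intro H hH x hx
    rw [Subgroup.mem_centralizer_iff] at hx
    -- an element of `H` outside `⟨a⟩`
    obtain ⟨b, hbH, hbA⟩ : ∃ b ∈ H, b ∉ Subgroup.zpowers a := by
      by_contra hcon
      push_neg at hcon
      exact hH (Subgroup.isCyclic_of_le (show H ≤ Subgroup.zpowers a from hcon))
    -- `z ∈ H`
    have hzH : z ∈ H := by
      have hne : Subgroup.zpowers a ⊓ H ≠ ⊥ := by
        intro hbot
        apply hH
        have h3 : (Subgroup.zpowers a).subgroupOf H = ⊥ := by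
          rw [Subgroup.subgroupOf_eq_bot, disjoint_iff]; exact hbot
        have h4 := ((Subgroup.zpowers a).subgroupOf H).card_mul_index
        have h6 : Nat.card ((Subgroup.zpowers a).subgroupOf H) = 1 := by
          rw [h3, Subgroup.card_bot]
        rw [h6, one_mul] at h4
        have h5 : (Subgroup.zpowers a).relIndex H ∣ 2 := by
          rw [← hA2]; exact Subgroup.relIndex_dvd_index_of_normal _ H
        apply isCyclic_of_card_dvd_prime (p := 2)
        rw [← h4]
        exact h5
      obtain ⟨u, hu, hu1⟩ := (Subgroup.ne_bot_iff_exists_ne_one.mp hne |>.elim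
        fun w hw => (⟨w.1, w.2, fun h => hw (Subtype.ext h)⟩ : ∃ u ∈ Subgroup.zpowers a ⊓ H, u ≠ 1))
      obtain ⟨e, he⟩ := IsPGroup.iff_orderOf.mp hP u
      have he1 : 1 ≤ e := by
        by_contra hlt
        have : e = 0 := by omega
        rw [this, pow_zero, orderOf_eq_one_iff] at he
        exact hu1 he
      obtain ⟨w, hw⟩ : ∃ w, w = u ^ (2 ^ (e - 1)) := ⟨_, rfl⟩
      have hw1 : w ≠ 1 := by
        rw [hw]
        apply pow_ne_one_of_lt_orderOf (by positivity)
        rw [he]
        exact Nat.pow_lt_pow_right (by norm_num) (by omega)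
      have hww : w * w = 1 := by
        rw [hw, ← pow_add, ← two_mul, ← pow_succ', show e - 1 + 1 = e by omega, ← he]
        exact pow_orderOf_eq_one u
      have hwA : w ∈ Subgroup.zpowers a := by rw [hw]; exact Subgroup.pow_mem _ hu.1 _
      have hwH : w ∈ H := by rw [hw]; exact Subgroup.pow_mem _ hu.2 _
      rcases CycIdxTwo.involution_zpowers n hn3 a ha w hwA hww with h | h
      · exact absurd h hw1
      · rw [hz, ← h]; exact hwH
    have hbx : b * x = x * b := hx b hbH
    by_cases hxA : x ∈ Subgroup.zpowers a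
    · have hfix : b * x * b⁻¹ = x := by rw [hbx]; group
      rcases MaxClassTwo.fixed n hn3 hG hidx a ha b hbA x hxA hfix with h | h
      · rw [h]; exact H.one_mem
      · rw [h, ← hz]; exact hzH
    · obtain ⟨d, hd⟩ : ∃ d, d = b⁻¹ * x := ⟨_, rfl⟩
      have hdA : d ∈ Subgroup.zpowers a := by
        rw [hd, Subgroup.mul_mem_iff_of_index_two hA2]
        constructor
        · intro h; exact absurd (inv_mem_iff.mp h) hbA
        · intro h; exact absurd h hxA
      have hfix : b * d * b⁻¹ = d := by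
        rw [hd]
        calc b * (b⁻¹ * x) * b⁻¹ = x * b⁻¹ := by group
          _ = b⁻¹ * (b * x) * b⁻¹ := by group
          _ = b⁻¹ * (x * b) * b⁻¹ := by rw [hbx]
          _ = b⁻¹ * x := by group
      have hxbd : x = b * d := by rw [hd]; group
      rcases MaxClassTwo.fixed n hn3 hG hidx a ha b hbA d hdA hfix with h | h
      · rw [hxbd, h, mul_one]; exact hbH
      · rw [hxbd, h, ← hz]; exact H.mul_mem hbH hzH

end Cfsg.Agent.S3919
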