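import Cfsg.Statements.S3937
import Mathlib
import Cfsg.Agent.Lib.Lead.Subnormal2
import Cfsg.Agent.H1.Cores
import Cfsg.Agent.H2.Layer

set_option autoImplicit false
open Cfsg

namespace Cfsg.Agent.S3937

open scoped Pointwise
open Cfsg.Agent.Lib.Lead

universe u

/-- The Engel map `a ↦ [a, g]`. -/
def engel {G : Type*} [Group G] (g : G) : G → G := fun a => a * g * a⁻¹ * g⁻¹

theorem foldl_eq {G : Type*} [Group G] (g : G) (n : ℕ) (x : G) :
    (List.replicate n g).foldl (fun a b => a * b * a⁻¹ * b⁻¹) x = (engel g)^[n] x := by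
  induction n generalizing x with
  | zero => rfl
  | succ n ih =>
    rw [List.replicate_succ, List.foldl_cons, ih, Function.iterate_succ_apply]
    rfl

theorem coe_engel_iterate {G : Type*} [Group G] (H : Subgroup G) (g : ↥H) (k : ℕ) (x : ↥H) :
    (((engel g)^[k] x : ↥H) : G) = (engel (g : G))^[k] (x : G) := by
  induction k generalizing x with
  | zero => rfl
  | succ k ih =>
    rw [Function.iterate_succ_apply, Function.iterate_succ_apply, ih]
    rfl

theorem forward {G : Type*} [Group G] [Finite G] (g : G) (hg : g ∈ Cfsg.fittingSubgroup G)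
    (x : G) : ∃ n : ℕ, (engel g)^[n] x = 1 := by
  haveI hnorm : (Cfsg.fittingSubgroup G).Normal := Cfsg.Agent.H1.fittingSubgroup_normal
  haveI hnil : Group.IsNilpotent ↥(Cfsg.fittingSubgroup G) :=
    Cfsg.Agent.H1.fittingSubgroup_nilpotent
  have key : ∀ n : ℕ, (engel g)^[n+1] x ∈ (Cfsg.fittingSubgroup G).lowerCentralSeries n := by
    intro n
    induction n with
    | zero =>
      rw [Subgroup.lowerCentralSeries_zero]
      show x * g * x⁻¹ * g⁻¹ ∈ _
      exact Subgroup.mul_mem _ (hnorm.conj_mem g hg x) (Subgroup.inv_mem _ hg)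
    | succ n ih =>
      rw [Function.iterate_succ_apply', Subgroup.lowerCentralSeries_succ]
      have := Subgroup.commutator_mem_commutator ih hg
      rw [commutatorElement_def] at this
      exact this
  obtain ⟨n, hn⟩ := (Subgroup.isNilpotent_iff_lowerCentralSeries _).mp hnil
  refine ⟨n + 1, ?_⟩
  have := key n
  rw [hn, Subgroup.mem_bot] at this
  exact this

theorem zpowers_isSubnormal_of_mem {G : Type*} [Group G] [Finite G] (g : G)
    (hg : g ∈ Cfsg.fittingSubgroup G) : (Subgroup.zpowers g).IsSubnormal := by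
  haveI hnorm : (Cfsg.fittingSubgroup G).Normal := Cfsg.Agent.H1.fittingSubgroup_normal
  haveI hnil : Group.IsNilpotent ↥(Cfsg.fittingSubgroup G) :=
    Cfsg.Agent.H1.fittingSubgroup_nilpotent
  have hle : Subgroup.zpowers g ≤ Cfsg.fittingSubgroup G := by
    rw [Subgroup.zpowers_le]; exact hg
  exact Subgroup.IsSubnormal.trans hle (Subnormal.isSubnormal_of_isNilpotent _)
    hnorm.isSubnormal

theorem backward_aux (n : ℕ) : ∀ (G : Type u) [Group G] [Finite G], Nat.card G = n →
    ∀ g : G, (∀ x : G, ∃ k : ℕ, (engel g)^[k] x = 1) → (Subgroup.zpowers g).IsSubnormal := by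
  induction n using Nat.strong_induction_on with
  | _ n ih =>
    intro G _ _ hcard g hE
    by_contra hnot
    set S : Subgroup G := Subgroup.zpowers g with hS
    have hgS : g ∈ S := Subgroup.mem_zpowers g
    -- step 1
    have h1 : ∀ H : Subgroup G, S ≤ H → H ≠ ⊤ → (S.subgroupOf H).IsSubnormal := by
      intro H hSH hH
      have hlt : Nat.card ↥H < n := hcard ▸ Subnormal.card_lt_of_ne_top hH
      have hsub := ih _ hlt ↥H rfl ⟨g, hSH hgS⟩ (by
        intro x
        obtain ⟨k, hk⟩ := hE (x : G)
        refine ⟨k, Subtype.ext ?_⟩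
        rw [coe_engel_iterate]
        exact hk)
      have heq : S.subgroupOf H = Subgroup.zpowers (⟨g, hSH hgS⟩ : ↥H) := by
        ext x
        rw [Subgroup.mem_subgroupOf, hS, Subgroup.mem_zpowers_iff, Subgroup.mem_zpowers_iff]
        constructor
        · rintro ⟨k, hk⟩
          exact ⟨k, Subtype.ext (by simpa using hk)⟩
        · rintro ⟨k, rfl⟩
          exact ⟨k, by simp⟩
      rw [heq]; exact hsub
    have hStop : S ≠ ⊤ := by
      intro h; apply hnot; rw [h]; exact Subgroup.IsSubnormal.top
    obtain ⟨M, hM, hSM⟩ := (eq_top_or_exists_le_coatom S).resolve_left hStop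
    have huniq : ∀ K : Subgroup G, IsCoatom K → S ≤ K → K = M := fun K hK hSK =>
      Subnormal.zipper h1 hnot hK hM hSK hSM
    have hMnn : ¬ M.Normal := by
      intro hn
      exact hnot (Subgroup.IsSubnormal.trans hSM (h1 M hSM hM.1) hn.isSubnormal)
    have hNM : Subgroup.normalizer (M : Set G) = M := by
      by_contra hne
      have hlt : M < Subgroup.normalizer (M : Set G) :=
        lt_of_le_of_ne Subgroup.le_normalizer (Ne.symm hne)
      exact hMnn (Subgroup.normalizer_eq_top_iff.mp (hM.2 _ hlt))
    have hall : ∀ k : ℕ, ∀ x : G, (engel g)^[k] x = 1 → x ∈ M := by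
      intro k
      induction k with
      | zero =>
        intro x hx
        rw [Function.iterate_zero, id] at hx
        rw [hx]; exact Subgroup.one_mem _
      | succ k ihk =>
        intro x hx
        rw [Function.iterate_succ_apply] at hx
        have hm : x * g * x⁻¹ * g⁻¹ ∈ M := ihk _ hx
        have hgM : g ∈ M := hSM hgS
        have hm2 : x * g * x⁻¹ ∈ M := by
          have := Subgroup.mul_mem _ hm hgM
          simpa using this
        have hle : S ≤ MulAut.conj x⁻¹ • M := by
          rw [hS, Subgroup.zpowers_le, Subnormal.mem_conj_smul]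
          simpa using hm2
        have heq := huniq _ (Subnormal.isCoatom_conj_smul x⁻¹ hM) hle
        have hxn : x⁻¹ ∈ Subgroup.normalizer (M : Set G) :=
          Subnormal.mem_normalizer_of_conj_smul_le _ _ heq.le
        rw [hNM] at hxn
        simpa using Subgroup.inv_mem _ hxn
    apply hM.1
    rw [eq_top_iff]
    intro x _
    obtain ⟨k, hk⟩ := hE x
    exact hall k x hk

theorem backward {G : Type u} [Group G] [Finite G] (g : G)
    (hE : ∀ x : G, ∃ k : ℕ, (engel g)^[k] x = 1) : g ∈ Cfsg.fittingSubgroup G := by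
  have hsub := backward_aux _ G rfl g hE
  have hnil : Group.IsNilpotent ↥(Subgroup.zpowers g) := by
    letI : CommGroup ↥(Subgroup.zpowers g) :=
      { (inferInstance : Group ↥(Subgroup.zpowers g)) with
        mul_comm := fun a b => by
          obtain ⟨a, ha⟩ := a
          obtain ⟨b, hb⟩ := b
          obtain ⟨i, rfl⟩ := Subgroup.mem_zpowers_iff.mp ha
          obtain ⟨j, rfl⟩ := Subgroup.mem_zpowers_iff.mp hb
          apply Subtype.ext
          show g ^ i * g ^ j = g ^ j * g ^ i
          rw [← zpow_add, ← zpow_add, add_comm] }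
    exact CommGroup.isNilpotent
  exact Cfsg.Agent.H2.le_fittingSubgroup_of_isSubnormal_of_isNilpotent hsub hnil
    (Subgroup.mem_zpowers g)

/-- Baer's characterization of the Fitting subgroup: in a finite group G, an element g lies in the Fitting subgroup if and only if g is a left Engel element, that is, for every x there is n with [x, g, g, …, g] = 1 (n entries g, [a, b] = aba⁻¹b⁻¹). -/
theorem result {G : Type*} [Group G] [Finite G] (g : G) :
    g ∈ Cfsg.fittingSubgroup G ↔ ∀ x : G, ∃ n : ℕ, (List.replicate n g).foldl (fun a b => a * b * a⁻¹ * b⁻¹) x = 1 := by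
  constructor
  · intro hg x
    obtain ⟨n, hn⟩ := forward g hg x
    exact ⟨n, by rw [foldl_eq]; exact hn⟩
  · intro h
    apply backward
    intro x
    obtain ⟨n, hn⟩ := h x
    exact ⟨n, by rw [← foldl_eq]; exact hn⟩

end Cfsg.Agent.S3937
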