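import Cfsg.Statements.S3939
import Mathlib
import Cfsg.Agent.Lib.Lead.SysNorm
import Cfsg.Agent.Lib.Lead.TISylow

set_option autoImplicit false
open Cfsg

namespace Cfsg.Agent.S3939

open scoped commutatorElement
universe u

/-- Elements of coprime order commute in a finite nilpotent group. -/
theorem commute_of_coprime_nilpotent : ∀ (k : ℕ) (K : Type u) [Group K] [Finite K]
    [Group.IsNilpotent K], Nat.card K = k → ∀ x y : K, (orderOf x).Coprime (orderOf y) →
    x * y = y * x := by
  intro k
  induction k using Nat.strong_induction_on with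
  | _ k ih =>
  intro K _ _ _ hk x y hxy
  by_cases hsub : Subsingleton K
  · exact Subsingleton.elim _ _
  · rw [not_subsingleton_iff_nontrivial] at hsub
    have hcne : Subgroup.center K ≠ ⊥ := Group.IsNilpotent.center_ne_bot K
    have hlt : Nat.card (K ⧸ Subgroup.center K) < k := by
      rw [← hk]
      have h1 := Subgroup.card_eq_card_quotient_mul_card_subgroup (Subgroup.center K)
      have h2 : 1 < Nat.card ↥(Subgroup.center K) := by
        rw [Subgroup.one_lt_card_iff_ne_bot]; exact hcne
      have h3 : 0 < Nat.card (K ⧸ Subgroup.center K) := Nat.card_pos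
      nlinarith
    have hcop : (orderOf (QuotientGroup.mk' (Subgroup.center K) x)).Coprime
        (orderOf (QuotientGroup.mk' (Subgroup.center K) y)) :=
      Nat.Coprime.coprime_dvd_left (orderOf_map_dvd _ x)
        (Nat.Coprime.coprime_dvd_right (orderOf_map_dvd _ y) hxy)
    have h1 := ih _ hlt (K ⧸ Subgroup.center K) rfl _ _ hcop
    have hz : x * y * x⁻¹ * y⁻¹ ∈ Subgroup.center K := by
      rw [← QuotientGroup.eq_one_iff, ← QuotientGroup.mk'_apply, map_mul, map_mul, map_mul, map_inv,
        map_inv, h1]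
      group
    obtain ⟨z, hzdef⟩ : ∃ z, z = x * y * x⁻¹ * y⁻¹ := ⟨_, rfl⟩
    rw [← hzdef] at hz
    have hzc : ∀ w : K, w * z = z * w := fun w => Subgroup.mem_center_iff.mp hz w
    have e1 : x * y * x⁻¹ = z * y := by rw [hzdef]; group
    have hzm : z ^ orderOf y = 1 := by
      have h2 : (z * y) ^ orderOf y = z ^ orderOf y * y ^ orderOf y :=
        (show Commute z y from (hzc y).symm).mul_pow _
      rw [← e1, conj_pow, pow_orderOf_eq_one, mul_one, mul_inv_cancel, mul_one] at h2
      exact h2.symm
    have e2 : y * x⁻¹ * y⁻¹ = x⁻¹ * z := by rw [hzdef]; group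
    have hzn : z ^ orderOf x = 1 := by
      have h2 : (x⁻¹ * z) ^ orderOf x = x⁻¹ ^ orderOf x * z ^ orderOf x :=
        (show Commute x⁻¹ z from hzc x⁻¹).mul_pow _
      rw [← e2, conj_pow, inv_pow, pow_orderOf_eq_one, inv_one, mul_one, mul_inv_cancel,
        one_mul] at h2
      exact h2.symm
    have hd1 : orderOf z ∣ orderOf y := orderOf_dvd_of_pow_eq_one hzm
    have hd2 : orderOf z ∣ orderOf x := orderOf_dvd_of_pow_eq_one hzn
    have hz1 : orderOf z = 1 := Nat.eq_one_of_dvd_coprimes hxy hd2 hd1
    have hz1' : z = 1 := orderOf_eq_one_iff.mp hz1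
    calc x * y = (x * y * x⁻¹ * y⁻¹) * (y * x) := by group
      _ = y * x := by rw [← hzdef, hz1', one_mul]

theorem hyper_of_nil : ∀ (k : ℕ) (G : Type u) [Group G] [Finite G], Nat.card G = k → ∀ g : G,
    (∀ x : G, Group.IsNilpotent ↥(Subgroup.closure ({x, g} : Set G))) →
    ∃ n, g ∈ Subgroup.upperCentralSeries G n := by
  intro k
  induction k using Nat.strong_induction_on with
  | _ k ih =>
  intro G _ _ hk g hR
  classical
  by_cases hcen : Subgroup.center G = ⊥
  · -- trivial centre: `g = 1`
    refine ⟨0, ?_⟩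
    rw [Subgroup.upperCentralSeries_zero, Subgroup.mem_bot]
    by_contra hg1
    have hog : orderOf g ≠ 1 := fun h => hg1 (orderOf_eq_one_iff.mp h)
    have hog0 : orderOf g ≠ 0 := (orderOf_pos g).ne'
    obtain ⟨p, hp, hpd⟩ : ∃ p : ℕ, p.Prime ∧ p ∣ orderOf g :=
      ⟨(orderOf g).minFac, Nat.minFac_prime hog, Nat.minFac_dvd _⟩
    haveI : Fact p.Prime := ⟨hp⟩
    obtain ⟨g', hg'⟩ : ∃ g', g' = g ^ (orderOf g / p) := ⟨_, rfl⟩
    have hg'o : orderOf g' = p := by rw [hg']; exact orderOf_pow_orderOf_div hog0 hpd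
    have hg'1 : g' ≠ 1 := by
      intro h
      rw [h, orderOf_one] at hg'o
      exact hp.one_lt.ne hg'o
    -- `g'` commutes with all `p'`-elements
    have hcomm : ∀ x : G, (orderOf x).Coprime p → x * g' = g' * x := by
      intro x hx
      haveI := hR x
      have hxK : x ∈ Subgroup.closure ({x, g} : Set G) :=
        Subgroup.subset_closure (Set.mem_insert x _)
      have hgK : g ∈ Subgroup.closure ({x, g} : Set G) :=
        Subgroup.subset_closure (Set.mem_insert_of_mem x rfl)
      have hg'K : g' ∈ Subgroup.closure ({x, g} : Set G) := by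
        rw [hg']; exact Subgroup.pow_mem _ hgK _
      have hcop : (orderOf (⟨x, hxK⟩ : ↥(Subgroup.closure ({x, g} : Set G)))).Coprime
          (orderOf (⟨g', hg'K⟩ : ↥(Subgroup.closure ({x, g} : Set G)))) := by
        rw [Subgroup.orderOf_mk, Subgroup.orderOf_mk, hg'o]; exact hx
      have := commute_of_coprime_nilpotent _ ↥(Subgroup.closure ({x, g} : Set G)) rfl _ _ hcop
      exact congrArg Subtype.val this
    -- the subgroup generated by the `p'`-elements
    obtain ⟨S, hS⟩ : ∃ S : Set G, S = {x : G | (orderOf x).Coprime p} := ⟨_, rfl⟩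
    obtain ⟨N, hN⟩ : ∃ N : Subgroup G, N = Subgroup.normalClosure S := ⟨_, rfl⟩
    haveI hNn : N.Normal := by rw [hN]; exact Subgroup.normalClosure_normal
    have hSN : S ⊆ N := by rw [hN]; exact Subgroup.subset_normalClosure
    have hNcomm : ∀ y ∈ N, y * g' = g' * y := by
      have hle : N ≤ Subgroup.centralizer ({g'} : Set G) := by
        rw [hN]
        unfold Subgroup.normalClosure
        rw [Subgroup.closure_le]
        intro a ha
        rw [Group.mem_conjugatesOfSet_iff] at ha
        obtain ⟨s, hs, hsa⟩ := ha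
        rw [isConj_iff] at hsa
        obtain ⟨c, hc⟩ := hsa
        have haS : (orderOf a).Coprime p := by
          rw [← hc]
          have : orderOf (c * s * c⁻¹) = orderOf s := by
            have := orderOf_injective (MulAut.conj c).toMonoidHom (MulAut.conj c).injective s
            simpa using this
          rw [this]
          rw [hS] at hs
          exact hs
        rw [SetLike.mem_coe, Subgroup.mem_centralizer_iff]
        intro h hh
        rw [Set.mem_singleton_iff] at hh
        rw [hh]
        exact (hcomm a haS).symm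
      intro y hy
      have := Subgroup.mem_centralizer_iff.mp (hle hy) g' (Set.mem_singleton g')
      exact this.symm
    -- `G ⧸ N` is a `p`-group
    have hQp : IsPGroup p (G ⧸ N) := by
      intro q
      obtain ⟨h, rfl⟩ := QuotientGroup.mk'_surjective N q
      obtain ⟨a, m, hm, hhm⟩ := Nat.exists_eq_pow_mul_and_not_dvd (orderOf_pos h).ne' p hp.ne_one
      refine ⟨a, ?_⟩
      rw [← map_pow, QuotientGroup.mk'_apply, QuotientGroup.eq_one_iff]
      apply hSN
      rw [hS]
      show (orderOf (h ^ p ^ a)).Coprime p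
      rw [orderOf_pow' h (pow_ne_zero a hp.ne_zero), hhm]
      have hgcd : Nat.gcd (p ^ a * m) (p ^ a) = p ^ a := Nat.gcd_eq_right (Dvd.intro _ rfl)
      rw [hgcd, Nat.mul_div_cancel_left m (pow_pos hp.pos a)]
      exact ((Nat.Prime.coprime_iff_not_dvd hp).mpr hm).symm
    obtain ⟨j, hj⟩ := IsPGroup.iff_card.mp hQp
    have hNidx : N.index = p ^ j := by rw [Subgroup.index_eq_card]; exact hj
    obtain ⟨P⟩ : Nonempty (Sylow p G) := inferInstance
    have hPN : (P : Subgroup G) ⊔ N = ⊤ := by
      apply Cfsg.Agent.Lib.Lead.SysNorm.sup_eq_of_coprime_relIndex _ _ _ le_top le_top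
      rw [Subgroup.relIndex_top_right, Subgroup.relIndex_top_right, hNidx]
      apply Nat.Coprime.pow_right
      rw [Nat.coprime_comm]
      exact (Nat.Prime.coprime_iff_not_dvd hp).mpr P.not_dvd_index
    -- the centralizer of `N`
    obtain ⟨C, hC⟩ : ∃ C : Subgroup G, C = Subgroup.centralizer (N : Set G) := ⟨_, rfl⟩
    haveI hCn : C.Normal := by rw [hC]; infer_instance
    have hg'C : g' ∈ C := by
      rw [hC, Subgroup.mem_centralizer_iff]
      intro y hy
      exact hNcomm y hy
    -- a conjugate of `g'` in `P`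
    have hzp : IsPGroup p ↥(Subgroup.zpowers g') := by
      apply IsPGroup.of_card (n := 1)
      rw [Nat.card_zpowers, hg'o, pow_one]
    obtain ⟨Q, hQ⟩ := hzp.exists_le_sylow
    obtain ⟨h, hh⟩ := MulAction.exists_smul_eq G Q P
    have hwP : h * g' * h⁻¹ ∈ (P : Subgroup G) := by
      rw [← hh, Cfsg.Agent.Lib.Lead.TISylow.mem_sylow_smul]
      have : h⁻¹ * (h * g' * h⁻¹) * h = g' := by group
      rw [this]
      exact hQ (Subgroup.mem_zpowers g')
    have hwC : h * g' * h⁻¹ ∈ C := hCn.conj_mem g' hg'C h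
    have hw1 : h * g' * h⁻¹ ≠ 1 := by
      intro hw
      apply hg'1
      have : g' = h⁻¹ * (h * g' * h⁻¹) * h := by group
      rw [this, hw]; group
    -- a nontrivial element of `C ∩ Z(P)`
    haveI hM'n : (C.subgroupOf (P : Subgroup G)).Normal := inferInstance
    have hPp : IsPGroup p ↥(P : Subgroup G) := P.isPGroup'
    have hM'ne : C.subgroupOf (P : Subgroup G) ≠ ⊥ := by
      intro hbot
      have : (⟨h * g' * h⁻¹, hwP⟩ : ↥(P : Subgroup G)) ∈ C.subgroupOf (P : Subgroup G) :=
        Subgroup.mem_subgroupOf.mpr hwC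
      rw [hbot, Subgroup.mem_bot] at this
      exact hw1 (congrArg Subtype.val this)
    obtain ⟨m, hmM, hm1, hmP⟩ := Cfsg.Agent.Lib.Lead.SysNorm.exists_commuting_of_pgroup
      (⊤ : Subgroup ↥(P : Subgroup G)) (C.subgroupOf (P : Subgroup G))
      (hPp.to_subgroup _) (hPp.to_subgroup _) hM'ne
    have hzC : (m : G) ∈ C := Subgroup.mem_subgroupOf.mp hmM
    have hz1 : (m : G) ≠ 1 := fun h => hm1 (Subtype.ext h)
    have hzP : ∀ y ∈ (P : Subgroup G), y * (m : G) = (m : G) * y := by
      intro y hy
      have := hmP ⟨y, hy⟩ (Subgroup.mem_top _)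
      exact congrArg Subtype.val this
    have hzN : ∀ y ∈ N, y * (m : G) = (m : G) * y := by
      intro y hy
      rw [hC] at hzC
      exact Subgroup.mem_centralizer_iff.mp hzC y hy
    have hzcen : (m : G) ∈ Subgroup.center G := by
      rw [Subgroup.mem_center_iff]
      intro y
      apply Cfsg.Agent.Lib.Lead.SysNorm.commute_of_mem_sup (P : Subgroup G) N (m : G) hzP hzN
      rw [hPN]; exact Subgroup.mem_top y
    rw [hcen, Subgroup.mem_bot] at hzcen
    exact hz1 hzcen
  · -- nontrivial centre: pass to the quotient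
    have hlt : Nat.card (G ⧸ Subgroup.center G) < k := by
      rw [← hk]
      have h1 := Subgroup.card_eq_card_quotient_mul_card_subgroup (Subgroup.center G)
      have h2 : 1 < Nat.card ↥(Subgroup.center G) := by
        rw [Subgroup.one_lt_card_iff_ne_bot]; exact hcen
      have h3 : 0 < Nat.card (G ⧸ Subgroup.center G) := Nat.card_pos
      nlinarith
    have hRq : ∀ xb : G ⧸ Subgroup.center G, Group.IsNilpotent
        ↥(Subgroup.closure ({xb, QuotientGroup.mk' (Subgroup.center G) g} : Set (G ⧸ Subgroup.center G))) := by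
      intro xb
      obtain ⟨x, rfl⟩ := QuotientGroup.mk'_surjective (Subgroup.center G) xb
      haveI := hR x
      have hmap : Subgroup.closure ({QuotientGroup.mk' (Subgroup.center G) x,
          QuotientGroup.mk' (Subgroup.center G) g} : Set (G ⧸ Subgroup.center G)) =
          (Subgroup.closure ({x, g} : Set G)).map (QuotientGroup.mk' (Subgroup.center G)) := by
        rw [MonoidHom.map_closure, Set.image_pair]
      rw [hmap]
      exact Group.nilpotent_of_surjective
        ((QuotientGroup.mk' (Subgroup.center G)).subgroupMap (Subgroup.closure ({x, g} : Set G)))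
        (MonoidHom.subgroupMap_surjective _ _)
    obtain ⟨n, hn⟩ := ih _ hlt (G ⧸ Subgroup.center G) rfl _ hRq
    refine ⟨n + 1, ?_⟩
    rw [← Nat.succ_eq_add_one, ← Subgroup.comap_upperCentralSeries_quotient_center, Subgroup.mem_comap]
    exact hn

theorem nil_of_hyper {G : Type*} [Group G] (g x : G) (n : ℕ)
    (hg : g ∈ Subgroup.upperCentralSeries G n) :
    Group.IsNilpotent ↥(Subgroup.closure ({x, g} : Set G)) := by
  obtain ⟨H, hH⟩ : ∃ H : Subgroup G, H = Subgroup.closure ({x, g} : Set G) := ⟨_, rfl⟩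
  rw [← hH]
  have hxH : x ∈ H := by rw [hH]; exact Subgroup.subset_closure (Set.mem_insert x _)
  have hgH : g ∈ H := by rw [hH]; exact Subgroup.subset_closure (Set.mem_insert_of_mem x rfl)
  have hup : ∀ i : ℕ, ∀ y : ↥H, (y : G) ∈ Subgroup.upperCentralSeries G i →
      y ∈ Subgroup.upperCentralSeries ↥H i := by
    intro i
    induction i with
    | zero =>
      intro y hy
      rw [Subgroup.upperCentralSeries_zero, Subgroup.mem_bot] at hy ⊢
      exact Subtype.ext hy
    | succ i ih =>
      intro y hy
      rw [Subgroup.mem_upperCentralSeries_succ_iff] at hy ⊢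
      intro h
      apply ih
      have : ((⁅y, h⁆ : ↥H) : G) = ⁅(y : G), (h : G)⁆ := by
        simp [commutatorElement_def]
      rw [this]
      exact hy h
  have hgZ : (⟨g, hgH⟩ : ↥H) ∈ Subgroup.upperCentralSeries ↥H n := hup n ⟨g, hgH⟩ hg
  -- the quotient by `Z_n(H)` is generated by the image of `x`
  obtain ⟨π, hπ⟩ : ∃ π : ↥H →* ↥H ⧸ Subgroup.upperCentralSeries ↥H n,
      π = QuotientGroup.mk' (Subgroup.upperCentralSeries ↥H n) := ⟨_, rfl⟩
  have hπs : Function.Surjective π := by rw [hπ]; exact QuotientGroup.mk'_surjective _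
  have hker : ∀ y, π y = 1 ↔ y ∈ Subgroup.upperCentralSeries ↥H n := by
    intro y; rw [hπ]; exact QuotientGroup.eq_one_iff y
  have hgen : ∀ q : ↥H ⧸ Subgroup.upperCentralSeries ↥H n, ∃ j : ℤ, π ⟨x, hxH⟩ ^ j = q := by
    have htop : Subgroup.closure (((↑) : ↥H → G) ⁻¹' ({x, g} : Set G)) = ⊤ := by
      have := Subgroup.closure_closure_coe_preimage (k := ({x, g} : Set G))
      subst hH
      exact this
    have hle : (⊤ : Subgroup (↥H ⧸ Subgroup.upperCentralSeries ↥H n)) ≤
        Subgroup.zpowers (π ⟨x, hxH⟩) := by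
      rw [← Subgroup.map_top_of_surjective π hπs, ← htop, MonoidHom.map_closure,
        Subgroup.closure_le]
      rintro _ ⟨y, hy, rfl⟩
      rcases hy with hy | hy
      · have : y = ⟨x, hxH⟩ := Subtype.ext hy
        rw [this]; exact Subgroup.mem_zpowers _
      · have hy' : (y : G) = g := hy
        have : y = ⟨g, hgH⟩ := Subtype.ext hy'
        rw [this, SetLike.mem_coe, (hker _).mpr hgZ]
        exact Subgroup.one_mem _
    intro q
    exact Subgroup.mem_zpowers_iff.mp (hle (Subgroup.mem_top q))
  have hall : ∀ y : ↥H, y ∈ Subgroup.upperCentralSeries ↥H (n + 1) := by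
    intro y
    rw [Subgroup.mem_upperCentralSeries_succ_iff]
    intro h
    rw [← hker, map_commutatorElement]
    obtain ⟨j₁, hj₁⟩ := hgen (π y)
    obtain ⟨j₂, hj₂⟩ := hgen (π h)
    rw [← hj₁, ← hj₂, commutatorElement_eq_one_iff_mul_comm, ← zpow_add, ← zpow_add, add_comm]
  exact ⟨⟨n + 1, eq_top_iff.mpr (fun y _ => hall y)⟩⟩

/-- In a finite group G the set of elements g such that the subgroup generated by g and x is nilpotent for every x ∈ G is exactly the hypercenter of G (the last term of the upper central series). -/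
theorem result {G : Type*} [Group G] [Finite G] (g : G) :
    (∀ x : G, Group.IsNilpotent ↥(Subgroup.closure ({x, g} : Set G))) ↔ g ∈ ⨆ n : ℕ, Subgroup.upperCentralSeries G n := by
  constructor
  · intro hR
    obtain ⟨n, hn⟩ := hyper_of_nil _ G rfl g hR
    exact Subgroup.mem_iSup_of_mem n hn
  · intro hg
    have hdir : Directed (· ≤ ·) (fun n : ℕ => Subgroup.upperCentralSeries G n) :=
      (Subgroup.upperCentralSeries_mono G).directed_le
    obtain ⟨n, hn⟩ := (Subgroup.mem_iSup_of_directed hdir).mp hg
    intro x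
    exact nil_of_hyper g x n hn

end Cfsg.Agent.S3939
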