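import Mathlib
import Cfsg.Statements.S3941

set_option autoImplicit false
open Cfsg

namespace Cfsg.Agent.S3941

/-- brute force in `S₄`: an element of order 3 times a suitable even conjugate is an involution -/
theorem a4_brute : ∀ c : Equiv.Perm (Fin 4), c ≠ 1 → c ^ 3 = 1 →
    ∃ g : Equiv.Perm (Fin 4), Equiv.Perm.sign g = 1 ∧ (c⁻¹ * (g * c * g⁻¹)) ^ 2 = 1 ∧
      c⁻¹ * (g * c * g⁻¹) ≠ 1 := by
  decide +kernel

/-- the embedding `Perm (Fin m) → Perm (Fin (m+1))` fixing the last point -/
noncomputable def emb (m : ℕ) : Equiv.Perm (Fin m) →* Equiv.Perm (Fin (m + 1)) :=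
  Equiv.Perm.extendDomainHom (finSuccAboveEquiv (Fin.last m))

theorem emb_inj (m : ℕ) : Function.Injective (emb m) :=
  Equiv.Perm.extendDomainHom_injective _

theorem sign_emb (m : ℕ) (e : Equiv.Perm (Fin m)) : Equiv.Perm.sign (emb m e) = Equiv.Perm.sign e := by
  unfold emb
  simp only [Equiv.Perm.extendDomainHom_apply]
  exact Equiv.Perm.sign_extendDomain e _

/-- the induced embedding on alternating groups -/
noncomputable def embA (m : ℕ) : alternatingGroup (Fin m) →* alternatingGroup (Fin (m + 1)) :=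
  ((emb m).comp (alternatingGroup (Fin m)).subtype).codRestrict (alternatingGroup (Fin (m + 1)))
    (fun x => by
      rw [Equiv.Perm.mem_alternatingGroup]
      simp only [MonoidHom.coe_comp, Function.comp_apply, Subgroup.coe_subtype]
      rw [sign_emb]
      exact Equiv.Perm.mem_alternatingGroup.mp x.2)

theorem embA_inj (m : ℕ) : Function.Injective (embA m) := by
  intro x y hxy
  have h1 : ((embA m x : alternatingGroup (Fin (m+1))) : Equiv.Perm (Fin (m+1))) = (embA m y : alternatingGroup (Fin (m+1))) := by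
    rw [hxy]
  have h2 : emb m x.1 = emb m y.1 := h1
  exact Subtype.ext (emb_inj m h2)

theorem two_dvd_card_alt (m : ℕ) (hm : 4 ≤ m) : 2 ∣ Nat.card (alternatingGroup (Fin m)) := by
  have : Nontrivial (Fin m) := Fin.nontrivial_iff_two_le.mpr (by omega)
  have h1 : 2 * Nat.card (alternatingGroup (Fin m)) = Nat.card (Equiv.Perm (Fin m)) :=
    two_mul_nat_card_alternatingGroup
  rw [Nat.card_perm, Nat.card_fin] at h1
  have h2 : (4 : ℕ).factorial ∣ m.factorial := Nat.factorial_dvd_factorial hm
  have h3 : (4 : ℕ).factorial = 24 := by decide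
  rw [h3] at h2
  omega

theorem not_normal_pgroup (m p : ℕ) [Fact p.Prime] (hp : p ≠ 2) (hm : 4 ≤ m)
    (Q : Subgroup (alternatingGroup (Fin m))) (hQn : Q.Normal) (hQp : IsPGroup p Q) (hQ : Q ≠ ⊥) :
    False := by
  have hpp : p.Prime := Fact.out
  rcases Nat.lt_or_ge m 5 with h4 | h5
  · have hm4 : m = 4 := by omega
    subst hm4
    obtain ⟨⟨c, hcQ⟩, hc1''⟩ := (Subgroup.ne_bot_iff_exists_ne_one).mp hQ
    have hc1 : c ≠ 1 := fun h => hc1'' (Subtype.ext h)
    -- order of c
    obtain ⟨k, hk⟩ := hQp ⟨c, hcQ⟩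
    have hk' : c ^ (p ^ k) = 1 := by
      have := congrArg Subtype.val hk
      simpa using this
    have hord : orderOf c ∣ p ^ k := orderOf_dvd_of_pow_eq_one hk'
    obtain ⟨j, hj, hoj⟩ := (Nat.dvd_prime_pow hpp).mp hord
    have hcard : Nat.card (alternatingGroup (Fin 4)) = 12 := by
      rw [nat_card_alternatingGroup]
      simp
      decide
    have hd12 : orderOf c ∣ 12 := hcard ▸ orderOf_dvd_natCard c
    have hj0 : j ≠ 0 := by
      intro h0
      rw [h0, pow_zero] at hoj
      exact hc1 (orderOf_eq_one_iff.mp hoj)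
    have hp12 : p ∣ 12 := by
      have : p ∣ p ^ j := dvd_pow_self p hj0
      exact (this.trans (hoj ▸ dvd_rfl)).trans hd12
    have hp3 : p = 3 := by
      have hle : p ≤ 12 := Nat.le_of_dvd (by norm_num) hp12
      have h2 := hpp.two_le
      interval_cases p <;> first | rfl | (exfalso; revert hp12; decide) | (exfalso; exact hp rfl) | (exfalso; revert hpp; decide)
    subst hp3
    have hj1 : j = 1 := by
      rcases Nat.lt_or_ge j 2 with h | h
      · omega
      · exfalso
        have : 3 ^ 2 ∣ 3 ^ j := pow_dvd_pow 3 h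
        have h9 : 9 ∣ 12 := by
          have := (this.trans (hoj ▸ dvd_rfl)).trans hd12
          simpa using this
        revert h9; decide
    rw [hj1, pow_one] at hoj
    have hc3 : c ^ 3 = 1 := by rw [← hoj]; exact pow_orderOf_eq_one c
    have hc3' : (c : Equiv.Perm (Fin 4)) ^ 3 = 1 := by
      have := congrArg Subtype.val hc3
      simpa using this
    have hc1' : (c : Equiv.Perm (Fin 4)) ≠ 1 := fun h => hc1 (Subtype.ext h)
    obtain ⟨g, hg, hsq, hne⟩ := a4_brute c.1 hc1' hc3'
    let g' : alternatingGroup (Fin 4) := ⟨g, Equiv.Perm.mem_alternatingGroup.mpr hg⟩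
    have hd : c⁻¹ * (g' * c * g'⁻¹) ∈ Q := Q.mul_mem (Q.inv_mem hcQ) (hQn.conj_mem c hcQ g')
    obtain ⟨i, hi⟩ := hQp ⟨_, hd⟩
    have hi' : (c⁻¹ * (g' * c * g'⁻¹)) ^ (3 ^ i) = 1 := by
      have := congrArg Subtype.val hi
      simpa using this
    have hsq' : (c⁻¹ * (g' * c * g'⁻¹)) ^ 2 = 1 := by
      apply Subtype.ext
      simpa [g'] using hsq
    have hne' : c⁻¹ * (g' * c * g'⁻¹) ≠ 1 := by
      intro h
      apply hne
      have := congrArg Subtype.val h
      simpa [g'] using this
    have ho2 : orderOf (c⁻¹ * (g' * c * g'⁻¹)) = 2 := orderOf_eq_prime hsq' hne'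
    have : 2 ∣ 3 ^ i := ho2 ▸ orderOf_dvd_of_pow_eq_one hi'
    have : 2 ∣ 3 := Nat.Prime.dvd_of_dvd_pow Nat.prime_two this
    revert this; decide
  · have hsimple : IsSimpleGroup (alternatingGroup (Fin m)) :=
      alternatingGroup.isSimpleGroup (by simpa using h5)
    rcases hsimple.eq_bot_or_eq_top_of_normal Q hQn with h | h
    · exact hQ h
    · subst h
      have hG : IsPGroup p (alternatingGroup (Fin m)) := by
        intro x
        obtain ⟨k, hk⟩ := hQp ⟨x, Subgroup.mem_top x⟩
        refine ⟨k, ?_⟩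
        have := congrArg Subtype.val hk
        simpa using this
      obtain ⟨k, hk⟩ := IsPGroup.iff_card.mp hG
      have h2 := two_dvd_card_alt m hm
      rw [hk] at h2
      have : 2 ∣ p := Nat.Prime.dvd_of_dvd_pow Nat.prime_two h2
      exact hp ((Nat.prime_dvd_prime_iff_eq Nat.prime_two hpp).mp this).symm

/-- Let n ≥ 5 and p an odd prime with p ≤ n, and suppose that every proper subgroup of the alternating group of degree n whose order is divisible by p has a normal Sylow p-subgroup. Then n = p. -/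
theorem result (n p : ℕ) (hn : 5 ≤ n) [Fact p.Prime] (hp : p ≠ 2) (hpn : p ≤ n)
    (h : ∀ H : Subgroup ↥(alternatingGroup (Fin n)), H ≠ ⊤ → p ∣ Nat.card ↥H → Cfsg.IsPClosed p ↥H) : n = p := by
  by_contra hne
  have hpp : p.Prime := Fact.out
  obtain ⟨m, rfl⟩ : ∃ m, n = m + 1 := ⟨n - 1, by omega⟩
  have hpm : p ≤ m := by omega
  have hm : 4 ≤ m := by omega
  have : Nontrivial (Fin m) := Fin.nontrivial_iff_two_le.mpr (by omega)
  have : Nontrivial (Fin (m+1)) := Fin.nontrivial_iff_two_le.mpr (by omega)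
  set H : Subgroup (alternatingGroup (Fin (m+1))) := (embA m).range with hH
  let e : alternatingGroup (Fin m) ≃* H := MonoidHom.ofInjective (embA_inj m)
  have hcardH : Nat.card H = Nat.card (alternatingGroup (Fin m)) := (Nat.card_congr e.toEquiv).symm
  have h1 : 2 * Nat.card (alternatingGroup (Fin m)) = m.factorial := by
    rw [two_mul_nat_card_alternatingGroup, Nat.card_perm, Nat.card_fin]
  have h2 : 2 * Nat.card (alternatingGroup (Fin (m+1))) = (m+1).factorial := by
    rw [two_mul_nat_card_alternatingGroup, Nat.card_perm, Nat.card_fin]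
  have hHtop : H ≠ ⊤ := by
    intro htop
    have : Nat.card H = Nat.card (alternatingGroup (Fin (m+1))) := by
      rw [htop]; exact Nat.card_congr (Subgroup.topEquiv).toEquiv
    rw [hcardH] at this
    rw [← this, h1, Nat.factorial_succ] at h2
    have hpos : 0 < m.factorial := Nat.factorial_pos m
    nlinarith
  have hpdvd : p ∣ Nat.card H := by
    rw [hcardH]
    have : p ∣ 2 * Nat.card (alternatingGroup (Fin m)) := by
      rw [h1]; exact (Nat.Prime.dvd_factorial hpp).mpr hpm
    rcases (Nat.Prime.dvd_mul hpp).mp this with h' | h'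
    · exfalso
      exact hp ((Nat.prime_dvd_prime_iff_eq hpp Nat.prime_two).mp h')
    · exact h'
  have hcl := h H hHtop hpdvd
  obtain ⟨P⟩ : Nonempty (Sylow p H) := inferInstance
  have hPn : (P : Subgroup H).Normal := hcl P
  have hPbot : (P : Subgroup H) ≠ ⊥ := P.ne_bot_of_dvd_card hpdvd
  let Q : Subgroup (alternatingGroup (Fin m)) := (P : Subgroup H).comap e.toMonoidHom
  have hQn : Q.Normal := hPn.comap _
  have hQp : IsPGroup p Q := P.2.comap_of_injective e.toMonoidHom e.injective
  have hQbot : Q ≠ ⊥ := by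
    intro hb
    apply hPbot
    have : (P : Subgroup H) = Q.map e.toMonoidHom :=
      (Subgroup.map_comap_eq_self_of_surjective (f := e.toMonoidHom) e.surjective _).symm
    rw [this, hb, Subgroup.map_bot]
  exact not_normal_pgroup m p hp hm Q hQn hQp hQbot

end Cfsg.Agent.S3941
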