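import Cfsg.Statements.S3949
import Mathlib

set_option autoImplicit false
open Cfsg

namespace Cfsg.Agent.S3949

set_option autoImplicit false

/-- Let G be a finite group and α an automorphism of G of order 2 such that the elements g·α(g)⁻¹ generate G. Let j be a positive integer such that 2^j divides the order of no element inverted by α. Then the set of values of the j-th iterate of the map c ↦ c·α(c)⁻¹ is exactly the set of elements of odd order inverted by α. -/
theorem result {G : Type*} [Group G] [Finite G] (α : MulAut G) (hα : orderOf α = 2) (hG : Subgroup.closure (Set.range (fun c : G => c * (α c)⁻¹)) = ⊤)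
    (j : ℕ) (hj : ∀ g : G, α g = g⁻¹ → ¬ 2 ^ j ∣ orderOf g) :
    Set.range ((fun c : G => c * (α c)⁻¹)^[j]) = {g : G | Odd (orderOf g) ∧ α g = g⁻¹} := by
  obtain ⟨τ, hτ⟩ : ∃ τ : G → G, τ = fun c : G => c * (α c)⁻¹ := ⟨_, rfl⟩
  rw [← hτ]
  have hαα : ∀ g : G, α (α g) = g := by
    intro g
    have h1 : α ^ 2 = 1 := by rw [← hα]; exact pow_orderOf_eq_one α
    have h2 := DFunLike.congr_fun h1 g
    rw [pow_two] at h2
    exact h2
  have hinv : ∀ c : G, α (τ c) = (τ c)⁻¹ := by
    intro c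
    rw [hτ]
    simp only [map_mul, map_inv, hαα, mul_inv_rev, inv_inv]
  have hsq : ∀ g : G, α g = g⁻¹ → τ g = g ^ 2 := by
    intro g hg
    rw [hτ]
    simp only [hg, inv_inv, pow_two]
  have hpowinv : ∀ (g : G) (n : ℕ), α g = g⁻¹ → α (g ^ n) = (g ^ n)⁻¹ := by
    intro g n hg
    rw [map_pow, hg, inv_pow]
  have hiter : ∀ (n : ℕ) (c : G), τ^[n + 1] c = (τ c) ^ 2 ^ n := by
    intro n
    induction n with
    | zero => intro c; simp
    | succ n ih =>
      intro c
      rw [Function.iterate_succ_apply', ih c, hsq _ (hpowinv _ _ (hinv c)), ← pow_mul, ← pow_succ]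
  have hj1 : 1 ≤ j := by
    by_contra hcon
    have hj0 : j = 0 := by omega
    exact hj 1 (by simp) (by rw [hj0]; simp)
  obtain ⟨k, rfl⟩ : ∃ k, j = k + 1 := ⟨j - 1, by omega⟩
  ext g
  constructor
  · rintro ⟨c, rfl⟩
    rw [hiter]
    refine ⟨?_, hpowinv _ _ (hinv c)⟩
    -- order of t ^ 2 ^ k is odd
    obtain ⟨t, ht⟩ : ∃ t, t = τ c := ⟨_, rfl⟩
    rw [← ht]
    have htinv : α t = t⁻¹ := by rw [ht]; exact hinv c
    have hnd := hj t htinv
    rw [Nat.odd_iff, ← Nat.two_dvd_ne_zero]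
    intro h2
    apply hnd
    -- orderOf (t ^ 2^k) = orderOf t / gcd
    have h3 : orderOf (t ^ 2 ^ k) = orderOf t / Nat.gcd (orderOf t) (2 ^ k) := orderOf_pow t
    rw [h3] at h2
    obtain ⟨i, hi, hgcd⟩ := (Nat.dvd_prime_pow Nat.prime_two).mp (Nat.gcd_dvd_right (orderOf t) (2 ^ k))
    rw [hgcd] at h2
    have h4 : 2 ^ i ∣ orderOf t := by rw [← hgcd]; exact Nat.gcd_dvd_left _ _
    have h5 : 2 ^ (i + 1) ∣ orderOf t := by
      obtain ⟨m, hm⟩ := h4
      rw [hm, Nat.mul_div_cancel_left _ (by positivity)] at h2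
      obtain ⟨m', rfl⟩ := h2
      rw [hm, pow_succ]
      exact ⟨m', by ring⟩
    -- then gcd would be bigger unless i = k
    have hik : i = k := by
      by_contra hne
      have hlt : i + 1 ≤ k := by omega
      have h6 : 2 ^ (i + 1) ∣ Nat.gcd (orderOf t) (2 ^ k) := Nat.dvd_gcd h5 (pow_dvd_pow 2 hlt)
      rw [hgcd] at h6
      have := Nat.le_of_dvd (by positivity) h6
      have : 2 ^ i < 2 ^ (i + 1) := Nat.pow_lt_pow_right (by norm_num) (Nat.lt_succ_self i)
      omega
    rw [← hik]; exact h5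
  · rintro ⟨hodd, hginv⟩
    -- squaring is a bijection on ⟨g⟩: find h with h ^ 2^(k+1) = g
    have hcop : Nat.Coprime (2 ^ (k + 1)) (orderOf g) := Nat.Coprime.pow_left _ (Nat.coprime_two_left.mpr hodd)
    obtain ⟨m, hm⟩ := exists_pow_eq_self_of_coprime hcop
    refine ⟨g ^ m, ?_⟩
    rw [hiter, hsq _ (hpowinv g m hginv), ← pow_mul, ← pow_succ']
    rw [← pow_mul, mul_comm, pow_mul]
    exact hm

end Cfsg.Agent.S3949
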