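import Cfsg.Statements.S3950
import Mathlib
import Cfsg.Agent.H1.Basic
import Cfsg.Agent.S3979
import Cfsg.Prelude.Def_KGroupFacts
import Cfsg.Agent.H1.HeisG

set_option autoImplicit false
open Cfsg

namespace Cfsg.Agent.S3950

set_option autoImplicit false
open H1
open scoped commutatorElement

/-- A finite abelian group has trivial Schur multiplier if and only if it is cyclic. -/
theorem result {G : Type*} [CommGroup G] [Finite G] : Cfsg.HasCyclicSchurMultiplier G 1 ↔ IsCyclic G := by
  constructor
  · intro hM
    by_contra hnc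
    obtain ⟨p, hpf, α, β, g₁, g₂, h1, h2, h3, h4⟩ := exists_independent_characters hnc
    have hp : p.Prime := hpf.out
    have hst : Cfsg.IsStemExtension (HeisG.proj α β) := by
      apply HeisG.isStem g₁ g₂
      · show Multiplicative.toAdd (α g₁) = 1; rw [h1]; rfl
      · show Multiplicative.toAdd (β g₁) = 0; rw [h2]; rfl
      · show Multiplicative.toAdd (α g₂) = 0; rw [h3]; rfl
      · show Multiplicative.toAdd (β g₂) = 1; rw [h4]; rfl
    obtain ⟨π, hπ⟩ := hM.2 (HeisG G p α β) (HeisG.proj α β) hst
    have hker : (HeisG.cen α β (1 : ZMod p)) ∈ (HeisG.proj α β).ker := HeisG.mem_ker_proj.2 rfl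
    obtain ⟨t, ht⟩ := hπ ⟨_, hker⟩
    have ht1 : t = 1 := Subsingleton.elim (α := Fin 1) _ _
    rw [ht1, map_one] at ht
    have h5 := congrArg (fun k : (HeisG.proj α β).ker => (k : HeisG G p α β).z) ht
    simp only [Subgroup.coe_one, HeisG.one_z, HeisG.cen] at h5
    exact zero_ne_one h5
  · intro hc
    exact S3979.result

end Cfsg.Agent.S3950
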