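import Cfsg.Statements.S3951
import Mathlib
import Cfsg.Agent.H1.Basic
import Cfsg.Agent.H1.BaerTrick
import Cfsg.Agent.H1.StemMeta
import Cfsg.Prelude.Def_KGroupFacts
import Cfsg.Agent.H1.Heis

set_option autoImplicit false
open Cfsg

namespace Cfsg.Agent.S3951

set_option autoImplicit false
open H1
open scoped commutatorElement

/-- For positive integers `m` and `n` with `n` dividing `m`, the Schur multiplier of the abelian group `ZMod m × ZMod n` (written multiplicatively) is cyclic of order `n`. In particular the elementary abelian group of order `p ^ 2` has multiplier of order `p`. -/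
theorem result (m n : ℕ) [NeZero m] [NeZero n] (hnm : n ∣ m) : Cfsg.HasCyclicSchurMultiplier (Multiplicative (ZMod m × ZMod n)) n := by
  constructor
  · exact ⟨Heis m n hnm, inferInstance, inferInstance, Heis.proj hnm, Heis.isStem, ⟨Heis.kerEquiv hnm⟩⟩
  · intro Γ _ _ σ hσ
    obtain ⟨hsurj, hcen, hcomm⟩ := hσ
    obtain ⟨at', hat⟩ := hsurj (Multiplicative.ofAdd ((1 : ZMod m), (0 : ZMod n)))
    obtain ⟨bt, hbt⟩ := hsurj (Multiplicative.ofAdd ((0 : ZMod m), (1 : ZMod n)))
    have hpowa : ∀ k : ℕ, (Multiplicative.ofAdd ((1 : ZMod m), (0 : ZMod n))) ^ k =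
        Multiplicative.ofAdd (((k : ℕ) : ZMod m), (0 : ZMod n)) := by
      intro k
      rw [← ofAdd_nsmul]
      congr 1
      simp
    have hpowb : ∀ k : ℕ, (Multiplicative.ofAdd ((0 : ZMod m), (1 : ZMod n))) ^ k =
        Multiplicative.ofAdd ((0 : ZMod m), ((k : ℕ) : ZMod n)) := by
      intro k
      rw [← ofAdd_nsmul]
      congr 1
      simp
    have hgen : Subgroup.closure {σ at', σ bt} = ⊤ := by
      rw [hat, hbt, eq_top_iff]
      intro t _
      have e : t = (Multiplicative.ofAdd ((1 : ZMod m), (0 : ZMod n))) ^ (Multiplicative.toAdd t).1.val *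
          (Multiplicative.ofAdd ((0 : ZMod m), (1 : ZMod n))) ^ (Multiplicative.toAdd t).2.val := by
        rw [hpowa, hpowb, ← ofAdd_add, ZMod.natCast_zmod_val, ZMod.natCast_zmod_val]
        simp
      rw [e]
      exact mul_mem (pow_mem (Subgroup.subset_closure (Set.mem_insert _ _)) _)
        (pow_mem (Subgroup.subset_closure (Set.mem_insert_of_mem _ (Set.mem_singleton _))) _)
    have hgenΓ := closure_lifts_union_ker σ at' bt hgen
    have hcomker : commutator Γ ≤ σ.ker := by
      rw [commutator_def, Subgroup.commutator_le]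
      intro g _ h _
      rw [MonoidHom.mem_ker, map_commutatorElement, commutatorElement_eq_one_iff_mul_comm]
      exact mul_comm _ _
    have hcl : ClassTwo Γ := by
      intro x y
      apply hcen
      apply hcomker
      rw [commutator_def]
      exact Subgroup.commutator_mem_commutator (Subgroup.mem_top _) (Subgroup.mem_top _)
    obtain ⟨c, hcdef⟩ : ∃ c, c = ⁅at', bt⁆ := ⟨_, rfl⟩
    have hcZ : c ∈ Subgroup.center Γ := by rw [hcdef]; exact hcl _ _
    have hNn : (Subgroup.zpowers c).Normal := by
      constructor
      intro x hx g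
      have hxZ : x ∈ Subgroup.center Γ := by
        obtain ⟨j, rfl⟩ := hx
        exact zpow_mem hcZ j
      have := Subgroup.mem_center_iff.1 hxZ g
      have e : g * x * g⁻¹ = x := by rw [this]; group
      rw [e]; exact hx
    have hcomle : commutator Γ ≤ Subgroup.zpowers c := by
      apply commutator_le_of_closure _ hgenΓ
      intro t ht t' ht'
      rcases ht with (rfl | rfl) | ht
      · rcases ht' with (rfl | rfl) | ht'
        · rw [commutatorElement_self]; exact one_mem _
        · rw [← hcdef]; exact Subgroup.mem_zpowers c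
        · rw [comm_central_right _ (hcen ht')]; exact one_mem _
      · rcases ht' with (rfl | rfl) | ht'
        · rw [← commutatorElement_inv, ← hcdef]; exact inv_mem (Subgroup.mem_zpowers c)
        · rw [commutatorElement_self]; exact one_mem _
        · rw [comm_central_right _ (hcen ht')]; exact one_mem _
      · rw [comm_central_left _ (hcen ht)]; exact one_mem _
    have hcn : c ^ n = 1 := by
      rw [hcdef, ← hcl.comm_pow_right]
      apply comm_central_right
      apply hcen
      rw [MonoidHom.mem_ker, map_pow, hbt, hpowb, ZMod.natCast_self]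
      rfl
    have hcker : c ∈ σ.ker := by
      apply hcomker
      rw [hcdef, commutator_def]
      exact Subgroup.commutator_mem_commutator (Subgroup.mem_top _) (Subgroup.mem_top _)
    obtain ⟨C, hCdef⟩ : ∃ C : σ.ker, C = ⟨c, hcker⟩ := ⟨_, rfl⟩
    have hCn : C ^ n = 1 := by
      apply Subtype.ext
      rw [hCdef, Subgroup.coe_pow, Subgroup.coe_one]
      exact hcn
    let π : Multiplicative (ZMod n) →* σ.ker :=
      { toFun := fun t => C ^ (Multiplicative.toAdd t).val
        map_one' := by simp
        map_mul' := by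
          intro a b
          rw [toAdd_mul, ZMod.val_add, ← pow_add, ← pow_eq_pow_mod _ hCn] }
    refine ⟨π, ?_⟩
    intro y
    have hy : (y : Γ) ∈ Subgroup.zpowers c := hcomle (hcomm y.2)
    rw [← mem_powers_iff_mem_zpowers] at hy
    obtain ⟨j, hj⟩ := hy
    replace hj : c ^ j = (y : Γ) := hj
    refine ⟨Multiplicative.ofAdd ((j : ℕ) : ZMod n), ?_⟩
    apply Subtype.ext
    show ((C ^ (Multiplicative.toAdd (Multiplicative.ofAdd ((j : ℕ) : ZMod n))).val : σ.ker) : Γ) = y
    rw [toAdd_ofAdd, ZMod.val_natCast, ← pow_eq_pow_mod _ hCn, ← hj, hCdef, Subgroup.coe_pow]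

end Cfsg.Agent.S3951
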