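import Cfsg.Statements.S3952
import Mathlib
import Cfsg.Agent.H1.Basic
import Cfsg.Agent.H1.BaerTrick
import Cfsg.Agent.H1.PerfectCover
import Cfsg.Agent.H1.SchurCover
import Cfsg.Agent.H1.SchurProj
import Cfsg.Prelude.Def_KGroupFacts
import Cfsg.Agent.H1.SchurExp

set_option autoImplicit false
open Cfsg

namespace Cfsg.Agent.S3952

set_option autoImplicit false
open H1
open scoped commutatorElement

/-- If `A` is the Schur multiplier of the finite group `Q`, then the square of the exponent of `A` divides the order of `Q`. -/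
theorem result {Q : Type*} [Group Q] [Finite Q] {A : Type*} [CommGroup A] (hA : Cfsg.HasSchurMultiplier Q A) : Monoid.exponent A ^ 2 ∣ Nat.card Q := by
  obtain ⟨⟨Γ, _, _, σ, hσ, ⟨ek⟩⟩, _⟩ := hA
  obtain ⟨hσs, hσc, hσd⟩ := hσ
  let K : Subgroup Γ := σ.ker
  letI : CommGroup K := { (inferInstance : Group K) with
    mul_comm := fun a b => Subtype.ext (Subgroup.mem_center_iff.1 (hσc b.2) a.1) }
  haveI : NeZero (Monoid.exponent K) := ⟨Monoid.exponent_ne_zero_of_finite⟩
  obtain ⟨edual⟩ := CommGroup.monoidHom_mulEquiv_of_hasEnoughRootsOfUnity K ℂ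
  have hexp : Monoid.exponent (K →* ℂˣ) = Monoid.exponent A := by
    rw [Monoid.exponent_eq_of_mulEquiv edual]
    exact Monoid.exponent_eq_of_mulEquiv ek
  haveI : Finite (K →* ℂˣ) := Finite.of_equiv K edual.symm.toEquiv
  obtain ⟨lam, hlam⟩ := Monoid.exists_orderOf_eq_exponent
    (Monoid.ExponentExists.of_finite (G := K →* ℂˣ))
  obtain ⟨r, d, hsum, hd⟩ := exists_degrees_of_central_character K hσc hσd lam
  have hcard : Nat.card (Γ ⧸ K) = Nat.card Q :=
    Nat.card_congr (QuotientGroup.quotientKerEquivOfSurjective σ hσs).toEquiv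
  rw [← hcard, ← hsum, ← hexp, ← hlam]
  apply Finset.dvd_sum
  intro i _
  exact pow_dvd_pow_of_dvd (orderOf_dvd_of_pow_eq_one (hd i)) 2

end Cfsg.Agent.S3952
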