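import Cfsg.Statements.S3954
import Mathlib
import Cfsg.Agent.H1.Basic
import Cfsg.Agent.H1.BaerTrick
import Cfsg.Agent.H1.PerfectCover
import Cfsg.Agent.H1.SchurCover
import Cfsg.Prelude.Def_KGroupFacts
import Cfsg.Agent.H1.SchurSub

set_option autoImplicit false
open Cfsg

namespace Cfsg.Agent.S3954

set_option autoImplicit false
open H1
open scoped commutatorElement

/-- Let `U` be a subgroup of index `m` in the finite group `G`, let `A` be the Schur multiplier of `G` and `B` that of `U`. Then the subgroup of `m`-th powers of `A` is isomorphic to a subgroup of `B`. -/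
theorem result {G : Type*} [Group G] [Finite G] (U : Subgroup G) {A B : Type*} [CommGroup A] [CommGroup B] (hA : Cfsg.HasSchurMultiplier G A) (hB : Cfsg.HasSchurMultiplier U B) : ∃ C : Subgroup B, Nonempty ((powMonoidHom U.index : A →* A).range ≃* C) := by
  obtain ⟨eB⟩ := mult_equiv_of_hasSchurMultiplier hB
  obtain ⟨⟨Γ, _, _, σ, hσ, ⟨e⟩⟩, _⟩ := hA
  obtain ⟨h, hh⟩ := exists_injective_pow_to_mult U σ hσ
  let h' : A →* B := eB.symm.toMonoidHom.comp (h.comp e.symm.toMonoidHom)
  have hker : (powMonoidHom U.index : A →* A).ker = h'.ker := by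
    ext y
    rw [MonoidHom.mem_ker, MonoidHom.mem_ker]
    show y ^ U.index = 1 ↔ eB.symm (h (e.symm y)) = 1
    rw [MulEquiv.map_eq_one_iff, hh, ← Subgroup.coe_pow, ← map_pow]
    constructor
    · intro hy
      rw [hy, map_one]; rfl
    · intro hy
      have : e.symm (y ^ U.index) = 1 := Subtype.ext hy
      exact (MulEquiv.map_eq_one_iff e.symm).1 this
  exact ⟨h'.range, ⟨(QuotientGroup.quotientKerEquivRange (powMonoidHom U.index : A →* A)).symm.trans
    ((QuotientGroup.quotientMulEquivOfEq hker).trans (QuotientGroup.quotientKerEquivRange h'))⟩⟩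

end Cfsg.Agent.S3954
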