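import Cfsg.Statements.S3957
import Mathlib
import Cfsg.Agent.H1.Basic
import Cfsg.Agent.H1.BaerTrick
import Cfsg.Agent.H1.PerfectCover
import Cfsg.Prelude.Def_KGroupFacts
import Cfsg.Agent.H1.SchurCover

set_option autoImplicit false
universe u v
open Cfsg

namespace Cfsg.Agent.S3957

set_option autoImplicit false
open H1
open scoped commutatorElement

/-- Let `Q` be a finite group with Schur multiplier `A` and let `τ : Δ →* Q` be a finite stem extension, `Δ` in the universe of `Q`. Then there is a finite stem extension `σ : Γ →* Q` with kernel isomorphic to `A` (a Schur covering group) and a surjective homomorphism `β : Γ →* Δ` with `τ ∘ β = σ`. -/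
theorem result {Q : Type u} [Group Q] [Finite Q] {A : Type v} [CommGroup A] (hA : Cfsg.HasSchurMultiplier Q A) {Δ : Type u} [Group Δ] [Finite Δ] (τ : Δ →* Q) (hτ : Cfsg.IsStemExtension τ) : ∃ (Γ : Type u) (_ : Group Γ) (_ : Finite Γ) (σ : Γ →* Q), Cfsg.IsStemExtension σ ∧ Nonempty (σ.ker ≃* A) ∧ ∃ β : Γ →* Δ, Function.Surjective β ∧ τ.comp β = σ := by
  obtain ⟨θ, hθ⟩ := fc_lift Q τ hτ.1 hτ.2.1
  obtain ⟨hθs, hker⟩ := stem_lift_surjective τ hτ θ hθ
  have hθ' : ∀ p, τ (θ p) = fcProj Q p := fun p => DFunLike.congr_fun hθ p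
  have hK : θ.ker ≤ (fcProj Q).ker := by
    intro x hx
    rw [MonoidHom.mem_ker] at hx ⊢
    rw [← hθ', hx, map_one]
  have hKM : ∀ z ∈ (fcProj Q).ker, ∃ k ∈ θ.ker, ∃ m ∈ fcMult Q, z = k * m := by
    intro z hz
    have h1 : θ z ∈ τ.ker := by
      rw [MonoidHom.mem_ker, hθ']; exact hz
    rw [hker] at h1
    obtain ⟨m, hm, hmz⟩ := h1
    refine ⟨z * m⁻¹, ?_, m, hm, by group⟩
    rw [MonoidHom.mem_ker, map_mul, map_inv, hmz, mul_inv_cancel]
  obtain ⟨S, hSn, hS, hSK, hfin, hstem, ⟨e⟩⟩ := exists_cover θ.ker hK hKM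
  obtain ⟨eA⟩ := mult_equiv_of_hasSchurMultiplier hA
  refine ⟨FC Q ⧸ S, inferInstance, hfin, QuotientGroup.lift S (fcProj Q) hS, hstem,
    ⟨e.trans eA.symm⟩, QuotientGroup.lift S θ hSK, ?_, ?_⟩
  · intro d
    obtain ⟨p, hp⟩ := hθs d
    exact ⟨QuotientGroup.mk p, hp⟩
  · apply MonoidHom.ext
    intro x
    obtain ⟨p, rfl⟩ := QuotientGroup.mk_surjective x
    exact hθ' p

end Cfsg.Agent.S3957
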