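import Cfsg.Statements.S3958
import Mathlib
import Cfsg.Agent.H1.Basic
import Cfsg.Agent.H1.BaerTrick
import Cfsg.Agent.H1.PerfectCover
import Cfsg.Prelude.Def_KGroupFacts
import Cfsg.Agent.H1.SchurCover

set_option autoImplicit false
universe u v
open Cfsg

namespace Cfsg.Agent.S3958

set_option autoImplicit false
open H1
open scoped commutatorElement

/-- Let `σ : Γ →* Q` be a finite stem extension of the finite group `Q` with `Γ` of trivial Schur multiplier. Then `σ` is a Schur covering group of `Q`: for every finite stem extension `τ : Δ →* Q` with `Δ` in the same universe as `Q`, the kernel of `τ` is a homomorphic image of the kernel of `σ`. -/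
theorem result {Q : Type u} [Group Q] [Finite Q] {Γ : Type v} [Group Γ] [Finite Γ] (σ : Γ →* Q) (hσ : Cfsg.IsStemExtension σ) (hΓ : Cfsg.HasCyclicSchurMultiplier Γ 1) (Δ : Type u) [Group Δ] [Finite Δ] (τ : Δ →* Q) (hτ : Cfsg.IsStemExtension τ) : ∃ π : σ.ker →* τ.ker, Function.Surjective π := by
  obtain ⟨eΓ⟩ := mult_equiv_of_hasSchurMultiplier hΓ
  have hMΓ : ∀ x ∈ fcMult Γ, x = 1 := by
    intro x hx
    have h1 : eΓ.symm ⟨x, hx⟩ = 1 := Subsingleton.elim (α := Fin 1) _ _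
    have h2 : (⟨x, hx⟩ : fcMult Γ) = 1 := (MulEquiv.map_eq_one_iff eΓ.symm).1 h1
    exact congrArg Subtype.val h2
  obtain ⟨θ, hθ⟩ := fc_lift Q σ hσ.1 hσ.2.1
  obtain ⟨hθs, hker⟩ := stem_lift_surjective σ hσ θ hθ
  have hθ' : ∀ p, σ (θ p) = fcProj Q p := fun p => DFunLike.congr_fun hθ p
  have hK : θ.ker ≤ (fcProj Q).ker := by
    intro x hx
    rw [MonoidHom.mem_ker] at hx ⊢
    rw [← hθ', hx, map_one]
  have hKc : θ.ker ≤ Subgroup.center (FC Q) := le_trans hK (fcProj_ker_le_center Q)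
  obtain ⟨lam, hlam⟩ := fc_lift Γ θ hθs hKc
  obtain ⟨h1, _⟩ := ker_inf_commutator_eq_map θ hKc lam hlam
  have hinj : ∀ m ∈ fcMult Q, θ m = 1 → m = 1 := by
    intro m hm hθm
    have h2 : m ∈ θ.ker ⊓ commutator (FC Q) :=
      Subgroup.mem_inf.2 ⟨MonoidHom.mem_ker.2 hθm, fcMult_le_comm Q hm⟩
    rw [h1] at h2
    obtain ⟨c, hc, rfl⟩ := h2
    rw [hMΓ c hc, map_one]
  have hmem : ∀ m : fcMult Q, θ (m : FC Q) ∈ σ.ker := by
    intro m; rw [hker]; exact ⟨m, m.2, rfl⟩
  let g : fcMult Q →* σ.ker :=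
    { toFun := fun m => ⟨θ (m : FC Q), hmem m⟩
      map_one' := Subtype.ext (map_one θ)
      map_mul' := fun a b => Subtype.ext (map_mul θ _ _) }
  have hginj : Function.Injective g := by
    rw [injective_iff_map_eq_one]
    intro m hm
    have h3 : θ (m : FC Q) = 1 := congrArg Subtype.val hm
    exact Subtype.ext (hinj _ m.2 h3)
  have hgsurj : Function.Surjective g := by
    have h3 : ∀ y ∈ σ.ker, ∃ m ∈ fcMult Q, θ m = y := by
      intro y hy; rw [hker] at hy; exact hy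
    intro x
    obtain ⟨m, hm, hmx⟩ := h3 x.1 x.2
    exact ⟨⟨m, hm⟩, Subtype.ext hmx⟩
  let e₁ : fcMult Q ≃* σ.ker := MulEquiv.ofBijective g ⟨hginj, hgsurj⟩
  obtain ⟨f, hf⟩ := exists_surjective_mult_to_ker τ hτ
  exact ⟨f.comp e₁.symm.toMonoidHom, hf.comp e₁.symm.surjective⟩

end Cfsg.Agent.S3958
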