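import Cfsg.Statements.S3960
import Mathlib
import Cfsg.Agent.H1.Basic
import Cfsg.Agent.H1.BaerTrick
import Cfsg.Agent.H1.PerfectCover
import Cfsg.Agent.H1.UnivCentral

set_option autoImplicit false
universe u
open Cfsg

namespace Cfsg.Agent.S3960

set_option autoImplicit false
open H1
open scoped commutatorElement

/-- A finite perfect group `Q` has a universal central extension: a finite perfect group `G` in the universe of `Q` and a surjective homomorphism `π : G →* Q` with central kernel such that for every group `X` in that universe and every surjective homomorphism `ξ : X →* Q` with central kernel there is exactly one homomorphism `η : G →* X` with `ξ ∘ η = π`. -/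
theorem result {Q : Type u} [Group Q] [Finite Q] (hQ : Group.IsPerfect Q) : ∃ (G : Type u) (_ : Group G) (_ : Finite G) (π : G →* Q), Group.IsPerfect G ∧ Function.Surjective π ∧ π.ker ≤ Subgroup.center G ∧ ∀ (X : Type u) [Group X] (ξ : X →* Q), Function.Surjective ξ → ξ.ker ≤ Subgroup.center X → ∃! η : G →* X, ξ.comp η = π := by
  obtain ⟨P, _, ψ, hψs, hψc, huniv⟩ := exists_free_central (Q := Q)
  have : Finite (commutatorSet P) := finite_commutatorSet_of_central ψ hψc
  obtain ⟨hmap, hperf⟩ := commutator_perfect_of_central hQ ψ hψs hψc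
  have hG : Group.IsPerfect (commutator P) := (Subgroup.isPerfect_iff).2 hperf
  refine ⟨commutator P, inferInstance, inferInstance, ψ.comp (commutator P).subtype, hG, ?_, ?_, ?_⟩
  · intro q
    have : q ∈ (commutator P).map ψ := by rw [hmap]; trivial
    obtain ⟨c, hc, hcq⟩ := this
    exact ⟨⟨c, hc⟩, hcq⟩
  · intro c hc
    have h1 : (c : P) ∈ ψ.ker := hc
    have h2 := hψc h1
    rw [Subgroup.mem_center_iff]
    intro d
    apply Subtype.ext
    exact Subgroup.mem_center_iff.1 h2 _
  · intro X _ ξ hξs hξc
    obtain ⟨θ, hθ⟩ := huniv X ξ hξs hξc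
    refine ⟨θ.comp (commutator P).subtype, ?_, ?_⟩
    · show ξ.comp (θ.comp (commutator P).subtype) = ψ.comp (commutator P).subtype
      rw [← MonoidHom.comp_assoc, hθ]
    · intro η' hη'
      apply hom_eq_of_perfect_of_central hG
      intro g
      apply hξc
      rw [MonoidHom.mem_ker, map_mul, map_inv]
      have h1 : ξ (η' g) = ψ (g : P) := DFunLike.congr_fun hη' g
      have h2 : ξ (θ (g : P)) = ψ (g : P) := DFunLike.congr_fun hθ (g : P)
      show (ξ (θ (g : P)))⁻¹ * ξ (η' g) = 1
      rw [h1, h2, inv_mul_cancel]

end Cfsg.Agent.S3960
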