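import Cfsg.Statements.S3961
import Mathlib
import Cfsg.Agent.H1.Basic
import Cfsg.Agent.H1.BaerTrick
import Cfsg.Agent.H1.StemMeta
import Cfsg.Prelude.Def_KGroupFacts
import Cfsg.Agent.H1.PerfectCover

set_option autoImplicit false
universe u v
open Cfsg

namespace Cfsg.Agent.S3961

set_option autoImplicit false
open H1
open scoped commutatorElement

/-- Let `π : G →* Q` be a surjective homomorphism with central kernel from a finite perfect group `G` (a perfect cover of `Q`). Then `π` is universal, in the sense that every surjective homomorphism `ξ : X →* Q` with central kernel from a group `X` in the universe of `G` admits a homomorphism `η : G →* X` with `ξ ∘ η = π`, if and only if `G` has trivial Schur multiplier. -/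
theorem result {G : Type u} {Q : Type v} [Group G] [Group Q] [Finite G] (hG : Group.IsPerfect G) (π : G →* Q) (hπ : Function.Surjective π) (hker : π.ker ≤ Subgroup.center G) : (∀ (X : Type u) [Group X] (ξ : X →* Q), Function.Surjective ξ → ξ.ker ≤ Subgroup.center X → ∃ η : G →* X, ξ.comp η = π) ↔ Cfsg.HasCyclicSchurMultiplier G 1 := by
  constructor
  · intro huniv
    apply hasCyclicSchurMultiplier_one_of_ker_eq_bot
    intro Γ _ _ σ hσ
    obtain ⟨hσs, hσc, hσd⟩ := hσ
    have hΓ : Group.IsPerfect Γ := ⟨isPerfect_of_stem hG σ hσs hσd⟩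
    have hξc : (π.comp σ).ker ≤ Subgroup.center Γ :=
      ker_comp_le_center_of_perfect hΓ σ hσc π hker
    obtain ⟨η, hη⟩ := huniv Γ (π.comp σ) (hπ.comp hσs) hξc
    have h1 : σ.comp η = MonoidHom.id G := by
      apply hom_eq_of_perfect_of_central hG
      intro g
      apply hker
      rw [MonoidHom.mem_ker, map_mul, map_inv]
      have h2 : π (σ (η g)) = π g := DFunLike.congr_fun hη g
      simp only [MonoidHom.id_apply, MonoidHom.comp_apply]
      rw [h2, inv_mul_cancel]
    have h3 : η.comp σ = MonoidHom.id Γ := by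
      apply hom_eq_of_perfect_of_central hΓ
      intro γ
      apply hσc
      rw [MonoidHom.mem_ker, map_mul, map_inv]
      have h4 : σ (η (σ γ)) = σ γ := DFunLike.congr_fun h1 (σ γ)
      simp only [MonoidHom.id_apply, MonoidHom.comp_apply]
      rw [h4, inv_mul_cancel]
    rw [eq_bot_iff]
    intro γ hγ
    rw [MonoidHom.mem_ker] at hγ
    rw [Subgroup.mem_bot]
    have h5 : η (σ γ) = γ := DFunLike.congr_fun h3 γ
    rw [← h5, hγ, map_one]
  · intro hM X _ ξ hξs hξc
    -- the pullback
    let P : Subgroup (G × X) := (π.comp (MonoidHom.fst G X)).eqLocus (ξ.comp (MonoidHom.snd G X))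
    have hPmem : ∀ p : G × X, p ∈ P ↔ π p.1 = ξ p.2 := fun p => Iff.rfl
    let pr₁ : P →* G := (MonoidHom.fst G X).comp P.subtype
    have hpr₁s : Function.Surjective pr₁ := by
      intro g
      obtain ⟨x, hx⟩ := hξs (π g)
      exact ⟨⟨(g, x), hx.symm⟩, rfl⟩
    have hpr₁c : pr₁.ker ≤ Subgroup.center P := by
      intro p hp
      rw [MonoidHom.mem_ker] at hp
      have hp1 : (p : G × X).1 = 1 := hp
      have hp2 : (p : G × X).2 ∈ ξ.ker := by
        rw [MonoidHom.mem_ker, ← (hPmem _).1 p.2, hp1, map_one]
      have hp3 := hξc hp2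
      rw [Subgroup.mem_center_iff]
      intro q
      apply Subtype.ext
      apply Prod.ext
      · show (q : G × X).1 * (p : G × X).1 = (p : G × X).1 * (q : G × X).1
        rw [hp1, mul_one, one_mul]
      · exact Subgroup.mem_center_iff.1 hp3 _
    have : Finite (commutatorSet P) := finite_commutatorSet_of_central pr₁ hpr₁c
    obtain ⟨hmap, hperf⟩ := commutator_perfect_of_central hG pr₁ hpr₁s hpr₁c
    let σ₁ : (commutator P) →* G := pr₁.comp (commutator P).subtype
    have hσ₁s : Function.Surjective σ₁ := by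
      intro g
      have : g ∈ (commutator P).map pr₁ := by rw [hmap]; trivial
      obtain ⟨c, hc, hcg⟩ := this
      exact ⟨⟨c, hc⟩, hcg⟩
    have hσ₁c : σ₁.ker ≤ Subgroup.center (commutator P) := by
      intro c hc
      have h1 : (c : P) ∈ pr₁.ker := hc
      have h2 := hpr₁c h1
      rw [Subgroup.mem_center_iff]
      intro d
      apply Subtype.ext
      exact Subgroup.mem_center_iff.1 h2 _
    have hσ₁d : σ₁.ker ≤ commutator (commutator P) := by
      have h1 : Group.IsPerfect (commutator P) := (Subgroup.isPerfect_iff).2 hperf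
      rw [h1.commutator_eq_top]
      exact le_top
    obtain ⟨φ, hφ⟩ := hM.2 (commutator P) σ₁ ⟨hσ₁s, hσ₁c, hσ₁d⟩
    have hinj : Function.Injective σ₁ := by
      rw [← MonoidHom.ker_eq_bot_iff, eq_bot_iff]
      intro c hc
      obtain ⟨z, hz⟩ := hφ ⟨c, hc⟩
      have hz1 : z = 1 := Subsingleton.elim (α := Fin 1) _ _
      rw [hz1, map_one] at hz
      rw [Subgroup.mem_bot]
      exact (congrArg Subtype.val hz).symm
    let e : (commutator P) ≃* G := MulEquiv.ofBijective σ₁ ⟨hinj, hσ₁s⟩
    refine ⟨((MonoidHom.snd G X).comp P.subtype).comp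
      ((commutator P).subtype.comp e.symm.toMonoidHom), ?_⟩
    ext g
    show ξ (((e.symm g : commutator P) : P) : G × X).2 = π g
    have h1 : σ₁ (e.symm g) = g := e.apply_symm_apply g
    have h2 : (((e.symm g : commutator P) : P) : G × X).1 = g := h1
    rw [← (hPmem _).1 ((e.symm g : commutator P) : P).2, h2]

end Cfsg.Agent.S3961
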