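import Cfsg.Statements.S3962
import Mathlib
import Cfsg.Agent.H1.Basic

set_option autoImplicit false
open Cfsg

namespace Cfsg.Agent.S3962

open Cfsg.Agent.H1
open scoped commutatorElement

/-- Let `G` be a perfect group and `π : G →* Q` a surjective homomorphism whose kernel is central. Then `π` maps the centre of `G` onto the centre of `Q`. Taking `π` to be the map to `G ⧸ Z(G)` shows that the central quotient of a perfect group has trivial centre. -/
theorem result {G Q : Type*} [Group G] [Group Q] (hG : Group.IsPerfect G) (π : G →* Q) (hπ : Function.Surjective π) (hker : π.ker ≤ Subgroup.center G) : (Subgroup.center G).map π = Subgroup.center Q := by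
  apply le_antisymm
  · rintro _ ⟨z, hz0, rfl⟩
    have hz : z ∈ Subgroup.center G := hz0
    rw [Subgroup.mem_center_iff] at hz ⊢
    intro q
    obtain ⟨g, rfl⟩ := hπ q
    rw [← map_mul, ← map_mul, hz g]
  · intro q hq
    obtain ⟨g, rfl⟩ := hπ q
    refine ⟨g, ?_, rfl⟩
    rw [Subgroup.mem_center_iff] at hq
    -- the map h ↦ ⁅g, h⁆ is a hom G → center G
    have hc : ∀ h : G, ⁅g, h⁆ ∈ Subgroup.center G := by
      intro h
      apply hker
      rw [MonoidHom.mem_ker, map_commutatorElement, commutatorElement_eq_one_iff_mul_comm]
      exact (hq (π h)).symm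
    let f : G →* Subgroup.center G :=
      { toFun := fun h => ⟨⁅g, h⁆, hc h⟩
        map_one' := by apply Subtype.ext; simp [commutatorElement_def]
        map_mul' := by
          intro a b
          apply Subtype.ext
          simp only [Subgroup.coe_mul]
          have h1 : ⁅g, a * b⁆ = ⁅g, a⁆ * (a * ⁅g, b⁆ * a⁻¹) := by
            simp only [commutatorElement_def]; group
          rw [h1]
          have h2 := Subgroup.mem_center_iff.mp (hc b) a
          rw [h2, mul_inv_cancel_right] }
    have hf : f.ker = ⊤ := by
      rw [eq_top_iff, ← hG.commutator_eq_top, commutator_def, Subgroup.commutator_le]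
      intro a _ b _
      rw [MonoidHom.mem_ker, map_commutatorElement, commutatorElement_eq_one_iff_mul_comm]
      apply Subtype.ext
      rw [Subgroup.coe_mul, Subgroup.coe_mul]
      exact (Subgroup.mem_center_iff.mp (f a).2 (f b)).symm
    show g ∈ Subgroup.center G
    rw [Subgroup.mem_center_iff]
    intro h
    have : h ∈ f.ker := by rw [hf]; exact Subgroup.mem_top h
    rw [MonoidHom.mem_ker] at this
    have h3 : ⁅g, h⁆ = 1 := congrArg Subtype.val this
    rw [commutatorElement_eq_one_iff_mul_comm] at h3
    exact h3.symm

end Cfsg.Agent.S3962
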