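import Cfsg.Statements.S3964
import Mathlib
import Cfsg.Agent.H1.Basic
import Cfsg.Agent.H1.MinNonPClosed
import Cfsg.Prelude.Def_KGroupFacts
import Cfsg.Agent.H1.StemMeta

set_option autoImplicit false
open Cfsg

namespace Cfsg.Agent.S3964

set_option autoImplicit false
open H1

/-- For odd `n` the dihedral group of order `2 n` has trivial Schur multiplier. -/
theorem result (n : ℕ) (hn : Odd n) : Cfsg.HasCyclicSchurMultiplier (DihedralGroup n) 1 := by
  have : NeZero n := ⟨hn.pos.ne'⟩
  apply hasCyclicSchurMultiplier_one_of_ker_eq_bot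
  intro Γ _ _ σ hσ
  obtain ⟨hsurj, hcen, hcomm⟩ := hσ
  obtain ⟨at', hat⟩ := hsurj (DihedralGroup.r 1)
  obtain ⟨xt, hxt⟩ := hsurj (DihedralGroup.sr 0)
  have hgen : Subgroup.closure {σ at', σ xt} = ⊤ := by
    rw [hat, hxt, eq_top_iff]
    intro g _
    have hr : ∀ i : ZMod n, DihedralGroup.r i ∈ Subgroup.closure {DihedralGroup.r (1 : ZMod n), DihedralGroup.sr 0} := by
      intro i
      have : DihedralGroup.r i = (DihedralGroup.r (1 : ZMod n)) ^ i.val := by
        rw [DihedralGroup.r_one_pow, ZMod.natCast_zmod_val]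
      rw [this]
      exact pow_mem (Subgroup.subset_closure (Set.mem_insert _ _)) _
    cases g with
    | r i => exact hr i
    | sr i =>
      have : DihedralGroup.sr i = DihedralGroup.sr 0 * DihedralGroup.r i := by
        rw [DihedralGroup.sr_mul_r, zero_add]
      rw [this]
      exact mul_mem (Subgroup.subset_closure (Set.mem_insert_of_mem _ rfl)) (hr i)
  have hinv : σ (xt * at' * xt⁻¹) = (σ at')⁻¹ := by
    rw [map_mul, map_mul, map_inv, hat, hxt]
    simp
  obtain ⟨h1, h2, -⟩ := stem_metacyclic σ hcen hcomm at' xt hgen hinv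
  rw [eq_bot_iff]
  intro z hz
  obtain ⟨j, hzj, hj⟩ := h1 z hz
  rw [hat] at hj
  have hdvd : n ∣ 2 * j := by
    have := orderOf_dvd_of_pow_eq_one hj
    rwa [DihedralGroup.orderOf_r_one] at this
  have hdvd' : n ∣ j := (Nat.Coprime.dvd_of_dvd_mul_left (Nat.Coprime.symm (Nat.coprime_two_left.2 hn))) hdvd
  have hcn := h2 n (by rw [hat]; exact DihedralGroup.r_one_pow_n)
  rw [Subgroup.mem_bot, hzj]
  obtain ⟨m, rfl⟩ := hdvd'
  rw [pow_mul, hcn, one_pow]

end Cfsg.Agent.S3964
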