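import Cfsg.Statements.S3966
import Mathlib

set_option autoImplicit false
open Cfsg

namespace Cfsg.Agent.S3966

open scoped commutatorElement

/-- The cast `ZMod (2 n) → ZMod n`. -/
noncomputable def cst (n : ℕ) : ZMod (2 * n) →+* ZMod n := ZMod.castHom (dvd_mul_left n 2) (ZMod n)

theorem cst_n (n : ℕ) : cst n (n : ZMod (2 * n)) = 0 := by
  rw [map_natCast, ZMod.natCast_self]

/-- The underlying map of the covering. -/
noncomputable def sigmaFun (n : ℕ) : QuaternionGroup n → DihedralGroup n
  | QuaternionGroup.a i => DihedralGroup.r (cst n i)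
  | QuaternionGroup.xa i => DihedralGroup.sr (cst n i)

/-- The covering `Q_{4n} → D_{2n}`. -/
noncomputable def sigma (n : ℕ) : QuaternionGroup n →* DihedralGroup n :=
  MonoidHom.mk' (sigmaFun n) (by
    rintro (i | i) (j | j)
    · simp [sigmaFun]
    · simp [sigmaFun]
    · simp [sigmaFun]
    · simp [sigmaFun])

theorem sigma_a (n : ℕ) (i : ZMod (2 * n)) : sigma n (QuaternionGroup.a i) = DihedralGroup.r (cst n i) := rfl
theorem sigma_xa (n : ℕ) (i : ZMod (2 * n)) : sigma n (QuaternionGroup.xa i) = DihedralGroup.sr (cst n i) := rfl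

theorem inv_a (n : ℕ) (i : ZMod (2 * n)) : (QuaternionGroup.a i : QuaternionGroup n)⁻¹ = QuaternionGroup.a (-i) := by
  apply inv_eq_of_mul_eq_one_right
  rw [QuaternionGroup.a_mul_a, add_neg_cancel, QuaternionGroup.a_zero]

theorem inv_xa_zero (n : ℕ) : (QuaternionGroup.xa 0 : QuaternionGroup n)⁻¹ = QuaternionGroup.xa (n : ZMod (2 * n)) := by
  apply inv_eq_of_mul_eq_one_right
  rw [QuaternionGroup.xa_mul_xa, sub_zero]
  have : (n : ZMod (2 * n)) + n = 0 := by
    rw [← two_mul]
    have : ((2 * n : ℕ) : ZMod (2 * n)) = 0 := ZMod.natCast_self _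
    push_cast at this
    exact this
  rw [this, QuaternionGroup.a_zero]

theorem two_n (n : ℕ) : (n : ZMod (2 * n)) + n = 0 := by
  rw [← two_mul]
  have : ((2 * n : ℕ) : ZMod (2 * n)) = 0 := ZMod.natCast_self _
  push_cast at this
  exact this

theorem comm_a_xa (n : ℕ) (j : ZMod (2 * n)) :
    ⁅(QuaternionGroup.a j : QuaternionGroup n), QuaternionGroup.xa 0⁆ = QuaternionGroup.a (2 * j) := by
  rw [commutatorElement_def, inv_a, inv_xa_zero, QuaternionGroup.a_mul_xa, QuaternionGroup.xa_mul_a,
    QuaternionGroup.xa_mul_xa]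
  congr 1
  have := two_n n
  linear_combination this

/-- Elements of the kernel. -/
theorem ker_elt (n : ℕ) [NeZero n] (x : QuaternionGroup n) (hx : sigma n x = 1) :
    ∃ i : ZMod (2 * n), x = QuaternionGroup.a i ∧ ∃ k : ℕ, i = ((n * k : ℕ) : ZMod (2 * n)) := by
  rcases x with i | i
  · refine ⟨i, rfl, ?_⟩
    rw [sigma_a, DihedralGroup.one_def] at hx
    have h0 : cst n i = 0 := by
      injection hx
    have h1 : i = ((i.val : ℕ) : ZMod (2 * n)) := (ZMod.natCast_zmod_val i).symm
    rw [h1, map_natCast, ZMod.natCast_eq_zero_iff] at h0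
    obtain ⟨k, hk⟩ := h0
    exact ⟨k, by rw [← hk]; exact h1⟩
  · rw [sigma_xa, DihedralGroup.one_def] at hx
    cases hx

/-- For even `n ≥ 2` the dicyclic group of order `4 n` is a stem extension of the dihedral group of order `2 n` with kernel of order `2`: there is a surjective homomorphism `QuaternionGroup n →* DihedralGroup n` whose kernel is central, lies in the commutator subgroup and has two elements. Together with the order of the multiplier this exhibits the dicyclic group as a Schur covering group of the dihedral group. -/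
theorem result (n : ℕ) [NeZero n] (hn : Even n) : ∃ σ : QuaternionGroup n →* DihedralGroup n, Cfsg.IsStemExtension σ ∧ Nat.card σ.ker = 2 := by

  classical
  refine ⟨sigma n, ⟨?_, ?_, ?_⟩, ?_⟩
  · -- surjective
    have hs : Function.Surjective (cst n) := ZMod.ringHom_surjective (cst n)
    rintro (i | i)
    · obtain ⟨j, rfl⟩ := hs i
      exact ⟨QuaternionGroup.a j, rfl⟩
    · obtain ⟨j, rfl⟩ := hs i
      exact ⟨QuaternionGroup.xa j, rfl⟩
  · -- central
    intro x hx
    rw [MonoidHom.mem_ker] at hx
    obtain ⟨i, rfl, k, hk⟩ := ker_elt n x hx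
    have h2i : 2 * i = 0 := by
      rw [hk]
      have : ((2 * n * k : ℕ) : ZMod (2 * n)) = 0 := by
        rw [ZMod.natCast_eq_zero_iff]
        exact Dvd.intro _ rfl
      push_cast at this ⊢
      rw [← this]; ring
    rw [Subgroup.mem_center_iff]
    rintro (j | j)
    · rw [QuaternionGroup.a_mul_a, QuaternionGroup.a_mul_a, add_comm]
    · rw [QuaternionGroup.xa_mul_a, QuaternionGroup.a_mul_xa]
      congr 1
      linear_combination h2i
  · -- in the commutator
    intro x hx
    rw [MonoidHom.mem_ker] at hx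
    obtain ⟨i, rfl, k, hk⟩ := ker_elt n x hx
    obtain ⟨m, hm⟩ := hn
    have hi : i = 2 * ((m * k : ℕ) : ZMod (2 * n)) := by
      rw [hk, hm]
      push_cast
      ring
    rw [hi, ← comm_a_xa, commutator_def]
    exact Subgroup.commutator_mem_commutator (Subgroup.mem_top _) (Subgroup.mem_top _)
  · -- cardinality
    have hsurj : Function.Surjective (sigma n) := by
      have hs : Function.Surjective (cst n) := ZMod.ringHom_surjective (cst n)
      rintro (i | i)
      · obtain ⟨j, rfl⟩ := hs i
        exact ⟨QuaternionGroup.a j, rfl⟩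
      · obtain ⟨j, rfl⟩ := hs i
        exact ⟨QuaternionGroup.xa j, rfl⟩
    have h1 := Subgroup.card_eq_card_quotient_mul_card_subgroup (sigma n).ker
    have h2 : Nat.card (QuaternionGroup n ⧸ (sigma n).ker) = Nat.card (DihedralGroup n) :=
      Nat.card_congr (QuotientGroup.quotientKerEquivOfSurjective (sigma n) hsurj).toEquiv
    rw [h2, Nat.card_eq_fintype_card, Nat.card_eq_fintype_card, QuaternionGroup.card, DihedralGroup.card] at h1
    have hn0 : n ≠ 0 := NeZero.ne n
    have : 2 * n * 2 = 2 * n * Nat.card (sigma n).ker := by rw [← h1]; ring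
    exact (Nat.eq_of_mul_eq_mul_left (by omega) this).symm

end Cfsg.Agent.S3966
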