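import Cfsg.Statements.S3968
import Mathlib
import Cfsg.Agent.Lib.helper3.Central2
import Cfsg.Agent.Lib.helper3.CentralChar
import Cfsg.Agent.Lib.helper3.CharBasic2
import Cfsg.Agent.Lib.helper3.Degrees
import Cfsg.Agent.Lib.helper3.Irr11

namespace Cfsg.Agent.S3968

open Cfsg Module Cfsg.Agent.Lib.helper3.IndFun Cfsg.Agent.Lib.helper3.CharBasic
open Cfsg.Agent.Lib.helper3.Irr Cfsg.Agent.Lib.helper3.Central
open scoped ComplexConjugate

/-- A character of degree zero vanishes identically. -/
theorem eq_zero_of_apply_one_eq_zero {H : Type*} [Group H] [Finite H] {θ : H → ℂ}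
    (hθ : IsCharacter H θ) (h1 : θ 1 = 0) : θ = 0 := by
  obtain ⟨n, ρ, rfl⟩ := hθ
  funext g
  have h2 := norm_character_le ρ g
  rw [Representation.char_one] at h1
  have h3 : (finrank ℂ (Fin n → ℂ) : ℝ) = 0 := by exact_mod_cast h1
  rw [h3] at h2
  exact norm_le_zero_iff.mp h2

/-- Let `p` be a prime and `G` a finite group with a faithful irreducible complex character of degree `p` (so `G` is an irreducible linear group in `p` variables). If `p ^ 2` divides the order of `G`, then the centre of `G` is nontrivial. -/
theorem result {G : Type*} [Group G] [Finite G] (p : ℕ) (hp : p.Prime) (χ : Cfsg.IrrCharacter G) (hdeg : χ.1 1 = p) (hfaith : ∀ g : G, χ.1 g = χ.1 1 → g = 1) (hdiv : p ^ 2 ∣ Nat.card G) : Subgroup.center G ≠ ⊥ := by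
  classical
  haveI : Fintype G := Fintype.ofFinite G
  haveI : Fact p.Prime := ⟨hp⟩
  obtain ⟨χf, d, ρ, hirr, hρ⟩ := χ
  haveI := hirr
  subst hρ
  simp only at hdeg hfaith
  have hfin : finrank ℂ (Fin d → ℂ) = p := by
    rw [Representation.char_one] at hdeg
    exact_mod_cast hdeg
  -- faithfulness of `ρ`
  have hinj : Function.Injective ρ := by
    intro g h hgh
    have h1 : ρ (g * h⁻¹) = LinearMap.id := by
      rw [map_mul, hgh, ← map_mul, mul_inv_cancel, map_one]
      rfl
    have h2 := (character_eq_finrank_iff ρ (g * h⁻¹)).mpr h1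
    rw [← Representation.char_one ρ] at h2
    have h3 := hfaith _ h2
    exact mul_inv_eq_one.mp h3
  obtain ⟨P⟩ : Nonempty (Sylow p G) := inferInstance
  intro hZ
  -- elements centralising `P` have character value `0` unless central
  have hzero : ∀ z : G, (∀ x ∈ (P : Subgroup G), x * z = z * x) → z ≠ 1 → ρ.character z = 0 := by
    intro z hz hz1
    have hle : (P : Subgroup G) ≤ Subgroup.centralizer ({z} : Set G) := by
      intro x hx
      rw [Subgroup.mem_centralizer_iff]
      intro y hy
      rw [Set.mem_singleton_iff] at hy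
      subst hy
      exact (hz x hx).symm
    have hnd : ¬ p ∣ (Subgroup.centralizer ({z} : Set G)).index := by
      intro h
      exact P.not_dvd_index (dvd_trans h (Subgroup.index_dvd_of_le hle))
    have hcop : Nat.Coprime (finrank ℂ (Fin d → ℂ))
        (Subgroup.centralizer ({z} : Set G)).index := by
      rw [hfin]
      exact (Nat.Prime.coprime_iff_not_dvd hp).mpr hnd
    rcases character_eq_zero_or_norm_eq_of_coprime ρ z hcop with h | h
    · exact h
    · exfalso
      obtain ⟨ω, hω⟩ := (norm_character_eq_finrank_iff ρ z).mp h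
      apply hz1
      have hzc : z ∈ Subgroup.center G := by
        rw [Subgroup.mem_center_iff]
        intro g
        apply hinj
        rw [map_mul, map_mul, hω]
        ext v
        simp
      rw [hZ] at hzc
      exact Subgroup.mem_bot.mp hzc
  -- the order of `P`
  have hcardP : ∃ k, 2 ≤ k ∧ Nat.card (P : Subgroup G) = p ^ k := by
    refine ⟨(Nat.card G).factorization p, ?_, P.card_eq_multiplicity⟩
    exact (hp.pow_dvd_iff_le_factorization Nat.card_pos.ne').mp hdiv
  obtain ⟨k, hk2, hk⟩ := hcardP
  haveI : Fintype (P : Subgroup G) := Fintype.ofFinite _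
  have hχP : IsCharacter (P : Subgroup G) (fun x : (P : Subgroup G) => ρ.character x) :=
    isCharacter_restrict (isCharacter_of_rep ρ) _
  by_cases hab : ∀ a b : (P : Subgroup G), a * b = b * a
  · -- `P` abelian: `χ` vanishes on `P \ 1`
    obtain ⟨m, hm⟩ := exists_nat_classInner_of_isCharacter hχP
      ⟨fun _ => 1, isIrrCharacter_one⟩
    rw [classInner_apply] at hm
    have hsum : ∑ g : (P : Subgroup G), ρ.character (g : G) * conj ((1 : ℂ)) = (p : ℂ) := by
      rw [Finset.sum_eq_single (1 : (P : Subgroup G))]
      · rw [map_one, mul_one]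
        exact hdeg
      · intro b _ hb
        rw [hzero (b : G) ?_ ?_, zero_mul]
        · intro x hx
          have := hab ⟨x, hx⟩ b
          exact congrArg Subtype.val this
        · intro h
          apply hb
          exact Subtype.ext h
      · intro h; exact absurd (Finset.mem_univ _) h
    simp only at hm
    rw [hsum, hk] at hm
    have hp0 : (p : ℂ) ≠ 0 := by exact_mod_cast hp.ne_zero
    have h1 : (p : ℂ) = (m : ℂ) * ((p ^ k : ℕ) : ℂ) := by
      rw [← hm]
      field_simp
    have h2 : p = m * p ^ k := by exact_mod_cast h1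
    have h3 : p ^ 2 ∣ p := by
      have : p ^ 2 ∣ m * p ^ k := dvd_mul_of_dvd_right (pow_dvd_pow p hk2) m
      rwa [← h2] at this
    have h4 := Nat.le_of_dvd hp.pos h3
    have h5 : p < p ^ 2 := by
      have := hp.two_le
      nlinarith
    omega
  · -- `P` nonabelian: the restriction of `χ` to `P` is irreducible
    apply hab
    let ρP : Representation ℂ (P : Subgroup G) (Fin d → ℂ) := ρ.comp (P : Subgroup G).subtype
    have hinjP : Function.Injective ρP := by
      intro a b h
      exact Subtype.ext (hinj h)
    by_contra hnab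
    apply hnab
    apply comm_of_faithful_of_linear_constituents ρP hinjP
    intro ψ hψ
    obtain ⟨n, hn, hndvd, hnpos⟩ := irr_degree_dvd_card ψ.2
    have hχP' : IsCharacter (P : Subgroup G) ρP.character := isCharacter_of_rep ρP
    have hle := constituent_degree_le hχP' ψ hψ (Representation.char_one ρP) hn
    rw [hfin] at hle
    rw [hk] at hndvd
    obtain ⟨j, -, rfl⟩ := (Nat.dvd_prime_pow hp).mp hndvd
    rcases Nat.eq_zero_or_pos j with hj | hj
    · rw [hn, hj]; simp
    · exfalso
      have hjp : p ^ j = p := by
        apply le_antisymm hle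
        calc p = p ^ 1 := (pow_one p).symm
          _ ≤ p ^ j := Nat.pow_le_pow_right hp.pos hj
      -- then `χ_P = ψ` is irreducible
      have hsub := isCharacter_sub_of_classInner_ne_zero hχP' ψ hψ
      have h0 : (ρP.character - (ψ : ↥(P : Subgroup G) → ℂ)) 1 = 0 := by
        rw [Pi.sub_apply, Representation.char_one, hn, hfin, hjp, sub_self]
      have h1 := eq_zero_of_apply_one_eq_zero hsub h0
      have hψeq : (ψ : ↥(P : Subgroup G) → ℂ) = ρP.character := (sub_eq_zero.mp h1).symm
      obtain ⟨ψf, d', σ, hσirr, hσ⟩ := ψ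
      haveI := hσirr
      simp only at hψeq hn
      -- a nontrivial central element of `P`
      have hPnt : Nontrivial (P : Subgroup G) := by
        rw [← Finite.one_lt_card_iff_nontrivial, hk]
        exact Nat.one_lt_pow (by omega) hp.one_lt
      have hPg : IsPGroup p (P : Subgroup G) := P.isPGroup'
      haveI := hPg.center_nontrivial
      obtain ⟨⟨z, hzc⟩, hz1⟩ := exists_ne (1 : Subgroup.center (P : Subgroup G))
      have hz1' : (z : G) ≠ 1 := by
        intro h
        apply hz1
        apply Subtype.ext
        apply Subtype.ext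
        exact h
      have hz0 : ρ.character (z : G) = 0 := by
        apply hzero _ _ hz1'
        intro x hx
        have := Subgroup.mem_center_iff.mp hzc ⟨x, hx⟩
        exact congrArg Subtype.val this
      obtain ⟨c, hc⟩ := exists_scalar_of_central σ z hzc
      have h2 := (norm_character_eq_finrank_iff σ z).mpr ⟨c, hc⟩
      rw [hσ, hψeq] at h2
      have h3 : ρP.character z = ρ.character (z : G) := rfl
      rw [h3, hz0, norm_zero] at h2
      have h4 : (finrank ℂ (Fin d' → ℂ) : ℂ) = ((p ^ j : ℕ) : ℂ) := by
        rw [← Representation.char_one σ, hσ]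
        exact hn
      have h5 : finrank ℂ (Fin d' → ℂ) = p ^ j := by exact_mod_cast h4
      rw [h5, hjp] at h2
      have : (p : ℝ) ≠ 0 := by exact_mod_cast hp.ne_zero
      exact this h2.symm

end Cfsg.Agent.S3968
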