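import Cfsg.Statements.S3971
import Mathlib
import Cfsg.Agent.H1.CyclicIndexTwoAut

set_option autoImplicit false
open Cfsg

namespace Cfsg.Agent.S3971

set_option autoImplicit false
open scoped Pointwise commutatorElement
open H1

/-- Let `G` be a finite group of order `2 ^ a * n` with `n` odd and not divisible by `3`, and suppose `G` has an element of order `2 ^ (a - 1)` (so a Sylow `2`-subgroup has a cyclic subgroup of index at most `2`). Then `G` has a normal subgroup of order `n`. -/
theorem result {G : Type*} [Group G] [Finite G] (a n : ℕ) (hG : Nat.card G = 2 ^ a * n) (hn : Odd n) (h3 : ¬ 3 ∣ n) (hx : ∃ x : G, orderOf x = 2 ^ (a - 1)) : ∃ N : Subgroup G, N.Normal ∧ Nat.card N = n := by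
  classical
  haveI : Fact (Nat.Prime 2) := ⟨Nat.prime_two⟩
  obtain ⟨x, hxo⟩ := hx
  have h2n : ¬ 2 ∣ n := hn.not_two_dvd_nat
  have hxp : IsPGroup 2 (Subgroup.zpowers x) := IsPGroup.of_card (n := a - 1) (by rw [Nat.card_zpowers, hxo])
  obtain ⟨P, hxP⟩ := hxp.exists_le_sylow
  have hPcard : Nat.card P = 2 ^ a := Lib.Helper4.Sylow.card_sylow_of_card_eq hG h2n P
  have hrelP : (Subgroup.zpowers x).relIndex (P : Subgroup G) ≤ 2 := by
    have h1 := card_eq_relIndex_mul_card hxP
    rw [Nat.card_zpowers, hxo] at h1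
    have h1' : 2 ^ a = (Subgroup.zpowers x).relIndex (P : Subgroup G) * 2 ^ (a - 1) := hPcard ▸ h1
    rcases Nat.eq_zero_or_pos a with h0 | h0
    · rw [h0] at h1'
      simp at h1'
      omega
    · have h2 : 2 ^ a = 2 * 2 ^ (a - 1) := by
        rw [← pow_succ']
        congr 1
        omega
      rw [h2] at h1'
      have := Nat.eq_of_mul_eq_mul_right (pow_pos (by norm_num) _) h1'
      omega
  have key : ∀ Q : Subgroup G, Q ≤ (P : Subgroup G) → ∀ g ∈ Subgroup.normalizer (Q : Set G),
      Nat.Coprime (orderOf g) 2 → g ∈ Subgroup.centralizer (Q : Set G) := by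
    intro Q hQP g hg hg2
    set α : MulAut Q := Q.normalizerMonoidHom ⟨g, hg⟩ with hα
    have hαord : orderOf α ∣ orderOf g := by
      have := orderOf_map_dvd Q.normalizerMonoidHom (⟨g, hg⟩ : Subgroup.normalizer (Q : Set G))
      rwa [Subgroup.orderOf_mk] at this
    have hg3 : (orderOf g).Coprime 3 := by
      rw [Nat.coprime_comm, Nat.Prime.coprime_iff_not_dvd Nat.prime_three]
      intro h
      have h' : 3 ∣ Nat.card G := h.trans (orderOf_dvd_natCard g)
      rw [hG] at h'
      rcases (Nat.Prime.dvd_mul Nat.prime_three).mp h' with h'' | h''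
      · have := Nat.Prime.dvd_of_dvd_pow Nat.prime_three h''
        omega
      · exact h3 h''
    have hα6 : (orderOf α).Coprime 6 := by
      have : (6 : ℕ) = 2 * 3 := by norm_num
      rw [this]
      exact Nat.Coprime.mul_right (Nat.Coprime.coprime_dvd_left hαord hg2)
        (Nat.Coprime.coprime_dvd_left hαord hg3)
    set C : Subgroup Q := (Subgroup.zpowers x).subgroupOf Q with hC
    have hCc : IsCyclic C := by
      let f : C →* Subgroup.zpowers x :=
        { toFun := fun c => ⟨((c : Q) : G), Subgroup.mem_subgroupOf.mp c.2⟩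
          map_one' := rfl
          map_mul' := fun _ _ => rfl }
      apply isCyclic_of_injective f
      intro c d hcd
      have := congrArg (fun z : Subgroup.zpowers x => (z : G)) hcd
      exact Subtype.ext (Subtype.ext this)
    have hCi : C.index ≤ 2 := by
      have h1 : C.index = (Subgroup.zpowers x).relIndex Q := rfl
      rw [h1]
      refine (Subgroup.relIndex_le_of_le_right hQP ?_).trans hrelP
      exact (Subgroup.index_ne_zero_of_finite : ((Subgroup.zpowers x).subgroupOf (P : Subgroup G)).index ≠ 0)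
    have hα1 := aut_eq_one_of_cyclic_index_le_two (P.2.to_le hQP) C hCc hCi α hα6
    rw [Subgroup.mem_centralizer_iff]
    intro q hq
    have h1 : α ⟨q, hq⟩ = ⟨q, hq⟩ := by rw [hα1]; rfl
    have h2 := congrArg (fun z : Q => (z : G)) h1
    simp only [hα, Subgroup.normalizerMonoidHom_apply_apply_coe] at h2
    calc q * g = (g * q * g⁻¹) * g := by rw [h2]
      _ = g * q := by group
  obtain ⟨N, hN, hc, k, hk⟩ := Lib.Lead.NormalPComplement.exists_normal_of_hasNormalPComplement
    (Lib.Lead.NormalPComplement.hasNormalPComplement_of_p'_centralize P key)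
  refine ⟨N, hN, ?_⟩
  have h1 := Subgroup.card_mul_index N
  rw [hk, hG] at h1
  have hn2 : Nat.Coprime 2 n := (Nat.Prime.coprime_iff_not_dvd Nat.prime_two).mpr h2n
  have hk_le : 2 ^ k ∣ 2 ^ a :=
    Nat.Coprime.dvd_of_dvd_mul_right (hn2.pow_left k) (Dvd.intro_left _ h1)
  have ha_le : 2 ^ a ∣ 2 ^ k :=
    Nat.Coprime.dvd_of_dvd_mul_left ((hc.symm).pow_left a) (Dvd.intro _ h1.symm)
  have heq : 2 ^ a = 2 ^ k := Nat.dvd_antisymm ha_le hk_le
  rw [heq, mul_comm] at h1
  exact Nat.eq_of_mul_eq_mul_left (pow_pos (by norm_num) k) h1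

end Cfsg.Agent.S3971
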