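import Mathlib
import Cfsg.Statements.S3972
import Cfsg.Agent.Lib.Helper8.SRingA
import Cfsg.Agent.Lib.Helper8.SRingB
import Cfsg.Agent.Lib.Helper8.SRingC
import Cfsg.Agent.Lib.Helper8.SRingD
import Cfsg.Agent.Lib.Helper8.SRingE
import Cfsg.Agent.Lib.Helper8.SRingF
import Cfsg.Agent.Lib.Helper8.SRingG

set_option autoImplicit false
open Cfsg

namespace Cfsg.Agent.S3972

open Cfsg.Agent.Lib.Helper8.SRing
open Pointwise

/-- Let `p` be a prime, `m ≥ 2`, and `G` a transitive but not doubly transitive permutation group on `p ^ m` points containing a permutation of order `p ^ m` (necessarily a full cycle). Then `G` is imprimitive, and the normal closure in `G` of the `p ^ (m - 1)`-th power of that permutation is an intransitive normal subgroup. -/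
theorem result {Ω : Type*} [Fintype Ω] [DecidableEq Ω] (p m : ℕ) (hp : p.Prime) (hm : 2 ≤ m) (hΩ : Fintype.card Ω = p ^ m) (G : Subgroup (Equiv.Perm Ω)) (htr : MulAction.IsPretransitive G Ω) (h2 : ¬ MulAction.IsMultiplyPretransitive G Ω 2) (g : G) (hg : orderOf g = p ^ m) : ¬ MulAction.IsPreprimitive G Ω ∧ ¬ MulAction.IsPretransitive (Subgroup.normalClosure ({g ^ (p ^ (m - 1))} : Set G)) Ω := by
  classical
  have hσ : orderOf ((g : Equiv.Perm Ω)) = p ^ m := by rw [Subgroup.orderOf_coe]; exact hg
  obtain ⟨hcyc, hsupp⟩ := full_cycle_of_orderOf p m hp (by omega) hΩ _ hσ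
  have hmove : ∀ α : Ω, (g : Equiv.Perm Ω) α ≠ α := fun α =>
    Equiv.Perm.mem_support.1 (by rw [hsupp]; exact Finset.mem_univ _)
  have hpow : ∀ α β : Ω, ∃ i : ℕ, (g ^ i) • α = β := by
    intro α β
    obtain ⟨i, hi⟩ := hcyc.exists_pow_eq (hmove α) (hmove β)
    refine ⟨i, ?_⟩
    rw [Subgroup.smul_def, Equiv.Perm.smul_def, Subgroup.coe_pow]
    exact hi
  have hnprim : ¬ MulAction.IsPreprimitive G Ω := by
    intro hprim
    apply h2
    have : Fintype ↥(Subgroup.zpowers g) := Fintype.ofFinite _
    have hcardC : Fintype.card ↥(Subgroup.zpowers g) = p ^ m := by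
      rw [← Nat.card_eq_fintype_card, Nat.card_zpowers, hg]
    have hsurj : ∀ α : Ω, Function.Surjective (fun h : ↥(Subgroup.zpowers g) => h • α) := by
      intro α β
      obtain ⟨i, hi⟩ := hpow α β
      exact ⟨⟨g ^ i, Subgroup.pow_mem _ (Subgroup.mem_zpowers g) i⟩, hi⟩
    have hbij : ∀ α : Ω, Function.Bijective (fun h : ↥(Subgroup.zpowers g) => h • α) := fun α =>
      (Fintype.bijective_iff_surjective_and_card _).2 ⟨hsurj α, by rw [hcardC, hΩ]⟩
    have hreg : ∀ α β : Ω, ∃! h : ↥(Subgroup.zpowers g), h • α = β := fun α β =>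
      (hbij α).existsUnique β
    have hcomm : ∀ a b : ↥(Subgroup.zpowers g), a * b = b * a := by
      rintro ⟨a, ha⟩ ⟨b, hb⟩
      obtain ⟨i, rfl⟩ := Subgroup.mem_zpowers_iff.1 ha
      obtain ⟨j, rfl⟩ := Subgroup.mem_zpowers_iff.1 hb
      apply Subtype.ext
      change g ^ i * g ^ j = g ^ j * g ^ i
      rw [← zpow_add, ← zpow_add, add_comm]
    have S : Setting G Ω ↥(Subgroup.zpowers g) :=
      { reg := hreg, comm := hcomm, sub := fun h => ⟨(h : G), fun α => rfl⟩, prim := hprim }
    obtain ⟨ω₀⟩ : Nonempty Ω := by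
      rw [← Fintype.card_pos_iff, hΩ]; exact pow_pos hp.pos m
    have : Fact p.Prime := ⟨hp⟩
    have hKp : (Finset.univ.filter (fun x : ↥(Subgroup.zpowers g) => x ^ p = 1)).card = p := by
      apply le_antisymm
      · convert IsCyclic.card_pow_eq_one_le (α := ↥(Subgroup.zpowers g)) hp.pos
      · have h1 := IsCyclic.card_orderOf_eq_totient (α := ↥(Subgroup.zpowers g)) (d := p) (by
          rw [hcardC]; exact dvd_pow_self p (by omega))
        rw [Nat.totient_prime hp] at h1
        have h2' : (insert (1 : ↥(Subgroup.zpowers g))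
            (Finset.univ.filter (fun a : ↥(Subgroup.zpowers g) => orderOf a = p))).card = p := by
          rw [Finset.card_insert_of_notMem]
          · have : (Finset.univ.filter (fun a : ↥(Subgroup.zpowers g) => orderOf a = p)).card
                = p - 1 := by
              convert h1
            rw [this]
            have := hp.pos
            omega
          · intro h
            rw [Finset.mem_filter, orderOf_one] at h
            exact hp.one_lt.ne h.2
        refine h2'.ge.trans (Finset.card_le_card ?_)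
        intro x hx
        rw [Finset.mem_insert] at hx
        rw [Finset.mem_filter]
        refine ⟨Finset.mem_univ _, ?_⟩
        rcases hx with rfl | hx
        · exact one_pow _
        · rw [Finset.mem_filter] at hx
          rw [← hx.2]; exact pow_orderOf_eq_one x
    have hproper : ∃ h : ↥(Subgroup.zpowers g), h ^ p ≠ 1 := by
      refine ⟨⟨g, Subgroup.mem_zpowers g⟩, fun h => ?_⟩
      have h1 : g ^ p = 1 := congrArg Subtype.val h
      have h3 := orderOf_dvd_of_pow_eq_one h1
      rw [hg] at h3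
      have h4 : p ^ m ≤ p := Nat.le_of_dvd hp.pos h3
      have h5 : p ^ 2 ≤ p ^ m := Nat.pow_le_pow_right hp.pos hm
      have h6 : p * 2 ≤ p ^ 2 := by rw [pow_two]; exact Nat.mul_le_mul_left p hp.two_le
      have := hp.pos
      omega
    exact two_transitive' S ω₀ p hKp hproper
  refine ⟨hnprim, ?_⟩
  obtain ⟨B, hB, hBnt⟩ := exists_nontrivial_block htr hnprim
  unfold MulAction.IsTrivialBlock at hBnt
  push Not at hBnt
  obtain ⟨hBns, hBne⟩ := hBnt
  obtain ⟨α, hα, β', hβ', hne⟩ := hBns
  obtain ⟨β, hβ⟩ : ∃ β, β ∉ B := by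
    by_contra h
    push Not at h
    exact hBne (Set.eq_univ_of_forall h)
  apply normalClosure_not_pretransitive B _ ?_ α β hα hβ
  intro g'
  have hB' : MulAction.IsBlock G (g' • B) := hB.translate g'
  obtain ⟨i, hi⟩ := hpow (g' • α) (g' • β')
  have hy : g ^ i • (g' • B) = g' • B :=
    hB'.smul_eq_of_mem (Set.smul_mem_smul_set hα) (by rw [hi]; exact Set.smul_mem_smul_set hβ')
  have hy1 : g ^ i ≠ 1 := by
    intro h
    rw [h, one_smul] at hi
    exact hne (smul_left_cancel g' hi)
  obtain ⟨k, hk⟩ := exists_pow_eq_of_cyclic_p g p m hp (by omega) hg i hy1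
  rw [← hk]
  exact smul_pow_set_eq _ _ hy k

end Cfsg.Agent.S3972
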