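import Cfsg.Statements.S3973
import Mathlib
import Cfsg.Agent.H1.Basic
import Cfsg.Agent.H1.BaerTrick
import Cfsg.Agent.H1.PerfectCover
import Cfsg.Agent.H1.SchurCover
import Cfsg.Agent.H1.SchurProj
import Cfsg.Prelude.Def_KGroupFacts
import Cfsg.Agent.H1.SchurPres

set_option autoImplicit false
open Cfsg

namespace Cfsg.Agent.S3973

set_option autoImplicit false
open H1
open scoped commutatorElement

/-- If a finite group is presented by `n` generators and a finite set of `r` relators, then its Schur multiplier can be generated by `r - n` elements. In particular a finite group with a presentation having as many relators as generators has trivial Schur multiplier. -/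
theorem result (n : ℕ) (rels : Finset (FreeGroup (Fin n))) [Finite (PresentedGroup (rels : Set (FreeGroup (Fin n))))] {A : Type*} [CommGroup A] [Finite A] (hA : Cfsg.HasSchurMultiplier (PresentedGroup (rels : Set (FreeGroup (Fin n)))) A) : Group.rank A ≤ rels.card - n := by
  have hfin : Finite (FreeGroup (Fin n) ⧸ Subgroup.normalClosure (rels : Set (FreeGroup (Fin n)))) :=
    ‹Finite (PresentedGroup (rels : Set (FreeGroup (Fin n))))›
  have hA' : Cfsg.HasSchurMultiplier
      (FreeGroup (Fin n) ⧸ Subgroup.normalClosure (rels : Set (FreeGroup (Fin n)))) A := hA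
  obtain ⟨eA⟩ := mult_equiv_of_hasSchurMultiplier hA'
  obtain ⟨f, hf⟩ := exists_surjective_to_mult_of_presentation rels
  haveI : Group.FG (Multiplicative (Fin (rels.card - Fintype.card (Fin n)) → ℤ)) := inferInstance
  calc Group.rank A
      = Group.rank (fcMult (FreeGroup (Fin n) ⧸ Subgroup.normalClosure (rels : Set (FreeGroup (Fin n))))) :=
        Group.rank_congr eA
    _ ≤ Group.rank (Multiplicative (Fin (rels.card - Fintype.card (Fin n)) → ℤ)) :=
        Group.rank_le_of_surjective f hf
    _ ≤ rels.card - Fintype.card (Fin n) := rank_multiplicative_pi_int_le _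
    _ = rels.card - n := by rw [Fintype.card_fin]

end Cfsg.Agent.S3973
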