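import Cfsg.Statements.S3976
import Mathlib
import Cfsg.Agent.Lib.Helper4.Wielandt

namespace Cfsg.Agent.S3976

open MulAction

/-- Let `p` be a prime and `G` a group of order `p ^ m`. For every `s ≤ m` the number of normal subgroups of `G` of order `p ^ s` is congruent to `1` modulo `p`. -/
theorem result {G : Type*} [Group G] [Finite G] (p m s : ℕ) (hp : p.Prime) (hG : Nat.card G = p ^ m) (hs : s ≤ m) : Nat.card {H : Subgroup G // H.Normal ∧ Nat.card H = p ^ s} ≡ 1 [MOD p] := by
  classical
  haveI : Fact p.Prime := ⟨hp⟩
  have hdiv : p ^ s ∣ Nat.card G := by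
    rw [hG]
    exact pow_dvd_pow p hs
  have h1 := Cfsg.Agent.Lib.Helper4.Wielandt.card_subgroup_modEq_one (G := G) p s hdiv
  have hPG : IsPGroup p G := IsPGroup.of_card hG
  -- conjugation action on the subgroups of order `p ^ s`
  let act : MulAction G {H : Subgroup G // Nat.card H = p ^ s} :=
    { smul := fun g H => ⟨H.1.map (MulAut.conj g).toMonoidHom, by
        rw [Subgroup.card_map_of_injective (MulAut.conj g).injective]
        exact H.2⟩
      one_smul := by
        rintro ⟨H, hH⟩
        apply Subtype.ext
        show H.map (MulAut.conj (1 : G)).toMonoidHom = H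
        rw [map_one]
        exact Subgroup.map_id H
      mul_smul := by
        rintro g h ⟨H, hH⟩
        apply Subtype.ext
        show H.map (MulAut.conj (g * h)).toMonoidHom
          = (H.map (MulAut.conj h).toMonoidHom).map (MulAut.conj g).toMonoidHom
        rw [Subgroup.map_map, map_mul]
        rfl }
  haveI : Finite {H : Subgroup G // Nat.card H = p ^ s} := inferInstance
  have h2 := hPG.card_modEq_card_fixedPoints {H : Subgroup G // Nat.card H = p ^ s}
  have h3 : Nat.card (fixedPoints G {H : Subgroup G // Nat.card H = p ^ s})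
      = Nat.card {H : Subgroup G // H.Normal ∧ Nat.card H = p ^ s} := by
    apply Nat.card_congr
    refine
      { toFun := fun H => ⟨H.1.1, ?_, H.1.2⟩
        invFun := fun H => ⟨⟨H.1, H.2.2⟩, ?_⟩
        left_inv := fun H => rfl
        right_inv := fun H => rfl }
    · obtain ⟨⟨H, hH⟩, hfix⟩ := H
      constructor
      intro n hn g
      have h4 := hfix g
      have h5 : H.map (MulAut.conj g).toMonoidHom = H := congrArg Subtype.val h4
      show g * n * g⁻¹ ∈ H
      have h6 : g * n * g⁻¹ ∈ H.map (MulAut.conj g).toMonoidHom := ⟨n, hn, rfl⟩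
      rw [h5] at h6
      exact h6
    · obtain ⟨H, hHn, hH⟩ := H
      intro g
      apply Subtype.ext
      show H.map (MulAut.conj g).toMonoidHom = H
      ext x
      rw [Subgroup.mem_map]
      constructor
      · rintro ⟨y, hy, rfl⟩
        exact hHn.conj_mem y hy g
      · intro hx
        refine ⟨g⁻¹ * x * g, ?_, ?_⟩
        · have := hHn.conj_mem x hx g⁻¹
          rwa [inv_inv] at this
        · show g * (g⁻¹ * x * g) * g⁻¹ = x
          group
  rw [← h3]
  exact h2.symm.trans h1

end Cfsg.Agent.S3976
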