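import Cfsg.Statements.S3977
import Mathlib
import Cfsg.Agent.H1.CyclicSub

set_option autoImplicit false
open Cfsg

namespace Cfsg.Agent.S3977

set_option autoImplicit false
open scoped Pointwise commutatorElement
open H1

/-- Let `p` be a prime and `G` a group of order `p ^ m` which has exactly one subgroup of order `p ^ s`, where `1 ≤ s < m`, and where `s ≥ 2` if `p = 2`. Then `G` is cyclic. (For `p = 2` and `s = 1` the generalized quaternion groups also occur; that case is the classical criterion for a unique involution.) -/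
theorem result {G : Type*} [Group G] [Finite G] (p m s : ℕ) (hp : p.Prime) (hG : Nat.card G = p ^ m) (hs : 1 ≤ s) (hsm : s < m) (h2 : p ≠ 2 ∨ 2 ≤ s) (huniq : ∀ H K : Subgroup G, Nat.card H = p ^ s → Nat.card K = p ^ s → H = K) : IsCyclic G := by
  have : Fact p.Prime := ⟨hp⟩
  have hGp : IsPGroup p G := IsPGroup.of_card hG
  have hdvd : ∀ j, j ≤ m → p ^ j ∣ Nat.card G := by
    intro j hj; rw [hG]; exact pow_dvd_pow p hj
  obtain ⟨H, hH⟩ := Sylow.exists_subgroup_card_pow_prime p (hdvd s hsm.le)
  -- subgroups of order at most p^s lie in H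
  have hle : ∀ (j : ℕ) (A : Subgroup G), j ≤ s → Nat.card A = p ^ j → A ≤ H := by
    intro j A hj hA
    obtain ⟨K, hK, hAK⟩ := Sylow.exists_subgroup_card_pow_prime_le p (hdvd s hsm.le) A hA hj
    rw [← huniq K H hK hH]; exact hAK
  -- H is cyclic
  have hHcyc : IsCyclic H := by
    obtain ⟨K, hK, hHK⟩ := Sylow.exists_subgroup_card_pow_prime_le p (hdvd (s + 1) hsm) H hH (Nat.le_succ s)
    have hne : ¬ K ≤ H := by
      intro h
      have h1 := Subgroup.card_le_of_le h
      rw [hK, hH] at h1
      exact absurd h1 (not_le.mpr (Nat.pow_lt_pow_right hp.one_lt (Nat.lt_succ_self s)))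
    obtain ⟨x, hxK, hxH⟩ := SetLike.not_le_iff_exists.mp hne
    have hzK : Subgroup.zpowers x ≤ K := Subgroup.zpowers_le.mpr hxK
    obtain ⟨j, hj⟩ := (hGp.to_subgroup (Subgroup.zpowers x)).exists_card_eq
    have hjs : ¬ j ≤ s := by
      intro h
      exact hxH (hle j _ h hj (Subgroup.mem_zpowers x))
    have hj1 : j ≤ s + 1 := by
      have h1 := Subgroup.card_le_of_le hzK
      rw [hK, hj] at h1
      exact (Nat.pow_le_pow_iff_right hp.one_lt).mp h1
    have hjeq : j = s + 1 := by omega
    have hzeq : Subgroup.zpowers x = K := by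
      apply Subgroup.eq_of_le_of_card_ge hzK
      rw [hK, hj, hjeq]
    have hKcyc : IsCyclic K := by
      rw [← hzeq]; infer_instance
    have : IsCyclic (H.subgroupOf K) := inferInstance
    exact isCyclic_of_surjective (Subgroup.subgroupOfEquivOfLe hHK) (Subgroup.subgroupOfEquivOfLe hHK).surjective
  -- uniqueness of subgroups of order p^j, j ≤ s
  have huniq' : ∀ (j : ℕ), j ≤ s → ∀ A B : Subgroup G, Nat.card A = p ^ j → Nat.card B = p ^ j → A = B := by
    intro j hj A B hA hB
    have hAH := hle j A hj hA
    have hBH := hle j B hj hB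
    have h1 : A.subgroupOf H = B.subgroupOf H := by
      apply eq_of_card_eq_of_isCyclic
      rw [Nat.card_congr (Subgroup.subgroupOfEquivOfLe hAH).toEquiv, Nat.card_congr (Subgroup.subgroupOfEquivOfLe hBH).toEquiv, hA, hB]
    have h2 := congrArg (Subgroup.map H.subtype) h1
    rwa [Subgroup.map_subgroupOf_eq_of_le hAH, Subgroup.map_subgroupOf_eq_of_le hBH] at h2
  rcases Cfsg.Agent.H2.UOP.main p hGp (fun A B hA hB => huniq' 1 hs A B (by rw [hA, pow_one]) (by rw [hB, pow_one])) with hc | ⟨hp2, n, ⟨e⟩⟩
  · exact hc
  · exfalso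
    subst hp2
    have hs2 : 2 ≤ s := by
      rcases h2 with h | h
      · exact absurd rfl h
      · exact h
    -- unique subgroup of order 4
    obtain ⟨C, hC⟩ := Sylow.exists_subgroup_card_pow_prime 2 (hdvd 2 (by omega))
    have hord4 : ∀ y : G, orderOf y = 4 → y ∈ C := by
      intro y hy
      have h1 : Nat.card (Subgroup.zpowers y) = 2 ^ 2 := by rw [Nat.card_zpowers, hy]; norm_num
      rw [← huniq' 2 hs2 _ _ h1 hC]
      exact Subgroup.mem_zpowers y
    have hne : NeZero (2 ^ n) := ⟨by positivity⟩
    let f : Option (ZMod (2 * 2 ^ n)) → C := fun o =>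
      match o with
      | none => 1
      | some i => ⟨e.symm (QuaternionGroup.xa i), hord4 _ (by
          rw [MulEquiv.orderOf_eq, QuaternionGroup.orderOf_xa])⟩
    have hf : Function.Injective f := by
      intro a b hab
      match a, b with
      | none, none => rfl
      | none, some i =>
        exfalso
        have h1 : (1 : G) = e.symm (QuaternionGroup.xa i) := congrArg Subtype.val hab
        have h2 : e.symm (QuaternionGroup.xa i) = e.symm 1 := by rw [← h1, map_one]
        have h3 := e.symm.injective h2
        rw [QuaternionGroup.one_def] at h3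
        cases h3
      | some i, none =>
        exfalso
        have h1 : e.symm (QuaternionGroup.xa i) = (1 : G) := congrArg Subtype.val hab
        have h2 : e.symm (QuaternionGroup.xa i) = e.symm 1 := by rw [h1, map_one]
        have h3 := e.symm.injective h2
        rw [QuaternionGroup.one_def] at h3
        cases h3
      | some i, some j =>
        have h1 : e.symm (QuaternionGroup.xa i) = e.symm (QuaternionGroup.xa j) := congrArg Subtype.val hab
        have h3 := e.symm.injective h1
        rw [QuaternionGroup.xa.injEq] at h3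
        rw [h3]
    have hcard := Nat.card_le_card_of_injective f hf
    have h1 : Nat.card (Option (ZMod (2 * 2 ^ n))) = 2 * 2 ^ n + 1 := by
      rw [Nat.card_eq_fintype_card, Fintype.card_option, ZMod.card]
    rw [h1, hC] at hcard
    have hn0 : n = 0 := by
      by_contra hn
      have : 2 ^ 1 ≤ 2 ^ n := Nat.pow_le_pow_right (by norm_num) (Nat.one_le_iff_ne_zero.mpr hn)
      omega
    subst hn0
    have hcardG : Nat.card G = 4 := by
      rw [Nat.card_congr e.toEquiv, Nat.card_eq_fintype_card, QuaternionGroup.card, pow_zero, mul_one]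
    rw [hG] at hcardG
    have hm2 : m = 2 := by
      have : (2 : ℕ) ^ m = 2 ^ 2 := by rw [hcardG]; norm_num
      exact Nat.pow_right_injective (le_refl 2) this
    omega

end Cfsg.Agent.S3977
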