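import Cfsg.Statements.S3978
import Mathlib
import Cfsg.Agent.H1.Basic
import Cfsg.Agent.H1.BaerTrick
import Cfsg.Agent.H1.PerfectCover
import Cfsg.Agent.H1.SchurCover
import Cfsg.Agent.H1.StemMeta
import Cfsg.Prelude.Def_KGroupFacts
import Cfsg.Agent.H1.SchurProj

set_option autoImplicit false
open Cfsg

namespace Cfsg.Agent.S3978

set_option autoImplicit false
open H1
open scoped commutatorElement

/-- A finite group `Q` has trivial Schur multiplier if and only if, for every `n`, every homomorphism from `Q` to the projective general linear group (the quotient of `GL n ℂ` by its centre) lifts to a homomorphism into `GL n ℂ`. -/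
theorem result {Q : Type*} [Group Q] [Finite Q] : Cfsg.HasCyclicSchurMultiplier Q 1 ↔ ∀ (n : ℕ) (γ : Q →* (GL (Fin n) ℂ ⧸ Subgroup.center (GL (Fin n) ℂ))), ∃ ρ : Q →* GL (Fin n) ℂ, (QuotientGroup.mk' (Subgroup.center (GL (Fin n) ℂ))).comp ρ = γ := by
  have hid : Cfsg.IsStemExtension (MonoidHom.id Q) := by
    refine ⟨Function.surjective_id, ?_, ?_⟩
    · rw [MonoidHom.ker_id]; exact bot_le
    · rw [MonoidHom.ker_id]; exact bot_le
  have hθ : (MonoidHom.id Q).comp (fcProj Q) = fcProj Q := MonoidHom.id_comp _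
  constructor
  · intro hM n γ
    obtain ⟨eM⟩ := mult_equiv_of_hasSchurMultiplier hM
    have hMtriv : ∀ x ∈ fcMult Q, x = 1 := by
      intro x hx
      have h1 : eM.symm ⟨x, hx⟩ = 1 := Subsingleton.elim (α := Fin 1) _ _
      have h2 : (⟨x, hx⟩ : fcMult Q) = 1 := (MulEquiv.map_eq_one_iff eM.symm).1 h1
      exact congrArg Subtype.val h2
    obtain ⟨ρ, hρ⟩ := exists_lift_pgl (MonoidHom.id Q) hid (fcProj Q) hθ
      (fun m hm _ => hMtriv m hm) n γ
    exact ⟨ρ, by rw [hρ, MonoidHom.comp_id]⟩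
  · intro hlift
    have hlift' : ∀ (n : ℕ) (γ : Q →* PGLn n), ∃ ρ : Q →* GL (Fin n) ℂ,
        (QuotientGroup.mk' (Subgroup.center (GL (Fin n) ℂ))).comp ρ = γ.comp (MonoidHom.id Q) := by
      intro n γ
      obtain ⟨ρ, hρ⟩ := hlift n γ
      exact ⟨ρ, by rw [hρ, MonoidHom.comp_id]⟩
    have hinj := mult_injOn_of_lifts (MonoidHom.id Q) hlift' (fcProj Q) hθ
    have hMtriv : ∀ x ∈ fcMult Q, x = 1 := fun x hx => hinj x hx (fcMult_le_ker Q hx)
    apply hasCyclicSchurMultiplier_one_of_ker_eq_bot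
    intro Γ _ _ σ hσ
    obtain ⟨f, hf⟩ := exists_surjective_mult_to_ker σ hσ
    rw [eq_bot_iff]
    intro x hx
    obtain ⟨m, hm⟩ := hf ⟨x, hx⟩
    have h1 : m = 1 := Subtype.ext (hMtriv m.1 m.2)
    rw [h1, map_one] at hm
    rw [Subgroup.mem_bot]
    exact (congrArg Subtype.val hm).symm

end Cfsg.Agent.S3978
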