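import Cfsg.Statements.S3980
import Mathlib
import Cfsg.Agent.H1.Basic
import Cfsg.Agent.H1.BaerTrick
import Cfsg.Agent.H1.PerfectCover
import Cfsg.Agent.H1.SchurCover
import Cfsg.Prelude.Def_KGroupFacts
import Cfsg.Agent.H1.SchurProd

set_option autoImplicit false
universe u v w
open Cfsg

namespace Cfsg.Agent.S3980

set_option autoImplicit false
open H1
open scoped commutatorElement

/-- Let `Q₁` and `Q₂` be finite groups whose commutator quotients have coprime orders, with Schur multipliers `A` and `B`. Then the Schur multiplier of `Q₁ × Q₂` is isomorphic to `A × B`. -/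
theorem result {Q₁ : Type u} {Q₂ : Type v} [Group Q₁] [Group Q₂] [Finite Q₁] [Finite Q₂] {A B : Type w} [CommGroup A] [CommGroup B] (hA : Cfsg.HasSchurMultiplier Q₁ A) (hB : Cfsg.HasSchurMultiplier Q₂ B) (hcop : Nat.Coprime (Nat.card (Abelianization Q₁)) (Nat.card (Abelianization Q₂))) : Cfsg.HasSchurMultiplier (Q₁ × Q₂) (A × B) := by
  have h := hasSchurMultiplier_prod hA hB
  have ht := abTensor_eq_one_of_coprime hcop
  let e : A × B × AbTensor Q₁ Q₂ ≃* A × B :=
    { toFun := fun x => (x.1, x.2.1)
      invFun := fun y => (y.1, y.2, 1)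
      left_inv := fun x => by
        refine Prod.ext rfl (Prod.ext rfl ?_)
        exact (ht _).symm
      right_inv := fun y => rfl
      map_mul' := fun x y => rfl }
  exact hasSchurMultiplier_congr e h

end Cfsg.Agent.S3980
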