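import Cfsg.Statements.S3982
import Mathlib
import Cfsg.Agent.H1.SylowMore
import Cfsg.Agent.H1.ConjMap
import Cfsg.Agent.H1.TwoIrrational
import Cfsg.Agent.H1.OddCentralizers

set_option autoImplicit false
open Cfsg

namespace Cfsg.Agent.S3982

set_option autoImplicit false
open H1

/-- Let p be an odd prime and G a finite group of even order divisible by p in which the centralizer of every non-identity p-element has odd order. If some nontrivial p-subgroup of G has a normalizer of even order, then the normalizer of every Sylow p-subgroup of G has even order. -/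
theorem result {G : Type*} [Group G] [Finite G] (p : ℕ) [Fact p.Prime] (hp2 : p ≠ 2) (hpG : p ∣ Nat.card G) (h2G : 2 ∣ Nat.card G) (hC : ∀ g : G, g ≠ 1 → (∃ k : ℕ, orderOf g = p ^ k) → Odd (Nat.card ↥(Subgroup.centralizer ({g} : Set G)))) (Q : Subgroup G) (hQ : IsPGroup p ↥Q) (hQ1 : Q ≠ ⊥) (hev : Even (Nat.card ↥(Subgroup.normalizer (Q : Set G)))) (P : Sylow p G) : Even (Nat.card ↥(Subgroup.normalizer ((P : Subgroup G) : Set G))) := by
  exact even_normalizer_sylow_of_odd_centralizers p hp2 hpG hC Q hQ hQ1 hev P

end Cfsg.Agent.S3982
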