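import Cfsg.Statements.S3983
import Cfsg.Agent.Lib.Lead.TISylow

set_option autoImplicit false
open scoped Pointwise
open Cfsg

namespace Cfsg.Agent.S3983



/-- Let P be a Sylow p-subgroup of the finite group G that meets each conjugate g P g⁻¹ with g outside N_G(P) trivially, and let U be a subgroup of G of order divisible by p. Then a Sylow p-subgroup Q of U has the same property inside U: Q meets each conjugate u Q u⁻¹ with u ∈ U outside N_U(Q) trivially. -/
theorem result {G : Type*} [Group G] [Finite G] (p : ℕ) [Fact p.Prime] (P : Sylow p G) (hTI : ∀ g : G, g ∉ Subgroup.normalizer ((P : Subgroup G) : Set G) → (P : Subgroup G) ⊓ (MulAut.conj g • (P : Subgroup G)) = ⊥) (U : Subgroup G) (hU : p ∣ Nat.card ↥U) (Q : Sylow p ↥U) : ∀ u : ↥U, u ∉ Subgroup.normalizer ((Q : Subgroup ↥U) : Set ↥U) → (Q : Subgroup ↥U) ⊓ (MulAut.conj u • (Q : Subgroup ↥U)) = ⊥ := by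
  apply Cfsg.Agent.Lib.Lead.TISylow.ti_of_all
  intro Q₂ hne
  have hall := Cfsg.Agent.Lib.Lead.TISylow.ti_all P hTI
  obtain ⟨R, hR⟩ := (Q.isPGroup'.map U.subtype).exists_le_sylow
  obtain ⟨R₂, hR₂⟩ := (Q₂.isPGroup'.map U.subtype).exists_le_sylow
  have hQeq : ∀ (Q : Sylow p ↥U) (R : Sylow p G), (Q : Subgroup ↥U).map U.subtype ≤ (R : Subgroup G) →
      (Q : Subgroup ↥U) = (R : Subgroup G).subgroupOf U := by
    intro Q R h
    have hp : IsPGroup p ↥((R : Subgroup G).subgroupOf U) := R.isPGroup'.comap_subtype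
    have hle : (Q : Subgroup ↥U) ≤ (R : Subgroup G).subgroupOf U := by
      intro w hw
      rw [Subgroup.mem_subgroupOf]
      exact h ⟨w, hw, rfl⟩
    exact (Q.is_maximal' hp hle).symm
  have hRne : R₂ ≠ R := by
    intro h
    apply hne
    apply Sylow.ext
    rw [hQeq Q₂ R₂ hR₂, hQeq Q R hR, h]
  have h0 := hall R R₂ hRne.symm
  rw [eq_bot_iff]
  intro y hy
  have h1 : (y : G) ∈ (R : Subgroup G) ⊓ (R₂ : Subgroup G) :=
    ⟨hR ⟨y, hy.1, rfl⟩, hR₂ ⟨y, hy.2, rfl⟩⟩
  rw [h0, Subgroup.mem_bot] at h1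
  rw [Subgroup.mem_bot]; exact Subtype.ext h1

end Cfsg.Agent.S3983
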