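import Cfsg.Statements.S3985
import Cfsg.Agent.Lib.Lead.TISylow
import Cfsg.Agent.Lib.Lead.ConjAut
import Cfsg.Agent.S4035

set_option autoImplicit false
open scoped Pointwise
open Cfsg

namespace Cfsg.Agent.S3985

open Cfsg.Agent.Lib.Lead.TISylow Cfsg.Agent.Lib.Lead.ConjAut



/-- Let P be a cyclic Sylow p-subgroup of the finite group G. Then P meets each conjugate g P g⁻¹ with g outside N_G(P) trivially if and only if P is weakly self-centralizing: C_G(x) = C_G(P) for every non-identity x ∈ P. -/
theorem result {G : Type*} [Group G] [Finite G] (p : ℕ) [Fact p.Prime] (P : Sylow p G) (hcyc : IsCyclic ↥(P : Subgroup G)) : (∀ g : G, g ∉ Subgroup.normalizer ((P : Subgroup G) : Set G) → (P : Subgroup G) ⊓ (MulAut.conj g • (P : Subgroup G)) = ⊥) ↔ ∀ x : G, x ∈ (P : Subgroup G) → x ≠ 1 → Subgroup.centralizer ({x} : Set G) = Subgroup.centralizer ((P : Subgroup G) : Set G) := by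
  classical
  have hcommP : ∀ a ∈ (P : Subgroup G), ∀ b ∈ (P : Subgroup G), a * b = b * a := by
    intro a ha b hb
    have := Std.Commutative.comm (op := (· * · : ↥(P : Subgroup G) → ↥(P : Subgroup G) → ↥(P : Subgroup G)))
      ⟨a, ha⟩ ⟨b, hb⟩
    exact congrArg Subtype.val this
  have hPC : (P : Subgroup G) ≤ Subgroup.centralizer ((P : Subgroup G) : Set G) := by
    intro a ha
    rw [Subgroup.mem_centralizer_iff]
    intro b hb
    exact hcommP b hb a ha
  constructor
  · intro hTI x hxP hx1
    apply le_antisymm
    · intro c hc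
      rw [Subgroup.mem_centralizer_singleton_iff] at hc
      have hcN : c ∈ Subgroup.normalizer ((P : Subgroup G) : Set G) := by
        by_contra hcN
        have h0 := hTI c hcN
        have h5 : x ∈ MulAut.conj c • (P : Subgroup G) := by
          rw [mem_conj_smul]
          have e : c⁻¹ * x * c = x := by rw [mul_assoc, ← hc]; group
          rw [e]; exact hxP
        have : x ∈ (P : Subgroup G) ⊓ (MulAut.conj c • (P : Subgroup G)) := ⟨hxP, h5⟩
        rw [h0, Subgroup.mem_bot] at this
        exact hx1 this
      set K : Subgroup G := Subgroup.normalizer ((P : Subgroup G) : Set G) ⊓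
        Subgroup.centralizer ({x} : Set G) with hK
      have hcK : c ∈ K := ⟨hcN, Subgroup.mem_centralizer_singleton_iff.2 hc⟩
      obtain ⟨s, t, hst, -, ⟨k, hsk⟩, htp⟩ := Cfsg.Agent.S4035.parts (H := ↥K) p ⟨c, hcK⟩
      have hc_eq : c = (s : G) * (t : G) := by
        have := congrArg Subtype.val hst
        simpa using this
      have hsP : (s : G) ∈ (P : Subgroup G) := mem_sylow_of_mem_normalizer P s.2.1 (k := k) (by
        have := congrArg Subtype.val hsk; simpa using this)
      have htC : (t : G) ∈ Subgroup.centralizer ((P : Subgroup G) : Set G) := by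
        obtain ⟨a, ha, hao⟩ := exists_mulAut (P : Subgroup G) (t : G) t.2.1
        have hacop : Nat.Coprime (orderOf a) p := by
          apply Nat.Coprime.coprime_dvd_left hao
          rw [Subgroup.orderOf_coe]; exact htp
        have hax : a ⟨x, hxP⟩ = ⟨x, hxP⟩ := by
          apply Subtype.ext
          rw [ha]
          have := Subgroup.mem_centralizer_singleton_iff.1 t.2.2
          show (t : G) * x * (t : G)⁻¹ = x
          rw [this]; group
        have hfix := cyclic_fix P.isPGroup' a hacop (x := ⟨x, hxP⟩)
          (fun h => hx1 (congrArg Subtype.val h)) hax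
        rw [Subgroup.mem_centralizer_iff]
        intro q hq
        have := congrArg Subtype.val (hfix ⟨q, hq⟩)
        rw [ha] at this
        have this' : (t : G) * q * (t : G)⁻¹ = q := this
        calc q * (t : G) = ((t : G) * q * (t : G)⁻¹) * (t : G) := by rw [this']
          _ = (t : G) * q := by group
      rw [hc_eq]
      exact Subgroup.mul_mem _ (hPC hsP) htC
    · intro c hc
      rw [Subgroup.mem_centralizer_iff] at hc
      rw [Subgroup.mem_centralizer_singleton_iff]
      exact (hc x hxP).symm
  · intro hC
    apply ti_of_all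
    intro R hne
    by_contra h0
    obtain ⟨x, hx, hx1⟩ : ∃ x ∈ (P : Subgroup G) ⊓ (R : Subgroup G), x ≠ 1 := by
      by_contra h
      push Not at h
      exact h0 (eq_bot_iff.2 fun x hx => Subgroup.mem_bot.2 (h x hx))
    obtain ⟨g, hg⟩ := MulAction.exists_smul_eq G P R
    have hRle : (R : Subgroup G) ≤ Subgroup.centralizer ((P : Subgroup G) : Set G) := by
      intro r hr
      rw [← hC x hx.1 hx1, Subgroup.mem_centralizer_singleton_iff]
      have hxR : x ∈ (R : Subgroup G) := hx.2
      rw [← hg] at hxR hr
      have hy : g⁻¹ * x * g ∈ (P : Subgroup G) := (mem_sylow_smul P g x).1 hxR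
      have hb : g⁻¹ * r * g ∈ (P : Subgroup G) := (mem_sylow_smul P g r).1 hr
      have := hcommP _ hy _ hb
      have e1 : x * r = g * ((g⁻¹ * x * g) * (g⁻¹ * r * g)) * g⁻¹ := by group
      have e2 : r * x = g * ((g⁻¹ * r * g) * (g⁻¹ * x * g)) * g⁻¹ := by group
      rw [e1, e2, this]
    have hRN : (R : Subgroup G) ≤ Subgroup.normalizer ((P : Subgroup G) : Set G) :=
      hRle.trans (Subgroup.centralizer_le_normalizer _)
    have hsup := R.isPGroup'.to_sup_of_normal_right' P.isPGroup' hRN
    have heq := P.is_maximal' hsup le_sup_right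
    have hRP : (R : Subgroup G) ≤ (P : Subgroup G) := by
      rw [← heq]; exact le_sup_left
    exact hne (Sylow.ext (R.is_maximal' P.isPGroup' hRP)).symm

end Cfsg.Agent.S3985
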