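import Cfsg.Statements.S3986
import Mathlib
import Cfsg.Agent.H1.Basic
import Cfsg.Agent.H1.Cores
import Cfsg.Agent.H1.PrimePow

set_option autoImplicit false
open Cfsg

namespace Cfsg.Agent.S3986

open Cfsg.Agent.H1

/-- Let p be a prime and G a finite group. Then some Sylow p-subgroup of G is a direct factor of G (it is normal and has a normal complement) if and only if every element of p-power order commutes with every element whose order is a power of a prime other than p. -/
theorem result {G : Type*} [Group G] [Finite G] (p : ℕ) [Fact p.Prime] : (∃ (P : Sylow p G) (K : Subgroup G), (P : Subgroup G).Normal ∧ K.Normal ∧ (P : Subgroup G) ⊓ K = ⊥ ∧ (P : Subgroup G) ⊔ K = ⊤) ↔ ∀ x y : G, (∃ a : ℕ, orderOf x = p ^ a) → (∃ q b : ℕ, q.Prime ∧ q ≠ p ∧ orderOf y = q ^ b) → x * y = y * x := by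
  have hp : p.Prime := Fact.out
  constructor
  · rintro ⟨P, K, hPn, hKn, hinf, hsup⟩ x y ⟨a, ha⟩ ⟨q, b, hq, hqp, hb⟩
    -- x ∈ P
    have hxP : x ∈ (P : Subgroup G) := by
      have hpg : IsPGroup p (Subgroup.zpowers x) := by
        apply IsPGroup.of_card (n := a)
        rw [Nat.card_zpowers, ha]
      obtain ⟨Q, hQ⟩ := hpg.exists_le_sylow
      obtain ⟨g, rfl⟩ := MulAction.exists_smul_eq G P Q
      rw [Sylow.smul_eq_of_normal] at hQ
      exact hQ (Subgroup.mem_zpowers x)
    -- y ∈ K
    have hyK : y ∈ K := by
      obtain ⟨k, hk⟩ := (IsPGroup.iff_card.mp P.isPGroup')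
      have h1 : (QuotientGroup.mk' K y) ^ (p ^ k) = 1 := by
        have hy : y ∈ (P : Subgroup G) ⊔ K := by rw [hsup]; exact Subgroup.mem_top y
        rw [Subgroup.mem_sup_of_normal_right] at hy
        obtain ⟨x', hx', k', hk', rfl⟩ := hy
        have hk1 : QuotientGroup.mk' K k' = 1 := (QuotientGroup.eq_one_iff k').mpr hk'
        rw [map_mul, hk1, mul_one, ← map_pow]
        have : x' ^ (p ^ k) = 1 := by
          have h0 := pow_card_eq_one' (G := (P : Subgroup G)) (x := ⟨x', hx'⟩)
          rw [hk] at h0
          have h00 := congrArg Subtype.val h0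
          rw [Subgroup.coe_pow, Subgroup.coe_one] at h00
          exact h00
        rw [this, map_one]
      have h2 : (QuotientGroup.mk' K y) ^ (q ^ b) = 1 := by
        rw [← map_pow, ← hb, pow_orderOf_eq_one, map_one]
      have h3 : orderOf (QuotientGroup.mk' K y) ∣ Nat.gcd (p ^ k) (q ^ b) :=
        Nat.dvd_gcd (orderOf_dvd_of_pow_eq_one h1) (orderOf_dvd_of_pow_eq_one h2)
      have hcop : Nat.Coprime (p ^ k) (q ^ b) :=
        Nat.Coprime.pow _ _ ((Nat.coprime_primes hp hq).mpr hqp.symm)
      rw [hcop, Nat.dvd_one, orderOf_eq_one_iff] at h3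
      exact (QuotientGroup.eq_one_iff y).mp h3
    exact (Subgroup.commute_of_normal_of_disjoint _ _ hPn hKn (disjoint_iff.mpr hinf) x y hxP hyK).eq
  · intro hyp
    obtain ⟨P⟩ : Nonempty (Sylow p G) := inferInstance
    obtain ⟨n, hn⟩ := (IsPGroup.iff_card.mp P.isPGroup')
    have hPord : ∀ x ∈ (P : Subgroup G), ∃ a, orderOf x = p ^ a := by
      intro x hx
      have h0 := pow_card_eq_one' (G := (P : Subgroup G)) (x := ⟨x, hx⟩)
      rw [hn] at h0
      have h00 := congrArg Subtype.val h0
      rw [Subgroup.coe_pow, Subgroup.coe_one] at h00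
      obtain ⟨c, _, hc⟩ := (Nat.dvd_prime_pow hp).mp (orderOf_dvd_of_pow_eq_one h00)
      exact ⟨c, hc⟩
    -- Step 1: p'-elements commute with P
    have step1 : ∀ k : G, (orderOf k).Coprime p → ∀ x ∈ (P : Subgroup G), Commute k x := by
      intro k hk x hx
      apply commute_of_primePow_powers
      rintro j ⟨q, b, hq, hb⟩
      by_cases hqp : q = p
      · subst hqp
        -- order of k^j divides order of k, coprime to p
        have h1 : orderOf (k ^ j) ∣ orderOf k := orderOf_dvd_of_pow_eq_one (by
          rw [← zpow_natCast, ← zpow_mul, mul_comm, zpow_mul, zpow_natCast, pow_orderOf_eq_one, one_zpow])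
        have h2 : (orderOf (k ^ j)).Coprime q := Nat.Coprime.coprime_dvd_left h1 hk
        rw [hb] at h2
        have hb0 : b = 0 := by
          by_contra hb0
          have : q ∣ q ^ b := dvd_pow_self q hb0
          have h3 := Nat.Coprime.coprime_dvd_left this h2
          exact hq.one_lt.ne' ((Nat.coprime_self q).mp h3)
        rw [hb0, pow_zero, orderOf_eq_one_iff] at hb
        rw [hb]
        exact Commute.one_left x
      · exact (hyp x (k ^ j) (hPord x hx) ⟨q, b, hq, hqp, hb⟩).symm
    -- Step 2: P is normal
    have hPn : (P : Subgroup G).Normal := by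
      rw [← Subgroup.normalizer_eq_top_iff]
      apply eq_top_of_forall_sylow_le
      intro q hq
      by_cases hqp : q = p
      · subst hqp
        exact ⟨P, Subgroup.le_normalizer⟩
      · obtain ⟨Q⟩ : Nonempty (Sylow q G) := inferInstance
        refine ⟨Q, ?_⟩
        intro y hy
        have hyord : (orderOf y).Coprime p := by
          obtain ⟨c, hc⟩ := Q.isPGroup' ⟨y, hy⟩
          have hyc : y ^ q ^ c = 1 := by
            have := congrArg Subtype.val hc
            simpa using this
          have h1 : orderOf y ∣ q ^ c := orderOf_dvd_of_pow_eq_one hyc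
          apply Nat.Coprime.coprime_dvd_left h1
          exact Nat.Coprime.pow_left _ ((Nat.coprime_primes hq.out hp).mpr hqp)
        rw [Subgroup.mem_normalizer_iff]
        intro x
        constructor
        · intro hx
          have := (step1 y hyord x hx).eq
          rw [this, mul_inv_cancel_right]; exact hx
        · intro hx
          have h2 := (step1 y hyord _ hx).eq
          have h3 : y * x = y * x * y⁻¹ * y := by group
          have h4 : x = y * x * y⁻¹ := by
            have : y * (y * x * y⁻¹) = y * x := by rw [h2]; group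
            exact (mul_left_cancel this).symm
          rw [h4]; exact hx
    -- Step 3: complement
    have hcop : Nat.Coprime (Nat.card (P : Subgroup G)) (P : Subgroup G).index := by
      rw [hn]
      apply Nat.Coprime.pow_left
      rw [hp.coprime_iff_not_dvd]
      exact P.not_dvd_index
    obtain ⟨K, hK⟩ := Subgroup.exists_right_complement'_of_coprime hcop
    have hKcard : Nat.card K = (P : Subgroup G).index := by
      have h1 := hK.card_mul_card
      have h2 := (P : Subgroup G).card_mul_index
      have hpos : 0 < Nat.card (P : Subgroup G) := Nat.card_pos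
      rw [← h2] at h1
      exact Nat.eq_of_mul_eq_mul_left hpos h1
    have hKord : ∀ k ∈ K, (orderOf k).Coprime p := by
      intro k hk
      have h1 : orderOf k ∣ Nat.card K := by
        have := orderOf_dvd_natCard (⟨k, hk⟩ : K)
        rwa [Subgroup.orderOf_mk] at this
      rw [hKcard] at h1
      apply Nat.Coprime.coprime_dvd_left h1
      rw [Nat.coprime_comm, hp.coprime_iff_not_dvd]
      exact P.not_dvd_index
    have hKn : K.Normal := by
      rw [← Subgroup.normalizer_eq_top_iff, eq_top_iff, ← hK.sup_eq_top]
      apply sup_le _ Subgroup.le_normalizer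
      intro x hx
      rw [Subgroup.mem_normalizer_iff]
      intro k
      constructor
      · intro hk
        have := (step1 k (hKord k hk) x hx).eq
        rw [← this, mul_inv_cancel_right]; exact hk
      · intro hk
        have h2 := (step1 _ (hKord _ hk) x hx).eq
        have h4 : k = x * k * x⁻¹ := by
          have h5 : x * k * x⁻¹ * x = x * k := by group
          rw [h5] at h2
          exact mul_left_cancel h2
        rw [h4]; exact hk
    exact ⟨P, K, hPn, hKn, hK.disjoint.eq_bot, hK.sup_eq_top⟩

end Cfsg.Agent.S3986
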