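import Cfsg.Statements.S3994
import Mathlib
import Cfsg.Agent.Lib.Helper4.FrobDiv

namespace Cfsg.Agent.S3994

open Cfsg.Agent.Lib.Helper4.FrobDiv

theorem coprime_div_gcd_pow (N n : ℕ) (hN : 0 < N) (hn : 0 < n) :
    (N / Nat.gcd N (n ^ N)).Coprime n := by
  apply Nat.coprime_of_dvd
  intro q hq hqm hqn
  have hNe : N ≠ 0 := hN.ne'
  have hpow : n ^ N ≠ 0 := (pow_pos hn N).ne'
  have hed : Nat.gcd N (n ^ N) ∣ N := Nat.gcd_dvd_left _ _
  have h1 : (N / Nat.gcd N (n ^ N)).factorization q = 0 := by
    rw [Nat.factorization_div hed, Nat.factorization_gcd hNe hpow, Nat.factorization_pow]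
    simp only [Finsupp.coe_tsub, Pi.sub_apply, Finsupp.inf_apply, Finsupp.coe_smul, Pi.smul_apply,
      smul_eq_mul]
    have h2 : N.factorization q < N := Nat.factorization_lt q hNe
    have h3 : 1 ≤ n.factorization q := by
      have := (Nat.Prime.dvd_iff_one_le_factorization hq hn.ne').mp hqn
      exact this
    have h4 : N ≤ N * n.factorization q := Nat.le_mul_of_pos_right N h3
    rw [min_eq_left (by omega)]
    omega
  rw [Nat.factorization_eq_zero_iff] at h1
  rcases h1 with h1 | h1 | h1
  · exact h1 hq
  · exact h1 hqm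
  · have : 0 < N / Nat.gcd N (n ^ N) :=
      Nat.div_pos (Nat.le_of_dvd hN hed) (Nat.gcd_pos_of_pos_left _ hN)
    omega

/-- Let G be a finite group and n a positive integer. The number of elements of G whose order is divisible by n is either 0 or divisible by the largest divisor of the order of G that is coprime to n. -/
theorem result {G : Type*} [Group G] [Finite G] (n : ℕ) (hn : 0 < n) :
    Nat.card {g : G // n ∣ orderOf g} = 0 ∨
      (Nat.card G / Nat.gcd (Nat.card G) (n ^ Nat.card G)) ∣ Nat.card {g : G // n ∣ orderOf g} := by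
  classical
  haveI : Fintype G := Fintype.ofFinite G
  right
  have hN : 0 < Nat.card G := Nat.card_pos
  set e := Nat.gcd (Nat.card G) (n ^ Nat.card G) with he
  set m := Nat.card G / e with hm
  have hed : e ∣ Nat.card G := Nat.gcd_dvd_left _ _
  have hem' : e * m = Nat.card G := Nat.mul_div_cancel' hed
  have hmn : m.Coprime n := coprime_div_gcd_pow _ n hN hn
  have hem : e.Coprime m :=
    (Nat.Coprime.coprime_dvd_right (Nat.gcd_dvd_right _ _) (Nat.Coprime.pow_right _ hmn)).symm
  have hmN : m ∣ Nat.card G := Dvd.intro_left e hem'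
  have hdec := decomp (G := G) e m hem (fun x : G => n ∣ orderOf x) (by
    intro y z hyz hy hz
    have hoy : orderOf y ∣ e := orderOf_dvd_of_pow_eq_one hy
    have hoz : orderOf z ∣ m := orderOf_dvd_of_pow_eq_one hz
    have hco : (orderOf y).Coprime (orderOf z) :=
      Nat.Coprime.coprime_dvd_left hoy (Nat.Coprime.coprime_dvd_right hoz hem)
    rw [hyz.orderOf_mul_eq_mul_orderOf_of_coprime hco]
    exact Nat.Coprime.dvd_mul_right (Nat.Coprime.coprime_dvd_right hoz hmn.symm))
  have hsum := sum_dvd (G := G)
    (Finset.univ.filter (fun y : G => y ^ e = 1 ∧ n ∣ orderOf y)) m hmN (by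
      intro g y hy
      simp only [Finset.mem_filter, Finset.mem_univ, true_and] at hy ⊢
      rw [conj_pow, hy.1]
      refine ⟨by group, ?_⟩
      have : orderOf (g * y * g⁻¹) = orderOf y := by
        have := (MulAut.conj g).orderOf_eq y
        rwa [MulAut.conj_apply] at this
      rw [this]; exact hy.2) (by
      intro y _
      rw [← card_tors_centralizer]
      exact frobenius_gcd_dvd m)
  have hcard : Nat.card {g : G // n ∣ orderOf g} =
      ∑ y ∈ Finset.univ.filter (fun y : G => y ^ e = 1 ∧ n ∣ orderOf y),
        (Finset.univ.filter (fun z : G => Commute z y ∧ z ^ m = 1)).card := by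
    rw [Nat.card_eq_fintype_card, Fintype.card_subtype]
    have : (Finset.univ.filter (fun x : G => n ∣ orderOf x)) =
        (Finset.univ.filter (fun x : G => x ^ (e * m) = 1 ∧ n ∣ orderOf x)) := by
      ext x
      simp only [Finset.mem_filter, Finset.mem_univ, true_and]
      constructor
      · intro h
        refine ⟨?_, h⟩
        rw [hem']; exact pow_card_eq_one'
      · exact fun h => h.2
    rw [this]
    convert hdec
  rw [hcard]
  exact hsum

end Cfsg.Agent.S3994
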