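import Cfsg.Statements.S3995
import Mathlib
import Cfsg.Agent.Lib.Helper4.FrobDiv
import Cfsg.Agent.H2.UniqueOrderP
import Cfsg.Agent.H1.SameOrderType

set_option autoImplicit false
open Cfsg

namespace Cfsg.Agent.S3995

open H1

/-- Let G be a finite group such that the numbers of elements of each order that occurs in G (the numbers #{g : o(g) = m}, m ranging over the element orders of G) take exactly two values, 1 and some n ≠ 1. Then either G is a p-group of exponent p and order at least 3 for some prime p, or G is the quaternion group of order 8, or G is cyclic of order 4, or G ≅ Z₂ × P for a p-group P of exponent p with p an odd prime. -/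
theorem result {G : Type*} [Group G] [Finite G] (n : ℕ) (hn : n ≠ 1) (h : ((fun m : ℕ => Nat.card {g : G // orderOf g = m}) '' Set.range (orderOf : G → ℕ)) = {1, n}) :
    (∃ p : ℕ, p.Prime ∧ IsPGroup p G ∧ 3 ≤ Nat.card G ∧ Monoid.exponent G = p) ∨
      Nonempty (G ≃* QuaternionGroup 2) ∨ (IsCyclic G ∧ Nat.card G = 4) ∨
      (∃ (p : ℕ) (P : Type) (_ : Group P) (_ : Finite P), p.Prime ∧ p ≠ 2 ∧ IsPGroup p P ∧ Monoid.exponent P = p ∧
        Nonempty (G ≃* Multiplicative (ZMod 2) × P)) := by
  have hval : ∀ g : G, SOT.cnt G (orderOf g) = 1 ∨ SOT.cnt G (orderOf g) = n := by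
    intro g
    have : SOT.cnt G (orderOf g) ∈ ({1, n} : Set ℕ) := by
      rw [← h]; exact ⟨orderOf g, ⟨g, rfl⟩, rfl⟩
    simpa using this
  have hex : ∃ g : G, SOT.cnt G (orderOf g) = n := by
    have : n ∈ ({1, n} : Set ℕ) := by simp
    rw [← h] at this
    obtain ⟨m, ⟨g, rfl⟩, hm⟩ := this
    exact ⟨g, hm⟩
  have hall3 : ∀ g : G, 3 ≤ orderOf g → SOT.cnt G (orderOf g) = n := by
    intro g hg
    rcases hval g with h1 | h1
    · have := SOT.two_le_cnt g hg; omega
    · exact h1
  by_cases hB : ∃ z : G, orderOf z = 2 ∧ SOT.cnt G 2 = 1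
  · obtain ⟨z, hz, h2⟩ := hB
    right
    by_cases hodd : ∃ p : ℕ, p.Prime ∧ p ≠ 2 ∧ p ∣ Nat.card G
    · obtain ⟨p, hp, hp2, hpd⟩ := hodd
      obtain ⟨P, i1, i2, h1, h2', h3⟩ := SOT.caseB2 n z hz h2 hall3 p hp hp2 hpd
      right; right
      exact ⟨p, P, i1, i2, hp, hp2, h1, h2', h3⟩
    · push_neg at hodd
      obtain ⟨k, hk⟩ : ∃ k, Nat.card G = 2 ^ k :=
        ⟨_, Nat.eq_prime_pow_of_unique_prime_dvd Nat.card_pos.ne'
          (fun {d} hd hdd => by_contra fun hne => hodd d hd hne hdd)⟩
      rcases SOT.caseB1 n z hz h2 hall3 hn hex k hk with h | h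
      · left; exact h
      · right; left; exact h
  · left
    push_neg at hB
    haveI hnt : Nontrivial G := by
      obtain ⟨g, hg⟩ := hex
      refine ⟨⟨g, 1, ?_⟩⟩
      rintro rfl
      rw [orderOf_one, SOT.cnt_one] at hg
      exact hn hg.symm
    apply SOT.caseA n hn
    intro g hg
    rcases hval g with h1 | h1
    · exfalso
      have hle : orderOf g ≤ 2 := by
        by_contra hlt
        push_neg at hlt
        have := SOT.two_le_cnt g (by omega)
        omega
      have hne1 : orderOf g ≠ 1 := fun h => hg (orderOf_eq_one_iff.mp h)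
      have hpos : 0 < orderOf g := orderOf_pos g
      have h2 : orderOf g = 2 := by omega
      exact hB g h2 (h2 ▸ h1)
    · exact h1

end Cfsg.Agent.S3995
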