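import Cfsg.Statements.S3997
import Mathlib
import Cfsg.Agent.H1.Basic

set_option autoImplicit false
open Cfsg

namespace Cfsg.Agent.S3997

open Cfsg.Agent.H1

/-- Let G and H be finite groups with the same order type: for every m they have the same number of elements of order m. If G is nilpotent then so is H. -/
theorem result {G H : Type*} [Group G] [Finite G] [Group H] [Finite H] (hT : (∀ m : ℕ, Nat.card {g : G // orderOf g = m} = Nat.card {h : H // orderOf h = m})) (hG : Group.IsNilpotent G) :
    Group.IsNilpotent H := by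
  -- order-preserving bijection
  have e : ∀ m : ℕ, {g : G // orderOf g = m} ≃ {h : H // orderOf h = m} :=
    fun m => Classical.choice (Finite.card_eq.mp (hT m))
  obtain ⟨f, hf⟩ : ∃ f : G ≃ H, ∀ g, orderOf (f g) = orderOf g := by
    refine ⟨(Equiv.sigmaFiberEquiv (orderOf : G → ℕ)).symm.trans
      ((Equiv.sigmaCongrRight e).trans (Equiv.sigmaFiberEquiv (orderOf : H → ℕ))), ?_⟩
    intro g
    simp only [Equiv.trans_apply, Equiv.sigmaFiberEquiv, Equiv.coe_fn_symm_mk, Equiv.sigmaCongrRight_apply, Equiv.coe_fn_mk]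
    exact (e (orderOf g) ⟨g, rfl⟩).2
  have hcard : Nat.card G = Nat.card H := Nat.card_congr f
  have htfae := (Group.isNilpotent_of_finite_tfae (G := H)).out 0 3
  rw [htfae]
  intro p hp Q
  have htfaeG := (Group.isNilpotent_of_finite_tfae (G := G)).out 0 3
  have hGn := htfaeG.mp hG p hp
  obtain P : Sylow p G := default
  have hPn : (P : Subgroup G).Normal := hGn P
  -- p-elements of G are exactly P
  have hTG : {g : G | ∃ k : ℕ, orderOf g = p ^ k} = ((P : Subgroup G) : Set G) := by
    ext g
    constructor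
    · rintro ⟨k, hk⟩
      have hpg : IsPGroup p (Subgroup.zpowers g) := by
        apply IsPGroup.of_card (n := k)
        rw [Nat.card_zpowers, hk]
      obtain ⟨P', hP'⟩ := hpg.exists_le_sylow
      obtain ⟨x, rfl⟩ := MulAction.exists_smul_eq G P P'
      rw [Sylow.smul_eq_of_normal] at hP'
      exact hP' (Subgroup.mem_zpowers g)
    · intro hg
      obtain ⟨k, hk⟩ := (IsPGroup.iff_orderOf.mp P.isPGroup') ⟨g, hg⟩
      rw [Subgroup.orderOf_mk] at hk
      exact ⟨k, hk⟩
  have himg : f '' {g : G | ∃ k : ℕ, orderOf g = p ^ k} = {h : H | ∃ k : ℕ, orderOf h = p ^ k} := by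
    ext h
    constructor
    · rintro ⟨g, ⟨k, hk⟩, rfl⟩
      exact ⟨k, by rw [hf, hk]⟩
    · rintro ⟨k, hk⟩
      refine ⟨f.symm h, ⟨k, ?_⟩, f.apply_symm_apply h⟩
      rw [← hf, f.apply_symm_apply, hk]
  have hncard : Set.ncard {h : H | ∃ k : ℕ, orderOf h = p ^ k} = p ^ (Nat.card H).factorization p := by
    rw [← himg, Set.ncard_image_of_injective _ f.injective, hTG, ← hcard, ← P.card_eq_multiplicity]
    rfl
  have hall : ∀ Q' : Sylow p H, ((Q' : Subgroup H) : Set H) = {h : H | ∃ k : ℕ, orderOf h = p ^ k} := by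
    intro Q'
    apply Set.eq_of_subset_of_ncard_le
    · intro h hh
      obtain ⟨k, hk⟩ := (IsPGroup.iff_orderOf.mp Q'.isPGroup') ⟨h, hh⟩
      rw [Subgroup.orderOf_mk] at hk
      exact ⟨k, hk⟩
    · rw [hncard, ← Q'.card_eq_multiplicity]
      exact le_of_eq rfl
    · exact Set.toFinite _
  have hsub : Subsingleton (Sylow p H) := by
    constructor
    intro Q₁ Q₂
    apply Sylow.ext
    apply SetLike.coe_injective
    rw [hall Q₁, hall Q₂]
  exact Sylow.normal_of_subsingleton Q

end Cfsg.Agent.S3997
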