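import Cfsg.Statements.S4001
import Mathlib
import Cfsg.Prelude.Def_Solvable
import Cfsg.Agent.S0034
import Cfsg.Agent.S0035
import Cfsg.Agent.S0039
import Cfsg.Agent.S0040
import Cfsg.Agent.S0041
import Cfsg.Agent.S0042
import Cfsg.Agent.S0068
import Cfsg.Agent.H1.Splitting
import Cfsg.Agent.H1.Cores
import Cfsg.Agent.H2.ConjMap
import Cfsg.Agent.H1.FrobPkg

set_option autoImplicit false
open Cfsg

namespace Cfsg.Agent.S4001

set_option autoImplicit false
set_option linter.style.haveILetI false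
set_option linter.unusedVariables false
set_option linter.unusedSectionVars false
open scoped Pointwise
open H1

/-- Let G be a 2-Frobenius group: it has normal subgroups H < K with K a Frobenius group with kernel H and G/H a Frobenius group with kernel K/H. Then G is solvable; K/H has odd order coprime to the order of H and to the order of G/K (it is the image of an odd-order Hall subgroup); G/K is cyclic; and the prime graph of G has exactly two connected components, both complete: for distinct primes p, q dividing the order of G, G has an element of order pq exactly when p and q either both divide the order of K/H or both do not. -/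
theorem result {G : Type*} [Group G] [Finite G] (H K : Subgroup G) [H.Normal] [K.Normal] (hlt : H < K)
    (hK : ∃ C : Subgroup ↥K, Cfsg.IsFrobeniusComplement C ∧ Cfsg.frobeniusKernel C = (H.subgroupOf K : Set ↥K))
    (hGH : ∃ C : Subgroup (G ⧸ H), Cfsg.IsFrobeniusComplement C ∧ Cfsg.frobeniusKernel C = (K.map (QuotientGroup.mk' H) : Set (G ⧸ H))) :
    Group.IsSolvable G ∧ Odd (Nat.card (↥K ⧸ H.subgroupOf K)) ∧
      Nat.Coprime (Nat.card (↥K ⧸ H.subgroupOf K)) (Nat.card ↥H * Nat.card (G ⧸ K)) ∧ IsCyclic (G ⧸ K) ∧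
      ∀ p q : ℕ, p.Prime → q.Prime → p ≠ q → p ∣ Nat.card G → q ∣ Nat.card G →
        ((∃ g : G, orderOf g = p * q) ↔ (p ∣ Nat.card (↥K ⧸ H.subgroupOf K) ↔ q ∣ Nat.card (↥K ⧸ H.subgroupOf K))) := by
  classical
  obtain ⟨C, hC, hCk⟩ := hK
  obtain ⟨C', hC', hC'k⟩ := hGH
  obtain ⟨hNn, hcompl, hNnil, hNbot, hfpf, hNcop, hF6⟩ := frob_pkg C (H.subgroupOf K) hC hCk
  obtain ⟨hKbn, hcompl', hKbnil, hKbbot, hfpf', hKbcop, hF6'⟩ :=
    frob_pkg C' (K.map (QuotientGroup.mk' H)) hC' hC'k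
  have hHK : H ≤ K := hlt.le
  have hKn : K.Normal := inferInstance
  have hmemKb : ∀ g : G, QuotientGroup.mk' H g ∈ K.map (QuotientGroup.mk' H) ↔ g ∈ K := by
    intro g
    constructor
    · rintro ⟨k, hk, hkg⟩
      have h1 : k⁻¹ * g ∈ H := QuotientGroup.eq.mp hkg
      have h2 : g = k * (k⁻¹ * g) := by group
      rw [h2]
      exact K.mul_mem hk (hHK h1)
    · intro hg
      exact Subgroup.mem_map_of_mem _ hg
  have hF6K : ∀ k ∈ K, k ∉ H → ∀ h ∈ H, k * h = h * k → h = 1 := by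
    intro k hk hkH h hh hcomm
    have := hF6 ⟨k, hk⟩ (by rw [Subgroup.mem_subgroupOf]; exact hkH) ⟨h, hHK hh⟩
      (by rw [Subgroup.mem_subgroupOf]; exact hh) (Subtype.ext hcomm)
    exact congrArg Subtype.val this
  have hF6Q : ∀ x : G, x ∉ K → ∀ k ∈ K, x * k = k * x → k ∈ H := by
    intro x hx k hk hcomm
    have := hF6' (QuotientGroup.mk' H x) (by rw [hmemKb]; exact hx) (QuotientGroup.mk' H k)
      ((hmemKb k).mpr hk) (by rw [← map_mul, ← map_mul, hcomm])
    exact (QuotientGroup.eq_one_iff k).mp this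
  -- cardinalities
  obtain ⟨a, ha⟩ : ∃ a, a = Nat.card ↥H := ⟨_, rfl⟩
  obtain ⟨b, hb⟩ : ∃ b, b = Nat.card (↥K ⧸ H.subgroupOf K) := ⟨_, rfl⟩
  obtain ⟨c, hc⟩ : ∃ c, c = Nat.card (G ⧸ K) := ⟨_, rfl⟩
  rw [← ha, ← hb, ← hc]
  have hbpos : 0 < b := by rw [hb]; exact Nat.card_pos
  have hcardN : Nat.card ↥(H.subgroupOf K) = a := by
    rw [ha]; exact Nat.card_congr (Subgroup.subgroupOfEquivOfLe hHK).toEquiv
  have hcardC : Nat.card ↥C = b := by
    have h1 := hcompl.card_mul_card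
    have h2 := (H.subgroupOf K).card_mul_index
    rw [← h2] at h1
    rw [hb, ← Subgroup.index_eq_card]
    exact Nat.eq_of_mul_eq_mul_left Nat.card_pos h1
  have hcardKb : Nat.card ↥(K.map (QuotientGroup.mk' H)) = b := by
    rw [← Subgroup.relIndex_ker, QuotientGroup.ker_mk', hb, ← Subgroup.index_eq_card]
    rfl
  have hidx : b * c = H.index := by
    rw [hb, hc, ← Subgroup.index_eq_card, ← Subgroup.index_eq_card]
    exact Subgroup.relIndex_mul_index hHK
  have hcardC' : Nat.card ↥C' = c := by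
    have h1 := hcompl'.card_mul_card
    rw [hcardKb, ← Subgroup.index_eq_card, ← hidx] at h1
    exact Nat.eq_of_mul_eq_mul_left hbpos h1
  have hab : a.Coprime b := by rw [← hcardN, ← hcardC]; exact hNcop
  have hbc : b.Coprime c := by rw [← hcardKb, ← hcardC']; exact hKbcop
  have hcardG : Nat.card G = a * (b * c) := by
    rw [hidx, ha]; exact (H.card_mul_index).symm
  have hcardK : Nat.card ↥K = a * b := by
    rw [← hcardN, ← hcardC]; exact hcompl.card_mul_card.symm
  have hb1 : b ≠ 1 := by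
    intro h
    rw [hb, ← Subgroup.index_eq_card, Subgroup.index_eq_one] at h
    have h1 : K ≤ H := by
      intro k hk
      have : (⟨k, hk⟩ : ↥K) ∈ H.subgroupOf K := by rw [h]; exact Subgroup.mem_top _
      exact Subgroup.mem_subgroupOf.mp this
    exact (not_le_of_gt hlt) h1
  -- the isomorphism `C ≃ K/H`
  obtain ⟨f, hf⟩ : ∃ f : ↥K →* ↥(K.map (QuotientGroup.mk' H)), f = (QuotientGroup.mk' H).subgroupMap K :=
    ⟨_, rfl⟩
  have hfval : ∀ k : ↥K, ((f k : ↥(K.map (QuotientGroup.mk' H))) : G ⧸ H) = QuotientGroup.mk' H (k : G) := by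
    intro k; rw [hf]; rfl
  have hfsurj : Function.Surjective f := by
    rw [hf]; exact (QuotientGroup.mk' H).subgroupMap_surjective K
  have hfker : ∀ k : ↥K, f k = 1 ↔ k ∈ H.subgroupOf K := by
    intro k
    rw [Subgroup.mem_subgroupOf, ← QuotientGroup.eq_one_iff, ← QuotientGroup.mk'_apply, ← hfval]
    constructor
    · intro h; rw [h]; rfl
    · intro h; exact Subtype.ext h
  have hdecomp : ∀ k : ↥K, ∃ n ∈ H.subgroupOf K, ∃ c₀ ∈ C, n * c₀ = k := by
    intro k
    have : k ∈ H.subgroupOf K ⊔ C := by rw [hcompl.sup_eq_top]; exact Subgroup.mem_top _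
    exact Subgroup.mem_sup_of_normal_left.mp this
  have hφinj : Function.Injective (f.comp C.subtype) := by
    rw [injective_iff_map_eq_one]
    intro x hx
    have h1 : (x : ↥K) ∈ H.subgroupOf K := (hfker _).mp hx
    have h2 : (x : ↥K) ∈ H.subgroupOf K ⊓ C := ⟨h1, x.2⟩
    rw [hcompl.disjoint.eq_bot, Subgroup.mem_bot] at h2
    exact Subtype.ext h2
  have hφsurj : Function.Surjective (f.comp C.subtype) := by
    intro y
    obtain ⟨k, rfl⟩ := hfsurj y
    obtain ⟨n, hn, c₀, hc₀, rfl⟩ := hdecomp k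
    refine ⟨⟨c₀, hc₀⟩, ?_⟩
    rw [map_mul, (hfker n).mpr hn, one_mul]
    rfl
  obtain ⟨e, he⟩ : ∃ e : ↥C ≃* ↥(K.map (QuotientGroup.mk' H)),
      e = MulEquiv.ofBijective (f.comp C.subtype) ⟨hφinj, hφsurj⟩ := ⟨_, rfl⟩
  have heval : ∀ x : ↥C, ((e x : ↥(K.map (QuotientGroup.mk' H))) : G ⧸ H) = QuotientGroup.mk' H ((x : ↥K) : G) := by
    intro x
    rw [he, ← hfval]
    rfl
  obtain ⟨c₁, hc₁C, hc₁⟩ : ∃ c₁ ∈ C', c₁ ≠ 1 := by
    obtain ⟨⟨x, hx⟩, hne⟩ := (Subgroup.ne_bot_iff_exists_ne_one).mp hC'.1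
    exact ⟨x, hx, fun h => hne (Subtype.ext h)⟩
  -- `b` is odd
  have hbodd : Odd b := by
    by_contra hodd
    have heven : 2 ∣ Nat.card ↥C := by
      rw [hcardC]; exact even_iff_two_dvd.mp (Nat.not_odd_iff_even.mp hodd)
    obtain ⟨⟨s, hsC, hs2, huniq, -⟩, -⟩ :=
      Cfsg.Agent.S0068.result (H.subgroupOf K) C hcompl hNbot hfpf heven
    have hs1 : s ≠ 1 := by
      intro h; rw [h, orderOf_one] at hs2; norm_num at hs2
    obtain ⟨z, hz⟩ : ∃ z : ↥(K.map (QuotientGroup.mk' H)), z = e ⟨s, hsC⟩ := ⟨_, rfl⟩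
    have hz2 : orderOf z = 2 := by
      rw [hz, e.orderOf_eq, ← hs2]
      exact Subgroup.orderOf_mk s hsC
    have hzuniq : ∀ y : ↥(K.map (QuotientGroup.mk' H)), orderOf y = 2 → y = z := by
      intro y hy
      obtain ⟨x, rfl⟩ := e.surjective y
      rw [e.orderOf_eq] at hy
      have hx2 : orderOf (x : ↥K) = 2 := by rw [← hy]; exact (Subgroup.orderOf_coe x)
      have := huniq x x.2 hx2
      rw [hz]
      congr 1
      exact Subtype.ext this
    -- `c₁` centralizes `z`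
    have hconj : c₁ * (z : G ⧸ H) * c₁⁻¹ ∈ K.map (QuotientGroup.mk' H) := hKbn.conj_mem _ z.2 c₁
    have hconj2 : orderOf (⟨c₁ * (z : G ⧸ H) * c₁⁻¹, hconj⟩ : ↥(K.map (QuotientGroup.mk' H))) = 2 := by
      rw [Subgroup.orderOf_mk, ← MulAut.conj_apply, MulEquiv.orderOf_eq, Subgroup.orderOf_coe, hz2]
    have h3 := congrArg Subtype.val (hzuniq _ hconj2)
    have h4 : (z : G ⧸ H) ∈ K.map (QuotientGroup.mk' H) ⊓ Subgroup.centralizer {c₁} := by
      refine ⟨z.2, ?_⟩
      show (z : G ⧸ H) ∈ Subgroup.centralizer {c₁}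
      rw [Subgroup.mem_centralizer_singleton_iff]
      have h5 : c₁ * (z : G ⧸ H) * c₁⁻¹ = z := h3
      calc (z : G ⧸ H) * c₁ = (c₁ * (z : G ⧸ H) * c₁⁻¹) * c₁ := by rw [h5]
        _ = c₁ * z := by group
    rw [hfpf' c₁ hc₁C hc₁, Subgroup.mem_bot] at h4
    have h6 : z = 1 := Subtype.ext h4
    rw [h6, orderOf_one] at hz2
    norm_num at hz2
  -- `K/H` is cyclic
  haveI hZC : IsZGroup ↥C := by
    refine ⟨fun p hp P => ?_⟩
    haveI : Fact p.Prime := ⟨hp⟩
    rcases Cfsg.Agent.S0040.result (H.subgroupOf K) C hcompl hNbot hfpf p P with h | ⟨n, ⟨e'⟩⟩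
    · exact h
    · exfalso
      have h1 : Nat.card ↥(P : Subgroup ↥C) = 4 * 2 ^ n := by
        rw [Nat.card_congr e'.toEquiv, Nat.card_eq_fintype_card, QuaternionGroup.card]
      have h2 : Nat.card ↥(P : Subgroup ↥C) ∣ b := by
        rw [← hcardC]; exact Subgroup.card_subgroup_dvd_card _
      have h3 : 2 ∣ b := Dvd.dvd.trans ⟨2 * 2 ^ n, by rw [h1]; ring⟩ h2
      exact (Nat.not_even_iff_odd.mpr hbodd) (even_iff_two_dvd.mpr h3)
  haveI hZKb : IsZGroup ↥(K.map (QuotientGroup.mk' H)) := IsZGroup.of_surjective (f := e.toMonoidHom) e.surjective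
  haveI := hKbnil
  haveI hKbcyc : IsCyclic ↥(K.map (QuotientGroup.mk' H)) := inferInstance
  haveI hKbcomm : IsMulCommutative ↥(K.map (QuotientGroup.mk' H)) := by
    obtain ⟨u, hu⟩ := hKbcyc.exists_generator
    refine ⟨⟨fun x y => ?_⟩⟩
    obtain ⟨i, rfl⟩ := Subgroup.mem_zpowers_iff.mp (hu x)
    obtain ⟨j, rfl⟩ := Subgroup.mem_zpowers_iff.mp (hu y)
    rw [← zpow_add, ← zpow_add, add_comm]
  -- `C'` is commutative
  have hC'comm : IsMulCommutative ↥C' := by
    obtain ⟨u, hu⟩ := hKbcyc.exists_generator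
    have hu1 : (u : G ⧸ H) ≠ 1 := by
      intro h
      apply hKbbot
      rw [eq_bot_iff]
      intro y hy
      obtain ⟨i, hi⟩ := Subgroup.mem_zpowers_iff.mp (hu ⟨y, hy⟩)
      have h1 := congrArg Subtype.val hi
      rw [Subgroup.coe_zpow, h, one_zpow] at h1
      rw [Subgroup.mem_bot]
      exact h1.symm
    have hact : ∀ x ∈ C', ∃ i : ℤ, x * (u : G ⧸ H) * x⁻¹ = (u : G ⧸ H) ^ i := by
      intro x hx
      have h1 : x * (u : G ⧸ H) * x⁻¹ ∈ K.map (QuotientGroup.mk' H) := hKbn.conj_mem _ u.2 x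
      obtain ⟨i, hi⟩ := Subgroup.mem_zpowers_iff.mp (hu ⟨_, h1⟩)
      refine ⟨i, ?_⟩
      have h2 := congrArg Subtype.val hi
      rw [Subgroup.coe_zpow] at h2
      exact h2.symm
    refine ⟨⟨fun x y => ?_⟩⟩
    obtain ⟨i, hi⟩ := hact x x.2
    obtain ⟨j, hj⟩ := hact y y.2
    have h1 : (x : G ⧸ H) * y * (u : G ⧸ H) * ((x : G ⧸ H) * y)⁻¹ = (u : G ⧸ H) ^ (i * j) := by
      calc (x : G ⧸ H) * y * (u : G ⧸ H) * ((x : G ⧸ H) * y)⁻¹
          = x * ((y : G ⧸ H) * u * (y : G ⧸ H)⁻¹) * (x : G ⧸ H)⁻¹ := by group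
        _ = x * (u : G ⧸ H) ^ j * (x : G ⧸ H)⁻¹ := by rw [hj]
        _ = (x * (u : G ⧸ H) * (x : G ⧸ H)⁻¹) ^ j := by rw [conj_zpow]
        _ = (u : G ⧸ H) ^ (i * j) := by rw [hi, zpow_mul]
    have h2 : (y : G ⧸ H) * x * (u : G ⧸ H) * ((y : G ⧸ H) * x)⁻¹ = (u : G ⧸ H) ^ (i * j) := by
      calc (y : G ⧸ H) * x * (u : G ⧸ H) * ((y : G ⧸ H) * x)⁻¹
          = y * ((x : G ⧸ H) * u * (x : G ⧸ H)⁻¹) * (y : G ⧸ H)⁻¹ := by group
        _ = y * (u : G ⧸ H) ^ i * (y : G ⧸ H)⁻¹ := by rw [hi]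
        _ = (y * (u : G ⧸ H) * (y : G ⧸ H)⁻¹) ^ i := by rw [conj_zpow]
        _ = (u : G ⧸ H) ^ (i * j) := by rw [hj, ← zpow_mul, mul_comm]
    obtain ⟨w, hw⟩ : ∃ w : G ⧸ H, w = ((y : G ⧸ H) * x)⁻¹ * ((x : G ⧸ H) * y) := ⟨_, rfl⟩
    have hwC : w ∈ C' := by
      rw [hw]
      exact C'.mul_mem (C'.inv_mem (C'.mul_mem y.2 x.2)) (C'.mul_mem x.2 y.2)
    have hwu : (u : G ⧸ H) ∈ K.map (QuotientGroup.mk' H) ⊓ Subgroup.centralizer {w} := by
      refine ⟨u.2, ?_⟩
      show (u : G ⧸ H) ∈ Subgroup.centralizer {w}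
      rw [Subgroup.mem_centralizer_singleton_iff]
      have h3 : w * (u : G ⧸ H) * w⁻¹ = u := by
        calc w * (u : G ⧸ H) * w⁻¹
            = ((y : G ⧸ H) * x)⁻¹ * ((x : G ⧸ H) * y * (u : G ⧸ H) * ((x : G ⧸ H) * y)⁻¹) * ((y : G ⧸ H) * x) := by
              rw [hw]; group
          _ = ((y : G ⧸ H) * x)⁻¹ * ((y : G ⧸ H) * x * (u : G ⧸ H) * ((y : G ⧸ H) * x)⁻¹) * ((y : G ⧸ H) * x) := by
              rw [h1, h2]
          _ = u := by group
      calc (u : G ⧸ H) * w = (w * (u : G ⧸ H) * w⁻¹) * w := by rw [h3]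
        _ = w * u := by group
    by_contra hne
    have hw1 : w ≠ 1 := by
      intro h
      apply hne
      apply Subtype.ext
      rw [Subgroup.coe_mul, Subgroup.coe_mul]
      have h4 : (x : G ⧸ H) * y = ((y : G ⧸ H) * x) * w := by rw [hw]; group
      rw [h4, h, mul_one]
    rw [hfpf' w hwC hw1, Subgroup.mem_bot] at hwu
    exact hu1 hwu
  have hC'cyc : IsCyclic ↥C' :=
    Cfsg.Agent.S0041.result C' (K.map (QuotientGroup.mk' H)) hKbbot
      (by rw [Subgroup.normalizer_eq_top]; exact le_top) hfpf' (Or.inl hC'comm)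
  -- `G/K` is cyclic
  obtain ⟨π, hπ⟩ : ∃ π : G ⧸ H →* G ⧸ K, π = QuotientGroup.map H K (MonoidHom.id G) hHK := ⟨_, rfl⟩
  have hπmk : ∀ g : G, π (QuotientGroup.mk' H g) = QuotientGroup.mk' K g := by
    intro g; rw [hπ]; rfl
  have hπker : ∀ y : G ⧸ H, π y = 1 ↔ y ∈ K.map (QuotientGroup.mk' H) := by
    intro y
    obtain ⟨g, rfl⟩ := QuotientGroup.mk'_surjective H y
    rw [hπmk, hmemKb, QuotientGroup.mk'_apply, QuotientGroup.eq_one_iff]
  have hGKcyc : IsCyclic (G ⧸ K) := by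
    haveI := hC'cyc
    apply isCyclic_of_surjective (π.comp C'.subtype)
    intro y
    obtain ⟨g, rfl⟩ := QuotientGroup.mk'_surjective K y
    have h1 : QuotientGroup.mk' H g ∈ K.map (QuotientGroup.mk' H) ⊔ C' := by
      rw [hcompl'.sup_eq_top]; exact Subgroup.mem_top _
    obtain ⟨n, hn, c₀, hc₀, hnc⟩ := Subgroup.mem_sup_of_normal_left.mp h1
    refine ⟨⟨c₀, hc₀⟩, ?_⟩
    rw [← hπmk, ← hnc, map_mul, (hπker n).mpr hn, one_mul]
    rfl
  -- solvability
  haveI hHnil : Group.IsNilpotent ↥H :=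
    Group.nilpotent_of_surjective (Subgroup.subgroupOfEquivOfLe hHK).toMonoidHom
      (Subgroup.subgroupOfEquivOfLe hHK).surjective
  have hsolv : Group.IsSolvable G := by
    haveI : Group.IsSolvable (G ⧸ K) := by
      haveI := hGKcyc
      exact Group.isSolvable_of_comm (fun x y => by
        obtain ⟨u, hu⟩ := hGKcyc.exists_generator
        obtain ⟨i, rfl⟩ := Subgroup.mem_zpowers_iff.mp (hu x)
        obtain ⟨j, rfl⟩ := Subgroup.mem_zpowers_iff.mp (hu y)
        rw [← zpow_add, ← zpow_add, add_comm])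
    haveI : Group.IsSolvable ↥(K.map (QuotientGroup.mk' H)) :=
      Group.isSolvable_of_comm (fun x y => hKbcomm.is_comm.comm x y)
    haveI : Group.IsSolvable (G ⧸ H) := by
      apply Group.isSolvable_of_ker_le_range (K.map (QuotientGroup.mk' H)).subtype π
      intro y hy
      rw [Subgroup.range_subtype]
      exact (hπker y).mp hy
    apply Group.isSolvable_of_ker_le_range H.subtype (QuotientGroup.mk' H)
    rw [QuotientGroup.ker_mk', Subgroup.range_subtype]
  -- no element of order `p q` with `p ∣ b`, `q ∤ b`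
  have no_mixed : ∀ p q : ℕ, p.Prime → q.Prime → p ∣ b → ¬ q ∣ b → ∀ g : G, orderOf g = p * q → False := by
    intro p q hp hq hpb hqb g hg
    have hgp : orderOf (g ^ q) = p := by
      rw [orderOf_pow_of_dvd hq.ne_zero ⟨p, by rw [hg, mul_comm]⟩, hg]
      exact Nat.mul_div_cancel _ hq.pos
    have hgq : orderOf (g ^ p) = q := by
      rw [orderOf_pow_of_dvd hp.ne_zero ⟨q, by rw [hg]⟩, hg]
      exact Nat.mul_div_cancel_left _ hp.pos
    have hcomm : g ^ q * g ^ p = g ^ p * g ^ q := (Commute.pow_pow_self g q p).eq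
    have hgpK : g ^ q ∈ K := by
      rw [← QuotientGroup.eq_one_iff, ← orderOf_eq_one_iff]
      have h1 : orderOf ((g ^ q : G) : G ⧸ K) ∣ p := by
        rw [← hgp]; exact orderOf_map_dvd (QuotientGroup.mk' K) (g ^ q)
      have h2 : orderOf ((g ^ q : G) : G ⧸ K) ∣ c := by rw [hc]; exact orderOf_dvd_natCard _
      have h3 : p.Coprime c := Nat.Coprime.coprime_dvd_left hpb hbc
      have h4 := Nat.dvd_gcd h1 h2
      rw [h3] at h4
      exact Nat.dvd_one.mp h4
    have hpa : ¬ p ∣ a := by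
      intro h
      have := Nat.dvd_gcd h hpb
      rw [hab] at this
      exact hp.one_lt.ne' (Nat.dvd_one.mp this)
    have hgpH : g ^ q ∉ H := by
      intro h
      apply hpa
      rw [ha, ← hgp, ← Subgroup.orderOf_mk (g ^ q) h]
      exact orderOf_dvd_natCard _
    by_cases hgqH : g ^ p ∈ H
    · have h1 := hF6K (g ^ q) hgpK hgpH (g ^ p) hgqH hcomm
      rw [h1, orderOf_one] at hgq
      exact hq.one_lt.ne hgq
    · have hgqK : g ^ p ∉ K := by
        intro h
        apply hqb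
        have h1 : orderOf (f ⟨g ^ p, h⟩) ∣ q := by
          have := orderOf_map_dvd f (⟨g ^ p, h⟩ : ↥K)
          rwa [Subgroup.orderOf_mk (g ^ p) h, hgq] at this
        have h2 : orderOf (f ⟨g ^ p, h⟩) ≠ 1 := by
          intro h3
          rw [orderOf_eq_one_iff, hfker, Subgroup.mem_subgroupOf] at h3
          exact hgqH h3
        have h3 : orderOf (f ⟨g ^ p, h⟩) = q := by
          rcases (Nat.dvd_prime hq).mp h1 with h4 | h4
          · exact absurd h4 h2
          · exact h4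
        rw [← hcardKb, ← h3]
        exact orderOf_dvd_natCard _
      exact hgpH (hF6Q (g ^ p) hgqK (g ^ q) hgpK hcomm.symm)
  -- an element of order `p q` with `p ∣ a`, `q ∣ c`
  have mixed : ∀ p q : ℕ, p.Prime → q.Prime → p ∣ a → ¬ q ∣ a → ¬ q ∣ b → q ∣ c →
      ∃ g : G, orderOf g = p * q := by
    intro p q hp hq hpa hqa hqb hqc
    haveI : Fact p.Prime := ⟨hp⟩
    haveI : Fact q.Prime := ⟨hq⟩
    obtain ⟨S⟩ : Nonempty (Sylow p ↥H) := inferInstance
    haveI : (S : Subgroup ↥H).Characteristic := Sylow.characteristic_of_normal S inferInstance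
    obtain ⟨P, hP⟩ : ∃ P : Subgroup G, P = (S : Subgroup ↥H).map H.subtype := ⟨_, rfl⟩
    haveI hPn : P.Normal := by rw [hP]; infer_instance
    have hPH : P ≤ H := by rw [hP]; exact Subgroup.map_subtype_le _
    have hPp : IsPGroup p ↥P := by rw [hP]; exact S.isPGroup'.map _
    have hPbot : P ≠ ⊥ := by
      rw [hP]
      intro h
      rw [Subgroup.map_eq_bot_iff_of_injective _ H.subtype_injective] at h
      exact S.ne_bot_of_dvd_card (by rw [← ha]; exact hpa) h
    obtain ⟨r, hr, hrb⟩ := Nat.exists_prime_and_dvd hb1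
    haveI : Fact r.Prime := ⟨hr⟩
    have hra : ¬ r ∣ a := by
      intro h
      have := Nat.dvd_gcd h hrb
      rw [hab] at this
      exact hr.one_lt.ne' (Nat.dvd_one.mp this)
    have hrp : r ≠ p := fun h => hra (h ▸ hpa)
    obtain ⟨T⟩ : Nonempty (Sylow r ↥K) := inferInstance
    obtain ⟨R, hR⟩ : ∃ R : Subgroup G, R = (T : Subgroup ↥K).map K.subtype := ⟨_, rfl⟩
    have hRK : R ≤ K := by rw [hR]; exact Subgroup.map_subtype_le _
    have hRr : IsPGroup r ↥R := by rw [hR]; exact T.isPGroup'.map _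
    have hRbot : R ≠ ⊥ := by
      rw [hR]
      intro h
      rw [Subgroup.map_eq_bot_iff_of_injective _ K.subtype_injective] at h
      exact T.ne_bot_of_dvd_card (by rw [hcardK]; exact Dvd.dvd.mul_left hrb a) h
    have hfr : Subgroup.normalizer (R : Set G) ⊔ K = ⊤ := by
      rw [hR]; exact Sylow.normalizer_sup_eq_top T
    have hqM : q ∣ Nat.card ↥(Subgroup.normalizer (R : Set G)) := by
      have h1 : K.relIndex (Subgroup.normalizer (R : Set G)) = K.index := by
        rw [← Subgroup.relIndex_sup_right (H := Subgroup.normalizer (R : Set G)) (K := K), hfr,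
          Subgroup.relIndex_top_right]
      have h2 : K.relIndex (Subgroup.normalizer (R : Set G)) ∣ Nat.card ↥(Subgroup.normalizer (R : Set G)) :=
        Subgroup.relIndex_dvd_card _ _
      rw [h1, Subgroup.index_eq_card, ← hc] at h2
      exact hqc.trans h2
    obtain ⟨x₀', hx₀'⟩ := exists_prime_orderOf_dvd_card' q hqM
    obtain ⟨x₀, hx₀⟩ : ∃ x₀ : G, x₀ = (x₀' : G) := ⟨_, rfl⟩
    have hox₀ : orderOf x₀ = q := by rw [hx₀, Subgroup.orderOf_coe]; exact hx₀'
    have hx₀R : x₀ ∈ Subgroup.normalizer (R : Set G) := by rw [hx₀]; exact x₀'.2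
    have hx₀K : x₀ ∉ K := by
      intro h
      have h1 : q ∣ a * b := by
        rw [← hcardK, ← hox₀, ← Subgroup.orderOf_mk x₀ h]
        exact orderOf_dvd_natCard _
      rcases (Nat.Prime.dvd_mul hq).mp h1 with h2 | h2
      · exact hqa h2
      · exact hqb h2
    obtain ⟨Y, hY⟩ : ∃ Y : Subgroup G, Y = R ⊔ P := ⟨_, rfl⟩
    have hYK : Y ≤ K := by rw [hY]; exact sup_le hRK (hPH.trans hHK)
    have hx₀Y : x₀ ∈ Subgroup.normalizer (Y : Set G) := by
      rw [← Cfsg.Agent.H2.map_conj_eq_self_iff_mem_normalizer, hY, Subgroup.map_sup,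
        (Cfsg.Agent.H2.map_conj_eq_self_iff_mem_normalizer R x₀).mpr hx₀R,
        (Cfsg.Agent.H2.map_conj_eq_self_iff_mem_normalizer P x₀).mpr (by
          rw [Subgroup.normalizer_eq_top]; exact Subgroup.mem_top _)]
    have hcardY : Nat.card ↥Y ∣ Nat.card ↥R * Nat.card ↥P := by
      rw [hY]; exact card_sup_dvd_of_normal R P
    by_cases hex : ∃ y ∈ Y, y ≠ 1 ∧ x₀ * y = y * x₀
    · obtain ⟨y, hyY, hy1, hycomm⟩ := hex
      have ho1 : orderOf y ≠ 1 := fun h => hy1 (orderOf_eq_one_iff.mp h)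
      obtain ⟨s, hs, hsd⟩ := Nat.exists_prime_and_dvd ho1
      have hs' : s = p ∨ s = r := by
        have h1 : s ∣ Nat.card ↥R * Nat.card ↥P := by
          refine (hsd.trans ?_).trans hcardY
          rw [← Subgroup.orderOf_mk y hyY]
          exact orderOf_dvd_natCard _
        obtain ⟨α, hα⟩ := IsPGroup.iff_card.mp hPp
        obtain ⟨β, hβ⟩ := IsPGroup.iff_card.mp hRr
        rw [hα, hβ] at h1
        rcases (Nat.Prime.dvd_mul hs).mp h1 with h | h
        · right; exact (Nat.prime_dvd_prime_iff_eq hs hr).mp (hs.dvd_of_dvd_pow h)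
        · left; exact (Nat.prime_dvd_prime_iff_eq hs hp).mp (hs.dvd_of_dvd_pow h)
      obtain ⟨m, hm⟩ := hsd
      have hm0 : m ≠ 0 := by
        rintro rfl
        rw [mul_zero] at hm
        exact (orderOf_pos y).ne' hm
      have hoy₀ : orderOf (y ^ m) = s := by
        rw [orderOf_pow_of_dvd hm0 ⟨s, by rw [hm, mul_comm]⟩, hm]
        exact Nat.mul_div_cancel _ (Nat.pos_of_ne_zero hm0)
      have hc₀ : Commute x₀ (y ^ m) := Commute.pow_right hycomm m
      rcases hs' with hsp | hsr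
      · refine ⟨y ^ m * x₀, ?_⟩
        rw [hc₀.symm.orderOf_mul_eq_mul_orderOf_of_coprime (by
          rw [hoy₀, hox₀, hsp]
          exact (Nat.coprime_primes hp hq).mpr (fun h => hqa (h ▸ hpa))), hoy₀, hox₀, hsp]
      · exfalso
        have h1 : y ^ m ∈ H := hF6Q x₀ hx₀K (y ^ m) (hYK (Y.pow_mem hyY m)) hc₀.eq
        apply hra
        rw [ha, ← hsr, ← hoy₀, ← Subgroup.orderOf_mk (y ^ m) h1]
        exact orderOf_dvd_natCard _
    · exfalso
      push Not at hex
      haveI hnilY : Group.IsNilpotent ↥Y := nilpotent_of_prime_order_fpf Y x₀ hx₀Y hq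
        (by rw [← hox₀]; exact pow_orderOf_eq_one x₀)
        (fun y hy hcomm => by
          by_contra h1
          exact hex y hy h1 hcomm)
      obtain ⟨⟨u, huR⟩, hu1⟩ := (Subgroup.ne_bot_iff_exists_ne_one).mp hRbot
      obtain ⟨⟨v, hvP⟩, hv1⟩ := (Subgroup.ne_bot_iff_exists_ne_one).mp hPbot
      have hu1' : u ≠ 1 := fun h => hu1 (Subtype.ext h)
      have hv1' : v ≠ 1 := fun h => hv1 (Subtype.ext h)
      have huY : u ∈ Y := by rw [hY]; exact Subgroup.mem_sup_left huR
      have hvY : v ∈ Y := by rw [hY]; exact Subgroup.mem_sup_right hvP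
      have huo : ∃ k, orderOf u = r ^ k := by
        obtain ⟨k, hk⟩ := (IsPGroup.iff_orderOf.mp hRr) ⟨u, huR⟩
        exact ⟨k, by rw [← hk, Subgroup.orderOf_mk]⟩
      have hvo : ∃ k, orderOf v = p ^ k := by
        obtain ⟨k, hk⟩ := (IsPGroup.iff_orderOf.mp hPp) ⟨v, hvP⟩
        exact ⟨k, by rw [← hk, Subgroup.orderOf_mk]⟩
      have hcomm := commute_of_nilpotent_of_prime_pow (X := ↥Y) hrp ⟨u, huY⟩ ⟨v, hvY⟩
        (by rw [Subgroup.orderOf_mk]; exact huo) (by rw [Subgroup.orderOf_mk]; exact hvo)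
      have hcomm' : u * v = v * u := congrArg Subtype.val hcomm.eq
      have huH : u ∉ H := by
        intro h
        obtain ⟨k, hk⟩ := huo
        have hk0 : k ≠ 0 := by
          rintro rfl
          rw [pow_zero, orderOf_eq_one_iff] at hk
          exact hu1' hk
        apply hra
        have h1 : orderOf u ∣ a := by
          rw [ha, ← Subgroup.orderOf_mk u h]
          exact orderOf_dvd_natCard _
        rw [hk] at h1
        exact (dvd_pow_self r hk0).trans h1
      exact hv1' (hF6K u (hRK huR) huH v (hPH hvP) hcomm')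
  refine ⟨hsolv, hbodd, Nat.Coprime.mul_right hab.symm hbc, hGKcyc, ?_⟩
  intro p q hp hq hpq hpG hqG
  constructor
  · rintro ⟨g, hg⟩
    by_cases hpb : p ∣ b <;> by_cases hqb : q ∣ b
    · exact ⟨fun _ => hqb, fun _ => hpb⟩
    · exact absurd (no_mixed p q hp hq hpb hqb g hg) id
    · exact absurd (no_mixed q p hq hp hqb hpb g (by rw [hg, mul_comm])) id
    · exact ⟨fun h => absurd h hpb, fun h => absurd h hqb⟩
  · intro h
    have hcop : p.Coprime q := (Nat.coprime_primes hp hq).mpr hpq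
    by_cases hpb : p ∣ b
    · have hqb := h.mp hpb
      have hpqb : p * q ∣ Nat.card ↥(K.map (QuotientGroup.mk' H)) := by
        rw [hcardKb]; exact Nat.Coprime.mul_dvd_of_dvd_of_dvd hcop hpb hqb
      obtain ⟨y, hy⟩ := exists_orderOf_eq_of_cyclic (X := ↥(K.map (QuotientGroup.mk' H))) (p * q) hpqb
      obtain ⟨g, hg⟩ := QuotientGroup.mk'_surjective H (y : G ⧸ H)
      obtain ⟨g', hg'⟩ := exists_orderOf_eq_of_map (QuotientGroup.mk' H) g
      exact ⟨g', by rw [hg', hg, Subgroup.orderOf_coe, hy]⟩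
    · have hqb : ¬ q ∣ b := fun h' => hpb (h.mpr h')
      rw [hcardG] at hpG hqG
      have hpac : p ∣ a ∨ p ∣ c := by
        rcases (Nat.Prime.dvd_mul hp).mp hpG with h1 | h1
        · exact Or.inl h1
        · rcases (Nat.Prime.dvd_mul hp).mp h1 with h2 | h2
          · exact absurd h2 hpb
          · exact Or.inr h2
      have hqac : q ∣ a ∨ q ∣ c := by
        rcases (Nat.Prime.dvd_mul hq).mp hqG with h1 | h1
        · exact Or.inl h1
        · rcases (Nat.Prime.dvd_mul hq).mp h1 with h2 | h2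
          · exact absurd h2 hqb
          · exact Or.inr h2
      by_cases hpa : p ∣ a <;> by_cases hqa : q ∣ a
      · obtain ⟨x, hx⟩ := exists_orderOf_mul_of_nilpotent (X := ↥H) hp hq hpq (by rw [← ha]; exact hpa)
          (by rw [← ha]; exact hqa)
        exact ⟨(x : G), by rw [Subgroup.orderOf_coe]; exact hx⟩
      · exact mixed p q hp hq hpa hqa hqb (hqac.resolve_left hqa)
      · obtain ⟨g, hg⟩ := mixed q p hq hp hqa hpa hpb (hpac.resolve_left hpa)
        exact ⟨g, by rw [hg, mul_comm]⟩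
      · have hpc := hpac.resolve_left hpa
        have hqc := hqac.resolve_left hqa
        have hpqc : p * q ∣ Nat.card (G ⧸ K) := by
          rw [← hc]; exact Nat.Coprime.mul_dvd_of_dvd_of_dvd hcop hpc hqc
        haveI := hGKcyc
        obtain ⟨y, hy⟩ := exists_orderOf_eq_of_cyclic (X := G ⧸ K) (p * q) hpqc
        obtain ⟨g, hg⟩ := QuotientGroup.mk'_surjective K y
        obtain ⟨g', hg'⟩ := exists_orderOf_eq_of_map (QuotientGroup.mk' K) g
        exact ⟨g', by rw [hg', hg, hy]⟩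

end Cfsg.Agent.S4001
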