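import Cfsg.Statements.S4002
import Cfsg.Agent.Lib.Helper7.ThreePrimesD

set_option autoImplicit false
open Cfsg

namespace Cfsg.Agent.S4002

/-- If the set of element orders of a finite group G is {1, 2, …, n} with n ≥ 7, then G is not solvable. -/
theorem result {G : Type*} [Group G] [Finite G] (n : ℕ) (hn : 7 ≤ n) (h : Set.range (orderOf : G → ℕ) = {k : ℕ | 1 ≤ k ∧ k ≤ n}) : ¬ Group.IsSolvable G := by
  intro hsolv
  obtain ⟨p, q, r, hp, hq, hr, hpq, hqr, hrn, hnpq⟩ :=
    Cfsg.Agent.Lib.Helper7.ThreePrimes.exists_three_primes n hn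
  have hmem : ∀ k : ℕ, 1 ≤ k → k ≤ n → ∃ g : G, orderOf g = k := by
    intro k hk1 hkn
    have : k ∈ Set.range (orderOf : G → ℕ) := by rw [h]; exact ⟨hk1, hkn⟩
    exact this
  have hle : ∀ g : G, orderOf g ≤ n := by
    intro g
    have : orderOf g ∈ Set.range (orderOf : G → ℕ) := ⟨g, rfl⟩
    rw [h] at this
    exact this.2
  have hdvd : ∀ k : ℕ, 1 ≤ k → k ≤ n → k ∣ Nat.card G := by
    intro k hk1 hkn
    obtain ⟨g, hg⟩ := hmem k hk1 hkn
    rw [← hg]; exact orderOf_dvd_natCard g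
  obtain ⟨g, hg⟩ := Cfsg.Agent.Lib.Helper7.ThreePrimes.three_primes (G := G) p q r hp hq hr
    (by omega) (by omega) (by omega)
    (hdvd p hp.one_lt.le (by omega)) (hdvd q hq.one_lt.le (by omega)) (hdvd r hr.one_lt.le hrn)
  have := hle g
  have h1 : p * q < p * r := Nat.mul_lt_mul_of_pos_left hqr hp.pos
  have h2 : p * q < q * r := by
    calc p * q < q * q := Nat.mul_lt_mul_of_pos_right hpq hq.pos
      _ < q * r := Nat.mul_lt_mul_of_pos_left hqr hq.pos
  rcases hg with hg | hg | hg <;> omega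

end Cfsg.Agent.S4002
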