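import Cfsg.Statements.S4237
import Mathlib
import Cfsg.Agent.Lib.Helper4.Wielandt
import Cfsg.Agent.Lib.Helper7.SylowLib

set_option autoImplicit false
open Cfsg

namespace Cfsg.Agent.S4237

section

open Classical

/-- double counting in a "linear space": points `A`, lines `B`, every line has `p+1` points,
two distinct points lie on a unique line. -/
theorem linear_space_point {α β : Type*} (A : Finset α) (B : Finset β)
    (r : β → α → Prop) (p : ℕ)
    (h1 : ∀ b ∈ B, (A.filter (fun a => r b a)).card = p + 1)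
    (h2 : ∀ a ∈ A, ∀ a' ∈ A, a ≠ a' → ∃! b, b ∈ B ∧ r b a ∧ r b a')
    (a₀ : α) (ha₀ : a₀ ∈ A) :
    A.card = 1 + p * (B.filter (fun b => r b a₀)).card := by
  set L := B.filter (fun b => r b a₀) with hL
  set A' := A.erase a₀ with hA'
  have hdc := Finset.sum_card_bipartiteAbove_eq_sum_card_bipartiteBelow (r := r) (s := L) (t := A')
  -- left side: each line through `a₀` has `p` further points
  have hl : ∀ b ∈ L, (A'.bipartiteAbove r b).card = p := by
    intro b hb
    rw [hL, Finset.mem_filter] at hb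
    have : A'.bipartiteAbove r b = (A.filter (fun a => r b a)).erase a₀ := by
      ext a
      simp only [Finset.bipartiteAbove, Finset.mem_filter, Finset.mem_erase, hA']
      tauto
    rw [this, Finset.card_erase_of_mem, h1 b hb.1]
    · simp
    · rw [Finset.mem_filter]; exact ⟨ha₀, hb.2⟩
  -- right side: each further point lies on exactly one line through `a₀`
  have hr : ∀ a ∈ A', (L.bipartiteBelow r a).card = 1 := by
    intro a ha
    rw [hA', Finset.mem_erase] at ha
    obtain ⟨b, ⟨hbB, hb1, hb2⟩, huniq⟩ := h2 a₀ ha₀ a ha.2 (Ne.symm ha.1)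
    rw [Finset.card_eq_one]
    refine ⟨b, ?_⟩
    ext b'
    simp only [Finset.bipartiteBelow, Finset.mem_filter, Finset.mem_singleton, hL]
    constructor
    · rintro ⟨⟨hb'B, hb'1⟩, hb'2⟩
      exact huniq b' ⟨hb'B, hb'1, hb'2⟩
    · rintro rfl
      exact ⟨⟨hbB, hb1⟩, hb2⟩
  rw [Finset.sum_congr rfl hl, Finset.sum_congr rfl hr] at hdc
  simp only [Finset.sum_const, smul_eq_mul, mul_one] at hdc
  have h3 : A'.card = A.card - 1 := Finset.card_erase_of_mem ha₀
  have h4 : 0 < A.card := Finset.card_pos.mpr ⟨a₀, ha₀⟩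
  rw [mul_comm] at hdc
  omega

theorem linear_space_count {α β : Type*} (A : Finset α) (B : Finset β)
    (r : β → α → Prop) (p : ℕ) (hp : 0 < p)
    (h1 : ∀ b ∈ B, (A.filter (fun a => r b a)).card = p + 1)
    (h2 : ∀ a ∈ A, ∀ a' ∈ A, a ≠ a' → ∃! b, b ∈ B ∧ r b a ∧ r b a')
    (hne : A.Nonempty) :
    A.card ≡ 1 + p * B.card [MOD p ^ 2] := by
  obtain ⟨a₀, ha₀⟩ := hne
  set w := (B.filter (fun b => r b a₀)).card with hw
  have hA := linear_space_point A B r p h1 h2 a₀ ha₀
  have hall : ∀ a ∈ A, (B.filter (fun b => r b a)).card = w := by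
    intro a ha
    have h4 := linear_space_point A B r p h1 h2 a ha
    have h5 : p * w = p * (B.filter (fun b => r b a)).card :=
      Nat.add_left_cancel (hA.symm.trans h4)
    exact (Nat.eq_of_mul_eq_mul_left hp h5).symm
  have hdc := Finset.sum_card_bipartiteAbove_eq_sum_card_bipartiteBelow (r := r) (s := B) (t := A)
  have hl : ∀ b ∈ B, (A.bipartiteAbove r b).card = p + 1 := by
    intro b hb
    exact h1 b hb
  have hr : ∀ a ∈ A, (B.bipartiteBelow r a).card = w := by
    intro a ha
    exact hall a ha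
  rw [Finset.sum_congr rfl hl, Finset.sum_congr rfl hr] at hdc
  simp only [Finset.sum_const, smul_eq_mul] at hdc
  -- `B.card * (p+1) = A.card * w`, `A.card = 1 + p w`
  rw [hA] at hdc ⊢
  -- `β ≡ w mod p`
  have h6 : B.card ≡ w [MOD p] := by
    have e : B.card + p * B.card = w + p * (w * w) := by nlinarith
    have e1 : B.card + p * B.card ≡ B.card [MOD p] := by
      have : p * B.card ≡ 0 [MOD p] := (Nat.modEq_zero_iff_dvd).mpr (dvd_mul_right _ _)
      simpa using Nat.ModEq.add_left B.card this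
    have e2 : w + p * (w * w) ≡ w [MOD p] := by
      have : p * (w * w) ≡ 0 [MOD p] := (Nat.modEq_zero_iff_dvd).mpr (dvd_mul_right _ _)
      simpa using Nat.ModEq.add_left w this
    exact e1.symm.trans (e ▸ e2)
  have h7 : p * w ≡ p * B.card [MOD p * p] := Nat.ModEq.mul_left' p h6.symm
  rw [pow_two]
  exact Nat.ModEq.add_left 1 h7

end

section

open Classical

variable {P : Type*} [Group P] [Finite P] {p : ℕ} [hp : Fact p.Prime]

/-- correspondence: index-`p` subgroups above a normal subgroup -/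
theorem card_index_above (N : Subgroup P) [N.Normal] :
    Nat.card {K : Subgroup P // N ≤ K ∧ K.index = p} =
      Nat.card {K : Subgroup (P ⧸ N) // K.index = p} := by
  symm
  apply Nat.card_congr
  refine
    { toFun := fun K => ⟨(QuotientGroup.comapMk'OrderIso N K.1).1,
        (QuotientGroup.comapMk'OrderIso N K.1).2, ?_⟩
      invFun := fun K => ⟨(QuotientGroup.comapMk'OrderIso N).symm ⟨K.1, K.2.1⟩, ?_⟩
      left_inv := ?_
      right_inv := ?_ }
  · show (Subgroup.comap (QuotientGroup.mk' N) K.1).index = p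
    rw [Subgroup.index_comap_of_surjective _ (QuotientGroup.mk'_surjective N)]
    exact K.2
  · have h1 : (QuotientGroup.comapMk'OrderIso N
        ((QuotientGroup.comapMk'OrderIso N).symm ⟨K.1, K.2.1⟩)).1 = K.1 := by
      rw [OrderIso.apply_symm_apply]
    have h2 : (Subgroup.comap (QuotientGroup.mk' N)
        ((QuotientGroup.comapMk'OrderIso N).symm ⟨K.1, K.2.1⟩)).index = p := by
      have : Subgroup.comap (QuotientGroup.mk' N)
          ((QuotientGroup.comapMk'OrderIso N).symm ⟨K.1, K.2.1⟩) = K.1 := h1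
      rw [this]; exact K.2.2
    rw [Subgroup.index_comap_of_surjective _ (QuotientGroup.mk'_surjective N)] at h2
    exact h2
  · intro K
    apply Subtype.ext
    simp
  · intro K
    apply Subtype.ext
    simp

/-- in a nontrivial `p`-group the number of subgroups of index `p` is `≡ 1 mod p` -/
theorem card_index_modEq_one {X : Type*} [Group X] [Finite X] (m : ℕ)
    (hX : Nat.card X = p ^ (m + 1)) :
    Nat.card {K : Subgroup X // K.index = p} ≡ 1 [MOD p] := by
  have h1 := Cfsg.Agent.Lib.Helper4.Wielandt.card_subgroup_modEq_one (G := X) p m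
    (by rw [hX]; exact pow_dvd_pow p (Nat.le_succ m))
  have h2 : Nat.card {K : Subgroup X // K.index = p} =
      Nat.card {K : Subgroup X // Nat.card K = p ^ m} := by
    apply Nat.card_congr
    apply Equiv.subtypeEquivRight
    intro K
    have h3 : Nat.card K * K.index = p ^ (m + 1) := by
      rw [Subgroup.card_mul_index, hX]
    have hpos : 0 < p := hp.out.pos
    constructor
    · intro h
      rw [h, pow_succ] at h3
      exact Nat.eq_of_mul_eq_mul_right hpos h3
    · intro h
      rw [h, pow_succ] at h3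
      exact Nat.eq_of_mul_eq_mul_left (pow_pos hpos m) h3
  rw [h2]; exact h1

/-- index-`p` subgroups above a proper normal subgroup of a `p`-group: `≡ 1 mod p` -/
theorem card_index_above_modEq_one (hP : IsPGroup p P) (N : Subgroup P) [N.Normal] (hN : N ≠ ⊤) :
    Nat.card {K : Subgroup P // N ≤ K ∧ K.index = p} ≡ 1 [MOD p] := by
  rw [card_index_above]
  have hQ : IsPGroup p (P ⧸ N) := hP.to_quotient N
  obtain ⟨k, hk⟩ := IsPGroup.iff_card.mp hQ
  have hk0 : k ≠ 0 := by
    rintro rfl
    rw [pow_zero] at hk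
    apply hN
    rw [← Subgroup.index_eq_one, Subgroup.index_eq_card]
    exact hk
  obtain ⟨m, rfl⟩ := Nat.exists_eq_succ_of_ne_zero hk0
  exact card_index_modEq_one m hk

theorem normal_of_index_eq (hP : IsPGroup p P) {M : Subgroup P} (hM : M.index = p) : M.Normal := by
  apply Subgroup.normal_of_index_eq_minFac_card
  obtain ⟨k, hk⟩ := IsPGroup.iff_card.mp hP
  have hk0 : k ≠ 0 := by
    rintro rfl
    rw [pow_zero] at hk
    have : M.index ∣ Nat.card P := Subgroup.index_dvd_card M
    rw [hk, hM] at this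
    exact hp.out.one_lt.ne' (Nat.dvd_one.mp this)
  rw [hM, hk, Nat.pow_minFac hk0, Nat.Prime.minFac_eq hp.out]

theorem sup_eq_top_of_index {M₁ M₂ : Subgroup P} (h1 : M₁.index = p) (h2 : M₂.index = p)
    (hne : M₁ ≠ M₂) : M₁ ⊔ M₂ = ⊤ := by
  rw [← Subgroup.index_eq_one]
  have hd : (M₁ ⊔ M₂).index ∣ p := h1 ▸ Subgroup.index_dvd_of_le le_sup_left
  rcases (Nat.dvd_prime hp.out).mp hd with h | h
  · exact h
  · exfalso
    have e1 : M₁ = M₁ ⊔ M₂ := by
      apply Subgroup.eq_of_le_of_card_ge le_sup_left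
      have a1 := Subgroup.card_mul_index M₁
      have a2 := Subgroup.card_mul_index (M₁ ⊔ M₂)
      rw [h1] at a1
      rw [h] at a2
      have : Nat.card M₁ * p = Nat.card ↥(M₁ ⊔ M₂) * p := a1.trans a2.symm
      exact (Nat.eq_of_mul_eq_mul_right hp.out.pos this).ge
    have e2 : M₂ = M₁ ⊔ M₂ := by
      apply Subgroup.eq_of_le_of_card_ge le_sup_right
      have a1 := Subgroup.card_mul_index M₂
      have a2 := Subgroup.card_mul_index (M₁ ⊔ M₂)
      rw [h2] at a1
      rw [h] at a2
      have : Nat.card M₂ * p = Nat.card ↥(M₁ ⊔ M₂) * p := a1.trans a2.symm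
      exact (Nat.eq_of_mul_eq_mul_right hp.out.pos this).ge
    exact hne (e1.trans e2.symm)

theorem index_inf_eq (hP : IsPGroup p P) {M₁ M₂ : Subgroup P} (h1 : M₁.index = p)
    (h2 : M₂.index = p) (hne : M₁ ≠ M₂) : (M₁ ⊓ M₂).index = p ^ 2 := by
  haveI := normal_of_index_eq hP h2
  have h3 : (M₁ ⊓ M₂).relIndex M₁ * M₁.index = (M₁ ⊓ M₂).index :=
    Subgroup.relIndex_mul_index inf_le_left
  rw [Subgroup.inf_relIndex_left, ← Subgroup.relIndex_sup_right, sup_eq_top_of_index h1 h2 hne,
    Subgroup.relIndex_top_right, h1, h2] at h3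
  rw [← h3, pow_two]

end

section

open Classical

variable {P : Type*} [Group P] [Finite P] {p : ℕ} [hp : Fact p.Prime]

/-- two subgroups of the same index, one inside the other, are equal -/
theorem eq_of_le_of_index_eq {H K : Subgroup P} (hle : H ≤ K) (h : H.index = K.index) : H = K := by
  apply Subgroup.eq_of_le_of_card_ge hle
  have a1 := Subgroup.card_mul_index H
  have a2 := Subgroup.card_mul_index K
  have hpos : 0 < K.index := Nat.pos_of_ne_zero Subgroup.index_ne_zero_of_finite
  rw [h] at a1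
  have : Nat.card H * K.index = Nat.card K * K.index := a1.trans a2.symm
  exact (Nat.eq_of_mul_eq_mul_right hpos this).ge

/-- the index-`p` subgroups above `H` -/
noncomputable def mx (p : ℕ) (H : Subgroup P) : Finset (Subgroup P) :=
  (Set.toFinite {M : Subgroup P | H ≤ M ∧ M.index = p}).toFinset

/-- the intersections of two index-`p` subgroups, above `H` -/
noncomputable def wx (p : ℕ) (H : Subgroup P) : Finset (Subgroup P) :=
  (Set.toFinite {W : Subgroup P | H ≤ W ∧ ∃ M₁ M₂ : Subgroup P, M₁.index = p ∧ M₂.index = p ∧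
    M₁ ≠ M₂ ∧ W = M₁ ⊓ M₂}).toFinset

theorem mem_mx {H M : Subgroup P} : M ∈ mx p H ↔ H ≤ M ∧ M.index = p := by
  rw [mx, Set.Finite.mem_toFinset]; rfl

theorem mem_wx {H W : Subgroup P} : W ∈ wx p H ↔ H ≤ W ∧ ∃ M₁ M₂ : Subgroup P, M₁.index = p ∧
    M₂.index = p ∧ M₁ ≠ M₂ ∧ W = M₁ ⊓ M₂ := by
  rw [wx, Set.Finite.mem_toFinset]; rfl

theorem card_mx (H : Subgroup P) :
    (mx p H).card = Nat.card {M : Subgroup P // H ≤ M ∧ M.index = p} := by
  rw [mx, ← Set.ncard_eq_toFinset_card, ← Nat.card_coe_set_eq]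
  rfl

/-- exactly `p + 1` subgroups of index `p` contain the intersection of two of them -/
theorem card_mx_inf (hP : IsPGroup p P) {M₁ M₂ : Subgroup P} (h1 : M₁.index = p)
    (h2 : M₂.index = p) (hne : M₁ ≠ M₂) : (mx p (M₁ ⊓ M₂)).card = p + 1 := by
  haveI : Fintype P := Fintype.ofFinite P
  have hpp := hp.out
  set W := M₁ ⊓ M₂ with hW
  have hWi : W.index = p ^ 2 := index_inf_eq hP h1 h2 hne
  haveI n1 := normal_of_index_eq hP h1
  haveI n2 := normal_of_index_eq hP h2
  haveI : W.Normal := Subgroup.normal_inf_normal M₁ M₂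
  have hWtop : W ≠ ⊤ := by
    intro h
    rw [h, Subgroup.index_top] at hWi
    have : 1 < p ^ 2 := Nat.one_lt_pow (by norm_num) hpp.one_lt
    omega
  -- congruence
  have hmod : (mx p W).card ≡ 1 [MOD p] := by
    rw [card_mx]; exact card_index_above_modEq_one hP W hWtop
  -- lower bound
  have hM1 : M₁ ∈ mx p W := mem_mx.mpr ⟨inf_le_left, h1⟩
  have hM2 : M₂ ∈ mx p W := mem_mx.mpr ⟨inf_le_right, h2⟩
  have hge : 2 ≤ (mx p W).card := by
    have : ({M₁, M₂} : Finset (Subgroup P)) ⊆ mx p W := by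
      intro x hx
      rw [Finset.mem_insert, Finset.mem_singleton] at hx
      rcases hx with rfl | rfl
      · exact hM1
      · exact hM2
    have h3 := Finset.card_le_card this
    rw [Finset.card_pair hne] at h3
    exact h3
  -- upper bound
  set c := Nat.card W with hc
  have hcpos : 0 < c := Nat.card_pos
  have hPc : Nat.card P = c * p ^ 2 := by
    rw [← Subgroup.card_mul_index W, hWi]
  have hMc : ∀ M ∈ mx p W, Nat.card M = c * p := by
    intro M hM
    rw [mem_mx] at hM
    have := Subgroup.card_mul_index M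
    rw [hM.2, hPc, pow_two, ← mul_assoc] at this
    exact Nat.eq_of_mul_eq_mul_right hpp.pos this
  have hinter : ∀ M ∈ mx p W, ∀ M' ∈ mx p W, M ≠ M' → M ⊓ M' = W := by
    intro M hM M' hM' hne'
    rw [mem_mx] at hM hM'
    symm
    apply eq_of_le_of_index_eq (le_inf hM.1 hM'.1)
    rw [hWi, index_inf_eq hP hM.2 hM'.2 hne']
  let t : Subgroup P → Finset P := fun M => Finset.univ.filter (fun g => g ∈ M ∧ g ∉ W)
  have htcard : ∀ M ∈ mx p W, (t M).card = c * p - c := by
    intro M hM
    have hWM : W ≤ M := (mem_mx.mp hM).1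
    have e1 : (t M) = (Finset.univ.filter (fun g => g ∈ M)) \ (Finset.univ.filter (fun g => g ∈ W)) := by
      ext g
      simp [t]
    rw [e1, Finset.card_sdiff_of_subset]
    · have a1 : (Finset.univ.filter (fun g => g ∈ M)).card = Nat.card M := by
        rw [Nat.card_eq_fintype_card, Fintype.card_subtype]
      have a2 : (Finset.univ.filter (fun g => g ∈ W)).card = Nat.card W := by
        rw [Nat.card_eq_fintype_card, Fintype.card_subtype]
      rw [a1, a2, hMc M hM]
    · intro g hg
      rw [Finset.mem_filter] at hg ⊢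
      exact ⟨hg.1, hWM hg.2⟩
  have hdisj : ∀ M ∈ mx p W, ∀ M' ∈ mx p W, M ≠ M' → Disjoint (t M) (t M') := by
    intro M hM M' hM' hne'
    rw [Finset.disjoint_left]
    intro g hg hg'
    simp only [t, Finset.mem_filter, Finset.mem_univ, true_and] at hg hg'
    apply hg.2
    rw [← hinter M hM M' hM' hne']
    exact ⟨hg.1, hg'.1⟩
  have hunion : ((mx p W).biUnion t).card = (mx p W).card * (c * p - c) := by
    rw [Finset.card_biUnion hdisj, Finset.sum_congr rfl htcard, Finset.sum_const, smul_eq_mul]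
  have hsub : (mx p W).biUnion t ⊆ Finset.univ.filter (fun g => g ∉ W) := by
    intro g hg
    rw [Finset.mem_biUnion] at hg
    obtain ⟨M, -, hgM⟩ := hg
    simp only [t, Finset.mem_filter, Finset.mem_univ, true_and] at hgM ⊢
    exact hgM.2
  have hcompl : (Finset.univ.filter (fun g => g ∉ W)).card = c * p ^ 2 - c := by
    have a2 : (Finset.univ.filter (fun g => g ∈ W)).card = Nat.card W := by
      rw [Nat.card_eq_fintype_card, Fintype.card_subtype]
    have a3 := Finset.card_filter_add_card_filter_not (s := (Finset.univ : Finset P))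
      (fun g => g ∈ W)
    rw [a2, Finset.card_univ, ← Nat.card_eq_fintype_card, hPc] at a3
    omega
  have hle := Finset.card_le_card hsub
  rw [hunion, hcompl] at hle
  -- `k (p-1) c ≤ (p²-1) c`
  have hle2 : (mx p W).card ≤ p + 1 := by
    have hp2 : 2 ≤ p := hpp.two_le
    obtain ⟨q, rfl⟩ : ∃ q, p = q + 1 := ⟨p - 1, by omega⟩
    have e1 : c * (q + 1) - c = c * q := by
      rw [mul_add, mul_one]; omega
    have e2 : c * (q + 1) ^ 2 - c = (c * q) * (q + 2) := by
      have : c * (q + 1) ^ 2 = c * q * (q + 2) + c := by ring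
      rw [this]; omega
    rw [e1, e2] at hle
    have hcq : 0 < c * q := Nat.mul_pos hcpos (by omega)
    rw [mul_comm] at hle
    exact Nat.le_of_mul_le_mul_left hle hcq
  -- combine
  have h5 : (mx p W).card % p = 1 := by
    have := hmod
    rw [Nat.ModEq, Nat.mod_eq_of_lt hpp.one_lt] at this
    exact this
  rcases Nat.lt_or_ge (mx p W).card (p + 1) with hlt | hge'
  · exfalso
    rcases Nat.lt_or_ge (mx p W).card p with hlt' | hge''
    · rw [Nat.mod_eq_of_lt hlt'] at h5
      omega
    · have : (mx p W).card = p := by omega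
      rw [this, Nat.mod_self] at h5
      omega
  · omega

end

section

open Classical

variable {P : Type*} [Group P] [Finite P] {p : ℕ} [hp : Fact p.Prime]

theorem incidence_line (hP : IsPGroup p P) (H : Subgroup P) :
    ∀ W ∈ wx p H, ((mx p H).filter (fun M => W ≤ M)).card = p + 1 := by
  intro W hW
  rw [mem_wx] at hW
  obtain ⟨hHW, M₁, M₂, h1, h2, hne, rfl⟩ := hW
  have : (mx p H).filter (fun M => M₁ ⊓ M₂ ≤ M) = mx p (M₁ ⊓ M₂) := by
    ext M
    rw [Finset.mem_filter, mem_mx, mem_mx]
    constructor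
    · rintro ⟨⟨-, hi⟩, hle⟩
      exact ⟨hle, hi⟩
    · rintro ⟨hle, hi⟩
      exact ⟨⟨hHW.trans hle, hi⟩, hle⟩
  rw [this]
  exact card_mx_inf hP h1 h2 hne

theorem incidence_point (hP : IsPGroup p P) (H : Subgroup P) :
    ∀ M ∈ mx p H, ∀ M' ∈ mx p H, M ≠ M' → ∃! W, W ∈ wx p H ∧ W ≤ M ∧ W ≤ M' := by
  intro M hM M' hM' hne
  rw [mem_mx] at hM hM'
  refine ⟨M ⊓ M', ⟨mem_wx.mpr ⟨le_inf hM.1 hM'.1, M, M', hM.2, hM'.2, hne, rfl⟩,
    inf_le_left, inf_le_right⟩, ?_⟩
  rintro W' ⟨hW', hl, hr⟩
  rw [mem_wx] at hW'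
  obtain ⟨-, M₁, M₂, h1, h2, hne', rfl⟩ := hW'
  apply eq_of_le_of_index_eq (le_inf hl hr)
  rw [index_inf_eq hP h1 h2 hne', index_inf_eq hP hM.2 hM'.2 hne]

/-- Hall's enumeration principle modulo `p²`, pointwise form -/
theorem enum_modEq (hP : IsPGroup p P) (H : Subgroup P) (hne : (mx p H).Nonempty) :
    (mx p H).card ≡ 1 + p * (wx p H).card [MOD p ^ 2] :=
  linear_space_count (mx p H) (wx p H) (fun W M => W ≤ M) p hp.out.pos
    (incidence_line hP H) (incidence_point hP H) hne

theorem card_mx_eq (hP : IsPGroup p P) (H : Subgroup P) {M₀ : Subgroup P} (hM₀ : M₀ ∈ mx p H) :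
    (mx p H).card = 1 + p * ((wx p H).filter (fun W => W ≤ M₀)).card :=
  linear_space_point (mx p H) (wx p H) (fun W M => W ≤ M) p
    (incidence_line hP H) (incidence_point hP H) M₀ hM₀

/-- every proper subgroup of a `p`-group lies in a subgroup of index `p` -/
theorem exists_index_p_ge (hP : IsPGroup p P) {H : Subgroup P} (hH : H ≠ ⊤) :
    ∃ M : Subgroup P, H ≤ M ∧ M.index = p := by
  obtain ⟨n, hn⟩ := IsPGroup.iff_card.mp hP
  obtain ⟨k, hk⟩ := IsPGroup.iff_card.mp (hP.to_subgroup H)
  have hkn : k < n := by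
    have h1 : Nat.card H ∣ Nat.card P := Subgroup.card_subgroup_dvd_card H
    rw [hn, hk] at h1
    have h2 : k ≤ n := (Nat.pow_dvd_pow_iff_le_right hp.out.one_lt).mp h1
    rcases Nat.lt_or_ge k n with h | h
    · exact h
    · exfalso
      have : k = n := le_antisymm h2 h
      apply hH
      apply Subgroup.eq_top_of_card_eq
      rw [hk, hn, this]
  obtain ⟨m, rfl⟩ : ∃ m, n = m + 1 := ⟨n - 1, by omega⟩
  obtain ⟨K, hK, hHK⟩ := Sylow.exists_subgroup_card_pow_prime_le p
    (show p ^ m ∣ Nat.card P by rw [hn]; exact pow_dvd_pow p (Nat.le_succ m)) H hk (by omega)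
  refine ⟨K, hHK, ?_⟩
  have := Subgroup.card_mul_index K
  rw [hK, hn, pow_succ] at this
  exact Nat.eq_of_mul_eq_mul_left (pow_pos hp.out.pos m) this

theorem mx_nonempty (hP : IsPGroup p P) {H : Subgroup P} (hH : H ≠ ⊤) : (mx p H).Nonempty := by
  obtain ⟨M, h1, h2⟩ := exists_index_p_ge hP hH
  exact ⟨M, mem_mx.mpr ⟨h1, h2⟩⟩

end

section

open Classical

universe u

/-- a central subgroup of order `p` in a nontrivial `p`-group -/
theorem exists_central_order_p {P : Type u} [Group P] [Finite P] {p : ℕ} [hp : Fact p.Prime]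
    (hP : IsPGroup p P) [Nontrivial P] :
    ∃ z : P, z ∈ Subgroup.center P ∧ orderOf z = p := by
  haveI := hP.center_nontrivial
  obtain ⟨k, hk⟩ := IsPGroup.iff_card.mp (hP.to_subgroup (Subgroup.center P))
  have hk0 : k ≠ 0 := by
    rintro rfl
    rw [pow_zero] at hk
    have := (Nat.card_eq_one_iff_unique.mp hk).1
    exact not_subsingleton _ this
  have hdvd : p ∣ Nat.card (Subgroup.center P) := by
    rw [hk]; exact dvd_pow_self p hk0
  obtain ⟨x, hx⟩ := exists_prime_orderOf_dvd_card' p hdvd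
  refine ⟨x.1, x.2, ?_⟩
  rw [← hx]
  exact Subgroup.orderOf_coe x

theorem zpowers_normal_of_mem_center {P : Type u} [Group P] {z : P} (hz : z ∈ Subgroup.center P) :
    (Subgroup.zpowers z).Normal := by
  constructor
  intro n hn g
  have hn' : n ∈ Subgroup.center P := by
    obtain ⟨k, rfl⟩ := Subgroup.mem_zpowers_iff.mp hn
    exact Subgroup.zpow_mem _ hz k
  have : g * n * g⁻¹ = n := by
    have := Subgroup.mem_center_iff.mp hn' g
    rw [this, mul_inv_cancel_right]
  rw [this]; exact hn

theorem card_max_modEq {p : ℕ} [hp : Fact p.Prime] : ∀ (n : ℕ) (P : Type u) [Group P] [Finite P],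
    Nat.card P = n → IsPGroup p P → ¬ IsCyclic P →
    (mx p (⊥ : Subgroup P)).card ≡ 1 + p [MOD p ^ 2] := by
  intro n
  induction n using Nat.strong_induction_on with
  | _ n ih =>
  intro P _ _ hn hP hnc
  have hpp := hp.out
  haveI : Nontrivial P := by
    by_contra h
    rw [not_nontrivial_iff_subsingleton] at h
    exact hnc (isCyclic_of_subsingleton)
  obtain ⟨z, hzc, hzo⟩ := exists_central_order_p hP
  set Z := Subgroup.zpowers z with hZ
  haveI hZn : Z.Normal := zpowers_normal_of_mem_center hzc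
  have hZcard : Nat.card Z = p := by rw [hZ, Nat.card_zpowers, hzo]
  have hZtop : Z ≠ ⊤ := by
    intro h
    apply hnc
    refine ⟨⟨z, fun x => ?_⟩⟩
    have : x ∈ Z := by rw [h]; trivial
    exact this
  by_cases hA : ∀ M : Subgroup P, M.index = p → Z ≤ M
  · -- all maximal subgroups contain `Z`: pass to the quotient
    have e1 : (mx p (⊥ : Subgroup P)).card = (mx p (⊥ : Subgroup (P ⧸ Z))).card := by
      rw [card_mx, card_mx]
      have e2 : Nat.card {M : Subgroup P // ⊥ ≤ M ∧ M.index = p} =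
          Nat.card {M : Subgroup P // Z ≤ M ∧ M.index = p} := by
        apply Nat.card_congr
        apply Equiv.subtypeEquivRight
        intro M
        exact ⟨fun h => ⟨hA M h.2, h.2⟩, fun h => ⟨bot_le, h.2⟩⟩
      have e3 : Nat.card {K : Subgroup (P ⧸ Z) // ⊥ ≤ K ∧ K.index = p} =
          Nat.card {K : Subgroup (P ⧸ Z) // K.index = p} := by
        apply Nat.card_congr
        apply Equiv.subtypeEquivRight
        intro M
        exact ⟨fun h => h.2, fun h => ⟨bot_le, h⟩⟩
      rw [e2, e3, card_index_above]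
    rw [e1]
    have hcardQ : Nat.card (P ⧸ Z) < n := by
      have h1 : Nat.card (P ⧸ Z) * Nat.card Z = Nat.card P := by
        rw [← Subgroup.index_eq_card, mul_comm, Subgroup.card_mul_index]
      rw [hZcard, hn] at h1
      have : 0 < Nat.card (P ⧸ Z) := Nat.card_pos
      have h2 : 2 ≤ p := hpp.two_le
      nlinarith
    apply ih (Nat.card (P ⧸ Z)) hcardQ (P ⧸ Z) rfl (hP.to_quotient Z)
    intro hcyc
    obtain ⟨gq, hgq⟩ := hcyc.exists_generator
    obtain ⟨g, rfl⟩ := QuotientGroup.mk_surjective gq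
    have hsup : Subgroup.zpowers g ⊔ Z = ⊤ := by
      rw [eq_top_iff]
      intro x _
      obtain ⟨k, hk⟩ := Subgroup.mem_zpowers_iff.mp (hgq (x : P ⧸ Z))
      have h3 : (g ^ k)⁻¹ * x ∈ Z := by
        rw [← QuotientGroup.eq, QuotientGroup.mk_zpow]
        exact hk
      have : x = g ^ k * ((g ^ k)⁻¹ * x) := by group
      rw [this]
      exact Subgroup.mul_mem _ ((le_sup_left : Subgroup.zpowers g ≤ _)
        (Subgroup.zpow_mem _ (Subgroup.mem_zpowers g) k)) ((le_sup_right : Z ≤ _) h3)
    by_cases hgtop : Subgroup.zpowers g = ⊤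
    · apply hnc
      refine ⟨⟨g, fun x => ?_⟩⟩
      have : x ∈ Subgroup.zpowers g := by rw [hgtop]; trivial
      exact this
    · obtain ⟨M, hgM, hMi⟩ := exists_index_p_ge hP hgtop
      have : (⊤ : Subgroup P) ≤ M := by
        rw [← hsup]
        exact sup_le hgM (hA M hMi)
      rw [top_le_iff] at this
      rw [this, Subgroup.index_top] at hMi
      exact hpp.one_lt.ne hMi
  · -- some maximal subgroup misses `Z`
    push Not at hA
    obtain ⟨M₁, hM₁i, hZM₁⟩ := hA
    have hM₁ : M₁ ∈ mx p (⊥ : Subgroup P) := mem_mx.mpr ⟨bot_le, hM₁i⟩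
    have h1 := card_mx_eq hP ⊥ hM₁
    have hbij : ((wx p (⊥ : Subgroup P)).filter (fun W => W ≤ M₁)).card = (mx p Z).card := by
      symm
      apply Finset.card_bij (fun M' _ => M' ⊓ M₁)
      · intro M' hM'
        rw [mem_mx] at hM'
        have hne : M' ≠ M₁ := by
          rintro rfl
          exact hZM₁ hM'.1
        rw [Finset.mem_filter, mem_wx]
        exact ⟨⟨bot_le, M', M₁, hM'.2, hM₁i, hne, rfl⟩, inf_le_right⟩
      · intro M' hM' M'' hM'' heq
        rw [mem_mx] at hM' hM''
        by_contra hne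
        have hne1 : M' ≠ M₁ := by
          rintro rfl
          exact hZM₁ hM'.1
        have h5 : M' ⊓ M₁ = M' ⊓ M'' := by
          apply eq_of_le_of_index_eq
          · apply le_inf inf_le_left
            rw [heq]; exact inf_le_left
          · rw [index_inf_eq hP hM'.2 hM₁i hne1, index_inf_eq hP hM'.2 hM''.2 hne]
        apply hZM₁
        have : Z ≤ M' ⊓ M₁ := by
          rw [h5]; exact le_inf hM'.1 hM''.1
        exact this.trans inf_le_right
      · intro W hW
        rw [Finset.mem_filter, mem_wx] at hW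
        obtain ⟨⟨-, Ma, Mb, ha, hb, hab, rfl⟩, hWM₁⟩ := hW
        set W := Ma ⊓ Mb with hWdef
        have hWi : W.index = p ^ 2 := index_inf_eq hP ha hb hab
        haveI := normal_of_index_eq hP ha
        haveI := normal_of_index_eq hP hb
        haveI hWn : W.Normal := Subgroup.normal_inf_normal Ma Mb
        have hWZ : W ⊓ Z = ⊥ := by
          have hd : Nat.card ↥(W ⊓ Z) ∣ p := hZcard ▸ Subgroup.card_dvd_of_le inf_le_right
          rcases (Nat.dvd_prime hpp).mp hd with h | h
          · exact Subgroup.card_eq_one.mp h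
          · exfalso
            have : W ⊓ Z = Z := by
              apply Subgroup.eq_of_le_of_card_ge inf_le_right
              rw [h, hZcard]
            apply hZM₁
            rw [← this]
            exact inf_le_left.trans hWM₁
        have hrel : W.relIndex (W ⊔ Z) = p := by
          rw [Subgroup.relIndex_sup_left, ← Subgroup.inf_relIndex_right, hWZ,
            Subgroup.relIndex_bot_left, hZcard]
        have hidx : (W ⊔ Z).index = p := by
          have := Subgroup.relIndex_mul_index (le_sup_left : W ≤ W ⊔ Z)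
          rw [hrel, hWi, pow_two] at this
          exact Nat.eq_of_mul_eq_mul_left hpp.pos this
        have hne1 : W ⊔ Z ≠ M₁ := by
          intro h
          apply hZM₁
          rw [← h]; exact le_sup_right
        refine ⟨W ⊔ Z, mem_mx.mpr ⟨le_sup_right, hidx⟩, ?_⟩
        symm
        apply eq_of_le_of_index_eq (le_inf le_sup_left hWM₁)
        rw [hWi, index_inf_eq hP hidx hM₁i hne1]
    rw [h1, hbij]
    have h2 : (mx p Z).card ≡ 1 [MOD p] := by
      rw [card_mx]; exact card_index_above_modEq_one hP Z hZtop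
    have h3 : p * (mx p Z).card ≡ p * 1 [MOD p * p] := Nat.ModEq.mul_left' p h2
    rw [pow_two]
    simpa using Nat.ModEq.add_left 1 h3

end

section

open Classical

/-- number theory: `r ^ p ≡ 1 mod p^(k+1)`, `p` odd, implies `r ≡ 1 mod p^k` -/
theorem dvd_sub_one_of_pow {p : ℕ} [hp : Fact p.Prime] (hp2 : p ≠ 2) {k r : ℕ}
    (h : r ^ p ≡ 1 [MOD p ^ (k + 1)]) : ∃ t : ℕ, r = 1 + p ^ k * t := by
  have hpp := hp.out
  have hodd : Odd p := hpp.odd_of_ne_two hp2
  have hr0 : r ≠ 0 := by
    rintro rfl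
    rw [zero_pow hpp.ne_zero] at h
    have h1 : p ^ (k + 1) ∣ 1 := (Nat.modEq_zero_iff_dvd.mp h.symm)
    have h2 : 1 < p ^ (k + 1) := Nat.one_lt_pow (by omega) hpp.one_lt
    exact absurd (Nat.le_of_dvd one_pos h1) (by omega)
  have hrp1 : 1 ≤ r ^ p := Nat.one_le_pow _ _ (Nat.pos_of_ne_zero hr0)
  have hdvd : p ^ (k + 1) ∣ r ^ p - 1 := (Nat.modEq_iff_dvd' hrp1).mp h.symm
  -- `r ≡ 1 mod p`
  have hmodp : r ≡ 1 [MOD p] := by
    have h1 : r ^ p ≡ 1 [MOD p] := h.of_dvd (dvd_pow_self p (by omega))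
    have h2 : r ^ p ≡ r [MOD p] := by
      rw [← ZMod.natCast_eq_natCast_iff]
      push_cast
      exact ZMod.pow_card _
    exact h2.symm.trans h1
  rcases Nat.lt_or_ge 1 r with hr1 | hr1
  · have hpr : p ∣ r - 1 := (Nat.modEq_iff_dvd' hr1.le).mp hmodp.symm
    have hnpr : ¬ p ∣ r := by
      intro hd
      have : p ∣ 1 := by
        have := Nat.dvd_sub hd hpr
        have e : r - (r - 1) = 1 := by omega
        rwa [e] at this
      exact hpp.one_lt.ne' (Nat.dvd_one.mp this)
    have hlte := padicValNat.pow_sub_pow (p := p) hodd hr1 hpr hnpr (n := p) hpp.ne_zero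
    rw [one_pow, padicValNat_self] at hlte
    have hne : r ^ p - 1 ≠ 0 := by
      have : 1 < r ^ p := Nat.one_lt_pow hpp.ne_zero hr1
      omega
    have h3 := (padicValNat_dvd_iff_le hne).mp hdvd
    rw [hlte] at h3
    have h4 : k ≤ padicValNat p (r - 1) := by omega
    have h5 : p ^ k ∣ r - 1 := (padicValNat_dvd_iff_le (by omega)).mpr h4
    obtain ⟨t, ht⟩ := h5
    exact ⟨t, by omega⟩
  · exact ⟨0, by omega⟩

variable {P : Type*} [Group P] [Finite P] {p : ℕ} [hp : Fact p.Prime]

theorem index_zpowers_eq {k : ℕ} (hcard : Nat.card P = p ^ (k + 2)) {x : P}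
    (hx : orderOf x = p ^ (k + 1)) : (Subgroup.zpowers x).index = p := by
  have := Subgroup.card_mul_index (Subgroup.zpowers x)
  rw [Nat.card_zpowers, hx, hcard, pow_succ p (k + 1)] at this
  exact Nat.eq_of_mul_eq_mul_left (pow_pos hp.out.pos _) this

/-- conjugates of the generator of a cyclic maximal subgroup -/
theorem conj_generator (hp2 : p ≠ 2) {k : ℕ} (hcard : Nat.card P = p ^ (k + 2)) {x : P}
    (hx : orderOf x = p ^ (k + 1)) (y : P) :
    ∃ t : ℕ, y * x * y⁻¹ = x * (x ^ (p ^ k)) ^ t := by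
  have hP : IsPGroup p P := IsPGroup.of_card hcard
  have hidx := index_zpowers_eq hcard hx
  haveI hn : (Subgroup.zpowers x).Normal := normal_of_index_eq hP hidx
  have h1 : y * x * y⁻¹ ∈ Subgroup.zpowers x := hn.conj_mem x (Subgroup.mem_zpowers x) y
  have h2 : y * x * y⁻¹ ∈ Submonoid.powers x :=
    mem_powers_iff_mem_zpowers.mpr h1
  obtain ⟨r, hr⟩ := (Submonoid.mem_powers_iff _ _).mp h2
  -- iterate
  have hiter : ∀ j : ℕ, y ^ j * x * (y ^ j)⁻¹ = x ^ (r ^ j) := by
    intro j
    induction j with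
    | zero => simp
    | succ j ih =>
      have e1 : y ^ (j + 1) * x * (y ^ (j + 1))⁻¹ = y * (y ^ j * x * (y ^ j)⁻¹) * y⁻¹ := by
        rw [pow_succ']; group
      rw [e1, ih]
      have e2 : y * x ^ (r ^ j) * y⁻¹ = (y * x * y⁻¹) ^ (r ^ j) := by
        rw [conj_pow]
      rw [e2, ← hr, ← pow_mul, pow_succ']
  have hyp : y ^ p ∈ Subgroup.zpowers x := by
    have := Subgroup.pow_index_mem (Subgroup.zpowers x) y
    rwa [hidx] at this
  have hcomm : y ^ p * x * (y ^ p)⁻¹ = x := by
    obtain ⟨j, hj⟩ := Subgroup.mem_zpowers_iff.mp hyp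
    rw [← hj]
    have : x ^ j * x = x * x ^ j := by
      rw [← zpow_add_one, ← zpow_one_add, add_comm]
    rw [this, mul_inv_cancel_right]
  have h3 := hiter p
  rw [hcomm] at h3
  have h4 : x ^ (r ^ p) = x ^ 1 := by rw [← h3, pow_one]
  have h5 : r ^ p ≡ 1 [MOD p ^ (k + 1)] := by
    rw [← hx]
    exact pow_eq_pow_iff_modEq.mp h4
  obtain ⟨t, ht⟩ := dvd_sub_one_of_pow hp2 h5
  refine ⟨t, ?_⟩
  rw [← hr, ht, pow_add, pow_one, pow_mul]

end

section

open Classical

variable {P : Type*} [Group P] [Finite P] {p : ℕ} [hp : Fact p.Prime]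

theorem z1_pow_p {k : ℕ} {x : P} (hx : orderOf x = p ^ (k + 1)) : (x ^ (p ^ k)) ^ p = 1 := by
  rw [← pow_mul, ← pow_succ, ← hx, pow_orderOf_eq_one]

theorem z1_central (hp2 : p ≠ 2) {k : ℕ} (hk : 1 ≤ k) (hcard : Nat.card P = p ^ (k + 2)) {x : P}
    (hx : orderOf x = p ^ (k + 1)) : x ^ (p ^ k) ∈ Subgroup.center P := by
  rw [Subgroup.mem_center_iff]
  intro y
  obtain ⟨t, ht⟩ := conj_generator hp2 hcard hx y
  have h1 : y * x ^ (p ^ k) * y⁻¹ = (y * x * y⁻¹) ^ (p ^ k) := by rw [conj_pow]
  have h2 : (x * (x ^ (p ^ k)) ^ t) ^ (p ^ k) = x ^ (p ^ k) := by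
    have e1 : x * (x ^ (p ^ k)) ^ t = x ^ (1 + p ^ k * t) := by
      rw [pow_add, pow_one, pow_mul]
    rw [e1, ← pow_mul, add_mul, one_mul, pow_add]
    have e2 : x ^ (p ^ k * t * p ^ k) = 1 := by
      have : p ^ k * t * p ^ k = p ^ (k + 1) * (p ^ (k - 1) * t) := by
        obtain ⟨j, rfl⟩ : ∃ j, k = j + 1 := ⟨k - 1, by omega⟩
        simp only [Nat.add_sub_cancel]
        ring
      rw [this, pow_mul, ← hx, pow_orderOf_eq_one, one_pow]
    rw [e2, mul_one]
  rw [ht, h2] at h1
  calc y * x ^ (p ^ k) = (y * x ^ (p ^ k) * y⁻¹) * y := by group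
    _ = x ^ (p ^ k) * y := by rw [h1]

/-- all commutators lie in `⟨x^(p^k)⟩` -/
theorem comm_form (hp2 : p ≠ 2) {k : ℕ} (hk : 1 ≤ k) (hcard : Nat.card P = p ^ (k + 2)) {x : P}
    (hx : orderOf x = p ^ (k + 1)) (hnc : ¬ IsCyclic P) (g h : P) :
    ∃ t : ℕ, h * g = g * h * (x ^ (p ^ k)) ^ t := by
  have hP : IsPGroup p P := IsPGroup.of_card hcard
  have hidx := index_zpowers_eq hcard hx
  set z := x ^ (p ^ k) with hz
  have hzc : z ∈ Subgroup.center P := z1_central hp2 hk hcard hx
  haveI hZn : (Subgroup.zpowers z).Normal := zpowers_normal_of_mem_center hzc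
  -- an element outside `⟨x⟩`
  have hxtop : Subgroup.zpowers x ≠ ⊤ := by
    intro h
    apply hnc
    refine ⟨⟨x, fun g => ?_⟩⟩
    have : g ∈ Subgroup.zpowers x := by rw [h]; trivial
    exact this
  obtain ⟨y₀, hy₀⟩ : ∃ y₀ : P, y₀ ∉ Subgroup.zpowers x := by
    by_contra hcon
    push Not at hcon
    exact hxtop (eq_top_iff.mpr fun g _ => hcon g)
  have hcl : Subgroup.closure ({x, y₀} : Set P) = ⊤ := by
    have hle : Subgroup.zpowers x ≤ Subgroup.closure ({x, y₀} : Set P) := by
      rw [Subgroup.zpowers_le]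
      exact Subgroup.subset_closure (by simp)
    rw [← Subgroup.index_eq_one]
    have hd : (Subgroup.closure ({x, y₀} : Set P)).index ∣ p := hidx ▸ Subgroup.index_dvd_of_le hle
    rcases (Nat.dvd_prime hp.out).mp hd with h | h
    · exact h
    · exfalso
      have := eq_of_le_of_index_eq hle (hidx.trans h.symm)
      apply hy₀
      rw [this]
      exact Subgroup.subset_closure (by simp)
  -- the quotient is commutative
  set π := QuotientGroup.mk' (Subgroup.zpowers z) with hπ
  have hxy : π x * π y₀ = π y₀ * π x := by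
    obtain ⟨t, ht⟩ := conj_generator hp2 hcard hx y₀
    have h1 : π (y₀ * x * y₀⁻¹) = π x := by
      rw [ht, map_mul]
      have : π ((x ^ (p ^ k)) ^ t) = 1 := by
        rw [hπ, QuotientGroup.mk'_apply, QuotientGroup.eq_one_iff]
        exact Subgroup.pow_mem _ (Subgroup.mem_zpowers z) t
      rw [this, mul_one]
    rw [map_mul, map_mul, map_inv] at h1
    calc π x * π y₀ = (π y₀ * π x * (π y₀)⁻¹) * π y₀ := by rw [h1]
      _ = π y₀ * π x := by group
  have hcenter : Subgroup.center (P ⧸ Subgroup.zpowers z) = ⊤ := by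
    have hmap : Subgroup.closure ({π x, π y₀} : Set (P ⧸ Subgroup.zpowers z)) = ⊤ := by
      have := congrArg (Subgroup.map π) hcl
      rw [MonoidHom.map_closure, Subgroup.map_top_of_surjective π
        (QuotientGroup.mk'_surjective _)] at this
      rw [← this]
      congr 1
      ext a
      simp [eq_comm]
    rw [eq_top_iff, ← hmap, Subgroup.closure_le]
    intro a ha
    rw [Set.mem_insert_iff, Set.mem_singleton_iff] at ha
    -- `a` commutes with both generators hence with everything
    have hcent : ∀ b ∈ ({π x, π y₀} : Set (P ⧸ Subgroup.zpowers z)), b * a = a * b := by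
      intro b hb
      rw [Set.mem_insert_iff, Set.mem_singleton_iff] at hb
      rcases ha with rfl | rfl <;> rcases hb with rfl | rfl
      · rfl
      · exact hxy.symm
      · exact hxy
      · rfl
    show a ∈ Subgroup.center _
    rw [Subgroup.mem_center_iff]
    intro b
    have hb : b ∈ Subgroup.closure ({π x, π y₀} : Set (P ⧸ Subgroup.zpowers z)) := by
      rw [hmap]; trivial
    refine Subgroup.closure_induction (p := fun b _ => b * a = a * b) ?_ ?_ ?_ ?_ hb
    · intro c hc
      exact hcent c hc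
    · simp
    · intro c d _ _ hc hd
      rw [mul_assoc, hd, ← mul_assoc, hc, mul_assoc]
    · intro c _ hc
      calc c⁻¹ * a = c⁻¹ * (a * c) * c⁻¹ := by group
        _ = c⁻¹ * (c * a) * c⁻¹ := by rw [hc]
        _ = a * c⁻¹ := by group
  have hcomm : π (h * g) = π (g * h) := by
    rw [map_mul, map_mul]
    have : π h ∈ Subgroup.center (P ⧸ Subgroup.zpowers z) := by rw [hcenter]; trivial
    exact (Subgroup.mem_center_iff.mp this (π g)).symm
  have hmem : (g * h)⁻¹ * (h * g) ∈ Subgroup.zpowers z := by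
    rw [← QuotientGroup.eq]
    exact hcomm.symm
  have hmem' : (g * h)⁻¹ * (h * g) ∈ Submonoid.powers z := mem_powers_iff_mem_zpowers.mpr hmem
  obtain ⟨t, ht⟩ := (Submonoid.mem_powers_iff _ _).mp hmem'
  refine ⟨t, ?_⟩
  rw [ht]; group

end

section

open Classical

variable {P : Type*} [Group P] [Finite P] {p : ℕ} [hp : Fact p.Prime]

theorem pow_mul_comm_central {g h c : P} (hc : ∀ u : P, c * u = u * c) (hgh : h * g = g * h * c)
    (k : ℕ) : h ^ k * g = g * h ^ k * c ^ k := by
  induction k with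
  | zero => simp
  | succ k ih =>
    calc h ^ (k + 1) * g = h * (h ^ k * g) := by rw [pow_succ']; group
      _ = h * (g * h ^ k * c ^ k) := by rw [ih]
      _ = (h * g) * h ^ k * c ^ k := by group
      _ = g * h * c * h ^ k * c ^ k := by rw [hgh]
      _ = g * h * (c * h ^ k) * c ^ k := by group
      _ = g * h * (h ^ k * c) * c ^ k := by rw [hc]
      _ = g * (h * h ^ k) * (c * c ^ k) := by group
      _ = g * h ^ (k + 1) * c ^ (k + 1) := by rw [← pow_succ', ← pow_succ']

theorem mul_pow_central {g h c : P} (hc : ∀ u : P, c * u = u * c) (hgh : h * g = g * h * c)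
    (k : ℕ) : ∃ T : ℕ, 2 * T = k * (k - 1) ∧ (g * h) ^ k = g ^ k * h ^ k * c ^ T := by
  induction k with
  | zero => exact ⟨0, by simp, by simp⟩
  | succ k ih =>
    obtain ⟨T, hT, hpow⟩ := ih
    refine ⟨T + k, ?_, ?_⟩
    · rcases k with _ | k
      · simpa using hT
      · simp only [Nat.add_sub_cancel] at hT ⊢
        nlinarith
    · have hcT : ∀ (j : ℕ) (u : P), c ^ j * u = u * c ^ j := by
        intro j u
        induction j with
        | zero => simp
        | succ j ihj =>
          rw [pow_succ, mul_assoc, hc, ← mul_assoc, ihj, mul_assoc]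
      calc (g * h) ^ (k + 1) = (g * h) ^ k * (g * h) := pow_succ _ _
        _ = g ^ k * h ^ k * c ^ T * (g * h) := by rw [hpow]
        _ = g ^ k * h ^ k * ((g * h) * c ^ T) := by rw [mul_assoc (g ^ k * h ^ k), hcT]
        _ = g ^ k * (h ^ k * g) * h * c ^ T := by group
        _ = g ^ k * (g * h ^ k * c ^ k) * h * c ^ T := by rw [pow_mul_comm_central hc hgh]
        _ = g ^ k * g * h ^ k * (c ^ k * h) * c ^ T := by group
        _ = g ^ k * g * h ^ k * (h * c ^ k) * c ^ T := by rw [hcT]
        _ = (g ^ k * g) * (h ^ k * h) * (c ^ k * c ^ T) := by group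
        _ = g ^ (k + 1) * h ^ (k + 1) * c ^ (T + k) := by
          rw [← pow_succ, ← pow_succ, ← pow_add, add_comm k T]

/-- the `p`-power map is an endomorphism -/
theorem mul_pow_p (hp2 : p ≠ 2) {k : ℕ} (hk : 1 ≤ k) (hcard : Nat.card P = p ^ (k + 2)) {x : P}
    (hx : orderOf x = p ^ (k + 1)) (hnc : ¬ IsCyclic P) (g h : P) :
    (g * h) ^ p = g ^ p * h ^ p := by
  obtain ⟨t, ht⟩ := comm_form hp2 hk hcard hx hnc g h
  set c := (x ^ (p ^ k)) ^ t with hc
  have hzc : x ^ (p ^ k) ∈ Subgroup.center P := z1_central hp2 hk hcard hx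
  have hcc : ∀ u : P, c * u = u * c := by
    intro u
    have : c ∈ Subgroup.center P := Subgroup.pow_mem _ hzc t
    exact (Subgroup.mem_center_iff.mp this u).symm
  have hcp : c ^ p = 1 := by
    rw [hc, ← pow_mul, mul_comm, pow_mul, z1_pow_p hx, one_pow]
  obtain ⟨T, hT, hpow⟩ := mul_pow_central hcc ht p
  have hpT : p ∣ T := by
    have h1 : p ∣ 2 * T := by rw [hT]; exact dvd_mul_right _ _
    have hcop : Nat.Coprime p 2 := by
      rw [Nat.coprime_primes hp.out Nat.prime_two]; exact hp2
    exact hcop.dvd_of_dvd_mul_left h1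
  obtain ⟨s, rfl⟩ := hpT
  rw [hpow, pow_mul, hcp, one_pow, mul_one]

/-- the `p`-power endomorphism -/
noncomputable def powHom (hp2 : p ≠ 2) {k : ℕ} (hk : 1 ≤ k) (hcard : Nat.card P = p ^ (k + 2))
    {x : P} (hx : orderOf x = p ^ (k + 1)) (hnc : ¬ IsCyclic P) : P →* P where
  toFun g := g ^ p
  map_one' := one_pow p
  map_mul' := mul_pow_p hp2 hk hcard hx hnc

theorem powHom_apply (hp2 : p ≠ 2) {k : ℕ} (hk : 1 ≤ k) (hcard : Nat.card P = p ^ (k + 2))
    {x : P} (hx : orderOf x = p ^ (k + 1)) (hnc : ¬ IsCyclic P) (g : P) :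
    powHom hp2 hk hcard hx hnc g = g ^ p := rfl

theorem card_range_powHom (hp2 : p ≠ 2) {k : ℕ} (hk : 1 ≤ k) (hcard : Nat.card P = p ^ (k + 2))
    {x : P} (hx : orderOf x = p ^ (k + 1)) (hnc : ¬ IsCyclic P) :
    Nat.card (powHom hp2 hk hcard hx hnc).range = p ^ k := by
  have hpp := hp.out
  have hP : IsPGroup p P := IsPGroup.of_card hcard
  have hidx := index_zpowers_eq hcard hx
  haveI hn : (Subgroup.zpowers x).Normal := normal_of_index_eq hP hidx
  set R := (powHom hp2 hk hcard hx hnc).range with hR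
  have hRle : R ≤ Subgroup.zpowers x := by
    rintro _ ⟨g, rfl⟩
    rw [powHom_apply]
    have := Subgroup.pow_index_mem (Subgroup.zpowers x) g
    rwa [hidx] at this
  have hge : Subgroup.zpowers (x ^ p) ≤ R := by
    rw [Subgroup.zpowers_le]
    exact ⟨x, rfl⟩
  have hcz : Nat.card (Subgroup.zpowers (x ^ p)) = p ^ k := by
    rw [Nat.card_zpowers, orderOf_pow_of_dvd hpp.ne_zero (by rw [hx]; exact dvd_pow_self p (by omega)),
      hx, pow_succ, Nat.mul_div_cancel _ hpp.pos]
  have hd1 : p ^ k ∣ Nat.card R := hcz ▸ Subgroup.card_dvd_of_le hge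
  have hd2 : Nat.card R ∣ p ^ (k + 1) := by
    have := Subgroup.card_dvd_of_le hRle
    rwa [Nat.card_zpowers, hx] at this
  obtain ⟨j, hj, hRj⟩ := (Nat.dvd_prime_pow hpp).mp hd2
  rw [hRj] at hd1 ⊢
  have hkj : k ≤ j := (Nat.pow_dvd_pow_iff_le_right hpp.one_lt).mp hd1
  rcases Nat.lt_or_ge j (k + 1) with hlt | hge'
  · have : j = k := by omega
    rw [this]
  · exfalso
    have hj' : j = k + 1 := le_antisymm hj hge'
    have hReq : R = Subgroup.zpowers x := by
      apply Subgroup.eq_of_le_of_card_ge hRle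
      rw [Nat.card_zpowers, hx, hRj, hj']
    have hxR : x ∈ R := by rw [hReq]; exact Subgroup.mem_zpowers x
    obtain ⟨g, hg⟩ := hxR
    rw [powHom_apply] at hg
    -- `g` has order `p^(k+2)`
    obtain ⟨m, hm⟩ := (hP.to_subgroup (Subgroup.zpowers g)).exists_card_eq
    rw [Nat.card_zpowers] at hm
    have hm0 : m ≠ 0 := by
      rintro rfl
      rw [pow_zero, orderOf_eq_one_iff] at hm
      rw [hm, one_pow] at hg
      rw [← hg, orderOf_one] at hx
      have : 1 < p ^ (k + 1) := Nat.one_lt_pow (by omega) hpp.one_lt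
      omega
    have ho : orderOf (g ^ p) = orderOf g / p :=
      orderOf_pow_of_dvd hpp.ne_zero (by rw [hm]; exact dvd_pow_self p hm0)
    rw [hg, hx, hm] at ho
    obtain ⟨m', rfl⟩ := Nat.exists_eq_succ_of_ne_zero hm0
    rw [pow_succ p m', Nat.mul_div_cancel _ hpp.pos] at ho
    have hm' : k + 1 = m' := Nat.pow_right_injective hpp.two_le ho
    apply hnc
    apply isCyclic_of_orderOf_eq_card g
    rw [hm, hcard, ← hm']

theorem card_ker_powHom (hp2 : p ≠ 2) {k : ℕ} (hk : 1 ≤ k) (hcard : Nat.card P = p ^ (k + 2))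
    {x : P} (hx : orderOf x = p ^ (k + 1)) (hnc : ¬ IsCyclic P) :
    Nat.card (powHom hp2 hk hcard hx hnc).ker = p ^ 2 := by
  have h1 := Subgroup.card_mul_index (powHom hp2 hk hcard hx hnc).ker
  rw [Subgroup.index_ker, card_range_powHom hp2 hk hcard hx hnc, hcard] at h1
  have : p ^ (k + 2) = p ^ 2 * p ^ k := by ring
  rw [this] at h1
  exact Nat.eq_of_mul_eq_mul_right (pow_pos hp.out.pos k) h1

end

section

open Classical

variable {P : Type*} [Group P] [Finite P] {p : ℕ} [hp : Fact p.Prime]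

theorem card_of_index_eq {k : ℕ} (hcard : Nat.card P = p ^ (k + 2)) {M : Subgroup P}
    (hM : M.index = p) : Nat.card M = p ^ (k + 1) := by
  have := Subgroup.card_mul_index M
  rw [hM, hcard, pow_succ p (k + 1)] at this
  exact Nat.eq_of_mul_eq_mul_right hp.out.pos this

theorem cyclic_iff_not_ker_le (hp2 : p ≠ 2) {k : ℕ} (hk : 1 ≤ k)
    (hcard : Nat.card P = p ^ (k + 2)) {x : P} (hx : orderOf x = p ^ (k + 1))
    (hnc : ¬ IsCyclic P) {M : Subgroup P} (hM : M.index = p) :
    IsCyclic M ↔ ¬ (powHom hp2 hk hcard hx hnc).ker ≤ M := by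
  have hpp := hp.out
  have hP : IsPGroup p P := IsPGroup.of_card hcard
  set E := (powHom hp2 hk hcard hx hnc).ker with hE
  have hEcard : Nat.card E = p ^ 2 := card_ker_powHom hp2 hk hcard hx hnc
  have hEmem : ∀ u : P, u ∈ E ↔ u ^ p = 1 := by
    intro u
    rw [hE, MonoidHom.mem_ker, powHom_apply]
  constructor
  · intro hcyc hle
    haveI := hcyc
    haveI : Fintype M := Fintype.ofFinite M
    have h1 := IsCyclic.card_pow_eq_one_le (α := M) (n := p) hpp.pos
    have h2 : Nat.card E ≤ (Finset.univ.filter (fun a : M => a ^ p = 1)).card := by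
      rw [← Fintype.card_subtype, ← Nat.card_eq_fintype_card]
      apply Nat.card_le_card_of_injective
        (fun u : E => (⟨⟨u.1, hle u.2⟩, by
          apply Subtype.ext
          rw [Subgroup.coe_pow, Subgroup.coe_one]
          exact (hEmem u.1).mp u.2⟩ : {a : M // a ^ p = 1}))
      intro u v huv
      apply Subtype.ext
      have := congrArg (fun w : {a : M // a ^ p = 1} => ((w.1 : M) : P)) huv
      exact this
    rw [hEcard] at h2
    have : p ^ 2 ≤ p := h2.trans h1
    have h3 : p < p ^ 2 := by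
      rw [pow_two]
      nlinarith [hpp.two_le]
    omega
  · intro hnle
    obtain ⟨e, heE, heM⟩ : ∃ e, e ∈ E ∧ e ∉ M := by
      by_contra hcon
      push Not at hcon
      exact hnle hcon
    haveI hMn : M.Normal := normal_of_index_eq hP hM
    have hQcard : Nat.card (P ⧸ M) = p := by rw [← Subgroup.index_eq_card, hM]
    have hne1 : (QuotientGroup.mk e : P ⧸ M) ≠ 1 := by
      intro h
      exact heM ((QuotientGroup.eq_one_iff e).mp h)
    have hmem := mem_zpowers_of_prime_card hQcard hne1 (g' := (QuotientGroup.mk x : P ⧸ M))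
    obtain ⟨j, hj⟩ := Subgroup.mem_zpowers_iff.mp hmem
    set g := (e ^ j)⁻¹ * x with hg
    have hgM : g ∈ M := by
      rw [hg, ← QuotientGroup.eq, QuotientGroup.mk_zpow]
      exact hj
    have hgp : g ^ p = x ^ p := by
      have h1 : powHom hp2 hk hcard hx hnc g =
          (powHom hp2 hk hcard hx hnc (e ^ j))⁻¹ * powHom hp2 hk hcard hx hnc x := by
        rw [hg, map_mul, map_inv]
      rw [map_zpow] at h1
      have h2 : powHom hp2 hk hcard hx hnc e = 1 := heE
      rw [h2, one_zpow, inv_one, one_mul, powHom_apply, powHom_apply] at h1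
      exact h1
    -- order of `g`
    have hxp : orderOf (x ^ p) = p ^ k := by
      rw [orderOf_pow_of_dvd hpp.ne_zero (by rw [hx]; exact dvd_pow_self p (by omega)),
        hx, pow_succ, Nat.mul_div_cancel _ hpp.pos]
    obtain ⟨m, hm⟩ := (hP.to_subgroup (Subgroup.zpowers g)).exists_card_eq
    rw [Nat.card_zpowers] at hm
    have hm0 : m ≠ 0 := by
      rintro rfl
      rw [pow_zero, orderOf_eq_one_iff] at hm
      rw [hm, one_pow] at hgp
      rw [← hgp, orderOf_one] at hxp
      have : 1 < p ^ k := Nat.one_lt_pow (by omega) hpp.one_lt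
      omega
    have ho : orderOf (g ^ p) = orderOf g / p :=
      orderOf_pow_of_dvd hpp.ne_zero (by rw [hm]; exact dvd_pow_self p hm0)
    rw [hgp, hxp, hm] at ho
    obtain ⟨m', rfl⟩ := Nat.exists_eq_succ_of_ne_zero hm0
    rw [pow_succ p m', Nat.mul_div_cancel _ hpp.pos] at ho
    have hm' : k = m' := Nat.pow_right_injective hpp.two_le ho
    apply isCyclic_of_orderOf_eq_card (⟨g, hgM⟩ : M)
    rw [Subgroup.orderOf_mk, hm, card_of_index_eq hcard hM, ← hm']

/-- the number of cyclic maximal subgroups of a noncyclic `p`-group of order `≥ p³`,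
`p` odd, is divisible by `p` -/
theorem card_cyclic_max_modEq_zero (hp2 : p ≠ 2) {k : ℕ} (hk : 1 ≤ k)
    (hcard : Nat.card P = p ^ (k + 2)) (hnc : ¬ IsCyclic P) :
    ((mx p (⊥ : Subgroup P)).filter (fun M : Subgroup P => IsCyclic M)).card ≡ 0 [MOD p] := by
  have hpp := hp.out
  have hP : IsPGroup p P := IsPGroup.of_card hcard
  by_cases hex : ∃ M ∈ mx p (⊥ : Subgroup P), IsCyclic M
  · obtain ⟨M, hM, hMc⟩ := hex
    rw [mem_mx] at hM
    haveI := hMc
    obtain ⟨⟨x, hxM⟩, hgen⟩ := IsCyclic.exists_generator (α := M)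
    have hx : orderOf x = p ^ (k + 1) := by
      have := orderOf_eq_card_of_forall_mem_zpowers hgen
      rw [Subgroup.orderOf_mk, card_of_index_eq hcard hM.2] at this
      exact this
    set E := (powHom hp2 hk hcard hx hnc).ker with hE
    have hEcard : Nat.card E = p ^ 2 := card_ker_powHom hp2 hk hcard hx hnc
    have hfilter : (mx p (⊥ : Subgroup P)).filter (fun M : Subgroup P => IsCyclic M) =
        mx p (⊥ : Subgroup P) \ mx p E := by
      ext M'
      rw [Finset.mem_filter, Finset.mem_sdiff, mem_mx, mem_mx]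
      constructor
      · rintro ⟨⟨-, hi⟩, hc⟩
        refine ⟨⟨bot_le, hi⟩, fun h => ?_⟩
        exact (cyclic_iff_not_ker_le hp2 hk hcard hx hnc hi).mp hc h.1
      · rintro ⟨⟨-, hi⟩, hn⟩
        refine ⟨⟨bot_le, hi⟩, ?_⟩
        apply (cyclic_iff_not_ker_le hp2 hk hcard hx hnc hi).mpr
        intro hle
        exact hn ⟨hle, hi⟩
    have hsub : mx p E ⊆ mx p (⊥ : Subgroup P) := by
      intro M' hM'
      rw [mem_mx] at hM' ⊢
      exact ⟨bot_le, hM'.2⟩
    rw [hfilter, Finset.card_sdiff_of_subset hsub]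
    have hbot : (⊥ : Subgroup P) ≠ ⊤ := by
      intro h
      have h1 : Nat.card (⊥ : Subgroup P) = Nat.card P := by rw [h, Subgroup.card_top]
      rw [Subgroup.card_bot, hcard] at h1
      have : 1 < p ^ (k + 2) := Nat.one_lt_pow (by omega) hpp.one_lt
      omega
    have hEtop : E ≠ ⊤ := by
      intro h
      have h1 : Nat.card E = Nat.card P := by rw [h, Subgroup.card_top]
      rw [hEcard, hcard] at h1
      have := Nat.pow_right_injective hpp.two_le h1
      omega
    have m1 : (mx p (⊥ : Subgroup P)).card ≡ 1 [MOD p] := by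
      rw [card_mx]; exact card_index_above_modEq_one hP ⊥ hbot
    have m2 : (mx p E).card ≡ 1 [MOD p] := by
      rw [card_mx]; exact card_index_above_modEq_one hP E hEtop
    have hle : (mx p E).card ≤ (mx p (⊥ : Subgroup P)).card := Finset.card_le_card hsub
    exact (Nat.modEq_iff_dvd' hle).mp (m2.trans m1.symm) |> Nat.modEq_zero_iff_dvd.mpr
  · push Not at hex
    have : (mx p (⊥ : Subgroup P)).filter (fun M : Subgroup P => IsCyclic M) = ∅ := by
      rw [Finset.filter_eq_empty_iff]
      exact hex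
    rw [this, Finset.card_empty]

end

section

open Classical

variable {P : Type*} [Group P] [Finite P] {p : ℕ} [hp : Fact p.Prime]

/-- subgroups of order `p^a` below `M` correspond to subgroups of order `p^a` of `↥M` -/
theorem card_subgroups_le (M : Subgroup P) (a : ℕ) :
    Nat.card {H : Subgroup P // H ≤ M ∧ Nat.card H = p ^ a} =
      Nat.card {K : Subgroup M // Nat.card K = p ^ a} := by
  apply Nat.card_congr
  refine
    { toFun := fun H => ⟨H.1.subgroupOf M, ?_⟩
      invFun := fun K => ⟨K.1.map M.subtype, ?_, ?_⟩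
      left_inv := ?_
      right_inv := ?_ }
  · rw [Nat.card_congr (Subgroup.subgroupOfEquivOfLe H.2.1).toEquiv]
    exact H.2.2
  · exact Subgroup.map_subtype_le K.1
  · rw [Subgroup.card_map_of_injective M.subtype_injective]
    exact K.2
  · intro H
    apply Subtype.ext
    exact Subgroup.map_subgroupOf_eq_of_le H.2.1
  · intro K
    apply Subtype.ext
    show (K.1.map M.subtype).subgroupOf M = K.1
    rw [Subgroup.subgroupOf, Subgroup.comap_map_eq_self_of_injective M.subtype_injective]

/-- a cyclic `p`-group has exactly one subgroup of each possible order -/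
theorem card_subgroups_cyclic {C : Type*} [Group C] [Finite C] [hC : IsCyclic C] {m a : ℕ}
    (hcard : Nat.card C = p ^ m) (ha : a ≤ m) :
    Nat.card {K : Subgroup C // Nat.card K = p ^ a} = 1 := by
  haveI : Fintype C := Fintype.ofFinite C
  have hpos : 0 < p ^ a := pow_pos hp.out.pos a
  obtain ⟨K₀, hK₀⟩ := Sylow.exists_subgroup_card_pow_prime p
    (show p ^ a ∣ Nat.card C by rw [hcard]; exact pow_dvd_pow p ha)
  rw [Nat.card_eq_one_iff_unique]
  refine ⟨⟨fun K₁ K₂ => ?_⟩, ⟨⟨K₀, hK₀⟩⟩⟩
  apply Subtype.ext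
  -- every subgroup of order `p^a` equals the set of solutions of `x^(p^a) = 1`
  have key : ∀ K : Subgroup C, Nat.card K = p ^ a → ∀ x : C, x ∈ K ↔ x ^ (p ^ a) = 1 := by
    intro K hK x
    have hsub : (Finset.univ.filter (fun x : C => x ∈ K)) ⊆
        Finset.univ.filter (fun x : C => x ^ (p ^ a) = 1) := by
      intro y hy
      rw [Finset.mem_filter] at hy ⊢
      refine ⟨hy.1, ?_⟩
      have h0 : (⟨y, hy.2⟩ : K) ^ Nat.card K = 1 := pow_card_eq_one'
      rw [hK] at h0
      have := congrArg Subtype.val h0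
      rwa [Subgroup.coe_pow, Subgroup.coe_one] at this
    have hc1 : (Finset.univ.filter (fun x : C => x ∈ K)).card = p ^ a := by
      rw [← hK, Nat.card_eq_fintype_card, Fintype.card_subtype]
    have hc2 := IsCyclic.card_pow_eq_one_le (α := C) (n := p ^ a) hpos
    have heq := Finset.eq_of_subset_of_card_le hsub (by rw [hc1]; exact hc2)
    constructor
    · intro hx
      have : x ∈ Finset.univ.filter (fun x : C => x ^ (p ^ a) = 1) :=
        hsub (Finset.mem_filter.mpr ⟨Finset.mem_univ _, hx⟩)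
      exact (Finset.mem_filter.mp this).2
    · intro hx
      have : x ∈ Finset.univ.filter (fun x : C => x ∈ K) := by
        rw [heq]; exact Finset.mem_filter.mpr ⟨Finset.mem_univ _, hx⟩
      exact (Finset.mem_filter.mp this).2
  ext x
  rw [key K₁.1 K₁.2, key K₂.1 K₂.2]

/-- the set of subgroups of order `p^a` -/
noncomputable def sx (p a : ℕ) (P : Type*) [Group P] [Finite P] : Finset (Subgroup P) :=
  (Set.toFinite {H : Subgroup P | Nat.card H = p ^ a}).toFinset

theorem mem_sx {a : ℕ} {H : Subgroup P} : H ∈ sx p a P ↔ Nat.card H = p ^ a := by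
  rw [sx, Set.Finite.mem_toFinset]; rfl

theorem card_sx (a : ℕ) : (sx p a P).card = Nat.card {H : Subgroup P // Nat.card H = p ^ a} := by
  rw [sx, ← Set.ncard_eq_toFinset_card, ← Nat.card_coe_set_eq]
  rfl

theorem card_sx_filter_le (a : ℕ) (M : Subgroup P) :
    ((sx p a P).filter (fun H => H ≤ M)).card = Nat.card {K : Subgroup M // Nat.card K = p ^ a} := by
  rw [← card_subgroups_le]
  have : ((sx p a P).filter (fun H => H ≤ M)) =
      (Set.toFinite {H : Subgroup P | H ≤ M ∧ Nat.card H = p ^ a}).toFinset := by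
    ext H
    rw [Finset.mem_filter, mem_sx, Set.Finite.mem_toFinset]
    exact and_comm
  rw [this, ← Set.ncard_eq_toFinset_card, ← Nat.card_coe_set_eq]
  rfl

end

section

open Classical

universe u

/-- **Kulakoff's theorem** for odd `p`: in a noncyclic group of order `p^n` the number of
subgroups of order `p^a`, `1 ≤ a < n`, is `≡ 1 + p mod p²`. -/
theorem kulakoff {p : ℕ} [hp : Fact p.Prime] (hp2 : p ≠ 2) :
    ∀ (n : ℕ) (P : Type u) [Group P] [Finite P], Nat.card P = p ^ n → ¬ IsCyclic P →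
    ∀ a : ℕ, 1 ≤ a → a < n →
      Nat.card {H : Subgroup P // Nat.card H = p ^ a} ≡ 1 + p [MOD p ^ 2] := by
  intro n
  induction n using Nat.strong_induction_on with
  | _ n ih =>
  intro P _ _ hcard hnc a ha1 han
  have hpp := hp.out
  have hP : IsPGroup p P := IsPGroup.of_card hcard
  obtain ⟨k, rfl⟩ : ∃ k, n = k + 2 := ⟨n - 2, by omega⟩
  have hbot : (⊥ : Subgroup P) ≠ ⊤ := by
    intro h
    have h1 : Nat.card (⊥ : Subgroup P) = Nat.card P := by rw [h, Subgroup.card_top]
    rw [Subgroup.card_bot, hcard] at h1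
    have : 1 < p ^ (k + 2) := Nat.one_lt_pow (by omega) hpp.one_lt
    omega
  by_cases hak : a = k + 1
  · -- subgroups of index `p`
    subst hak
    have e1 : Nat.card {H : Subgroup P // Nat.card H = p ^ (k + 1)} =
        (mx p (⊥ : Subgroup P)).card := by
      rw [card_mx]
      apply Nat.card_congr
      apply Equiv.subtypeEquivRight
      intro H
      constructor
      · intro h
        refine ⟨bot_le, ?_⟩
        have := Subgroup.card_mul_index H
        rw [h, hcard, pow_succ p (k + 1)] at this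
        exact Nat.eq_of_mul_eq_mul_left (pow_pos hpp.pos _) this
      · intro h
        exact card_of_index_eq hcard h.2
    rw [e1]
    exact card_max_modEq _ P rfl hP hnc
  · have hak' : a ≤ k := by omega
    have hk1 : 1 ≤ k := by omega
    rw [← card_sx]
    set S := sx p a P with hS
    set A := mx p (⊥ : Subgroup P) with hA
    set B := wx p (⊥ : Subgroup P) with hB
    -- each member of `S` is proper
    have hproper : ∀ H ∈ S, H ≠ ⊤ := by
      intro H hH h
      rw [hS, mem_sx] at hH
      have h1 : Nat.card H = Nat.card P := by rw [h, Subgroup.card_top]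
      rw [hH, hcard] at h1
      have := Nat.pow_right_injective hpp.two_le h1
      omega
    -- (1) enumeration principle summed over `S`
    have h1 : ∑ H ∈ S, (mx p H).card ≡ ∑ H ∈ S, (1 + p * (wx p H).card) [MOD p ^ 2] :=
      Nat.ModEq.sum (fun H hH => enum_modEq hP H (mx_nonempty hP (hproper H hH)))
    -- (2) double counting
    have h2 : ∑ H ∈ S, (mx p H).card = ∑ M ∈ A, (S.filter (fun H => H ≤ M)).card := by
      have := Finset.sum_card_bipartiteAbove_eq_sum_card_bipartiteBelow
        (r := fun (H M : Subgroup P) => H ≤ M) (s := S) (t := A)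
      have e : ∀ H ∈ S, (A.bipartiteAbove (fun (H M : Subgroup P) => H ≤ M) H) = mx p H := by
        intro H _
        ext M
        simp only [Finset.bipartiteAbove, Finset.mem_filter, hA, mem_mx]
        constructor
        · rintro ⟨⟨-, hi⟩, hle⟩
          exact ⟨hle, hi⟩
        · rintro ⟨hle, hi⟩
          exact ⟨⟨bot_le, hi⟩, hle⟩
      rw [Finset.sum_congr rfl (fun H hH => by rw [e H hH])] at this
      exact this
    have h3 : ∑ H ∈ S, (wx p H).card = ∑ W ∈ B, (S.filter (fun H => H ≤ W)).card := by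
      have := Finset.sum_card_bipartiteAbove_eq_sum_card_bipartiteBelow
        (r := fun (H W : Subgroup P) => H ≤ W) (s := S) (t := B)
      have e : ∀ H ∈ S, (B.bipartiteAbove (fun (H W : Subgroup P) => H ≤ W) H) = wx p H := by
        intro H _
        ext W
        simp only [Finset.bipartiteAbove, Finset.mem_filter, hB, mem_wx]
        constructor
        · rintro ⟨⟨-, hi⟩, hle⟩
          exact ⟨hle, hi⟩
        · rintro ⟨hle, hi⟩
          exact ⟨⟨bot_le, hi⟩, hle⟩
      rw [Finset.sum_congr rfl (fun H hH => by rw [e H hH])] at this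
      exact this
    -- (3) the `W`-terms
    have h4 : ∀ W ∈ B, (S.filter (fun H => H ≤ W)).card ≡ 1 [MOD p] := by
      intro W hW
      rw [hB, mem_wx] at hW
      obtain ⟨-, M₁, M₂, hi1, hi2, hne, rfl⟩ := hW
      rw [hS, card_sx_filter_le]
      apply Cfsg.Agent.Lib.Helper4.Wielandt.card_subgroup_modEq_one
      have hWi := index_inf_eq hP hi1 hi2 hne
      have hWc : Nat.card ↥(M₁ ⊓ M₂) = p ^ k := by
        have := Subgroup.card_mul_index (M₁ ⊓ M₂)
        rw [hWi, hcard, pow_add] at this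
        exact Nat.eq_of_mul_eq_mul_right (pow_pos hpp.pos 2) this
      rw [hWc]
      exact pow_dvd_pow p hak'
    have h5 : p * ∑ W ∈ B, (S.filter (fun H => H ≤ W)).card ≡ p * B.card [MOD p ^ 2] := by
      have e1 : ∑ W ∈ B, (S.filter (fun H => H ≤ W)).card ≡ ∑ _W ∈ B, 1 [MOD p] :=
        Nat.ModEq.sum h4
      rw [Finset.sum_const, smul_eq_mul, mul_one] at e1
      rw [pow_two]
      exact Nat.ModEq.mul_left' p e1
    -- (4) the `M`-terms
    have h6 : ∀ M ∈ A, (S.filter (fun H => H ≤ M)).card ≡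
        1 + p * (if IsCyclic M then 0 else 1) [MOD p ^ 2] := by
      intro M hM
      rw [hA, mem_mx] at hM
      have hMc : Nat.card M = p ^ (k + 1) := card_of_index_eq hcard hM.2
      rw [hS, card_sx_filter_le]
      by_cases hc : IsCyclic M
      · rw [if_pos hc, mul_zero, add_zero]
        haveI := hc
        rw [card_subgroups_cyclic hMc (by omega)]
      · rw [if_neg hc, mul_one]
        exact ih (k + 1) (by omega) M hMc hc a ha1 (by omega)
    have h7 : ∑ M ∈ A, (S.filter (fun H => H ≤ M)).card ≡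
        A.card + p * (A.filter (fun M : Subgroup P => ¬ IsCyclic M)).card [MOD p ^ 2] := by
      have e1 := Nat.ModEq.sum h6
      have e2 : ∑ M ∈ A, (1 + p * (if IsCyclic M then 0 else 1)) =
          A.card + p * (A.filter (fun M : Subgroup P => ¬ IsCyclic M)).card := by
        rw [Finset.sum_add_distrib, Finset.sum_const, smul_eq_mul, mul_one, ← Finset.mul_sum,
          Finset.card_filter]
        congr 2
        apply Finset.sum_congr rfl
        intro M _
        by_cases hc : IsCyclic M <;> simp [hc]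
      rw [e2] at e1
      exact e1
    -- congruences for `A`
    have hA1 : A.card ≡ 1 [MOD p] := by
      rw [hA, card_mx]; exact card_index_above_modEq_one hP ⊥ hbot
    have hz : (A.filter (fun M : Subgroup P => IsCyclic M)).card ≡ 0 [MOD p] :=
      card_cyclic_max_modEq_zero hp2 hk1 hcard hnc
    have hu : (A.filter (fun M : Subgroup P => ¬ IsCyclic M)).card ≡ 1 [MOD p] := by
      have e := Finset.card_filter_add_card_filter_not (s := A) (fun M : Subgroup P => IsCyclic M)
      have e1 : (A.filter (fun M : Subgroup P => IsCyclic M)).card +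
          (A.filter (fun M : Subgroup P => ¬ IsCyclic M)).card ≡ 1 [MOD p] := by
        rw [e]; exact hA1
      have e2 : (A.filter (fun M : Subgroup P => IsCyclic M)).card +
          (A.filter (fun M : Subgroup P => ¬ IsCyclic M)).card ≡
          0 + (A.filter (fun M : Subgroup P => ¬ IsCyclic M)).card [MOD p] :=
        Nat.ModEq.add_right _ hz
      rw [zero_add] at e2
      exact e2.symm.trans e1
    have h8 : p * (A.filter (fun M : Subgroup P => ¬ IsCyclic M)).card ≡ p * 1 [MOD p ^ 2] := by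
      rw [pow_two]
      exact Nat.ModEq.mul_left' p hu
    have hAB : A.card ≡ 1 + p * B.card [MOD p ^ 2] := enum_modEq hP ⊥ (mx_nonempty hP hbot)
    -- assemble
    rw [h2, Finset.sum_add_distrib, Finset.sum_const, smul_eq_mul, mul_one, ← Finset.mul_sum,
      h3] at h1
    -- h1 : Σ_M t(M) ≡ S.card + p * Σ_W t'(W)
    have c1 : S.card + p * B.card ≡ A.card + p * 1 [MOD p ^ 2] := by
      have := (Nat.ModEq.add_left S.card h5).symm.trans (h1.symm.trans
        (h7.trans (Nat.ModEq.add_left A.card h8)))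
      exact this
    have c2 : S.card + p * B.card ≡ (1 + p) + p * B.card [MOD p ^ 2] := by
      have := c1.trans (Nat.ModEq.add_right (p * 1) hAB)
      have e : 1 + p * B.card + p * 1 = (1 + p) + p * B.card := by ring
      rw [e] at this
      exact this
    exact Nat.ModEq.add_right_cancel' _ c2

end

section

open Classical

variable {G : Type*} [Group G]

/-- conjugate of a subgroup -/
def cj (g : G) (H : Subgroup G) : Subgroup G := H.map (MulAut.conj g).toMonoidHom

theorem mem_cj {g x : G} {H : Subgroup G} : x ∈ cj g H ↔ g⁻¹ * x * g ∈ H := by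
  rw [cj, Subgroup.mem_map]
  constructor
  · rintro ⟨y, hy, rfl⟩
    show g⁻¹ * (g * y * g⁻¹) * g ∈ H
    have : g⁻¹ * (g * y * g⁻¹) * g = y := by group
    rwa [this]
  · intro h
    refine ⟨g⁻¹ * x * g, h, ?_⟩
    show g * (g⁻¹ * x * g) * g⁻¹ = x
    group

theorem cj_one (H : Subgroup G) : cj 1 H = H := by
  ext x
  rw [mem_cj]
  simp

theorem cj_mul (g h : G) (H : Subgroup G) : cj (g * h) H = cj g (cj h H) := by
  ext x
  rw [mem_cj, mem_cj, mem_cj]
  have : (g * h)⁻¹ * x * (g * h) = h⁻¹ * (g⁻¹ * x * g) * h := by group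
  rw [this]

theorem card_cj (g : G) (H : Subgroup G) : Nat.card (cj g H) = Nat.card H :=
  Subgroup.card_map_of_injective (MulAut.conj g).injective

theorem cj_le_cj {g : G} {H K : Subgroup G} : cj g H ≤ cj g K ↔ H ≤ K :=
  Subgroup.map_le_map_iff_of_injective (MulAut.conj g).injective

theorem cj_inv_cj (g : G) (H : Subgroup G) : cj g⁻¹ (cj g H) = H := by
  rw [← cj_mul, inv_mul_cancel, cj_one]

theorem cj_cj_inv (g : G) (H : Subgroup G) : cj g (cj g⁻¹ H) = H := by
  rw [← cj_mul, mul_inv_cancel, cj_one]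

theorem cj_injective (g : G) : Function.Injective (cj g : Subgroup G → Subgroup G) := by
  intro H K h
  have := congrArg (cj g⁻¹) h
  rwa [cj_inv_cj, cj_inv_cj] at this

theorem cj_eq_self {g : G} {H : Subgroup G} : cj g H = H ↔ g ∈ (Subgroup.normalizer (H : Set G)) := by
  rw [Subgroup.mem_normalizer_iff]
  constructor
  · intro h x
    constructor
    · intro hx
      have : g * x * g⁻¹ ∈ cj g H := by
        rw [mem_cj]
        have : g⁻¹ * (g * x * g⁻¹) * g = x := by group
        rwa [this]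
      rwa [h] at this
    · intro hx
      rw [← h, mem_cj] at hx
      have e : g⁻¹ * (g * x * g⁻¹) * g = x := by group
      rwa [e] at hx
  · intro h
    ext x
    rw [mem_cj, h (g⁻¹ * x * g)]
    have e : g * (g⁻¹ * x * g) * g⁻¹ = x := by group
    rw [e]

theorem le_normalizer_iff_cj {D H : Subgroup G} : D ≤ (Subgroup.normalizer (H : Set G)) ↔ ∀ d ∈ D, cj d H = H := by
  constructor
  · intro h d hd
    exact cj_eq_self.mpr (h hd)
  · intro h d hd
    exact cj_eq_self.mp (h d hd)

theorem cj_eq_of_mem {g : G} {H : Subgroup G} (hg : g ∈ H) : cj g H = H :=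
  cj_eq_self.mpr (Subgroup.le_normalizer hg)

/-- the conjugation action of a subgroup `P` on the subgroups of `G` -/
@[reducible] def cjAction (P : Subgroup G) : MulAction P (Subgroup G) where
  smul g H := cj (g : G) H
  one_smul H := cj_one H
  mul_smul g h H := cj_mul (g : G) (h : G) H

/-- `P`-invariance of a set of subgroups -/
def Inv (P : Subgroup G) (S : Finset (Subgroup G)) : Prop := ∀ g ∈ P, ∀ H ∈ S, cj g H ∈ S

theorem Inv.filter {P : Subgroup G} {S : Finset (Subgroup G)} (hS : Inv P S)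
    (q : Subgroup G → Prop) [DecidablePred q] (hq : ∀ g ∈ P, ∀ H, q H → q (cj g H)) :
    Inv P (S.filter q) := by
  intro g hg H hH
  rw [Finset.mem_filter] at hH ⊢
  exact ⟨hS g hg H hH.1, hq g hg H hH.2⟩

theorem Inv.filter_not {P : Subgroup G} {S : Finset (Subgroup G)} (hS : Inv P S)
    (q : Subgroup G → Prop) [∀ H, Decidable (¬ q H)] (hq : ∀ g ∈ P, ∀ H, q H → q (cj g H)) :
    Inv P (S.filter (fun H => ¬ q H)) := by
  apply hS.filter (fun H => ¬ q H)
  intro g hg H hH h
  apply hH
  have := hq g⁻¹ (P.inv_mem hg) _ h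
  rwa [cj_inv_cj] at this

variable [Finite G]

/-- orbit counting: if `m` divides every `|P : N_P(H)|`, `H ∈ S`, then `m ∣ |S|` -/
theorem dvd_card_of_dvd_relIndex (P : Subgroup G) (S : Finset (Subgroup G)) (hinv : Inv P S)
    (m : ℕ) (hm : ∀ H ∈ S, m ∣ (Subgroup.normalizer (H : Set G)).relIndex P) : m ∣ S.card := by
  letI := cjAction P
  rw [Finset.card_eq_sum_card_image (fun H => MulAction.orbit P H) S]
  apply Finset.dvd_sum
  intro b hb
  obtain ⟨H, hH, rfl⟩ := Finset.mem_image.mp hb
  have h1 : (S.filter (fun H' => MulAction.orbit P H' = MulAction.orbit P H)).card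
      = Nat.card (MulAction.orbit P H) := by
    rw [← Nat.card_eq_finsetCard]
    apply Nat.card_congr
    apply Equiv.subtypeEquivRight
    intro H'
    rw [Finset.mem_filter]
    constructor
    · rintro ⟨_, h⟩
      rw [← h]
      exact MulAction.mem_orbit_self H'
    · intro h
      refine ⟨?_, MulAction.orbit_eq_iff.mpr h⟩
      obtain ⟨g, rfl⟩ := h
      exact hinv g.1 g.2 H hH
  have h2 : MulAction.stabilizer P H = (Subgroup.normalizer (H : Set G)).subgroupOf P := by
    ext g
    rw [MulAction.mem_stabilizer_iff, Subgroup.mem_subgroupOf]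
    exact cj_eq_self
  show m ∣ (S.filter (fun H' => MulAction.orbit P H' = MulAction.orbit P H)).card
  rw [h1, Nat.card_coe_set_eq, ← MulAction.index_stabilizer, h2]
  exact hm H hH

variable {p : ℕ} [hp : Fact p.Prime]

theorem relIndex_eq_pow {P : Subgroup G} (hP : IsPGroup p P) (K : Subgroup G) :
    ∃ k, K.relIndex P = p ^ k :=
  hP.index (K.subgroupOf P)

/-- fixed point counting mod `p` -/
theorem card_modEq_card_filter_normalizer {P : Subgroup G} (hP : IsPGroup p P)
    (S : Finset (Subgroup G)) (hinv : Inv P S) :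
    S.card ≡ (S.filter (fun H : Subgroup G => P ≤ (Subgroup.normalizer (H : Set G)))).card [MOD p] := by
  rw [← Finset.card_filter_add_card_filter_not (s := S) (fun H : Subgroup G => P ≤ (Subgroup.normalizer (H : Set G)))]
  have h1 : p ∣ (S.filter (fun H : Subgroup G => ¬ P ≤ (Subgroup.normalizer (H : Set G)))).card := by
    apply dvd_card_of_dvd_relIndex P
    · apply hinv.filter_not
      intro g hg H hH
      rw [le_normalizer_iff_cj] at hH ⊢
      intro d hd
      have h2 := hH (g⁻¹ * d * g) (P.mul_mem (P.mul_mem (P.inv_mem hg) hd) hg)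
      have h3 : cj d (cj g H) = cj g (cj (g⁻¹ * d * g) H) := by
        rw [← cj_mul, ← cj_mul]
        congr 1
        group
      rw [h3, h2]
    · intro H hH
      rw [Finset.mem_filter] at hH
      obtain ⟨k, hk⟩ := relIndex_eq_pow hP (Subgroup.normalizer (H : Set G))
      rw [hk]
      have hk0 : k ≠ 0 := by
        rintro rfl
        rw [pow_zero, Subgroup.relIndex_eq_one] at hk
        exact hH.2 hk
      exact dvd_pow_self p hk0
  have h2 := (Nat.modEq_zero_iff_dvd.mpr h1)
  have := Nat.ModEq.add_left (S.filter (fun H : Subgroup G => P ≤ (Subgroup.normalizer (H : Set G)))).card h2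
  simpa using this

/-- orbit counting mod `p²` when there are no fixed points -/
theorem card_modEq_card_filter_relIndex {P : Subgroup G} (hP : IsPGroup p P)
    (S : Finset (Subgroup G)) (hinv : Inv P S) (hfix : ∀ H ∈ S, ¬ P ≤ (Subgroup.normalizer (H : Set G))) :
    S.card ≡ (S.filter (fun H : Subgroup G => (Subgroup.normalizer (H : Set G)).relIndex P = p)).card [MOD p ^ 2] := by
  rw [← Finset.card_filter_add_card_filter_not (s := S) (fun H : Subgroup G => (Subgroup.normalizer (H : Set G)).relIndex P = p)]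
  have hq : ∀ g ∈ P, ∀ H : Subgroup G, (Subgroup.normalizer (H : Set G)).relIndex P = p →
      (Subgroup.normalizer ((cj g H : Subgroup G) : Set G)).relIndex P = p := by
    intro g hg H hH
    have e : (Subgroup.normalizer ((cj g H : Subgroup G) : Set G)).subgroupOf P =
        ((Subgroup.normalizer (H : Set G)).subgroupOf P).map (MulAut.conj (⟨g, hg⟩ : P)).toMonoidHom := by
      ext x
      rw [Subgroup.mem_subgroupOf, ← cj_eq_self, Subgroup.mem_map]
      constructor
      · intro hx
        refine ⟨⟨g, hg⟩⁻¹ * x * ⟨g, hg⟩, ?_, ?_⟩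
        · rw [Subgroup.mem_subgroupOf, ← cj_eq_self]
          show cj (g⁻¹ * (x : G) * g) H = H
          rw [cj_mul, cj_mul, hx, cj_inv_cj]
        · show (⟨g, hg⟩ : P) * (⟨g, hg⟩⁻¹ * x * ⟨g, hg⟩) * (⟨g, hg⟩ : P)⁻¹ = x
          group
      · rintro ⟨y, hy, rfl⟩
        rw [Subgroup.mem_subgroupOf, ← cj_eq_self] at hy
        show cj (g * (y : G) * g⁻¹) (cj g H) = cj g H
        rw [← cj_mul]
        have : g * (y : G) * g⁻¹ * g = g * y := by group
        rw [this, cj_mul, hy]
    rw [Subgroup.relIndex, e, Subgroup.index_map_of_bijective (MulAut.conj (⟨g, hg⟩ : P)).bijective]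
    exact hH
  have h1 : p ^ 2 ∣ (S.filter (fun H : Subgroup G => ¬ (Subgroup.normalizer (H : Set G)).relIndex P = p)).card := by
    apply dvd_card_of_dvd_relIndex P
    · exact hinv.filter_not _ hq
    · intro H hH
      rw [Finset.mem_filter] at hH
      obtain ⟨k, hk⟩ := relIndex_eq_pow hP (Subgroup.normalizer (H : Set G))
      rw [hk]
      have hk0 : k ≠ 0 := by
        rintro rfl
        rw [pow_zero, Subgroup.relIndex_eq_one] at hk
        exact hfix H hH.1 hk
      have hk1 : k ≠ 1 := by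
        rintro rfl
        rw [pow_one] at hk
        exact hH.2 hk
      exact pow_dvd_pow p (by omega)
  have h2 := (Nat.modEq_zero_iff_dvd.mpr h1)
  have := Nat.ModEq.add_left (S.filter (fun H : Subgroup G => (Subgroup.normalizer (H : Set G)).relIndex P = p)).card h2
  simpa using this

end

section

open Classical

variable {G : Type*} [Group G] [Finite G] {p : ℕ} [hp : Fact p.Prime]

/-- the order of a `p`-subgroup divides `p^n` if `p^(n+1)` does not divide `|G|` -/
theorem pgroup_card_dvd {n : ℕ} (hn : ¬ p ^ (n + 1) ∣ Nat.card G) {R : Subgroup G}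
    (hR : IsPGroup p R) : Nat.card R ∣ p ^ n := by
  obtain ⟨k, hk⟩ := IsPGroup.iff_card.mp hR
  rw [hk]
  apply pow_dvd_pow
  by_contra h
  push_neg at h
  apply hn
  have h1 : p ^ (n + 1) ∣ p ^ k := pow_dvd_pow p h
  have h2 : Nat.card R ∣ Nat.card G := Subgroup.card_subgroup_dvd_card R
  rw [hk] at h2
  exact h1.trans h2

/-- a subgroup of order `p^n` is a maximal `p`-subgroup -/
theorem eq_of_le_pgroup {n : ℕ} (hn : ¬ p ^ (n + 1) ∣ Nat.card G) {P R : Subgroup G}
    (hP : Nat.card P = p ^ n) (hR : IsPGroup p R) (hle : P ≤ R) : P = R := by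
  apply Subgroup.eq_of_le_of_card_ge hle
  rw [hP]
  exact Nat.le_of_dvd (pow_pos hp.out.pos n) (pgroup_card_dvd hn hR)

/-- a `p`-subgroup normalizing a Sylow subgroup lies in it -/
theorem le_of_le_normalizer {n : ℕ} (hn : ¬ p ^ (n + 1) ∣ Nat.card G) {Q X : Subgroup G}
    (hQ : Nat.card Q = p ^ n) (hX : IsPGroup p X) (h : X ≤ Subgroup.normalizer (Q : Set G)) :
    X ≤ Q := by
  have h1 : IsPGroup p (X ⊔ Q : Subgroup G) :=
    IsPGroup.to_sup_of_normal_right' hX (IsPGroup.of_card hQ) h
  have h2 := eq_of_le_pgroup hn hQ h1 le_sup_right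
  rw [h2]
  exact le_sup_left

/-- a `p`-subgroup normalized by a Sylow subgroup lies in it -/
theorem le_of_normalizer_ge {n : ℕ} (hn : ¬ p ^ (n + 1) ∣ Nat.card G) {Q X : Subgroup G}
    (hQ : Nat.card Q = p ^ n) (hX : IsPGroup p X) (h : Q ≤ Subgroup.normalizer (X : Set G)) :
    X ≤ Q := by
  have h1 : IsPGroup p (X ⊔ Q : Subgroup G) :=
    IsPGroup.to_sup_of_normal_left' hX (IsPGroup.of_card hQ) h
  have h2 := eq_of_le_pgroup hn hQ h1 le_sup_right
  rw [h2]
  exact le_sup_left

/-- the number of Sylow subgroups containing a given `p`-subgroup is `≡ 1 mod p` -/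
theorem card_sylow_ge_modEq_one {n : ℕ} (hn : ¬ p ^ (n + 1) ∣ Nat.card G)
    (hdvd : p ^ n ∣ Nat.card G) {D : Subgroup G} (hD : IsPGroup p D) :
    ((sx p n G).filter (fun Q : Subgroup G => D ≤ Q)).card ≡ 1 [MOD p] := by
  have h1 := Cfsg.Agent.Lib.Helper4.Wielandt.card_subgroup_modEq_one (G := G) p n hdvd
  rw [← card_sx] at h1
  have hinv : Inv D (sx p n G) := by
    intro g _ H hH
    rw [mem_sx] at hH ⊢
    rw [card_cj]
    exact hH
  have h2 := card_modEq_card_filter_normalizer hD (sx p n G) hinv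
  have h3 : (sx p n G).filter (fun Q : Subgroup G => D ≤ Subgroup.normalizer (Q : Set G)) =
      (sx p n G).filter (fun Q : Subgroup G => D ≤ Q) := by
    apply Finset.filter_congr
    intro Q hQ
    rw [mem_sx] at hQ
    constructor
    · intro h
      exact le_of_le_normalizer hn hQ hD h
    · intro h
      exact h.trans Subgroup.le_normalizer
  rw [h3] at h2
  exact h2.symm.trans h1

/-- subgroups between a subgroup of order `p^k` and one of order `p^(k+1)` -/
theorem eq_or_eq_of_le_of_le {k : ℕ} {D X P : Subgroup G} (hD : Nat.card D = p ^ k)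
    (hP : Nat.card P = p ^ (k + 1)) (h1 : D ≤ X) (h2 : X ≤ P) : X = D ∨ X = P := by
  have d1 : Nat.card D ∣ Nat.card X := Subgroup.card_dvd_of_le h1
  have d2 : Nat.card X ∣ Nat.card P := Subgroup.card_dvd_of_le h2
  rw [hP] at d2
  obtain ⟨j, hj, hjX⟩ := (Nat.dvd_prime_pow hp.out).mp d2
  rw [hD, hjX] at d1
  have hkj : k ≤ j := (Nat.pow_dvd_pow_iff_le_right hp.out.one_lt).mp d1
  rcases Nat.lt_or_ge k j with h | h
  · right
    apply Subgroup.eq_of_le_of_card_ge h2
    rw [hP, hjX]
    exact Nat.pow_le_pow_right hp.out.pos h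
  · left
    symm
    apply Subgroup.eq_of_le_of_card_ge h1
    rw [hD, hjX]
    exact Nat.pow_le_pow_right hp.out.pos h

/-- a subgroup of index `p` in a `p`-group is normal (ambient version) -/
theorem le_normalizer_of_card {k : ℕ} {D P : Subgroup G} (hD : Nat.card D = p ^ k)
    (hP : Nat.card P = p ^ (k + 1)) (hle : D ≤ P) : P ≤ Subgroup.normalizer (D : Set G) := by
  rw [← Subgroup.normal_subgroupOf_iff_le_normalizer hle]
  have hPp : IsPGroup p P := IsPGroup.of_card hP
  apply normal_of_index_eq hPp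
  have h1 := Subgroup.card_mul_index (D.subgroupOf P)
  rw [Nat.card_congr (Subgroup.subgroupOfEquivOfLe hle).toEquiv, hD, hP, pow_succ] at h1
  exact Nat.eq_of_mul_eq_mul_left (pow_pos hp.out.pos k) h1

theorem relIndex_of_card {k : ℕ} {D P : Subgroup G} (hD : Nat.card D = p ^ k)
    (hP : Nat.card P = p ^ (k + 1)) (hle : D ≤ P) : D.relIndex P = p := by
  have h1 := Subgroup.card_mul_index (D.subgroupOf P)
  rw [Nat.card_congr (Subgroup.subgroupOfEquivOfLe hle).toEquiv, hD, hP, pow_succ] at h1
  exact Nat.eq_of_mul_eq_mul_left (pow_pos hp.out.pos k) h1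

theorem card_inf_of_relIndex {k : ℕ} {K P : Subgroup G} (hP : Nat.card P = p ^ (k + 1))
    (h : K.relIndex P = p) : Nat.card (K ⊓ P : Subgroup G) = p ^ k := by
  have h1 := Subgroup.card_mul_index ((K ⊓ P).subgroupOf P)
  rw [Nat.card_congr (Subgroup.subgroupOfEquivOfLe (inf_le_right : K ⊓ P ≤ P)).toEquiv,
    Subgroup.inf_subgroupOf_right] at h1
  have h2 : (K.subgroupOf P).index = p := h
  rw [h2, hP, pow_succ] at h1
  exact Nat.eq_of_mul_eq_mul_right hp.out.pos h1

/-- conjugation and normalizing -/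
theorem le_normalizer_cj {D H : Subgroup G} (g : G) (h : D ≤ Subgroup.normalizer (H : Set G)) :
    cj g D ≤ Subgroup.normalizer ((cj g H : Subgroup G) : Set G) := by
  rw [le_normalizer_iff_cj] at h ⊢
  intro d hd
  rw [mem_cj] at hd
  have h2 := h _ hd
  have h3 : cj d (cj g H) = cj g (cj (g⁻¹ * d * g) H) := by
    rw [← cj_mul, ← cj_mul]
    congr 1
    group
  rw [h3, h2]

end

section

open Classical

variable {G : Type*} [Group G] [Finite G] {p : ℕ} [hp : Fact p.Prime]

/-- subgroups of order `p^a` of `Q`, not in `D`, normalized by `D` -/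
noncomputable def tx (p a : ℕ) (D Q : Subgroup G) : Finset (Subgroup G) :=
  (sx p a G).filter (fun H : Subgroup G =>
    H ≤ Q ∧ ¬ H ≤ D ∧ D ≤ Subgroup.normalizer (H : Set G))

theorem mem_tx {a : ℕ} {D Q H : Subgroup G} : H ∈ tx p a D Q ↔
    Nat.card H = p ^ a ∧ H ≤ Q ∧ ¬ H ≤ D ∧ D ≤ Subgroup.normalizer (H : Set G) := by
  rw [tx, Finset.mem_filter, mem_sx]

theorem tx_image_subset (a : ℕ) {D : Subgroup G} (Q : Subgroup G) {g : G}
    (hg : g ∈ Subgroup.normalizer (D : Set G)) :
    (tx p a D Q).image (cj g) ⊆ tx p a D (cj g Q) := by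
  intro H hH
  obtain ⟨K, hK, rfl⟩ := Finset.mem_image.mp hH
  rw [mem_tx] at hK ⊢
  obtain ⟨h1, h2, h3, h4⟩ := hK
  have hD : cj g D = D := cj_eq_self.mpr hg
  refine ⟨?_, ?_, ?_, ?_⟩
  · rw [card_cj]; exact h1
  · exact cj_le_cj.mpr h2
  · intro h
    rw [← hD, cj_le_cj] at h
    exact h3 h
  · have := le_normalizer_cj g h4
    rwa [hD] at this

theorem card_tx_cj (a : ℕ) {D : Subgroup G} (Q : Subgroup G) {g : G}
    (hg : g ∈ Subgroup.normalizer (D : Set G)) :
    (tx p a D (cj g Q)).card = (tx p a D Q).card := by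
  apply le_antisymm
  · have h1 := Finset.card_le_card (tx_image_subset (p := p) a (cj g Q)
      ((Subgroup.normalizer (D : Set G)).inv_mem hg))
    rw [Finset.card_image_of_injective _ (cj_injective g⁻¹), cj_inv_cj] at h1
    exact h1
  · have h1 := Finset.card_le_card (tx_image_subset (p := p) a Q hg)
    rw [Finset.card_image_of_injective _ (cj_injective g)] at h1
    exact h1

/-- Claim 2: all Sylow subgroups containing `D` (of index `p`) carry the same number -/
theorem card_tx_eq {k : ℕ} (hn : ¬ p ^ (k + 2) ∣ Nat.card G) (a : ℕ) {D P Q : Subgroup G}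
    (hD : Nat.card D = p ^ k) (hP : Nat.card P = p ^ (k + 1)) (hQ : Nat.card Q = p ^ (k + 1))
    (hDP : D ≤ P) (hDQ : D ≤ Q) : (tx p a D Q).card = (tx p a D P).card := by
  have hPN := le_normalizer_of_card hD hP hDP
  have hQN := le_normalizer_of_card hD hQ hDQ
  have hfac : (Nat.card (Subgroup.normalizer (D : Set G))).factorization p = k + 1 := by
    have hne : Nat.card (Subgroup.normalizer (D : Set G)) ≠ 0 := Nat.card_pos.ne'
    apply le_antisymm
    · by_contra h
      push_neg at h
      apply hn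
      have h1 : p ^ (k + 2) ∣ Nat.card (Subgroup.normalizer (D : Set G)) :=
        (hp.out.pow_dvd_iff_le_factorization hne).mpr h
      exact h1.trans (Subgroup.card_subgroup_dvd_card _)
    · rw [← hp.out.pow_dvd_iff_le_factorization hne, ← hP]
      exact Subgroup.card_dvd_of_le hPN
  have sP : Cfsg.Agent.Lib.Helper7.IsSylowIn p P (Subgroup.normalizer (D : Set G)) :=
    ⟨hPN, by rw [hfac]; exact hP⟩
  have sQ : Cfsg.Agent.Lib.Helper7.IsSylowIn p Q (Subgroup.normalizer (D : Set G)) :=
    ⟨hQN, by rw [hfac]; exact hQ⟩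
  obtain ⟨g, hg, hgQ⟩ := Cfsg.Agent.Lib.Helper7.IsSylowIn.conj sP sQ
  have : Q = cj g P := hgQ
  rw [this]
  exact card_tx_cj a P hg

/-- `tx p a D P` is `P`-invariant -/
theorem inv_tx {k : ℕ} (a : ℕ) {D P : Subgroup G}
    (hD : Nat.card D = p ^ k) (hP : Nat.card P = p ^ (k + 1)) (hDP : D ≤ P) :
    Inv P (tx p a D P) := by
  intro g hg H hH
  have hPN := le_normalizer_of_card hD hP hDP
  have := tx_image_subset (p := p) a P (hPN hg) (Finset.mem_image_of_mem _ hH)
  rwa [cj_eq_of_mem hg] at this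

theorem inv_sx_le (a : ℕ) {M P : Subgroup G} (hPM : P ≤ Subgroup.normalizer (M : Set G)) :
    Inv P ((sx p a G).filter (fun H : Subgroup G => H ≤ M)) := by
  intro g hg H hH
  rw [Finset.mem_filter, mem_sx] at hH ⊢
  refine ⟨by rw [card_cj]; exact hH.1, ?_⟩
  have : cj g M = M := cj_eq_self.mpr (hPM hg)
  rw [← this]
  exact cj_le_cj.mpr hH.2

/-- the number of subgroups of order `p^a` of `M` normalized by the `p`-group `P` -/
theorem card_normalized_modEq_one {a m : ℕ} {M P : Subgroup G} (hPp : IsPGroup p P)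
    (hM : Nat.card M = p ^ m) (ha : a ≤ m)
    (hPM : P ≤ Subgroup.normalizer (M : Set G)) :
    (((sx p a G).filter (fun H : Subgroup G => H ≤ M)).filter
      (fun H : Subgroup G => P ≤ Subgroup.normalizer (H : Set G))).card ≡ 1 [MOD p] := by
  have h1 := card_modEq_card_filter_normalizer hPp _ (inv_sx_le (p := p) a hPM)
  refine h1.symm.trans ?_
  rw [card_sx_filter_le]
  apply Cfsg.Agent.Lib.Helper4.Wielandt.card_subgroup_modEq_one
  rw [hM]
  exact pow_dvd_pow p ha

/-- Claim 4 -/
theorem dvd_card_tx {k : ℕ} {a : ℕ} (ha : a ≤ k) {D P : Subgroup G}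
    (hD : Nat.card D = p ^ k) (hP : Nat.card P = p ^ (k + 1)) (hDP : D ≤ P) :
    p ∣ (tx p a D P).card := by
  have hPp : IsPGroup p P := IsPGroup.of_card hP
  have hPN := le_normalizer_of_card hD hP hDP
  have h1 := card_modEq_card_filter_normalizer hPp _ (inv_tx (p := p) a hD hP hDP)
  rw [← Nat.modEq_zero_iff_dvd]
  refine h1.trans ?_
  set A := ((sx p a G).filter (fun H : Subgroup G => H ≤ P)).filter
      (fun H : Subgroup G => P ≤ Subgroup.normalizer (H : Set G)) with hA
  set B := ((sx p a G).filter (fun H : Subgroup G => H ≤ D)).filter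
      (fun H : Subgroup G => P ≤ Subgroup.normalizer (H : Set G)) with hB
  have hBA : B ⊆ A := by
    intro H hH
    rw [hB, Finset.mem_filter, Finset.mem_filter] at hH
    rw [hA, Finset.mem_filter, Finset.mem_filter]
    exact ⟨⟨hH.1.1, hH.1.2.trans hDP⟩, hH.2⟩
  have e : (tx p a D P).filter (fun H : Subgroup G => P ≤ Subgroup.normalizer (H : Set G))
      = A \ B := by
    ext H
    rw [Finset.mem_sdiff, hA, hB, Finset.mem_filter, Finset.mem_filter, Finset.mem_filter,
      Finset.mem_filter, Finset.mem_filter, mem_tx, mem_sx]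
    constructor
    · rintro ⟨⟨h1, h2, h3, h4⟩, h5⟩
      exact ⟨⟨⟨h1, h2⟩, h5⟩, fun h => h3 h.1.2⟩
    · rintro ⟨⟨⟨h1, h2⟩, h5⟩, h⟩
      refine ⟨⟨h1, h2, fun h3 => h ⟨⟨h1, h3⟩, h5⟩, hDP.trans h5⟩, h5⟩
  rw [e, Finset.card_sdiff_of_subset hBA]
  have cA : A.card ≡ 1 [MOD p] :=
    card_normalized_modEq_one hPp hP (by omega) Subgroup.le_normalizer
  have cB : B.card ≡ 1 [MOD p] := card_normalized_modEq_one hPp hD ha hPN
  have hle : B.card ≤ A.card := Finset.card_le_card hBA
  rw [Nat.modEq_zero_iff_dvd]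
  exact (Nat.modEq_iff_dvd' hle).mp (cB.trans cA.symm)

end

section

open Classical

variable {G : Type*} [Group G] [Finite G] {p : ℕ} [hp : Fact p.Prime]

theorem card_sup_eq {k : ℕ} (hn : ¬ p ^ (k + 1 + 1) ∣ Nat.card G) {H D : Subgroup G}
    (hH : IsPGroup p H) (hD : Nat.card D = p ^ k)
    (hDN : D ≤ Subgroup.normalizer (H : Set G)) (hHD : ¬ H ≤ D) :
    Nat.card (H ⊔ D : Subgroup G) = p ^ (k + 1) := by
  have h1 : IsPGroup p (H ⊔ D : Subgroup G) :=
    IsPGroup.to_sup_of_normal_left' hH (IsPGroup.of_card hD) hDN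
  have h2 := pgroup_card_dvd hn h1
  obtain ⟨j, hj, hjX⟩ := (Nat.dvd_prime_pow hp.out).mp h2
  have d1 : Nat.card D ∣ Nat.card (H ⊔ D : Subgroup G) := Subgroup.card_dvd_of_le le_sup_right
  rw [hD, hjX] at d1
  have hkj : k ≤ j := (Nat.pow_dvd_pow_iff_le_right hp.out.one_lt).mp d1
  rcases Nat.lt_or_ge k j with h | h
  · have : j = k + 1 := by omega
    rw [hjX, this]
  · exfalso
    apply hHD
    have : D = H ⊔ D := by
      apply Subgroup.eq_of_le_of_card_ge le_sup_right
      rw [hD, hjX]
      exact Nat.pow_le_pow_right hp.out.pos h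
    rw [this]
    exact le_sup_left

theorem fiber_iff {k a : ℕ} (hn : ¬ p ^ (k + 1 + 1) ∣ Nat.card G) {P D Q : Subgroup G}
    (hP : Nat.card P = p ^ (k + 1)) (hD : Nat.card D = p ^ k) (hDP : D ≤ P)
    (hQ : Nat.card Q = p ^ (k + 1)) (hDQ : D ≤ Q) (hQP : Q ≠ P) (H : Subgroup G) :
    (((Nat.card H = p ^ a ∧ ¬ H ≤ P) ∧ (Subgroup.normalizer (H : Set G)).relIndex P = p) ∧
      Subgroup.normalizer (H : Set G) ⊓ P = D) ∧ H ⊔ D = Q ↔ H ∈ tx p a D Q := by
  rw [mem_tx]
  constructor
  · rintro ⟨⟨⟨⟨h1, h2⟩, h3⟩, h4⟩, h5⟩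
    refine ⟨h1, ?_, ?_, ?_⟩
    · rw [← h5]; exact le_sup_left
    · intro h; exact h2 (h.trans hDP)
    · rw [← h4]; exact inf_le_left
  · rintro ⟨h1, h2, h3, h4⟩
    have hHp : IsPGroup p H := IsPGroup.of_card h1
    have e5 : H ⊔ D = Q := by
      apply Subgroup.eq_of_le_of_card_ge (sup_le h2 hDQ)
      rw [card_sup_eq hn hHp hD h4 h3, hQ]
    have hHP : ¬ H ≤ P := by
      intro h
      apply hQP
      apply Subgroup.eq_of_le_of_card_ge
      · rw [← e5]; exact sup_le h hDP
      · rw [hP, hQ]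
    have e4 : Subgroup.normalizer (H : Set G) ⊓ P = D := by
      rcases eq_or_eq_of_le_of_le hD hP (le_inf h4 hDP) inf_le_right with h | h
      · exact h
      · exfalso
        apply hHP
        apply le_of_normalizer_ge hn hP hHp
        rw [← h]
        exact inf_le_left
    refine ⟨⟨⟨⟨h1, hHP⟩, ?_⟩, e4⟩, e5⟩
    rw [← Subgroup.inf_relIndex_right, e4]
    exact relIndex_of_card hD hP hDP

theorem inv_sx (a : ℕ) (P : Subgroup G) : Inv P (sx p a G) := by
  intro g _ H hH
  rw [mem_sx] at hH ⊢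
  rw [card_cj]
  exact hH

/-- reduction to a Sylow subgroup modulo `p²` -/
theorem card_sx_modEq {k a : ℕ} (hn : ¬ p ^ (k + 1 + 1) ∣ Nat.card G)
    (hdvd : p ^ (k + 1) ∣ Nat.card G) (ha : a ≤ k)
    {P : Subgroup G} (hP : Nat.card P = p ^ (k + 1)) :
    (sx p a G).card ≡ ((sx p a G).filter (fun H : Subgroup G => H ≤ P)).card [MOD p ^ 2] := by
  have hPp : IsPGroup p P := IsPGroup.of_card hP
  rw [← Finset.card_filter_add_card_filter_not (s := sx p a G) (fun H : Subgroup G => H ≤ P)]
  set Y := (sx p a G).filter (fun H : Subgroup G => ¬ H ≤ P) with hY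
  have hinvY : Inv P Y := by
    apply (inv_sx (p := p) a P).filter_not
    intro g hg H hH
    have : cj g P = P := cj_eq_of_mem hg
    rw [← this]
    exact cj_le_cj.mpr hH
  have hfix : ∀ H ∈ Y, ¬ P ≤ Subgroup.normalizer (H : Set G) := by
    intro H hH h
    rw [hY, Finset.mem_filter, mem_sx] at hH
    exact hH.2 (le_of_normalizer_ge hn hP (IsPGroup.of_card hH.1) h)
  have h1 := card_modEq_card_filter_relIndex hPp Y hinvY hfix
  set Y₁ := Y.filter (fun H : Subgroup G => (Subgroup.normalizer (H : Set G)).relIndex P = p)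
    with hY₁
  have key : p ^ 2 ∣ Y₁.card := by
    have hmaps : (Y₁ : Set (Subgroup G)).MapsTo
        (fun H : Subgroup G => Subgroup.normalizer (H : Set G) ⊓ P)
        ((sx p k G).filter (fun D : Subgroup G => D ≤ P)) := by
      intro H hH
      have hH' : H ∈ Y₁ := hH
      rw [hY₁, Finset.mem_filter] at hH'
      show _ ∈ (sx p k G).filter (fun D : Subgroup G => D ≤ P)
      rw [Finset.mem_filter, mem_sx]
      exact ⟨card_inf_of_relIndex hP hH'.2, inf_le_right⟩
    rw [Finset.card_eq_sum_card_fiberwise hmaps]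
    apply Finset.dvd_sum
    intro D hD'
    rw [Finset.mem_filter, mem_sx] at hD'
    obtain ⟨hD, hDP⟩ := hD'
    set Q' := ((sx p (k + 1) G).filter (fun Q : Subgroup G => D ≤ Q)).erase P with hQ'
    have hmaps2 : ((Y₁.filter (fun H : Subgroup G =>
        Subgroup.normalizer (H : Set G) ⊓ P = D) : Finset (Subgroup G)) :
          Set (Subgroup G)).MapsTo (fun H : Subgroup G => H ⊔ D) Q' := by
      intro H hH
      have hH' : H ∈ Y₁.filter (fun H : Subgroup G =>
        Subgroup.normalizer (H : Set G) ⊓ P = D) := hH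
      rw [Finset.mem_filter, hY₁, Finset.mem_filter, hY, Finset.mem_filter, mem_sx] at hH'
      obtain ⟨⟨⟨h1, h2⟩, h3⟩, h4⟩ := hH'
      show H ⊔ D ∈ Q'
      have hDN : D ≤ Subgroup.normalizer (H : Set G) := by rw [← h4]; exact inf_le_left
      have hHD : ¬ H ≤ D := fun h => h2 (h.trans hDP)
      rw [hQ', Finset.mem_erase, Finset.mem_filter, mem_sx]
      refine ⟨?_, card_sup_eq hn (IsPGroup.of_card h1) hD hDN hHD, le_sup_right⟩
      intro h
      apply h2
      rw [← h]
      exact le_sup_left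
    rw [Finset.card_eq_sum_card_fiberwise hmaps2]
    have e1 : ∀ Q ∈ Q', ((Y₁.filter (fun H : Subgroup G =>
        Subgroup.normalizer (H : Set G) ⊓ P = D)).filter
          (fun H : Subgroup G => H ⊔ D = Q)).card = (tx p a D P).card := by
      intro Q hQ
      rw [hQ', Finset.mem_erase, Finset.mem_filter, mem_sx] at hQ
      obtain ⟨hQP, hQc, hDQ⟩ := hQ
      rw [← card_tx_eq hn a hD hP hQc hDP hDQ]
      congr 1
      ext H
      rw [Finset.mem_filter, Finset.mem_filter, hY₁, Finset.mem_filter, hY, Finset.mem_filter,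
        mem_sx]
      exact fiber_iff hn hP hD hDP hQc hDQ hQP H
    rw [Finset.sum_congr rfl e1, Finset.sum_const, smul_eq_mul, pow_two]
    apply Nat.mul_dvd_mul
    · have hPmem : P ∈ (sx p (k + 1) G).filter (fun Q : Subgroup G => D ≤ Q) := by
        rw [Finset.mem_filter, mem_sx]
        exact ⟨hP, hDP⟩
      rw [hQ', Finset.card_erase_of_mem hPmem]
      have h2 := card_sylow_ge_modEq_one hn hdvd (IsPGroup.of_card hD)
      have hpos : 1 ≤ ((sx p (k + 1) G).filter (fun Q : Subgroup G => D ≤ Q)).card :=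
        Finset.card_pos.mpr ⟨P, hPmem⟩
      exact (Nat.modEq_iff_dvd' hpos).mp h2.symm
    · exact dvd_card_tx ha hD hP hDP
  have h2 : Y.card ≡ 0 [MOD p ^ 2] := h1.trans (Nat.modEq_zero_iff_dvd.mpr key)
  have := Nat.ModEq.add_left ((sx p a G).filter (fun H : Subgroup G => H ≤ P)).card h2
  simpa using this

end

section

open Classical

/-- Let G be a finite group, p a prime and a a natural number such that p^(a+1) divides the order of G. Then the number of subgroups of G of order p^a is congruent to 1 or to 1 + p modulo p². -/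
theorem result {G : Type*} [Group G] [Finite G] (p a : ℕ) (hp : p.Prime) (hdvd : p ^ (a + 1) ∣ Nat.card G) :
    Nat.card {H : Subgroup G // Nat.card H = p ^ a} ≡ 1 [MOD p ^ 2] ∨
      Nat.card {H : Subgroup G // Nat.card H = p ^ a} ≡ 1 + p [MOD p ^ 2] := by
  haveI : Fact p.Prime := ⟨hp⟩
  by_cases hp2 : p = 2
  · subst hp2
    have h1 := Cfsg.Agent.Lib.Helper4.Wielandt.card_subgroup_modEq_one (G := G) 2 a
      (dvd_trans (pow_dvd_pow 2 (Nat.le_succ a)) hdvd)
    unfold Nat.ModEq at *
    omega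
  · have hne : Nat.card G ≠ 0 := Nat.card_pos.ne'
    have han : a + 1 ≤ (Nat.card G).factorization p :=
      (hp.pow_dvd_iff_le_factorization hne).mp hdvd
    obtain ⟨k, hk⟩ : ∃ k, (Nat.card G).factorization p = k + 1 :=
      ⟨(Nat.card G).factorization p - 1, by omega⟩
    have hn : ¬ p ^ (k + 1 + 1) ∣ Nat.card G := by
      rw [← hk]
      exact Nat.pow_succ_factorization_not_dvd hne hp
    have hdvd' : p ^ (k + 1) ∣ Nat.card G := by
      rw [← hk]
      exact Nat.ordProj_dvd _ _
    have ha : a ≤ k := by omega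
    obtain ⟨P, hP⟩ := Sylow.exists_subgroup_card_pow_prime p hdvd'
    have h1 := card_sx_modEq hn hdvd' ha hP
    rw [card_sx_filter_le, card_sx] at h1
    by_cases hc : IsCyclic P
    · left
      refine h1.trans ?_
      rw [card_subgroups_cyclic hP (by omega : a ≤ k + 1)]
    · rcases Nat.eq_zero_or_pos a with h0 | h0
      · left
        refine h1.trans ?_
        subst h0
        have : Nat.card {K : Subgroup P // Nat.card K = p ^ 0} = 1 := by
          rw [Nat.card_eq_one_iff_unique]
          refine ⟨⟨fun K₁ K₂ => ?_⟩, ⟨⟨⊥, by simp⟩⟩⟩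
          apply Subtype.ext
          have h1 : Nat.card (K₁.1 : Subgroup P) = 1 := K₁.2.trans (pow_zero p)
          have h2 : Nat.card (K₂.1 : Subgroup P) = 1 := K₂.2.trans (pow_zero p)
          rw [Subgroup.card_eq_one] at h1 h2
          rw [h1, h2]
        rw [this]
      · right
        exact h1.trans (kulakoff hp2 (k + 1) P hP hc a h0 (by omega))

end

end Cfsg.Agent.S4237
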