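import Cfsg.Statements.S4003
import Mathlib
import Cfsg.Agent.S4237

set_option autoImplicit false
open Cfsg

namespace Cfsg.Agent.S4003

section

open Classical
open Cfsg.Agent.S4237

universe u

/-- cyclic subgroups of order `p^s` -/
noncomputable def cx (p s : ℕ) (P : Type*) [Group P] [Finite P] : Finset (Subgroup P) :=
  (sx p s P).filter (fun C : Subgroup P => IsCyclic C)

theorem mem_cx {P : Type*} [Group P] [Finite P] {p : ℕ} [hp : Fact p.Prime] {s : ℕ}
    {C : Subgroup P} : C ∈ cx p s P ↔ Nat.card C = p ^ s ∧ IsCyclic C := by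
  rw [cx, Finset.mem_filter, mem_sx]

theorem card_cx_filter_le {P : Type*} [Group P] [Finite P] {p : ℕ} [hp : Fact p.Prime] (s : ℕ)
    (M : Subgroup P) :
    ((cx p s P).filter (fun C : Subgroup P => C ≤ M)).card = (cx p s M).card := by
  apply Finset.card_nbij' (fun C => C.subgroupOf M) (fun K => K.map M.subtype)
  · intro C hC
    have hC' := Finset.mem_filter.mp hC
    obtain ⟨h1, h2⟩ := hC'
    rw [mem_cx] at h1
    show C.subgroupOf M ∈ cx p s M
    rw [mem_cx]
    refine ⟨?_, ?_⟩
    · rw [Nat.card_congr (Subgroup.subgroupOfEquivOfLe h2).toEquiv]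
      exact h1.1
    · haveI := h1.2
      exact (Subgroup.subgroupOfEquivOfLe h2).isCyclic.mpr h1.2
  · intro K hK
    have hK' : K ∈ cx p s M := hK
    rw [mem_cx] at hK'
    show K.map M.subtype ∈ (cx p s P).filter (fun C : Subgroup P => C ≤ M)
    rw [Finset.mem_filter, mem_cx]
    refine ⟨⟨?_, ?_⟩, Subgroup.map_subtype_le K⟩
    · rw [Subgroup.card_map_of_injective M.subtype_injective]
      exact hK'.1
    · exact (K.equivMapOfInjective M.subtype M.subtype_injective).isCyclic.mp hK'.2
  · intro C hC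
    have hC' := Finset.mem_filter.mp hC
    exact Subgroup.map_subgroupOf_eq_of_le hC'.2
  · intro K _
    show (K.map M.subtype).subgroupOf M = K
    rw [Subgroup.subgroupOf, Subgroup.comap_map_eq_self_of_injective M.subtype_injective]

/-- cyclic subgroups of order `p^s` of a cyclic `p`-group -/
theorem card_cx_cyclic {C : Type*} [Group C] [Finite C] [hC : IsCyclic C] {p : ℕ}
    [hp : Fact p.Prime] {m s : ℕ} (hcard : Nat.card C = p ^ m) :
    (cx p s C).card = if s ≤ m then 1 else 0 := by
  have e : cx p s C = sx p s C := by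
    ext K
    rw [mem_cx, mem_sx]
    constructor
    · exact fun h => h.1
    · intro h
      exact ⟨h, inferInstance⟩
  rw [e, card_sx]
  by_cases hs : s ≤ m
  · rw [if_pos hs]
    exact card_subgroups_cyclic hcard hs
  · rw [if_neg hs]
    rw [Nat.card_eq_zero]
    left
    constructor
    rintro ⟨K, hK⟩
    have h1 : Nat.card K ∣ Nat.card C := Subgroup.card_subgroup_dvd_card K
    rw [hK, hcard] at h1
    exact hs ((Nat.pow_dvd_pow_iff_le_right hp.out.one_lt).mp h1)

/-- **Miller's theorem** for odd `p`: in a noncyclic `p`-group the number of cyclic subgroups of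
order `p^s`, `s > 1`, is divisible by `p`. -/
theorem card_cx_modEq_zero {p : ℕ} [hp : Fact p.Prime] (hp2 : p ≠ 2) :
    ∀ (n : ℕ) (P : Type u) [Group P] [Finite P], Nat.card P = p ^ n → ¬ IsCyclic P →
    ∀ s : ℕ, 1 < s → (cx p s P).card ≡ 0 [MOD p] := by
  intro n
  induction n using Nat.strong_induction_on with
  | _ n ih =>
  intro P _ _ hcard hnc s hs
  have hpp := hp.out
  have hP : IsPGroup p P := IsPGroup.of_card hcard
  have hn2 : 2 ≤ n := by
    by_contra h
    push_neg at h
    apply hnc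
    interval_cases n
    · rw [pow_zero] at hcard
      haveI : Subsingleton P := (Nat.card_eq_one_iff_unique.mp hcard).1
      infer_instance
    · rw [pow_one] at hcard
      exact isCyclic_of_prime_card hcard
  obtain ⟨k, rfl⟩ : ∃ k, n = k + 2 := ⟨n - 2, by omega⟩
  set S := cx p s P with hS
  set A := mx p (⊥ : Subgroup P) with hA
  have hproper : ∀ H ∈ S, H ≠ ⊤ := by
    intro H hH h
    rw [hS, mem_cx] at hH
    apply hnc
    rw [h] at hH
    exact (Subgroup.topEquiv (G := P)).isCyclic.mp hH.2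
  have h1 : ∑ H ∈ S, (mx p H).card ≡ ∑ _H ∈ S, 1 [MOD p] := by
    apply Nat.ModEq.sum
    intro H hH
    obtain ⟨M₀, hM₀⟩ := mx_nonempty hP (hproper H hH)
    rw [card_mx_eq hP H hM₀]
    have : 1 + p * ((wx p H).filter (fun W => W ≤ M₀)).card ≡ 1 + 0 [MOD p] :=
      Nat.ModEq.add_left 1 (Nat.modEq_zero_iff_dvd.mpr (dvd_mul_right _ _))
    exact this
  have h2 : ∑ H ∈ S, (mx p H).card = ∑ M ∈ A, (S.filter (fun H => H ≤ M)).card := by
    have := Finset.sum_card_bipartiteAbove_eq_sum_card_bipartiteBelow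
      (r := fun (H M : Subgroup P) => H ≤ M) (s := S) (t := A)
    have e : ∀ H ∈ S, (A.bipartiteAbove (fun (H M : Subgroup P) => H ≤ M) H) = mx p H := by
      intro H _
      ext M
      simp only [Finset.bipartiteAbove, Finset.mem_filter, hA, mem_mx]
      constructor
      · rintro ⟨⟨-, hi⟩, hle⟩
        exact ⟨hle, hi⟩
      · rintro ⟨hle, hi⟩
        exact ⟨⟨bot_le, hi⟩, hle⟩
    rw [Finset.sum_congr rfl (fun H hH => by rw [e H hH])] at this
    exact this
  have h6 : ∀ M ∈ A, (S.filter (fun H => H ≤ M)).card ≡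
      (if IsCyclic M then (if s ≤ k + 1 then 1 else 0) else 0) [MOD p] := by
    intro M hM
    rw [hA, mem_mx] at hM
    have hMc : Nat.card M = p ^ (k + 1) := by
      have := Subgroup.card_mul_index M
      rw [hM.2, hcard, pow_succ p (k + 1)] at this
      exact Nat.eq_of_mul_eq_mul_right hpp.pos this
    rw [hS, card_cx_filter_le]
    by_cases hc : IsCyclic M
    · rw [if_pos hc]
      haveI := hc
      rw [card_cx_cyclic hMc]
    · rw [if_neg hc]
      exact ih (k + 1) (by omega) M hMc hc s hs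
  rw [h2, Finset.sum_const, smul_eq_mul, mul_one] at h1
  refine h1.symm.trans ((Nat.ModEq.sum h6).trans ?_)
  by_cases hsk : s ≤ k + 1
  · have hk1 : 1 ≤ k := by omega
    have hz := card_cyclic_max_modEq_zero hp2 hk1 hcard hnc
    rw [← hA] at hz
    have e : ∑ M ∈ A, (if IsCyclic M then (if s ≤ k + 1 then 1 else 0) else 0) =
        (A.filter (fun M : Subgroup P => IsCyclic M)).card := by
      rw [Finset.card_filter]
      apply Finset.sum_congr rfl
      intro M _
      rw [if_pos hsk]
    rw [e]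
    exact hz
  · have e : ∑ M ∈ A, (if IsCyclic M then (if s ≤ k + 1 then 1 else 0) else 0) = 0 := by
      apply Finset.sum_eq_zero
      intro M _
      rw [if_neg hsk]
      simp
    rw [e]

end

section

open Classical
open Cfsg.Agent.S4237

/-- orbit sum: an invariant function on an invariant finite set, divisible by `p` at the fixed
points, has sum divisible by `p` -/
theorem dvd_sum_of_action {p : ℕ} [hp : Fact p.Prime] {Pg : Type*} [Group Pg] [Finite Pg]
    {α : Type*} [MulAction Pg α] (hP : IsPGroup p Pg) (S : Finset α)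
    (hinv : ∀ g : Pg, ∀ y ∈ S, g • y ∈ S) (f : α → ℕ) (hf : ∀ g : Pg, ∀ y ∈ S, f (g • y) = f y)
    (hfix : ∀ y ∈ S, (∀ g : Pg, g • y = y) → p ∣ f y) : p ∣ ∑ y ∈ S, f y := by
  rw [← Finset.sum_fiberwise_of_maps_to (s := S) (t := S.image (fun y => MulAction.orbit Pg y))
    (g := fun y => MulAction.orbit Pg y) (fun y hy => Finset.mem_image_of_mem _ hy)]
  apply Finset.dvd_sum
  intro b hb
  obtain ⟨y₀, hy₀, rfl⟩ := Finset.mem_image.mp hb
  have h1 : ∑ y ∈ S.filter (fun y => MulAction.orbit Pg y = MulAction.orbit Pg y₀), f y =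
      ∑ _y ∈ S.filter (fun y => MulAction.orbit Pg y = MulAction.orbit Pg y₀), f y₀ := by
    apply Finset.sum_congr rfl
    intro y hy
    rw [Finset.mem_filter] at hy
    have : y ∈ MulAction.orbit Pg y₀ := by
      rw [← hy.2]; exact MulAction.mem_orbit_self y
    obtain ⟨g, rfl⟩ := this
    exact hf g y₀ hy₀
  show p ∣ ∑ y ∈ S.filter (fun y => MulAction.orbit Pg y = MulAction.orbit Pg y₀), f y
  rw [h1, Finset.sum_const, smul_eq_mul]
  have h2 : (S.filter (fun y => MulAction.orbit Pg y = MulAction.orbit Pg y₀)).card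
      = Nat.card (MulAction.orbit Pg y₀) := by
    rw [← Nat.card_eq_finsetCard]
    apply Nat.card_congr
    apply Equiv.subtypeEquivRight
    intro y
    rw [Finset.mem_filter]
    constructor
    · rintro ⟨_, h⟩
      rw [← h]
      exact MulAction.mem_orbit_self y
    · intro h
      refine ⟨?_, MulAction.orbit_eq_iff.mpr h⟩
      obtain ⟨g, rfl⟩ := h
      exact hinv g y₀ hy₀
  rw [h2]
  by_cases hfx : ∀ g : Pg, g • y₀ = y₀
  · exact Dvd.dvd.mul_left (hfix y₀ hy₀ hfx) _
  · apply Dvd.dvd.mul_right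
    haveI : Finite (MulAction.orbit Pg y₀) := Set.finite_range _
    obtain ⟨k, hk⟩ := hP.card_orbit y₀
    rw [hk]
    have hk0 : k ≠ 0 := by
      rintro rfl
      rw [pow_zero] at hk
      apply hfx
      intro g
      haveI : Subsingleton (MulAction.orbit Pg y₀) := (Nat.card_eq_one_iff_unique.mp hk).1
      have := Subsingleton.elim (⟨g • y₀, MulAction.mem_orbit y₀ g⟩ : MulAction.orbit Pg y₀)
        ⟨y₀, MulAction.mem_orbit_self y₀⟩
      exact congrArg Subtype.val this
    exact dvd_pow_self p hk0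

variable {G : Type*} [Group G]

/-- the conjugation action of a subgroup on the elements of `G` -/
@[reducible] def ceAction (P : Subgroup G) : MulAction P G where
  smul g y := (g : G) * y * (g : G)⁻¹
  one_smul y := by show ((1 : P) : G) * y * ((1 : P) : G)⁻¹ = y; simp
  mul_smul g h y := by
    show ((g * h : P) : G) * y * ((g * h : P) : G)⁻¹ = (g : G) * ((h : G) * y * (h : G)⁻¹) * (g : G)⁻¹
    simp [mul_assoc]

section powers

variable {q m : ℕ} (hco : Nat.Coprime q m)

/-- exponent picking out the `q`-part -/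
noncomputable def e1 : ℕ := (Nat.chineseRemainder hco 1 0).1

/-- exponent picking out the `m`-part -/
noncomputable def e2 : ℕ := (Nat.chineseRemainder hco 0 1).1

theorem e1_q : e1 hco ≡ 1 [MOD q] := (Nat.chineseRemainder hco 1 0).2.1
theorem e1_m : e1 hco ≡ 0 [MOD m] := (Nat.chineseRemainder hco 1 0).2.2
theorem e2_q : e2 hco ≡ 0 [MOD q] := (Nat.chineseRemainder hco 0 1).2.1
theorem e2_m : e2 hco ≡ 1 [MOD m] := (Nat.chineseRemainder hco 0 1).2.2

theorem pow_e1_mul_pow_e2 {g : G} (hg : orderOf g = q * m) : g ^ e1 hco * g ^ e2 hco = g := by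
  rw [← pow_add]
  have h : e1 hco + e2 hco ≡ 1 [MOD q * m] := by
    rw [← Nat.modEq_and_modEq_iff_modEq_mul hco]
    exact ⟨(e1_q hco).add (e2_q hco), (e1_m hco).add (e2_m hco)⟩
  have := (pow_eq_pow_iff_modEq (x := g) (n := e1 hco + e2 hco) (m := 1)).mpr (by rw [hg]; exact h)
  rw [this, pow_one]

theorem pow_e2_of_orderOf {x : G} (hx : orderOf x = q) : x ^ e2 hco = 1 := by
  rw [← orderOf_dvd_iff_pow_eq_one, hx]
  exact (Nat.modEq_zero_iff_dvd).mp (e2_q hco)

theorem pow_e1_of_orderOf' {y : G} (hy : orderOf y = m) : y ^ e1 hco = 1 := by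
  rw [← orderOf_dvd_iff_pow_eq_one, hy]
  exact (Nat.modEq_zero_iff_dvd).mp (e1_m hco)

theorem pow_e1_of_orderOf {x : G} (hx : orderOf x = q) : x ^ e1 hco = x := by
  have := (pow_eq_pow_iff_modEq (x := x) (n := e1 hco) (m := 1)).mpr (by rw [hx]; exact e1_q hco)
  rw [this, pow_one]

theorem pow_e2_of_orderOf' {y : G} (hy : orderOf y = m) : y ^ e2 hco = y := by
  have := (pow_eq_pow_iff_modEq (x := y) (n := e2 hco) (m := 1)).mpr (by rw [hy]; exact e2_m hco)
  rw [this, pow_one]

theorem orderOf_parts {g : G} (hq : 0 < q) (hm : 0 < m) (hg : orderOf g = q * m) :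
    orderOf (g ^ e1 hco) = q ∧ orderOf (g ^ e2 hco) = m := by
  have h1 : (g ^ e1 hco) ^ q = 1 := by
    rw [← pow_mul, ← orderOf_dvd_iff_pow_eq_one, hg, mul_comm q m]
    exact Nat.mul_dvd_mul ((Nat.modEq_zero_iff_dvd).mp (e1_m hco)) dvd_rfl
  have h2 : (g ^ e2 hco) ^ m = 1 := by
    rw [← pow_mul, ← orderOf_dvd_iff_pow_eq_one, hg]
    exact Nat.mul_dvd_mul ((Nat.modEq_zero_iff_dvd).mp (e2_q hco)) dvd_rfl
  have d1 : orderOf (g ^ e1 hco) ∣ q := orderOf_dvd_of_pow_eq_one h1
  have d2 : orderOf (g ^ e2 hco) ∣ m := orderOf_dvd_of_pow_eq_one h2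
  have hcomm : Commute (g ^ e1 hco) (g ^ e2 hco) := (Commute.refl g).pow_pow _ _
  have d3 : q * m ∣ orderOf (g ^ e1 hco) * orderOf (g ^ e2 hco) := by
    have := hcomm.orderOf_mul_dvd_lcm
    rw [pow_e1_mul_pow_e2 hco hg, hg] at this
    exact this.trans (Nat.lcm_dvd_mul _ _)
  constructor
  · apply Nat.dvd_antisymm d1
    have : q ∣ orderOf (g ^ e1 hco) * orderOf (g ^ e2 hco) := (dvd_mul_right q m).trans d3
    exact (Nat.Coprime.coprime_dvd_right d2 hco).dvd_of_dvd_mul_right this
  · apply Nat.dvd_antisymm d2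
    have : m ∣ orderOf (g ^ e1 hco) * orderOf (g ^ e2 hco) := (dvd_mul_left m q).trans d3
    exact (Nat.Coprime.coprime_dvd_right d1 hco.symm).dvd_of_dvd_mul_left this

end powers

end

section

open Classical
open Cfsg.Agent.S4237

variable {G : Type*} [Group G] [Finite G] {p : ℕ} [hp : Fact p.Prime]

/-- cyclic subgroups of order `p^s` centralizing `y` -/
noncomputable def fy (p s : ℕ) (y : G) : Finset (Subgroup G) :=
  (cx p s G).filter (fun X : Subgroup G => X ≤ Subgroup.centralizer ({y} : Set G))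

theorem mem_fy {s : ℕ} {y : G} {X : Subgroup G} : X ∈ fy p s y ↔
    (Nat.card X = p ^ s ∧ IsCyclic X) ∧ X ≤ Subgroup.centralizer ({y} : Set G) := by
  rw [fy, Finset.mem_filter, mem_cx]

/-- number of generators of a cyclic subgroup -/
theorem card_generators [Fintype G] {q : ℕ} {X : Subgroup G} (hX : Nat.card X = q)
    (hc : IsCyclic X) :
    (Finset.univ.filter (fun x : G => Subgroup.zpowers x = X)).card = Nat.totient q := by
  haveI : Fintype X := Fintype.ofFinite X
  have h1 := IsCyclic.card_orderOf_eq_totient (α := X) (d := q)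
    (by rw [← Nat.card_eq_fintype_card, hX])
  rw [← h1]
  symm
  apply Finset.card_nbij' (fun a : X => (a : G)) (fun x : G => if h : x ∈ X then ⟨x, h⟩ else 1)
  · intro a ha
    have ha' := (Finset.mem_filter.mp ha).2
    show (a : G) ∈ Finset.univ.filter (fun x : G => Subgroup.zpowers x = X)
    rw [Finset.mem_filter]
    refine ⟨Finset.mem_univ _, ?_⟩
    apply Subgroup.eq_of_le_of_card_ge
    · rw [Subgroup.zpowers_le]; exact a.2
    · rw [Nat.card_zpowers, Subgroup.orderOf_coe, ha', hX]
  · intro x hx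
    have hx' := (Finset.mem_filter.mp hx).2
    have hxX : x ∈ X := by rw [← hx']; exact Subgroup.mem_zpowers x
    show (if h : x ∈ X then (⟨x, h⟩ : X) else 1) ∈ Finset.univ.filter (fun a : X => orderOf a = q)
    rw [dif_pos hxX, Finset.mem_filter]
    refine ⟨Finset.mem_univ _, ?_⟩
    rw [← Subgroup.orderOf_coe, ← Nat.card_zpowers]
    show Nat.card (Subgroup.zpowers x) = q
    rw [hx', hX]
  · intro a _
    show (if h : (a : G) ∈ X then (⟨(a : G), h⟩ : X) else 1) = a
    rw [dif_pos a.2]
  · intro x hx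
    have hx' := (Finset.mem_filter.mp hx).2
    have hxX : x ∈ X := by rw [← hx']; exact Subgroup.mem_zpowers x
    show ((if h : x ∈ X then (⟨x, h⟩ : X) else 1 : X) : G) = x
    rw [dif_pos hxX]

theorem main_count [Fintype G] {s m : ℕ} (hco : Nat.Coprime (p ^ s) m) (hm : 0 < m) :
    (Finset.univ.filter (fun g : G => orderOf g = p ^ s * m)).card =
      Nat.totient (p ^ s) *
        ∑ y ∈ Finset.univ.filter (fun y : G => orderOf y = m), (fy p s y).card := by
  have hq : 0 < p ^ s := pow_pos hp.out.pos s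
  set E := Finset.univ.filter (fun g : G => orderOf g = p ^ s * m) with hE
  set Y := Finset.univ.filter (fun y : G => orderOf y = m) with hY
  have hmaps : (E : Set G).MapsTo (fun g => g ^ e2 hco) Y := by
    intro g hg
    have hg' : g ∈ E := hg
    rw [hE, Finset.mem_filter] at hg'
    show g ^ e2 hco ∈ Y
    rw [hY, Finset.mem_filter]
    exact ⟨Finset.mem_univ _, (orderOf_parts hco hq hm hg'.2).2⟩
  rw [Finset.card_eq_sum_card_fiberwise hmaps, Finset.mul_sum]
  apply Finset.sum_congr rfl
  intro y hy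
  rw [hY, Finset.mem_filter] at hy
  have hy := hy.2
  -- step 2
  have st2 : (E.filter (fun g => g ^ e2 hco = y)).card =
      (Finset.univ.filter (fun x : G => orderOf x = p ^ s ∧ Commute x y)).card := by
    apply Finset.card_nbij' (fun g => g ^ e1 hco) (fun x => x * y)
    · intro g hg
      have hg' := Finset.mem_filter.mp hg
      obtain ⟨h1, h2⟩ := hg'
      rw [hE, Finset.mem_filter] at h1
      show g ^ e1 hco ∈ Finset.univ.filter (fun x : G => orderOf x = p ^ s ∧ Commute x y)
      rw [Finset.mem_filter]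
      refine ⟨Finset.mem_univ _, (orderOf_parts hco hq hm h1.2).1, ?_⟩
      rw [← h2]
      exact (Commute.refl g).pow_pow _ _
    · intro x hx
      have hx' := (Finset.mem_filter.mp hx).2
      obtain ⟨h1, h2⟩ := hx'
      show x * y ∈ E.filter (fun g => g ^ e2 hco = y)
      rw [Finset.mem_filter, hE, Finset.mem_filter]
      refine ⟨⟨Finset.mem_univ _, ?_⟩, ?_⟩
      · rw [h2.orderOf_mul_eq_mul_orderOf_of_coprime (by rw [h1, hy]; exact hco), h1, hy]
      · rw [h2.mul_pow, pow_e2_of_orderOf hco h1, pow_e2_of_orderOf' hco hy, one_mul]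
    · intro g hg
      have hg' := Finset.mem_filter.mp hg
      obtain ⟨h1, h2⟩ := hg'
      rw [hE, Finset.mem_filter] at h1
      show g ^ e1 hco * y = g
      rw [← h2]
      exact pow_e1_mul_pow_e2 hco h1.2
    · intro x hx
      have hx' := (Finset.mem_filter.mp hx).2
      obtain ⟨h1, h2⟩ := hx'
      show (x * y) ^ e1 hco = x
      rw [h2.mul_pow, pow_e1_of_orderOf hco h1, pow_e1_of_orderOf' hco hy, mul_one]
  rw [st2]
  -- step 3
  have hmaps3 : ((Finset.univ.filter (fun x : G => orderOf x = p ^ s ∧ Commute x y) : Finset G) :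
      Set G).MapsTo (fun x => Subgroup.zpowers x) (fy p s y) := by
    intro x hx
    have hx' : x ∈ Finset.univ.filter (fun x : G => orderOf x = p ^ s ∧ Commute x y) := hx
    rw [Finset.mem_filter] at hx'
    obtain ⟨-, h1, h2⟩ := hx'
    show Subgroup.zpowers x ∈ fy p s y
    rw [mem_fy]
    refine ⟨⟨by rw [Nat.card_zpowers, h1], inferInstance⟩, ?_⟩
    rw [Subgroup.zpowers_le, Subgroup.mem_centralizer_iff]
    intro z hz
    rw [Set.mem_singleton_iff] at hz
    rw [hz]
    exact h2.eq.symm
  rw [Finset.card_eq_sum_card_fiberwise hmaps3]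
  have st3 : ∀ X ∈ fy p s y, ((Finset.univ.filter (fun x : G => orderOf x = p ^ s ∧
      Commute x y)).filter (fun x => Subgroup.zpowers x = X)).card = Nat.totient (p ^ s) := by
    intro X hX
    rw [mem_fy] at hX
    rw [← card_generators hX.1.1 hX.1.2]
    congr 1
    ext x
    rw [Finset.mem_filter, Finset.mem_filter, Finset.mem_filter]
    constructor
    · rintro ⟨-, h⟩
      exact ⟨Finset.mem_univ _, h⟩
    · rintro ⟨-, h⟩
      refine ⟨⟨Finset.mem_univ _, ?_, ?_⟩, h⟩
      · rw [← Nat.card_zpowers, h, hX.1.1]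
      · have hxX : x ∈ X := by rw [← h]; exact Subgroup.mem_zpowers x
        have := hX.2 hxX
        rw [Subgroup.mem_centralizer_iff] at this
        exact (this y (Set.mem_singleton y)).symm
  rw [Finset.sum_congr rfl st3, Finset.sum_const, smul_eq_mul, mul_comm]

end

section

open Classical
open Cfsg.Agent.S4237

variable {G : Type*} [Group G] [Finite G] {p : ℕ} [hp : Fact p.Prime]

theorem isCyclic_cj {X : Subgroup G} (g : G) (h : IsCyclic X) : IsCyclic (cj g X) :=
  (X.equivMapOfInjective _ (MulAut.conj g).injective).isCyclic.mp h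

theorem fy_image_subset (s : ℕ) (g y : G) :
    (fy p s y).image (cj g) ⊆ fy p s (g * y * g⁻¹) := by
  intro Z hZ
  obtain ⟨X, hX, rfl⟩ := Finset.mem_image.mp hZ
  rw [mem_fy] at hX ⊢
  obtain ⟨⟨h1, h2⟩, h3⟩ := hX
  refine ⟨⟨by rw [card_cj]; exact h1, isCyclic_cj g h2⟩, ?_⟩
  intro z hz
  rw [mem_cj] at hz
  have h4 := h3 hz
  rw [Subgroup.mem_centralizer_iff] at h4 ⊢
  intro w hw
  rw [Set.mem_singleton_iff] at hw
  have h5 := h4 y (Set.mem_singleton y)
  rw [hw]
  calc g * y * g⁻¹ * z = g * (y * (g⁻¹ * z * g)) * g⁻¹ := by group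
    _ = g * ((g⁻¹ * z * g) * y) * g⁻¹ := by rw [h5]
    _ = z * (g * y * g⁻¹) := by group

theorem card_fy_conj (s : ℕ) (g y : G) : (fy p s (g * y * g⁻¹)).card = (fy p s y).card := by
  apply le_antisymm
  · have h1 := Finset.card_le_card (fy_image_subset (p := p) s g⁻¹ (g * y * g⁻¹))
    rw [Finset.card_image_of_injective _ (cj_injective g⁻¹)] at h1
    have e : g⁻¹ * (g * y * g⁻¹) * g⁻¹⁻¹ = y := by group
    rw [e] at h1
    exact h1
  · have h1 := Finset.card_le_card (fy_image_subset (p := p) s g y)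
    rw [Finset.card_image_of_injective _ (cj_injective g)] at h1
    exact h1

theorem inv_cx_le (s : ℕ) (P : Subgroup G) :
    Inv P ((cx p s G).filter (fun X : Subgroup G => X ≤ P)) := by
  intro g hg X hX
  rw [Finset.mem_filter, mem_cx] at hX ⊢
  refine ⟨⟨by rw [card_cj]; exact hX.1.1, isCyclic_cj g hX.1.2⟩, ?_⟩
  have : cj g P = P := cj_eq_of_mem hg
  rw [← this]
  exact cj_le_cj.mpr hX.2

/-- the key congruence at a point centralized by the Sylow subgroup -/
theorem card_fy_modEq_zero (hp2 : p ≠ 2) {n : ℕ} (hn : ¬ p ^ (n + 1) ∣ Nat.card G)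
    {P : Subgroup G} (hPc : Nat.card P = p ^ n) (hPnc : ¬ IsCyclic P) {s : ℕ} (hs : 1 < s)
    {y : G} (hy : ∀ g ∈ P, g * y * g⁻¹ = y) : (fy p s y).card ≡ 0 [MOD p] := by
  have hPp : IsPGroup p P := IsPGroup.of_card hPc
  have hPy : P ≤ Subgroup.centralizer ({y} : Set G) := by
    intro g hg
    rw [Subgroup.mem_centralizer_iff]
    intro w hw
    rw [Set.mem_singleton_iff] at hw
    rw [hw]
    have := hy g hg
    calc y * g = (g * y * g⁻¹) * g := by rw [this]
      _ = g * y := by group
  have hInv : Inv P (fy p s y) := by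
    intro g hg X hX
    have := fy_image_subset (p := p) s g y (Finset.mem_image_of_mem _ hX)
    rwa [hy g hg] at this
  have h1 := card_modEq_card_filter_normalizer hPp _ hInv
  have e : (fy p s y).filter (fun X : Subgroup G => P ≤ Subgroup.normalizer (X : Set G)) =
      ((cx p s G).filter (fun X : Subgroup G => X ≤ P)).filter
        (fun X : Subgroup G => P ≤ Subgroup.normalizer (X : Set G)) := by
    ext X
    rw [Finset.mem_filter, Finset.mem_filter, Finset.mem_filter, mem_fy, mem_cx]
    constructor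
    · rintro ⟨⟨h1, h2⟩, h3⟩
      exact ⟨⟨h1, le_of_normalizer_ge hn hPc (IsPGroup.of_card h1.1) h3⟩, h3⟩
    · rintro ⟨⟨h1, h2⟩, h3⟩
      exact ⟨⟨h1, h2.trans hPy⟩, h3⟩
  rw [e] at h1
  have h2 := card_modEq_card_filter_normalizer hPp _ (inv_cx_le (p := p) s P)
  refine h1.trans (h2.symm.trans ?_)
  rw [card_cx_filter_le]
  exact card_cx_modEq_zero hp2 n P hPc hPnc s hs

/-- Let G be a finite group, p an odd prime dividing the order of G whose Sylow p-subgroups are not cyclic, and n = p^s·m with s > 1 and m coprime to p. Then the number of elements of G of order n is a multiple of p^s. -/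
theorem result {G : Type*} [Group G] [Finite G] (p : ℕ) [Fact p.Prime] (hodd : p ≠ 2) (hpG : p ∣ Nat.card G)
    (P : Sylow p G) (hP : ¬ IsCyclic ↥(P : Subgroup G)) (s m : ℕ) (hs : 1 < s) (hm : Nat.Coprime p m) :
    p ^ s ∣ Nat.card {g : G // orderOf g = p ^ s * m} := by
  have hpp : p.Prime := Fact.out
  haveI : Fintype G := Fintype.ofFinite G
  have hm0 : 0 < m := by
    rcases Nat.eq_zero_or_pos m with h | h
    · subst h
      rw [Nat.coprime_zero_right] at hm
      exact absurd hm hpp.one_lt.ne'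
    · exact h
  have hco : Nat.Coprime (p ^ s) m := Nat.Coprime.pow_left s hm
  have e0 : Nat.card {g : G // orderOf g = p ^ s * m} =
      (Finset.univ.filter (fun g : G => orderOf g = p ^ s * m)).card := by
    rw [Nat.card_eq_fintype_card, Fintype.card_subtype]
  rw [e0, main_count hco hm0, Nat.totient_prime_pow hpp (by omega : 0 < s)]
  have hne : Nat.card G ≠ 0 := Nat.card_pos.ne'
  set n := (Nat.card G).factorization p with hn'
  have hn : ¬ p ^ (n + 1) ∣ Nat.card G := Nat.pow_succ_factorization_not_dvd hne hpp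
  have hPc : Nat.card (P : Subgroup G) = p ^ n := P.card_eq_multiplicity
  have hPp : IsPGroup p (P : Subgroup G) := P.2
  have key : p ∣ ∑ y ∈ Finset.univ.filter (fun y : G => orderOf y = m), (fy p s y).card := by
    letI := ceAction (P : Subgroup G)
    apply dvd_sum_of_action hPp
    · intro g y hy
      rw [Finset.mem_filter] at hy ⊢
      refine ⟨Finset.mem_univ _, ?_⟩
      show orderOf ((g : G) * y * (g : G)⁻¹) = m
      rw [← hy.2]
      exact (MulAut.conj (g : G)).orderOf_eq y
    · intro g y _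
      exact card_fy_conj s (g : G) y
    · intro y _ hfix
      rw [← Nat.modEq_zero_iff_dvd]
      apply card_fy_modEq_zero hodd hn hPc hP hs
      intro g hg
      exact hfix ⟨g, hg⟩
  have e1 : p ^ s = p ^ (s - 1) * p := by
    rw [← pow_succ]
    congr 1
    omega
  rw [e1, mul_assoc]
  apply Nat.mul_dvd_mul dvd_rfl
  exact Dvd.dvd.mul_left key _

end

end Cfsg.Agent.S4003
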