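import Cfsg.Statements.S4005
import Mathlib
import Cfsg.Agent.Lib.helper3.Burnside
import Cfsg.Agent.S0044
import Cfsg.Agent.H1.Cores
import Cfsg.Agent.H1.OddCentralizers
import Cfsg.Agent.H2.FrobComplSylow

set_option autoImplicit false
open Cfsg

namespace Cfsg.Agent.S4005

open Cfsg.Agent.H1

set_option linter.unusedVariables false

universe u

variable {G : Type u} [Group G]

theorem no6 (hord : ∀ g : G, orderOf g = 1 ∨ orderOf g = 2 ∨ orderOf g = 3) {u w : G}
    (hu : orderOf u = 2) (hw : orderOf w = 3) (hc : u * w = w * u) : False := by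
  have h := Commute.orderOf_mul_eq_mul_orderOf_of_coprime (show Commute u w from hc)
    (by rw [hu, hw]; norm_num)
  rw [hu, hw] at h
  rcases hord (u * w) with h' | h' | h' <;> omega

theorem sq_of_mem_2group (hord : ∀ g : G, orderOf g = 1 ∨ orderOf g = 2 ∨ orderOf g = 3)
    {H : Subgroup G} (hH : IsPGroup 2 H) {g : G} (hg : g ∈ H) : g ^ 2 = 1 := by
  obtain ⟨k, hk⟩ := (IsPGroup.iff_orderOf.1 hH) ⟨g, hg⟩
  rw [Subgroup.orderOf_mk] at hk
  apply orderOf_dvd_iff_pow_eq_one.1
  rcases hord g with h | h | h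
  · rw [h]; exact one_dvd _
  · rw [h]
  · exfalso
    rw [h] at hk
    rcases k with _ | k
    · simp at hk
    · rw [pow_succ] at hk; omega

theorem cube_of_mem_3group (hord : ∀ g : G, orderOf g = 1 ∨ orderOf g = 2 ∨ orderOf g = 3)
    {H : Subgroup G} (hH : IsPGroup 3 H) {g : G} (hg : g ∈ H) : g ^ 3 = 1 := by
  obtain ⟨k, hk⟩ := (IsPGroup.iff_orderOf.1 hH) ⟨g, hg⟩
  rw [Subgroup.orderOf_mk] at hk
  apply orderOf_dvd_iff_pow_eq_one.1
  rcases hord g with h | h | h
  · rw [h]; exact one_dvd _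
  · exfalso
    rw [h] at hk
    rcases k with _ | k
    · simp at hk
    · rw [pow_succ] at hk; omega
  · rw [h]

theorem comm_of_sq (H : Subgroup G) (h2 : ∀ g ∈ H, g ^ 2 = 1) :
    ∀ a ∈ H, ∀ b ∈ H, a * b = b * a := by
  intro a ha b hb
  have e : ∀ g ∈ H, g⁻¹ = g := fun g hg =>
    inv_eq_of_mul_eq_one_right (by rw [← pow_two]; exact h2 g hg)
  calc a * b = (a * b)⁻¹ := (e _ (H.mul_mem ha hb)).symm
    _ = b⁻¹ * a⁻¹ := mul_inv_rev a b
    _ = b * a := by rw [e a ha, e b hb]

theorem card_eq [Finite G] (hord : ∀ g : G, orderOf g = 1 ∨ orderOf g = 2 ∨ orderOf g = 3) :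
    ∃ a b, Nat.card G = 2 ^ a * 3 ^ b := by
  have hn : Nat.card G ≠ 0 := Nat.card_pos.ne'
  obtain ⟨a, m, hm, hnm⟩ := Nat.exists_eq_two_pow_mul_odd hn
  have hm0 : m ≠ 0 := by
    rintro rfl
    rw [mul_zero] at hnm
    exact hn hnm
  obtain ⟨b, m', hm', hmm'⟩ := Nat.exists_eq_pow_mul_and_not_dvd hm0 3 (by norm_num)
  have h1 : m' = 1 := by
    by_contra h1
    obtain ⟨r, hr, hrm⟩ := Nat.exists_prime_and_dvd h1
    have hrm2 : r ∣ m := by rw [hmm']; exact Dvd.dvd.mul_left hrm _
    have hrG : r ∣ Nat.card G := by rw [hnm]; exact Dvd.dvd.mul_left hrm2 _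
    haveI := Fact.mk hr
    obtain ⟨g, hg⟩ := exists_prime_orderOf_dvd_card' r hrG
    rcases hord g with h | h | h
    · rw [hg] at h; exact hr.one_lt.ne' h
    · rw [hg] at h
      rw [h] at hrm2
      obtain ⟨k, hk⟩ := hm
      obtain ⟨l, hl⟩ := hrm2
      omega
    · rw [hg] at h
      rw [h] at hrm
      exact hm' hrm
  exact ⟨a, b, by rw [hnm, hmm', h1, mul_one]⟩

theorem card_sylow2 [Finite G] {a b : ℕ} (hcard : Nat.card G = 2 ^ a * 3 ^ b) (T : Sylow 2 G) :
    Nat.card T = 2 ^ a := by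
  rw [Sylow.card_eq_multiplicity, hcard, Nat.factorization_mul (by positivity) (by positivity),
    Finsupp.add_apply, Nat.Prime.factorization_pow Nat.prime_two,
    Nat.Prime.factorization_pow Nat.prime_three]
  simp

theorem card_sylow3 [Finite G] {a b : ℕ} (hcard : Nat.card G = 2 ^ a * 3 ^ b) (P : Sylow 3 G) :
    Nat.card P = 3 ^ b := by
  rw [Sylow.card_eq_multiplicity, hcard, Nat.factorization_mul (by positivity) (by positivity),
    Finsupp.add_apply, Nat.Prime.factorization_pow Nat.prime_two,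
    Nat.Prime.factorization_pow Nat.prime_three]
  simp

theorem main [Finite G] (hord : ∀ g : G, orderOf g = 1 ∨ orderOf g = 2 ∨ orderOf g = 3)
    (t₀ : G) (ht₀ : orderOf t₀ = 2) (x₀ : G) (hx₀ : orderOf x₀ = 3) :
    (∃ N : Subgroup G, N.Normal ∧ Cfsg.IsElementaryAbelian 3 N ∧ N.index = 2) ∨
      (∃ N : Subgroup G, N.Normal ∧ Cfsg.IsElementaryAbelian 2 N ∧ N.index = 3) := by
  classical
  haveI : Fact (Nat.Prime 2) := ⟨Nat.prime_two⟩
  haveI : Fact (Nat.Prime 3) := ⟨Nat.prime_three⟩
  obtain ⟨a, b, hcard⟩ := card_eq hord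
  haveI hsolv : Group.IsSolvable G :=
    Cfsg.Agent.Lib.helper3.Burnside.isSolvable_of_card_eq 2 3 Nat.prime_two Nat.prime_three
      (Nat.card G) G rfl ⟨a, b, hcard⟩
  have ha1 : 1 ≤ a := by
    have h2 : 2 ∣ Nat.card G := by rw [← ht₀]; exact orderOf_dvd_natCard t₀
    rw [hcard] at h2
    by_contra h
    have : a = 0 := by omega
    rw [this, pow_zero, one_mul] at h2
    have := Nat.Prime.dvd_of_dvd_pow Nat.prime_two h2
    omega
  have hb1 : 1 ≤ b := by
    have h3 : 3 ∣ Nat.card G := by rw [← hx₀]; exact orderOf_dvd_natCard x₀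
    rw [hcard] at h3
    by_contra h
    have : b = 0 := by omega
    rw [this, pow_zero, mul_one] at h3
    have := Nat.Prime.dvd_of_dvd_pow Nat.prime_three h3
    omega
  obtain ⟨V, hVdef⟩ : ∃ V : Subgroup G, V = Cfsg.pCore 2 G := ⟨_, rfl⟩
  obtain ⟨W, hWdef⟩ : ∃ W : Subgroup G, W = Cfsg.pCore 3 G := ⟨_, rfl⟩
  have hVn : V.Normal := by rw [hVdef]; infer_instance
  have hWn : W.Normal := by rw [hWdef]; infer_instance
  have hV2 : IsPGroup 2 V := by rw [hVdef]; exact pCore_isPGroup 2
  have hW3 : IsPGroup 3 W := by rw [hWdef]; exact pCore_isPGroup 3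
  have hVsq : ∀ g ∈ V, g ^ 2 = 1 := fun g hg => sq_of_mem_2group hord hV2 hg
  have hWcu : ∀ g ∈ W, g ^ 3 = 1 := fun g hg => cube_of_mem_3group hord hW3 hg
  -- Fitting subgroup
  have hF : Cfsg.fittingSubgroup G ≤ V ⊔ W := by
    rw [fittingSubgroup_eq_iSup_pCore]
    apply iSup_le
    intro p
    by_cases hp2 : (p : ℕ) = 2
    · rw [hp2, ← hVdef]; exact le_sup_left
    by_cases hp3 : (p : ℕ) = 3
    · rw [hp3, ← hWdef]; exact le_sup_right
    intro g hg
    haveI := Fact.mk p.2
    obtain ⟨k, hk⟩ := (IsPGroup.iff_orderOf.1 (pCore_isPGroup (G := G) (p : ℕ))) ⟨g, hg⟩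
    rw [Subgroup.orderOf_mk] at hk
    have hg1 : g = 1 := by
      rcases k with _ | k
      · rw [pow_zero] at hk; exact orderOf_eq_one_iff.1 hk
      · exfalso
        have hpd : (p : ℕ) ∣ orderOf g := by rw [hk]; exact dvd_pow_self _ (Nat.succ_ne_zero k)
        rcases hord g with h | h | h
        · rw [h] at hpd
          exact p.2.one_lt.ne' (Nat.dvd_one.1 hpd)
        · rw [h] at hpd
          exact hp2 ((Nat.prime_dvd_prime_iff_eq p.2 Nat.prime_two).1 hpd)
        · rw [h] at hpd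
          exact hp3 ((Nat.prime_dvd_prime_iff_eq p.2 Nat.prime_three).1 hpd)
    rw [hg1]; exact Subgroup.one_mem _
  have hCF := Cfsg.Agent.S0044.result (G := G)
  -- one of the cores is trivial
  have hVW : V = ⊥ ∨ W = ⊥ := by
    by_contra hcon
    push Not at hcon
    obtain ⟨⟨u, hu⟩, hu1⟩ := Subgroup.ne_bot_iff_exists_ne_one.1 hcon.1
    obtain ⟨⟨w, hw⟩, hw1⟩ := Subgroup.ne_bot_iff_exists_ne_one.1 hcon.2
    have hu1' : u ≠ 1 := fun h => hu1 (Subtype.ext h)
    have hw1' : w ≠ 1 := fun h => hw1 (Subtype.ext h)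
    have ou : orderOf u = 2 := orderOf_eq_prime (hVsq u hu) hu1'
    have ow : orderOf w = 3 := orderOf_eq_prime (hWcu w hw) hw1'
    have hdis : Disjoint V W := IsPGroup.disjoint_of_ne 2 3 (by norm_num) V W hV2 hW3
    exact no6 hord ou ow (Subgroup.commute_of_normal_of_disjoint V W hVn hWn hdis u w hu hw).eq
  rcases hVW with hV0 | hW0
  · -- O_2 = 1 : first alternative
    left
    have hFW : Cfsg.fittingSubgroup G ≤ W := by
      rw [hV0, bot_sup_eq] at hF; exact hF
    have hCW : Subgroup.centralizer (W : Set G) ≤ W :=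
      (Subgroup.centralizer_le hFW).trans (hCF.trans hFW)
    -- involutions invert W
    have hinvW : ∀ s : G, orderOf s = 2 → ∀ w ∈ W, s * w * s⁻¹ = w⁻¹ := by
      intro s hs
      have hss : s * s = 1 := by rw [← pow_two, ← hs]; exact pow_orderOf_eq_one s
      have hsN : s ∈ Subgroup.normalizer (W : Set G) := by
        rw [Subgroup.normalizer_eq_top_iff.2 hWn]; exact Subgroup.mem_top s
      apply fpf_invol_inverts W s hss hsN
      intro w hw hfix
      by_contra hw1
      have ow : orderOf w = 3 := orderOf_eq_prime (hWcu w hw) hw1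
      apply no6 hord hs ow
      calc s * w = (s * w * s⁻¹) * s := by group
        _ = w * s := by rw [hfix]
    have hinv := hinvW t₀ ht₀
    have hWc : ∀ u ∈ W, ∀ w ∈ W, u * w = w * u := by
      intro u hu w hw
      have h1 := hinv (u * w) (W.mul_mem hu hw)
      have h2 : t₀ * (u * w) * t₀⁻¹ = (t₀ * u * t₀⁻¹) * (t₀ * w * t₀⁻¹) := by group
      rw [h2, hinv u hu, hinv w hw, mul_inv_rev] at h1
      have h3 := congrArg (fun g => g⁻¹) h1
      have h4 : w * u = u * w := by simpa using h3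
      exact h4.symm
    have hWel : Cfsg.IsElementaryAbelian 3 W :=
      ⟨⟨⟨fun u w => Subtype.ext (hWc u u.2 w w.2)⟩⟩, hWcu⟩
    -- the Sylow 2-subgroup has order 2
    obtain ⟨T⟩ := (inferInstance : Nonempty (Sylow 2 G))
    have hTcard := card_sylow2 hcard T
    have hTsq : ∀ g ∈ (T : Subgroup G), g ^ 2 = 1 :=
      fun g hg => sq_of_mem_2group hord T.isPGroup' hg
    have hTc := comm_of_sq (T : Subgroup G) hTsq
    have hTne : (T : Subgroup G) ≠ ⊥ := by
      intro h
      have : Nat.card (T : Subgroup G) = 1 := by rw [h]; exact Subgroup.card_bot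
      rw [hTcard] at this
      have : 2 ^ 1 ≤ 2 ^ a := Nat.pow_le_pow_right (by norm_num) ha1
      omega
    obtain ⟨⟨s₀, hs₀⟩, hs₀1⟩ := Subgroup.ne_bot_iff_exists_ne_one.1 hTne
    have hs₀1' : s₀ ≠ 1 := fun h => hs₀1 (Subtype.ext h)
    have os₀ : orderOf s₀ = 2 := orderOf_eq_prime (hTsq s₀ hs₀) hs₀1'
    have hTsub : ((T : Subgroup G) : Set G) ⊆ {1, s₀} := by
      intro s hs
      by_cases hs1 : s = 1
      · left; exact hs1
      · right
        have os : orderOf s = 2 := orderOf_eq_prime (hTsq s hs) hs1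
        -- s * s₀ centralises W
        have hcent : s * s₀ ∈ Subgroup.centralizer (W : Set G) := by
          rw [Subgroup.mem_centralizer_iff]
          intro w hw
          have h1 := hinvW s₀ os₀ w hw
          have h2 := hinvW s os w⁻¹ (W.inv_mem hw)
          rw [inv_inv] at h2
          calc w * (s * s₀) = s * ((s⁻¹ * w * s) * s₀) := by group
            _ = s * (s * w * s⁻¹ * s₀) := by
                have : s⁻¹ = s := inv_eq_of_mul_eq_one_right (by rw [← pow_two]; exact hTsq s hs)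
                rw [this]
            _ = s * s₀ * (s₀⁻¹ * (s * w * s⁻¹) * s₀) := by group
            _ = s * s₀ * w := by
                have e1 : s * w * s⁻¹ = w⁻¹ := hinvW s os w hw
                have e2 : s₀⁻¹ = s₀ :=
                  inv_eq_of_mul_eq_one_right (by rw [← pow_two]; exact hTsq s₀ hs₀)
                have e3 : s₀ * w⁻¹ * s₀⁻¹ = w⁻¹⁻¹ := hinvW s₀ os₀ w⁻¹ (W.inv_mem hw)
                rw [e1]
                have e4 : s₀⁻¹ * w⁻¹ * s₀ = w := by
                  calc s₀⁻¹ * w⁻¹ * s₀ = s₀ * w⁻¹ * s₀⁻¹ := by rw [e2]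
                    _ = w := by rw [e3, inv_inv]
                rw [e4]
        have hW' := hCW hcent
        have h3 : (s * s₀) ^ 3 = 1 := hWcu _ hW'
        have h2 : (s * s₀) ^ 2 = 1 := hTsq _ ((T : Subgroup G).mul_mem hs hs₀)
        have h1 : s * s₀ = 1 := by
          calc s * s₀ = (s * s₀) ^ 3 * ((s * s₀) ^ 2)⁻¹ := by group
            _ = 1 := by rw [h3, h2]; simp
        have : s = s₀⁻¹ := eq_inv_of_mul_eq_one_left h1
        rw [this]
        exact inv_eq_of_mul_eq_one_right (by rw [← pow_two]; exact hTsq s₀ hs₀)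
    have hT2 : Nat.card (T : Subgroup G) ≤ 2 := by
      have h0 : Nat.card (T : Subgroup G) = Set.ncard ((T : Subgroup G) : Set G) :=
        Nat.card_coe_set_eq _
      have h1 := Set.ncard_le_ncard hTsub (Set.toFinite _)
      have h2 := Set.ncard_insert_le (1 : G) ({s₀} : Set G)
      rw [Set.ncard_singleton] at h2
      omega
    have ha : a = 1 := by
      rw [hTcard] at hT2
      by_contra h
      have : 2 ^ 2 ≤ 2 ^ a := Nat.pow_le_pow_right (by norm_num) (by omega)
      omega
    -- the Sylow 3-subgroup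
    obtain ⟨P⟩ := (inferInstance : Nonempty (Sylow 3 G))
    have hPcard := card_sylow3 hcard P
    have hPidx : (P : Subgroup G).index = 2 := by
      have h1 := (P : Subgroup G).card_mul_index
      rw [hPcard, hcard, ha, pow_one, mul_comm 2 (3 ^ b)] at h1
      exact Nat.eq_of_mul_eq_mul_left (by positivity) h1
    have hPn : (P : Subgroup G).Normal := Subgroup.normal_of_index_eq_two hPidx
    have hPW : (P : Subgroup G) = W := by
      apply le_antisymm
      · rw [hWdef]; exact le_pCore hPn P.isPGroup'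
      · rw [hWdef]; exact pCore_le_sylow P
    exact ⟨W, hWn, hWel, by rw [← hPW]; exact hPidx⟩
  · -- O_3 = 1 : second alternative
    right
    have hFV : Cfsg.fittingSubgroup G ≤ V := by
      rw [hW0, sup_bot_eq] at hF; exact hF
    have hCV : Subgroup.centralizer (V : Set G) ≤ V :=
      (Subgroup.centralizer_le hFV).trans (hCF.trans hFV)
    have hVc := comm_of_sq V hVsq
    have hVel : Cfsg.IsElementaryAbelian 2 V :=
      ⟨⟨⟨fun u w => Subtype.ext (hVc u u.2 w w.2)⟩⟩, hVsq⟩
    obtain ⟨T⟩ := (inferInstance : Nonempty (Sylow 2 G))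
    have hTcard := card_sylow2 hcard T
    have hTsq : ∀ g ∈ (T : Subgroup G), g ^ 2 = 1 :=
      fun g hg => sq_of_mem_2group hord T.isPGroup' hg
    have hTc := comm_of_sq (T : Subgroup G) hTsq
    have hVT : V ≤ (T : Subgroup G) := by rw [hVdef]; exact pCore_le_sylow T
    have hTV : (T : Subgroup G) ≤ V := by
      intro s hs
      apply hCV
      rw [Subgroup.mem_centralizer_iff]
      intro v hv
      exact hTc v (hVT hv) s hs
    have hVeqT : V = (T : Subgroup G) := le_antisymm hVT hTV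
    have hVcard : Nat.card V = 2 ^ a := by rw [hVeqT]; exact hTcard
    have hVne : V ≠ ⊥ := by
      intro h
      have : Nat.card V = 1 := by rw [h]; exact Subgroup.card_bot
      rw [hVcard] at this
      have : 2 ^ 1 ≤ 2 ^ a := Nat.pow_le_pow_right (by norm_num) ha1
      omega
    -- the Sylow 3-subgroup acts fixed-point-freely
    obtain ⟨P⟩ := (inferInstance : Nonempty (Sylow 3 G))
    have hPcard := card_sylow3 hcard P
    have hPcu : ∀ g ∈ (P : Subgroup G), g ^ 3 = 1 :=
      fun g hg => cube_of_mem_3group hord P.isPGroup' hg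
    have hfpf : ∀ h ∈ (P : Subgroup G), h ≠ 1 → V ⊓ Subgroup.centralizer {h} = ⊥ := by
      intro h hh hh1
      rw [eq_bot_iff]
      intro v hv
      rw [Subgroup.mem_bot]
      by_contra hv1
      have ov : orderOf v = 2 := orderOf_eq_prime (hVsq v hv.1) hv1
      have oh : orderOf h = 3 := orderOf_eq_prime (hPcu h hh) hh1
      exact no6 hord ov oh (Subgroup.mem_centralizer_singleton_iff.1 hv.2)
    obtain ⟨Q⟩ := (inferInstance : Nonempty (Sylow 3 ↥(P : Subgroup G)))
    have hQcard : Nat.card Q = 3 ^ b := by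
      rw [Sylow.card_eq_multiplicity, hPcard, Nat.Prime.factorization_pow Nat.prime_three]
      simp
    have hb : b = 1 := by
      rcases Cfsg.Agent.H2.FCS.sylow_cyclic_or_quaternion V (P : Subgroup G) hVne hfpf 3 Q with
        hc | ⟨n, ⟨e⟩⟩
      · haveI := hc
        obtain ⟨g, hg⟩ := IsCyclic.exists_ofOrder_eq_natCard (α := ↥Q)
        have h1 : orderOf (((g : ↥(P : Subgroup G)) : G)) = orderOf g := by
          rw [Subgroup.orderOf_coe, Subgroup.orderOf_coe]
        have hQcard' : Nat.card ↥Q = 3 ^ b := hQcard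
        rw [hg, hQcard'] at h1
        have h2 : 3 ^ b ≤ 3 := by
          rcases hord (((g : ↥(P : Subgroup G)) : G)) with h | h | h <;> omega
        by_contra h
        have : 3 ^ 2 ≤ 3 ^ b := Nat.pow_le_pow_right (by norm_num) (by omega)
        omega
      · exfalso
        have h1 : Nat.card Q = 4 * 2 ^ n := by
          rw [Nat.card_congr e.toEquiv, Nat.card_eq_fintype_card, QuaternionGroup.card]
        rw [hQcard] at h1
        have h2 : 2 ∣ 3 ^ b := by rw [h1]; exact Dvd.intro (2 * 2 ^ n) (by ring)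
        have := Nat.Prime.dvd_of_dvd_pow Nat.prime_two h2
        omega
    have hVidx : V.index = 3 := by
      have h1 := V.card_mul_index
      rw [hVcard, hcard, hb, pow_one] at h1
      exact Nat.eq_of_mul_eq_mul_left (by positivity) h1
    exact ⟨V, hVn, hVel, hVidx⟩

/-- A finite group whose set of element orders is exactly {1, 2, 3} has either a normal elementary abelian 3-subgroup of index 2 or a normal elementary abelian 2-subgroup of index 3. -/
theorem result {G : Type*} [Group G] [Finite G] (h : Set.range (orderOf : G → ℕ) = {k : ℕ | 1 ≤ k ∧ k ≤ 3}) :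
    (∃ N : Subgroup G, N.Normal ∧ Cfsg.IsElementaryAbelian 3 N ∧ N.index = 2) ∨
      (∃ N : Subgroup G, N.Normal ∧ Cfsg.IsElementaryAbelian 2 N ∧ N.index = 3) := by
  have hmem : ∀ g : G, orderOf g ∈ {k : ℕ | 1 ≤ k ∧ k ≤ 3} := by
    intro g; rw [← h]; exact Set.mem_range_self g
  have hord : ∀ g : G, orderOf g = 1 ∨ orderOf g = 2 ∨ orderOf g = 3 := by
    intro g
    have := hmem g
    simp only [Set.mem_ofPred_eq] at this
    omega
  have h2 : (2 : ℕ) ∈ Set.range (orderOf : G → ℕ) := by rw [h]; simp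
  have h3 : (3 : ℕ) ∈ Set.range (orderOf : G → ℕ) := by rw [h]; simp
  obtain ⟨t₀, ht₀⟩ := h2
  obtain ⟨x₀, hx₀⟩ := h3
  exact main hord t₀ ht₀ x₀ hx₀

end Cfsg.Agent.S4005
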