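import Cfsg.Statements.S4006
import Cfsg.Agent.H1.OrdersLeFour

set_option autoImplicit false
open Cfsg

namespace Cfsg.Agent.S4006

set_option autoImplicit false
open Cfsg

/-- A finite group whose set of element orders is exactly {1, 2, 3, 4} has a normal subgroup N such that either N is a 2-group of exponent 4 and nilpotency class at most 2 with G/N of order 3, or N is an elementary abelian 2-group with G/N isomorphic to the symmetric group of degree 3, or N is an elementary abelian 3-group with G/N cyclic of order 4 or quaternion of order 8. -/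
theorem result {G : Type*} [Group G] [Finite G] (h : Set.range (orderOf : G → ℕ) = {k : ℕ | 1 ≤ k ∧ k ≤ 4}) :
    ∃ (N : Subgroup G) (_ : N.Normal),
      (IsPGroup 2 ↥N ∧ Monoid.exponent ↥N = 4 ∧ Group.nilpotencyClass ↥N ≤ 2 ∧ N.index = 3) ∨
      (Cfsg.IsElementaryAbelian 2 N ∧ Nonempty (G ⧸ N ≃* Equiv.Perm (Fin 3))) ∨
      (Cfsg.IsElementaryAbelian 3 N ∧ ((IsCyclic (G ⧸ N) ∧ N.index = 4) ∨ Nonempty (G ⧸ N ≃* QuaternionGroup 2))) := by
  have hord : ∀ g : G, orderOf g ≤ 4 := by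
    intro g
    have h1 : orderOf g ∈ Set.range (orderOf : G → ℕ) := Set.mem_range_self g
    rw [h] at h1
    exact h1.2
  have h' : Cfsg.Agent.H1.OrdersLeFour.Ord4 G := by
    intro g
    have h1 := hord g
    have h0 := orderOf_pos g
    have h2 : orderOf g = 1 ∨ orderOf g = 2 ∨ orderOf g = 3 ∨ orderOf g = 4 := by omega
    rcases h2 with h2 | h2 | h2 | h2
    · left; exact orderOf_dvd_iff_pow_eq_one.mp (by rw [h2]; norm_num)
    · left; exact orderOf_dvd_iff_pow_eq_one.mp (by rw [h2]; norm_num)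
    · right; exact orderOf_dvd_iff_pow_eq_one.mp (by rw [h2])
    · left; exact orderOf_dvd_iff_pow_eq_one.mp (by rw [h2])
  obtain ⟨g3, h3⟩ : (3 : ℕ) ∈ Set.range (orderOf : G → ℕ) := by
    rw [h]; constructor <;> norm_num
  obtain ⟨g4, h4⟩ : (4 : ℕ) ∈ Set.range (orderOf : G → ℕ) := by
    rw [h]; constructor <;> norm_num
  by_cases hT : Cfsg.pCore 3 G = ⊥
  · rcases Cfsg.Agent.H1.OrdersLeFour.caseA h' g3 g4 h3 h4 (Cfsg.pCore 2 G) rfl hT with h1 | h1
    · exact ⟨Cfsg.pCore 2 G, inferInstance, Or.inl h1⟩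
    · exact ⟨Cfsg.pCore 2 G, inferInstance, Or.inr (Or.inl h1)⟩
  · exact ⟨Cfsg.pCore 3 G, inferInstance,
      Or.inr (Or.inr (Cfsg.Agent.H1.OrdersLeFour.caseB h' g4 h4 (Cfsg.pCore 3 G) rfl hT))⟩

end Cfsg.Agent.S4006
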