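import Cfsg.Statements.S4013
import Mathlib
import Cfsg.Agent.H1.Basic
import Cfsg.Agent.H1.Card

set_option autoImplicit false
open Cfsg

namespace Cfsg.Agent.S4013

open Cfsg.Agent.H1

/-- Let G be a finite p-group (p prime) and N < M normal subgroups of G such that for some g ∈ M ∖ N the conjugacy class of g is exactly M ∖ N. Then p = 2 and N has index 2 in M. -/
theorem result {G : Type*} [Group G] [Finite G] (p : ℕ) [Fact p.Prime] (hG : IsPGroup p G) (N M : Subgroup G) [N.Normal] [M.Normal] (hNM : N < M) (g : G) (hgM : g ∈ M) (hgN : g ∉ N) (hcl : {h : G | IsConj g h} = (M : Set G) \ (N : Set G)) : p = 2 ∧ N.relIndex M = 2 := by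
  have hp : p.Prime := Fact.out
  -- the class size is a power of p
  have horb : {h : G | IsConj g h} = MulAction.orbit (ConjAct G) g := by
    ext h
    rw [ConjAct.mem_orbit_conjAct, Set.mem_ofPred_eq, isConj_comm]
  have : Finite (ConjAct G) := inferInstanceAs (Finite G)
  have hidx := MulAction.index_stabilizer (ConjAct G) g
  have hG' : IsPGroup p (ConjAct G) := hG
  obtain ⟨c, hc⟩ := hG'.index (MulAction.stabilizer (ConjAct G) g)
  rw [hidx, ← horb, hcl] at hc
  have hsub : (N : Set G) ⊆ (M : Set G) := hNM.le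
  rw [Set.ncard_sdiff hsub (Set.toFinite _), ← Nat.card_coe_set_eq, ← Nat.card_coe_set_eq] at hc
  have hc' : Nat.card M - Nat.card N = p ^ c := hc
  have hMN := card_eq_relIndex_mul_card hNM.le
  set r := N.relIndex M with hr
  obtain ⟨a, ha⟩ := IsPGroup.iff_card.mp (hG.to_subgroup N)
  obtain ⟨k, hk⟩ : ∃ k, r = p ^ k := by
    have := IsPGroup.index (p := p) (hG.to_subgroup M) (N.subgroupOf M)
    exact this
  have hk1 : k ≠ 0 := by
    rintro rfl
    rw [pow_zero] at hk
    rw [hr, Subgroup.relIndex_eq_one] at hk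
    exact absurd hk (not_le_of_gt hNM)
  rw [hMN, ha, hk] at hc'
  -- (p^k - 1) * p^a = p^c
  have h1 : (p ^ k - 1) * p ^ a = p ^ c := by
    rw [← hc', Nat.sub_mul, one_mul]
  have h2 : (p ^ k - 1) ∣ p ^ c := Dvd.intro _ h1
  obtain ⟨i, _, hi⟩ := (Nat.dvd_prime_pow hp).mp h2
  have hpk : 1 ≤ p ^ k := Nat.one_le_pow _ _ hp.pos
  have hi0 : i = 0 := by
    by_contra hi0
    have h3 : p ∣ p ^ i := dvd_pow_self p hi0
    have h4 : p ∣ p ^ k := dvd_pow_self p hk1
    have h5 : p ∣ p ^ k - (p ^ k - 1) := Nat.dvd_sub h4 (hi ▸ h3)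
    have h6 : p ^ k - (p ^ k - 1) = 1 := by omega
    rw [h6] at h5
    exact hp.one_lt.ne' (Nat.dvd_one.mp h5)
  rw [hi0, pow_zero] at hi
  have h7 : p ^ k = 2 := by omega
  have h8 : p ∣ 2 := by rw [← h7]; exact dvd_pow_self p hk1
  have h9 : p = 2 := (Nat.prime_dvd_prime_iff_eq hp Nat.prime_two).mp h8
  exact ⟨h9, by rw [hk, h7]⟩

end Cfsg.Agent.S4013
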