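import Cfsg.Statements.S4014
import Cfsg.Agent.Lib.Helper7.SylDL

set_option autoImplicit false
open Cfsg

namespace Cfsg.Agent.S4014

/-- Let p be a prime, n ≥ 1, and P a Sylow p-subgroup of the symmetric group on n letters. Then the derived length of P is exactly k = ⌊log_p n⌋ (the largest k with p^k ≤ n): the k-th derived subgroup of P is trivial and, when k ≥ 1, the (k−1)-st is not. -/
theorem result (p : ℕ) [Fact p.Prime] (n : ℕ) (hn : 1 ≤ n) (P : Sylow p (Equiv.Perm (Fin n))) : derivedSeries ↥(P : Subgroup (Equiv.Perm (Fin n))) (Nat.log p n) = ⊥ ∧ (1 ≤ Nat.log p n → derivedSeries ↥(P : Subgroup (Equiv.Perm (Fin n))) (Nat.log p n - 1) ≠ ⊥) := by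
  have hp : p.Prime := Fact.out
  constructor
  · apply Cfsg.Agent.Lib.Helper7.SylDL.derivedSeries_eq_bot_of_orbit_lt (p := p) (Nat.log p n) P.2
      (α := Fin n)
    intro x
    calc (MulAction.orbit ↥(P : Subgroup (Equiv.Perm (Fin n))) x).ncard ≤ Nat.card (Fin n) :=
          Set.ncard_le_card _
      _ = n := Nat.card_fin n
      _ < p ^ (Nat.log p n + 1) := Nat.lt_pow_succ_log_self hp.one_lt n
  · intro hk
    obtain ⟨ψ, hψ⟩ := Cfsg.Agent.Lib.Helper7.SylDL.exists_injective_iterated p n (Nat.log p n)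
      (Nat.pow_log_le_self p (by omega)) P
    generalize Nat.log p n = k at hk ψ hψ ⊢
    obtain ⟨m, rfl⟩ : ∃ m, k = m + 1 := ⟨k - 1, by omega⟩
    intro hbot
    have : Fact (1 < p) := ⟨hp.one_lt⟩
    have h1 := Cfsg.Agent.Lib.Helper7.SylDL.derivedSeries_iterated_ne_bot
      (G := Multiplicative (ZMod p)) m
    apply h1
    have h2 := map_derivedSeries_le_derivedSeries ψ m
    rw [Nat.add_sub_cancel] at hbot
    rw [hbot, le_bot_iff] at h2
    rw [eq_bot_iff]
    intro x hx
    have h3 : ψ x ∈ (derivedSeries (IteratedWreathProduct (Multiplicative (ZMod p)) (m + 1)) m).map ψ :=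
      Subgroup.mem_map_of_mem _ hx
    rw [h2, Subgroup.mem_bot] at h3
    rw [Subgroup.mem_bot]
    exact hψ (h3.trans (map_one ψ).symm)

end Cfsg.Agent.S4014
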