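import Cfsg.Statements.S4417
import Mathlib
import Cfsg.Agent.S4010

set_option autoImplicit false
open Cfsg

namespace Cfsg.Agent.S4417

open Cfsg.Agent.S4010

section Maschke
variable {K : Type*} [Field K] {V : Type*} [AddCommGroup V] [Module K V]
variable {P : Type*} [Group P] [Fintype P]

theorem maschke (ρ : P →* Module.End K V) (hcard : (Fintype.card P : K) ≠ 0)
    (W : Submodule K V) (hW : ∀ g, W ≤ W.comap (ρ g)) :
    ∃ W' : Submodule K V, (∀ g, W' ≤ W'.comap (ρ g)) ∧ IsCompl W W' := by
  classical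
  obtain ⟨π, hπ⟩ := LinearMap.exists_leftInverse_of_injective W.subtype
    (LinearMap.ker_eq_bot.2 W.injective_subtype)
  have hπw : ∀ w : W, π w.1 = w := fun w => by
    have := congrArg (fun f : W →ₗ[K] W => f w) hπ
    simpa using this
  obtain ⟨T, hT⟩ : ∃ T : Module.End K V,
      T = (Fintype.card P : K)⁻¹ • ∑ g : P, ρ g * (W.subtype.comp π) * ρ g⁻¹ := ⟨_, rfl⟩
  have hTapply : ∀ v, T v = (Fintype.card P : K)⁻¹ • ∑ g : P, ρ g ((π (ρ g⁻¹ v) : W) : V) := by
    intro v
    rw [hT, LinearMap.smul_apply, LinearMap.sum_apply]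
    rfl
  have hTW : ∀ v, T v ∈ W := by
    intro v
    rw [hTapply]
    apply Submodule.smul_mem
    apply Submodule.sum_mem
    intro g _
    exact hW g (π (ρ g⁻¹ v)).2
  have hTfix : ∀ w ∈ W, T w = w := by
    intro w hw
    rw [hTapply]
    have h1 : ∀ g : P, ρ g ((π (ρ g⁻¹ w) : W) : V) = w := by
      intro g
      have h2 : ρ g⁻¹ w ∈ W := hW g⁻¹ hw
      have h3 := hπw ⟨_, h2⟩
      change π (ρ g⁻¹ w) = ⟨_, h2⟩ at h3
      rw [h3]
      exact rho_apply_inv ρ g w
    rw [Finset.sum_congr rfl (fun g _ => h1 g), Finset.sum_const, Finset.card_univ,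
      ← Nat.cast_smul_eq_nsmul K, smul_smul, inv_mul_cancel₀ hcard, one_smul]
  have hTcomm : ∀ (h : P) (v : V), T (ρ h v) = ρ h (T v) := by
    intro h v
    rw [hTapply, hTapply, map_smul, map_sum]
    congr 1
    apply Fintype.sum_equiv (Equiv.mulLeft h⁻¹)
    intro g
    change ρ g ((π (ρ g⁻¹ (ρ h v)) : W) : V) = ρ h (ρ (h⁻¹ * g) ((π (ρ (h⁻¹ * g)⁻¹ v) : W) : V))
    rw [← rho_mul_apply ρ h, mul_inv_cancel_left, ← rho_mul_apply ρ g⁻¹ h, mul_inv_rev, inv_inv]
  refine ⟨LinearMap.ker T, ?_, ?_⟩
  · intro h v hv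
    rw [Submodule.mem_comap, LinearMap.mem_ker, hTcomm]
    rw [LinearMap.mem_ker] at hv
    rw [hv, map_zero]
  · constructor
    · rw [Submodule.disjoint_def]
      intro w hw hw'
      rw [LinearMap.mem_ker, hTfix w hw] at hw'
      exact hw'
    · rw [codisjoint_iff, eq_top_iff]
      intro v _
      have e : v = T v + (v - T v) := by abel
      rw [e]
      apply Submodule.add_mem_sup (hTW v)
      rw [LinearMap.mem_ker, map_sub, hTfix _ (hTW v), sub_self]

end Maschke

open Cfsg.Agent.S4010

universe u v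

section ClaimY
variable {K : Type*} [Field K] {V : Type*} [AddCommGroup V] [Module K V]
variable {P : Type*} [Group P]

theorem eig_res_le [FiniteDimensional K V] (ρ : P →* Module.End K V) (W : Submodule K V)
    (hW : ∀ g, W ≤ W.comap (ρ g)) (g : P) (ζ : K) :
    Module.finrank K (Module.End.eigenspace (resRep ρ W hW g) ζ)
      ≤ Module.finrank K (Module.End.eigenspace (ρ g) ζ) := by
  have hmem : ∀ x : Module.End.eigenspace (resRep ρ W hW g) ζ,
      (W.subtype.comp (Module.End.eigenspace (resRep ρ W hW g) ζ).subtype) x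
        ∈ Module.End.eigenspace (ρ g) ζ := by
    intro x
    have hx := x.2
    rw [Module.End.mem_eigenspace_iff] at hx ⊢
    have := congrArg (fun w : W => (w : V)) hx
    simpa [resRep_apply] using this
  have hinj : Function.Injective (LinearMap.codRestrict (Module.End.eigenspace (ρ g) ζ)
      (W.subtype.comp (Module.End.eigenspace (resRep ρ W hW g) ζ).subtype) hmem) := by
    intro x y hxy
    have h1 := congrArg (fun w : Module.End.eigenspace (ρ g) ζ => (w : V)) hxy
    simp only [LinearMap.codRestrict_apply, LinearMap.comp_apply, Submodule.subtype_apply] at h1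
    exact Subtype.ext (Subtype.ext h1)
  exact LinearMap.finrank_le_finrank_of_injective hinj

theorem exists_central_nontrivial [Finite P] (p : ℕ) [Fact p.Prime] (hP : IsPGroup p P)
    (ρ : P →* Module.End K V) (hne : ρ.ker ≠ ⊤) :
    ∃ z : P, z ∉ ρ.ker ∧ ∀ h, ρ h * ρ z = ρ z * ρ h := by
  haveI : Nontrivial (P ⧸ ρ.ker) := by
    obtain ⟨g, hg⟩ : ∃ g, g ∉ ρ.ker := by
      by_contra hcon
      push Not at hcon
      exact hne (eq_top_iff.2 fun g _ => hcon g)
    refine ⟨⟨(g : P ⧸ ρ.ker), 1, ?_⟩⟩
    intro e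
    exact hg ((QuotientGroup.eq_one_iff g).1 e)
  have hPq : IsPGroup p (P ⧸ ρ.ker) := hP.to_quotient ρ.ker
  haveI : Nontrivial (Subgroup.center (P ⧸ ρ.ker)) := hPq.center_nontrivial
  obtain ⟨⟨c, hc⟩, hc1⟩ := exists_ne (1 : Subgroup.center (P ⧸ ρ.ker))
  obtain ⟨z, rfl⟩ := QuotientGroup.mk_surjective c
  refine ⟨z, ?_, ?_⟩
  · intro hz
    apply hc1
    apply Subtype.ext
    exact (QuotientGroup.eq_one_iff z).2 hz
  · intro h
    have h1 := Subgroup.mem_center_iff.1 hc (h : P ⧸ ρ.ker)
    rw [← QuotientGroup.mk_mul, ← QuotientGroup.mk_mul, QuotientGroup.eq, MonoidHom.mem_ker] at h1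
    have h2 : ρ (h * z) * ρ ((h * z)⁻¹ * (z * h)) = ρ (h * z) := by rw [h1, mul_one]
    rw [← map_mul, mul_inv_cancel_left] at h2
    rw [← map_mul, ← map_mul]
    exact h2.symm

end ClaimY

theorem claimY (K : Type*) [Field K] [IsAlgClosed K] (p : ℕ) [Fact p.Prime] (hp : (p : K) ≠ 0)
    (N : ℕ) :
    ∀ n : ℕ, ∀ (P : Type u) [Group P] [Finite P], IsPGroup p P →
      ∀ (V : Type v) [AddCommGroup V] [Module K V] [FiniteDimensional K V],
        Module.finrank K V = n → ∀ ρ : P →* Module.End K V,
          (∀ (g : P) (ζ : K), ζ ≠ 1 →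
            Module.finrank K (Module.End.eigenspace (ρ g) ζ) ≤ N) →
          derivedSeries P (Nat.log 2 N + 1) ≤ ρ.ker := by
  intro n
  induction n using Nat.strong_induction_on with
  | _ n ih =>
    intro P _ _ hP V _ _ _ hV ρ hN
    by_cases hirr : Irr ρ
    · by_cases htriv : ρ.ker = ⊤
      · rw [htriv]; exact le_top
      · obtain ⟨z, hzker, hzc⟩ := exists_central_nontrivial p hP ρ htriv
        haveI : Nontrivial V := by
          by_contra hV'
          rw [not_nontrivial_iff_subsingleton] at hV'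
          apply hzker
          rw [MonoidHom.mem_ker]
          apply LinearMap.ext
          intro v
          exact Subsingleton.elim _ _
        obtain ⟨μ, hμ⟩ := schur ρ hirr (ρ z) hzc
        have hμ1 : μ ≠ 1 := by
          intro e
          apply hzker
          rw [MonoidHom.mem_ker, hμ, e, one_smul]
        have htop : Module.End.eigenspace (ρ z) μ = ⊤ := by
          rw [eq_top_iff]
          intro v _
          rw [Module.End.mem_eigenspace_iff, hμ, LinearMap.smul_apply, Module.End.one_apply]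
        have hnN : n ≤ N := by
          have := hN z μ hμ1
          rw [htop, finrank_top, hV] at this
          exact this
        have hn1 : 1 ≤ n := by
          rw [← hV]
          exact Module.finrank_pos
        have h1 := main_ne K p hp n hn1 P hP V hV ρ
        refine le_trans (derivedSeries_antitone P ?_) h1
        have := Nat.log_mono_right (b := 2) hnN
        omega
    · unfold Irr at hirr
      push Not at hirr
      obtain ⟨W, hW, hWb, hWt⟩ := hirr
      haveI := Fintype.ofFinite P
      have hcard : (Fintype.card P : K) ≠ 0 := by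
        obtain ⟨k, hk⟩ := IsPGroup.iff_card.1 hP
        rw [← Nat.card_eq_fintype_card, hk, Nat.cast_pow]
        exact pow_ne_zero _ hp
      obtain ⟨W', hW', hcompl⟩ := maschke ρ hcard W hW
      have hW't : W' ≠ ⊤ := by
        intro e
        apply hWb
        have := hcompl.disjoint
        rw [e] at this
        exact disjoint_top.1 this
      have i1 := ih (Module.finrank K W) (hV ▸ Submodule.finrank_lt hWt) P hP W rfl
        (resRep ρ W hW) (fun g ζ hζ => le_trans (eig_res_le ρ W hW g ζ) (hN g ζ hζ))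
      have i2 := ih (Module.finrank K W') (hV ▸ Submodule.finrank_lt hW't) P hP W' rfl
        (resRep ρ W' hW') (fun g ζ hζ => le_trans (eig_res_le ρ W' hW' g ζ) (hN g ζ hζ))
      intro g hg
      have h1 := i1 hg
      have h2 := i2 hg
      rw [MonoidHom.mem_ker] at h1 h2 ⊢
      apply LinearMap.ext
      intro v
      have hv : v ∈ W ⊔ W' := by rw [hcompl.sup_eq_top]; exact Submodule.mem_top
      obtain ⟨w, hw, w', hw', rfl⟩ := Submodule.mem_sup.1 hv
      have e1 : ρ g w = w := by
        have := congrArg (fun f : Module.End K W => ((f ⟨w, hw⟩ : W) : V)) h1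
        simpa [resRep_apply] using this
      have e2 : ρ g w' = w' := by
        have := congrArg (fun f : Module.End K W' => ((f ⟨w', hw'⟩ : W') : V)) h2
        simpa [resRep_apply] using this
      rw [map_add, e1, e2]
      rfl

open Cfsg.Agent.S4010

section Frob
variable {F : Type*} [Field F] [Fintype F] {K : Type*} [Field K] [Algebra F K] [IsAlgClosed K]
variable {n : ℕ}

/-- coordinatewise Frobenius -/
def phi (F : Type*) [Fintype F] {K : Type*} [Field K] {n : ℕ} (v : Fin n → K) : Fin n → K :=
  fun i => (v i) ^ Fintype.card F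

theorem frob_add (x y : K) :
    (x + y) ^ Fintype.card F = x ^ Fintype.card F + y ^ Fintype.card F := by
  exact (FiniteField.frobeniusAlgHom F K).map_add x y

theorem frob_sum {ι : Type*} (s : Finset ι) (f : ι → K) :
    (∑ i ∈ s, f i) ^ Fintype.card F = ∑ i ∈ s, (f i) ^ Fintype.card F := by
  exact map_sum (FiniteField.frobeniusAlgHom F K) f s

theorem frob_algebraMap (x : F) : (algebraMap F K x) ^ Fintype.card F = algebraMap F K x := by
  rw [← map_pow, FiniteField.pow_card]

theorem toLin_apply (M : Matrix (Fin n) (Fin n) K) (v : Fin n → K) (i : Fin n) :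
    (Matrix.toLinAlgEquiv' M) v i = ∑ j, M i j * v j := by
  rw [Matrix.toLinAlgEquiv'_apply]
  rfl

theorem phi_eig (M : Matrix (Fin n) (Fin n) F) (ζ : K) (v : Fin n → K)
    (hv : (Matrix.toLinAlgEquiv' (M.map (algebraMap F K))) v = ζ • v) :
    (Matrix.toLinAlgEquiv' (M.map (algebraMap F K))) (phi F v) = (ζ ^ Fintype.card F) • phi F v := by
  funext i
  rw [toLin_apply, Pi.smul_apply, smul_eq_mul]
  have h1 := congrFun hv i
  rw [toLin_apply, Pi.smul_apply, smul_eq_mul] at h1
  have h2 : (∑ j, (M.map (algebraMap F K)) i j * v j) ^ Fintype.card F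
      = (ζ * v i) ^ Fintype.card F := by rw [h1]
  rw [frob_sum (F := F), mul_pow] at h2
  rw [show phi F v i = (v i) ^ Fintype.card F from rfl, ← h2]
  apply Finset.sum_congr rfl
  intro j _
  rw [mul_pow, Matrix.map_apply, frob_algebraMap]
  rfl

/-- the operator on `K^n` of a matrix over `F` -/
noncomputable def AM (K : Type*) [Field K] [Algebra F K] (M : Matrix (Fin n) (Fin n) F) :
    Module.End K (Fin n → K) := Matrix.toLinAlgEquiv' (M.map (algebraMap F K))

theorem AM_eig (M : Matrix (Fin n) (Fin n) F) (ζ : K) (v : Fin n → K)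
    (hv : AM K M v = ζ • v) : AM K M (phi F v) = (ζ ^ Fintype.card F) • phi F v :=
  phi_eig M ζ v hv

theorem eig_frob_le (M : Matrix (Fin n) (Fin n) F) (ζ : K) :
    Module.finrank K (Module.End.eigenspace (AM K M) ζ)
      ≤ Module.finrank K (Module.End.eigenspace (AM K M) (ζ ^ Fintype.card F)) := by
  classical
  have hq : 0 < Fintype.card F := Fintype.card_pos
  let b := Module.finBasis K (Module.End.eigenspace (AM K M) ζ)
  have hmem : ∀ i, phi F ((b i : Module.End.eigenspace (AM K M) ζ) : Fin n → K)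
      ∈ Module.End.eigenspace (AM K M) (ζ ^ Fintype.card F) := by
    intro i
    rw [Module.End.mem_eigenspace_iff]
    apply AM_eig
    have := (b i).2
    rw [Module.End.mem_eigenspace_iff] at this
    exact this
  have hli : LinearIndependent K (fun i => (⟨_, hmem i⟩ :
      Module.End.eigenspace (AM K M) (ζ ^ Fintype.card F))) := by
    rw [Fintype.linearIndependent_iff]
    intro c hc
    choose c' hc' using fun i => IsAlgClosed.exists_pow_nat_eq (c i) hq
    have h1 : ∑ i, c' i • (b i) = 0 := by
      apply Subtype.ext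
      funext k
      have h2 := congrArg (fun w : Module.End.eigenspace (AM K M) (ζ ^ Fintype.card F) =>
        (w : Fin n → K) k) hc
      simp only [Submodule.coe_sum, Submodule.coe_smul, Finset.sum_apply, Pi.smul_apply,
        smul_eq_mul, Submodule.coe_zero, Pi.zero_apply] at h2 ⊢
      have h3 : (∑ i, c' i * ((b i : Module.End.eigenspace (AM K M) ζ) : Fin n → K) k)
          ^ Fintype.card F = 0 := by
        rw [frob_sum (F := F), ← h2]
        apply Finset.sum_congr rfl
        intro i _
        rw [mul_pow, hc' i]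
        rfl
      exact pow_eq_zero_iff hq.ne' |>.1 h3
    have h4 := (Fintype.linearIndependent_iff.1 b.linearIndependent) c' h1
    intro i
    rw [← hc' i, h4 i, zero_pow hq.ne']
  have := hli.fintype_card_le_finrank
  rw [Fintype.card_fin] at this
  exact this

end Frob

open Cfsg.Agent.S4010

theorem frob_orbit_injective {K : Type*} [Field K] (p q : ℕ) [Fact p.Prime]
    (ζ : K) (hζ1 : ζ ≠ 1) (j : ℕ) (hζ : ζ ^ (p ^ j) = 1) :
    Function.Injective (fun t : Fin (orderOf (q : ZMod p)) => ζ ^ (q ^ t.val)) := by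
  intro s t hst
  simp only at hst
  have hfin : IsOfFinOrder ζ :=
    isOfFinOrder_iff_pow_eq_one.2 ⟨p ^ j, pow_pos (Fact.out : p.Prime).pos j, hζ⟩
  have h1 := hfin.pow_eq_pow_iff_modEq.1 hst
  have hdvd : orderOf ζ ∣ p ^ j := orderOf_dvd_of_pow_eq_one hζ
  obtain ⟨i, _, hi⟩ := (Nat.dvd_prime_pow (Fact.out : p.Prime)).1 hdvd
  have hi0 : i ≠ 0 := by
    intro e
    rw [e, pow_zero, orderOf_eq_one_iff] at hi
    exact hζ1 hi
  have hp : p ∣ orderOf ζ := by
    rw [hi]
    exact dvd_pow_self p hi0
  have h2 : q ^ s.val ≡ q ^ t.val [MOD p] := h1.of_dvd hp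
  have h3 : ((q ^ s.val : ℕ) : ZMod p) = ((q ^ t.val : ℕ) : ZMod p) :=
    (ZMod.natCast_eq_natCast_iff _ _ _).2 h2
  rw [Nat.cast_pow, Nat.cast_pow] at h3
  exact Fin.ext (pow_injOn_Iio_orderOf (Set.mem_Iio.2 s.2) (Set.mem_Iio.2 t.2) h3)

theorem sum_finrank_le {K : Type*} [Field K] {V : Type*} [AddCommGroup V] [Module K V]
    [FiniteDimensional K V] {ι : Type*} [DecidableEq ι] (E : ι → Submodule K V)
    (hE : iSupIndep E) (s : Finset ι) :
    ∑ i ∈ s, Module.finrank K (E i) = Module.finrank K (⨆ i ∈ s, E i : Submodule K V) := by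
  induction s using Finset.induction_on with
  | empty =>
    have e : (⨆ i ∈ (∅ : Finset ι), E i : Submodule K V) = ⊥ := by simp
    rw [Finset.sum_empty, e, finrank_bot]
  | insert a s ha ih =>
    rw [Finset.sum_insert ha, Finset.iSup_insert, ih]
    have hdisj : Disjoint (E a) (⨆ i ∈ s, E i) := by
      have := hE.disjoint_biSup (x := a) (y := (s : Set ι)) (by simpa using ha)
      simpa using this
    have := Submodule.finrank_sup_add_finrank_inf_eq (E a) (⨆ i ∈ s, E i)
    rw [hdisj.eq_bot, finrank_bot, add_zero] at this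
    exact this.symm

theorem eig_pow_apply {K : Type*} [Field K] {V : Type*} [AddCommGroup V] [Module K V]
    (A : Module.End K V) (ζ : K) (v : V) (hv : A v = ζ • v) (m : ℕ) :
    (A ^ m) v = ζ ^ m • v := by
  induction m with
  | zero => simp
  | succ m ih =>
    rw [pow_succ, Module.End.mul_apply, hv, map_smul, ih, smul_smul, pow_succ, mul_comm]

open Cfsg.Agent.S4010

/-- Let F be a field with q elements, p a prime not dividing q, and e the multiplicative order of q modulo p; assume e ≤ n. Then every p-subgroup of GL_n(F) has derived length at most ⌊log₂(n/e)⌋ + 1: that term of its derived series is trivial (n/e is the integer quotient). -/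
theorem result {F : Type*} [Field F] [Fintype F] (q : ℕ) (hF : Fintype.card F = q) (p : ℕ) [Fact p.Prime] (hpq : ¬ p ∣ q) (n e : ℕ) (he : e = orderOf (q : ZMod p)) (hen : e ≤ n) (P : Subgroup (GL (Fin n) F)) (hP : IsPGroup p P) : derivedSeries ↥P (Nat.log 2 (n / e) + 1) = ⊥ := by
  classical
  subst he
  have hpK : ((p : ℕ) : AlgebraicClosure F) ≠ 0 := by
    intro h0
    apply hpq
    have h1 : ((p : ℕ) : F) = 0 := by
      apply (algebraMap F (AlgebraicClosure F)).injective
      rw [map_natCast, map_zero]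
      exact h0
    haveI : CharP F p := (CharP.charP_iff_prime_eq_zero (Fact.out : p.Prime)).2 h1
    rw [← hF]
    exact (CharP.cast_eq_zero_iff F p _).1 (Nat.cast_card_eq_zero F)
  have he0 : 0 < orderOf (q : ZMod p) := by
    rw [orderOf_pos_iff]
    have hq0 : (q : ZMod p) ≠ 0 := by
      rw [Ne, ZMod.natCast_eq_zero_iff]
      exact hpq
    exact isOfFinOrder_iff_pow_eq_one.2
      ⟨p - 1, Nat.sub_pos_of_lt (Fact.out : p.Prime).one_lt, ZMod.pow_card_sub_one_eq_one hq0⟩
  obtain ⟨ρ', hρ'⟩ : ∃ ρ' : ↥P →* Module.End (AlgebraicClosure F) (Fin n → AlgebraicClosure F),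
      ρ' = matRep F (AlgebraicClosure F) n P.subtype := ⟨_, rfl⟩
  have hinj : Function.Injective ρ' := by
    rw [hρ']
    exact matRep_injective F (AlgebraicClosure F) n P.subtype P.subtype_injective
  have hker : ρ'.ker = ⊥ := (MonoidHom.ker_eq_bot_iff _).2 hinj
  have hfin : Module.finrank (AlgebraicClosure F) (Fin n → AlgebraicClosure F) = n :=
    Module.finrank_fin_fun _
  have hAM : ∀ g : P, ρ' g = AM (AlgebraicClosure F) (g.1.1) := fun g => by rw [hρ']; rfl
  rw [eq_bot_iff, ← hker]
  apply claimY (AlgebraicClosure F) p hpK (n / orderOf (q : ZMod p)) n P hP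
    (Fin n → AlgebraicClosure F) hfin ρ'
  intro g ζ hζ1
  by_cases hE : Module.End.eigenspace (ρ' g) ζ = ⊥
  · rw [hE, finrank_bot]
    exact Nat.zero_le _
  obtain ⟨v, hvE, hv0⟩ := Submodule.exists_mem_ne_zero_of_ne_bot hE
  rw [Module.End.mem_eigenspace_iff] at hvE
  obtain ⟨j, hj⟩ := hP g
  have hζ : ζ ^ (p ^ j) = 1 := by
    have h1 := eig_pow_apply (ρ' g) ζ v hvE (p ^ j)
    rw [← map_pow, hj, map_one, Module.End.one_apply] at h1
    have h2 : (ζ ^ (p ^ j) - 1) • v = 0 := by rw [sub_smul, one_smul, ← h1, sub_self]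
    rcases smul_eq_zero.1 h2 with h | h
    · exact sub_eq_zero.1 h
    · exact absurd h hv0
  have hinjμ := frob_orbit_injective p q ζ hζ1 j hζ
  have hstep : ∀ t : ℕ, Module.finrank (AlgebraicClosure F) (Module.End.eigenspace (ρ' g) ζ)
      ≤ Module.finrank (AlgebraicClosure F) (Module.End.eigenspace (ρ' g) (ζ ^ (q ^ t))) := by
    intro t
    induction t with
    | zero => rw [pow_zero, pow_one]
    | succ t ih =>
      refine le_trans ih ?_
      have := eig_frob_le (K := AlgebraicClosure F) (g.1.1) (ζ ^ (q ^ t))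
      rw [hF, ← pow_mul, ← pow_succ] at this
      rw [hAM]
      exact this
  have hsum := sum_finrank_le
    (fun t : Fin (orderOf (q : ZMod p)) => Module.End.eigenspace (ρ' g) (ζ ^ (q ^ t.val)))
    ((Module.End.eigenspaces_iSupIndep (ρ' g)).comp hinjμ) Finset.univ
  have hle : Module.finrank (AlgebraicClosure F)
      (⨆ i ∈ (Finset.univ : Finset (Fin (orderOf (q : ZMod p)))),
        Module.End.eigenspace (ρ' g) (ζ ^ (q ^ i.val)) :
        Submodule (AlgebraicClosure F) (Fin n → AlgebraicClosure F)) ≤ n := by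
    conv_rhs => rw [← hfin]
    exact Submodule.finrank_le _
  have h3 : orderOf (q : ZMod p)
      * Module.finrank (AlgebraicClosure F) (Module.End.eigenspace (ρ' g) ζ)
      ≤ ∑ t : Fin (orderOf (q : ZMod p)), Module.finrank (AlgebraicClosure F)
          (Module.End.eigenspace (ρ' g) (ζ ^ (q ^ t.val))) := by
    calc orderOf (q : ZMod p)
          * Module.finrank (AlgebraicClosure F) (Module.End.eigenspace (ρ' g) ζ)
        = ∑ _t : Fin (orderOf (q : ZMod p)),
            Module.finrank (AlgebraicClosure F) (Module.End.eigenspace (ρ' g) ζ) := by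
          rw [Finset.sum_const, Finset.card_univ, Fintype.card_fin, smul_eq_mul]
      _ ≤ _ := Finset.sum_le_sum (fun t _ => hstep t.val)
  rw [Nat.le_div_iff_mul_le he0, mul_comm]
  exact le_trans h3 (hsum ▸ hle)

end Cfsg.Agent.S4417
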