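import Cfsg.Statements.S4015
import Mathlib
import Cfsg.Agent.S4417
import Cfsg.Agent.Lib.Helper4.WreathC

set_option autoImplicit false
open Cfsg

namespace Cfsg.Agent.S4015

open Cfsg.Agent.S4010 Cfsg.Agent.S4417
open scoped commutatorElement

section Step
variable {K : Type*} [Field K] {V : Type*} [AddCommGroup V] [Module K V] [FiniteDimensional K V]
variable {P : Type*} [Group P]

theorem eig_step_le (ρ : P →* Module.End K V) (A : Module.End K V) (g : P) (l : K) (hl : l ≠ 0)
    (hg : ρ g * A = l • (A * ρ g)) (μ : K) :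
    Module.finrank K (Module.End.eigenspace A μ)
      ≤ Module.finrank K (Module.End.eigenspace A (l⁻¹ * μ)) := by
  have hmaps : ∀ x ∈ Module.End.eigenspace A μ,
      ρ g x ∈ Module.End.eigenspace A (l⁻¹ * μ) := by
    intro x hx
    rw [Module.End.mem_eigenspace_iff] at hx ⊢
    exact eig_map ρ A g l hl hg μ x hx
  have hinj : Function.Injective ((ρ g).restrict hmaps) := by
    intro x y hxy
    have h1 := congrArg Subtype.val hxy
    rw [LinearMap.restrict_coe_apply, LinearMap.restrict_coe_apply] at h1
    apply Subtype.ext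
    have h2 := congrArg (ρ g⁻¹) h1
    rw [rho_inv_apply, rho_inv_apply] at h2
    exact h2
  exact LinearMap.finrank_le_finrank_of_injective hinj

theorem scale_pow (ρ : P →* Module.End K V) (A : Module.End K V) (g : P) (l : K)
    (hg : ρ g * A = l • (A * ρ g)) (m : ℕ) :
    ρ (g ^ m) * A = l ^ m • (A * ρ (g ^ m)) := by
  induction m with
  | zero => rw [pow_zero, pow_zero, map_one, one_mul, mul_one, one_smul]
  | succ m ih =>
    rw [pow_succ, pow_succ]
    exact scale_mul ρ A (g ^ m) g (l ^ m) l ih hg

theorem log_div (p : ℕ) (hp : 1 < p) (d n : ℕ) (hd : 1 ≤ d) (h : p * d ≤ n) :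
    Nat.log p d + 1 ≤ Nat.log p n := by
  rw [← Nat.log_mul_base hp (by omega)]
  exact Nat.log_mono_right (by rw [mul_comm]; exact h)

end Step

section IrredClosed
variable {K : Type*} [Field K] [IsAlgClosed K] {V : Type*} [AddCommGroup V] [Module K V]
  [FiniteDimensional K V] [Nontrivial V]
variable {P : Type*} [Group P]

theorem eig_dim_le_p (p : ℕ) [hp : Fact p.Prime] (hP : IsPGroup p P)
    (ρ : P →* Module.End K V) (hirr : Irr ρ) (a : P)
    (ha : ∀ g : P, ⁅g, a⁆ ∈ Zsub ρ) (g₀ : P) (hg₀ : g₀ ∉ Msub ρ a) (μ : K) :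
    p * Module.finrank K (Module.End.eigenspace (ρ a) μ) ≤ Module.finrank K V := by
  classical
  by_cases hE : Module.End.eigenspace (ρ a) μ = ⊥
  · rw [hE, finrank_bot, mul_zero]
    exact Nat.zero_le _
  obtain ⟨l, hl0, hl⟩ := scale_exists ρ hirr a ha g₀
  have hl1 : l ≠ 1 := by
    intro e
    apply hg₀
    rw [mem_Msub, hl, e, one_smul]
  obtain ⟨v, hvE, hv0⟩ := Submodule.exists_mem_ne_zero_of_ne_bot hE
  rw [Module.End.mem_eigenspace_iff] at hvE
  have hμ0 : μ ≠ 0 := by
    intro e
    rw [e, zero_smul] at hvE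
    apply hv0
    have := rho_inv_apply ρ a v
    rw [hvE, map_zero] at this
    exact this.symm
  obtain ⟨j, hj⟩ := hP g₀
  have hlp : l ^ (p ^ j) = 1 := by
    have h1 := scale_pow ρ (ρ a) g₀ l hl (p ^ j)
    rw [hj, map_one, one_mul, mul_one] at h1
    have h2 := congrArg (fun f : Module.End K V => f v) h1
    simp only [LinearMap.smul_apply] at h2
    rw [hvE, smul_smul] at h2
    have h3 : (μ - l ^ (p ^ j) * μ) • v = 0 := by
      rw [sub_smul, ← h2, sub_self]
    rcases smul_eq_zero.1 h3 with h | h
    · have h4 : (1 - l ^ (p ^ j)) * μ = 0 := by rw [sub_mul, one_mul]; exact h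
      rcases mul_eq_zero.1 h4 with h5 | h5
      · exact (sub_eq_zero.1 h5).symm
      · exact absurd h5 hμ0
    · exact absurd h hv0
  have hli1 : l⁻¹ ≠ 1 := by
    intro e
    apply hl1
    rw [← inv_inv l, e, inv_one]
  have hlip : l⁻¹ ^ (p ^ j) = 1 := by rw [inv_pow, hlp, inv_one]
  have hinjν : Function.Injective (fun t : Fin p => l⁻¹ ^ t.val * μ) := by
    intro s t hst
    simp only at hst
    have hst' : l⁻¹ ^ s.val = l⁻¹ ^ t.val := mul_right_cancel₀ hμ0 hst
    have hfin : IsOfFinOrder l⁻¹ :=
      isOfFinOrder_iff_pow_eq_one.2 ⟨p ^ j, pow_pos hp.out.pos j, hlip⟩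
    have h1 := hfin.pow_eq_pow_iff_modEq.1 hst'
    have hdvd : orderOf l⁻¹ ∣ p ^ j := orderOf_dvd_of_pow_eq_one hlip
    obtain ⟨i, _, hi⟩ := (Nat.dvd_prime_pow hp.out).1 hdvd
    have hi0 : i ≠ 0 := by
      intro e
      rw [e, pow_zero, orderOf_eq_one_iff] at hi
      exact hli1 hi
    have hpd : p ∣ orderOf l⁻¹ := by
      rw [hi]
      exact dvd_pow_self p hi0
    have h2 : s.val ≡ t.val [MOD p] := h1.of_dvd hpd
    apply Fin.ext
    rw [Nat.ModEq, Nat.mod_eq_of_lt s.2, Nat.mod_eq_of_lt t.2] at h2
    exact h2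
  have hstep : ∀ t : ℕ, Module.finrank K (Module.End.eigenspace (ρ a) μ)
      ≤ Module.finrank K (Module.End.eigenspace (ρ a) (l⁻¹ ^ t * μ)) := by
    intro t
    induction t with
    | zero => rw [pow_zero, one_mul]
    | succ t ih =>
      refine le_trans ih ?_
      have := eig_step_le ρ (ρ a) g₀ l hl0 hl (l⁻¹ ^ t * μ)
      rw [← mul_assoc, ← pow_succ'] at this
      exact this
  have hsum := sum_finrank_le
    (fun t : Fin p => Module.End.eigenspace (ρ a) (l⁻¹ ^ t.val * μ))
    ((Module.End.eigenspaces_iSupIndep (ρ a)).comp hinjν) Finset.univ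
  have hle : Module.finrank K
      (⨆ i ∈ (Finset.univ : Finset (Fin p)),
        Module.End.eigenspace (ρ a) (l⁻¹ ^ i.val * μ) : Submodule K V)
      ≤ Module.finrank K V := Submodule.finrank_le _
  calc p * Module.finrank K (Module.End.eigenspace (ρ a) μ)
      = ∑ _t : Fin p, Module.finrank K (Module.End.eigenspace (ρ a) μ) := by
        rw [Finset.sum_const, Finset.card_univ, Fintype.card_fin, smul_eq_mul]
    _ ≤ ∑ t : Fin p, Module.finrank K (Module.End.eigenspace (ρ a) (l⁻¹ ^ t.val * μ)) :=
        Finset.sum_le_sum (fun t _ => hstep t.val)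
    _ ≤ Module.finrank K V := hsum ▸ hle

end IrredClosed

universe u v

theorem main_ne_p (K : Type*) [Field K] [IsAlgClosed K] (p : ℕ) [hpp : Fact p.Prime]
    (hp : (p : K) ≠ 0) :
    ∀ n : ℕ, 1 ≤ n → ∀ (P : Type u) [Group P] [Finite P], IsPGroup p P →
      ∀ (V : Type v) [AddCommGroup V] [Module K V] [FiniteDimensional K V],
        Module.finrank K V = n → ∀ ρ : P →* Module.End K V,
          derivedSeries P (Nat.log p n + 1) ≤ ρ.ker := by
  intro n
  induction n using Nat.strong_induction_on with
  | _ n ih =>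
    intro hn P _ _ hP V _ _ _ hV ρ
    haveI : Nontrivial V := Module.finrank_pos_iff.1 (by rw [hV]; omega)
    by_cases hirr : Irr ρ
    · by_cases hZ : Zsub ρ = ⊤
      · have h1 : derivedSeries P 1 ≤ ρ.ker := by
          rw [derivedSeries_one, commutator_def, Subgroup.commutator_le]
          intro g _ h _
          rw [MonoidHom.mem_ker, commutatorElement_def, map_mul, map_mul, map_mul]
          have hg : g ∈ Zsub ρ := hZ ▸ Subgroup.mem_top g
          have := (mem_Zsub ρ g).1 hg h
          rw [← this, mul_assoc (ρ h), rho_mul_inv, mul_one, rho_mul_inv]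
        exact le_trans (derivedSeries_antitone P (by omega)) h1
      · obtain ⟨a, haZ, ha⟩ := exists_second_center p hP ρ hZ
        obtain ⟨g₀, hg₀⟩ : ∃ g₀, g₀ ∉ Msub ρ a := by
          by_contra hcon
          push Not at hcon
          apply haZ
          rw [mem_Zsub]
          intro h
          exact (mem_Msub ρ a h).1 (hcon h)
        have hdim := fun μ => eig_dim_le_p p hP ρ hirr a ha g₀ hg₀ μ
        have hM1 := derived_le_Msub ρ hirr a ha
        have key : ∀ m ∈ derivedSeries (Msub ρ a) (Nat.log p n), ρ (m : P) = 1 := by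
          intro m hm
          have hle : ∀ μ : K, Module.End.eigenspace (ρ a) μ ≤ LinearMap.ker (ρ (m : P) - 1) := by
            intro μ
            by_cases hE : Module.End.eigenspace (ρ a) μ = ⊥
            · rw [hE]; exact bot_le
            · have hd1 : 1 ≤ Module.finrank K (Module.End.eigenspace (ρ a) μ) :=
                finrank_sub_pos _ hE
              have hd2 := hdim μ
              rw [hV] at hd2
              have hp2 : 2 ≤ p := hpp.out.two_le
              have hlt : Module.finrank K (Module.End.eigenspace (ρ a) μ) < n := by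
                nlinarith
              have hinvE : ∀ g : Msub ρ a, Module.End.eigenspace (ρ a) μ
                  ≤ (Module.End.eigenspace (ρ a) μ).comap ((ρ.comp (Msub ρ a).subtype) g) := by
                intro g v hv
                rw [Submodule.mem_comap, Module.End.mem_eigenspace_iff]
                rw [Module.End.mem_eigenspace_iff] at hv
                have h1 := (mem_Msub ρ a g.1).1 g.2
                have h2 := congrArg (fun f : Module.End K V => f v) h1
                simp only [Module.End.mul_apply] at h2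
                change ρ a (ρ g.1 v) = μ • ρ g.1 v
                rw [← h2, hv, map_smul]
              have h3 := ih (Module.finrank K (Module.End.eigenspace (ρ a) μ)) hlt hd1
                (Msub ρ a) (hP.to_subgroup _) (Module.End.eigenspace (ρ a) μ) rfl
                (resRep (ρ.comp (Msub ρ a).subtype) _ hinvE)
              have hm' : m ∈ derivedSeries (Msub ρ a)
                  (Nat.log p (Module.finrank K (Module.End.eigenspace (ρ a) μ)) + 1) :=
                derivedSeries_antitone _ (log_div p hpp.out.one_lt _ _ hd1 hd2) hm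
              have h4 := h3 hm'
              rw [MonoidHom.mem_ker] at h4
              intro v hv
              rw [LinearMap.mem_ker, LinearMap.sub_apply, Module.End.one_apply, sub_eq_zero]
              have h5 := congrArg (fun f : Module.End K (Module.End.eigenspace (ρ a) μ) =>
                ((f ⟨v, hv⟩ : Module.End.eigenspace (ρ a) μ) : V)) h4
              simp only [resRep_apply, Module.End.one_apply] at h5
              exact h5
          have htop : LinearMap.ker (ρ (m : P) - 1) = ⊤ := by
            rw [eq_top_iff, ← iSup_eigenspace_top ρ hirr a ha]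
            exact iSup_le hle
          apply LinearMap.ext
          intro v
          have hv : v ∈ LinearMap.ker (ρ (m : P) - 1) := by rw [htop]; exact Submodule.mem_top
          rw [LinearMap.mem_ker, LinearMap.sub_apply, sub_eq_zero] at hv
          exact hv
        have h5 := derived_succ_le_map (Msub ρ a) hM1 (Nat.log p n)
        intro g hg
        obtain ⟨m, hm, rfl⟩ := h5 hg
        rw [MonoidHom.mem_ker]
        exact key m hm
    · unfold Irr at hirr
      push Not at hirr
      obtain ⟨W, hW, hWb, hWt⟩ := hirr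
      have hw1 : 1 ≤ Module.finrank K W := finrank_sub_pos W hWb
      have hw2 : Module.finrank K W < n := hV ▸ Submodule.finrank_lt hWt
      have hq : Module.finrank K (V ⧸ W) + Module.finrank K W = n :=
        hV ▸ Submodule.finrank_quotient_add_finrank W
      have i1 := ih (Module.finrank K W) hw2 hw1 P hP W rfl (resRep ρ W hW)
      have i2 := ih (Module.finrank K (V ⧸ W)) (by omega) (by omega) P hP (V ⧸ W) rfl
        (quotRep ρ W hW)
      intro g hg
      apply ker_of_res_quot p hp hP ρ W hW g
      · refine i1 (derivedSeries_antitone P ?_ hg)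
        have := Nat.log_mono_right (b := p) hw2.le
        omega
      · refine i2 (derivedSeries_antitone P ?_ hg)
        have := Nat.log_mono_right (b := p) (show Module.finrank K (V ⧸ W) ≤ n by omega)
        omega

theorem claimY_p (K : Type*) [Field K] [IsAlgClosed K] (p : ℕ) [Fact p.Prime] (hp : (p : K) ≠ 0)
    (N : ℕ) :
    ∀ n : ℕ, ∀ (P : Type u) [Group P] [Finite P], IsPGroup p P →
      ∀ (V : Type v) [AddCommGroup V] [Module K V] [FiniteDimensional K V],
        Module.finrank K V = n → ∀ ρ : P →* Module.End K V,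
          (∀ (g : P) (ζ : K), ζ ≠ 1 →
            Module.finrank K (Module.End.eigenspace (ρ g) ζ) ≤ N) →
          derivedSeries P (Nat.log p N + 1) ≤ ρ.ker := by
  intro n
  induction n using Nat.strong_induction_on with
  | _ n ih =>
    intro P _ _ hP V _ _ _ hV ρ hN
    by_cases hirr : Irr ρ
    · by_cases htriv : ρ.ker = ⊤
      · rw [htriv]; exact le_top
      · obtain ⟨z, hzker, hzc⟩ := exists_central_nontrivial p hP ρ htriv
        haveI : Nontrivial V := by
          by_contra hV'
          rw [not_nontrivial_iff_subsingleton] at hV'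
          apply hzker
          rw [MonoidHom.mem_ker]
          apply LinearMap.ext
          intro v
          exact Subsingleton.elim _ _
        obtain ⟨μ, hμ⟩ := schur ρ hirr (ρ z) hzc
        have hμ1 : μ ≠ 1 := by
          intro e
          apply hzker
          rw [MonoidHom.mem_ker, hμ, e, one_smul]
        have htop : Module.End.eigenspace (ρ z) μ = ⊤ := by
          rw [eq_top_iff]
          intro v _
          rw [Module.End.mem_eigenspace_iff, hμ, LinearMap.smul_apply, Module.End.one_apply]
        have hnN : n ≤ N := by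
          have := hN z μ hμ1
          rw [htop, finrank_top, hV] at this
          exact this
        have hn1 : 1 ≤ n := by
          rw [← hV]
          exact Module.finrank_pos
        have h1 := main_ne_p K p hp n hn1 P hP V hV ρ
        refine le_trans (derivedSeries_antitone P ?_) h1
        have := Nat.log_mono_right (b := p) hnN
        omega
    · unfold Irr at hirr
      push Not at hirr
      obtain ⟨W, hW, hWb, hWt⟩ := hirr
      haveI := Fintype.ofFinite P
      have hcard : (Fintype.card P : K) ≠ 0 := by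
        obtain ⟨k, hk⟩ := IsPGroup.iff_card.1 hP
        rw [← Nat.card_eq_fintype_card, hk, Nat.cast_pow]
        exact pow_ne_zero _ hp
      obtain ⟨W', hW', hcompl⟩ := maschke ρ hcard W hW
      have hW't : W' ≠ ⊤ := by
        intro e
        apply hWb
        have := hcompl.disjoint
        rw [e] at this
        exact disjoint_top.1 this
      have i1 := ih (Module.finrank K W) (hV ▸ Submodule.finrank_lt hWt) P hP W rfl
        (resRep ρ W hW) (fun g ζ hζ => le_trans (eig_res_le ρ W hW g ζ) (hN g ζ hζ))
      have i2 := ih (Module.finrank K W') (hV ▸ Submodule.finrank_lt hW't) P hP W' rfl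
        (resRep ρ W' hW') (fun g ζ hζ => le_trans (eig_res_le ρ W' hW' g ζ) (hN g ζ hζ))
      intro g hg
      have h1 := i1 hg
      have h2 := i2 hg
      rw [MonoidHom.mem_ker] at h1 h2 ⊢
      apply LinearMap.ext
      intro v
      have hv : v ∈ W ⊔ W' := by rw [hcompl.sup_eq_top]; exact Submodule.mem_top
      obtain ⟨w, hw, w', hw', rfl⟩ := Submodule.mem_sup.1 hv
      have e1 : ρ g w = w := by
        have := congrArg (fun f : Module.End K W => ((f ⟨w, hw⟩ : W) : V)) h1
        simpa [resRep_apply] using this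
      have e2 : ρ g w' = w' := by
        have := congrArg (fun f : Module.End K W' => ((f ⟨w', hw'⟩ : W') : V)) h2
        simpa [resRep_apply] using this
      rw [map_add, e1, e2]
      rfl

theorem upper {F : Type*} [Field F] [Fintype F] (q : ℕ) (hF : Fintype.card F = q) (p : ℕ)
    [Fact p.Prime] (hpq : ¬ p ∣ q) (n : ℕ)
    (P : Subgroup (GL (Fin n) F)) (hP : IsPGroup p P) :
    derivedSeries ↥P (Nat.log p (n / orderOf (q : ZMod p)) + 1) = ⊥ := by
  classical
  have hpK : ((p : ℕ) : AlgebraicClosure F) ≠ 0 := by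
    intro h0
    apply hpq
    have h1 : ((p : ℕ) : F) = 0 := by
      apply (algebraMap F (AlgebraicClosure F)).injective
      rw [map_natCast, map_zero]
      exact h0
    haveI : CharP F p := (CharP.charP_iff_prime_eq_zero (Fact.out : p.Prime)).2 h1
    rw [← hF]
    exact (CharP.cast_eq_zero_iff F p _).1 (Nat.cast_card_eq_zero F)
  have he0 : 0 < orderOf (q : ZMod p) := by
    rw [orderOf_pos_iff]
    have hq0 : (q : ZMod p) ≠ 0 := by
      rw [Ne, ZMod.natCast_eq_zero_iff]
      exact hpq
    exact isOfFinOrder_iff_pow_eq_one.2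
      ⟨p - 1, Nat.sub_pos_of_lt (Fact.out : p.Prime).one_lt, ZMod.pow_card_sub_one_eq_one hq0⟩
  obtain ⟨ρ', hρ'⟩ : ∃ ρ' : ↥P →* Module.End (AlgebraicClosure F) (Fin n → AlgebraicClosure F),
      ρ' = matRep F (AlgebraicClosure F) n P.subtype := ⟨_, rfl⟩
  have hinj : Function.Injective ρ' := by
    rw [hρ']
    exact matRep_injective F (AlgebraicClosure F) n P.subtype P.subtype_injective
  have hker : ρ'.ker = ⊥ := (MonoidHom.ker_eq_bot_iff _).2 hinj
  have hfin : Module.finrank (AlgebraicClosure F) (Fin n → AlgebraicClosure F) = n :=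
    Module.finrank_fin_fun _
  have hAM : ∀ g : P, ρ' g = AM (AlgebraicClosure F) (g.1.1) := fun g => by rw [hρ']; rfl
  rw [eq_bot_iff, ← hker]
  apply claimY_p (AlgebraicClosure F) p hpK (n / orderOf (q : ZMod p)) n P hP
    (Fin n → AlgebraicClosure F) hfin ρ'
  intro g ζ hζ1
  by_cases hE : Module.End.eigenspace (ρ' g) ζ = ⊥
  · rw [hE, finrank_bot]
    exact Nat.zero_le _
  obtain ⟨v, hvE, hv0⟩ := Submodule.exists_mem_ne_zero_of_ne_bot hE
  rw [Module.End.mem_eigenspace_iff] at hvE
  obtain ⟨j, hj⟩ := hP g
  have hζ : ζ ^ (p ^ j) = 1 := by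
    have h1 := eig_pow_apply (ρ' g) ζ v hvE (p ^ j)
    rw [← map_pow, hj, map_one, Module.End.one_apply] at h1
    have h2 : (ζ ^ (p ^ j) - 1) • v = 0 := by rw [sub_smul, one_smul, ← h1, sub_self]
    rcases smul_eq_zero.1 h2 with h | h
    · exact sub_eq_zero.1 h
    · exact absurd h hv0
  have hinjμ := frob_orbit_injective p q ζ hζ1 j hζ
  have hstep : ∀ t : ℕ, Module.finrank (AlgebraicClosure F) (Module.End.eigenspace (ρ' g) ζ)
      ≤ Module.finrank (AlgebraicClosure F) (Module.End.eigenspace (ρ' g) (ζ ^ (q ^ t))) := by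
    intro t
    induction t with
    | zero => rw [pow_zero, pow_one]
    | succ t ih =>
      refine le_trans ih ?_
      have := eig_frob_le (K := AlgebraicClosure F) (g.1.1) (ζ ^ (q ^ t))
      rw [hF, ← pow_mul, ← pow_succ] at this
      rw [hAM]
      exact this
  have hsum := sum_finrank_le
    (fun t : Fin (orderOf (q : ZMod p)) => Module.End.eigenspace (ρ' g) (ζ ^ (q ^ t.val)))
    ((Module.End.eigenspaces_iSupIndep (ρ' g)).comp hinjμ) Finset.univ
  have hle : Module.finrank (AlgebraicClosure F)
      (⨆ i ∈ (Finset.univ : Finset (Fin (orderOf (q : ZMod p)))),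
        Module.End.eigenspace (ρ' g) (ζ ^ (q ^ i.val)) :
        Submodule (AlgebraicClosure F) (Fin n → AlgebraicClosure F)) ≤ n := by
    conv_rhs => rw [← hfin]
    exact Submodule.finrank_le _
  have h3 : orderOf (q : ZMod p)
      * Module.finrank (AlgebraicClosure F) (Module.End.eigenspace (ρ' g) ζ)
      ≤ ∑ t : Fin (orderOf (q : ZMod p)), Module.finrank (AlgebraicClosure F)
          (Module.End.eigenspace (ρ' g) (ζ ^ (q ^ t.val))) := by
    calc orderOf (q : ZMod p)
          * Module.finrank (AlgebraicClosure F) (Module.End.eigenspace (ρ' g) ζ)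
        = ∑ _t : Fin (orderOf (q : ZMod p)),
            Module.finrank (AlgebraicClosure F) (Module.End.eigenspace (ρ' g) ζ) := by
          rw [Finset.sum_const, Finset.card_univ, Fintype.card_fin, smul_eq_mul]
      _ ≤ _ := Finset.sum_le_sum (fun t _ => hstep t.val)
  rw [Nat.le_div_iff_mul_le he0, mul_comm]
  exact le_trans h3 (hsum ▸ hle)

open Cfsg.Agent.Helper4.Wreath

section Act
variable {F : Type*} [Field F] {H : Type*} [Group H]
variable {U U' : Type*} [AddCommGroup U] [Module F U] [AddCommGroup U'] [Module F U']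
variable {ι : Type*}

/-- the wreath product acting on `Uⁿ × U'` -/
def act (θ : H →* Module.End F U) : Wr ι H →* Module.End F ((ι → U) × U') where
  toFun w :=
    { toFun := fun x => (fun i => θ (w.left i) (x.1 (w.right.symm i)), x.2)
      map_add' := by
        intro x y
        apply Prod.ext
        · funext i
          simp [map_add]
        · rfl
      map_smul' := by
        intro c x
        apply Prod.ext
        · funext i
          simp [map_smul]
        · rfl }
  map_one' := by
    apply LinearMap.ext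
    intro x
    apply Prod.ext
    · funext i
      show θ ((1 : Wr ι H).left i) (x.1 ((1 : Wr ι H).right.symm i)) = x.1 i
      rw [SemidirectProduct.one_left, SemidirectProduct.one_right, Pi.one_apply, map_one,
        Module.End.one_apply]
      rfl
    · rfl
  map_mul' := by
    intro w w'
    apply LinearMap.ext
    intro x
    apply Prod.ext
    · funext i
      show θ ((w * w').left i) (x.1 ((w * w').right.symm i))
        = θ (w.left i) (θ (w'.left (w.right.symm i)) (x.1 (w'.right.symm (w.right.symm i))))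
      rw [SemidirectProduct.mul_left, SemidirectProduct.mul_right, Pi.mul_apply, permAut_apply,
        map_mul, Module.End.mul_apply]
      rfl
    · rfl

theorem act_apply (θ : H →* Module.End F U) (w : Wr ι H) (x : (ι → U) × U') :
    act (U' := U') θ w x = (fun i => θ (w.left i) (x.1 (w.right.symm i)), x.2) := rfl

theorem act_injective [DecidableEq ι] [Nontrivial U] (θ : H →* Module.End F U)
    (hθ : Function.Injective θ) :
    Function.Injective (act (ι := ι) (U' := U') θ) := by
  rw [injective_iff_map_eq_one]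
  intro w hw
  have key : ∀ (x : ι → U) (i : ι), θ (w.left i) (x (w.right.symm i)) = x i := by
    intro x i
    have := congrArg (fun f : Module.End F ((ι → U) × U') => (f (x, 0)).1 i) hw
    simpa [act_apply] using this
  have hinv : ∀ (g : H) (u : U), θ g u = 0 → u = 0 := by
    intro g u hu
    have : θ g⁻¹ (θ g u) = u := by
      rw [← Module.End.mul_apply, ← map_mul, inv_mul_cancel, map_one, Module.End.one_apply]
    rw [← this, hu, map_zero]
  obtain ⟨u, hu⟩ := exists_ne (0 : U)
  have hσ : ∀ i, w.right.symm i = i := by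
    intro i
    by_contra hne
    have := key (Pi.single (w.right.symm i) u) i
    rw [Pi.single_eq_same, Pi.single_eq_of_ne (Ne.symm hne)] at this
    exact hu (hinv _ _ this)
  have hσ1 : w.right = 1 := by
    apply Equiv.ext
    intro i
    rw [Equiv.Perm.one_apply]
    have := hσ i
    rwa [Equiv.symm_apply_eq, eq_comm] at this
  apply SemidirectProduct.ext
  · funext i
    apply hθ
    rw [SemidirectProduct.one_left, Pi.one_apply, map_one]
    apply LinearMap.ext
    intro u'
    have := key (Pi.single i u') i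
    rw [hσ i, Pi.single_eq_same] at this
    rw [this, Module.End.one_apply]
  · exact hσ1

end Act

section Embed
variable {F : Type*} [Field F]

/-- the natural action of `GL_e(F)` -/
noncomputable def glAct (e : ℕ) : GL (Fin e) F →* Module.End F (Fin e → F) :=
  (Units.coeHom _).comp (Matrix.GeneralLinearGroup.toLin).toMonoidHom

theorem glAct_injective (e : ℕ) : Function.Injective (glAct (F := F) e) := by
  intro g h hgh
  apply (Matrix.GeneralLinearGroup.toLin).injective
  exact Units.ext hgh

/-- the embedding of the wreath product of `GL_e(F)` into `GL_n(F)` for `e * m ≤ n` -/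
theorem exists_embedding (e m n : ℕ) (he : 1 ≤ e) (h : e * m ≤ n) :
    ∃ Ψ : Wr (Fin m) (GL (Fin e) F) →* GL (Fin n) F, Function.Injective Ψ := by
  classical
  obtain ⟨r, hr⟩ := Nat.exists_eq_add_of_le h
  have hfin : Module.finrank F ((Fin m → (Fin e → F)) × (Fin r → F))
      = Module.finrank F (Fin n → F) := by
    rw [Module.finrank_prod, Module.finrank_pi_fintype]
    simp only [Module.finrank_fin_fun, Finset.sum_const, Finset.card_univ, Fintype.card_fin,
      smul_eq_mul]
    rw [hr, mul_comm]
  let φ : ((Fin m → (Fin e → F)) × (Fin r → F)) ≃ₗ[F] (Fin n → F) :=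
    LinearEquiv.ofFinrankEq _ _ hfin
  haveI : Nontrivial (Fin e → F) := by
    haveI : Nonempty (Fin e) := ⟨⟨0, he⟩⟩
    infer_instance
  let a : Wr (Fin m) (GL (Fin e) F) →* Module.End F ((Fin m → (Fin e → F)) × (Fin r → F)) :=
    act (glAct e)
  have ha : Function.Injective a := act_injective _ (glAct_injective e)
  refine ⟨(Matrix.GeneralLinearGroup.toLin).symm.toMonoidHom.comp
    ((Units.mapEquiv (φ.conjRingEquiv).toMulEquiv).toMonoidHom.comp (MonoidHom.toHomUnits a)), ?_⟩
  intro x y hxy
  apply ha
  have h1 := (Matrix.GeneralLinearGroup.toLin).symm.injective hxy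
  have h2 := (Units.mapEquiv (φ.conjRingEquiv).toMulEquiv).injective h1
  have h3 := congrArg Units.val h2
  exact h3

end Embed

open Cfsg.Agent.Helper4.Wreath
open scoped Pointwise

theorem isPGroup_zpowers' {X : Type*} [Group X] (p m : ℕ) (x : X) (h : x ^ (p ^ m) = 1) :
    IsPGroup p (Subgroup.zpowers x) := by
  rintro ⟨y, hy⟩
  obtain ⟨l, rfl⟩ := Subgroup.mem_zpowers_iff.1 hy
  refine ⟨m, Subtype.ext ?_⟩
  show (x ^ l) ^ p ^ m = 1
  rw [← zpow_natCast, ← _root_.zpow_mul, mul_comm, _root_.zpow_mul, zpow_natCast, h,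
    _root_.one_zpow]

theorem lower (p : ℕ) [hp : Fact p.Prime] (F : Type*) [Field F] [Fintype F] (q : ℕ)
    (hq : Fintype.card F = q) (hpq : ¬ p ∣ q) (n : ℕ) (hn : orderOf (q : ZMod p) ≤ n)
    (P : Sylow p (Matrix.GeneralLinearGroup (Fin n) F)) :
    derivedSeries ↥(P : Subgroup (Matrix.GeneralLinearGroup (Fin n) F))
      (Nat.log p (n / orderOf (q : ZMod p))) ≠ ⊥ := by
  classical
  obtain ⟨e, he⟩ : ∃ e, e = orderOf (q : ZMod p) := ⟨_, rfl⟩
  rw [← he] at hn ⊢
  have hq0 : (q : ZMod p) ≠ 0 := by
    rw [Ne, ZMod.natCast_eq_zero_iff]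
    exact hpq
  have he0 : 0 < e := by
    rw [he, orderOf_pos_iff]
    exact isOfFinOrder_iff_pow_eq_one.2
      ⟨p - 1, Nat.sub_pos_of_lt hp.out.one_lt, ZMod.pow_card_sub_one_eq_one hq0⟩
  obtain ⟨m, hm⟩ : ∃ m, m = n / e := ⟨_, rfl⟩
  rw [← hm]
  have hem : e * m ≤ n := by rw [hm]; exact Nat.mul_div_le n e
  have hm0 : m ≠ 0 := by
    rw [hm]
    exact (Nat.div_pos hn he0).ne'
  have hk : p ^ Nat.log p m ≤ Fintype.card (Fin m) := by
    rw [Fintype.card_fin]
    exact Nat.pow_log_le_self p hm0
  -- an element of order `p` in `GL_e(F)`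
  have hdvd : p ∣ Nat.card (GL (Fin e) F) := by
    rw [Matrix.card_GL_field]
    have hmem : (⟨0, he0⟩ : Fin e) ∈ (Finset.univ : Finset (Fin e)) := Finset.mem_univ _
    refine dvd_trans ?_ (Finset.dvd_prod_of_mem _ hmem)
    show p ∣ Fintype.card F ^ e - Fintype.card F ^ 0
    rw [hq, pow_zero, ← ZMod.natCast_eq_zero_iff, Nat.cast_sub (Nat.one_le_pow _ _ (by
      rcases Nat.eq_zero_or_pos q with h | h
      · exact absurd (h ▸ dvd_zero p) hpq
      · exact h)), Nat.cast_pow, Nat.cast_one, he, pow_orderOf_eq_one, sub_self]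
  obtain ⟨x, hx⟩ := exists_prime_orderOf_dvd_card' p hdvd
  have hxp : x ^ (p ^ 1) = 1 := by rw [pow_one, ← hx]; exact pow_orderOf_eq_one x
  have hQ : IsPGroup p (Subgroup.zpowers x) := isPGroup_zpowers' p 1 x hxp
  have hQ0 : Dsub (Subgroup.zpowers x) 0 ≠ ⊥ := by
    rw [Dsub_zero, Ne, Subgroup.zpowers_eq_bot]
    intro e1
    rw [e1, orderOf_one] at hx
    exact hp.out.one_lt.ne hx
  obtain ⟨T, hTp, hTd⟩ := exists_tower p (Subgroup.zpowers x) hQ 0 hQ0 (Nat.log p m) hk
  rw [zero_add] at hTd
  obtain ⟨Ψ, hΨ⟩ := exists_embedding (F := F) e m n he0 hem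
  have hT'p : IsPGroup p (T.map Ψ) := hTp.map _
  have hT'd : Dsub (T.map Ψ) (Nat.log p m) ≠ ⊥ := Dsub_map_ne_bot _ hΨ T _ hTd
  obtain ⟨S, hS⟩ := hT'p.exists_le_sylow
  obtain ⟨g, hg⟩ := MulAction.exists_smul_eq (Matrix.GeneralLinearGroup (Fin n) F) S P
  have hle : (T.map Ψ).map (MulAut.conj g).toMonoidHom ≤ (P : Subgroup _) := by
    rw [← hg, Sylow.coe_subgroup_smul]
    rintro _ ⟨y, hy, rfl⟩
    exact ⟨y, hS hy, rfl⟩
  have h3 : Dsub ((T.map Ψ).map (MulAut.conj g).toMonoidHom) (Nat.log p m) ≠ ⊥ :=
    Dsub_map_ne_bot _ (MulAut.conj g).injective _ _ hT'd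
  rw [← Dsub_ne_bot_iff]
  intro e1
  apply h3
  rw [eq_bot_iff, ← e1]
  exact Dsub_mono hle _


/-- Let p be an odd prime, F a finite field with q elements where p does not divide q, and e the multiplicative order of q modulo p. Let n ≥ e and write w = ⌊n/e⌋ and k = ⌊log_p w⌋. Then a Sylow p-subgroup of GL(n, F) has derived length exactly k + 1: its (k+1)-st derived subgroup is trivial and its k-th is not. -/
theorem result (p : ℕ) [Fact p.Prime] (hp : p ≠ 2) (F : Type*) [Field F] [Fintype F] (q : ℕ) (hq : Fintype.card F = q) (hpq : ¬ p ∣ q) (n : ℕ) (hn : orderOf (q : ZMod p) ≤ n) (P : Sylow p (Matrix.GeneralLinearGroup (Fin n) F)) : derivedSeries ↥(P : Subgroup (Matrix.GeneralLinearGroup (Fin n) F)) (Nat.log p (n / orderOf (q : ZMod p)) + 1) = ⊥ ∧ derivedSeries ↥(P : Subgroup (Matrix.GeneralLinearGroup (Fin n) F)) (Nat.log p (n / orderOf (q : ZMod p))) ≠ ⊥ := by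
  exact ⟨upper q hq p hpq n _ P.isPGroup', lower p F q hq hpq n hn P⟩

end Cfsg.Agent.S4015
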