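import Mathlib
import Cfsg.Statements.S4016
import Cfsg.Agent.H2.CycSylF

set_option autoImplicit false
open Cfsg

namespace Cfsg.Agent.S4016

/-- Let G be a finite group and p a prime such that a Sylow p-subgroup P of G is cyclic and every subgroup of G of order prime to p is abelian. Then G has a normal p-complement or P is normal in G. -/
theorem result {G : Type*} [Group G] [Finite G] {p : ℕ}
    [Fact p.Prime] (P : Sylow p G) (hcyc : IsCyclic P)
    (hab : ∀ H : Subgroup G, ¬ p ∣ Nat.card H → IsMulCommutative H) :
    Cfsg.HasNormalPComplement p G ∨ (P : Subgroup G).Normal := by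
  -- strong induction on the order, over all groups in the same universe
  have key : ∀ n : ℕ, ∀ (G : Type _) [Group G] [Finite G] (P : Sylow p G),
      Nat.card G = n → IsCyclic P →
      (∀ H : Subgroup G, ¬ p ∣ Nat.card H → IsMulCommutative H) →
      Cfsg.HasNormalPComplement p G ∨ (P : Subgroup G).Normal := by
    intro n
    induction n using Nat.strong_induction_on with
    | _ n ih =>
      intro G _ _ P hn hcyc hab
      by_contra hcon
      push Not at hcon
      obtain ⟨hnc, hnn⟩ := hcon
      have hIH : ∀ H : Subgroup G, H ≠ ⊤ → ∀ Q : Sylow p H,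
          HasNormalPComplement p H ∨ (Q : Subgroup H).Normal := by
        intro H hH Q
        have hlt : Nat.card H < n := by
          rw [← hn]
          rcases lt_or_eq_of_le (Subgroup.card_le_card_group H) with h | h
          · exact h
          · exact absurd (Subgroup.card_eq_iff_eq_top H |>.mp h) hH
        refine ih (Nat.card H) hlt H Q rfl ?_ ?_
        · exact Cfsg.Agent.H2.CycSyl.isCyclic_of_injective_pgroup P hcyc Q.isPGroup'
            (H.subtype.comp (Q : Subgroup H).subtype)
            (H.subtype_injective.comp (Q : Subgroup H).subtype_injective)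
        · intro H' hH'
          have hcard : Nat.card (H'.map H.subtype) = Nat.card H' :=
            Nat.card_congr (H'.equivMapOfInjective H.subtype H.subtype_injective).toEquiv.symm
          have hc := hab (H'.map H.subtype) (by rw [hcard]; exact hH')
          refine ⟨⟨fun a b => ?_⟩⟩
          have hamem : (H.subtype a.1) ∈ H'.map H.subtype := ⟨a.1, a.2, rfl⟩
          have hbmem : (H.subtype b.1) ∈ H'.map H.subtype := ⟨b.1, b.2, rfl⟩
          have h1 := hc.is_comm.comm ⟨_, hamem⟩ ⟨_, hbmem⟩
          have h2 := congrArg Subtype.val h1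
          simp only [Subgroup.coe_mul, Subgroup.coe_subtype] at h2
          apply Subtype.ext
          apply Subtype.ext
          simpa using h2
      obtain ⟨x, hxN, hxp, hxC⟩ := Cfsg.Agent.H2.CycSylAb.exists_x P hcyc hnc
      obtain ⟨L, hLN, hLp, hLcard, hLdec⟩ := Cfsg.Agent.H2.CycSylAb.exists_L P
      exact Cfsg.Agent.H2.CycSylAb.Ctx.false
        ⟨P, hcyc, hab, hIH, hnn, x, hxN, hxp, hxC, L, hLN, hLp, hLcard, hLdec⟩
  exact key _ G P rfl hcyc hab

end Cfsg.Agent.S4016
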