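import Cfsg.Statements.S4022
import Cfsg.Agent.Lib.Helper8.SameOrdC
import Cfsg.Agent.Lib.Helper5.SameOrdPA
import Cfsg.Agent.Lib.Helper6.SameOrdCaseA

set_option autoImplicit false
open Cfsg

namespace Cfsg.Agent.S4022

/-- Let G be a finite solvable group in which, for every prime p, any two p-subgroups of the same order are conjugate, and suppose the Sylow p-subgroups of G are cyclic for all primes p with at most one exception. Then any two subgroups of G of the same order are conjugate. -/
theorem result {G : Type*} [Group G] [Finite G]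
    [Group.IsSolvable G] (hD : ∀ p : ℕ, p.Prime → ∀ H K : Subgroup G, IsPGroup p H → IsPGroup p K → Nat.card H = Nat.card K →
      ∃ g : G, K = H.map (MulAut.conj g).toMonoidHom)
    (r : ℕ) (hcyc : ∀ p : ℕ, p.Prime → p ≠ r → ∀ P : Sylow p G, IsCyclic P) :
    ∀ H K : Subgroup G, Nat.card H = Nat.card K → ∃ g : G, K = H.map (MulAut.conj g).toMonoidHom := by
  intro H K h
  exact Cfsg.Agent.Lib.Helper8.SameOrd.main_of r
    (fun G _ _ hX N _ q hq hN => Cfsg.Agent.Lib.Helper5.SameOrdPA.X.quotient hX N q hq hN)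
    (fun G _ _ hX C hr => Cfsg.Agent.Lib.Helper5.SameOrdPA.X.subgroup_of_coprime hX C hr)
    (fun G _ _ hX ih hquot N _ q hq hN =>
      Cfsg.Agent.Lib.Helper6.SameOrdCaseA.caseA hX ih hquot N q hq hN)
    _ G rfl ⟨inferInstance, hD, hcyc⟩ H K h

end Cfsg.Agent.S4022
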