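import Cfsg.Statements.S4024
import Mathlib
import Cfsg.Prelude.Def_Local
import Cfsg.Agent.H1.Basic
import Cfsg.Agent.H1.Card
import Cfsg.Agent.H1.Cores
import Cfsg.Agent.H1.CyclicSub
import Cfsg.Agent.H1.PLength
import Cfsg.Agent.H1.PiClosed
import Cfsg.Agent.S0016
import Cfsg.Agent.H1.ConjEqualOrder

set_option autoImplicit false
open Cfsg

namespace Cfsg.Agent.S4024

set_option autoImplicit false
open H1
open scoped commutatorElement

/-- Let p be an odd prime and G a finite group in which any two p-subgroups of the same order are conjugate, with Sylow p-subgroup P. If H is a normal p-solvable subgroup of G whose order is divisible by p, then P is abelian, and either P ≤ H or P is cyclic. -/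
theorem result {G : Type*} [Group G] [Finite G]
    {p : ℕ} [Fact p.Prime] (hp : p ≠ 2) (hC : ∀ H K : Subgroup G, IsPGroup p H → IsPGroup p K → Nat.card H = Nat.card K →
      ∃ g : G, K = H.map (MulAut.conj g).toMonoidHom) (P : Sylow p G)
    (H : Subgroup G) [H.Normal] (hsolv : Cfsg.IsPSolvable p H) (hdiv : p ∣ Nat.card H) :
    IsMulCommutative P ∧ ((P : Subgroup G) ≤ H ∨ IsCyclic P) := by
  have hpp : p.Prime := Fact.out
  have hcyc_case : IsCyclic (P : Subgroup G) → IsMulCommutative P ∧ ((P : Subgroup G) ≤ H ∨ IsCyclic P) := by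
    intro h
    exact ⟨inferInstance, Or.inr h⟩
  by_cases hPH : (P : Subgroup G) ≤ H
  swap
  · exact hcyc_case (isCyclic_of_conj hC P hp H (sylow_inf_ne_bot P H hdiv) hPH)
  refine ⟨?_, Or.inl hPH⟩
  -- the subgroups N = O_{p'}(H) and K = O_{p',p}(H)
  set N : Subgroup G := ((Cfsg.upperPSeries p H 1).1).map H.subtype with hN
  set K : Subgroup G := ((Cfsg.upperPSeries p H 2).1).map H.subtype with hK
  haveI hNn : N.Normal := ConjAct.normal_of_characteristic_of_normal
  haveI hKn : K.Normal := ConjAct.normal_of_characteristic_of_normal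
  have hKdvd : p ∣ Nat.card K := by
    rw [hK, Subgroup.card_map_of_injective (Subgroup.subtype_injective _)]
    exact dvd_card_ups_two hsolv hdiv
  by_cases hPK : (P : Subgroup G) ≤ K
  swap
  · haveI := isCyclic_of_conj hC P hp K (sylow_inf_ne_bot P K hKdvd) hPK
    infer_instance
  -- N is a p'-group, K / N a p-group
  have hNcop : (Nat.card N).Coprime p := by
    rw [hN, Subgroup.card_map_of_injective (Subgroup.subtype_injective _)]
    apply card_coprime_of_forall_pow
    intro x
    obtain ⟨m, hm, hxm⟩ := (ups_stepFactor (G := H) p 0).1 (by decide) (x : H) x.2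
    refine ⟨m, hm, ?_⟩
    rw [ups_zero, Subgroup.mem_bot] at hxm
    exact Subtype.ext hxm
  have hNK : N ≤ K := Subgroup.map_mono (ups_le_succ p 1)
  have hKN : ∀ x ∈ K, ∃ a : ℕ, x ^ p ^ a ∈ N := by
    rintro _ ⟨x, hx, rfl⟩
    obtain ⟨a, ha⟩ := (ups_stepFactor (G := H) p 1).2 (by decide) x hx
    exact ⟨a, ⟨x ^ p ^ a, ha, by simp⟩⟩
  have hNP : N ⊓ (P : Subgroup G) = ⊥ := by
    rw [eq_bot_iff]
    intro y hy
    rw [Subgroup.mem_bot]
    have h1 : orderOf y ∣ Nat.card N := Subgroup.orderOf_dvd_natCard N hy.1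
    obtain ⟨b, hb⟩ := (IsPGroup.iff_orderOf.mp P.2) ⟨y, hy.2⟩
    rw [Subgroup.orderOf_mk] at hb
    have h2 : orderOf y ∣ p ^ b := by rw [hb]
    have h3 : (Nat.card N).Coprime (p ^ b) := Nat.Coprime.pow_right b hNcop
    exact orderOf_eq_one_iff.mp (Nat.eq_one_of_dvd_coprimes h3 h1 h2)
  -- K = N P
  have hKle : K ≤ N ⊔ (P : Subgroup G) := by
    rw [← Subgroup.relIndex_eq_one]
    have hpg : IsPGroup p (↥K ⧸ N.subgroupOf K) := by
      intro q
      obtain ⟨x, rfl⟩ := QuotientGroup.mk_surjective q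
      obtain ⟨a, ha⟩ := hKN x x.2
      refine ⟨a, ?_⟩
      rw [← QuotientGroup.mk_pow, QuotientGroup.eq_one_iff, Subgroup.mem_subgroupOf]
      exact ha
    obtain ⟨b, hb⟩ := IsPGroup.iff_card.mp hpg
    have hb' : N.relIndex K = p ^ b := hb
    have h1 : (N ⊔ (P : Subgroup G)).relIndex K ∣ p ^ b := by
      rw [← hb']
      exact Subgroup.relIndex_dvd_of_le_left K le_sup_left
    have h2 : (N ⊔ (P : Subgroup G)).relIndex K ∣ (P : Subgroup G).index := by
      have h3 : (N ⊔ (P : Subgroup G)).relIndex K ∣ (P : Subgroup G).relIndex K :=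
        Subgroup.relIndex_dvd_of_le_left K le_sup_right
      have h4 := Subgroup.relIndex_mul_index hPK
      exact h3.trans (Dvd.intro _ h4)
    have h5 : ¬ p ∣ (P : Subgroup G).index := P.not_dvd_index
    have h6 : ((P : Subgroup G).index).Coprime (p ^ b) :=
      Nat.Coprime.pow_right b ((Nat.Prime.coprime_iff_not_dvd hpp).mpr h5).symm
    exact Nat.eq_one_of_dvd_coprimes h6 h2 h1
  -- Z₁ = K ∩ C_G(K / N)
  set Z₁ : Subgroup G := K ⊓ centMod K N with hZ₁
  haveI : (centMod K N).Normal := centMod_normal K N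
  haveI hZn : Z₁.Normal := inferInstance
  have hPZ : (P : Subgroup G) ⊓ Z₁ = (P : Subgroup G) ⊓ Subgroup.centralizer ((P : Subgroup G) : Set G) := by
    ext y
    constructor
    · rintro ⟨hyP, -, hyc⟩
      refine ⟨hyP, Subgroup.mem_centralizer_iff.mpr ?_⟩
      intro u hu
      have h1 : ⁅y, u⁆ ∈ N := (mem_centMod K N y).mp hyc u (hPK hu)
      have h2 : ⁅y, u⁆ ∈ (P : Subgroup G) := by
        rw [commutatorElement_def]
        exact mul_mem (mul_mem (mul_mem hyP hu) (inv_mem hyP)) (inv_mem hu)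
      have h3 : ⁅y, u⁆ ∈ N ⊓ (P : Subgroup G) := ⟨h1, h2⟩
      rw [hNP, Subgroup.mem_bot, commutatorElement_eq_one_iff_mul_comm] at h3
      exact h3.symm
    · rintro ⟨hyP, hyc⟩
      refine ⟨hyP, hPK hyP, (mem_centMod K N y).mpr ?_⟩
      intro k hk
      have hk' : k ∈ ((N ⊔ (P : Subgroup G) : Subgroup G) : Set G) := hKle hk
      rw [Subgroup.normal_mul] at hk'
      obtain ⟨n, hn, u, hu, rfl⟩ := hk'
      have hyu : u * y = y * u := Subgroup.mem_centralizer_iff.mp hyc u hu
      have e : ⁅y, n * u⁆ = (y * n * y⁻¹) * n⁻¹ := by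
        rw [commutatorElement_def]
        calc y * (n * u) * y⁻¹ * (n * u)⁻¹ = y * n * (u * y⁻¹ * u⁻¹) * n⁻¹ := by group
          _ = y * n * y⁻¹ * n⁻¹ := by
            have : u * y⁻¹ * u⁻¹ = y⁻¹ := by
              have h1 : u * y⁻¹ = y⁻¹ * u := by
                calc u * y⁻¹ = y⁻¹ * (y * u) * y⁻¹ := by group
                  _ = y⁻¹ * (u * y) * y⁻¹ := by rw [hyu]
                  _ = y⁻¹ * u := by group
              rw [h1]; group
            rw [this]
      rw [e]
      exact N.mul_mem (hNn.conj_mem n hn y) (N.inv_mem hn)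
  -- the centre of P is nontrivial
  have hPne : Nontrivial (P : Subgroup G) := by
    rw [← Finite.one_lt_card_iff_nontrivial]
    have h1 := sylow_inf_ne_bot P H hdiv
    by_contra hle
    push_neg at hle
    apply h1
    have : (P : Subgroup G) = ⊥ := Subgroup.card_eq_one.mp (le_antisymm hle Nat.card_pos)
    rw [this, bot_inf_eq]
  have hZne : (P : Subgroup G) ⊓ Subgroup.centralizer ((P : Subgroup G) : Set G) ≠ ⊥ := by
    haveI := P.2.center_nontrivial
    obtain ⟨z, hz⟩ := exists_ne (1 : Subgroup.center (P : Subgroup G))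
    intro hbot
    apply hz
    have hzc : ((z : (P : Subgroup G)) : G) ∈ (P : Subgroup G) ⊓ Subgroup.centralizer ((P : Subgroup G) : Set G) := by
      refine ⟨(z : (P : Subgroup G)).2, Subgroup.mem_centralizer_iff.mpr ?_⟩
      intro u hu
      have := Subgroup.mem_center_iff.mp z.2 ⟨u, hu⟩
      exact congrArg Subtype.val this
    rw [hbot, Subgroup.mem_bot] at hzc
    apply Subtype.ext
    apply Subtype.ext
    exact hzc
  by_cases hPZ1 : (P : Subgroup G) ≤ Z₁
  · -- P is abelian
    apply IsMulCommutative.of_setLike_mul_comm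
    intro a ha b hb
    have h1 : a ∈ (P : Subgroup G) ⊓ Z₁ := ⟨ha, hPZ1 ha⟩
    rw [hPZ] at h1
    exact (Subgroup.mem_centralizer_iff.mp h1.2 b hb).symm
  · haveI := isCyclic_of_conj hC P hp Z₁ (by rw [hPZ]; exact hZne) hPZ1
    infer_instance

end Cfsg.Agent.S4024
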