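import Cfsg.Statements.S4027
import Mathlib
import Cfsg.Agent.H1.Basic
import Cfsg.Agent.H1.SylowMore
import Cfsg.Agent.H1.SylowTwoNormal

set_option autoImplicit false
open Cfsg

namespace Cfsg.Agent.S4027

open Cfsg.Agent.H1
open scoped Pointwise commutatorElement

/-- Let G be a finite group in which every element x of odd order satisfies N_G(⟨x⟩) = C_G(x). Then the Sylow 2-subgroups of G are normal. -/
theorem result {G : Type*} [Group G] [Finite G]
    (hirr : ∀ x : G, (∀ r : ℕ, r.Prime → r ∣ orderOf x → r ≠ 2) →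
      Subgroup.normalizer ((Subgroup.zpowers x : Subgroup G) : Set G) ≤ Subgroup.centralizer {x}) (P : Sylow 2 G) :
    (P : Subgroup G).Normal := by
  apply sylow_two_normal_of_no_inversion
  intro u h _ hodd huh
  have hcond : ∀ r : ℕ, r.Prime → r ∣ orderOf h → r ≠ 2 := by
    intro r _ hrd h2
    subst h2
    exact (Nat.not_even_iff_odd.mpr hodd) (even_iff_two_dvd.mpr hrd)
  have hun : u ∈ Subgroup.normalizer ((Subgroup.zpowers h : Subgroup G) : Set G) := by
    apply mem_normalizer_of_map_conj_le
    rw [MonoidHom.map_zpowers]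
    show Subgroup.zpowers (u * h * u⁻¹) ≤ _
    rw [huh, Subgroup.zpowers_inv]
  have huc := hirr h hcond hun
  rw [mem_centralizer_singleton_iff] at huc
  apply eq_one_of_mul_self_of_odd h hodd
  have : h = h⁻¹ := by rw [← huh, huc, mul_inv_cancel_right]
  calc h * h = h * h⁻¹ := by rw [← this]
    _ = 1 := mul_inv_cancel h

end Cfsg.Agent.S4027
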