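import Cfsg.Statements.S4036
import Mathlib

set_option autoImplicit false
open Cfsg

namespace Cfsg.Agent.S4036



/-- Let P be a finite abelian p-group and K a group of automorphisms of P (a subgroup of Aut P) whose order is divisible by p. If all non-identity elements of K have the same fixed-point subgroup on P, then K has no non-trivial normal subgroup of order prime to p. -/
theorem result {P : Type*} [CommGroup P] [Finite P] {p : ℕ}
    [Fact p.Prime] (hP : IsPGroup p P) (K : Subgroup (MulAut P)) (hK : p ∣ Nat.card K)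
    (hfix : ∀ x y : MulAut P, x ∈ K → y ∈ K → x ≠ 1 → y ≠ 1 → ∀ v : P, x v = v ↔ y v = v) :
    ∀ N : Subgroup ↥K, N.Normal → ¬ p ∣ Nat.card N → N = ⊥ := by
  classical
  intro N hN hpN
  by_contra hne
  haveI : Fintype ↥N := Fintype.ofFinite _
  obtain ⟨x, hx⟩ := exists_prime_orderOf_dvd_card' p hK
  have hx1 : x ≠ 1 := by
    intro h
    rw [h, orderOf_one] at hx
    exact (Fact.out : p.Prime).one_lt.ne hx
  have hx1' : (x : MulAut P) ≠ 1 := fun h => hx1 (Subtype.ext h)
  obtain ⟨n, hn1⟩ := (Subgroup.ne_bot_iff_exists_ne_one).mp hne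
  have hn1' : ((n : ↥K) : MulAut P) ≠ 1 := fun h => hn1 (Subtype.ext (Subtype.ext h))
  -- the commutator subgroup `[P, N]`
  let gens : Set P := {w | ∃ m : ↥N, ∃ v : P, w = ((m : ↥K) : MulAut P) v * v⁻¹}
  let P₁ : Subgroup P := Subgroup.closure gens
  -- the norm map
  let τ : P →* P :=
    { toFun := fun v => ∏ m : ↥N, ((m : ↥K) : MulAut P) v
      map_one' := by simp
      map_mul' := fun a b => by simp [Finset.prod_mul_distrib] }
  have hτ : ∀ v, τ v = ∏ m : ↥N, ((m : ↥K) : MulAut P) v := fun v => rfl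
  have hτinv : ∀ (m₀ : ↥N) (v : P), τ (((m₀ : ↥K) : MulAut P) v) = τ v := by
    intro m₀ v
    rw [hτ, hτ]
    exact Fintype.prod_equiv (Equiv.mulRight m₀) _ _ (fun m => rfl)
  have hker : P₁ ≤ τ.ker := by
    rw [Subgroup.closure_le]
    rintro w ⟨m, v, rfl⟩
    show τ _ = 1
    rw [map_mul, map_inv, hτinv, mul_inv_cancel]
  have hfixN : ∀ w ∈ P₁, (∀ m : ↥N, ((m : ↥K) : MulAut P) w = w) → w = 1 := by
    intro w hw hall
    have h1 : τ w = 1 := hker hw
    rw [hτ] at h1
    have h2 : ∏ m : ↥N, ((m : ↥K) : MulAut P) w = w ^ Fintype.card ↥N := by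
      rw [Finset.prod_congr rfl (fun m _ => hall m), Finset.prod_const, Finset.card_univ]
    rw [h2] at h1
    obtain ⟨k, hk⟩ := (IsPGroup.iff_orderOf.mp hP) w
    have h3 : orderOf w ∣ Fintype.card ↥N := orderOf_dvd_of_pow_eq_one h1
    rcases Nat.eq_zero_or_pos k with hk0 | hkpos
    · rw [hk0, pow_zero] at hk
      exact orderOf_eq_one_iff.mp hk
    · exfalso
      apply hpN
      rw [Nat.card_eq_fintype_card]
      refine dvd_trans ?_ h3
      rw [hk]
      exact dvd_pow_self p (Nat.pos_iff_ne_zero.mp hkpos)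
  -- `K`-invariance of `P₁`
  have hinv : ∀ y : MulAut P, y ∈ K → ∀ w ∈ P₁, y w ∈ P₁ := by
    intro y hy
    have : P₁ ≤ P₁.comap y.toMonoidHom := by
      rw [Subgroup.closure_le]
      rintro w ⟨m, v, rfl⟩
      show y _ ∈ P₁
      have hm : (⟨y, hy⟩ : ↥K) * (m : ↥K) * (⟨y, hy⟩ : ↥K)⁻¹ ∈ N := hN.conj_mem _ m.2 _
      apply Subgroup.subset_closure
      refine ⟨⟨_, hm⟩, y v, ?_⟩
      simp [MulAut.mul_apply]
    intro w hw
    exact this hw
  -- `P₁ ≠ ⊥`
  have hP₁ne : P₁ ≠ ⊥ := by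
    intro hbot
    apply hn1'
    ext v
    have hmem : ((n : ↥K) : MulAut P) v * v⁻¹ ∈ P₁ := Subgroup.subset_closure ⟨n, v, rfl⟩
    rw [hbot, Subgroup.mem_bot] at hmem
    rw [MulAut.one_apply]
    exact mul_inv_eq_one.mp hmem
  have hdvd : p ∣ Nat.card ↥P₁ := by
    rcases (hP.to_subgroup P₁).card_eq_or_dvd with h | h
    · exact absurd (Subgroup.card_eq_one.mp h) hP₁ne
    · exact h
  -- the action of `⟨x⟩` on `P₁`
  let Z : Subgroup ↥K := Subgroup.zpowers x
  have hZ : IsPGroup p ↥Z := by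
    apply IsPGroup.of_card (n := 1)
    rw [pow_one, Nat.card_zpowers, hx]
  letI act : MulAction ↥Z ↥P₁ :=
    { smul := fun z w => ⟨((z : ↥K) : MulAut P) (w : P), hinv _ (z : ↥K).2 _ w.2⟩
      one_smul := fun w => Subtype.ext (by
        show (((1 : ↥Z) : ↥K) : MulAut P) (w : P) = w
        simp)
      mul_smul := fun z z' w => Subtype.ext (by
        show (((z * z' : ↥Z) : ↥K) : MulAut P) (w : P) =
          ((z : ↥K) : MulAut P) (((z' : ↥K) : MulAut P) (w : P))
        simp [MulAut.mul_apply]) }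
  have hsmul : ∀ (z : ↥Z) (w : ↥P₁), ((z • w : ↥P₁) : P) = ((z : ↥K) : MulAut P) (w : P) :=
    fun z w => rfl
  have h1fix : (1 : ↥P₁) ∈ MulAction.fixedPoints ↥Z ↥P₁ := by
    intro z
    apply Subtype.ext
    rw [hsmul]
    simp
  obtain ⟨b, hb, hb1⟩ := hZ.exists_fixed_point_of_prime_dvd_card_of_fixed_point ↥P₁ hdvd h1fix
  have hbx : (x : MulAut P) (b : P) = b := by
    have := hb ⟨x, Subgroup.mem_zpowers x⟩
    have h' := congrArg Subtype.val this
    rw [hsmul] at h'
    exact h'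
  have hb1' : (b : P) ≠ 1 := fun h => hb1 (Subtype.ext h).symm
  apply hb1'
  apply hfixN _ b.2
  intro m
  by_cases hm1 : ((m : ↥K) : MulAut P) = 1
  · rw [hm1, MulAut.one_apply]
  · exact (hfix (x : MulAut P) ((m : ↥K) : MulAut P) x.2 (m : ↥K).2 hx1' hm1 (b : P)).mp hbx

end Cfsg.Agent.S4036
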