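import Cfsg.Statements.S4037
import Cfsg.Agent.Lib.Lead.Kazarin2

set_option autoImplicit false
open Cfsg

namespace Cfsg.Agent.S4037

theorem index_centralizer_eq_ncard {G : Type*} [Group G] (x : G) :
    (Subgroup.centralizer ({x} : Set G)).index = (ConjClasses.mk x).carrier.ncard := by
  have h1 : (Subgroup.centralizer ({x} : Set G)).index
      = (MulAction.stabilizer (ConjAct G) x).index := by
    rw [Subgroup.centralizer_eq_comap_stabilizer]
    exact Subgroup.index_comap_of_surjective _ (ConjAct.toConjAct (G := G)).surjective
  rw [h1, MulAction.index_stabilizer, ConjAct.orbit_eq_carrier_conjClasses]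

/-- If an element x of a finite group G has a conjugacy class of prime-power size, then the normal closure of x in G (the subgroup generated by the conjugacy class of x) is solvable. -/
theorem result {G : Type*} [Group G] [Finite G]
    (x : G) {p : ℕ} (hp : p.Prime) (k : ℕ) (hx : (ConjClasses.mk x).carrier.ncard = p ^ k) :
    Group.IsSolvable ↥(Subgroup.normalClosure ({x} : Set G)) := by
  have hclass : (Subgroup.centralizer ({x} : Set G)).index = p ^ k := by
    rw [index_centralizer_eq_ncard, hx]
  obtain ⟨K, hKn, hKs, hxK⟩ := Cfsg.Agent.Lib.Lead.Kazarin.kazarin hp x k hclass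
  haveI := hKn
  have hle : Subgroup.normalClosure ({x} : Set G) ≤ K :=
    Subgroup.normalClosure_le_normal (Set.singleton_subset_iff.mpr hxK)
  exact Group.isSolvable_of_isSolvable_injective (f := Subgroup.inclusion hle)
    (Subgroup.inclusion_injective hle)

end Cfsg.Agent.S4037
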