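import Cfsg.Statements.S4043
import Mathlib
import Cfsg.Agent.Lib.Lead.Conj
import Cfsg.Agent.Lib.Lead.PGroup
import Cfsg.Agent.H1.PSolvableHall

set_option autoImplicit false
open Cfsg

namespace Cfsg.Agent.S4043

open Cfsg.Agent.Lib.Lead.Conj
open scoped Pointwise

theorem data_of {G : Type*} [Group G] [Finite G] {p : ℕ} [Fact p.Prime] (A : Subgroup G)
    (h : Cfsg.HasNormalPComplement p A) :
    ∃ K P : Subgroup G, K ≤ A ∧ P ≤ A ∧ A ≤ Subgroup.normalizer (K : Set G) ∧ (Nat.card K).Coprime p ∧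
      IsPGroup p P ∧ (∀ a ∈ A, ∃ k ∈ K, ∃ q ∈ P, a = k * q) ∧ (∃ j : ℕ, ∀ a ∈ A, a ^ p ^ j ∈ K) := by
  have hp : p.Prime := Fact.out
  obtain ⟨P, K, hKn, hc⟩ := h
  haveI := hKn
  have hcard := hc.card_mul_card
  have hidx : (P : Subgroup A).index = Nat.card ↥K := by
    have h3 := (P : Subgroup A).card_mul_index
    rw [← hcard, mul_comm] at h3
    exact Nat.eq_of_mul_eq_mul_right Nat.card_pos h3
  obtain ⟨j, hj⟩ := IsPGroup.iff_card.mp P.isPGroup'
  have hKidx : K.index = p ^ j := by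
    have h2 := K.card_mul_index
    rw [← hcard] at h2
    rw [← hj]
    exact Nat.eq_of_mul_eq_mul_left Nat.card_pos h2
  refine ⟨K.map A.subtype, (P : Subgroup A).map A.subtype, Subgroup.map_subtype_le _,
    Subgroup.map_subtype_le _, ?_, ?_, ?_, ?_, ?_⟩
  · intro a ha
    apply mem_normalizer_of_conj_mem
    rintro _ ⟨k, hk, rfl⟩
    refine ⟨(⟨a, ha⟩ : A) * k * (⟨a, ha⟩ : A)⁻¹, hKn.conj_mem k hk _, ?_⟩
    simp
  · rw [Subgroup.card_map_of_injective A.subtype_injective, ← hidx]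
    exact (Nat.Coprime.symm ((Nat.Prime.coprime_iff_not_dvd hp).mpr P.not_dvd_index))
  · exact P.isPGroup'.map A.subtype
  · intro a ha
    have hmem : (⟨a, ha⟩ : A) ∈ ((K : Set A) * ((P : Subgroup A) : Set A)) := by
      rw [hc.mul_eq]; trivial
    obtain ⟨k, hk, q, hq, hkq⟩ := hmem
    refine ⟨(k : G), Subgroup.mem_map_of_mem _ hk, (q : G), Subgroup.mem_map_of_mem _ hq, ?_⟩
    have := congrArg Subtype.val hkq
    simpa using this.symm
  · refine ⟨j, ?_⟩
    intro a ha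
    have h1 : (⟨a, ha⟩ : A) ^ K.index ∈ K := Subgroup.pow_index_mem K _
    rw [hKidx] at h1
    refine ⟨_, h1, ?_⟩
    simp

theorem step1 {G : Type*} [Group G] [Finite G] {p : ℕ} [Fact p.Prime] (N : Subgroup G) [N.Normal]
    (A : Subgroup G) (hA : A.IsComplement' N) (K : Subgroup G) (j : ℕ) (hj : ∀ a ∈ A, a ^ p ^ j ∈ K)
    (x : G) (hx : (orderOf x).Coprime p) : x ∈ N ⊔ K := by
  have hp : p.Prime := Fact.out
  have hmem : x ∈ ((A : Set G) * (N : Set G)) := by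
    rw [hA.mul_eq]; trivial
  obtain ⟨a, ha, n, hn, rfl⟩ := hmem
  have hdisj : A ⊓ N = ⊥ := hA.disjoint.eq_bot
  have h1 : a ^ orderOf (a * n) = 1 := by
    have h2 : ((a * n : G) : G ⧸ N) = ((a : G) : G ⧸ N) := by
      rw [QuotientGroup.mk_mul, (QuotientGroup.eq_one_iff n).mpr hn, mul_one]
    have h3 : ((a ^ orderOf (a * n) : G) : G ⧸ N) = 1 := by
      rw [QuotientGroup.mk_pow, ← h2, ← QuotientGroup.mk_pow, pow_orderOf_eq_one]; rfl
    have h4 : a ^ orderOf (a * n) ∈ N := (QuotientGroup.eq_one_iff _).mp h3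
    have h5 : a ^ orderOf (a * n) ∈ A ⊓ N := ⟨A.pow_mem ha _, h4⟩
    rw [hdisj, Subgroup.mem_bot] at h5
    exact h5
  have hdvd : orderOf a ∣ orderOf (a * n) := orderOf_dvd_of_pow_eq_one h1
  have hcop : (p ^ j).Coprime (orderOf a) :=
    Nat.Coprime.pow_left j (Nat.Coprime.coprime_dvd_right hdvd hx.symm)
  have haK : a ∈ K := by
    rcases Nat.lt_or_ge 1 (orderOf a) with h | h
    · obtain ⟨m, -, hm⟩ := Nat.exists_mul_mod_eq_one_of_coprime hcop h
      have e : a = (a ^ p ^ j) ^ m := by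
        rw [← pow_mul, ← pow_mod_orderOf, hm, pow_one]
      rw [e]
      exact K.pow_mem (hj a ha) m
    · have h0 : 0 < orderOf a := orderOf_pos a
      have h1' : orderOf a = 1 := by omega
      rw [orderOf_eq_one_iff] at h1'
      rw [h1']; exact K.one_mem
  rw [sup_comm]
  exact Subgroup.mul_mem_sup haK hn

theorem norm_inf_bot {G : Type*} [Group G] [Finite G] {p : ℕ} [Fact p.Prime] (N : Subgroup G) [N.Normal]
    (hN : IsPGroup p N) (A K P : Subgroup G) (hAN : A ⊓ N = ⊥) (hKA : K ≤ A) (hPA : P ≤ A)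
    (hAK : A ≤ Subgroup.normalizer (K : Set G)) (hP : IsPGroup p P)
    (hdec : ∀ a ∈ A, ∃ k ∈ K, ∃ q ∈ P, a = k * q)
    (hC : ∀ n : G, n ∈ N → (∀ a : G, a ∈ A → a * n * a⁻¹ = n) → n = 1) :
    Subgroup.normalizer (K : Set G) ⊓ N = ⊥ := by
  rw [eq_bot_iff]
  intro y hy
  obtain ⟨hyK, hyN⟩ := Subgroup.mem_inf.mp hy
  rw [Subgroup.mem_bot]
  -- y centralizes K
  have hycent : y ∈ Subgroup.centralizer (K : Set G) := by
    rw [Subgroup.mem_centralizer_iff]
    intro k hk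
    have h1 : y * k * y⁻¹ ∈ K := ((Subgroup.mem_normalizer_iff.mp hyK) k).mp hk
    have h2 : y * k * y⁻¹ * k⁻¹ ∈ K := K.mul_mem h1 (K.inv_mem hk)
    have h3 : y * k * y⁻¹ * k⁻¹ ∈ N := by
      have h4 : k * y⁻¹ * k⁻¹ ∈ N := Subgroup.Normal.conj_mem inferInstance _ (N.inv_mem hyN) k
      have e : y * k * y⁻¹ * k⁻¹ = y * (k * y⁻¹ * k⁻¹) := by group
      rw [e]; exact N.mul_mem hyN h4
    have h5 : y * k * y⁻¹ * k⁻¹ ∈ A ⊓ N := ⟨hKA h2, h3⟩
    rw [hAN, Subgroup.mem_bot] at h5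
    have h6 : y * k = k * y := by
      calc y * k = (y * k * y⁻¹ * k⁻¹) * (k * y) := by group
        _ = k * y := by rw [h5, one_mul]
    exact h6.symm
  by_contra hy1
  set C : Subgroup G := N ⊓ Subgroup.centralizer (K : Set G) with hCdef
  have hyC : y ∈ C := ⟨hyN, hycent⟩
  have hCne : C ≠ ⊥ := by
    intro h
    rw [h, Subgroup.mem_bot] at hyC
    exact hy1 hyC
  have hCp : IsPGroup p C := hN.to_le inf_le_left
  have hPC : P ≤ Subgroup.normalizer (C : Set G) := by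
    intro q hq
    apply mem_normalizer_of_conj_mem
    intro c hc
    obtain ⟨hcN, hcK⟩ := Subgroup.mem_inf.mp hc
    refine Subgroup.mem_inf.mpr ⟨Subgroup.Normal.conj_mem inferInstance c hcN q, ?_⟩
    rw [Subgroup.mem_centralizer_iff] at hcK ⊢
    intro k hk
    have hqn := hAK (hPA hq)
    have h1 : q⁻¹ * k * q ∈ K := by
      refine ((Subgroup.mem_normalizer_iff.mp hqn) (q⁻¹ * k * q)).mpr ?_
      have e : q * (q⁻¹ * k * q) * q⁻¹ = k := by group
      rw [e]; exact hk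
    have h2 := hcK _ h1
    calc k * (q * c * q⁻¹) = q * ((q⁻¹ * k * q) * c) * q⁻¹ := by group
      _ = q * (c * (q⁻¹ * k * q)) * q⁻¹ := by rw [h2]
      _ = q * c * q⁻¹ * k := by group
  have hR : IsPGroup p (P ⊔ C : Subgroup G) := IsPGroup.to_sup_of_normal_right' hP hCp hPC
  have hRC : (P ⊔ C : Subgroup G) ≤ Subgroup.normalizer (C : Set G) := sup_le hPC Subgroup.le_normalizer
  haveI hnorm : (C.subgroupOf (P ⊔ C)).Normal :=
    (Subgroup.normal_subgroupOf_iff_le_normalizer le_sup_right).mpr hRC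
  have hne : C.subgroupOf (P ⊔ C) ≠ ⊥ := by
    intro h
    apply hCne
    rw [Subgroup.subgroupOf_eq_bot, disjoint_iff, inf_of_le_left le_sup_right] at h
    exact h
  obtain ⟨z, hzC, hzZ, hz1⟩ := Cfsg.Agent.Lib.Lead.PGroup.exists_mem_center_of_normal hR _ hne
  rw [Subgroup.mem_subgroupOf] at hzC
  apply hz1
  apply Subtype.ext
  apply hC (z : G) hzC.1
  intro a ha
  obtain ⟨k, hk, q, hq, rfl⟩ := hdec a ha
  have h1 : k * (z : G) = (z : G) * k := (Subgroup.mem_centralizer_iff.mp hzC.2) k hk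
  have h2 : q * (z : G) = (z : G) * q := by
    have := (Subgroup.mem_center_iff.mp hzZ) ⟨q, le_sup_left (a := P) (b := C) hq⟩
    exact congrArg Subtype.val this
  calc k * q * (z : G) * (k * q)⁻¹ = k * (q * (z : G)) * q⁻¹ * k⁻¹ := by group
    _ = k * ((z : G) * q) * q⁻¹ * k⁻¹ := by rw [h2]
    _ = (k * (z : G)) * k⁻¹ := by group
    _ = (z : G) := by rw [h1]; group

/-- Let G be a finite group that is the semidirect product of a normal p-subgroup N by a subgroup A, and also of N by a subgroup A₁, where p is a prime and A and A₁ both have normal p-complements. If C_N(A) = C_N(A₁) = 1, then A₁ is conjugate to A by an element of N. -/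
theorem result {G : Type*} [Group G] [Finite G] {p : ℕ}
    [Fact p.Prime] (N : Subgroup G) [N.Normal] (hN : IsPGroup p N) (A A₁ : Subgroup G)
    (hA : A.IsComplement' N) (hA₁ : A₁.IsComplement' N)
    (hAp : Cfsg.HasNormalPComplement p A) (hA₁p : Cfsg.HasNormalPComplement p A₁)
    (hC : ∀ n : G, n ∈ N → (∀ a : G, a ∈ A → a * n * a⁻¹ = n) → n = 1)
    (hC₁ : ∀ n : G, n ∈ N → (∀ a : G, a ∈ A₁ → a * n * a⁻¹ = n) → n = 1) :
    ∃ n : G, n ∈ N ∧ A₁ = A.map (MulAut.conj n).toMonoidHom := by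

  classical
  have hp : p.Prime := Fact.out
  obtain ⟨K, P, hKA, hPA, hAK, hKcop, hP, hdec, j, hj⟩ := data_of A hAp
  obtain ⟨K₁, P₁, hK₁A, hP₁A, hAK₁, hK₁cop, hP₁, hdec₁, j₁, hj₁⟩ := data_of A₁ hA₁p
  have hAN : A ⊓ N = ⊥ := hA.disjoint.eq_bot
  have hA₁N : A₁ ⊓ N = ⊥ := hA₁.disjoint.eq_bot
  obtain ⟨e, he⟩ := IsPGroup.iff_card.mp hN
  have hKN : (Nat.card K).Coprime (Nat.card N) := by rw [he]; exact Nat.Coprime.pow_right e hKcop
  have hK₁N : (Nat.card K₁).Coprime (Nat.card N) := by rw [he]; exact Nat.Coprime.pow_right e hK₁cop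
  have hNsolv : Group.IsSolvable N := by
    haveI := hN.isNilpotent
    infer_instance
  have hK₁le : K₁ ≤ N ⊔ K := by
    intro x hx
    apply step1 N A hA K j hj x
    exact Nat.Coprime.coprime_dvd_left (Subgroup.orderOf_dvd_natCard K₁ hx) hK₁cop
  have hKle : K ≤ N ⊔ K₁ := by
    intro x hx
    apply step1 N A₁ hA₁ K₁ j₁ hj₁ x
    exact Nat.Coprime.coprime_dvd_left (Subgroup.orderOf_dvd_natCard K hx) hKcop
  obtain ⟨x, hxN, hx⟩ := Cfsg.Agent.H1.le_conj_of_le_sup N K K₁ hKN hK₁N hNsolv hK₁le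
  obtain ⟨y, hyN, hy⟩ := Cfsg.Agent.H1.le_conj_of_le_sup N K₁ K hK₁N hKN hNsolv hKle
  have hK₁eq : K₁ = K.map (MulAut.conj x).toMonoidHom := by
    have h1 : K₁ ≤ K.map (MulAut.conj x).toMonoidHom := hx
    apply Subgroup.eq_of_le_of_card_ge h1
    rw [card_map_conj]
    calc Nat.card K ≤ Nat.card (MulAut.conj y • K₁ : Subgroup G) := Subgroup.card_le_of_le hy
      _ = Nat.card K₁ := Cfsg.Agent.H1.card_conj_smul y K₁
  have hA₂norm : A.map (MulAut.conj x).toMonoidHom ≤ Subgroup.normalizer (K₁ : Set G) := by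
    rintro _ ⟨a, ha, rfl⟩
    apply mem_normalizer_of_conj_mem
    intro l hl
    rw [hK₁eq] at hl ⊢
    obtain ⟨k, hk, rfl⟩ := hl
    refine ⟨a * k * a⁻¹, ?_, ?_⟩
    · exact ((Subgroup.mem_normalizer_iff.mp (hAK ha)) k).mp hk
    · simp [map_mul]
      group
  have hnb := norm_inf_bot N hN A₁ K₁ P₁ hA₁N hK₁A hP₁A hAK₁ hP₁ hdec₁ hC₁
  have hNle : Subgroup.normalizer (K₁ : Set G) ≤ A₁ := by
    intro g hg
    have hmem : g ∈ ((A₁ : Set G) * (N : Set G)) := by rw [hA₁.mul_eq]; trivial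
    obtain ⟨a, ha, n, hn, rfl⟩ := hmem
    have h1 : n ∈ Subgroup.normalizer (K₁ : Set G) ⊓ N := by
      refine ⟨?_, hn⟩
      have e' : n = a⁻¹ * (a * n) := by group
      rw [e']
      exact Subgroup.mul_mem _ (Subgroup.inv_mem _ (hAK₁ ha)) hg
    rw [hnb, Subgroup.mem_bot] at h1
    subst h1
    show a * 1 ∈ A₁
    rw [mul_one]; exact ha
  have hA₂le : A.map (MulAut.conj x).toMonoidHom ≤ A₁ := hA₂norm.trans hNle
  have hcA : Nat.card A * Nat.card N = Nat.card G := hA.card_mul_card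
  have hcA₁ : Nat.card A₁ * Nat.card N = Nat.card G := hA₁.card_mul_card
  have hcard : Nat.card A₁ ≤ Nat.card (A.map (MulAut.conj x).toMonoidHom) := by
    rw [card_map_conj]
    have h2 : Nat.card A * Nat.card N = Nat.card A₁ * Nat.card N := by rw [hcA, hcA₁]
    exact le_of_eq (Nat.eq_of_mul_eq_mul_right Nat.card_pos h2).symm
  exact ⟨x, hxN, (Subgroup.eq_of_le_of_card_ge hA₂le hcard).symm⟩

end Cfsg.Agent.S4043
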