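import Cfsg.Statements.S4049
import Mathlib
import Cfsg.Agent.H1.Basic
import Cfsg.Agent.H1.SylowMore
import Cfsg.Agent.H1.SylowTwoNormal

set_option autoImplicit false
open Cfsg

namespace Cfsg.Agent.S4049

open Cfsg.Agent.H1
open scoped Pointwise commutatorElement

/-- Let G be a finite group such that N_G(H)/C_G(H) has odd order for every nontrivial subgroup H of odd order. Then the Sylow 2-subgroups of G are normal. -/
theorem result {G : Type*} [Group G] [Finite G]
    (hhom : ∀ H : Subgroup G, H ≠ ⊥ → ¬ 2 ∣ Nat.card ↥H →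
        ¬ 2 ∣ (Subgroup.centralizer (H : Set G)).relIndex (Subgroup.normalizer (H : Set G))) (P : Sylow 2 G) :
    (P : Subgroup G).Normal := by
  apply sylow_two_normal_of_no_inversion
  intro u h hu hodd huh
  by_contra h1
  have hH : Subgroup.zpowers h ≠ ⊥ := by
    rw [Ne, Subgroup.zpowers_eq_bot]; exact h1
  have hHodd : ¬ 2 ∣ Nat.card (Subgroup.zpowers h) := by
    rw [Nat.card_zpowers]
    intro h2
    exact (Nat.not_even_iff_odd.mpr hodd) (even_iff_two_dvd.mpr h2)
  have hun : u ∈ Subgroup.normalizer ((Subgroup.zpowers h : Subgroup G) : Set G) := by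
    apply mem_normalizer_of_map_conj_le
    rw [MonoidHom.map_zpowers]
    show Subgroup.zpowers (u * h * u⁻¹) ≤ _
    rw [huh, Subgroup.zpowers_inv]
  have huc : u ∈ Subgroup.centralizer ((Subgroup.zpowers h : Subgroup G) : Set G) :=
    mem_of_two_pow_order_of_odd_relIndex _ _ (hhom _ hH hHodd) u hun hu
  have hcomm : h * u = u * h := (Subgroup.mem_centralizer_iff.mp huc) h (Subgroup.mem_zpowers h)
  apply h1
  apply eq_one_of_mul_self_of_odd h hodd
  have : h = h⁻¹ := by rw [← huh, ← hcomm, mul_inv_cancel_right]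
  calc h * h = h * h⁻¹ := by rw [← this]
    _ = 1 := mul_inv_cancel h

end Cfsg.Agent.S4049
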