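import Cfsg.Statements.S4050
import Mathlib
import Cfsg.Agent.H1.Basic
import Cfsg.Agent.H1.Card
import Cfsg.Agent.H1.PiClosed

set_option autoImplicit false
open Cfsg

namespace Cfsg.Agent.S4050

set_option autoImplicit false
open H1

/-- Let π be a set of primes and G a finite group. The π-elements of G (elements whose order is divisible only by primes of π) form a subgroup if and only if G is π-separable (it has a chain of normal subgroups from 1 to G with each successive index divisible only by primes in π or only by primes outside π) and N_G(H)/C_G(H) is a π'-group for every nontrivial π'-subgroup H of G. -/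
theorem result {G : Type*} [Group G] [Finite G] (π : Set ℕ)
    (hπ : ∀ p ∈ π, p.Prime) :
    (∃ K : Subgroup G, ∀ x : G, x ∈ K ↔ ∀ p : ℕ, p.Prime → p ∣ orderOf x → p ∈ π) ↔
    ((∃ (n : ℕ) (H : Fin (n + 1) → Subgroup G), H 0 = ⊥ ∧ H (Fin.last n) = ⊤ ∧ Monotone H ∧ (∀ i, (H i).Normal) ∧
      ∀ i : Fin n, (∀ q : ℕ, q.Prime → q ∣ (H i.castSucc).relIndex (H i.succ) → q ∈ π) ∨
        (∀ q : ℕ, q.Prime → q ∣ (H i.castSucc).relIndex (H i.succ) → q ∉ π)) ∧
     (∀ H : Subgroup G, H ≠ ⊥ → (∀ p : ℕ, p.Prime → p ∣ Nat.card ↥H → p ∉ π) →
        ∀ p : ℕ, p.Prime → p ∣ (Subgroup.centralizer (H : Set G)).relIndex (Subgroup.normalizer (H : Set G)) → p ∉ π)) := by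
  constructor
  · intro hcl
    have hcl' : PiClosed π G := hcl
    refine ⟨?_, relIndex_of_piHom (piHom_of_piClosed hcl')⟩
    obtain ⟨K, hK⟩ := hcl
    have hKn : K.Normal := by
      constructor
      intro x hx g
      rw [hK] at hx ⊢
      exact isPiElt_conj g x hx
    refine ⟨2, ![⊥, K, ⊤], rfl, rfl, ?_, ?_, ?_⟩
    · intro i j hij
      fin_cases i <;> fin_cases j <;> first | exact le_refl _ | exact bot_le | exact le_top | (exfalso; revert hij; decide)
    · intro i
      fin_cases i
      · exact (inferInstance : (⊥ : Subgroup G).Normal)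
      · exact hKn
      · exact (inferInstance : (⊤ : Subgroup G).Normal)
    · intro i
      fin_cases i
      · left
        intro q hq hqd
        have e : (⊥ : Subgroup G).relIndex K = Nat.card K := Subgroup.relIndex_bot_left K
        change q ∣ (⊥ : Subgroup G).relIndex K at hqd
        rw [e] at hqd
        haveI : Fact q.Prime := ⟨hq⟩
        obtain ⟨x, hx⟩ := exists_prime_orderOf_dvd_card' q hqd
        have := (hK (x : G)).mp x.2 q hq
        apply this
        rw [Subgroup.orderOf_coe, hx]
      · right
        intro q hq hqd hqπ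
        change q ∣ K.relIndex ⊤ at hqd
        haveI : Fact q.Prime := ⟨hq⟩
        refine not_dvd_relIndex_of_forall ⊤ K le_top q ?_ hqd
        rintro x - ⟨a, ha⟩
        exact (hK x).mpr (isPiElt_of_orderOf_eq_prime_pow hq hqπ ha)
  · rintro ⟨⟨n, H, h0, hlast, hmono, hnorm, hstep⟩, hhom⟩
    have hh : PiHom π G := piHom_of_relIndex hhom
    have claim : ∀ i : ℕ, ∀ hi : i < n + 1, PiClosed π (H ⟨i, hi⟩) := by
      intro i
      induction i with
      | zero =>
        intro hi
        apply piClosed_of_card_pi
        intro p hp hpd
        have e : H ⟨0, hi⟩ = ⊥ := h0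
        rw [e, Subgroup.card_bot] at hpd
        exact absurd (Nat.dvd_one.mp hpd) hp.ne_one
      | succ i ih =>
        intro hi
        have hi' : i < n := by omega
        have ihA := ih (by omega)
        set j : Fin n := ⟨i, hi'⟩ with hj
        have eA : H ⟨i, by omega⟩ = H j.castSucc := rfl
        have eB : H ⟨i + 1, hi⟩ = H j.succ := rfl
        rw [eB]
        rw [eA] at ihA
        set A := H j.castSucc with hA
        set B := H j.succ with hB
        have hAB : A ≤ B := hmono (Fin.castSucc_lt_succ (i := j)).le
        haveI : A.Normal := hnorm _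
        have hK : PiClosed π (A.subgroupOf B) :=
          PiClosed.of_mulEquiv (Subgroup.subgroupOfEquivOfLe hAB).symm ihA
        have hQ : PiClosed π (↥B ⧸ A.subgroupOf B) := by
          have hcard : Nat.card (↥B ⧸ A.subgroupOf B) = A.relIndex B := rfl
          rcases hstep j with h1 | h1
          · apply piClosed_of_card_pi
            intro p hp hpd
            rw [hcard] at hpd
            exact h1 p hp hpd
          · apply piClosed_of_card_pi'
            intro p hp hpd
            rw [hcard] at hpd
            exact h1 p hp hpd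
        exact piClosed_extension π (hh.subgroup B) (A.subgroupOf B) hK hQ
    have hfin := claim n (by omega)
    have e : H ⟨n, by omega⟩ = ⊤ := hlast
    rw [e] at hfin
    exact PiClosed.of_mulEquiv Subgroup.topEquiv hfin

end Cfsg.Agent.S4050
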