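import Cfsg.Statements.S4056
import Mathlib
import Cfsg.Prelude.Def_Transfer
import Cfsg.Agent.H1.Basic
import Cfsg.Agent.H1.PGroup
import Cfsg.Agent.H1.Class2

set_option autoImplicit false
open Cfsg

namespace Cfsg.Agent.S4056

open Cfsg.Agent.H1
open scoped commutatorElement

/-- In a finite 2-group of nilpotency class at most 2 and exponent dividing 4, the Frattini subgroup lies in the centre and is elementary abelian. -/
theorem result {P : Type*} [Group P] [Finite P] (hP : IsPGroup 2 P)
    (hcl : Group.nilpotencyClass P ≤ 2) (hexp : Monoid.exponent P ∣ 4) :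
    frattini P ≤ Subgroup.center P ∧ Cfsg.IsElementaryAbelian 2 (frattini P) := by
  have : Fact (Nat.Prime 2) := ⟨Nat.prime_two⟩
  have hnil : Group.IsNilpotent P := hP.isNilpotent
  have hpow4 : ∀ x : P, x ^ 4 = 1 := Monoid.exponent_dvd_iff_forall_pow_eq_one.mp hexp
  -- commutators are central
  have hc : ∀ a b : P, ⁅a, b⁆ ∈ Subgroup.center P := by
    intro a b
    have h1 : Subgroup.upperCentralSeries P 2 = ⊤ := Subgroup.upperCentralSeries_eq_top_iff_nilpotencyClass_le.mpr hcl
    have h2 : a ∈ Subgroup.upperCentralSeries P (1 + 1) := by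
      show a ∈ Subgroup.upperCentralSeries P 2
      rw [h1]; trivial
    rw [Subgroup.mem_upperCentralSeries_succ_iff] at h2
    have := h2 b
    rw [Subgroup.upperCentralSeries_one] at this
    exact this
  -- commutators have order at most 2
  have hc2 : ∀ a b : P, ⁅a, b⁆ ^ 2 = 1 := by
    intro a b
    have h1 := class2_mul_pow hc b a 4
    rw [hpow4, hpow4, hpow4, one_mul, one_mul] at h1
    have h6 : Nat.choose 4 2 = 6 := by decide
    rw [h6] at h1
    have h4 := hpow4 ⁅a, b⁆
    have : ⁅a, b⁆ ^ 2 = ⁅a, b⁆ ^ 6 * (⁅a, b⁆ ^ 4)⁻¹ := by group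
    rw [this, ← h1, h4]; simp
  -- squares are central
  have hsq : ∀ x : P, x ^ 2 ∈ Subgroup.center P := by
    intro x
    rw [Subgroup.mem_center_iff]
    intro y
    have h1 := commutator_pow_of_central x y (hc x y) 2
    rw [hc2] at h1
    rw [commutatorElement_eq_one_iff_mul_comm] at h1
    exact h1.symm
  -- S
  obtain ⟨S, hS⟩ : ∃ S : Subgroup P, S = Subgroup.closure ({c | ∃ a b : P, ⁅a, b⁆ = c} ∪ {s | ∃ x : P, x ^ 2 = s}) := ⟨_, rfl⟩
  have hSZ : S ≤ Subgroup.center P := by
    rw [hS, Subgroup.closure_le]
    rintro g (⟨a, b, rfl⟩ | ⟨x, rfl⟩)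
    · exact hc a b
    · exact hsq x
  have hS2 : ∀ s ∈ S, s ^ 2 = 1 := by
    intro s hs
    rw [hS] at hs
    induction hs using Subgroup.closure_induction with
    | mem g hg =>
      rcases hg with ⟨a, b, rfl⟩ | ⟨x, rfl⟩
      · exact hc2 a b
      · rw [← pow_mul]; exact hpow4 x
    | one => simp
    | mul a b ha hb iha ihb =>
      have hac : a ∈ Subgroup.center P := hSZ (hS ▸ ha)
      have : Commute a b := (Subgroup.mem_center_iff.mp hac b).symm
      rw [this.mul_pow, iha, ihb, one_mul]
    | inv a _ iha => rw [inv_pow, iha, inv_one]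
  have hcommS : commutator P ≤ S := by
    rw [commutator_def, Subgroup.commutator_le]
    intro a _ b _
    rw [hS]
    exact Subgroup.subset_closure (Or.inl ⟨a, b, rfl⟩)
  have hSn : S.Normal := Subgroup.Normal.of_commutator_le P hcommS
  have hΦ : frattini P ≤ S := by
    have h1 := frattini_le_comap_frattini_of_surjective (QuotientGroup.mk'_surjective S)
    have h2 : frattini (P ⧸ S) = ⊥ := by
      apply frattini_eq_bot_of_elementary_abelian (p := 2)
      · intro a b
        induction a using QuotientGroup.induction_on with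
        | H a =>
          induction b using QuotientGroup.induction_on with
          | H b =>
            rw [← QuotientGroup.mk_mul, ← QuotientGroup.mk_mul, QuotientGroup.eq]
            have : (a * b)⁻¹ * (b * a) = ⁅b⁻¹, a⁻¹⁆ := by rw [commutatorElement_def]; group
            rw [this]
            exact hcommS (Subgroup.commutator_mem_commutator (Subgroup.mem_top _) (Subgroup.mem_top _))
      · intro v
        induction v using QuotientGroup.induction_on with
        | H x =>
          rw [← QuotientGroup.mk_pow, QuotientGroup.eq_one_iff, hS]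
          exact Subgroup.subset_closure (Or.inr ⟨x, rfl⟩)
    rw [h2] at h1
    intro x hx
    have := h1 hx
    rw [Subgroup.mem_comap, Subgroup.mem_bot] at this
    exact (QuotientGroup.eq_one_iff x).mp this
  refine ⟨hΦ.trans hSZ, ?_, fun a ha => hS2 a (hΦ ha)⟩
  apply IsMulCommutative.of_setLike_mul_comm
  intro a ha b _
  exact (Subgroup.mem_center_iff.mp (hSZ (hΦ ha)) b).symm

end Cfsg.Agent.S4056
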