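import Cfsg.Statements.S4059
import Mathlib
import Cfsg.Agent.H1.Basic
import Cfsg.Agent.S3863

set_option autoImplicit false
open Cfsg

namespace Cfsg.Agent.S4059

open Cfsg.Agent.H1
open scoped commutatorElement

/-- Let G be a finite group in which every element is conjugate to its inverse. Then: every non-identity element commuting with all elements of some Sylow 2-subgroup is an involution; the centre of G is an elementary abelian 2-group; the commutator quotient G/G' is an elementary abelian 2-group; and G is generated by its 2-elements. -/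
theorem result {G : Type*} [Group G] [Finite G] (hamb : ∀ x : G, IsConj x x⁻¹) :
    (∀ (S : Sylow 2 G) (x : G), x ∈ Subgroup.centralizer ((S : Subgroup G) : Set G) → x ≠ 1 → orderOf x = 2) ∧
    (∀ z : G, z ∈ Subgroup.center G → z ^ 2 = 1) ∧
    (∀ x : G, x ^ 2 ∈ commutator G) ∧
    Subgroup.closure {x : G | ∃ k : ℕ, orderOf x = 2 ^ k} = ⊤ := by
  have : Fact (Nat.Prime 2) := ⟨Nat.prime_two⟩
  refine ⟨?_, ?_, ?_, ?_⟩
  · intro S x hx hx1
    have h1 : (S : Subgroup G) ≤ Subgroup.centralizer ({x} : Set G) := by
      intro s hs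
      rw [mem_centralizer_singleton_iff]
      rw [Subgroup.mem_centralizer_iff] at hx
      exact hx s hs
    have h2 : Odd (Subgroup.centralizer ({x} : Set G)).index := by
      rw [← Nat.not_even_iff_odd, even_iff_two_dvd]
      intro h
      exact S.not_dvd_index (h.trans (Subgroup.index_dvd_of_le h1))
    have h3 := (Cfsg.Agent.S3863.result x (hamb x)).2.1 h2
    have h4 : orderOf x ∣ 2 := orderOf_dvd_of_pow_eq_one h3
    rcases (Nat.dvd_prime Nat.prime_two).mp h4 with h | h
    · exact absurd (orderOf_eq_one_iff.mp h) hx1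
    · exact h
  · intro z hz
    obtain ⟨c, hc⟩ := isConj_iff.mp (hamb z)
    rw [Subgroup.mem_center_iff] at hz
    rw [hz c, mul_inv_cancel_right] at hc
    rw [pow_two]
    nth_rewrite 2 [hc]
    exact mul_inv_cancel z
  · intro x
    obtain ⟨c, hc⟩ := isConj_iff.mp (hamb x)
    have : x ^ 2 = ⁅x, c⁆ := by
      rw [commutatorElement_def]
      have h1 : x * c * x⁻¹ * c⁻¹ = x * (c * x * c⁻¹)⁻¹ := by group
      rw [h1, hc, inv_inv, pow_two]
    rw [this]
    exact Subgroup.commutator_mem_commutator (Subgroup.mem_top x) (Subgroup.mem_top c)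
  · set H := Subgroup.closure {x : G | ∃ k : ℕ, orderOf x = 2 ^ k} with hH
    have hHn : H.Normal := by
      constructor
      intro n hn g
      rw [hH] at hn ⊢
      induction hn using Subgroup.closure_induction with
      | mem y hy =>
        apply Subgroup.subset_closure
        obtain ⟨k, hk⟩ := hy
        refine ⟨k, ?_⟩
        have : g * y * g⁻¹ = MulAut.conj g y := rfl
        rw [this, MulEquiv.orderOf_eq]
        exact hk
      | one => simp
      | mul y z _ _ hy hz =>
        have : g * (y * z) * g⁻¹ = (g * y * g⁻¹) * (g * z * g⁻¹) := by group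
        rw [this]; exact mul_mem hy hz
      | inv y _ hy =>
        have : g * y⁻¹ * g⁻¹ = (g * y * g⁻¹)⁻¹ := by group
        rw [this]; exact inv_mem hy
    have hodd : Odd H.index := by
      obtain ⟨S⟩ : Nonempty (Sylow 2 G) := inferInstance
      have hSH : (S : Subgroup G) ≤ H := by
        intro s hs
        apply Subgroup.subset_closure
        obtain ⟨c, hc⟩ := S.isPGroup' ⟨s, hs⟩
        have hsc : s ^ 2 ^ c = 1 := by
          have := congrArg Subtype.val hc
          simpa using this
        obtain ⟨k, _, hk⟩ := (Nat.dvd_prime_pow Nat.prime_two).mp (orderOf_dvd_of_pow_eq_one hsc)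
        exact ⟨k, hk⟩
      rw [← Nat.not_even_iff_odd, even_iff_two_dvd]
      intro h
      exact S.not_dvd_index (h.trans (Subgroup.index_dvd_of_le hSH))
    rw [eq_top_iff]
    intro x _
    obtain ⟨hxH, _⟩ := (Cfsg.Agent.S3863.result x (hamb x)).2.2 H hodd
    exact hxH

end Cfsg.Agent.S4059
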