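import Cfsg.Statements.S4060
import Mathlib
import Cfsg.Agent.H1.SylowMore
import Cfsg.Agent.H1.FrattiniExtra
import Cfsg.Agent.H1.ConjMap
import Cfsg.Agent.S0043
import Cfsg.Agent.H1.RealOdd

set_option autoImplicit false
open Cfsg

namespace Cfsg.Agent.S4060

set_option autoImplicit false
open H1

/-- Let G be a finite solvable group with Sylow 2-subgroup S, and let x ≠ 1 be an element of odd order normalizing S. Then x is not conjugate to its inverse in G. -/
theorem result {G : Type*} [Group G] [Finite G] [Group.IsSolvable G]
    (S : Sylow 2 G) (x : G) (hx : x ≠ 1) (hodd : Odd (orderOf x))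
    (hnorm : x ∈ Subgroup.normalizer ((S : Subgroup G) : Set G)) : ¬ IsConj x x⁻¹ := by
  exact not_real_aux _ G rfl S x hx hodd hnorm

end Cfsg.Agent.S4060
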