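import Cfsg.Statements.S4065
import Mathlib

set_option autoImplicit false
open Cfsg

namespace Cfsg.Agent.S4065

section helpers
variable {K : Type*} [Field K]

/-- two matrices commuting with a non-scalar `2 × 2` matrix commute -/
theorem comm_of_comm_nonscalar (A C D : Matrix (Fin 2) (Fin 2) K)
    (hA : ¬ (A 0 1 = 0 ∧ A 1 0 = 0 ∧ A 0 0 = A 1 1))
    (hC : C * A = A * C) (hD : D * A = A * D) : C * D = D * C := by
  have c00 := congrFun (congrFun hC 0) 0
  have c01 := congrFun (congrFun hC 0) 1
  have c10 := congrFun (congrFun hC 1) 0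
  have d00 := congrFun (congrFun hD 0) 0
  have d01 := congrFun (congrFun hD 0) 1
  have d10 := congrFun (congrFun hD 1) 0
  simp only [Matrix.mul_apply, Fin.sum_univ_two] at c00 c01 c10 d00 d01 d10
  -- the three "cross products" vanish
  have key : ∀ w : K, w ≠ 0 →
      (w * (C 0 1 * D 1 0 - C 1 0 * D 0 1) = 0) →
      (w * (C 0 1 * (D 1 1 - D 0 0) - D 0 1 * (C 1 1 - C 0 0)) = 0) →
      (w * (C 1 0 * (D 1 1 - D 0 0) - D 1 0 * (C 1 1 - C 0 0)) = 0) → C * D = D * C := by
    intro w hw h1 h2 h3
    have e1 := (mul_eq_zero.1 h1).resolve_left hw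
    have e2 := (mul_eq_zero.1 h2).resolve_left hw
    have e3 := (mul_eq_zero.1 h3).resolve_left hw
    ext i j
    fin_cases i <;> fin_cases j <;> simp only [Matrix.mul_apply, Fin.sum_univ_two] <;>
      simp only [Fin.zero_eta, Fin.mk_one, Fin.isValue]
    · linear_combination e1
    · linear_combination e2
    · linear_combination (-1 : K) * e3
    · linear_combination (-1 : K) * e1
  by_cases h1 : A 0 1 = 0
  · by_cases h2 : A 1 0 = 0
    · have h3 : A 1 1 - A 0 0 ≠ 0 := by
        intro h
        exact hA ⟨h1, h2, (sub_eq_zero.1 h).symm⟩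
      apply key _ h3
      · linear_combination (-(C 0 1)) * d10 - (C 1 0) * d01 + (D 1 1 - D 0 0) * c00
      · linear_combination (-(C 1 1 - C 0 0)) * d01 + (D 1 1 - D 0 0) * c01
      · linear_combination (C 1 1 - C 0 0) * d10 - (D 1 1 - D 0 0) * c10
    · apply key _ h2
      · linear_combination (D 1 0) * c00 - (C 1 0) * d00
      · linear_combination (C 0 1) * d10 - (C 1 1 - C 0 0) * d00 + (D 1 0) * c01
      · linear_combination (C 1 0) * d10 - (D 1 0) * c10
  · apply key _ h1
    · linear_combination (D 0 1) * c00 - (C 0 1) * d00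
    · linear_combination (D 0 1) * c01 - (C 0 1) * d01
    · linear_combination (-(C 1 0)) * d01 + (C 1 1 - C 0 0) * d00 - (D 0 1) * c10

end helpers

section ca
variable {G : Type*} [Group G]

/-- in a group in which centralisers of non-identity elements are abelian, centralisers are
TI-subsets -/
theorem ti_of_ca (hca : ∀ a : G, a ≠ 1 → ∀ c d : G, c * a = a * c → d * a = a * d → c * d = d * c)
    (x : G) : Cfsg.IsTISubset ((Subgroup.centralizer ({x} : Set G) : Subgroup G) : Set G) := by
  intro g hg y hy hgy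
  by_contra hy1
  apply hg
  rw [Subgroup.mem_normalizer_iff]
  intro n
  by_cases hx1 : x = 1
  · subst hx1
    simp [Subgroup.mem_centralizer_singleton_iff]
  have hy' : y * x = x * y := Subgroup.mem_centralizer_singleton_iff.1 hy
  have hgy' : g * y * g⁻¹ * x = x * (g * y * g⁻¹) := Subgroup.mem_centralizer_singleton_iff.1 hgy
  have hgy1 : g * y * g⁻¹ ≠ 1 := by
    intro h
    apply hy1
    have e : y = g⁻¹ * (g * y * g⁻¹) * g := by group
    rw [e, h]
    group
  -- centralisers of commuting non-identity elements coincide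
  have key : ∀ z : G, z ≠ 1 → z * x = x * z → ∀ n : G, n * x = x * n ↔ n * z = z * n := by
    intro z hz1 hz n
    constructor
    · intro hn
      exact hca x hx1 n z hn hz
    · intro hn
      exact hca z hz1 n x hn hz.symm
  change n ∈ Subgroup.centralizer ({x} : Set G) ↔ g * n * g⁻¹ ∈ Subgroup.centralizer ({x} : Set G)
  rw [Subgroup.mem_centralizer_singleton_iff, Subgroup.mem_centralizer_singleton_iff,
    key y hy1 hy' n, key (g * y * g⁻¹) hgy1 hgy' (g * n * g⁻¹)]
  constructor
  · intro h
    calc g * n * g⁻¹ * (g * y * g⁻¹) = g * (n * y) * g⁻¹ := by group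
      _ = g * (y * n) * g⁻¹ := by rw [h]
      _ = g * y * g⁻¹ * (g * n * g⁻¹) := by group
  · intro h
    calc n * y = g⁻¹ * (g * n * g⁻¹ * (g * y * g⁻¹)) * g := by group
      _ = g⁻¹ * (g * y * g⁻¹ * (g * n * g⁻¹)) * g := by rw [h]
      _ = y * n := by group

end ca

section psl
variable {K : Type*} [Field K]

theorem sl2_center_eq_bot (h2 : (2 : K) = 0) :
    Subgroup.center (Matrix.SpecialLinearGroup (Fin 2) K) = ⊥ := by
  rw [eq_bot_iff]
  intro A hA
  rw [Matrix.SpecialLinearGroup.mem_center_iff] at hA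
  obtain ⟨r, hr, hrA⟩ := hA
  rw [Fintype.card_fin] at hr
  have hr1 : r = 1 := by
    have : (r - 1) ^ 2 = 0 := by linear_combination hr + (1 - r) * h2
    have := pow_eq_zero_iff (two_ne_zero) |>.1 this
    exact sub_eq_zero.1 this
  rw [Subgroup.mem_bot]
  apply Subtype.ext
  rw [← hrA, hr1]
  simp

/-- centralisers of non-identity elements of `PSL₂` in characteristic two are abelian -/
theorem psl_comm (h2 : (2 : K) = 0) (a : Matrix.ProjectiveSpecialLinearGroup (Fin 2) K)
    (ha : a ≠ 1) (c d : Matrix.ProjectiveSpecialLinearGroup (Fin 2) K)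
    (hc : c * a = a * c) (hd : d * a = a * d) : c * d = d * c := by
  have hbot := sl2_center_eq_bot h2
  have hinj : ∀ X Y : Matrix.SpecialLinearGroup (Fin 2) K,
      (QuotientGroup.mk X : Matrix.ProjectiveSpecialLinearGroup (Fin 2) K) = QuotientGroup.mk Y →
      X = Y := by
    intro X Y h
    rw [QuotientGroup.eq, hbot, Subgroup.mem_bot] at h
    calc X = X * (X⁻¹ * Y) * Y⁻¹ * Y := by rw [h]; group
      _ = Y := by group
  induction a using QuotientGroup.induction_on with
  | H A =>
  induction c using QuotientGroup.induction_on with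
  | H C =>
  induction d using QuotientGroup.induction_on with
  | H D =>
  rw [← QuotientGroup.mk_mul, ← QuotientGroup.mk_mul] at hc hd ⊢
  have hc' := hinj _ _ hc
  have hd' := hinj _ _ hd
  congr 1
  apply Subtype.ext
  have hcm : C.1 * A.1 = A.1 * C.1 := congrArg Subtype.val hc'
  have hdm : D.1 * A.1 = A.1 * D.1 := congrArg Subtype.val hd'
  change C.1 * D.1 = D.1 * C.1
  apply comm_of_comm_nonscalar A.1 C.1 D.1 _ hcm hdm
  rintro ⟨h01, h10, h00⟩
  apply ha
  have hdet := A.2
  rw [Matrix.det_fin_two, h01, h10, h00] at hdet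
  have h11 : A.1 1 1 = 1 := by
    have : (A.1 1 1 - 1) ^ 2 = 0 := by linear_combination hdet + (1 - A.1 1 1) * h2
    have := pow_eq_zero_iff (two_ne_zero) |>.1 this
    exact sub_eq_zero.1 this
  have hA1 : A = 1 := by
    apply Subtype.ext
    ext i j
    fin_cases i <;> fin_cases j
    · simp [h00, h11]
    · simp [h01]
    · simp [h10]
    · simp [h11]
  rw [hA1]
  rfl

end psl


/-- Let F be a finite field with 2ⁿ elements, n ≥ 2. In PSL₂(F) the centralizer of every element meets each of its conjugates by elements outside its normalizer trivially. -/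
theorem result (n : ℕ) (hn : 2 ≤ n)
    (x : Matrix.ProjectiveSpecialLinearGroup (Fin 2) (GaloisField 2 n)) :
    Cfsg.IsTISubset (Subgroup.centralizer ({x} : Set (Matrix.ProjectiveSpecialLinearGroup (Fin 2) (GaloisField 2 n))) :
      Set (Matrix.ProjectiveSpecialLinearGroup (Fin 2) (GaloisField 2 n))) := by
  classical
  have : Fact (Nat.Prime 2) := ⟨Nat.prime_two⟩
  have hchar : CharP (GaloisField 2 n) 2 := inferInstance
  have h2 : (2 : GaloisField 2 n) = 0 := CharTwo.two_eq_zero
  exact ti_of_ca (fun a ha c d hc hd => psl_comm h2 a ha c d hc hd) x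

end Cfsg.Agent.S4065
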