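import Cfsg.Statements.S4067
import Mathlib
import Cfsg.Prelude
import Cfsg.Agent.H1.AutOrbG

set_option autoImplicit false
open Cfsg

namespace Cfsg.Agent.S4067

set_option autoImplicit false

/-- Let G be a finite non-abelian group and p the least prime dividing its order. Then the automorphism group of G has at most #G/p orbits on G. -/
theorem result {G : Type*} [Group G] [Finite G] (hna : ¬ IsMulCommutative G) :
    Nat.card (MulAction.orbitRel.Quotient (MulAut G) G) ≤ Nat.card G / (Nat.card G).minFac := by
  have hna' : ∃ a b : G, a * b ≠ b * a := by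
    by_contra h
    push Not at h
    exact hna ⟨⟨h⟩⟩
  have hn1 : Nat.card G ≠ 1 := by
    intro h
    obtain ⟨a, b, hab⟩ := hna'
    haveI : Subsingleton G := (Nat.card_eq_one_iff_unique.mp h).1
    exact hab (Subsingleton.elim _ _)
  have hp : (Nat.card G).minFac.Prime := Nat.minFac_prime hn1
  rw [Nat.le_div_iff_mul_le hp.pos, mul_comm]
  by_cases h2 : Nat.card G < (Nat.card G).minFac * Nat.card (ConjClasses G)
  · obtain ⟨e, hsurj, hZ, hO2⟩ := H1.AutOrbG.case2 hna' h2 _ rfl
    exact H1.AutOrbF.count_final hp rfl (H1.AutOrbB.sq_mul_card_center_le hna') e hsurj hZ hO2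
  · push Not at h2
    exact le_trans (Nat.mul_le_mul_left _ H1.AutOrbA.orbits_le_conjClasses) h2

end Cfsg.Agent.S4067
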