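import Mathlib
import Cfsg.Statements.S4068
import Cfsg.Agent.S0252
import Cfsg.Agent.H2.SL2Char2
import Cfsg.Agent.Lib.Helper5.Pow23
import Cfsg.Agent.Lib.Helper8.FourOrbA
import Cfsg.Agent.Lib.Helper8.FourOrbC
import Cfsg.Agent.Lib.Helper8.FourOrbD

set_option autoImplicit false
open Cfsg

namespace Cfsg.Agent.S4068

/-- A finite non-solvable group on which its automorphism group has exactly four orbits is isomorphic to the alternating group of degree 5. -/
theorem result {G : Type*} [Group G] [Finite G] (hns : ¬ Group.IsSolvable G)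
    (h4 : Nat.card (MulAction.orbitRel.Quotient (MulAut G) G) = 4) : Nonempty (G ≃* alternatingGroup (Fin 5)) := by
  obtain ⟨hP, h3, F, iF, iFt, a, ha, hF, ⟨e⟩⟩ := Cfsg.Agent.Lib.Helper8.FourOrb.partA hns h4
  have h2 : (2 : F) = 0 := by
    have h0 : ((Fintype.card F : ℕ) : F) = 0 := Nat.cast_card_eq_zero F
    rw [hF] at h0
    push_cast at h0
    exact (pow_eq_zero_iff (by omega)).1 h0
  -- `PSL₂(F) ≃* SL₂(F)` in characteristic two
  let e' : Matrix.ProjectiveSpecialLinearGroup (Fin 2) F ≃* Matrix.SpecialLinearGroup (Fin 2) F :=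
    (QuotientGroup.quotientMulEquivOfEq (Cfsg.Agent.H2.SL2Char2.center_eq_bot h2)).trans
      QuotientGroup.quotientBot
  let ε : G ≃* Matrix.SpecialLinearGroup (Fin 2) F := e.trans e'
  have hprime : ∀ g : Matrix.SpecialLinearGroup (Fin 2) F, g ≠ 1 → (orderOf g).Prime := by
    intro g hg
    have h1 : ε.symm g ≠ 1 := by
      intro h
      apply hg
      have := congrArg ε h
      simpa using this
    have := hP _ h1
    rwa [MulEquiv.orderOf_eq] at this
  have h3' : (Nat.card (Matrix.SpecialLinearGroup (Fin 2) F)).primeFactors.card ≤ 3 := by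
    rw [← Nat.card_congr ε.toEquiv]; exact h3
  have hF4 : Fintype.card F = 4 :=
    Cfsg.Agent.Lib.Helper8.FourOrb.card_eq_four a ha hF hprime h3'
      Cfsg.Agent.Lib.Helper5.Pow23.two_pow_add_one_eq_three_pow
      Cfsg.Agent.Lib.Helper8.FourOrb.exists_cubic_root'
  obtain ⟨e5⟩ := Cfsg.Agent.S0252.result hF4
  exact ⟨e.trans e5⟩

end Cfsg.Agent.S4068
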