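import Cfsg.Statements.S4074
import Mathlib
import Cfsg.Agent.H1.Dihedral
import Cfsg.Agent.H1.DihedralParity

set_option autoImplicit false
open Cfsg

namespace Cfsg.Agent.S4074

set_option autoImplicit false
open H1

/-- For n > 2, every non-abelian subgroup of the dihedral group of order 2n is self-normalizing if and only if n = 4 or n is odd. -/
theorem result (n : ℕ) (hn : 2 < n) :
    (∀ H : Subgroup (DihedralGroup n), ¬ IsMulCommutative H → Subgroup.normalizer (H : Set (DihedralGroup n)) = H) ↔
    (n = 4 ∨ Odd n) := by
  exact dihedral_nonabelian_selfnormalizing n hn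

end Cfsg.Agent.S4074
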