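import Cfsg.Statements.S4075
import Mathlib

set_option autoImplicit false
open Cfsg

namespace Cfsg.Agent.S4075



/-- Let G be a finite nilpotent group. Every non-abelian subgroup of G is self-normalizing if and only if G is abelian or G is a minimal non-abelian p-group for some prime p (non-abelian of prime-power order with every proper subgroup abelian). -/
theorem result {G : Type*} [Group G] [Finite G]
    [Group.IsNilpotent G] :
    (∀ H : Subgroup G, ¬ IsMulCommutative H → Subgroup.normalizer (H : Set G) = H) ↔
    (IsMulCommutative G ∨ (IsPrimePow (Nat.card G) ∧ ¬ IsMulCommutative G ∧ ∀ H : Subgroup G, H ≠ ⊤ → IsMulCommutative H)) := by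

  classical
  constructor
  · intro h
    by_cases hc : IsMulCommutative G
    · left; exact hc
    · right
      have hprop : ∀ H : Subgroup G, H ≠ ⊤ → IsMulCommutative H := by
        intro H hH
        by_contra hnc
        have h1 := h H hnc
        have h2 : H < Subgroup.normalizer (H : Set G) :=
          Group.normalizerCondition_of_isNilpotent H (lt_top_iff_ne_top.mpr hH)
        rw [h1] at h2
        exact lt_irrefl _ h2
      refine ⟨?_, hc, hprop⟩
      by_contra hpp
      apply hc
      obtain ⟨e⟩ := ((Group.isNilpotent_of_finite_tfae (G := G)).out 0 4 rfl rfl).mp inferInstance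
      have hsyl : ∀ (p : (Nat.card G).primeFactors) (P : Sylow p G), IsMulCommutative (P : Subgroup G) := by
        intro p P
        apply hprop
        intro htop
        apply hpp
        have hp : (p : ℕ).Prime := Nat.prime_of_mem_primeFactors p.2
        have hpd : (p : ℕ) ∣ Nat.card G := Nat.dvd_of_mem_primeFactors p.2
        have hpg : IsPGroup p G := by
          have h3 := P.isPGroup'
          rw [htop] at h3
          exact IsPGroup.of_surjective h3 (Subgroup.topEquiv (G := G)).toMonoidHom
            (Subgroup.topEquiv (G := G)).surjective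
        haveI : Fact (p : ℕ).Prime := ⟨hp⟩
        obtain ⟨n, hn⟩ := IsPGroup.iff_card.mp hpg
        have hn0 : n ≠ 0 := by
          rintro rfl
          have h1 : Nat.card G = 1 := by rw [hn, pow_zero]
          have h2 : (p : ℕ) ∣ 1 := h1 ▸ hpd
          exact hp.one_lt.ne' (Nat.dvd_one.mp h2)
        exact ⟨p, n, hp.prime, Nat.pos_of_ne_zero hn0, hn.symm⟩
      refine ⟨⟨fun a b => ?_⟩⟩
      obtain ⟨x, rfl⟩ := e.surjective a
      obtain ⟨y, rfl⟩ := e.surjective b
      rw [← map_mul, ← map_mul]
      congr 1
      funext p P
      exact (hsyl p P).is_comm.comm (x p P) (y p P)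
  · rintro (hc | ⟨_, hnc, hprop⟩) H hH
    · exfalso
      apply hH
      exact ⟨⟨fun a b => Subtype.ext (hc.is_comm.comm a.1 b.1)⟩⟩
    · have htop : H = ⊤ := by
        by_contra hne
        exact hH (hprop H hne)
      rw [htop]
      exact Subgroup.normalizer_eq_top ⊤

end Cfsg.Agent.S4075
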