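import Cfsg.Statements.S4080

set_option autoImplicit false
open Cfsg

namespace Cfsg.Agent.S4080

open Matrix

variable {p : ℕ} [hp : Fact p.Prime]

local notation "R" => ZMod (p ^ 2)
local notation "Mat" => Matrix (Fin 2) (Fin 2) (ZMod (p ^ 2))

theorem pi_sq : ((p : ℕ) : R) * ((p : ℕ) : R) = 0 := by
  rw [← Nat.cast_mul, ← pow_two]
  exact ZMod.natCast_self _

theorem nilpotent_dvd (x : R) (hx : IsNilpotent x) : ∃ y : R, x = (p : R) * y := by
  obtain ⟨k, hk⟩ := hx
  have : NeZero (p ^ 2) := ⟨pow_ne_zero 2 hp.out.ne_zero⟩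
  have h1 : ((x.val ^ k : ℕ) : R) = 0 := by
    rw [Nat.cast_pow, ZMod.natCast_zmod_val]; exact hk
  rw [ZMod.natCast_eq_zero_iff] at h1
  have h2 : p ∣ x.val ^ k := (dvd_pow_self p two_ne_zero).trans h1
  have h3 : p ∣ x.val := hp.out.dvd_of_dvd_pow h2
  obtain ⟨w, hw⟩ := h3
  refine ⟨(w : R), ?_⟩
  rw [← Nat.cast_mul, ← hw, ZMod.natCast_zmod_val]

theorem cayley (N : Mat) : N * N = N.trace • N - N.det • (1 : Mat) := by
  ext i j
  fin_cases i <;> fin_cases j <;>
    simp [Matrix.mul_apply, Fin.sum_univ_two, Matrix.trace_fin_two, Matrix.det_fin_two] <;> ring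

theorem choose_smul (k : ℕ) (hk : k ≠ 0) (hkp : k < p) (Y : Mat) :
    ∃ c : R, (p.choose k : Mat) * Y = ((p : R) * c) • Y := by
  obtain ⟨c, hc⟩ := hp.out.dvd_choose_self hk hkp
  refine ⟨(c : R), ?_⟩
  rw [hc, ← Nat.cast_mul, ← nsmul_eq_mul, Nat.cast_smul_eq_nsmul]

theorem sum_range_pred {M : Type*} [AddCommMonoid M] (f : ℕ → M) (n : ℕ) (hn : 1 ≤ n) :
    ∑ m ∈ Finset.range n, f m = f 0 + ∑ m ∈ Finset.range (n - 1), f (m + 1) := by
  obtain ⟨q, rfl⟩ := Nat.exists_eq_add_of_le' hn
  rw [Finset.sum_range_succ', add_comm]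
  simp

/-- the main matrix computation -/
theorem matrix_key (hp3 : 3 < p) (N : Mat) (hX : (N + 1) ^ p = 1) : (p : R) • N = 0 := by
  have hbin := (Commute.one_right N).add_pow p
  rw [hX] at hbin
  simp only [one_pow, mul_one] at hbin
  have hp1 : 1 ≤ p := by omega
  -- nilpotency
  have hT : ∃ Q : Mat, N ^ p = (p : R) • Q := by
    have h1 := hbin
    rw [Finset.sum_range_succ, Nat.choose_self, Nat.cast_one, mul_one,
      sum_range_pred _ p hp1] at h1
    simp only [pow_zero, Nat.choose_zero_right, Nat.cast_one, mul_one] at h1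
    have h3 : N ^ p = -∑ m ∈ Finset.range (p - 1), N ^ (m + 1) * (p.choose (m + 1) : Mat) := by
      have : (1 : Mat) + ∑ m ∈ Finset.range (p - 1), N ^ (m + 1) * (p.choose (m + 1) : Mat)
          + N ^ p = 1 := h1.symm
      have h4 : ∑ m ∈ Finset.range (p - 1), N ^ (m + 1) * (p.choose (m + 1) : Mat) + N ^ p = 0 := by
        rw [add_assoc] at this
        exact add_left_cancel (a := (1 : Mat)) (by rw [this, add_zero])
      exact eq_neg_of_add_eq_zero_right h4
    have h5 : ∀ m ∈ Finset.range (p - 1), ∃ c : R,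
        N ^ (m + 1) * (p.choose (m + 1) : Mat) = (p : R) • (c • N ^ (m + 1)) := by
      intro m hm
      rw [Finset.mem_range] at hm
      obtain ⟨c, hc⟩ := choose_smul (m + 1) (by omega) (by omega) (N ^ (m + 1))
      refine ⟨c, ?_⟩
      rw [← (Nat.cast_commute (p.choose (m + 1)) (N ^ (m + 1))).eq, hc, mul_smul]
    choose! c hc using h5
    refine ⟨-∑ m ∈ Finset.range (p - 1), c m • N ^ (m + 1), ?_⟩
    rw [h3, smul_neg, Finset.smul_sum]
    congr 1
    exact Finset.sum_congr rfl hc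
  obtain ⟨Q, hQ⟩ := hT
  have hnil : IsNilpotent N := by
    refine ⟨p + p, ?_⟩
    rw [pow_add, hQ, smul_mul_smul_comm, pi_sq, zero_smul]
  obtain ⟨t, ht⟩ := nilpotent_dvd _ (Matrix.isNilpotent_trace_of_isNilpotent hnil)
  have hdn : IsNilpotent N.det := by
    obtain ⟨k, hk⟩ := hnil
    refine ⟨k + 1, ?_⟩
    rw [← Matrix.det_pow, pow_succ N k, hk, zero_mul, Matrix.det_zero]
  obtain ⟨d, hd⟩ := nilpotent_dvd _ hdn
  have hNN : N * N = (p : R) • (t • N - d • (1 : Mat)) := by
    rw [cayley, ht, hd, smul_sub, mul_smul, mul_smul]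
  have hN4 : ∀ m, 4 ≤ m → N ^ m = 0 := by
    intro m hm
    obtain ⟨j, rfl⟩ := Nat.exists_eq_add_of_le hm
    have : N ^ 4 = 0 := by
      have : N ^ 4 = (N * N) * (N * N) := by noncomm_ring
      rw [this, hNN, smul_mul_smul_comm, pi_sq, zero_smul]
    rw [pow_add, this, zero_mul]
  -- now restrict the sum
  have hsum : ∑ m ∈ Finset.range (p + 1), N ^ m * (p.choose m : Mat)
      = ∑ m ∈ Finset.range 4, N ^ m * (p.choose m : Mat) := by
    symm
    apply Finset.sum_subset
    · intro m hm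
      rw [Finset.mem_range] at hm ⊢
      omega
    · intro m _ hm
      rw [Finset.mem_range, not_lt] at hm
      rw [hN4 m hm, zero_mul]
  rw [hsum] at hbin
  simp only [Finset.sum_range_succ, Finset.sum_range_zero, zero_add, pow_zero, Nat.choose_zero_right,
    Nat.cast_one, mul_one, pow_one, Nat.choose_one_right] at hbin
  obtain ⟨c2, hc2⟩ := choose_smul 2 (by omega) (by omega) (N ^ 2)
  obtain ⟨c3, hc3⟩ := choose_smul 3 (by omega) (by omega) (N ^ 3)
  have e2 : N ^ 2 * (p.choose 2 : Mat) = 0 := by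
    rw [← (Nat.cast_commute (p.choose 2) (N ^ 2)).eq, hc2, pow_two N, hNN, smul_smul,
      mul_comm ((p : R)) c2, mul_assoc, pi_sq, mul_zero, zero_smul]
  have e3 : N ^ 3 * (p.choose 3 : Mat) = 0 := by
    have : N ^ 3 = N * (N * N) := by noncomm_ring
    rw [← (Nat.cast_commute (p.choose 3) (N ^ 3)).eq, hc3, this, hNN, mul_smul_comm, smul_smul,
      mul_comm ((p : R)) c3, mul_assoc, pi_sq, mul_zero, zero_smul]
  rw [e2, e3, add_zero, add_zero] at hbin
  have : N * (p : Mat) = 0 := by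
    have h := hbin
    exact add_left_cancel (a := (1 : Mat)) (by rw [← h, add_zero])
  rw [← (Nat.cast_commute p N).eq, ← nsmul_eq_mul, ← Nat.cast_smul_eq_nsmul (ZMod (p ^ 2))] at this
  exact this

local notation "MM" => ZMod (p ^ 2) × ZMod (p ^ 2)

/-- additive map induced by an automorphism -/
def toAddHom (a : MulAut (Multiplicative MM)) : MM →+ MM where
  toFun v := Multiplicative.toAdd (a (Multiplicative.ofAdd v))
  map_zero' := by simp
  map_add' u v := by simp [ofAdd_add, map_mul, toAdd_mul]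

/-- linear map induced by an automorphism -/
def toLin (a : MulAut (Multiplicative MM)) : Module.End R MM :=
  (toAddHom a).toZModLinearMap (p ^ 2)

theorem toLin_apply (a : MulAut (Multiplicative MM)) (v : MM) :
    toLin a v = Multiplicative.toAdd (a (Multiplicative.ofAdd v)) := rfl

theorem toLin_pow (a : MulAut (Multiplicative MM)) (k : ℕ) (v : MM) :
    ((toLin a) ^ k) v = Multiplicative.toAdd ((a ^ k) (Multiplicative.ofAdd v)) := by
  induction k generalizing v with
  | zero => simp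
  | succ k ih =>
    rw [pow_succ (toLin a) k, Module.End.mul_apply, ih, toLin_apply, ofAdd_toAdd, pow_succ a k,
      MulAut.mul_apply]

theorem smul_eq_zero_dvd (z : R) (hz : (p : ℕ) • z = 0) : ∃ y : R, z = (p : R) * y := by
  have : NeZero (p ^ 2) := ⟨pow_ne_zero 2 hp.out.ne_zero⟩
  have h1 : ((p * z.val : ℕ) : R) = 0 := by
    rw [Nat.cast_mul, ZMod.natCast_zmod_val, ← nsmul_eq_mul]; exact hz
  rw [ZMod.natCast_eq_zero_iff] at h1
  have h1' : p * p ∣ p * z.val := by rw [← pow_two]; exact h1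
  have h3 : p ∣ z.val := Nat.dvd_of_mul_dvd_mul_left hp.out.pos h1'
  obtain ⟨w, hw⟩ := h3
  refine ⟨(w : R), ?_⟩
  rw [← Nat.cast_mul, ← hw, ZMod.natCast_zmod_val]

/-- Let p > 3 be a prime and L the direct product of two cyclic groups of order p². Every automorphism of L of order p fixes every element of order p of L. -/
theorem result {p : ℕ} [Fact p.Prime] (hp : 3 < p)
    (a : MulAut (Multiplicative (ZMod (p ^ 2) × ZMod (p ^ 2)))) (ha : orderOf a = p)
    (x : Multiplicative (ZMod (p ^ 2) × ZMod (p ^ 2))) (hx : orderOf x = p) : a x = x := by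
  have hp' : Fact p.Prime := inferInstance
  let b : Module.Basis (Fin 2) (ZMod (p ^ 2)) (ZMod (p ^ 2) × ZMod (p ^ 2)) :=
    (Pi.basisFun (ZMod (p ^ 2)) (Fin 2)).map (LinearEquiv.finTwoArrow (ZMod (p ^ 2)) (ZMod (p ^ 2)))
  let Φ := LinearMap.toMatrixAlgEquiv b
  have hap : a ^ p = 1 := by
    have := pow_orderOf_eq_one a
    rwa [ha] at this
  have hpow : (toLin a) ^ p = 1 := by
    refine LinearMap.ext fun v => ?_
    rw [toLin_pow, hap]
    simp
  have hX : (Φ (toLin a) - 1 + 1) ^ p = 1 := by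
    rw [sub_add_cancel, ← map_pow, hpow, map_one]
  have key := matrix_key hp (Φ (toLin a) - 1) hX
  have key2 : (p : ZMod (p ^ 2)) • (toLin a - 1) = 0 := by
    apply Φ.injective
    rw [map_smul, map_sub, map_one, key, map_zero]
  -- the element x
  have hxp : x ^ p = 1 := by
    have := pow_orderOf_eq_one x
    rwa [hx] at this
  have hv : (p : ℕ) • Multiplicative.toAdd x = 0 := by
    rw [← toAdd_pow, hxp]; rfl
  obtain ⟨y1, hy1⟩ := smul_eq_zero_dvd (Multiplicative.toAdd x).1 (by
    have := congrArg Prod.fst hv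
    simpa using this)
  obtain ⟨y2, hy2⟩ := smul_eq_zero_dvd (Multiplicative.toAdd x).2 (by
    have := congrArg Prod.snd hv
    simpa using this)
  have hvy : Multiplicative.toAdd x = (p : ZMod (p ^ 2)) • ((y1, y2) : ZMod (p ^ 2) × ZMod (p ^ 2)) := by
    ext
    · simpa using hy1
    · simpa using hy2
  have h1 : toLin a (Multiplicative.toAdd x) = Multiplicative.toAdd x := by
    have h2 := LinearMap.congr_fun key2 (y1, y2)
    rw [LinearMap.smul_apply, LinearMap.sub_apply, Module.End.one_apply, LinearMap.zero_apply,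
      smul_sub, sub_eq_zero] at h2
    rw [hvy, map_smul, h2]
  rw [toLin_apply, ofAdd_toAdd] at h1
  exact Multiplicative.toAdd.injective h1


end Cfsg.Agent.S4080
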