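import Mathlib
import Cfsg.Statements.S4084

set_option autoImplicit false
open Cfsg

namespace Cfsg.Agent.S4084

theorem one_dir {G H : Type*} [Group G] [Finite G] [Group H] [Finite H] (e : G ≃ H)
    (he : ∀ x y : G, Commute x y ↔ Commute (e x) (e y))
    {p q : ℕ} (hp : p.Prime) (hq : q.Prime) (hpq : p ≠ q) :
    (∃ g : G, orderOf g = p * q) → (∃ h : H, orderOf h = p * q) := by
  rintro ⟨g, hg⟩
  haveI : Fact p.Prime := ⟨hp⟩
  haveI : Fact q.Prime := ⟨hq⟩
  set A : Subgroup G := Subgroup.centralizer (Subgroup.centralizer ({g} : Set G) : Set G) with hA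
  set B : Subgroup H := Subgroup.centralizer (Subgroup.centralizer ({e g} : Set H) : Set H) with hB
  have memA : ∀ y : G, y ∈ A ↔ ∀ x : G, Commute x g → Commute x y := by
    intro y
    rw [hA, Subgroup.mem_centralizer_iff]
    constructor
    · intro h x hx
      exact h x (Subgroup.mem_centralizer_singleton_iff.2 hx.eq)
    · intro h x hx
      exact (h x (Subgroup.mem_centralizer_singleton_iff.1 hx)).eq
  have memB : ∀ y : H, y ∈ B ↔ ∀ x : H, Commute x (e g) → Commute x y := by
    intro y
    rw [hB, Subgroup.mem_centralizer_iff]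
    constructor
    · intro h x hx
      exact h x (Subgroup.mem_centralizer_singleton_iff.2 hx.eq)
    · intro h x hx
      exact (h x (Subgroup.mem_centralizer_singleton_iff.1 hx)).eq
  have hAB : ∀ y : G, y ∈ A ↔ e y ∈ B := by
    intro y
    rw [memA, memB]
    constructor
    · intro h x hx
      obtain ⟨x, rfl⟩ := e.surjective x
      exact (he _ _).1 (h x ((he _ _).2 hx))
    · intro h x hx
      exact (he _ _).2 (h (e x) ((he _ _).1 hx))
  have hcard : Nat.card A = Nat.card B := Nat.card_congr (e.subtypeEquiv hAB)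
  have hgA : g ∈ A := by
    rw [memA]; intro x hx; exact hx
  have hdvd : p * q ∣ Nat.card B := by
    rw [← hcard, ← hg]
    exact Subgroup.orderOf_dvd_natCard A hgA
  -- B is abelian
  have hBcomm : ∀ a b : H, a ∈ B → b ∈ B → Commute a b := by
    intro a b ha hb
    rw [memB] at ha hb
    have h1 : Commute (e g) a := ha (e g) (Commute.refl _)
    exact (hb a h1.symm)
  obtain ⟨a, ha⟩ := exists_prime_orderOf_dvd_card' (G := B) p ((Dvd.intro _ rfl).trans hdvd)
  obtain ⟨b, hb⟩ := exists_prime_orderOf_dvd_card' (G := B) q ((Dvd.intro_left _ rfl).trans hdvd)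
  refine ⟨(a : H) * (b : H), ?_⟩
  rw [← Subgroup.orderOf_coe] at ha hb
  have hc := hBcomm a b a.2 b.2
  rw [hc.orderOf_mul_eq_mul_orderOf_of_coprime, ha, hb]
  rw [ha, hb]
  exact (Nat.coprime_primes hp hq).2 hpq

theorem result {G H : Type*} [Group G] [Finite G] [Group H] [Finite H] (e : G ≃ H)
    (he : ∀ x y : G, Commute x y ↔ Commute (e x) (e y))
    {p q : ℕ} (hp : p.Prime) (hq : q.Prime) (hpq : p ≠ q) :
    (∃ g : G, orderOf g = p * q) ↔ (∃ h : H, orderOf h = p * q) := by
  constructor
  · exact one_dir e he hp hq hpq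
  · apply one_dir e.symm _ hp hq hpq
    intro x y
    rw [he]
    simp

end Cfsg.Agent.S4084
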