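import Mathlib
import Cfsg.Statements.S4086

set_option autoImplicit false
open Cfsg

namespace Cfsg.Agent.S4086

/-- `z^(gcd (orderOf z) b)` is a power of `z^b`. -/
theorem pow_gcd_mem_zpowers {G : Type*} [Group G] (z : G) (b : ℕ) :
    z ^ (Nat.gcd (orderOf z) b) ∈ Subgroup.zpowers (z ^ b) := by
  rw [Subgroup.mem_zpowers_iff]
  refine ⟨Nat.gcdB (orderOf z) b, ?_⟩
  have h := Nat.gcd_eq_gcd_ab (orderOf z) b
  rw [← zpow_natCast z (Nat.gcd (orderOf z) b), h, zpow_add, zpow_mul, zpow_mul, zpow_natCast,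
    zpow_natCast, pow_orderOf_eq_one, one_zpow, one_mul]

/-- in a cyclic `p`-group `⟨z⟩`, any two elements are comparable. -/
theorem key {G : Type*} [Group G] [Finite G] (z : G) {p k : ℕ} (hp : p.Prime) (hz : orderOf z = p ^ k)
    (x y : G) (hx : x ∈ Subgroup.zpowers z) (hy : y ∈ Subgroup.zpowers z) :
    x ∈ Subgroup.zpowers y ∨ y ∈ Subgroup.zpowers x := by
  classical
  rw [mem_zpowers_iff_mem_range_orderOf, Finset.mem_image] at hx hy
  obtain ⟨a, -, rfl⟩ := hx
  obtain ⟨b, -, rfl⟩ := hy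
  -- gcds are powers of p
  obtain ⟨i, -, hi⟩ := (Nat.dvd_prime_pow hp).1 (hz ▸ Nat.gcd_dvd_left (orderOf z) a)
  obtain ⟨j, -, hj⟩ := (Nat.dvd_prime_pow hp).1 (hz ▸ Nat.gcd_dvd_left (orderOf z) b)
  have aux : ∀ a b i j : ℕ, Nat.gcd (orderOf z) a = p ^ i → Nat.gcd (orderOf z) b = p ^ j → j ≤ i →
      z ^ a ∈ Subgroup.zpowers (z ^ b) := by
    intro a b i j hi hj hji
    have h1 : Nat.gcd (orderOf z) b ∣ a := by
      rw [hj]
      exact (pow_dvd_pow p hji).trans (hi ▸ Nat.gcd_dvd_right (orderOf z) a)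
    obtain ⟨c, hc⟩ := h1
    rw [hc, pow_mul]
    exact Subgroup.pow_mem _ (pow_gcd_mem_zpowers z b) c
  rcases le_total j i with h | h
  · left; exact aux a b i j (hz ▸ hi) (hz ▸ hj) h
  · right; exact aux b a j i (hz ▸ hj) (hz ▸ hi) h

theorem result {G : Type*} [Group G] [Finite G] :
    (∀ g : G, g ≠ 1 → IsPrimePow (orderOf g)) ↔
    (∀ x y : G, IsCyclic ↥(Subgroup.closure ({x, y} : Set G)) → (x ∈ Subgroup.zpowers y ∨ y ∈ Subgroup.zpowers x)) := by
  constructor
  · intro h x y hcyc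
    obtain ⟨⟨z, hzK⟩, hgen⟩ := hcyc.exists_generator
    have hxK : x ∈ Subgroup.closure ({x, y} : Set G) := Subgroup.subset_closure (by simp)
    have hyK : y ∈ Subgroup.closure ({x, y} : Set G) := Subgroup.subset_closure (by simp)
    have hxz : x ∈ Subgroup.zpowers z := by
      have := hgen ⟨x, hxK⟩
      obtain ⟨n, hn⟩ := Subgroup.mem_zpowers_iff.1 this
      exact Subgroup.mem_zpowers_iff.2 ⟨n, by simpa using congrArg Subtype.val hn⟩
    have hyz : y ∈ Subgroup.zpowers z := by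
      have := hgen ⟨y, hyK⟩
      obtain ⟨n, hn⟩ := Subgroup.mem_zpowers_iff.1 this
      exact Subgroup.mem_zpowers_iff.2 ⟨n, by simpa using congrArg Subtype.val hn⟩
    by_cases hz1 : z = 1
    · subst hz1
      rw [Subgroup.zpowers_one_eq_bot, Subgroup.mem_bot] at hxz
      left; rw [hxz]; exact Subgroup.one_mem _
    · obtain ⟨p, k, hp, -, hpk⟩ := (isPrimePow_nat_iff _).1 (h z hz1)
      exact key z hp hpk.symm x y hxz hyz
  · intro h g hg
    by_contra hnpp
    set n := orderOf g with hn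
    have hn0 : n ≠ 0 := (orderOf_pos g).ne'
    have hn1 : n ≠ 1 := by
      intro h1
      rw [hn, orderOf_eq_one_iff] at h1
      exact hg h1
    have hpr := Nat.minFac_prime hn1
    have hqdvd := Nat.minFac_dvd n
    set q := n.minFac with hq
    clear_value q
    obtain ⟨k, m, hpm, hnkm⟩ := Nat.exists_eq_pow_mul_and_not_dvd hn0 q hpr.ne_one
    have hk0 : k ≠ 0 := by
      rintro rfl
      rw [pow_zero, one_mul] at hnkm
      rw [← hnkm] at hpm
      exact hpm hqdvd
    have hm1 : m ≠ 1 := by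
      rintro rfl
      rw [mul_one] at hnkm
      exact hnpp ((isPrimePow_nat_iff _).2 ⟨_, k, hpr, Nat.pos_of_ne_zero hk0, hnkm.symm⟩)
    have hcop : Nat.Coprime (q ^ k) m :=
      Nat.Coprime.pow_left k ((Nat.Prime.coprime_iff_not_dvd hpr).2 hpm)
    have ha1 : q ^ k ≠ 1 := by
      intro h1
      have := Nat.pow_eq_one.1 h1
      rcases this with h2 | h2
      · exact hpr.ne_one h2
      · exact hk0 h2
    have ha0 : q ^ k ≠ 0 := pow_ne_zero _ hpr.ne_zero
    have hm0 : m ≠ 0 := by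
      rintro rfl
      rw [mul_zero] at hnkm
      exact hn0 hnkm
    -- x = g^(p^k) has order m, y = g^m has order p^k
    have hox : orderOf (g ^ (q ^ k)) = m := by
      rw [orderOf_pow_of_dvd ha0 (by rw [← hn, hnkm]; exact Dvd.intro _ rfl), ← hn, hnkm,
        Nat.mul_div_cancel_left _ (Nat.pos_of_ne_zero ha0)]
    have hoy : orderOf (g ^ m) = q ^ k := by
      rw [orderOf_pow_of_dvd hm0 (by rw [← hn, hnkm]; exact Dvd.intro_left _ rfl), ← hn, hnkm,
        Nat.mul_div_cancel _ (Nat.pos_of_ne_zero hm0)]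
    have hcyc : IsCyclic ↥(Subgroup.closure ({g ^ (q ^ k), g ^ m} : Set G)) := by
      have hle : Subgroup.closure ({g ^ (q ^ k), g ^ m} : Set G) ≤ Subgroup.zpowers g := by
        rw [Subgroup.closure_le]
        intro t ht
        rcases ht with rfl | rfl
        · exact Subgroup.pow_mem _ (Subgroup.mem_zpowers g) _
        · exact Subgroup.pow_mem _ (Subgroup.mem_zpowers g) _
      have : IsCyclic ↥((Subgroup.closure ({g ^ (q ^ k), g ^ m} : Set G)).subgroupOf (Subgroup.zpowers g)) :=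
        Subgroup.isCyclic _
      exact isCyclic_of_surjective _ (Subgroup.subgroupOfEquivOfLe hle).surjective
    rcases h _ _ hcyc with h1 | h1
    · have := orderOf_dvd_of_mem_zpowers h1
      rw [hox, hoy] at this
      have h2 := Nat.Coprime.eq_one_of_dvd hcop.symm this
      exact hm1 h2
    · have := orderOf_dvd_of_mem_zpowers h1
      rw [hox, hoy] at this
      have h2 := Nat.Coprime.eq_one_of_dvd hcop this
      exact ha1 h2

end Cfsg.Agent.S4086
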