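import Cfsg.Statements.S4089
import Mathlib
import Cfsg.Prelude.Def_Solvable
import Cfsg.Agent.H1.Cores
import Cfsg.Agent.H1.SylowMore
import Cfsg.Agent.H1.MinNonPClosed
import Cfsg.Agent.Lib.Helper7.SubnormalClosure
import Cfsg.Agent.H1.Subnormalizer

set_option autoImplicit false
open Cfsg

namespace Cfsg.Agent.S4089

set_option autoImplicit false
set_option linter.unusedVariables false
set_option linter.unusedSectionVars false
set_option linter.style.haveILetI false
open H1

/-- Let G be a finite group, p a prime and H a p-subgroup of G. Then the set of elements g of G such that H is subnormal in the subgroup generated by H and g is the union of the normalizers N_G(R) over the subgroups R of G containing H with R = O_p(N_G(R)); and this set does not change when H is replaced by the intersection of all Sylow p-subgroups of G containing H. -/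
theorem result {G : Type*} [Group G] [Finite G] (p : ℕ) [Fact p.Prime]
    (H : Subgroup G) (hH : IsPGroup p H) :
    {g : G | ((H).subgroupOf (H ⊔ Subgroup.zpowers g)).IsSubnormal} =
      {g : G | ∃ R : Subgroup G, H ≤ R ∧ (Cfsg.pCore p (Subgroup.normalizer (R : Set G))).map (Subgroup.normalizer (R : Set G)).subtype = R ∧ g ∈ Subgroup.normalizer (R : Set G)} ∧
    ∀ g : G, (((H).subgroupOf (H ⊔ Subgroup.zpowers g)).IsSubnormal ↔
      (((sInf {K : Subgroup G | ∃ Q : Sylow p G, H ≤ (Q : Subgroup G) ∧ K = (Q : Subgroup G)})).subgroupOf ((sInf {K : Subgroup G | ∃ Q : Sylow p G, H ≤ (Q : Subgroup G) ∧ K = (Q : Subgroup G)}) ⊔ Subgroup.zpowers g)).IsSubnormal) := by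
  have key : ∀ (H : Subgroup G), IsPGroup p H → ∀ g : G,
      (H.subgroupOf (H ⊔ Subgroup.zpowers g)).IsSubnormal ↔
        ∃ R : Subgroup G, H ≤ R ∧ OpIn p (Subgroup.normalizer (R : Set G)) = R ∧
          g ∈ Subgroup.normalizer (R : Set G) := by
    intro H hH g
    constructor
    · intro h
      have h1 : H ≤ OpIn p (H ⊔ Subgroup.zpowers g) := (isSubnormal_subgroupOf_iff le_sup_left hH).1 h
      have hgX : g ∈ H ⊔ Subgroup.zpowers g :=
        (le_sup_right : Subgroup.zpowers g ≤ H ⊔ Subgroup.zpowers g) (Subgroup.mem_zpowers g)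
      exact exists_radical (OpIn p (H ⊔ Subgroup.zpowers g)) (OpIn_isPGroup _) h1
        (le_normalizer_OpIn _ hgX)
    · rintro ⟨R, hHR, hrad, hg⟩
      have hRp : IsPGroup p R := hrad ▸ OpIn_isPGroup _
      exact sub_of_radical hHR hRp hg
  refine ⟨?_, ?_⟩
  · ext g
    exact key H hH g
  · intro g
    have hHHs : H ≤ sInf {K : Subgroup G | ∃ Q : Sylow p G, H ≤ (Q : Subgroup G) ∧ K = (Q : Subgroup G)} :=
      le_sInf (by rintro K ⟨Q, hQ, rfl⟩; exact hQ)
    have hHsp : IsPGroup p (sInf {K : Subgroup G | ∃ Q : Sylow p G, H ≤ (Q : Subgroup G) ∧ K = (Q : Subgroup G)} : Subgroup G) := by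
      obtain ⟨Q, hQ⟩ := hH.exists_le_sylow
      exact Q.isPGroup'.to_le (sInf_le ⟨Q, hQ, rfl⟩)
    rw [key H hH g, key _ hHsp g]
    constructor
    · rintro ⟨R, hHR, hrad, hg⟩
      exact ⟨R, sInf_sylow_le_radical hHR hrad, hrad, hg⟩
    · rintro ⟨R, hHR, hrad, hg⟩
      exact ⟨R, hHHs.trans hHR, hrad, hg⟩

end Cfsg.Agent.S4089
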