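import Mathlib
import Cfsg.Statements.S4093
import Cfsg.Agent.H2.ConjOrbit
import Cfsg.Agent.H2.SylowExtra

set_option autoImplicit false

namespace Cfsg.Agent.S4093

open Cfsg.Agent.H2

/-- Let G be a finite group with a normal subgroup N complementing a Sylow p-subgroup P (a normal p-complement). Then the number of elements of G of p-power order equals the sum over x ∈ P of the index of C_N(x) in N. -/
theorem result {G : Type*} [Group G] [Finite G] (p : ℕ) [Fact p.Prime]
    (P : Sylow p G) (N : Subgroup G) [N.Normal] (hNP : N.IsComplement' (P : Subgroup G)) :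
    Nat.card {g : G // ∃ k : ℕ, orderOf g = p ^ k} =
      ∑ᶠ x : (P : Subgroup G), Nat.card N / Nat.card ↥(N ⊓ Subgroup.centralizer ({(x : G)} : Set G)) := by
  have hNn : N.Normal := inferInstance
  have : Fintype (P : Subgroup G) := Fintype.ofFinite _
  have hdisj : ∀ z : G, z ∈ N → z ∈ (P : Subgroup G) → z = 1 := by
    intro z hz1 hz2
    have := hNP.disjoint
    rw [Subgroup.disjoint_def] at this
    exact this hz1 hz2
  -- the bijection
  have hequiv : Nat.card {g : G // ∃ k : ℕ, orderOf g = p ^ k} =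
      Nat.card (Σ x : (P : Subgroup G), conjOrbit N (x : G)) := by
    symm
    apply Nat.card_congr
    refine Equiv.ofBijective (fun s => ⟨(s.2 : G), ?_⟩) ⟨?_, ?_⟩
    · obtain ⟨n, _, hn⟩ := s.2.2
      rw [hn]
      have h1 : orderOf (n * (s.1 : G) * n⁻¹) = orderOf (s.1 : G) := by
        have := orderOf_injective (MulAut.conj n).toMonoidHom (MulAut.conj n).injective (s.1 : G)
        simpa using this
      rw [h1]
      obtain ⟨k, hk⟩ := (IsPGroup.iff_orderOf.1 P.isPGroup') s.1
      exact ⟨k, by rw [← hk, Subgroup.orderOf_coe]⟩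
    · rintro ⟨x, y, hy⟩ ⟨x', y', hy'⟩ h
      have hyy : y = y' := congrArg Subtype.val h
      subst hyy
      obtain ⟨n, hn, e⟩ := hy
      obtain ⟨n', hn', e'⟩ := hy'
      -- x and x' are congruent mod N
      have hx : (x : G)⁻¹ * (x' : G) ∈ N := by
        have h1 : (x' : G) = (n'⁻¹ * n) * (x : G) * (n'⁻¹ * n)⁻¹ := by
          have : n * (x : G) * n⁻¹ = n' * (x' : G) * n'⁻¹ := e.symm.trans e'
          calc (x' : G) = n'⁻¹ * (n' * (x' : G) * n'⁻¹) * n' := by group
            _ = n'⁻¹ * (n * (x : G) * n⁻¹) * n' := by rw [this]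
            _ = _ := by group
        rw [h1]
        have h2 : (x : G)⁻¹ * ((n'⁻¹ * n) * (x : G) * (n'⁻¹ * n)⁻¹) =
            ((x : G)⁻¹ * (n'⁻¹ * n) * (x : G)⁻¹⁻¹) * (n'⁻¹ * n)⁻¹ := by group
        rw [h2]
        have hm : n'⁻¹ * n ∈ N := N.mul_mem (N.inv_mem hn') hn
        exact N.mul_mem (hNn.conj_mem _ hm _) (N.inv_mem hm)
      have hx' : (x : G)⁻¹ * (x' : G) ∈ (P : Subgroup G) :=
        Subgroup.mul_mem _ (Subgroup.inv_mem _ x.2) x'.2
      have hxx : x = x' := by
        apply Subtype.ext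
        have := hdisj _ hx hx'
        exact inv_mul_eq_one.1 this
      subst hxx
      rfl
    · rintro ⟨g, hg⟩
      obtain ⟨h, _, hh⟩ := exists_conj_mem_sylow_of_mem P ⊤ le_top g trivial hg
      -- h⁻¹ = n * u
      obtain ⟨⟨n, u⟩, hnu, _⟩ := (Subgroup.isComplement'_def.1 hNP).existsUnique h⁻¹
      simp only at hnu
      have hgx : g = (n : G) * ((u : G) * (h * g * h⁻¹) * (u : G)⁻¹) * (n : G)⁻¹ := by
        have : h = ((n : G) * (u : G))⁻¹ := by rw [hnu, inv_inv]
        rw [this]; group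
      refine ⟨⟨⟨(u : G) * (h * g * h⁻¹) * (u : G)⁻¹,
        Subgroup.mul_mem _ (Subgroup.mul_mem _ u.2 hh) (Subgroup.inv_mem _ u.2)⟩,
        ⟨g, n, n.2, hgx⟩⟩, rfl⟩
  rw [hequiv, Nat.card_sigma, finsum_eq_sum_of_fintype]
  apply Finset.sum_congr rfl
  intro x _
  exact card_conjOrbit N (x : G)

end Cfsg.Agent.S4093
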