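import Mathlib
import Cfsg.Statements.S4106
import Cfsg.Agent.H2.PiClasses

set_option autoImplicit false
open Cfsg

namespace Cfsg.Agent.S4106

open Cfsg.Agent.H2.PiCl

/-- Let G be a finite group, π a set of primes and m the π-part of the order of G. Then the number of conjugacy classes of G consisting of π-elements (elements whose order is divisible only by primes in π) is at most m. -/
theorem result {G : Type*} [Group G] [Finite G]
    (π : Set ℕ) (hπ : ∀ q ∈ π, q.Prime)
    (m : ℕ) (hm : m ∣ Nat.card G) (hmπ : ∀ q : ℕ, q.Prime → q ∣ m → q ∈ π)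
    (hm' : ∀ q ∈ π, ¬ q ∣ Nat.card G / m) :
    Nat.card {C : ConjClasses G // ∀ q : ℕ, q.Prime → (∃ g : G, ConjClasses.mk g = C ∧ q ∣ orderOf g) → q ∈ π} ≤ m := by
  classical
  have hN0 : Nat.card G ≠ 0 := Nat.card_pos.ne'
  obtain ⟨s, hsdef⟩ : ∃ s : Finset ℕ, s = (Nat.card G).primeFactors.filter (· ∈ π) := ⟨_, rfl⟩
  have hsπ : ∀ q ∈ s, q ∈ π := by
    intro q hq
    rw [hsdef, Finset.mem_filter] at hq
    exact hq.2
  have hsprime : ∀ q ∈ s, q.Prime := fun q hq => hπ q (hsπ q hq)
  have hssub : s ⊆ (Nat.card G).primeFactors := by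
    rw [hsdef]; exact Finset.filter_subset _ _
  -- step 1: compare the two subtypes
  have h1 : Nat.card {C : ConjClasses G // ∀ q : ℕ, q.Prime →
      (∃ g : G, ConjClasses.mk g = C ∧ q ∣ orderOf g) → q ∈ π} ≤
      Nat.card {C : ConjClasses G // PiClass s C} := by
    apply Nat.card_le_card_of_injective
      (fun C => (⟨C.1, fun g hg q hq hqd => by
        rw [hsdef, Finset.mem_filter]
        refine ⟨?_, C.2 q hq ⟨g, hg, hqd⟩⟩
        rw [Nat.mem_primeFactors]
        exact ⟨hq, dvd_trans hqd (orderOf_dvd_natCard g), hN0⟩⟩ :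
          {C : ConjClasses G // PiClass s C}))
    intro C C' h
    apply Subtype.ext
    have := congrArg Subtype.val h
    exact this
  -- step 2: the main bound
  have h2 := card_piClass_le s hsprime G
  -- step 3: the `s`-part divides `m`
  have h3 : piPart s (Nat.card G) ∣ m := by
    have h4 := piPart_dvd s (Nat.card G) hN0 hssub
    have h5 : Nat.card G = m * (Nat.card G / m) := (Nat.mul_div_cancel' hm).symm
    have h4' : piPart s (Nat.card G) ∣ m * (Nat.card G / m) := by rw [← h5]; exact h4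
    apply Nat.Coprime.dvd_of_dvd_mul_right _ h4'
    apply Nat.coprime_of_dvd
    intro q hq hqd hqd'
    unfold piPart at hqd
    rw [Prime.dvd_finset_prod_iff hq.prime] at hqd
    obtain ⟨r, hr, hqr⟩ := hqd
    have h6 := hq.dvd_of_dvd_pow hqr
    have h7 : q = r := (Nat.prime_dvd_prime_iff_eq hq (hsprime r hr)).mp h6
    subst h7
    exact hm' q (hsπ q hr) hqd'
  have hm0 : 0 < m := Nat.pos_of_ne_zero (fun h => by rw [h, zero_dvd_iff] at hm; exact hN0 hm)
  exact h1.trans (h2.trans (Nat.le_of_dvd hm0 h3))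

end Cfsg.Agent.S4106
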