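import Mathlib
import Cfsg.Statements.S4108
import Cfsg.Agent.H2.FrobeniusInternal

set_option autoImplicit false
open Cfsg

namespace Cfsg.Agent.S4108

/-- Let G be a finite group, p a prime and N a proper non-trivial normal p-subgroup such that for every x outside N all elements of the coset xN have the same order as x. Then every non-trivial subgroup H of G of order prime to p acts fixed-point-freely on N: NH is a Frobenius group with complement H and kernel N. -/
theorem result {G : Type*} [Group G] [Finite G] (N : Subgroup G) [N.Normal] (hN1 : N ≠ ⊥) (hN2 : N ≠ ⊤)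
    (heq : ∀ x : G, x ∉ N → ∀ n ∈ N, orderOf (x * n) = orderOf x)
    (p : ℕ) [Fact p.Prime] (hNp : IsPGroup p N) :
    ∀ H : Subgroup G, H ≠ ⊥ → (Nat.card H).Coprime p →
      Cfsg.IsFrobeniusComplement (H.subgroupOf (N ⊔ H)) ∧ Cfsg.frobeniusKernel (H.subgroupOf (N ⊔ H)) = (N.subgroupOf (N ⊔ H) : Set ↥(N ⊔ H)) := by
  classical
  intro H hH hcop
  -- orders
  have hordN : ∀ n ∈ N, ∃ k : ℕ, orderOf n = p ^ k := by
    intro n hn
    obtain ⟨k, hk⟩ := (IsPGroup.iff_orderOf.1 hNp) ⟨n, hn⟩
    exact ⟨k, by rw [← hk, Subgroup.orderOf_mk]⟩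
  have hordH : ∀ h ∈ H, (orderOf h).Coprime p := by
    intro h hh
    have h1 : orderOf (⟨h, hh⟩ : ↥H) ∣ Nat.card H := orderOf_dvd_natCard _
    rw [Subgroup.orderOf_mk] at h1
    exact Nat.Coprime.coprime_dvd_left h1 hcop
  have hNH : ∀ x, x ∈ N → x ∈ H → x = 1 := by
    intro x h1 h2
    obtain ⟨k, hk⟩ := hordN x h1
    have h3 := hordH x h2
    rw [hk] at h3
    rw [← orderOf_eq_one_iff, hk]
    rcases Nat.eq_zero_or_pos k with h0 | hpos
    · rw [h0, pow_zero]
    · exfalso
      have : p ∣ p ^ k := dvd_pow_self p hpos.ne'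
      have h4 : p ∣ Nat.gcd (p ^ k) p := Nat.dvd_gcd this dvd_rfl
      rw [h3] at h4
      exact (Fact.out : p.Prime).one_lt.ne' (Nat.dvd_one.1 h4)
  have hfpf : ∀ h ∈ H, h ≠ 1 → ∀ n ∈ N, h * n = n * h → n = 1 := by
    intro h hh h1 n hn hcomm
    have hhN : h ∉ N := fun hN => h1 (hNH h hN hh)
    have h2 := heq h hhN n hn
    obtain ⟨k, hk⟩ := hordN n hn
    have hco : (orderOf h).Coprime (orderOf n) := by
      rw [hk]
      exact Nat.Coprime.pow_right k (hordH h hh)
    have h3 := Commute.orderOf_mul_eq_mul_orderOf_of_coprime (show Commute h n from hcomm) hco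
    rw [h2] at h3
    have hpos : 0 < orderOf h := orderOf_pos h
    have h4 : orderOf n = 1 := by
      have : orderOf h * 1 = orderOf h * orderOf n := by rw [mul_one]; exact h3
      exact (Nat.eq_of_mul_eq_mul_left hpos this).symm
    exact orderOf_eq_one_iff.1 h4
  -- apply the internal Frobenius lemma inside `N ⊔ H`
  have : (N.subgroupOf (N ⊔ H)).Normal := inferInstance
  apply Cfsg.Agent.H2.FrobInt.frobenius_of_fpf (N.subgroupOf (N ⊔ H)) (H.subgroupOf (N ⊔ H))
  · rw [← Subgroup.subgroupOf_sup le_sup_left le_sup_right, Subgroup.subgroupOf_self]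
  · rw [eq_bot_iff]
    intro x hx
    obtain ⟨h1, h2⟩ := Subgroup.mem_inf.1 hx
    rw [Subgroup.mem_subgroupOf] at h1 h2
    rw [Subgroup.mem_bot]
    exact Subtype.ext (hNH _ h1 h2)
  · intro h
    rw [Subgroup.subgroupOf_eq_bot] at h
    apply hH
    rw [eq_bot_iff]
    exact (disjoint_iff.1 h) ▸ le_inf le_rfl le_sup_right
  · intro h
    rw [Subgroup.subgroupOf_eq_bot] at h
    apply hN1
    rw [eq_bot_iff]
    exact (disjoint_iff.1 h) ▸ le_inf le_rfl le_sup_left
  · intro h hh h1 n hn hcomm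
    rw [Subgroup.mem_subgroupOf] at hh hn
    have := hfpf h hh (fun h0 => h1 (Subtype.ext h0)) n hn (congrArg Subtype.val hcomm)
    exact Subtype.ext this

end Cfsg.Agent.S4108
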