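import Mathlib
import Cfsg.Statements.S4112
import Cfsg.Agent.H2.Supplement
import Cfsg.Agent.Lib.Lead.PGroup

set_option autoImplicit false
open Cfsg

namespace Cfsg.Agent.S4112

/-- Let G be a finite group and M ≤ N non-trivial proper normal subgroups such that for every g outside N the conjugacy class of g is a union of cosets of M (equivalently gm is conjugate to g for every m ∈ M). Then (1) and (2) below are equivalent, and they imply (3): (1) every g outside N acts fixed-point-freely on M, that is C_G(x) ≤ N for every x ∈ M, x ≠ 1; (2) the index of N in G is coprime to the order of M; (3) there is a subgroup H of G with HN = G and H ∩ M = 1. -/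
theorem result {G : Type*} [Group G] [Finite G] (N M : Subgroup G) [N.Normal] [M.Normal] (hMN : M ≤ N) (hM1 : M ≠ ⊥) (hN2 : N ≠ ⊤)
    (hcam : ∀ g : G, g ∉ N → ∀ m ∈ M, ∃ x : G, x * g * x⁻¹ = g * m) :
    ((∀ x ∈ M, x ≠ 1 → Subgroup.centralizer ({x} : Set G) ≤ N) ↔ N.index.Coprime (Nat.card M)) ∧
    ((∀ x ∈ M, x ≠ 1 → Subgroup.centralizer ({x} : Set G) ≤ N) → ∃ H : Subgroup G, H ⊔ N = ⊤ ∧ H ⊓ M = ⊥) := by
  have h12 : (∀ x ∈ M, x ≠ 1 → Subgroup.centralizer ({x} : Set G) ≤ N) → N.index.Coprime (Nat.card M) := by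
    intro hfpf
    apply Nat.coprime_of_dvd
    intro p hp hpN hpM
    have : Fact p.Prime := ⟨hp⟩
    obtain ⟨x, hx⟩ := exists_prime_orderOf_dvd_card' (G := M) p hpM
    have hxp : IsPGroup p (Subgroup.zpowers (x : G)) := by
      apply IsPGroup.of_card (n := 1)
      rw [Nat.card_zpowers, Subgroup.orderOf_coe, hx, pow_one]
    obtain ⟨P, hP⟩ := hxp.exists_le_sylow
    have hxP : (x : G) ∈ (P : Subgroup G) := hP (Subgroup.mem_zpowers _)
    have hne : M.subgroupOf (P : Subgroup G) ≠ ⊥ := by
      intro hb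
      have h1 : (⟨(x : G), hxP⟩ : (P : Subgroup G)) ∈ M.subgroupOf (P : Subgroup G) := by
        rw [Subgroup.mem_subgroupOf]; exact x.2
      rw [hb, Subgroup.mem_bot] at h1
      have h2 : (x : G) = 1 := congrArg Subtype.val h1
      have h3 : x = 1 := Subtype.ext h2
      rw [h3, orderOf_one] at hx
      exact hp.one_lt.ne hx
    obtain ⟨z, hzM, hzZ, hz1⟩ :=
      Cfsg.Agent.Lib.Lead.PGroup.exists_mem_center_of_normal P.2 (M.subgroupOf (P : Subgroup G)) hne
    have hzM' : (z : G) ∈ M := Subgroup.mem_subgroupOf.mp hzM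
    have hz1' : (z : G) ≠ 1 := fun h => hz1 (Subtype.ext h)
    have hPN : (P : Subgroup G) ≤ N := by
      refine le_trans ?_ (hfpf z hzM' hz1')
      intro y hy
      rw [Subgroup.mem_centralizer_singleton_iff]
      have := Subgroup.mem_center_iff.mp hzZ ⟨y, hy⟩
      exact congrArg Subtype.val this
    have := P.not_dvd_index
    exact this (hpN.trans (Subgroup.index_dvd_of_le hPN))
  have h21 : N.index.Coprime (Nat.card M) → (∀ x ∈ M, x ≠ 1 → Subgroup.centralizer ({x} : Set G) ≤ N) := by
    intro hcop x hxM hx1 c hc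
    rw [Subgroup.mem_centralizer_singleton_iff] at hc
    by_contra hcN
    have hcbar : orderOf (c : G ⧸ N) ≠ 1 := by
      intro h
      exact hcN ((QuotientGroup.eq_one_iff c).mp (orderOf_eq_one_iff.mp h))
    obtain ⟨q, hq, hqd⟩ := Nat.exists_prime_and_dvd hcbar
    have hqN : q ∣ N.index := by
      rw [Subgroup.index_eq_card]
      exact hqd.trans (_root_.orderOf_dvd_natCard _)
    have hqM : ¬ q ∣ Nat.card M := by
      intro hqM
      exact (Nat.Prime.not_coprime_iff_dvd.mpr ⟨q, hq, hqN, hqM⟩) hcop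
    obtain ⟨e, r, hr, ho⟩ := Nat.exists_eq_pow_mul_and_not_dvd (orderOf_pos c).ne' q hq.ne_one
    have hr0 : r ≠ 0 := by
      intro h
      rw [h, mul_zero] at ho
      exact (orderOf_pos c).ne' ho
    have hord : orderOf (c ^ r) = q ^ e := by
      rw [orderOf_pow_of_dvd hr0 (Dvd.intro_left _ ho.symm), ho]
      exact Nat.mul_div_cancel _ (Nat.pos_of_ne_zero hr0)
    have hcrN : c ^ r ∉ N := by
      intro h
      have h1 : ((c : G ⧸ N)) ^ r = 1 := by
        rw [← QuotientGroup.mk_pow]
        exact (QuotientGroup.eq_one_iff _).mpr h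
      exact hr (hqd.trans (orderOf_dvd_of_pow_eq_one h1))
    have hcomm : Commute (c ^ r) x := (show Commute c x from hc).pow_left r
    have hcopx : (orderOf (c ^ r)).Coprime (orderOf x) := by
      rw [hord]
      have h1 : (q ^ e).Coprime (Nat.card M) :=
        ((Nat.Prime.coprime_iff_not_dvd hq).mpr hqM).pow_left e
      exact Nat.Coprime.coprime_dvd_right (Subgroup.orderOf_dvd_natCard M hxM) h1
    have h2 := hcomm.orderOf_mul_eq_mul_orderOf_of_coprime hcopx
    obtain ⟨y, hy⟩ := hcam (c ^ r) hcrN x hxM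
    have h3 : orderOf (c ^ r * x) = orderOf (c ^ r) := by
      rw [← hy]
      have := (MulAut.conj y).orderOf_eq (c ^ r)
      rw [MulAut.conj_apply] at this
      exact this
    rw [h3] at h2
    have hpos : 0 < orderOf (c ^ r) := orderOf_pos _
    have h4 : orderOf x = 1 := by
      have h5 : orderOf (c ^ r) * 1 = orderOf (c ^ r) * orderOf x := by rw [mul_one]; exact h2
      exact (Nat.eq_of_mul_eq_mul_left hpos h5).symm
    exact hx1 (orderOf_eq_one_iff.mp h4)
  refine ⟨⟨h12, h21⟩, ?_⟩
  intro hfpf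
  exact Cfsg.Agent.H2.Supp.exists_supplement_inf_eq_bot N M (h12 hfpf)

end Cfsg.Agent.S4112
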