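import Mathlib
import Cfsg.Statements.S4113

set_option autoImplicit false
open Cfsg

namespace Cfsg.Agent.S4113

/-- Let G be a finite group, M ≤ N non-trivial proper normal subgroups, and H a subgroup with HM = G and H ∩ M = 1. Then every element of G outside N acts fixed-point-freely on M (C_G(x) ≤ N for every x ∈ M, x ≠ 1) if and only if H ∩ gHg⁻¹ ≤ H ∩ N for every g outside H, with H proper and non-trivial and H ∩ N proper in H. -/
theorem result {G : Type*} [Group G] [Finite G] (N M : Subgroup G) [N.Normal] [M.Normal] (hMN : M ≤ N) (hM1 : M ≠ ⊥) (hN2 : N ≠ ⊤)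
    (H : Subgroup G) (hHM : H ⊔ M = ⊤) (hHM' : H ⊓ M = ⊥) :
    (∀ x ∈ M, x ≠ 1 → Subgroup.centralizer ({x} : Set G) ≤ N) ↔
      (H ≠ ⊥ ∧ H ≠ ⊤ ∧ H ⊓ N < H ∧ ∀ g : G, g ∉ H → H ⊓ H.map (MulAut.conj g).toMonoidHom ≤ N) := by
  have hdecomp : ∀ g : G, ∃ h ∈ H, ∃ m ∈ M, h * m = g := by
    intro g
    have : g ∈ H ⊔ M := by rw [hHM]; trivial
    exact Subgroup.mem_sup_of_normal_right.mp this
  have hdisj : ∀ y : G, y ∈ H → y ∈ M → y = 1 := by
    intro y h1 h2
    have : y ∈ H ⊓ M := ⟨h1, h2⟩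
    rw [hHM'] at this
    exact Subgroup.mem_bot.mp this
  have hHbot : H ≠ ⊥ := by
    intro hb
    rw [hb, bot_sup_eq] at hHM
    apply hN2
    rw [eq_top_iff, ← hHM]
    exact hMN
  have hHtop : H ≠ ⊤ := by
    intro ht
    rw [ht, top_inf_eq] at hHM'
    exact hM1 hHM'
  have hHN : H ⊓ N < H := by
    refine lt_of_le_of_ne inf_le_left ?_
    intro he
    have hle : H ≤ N := by
      rw [← he]; exact inf_le_right
    apply hN2
    rw [eq_top_iff, ← hHM]
    exact sup_le hle hMN
  constructor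
  · intro hfpf
    refine ⟨hHbot, hHtop, hHN, ?_⟩
    intro g hg y hy
    obtain ⟨hyH, hyc⟩ := hy
    obtain ⟨z, hzH, hz⟩ := Subgroup.mem_map.mp hyc
    simp only [MulEquiv.coe_toMonoidHom, MulAut.conj_apply] at hz
    obtain ⟨h, hh, m, hm, hgm⟩ := hdecomp g
    have hm1 : m ≠ 1 := by
      intro h1
      apply hg
      rw [← hgm, h1, mul_one]
      exact hh
    -- y' = h⁻¹ y h = m z m⁻¹
    have hy' : m * z * m⁻¹ ∈ H := by
      have : m * z * m⁻¹ = h⁻¹ * y * h := by
        rw [← hz, ← hgm]; group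
      rw [this]
      exact H.mul_mem (H.mul_mem (H.inv_mem hh) hyH) hh
    have hM' : m * z * m⁻¹ * z⁻¹ ∈ M := by
      have : m * z * m⁻¹ * z⁻¹ = m * (z * m⁻¹ * z⁻¹) := by group
      rw [this]
      exact M.mul_mem hm (‹M.Normal›.conj_mem _ (M.inv_mem hm) z)
    have h1 := hdisj _ (H.mul_mem hy' (H.inv_mem hzH)) hM'
    have hcomm : z * m = m * z := by
      have : m * z * m⁻¹ = z := by
        have := mul_inv_eq_one.mp h1
        exact this
      calc z * m = m * z * m⁻¹ * m := by rw [this]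
        _ = m * z := by group
    have hzN : z ∈ N := hfpf m hm hm1 (Subgroup.mem_centralizer_singleton_iff.mpr hcomm)
    rw [← hz]
    exact ‹N.Normal›.conj_mem _ hzN g
  · rintro ⟨-, -, -, hTI⟩ x hxM hx1 c hc
    rw [Subgroup.mem_centralizer_singleton_iff] at hc
    by_contra hcN
    obtain ⟨h, hh, m, hm, hcm⟩ := hdecomp c
    have hhN : h ∉ N := by
      intro hhN
      apply hcN
      rw [← hcm]
      exact N.mul_mem hhN (hMN hm)
    -- C_M(h) = 1
    have hCM : ∀ a ∈ M, a * h = h * a → a = 1 := by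
      intro a ha hcomm
      by_contra ha1
      have haH : a ∉ H := fun haH => ha1 (hdisj a haH ha)
      have := hTI a haH
      apply hhN
      apply this
      refine ⟨hh, ?_⟩
      refine Subgroup.mem_map.mpr ⟨h, hh, ?_⟩
      simp only [MulEquiv.coe_toMonoidHom, MulAut.conj_apply]
      rw [hcomm]; group
    -- the map φ
    let φ : M → M := fun a => ⟨h⁻¹ * (a : G)⁻¹ * h * a, by
      have h1 : h⁻¹ * (a : G)⁻¹ * h ∈ M := by
        have := ‹M.Normal›.conj_mem _ (M.inv_mem a.2) h⁻¹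
        simpa using this
      exact M.mul_mem h1 a.2⟩
    have hφinj : Function.Injective φ := by
      intro a b hab
      have hab' : h⁻¹ * (a : G)⁻¹ * h * a = h⁻¹ * (b : G)⁻¹ * h * b := congrArg Subtype.val hab
      have h2 : ((b : G) * (a : G)⁻¹) * h = h * ((b : G) * (a : G)⁻¹) := by
        have h3 : (a : G)⁻¹ * h * a = (b : G)⁻¹ * h * b := by
          have := congrArg (fun t => h * t) hab'
          calc (a : G)⁻¹ * h * a = h * (h⁻¹ * (a : G)⁻¹ * h * a) := by group
            _ = h * (h⁻¹ * (b : G)⁻¹ * h * b) := this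
            _ = (b : G)⁻¹ * h * b := by group
        calc ((b : G) * (a : G)⁻¹) * h = b * ((a : G)⁻¹ * h * a) * (a : G)⁻¹ := by group
          _ = b * ((b : G)⁻¹ * h * b) * (a : G)⁻¹ := by rw [h3]
          _ = h * ((b : G) * (a : G)⁻¹) := by group
      have h4 := hCM _ (M.mul_mem b.2 (M.inv_mem a.2)) h2
      have : (b : G) = a := by
        have := mul_inv_eq_one.mp h4
        exact this
      exact Subtype.ext this.symm
    have hφsurj : Function.Surjective φ := Finite.injective_iff_surjective.mp hφinj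
    obtain ⟨a, ha⟩ := hφsurj ⟨m, hm⟩
    have ha' : h⁻¹ * (a : G)⁻¹ * h * a = m := congrArg Subtype.val ha
    have hc' : c = (a : G)⁻¹ * h * a := by
      rw [← hcm, ← ha']; group
    -- a x a⁻¹ centralizes h
    have h5 : ((a : G) * x * (a : G)⁻¹) * h = h * ((a : G) * x * (a : G)⁻¹) := by
      rw [hc'] at hc
      calc ((a : G) * x * (a : G)⁻¹) * h = a * (x * ((a : G)⁻¹ * h * a)) * (a : G)⁻¹ := by group
        _ = a * (((a : G)⁻¹ * h * a) * x) * (a : G)⁻¹ := by rw [hc]
        _ = h * ((a : G) * x * (a : G)⁻¹) := by group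
    have h6 := hCM _ (‹M.Normal›.conj_mem _ hxM a) h5
    apply hx1
    have : x = (a : G)⁻¹ * ((a : G) * x * (a : G)⁻¹) * a := by group
    rw [this, h6]; group

end Cfsg.Agent.S4113
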