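import Cfsg.Statements.S4126
import Cfsg.Agent.H1.PQ
import Cfsg.Agent.H1.SZConj
import Cfsg.Agent.S0027
import Cfsg.Agent.Lib.Lead.ProdCard
import Cfsg.Agent.Lib.Lead.NormalPComplement
import Cfsg.Agent.Lib.Lead.OmegaFaithful

set_option autoImplicit false
open Cfsg

namespace Cfsg.Agent.S4126

open scoped Pointwise commutatorElement

theorem conj_by_sylow {G : Type*} [Group G] [Finite G] {p : ℕ} [Fact p.Prime] (Ps : Sylow p G)
    (u : G) (a : ℕ) (hu : (Subgroup.centralizer ({u} : Set G)).index = p ^ a) (g : G) :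
    ∃ w ∈ (Ps : Subgroup G), g * u * g⁻¹ = w * u * w⁻¹ := by
  have hp := (Fact.out : p.Prime)
  obtain ⟨C, hC⟩ : ∃ C, C = Subgroup.centralizer ({u} : Set G) := ⟨_, rfl⟩
  rw [← hC] at hu
  have hprod := Cfsg.Agent.Lib.Lead.ProdCard.card_mul_card_eq (Ps : Subgroup G) C
  obtain ⟨n, hn⟩ := IsPGroup.iff_card.1 Ps.isPGroup'
  obtain ⟨j, hj⟩ := IsPGroup.iff_card.1
    (Ps.isPGroup'.to_le (inf_le_left : (Ps : Subgroup G) ⊓ C ≤ Ps))
  have hCcard : Nat.card C * p ^ a = Nat.card G := by rw [← hu]; exact C.card_mul_index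
  have hGcard : p ^ n * (Ps : Subgroup G).index = Nat.card G := by
    rw [← hn]; exact (Ps : Subgroup G).card_mul_index
  have hcop : (p ^ (j + a)).Coprime (Ps : Subgroup G).index :=
    Nat.Coprime.pow_left _ ((Nat.Prime.coprime_iff_not_dvd hp).2 Ps.not_dvd_index)
  have hja : j + a ≤ n := by
    have h1 : p ^ j ∣ Nat.card C := by rw [← hj]; exact Subgroup.card_dvd_of_le inf_le_right
    have h2 : p ^ (j + a) ∣ p ^ n * (Ps : Subgroup G).index := by
      rw [hGcard, ← hCcard, pow_add]; exact Nat.mul_dvd_mul_right h1 _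
    have h3 : p ^ (j + a) ∣ p ^ n := hcop.dvd_of_dvd_mul_right h2
    exact (Nat.pow_dvd_pow_iff_le_right hp.one_lt).1 h3
  have hge : Nat.card G ≤ (((Ps : Subgroup G) : Set G) * (C : Set G)).ncard := by
    rw [hn, hj] at hprod
    have hpj : 0 < p ^ j := pow_pos hp.pos j
    refine Nat.le_of_mul_le_mul_right ?_ hpj
    rw [← hprod, ← hCcard]
    have h4 : p ^ a * p ^ j ≤ p ^ n := by
      rw [← pow_add, add_comm]; exact Nat.pow_le_pow_right hp.pos hja
    calc Nat.card C * p ^ a * p ^ j = Nat.card C * (p ^ a * p ^ j) := by ring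
      _ ≤ Nat.card C * p ^ n := Nat.mul_le_mul_left _ h4
      _ = p ^ n * Nat.card C := by ring
  have huniv : (((Ps : Subgroup G) : Set G) * (C : Set G)) = Set.univ :=
    Set.eq_of_subset_of_ncard_le (Set.subset_univ _) (by rw [Set.ncard_univ]; exact hge)
      (Set.toFinite _)
  have hg : g ∈ (((Ps : Subgroup G) : Set G) * (C : Set G)) := by rw [huniv]; trivial
  obtain ⟨w, hw, h, hh, rfl⟩ := Set.mem_mul.1 hg
  refine ⟨w, hw, ?_⟩
  have hhx : h * u = u * h := by
    rw [SetLike.mem_coe, hC] at hh; exact Subgroup.mem_centralizer_singleton_iff.1 hh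
  have h2 : h * u * h⁻¹ = u := by rw [hhx]; group
  have h3 : w * h * u * (w * h)⁻¹ = w * (h * u * h⁻¹) * w⁻¹ := by group
  rw [h3, h2]

theorem mem_sylow_of_index {G : Type*} [Group G] [Finite G] {p : ℕ} [Fact p.Prime] (Ps : Sylow p G)
    (u : G) (a : ℕ) (hu : (Subgroup.centralizer ({u} : Set G)).index = p ^ a) (k : ℕ)
    (hk : orderOf u = p ^ k) : u ∈ (Ps : Subgroup G) := by
  have hz : IsPGroup p (Subgroup.zpowers u) := by
    apply IsPGroup.of_card (n := k); rw [Nat.card_zpowers, hk]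
  obtain ⟨Q, hQ⟩ := hz.exists_le_sylow
  obtain ⟨g, hg⟩ := MulAction.exists_smul_eq G Ps Q
  have huQ : u ∈ (Q : Subgroup G) := hQ (Subgroup.mem_zpowers u)
  rw [← hg, Sylow.coe_subgroup_smul, Subgroup.mem_pointwise_smul_iff_inv_smul_mem] at huQ
  have h1 : (MulAut.conj g)⁻¹ • u = g⁻¹ * u * g⁻¹⁻¹ := by
    rw [← map_inv, MulAut.smul_def, MulAut.conj_apply]
  rw [h1] at huQ
  obtain ⟨w, hw, hwe⟩ := conj_by_sylow Ps u a hu g⁻¹
  rw [hwe] at huQ
  have h2 := (Ps : Subgroup G).mul_mem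
    ((Ps : Subgroup G).mul_mem ((Ps : Subgroup G).inv_mem hw) huQ) hw
  have e : w⁻¹ * (w * u * w⁻¹) * w = u := by group
  rwa [e] at h2

theorem small_order {G : Type*} [Group G] {p : ℕ} [Fact p.Prime] {r : G}
    (hs : r ^ p = 1 ∨ (p = 2 ∧ r ^ 4 = 1)) (hr1 : r ≠ 1) :
    orderOf r = p ∨ (p = 2 ∧ orderOf r = 4) := by
  rcases hs with h1 | ⟨h2, h4⟩
  · left; exact orderOf_eq_prime h1 hr1
  · have hd : orderOf r ∣ 2 ^ 2 := by
      have h5 : (2 : ℕ) ^ 2 = 4 := by norm_num
      rw [h5]; exact orderOf_dvd_of_pow_eq_one h4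
    obtain ⟨j, hj, hjo⟩ := (Nat.dvd_prime_pow Nat.prime_two).1 hd
    interval_cases j
    · exfalso; rw [pow_zero] at hjo; exact hr1 (orderOf_eq_one_iff.1 hjo)
    · left; rw [hjo, h2]; norm_num
    · right; exact ⟨h2, by rw [hjo]; norm_num⟩

theorem key {G : Type*} [Group G] [Finite G] (p : ℕ) [Fact p.Prime]
    (h : ∀ x : G, (orderOf x = p ∨ (p = 2 ∧ orderOf x = 4)) →
      ∃ a : ℕ, (Subgroup.centralizer ({x} : Set G)).index = p ^ a)
    (Ps : Sylow p G) (y : G) (hy : (orderOf y).Coprime p) :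
    ∀ n : ℕ, ∀ u : G, (orderOf u = p ∨ (p = 2 ∧ orderOf u = 4)) →
      Nat.card (Subgroup.normalClosure ({u} : Set G)) = n → y * u = u * y := by
  intro n
  induction n using Nat.strong_induction_on with
  | _ n ih =>
  intro u hu hn
  have hp := (Fact.out : p.Prime)
  obtain ⟨a, ha⟩ := h u hu
  obtain ⟨k, hk⟩ : ∃ k, orderOf u = p ^ k := by
    rcases hu with h1 | ⟨h1, h2⟩
    · exact ⟨1, by rw [pow_one]; exact h1⟩
    · exact ⟨2, by rw [h2, h1]; norm_num⟩
  have hu1 : u ≠ 1 := by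
    rintro rfl
    rw [orderOf_one] at hu
    rcases hu with h1 | ⟨_, h2⟩
    · exact hp.one_lt.ne h1
    · omega
  obtain ⟨N, hN⟩ : ∃ N, N = Subgroup.normalClosure ({u} : Set G) := ⟨_, rfl⟩
  rw [← hN] at hn
  have hNcl : ∀ m, m ∈ Subgroup.closure (Group.conjugatesOfSet ({u} : Set G)) → m ∈ N := by
    intro m hm; rw [hN]; exact hm
  have hclN : ∀ m, m ∈ N → m ∈ Subgroup.closure (Group.conjugatesOfSet ({u} : Set G)) := by
    intro m hm; rw [hN] at hm; exact hm
  haveI hNn : N.Normal := by rw [hN]; exact Subgroup.normalClosure_normal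
  have huN : u ∈ N := by rw [hN]; exact Subgroup.subset_normalClosure (Set.mem_singleton u)
  have huPs : u ∈ (Ps : Subgroup G) := mem_sylow_of_index Ps u a ha k hk
  have hconjPs : ∀ g : G, g * u * g⁻¹ ∈ (Ps : Subgroup G) := by
    intro g
    obtain ⟨w, hw, he⟩ := conj_by_sylow Ps u a ha g
    rw [he]; exact mul_mem (mul_mem hw huPs) (inv_mem hw)
  have hNPs : N ≤ (Ps : Subgroup G) := by
    intro m hm
    have hm' := hclN m hm
    have hcl : Subgroup.closure (Group.conjugatesOfSet ({u} : Set G)) ≤ (Ps : Subgroup G) := by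
      rw [Subgroup.closure_le]
      intro z hz
      obtain ⟨b, hb, hbz⟩ := Group.mem_conjugatesOfSet_iff.1 hz
      rw [Set.mem_singleton_iff] at hb
      obtain ⟨c, hc⟩ := isConj_iff.1 hbz
      rw [← hc, hb]; exact hconjPs c
    exact hcl hm'
  have hNp : IsPGroup p N := Ps.isPGroup'.to_le hNPs
  have hNne : N ≠ ⊥ := by
    intro hb; rw [hb, Subgroup.mem_bot] at huN; exact hu1 huN
  have hNtop : Subgroup.normalizer (N : Set G) = ⊤ := Subgroup.normalizer_eq_top_iff.2 hNn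
  have hPsN : (Ps : Subgroup G) ≤ Subgroup.normalizer (N : Set G) := by rw [hNtop]; exact le_top
  have hM0lt : ⁅N, (Ps : Subgroup G)⁆ < N :=
    Cfsg.Agent.H1.commutator_lt_of_pgroup N (Ps : Subgroup G) hNp Ps.isPGroup' hPsN hNne
  have hM0norm : (Ps : Subgroup G) ≤
      Subgroup.normalizer ((⁅N, (Ps : Subgroup G)⁆ : Subgroup G) : Set G) :=
    Subgroup.normalizer_commutator_ge_right N (Ps : Subgroup G)
  have hF3 : ∀ m, m ∈ Subgroup.closure (Group.conjugatesOfSet ({u} : Set G)) →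
      ∀ g : G, ⁅m, g⁆ ∈ ⁅N, (Ps : Subgroup G)⁆ := by
    intro m hm
    induction hm using Subgroup.closure_induction with
    | mem z hz =>
      intro g
      obtain ⟨b, hb, hbz⟩ := Group.mem_conjugatesOfSet_iff.1 hz
      rw [Set.mem_singleton_iff] at hb
      obtain ⟨c, hc⟩ := isConj_iff.1 hbz
      rw [hb] at hc
      obtain ⟨w, hw, he⟩ := conj_by_sylow Ps u a ha (g * c)
      obtain ⟨w', hw', he'⟩ := conj_by_sylow Ps u a ha c
      have hz' : z = w' * u * w'⁻¹ := by rw [← hc, he']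
      have hgz : g * z * g⁻¹ = (w * w'⁻¹) * z * (w * w'⁻¹)⁻¹ := by
        have h1 : g * z * g⁻¹ = (g * c) * u * (g * c)⁻¹ := by rw [← hc]; group
        rw [h1, he, hz']; group
      have hzN : z ∈ N := hNcl z (Subgroup.subset_closure hz)
      have hcomm : ⁅z, g⁆ = ⁅z, w * w'⁻¹⁆ := by
        rw [commutatorElement_def, commutatorElement_def]
        have e1 : z * g * z⁻¹ * g⁻¹ = z * (g * z * g⁻¹)⁻¹ := by group
        have e2 : z * (w * w'⁻¹) * z⁻¹ * (w * w'⁻¹)⁻¹ =
            z * ((w * w'⁻¹) * z * (w * w'⁻¹)⁻¹)⁻¹ := by group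
        rw [e1, e2, hgz]
      rw [hcomm]
      exact Subgroup.commutator_mem_commutator hzN (mul_mem hw (inv_mem hw'))
    | one =>
      intro g
      rw [commutatorElement_one_left]; exact Subgroup.one_mem _
    | mul m₁ m₂ hm₁ hm₂ h₁ h₂ =>
      intro g
      have e : ⁅m₁ * m₂, g⁆ = m₁ * ⁅m₂, g⁆ * m₁⁻¹ * ⁅m₁, g⁆ := by
        simp only [commutatorElement_def]; group
      rw [e]
      refine mul_mem ?_ (h₁ g)
      have hm₁n := hM0norm (hNPs (hNcl m₁ hm₁))
      exact (Subgroup.mem_normalizer_iff.1 hm₁n _).1 (h₂ g)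
    | inv m hm h₁ =>
      intro g
      have e : ⁅m⁻¹, g⁆ = m⁻¹ * (⁅m, g⁆)⁻¹ * m⁻¹⁻¹ := by
        simp only [commutatorElement_def]; group
      rw [e]
      have hmn := hM0norm (hNPs (hNcl m hm))
      exact (Subgroup.mem_normalizer_iff.1 (inv_mem hmn) _).1 (inv_mem (h₁ g))
  obtain ⟨R, hR⟩ : ∃ R, R = ⁅N, Subgroup.zpowers y⁆ := ⟨_, rfl⟩
  have hRM : R ≤ ⁅N, (Ps : Subgroup G)⁆ := by
    rw [hR, Subgroup.commutator_le]
    intro m hm z _
    exact hF3 m (hclN m hm) z
  have hRN : R ≤ N := hRM.trans hM0lt.le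
  have hRp : IsPGroup p R := hNp.to_le hRN
  have hyR : y ∈ Subgroup.normalizer (R : Set G) := by
    have h2 := Subgroup.normalizer_commutator_ge_right N (Subgroup.zpowers y)
    rw [hR]; exact h2 (Subgroup.mem_zpowers y)
  have hycent : y ∈ Subgroup.centralizer (R : Set G) := by
    apply Cfsg.Agent.Lib.Lead.OmegaFaithful.centralizes_of_fixes_small R hRp y hyR hy
    intro r hr hsmall
    by_cases hr1 : r = 1
    · rw [hr1]; group
    have hrU : orderOf r = p ∨ (p = 2 ∧ orderOf r = 4) := small_order hsmall hr1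
    obtain ⟨a', ha'⟩ := h r hrU
    have hrM : r ∈ ⁅N, (Ps : Subgroup G)⁆ := hRM hr
    have hNr : Subgroup.normalClosure ({r} : Set G) ≤ ⁅N, (Ps : Subgroup G)⁆ := by
      show Subgroup.closure (Group.conjugatesOfSet ({r} : Set G)) ≤ _
      rw [Subgroup.closure_le]
      intro z hz
      obtain ⟨b, hb, hbz⟩ := Group.mem_conjugatesOfSet_iff.1 hz
      rw [Set.mem_singleton_iff] at hb
      obtain ⟨c, hc⟩ := isConj_iff.1 hbz
      obtain ⟨w, hw, he⟩ := conj_by_sylow Ps r a' ha' c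
      rw [← hc, hb, he]
      exact (Subgroup.mem_normalizer_iff.1 (hM0norm hw) r).1 hrM
    have hlt : Nat.card (Subgroup.normalClosure ({r} : Set G)) < n := by
      rw [← hn]
      exact lt_of_le_of_lt (Subgroup.card_le_of_le hNr) (Cfsg.Agent.H1.card_lt_card_of_lt' hM0lt)
    have h5 := ih _ hlt r hrU rfl
    rw [h5]; group
  have hRbot : R = ⊥ := by
    have hA : Subgroup.zpowers y ≤ Subgroup.normalizer (N : Set G) := by rw [hNtop]; exact le_top
    have hcop : (Nat.card (Subgroup.zpowers y)).Coprime (Nat.card N) := by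
      rw [Nat.card_zpowers]
      obtain ⟨e, he⟩ := IsPGroup.iff_card.1 hNp
      rw [he]; exact Nat.Coprime.pow_right e hy
    have hnilN : Group.IsNilpotent N := hNp.isNilpotent
    have hs := Cfsg.Agent.S0027.result (Subgroup.zpowers y) N hA hcop (Or.inr inferInstance)
    rw [← hR] at hs
    rw [← hs, Subgroup.commutator_eq_bot_iff_le_centralizer]
    intro r hr
    rw [Subgroup.mem_centralizer_iff]
    intro z hz
    obtain ⟨i, rfl⟩ := Subgroup.mem_zpowers_iff.1 hz
    have hyr : Commute y r := ((Subgroup.mem_centralizer_iff.1 hycent) r hr).symm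
    exact (hyr.zpow_left i).eq
  rw [hR, Subgroup.commutator_eq_bot_iff_le_centralizer] at hRbot
  exact (Subgroup.mem_centralizer_iff.1 (hRbot huN)) y (Subgroup.mem_zpowers y)

/-- Let G be a finite group and p a prime. Suppose every element of order p, and when p = 2 also every element of order 4, has a conjugacy class of p-power size. Then G has a normal p-complement. -/
theorem result {G : Type*} [Group G] [Finite G] (p : ℕ) [Fact p.Prime]
    (h : ∀ x : G, (orderOf x = p ∨ (p = 2 ∧ orderOf x = 4)) → ∃ a : ℕ, (Subgroup.centralizer ({x} : Set G)).index = p ^ a) :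
    Cfsg.HasNormalPComplement p G := by
  obtain ⟨Ps⟩ : Nonempty (Sylow p G) := inferInstance
  apply Cfsg.Agent.Lib.Lead.NormalPComplement.hasNormalPComplement_of_p'_centralize Ps
  intro Q hQ g hg hgp
  apply Cfsg.Agent.Lib.Lead.OmegaFaithful.centralizes_of_fixes_small Q (Ps.isPGroup'.to_le hQ) g hg hgp
  intro x hx hsmall
  by_cases hx1 : x = 1
  · rw [hx1]; group
  have h5 := key p h Ps g hgp _ x (small_order hsmall hx1) rfl
  rw [h5]; group

end Cfsg.Agent.S4126
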