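import Cfsg.Statements.S4127
import Cfsg.Agent.S4035
import Cfsg.Agent.H1.ClassSizeProduct
import Cfsg.Agent.H1.PQ
import Cfsg.Agent.H1.HallFocal
import Cfsg.Agent.Lib.Lead.ProdCard
import Cfsg.Agent.Lib.Lead.NormalPComplement

set_option autoImplicit false
open Cfsg

namespace Cfsg.Agent.S4127

open scoped Pointwise

/-- If a Sylow `p`-subgroup is normal, every `p`-subgroup lies in it. -/
theorem le_of_normal_sylow' {G : Type*} [Group G] [Finite G] (p : ℕ) [Fact p.Prime] (P : Sylow p G)
    [hn : (P : Subgroup G).Normal] (K : Subgroup G) (hK : IsPGroup p K) : K ≤ P := by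
  obtain ⟨Q, hQ⟩ := hK.exists_le_sylow
  obtain ⟨g, hg⟩ := MulAction.exists_smul_eq G P Q
  rw [Sylow.smul_eq_of_normal] at hg
  rw [hg]
  exact hQ

/-- Let G be a finite group, p a prime and p^a the largest power of p dividing the size of any conjugacy class of G. If some element of p-power order has a conjugacy class of size exactly p^a, then G has a normal p-complement. -/
theorem result {G : Type*} [Group G] [Finite G] (p : ℕ) [Fact p.Prime]
    (a : ℕ) (hmax : ∀ y : G, ¬ p ^ (a + 1) ∣ (Subgroup.centralizer ({y} : Set G)).index)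
    (hx : ∃ x : G, (∃ k : ℕ, orderOf x = p ^ k) ∧ (Subgroup.centralizer ({x} : Set G)).index = p ^ a) :
    Cfsg.HasNormalPComplement p G := by
  classical
  obtain ⟨x, ⟨k, hxk⟩, hxi⟩ := hx
  have hp := (Fact.out : p.Prime)
  obtain ⟨H, hH⟩ : ∃ H, H = Subgroup.centralizer ({x} : Set G) := ⟨_, rfl⟩
  rw [← hH] at hxi
  have hmemH : ∀ g : G, g ∈ H ↔ g * x = x * g := by
    intro g; rw [hH]; exact Subgroup.mem_centralizer_singleton_iff
  have hxH : x ∈ H := (hmemH x).2 rfl
  -- (1) class sizes of p-regular elements of H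
  have h1 : ∀ y' : ↥H, (orderOf y').Coprime p → ¬ p ∣ (ConjClasses.mk y').carrier.ncard := by
    intro y' hy' hdvd
    rw [Cfsg.Agent.S4035.ncard_carrier] at hdvd
    have hcomm : Commute x (y' : G) := ((hmemH _).1 y'.2).symm
    have hcop : (orderOf x).Coprime (orderOf (y' : G)) := by
      rw [hxk, Subgroup.orderOf_coe]; exact Nat.Coprime.pow_left k hy'.symm
    have e := Cfsg.Agent.H1.centralizer_mul_eq_inf_of_coprime x (y' : G) hcomm hcop
    rw [← hH] at e
    have hsub : (Subgroup.centralizer ({(y' : G)} : Set G)).subgroupOf H =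
        Subgroup.centralizer ({y'} : Set ↥H) := by
      ext g
      rw [Subgroup.mem_subgroupOf, Subgroup.mem_centralizer_singleton_iff,
        Subgroup.mem_centralizer_singleton_iff]
      constructor
      · intro h; exact Subtype.ext h
      · intro h; exact congrArg Subtype.val h
    have hidx : (H ⊓ Subgroup.centralizer ({(y' : G)} : Set G)).index =
        H.index * (Subgroup.centralizer ({y'} : Set ↥H)).index := by
      rw [← hsub]
      have h2 := Subgroup.relIndex_mul_index
        (inf_le_left : H ⊓ Subgroup.centralizer ({(y' : G)} : Set G) ≤ H)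
      rw [Subgroup.inf_relIndex_left] at h2
      calc (H ⊓ Subgroup.centralizer ({(y' : G)} : Set G)).index
          = (Subgroup.centralizer ({(y' : G)} : Set G)).relIndex H * H.index := h2.symm
        _ = H.index * ((Subgroup.centralizer ({(y' : G)} : Set G)).subgroupOf H).index :=
            mul_comm _ _
    have h3 := hmax (x * (y' : G))
    rw [e, hidx, hxi, pow_succ] at h3
    exact h3 (Nat.mul_dvd_mul_left _ hdvd)
  -- (2) structure of H
  obtain ⟨PH⟩ : Nonempty (Sylow p ↥H) := inferInstance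
  obtain ⟨hPHn, K', hK'n, hK'p, hinf, hsup⟩ := Cfsg.Agent.S4035.result h1 PH
  haveI := hPHn
  haveI := hK'n
  have hK'idx : K'.index = Nat.card (PH : Subgroup ↥H) := by
    have hcompl : Subgroup.IsComplement' (PH : Subgroup ↥H) K' :=
      Subgroup.isComplement'_of_disjoint_and_mul_eq_univ (disjoint_iff.2 hinf) (by
        rw [← Subgroup.normal_mul, hsup]; rfl)
    have h1 := hcompl.card_mul_card
    have h2 := K'.card_mul_index
    rw [← h1, mul_comm] at h2
    exact Nat.eq_of_mul_eq_mul_right Nat.card_pos h2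
  obtain ⟨K, hK⟩ : ∃ K, K = K'.map H.subtype := ⟨_, rfl⟩
  have hKH : K ≤ H := by rw [hK]; exact Subgroup.map_subtype_le K'
  have hKcard : Nat.card K = Nat.card K' := by
    rw [hK]; exact Subgroup.card_map_of_injective H.subtype_injective
  have hKcop : (Nat.card K).Coprime p := by
    rw [hKcard]; exact (Nat.Coprime.symm ((Nat.Prime.coprime_iff_not_dvd hp).2 hK'p))
  obtain ⟨m, hm⟩ := IsPGroup.iff_card.1 PH.isPGroup'
  have hKidx : K.index = p ^ (m + a) := by
    rw [hK, Subgroup.index_map_subtype, hK'idx, hm, hxi, pow_add]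
  -- (3) the normal closure of x is a p-group
  have hPHp : IsPGroup p ((PH : Subgroup ↥H).map H.subtype) := PH.isPGroup'.map _
  obtain ⟨Ps, hPs⟩ := hPHp.exists_le_sylow
  have hPsH : (Ps : Subgroup G) ⊓ H = (PH : Subgroup ↥H).map H.subtype := by
    apply le_antisymm
    · intro g hg
      obtain ⟨hg1, hg2⟩ := Subgroup.mem_inf.1 hg
      have hQ : IsPGroup p ((Ps : Subgroup G).subgroupOf H) := Ps.isPGroup'.comap_subtype
      have hle := le_of_normal_sylow' p PH _ hQ
      have : (⟨g, hg2⟩ : ↥H) ∈ (PH : Subgroup ↥H) := hle (Subgroup.mem_subgroupOf.2 hg1)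
      exact ⟨⟨g, hg2⟩, this, rfl⟩
    · exact le_inf hPs (Subgroup.map_subtype_le _)
  have hGcard : Nat.card G = Nat.card K * p ^ (m + a) := by
    rw [← hKidx]; exact K.card_mul_index.symm
  have hPscard : Nat.card (Ps : Subgroup G) = p ^ (m + a) := by
    obtain ⟨j, hj⟩ := IsPGroup.iff_card.1 Ps.isPGroup'
    have e1 := (Ps : Subgroup G).card_mul_index
    apply Nat.dvd_antisymm
    · have h1 : Nat.card (Ps : Subgroup G) ∣ Nat.card K * p ^ (m + a) := by
        rw [← hGcard]; exact Dvd.intro _ e1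
      have h2 : (Nat.card (Ps : Subgroup G)).Coprime (Nat.card K) := by
        rw [hj]; exact Nat.Coprime.pow_left j hKcop.symm
      exact h2.dvd_of_dvd_mul_left h1
    · have h1 : p ^ (m + a) ∣ Nat.card (Ps : Subgroup G) * (Ps : Subgroup G).index := by
        rw [e1, hGcard]; exact Dvd.intro_left _ rfl
      have h2 : (p ^ (m + a)).Coprime (Ps : Subgroup G).index :=
        Nat.Coprime.pow_left _ ((Nat.Prime.coprime_iff_not_dvd hp).2 Ps.not_dvd_index)
      exact h2.dvd_of_dvd_mul_right h1
  have hprod := Cfsg.Agent.Lib.Lead.ProdCard.card_mul_card_eq (Ps : Subgroup G) H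
  have hHcard : Nat.card H * p ^ a = Nat.card G := by rw [← hxi]; exact H.card_mul_index
  have hinfcard : Nat.card ((Ps : Subgroup G) ⊓ H : Subgroup G) = p ^ m := by
    rw [hPsH, Subgroup.card_map_of_injective H.subtype_injective, hm]
  have hncard : ((((Ps : Subgroup G) : Set G)) * (H : Set G)).ncard = Nat.card G := by
    rw [hPscard, hinfcard, pow_add] at hprod
    have hpm : 0 < p ^ m := pow_pos hp.pos m
    rw [← hHcard]
    apply Nat.eq_of_mul_eq_mul_left hpm
    rw [mul_comm (p ^ m) (_ : ℕ), ← hprod]; ring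
  have huniv : ((((Ps : Subgroup G) : Set G)) * (H : Set G)) = Set.univ :=
    Set.eq_of_subset_of_ncard_le (Set.subset_univ _) (by rw [Set.ncard_univ, hncard])
      (Set.toFinite _)
  have hxPs : x ∈ (Ps : Subgroup G) := by
    apply hPs
    have hz : IsPGroup p (Subgroup.zpowers (⟨x, hxH⟩ : ↥H)) := by
      apply IsPGroup.of_card (n := k)
      rw [Nat.card_zpowers, Subgroup.orderOf_mk, hxk]
    exact ⟨⟨x, hxH⟩, le_of_normal_sylow' p PH _ hz (Subgroup.mem_zpowers _), rfl⟩
  have hconj : ∀ g : G, g * x * g⁻¹ ∈ (Ps : Subgroup G) := by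
    intro g
    have hg : g ∈ ((((Ps : Subgroup G) : Set G)) * (H : Set G)) := by rw [huniv]; trivial
    obtain ⟨u, hu, h, hh, rfl⟩ := Set.mem_mul.1 hg
    have hhx : h * x = x * h := (hmemH h).1 hh
    have h2 : h * x * h⁻¹ = x := by rw [hhx]; group
    have h3 : u * h * x * (u * h)⁻¹ = u * (h * x * h⁻¹) * u⁻¹ := by group
    rw [h3, h2]
    exact mul_mem (mul_mem hu hxPs) (inv_mem hu)
  obtain ⟨T, hT⟩ : ∃ T, T = Subgroup.normalClosure ({x} : Set G) := ⟨_, rfl⟩
  have hTPs : T ≤ (Ps : Subgroup G) := by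
    rw [hT]
    show Subgroup.closure (Group.conjugatesOfSet ({x} : Set G)) ≤ _
    rw [Subgroup.closure_le]
    intro z hz
    obtain ⟨b, hb, hbz⟩ := Group.mem_conjugatesOfSet_iff.1 hz
    rw [Set.mem_singleton_iff] at hb
    obtain ⟨c, hc⟩ := isConj_iff.1 hbz
    rw [← hc, hb]; exact hconj c
  have hTp : IsPGroup p T := Ps.isPGroup'.to_le hTPs
  haveI hTn : T.Normal := by rw [hT]; exact Subgroup.normalClosure_normal
  have hxT : x ∈ T := by rw [hT]; exact Subgroup.subset_normalClosure (Set.mem_singleton x)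
  -- (4) P × Q lemma
  have hzp : IsPGroup p (Subgroup.zpowers x) := by
    apply IsPGroup.of_card (n := k)
    rw [Nat.card_zpowers, hxk]
  have hzK : Subgroup.zpowers x ≤ Subgroup.centralizer (K : Set G) := by
    rw [Subgroup.zpowers_le, Subgroup.mem_centralizer_iff]
    intro g hg
    exact (hmemH g).1 (hKH hg)
  have hTtop : Subgroup.normalizer (T : Set G) = ⊤ := Subgroup.normalizer_eq_top_iff.2 hTn
  have hC : T ⊓ Subgroup.centralizer ((Subgroup.zpowers x : Subgroup G) : Set G) ≤
      Subgroup.centralizer (K : Set G) := by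
    intro t ht
    obtain ⟨ht1, ht2⟩ := Subgroup.mem_inf.1 ht
    have htx : x * t = t * x :=
      (Subgroup.mem_centralizer_iff.1 ht2) x (Subgroup.mem_zpowers x)
    have htH : t ∈ H := (hmemH t).2 htx.symm
    have htP : t ∈ (Ps : Subgroup G) ⊓ H := Subgroup.mem_inf.2 ⟨hTPs ht1, htH⟩
    rw [hPsH] at htP
    obtain ⟨t', ht', rfl⟩ := htP
    rw [Subgroup.mem_centralizer_iff]
    intro g hg
    rw [hK] at hg
    obtain ⟨g', hg', rfl⟩ := hg
    have := Subgroup.commute_of_normal_of_disjoint _ _ hPHn hK'n (disjoint_iff.2 hinf) t' g' ht' hg'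
    exact (congrArg Subtype.val this.eq).symm
  have hKT : K ≤ Subgroup.centralizer (T : Set G) :=
    Cfsg.Agent.H1.pq_aux p (Subgroup.zpowers x) K hzp hKcop hzK _ T rfl hTp
      (by rw [hTtop]; exact le_top) (by rw [hTtop]; exact le_top) hC
  -- (5) K is normal
  have hCH : Subgroup.centralizer (T : Set G) ≤ H := by
    rw [hH]
    apply Subgroup.centralizer_le
    intro z hz
    rw [Set.mem_singleton_iff] at hz
    rw [hz]; exact hxT
  have hKn : K.Normal := by
    constructor
    intro n hn g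
    have hz : g * n * g⁻¹ ∈ Subgroup.centralizer (T : Set G) :=
      (inferInstance : (Subgroup.centralizer (T : Set G)).Normal).conj_mem n (hKT hn) g
    have hzH : g * n * g⁻¹ ∈ H := hCH hz
    have hord : (orderOf (⟨g * n * g⁻¹, hzH⟩ : ↥H)).Coprime p := by
      rw [Subgroup.orderOf_mk]
      have h2 : orderOf (g * n * g⁻¹) = orderOf n :=
        orderOf_injective (MulAut.conj g).toMonoidHom (MulAut.conj g).injective n
      rw [h2]
      have h3 : orderOf n ∣ Nat.card K := by
        have := Subgroup.orderOf_mk n hn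
        rw [← this]; exact orderOf_dvd_natCard _
      exact Nat.Coprime.coprime_dvd_left h3 hKcop
    have hle : Subgroup.zpowers (⟨g * n * g⁻¹, hzH⟩ : ↥H) ≤ K' := by
      apply Cfsg.Agent.H1.le_of_coprime_index
      rw [Nat.card_zpowers, hK'idx, hm]
      exact Nat.Coprime.pow_right m hord
    rw [hK]
    exact ⟨⟨g * n * g⁻¹, hzH⟩, hle (Subgroup.mem_zpowers _), rfl⟩
  exact (Cfsg.Agent.Lib.Lead.NormalPComplement.hasNormalPComplement_iff).2
    ⟨K, hKn, hKcop, m + a, hKidx⟩

end Cfsg.Agent.S4127
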