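import Mathlib
import Cfsg.Statements.S4365
import Cfsg.Agent.H2.SmallClasses
import Cfsg.Agent.S0015

set_option autoImplicit false
open Cfsg

namespace Cfsg.Agent.S4365

/-- Let P be a finite p-group whose conjugacy class sizes are exactly 1 and pᵃ for some a ≥ 1. Then every element of P has its p-th power in the center of P (P/Z(P) has exponent p). -/
theorem result {P : Type*} [Group P] [Finite P] (p : ℕ) [Fact p.Prime]
    (hP : IsPGroup p P) (a : ℕ) (ha : 1 ≤ a)
    (hcs : {k : ℕ | ∃ x : P, (Subgroup.centralizer ({x} : Set P)).index = k} = {1, p ^ a}) (x : P) :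
    x ^ p ∈ Subgroup.center P := by
  have hnil : Group.IsNilpotent P := hP.isNilpotent
  obtain ⟨A, -, hAmax⟩ := Finite.exists_le_maximal
    (p := fun M : Subgroup P => M.Normal ∧ IsMulCommutative M) (a := ⊥) ⟨inferInstance, inferInstance⟩
  obtain ⟨⟨hAn, hAc⟩, hAm⟩ := hAmax
  have hCA : Subgroup.centralizer (A : Set P) = A :=
    Cfsg.Agent.S0015.result A (fun M hMn hMc hle => le_antisymm (hAm ⟨hMn, hMc⟩ hle) hle)
  have hAcomm : ∀ a ∈ A, ∀ b ∈ A, a * b = b * a := by
    intro a ha b hb
    exact congrArg Subtype.val (hAc.is_comm.comm ⟨a, ha⟩ ⟨b, hb⟩)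
  have h : ∀ y : P, (Subgroup.centralizer ({y} : Set P)).index = 1 ∨
      (Subgroup.centralizer ({y} : Set P)).index = p ^ a := by
    intro y
    have : (Subgroup.centralizer ({y} : Set P)).index ∈
        {k : ℕ | ∃ x : P, (Subgroup.centralizer ({x} : Set P)).index = k} := ⟨y, rfl⟩
    rw [hcs] at this
    exact this
  have hmin : ∀ y : P, 1 < (Subgroup.centralizer ({y} : Set P)).index →
      p ^ a ≤ (Subgroup.centralizer ({y} : Set P)).index := by
    intro y hy
    rcases h y with h1 | h1
    · omega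
    · omega
  have hK : ∀ y : P, y ∈ Cfsg.Agent.H2.SmallClasses.centralActing A := by
    intro y
    rcases h y with hy | hy
    · intro c _
      rw [Subgroup.index_eq_one] at hy
      have hyc : c ∈ Subgroup.centralizer ({y} : Set P) := hy ▸ Subgroup.mem_top c
      rw [Subgroup.mem_centralizer_singleton_iff] at hyc
      have : c * y * c⁻¹ * y⁻¹ = 1 := by rw [hyc]; group
      rw [this]; exact Subgroup.one_mem _
    · intro c hc
      exact Cfsg.Agent.H2.SmallClasses.comm_mem_center A hAcomm (p ^ a) hmin y hy c hc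
  -- central elements have index one
  have hidx1 : ∀ y : P, (Subgroup.centralizer ({y} : Set P)).index = 1 → y ∈ Subgroup.center P := by
    intro y hy
    rw [Subgroup.index_eq_one] at hy
    rw [Subgroup.mem_center_iff]
    intro g
    have : g ∈ Subgroup.centralizer ({y} : Set P) := hy ▸ Subgroup.mem_top g
    exact Subgroup.mem_centralizer_singleton_iff.mp this
  by_contra hxp
  have hxnc : x ∉ Subgroup.center P := fun hx => hxp (Subgroup.pow_mem _ hx p)
  have hix : (Subgroup.centralizer ({x} : Set P)).index = p ^ a := by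
    rcases h x with h1 | h1
    · exact absurd (hidx1 x h1) hxnc
    · exact h1
  have hixp : (Subgroup.centralizer ({x ^ p} : Set P)).index = p ^ a := by
    rcases h (x ^ p) with h1 | h1
    · exact absurd (hidx1 _ h1) hxp
    · exact h1
  have hle : Subgroup.centralizer ({x} : Set P) ≤ Subgroup.centralizer ({x ^ p} : Set P) := by
    intro g hg
    rw [Subgroup.mem_centralizer_singleton_iff] at hg ⊢
    exact (Commute.pow_right (hg : Commute g x) p).eq
  have hCeq : Subgroup.centralizer ({x ^ p} : Set P) = Subgroup.centralizer ({x} : Set P) := by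
    symm
    apply Subgroup.eq_of_le_of_card_ge hle
    have e1 := (Subgroup.centralizer ({x} : Set P)).card_mul_index
    have e2 := (Subgroup.centralizer ({x ^ p} : Set P)).card_mul_index
    rw [hix] at e1
    rw [hixp, ← e1] at e2
    exact le_of_eq (Nat.eq_of_mul_eq_mul_right (pow_pos (Fact.out : p.Prime).pos a) e2)
  -- an element moving x by a central element
  obtain ⟨b, z, hz, hzc, hz1⟩ : ∃ b z : P, b * x * b⁻¹ * x⁻¹ = z ∧ z ∈ Subgroup.center P ∧ z ≠ 1 := by
    by_cases hxA : x ∈ A
    · have : ∃ b : P, b * x ≠ x * b := by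
        by_contra hcon
        push Not at hcon
        exact hxnc (Subgroup.mem_center_iff.mpr hcon)
      obtain ⟨b, hb⟩ := this
      refine ⟨b, _, rfl, ?_, ?_⟩
      · have h1 := (Cfsg.Agent.H2.SmallClasses.mem_centralActing A b).mp (hK b) x hxA
        have h2 := Subgroup.inv_mem _ h1
        have : (x * b * x⁻¹ * b⁻¹)⁻¹ = b * x * b⁻¹ * x⁻¹ := by group
        rwa [this] at h2
      · intro h1
        apply hb
        calc b * x = (b * x * b⁻¹ * x⁻¹) * (x * b) := by group
          _ = x * b := by rw [h1, one_mul]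
    · have : ∃ b ∈ A, b * x ≠ x * b := by
        by_contra hcon
        push Not at hcon
        apply hxA
        rw [← hCA, Subgroup.mem_centralizer_iff]
        exact hcon
      obtain ⟨b, hbA, hb⟩ := this
      refine ⟨b, _, rfl, (Cfsg.Agent.H2.SmallClasses.mem_centralActing A x).mp (hK x) b hbA, ?_⟩
      intro h1
      apply hb
      calc b * x = (b * x * b⁻¹ * x⁻¹) * (x * b) := by group
        _ = x * b := by rw [h1, one_mul]
  have hconj : b * x * b⁻¹ = z * x := by rw [← hz]; group
  have hpow : ∀ j : ℕ, b ^ j * x * (b ^ j)⁻¹ = z ^ j * x := by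
    intro j
    induction j with
    | zero => simp
    | succ j ih =>
      calc b ^ (j + 1) * x * (b ^ (j + 1))⁻¹ = b * (b ^ j * x * (b ^ j)⁻¹) * b⁻¹ := by
            rw [pow_succ']; group
        _ = b * (z ^ j * x) * b⁻¹ := by rw [ih]
        _ = (b * z ^ j * b⁻¹) * (b * x * b⁻¹) := by group
        _ = z ^ j * (z * x) := by
            rw [hconj, (Subgroup.mem_center_iff.mp (Subgroup.pow_mem _ hzc j)) b]; group
        _ = _ := by rw [pow_succ]; group
  obtain ⟨k, hk⟩ := (hP.to_subgroup (Subgroup.zpowers z)).exists_card_eq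
  rw [Nat.card_zpowers] at hk
  have hk1 : 1 ≤ k := by
    rcases Nat.eq_zero_or_pos k with rfl | hpos
    · exfalso
      rw [pow_zero, orderOf_eq_one_iff] at hk
      exact hz1 hk
    · exact hpos
  obtain ⟨j, hj⟩ : ∃ j : ℕ, j = p ^ (k - 1) := ⟨_, rfl⟩
  have hp2 : 2 ≤ p := (Fact.out : p.Prime).two_le
  have hzj1 : z ^ j ≠ 1 := by
    intro h1
    have h2 := orderOf_dvd_of_pow_eq_one h1
    rw [hk, hj] at h2
    have h3 := Nat.le_of_dvd (by positivity) h2
    have h4 : p ^ (k - 1) < p ^ k := Nat.pow_lt_pow_right hp2 (by omega)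
    omega
  have hzjp : (z ^ j) ^ p = 1 := by
    rw [← pow_mul, hj, ← pow_succ]
    have : k - 1 + 1 = k := by omega
    rw [this, ← hk]
    exact pow_orderOf_eq_one z
  have hb1 : b ^ j ∉ Subgroup.centralizer ({x} : Set P) := by
    intro hmem
    rw [Subgroup.mem_centralizer_singleton_iff] at hmem
    apply hzj1
    have h1 := hpow j
    have h2 : b ^ j * x * (b ^ j)⁻¹ = x := by rw [hmem]; group
    rw [h2] at h1
    have h3 : z ^ j * x = 1 * x := by rw [one_mul]; exact h1.symm
    exact mul_right_cancel h3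
  apply hb1
  rw [← hCeq, Subgroup.mem_centralizer_singleton_iff]
  have h1 : b ^ j * x ^ p * (b ^ j)⁻¹ = (b ^ j * x * (b ^ j)⁻¹) ^ p := (conj_pow).symm
  have hzjc : z ^ j ∈ Subgroup.center P := Subgroup.pow_mem _ hzc j
  have h2 : (z ^ j * x) ^ p = (z ^ j) ^ p * x ^ p := by
    have : Commute (z ^ j) x := ((Subgroup.mem_center_iff.mp hzjc) x).symm
    exact this.mul_pow p
  rw [hpow j, h2, hzjp, one_mul] at h1
  calc b ^ j * x ^ p = (b ^ j * x ^ p * (b ^ j)⁻¹) * b ^ j := by group
    _ = x ^ p * b ^ j := by rw [h1]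

end Cfsg.Agent.S4365
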