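import Mathlib
import Cfsg.Statements.S4134
import Cfsg.Agent.H2.ItoTwo
import Cfsg.Agent.S4365

set_option autoImplicit false
open Cfsg

namespace Cfsg.Agent.S4134

/-- Let G be a finite group whose conjugacy classes have exactly two sizes, 1 and n > 1. Then n is a power of a prime p and G is the direct product of a p-group and an abelian group of order prime to p: its Sylow p-subgroup P is normal with an abelian normal complement centralizing it; moreover P has an abelian normal subgroup A with P/A of exponent dividing p. -/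
theorem result {G : Type*} [Group G] [Finite G] (n : ℕ) (hn : 1 < n)
    (h : ∀ x : G, (Subgroup.centralizer ({x} : Set G)).index = 1 ∨ (Subgroup.centralizer ({x} : Set G)).index = n) (hex : ∃ x : G, (Subgroup.centralizer ({x} : Set G)).index = n) :
    ∃ (p : ℕ) (_ : Fact p.Prime) (a : ℕ), n = p ^ a ∧ ∀ P : Sylow p G, (P : Subgroup G).Normal ∧
      (∃ N : Subgroup G, N.Normal ∧ N.IsComplement' (P : Subgroup G) ∧ IsMulCommutative N ∧
        ∀ x ∈ N, ∀ y ∈ (P : Subgroup G), x * y = y * x) ∧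
      ∃ A : Subgroup (P : Subgroup G), A.Normal ∧ IsMulCommutative A ∧ ∀ y : (P : Subgroup G), y ^ p ∈ A := by
  have H : Cfsg.Agent.H2.ItoTwo.TwoSizes G n := ⟨hn, h⟩
  obtain ⟨x₀, hx₀⟩ := hex
  have hx₀Z : x₀ ∉ Subgroup.center G := by
    intro hc
    have h1 : Cfsg.Agent.H2.ItoTwo.Cx x₀ = ⊤ := Cfsg.Agent.H2.ItoTwo.Cx_eq_top_iff.mpr hc
    have h2 : (Subgroup.centralizer ({x₀} : Set G)).index = 1 := by
      rw [Subgroup.index_eq_one]; exact h1
    omega
  obtain ⟨p, hp, PC⟩ := Cfsg.Agent.H2.ItoTwo.one_prime H ⟨x₀, hx₀Z⟩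
  haveI : Fact p.Prime := ⟨hp⟩
  -- `n` is a power of `p`
  obtain ⟨k, hk⟩ := Cfsg.Agent.H2.ItoTwo.index_center_eq_pow PC
  have hndvd : n ∣ p ^ k := by
    rw [← hk, ← hx₀]
    exact Subgroup.index_dvd_of_le (Cfsg.Agent.H2.ItoTwo.center_le_Cx x₀)
  obtain ⟨a, -, ha⟩ := (Nat.dvd_prime_pow hp).mp hndvd
  have ha1 : 1 ≤ a := by
    rcases Nat.eq_zero_or_pos a with h0 | h0
    · rw [h0, pow_zero] at ha; omega
    · exact h0
  refine ⟨p, ⟨hp⟩, a, ha, ?_⟩
  intro P
  have hPn : (P : Subgroup G).Normal := Cfsg.Agent.H2.ItoTwo.sylow_normal PC P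
  obtain ⟨e, m, hNe, hcop, hcop'⟩ := Cfsg.Agent.H2.ItoTwo.card_decomp' (G := G) (p := p)
  have hcompl := Cfsg.Agent.H2.ItoTwo.pcompl_isComplement' PC P hNe hcop hcop'
  refine ⟨hPn, ⟨Cfsg.Agent.H2.ItoTwo.pcompl p G m, Cfsg.Agent.H2.ItoTwo.pcompl_normal m, hcompl,
    ?_, ?_⟩, ?_⟩
  · refine ⟨⟨fun a b => ?_⟩⟩
    apply Subtype.ext
    push_cast
    exact (Subgroup.mem_center_iff.mp a.2.1 (b : G)).symm
  · intro x hx y _
    exact (Subgroup.mem_center_iff.mp hx.1 y).symm
  · refine ⟨Subgroup.center (P : Subgroup G), inferInstance, inferInstance, ?_⟩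
    -- class sizes inside `P`
    have hidx : ∀ y : (P : Subgroup G), (Subgroup.centralizer ({y} : Set (P : Subgroup G))).index =
        (Subgroup.centralizer ({(y : G)} : Set G)).index := by
      intro y
      have h1 : Subgroup.centralizer ({y} : Set (P : Subgroup G)) =
          (Subgroup.centralizer ({(y : G)} : Set G)).subgroupOf (P : Subgroup G) := by
        ext g
        rw [Subgroup.mem_subgroupOf, Subgroup.mem_centralizer_singleton_iff,
          Subgroup.mem_centralizer_singleton_iff, Subtype.ext_iff]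
        push_cast
        rfl
      rw [h1]
      exact Cfsg.Agent.H2.ItoTwo.relIndex_eq_index PC P (y : G)
    have hcs : {k : ℕ | ∃ x : (P : Subgroup G),
        (Subgroup.centralizer ({x} : Set (P : Subgroup G))).index = k} = {1, p ^ a} := by
      ext k
      simp only [Set.mem_setOf_eq, Set.mem_insert_iff, Set.mem_singleton_iff]
      constructor
      · rintro ⟨x, rfl⟩
        rw [hidx x, ← ha]
        exact h (x : G)
      · rintro (rfl | rfl)
        · refine ⟨1, ?_⟩
          rw [hidx 1, Subgroup.index_eq_one]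
          exact Cfsg.Agent.H2.ItoTwo.Cx_eq_top_iff.mpr (Subgroup.one_mem _)
        · -- decompose `x₀`
          obtain ⟨⟨⟨z, hz⟩, ⟨b, hb⟩⟩, hzb⟩ := hcompl.2 x₀
          simp only at hzb
          refine ⟨⟨b, hb⟩, ?_⟩
          rw [hidx ⟨b, hb⟩, ← ha, ← hx₀]
          have hzc : z ∈ Subgroup.center G := hz.1
          have : x₀ = b * z := by
            rw [← hzb]; exact (Subgroup.mem_center_iff.mp hzc b).symm
          have h2 := Cfsg.Agent.H2.ItoTwo.Cx_mul_central b z hzc
          rw [← this] at h2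
          change (Cfsg.Agent.H2.ItoTwo.Cx b).index = (Cfsg.Agent.H2.ItoTwo.Cx x₀).index
          rw [h2]
    intro y
    exact Cfsg.Agent.S4365.result p P.isPGroup' a ha1 hcs y

end Cfsg.Agent.S4134
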