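import Mathlib
import Cfsg.Statements.S4142
import Cfsg.Agent.H2.PPrimeCore

set_option autoImplicit false

namespace Cfsg.Agent.S4142

open Cfsg.Agent.H2

section

variable {G : Type*} [Group G] [Finite G] (N : Subgroup G) [N.Normal]

/-- the preimage of the centralizer of `gN` -/
def D (g : G) : Subgroup G :=
  (Subgroup.centralizer ({(QuotientGroup.mk g : G ⧸ N)} : Set (G ⧸ N))).comap (QuotientGroup.mk' N)

theorem mem_D (g x : G) : x ∈ D N g ↔ x * g * x⁻¹ * g⁻¹ ∈ N := by
  unfold D
  rw [Subgroup.mem_comap, Subgroup.mem_centralizer_iff]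
  constructor
  · intro h
    have := h _ (Set.mem_singleton _)
    rw [← QuotientGroup.eq_one_iff]
    have e : ((x * g * x⁻¹ * g⁻¹ : G) : G ⧸ N) =
        (QuotientGroup.mk' N x) * (QuotientGroup.mk g) * (QuotientGroup.mk' N x)⁻¹ *
          (QuotientGroup.mk g)⁻¹ := rfl
    rw [e, ← this]
    group
  · intro h y hy
    rw [Set.mem_singleton_iff] at hy
    subst hy
    rw [← QuotientGroup.eq_one_iff] at h
    have e : ((x * g * x⁻¹ * g⁻¹ : G) : G ⧸ N) =
        (QuotientGroup.mk' N x) * (QuotientGroup.mk g) * (QuotientGroup.mk' N x)⁻¹ *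
          (QuotientGroup.mk g)⁻¹ := rfl
    rw [e] at h
    have h2 : (QuotientGroup.mk' N x) * (QuotientGroup.mk g : G ⧸ N) * (QuotientGroup.mk' N x)⁻¹ =
        QuotientGroup.mk g := by
      rw [← mul_inv_eq_one]; exact h
    calc (QuotientGroup.mk g : G ⧸ N) * (QuotientGroup.mk' N x)
        = ((QuotientGroup.mk' N x) * (QuotientGroup.mk g : G ⧸ N) * (QuotientGroup.mk' N x)⁻¹) *
          (QuotientGroup.mk' N x) := by rw [h2]
      _ = _ := by group

theorem centralizer_le_D (g : G) : Subgroup.centralizer ({g} : Set G) ≤ D N g := by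
  intro x hx
  rw [mem_D]
  have := Subgroup.mem_centralizer_iff.1 hx g (Set.mem_singleton g)
  have e : x * g * x⁻¹ * g⁻¹ = 1 := by
    rw [← this]; group
  rw [e]; exact N.one_mem

/-- the set of conjugates of `g` lying in the coset `gN` -/
def orb (g : G) : Set G := {y | ∃ x ∈ D N g, y = x * g * x⁻¹}

theorem orb_subset (g : G) : orb N g ⊆ {y | ∃ n ∈ N, y = g * n} := by
  rintro _ ⟨x, hx, rfl⟩
  rw [mem_D] at hx
  refine ⟨g⁻¹ * (x * g * x⁻¹ * g⁻¹) * g, ?_, by group⟩
  have := (inferInstance : N.Normal).conj_mem _ hx g⁻¹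
  simpa using this

theorem card_coset (g : G) : Nat.card {y | ∃ n ∈ N, y = g * n} = Nat.card N := by
  symm
  apply Nat.card_congr
  refine Equiv.ofBijective (fun n => ⟨g * n, n, n.2, rfl⟩) ⟨?_, ?_⟩
  · intro a b h
    have := congrArg Subtype.val h
    exact Subtype.ext (mul_left_cancel this)
  · rintro ⟨_, n, hn, rfl⟩
    exact ⟨⟨n, hn⟩, rfl⟩

/-- orbit–stabilizer for the conjugates of `g` in `gN` -/
theorem card_D (g : G) :
    Nat.card (D N g) = Nat.card (orb N g) * Nat.card (Subgroup.centralizer ({g} : Set G)) := by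
  have h1 := Subgroup.card_eq_card_quotient_mul_card_subgroup
    ((Subgroup.centralizer ({g} : Set G)).subgroupOf (D N g))
  rw [h1]
  congr 1
  · apply Nat.card_congr
    refine Equiv.ofBijective (Quotient.lift (fun x : D N g => (⟨(x : G) * g * (x : G)⁻¹, x, x.2, rfl⟩ : orb N g)) ?_) ⟨?_, ?_⟩
    · intro a b hab
      have hab' : a⁻¹ * b ∈ (Subgroup.centralizer ({g} : Set G)).subgroupOf (D N g) :=
        QuotientGroup.leftRel_apply.1 hab
      rw [Subgroup.mem_subgroupOf, Subgroup.mem_centralizer_iff] at hab'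
      have h2 := hab' g (Set.mem_singleton g)
      apply Subtype.ext
      show (a : G) * g * (a : G)⁻¹ = (b : G) * g * (b : G)⁻¹
      have h3 : g * ((a : G)⁻¹ * (b : G)) = ((a : G)⁻¹ * (b : G)) * g := by simpa using h2
      calc (a : G) * g * (a : G)⁻¹ = (a : G) * (g * ((a : G)⁻¹ * (b : G))) * (b : G)⁻¹ := by group
        _ = (a : G) * (((a : G)⁻¹ * (b : G)) * g) * (b : G)⁻¹ := by rw [h3]
        _ = _ := by group
    · intro qa qb
      induction qa using Quotient.inductionOn with | _ a => ?_
      induction qb using Quotient.inductionOn with | _ b => ?_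
      intro h
      apply Quotient.sound
      apply QuotientGroup.leftRel_apply.2
      rw [Subgroup.mem_subgroupOf, Subgroup.mem_centralizer_iff]
      intro y hy
      rw [Set.mem_singleton_iff] at hy
      subst hy
      have h2 : (a : G) * y * (a : G)⁻¹ = (b : G) * y * (b : G)⁻¹ := congrArg Subtype.val h
      show y * ((a : G)⁻¹ * (b : G)) = ((a : G)⁻¹ * (b : G)) * y
      calc y * ((a : G)⁻¹ * (b : G)) = (a : G)⁻¹ * ((a : G) * y * (a : G)⁻¹) * (b : G) := by group
        _ = (a : G)⁻¹ * ((b : G) * y * (b : G)⁻¹) * (b : G) := by rw [h2]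
        _ = _ := by group
    · rintro ⟨_, x, hx, rfl⟩
      exact ⟨Quotient.mk'' ⟨x, hx⟩, rfl⟩
  · exact Nat.card_congr (Subgroup.subgroupOfEquivOfLe (centralizer_le_D N g)).toEquiv

theorem card_D' (g : G) :
    Nat.card (D N g) = Nat.card (Subgroup.centralizer ({(QuotientGroup.mk g : G ⧸ N)} : Set (G ⧸ N))) *
      Nat.card N := card_comap_mk' N _

end

/-- Let G be a finite group and N a normal subgroup. Then the conjugacy class of every element g outside N is a union of cosets of N (gn is conjugate to g for all n ∈ N) if and only if for every g outside N the centralizer of g in G has the same order as the centralizer of gN in G/N. -/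
theorem result {G : Type*} [Group G] [Finite G] (N : Subgroup G) [N.Normal] :
    (∀ g : G, g ∉ N → ∀ n ∈ N, ∃ x : G, x * g * x⁻¹ = g * n) ↔
      ∀ g : G, g ∉ N → Nat.card (Subgroup.centralizer ({g} : Set G)) =
        Nat.card (Subgroup.centralizer ({(QuotientGroup.mk g : G ⧸ N)} : Set (G ⧸ N))) := by
  have hkey : ∀ g : G, (∀ n ∈ N, ∃ x : G, x * g * x⁻¹ = g * n) ↔
      Nat.card (Subgroup.centralizer ({g} : Set G)) =
        Nat.card (Subgroup.centralizer ({(QuotientGroup.mk g : G ⧸ N)} : Set (G ⧸ N))) := by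
    intro g
    have h1 := card_D N g
    have h2 := card_D' N g
    have hsub := orb_subset N g
    have hcos := card_coset N g
    have hNpos : 0 < Nat.card N := Nat.card_pos
    have hCpos : 0 < Nat.card (Subgroup.centralizer ({g} : Set G)) := Nat.card_pos
    have hiff : (∀ n ∈ N, ∃ x : G, x * g * x⁻¹ = g * n) ↔ Nat.card (orb N g) = Nat.card N := by
      constructor
      · intro h
        have heq : orb N g = {y | ∃ n ∈ N, y = g * n} := by
          apply Set.Subset.antisymm hsub
          rintro _ ⟨n, hn, rfl⟩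
          obtain ⟨x, hx⟩ := h n hn
          refine ⟨x, ?_, hx.symm⟩
          rw [mem_D, hx]
          have : g * n * g⁻¹ ∈ N := (inferInstance : N.Normal).conj_mem n hn g
          exact this
        rw [heq, hcos]
      · intro h n hn
        have heq : orb N g = {y | ∃ n ∈ N, y = g * n} := by
          apply Set.eq_of_subset_of_ncard_le hsub
          rw [← Nat.card_coe_set_eq, ← Nat.card_coe_set_eq, hcos, h]
        have : g * n ∈ orb N g := by rw [heq]; exact ⟨n, hn, rfl⟩
        obtain ⟨x, _, hx⟩ := this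
        exact ⟨x, hx.symm⟩
    rw [hiff]
    have h3 := h1.symm.trans h2
    constructor
    · intro h
      rw [h] at h3
      exact Nat.eq_of_mul_eq_mul_left hNpos (h3.trans (mul_comm _ _))
    · intro h
      rw [h] at h3
      have hpos : 0 < Nat.card (Subgroup.centralizer ({(QuotientGroup.mk g : G ⧸ N)} : Set (G ⧸ N))) :=
        Nat.card_pos
      exact Nat.eq_of_mul_eq_mul_left hpos ((mul_comm _ _).trans h3)
  constructor
  · intro h g hg
    exact (hkey g).1 (h g hg)
  · intro h g hg
    exact (hkey g).2 (h g hg)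

end Cfsg.Agent.S4142
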