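import Cfsg.Statements.S4143
import Mathlib
import Cfsg.Agent.S0112

set_option autoImplicit false
open Cfsg

namespace Cfsg.Agent.S4143

universe u

theorem comm_of_card_pow {K : Type*} [Group K] [Finite K] {p : ℕ} [Fact p.Prime] {k : ℕ}
    (hk : k ≤ 2) (h : Nat.card K = p ^ k) : ∀ a b : K, a * b = b * a := by
  interval_cases k
  · intro a b
    rw [pow_zero] at h
    haveI : Subsingleton K := (Nat.card_eq_one_iff_unique.mp h).1
    exact Subsingleton.elim _ _
  · rw [pow_one] at h
    haveI : IsCyclic K := isCyclic_of_prime_card h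
    exact commutative_of_cyclic_center_quotient (MonoidHom.id K) (by
      rw [MonoidHom.ker_id]
      exact bot_le)
  · exact IsPGroup.commutative_of_card_eq_prime_sq h

/-- the homomorphism `x ↦ u⁻¹ x⁻¹ u x` into a central subgroup -/
noncomputable def commHom {X : Type*} [Group X] (C Z : Subgroup X) (hZ : Z ≤ Subgroup.center X)
    (u : X) (h : ∀ x ∈ C, u⁻¹ * x⁻¹ * u * x ∈ Z) : ↥C →* ↥Z :=
  MonoidHom.mk' (fun x => ⟨u⁻¹ * (x : X)⁻¹ * u * x, h x x.2⟩) (by
    intro x y
    apply Subtype.ext
    have hc := hZ (h x x.2)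
    show u⁻¹ * ((x : X) * y)⁻¹ * u * ((x : X) * y)
      = (u⁻¹ * (x : X)⁻¹ * u * x) * (u⁻¹ * (y : X)⁻¹ * u * y)
    have e1 : u⁻¹ * ((x : X) * y)⁻¹ * u * ((x : X) * y)
        = (u⁻¹ * (y : X)⁻¹ * u) * (u⁻¹ * (x : X)⁻¹ * u * x) * y := by group
    rw [e1, Subgroup.mem_center_iff.mp hc (u⁻¹ * (y : X)⁻¹ * u)]
    group)

theorem commHom_apply {X : Type*} [Group X] (C Z : Subgroup X) (hZ : Z ≤ Subgroup.center X)
    (u : X) (h : ∀ x ∈ C, u⁻¹ * x⁻¹ * u * x ∈ Z) (x : ↥C) :
    ((commHom C Z hZ u h x : ↥Z) : X) = u⁻¹ * (x : X)⁻¹ * u * x := rfl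

theorem maxclass_of_nonabelian_cube {p : ℕ} [Fact p.Prime] (n : ℕ) (X : Type u) [Group X]
    [Finite X] (hX : Nat.card X = p ^ n) (B : Subgroup X) (hB : Nat.card B = p ^ 3)
    (hBna : ¬ IsMulCommutative B) (hC : Subgroup.centralizer (B : Set X) ≤ B) :
    Group.nilpotencyClass X = n - 1 := by
  have hp := (Fact.out : p.Prime)
  have hXp : IsPGroup p X := IsPGroup.of_card hX
  haveI : Group.IsNilpotent X := hXp.isNilpotent
  have hn3 : 3 ≤ n := by
    have h1 : p ^ 3 ∣ p ^ n := by
      rw [← hB, ← hX]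
      exact Subgroup.card_subgroup_dvd_card B
    exact (Nat.pow_dvd_pow_iff_le_right hp.one_lt).mp h1
  haveI : Nontrivial X := by
    rw [← Finite.one_lt_card_iff_nontrivial, hX]
    exact Nat.one_lt_pow (by omega) hp.one_lt
  rw [Group.nilpotencyClass_eq_quotient_center_plus_one]
  -- non-commuting elements of `B`
  obtain ⟨u, hu, v, hv, huv⟩ : ∃ u ∈ B, ∃ v ∈ B, u * v ≠ v * u := by
    by_contra hcon
    push Not at hcon
    apply hBna
    exact ⟨⟨fun a b => Subtype.ext (hcon a a.2 b b.2)⟩⟩
  have hZB : Subgroup.center X ≤ B := (Subgroup.center_le_centralizer _).trans hC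
  -- `B ⊓ centralizer B ≤ center X`
  have hBp : IsPGroup p B := IsPGroup.of_card hB
  haveI : Nontrivial B := by
    rw [← Finite.one_lt_card_iff_nontrivial, hB]
    exact Nat.one_lt_pow (by omega) hp.one_lt
  have hcB : Nat.card (Subgroup.center ↥B) = p := by
    have h1 : Nat.card (Subgroup.center ↥B) ∣ p ^ 3 := hB ▸ Subgroup.card_subgroup_dvd_card _
    obtain ⟨k, hk3, hk⟩ := (Nat.dvd_prime_pow hp).mp h1
    have hne : Subgroup.center ↥B ≠ ⊥ := (hBp.bot_lt_center).ne'
    interval_cases k
    · exfalso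
      rw [pow_zero] at hk
      exact hne ((Subgroup.card_le_one_iff_eq_bot _).mp hk.le)
    · rw [hk, pow_one]
    · exfalso
      have h2 := Subgroup.card_eq_card_quotient_mul_card_subgroup (Subgroup.center ↥B)
      rw [hB, hk] at h2
      have h3 : Nat.card (↥B ⧸ Subgroup.center ↥B) = p := by
        have e : p ^ 3 = p * p ^ 2 := by ring
        rw [e] at h2
        exact (Nat.eq_of_mul_eq_mul_right (pow_pos hp.pos 2) h2).symm
      haveI : IsCyclic (↥B ⧸ Subgroup.center ↥B) := isCyclic_of_prime_card h3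
      have h4 := commutative_of_cyclic_center_quotient
        (QuotientGroup.mk' (Subgroup.center ↥B)) (by rw [QuotientGroup.ker_mk'])
        (⟨u, hu⟩ : ↥B) ⟨v, hv⟩
      exact huv (congrArg Subtype.val h4)
    · exfalso
      have h2 : Subgroup.center ↥B = ⊤ := Subgroup.eq_top_of_card_eq _ (by rw [hk, hB])
      have h3 : (⟨u, hu⟩ : ↥B) ∈ Subgroup.center ↥B := by
        rw [h2]
        trivial
      have h4 := Subgroup.mem_center_iff.mp h3 ⟨v, hv⟩
      exact huv (congrArg Subtype.val h4).symm
  have hZsub : (Subgroup.center X).subgroupOf B = Subgroup.center ↥B := by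
    have hle : (Subgroup.center X).subgroupOf B ≤ Subgroup.center ↥B := by
      intro x hx
      rw [Subgroup.mem_subgroupOf] at hx
      rw [Subgroup.mem_center_iff]
      intro g
      exact Subtype.ext (Subgroup.mem_center_iff.mp hx (g : X))
    apply Subgroup.eq_of_le_of_card_ge hle
    have h1 : Nat.card ((Subgroup.center X).subgroupOf B) ∣ p := hcB ▸ Subgroup.card_dvd_of_le hle
    rcases (Nat.dvd_prime hp).mp h1 with h2 | h2
    · exfalso
      have h3 := (Subgroup.card_le_one_iff_eq_bot _).mp h2.le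
      rw [Subgroup.subgroupOf_eq_bot, disjoint_iff, inf_eq_left.mpr hZB] at h3
      exact (hXp.bot_lt_center).ne' h3
    · rw [hcB, h2]
  have hZcard : Nat.card (Subgroup.center X) = p := by
    rw [← hcB, ← hZsub]
    exact (Nat.card_congr (Subgroup.subgroupOfEquivOfLe hZB).toEquiv).symm
  have hBC : ∀ x : X, x ∈ B → x ∈ Subgroup.centralizer (B : Set X) → x ∈ Subgroup.center X := by
    intro x hxB hxC
    have h1 : (⟨x, hxB⟩ : ↥B) ∈ Subgroup.center ↥B := by
      rw [Subgroup.mem_center_iff]
      intro g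
      exact Subtype.ext (Subgroup.mem_centralizer_iff.mp hxC (g : X) g.2)
    rw [← hZsub, Subgroup.mem_subgroupOf] at h1
    exact h1
  -- closure of `u, v` is `B`
  have hgen : Subgroup.closure ({u, v} : Set X) = B := by
    have hle : Subgroup.closure ({u, v} : Set X) ≤ B := by
      rw [Subgroup.closure_le]
      intro x hx
      rcases hx with rfl | rfl
      · exact hu
      · exact hv
    apply Subgroup.eq_of_le_of_card_ge hle
    have h1 : Nat.card ↥(Subgroup.closure ({u, v} : Set X)) ∣ p ^ 3 :=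
      hB ▸ Subgroup.card_dvd_of_le hle
    obtain ⟨k, hk3, hk⟩ := (Nat.dvd_prime_pow hp).mp h1
    by_cases hk2 : k ≤ 2
    · exfalso
      have h2 := comm_of_card_pow hk2 hk
        (⟨u, Subgroup.subset_closure (Set.mem_insert u _)⟩ : ↥(Subgroup.closure ({u, v} : Set X)))
        ⟨v, Subgroup.subset_closure (Set.mem_insert_of_mem u (Set.mem_singleton v))⟩
      exact huv (congrArg Subtype.val h2)
    · have hk3' : k = 3 := by omega
      rw [hB, hk, hk3']
  -- the quotient
  obtain ⟨π, hπ⟩ : ∃ π : X →* X ⧸ Subgroup.center X, π = QuotientGroup.mk' _ := ⟨_, rfl⟩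
  have hπs : Function.Surjective π := by
    rw [hπ]
    exact QuotientGroup.mk'_surjective _
  have hπ1 : ∀ x : X, π x = 1 ↔ x ∈ Subgroup.center X := by
    intro x
    rw [hπ]
    exact QuotientGroup.eq_one_iff x
  have hXb : Nat.card (X ⧸ Subgroup.center X) = p ^ (n - 1) := by
    have h1 := Subgroup.card_eq_card_quotient_mul_card_subgroup (Subgroup.center X)
    rw [hX, hZcard] at h1
    have h2 : p ^ n = p ^ (n - 1) * p := by
      rw [← pow_succ]
      congr 1
      omega
    rw [h2] at h1
    exact (Nat.eq_of_mul_eq_mul_right hp.pos h1).symm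
  have hcomap : ∀ Bb : Subgroup (X ⧸ Subgroup.center X),
      Nat.card ↥(Bb.comap π) = p * Nat.card Bb := by
    intro Bb
    have h1 := (Bb.comap π).card_mul_index
    have h2 := Bb.card_mul_index
    rw [Subgroup.index_comap_of_surjective Bb hπs, hX] at h1
    rw [hXb] at h2
    have h3 : p ^ n = p * p ^ (n - 1) := by
      rw [← pow_succ']
      congr 1
      omega
    rw [h3, ← h2, ← mul_assoc] at h1
    have hidx : 0 < Bb.index := Nat.pos_of_ne_zero Bb.index_ne_zero_of_finite
    exact Nat.eq_of_mul_eq_mul_right hidx h1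
  have hBcomap : (B.map π).comap π = B := by
    rw [hπ, QuotientGroup.comap_map_mk', sup_eq_right.mpr hZB]
  have hBbcard : Nat.card (B.map π) = p ^ 2 := by
    have h1 := hcomap (B.map π)
    rw [hBcomap, hB] at h1
    have e : p ^ 3 = p * p ^ 2 := by ring
    rw [e] at h1
    exact (Nat.eq_of_mul_eq_mul_left hp.pos h1).symm
  -- the centralizer of the image of `B`
  obtain ⟨Cb, hCb⟩ : ∃ Cb : Subgroup (X ⧸ Subgroup.center X),
      Cb = Subgroup.centralizer ((B.map π : Subgroup _) : Set (X ⧸ Subgroup.center X)) :=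
    ⟨_, rfl⟩
  have hCmem : ∀ w ∈ B, ∀ x : X, x ∈ Cb.comap π → w⁻¹ * x⁻¹ * w * x ∈ Subgroup.center X := by
    intro w hw x hx
    have hx' : π x ∈ Cb := hx
    rw [hCb] at hx'
    have h1 : π w * π x = π x * π w :=
      Subgroup.mem_centralizer_iff.mp hx' (π w) (Subgroup.mem_map_of_mem _ hw)
    rw [← hπ1, map_mul, map_mul, map_mul, map_inv, map_inv, mul_assoc, h1]
    group
  obtain ⟨φu, hφu⟩ : ∃ φ : ↥(Cb.comap π) →* ↥(Subgroup.center X),
      φ = commHom (Cb.comap π) (Subgroup.center X) le_rfl u (hCmem u hu) := ⟨_, rfl⟩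
  obtain ⟨φv, hφv⟩ : ∃ φ : ↥(Cb.comap π) →* ↥(Subgroup.center X),
      φ = commHom (Cb.comap π) (Subgroup.center X) le_rfl v (hCmem v hv) := ⟨_, rfl⟩
  have hker : Nat.card (φu.prod φv).ker ∣ p := by
    have h1 : (φu.prod φv).ker.map (Cb.comap π).subtype ≤ Subgroup.center X := by
      rintro _ ⟨x, hx, rfl⟩
      have hx' := MonoidHom.mem_ker.mp hx
      have hxu : φu x = 1 := congrArg Prod.fst hx'
      have hxv : φv x = 1 := congrArg Prod.snd hx'
      have h2 : u⁻¹ * (x : X)⁻¹ * u * x = 1 := by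
        have h3 := congrArg Subtype.val hxu
        rw [hφu, commHom_apply] at h3
        exact h3
      have h2' : v⁻¹ * (x : X)⁻¹ * v * x = 1 := by
        have h3 := congrArg Subtype.val hxv
        rw [hφv, commHom_apply] at h3
        exact h3
      have hcu : u * (x : X) = x * u := by
        have h3 : u * (x : X) = x * u * (u⁻¹ * (x : X)⁻¹ * u * x) := by group
        rw [h3, h2, mul_one]
      have hcv : v * (x : X) = x * v := by
        have h3 : v * (x : X) = x * v * (v⁻¹ * (x : X)⁻¹ * v * x) := by group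
        rw [h3, h2', mul_one]
      have hxC : (x : X) ∈ Subgroup.centralizer (B : Set X) := by
        have h4 : Subgroup.closure ({u, v} : Set X)
            ≤ Subgroup.centralizer ({(x : X)} : Set X) := by
          rw [Subgroup.closure_le]
          intro w hw
          rw [SetLike.mem_coe, Subgroup.mem_centralizer_iff]
          intro h hh
          rw [Set.mem_singleton_iff] at hh
          rw [hh]
          rcases hw with rfl | rfl
          · exact hcu.symm
          · exact hcv.symm
        rw [hgen] at h4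
        rw [Subgroup.mem_centralizer_iff]
        intro w hw
        exact (Subgroup.mem_centralizer_iff.mp (h4 hw) (x : X) rfl).symm
      exact hBC _ (hC hxC) hxC
    have h4 := Subgroup.card_dvd_of_le h1
    rwa [Subgroup.card_map_of_injective (Subgroup.subtype_injective _), hZcard] at h4
  have hCcard : Nat.card ↥(Cb.comap π) ∣ p * (p * p) := by
    have h1 := (φu.prod φv).ker.card_mul_index
    rw [Subgroup.index_ker] at h1
    rw [← h1]
    apply Nat.mul_dvd_mul hker
    have h2 : Nat.card ↥(φu.prod φv).range ∣ Nat.card (↥(Subgroup.center X) × ↥(Subgroup.center X)) :=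
      Subgroup.card_subgroup_dvd_card _
    rwa [Nat.card_prod, hZcard] at h2
  have hCb2 : Nat.card Cb ∣ p ^ 2 := by
    rw [hcomap Cb] at hCcard
    have e : p * (p * p) = p * p ^ 2 := by ring
    rw [e] at hCcard
    exact Nat.dvd_of_mul_dvd_mul_left hp.pos hCcard
  have hBbab := IsPGroup.commutative_of_card_eq_prime_sq hBbcard
  have hle : B.map π ≤ Cb := by
    intro x hx
    rw [hCb, Subgroup.mem_centralizer_iff]
    intro h hh
    exact congrArg Subtype.val (hBbab ⟨h, hh⟩ ⟨x, hx⟩)
  have hself : Subgroup.centralizer ((B.map π : Subgroup _) : Set (X ⧸ Subgroup.center X))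
      = B.map π := by
    rw [← hCb]
    symm
    apply Subgroup.eq_of_le_of_card_ge hle
    rw [hBbcard]
    exact Nat.le_of_dvd (pow_pos hp.pos 2) hCb2
  have hIH := Cfsg.Agent.S0112.maxclass_aux (n - 1) (X ⧸ Subgroup.center X) hXb (B.map π)
    hBbcard hself
  rw [hIH]
  omega

/-- Let X be a finite p-group of order p^n containing a non-abelian subgroup B of order p³ with C_X(B) ≤ B. Then X has nilpotency class n − 1 (maximal class). -/
theorem result {X : Type*} [Group X] [Finite X] {p : ℕ} [Fact p.Prime] (n : ℕ) (hX : Nat.card X = p ^ n)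
    (B : Subgroup X) (hB : Nat.card B = p ^ 3) (hBna : ¬ IsMulCommutative B) (hC : Subgroup.centralizer (B : Set X) ≤ B) :
    Group.nilpotencyClass X = n - 1 := by
  exact maxclass_of_nonabelian_cube n X hX B hB hBna hC

end Cfsg.Agent.S4143
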