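import Mathlib
import Cfsg.Statements.S4154
import Cfsg.Agent.H2.LangMap

set_option autoImplicit false
open Cfsg

namespace Cfsg.Agent.S4154

open Cfsg.Agent.H2

theorem result {G : Type*} [Group G] [Finite G] (α : MulAut G)
    (hccp : ∀ x : G, ∃ c g : G, α c = c ∧ x = c * (g⁻¹ * α g))
    (N : Subgroup G) [N.Normal] (hN : ∀ n ∈ N, α n ∈ N) :
    (∀ x : G, ∃ c g : G, c⁻¹ * α c ∈ N ∧ x⁻¹ * (c * (g⁻¹ * α g)) ∈ N) ∧
    (∀ x : G, x⁻¹ * α x ∈ N → ∃ c : G, α c = c ∧ c⁻¹ * x ∈ N) := by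
  constructor
  · intro x
    obtain ⟨c, g, hc, hx⟩ := hccp x
    refine ⟨c, g, ?_, ?_⟩
    · rw [hc, inv_mul_cancel]; exact N.one_mem
    · rw [← hx, inv_mul_cancel]; exact N.one_mem
  · have hle : N ≤ N.comap α.toMonoidHom := fun n hn => hN n hn
    set β : G ⧸ N →* G ⧸ N := QuotientGroup.map N N α.toMonoidHom hle with hβ
    have hβmk : ∀ g : G, β (QuotientGroup.mk g) = QuotientGroup.mk (α g) := fun g => by
      rw [hβ]; rfl
    set Cbar := fixedSubgroup β with hCbar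
    set C := fixedSubgroup α.toMonoidHom with hC
    set πC := C.map (QuotientGroup.mk' N) with hπC
    have hle2 : πC ≤ Cbar := by
      rintro _ ⟨c, hc, rfl⟩
      rw [hCbar, mem_fixedSubgroup]
      have hc' : α c = c := hc
      show β (QuotientGroup.mk c) = QuotientGroup.mk c
      rw [hβmk, hc']
    -- surjection πC × T̄ → Q
    let T := Set.range (fun q : G ⧸ N => q⁻¹ * β q)
    have hsurj : Function.Surjective (fun ab : πC × T => (ab.1 : G ⧸ N) * (ab.2 : G ⧸ N)) := by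
      intro q
      obtain ⟨x, rfl⟩ := QuotientGroup.mk_surjective q
      obtain ⟨c, g, hc, hx⟩ := hccp x
      refine ⟨⟨⟨QuotientGroup.mk c, ⟨c, hc, rfl⟩⟩, ⟨(QuotientGroup.mk g)⁻¹ * β (QuotientGroup.mk g), ⟨_, rfl⟩⟩⟩, ?_⟩
      show (QuotientGroup.mk c : G ⧸ N) * ((QuotientGroup.mk g)⁻¹ * β (QuotientGroup.mk g)) = QuotientGroup.mk x
      rw [hβmk, hx]
      simp
    have h1 : Nat.card (G ⧸ N) ≤ Nat.card πC * Nat.card T := by
      have := Nat.card_le_card_of_surjective _ hsurj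
      rwa [Nat.card_prod] at this
    have h2 : Nat.card T * Nat.card Cbar = Nat.card (G ⧸ N) := card_range_lang_mul_card_fixed β
    have hTpos : 0 < Nat.card T := by
      haveI : Nonempty T := ⟨⟨_, ⟨1, rfl⟩⟩⟩
      exact Nat.card_pos
    have h3 : Nat.card Cbar ≤ Nat.card πC := by
      have : Nat.card T * Nat.card Cbar ≤ Nat.card T * Nat.card πC := by
        rw [h2, mul_comm]; exact h1
      exact Nat.le_of_mul_le_mul_left this hTpos
    have heq : πC = Cbar := Subgroup.eq_of_le_of_card_ge hle2 h3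
    intro x hx
    have hxC : (QuotientGroup.mk x : G ⧸ N) ∈ Cbar := by
      rw [hCbar, mem_fixedSubgroup, hβmk]
      have : ((x⁻¹ * α x : G) : G ⧸ N) = 1 := (QuotientGroup.eq_one_iff _).2 hx
      rw [QuotientGroup.mk_mul, QuotientGroup.mk_inv] at this
      exact (inv_mul_eq_one.1 this).symm
    rw [← heq] at hxC
    obtain ⟨c, hc, hcx⟩ := hxC
    refine ⟨c, hc, ?_⟩
    exact QuotientGroup.eq.1 hcx

end Cfsg.Agent.S4154
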